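import Mathlib
import Groth.Prelude.Def_EtRam
import Groth.Prelude.Def_CAlg
import Groth.Agent.Lib.InsepSol1_helper8
import Groth.Agent.Lib.InsepSol5_helper8
import Groth.Agent.Lib.InsepSol6_helper8
import Groth.Agent.Lib.InsepSol9_helper8
import Groth.Agent.Lib.InsepSol10_helper8
import Groth.Agent.Lib.N2QuasiFinite_helper3
import Groth.Agent.Lib.Japanese_helper9

/-!
# Purely inseparable degree-p step for solutions: the main theorem (helper8)
-/

set_option autoImplicit false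
universe u

namespace Groth.Agent.Lib.InsepSolH8

open IsLocalRing

section main

variable (p : ℕ) [hp : Fact p.Prime] (A B K L : Type u)
  [CommRing A] [IsDomain A] [IsDiscreteValuationRing A] [CommRing B] [IsDomain B]
  [IsDiscreteValuationRing B] [Algebra A B] [IsLocalHom (algebraMap A B)]
  [Field K] [Field L] [Algebra A K] [IsFractionRing A K] [Algebra B L] [IsFractionRing B L]
  [Algebra K L] [Algebra A L] [IsScalarTower A K L] [IsScalarTower A B L] [CharP K p]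
  [Algebra.IsGeometricallyReduced K L]
  (K₁ K₂ : Type u) [Field K₁] [Field K₂] [Algebra K K₁] [Algebra K K₂] [Algebra K₁ K₂]
  [IsScalarTower K K₁ K₂] [FiniteDimensional K K₁] [FiniteDimensional K K₂]

omit [IsDomain A] [IsDiscreteValuationRing A] [IsLocalHom (algebraMap A B)] [IsFractionRing A K]
  [IsDomain B] [IsDiscreteValuationRing B] [IsFractionRing B L] hp [CharP K p]
  [Algebra.IsGeometricallyReduced K L] in
theorem algebraMap_tower {Λ : Type u} [Field Λ] [Algebra K Λ] [Algebra L Λ]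
    [IsScalarTower K L Λ] (a : A) :
    algebraMap K Λ (algebraMap A K a) = algebraMap L Λ (algebraMap B L (algebraMap A B a)) := by
  rw [← IsScalarTower.algebraMap_apply A B L, IsScalarTower.algebraMap_apply A K L,
    ← IsScalarTower.algebraMap_apply K L Λ]

set_option maxHeartbeats 1600000 in
theorem exists_uniform_bound (hB : CAlg.IsNagata B) (hdeg : Module.finrank K₁ K₂ = p)
    (z : K₂) (g : K₁) (hzg : z ^ p = algebraMap K₁ K₂ g)
    (hz : z ∉ Set.range (algebraMap K₁ K₂)) (ϖA : A) (hϖA : Irreducible ϖA)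
    {Λ : Type u} [Field Λ] [Algebra K Λ] [Algebra L Λ] [IsScalarTower K L Λ]
    [Algebra.IsAlgebraic L Λ] :
    ∃ c : ℕ, ∀ (σ : K₂ →ₐ[K] Λ) (W : ValuationSubring Λ),
      EtRam.Dominates B ((algebraMap L Λ).comp (algebraMap B L)) W →
      ∀ a : ℕ → Λ, (∀ i, a i ∈ (IntermediateField.adjoin L
        (Set.range (σ.comp (IsScalarTower.toAlgHom K K₁ K₂)))).toSubfield) →
        psum p a (σ z) ∈ W → ∀ i < p, (algebraMap K Λ (algebraMap A K ϖA)) ^ c * a i ∈ W := by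
  classical
  letI algBΛ : Algebra B Λ := ((algebraMap L Λ).comp (algebraMap B L)).toAlgebra
  haveI : IsScalarTower B L Λ := IsScalarTower.of_algebraMap_eq (fun _ => rfl)
  have hN : ∀ (M' : Type u) [Field M'] [Algebra B M'] [Algebra L M'] [IsScalarTower B L M'],
      FiniteDimensional L M' → Module.Finite B (integralClosure B M') := by
    haveI : (⊥ : Ideal B).IsPrime := Ideal.isPrime_bot
    have hN2 : CAlg.IsN2 B :=
      Groth.Agent.Lib.N2QuasiFiniteH3.isN2_of_ringEquiv (RingEquiv.quotientBot B) (hB.2 ⊥)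
    rw [Groth.Agent.Lib.Japanese.isN2_iff_isN2'] at hN2
    intro M' _ _ _ _ hfin
    exact hN2 L M' hfin
  obtain ⟨ϖB, hϖB⟩ := IsDiscreteValuationRing.exists_irreducible B
  have hb := fun σ : K₂ →ₐ[K] Λ => exists_bound p B K L K₁ K₂ hN ϖB hϖB hdeg z g hzg hz σ
  choose cσ hcσ using hb
  obtain ⟨c₀, hc₀⟩ : ∃ c₀ : ℕ, c₀ = Finset.univ.sup cσ := ⟨_, rfl⟩
  have hle : ∀ σ, cσ σ ≤ c₀ := fun σ => hc₀ ▸ Finset.le_sup (Finset.mem_univ σ)
  -- `ϖA` is a multiple of `ϖB`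
  have hmem : algebraMap A B ϖA ∈ maximalIdeal B := by
    rw [mem_maximalIdeal, mem_nonunits_iff]
    intro hu
    exact hϖA.not_isUnit (isUnit_of_map_unit (algebraMap A B) ϖA hu)
  rw [hϖB.maximalIdeal_eq, Ideal.mem_span_singleton'] at hmem
  obtain ⟨r, hr⟩ := hmem
  refine ⟨c₀, fun σ W hW a ha hps i hi => ?_⟩
  have h1 := hcσ σ W hW.1 hW.2 a ha hps i hi
  have h2 : algebraMap K Λ (algebraMap A K ϖA) = algebraMap B Λ (r * ϖB) := by
    rw [hr, algebraMap_tower A B K L]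
    rfl
  have h3 : (algebraMap K Λ (algebraMap A K ϖA)) ^ c₀ * a i =
      algebraMap B Λ (r ^ c₀ * ϖB ^ (c₀ - cσ σ)) * (algebraMap B Λ ϖB ^ cσ σ * a i) := by
    have e1 : algebraMap B Λ ϖB ^ c₀ =
        algebraMap B Λ ϖB ^ (c₀ - cσ σ) * algebraMap B Λ ϖB ^ cσ σ := by
      rw [← pow_add]
      congr 1
      have := hle σ
      omega
    rw [h2, map_mul, mul_pow, e1, map_mul, map_pow, map_pow]
    ring
  rw [h3]
  exact W.mul_mem _ _ (hW.1 _) h1

end main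

set_option maxHeartbeats 3200000 in
/-- The purely inseparable degree `p` step: a solution `K₂ ⊇ K₁` purely inseparable of degree `p`
over `K₁` yields a finite separable solution over `K₁`. -/
theorem insep_step (p : ℕ) [hp : Fact p.Prime] (A B K L : Type u)
    [CommRing A] [IsDomain A] [IsDiscreteValuationRing A] [CommRing B] [IsDomain B]
    [IsDiscreteValuationRing B] [Algebra A B] [IsLocalHom (algebraMap A B)]
    [Field K] [Field L] [Algebra A K] [IsFractionRing A K] [Algebra B L] [IsFractionRing B L]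
    [Algebra K L] [Algebra A L] [IsScalarTower A K L] [IsScalarTower A B L] [CharP K p]
    [Algebra.IsGeometricallyReduced K L]
    (K₁ K₂ : Type u) [Field K₁] [Field K₂] [Algebra K K₁] [Algebra K K₂] [Algebra K₁ K₂]
    [IsScalarTower K K₁ K₂] [FiniteDimensional K K₁] [FiniteDimensional K K₂]
    (hB : CAlg.IsNagata B) [IsPurelyInseparable K₁ K₂]
    (hdeg : Module.finrank K₁ K₂ = p) (hsol : EtRam.IsSolution B K L K₂) :
    ∃ (K₃ : Type u) (_ : Field K₃) (_ : Algebra K K₃) (_ : Algebra K₁ K₃)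
      (_ : IsScalarTower K K₁ K₃),
      FiniteDimensional K₁ K₃ ∧ Algebra.IsSeparable K₁ K₃ ∧ EtRam.IsSolution B K L K₃ := by
  classical
  have hp1 : 1 < p := hp.out.one_lt
  obtain ⟨z, g, q, hz, hzg, hq, hqz⟩ := exists_good_generator A K K₁ K₂ p hp.out hdeg
  obtain ⟨ϖA, hϖA⟩ := IsDiscreteValuationRing.exists_irreducible A
  obtain ⟨c, hc⟩ := exists_uniform_bound p A B K L K₁ K₂ hB hdeg z g hzg hz ϖA hϖA
    (Λ := AlgebraicClosure L)
  obtain ⟨π₁, hπ₁⟩ : ∃ π₁ : K₁, π₁ = algebraMap K K₁ (algebraMap A K ϖA) := ⟨_, rfl⟩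
  have hπ₁0 : π₁ ≠ 0 := by
    rw [hπ₁, Ne, map_eq_zero, map_eq_zero_iff _ (IsFractionRing.injective A K)]
    exact hϖA.ne_zero
  haveI : CharP K₁ p := charP_of_injective_algebraMap (algebraMap K K₁).injective p
  have hzrep := rep_of_prime_degree p hp.out hdeg z g hzg hz
  obtain ⟨K₃, i1, i2, i3, i4, hfd, hsep, ζ₀, hζ₀, hζrep⟩ :=
    exists_K3 (K := K) p (π₁ ^ (p * (c + 2))) g (pow_ne_zero _ hπ₁0)
  refine ⟨K₃, i1, i2, i3, i4, hfd, hsep, ?_⟩
  intro M₃ _ _ _ _ _ _ hgen₃ W₃ hdom₃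
  haveI : FiniteDimensional K K₃ := Module.Finite.trans K₁ K₃
  haveI : FiniteDimensional L M₃ := GRedH8.finiteDimensional_of_adjoin K L K₃ M₃ hgen₃
  haveI : Algebra.IsAlgebraic L M₃ := Algebra.IsAlgebraic.of_finite L M₃
  obtain ⟨j⟩ : Nonempty (M₃ →ₐ[L] AlgebraicClosure L) := ⟨IsAlgClosed.lift⟩
  obtain ⟨m₃, hm₃⟩ : ∃ m₃ : M₃ →+* AlgebraicClosure L, m₃ = j.toRingHom := ⟨_, rfl⟩
  have hm₃a : ∀ y, m₃ y = j y := fun y => by rw [hm₃]; rfl
  obtain ⟨W, hW⟩ := exists_comap_eq m₃ W₃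
  subst hW
  -- domination in `Λ`
  have hdomΛ : EtRam.Dominates B
      ((algebraMap L (AlgebraicClosure L)).comp (algebraMap B L)) W := by
    refine ⟨fun b => ?_, fun b hb => ?_⟩
    · have h1 := hdom₃.1 b
      rw [ValuationSubring.mem_comap] at h1
      have h2 : m₃ (((algebraMap L M₃).comp (algebraMap B L)) b) =
          ((algebraMap L (AlgebraicClosure L)).comp (algebraMap B L)) b := by
        rw [hm₃a]
        exact j.commutes _
      rw [← h2]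
      exact h1
    · have h1 := hdom₃.2 b hb
      rw [DvrExtH8.comap_valuation_lt_one_iff] at h1
      have h2 : m₃ (((algebraMap L M₃).comp (algebraMap B L)) b) =
          ((algebraMap L (AlgebraicClosure L)).comp (algebraMap B L)) b := by
        rw [hm₃a]
        exact j.commutes _
      rw [← h2]
      exact h1
  -- embeddings
  obtain ⟨σ₃, hσ₃⟩ : ∃ σ₃ : K₃ →ₐ[K] AlgebraicClosure L,
    σ₃ = (j.restrictScalars K).comp (IsScalarTower.toAlgHom K K₃ M₃) := ⟨_, rfl⟩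
  have hσ₃a : ∀ k, σ₃ k = m₃ (algebraMap K₃ M₃ k) := fun k => by rw [hσ₃, hm₃a]; rfl
  obtain ⟨ι₁, hι₁⟩ : ∃ ι₁ : K₁ →ₐ[K] AlgebraicClosure L,
    ι₁ = σ₃.comp (IsScalarTower.toAlgHom K K₁ K₃) := ⟨_, rfl⟩
  have hι₁a : ∀ k, ι₁ k = m₃ (algebraMap K₃ M₃ (algebraMap K₁ K₃ k)) := fun k => by
    rw [hι₁, ← hσ₃a]; rfl
  haveI : FiniteDimensional K₁ K₂ := Module.finite_of_finrank_pos (by rw [hdeg]; exact hp.out.pos)
  haveI : Algebra.IsAlgebraic K₁ K₂ := Algebra.IsAlgebraic.of_finite K₁ K₂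
  obtain ⟨σ, hσ⟩ := exists_extension_embedding (K₂ := K₂) ι₁
  have hσι : σ.comp (IsScalarTower.toAlgHom K K₁ K₂) = ι₁ := AlgHom.ext hσ
  obtain ⟨M₂, _, f₂, m₂, hm₂, hM₂mem, hwu, hgr⟩ :=
    solution_at_embedding B K L K₂ hsol σ W hdomΛ
  -- the uniformizer
  obtain ⟨πΛ, hπΛ⟩ : ∃ πΛ : AlgebraicClosure L,
    πΛ = algebraMap K (AlgebraicClosure L) (algebraMap A K ϖA) := ⟨_, rfl⟩
  have hπ₁Λ : m₃ (algebraMap K₃ M₃ (algebraMap K₁ K₃ π₁)) = πΛ := by
    rw [← hι₁a, hπ₁, hπΛ]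
    exact ι₁.commutes _
  have hAW : ∀ a : A, algebraMap K (AlgebraicClosure L) (algebraMap A K a) ∈ W := fun a => by
    rw [algebraMap_tower A B K L]
    exact hdomΛ.1 _
  have hπ : W.valuation (m₃ (algebraMap K₃ M₃ (algebraMap K₁ K₃ π₁))) < 1 := by
    rw [hπ₁Λ, hπΛ, algebraMap_tower A B K L]
    apply hdomΛ.2
    rw [mem_maximalIdeal, mem_nonunits_iff]
    intro hu
    exact hϖA.not_isUnit (isUnit_of_map_unit (algebraMap A B) ϖA hu)
  have hπΛW : πΛ ∈ W := by rw [hπΛ]; exact hAW _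
  -- integrality
  have hzW : m₂ (f₂ z) ∈ W := by
    rw [hm₂]
    refine mem_of_monic_root
      (σ.toRingHom.comp ((algebraMap K K₂).comp (algebraMap A K))) W ?_ q hq (σ z) ?_
    · intro a
      show σ (algebraMap K K₂ (algebraMap A K a)) ∈ W
      rw [σ.commutes]
      exact hAW a
    · have := congrArg σ hqz
      rw [map_zero] at this
      rw [← this]
      exact (Polynomial.hom_eval₂ q _ σ.toRingHom z).symm
  have hgW : ι₁ g ∈ W := by
    rw [← hσ, ← hzg, map_pow, ← hm₂]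
    exact pow_mem hzW _
  have hζW : m₃ (algebraMap K₃ M₃ ζ₀) ∈ W := by
    apply mem_of_pow_eq W p hp1 _ (πΛ ^ (p * (c + 2))) (ι₁ g) (pow_mem hπΛW _) hgW
    rw [← map_pow, ← map_pow, hζ₀, map_add, map_add, map_mul, map_mul, ← hι₁a, ← hι₁a, map_pow,
      hι₁a π₁, hπ₁Λ]
  -- the subfield M₁
  obtain ⟨M₁, hM₁def⟩ : ∃ M₁ : Subfield (AlgebraicClosure L),
    M₁ = (IntermediateField.adjoin L (Set.range ι₁)).toSubfield := ⟨_, rfl⟩
  have hM₁ : ∀ k : K₁, m₃ (algebraMap K₃ M₃ (algebraMap K₁ K₃ k)) ∈ M₁ := fun k => by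
    rw [← hι₁a, hM₁def]
    exact IntermediateField.subset_adjoin L _ ⟨k, rfl⟩
  have hb : ∀ a : ℕ → AlgebraicClosure L, (∀ i, a i ∈ M₁) → psum p a (m₂ (f₂ z)) ∈ W →
      ∀ i < p, m₃ (algebraMap K₃ M₃ (algebraMap K₁ K₃ π₁)) ^ c * a i ∈ W := by
    intro a ha hps i hi
    rw [hπ₁Λ, hπΛ]
    rw [hm₂] at hps
    refine hc σ W hdomΛ a ?_ hps i hi
    rw [hσι, ← hM₁def]
    exact ha
  have hmemz := fun y => mem_adjoin_iff_psum (L := L) p hp1 σ z 0 g
    (by rw [map_zero, zero_mul, zero_add, hzg]) hzrep y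
  rw [hσι, ← hM₁def] at hmemz
  have hσ₃ι : σ₃.comp (IsScalarTower.toAlgHom K K₁ K₃) = ι₁ := hι₁.symm
  have hmemζ := fun y => mem_adjoin_iff_psum (L := L) p hp1 σ₃ ζ₀ (π₁ ^ (p * (c + 2))) g
    hζ₀ hζrep y
  rw [hσ₃ι, ← hM₁def] at hmemζ
  have hrange := fun x => mem_adjoin_iff_range (K := K) hgen₃ j x
  rw [← hσ₃] at hrange
  have hM₂ : ∀ x : M₂, ∃ a : ℕ → AlgebraicClosure L, (∀ i, a i ∈ M₁) ∧
      m₂ x = psum p a (m₂ (f₂ z)) := by
    intro x
    rw [hm₂]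
    exact (hmemz _).mp ((hM₂mem _).mpr ⟨x, rfl⟩)
  have hM₂' : ∀ a : ℕ → AlgebraicClosure L, (∀ i, a i ∈ M₁) →
      ∃ x : M₂, m₂ x = psum p a (m₂ (f₂ z)) := by
    intro a ha
    rw [hm₂]
    exact (hM₂mem _).mp ((hmemz _).mpr ⟨a, ha, rfl⟩)
  have hM₃ : ∀ y : M₃, ∃ a : ℕ → AlgebraicClosure L, (∀ i, a i ∈ M₁) ∧
      m₃ y = psum p a (m₃ (algebraMap K₃ M₃ ζ₀)) := by
    intro y
    rw [← hσ₃a]
    exact (hmemζ _).mp ((hrange _).mpr ⟨y, (hm₃a y).symm⟩)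
  have hM₃' : ∀ a : ℕ → AlgebraicClosure L, (∀ i, a i ∈ M₁) →
      ∃ y : M₃, m₃ y = psum p a (m₃ (algebraMap K₃ M₃ ζ₀)) := by
    intro a ha
    rw [← hσ₃a]
    obtain ⟨y, hy⟩ := (hrange _).mp ((hmemζ _).mpr ⟨a, ha, rfl⟩)
    exact ⟨y, by rw [hm₃a]; exact hy⟩
  have hcompat : ∀ k : K₁, m₂ (f₂ (algebraMap K₁ K₂ k)) =
      m₃ (algebraMap K₃ M₃ (algebraMap K₁ K₃ k)) := fun k => by
    rw [hm₂, hσ, hι₁a]
  haveI : CharP (AlgebraicClosure L) p :=
    charP_of_injective_algebraMap (algebraMap K (AlgebraicClosure L)).injective p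
  obtain ⟨hV23, hV32, hW23, hW32⟩ := approx_all p W f₂ m₂ (algebraMap K₃ M₃) m₃ hcompat z ζ₀ π₁ g c
    hzg hζ₀ hzrep hζrep hπ₁0 hπ hzW hζW M₁ hM₁ hb hM₂ hM₂' hM₃ hM₃'
  have hπ₃0 : algebraMap K₁ K₃ π₁ ≠ 0 := (map_ne_zero _).mpr hπ₁0
  exact ⟨transfer_wu f₂ m₂ (algebraMap K₃ M₃) m₃ W (algebraMap K₁ K₃ π₁) hπ hπ₃0 hV23 hW23 hW32 hwu,
    transfer_gr f₂ m₂ (algebraMap K₃ M₃) m₃ W _ hπ hV23 hV32 hW23 hW32 hgr⟩


end Groth.Agent.Lib.InsepSolH8
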