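import Mathlib
import Groth.Prelude.Def_EtRam
import Groth.Agent.Lib.InsepSol4_helper8
import Groth.Agent.Lib.InsepSol7_helper8

/-!
# Descending a purely inseparable tower: the top degree-p step (helper8)
-/

set_option autoImplicit false
universe u

namespace Groth.Agent.Lib.InsepSolH8

open Polynomial IntermediateField

set_option maxHeartbeats 1600000 in
/-- A finite inseparable extension in characteristic `p` has an intermediate field over which it is
purely inseparable of degree `p`. -/
theorem exists_top_step {K K₂ : Type u} [Field K] [Field K₂] [Algebra K K₂]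
    [FiniteDimensional K K₂] (p : ℕ) [hp : Fact p.Prime] [CharP K p]
    (hns : ¬ Algebra.IsSeparable K K₂) :
    ∃ E : IntermediateField K K₂, IsPurelyInseparable E K₂ ∧ Module.finrank E K₂ = p := by
  classical
  haveI : CharP K₂ p := charP_of_injective_algebraMap (algebraMap K K₂).injective p
  obtain ⟨S, hSdef⟩ : ∃ S : IntermediateField K K₂, S = separableClosure K K₂ := ⟨_, rfl⟩
  have hS : S ≠ ⊤ := by
    rw [hSdef, Ne, separableClosure.eq_top_iff]
    exact hns
  haveI hSpi : IsPurelyInseparable S K₂ := by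
    rw [hSdef]
    exact separableClosure.isPurelyInseparable K K₂
  -- a maximal proper intermediate field above `S`
  obtain ⟨E, hSE, hE, hmax⟩ : ∃ E : IntermediateField K K₂, S ≤ E ∧ E ≠ ⊤ ∧
      ∀ E' : IntermediateField K K₂, E ≤ E' → E' ≠ ⊤ → E' = E := by
    let P : ℕ → Prop := fun n => ∃ E : IntermediateField K K₂, S ≤ E ∧ E ≠ ⊤ ∧
      Module.finrank K E = n
    have hP0 : P (Module.finrank K S) := ⟨S, le_refl _, hS, rfl⟩
    have hbd : Module.finrank K S ≤ Module.finrank K K₂ := (S.toSubalgebra.toSubmodule).finrank_le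
    obtain ⟨E, hSE, hE, hEn⟩ := Nat.findGreatest_spec (P := P) hbd hP0
    refine ⟨E, hSE, hE, fun E' hEE' hE' => ?_⟩
    have h1 : Module.finrank K E' ≤ Nat.findGreatest P (Module.finrank K K₂) :=
      Nat.le_findGreatest (E'.toSubalgebra.toSubmodule).finrank_le
        ⟨E', hSE.trans hEE', hE', rfl⟩
    rw [← hEn] at h1
    exact (IntermediateField.eq_of_le_of_finrank_le hEE' h1).symm
  haveI : ExpChar E p := expChar_of_injective_algebraMap (algebraMap K E).injective p
  have hpi : IsPurelyInseparable E K₂ := by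
    rw [isPurelyInseparable_iff_pow_mem E p]
    intro x
    haveI : ExpChar S p := expChar_of_injective_algebraMap (algebraMap K S).injective p
    obtain ⟨n, s, hs⟩ := (isPurelyInseparable_iff_pow_mem S p).mp hSpi x
    exact ⟨n, ⟨⟨(s : K₂), hSE s.2⟩, hs⟩⟩
  refine ⟨E, hpi, ?_⟩
  -- an element outside `E`
  obtain ⟨z, hz⟩ : ∃ z : K₂, z ∉ E := by
    by_contra hall
    push Not at hall
    exact hE (eq_top_iff.mpr fun x _ => hall x)
  have hex : ∃ n : ℕ, z ^ p ^ n ∈ E := by
    obtain ⟨n, e, he⟩ := (isPurelyInseparable_iff_pow_mem E p).mp hpi z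
    exact ⟨n, he ▸ e.2⟩
  obtain ⟨n, hn⟩ : ∃ n, n = Nat.find hex := ⟨_, rfl⟩
  have hnspec : z ^ p ^ n ∈ E := hn ▸ Nat.find_spec hex
  have hn0 : n ≠ 0 := by
    intro h0
    rw [h0, pow_zero, pow_one] at hnspec
    exact hz hnspec
  obtain ⟨z', hz'⟩ : ∃ z' : K₂, z' = z ^ p ^ (n - 1) := ⟨_, rfl⟩
  have hz'E : z' ∉ E := by
    rw [hz']
    exact Nat.find_min hex (by omega : n - 1 < Nat.find hex)
  have hz'p : z' ^ p ∈ E := by
    rw [hz', ← pow_mul, ← pow_succ]
    have : n - 1 + 1 = n := by omega
    rw [this]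
    exact hnspec
  -- `E(z') = K₂`
  obtain ⟨E', hE'def⟩ : ∃ E' : IntermediateField K K₂,
    E' = IntermediateField.adjoin K ((E : Set K₂) ∪ {z'}) := ⟨_, rfl⟩
  have hEE' : E ≤ E' := by
    intro x hx
    rw [hE'def]
    exact IntermediateField.subset_adjoin K _ (Or.inl hx)
  have hz'E' : z' ∈ E' := by
    rw [hE'def]
    exact IntermediateField.subset_adjoin K _ (Or.inr rfl)
  have hE'top : E' = ⊤ := by
    by_contra hne
    have := hmax E' hEE' hne
    exact hz'E (this ▸ hz'E')
  have hp1 : 1 < p := hp.out.one_lt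
  obtain ⟨R, hR⟩ := exists_subring_psum E.toSubfield p hp1 z' 0 (z' ^ p) E.zero_mem hz'p
    (by rw [zero_mul, zero_add])
  have hER : ∀ y ∈ E, y ∈ R := fun y hy =>
    (hR y).mpr ⟨fun i => if i = 0 then y else 0,
      fun i => by dsimp only; split_ifs; exacts [hy, E.zero_mem], by
        unfold psum
        rw [Finset.sum_eq_single 0]
        · simp
        · intro i _ hi
          simp only [if_neg hi, zero_mul]
        · intro h
          exact absurd (Finset.mem_range.mpr hp.out.pos) h⟩
  have hz'R : z' ∈ R :=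
    (hR z').mpr ⟨fun i => if i = 1 then 1 else 0,
      fun i => by dsimp only; split_ifs; exacts [E.one_mem, E.zero_mem], by
        unfold psum
        rw [Finset.sum_eq_single 1]
        · simp
        · intro i _ hi
          simp only [if_neg hi, zero_mul]
        · intro h
          exact absurd (Finset.mem_range.mpr hp1) h⟩
  have hall : ∀ y : K₂, y ∈ R := by
    intro y
    have hy : y ∈ E' := by rw [hE'top]; exact IntermediateField.mem_top
    rw [hE'def] at hy
    have hy' : y ∈ Algebra.adjoin K ((E : Set K₂) ∪ {z'}) := by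
      rw [← IntermediateField.adjoin_toSubalgebra]
      exact hy
    refine Algebra.adjoin_induction (p := fun y _ => y ∈ R) ?_ ?_ ?_ ?_ hy'
    · rintro x (hx | hx)
      · exact hER x hx
      · rw [Set.mem_singleton_iff.mp hx]; exact hz'R
    · intro k
      exact hER _ (E.algebraMap_mem k)
    · intro x y _ _ hx hy
      exact R.add_mem hx hy
    · intro x y _ _ hx hy
      exact R.mul_mem hx hy
  -- the minimal polynomial of `z'` over `E`
  obtain ⟨g₁, hg₁⟩ : ∃ g₁ : E, (g₁ : K₂) = z' ^ p := ⟨⟨z' ^ p, hz'p⟩, rfl⟩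
  have hirr : Irreducible (X ^ p - C g₁ : E[X]) := by
    apply X_pow_sub_C_irreducible_of_prime hp.out
    intro b hb
    have h1 : (b : K₂) ^ p = z' ^ p := by
      rw [← hg₁, ← hb]
      rfl
    have h2 : ((b : K₂) - z') ^ p = 0 := by rw [sub_pow_char, h1, sub_self]
    have h3 : (b : K₂) = z' := sub_eq_zero.mp (pow_eq_zero_iff hp.out.ne_zero |>.mp h2)
    exact hz'E (h3 ▸ b.2)
  have hmonic : (X ^ p - C g₁ : E[X]).Monic := monic_X_pow_sub_C g₁ hp.out.ne_zero
  have hroot : aeval z' (X ^ p - C g₁ : E[X]) = 0 := by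
    rw [map_sub, map_pow, aeval_X, aeval_C, sub_eq_zero]
    exact hg₁.symm
  have hmin : (X ^ p - C g₁ : E[X]) = minpoly E z' :=
    minpoly.eq_of_irreducible_of_monic hirr hroot hmonic
  have htop : IntermediateField.adjoin E {z'} = ⊤ := by
    rw [eq_top_iff]
    intro y _
    obtain ⟨a, ha, rfl⟩ := (hR y).mp (hall y)
    unfold psum
    refine sum_mem (fun i _ => mul_mem ?_ (pow_mem (IntermediateField.mem_adjoin_simple_self E z') _))
    exact (IntermediateField.adjoin E {z'}).algebraMap_mem ⟨a i, ha i⟩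
  rw [← (Field.primitive_element_iff_minpoly_natDegree_eq E z').mp htop, ← hmin,
    natDegree_X_pow_sub_C]

end Groth.Agent.Lib.InsepSolH8
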