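import Mathlib

/-!
# Integral birational ring maps onto normal rings (helper7)

An integral ring map `A → B` with `B` reduced, `A` normal (all localizations at primes are
integrally closed domains), inducing a bijection on minimal primes with isomorphic local rings
there, is bijective.
-/

set_option autoImplicit false
universe u

namespace Groth.Agent.Lib.IntBirat1H7

open Polynomial

section Algebra

variable {A B : Type u} [CommRing A] [CommRing B]

theorem exists_isMin_le (x : PrimeSpectrum A) : ∃ z : PrimeSpectrum A, IsMin z ∧ z ≤ x := by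
  obtain ⟨q, hq, hqx⟩ := Ideal.exists_minimalPrimes_le (I := ⊥) (J := x.asIdeal) bot_le
  haveI : q.IsPrime := hq.1.1
  refine ⟨⟨q, hq.1.1⟩, ?_, hqx⟩
  intro y hy
  exact hq.2 ⟨y.isPrime, bot_le⟩ hy

theorem isMin_le_unique (𝔭 : PrimeSpectrum A) [IsDomain (Localization.AtPrime 𝔭.asIdeal)]
    (z₁ z₂ : PrimeSpectrum A) (h₁ : IsMin z₁) (h₂ : IsMin z₂) (h₁𝔭 : z₁ ≤ 𝔭) (h₂𝔭 : z₂ ≤ 𝔭) :
    z₁ = z₂ := by
  obtain ⟨n, hn⟩ : ∃ n : PrimeSpectrum A,
      n.asIdeal = RingHom.ker (algebraMap A (Localization.AtPrime 𝔭.asIdeal)) :=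
    ⟨⟨RingHom.ker (algebraMap A (Localization.AtPrime 𝔭.asIdeal)), RingHom.ker_isPrime _⟩, rfl⟩
  have key : ∀ z : PrimeSpectrum A, z ≤ 𝔭 → n ≤ z := by
    intro z hz
    show n.asIdeal ≤ z.asIdeal
    intro a ha
    rw [hn, RingHom.mem_ker] at ha
    obtain ⟨u, hu⟩ := (IsLocalization.map_eq_zero_iff 𝔭.asIdeal.primeCompl _ a).1 ha
    have : (u : A) * a ∈ z.asIdeal := by rw [hu]; exact zero_mem _
    exact (z.isPrime.mem_or_mem this).resolve_left (fun h => u.2 (hz h))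
  exact le_antisymm (le_trans (h₁ (key z₁ h₁𝔭)) (key z₂ h₂𝔭))
    (le_trans (h₂ (key z₂ h₂𝔭)) (key z₁ h₁𝔭))

theorem exists_mul_eq_zero_of_mem (φ : A →+* B) [IsReduced B] (𝔭 : PrimeSpectrum A)
    (x : PrimeSpectrum B)
    (huniq : ∀ x' : PrimeSpectrum B, IsMin x' → PrimeSpectrum.comap φ x' ≤ 𝔭 → x' = x)
    (y : B) (hy : y ∈ x.asIdeal) : ∃ s : A, s ∉ 𝔭.asIdeal ∧ φ s * y = 0 := by
  by_contra hcon
  push_neg at hcon
  obtain ⟨M', hM'⟩ : ∃ M' : Submonoid B,
      M' = Submonoid.map φ 𝔭.asIdeal.primeCompl ⊔ Submonoid.powers y := ⟨_, rfl⟩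
  have h0 : Disjoint ((⊥ : Ideal B) : Set B) (M' : Set B) := by
    rw [Set.disjoint_left]
    intro c hc hcM
    have hc0 : c = 0 := hc
    rw [SetLike.mem_coe, hM'] at hcM
    obtain ⟨c₁, hc₁, c₂, hc₂, hcc⟩ := Submonoid.mem_sup.1 hcM
    obtain ⟨s, hs, rfl⟩ := Submonoid.mem_map.1 hc₁
    obtain ⟨n, rfl⟩ := (Submonoid.mem_powers_iff _ _).1 hc₂
    have hzero : φ s * y ^ n = 0 := by rw [hcc, hc0]
    have hnil : (φ s * y) ^ (n + 1) = 0 := by
      calc (φ s * y) ^ (n + 1) = (φ s) ^ n * y * (φ s * y ^ n) := by ring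
        _ = 0 := by rw [hzero, mul_zero]
    exact hcon s hs (IsReduced.eq_zero _ ⟨n + 1, hnil⟩)
  obtain ⟨P, hP, -, hPM⟩ := Ideal.exists_le_prime_disjoint (⊥ : Ideal B) M' h0
  obtain ⟨x', hx'min, hx'P⟩ := exists_isMin_le (⟨P, hP⟩ : PrimeSpectrum B)
  have hx'P' : x'.asIdeal ≤ P := hx'P
  have hx'𝔭 : PrimeSpectrum.comap φ x' ≤ 𝔭 := by
    show (PrimeSpectrum.comap φ x').asIdeal ≤ 𝔭.asIdeal
    intro a ha
    by_contra ha𝔭
    have h1 : φ a ∈ (M' : Set B) := by
      rw [SetLike.mem_coe, hM']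
      exact Submonoid.mem_sup_left (Submonoid.mem_map.2 ⟨a, ha𝔭, rfl⟩)
    have h2 : φ a ∈ (P : Set B) := hx'P' ha
    exact Set.disjoint_left.1 hPM h2 h1
  have hxx := huniq x' hx'min hx'𝔭
  subst hxx
  have h1 : y ∈ (M' : Set B) := by
    rw [SetLike.mem_coe, hM']
    exact Submonoid.mem_sup_right (Submonoid.mem_powers y)
  exact Set.disjoint_left.1 hPM (hx'P' hy) h1

/-- The core step, with all localizations abstract. -/
theorem core {R K Aq Bx : Type u} [CommRing R] [IsDomain R] [IsIntegrallyClosed R] [Field K]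
    [Algebra R K] [IsFractionRing R K] [CommRing Aq] [CommRing Bx] [Algebra A R] [Algebra A Aq]
    [Algebra B Bx] (φ : A →+* B) (P : Ideal A) [P.IsPrime] (Q : Ideal A) [Q.IsPrime]
    (X : Ideal B) [X.IsPrime] [IsLocalization.AtPrime R P] [IsLocalization.AtPrime Aq Q]
    [IsLocalization.AtPrime Bx X] (hQP : Q ≤ P) (lam : Aq →+* Bx)
    (hlb : Function.Bijective lam)
    (hlam_alg : ∀ a, lam (algebraMap A Aq a) = algebraMap B Bx (φ a)) (b : B)
    (hb : φ.IsIntegralElem b) : ∃ s' : A, s' ∉ P ∧ ∃ a' : A, φ s' * b - φ a' ∈ X := by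
  have hg : ∀ s : Q.primeCompl,
      IsUnit (((algebraMap R K).comp (algebraMap A R)) (s : A)) := by
    intro s
    apply IsUnit.mk0
    intro h0
    have h1 : algebraMap A R (s : A) = 0 :=
      IsFractionRing.injective R K (by rw [map_zero]; exact h0)
    obtain ⟨u, hu⟩ := (IsLocalization.map_eq_zero_iff P.primeCompl R _).1 h1
    have : (u : A) * s ∈ Q := by rw [hu]; exact zero_mem _
    rcases (‹Q.IsPrime›).mem_or_mem this with h | h
    · exact u.2 (hQP h)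
    · exact s.2 h
  obtain ⟨ψ, hψdef⟩ : ∃ ψ : Aq →+* K, ψ = IsLocalization.lift hg := ⟨_, rfl⟩
  have hψ_alg : ∀ a : A, ψ (algebraMap A Aq a) = algebraMap R K (algebraMap A R a) := by
    intro a; rw [hψdef]; exact IsLocalization.lift_eq hg a
  have hψinj : Function.Injective ψ := by
    rw [hψdef, IsLocalization.lift_injective_iff]
    intro a₁ a₂
    constructor
    · intro h
      have := congrArg ψ h
      rwa [hψ_alg, hψ_alg] at this
    · intro h
      have h1 : algebraMap A R a₁ = algebraMap A R a₂ := IsFractionRing.injective R K h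
      obtain ⟨c, hc⟩ := (IsLocalization.eq_iff_exists P.primeCompl R).1 h1
      exact (IsLocalization.eq_iff_exists Q.primeCompl Aq).2
        ⟨⟨c, fun hcz => c.2 (hQP hcz)⟩, hc⟩
  obtain ⟨κ, hκ⟩ := hlb.2 (algebraMap B Bx b)
  obtain ⟨p, hpm, hpb⟩ := hb
  have hκint : p.eval₂ (algebraMap A Aq) κ = 0 := by
    apply hlb.1
    rw [map_zero, Polynomial.hom_eval₂, hκ]
    have hcomp : lam.comp (algebraMap A Aq) = (algebraMap B Bx).comp φ := RingHom.ext hlam_alg
    rw [hcomp, ← Polynomial.hom_eval₂, hpb, map_zero]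
  have hψκint : IsIntegral R (ψ κ) := by
    refine ⟨p.map (algebraMap A R), hpm.map _, ?_⟩
    rw [Polynomial.eval₂_map]
    have hcomp : ψ.comp (algebraMap A Aq) = (algebraMap R K).comp (algebraMap A R) :=
      RingHom.ext hψ_alg
    rw [← hcomp, ← Polynomial.hom_eval₂, hκint, map_zero]
  obtain ⟨r, hr⟩ := IsIntegrallyClosed.algebraMap_eq_of_integral hψκint
  obtain ⟨⟨a', s'⟩, hrs⟩ := IsLocalization.surj P.primeCompl r
  have hrs' : r * algebraMap A R (s' : A) = algebraMap A R a' := hrs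
  have hclaim : algebraMap A Aq (s' : A) * κ = algebraMap A Aq a' := by
    apply hψinj
    rw [map_mul, hψ_alg, hψ_alg, ← hr, ← map_mul, mul_comm, hrs']
  have hy0 : algebraMap B Bx (φ s' * b - φ a') = 0 := by
    rw [map_sub, map_mul, ← hlam_alg, ← hlam_alg, ← hκ, ← map_mul, hclaim, sub_self]
  obtain ⟨t, ht⟩ := (IsLocalization.map_eq_zero_iff X.primeCompl Bx _).1 hy0
  refine ⟨s', s'.2, a', ?_⟩
  have : (t : B) * (φ s' * b - φ a') ∈ X := by rw [ht]; exact zero_mem _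
  exact ((‹X.IsPrime›).mem_or_mem this).resolve_left t.2

theorem local_step (φ : A →+* B) (hint : φ.IsIntegral) [IsReduced B]
    (hN : ∀ 𝔭 : PrimeSpectrum A, IsDomain (Localization.AtPrime 𝔭.asIdeal) ∧
      IsIntegrallyClosed (Localization.AtPrime 𝔭.asIdeal))
    (hmaps : ∀ x : PrimeSpectrum B, IsMin x → IsMin (PrimeSpectrum.comap φ x))
    (hinj : ∀ x y : PrimeSpectrum B, IsMin x → IsMin y →
      PrimeSpectrum.comap φ x = PrimeSpectrum.comap φ y → x = y)
    (hsurj : ∀ z : PrimeSpectrum A, IsMin z →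
      ∃ x : PrimeSpectrum B, IsMin x ∧ PrimeSpectrum.comap φ x = z)
    (hloc : ∀ x : PrimeSpectrum B, IsMin x → ∃ (I : Ideal A) (_ : I.IsPrime)
      (h : I = x.asIdeal.comap φ), Function.Bijective (Localization.localRingHom I x.asIdeal φ h))
    (𝔭 : PrimeSpectrum A) (b : B) : ∃ s : A, s ∉ 𝔭.asIdeal ∧ ∃ a : A, φ s * b = φ a := by
  obtain ⟨hdom, hic⟩ := hN 𝔭
  haveI := hdom
  haveI := hic
  obtain ⟨z, hzmin, hz𝔭⟩ := exists_isMin_le 𝔭
  obtain ⟨x, hxmin, rfl⟩ := hsurj z hzmin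
  have huniq : ∀ x' : PrimeSpectrum B, IsMin x' → PrimeSpectrum.comap φ x' ≤ 𝔭 → x' = x := by
    intro x' hx' hx'𝔭
    exact hinj x' x hx' hxmin (isMin_le_unique 𝔭 _ _ (hmaps x' hx') hzmin hx'𝔭 hz𝔭)
  obtain ⟨I, hI, h, hbij⟩ := hloc x hxmin
  haveI := hI
  have hIP : I ≤ 𝔭.asIdeal := by rw [h]; exact hz𝔭
  obtain ⟨s', hs', a', hmem⟩ := core (R := Localization.AtPrime 𝔭.asIdeal)
    (K := FractionRing (Localization.AtPrime 𝔭.asIdeal)) (Aq := Localization.AtPrime I)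
    (Bx := Localization.AtPrime x.asIdeal) φ 𝔭.asIdeal I x.asIdeal hIP
    (Localization.localRingHom I x.asIdeal φ h) hbij
    (fun a => Localization.localRingHom_to_map I x.asIdeal φ h a) b (hint b)
  obtain ⟨s'', hs'', hs''y⟩ := exists_mul_eq_zero_of_mem φ 𝔭 x huniq _ hmem
  refine ⟨s'' * s', ?_, s'' * a', ?_⟩
  · exact fun h => (𝔭.isPrime.mem_or_mem h).elim hs'' hs'
  · rw [map_mul, map_mul]
    linear_combination hs''y

theorem bijective_of_integral_birational (φ : A →+* B) (hint : φ.IsIntegral) [IsReduced A]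
    [IsReduced B]
    (hN : ∀ 𝔭 : PrimeSpectrum A, IsDomain (Localization.AtPrime 𝔭.asIdeal) ∧
      IsIntegrallyClosed (Localization.AtPrime 𝔭.asIdeal))
    (hmaps : ∀ x : PrimeSpectrum B, IsMin x → IsMin (PrimeSpectrum.comap φ x))
    (hinj : ∀ x y : PrimeSpectrum B, IsMin x → IsMin y →
      PrimeSpectrum.comap φ x = PrimeSpectrum.comap φ y → x = y)
    (hsurj : ∀ z : PrimeSpectrum A, IsMin z →
      ∃ x : PrimeSpectrum B, IsMin x ∧ PrimeSpectrum.comap φ x = z)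
    (hloc : ∀ x : PrimeSpectrum B, IsMin x → ∃ (I : Ideal A) (_ : I.IsPrime)
      (h : I = x.asIdeal.comap φ),
        Function.Bijective (Localization.localRingHom I x.asIdeal φ h)) :
    Function.Bijective φ := by
  constructor
  · rw [injective_iff_map_eq_zero]
    intro a ha
    have hnil : a ∈ nilradical A := by
      rw [nilradical_eq_sInf, Ideal.mem_sInf]
      intro J hJ
      obtain ⟨z, hzmin, hzJ⟩ := exists_isMin_le (⟨J, hJ⟩ : PrimeSpectrum A)
      obtain ⟨x, hxmin, rfl⟩ := hsurj z hzmin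
      have hzJ' : (PrimeSpectrum.comap φ x).asIdeal ≤ J := hzJ
      apply hzJ'
      show φ a ∈ x.asIdeal
      rw [ha]; exact zero_mem _
    rw [nilradical_eq_zero] at hnil
    exact hnil
  · intro b
    obtain ⟨I, hIdef⟩ : ∃ I : Ideal A, ∀ a, a ∈ I ↔ ∃ a', φ a * b = φ a' :=
      ⟨{ carrier := {a | ∃ a', φ a * b = φ a'}
         add_mem' := by
           rintro a₁ a₂ ⟨a₁', h₁⟩ ⟨a₂', h₂⟩
           exact ⟨a₁' + a₂', by rw [map_add, add_mul, h₁, h₂, map_add]⟩
         zero_mem' := ⟨0, by rw [map_zero, zero_mul]⟩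
         smul_mem' := by
           rintro c a ⟨a', h⟩
           exact ⟨c * a', by rw [smul_eq_mul, map_mul, mul_assoc, h, map_mul]⟩ },
        fun a => Iff.rfl⟩
    have hI : I = ⊤ := by
      by_contra hne
      obtain ⟨𝔪, h𝔪, hI𝔪⟩ := Ideal.exists_le_maximal I hne
      obtain ⟨s, hs, a, hsa⟩ :=
        local_step φ hint hN hmaps hinj hsurj hloc ⟨𝔪, h𝔪.isPrime⟩ b
      exact hs (hI𝔪 ((hIdef s).2 ⟨a, hsa⟩))
    have h1 : (1 : A) ∈ I := by rw [hI]; trivial
    obtain ⟨a', ha'⟩ := (hIdef 1).1 h1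
    exact ⟨a', by rw [← ha', map_one, one_mul]⟩

end Algebra

end Groth.Agent.Lib.IntBirat1H7
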