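import Mathlib
import Groth.Agent.Lib.IntBirat1_helper7
import Groth.Agent.Lib.SchIrredComp2_helper7
import Groth.Agent.Lib.AffineDescent_helper7

/-!
# Integral birational morphisms onto normal affine schemes (helper7)
-/

set_option autoImplicit false
set_option linter.style.haveILetI false
universe u
open CategoryTheory CategoryTheory.Limits AlgebraicGeometry Opposite TopologicalSpace

namespace Groth.Agent.Lib.IntBirat2H7

open Groth.Agent.Lib.IntBirat1H7 Groth.Agent.Lib.SchIrredComp2H7

section Points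

variable (W : Scheme.{u}) [IsAffine W]

/-- the prime of global sections attached to a point of an affine scheme -/
noncomputable abbrev pt (w : W) : PrimeSpectrum Γ(W, ⊤) :=
  (isAffineOpen_top W).primeIdealOf ⟨w, trivial⟩

theorem pt_le_iff (w' w : W) : pt W w' ≤ pt W w ↔ w' ⤳ w := by
  rw [PrimeSpectrum.le_iff_specializes]
  let x' : (⊤ : W.Opens) := ⟨w', trivial⟩
  let x : (⊤ : W.Opens) := ⟨w, trivial⟩
  have h1 : (Scheme.homeoOfIso (isAffineOpen_top W).isoSpec) x' ⤳
      (Scheme.homeoOfIso (isAffineOpen_top W).isoSpec) x ↔ x' ⤳ x :=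
    (Scheme.homeoOfIso (isAffineOpen_top W).isoSpec).isInducing.specializes_iff
  have h2 : x' ⤳ x ↔ w' ⤳ w := subtype_specializes_iff x' x
  exact h1.trans h2

theorem pt_surjective (𝔮 : PrimeSpectrum Γ(W, ⊤)) : ∃ w : W, pt W w = 𝔮 := by
  obtain ⟨x, hx⟩ := (Scheme.homeoOfIso (isAffineOpen_top W).isoSpec).surjective 𝔮
  exact ⟨x.1, hx⟩

theorem pt_injective : Function.Injective (pt W) := by
  intro w w' h
  have h1 : w ⤳ w' := (pt_le_iff W w w').1 (le_of_eq h)
  have h2 : w' ⤳ w := (pt_le_iff W w' w).1 (le_of_eq h.symm)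
  exact (h1.antisymm h2).eq

theorem isMin_pt_iff (w : W) : IsMin (pt W w) ↔ closure {w} ∈ irreducibleComponents W := by
  rw [closure_singleton_mem_irreducibleComponents_iff]
  constructor
  · intro h w' hw'
    exact (pt_le_iff W w w').1 (h ((pt_le_iff W w' w).2 hw'))
  · intro h y hy
    obtain ⟨w', rfl⟩ := pt_surjective W y
    exact (pt_le_iff W w w').2 (h w' ((pt_le_iff W w' w).1 hy))

end Points

theorem isIso_of_integral_birational_normal {W V : Scheme.{u}} [IsAffine W] [IsAffine V]
    (i : W ⟶ V) [IsIntegralHom i] [IsReduced W]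
    (hN : ∀ v : V, IsDomain (V.presheaf.stalk v) ∧ IsIntegrallyClosed (V.presheaf.stalk v))
    (hmaps : ∀ w : W, closure {w} ∈ irreducibleComponents W →
      closure {i w} ∈ irreducibleComponents V)
    (hinj : ∀ w w' : W, closure {w} ∈ irreducibleComponents W →
      closure {w'} ∈ irreducibleComponents W → i w = i w' → w = w')
    (hsurj : ∀ v : V, closure {v} ∈ irreducibleComponents V →
      ∃ w : W, closure {w} ∈ irreducibleComponents W ∧ i w = v)
    (hiso : ∀ w : W, closure {w} ∈ irreducibleComponents W → IsIso (i.stalkMap w)) :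
    IsIso i := by
  have hW := isAffineOpen_top W
  have hV := isAffineOpen_top V
  have hVU : (⊤ : W.Opens) ≤ i ⁻¹ᵁ (⊤ : V.Opens) := fun _ _ => trivial
  have hcomap : ∀ w : W,
      PrimeSpectrum.comap (i.appLE ⊤ ⊤ hVU).hom (pt W w) = pt V (i w) :=
    fun w => IsAffineOpen.comap_primeIdealOf_appLE ⊤ hV ⊤ hW hVU trivial
  haveI : IsReduced V := by
    haveI : ∀ v : V, _root_.IsReduced (V.presheaf.stalk v) := fun v => by
      haveI := (hN v).1
      infer_instance
    exact isReduced_of_isReduced_stalk V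
  have hφeq : i.appLE ⊤ ⊤ hVU = i.appTop := Scheme.Hom.appLE_eq_app i
  have hbij : Function.Bijective (i.appLE ⊤ ⊤ hVU).hom := by
    refine bijective_of_integral_birational _ ?_ ?_ ?_ ?_ ?_ ?_
    · rw [hφeq]; exact IsIntegralHom.isIntegral_app i ⊤ hV
    · intro 𝔭
      obtain ⟨v, rfl⟩ := pt_surjective V 𝔭
      obtain ⟨hd, hc⟩ := hN v
      letI := V.presheaf.algebra_section_stalk (U := ⊤) ⟨v, trivial⟩
      haveI := hV.isLocalization_stalk ⟨v, trivial⟩
      let e : V.presheaf.stalk v ≃ₐ[Γ(V, ⊤)] Localization.AtPrime (pt V v).asIdeal :=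
        IsLocalization.algEquiv (pt V v).asIdeal.primeCompl _ _
      haveI := hd
      haveI := hc
      exact ⟨e.symm.toRingEquiv.toMulEquiv.isDomain (V.presheaf.stalk v),
        IsIntegrallyClosed.of_equiv e.toRingEquiv⟩
    · intro x hx
      obtain ⟨w, rfl⟩ := pt_surjective W x
      rw [hcomap]
      exact (isMin_pt_iff V _).2 (hmaps w ((isMin_pt_iff W w).1 hx))
    · intro x y hx hy hxy
      obtain ⟨w, rfl⟩ := pt_surjective W x
      obtain ⟨w', rfl⟩ := pt_surjective W y
      rw [hcomap, hcomap] at hxy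
      rw [hinj w w' ((isMin_pt_iff W w).1 hx) ((isMin_pt_iff W w').1 hy) (pt_injective V hxy)]
    · intro z hz
      obtain ⟨v, rfl⟩ := pt_surjective V z
      obtain ⟨w, hw, rfl⟩ := hsurj v ((isMin_pt_iff V v).1 hz)
      exact ⟨pt W w, (isMin_pt_iff W w).2 hw, hcomap w⟩
    · intro x hx
      obtain ⟨w, rfl⟩ := pt_surjective W x
      have hw := (isMin_pt_iff W w).1 hx
      have e := IsAffineOpen.arrowStalkMapIso i ⊤ hV ⊤ hW hVU (x := w) trivial
      have h1 := ((MorphismProperty.isomorphisms CommRingCat).arrow_mk_iso_iff e).1 (hiso w hw)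
      have h2 := (ConcreteCategory.isIso_iff_bijective _).1 h1
      exact ⟨(pt V (i w)).asIdeal, inferInstance,
        (congrArg PrimeSpectrum.asIdeal (hcomap w)).symm, h2⟩
  have h3 : IsIso (i.appLE ⊤ ⊤ hVU) := (ConcreteCategory.isIso_iff_bijective _).2 hbij
  rw [hφeq] at h3
  exact Groth.Agent.Lib.AffineDescent_helper7.isIso_of_isAffine_of_isIso_appTop i h3

end Groth.Agent.Lib.IntBirat2H7
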