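import Mathlib
import Groth.Agent.Lib.DecentBirat5_helper7
import Groth.Agent.Lib.IntBirat2_helper7
import Groth.Agent.Lib.EtCharts_helper7
import Groth.Agent.Lib.AlgSpIso_helper7
import Groth.Agent.Lib.AlgSpFpqc3_helper7
import Groth.Agent.Lib.AlgSpReduced_helper7

/-!
# Integral birational morphisms onto normal decent spaces are isomorphisms (helper7)
-/

set_option autoImplicit false
set_option linter.style.haveILetI false
universe u
open CategoryTheory CategoryTheory.Limits AlgebraicGeometry Opposite TopologicalSpace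

namespace Groth.Agent.Lib.IntBirat3H7

open AlgSp Groth.Agent.Lib.AlgSpPoints_helper7 Groth.Agent.Lib.AlgSpOpenSub_helper7
  Groth.Agent.Lib.AlgSpEtale_helper7 Groth.Agent.Lib.AlgSpPullback_helper7
  Groth.Agent.Lib.DecentIrredH7 Groth.Agent.Lib.DecentBirat2H7 Groth.Agent.Lib.AlgSpOpen_helper7
  Groth.Agent.Lib.DecentBirat3H7 Groth.Agent.Lib.DecentBirat4H7 Groth.Agent.Lib.AlgSpQC_helper7
  Groth.Agent.Lib.DecentBirat5H7 Groth.Agent.Lib.EtChartsH7 Groth.Agent.Lib.AlgSpIso_helper7
  Groth.Agent.Lib.AlgSpFpqc3_helper7 Groth.Agent.Lib.AlgSpReduced_helper7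

variable {S : Scheme.{u}}

/-- Scheme-level consequence of birationality of `h_i` for an integral morphism of affine
schemes onto a normal one. -/
theorem isIso_of_isBirational_yon {W Z : Over S} [IsAffine W.left] [IsAffine Z.left] (i' : W ⟶ Z)
    [IsIntegralHom i'.left] [IsReduced W.left]
    (hN : ∀ v : Z.left, IsDomain (Z.left.presheaf.stalk v) ∧
      IsIntegrallyClosed (Z.left.presheaf.stalk v))
    (hbir : W4stk3decentspacesp2.IsBirational ((yon S).map i')) : IsIso ((yon S).map i') := by
  have hidW : RepWith @IsOpenImmersion (𝟙 ((yon S).obj W)) := AlgSp.repWith_id _ W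
  have hidZ : RepWith @IsOpenImmersion (𝟙 ((yon S).obj Z)) := AlgSp.repWith_id _ Z
  have heW : Topology.IsOpenEmbedding (Points.ofScheme W) := isOpenEmbedding_ofPt _ hidW
  have heZ : Topology.IsOpenEmbedding (Points.ofScheme Z) := isOpenEmbedding_ofPt _ hidZ
  have hmap : ∀ w : W.left, Points.map ((yon S).map i') (Points.ofScheme W w) =
      Points.ofScheme Z (i'.left w) := by
    intro w
    rw [Points.map_ofPt, Category.id_comp, ofPt_yon_map]
  have hgW : ∀ w : W.left, closure {w} ∈ irreducibleComponents W.left ↔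
      Points.ofScheme W w ∈ genericPoints (Points ((yon S).obj W)) :=
    fun w => generic_iff_of_isOpenEmbedding _ heW w
  have hgZ : ∀ v : Z.left, closure {v} ∈ irreducibleComponents Z.left ↔
      Points.ofScheme Z v ∈ genericPoints (Points ((yon S).obj Z)) :=
    fun v => generic_iff_of_isOpenEmbedding _ heZ v
  have hiso_left : IsIso i'.left := by
    apply Groth.Agent.Lib.IntBirat2H7.isIso_of_integral_birational_normal i'.left hN
    · intro w hw
      have := hbir.bijOn.mapsTo ((hgW w).1 hw)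
      rw [hmap] at this
      exact (hgZ _).2 this
    · intro w w' hw hw' hww'
      apply ofScheme_injective W
      apply hbir.bijOn.injOn ((hgW w).1 hw) ((hgW w').1 hw')
      rw [hmap, hmap, hww']
    · intro v hv
      obtain ⟨π, hπ, hπv⟩ := hbir.bijOn.surjOn ((hgZ v).1 hv)
      obtain ⟨w, rfl⟩ := ofScheme_surjective W π
      rw [hmap] at hπv
      exact ⟨w, (hgW w).2 hπ, ofScheme_injective Z hπv⟩
    · intro w hw
      exact isIso_stalkMap_of_isBirational
        (X := ⟨(yon S).obj W, IsAlgSpace.yon_obj W⟩) (Y := ⟨(yon S).obj Z, IsAlgSpace.yon_obj Z⟩)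
        (ObjectProperty.homMk ((yon S).map i')) hbir (𝟙 _) (𝟙 _) i' hidW hidZ
        (by rw [Category.id_comp, Category.comp_id]; rfl) w ((hgW w).1 hw)
  haveI : IsIso i' := by
    have : IsIso ((Over.forget S).map i') := hiso_left
    exact isIso_of_reflects_iso _ (Over.forget S)
  infer_instance

/-- the affine open pieces of a chart -/
abbrev pieceOver (UY : Over S) (U : UY.left.affineOpens) : Over S := Over.mk (U.1.ι ≫ UY.hom)

/-- the inclusion of an affine open piece -/
abbrev pieceHom (UY : Over S) (U : UY.left.affineOpens) : pieceOver UY U ⟶ UY :=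
  Over.homMk U.1.ι rfl

theorem main10438 {X Y : AlgSp.Space S} (f : X ⟶ Y)
    (hX : IsDecent X.obj) (hY : IsDecent Y.obj)
    (hYf : (irreducibleComponents (Points Y.obj)).Finite)
    (hi : IsIntegralMor f.hom) (hf : W4stk3decentspacesp2.IsBirational f.hom)
    (hYn : EtaleLocally (fun T => ∀ t : ↥T, IsDomain ↥(T.presheaf.stalk t) ∧
      IsIntegrallyClosed ↥(T.presheaf.stalk t)) Y.obj)
    (hXr : EtaleLocally (fun T => IsReduced T) X.obj) : IsIso f.hom := by
  obtain ⟨UY, p, hpe, hps, hnorm⟩ := hYn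
  have hbs : ∀ U : UY.left.affineOpens, RepWith @Etale ((yon S).map (pieceHom UY U) ≫ p) :=
    fun U => repWith_comp _ ((repWith_yon_map_iff _ _).2
      (show Etale (pieceHom UY U).left from (inferInstance : Etale U.1.ι))) hpe
  have hZaff : ∀ U : UY.left.affineOpens, IsAffine (pieceOver UY U).left := fun U => U.2
  have hcovpts : ∀ y : Points Y.obj, ∃ U : UY.left.affineOpens,
      y ∈ Set.range (Points.map ((yon S).map (pieceHom UY U) ≫ p)) := by
    intro y
    obtain ⟨u, rfl⟩ := ofPt_surjective p hps y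
    obtain ⟨_, ⟨U₀, hU₀, rfl⟩, huU, -⟩ :=
      UY.left.isBasis_affineOpens.exists_subset_of_mem_open (Set.mem_univ u) isOpen_univ
    have key : Points.ofPt ((yon S).map (pieceHom UY ⟨U₀, hU₀⟩) ≫ p)
        (⟨u, huU⟩ : (pieceOver UY ⟨U₀, hU₀⟩).left) = Points.ofPt p u :=
      ofPt_comp (pieceHom UY ⟨U₀, hU₀⟩) p _
    exact ⟨⟨U₀, hU₀⟩, Points.ofScheme _ (⟨u, huU⟩ : (pieceOver UY ⟨U₀, hU₀⟩).left),
      (Points.ofPt_eq_map_ofScheme _ _).symm.trans key⟩
  have hcov : IsFpqcCover (fun U : UY.left.affineOpens => (yon S).obj (pieceOver UY U))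
      (fun U => (yon S).map (pieceHom UY U) ≫ p) :=
    isFpqcCover_of_isFppfCover Y.property _ _ (fun U => IsAlgSpace.yon_obj _)
      (isFppfCover_of_etale_charts (pieceOver UY) _ hbs hcovpts)
  choose Ws is fsts hsq hWaff hint using
    fun U : UY.left.affineOpens => hi (hZaff U) ((yon S).map (pieceHom UY U) ≫ p)
  refine (isLocalOnBase_fpqc_isomorphisms
    (fun U : UY.left.affineOpens => (yon S).obj (pieceOver UY U))
    (fun U => (yon S).map (pieceHom UY U) ≫ p) Y.property (fun U => IsAlgSpace.yon_obj _) hcov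
    f.hom X.property (fun U => (yon S).obj (Ws U)) (fun U => (yon S).map (is U)) fsts
    (fun U => IsAlgSpace.yon_obj _) hsq).2 ?_
  intro U
  haveI := hZaff U
  haveI := hWaff U
  haveI : IsIntegralHom (is U).left := hint U
  obtain ⟨-, -, -, hbir⟩ := main10437 f hX hY hYf hf ((yon S).map (pieceHom UY U) ≫ p) (hbs U)
    (fsts U) ((yon S).map (is U)) (hsq U)
  have hfe : RepWith @Etale (fsts U) := repWith_fst_of_isPullback _ (hsq U) (hbs U)
  haveI : IsReduced (Ws U).left := isReduced_chart_of_isReducedSp X.property hXr (fsts U) hfe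
  have hN : ∀ v : (pieceOver UY U).left, IsDomain ((pieceOver UY U).left.presheaf.stalk v) ∧
      IsIntegrallyClosed ((pieceOver UY U).left.presheaf.stalk v) := by
    intro v
    obtain ⟨hd, hc⟩ := hnorm (U.1.ι v)
    haveI := hd
    haveI := hc
    let e : UY.left.presheaf.stalk (U.1.ι v) ≃+* (U.1 : Scheme).presheaf.stalk v :=
      (asIso (U.1.ι.stalkMap v)).commRingCatIsoToRingEquiv
    exact ⟨e.symm.toMulEquiv.isDomain _, IsIntegrallyClosed.of_equiv e⟩
  exact isIso_of_isBirational_yon (is U) hN hbir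

end Groth.Agent.Lib.IntBirat3H7
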