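import Mathlib
import Groth.Agent.Lib.EtaleReduced_helper7

/-!
# Integral closure in a compositum with an étale integral closure (helper3)
-/

universe u

open TensorProduct Polynomial

namespace Groth.Agent.Lib.IntClosCompositumH3

section Key

variable (A' T L₁ K' : Type u) [CommRing A'] [IsDomain A'] [IsIntegrallyClosed A']
  [CommRing T] [Algebra A' T] [Module.Finite A' T] [Algebra.Etale A' T]
  [Field L₁] [Algebra A' L₁] [Field K'] [Algebra A' K'] [IsFractionRing A' K']
  [Algebra K' L₁] [IsScalarTower A' K' L₁]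

/-- The map `T ⊗ K' → L₁`. -/
noncomputable def psi (φ : T →ₐ[A'] L₁) : T ⊗[A'] K' →ₐ[A'] L₁ :=
  Algebra.TensorProduct.lift φ (IsScalarTower.toAlgHom A' K' L₁) (fun _ _ => Commute.all _ _)

theorem psi_tmul (φ : T →ₐ[A'] L₁) (t : T) (c : K') :
    psi A' T L₁ K' φ (t ⊗ₜ c) = φ t * algebraMap K' L₁ c := by
  show Algebra.TensorProduct.lift _ _ _ (t ⊗ₜ[A'] c) = _
  rw [Algebra.TensorProduct.lift_tmul]
  rfl

theorem exists_idem (φ : T →ₐ[A'] L₁) :
    ∃ b : T ⊗[A'] K', psi A' T L₁ K' φ b = 1 ∧ b * b = b ∧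
      ∀ x : T ⊗[A'] K', psi A' T L₁ K' φ x = 0 → x * b = 0 := by
  let ec : T ⊗[A'] K' ≃ₐ[A'] K' ⊗[A'] T := Algebra.TensorProduct.comm A' T K'
  haveI : Module.Finite K' (K' ⊗[A'] T) := inferInstance
  haveI : IsArtinianRing (K' ⊗[A'] T) := IsArtinianRing.of_finite K' (K' ⊗[A'] T)
  haveI : Algebra.Etale K' (K' ⊗[A'] T) := inferInstance
  haveI : IsReduced (K' ⊗[A'] T) :=
    Groth.Agent.Lib.EtaleReduced_helper7.isReduced_of_etale K' (K' ⊗[A'] T)
  haveI : IsArtinianRing (T ⊗[A'] K') := ec.symm.toRingEquiv.isArtinianRing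
  haveI : IsReduced (T ⊗[A'] K') := isReduced_of_injective ec.toRingHom ec.injective
  have hss : IsSemisimpleRing (T ⊗[A'] K') :=
    IsArtinianRing.isSemisimpleRing_of_isReduced (T ⊗[A'] K')
  have hcl : ComplementedLattice (Ideal (T ⊗[A'] K')) := hss.toComplementedLattice
  obtain ⟨J, hJ⟩ := hcl.exists_isCompl (RingHom.ker (psi A' T L₁ K' φ) : Ideal (T ⊗[A'] K'))
  have h1mem : (1 : T ⊗[A'] K') ∈ (RingHom.ker (psi A' T L₁ K' φ) : Ideal (T ⊗[A'] K')) ⊔ J := by
    rw [hJ.sup_eq_top]; exact Submodule.mem_top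
  obtain ⟨a, ha, b, hb, hab⟩ := Submodule.mem_sup.1 h1mem
  have hinf : ∀ x : T ⊗[A'] K', x ∈ (RingHom.ker (psi A' T L₁ K' φ) : Ideal (T ⊗[A'] K')) →
      x ∈ J → x = 0 := by
    intro x h1 h2
    have : x ∈ (RingHom.ker (psi A' T L₁ K' φ) : Ideal (T ⊗[A'] K')) ⊓ J := ⟨h1, h2⟩
    rwa [hJ.inf_eq_bot, Submodule.mem_bot] at this
  have hker : ∀ x : T ⊗[A'] K', psi A' T L₁ K' φ x = 0 → x * b = 0 := fun x hx =>
    hinf _ (Ideal.mul_mem_right _ _ (RingHom.mem_ker.2 hx)) (Ideal.mul_mem_left _ _ hb)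
  have ha0 : psi A' T L₁ K' φ a = 0 := RingHom.mem_ker.1 ha
  have hb1 : psi A' T L₁ K' φ b = 1 := by
    have := congrArg (psi A' T L₁ K' φ) hab
    rwa [map_add, ha0, zero_add, map_one] at this
  have hbb : b * b = b := by
    have h1 : a * b = 0 := hker a ha0
    calc b * b = (a + b) * b - a * b := by ring
      _ = b := by rw [hab, h1, one_mul, sub_zero]
  exact ⟨b, hb1, hbb, hker⟩

theorem exists_eq_tmul_one (z : T ⊗[A'] K') (hz : IsIntegral A' z) :
    ∃ t : T, z = t ⊗ₜ (1 : K') := by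
  have hclosedaux : ∀ w : T ⊗[A'] integralClosure A' K', ∃ t : T,
      (Algebra.TensorProduct.map (AlgHom.id T T) (integralClosure A' K').val w : T ⊗[A'] K') =
        t ⊗ₜ (1 : K') := by
    intro w
    induction w using TensorProduct.induction_on with
    | zero => exact ⟨0, by rw [map_zero, TensorProduct.zero_tmul]⟩
    | tmul t c =>
      obtain ⟨a0, ha0⟩ := IsIntegrallyClosed.isIntegral_iff.1 c.2
      refine ⟨a0 • t, ?_⟩
      rw [Algebra.TensorProduct.map_tmul, TensorProduct.smul_tmul]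
      congr 1
      rw [Algebra.smul_def, mul_one]
      exact ha0.symm
    | add x y hx hy =>
      obtain ⟨t1, h1⟩ := hx
      obtain ⟨t2, h2⟩ := hy
      exact ⟨t1 + t2, by rw [map_add, h1, h2, TensorProduct.add_tmul]⟩
  have hzT : IsIntegral T z := hz.tower_top
  obtain ⟨w, hw⟩ := (TensorProduct.toIntegralClosure_bijective_of_smooth
    (R := A') (S := T) (B := K')).2 ⟨z, hzT⟩
  obtain ⟨t, ht⟩ := hclosedaux w
  refine ⟨t, ?_⟩
  rw [← ht]
  exact (congrArg Subtype.val hw).symm

theorem tmul_one_injective : Function.Injective (fun t : T => (t ⊗ₜ[A'] (1 : K') : T ⊗[A'] K')) :=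
  Algebra.TensorProduct.includeLeft_injective (S := A') (IsFractionRing.injective A' K')

theorem key (φ : T →ₐ[A'] L₁) (hsurj : Function.Surjective (psi A' T L₁ K' φ)) :
    (∀ x : L₁, IsIntegral A' x → ∃ t : T, φ t = x) ∧
      ∃ t₀ : T, IsIdempotentElem t₀ ∧ φ t₀ = 1 ∧ ∀ s : T, φ s = 0 → t₀ * s = 0 := by
  obtain ⟨b, hb1, hbb, hker⟩ := exists_idem A' T L₁ K' φ
  have hTE := tmul_one_injective A' T K'
  have hsurjφ : ∀ x : L₁, IsIntegral A' x → ∃ t : T, φ t = x := by
    intro x hx
    obtain ⟨y, rfl⟩ := hsurj x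
    obtain ⟨p, hpm, hp⟩ := hx
    rw [← Polynomial.aeval_def, Polynomial.aeval_algHom_apply] at hp
    have h0 : aeval y p * b = 0 := hker _ hp
    have hzint : IsIntegral A' (y * b) := by
      refine ⟨X * p, monic_X.mul hpm, ?_⟩
      rw [← Polynomial.aeval_def, map_mul, aeval_X]
      have key : ∀ q : A'[X], aeval (y * b) q * b = aeval y q * b := by
        intro q
        induction q using Polynomial.induction_on' with
        | add q1 q2 h1 h2 => rw [map_add, map_add, add_mul, add_mul, h1, h2]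
        | monomial n c =>
          rw [aeval_monomial, aeval_monomial, mul_pow]
          rcases Nat.eq_zero_or_pos n with rfl | hn
          · simp
          · have hbn : b ^ n = b := by
              clear h0
              induction n, hn using Nat.le_induction with
              | base => exact pow_one b
              | succ m hm ih => rw [pow_succ, ih, hbb]
            rw [hbn, mul_assoc, mul_assoc, hbb, mul_assoc]
      calc y * b * aeval (y * b) p = y * (aeval (y * b) p * b) := by ring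
        _ = 0 := by rw [key p, h0, mul_zero]
    obtain ⟨t, ht⟩ := exists_eq_tmul_one A' T K' _ hzint
    refine ⟨t, ?_⟩
    have : psi A' T L₁ K' φ (y * b) = psi A' T L₁ K' φ y := by rw [map_mul, hb1, mul_one]
    rw [← this, ht, psi_tmul, map_one, mul_one]
  refine ⟨hsurjφ, ?_⟩
  have hbint : IsIntegral A' b := by
    refine ⟨(X - C 1) * X, (monic_X_sub_C 1).mul monic_X, ?_⟩
    rw [← Polynomial.aeval_def, map_mul, map_sub, aeval_X, aeval_C, map_one]
    calc (b - 1) * b = b * b - b := by ring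
      _ = 0 := by rw [hbb, sub_self]
  obtain ⟨t₀, ht₀⟩ := exists_eq_tmul_one A' T K' b hbint
  refine ⟨t₀, ?_, ?_, ?_⟩
  · apply hTE
    show (t₀ * t₀) ⊗ₜ[A'] (1 : K') = t₀ ⊗ₜ[A'] (1 : K')
    have : ((t₀ * t₀) ⊗ₜ[A'] (1 : K') : T ⊗[A'] K') = (t₀ ⊗ₜ (1 : K')) * (t₀ ⊗ₜ (1 : K')) := by
      rw [Algebra.TensorProduct.tmul_mul_tmul, mul_one]
    rw [this, ← ht₀, hbb]
  · have := psi_tmul A' T L₁ K' φ t₀ 1
    rw [← ht₀, hb1, map_one, mul_one] at this
    exact this.symm
  · intro s hs
    apply hTE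
    show (t₀ * s) ⊗ₜ[A'] (1 : K') = (0 : T) ⊗ₜ[A'] (1 : K')
    have h1 : psi A' T L₁ K' φ (s ⊗ₜ (1 : K')) = 0 := by rw [psi_tmul, hs, zero_mul]
    have h2 := hker _ h1
    rw [ht₀, Algebra.TensorProduct.tmul_mul_tmul, mul_one] at h2
    rw [mul_comm, h2, TensorProduct.zero_tmul]

end Key

set_option maxHeartbeats 1600000 in
set_option synthInstance.maxHeartbeats 400000 in
theorem main (A A' L L₁ : Type u) [CommRing A] [IsDomain A]
    [IsIntegrallyClosed A] [CommRing A'] [IsDomain A'] [IsIntegrallyClosed A'] [Algebra A A']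
    [Field L] [Algebra A L] [Algebra.IsAlgebraic A L] (hinj : Function.Injective (algebraMap A L))
    [Algebra.Etale A ↥(integralClosure A L)]
    [Field L₁] [Algebra A' L₁] [Algebra L L₁] [Algebra A L₁] [IsScalarTower A A' L₁]
    [IsScalarTower A L L₁]
    (hinj' : Function.Injective (algebraMap A' L₁))
    (hgen : Subfield.closure (Set.range (algebraMap A' L₁) ∪ Set.range (algebraMap L L₁)) = ⊤) :
    Algebra.Etale A' ↥(integralClosure A' L₁) ∧
      integralClosure A' L₁ = Algebra.adjoin A' ((algebraMap L L₁) '' {x : L | IsIntegral A x}) := by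
  classical
  let Cl := integralClosure A L
  let K' := FractionRing A'
  let T := A' ⊗[A] Cl
  haveI : Algebra.FiniteType A Cl := inferInstance
  haveI : Algebra.IsIntegral A Cl := inferInstance
  haveI : Module.Finite A Cl := Algebra.IsIntegral.finite
  haveI : Module.Finite A' T := inferInstance
  haveI : Algebra.IsIntegral A' T := inferInstance
  haveI : Algebra.Etale A' T := inferInstance
  let g : Cl →ₐ[A] L₁ := (IsScalarTower.toAlgHom A L L₁).comp Cl.val
  let φ : T →ₐ[A'] L₁ :=
    Algebra.TensorProduct.lift (Algebra.ofId A' L₁) g (fun _ _ => Commute.all _ _)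
  have hφ : ∀ (a : A') (c : Cl), φ (a ⊗ₜ c) = algebraMap A' L₁ a * algebraMap L L₁ (c : L) := by
    intro a c
    show Algebra.TensorProduct.lift _ _ _ (a ⊗ₜ[A] c) = _
    rw [Algebra.TensorProduct.lift_tmul]
    rfl
  haveI : FaithfulSMul A' L₁ := (faithfulSMul_iff_algebraMap_injective A' L₁).2 hinj'
  letI : Algebra K' L₁ := FractionRing.liftAlgebra A' L₁
  haveI : IsScalarTower A' K' L₁ := FractionRing.isScalarTower_liftAlgebra A' L₁
  let ψ := psi A' T L₁ K' φ
  have hψ : ∀ (t : T) (c : K'), ψ (t ⊗ₜ c) = φ t * algebraMap K' L₁ c := psi_tmul A' T L₁ K' φ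
  -- integrality of `φ`
  have hφint : ∀ t : T, IsIntegral A' (φ t) := fun t =>
    (Algebra.IsIntegral.isIntegral (R := A') t).map φ
  -- `ψ z` is integral over `K'`
  have hint : ∀ z : T ⊗[A'] K', IsIntegral K' (ψ z) := by
    intro z
    induction z using TensorProduct.induction_on with
    | zero => rw [map_zero]; exact isIntegral_zero
    | tmul t c =>
      rw [hψ]
      exact ((hφint t).tower_top).mul isIntegral_algebraMap
    | add x y hx hy => rw [map_add]; exact hx.add hy
  -- surjectivity of `ψ`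
  let S : Subalgebra K' L₁ :=
    { carrier := Set.range ψ
      mul_mem' := by rintro _ _ ⟨x, rfl⟩ ⟨y, rfl⟩; exact ⟨x * y, ψ.map_mul x y⟩
      one_mem' := ⟨1, ψ.map_one⟩
      add_mem' := by rintro _ _ ⟨x, rfl⟩ ⟨y, rfl⟩; exact ⟨x + y, ψ.map_add x y⟩
      zero_mem' := ⟨0, ψ.map_zero⟩
      algebraMap_mem' := fun c => ⟨(1 : T) ⊗ₜ c, by rw [hψ, map_one, one_mul]⟩ }
  have hSinv : ∀ x ∈ S, x⁻¹ ∈ S := by
    intro x hx
    obtain ⟨z, rfl⟩ := hx
    exact Subalgebra.inv_mem_of_algebraic (A := S) (x := ⟨ψ z, z, rfl⟩) (hint z).isAlgebraic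
  let F : IntermediateField K' L₁ := S.toIntermediateField hSinv
  have hψsurj : Function.Surjective ψ := by
    intro x
    have hle : Subfield.closure (Set.range (algebraMap A' L₁) ∪ Set.range (algebraMap L L₁)) ≤
        F.toSubfield := by
      rw [Subfield.closure_le]
      rintro y (⟨a, rfl⟩ | ⟨l, rfl⟩)
      · exact ⟨(1 : T) ⊗ₜ (algebraMap A' K' a), by
          rw [hψ, map_one, one_mul, ← IsScalarTower.algebraMap_apply]⟩
      · obtain ⟨a, ha, hal⟩ :=
          (Algebra.IsAlgebraic.isAlgebraic (R := A) l).exists_integral_multiple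
        have h1 : algebraMap L L₁ (a • l) ∈ F :=
          ⟨((1 : A') ⊗ₜ (⟨a • l, hal⟩ : Cl)) ⊗ₜ (1 : K'), by
            rw [hψ, hφ, map_one, map_one, one_mul, mul_one]⟩
        have h2 : algebraMap A L₁ a ∈ F := by
          rw [IsScalarTower.algebraMap_apply A A' L₁]
          exact ⟨(1 : T) ⊗ₜ (algebraMap A' K' (algebraMap A A' a)), by
            rw [hψ, map_one, one_mul, ← IsScalarTower.algebraMap_apply]⟩
        have h3 : algebraMap A L₁ a ≠ 0 := by
          rw [IsScalarTower.algebraMap_apply A L L₁]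
          exact fun h => ha (hinj (by
            rw [map_zero]
            exact (algebraMap L L₁).injective (h.trans (map_zero _).symm)))
        have h4 : algebraMap L L₁ l = algebraMap L L₁ (a • l) * (algebraMap A L₁ a)⁻¹ := by
          rw [Algebra.smul_def, map_mul, ← IsScalarTower.algebraMap_apply A L L₁]
          field_simp
        rw [h4]
        exact F.mul_mem h1 (F.inv_mem h2)
    rw [hgen] at hle
    exact hle (Subfield.mem_top x)
  obtain ⟨hsurjφ, t₀, ht₀idem, hφt₀, hkerφ⟩ := key A' T L₁ K' φ hψsurj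
  have hφadj : ∀ t : T, φ t ∈ Algebra.adjoin A' ((algebraMap L L₁) '' {x : L | IsIntegral A x}) := by
    intro t
    induction t using TensorProduct.induction_on with
    | zero => rw [map_zero]; exact Subalgebra.zero_mem _
    | tmul a c =>
      rw [hφ]
      exact Subalgebra.mul_mem _ (Subalgebra.algebraMap_mem _ a)
        (Algebra.subset_adjoin ⟨(c : L), c.2, rfl⟩)
    | add x y hx hy => rw [map_add]; exact Subalgebra.add_mem _ hx hy
  have heq : integralClosure A' L₁ =
      Algebra.adjoin A' ((algebraMap L L₁) '' {x : L | IsIntegral A x}) := by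
    apply le_antisymm
    · intro x hx
      obtain ⟨t, rfl⟩ := hsurjφ x hx
      exact hφadj t
    · apply Algebra.adjoin_le
      rintro _ ⟨c, hc, rfl⟩
      have h1 : IsIntegral A (algebraMap L L₁ c) :=
        IsIntegral.map (IsScalarTower.toAlgHom A L L₁) hc
      exact h1.tower_top
  refine ⟨?_, heq⟩
  -- étaleness
  let C' := integralClosure A' L₁
  let φ' : T →ₐ[A'] C' := φ.codRestrict C' hφint
  letI : Algebra T C' := φ'.toRingHom.toAlgebra
  haveI : IsScalarTower A' T C' := IsScalarTower.of_algebraMap_eq fun a => (φ'.commutes a).symm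
  have H : ∀ x y : T, algebraMap T C' x = algebraMap T C' y ↔ t₀ * x = t₀ * y := by
    intro x y
    constructor
    · intro h
      have h1 : φ x = φ y := congrArg Subtype.val h
      have h2 : φ (x - y) = 0 := by rw [map_sub, h1, sub_self]
      have h3 := hkerφ _ h2
      rw [mul_sub, sub_eq_zero] at h3
      exact h3
    · intro h
      apply Subtype.ext
      show φ x = φ y
      have := congrArg φ h
      rwa [map_mul, map_mul, hφt₀, one_mul, one_mul] at this
  have H' : Function.Surjective (algebraMap T C') := by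
    rintro ⟨x, hx⟩
    obtain ⟨t, ht⟩ := hsurjφ x hx
    exact ⟨t, Subtype.ext ht⟩
  haveI : IsLocalization.Away t₀ C' := IsLocalization.away_of_isIdempotentElem_of_mul ht₀idem H H'
  haveI : Algebra.Etale T C' := Algebra.Etale.of_isLocalizationAway t₀
  exact Algebra.Etale.comp A' T C'

end Groth.Agent.Lib.IntClosCompositumH3
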