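import Mathlib

/-!
# A finite integral closure is a reflexive module (helper4)

For a Noetherian domain `A` with fraction field `K`, a finite extension `L/K`, and `B` the integral
closure of `A` in `L`, assumed finite over `A`: `B` is a reflexive `A`-module.

Proof: the "dual hull" `B' = {x ∈ L | λ x ∈ A for all K-linear λ : L → K with λ(B) ⊆ A}` is an
`A`-subalgebra of `L` containing `B`, finitely generated as a module, hence integral, so `B' = B`.
Every element of the double dual is represented by an element of `B'`.
APPEND-ONLY once landed.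
-/

set_option autoImplicit false
set_option linter.unusedVariables false
set_option linter.unusedTactic false
set_option linter.unreachableTactic false
set_option linter.unusedSectionVars false
set_option linter.style.haveILetI false
set_option maxHeartbeats 800000

universe u

open Module

namespace Groth.Agent.Lib.IntClosReflH4

/-- an `A`-linear map to the fraction field with values in `A` comes from a map to `A` -/
theorem exists_lift_map {A K M : Type u} [CommRing A] [Field K] [Algebra A K] [IsFractionRing A K]
    [AddCommGroup M] [Module A M]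
    (μ : M →ₗ[A] K) (h : ∀ m, ∃ a : A, algebraMap A K a = μ m) :
    ∃ φ : M →ₗ[A] A, ∀ m, algebraMap A K (φ m) = μ m := by
  have hinj : Function.Injective (algebraMap A K) := IsFractionRing.injective A K
  choose f hf using h
  refine ⟨{ toFun := f, map_add' := ?_, map_smul' := ?_ }, hf⟩
  · intro x y
    apply hinj
    rw [map_add, hf, hf, hf, map_add]
  · intro c x
    apply hinj
    simp only [RingHom.id_apply, smul_eq_mul, map_mul, hf, map_smul, Algebra.smul_def]

/-- The dual hull of the integral closure. -/
def dualHull (A K L : Type u) [CommRing A] [Field K] [Algebra A K] [Field L] [Algebra K L]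
    [Algebra A L] : Subalgebra A L where
  carrier := {x | ∀ lam : L →ₗ[K] K,
    (∀ b : ↥(integralClosure A L), ∃ a : A, algebraMap A K a = lam (b : L)) →
      ∃ a : A, algebraMap A K a = lam x}
  mul_mem' := by
    intro x y hx hy lam hlam
    have hy' : ∀ b : ↥(integralClosure A L),
        ∃ a : A, algebraMap A K a = (lam.comp (LinearMap.mulLeft K y)) (b : L) := by
      intro b
      have hb' : ∀ b' : ↥(integralClosure A L),
          ∃ a : A, algebraMap A K a = (lam.comp (LinearMap.mulLeft K (b : L))) (b' : L) := by
        intro b'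
        obtain ⟨a, ha⟩ := hlam (b * b')
        exact ⟨a, ha.trans rfl⟩
      obtain ⟨a, ha⟩ := hy _ hb'
      refine ⟨a, ha.trans ?_⟩
      show lam ((b : L) * y) = lam (y * (b : L))
      rw [mul_comm]
    obtain ⟨a, ha⟩ := hx _ hy'
    refine ⟨a, ha.trans ?_⟩
    show lam (y * x) = lam (x * y)
    rw [mul_comm]
  add_mem' := by
    intro x y hx hy lam hlam
    obtain ⟨a₁, h₁⟩ := hx lam hlam
    obtain ⟨a₂, h₂⟩ := hy lam hlam
    exact ⟨a₁ + a₂, by rw [map_add, map_add, h₁, h₂]⟩
  algebraMap_mem' := by
    intro r lam hlam
    exact hlam ⟨algebraMap A L r, Subalgebra.algebraMap_mem _ r⟩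

theorem mem_dualHull {A K L : Type u} [CommRing A] [Field K] [Algebra A K] [Field L] [Algebra K L]
    [Algebra A L] (x : L) :
    x ∈ dualHull A K L ↔ ∀ lam : L →ₗ[K] K,
      (∀ b : ↥(integralClosure A L), ∃ a : A, algebraMap A K a = lam (b : L)) →
        ∃ a : A, algebraMap A K a = lam x := Iff.rfl

/-- S6881 -/
theorem main (A K L : Type u) [CommRing A] [IsDomain A] [IsNoetherianRing A]
    [Field K] [Algebra A K] [IsFractionRing A K] [Field L] [Algebra K L] [FiniteDimensional K L]
    [Algebra A L] [IsScalarTower A K L] [Module.Finite A ↥(integralClosure A L)] :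
    Module.IsReflexive A ↥(integralClosure A L) := by
  classical
  have hinj : Function.Injective (algebraMap A K) := IsFractionRing.injective A K
  -- a `K`-basis of `L` inside the integral closure
  obtain ⟨n, bas, hbas⟩ : ∃ (n : ℕ) (bas : Basis (Fin n) K L),
      ∀ i, bas i ∈ integralClosure A L := by
    obtain ⟨y, hy0, hy⟩ := exists_integral_multiples A K
      (Finset.univ.image (Module.finBasis K L))
    have hyK : algebraMap A K y ≠ 0 := fun h => hy0 (hinj (by rw [h, map_zero]))
    refine ⟨_, (Module.finBasis K L).isUnitSMul (w := fun _ => algebraMap A K y)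
      (fun _ => IsUnit.mk0 _ hyK), fun i => ?_⟩
    have h1 : ((Module.finBasis K L).isUnitSMul (w := fun _ => algebraMap A K y)
        (fun _ => IsUnit.mk0 _ hyK)) i = y • (Module.finBasis K L) i := by
      rw [Basis.isUnitSMul_apply, algebraMap_smul]
    rw [h1]
    exact hy _ (Finset.mem_image_of_mem _ (Finset.mem_univ i))
  -- generators and a common denominator
  obtain ⟨m, g, hg⟩ := Module.Finite.exists_fin (R := A) (M := ↥(integralClosure A L))
  obtain ⟨⟨d, hd⟩, hdint⟩ := IsLocalization.exist_integer_multiples_of_finset (nonZeroDivisors A)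
    (Finset.univ.image (fun ij : Fin n × Fin m => bas.repr ((g ij.2 : ↥(integralClosure A L)) : L) ij.1))
  have hd0 : d ≠ 0 := nonZeroDivisors.ne_zero hd
  have hdK : algebraMap A K d ≠ 0 := fun h => hd0 (hinj (by rw [h, map_zero]))
  have C1 : ∀ b : ↥(integralClosure A L), ∀ i,
      ∃ a : A, algebraMap A K a = algebraMap A K d * bas.repr (b : L) i := by
    intro b
    have hb : b ∈ Submodule.span A (Set.range g) := by rw [hg]; trivial
    refine Submodule.span_induction
      (p := fun (b : ↥(integralClosure A L)) _ => ∀ i, ∃ a : A, algebraMap A K a = algebraMap A K d * bas.repr (b : L) i)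
      ?_ ?_ ?_ ?_ hb
    · rintro x ⟨j, rfl⟩ i
      obtain ⟨a, ha⟩ := hdint (bas.repr ((g j : ↥(integralClosure A L)) : L) i)
        (Finset.mem_image.mpr ⟨(i, j), Finset.mem_univ _, rfl⟩)
      refine ⟨a, ha.trans ?_⟩
      exact Algebra.smul_def d _
    · intro i
      exact ⟨0, by simp⟩
    · intro x y _ _ hx hy i
      obtain ⟨a₁, h₁⟩ := hx i
      obtain ⟨a₂, h₂⟩ := hy i
      refine ⟨a₁ + a₂, ?_⟩
      rw [map_add, h₁, h₂]
      have : ((x + y : ↥(integralClosure A L)) : L) = (x : L) + (y : L) := rfl
      rw [this, map_add, Finsupp.add_apply, mul_add]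
    · intro c x _ hx i
      obtain ⟨a, ha⟩ := hx i
      refine ⟨c * a, ?_⟩
      have h1 : ((c • x : ↥(integralClosure A L)) : L) = algebraMap A K c • (x : L) :=
        (algebraMap_smul K c (x : L)).symm
      rw [map_mul, ha, h1, map_smul, Finsupp.smul_apply, smul_eq_mul]
      ring
  -- coordinate functionals with values in `A`
  have hφ : ∀ i, ∃ φ : ↥(integralClosure A L) →ₗ[A] A,
      ∀ b, algebraMap A K (φ b) = algebraMap A K d * bas.repr (b : L) i := by
    intro i
    have hμ : ∀ b : ↥(integralClosure A L),
        (d • (((bas.coord i).restrictScalars A).comp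
          (integralClosure A L).val.toLinearMap)) b = algebraMap A K d * bas.repr (b : L) i := by
      intro b
      show d • bas.repr (b : L) i = _
      rw [Algebra.smul_def]
    obtain ⟨φ, hφ⟩ := exists_lift_map (A := A) (K := K)
      (d • (((bas.coord i).restrictScalars A).comp (integralClosure A L).val.toLinearMap))
      (fun b => by
        obtain ⟨a, ha⟩ := C1 b i
        exact ⟨a, ha.trans (hμ b).symm⟩)
    exact ⟨φ, fun b => (hφ b).trans (hμ b)⟩
  choose φ hφ using hφ
  obtain ⟨e, he⟩ : ∃ e : Fin n → ↥(integralClosure A L), ∀ i, ((e i : ↥(integralClosure A L)) : L) = bas i :=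
    ⟨fun i => ⟨bas i, hbas i⟩, fun i => rfl⟩
  -- the expansion of `d • b`
  have hB : ∀ b : ↥(integralClosure A L), d • b = ∑ i, φ i b • e i := by
    intro b
    apply Subtype.ext
    have hL : d • (b : L) = ∑ i, φ i b • bas i := by
      conv_lhs => rw [← bas.sum_repr (b : L)]
      rw [Finset.smul_sum]
      refine Finset.sum_congr rfl (fun i _ => ?_)
      rw [← algebraMap_smul K (φ i b) (bas i), hφ i b,
        ← algebraMap_smul K d (bas.repr (b : L) i • bas i), smul_smul]
    have h2 : ((d • b : ↥(integralClosure A L)) : L) = d • (b : L) := rfl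
    rw [h2, hL, AddSubmonoidClass.coe_finsetSum]
    refine Finset.sum_congr rfl (fun i _ => ?_)
    have h3 : ((φ i b • e i : ↥(integralClosure A L)) : L) = φ i b • ((e i : ↥(integralClosure A L)) : L) := rfl
    rw [h3, he i]
  have hdual : ∀ φ' : Module.Dual A ↥(integralClosure A L), d • φ' = ∑ i, φ' (e i) • φ i := by
    intro φ'
    ext b
    have h1 := congrArg φ' (hB b)
    rw [map_smul, map_sum] at h1
    rw [LinearMap.smul_apply, h1, LinearMap.sum_apply]
    refine Finset.sum_congr rfl (fun i _ => ?_)
    rw [map_smul, LinearMap.smul_apply, smul_eq_mul, smul_eq_mul, mul_comm]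
  -- extension of functionals to `L`
  have K1 : ∀ (φ' : Module.Dual A ↥(integralClosure A L)) (b : ↥(integralClosure A L)),
      algebraMap A K (φ' b) = (bas.constr K (fun i => algebraMap A K (φ' (e i)))) (b : L) := by
    intro φ' b
    have h1 : d * φ' b = ∑ i, φ' (e i) * φ i b := by
      have h := LinearMap.congr_fun (hdual φ') b
      rw [LinearMap.smul_apply, LinearMap.sum_apply, smul_eq_mul] at h
      rw [h]
      refine Finset.sum_congr rfl (fun i _ => ?_)
      rw [LinearMap.smul_apply, smul_eq_mul]
    apply mul_left_cancel₀ hdK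
    rw [← map_mul, h1, map_sum, Basis.constr_apply_fintype, Finset.mul_sum]
    refine Finset.sum_congr rfl (fun i _ => ?_)
    rw [map_mul, hφ i b, Basis.equivFun_apply, smul_eq_mul]
    ring
  -- the dual hull is integral
  have hle : Subalgebra.toSubmodule (dualHull A K L) ≤
      Submodule.span A (Set.range (fun i => (algebraMap A K d)⁻¹ • bas i)) := by
    intro x hx
    have hx2 : ∀ lam : L →ₗ[K] K,
        (∀ b : ↥(integralClosure A L), ∃ a : A, algebraMap A K a = lam (b : L)) →
          ∃ a : A, algebraMap A K a = lam x := hx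
    have hco : ∀ i, ∃ a : A, algebraMap A K a = algebraMap A K d * bas.repr x i := by
      intro i
      obtain ⟨a, ha⟩ := hx2 (algebraMap A K d • bas.coord i) (fun b => by
        obtain ⟨a, ha⟩ := C1 b i
        exact ⟨a, ha.trans rfl⟩)
      exact ⟨a, ha.trans rfl⟩
    choose a ha using hco
    have hx' : x = ∑ i, a i • ((algebraMap A K d)⁻¹ • bas i) := by
      conv_lhs => rw [← bas.sum_repr x]
      refine Finset.sum_congr rfl (fun i _ => ?_)
      rw [← algebraMap_smul K (a i) ((algebraMap A K d)⁻¹ • bas i), smul_smul, ha i]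
      congr 1
      field_simp
    rw [hx']
    exact Submodule.sum_mem _ (fun i _ => Submodule.smul_mem _ _ (Submodule.subset_span ⟨i, rfl⟩))
  have hfg : (Subalgebra.toSubmodule (dualHull A K L)).FG := by
    haveI hN : IsNoetherian A ↥(Submodule.span A
        (Set.range (fun i => (algebraMap A K d)⁻¹ • bas i))) :=
      isNoetherian_span_of_finite A (Set.finite_range _)
    have h1 : (Submodule.comap (Submodule.span A
        (Set.range (fun i => (algebraMap A K d)⁻¹ • bas i))).subtype
        (Subalgebra.toSubmodule (dualHull A K L))).FG := IsNoetherian.noetherian _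
    have h2 := h1.map (Submodule.span A
        (Set.range (fun i => (algebraMap A K d)⁻¹ • bas i))).subtype
    rw [Submodule.map_comap_subtype, inf_eq_right.mpr hle] at h2
    exact h2
  have hint : ∀ x ∈ dualHull A K L, x ∈ integralClosure A L := fun x hx =>
    IsIntegral.of_mem_of_fg (dualHull A K L) hfg x hx
  refine ⟨⟨?_, ?_⟩⟩
  · -- injectivity
    refine (injective_iff_map_eq_zero (Module.Dual.eval A ↥(integralClosure A L))).mpr
      (fun b hb => ?_)
    have hz : ∀ i, bas.repr (b : L) i = 0 := by
      intro i
      have h1 : φ i b = 0 := by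
        have h := LinearMap.congr_fun hb (φ i)
        rw [Module.Dual.eval_apply] at h
        exact h
      have h2 := hφ i b
      rw [h1, map_zero] at h2
      exact (mul_eq_zero.mp h2.symm).resolve_left hdK
    have hb0 : (b : L) = 0 := by
      apply bas.repr.injective
      ext i
      rw [hz i, map_zero, Finsupp.zero_apply]
    exact Subtype.ext hb0
  · -- surjectivity
    intro ψ
    have hψ : ∀ φ' : Module.Dual A ↥(integralClosure A L),
        d * ψ φ' = ∑ i, φ' (e i) * ψ (φ i) := by
      intro φ'
      have h := congrArg ψ (hdual φ')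
      rw [map_smul, map_sum, smul_eq_mul] at h
      rw [h]
      refine Finset.sum_congr rfl (fun i _ => ?_)
      rw [map_smul, smul_eq_mul]
    obtain ⟨ℓ, hℓ⟩ : ∃ ℓ : L, ∀ i,
        bas.repr ℓ i = algebraMap A K (ψ (φ i)) / algebraMap A K d :=
      ⟨∑ i, (algebraMap A K (ψ (φ i)) / algebraMap A K d) • bas i, fun i =>
        congrFun (bas.repr_sum_self
          (fun i => algebraMap A K (ψ (φ i)) / algebraMap A K d)) i⟩
    have L1 : ∀ (lam : L →ₗ[K] K) (φ' : Module.Dual A ↥(integralClosure A L)),
        (∀ b : ↥(integralClosure A L), algebraMap A K (φ' b) = lam (b : L)) →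
          lam ℓ = algebraMap A K (ψ φ') := by
      intro lam φ' h
      have h1 : lam ℓ = ∑ i, bas.repr ℓ i * lam (bas i) := by
        conv_lhs => rw [← bas.sum_repr ℓ]
        rw [map_sum]
        refine Finset.sum_congr rfl (fun i _ => ?_)
        rw [map_smul, smul_eq_mul]
      have h2 : algebraMap A K d * algebraMap A K (ψ φ') =
          ∑ i, algebraMap A K (φ' (e i)) * algebraMap A K (ψ (φ i)) := by
        rw [← map_mul, hψ φ', map_sum]
        refine Finset.sum_congr rfl (fun i _ => ?_)
        rw [map_mul]
      have h3 : algebraMap A K (ψ φ') =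
          (∑ i, algebraMap A K (φ' (e i)) * algebraMap A K (ψ (φ i))) / algebraMap A K d := by
        rw [← h2, mul_div_cancel_left₀ _ hdK]
      rw [h1, h3, Finset.sum_div]
      refine Finset.sum_congr rfl (fun i _ => ?_)
      have h4 : lam (bas i) = algebraMap A K (φ' (e i)) := by
        rw [h (e i), he i]
      rw [hℓ i, h4]
      ring
    have hmem : ℓ ∈ dualHull A K L := by
      intro lam hlam
      obtain ⟨φ', hφ'⟩ := exists_lift_map (A := A) (K := K)
        ((lam.restrictScalars A).comp (integralClosure A L).val.toLinearMap)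
        (fun b => by
          obtain ⟨a, ha⟩ := hlam b
          exact ⟨a, ha.trans rfl⟩)
      exact ⟨ψ φ', (L1 lam φ' (fun b => (hφ' b).trans rfl)).symm⟩
    refine ⟨⟨ℓ, hint ℓ hmem⟩, ?_⟩
    ext φ'
    rw [Module.Dual.eval_apply]
    apply hinj
    rw [K1 φ' ⟨ℓ, hint ℓ hmem⟩]
    exact L1 _ φ' (K1 φ')

end Groth.Agent.Lib.IntClosReflH4
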