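import Mathlib
import Groth.Agent.Lib.LocalCrit3_helper9
import Groth.Agent.Lib.LocalCrit8_helper9

/-!
# Descent of flatness along ring maps inducing the adic topology
-/

namespace Groth.Agent.Lib.LocalCrit10

open TensorProduct Groth.Agent.Lib.LocalCrit2 Groth.Agent.Lib.LocalCrit8

universe u

/-- Let `A → B` be a local homomorphism of Noetherian local rings, `φ : A → A'` a ring map and `𝔯`
an ideal of `A'` containing `φ(𝔪)` such that every power of `𝔪` contains some `φ⁻¹(𝔯^N)`. If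
`A' ⊗_A B` is flat over `A'` then `B` is flat over `A`. -/
theorem flat_of_flat_baseChange_of_topology (A B A' : Type u) [CommRing A] [CommRing B]
    [CommRing A'] [IsNoetherianRing A] [IsLocalRing A] [IsNoetherianRing B] [IsLocalRing B]
    [Algebra A B] [IsLocalHom (algebraMap A B)] [Algebra A A']
    (𝔯 : Ideal A') (hm : (IsLocalRing.maximalIdeal A).map (algebraMap A A') ≤ 𝔯)
    (htop : ∀ n : ℕ, ∃ N : ℕ, (𝔯 ^ N).comap (algebraMap A A') ≤ (IsLocalRing.maximalIdeal A) ^ n)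
    [Module.Flat A' (A' ⊗[A] B)] : Module.Flat A B := by
  refine Groth.Agent.Lib.LocalCrit3.flat_of_forall_flat_quot_pow (S := B)
    (IsLocalRing.maximalIdeal A) ?_ B (fun n => ?_)
  · exact (IsLocalRing.map_maximalIdeal_le (algebraMap A B)).trans
      (IsLocalRing.maximalIdeal_le_jacobson ⊥)
  obtain ⟨N, hN⟩ := htop (n + 1)
  obtain ⟨𝔟, h𝔟⟩ : ∃ 𝔟 : Ideal A', 𝔟 = 𝔯 ^ N := ⟨_, rfl⟩
  rw [← h𝔟] at hN
  -- the nilpotent ideal
  have hmN : (IsLocalRing.maximalIdeal A) ^ N ≤ 𝔟.comap (algebraMap A A') := by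
    rw [← Ideal.map_le_iff_le_comap, Ideal.map_pow, h𝔟]
    exact Ideal.pow_right_mono hm N
  have hnil : IsNilpotent ((IsLocalRing.maximalIdeal A).map
      (algebraMap A (A ⧸ 𝔟.comap (algebraMap A A')))) := by
    refine ⟨N, ?_⟩
    rw [← Ideal.map_pow, Ideal.zero_eq_bot, Ideal.map_eq_bot_iff_le_ker]
    refine hmN.trans (le_of_eq ?_)
    exact (Ideal.mk_ker).symm
  -- flatness over the residue field
  letI : Field (A ⧸ IsLocalRing.maximalIdeal A) := Ideal.Quotient.field _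
  haveI : Module.Flat (A ⧸ IsLocalRing.maximalIdeal A)
      ((A ⧸ IsLocalRing.maximalIdeal A) ⊗[A] B) := inferInstance
  haveI : Module.Flat ((A ⧸ 𝔟.comap (algebraMap A A')) ⧸
        (IsLocalRing.maximalIdeal A).map (algebraMap A (A ⧸ 𝔟.comap (algebraMap A A'))))
      (((A ⧸ 𝔟.comap (algebraMap A A')) ⧸
        (IsLocalRing.maximalIdeal A).map (algebraMap A (A ⧸ 𝔟.comap (algebraMap A A')))) ⊗[A] B) :=
    flat_baseChange_of_algebra A (A ⧸ IsLocalRing.maximalIdeal A) _ B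
  haveI : Module.Flat ((A ⧸ 𝔟.comap (algebraMap A A')) ⧸
        (IsLocalRing.maximalIdeal A).map (algebraMap A (A ⧸ 𝔟.comap (algebraMap A A'))))
      (((A ⧸ 𝔟.comap (algebraMap A A')) ⧸
        (IsLocalRing.maximalIdeal A).map (algebraMap A (A ⧸ 𝔟.comap (algebraMap A A'))))
          ⊗[A ⧸ 𝔟.comap (algebraMap A A')] ((A ⧸ 𝔟.comap (algebraMap A A')) ⊗[A] B)) :=
    flat_baseChange_baseChange A (A ⧸ 𝔟.comap (algebraMap A A')) _ B
  haveI : Module.Flat (A' ⧸ 𝔟) ((A' ⧸ 𝔟) ⊗[A] B) :=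
    flat_baseChange_of_algebra A A' (A' ⧸ 𝔟) B
  haveI : Module.Flat (A' ⧸ 𝔟)
      ((A' ⧸ 𝔟) ⊗[A ⧸ 𝔟.comap (algebraMap A A')] ((A ⧸ 𝔟.comap (algebraMap A A')) ⊗[A] B)) :=
    flat_baseChange_baseChange A (A ⧸ 𝔟.comap (algebraMap A A')) (A' ⧸ 𝔟) B
  haveI hflat : Module.Flat (A ⧸ 𝔟.comap (algebraMap A A'))
      ((A ⧸ 𝔟.comap (algebraMap A A')) ⊗[A] B) :=
    flat_of_nilpotent_of_injective (A ⧸ 𝔟.comap (algebraMap A A')) (A' ⧸ 𝔟)
      Ideal.algebraMap_quotient_injective _ hnil _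
  -- base change to `A ⧸ 𝔪^(n+1)`
  letI : Algebra (A ⧸ 𝔟.comap (algebraMap A A')) (A ⧸ (IsLocalRing.maximalIdeal A) ^ (n + 1)) :=
    (Ideal.Quotient.factor hN).toAlgebra
  haveI : IsScalarTower A (A ⧸ 𝔟.comap (algebraMap A A'))
      (A ⧸ (IsLocalRing.maximalIdeal A) ^ (n + 1)) :=
    IsScalarTower.of_algebraMap_eq (fun x => rfl)
  exact flat_baseChange_of_algebra A (A ⧸ 𝔟.comap (algebraMap A A')) _ B

/-- Artin–Rees: for a finite injective ring map `A → A'` with `A` Noetherian, the `𝔪`-adic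
topology of `A` is induced by the `𝔪A'`-adic topology of `A'`. -/
lemma comap_map_pow_le {A A' : Type*} [CommRing A] [CommRing A'] [IsNoetherianRing A]
    [Algebra A A'] [Module.Finite A A']
    (hinj : Function.Injective (algebraMap A A')) (m : Ideal A) (n : ℕ) :
    ∃ N, ((m.map (algebraMap A A')) ^ N).comap (algebraMap A A') ≤ m ^ n := by
  obtain ⟨c, hc⟩ := Ideal.exists_pow_inf_eq_pow_smul m (LinearMap.range (Algebra.linearMap A A'))
  refine ⟨n + c, ?_⟩
  intro x hx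
  rw [Ideal.mem_comap] at hx
  have h1 : algebraMap A A' x ∈ m ^ (n + c) • (⊤ : Submodule A A') ⊓
      LinearMap.range (Algebra.linearMap A A') := by
    refine ⟨?_, ⟨x, rfl⟩⟩
    rw [Ideal.smul_top_eq_map, Ideal.map_pow]
    exact hx
  rw [hc (n + c) (Nat.le_add_left c n), Nat.add_sub_cancel] at h1
  have h2 : algebraMap A A' x ∈ m ^ n • LinearMap.range (Algebra.linearMap A A') :=
    Submodule.smul_mono le_rfl inf_le_right h1
  rw [← Submodule.map_top, ← Submodule.map_smul'', smul_eq_mul, Ideal.mul_top] at h2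
  obtain ⟨y, hy, hxy⟩ := h2
  have : y = x := hinj hxy
  rwa [← this]

end Groth.Agent.Lib.LocalCrit10
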