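import Mathlib
import Groth.Agent.Lib.LocalCrit3_helper9
import Groth.Agent.Lib.LocalCrit8_helper9
import Groth.Agent.Lib.LocalCrit10_helper9

/-!
# Descent of flatness along finite injective maps of Noetherian local rings (module version)
-/

namespace Groth.Agent.Lib.IntDescH8

open TensorProduct Groth.Agent.Lib.LocalCrit2 Groth.Agent.Lib.LocalCrit8

universe u

/-- N0: `A` Noetherian local, `A → A'` finite injective, `M` an `A`-module with `A' ⊗ M` flat over `A'`.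
Then all `M/𝔪^{n+1}M` are flat over `A/𝔪^{n+1}`. -/
theorem flat_quot_pow_of_flat_baseChange (A A' : Type u) [CommRing A] [CommRing A']
    [IsNoetherianRing A] [IsLocalRing A] [Algebra A A'] [Module.Finite A A']
    (hinj : Function.Injective (algebraMap A A'))
    (M : Type u) [AddCommGroup M] [Module A M]
    [Module.Flat A' (A' ⊗[A] M)] (n : ℕ) :
    Module.Flat (A ⧸ (IsLocalRing.maximalIdeal A) ^ (n + 1))
      ((A ⧸ (IsLocalRing.maximalIdeal A) ^ (n + 1)) ⊗[A] M) := by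
  obtain ⟨N, hN⟩ := Groth.Agent.Lib.LocalCrit10.comap_map_pow_le hinj
    (IsLocalRing.maximalIdeal A) (n + 1)
  obtain ⟨𝔟, h𝔟⟩ : ∃ 𝔟 : Ideal A',
    𝔟 = ((IsLocalRing.maximalIdeal A).map (algebraMap A A')) ^ N := ⟨_, rfl⟩
  rw [← h𝔟] at hN
  have hmN : (IsLocalRing.maximalIdeal A) ^ N ≤ 𝔟.comap (algebraMap A A') := by
    rw [← Ideal.map_le_iff_le_comap, Ideal.map_pow, h𝔟]
  have hnil : IsNilpotent ((IsLocalRing.maximalIdeal A).map
      (algebraMap A (A ⧸ 𝔟.comap (algebraMap A A')))) := by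
    refine ⟨N, ?_⟩
    rw [← Ideal.map_pow, Ideal.zero_eq_bot, Ideal.map_eq_bot_iff_le_ker]
    refine hmN.trans (le_of_eq ?_)
    exact (Ideal.mk_ker).symm
  letI : Field (A ⧸ IsLocalRing.maximalIdeal A) := Ideal.Quotient.field _
  haveI : Module.Flat (A ⧸ IsLocalRing.maximalIdeal A)
      ((A ⧸ IsLocalRing.maximalIdeal A) ⊗[A] M) := inferInstance
  haveI : Module.Flat ((A ⧸ 𝔟.comap (algebraMap A A')) ⧸
        (IsLocalRing.maximalIdeal A).map (algebraMap A (A ⧸ 𝔟.comap (algebraMap A A'))))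
      (((A ⧸ 𝔟.comap (algebraMap A A')) ⧸
        (IsLocalRing.maximalIdeal A).map (algebraMap A (A ⧸ 𝔟.comap (algebraMap A A')))) ⊗[A] M) :=
    flat_baseChange_of_algebra A (A ⧸ IsLocalRing.maximalIdeal A) _ M
  haveI : Module.Flat ((A ⧸ 𝔟.comap (algebraMap A A')) ⧸
        (IsLocalRing.maximalIdeal A).map (algebraMap A (A ⧸ 𝔟.comap (algebraMap A A'))))
      (((A ⧸ 𝔟.comap (algebraMap A A')) ⧸
        (IsLocalRing.maximalIdeal A).map (algebraMap A (A ⧸ 𝔟.comap (algebraMap A A'))))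
          ⊗[A ⧸ 𝔟.comap (algebraMap A A')] ((A ⧸ 𝔟.comap (algebraMap A A')) ⊗[A] M)) :=
    flat_baseChange_baseChange A (A ⧸ 𝔟.comap (algebraMap A A')) _ M
  haveI : Module.Flat (A' ⧸ 𝔟) ((A' ⧸ 𝔟) ⊗[A] M) :=
    flat_baseChange_of_algebra A A' (A' ⧸ 𝔟) M
  haveI : Module.Flat (A' ⧸ 𝔟)
      ((A' ⧸ 𝔟) ⊗[A ⧸ 𝔟.comap (algebraMap A A')] ((A ⧸ 𝔟.comap (algebraMap A A')) ⊗[A] M)) :=
    flat_baseChange_baseChange A (A ⧸ 𝔟.comap (algebraMap A A')) (A' ⧸ 𝔟) M
  haveI hflat : Module.Flat (A ⧸ 𝔟.comap (algebraMap A A'))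
      ((A ⧸ 𝔟.comap (algebraMap A A')) ⊗[A] M) :=
    flat_of_nilpotent_of_injective (A ⧸ 𝔟.comap (algebraMap A A')) (A' ⧸ 𝔟)
      Ideal.algebraMap_quotient_injective _ hnil _
  letI : Algebra (A ⧸ 𝔟.comap (algebraMap A A')) (A ⧸ (IsLocalRing.maximalIdeal A) ^ (n + 1)) :=
    (Ideal.Quotient.factor hN).toAlgebra
  haveI : IsScalarTower A (A ⧸ 𝔟.comap (algebraMap A A'))
      (A ⧸ (IsLocalRing.maximalIdeal A) ^ (n + 1)) :=
    IsScalarTower.of_algebraMap_eq (fun x => rfl)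
  exact flat_baseChange_of_algebra A (A ⧸ 𝔟.comap (algebraMap A A')) _ M

/-- N1: `A` Noetherian local, `A → A'` finite injective, `S` a Noetherian `A`-algebra with `𝔪S` in the
Jacobson radical, `Y` a finite `S`-module with `A' ⊗_A Y` flat over `A'`. Then `Y` is flat over `A`. -/
theorem flat_of_flat_baseChange_finite_injective (A A' S : Type u) [CommRing A] [CommRing A']
    [CommRing S] [IsNoetherianRing A] [IsLocalRing A] [Algebra A A'] [Module.Finite A A']
    (hinj : Function.Injective (algebraMap A A'))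
    [IsNoetherianRing S] [Algebra A S]
    (hI : (IsLocalRing.maximalIdeal A).map (algebraMap A S) ≤ Ideal.jacobson ⊥)
    (Y : Type u) [AddCommGroup Y] [Module S Y] [Module A Y] [IsScalarTower A S Y]
    [Module.Finite S Y] [Module.Flat A' (A' ⊗[A] Y)] : Module.Flat A Y :=
  Groth.Agent.Lib.LocalCrit3.flat_of_forall_flat_quot_pow (R := A) (S := S)
    (IsLocalRing.maximalIdeal A) hI Y
    (fun n => flat_quot_pow_of_flat_baseChange A A' hinj Y n)

end Groth.Agent.Lib.IntDescH8
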