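import Mathlib
import Groth.Agent.Lib.IntDesc1_helper8
import Groth.Agent.Lib.FlatDescA_helper6
import Groth.Agent.Lib.GenFreeG_helper8
import Groth.Agent.Lib.FlatStageA_helper8

/-!
# Descent of flatness along finite injective maps: the Noetherian global case
-/

set_option autoImplicit false

namespace Groth.Agent.Lib.IntDescH8

open TensorProduct Groth.Agent.Lib.LocalCrit8

universe u

attribute [local instance] Algebra.TensorProduct.rightAlgebra

/-- LF: flatness of `k' ⊗ X` over `k'` passes to localizations of `X` as a `C`-module. -/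
theorem flat_baseChange_of_isLocalizedModule (k k' C : Type*) [CommRing k] [CommRing k']
    [CommRing C] [Algebra k k'] [Algebra k C] (W : Submonoid C) {X Y : Type*}
    [AddCommGroup X] [Module k X] [Module C X] [IsScalarTower k C X]
    [AddCommGroup Y] [Module k Y] [Module C Y] [IsScalarTower k C Y]
    (g : X →ₗ[C] Y) [IsLocalizedModule W g] [Module.Flat k' (k' ⊗[k] X)] :
    Module.Flat k' (k' ⊗[k] Y) := by
  haveI : Module.Flat k' ((k' ⊗[k] C) ⊗[C] X) :=
    Module.Flat.of_linearEquiv (Algebra.IsPushout.cancelBaseChange k k' C (k' ⊗[k] C) X)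
  haveI := Groth.Agent.Lib.FlatDescAH6.isLocalizedModule_lTensor_algebra W g (k' ⊗[k] C)
  haveI : Module.Flat k' ((k' ⊗[k] C) ⊗[C] Y) :=
    GenFreeH8.flat_of_isLocalizedModule_algebra (R := k') (B := k' ⊗[k] C)
      (Algebra.algebraMapSubmonoid (k' ⊗[k] C) W)
      (AlgebraTensorModule.lTensor (k' ⊗[k] C) (k' ⊗[k] C) g)
  exact Module.Flat.of_linearEquiv
    (Algebra.IsPushout.cancelBaseChange k k' C (k' ⊗[k] C) Y).symm

/-- N2 local: descent at a localization. -/
theorem flat_of_flat_baseChange_local (R' S'' A Sq : Type u) [CommRing R'] [CommRing S'']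
    [CommRing A] [CommRing Sq] [IsNoetherianRing R'] [Algebra R' S''] [Module.Finite R' S'']
    (hinj : Function.Injective (algebraMap R' S''))
    (p : Ideal R') [p.IsPrime] [Algebra R' A] [IsLocalization.AtPrime A p] [IsLocalRing A]
    [IsNoetherianRing Sq] [Algebra A Sq]
    (hI : (IsLocalRing.maximalIdeal A).map (algebraMap A Sq) ≤ Ideal.jacobson ⊥)
    (Y : Type u) [AddCommGroup Y] [Module Sq Y] [Module A Y] [IsScalarTower A Sq Y]
    [Module R' Y] [IsScalarTower R' A Y]
    [Module.Finite Sq Y] [Module.Flat S'' (S'' ⊗[R'] Y)] : Module.Flat R' Y := by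
  haveI : IsNoetherianRing A := IsLocalization.isNoetherianRing p.primeCompl A inferInstance
  haveI : Module.Flat R' A := IsLocalization.flat A p.primeCompl
  haveI : Module.Finite A (A ⊗[R'] S'') := inferInstance
  have hinj' : Function.Injective (algebraMap A (A ⊗[R'] S'')) := by
    have h1 := Module.Flat.lTensor_preserves_injective_linearMap (M := A)
      (Algebra.linearMap R' S'') hinj
    have h2 : Function.Injective
        (((Algebra.linearMap R' S'').lTensor A) ∘ (TensorProduct.rid R' A).symm) :=
      h1.comp (TensorProduct.rid R' A).symm.injective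
    convert h2 using 1
    ext a
    simp [Algebra.TensorProduct.algebraMap_apply]
  haveI : Module.Flat (A ⊗[R'] S'') ((A ⊗[R'] S'') ⊗[R'] Y) :=
    flat_baseChange_of_algebra R' S'' (A ⊗[R'] S'') Y
  haveI := IsLocalization.tensorProduct_compatibleSMul p.primeCompl A (A ⊗[R'] S'') Y
  haveI : Module.Flat (A ⊗[R'] S'') ((A ⊗[R'] S'') ⊗[A] Y) :=
    Module.Flat.of_linearEquiv
      (TensorProduct.equivOfCompatibleSMul R' A (A ⊗[R'] S'') (A ⊗[R'] S'') Y)
  haveI : Module.Flat A Y :=
    flat_of_flat_baseChange_finite_injective A (A ⊗[R'] S'') Sq hinj' hI Y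
  exact Module.Flat.trans R' A Y

end Groth.Agent.Lib.IntDescH8
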