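import Mathlib
import Groth.Agent.Lib.IntDesc2_helper8

/-!
# Descent of flatness along finite injective maps: the Noetherian global case (II)
-/

set_option autoImplicit false

namespace Groth.Agent.Lib.IntDescH8

open TensorProduct Groth.Agent.Lib.LocalCrit8

universe u

/-- N2: `R'` Noetherian, `R' → S''` finite injective, `P'` a Noetherian `R'`-algebra, `M'` a finite
`P'`-module with `S'' ⊗ M'` flat over `S''`. Then `M'` is flat over `R'`. -/
theorem flat_of_flat_baseChange_noetherian (R' S'' P' : Type u) [CommRing R'] [CommRing S'']
    [CommRing P'] [IsNoetherianRing R'] [Algebra R' S''] [Module.Finite R' S'']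
    (hinj : Function.Injective (algebraMap R' S''))
    [IsNoetherianRing P'] [Algebra R' P']
    (M' : Type u) [AddCommGroup M'] [Module P' M'] [Module R' M'] [IsScalarTower R' P' M']
    [Module.Finite P' M'] [Module.Flat S'' (S'' ⊗[R'] M')] : Module.Flat R' M' := by
  have key : ∀ (q : Ideal P') [q.IsPrime],
      Module.Flat R' (LocalizedModule q.primeCompl M') := by
    intro q _
    haveI : Module.Flat S'' (S'' ⊗[R'] (LocalizedModule q.primeCompl M')) :=
      flat_baseChange_of_isLocalizedModule R' S'' P' q.primeCompl
        (LocalizedModule.mkLinearMap q.primeCompl M')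
    letI : Algebra (Localization.AtPrime (q.comap (algebraMap R' P'))) (Localization.AtPrime q) :=
      (Localization.localRingHom (q.comap (algebraMap R' P')) q (algebraMap R' P') rfl).toAlgebra
    haveI : IsLocalHom (algebraMap (Localization.AtPrime (q.comap (algebraMap R' P')))
        (Localization.AtPrime q)) :=
      Localization.isLocalHom_localRingHom (q.comap (algebraMap R' P')) q (algebraMap R' P') rfl
    letI : Module (Localization.AtPrime (q.comap (algebraMap R' P')))
        (LocalizedModule q.primeCompl M') :=
      Module.compHom _ (algebraMap (Localization.AtPrime (q.comap (algebraMap R' P')))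
        (Localization.AtPrime q))
    haveI : IsScalarTower (Localization.AtPrime (q.comap (algebraMap R' P')))
        (Localization.AtPrime q) (LocalizedModule q.primeCompl M') :=
      ⟨fun a s y => by
        show (a • s) • y = (algebraMap _ (Localization.AtPrime q) a) • (s • y)
        rw [Algebra.smul_def, mul_smul]⟩
    haveI : IsScalarTower R' (Localization.AtPrime (q.comap (algebraMap R' P')))
        (LocalizedModule q.primeCompl M') :=
      ⟨fun r a y => by
        show (algebraMap _ (Localization.AtPrime q) (r • a)) • y =
          r • ((algebraMap _ (Localization.AtPrime q) a) • y)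
        rw [Algebra.smul_def, map_mul]
        have : algebraMap (Localization.AtPrime (q.comap (algebraMap R' P')))
            (Localization.AtPrime q) (algebraMap R' _ r) =
            algebraMap P' (Localization.AtPrime q) (algebraMap R' P' r) :=
          Localization.localRingHom_to_map _ _ _ rfl r
        rw [this, mul_smul, algebraMap_smul, algebraMap_smul]⟩
    exact flat_of_flat_baseChange_local R' S'' (Localization.AtPrime (q.comap (algebraMap R' P')))
      (Localization.AtPrime q) hinj (q.comap (algebraMap R' P'))
      ((IsLocalRing.map_maximalIdeal_le _).trans (IsLocalRing.maximalIdeal_le_jacobson ⊥))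
      (LocalizedModule q.primeCompl M')
  have h1 := Groth.Agent.Lib.FlatStageH8.flat_localizedModule_powers_of_forall_prime (k := R')
    (C := P') M' 1 (fun Q _ _ => key Q)
  haveI : IsLocalization (Submonoid.powers (1 : P')) P' :=
    IsLocalization.of_le_isUnit (by
      rw [Submonoid.powers_le]; exact isUnit_one)
  haveI : IsLocalizedModule (Submonoid.powers (1 : P')) (LinearMap.id : M' →ₗ[P'] M') :=
    isLocalizedModule_id _ _ P'
  exact Module.Flat.of_linearEquiv
    ((IsLocalizedModule.iso (Submonoid.powers (1 : P'))
      (LinearMap.id : M' →ₗ[P'] M')).restrictScalars R').symm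

end Groth.Agent.Lib.IntDescH8
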