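import Mathlib
import Groth.Agent.Lib.IntDesc3_helper8

/-!
# Finite approximation of an integral extension
-/

set_option autoImplicit false

namespace Groth.Agent.Lib.IntDescH8

open TensorProduct Groth.Agent.Lib.LocalCrit8 Polynomial

universe u

/-- integrality over a subalgebra containing the coefficients of a monic equation. -/
theorem isIntegral_subalgebra_of_coeffs {R₀ R S : Type*} [CommRing R₀] [CommRing R] [CommRing S]
    [Algebra R₀ R] [Algebra R S] (R' : Subalgebra R₀ R) (z : S) (p : R[X]) (hp : p.Monic)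
    (hz : eval₂ (algebraMap R S) z p = 0) (hc : (p.coeffs : Set R) ⊆ R') :
    IsIntegral R' z := by
  have hl : p ∈ Polynomial.lifts (algebraMap R' R) := by
    rw [Polynomial.lifts_iff_coeffs_subset_range]
    intro a ha
    exact ⟨⟨a, hc ha⟩, rfl⟩
  obtain ⟨q, hq, -, hqm⟩ := Polynomial.lifts_and_natDegree_eq_and_monic hl hp
  refine ⟨q, hqm, ?_⟩
  rw [← hq, Polynomial.eval₂_map] at hz
  exact hz

/-- FI': finite approximation of an integral injective extension carrying flatness. -/
theorem exists_finite_approx {R₀ R S : Type u} [CommRing R₀] [CommRing R] [CommRing S]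
    [Algebra R₀ R] [Algebra R S] [Algebra R₀ S] [IsScalarTower R₀ R S]
    [Algebra.IsIntegral R S] (hinj : Function.Injective (algebraMap R S))
    (M₁ : Type u) [AddCommGroup M₁] [Module R₀ M₁]
    (S' : Subalgebra R₀ S) (hS' : S'.FG) [Module.Flat S' (S' ⊗[R₀] M₁)] :
    ∃ R' : Subalgebra R₀ R, R'.FG ∧ ∃ (S'' : Type u) (_ : CommRing S'') (_ : Algebra R' S''),
      Module.Finite R' S'' ∧ Function.Injective (algebraMap R' S'') ∧
        Module.Flat S'' (S'' ⊗[R'] (R' ⊗[R₀] M₁)) := by
  classical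
  obtain ⟨t, ht⟩ := hS'
  have hint : ∀ z : S, ∃ p : R[X], p.Monic ∧ eval₂ (algebraMap R S) z p = 0 :=
    fun z => Algebra.IsIntegral.isIntegral z
  choose p hpm hpz using hint
  obtain ⟨c, hc⟩ : ∃ c : Finset R, c = t.biUnion (fun z => (p z).coeffs) := ⟨_, rfl⟩
  obtain ⟨R', hR'⟩ : ∃ R' : Subalgebra R₀ R, R' = Algebra.adjoin R₀ (c : Set R) := ⟨_, rfl⟩
  have hR'fg : R'.FG := ⟨c, hR'.symm⟩
  have hcR' : ∀ z ∈ t, ((p z).coeffs : Set R) ⊆ R' := by
    intro z hz a ha
    rw [hR']
    refine Algebra.subset_adjoin ?_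
    rw [hc]
    simp only [Finset.coe_biUnion, Set.mem_iUnion]
    exact ⟨z, hz, ha⟩
  have hintz : ∀ z ∈ (t : Set S), IsIntegral R' z := fun z hz =>
    isIntegral_subalgebra_of_coeffs R' z (p z) (hpm z) (hpz z) (hcR' z hz)
  obtain ⟨S'', hS''⟩ : ∃ S'' : Subalgebra R' S, S'' = Algebra.adjoin R' (t : Set S) := ⟨_, rfl⟩
  have hfin : Module.Finite R' S'' := by
    rw [hS'']
    exact Module.Finite.of_fg (_root_.fg_adjoin_of_finite t.finite_toSet hintz)
  have hle : ∀ x ∈ S', x ∈ S'' := by
    intro x hx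
    rw [← ht] at hx
    have : Algebra.adjoin R₀ (t : Set S) ≤ S''.restrictScalars R₀ := by
      refine Algebra.adjoin_le ?_
      intro y hy
      rw [hS'']
      exact Algebra.subset_adjoin hy
    exact this hx
  refine ⟨R', hR'fg, S'', inferInstance, inferInstance, hfin, ?_, ?_⟩
  · intro a b hab
    have h1 : algebraMap R' S a = algebraMap R' S b := congrArg Subtype.val hab
    have h2 : algebraMap R S (a : R) = algebraMap R S (b : R) := h1
    exact Subtype.ext (hinj h2)
  · let φ : S' →+* S'' := (S'.val : S' →+* S).codRestrict S'' (fun x => hle x x.2)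
    letI : Algebra S' S'' := φ.toAlgebra
    haveI : IsScalarTower R₀ S' S'' := IsScalarTower.of_algebraMap_eq (fun x => rfl)
    haveI : Module.Flat S'' (S'' ⊗[R₀] M₁) := flat_baseChange_of_algebra R₀ S' S'' M₁
    exact flat_baseChange_baseChange R₀ R' S'' M₁

end Groth.Agent.Lib.IntDescH8
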