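import Mathlib
import Groth.Agent.Lib.IntDesc4_helper8
import Groth.Agent.Lib.FlatDesc12_helper8

/-!
# Descent of flatness along injective integral ring maps (finitely presented case)
-/

set_option autoImplicit false

namespace Groth.Agent.Lib.IntDescH8

open TensorProduct Groth.Agent.Lib.LocalCrit8 Groth.Agent.Lib.FlatDescH8

universe u

attribute [local instance] Algebra.TensorProduct.rightAlgebra

/-- **Theorem G**: let `R → S` be an injective integral ring map, `P` a finitely presented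
`R`-algebra and `M` a finitely presented `P`-module. If `S ⊗_R M` is flat over `S`, then `M` is flat
over `R`. -/
theorem flat_of_flat_baseChange_integral (R S : Type u) [CommRing R] [CommRing S] [Algebra R S]
    [Algebra.IsIntegral R S] (hinj : Function.Injective (algebraMap R S))
    (P : Type u) [CommRing P] [Algebra R P] [Algebra.FinitePresentation R P]
    (M : Type u) [AddCommGroup M] [Module P M] [Module R M] [IsScalarTower R P M]
    [Module.FinitePresentation P M] [Module.Flat S (S ⊗[R] M)] : Module.Flat R M := by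
  obtain ⟨R₀, _, _, _, _, B₁, _, _, _, _, M₁, _, _, _, _, f, hft, -, hfp, hfin, hpush, hbc⟩ :=
    exists_model R P M
  letI : Module R₀ M₁ := Module.compHom M₁ (algebraMap R₀ B₁)
  haveI : IsScalarTower R₀ B₁ M₁ :=
    ⟨fun a x y => by
      show (a • x) • y = algebraMap R₀ B₁ a • (x • y)
      rw [Algebra.smul_def, mul_smul]⟩
  haveI : IsNoetherianRing R₀ := Algebra.FiniteType.isNoetherianRing ℤ R₀
  letI : Algebra R₀ S := ((algebraMap R S).comp (algebraMap R₀ R)).toAlgebra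
  haveI : IsScalarTower R₀ R S := IsScalarTower.of_algebraMap_eq (fun _ => rfl)
  obtain ⟨e₀, -⟩ : ∃ e₀ : R ⊗[R₀] M₁ ≃ₗ[R] M, True := ⟨modelEquiv hbc, trivial⟩
  haveI : Module.Flat S (S ⊗[R₀] M₁) := Module.Flat.of_linearEquiv (trEquiv e₀ S).symm
  obtain ⟨S', hS'fg, hS'flat⟩ := exists_fg_subalgebra_flat' (A₁ := R₀) (B₁ := B₁) M₁ S
  haveI := hS'flat
  obtain ⟨R', hR'fg, S'', _, _, hfin'', hinj'', hflat''⟩ :=
    exists_finite_approx hinj M₁ S' hS'fg
  haveI := hfin''
  haveI := hflat''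
  haveI : Algebra.FiniteType R₀ R' := (Subalgebra.fg_iff_finiteType R').mp hR'fg
  haveI : IsNoetherianRing R' := Algebra.FiniteType.isNoetherianRing R₀ R'
  haveI : IsNoetherianRing (R' ⊗[R₀] B₁) := Algebra.FiniteType.isNoetherianRing R' _
  obtain ⟨e', -⟩ : ∃ e' : (R' ⊗[R₀] B₁) ⊗[B₁] M₁ ≃ₗ[R'] R' ⊗[R₀] M₁, True :=
    ⟨Algebra.IsPushout.cancelBaseChange R₀ R' B₁ (R' ⊗[R₀] B₁) M₁, trivial⟩
  haveI : Module.Flat S'' (S'' ⊗[R'] ((R' ⊗[R₀] B₁) ⊗[B₁] M₁)) :=
    Module.Flat.of_linearEquiv (LinearEquiv.baseChange R' S'' _ _ e')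
  haveI : Module.Flat R' ((R' ⊗[R₀] B₁) ⊗[B₁] M₁) :=
    flat_of_flat_baseChange_noetherian R' S'' (R' ⊗[R₀] B₁) hinj''
      ((R' ⊗[R₀] B₁) ⊗[B₁] M₁)
  haveI : Module.Flat R' (R' ⊗[R₀] M₁) := Module.Flat.of_linearEquiv e'.symm
  haveI : Module.Flat R (R ⊗[R₀] M₁) := flat_baseChange_of_algebra R₀ R' R M₁
  exact Module.Flat.of_linearEquiv e₀.symm

end Groth.Agent.Lib.IntDescH8
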