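import Mathlib
import Groth.Agent.Lib.IntDesc5_helper8
import Groth.Agent.S0387

/-!
# Pointwise descent of flatness along injective integral maps (algebra form)
-/

set_option autoImplicit false

namespace Groth.Agent.Lib.IntDescH8

open TensorProduct Groth.Agent.Lib.LocalCrit8

universe u

/-- ALG: pointwise descent along an injective integral base change. -/
theorem flat_localized_of_fibre_flat {A A' B B' : Type u} [CommRing A] [CommRing A'] [CommRing B]
    [CommRing B'] [Algebra A A'] [Algebra A B] [Algebra A' B'] [Algebra B B'] [Algebra A B']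
    [IsScalarTower A A' B'] [IsScalarTower A B B'] [Algebra.IsPushout A A' B B']
    [Algebra.IsIntegral A A'] (hinj : Function.Injective (algebraMap A A'))
    [Algebra.FinitePresentation A B] (q : Ideal B) [q.IsPrime]
    (h : ∀ (Q : Ideal B') [Q.IsPrime], Q.comap (algebraMap B B') = q →
      Module.Flat A' (LocalizedModule Q.primeCompl B')) :
    Module.Flat A (LocalizedModule q.primeCompl B) := by
  haveI : Algebra.FinitePresentation A' B' :=
    Algebra.FinitePresentation.equiv (Algebra.IsPushout.equiv A A' B B')
  have hopen : IsOpen {Q : PrimeSpectrum B' |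
      Module.Flat A' (LocalizedModule Q.asIdeal.primeCompl B')} :=
    Groth.Agent.S0387.result (R := A') (S := B') (M := B')
  have hint : (algebraMap B B').IsIntegral :=
    RingHom.isIntegral_isStableUnderBaseChange A A' B B'
      (algebraMap_isIntegral_iff.mpr inferInstance)
  have hclosed := PrimeSpectrum.isClosedMap_comap_of_isIntegral (algebraMap B B') hint
  have hZ := hclosed _ hopen.isClosed_compl
  have hq : (⟨q, inferInstance⟩ : PrimeSpectrum B) ∈
      (PrimeSpectrum.comap (algebraMap B B') ''
        {Q : PrimeSpectrum B' | Module.Flat A' (LocalizedModule Q.asIdeal.primeCompl B')}ᶜ)ᶜ := by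
    rintro ⟨Q, hQ, hQq⟩
    refine hQ (h Q.asIdeal ?_)
    exact congrArg PrimeSpectrum.asIdeal hQq
  obtain ⟨_, ⟨_, ⟨b, rfl⟩, rfl⟩, hqb, hbsub⟩ :=
    PrimeSpectrum.isBasis_basic_opens.exists_subset_of_mem_open hq hZ.isOpen_compl
  have hbq : b ∉ q := hqb
  -- flatness of the localization of `B'` at `b`
  have h1 : Module.Flat A' (LocalizedModule (Submonoid.powers (algebraMap B B' b)) B') := by
    refine Groth.Agent.Lib.FlatStageH8.flat_localizedModule_powers_of_forall_prime (k := A')
      (C := B') B' (algebraMap B B' b) (fun Q _ hbQ => ?_)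
    by_contra hcon
    have hmem : PrimeSpectrum.comap (algebraMap B B') ⟨Q, inferInstance⟩ ∈
        (PrimeSpectrum.basicOpen b : Set (PrimeSpectrum B)) := hbQ
    exact hbsub hmem ⟨⟨Q, inferInstance⟩, hcon, rfl⟩
  -- identify with `A' ⊗ B_b`
  haveI hloc := Groth.Agent.Lib.FlatDescAH6.isLocalizedModule_lTensor_algebra (Submonoid.powers b)
    (Algebra.linearMap B (Localization.Away b)) B'
  rw [Algebra.algebraMapSubmonoid_powers] at hloc
  haveI : IsLocalizedModule (Submonoid.powers (algebraMap B B' b))
      ((AlgebraTensorModule.lTensor B' B' (Algebra.linearMap B (Localization.Away b))) ∘ₗ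
        (AlgebraTensorModule.rid B B' B').symm.toLinearMap) :=
    IsLocalizedModule.of_linearEquiv_right _ _ _
  haveI h2 : Module.Flat A' (B' ⊗[B] Localization.Away b) :=
    (Groth.Agent.Lib.FlatLocFP1H6.flat_iff_of_isLocalizedModule (A := A')
      (Submonoid.powers (algebraMap B B' b))
      ((AlgebraTensorModule.lTensor B' B' (Algebra.linearMap B (Localization.Away b))) ∘ₗ
        (AlgebraTensorModule.rid B B' B').symm.toLinearMap)).mpr h1
  haveI h3 : Module.Flat A' (A' ⊗[A] Localization.Away b) :=
    Module.Flat.of_linearEquiv
      (Algebra.IsPushout.cancelBaseChange A A' B B' (Localization.Away b)).symm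
  haveI : Algebra.FinitePresentation B (Localization.Away b) :=
    IsLocalization.Away.finitePresentation b
  haveI : Algebra.FinitePresentation A (Localization.Away b) :=
    Algebra.FinitePresentation.trans A B (Localization.Away b)
  have h4 : Module.Flat A (Localization.Away b) :=
    flat_of_flat_baseChange_integral A A' hinj (Localization.Away b) (Localization.Away b)
  have h5 : Module.Flat A (LocalizedModule (Submonoid.powers b) B) :=
    (Groth.Agent.Lib.FlatLocFP1H6.flat_iff_of_isLocalizedModule (A := A)
      (Submonoid.powers b) (Algebra.linearMap B (Localization.Away b))).mp h4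
  refine Groth.Agent.Lib.FlatStageH8.flat_localizedModule_mono (k := A) (C := B) B ?_ h5
  rw [Submonoid.powers_le]
  exact hbq

end Groth.Agent.Lib.IntDescH8
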