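import Mathlib
import Groth.Agent.Lib.IntDesc6_helper8
import Groth.Agent.Lib.FlatBC4_helper8

/-!
# Pointwise descent of flatness along an injective integral base change of affine schemes
-/

set_option autoImplicit false

open CategoryTheory AlgebraicGeometry Opposite TopologicalSpace TensorProduct

universe u

namespace Groth.Agent.Lib.IntDescH8

variable {X S X' S' : Scheme.{u}} {f : X ⟶ S} {f' : X' ⟶ S'} {g' : X' ⟶ X} {g : S' ⟶ S}
  (hc : IsPullback g' f' f g)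

include hc in
set_option maxHeartbeats 800000 in
/-- GEOM: pointwise descent of flatness along `S' → S` affine, injective and integral on global
sections. -/
theorem flat_stalkMap_of_integral_pullback [IsAffine S] [IsAffine S']
    [LocallyOfFinitePresentation f]
    (hginj : Function.Injective (g.appLE ⊤ ⊤ le_top).hom)
    (hgint : (g.appLE ⊤ ⊤ le_top).hom.IsIntegral)
    (x : X) (h : ∀ x' : X', g' x' = x → (f'.stalkMap x').hom.Flat) :
    (f.stalkMap x).hom.Flat := by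
  have hW : IsAffineOpen (⊤ : S.Opens) := isAffineOpen_top S
  have hW' : IsAffineOpen (⊤ : S'.Opens) := isAffineOpen_top S'
  obtain ⟨_, ⟨U, hU : IsAffineOpen U, rfl⟩, hxU, -⟩ :=
    (X.isBasis_affineOpens).exists_subset_of_mem_open (Set.mem_univ x) isOpen_univ
  have hUW : U ≤ f ⁻¹ᵁ ⊤ := le_top
  have hW'W : (⊤ : S'.Opens) ≤ g ⁻¹ᵁ ⊤ := le_top
  obtain ⟨hU', hpo⟩ := FlatBC2H8.affine_pushout hc hW hU hW' hUW hW'W
  set U' : X'.Opens := g' ⁻¹ᵁ U ⊓ f' ⁻¹ᵁ ⊤ with hU'def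
  have hU'U : U' ≤ g' ⁻¹ᵁ U := inf_le_left
  have hU'W' : U' ≤ f' ⁻¹ᵁ ⊤ := inf_le_right
  -- algebra instances
  letI algAB : Algebra Γ(S, ⊤) Γ(X, U) := (f.appLE ⊤ U hUW).hom.toAlgebra
  letI algAA' : Algebra Γ(S, ⊤) Γ(S', ⊤) := (g.appLE ⊤ ⊤ hW'W).hom.toAlgebra
  letI algBB' : Algebra Γ(X, U) Γ(X', U') := (g'.appLE U U' hU'U).hom.toAlgebra
  letI algA'B' : Algebra Γ(S', ⊤) Γ(X', U') := (f'.appLE ⊤ U' hU'W').hom.toAlgebra
  letI algAB' : Algebra Γ(S, ⊤) Γ(X', U') :=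
    ((g'.appLE U U' hU'U).hom.comp (f.appLE ⊤ U hUW).hom).toAlgebra
  haveI : IsScalarTower Γ(S, ⊤) Γ(X, U) Γ(X', U') := IsScalarTower.of_algebraMap_eq' rfl
  haveI : IsScalarTower Γ(S, ⊤) Γ(S', ⊤) Γ(X', U') := by
    refine IsScalarTower.of_algebraMap_eq' ?_
    change (g'.appLE U U' hU'U).hom.comp (f.appLE ⊤ U hUW).hom =
      (f'.appLE ⊤ U' hU'W').hom.comp (g.appLE ⊤ ⊤ hW'W).hom
    rw [← CommRingCat.hom_comp, ← CommRingCat.hom_comp]
    congr 1
    exact hpo.w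
  haveI hpush : Algebra.IsPushout Γ(S, ⊤) Γ(X, U) Γ(S', ⊤) Γ(X', U') :=
    CommRingCat.isPushout_iff_isPushout.mp hpo
  haveI : Algebra.IsPushout Γ(S, ⊤) Γ(S', ⊤) Γ(X, U) Γ(X', U') := Algebra.IsPushout.symm hpush
  haveI : Algebra.FinitePresentation Γ(S, ⊤) Γ(X, U) :=
    HasRingHomProperty.appLE (P := @LocallyOfFinitePresentation) f inferInstance ⟨_, hW⟩ ⟨_, hU⟩ hUW
  haveI : Algebra.IsIntegral Γ(S, ⊤) Γ(S', ⊤) := algebraMap_isIntegral_iff.mp hgint
  have key : Module.Flat Γ(S, ⊤)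
      (LocalizedModule (hU.primeIdealOf ⟨x, hxU⟩).asIdeal.primeCompl Γ(X, U)) := by
    refine flat_localized_of_fibre_flat (A := Γ(S, ⊤)) (A' := Γ(S', ⊤)) (B := Γ(X, U))
      (B' := Γ(X', U')) hginj (hU.primeIdealOf ⟨x, hxU⟩).asIdeal (fun Q _ hQ => ?_)
    obtain ⟨y, hy⟩ : ∃ y : U', hU'.primeIdealOf y = ⟨Q, inferInstance⟩ :=
      ⟨hU'.isoSpec.inv ⟨Q, inferInstance⟩, by
        rw [IsAffineOpen.primeIdealOf, ← Scheme.Hom.comp_apply, Iso.inv_hom_id]; rfl⟩
    obtain ⟨x', hx'U'⟩ := y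
    have hgx : g' x' = x := by
      have hcm := IsAffineOpen.comap_primeIdealOf_appLE (f := g') U hU U' hU' hU'U hx'U'
      rw [hy] at hcm
      have h1 : hU.primeIdealOf ⟨g' x', hU'U hx'U'⟩ = hU.primeIdealOf ⟨x, hxU⟩ := by
        rw [← hcm]
        exact PrimeSpectrum.ext hQ
      have h2 := congrArg (fun p => hU.fromSpec p) h1
      simp only [IsAffineOpen.fromSpec_primeIdealOf] at h2
      exact h2
    have hfl := h x' hgx
    letI algA'L : Algebra Γ(S', ⊤) (S'.presheaf.stalk (f' x')) :=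
      TopCat.Presheaf.algebra_section_stalk S'.presheaf (⟨f' x', trivial⟩ : (⊤ : S'.Opens))
    haveI : IsLocalization.AtPrime (S'.presheaf.stalk (f' x'))
        (hW'.primeIdealOf ⟨f' x', trivial⟩).asIdeal := hW'.isLocalization_stalk ⟨f' x', trivial⟩
    letI algB'D : Algebra Γ(X', U') (X'.presheaf.stalk x') :=
      TopCat.Presheaf.algebra_section_stalk X'.presheaf (⟨x', hx'U'⟩ : U')
    haveI : IsLocalization.AtPrime (X'.presheaf.stalk x')
        (hU'.primeIdealOf ⟨x', hx'U'⟩).asIdeal := hU'.isLocalization_stalk ⟨x', hx'U'⟩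
    letI algLD : Algebra (S'.presheaf.stalk (f' x')) (X'.presheaf.stalk x') :=
      (f'.stalkMap x').hom.toAlgebra
    letI mA'D : Module Γ(S', ⊤) (X'.presheaf.stalk x') :=
      Module.compHom _ ((algebraMap Γ(X', U') (X'.presheaf.stalk x')).comp
        (f'.appLE ⊤ U' hU'W').hom)
    haveI : IsScalarTower Γ(S', ⊤) Γ(X', U') (X'.presheaf.stalk x') :=
      IsScalarTower.of_algebraMap_smul fun _ _ => rfl
    haveI : IsScalarTower Γ(S', ⊤) (S'.presheaf.stalk (f' x')) (X'.presheaf.stalk x') := by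
      refine IsScalarTower.of_algebraMap_smul fun a d => ?_
      show (f'.stalkMap x').hom ((S'.presheaf.germ ⊤ _ trivial).hom a) * d =
        (X'.presheaf.germ U' _ hx'U').hom ((f'.appLE ⊤ U' hU'W').hom a) * d
      rw [GenFlatSchH8.stalkMap_germ_appLE f' hU'W' hx'U' a]
    haveI : Module.Flat Γ(S', ⊤) (S'.presheaf.stalk (f' x')) :=
      IsLocalization.flat _ (hW'.primeIdealOf ⟨f' x', trivial⟩).asIdeal.primeCompl
    haveI : Module.Flat (S'.presheaf.stalk (f' x')) (X'.presheaf.stalk x') := hfl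
    have hflat : Module.Flat Γ(S', ⊤) (X'.presheaf.stalk x') :=
      Module.Flat.trans Γ(S', ⊤) (S'.presheaf.stalk (f' x')) _
    have hQeq : (hU'.primeIdealOf ⟨x', hx'U'⟩).asIdeal = Q := congrArg PrimeSpectrum.asIdeal hy
    haveI : IsLocalizedModule Q.primeCompl
        (Algebra.linearMap Γ(X', U') (X'.presheaf.stalk x')) := by
      have e : (hU'.primeIdealOf ⟨x', hx'U'⟩).asIdeal.primeCompl = Q.primeCompl :=
        Submonoid.ext fun z => by
          show z ∉ (hU'.primeIdealOf ⟨x', hx'U'⟩).asIdeal ↔ z ∉ Q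
          rw [hQeq]
      have : IsLocalization Q.primeCompl (X'.presheaf.stalk x') := by
        rw [← e]; infer_instance
      exact (isLocalizedModule_iff_isLocalization' _ _).mpr this
    exact (Groth.Agent.Lib.FlatLocFP1H6.flat_iff_of_isLocalizedModule (A := Γ(S', ⊤))
      Q.primeCompl (Algebra.linearMap Γ(X', U') (X'.presheaf.stalk x'))).mp hflat
  -- pass to the stalk of `X` at `x`
  letI algBBp : Algebra Γ(X, U) (X.presheaf.stalk x) :=
    TopCat.Presheaf.algebra_section_stalk X.presheaf (⟨x, hxU⟩ : U)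
  haveI : IsLocalization.AtPrime (X.presheaf.stalk x)
      (hU.primeIdealOf ⟨x, hxU⟩).asIdeal := hU.isLocalization_stalk ⟨_, hxU⟩
  letI mAD : Module Γ(S, ⊤) (X.presheaf.stalk x) :=
    Module.compHom _ ((algebraMap Γ(X, U) (X.presheaf.stalk x)).comp (f.appLE ⊤ U hUW).hom)
  haveI : IsScalarTower Γ(S, ⊤) Γ(X, U) (X.presheaf.stalk x) :=
    IsScalarTower.of_algebraMap_smul fun _ _ => rfl
  haveI : IsLocalizedModule (hU.primeIdealOf ⟨x, hxU⟩).asIdeal.primeCompl
      (Algebra.linearMap Γ(X, U) (X.presheaf.stalk x)) :=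
    (isLocalizedModule_iff_isLocalization' _ _).mpr inferInstance
  have key2 : Module.Flat Γ(S, ⊤) (X.presheaf.stalk x) :=
    (Groth.Agent.Lib.FlatLocFP1H6.flat_iff_of_isLocalizedModule (A := Γ(S, ⊤))
      (hU.primeIdealOf ⟨x, hxU⟩).asIdeal.primeCompl
      (Algebra.linearMap Γ(X, U) (X.presheaf.stalk x))).mpr key
  letI algAAq : Algebra Γ(S, ⊤) (S.presheaf.stalk (f x)) :=
    TopCat.Presheaf.algebra_section_stalk S.presheaf (⟨f x, trivial⟩ : (⊤ : S.Opens))
  haveI : IsLocalization.AtPrime (S.presheaf.stalk (f x))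
      (hW.primeIdealOf ⟨f x, trivial⟩).asIdeal := hW.isLocalization_stalk ⟨_, trivial⟩
  letI algAqD : Algebra (S.presheaf.stalk (f x)) (X.presheaf.stalk x) :=
    (f.stalkMap x).hom.toAlgebra
  haveI : IsScalarTower Γ(S, ⊤) (S.presheaf.stalk (f x)) (X.presheaf.stalk x) := by
    refine IsScalarTower.of_algebraMap_smul fun a d => ?_
    show (f.stalkMap x).hom ((S.presheaf.germ ⊤ _ trivial).hom a) * d =
      (X.presheaf.germ U _ hxU).hom ((f.appLE ⊤ U hUW).hom a) * d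
    rw [GenFlatSchH8.stalkMap_germ_appLE f hUW hxU a]
  exact (Module.flat_iff_of_isLocalization (S.presheaf.stalk (f x))
    (hW.primeIdealOf ⟨f x, trivial⟩).asIdeal.primeCompl _).mpr key2

end Groth.Agent.Lib.IntDescH8
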