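import Mathlib

/-!
# An integral self-adjoint operator between `0` and `1` for a positive definite integral form
is idempotent (helper3)
-/

set_option autoImplicit false

namespace Groth.Agent.Lib.IntIdem_helper3

variable {L : Type*} [AddCommGroup L]

/-- If `S` is self-adjoint with `0 ≤ S ≤ 1` then `S² ≤ S`. -/
theorem psd_prod (B : LinearMap.BilinForm ℤ L) (S : L →ₗ[ℤ] L)
    (hS : ∀ u v, B u (S v) = B (S u) v) (h0 : ∀ v, 0 ≤ B v (S v))
    (h1 : ∀ v, B v (S v) ≤ B v v) (v : L) : B (S v) (S v) ≤ B v (S v) := by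
  have e : B (v - S v) (S (v - S v)) =
      B v (S v) - B v (S (S v)) - B (S v) (S v) + B (S v) (S (S v)) := by
    simp only [map_sub, LinearMap.sub_apply]
    ring
  have e2 : B v (S (S v)) = B (S v) (S v) := hS v (S v)
  have a1 := h1 (S v)
  have a2 := h0 (v - S v)
  rw [e, e2] at a2
  linarith

theorem idem (B : LinearMap.BilinForm ℤ L) (hpos : ∀ v, v ≠ 0 → 0 < B v v)
    (T : L →ₗ[ℤ] L) (hT : ∀ u v, B u (T v) = B (T u) v) (h0 : ∀ v, 0 ≤ B v (T v))
    (h1 : ∀ v, B v (T v) ≤ B v v) (v : L) : T (T v) = T v := by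
  have hnn : ∀ w : L, 0 ≤ B w w := by
    intro w
    by_cases hw : w = 0
    · subst hw; simp
    · exact (hpos w hw).le
  -- P = T - T²
  let P : L →ₗ[ℤ] L := T - T ∘ₗ T
  have hPdef : ∀ w, P w = T w - T (T w) := fun w => rfl
  have hPsa : ∀ u w, B u (P w) = B (P u) w := by
    intro u w
    simp only [hPdef, map_sub, LinearMap.sub_apply]
    rw [hT u w, hT u (T w), hT (T u) w]
  have hQ : ∀ w, B w (P w) = B w (T w) - B (T w) (T w) := by
    intro w
    simp only [hPdef, map_sub]
    rw [hT w (T w)]
  have hQ0 : ∀ w, 0 ≤ B w (P w) := by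
    intro w
    rw [hQ]
    have := psd_prod B T hT h0 h1 w
    linarith
  have hQ1 : ∀ w, 4 * B w (P w) ≤ B w w := by
    intro w
    have e : B (w - (2 : ℤ) • T w) (w - (2 : ℤ) • T w) =
        B w w - 4 * B w (T w) + 4 * B (T w) (T w) := by
      simp only [map_sub, LinearMap.sub_apply, map_smul, LinearMap.smul_apply, smul_eq_mul]
      have : B (T w) w = B w (T w) := (hT w w).symm
      rw [this]
      ring
    have := hnn (w - (2 : ℤ) • T w)
    rw [e] at this
    rw [hQ]
    linarith
  -- S = 4 P
  let S : L →ₗ[ℤ] L := (4 : ℤ) • P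
  have hSdef : ∀ w, S w = (4 : ℤ) • P w := fun w => rfl
  have hSsa : ∀ u w, B u (S w) = B (S u) w := by
    intro u w
    simp only [hSdef, map_smul, LinearMap.smul_apply, smul_eq_mul]
    rw [hPsa]
  have hS0 : ∀ w, 0 ≤ B w (S w) := by
    intro w
    simp only [hSdef, map_smul, smul_eq_mul]
    have := hQ0 w
    linarith
  have hS1 : ∀ w, B w (S w) ≤ B w w := by
    intro w
    simp only [hSdef, map_smul, smul_eq_mul]
    exact hQ1 w
  have hbound : ∀ w, 16 * B (P w) (P w) ≤ B w w := by
    intro w
    have := psd_prod B S hSsa hS0 hS1 w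
    simp only [hSdef, map_smul, LinearMap.smul_apply, smul_eq_mul] at this
    have h2 := hQ1 w
    linarith
  have hP0 : ∀ n : ℕ, ∀ w : L, (B w w).toNat = n → P w = 0 := by
    intro n
    induction n using Nat.strong_induction_on with
    | _ n ih =>
      intro w hw
      by_cases hw0 : w = 0
      · subst hw0; simp
      have hpw := hpos w hw0
      have hb := hbound w
      have hnnP := hnn (P w)
      have hlt : (B (P w) (P w)).toNat < n := by
        rw [← hw]
        omega
      have hPP : P (P w) = 0 := ih _ hlt (P w) rfl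
      have hzero : B (P w) (P w) = 0 := by
        rw [← hPsa w (P w), hPP, map_zero]
      by_contra hne
      have := hpos (P w) hne
      omega
  have := hP0 _ v rfl
  rw [hPdef, sub_eq_zero] at this
  exact this.symm

end Groth.Agent.Lib.IntIdem_helper3
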