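import Mathlib
import Groth.Prelude
import Groth.Agent.Lib.GeomConnLoc_helper4
import Groth.Agent.Lib.GenFreeE_helper8

/-!
# Integrality of a global function over a base field does not depend on the base field

For `X` reduced, connected and locally of finite type over a field `k`, a global function `x` is
integral over `k` iff every integer polynomial in `x` is zero or a unit.
-/

set_option backward.isDefEq.respectTransparency false
set_option backward.isDefEq.respectTransparency.types false
set_option autoImplicit false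
set_option linter.style.haveILetI false
set_option linter.unusedVariables false
set_option linter.unusedSimpArgs false
set_option linter.unusedSectionVars false
set_option linter.style.longLine false
set_option maxHeartbeats 800000

universe u

open CategoryTheory CategoryTheory.Limits AlgebraicGeometry TopologicalSpace Opposite

namespace Groth.Agent.Lib.IntIndepH4

open Groth.Agent.Lib.GeomConn

section Euclid

open Polynomial

/-- Euclid-type sequence: `P 0 = 1`, `P (n+1) = P n * (X * P n + 1)`. -/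
noncomputable def euP : ℕ → Polynomial ℤ
  | 0 => 1
  | (n + 1) => euP n * (X * euP n + 1)

noncomputable def euS (n : ℕ) : Polynomial ℤ := X * euP n + 1

theorem euP_succ (n : ℕ) : euP (n + 1) = euP n * euS n := rfl

theorem euS_aux (p : Polynomial ℤ) (h : p.Monic) :
    (X * p + 1).Monic ∧ 0 < (X * p + 1).natDegree := by
  have h1 : (X * p).Monic := monic_X.mul h
  have hd : (X * p).natDegree = p.natDegree + 1 := by
    rw [mul_comm, natDegree_mul_X h.ne_zero]
  have hlt : (1 : Polynomial ℤ).degree < (X * p).degree := by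
    rw [degree_one, degree_eq_natDegree h1.ne_zero, hd]
    exact_mod_cast Nat.succ_pos _
  have hnd : (X * p + 1).natDegree = (X * p).natDegree :=
    natDegree_add_eq_left_of_natDegree_lt (by rw [natDegree_one, hd]; exact Nat.succ_pos _)
  refine ⟨h1.add_of_left hlt, ?_⟩
  rw [hnd, hd]
  exact Nat.succ_pos _

theorem euP_monic (n : ℕ) : (euP n).Monic := by
  induction n with
  | zero => exact monic_one
  | succ n ih =>
    rw [euP_succ]
    exact ih.mul (euS_aux (euP n) ih).1

theorem euS_monic (n : ℕ) : (euS n).Monic := (euS_aux (euP n) (euP_monic n)).1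

theorem euS_natDegree_pos (n : ℕ) : 0 < (euS n).natDegree := (euS_aux (euP n) (euP_monic n)).2

theorem euS_dvd_euP {i : ℕ} : ∀ {n : ℕ}, i < n → euS i ∣ euP n := by
  intro n
  induction n with
  | zero => intro h; exact absurd h (Nat.not_lt_zero _)
  | succ n ih =>
    intro h
    rw [euP_succ]
    rcases Nat.lt_succ_iff_lt_or_eq.mp h with h' | h'
    · exact Dvd.dvd.mul_right (ih h') _
    · rw [h']; exact dvd_mul_left _ _

theorem isCoprime_map_euS (k : Type u) [Field k] {i j : ℕ} (h : i < j) :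
    IsCoprime ((euS i).map (Int.castRingHom k)) ((euS j).map (Int.castRingHom k)) := by
  obtain ⟨w, hw⟩ := euS_dvd_euP h
  have h1 : euS j = X * (euS i * w) + 1 := by
    show X * euP j + 1 = _
    rw [hw]
  have h2 := congrArg (Polynomial.map (Int.castRingHom k)) h1
  rw [Polynomial.map_add, Polynomial.map_mul, Polynomial.map_mul, Polynomial.map_X,
    Polynomial.map_one] at h2
  refine ⟨-(X * w.map (Int.castRingHom k)), 1, ?_⟩
  rw [h2]
  ring

/-- For every nonzero polynomial over a field there is a monic nonconstant integer polynomial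
coprime to it. -/
theorem exists_coprime (k : Type u) [Field k] (g : Polynomial k) (hg : g ≠ 0) :
    ∃ q : Polynomial ℤ, q.Monic ∧ 0 < q.natDegree ∧ IsCoprime (q.map (Int.castRingHom k)) g := by
  classical
  by_contra hcon
  have hnc : ∀ n, ¬ IsCoprime ((euS n).map (Int.castRingHom k)) g :=
    fun n h => hcon ⟨euS n, euS_monic n, euS_natDegree_pos n, h⟩
  have hex : ∀ n, ∃ d : Polynomial k, d ∣ (euS n).map (Int.castRingHom k) ∧ d ∣ g ∧ ¬ IsUnit d :=
    fun n => ⟨EuclideanDomain.gcd ((euS n).map (Int.castRingHom k)) g,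
      EuclideanDomain.gcd_dvd_left _ _, EuclideanDomain.gcd_dvd_right _ _,
      fun hu => hnc n (EuclideanDomain.gcd_isUnit_iff.mp hu)⟩
  choose d hds hdg hdu using hex
  have hd0 : ∀ n, d n ≠ 0 := fun n => ne_zero_of_dvd_ne_zero hg (hdg n)
  have hdeg : ∀ n, 1 ≤ (d n).natDegree := fun n =>
    Polynomial.natDegree_pos_iff_degree_pos.mpr
      (Polynomial.degree_pos_of_ne_zero_of_nonunit (hd0 n) (hdu n))
  have hcop : ∀ i j, i ≠ j → IsCoprime (d i) (d j) := by
    intro i j hij
    rcases lt_or_gt_of_ne hij with h | h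
    · exact ((isCoprime_map_euS k h).of_isCoprime_of_dvd_left (hds i)).of_isCoprime_of_dvd_right
        (hds j)
    · exact (((isCoprime_map_euS k h).of_isCoprime_of_dvd_left (hds j)).of_isCoprime_of_dvd_right
        (hds i)).symm
  have hprod : ∏ n ∈ Finset.range (g.natDegree + 1), d n ∣ g :=
    Finset.prod_dvd_of_coprime (fun i _ j _ hij => hcop i j hij) (fun i _ => hdg i)
  have h1 := Polynomial.natDegree_le_of_dvd hprod hg
  rw [Polynomial.natDegree_prod _ _ (fun i _ => hd0 i)] at h1
  have h2 := Finset.card_nsmul_le_sum (Finset.range (g.natDegree + 1))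
    (fun n => (d n).natDegree) 1 (fun n _ => hdeg n)
  rw [Finset.card_range, smul_eq_mul, mul_one] at h2
  omega

end Euclid

section Algebra

/-- In a nonzero finite type algebra over a field, an element all of whose integer polynomial
expressions are zero or units is integral over the field. -/
theorem isIntegral_of_pint (k : Type u) [Field k] (R : Type u) [CommRing R] [Algebra k R]
    [Algebra.FiniteType k R] [Nontrivial R] (c : R)
    (hc : ∀ q : Polynomial ℤ, Polynomial.aeval c q = 0 ∨ IsUnit (Polynomial.aeval c q)) :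
    IsIntegral k c := by
  by_contra hni
  have htr : Transcendental k c := fun h => hni h.isIntegral
  have hinj : Function.Injective (Polynomial.aeval (R := k) c) :=
    transcendental_iff_injective.mp htr
  letI algP : Algebra (Polynomial k) R := (Polynomial.aeval (R := k) c).toRingHom.toAlgebra
  have halgP : ∀ P : Polynomial k, algebraMap (Polynomial k) R P = Polynomial.aeval c P :=
    fun P => rfl
  haveI : IsScalarTower k (Polynomial k) R :=
    IsScalarTower.of_algebraMap_eq (fun r => (Polynomial.aeval_C (R := k) c r).symm)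
  haveI : Algebra.FiniteType (Polynomial k) R :=
    Algebra.FiniteType.of_restrictScalars_finiteType k (Polynomial k) R
  obtain ⟨g, hg0, ⟨s, hli, hsp⟩, -⟩ := GenFreeH8.main (R := Polynomial k) (S := R) R
  have hgne : ∀ K : ℕ, Polynomial.aeval c (g ^ K) ≠ 0 := fun K h =>
    pow_ne_zero K hg0 (hinj (h.trans (map_zero _).symm))
  obtain ⟨e, he⟩ : ∃ e, e ∈ s := by
    by_contra hemp
    have hs : s = ∅ := Set.eq_empty_of_forall_notMem (fun e he => hemp ⟨e, he⟩)
    obtain ⟨K, hK⟩ := hsp 1
    rw [hs, Submodule.span_empty, Submodule.mem_bot] at hK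
    apply hgne K
    have h1 : g ^ K • (1 : R) = Polynomial.aeval c (g ^ K) := by
      rw [Algebra.smul_def, mul_one, halgP]
    rw [← h1]
    exact hK
  obtain ⟨q, hqm, hqd, hcop⟩ := exists_coprime k g hg0
  obtain ⟨Q, hQ⟩ : ∃ Q : Polynomial k, Q = q.map (Int.castRingHom k) := ⟨_, rfl⟩
  rw [← hQ] at hcop
  have hQm : Q.Monic := by rw [hQ]; exact hqm.map _
  have hQd : 0 < Q.natDegree := by rw [hQ, hqm.natDegree_map]; exact hqd
  have haev : Polynomial.aeval c q = Polynomial.aeval c Q := by
    rw [hQ, ← algebraMap_int_eq, Polynomial.aeval_map_algebraMap]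
  rcases hc q with h0 | hu
  · rw [haev] at h0
    exact hQm.ne_zero (hinj (h0.trans (map_zero _).symm))
  · rw [haev] at hu
    obtain ⟨u', hu'⟩ := hu.exists_right_inv
    obtain ⟨K, hK⟩ := hsp (u' * e)
    obtain ⟨l, hl⟩ := (Finsupp.mem_span_iff_linearCombination (Polynomial k) s _).mp hK
    have h1 : Q • (g ^ K • (u' * e)) = g ^ K • e := by
      rw [smul_comm, Algebra.smul_def Q, halgP, ← mul_assoc, hu', one_mul]
    have h2 : Finsupp.linearCombination (Polynomial k) (Subtype.val : s → R) (Q • l) =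
        Finsupp.linearCombination (Polynomial k) (Subtype.val : s → R)
          (Finsupp.single ⟨e, he⟩ (g ^ K)) := by
      rw [map_smul, hl, h1, Finsupp.linearCombination_single]
    have h3 := hli h2
    have h4 : Q * l ⟨e, he⟩ = g ^ K := by
      have h5 := DFunLike.congr_fun h3 ⟨e, he⟩
      rwa [Finsupp.smul_apply, smul_eq_mul, Finsupp.single_eq_same] at h5
    have h5 : IsUnit Q := (hcop.pow_right (n := K)).isUnit_of_dvd' (dvd_refl Q) ⟨_, h4.symm⟩
    have h6 := Polynomial.natDegree_eq_zero_of_isUnit h5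
    omega

end Algebra

section Geometry

/-- A connected reduced scheme has only trivial idempotent global functions. -/
theorem trivIdem_of_connected_reduced (X : Scheme.{u}) [ConnectedSpace ↥X] [IsReduced X] :
    TrivIdem Γ(X, ⊤) := by
  intro e he
  have hzero : ∀ e' : Γ(X, ⊤), X.basicOpen e' = ⊥ → e' = 0 :=
    fun e' hb => (basicOpen_eq_bot_iff e').mp hb
  have hdisj : X.basicOpen e ⊓ X.basicOpen (1 - e) = ⊥ := by
    rw [← Scheme.basicOpen_mul]
    have h0 : e * (1 - e) = 0 := by rw [mul_sub, mul_one, he.eq, sub_self]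
    rw [h0, Scheme.basicOpen_zero]
  have hcov : ∀ x : ↥X, x ∈ X.basicOpen e ∨ x ∈ X.basicOpen (1 - e) := by
    intro x
    have h1 : IsUnit (X.presheaf.germ ⊤ x trivial e + X.presheaf.germ ⊤ x trivial (1 - e)) := by
      rw [← map_add, add_sub_cancel, map_one]; exact isUnit_one
    rcases IsLocalRing.isUnit_or_isUnit_of_isUnit_add h1 with h | h
    · exact Or.inl ((X.mem_basicOpen_top e x).mpr h)
    · exact Or.inr ((X.mem_basicOpen_top (1 - e) x).mpr h)
  have hUV : (X.basicOpen e : Set ↥X) = ((X.basicOpen (1 - e) : Set ↥X))ᶜ := by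
    apply Set.Subset.antisymm
    · intro x hx hxV
      have hmem : x ∈ (X.basicOpen e ⊓ X.basicOpen (1 - e) : X.Opens) := ⟨hx, hxV⟩
      rw [hdisj] at hmem
      exact hmem
    · intro x hxV
      exact (hcov x).resolve_right hxV
  have hclopen : IsClopen (X.basicOpen e : Set ↥X) := by
    refine ⟨?_, (X.basicOpen e).2⟩
    rw [hUV]; exact (X.basicOpen (1 - e)).2.isClosed_compl
  rcases isClopen_iff.mp hclopen with h | h
  · left
    exact hzero e (TopologicalSpace.Opens.ext (h.trans TopologicalSpace.Opens.coe_bot.symm))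
  · right
    have h2 : X.basicOpen (1 - e) = ⊥ := by
      refine TopologicalSpace.Opens.ext (Set.eq_empty_of_forall_notMem fun x hxV => ?_)
      have hx : x ∈ (X.basicOpen e : Set ↥X) := h ▸ Set.mem_univ x
      rw [hUV] at hx
      exact hx hxV
    have h3 := hzero (1 - e) h2
    exact (sub_eq_zero.mp h3).symm

variable (k : Type u) [Field k] {X : Scheme.{u}}

/-- Integral elements are zero or units, as are their integer polynomial expressions. -/
theorem pint_of_isIntegralElem [IsReduced X] [ConnectedSpace ↥X] (φ : k →+* Γ(X, ⊤))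
    (x : Γ(X, ⊤)) (hx : φ.IsIntegralElem x) (q : Polynomial ℤ) :
    Polynomial.aeval x q = 0 ∨ IsUnit (Polynomial.aeval x q) := by
  letI alg : Algebra k Γ(X, ⊤) := φ.toAlgebra
  have hxS : x ∈ integralClosure k Γ(X, ⊤) := hx
  have hyS : Polynomial.aeval x q ∈ integralClosure k Γ(X, ⊤) := by
    have h1 : Polynomial.aeval x q = Polynomial.aeval x (q.map (algebraMap ℤ k)) :=
      (Polynomial.aeval_map_algebraMap k x q).symm
    have h2 : Polynomial.aeval x (q.map (algebraMap ℤ k)) =
        ((Polynomial.aeval (⟨x, hxS⟩ : integralClosure k Γ(X, ⊤)) (q.map (algebraMap ℤ k)) :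
          integralClosure k Γ(X, ⊤)) : Γ(X, ⊤)) :=
      Polynomial.aeval_algHom_apply (integralClosure k Γ(X, ⊤)).val
        (⟨x, hxS⟩ : integralClosure k Γ(X, ⊤)) (q.map (algebraMap ℤ k))
    rw [h1, h2]
    exact SetLike.coe_mem _
  haveI : Algebra.IsIntegral k (integralClosure k Γ(X, ⊤)) :=
    ⟨fun z => (isIntegral_algHom_iff (integralClosure k Γ(X, ⊤)).val
      Subtype.val_injective).mp z.2⟩
  have hTI : TrivIdem (integralClosure k Γ(X, ⊤)) :=
    trivIdem_of_injective (integralClosure k Γ(X, ⊤)).val.toRingHom Subtype.val_injective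
      (trivIdem_of_connected_reduced X)
  rcases Groth.Agent.Lib.GeomConnLocH4.isUnit_or_isNilpotent (k := k) hTI
      (⟨Polynomial.aeval x q, hyS⟩ : integralClosure k Γ(X, ⊤)) with hu | hn
  · right
    exact hu.map (integralClosure k Γ(X, ⊤)).val
  · left
    have h4 : IsNilpotent (Polynomial.aeval x q) := hn.map (integralClosure k Γ(X, ⊤)).val
    exact h4.eq_zero

/-- Local algebraicity on affine opens. -/
theorem exists_monic_res_eq_zero (f : X ⟶ Spec (CommRingCat.of k)) [LocallyOfFiniteType f]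
    (φ : k →+* Γ(X, ⊤))
    (hφ : φ = f.appTop.hom.comp (Scheme.ΓSpecIso (CommRingCat.of k)).inv.hom) (x : Γ(X, ⊤))
    (hx : ∀ q : Polynomial ℤ, Polynomial.aeval x q = 0 ∨ IsUnit (Polynomial.aeval x q))
    (U : X.Opens) (hU : IsAffineOpen U) (y : X) (hy : y ∈ U) :
    ∃ P : Polynomial k, P.Monic ∧
      X.presheaf.map (homOfLE (le_top : U ≤ ⊤)).op (Polynomial.eval₂ φ x P) = 0 := by
  obtain ⟨ρ, hρ⟩ : ∃ ρ : Γ(X, ⊤) →+* Γ(X, U),
      ρ = (X.presheaf.map (homOfLE (le_top : U ≤ ⊤)).op).hom := ⟨_, rfl⟩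
  letI algU : Algebra k Γ(X, U) := (ρ.comp φ).toAlgebra
  haveI : Nonempty (U : X.Opens) := ⟨⟨y, hy⟩⟩
  haveI : Nontrivial Γ(X, U) := X.component_nontrivial U
  haveI : Algebra.FiniteType k Γ(X, U) := by
    have hle : U ≤ f ⁻¹ᵁ (⊤ : (Spec (CommRingCat.of k)).Opens) := le_top
    have h1 : (f.appLE ⊤ U hle).hom.FiniteType :=
      HasRingHomProperty.appLE @LocallyOfFiniteType f inferInstance ⟨⊤, isAffineOpen_top _⟩
        ⟨U, hU⟩ hle
    have h2 : ρ.comp φ =
        (f.appLE ⊤ U hle).hom.comp (Scheme.ΓSpecIso (CommRingCat.of k)).inv.hom := by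
      rw [hφ, hρ]
      rfl
    have h3 : (ρ.comp φ).FiniteType := by
      rw [h2]
      exact h1.comp (RingHom.FiniteType.of_surjective _
        (Scheme.ΓSpecIso (CommRingCat.of k)).symm.commRingCatIsoToRingEquiv.surjective)
    exact h3
  have hpint : ∀ q : Polynomial ℤ,
      Polynomial.aeval (ρ x) q = 0 ∨ IsUnit (Polynomial.aeval (ρ x) q) := by
    intro q
    have h1 : Polynomial.aeval (ρ x) q = ρ (Polynomial.aeval x q) :=
      Polynomial.aeval_algHom_apply ρ.toIntAlgHom x q
    rw [h1]
    rcases hx q with h | h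
    · left; rw [h, map_zero]
    · right; exact h.map ρ
  have hint : IsIntegral k (ρ x) := isIntegral_of_pint k Γ(X, U) (ρ x) hpint
  obtain ⟨P, hPm, hP⟩ := hint
  refine ⟨P, hPm, ?_⟩
  have h4 : ρ (Polynomial.eval₂ φ x P) = 0 := by
    rw [Polynomial.hom_eval₂]
    exact hP
  rw [hρ] at h4
  exact h4

theorem isIntegralElem_of_pint [IsReduced X] [ConnectedSpace ↥X]
    (f : X ⟶ Spec (CommRingCat.of k)) [LocallyOfFiniteType f] (φ : k →+* Γ(X, ⊤))
    (hφ : φ = f.appTop.hom.comp (Scheme.ΓSpecIso (CommRingCat.of k)).inv.hom) (x : Γ(X, ⊤))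
    (hx : ∀ q : Polynomial ℤ, Polynomial.aeval x q = 0 ∨ IsUnit (Polynomial.aeval x q)) :
    φ.IsIntegralElem x := by
  obtain ⟨ψ, hψ⟩ : ∃ ψ : ∀ y : X, Polynomial k →+* X.residueField y,
      ψ = fun y => (X.evaluation ⊤ y trivial).hom.comp (Polynomial.eval₂RingHom φ x) :=
    ⟨_, rfl⟩
  have hψ' : ∀ (y : X) (P : Polynomial k),
      ψ y P = X.evaluation ⊤ y trivial (Polynomial.eval₂ φ x P) := by
    intro y P
    rw [hψ]
    rfl
  have hmem : ∀ (y : X) (P : Polynomial k),
      ψ y P = 0 ↔ y ∉ X.basicOpen (Polynomial.eval₂ φ x P) := by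
    intro y P
    rw [hψ']
    exact X.evaluation_eq_zero_iff_notMem_basicOpen (U := ⊤) y trivial (Polynomial.eval₂ φ x P)
  have hlocal : ∀ y : X, ∃ U : X.Opens, y ∈ U ∧
      ∃ P : Polynomial k, P.Monic ∧ ∀ y' ∈ U, ψ y' P = 0 := by
    intro y
    obtain ⟨P, hPm, hP⟩ := exists_monic_res_eq_zero k f φ hφ x hx
      (X.affineCover.f (X.affineCover.idx y)).opensRange (isAffineOpen_opensRange _) y
      (X.affineCover.covers y)
    refine ⟨(X.affineCover.f (X.affineCover.idx y)).opensRange, X.affineCover.covers y, P, hPm,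
      fun y' hy' => ?_⟩
    rw [hmem]
    intro hb
    have h1 := Scheme.basicOpen_res X (Polynomial.eval₂ φ x P)
      (homOfLE (le_top : (X.affineCover.f (X.affineCover.idx y)).opensRange ≤ ⊤)).op
    rw [hP, Scheme.basicOpen_zero] at h1
    have h2 : y' ∈ (X.affineCover.f (X.affineCover.idx y)).opensRange ⊓
        X.basicOpen (Polynomial.eval₂ φ x P) := ⟨hy', hb⟩
    rw [← h1] at h2
    exact h2
  have hloc : IsLocallyConstant (fun y : X => RingHom.ker (ψ y)) := by
    rw [IsLocallyConstant.iff_exists_open]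
    intro y
    obtain ⟨U, hyU, P, hPm, hPU⟩ := hlocal y
    have hprime : (RingHom.ker (ψ y)).IsPrime := RingHom.ker_isPrime (ψ y)
    obtain ⟨p, hp⟩ : ∃ p, Ideal.span {p} = RingHom.ker (ψ y) :=
      ⟨Submodule.IsPrincipal.generator (RingHom.ker (ψ y)), Ideal.span_singleton_generator _⟩
    have hPy : P ∈ RingHom.ker (ψ y) := RingHom.mem_ker.mpr (hPU y hyU)
    have hne : RingHom.ker (ψ y) ≠ ⊥ := by
      intro h
      rw [h] at hPy
      exact hPm.ne_zero (Ideal.mem_bot.mp hPy)
    have hmax : (RingHom.ker (ψ y)).IsMaximal := hprime.isMaximal hne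
    have hpu : ¬ IsUnit p := by
      intro hu
      apply hprime.ne_top
      rw [← hp]
      exact Ideal.span_singleton_eq_top.mpr hu
    obtain ⟨P', hP', hndvd⟩ :=
      (FiniteMultiplicity.of_not_isUnit hpu hPm.ne_zero).exists_eq_pow_mul_and_not_dvd
    have hP'y : ψ y P' ≠ 0 := by
      intro h0
      have h1 : P' ∈ RingHom.ker (ψ y) := RingHom.mem_ker.mpr h0
      rw [← hp] at h1
      exact hndvd (Ideal.mem_span_singleton.mp h1)
    refine ⟨((U ⊓ X.basicOpen (Polynomial.eval₂ φ x P') : X.Opens) : Set X),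
      (U ⊓ X.basicOpen (Polynomial.eval₂ φ x P')).2, ⟨hyU, ?_⟩, ?_⟩
    · by_contra hn
      exact hP'y ((hmem y P').mpr hn)
    · intro y' hy'
      have hle : RingHom.ker (ψ y) ≤ RingHom.ker (ψ y') := by
        rw [← hp, Ideal.span_singleton_le_iff_mem, RingHom.mem_ker]
        have h1 : ψ y' P = 0 := hPU y' hy'.1
        rw [hP', map_mul, map_pow] at h1
        have h2 : ψ y' P' ≠ 0 := fun h0 => ((hmem y' P').mp h0) hy'.2
        have h3 := (mul_eq_zero.mp h1).resolve_right h2
        by_contra hne'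
        exact pow_ne_zero _ hne' h3
      exact (hmax.eq_of_le (RingHom.ker_ne_top _) hle).symm
  obtain ⟨y₀⟩ : Nonempty ↥X := inferInstance
  obtain ⟨U, hyU, P, hPm, hPU⟩ := hlocal y₀
  have hconst : ∀ y, RingHom.ker (ψ y) = RingHom.ker (ψ y₀) :=
    fun y => hloc.apply_eq_of_preconnectedSpace y y₀
  obtain ⟨p, hp⟩ : ∃ p, Ideal.span {p} = RingHom.ker (ψ y₀) :=
    ⟨Submodule.IsPrincipal.generator (RingHom.ker (ψ y₀)), Ideal.span_singleton_generator _⟩
  have hPy : P ∈ RingHom.ker (ψ y₀) := RingHom.mem_ker.mpr (hPU y₀ hyU)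
  have hp0 : p ≠ 0 := by
    rintro rfl
    rw [← hp, Ideal.mem_span_singleton, zero_dvd_iff] at hPy
    exact hPm.ne_zero hPy
  have hpall : ∀ y, ψ y p = 0 := fun y => by
    have h1 : p ∈ RingHom.ker (ψ y) := by
      rw [hconst y, ← hp]
      exact Ideal.mem_span_singleton_self p
    exact RingHom.mem_ker.mp h1
  have hbo : X.basicOpen (Polynomial.eval₂ φ x p) = ⊥ := by
    refine TopologicalSpace.Opens.ext (Set.eq_empty_of_forall_notMem fun y hy => ?_)
    exact (hmem y p).mp (hpall y) hy
  have hzero : Polynomial.eval₂ φ x p = 0 := (basicOpen_eq_bot_iff _).mp hbo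
  letI alg : Algebra k Γ(X, ⊤) := φ.toAlgebra
  have halg : IsAlgebraic k x := ⟨p, hp0, hzero⟩
  exact halg.isIntegral

theorem main0216 (X : Scheme.{u}) [IsReduced X] [ConnectedSpace ↥X] (k₁ k₂ : Type u) [Field k₁]
    [Field k₂] (a : X ⟶ Spec (CommRingCat.of k₁)) (b : X ⟶ Spec (CommRingCat.of k₂))
    [LocallyOfFiniteType a] [LocallyOfFiniteType b] (x : Coh.Γtop X) :
    (Coh.toGlobal a).IsIntegralElem x ↔ (Coh.toGlobal b).IsIntegralElem x := by
  constructor
  · intro h
    exact isIntegralElem_of_pint k₂ b (Coh.toGlobal b) rfl x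
      (pint_of_isIntegralElem k₁ (Coh.toGlobal a) x h)
  · intro h
    exact isIntegralElem_of_pint k₁ a (Coh.toGlobal a) rfl x
      (pint_of_isIntegralElem k₂ (Coh.toGlobal b) x h)

end Geometry

end Groth.Agent.Lib.IntIndepH4
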