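import Mathlib
import Groth.Prelude
import Groth.Agent.Lib.FibStalkKer_helper5

/-!
# Lengths of local rings at maximal points under a flat morphism with reduced fibres (helper8)
APPEND-ONLY once landed.
-/

set_option autoImplicit false
set_option linter.all false
set_option maxHeartbeats 1600000
set_option backward.isDefEq.respectTransparency false
set_option backward.isDefEq.respectTransparency.types false
set_option backward.defeqAttrib.useBackward true

universe u

open CategoryTheory AlgebraicGeometry TopologicalSpace Opposite TensorProduct IsLocalRing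
open CategoryTheory.Limits

namespace Groth.Agent.Lib.LenSepH8

/-- a local ring all of whose primes are equal and which is reduced has zero maximal ideal. -/
theorem maximalIdeal_eq_bot_of_unique_prime {R : Type*} [CommRing R] [IsLocalRing R] [IsReduced R]
    (h : ∀ p : PrimeSpectrum R, p = IsLocalRing.closedPoint R) : maximalIdeal R = ⊥ := by
  have h1 : nilradical R = maximalIdeal R := by
    rw [nilradical_eq_sInf]
    apply le_antisymm
    · exact sInf_le (maximalIdeal.isMaximal R).isPrime
    · apply le_sInf
      intro J hJ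
      have := h ⟨J, hJ⟩
      have h2 : J = maximalIdeal R := congrArg PrimeSpectrum.asIdeal this
      rw [h2]
  rw [← h1]
  exact nilradical_eq_zero R

/-- at a point of a scheme with no proper generization, the stalk has a unique prime. -/
theorem prime_unique_of_no_generization {T : Scheme.{u}} (t : T) (ht : ∀ z : T, z ⤳ t → z = t)
    (p : PrimeSpectrum (T.presheaf.stalk t)) : p = IsLocalRing.closedPoint (T.presheaf.stalk t) := by
  have hinj : Function.Injective (T.fromSpecStalk t) :=
    (T.fromSpecStalk t).isEmbedding.injective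
  apply hinj
  have h1 : ∀ q : PrimeSpectrum (T.presheaf.stalk t), (T.fromSpecStalk t) q = t := by
    intro q
    apply ht
    have : (T.fromSpecStalk t) q ∈ Set.range (T.fromSpecStalk t) := ⟨q, rfl⟩
    rw [Scheme.range_fromSpecStalk] at this
    exact this
  rw [h1, h1]

variable {X Y : Scheme.{u}} (p : X ⟶ Y)

theorem map_maximalIdeal_eq_of_reduced_fiber (y : Y) (t : ↥(p.fiber y)) [IsReduced (p.fiber y)]
    (ht : ∀ z : X, z ⤳ (p.fiberι y) t → z = (p.fiberι y) t) :
    Ideal.map (p.stalkMap ((p.fiberι y) t)).hom
        (maximalIdeal (Y.presheaf.stalk (p ((p.fiberι y) t)))) =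
      maximalIdeal (X.presheaf.stalk ((p.fiberι y) t)) := by
  obtain ⟨hsurj, hker⟩ := Groth.Agent.FibStalkKer.main9501 p y t
  have ht' : ∀ z : ↥(p.fiber y), z ⤳ t → z = t := by
    intro z hz
    apply (p.fiberι y).isEmbedding.injective
    exact ht _ (hz.map (p.fiberι y).continuous)
  have hbot : maximalIdeal ((p.fiber y).presheaf.stalk t) = ⊥ :=
    maximalIdeal_eq_bot_of_unique_prime (prime_unique_of_no_generization t ht')
  apply le_antisymm
  · have : IsLocalHom (p.stalkMap ((p.fiberι y) t)).hom := inferInstance
    exact ((IsLocalRing.local_hom_TFAE (p.stalkMap ((p.fiberι y) t)).hom).out 0 2).1 this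
  · intro b hb
    have h1 : ((p.fiberι y).stalkMap t).hom b ∈ maximalIdeal ((p.fiber y).presheaf.stalk t) := by
      have : IsLocalHom ((p.fiberι y).stalkMap t).hom := inferInstance
      have h2 := ((IsLocalRing.local_hom_TFAE ((p.fiberι y).stalkMap t).hom).out 0 2).1 this
      exact h2 (Ideal.mem_map_of_mem _ hb)
    rw [hbot, Ideal.mem_bot] at h1
    have h3 : b ∈ RingHom.ker ((p.fiberι y).stalkMap t).hom := h1
    rw [hker] at h3
    exact h3

theorem length_stalk_eq_aux [Flat p] (y : Y) (t : ↥(p.fiber y)) [IsReduced (p.fiber y)]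
    (x : X) (hx : (p.fiberι y) t = x) (ht : ∀ z : X, z ⤳ x → z = x) :
    Module.length (X.presheaf.stalk x) (X.presheaf.stalk x) =
      Module.length (Y.presheaf.stalk (p x)) (Y.presheaf.stalk (p x)) := by
  subst hx
  set x := (p.fiberι y) t with hx
  letI := (p.stalkMap x).hom.toAlgebra
  haveI : Module.Flat (Y.presheaf.stalk (p x)) (X.presheaf.stalk x) := Flat.stalkMap p x
  haveI : IsLocalHom (algebraMap (Y.presheaf.stalk (p x)) (X.presheaf.stalk x)) :=
    (inferInstance : IsLocalHom (p.stalkMap x).hom)
  have h1 := IsLocalRing.length_baseChange (Y.presheaf.stalk (p x)) (X.presheaf.stalk x)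
    (Y.presheaf.stalk (p x))
  have h2 : Module.length (X.presheaf.stalk x)
      ((X.presheaf.stalk x) ⊗[Y.presheaf.stalk (p x)] (Y.presheaf.stalk (p x))) =
      Module.length (X.presheaf.stalk x) (X.presheaf.stalk x) :=
    (TensorProduct.AlgebraTensorModule.rid (Y.presheaf.stalk (p x)) (X.presheaf.stalk x)
      (X.presheaf.stalk x)).length_eq
  have h3 : (maximalIdeal (Y.presheaf.stalk (p x))).map
      (algebraMap (Y.presheaf.stalk (p x)) (X.presheaf.stalk x)) =
      maximalIdeal (X.presheaf.stalk x) := map_maximalIdeal_eq_of_reduced_fiber p y t ht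
  have h4 : Module.length (X.presheaf.stalk x)
      (X.presheaf.stalk x ⧸ maximalIdeal (X.presheaf.stalk x)) = 1 := by
    rw [Module.length_eq_one_iff]
    exact (isSimpleModule_iff_quot_maximal).2 ⟨_, maximalIdeal.isMaximal _, ⟨LinearEquiv.refl _ _⟩⟩
  rw [← h2, h1, h3, h4, mul_one]

theorem length_stalk_eq [Flat p] [GeometricallyReduced p] (x : X) (hx : ∀ z : X, z ⤳ x → z = x) :
    Module.length (X.presheaf.stalk x) (X.presheaf.stalk x) =
      Module.length (Y.presheaf.stalk (p x)) (Y.presheaf.stalk (p x)) := by
  have h : x ∈ Set.range (p.fiberι (p x)) := by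
    rw [p.range_fiberι]
    rfl
  obtain ⟨t, ht⟩ := h
  exact length_stalk_eq_aux p (p x) t x ht hx

theorem main4687 {k k' k'' : Type u} [Field k] [Field k'] [Field k''] [Algebra k k']
    [Algebra k' k''] {X : Scheme.{u}} (f : X ⟶ Spec (CommRingCat.of k))
    [GeometricallyReduced (Spec.map (CommRingCat.ofHom (algebraMap k' k'')))]
    (x'' : ↥(FBase.bc (FBase.bcStr f k') k''))
    (hx'' : ∀ z : ↥(FBase.bc (FBase.bcStr f k') k''), z ⤳ x'' → z = x'') :
    Module.length ((FBase.bc (FBase.bcStr f k') k'').presheaf.stalk x'')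
        ((FBase.bc (FBase.bcStr f k') k'').presheaf.stalk x'') =
      Module.length ((FBase.bc f k').presheaf.stalk (FBase.bcπ (FBase.bcStr f k') k'' x''))
        ((FBase.bc f k').presheaf.stalk (FBase.bcπ (FBase.bcStr f k') k'' x'')) := by
  haveI : Flat (Spec.map (CommRingCat.ofHom (algebraMap k' k''))) := by
    rw [Flat.SpecMap_iff]
    exact (RingHom.flat_algebraMap_iff).2 inferInstance
  haveI : Flat (FBase.bcπ (FBase.bcStr f k') k'') := by
    unfold FBase.bcπ
    infer_instance
  haveI : GeometricallyReduced (FBase.bcπ (FBase.bcStr f k') k'') := by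
    unfold FBase.bcπ
    infer_instance
  exact length_stalk_eq (FBase.bcπ (FBase.bcStr f k') k'') x'' hx''

end Groth.Agent.Lib.LenSepH8
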