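import Mathlib
import Groth.Prelude
import Groth.Agent.Lib.ExtTens5_helper8
import Groth.Agent.Lib.BCFun3_helper2
import Groth.Agent.Lib.StalkLocz1_helper8
import Groth.Agent.Lib.GeomRedField_helper8
import Groth.Agent.Lib.LenSep_helper8

/-!
# Reduced modules and extension of the base field (helper8)
APPEND-ONLY once landed.
-/

set_option autoImplicit false
set_option linter.all false
set_option maxHeartbeats 1600000
set_option backward.isDefEq.respectTransparency false
set_option backward.isDefEq.respectTransparency.types false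
set_option backward.defeqAttrib.useBackward true

universe u

open CategoryTheory AlgebraicGeometry TopologicalSpace Opposite TensorProduct IsLocalRing
open CategoryTheory.Limits

namespace Groth.Agent.Lib.RedModBCH8

open Groth.Agent.Lib.ExtTensH8 Groth.Agent.Lib.AssTensH8 Groth.Agent.StalkGen

section iso

variable {X : Scheme.{u}}

theorem isReducedMod_of_iso {M N : X.Modules} (e : M ≅ N) (h : AssSch.IsReducedMod M) :
    AssSch.IsReducedMod N := by
  refine ⟨noEmbedded_of_iso e h.1, ?_⟩
  intro x hx
  have e' : M.presheaf.stalk x ≃ₗ[X.presheaf.stalk x] N.presheaf.stalk x :=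
    ((DerSch.stalkFunctor X x).mapIso e).toLinearEquiv
  rw [← e'.length_eq]
  exact h.2 x (isAssPoint_of_iso e.symm x hx)

end iso

section B1

theorem maximalIdeal_eq_bot_of_isAssociatedPrime {R : Type*} [CommRing R] [IsLocalRing R]
    [IsReduced R] (h : IsAssociatedPrime (maximalIdeal R) R) : maximalIdeal R = ⊥ := by
  obtain ⟨hprime, a, hm⟩ := h
  have ha0 : a ≠ 0 := by
    rintro rfl
    have h1 : (⊥ : Submodule R R).colon {(0 : R)} = ⊤ := by
      rw [eq_top_iff]
      intro r _
      rw [Submodule.mem_colon_singleton]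
      simp
    rw [h1, Ideal.radical_top] at hm
    exact hprime.ne_top hm
  have hba : ∀ b ∈ maximalIdeal R, b * a = 0 := by
    intro b hb
    rw [hm] at hb
    obtain ⟨n, hn⟩ := hb
    rw [Submodule.mem_colon_singleton, Submodule.mem_bot, smul_eq_mul] at hn
    apply IsReduced.eq_zero
    refine ⟨n + 1, ?_⟩
    rw [mul_pow, pow_succ b, pow_succ' a]
    calc b ^ n * b * (a * a ^ n) = (b ^ n * a) * (b * a ^ n) := by ring
      _ = 0 := by rw [hn, zero_mul]
  have hau : IsUnit a := by
    by_contra hna
    have : a ∈ maximalIdeal R := (IsLocalRing.mem_maximalIdeal a).2 hna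
    have h2 := hba a this
    exact ha0 (IsReduced.eq_zero _ ⟨2, by rw [pow_two]; exact h2⟩)
  rw [eq_bot_iff]
  intro b hb
  have := hba b hb
  rw [Submodule.mem_bot]
  exact (hau.mul_left_eq_zero).1 this

variable (V : Scheme.{u})

theorem eq_of_specializes_of_maximalIdeal_eq_bot {v : V}
    (hm : maximalIdeal (V.presheaf.stalk v) = ⊥) {y : V} (hy : y ⤳ v) : y = v := by
  have h1 : y ∈ Set.range (V.fromSpecStalk v) := by
    rw [Scheme.range_fromSpecStalk]
    exact hy
  obtain ⟨q, rfl⟩ := h1
  have hq : q = IsLocalRing.closedPoint (V.presheaf.stalk v) := by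
    apply PrimeSpectrum.ext
    have h2 : q.asIdeal ≤ maximalIdeal (V.presheaf.stalk v) :=
      IsLocalRing.le_maximalIdeal q.isPrime.ne_top
    rw [hm, le_bot_iff] at h2
    rw [h2]
    exact hm.symm
  rw [hq, Scheme.fromSpecStalk_closedPoint]

theorem length_self_eq_one_of_maximalIdeal_eq_bot {R : Type*} [CommRing R] [IsLocalRing R]
    (hm : maximalIdeal R = ⊥) : Module.length R R = 1 := by
  rw [Module.length_eq_one_iff]
  exact (isSimpleModule_iff_quot_maximal).2 ⟨maximalIdeal R, maximalIdeal.isMaximal _,
    ⟨(Submodule.quotEquivOfEqBot (maximalIdeal R) hm).symm⟩⟩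

theorem isReducedMod_structureModule_of_isReduced [IsReduced V] :
    AssSch.IsReducedMod (Coh.structureModule V) := by
  have key : ∀ v ∈ AssSch.Ass (Coh.structureModule V),
      maximalIdeal (V.presheaf.stalk v) = ⊥ := by
    intro v hv
    have h1 := (AssPtH8.isAssPoint_structureModule_iff v).1 hv
    exact maximalIdeal_eq_bot_of_isAssociatedPrime h1
  refine ⟨?_, ?_⟩
  · intro x hx y _ hyx
    exact (eq_of_specializes_of_maximalIdeal_eq_bot V (key x hx) hyx).symm
  · intro x hx
    rw [CycLenH8.length_stalk_structureModule]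
    exact length_self_eq_one_of_maximalIdeal_eq_bot (key x hx)

end B1

section B1'

variable (V : Scheme.{u})

theorem maximalIdeal_eq_bot_of_length_eq_one {R : Type*} [CommRing R] [IsLocalRing R]
    (h : Module.length R R = 1) : maximalIdeal R = ⊥ := by
  rw [Module.length_eq_one_iff] at h
  rcases eq_bot_or_eq_top (maximalIdeal R : Submodule R R) with h1 | h1
  · exact h1
  · exact absurd h1 (maximalIdeal.isMaximal R).ne_top

theorem isReduced_stalk_of_isReducedMod (h : AssSch.IsReducedMod (Coh.structureModule V))
    (v : V) [IsNoetherianRing (V.presheaf.stalk v)] : _root_.IsReduced (V.presheaf.stalk v) := by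
  refine ⟨fun n hn => ?_⟩
  by_contra hn0
  set N : Submodule (V.presheaf.stalk v) (V.presheaf.stalk v) := Submodule.span _ {n} with hN
  haveI : Nontrivial N := by
    refine ⟨⟨⟨n, Submodule.mem_span_singleton_self n⟩, 0, ?_⟩⟩
    intro h0
    exact hn0 (congrArg Subtype.val h0)
  obtain ⟨P, hP⟩ := associatedPrimes.nonempty (V.presheaf.stalk v) N
  obtain ⟨hPprime, c', hPc⟩ := hP
  haveI := hPprime
  -- the element c
  have hc'N : (c' : V.presheaf.stalk v) ∈ N := c'.2
  obtain ⟨b, hb⟩ := Submodule.mem_span_singleton.1 hc'N
  have hcnil : IsNilpotent (c' : V.presheaf.stalk v) := by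
    rw [← hb, smul_eq_mul]
    exact (Commute.all b n).isNilpotent_mul_left hn
  have hcolon : ∀ s : V.presheaf.stalk v, s * (c' : V.presheaf.stalk v) = 0 → s ∈ P := by
    intro s hs
    rw [hPc]
    apply Ideal.le_radical
    rw [Submodule.mem_colon_singleton, Submodule.mem_bot]
    apply Subtype.ext
    exact hs
  have hPass : IsAssociatedPrime P (V.presheaf.stalk v) := by
    have := associatedPrimes.subset_of_injective (f := N.subtype) N.injective_subtype
      (show P ∈ associatedPrimes _ N from ⟨hPprime, c', hPc⟩)
    exact this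
  obtain ⟨v', hv', hgen⟩ := exists_genPrime_eq v P
  letI alg : Algebra (V.presheaf.stalk v) (V.presheaf.stalk v') :=
    (V.presheaf.stalkSpecializes hv').hom.toAlgebra
  haveI : (RingHom.ker (Cyc.specMap v v' hv')).IsPrime := RingHom.ker_isPrime _
  haveI hloc : IsLocalization.AtPrime (V.presheaf.stalk v') (RingHom.ker (Cyc.specMap v v' hv')) :=
    StalkLoczH8.isLocalization_stalkSpecializes hv'
  have hker : RingHom.ker (Cyc.specMap v v' hv') = P := by
    rw [hgen]
    ext a
    rw [StalkLoczH8.mem_ker_specMap_iff]
    rfl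
  -- v' is an associated point
  have hass : Curv2.IsAssPoint (Coh.structureModule V) v' := by
    rw [AssPtH8.isAssPoint_structureModule_iff]
    have h2 := Module.associatedPrimes.preimage_comap_associatedPrimes_eq_associatedPrimes_of_isLocalizedModule
      (RingHom.ker (Cyc.specMap v v' hv')).primeCompl (V.presheaf.stalk v')
      (Algebra.linearMap (V.presheaf.stalk v) (V.presheaf.stalk v'))
    show maximalIdeal (V.presheaf.stalk v') ∈ associatedPrimes _ _
    rw [← h2, Set.mem_preimage]
    have h3 : Ideal.comap (algebraMap (V.presheaf.stalk v) (V.presheaf.stalk v'))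
        (maximalIdeal (V.presheaf.stalk v')) = P := hgen.symm
    rw [h3]
    exact hPass
  have hlen := h.2 v' hass
  rw [CycLenH8.length_stalk_structureModule] at hlen
  have hbot := maximalIdeal_eq_bot_of_length_eq_one hlen
  have hσc : algebraMap (V.presheaf.stalk v) (V.presheaf.stalk v') (c' : V.presheaf.stalk v) = 0 := by
    have h4 : IsNilpotent (algebraMap (V.presheaf.stalk v) (V.presheaf.stalk v')
        (c' : V.presheaf.stalk v)) := hcnil.map _
    have h5 : algebraMap (V.presheaf.stalk v) (V.presheaf.stalk v') (c' : V.presheaf.stalk v) ∈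
        maximalIdeal (V.presheaf.stalk v') := by
      rw [IsLocalRing.mem_maximalIdeal, mem_nonunits_iff]
      exact h4.not_isUnit
    rw [hbot] at h5
    exact h5
  obtain ⟨s, hs⟩ := (IsLocalization.map_eq_zero_iff
    (RingHom.ker (Cyc.specMap v v' hv')).primeCompl (V.presheaf.stalk v') _).1 hσc
  have hsP : (s : V.presheaf.stalk v) ∈ P := hcolon _ hs
  have hsnP : (s : V.presheaf.stalk v) ∉ P := by
    rw [← hker]
    exact s.2
  exact hsnP hsP

theorem isReduced_of_isReducedMod_structureModule
    (hN : ∀ v : V, IsNoetherianRing (V.presheaf.stalk v))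
    (h : AssSch.IsReducedMod (Coh.structureModule V)) : IsReduced V := by
  haveI : ∀ v : V, _root_.IsReduced (V.presheaf.stalk v) := fun v =>
    haveI := hN v
    isReduced_stalk_of_isReducedMod V h v
  exact isReduced_of_isReduced_stalk V

end B1'

section B2

variable {k : Type u} [Field k] {X : Scheme.{u}} (f : X ⟶ Spec (CommRingCat.of k))

/-- the structure map `k → κ(y)` -/
noncomputable def resHom (y : X) : CommRingCat.of k ⟶ X.residueField y :=
  Spec.preimage (X.fromSpecResidueField y ≫ f)

theorem map_resHom (y : X) : Spec.map (resHom f y) = X.fromSpecResidueField y ≫ f :=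
  Spec.map_preimage _

/-- the `k`-algebra structure on the residue field -/
@[reducible] noncomputable def resAlg (y : X) : Algebra k (X.residueField y) := (resHom f y).hom.toAlgebra

theorem fiber_iso (K : Type u) [Field K] [Algebra k K] (y : X) :
    letI := resAlg f y
    Nonempty ((FBase.bcπ f K).fiber y ≅ Spec (CommRingCat.of ((X.residueField y) ⊗[k] K))) := by
  letI := resAlg f y
  have e1 : (FBase.bcπ f K).fiber y ≅ pullback (X.fromSpecResidueField y)
      (pullback.fst f (Spec.map (CommRingCat.ofHom (algebraMap k K)))) := pullbackSymmetry _ _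
  have e2 := pullbackRightPullbackFstIso f (Spec.map (CommRingCat.ofHom (algebraMap k K)))
    (X.fromSpecResidueField y)
  have e3 : pullback (X.fromSpecResidueField y ≫ f)
      (Spec.map (CommRingCat.ofHom (algebraMap k K))) ≅
      pullback (Spec.map (CommRingCat.ofHom (algebraMap k (X.residueField y))))
        (Spec.map (CommRingCat.ofHom (algebraMap k K))) :=
    pullback.congrHom (by rw [← map_resHom]; rfl) rfl
  exact ⟨e1 ≪≫ e2 ≪≫ e3 ≪≫ pullbackSpecIso k (X.residueField y) K⟩

theorem isReduced_fiber_iff (K : Type u) [Field K] [Algebra k K] (y : X) :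
    letI := resAlg f y
    IsReduced ((FBase.bcπ f K).fiber y) ↔ _root_.IsReduced (K ⊗[k] (X.residueField y)) := by
  letI := resAlg f y
  obtain ⟨e⟩ := fiber_iso f K y
  have h1 : IsReduced ((FBase.bcπ f K).fiber y) ↔
      IsReduced (Spec (CommRingCat.of ((X.residueField y) ⊗[k] K))) :=
    ⟨fun _ => isReduced_of_isOpenImmersion e.inv, fun _ => isReduced_of_isOpenImmersion e.hom⟩
  rw [h1, affine_isReduced_iff]
  constructor
  · intro h
    exact isReduced_of_injective (Algebra.TensorProduct.comm k K (X.residueField y)).toAlgHom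
      (Algebra.TensorProduct.comm k K (X.residueField y)).injective
  · intro h
    exact isReduced_of_injective (Algebra.TensorProduct.comm k (X.residueField y) K).toAlgHom
      (Algebra.TensorProduct.comm k (X.residueField y) K).injective

end B2

section B3

open MonoidalCategory

/-- The right unit isomorphism `F ⊗ O ≅ F` of the sectionwise tensor product. -/
noncomputable def unitorPreR {X : Scheme.{u}} (F : X.Modules) :
    (CohB1.tensorPre F (Coh.structureModule X) : X.PresheafOfModules) ≅ F.val :=
  (ρ_ (CohB1.toPMod F) : (CohB1.tensorPre F (Coh.structureModule X) : CohB1.PMod X) ≅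
    (CohB1.toPMod F : CohB1.PMod X))

/-- The canonical identification `F ⊗ O ≅ F`. -/
noncomputable def unitorR {X : Scheme.{u}} (F : X.Modules) :
    CohB1.tensorMod F (Coh.structureModule X) ≅ F :=
  (CohB1.sheafifyMod X).mapIso (unitorPreR F) ≪≫
    (asIso (PresheafOfModules.sheafificationAdjunction.{u, u, u, u}
      (J := Opens.grothendieckTopology X) (𝟙 X.ringCatSheaf.obj)).counit).app F

variable {k : Type u} [Field k] {X : Scheme.{u}} (f : X ⟶ Spec (CommRingCat.of k))

theorem flat_specMap (K : Type u) [Field K] [Algebra k K] :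
    Flat (Spec.map (CommRingCat.ofHom (algebraMap k K))) := by
  rw [Flat.SpecMap_iff]
  exact (RingHom.flat_algebraMap_iff).2 inferInstance

theorem surjective_specMap (K : Type u) [Field K] [Algebra k K] :
    Surjective (Spec.map (CommRingCat.ofHom (algebraMap k K))) := by
  constructor
  exact (PrimeSpectrum.comap_surjective_of_faithfullyFlat (A := k) (B := K))

theorem flat_bcπ (K : Type u) [Field K] [Algebra k K] : Flat (FBase.bcπ f K) := by
  haveI := flat_specMap (k := k) K
  unfold FBase.bcπ
  infer_instance

theorem surjective_bcπ (K : Type u) [Field K] [Algebra k K] : Surjective (FBase.bcπ f K) := by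
  haveI := surjective_specMap (k := k) K
  unfold FBase.bcπ
  infer_instance

theorem support_structureModule (Z : Scheme.{u}) :
    CohB1.support (Coh.structureModule Z) = Set.univ := by
  rw [Set.eq_univ_iff_forall]
  intro z
  show ¬ Subsingleton _
  rw [not_subsingleton_iff_nontrivial]
  exact (CycLenH8.stalkStructureEquiv z).symm.toEquiv.nontrivial

theorem isReducedMod_fiber_iff [IsLocallyNoetherian X] (K : Type u) [Field K] [Algebra k K]
    [IsLocallyNoetherian (FBase.bc f K)] (y : X) :
    AssSch.IsReducedMod ((Scheme.Modules.pullback ((FBase.bcπ f K).fiberι y)).obj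
      (Coh.structureModule (FBase.bc f K))) ↔
      (letI := resAlg f y; _root_.IsReduced (K ⊗[k] (X.residueField y))) := by
  have e2 : (Scheme.Modules.pullback ((FBase.bcπ f K).fiberι y)).obj
      (Coh.structureModule (FBase.bc f K)) ≅ Coh.structureModule ((FBase.bcπ f K).fiber y) :=
    PBH8.pullbackUnitIso _
  rw [show AssSch.IsReducedMod ((Scheme.Modules.pullback ((FBase.bcπ f K).fiberι y)).obj
      (Coh.structureModule (FBase.bc f K))) ↔
      AssSch.IsReducedMod (Coh.structureModule ((FBase.bcπ f K).fiber y)) from
    ⟨isReducedMod_of_iso e2, isReducedMod_of_iso e2.symm⟩, ← isReduced_fiber_iff]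
  constructor
  · intro h
    exact isReduced_of_isReducedMod_structureModule _
      (fun v => isNoetherianRing_stalk_fiber (FBase.bcπ f K) y v) h
  · intro h
    exact isReducedMod_structureModule_of_isReduced _

theorem isReducedMod_bc_iff [IsLocallyNoetherian X] (F : X.Modules) (hF : Coh.IsCoh F)
    (K : Type u) [Field K] [Algebra k K] [IsLocallyNoetherian (FBase.bc f K)] :
    AssSch.IsReducedMod ((Scheme.Modules.pullback (FBase.bcπ f K)).obj F) ↔
      ∀ y ∈ AssSch.Ass F, (∀ y' ∈ AssSch.Ass F, y' ⤳ y → y' = y) ∧
        Module.length (X.presheaf.stalk y) (F.presheaf.stalk y) = 1 ∧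
        (letI := resAlg f y; _root_.IsReduced (K ⊗[k] (X.residueField y))) := by
  haveI := flat_bcπ f K
  haveI := surjective_bcπ f K
  have hO : Coh.IsCoh (Coh.structureModule (FBase.bc f K)) := CohDevH8.isCoh_structureModule _
  have h1 := main2546 (FBase.bcπ f K) F hF (Coh.structureModule (FBase.bc f K)) hO
    (Groth.Agent.Lib.BCFunH2.isFlatOver_unit (FBase.bcπ f K))
  have e := unitorR ((Scheme.Modules.pullback (FBase.bcπ f K)).obj F)
  rw [show AssSch.IsReducedMod ((Scheme.Modules.pullback (FBase.bcπ f K)).obj F) ↔
      AssSch.IsReducedMod (CohB1.tensorMod ((Scheme.Modules.pullback (FBase.bcπ f K)).obj F)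
        (Coh.structureModule (FBase.bc f K))) from
    ⟨isReducedMod_of_iso e.symm, isReducedMod_of_iso e⟩, h1]
  have hsupp : (FBase.bcπ f K).base '' CohB1.support (Coh.structureModule (FBase.bc f K)) =
      Set.univ := by
    rw [support_structureModule, Set.image_univ]
    exact Set.range_eq_univ.2 (FBase.bcπ f K).surjective
  rw [hsupp, Set.inter_univ]
  refine forall_congr' fun y => forall_congr' fun hy => ?_
  rw [isReducedMod_fiber_iff]

end B3

section Main

variable {k : Type u} [Field k] {X : Scheme.{u}} (f : X ⟶ Spec (CommRingCat.of k))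

theorem isLocallyNoetherian_bc_of_finite [IsLocallyNoetherian X] (k' : Type u) [Field k']
    [Algebra k k'] [FiniteDimensional k k'] : IsLocallyNoetherian (FBase.bc f k') := by
  haveI : LocallyOfFiniteType (Spec.map (CommRingCat.ofHom (algebraMap k k'))) := by
    rw [HasRingHomProperty.Spec_iff (P := @LocallyOfFiniteType)]
    exact (RingHom.finiteType_algebraMap (A := k) (B := k')).2 inferInstance
  unfold FBase.bc
  infer_instance

theorem main4659 [IsLocallyNoetherian X] (F : X.Modules) (hF : Coh.IsCoh F) :
    (∀ (k' : Type u) [Field k'] [Algebra k k'] [FiniteDimensional k k'] [IsPurelyInseparable k k'],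
        AssSch.IsReducedMod ((Scheme.Modules.pullback (FBase.bcπ f k')).obj F)) ↔
      ∀ (K : Type u) [Field K] [Algebra k K] [IsLocallyNoetherian (FBase.bc f K)],
        AssSch.IsReducedMod ((Scheme.Modules.pullback (FBase.bcπ f K)).obj F) := by
  constructor
  · intro H K _ _ _
    rw [isReducedMod_bc_iff f F hF K]
    intro y hy
    haveI := isLocallyNoetherian_bc_of_finite f k
    have hk := (isReducedMod_bc_iff f F hF k).1 (H k) y hy
    refine ⟨hk.1, hk.2.1, ?_⟩
    letI := resAlg f y
    apply Groth.Agent.Lib.GeomRedFieldH8.isReduced_tensor_of_forall_purelyInseparable k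
      (X.residueField y)
    intro k' _ _ _ _
    haveI := isLocallyNoetherian_bc_of_finite f k'
    exact ((isReducedMod_bc_iff f F hF k').1 (H k') y hy).2.2
  · intro H k' _ _ _ _
    haveI := isLocallyNoetherian_bc_of_finite f k'
    exact H k'

end Main

end Groth.Agent.Lib.RedModBCH8
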