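import Mathlib
import Groth.Prelude
import Groth.Agent.Lib.RedModBC_helper8

/-!
# Reduced modules on a product over a field (helper8)
APPEND-ONLY once landed.
-/

set_option autoImplicit false
set_option linter.all false
set_option maxHeartbeats 1600000
set_option backward.isDefEq.respectTransparency false
set_option backward.isDefEq.respectTransparency.types false
set_option backward.defeqAttrib.useBackward true

universe u

open CategoryTheory AlgebraicGeometry TopologicalSpace Opposite TensorProduct IsLocalRing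
open CategoryTheory.Limits

namespace Groth.Agent.Lib.RedModProdH8

open Groth.Agent.Lib.ExtTensH8 Groth.Agent.Lib.AssTensH8 Groth.Agent.StalkGen
  Groth.Agent.Lib.RedModBCH8

section P1

variable {X Y : Scheme.{u}} (f : X ⟶ Y) [IsLocallyNoetherian Y] (E : Y.Modules)
  [E.IsQuasicoherent] (F : X.Modules) [F.IsQuasicoherent] (hflat : FlatMod.IsFlatOver f F)

include hflat in
theorem noEmbedded_tensor_of_fiber
    (H : ∀ y ∈ AssSch.Ass E ∩ f.base '' CohB1.support F,
        (∀ y' ∈ AssSch.Ass E, y' ⤳ y → y' = y) ∧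
          AssSch.NoEmbedded ((Scheme.Modules.pullback (f.fiberι y)).obj F)) :
    AssSch.NoEmbedded (CohB1.tensorMod ((Scheme.Modules.pullback f).obj E) F) := by
  intro x hx x' hx' hsp
  obtain ⟨hyE, hrel⟩ := (isAssPoint_tensor_iff f E F x (hflat x)).1 hx
  obtain ⟨hy'E, hrel'⟩ := (isAssPoint_tensor_iff f E F x' (hflat x')).1 hx'
  have hnt := nontrivial_of_mem_relAss f F x hrel
  obtain ⟨hmax, hne⟩ := H (f x) ⟨hyE, x, not_subsingleton_iff_nontrivial.2 hnt, rfl⟩
  have hff : f x' = f x := hmax (f x') hy'E (hsp.map f.continuous)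
  obtain ⟨z, hz⟩ := exists_fiberι_eq f x
  obtain ⟨z', hz'⟩ : ∃ z' : ↥(f.fiber (f x)), (f.fiberι (f x)) z' = x' := by
    have h : x' ∈ Set.range (f.fiberι (f x)) := by
      rw [f.range_fiberι]
      exact hff
    exact h
  have hzA : Curv2.IsAssPoint ((Scheme.Modules.pullback (f.fiberι (f x))).obj F) z :=
    (Groth.Agent.Lib.RelAssBCSch.isAssPoint_fiber_iff f F (f x) z).2 (hz.symm ▸ hrel)
  have hz'A : Curv2.IsAssPoint ((Scheme.Modules.pullback (f.fiberι (f x))).obj F) z' :=
    (Groth.Agent.Lib.RelAssBCSch.isAssPoint_fiber_iff f F (f x) z').2 (hz'.symm ▸ hrel')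
  have hsp' : z' ⤳ z := by
    rw [← (f.fiberι (f x)).isEmbedding.isInducing.specializes_iff, hz, hz']
    exact hsp
  have := hne z hzA z' hz'A hsp'
  rw [← hz, ← hz', this]

include hflat in
theorem isReducedMod_tensor_of_fiber
    (H : ∀ y ∈ AssSch.Ass E ∩ f.base '' CohB1.support F,
        (∀ y' ∈ AssSch.Ass E, y' ⤳ y → y' = y) ∧
          Module.length (Y.presheaf.stalk y) (E.presheaf.stalk y) = 1 ∧
          AssSch.IsReducedMod ((Scheme.Modules.pullback (f.fiberι y)).obj F)) :
    AssSch.IsReducedMod (CohB1.tensorMod ((Scheme.Modules.pullback f).obj E) F) := by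
  refine ⟨noEmbedded_tensor_of_fiber f E F hflat (fun y hy => ⟨(H y hy).1, (H y hy).2.2.1⟩), ?_⟩
  intro x hx
  obtain ⟨hyE, hrel⟩ := (isAssPoint_tensor_iff f E F x (hflat x)).1 hx
  have hnt := nontrivial_of_mem_relAss f F x hrel
  obtain ⟨-, hlenE, -, hlenF⟩ := H (f x) ⟨hyE, x, not_subsingleton_iff_nontrivial.2 hnt, rfl⟩
  rw [length_G_of_one f E F x hlenE]
  obtain ⟨z, hz⟩ := exists_fiberι_eq f x
  have hzA : Curv2.IsAssPoint ((Scheme.Modules.pullback (f.fiberι (f x))).obj F) z :=
    (Groth.Agent.Lib.RelAssBCSch.isAssPoint_fiber_iff f F (f x) z).2 (hz.symm ▸ hrel)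
  have h1 := hlenF z hzA
  rw [length_fiber, hz] at h1
  exact h1

end P1

section P2

variable {k : Type u} [Field k]

theorem flat_of_field {Z : Scheme.{u}} (h : Z ⟶ Spec (CommRingCat.of k)) : Flat h := by
  rw [Flat.iff_flat_stalkMap]
  intro z
  letI := (isField_stalk_spec_field k (h z)).toField
  show @Module.Flat _ _ _ _ (h.stalkMap z).hom.toAlgebra.toModule
  letI := (h.stalkMap z).hom.toAlgebra
  infer_instance

variable {X Y : Scheme.{u}} (f : X ⟶ Spec (CommRingCat.of k)) (g : Y ⟶ Spec (CommRingCat.of k))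

theorem isPullback_qV (x : X) :
    IsPullback (qV f g x) ((pullback.fst f g).fiberToSpecResidueField x) g
      (X.fromSpecResidueField x ≫ f) :=
  (IsPullback.of_hasPullback (pullback.fst f g) (X.fromSpecResidueField x)).paste_horiz
    (hflip f g)

theorem flat_qV (x : X) : Flat (qV f g x) := by
  have h1 : Flat (X.fromSpecResidueField x ≫ f) := flat_of_field _
  exact MorphismProperty.of_isPullback (P := @Flat) (isPullback_qV f g x).flip h1

/-- `T(x,y) ≅ Spec (κ(x) ⊗_k κ(y))`. -/
theorem TT_iso (x : X) (y : Y) :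
    letI := resAlg f x
    letI := resAlg g y
    Nonempty (TT f g x y ≅ Spec (CommRingCat.of ((X.residueField x) ⊗[k] (Y.residueField y)))) := by
  letI := resAlg f x
  letI := resAlg g y
  have e3 : TT f g x y ≅
      pullback (Spec.map (CommRingCat.ofHom (algebraMap k (X.residueField x))))
        (Spec.map (CommRingCat.ofHom (algebraMap k (Y.residueField y)))) :=
    pullback.congrHom (by rw [← map_resHom]; rfl) (by rw [← map_resHom]; rfl)
  exact ⟨e3 ≪≫ pullbackSpecIso k (X.residueField x) (Y.residueField y)⟩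

theorem isReduced_fiber_qV (x : X) (y : Y)
    (h : letI := resAlg f x; letI := resAlg g y;
      _root_.IsReduced ((X.residueField x) ⊗[k] (Y.residueField y))) :
    IsReduced ((qV f g x).fiber y) := by
  letI := resAlg f x
  letI := resAlg g y
  obtain ⟨e⟩ := TT_iso f g x y
  haveI : IsReduced (Spec (CommRingCat.of ((X.residueField x) ⊗[k] (Y.residueField y)))) := by
    rw [affine_isReduced_iff]
    exact h
  haveI : IsReduced (TT f g x y) := isReduced_of_isOpenImmersion e.hom
  exact isReduced_of_isOpenImmersion (tIso f g x y).inv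

end P2

section Main

variable {k : Type u} [Field k] {X Y : Scheme.{u}} [IsLocallyNoetherian X] [IsLocallyNoetherian Y]
  (f : X ⟶ Spec (CommRingCat.of k)) (g : Y ⟶ Spec (CommRingCat.of k))
  [IsLocallyNoetherian (pullback f g)]

theorem main4661 (F : X.Modules) (hF : Coh.IsCoh F) (G : Y.Modules) (hG : Coh.IsCoh G)
    (hFgr : ∀ (k' : Type u) [Field k'] [Algebra k k'] [FiniteDimensional k k']
      [IsPurelyInseparable k k'],
      AssSch.IsReducedMod ((Scheme.Modules.pullback (FBase.bcπ f k')).obj F))
    (hGr : AssSch.IsReducedMod G) :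
    AssSch.IsReducedMod (CohB1.tensorMod ((Scheme.Modules.pullback (pullback.fst f g)).obj F)
      ((Scheme.Modules.pullback (pullback.snd f g)).obj G)) := by
  haveI : F.IsQuasicoherent := hF.1
  haveI : G.IsQuasicoherent := hG.1
  apply isReducedMod_tensor_of_fiber (pullback.fst f g) F
    ((Scheme.Modules.pullback (pullback.snd f g)).obj G)
    (isFlatOver_snd_pullback f g G (isFlatOver_of_field g G))
  rintro x ⟨hxF, -⟩
  haveI := isLocallyNoetherian_bc_of_finite f k
  have hk := (isReducedMod_bc_iff f F hF k).1 (hFgr k) x hxF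
  refine ⟨hk.1, hk.2.1, ?_⟩
  -- geometric reducedness of κ(x)
  letI := resAlg f x
  haveI hgr : Algebra.IsGeometricallyReduced k (X.residueField x) := by
    apply Groth.Agent.Lib.GeomRedFieldH8.isGeometricallyReduced_of_forall_purelyInseparable
    intro k' _ _ _ _
    haveI := isLocallyNoetherian_bc_of_finite f k'
    exact ((isReducedMod_bc_iff f F hF k').1 (hFgr k') x hxF).2.2
  have e1 : (Scheme.Modules.pullback ((pullback.fst f g).fiberι x)).obj
      ((Scheme.Modules.pullback (pullback.snd f g)).obj G) ≅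
      (Scheme.Modules.pullback (qV f g x)).obj G := (Scheme.Modules.pullbackComp _ _).app G
  have e2 := unitorR ((Scheme.Modules.pullback (qV f g x)).obj G)
  refine isReducedMod_of_iso (e2 ≪≫ e1.symm) ?_
  haveI : Flat (qV f g x) := flat_qV f g x
  haveI : (Coh.structureModule ((pullback.fst f g).fiber x)).IsQuasicoherent :=
    TensH8.isQuasicoherent_structureModule
  apply isReducedMod_tensor_of_fiber (qV f g x) G (Coh.structureModule _)
    (Groth.Agent.Lib.BCFunH2.isFlatOver_unit (qV f g x))
  rintro y ⟨hyG, -⟩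
  refine ⟨fun y' hy' hsp => (hGr.1 y hyG y' hy' hsp).symm, hGr.2 y hyG, ?_⟩
  refine isReducedMod_of_iso (PBH8.pullbackUnitIso _).symm ?_
  haveI : IsReduced ((qV f g x).fiber y) := by
    apply isReduced_fiber_qV f g x y
    letI := resAlg g y
    have h1 := Groth.Agent.Lib.GeomRedFieldH8.isReduced_tensor_of_isGeometricallyReduced k
      (X.residueField x) (Y.residueField y)
    exact isReduced_of_injective
      (Algebra.TensorProduct.comm k (X.residueField x) (Y.residueField y)).toAlgHom
      (Algebra.TensorProduct.comm k (X.residueField x) (Y.residueField y)).injective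
  exact isReducedMod_structureModule_of_isReduced _

end Main

end Groth.Agent.Lib.RedModProdH8
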