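import Mathlib
import Groth.Prelude
import Groth.Agent.Lib.RedModProd_helper8
import Groth.Agent.Lib.GeomIntField_helper8

/-!
# Integral modules and extension of the base field (helper8)
APPEND-ONLY once landed.
-/

set_option autoImplicit false
set_option linter.all false
set_option maxHeartbeats 1600000
set_option backward.isDefEq.respectTransparency false
set_option backward.isDefEq.respectTransparency.types false
set_option backward.defeqAttrib.useBackward true

universe u

open CategoryTheory AlgebraicGeometry TopologicalSpace Opposite TensorProduct IsLocalRing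
open CategoryTheory.Limits

namespace Groth.Agent.Lib.IntModBCH8

open Groth.Agent.Lib.ExtTensH8 Groth.Agent.Lib.AssTensH8 Groth.Agent.StalkGen
  Groth.Agent.Lib.RedModBCH8 Groth.Agent.Lib.RedModProdH8

/-- an "integral module": exactly one associated point, with stalk of length one there. -/
def IsIntegralMod {X : Scheme.{u}} (M : X.Modules) : Prop :=
  ∃ x : X, AssSch.Ass M = {x} ∧ Module.length (X.presheaf.stalk x) (M.presheaf.stalk x) = 1

section iso

variable {X : Scheme.{u}}

theorem ass_eq_of_iso {M N : X.Modules} (e : M ≅ N) : AssSch.Ass M = AssSch.Ass N := by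
  ext x
  exact isAssPoint_iso_iff e x

theorem isIntegralMod_of_iso {M N : X.Modules} (e : M ≅ N) (h : IsIntegralMod M) :
    IsIntegralMod N := by
  obtain ⟨x, hx, hl⟩ := h
  refine ⟨x, by rw [← ass_eq_of_iso e, hx], ?_⟩
  have e' : M.presheaf.stalk x ≃ₗ[X.presheaf.stalk x] N.presheaf.stalk x :=
    ((DerSch.stalkFunctor X x).mapIso e).toLinearEquiv
  rw [← e'.length_eq]
  exact hl

theorem isReducedMod_of_isIntegralMod {M : X.Modules} (h : IsIntegralMod M) :
    AssSch.IsReducedMod M := by
  obtain ⟨x, hx, hl⟩ := h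
  refine ⟨?_, ?_⟩
  · intro a ha b hb _
    rw [hx] at ha hb
    rw [Set.mem_singleton_iff] at ha hb
    rw [ha, hb]
  · intro a ha
    rw [hx, Set.mem_singleton_iff] at ha
    rw [ha]
    exact hl

end iso

section C

theorem isAssociatedPrime_maximalIdeal_of_eq_bot {R : Type*} [CommRing R] [IsLocalRing R]
    (hm : maximalIdeal R = ⊥) : IsAssociatedPrime (maximalIdeal R) R := by
  refine ⟨(maximalIdeal.isMaximal _).isPrime, 1, ?_⟩
  apply le_antisymm
  · rw [hm]; exact bot_le
  · intro r hr
    obtain ⟨n, hn⟩ := hr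
    rw [Submodule.mem_colon_singleton, Submodule.mem_bot, smul_eq_mul, mul_one] at hn
    rw [IsLocalRing.mem_maximalIdeal, mem_nonunits_iff]
    exact (IsNilpotent.not_isUnit ⟨n, hn⟩)

variable (V : Scheme.{u})

theorem isIntegralMod_structureModule_of_isIntegral [IsIntegral V] :
    IsIntegralMod (Coh.structureModule V) := by
  have hη : maximalIdeal (V.presheaf.stalk (genericPoint V)) = ⊥ := by
    have hf : IsField (V.presheaf.stalk (genericPoint V)) := Field.toIsField V.functionField
    exact IsLocalRing.isField_iff_maximalIdeal_eq.1 hf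
  refine ⟨genericPoint V, ?_, ?_⟩
  · ext v
    rw [Set.mem_singleton_iff]
    constructor
    · intro hv
      have h1 := (AssPtH8.isAssPoint_structureModule_iff v).1 hv
      have hm := maximalIdeal_eq_bot_of_isAssociatedPrime h1
      exact (eq_of_specializes_of_maximalIdeal_eq_bot V hm (genericPoint_specializes v)).symm
    · rintro rfl
      show Curv2.IsAssPoint _ _
      rw [AssPtH8.isAssPoint_structureModule_iff]
      exact isAssociatedPrime_maximalIdeal_of_eq_bot hη
  · rw [CycLenH8.length_stalk_structureModule]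
    exact length_self_eq_one_of_maximalIdeal_eq_bot hη

end C

section C'

variable (V : Scheme.{u})

/-- an associated prime of a Noetherian stalk gives an associated generization. -/
theorem exists_isAssPoint_of_isAssociatedPrime (v : V) [IsNoetherianRing (V.presheaf.stalk v)]
    (P : Ideal (V.presheaf.stalk v)) (hPass : IsAssociatedPrime P (V.presheaf.stalk v)) :
    ∃ v' : V, v' ⤳ v ∧ Curv2.IsAssPoint (Coh.structureModule V) v' := by
  haveI := hPass.isPrime
  obtain ⟨v', hv', hgen⟩ := exists_genPrime_eq v P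
  letI alg : Algebra (V.presheaf.stalk v) (V.presheaf.stalk v') :=
    (V.presheaf.stalkSpecializes hv').hom.toAlgebra
  haveI : (RingHom.ker (Cyc.specMap v v' hv')).IsPrime := RingHom.ker_isPrime _
  haveI hloc : IsLocalization.AtPrime (V.presheaf.stalk v') (RingHom.ker (Cyc.specMap v v' hv')) :=
    StalkLoczH8.isLocalization_stalkSpecializes hv'
  refine ⟨v', hv', ?_⟩
  rw [AssPtH8.isAssPoint_structureModule_iff]
  have h2 := Module.associatedPrimes.preimage_comap_associatedPrimes_eq_associatedPrimes_of_isLocalizedModule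
    (RingHom.ker (Cyc.specMap v v' hv')).primeCompl (V.presheaf.stalk v')
    (Algebra.linearMap (V.presheaf.stalk v) (V.presheaf.stalk v'))
  show maximalIdeal (V.presheaf.stalk v') ∈ associatedPrimes _ _
  rw [← h2, Set.mem_preimage]
  have h3 : Ideal.comap (algebraMap (V.presheaf.stalk v) (V.presheaf.stalk v'))
      (maximalIdeal (V.presheaf.stalk v')) = P := hgen.symm
  rw [h3]
  exact hPass

theorem isIntegral_of_isIntegralMod_structureModule
    (hN : ∀ v : V, IsNoetherianRing (V.presheaf.stalk v))
    (h : IsIntegralMod (Coh.structureModule V)) : IsIntegral V := by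
  haveI : IsReduced V :=
    isReduced_of_isReducedMod_structureModule V hN (isReducedMod_of_isIntegralMod h)
  obtain ⟨x, hx, -⟩ := h
  have hspec : ∀ v : V, x ⤳ v := by
    intro v
    haveI := hN v
    obtain ⟨P, hP⟩ := associatedPrimes.nonempty (V.presheaf.stalk v) (V.presheaf.stalk v)
    obtain ⟨v', hv', hass⟩ := exists_isAssPoint_of_isAssociatedPrime V v P hP
    have : v' ∈ AssSch.Ass (Coh.structureModule V) := hass
    rw [hx, Set.mem_singleton_iff] at this
    rw [← this]
    exact hv'
  have hirr : IsIrreducible (Set.univ : Set V) := by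
    have h1 : (Set.univ : Set V) = closure {x} := by
      ext v
      simp only [Set.mem_univ, true_iff]
      exact (specializes_iff_mem_closure).1 (hspec v)
    rw [h1]
    exact isIrreducible_singleton.closure
  haveI : IrreducibleSpace V := (irreducibleSpace_def V).2 hirr
  exact isIntegral_of_irreducibleSpace_of_isReduced V

end C'

section I

variable {X' X : Scheme.{u}} [IsLocallyNoetherian X'] [IsLocallyNoetherian X] (p : X' ⟶ X)
  [Flat p] (F : X.Modules) (hF : Coh.IsCoh F)

include hF in
theorem isIntegralMod_tensor_of_fiber (x₀ : X) (hAss : AssSch.Ass F = {x₀})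
    (hlen : Module.length (X.presheaf.stalk x₀) (F.presheaf.stalk x₀) = 1)
    (hfib : IsIntegralMod ((Scheme.Modules.pullback (p.fiberι x₀)).obj (Coh.structureModule X'))) :
    IsIntegralMod (CohB1.tensorMod ((Scheme.Modules.pullback p).obj F) (Coh.structureModule X')) := by
  haveI : F.IsQuasicoherent := hF.1
  haveI : (Coh.structureModule X').IsQuasicoherent := TensH8.isQuasicoherent_structureModule
  have hflat := Groth.Agent.Lib.BCFunH2.isFlatOver_unit p
  obtain ⟨t₀, ht₀, hl₀⟩ := hfib
  have hx₀ : Curv2.IsAssPoint F x₀ := by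
    have : x₀ ∈ AssSch.Ass F := by rw [hAss]; rfl
    exact this
  have ht₀A : Curv2.IsAssPoint ((Scheme.Modules.pullback (p.fiberι x₀)).obj
      (Coh.structureModule X')) t₀ := by
    have : t₀ ∈ AssSch.Ass ((Scheme.Modules.pullback (p.fiberι x₀)).obj
      (Coh.structureModule X')) := by rw [ht₀]; rfl
    exact this
  have hrel₀ : (p.fiberι x₀) t₀ ∈ MoreMor.relAss p (Coh.structureModule X') :=
    (Groth.Agent.Lib.RelAssBCSch.isAssPoint_fiber_iff p _ x₀ t₀).1 ht₀A
  have hpz₀ : p ((p.fiberι x₀) t₀) = x₀ := fiberι_mem p x₀ t₀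
  refine ⟨(p.fiberι x₀) t₀, ?_, ?_⟩
  · ext z
    rw [Set.mem_singleton_iff]
    constructor
    · intro hz
      obtain ⟨hy, hrel⟩ := (isAssPoint_tensor_iff p F _ z (hflat z)).1 hz
      have hpz : p z = x₀ := by
        have : p z ∈ AssSch.Ass F := hy
        rw [hAss] at this
        exact this
      obtain ⟨t, rfl⟩ : ∃ t : ↥(p.fiber x₀), (p.fiberι x₀) t = z := by
        have h : z ∈ Set.range (p.fiberι x₀) := by
          rw [p.range_fiberι]
          exact hpz
        exact h
      have htA : t ∈ AssSch.Ass ((Scheme.Modules.pullback (p.fiberι x₀)).obj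
          (Coh.structureModule X')) :=
        (Groth.Agent.Lib.RelAssBCSch.isAssPoint_fiber_iff p _ x₀ t).2 hrel
      rw [ht₀, Set.mem_singleton_iff] at htA
      rw [htA]
    · rintro rfl
      show Curv2.IsAssPoint _ _
      rw [isAssPoint_tensor_iff p F _ _ (hflat _)]
      exact ⟨isAssPoint_congr F hpz₀.symm hx₀, hrel₀⟩
  · have hlE : Module.length (X.presheaf.stalk (p ((p.fiberι x₀) t₀)))
        (F.presheaf.stalk (p ((p.fiberι x₀) t₀))) = 1 := by
      rw [length_stalk_congr F hpz₀]
      exact hlen
    rw [length_G_of_one p F _ _ hlE, ← length_fiber]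
    exact hl₀

include hF in
theorem fiber_of_isIntegralMod_tensor [Surjective p]
    (h : IsIntegralMod (CohB1.tensorMod ((Scheme.Modules.pullback p).obj F)
      (Coh.structureModule X'))) :
    ∃ x₀ : X, AssSch.Ass F = {x₀} ∧
      Module.length (X.presheaf.stalk x₀) (F.presheaf.stalk x₀) = 1 ∧
      IsIntegralMod ((Scheme.Modules.pullback (p.fiberι x₀)).obj (Coh.structureModule X')) := by
  haveI : F.IsQuasicoherent := hF.1
  haveI : (Coh.structureModule X').IsQuasicoherent := TensH8.isQuasicoherent_structureModule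
  have hflat := Groth.Agent.Lib.BCFunH2.isFlatOver_unit p
  obtain ⟨z₀, hz₀, hl₀⟩ := h
  have hz₀A : Curv2.IsAssPoint (CohB1.tensorMod ((Scheme.Modules.pullback p).obj F)
      (Coh.structureModule X')) z₀ := by
    have : z₀ ∈ AssSch.Ass (CohB1.tensorMod ((Scheme.Modules.pullback p).obj F)
      (Coh.structureModule X')) := by rw [hz₀]; rfl
    exact this
  obtain ⟨hy, hrel⟩ := (isAssPoint_tensor_iff p F _ z₀ (hflat z₀)).1 hz₀A
  obtain ⟨hlE, hlF⟩ := length_one_of_G p F _ z₀ (hflat z₀) hy hrel hl₀
  obtain ⟨t₀, ht₀⟩ := exists_fiberι_eq p z₀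
  refine ⟨p z₀, ?_, hlE, t₀, ?_, ?_⟩
  · ext x
    rw [Set.mem_singleton_iff]
    constructor
    · intro hx
      obtain ⟨x', rfl⟩ := p.surjective x
      have hnt : Nontrivial ((Coh.structureModule X').presheaf.stalk x') :=
        (CycLenH8.stalkStructureEquiv x').symm.toEquiv.nontrivial
      obtain ⟨z, -, hz, -, -, hpz, -⟩ := exists_chain_points p F (Coh.structureModule X')
        (CohDevH8.isCoh_structureModule X').2 x' (hflat x') hnt specializes_rfl hx hx
      have : z ∈ AssSch.Ass (CohB1.tensorMod ((Scheme.Modules.pullback p).obj F)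
        (Coh.structureModule X')) := hz
      rw [hz₀, Set.mem_singleton_iff] at this
      rw [← hpz, this]
    · rintro rfl
      exact hy
  · ext t
    rw [Set.mem_singleton_iff]
    constructor
    · intro ht
      have hrelt := (Groth.Agent.Lib.RelAssBCSch.isAssPoint_fiber_iff p _ (p z₀) t).1 ht
      have hpt : p ((p.fiberι (p z₀)) t) = p z₀ := fiberι_mem p _ t
      have hA : (p.fiberι (p z₀)) t ∈ AssSch.Ass (CohB1.tensorMod
          ((Scheme.Modules.pullback p).obj F) (Coh.structureModule X')) := by
        show Curv2.IsAssPoint _ _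
        rw [isAssPoint_tensor_iff p F _ _ (hflat _)]
        exact ⟨isAssPoint_congr F hpt.symm hy, hrelt⟩
      rw [hz₀, Set.mem_singleton_iff] at hA
      exact (p.fiberι (p z₀)).isEmbedding.injective (hA.trans ht₀.symm)
    · intro htt
      rw [htt]
      exact (Groth.Agent.Lib.RelAssBCSch.isAssPoint_fiber_iff p _ (p z₀) t₀).2 (ht₀.symm ▸ hrel)
  · rw [length_fiber, ht₀]
    exact hlF

end I

section Main

variable {k : Type u} [Field k] {X : Scheme.{u}} (f : X ⟶ Spec (CommRingCat.of k))

theorem isIntegral_iff_of_iso {A B : Scheme.{u}} (e : A ≅ B) : IsIntegral A ↔ IsIntegral B := by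
  constructor
  · intro h
    haveI : Nonempty B := ⟨e.hom (Classical.arbitrary A)⟩
    exact isIntegral_of_isOpenImmersion e.inv
  · intro h
    haveI : Nonempty A := ⟨e.inv (Classical.arbitrary B)⟩
    exact isIntegral_of_isOpenImmersion e.hom

theorem isIntegral_fiber_iff (K : Type u) [Field K] [Algebra k K] (y : X) :
    letI := resAlg f y
    IsIntegral ((FBase.bcπ f K).fiber y) ↔ IsDomain (K ⊗[k] (X.residueField y)) := by
  letI := resAlg f y
  obtain ⟨e⟩ := fiber_iso f K y
  rw [isIntegral_iff_of_iso e, affine_isIntegral_iff]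
  constructor
  · intro h
    exact MulEquiv.isDomain _ (Algebra.TensorProduct.comm k K (X.residueField y)).toMulEquiv
  · intro h
    exact MulEquiv.isDomain _ (Algebra.TensorProduct.comm k (X.residueField y) K).toMulEquiv

variable [IsLocallyNoetherian X]

theorem isIntegralMod_fiber_iff (K : Type u) [Field K] [Algebra k K]
    [IsLocallyNoetherian (FBase.bc f K)] (y : X) :
    IsIntegralMod ((Scheme.Modules.pullback ((FBase.bcπ f K).fiberι y)).obj
      (Coh.structureModule (FBase.bc f K))) ↔
      (letI := resAlg f y; IsDomain (K ⊗[k] (X.residueField y))) := by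
  have e2 : (Scheme.Modules.pullback ((FBase.bcπ f K).fiberι y)).obj
      (Coh.structureModule (FBase.bc f K)) ≅ Coh.structureModule ((FBase.bcπ f K).fiber y) :=
    PBH8.pullbackUnitIso _
  rw [show IsIntegralMod ((Scheme.Modules.pullback ((FBase.bcπ f K).fiberι y)).obj
      (Coh.structureModule (FBase.bc f K))) ↔
      IsIntegralMod (Coh.structureModule ((FBase.bcπ f K).fiber y)) from
    ⟨isIntegralMod_of_iso e2, isIntegralMod_of_iso e2.symm⟩, ← isIntegral_fiber_iff]
  constructor
  · intro h
    exact isIntegral_of_isIntegralMod_structureModule _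
      (fun v => isNoetherianRing_stalk_fiber (FBase.bcπ f K) y v) h
  · intro h
    exact isIntegralMod_structureModule_of_isIntegral _

theorem isIntegralMod_bc_iff (F : X.Modules) (hF : Coh.IsCoh F)
    (K : Type u) [Field K] [Algebra k K] [IsLocallyNoetherian (FBase.bc f K)] :
    IsIntegralMod ((Scheme.Modules.pullback (FBase.bcπ f K)).obj F) ↔
      ∃ x₀ : X, AssSch.Ass F = {x₀} ∧
        Module.length (X.presheaf.stalk x₀) (F.presheaf.stalk x₀) = 1 ∧
        (letI := resAlg f x₀; IsDomain (K ⊗[k] (X.residueField x₀))) := by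
  haveI := flat_bcπ f K
  haveI := surjective_bcπ f K
  have e := unitorR ((Scheme.Modules.pullback (FBase.bcπ f K)).obj F)
  rw [show IsIntegralMod ((Scheme.Modules.pullback (FBase.bcπ f K)).obj F) ↔
      IsIntegralMod (CohB1.tensorMod ((Scheme.Modules.pullback (FBase.bcπ f K)).obj F)
        (Coh.structureModule (FBase.bc f K))) from
    ⟨isIntegralMod_of_iso e.symm, isIntegralMod_of_iso e⟩]
  constructor
  · intro h
    obtain ⟨x₀, hA, hl, hfib⟩ := fiber_of_isIntegralMod_tensor (FBase.bcπ f K) F hF h
    exact ⟨x₀, hA, hl, (isIntegralMod_fiber_iff f K x₀).1 hfib⟩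
  · rintro ⟨x₀, hA, hl, hd⟩
    exact isIntegralMod_tensor_of_fiber (FBase.bcπ f K) F hF x₀ hA hl
      ((isIntegralMod_fiber_iff f K x₀).2 hd)

theorem main4660 (F : X.Modules) (hF : Coh.IsCoh F) :
    (∀ (k' : Type u) [Field k'] [Algebra k k'] [FiniteDimensional k k'],
        IsIntegralMod ((Scheme.Modules.pullback (FBase.bcπ f k')).obj F)) ↔
      ∀ (K : Type u) [Field K] [Algebra k K] [IsLocallyNoetherian (FBase.bc f K)],
        IsIntegralMod ((Scheme.Modules.pullback (FBase.bcπ f K)).obj F) := by
  constructor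
  · intro H K _ _ _
    rw [isIntegralMod_bc_iff f F hF K]
    haveI := isLocallyNoetherian_bc_of_finite f k
    obtain ⟨x₀, hA, hl, -⟩ := (isIntegralMod_bc_iff f F hF k).1 (H k)
    refine ⟨x₀, hA, hl, ?_⟩
    letI := resAlg f x₀
    apply Groth.Agent.Lib.GeomIntFieldH8.isDomain_tensor_of_forall_finite k (X.residueField x₀)
    intro k' _ _ _
    haveI := isLocallyNoetherian_bc_of_finite f k'
    obtain ⟨x₁, hA₁, -, hd⟩ := (isIntegralMod_bc_iff f F hF k').1 (H k')
    have hx : x₁ = x₀ := Set.singleton_injective (hA₁.symm.trans hA)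
    subst hx
    exact hd
  · intro H k' _ _ _
    haveI := isLocallyNoetherian_bc_of_finite f k'
    exact H k'

end Main

end Groth.Agent.Lib.IntModBCH8
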