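import Mathlib
import Groth.Agent.Lib.RegMeet3_helper8
import Groth.Agent.Lib.ClosHt_helper8
import Groth.Prelude.Def_RegImm

set_option autoImplicit false

universe u

open CategoryTheory CategoryTheory.Limits AlgebraicGeometry TopologicalSpace

namespace Groth.Agent.Lib.IntMultH8

theorem main6473 (K : Type u) [Field K] (X Y Z : Scheme.{u})
    (gY : Y ⟶ Spec (CommRingCat.of K)) [LocallyOfFiniteType gY]
    (f : X ⟶ Y) (c : ℕ) (κ : RegImm.Kind)
    (hreg : RegImm.IsRegularImmersionOfCodim κ c f) (ι : Z ⟶ Y) [IsClosedImmersion ι]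
    [IsIntegral Z] (d : ℕ) (hd : topologicalKrullDim Z = d) (T : Set ↥(pullback f ι))
    (hT : T ∈ irreducibleComponents ↥(pullback f ι)) :
    ((d : ℕ) : WithBot ℕ∞) ≤ topologicalKrullDim ↥T + c := by
  haveI : IsImmersion f := hreg.1
  have hTcl : IsClosed T := isClosed_of_mem_irreducibleComponents T hT
  obtain ⟨ξ, hξ⟩ := QuasiSober.sober hT.1 hTcl
  have hTeq : T = closure {ξ} := hξ.symm
  -- dimension of T is the height of ξ
  have hdimT : topologicalKrullDim ↥T = Order.height ξ := by
    rw [hTeq]; exact Groth.Agent.ClosHtH8.topologicalKrullDim_closure_singleton _ ξ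
  -- the second projection is an immersion
  let s : pullback f ι ⟶ Z := pullback.snd f ι
  haveI : IsImmersion s := inferInstanceAs (IsImmersion (pullback.snd f ι))
  haveI : LocallyOfFiniteType ι := inferInstance
  haveI : LocallyOfFiniteType (ι ≫ gY) := inferInstance
  have hht : Order.height ξ = Order.height (s ξ) :=
    AffDimH8.height_eq_of_lqf K (ι ≫ gY) s ξ
  -- apply the Krull bound
  have huniv : (Set.univ : Set Z) ∈ irreducibleComponents (Z : Type u) := by
    refine ⟨(IrreducibleSpace.isIrreducible_univ Z), ?_⟩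
    intro b _ _
    exact Set.subset_univ b
  have hdimuniv : topologicalKrullDim ↥(Set.univ : Set Z) = d := by
    rw [← hd]
    exact IsHomeomorph.topologicalKrullDim_eq _ (Homeomorph.Set.univ Z).isHomeomorph
  have hrange : ι (s ξ) ∈ Set.range f := by
    refine ⟨pullback.fst f ι ξ, ?_⟩
    have := congrArg (fun g : pullback f ι ⟶ Y => g ξ) (pullback.condition (f := f) (g := ι))
    simpa using this
  have key := Groth.Agent.Lib.RegMeetH8.le_height_add_of_regImm K gY ι f κ d c hreg
    Set.univ huniv hdimuniv (s ξ) (Set.mem_univ _) hrange (by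
      intro a _ ha hsp
      obtain ⟨x, hx⟩ := ha
      obtain ⟨b, hb1, hb2⟩ := Scheme.Pullback.exists_preimage_pullback x a hx
      have hb2' : s b = a := hb2
      rw [← hb2'] at hsp ⊢
      have hsp' : b ⤳ ξ := (s.isEmbedding.specializes_iff).mp hsp
      -- closure {b} ⊇ T, irreducible closed, so equal; generic points coincide
      have hsub : T ⊆ closure {b} := by
        rw [hTeq]
        exact closure_minimal (Set.singleton_subset_iff.mpr hsp'.mem_closure) isClosed_closure
      have hle : closure {b} ⊆ T := hT.2 isIrreducible_singleton.closure hsub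
      have hbT : b ∈ T := hle (subset_closure rfl)
      have hξb : ξ ⤳ b := by
        rw [specializes_iff_mem_closure, ← hTeq]
        exact hbT
      exact congrArg s (hsp'.antisymm hξb).eq)
  rw [hdimT, hht]
  have : (((d : ℕ) : ℕ∞) : WithBot ℕ∞) ≤ ((Order.height (s ξ) + (c : ℕ∞) : ℕ∞) : WithBot ℕ∞) :=
    WithBot.coe_le_coe.mpr key
  simpa using this

end Groth.Agent.Lib.IntMultH8
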