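import Mathlib

/-!
# Samuel multiplicity versus Koszul Euler characteristic I: colength algebra (helper6)

Pure module theory: the exact colength bookkeeping behind the recursion
`e(c, l; M) = e(l; M/cM) - e(l; 0 :_M c)` for the Samuel function of the ideal `(c) + 𝔞`.
-/

set_option autoImplicit false
universe u
open scoped Pointwise

namespace Groth.Agent.Lib.SamuelKoszul1_helper6

section general

variable {A : Type*} [CommRing A] {M : Type*} [AddCommGroup M] [Module A M]

/-- the colength of a submodule -/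
noncomputable def col (P : Submodule A M) : ℕ∞ := Module.length A (M ⧸ P)

lemma col_anti {P Q : Submodule A M} (h : P ≤ Q) : col Q ≤ col P :=
  Module.length_le_of_surjective (Submodule.factor h) (Submodule.factor_surjective h)

/-- `ℓ(M/P) = ℓ(X/f⁻¹P) + ℓ(M/(f(X)+P))`. -/
lemma col_eq_add {X : Type*} [AddCommGroup X] [Module A X] (f : X →ₗ[A] M) (P : Submodule A M) :
    col P = Module.length A (X ⧸ P.comap f) + col (LinearMap.range f ⊔ P) := by
  have hle : P ≤ LinearMap.range f ⊔ P := le_sup_right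
  apply Module.length_eq_add_of_exact (Submodule.mapQ (P.comap f) P f le_rfl)
    (Submodule.factor hle)
  · rw [injective_iff_map_eq_zero]
    intro x hx
    obtain ⟨x, rfl⟩ := Submodule.mkQ_surjective _ x
    rw [Submodule.mkQ_apply, Submodule.mapQ_apply, Submodule.Quotient.mk_eq_zero] at hx
    rw [Submodule.mkQ_apply, Submodule.Quotient.mk_eq_zero]
    exact hx
  · exact Submodule.factor_surjective hle
  · intro y
    obtain ⟨m, rfl⟩ := Submodule.mkQ_surjective _ y
    rw [Submodule.factor_mk, Submodule.mkQ_apply, Submodule.Quotient.mk_eq_zero]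
    constructor
    · intro hm
      obtain ⟨y, hy, p, hp, rfl⟩ := Submodule.mem_sup.mp hm
      obtain ⟨x, rfl⟩ := hy
      refine ⟨Submodule.Quotient.mk x, ?_⟩
      rw [Submodule.mapQ_apply, Submodule.mkQ_apply, Submodule.Quotient.eq]
      simpa using hp
    · rintro ⟨x, hx⟩
      obtain ⟨x, rfl⟩ := Submodule.mkQ_surjective _ x
      rw [Submodule.mkQ_apply, Submodule.mapQ_apply, Submodule.mkQ_apply,
        Submodule.Quotient.eq] at hx
      have h1 : f x ∈ LinearMap.range f ⊔ P := Submodule.mem_sup_left ⟨x, rfl⟩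
      have h2 : f x - m ∈ LinearMap.range f ⊔ P := Submodule.mem_sup_right hx
      have : m = f x - (f x - m) := by abel
      rw [this]
      exact Submodule.sub_mem _ h1 h2

/-- third isomorphism theorem, for `I • ⊤` -/
lemma length_quot_quot (S : Submodule A M) (I : Ideal A) :
    Module.length A ((M ⧸ S) ⧸ (I • (⊤ : Submodule A (M ⧸ S)))) =
      col (S ⊔ I • (⊤ : Submodule A M)) := by
  have h : I • (⊤ : Submodule A (M ⧸ S)) = (I • (⊤ : Submodule A M)).map S.mkQ := by
    rw [Submodule.map_smul'', Submodule.map_top, Submodule.range_mkQ]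
  rw [h]
  exact (Submodule.quotientQuotientEquivQuotientSup S _).length_eq

/-- powers of `(c) + J` on a module killed by `c` -/
lemma pow_smul_top_of_kill (c : A) (J : Ideal A) (P : Type*) [AddCommGroup P] [Module A P]
    (hc : ∀ z : P, c • z = 0) (n : ℕ) :
    (Ideal.span {c} ⊔ J) ^ n • (⊤ : Submodule A P) = J ^ n • (⊤ : Submodule A P) := by
  induction n with
  | zero => simp
  | succ n ih =>
    rw [pow_succ', Submodule.mul_smul, ih, Submodule.sup_smul, pow_succ', Submodule.mul_smul]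
    have : Ideal.span {c} • (J ^ n • (⊤ : Submodule A P)) = ⊥ := by
      rw [Submodule.ideal_span_singleton_smul, eq_bot_iff]
      intro m hm
      obtain ⟨b, -, rfl⟩ := (Submodule.mem_smul_pointwise_iff_exists _ _ _).mp hm
      rw [hc b]
      exact zero_mem _
    rw [this, bot_sup_eq]

/-- `(I + J)^{n+1} = I (I+J)^n + J^{n+1}` -/
lemma sup_pow_succ (I J : Ideal A) (n : ℕ) :
    (I ⊔ J) ^ (n + 1) = I * (I ⊔ J) ^ n ⊔ J ^ (n + 1) := by
  apply le_antisymm
  · induction n with
    | zero => simp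
    | succ n ih =>
      calc (I ⊔ J) ^ (n + 1 + 1) = (I ⊔ J) ^ (n + 1) * (I ⊔ J) := pow_succ _ _
        _ ≤ (I * (I ⊔ J) ^ n ⊔ J ^ (n + 1)) * (I ⊔ J) := Ideal.mul_mono ih le_rfl
        _ = I * (I ⊔ J) ^ n * (I ⊔ J) ⊔ J ^ (n + 1) * (I ⊔ J) := Ideal.sup_mul _ _ _
        _ ≤ I * (I ⊔ J) ^ (n + 1) ⊔ J ^ (n + 1 + 1) := by
          apply sup_le
          · rw [mul_assoc, ← pow_succ]
            exact le_sup_left
          · rw [Ideal.mul_sup]
            apply sup_le
            · rw [mul_comm]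
              exact le_sup_of_le_left
                (Ideal.mul_mono le_rfl (Ideal.pow_right_mono le_sup_right _))
            · rw [← pow_succ]
              exact le_sup_right
  · apply sup_le
    · rw [pow_succ']
      exact Ideal.mul_mono le_sup_left le_rfl
    · exact Ideal.pow_right_mono le_sup_right _

/-- `((c)+J)^{n+1} M = c ((c)+J)^n M + J^{n+1} M` -/
lemma sup_pow_succ_smul (c : A) (J : Ideal A) (n : ℕ) :
    (Ideal.span {c} ⊔ J) ^ (n + 1) • (⊤ : Submodule A M) =
      c • ((Ideal.span {c} ⊔ J) ^ n • (⊤ : Submodule A M)) ⊔ J ^ (n + 1) • (⊤ : Submodule A M) := by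
  rw [sup_pow_succ, Submodule.sup_smul, Submodule.mul_smul, Submodule.ideal_span_singleton_smul]

lemma smul_pointwise_comm (c : A) (J : Ideal A) (X : Submodule A M) :
    J • (c • X) = c • (J • X) := by
  rw [← Submodule.ideal_span_singleton_smul, ← Submodule.ideal_span_singleton_smul,
    ← Submodule.mul_smul, ← Submodule.mul_smul, mul_comm]

/-- first inclusion of the sandwich -/
lemma sandwich_lower (c : A) (J : Ideal A) (n : ℕ) :
    (Ideal.span {c} ⊔ J) ^ n • (⊤ : Submodule A M) ⊔ LinearMap.ker (LinearMap.lsmul A M c) ≤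
      ((Ideal.span {c} ⊔ J) ^ (n + 1) • (⊤ : Submodule A M)).comap (LinearMap.lsmul A M c) := by
  apply sup_le
  · intro m hm
    rw [Submodule.mem_comap, LinearMap.lsmul_apply, pow_succ', Submodule.mul_smul]
    exact Submodule.smul_mem_smul (Submodule.mem_sup_left (Ideal.mem_span_singleton_self c)) hm
  · intro m hm
    rw [Submodule.mem_comap]
    rw [LinearMap.mem_ker] at hm
    rw [hm]
    exact zero_mem _

/-- second inclusion of the sandwich (uses an Artin–Rees constant `k₀` for `J` and `cM`) -/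
lemma sandwich_upper (c : A) (J : Ideal A) (k₀ : ℕ)
    (hAR : ∀ n ≥ k₀, J ^ n • (⊤ : Submodule A M) ⊓ c • (⊤ : Submodule A M) =
      J ^ (n - k₀) • (J ^ k₀ • (⊤ : Submodule A M) ⊓ c • (⊤ : Submodule A M)))
    (n : ℕ) (hn : k₀ ≤ n + 1) :
    ((Ideal.span {c} ⊔ J) ^ (n + 1) • (⊤ : Submodule A M)).comap (LinearMap.lsmul A M c) ≤
      J ^ (n + 1 - k₀) • (⊤ : Submodule A M) ⊔
        ((Ideal.span {c} ⊔ J) ^ n • (⊤ : Submodule A M) ⊔
          LinearMap.ker (LinearMap.lsmul A M c)) := by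
  intro m hm
  rw [Submodule.mem_comap, LinearMap.lsmul_apply, sup_pow_succ_smul] at hm
  obtain ⟨y, hy, v, hv, hyv⟩ := Submodule.mem_sup.mp hm
  obtain ⟨u, hu, rfl⟩ := (Submodule.mem_smul_pointwise_iff_exists _ _ _).mp hy
  have hv1 : v = c • (m - u) := by
    rw [smul_sub, ← hyv]
    abel
  have hv2 : v ∈ J ^ (n + 1) • (⊤ : Submodule A M) ⊓ c • (⊤ : Submodule A M) := by
    refine ⟨hv, ?_⟩
    rw [hv1]
    exact Submodule.smul_mem_pointwise_smul _ _ _ Submodule.mem_top
  rw [hAR (n + 1) hn] at hv2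
  have hle : J ^ (n + 1 - k₀) • (J ^ k₀ • (⊤ : Submodule A M) ⊓ c • (⊤ : Submodule A M)) ≤
      c • (J ^ (n + 1 - k₀) • (⊤ : Submodule A M)) := by
    rw [← smul_pointwise_comm]
    exact Submodule.smul_mono le_rfl inf_le_right
  obtain ⟨w, hw, hwv⟩ := (Submodule.mem_smul_pointwise_iff_exists _ _ _).mp (hle hv2)
  have hker : m - u - w ∈ LinearMap.ker (LinearMap.lsmul A M c) := by
    rw [LinearMap.mem_ker, LinearMap.lsmul_apply, smul_sub, hwv, ← hv1, sub_self]
  have hm' : m = w + (u + (m - u - w)) := by abel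
  rw [hm']
  exact Submodule.add_mem _ (Submodule.mem_sup_left hw)
    (Submodule.mem_sup_right (Submodule.add_mem _ (Submodule.mem_sup_left hu)
      (Submodule.mem_sup_right hker)))

end general

section lam

variable {A : Type*} [CommRing A] {M : Type*} [AddCommGroup M] [Module A M]

/-- `ℓ(X/𝔟X)` for a submodule `X` -/
noncomputable def lam (𝔟 : Ideal A) (X : Submodule A M) : ℕ∞ :=
  Module.length A (↥X ⧸ (𝔟 • (⊤ : Submodule A ↥X)))

lemma length_quot_smul_le_of_surjective {P P' : Type*} [AddCommGroup P] [Module A P]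
    [AddCommGroup P'] [Module A P'] (𝔟 : Ideal A) (f : P →ₗ[A] P') (hf : Function.Surjective f) :
    Module.length A (P' ⧸ (𝔟 • (⊤ : Submodule A P'))) ≤
      Module.length A (P ⧸ (𝔟 • (⊤ : Submodule A P))) := by
  apply Module.length_le_of_surjective
    (Submodule.mapQ _ _ f (Submodule.smul_top_le_comap_smul_top 𝔟 f))
  intro y
  obtain ⟨p', rfl⟩ := Submodule.mkQ_surjective _ y
  obtain ⟨p, rfl⟩ := hf p'
  exact ⟨Submodule.Quotient.mk p, by rw [Submodule.mapQ_apply]; rfl⟩

lemma lam_bot (𝔟 : Ideal A) : lam 𝔟 (⊥ : Submodule A M) = 0 := by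
  unfold lam
  rw [Module.length_eq_zero_iff]
  exact (Submodule.mkQ_surjective _).subsingleton

lemma lam_top_le (𝔟 : Ideal A) :
    lam 𝔟 (⊤ : Submodule A M) ≤ Module.length A (M ⧸ (𝔟 • (⊤ : Submodule A M))) :=
  length_quot_smul_le_of_surjective 𝔟
    (Submodule.topEquiv.symm : M ≃ₗ[A] ↥(⊤ : Submodule A M)).toLinearMap
    (LinearEquiv.surjective _)

lemma lam_smul_le (𝔟 : Ideal A) (c : A) (X : Submodule A M) : lam 𝔟 (c • X) ≤ lam 𝔟 X := by
  let f : ↥X →ₗ[A] ↥(c • X) := (LinearMap.lsmul A M c).restrict (p := X) (q := c • X)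
    (fun x hx => Submodule.smul_mem_pointwise_smul x c X hx)
  apply length_quot_smul_le_of_surjective 𝔟 f
  rintro ⟨y, hy⟩
  obtain ⟨x, hx, rfl⟩ := (Submodule.mem_smul_pointwise_iff_exists _ _ _).mp hy
  exact ⟨⟨x, hx⟩, rfl⟩

lemma lam_sup_le (𝔟 : Ideal A) (X Y : Submodule A M) :
    lam 𝔟 (X ⊔ Y) ≤ lam 𝔟 X + lam 𝔟 Y := by
  unfold lam
  rw [← Module.length_prod]
  apply Module.length_le_of_surjective
    ((Submodule.mapQ _ _ (Submodule.inclusion (le_sup_left : X ≤ X ⊔ Y))
        (Submodule.smul_top_le_comap_smul_top 𝔟 _)).coprod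
      (Submodule.mapQ _ _ (Submodule.inclusion (le_sup_right : Y ≤ X ⊔ Y))
        (Submodule.smul_top_le_comap_smul_top 𝔟 _)))
  intro z
  obtain ⟨⟨z, hz⟩, rfl⟩ := Submodule.mkQ_surjective _ z
  obtain ⟨x, hx, y, hy, rfl⟩ := Submodule.mem_sup.mp hz
  refine ⟨(Submodule.Quotient.mk ⟨x, hx⟩, Submodule.Quotient.mk ⟨y, hy⟩), ?_⟩
  rw [LinearMap.coprod_apply, Submodule.mapQ_apply, Submodule.mapQ_apply,
    ← Submodule.Quotient.mk_add]
  rfl

lemma col_le_lam_add (𝔟 : Ideal A) (R P : Submodule A M) (h : 𝔟 • R ≤ P) :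
    col P ≤ lam 𝔟 R + col (R ⊔ P) := by
  rw [col_eq_add R.subtype P, Submodule.range_subtype]
  refine add_le_add ?_ le_rfl
  have hle : 𝔟 • (⊤ : Submodule A ↥R) ≤ P.comap R.subtype := by
    rw [← Submodule.map_le_iff_le_comap, Submodule.map_smul'', Submodule.map_subtype_top]
    exact h
  exact Module.length_le_of_surjective (Submodule.factor hle) (Submodule.factor_surjective hle)

/-- number of monomials of degree `j` in `r` variables -/
def gc : ℕ → ℕ → ℕ
  | 0, 0 => 1
  | 0, _ + 1 => 0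
  | _ + 1, 0 => 1
  | r + 1, j + 1 => gc (r + 1) j + gc r (j + 1)
termination_by r j => (r, j)

lemma gc_zero_succ (j : ℕ) : gc 0 (j + 1) = 0 := by rw [gc]

lemma gc_zero_right (r : ℕ) : gc r 0 = 1 := by
  cases r <;> rw [gc]

lemma gc_succ_succ (r j : ℕ) : gc (r + 1) (j + 1) = gc (r + 1) j + gc r (j + 1) := by rw [gc]

lemma gc_succ_le (r : ℕ) : ∀ j : ℕ, gc (r + 1) j ≤ (j + 1) ^ r := by
  induction r with
  | zero =>
    intro j
    induction j with
    | zero => rw [gc_zero_right]; simp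
    | succ j ih => rw [gc_succ_succ, gc_zero_succ]; simpa using ih
  | succ r ih =>
    intro j
    induction j with
    | zero => rw [gc_zero_right]; exact Nat.one_le_pow _ _ (by omega)
    | succ j ihj =>
      rw [gc_succ_succ]
      calc gc (r + 1 + 1) j + gc (r + 1) (j + 1) ≤ (j + 1) ^ (r + 1) + (j + 1 + 1) ^ r :=
            add_le_add ihj (ih (j + 1))
        _ ≤ (j + 1) * (j + 1 + 1) ^ r + (j + 1 + 1) ^ r := by
            refine add_le_add ?_ le_rfl
            rw [pow_succ']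
            exact Nat.mul_le_mul le_rfl (Nat.pow_le_pow_left (by omega) r)
        _ = (j + 1 + 1) ^ (r + 1) := by ring

lemma span_cons (a : A) (l : List A) :
    Ideal.span {x : A | x ∈ a :: l} = Ideal.span {a} ⊔ Ideal.span {x : A | x ∈ l} := by
  have : {x : A | x ∈ a :: l} = insert a {x : A | x ∈ l} := by
    ext x
    simp [List.mem_cons]
  rw [this, Ideal.span_insert]

/-- generator counting: `ℓ(𝔞^j M / 𝔟 𝔞^j M) ≤ #monomials · ℓ(M/𝔟M)` -/
theorem lam_pow_le (𝔟 : Ideal A) (l : List A) : ∀ j : ℕ,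
    lam 𝔟 ((Ideal.span {a : A | a ∈ l}) ^ j • (⊤ : Submodule A M)) ≤
      (gc l.length j : ℕ∞) * Module.length A (M ⧸ 𝔟 • (⊤ : Submodule A M)) := by
  induction l with
  | nil =>
    intro j
    cases j with
    | zero =>
      rw [pow_zero, Ideal.one_eq_top, Submodule.top_smul, gc_zero_right, Nat.cast_one, one_mul]
      exact lam_top_le 𝔟
    | succ j =>
      have : (Ideal.span {a : A | a ∈ ([] : List A)}) = ⊥ := by simp
      rw [this, ← Ideal.zero_eq_bot, zero_pow (Nat.succ_ne_zero j), Ideal.zero_eq_bot,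
        Submodule.bot_smul, lam_bot]
      exact zero_le
  | cons a l ih =>
    intro j
    induction j with
    | zero =>
      rw [pow_zero, Ideal.one_eq_top, Submodule.top_smul, gc_zero_right, Nat.cast_one, one_mul]
      exact lam_top_le 𝔟
    | succ j ihj =>
      have hs := span_cons a l
      rw [hs] at ihj ⊢
      rw [sup_pow_succ_smul]
      calc lam 𝔟 (a • ((Ideal.span {a} ⊔ Ideal.span {x : A | x ∈ l}) ^ j •
              (⊤ : Submodule A M)) ⊔ Ideal.span {x : A | x ∈ l} ^ (j + 1) • (⊤ : Submodule A M))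
          ≤ lam 𝔟 (a • ((Ideal.span {a} ⊔ Ideal.span {x : A | x ∈ l}) ^ j •
              (⊤ : Submodule A M))) +
            lam 𝔟 (Ideal.span {x : A | x ∈ l} ^ (j + 1) • (⊤ : Submodule A M)) :=
            lam_sup_le _ _ _
        _ ≤ lam 𝔟 ((Ideal.span {a} ⊔ Ideal.span {x : A | x ∈ l}) ^ j • (⊤ : Submodule A M)) +
            lam 𝔟 (Ideal.span {x : A | x ∈ l} ^ (j + 1) • (⊤ : Submodule A M)) :=
            add_le_add (lam_smul_le _ _ _) le_rfl
        _ ≤ (gc (a :: l).length j : ℕ∞) * Module.length A (M ⧸ 𝔟 • (⊤ : Submodule A M)) +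
            (gc l.length (j + 1) : ℕ∞) * Module.length A (M ⧸ 𝔟 • (⊤ : Submodule A M)) :=
            add_le_add ihj (ih (j + 1))
        _ = (gc (a :: l).length (j + 1) : ℕ∞) *
            Module.length A (M ⧸ 𝔟 • (⊤ : Submodule A M)) := by
            rw [← add_mul, ← Nat.cast_add, List.length_cons, gc_succ_succ]

end lam

section main

variable {A : Type*} [CommRing A] {M : Type*} [AddCommGroup M] [Module A M]

lemma comap_subtype_le_of_AR (q : Ideal A) (N : Submodule A M) (k₁ : ℕ)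
    (hAR : ∀ n ≥ k₁, q ^ n • (⊤ : Submodule A M) ⊓ N =
      q ^ (n - k₁) • (q ^ k₁ • (⊤ : Submodule A M) ⊓ N))
    (n : ℕ) (hn : k₁ ≤ n) :
    (q ^ n • (⊤ : Submodule A M)).comap N.subtype ≤ q ^ (n - k₁) • (⊤ : Submodule A ↥N) := by
  intro z hz
  have h1 : (z : M) ∈ q ^ n • (⊤ : Submodule A M) ⊓ N := ⟨hz, z.2⟩
  rw [hAR n hn] at h1
  have h2 : q ^ (n - k₁) • (q ^ k₁ • (⊤ : Submodule A M) ⊓ N) ≤
      (q ^ (n - k₁) • (⊤ : Submodule A ↥N)).map N.subtype := by
    rw [Submodule.map_smul'', Submodule.map_subtype_top]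
    exact Submodule.smul_mono le_rfl inf_le_right
  obtain ⟨z', hz', hzz⟩ := h2 h1
  have : z' = z := Subtype.ext hzz
  rw [← this]
  exact hz'

lemma range_lsmul (c : A) :
    LinearMap.range (LinearMap.lsmul A M c) = c • (⊤ : Submodule A M) := by
  ext m
  rw [LinearMap.mem_range, Submodule.mem_smul_pointwise_iff_exists]
  constructor
  · rintro ⟨y, rfl⟩
    exact ⟨y, Submodule.mem_top, rfl⟩
  · rintro ⟨y, -, rfl⟩
    exact ⟨y, rfl⟩

variable (c : A) (J : Ideal A)

lemma kill_quot (z : M ⧸ c • (⊤ : Submodule A M)) : c • z = 0 := by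
  obtain ⟨m, rfl⟩ := Submodule.mkQ_surjective _ z
  rw [← map_smul]
  exact (Submodule.Quotient.mk_eq_zero _).mpr
    (Submodule.smul_mem_pointwise_smul m c ⊤ Submodule.mem_top)

lemma kill_ker (z : ↥(LinearMap.ker (LinearMap.lsmul A M c))) : c • z = 0 :=
  Subtype.ext (LinearMap.mem_ker.mp z.2)

/-- `ℓ(M/q^{n+1}M) = ℓ(M'/J^{n+1}M') + ℓ(M/(q^{n+1}M : c))` -/
lemma col_succ_eq (n : ℕ) :
    col ((Ideal.span {c} ⊔ J) ^ (n + 1) • (⊤ : Submodule A M)) =
      col (((Ideal.span {c} ⊔ J) ^ (n + 1) • (⊤ : Submodule A M)).comap (LinearMap.lsmul A M c)) +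
        Module.length A ((M ⧸ c • (⊤ : Submodule A M)) ⧸
          (J ^ (n + 1) • (⊤ : Submodule A (M ⧸ c • (⊤ : Submodule A M))))) := by
  rw [col_eq_add (LinearMap.lsmul A M c), range_lsmul,
    ← pow_smul_top_of_kill c J (M ⧸ c • (⊤ : Submodule A M)) (kill_quot c) (n + 1),
    length_quot_quot]
  rfl

/-- `ℓ(M/q^n M) = ℓ(N/(N ∩ q^n M)) + ℓ(M/(N + q^n M))` -/
lemma col_eq_ker (n : ℕ) :
    col ((Ideal.span {c} ⊔ J) ^ n • (⊤ : Submodule A M)) =
      Module.length A (↥(LinearMap.ker (LinearMap.lsmul A M c)) ⧸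
        ((Ideal.span {c} ⊔ J) ^ n • (⊤ : Submodule A M)).comap
          (LinearMap.ker (LinearMap.lsmul A M c)).subtype) +
      col (LinearMap.ker (LinearMap.lsmul A M c) ⊔
        (Ideal.span {c} ⊔ J) ^ n • (⊤ : Submodule A M)) := by
  rw [col_eq_add (LinearMap.ker (LinearMap.lsmul A M c)).subtype, Submodule.range_subtype]

lemma ker_quot_le (n : ℕ) :
    Module.length A (↥(LinearMap.ker (LinearMap.lsmul A M c)) ⧸
        ((Ideal.span {c} ⊔ J) ^ n • (⊤ : Submodule A M)).comap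
          (LinearMap.ker (LinearMap.lsmul A M c)).subtype) ≤
      Module.length A (↥(LinearMap.ker (LinearMap.lsmul A M c)) ⧸
        (J ^ n • (⊤ : Submodule A ↥(LinearMap.ker (LinearMap.lsmul A M c))))) := by
  have hle : J ^ n • (⊤ : Submodule A ↥(LinearMap.ker (LinearMap.lsmul A M c))) ≤
      ((Ideal.span {c} ⊔ J) ^ n • (⊤ : Submodule A M)).comap
          (LinearMap.ker (LinearMap.lsmul A M c)).subtype := by
    rw [← pow_smul_top_of_kill c J _ (kill_ker c) n]
    exact Submodule.smul_top_le_comap_smul_top _ _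
  exact Module.length_le_of_surjective (Submodule.factor hle) (Submodule.factor_surjective hle)

variable [IsNoetherianRing A] [Module.Finite A M]

/-- upper bound for the increments of the Samuel function -/
theorem samuel_upper : ∃ k₁ : ℕ, ∀ n : ℕ, k₁ ≤ n →
    col ((Ideal.span {c} ⊔ J) ^ (n + 1) • (⊤ : Submodule A M)) +
      Module.length A (↥(LinearMap.ker (LinearMap.lsmul A M c)) ⧸
        (J ^ (n - k₁) • (⊤ : Submodule A ↥(LinearMap.ker (LinearMap.lsmul A M c))))) ≤
    col ((Ideal.span {c} ⊔ J) ^ n • (⊤ : Submodule A M)) +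
      Module.length A ((M ⧸ c • (⊤ : Submodule A M)) ⧸
        (J ^ (n + 1) • (⊤ : Submodule A (M ⧸ c • (⊤ : Submodule A M))))) := by
  obtain ⟨k₁, hk₁⟩ := Ideal.exists_pow_inf_eq_pow_smul (Ideal.span {c} ⊔ J)
    (LinearMap.ker (LinearMap.lsmul A M c))
  refine ⟨k₁, fun n hn => ?_⟩
  have h1 : Module.length A (↥(LinearMap.ker (LinearMap.lsmul A M c)) ⧸
        (J ^ (n - k₁) • (⊤ : Submodule A ↥(LinearMap.ker (LinearMap.lsmul A M c))))) ≤
      Module.length A (↥(LinearMap.ker (LinearMap.lsmul A M c)) ⧸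
        ((Ideal.span {c} ⊔ J) ^ n • (⊤ : Submodule A M)).comap
          (LinearMap.ker (LinearMap.lsmul A M c)).subtype) := by
    have hle := comap_subtype_le_of_AR (Ideal.span {c} ⊔ J)
      (LinearMap.ker (LinearMap.lsmul A M c)) k₁ hk₁ n hn
    rw [pow_smul_top_of_kill c J _ (kill_ker c) (n - k₁)] at hle
    exact Module.length_le_of_surjective (Submodule.factor hle) (Submodule.factor_surjective hle)
  have h2 : col (((Ideal.span {c} ⊔ J) ^ (n + 1) • (⊤ : Submodule A M)).comap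
      (LinearMap.lsmul A M c)) ≤
      col (LinearMap.ker (LinearMap.lsmul A M c) ⊔
        (Ideal.span {c} ⊔ J) ^ n • (⊤ : Submodule A M)) := by
    apply col_anti
    rw [sup_comm]
    exact sandwich_lower c J n
  rw [col_succ_eq c J n, col_eq_ker c J n]
  calc _ ≤ col (LinearMap.ker (LinearMap.lsmul A M c) ⊔
        (Ideal.span {c} ⊔ J) ^ n • (⊤ : Submodule A M)) +
        Module.length A ((M ⧸ c • (⊤ : Submodule A M)) ⧸
          (J ^ (n + 1) • (⊤ : Submodule A (M ⧸ c • (⊤ : Submodule A M))))) +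
        Module.length A (↥(LinearMap.ker (LinearMap.lsmul A M c)) ⧸
          ((Ideal.span {c} ⊔ J) ^ n • (⊤ : Submodule A M)).comap
            (LinearMap.ker (LinearMap.lsmul A M c)).subtype) :=
        add_le_add (add_le_add h2 le_rfl) h1
    _ = _ := by ring

/-- lower bound for the increments of the Samuel function -/
theorem samuel_lower : ∃ k₀ : ℕ, ∀ n : ℕ, k₀ ≤ n + 1 →
    col ((Ideal.span {c} ⊔ J) ^ n • (⊤ : Submodule A M)) +
      Module.length A ((M ⧸ c • (⊤ : Submodule A M)) ⧸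
        (J ^ (n + 1) • (⊤ : Submodule A (M ⧸ c • (⊤ : Submodule A M))))) ≤
    col ((Ideal.span {c} ⊔ J) ^ (n + 1) • (⊤ : Submodule A M)) +
      Module.length A (↥(LinearMap.ker (LinearMap.lsmul A M c)) ⧸
        (J ^ n • (⊤ : Submodule A ↥(LinearMap.ker (LinearMap.lsmul A M c))))) +
      lam ((Ideal.span {c} ⊔ J) ^ k₀) (J ^ (n + 1 - k₀) • (⊤ : Submodule A M)) := by
  obtain ⟨k₀, hk₀⟩ := Ideal.exists_pow_inf_eq_pow_smul J (c • (⊤ : Submodule A M))
  refine ⟨k₀, fun n hn => ?_⟩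
  have h1 := ker_quot_le c J (M := M) n
  have h2 : col (J ^ (n + 1 - k₀) • (⊤ : Submodule A M) ⊔
        ((Ideal.span {c} ⊔ J) ^ n • (⊤ : Submodule A M) ⊔
          LinearMap.ker (LinearMap.lsmul A M c))) ≤
      col (((Ideal.span {c} ⊔ J) ^ (n + 1) • (⊤ : Submodule A M)).comap
        (LinearMap.lsmul A M c)) :=
    col_anti (sandwich_upper c J k₀ hk₀ n hn)
  have h3 : col ((Ideal.span {c} ⊔ J) ^ n • (⊤ : Submodule A M) ⊔
          LinearMap.ker (LinearMap.lsmul A M c)) ≤
      lam ((Ideal.span {c} ⊔ J) ^ k₀) (J ^ (n + 1 - k₀) • (⊤ : Submodule A M)) +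
        col (J ^ (n + 1 - k₀) • (⊤ : Submodule A M) ⊔
        ((Ideal.span {c} ⊔ J) ^ n • (⊤ : Submodule A M) ⊔
          LinearMap.ker (LinearMap.lsmul A M c))) := by
    apply col_le_lam_add
    refine le_trans ?_ le_sup_left
    calc (Ideal.span {c} ⊔ J) ^ k₀ • (J ^ (n + 1 - k₀) • (⊤ : Submodule A M))
        ≤ (Ideal.span {c} ⊔ J) ^ k₀ • ((Ideal.span {c} ⊔ J) ^ (n + 1 - k₀) •
          (⊤ : Submodule A M)) :=
          Submodule.smul_mono le_rfl
            (Submodule.smul_mono (Ideal.pow_right_mono le_sup_right _) le_rfl)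
      _ = (Ideal.span {c} ⊔ J) ^ (n + 1) • (⊤ : Submodule A M) := by
          rw [← Submodule.mul_smul, ← pow_add, Nat.add_sub_cancel' hn]
      _ ≤ (Ideal.span {c} ⊔ J) ^ n • (⊤ : Submodule A M) :=
          Submodule.smul_mono (Ideal.pow_le_pow_right (Nat.le_succ n)) le_rfl
  rw [col_succ_eq c J n, col_eq_ker c J n, sup_comm (LinearMap.ker (LinearMap.lsmul A M c))]
  calc _ ≤ Module.length A (↥(LinearMap.ker (LinearMap.lsmul A M c)) ⧸
        (J ^ n • (⊤ : Submodule A ↥(LinearMap.ker (LinearMap.lsmul A M c))))) +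
        (lam ((Ideal.span {c} ⊔ J) ^ k₀) (J ^ (n + 1 - k₀) • (⊤ : Submodule A M)) +
        col (((Ideal.span {c} ⊔ J) ^ (n + 1) • (⊤ : Submodule A M)).comap
          (LinearMap.lsmul A M c))) +
        Module.length A ((M ⧸ c • (⊤ : Submodule A M)) ⧸
          (J ^ (n + 1) • (⊤ : Submodule A (M ⧸ c • (⊤ : Submodule A M))))) :=
        add_le_add (add_le_add h1 (h3.trans (add_le_add le_rfl h2))) le_rfl
    _ = _ := by ring

end main

end Groth.Agent.Lib.SamuelKoszul1_helper6
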