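import Mathlib
import Groth.Agent.Lib.SamuelKoszul1_helper6

/-!
# Samuel multiplicity versus Koszul Euler characteristic II: asymptotic analysis (helper6)
-/

set_option autoImplicit false
open Filter Topology Asymptotics Finset

namespace Groth.Agent.Lib.SamuelKoszul2_helper6

open Groth.Agent.Lib.SamuelKoszul1_helper6

lemma tendsto_choose_div_pow (r : ℕ) :
    Tendsto (fun n : ℕ => (n.choose r : ℝ) / (n : ℝ) ^ r) atTop
      (𝓝 (1 / (r.factorial : ℝ))) := by
  have h := isEquivalent_choose r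
  have hf : (r.factorial : ℝ) ≠ 0 := Nat.cast_ne_zero.mpr (Nat.factorial_ne_zero r)
  have hz : ∀ᶠ n : ℕ in atTop, ((n : ℝ) ^ r / (r.factorial : ℝ)) ≠ 0 := by
    filter_upwards [eventually_ge_atTop 1] with n hn
    have hn' : (n : ℝ) ≠ 0 := Nat.cast_ne_zero.mpr (by omega)
    exact div_ne_zero (pow_ne_zero r hn') hf
  rw [isEquivalent_iff_tendsto_one hz] at h
  have h2 := h.div_const (r.factorial : ℝ)
  refine h2.congr' ?_
  filter_upwards [eventually_ge_atTop 1] with n hn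
  have hn' : (n : ℝ) ≠ 0 := Nat.cast_ne_zero.mpr (by omega)
  simp only [Pi.div_apply]
  field_simp

lemma sum_range_choose (r n : ℕ) : ∑ i ∈ range n, i.choose r = n.choose (r + 1) := by
  induction n with
  | zero => simp
  | succ n ih => rw [sum_range_succ, ih, Nat.choose_succ_succ' n r, add_comm]

lemma tendsto_pow_nat_atTop (r : ℕ) :
    Tendsto (fun n : ℕ => (n : ℝ) ^ (r + 1)) atTop atTop :=
  (tendsto_pow_atTop (Nat.succ_ne_zero r)).comp tendsto_natCast_atTop_atTop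

/-- Stolz–Cesàro for polynomial growth. -/
theorem tendsto_of_increments (a : ℕ → ℝ) (r : ℕ) (W : ℝ)
    (hb : Tendsto (fun n : ℕ => (a (n + 1) - a n) / (n : ℝ) ^ r) atTop (𝓝 W)) :
    Tendsto (fun n : ℕ => a n / (n : ℝ) ^ (r + 1)) atTop (𝓝 (W / ((r : ℝ) + 1))) := by
  have hfac : (r.factorial : ℝ) ≠ 0 := Nat.cast_ne_zero.mpr (Nat.factorial_ne_zero r)
  have hf1 : (fun n : ℕ => (a (n + 1) - a n) - W * (r.factorial : ℝ) * (n.choose r : ℝ))
      =o[atTop] (fun n : ℕ => (n : ℝ) ^ r) := by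
    rw [isLittleO_iff_tendsto']
    · have h1 := (tendsto_choose_div_pow r).const_mul (W * (r.factorial : ℝ))
      have h2 := hb.sub h1
      have h3 : W - W * (r.factorial : ℝ) * (1 / (r.factorial : ℝ)) = 0 := by
        field_simp
        ring
      rw [h3] at h2
      refine h2.congr' ?_
      filter_upwards with n
      ring
    · filter_upwards [eventually_ge_atTop 1] with n hn h0
      exact absurd h0 (pow_ne_zero r (Nat.cast_ne_zero.mpr (by omega)))
  have hf2 : (fun n : ℕ => (a (n + 1) - a n) - W * (r.factorial : ℝ) * (n.choose r : ℝ))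
      =o[atTop] (fun n : ℕ => (n.choose r : ℝ)) :=
    hf1.trans_isBigO (isTheta_choose r).symm.isBigO
  have hg0 : (0 : ℕ → ℝ) ≤ fun n => (n.choose r : ℝ) := fun n => Nat.cast_nonneg _
  have hsum_eq : ∀ n, ∑ i ∈ range n, ((i.choose r : ℕ) : ℝ) = (n.choose (r + 1) : ℝ) := by
    intro n
    rw [← Nat.cast_sum, sum_range_choose]
  have hgT : Tendsto (fun n => ∑ i ∈ range n, ((i.choose r : ℕ) : ℝ)) atTop atTop := by
    simp_rw [hsum_eq]
    refine (isEquivalent_choose (r + 1)).symm.tendsto_atTop ?_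
    exact (tendsto_pow_nat_atTop r).atTop_div_const (by positivity)
  have hS := hf2.sum_range hg0 hgT
  have hSf : ∀ n, ∑ i ∈ range n,
      ((a (i + 1) - a i) - W * (r.factorial : ℝ) * (i.choose r : ℝ)) =
      a n - a 0 - W * (r.factorial : ℝ) * (n.choose (r + 1) : ℝ) := by
    intro n
    rw [sum_sub_distrib, sum_range_sub, ← mul_sum, hsum_eq]
  simp_rw [hsum_eq, hSf] at hS
  have hS2 : (fun n : ℕ => a n - a 0 - W * (r.factorial : ℝ) * (n.choose (r + 1) : ℝ))
      =o[atTop] (fun n : ℕ => (n : ℝ) ^ (r + 1)) :=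
    hS.trans_isBigO (isTheta_choose (r + 1)).isBigO
  have hS3 := hS2.tendsto_div_nhds_zero
  have h0 : Tendsto (fun n : ℕ => a 0 / (n : ℝ) ^ (r + 1)) atTop (𝓝 0) :=
    Tendsto.div_atTop tendsto_const_nhds (tendsto_pow_nat_atTop r)
  have hc := (tendsto_choose_div_pow (r + 1)).const_mul (W * (r.factorial : ℝ))
  have htot := (hS3.add h0).add hc
  have hlim : (0 : ℝ) + 0 + W * (r.factorial : ℝ) * (1 / ((r + 1).factorial : ℝ)) =
      W / ((r : ℝ) + 1) := by
    have : ((r : ℝ) + 1) ≠ 0 := by positivity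
    rw [Nat.factorial_succ]
    push_cast
    field_simp
    ring
  rw [hlim] at htot
  refine htot.congr' ?_
  filter_upwards with n
  ring

/-- squeeze version -/
theorem tendsto_of_increments_sq (a lo hi : ℕ → ℝ) (r : ℕ) (W : ℝ)
    (hlo : Tendsto (fun n : ℕ => lo n / (n : ℝ) ^ r) atTop (𝓝 W))
    (hhi : Tendsto (fun n : ℕ => hi n / (n : ℝ) ^ r) atTop (𝓝 W))
    (h1 : ∀ᶠ n in atTop, lo n ≤ a (n + 1) - a n)
    (h2 : ∀ᶠ n in atTop, a (n + 1) - a n ≤ hi n) :
    Tendsto (fun n : ℕ => a n / (n : ℝ) ^ (r + 1)) atTop (𝓝 (W / ((r : ℝ) + 1))) := by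
  apply tendsto_of_increments
  refine tendsto_of_tendsto_of_tendsto_of_le_of_le' hlo hhi ?_ ?_
  · filter_upwards [h1] with n hn
    exact div_le_div_of_nonneg_right hn (by positivity)
  · filter_upwards [h2] with n hn
    exact div_le_div_of_nonneg_right hn (by positivity)

lemma tendsto_shift (f : ℕ → ℝ) (r : ℕ) (W : ℝ) (φ : ℕ → ℕ) (hφ : Tendsto φ atTop atTop)
    (hφ1 : Tendsto (fun n : ℕ => (φ n : ℝ) / (n : ℝ)) atTop (𝓝 1))
    (h : Tendsto (fun n : ℕ => f n / (n : ℝ) ^ r) atTop (𝓝 W)) :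
    Tendsto (fun n : ℕ => f (φ n) / (n : ℝ) ^ r) atTop (𝓝 W) := by
  have h1 := h.comp hφ
  have h2 := hφ1.pow r
  have h3 := h1.mul h2
  rw [one_pow, mul_one] at h3
  refine h3.congr' ?_
  filter_upwards [hφ.eventually_ge_atTop 1, eventually_ge_atTop 1] with n hn1 hn2
  have hp : (φ n : ℝ) ≠ 0 := Nat.cast_ne_zero.mpr (by omega)
  have hn : (n : ℝ) ≠ 0 := Nat.cast_ne_zero.mpr (by omega)
  simp only [Function.comp_apply]
  rw [div_pow]
  field_simp

lemma tendsto_add_div (s : ℕ) :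
    Tendsto (fun n : ℕ => ((n + s : ℕ) : ℝ) / (n : ℝ)) atTop (𝓝 1) := by
  have h := (tendsto_const_div_atTop_nhds_zero_nat (s : ℝ)).const_add 1
  rw [add_zero] at h
  refine h.congr' ?_
  filter_upwards [eventually_ge_atTop 1] with n hn
  have hn' : (n : ℝ) ≠ 0 := Nat.cast_ne_zero.mpr (by omega)
  push_cast
  field_simp

lemma tendsto_sub_div (s : ℕ) :
    Tendsto (fun n : ℕ => ((n - s : ℕ) : ℝ) / (n : ℝ)) atTop (𝓝 1) := by
  have h := (tendsto_const_div_atTop_nhds_zero_nat (s : ℝ)).const_sub 1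
  rw [sub_zero] at h
  refine h.congr' ?_
  filter_upwards [eventually_ge_atTop 1, eventually_ge_atTop s] with n hn hs
  have hn' : (n : ℝ) ≠ 0 := Nat.cast_ne_zero.mpr (by omega)
  rw [Nat.cast_sub hs]
  field_simp

lemma tendsto_shift_add (f : ℕ → ℝ) (r : ℕ) (W : ℝ) (s : ℕ)
    (h : Tendsto (fun n : ℕ => f n / (n : ℝ) ^ r) atTop (𝓝 W)) :
    Tendsto (fun n : ℕ => f (n + s) / (n : ℝ) ^ r) atTop (𝓝 W) :=
  tendsto_shift f r W (fun n => n + s) (tendsto_add_atTop_nat s) (tendsto_add_div s) h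

lemma tendsto_shift_sub (f : ℕ → ℝ) (r : ℕ) (W : ℝ) (s : ℕ)
    (h : Tendsto (fun n : ℕ => f n / (n : ℝ) ^ r) atTop (𝓝 W)) :
    Tendsto (fun n : ℕ => f (n - s) / (n : ℝ) ^ r) atTop (𝓝 W) :=
  tendsto_shift f r W (fun n => n - s) (tendsto_sub_atTop_nat s) (tendsto_sub_div s) h

/-- the generator-count error term is of lower order -/
lemma tendsto_gc (r k : ℕ) (Λ : ℝ) (hΛ : 0 ≤ Λ) :
    Tendsto (fun n : ℕ => (gc r (n + 1 - k) : ℝ) * Λ / (n : ℝ) ^ r) atTop (𝓝 0) := by
  cases r with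
  | zero =>
    refine tendsto_const_nhds.congr' ?_
    filter_upwards [eventually_ge_atTop k] with n hn
    have : n + 1 - k = (n - k) + 1 := by omega
    rw [this, gc_zero_succ]
    simp
  | succ s =>
    have hg : Tendsto (fun n : ℕ => (((n + 2 : ℕ) : ℝ) / (n : ℝ)) ^ s * ((1 : ℝ) / (n : ℝ)) * Λ)
        atTop (𝓝 0) := by
      have h1 := ((tendsto_add_div 2).pow s).mul (tendsto_const_div_atTop_nhds_zero_nat (1 : ℝ))
      have h2 := h1.mul_const Λ
      simpa using h2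
    refine squeeze_zero' ?_ ?_ hg
    · filter_upwards with n
      positivity
    · filter_upwards [eventually_ge_atTop 1] with n hn
      have hn' : (0 : ℝ) < (n : ℝ) := Nat.cast_pos.mpr (by omega)
      have h1 : (gc (s + 1) (n + 1 - k) : ℝ) ≤ ((n + 2 : ℕ) : ℝ) ^ s := by
        have : gc (s + 1) (n + 1 - k) ≤ (n + 2) ^ s :=
          (gc_succ_le s _).trans (Nat.pow_le_pow_left (by omega) s)
        exact_mod_cast this
      have h2 : (((n + 2 : ℕ) : ℝ) / (n : ℝ)) ^ s * ((1 : ℝ) / (n : ℝ)) * Λ =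
          ((n + 2 : ℕ) : ℝ) ^ s * Λ / (n : ℝ) ^ (s + 1) := by
        rw [div_pow, pow_succ]
        field_simp
      rw [h2]
      exact div_le_div_of_nonneg_right (mul_le_mul_of_nonneg_right h1 hΛ) (by positivity)

end Groth.Agent.Lib.SamuelKoszul2_helper6
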