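import Mathlib
import Groth.Agent.Lib.KoszulEuler5_helper6
import Groth.Agent.Lib.SamuelKoszul2_helper6

/-!
# Samuel multiplicity versus Koszul Euler characteristic III: the main theorem (helper6)

`k! · ℓ(M/q^n M)/n^k → χ(x_1,…,x_k; M)` for `q = (x_1,…,x_k)` with `M/qM` of finite length
(Serre / Auslander–Buchsbaum), by induction on `k` through
`e(c, l; M) = e(l; M/cM) - e(l; 0 :_M c)`.
-/

set_option autoImplicit false
universe u
open CategoryTheory CategoryTheory.Limits CochainComplex HomologicalComplex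
open Filter Topology
open scoped Pointwise

namespace Groth.Agent.Lib.SamuelKoszul3_helper6

open Groth.Agent.Lib.LenIndex_helper6 Groth.Agent.Lib.KoszulEuler_helper6
  Groth.Agent.Lib.KoszulEuler2_helper6 Groth.Agent.Lib.KoszulEuler3_helper6
  Groth.Agent.Lib.SamuelKoszul1_helper6 Groth.Agent.Lib.SamuelKoszul2_helper6

lemma real_of_enat_le4 {x₁ x₂ y₁ y₂ : ℕ∞} (hx₁ : x₁ ≠ ⊤) (hx₂ : x₂ ≠ ⊤) (hy₁ : y₁ ≠ ⊤)
    (hy₂ : y₂ ≠ ⊤) (h : x₁ + x₂ ≤ y₁ + y₂) :
    (x₁.toNat : ℝ) + (x₂.toNat : ℝ) ≤ (y₁.toNat : ℝ) + (y₂.toNat : ℝ) := by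
  lift x₁ to ℕ using hx₁
  lift x₂ to ℕ using hx₂
  lift y₁ to ℕ using hy₁
  lift y₂ to ℕ using hy₂
  simp only [ENat.toNat_coe]
  exact_mod_cast h

lemma real_of_enat_le5 {x₁ x₂ y₁ y₂ y₃ : ℕ∞} (g : ℕ) (hx₁ : x₁ ≠ ⊤) (hx₂ : x₂ ≠ ⊤)
    (hy₁ : y₁ ≠ ⊤) (hy₂ : y₂ ≠ ⊤) (hy₃ : y₃ ≤ (g : ℕ∞)) (h : x₁ + x₂ ≤ y₁ + y₂ + y₃) :
    (x₁.toNat : ℝ) + (x₂.toNat : ℝ) ≤ (y₁.toNat : ℝ) + (y₂.toNat : ℝ) + (g : ℝ) := by
  have h' : x₁ + x₂ ≤ y₁ + y₂ + (g : ℕ∞) := h.trans (add_le_add le_rfl hy₃)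
  lift x₁ to ℕ using hx₁
  lift x₂ to ℕ using hx₂
  lift y₁ to ℕ using hy₁
  lift y₂ to ℕ using hy₂
  simp only [ENat.toNat_coe]
  exact_mod_cast h'

variable {A : Type u} [CommRing A]

/-- the Samuel function `n ↦ ℓ(M/I^n M)` -/
noncomputable def hs (I : Ideal A) (M : Type*) [AddCommGroup M] [Module A M] (n : ℕ) : ℕ :=
  (Module.length A (M ⧸ (I ^ n • (⊤ : Submodule A M)))).toNat

variable [IsNoetherianRing A]

lemma fl_pow (I : Ideal A) (M : Type*) [AddCommGroup M] [Module A M] [Module.Finite A M]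
    (h : IsFiniteLength A (M ⧸ (I • (⊤ : Submodule A M)))) (n : ℕ) :
    IsFiniteLength A (M ⧸ (I ^ n • (⊤ : Submodule A M))) := by
  apply fl_general M M I (I ^ n) _ h
  rintro p ⟨hp1, hp2⟩
  refine ⟨hp1, ?_⟩
  by_cases hn : n = 0
  · subst hn
    rw [pow_zero, Ideal.one_eq_top] at hp2
    simp at hp2
  · rwa [PrimeSpectrum.zeroLocus_pow I hn] at hp2

/-- **Samuel multiplicity = Koszul Euler characteristic** (normalised form). -/
theorem samuel_tendsto (l : List A) : ∀ (M : Type u) [AddCommGroup M] [Module A M]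
    [Module.Finite A M],
    IsFiniteLength A (M ⧸ (Ideal.span {a : A | a ∈ l} • (⊤ : Submodule A M))) →
    Tendsto (fun n : ℕ => (hs (Ideal.span {a : A | a ∈ l}) M n : ℝ) / (n : ℝ) ^ l.length) atTop
      (𝓝 ((chi (CohIII.koszulCx (ModuleCat.of A M) l) : ℝ) / (l.length.factorial : ℝ))) := by
  induction l with
  | nil =>
    intro M _ _ _ hfl
    rw [chi_nil (ModuleCat.of A M)]
    refine tendsto_const_nhds.congr' ?_
    filter_upwards [eventually_ge_atTop 1] with n hn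
    have h0 : (Ideal.span {a : A | a ∈ ([] : List A)}) ^ n • (⊤ : Submodule A M) = ⊥ := by
      have : (Ideal.span {a : A | a ∈ ([] : List A)}) = ⊥ := by simp
      rw [this, ← Ideal.zero_eq_bot, zero_pow (by omega), Ideal.zero_eq_bot, Submodule.bot_smul]
    unfold hs
    rw [(Submodule.quotEquivOfEqBot _ h0).length_eq]
    simp
  | cons c l ih =>
    intro M _ _ _ hfl
    have hq : Ideal.span {a : A | a ∈ c :: l} =
        Ideal.span {c} ⊔ Ideal.span {a : A | a ∈ l} := span_cons c l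
    have hflN := fl_tors c l M hfl
    have hflQ := fl_quot c l M hfl
    have ihQ := ih (M ⧸ c • (⊤ : Submodule A M)) hflQ
    have ihN := ih ↥(LinearMap.ker (LinearMap.lsmul A M c)) hflN
    have hχ := northcott c l M hfl
    obtain ⟨k₁, hU⟩ := samuel_upper (M := M) c (Ideal.span {a : A | a ∈ l})
    obtain ⟨k₀, hL⟩ := samuel_lower (M := M) c (Ideal.span {a : A | a ∈ l})
    rw [hq] at hfl ⊢
    have hfa : ∀ n, Module.length A (M ⧸ ((Ideal.span {c} ⊔ Ideal.span {a : A | a ∈ l}) ^ n •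
        (⊤ : Submodule A M))) ≠ ⊤ :=
      fun n => Module.length_ne_top_iff.mpr (fl_pow _ M hfl n)
    have hfu : ∀ n, Module.length A ((M ⧸ c • (⊤ : Submodule A M)) ⧸
        ((Ideal.span {a : A | a ∈ l}) ^ n •
          (⊤ : Submodule A (M ⧸ c • (⊤ : Submodule A M))))) ≠ ⊤ :=
      fun n => Module.length_ne_top_iff.mpr (fl_pow _ _ hflQ n)
    have hfv : ∀ n, Module.length A (↥(LinearMap.ker (LinearMap.lsmul A M c)) ⧸
        ((Ideal.span {a : A | a ∈ l}) ^ n •
          (⊤ : Submodule A ↥(LinearMap.ker (LinearMap.lsmul A M c))))) ≠ ⊤ :=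
      fun n => Module.length_ne_top_iff.mpr (fl_pow _ _ hflN n)
    -- the two real inequalities
    have hUr : ∀ n, k₁ ≤ n →
        (hs (Ideal.span {c} ⊔ Ideal.span {a : A | a ∈ l}) M (n + 1) : ℝ) +
          (hs (Ideal.span {a : A | a ∈ l}) ↥(LinearMap.ker (LinearMap.lsmul A M c)) (n - k₁) : ℝ) ≤
        (hs (Ideal.span {c} ⊔ Ideal.span {a : A | a ∈ l}) M n : ℝ) +
          (hs (Ideal.span {a : A | a ∈ l}) (M ⧸ c • (⊤ : Submodule A M)) (n + 1) : ℝ) :=
      fun n hn => real_of_enat_le4 (hfa _) (hfv _) (hfa _) (hfu _) (hU n hn)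
    have hLr : ∀ n, k₀ ≤ n + 1 →
        (hs (Ideal.span {c} ⊔ Ideal.span {a : A | a ∈ l}) M n : ℝ) +
          (hs (Ideal.span {a : A | a ∈ l}) (M ⧸ c • (⊤ : Submodule A M)) (n + 1) : ℝ) ≤
        (hs (Ideal.span {c} ⊔ Ideal.span {a : A | a ∈ l}) M (n + 1) : ℝ) +
          (hs (Ideal.span {a : A | a ∈ l}) ↥(LinearMap.ker (LinearMap.lsmul A M c)) n : ℝ) +
          ((gc l.length (n + 1 - k₀) *
            hs (Ideal.span {c} ⊔ Ideal.span {a : A | a ∈ l}) M k₀ : ℕ) : ℝ) := by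
      intro n hn
      refine real_of_enat_le5 _ (hfa _) (hfu _) (hfa _) (hfv _) ?_ (hL n hn)
      refine (lam_pow_le _ l (n + 1 - k₀)).trans ?_
      rw [Nat.cast_mul]
      refine mul_le_mul' le_rfl ?_
      unfold hs
      rw [ENat.coe_toNat (hfa k₀)]
    -- limits
    set r := l.length with hr
    have hΛ : (0 : ℝ) ≤ (hs (Ideal.span {c} ⊔ Ideal.span {a : A | a ∈ l}) M k₀ : ℝ) :=
      Nat.cast_nonneg _
    have hg := tendsto_gc r k₀ _ hΛ
    have hu1 := tendsto_shift_add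
      (fun n => (hs (Ideal.span {a : A | a ∈ l}) (M ⧸ c • (⊤ : Submodule A M)) n : ℝ)) r _ 1 ihQ
    have hv1 := tendsto_shift_sub
      (fun n => (hs (Ideal.span {a : A | a ∈ l})
        ↥(LinearMap.ker (LinearMap.lsmul A M c)) n : ℝ)) r _ k₁ ihN
    have hlo := (hu1.sub ihN).sub hg
    have hhi := hu1.sub hv1
    rw [sub_zero] at hlo
    have key := tendsto_of_increments_sq
      (fun n => (hs (Ideal.span {c} ⊔ Ideal.span {a : A | a ∈ l}) M n : ℝ))
      (fun n => (hs (Ideal.span {a : A | a ∈ l}) (M ⧸ c • (⊤ : Submodule A M)) (n + 1) : ℝ) -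
        (hs (Ideal.span {a : A | a ∈ l}) ↥(LinearMap.ker (LinearMap.lsmul A M c)) n : ℝ) -
        (gc r (n + 1 - k₀) : ℝ) *
          (hs (Ideal.span {c} ⊔ Ideal.span {a : A | a ∈ l}) M k₀ : ℝ))
      (fun n => (hs (Ideal.span {a : A | a ∈ l}) (M ⧸ c • (⊤ : Submodule A M)) (n + 1) : ℝ) -
        (hs (Ideal.span {a : A | a ∈ l}) ↥(LinearMap.ker (LinearMap.lsmul A M c))
          (n - k₁) : ℝ))
      r _
      (hlo.congr' (by filter_upwards with n; ring))
      (hhi.congr' (by filter_upwards with n; ring))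
      (by
        filter_upwards [eventually_ge_atTop k₀] with n hn
        have := hLr n (by omega)
        push_cast at this
        linarith)
      (by
        filter_upwards [eventually_ge_atTop k₁] with n hn
        have := hUr n hn
        linarith)
    have hfac : (r.factorial : ℝ) ≠ 0 := Nat.cast_ne_zero.mpr (Nat.factorial_ne_zero r)
    have hr1 : ((r : ℝ) + 1) ≠ 0 := by positivity
    have hlim : ((chi (CohIII.koszulCx (ModuleCat.of A (M ⧸ c • (⊤ : Submodule A M))) l) : ℝ) /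
          (r.factorial : ℝ) -
        (chi (CohIII.koszulCx (ModuleCat.of A ↥(LinearMap.ker (LinearMap.lsmul A M c))) l) : ℝ) /
          (r.factorial : ℝ)) / ((r : ℝ) + 1) =
        (chi (CohIII.koszulCx (ModuleCat.of A M) (c :: l)) : ℝ) /
          ((c :: l).length.factorial : ℝ) := by
      rw [hχ, List.length_cons, Nat.factorial_succ]
      push_cast
      field_simp
      rw [hr]
      ring
    rw [hlim] at key
    exact key

/-- `Fin`-indexed form, normalised -/
theorem samuel_fin (d : ℕ) (x : Fin d → A) (M : Type u) [AddCommGroup M] [Module A M]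
    [Module.Finite A M]
    (hfl : IsFiniteLength A (M ⧸ (Ideal.span (Set.range x) • (⊤ : Submodule A M)))) :
    Tendsto (fun n : ℕ => ((Module.length A (M ⧸ (Ideal.span (Set.range x) ^ n •
        (⊤ : Submodule A M)))).toNat : ℝ) / (n : ℝ) ^ d) atTop
      (𝓝 ((chi (DRing.tensorCx (Koszul.koszul A (List.ofFn x)) (ModuleCat.of A M)) : ℝ) /
        (d.factorial : ℝ))) := by
  have hset : {a : A | a ∈ List.ofFn x} = Set.range x := by
    ext a
    simp [List.mem_ofFn]
  have h := samuel_tendsto (List.ofFn x) M (by rw [hset]; exact hfl)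
  rw [hset, List.length_ofFn, ← chi_tensor] at h
  exact h

/-- `Fin`-indexed form with the factorial -/
theorem samuel_fin_fact (d : ℕ) (x : Fin d → A) (M : Type u) [AddCommGroup M] [Module A M]
    [Module.Finite A M]
    (hfl : IsFiniteLength A (M ⧸ (Ideal.span (Set.range x) • (⊤ : Submodule A M)))) :
    Tendsto (fun n : ℕ => (d.factorial : ℝ) * ((Module.length A (M ⧸ (Ideal.span (Set.range x) ^ n •
        (⊤ : Submodule A M)))).toNat : ℝ) / (n : ℝ) ^ d) atTop
      (𝓝 ((chi (DRing.tensorCx (Koszul.koszul A (List.ofFn x)) (ModuleCat.of A M)) : ℤ) : ℝ)) := by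
  have h := (samuel_fin d x M hfl).const_mul (d.factorial : ℝ)
  have hf : (d.factorial : ℝ) ≠ 0 := Nat.cast_ne_zero.mpr (Nat.factorial_ne_zero d)
  have h2 : (d.factorial : ℝ) *
      ((chi (DRing.tensorCx (Koszul.koszul A (List.ofFn x)) (ModuleCat.of A M)) : ℝ) /
        (d.factorial : ℝ)) =
      ((chi (DRing.tensorCx (Koszul.koszul A (List.ofFn x)) (ModuleCat.of A M)) : ℤ) : ℝ) := by
    field_simp
  rw [h2] at h
  refine h.congr' ?_
  filter_upwards with n
  rw [mul_div_assoc]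

lemma isZero_homology_tensor (N : ModuleCat.{u} A) (l : List A) (i : ℤ)
    (hi : i ∉ Set.Icc (-(l.length : ℤ)) 0) :
    IsZero ((DRing.tensorCx (Koszul.koszul A l) N).homology i) :=
  IsZero.of_iso (isZero_homology_koszulCx N l i hi) (HomologicalComplex.homologyMapIso (tIso N l) i)

lemma chi_cast (K : CochainComplex (ModuleCat.{u} A) ℤ) (a b : ℤ)
    (h : ∀ i, i ∉ Set.Icc a b → IsZero (K.homology i)) :
    ((chi K : ℤ) : ℝ) = ∑ᶠ i : ℤ, (((i.negOnePow : ℤˣ) : ℤ) : ℝ) *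
      (((Module.length A (K.homology i)).toNat : ℤ) : ℝ) := by
  unfold chi
  have := (Int.castAddHom ℝ).map_finsum (chi_support_finite K a b h)
  simp only [Int.coe_castAddHom] at this
  rw [this]
  apply finsum_congr
  intro i
  push_cast
  rfl

theorem main8169 (d : ℕ) (x : Fin d → A) (M : Type u) [AddCommGroup M] [Module A M]
    [Module.Finite A M]
    (hfl : IsFiniteLength A (M ⧸ (Ideal.span (Set.range x) • (⊤ : Submodule A M)))) :
    Tendsto (fun n : ℕ => (d.factorial : ℝ) *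
        ((Module.length A (M ⧸ (Ideal.span (Set.range x) ^ n • (⊤ : Submodule A M)))).toNat : ℝ) / (n : ℝ) ^ d)
      atTop (𝓝 ((∑ᶠ i : ℤ, ((i.negOnePow : ℤˣ) : ℤ) * ((Module.length A ((DRing.tensorCx (Koszul.koszul A (List.ofFn x)) (ModuleCat.of A M)).homology i)).toNat : ℤ)) : ℝ)) := by
  have h := samuel_fin_fact d x M hfl
  rw [chi_cast _ (-((List.ofFn x).length : ℤ)) 0
    (isZero_homology_tensor (ModuleCat.of A M) (List.ofFn x))] at h
  exact h

theorem main1943 [IsLocalRing A] (r : ℕ) (f : Fin r → A) (hI : Ideal.span (Set.range f) ≤ IsLocalRing.maximalIdeal A ∧ ∃ n : ℕ, IsLocalRing.maximalIdeal A ^ n ≤ Ideal.span (Set.range f)) (M : Type u) [AddCommGroup M] [Module A M] [Module.Finite A M] : Filter.Tendsto (fun t : ℕ => (r.factorial : ℝ) * ((Module.length A (M ⧸ (Ideal.span (Set.range f) ^ t • (⊤ : Submodule A M)))).toNat : ℝ) / (t : ℝ) ^ r) Filter.atTop (nhds ((∑ᶠ i : ℤ, ((i.negOnePow : ℤˣ) : ℤ) * ((Module.length A ((DRing.tensorCx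 (Koszul.koszul A (List.ofFn f)) (ModuleCat.of A M)).homology i)).toNat : ℤ) : ℤ) : ℝ)) := by
  have hfl : IsFiniteLength A (M ⧸ (Ideal.span (Set.range f) • (⊤ : Submodule A M))) := by
    apply Groth.Agent.DimLib.isFiniteLength_of_support_isMaximal
    intro p hp
    rw [Module.support_quotient] at hp
    obtain ⟨n, hn⟩ := hI.2
    have h1 : IsLocalRing.maximalIdeal A ^ n ≤ p.asIdeal :=
      hn.trans ((PrimeSpectrum.mem_zeroLocus _ _).mp hp.2)
    have h2 : IsLocalRing.maximalIdeal A ≤ p.asIdeal := p.isPrime.le_of_pow_le h1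
    have h3 : IsLocalRing.maximalIdeal A = p.asIdeal :=
      (IsLocalRing.maximalIdeal.isMaximal A).eq_of_le p.isPrime.ne_top h2
    rw [← h3]
    exact IsLocalRing.maximalIdeal.isMaximal A
  exact samuel_fin_fact r f M hfl

end Groth.Agent.Lib.SamuelKoszul3_helper6
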