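import Mathlib
import Groth.Agent.Lib.SamuelKoszul3_helper6
import Groth.Agent.Lib.KoszulTop_helper7

/-!
# Lech's limit formula (helper6)

`ℓ(M/(x_1^n,…,x_d^n)M)/n^d → χ(x;M) = d! · lim ℓ(M/𝔞^n M)/n^d`.
-/

set_option autoImplicit false
universe u
open CategoryTheory CategoryTheory.Limits CochainComplex HomologicalComplex
open Filter Topology
open scoped Pointwise

namespace Groth.Agent.Lib.SamuelKoszul4_helper6

open Groth.Agent.Lib.LenIndex_helper6 Groth.Agent.Lib.KoszulEuler_helper6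
  Groth.Agent.Lib.KoszulEuler2_helper6 Groth.Agent.Lib.KoszulEuler3_helper6
  Groth.Agent.Lib.KoszulEuler5_helper6
  Groth.Agent.Lib.SamuelKoszul1_helper6 Groth.Agent.Lib.SamuelKoszul2_helper6
  Groth.Agent.Lib.SamuelKoszul3_helper6

variable {A : Type u} [CommRing A]

lemma chi_eq_sum (K : CochainComplex (ModuleCat.{u} A) ℤ) (d : ℕ)
    (h : ∀ i, i ∉ Set.Icc (-(d : ℤ)) 0 → IsZero (K.homology i)) :
    chi K = ∑ j ∈ Finset.range (d + 1), (((-(j : ℤ)).negOnePow : ℤˣ) : ℤ) *
      ((Module.length A (K.homology (-(j : ℤ)))).toNat : ℤ) := by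
  unfold chi
  rw [finsum_eq_sum_of_support_subset (s := (Finset.range (d + 1)).image (fun j : ℕ => -(j : ℤ)))]
  · rw [Finset.sum_image (fun a _ b _ hab => by simpa using hab)]
  · intro i hi
    by_contra hni
    apply hi
    have hout : i ∉ Set.Icc (-(d : ℤ)) 0 := by
      intro hmem
      apply hni
      simp only [Finset.coe_image, Set.mem_image, Finset.mem_coe, Finset.mem_range]
      obtain ⟨h1, h2⟩ := hmem
      exact ⟨(-i).toNat, by omega, by omega⟩
    haveI : Subsingleton (K.homology i : ModuleCat.{u} A) :=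
      ModuleCat.subsingleton_of_isZero (h i hout)
    show ((i.negOnePow : ℤˣ) : ℤ) * ((Module.length A (K.homology i)).toNat : ℤ) = 0
    rw [Module.length_eq_zero]
    simp

lemma length_H0 (y : List A) (M : Type u) [AddCommGroup M] [Module A M] :
    Module.length A ((DRing.tensorCx (Koszul.koszul A y) (ModuleCat.of A M)).homology 0) =
      Module.length A (M ⧸ (Ideal.span {a : A | a ∈ y} • (⊤ : Submodule A M))) := by
  obtain ⟨e⟩ := Groth.Agent.Lib.KoszulTopH7.top_equiv' M y 0 rfl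
  rw [(HomologicalComplex.homologyMapIso (tIso (ModuleCat.of A M) y) 0).toLinearEquiv.length_eq,
    e.length_eq]

lemma abs_units_mul (s : ℤˣ) (t : ℤ) : |((s : ℤ)) * t| = |t| := by
  rcases Int.units_eq_one_or s with rfl | rfl <;> simp

variable [IsNoetherianRing A]

/-- Lech: `ℓ(M/(x^n)M)/n^d → χ(x;M)`. -/
theorem lech_tendsto (d : ℕ) (x : Fin d → A) (M : Type u) [AddCommGroup M] [Module A M]
    [Module.Finite A M]
    (hfl : IsFiniteLength A (M ⧸ (Ideal.span (Set.range x) • (⊤ : Submodule A M)))) :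
    Tendsto (fun n : ℕ => ((Module.length A (M ⧸ (Ideal.span (Set.range fun i => x i ^ n) •
        (⊤ : Submodule A M)))).toNat : ℝ) / (n : ℝ) ^ d) atTop
      (𝓝 ((chi (DRing.tensorCx (Koszul.koszul A (List.ofFn x)) (ModuleCat.of A M)) : ℤ) : ℝ)) := by
  set χ : ℤ := chi (DRing.tensorCx (Koszul.koszul A (List.ofFn x)) (ModuleCat.of A M)) with hχ
  -- constants from the polynomial bounds
  have hC' : ∀ i : ℕ, ∃ c : ℕ, i ≤ d → ∀ n : ℕ, 0 < n →
      Module.length A ((DRing.tensorCx (Koszul.koszul A (List.ofFn fun j => x j ^ n))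
        (ModuleCat.of A M)).homology (-(i : ℤ))) ≤ ((c * n ^ (d - i) : ℕ) : ℕ∞) := by
    intro i
    by_cases hi : i ≤ d
    · obtain ⟨c, hc⟩ := main8156 d x M hfl i hi
      exact ⟨c, fun _ => hc⟩
    · exact ⟨0, fun h => absurd h hi⟩
  choose C hC using hC'
  -- abbreviations
  set t : ℕ → ℕ → ℕ := fun n j => (Module.length A ((DRing.tensorCx
    (Koszul.koszul A (List.ofFn fun j => x j ^ n)) (ModuleCat.of A M)).homology (-(j : ℤ)))).toNat
    with ht
  have ht_le : ∀ n : ℕ, 0 < n → ∀ j : ℕ, j ≤ d → t n j ≤ C j * n ^ (d - j) := by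
    intro n hn j hj
    have := ENat.toNat_le_toNat (hC j hj n hn) (ENat.coe_ne_top _)
    rwa [ENat.toNat_coe] at this
  -- the Euler characteristic identity
  have hchi : ∀ n : ℕ, ((n : ℤ) ^ d) * χ =
      ∑ j ∈ Finset.range (d + 1), (((-(j : ℤ)).negOnePow : ℤˣ) : ℤ) * (t n j : ℤ) := by
    intro n
    have h1 := main8152 d x (fun _ => n) M hfl
    have h2 : (∏ _j : Fin d, (n : ℤ)) = (n : ℤ) ^ d := by
      rw [Finset.prod_const, Finset.card_univ, Fintype.card_fin]
    rw [h2] at h1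
    have h3 := chi_eq_sum (DRing.tensorCx (Koszul.koszul A (List.ofFn fun j => x j ^ n))
      (ModuleCat.of A M)) d (by
        intro i hi
        apply isZero_homology_tensor
        rw [List.length_ofFn]
        exact hi)
    rw [hχ]
    exact h1.symm.trans h3
  -- the top homology
  have htop : ∀ n : ℕ, t n 0 = (Module.length A (M ⧸ (Ideal.span (Set.range fun i => x i ^ n) •
        (⊤ : Submodule A M)))).toNat := by
    intro n
    have hset : {a : A | a ∈ List.ofFn fun j => x j ^ n} = Set.range fun i => x i ^ n := by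
      ext a
      simp [List.mem_ofFn]
    simp only [ht]
    have := length_H0 (List.ofFn fun j => x j ^ n) M
    rw [hset] at this
    rw [← this]
    simp
  -- the estimate
  have hest : ∀ n : ℕ, 0 < n →
      |((t n 0 : ℕ) : ℝ) - (n : ℝ) ^ d * (χ : ℝ)| ≤
        ∑ j ∈ Finset.range d, (C (j + 1) : ℝ) * (n : ℝ) ^ (d - (j + 1)) := by
    intro n hn
    have h1 := hchi n
    rw [Finset.sum_range_succ'] at h1
    have h0 : (((-((0 : ℕ) : ℤ)).negOnePow : ℤˣ) : ℤ) = 1 := by simp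
    rw [h0, one_mul] at h1
    have h2 : ((t n 0 : ℕ) : ℤ) - (n : ℤ) ^ d * χ =
        - ∑ j ∈ Finset.range d, (((-((j + 1 : ℕ) : ℤ)).negOnePow : ℤˣ) : ℤ) *
          (t n (j + 1) : ℤ) := by
      rw [h1]
      ring
    have h3 : |((t n 0 : ℕ) : ℤ) - (n : ℤ) ^ d * χ| ≤
        ∑ j ∈ Finset.range d, ((C (j + 1) * n ^ (d - (j + 1)) : ℕ) : ℤ) := by
      rw [h2, abs_neg]
      refine (Finset.abs_sum_le_sum_abs _ _).trans ?_
      apply Finset.sum_le_sum
      intro j hj
      rw [abs_units_mul, abs_of_nonneg (Int.natCast_nonneg _)]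
      exact_mod_cast ht_le n hn (j + 1) (by
        have := Finset.mem_range.mp hj
        omega)
    have h4 : ((|((t n 0 : ℕ) : ℤ) - (n : ℤ) ^ d * χ| : ℤ) : ℝ) ≤
        ((∑ j ∈ Finset.range d, ((C (j + 1) * n ^ (d - (j + 1)) : ℕ) : ℤ) : ℤ) : ℝ) :=
      Int.cast_le.mpr h3
    push_cast at h4
    exact h4
  -- the limit
  rw [← tendsto_sub_nhds_zero_iff]
  have hg : Tendsto (fun n : ℕ => ∑ j ∈ Finset.range d,
      (C (j + 1) : ℝ) * (n : ℝ) ^ (d - (j + 1)) / (n : ℝ) ^ d) atTop (𝓝 0) := by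
    have : (0 : ℝ) = ∑ _j ∈ Finset.range d, (0 : ℝ) := by simp
    rw [this]
    apply tendsto_finset_sum
    intro j hj
    have hjd : j + 1 ≤ d := by
      have := Finset.mem_range.mp hj
      omega
    have h1 : Tendsto (fun n : ℕ => (C (j + 1) : ℝ) / (n : ℝ) ^ (j + 1)) atTop (𝓝 0) :=
      Tendsto.div_atTop tendsto_const_nhds (tendsto_pow_nat_atTop j)
    refine h1.congr' ?_
    filter_upwards [eventually_ge_atTop 1] with n hn
    have hn' : (n : ℝ) ≠ 0 := Nat.cast_ne_zero.mpr (by omega)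
    have hd : (n : ℝ) ^ d = (n : ℝ) ^ (d - (j + 1)) * (n : ℝ) ^ (j + 1) := by
      rw [← pow_add, Nat.sub_add_cancel hjd]
    rw [hd]
    field_simp
  refine squeeze_zero_norm' ?_ hg
  filter_upwards [eventually_ge_atTop 1] with n hn
  have hn' : (0 : ℝ) < (n : ℝ) ^ d := by
    have : (0 : ℝ) < (n : ℝ) := Nat.cast_pos.mpr (by omega)
    positivity
  rw [← htop n, Real.norm_eq_abs]
  have h1 : ((t n 0 : ℕ) : ℝ) / (n : ℝ) ^ d - (χ : ℝ) =
      (((t n 0 : ℕ) : ℝ) - (n : ℝ) ^ d * (χ : ℝ)) / (n : ℝ) ^ d := by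
    field_simp
  rw [h1, abs_div, abs_of_pos hn', ← Finset.sum_div]
  exact div_le_div_of_nonneg_right (hest n (by omega)) hn'.le

theorem main3311 (d : ℕ) (x : Fin d → A) (M : Type u) [AddCommGroup M] [Module A M]
    [Module.Finite A M]
    (hfl : IsFiniteLength A (M ⧸ (Ideal.span (Set.range x) • (⊤ : Submodule A M)))) :
    ∃ L : ℝ,
      Tendsto (fun n : ℕ => ((Module.length A (M ⧸ (Ideal.span (Set.range x) ^ n • (⊤ : Submodule A M)))).toNat : ℝ) / (n : ℝ) ^ d)
        atTop (𝓝 L) ∧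
      Tendsto (fun n : ℕ => ((Module.length A (M ⧸ (Ideal.span (Set.range fun i => x i ^ n) • (⊤ : Submodule A M)))).toNat : ℝ) / (n : ℝ) ^ d)
        atTop (𝓝 ((Nat.factorial d : ℝ) * L)) := by
  refine ⟨_, samuel_fin d x M hfl, ?_⟩
  have hf : (d.factorial : ℝ) ≠ 0 := Nat.cast_ne_zero.mpr (Nat.factorial_ne_zero d)
  have h2 : (d.factorial : ℝ) *
      ((chi (DRing.tensorCx (Koszul.koszul A (List.ofFn x)) (ModuleCat.of A M)) : ℝ) /
        (d.factorial : ℝ)) =
      ((chi (DRing.tensorCx (Koszul.koszul A (List.ofFn x)) (ModuleCat.of A M)) : ℤ) : ℝ) := by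
    field_simp
  rw [h2]
  exact lech_tendsto d x M hfl

end Groth.Agent.Lib.SamuelKoszul4_helper6
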