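import Mathlib
import Groth.Prelude.Def_IntMult
import Groth.Prelude.Def_CAlg
import Groth.Agent.Lib.IntMultAlg1_helper6

set_option autoImplicit false
universe u
open CategoryTheory
open scoped Pointwise

namespace Groth.Agent.Lib.IntMultAlg2_helper6

open Groth.Agent.Lib.KoszulEuler_helper6 Groth.Agent.Lib.KoszulEuler3_helper6
  Groth.Agent.Lib.SamuelKoszul3_helper6 Groth.Agent.Lib.SamuelKoszul4_helper6
  Groth.Agent.Lib.SamuelKoszul5_helper6 Groth.Agent.Lib.IntMultAlg1_helper6

variable {A : Type u} [CommRing A] [IsNoetherianRing A] [IsLocalRing A]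

/-- if `g` is a regular sequence on `A` which is also weakly regular on `A/b`, then
`χ(A/b, A/(g)) = ℓ(A/(b + (g)))`. -/
theorem chi_of_wr (c : ℕ) (g : Fin c → A)
    (hreg : RingTheory.Sequence.IsRegular A (List.ofFn g)) (b : Ideal A)
    (hwr : RingTheory.Sequence.IsWeaklyRegular (A ⧸ b) (List.ofFn g)) :
    IntMult.chi A (A ⧸ b) (A ⧸ Ideal.span (Set.range g)) =
      ((Module.length A (A ⧸ (b ⊔ Ideal.span (Set.range g)))).toNat : ℤ) := by
  rw [chi_symm, chi_eq_koszul c g hreg, chi_tensor]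
  have hz := Groth.Agent.Lib.KoszulRegH7.isZero_homology_of_weaklyRegular (List.ofFn g)
    (A ⧸ b) hwr
  obtain ⟨e⟩ := Groth.Agent.Lib.KoszulTopH7.top_equiv' (A ⧸ b) (List.ofFn g) 0 rfl
  have hsingle : ∀ i : ℤ, i ≠ 0 → ((i.negOnePow : ℤˣ) : ℤ) *
      ((Module.length A ((CohIII.koszulCx (ModuleCat.of A (A ⧸ b))
        (List.ofFn g)).homology i)).toNat : ℤ) = 0 := by
    intro i hi
    haveI : Subsingleton ↑((CohIII.koszulCx (ModuleCat.of A (A ⧸ b))
        (List.ofFn g)).homology i) := ModuleCat.subsingleton_of_isZero (hz i hi)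
    rw [Module.length_eq_zero]
    simp
  unfold chi
  rw [finsum_eq_single _ (0 : ℤ) hsingle, Int.negOnePow_zero, Units.val_one, one_mul,
    e.length_eq, ofList_ofFn, length_quot]

theorem range_const_fin1 (g : A) : Set.range (fun _ : Fin 1 => g) = {g} := Set.range_const

theorem ofFn_const_fin1 (g : A) : List.ofFn (fun _ : Fin 1 => g) = [g] := by
  simp [List.ofFn_succ]

theorem isRegular_single (g : A) (hreg : IsSMulRegular A g) (hne : Ideal.span {g} ≠ ⊤) :
    RingTheory.Sequence.IsRegular A (List.ofFn (fun _ : Fin 1 => g)) := by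
  rw [ofFn_const_fin1]
  refine ⟨(RingTheory.Sequence.isWeaklyRegular_singleton_iff A g).mpr hreg, ?_⟩
  rw [Ideal.ofList_singleton, smul_eq_mul, Ideal.mul_top]
  exact fun h => hne h.symm

/-- Cartier divisor case: `b` prime of coheight one, `g` a nonzerodivisor. -/
theorem cartier_core (g : A) (hreg : IsSMulRegular A g) (hne : Ideal.span {g} ≠ ⊤) (b : Ideal A)
    [b.IsPrime] (hfl : IsFiniteLength A (A ⧸ (b ⊔ Ideal.span {g})))
    (hdim : ringKrullDim (A ⧸ b) = ((1 : ℕ) : WithBot ℕ∞)) :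
    IntMult.chi A (A ⧸ b) (A ⧸ Ideal.span {g}) =
      ((Module.length A (A ⧸ (b ⊔ Ideal.span {g}))).toNat : ℤ) := by
  have hgb : g ∉ b := by
    intro hgb
    have h1 : b ⊔ Ideal.span {g} = b :=
      sup_eq_left.mpr ((Ideal.span_singleton_le_iff_mem _).mpr hgb)
    rw [h1] at hfl
    have h0 := ringKrullDim_quot_eq_zero_of_fl b (Ideal.IsPrime.ne_top ‹_›) hfl
    rw [hdim] at h0
    norm_num at h0
  have hsr : IsSMulRegular (A ⧸ b) g := by
    intro x y hxy
    have h1 : (Ideal.Quotient.mk b g) * x = (Ideal.Quotient.mk b g) * y := by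
      simpa [Algebra.smul_def] using hxy
    have hne' : Ideal.Quotient.mk b g ≠ 0 := by
      rwa [Ne, Ideal.Quotient.eq_zero_iff_mem]
    exact mul_left_cancel₀ hne' h1
  have hwr : RingTheory.Sequence.IsWeaklyRegular (A ⧸ b) (List.ofFn (fun _ : Fin 1 => g)) := by
    rw [ofFn_const_fin1]
    exact (RingTheory.Sequence.isWeaklyRegular_singleton_iff (A ⧸ b) g).mpr hsr
  have h := chi_of_wr 1 (fun _ : Fin 1 => g) (isRegular_single g hreg hne) b hwr
  rw [range_const_fin1] at h
  exact h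

end Groth.Agent.Lib.IntMultAlg2_helper6
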