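import Mathlib
import Groth.Prelude.Def_IntMult
import Groth.Prelude.Def_CAlg
import Groth.Agent.Lib.IntMultAlg1_helper6
import Groth.Agent.Lib.RegParam_helper5
import Groth.Agent.Lib.NonVan2_helper7

set_option autoImplicit false
universe u
open CategoryTheory IsLocalRing
open scoped Pointwise

namespace Groth.Agent.Lib.IntMultReg1_helper6

open Groth.Agent.Lib.IntMultAlg1_helper6

variable {A : Type u} [CommRing A] [IsLocalRing A] [IsNoetherianRing A]

theorem exists_nat_dim (R : Type*) [CommRing R] [IsLocalRing R] [IsNoetherianRing R] :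
    ∃ a : ℕ, ringKrullDim R = (a : WithBot ℕ∞) := by
  have h1 : ringKrullDim R ≠ ⊤ := ringKrullDim_ne_top
  have h2 : ringKrullDim R ≠ ⊥ := ringKrullDim_ne_bot
  generalize ringKrullDim R = d at h1 h2
  induction d with
  | bot => exact absurd rfl h2
  | coe d =>
    induction d with
    | top => exact absurd rfl h1
    | coe m => exact ⟨m, rfl⟩

/-- the image of an ideal in the cotangent space -/
noncomputable def cot (a : Ideal A) : Submodule (ResidueField A) (CotangentSpace A) :=
  Submodule.span (ResidueField A)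
    {v | ∃ z : maximalIdeal A, (z : A) ∈ a ∧ (maximalIdeal A).toCotangent z = v}

theorem exists_gens (a : Ideal A) :
    ∃ (p : ℕ) (x : Fin p → maximalIdeal A), (∀ i, (x i : A) ∈ a) ∧
      LinearIndependent (ResidueField A) (fun i => (maximalIdeal A).toCotangent (x i)) ∧
      Submodule.span (ResidueField A)
        (Set.range fun i => (maximalIdeal A).toCotangent (x i)) = cot a := by
  classical
  obtain ⟨B, hBS, hspan, hli⟩ := exists_linearIndependent (ResidueField A)
    {v : CotangentSpace A | ∃ z : maximalIdeal A, (z : A) ∈ a ∧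
      (maximalIdeal A).toCotangent z = v}
  haveI : Finite B := hli.finite
  letI := Fintype.ofFinite B
  let e : Fin (Fintype.card B) ≃ B := (Fintype.equivFin B).symm
  have hz : ∀ v : B, ∃ z : maximalIdeal A, (z : A) ∈ a ∧
      (maximalIdeal A).toCotangent z = (v : CotangentSpace A) := fun v => hBS v.2
  choose z hz1 hz2 using hz
  have hfun : (fun i => (maximalIdeal A).toCotangent (z (e i))) =
      (fun v : B => (v : CotangentSpace A)) ∘ e := by
    funext i; exact hz2 _
  refine ⟨Fintype.card B, fun i => z (e i), fun i => hz1 _, ?_, ?_⟩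
  · rw [hfun]
    exact hli.comp e e.injective
  · rw [hfun, Set.range_comp, e.surjective.range_eq, Set.image_univ, Subtype.range_coe]
    exact hspan

theorem cot_sup_eq_top (a b : Ideal A) (hab : a ⊔ b = maximalIdeal A) : cot a ⊔ cot b = ⊤ := by
  rw [eq_top_iff]
  intro v _
  obtain ⟨z, rfl⟩ := (maximalIdeal A).toCotangent_surjective v
  have hz : (z : A) ∈ a ⊔ b := by rw [hab]; exact z.2
  obtain ⟨u, hu, w, hw, huw⟩ := Submodule.mem_sup.mp hz
  have hum : u ∈ maximalIdeal A := hab ▸ (Ideal.mem_sup_left hu)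
  have hwm : w ∈ maximalIdeal A := hab ▸ (Ideal.mem_sup_right hw)
  have hzz : z = ⟨u, hum⟩ + ⟨w, hwm⟩ := Subtype.ext huw.symm
  rw [hzz, map_add]
  exact Submodule.add_mem_sup (Submodule.subset_span ⟨⟨u, hum⟩, hu, rfl⟩)
    (Submodule.subset_span ⟨⟨w, hwm⟩, hw, rfl⟩)

section regular

variable [IsRegularLocalRing A]

theorem isLocalRing_quot (J : Ideal A) (hJ : J ≠ ⊤) : IsLocalRing (A ⧸ J) := by
  haveI : Nontrivial (A ⧸ J) := Ideal.Quotient.nontrivial_iff.mpr hJ
  exact IsLocalRing.of_surjective' (Ideal.Quotient.mk J) Ideal.Quotient.mk_surjective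

theorem dim_quot_le (a : Ideal A) (p : ℕ) (x : Fin p → maximalIdeal A)
    (hx : ∀ i, (x i : A) ∈ a)
    (hli : LinearIndependent (ResidueField A) fun i => (maximalIdeal A).toCotangent (x i)) :
    ringKrullDim (A ⧸ a) + p ≤ ringKrullDim A := by
  haveI := isLocalRing_quot (Ideal.span (Set.range fun i => (x i : A)))
    (Groth.Agent.RegParam.span_ne_top x)
  obtain ⟨h1, -⟩ := Groth.Agent.RegParam.forward p x hli
  rw [← h1]
  have hle : Ideal.span (Set.range fun i => (x i : A)) ≤ a := by
    rw [Ideal.span_le]; rintro _ ⟨i, rfl⟩; exact hx i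
  have h2 := ringKrullDim_le_of_surjective (Ideal.Quotient.factor hle)
    (Ideal.Quotient.factor_surjective hle)
  exact add_le_add h2 le_rfl

theorem eq_span_of_dim (a : Ideal A) [a.IsPrime] (p : ℕ) (x : Fin p → maximalIdeal A)
    (hx : ∀ i, (x i : A) ∈ a)
    (hli : LinearIndependent (ResidueField A) fun i => (maximalIdeal A).toCotangent (x i))
    (hdim : ringKrullDim (A ⧸ a) + p = ringKrullDim A) :
    a = Ideal.span (Set.range fun i => (x i : A)) := by
  haveI hloc := isLocalRing_quot (Ideal.span (Set.range fun i => (x i : A)))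
    (Groth.Agent.RegParam.span_ne_top x)
  obtain ⟨h1, hreg⟩ := Groth.Agent.RegParam.forward p x hli
  haveI : IsDomain (A ⧸ Ideal.span (Set.range fun i => (x i : A))) :=
    Groth.Agent.RegularLib.isDomain _
  have hle : Ideal.span (Set.range fun i => (x i : A)) ≤ a := by
    rw [Ideal.span_le]; rintro _ ⟨i, rfl⟩; exact hx i
  by_contra hne
  obtain ⟨r, hra, hrJ⟩ := SetLike.exists_of_lt (lt_of_le_of_ne hle (Ne.symm hne))
  have hr0 : Ideal.Quotient.mk (Ideal.span (Set.range fun i => (x i : A))) r ≠ 0 := by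
    rwa [Ne, Ideal.Quotient.eq_zero_iff_mem]
  have h2 := ringKrullDim_quotient_succ_le_of_nonZeroDivisor
    (mem_nonZeroDivisors_of_ne_zero hr0)
  have h3 : ringKrullDim (A ⧸ a) ≤
      ringKrullDim ((A ⧸ Ideal.span (Set.range fun i => (x i : A))) ⧸
        Ideal.span {Ideal.Quotient.mk (Ideal.span (Set.range fun i => (x i : A))) r}) := by
    have hker : ∀ y ∈ Ideal.span
        {Ideal.Quotient.mk (Ideal.span (Set.range fun i => (x i : A))) r},
        Ideal.Quotient.factor hle y = 0 := by
      intro y hy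
      obtain ⟨c, rfl⟩ := Ideal.mem_span_singleton'.mp hy
      rw [map_mul, Ideal.Quotient.factor_mk, Ideal.Quotient.eq_zero_iff_mem.mpr hra, mul_zero]
    exact ringKrullDim_le_of_surjective (Ideal.Quotient.lift _ (Ideal.Quotient.factor hle) hker)
      (Ideal.Quotient.lift_surjective_of_surjective _ _ (Ideal.Quotient.factor_surjective hle))
  haveI : IsLocalRing (A ⧸ a) := isLocalRing_quot a (Ideal.IsPrime.ne_top ‹_›)
  obtain ⟨α, hα⟩ := exists_nat_dim (A ⧸ a)
  obtain ⟨j, hj⟩ := exists_nat_dim (A ⧸ Ideal.span (Set.range fun i => (x i : A)))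
  obtain ⟨d, hd⟩ := exists_nat_dim A
  rw [hα, hd] at hdim
  rw [hj, hd] at h1
  have h4 := (add_le_add h3 (le_refl (1 : WithBot ℕ∞))).trans h2
  rw [hα, hj] at h4
  have e1 : α + p = d := by exact_mod_cast hdim
  have e2 : j + p = d := by exact_mod_cast h1
  have e3 : α + 1 ≤ j := by exact_mod_cast h4
  omega

theorem reg_core (a b : Ideal A) [a.IsPrime] [b.IsPrime]
    (hlen : Module.length A (A ⧸ (a ⊔ b)) = 1)
    (aX aV aW : ℕ) (hX : ringKrullDim A = aX)
    (hV : (aV : WithBot ℕ∞) ≤ ringKrullDim (A ⧸ a))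
    (hW : (aW : WithBot ℕ∞) ≤ ringKrullDim (A ⧸ b)) (hle : aX ≤ aV + aW) :
    IntMult.chi A (A ⧸ b) (A ⧸ a) = 1 ∧ IsRegularLocalRing (A ⧸ a) ∧
      IsRegularLocalRing (A ⧸ b) := by
  have hab : a ⊔ b = maximalIdeal A := by
    have h1 : IsSimpleModule A (A ⧸ (a ⊔ b)) := Module.length_eq_one_iff.mp hlen
    have h2 : IsCoatom (a ⊔ b) := isSimpleModule_iff_isCoatom.mp h1
    exact IsLocalRing.eq_maximalIdeal (Ideal.isMaximal_def.mpr h2)
  obtain ⟨p, x, hxa, hlix, hspx⟩ := exists_gens a
  obtain ⟨q, y, hyb, hliy, hspy⟩ := exists_gens b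
  have hd : Module.finrank (ResidueField A) (CotangentSpace A) = aX := by
    have h := (IsRegularLocalRing.iff_finrank_cotangentSpace A).mp inferInstance
    rw [hX] at h; exact_mod_cast h
  have hpq : aX ≤ p + q := by
    have h1 := Submodule.finrank_add_le_finrank_add_finrank (cot a) (cot b)
    rw [cot_sup_eq_top a b hab, finrank_top, hd, ← hspx, ← hspy, finrank_span_eq_card hlix,
      finrank_span_eq_card hliy] at h1
    simpa using h1
  haveI : IsLocalRing (A ⧸ a) := isLocalRing_quot a (Ideal.IsPrime.ne_top ‹_›)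
  haveI : IsLocalRing (A ⧸ b) := isLocalRing_quot b (Ideal.IsPrime.ne_top ‹_›)
  obtain ⟨α, hα⟩ := exists_nat_dim (A ⧸ a)
  obtain ⟨β, hβ⟩ := exists_nat_dim (A ⧸ b)
  have h1 := dim_quot_le a p x hxa hlix
  have h2 := dim_quot_le b q y hyb hliy
  rw [hα, hX] at h1
  rw [hβ, hX] at h2
  rw [hα] at hV
  rw [hβ] at hW
  have h1' : α + p ≤ aX := by exact_mod_cast h1
  have h2' : β + q ≤ aX := by exact_mod_cast h2
  have hV' : aV ≤ α := by exact_mod_cast hV
  have hW' : aW ≤ β := by exact_mod_cast hW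
  have e1 : α + p = aX := by omega
  have e2 : β + q = aX := by omega
  have e3 : β = p := by omega
  have ha : a = Ideal.span (Set.range fun i => (x i : A)) :=
    eq_span_of_dim a p x hxa hlix (by rw [hα, hX]; exact_mod_cast e1)
  have hb : b = Ideal.span (Set.range fun i => (y i : A)) :=
    eq_span_of_dim b q y hyb hliy (by rw [hβ, hX]; exact_mod_cast e2)
  have hregA : IsRegularLocalRing (A ⧸ a) := by
    rw [ha]
    haveI := isLocalRing_quot (Ideal.span (Set.range fun i => (x i : A)))
      (Groth.Agent.RegParam.span_ne_top x)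
    exact (Groth.Agent.RegParam.forward p x hlix).2
  have hregB : IsRegularLocalRing (A ⧸ b) := by
    rw [hb]
    haveI := isLocalRing_quot (Ideal.span (Set.range fun i => (y i : A)))
      (Groth.Agent.RegParam.span_ne_top y)
    exact (Groth.Agent.RegParam.forward q y hliy).2
  refine ⟨?_, hregA, hregB⟩
  have hCM : LocCoh.IsCohenMacaulayLocalRing (A ⧸ b) :=
    { supportDim_eq_depth := Groth.Agent.Lib.NonVan2H7.isCM_of_regular (A ⧸ b) }
  have hregseq := Groth.Agent.RegParam.isRegular_ofFn p x hlix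
  have hlen' : Module.length A (A ⧸ (b ⊔ a)) = 1 := by rw [sup_comm]; exact hlen
  have hfl : IsFiniteLength A (A ⧸ (b ⊔ a)) := by
    rw [← Module.length_ne_top_iff, hlen']; simp
  have hdimB : ringKrullDim (A ⧸ b) = (p : WithBot ℕ∞) := by rw [hβ, e3]
  rw [ha] at hfl hlen' ⊢
  rw [cm_core p (fun i => (x i : A)) hregseq b hfl hdimB hCM, hlen']
  rfl

end regular

end Groth.Agent.Lib.IntMultReg1_helper6
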