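import Mathlib
import Groth.Prelude.Def_IntMult
import Groth.Prelude.Def_CAlg
import Groth.Agent.Lib.TorAcyc_helper6
import Groth.Agent.Lib.IntMultAlg1_helper6
import Groth.Agent.Lib.IntMultReg1_helper6
import Groth.Agent.Lib.RectDepth_helper8
import Groth.Agent.Lib.DepthRingChange_helper5

set_option autoImplicit false
universe u
open CategoryTheory IsLocalRing TensorProduct

namespace Groth.Agent.Lib.IntMultCM2_helper6

open Groth.Agent.Lib.IntMultAlg1_helper6 Groth.Agent.Lib.IntMultReg1_helper6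
  Groth.Agent.Lib.TorAcyc_helper6 Groth.Agent.TorLES

variable {R : Type u} [CommRing R] [IsRegularLocalRing R]

/-- depth of a CM quotient ring as an `R`-module equals its dimension -/
theorem depth_quot_of_cm (b : Ideal R) (hCM : LocCoh.IsCohenMacaulayLocalRing (R ⧸ b)) (β : ℕ)
    (hβ : ringKrullDim (R ⧸ b) = β) : LocCoh.depth R (R ⧸ b) = β := by
  haveI : IsLocalRing (R ⧸ b) := hCM.toIsLocalRing
  haveI : IsLocalHom (algebraMap R (R ⧸ b)) :=
    IsLocalHom.of_surjective (algebraMap R (R ⧸ b)) Ideal.Quotient.mk_surjective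
  rw [Groth.Agent.DepthLib.depth_eq_of_isLocalHom R (R ⧸ b) (R ⧸ b)]
  have h := hCM.supportDim_eq_depth
  rw [Module.supportDim_self_eq_ringKrullDim, hβ] at h
  have h' : ((β : ℕ∞) : WithBot ℕ∞) = ((LocCoh.depth (R ⧸ b) (R ⧸ b) : ℕ∞) : WithBot ℕ∞) := h
  exact (WithBot.coe_injective h').symm

theorem cm2_core (a b : Ideal R) (hfl : IsFiniteLength R (R ⧸ (a ⊔ b)))
    (hCMa : LocCoh.IsCohenMacaulayLocalRing (R ⧸ a))
    (hCMb : LocCoh.IsCohenMacaulayLocalRing (R ⧸ b))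
    (aX aV aW : ℕ) (hX : ringKrullDim R = aX)
    (hV : (aV : WithBot ℕ∞) ≤ ringKrullDim (R ⧸ a))
    (hW : (aW : WithBot ℕ∞) ≤ ringKrullDim (R ⧸ b)) (hle : aX ≤ aV + aW) :
    IntMult.chi R (R ⧸ b) (R ⧸ a) = ((Module.length R (R ⧸ (a ⊔ b))).toNat : ℤ) := by
  haveI : IsLocalRing (R ⧸ a) := hCMa.toIsLocalRing
  haveI : IsLocalRing (R ⧸ b) := hCMb.toIsLocalRing
  obtain ⟨α, hα⟩ := exists_nat_dim (R ⧸ a)
  obtain ⟨β, hβ⟩ := exists_nat_dim (R ⧸ b)
  obtain ⟨e, d', hpd, hdep, hdim⟩ := RectDepthH8.exists_pd_depth R (R ⧸ b)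
  have hdb := depth_quot_of_cm b hCMb β hβ
  have hda := depth_quot_of_cm a hCMa α hα
  have hd' : d' = β := by
    rw [hdb] at hdep; exact_mod_cast hdep.symm
  have hXe : aX = e + d' := by
    rw [hX] at hdim; exact_mod_cast hdim
  rw [hα] at hV
  rw [hβ] at hW
  have hV' : aV ≤ α := by exact_mod_cast hV
  have hW' : aW ≤ β := by exact_mod_cast hW
  have heα : e ≤ α := by omega
  have hpdLT : HasProjectiveDimensionLT (ModuleCat.of R (R ⧸ b)) (e + 1) :=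
    (projectiveDimension_le_iff _ e).mp (le_of_eq hpd)
  have hP : Groth.Agent.Acyclic.P R α (ModuleCat.of R (R ⧸ a)) := by
    intro j hj
    have h1 : (α : ℕ∞) ≤ LocCoh.idealDepth (maximalIdeal R) (R ⧸ a) := by
      change (α : ℕ∞) ≤ LocCoh.depth R (R ⧸ a)
      rw [hda]
    exact (Groth.Agent.DepthLib.le_idealDepth_iff_ext (maximalIdeal R) (R ⧸ a) α).mp h1 j hj
  obtain ⟨hz, -⟩ := tor_acyc e (R ⧸ b) hpdLT (R ⧸ a) α heα hP (fun i => fl_tor a b hfl (i + 1))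
  unfold IntMult.chi
  have hsingle : ∀ i : ℕ, i ≠ 0 → (-1 : ℤ) ^ i *
      ((Module.length R (DRing.Tor R i (R ⧸ b) (R ⧸ a))).toNat : ℤ) = 0 := by
    intro i hi
    obtain ⟨k, rfl⟩ := Nat.exists_eq_succ_of_ne_zero hi
    haveI : Subsingleton (DRing.Tor R (k + 1) (R ⧸ b) (R ⧸ a)) :=
      (torZero_iff_subsingleton (k + 1) (R ⧸ b) (R ⧸ a)).mp (hz k)
    rw [Module.length_eq_zero]
    simp
  rw [finsum_eq_single _ 0 hsingle, pow_zero, one_mul]
  have h1 : Module.length R (DRing.Tor R 0 (R ⧸ b) (R ⧸ a)) =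
      Module.length R ((R ⧸ b) ⊗[R] (R ⧸ a)) := (torZeroEquiv (R ⧸ a) (R ⧸ b)).length_eq
  rw [h1, (TensorProduct.tensorQuotEquivQuotSMul (R ⧸ b) a).length_eq, length_quot, sup_comm]

end Groth.Agent.Lib.IntMultCM2_helper6
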