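import Mathlib
import Groth.Prelude.Def_IntMult
import Groth.Agent.Lib.DimTheory_helper5

set_option autoImplicit false
universe u
open AlgebraicGeometry CategoryTheory

namespace Groth.Agent.Lib.IntMultGeom1_helper6

variable {X : Scheme.{u}}

/-- germ of a section of `I` over an affine open lies in the stalk ideal -/
theorem germ_mem_stalkIdeal (I : X.IdealSheafData) (ξ : X) (U : X.affineOpens)
    (hξ : ξ ∈ (U : X.Opens)) (f : Γ(X, U)) (hf : f ∈ I.ideal U) :
    (X.presheaf.germ U ξ hξ).hom f ∈ IntMult.stalkIdeal I ξ := by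
  unfold IntMult.stalkIdeal
  refine Submodule.mem_iSup_of_mem U ?_
  refine Submodule.mem_iSup_of_mem hξ ?_
  exact Ideal.mem_map_of_mem _ hf

theorem fromSpecStalk_specializes (ξ : X) (p : Spec (X.presheaf.stalk ξ)) :
    X.fromSpecStalk ξ p ⤳ ξ := by
  have : X.fromSpecStalk ξ p ∈ Set.range (X.fromSpecStalk ξ) := ⟨p, rfl⟩
  rw [Scheme.range_fromSpecStalk] at this
  exact this

theorem mem_support_of_stalkIdeal_le (I : X.IdealSheafData) (ξ : X)
    (p : Spec (X.presheaf.stalk ξ)) (hp : IntMult.stalkIdeal I ξ ≤ p.asIdeal) :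
    X.fromSpecStalk ξ p ∈ I.support := by
  obtain ⟨_, ⟨U, hU, rfl⟩, hξU, -⟩ :=
    X.isBasis_affineOpens.exists_subset_of_mem_open (Set.mem_univ ξ) isOpen_univ
  have hy : X.fromSpecStalk ξ p ⤳ ξ := fromSpecStalk_specializes ξ p
  have hyU : X.fromSpecStalk ξ p ∈ U := hy.mem_open U.2 hξU
  rw [Scheme.IdealSheafData.mem_support_iff_of_mem (U := ⟨U, hU⟩) hyU]
  have h1 : X.fromSpecStalk ξ p = hU.fromSpec (Spec.map (X.presheaf.germ U ξ hξU) p) := by
    rw [← hU.fromSpecStalk_eq_fromSpecStalk hξU, IsAffineOpen.fromSpecStalk,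
      Scheme.Hom.comp_apply]
  rw [h1]
  change Spec.map (X.presheaf.germ U ξ hξU) p ∈ hU.fromSpec ⁻¹' X.zeroLocus _
  rw [hU.fromSpec_preimage_zeroLocus]
  intro f hf
  change (X.presheaf.germ U ξ hξU).hom f ∈ p.asIdeal
  exact hp (germ_mem_stalkIdeal I ξ ⟨U, hU⟩ hξU f hf)

theorem stalkIdeal_le_ker (I : X.IdealSheafData) (w : I.subscheme) :
    IntMult.stalkIdeal I (I.subschemeι w) ≤ RingHom.ker (I.subschemeι.stalkMap w).hom := by
  unfold IntMult.stalkIdeal
  refine iSup_le fun U => iSup_le fun hU => ?_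
  rw [Ideal.map_le_iff_le_comap]
  intro f hf
  rw [Ideal.mem_comap, RingHom.mem_ker]
  have h1 : (I.subschemeι.app U).hom f = 0 := by
    rw [← RingHom.mem_ker, I.ker_subschemeι_app U]; exact hf
  have h2 := Scheme.Hom.germ_stalkMap_apply I.subschemeι U w hU f
  have h3 : (I.subschemeι.app U) f = 0 := h1
  rw [h3, map_zero] at h2
  exact h2

theorem ringKrullDim_stalk_le (I : X.IdealSheafData) (ξ : X) (w : I.subscheme)
    (hw : I.subschemeι w = ξ) :
    ringKrullDim (I.subscheme.presheaf.stalk w) ≤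
      ringKrullDim (X.presheaf.stalk ξ ⧸ IntMult.stalkIdeal I ξ) := by
  subst hw
  have hsurj : Function.Surjective (I.subschemeι.stalkMap w).hom :=
    I.subschemeι.stalkMap_surjective w
  have hφ : Function.Surjective (Ideal.Quotient.lift _ (I.subschemeι.stalkMap w).hom
      (fun a ha => stalkIdeal_le_ker I w ha)) :=
    Ideal.Quotient.lift_surjective_of_surjective _ _ hsurj
  exact ringKrullDim_le_of_surjective _ hφ

theorem isFiniteLength_quot_sup [IsLocallyNoetherian X] (IV IW : X.IdealSheafData) (ξ : X)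
    (hmax : ∀ ξ' : X, ξ' ∈ IV.support → ξ' ∈ IW.support → ξ' ⤳ ξ → ξ' = ξ) :
    IsFiniteLength (X.presheaf.stalk ξ)
      (X.presheaf.stalk ξ ⧸ (IntMult.stalkIdeal IW ξ ⊔ IntMult.stalkIdeal IV ξ)) := by
  apply Groth.Agent.DimLib.isFiniteLength_of_support_isMaximal
  intro p hp
  rw [Module.mem_support_iff_of_finite, Ideal.annihilator_quotient] at hp
  have hV : X.fromSpecStalk ξ p ∈ IV.support :=
    mem_support_of_stalkIdeal_le IV ξ p (le_sup_right.trans hp)
  have hW : X.fromSpecStalk ξ p ∈ IW.support :=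
    mem_support_of_stalkIdeal_le IW ξ p (le_sup_left.trans hp)
  have h1 := hmax _ hV hW (fromSpecStalk_specializes ξ p)
  have h2 : X.fromSpecStalk ξ p =
      X.fromSpecStalk ξ (IsLocalRing.closedPoint (X.presheaf.stalk ξ)) := by
    rw [h1, Scheme.fromSpecStalk_closedPoint]
  have h3 := (X.fromSpecStalk ξ).isEmbedding.injective h2
  rw [h3]
  exact IsLocalRing.maximalIdeal.isMaximal _

theorem topDim_closure_le {A B : Type*} [TopologicalSpace A] [TopologicalSpace B] (ι : A → B)
    (hι : Topology.IsInducing ι) (hc : Continuous ι) (y : A) :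
    topologicalKrullDim ↥(closure ({y} : Set A)) ≤
      topologicalKrullDim ↥(closure ({ι y} : Set B)) := by
  have hmem : ∀ x : ↥(closure ({y} : Set A)), (ι ∘ Subtype.val) x ∈ closure ({ι y} : Set B) := by
    intro x
    have := image_closure_subset_closure_image hc (s := {y}) ⟨x.1, x.2, rfl⟩
    simpa using this
  have : Topology.IsInducing (Set.codRestrict (ι ∘ Subtype.val) _ hmem) :=
    (hι.comp Topology.IsInducing.subtypeVal).codRestrict hmem
  exact this.topologicalKrullDim_le

theorem topDim_congr {A : Type*} [TopologicalSpace A] {S T : Set A} (h : S = T) :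
    topologicalKrullDim ↥S = topologicalKrullDim ↥T := by
  subst h; rfl

theorem topDim_mono {A : Type*} [TopologicalSpace A] {S T : Set A} (h : S ⊆ T) :
    topologicalKrullDim ↥S ≤ topologicalKrullDim ↥T :=
  (Topology.IsInducing.subtypeVal.codRestrict (fun x : ↥S => h x.2)).topologicalKrullDim_le

theorem topDim_subscheme (I : X.IdealSheafData) :
    topologicalKrullDim I.subscheme = topologicalKrullDim ↥(I.support : Set X) := by
  have hemb := I.subschemeι.isEmbedding
  rw [IsHomeomorph.topologicalKrullDim_eq _ hemb.toHomeomorph.isHomeomorph]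
  exact topDim_congr I.range_subschemeι

end Groth.Agent.Lib.IntMultGeom1_helper6
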