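import Mathlib
import Groth.Prelude.Def_IntMult
import Groth.Agent.Lib.IrrDim2_helper8
import Groth.Agent.Lib.IntMultGeom1_helper6

set_option autoImplicit false
universe u
open AlgebraicGeometry CategoryTheory

namespace Groth.Agent.Lib.IntMultGeom2_helper6

open Groth.Agent.Lib.IntMultGeom1_helper6

/-- dimension formula at a point of an integral scheme locally of finite type over a field -/
theorem dimL (k : Type u) [Field k] (Y : Scheme.{u}) (fY : Y ⟶ Spec (CommRingCat.of k))
    [LocallyOfFiniteType fY] [IsIntegral Y] (y : Y) :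
    ∃ a d : ℕ, ringKrullDim (Y.presheaf.stalk y) = a ∧
      topologicalKrullDim ↥(closure ({y} : Set Y)) = d ∧
      topologicalKrullDim Y = ((a + d : ℕ) : WithBot ℕ∞) := by
  letI : Y.Over (Spec (CommRingCat.of k)) := ⟨fY⟩
  haveI : LocallyOfFiniteType (Y ↘ Spec (CommRingCat.of k)) := ‹LocallyOfFiniteType fY›
  obtain ⟨a, r, ha, hr, hdim⟩ := Groth.Agent.IrrDimH8.irr_dim k Y (genericPoint Y)
    (fun x' => genericPoint_specializes x') y
  obtain ⟨N, hN, hcl⟩ := Groth.Agent.IrrDim2H8.dim_closure_eq_trdeg k Y y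
  have hrN : r = N := by
    have h := hr.symm.trans hN
    exact_mod_cast h
  subst hrN
  exact ⟨a, r, ha, hcl, hdim⟩

theorem geom (K : Type u) [Field K] (X : Scheme.{u}) (f : X ⟶ Spec (CommRingCat.of K))
    [LocallyOfFiniteType f] [IsIntegral X] (IV IW : X.IdealSheafData)
    [IsIntegral IV.subscheme] [IsIntegral IW.subscheme] (n r s : ℕ)
    (hn : topologicalKrullDim X = n) (hr : topologicalKrullDim IV.support = r)
    (hs : topologicalKrullDim IW.support = s)
    (hprop : IntMult.ProperInt (IV.support : Set X) (IW.support : Set X) n r s) (ξ : X)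
    (hξV : ξ ∈ IV.support) (hξW : ξ ∈ IW.support) :
    ∃ aX aV aW : ℕ, ringKrullDim (X.presheaf.stalk ξ) = aX ∧
      (aV : WithBot ℕ∞) ≤ ringKrullDim (X.presheaf.stalk ξ ⧸ IntMult.stalkIdeal IV ξ) ∧
      (aW : WithBot ℕ∞) ≤ ringKrullDim (X.presheaf.stalk ξ ⧸ IntMult.stalkIdeal IW ξ) ∧
      aX ≤ aV + aW := by
  obtain ⟨aX, dX, haX, hdX, hX⟩ := dimL K X f ξ
  obtain ⟨v, hv⟩ : ∃ v : IV.subscheme, IV.subschemeι v = ξ := by
    have : ξ ∈ Set.range IV.subschemeι := by rw [IV.range_subschemeι]; exact hξV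
    exact this
  obtain ⟨w, hw⟩ : ∃ w : IW.subscheme, IW.subschemeι w = ξ := by
    have : ξ ∈ Set.range IW.subschemeι := by rw [IW.range_subschemeι]; exact hξW
    exact this
  obtain ⟨aV, dV, haV, hdV, hV⟩ := dimL K IV.subscheme (IV.subschemeι ≫ f) v
  obtain ⟨aW, dW, haW, hdW, hW⟩ := dimL K IW.subscheme (IW.subschemeι ≫ f) w
  refine ⟨aX, aV, aW, haX, ?_, ?_, ?_⟩
  · rw [← haV]; exact ringKrullDim_stalk_le IV ξ v hv
  · rw [← haW]; exact ringKrullDim_stalk_le IW ξ w hw
  · have h1 : n = aX + dX := by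
      rw [hn] at hX; exact_mod_cast hX
    have h2 : r = aV + dV := by
      rw [topDim_subscheme IV] at hV
      have hr' : topologicalKrullDim ↥(IV.support : Set X) = r := hr
      rw [hr'] at hV; exact_mod_cast hV
    have h3 : s = aW + dW := by
      rw [topDim_subscheme IW] at hW
      have hs' : topologicalKrullDim ↥(IW.support : Set X) = s := hs
      rw [hs'] at hW; exact_mod_cast hW
    have h4 : dV ≤ dX := by
      have h := topDim_closure_le (⇑IV.subschemeι) IV.subschemeι.isEmbedding.isInducing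
        IV.subschemeι.continuous v
      rw [hv, hdV, hdX] at h; exact_mod_cast h
    obtain ⟨h5a, h5b⟩ := hprop ⟨ξ, hξV, hξW⟩
    have h6 : dW ≤ r + s - n := by
      have h := topDim_closure_le (⇑IW.subschemeι) IW.subschemeι.isEmbedding.isInducing
        IW.subschemeι.continuous w
      rw [hw, hdW] at h
      have h7 : closure ({ξ} : Set X) ⊆ (IV.support : Set X) ∩ (IW.support : Set X) := by
        apply closure_minimal
        · rintro _ rfl; exact ⟨hξV, hξW⟩
        · exact IV.support.isClosed.inter IW.support.isClosed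
      have h9 := h.trans ((topDim_mono h7).trans h5b)
      exact_mod_cast h9
    omega

end Groth.Agent.Lib.IntMultGeom2_helper6
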