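import Mathlib
import Groth.Prelude.Def_IntMult
import Groth.Agent.Lib.IntMultGeom1_helper6

set_option autoImplicit false
universe u
open AlgebraicGeometry CategoryTheory

namespace Groth.Agent.Lib.IntMultGeom3_helper6

open Groth.Agent.Lib.IntMultGeom1_helper6

variable {X : Scheme.{u}}

theorem ker_le_stalkIdeal (I : X.IdealSheafData) (w : I.subscheme) :
    RingHom.ker (I.subschemeι.stalkMap w).hom ≤ IntMult.stalkIdeal I (I.subschemeι w) := by
  intro x hx
  rw [RingHom.mem_ker] at hx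
  obtain ⟨U₀, hξU₀, f₀, rfl⟩ := TopCat.Presheaf.exists_germ_eq X.presheaf x
  obtain ⟨_, ⟨U, hU, rfl⟩, hξU, hUU₀⟩ :=
    X.isBasis_affineOpens.exists_subset_of_mem_open hξU₀ U₀.2
  have hf : X.presheaf.germ U (I.subschemeι w) hξU (X.presheaf.map (homOfLE hUU₀).op f₀) =
      X.presheaf.germ U₀ (I.subschemeι w) hξU₀ f₀ :=
    TopCat.Presheaf.germ_res_apply X.presheaf (homOfLE hUU₀) (I.subschemeι w) hξU f₀
  rw [← hf] at hx ⊢
  generalize X.presheaf.map (homOfLE hUU₀).op f₀ = f at hx ⊢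
  have hx' : I.subscheme.presheaf.germ (I.subschemeι ⁻¹ᵁ U) w hξU (I.subschemeι.app U f) = 0 := by
    rw [← Scheme.Hom.germ_stalkMap_apply]; exact hx
  have hV : IsAffineOpen (I.subschemeι ⁻¹ᵁ U) := hU.preimage I.subschemeι
  letI := I.subscheme.presheaf.algebra_section_stalk (U := I.subschemeι ⁻¹ᵁ U) ⟨w, hξU⟩
  haveI := hV.isLocalization_stalk ⟨w, hξU⟩
  have hx'' : algebraMap Γ(I.subscheme, I.subschemeι ⁻¹ᵁ U) (I.subscheme.presheaf.stalk w)
      (I.subschemeι.app U f) = 0 := hx'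
  rw [IsLocalization.map_eq_zero_iff (hV.primeIdealOf ⟨w, hξU⟩).asIdeal.primeCompl] at hx''
  obtain ⟨⟨s, hs⟩, hsf⟩ := hx''
  obtain ⟨s', rfl⟩ := I.subschemeι_app_surjective ⟨U, hU⟩ s
  have hmem : s' * f ∈ I.ideal ⟨U, hU⟩ := by
    rw [← I.ker_subschemeι_app ⟨U, hU⟩, RingHom.mem_ker, map_mul]
    exact hsf
  have hunit : IsUnit ((X.presheaf.germ U (I.subschemeι w) hξU).hom s') := by
    apply isUnit_of_map_unit (I.subschemeι.stalkMap w).hom
    have h1 : (I.subschemeι.stalkMap w).hom ((X.presheaf.germ U (I.subschemeι w) hξU).hom s') =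
        algebraMap Γ(I.subscheme, I.subschemeι ⁻¹ᵁ U) (I.subscheme.presheaf.stalk w)
          (I.subschemeι.app U s') :=
      Scheme.Hom.germ_stalkMap_apply I.subschemeι U w hξU s'
    rw [h1]
    exact IsLocalization.map_units (I.subscheme.presheaf.stalk w)
      (⟨_, hs⟩ : (hV.primeIdealOf ⟨w, hξU⟩).asIdeal.primeCompl)
  have h2 : (X.presheaf.germ U (I.subschemeι w) hξU).hom (s' * f) ∈
      IntMult.stalkIdeal I (I.subschemeι w) :=
    germ_mem_stalkIdeal I _ ⟨U, hU⟩ hξU _ hmem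
  rw [map_mul] at h2
  exact (Ideal.unit_mul_mem_iff_mem _ hunit).mp h2

theorem ker_eq_stalkIdeal (I : X.IdealSheafData) (w : I.subscheme) :
    RingHom.ker (I.subschemeι.stalkMap w).hom = IntMult.stalkIdeal I (I.subschemeι w) :=
  le_antisymm (ker_le_stalkIdeal I w) (stalkIdeal_le_ker I w)

theorem isPrime_stalkIdeal (I : X.IdealSheafData) [IsIntegral I.subscheme] (ξ : X)
    (hξ : ξ ∈ I.support) : (IntMult.stalkIdeal I ξ).IsPrime := by
  obtain ⟨w, rfl⟩ : ∃ w : I.subscheme, I.subschemeι w = ξ := by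
    have : ξ ∈ Set.range I.subschemeι := by rw [I.range_subschemeι]; exact hξ
    exact this
  rw [← ker_eq_stalkIdeal]
  exact RingHom.ker_isPrime _

/-- the local ring of the closed subscheme is the quotient of the ambient local ring by the
stalk ideal -/
noncomputable def stalkQuotEquiv (I : X.IdealSheafData) (w : I.subscheme) :
    (X.presheaf.stalk (I.subschemeι w) ⧸ IntMult.stalkIdeal I (I.subschemeι w)) ≃+*
      I.subscheme.presheaf.stalk w :=
  (Ideal.quotEquivOfEq (ker_eq_stalkIdeal I w).symm).trans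
    (RingHom.quotientKerEquivOfSurjective (f := (I.subschemeι.stalkMap w).hom)
      (I.subschemeι.stalkMap_surjective w))

end Groth.Agent.Lib.IntMultGeom3_helper6
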