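import Mathlib
import Groth.Prelude
import Groth.Agent.Lib.HomAvoid1_helper5
import Groth.Agent.Lib.Tens15_helper8

/-!
# Homogeneous polynomials in sections of a framed invertible module (helper5)
APPEND-ONLY once landed.

* `exists_polySec`: for sections `s_i` of `M` (framed of weight `a`) and `P` homogeneous of degree
  `d`, a section `P(s)` of any module framed of weight `a * d`, with coefficients `P(c_i)`.
-/

set_option autoImplicit false
universe u
open CategoryTheory CategoryTheory.Limits AlgebraicGeometry TopologicalSpace Opposite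
open QcqsLoc QCohExtn GenLocH8 TensH8 FLFH8 MvPolynomial

namespace Groth.Agent.PolySec

open Groth.Agent.HomAvoid

variable {X : Scheme.{u}} {L M M' : X.Modules} {σ : Type*} [Fintype σ]

theorem exists_polySec (hL : PicF.IsInvertible L) {a d : ℕ} (Φ : Frame L M a)
    (Ψ : Frame L M' (a * d)) (s : σ → (Coh.structureModule X ⟶ M))
    (P : MvPolynomial σ ℤ) (hP : P.IsHomogeneous d) :
    ∃ s' : Coh.structureModule X ⟶ M', ∀ (W : X.Opens) (e : Γ(L, W)) (he : IsGen L W e),
      Ψ.coefHom s' W e he =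
        P.eval₂ (Int.castRingHom Γ(X, W)) (fun i => Φ.coefHom (s i) W e he) := by
  have hres : ∀ (W : X.Opens) (e : Γ(L, W)) (he : IsGen L W e) {W' : X.Opens} (h : W' ≤ W),
      P.eval₂ (Int.castRingHom Γ(X, W')) (fun i => Φ.coefHom (s i) W' (rF L h e) (he.res h)) =
        rX h (P.eval₂ (Int.castRingHom Γ(X, W)) (fun i => Φ.coefHom (s i) W e he)) := by
    intro W e he W' h
    have h1 : (fun i => Φ.coefHom (s i) W' (rF L h e) (he.res h)) =
        (rX h) ∘ (fun i => Φ.coefHom (s i) W e he) :=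
      funext fun i => Φ.coefHom_res (s i) W e he h
    rw [h1, eval₂_comp_left (rX h)]
    congr 1
    exact RingHom.ext_int _ _
  have hchange : ∀ (W : X.Opens) (e : Γ(L, W)) (he : IsGen L W e) (u : Γ(X, W))
      (he' : IsGen L W (u • e)),
      P.eval₂ (Int.castRingHom Γ(X, W)) (fun i => Φ.coefHom (s i) W e he) =
        P.eval₂ (Int.castRingHom Γ(X, W)) (fun i => Φ.coefHom (s i) W (u • e) he') *
          u ^ (a * d) := by
    intro W e he u he'
    have h1 : (fun i => Φ.coefHom (s i) W e he) =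
        fun i => Φ.coefHom (s i) W (u • e) he' * u ^ a :=
      funext fun i => Φ.coefHom_change (s i) W e he u he'
    rw [h1, eval₂_mul_of_isHomogeneous _ _ _ hP, pow_mul]
  obtain ⟨s', hs'⟩ := Ψ.exists_hom hL
    (fun W e he => P.eval₂ (Int.castRingHom Γ(X, W)) (fun i => Φ.coefHom (s i) W e he))
    hres hchange
  exact ⟨s', fun W e he => (Ψ.coefHom_unique s' W e he _ (hs' W e he)).symm⟩

/-- Two functions agreeing locally are equal. -/
theorem fun_ext_cover {U : X.Opens} (s t : Γ(X, U))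
    (h : ∀ x ∈ U, ∃ (W : X.Opens) (hW : W ≤ U), x ∈ W ∧ rX hW s = rX hW t) : s = t := by
  choose W hWU hxW hst using h
  refine TopCat.Sheaf.eq_of_locally_eq' X.sheaf (fun x : U => W x.1 x.2) U
    (fun x => homOfLE (hWU x.1 x.2)) ?_ _ _ ?_
  · intro x hx
    exact Opens.mem_iSup.mpr ⟨⟨x, hx⟩, hxW x hx⟩
  · intro x
    exact hst x.1 x.2

/-- The functions on `W` vanishing at a point `x ∈ W` form an ideal. -/
theorem notMem_basicOpen_of_mem_span {W : X.Opens} (x : X) (hx : x ∈ W) {ι : Type*}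
    (c : ι → Γ(X, W)) (hc : ∀ i, x ∉ X.basicOpen (c i)) {f : Γ(X, W)}
    (hf : f ∈ Ideal.span (Set.range c)) : x ∉ X.basicOpen f := by
  rw [← X.evaluation_eq_zero_iff_notMem_basicOpen x hx]
  have hle : Ideal.span (Set.range c) ≤ RingHom.ker (X.evaluation W x hx).hom := by
    rw [Ideal.span_le]
    rintro _ ⟨i, rfl⟩
    exact (X.evaluation_eq_zero_iff_notMem_basicOpen x hx (c i)).2 (hc i)
  exact hle hf

/-- `X_{P(s)}` is contained in the union of the `X_{s_i}` for `P` homogeneous of positive degree. -/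
theorem genLocus_polySec_le (hL : PicF.IsInvertible L) {a d : ℕ} (hd : 0 < d) (Φ : Frame L M a)
    (Ψ : Frame L M' (a * d)) (s : σ → (Coh.structureModule X ⟶ M))
    (P : MvPolynomial σ ℤ) (hP : P.IsHomogeneous d) (s' : Coh.structureModule X ⟶ M')
    (hs' : ∀ (W : X.Opens) (e : Γ(L, W)) (he : IsGen L W e), Ψ.coefHom s' W e he =
      P.eval₂ (Int.castRingHom Γ(X, W)) (fun i => Φ.coefHom (s i) W e he))
    (x : X) (hx : x ∈ CohB1.genLocus M' s') : ∃ i, x ∈ CohB1.genLocus M (s i) := by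
  obtain ⟨W0, -, hxW0, e0, he0⟩ := exists_isGen hL x
  by_contra hne
  push Not at hne
  have hc : ∀ i, x ∉ X.basicOpen (Φ.coefHom (s i) W0 e0 he0) := by
    intro i hxi
    rw [← Φ.genLocus_inf (s i) W0 e0 he0] at hxi
    exact hne i hxi.1
  have h1 := notMem_basicOpen_of_mem_span x hxW0 _ hc
    (eval₂_mem_span (Int.castRingHom Γ(X, W0)) _ hP hd)
  rw [← hs' W0 e0 he0, ← Ψ.genLocus_inf s' W0 e0 he0] at h1
  exact h1 ⟨hx, hxW0⟩

/-- Local formula for the ratio of two sections of a framed module. -/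
theorem ratio_local {N : ℕ} (Ψ : Frame L M' N) (s' t : Coh.structureModule X ⟶ M') {U : X.Opens}
    (ρ : Γ(X, U)) (hρ : SecTwist.val t U = ρ • (show Γ(M', U) from SecTwist.val s' U))
    (W : X.Opens) (e : Γ(L, W)) (he : IsGen L W e) :
    rX (inf_le_right : W ⊓ U ≤ U) ρ * rX (inf_le_left : W ⊓ U ≤ W) (Ψ.coefHom s' W e he) =
      rX (inf_le_left : W ⊓ U ≤ W) (Ψ.coefHom t W e he) := by
  have hl : W ⊓ U ≤ W := inf_le_left
  have hr : W ⊓ U ≤ U := inf_le_right
  have hg : IsGen M' (W ⊓ U) (rF M' hl (Ψ.φ W e)) := (Ψ.isGen he).res hl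
  have h1 : (show Γ(M', W ⊓ U) from SecTwist.val t (W ⊓ U)) =
      rX hr ρ • (show Γ(M', W ⊓ U) from SecTwist.val s' (W ⊓ U)) := by
    have e1 : rF M' hr (SecTwist.val t U) =
        rF M' hr (ρ • (show Γ(M', U) from SecTwist.val s' U)) := congrArg (rF M' hr) hρ
    rw [rF_smul] at e1
    exact (rF_val t hr).symm.trans (e1.trans
      (congrArg (fun y : Γ(M', W ⊓ U) => rX hr ρ • y) (rF_val s' hr)))
  have h2 : (show Γ(M', W ⊓ U) from SecTwist.val s' (W ⊓ U)) =
      rX hl (Ψ.coefHom s' W e he) • rF M' hl (Ψ.φ W e) := by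
    have e1 : rF M' hl (SecTwist.val s' W) =
        rF M' hl (Ψ.coefHom s' W e he • Ψ.φ W e) := congrArg (rF M' hl) (Ψ.coefHom_spec s' W e he)
    rw [rF_smul] at e1
    exact (rF_val s' hl).symm.trans e1
  have h3 : (show Γ(M', W ⊓ U) from SecTwist.val t (W ⊓ U)) =
      rX hl (Ψ.coefHom t W e he) • rF M' hl (Ψ.φ W e) := by
    have e1 : rF M' hl (SecTwist.val t W) =
        rF M' hl (Ψ.coefHom t W e he • Ψ.φ W e) := congrArg (rF M' hl) (Ψ.coefHom_spec t W e he)
    rw [rF_smul] at e1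
    exact (rF_val t hl).symm.trans e1
  have h4 : (rX hr ρ * rX hl (Ψ.coefHom s' W e he)) • rF M' hl (Ψ.φ W e) =
      rX hl (Ψ.coefHom t W e he) • rF M' hl (Ψ.φ W e) := by
    rw [mul_smul, ← h2, ← h1, h3]
  exact IsGen.coef_ext hg h4

theorem isUnit_rX_of_le {W O : X.Opens} (c : Γ(X, W)) (hO : O ≤ W) (h : O ≤ X.basicOpen c) :
    IsUnit (rX hO c) := by
  have h1 : IsUnit (rX (X.basicOpen_le c) c) := RingedSpace.isUnit_res_basicOpen X.toRingedSpace c
  have h2 : rX hO c = rX h (rX (X.basicOpen_le c) c) := (rX_rX _ _ _).symm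
  rw [h2]
  exact h1.map _

/-- **Affineness**: if the `X_{s_i}` are affine (inside affine opens trivialising `L`) and `P` is
homogeneous of positive degree, then `X_{P(s)}` is affine. -/
theorem isAffineOpen_genLocus_polySec (hL : PicF.IsInvertible L) {a d : ℕ} (hd : 0 < d)
    (Φ : Frame L M a) (Ψ : Frame L M' (a * d)) (s : σ → (Coh.structureModule X ⟶ M))
    (hs : ∀ i, ∃ (W : X.Opens) (e : Γ(L, W)), IsAffineOpen W ∧ IsGen L W e ∧
      CohB1.genLocus M (s i) ≤ W)
    (P : MvPolynomial σ ℤ) (hP : P.IsHomogeneous d) (s' : Coh.structureModule X ⟶ M')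
    (hs' : ∀ (W : X.Opens) (e : Γ(L, W)) (he : IsGen L W e), Ψ.coefHom s' W e he =
      P.eval₂ (Int.castRingHom Γ(X, W)) (fun i => Φ.coefHom (s i) W e he)) :
    IsAffineOpen (CohB1.genLocus M' s') := by
  classical
  set U := CohB1.genLocus M' s' with hU
  have hgen : IsGen M' U (SecTwist.val s' U) := isGen_val_of_le_genLocus s' le_rfl
  -- the sections `s_i^d`
  have hτ : ∀ i : σ, ∃ τ : Coh.structureModule X ⟶ M',
      ∀ (W : X.Opens) (e : Γ(L, W)) (he : IsGen L W e),
        Ψ.coefHom τ W e he = (Φ.coefHom (s i) W e he) ^ d := by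
    intro i
    have hXi : ((MvPolynomial.X i : MvPolynomial σ ℤ) ^ d).IsHomogeneous d := by
      have := (isHomogeneous_X ℤ i).pow d
      rwa [one_mul] at this
    obtain ⟨τ, hτ⟩ := exists_polySec hL Φ Ψ s ((MvPolynomial.X i : MvPolynomial σ ℤ) ^ d) hXi
    exact ⟨τ, fun W e he => by rw [hτ W e he, eval₂_pow, eval₂_X]⟩
  choose τ hτc using hτ
  -- the monomial sections
  have ht : ∀ α : σ →₀ ℕ, α.degree = d → ∃ t : Coh.structureModule X ⟶ M',
      ∀ (W : X.Opens) (e : Γ(L, W)) (he : IsGen L W e),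
        Ψ.coefHom t W e he = ∏ j, (Φ.coefHom (s j) W e he) ^ (α j) := by
    intro α hα
    obtain ⟨t, ht⟩ := exists_polySec hL Φ Ψ s (monomial α 1) (isHomogeneous_monomial 1 hα)
    refine ⟨t, fun W e he => ?_⟩
    rw [ht W e he, eval₂_monomial, map_one, one_mul, Finsupp.prod_pow]
  choose! t htc using ht
  -- ratios with respect to `s'`
  have hratio : ∀ t : Coh.structureModule X ⟶ M', ∃ ρ : Γ(X, U),
      SecTwist.val t U = ρ • (show Γ(M', U) from SecTwist.val s' U) := by
    intro t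
    obtain ⟨ρ, hρ⟩ := (hgen U le_rfl).1 (SecTwist.val t U)
    rw [SubExt.rF_self] at hρ
    exact ⟨ρ, hρ⟩
  choose ratio hratio' using hratio
  have hdeg : ∀ α ∈ P.support, α.degree = d := by
    intro α hα
    have h1 := hP (mem_support_iff.mp hα)
    exact (congrArg (fun w => w α) (Finsupp.degree_eq_weight_one (R := ℕ) (σ := σ))).trans h1
  have hunit : ∀ (W : X.Opens) (e : Γ(L, W)) (he : IsGen L W e),
      IsUnit (rX (inf_le_left : W ⊓ U ≤ W) (Ψ.coefHom s' W e he)) := by
    intro W e he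
    refine isUnit_rX_of_le _ _ ?_
    rw [← Ψ.genLocus_inf s' W e he, inf_comm]
  -- (a) the ratios of the monomials sum to one
  have hsum : ∑ α ∈ P.support, (Int.cast (coeff α P) : Γ(X, U)) * ratio (t α) = 1 := by
    refine fun_ext_cover _ _ (fun x hx => ?_)
    obtain ⟨W, -, hxW, e, he⟩ := exists_isGen hL x
    refine ⟨W ⊓ U, inf_le_right, ⟨hxW, hx⟩, ?_⟩
    have hl : W ⊓ U ≤ W := inf_le_left
    have hr : W ⊓ U ≤ U := inf_le_right
    have hu := hunit W e he
    apply hu.mul_left_injective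
    change rX hr _ * rX hl (Ψ.coefHom s' W e he) = rX hr 1 * rX hl (Ψ.coefHom s' W e he)
    rw [map_one, one_mul, map_sum, Finset.sum_mul]
    conv_rhs => rw [hs' W e he, eval₂_eq', map_sum]
    refine Finset.sum_congr rfl (fun α hα => ?_)
    rw [map_mul, map_intCast, mul_assoc, ratio_local Ψ s' (t α) (ratio (t α)) (hratio' (t α)) W e he,
      htc α (hdeg α hα) W e he, map_mul, eq_intCast, map_intCast]
  -- (b) a power of each monomial ratio lies in the ideal generated by the `f_i`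
  have hpow : ∀ α : σ →₀ ℕ, α.degree = d →
      ratio (t α) ^ d = ∏ i, ratio (τ i) ^ α i := by
    intro α hα
    have hsumα : ∑ i, α i = d := by rw [← Finsupp.degree_eq_sum]; exact hα
    refine fun_ext_cover _ _ (fun x hx => ?_)
    obtain ⟨W, -, hxW, e, he⟩ := exists_isGen hL x
    refine ⟨W ⊓ U, inf_le_right, ⟨hxW, hx⟩, ?_⟩
    have hl : W ⊓ U ≤ W := inf_le_left
    have hr : W ⊓ U ≤ U := inf_le_right
    have hu := hunit W e he
    apply (hu.pow d).mul_left_injective
    change rX hr _ * rX hl (Ψ.coefHom s' W e he) ^ d = rX hr _ * rX hl (Ψ.coefHom s' W e he) ^ d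
    have hud : rX hl (Ψ.coefHom s' W e he) ^ d = ∏ i, rX hl (Ψ.coefHom s' W e he) ^ α i := by
      rw [Finset.prod_pow_eq_pow_sum, hsumα]
    have hL' : rX hr (ratio (t α) ^ d) * rX hl (Ψ.coefHom s' W e he) ^ d =
        ∏ j, rX hl (Φ.coefHom (s j) W e he) ^ (α j * d) := by
      rw [map_pow, ← mul_pow, ratio_local Ψ s' (t α) (ratio (t α)) (hratio' (t α)) W e he,
        htc α hα W e he, map_prod, ← Finset.prod_pow]
      refine Finset.prod_congr rfl (fun j _ => ?_)
      rw [map_pow, ← pow_mul]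
    have hR' : rX hr (∏ i, ratio (τ i) ^ α i) * rX hl (Ψ.coefHom s' W e he) ^ d =
        ∏ j, rX hl (Φ.coefHom (s j) W e he) ^ (α j * d) := by
      rw [hud, map_prod, ← Finset.prod_mul_distrib]
      refine Finset.prod_congr rfl (fun i _ => ?_)
      rw [map_pow, ← mul_pow, ratio_local Ψ s' (τ i) (ratio (τ i)) (hratio' (τ i)) W e he,
        hτc i W e he, map_pow, ← pow_mul, mul_comm]
    exact hL'.trans hR'.symm
  -- the `f_i` generate the unit ideal
  have hspan : Ideal.span (Set.range fun i => ratio (τ i)) = ⊤ := by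
    rw [← Ideal.radical_eq_top, Ideal.eq_top_iff_one, ← hsum]
    refine Ideal.sum_mem _ (fun α hα => Ideal.mul_mem_left _ _ ⟨d, ?_⟩)
    rw [hpow α (hdeg α hα)]
    have hex : ∃ i, α i ≠ 0 := by
      by_contra hcon
      push Not at hcon
      have h0 : ∑ i, α i = 0 := Finset.sum_eq_zero (fun i _ => hcon i)
      have h1 : ∑ i, α i = d := by rw [← Finsupp.degree_eq_sum]; exact hdeg α hα
      omega
    obtain ⟨i, hi⟩ := hex
    have h1 : ratio (τ i) ∣ ∏ j, ratio (τ j) ^ α j :=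
      (dvd_pow_self (ratio (τ i)) hi).trans
        (Finset.dvd_prod_of_mem (fun j => ratio (τ j) ^ α j) (Finset.mem_univ i))
    obtain ⟨w, hw⟩ := h1
    rw [hw]
    exact Ideal.mul_mem_right _ _ (Ideal.subset_span ⟨i, rfl⟩)
  refine isAffineOpen_of_isAffineOpen_basicOpen U _ hspan ?_
  rintro _ ⟨i, rfl⟩
  have h1 : X.basicOpen (ratio (τ i)) = CohB1.genLocus M' (τ i) ⊓ U :=
    (genLocus_inf_eq (τ i) hgen (ratio (τ i)) (hratio' (τ i))).symm
  have h2 : CohB1.genLocus M' (τ i) = CohB1.genLocus M (s i) := by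
    refine opens_eq_of_local (fun x => ?_)
    obtain ⟨W, -, hxW, e, he⟩ := exists_isGen hL x
    refine ⟨W, hxW, ?_⟩
    rw [Ψ.genLocus_inf (τ i) W e he, hτc i W e he, Φ.genLocus_inf (s i) W e he,
      Scheme.basicOpen_pow _ _ hd]
  obtain ⟨Wi, ei, hWi, hei, hle⟩ := hs i
  have h3 : CohB1.genLocus M (s i) = X.basicOpen (Φ.coefHom (s i) Wi ei hei) := by
    rw [← Φ.genLocus_inf (s i) Wi ei hei, inf_eq_left.mpr hle]
  have h4 : U ⊓ Wi = X.basicOpen (Ψ.coefHom s' Wi ei hei) := Ψ.genLocus_inf s' Wi ei hei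
  have h5 : X.basicOpen (ratio (τ i)) =
      X.basicOpen (Φ.coefHom (s i) Wi ei hei * Ψ.coefHom s' Wi ei hei) := by
    rw [h1, h2, Scheme.basicOpen_mul, ← h4, ← h3]
    apply le_antisymm
    · exact le_inf inf_le_left (le_inf inf_le_right (inf_le_left.trans hle))
    · exact le_inf inf_le_left (inf_le_right.trans inf_le_left)
  rw [h5]
  exact hWi.basicOpen _

end Groth.Agent.PolySec
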