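import Mathlib
import Groth.Prelude
import Groth.Agent.Lib.PolySec1_helper5

/-!
# Morphisms from spectra of integral algebras over a field into a scheme with an ample module
(helper5)
APPEND-ONLY once landed.
-/

set_option autoImplicit false
universe u
open CategoryTheory CategoryTheory.Limits AlgebraicGeometry TopologicalSpace Opposite
open QcqsLoc QCohExtn GenLocH8 TensH8 FLFH8 MvPolynomial

namespace Groth.Agent.IntSpec

open Groth.Agent.HomAvoid Groth.Agent.PolySec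

variable {X Y : Scheme.{u}} {L : X.Modules}

/-- Restriction of functions on `Y` (arbitrary scheme). -/
noncomputable abbrev rY {V V' : Y.Opens} (h : V' ≤ V) : Γ(Y, V) →+* Γ(Y, V') :=
  (Y.presheaf.map (homOfLE h).op).hom

/-- The pull-back of functions from `W ⊆ X` to `V ⊆ g⁻¹ W`. -/
noncomputable def pullFn (g : Y ⟶ X) {W : X.Opens} {V : Y.Opens} (hV : V ≤ g ⁻¹ᵁ W) :
    Γ(X, W) →+* Γ(Y, V) :=
  (rY hV).comp (g.app W).hom

/-- Membership of `g z` in `X_t` in terms of the pulled-back local coefficient. -/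
theorem mem_genLocus_iff (g : Y ⟶ X) {M'' : X.Modules} {N : ℕ} (Θ : Frame L M'' N)
    (t : Coh.structureModule X ⟶ M'') {W : X.Opens} (e : Γ(L, W)) (he : IsGen L W e)
    {V : Y.Opens} (hV : V ≤ g ⁻¹ᵁ W) (z : Y) (hz : z ∈ V) :
    g.base z ∈ CohB1.genLocus M'' t ↔ z ∈ Y.basicOpen (pullFn g hV (Θ.coefHom t W e he)) := by
  have hzW : g.base z ∈ W := hV hz
  have h1 : Y.basicOpen (pullFn g hV (Θ.coefHom t W e he)) =
      V ⊓ Y.basicOpen ((g.app W).hom (Θ.coefHom t W e he)) :=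
    Scheme.basicOpen_res Y _ (homOfLE hV).op
  rw [h1, ← Scheme.preimage_basicOpen, ← Θ.genLocus_inf t W e he]
  constructor
  · intro h
    exact ⟨hz, h, hzW⟩
  · intro h
    exact h.2.1

/-- A power of a section, as a section of any module framed with the right weight, with the same
non-vanishing locus. -/
theorem exists_pow_section (hL : PicF.IsInvertible L) {M M' : X.Modules} {a m : ℕ} (hm : 0 < m)
    (Φ : Frame L M a) (Ψ : Frame L M' (a * m)) (s : Coh.structureModule X ⟶ M) :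
    ∃ s'' : Coh.structureModule X ⟶ M', CohB1.genLocus M' s'' = CohB1.genLocus M s := by
  have hX : ((MvPolynomial.X () : MvPolynomial Unit ℤ) ^ m).IsHomogeneous m := by
    have := (isHomogeneous_X ℤ ()).pow m
    rwa [one_mul] at this
  obtain ⟨s'', hs''⟩ := exists_polySec hL Φ Ψ (fun _ : Unit => s) _ hX
  refine ⟨s'', opens_eq_of_local (fun x => ?_)⟩
  obtain ⟨W, -, hxW, e, he⟩ := exists_isGen hL x
  refine ⟨W, hxW, ?_⟩
  rw [Ψ.genLocus_inf s'' W e he, hs'' W e he, eval₂_pow, eval₂_X, Φ.genLocus_inf s W e he,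
    Scheme.basicOpen_pow _ _ hm]

/-- The non-vanishing locus of the zero section of a framed module is empty. -/
theorem genLocus_zero (hL : PicF.IsInvertible L) {M : X.Modules} {a : ℕ} (Φ : Frame L M a) :
    CohB1.genLocus M (0 : Coh.structureModule X ⟶ M) = ⊥ := by
  refine opens_eq_of_local (fun x => ?_)
  obtain ⟨W, -, hxW, e, he⟩ := exists_isGen hL x
  refine ⟨W, hxW, ?_⟩
  have h0 : (0 : Γ(X, W)) = Φ.coefHom (0 : Coh.structureModule X ⟶ M) W e he := by
    apply Φ.coefHom_unique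
    rw [zero_smul]
    rfl
  rw [Φ.genLocus_inf _ W e he, ← h0, Scheme.basicOpen_zero, bot_inf_eq]

/-- Common denominators on a basic open of an affine scheme. -/
theorem exists_uniform_num [IsAffine Y] (h : Γ(Y, ⊤)) {σ : Type*} [Fintype σ]
    (x : σ → Γ(Y, Y.basicOpen h)) :
    ∃ (m : ℕ) (b : σ → Γ(Y, ⊤)), 0 < m ∧
      ∀ i, rY (Y.basicOpen_le h) (b i) = rY (Y.basicOpen_le h) h ^ m * x i := by
  have key : ∀ i, ∃ (n : ℕ) (y : Γ(Y, ⊤)),
      rY (Y.basicOpen_le h) y = rY (Y.basicOpen_le h) h ^ n * x i := fun i =>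
    exists_eq_pow_mul_of_isAffineOpen Y ⊤ (isAffineOpen_top Y) h (x i)
  choose mi bi hbi using key
  refine ⟨(∑ i, mi i) + 1, fun i => h ^ ((∑ j, mi j) + 1 - mi i) * bi i, Nat.succ_pos _, fun i => ?_⟩
  have hle : mi i ≤ ∑ j, mi j := Finset.single_le_sum (f := mi) (fun j _ => Nat.zero_le _)
    (Finset.mem_univ i)
  rw [map_mul, map_pow, hbi i, ← mul_assoc, ← pow_add]
  congr 2
  omega

/-- **Main theorem**: a morphism from an affine scheme whose ring of functions is integral over a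
field into a scheme with an ample module factors through an affine open `X_s` inside any given
open containing its image. -/
theorem exists_affine_genLocus_of_integral (hL : CohB1.IsAmple L) [IsAffine Y] {k : Type u}
    [Field k] [Algebra k Γ(Y, ⊤)] [Algebra.IsIntegral k Γ(Y, ⊤)]
    (W : X.Opens) (g : Y ⟶ X) (hg : Set.range g.base ⊆ (W : Set X)) :
    ∃ (n : ℕ) (s : Coh.structureModule X ⟶ CohB1.tensorPow L (n + 1)),
      IsAffineOpen (CohB1.genLocus _ s) ∧ CohB1.genLocus _ s ≤ W ∧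
        Set.range g.base ⊆ (CohB1.genLocus _ s : Set X) := by
  classical
  obtain ⟨hLinv, hc, -⟩ := id hL
  haveI := hc
  by_cases hY : IsEmpty Y
  · refine ⟨0, 0, ?_, ?_, ?_⟩
    · rw [genLocus_zero hLinv (Frame.pow L (0 + 1))]
      exact isAffineOpen_bot X
    · rw [genLocus_zero hLinv (Frame.pow L (0 + 1))]
      exact bot_le
    · rintro _ ⟨z, rfl⟩
      exact (hY.false z).elim
  rw [not_isEmpty_iff] at hY
  have hB := (isAmple_iff_isBasis hLinv).1 hL
  rw [Opens.isBasis_iff_nbhd] at hB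
  -- local data
  have hdata : ∀ z : Y, ∃ (n : ℕ) (s : Coh.structureModule X ⟶ CohB1.tensorPow L (n + 1))
      (W' : X.Opens) (e : Γ(L, W')) (h : Γ(Y, ⊤)),
      IsAffineOpen W' ∧ IsGen L W' e ∧ CohB1.genLocus _ s ≤ W' ∧ W' ≤ W ∧ z ∈ Y.basicOpen h ∧
        Y.basicOpen h ≤ g ⁻¹ᵁ (CohB1.genLocus _ s) := by
    intro z
    have hx : g.base z ∈ W := hg ⟨z, rfl⟩
    obtain ⟨W', hW', hxW', hW'W, e, he⟩ := exists_isGen_le hLinv (g.base z) W hx
    obtain ⟨U', ⟨n, s, rfl⟩, hxU', hU'W'⟩ := hB hxW'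
    obtain ⟨_, ⟨_, ⟨h, rfl⟩, rfl⟩, hzh, hhle⟩ := (isBasis_basicOpen Y).exists_subset_of_mem_open
      (show z ∈ (g ⁻¹ᵁ (CohB1.genLocus _ s) : Y.Opens) from hxU') (g ⁻¹ᵁ _).isOpen
    exact ⟨n, s, W', e, h, hW', he, hU'W', hW'W, hzh, hhle⟩
  choose n s W' e h hW' he hsW' hW'W hzh hhle using hdata
  obtain ⟨Z, hZ⟩ := isCompact_univ.elim_finite_subcover
    (fun z : Y => ((Y.basicOpen (h z) : Y.Opens) : Set Y)) (fun z => (Y.basicOpen (h z)).isOpen)
    (fun z _ => Set.mem_iUnion.2 ⟨z, hzh z⟩)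
  have hcov : ∀ z : Y, ∃ l : {z : Y // z ∈ Z}, z ∈ Y.basicOpen (h l.1) := by
    intro z
    obtain ⟨l, hlZ, hzl⟩ := Set.mem_iUnion₂.1 (hZ (Set.mem_univ z))
    exact ⟨⟨l, hlZ⟩, hzl⟩
  haveI : Nonempty {z : Y // z ∈ Z} := by
    obtain ⟨z0⟩ := hY
    exact ⟨(hcov z0).choose⟩
  -- uniformisation of the exponents
  set N : ℕ := ∏ i : {z : Y // z ∈ Z}, (n i.1 + 1) with hN
  have hNpos : 0 < N := Finset.prod_pos (fun i _ => Nat.succ_pos _)
  have hm : ∀ i : {z : Y // z ∈ Z}, ∃ m : ℕ, N = (n i.1 + 1) * m := fun i =>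
    Finset.dvd_prod_of_mem (fun i : {z : Y // z ∈ Z} => n i.1 + 1) (Finset.mem_univ i)
  choose m hmN using hm
  have hmpos : ∀ i, 0 < m i := by
    intro i
    rcases Nat.eq_zero_or_pos (m i) with h0 | h0
    · rw [hmN i, h0, mul_zero] at hNpos
      exact (lt_irrefl 0 hNpos).elim
    · exact h0
  have hs'' : ∀ i : {z : Y // z ∈ Z}, ∃ t : Coh.structureModule X ⟶ CohB1.tensorPow L N,
      CohB1.genLocus _ t = CohB1.genLocus _ (s i.1) := fun i =>
    exists_pow_section hLinv (hmpos i) (Frame.pow L (n i.1 + 1))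
      ((Frame.pow L N).cast (hmN i)) (s i.1)
  choose s'' hs''eq using hs''
  set Φ : Frame L (CohB1.tensorPow L N) N := Frame.pow L N with hΦ
  -- pulled-back coefficients and their numerators
  have hV : ∀ l : {z : Y // z ∈ Z}, Y.basicOpen (h l.1) ≤ g ⁻¹ᵁ (W' l.1) := fun l y hy =>
    hsW' l.1 (hhle l.1 hy)
  have hnum : ∀ l : {z : Y // z ∈ Z}, ∃ (mm : ℕ) (b : {z : Y // z ∈ Z} → Γ(Y, ⊤)), 0 < mm ∧
      ∀ i, rY (Y.basicOpen_le (h l.1)) (b i) = rY (Y.basicOpen_le (h l.1)) (h l.1) ^ mm *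
        pullFn g (hV l) (Φ.coefHom (s'' i) (W' l.1) (e l.1) (he l.1)) := fun l =>
    exists_uniform_num (h l.1)
      (fun i => pullFn g (hV l) (Φ.coefHom (s'' i) (W' l.1) (e l.1) (he l.1)))
  choose mm b hmm hb using hnum
  -- the finite set of primes to avoid
  set 𝒬 : Set (Ideal (MvPolynomial {z : Y // z ∈ Z} ℤ)) :=
    {q | ∃ l, ∃ 𝔭 : Ideal Γ(Y, ⊤), 𝔭.IsPrime ∧ q = Ideal.comap (evalHom (b l)) 𝔭 ∧
      ∃ j, (MvPolynomial.X j : MvPolynomial {z : Y // z ∈ Z} ℤ) ∉ q} with h𝒬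
  have hfin : 𝒬.Finite := by
    refine (Set.finite_iUnion (fun l => finite_comap_primes (k := k) (b l)
      (fun i => Algebra.IsIntegral.isIntegral _))).subset ?_
    rintro q ⟨l, 𝔭, h𝔭, hq, -⟩
    exact Set.mem_iUnion.2 ⟨l, 𝔭, h𝔭, hq⟩
  obtain ⟨d, P, hd, hP, hPav⟩ := exists_homogeneous_notMem hfin.toFinset
    (fun q : Ideal (MvPolynomial {z : Y // z ∈ Z} ℤ) => q)
    (fun q hq => by
      obtain ⟨l, 𝔭, h𝔭, rfl, -⟩ := hfin.mem_toFinset.1 hq
      exact Ideal.IsPrime.comap _)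
    (fun q hq => by
      obtain ⟨l, 𝔭, h𝔭, -, hj⟩ := hfin.mem_toFinset.1 hq
      exact hj)
  -- the section
  have hn' : N * d - 1 + 1 = N * d := Nat.sub_add_cancel (Nat.mul_pos hNpos hd)
  set Ψ : Frame L (CohB1.tensorPow L (N * d - 1 + 1)) (N * d) :=
    (Frame.pow L (N * d - 1 + 1)).cast hn' with hΨ
  obtain ⟨s', hs'⟩ := exists_polySec hLinv Φ Ψ s'' P hP
  refine ⟨N * d - 1, s', ?_, ?_, ?_⟩
  · exact isAffineOpen_genLocus_polySec hLinv hd Φ Ψ s''
      (fun i => ⟨W' i.1, e i.1, hW' i.1, he i.1, by rw [hs''eq i]; exact hsW' i.1⟩) P hP s' hs'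
  · intro x hx
    obtain ⟨i, hi⟩ := genLocus_polySec_le hLinv hd Φ Ψ s'' P hP s' hs' x hx
    rw [hs''eq i] at hi
    exact hW'W i.1 (hsW' i.1 hi)
  · rintro _ ⟨z, rfl⟩
    obtain ⟨l, hzl⟩ := hcov z
    change g.base z ∈ CohB1.genLocus _ s'
    rw [mem_genLocus_iff g Ψ s' (e l.1) (he l.1) (hV l) z hzl, hs' (W' l.1) (e l.1) (he l.1)]
    -- the pulled-back coefficients
    set x : {z : Y // z ∈ Z} → Γ(Y, Y.basicOpen (h l.1)) :=
      fun i => pullFn g (hV l) (Φ.coefHom (s'' i) (W' l.1) (e l.1) (he l.1)) with hx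
    have e1 : pullFn g (hV l) (P.eval₂ (Int.castRingHom Γ(X, W' l.1))
        (fun i => Φ.coefHom (s'' i) (W' l.1) (e l.1) (he l.1))) =
        P.eval₂ (Int.castRingHom Γ(Y, Y.basicOpen (h l.1))) x := by
      rw [eval₂_comp_left (pullFn g (hV l))]
      congr 1
      exact RingHom.ext_int _ _
    rw [e1]
    set u := rY (Y.basicOpen_le (h l.1)) (h l.1) with hu
    have hzu : z ∈ Y.basicOpen u := by
      have : Y.basicOpen u = Y.basicOpen (h l.1) ⊓ Y.basicOpen (h l.1) :=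
        Scheme.basicOpen_res Y _ (homOfLE (Y.basicOpen_le (h l.1))).op
      rw [this]
      exact ⟨hzl, hzl⟩
    have e2 : rY (Y.basicOpen_le (h l.1)) (evalHom (b l) P) =
        P.eval₂ (Int.castRingHom Γ(Y, Y.basicOpen (h l.1))) x * (u ^ mm l) ^ d := by
      rw [evalHom_apply, eval₂_comp_left (rY (Y.basicOpen_le (h l.1))),
        ← eval₂_mul_of_isHomogeneous _ _ _ hP]
      congr 1
      · exact RingHom.ext_int _ _
      · funext i
        rw [Function.comp_apply, hb l i, mul_comm]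
    -- the prime of `z`
    set 𝔭 : Ideal Γ(Y, ⊤) := RingHom.ker (Y.evaluation ⊤ z (Opens.mem_top z)).hom with h𝔭
    haveI : 𝔭.IsPrime := RingHom.ker_isPrime _
    have hmem𝔭 : ∀ f : Γ(Y, ⊤), f ∉ 𝔭 ↔ z ∈ Y.basicOpen f := by
      intro f
      rw [h𝔭, RingHom.mem_ker]
      exact Y.evaluation_ne_zero_iff_mem_basicOpen z (Opens.mem_top z) f
    have hbll : z ∈ Y.basicOpen (b l l) := by
      have h1 : z ∈ Y.basicOpen (rY (Y.basicOpen_le (h l.1)) (b l l)) := by
        rw [hb l l, Scheme.basicOpen_mul, Scheme.basicOpen_pow _ _ (hmm l)]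
        refine ⟨hzu, ?_⟩
        exact (mem_genLocus_iff g Φ (s'' l) (e l.1) (he l.1) (hV l) z hzl).1
          (by rw [hs''eq l]; exact hhle l.1 hzl)
      have h2 : Y.basicOpen (rY (Y.basicOpen_le (h l.1)) (b l l)) =
          Y.basicOpen (h l.1) ⊓ Y.basicOpen (b l l) :=
        Scheme.basicOpen_res Y _ (homOfLE (Y.basicOpen_le (h l.1))).op
      rw [h2] at h1
      exact h1.2
    have hq : Ideal.comap (evalHom (b l)) 𝔭 ∈ hfin.toFinset := by
      rw [hfin.mem_toFinset]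
      refine ⟨l, 𝔭, inferInstance, rfl, l, ?_⟩
      rw [Ideal.mem_comap, evalHom_X, hmem𝔭]
      exact hbll
    have hzP : z ∈ Y.basicOpen (evalHom (b l) P) := by
      rw [← hmem𝔭]
      exact fun hmem => hPav _ hq (Ideal.mem_comap.2 hmem)
    have h3 : z ∈ Y.basicOpen (rY (Y.basicOpen_le (h l.1)) (evalHom (b l) P)) := by
      have h2 : Y.basicOpen (rY (Y.basicOpen_le (h l.1)) (evalHom (b l) P)) =
          Y.basicOpen (h l.1) ⊓ Y.basicOpen (evalHom (b l) P) :=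
        Scheme.basicOpen_res Y _ (homOfLE (Y.basicOpen_le (h l.1))).op
      rw [h2]
      exact ⟨hzl, hzP⟩
    rw [e2, Scheme.basicOpen_mul] at h3
    exact h3.1

end Groth.Agent.IntSpec
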