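import Mathlib

open Polynomial Finset

namespace Groth.Agent.Lib.IntValPoly

theorem KL0 (g : ℕ) (R : ℚ[X]) (hR : R.natDegree ≤ g)
    (hv : ∀ i : ℕ, i ≤ g → ∃ z : ℤ, R.eval (i : ℚ) = z) :
    ∃ T : ℤ[X], T.map (Int.castRingHom ℚ) = C (g.factorial : ℚ) * R := by
  classical
  have hd : ∀ k : ℕ, k ≤ g → ∃ z : ℤ, (fwdDiff (1:ℚ))^[k] R.eval (0:ℚ) = z := by
    intro k hk
    rw [fwdDiff_iter_eq_sum_shift]
    choose! z hz using hv
    refine ⟨∑ j ∈ range (k+1), ((-1:ℤ)^(k-j) * k.choose j) * z j, ?_⟩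
    rw [Int.cast_sum]
    refine Finset.sum_congr rfl fun j hj => ?_
    have hjg : j ≤ g := (Nat.lt_succ_iff.mp (Finset.mem_range.mp hj)).trans hk
    have h0 : R.eval ((0:ℚ) + j • (1:ℚ)) = z j := by
      rw [← hz j hjg]; simp
    rw [h0, zsmul_eq_mul]; exact (Int.cast_mul _ _).symm
  have hd0 : ∀ k : ℕ, g < k → (fwdDiff (1:ℚ))^[k] R.eval = 0 := fun k hk =>
    Polynomial.fwdDiff_iter_eq_zero_of_degree_lt (lt_of_le_of_lt hR hk)
  choose! z hz using hd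
  refine ⟨∑ k ∈ range (g+1),
    C (z k * ((g.factorial / k.factorial : ℕ) : ℤ)) * descPochhammer ℤ k, ?_⟩
  apply Polynomial.eq_of_infinite_eval_eq
  apply Set.Infinite.mono _ (Set.infinite_range_of_injective (Nat.cast_injective (R := ℚ)))
  rintro _ ⟨n, rfl⟩
  simp only [Set.mem_setOf_eq]
  rw [Polynomial.map_sum, Polynomial.eval_finset_sum, eval_mul, eval_C]
  have hN : R.eval (n:ℚ) = ∑ k ∈ range (g+1), (n.choose k : ℚ) * (z k : ℚ) := by
    have h1 := shift_eq_sum_fwdDiff_iter (1:ℚ) R.eval n (0:ℚ)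
    have h2 : (0:ℚ) + n • (1:ℚ) = n := by simp
    rw [h2] at h1
    rw [h1]
    have e1 : ∑ k ∈ range (n+1), n.choose k • (fwdDiff (1:ℚ))^[k] R.eval 0
        = ∑ k ∈ range (n+1+(g+1)), n.choose k • (fwdDiff (1:ℚ))^[k] R.eval 0 := by
      apply Finset.sum_subset (Finset.range_mono (by omega))
      intro k _ hk
      have hnk : n < k := by
        rw [Finset.mem_range] at hk; omega
      rw [Nat.choose_eq_zero_of_lt hnk, zero_smul]
    have e2 : ∑ k ∈ range (g+1), (n.choose k : ℚ) * (z k : ℚ)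
        = ∑ k ∈ range (n+1+(g+1)), n.choose k • (fwdDiff (1:ℚ))^[k] R.eval 0 := by
      rw [← Finset.sum_subset (Finset.range_mono (by omega : g+1 ≤ n+1+(g+1)))]
      · refine Finset.sum_congr rfl fun k hk => ?_
        rw [hz k (Nat.lt_succ_iff.mp (Finset.mem_range.mp hk)), nsmul_eq_mul]
      · intro k _ hk
        have hgk : g < k := by
          rw [Finset.mem_range] at hk; omega
        rw [hd0 k hgk]; simp
    rw [e1, e2]
  rw [hN, Finset.mul_sum]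
  refine Finset.sum_congr rfl fun k hk => ?_
  have hkg : k ≤ g := Nat.lt_succ_iff.mp (Finset.mem_range.mp hk)
  rw [Polynomial.map_mul, Polynomial.map_C, descPochhammer_map, eval_mul, eval_C,
    descPochhammer_eval_eq_descFactorial, Nat.descFactorial_eq_factorial_mul_choose]
  have hfac : ((g.factorial / k.factorial : ℕ) : ℚ) * (k.factorial : ℚ) = g.factorial := by
    rw [← Nat.cast_mul, Nat.div_mul_cancel (Nat.factorial_dvd_factorial hkg)]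
  simp only [eq_intCast, Int.cast_mul, Int.cast_natCast, Nat.cast_mul]
  linear_combination (z k : ℚ) * (n.choose k : ℚ) * hfac

theorem KL (g : ℕ) (R : ℚ[X]) (hR : R.natDegree ≤ g) (m : ℤ)
    (hv : ∀ i : ℕ, i ≤ g → ∃ z : ℤ, R.eval ((m:ℚ) + i) = z) (j : ℕ) :
    ∃ z : ℤ, (g.factorial : ℚ) * R.coeff j = z := by
  have hR' : (R.comp (X + C (m:ℚ))).natDegree ≤ g := by
    refine (natDegree_comp_le).trans ?_
    rw [natDegree_X_add_C, mul_one]; exact hR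
  obtain ⟨T, hT⟩ := KL0 g (R.comp (X + C (m:ℚ))) hR' (fun i hi => by
    obtain ⟨z, hz⟩ := hv i hi
    exact ⟨z, by rw [eval_comp, eval_add, eval_X, eval_C, add_comm]; exact hz⟩)
  have key : (T.comp (X - C m)).map (Int.castRingHom ℚ) = C (g.factorial : ℚ) * R := by
    rw [Polynomial.map_comp, hT, Polynomial.map_sub, Polynomial.map_X, Polynomial.map_C,
      mul_comp, C_comp, comp_assoc]
    have h3 : (X + C (m:ℚ)).comp (X - C ((Int.castRingHom ℚ) m)) = X := by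
      simp
    rw [h3, comp_X]
  refine ⟨(T.comp (X - C m)).coeff j, ?_⟩
  have h4 := congrArg (fun p => p.coeff j) key
  simp only [coeff_map, coeff_C_mul, eq_intCast] at h4
  exact h4.symm

theorem main (g : ℕ) (u v : ℚ) (huv : u < v) (Q : ℚ[X]) (hQ : Q.natDegree ≤ g)
    (N : ℤ → ℕ → ℕ)
    (hpoly : ∀ (a : ℤ) (b : ℕ), 0 < b → u < (a : ℚ) / (b : ℚ) → (a : ℚ) / (b : ℚ) < v →
      ((N a b : ℕ) : ℚ) / (b : ℚ) ^ (2 * g) = Q.eval ((a : ℚ) / (b : ℚ)))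
    (j : ℕ) : ∃ z : ℤ, (Nat.factorial g : ℚ) * Q.coeff j = (z : ℚ) := by
  by_cases hj : g < j
  · exact ⟨0, by rw [coeff_eq_zero_of_natDegree_lt (lt_of_le_of_lt hQ hj)]; simp⟩
  push_neg at hj
  have step : ∀ b : ℕ, 0 < b → ((g:ℚ) + 1) < (b:ℚ) * (v - u) →
      ∃ z : ℤ, (g.factorial : ℚ) * Q.coeff j * (b:ℚ)^(2*g - j) = z := by
    intro b hb hbig
    have hbQ : (0:ℚ) < b := by exact_mod_cast hb
    have hb2 : (b:ℚ)^(2*g) ≠ 0 := pow_ne_zero _ hbQ.ne'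
    obtain ⟨R, hRdef⟩ : ∃ R : ℚ[X], R = C ((b:ℚ)^(2*g)) * Q.comp (C ((b:ℚ)⁻¹) * X) := ⟨_, rfl⟩
    have hRdeg : R.natDegree ≤ g := by
      rw [hRdef]
      refine (natDegree_C_mul_le _ _).trans ?_
      refine natDegree_comp_le.trans ?_
      rw [natDegree_C_mul_X _ (inv_ne_zero hbQ.ne'), mul_one]; exact hQ
    have hReval : ∀ x : ℚ, R.eval x = (b:ℚ)^(2*g) * Q.eval (x / b) := by
      intro x
      rw [hRdef, eval_mul, eval_C, eval_comp, eval_mul, eval_C, eval_X, div_eq_inv_mul]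
    obtain ⟨m, hm1, hm2⟩ : ∃ m : ℤ, u * b < m ∧ (m:ℚ) ≤ u * b + 1 :=
      ⟨⌊u * b⌋ + 1, by push_cast; exact Int.lt_floor_add_one _,
        by push_cast; linarith [Int.floor_le (u * (b:ℚ))]⟩
    have hbig' : (g:ℚ) + 1 < b * v - b * u := by rw [← mul_sub]; exact hbig
    obtain ⟨z, hz⟩ := KL g R hRdeg m (fun i hi => by
      have hi' : (i:ℚ) ≤ g := by exact_mod_cast hi
      have hi0 : (0:ℚ) ≤ i := Nat.cast_nonneg i
      have hcast : (((m + (i:ℤ) : ℤ)) : ℚ) = (m:ℚ) + (i:ℚ) := by push_cast; ring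
      have h1 : u < ((m + (i:ℤ) : ℤ) : ℚ) / b := by
        rw [lt_div_iff₀ hbQ, hcast]; linarith
      have h2 : ((m + (i:ℤ) : ℤ) : ℚ) / b < v := by
        rw [div_lt_iff₀ hbQ, hcast]; linarith
      have h3 := hpoly (m + i) b hb h1 h2
      have hN := (div_eq_iff hb2).mp h3
      refine ⟨(N (m + i) b : ℤ), ?_⟩
      rw [hReval, Int.cast_natCast, hN, hcast]; ring) j
    refine ⟨z, ?_⟩
    rw [← hz, hRdef, coeff_C_mul, comp_C_mul_X_coeff]
    have hpw : (b:ℚ)^(2*g) * ((b:ℚ)⁻¹)^j = (b:ℚ)^(2*g - j) := by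
      have h2 : (b:ℚ)^(2*g) = (b:ℚ)^(2*g - j) * (b:ℚ)^j := by
        rw [← pow_add]; congr 1; omega
      rw [h2, inv_pow, mul_assoc, mul_inv_cancel₀ (pow_ne_zero _ hbQ.ne'), mul_one]
    rw [← hpw]; ring
  have hvu : (0:ℚ) < v - u := sub_pos.mpr huv
  obtain ⟨b₀, hb₀⟩ := exists_nat_gt (((g:ℚ) + 1) / (v - u))
  have hpos : (0:ℚ) < ((g:ℚ) + 1) / (v - u) := by positivity
  have hb₀pos : 0 < b₀ := by
    have h5 : (0:ℚ) < b₀ := hpos.trans hb₀
    exact_mod_cast h5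
  have hbig0 : ((g:ℚ) + 1) < (b₀:ℚ) * (v - u) := by
    rwa [div_lt_iff₀ hvu] at hb₀
  have hbig1 : ((g:ℚ) + 1) < ((b₀ + 1 : ℕ):ℚ) * (v - u) := by
    push_cast; nlinarith
  obtain ⟨z0, hz0⟩ := step b₀ hb₀pos hbig0
  obtain ⟨z1, hz1⟩ := step (b₀ + 1) (Nat.succ_pos _) hbig1
  have h0 : IsCoprime (b₀:ℤ) ((b₀:ℤ)+1) := ⟨-1, 1, by ring⟩
  obtain ⟨s, t, hst⟩ := (h0.pow : IsCoprime ((b₀:ℤ)^(2*g - j)) (((b₀:ℤ) + 1)^(2*g - j)))
  refine ⟨s * z0 + t * z1, ?_⟩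
  have hst' : (s:ℚ) * (b₀:ℚ)^(2*g - j) + (t:ℚ) * ((b₀:ℚ) + 1)^(2*g - j) = 1 := by
    exact_mod_cast hst
  push_cast at hz0 hz1 ⊢
  rw [← hz0, ← hz1]
  linear_combination (-(g.factorial : ℚ) * Q.coeff j) * hst'

end Groth.Agent.Lib.IntValPoly
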