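import Mathlib
import Groth.Prelude

/-! # Base change of the dominant irreducible component (lead) -/

set_option autoImplicit false
set_option backward.isDefEq.respectTransparency false
set_option linter.unusedSimpArgs false
set_option linter.unusedVariables false
set_option linter.unusedSectionVars false
set_option linter.style.longLine false
set_option linter.style.haveILetI false
set_option linter.unnecessarySimpa false
set_option maxHeartbeats 1600000

universe u

open CategoryTheory CategoryTheory.Limits AlgebraicGeometry TopologicalSpace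

namespace Groth.Agent.Lib.IntegralBC

theorem map_genericPoint {Y Y₀ : Scheme.{u}} [IsIntegral Y₀] [IsIntegral Y]
    (g : Y ⟶ Y₀) [IsDominant g] : g (genericPoint Y) = genericPoint Y₀ := by
  have h1 : IsGenericPoint (g (genericPoint Y)) (closure (g '' (⊤ : Set Y))) :=
    (genericPoint_spec Y).image g.continuous
  have h2 : closure (g '' (⊤ : Set Y)) = (⊤ : Set Y₀) := by
    rw [Set.top_eq_univ, Set.image_univ]; exact g.denseRange.closure_range
  rw [h2] at h1
  exact h1.eq (genericPoint_spec Y₀)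

theorem main4973 {X₀ Y₀ Y : Scheme.{u}} [IsIntegral Y₀] [IsIntegral Y]
    (g : Y ⟶ Y₀) [IsDominant g] (f₀ : X₀ ⟶ Y₀)
    (hirr : IsIrreducible (f₀.base ⁻¹' {genericPoint Y₀}))
    (C : TopologicalSpace.Closeds X₀) (hC : (C : Set X₀) ∈ irreducibleComponents (X₀ : Type u))
    (hCη : ((C : Set X₀) ∩ f₀.base ⁻¹' {genericPoint Y₀}).Nonempty) [IsIntegral (pullback f₀ g)]
    (e₁ : ((Scheme.IdealSheafData.vanishingIdeal C).subschemeι ≫ f₀) ≫ 𝟙 Y₀ =
      (Scheme.IdealSheafData.vanishingIdeal C).subschemeι ≫ f₀) (e₂ : g ≫ 𝟙 Y₀ = 𝟙 Y ≫ g) :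
    IsIso (pullback.map ((Scheme.IdealSheafData.vanishingIdeal C).subschemeι ≫ f₀) g f₀ g
      (Scheme.IdealSheafData.vanishingIdeal C).subschemeι (𝟙 Y) (𝟙 Y₀) e₁ e₂) := by
  set I := Scheme.IdealSheafData.vanishingIdeal C with hI
  set η₀ := genericPoint Y₀ with hη₀
  set η := genericPoint Y with hη
  have hgη : g η = η₀ := map_genericPoint g
  -- closed immersion
  haveI hci : IsClosedImmersion (pullback.map (I.subschemeι ≫ f₀) g f₀ g I.subschemeι (𝟙 Y) (𝟙 Y₀)
      e₁ e₂) :=
    MorphismProperty.pullbackMap (P := @IsClosedImmersion) (i₁ := I.subschemeι) (i₂ := 𝟙 Y)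
      inferInstance inferInstance rfl (Category.id_comp g).symm
  -- range of ι
  have hrange : Set.range I.subschemeι = (C : Set X₀) := by
    rw [I.range_subschemeι, hI, Scheme.IdealSheafData.coe_support_vanishingIdeal]
  -- generic point of C
  obtain ⟨c, hcC, hcF⟩ := hCη
  have hcF' : f₀ c = η₀ := hcF
  obtain ⟨γ, hγ⟩ := QuasiSober.sober hC.1 C.isClosed
  have hγc : γ ⤳ c := hγ.specializes hcC
  have hγF : f₀ γ = η₀ := by
    have h1 : f₀ γ ⤳ η₀ := hcF' ▸ hγc.map f₀.continuous
    have h2 : η₀ ⤳ f₀ γ := genericPoint_specializes _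
    exact (h1.antisymm h2).eq
  have hFC : f₀.base ⁻¹' {η₀} ⊆ (C : Set X₀) := by
    have hcl : IsIrreducible (closure (f₀.base ⁻¹' {η₀})) := hirr.closure
    have hsub : (C : Set X₀) ⊆ closure (f₀.base ⁻¹' {η₀}) := by
      rw [← hγ.def]
      exact closure_mono (Set.singleton_subset_iff.mpr hγF)
    exact subset_closure.trans (hC.2 hcl hsub)
  -- generic point of X
  set ξ := genericPoint ↥(pullback f₀ g) with hξ
  obtain ⟨x, hx1, hx2⟩ := Scheme.Pullback.exists_preimage_pullback (f := f₀) (g := g) c η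
    (hcF'.trans hgη.symm)
  have hsndξ : pullback.snd f₀ g ξ = η := by
    have h1 : pullback.snd f₀ g ξ ⤳ η :=
      hx2 ▸ (genericPoint_specializes x).map (pullback.snd f₀ g).continuous
    have h2 : η ⤳ pullback.snd f₀ g ξ := genericPoint_specializes _
    exact (h1.antisymm h2).eq
  have hfstξ : pullback.fst f₀ g ξ ∈ (C : Set X₀) := by
    apply hFC
    show f₀ (pullback.fst f₀ g ξ) = η₀
    rw [← Scheme.Hom.comp_apply, pullback.condition, Scheme.Hom.comp_apply, hsndξ, hgη]
  have hall : ∀ x : ↥(pullback f₀ g), pullback.fst f₀ g x ∈ (C : Set X₀) := fun x =>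
    ((genericPoint_specializes x).map (pullback.fst f₀ g).continuous).mem_closed C.isClosed hfstξ
  haveI hsurj : Surjective (pullback.map (I.subschemeι ≫ f₀) g f₀ g I.subschemeι (𝟙 Y) (𝟙 Y₀)
      e₁ e₂) := by
    rw [surjective_iff, ← Set.range_eq_univ, Scheme.Pullback.range_map, hrange]
    have : Set.range (𝟙 Y : Y ⟶ Y) = Set.univ := Set.eq_univ_of_forall fun x => ⟨x, rfl⟩
    rw [this, Set.preimage_univ, Set.inter_univ]
    exact Set.eq_univ_of_forall hall
  haveI : IsReduced (pullback f₀ g) := inferInstance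
  exact AlgebraicGeometry.isIso_of_isClosedImmersion_of_surjective _

end Groth.Agent.Lib.IntegralBC
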