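import Mathlib

set_option maxHeartbeats 400000

namespace Groth.Agent.Lib.SimDiag

section R1
variable {k V : Type*} [Field k] [AddCommGroup V] [Module k V]

theorem R1_aux (F : Module.End k V) (p : Submodule k V) (hp : ∀ x ∈ p, F x ∈ p) :
    ∀ (s : Finset k) (x : k → V), (∀ μ ∈ s, F (x μ) = μ • x μ) → (∑ μ ∈ s, x μ) ∈ p →
      ∀ μ ∈ s, x μ ∈ p := by
  classical
  intro s
  induction s using Finset.induction_on with
  | empty => intro x _ _ μ hμ; exact absurd hμ (Finset.notMem_empty μ)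
  | insert ν s hν ih =>
    intro x hx hsum μ hμ
    rw [Finset.sum_insert hν] at hsum
    have h1 : (∑ μ ∈ s, (μ - ν) • x μ) ∈ p := by
      have hFy := hp _ hsum
      have : (∑ μ ∈ s, (μ - ν) • x μ) =
          F (x ν + ∑ μ ∈ s, x μ) - ν • (x ν + ∑ μ ∈ s, x μ) := by
        rw [map_add, map_sum, hx ν (Finset.mem_insert_self ν s), smul_add, Finset.smul_sum,
          add_sub_add_left_eq_sub, ← Finset.sum_sub_distrib]
        apply Finset.sum_congr rfl
        intro μ hμ
        rw [hx μ (Finset.mem_insert_of_mem hμ), sub_smul]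
      rw [this]; exact p.sub_mem hFy (p.smul_mem ν hsum)
    have h2 := ih (fun μ => (μ - ν) • x μ) (by
      intro μ hμ
      show F ((μ - ν) • x μ) = μ • ((μ - ν) • x μ)
      rw [map_smul, hx μ (Finset.mem_insert_of_mem hμ), smul_comm]) h1
    have h3 : ∀ μ ∈ s, x μ ∈ p := by
      intro μ hμ
      have hne : μ - ν ≠ 0 := sub_ne_zero.mpr (fun h => hν (h ▸ hμ))
      have := p.smul_mem (μ - ν)⁻¹ (h2 μ hμ)
      rwa [smul_smul, inv_mul_cancel₀ hne, one_smul] at this
    rcases Finset.mem_insert.mp hμ with h | hμ'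
    · rw [h]
      have : x ν = (x ν + ∑ μ' ∈ s, x μ') - ∑ μ' ∈ s, x μ' := by abel
      rw [this]; exact p.sub_mem hsum (p.sum_mem h3)
    · exact h3 μ hμ'

theorem R1 (F : Module.End k V) (hF : ⨆ μ, Module.End.eigenspace F μ = ⊤) (p : Submodule k V)
    (hp : ∀ x ∈ p, F x ∈ p) {x : V} (hx : x ∈ p) :
    x ∈ ⨆ μ, p ⊓ Module.End.eigenspace F μ := by
  classical
  have hx' : x ∈ ⨆ μ, Module.End.eigenspace F μ := by rw [hF]; trivial
  obtain ⟨c, hc, rfl⟩ := (Submodule.mem_iSup_iff_exists_finsupp _ _).mp hx'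
  have hmem := R1_aux F p hp c.support (fun μ => c μ)
    (fun μ _ => Module.End.mem_eigenspace_iff.mp (hc μ)) (by simpa [Finsupp.sum] using hx)
  rw [Finsupp.sum]
  exact Submodule.sum_mem _ (fun μ hμ => Submodule.mem_iSup_of_mem μ ⟨hmem μ hμ, hc μ⟩)

end R1

section MainLemma
variable {k : Type*} [Field k] {R : Type*} [CommRing R] [Algebra k R]
  {M : Type*} [AddCommGroup M] [Module R M] [Module k M] [IsScalarTower k R M]
  {ι : Type*} (g : ι → Module.End R M)

def K (i : ι) (μ : k) : Submodule R M :=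
  LinearMap.ker (g i - algebraMap k R μ • (1 : Module.End R M))

theorem mem_K {i : ι} {μ : k} {x : M} : x ∈ K g i μ ↔ g i x = μ • x := by
  rw [K, LinearMap.mem_ker, LinearMap.sub_apply, LinearMap.smul_apply, Module.End.one_apply,
    algebraMap_smul, sub_eq_zero]

theorem mem_E {i : ι} {μ : k} {x : M} :
    x ∈ Module.End.eigenspace ((g i).restrictScalars k) μ ↔ g i x = μ • x := by
  rw [Module.End.mem_eigenspace_iff, LinearMap.restrictScalars_apply]

@[reducible] def T : Submodule k M :=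
  ⨆ χ : ι → k, ⨅ i, Module.End.eigenspace ((g i).restrictScalars k) (χ i)

def Stable (N : Submodule R M) : Prop := ∀ i, ∀ x ∈ N, g i x ∈ N

theorem stable_inf_K (hcomm : ∀ i j, Commute (g i) (g j)) {C : Submodule R M}
    (hC : Stable g C) (i : ι) (μ : k) : Stable g (C ⊓ K g i μ) := by
  rintro j y ⟨hyC, hyK⟩
  refine ⟨hC j y hyC, (mem_K g).mpr ?_⟩
  have hc : g i (g j y) = g j (g i y) := LinearMap.congr_fun (hcomm i j).eq y
  rw [hc, (mem_K g).mp hyK, LinearMap.map_smul_of_tower]

theorem stable_iSup {κ : Sort*} {S : κ → Submodule R M} (hS : ∀ a, Stable g (S a)) :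
    Stable g (⨆ a, S a) := by
  intro j y hy
  refine Submodule.iSup_induction _ (motive := fun z => g j z ∈ ⨆ a, S a) hy ?_ ?_ ?_
  · intro a z hz; exact Submodule.mem_iSup_of_mem a (hS a j z hz)
  · show g j 0 ∈ ⨆ a, S a
    rw [map_zero]; exact zero_mem _
  · intro a b ha hb
    show g j (a + b) ∈ ⨆ a, S a
    rw [map_add]; exact add_mem ha hb

theorem stable_sup {N D : Submodule R M} (hN : Stable g N) (hD : Stable g D) :
    Stable g (N ⊔ D) := by
  intro j y hy
  obtain ⟨n, hn, d, hd, rfl⟩ := Submodule.mem_sup.mp hy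
  rw [map_add]
  exact Submodule.add_mem_sup (hN j n hn) (hD j d hd)

theorem main_aux [IsNoetherian R M] (hcomm : ∀ i j, Commute (g i) (g j))
    (hdiag : ∀ i, ⨆ μ : k, Module.End.eigenspace ((g i).restrictScalars k) μ = ⊤)
    (N : Submodule R M) :
    Stable g N → ∀ C : Submodule R M, Stable g C → N ⊓ C = ⊥ → N ⊔ C = ⊤ →
      ∀ x ∈ C, x ∈ T (k := k) g := by
  classical
  refine IsNoetherian.induction (P := fun N => Stable g N → ∀ C : Submodule R M, Stable g C →
    N ⊓ C = ⊥ → N ⊔ C = ⊤ → ∀ x ∈ C, x ∈ T (k := k) g) (fun N ih => ?_) N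
  intro hN C hC hdisj hsup x hx
  by_cases hsc : ∀ i, ∃ μ : k, ∀ y ∈ C, g i y = μ • y
  · choose χ hχ using hsc
    refine Submodule.mem_iSup_of_mem χ ?_
    rw [Submodule.mem_iInf]
    intro i
    exact (mem_E g).mpr (hχ i x hx)
  · push_neg at hsc
    obtain ⟨i, hi⟩ := hsc
    have hR1 : ∀ y ∈ C, y ∈ ⨆ μ : k, (C.restrictScalars k) ⊓
        Module.End.eigenspace ((g i).restrictScalars k) μ :=
      fun y hy => R1 ((g i).restrictScalars k) (hdiag i) (C.restrictScalars k)
        (fun z hz => hC i z hz) hy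
    have hpiece : ∀ μ : k, ∀ y ∈ C, g i y = μ • y → y ∈ T (k := k) g := by
      intro μ
      obtain ⟨D, hD⟩ : ∃ D : Submodule R M, D = ⨆ ν : {ν : k // ν ≠ μ}, C ⊓ K g i ν.1 :=
        ⟨_, rfl⟩
      have hDmem : ∀ ν : k, ν ≠ μ → ∀ z ∈ C, g i z = ν • z → z ∈ D := by
        intro ν hν z hzC hz
        rw [hD]
        exact Submodule.mem_iSup_of_mem (⟨ν, hν⟩ : {ν : k // ν ≠ μ}) ⟨hzC, (mem_K g).mpr hz⟩
      have hDC : D ≤ C := by rw [hD]; exact iSup_le fun ν => inf_le_left
      have hDst : Stable g D := by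
        rw [hD]; exact stable_iSup g (fun ν => stable_inf_K g hcomm hC i ν.1)
      have hCμst : Stable g (C ⊓ K g i μ) := stable_inf_K g hcomm hC i μ
      have hsplit : ∀ c ∈ C, c ∈ D ⊔ (C ⊓ K g i μ) := by
        intro c hc
        refine Submodule.iSup_induction _ (motive := fun z => z ∈ D ⊔ (C ⊓ K g i μ)) (hR1 c hc) ?_
          (zero_mem _) (fun a b ha hb => add_mem ha hb)
        rintro ν z ⟨hzC, hzE⟩
        by_cases hν : ν = μ
        · subst hν
          exact Submodule.mem_sup_right ⟨hzC, (mem_K g).mpr ((mem_E g).mp hzE)⟩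
        · exact Submodule.mem_sup_left (hDmem ν hν z hzC ((mem_E g).mp hzE))
      have hDne : D ≠ ⊥ := by
        intro hD0
        obtain ⟨y, hyC, hy⟩ := hi μ
        apply hy
        refine Submodule.iSup_induction _ (motive := fun z => g i z = μ • z) (hR1 y hyC) ?_
          (by simp) ?_
        · rintro ν z ⟨hzC, hzE⟩
          by_cases hν : ν = μ
          · subst hν; exact (mem_E g).mp hzE
          · have hzD : z ∈ D := hDmem ν hν z hzC ((mem_E g).mp hzE)
            rw [hD0, Submodule.mem_bot] at hzD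
            rw [hzD]; simp
        · intro a b ha hb
          show g i (a + b) = μ • (a + b)
          rw [map_add, smul_add, ha, hb]
      have hlt : N < N ⊔ D := by
        refine lt_of_le_of_ne le_sup_left (fun heq => hDne ?_)
        have h1 : D ≤ N := by rw [heq]; exact le_sup_right
        have h2 : D ≤ N ⊓ C := le_inf h1 hDC
        rw [hdisj] at h2
        exact le_bot_iff.mp h2
      have hdisj' : (N ⊔ D) ⊓ (C ⊓ K g i μ) = ⊥ := by
        rw [Submodule.eq_bot_iff]
        rintro y ⟨hyND, hyC, hyK⟩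
        obtain ⟨n, hn, d, hd, rfl⟩ := Submodule.mem_sup.mp hyND
        have hnC : n ∈ C := by
          have : n = (n + d) - d := by abel
          rw [this]; exact C.sub_mem hyC (hDC hd)
        have hn0 : n = 0 := by
          have : n ∈ N ⊓ C := ⟨hn, hnC⟩
          rw [hdisj, Submodule.mem_bot] at this
          exact this
        subst hn0
        rw [zero_add] at hyK ⊢
        have hdE : d ∈ ⨆ ν, ⨆ (_ : ν ≠ μ),
            Module.End.eigenspace ((g i).restrictScalars k) ν := by
          rw [hD] at hd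
          refine Submodule.iSup_induction _ (motive := fun z => z ∈ ⨆ ν, ⨆ (_ : ν ≠ μ),
            Module.End.eigenspace ((g i).restrictScalars k) ν) hd ?_ (zero_mem _)
            (fun a b ha hb => add_mem ha hb)
          rintro ν z ⟨_, hzK⟩
          exact Submodule.mem_iSup_of_mem ν.1
            (Submodule.mem_iSup_of_mem ν.2 ((mem_E g).mpr ((mem_K g).mp hzK)))
        have hind := Module.End.eigenspaces_iSupIndep ((g i).restrictScalars k) μ
        exact Submodule.disjoint_def.mp hind d ((mem_E g).mpr ((mem_K g).mp hyK)) hdE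
      have hsup' : (N ⊔ D) ⊔ (C ⊓ K g i μ) = ⊤ := by
        rw [eq_top_iff]
        intro y _
        have hy : y ∈ N ⊔ C := by rw [hsup]; trivial
        obtain ⟨n, hn, c, hc, rfl⟩ := Submodule.mem_sup.mp hy
        rw [sup_assoc]
        exact Submodule.add_mem_sup hn (hsplit c hc)
      have key := ih (N ⊔ D) hlt (stable_sup g hN hDst) (C ⊓ K g i μ) hCμst hdisj' hsup'
      intro y hyC hgy
      exact key y ⟨hyC, (mem_K g).mpr hgy⟩
    refine Submodule.iSup_induction _ (motive := fun z => z ∈ T (k := k) g) (hR1 x hx) ?_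
      (zero_mem _) (fun a b ha hb => add_mem ha hb)
    rintro μ y ⟨hyC, hyE⟩
    exact hpiece μ y hyC ((mem_E g).mp hyE)

theorem main_lemma [IsNoetherian R M] (hcomm : ∀ i j, Commute (g i) (g j))
    (hdiag : ∀ i, ⨆ μ : k, Module.End.eigenspace ((g i).restrictScalars k) μ = ⊤) :
    T (k := k) g = ⊤ := by
  rw [eq_top_iff]
  intro x _
  refine main_aux g hcomm hdiag ⊥ ?_ ⊤ (fun _ _ _ => trivial) (bot_inf_eq _) (bot_sup_eq _) x trivial
  intro i y hy
  rw [(Submodule.mem_bot R).mp hy, map_zero]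
  exact zero_mem _

end MainLemma

universe u v w x

theorem main (k : Type u) [Field k] (R : Type v) [CommRing R] [Algebra k R] [IsNoetherianRing R]
    (V : Type w) [AddCommGroup V] [Module R V] [Module k V] [IsScalarTower k R V]
    (ι : Type x) (f : ι → Module.End R V)
    (hcomm : ∀ i j, Commute (f i) (f j))
    (hdiag : ∀ i, ⨆ μ : k, Module.End.eigenspace ((f i).restrictScalars k) μ = ⊤)
    (hfin : ∀ v : V, ∃ W : Submodule R V, v ∈ W ∧ W.FG ∧ ∀ i, ∀ w ∈ W, f i w ∈ W) :
    ⨆ χ : ι → k, ⨅ i, Module.End.eigenspace ((f i).restrictScalars k) (χ i) = ⊤ := by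
  rw [eq_top_iff]
  intro v _
  obtain ⟨W, hvW, hWfg, hWst⟩ := hfin v
  haveI : IsNoetherian R W := isNoetherian_of_fg_of_noetherian W hWfg
  haveI : IsScalarTower k R W := ⟨fun a r y => Subtype.ext (smul_assoc a r (y : V))⟩
  let g : ι → Module.End R W := fun i => (f i).restrict (hWst i)
  have hgcomm : ∀ i j, Commute (g i) (g j) := by
    intro i j
    show g i * g j = g j * g i
    refine LinearMap.ext fun y => Subtype.ext ?_
    exact LinearMap.congr_fun (hcomm i j).eq y.1
  have hgdiag : ∀ i, ⨆ μ : k, Module.End.eigenspace ((g i).restrictScalars k) μ = ⊤ := by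
    intro i
    rw [eq_top_iff]
    rintro ⟨y₀, hy₀⟩ _
    have h1 := R1 ((f i).restrictScalars k) (hdiag i) (W.restrictScalars k)
      (fun z hz => hWst i z hz) (x := y₀) hy₀
    have h2 : ∃ hy : y₀ ∈ W, (⟨y₀, hy⟩ : W) ∈
        ⨆ μ : k, Module.End.eigenspace ((g i).restrictScalars k) μ := by
      refine Submodule.iSup_induction _ (motive := fun y => ∃ hy : y ∈ W, (⟨y, hy⟩ : W) ∈
        ⨆ μ : k, Module.End.eigenspace ((g i).restrictScalars k) μ) h1 ?_ ?_ ?_
      · rintro μ y ⟨hyW, hyE⟩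
        refine ⟨hyW, Submodule.mem_iSup_of_mem μ ?_⟩
        rw [Module.End.mem_eigenspace_iff]
        apply Subtype.ext
        exact Module.End.mem_eigenspace_iff.mp hyE
      · exact ⟨W.zero_mem, zero_mem _⟩
      · rintro a b ⟨ha, ha'⟩ ⟨hb, hb'⟩
        exact ⟨W.add_mem ha hb, add_mem ha' hb'⟩
    obtain ⟨_, h3⟩ := h2
    exact h3
  have hT := main_lemma (k := k) g hgcomm hgdiag
  have hv : (⟨v, hvW⟩ : W) ∈ T (k := k) g := by rw [hT]; trivial
  have h4 : ∀ y : W, y ∈ T (k := k) g → (y : V) ∈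
      ⨆ χ : ι → k, ⨅ i, Module.End.eigenspace ((f i).restrictScalars k) (χ i) := by
    intro y hy
    refine Submodule.iSup_induction _ (motive := fun y : W => (y : V) ∈
      ⨆ χ : ι → k, ⨅ i, Module.End.eigenspace ((f i).restrictScalars k) (χ i)) hy ?_ ?_ ?_
    · intro χ z hz
      refine Submodule.mem_iSup_of_mem χ ?_
      rw [Submodule.mem_iInf] at hz ⊢
      intro i
      rw [Module.End.mem_eigenspace_iff]
      exact congrArg Subtype.val (Module.End.mem_eigenspace_iff.mp (hz i))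
    · exact zero_mem _
    · intro a b ha hb; exact add_mem ha hb
  exact h4 ⟨v, hvW⟩ hv

end Groth.Agent.Lib.SimDiag
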