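import Mathlib
import Groth.Agent.Lib.SimDiag_lead

set_option maxHeartbeats 400000

namespace Groth.Agent.Lib.Inv2Bound

open Groth.Agent.Lib

universe u v

theorem main (K : Type u) [Field K] (h2 : (2 : K) ≠ 0)
    (V : Type v) [AddCommGroup V] [Module K V] [FiniteDimensional K V]
    (G : Subgroup (V ≃ₗ[K] V)) [Finite G]
    (hfo : ∀ g ∈ G, ∀ d : ℕ, 0 < d → g ^ d = 1 → g ^ 2 = 1) :
    (∀ g ∈ G, ∀ h ∈ G, g * h = h * g) ∧ Nat.card G ≤ 2 ^ Module.finrank K V := by
  classical
  have hsq : ∀ g ∈ G, g ^ 2 = 1 := by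
    intro g hg
    refine hfo g hg (orderOf (⟨g, hg⟩ : G)) (orderOf_pos _) ?_
    exact congrArg Subtype.val (pow_orderOf_eq_one (⟨g, hg⟩ : G))
  have hcomm : ∀ g ∈ G, ∀ h ∈ G, g * h = h * g := by
    intro g hg h hh
    have hg2 : g * g = 1 := by rw [← sq]; exact hsq g hg
    have hh2 : h * h = 1 := by rw [← sq]; exact hsq h hh
    have hgh2 : (g * h) * (g * h) = 1 := by rw [← sq]; exact hsq _ (G.mul_mem hg hh)
    have ig : g⁻¹ = g := inv_eq_of_mul_eq_one_left hg2
    have ih : h⁻¹ = h := inv_eq_of_mul_eq_one_left hh2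
    have igh : (g * h)⁻¹ = g * h := inv_eq_of_mul_eq_one_left hgh2
    rw [mul_inv_rev, ig, ih] at igh
    exact igh.symm
  refine ⟨hcomm, ?_⟩
  let f : G → Module.End K V := fun g => ((g : V ≃ₗ[K] V) : V →ₗ[K] V)
  have hfapp : ∀ (g : G) (x : V), f g x = (g : V ≃ₗ[K] V) x := fun g x => rfl
  have hinv : ∀ (g : G) (x : V), (g : V ≃ₗ[K] V) ((g : V ≃ₗ[K] V) x) = x := by
    intro g x
    have := LinearEquiv.congr_fun (hsq g.1 g.2) x
    rw [sq] at this
    exact this
  have hfcomm : ∀ g h : G, Commute (f g) (f h) := by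
    intro g h
    show f g * f h = f h * f g
    refine LinearMap.ext fun x => ?_
    exact LinearEquiv.congr_fun (hcomm g.1 g.2 h.1 h.2) x
  have hfdiag : ∀ g : G, ⨆ μ : K, Module.End.eigenspace ((f g).restrictScalars K) μ = ⊤ := by
    intro g
    rw [eq_top_iff]
    intro x _
    have ha : (2:K)⁻¹ • (x + (g : V ≃ₗ[K] V) x) ∈
        Module.End.eigenspace ((f g).restrictScalars K) 1 := by
      rw [SimDiag.mem_E (k := K) f, hfapp, map_smul, map_add, hinv, one_smul, add_comm]
    have hb : (2:K)⁻¹ • (x - (g : V ≃ₗ[K] V) x) ∈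
        Module.End.eigenspace ((f g).restrictScalars K) (-1) := by
      rw [SimDiag.mem_E (k := K) f, hfapp, map_smul, map_sub, hinv, neg_one_smul, ← smul_neg,
        neg_sub]
    have hx : x = (2:K)⁻¹ • (x + (g : V ≃ₗ[K] V) x) + (2:K)⁻¹ • (x - (g : V ≃ₗ[K] V) x) := by
      rw [← smul_add, add_add_sub_cancel, ← two_smul K x, smul_smul, inv_mul_cancel₀ h2, one_smul]
    rw [hx]
    exact add_mem (Submodule.mem_iSup_of_mem 1 ha) (Submodule.mem_iSup_of_mem (-1) hb)
  have hT := SimDiag.main_lemma (k := K) f hfcomm hfdiag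
  let U : (G → K) → Submodule K V := fun χ =>
    ⨅ g : G, Module.End.eigenspace ((f g).restrictScalars K) (χ g)
  have hUtop : ⨆ χ, U χ = ⊤ := hT
  have hUmem : ∀ χ x, x ∈ U χ → ∀ g : G, (g : V ≃ₗ[K] V) x = χ g • x := by
    intro χ x hx g
    have := (Submodule.mem_iInf _).mp hx g
    exact (SimDiag.mem_E (k := K) f).mp this
  have hFcomm : ∀ g h : G, Commute ((f g).restrictScalars K) ((f h).restrictScalars K) := by
    intro g h
    show _ * _ = _ * _
    refine LinearMap.ext fun x => ?_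
    exact LinearEquiv.congr_fun (hcomm g.1 g.2 h.1 h.2) x
  have hind : iSupIndep U := by
    have h0 := Module.End.independent_iInf_maxGenEigenspace_of_forall_mapsTo (R := K) (M := V)
      (fun g : G => (f g).restrictScalars K)
      (fun i j φ => Module.End.mapsTo_maxGenEigenspace_of_comm (hFcomm j i) φ)
    exact h0.mono (fun χ => iInf_mono fun g => Module.End.eigenspace_le_maxGenEigenspace)
  letI : Fintype {χ // U χ ≠ ⊥} := hind.fintypeNeBotOfFiniteDimensional
  have hcard : Fintype.card {χ // U χ ≠ ⊥} ≤ Module.finrank K V :=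
    hind.subtype_ne_bot_le_finrank
  have hpm : ∀ χ : {χ // U χ ≠ ⊥}, ∀ g : G, χ.1 g = 1 ∨ χ.1 g = -1 := by
    intro χ g
    obtain ⟨x, hxU, hx0⟩ := Submodule.exists_mem_ne_zero_of_ne_bot χ.2
    have h1 := hUmem χ.1 x hxU g
    have h3 : (χ.1 g * χ.1 g) • x = x := by
      have h2' := hinv g x
      rw [h1, map_smul, h1, smul_smul] at h2'
      exact h2'
    have h4 : (χ.1 g * χ.1 g - 1) • x = 0 := by rw [sub_smul, h3, one_smul, sub_self]
    have h5 : χ.1 g * χ.1 g - 1 = 0 := by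
      rcases smul_eq_zero.mp h4 with h | h
      · exact h
      · exact absurd h hx0
    have h6 : (χ.1 g - 1) * (χ.1 g + 1) = 0 := by rw [← h5]; ring
    rcases mul_eq_zero.mp h6 with h | h
    · left; exact sub_eq_zero.mp h
    · right; exact eq_neg_of_add_eq_zero_left h
  let Φ : G → ({χ // U χ ≠ ⊥} → Bool) := fun g χ => decide (χ.1 g = 1)
  have hΦ : Function.Injective Φ := by
    intro a b hab
    have hχ : ∀ χ : {χ // U χ ≠ ⊥}, χ.1 a = χ.1 b := by
      intro χ
      have h0 : decide (χ.1 a = 1) = decide (χ.1 b = 1) := congrFun hab χ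
      have hiff : χ.1 a = 1 ↔ χ.1 b = 1 := decide_eq_decide.mp h0
      rcases hpm χ a with h1 | h1
      · rw [h1, hiff.mp h1]
      · rcases hpm χ b with h1' | h1'
        · have e : (1:K) = -1 := (hiff.mpr h1').symm.trans h1
          exact absurd (by linear_combination e : (2:K) = 0) h2
        · rw [h1, h1']
    apply Subtype.ext
    apply LinearEquiv.ext
    intro x
    have hx : x ∈ ⨆ χ, U χ := by rw [hUtop]; trivial
    refine Submodule.iSup_induction _
      (motive := fun z => (a : V ≃ₗ[K] V) z = (b : V ≃ₗ[K] V) z) hx ?_ (by simp) ?_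
    · intro χ z hz
      by_cases hne : U χ = ⊥
      · rw [hne, Submodule.mem_bot] at hz
        rw [hz]; simp
      · rw [hUmem χ z hz a, hUmem χ z hz b, show χ a = χ b from hχ ⟨χ, hne⟩]
    · intro y z hy hz
      show (a : V ≃ₗ[K] V) (y + z) = (b : V ≃ₗ[K] V) (y + z)
      rw [map_add, map_add, hy, hz]
  calc Nat.card G ≤ Nat.card ({χ // U χ ≠ ⊥} → Bool) := Nat.card_le_card_of_injective Φ hΦ
    _ = 2 ^ Fintype.card {χ // U χ ≠ ⊥} := by
        rw [Nat.card_fun, Nat.card_eq_fintype_card, Nat.card_eq_fintype_card, Fintype.card_bool]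
    _ ≤ 2 ^ Module.finrank K V := Nat.pow_le_pow_right (by norm_num) hcard

end Groth.Agent.Lib.Inv2Bound
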