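import Mathlib
import Groth.Prelude.Def_CAlg
import Groth.Agent.Lib.CM_helper5
import Groth.Agent.Lib.CMLiftSOP_helper3
import Groth.Agent.Lib.FiniteRegFree_helper3

/-!
# Length of `A ⧸ (norms)` is at least `|G|^n` for weakly admissible parameters (helper3)

In a Cohen–Macaulay local ring, a system of parameters is a regular sequence in any order, so
`length A/(J + ab) = length A/(J + a) + length A/(J + b)` along the way.
-/

set_option autoImplicit false
universe u v

namespace Groth.Agent.Lib.NormLenGEH3

open IsLocalRing RingTheory.Sequence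

section Exact

variable {A : Type*} [CommRing A]

/-- `length A/(J + ab) = length A/(J + a) + length A/(J + b)` if `a` is regular modulo `J`. -/
theorem length_quot_mul_eq (J : Ideal A) (a b : A) (hreg : ∀ x, a * x ∈ J → x ∈ J) :
    Module.length A (A ⧸ (J ⊔ Ideal.span {a * b})) =
      Module.length A (A ⧸ (J ⊔ Ideal.span {b})) +
        Module.length A (A ⧸ (J ⊔ Ideal.span {a})) := by
  have h12 : J ⊔ Ideal.span {a * b} ≤ J ⊔ Ideal.span {a} :=
    sup_le le_sup_left ((Ideal.span_singleton_le_iff_mem _).2
      (Ideal.mul_mem_right _ _ (Ideal.mem_sup_right (Ideal.mem_span_singleton_self a))))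
  have hφ : J ⊔ Ideal.span {b} ≤
      LinearMap.ker ((Submodule.mkQ (J ⊔ Ideal.span {a * b})).comp (LinearMap.mulLeft A a)) := by
    intro x hx
    rw [LinearMap.mem_ker, LinearMap.comp_apply, Submodule.mkQ_apply,
      Submodule.Quotient.mk_eq_zero, LinearMap.mulLeft_apply]
    obtain ⟨j, hj, y, hy, rfl⟩ := Submodule.mem_sup.1 hx
    obtain ⟨c, rfl⟩ := Ideal.mem_span_singleton'.1 hy
    rw [mul_add]
    exact add_mem (Ideal.mem_sup_left (Ideal.mul_mem_left _ _ hj))
      (Ideal.mem_sup_right (Ideal.mem_span_singleton'.2 ⟨c, by ring⟩))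
  let φ : (A ⧸ (J ⊔ Ideal.span {b})) →ₗ[A] (A ⧸ (J ⊔ Ideal.span {a * b})) :=
    Submodule.liftQ (J ⊔ Ideal.span {b})
      ((Submodule.mkQ (J ⊔ Ideal.span {a * b})).comp (LinearMap.mulLeft A a)) hφ
  have hφmk : ∀ c : A, φ (Submodule.Quotient.mk c) = Submodule.Quotient.mk (a * c) := fun c => rfl
  let g : (A ⧸ (J ⊔ Ideal.span {a * b})) →ₗ[A] (A ⧸ (J ⊔ Ideal.span {a})) :=
    Submodule.mapQ (J ⊔ Ideal.span {a * b}) (J ⊔ Ideal.span {a}) LinearMap.id
      (by rw [Submodule.comap_id]; exact h12)
  have hgmk : ∀ c : A, g (Submodule.Quotient.mk c) = Submodule.Quotient.mk c := fun c => rfl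
  have hinj : Function.Injective φ := by
    rw [injective_iff_map_eq_zero]
    intro y hy
    obtain ⟨c, rfl⟩ := Submodule.Quotient.mk_surjective _ y
    rw [hφmk, Submodule.Quotient.mk_eq_zero] at hy
    rw [Submodule.Quotient.mk_eq_zero]
    obtain ⟨j, hj, y, hy', hsum⟩ := Submodule.mem_sup.1 hy
    obtain ⟨d, rfl⟩ := Ideal.mem_span_singleton'.1 hy'
    -- a * c = j + d * (a * b), so a * (c - d * b) ∈ J
    have h1 : a * (c - d * b) ∈ J := by
      have : a * (c - d * b) = j := by
        have h2 : a * c = j + d * (a * b) := hsum.symm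
        calc a * (c - d * b) = a * c - d * (a * b) := by ring
          _ = j := by rw [h2]; ring
      rw [this]
      exact hj
    have h2 := hreg _ h1
    have : c = (c - d * b) + d * b := by ring
    rw [this]
    exact add_mem (Ideal.mem_sup_left h2)
      (Ideal.mem_sup_right (Ideal.mem_span_singleton'.2 ⟨d, rfl⟩))
  have hsurj : Function.Surjective g := by
    intro y
    obtain ⟨c, rfl⟩ := Submodule.Quotient.mk_surjective _ y
    exact ⟨Submodule.Quotient.mk c, hgmk c⟩
  have hex : Function.Exact φ g := by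
    intro y
    obtain ⟨x, rfl⟩ := Submodule.Quotient.mk_surjective _ y
    rw [hgmk, Submodule.Quotient.mk_eq_zero]
    constructor
    · intro hx
      obtain ⟨j, hj, y, hy, rfl⟩ := Submodule.mem_sup.1 hx
      obtain ⟨c, rfl⟩ := Ideal.mem_span_singleton'.1 hy
      refine ⟨Submodule.Quotient.mk c, ?_⟩
      rw [hφmk, Submodule.Quotient.eq]
      have : a * c - (j + c * a) = -j := by ring
      rw [this]
      exact neg_mem (Ideal.mem_sup_left hj)
    · rintro ⟨z, hz⟩
      obtain ⟨c, rfl⟩ := Submodule.Quotient.mk_surjective _ z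
      rw [hφmk, Submodule.Quotient.eq] at hz
      have h1 : a * c - x ∈ J ⊔ Ideal.span {a} := h12 hz
      have h2 : a * c ∈ J ⊔ Ideal.span {a} :=
        Ideal.mem_sup_right (Ideal.mem_span_singleton'.2 ⟨c, mul_comm _ _⟩)
      have : x = a * c - (a * c - x) := by ring
      rw [this]
      exact sub_mem h2 h1
  exact Module.length_eq_add_of_exact φ g hinj hsurj hex

/-- product version -/
theorem length_quot_prod_eq {κ : Type*} (J : Ideal A) (f : κ → A) (S : Finset κ)
    (hreg : ∀ σ ∈ S, ∀ x, f σ * x ∈ J → x ∈ J) :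
    Module.length A (A ⧸ (J ⊔ Ideal.span {∏ σ ∈ S, f σ})) =
      ∑ σ ∈ S, Module.length A (A ⧸ (J ⊔ Ideal.span {f σ})) := by
  classical
  induction S using Finset.induction_on with
  | empty =>
    have htop : J ⊔ Ideal.span {∏ σ ∈ (∅ : Finset κ), f σ} = ⊤ := by
      rw [Finset.prod_empty, Ideal.span_singleton_one, sup_top_eq]
    have hs : Subsingleton (A ⧸ (J ⊔ Ideal.span {∏ σ ∈ (∅ : Finset κ), f σ})) :=
      Submodule.Quotient.subsingleton_iff.2 htop
    rw [Finset.sum_empty, Module.length_eq_zero_iff]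
    exact hs
  | insert a S ha ih =>
    rw [Finset.prod_insert ha, Finset.sum_insert ha,
      length_quot_mul_eq J (f a) _ (hreg a (Finset.mem_insert_self _ _)),
      ih (fun σ hσ => hreg σ (Finset.mem_insert_of_mem hσ)), add_comm]

theorem span_range_update {ι : Type*} [DecidableEq ι] (h : ι → A) (i₀ : ι) (x : A) :
    Ideal.span (Set.range (Function.update h i₀ x)) =
      Ideal.span (h '' {i₀}ᶜ) ⊔ Ideal.span {x} := by
  rw [← Ideal.span_union]
  congr 1
  ext y
  constructor
  · rintro ⟨i, rfl⟩
    by_cases hi : i = i₀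
    · subst hi
      right
      simp
    · left
      exact ⟨i, hi, by rw [Function.update_of_ne hi]⟩
  · rintro (⟨i, hi, rfl⟩ | rfl)
    · exact ⟨i, by rw [Function.update_of_ne hi]⟩
    · exact ⟨i₀, by simp⟩

theorem image_update_compl {ι : Type*} [DecidableEq ι] (h : ι → A) (i₀ : ι) (x : A) :
    (Function.update h i₀ x) '' {i₀}ᶜ = h '' {i₀}ᶜ := by
  ext y
  constructor
  · rintro ⟨i, hi, rfl⟩
    exact ⟨i, hi, by rw [Function.update_of_ne hi]⟩
  · rintro ⟨i, hi, rfl⟩
    exact ⟨i, hi, by rw [Function.update_of_ne hi]⟩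

/-- mixed families: each coordinate is the full product or a single factor -/
def Mixed {ι κ : Type*} [Fintype κ] (f : ι → κ → A) (h : ι → A) : Prop :=
  ∀ i, h i = ∏ σ, f i σ ∨ ∃ σ, h i = f i σ

/-- Multi-coordinate lower bound. -/
theorem length_ge_aux {ι κ : Type*} [Fintype κ] [DecidableEq ι] (f : ι → κ → A) (c : ℕ∞)
    (hreg : ∀ h : ι → A, Mixed f h → ∀ (i₀ : ι) (σ : κ) (x : A),
      f i₀ σ * x ∈ Ideal.span (h '' {i₀}ᶜ) → x ∈ Ideal.span (h '' {i₀}ᶜ))
    (T : Finset ι) :
    ∀ h : ι → A, Mixed f h → (∀ i ∈ T, h i = ∏ σ, f i σ) →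
      (∀ h' : ι → A, Mixed f h' → (∀ i ∈ T, ∃ σ, h' i = f i σ) → (∀ i, i ∉ T → h' i = h i) →
        c ≤ Module.length A (A ⧸ Ideal.span (Set.range h'))) →
      (Fintype.card κ) ^ T.card * c ≤ Module.length A (A ⧸ Ideal.span (Set.range h)) := by
  induction T using Finset.induction_on with
  | empty =>
    intro h hm _ H
    simpa using H h hm (by simp) (by simp)
  | insert i₀ T hi₀ ih =>
    intro h hm hP H
    have hspan : Ideal.span (Set.range h) =
        Ideal.span (h '' {i₀}ᶜ) ⊔ Ideal.span {∏ σ, f i₀ σ} := by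
      rw [← span_range_update h i₀, ← hP i₀ (Finset.mem_insert_self _ _),
        Function.update_eq_self]
    rw [hspan, length_quot_prod_eq _ (f i₀) Finset.univ (fun σ _ => hreg h hm i₀ σ)]
    have key : ∀ σ ∈ (Finset.univ : Finset κ), (Fintype.card κ) ^ T.card * c ≤
        Module.length A (A ⧸ (Ideal.span (h '' {i₀}ᶜ) ⊔ Ideal.span {f i₀ σ})) := by
      intro σ _
      rw [← span_range_update h i₀]
      apply ih
      · intro i
        by_cases hi : i = i₀
        · subst hi
          right
          exact ⟨σ, by rw [Function.update_self]⟩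
        · rw [Function.update_of_ne hi]
          exact hm i
      · intro i hi
        have hne : i ≠ i₀ := fun e => hi₀ (e ▸ hi)
        rw [Function.update_of_ne hne]
        exact hP i (Finset.mem_insert_of_mem hi)
      · intro h' hm' h1 h2
        apply H h' hm'
        · intro i hi
          rcases Finset.mem_insert.1 hi with rfl | hi
          · exact ⟨σ, by rw [h2 _ hi₀, Function.update_self]⟩
          · exact h1 i hi
        · intro i hi
          have hne : i ≠ i₀ := fun e => hi (e ▸ Finset.mem_insert_self _ _)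
          have hnT : i ∉ T := fun e => hi (Finset.mem_insert_of_mem e)
          rw [h2 i hnT, Function.update_of_ne hne]
    refine le_trans ?_ (Finset.sum_le_sum key)
    rw [Finset.sum_const, Finset.card_univ, Finset.card_insert_of_notMem hi₀, pow_succ,
      nsmul_eq_mul]
    exact le_of_eq (by ring)

/-- all mixed ideals are primary to a prime-avoiding ideal `m` -/
theorem mixed_radical {ι κ : Type*} [Fintype κ] [DecidableEq ι] [Finite ι] (f : ι → κ → A)
    (m : Ideal A)
    (hpure : ∀ τ : ι → κ, m ≤ (Ideal.span (Set.range fun i => f i (τ i))).radical)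
    (T : Finset ι) :
    ∀ h : ι → A, (∀ i ∈ T, h i = ∏ σ, f i σ) → (∀ i, i ∉ T → ∃ σ, h i = f i σ) →
      m ≤ (Ideal.span (Set.range h)).radical := by
  induction T using Finset.induction_on with
  | empty =>
    intro h _ h2
    choose τ hτ using fun i => h2 i (Finset.notMem_empty i)
    have : h = fun i => f i (τ i) := funext hτ
    rw [this]
    exact hpure τ
  | insert i₀ T hi₀ ih =>
    intro h h1 h2
    rw [Ideal.radical_eq_sInf]
    refine le_sInf ?_
    rintro P ⟨hP, hPprime⟩
    have hmem : ∏ σ, f i₀ σ ∈ P := by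
      rw [← h1 i₀ (Finset.mem_insert_self _ _)]
      exact hP (Ideal.subset_span ⟨i₀, rfl⟩)
    obtain ⟨σ, -, hσ⟩ := (hPprime.prod_mem_iff).1 hmem
    have hle : Ideal.span (Set.range (Function.update h i₀ (f i₀ σ))) ≤ P := by
      rw [Ideal.span_le]
      rintro _ ⟨i, rfl⟩
      by_cases hi : i = i₀
      · subst hi
        rw [Function.update_self]
        exact hσ
      · rw [Function.update_of_ne hi]
        exact hP (Ideal.subset_span ⟨i, rfl⟩)
    have hih := ih (Function.update h i₀ (f i₀ σ)) ?_ ?_
    · exact hih.trans (hPprime.radical_le_iff.2 hle)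
    · intro i hi
      have hne : i ≠ i₀ := fun e => hi₀ (e ▸ hi)
      rw [Function.update_of_ne hne]
      exact h1 i (Finset.mem_insert_of_mem hi)
    · intro i hi
      by_cases hii : i = i₀
      · subst hii
        exact ⟨σ, by rw [Function.update_self]⟩
      · rw [Function.update_of_ne hii]
        exact h2 i (fun e => (Finset.mem_insert.1 e).elim hii hi)

end Exact

section CM

variable {R : Type u} [CommRing R]

theorem ringKrullDim_quot_eq_zero_of_primary [IsLocalRing R] (I : Ideal R) (hI : I ≠ ⊤)
    (h : maximalIdeal R ≤ I.radical) : ringKrullDim (R ⧸ I) = 0 := by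
  haveI : Nontrivial (R ⧸ I) := Ideal.Quotient.nontrivial_iff.2 hI
  have : Ring.KrullDimLE 0 (R ⧸ I) := Ring.krullDimLE_zero_iff.mpr fun J prime => by
    refine Ideal.isMaximal_of_isIntegral_of_isMaximal_comap (R := R) _ ?_
    have hc := prime.comap (Ideal.Quotient.mk I)
    have hIle : I ≤ J.comap (Ideal.Quotient.mk I) := by
      intro x hx
      rw [Ideal.mem_comap, Ideal.Quotient.eq_zero_iff_mem.2 hx]
      exact J.zero_mem
    have hm : maximalIdeal R ≤ J.comap (Ideal.Quotient.mk I) :=
      h.trans (hc.radical_le_iff.2 hIle)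
    have : J.comap (Ideal.Quotient.mk I) = maximalIdeal R :=
      le_antisymm (le_maximalIdeal hc.ne_top) hm
    show (J.comap (algebraMap R (R ⧸ I))).IsMaximal
    rw [show algebraMap R (R ⧸ I) = Ideal.Quotient.mk I from rfl, this]
    exact maximalIdeal.isMaximal R
  exact ringKrullDimZero_iff_ringKrullDim_eq_zero.1 this

/-- In a CM local ring, each member of a system of parameters is regular modulo the others. -/
theorem regular_mod_others [LocCoh.IsCohenMacaulayLocalRing R] (s : ℕ)
    (hs : ringKrullDim R = s) (t : Fin s → R) (ht : ∀ i, t i ∈ maximalIdeal R)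
    (hprim : maximalIdeal R ≤ (Ideal.span (Set.range t)).radical) (i₀ : Fin s) (x : R)
    (hx : t i₀ * x ∈ Ideal.span (t '' {i₀}ᶜ)) : x ∈ Ideal.span (t '' {i₀}ᶜ) := by
  obtain ⟨k, rfl⟩ : ∃ k, s = k + 1 := ⟨s - 1, by have := i₀.2; omega⟩
  let e : Fin (k + 1) ≃ Fin (k + 1) := Equiv.swap i₀ (Fin.last k)
  let t' : Fin (k + 1) → R := t ∘ e
  have hrange : Set.range t' = Set.range t := e.surjective.range_comp t
  have hCM : LocCoh.IsCohenMacaulayModule R R :=
    LocCoh.IsCohenMacaulayLocalRing.supportDim_eq_depth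
  have hmem : ∀ y ∈ List.ofFn t', y ∈ maximalIdeal R := by
    intro y hy
    rw [List.mem_ofFn'] at hy
    obtain ⟨j, rfl⟩ := hy
    exact ht _
  have hsm : ∀ I : Ideal R, (I • (⊤ : Submodule R R)) = I := fun I => by
    show I • (⊤ : Ideal R) = I
    rw [smul_eq_mul, Ideal.mul_top]
  have hne : Ideal.span (Set.range t) ≠ ⊤ := by
    intro htop
    have : Ideal.span (Set.range t) ≤ maximalIdeal R := by
      rw [Ideal.span_le]
      rintro _ ⟨i, rfl⟩
      exact ht i
    rw [htop] at this
    exact (maximalIdeal.isMaximal R).ne_top (top_le_iff.1 this)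
  have hsop : ringKrullDim (R ⧸ Ideal.span (Set.range t')) = 0 := by
    rw [hrange]
    exact ringKrullDim_quot_eq_zero_of_primary _ hne hprim
  have hreg : IsWeaklyRegular R (List.ofFn t') := by
    rw [(Groth.Agent.DepthLib.isCM_list (List.ofFn t') R hCM hmem).1]
    rw [hsm, Module.supportDim_quotient_eq_ringKrullDim, Module.supportDim_self_eq_ringKrullDim,
      Groth.Agent.Lib.SemiLocalSOPH3.ofList_ofFn, hsop, hs, List.length_ofFn]
    simp
  have h1 := hreg.regular_mod_prev k (by simp)
  rw [hsm, Groth.Agent.Lib.CMLiftSOPH3.ofList_take_ofFn] at h1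
  have h2 : (List.ofFn t')[k]'(by simp) = t i₀ := by
    simp only [List.getElem_ofFn]
    show t (e ⟨k, _⟩) = t i₀
    have : (⟨k, by omega⟩ : Fin (k + 1)) = Fin.last k := rfl
    rw [this, Equiv.swap_apply_right]
  rw [h2] at h1
  have himg : t' '' {j : Fin (k + 1) | j.val < k} = t '' {i₀}ᶜ := by
    ext y
    constructor
    · rintro ⟨j, hj, rfl⟩
      refine ⟨e j, ?_, rfl⟩
      intro hej
      have hej' : e j = i₀ := hej
      have : j = Fin.last k := by
        have := congrArg e.symm hej'
        rw [Equiv.symm_apply_apply] at this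
        rw [this]
        show (Equiv.swap i₀ (Fin.last k)).symm i₀ = Fin.last k
        rw [Equiv.symm_swap, Equiv.swap_apply_left]
      rw [this] at hj
      simp at hj
    · rintro ⟨i, hi, rfl⟩
      refine ⟨e.symm i, ?_, ?_⟩
      · show (e.symm i).val < k
        by_contra hge
        have hlast : e.symm i = Fin.last k := by
          apply Fin.ext
          have := (e.symm i).2
          simp only [Fin.val_last]
          omega
        have : i = i₀ := by
          have := congrArg e hlast
          rw [Equiv.apply_symm_apply] at this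
          rw [this]
          show Equiv.swap i₀ (Fin.last k) (Fin.last k) = i₀
          rw [Equiv.swap_apply_right]
        exact hi this
      · show t (e (e.symm i)) = t i
        rw [Equiv.apply_symm_apply]
  rw [himg] at h1
  have h3 : t i₀ • (Submodule.Quotient.mk x : R ⧸ Ideal.span (t '' {i₀}ᶜ)) =
      t i₀ • (0 : R ⧸ Ideal.span (t '' {i₀}ᶜ)) := by
    rw [smul_zero, ← Submodule.Quotient.mk_smul, Submodule.Quotient.mk_eq_zero, smul_eq_mul]
    exact hx
  have h4 := h1 h3
  rwa [Submodule.Quotient.mk_eq_zero] at h4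

end CM

/-- the norm bound, lower direction -/
theorem length_quot_norms_ge (A : Type u) [CommRing A] [IsRegularLocalRing A]
    (G : Type v) [Group G] [Fintype G] [MulSemiringAction G A]
    (n : ℕ) (hn : ringKrullDim A = n) (u : Fin n → A)
    (hu : Ideal.span (Set.range u) = maximalIdeal A)
    (hwa : ∀ τ : Fin n → G,
      maximalIdeal A ≤ (Ideal.span (Set.range fun i => τ i • u i)).radical) :
    ((Fintype.card G ^ n : ℕ) : ℕ∞) ≤
      Module.length A (A ⧸ Ideal.span (Set.range fun i => ∏ σ : G, σ • u i)) := by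
  classical
  haveI : LocCoh.IsCohenMacaulayLocalRing A :=
    Groth.Agent.Lib.FiniteRegFreeH3.isCMLocalRing_of_regular A
  let f : Fin n → G → A := fun i σ => σ • u i
  have hum : ∀ i, u i ∈ maximalIdeal A := fun i => by
    rw [← hu]; exact Ideal.subset_span ⟨i, rfl⟩
  have hfm : ∀ i σ, f i σ ∈ maximalIdeal A := by
    intro i σ
    rw [mem_maximalIdeal, mem_nonunits_iff]
    intro hunit
    have h1 : IsUnit (u i) := by
      have := hunit.map (MulSemiringAction.toRingHom G A σ⁻¹)
      simpa [f] using this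
    exact (mem_nonunits_iff.1 ((mem_maximalIdeal _).1 (hum i))) h1
  have hmixm : ∀ h : Fin n → A, Mixed f h → ∀ i, h i ∈ maximalIdeal A := by
    intro h hm i
    rcases hm i with h1 | ⟨σ, h1⟩
    · rw [h1, ← Finset.prod_erase_mul _ _ (Finset.mem_univ (1 : G))]
      exact Ideal.mul_mem_left _ _ (hfm i 1)
    · rw [h1]; exact hfm i σ
  have hmixrad : ∀ h : Fin n → A, Mixed f h →
      maximalIdeal A ≤ (Ideal.span (Set.range h)).radical := by
    intro h hm
    let T : Finset (Fin n) := Finset.univ.filter (fun i => h i = ∏ σ, f i σ)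
    refine mixed_radical f (maximalIdeal A) hwa T h ?_ ?_
    · intro i hi
      exact (Finset.mem_filter.1 hi).2
    · intro i hi
      rcases hm i with h1 | h1
      · exact absurd (show i ∈ T from Finset.mem_filter.2 ⟨Finset.mem_univ i, h1⟩) hi
      · exact h1
  have hreg : ∀ h : Fin n → A, Mixed f h → ∀ (i₀ : Fin n) (σ : G) (x : A),
      f i₀ σ * x ∈ Ideal.span (h '' {i₀}ᶜ) → x ∈ Ideal.span (h '' {i₀}ᶜ) := by
    intro h hm i₀ σ x hx
    let h' := Function.update h i₀ (f i₀ σ)
    have hm' : Mixed f h' := by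
      intro i
      by_cases hi : i = i₀
      · subst hi
        right
        exact ⟨σ, by simp [h']⟩
      · simp only [h', Function.update_of_ne hi]
        exact hm i
    have := regular_mod_others n hn h' (hmixm h' hm') (hmixrad h' hm') i₀ x
    rw [image_update_compl] at this
    apply this
    simp only [h', Function.update_self]
    exact hx
  have key := length_ge_aux (A := A) f 1 hreg Finset.univ
    (fun i => ∏ σ : G, σ • u i) (fun i => Or.inl rfl) (fun i _ => rfl) ?_
  · simpa using key
  · intro h' hm' _ _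
    have hne : Ideal.span (Set.range h') ≠ ⊤ := by
      intro htop
      have : Ideal.span (Set.range h') ≤ maximalIdeal A := by
        rw [Ideal.span_le]
        rintro _ ⟨i, rfl⟩
        exact hmixm h' hm' i
      rw [htop] at this
      exact (maximalIdeal.isMaximal A).ne_top (top_le_iff.1 this)
    haveI : Nontrivial (A ⧸ Ideal.span (Set.range h')) := Ideal.Quotient.nontrivial_iff.2 hne
    exact Order.one_le_iff_pos.2 (Module.length_pos)
  
end Groth.Agent.Lib.NormLenGEH3
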