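import Mathlib
import Groth.Agent.Lib.RegPS_helper3
import Groth.Agent.Lib.LenCompare_helper3
import Groth.Agent.Lib.FiniteRegFree_helper3
import Groth.Agent.Lib.CompleteNoeth_lead
import Groth.Agent.Lib.NormLenGE_helper3
import Groth.Agent.Lib.IntegralHeight_helper5

/-!
# A complete regular local ring is finite free over the power series ring on a system of
parameters (helper3)
-/

set_option autoImplicit false
universe u v

namespace Groth.Agent.Lib.PSFiniteFreeH3

open IsLocalRing MvPowerSeries

section Basic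

variable {k : Type v} [Field k] {n : ℕ}

/-- the maximal ideal of `k[[X]]` is generated by the variables -/
lemma maximalIdeal_eq_span :
    maximalIdeal (MvPowerSeries (Fin n) k) =
      Ideal.span (Set.range (X : Fin n → MvPowerSeries (Fin n) k)) := by
  rw [Groth.Agent.Lib.RegPSH3.maximalIdeal_eq, IsLocalRing.maximalIdeal_eq_bot, Ideal.map_bot,
    bot_sup_eq]

lemma map_maximalIdeal {A : Type u} [CommRing A] (φ : MvPowerSeries (Fin n) k →+* A) :
    (maximalIdeal (MvPowerSeries (Fin n) k)).map φ =
      Ideal.span (Set.range fun i => φ (X i)) := by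
  rw [maximalIdeal_eq_span, Ideal.map_span, ← Set.range_comp]
  rfl

instance : IsAdicComplete (maximalIdeal (MvPowerSeries (Fin n) k)) (MvPowerSeries (Fin n) k) := by
  haveI : IsAdicComplete (maximalIdeal k) k := by
    rw [IsLocalRing.maximalIdeal_eq_bot]
    infer_instance
  exact Groth.Agent.Lib.PSCompleteH1.isAdicComplete_maximalIdeal

end Basic

/-- Main theorem: finiteness, freeness, injectivity and rank. -/
theorem finite_free (A : Type u) [CommRing A] [IsRegularLocalRing A]
    [IsAdicComplete (maximalIdeal A) A] (n : ℕ) (hn : ringKrullDim A = n)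
    (k : Type v) [Field k] [Algebra k A]
    (hk : Function.Surjective (residue A ∘ algebraMap k A))
    (φ : MvPowerSeries (Fin n) k →ₐ[k] A)
    (hx : (Ideal.span (Set.range fun i => φ (X i))).radical = maximalIdeal A) :
    letI := φ.toRingHom.toAlgebra
    Module.Finite (MvPowerSeries (Fin n) k) A ∧ Module.Free (MvPowerSeries (Fin n) k) A ∧
      Function.Injective φ ∧
      (Module.finrank (MvPowerSeries (Fin n) k) A : ℕ∞) =
        Module.length A (A ⧸ Ideal.span (Set.range fun i => φ (X i))) := by
  classical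
  letI algPA : Algebra (MvPowerSeries (Fin n) k) A := φ.toRingHom.toAlgebra
  have hmapdef : ∀ r : MvPowerSeries (Fin n) k, algebraMap (MvPowerSeries (Fin n) k) A r = φ r :=
    fun _ => rfl
  set I : Ideal A := Ideal.span (Set.range fun i => φ (X i)) with hIdef
  have h1 : (maximalIdeal (MvPowerSeries (Fin n) k)).map
      (algebraMap (MvPowerSeries (Fin n) k) A) = I :=
    map_maximalIdeal (φ : MvPowerSeries (Fin n) k →+* A)
  have hIle : I ≤ maximalIdeal A := hx ▸ Ideal.le_radical
  have hIne : I ≠ ⊤ := fun h => (maximalIdeal.isMaximal A).ne_top (top_le_iff.1 (h ▸ hIle))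
  haveI : IsHausdorff (maximalIdeal (MvPowerSeries (Fin n) k)) A :=
    IsHausdorff.of_map (I := maximalIdeal (MvPowerSeries (Fin n) k)) (J := maximalIdeal A)
      (h1 ▸ hIle)
  -- residue surjectivity in the form needed
  have hres : ∀ a : A, ∃ r : MvPowerSeries (Fin n) k,
      a - algebraMap (MvPowerSeries (Fin n) k) A r ∈ maximalIdeal A := by
    intro a
    obtain ⟨c, hc⟩ := hk (residue A a)
    refine ⟨C c, ?_⟩
    have h2 : φ (C c) = algebraMap k A c := by
      have := φ.commutes c
      rwa [MvPowerSeries.algebraMap_apply, Algebra.algebraMap_self, RingHom.id_apply] at this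
    rw [hmapdef, h2, ← Ideal.Quotient.eq_zero_iff_mem, map_sub, sub_eq_zero]
    exact hc.symm
  -- `A / I` has finite length
  have hdim0 : ringKrullDim (A ⧸ I) = 0 :=
    Groth.Agent.Lib.NormLenGEH3.ringKrullDim_quot_eq_zero_of_primary I hIne hx.ge
  haveI : Ring.KrullDimLE 0 (A ⧸ I) := (Ring.krullDimLE_iff).2 hdim0.le
  haveI : IsArtinianRing (A ⧸ I) := isArtinianRing_iff_krullDimLE_zero.2 inferInstance
  haveI : IsArtinian A (A ⧸ I) :=
    isArtinian_of_surjective_algebraMap (R := A ⧸ I) (S := A) (M := A ⧸ I)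
      Ideal.Quotient.mk_surjective
  have hfinA : Module.length A (A ⧸ I) ≠ ⊤ := by
    rw [Module.length_ne_top_iff, isFiniteLength_iff_isNoetherian_isArtinian]
    exact ⟨inferInstance, inferInstance⟩
  have hlenPA : Module.length (MvPowerSeries (Fin n) k) (A ⧸ I) = Module.length A (A ⧸ I) :=
    Groth.Agent.Lib.LenCompareH3.length_eq_of_residue_surjective (MvPowerSeries (Fin n) k)
      (A ⧸ I) hres
  -- the quotient `A / 𝔪_P A`
  have e0 : (A ⧸ I.restrictScalars (MvPowerSeries (Fin n) k)) ≃ₗ[MvPowerSeries (Fin n) k] A ⧸ I :=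
    Submodule.Quotient.restrictScalarsEquiv (MvPowerSeries (Fin n) k) I
  have e1 : (A ⧸ (maximalIdeal (MvPowerSeries (Fin n) k) • ⊤ :
      Submodule (MvPowerSeries (Fin n) k) A)) ≃ₗ[MvPowerSeries (Fin n) k]
      (A ⧸ I.restrictScalars (MvPowerSeries (Fin n) k)) :=
    Submodule.quotEquivOfEq _ _ (by rw [Ideal.smul_top_eq_map, h1])
  have hfinq : Module.Finite (MvPowerSeries (Fin n) k)
      (A ⧸ (maximalIdeal (MvPowerSeries (Fin n) k) • ⊤ :
        Submodule (MvPowerSeries (Fin n) k) A)) := by
    have h2 : Module.length (MvPowerSeries (Fin n) k) (A ⧸ I) ≠ ⊤ := hlenPA ▸ hfinA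
    rw [Module.length_ne_top_iff, isFiniteLength_iff_isNoetherian_isArtinian] at h2
    haveI := h2.1
    exact Module.Finite.equiv (e1.trans e0).symm
  haveI hfin : Module.Finite (MvPowerSeries (Fin n) k) A :=
    Groth.Agent.Lib.CompleteNoethLead.finite_of_hausdorff
      (maximalIdeal (MvPowerSeries (Fin n) k)) A hfinq
  -- injectivity by dimension
  haveI : IsRegularLocalRing (MvPowerSeries (Fin n) k) :=
    Groth.Agent.Lib.RegPSH3.isRegularLocalRing_mvPowerSeries k n
  haveI : IsDomain (MvPowerSeries (Fin n) k) :=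
    Groth.Agent.RegularLib.isDomain (MvPowerSeries (Fin n) k)
  have hinj : Function.Injective φ := by
    let B : Subalgebra k A := φ.range
    have hsurj : Function.Surjective φ.rangeRestrict := φ.rangeRestrict_surjective
    haveI : Algebra.IsIntegral (MvPowerSeries (Fin n) k) A := inferInstance
    haveI : Algebra.IsIntegral B A := by
      refine ⟨fun a => ?_⟩
      obtain ⟨f, hf, hfa⟩ := Algebra.IsIntegral.isIntegral (R := MvPowerSeries (Fin n) k) a
      refine ⟨f.map (φ.rangeRestrict : MvPowerSeries (Fin n) k →+* B), hf.map _, ?_⟩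
      rw [Polynomial.eval₂_map]
      exact hfa
    have hdimB : ringKrullDim B = n := by
      rw [← hn]
      exact (Groth.Agent.IntegralHeight.ringKrullDim_eq_of_isIntegral_of_injective B A
        Subtype.val_injective).symm
    have h3 := Groth.Agent.Lib.RegPSH3.injective_of_surjective_of_dim
      (φ.rangeRestrict : MvPowerSeries (Fin n) k →+* B) hsurj n
      (Groth.Agent.Lib.RegPSH3.ringKrullDim_mvPowerSeries_field_le k n) hdimB.ge
    intro a b hab
    apply h3
    exact Subtype.ext hab
  haveI hfree : Module.Free (MvPowerSeries (Fin n) k) A :=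
    Groth.Agent.Lib.FiniteRegFreeH3.free_of_finite_regular (MvPowerSeries (Fin n) k) A hinj
  refine ⟨hfin, hfree, hinj, ?_⟩
  have h4 := Groth.Agent.Lib.LenCompareH3.length_quotient_map (MvPowerSeries (Fin n) k) A
    (maximalIdeal (MvPowerSeries (Fin n) k))
  rw [h1, hlenPA] at h4
  rw [h4]
  have h5 : Module.length (MvPowerSeries (Fin n) k)
      (MvPowerSeries (Fin n) k ⧸ maximalIdeal (MvPowerSeries (Fin n) k)) = 1 := by
    rw [Module.length_eq_one_iff, isSimpleModule_iff_isCoatom, ← Ideal.isMaximal_def]
    exact maximalIdeal.isMaximal _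
  rw [h5, mul_one]

end Groth.Agent.Lib.PSFiniteFreeH3
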