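import Mathlib
import Groth.Agent.Lib.TraceEtale_lead

/-!
# Purity for finite flat algebras: étale off the closed point of a local ring of dimension `≥ 2`
implies étale (helper3)
-/

set_option autoImplicit false
universe u v

namespace Groth.Agent.Lib.PurityFFH3

open Groth.Agent.Lib

variable {A : Type u} {B : Type v} [CommRing A] [CommRing B] [Algebra A B]

/-- If `B[1/a]` is formally étale over `A`, the discriminant of a basis becomes a unit in
`A[1/a]`. -/
theorem isUnit_discr_away {n : ℕ} (b : Module.Basis (Fin n) A B) (a : A)
    (h : Algebra.FormallyEtale A (Localization.Away (algebraMap A B a))) :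
    IsUnit (algebraMap A (Localization.Away a) (Algebra.discr A b)) := by
  classical
  have hu : IsUnit (algebraMap A (Localization.Away (algebraMap A B a)) a) := by
    rw [IsScalarTower.algebraMap_apply A B (Localization.Away (algebraMap A B a))]
    exact IsLocalization.Away.algebraMap_isUnit _
  letI : Algebra (Localization.Away a) (Localization.Away (algebraMap A B a)) :=
    (IsLocalization.Away.lift a hu).toAlgebra
  haveI : IsScalarTower A (Localization.Away a) (Localization.Away (algebraMap A B a)) :=
    IsScalarTower.of_algebraMap_eq' (IsLocalization.Away.lift_comp a hu).symm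
  haveI : IsLocalization (Algebra.algebraMapSubmonoid B (Submonoid.powers a))
      (Localization.Away (algebraMap A B a)) := by
    have h1 : Algebra.algebraMapSubmonoid B (Submonoid.powers a) =
        Submonoid.powers (algebraMap A B a) := Submonoid.map_powers _ a
    rw [h1]
    infer_instance
  haveI : Algebra.FormallyEtale (Localization.Away a) (Localization.Away (algebraMap A B a)) :=
    Algebra.FormallyEtale.localization_base (Submonoid.powers a)
  let b' := b.localizationLocalization (Localization.Away a) (Submonoid.powers a)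
    (Localization.Away (algebraMap A B a))
  have h2 := TraceEtale.isUnit_discr_of_traceSurj b'
    (fun φ => TraceEtale.traceSurj_of_unramified b' φ)
  rwa [Algebra.discr_localizationLocalization] at h2

theorem etale_of_punctured [IsNoetherianRing A] [IsLocalRing A]
    (hdim : (2 : WithBot ℕ∞) ≤ ringKrullDim A) [Module.Finite A B] [Module.Flat A B]
    (h : ∀ q : PrimeSpectrum B, q.asIdeal.comap (algebraMap A B) ≠ IsLocalRing.maximalIdeal A →
      Algebra.IsEtaleAt A q.asIdeal) :
    Algebra.Etale A B := by
  classical
  haveI : Module.Free A B := Module.free_of_flat_of_isLocalRing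
  let b : Module.Basis (Fin (Module.finrank A B)) A B := Module.finBasis A B
  rw [TraceEtale.S2195_main b]
  by_contra hd
  have hdm : Algebra.discr A b ∈ IsLocalRing.maximalIdeal A :=
    (IsLocalRing.mem_maximalIdeal _).2 hd
  obtain ⟨p, hpmin, hpm⟩ := Ideal.exists_minimalPrimes_le
    (I := Ideal.span {Algebra.discr A b}) (J := IsLocalRing.maximalIdeal A)
    (by rw [Ideal.span_singleton_le_iff_mem]; exact hdm)
  haveI hpP : p.IsPrime := hpmin.1.1
  have hdp : Algebra.discr A b ∈ p := hpmin.1.2 (Ideal.subset_span rfl)
  have hht : p.height ≤ 1 :=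
    Ideal.height_le_one_of_isPrincipal_of_mem_minimalPrimes _ p hpmin
  have hpne : p ≠ IsLocalRing.maximalIdeal A := by
    intro hpe
    have h1 : ((IsLocalRing.maximalIdeal A).height : WithBot ℕ∞) = ringKrullDim A :=
      IsLocalRing.maximalIdeal_height_eq_ringKrullDim
    rw [hpe] at hht
    have h2 : (2 : WithBot ℕ∞) ≤ ((IsLocalRing.maximalIdeal A).height : WithBot ℕ∞) := by
      rw [h1]
      exact hdim
    have h3 : (2 : ℕ∞) ≤ (IsLocalRing.maximalIdeal A).height := by
      rw [show (2 : WithBot ℕ∞) = ((2 : ℕ∞) : WithBot ℕ∞) from rfl, WithBot.coe_le_coe] at h2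
      exact h2
    have h4 : (2 : ℕ∞) ≤ 1 := h3.trans hht
    exact absurd h4 (by decide)
  haveI : Algebra.FiniteType A B := inferInstance
  haveI : Algebra.FinitePresentation A B := Algebra.FinitePresentation.of_finiteType.1 inferInstance
  have hopen := Algebra.isOpen_etaleLocus (R := A) (A := B)
  obtain ⟨J, hJ⟩ := (PrimeSpectrum.isClosed_iff_zeroLocus_ideal _).1 hopen.isClosed_compl
  have hIp : J.comap (algebraMap A B) ≤ p := by
    intro a ha
    have hsub : (PrimeSpectrum.basicOpen (algebraMap A B a) : Set (PrimeSpectrum B)) ⊆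
        Algebra.etaleLocus A B := by
      intro q hq
      by_contra hq'
      have h1 : q ∈ PrimeSpectrum.zeroLocus (J : Set B) := by
        rw [← hJ]
        exact hq'
      exact hq (h1 ha)
    have hfe := Algebra.basicOpen_subset_etaleLocus_iff.1 hsub
    have hu := isUnit_discr_away b a hfe
    by_contra hap
    have hg : IsUnit (algebraMap A (Localization.AtPrime p) a) :=
      (IsLocalization.AtPrime.isUnit_to_map_iff _ p a).2 hap
    have h2 := hu.map (IsLocalization.Away.lift a hg)
    rw [IsLocalization.Away.lift_eq] at h2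
    exact (IsLocalization.AtPrime.isUnit_to_map_iff _ p _).1 h2 hdp
  obtain ⟨Q, hQJ, hQP, hQp⟩ := Ideal.exists_ideal_over_prime_of_isIntegral p J hIp
  have hQ : (⟨Q, hQP⟩ : PrimeSpectrum B) ∈ (Algebra.etaleLocus A B)ᶜ := by
    rw [hJ]
    exact hQJ
  apply hQ
  exact h ⟨Q, hQP⟩ (by rw [hQp]; exact hpne)

end Groth.Agent.Lib.PurityFFH3
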