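import Mathlib
import Groth.Agent.Lib.InertiaUnram_helper3
import Groth.Agent.Lib.PurityFinFlat_helper3
import Groth.Agent.Lib.Serre_helper5
import Groth.Agent.Lib.DepthDescent_helper5
import Groth.Agent.Lib.NormalLift_helper4
import Groth.Agent.Lib.Regular_helper5
import Groth.Agent.Lib.IntegralHeight_helper5

/-!
# A regular local ring is not flat over the invariants of an action ramified only at the origin
(helper3)
-/

set_option autoImplicit false
universe u v w

namespace Groth.Agent.Lib.WildNotFlatH3

open IsLocalRing

section Generic

variable {A : Type u} [CommRing A] {G : Type w} [Group G] [MulSemiringAction G A]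

theorem isInvariant : Algebra.IsInvariant (FixedPoints.subring A G) A G :=
  ⟨fun a ha => ⟨⟨a, ha⟩, rfl⟩⟩

/-- all traces lie in the invariant ring -/
theorem trace_mem [Fintype G] (s : A) :
    ∃ r : FixedPoints.subring A G, algebraMap (FixedPoints.subring A G) A r = ∑ τ : G, τ • s := by
  refine ⟨⟨∑ τ : G, τ • s, fun g => ?_⟩, rfl⟩
  rw [Finset.smul_sum]
  refine (Fintype.sum_equiv (Equiv.mulLeft g) _ _ (fun τ => ?_)).trans rfl
  show g • τ • s = (g * τ) • s
  rw [mul_smul]

/-- `A` is finite over a Noetherian normal ring of invariants. -/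
theorem finite_of_noetherian_normal [Finite G] [IsDomain A] [IsIntegrallyClosed A]
    [FaithfulSMul G A]
    [IsNoetherianRing (FixedPoints.subring A G)] [IsIntegrallyClosed (FixedPoints.subring A G)] :
    Module.Finite (FixedPoints.subring A G) A := by
  haveI := isInvariant (A := A) (G := G)
  haveI : Algebra.IsIntegral (FixedPoints.subring A G) A :=
    Algebra.IsInvariant.isIntegral (FixedPoints.subring A G) A G
  haveI : IsGaloisGroup G (FixedPoints.subring A G) A := ⟨inferInstance, inferInstance, inferInstance⟩
  have hfa : FaithfulSMul (FixedPoints.subring A G) (FractionRing A) := by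
    rw [faithfulSMul_iff_algebraMap_injective,
      IsScalarTower.algebraMap_eq (FixedPoints.subring A G) A (FractionRing A)]
    exact (FaithfulSMul.algebraMap_injective A (FractionRing A)).comp Subtype.val_injective
  letI : Algebra (FractionRing (FixedPoints.subring A G)) (FractionRing A) :=
    FractionRing.liftAlgebra (FixedPoints.subring A G) (FractionRing A)
  haveI : IsScalarTower (FixedPoints.subring A G) (FractionRing (FixedPoints.subring A G))
      (FractionRing A) :=
    FractionRing.isScalarTower_liftAlgebra (FixedPoints.subring A G) (FractionRing A)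
  letI := IsFractionRing.mulSemiringAction G A (FractionRing A)
  haveI : IsGaloisGroup G (FractionRing (FixedPoints.subring A G)) (FractionRing A) :=
    IsGaloisGroup.to_isFractionRing G (FixedPoints.subring A G) A _ _
  haveI : IsGalois (FractionRing (FixedPoints.subring A G)) (FractionRing A) :=
    IsGaloisGroup.isGalois G _ _
  haveI : FiniteDimensional (FractionRing (FixedPoints.subring A G)) (FractionRing A) :=
    IsGaloisGroup.finiteDimensional G _ _
  haveI : IsIntegralClosure A (FixedPoints.subring A G) (FractionRing A) :=
    IsIntegralClosure.of_isIntegrallyClosed A (FixedPoints.subring A G) (FractionRing A)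
  exact IsIntegralClosure.finite (FixedPoints.subring A G)
    (FractionRing (FixedPoints.subring A G)) (FractionRing A) A

end Generic

/-- main theorem -/
theorem not_flat (A : Type u) [CommRing A] [IsRegularLocalRing A]
    (hdim : 2 ≤ ringKrullDim A)
    (k : Type v) [Field k] [Algebra k A]
    (hk : Function.Surjective (IsLocalRing.residue A ∘ algebraMap k A))
    (G : Type w) [Group G] [Finite G] [MulSemiringAction G A] (hcard : 1 < Nat.card G)
    (hGk : ∀ (σ : G) (c : k), σ • algebraMap k A c = algebraMap k A c)
    (hram : ∀ P : Ideal A, P.IsPrime → P ≠ IsLocalRing.maximalIdeal A → P.inertia G = ⊥) :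
    ¬ Module.Flat (FixedPoints.subring A G) A := by
  classical
  intro hflat
  cases nonempty_fintype G
  haveI : IsDomain A := Groth.Agent.RegularLib.isDomain A
  haveI : IsIntegrallyClosed A :=
    Groth.Agent.Lib.NormalLiftH4.isIntegrallyClosed_of_isRegularLocalRing A
  haveI := isInvariant (A := A) (G := G)
  haveI : Algebra.IsIntegral (FixedPoints.subring A G) A :=
    Algebra.IsInvariant.isIntegral (FixedPoints.subring A G) A G
  haveI : FaithfulSMul (FixedPoints.subring A G) A :=
    (faithfulSMul_iff_algebraMap_injective _ _).2 Subtype.val_injective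
  haveI : IsLocalHom (algebraMap (FixedPoints.subring A G) A) := inferInstance
  haveI : IsLocalRing (FixedPoints.subring A G) :=
    RingHom.domain_isLocalRing (algebraMap (FixedPoints.subring A G) A)
  haveI : Module.FaithfullyFlat (FixedPoints.subring A G) A :=
    Module.FaithfullyFlat.of_flat_of_isLocalHom
  haveI : IsNoetherianRing (FixedPoints.subring A G) :=
    Groth.Agent.DepthLib.isNoetherianRing_of_faithfullyFlat (FixedPoints.subring A G) A
  haveI : IsRegularLocalRing (FixedPoints.subring A G) :=
    Groth.Agent.Serre.regular_of_flat_local (FixedPoints.subring A G) A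
  haveI : IsIntegrallyClosed (FixedPoints.subring A G) :=
    Groth.Agent.Lib.NormalLiftH4.isIntegrallyClosed_of_isRegularLocalRing _
  -- the action is faithful
  have hbot : (⊥ : Ideal A) ≠ maximalIdeal A := by
    intro h
    have hf : IsField A := (IsLocalRing.isField_iff_maximalIdeal_eq).2 h.symm
    rw [ringKrullDim_eq_zero_of_isField hf] at hdim
    exact absurd hdim (by norm_num)
  have hfaith : ∀ σ : G, σ ≠ 1 → ∃ a : A, σ • a ≠ a := by
    intro σ hσ
    by_contra hcon
    push_neg at hcon
    have hmem : σ ∈ (⊥ : Ideal A).inertia G := by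
      intro a
      show σ • a - a ∈ (⊥ : Ideal A)
      rw [hcon a, sub_self]
      exact Ideal.zero_mem _
    rw [hram ⊥ Ideal.bot_prime hbot] at hmem
    exact hσ (Subgroup.mem_bot.1 hmem)
  haveI : FaithfulSMul G A := by
    refine ⟨fun {g₁ g₂} h => ?_⟩
    by_contra hne
    have hne' : g₂⁻¹ * g₁ ≠ 1 := by
      intro h1
      apply hne
      have := congrArg (fun x => g₂ * x) h1
      simpa using this
    obtain ⟨a, ha⟩ := hfaith _ hne'
    apply ha
    rw [mul_smul, h a, inv_smul_smul]
  haveI : Module.Finite (FixedPoints.subring A G) A := finite_of_noetherian_normal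
  -- dimension
  have hdimB : (2 : WithBot ℕ∞) ≤ ringKrullDim (FixedPoints.subring A G) := by
    rw [← Groth.Agent.IntegralHeight.ringKrullDim_eq_of_isIntegral_of_injective
      (A := FixedPoints.subring A G) (B := A) Subtype.val_injective]
    exact hdim
  -- etale on the punctured spectrum
  have hcomap : (maximalIdeal A).comap (algebraMap (FixedPoints.subring A G) A) =
      maximalIdeal (FixedPoints.subring A G) := by
    ext x
    simp only [Ideal.mem_comap, mem_maximalIdeal, mem_nonunits_iff]
    exact not_congr (isUnit_map_iff (algebraMap (FixedPoints.subring A G) A) x)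
  haveI : Algebra.FinitePresentation (FixedPoints.subring A G) A :=
    Algebra.FinitePresentation.of_finiteType.mp inferInstance
  have het : Algebra.Etale (FixedPoints.subring A G) A := by
    refine Groth.Agent.Lib.PurityFFH3.etale_of_punctured hdimB ?_
    intro q hq
    have hqm : q.asIdeal ≠ maximalIdeal A := by
      intro h
      apply hq
      rw [h, hcomap]
    have hin := hram q.asIdeal q.2 hqm
    haveI : q.asIdeal.IsPrime := q.2
    haveI : Algebra.IsUnramifiedAt (FixedPoints.subring A G) q.asIdeal := by
      refine Groth.Agent.Lib.InertiaUnramH3.isUnramifiedAt (fun s => trace_mem s) q.asIdeal ?_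
      intro τ hτ
      by_contra hcon
      push_neg at hcon
      have hmem : τ ∈ q.asIdeal.inertia G := fun a => hcon a
      rw [hin] at hmem
      exact hτ (Subgroup.mem_bot.1 hmem)
    exact Algebra.IsEtaleAt.of_isUnramifiedAt_of_flat q.asIdeal
  -- contradiction at the closed point
  haveI : Algebra.FormallyUnramified (FixedPoints.subring A G) A := inferInstance
  have hmap : (maximalIdeal (FixedPoints.subring A G)).map
      (algebraMap (FixedPoints.subring A G) A) = maximalIdeal A :=
    Algebra.FormallyUnramified.map_maximalIdeal
  have hsurj : ∀ a : A, ∃ b : FixedPoints.subring A G, a - (b : A) ∈ maximalIdeal A := by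
    intro a
    obtain ⟨c, hc⟩ := hk (residue A a)
    refine ⟨⟨algebraMap k A c, fun σ => hGk σ c⟩, ?_⟩
    rw [← Ideal.Quotient.eq_zero_iff_mem, map_sub, sub_eq_zero]
    exact hc.symm
  have htop : (⊤ : Submodule (FixedPoints.subring A G) A) ≤
      LinearMap.range (Algebra.linearMap (FixedPoints.subring A G) A) := by
    refine Submodule.le_of_le_smul_of_le_jacobson_bot (I := maximalIdeal (FixedPoints.subring A G))
      Module.Finite.fg_top (IsLocalRing.maximalIdeal_le_jacobson ⊥) ?_
    intro a _
    obtain ⟨b, hb⟩ := hsurj a
    have h1 : a = (b : A) + (a - (b : A)) := by ring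
    rw [h1]
    refine Submodule.add_mem_sup ⟨b, rfl⟩ ?_
    rw [← hmap] at hb
    rw [Ideal.smul_top_eq_map]
    exact hb
  -- so every element is invariant
  have hall : ∀ (σ : G) (a : A), σ • a = a := by
    intro σ a
    obtain ⟨b, rfl⟩ := htop (Submodule.mem_top (x := a))
    exact b.2 σ
  obtain ⟨σ, hσ⟩ : ∃ σ : G, σ ≠ 1 := by
    by_contra hcon
    push_neg at hcon
    have : Nat.card G ≤ 1 := by
      rw [Nat.card_eq_fintype_card, Fintype.card_le_one_iff]
      intro x y
      rw [hcon x, hcon y]
    omega
  obtain ⟨a, ha⟩ := hfaith σ hσ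
  exact ha (hall σ a)

end Groth.Agent.Lib.WildNotFlatH3
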