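import Mathlib
import Groth.Prelude

/-!
# Fixed flags for `p`-groups acting on vector spaces in characteristic `p`, and admissible
regular systems of parameters (helper4)
-/

set_option autoImplicit false
set_option linter.style.haveILetI false
set_option linter.unusedVariables false

universe u v

namespace Groth.Agent.Lib.PGroupFlagH4

open IsLocalRing

/-- a `p`-group acting additively on an abelian group killed by `p` fixes a nonzero element. -/
theorem exists_fixed_ne_zero {Q : Type*} [AddCommGroup Q] {G : Type*} [Group G] [Finite G]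
    (p : ℕ) [hp' : Fact p.Prime] (hG : IsPGroup p G)
    (hp : ∀ y : Q, p • y = 0) (r : G → Q →+ Q) (h1 : ∀ y, r 1 y = y)
    (hmul : ∀ σ τ y, r (σ * τ) y = r σ (r τ y))
    (y₀ : Q) (hy₀ : y₀ ≠ 0) : ∃ b : Q, b ≠ 0 ∧ ∀ σ, r σ b = b := by
  classical
  have hWstab : ∀ σ, AddSubgroup.closure (Set.range fun τ : G => r τ y₀) ≤
      (AddSubgroup.closure (Set.range fun τ : G => r τ y₀)).comap (r σ) := by
    intro σ
    refine (AddSubgroup.closure_le _).mpr ?_
    rintro y ⟨τ, rfl⟩
    show r σ (r τ y₀) ∈ AddSubgroup.closure (Set.range fun τ : G => r τ y₀)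
    rw [← hmul]
    exact AddSubgroup.subset_closure ⟨σ * τ, rfl⟩
  letI act : MulAction G ↥(AddSubgroup.closure (Set.range fun τ : G => r τ y₀)) :=
    { smul := fun σ w => ⟨r σ w.1, hWstab σ w.2⟩
      one_smul := fun w => Subtype.ext (h1 w.1)
      mul_smul := fun σ τ w => Subtype.ext (hmul σ τ w.1) }
  haveI : AddGroup.FG ↥(AddSubgroup.closure (Set.range fun τ : G => r τ y₀)) :=
    AddGroup.closure_finite_fg _
  haveI : Finite ↥(AddSubgroup.closure (Set.range fun τ : G => r τ y₀)) :=
    AddCommGroup.finite_of_fg_isAddTorsion _ (fun w =>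
      isOfFinAddOrder_iff_nsmul_eq_zero.mpr ⟨p, hp'.out.pos,
        Subtype.ext ((AddSubgroup.coe_nsmul _ w p).trans (hp w.1))⟩)
  have hmem : y₀ ∈ AddSubgroup.closure (Set.range fun τ : G => r τ y₀) :=
    AddSubgroup.subset_closure ⟨1, h1 y₀⟩
  have hord : addOrderOf (⟨y₀, hmem⟩ : ↥(AddSubgroup.closure (Set.range fun τ : G => r τ y₀))) = p :=
    addOrderOf_eq_prime (Subtype.ext ((AddSubgroup.coe_nsmul _ _ p).trans (hp y₀)))
      (fun h => hy₀ (congrArg Subtype.val h))
  have hdvd : p ∣ Nat.card ↥(AddSubgroup.closure (Set.range fun τ : G => r τ y₀)) := by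
    have h := addOrderOf_dvd_natCard
      (⟨y₀, hmem⟩ : ↥(AddSubgroup.closure (Set.range fun τ : G => r τ y₀)))
    rwa [hord] at h
  have h0 : (0 : ↥(AddSubgroup.closure (Set.range fun τ : G => r τ y₀))) ∈
      MulAction.fixedPoints G ↥(AddSubgroup.closure (Set.range fun τ : G => r τ y₀)) :=
    fun σ => Subtype.ext (map_zero (r σ))
  obtain ⟨b, hbfix, hb0⟩ := hG.exists_fixed_point_of_prime_dvd_card_of_fixed_point _ hdvd h0
  exact ⟨b.1, fun h => hb0 (Subtype.ext h.symm), fun σ => congrArg Subtype.val (hbfix σ)⟩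

section Flag

variable {k : Type*} [Field k] {V : Type*} [AddCommGroup V] [Module k V] {G : Type*} [Group G]

theorem exists_fixed_mod (p : ℕ) [hp : Fact p.Prime] (hp0 : (p : k) = 0) [Finite G]
    (hG : IsPGroup p G) (ρ : G → V →ₗ[k] V) (h1 : ∀ x, ρ 1 x = x)
    (hmul : ∀ σ τ x, ρ (σ * τ) x = ρ σ (ρ τ x))
    (U : Submodule k V) (hU : ∀ σ, ∀ x ∈ U, ρ σ x ∈ U) (hne : U ≠ ⊤) :
    ∃ v, v ∉ U ∧ ∀ σ, ρ σ v - v ∈ U := by
  classical
  have hUc : ∀ σ, U ≤ U.comap (ρ σ) := fun σ x hx => hU σ x hx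
  obtain ⟨ρb, hρb⟩ : ∃ ρb : G → (V ⧸ U) →ₗ[k] (V ⧸ U),
      ∀ σ x, ρb σ (U.mkQ x) = U.mkQ (ρ σ x) :=
    ⟨fun σ => U.mapQ U (ρ σ) (hUc σ), fun σ x => rfl⟩
  have hb1 : ∀ y, ρb 1 y = y := by
    intro y
    obtain ⟨x, rfl⟩ := U.mkQ_surjective y
    rw [hρb, h1]
  have hbmul : ∀ σ τ y, ρb (σ * τ) y = ρb σ (ρb τ y) := by
    intro σ τ y
    obtain ⟨x, rfl⟩ := U.mkQ_surjective y
    rw [hρb, hρb, hρb, hmul]
  obtain ⟨x₀, hx₀⟩ : ∃ x₀, x₀ ∉ U := by
    by_contra h
    push_neg at h
    exact hne (eq_top_iff.mpr fun x _ => h x)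
  have hy₀ : U.mkQ x₀ ≠ 0 := fun h => hx₀ ((Submodule.Quotient.mk_eq_zero U).mp h)
  have hpsmul : ∀ y : V ⧸ U, p • y = 0 := by
    intro y
    rw [← Nat.cast_smul_eq_nsmul k p y, hp0, zero_smul]
  obtain ⟨b, hb0, hbfix⟩ := exists_fixed_ne_zero p hG hpsmul
    (fun σ => (ρb σ).toAddMonoidHom) hb1 hbmul (U.mkQ x₀) hy₀
  obtain ⟨v, rfl⟩ := U.mkQ_surjective b
  refine ⟨v, fun hv => hb0 ((Submodule.Quotient.mk_eq_zero U).mpr hv), fun σ => ?_⟩
  have h2 : U.mkQ (ρ σ v) = U.mkQ v := (hρb σ v).symm.trans (hbfix σ)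
  have h3 : U.mkQ (ρ σ v - v) = 0 := by rw [map_sub, h2, sub_self]
  exact (Submodule.Quotient.mk_eq_zero U).mp h3

theorem exists_flag (p : ℕ) [Fact p.Prime] (hp0 : (p : k) = 0) [Finite G] (hG : IsPGroup p G)
    (ρ : G → V →ₗ[k] V) (h1 : ∀ x, ρ 1 x = x) (hmul : ∀ σ τ x, ρ (σ * τ) x = ρ σ (ρ τ x))
    [FiniteDimensional k V] (n : ℕ) (hn : Module.finrank k V = n) :
    ∃ v : ℕ → V, Submodule.span k (v '' {l | l < n}) = ⊤ ∧
      ∀ i < n, ∀ σ, ρ σ (v i) - v i ∈ Submodule.span k (v '' {l | l < i}) := by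
  classical
  have claim : ∀ j, j ≤ n → ∃ v : ℕ → V,
      (∀ σ, ∀ x ∈ Submodule.span k (v '' {l | l < j}),
        ρ σ x ∈ Submodule.span k (v '' {l | l < j})) ∧
      Module.finrank k (Submodule.span k (v '' {l | l < j})) = j ∧
      ∀ i < j, ∀ σ, ρ σ (v i) - v i ∈ Submodule.span k (v '' {l | l < i}) := by
    intro j
    induction j with
    | zero =>
      intro _
      have h0 : ((fun _ : ℕ => (0 : V)) '' {l | l < 0}) = ∅ := by
        rw [Set.image_eq_empty]
        ext l
        simp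
      refine ⟨fun _ => 0, ?_, ?_, ?_⟩
      · intro σ x hx
        rw [h0, Submodule.span_empty] at hx ⊢
        rw [(Submodule.mem_bot k).mp hx, map_zero]
        exact Submodule.zero_mem _
      · rw [h0, Submodule.span_empty, finrank_bot]
      · intro i hi
        exact absurd hi (Nat.not_lt_zero i)
    | succ j ih =>
      intro hj
      obtain ⟨v, hst, hfr, htri⟩ := ih (Nat.le_of_succ_le hj)
      have hne : Submodule.span k (v '' {l | l < j}) ≠ ⊤ := by
        intro h
        rw [h, finrank_top, hn] at hfr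
        omega
      obtain ⟨x, hxU, hxfix⟩ := exists_fixed_mod p hp0 hG ρ h1 hmul _ hst hne
      have hx0 : x ≠ 0 := fun h => hxU (h ▸ Submodule.zero_mem _)
      have S1 : ∀ i, i ≤ j → (Function.update v j x) '' {l | l < i} = v '' {l | l < i} := by
        intro i hi
        refine Set.image_congr (fun l hl => ?_)
        exact Function.update_of_ne (ne_of_lt (lt_of_lt_of_le hl hi)) x v
      have S2 : (Function.update v j x) '' {l | l < j + 1} = insert x (v '' {l | l < j}) := by
        have hset : {l | l < j + 1} = insert j {l | l < j} := by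
          ext l
          simp only [Set.mem_setOf_eq, Set.mem_insert_iff]
          omega
        rw [hset, Set.image_insert_eq, Function.update_self, S1 j (le_refl j)]
      refine ⟨Function.update v j x, ?_, ?_, ?_⟩
      · intro σ y hy
        rw [S2, Submodule.span_insert] at hy ⊢
        obtain ⟨a, ha, b, hb, rfl⟩ := Submodule.mem_sup.mp hy
        obtain ⟨c, rfl⟩ := Submodule.mem_span_singleton.mp ha
        have e : ρ σ (c • x + b) = c • x + (c • (ρ σ x - x) + ρ σ b) := by
          rw [map_add, map_smul, smul_sub]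
          abel
        rw [e]
        exact Submodule.add_mem_sup
          (Submodule.smul_mem _ c (Submodule.mem_span_singleton_self x))
          (Submodule.add_mem _ (Submodule.smul_mem _ c (hxfix σ)) (hst σ b hb))
      · rw [S2, Submodule.span_insert]
        have hdis : Submodule.span k {x} ⊓ Submodule.span k (v '' {l | l < j}) = ⊥ := by
          rw [inf_comm]
          exact disjoint_iff.mp ((Submodule.disjoint_span_singleton' hx0).mpr hxU)
        have h2 := Submodule.finrank_sup_add_finrank_inf_eq (Submodule.span k {x})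
          (Submodule.span k (v '' {l | l < j}))
        rw [hdis, finrank_bot, add_zero, finrank_span_singleton hx0, hfr] at h2
        omega
      · intro i hi σ
        rcases Nat.lt_succ_iff_lt_or_eq.mp hi with h | h
        · rw [S1 i (le_of_lt h), Function.update_of_ne (ne_of_lt h) x v]
          exact htri i h σ
        · subst h
          rw [S1 i (le_refl i), Function.update_self]
          exact hxfix σ
  obtain ⟨v, -, hfr, htri⟩ := claim n (le_refl n)
  refine ⟨v, ?_, htri⟩
  exact Submodule.eq_top_of_finrank_eq (hfr.trans hn.symm)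

end Flag

section App

variable (p : ℕ) [Fact p.Prime] (A : Type u) [CommRing A] [IsRegularLocalRing A] [CharP A p]
  (G : Type v) [Group G] [Finite G] [MulSemiringAction G A]

theorem main (hG : IsPGroup p G)
    (hres : ∀ (σ : G) (a : A), σ • a - a ∈ maximalIdeal A)
    (n : ℕ) (hn : ringKrullDim A = n) :
    ∃ u : Fin n → A, Ideal.span (Set.range u) = maximalIdeal A ∧
      ∀ (σ : G) (i : Fin n),
        σ • u i ∈ Ideal.span (u '' {j | j ≤ i}) ⊔ maximalIdeal A ^ 2 := by
  classical
  have hm : ∀ (σ : G) (x : A), x ∈ maximalIdeal A → σ • x ∈ maximalIdeal A := by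
    intro σ x hx
    have := (maximalIdeal A).add_mem (hres σ x) hx
    rwa [sub_add_cancel] at this
  obtain ⟨ρ₀, hρ₀⟩ : ∃ ρ₀ : G → (CotangentSpace A →+ CotangentSpace A),
      ∀ σ (y : maximalIdeal A), ρ₀ σ ((maximalIdeal A).toCotangent y) =
        (maximalIdeal A).toCotangent ⟨σ • (y : A), hm σ y y.2⟩ :=
    ⟨fun σ => (Ideal.mapCotangent (maximalIdeal A) (maximalIdeal A)
      ((MulSemiringAction.toRingHom G A σ).toIntAlgHom)
      (fun x hx => hm σ x hx)).toAddMonoidHom, fun σ y => rfl⟩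
  have hsm : ∀ (σ : G) (c : ResidueField A) (x : CotangentSpace A),
      ρ₀ σ (c • x) = c • ρ₀ σ x := by
    intro σ c x
    obtain ⟨a, rfl⟩ := IsLocalRing.residue_surjective c
    obtain ⟨y, rfl⟩ := (maximalIdeal A).toCotangent_surjective x
    have e1 : residue A a •
        (maximalIdeal A).toCotangent y = (maximalIdeal A).toCotangent (a • y) := by
      rw [map_smul]
      exact algebraMap_smul (ResidueField A) a _
    have e2 : residue A a •
        (maximalIdeal A).toCotangent ⟨σ • (y : A), hm σ y y.2⟩ =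
        (maximalIdeal A).toCotangent (a • ⟨σ • (y : A), hm σ y y.2⟩) := by
      rw [map_smul]
      exact algebraMap_smul (ResidueField A) a _
    rw [e1, hρ₀, hρ₀, e2, Ideal.toCotangent_eq]
    show σ • (a * (y : A)) - a * (σ • (y : A)) ∈ maximalIdeal A ^ 2
    have e3 : σ • (a * (y : A)) - a * (σ • (y : A)) = (σ • a - a) * (σ • (y : A)) := by
      rw [smul_mul', sub_mul]
    rw [e3, pow_two]
    exact Ideal.mul_mem_mul (hres σ a) (hm σ y y.2)
  obtain ⟨ρ, hρ⟩ : ∃ ρ : G → CotangentSpace A →ₗ[ResidueField A] CotangentSpace A,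
      ∀ σ x, ρ σ x = ρ₀ σ x :=
    ⟨fun σ => { toFun := ρ₀ σ, map_add' := (ρ₀ σ).map_add, map_smul' := hsm σ },
      fun σ x => rfl⟩
  have hρy : ∀ σ (y : maximalIdeal A), ρ σ ((maximalIdeal A).toCotangent y) =
      (maximalIdeal A).toCotangent ⟨σ • (y : A), hm σ y y.2⟩ :=
    fun σ y => (hρ σ _).trans (hρ₀ σ y)
  have h1 : ∀ x, ρ 1 x = x := by
    intro x
    obtain ⟨y, rfl⟩ := (maximalIdeal A).toCotangent_surjective x
    rw [hρy]
    exact congrArg _ (Subtype.ext (one_smul G (y : A)))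
  have hmul : ∀ σ τ x, ρ (σ * τ) x = ρ σ (ρ τ x) := by
    intro σ τ x
    obtain ⟨y, rfl⟩ := (maximalIdeal A).toCotangent_surjective x
    rw [hρy, hρy, hρy]
    exact congrArg _ (Subtype.ext (mul_smul σ τ (y : A)))
  have hp0 : ((p : ℕ) : ResidueField A) = 0 := by
    have h0 : ((p : ℕ) : A) = 0 := CharP.cast_eq_zero A p
    have h2 := congrArg (residue A) h0
    rwa [map_natCast, map_zero] at h2
  have hfin : Module.finrank (ResidueField A) (CotangentSpace A) = n := by
    have h := (IsRegularLocalRing.iff_finrank_cotangentSpace A).mp inferInstance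
    rw [hn] at h
    exact_mod_cast h
  obtain ⟨v, hvtop, hvtri⟩ := exists_flag p hp0 hG ρ h1 hmul n hfin
  choose u' hu' using fun l => (maximalIdeal A).toCotangent_surjective (v l)
  refine ⟨fun i => (u' i : A), ?_, ?_⟩
  · have hs : (maximalIdeal A).toCotangent '' (Set.range fun i : Fin n => u' i) =
        v '' {l | l < n} := by
      ext w
      constructor
      · rintro ⟨_, ⟨i, rfl⟩, rfl⟩
        exact ⟨(i : ℕ), i.2, (hu' i).symm⟩
      · rintro ⟨l, hl, rfl⟩
        exact ⟨u' l, ⟨⟨l, hl⟩, rfl⟩, hu' l⟩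
    have htop : Submodule.span A (Set.range fun i : Fin n => u' i) = ⊤ := by
      rw [← CotangentSpace.span_image_eq_top_iff, hs]
      exact hvtop
    have h2 := congrArg (Submodule.map (maximalIdeal A).subtype) htop
    rw [Submodule.map_span, Submodule.map_top, Submodule.range_subtype, ← Set.range_comp] at h2
    exact h2
  · intro σ i
    have hw := hvtri (i : ℕ) i.2 σ
    have hs : (maximalIdeal A).toCotangent '' (u' '' {l | l < (i : ℕ)}) =
        v '' {l | l < (i : ℕ)} := by
      rw [Set.image_image]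
      exact Set.image_congr (fun l _ => hu' l)
    rw [← hs, ← hu' (i : ℕ), hρy, ← map_sub] at hw
    have hEq := Submodule.restrictScalars_span (R := A) (A := ResidueField A)
      (M := CotangentSpace A) Ideal.Quotient.mk_surjective
      ((maximalIdeal A).toCotangent '' (u' '' {l | l < (i : ℕ)}))
    have hw2 : (maximalIdeal A).toCotangent
        (⟨σ • (u' i : A), hm σ _ (u' i).2⟩ - u' i) ∈
        Submodule.span A ((maximalIdeal A).toCotangent '' (u' '' {l | l < (i : ℕ)})) := by
      rw [← hEq]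
      exact hw
    rw [← Submodule.map_span] at hw2
    obtain ⟨y, hy, hyw⟩ := Submodule.mem_map.mp hw2
    have h3 : (y : A) - (σ • (u' i : A) - (u' i : A)) ∈ maximalIdeal A ^ 2 :=
      (Ideal.toCotangent_eq _).mp hyw
    have hyA : (y : A) ∈ Ideal.span ((fun j : Fin n => (u' j : A)) '' {j | j ≤ i}) := by
      have h4 : (y : A) ∈ Submodule.map (maximalIdeal A).subtype
          (Submodule.span A (u' '' {l | l < (i : ℕ)})) := Submodule.mem_map.mpr ⟨y, hy, rfl⟩
      rw [Submodule.map_span] at h4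
      refine Submodule.span_mono ?_ h4
      rintro _ ⟨_, ⟨l, hl, rfl⟩, rfl⟩
      refine ⟨⟨l, lt_trans hl i.2⟩, ?_, rfl⟩
      show l ≤ (i : ℕ)
      exact le_of_lt hl
    have e : σ • (u' i : A) = ((u' i : A) + (y : A)) +
        (-((y : A) - (σ • (u' i : A) - (u' i : A)))) := by ring
    show σ • (u' i : A) ∈ _
    rw [e]
    refine Submodule.add_mem_sup (Submodule.add_mem _ ?_ hyA) (Submodule.neg_mem _ h3)
    exact Ideal.subset_span ⟨i, le_refl i, rfl⟩

end App

end Groth.Agent.Lib.PGroupFlagH4
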