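import Mathlib
import Groth.Agent.Lib.InvComplete_helper3
import Groth.Agent.Lib.PSFiniteFree_helper3
import Groth.Agent.Lib.WildNotFlat_helper3
import Groth.Agent.S15792

/-!
# The ring of invariants of a wild `ℤ/p`-action on a complete regular local ring (helper3)
-/

set_option autoImplicit false
universe u v w

namespace Groth.Agent.Lib.InvComplete2H3

open IsLocalRing MvPowerSeries

theorem main (p : ℕ) [Fact p.Prime] (A : Type u) [CommRing A] [IsRegularLocalRing A] [CharP A p]
    [IsAdicComplete (IsLocalRing.maximalIdeal A) A] (hdim : 2 ≤ ringKrullDim A)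
    (k : Type v) [Field k] [Algebra k A]
    (hk : Function.Surjective (IsLocalRing.residue A ∘ algebraMap k A))
    (G : Type w) [Group G] [Finite G] [MulSemiringAction G A] (hcard : Nat.card G = p)
    (hGk : ∀ (σ : G) (c : k), σ • algebraMap k A c = algebraMap k A c)
    (hram : ∀ P : Ideal A, P.IsPrime → P ≠ IsLocalRing.maximalIdeal A → P.inertia G = ⊥) :
    IsNoetherianRing (FixedPoints.subring A G) ∧ Module.Finite (FixedPoints.subring A G) A ∧
      IsIntegrallyClosed (FixedPoints.subring A G) ∧
      ringKrullDim (FixedPoints.subring A G) = ringKrullDim A ∧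
      IsAdicComplete (Ideal.comap (FixedPoints.subring A G).subtype (IsLocalRing.maximalIdeal A))
        (FixedPoints.subring A G) ∧
      ¬ IsRegularLocalRing (FixedPoints.subring A G) := by
  classical
  cases nonempty_fintype G
  haveI : IsDomain A := Groth.Agent.RegularLib.isDomain A
  haveI : IsIntegrallyClosed A :=
    Groth.Agent.Lib.NormalLiftH4.isIntegrallyClosed_of_isRegularLocalRing A
  haveI := Groth.Agent.Lib.WildNotFlatH3.isInvariant (A := A) (G := G)
  haveI : Algebra.IsIntegral (FixedPoints.subring A G) A :=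
    Algebra.IsInvariant.isIntegral (FixedPoints.subring A G) A G
  obtain ⟨n, hn⟩ : ∃ n : ℕ, ringKrullDim A = n :=
    ⟨(maximalIdeal A).spanFinrank, (IsRegularLocalRing.spanFinrank_maximalIdeal (R := A)).symm⟩
  -- `G` acts trivially on the residue field
  have hsmul_mem : ∀ (σ : G) (a : A), a ∈ maximalIdeal A → σ • a ∈ maximalIdeal A := by
    intro σ a ha
    rw [IsLocalRing.mem_maximalIdeal, mem_nonunits_iff] at ha ⊢
    intro hu
    apply ha
    have := hu.map (MulSemiringAction.toRingHom G A σ⁻¹)
    rwa [MulSemiringAction.toRingHom_apply, inv_smul_smul] at this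
  have hres : ∀ (σ : G) (a : A), σ • a - a ∈ maximalIdeal A := by
    intro σ a
    obtain ⟨c, hc⟩ := hk (residue A a)
    have h1 : a - algebraMap k A c ∈ maximalIdeal A := by
      rw [← Ideal.Quotient.eq_zero_iff_mem, map_sub, sub_eq_zero]
      exact hc.symm
    have h2 : σ • (a - algebraMap k A c) ∈ maximalIdeal A := hsmul_mem σ _ h1
    have h3 : σ • a - a = σ • (a - algebraMap k A c) - (a - algebraMap k A c) := by
      rw [smul_sub, hGk]
      ring
    rw [h3]
    exact sub_mem h2 h1
  have hG : IsPGroup p G := IsPGroup.of_card (n := 1) (by rw [hcard, pow_one])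
  obtain ⟨u, hu⟩ := Groth.Agent.S15792.result p A G hG hres n hn
  -- the norms
  let x : Fin n → A := fun i => ∏ σ : G, σ • u i
  have hxB : ∀ (i : Fin n) (σ : G), σ • x i = x i := by
    intro i σ
    show MulSemiringAction.toRingHom G A σ (∏ τ : G, τ • u i) = _
    rw [map_prod]
    refine (Fintype.prod_equiv (Equiv.mulLeft σ) _ _ (fun τ => ?_)).trans rfl
    show σ • τ • u i = (σ * τ) • u i
    rw [mul_smul]
  have hum : ∀ i, u i ∈ maximalIdeal A := by
    intro i
    have h1 := hu (fun _ => (1 : G))
    rw [← h1]
    exact Ideal.subset_span ⟨i, by simp⟩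
  have hxm : ∀ i, x i ∈ maximalIdeal A := by
    intro i
    show ∏ σ : G, σ • u i ∈ maximalIdeal A
    rw [← Finset.mul_prod_erase Finset.univ (fun σ : G => σ • u i) (Finset.mem_univ 1), one_smul]
    exact Ideal.mul_mem_right _ _ (hum i)
  have hxrad : (Ideal.span (Set.range x)).radical = maximalIdeal A := by
    apply le_antisymm
    · have h1 : Ideal.span (Set.range x) ≤ maximalIdeal A := by
        rw [Ideal.span_le]
        rintro _ ⟨i, rfl⟩
        exact hxm i
      exact (Ideal.radical_mono h1).trans
        (Ideal.IsPrime.radical (maximalIdeal.isMaximal A).isPrime).le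
    · refine Groth.Agent.Lib.NormLenGEH3.mixed_radical (fun (i : Fin n) (σ : G) => σ • u i)
        (maximalIdeal A) (fun τ => ?_) Finset.univ x (fun i _ => rfl)
        (fun i hi => absurd (Finset.mem_univ i) hi)
      rw [hu τ]
      exact Ideal.le_radical
  obtain ⟨φ, hφ⟩ := Groth.Agent.Lib.InvCompleteH3.exists_algHom_X' (Λ := k) n x hxm
  have hx' : (Ideal.span (Set.range fun i => φ (X i))).radical = maximalIdeal A := by
    rw [funext hφ]
    exact hxrad
  obtain ⟨hfin, -, -, -⟩ := Groth.Agent.Lib.PSFiniteFreeH3.finite_free A n hn k hk φ hx'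
  -- `φ` lands in the invariants
  have hσφ : ∀ (σ : G) (f : MvPowerSeries (Fin n) k), σ • φ f = φ f := by
    intro σ f
    let σa : A →ₐ[k] A :=
      { MulSemiringAction.toRingHom G A σ with commutes' := fun c => hGk σ c }
    have hσa : ∀ a : A, σa a = σ • a := fun _ => rfl
    have h1 := Groth.Agent.Lib.InvCompleteH3.algHom_ext_of_hausdorff (σa.comp φ) φ
      (fun i => by rw [AlgHom.comp_apply, hσa, hφ, hxB])
      (fun i => by rw [AlgHom.comp_apply, hσa, hφ, hxB]; exact hxm i)
    exact AlgHom.congr_fun h1 f
  letI algPA : Algebra (MvPowerSeries (Fin n) k) A := φ.toRingHom.toAlgebra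
  let φB : MvPowerSeries (Fin n) k →+* FixedPoints.subring A G :=
    (φ : MvPowerSeries (Fin n) k →+* A).codRestrict (FixedPoints.subring A G)
      (fun f σ => hσφ σ f)
  letI algPB : Algebra (MvPowerSeries (Fin n) k) (FixedPoints.subring A G) := φB.toAlgebra
  haveI : IsScalarTower (MvPowerSeries (Fin n) k) (FixedPoints.subring A G) A :=
    IsScalarTower.of_algebraMap_eq (fun f => rfl)
  haveI := hfin
  haveI : IsRegularLocalRing (MvPowerSeries (Fin n) k) :=
    Groth.Agent.Lib.RegPSH3.isRegularLocalRing_mvPowerSeries k n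
  haveI : IsNoetherian (MvPowerSeries (Fin n) k) A := isNoetherian_of_isNoetherianRing_of_finite _ A
  haveI hfinPB : Module.Finite (MvPowerSeries (Fin n) k) (FixedPoints.subring A G) :=
    Module.Finite.of_injective
      (IsScalarTower.toAlgHom (MvPowerSeries (Fin n) k) (FixedPoints.subring A G) A).toLinearMap
      Subtype.val_injective
  haveI hBN : IsNoetherianRing (FixedPoints.subring A G) :=
    IsNoetherianRing.of_finite (MvPowerSeries (Fin n) k) (FixedPoints.subring A G)
  haveI hfinBA : Module.Finite (FixedPoints.subring A G) A :=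
    Module.Finite.of_restrictScalars_finite (MvPowerSeries (Fin n) k) (FixedPoints.subring A G) A
  have hIC : IsIntegrallyClosed (FixedPoints.subring A G) :=
    Groth.Agent.Lib.InvCompleteH3.isIntegrallyClosed_fixedPoints A G
  have hdimB : ringKrullDim (FixedPoints.subring A G) = ringKrullDim A :=
    (Groth.Agent.IntegralHeight.ringKrullDim_eq_of_isIntegral_of_injective
      (FixedPoints.subring A G) A Subtype.val_injective).symm
  refine ⟨hBN, hfinBA, hIC, hdimB, ?_, ?_⟩
  · -- completeness
    haveI h1 : IsAdicComplete (maximalIdeal (MvPowerSeries (Fin n) k))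
        (FixedPoints.subring A G) :=
      Groth.Agent.Lib.InvCompleteH3.isAdicComplete_of_finite _ _
    haveI h2 : IsAdicComplete ((maximalIdeal (MvPowerSeries (Fin n) k)).map
        (algebraMap (MvPowerSeries (Fin n) k) (FixedPoints.subring A G)))
        (FixedPoints.subring A G) :=
      (IsAdicComplete.map_algebraMap_iff _ _).2 h1
    have hXm : ∀ i, (X i : MvPowerSeries (Fin n) k) ∈ maximalIdeal (MvPowerSeries (Fin n) k) := by
      intro i
      rw [Groth.Agent.Lib.PSFiniteFreeH3.maximalIdeal_eq_span]
      exact Ideal.subset_span ⟨i, rfl⟩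
    have hφm : ∀ f ∈ maximalIdeal (MvPowerSeries (Fin n) k), φ f ∈ maximalIdeal A := by
      intro f hf
      have h3 : φ f ∈ (maximalIdeal (MvPowerSeries (Fin n) k)).map
          (φ : MvPowerSeries (Fin n) k →+* A) := Ideal.mem_map_of_mem _ hf
      rw [Groth.Agent.Lib.PSFiniteFreeH3.map_maximalIdeal] at h3
      have h4 : Ideal.span (Set.range fun i => (φ : MvPowerSeries (Fin n) k →+* A) (X i)) ≤
          maximalIdeal A := by
        rw [Ideal.span_le]
        rintro _ ⟨i, rfl⟩
        show φ (X i) ∈ maximalIdeal A
        rw [hφ]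
        exact hxm i
      exact h4 h3
    have hJle : (maximalIdeal (MvPowerSeries (Fin n) k)).map
        (algebraMap (MvPowerSeries (Fin n) k) (FixedPoints.subring A G)) ≤
        Ideal.comap (FixedPoints.subring A G).subtype (maximalIdeal A) := by
      rw [Ideal.map_le_iff_le_comap]
      intro f hf
      exact hφm f hf
    have hrad : Ideal.comap (FixedPoints.subring A G).subtype (maximalIdeal A) ≤
        ((maximalIdeal (MvPowerSeries (Fin n) k)).map
          (algebraMap (MvPowerSeries (Fin n) k) (FixedPoints.subring A G))).radical := by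
      rw [Ideal.radical_eq_sInf]
      refine le_sInf ?_
      rintro q ⟨hJq, hq⟩
      haveI := hq
      obtain ⟨Q, -, hQp, hQq⟩ := Ideal.exists_ideal_over_prime_of_isIntegral q (⊥ : Ideal A) (by
        rw [← RingHom.ker_eq_comap_bot, (RingHom.injective_iff_ker_eq_bot _).1
          (Subtype.val_injective : Function.Injective
            (algebraMap (FixedPoints.subring A G) A))]
        exact bot_le)
      have hxQ : Ideal.span (Set.range x) ≤ Q := by
        rw [Ideal.span_le]
        rintro _ ⟨i, rfl⟩
        have h3 : φB (X i) ∈ q := hJq (Ideal.mem_map_of_mem _ (hXm i))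
        rw [← hQq] at h3
        have h4 : algebraMap (FixedPoints.subring A G) A (φB (X i)) = x i := hφ i
        rw [Ideal.mem_comap, h4] at h3
        exact h3
      have hmQ : maximalIdeal A ≤ Q := by
        rw [← hxrad]
        exact hQp.radical_le_iff.2 hxQ
      have hQm : Q = maximalIdeal A :=
        ((maximalIdeal.isMaximal A).eq_of_le hQp.ne_top hmQ).symm
      rw [← hQq, hQm]
      exact le_refl _
    obtain ⟨N, hN⟩ := Ideal.exists_pow_le_of_le_radical_of_fg hrad
      (IsNoetherian.noetherian _)
    exact Groth.Agent.Lib.InvCompleteH3.isAdicComplete_of_le_of_pow_le _ _ _ 1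
      (by rw [pow_one]; exact hJle) N hN
  · intro hreg
    haveI := hreg
    haveI : Module.Flat (FixedPoints.subring A G) A :=
      Groth.Agent.Lib.FiniteRegFreeH3.flat_of_finite_regular (FixedPoints.subring A G) A
        Subtype.val_injective
    exact Groth.Agent.Lib.WildNotFlatH3.not_flat A hdim k hk G
      (by rw [hcard]; exact (Fact.out : p.Prime).one_lt) hGk hram inferInstance

end Groth.Agent.Lib.InvComplete2H3
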