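import Mathlib
import Groth.Agent.Lib.GorFib4_helper6
import Groth.Agent.Lib.DRingLT2_helper2
import Groth.Agent.Lib.DRingLT_helper2
import Groth.Agent.Lib.HomCx_helper2

/-!
# Invertible objects of `D(A)` over a local ring (helper6), part 1
-/

set_option autoImplicit false
universe u
open CategoryTheory CategoryTheory.Limits DerivedCategory Pretriangulated MonoidalCategory
open scoped TensorProduct
attribute [local instance] HasDerivedCategory.standard

namespace Groth.Agent.Lib.InvCxH6

open DRing Groth.Agent.Lib.DMod_helper6 Groth.Agent.ExtendScalarsLib Groth.Agent.Lib.PcLift_helper6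
  Groth.Agent.Lib.HomCx

section Rank

variable {R : Type u} [CommRing R] [Nontrivial R]

/-- a complex of finite free modules with a single nonzero term, of rank one, is a shift of `R` -/
theorem nonempty_iso_shift_of_finrank (K : Dual.D R) (P : Cx R) (eP : toD P ≅ K)
    (hPt : ∀ i : ℤ, Module.Free R (P.X i) ∧ Module.Finite R (P.X i)) (p₀ : ℤ)
    (h0 : ∀ i : ℤ, i ≠ p₀ → Module.finrank R (P.X i) = 0)
    (h1 : Module.finrank R (P.X p₀) = 1) : Nonempty (K ≅ (Dual.inD R R)⟦-p₀⟧) := by
  have hz : ∀ i : ℤ, i ≠ p₀ → IsZero (P.X i) := by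
    intro i hi
    haveI := (hPt i).1
    haveI := (hPt i).2
    haveI : Subsingleton (P.X i) := (Module.finrank_eq_zero_iff_of_free R (P.X i)).1 (h0 i hi)
    exact ModuleCat.isZero_of_subsingleton _
  have eHP : ∀ i : ℤ, P.homology i ≅ (homologyFunctor (ModuleCat.{u} R) i).obj K := fun i =>
    ((homologyFunctorFactors (ModuleCat.{u} R) i).app P).symm ≪≫
      (homologyFunctor (ModuleCat.{u} R) i).mapIso eP
  haveI := (hPt p₀).1
  haveI := (hPt p₀).2
  obtain ⟨e1⟩ := Module.nonempty_linearEquiv_of_finrank_eq_one h1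
  have hf : (P.sc p₀).f = 0 := (hz _ (by
    show (ComplexShape.up ℤ).prev p₀ ≠ p₀
    rw [CochainComplex.prev]; omega)).eq_of_src _ _
  have hg : (P.sc p₀).g = 0 := (hz _ (by
    show (ComplexShape.up ℤ).next p₀ ≠ p₀
    rw [CochainComplex.next]; omega)).eq_of_tgt _ _
  let e2 : P.homology p₀ ≅ P.X p₀ :=
    (ShortComplex.HomologyData.ofZeros (P.sc p₀) hf hg).left.homologyIso
  refine nonempty_iso_inD_shift_of_HD_single K p₀ (-p₀) (by omega) (fun i hi => ?_) R
    (((eHP p₀).symm ≪≫ e2).toLinearEquiv.trans e1.symm)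
  exact ModuleCat.subsingleton_of_isZero (IsZero.of_iso
    (ShortComplex.isZero_homology_of_isZero_X₂ _ (hz i hi)) (eHP i).symm)

end Rank

section ESZero

variable {A B : Type u} [CommRing A] [CommRing B] (φ : A →+* B)

/-- extension of scalars kills a map whose composite with the unit `n ↦ 1 ⊗ n` vanishes -/
lemma extendScalars_map_eq_zero {M N : ModuleCat.{u} A} (g : M ⟶ N)
    (h : g ≫ (ModuleCat.extendRestrictScalarsAdj φ).unit.app N = 0) :
    (ModuleCat.extendScalars.{u, u, u} φ).map g = 0 := by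
  refine ModuleCat.ExtendScalars.hom_ext (fun m => ?_)
  have h1 := congrArg (fun k => k.hom m) h
  exact h1

/-- the converse -/
lemma comp_unit_eq_zero {M N : ModuleCat.{u} A} (g : M ⟶ N)
    (h : (ModuleCat.extendScalars.{u, u, u} φ).map g = 0) :
    g ≫ (ModuleCat.extendRestrictScalarsAdj φ).unit.app N = 0 := by
  have h1 := (ModuleCat.extendRestrictScalarsAdj φ).unit.naturality g
  simp only [Functor.id_map, Functor.comp_map] at h1
  rw [h1, h, Functor.map_zero, comp_zero]

/-- the tensor product of two complexes with vanishing differentials after extension of scalars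
has vanishing differentials after extension of scalars -/
theorem ESc_tensor_d_eq_zero (P₁ P₂ : Cx A)
    (h₁ : ∀ i : ℤ, ((ESc φ).obj P₁).d i (i + 1) = 0)
    (h₂ : ∀ i : ℤ, ((ESc φ).obj P₂).d i (i + 1) = 0) (n : ℤ) :
    ((ESc φ).obj (P₁ ⊗ P₂)).d n (n + 1) = 0 := by
  show (ModuleCat.extendScalars.{u, u, u} φ).map ((P₁ ⊗ P₂ : Cx A).d n (n + 1)) = 0
  apply extendScalars_map_eq_zero
  apply hom_ext_tensor
  intro p q hpq x y
  rw [ModuleCat.hom_comp, LinearMap.comp_apply, d_ιt p q n (n + 1) hpq rfl x y, map_add,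
    ModuleCat.hom_zero, LinearMap.zero_apply]
  have e1 : ((ModuleCat.extendRestrictScalarsAdj φ).unit.app ((P₁ ⊗ P₂ : Cx A).X (n + 1))).hom
      (ιt P₁ P₂ (p + 1) q (n + 1) (by omega) ((P₁.d p (p + 1)).hom x) y) = 0 := by
    let f : P₁.X (p + 1) ⟶ (P₁ ⊗ P₂ : Cx A).X (n + 1) :=
      ModuleCat.ofHom
        ((HomologicalComplex.ιTensorObj P₁ P₂ (p + 1) q (n + 1) (by omega)).hom.comp
          ((TensorProduct.mk A (P₁.X (p + 1)) (P₂.X q)).flip y))
    have hf : ∀ z, f.hom z = ιt P₁ P₂ (p + 1) q (n + 1) (by omega) z y := fun z => rfl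
    have h3 := comp_unit_eq_zero φ (P₁.d p (p + 1)) (h₁ p)
    have h4 := (ModuleCat.extendRestrictScalarsAdj φ).unit.naturality f
    simp only [Functor.id_map, Functor.comp_map] at h4
    have h5 := congrArg (fun k => k.hom ((P₁.d p (p + 1)).hom x)) h4
    simp only [ModuleCat.hom_comp, LinearMap.comp_apply] at h5
    rw [← hf, h5]
    have h6 := congrArg (fun k => k.hom x) h3
    simp only [ModuleCat.hom_comp, LinearMap.comp_apply, ModuleCat.hom_zero,
      LinearMap.zero_apply] at h6
    erw [h6]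
    exact map_zero _
  have e2 : ((ModuleCat.extendRestrictScalarsAdj φ).unit.app ((P₁ ⊗ P₂ : Cx A).X (n + 1))).hom
      (ιt P₁ P₂ p (q + 1) (n + 1) (by omega) x ((P₂.d q (q + 1)).hom y)) = 0 := by
    let f : P₂.X (q + 1) ⟶ (P₁ ⊗ P₂ : Cx A).X (n + 1) :=
      ModuleCat.ofHom
        ((HomologicalComplex.ιTensorObj P₁ P₂ p (q + 1) (n + 1) (by omega)).hom.comp
          (TensorProduct.mk A (P₁.X p) (P₂.X (q + 1)) x))
    have hf : ∀ z, f.hom z = ιt P₁ P₂ p (q + 1) (n + 1) (by omega) x z := fun z => rfl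
    have h3 := comp_unit_eq_zero φ (P₂.d q (q + 1)) (h₂ q)
    have h4 := (ModuleCat.extendRestrictScalarsAdj φ).unit.naturality f
    simp only [Functor.id_map, Functor.comp_map] at h4
    have h5 := congrArg (fun k => k.hom ((P₂.d q (q + 1)).hom y)) h4
    simp only [ModuleCat.hom_comp, LinearMap.comp_apply] at h5
    rw [← hf, h5]
    have h6 := congrArg (fun k => k.hom y) h3
    simp only [ModuleCat.hom_comp, LinearMap.comp_apply, ModuleCat.hom_zero,
      LinearMap.zero_apply] at h6
    erw [h6]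
    exact map_zero _
  rw [e1, zero_add]
  rcases Int.units_eq_one_or (p.negOnePow : ℤˣ) with hu | hu
  · rw [hu, one_smul, e2]
  · rw [hu, Units.neg_smul, one_smul, map_neg, e2, neg_zero]

end ESZero

end Groth.Agent.Lib.InvCxH6
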