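import Mathlib
import Groth.Agent.Lib.InvCx1_helper6

/-!
# Invertible objects of `D(A)` over a local ring (helper6), part 2: ranks of the tensor product of
minimal complexes, and S11182.
-/

set_option autoImplicit false
universe u
open CategoryTheory CategoryTheory.Limits DerivedCategory Pretriangulated MonoidalCategory
open scoped TensorProduct
attribute [local instance] HasDerivedCategory.standard

namespace Groth.Agent.Lib.InvCxH6

open DRing Groth.Agent.Lib.DMod_helper6 Groth.Agent.ExtendScalarsLib Groth.Agent.Lib.PcLift_helper6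
  Groth.Agent.Lib.HomCx Groth.Agent.Lib.DRingLT Groth.Agent.Lib.TrivBCH6

section RankIneq

variable {R : Type u} [CommRing R] [Nontrivial R] (P₁ P₂ : Cx R)

/-- the rank of a summand of a term of the tensor product is at most the rank of the term -/
lemma finrank_mul_le (p q n : ℤ) (h : p + q = n) [Module.Finite R ((P₁ ⊗ P₂ : Cx R).X n)]
    [Module.Free R (P₁.X p)] [Module.Free R (P₂.X q)] :
    Module.finrank R (P₁.X p) * Module.finrank R (P₂.X q) ≤
      Module.finrank R ((P₁ ⊗ P₂ : Cx R).X n) := by
  haveI : Mono (HomologicalComplex.ιTensorObj P₁ P₂ p q n h) := by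
    have : HomologicalComplex.ιTensorObj P₁ P₂ p q n h =
        Sigma.ι (summand P₁ P₂ n) ⟨(p, q), h⟩ := rfl
    rw [this]
    exact MonoCoprod.mono_ι _ _
  have hinj : Function.Injective (HomologicalComplex.ιTensorObj P₁ P₂ p q n h).hom :=
    (ModuleCat.mono_iff_injective _).1 inferInstance
  have h1 := LinearMap.finrank_le_finrank_of_injective hinj
  have h2 : Module.finrank R (P₁.X p ⊗ P₂.X q : ModuleCat.{u} R) =
      Module.finrank R (P₁.X p) * Module.finrank R (P₂.X q) :=
    Module.finrank_tensorProduct (R := R) (S := R) (M := P₁.X p) (M' := P₂.X q)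
  rw [← h2]
  exact h1

end RankIneq

section MinTensor

variable (R : Type u) [CommRing R] [IsLocalRing R]
  [DRing.HasLBaseChange (Ideal.Quotient.mk (IsLocalRing.maximalIdeal R))]

/-- for a bounded above complex of finite free modules whose differentials vanish modulo the
maximal ideal, the ranks are the dimensions of the cohomology of the derived fibre. -/
theorem finrank_eq_of_ESc_d_eq_zero (K : Dual.D R) (T : Cx R) (b : ℤ) (hTb : VanishesAbove T b)
    (hTt : ∀ i : ℤ, Module.Free R (T.X i) ∧ Module.Finite R (T.X i)) (eT : toD T ≅ K)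
    (hd : ∀ i : ℤ, ((ESc (Ideal.Quotient.mk (IsLocalRing.maximalIdeal R))).obj T).d i (i + 1) = 0)
    (n : ℤ) :
    letI : Field (R ⧸ IsLocalRing.maximalIdeal R) := Ideal.Quotient.field _
    Module.finrank R (T.X n) = Module.finrank (R ⧸ IsLocalRing.maximalIdeal R)
      (Dual.HD (R ⧸ IsLocalRing.maximalIdeal R)
        ((LBaseChange (Ideal.Quotient.mk (IsLocalRing.maximalIdeal R))).obj K) n) := by
  letI : Field (R ⧸ IsLocalRing.maximalIdeal R) := Ideal.Quotient.field _
  have hTp : ∀ i, Module.Projective R (T.X i) := fun i => by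
    haveI := (hTt i).1
    infer_instance
  obtain ⟨eH⟩ := nonempty_HD_equiv R K T b hTb hTp eT n
  set Tb := (ESc (Ideal.Quotient.mk (IsLocalRing.maximalIdeal R))).obj T with hTbdef
  have hf : (Tb.sc n).f = 0 := by
    show Tb.d ((ComplexShape.up ℤ).prev n) n = 0
    rw [CochainComplex.prev]
    have := hd (n - 1)
    rwa [sub_add_cancel] at this
  have hg : (Tb.sc n).g = 0 := by
    show Tb.d n ((ComplexShape.up ℤ).next n) = 0
    rw [CochainComplex.next]
    exact hd n
  let e2 : Tb.homology n ≅ Tb.X n :=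
    (ShortComplex.HomologyData.ofZeros (Tb.sc n) hf hg).left.homologyIso
  rw [eH.finrank_eq, e2.toLinearEquiv.finrank_eq]
  haveI := (hTt n).1
  exact (finrank_ES_eq R (T.X n)).symm

/-- the derived fibre of `R[0]` -/
lemma finrank_HD_fibre_self (n : ℤ) :
    letI : Field (R ⧸ IsLocalRing.maximalIdeal R) := Ideal.Quotient.field _
    Module.finrank (R ⧸ IsLocalRing.maximalIdeal R)
      (Dual.HD (R ⧸ IsLocalRing.maximalIdeal R)
        ((LBaseChange (Ideal.Quotient.mk (IsLocalRing.maximalIdeal R))).obj (Dual.inD R R)) n) =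
      if n = 0 then 1 else 0 := by
  letI : Field (R ⧸ IsLocalRing.maximalIdeal R) := Ideal.Quotient.field _
  obtain ⟨e⟩ : Nonempty ((LBaseChange (Ideal.Quotient.mk (IsLocalRing.maximalIdeal R))).obj
      (Dual.inD R R) ≅ Dual.inD (R ⧸ IsLocalRing.maximalIdeal R)
        (R ⧸ IsLocalRing.maximalIdeal R)) :=
    nonempty_lBaseChange_inD_self (R := R) (k := R ⧸ IsLocalRing.maximalIdeal R)
  have e1 := (homologyFunctor (ModuleCat.{u} (R ⧸ IsLocalRing.maximalIdeal R)) n).mapIso e
  rw [e1.toLinearEquiv.finrank_eq]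
  split_ifs with hn
  · subst hn
    rw [(HDinDIso (ModuleCat.of (R ⧸ IsLocalRing.maximalIdeal R)
      (R ⧸ IsLocalRing.maximalIdeal R))).toLinearEquiv.finrank_eq]
    exact Module.finrank_self _
  · haveI : Subsingleton ((homologyFunctor (ModuleCat.{u} (R ⧸ IsLocalRing.maximalIdeal R)) n).obj
        (Dual.inD (R ⧸ IsLocalRing.maximalIdeal R) (R ⧸ IsLocalRing.maximalIdeal R))) :=
      ModuleCat.subsingleton_of_isZero (isZero_HD_inD (ModuleCat.of
        (R ⧸ IsLocalRing.maximalIdeal R) (R ⧸ IsLocalRing.maximalIdeal R)) n hn)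
    exact Module.finrank_zero_of_subsingleton

end MinTensor

end Groth.Agent.Lib.InvCxH6
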