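import Mathlib
import Groth.Agent.Lib.InvCx2_helper6

/-!
# Invertible objects of `D(A)` over a local ring (helper6), part 3: S11182.
-/

set_option autoImplicit false
universe u
open CategoryTheory CategoryTheory.Limits DerivedCategory Pretriangulated MonoidalCategory
open scoped TensorProduct
attribute [local instance] HasDerivedCategory.standard

namespace Groth.Agent.Lib.InvCxH6

open DRing Groth.Agent.Lib.DMod_helper6 Groth.Agent.ExtendScalarsLib Groth.Agent.Lib.PcLift_helper6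
  Groth.Agent.Lib.HomCx Groth.Agent.Lib.DRingLT Groth.Agent.Lib.TrivBCH6
  Groth.Agent.Lib.KFlatMod

section Main

/-- **S11182** -/
theorem main11182 (A : Type u) [CommRing A] [IsLocalRing A] [IsNoetherianRing A] (L : Dual.D A)
    (E : DRing.Cx A) [DRing.HasLTensorCx A E]
    (hLfin : ∀ i : ℤ, Module.Finite A (Dual.HD A L i))
    (hLbdd : ∃ b : ℤ, ∀ i : ℤ, b < i → Subsingleton (Dual.HD A L i))
    (hEfin : ∀ i : ℤ, Module.Finite A (Dual.HD A (DRing.toD E) i))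
    (hEbdd : ∃ b : ℤ, ∀ i : ℤ, b < i → Subsingleton (Dual.HD A (DRing.toD E) i))
    (h : Nonempty ((DRing.LTensorCx A E).obj L ≅ Dual.inD A A)) :
    ∃ n : ℤ, Nonempty (L ≅ (Dual.inD A A)⟦n⟧) ∧
      Nonempty (DRing.toD E ≅ (Dual.inD A A)⟦(-n)⟧) := by
  haveI : HasLBaseChange (Ideal.Quotient.mk (IsLocalRing.maximalIdeal A)) :=
    hasLBaseChange_general _
  letI : Field (A ⧸ IsLocalRing.maximalIdeal A) := Ideal.Quotient.field _
  have hpcL : IsPseudoCoherent' A L := isPseudoCoherent'_of_homology L hLbdd (fun j => by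
    haveI := hLfin j
    exact isPseudoCoherentModule'_of_finite _)
  have hpcE : IsPseudoCoherent' A (toD E) := isPseudoCoherent'_of_homology _ hEbdd (fun j => by
    haveI := hEfin j
    exact isPseudoCoherentModule'_of_finite _)
  obtain ⟨-, -, ⟨P₁, hP₁⟩, -⟩ := min_main A L hpcL
  obtain ⟨-, -, ⟨P₂, hP₂⟩, -⟩ := min_main A (toD E) hpcE
  have hd₁ := ESc_d_eq_zero A L P₁ hP₁
  have hd₂ := ESc_d_eq_zero A (toD E) P₂ hP₂
  obtain ⟨⟨b₁, hb₁⟩, ht₁, ⟨e₁⟩⟩ := hP₁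
  obtain ⟨⟨b₂, hb₂⟩, ht₂, ⟨e₂⟩⟩ := hP₂
  have hKF : KF A P₁ := kf_of_vanishesAbove P₁ b₁ hb₁ (fun i => by
    haveI := (ht₁ i).1
    infer_instance)
  obtain ⟨eT0⟩ := nonempty_LTensorCx_iso E L P₁ P₂ hKF e₁ e₂
  obtain ⟨h⟩ := h
  let eT : toD (P₁ ⊗ P₂ : Cx A) ≅ Dual.inD A A := eT0 ≪≫ h
  have hTb : VanishesAbove (P₁ ⊗ P₂ : Cx A) (b₁ + b₂) := vanishesAbove_tensor P₁ P₂ b₁ b₂ hb₁ hb₂
  have hz : ∀ n p q : ℤ, p + q = n → (p < n - b₂ ∨ b₁ < p) → IsZero (P₁.X p ⊗ P₂.X q) := by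
    intro n p q hpq hp
    rcases hp with hp | hp
    · exact isZero_tensor_right _ (hb₂ q (by omega))
    · exact isZero_tensor_left _ (hb₁ p hp)
  have hTt : ∀ n : ℤ, Module.Free A ((P₁ ⊗ P₂ : Cx A).X n) ∧
      Module.Finite A ((P₁ ⊗ P₂ : Cx A).X n) := fun n =>
    ⟨free_tensor_X P₁ P₂ n (n - b₂) b₁ (hz n) (fun p => (ht₁ p).1) (fun q => (ht₂ q).1),
      finite_tensor_X P₁ P₂ n (n - b₂) b₁ (hz n) (fun p => (ht₁ p).2.1) (fun q => (ht₂ q).2.1)⟩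
  have hdT := ESc_tensor_d_eq_zero (Ideal.Quotient.mk (IsLocalRing.maximalIdeal A)) P₁ P₂ hd₁ hd₂
  have hrank : ∀ n : ℤ, Module.finrank A ((P₁ ⊗ P₂ : Cx A).X n) = if n = 0 then 1 else 0 := by
    intro n
    rw [finrank_eq_of_ESc_d_eq_zero A (Dual.inD A A) (P₁ ⊗ P₂ : Cx A) (b₁ + b₂) hTb hTt eT hdT n,
      finrank_HD_fibre_self]
  -- the ranks of the two minimal complexes
  have ineq : ∀ p q : ℤ, Module.finrank A (P₁.X p) * Module.finrank A (P₂.X q) ≤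
      if p + q = 0 then 1 else 0 := by
    intro p q
    haveI := (hTt (p + q)).2
    haveI := (ht₁ p).1
    haveI := (ht₂ q).1
    have := finrank_mul_le P₁ P₂ p q (p + q) rfl
    rwa [hrank] at this
  have hne : ¬ IsZero ((P₁ ⊗ P₂ : Cx A).X 0) := fun hz0 => by
    haveI : Subsingleton ((P₁ ⊗ P₂ : Cx A).X 0) := ModuleCat.subsingleton_of_isZero hz0
    have h1 := Module.finrank_zero_of_subsingleton (R := A) (M := (P₁ ⊗ P₂ : Cx A).X 0)
    rw [hrank 0] at h1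
    simp at h1
  have hex : ∃ p q : ℤ, p + q = 0 ∧ ¬ IsZero (P₁.X p) ∧ ¬ IsZero (P₂.X q) := by
    by_contra hcon
    push_neg at hcon
    refine hne (isZero_tensor_X P₁ P₂ 0 (fun p q hpq => ?_))
    by_cases hp : IsZero (P₁.X p)
    · exact Or.inl hp
    · exact Or.inr (hcon p q hpq hp)
  obtain ⟨p₀, q₀, hpq, hp, hq⟩ := hex
  have hpos₁ : 1 ≤ Module.finrank A (P₁.X p₀) := by
    haveI := (ht₁ p₀).1
    haveI := (ht₁ p₀).2.1
    rw [Nat.one_le_iff_ne_zero]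
    intro h0
    haveI : Subsingleton (P₁.X p₀) := (Module.finrank_eq_zero_iff_of_free A (P₁.X p₀)).1 h0
    exact hp (ModuleCat.isZero_of_subsingleton _)
  have hpos₂ : 1 ≤ Module.finrank A (P₂.X q₀) := by
    haveI := (ht₂ q₀).1
    haveI := (ht₂ q₀).2.1
    rw [Nat.one_le_iff_ne_zero]
    intro h0
    haveI : Subsingleton (P₂.X q₀) := (Module.finrank_eq_zero_iff_of_free A (P₂.X q₀)).1 h0
    exact hq (ModuleCat.isZero_of_subsingleton _)
  have h00 := ineq p₀ q₀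
  rw [if_pos hpq] at h00
  have hr₁ : Module.finrank A (P₁.X p₀) = 1 := by nlinarith
  have hr₂ : Module.finrank A (P₂.X q₀) = 1 := by nlinarith
  have hz₁ : ∀ i : ℤ, i ≠ p₀ → Module.finrank A (P₁.X i) = 0 := by
    intro i hi
    have := ineq i q₀
    rw [if_neg (by omega), hr₂, mul_one] at this
    omega
  have hz₂ : ∀ i : ℤ, i ≠ q₀ → Module.finrank A (P₂.X i) = 0 := by
    intro i hi
    have := ineq p₀ i
    rw [if_neg (by omega), hr₁, one_mul] at this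
    omega
  obtain ⟨i1⟩ := nonempty_iso_shift_of_finrank L P₁ e₁ (fun i => ⟨(ht₁ i).1, (ht₁ i).2.1⟩) p₀
    hz₁ hr₁
  obtain ⟨i2⟩ := nonempty_iso_shift_of_finrank (toD E) P₂ e₂
    (fun i => ⟨(ht₂ i).1, (ht₂ i).2.1⟩) q₀ hz₂ hr₂
  refine ⟨-p₀, ⟨i1⟩, ?_⟩
  have hq₀ : -(-p₀) = -q₀ := by omega
  rw [hq₀]
  exact ⟨i2⟩

end Main

end Groth.Agent.Lib.InvCxH6
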