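import Mathlib

/-! Invariants commute with flat base change. -/

namespace Groth.Agent.Lib.InvFlat

open TensorProduct

universe u v w w'

variable (R : Type u) [CommRing R] (B : Type v) [CommRing B] [Algebra R B]
  (Γ : Type w) [Group Γ] [Fintype Γ] [MulSemiringAction Γ B] [SMulCommClass Γ R B]
  (R' : Type w') [CommRing R'] [Algebra R R']

/-- `b ↦ (γ b - b)_γ`. -/
noncomputable def φ : B →ₗ[R] (Γ → B) :=
  LinearMap.pi (fun γ => (MulSemiringAction.toAlgHom R B γ).toLinearMap - LinearMap.id)

omit [Fintype Γ] in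
lemma mem_ker_φ (b : B) : b ∈ LinearMap.ker (φ R B Γ) ↔ ∀ γ : Γ, γ • b = b := by
  rw [LinearMap.mem_ker, funext_iff]
  simp only [φ, LinearMap.pi_apply, LinearMap.sub_apply, AlgHom.toLinearMap_apply,
    MulSemiringAction.toAlgHom_apply, LinearMap.id_apply, Pi.zero_apply, sub_eq_zero]

lemma piRight_lTensor_φ [DecidableEq Γ] (x : R' ⊗[R] B) (γ : Γ) :
    TensorProduct.piRight R R R' (fun _ : Γ => B) ((φ R B Γ).lTensor R' x) γ =
      Algebra.TensorProduct.map (AlgHom.id R R') (MulSemiringAction.toAlgHom R B γ) x - x := by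
  induction x using TensorProduct.induction_on with
  | zero => simp
  | tmul r b =>
    simp only [LinearMap.lTensor_tmul, piRight_apply, piRightHom_tmul, φ, LinearMap.pi_apply,
      LinearMap.sub_apply, AlgHom.toLinearMap_apply, MulSemiringAction.toAlgHom_apply,
      LinearMap.id_apply, Algebra.TensorProduct.map_tmul, AlgHom.coe_id, id_eq, tmul_sub]
  | add x y hx hy =>
    simp only [map_add, Pi.add_apply, hx, hy]
    abel

theorem fixed_iff [Module.Flat R R'] (x : R' ⊗[R] B) :
    (∀ γ : Γ, Algebra.TensorProduct.map (AlgHom.id R R') (MulSemiringAction.toAlgHom R B γ) x = x) ↔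
      x ∈ Submodule.span R' ((fun b : B => (1 : R') ⊗ₜ[R] b) '' {b : B | ∀ γ : Γ, γ • b = b}) := by
  classical
  have hex := Module.Flat.lTensor_exact R' (LinearMap.exact_subtype_ker_map (φ R B Γ))
  have h1 : (∀ γ : Γ, Algebra.TensorProduct.map (AlgHom.id R R')
      (MulSemiringAction.toAlgHom R B γ) x = x) ↔ (φ R B Γ).lTensor R' x = 0 := by
    rw [← (TensorProduct.piRight R R R' (fun _ : Γ => B)).map_eq_zero_iff, funext_iff]
    refine forall_congr' fun γ => ?_
    rw [piRight_lTensor_φ, Pi.zero_apply, sub_eq_zero]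
  rw [h1, hex x]
  -- range of `lTensor` as a span
  have h2 : Set.range ((LinearMap.ker (φ R B Γ)).subtype.lTensor R') =
      (Submodule.span R' ((fun b : B => (1 : R') ⊗ₜ[R] b) '' {b : B | ∀ γ : Γ, γ • b = b}) :
        Set (R' ⊗[R] B)) := by
    apply Set.Subset.antisymm
    · rintro _ ⟨z, rfl⟩
      induction z using TensorProduct.induction_on with
      | zero => simp
      | tmul r k =>
        rw [LinearMap.lTensor_tmul, Submodule.coe_subtype]
        have : r ⊗ₜ[R] (k : B) = r • ((1 : R') ⊗ₜ[R] (k : B)) := by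
          rw [TensorProduct.smul_tmul', smul_eq_mul, mul_one]
        rw [this]
        exact Submodule.smul_mem _ _ (Submodule.subset_span
          ⟨k, (mem_ker_φ R B Γ _).mp k.2, rfl⟩)
      | add x y hx hy =>
        rw [map_add]
        exact Submodule.add_mem _ hx hy
    · intro y hy
      have hrange : Set.range ((LinearMap.ker (φ R B Γ)).subtype.lTensor R') =
          (LinearMap.range ((LinearMap.ker (φ R B Γ)).subtype.baseChange R') :
            Set (R' ⊗[R] B)) := by
        ext y
        simp only [Set.mem_range, SetLike.mem_coe, LinearMap.mem_range,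
          LinearMap.baseChange_eq_ltensor]
      rw [hrange]
      refine (Submodule.span_le (p := LinearMap.range
        ((LinearMap.ker (φ R B Γ)).subtype.baseChange R')).mpr ?_) hy
      rintro _ ⟨b, hb, rfl⟩
      exact ⟨(1 : R') ⊗ₜ[R] (⟨b, (mem_ker_φ R B Γ b).mpr hb⟩ : LinearMap.ker (φ R B Γ)), by
        simp⟩
  rw [← SetLike.mem_coe, ← h2]

end Groth.Agent.Lib.InvFlat
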