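import Mathlib

set_option autoImplicit false
universe u

namespace Groth.Agent.Lib.InvGen

variable (A : Type u) [CommRing A]

theorem finite_maxSpec {ι : Type} [Finite ι] [Nonempty ι] (p : ι → PrimeSpectrum A) :
    Finite (MaximalSpectrum (Localization (⨅ i, (p i).asIdeal.primeCompl))) := by
  classical
  haveI := Fintype.ofFinite ι
  obtain ⟨S, hS⟩ : ∃ S : Submonoid A, S = ⨅ i, (p i).asIdeal.primeCompl := ⟨_, rfl⟩
  rw [← hS]
  have hmemS : ∀ x : A, x ∈ S ↔ ∀ i, x ∉ (p i).asIdeal := by
    intro x
    rw [hS, Submonoid.mem_iInf]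
    rfl
  have hdisj : ∀ i, Disjoint (S : Set A) ((p i).asIdeal : Set A) := by
    intro i
    rw [Set.disjoint_left]
    intro x hx hx'
    exact (hmemS x).1 hx i hx'
  have key : ∀ 𝔪 : MaximalSpectrum (Localization S), 𝔪.asIdeal ∈
      Set.range (fun i => (p i).asIdeal.map (algebraMap A (Localization S))) := by
    intro 𝔪
    have hprime : 𝔪.asIdeal.IsPrime := 𝔪.isMaximal.isPrime
    obtain ⟨hq, hqd⟩ :=
      (IsLocalization.isPrime_iff_isPrime_disjoint S (Localization S) 𝔪.asIdeal).1 hprime
    have hsub : ((𝔪.asIdeal.under A : Ideal A) : Set A) ⊆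
        ⋃ i ∈ ((Finset.univ : Finset ι) : Set ι), ((p i).asIdeal : Set A) := by
      intro x hx
      have hxS : x ∉ S := fun h => Set.disjoint_left.1 hqd h hx
      rw [hmemS] at hxS
      push_neg at hxS
      obtain ⟨i, hi⟩ := hxS
      exact Set.mem_biUnion (Finset.mem_coe.2 (Finset.mem_univ i)) hi
    obtain ⟨i0⟩ := ‹Nonempty ι›
    obtain ⟨i, -, hi⟩ := (Ideal.subset_union_prime (s := Finset.univ)
      (f := fun i => (p i).asIdeal) i0 i0 (fun i _ _ _ => (p i).isPrime)).1 hsub
    refine ⟨i, ?_⟩
    have hle : 𝔪.asIdeal ≤ (p i).asIdeal.map (algebraMap A (Localization S)) := by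
      rw [← IsLocalization.map_under S (Localization S) 𝔪.asIdeal]
      exact Ideal.map_mono hi
    have hne : (p i).asIdeal.map (algebraMap A (Localization S)) ≠ ⊤ :=
      (IsLocalization.map_algebraMap_ne_top_iff_disjoint S (Localization S) _).2 (hdisj i)
    exact (𝔪.isMaximal.eq_of_le hne hle).symm
  exact Finite.of_injective
    (fun 𝔪 : MaximalSpectrum (Localization S) =>
      (⟨𝔪.asIdeal, key 𝔪⟩ :
        Set.range (fun i => (p i).asIdeal.map (algebraMap A (Localization S)))))
    (fun a b hab => MaximalSpectrum.ext (congrArg Subtype.val hab))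

theorem main (M : Type u) [AddCommGroup M] [Module A M]
    [Module.Invertible A M] (ι : Type) [Finite ι] (p : ι → PrimeSpectrum A) :
    ∃ s : M, ∀ i : ι, Submodule.span (Localization.AtPrime (p i).asIdeal)
      {LocalizedModule.mkLinearMap (p i).asIdeal.primeCompl M s} = ⊤ := by
  cases isEmpty_or_nonempty ι with
  | inl h => exact ⟨0, fun i => (h.false i).elim⟩
  | inr h =>
  haveI hfin := finite_maxSpec A p
  obtain ⟨S, hS⟩ : ∃ S : Submonoid A, S = ⨅ i, (p i).asIdeal.primeCompl := ⟨_, rfl⟩
  rw [← hS] at hfin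
  haveI : Module.Free (Localization S) (LocalizedModule S M) := inferInstance
  obtain ⟨e⟩ := (Module.Invertible.free_iff_linearEquiv (R := Localization S)
    (M := LocalizedModule S M)).1 inferInstance
  obtain ⟨m, u, hmu⟩ : ∃ (m : M) (u : S), e.symm 1 = LocalizedModule.mk m u :=
    LocalizedModule.induction_on (β := fun x => ∃ (m : M) (u : S), x = LocalizedModule.mk m u)
      (fun m s => ⟨m, s, rfl⟩) (e.symm 1)
  have claim : ∀ m' : M, ∃ (a : A) (v w : S),
      w • (v * u) • m' = w • (1 : S) • (a • m) := by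
    intro m'
    obtain ⟨a, v, hav⟩ : ∃ (a : A) (v : S),
        e (LocalizedModule.mk m' 1) = Localization.mk a v :=
      Localization.induction_on (p := fun x => ∃ (a : A) (v : S), x = Localization.mk a v)
        (e (LocalizedModule.mk m' 1)) (fun y => ⟨y.1, y.2, rfl⟩)
    have h1 : LocalizedModule.mk m' (1 : S) = LocalizedModule.mk (a • m) (v * u) := by
      calc LocalizedModule.mk m' (1 : S)
          = e.symm (e (LocalizedModule.mk m' 1)) := (e.symm_apply_apply _).symm
        _ = e.symm (Localization.mk a v • (1 : Localization S)) := by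
            rw [hav, smul_eq_mul, mul_one]
        _ = Localization.mk a v • e.symm 1 := map_smul _ _ _
        _ = LocalizedModule.mk (a • m) (v * u) := by rw [hmu, LocalizedModule.mk_smul_mk]
    obtain ⟨w, hw⟩ := LocalizedModule.mk_eq.1 h1
    exact ⟨a, v, w, hw⟩
  refine ⟨m, fun i => ?_⟩
  have hle : S ≤ (p i).asIdeal.primeCompl := by rw [hS]; exact iInf_le _ i
  rw [eq_top_iff]
  intro y _
  induction y using LocalizedModule.induction_on with
  | h m' t =>
    obtain ⟨a, v, w, hw⟩ := claim m'
    rw [LocalizedModule.mkLinearMap_apply, Submodule.mem_span_singleton]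
    refine ⟨Localization.mk ((w : A) * a)
      ((⟨((w * (v * u) : S) : A), hle (w * (v * u)).2⟩ : (p i).asIdeal.primeCompl) * t), ?_⟩
    rw [LocalizedModule.mk_smul_mk, LocalizedModule.mk_eq]
    refine ⟨1, ?_⟩
    simp only [Submonoid.smul_def, Submonoid.coe_mul, Submonoid.coe_one, one_smul, mul_one,
      ← mul_smul] at hw ⊢
    rw [mul_smul, ← hw, ← mul_smul, mul_comm]

end Groth.Agent.Lib.InvGen
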