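import Groth.Statements.S5369
import Groth.Agent.Lib.HomogTower_lead
import Groth.Agent.Lib.EtaleQuotOpen_lead

/-! # `G/G'` separated iff `G' → G` closed immersion iff unit section of `G/G'` closed (lead) -/

universe u

theorem Groth.Agent.Lib.QuotSep.closedImm_id (S : AlgebraicGeometry.Scheme.{u}) :
    AlgebraicGeometry.IsClosedImmersion (CategoryTheory.CategoryStruct.id S) := inferInstance

theorem Groth.Agent.Lib.QuotSep.imm_id (S : AlgebraicGeometry.Scheme.{u}) :
    AlgebraicGeometry.IsImmersion (CategoryTheory.CategoryStruct.id S) := inferInstance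

set_option backward.isDefEq.respectTransparency false
set_option backward.isDefEq.respectTransparency.types false
set_option linter.unusedSimpArgs false
set_option linter.unusedVariables false
set_option linter.unusedSectionVars false
set_option linter.style.longLine false
set_option linter.style.haveILetI false
set_option maxHeartbeats 800000

open CategoryTheory CategoryTheory.Limits MonoidalCategory CartesianMonoidalCategory MonObj GrpObj
  AlgebraicGeometry Opposite Topology

namespace Groth.Agent.Lib.QuotSep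

open Groth.Agent.Lib.AssocBundle Groth.Agent.Lib.HomogTower Groth.Agent.Lib.TorsorProp_helper7
  Groth.Agent.Lib.EtaleQuotOpen

theorem singleton_mem_fpqc {Z Y : Scheme.{u}} (q : Z ⟶ Y) (hfl : Flat q) (hs : Surjective q)
    (h : ∀ V : Y.Opens, IsAffineOpen V →
      ∃ W : Z.Opens, IsCompact (W : Set Z) ∧ q.base '' (W : Set Z) = (V : Set Y)) :
    Presieve.singleton q ∈ Scheme.fpqcPrecoverage Y := by
  haveI hqc : QuasiCompactCover (Scheme.Hom.cover.{u, u} (P := @Flat) q hfl).toPreZeroHypercover := by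
    refine ⟨fun {U} hU => ?_⟩
    obtain ⟨W, hWc, hWU⟩ := h U hU
    rw [IsCompactOpenCovered.iff_of_unique]
    exact ⟨W, hWc, hWU⟩
  have h2 : (Scheme.Hom.cover.{u, u} (P := @Flat) q hfl).toPreZeroHypercover.presieve₀ ∈
      Scheme.qcPrecoverage Y := Scheme.presieve₀_mem_qcPrecoverage_iff.2 hqc
  rw [Scheme.Hom.presieve₀_cover] at h2
  show Presieve.singleton q ∈ Scheme.propQCPrecoverage @Flat Y
  refine ⟨h2, ?_⟩
  rw [Scheme.singleton_mem_precoverage_iff]
  exact ⟨q.surjective, hfl⟩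

theorem snd_of_sq {A B A' B' : Scheme.{u}} {f : A ⟶ B} {c : B' ⟶ B} {a : A' ⟶ A} {b : A' ⟶ B'}
    (sqA : IsPullback a b f c) (hb : IsClosedImmersion b) :
    IsClosedImmersion (pullback.snd f c) := by
  have e : sqA.isoPullback.hom ≫ pullback.snd f c = b := sqA.isoPullback_hom_snd
  have e' : pullback.snd f c = sqA.isoPullback.inv ≫ b := (Iso.eq_inv_comp _).2 e
  rw [e']
  infer_instance

theorem closedImm_of_cover' {A B C Z B' : Scheme.{u}} {f : A ⟶ B} {π : B ⟶ C} {q : Z ⟶ C}
    (hq : Presieve.singleton q ∈ Scheme.fpqcPrecoverage C)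
    {c : B' ⟶ B} {t : B' ⟶ Z} (sqB : IsPullback c t π q)
    (hbase : IsClosedImmersion (pullback.snd f c)) : IsClosedImmersion f := by
  haveI := isClosedImmersion_descends.{u}
  refine P_of_fpqc_aux @IsClosedImmersion f π hq (fun T g hg => ?_)
  cases hg
  have e : sqB.isoPullback.hom ≫ pullback.fst π q = c := sqB.isoPullback_hom_fst
  exact P_snd_precomp @IsClosedImmersion f c sqB.isoPullback.inv (pullback.fst π q)
    ((Iso.inv_comp_eq _).2 e.symm) hbase

theorem closedImm_of_cover {A B C Z A' B' : Scheme.{u}} {f : A ⟶ B} {π : B ⟶ C} {q : Z ⟶ C}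
    (hq : Presieve.singleton q ∈ Scheme.fpqcPrecoverage C)
    {c : B' ⟶ B} {t : B' ⟶ Z} (sqB : IsPullback c t π q)
    {a : A' ⟶ A} {b : A' ⟶ B'} (sqA : IsPullback a b f c) (hb : IsClosedImmersion b) :
    IsClosedImmersion f :=
  closedImm_of_cover' hq sqB (snd_of_sq sqA hb)

variable {S : Scheme.{u}}

theorem isPullback_whiskerRight' (B : Over S) {A' B' : Over S} (c' : A' ⟶ B') :
    IsPullback (c' ▷ B).left (fst A' B).left (fst B' B).left c'.left := by
  have h : IsPullback (c' ▷ B) (fst A' B) (fst B' B) c' := by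
    apply isPullback_of_exists_unique
    · exact whiskerRight_fst c' B
    · intro T x y hxy
      refine ⟨lift y (x ≫ snd B' B), ?_, lift_fst _ _⟩
      rw [lift_whiskerRight]
      apply CartesianMonoidalCategory.hom_ext
      · rw [lift_fst, hxy]
      · rw [lift_snd]
    · intro T l l' h1 h2
      apply CartesianMonoidalCategory.hom_ext
      · exact h2
      · have := congrArg (fun k => k ≫ snd B' B) h1
        simpa [Category.assoc, whiskerRight_snd] using this
  exact h.map (Over.forget S)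

variable {G G' G'' : Over S} [GrpObj G] (i : G' ⟶ G) [Mono i] (p : G ⟶ G'')
  (hsq : IsPullback ((G ◁ i) ≫ μ[G]) (fst G G') p p)

include hsq in
theorem cartA : IsPullback i (toUnit G') p (η[G] ≫ p) := by
  have sq := hsq.flip
  apply isPullback_of_exists_unique
  · have h1 := inv_pt i p sq (1 : G' ⟶ G) (𝟙 G')
    rw [Category.id_comp, _root_.one_mul] at h1
    rw [h1, Hom.one_def, Category.assoc]
  · intro T a b hab
    have hb : b = toUnit T := toUnit_unique _ _
    subst hb
    have h1 : (1 : T ⟶ G) ≫ p = a ≫ p := by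
      rw [hab, Hom.one_def, Category.assoc]
    obtain ⟨h, hh⟩ := diff_pt i p sq (1 : T ⟶ G) a h1
    rw [_root_.one_mul] at hh
    exact ⟨h, hh.symm, toUnit_unique _ _⟩
  · intro T l l' h1 _
    exact (cancel_mono i).1 h1

theorem eps_section : (η[G] ≫ p).left ≫ G''.hom = 𝟙 S := by
  rw [Over.w]; rfl

include hsq in
theorem immersion_i : IsImmersion i.left := by
  have sqA : IsPullback (toUnit G').left i.left (η[G] ≫ p).left p.left :=
    ((cartA i p hsq).map (Over.forget S)).flip
  haveI : IsImmersion ((η[G] ≫ p).left ≫ G''.hom) := by rw [eps_section]; exact imm_id S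
  have hε : IsImmersion (η[G] ≫ p).left := IsImmersion.of_comp _ G''.hom
  exact MorphismProperty.of_isPullback (P := @IsImmersion) sqA hε

include hsq in
theorem closed_i_of_eps (h : IsClosedImmersion (η[G] ≫ p).left) : IsClosedImmersion i.left := by
  have sqA : IsPullback (toUnit G').left i.left (η[G] ≫ p).left p.left :=
    ((cartA i p hsq).map (Over.forget S)).flip
  exact MorphismProperty.of_isPullback (P := @IsClosedImmersion) sqA h

include hsq in
theorem closed_eps_of_i {Z₀ : Scheme.{u}} (q₀ : Z₀ ⟶ G''.left) (r₀ : Z₀ ⟶ G.left)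
    (hrq₀ : r₀ ≫ p.left = q₀)
    (hq : Presieve.singleton q₀ ∈ Scheme.fpqcPrecoverage G''.left)
    (hu : IsClosedImmersion i.left) : IsClosedImmersion (η[G] ≫ p).left := by
  haveI := isClosedImmersion_descends.{u}
  have sqA : IsPullback (toUnit G').left i.left (η[G] ≫ p).left p.left :=
    ((cartA i p hsq).map (Over.forget S)).flip
  have h1 : IsClosedImmersion (pullback.snd (η[G] ≫ p).left p.left) := snd_of_sq sqA hu
  have h2 : IsClosedImmersion (pullback.snd (η[G] ≫ p).left q₀) :=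
    P_snd_precomp @IsClosedImmersion (η[G] ≫ p).left p.left r₀ q₀ hrq₀ h1
  have sqB : IsPullback q₀ (𝟙 Z₀) (𝟙 G''.left) q₀ := IsPullback.of_vert_isIso ⟨by simp⟩
  exact closedImm_of_cover' hq sqB h2

/-! ### the graph of `p` -/

noncomputable def a1 {Z : Over S} (r : Z ⟶ G) : Z ⊗ G' ⟶ G := (fst Z G' ≫ r) * (snd Z G' ≫ i)

noncomputable def b1 {Z : Over S} (r : Z ⟶ G) : Z ⊗ G' ⟶ G ⊗ Z := lift (a1 i r) (fst Z G')

noncomputable def m1 {Z : Over S} (r : Z ⟶ G) : G ⊗ Z ⟶ G := (snd G Z ≫ r)⁻¹ * fst G Z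

theorem a1_pt {Z T : Over S} (r : Z ⟶ G) (z : T ⟶ Z) (h : T ⟶ G') :
    lift z h ≫ a1 i r = (z ≫ r) * (h ≫ i) := by
  unfold a1
  rw [MonObj.comp_mul, lift_fst_assoc, lift_snd_assoc]

theorem b1_pt {Z T : Over S} (r : Z ⟶ G) (z : T ⟶ Z) (h : T ⟶ G') :
    lift z h ≫ b1 i r = lift ((z ≫ r) * (h ≫ i)) z := by
  unfold b1
  rw [comp_lift, a1_pt, lift_fst]

theorem m1_pt {Z T : Over S} (r : Z ⟶ G) (g : T ⟶ G) (z : T ⟶ Z) :
    lift g z ≫ m1 r = (z ≫ r)⁻¹ * g := by
  unfold m1
  rw [MonObj.comp_mul, GrpObj.comp_inv, lift_snd_assoc, lift_fst]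

theorem cartB1 {Z : Over S} (r : Z ⟶ G) : IsPullback (b1 i r) (snd Z G') (m1 r) i := by
  apply isPullback_of_exists_unique
  · have e : b1 i r = lift (fst Z G') (snd Z G') ≫ b1 i r := by
      rw [lift_fst_snd, Category.id_comp]
    rw [e, b1_pt, m1_pt, _root_.inv_mul_cancel_left]
  · intro T x h hxh
    obtain ⟨g, z, rfl⟩ : ∃ g z, x = lift g z := ⟨_, _, lift_eta x⟩
    rw [m1_pt] at hxh
    refine ⟨lift z h, ?_, lift_snd _ _⟩
    rw [b1_pt, ← hxh, _root_.mul_inv_cancel_left]
  · intro T l l' h1 h2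
    obtain ⟨z, h, rfl⟩ : ∃ z h, l = lift z h := ⟨_, _, lift_eta l⟩
    obtain ⟨z', h', rfl⟩ : ∃ z h, l' = lift z h := ⟨_, _, lift_eta l'⟩
    rw [b1_pt, b1_pt] at h1
    rw [lift_snd, lift_snd] at h2
    have e2 := congrArg (fun k => k ≫ snd G Z) h1
    simp only [lift_snd] at e2
    rw [e2, h2]

include hsq in
theorem cartA1 {Z : Over S} (q : Z ⟶ G'') (r : Z ⟶ G) (hrq : r ≫ p = q) :
    IsPullback (a1 i r) (b1 i r) (lift (𝟙 G) p) (G ◁ q) := by
  have sq := hsq.flip
  have hap : ∀ {T : Over S} (z : T ⟶ Z) (h : T ⟶ G'), ((z ≫ r) * (h ≫ i)) ≫ p = z ≫ q := by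
    intro T z h
    rw [inv_pt i p sq, Category.assoc, hrq]
  apply isPullback_of_exists_unique
  · have e : a1 i r = lift (fst Z G') (snd Z G') ≫ a1 i r := by
      rw [lift_fst_snd, Category.id_comp]
    have e' : b1 i r = lift (fst Z G') (snd Z G') ≫ b1 i r := by
      rw [lift_fst_snd, Category.id_comp]
    rw [e, e', a1_pt, b1_pt, comp_lift, Category.comp_id, lift_whiskerLeft, hap]
  · intro T x y hxy
    obtain ⟨g, z, rfl⟩ : ∃ g z, y = lift g z := ⟨_, _, lift_eta y⟩
    rw [comp_lift, Category.comp_id, lift_whiskerLeft] at hxy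
    have e1 := congrArg (fun k => k ≫ fst G G'') hxy
    have e2 := congrArg (fun k => k ≫ snd G G'') hxy
    simp only [lift_fst, lift_snd] at e1 e2
    subst e1
    have e3 : (z ≫ r) ≫ p = x ≫ p := by rw [Category.assoc, hrq, e2]
    obtain ⟨h, hh⟩ := diff_pt i p sq (z ≫ r) x e3
    refine ⟨lift z h, ?_, ?_⟩
    · rw [a1_pt]; exact hh.symm
    · rw [b1_pt, ← hh]
  · intro T l l' h1 h2
    obtain ⟨z, h, rfl⟩ : ∃ z h, l = lift z h := ⟨_, _, lift_eta l⟩
    obtain ⟨z', h', rfl⟩ : ∃ z h, l' = lift z h := ⟨_, _, lift_eta l'⟩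
    rw [a1_pt, a1_pt] at h1
    rw [b1_pt, b1_pt] at h2
    have e2 := congrArg (fun k => k ≫ snd G Z) h2
    simp only [lift_snd] at e2
    subst e2
    have e3 : h ≫ i = h' ≫ i := _root_.mul_left_cancel h1
    rw [(cancel_mono i).1 e3]

include hsq in
theorem graph_closed {Z : Over S} (q : Z ⟶ G'') (r : Z ⟶ G) (hrq : r ≫ p = q)
    (hq : Presieve.singleton q.left ∈ Scheme.fpqcPrecoverage G''.left)
    (hu : IsClosedImmersion i.left) : IsClosedImmersion (lift (𝟙 G) p).left := by
  have sqB : IsPullback (G ◁ q).left (snd G Z).left (snd G G'').left q.left :=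
    isPullback_whiskerLeft G q
  have sqA : IsPullback (a1 i r).left (b1 i r).left (lift (𝟙 G) p).left (G ◁ q).left :=
    (cartA1 i p hsq q r hrq).map (Over.forget S)
  have sqb : IsPullback (snd Z G').left (b1 i r).left i.left (m1 r).left :=
    ((cartB1 i r).map (Over.forget S)).flip
  have hb : IsClosedImmersion (b1 i r).left :=
    MorphismProperty.of_isPullback (P := @IsClosedImmersion) sqb hu
  exact closedImm_of_cover hq sqB sqA hb

/-! ### the diagonal of `G''` -/

theorem cartA2 {Z : Over S} (q : Z ⟶ G'') :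
    IsPullback q (lift (𝟙 Z) q) (lift (𝟙 G'') (𝟙 G'')) (q ▷ G'') := by
  apply isPullback_of_exists_unique
  · rw [comp_lift, Category.comp_id, lift_whiskerRight, Category.id_comp]
  · intro T x y hxy
    obtain ⟨z, x', rfl⟩ : ∃ z x', y = lift z x' := ⟨_, _, lift_eta y⟩
    rw [comp_lift, Category.comp_id, lift_whiskerRight] at hxy
    have e1 := congrArg (fun k => k ≫ fst G'' G'') hxy
    have e2 := congrArg (fun k => k ≫ snd G'' G'') hxy
    simp only [lift_fst, lift_snd] at e1 e2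
    refine ⟨z, e1.symm, ?_⟩
    rw [comp_lift, Category.comp_id, ← e1, e2]
  · intro T l l' _ h2
    have := congrArg (fun k => k ≫ fst Z G'') h2
    simpa using this

theorem cartB2 {Z : Over S} (q : Z ⟶ G'') (r : Z ⟶ G) (hrq : r ≫ p = q) :
    IsPullback r (lift (𝟙 Z) q) (lift (𝟙 G) p) (r ▷ G'') := by
  apply isPullback_of_exists_unique
  · rw [comp_lift, Category.comp_id, lift_whiskerRight, Category.id_comp, hrq]
  · intro T x y hxy
    obtain ⟨z, x', rfl⟩ : ∃ z x', y = lift z x' := ⟨_, _, lift_eta y⟩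
    rw [comp_lift, Category.comp_id, lift_whiskerRight] at hxy
    have e1 := congrArg (fun k => k ≫ fst G G'') hxy
    have e2 := congrArg (fun k => k ≫ snd G G'') hxy
    simp only [lift_fst, lift_snd] at e1 e2
    refine ⟨z, e1.symm, ?_⟩
    rw [comp_lift, Category.comp_id, ← hrq, ← Category.assoc, ← e1, e2]
  · intro T l l' _ h2
    have := congrArg (fun k => k ≫ fst Z G'') h2
    simpa using this

include hsq in
theorem separated_of_closed {Z : Over S} (q : Z ⟶ G'') (r : Z ⟶ G) (hrq : r ≫ p = q)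
    (hq : Presieve.singleton q.left ∈ Scheme.fpqcPrecoverage G''.left)
    (hu : IsClosedImmersion i.left) : IsSeparated G''.hom := by
  have hΓ := graph_closed i p hsq q r hrq hq hu
  have sqB : IsPullback (q ▷ G'').left (fst Z G'').left (fst G'' G'').left q.left :=
    isPullback_whiskerRight' G'' q
  have sqA : IsPullback q.left (lift (𝟙 Z) q).left (lift (𝟙 G'') (𝟙 G'')).left (q ▷ G'').left :=
    (cartA2 q).map (Over.forget S)
  have sqb : IsPullback r.left (lift (𝟙 Z) q).left (lift (𝟙 G) p).left (r ▷ G'').left :=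
    (cartB2 p q r hrq).map (Over.forget S)
  have hb : IsClosedImmersion (lift (𝟙 Z) q).left :=
    MorphismProperty.of_isPullback (P := @IsClosedImmersion) sqb hΓ
  have hΔ : IsClosedImmersion (lift (𝟙 G'') (𝟙 G'')).left :=
    closedImm_of_cover hq sqB sqA hb
  rw [diag_left] at hΔ
  exact ⟨hΔ⟩

theorem main (S : Scheme.{u}) (G G' G'' : Over S) [GrpObj G] [GrpObj G']
    (i : G' ⟶ G) [IsMonHom i] [Mono i] (p : G ⟶ G'')
    (hcov : (∃ (Z : Scheme.{u}) (q : Z ⟶ G''.left) (r : Z ⟶ G.left), r ≫ p.left = q ∧ Surjective q ∧ Flat q ∧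
        ∀ V : G''.left.Opens, IsAffineOpen V → ∃ W : Z.Opens, IsCompact (W : Set Z) ∧ q.base '' (W : Set Z) = (V : Set G''.left)))
    (hsq : IsPullback ((G ◁ i) ≫ μ[G]) (fst G G') p p) :
    IsPullback i (toUnit G') p (η[G] ≫ p) ∧ IsImmersion i.left ∧
    (IsSeparated G''.hom ↔ IsClosedImmersion i.left) ∧ (IsClosedImmersion i.left ↔ IsClosedImmersion (η[G] ≫ p).left) := by
  obtain ⟨Z₀, q₀, r₀, hrq₀, hs, hfl, hqc⟩ := hcov
  have hq0 := singleton_mem_fpqc q₀ hfl hs hqc
  obtain ⟨Z, q, r, hrq, hq⟩ : ∃ (Z : Over S) (q : Z ⟶ G'') (r : Z ⟶ G), r ≫ p = q ∧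
      Presieve.singleton q.left ∈ Scheme.fpqcPrecoverage G''.left := by
    have hw : r₀ ≫ G.hom = q₀ ≫ G''.hom := by rw [← hrq₀, Category.assoc, Over.w p]
    refine ⟨Over.mk (q₀ ≫ G''.hom), Over.homMk q₀ rfl, Over.homMk r₀ hw, ?_, hq0⟩
    apply Over.OverMorphism.ext
    exact hrq₀
  refine ⟨cartA i p hsq, immersion_i i p hsq, ⟨fun h => ?_, fun h => ?_⟩, ⟨fun h => ?_, fun h => ?_⟩⟩
  · haveI := h
    haveI : IsClosedImmersion ((η[G] ≫ p).left ≫ G''.hom) := by rw [eps_section]; exact closedImm_id S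
    exact closed_i_of_eps i p hsq (IsClosedImmersion.of_comp _ G''.hom)
  · exact separated_of_closed i p hsq q r hrq hq h
  · exact closed_eps_of_i i p hsq q₀ r₀ hrq₀ hq0 h
  · exact closed_i_of_eps i p hsq h

end Groth.Agent.Lib.QuotSep
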