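import Mathlib

/-! A flat surjective morphism of schemes is injective on sections (light-weight copy). -/

set_option autoImplicit false
universe u
open CategoryTheory CategoryTheory.Limits AlgebraicGeometry

namespace SchFlatInjH7

set_option backward.isDefEq.respectTransparency.types false in
/-- stalk maps of flat morphisms are injective -/
lemma stalkMap_injective_of_flat {X Y : Scheme.{u}} (f : X ⟶ Y) [Flat f] (x : X) :
    Function.Injective (f.stalkMap x).hom := by
  algebraize [(f.stalkMap x).hom]
  have : Module.FaithfullyFlat (Y.presheaf.stalk (f x)) (X.presheaf.stalk x) :=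
    @Module.FaithfullyFlat.of_flat_of_isLocalHom _ _ _ _ _ _ _
      (Flat.stalkMap f x) (f.toLRSHom.prop x)
  have h2 : (f.stalkMap x).hom.FaithfullyFlat := this
  exact h2.injective

/-- a flat surjective morphism is injective on sections -/
lemma app_injective_of_flat_of_surjective {V₁ V : Scheme.{u}} (e : V₁ ⟶ V) [Flat e]
    [Surjective e] (O : V.Opens) : Function.Injective (e.app O).hom := by
  rw [injective_iff_map_eq_zero]
  intro y hy
  apply TopCat.Presheaf.section_ext V.sheaf O y 0
  intro v hv
  change (V.sheaf.presheaf.germ O v hv) y = (V.sheaf.presheaf.germ O v hv) 0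
  rw [map_zero]
  change V.presheaf.germ O v hv y = 0
  obtain ⟨v₁, rfl⟩ := e.surjective v
  apply stalkMap_injective_of_flat e v₁
  rw [map_zero]
  have h1 := Scheme.Hom.germ_stalkMap_apply e O v₁ hv y
  have hy' : (e.app O) y = 0 := hy
  rw [hy', map_zero] at h1
  exact h1

/-- if `r ≫ p` is flat and surjective then `p` is injective on sections -/
lemma app_injective_of_comp {Z X Y : Scheme.{u}} (r : Z ⟶ X) (p : X ⟶ Y) [Flat (r ≫ p)]
    [Surjective (r ≫ p)] (O : Y.Opens) : Function.Injective (p.app O).hom := by
  have h := app_injective_of_flat_of_surjective (r ≫ p) O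
  have e : ((r ≫ p).app O).hom = (r.app (p ⁻¹ᵁ O)).hom.comp (p.app O).hom := by
    rw [Scheme.Hom.comp_app]; rfl
  rw [e] at h
  exact Function.Injective.of_comp h

/-- reducedness descends along a morphism through which a flat surjective morphism factors -/
lemma isReduced_of_comp {Z X Y : Scheme.{u}} (r : Z ⟶ X) (p : X ⟶ Y) [Flat (r ≫ p)]
    [Surjective (r ≫ p)] [IsReduced X] : IsReduced Y :=
  ⟨fun O => isReduced_of_injective (p.app O).hom (app_injective_of_comp r p O)⟩

end SchFlatInjH7
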