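import Groth.Statements.S5371
import Groth.Agent.Lib.QuotSep_lead
import Groth.Agent.Lib.FppfSrcQC_lead
import Groth.Agent.Lib.SmoothFppfDesc_helper7
import Groth.Agent.Lib.SchSrcLocal_helper7
import Groth.Agent.S5370
import Groth.Agent.S4599
import Groth.Agent.S0114

/-! # Properties of `G → G/G'` and of `G/G'` (SGA3 VI_B 9.2 (xii), (xiii)) (lead) -/

set_option backward.isDefEq.respectTransparency false
set_option backward.isDefEq.respectTransparency.types false
set_option linter.unusedSimpArgs false
set_option linter.unusedVariables false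
set_option linter.unusedSectionVars false
set_option linter.style.longLine false
set_option linter.style.haveILetI false
set_option maxHeartbeats 800000

universe u

open CategoryTheory CategoryTheory.Limits MonoidalCategory CartesianMonoidalCategory MonObj GrpObj
  AlgebraicGeometry Opposite Topology

namespace Groth.Agent.Lib.QuotProps

open Groth.Agent.Lib.AssocBundle Groth.Agent.Lib.HomogTower Groth.Agent.Lib.TorsorProp_helper7
  Groth.Agent.Lib.QuotSep Groth.Agent.Lib.FppfSrcQC Groth.Agent.Lib.SmoothFppfDescH7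
  Groth.Agent.Lib.SchSrcLocal_helper7

/-! ### descent along an fppf cover of the source -/

theorem unram_of_comp {X Y Z : Scheme.{u}} (p : X ⟶ Y) (g : Y ⟶ Z) [Surjective p] [Flat p]
    [LocallyOfFiniteType g] [FormallyUnramified (p ≫ g)] [LocallyOfFiniteType (p ≫ g)] :
    FormallyUnramified g := by
  have e : p ≫ pullback.diagonal g = pullback.diagonal (p ≫ g) ≫
      pullback.map (p ≫ g) (p ≫ g) g g p p (𝟙 Z) (by simp) (by simp) := by
    apply pullback.hom_ext <;> simp [pullback.map]
  haveI : Flat (pullback.map (p ≫ g) (p ≫ g) g g p p (𝟙 Z) (by simp) (by simp)) :=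
    MorphismProperty.pullbackMap (P := @Flat) ‹Flat p› ‹Flat p› rfl rfl
  haveI : IsOpenImmersion (pullback.diagonal (p ≫ g)) := inferInstance
  haveI : Flat (p ≫ pullback.diagonal g) := by rw [e]; infer_instance
  haveI : Flat (pullback.diagonal g) := flat_of_comp_surjective p (pullback.diagonal g)
  haveI : LocallyOfFinitePresentation (pullback.diagonal g) := Groth.Agent.S4599.result g
  haveI : IsOpenImmersion (pullback.diagonal g) := IsOpenImmersion.of_flat_of_mono _
  infer_instance

theorem isDiscrete_of_preimage {A B : Type*} [TopologicalSpace A] [TopologicalSpace B] {f : A → B}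
    (hf : IsOpenMap f) (hs : Function.Surjective f) (F : Set B)
    (h : _root_.IsDiscrete (f ⁻¹' F)) : _root_.IsDiscrete F := by
  haveI : DiscreteTopology (f ⁻¹' F) := h.to_subtype
  refine ⟨discreteTopology_iff_forall_isOpen.2 fun V => ?_⟩
  have hopen : IsOpenMap (F.restrictPreimage f) := hf.restrictPreimage F
  have hsurj : Function.Surjective (F.restrictPreimage f) :=
    Set.restrictPreimage_surjective (t := F) hs
  rw [← Set.image_preimage_eq V hsurj]
  exact hopen _ (isOpen_discrete _)

theorem lqf_of_comp {X Y Z : Scheme.{u}} (p : X ⟶ Y) (g : Y ⟶ Z) [Surjective p] [Flat p]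
    [LocallyOfFinitePresentation p] [LocallyOfFiniteType g] [LocallyQuasiFinite (p ≫ g)] :
    LocallyQuasiFinite g := by
  rw [locallyQuasiFinite_iff_isDiscrete_preimage_singleton]
  intro z
  have h1 : _root_.IsDiscrete ((p ≫ g) ⁻¹' {z}) := (p ≫ g).isDiscrete_preimage_singleton z
  have h2 : ((p ≫ g) ⁻¹' {z} : Set X) = p ⁻¹' (g ⁻¹' {z}) := by
    ext x
    simp only [Set.mem_preimage, Set.mem_singleton_iff, Scheme.Hom.comp_apply]
  rw [h2] at h1
  exact isDiscrete_of_preimage p.isOpenMap p.surjective _ h1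

theorem src_descent {X Y Z : Scheme.{u}} (p : X ⟶ Y) (g : Y ⟶ Z) (f : X ⟶ Z) (hf : p ≫ g = f)
    [Surjective p] [Flat p] [LocallyOfFinitePresentation p] :
    (LocallyOfFinitePresentation f → LocallyOfFinitePresentation g) ∧
    (LocallyOfFiniteType f → LocallyOfFiniteType g) ∧
    (LocallyOfFiniteType f → QuasiCompact f → QuasiCompact g) ∧
    (Smooth f → Smooth g) ∧ (Etale f → Etale g) ∧
    (FormallyUnramified f → LocallyOfFinitePresentation f → FormallyUnramified g) ∧
    (LocallyQuasiFinite f → LocallyOfFiniteType f → LocallyQuasiFinite g) := by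
  subst hf
  have hlfp : LocallyOfFinitePresentation (p ≫ g) → LocallyOfFinitePresentation g := fun h => by
    haveI := h; exact Groth.Agent.S0114.result p g
  have hlft : LocallyOfFiniteType (p ≫ g) → LocallyOfFiniteType g := fun h =>
    Groth.Agent.Lib.FppfFTH6.locallyOfFiniteType_of_fppf_family g
      (fun y => ⟨X, p, p.surjective y, inferInstance, inferInstance, h⟩)
  have hunr : FormallyUnramified (p ≫ g) → LocallyOfFinitePresentation (p ≫ g) →
      FormallyUnramified g := fun h1 h2 => by
    haveI := h1; haveI := h2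
    haveI : LocallyOfFiniteType (p ≫ g) := inferInstance
    haveI : LocallyOfFiniteType g := hlft inferInstance
    exact unram_of_comp p g
  refine ⟨hlfp, hlft, fun h1 h2 => ?_, fun h => ?_, fun h => ?_, hunr, fun h1 h2 => ?_⟩
  · haveI := h2; exact qc_of_comp_surj p g
  · haveI := h; exact smooth_of_fppf_comp p g
  · haveI := h
    haveI : LocallyOfFinitePresentation (p ≫ g) := inferInstance
    haveI : FormallyUnramified (p ≫ g) := inferInstance
    haveI : Flat (p ≫ g) := inferInstance
    haveI : LocallyOfFinitePresentation g := hlfp inferInstance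
    haveI : FormallyUnramified g := hunr inferInstance inferInstance
    haveI : Flat g := flat_of_comp_surjective p g
    exact Etale.of_formallyUnramified_of_flat g
  · haveI := h1; haveI := h2
    haveI : LocallyOfFiniteType g := hlft h2
    exact lqf_of_comp p g

/-! ### descent along an fpqc cover of the target -/

section Gen

variable (P : MorphismProperty Scheme.{u}) [IsZariskiLocalAtTarget P] [P.IsStableUnderBaseChange]
  [P.DescendsAlong (@Surjective ⊓ @Flat ⊓ @QuasiCompact)]

theorem snd_of_sq' {A B A' B' : Scheme.{u}} {f : A ⟶ B} {c : B' ⟶ B} {a : A' ⟶ A} {b : A' ⟶ B'}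
    (sqA : IsPullback a b f c) (hb : P b) : P (pullback.snd f c) := by
  have e : sqA.isoPullback.hom ≫ pullback.snd f c = b := sqA.isoPullback_hom_snd
  have e' : pullback.snd f c = sqA.isoPullback.inv ≫ b := (Iso.eq_inv_comp _).2 e
  rw [e']
  exact (P.cancel_left_of_respectsIso _ _).2 hb

theorem prop_of_cover {A C Z : Scheme.{u}} {f : A ⟶ C} {q : Z ⟶ C}
    (hq : Presieve.singleton q ∈ Scheme.fpqcPrecoverage C) (hbase : P (pullback.snd f q)) :
    P f := by
  refine P_of_fpqc_aux P f (𝟙 C) hq (fun T g hg => ?_)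
  cases hg
  exact P_snd_precomp P f q (pullback.snd (𝟙 C) q) (pullback.fst (𝟙 C) q)
    (pullback.condition.symm.trans (Category.comp_id _)) hbase

end Gen

theorem prop_p_of_G' {S : Scheme.{u}} {G G' G'' : Over S} [GrpObj G] (i : G' ⟶ G) (p : G ⟶ G'')
    (hsq : IsPullback ((G ◁ i) ≫ μ[G]) (fst G G') p p)
    (P : MorphismProperty Scheme.{u}) [IsZariskiLocalAtTarget P] [P.IsStableUnderBaseChange]
    [P.DescendsAlong (@Surjective ⊓ @Flat ⊓ @QuasiCompact)]
    {Z₀ : Scheme.{u}} (q₀ : Z₀ ⟶ G''.left) (r₀ : Z₀ ⟶ G.left) (hrq₀ : r₀ ≫ p.left = q₀)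
    (hq : Presieve.singleton q₀ ∈ Scheme.fpqcPrecoverage G''.left) (hP : P G'.hom) :
    P p.left := by
  have hsq' : IsPullback ((G ◁ i) ≫ μ[G]).left (fst G G').left p.left p.left :=
    hsq.map (Over.forget S)
  have h0 : P (fst G G').left := by
    show P (pullback.fst G.hom G'.hom)
    exact P.pullback_fst _ _ hP
  have h1 : P (pullback.snd p.left p.left) := snd_of_sq' P hsq' h0
  have h2 : P (pullback.snd p.left q₀) := P_snd_precomp P p.left p.left r₀ q₀ hrq₀ h1
  exact prop_of_cover P hq h2

theorem prop_G'_of_p {S : Scheme.{u}} {G G' G'' : Over S} [GrpObj G] (i : G' ⟶ G) [Mono i]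
    (p : G ⟶ G'') (hsq : IsPullback ((G ◁ i) ≫ μ[G]) (fst G G') p p)
    (P : MorphismProperty Scheme.{u}) [P.IsStableUnderBaseChange] (hP : P p.left) :
    P G'.hom := by
  have sqA : IsPullback i.left (toUnit G').left p.left (η[G] ≫ p).left :=
    (cartA i p hsq).map (Over.forget S)
  have h1 : P (toUnit G').left := P.of_isPullback sqA hP
  exact h1

theorem main (S : Scheme.{u}) (G G' G'' : Over S) [GrpObj G] [GrpObj G']
    (i : G' ⟶ G) [IsMonHom i] [Mono i] (p : G ⟶ G'')
    (hcov : (∃ (Z : Scheme.{u}) (q : Z ⟶ G''.left) (r : Z ⟶ G.left), r ≫ p.left = q ∧ Surjective q ∧ Flat q ∧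
        ∀ V : G''.left.Opens, IsAffineOpen V → ∃ W : Z.Opens, IsCompact (W : Set Z) ∧ q.base '' (W : Set Z) = (V : Set G''.left)))
    (hsq : IsPullback ((G ◁ i) ≫ μ[G]) (fst G G') p p) :
    ((Flat G'.hom ∧ LocallyOfFinitePresentation G'.hom) ↔
      (Surjective p.left ∧ Flat p.left ∧ LocallyOfFinitePresentation p.left)) ∧
    (Flat p.left → LocallyOfFinitePresentation p.left →
      (LocallyOfFinitePresentation G.hom → LocallyOfFinitePresentation G''.hom) ∧
      (LocallyOfFiniteType G.hom → LocallyOfFiniteType G''.hom) ∧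
      (LocallyOfFiniteType G.hom → QuasiCompact G.hom → QuasiCompact G''.hom) ∧
      (Smooth G.hom → Smooth G''.hom) ∧ (Etale G.hom → Etale G''.hom) ∧
      (FormallyUnramified G.hom → LocallyOfFinitePresentation G.hom → FormallyUnramified G''.hom) ∧
      (LocallyQuasiFinite G.hom → LocallyOfFiniteType G.hom → LocallyQuasiFinite G''.hom)) ∧
    (Flat G'.hom → LocallyOfFinitePresentation G'.hom → QuasiCompact G'.hom → QuasiSeparated G'.hom →
      QuasiCompact p.left ∧ QuasiSeparated p.left ∧ LocallyOfFinitePresentation p.left ∧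
      ((LocallyOfFinitePresentation G.hom ∧ QuasiCompact G.hom ∧ QuasiSeparated G.hom) ↔
        (LocallyOfFinitePresentation G''.hom ∧ QuasiCompact G''.hom ∧ QuasiSeparated G''.hom))) := by
  have h5370 := Groth.Agent.S5370.result S G G' G'' i p hcov hsq
  obtain ⟨Z₀, q₀, r₀, hrq₀, hs, hfl, hqc⟩ := hcov
  have hq0 := singleton_mem_fpqc q₀ hfl hs hqc
  haveI hsurj : Surjective p.left := by
    haveI : Surjective (r₀ ≫ p.left) := by rw [hrq₀]; exact hs
    exact Surjective.of_comp r₀ p.left
  haveI := quasiCompact_descends.{u}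
  haveI hqsd : MorphismProperty.DescendsAlong (@QuasiSeparated)
      (@Surjective ⊓ @Flat ⊓ @QuasiCompact : MorphismProperty Scheme.{u}) := by
    rw [quasiSeparated_eq_diagonal_is_quasiCompact]; infer_instance
  refine ⟨⟨fun ⟨h1, h2⟩ => ⟨hsurj, h5370.2.1.1 h1,
      prop_p_of_G' i p hsq @LocallyOfFinitePresentation q₀ r₀ hrq₀ hq0 h2⟩,
      fun ⟨_, h2, h3⟩ => ⟨h5370.2.1.2 h2,
        prop_G'_of_p i p hsq @LocallyOfFinitePresentation h3⟩⟩, ?_, ?_⟩
  · intro hfp hlfp
    haveI := hfp; haveI := hlfp
    exact src_descent p.left G''.hom G.hom (Over.w p)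
  · intro h1 h2 h3 h4
    have hpqc : QuasiCompact p.left := prop_p_of_G' i p hsq @QuasiCompact q₀ r₀ hrq₀ hq0 h3
    have hpqs : QuasiSeparated p.left := prop_p_of_G' i p hsq @QuasiSeparated q₀ r₀ hrq₀ hq0 h4
    have hplfp : LocallyOfFinitePresentation p.left :=
      prop_p_of_G' i p hsq @LocallyOfFinitePresentation q₀ r₀ hrq₀ hq0 h2
    have hpfl : Flat p.left := h5370.2.1.1 h1
    refine ⟨hpqc, hpqs, hplfp, ⟨fun ⟨a, b, c⟩ => ?_, fun ⟨a, b, c⟩ => ?_⟩⟩
    · haveI := hpqc; haveI := hpfl; haveI := hplfp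
      haveI : LocallyOfFinitePresentation (p.left ≫ G''.hom) := by rw [Over.w p]; exact a
      haveI : QuasiCompact (p.left ≫ G''.hom) := by rw [Over.w p]; exact b
      haveI : QuasiSeparated (p.left ≫ G''.hom) := by rw [Over.w p]; exact c
      exact ⟨Groth.Agent.S0114.result p.left G''.hom, qc_of_comp_surj p.left G''.hom,
        qs_of_comp_surj p.left G''.hom⟩
    · haveI := hpqc; haveI := hpqs; haveI := hplfp; haveI := a; haveI := b; haveI := c
      rw [← Over.w p]
      exact ⟨inferInstance, inferInstance, inferInstance⟩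

end Groth.Agent.Lib.QuotProps
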