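import Groth.Statements.S8414
import Groth.Agent.Lib.QuotProps_lead
import Groth.Agent.Lib.ExtProps_lead

/-! # Inverse images of subgroups under a faithfully flat homomorphism: smoothness and connected
fibres (SGA3 XXII 5.?) (lead) -/

set_option backward.isDefEq.respectTransparency false
set_option backward.isDefEq.respectTransparency.types false
set_option linter.unusedSimpArgs false
set_option linter.unusedVariables false
set_option linter.unusedSectionVars false
set_option linter.style.longLine false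
set_option linter.style.haveILetI false
set_option maxHeartbeats 800000

universe u

open CategoryTheory CategoryTheory.Limits MonoidalCategory CartesianMonoidalCategory MonObj GrpObj
  AlgebraicGeometry Opposite Topology

namespace Groth.Agent.Lib.InvImage

open Groth.Agent.Lib.AssocBundle Groth.Agent.Lib.QuotSep Groth.Agent.Lib.QuotProps
  Groth.Agent.Lib.SmoothFppfDescH7 Groth.Agent.Lib.SchSrcLocal_helper7

/-- A morphism with a section and connected fibres is geometrically connected. -/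
theorem geomConn_of_section {X S : Scheme.{u}} (f : X ⟶ S) (e : S ⟶ X) (he : e ≫ f = 𝟙 S)
    (h : ∀ s : S, _root_.IsConnected (f ⁻¹' {s})) : GeometricallyConnected f := by
  rw [GeometricallyConnected.iff_geometricallyConnected_fiber]
  intro s
  haveI : ConnectedSpace ↥(f ⁻¹' {s}) := isConnected_iff_connectedSpace.1 (h s)
  haveI : ConnectedSpace ↥(f.fiber s) :=
    (f.fiberHomeo s).symm.surjective.connectedSpace (f.fiberHomeo s).symm.continuous
  let g : Spec (S.residueField s) ⟶ f.fiber s :=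
    pullback.lift (S.fromSpecResidueField s ≫ e) (𝟙 _)
      (by rw [Category.assoc, he, Category.comp_id, Category.id_comp])
  have hg : g ≫ f.fiberToSpecResidueField s = 𝟙 _ := pullback.lift_snd _ _ _
  haveI : Nonempty ↥(Spec (S.residueField s)) :=
    inferInstanceAs (Nonempty (PrimeSpectrum (S.residueField s)))
  haveI : GeometricallyConnected (g ≫ f.fiberToSpecResidueField s) := by
    rw [hg]; exact ExtProps.geomConn_id _
  exact GeomConnPtH4.main2502 g (f.fiberToSpecResidueField s)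

section inv

variable {S : Scheme.{u}} {G G' C' H' : Over S} [GrpObj G] [GrpObj G'] [GrpObj C'] [GrpObj H']
  (u : G ⟶ G') [IsMonHom u] (c' : C' ⟶ G') [IsMonHom c'] (h' : H' ⟶ G') [IsMonHom h'] [Mono h']
  (f : C' ⟶ H') (hf : f ≫ h' = c')

include hf in
theorem f_mul {T : Over S} (a b : T ⟶ C') : (a * b) ≫ f = (a ≫ f) * (b ≫ f) := by
  apply (cancel_mono h').1
  rw [Category.assoc, hf, MonObj.mul_comp, MonObj.mul_comp, Category.assoc, Category.assoc, hf]

include hf in
theorem f_one {T : Over S} : (1 : T ⟶ C') ≫ f = 1 := by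
  apply (cancel_mono h').1
  rw [Category.assoc, hf, MonObj.one_comp, MonObj.one_comp]

include hf in
theorem f_inv {T : Over S} (a : T ⟶ C') : a⁻¹ ≫ f = (a ≫ f)⁻¹ := by
  apply (cancel_mono h').1
  rw [Category.assoc, hf, GrpObj.inv_comp, GrpObj.inv_comp, Category.assoc, hf]

local notation "𝐇" => Limits.pullback h' u
local notation "𝐂" => Limits.pullback c' u
local notation "p₁" => (pullback.fst h' u : Limits.pullback h' u ⟶ H')
local notation "p₂" => (pullback.snd h' u : Limits.pullback h' u ⟶ G)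
local notation "q₁" => (pullback.fst c' u : Limits.pullback c' u ⟶ C')
local notation "q₂" => (pullback.snd c' u : Limits.pullback c' u ⟶ G)

include hf in
/-- two points of `u⁻¹(H')` with the same image in `H'` lie in a common connected subset of a
fibre -/
theorem exists_connected (hC : GeometricallyConnected (𝐂).hom)
    (a b : ↥(𝐇).left) (hab : (p₁).left a = (p₁).left b) :
    ∃ Z : Set ↥(𝐇).left, _root_.IsPreconnected Z ∧ a ∈ Z ∧ b ∈ Z ∧
      Z ⊆ (𝐇).hom ⁻¹' {(𝐇).hom a} := by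
  obtain ⟨z, hz1, hz2⟩ := Scheme.Pullback.exists_preimage_pullback a b hab
  let zt := (pullback (p₁).left (p₁).left).fromSpecResidueField z
  have hcond : pullback.fst (p₁).left (p₁).left ≫ (𝐇).hom =
      pullback.snd (p₁).left (p₁).left ≫ (𝐇).hom := by
    rw [← Over.w p₁, ← Category.assoc, pullback.condition, Category.assoc]
  let T : Over S := Over.mk (zt ≫ pullback.fst (p₁).left (p₁).left ≫ (𝐇).hom)
  let α : T ⟶ 𝐇 := Over.homMk (zt ≫ pullback.fst (p₁).left (p₁).left) (Category.assoc _ _ _)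
  let β : T ⟶ 𝐇 := Over.homMk (zt ≫ pullback.snd (p₁).left (p₁).left)
    ((Category.assoc _ _ _).trans (by rw [← hcond]; rfl))
  have hαβ : α ≫ p₁ = β ≫ p₁ := by
    apply Over.OverMorphism.ext
    show (zt ≫ pullback.fst (p₁).left (p₁).left) ≫ (p₁).left =
      (zt ≫ pullback.snd (p₁).left (p₁).left) ≫ (p₁).left
    rw [Category.assoc, Category.assoc, pullback.condition]
  obtain ⟨pt⟩ : Nonempty ↥(Spec ((pullback (p₁).left (p₁).left).residueField z)) :=
    inferInstanceAs (Nonempty (PrimeSpectrum ((pullback (p₁).left (p₁).left).residueField z)))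
  have hzt : zt pt = z := Scheme.fromSpecResidueField_apply z pt
  have hαpt : α.left pt = a := by
    show (zt ≫ pullback.fst (p₁).left (p₁).left) pt = a
    rw [Scheme.Hom.comp_apply, hzt, hz1]
  have hβpt : β.left pt = b := by
    show (zt ≫ pullback.snd (p₁).left (p₁).left) pt = b
    rw [Scheme.Hom.comp_apply, hzt, hz2]
  -- the multiplication map
  have hm : ((fst T 𝐂 ≫ α ≫ p₁) * (snd T 𝐂 ≫ q₁ ≫ f)) ≫ h' =
      ((fst T 𝐂 ≫ α ≫ p₂) * (snd T 𝐂 ≫ q₂)) ≫ u := by
    simp only [MonObj.mul_comp, Category.assoc, hf, pullback.condition]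
  obtain ⟨m, hm1, hm2⟩ : ∃ m : T ⊗ 𝐂 ⟶ 𝐇,
      m ≫ p₁ = (fst T 𝐂 ≫ α ≫ p₁) * (snd T 𝐂 ≫ q₁ ≫ f) ∧
      m ≫ p₂ = (fst T 𝐂 ≫ α ≫ p₂) * (snd T 𝐂 ≫ q₂) :=
    ⟨pullback.lift _ _ hm, pullback.lift_fst _ _ _, pullback.lift_snd _ _ _⟩
  -- connectedness of the source
  haveI : ConnectedSpace ↥(T ⊗ 𝐂).left := by
    have h0 : ConnectedSpace ↥(pullback T.hom (𝐂).hom) :=
      hC.geometrically_connectedSpace
        (K := ((pullback (p₁).left (p₁).left).residueField z : Type u)) T.hom
        (pullback.snd T.hom (𝐂).hom) (pullback.fst T.hom (𝐂).hom)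
        (IsPullback.of_hasPullback T.hom (𝐂).hom).flip
    exact h0
  refine ⟨Set.range m.left, isPreconnected_range m.left.continuous, ?_, ?_, ?_⟩
  · -- a
    obtain ⟨c₀, hc₀1, hc₀2⟩ : ∃ c₀ : T ⟶ 𝐂, c₀ ≫ q₁ = 1 ∧ c₀ ≫ q₂ = 1 :=
      ⟨pullback.lift 1 1 (by rw [MonObj.one_comp, MonObj.one_comp]), pullback.lift_fst _ _ _,
        pullback.lift_snd _ _ _⟩
    have e : lift (𝟙 T) c₀ ≫ m = α := by
      apply pullback.hom_ext
      · rw [Category.assoc, hm1, MonObj.comp_mul, lift_fst_assoc, lift_snd_assoc,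
          Category.id_comp, ← Category.assoc c₀, hc₀1, f_one c' h' f hf, _root_.mul_one]
      · rw [Category.assoc, hm2, MonObj.comp_mul, lift_fst_assoc, lift_snd_assoc,
          Category.id_comp, hc₀2, _root_.mul_one]
    refine ⟨(lift (𝟙 T) c₀).left pt, ?_⟩
    rw [← Scheme.Hom.comp_apply, ← Over.comp_left, e]
    exact hαpt
  · -- b
    have e1 : (α ≫ p₂) ≫ u = (α ≫ p₁) ≫ h' := by
      rw [Category.assoc, Category.assoc, pullback.condition]
    have e2 : (β ≫ p₂) ≫ u = (α ≫ p₁) ≫ h' := by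
      rw [hαβ, Category.assoc, Category.assoc, pullback.condition]
    have hd : (1 : T ⟶ C') ≫ c' = ((α ≫ p₂)⁻¹ * (β ≫ p₂)) ≫ u := by
      rw [MonObj.one_comp, MonObj.mul_comp, GrpObj.inv_comp, e1, e2, inv_mul_cancel]
    obtain ⟨c₁, hc₁1, hc₁2⟩ : ∃ c₁ : T ⟶ 𝐂, c₁ ≫ q₁ = 1 ∧ c₁ ≫ q₂ = (α ≫ p₂)⁻¹ * (β ≫ p₂) :=
      ⟨pullback.lift 1 _ hd, pullback.lift_fst _ _ _, pullback.lift_snd _ _ _⟩
    have e : lift (𝟙 T) c₁ ≫ m = β := by
      apply pullback.hom_ext
      · rw [Category.assoc, hm1, MonObj.comp_mul, lift_fst_assoc, lift_snd_assoc,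
          Category.id_comp, ← Category.assoc c₁, hc₁1, f_one c' h' f hf, _root_.mul_one, hαβ]
      · rw [Category.assoc, hm2, MonObj.comp_mul, lift_fst_assoc, lift_snd_assoc,
          Category.id_comp, hc₁2, mul_inv_cancel_left]
    refine ⟨(lift (𝟙 T) c₁).left pt, ?_⟩
    rw [← Scheme.Hom.comp_apply, ← Over.comp_left, e]
    exact hβpt
  · -- contained in the fibre
    rintro _ ⟨w, rfl⟩
    haveI : Subsingleton ↥T.left :=
      inferInstanceAs (Subsingleton (PrimeSpectrum ((pullback (p₁).left (p₁).left).residueField z)))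
    have e3 : m.left ≫ (𝐇).hom = (fst T 𝐂).left ≫ T.hom := by
      rw [Over.w m, Over.w (fst T 𝐂)]
    have e4 : (𝐇).hom (m.left w) = T.hom ((fst T 𝐂).left w) :=
      congrArg (fun t : (T ⊗ 𝐂).left ⟶ S => t w) e3
    have e5 : (𝐇).hom (α.left pt) = T.hom pt :=
      congrArg (fun t : T.left ⟶ S => t pt) (Over.w α)
    have e6 : (fst T 𝐂).left w = pt := Subsingleton.elim _ _
    show (𝐇).hom (m.left w) = (𝐇).hom a
    rw [e4, e6, ← e5, hαpt]

include hf in
theorem fibre_connected [Flat u.left] [Surjective u.left] [LocallyOfFinitePresentation u.left]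
    (hC : GeometricallyConnected (𝐂).hom)
    (hH' : ∀ s : S, _root_.IsConnected (H'.hom ⁻¹' {s})) (s : S) :
    _root_.IsConnected ((𝐇).hom ⁻¹' {s}) := by
  have sqH : IsPullback (p₁).left (p₂).left h'.left u.left :=
    (IsPullback.of_hasPullback h' u).map (Over.forget S)
  haveI : Flat (p₁).left := MorphismProperty.of_isPullback (P := @Flat) sqH.flip inferInstance
  haveI : Surjective (p₁).left :=
    MorphismProperty.of_isPullback (P := @Surjective) sqH.flip inferInstance
  haveI : LocallyOfFinitePresentation (p₁).left :=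
    MorphismProperty.of_isPullback (P := @LocallyOfFinitePresentation) sqH.flip inferInstance
  have hopen : IsOpenMap (p₁).left := (p₁).left.isOpenMap
  have hw : ∀ x : ↥(𝐇).left, (𝐇).hom x = H'.hom ((p₁).left x) := fun x =>
    (congrArg (fun t : (𝐇).left ⟶ S => t x) (Over.w p₁)).symm
  refine ⟨?_, ?_⟩
  · obtain ⟨y', hy'⟩ := (hH' s).1
    obtain ⟨x, hx⟩ := (p₁).left.surjective y'
    refine ⟨x, ?_⟩
    show (𝐇).hom x = s
    rw [hw, hx]
    exact hy'
  · intro U V hU hV hFUV hFU hFV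
    obtain ⟨a₀, ha₀F, ha₀U⟩ := hFU
    obtain ⟨b₀, hb₀F, hb₀V⟩ := hFV
    have hU' : IsOpen ((p₁).left '' U) := hopen U hU
    have hV' : IsOpen ((p₁).left '' V) := hopen V hV
    have hcov : H'.hom ⁻¹' {s} ⊆ (p₁).left '' U ∪ (p₁).left '' V := by
      intro y' hy'
      obtain ⟨x, hx⟩ := (p₁).left.surjective y'
      have hxF : x ∈ (𝐇).hom ⁻¹' {s} := by
        show (𝐇).hom x = s
        rw [hw, hx]
        exact hy'
      rcases hFUV hxF with h | h
      · exact Or.inl ⟨x, h, hx⟩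
      · exact Or.inr ⟨x, h, hx⟩
    have hne1 : (H'.hom ⁻¹' {s} ∩ (p₁).left '' U).Nonempty :=
      ⟨(p₁).left a₀, by
        show H'.hom ((p₁).left a₀) = s
        rw [← hw]; exact ha₀F, ⟨a₀, ha₀U, rfl⟩⟩
    have hne2 : (H'.hom ⁻¹' {s} ∩ (p₁).left '' V).Nonempty :=
      ⟨(p₁).left b₀, by
        show H'.hom ((p₁).left b₀) = s
        rw [← hw]; exact hb₀F, ⟨b₀, hb₀V, rfl⟩⟩
    obtain ⟨y', hy's, ⟨a, haU, hay'⟩, ⟨b, hbV, hby'⟩⟩ :=
      (hH' s).2 _ _ hU' hV' hcov hne1 hne2
    have haF : (𝐇).hom a = s := by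
      rw [hw, hay']; exact hy's
    obtain ⟨Z, hZ, haZ, hbZ, hZF⟩ := exists_connected u c' h' f hf hC a b (hay'.trans hby'.symm)
    have hZF' : Z ⊆ (𝐇).hom ⁻¹' {s} := by
      intro w hwZ
      have := hZF hwZ
      show (𝐇).hom w = s
      exact (this : (𝐇).hom w = (𝐇).hom a).trans haF
    obtain ⟨w, hwZ, hwUV⟩ := hZ U V hU hV (hZF'.trans hFUV) ⟨a, haZ, haU⟩ ⟨b, hbZ, hbV⟩
    exact ⟨w, hZF' hwZ, hwUV⟩

/-- the map `u⁻¹(H') × C' → H'`, `((y, x), c) ↦ y f(c)` -/
noncomputable def psi : (𝐇) ⊗ C' ⟶ H' := (fst (𝐇) C' ≫ p₁) * (snd (𝐇) C' ≫ f)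

/-- the map `H' × C' → H'`, `(y, c) ↦ y f(c)` -/
noncomputable def mm : H' ⊗ C' ⟶ H' := (fst H' C') * (snd H' C' ≫ f)

theorem psi_eq : psi u h' f = ((p₁) ▷ C') ≫ mm f := by
  unfold psi mm
  rw [MonObj.comp_mul, whiskerRight_fst, whiskerRight_snd_assoc]

theorem mm_isPullback : IsPullback (mm f) (snd H' C') (toUnit H') (toUnit C') := by
  apply isPullback_of_exists_unique
  · exact toUnit_unique _ _
  · intro T a b _
    refine ⟨lift (a * (b ≫ f)⁻¹) b, ?_, lift_snd _ _⟩
    unfold mm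
    rw [MonObj.comp_mul, lift_fst, lift_snd_assoc, inv_mul_cancel_right]
  · intro T l l' h1 h2
    unfold mm at h1
    rw [MonObj.comp_mul, MonObj.comp_mul, ← Category.assoc, ← Category.assoc, h2] at h1
    apply CartesianMonoidalCategory.hom_ext
    · exact mul_right_cancel h1
    · exact h2

/-- the action of `C = u⁻¹(C')` on `u⁻¹(H') × C'` -/
noncomputable def act : ((𝐇) ⊗ C') ⊗ (𝐂) ⟶ (𝐇) ⊗ C' :=
  lift (pullback.lift
      ((fst ((𝐇) ⊗ C') (𝐂) ≫ fst (𝐇) C' ≫ p₁) * (snd ((𝐇) ⊗ C') (𝐂) ≫ q₁ ≫ f))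
      ((fst ((𝐇) ⊗ C') (𝐂) ≫ fst (𝐇) C' ≫ p₂) * (snd ((𝐇) ⊗ C') (𝐂) ≫ q₂))
      (by simp only [MonObj.mul_comp, Category.assoc, hf, pullback.condition]))
    ((snd ((𝐇) ⊗ C') (𝐂) ≫ q₁)⁻¹ * (fst ((𝐇) ⊗ C') (𝐂) ≫ snd (𝐇) C'))

theorem act_p₁ : act u c' h' f hf ≫ fst (𝐇) C' ≫ p₁ =
    (fst ((𝐇) ⊗ C') (𝐂) ≫ fst (𝐇) C' ≫ p₁) * (snd ((𝐇) ⊗ C') (𝐂) ≫ q₁ ≫ f) := by
  unfold act
  rw [lift_fst_assoc, pullback.lift_fst]

theorem act_p₂ : act u c' h' f hf ≫ fst (𝐇) C' ≫ p₂ =
    (fst ((𝐇) ⊗ C') (𝐂) ≫ fst (𝐇) C' ≫ p₂) * (snd ((𝐇) ⊗ C') (𝐂) ≫ q₂) := by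
  unfold act
  rw [lift_fst_assoc, pullback.lift_snd]

theorem act_c : act u c' h' f hf ≫ snd (𝐇) C' =
    (snd ((𝐇) ⊗ C') (𝐂) ≫ q₁)⁻¹ * (fst ((𝐇) ⊗ C') (𝐂) ≫ snd (𝐇) C') := by
  unfold act
  rw [lift_snd]

theorem comp_psi {T : Over S} (l : T ⟶ (𝐇) ⊗ C') :
    l ≫ psi u h' f = (l ≫ fst (𝐇) C' ≫ p₁) * (l ≫ snd (𝐇) C' ≫ f) := by
  unfold psi
  rw [MonObj.comp_mul]

theorem torsor_sq : IsPullback (fst ((𝐇) ⊗ C') (𝐂)) (act u c' h' f hf) (psi u h' f) (psi u h' f) := by
  apply isPullback_of_exists_unique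
  · rw [comp_psi, comp_psi, act_p₁, ← Category.assoc (act u c' h' f hf), act_c, f_mul c' h' f hf,
      f_inv c' h' f hf]
    simp only [Category.assoc]
    group
  · intro T a b hab
    rw [comp_psi, comp_psi] at hab
    -- the point of `C`
    have e1 : (a ≫ fst (𝐇) C' ≫ p₂) ≫ u = (a ≫ fst (𝐇) C' ≫ p₁) ≫ h' := by
      simp only [Category.assoc, pullback.condition]
    have e2 : (b ≫ fst (𝐇) C' ≫ p₂) ≫ u = (b ≫ fst (𝐇) C' ≫ p₁) ≫ h' := by
      simp only [Category.assoc, pullback.condition]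
    have e3 : (a ≫ fst (𝐇) C' ≫ p₁)⁻¹ * (b ≫ fst (𝐇) C' ≫ p₁) =
        (a ≫ snd (𝐇) C' ≫ f) * (b ≫ snd (𝐇) C' ≫ f)⁻¹ := by
      rw [inv_mul_eq_iff_eq_mul, ← _root_.mul_assoc, hab, mul_inv_cancel_right]
    have hd : ((a ≫ snd (𝐇) C') * (b ≫ snd (𝐇) C')⁻¹) ≫ c' =
        ((a ≫ fst (𝐇) C' ≫ p₂)⁻¹ * (b ≫ fst (𝐇) C' ≫ p₂)) ≫ u := by
      have e : ((a ≫ snd (𝐇) C') * (b ≫ snd (𝐇) C')⁻¹) ≫ f =
          (a ≫ snd (𝐇) C' ≫ f) * (b ≫ snd (𝐇) C' ≫ f)⁻¹ := by
        rw [f_mul c' h' f hf, f_inv c' h' f hf, Category.assoc, Category.assoc]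
      have l1 : ((a ≫ snd (𝐇) C') * (b ≫ snd (𝐇) C')⁻¹) ≫ c' =
          ((a ≫ snd (𝐇) C' ≫ f) * (b ≫ snd (𝐇) C' ≫ f)⁻¹) ≫ h' := by
        rw [← e, Category.assoc, hf]
      have r1 : ((a ≫ fst (𝐇) C' ≫ p₂)⁻¹ * (b ≫ fst (𝐇) C' ≫ p₂)) ≫ u =
          ((a ≫ fst (𝐇) C' ≫ p₁)⁻¹ * (b ≫ fst (𝐇) C' ≫ p₁)) ≫ h' := by
        rw [MonObj.mul_comp _ _ u, GrpObj.inv_comp _ u, e1, e2, MonObj.mul_comp _ _ h',
          GrpObj.inv_comp _ h']
      rw [l1, r1, e3]
    obtain ⟨d, hd1, hd2⟩ : ∃ d : T ⟶ 𝐂, d ≫ q₁ = (a ≫ snd (𝐇) C') * (b ≫ snd (𝐇) C')⁻¹ ∧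
        d ≫ q₂ = (a ≫ fst (𝐇) C' ≫ p₂)⁻¹ * (b ≫ fst (𝐇) C' ≫ p₂) :=
      ⟨pullback.lift _ _ hd, pullback.lift_fst _ _ _, pullback.lift_snd _ _ _⟩
    refine ⟨lift a d, lift_fst _ _, ?_⟩
    apply CartesianMonoidalCategory.hom_ext
    · apply pullback.hom_ext
      · rw [Category.assoc, Category.assoc, act_p₁, MonObj.comp_mul, lift_fst_assoc,
          lift_snd_assoc, ← Category.assoc d, hd1, f_mul c' h' f hf, f_inv c' h' f hf]
        simp only [Category.assoc]
        rw [← e3, mul_inv_cancel_left]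
      · rw [Category.assoc, Category.assoc, act_p₂, MonObj.comp_mul, lift_fst_assoc,
          lift_snd_assoc, hd2, mul_inv_cancel_left]
        simp only [Category.assoc]
    · rw [Category.assoc, act_c, MonObj.comp_mul, GrpObj.comp_inv, lift_snd_assoc, hd1,
        lift_fst_assoc]
      group
  · intro T l l' h1 h2
    apply CartesianMonoidalCategory.hom_ext
    · exact h1
    · have h1y : l ≫ fst ((𝐇) ⊗ C') (𝐂) ≫ fst (𝐇) C' ≫ p₂ =
          l' ≫ fst ((𝐇) ⊗ C') (𝐂) ≫ fst (𝐇) C' ≫ p₂ := by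
        rw [← Category.assoc, h1, Category.assoc]
      have h1c : l ≫ fst ((𝐇) ⊗ C') (𝐂) ≫ snd (𝐇) C' =
          l' ≫ fst ((𝐇) ⊗ C') (𝐂) ≫ snd (𝐇) C' := by
        rw [← Category.assoc, h1, Category.assoc]
      apply pullback.hom_ext
      · -- q₁ component from `act_c`
        have h3 := congrArg (fun t => t ≫ snd (𝐇) C') h2
        simp only [Category.assoc, act_c, MonObj.comp_mul, GrpObj.comp_inv] at h3
        rw [h1c] at h3
        have h4 := mul_right_cancel h3
        simp only [Category.assoc]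
        exact inv_injective h4
      · have h3 := congrArg (fun t => t ≫ fst (𝐇) C' ≫ p₂) h2
        simp only [Category.assoc, act_p₂, MonObj.comp_mul] at h3
        rw [h1y] at h3
        have h4 := mul_left_cancel h3
        simp only [Category.assoc]
        exact h4

include hf in
theorem smooth_inv [Flat u.left] [Surjective u.left] [LocallyOfFinitePresentation G.hom]
    [LocallyOfFinitePresentation G'.hom] [LocallyOfFinitePresentation C'.hom]
    [LocallyOfFinitePresentation H'.hom]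
    (hCs : Smooth (𝐂).hom) (hH's : Smooth H'.hom) : Smooth (𝐇).hom := by
  haveI : LocallyOfFinitePresentation (u.left ≫ G'.hom) := by rw [Over.w u]; infer_instance
  haveI : LocallyOfFinitePresentation u.left := Groth.Agent.S4599.lfp_of_comp u.left G'.hom
  have sqH : IsPullback (p₁).left (p₂).left h'.left u.left :=
    (IsPullback.of_hasPullback h' u).map (Over.forget S)
  have sqC : IsPullback (q₁).left (q₂).left c'.left u.left :=
    (IsPullback.of_hasPullback c' u).map (Over.forget S)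
  haveI : Flat (p₁).left := MorphismProperty.of_isPullback (P := @Flat) sqH.flip inferInstance
  haveI : Surjective (p₁).left :=
    MorphismProperty.of_isPullback (P := @Surjective) sqH.flip inferInstance
  haveI : LocallyOfFinitePresentation (p₁).left :=
    MorphismProperty.of_isPullback (P := @LocallyOfFinitePresentation) sqH.flip inferInstance
  haveI : Flat (q₁).left := MorphismProperty.of_isPullback (P := @Flat) sqC.flip inferInstance
  haveI : Surjective (q₁).left :=
    MorphismProperty.of_isPullback (P := @Surjective) sqC.flip inferInstance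
  -- `C'` is fppf over `S`
  haveI : Flat C'.hom := by
    haveI : Flat ((q₁).left ≫ C'.hom) := by rw [Over.w q₁]; infer_instance
    exact flat_of_comp_surjective (q₁).left C'.hom
  haveI : Surjective C'.hom := by
    haveI : Surjective (η[C'].left ≫ C'.hom) := by
      rw [Over.w η[C']]
      show Surjective (𝟙 S)
      infer_instance
    exact Surjective.of_comp η[C'].left C'.hom
  -- `mm` is fppf
  have sqm : IsPullback (mm f).left (snd H' C').left (toUnit H').left (toUnit C').left :=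
    (mm_isPullback f).map (Over.forget S)
  haveI : Flat (toUnit C').left := by rw [Over.toUnit_left]; infer_instance
  haveI : Surjective (toUnit C').left := by rw [Over.toUnit_left]; infer_instance
  haveI : LocallyOfFinitePresentation (toUnit C').left := by rw [Over.toUnit_left]; infer_instance
  haveI : Flat (mm f).left := MorphismProperty.of_isPullback (P := @Flat) sqm.flip inferInstance
  haveI : Surjective (mm f).left :=
    MorphismProperty.of_isPullback (P := @Surjective) sqm.flip inferInstance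
  haveI : LocallyOfFinitePresentation (mm f).left :=
    MorphismProperty.of_isPullback (P := @LocallyOfFinitePresentation) sqm.flip inferInstance
  -- `p₁ ▷ C'` is fppf
  have sqw := isPullback_whiskerRight' C' p₁
  haveI : Flat ((p₁) ▷ C').left := MorphismProperty.of_isPullback (P := @Flat) sqw.flip inferInstance
  haveI : Surjective ((p₁) ▷ C').left :=
    MorphismProperty.of_isPullback (P := @Surjective) sqw.flip inferInstance
  haveI : LocallyOfFinitePresentation ((p₁) ▷ C').left :=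
    MorphismProperty.of_isPullback (P := @LocallyOfFinitePresentation) sqw.flip inferInstance
  -- `psi` is fppf
  have hpsi : (psi u h' f).left = ((p₁) ▷ C').left ≫ (mm f).left := by
    rw [psi_eq, Over.comp_left]
  haveI : Flat (psi u h' f).left := by rw [hpsi]; infer_instance
  haveI : Surjective (psi u h' f).left := by rw [hpsi]; infer_instance
  haveI : LocallyOfFinitePresentation (psi u h' f).left := by rw [hpsi]; infer_instance
  -- descent
  have sqT : IsPullback (fst ((𝐇) ⊗ C') (𝐂)).left (act u c' h' f hf).left (psi u h' f).left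
      (psi u h' f).left := (torsor_sq u c' h' f hf).map (Over.forget S)
  have h9 : Smooth (fst ((𝐇) ⊗ C') (𝐂)).left := by
    show Smooth (pullback.fst ((𝐇) ⊗ C').hom (𝐂).hom)
    exact MorphismProperty.pullback_fst (P := @Smooth) _ _ hCs
  have hbase : Smooth (pullback.snd (psi u h' f).left (psi u h' f).left) :=
    snd_of_sq' @Smooth sqT.flip h9
  have hq : Presieve.singleton (psi u h' f).left ∈ Scheme.fpqcPrecoverage H'.left :=
    Scheme.fppfPrecoverage_le_fpqcPrecoverage _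
      (Scheme.Hom.singleton_mem_fppfPrecoverage (psi u h' f).left)
  haveI : Smooth (psi u h' f).left := prop_of_cover @Smooth hq hbase
  haveI : Smooth ((𝐇) ⊗ C').hom := by
    rw [← Over.w (psi u h' f)]
    infer_instance
  -- descend along the projection
  haveI : Flat (fst (𝐇) C').left := by
    show Flat (pullback.fst (𝐇).hom C'.hom)
    infer_instance
  haveI : Surjective (fst (𝐇) C').left := by
    show Surjective (pullback.fst (𝐇).hom C'.hom)
    infer_instance
  haveI : LocallyOfFinitePresentation (fst (𝐇) C').left := by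
    show LocallyOfFinitePresentation (pullback.fst (𝐇).hom C'.hom)
    infer_instance
  haveI : Smooth ((fst (𝐇) C').left ≫ (𝐇).hom) := by
    rw [Over.w (fst (𝐇) C')]
    infer_instance
  exact smooth_of_fppf_comp (fst (𝐇) C').left (𝐇).hom

end inv

end Groth.Agent.Lib.InvImage
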