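import Mathlib

/-!
# Modules with local free generators are projective of rank one  (helper5)
-/

set_option autoImplicit false
universe u

namespace Groth.Agent.InvMod

variable {R : Type u} [CommRing R] {P : Type u} [AddCommGroup P] [Module R P]

/-- `e` is a free generator of `P` after inverting `f`. -/
def LocGen (f : R) (e : P) : Prop :=
  (∀ m : P, ∃ (N : ℕ) (c : R), f ^ N • m = c • e) ∧ ∀ c : R, c • e = 0 → ∃ N : ℕ, f ^ N * c = 0

theorem LocGen.map {P' : Type u} [AddCommGroup P'] [Module R P'] (E : P ≃ₗ[R] P') {f : R} {e : P}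
    (h : LocGen f e) : LocGen f (E e) := by
  constructor
  · intro m
    obtain ⟨N, c, hc⟩ := h.1 (E.symm m)
    refine ⟨N, c, ?_⟩
    have := congrArg E hc
    rwa [map_smul, map_smul, LinearEquiv.apply_symm_apply] at this
  · intro c hc
    apply h.2 c
    apply E.injective
    rw [map_smul, hc, map_zero]

theorem bijective_toSpanSingleton {f : R} {e : P} (h : LocGen f e) (S : Submonoid R) (hS : f ∈ S) :
    Function.Bijective (LinearMap.toSpanSingleton (Localization S) (LocalizedModule S P)
      (LocalizedModule.mk e 1)) := by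
  constructor
  · rw [injective_iff_map_eq_zero]
    intro x hx
    induction x using Localization.induction_on with
    | H y =>
      obtain ⟨c, s⟩ := y
      rw [LinearMap.toSpanSingleton_apply, LocalizedModule.mk_smul_mk] at hx
      rw [← LocalizedModule.zero_mk (s * 1), LocalizedModule.mk_eq] at hx
      obtain ⟨t, ht⟩ := hx
      rw [smul_zero, smul_zero] at ht
      have h2 : ((t : R) * ((s : R) * c)) • e = 0 := by
        have h3 := ht
        simp only [Submonoid.smul_def, mul_one, smul_smul] at h3
        rw [← h3]
      obtain ⟨N, hN⟩ := h.2 _ h2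
      rw [Localization.mk_eq_mk', IsLocalization.mk'_eq_zero_iff]
      refine ⟨⟨f ^ N, pow_mem hS N⟩ * (t * s), ?_⟩
      simp only [Submonoid.coe_mul]
      rw [← hN]
      ring
  · intro y
    induction y using LocalizedModule.induction_on with
    | h m s =>
      obtain ⟨N, c, hc⟩ := h.1 m
      refine ⟨Localization.mk c (s * ⟨f ^ N, pow_mem hS N⟩), ?_⟩
      rw [LinearMap.toSpanSingleton_apply, LocalizedModule.mk_smul_mk, ← hc, mul_one]
      exact LocalizedModule.mk_cancel_common_right s ⟨f ^ N, pow_mem hS N⟩ m

/-- The induced linear equivalence `R_S ≃ P_S`. -/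
noncomputable def equivLoc {f : R} {e : P} (h : LocGen f e) (S : Submonoid R) (hS : f ∈ S) :
    Localization S ≃ₗ[Localization S] LocalizedModule S P :=
  LinearEquiv.ofBijective _ (bijective_toSpanSingleton h S hS)

variable {ι : Type} [Fintype ι] [DecidableEq ι] (v : ι → P)
  (hloc : ∀ p : PrimeSpectrum R, ∃ f : R, f ∉ p.asIdeal ∧ ∃ i, LocGen f (v i))

include hloc

theorem surjective_linearCombination : Function.Surjective (Fintype.linearCombination R v) := by
  intro m
  let I : Ideal R := (LinearMap.range (Fintype.linearCombination R v)).comap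
    (LinearMap.toSpanSingleton R P m)
  have hI : I = ⊤ := by
    by_contra hne
    obtain ⟨p, hp, hIp⟩ := Ideal.exists_le_maximal I hne
    obtain ⟨f, hf, i, hi⟩ := hloc ⟨p, hp.isPrime⟩
    obtain ⟨N, c, hc⟩ := hi.1 m
    have : f ^ N ∈ I := by
      show LinearMap.toSpanSingleton R P m (f ^ N) ∈
        LinearMap.range (Fintype.linearCombination R v)
      rw [LinearMap.toSpanSingleton_apply, hc]
      exact ⟨Pi.single i c, by rw [Fintype.linearCombination_apply_single]⟩
    exact hf (hp.isPrime.mem_of_pow_mem N (hIp this))
  have h1 : (1 : R) ∈ I := by rw [hI]; trivial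
  have h2 : LinearMap.toSpanSingleton R P m 1 ∈
      LinearMap.range (Fintype.linearCombination R v) := h1
  rw [LinearMap.toSpanSingleton_apply, one_smul] at h2
  exact h2

theorem finrank_eq_one (p : PrimeSpectrum R) :
    Module.finrank (Localization.AtPrime p.asIdeal)
      (LocalizedModule p.asIdeal.primeCompl P) = 1 := by
  obtain ⟨f, hf, i, hi⟩ := hloc p
  have e := equivLoc hi p.asIdeal.primeCompl hf
  rw [← e.finrank_eq]
  exact Module.finrank_self _

theorem finitePresentation : Module.FinitePresentation R P := by
  let s : Set R := {f | ∃ i, LocGen f (v i)}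
  have hs : Ideal.span s = ⊤ := by
    by_contra hne
    obtain ⟨p, hp, hIp⟩ := Ideal.exists_le_maximal _ hne
    obtain ⟨f, hf, i, hi⟩ := hloc ⟨p, hp.isPrime⟩
    exact hf (hIp (Ideal.subset_span ⟨i, hi⟩))
  refine Module.FinitePresentation.of_localizationSpan s hs fun g => ?_
  obtain ⟨i, hi⟩ := g.2
  exact Module.FinitePresentation.of_equiv
    (equivLoc hi (Submonoid.powers g.1) (Submonoid.mem_powers g.1))

theorem projective : Module.Projective R P := by
  haveI := finitePresentation v hloc
  apply Module.projective_of_localization_maximal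
  intro I hI
  obtain ⟨f, hf, i, hi⟩ := hloc ⟨I, hI.isPrime⟩
  exact Module.Projective.of_equiv (equivLoc hi I.primeCompl hf)

end Groth.Agent.InvMod
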