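import Mathlib
import Groth.Prelude
import Groth.Agent.Lib.InvMod1_helper5
import Groth.Agent.Lib.ProjUP7_helper5
import Groth.Agent.Lib.LocIso1_helper8
import Groth.Agent.Lib.FinCov2_helper8

/-!
# Local generators of quasi-coherent modules on affine schemes, algebraically  (helper5)
-/

set_option autoImplicit false
universe u
open CategoryTheory CategoryTheory.Limits AlgebraicGeometry TopologicalSpace Opposite
open QcqsLoc GenLocH8 TensH8 FLFH8 QCohExtn PBH8

namespace Groth.Agent.InvMod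

section Aff
variable {X : Scheme.{u}} [IsAffine X] (M : X.Modules) [M.IsQuasicoherent] (f : Γ(X, ⊤))

/-- A generator over `X_f` which is the restriction of a global section is a local generator
in the algebraic sense. -/
theorem locGen_of_isGen (m₀ : Γ(M, ⊤))
    (h : IsGen M (X.basicOpen f) (rF M (X.basicOpen_le f) m₀)) : LocGen f m₀ := by
  have hloc := (isAffineOpen_top X).isLocalization_basicOpen f
  have hg := h (X.basicOpen f) le_rfl
  rw [rF_rF] at hg
  constructor
  · intro m
    obtain ⟨c'', hc''⟩ := hg.1 (rF M (X.basicOpen_le f) m)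
    obtain ⟨⟨c', ⟨_, N, rfl⟩⟩, hc'⟩ := IsLocalization.surj (Submonoid.powers f) c''
    have hc₀ : c'' * rX (X.basicOpen_le f) f ^ N = rX (X.basicOpen_le f) c' := by
      have := hc'
      simp only [map_pow] at this
      exact this
    have h0 : M.presheaf.map (homOfLE (X.basicOpen_le f)).op (f ^ N • m - c' • m₀) = 0 := by
      show rF M (X.basicOpen_le f) _ = 0
      rw [map_sub, rF_smul, rF_smul, map_pow, hc'', ← mul_smul, ← hc₀, mul_comm, sub_self]
    obtain ⟨N', hN'⟩ := Groth.Agent.Lib.QCohLoc_helper4.exists_pow_smul_eq_zero M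
      (isAffineOpen_top X) f _ h0
    refine ⟨N' + N, f ^ N' * c', ?_⟩
    rw [smul_sub, sub_eq_zero, ← mul_smul, ← mul_smul, ← pow_add] at hN'
    exact hN'
  · intro c hc
    have h1 : rX (X.basicOpen_le f) c • rF M (X.basicOpen_le f) m₀ = 0 := by
      rw [← rF_smul, hc, map_zero]
    have h2 := hg.2 _ h1
    obtain ⟨⟨_, N, rfl⟩, hN⟩ := (IsLocalization.map_eq_zero_iff (Submonoid.powers f) _ c).mp h2
    exact ⟨N, hN⟩

/-- An algebraic local generator gives a free generator of the sections over `X_f`. -/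
theorem bijective_of_locGen (m₀ : Γ(M, ⊤)) (h : LocGen f m₀) :
    Function.Bijective (fun c : Γ(X, X.basicOpen f) => c • rF M (X.basicOpen_le f) m₀) := by
  have hloc := (isAffineOpen_top X).isLocalization_basicOpen f
  have hfu : IsUnit (rX (X.basicOpen_le f) f) := X.toRingedSpace.isUnit_res_basicOpen f
  constructor
  · intro c₁ c₂ hc12
    have hc : (c₁ - c₂) • rF M (X.basicOpen_le f) m₀ = 0 := by
      rw [sub_smul, sub_eq_zero]; exact hc12
    rw [← sub_eq_zero]
    set c := c₁ - c₂ with hcdef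
    obtain ⟨⟨c₀, ⟨_, N, rfl⟩⟩, hc₀'⟩ := IsLocalization.surj (Submonoid.powers f) c
    have hc₀ : c * rX (X.basicOpen_le f) f ^ N = rX (X.basicOpen_le f) c₀ := by
      have := hc₀'
      simp only [map_pow] at this
      exact this
    have h0 : M.presheaf.map (homOfLE (X.basicOpen_le f)).op (c₀ • m₀) = 0 := by
      show rF M (X.basicOpen_le f) _ = 0
      rw [rF_smul, ← hc₀, mul_comm, mul_smul, hc, smul_zero]
    obtain ⟨N', hN'⟩ := Groth.Agent.Lib.QCohLoc_helper4.exists_pow_smul_eq_zero M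
      (isAffineOpen_top X) f _ h0
    rw [← mul_smul] at hN'
    obtain ⟨N'', hN''⟩ := h.2 _ hN'
    have h3 : rX (X.basicOpen_le f) f ^ (N'' + N') * rX (X.basicOpen_le f) c₀ = 0 := by
      rw [← map_pow, ← map_mul, pow_add, mul_assoc, hN'', map_zero]
    have h4 : rX (X.basicOpen_le f) c₀ = 0 := (hfu.pow (N'' + N')).mul_right_eq_zero.mp h3
    rw [h4] at hc₀
    exact (hfu.pow N).mul_left_eq_zero.mp hc₀
  · intro l
    obtain ⟨n, t, ht⟩ := Groth.Agent.Lib.QCohLoc_helper4.exists_res_eq_pow_smul M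
      (isAffineOpen_top X) f l
    have ht' : rF M (X.basicOpen_le f) t = rX (X.basicOpen_le f) f ^ n • l := ht
    obtain ⟨N', c₀, hc₀⟩ := h.1 t
    obtain ⟨w, hw⟩ := (hfu.pow (N' + n)).exists_left_inv
    refine ⟨w * rX (X.basicOpen_le f) c₀, ?_⟩
    show (w * rX (X.basicOpen_le f) c₀) • rF M (X.basicOpen_le f) m₀ = l
    have h1 : rX (X.basicOpen_le f) c₀ • rF M (X.basicOpen_le f) m₀ =
        rX (X.basicOpen_le f) f ^ (N' + n) • l := by
      rw [← rF_smul, ← hc₀, rF_smul, ht', ← mul_smul, map_pow, ← pow_add]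
    rw [mul_smul, h1, ← mul_smul, hw, one_smul]

/-- Local triviality from an algebraic local generator. -/
theorem iso_of_locGen (m₀ : Γ(M, ⊤)) (h : LocGen f m₀) :
    Nonempty (M.restrict (X.basicOpen f).ι ≅ Coh.structureModule (X.basicOpen f : Scheme.{u})) := by
  haveI : (Coh.structureModule X).IsQuasicoherent := SerreCrit.isQuasicoherent_OO
  have hU : IsAffineOpen (X.basicOpen f) := (isAffineOpen_top X).basicOpen f
  let φ : Γ(X, X.basicOpen f) →ₗ[Γ(X, X.basicOpen f)] Γ(M, X.basicOpen f) :=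
    LinearMap.toSpanSingleton _ _ (rF M (X.basicOpen_le f) m₀)
  have hφ : Function.Bijective φ := bijective_of_locGen M f m₀ h
  let e : Γ(M, X.basicOpen f) ≃ₗ[Γ(X, X.basicOpen f)] Γ(Coh.structureModule X, X.basicOpen f) :=
    (LinearEquiv.ofBijective φ hφ).symm ≪≫ₗ (FLFH8.ofMLin (X.basicOpen f)).symm
  obtain ⟨α⟩ := LocIsoH8.nonempty_restrict_iso M (Coh.structureModule X) hU e
  exact ⟨α ≪≫ Scheme.Modules.restrictUnitIso (X.basicOpen f).ι⟩

end Aff

end Groth.Agent.InvMod
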