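import Mathlib
import Groth.Agent.Lib.InvMod1_helper5

/-!
# Local generators: transport along ring isomorphisms, existence for invertible modules (helper5)
-/

set_option autoImplicit false
universe u

namespace Groth.Agent.InvMod

/-- Transport of a local generator along a semilinear bijection over a bijective ring map. -/
theorem LocGen.transport {A B : Type u} [CommRing A] [CommRing B] {P P' : Type u}
    [AddCommGroup P] [Module A P] [AddCommGroup P'] [Module B P'] (σ : A →+* B)
    (hσ : Function.Bijective σ) (E : P →+ P') (hE : Function.Bijective E)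
    (hsl : ∀ (a : A) (m : P), E (a • m) = σ a • E m) {f : A} {e : P} (h : LocGen f e) :
    LocGen (σ f) (E e) := by
  constructor
  · intro m'
    obtain ⟨m, rfl⟩ := hE.2 m'
    obtain ⟨N, c, hc⟩ := h.1 m
    refine ⟨N, σ c, ?_⟩
    rw [← map_pow, ← hsl, ← hsl, hc]
  · intro b hb
    obtain ⟨c, rfl⟩ := hσ.2 b
    rw [← hsl] at hb
    have hc : c • e = 0 := hE.1 (by rw [hb, map_zero])
    obtain ⟨N, hN⟩ := h.2 c hc
    exact ⟨N, by rw [← map_pow, ← map_mul, hN, map_zero]⟩

variable {R : Type u} [CommRing R] {P : Type u} [AddCommGroup P] [Module R P]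

/-- A finite projective module of rank one at `p` has a local generator near `p`. -/
theorem exists_locGen [Module.Finite R P] [Module.Projective R P] (p : PrimeSpectrum R)
    (hp : Module.finrank (Localization.AtPrime p.asIdeal)
      (LocalizedModule p.asIdeal.primeCompl P) = 1) :
    ∃ f : R, f ∉ p.asIdeal ∧ ∃ e : P, LocGen f e := by
  haveI : Module.FinitePresentation R P := Module.finitePresentation_of_projective R P
  haveI : Module.Free (Localization.AtPrime p.asIdeal) (LocalizedModule p.asIdeal.primeCompl P) :=
    Module.free_of_flat_of_isLocalRing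
  let b : Module.Basis Unit (Localization.AtPrime p.asIdeal)
      (LocalizedModule p.asIdeal.primeCompl P) := Module.basisUnique Unit hp
  obtain ⟨r, hr, b', -⟩ := Module.FinitePresentation.exists_basis_localizedModule_powers
    p.asIdeal.primeCompl (LocalizedModule.mkLinearMap p.asIdeal.primeCompl P)
    (Localization.AtPrime p.asIdeal) b
  refine ⟨r, hr, ?_⟩
  have hy : ∃ y : LocalizedModule (Submonoid.powers r) P, y = b' () := ⟨_, rfl⟩
  obtain ⟨y, hy⟩ := hy
  induction y using LocalizedModule.induction_on with
  | h m s =>
    refine ⟨m, ?_, ?_⟩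
    · intro m'
      have h1 := b'.sum_repr (LocalizedModule.mk m' 1)
      rw [Finset.univ_unique, Finset.sum_singleton] at h1
      have hd : (default : Unit) = () := rfl
      rw [hd, ← hy] at h1
      generalize b'.repr (LocalizedModule.mk m' 1) () = x at h1
      induction x using Localization.induction_on with
      | H z =>
        obtain ⟨c, t⟩ := z
        rw [LocalizedModule.mk_smul_mk, LocalizedModule.mk_eq] at h1
        obtain ⟨u, hu⟩ := h1
        obtain ⟨ku, hku⟩ := u.2
        obtain ⟨kt, hkt⟩ := t.2
        obtain ⟨ks, hks⟩ := s.2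
        refine ⟨ku + (kt + ks), r ^ ku * c, ?_⟩
        have h3 := hu
        simp only [Submonoid.smul_def, Submonoid.coe_mul, Submonoid.coe_one, smul_smul,
          ← hku, ← hkt, ← hks] at h3
        rw [pow_add, pow_add, ← h3, one_mul]
    · intro c hc
      have h1 : (Localization.mk c (1 : Submonoid.powers r)) • b' () = 0 := by
        rw [← hy, LocalizedModule.mk_smul_mk, hc, LocalizedModule.zero_mk]
      have h2' : (Localization.mk c (1 : Submonoid.powers r)) • b'.repr (b' ()) = 0 := by
        rw [← LinearEquiv.map_smul, h1, map_zero]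
      rw [Module.Basis.repr_self] at h2'
      have h2 := DFunLike.congr_fun h2' ()
      rw [Finsupp.smul_apply, Finsupp.single_eq_same,
        smul_eq_mul, mul_one, Finsupp.zero_apply, Localization.mk_eq_mk',
        IsLocalization.mk'_eq_zero_iff] at h2
      obtain ⟨u, hu⟩ := h2
      obtain ⟨ku, hku⟩ := u.2
      have hku' : r ^ ku = (u : R) := hku
      exact ⟨ku, by rw [hku']; exact hu⟩

end Groth.Agent.InvMod
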