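import Mathlib
import Groth.Prelude
import Groth.Agent.Lib.InvMod2_helper5
import Groth.Agent.Lib.InvMod3_helper5

/-!
# Sections of projective space over an affine base and invertible quotients (helper5)
-/

set_option autoImplicit false
universe u
open CategoryTheory CategoryTheory.Limits AlgebraicGeometry TopologicalSpace Opposite
open QcqsLoc GenLocH8 TensH8 FLFH8 QCohExtn PBH8
open Groth.Agent.ProjUPU

namespace Groth.Agent.InvMod

section Fwd
variable {R : Type u} [CommRing R] (n : ℕ)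

/-- Pulled-back coordinates locally generate: for any morphism `s : Spec R ⟶ P^n_R`, near every
prime one of the `s^*T_i` is a local generator of `Γ(s^*O(1))` as an `R`-module. -/
theorem locGen_pullSec (s : Spec (CommRingCat.of R) ⟶ CohB1.ProjSpace n R) :
    letI : Module R (ProjUP.Γm ((Scheme.Modules.pullback s).obj (Twist.twistProjSpace n R 1))) :=
      Module.compHom _ (Scheme.ΓSpecIso (CommRingCat.of R)).inv.hom
    ∀ p : PrimeSpectrum R, ∃ f : R, f ∉ p.asIdeal ∧ ∃ i : Fin (n + 1),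
      LocGen f (ProjUP.pullSec s (Twist.twistProjSpace n R 1) (ProjUP.coord n R i)) := by
  letI : Module R (ProjUP.Γm ((Scheme.Modules.pullback s).obj (Twist.twistProjSpace n R 1))) :=
    Module.compHom _ (Scheme.ΓSpecIso (CommRingCat.of R)).inv.hom
  intro p
  let X : Scheme.{u} := Spec (CommRingCat.of R)
  let 𝒮 := CohB1.polyGrading n R
  have hg : ∀ i : Fin (n + 1), (MvPolynomial.X i : MvPolynomial (Fin (n + 1)) R) ∈ 𝒮 1 :=
    fun i => MvPolynomial.isHomogeneous_X R i
  have hcovI : ∀ y : Proj 𝒮, ∃ i, y ∈ Proj.basicOpen 𝒮 (MvPolynomial.X i) :=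
    ProjTw.cover_of_adjoin 𝒮 (MvPolynomial.X : Fin (n + 1) → MvPolynomial (Fin (n + 1)) R)
      (fun _ => 1) (fun _ => one_pos) hg MvPolynomial.adjoin_range_X
  have hcov : ∀ y : Proj 𝒮, ∃ f ∈ 𝒮 1, y ∈ Proj.basicOpen 𝒮 f := fun y => by
    obtain ⟨i, hi⟩ := hcovI y
    exact ⟨_, hg i, hi⟩
  let x : X := p
  obtain ⟨i, hi⟩ := hcovI (s x)
  obtain ⟨_, ⟨f', rfl⟩, hxf, hfle⟩ := Opens.isBasis_iff_nbhd.mp (isBasis_basicOpen X)
    (show x ∈ (s ⁻¹ᵁ Proj.basicOpen 𝒮 (MvPolynomial.X i) : X.Opens) from hi)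
  haveI : ((Scheme.Modules.pullback s).obj (Twist.twist 𝒮 1)).IsQuasicoherent :=
    isQuasicoherent_of_isInvertible (isInvertible_pullback s (ProjTw.isInvertible_twist 𝒮 hcov 1))
  have hgen := isGen_psec 𝒮 s hcov (hg i) hfle
  have hLG : LocGen f' (ProjUP.pullSec s (Twist.twist 𝒮 1) (sig 𝒮 (hg i))) :=
    locGen_of_isGen ((Scheme.Modules.pullback s).obj (Twist.twist 𝒮 1)) f' _ hgen
  refine ⟨(Scheme.ΓSpecIso (CommRingCat.of R)).hom.hom f', ?_, i, ?_⟩
  · have h1 : x ∈ X.basicOpen f' := hxf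
    rw [basicOpen_eq_of_affine' f'] at h1
    exact h1
  · have hinv : ∀ a : Γ(X, ⊤), (Scheme.ΓSpecIso (CommRingCat.of R)).inv.hom
        ((Scheme.ΓSpecIso (CommRingCat.of R)).hom.hom a) = a := fun a =>
      congrArg (fun f => f.hom a) (Scheme.ΓSpecIso (CommRingCat.of R)).hom_inv_id
    exact LocGen.transport (Scheme.ΓSpecIso (CommRingCat.of R)).hom.hom
      (ConcreteCategory.bijective_of_isIso (Scheme.ΓSpecIso (CommRingCat.of R)).hom)
      (AddMonoidHom.id _) Function.bijective_id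
      (fun a m => by
        show a • m = (Scheme.ΓSpecIso (CommRingCat.of R)).inv.hom
          ((Scheme.ΓSpecIso (CommRingCat.of R)).hom.hom a) • m
        rw [hinv]) hLG

end Fwd

section Bwd
variable (R : Type u) [CommRing R] (Q : Type u) [AddCommGroup Q] [Module R Q]

/-- The quasi-coherent module on `Spec R` attached to `Q`. -/
noncomputable abbrev tl : (Spec (CommRingCat.of R)).Modules :=
  tilde (R := CommRingCat.of R) (ModuleCat.of R Q)

/-- `Q → Γ(Spec R, Q~)`. -/
noncomputable def E₀ : Q →+ ProjUP.Γm (tl R Q) :=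
  ((tilde.isoTop (R := CommRingCat.of R) (ModuleCat.of R Q)).hom.hom).toAddMonoidHom

theorem E₀_bijective : Function.Bijective (E₀ R Q) :=
  ConcreteCategory.bijective_of_isIso (tilde.isoTop (R := CommRingCat.of R) (ModuleCat.of R Q)).hom

theorem E₀_smul (r : R) (q : Q) :
    E₀ R Q (r • q) = ((Scheme.ΓSpecIso (CommRingCat.of R)).inv.hom r : Γ(Spec (CommRingCat.of R), ⊤)) •
      (E₀ R Q q : Γ(tl R Q, ⊤)) :=
  ((tilde.isoTop (R := CommRingCat.of R) (ModuleCat.of R Q)).hom.hom).map_smul r q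

theorem isInvertible_tl [Module.Finite R Q] [Module.Projective R Q]
    (hrk : ∀ p : PrimeSpectrum R, Module.finrank (Localization.AtPrime p.asIdeal)
      (LocalizedModule p.asIdeal.primeCompl Q) = 1) : PicF.IsInvertible (tl R Q) := by
  intro y
  let p : PrimeSpectrum R := y
  obtain ⟨f, hf, e, he⟩ := exists_locGen p (hrk p)
  have h' : LocGen ((Scheme.ΓSpecIso (CommRingCat.of R)).inv.hom f :
      Γ(Spec (CommRingCat.of R), ⊤)) (E₀ R Q e : Γ(tl R Q, ⊤)) :=
    LocGen.transport (Scheme.ΓSpecIso (CommRingCat.of R)).inv.hom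
      (ConcreteCategory.bijective_of_isIso (Scheme.ΓSpecIso (CommRingCat.of R)).inv)
      (E₀ R Q) (E₀_bijective R Q) (E₀_smul R Q) he
  refine ⟨(Spec (CommRingCat.of R)).basicOpen
    ((Scheme.ΓSpecIso (CommRingCat.of R)).inv.hom f), ?_, iso_of_locGen (tl R Q) _ _ h'⟩
  have h1 := basicOpen_eq_of_affine (R := CommRingCat.of R) f
  have h2 : y ∈ (PrimeSpectrum.basicOpen f : Set (PrimeSpectrum R)) := hf
  rw [← h1] at h2
  exact h2

theorem generatedBy_tl {ι : Type} (w : ι → Q) (hw : Submodule.span R (Set.range w) = ⊤) :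
    ProjUP.GeneratedBy (tl R Q) (fun i => E₀ R Q (w i)) := by
  intro x
  have key : ∀ q : Q, (tl R Q).presheaf.germ ⊤ x (Opens.mem_top x) (E₀ R Q q) ∈
      Submodule.span ((Spec (CommRingCat.of R)).presheaf.stalk x)
        (Set.range fun i => ((tl R Q).presheaf.germ ⊤ x trivial).hom (E₀ R Q (w i))) := by
    intro q
    have hq : q ∈ Submodule.span R (Set.range w) := hw ▸ Submodule.mem_top
    induction hq using Submodule.span_induction with
    | mem q hq =>
      obtain ⟨i, rfl⟩ := hq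
      exact Submodule.subset_span ⟨i, rfl⟩
    | zero => rw [map_zero, map_zero]; exact Submodule.zero_mem _
    | add q₁ q₂ _ _ h₁ h₂ => rw [map_add, map_add]; exact Submodule.add_mem _ h₁ h₂
    | smul r q _ h₁ =>
      rw [E₀_smul, Groth.Agent.Lib.QCohLoc_helper4.germ_smul]
      exact Submodule.smul_mem _ _ h₁
  rw [eq_top_iff]
  intro z _
  have hA := isAffineOpen_top (Spec (CommRingCat.of R))
  obtain ⟨g, t, hxg, hgt⟩ := (Groth.Agent.Lib.QCohLoc_helper4.locOn_of_isQuasicoherent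
    (tl R Q) hA).exists_germ_eq_smul hA (Opens.mem_top x) z
  have hu : IsUnit ((Spec (CommRingCat.of R)).presheaf.germ ⊤ x (Opens.mem_top x) g) :=
    (Scheme.mem_basicOpen _ _ _ (Opens.mem_top x)).mp hxg
  obtain ⟨a, ha⟩ := hu.exists_left_inv
  have hz : z = a • (tl R Q).presheaf.germ ⊤ x (Opens.mem_top x) t := by
    rw [hgt, ← mul_smul, ha, one_smul]
  rw [hz]
  apply Submodule.smul_mem
  obtain ⟨q, rfl⟩ := (E₀_bijective R Q).2 t
  exact key q

end Bwd

end Groth.Agent.InvMod
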