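import Mathlib

set_option autoImplicit false
set_option linter.unusedVariables false
set_option linter.unusedTactic false
set_option linter.unreachableTactic false
set_option linter.unusedSectionVars false
set_option linter.style.haveILetI false
set_option maxHeartbeats 800000

universe u v

open TensorProduct

namespace Groth.Agent.Lib.InvNormH4

/-- Abstract norm-polynomial lemma: for a finite group acting (through ring endomorphisms `g σ`)
on `B` with the invariants contained in the image of an injective `ι : B₀ →+* B`, the polynomial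
`∏_σ (T - Σ_j Y_j g_σ(r_j))` over `B[Y]` comes from a monic polynomial over `B₀[Y]`. -/
theorem exists_inv_poly {B₀ B : Type u} [CommRing B₀] [CommRing B] (ι : B₀ →+* B)
    (hι : Function.Injective ι) {G : Type u} [Group G] [Fintype G] (g : G → (B →+* B))
    (hg : ∀ σ τ x, g σ (g τ x) = g (σ * τ) x)
    (hinv : ∀ x, (∀ σ, g σ x = x) → x ∈ Set.range ι)
    {J : Type v} [Fintype J] (r : J → B) :
    ∃ F' : Polynomial (MvPolynomial J B₀), F'.Monic ∧
      F'.map (MvPolynomial.map ι) =
        ∏ σ : G, (Polynomial.X -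
          Polynomial.C (∑ j, MvPolynomial.X j * MvPolynomial.C (g σ (r j)))) := by
  classical
  obtain ⟨Fb, hFb⟩ : ∃ Fb : Polynomial (MvPolynomial J B), Fb = ∏ σ : G, (Polynomial.X -
      Polynomial.C (∑ j, MvPolynomial.X j * MvPolynomial.C (g σ (r j)))) := ⟨_, rfl⟩
  rw [← hFb]
  have hmap : ∀ τ : G, Fb.map (MvPolynomial.map (g τ)) = Fb := by
    intro τ
    rw [hFb, Polynomial.map_prod]
    refine Fintype.prod_equiv (Equiv.mulLeft τ) _ _ (fun σ => ?_)
    rw [Polynomial.map_sub, Polynomial.map_X, Polynomial.map_C]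
    refine congrArg (fun z : MvPolynomial J B => (Polynomial.X : Polynomial (MvPolynomial J B)) - Polynomial.C z) ?_
    rw [map_sum]
    refine Finset.sum_congr rfl (fun j _ => ?_)
    rw [map_mul, MvPolynomial.map_X, MvPolynomial.map_C, hg]
    rfl
  have hcoeff : ∀ k, Fb.coeff k ∈
      (MvPolynomial.map ι : MvPolynomial J B₀ →+* MvPolynomial J B).range := by
    intro k
    refine RingHom.mem_range.mpr (Set.mem_range.mp ?_)
    rw [MvPolynomial.mem_range_map_iff_coeffs_subset]
    intro c hc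
    rw [Finset.mem_coe, MvPolynomial.mem_coeffs_iff] at hc
    obtain ⟨m, -, rfl⟩ := hc
    refine hinv _ (fun τ => ?_)
    have h1 : MvPolynomial.coeff m ((Fb.map (MvPolynomial.map (g τ))).coeff k) =
        MvPolynomial.coeff m (Fb.coeff k) := by rw [hmap τ]
    rw [Polynomial.coeff_map, MvPolynomial.coeff_map] at h1
    exact h1
  have hmem : Fb ∈ (Polynomial.mapRingHom (MvPolynomial.map ι)).range :=
    (Polynomial.mem_map_range _).mpr hcoeff
  obtain ⟨F', hF'⟩ := RingHom.mem_range.mp hmem
  rw [Polynomial.coe_mapRingHom] at hF'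
  refine ⟨F', ?_, hF'⟩
  apply Polynomial.monic_of_injective (MvPolynomial.map_injective ι hι)
  rw [hF', hFb]
  exact Polynomial.monic_prod_of_monic _ _ (fun σ _ => Polynomial.monic_X_sub_C _)

/-- Invariant polynomials have invariant coefficients. -/
theorem mem_range_map_of_inv {R : Type u} [CommRing R] {G : Type u} [Group G]
    [MulSemiringAction G R] {σ' : Type v} (x : MvPolynomial σ' R)
    (hx : ∀ τ : G, MvPolynomial.map (MulSemiringAction.toRingHom G R τ) x = x) :
    x ∈ Set.range (MvPolynomial.map (algebraMap (FixedPoints.subring R G) R)) := by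
  classical
  rw [MvPolynomial.mem_range_map_iff_coeffs_subset]
  intro c hc
  rw [Finset.mem_coe, MvPolynomial.mem_coeffs_iff] at hc
  obtain ⟨m, -, rfl⟩ := hc
  have hmem : ∀ τ : G, τ • MvPolynomial.coeff m x = MvPolynomial.coeff m x := by
    intro τ
    have h1 := congrArg (MvPolynomial.coeff m) (hx τ)
    rw [MvPolynomial.coeff_map] at h1
    exact h1
  exact ⟨⟨_, hmem⟩, rfl⟩

section

variable (R G A : Type u) [CommRing R] [Group G] [Fintype G]
    [MulSemiringAction G R] [CommRing A] [Algebra (FixedPoints.subring R G) A]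

local notation "𝕊" => FixedPoints.subring R G

theorem part1 (b : A ⊗[𝕊] R)
    (hb : ∀ σ : G, Algebra.TensorProduct.map (AlgHom.id 𝕊 A)
        (MulSemiringAction.toAlgHom 𝕊 R σ) b = b) :
    ∃ P : Polynomial A, P.Monic ∧
        Polynomial.map (algebraMap A (A ⊗[𝕊] R)) P =
          (Polynomial.X - Polynomial.C b) ^ Fintype.card G := by
  classical
  obtain ⟨s, rfl⟩ := TensorProduct.exists_finset b
  obtain ⟨F', hF'm, hF'⟩ := exists_inv_poly (algebraMap 𝕊 R) Subtype.val_injective
    (fun σ => MulSemiringAction.toRingHom G R σ) (fun σ τ x => (mul_smul σ τ x).symm)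
    (fun x hx => ⟨⟨x, hx⟩, rfl⟩) (J := ↥s) (fun j => (j : A × R).2)
  obtain ⟨ψ, hψX⟩ : ∃ ψ : MvPolynomial ↥s 𝕊 →ₐ[𝕊] A,
      ∀ j : ↥s, ψ (MvPolynomial.X j) = (j : A × R).1 :=
    ⟨MvPolynomial.aeval (fun j : ↥s => (j : A × R).1), fun j => by simp⟩
  refine ⟨F'.map (ψ : MvPolynomial ↥s 𝕊 →+* A), hF'm.map _, ?_⟩
  obtain ⟨Φ, hΦC, hΦX⟩ : ∃ Φ : MvPolynomial ↥s R →+* (A ⊗[𝕊] R),
      (∀ c, Φ (MvPolynomial.C c) = 1 ⊗ₜ c) ∧
      (∀ j : ↥s, Φ (MvPolynomial.X j) = (j : A × R).1 ⊗ₜ 1) :=
    ⟨MvPolynomial.eval₂Hom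
      (Algebra.TensorProduct.includeRight : R →ₐ[𝕊] A ⊗[𝕊] R).toRingHom
      (fun j => (j : A × R).1 ⊗ₜ 1), fun c => by simp, fun j => by simp⟩
  have hΦ : (algebraMap A (A ⊗[𝕊] R)).comp (ψ : MvPolynomial ↥s 𝕊 →+* A) =
      Φ.comp (MvPolynomial.map (algebraMap 𝕊 R)) := by
    apply MvPolynomial.ringHom_ext
    · intro c
      rw [RingHom.comp_apply, RingHom.comp_apply, MvPolynomial.map_C, hΦC, RingHom.coe_coe,
        MvPolynomial.algHom_C, Algebra.TensorProduct.algebraMap_apply, Algebra.algebraMap_self_apply,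
        Algebra.algebraMap_eq_smul_one, TensorProduct.smul_tmul, ← Algebra.algebraMap_eq_smul_one]
    · intro j
      rw [RingHom.comp_apply, RingHom.comp_apply, MvPolynomial.map_X, hΦX, RingHom.coe_coe,
        hψX, Algebra.TensorProduct.algebraMap_apply, Algebra.algebraMap_self_apply]
  have hsum : ∀ σ : G, ∑ j : ↥s, ((j : A × R).1 ⊗ₜ[𝕊] (1 : R)) *
      ((1 : A) ⊗ₜ[𝕊] (σ • (j : A × R).2)) = ∑ i ∈ s, i.1 ⊗ₜ[𝕊] i.2 := by
    intro σ
    have h1 : ∑ j : ↥s, ((j : A × R).1 ⊗ₜ[𝕊] (1 : R)) * ((1 : A) ⊗ₜ[𝕊] (σ • (j : A × R).2)) =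
        ∑ i ∈ s, i.1 ⊗ₜ[𝕊] (σ • i.2) := by
      rw [← Finset.sum_coe_sort s (fun i => i.1 ⊗ₜ[𝕊] (σ • i.2))]
      refine Finset.sum_congr rfl (fun j _ => ?_)
      rw [Algebra.TensorProduct.tmul_mul_tmul, mul_one, one_mul]
    rw [h1]
    conv_rhs => rw [← hb σ]
    rw [map_sum]
    refine Finset.sum_congr rfl (fun i _ => ?_)
    rw [Algebra.TensorProduct.map_tmul]
    rfl
  rw [Polynomial.map_map, hΦ, ← Polynomial.map_map, hF', Polynomial.map_prod]
  have hfac : ∀ σ : G, Polynomial.map Φ (Polynomial.X - Polynomial.C (∑ j : ↥s,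
      MvPolynomial.X j * MvPolynomial.C ((MulSemiringAction.toRingHom G R σ) ((j : A × R).2)))) =
      Polynomial.X - Polynomial.C (∑ i ∈ s, i.1 ⊗ₜ[𝕊] i.2) := by
    intro σ
    rw [Polynomial.map_sub, Polynomial.map_X, Polynomial.map_C]
    refine congrArg (fun z : A ⊗[𝕊] R => (Polynomial.X : Polynomial (A ⊗[𝕊] R)) - Polynomial.C z) ?_
    rw [map_sum, ← hsum σ]
    refine Finset.sum_congr rfl (fun j _ => ?_)
    rw [map_mul, hΦX, hΦC]
    rfl
  rw [Finset.prod_congr rfl (fun σ _ => hfac σ), Finset.prod_const, Finset.card_univ]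

theorem part2 (a : A) (ha : algebraMap A (A ⊗[𝕊] R) a = 0) :
    (Polynomial.X - Polynomial.C a) ^ Fintype.card G =
      (Polynomial.X : Polynomial A) ^ Fintype.card G := by
  classical
  obtain ⟨φ, hφ⟩ : ∃ φ : MvPolynomial A 𝕊 →ₐ[𝕊] A, ∀ x : A, φ (MvPolynomial.X x) = x :=
    ⟨MvPolynomial.aeval (id : A → A), fun x => by simp⟩
  have hφs : Function.Surjective φ := fun x => ⟨MvPolynomial.X x, hφ x⟩
  have h1 : (1 : R) ⊗ₜ[𝕊] a = 0 := by
    have h0 := congrArg (Algebra.TensorProduct.comm 𝕊 A R) ha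
    rw [Algebra.TensorProduct.algebraMap_apply, Algebra.algebraMap_self_apply,
      Algebra.TensorProduct.comm_tmul, map_zero] at h0
    exact h0
  have h2 : ((1 : R) ⊗ₜ[𝕊] (MvPolynomial.X a : MvPolynomial A 𝕊)) ∈
      Ideal.map (Algebra.TensorProduct.includeRight :
        MvPolynomial A 𝕊 →ₐ[𝕊] R ⊗[𝕊] MvPolynomial A 𝕊) (RingHom.ker φ) := by
    rw [← Algebra.TensorProduct.lTensor_ker (A := R) φ hφs, RingHom.mem_ker,
      Algebra.TensorProduct.map_tmul, hφ]
    exact h1
  have hle : Ideal.map (Algebra.TensorProduct.includeRight :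
        MvPolynomial A 𝕊 →ₐ[𝕊] R ⊗[𝕊] MvPolynomial A 𝕊) (RingHom.ker φ) ≤
      Ideal.comap (MvPolynomial.algebraTensorAlgEquiv 𝕊 R)
        (Ideal.map (MvPolynomial.map (algebraMap 𝕊 R)) (RingHom.ker φ)) := by
    rw [Ideal.map_le_iff_le_comap]
    intro x hx
    rw [Ideal.mem_comap, Ideal.mem_comap, Algebra.TensorProduct.includeRight_apply,
      MvPolynomial.algebraTensorAlgEquiv_tmul, one_smul]
    exact Ideal.mem_map_of_mem _ hx
  have hX : (MvPolynomial.X a : MvPolynomial A R) ∈
      Submodule.span (MvPolynomial A R)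
        ((MvPolynomial.map (algebraMap 𝕊 R)) '' (RingHom.ker φ : Set (MvPolynomial A 𝕊))) := by
    have h3 := hle h2
    rw [Ideal.mem_comap, MvPolynomial.algebraTensorAlgEquiv_tmul, one_smul,
      MvPolynomial.map_X] at h3
    exact h3
  obtain ⟨t, ht, c, hc⟩ := (Submodule.mem_span_image_iff_exists_fun _).mp hX
  have hιinj : Function.Injective
      (MvPolynomial.map (algebraMap 𝕊 R) : MvPolynomial A 𝕊 →+* MvPolynomial A R) :=
    MvPolynomial.map_injective _ Subtype.val_injective
  obtain ⟨F', hF'm, hF'⟩ := exists_inv_poly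
    (MvPolynomial.map (algebraMap 𝕊 R) : MvPolynomial A 𝕊 →+* MvPolynomial A R) hιinj
    (fun σ => MvPolynomial.map (MulSemiringAction.toRingHom G R σ))
    (fun σ τ x => by
      rw [MvPolynomial.map_map]
      have h5 : (MulSemiringAction.toRingHom G R σ).comp (MulSemiringAction.toRingHom G R τ) =
          MulSemiringAction.toRingHom G R (σ * τ) :=
        RingHom.ext (fun y => (mul_smul σ τ y).symm)
      rw [h5])
    (fun x hx => mem_range_map_of_inv x hx) (J := ↥t) c
  have hfix : ∀ (σ : G) (p : MvPolynomial A 𝕊),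
      MvPolynomial.map (MulSemiringAction.toRingHom G R σ)
        (MvPolynomial.map (algebraMap 𝕊 R) p) = MvPolynomial.map (algebraMap 𝕊 R) p := by
    intro σ p
    rw [MvPolynomial.map_map]
    have h5 : (MulSemiringAction.toRingHom G R σ).comp (algebraMap 𝕊 R) = algebraMap 𝕊 R :=
      RingHom.ext (fun s => s.2 σ)
    rw [h5]
  have hsum : ∀ σ : G, ∑ j : ↥t, MvPolynomial.map (algebraMap 𝕊 R) (j : MvPolynomial A 𝕊) *
      MvPolynomial.map (MulSemiringAction.toRingHom G R σ) (c j) = MvPolynomial.X a := by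
    intro σ
    have h4 := congrArg (MvPolynomial.map (MulSemiringAction.toRingHom G R σ)) hc
    rw [map_sum, MvPolynomial.map_X] at h4
    rw [← h4]
    refine Finset.sum_congr rfl (fun j _ => ?_)
    rw [smul_eq_mul, map_mul, hfix, mul_comm]
  -- evaluation maps
  have hcomm1 : (MvPolynomial.map (algebraMap 𝕊 R) : MvPolynomial A 𝕊 →+* MvPolynomial A R).comp
      (MvPolynomial.eval (fun j : ↥t => (j : MvPolynomial A 𝕊))) =
      (MvPolynomial.eval (fun j : ↥t => MvPolynomial.map (algebraMap 𝕊 R)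
        (j : MvPolynomial A 𝕊))).comp
        (MvPolynomial.map (MvPolynomial.map (algebraMap 𝕊 R))) := by
    apply MvPolynomial.ringHom_ext
    · intro p
      simp only [RingHom.comp_apply, MvPolynomial.eval_C, MvPolynomial.map_C]
    · intro j
      simp only [RingHom.comp_apply, MvPolynomial.eval_X, MvPolynomial.map_X]
  have hcomm0 : (MvPolynomial.map (algebraMap 𝕊 R) : MvPolynomial A 𝕊 →+* MvPolynomial A R).comp
      (MvPolynomial.eval (fun j : ↥t => (0 : MvPolynomial A 𝕊))) =
      (MvPolynomial.eval (fun j : ↥t => (0 : MvPolynomial A R))).comp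
        (MvPolynomial.map (MvPolynomial.map (algebraMap 𝕊 R))) := by
    apply MvPolynomial.ringHom_ext
    · intro p
      simp only [RingHom.comp_apply, MvPolynomial.eval_C, MvPolynomial.map_C]
    · intro j
      simp only [RingHom.comp_apply, MvPolynomial.eval_X, MvPolynomial.map_X, map_zero]
  have hA : F'.map (MvPolynomial.eval (fun j : ↥t => (j : MvPolynomial A 𝕊))) =
      (Polynomial.X - Polynomial.C (MvPolynomial.X a)) ^ Fintype.card G := by
    apply Polynomial.map_injective _ hιinj
    rw [Polynomial.map_map, hcomm1, ← Polynomial.map_map, hF', Polynomial.map_prod]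
    have hfac : ∀ σ : G, Polynomial.map (MvPolynomial.eval (fun j : ↥t =>
        MvPolynomial.map (algebraMap 𝕊 R) (j : MvPolynomial A 𝕊)))
        (Polynomial.X - Polynomial.C (∑ j : ↥t, MvPolynomial.X j * MvPolynomial.C
          (MvPolynomial.map (MulSemiringAction.toRingHom G R σ) (c j)))) =
        Polynomial.X - Polynomial.C (MvPolynomial.X a) := by
      intro σ
      rw [Polynomial.map_sub, Polynomial.map_X, Polynomial.map_C]
      refine congrArg (fun z : MvPolynomial A R => (Polynomial.X : Polynomial (MvPolynomial A R)) - Polynomial.C z) ?_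
      rw [map_sum, ← hsum σ]
      refine Finset.sum_congr rfl (fun j _ => ?_)
      rw [map_mul, MvPolynomial.eval_X, MvPolynomial.eval_C]
    rw [Finset.prod_congr rfl (fun σ _ => hfac σ), Finset.prod_const, Finset.card_univ]
    simp only [Polynomial.map_pow, Polynomial.map_sub, Polynomial.map_X, Polynomial.map_C,
      MvPolynomial.map_X]
  have hB : F'.map (MvPolynomial.eval (fun j : ↥t => (0 : MvPolynomial A 𝕊))) =
      Polynomial.X ^ Fintype.card G := by
    apply Polynomial.map_injective _ hιinj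
    rw [Polynomial.map_map, hcomm0, ← Polynomial.map_map, hF', Polynomial.map_prod]
    have hfac : ∀ σ : G, Polynomial.map (MvPolynomial.eval (fun j : ↥t =>
        (0 : MvPolynomial A R)))
        (Polynomial.X - Polynomial.C (∑ j : ↥t, MvPolynomial.X j * MvPolynomial.C
          (MvPolynomial.map (MulSemiringAction.toRingHom G R σ) (c j)))) =
        Polynomial.X := by
      intro σ
      rw [Polynomial.map_sub, Polynomial.map_X, Polynomial.map_C]
      have h0 : (MvPolynomial.eval (fun j : ↥t => (0 : MvPolynomial A R)))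
          (∑ j : ↥t, MvPolynomial.X j * MvPolynomial.C
            (MvPolynomial.map (MulSemiringAction.toRingHom G R σ) (c j))) = 0 := by
        rw [map_sum]
        refine Finset.sum_eq_zero (fun j _ => ?_)
        rw [map_mul, MvPolynomial.eval_X, zero_mul]
      rw [h0, map_zero, sub_zero]
    rw [Finset.prod_congr rfl (fun σ _ => hfac σ), Finset.prod_const, Finset.card_univ]
    simp only [Polynomial.map_pow, Polynomial.map_X]
  have hC : (φ : MvPolynomial A 𝕊 →+* A).comp
      (MvPolynomial.eval (fun j : ↥t => (j : MvPolynomial A 𝕊))) =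
      (φ : MvPolynomial A 𝕊 →+* A).comp
      (MvPolynomial.eval (fun j : ↥t => (0 : MvPolynomial A 𝕊))) := by
    apply MvPolynomial.ringHom_ext
    · intro p
      simp only [RingHom.comp_apply, MvPolynomial.eval_C]
    · intro j
      simp only [RingHom.comp_apply, MvPolynomial.eval_X, map_zero, RingHom.coe_coe]
      exact RingHom.mem_ker.mp (ht j.2)
  have hfin : Polynomial.map (φ : MvPolynomial A 𝕊 →+* A)
      ((Polynomial.X - Polynomial.C (MvPolynomial.X a)) ^ Fintype.card G) =
      Polynomial.map (φ : MvPolynomial A 𝕊 →+* A) (Polynomial.X ^ Fintype.card G) := by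
    rw [← hA, ← hB, Polynomial.map_map, Polynomial.map_map, hC]
  simp only [Polynomial.map_pow, Polynomial.map_sub, Polynomial.map_X, Polynomial.map_C,
    RingHom.coe_coe, hφ] at hfin
  exact hfin

theorem main :
    (∀ b : TensorProduct (FixedPoints.subring R G) A R,
      (∀ σ : G, Algebra.TensorProduct.map (AlgHom.id (FixedPoints.subring R G) A)
        (MulSemiringAction.toAlgHom (FixedPoints.subring R G) R σ) b = b) →
      ∃ P : Polynomial A, P.Monic ∧
        Polynomial.map (algebraMap A (TensorProduct (FixedPoints.subring R G) A R)) P =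
          (Polynomial.X - Polynomial.C b) ^ Fintype.card G) ∧
    (∀ a : A, algebraMap A (TensorProduct (FixedPoints.subring R G) A R) a = 0 →
      ∀ i : ℕ, i < Fintype.card G →
        ((Polynomial.X - Polynomial.C a) ^ Fintype.card G).coeff i = 0) := by
  refine ⟨fun b hb => part1 R G A b hb, fun a ha i hi => ?_⟩
  rw [part2 R G A a ha, Polynomial.coeff_X_pow, if_neg hi.ne]

end

end Groth.Agent.Lib.InvNormH4
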