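import Mathlib

/-!
# A ramification lemma for finite group actions

`A` a domain, `D` a finite group acting faithfully, `C` its ring of invariants with `A` finite
over `C`, `π` a prime element of `A` whose ideal is stable under `D`, and such that every element
of `A` is congruent mod `π` to a fraction of invariants with denominator prime to `π`
(trivial residue field extension).  Then every nonzero invariant divisible by `π` is divisible by
`π ^ |D|` (the ramification index is at least `|D|`).
-/

set_option autoImplicit false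

namespace Groth.Agent.Lib.InvRamH6

section

variable {A : Type*} [CommRing A] (C : Type*) [CommRing C] [Algebra C A]

/-- the `C`-span of `1, π, …, π^(j-1)` -/
def Npow (π : A) (j : ℕ) : Submodule C A :=
  Submodule.span C (Set.range fun i : Fin j => π ^ (i : ℕ))

theorem Npow_mono (π : A) (j : ℕ) : Npow C π j ≤ Npow C π (j + 1) := by
  apply Submodule.span_mono
  rintro _ ⟨i, rfl⟩
  exact ⟨i.castSucc, by simp⟩

theorem pow_mem_Npow (π : A) (j : ℕ) : π ^ j ∈ Npow C π (j + 1) :=
  Submodule.subset_span ⟨Fin.last j, by simp⟩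

variable {C}

theorem step_i {π : A} (hπ : Prime π)
    (hres : ∀ a : A, ∃ b s : C, ¬ π ∣ algebraMap C A s ∧
      π ∣ algebraMap C A s * a - algebraMap C A b)
    (j : ℕ) : ∀ a : A, ∃ s : C, ¬ π ∣ algebraMap C A s ∧
      ∃ n ∈ Npow C π j, π ^ j ∣ algebraMap C A s * a - n := by
  induction j with
  | zero =>
    intro a
    exact ⟨1, by rw [map_one]; exact hπ.not_dvd_one, 0, zero_mem _, by simp⟩
  | succ j ih =>
    intro a
    obtain ⟨s, hs, n, hn, a', ha'⟩ := ih a
    obtain ⟨b, s', hs', a'', ha''⟩ := hres a'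
    refine ⟨s' * s, ?_, s' • n + b • π ^ j, ?_, a'', ?_⟩
    · rw [map_mul]
      intro h
      rcases hπ.dvd_or_dvd h with h | h
      · exact hs' h
      · exact hs h
    · exact add_mem (Submodule.smul_mem _ _ (Npow_mono C π j hn))
        (Submodule.smul_mem _ _ (pow_mem_Npow C π j))
    · rw [Algebra.smul_def, Algebra.smul_def, map_mul, pow_succ]
      linear_combination (algebraMap C A s') * ha' + π ^ j * ha''

end

section main

variable {A : Type*} [CommRing A] [IsDomain A] {C : Type*} [CommRing C] [Algebra C A]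
  {D : Type*} [Group D] [Finite D] [MulSemiringAction D A] [SMulCommClass D C A]

/-- the norm-type element `∏ g, g • w` is not divisible by `π` if `w` is not and `π`'s ideal is
stable. -/
theorem not_dvd_prod_smul [Fintype D] {π : A} (hπ : Prime π) (hD : ∀ g : D, π ∣ g • π) {w : A}
    (hw : ¬ π ∣ w) : ¬ π ∣ ∏ g : D, g • w := by
  intro h
  obtain ⟨g, -, hg⟩ := (Prime.dvd_finset_prod_iff hπ _).mp h
  apply hw
  have h1 : g⁻¹ • π ∣ g⁻¹ • (g • w) := map_dvd (MulSemiringAction.toRingHom D A g⁻¹) hg
  rw [inv_smul_smul] at h1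
  exact (hD g⁻¹).trans h1

theorem exists_kill [WfDvdMonoid A] [Algebra.IsInvariant C A D] [Module.Finite C A]
    {π : A} (hπ : Prime π) (hD : ∀ g : D, π ∣ g • π)
    (hres : ∀ a : A, ∃ b s : C, ¬ π ∣ algebraMap C A s ∧
      π ∣ algebraMap C A s * a - algebraMap C A b)
    (c : C) (v : ℕ) (w : A) (hw : ¬ π ∣ w) (hcw : algebraMap C A c = π ^ v * w)
    (hc : π ∣ algebraMap C A c) :
    ∃ t : C, ¬ π ∣ algebraMap C A t ∧ ∀ a : A, t • a ∈ Npow C π v := by
  classical
  haveI : Fintype D := Fintype.ofFinite D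
  -- the invariant multiple of `w`
  obtain ⟨sC, hsC⟩ := Algebra.IsInvariant.isInvariant (A := C) (G := D) (∏ g : D, g • w)
    (Finset.smul_prod_perm w)
  have hsCπ : ¬ π ∣ algebraMap C A sC := by
    rw [hsC]; exact not_dvd_prod_smul hπ hD hw
  obtain ⟨w', hw'⟩ : w ∣ algebraMap C A sC := by
    rw [hsC]
    have := Finset.dvd_prod_of_mem (fun g : D => g • w) (Finset.mem_univ (1 : D))
    simpa using this
  -- step iii
  have h3 : ∀ a : A, ∃ s : C, ¬ π ∣ algebraMap C A s ∧ ∃ n ∈ Npow C π v, ∃ a₁ : A,
      algebraMap C A s * a = n + algebraMap C A c * a₁ := by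
    intro a
    obtain ⟨s, hs, n, hn, a', ha'⟩ := step_i hπ hres v a
    refine ⟨sC * s, ?_, sC • n, Submodule.smul_mem _ _ hn, w' * a', ?_⟩
    · rw [map_mul]
      intro h
      rcases hπ.dvd_or_dvd h with h | h
      · exact hsCπ h
      · exact hs h
    · rw [Algebra.smul_def, map_mul, hcw]
      linear_combination (algebraMap C A sC) * ha' + π ^ v * a' * hw'
  choose s hs n hn a₁ ha₁ using h3
  obtain ⟨S, hS⟩ := (Module.Finite.fg_top (R := C) (M := A))
  let sS : C := ∏ x ∈ S, s x
  have hsSπ : ¬ π ∣ algebraMap C A sS := by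
    simp only [sS, map_prod]
    intro h
    obtain ⟨x, -, hx⟩ := (Prime.dvd_finset_prod_iff hπ _).mp h
    exact hs x hx
  have h4 : ∀ a : A, ∃ n ∈ Npow C π v, ∃ a₁ : A,
      algebraMap C A sS * a = n + algebraMap C A c * a₁ := by
    intro a
    have ha : a ∈ Submodule.span C (S : Set A) := by rw [hS]; trivial
    induction ha using Submodule.span_induction with
    | mem x hx =>
      obtain ⟨r, hr⟩ : s x ∣ sS := Finset.dvd_prod_of_mem s hx
      refine ⟨r • n x, Submodule.smul_mem _ _ (hn x), algebraMap C A r * a₁ x, ?_⟩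
      rw [hr, map_mul, Algebra.smul_def]
      linear_combination (algebraMap C A r) * ha₁ x
    | zero => exact ⟨0, zero_mem _, 0, by simp⟩
    | add x y _ _ hx hy =>
      obtain ⟨n₁, hn₁, b₁, hb₁⟩ := hx
      obtain ⟨n₂, hn₂, b₂, hb₂⟩ := hy
      exact ⟨n₁ + n₂, add_mem hn₁ hn₂, b₁ + b₂, by linear_combination hb₁ + hb₂⟩
    | smul γ x _ hx =>
      obtain ⟨n₁, hn₁, b₁, hb₁⟩ := hx
      refine ⟨γ • n₁, Submodule.smul_mem _ _ hn₁, algebraMap C A γ * b₁, ?_⟩
      rw [Algebra.smul_def, Algebra.smul_def]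
      linear_combination (algebraMap C A γ) * hb₁
  -- the determinant trick on `Q = A ⧸ N_v`
  let Q := A ⧸ Npow C π v
  let f : Module.End C Q := algebraMap C (Module.End C Q) sS
  have hrange : LinearMap.range f ≤ (Ideal.span {c} : Ideal C) • (⊤ : Submodule C Q) := by
    rintro _ ⟨q, rfl⟩
    obtain ⟨a, rfl⟩ := Submodule.Quotient.mk_surjective _ q
    obtain ⟨n', hn', b', hb'⟩ := h4 a
    have h1 : f (Submodule.Quotient.mk a) = c • (Submodule.Quotient.mk b' : Q) := by
      rw [Module.algebraMap_end_apply, ← Submodule.Quotient.mk_smul, ← Submodule.Quotient.mk_smul,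
        Submodule.Quotient.eq, Algebra.smul_def, Algebra.smul_def, hb']
      simpa using hn'
    rw [h1]
    exact Submodule.smul_mem_smul (Ideal.mem_span_singleton_self c) trivial
  obtain ⟨P, hPm, -, hPc, hPf⟩ :=
    LinearMap.exists_monic_and_natDegree_eq_and_coeff_mem_pow_and_aeval_eq_zero C f _ hrange
  refine ⟨P.eval sS, ?_, ?_⟩
  · -- `P(sS) ≡ sS ^ deg P` mod `c`
    have h5 : π ∣ algebraMap C A (P.eval sS) - algebraMap C A sS ^ P.natDegree := by
      rw [Polynomial.eval_eq_sum_range, Finset.sum_range_succ, hPm.coeff_natDegree, one_mul,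
        map_add, map_pow, add_sub_cancel_right, map_sum]
      apply Finset.dvd_sum
      intro k hk
      have hk' : k < P.natDegree := Finset.mem_range.mp hk
      have h6 : P.coeff k ∈ Ideal.span {c} :=
        Ideal.pow_le_self (Nat.sub_ne_zero_of_lt hk') (hPc k)
      rw [Ideal.mem_span_singleton] at h6
      rw [map_mul]
      exact Dvd.dvd.mul_right (hc.trans (map_dvd (algebraMap C A) h6)) _
    intro h
    have h7 : π ∣ algebraMap C A sS ^ P.natDegree := by
      have := dvd_sub h h5
      simpa using this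
    exact hsSπ (hπ.dvd_of_dvd_pow h7)
  · intro a
    have h8 : (Polynomial.aeval f P) (Submodule.Quotient.mk a : Q) = 0 := by rw [hPf]; rfl
    rw [Polynomial.aeval_algebraMap_apply_eq_algebraMap_eval, Module.algebraMap_end_apply,
      ← Submodule.Quotient.mk_smul, Submodule.Quotient.mk_eq_zero] at h8
    exact h8

end main

end Groth.Agent.Lib.InvRamH6
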