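import Mathlib
import Groth.Agent.Lib.InvRam1_helper6

/-!
# The ramification lemma: `π ^ |D|` divides every invariant divisible by `π`.
-/

set_option autoImplicit false

namespace Groth.Agent.Lib.InvRamH6

variable {A : Type*} [CommRing A] [IsDomain A] {C : Type*} [CommRing C] [Algebra C A]
  {D : Type*} [Group D] [Finite D] [MulSemiringAction D A] [SMulCommClass D C A]

/-- Artin/Dedekind: if `t • a` lies in the `C`-span of `1, …, π^(v-1)` for all `a`
(with `t ≠ 0` invariant) then `|D| ≤ v`. -/
theorem card_le_of_kill [FaithfulSMul D A] {π : A} {v : ℕ} {t : C}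
    (ht0 : algebraMap C A t ≠ 0) (ht : ∀ a : A, t • a ∈ Npow C π v) : Nat.card D ≤ v := by
  classical
  haveI : Fintype D := Fintype.ofFinite D
  by_contra hlt
  push_neg at hlt
  rw [Nat.card_eq_fintype_card] at hlt
  let e : D ≃ Fin (Fintype.card D) := Fintype.equivFin D
  let Mx : Matrix (Fin (Fintype.card D)) (Fin (Fintype.card D)) A :=
    fun i j => if (i : ℕ) < v then (e.symm j) • π ^ (i : ℕ) else 0
  have hdet : Mx.det = 0 := by
    apply Matrix.det_eq_zero_of_row_eq_zero (⟨v, hlt⟩ : Fin (Fintype.card D))
    intro j
    simp [Mx]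
  obtain ⟨x, hx0, hx⟩ := Matrix.exists_mulVec_eq_zero_iff.mpr hdet
  let y : D → A := fun g => x (e g)
  have hy : ∀ i : ℕ, i < v → ∑ g : D, y g * g • π ^ i = 0 := by
    intro i hi
    have h1 := congrFun hx (⟨i, hi.trans hlt⟩ : Fin (Fintype.card D))
    simp only [Matrix.mulVec, dotProduct, Mx, Pi.zero_apply, if_pos hi] at h1
    rw [← h1]
    apply Fintype.sum_equiv e
    intro g
    simp only [y, Equiv.symm_apply_apply]
    ring
  -- hence `∑ g, y g * g • a = 0` for all `a`
  have hall : ∀ a : A, ∑ g : D, y g * g • a = 0 := by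
    intro a
    obtain ⟨γ, hγ⟩ := (Submodule.mem_span_range_iff_exists_fun C).mp (ht a)
    have h2 : ∀ g : D, t • (g • a) = ∑ i : Fin v, γ i • g • π ^ (i : ℕ) := by
      intro g
      rw [← smul_comm g t a, ← hγ, Finset.smul_sum]
      apply Finset.sum_congr rfl
      intro i _
      rw [smul_comm]
    have h3 : algebraMap C A t * ∑ g : D, y g * g • a = 0 := by
      rw [Finset.mul_sum]
      calc ∑ g : D, algebraMap C A t * (y g * g • a)
          = ∑ g : D, y g * (t • (g • a)) := by
            apply Finset.sum_congr rfl
            intro g _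
            rw [Algebra.smul_def]; ring
        _ = ∑ g : D, ∑ i : Fin v, γ i • (y g * g • π ^ (i : ℕ)) := by
            apply Finset.sum_congr rfl
            intro g _
            rw [h2, Finset.mul_sum]
            apply Finset.sum_congr rfl
            intro i _
            rw [mul_smul_comm]
        _ = ∑ i : Fin v, γ i • ∑ g : D, y g * g • π ^ (i : ℕ) := by
            rw [Finset.sum_comm]
            apply Finset.sum_congr rfl
            intro i _
            rw [Finset.smul_sum]
        _ = 0 := by
            apply Finset.sum_eq_zero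
            intro i _
            rw [hy i i.2, smul_zero]
    exact (mul_eq_zero.mp h3).resolve_left ht0
  -- contradiction with independence of characters
  have hli := (linearIndependent_monoidHom A A).comp
    (fun g : D => MulDistribMulAction.toMonoidHom A g) (by
      intro g h hgh
      apply FaithfulSMul.eq_of_smul_eq_smul (α := A)
      intro a
      exact DFunLike.congr_fun hgh a)
  have hzero := Fintype.linearIndependent_iff.mp hli y (by
    funext a
    simp only [Function.comp_apply, Finset.sum_apply, Pi.smul_apply, smul_eq_mul,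
      MulDistribMulAction.toMonoidHom_apply, Pi.zero_apply]
    exact hall a)
  apply hx0
  funext j
  have := hzero (e.symm j)
  simpa [y] using this

/-- **Ramification lemma.** -/
theorem pow_card_dvd [WfDvdMonoid A] [FaithfulSMul D A] [Algebra.IsInvariant C A D]
    [Module.Finite C A]
    {π : A} (hπ : Prime π) (hD : ∀ g : D, π ∣ g • π)
    (hres : ∀ a : A, ∃ b s : C, ¬ π ∣ algebraMap C A s ∧
      π ∣ algebraMap C A s * a - algebraMap C A b)
    (c : C) (hc0 : algebraMap C A c ≠ 0) (hc : π ∣ algebraMap C A c) :
    π ^ Nat.card D ∣ algebraMap C A c := by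
  obtain ⟨v, w, hw, hcw⟩ := WfDvdMonoid.max_power_factor hc0 hπ.irreducible
  obtain ⟨t, htπ, ht⟩ := exists_kill hπ hD hres c v w hw hcw hc
  have ht0 : algebraMap C A t ≠ 0 := by
    intro h; apply htπ; rw [h]; exact dvd_zero π
  have hle : Nat.card D ≤ v := card_le_of_kill ht0 ht
  rw [hcw]
  exact Dvd.dvd.mul_right (pow_dvd_pow π hle) w

end Groth.Agent.Lib.InvRamH6
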