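import Mathlib
import Groth.Agent.Lib.InvRam2_helper6

/-!
# Norm divisibility: if `π ^ |D|` divides an invariant `x` (with `D` the stabilizer of `(π)`),
then the norm `∏ g, g • π` divides `x`.
-/

set_option autoImplicit false

namespace Groth.Agent.Lib.InvRamH6

section stab

variable {A : Type*} [CommRing A] [IsDomain A] {G : Type*} [Group G] [MulSemiringAction G A]

/-- the stabilizer of the ideal `(π)` -/
def assocStab (π : A) : Subgroup G where
  carrier := {g | Associated (g • π) π}
  one_mem' := by
    show Associated ((1 : G) • π) π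
    rw [one_smul]
  mul_mem' := by
    intro g h hg hh
    show Associated ((g * h) • π) π
    rw [mul_smul]
    exact (Associated.map (MulSemiringAction.toRingHom G A g) hh).trans hg
  inv_mem' := by
    intro g hg
    show Associated (g⁻¹ • π) π
    have h1 : Associated (g⁻¹ • (g • π)) (g⁻¹ • π) :=
      Associated.map (MulSemiringAction.toRingHom G A g⁻¹) hg
    rw [inv_smul_smul] at h1
    exact h1.symm

theorem mem_assocStab {π : A} {g : G} : g ∈ assocStab (G := G) π ↔ Associated (g • π) π :=
  Iff.rfl

theorem prime_smul {π : A} (hπ : Prime π) (g : G) : Prime (g • π) :=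
  (MulEquiv.prime_iff (MulSemiringAction.toRingEquiv G A g)).mpr hπ

theorem norm_dvd_of_pow_dvd [Fintype G] [UniqueFactorizationMonoid A] {π : A} (hπ : Prime π)
    {x : A} (hx : ∀ g : G, g • x = x) (hpow : π ^ Nat.card (assocStab (G := G) π) ∣ x) :
    ∏ g : G, g • π ∣ x := by
  classical
  have hν0 : ∏ g : G, g • π ≠ 0 :=
    Finset.prod_ne_zero_iff.mpr (fun g _ => (prime_smul hπ g).ne_zero)
  rw [UniqueFactorizationMonoid.dvd_iff_emultiplicity_le hν0]
  intro ϖ hϖ
  by_cases hdvd : ϖ ∣ ∏ g : G, g • π
  swap
  · rw [emultiplicity_eq_zero.mpr hdvd]; exact zero_le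
  obtain ⟨h, -, hh⟩ := (Prime.dvd_finsetProd_iff hϖ _).mp hdvd
  have hhπ : Prime (h • π) := prime_smul hπ h
  have hassoc : Associated ϖ (h • π) := hϖ.associated_of_dvd hhπ hh
  have key : ∀ z : A, h • z = z → emultiplicity ϖ z = emultiplicity π z := by
    intro z hz
    rw [emultiplicity_eq_of_associated_left (c := z) hassoc.symm]
    have h1 := emultiplicity_map_eq (MulSemiringAction.toRingEquiv G A h) (a := π) (b := z)
    simp only [MulSemiringAction.toRingEquiv_apply] at h1
    rw [hz] at h1
    exact h1
  rw [key _ (Finset.smul_prod_perm π h), key x (hx h)]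
  calc emultiplicity π (∏ g : G, g • π)
      = ∑ g : G, emultiplicity π (g • π) := Finset.emultiplicity_prod hπ _ _
    _ ≤ ∑ g : G, (if g ∈ assocStab (G := G) π then 1 else 0 : ℕ∞) := by
        apply Finset.sum_le_sum
        intro g _
        by_cases hg : g ∈ assocStab (G := G) π
        · rw [if_pos hg, emultiplicity_eq_of_associated_right (mem_assocStab.mp hg)]
          have := emultiplicity_pow_self_of_prime hπ 1
          rw [pow_one] at this
          rw [this]; rfl
        · rw [if_neg hg]
          have : ¬ π ∣ g • π := by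
            intro hd
            exact hg (mem_assocStab.mpr (hπ.associated_of_dvd (prime_smul hπ g) hd).symm)
          rw [emultiplicity_eq_zero.mpr this]
    _ = (Nat.card (assocStab (G := G) π) : ℕ∞) := by
        rw [Finset.sum_boole, Nat.card_eq_fintype_card, Fintype.card_subtype]
    _ ≤ emultiplicity π x := le_emultiplicity_of_pow_dvd hpow

end stab

end Groth.Agent.Lib.InvRamH6
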