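import Mathlib
import Groth.Agent.Lib.InvRam3_helper6
import Groth.Agent.Lib.EakinNagata_helper6

/-!
# Height-one primes of a ring of invariants with trivial residue extension are principal
-/

set_option autoImplicit false

namespace Groth.Agent.Lib.InvRamH6

section setting

variable {A B G : Type*} [CommRing A] [IsDomain A] [UniqueFactorizationMonoid A]
  [CommRing B] [Algebra B A] [FaithfulSMul B A] [Module.Finite B A]
  [Group G] [Finite G] [MulSemiringAction G A] [SMulCommClass G B A]
  [Algebra.IsInvariant B A G]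

include G in
theorem exists_prime_generator (q : Ideal B) [q.IsPrime] (hq : q.height = 1) (p : Ideal A)
    [p.IsPrime] [p.LiesOver q] : ∃ π : A, Prime π ∧ p = Ideal.span {π} := by
  classical
  haveI : Fintype G := Fintype.ofFinite G
  have hinj := FaithfulSMul.algebraMap_injective B A
  haveI : IsDomain B := hinj.isDomain
  have hq0 : q ≠ ⊥ := Ideal.ne_bot_of_height_eq_one hq
  obtain ⟨y₀, hy₀q, hy₀⟩ := Submodule.exists_mem_ne_zero_of_ne_bot hq0
  have hp0 : p ≠ ⊥ := by
    intro h
    have h1 : algebraMap B A y₀ ∈ p := (Ideal.mem_of_liesOver p q y₀).mp hy₀q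
    rw [h, Ideal.mem_bot] at h1
    exact hy₀ (hinj (by rw [h1, map_zero]))
  obtain ⟨π, hπp, hπ⟩ := Ideal.IsPrime.exists_mem_prime_of_ne_bot ‹p.IsPrime› hp0
  refine ⟨π, hπ, ?_⟩
  haveI hP' : (Ideal.span {π}).IsPrime := (Ideal.span_singleton_prime hπ.ne_zero).mpr hπ
  have hle : Ideal.span {π} ≤ p := (Ideal.span_singleton_le_iff_mem _).mpr hπp
  obtain ⟨νB, hνB⟩ := Algebra.IsInvariant.isInvariant (A := B) (G := G) (∏ g : G, g • π)
    (Finset.smul_prod_perm π)
  have hν0 : νB ≠ 0 := by
    intro h
    rw [h, map_zero] at hνB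
    exact (Finset.prod_ne_zero_iff.mpr (fun g _ => (prime_smul hπ g).ne_zero)) hνB.symm
  have hνmem : νB ∈ (Ideal.span {π}).under B := by
    rw [Ideal.under, Ideal.mem_comap, hνB, Ideal.mem_span_singleton]
    have := Finset.dvd_prod_of_mem (fun g : G => g • π) (Finset.mem_univ (1 : G))
    simpa using this
  have hqq : (Ideal.span {π}).under B = q := by
    have hle' : (Ideal.span {π}).under B ≤ q := by
      rw [Ideal.LiesOver.over (P := p) (p := q)]
      exact Ideal.comap_mono hle
    by_contra hne
    have hlt : (Ideal.span {π}).under B < q := lt_of_le_of_ne hle' hne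
    haveI : q.FiniteHeight := ⟨Or.inr (by rw [hq]; exact ENat.one_ne_top)⟩
    have h1 := Ideal.height_strict_mono_of_isPrime_of_isPrime hlt
    rw [hq, ENat.lt_one_iff_eq_zero, Ideal.height_eq_zero_iff_eq_bot] at h1
    rw [h1, Ideal.mem_bot] at hνmem
    exact hν0 hνmem
  by_contra hne
  have hlt : Ideal.span {π} < p := lt_of_le_of_ne hle (Ne.symm hne)
  haveI : Algebra.IsIntegral B A := Algebra.IsIntegral.of_finite B A
  have h2 := Ideal.IsIntegral.comap_lt_comap (R := B) hlt
  have e1 : p.comap (algebraMap B A) = q := (Ideal.LiesOver.over (P := p) (p := q)).symm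
  rw [e1] at h2
  exact absurd hqq (ne_of_lt h2)

variable [FaithfulSMul G A]

include G in
theorem main (q : Ideal B) [q.IsPrime] (hq : q.height = 1) (p : Ideal A) [p.IsPrime]
    [p.LiesOver q]
    (hres : ∀ a : A, ∃ b c : B, c ∉ q ∧ algebraMap B A c * a - algebraMap B A b ∈ p) :
    ∃ νB : B, νB ≠ 0 ∧ q = Ideal.span {νB} := by
  classical
  haveI : Fintype G := Fintype.ofFinite G
  have hinj := FaithfulSMul.algebraMap_injective B A
  obtain ⟨π, hπ, hpπ⟩ := exists_prime_generator (G := G) q hq p
  let D : Subgroup G := assocStab (G := G) π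
  let C : Subring A := FixedPoints.subring A D
  have hfix : ∀ b : B, algebraMap B A b ∈ C := fun b g => smul_algebraMap (g : G) b
  haveI : Module.Finite C A := by
    obtain ⟨S, hS⟩ := (Module.Finite.fg_top (R := B) (M := A))
    refine ⟨⟨S, ?_⟩⟩
    rw [eq_top_iff]
    rintro a -
    have ha : a ∈ Submodule.span B (S : Set A) := by rw [hS]; trivial
    induction ha using Submodule.span_induction with
    | mem x hx => exact Submodule.subset_span hx
    | zero => exact zero_mem _
    | add x y _ _ hx hy => exact add_mem hx hy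
    | smul b x _ hx =>
      have : b • x = (⟨algebraMap B A b, hfix b⟩ : C) • x := by
        rw [Algebra.smul_def]; rfl
      rw [this]
      exact Submodule.smul_mem _ _ hx
  haveI : Algebra.IsInvariant C A D := ⟨fun a ha => ⟨⟨a, ha⟩, rfl⟩⟩
  have hD : ∀ g : D, π ∣ g • π := fun g => (mem_assocStab.mp g.2).symm.dvd
  have hmemp : ∀ y : B, y ∈ q ↔ π ∣ algebraMap B A y := by
    intro y
    rw [Ideal.mem_of_liesOver p q, hpπ, Ideal.mem_span_singleton]
  have hresC : ∀ a : A, ∃ b s : C, ¬ π ∣ algebraMap C A s ∧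
      π ∣ algebraMap C A s * a - algebraMap C A b := by
    intro a
    obtain ⟨b, c, hc, hbc⟩ := hres a
    refine ⟨⟨algebraMap B A b, hfix b⟩, ⟨algebraMap B A c, hfix c⟩, ?_, ?_⟩
    · intro hd
      exact hc ((hmemp c).mpr hd)
    · rw [hpπ, Ideal.mem_span_singleton] at hbc
      exact hbc
  have hpow : ∀ y ∈ q, y ≠ 0 → π ^ Nat.card D ∣ algebraMap B A y := by
    intro y hy hy0
    exact pow_card_dvd (C := C) (D := D) hπ hD hresC ⟨algebraMap B A y, hfix y⟩
      (fun h => hy0 (hinj (by rw [map_zero]; exact h))) ((hmemp y).mp hy)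
  obtain ⟨νB, hνB⟩ := Algebra.IsInvariant.isInvariant (A := B) (G := G) (∏ g : G, g • π)
    (Finset.smul_prod_perm π)
  have hν0' : ∏ g : G, g • π ≠ 0 :=
    Finset.prod_ne_zero_iff.mpr (fun g _ => (prime_smul hπ g).ne_zero)
  have hν0 : νB ≠ 0 := by
    intro h
    rw [h, map_zero] at hνB
    exact hν0' hνB.symm
  refine ⟨νB, hν0, le_antisymm ?_ ?_⟩
  · intro y hy
    by_cases hy0 : y = 0
    · rw [hy0]; exact zero_mem _
    obtain ⟨z, hz⟩ : ∏ g : G, g • π ∣ algebraMap B A y :=
      norm_dvd_of_pow_dvd hπ (fun g => smul_algebraMap g y) (hpow y hy hy0)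
    have hzinv : ∀ g : G, g • z = z := by
      intro g
      have h1 : g • (algebraMap B A y) = algebraMap B A y := smul_algebraMap g y
      rw [hz, smul_mul', Finset.smul_prod_perm] at h1
      exact mul_left_cancel₀ hν0' h1
    obtain ⟨zB, hzB⟩ := Algebra.IsInvariant.isInvariant (A := B) (G := G) z hzinv
    rw [Ideal.mem_span_singleton]
    refine ⟨zB, hinj ?_⟩
    rw [map_mul, hνB, hzB, hz]
  · rw [Ideal.span_singleton_le_iff_mem, hmemp, hνB]
    have := Finset.dvd_prod_of_mem (fun g : G => g • π) (Finset.mem_univ (1 : G))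
    simpa using this

include G in
omit [IsDomain A] [UniqueFactorizationMonoid A] [FaithfulSMul G A] [Finite G] in
/-- the ring of invariants of a local ring is local -/
theorem isLocalRing_of_invariant [IsLocalRing A] : IsLocalRing B := by
  have hinj := FaithfulSMul.algebraMap_injective B A
  haveI : IsLocalHom (algebraMap B A) := ⟨fun b hb => by
    obtain ⟨a, ha⟩ := hb.exists_right_inv
    have hainv : ∀ g : G, g • a = a := by
      intro g
      have h1 : algebraMap B A b * g • a = 1 := by
        rw [← smul_algebraMap g b, ← smul_mul', ha, smul_one]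
      exact hb.mul_left_cancel (h1.trans ha.symm)
    obtain ⟨b', hb'⟩ := Algebra.IsInvariant.isInvariant (A := B) (G := G) a hainv
    exact IsUnit.of_mul_eq_one b' (hinj (by rw [map_mul, hb', ha, map_one]))⟩
  exact (algebraMap B A).domain_isLocalRing

end setting

end Groth.Agent.Lib.InvRamH6
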