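import Groth.Agent.Lib.SymComod_helper9

/-!
# More on Reynolds operators, orbits of rational points, closed orbits

helper9.  APPEND-ONLY once landed.
-/

set_option autoImplicit false

universe u v w w'

open TensorProduct

namespace Groth.Agent.Lib.InvRey2_helper9

open Groth.Agent.Lib.LinRed_helper9 Groth.Agent.Lib.InvRey_helper9 Groth.Agent.Lib.Comod_helper9
  Groth.Agent.Lib.ComodDual_helper9 Groth.Agent.Lib.ComodFlag_helper9
  Groth.Agent.Lib.SymComod_helper9

section FinSub

variable {k : Type u} [Field k] {C : Type v} [AddCommGroup C] [Module k C] [Coalgebra k C]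
variable {V : Type w} [AddCommGroup V] [Module k V] [HopfRep.Comod k C V]

theorem exists_finite_subcomod_finset_le (U : Submodule k V)
    (hU : HopfRep.IsSubcomod (k := k) (A := C) U) (T : Finset V) (hT : ∀ r ∈ T, r ∈ U) :
    ∃ W : Submodule k V, Module.Finite k W ∧ HopfRep.IsSubcomod (k := k) (A := C) W ∧
      (∀ r ∈ T, r ∈ W) ∧ W ≤ U := by
  classical
  induction T using Finset.induction_on with
  | empty => exact ⟨⊥, inferInstance, isSubcomod_bot, by simp, bot_le⟩
  | insert r T hr ih =>
    obtain ⟨W, hfin, hW, hmem, hle⟩ := ih (fun x hx => hT x (Finset.mem_insert_of_mem hx))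
    refine ⟨W ⊔ cyclicSub (k := k) (C := C) r, ?_,
      isSubcomod_sup W _ hW (isSubcomod_cyclicSub r), ?_, ?_⟩
    · haveI := hfin
      haveI := finite_cyclicSub (k := k) (C := C) r
      infer_instance
    · intro x hx
      rcases Finset.mem_insert.mp hx with rfl | hx
      · exact Submodule.mem_sup_right (self_mem_cyclicSub x)
      · exact Submodule.mem_sup_left (hmem x hx)
    · apply sup_le hle
      intro w hw
      obtain ⟨φ, rfl⟩ := (mem_cyclicSub r w).mp hw
      exact act_mem_of_isSubcomod U hU φ (hT r (Finset.mem_insert_self r T))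

end FinSub

section Rey

variable (k : Type u) [Field k] (A : Type v) [CommRing A] [HopfAlgebra k A] (β : A →ₗ[k] k)
variable (V : Type w) [AddCommGroup V] [Module k V] [HopfRep.Comod k A V]

theorem rey_mem_of_isSubcomod' (W : Submodule k V)
    (hW : HopfRep.IsSubcomod (k := k) (A := A) W) (x : V) (hx : x ∈ W) :
    rey k A β V x ∈ W := by
  obtain ⟨y, hy⟩ := hW x hx
  rw [rey_apply, ← hy]
  have : ∀ y : W ⊗[k] A, hB k A β V (W.subtype.rTensor A y) ∈ W := by
    intro y
    induction y using TensorProduct.induction_on with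
    | zero => simp
    | add x y hx hy => rw [map_add, map_add]; exact W.add_mem hx hy
    | tmul z a =>
      rw [LinearMap.rTensor_tmul, hB_tmul]
      exact W.smul_mem _ z.2
  exact this y

theorem isSubcomod_fixedPts :
    HopfRep.IsSubcomod (k := k) (A := A) (HopfRep.fixedPts k A V) := by
  intro w hw
  have hw' : HopfRep.Comod.coact (k := k) (A := A) w = w ⊗ₜ[k] (1 : A) := hw
  rw [hw']
  exact ⟨(⟨w, hw⟩ : HopfRep.fixedPts k A V) ⊗ₜ[k] (1 : A), by rw [LinearMap.rTensor_tmul]; rfl⟩

/-- the Reynolds operator is a comodule map -/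
theorem isComodHom_rey (hG : HopfRep.IsLinearlyReductive k A)
    (hβ : ∀ a : A, hB k A β A (CoalgebraStruct.comul (R := k) a) = β a • (1 : A)) :
    Hoch.IsComodHom A (rey k A β V) := by
  obtain ⟨W', hW', hcompl⟩ := isSemisimpleComod_of_isLinearlyReductive k A hG V _
    (isSubcomod_fixedPts k A V)
  have hzero : ∀ b ∈ W', rey k A β V b = 0 := by
    intro b hb
    have h1 : rey k A β V b ∈ W' := rey_mem_of_isSubcomod' k A β V W' hW' b hb
    have h2 : rey k A β V b ∈ HopfRep.fixedPts k A V := rey_mem_fixedPts k A β V hβ b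
    have h3 : rey k A β V b ∈ HopfRep.fixedPts k A V ⊓ W' := Submodule.mem_inf.mpr ⟨h2, h1⟩
    rw [hcompl.inf_eq_bot] at h3
    exact (Submodule.mem_bot k).mp h3
  apply LinearMap.ext
  intro v
  show HopfRep.Comod.coact (k := k) (A := A) (rey k A β V v) =
    (rey k A β V).rTensor A (HopfRep.Comod.coact (k := k) (A := A) v)
  rw [coact_rey k A β V hβ v]
  have hv : v ∈ HopfRep.fixedPts k A V ⊔ W' := by rw [hcompl.sup_eq_top]; trivial
  obtain ⟨a, ha, b, hb, rfl⟩ := Submodule.mem_sup.mp hv
  have ha' : HopfRep.Comod.coact (k := k) (A := A) a = a ⊗ₜ[k] (1 : A) := ha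
  have hb2 : (rey k A β V).rTensor A (HopfRep.Comod.coact (k := k) (A := A) b) = 0 := by
    obtain ⟨y, hy⟩ := hW' b hb
    rw [← hy, ← LinearMap.rTensor_comp_apply]
    have hz : rey k A β V ∘ₗ W'.subtype = 0 := by
      apply LinearMap.ext
      intro w
      exact hzero w w.2
    rw [hz, LinearMap.rTensor_zero, LinearMap.zero_apply]
  rw [map_add, map_add, map_add, hb2, ha', LinearMap.rTensor_tmul, hzero b hb, add_zero, add_zero]

/-- the Reynolds operator is characterised by its three properties -/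
theorem eq_rey_of_props
    (hβ : ∀ a : A, hB k A β A (CoalgebraStruct.comul (R := k) a) = β a • (1 : A)) (h1 : β 1 = 1)
    (E : V →ₗ[k] V) (hE : Hoch.IsComodHom A E) (hE2 : E ∘ₗ E = E)
    (hE3 : ∀ x : V, E x = x ↔ x ∈ HopfRep.fixedPts k A V) : E = rey k A β V := by
  apply LinearMap.ext
  intro v
  have h2 := rey_natural k A β V E hE v
  have h3 : E (rey k A β V v) = rey k A β V v := (hE3 _).mpr (rey_mem_fixedPts k A β V hβ v)
  have h4 : E v ∈ HopfRep.fixedPts k A V := (hE3 _).mp (LinearMap.congr_fun hE2 v)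
  rw [h3, rey_of_mem_fixedPts k A β V h1 _ h4] at h2
  exact h2.symm

end Rey

section Alg

variable (k : Type u) [Field k] (A : Type v) [CommRing A] [HopfAlgebra k A] (β : A →ₗ[k] k)
variable (R : Type w) [CommRing R] [Algebra k R] [HopfRep.Comod k A R] [GLin.IsCoactAlg k A R]

theorem rey_mem_ideal_of_mem_map (S : Subalgebra k R)
    (hS : ∀ f : R, f ∈ S ↔ f ∈ HopfRep.fixedPts k A R)
    (hβ : ∀ a : A, hB k A β A (CoalgebraStruct.comul (R := k) a) = β a • (1 : A))
    (I : Ideal S) (y : R) (hy : y ∈ Ideal.map S.val.toRingHom I)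
    (h : rey k A β R y ∈ S) : (⟨rey k A β R y, h⟩ : S) ∈ I := by
  have hR : ∀ b : R, rey k A β R b ∈ S := fun b => (hS _).mpr (rey_mem_fixedPts k A β R hβ b)
  have key : ∀ y ∈ Ideal.map S.val.toRingHom I, ∀ b : R,
      (⟨rey k A β R (b * y), hR _⟩ : S) ∈ I := by
    intro y hy
    refine Submodule.span_induction (p := fun y _ => ∀ b : R,
      (⟨rey k A β R (b * y), hR _⟩ : S) ∈ I) ?_ ?_ ?_ ?_ hy
    · rintro _ ⟨z, hz, rfl⟩ b
      have hfix : (z : R) ∈ HopfRep.fixedPts k A R := (hS _).mp z.2
      have h2 : (⟨rey k A β R (b * S.val.toRingHom z), hR _⟩ : S) =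
          z * ⟨rey k A β R b, hR b⟩ := by
        apply Subtype.ext
        show rey k A β R (b * (z : R)) = (z : R) * rey k A β R b
        rw [mul_comm b, rey_mul_of_fixed k A β R _ hfix]
      rw [h2]
      exact I.mul_mem_right _ hz
    · intro b
      have : (⟨rey k A β R (b * 0), hR _⟩ : S) = 0 := by
        apply Subtype.ext; simp
      rw [this]; exact I.zero_mem
    · intro y z _ _ hy hz b
      have : (⟨rey k A β R (b * (y + z)), hR _⟩ : S) =
          ⟨rey k A β R (b * y), hR _⟩ + ⟨rey k A β R (b * z), hR _⟩ := by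
        apply Subtype.ext; simp [mul_add]
      rw [this]; exact I.add_mem (hy b) (hz b)
    · intro b' y _ hy b
      have : b * (b' • y) = (b * b') * y := by rw [smul_eq_mul, mul_assoc]
      simp only [this]
      exact hy (b * b')
  have h3 := key y hy 1
  have h4 : (⟨rey k A β R (1 * y), hR _⟩ : S) = ⟨rey k A β R y, h⟩ := by
    apply Subtype.ext
    show rey k A β R (1 * y) = rey k A β R y
    rw [one_mul]
  rwa [h4] at h3

end Alg

section Pts

variable (k : Type u) [Field k] (A : Type v) [CommRing A] [HopfAlgebra k A]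
variable (R : Type w) [CommRing R] [Algebra k R] [HopfRep.Comod k A R] [GLin.IsCoactAlg k A R]

theorem apply_act_eq (x : R →ₐ[k] k) (g : A →ₐ[k] k) (f : R) :
    x (HopfRep.Comod.act k A R g f) = g (GLin.orbitHom k A x f) := by
  rw [orbitHom_apply]
  show x (TensorProduct.rid k R (g.toLinearMap.lTensor R
    (HopfRep.Comod.coact (k := k) (A := A) f))) = _
  have : ∀ y : R ⊗[k] A, x (TensorProduct.rid k R (g.toLinearMap.lTensor R y)) =
      g (thetaPt k A R x y) := by
    intro y
    induction y using TensorProduct.induction_on with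
    | zero => simp
    | add a b ha hb => simp only [map_add, ha, hb]
    | tmul r a =>
      rw [LinearMap.lTensor_tmul, TensorProduct.rid_tmul, thetaPt_tmul, map_smul, map_smul,
        smul_eq_mul, smul_eq_mul, mul_comm]
      rfl
  exact this _

theorem inOrbitClosure_of_forall_act (x z : R →ₐ[k] k)
    (h : ∀ f : R, (∀ g : A →ₐ[k] k, x (HopfRep.Comod.act k A R g f) = 0) → z f = 0) :
    GLin.InOrbitClosure k A x z := by
  intro f hf
  rw [RingHom.mem_ker] at hf ⊢
  apply h
  intro g
  rw [apply_act_eq, hf, map_zero]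

omit [HopfAlgebra k A] in
theorem isNilpotent_of_forall_point [IsAlgClosed k] [Algebra k A] [Algebra.FiniteType k A] (a : A)
    (h : ∀ g : A →ₐ[k] k, g a = 0) : IsNilpotent a := by
  by_contra hn
  have h1 : a ∉ (⊥ : Ideal A).radical := by
    intro h'
    apply hn
    rw [← mem_nilradical, nilradical, Ideal.zero_eq_bot]
    exact h'
  haveI : IsJacobsonRing A := isJacobsonRing_of_finiteType (A := k) (B := A)
  rw [Ideal.radical_eq_jacobson, Ideal.jacobson, Ideal.mem_sInf] at h1
  push_neg at h1
  obtain ⟨m, ⟨_, hm⟩, ham⟩ := h1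
  obtain ⟨z, hz⟩ := exists_algHom_ker_ge k A m hm.ne_top
  have hmz : m = RingHom.ker z := hm.eq_of_le (RingHom.ker_ne_top _) hz
  apply ham
  rw [hmz, RingHom.mem_ker]
  exact h z

theorem vanish_of_forall_act [IsAlgClosed k] [Algebra.FiniteType k A] (x z : R →ₐ[k] k)
    (hz : GLin.InOrbitClosure k A x z) (f : R)
    (hf : ∀ g : A →ₐ[k] k, x (HopfRep.Comod.act k A R g f) = 0) : z f = 0 := by
  have hnil : IsNilpotent (GLin.orbitHom k A x f) := by
    apply isNilpotent_of_forall_point k A
    intro g
    rw [← apply_act_eq]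
    exact hf g
  obtain ⟨n, hn⟩ := hnil
  have h2 : f ^ n ∈ RingHom.ker (GLin.orbitHom k A x) := by
    rw [RingHom.mem_ker, map_pow, hn]
  have h3 := hz h2
  rw [RingHom.mem_ker, map_pow] at h3
  exact eq_zero_of_pow_eq_zero h3

theorem actPt_actPt (a b : A →ₐ[k] k) (x : R →ₐ[k] k) :
    GLin.actPt k a (GLin.actPt k b x) =
      GLin.actPt k (WithConv.toConv b * WithConv.toConv a).ofConv x := by
  apply AlgHom.ext
  intro f
  show a (GLin.orbitHom k A (GLin.actPt k b x) f) =
    (WithConv.toConv b * WithConv.toConv a).ofConv (GLin.orbitHom k A x f)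
  have hc : CoalgebraStruct.comul (R := k) (GLin.orbitHom k A x f) =
      (GLin.orbitHom k A x).toLinearMap.rTensor A (HopfRep.Comod.coact (k := k) (A := A) f) :=
    isComodHom_apply (isComodHom_orbitHom k A R x) f
  have h2 : (WithConv.toConv b * WithConv.toConv a).ofConv (GLin.orbitHom k A x f) =
      Algebra.TensorProduct.lmul' k (Algebra.TensorProduct.map b a
        (CoalgebraStruct.comul (R := k) (GLin.orbitHom k A x f))) := rfl
  rw [h2, orbitHom_apply k A R (GLin.actPt k b x) f, hc]
  have : ∀ y : R ⊗[k] A, a (thetaPt k A R (GLin.actPt k b x) y) =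
      Algebra.TensorProduct.lmul' k (Algebra.TensorProduct.map b a
        ((GLin.orbitHom k A x).toLinearMap.rTensor A y)) := by
    intro y
    induction y using TensorProduct.induction_on with
    | zero => simp
    | add y z hy hz => simp only [map_add, hy, hz]
    | tmul r c =>
      rw [thetaPt_tmul, LinearMap.rTensor_tmul, Algebra.TensorProduct.map_tmul,
        Algebra.TensorProduct.lmul'_apply_tmul, map_smul, smul_eq_mul]
      rfl
  exact this _

omit [HopfRep.Comod k A R] [GLin.IsCoactAlg k A R] in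
theorem conv_inv_apply (g : A →ₐ[k] k) (c : A) :
    (WithConv.toConv g * WithConv.toConv (g.comp (HopfAlgebra.antipodeAlgHom k A))).ofConv c =
      CoalgebraStruct.counit (R := k) c := by
  have h2 : (WithConv.toConv g *
      WithConv.toConv (g.comp (HopfAlgebra.antipodeAlgHom k A))).ofConv c =
      Algebra.TensorProduct.lmul' k (Algebra.TensorProduct.map g
        (g.comp (HopfAlgebra.antipodeAlgHom k A)) (CoalgebraStruct.comul (R := k) c)) := rfl
  rw [h2]
  have h3 : ∀ t : A ⊗[k] A, Algebra.TensorProduct.lmul' k (Algebra.TensorProduct.map g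
      (g.comp (HopfAlgebra.antipodeAlgHom k A)) t) =
      g (LinearMap.mul' k A ((HopfAlgebraStruct.antipode k (A := A)).lTensor A t)) := by
    intro t
    induction t using TensorProduct.induction_on with
    | zero => simp
    | add y z hy hz => simp only [map_add, hy, hz]
    | tmul a b =>
      rw [Algebra.TensorProduct.map_tmul, Algebra.TensorProduct.lmul'_apply_tmul,
        LinearMap.lTensor_tmul, LinearMap.mul'_apply, map_mul]
      rfl
  rw [h3, HopfAlgebra.mul_antipode_lTensor_comul_apply, AlgHom.commutes]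
  rfl

theorem actPt_inv (g : A →ₐ[k] k) (x : R →ₐ[k] k) :
    GLin.actPt k (g.comp (HopfAlgebra.antipodeAlgHom k A)) (GLin.actPt k g x) = x := by
  rw [actPt_actPt]
  apply AlgHom.ext
  intro f
  show (WithConv.toConv g * WithConv.toConv (g.comp (HopfAlgebra.antipodeAlgHom k A))).ofConv
    (GLin.orbitHom k A x f) = x f
  rw [conv_inv_apply, counit_orbitHom]

theorem exists_actPt_eq_of_isClosedOrbit [IsAlgClosed k] [Algebra.FiniteType k A]
    (x z : R →ₐ[k] k) (hcl : GLin.IsClosedOrbit k A x) (hz : GLin.InOrbitClosure k A x z) :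
    ∃ g : A →ₐ[k] k, z = GLin.actPt k g x := by
  have hzp : (RingHom.ker z).IsPrime := RingHom.ker_isPrime z
  have hcl' : IsClosed (Set.range (PrimeSpectrum.comap (GLin.orbitHom k A x).toRingHom)) := hcl
  have hmem : (⟨RingHom.ker z, hzp⟩ : PrimeSpectrum R) ∈
      closure (Set.range (PrimeSpectrum.comap (GLin.orbitHom k A x).toRingHom)) := by
    rw [PrimeSpectrum.closure_range_comap, PrimeSpectrum.mem_zeroLocus]
    intro f hf
    exact hz (show f ∈ RingHom.ker (GLin.orbitHom k A x) from hf)
  rw [hcl'.closure_eq] at hmem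
  obtain ⟨q, hq⟩ := hmem
  obtain ⟨g, hg⟩ := exists_algHom_ker_ge k A q.asIdeal q.2.ne_top
  refine ⟨g, ?_⟩
  apply algHom_eq_of_ker_le k R
  intro f hf
  rw [RingHom.mem_ker]
  show g (GLin.orbitHom k A x f) = 0
  have h1 : f ∈ (PrimeSpectrum.comap (GLin.orbitHom k A x).toRingHom q).asIdeal := by
    rw [hq]; exact hf
  have h2 : GLin.orbitHom k A x f ∈ q.asIdeal := h1
  exact hg h2

end Pts

end Groth.Agent.Lib.InvRey2_helper9
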