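import Groth.Agent.Lib.LinRed_helper9

/-!
# Reynolds operators on comodule algebras of a linearly reductive group (helper9)

* a linearly reductive Hopf algebra has a left integral, hence a Reynolds operator on every comodule;
* on a comodule algebra `R` the Reynolds operator is `R^G`-linear and preserves invariant ideals;
* `(I R) ∩ R^G = I` for ideals `I` of `R^G`;
* orbit morphisms are comodule maps, `k`-points of finite type algebras.
-/

set_option autoImplicit false
universe u v w w'

open TensorProduct

namespace Groth.Agent.Lib.InvRey_helper9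

open Groth.Agent.Lib.LinRed_helper9 Groth.Agent.Lib.Integral_helper9 Groth.Agent.Lib.Comod_helper9

section Exists

variable (k : Type u) [Field k] (A : Type v) [CommRing A] [HopfAlgebra k A]

theorem exists_leftIntegral (h : HopfRep.IsLinearlyReductive k A) :
    ∃ β : A →ₗ[k] k,
      (∀ a : A, hB k A β A (CoalgebraStruct.comul (R := k) a) = β a • (1 : A)) ∧ β 1 = 1 := by
  obtain ⟨α, hint, h1⟩ := exists_totalIntegral_of_isLinearlyReductive k A h
  exact ⟨α ∘ₗ HopfAlgebraStruct.antipode k (A := A), leftIntegral k A α hint,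
    by rw [LinearMap.comp_apply, HopfAlgebra.antipode_one, h1]⟩

end Exists

section Smul

variable (k : Type u) [CommRing k] (A : Type v) [CommRing A] [HopfAlgebra k A] (β : A →ₗ[k] k)

theorem hB_smul {S : Type*} [Semiring S] (M : Type w) [AddCommGroup M] [Module k M] [Module S M]
    [SMulCommClass k S M] (s : S) (x : M ⊗[k] A) :
    hB k A β M (s • x) = s • hB k A β M x := by
  induction x using TensorProduct.induction_on with
  | zero => simp
  | add x y hx hy => rw [smul_add, map_add, map_add, smul_add, hx, hy]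
  | tmul m a => rw [TensorProduct.smul_tmul', hB_tmul, hB_tmul, smul_comm]

end Smul

section Alg

variable (k : Type u) [CommRing k] (A : Type v) [CommRing A] [HopfAlgebra k A] (β : A →ₗ[k] k)
variable (R : Type w) [CommRing R] [Algebra k R] [HopfRep.Comod k A R] [GLin.IsCoactAlg k A R]

theorem hB_tmul_one_mul (f : R) (x : R ⊗[k] A) :
    hB k A β R ((f ⊗ₜ[k] (1 : A)) * x) = f * hB k A β R x := by
  induction x using TensorProduct.induction_on with
  | zero => simp
  | add x y hx hy => rw [mul_add, map_add, map_add, mul_add, hx, hy]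
  | tmul m a =>
    rw [Algebra.TensorProduct.tmul_mul_tmul, one_mul, hB_tmul, hB_tmul, mul_smul_comm]

theorem rey_mul_of_fixed (f : R) (hf : f ∈ HopfRep.fixedPts k A R) (b : R) :
    rey k A β R (f * b) = f * rey k A β R b := by
  have hf' : HopfRep.Comod.coact (k := k) (A := A) f = f ⊗ₜ[k] (1 : A) := hf
  rw [rey_apply, rey_apply, GLin.IsCoactAlg.coact_mul, hf', hB_tmul_one_mul]

omit [GLin.IsCoactAlg k A R] in
theorem rey_mem_of_isSubcomod (b : Ideal R)
    (hb : HopfRep.IsSubcomod (k := k) (A := A) (b.restrictScalars k)) (x : R) (hx : x ∈ b) :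
    rey k A β R x ∈ b := by
  obtain ⟨y, hy⟩ := hb x hx
  rw [rey_apply, ← hy]
  have : ∀ y : (b.restrictScalars k) ⊗[k] A,
      hB k A β R ((b.restrictScalars k).subtype.rTensor A y) ∈ b := by
    intro y
    induction y using TensorProduct.induction_on with
    | zero => simp
    | add x y hx hy => rw [map_add, map_add]; exact b.add_mem hx hy
    | tmul z a =>
      rw [LinearMap.rTensor_tmul, hB_tmul]
      exact (b.restrictScalars k).smul_mem _ z.2
  exact this y

theorem one_mem_fixedPts : (1 : R) ∈ HopfRep.fixedPts k A R := by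
  show HopfRep.Comod.coact (k := k) (A := A) (1 : R) = (1 : R) ⊗ₜ[k] (1 : A)
  rw [GLin.IsCoactAlg.coact_one (k := k) (A := A) (R := R), Algebra.TensorProduct.one_def]

/-- `(I R) ∩ R^G = I` -/
theorem comap_map_invariants
    (hβ : ∀ a : A, hB k A β A (CoalgebraStruct.comul (R := k) a) = β a • (1 : A)) (h1 : β 1 = 1)
    (I : Ideal (GLin.invariants k A R)) :
    Ideal.comap (GLin.invariants k A R).val.toRingHom
        (Ideal.map (GLin.invariants k A R).val.toRingHom I) = I := by
  have hR : ∀ b : R, rey k A β R b ∈ GLin.invariants k A R :=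
    fun b => rey_mem_fixedPts k A β R hβ b
  have key : ∀ y ∈ Ideal.map (GLin.invariants k A R).val.toRingHom I, ∀ b : R,
      (⟨rey k A β R (b * y), hR _⟩ : GLin.invariants k A R) ∈ I := by
    intro y hy
    refine Submodule.span_induction (p := fun y _ => ∀ b : R,
      (⟨rey k A β R (b * y), hR _⟩ : GLin.invariants k A R) ∈ I) ?_ ?_ ?_ ?_ hy
    · rintro _ ⟨z, hz, rfl⟩ b
      have hfix : (z : R) ∈ HopfRep.fixedPts k A R := z.2
      have h2 : (⟨rey k A β R (b * (GLin.invariants k A R).val.toRingHom z), hR _⟩ :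
          GLin.invariants k A R) = z * ⟨rey k A β R b, hR b⟩ := by
        apply Subtype.ext
        show rey k A β R (b * (z : R)) = (z : R) * rey k A β R b
        rw [mul_comm b, rey_mul_of_fixed k A β R _ hfix]
      rw [h2]
      exact I.mul_mem_right _ hz
    · intro b
      have : (⟨rey k A β R (b * 0), hR _⟩ : GLin.invariants k A R) = 0 := by
        apply Subtype.ext; simp
      rw [this]; exact I.zero_mem
    · intro y z _ _ hy hz b
      have : (⟨rey k A β R (b * (y + z)), hR _⟩ : GLin.invariants k A R) =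
          ⟨rey k A β R (b * y), hR _⟩ + ⟨rey k A β R (b * z), hR _⟩ := by
        apply Subtype.ext; simp [mul_add]
      rw [this]; exact I.add_mem (hy b) (hz b)
    · intro b' y _ hy b
      have : b * (b' • y) = (b * b') * y := by rw [smul_eq_mul, mul_assoc]
      simp only [this]
      exact hy (b * b')
  apply le_antisymm _ Ideal.le_comap_map
  intro z hz
  have hz' : (z : R) ∈ Ideal.map (GLin.invariants k A R).val.toRingHom I := hz
  have h3 := key _ hz' 1
  have h4 : (⟨rey k A β R (1 * (z : R)), hR _⟩ : GLin.invariants k A R) = z := by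
    apply Subtype.ext
    show rey k A β R (1 * (z : R)) = z
    rw [one_mul, rey_of_mem_fixedPts k A β R h1 _ z.2]
  rwa [h4] at h3

variable (M : Type w') [AddCommGroup M] [Module k M] [Module R M] [IsScalarTower k R M]

omit [HopfRep.Comod k A R] [GLin.IsCoactAlg k A R] in
theorem hB_hmSMul_tmul_one (y : R ⊗[k] A) (m : M) :
    hB k A β M (TameAct.hmSMul k A R M y (m ⊗ₜ[k] (1 : A))) = hB k A β R y • m := by
  induction y using TensorProduct.induction_on with
  | zero => simp
  | add x y hx hy => rw [map_add, LinearMap.add_apply, map_add, map_add, add_smul, hx, hy]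
  | tmul b a => rw [TameAct.hmSMul_tmul, mul_one, hB_tmul, hB_tmul, smul_assoc]

omit [GLin.IsCoactAlg k A R] in
theorem rey_smul_of_fixed [HopfRep.Comod k A M] [TameAct.IsHopfMod k A R M] (b : R) (m : M)
    (hm : m ∈ HopfRep.fixedPts k A M) :
    rey k A β M (b • m) = rey k A β R b • m := by
  have hm' : HopfRep.Comod.coact (k := k) (A := A) m = m ⊗ₜ[k] (1 : A) := hm
  rw [rey_apply, TameAct.IsHopfMod.coact_smul (k := k) (A := A) b m, hm', hB_hmSMul_tmul_one,
    rey_apply]

end Alg

section Points

variable (k : Type u) [Field k] [IsAlgClosed k] (R : Type w) [CommRing R] [Algebra k R]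
  [Algebra.FiniteType k R]

/-- Nullstellensatz: a proper ideal of a finite type algebra over an algebraically closed field has a
rational zero. -/
theorem exists_algHom_ker_ge (I : Ideal R) (hI : I ≠ ⊤) :
    ∃ z : R →ₐ[k] k, I ≤ RingHom.ker z := by
  obtain ⟨m, hm, hIm⟩ := Ideal.exists_le_maximal I hI
  letI : Field (R ⧸ m) := Ideal.Quotient.field m
  haveI : Algebra.FiniteType k (R ⧸ m) :=
    Algebra.FiniteType.of_surjective (Ideal.Quotient.mkₐ k m) (Ideal.Quotient.mkₐ_surjective k m)
  haveI : Module.Finite k (R ⧸ m) := finite_of_finite_type_of_isJacobsonRing k (R ⧸ m)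
  have hbij : Function.Bijective (algebraMap k (R ⧸ m)) :=
    IsAlgClosed.algebraMap_bijective_of_isIntegral
  let e : k ≃ₐ[k] (R ⧸ m) := AlgEquiv.ofBijective (Algebra.ofId k (R ⧸ m)) hbij
  refine ⟨(e.symm : (R ⧸ m) →ₐ[k] k).comp (Ideal.Quotient.mkₐ k m), ?_⟩
  intro x hx
  rw [RingHom.mem_ker]
  show e.symm (Ideal.Quotient.mk m x) = 0
  rw [Ideal.Quotient.eq_zero_iff_mem.mpr (hIm hx), map_zero]

omit [IsAlgClosed k] [Algebra.FiniteType k R] in
theorem algHom_eq_of_ker_le (x y : R →ₐ[k] k) (h : RingHom.ker x ≤ RingHom.ker y) : x = y := by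
  apply AlgHom.ext
  intro f
  have h1 : f - algebraMap k R (x f) ∈ RingHom.ker x := by
    rw [RingHom.mem_ker, map_sub, AlgHom.commutes]
    simp
  have h2 := h h1
  rw [RingHom.mem_ker, map_sub, AlgHom.commutes, sub_eq_zero] at h2
  rw [h2]
  simp

end Points

section Orbit

variable (k : Type u) [Field k] (A : Type v) [CommRing A] [HopfAlgebra k A]
variable (R : Type w) [CommRing R] [Algebra k R] [HopfRep.Comod k A R] [GLin.IsCoactAlg k A R]

/-- `r ⊗ a ↦ x(r) • a` -/
noncomputable def thetaPt (x : R →ₐ[k] k) : R ⊗[k] A →ₗ[k] A :=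
  (TensorProduct.lid k A).toLinearMap ∘ₗ x.toLinearMap.rTensor A

omit [HopfRep.Comod k A R] [GLin.IsCoactAlg k A R] in
theorem thetaPt_tmul (x : R →ₐ[k] k) (r : R) (a : A) :
    thetaPt k A R x (r ⊗ₜ[k] a) = x r • a := by
  simp [thetaPt]

theorem orbitHom_apply (x : R →ₐ[k] k) (f : R) :
    GLin.orbitHom k A x f = thetaPt k A R x (HopfRep.Comod.coact (k := k) (A := A) f) := by
  have : ∀ y : R ⊗[k] A, Algebra.TensorProduct.lid k A
      (Algebra.TensorProduct.map x (AlgHom.id k A) y) = thetaPt k A R x y := by
    intro y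
    induction y using TensorProduct.induction_on with
    | zero => simp
    | add a b ha hb => rw [map_add, map_add, map_add, ha, hb]
    | tmul r a => rw [Algebra.TensorProduct.map_tmul, Algebra.TensorProduct.lid_tmul, thetaPt_tmul]; rfl
  exact this _

theorem orbitHom_of_fixed (x : R →ₐ[k] k) (f : R) (hf : f ∈ HopfRep.fixedPts k A R) :
    GLin.orbitHom k A x f = x f • (1 : A) := by
  have hf' : HopfRep.Comod.coact (k := k) (A := A) f = f ⊗ₜ[k] (1 : A) := hf
  rw [orbitHom_apply, hf', thetaPt_tmul]

omit [HopfRep.Comod k A R] [GLin.IsCoactAlg k A R] in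
theorem counit_thetaPt (x : R →ₐ[k] k) (y : R ⊗[k] A) :
    CoalgebraStruct.counit (R := k) (thetaPt k A R x y) =
      x (TensorProduct.rid k R ((CoalgebraStruct.counit (R := k) (A := A)).lTensor R y)) := by
  induction y using TensorProduct.induction_on with
  | zero => simp
  | add a b ha hb => simp only [map_add, ha, hb]
  | tmul r a =>
    rw [thetaPt_tmul, map_smul, LinearMap.lTensor_tmul, TensorProduct.rid_tmul, map_smul, smul_eq_mul,
      smul_eq_mul, mul_comm]

theorem counit_orbitHom (x : R →ₐ[k] k) (f : R) :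
    CoalgebraStruct.counit (R := k) (GLin.orbitHom k A x f) = x f := by
  rw [orbitHom_apply, counit_thetaPt]
  have := LinearMap.congr_fun (HopfRep.Comod.counit_comp (k := k) (A := A) (V := R)) f
  simp only [LinearMap.comp_apply, LinearMap.flip_apply, TensorProduct.mk_apply] at this
  rw [this, TensorProduct.rid_tmul, one_smul]

omit [HopfRep.Comod k A R] [GLin.IsCoactAlg k A R] in
theorem thetaPt_rTensor_assoc_symm (x : R →ₐ[k] k) (r : R) (t : A ⊗[k] A) :
    (thetaPt k A R x).rTensor A ((TensorProduct.assoc k R A A).symm (r ⊗ₜ[k] t)) = x r • t := by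
  induction t using TensorProduct.induction_on with
  | zero => simp
  | add a b ha hb => simp only [TensorProduct.tmul_add, map_add, ha, hb, smul_add]
  | tmul a₁ a₂ =>
    rw [TensorProduct.assoc_symm_tmul, LinearMap.rTensor_tmul, thetaPt_tmul, TensorProduct.smul_tmul']

omit [HopfRep.Comod k A R] [GLin.IsCoactAlg k A R] in
theorem comul_thetaPt (x : R →ₐ[k] k) (y : R ⊗[k] A) :
    CoalgebraStruct.comul (R := k) (thetaPt k A R x y) =
      (thetaPt k A R x).rTensor A ((TensorProduct.assoc k R A A).symm
        ((CoalgebraStruct.comul (R := k) (A := A)).lTensor R y)) := by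
  induction y using TensorProduct.induction_on with
  | zero => simp
  | add a b ha hb => simp only [map_add, ha, hb]
  | tmul r a =>
    rw [thetaPt_tmul, map_smul, LinearMap.lTensor_tmul, thetaPt_rTensor_assoc_symm]

theorem isComodHom_orbitHom (x : R →ₐ[k] k) :
    Hoch.IsComodHom A (GLin.orbitHom k A x).toLinearMap := by
  have hθ : thetaPt k A R x ∘ₗ HopfRep.Comod.coact (k := k) (A := A) (V := R) =
      (GLin.orbitHom k A x).toLinearMap := by
    apply LinearMap.ext
    intro f
    exact (orbitHom_apply k A R x f).symm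
  apply LinearMap.ext
  intro f
  show CoalgebraStruct.comul (R := k) (GLin.orbitHom k A x f) =
    (GLin.orbitHom k A x).toLinearMap.rTensor A (HopfRep.Comod.coact (k := k) (A := A) f)
  rw [orbitHom_apply, comul_thetaPt, coassoc_apply k A R f, ← hθ, LinearMap.rTensor_comp,
    LinearMap.comp_apply]

theorem isSubcomod_ker_orbitHom (x : R →ₐ[k] k) :
    HopfRep.IsSubcomod (k := k) (A := A) ((RingHom.ker (GLin.orbitHom k A x)).restrictScalars k) := by
  have h := isSubcomod_ker (GLin.orbitHom k A x).toLinearMap (isComodHom_orbitHom k A R x)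
  have e : (RingHom.ker (GLin.orbitHom k A x)).restrictScalars k =
      LinearMap.ker (GLin.orbitHom k A x).toLinearMap := by
    ext f
    rfl
  rw [e]
  exact h

/-- invariants are constant on orbit closures -/
theorem apply_eq_of_inOrbitClosure (x z : R →ₐ[k] k) (hz : GLin.InOrbitClosure k A x z) (f : R)
    (hf : f ∈ HopfRep.fixedPts k A R) : z f = x f := by
  have h1 : f - algebraMap k R (x f) ∈ RingHom.ker (GLin.orbitHom k A x) := by
    rw [RingHom.mem_ker, map_sub, orbitHom_of_fixed k A R x f hf, AlgHom.commutes,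
      Algebra.algebraMap_eq_smul_one, sub_self]
  have h2 := hz h1
  rw [RingHom.mem_ker, map_sub, AlgHom.commutes, sub_eq_zero] at h2
  rw [h2]
  simp

end Orbit

end Groth.Agent.Lib.InvRey_helper9
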