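import Mathlib

namespace Groth.Agent.Lib.InvSat

open TensorProduct

universe u v w

theorem free_tf {R : Type*} [CommRing R] [IsDomain R] {M : Type*} [AddCommGroup M] [Module R M]
    [Module.Free R M] (r : R) (hr : r ≠ 0) (x : M) (h : r • x = 0) : x = 0 := by
  let b := Module.Free.chooseBasis R M
  have h1 : b.repr x = 0 := by
    ext i
    have h2 : b.repr (r • x) i = 0 := by rw [h]; simp
    rw [map_smul, Finsupp.smul_apply, smul_eq_mul] at h2
    rcases mul_eq_zero.mp h2 with h3 | h3
    · exact absurd h3 hr
    · simpa using h3
  exact b.repr.map_eq_zero_iff.mp h1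

theorem retract_inj {R : Type*} [CommRing R] {M : Type*} [AddCommGroup M] [Module R M]
    (N : Submodule R M) [Module.Projective R (M ⧸ N)] (Q : Type*) [AddCommGroup Q] [Module R Q] :
    Function.Injective (LinearMap.lTensor Q N.subtype) := by
  obtain ⟨s, hs⟩ := Module.projective_lifting_property N.mkQ LinearMap.id N.mkQ_surjective
  have hmem : ∀ m : M, m - s (N.mkQ m) ∈ N := by
    intro m
    have h1 : N.mkQ (m - s (N.mkQ m)) = 0 := by
      rw [map_sub]
      have := LinearMap.congr_fun hs (N.mkQ m)
      simp only [LinearMap.comp_apply, LinearMap.id_apply] at this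
      rw [this, sub_self]
    exact (Submodule.Quotient.mk_eq_zero N).mp h1
  let f : M →ₗ[R] M := LinearMap.id - s.comp N.mkQ
  have hf : ∀ m, f m ∈ N := fun m => by
    show m - s (N.mkQ m) ∈ N
    exact hmem m
  let r : M →ₗ[R] N := LinearMap.codRestrict N f hf
  have hcomp : r.comp N.subtype = LinearMap.id := by
    apply LinearMap.ext
    intro n
    apply Subtype.ext
    show f (n : M) = n
    show (n : M) - s (N.mkQ (n : M)) = n
    have h0 : N.mkQ (n : M) = 0 := (Submodule.Quotient.mk_eq_zero N).mpr n.2
    rw [h0, map_zero, sub_zero]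
  have hleft : Function.LeftInverse (LinearMap.lTensor Q r) (LinearMap.lTensor Q N.subtype) := by
    intro x
    rw [← LinearMap.comp_apply, ← LinearMap.lTensor_comp, hcomp, LinearMap.lTensor_id,
      LinearMap.id_apply]
  exact hleft.injective

theorem main (p : ℕ) [Fact p.Prime]
    (k : Type u) [Field k] [CharP k p] [PerfectRing k p]
    (M : Type v) [AddCommGroup M] [Module (WittVector p k) M]
    [Module.Free (WittVector p k) M] [Module.Finite (WittVector p k) M]
    (G : Type w) [Group G] [Finite G] (ρ : Representation (WittVector p k) G M) :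
    Function.Injective
      (LinearMap.lTensor (WittVector p k ⧸ Ideal.span {(p : WittVector p k)})
        ρ.invariants.subtype) := by
  haveI : Module.IsTorsionFree (WittVector p k) (M ⧸ ρ.invariants) :=
    Module.IsTorsionFree.of_smul_eq_zero (fun r q hq => by
      by_cases hr : r = 0
      · exact Or.inl hr
      right
      obtain ⟨m, rfl⟩ := Submodule.Quotient.mk_surjective _ q
      rw [← Submodule.Quotient.mk_smul, Submodule.Quotient.mk_eq_zero,
        Representation.mem_invariants] at hq
      rw [Submodule.Quotient.mk_eq_zero, Representation.mem_invariants]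
      intro g
      have h1 := hq g
      rw [map_smul, ← sub_eq_zero, ← smul_sub] at h1
      exact sub_eq_zero.mp (free_tf r hr _ h1))
  haveI : Module.Free (WittVector p k) (M ⧸ ρ.invariants) :=
    Module.free_of_finite_type_torsion_free'
  exact retract_inj _ _

end Groth.Agent.Lib.InvSat
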