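import Mathlib

open scoped Pointwise

namespace Groth.Agent.Lib.InvThNormal

variable {B : Type*} [CommRing B] {Γ : Type*} [Group Γ] [Finite Γ] [MulSemiringAction Γ B]

instance instInv (Ω : Subgroup Γ) : Algebra.IsInvariant (FixedPoints.subring B Ω) B Ω :=
  ⟨fun b hb => ⟨⟨b, hb⟩, rfl⟩⟩

theorem partA (Ω : Subgroup Γ) (P : Ideal B) [P.IsPrime] (γ : Γ)
    (h : ∀ x : B, (∀ ω ∈ Ω, ω • x = x) → (x ∈ P ↔ γ • x ∈ P)) :
    ∃ ω ∈ Ω, ∀ x : B, x ∈ P ↔ (γ * ω) • x ∈ P := by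
  obtain ⟨P', hP'prime, hP'⟩ : ∃ P' : Ideal B, P'.IsPrime ∧ ∀ x, x ∈ P' ↔ γ • x ∈ P :=
    ⟨P.comap (MulSemiringAction.toRingHom Γ B γ), inferInstance, fun x => Iff.rfl⟩
  haveI := hP'prime
  have hunder : P.under (FixedPoints.subring B Ω) = P'.under (FixedPoints.subring B Ω) := by
    ext a
    have ha : ∀ m : Ω, m • (a:B) = a := a.2
    have h1 := h a.1 (fun ω hω => ha ⟨ω, hω⟩)
    rw [Ideal.under_def, Ideal.under_def, Ideal.mem_comap, Ideal.mem_comap, hP']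
    exact h1
  obtain ⟨ω, hω⟩ := Algebra.IsInvariant.exists_smul_of_under_eq
    (FixedPoints.subring B Ω) B Ω P P' hunder
  refine ⟨ω, ω.2, fun x => ?_⟩
  rw [mul_smul, ← hP', hω]
  have h2 : ((ω : Γ) • x) = ω • x := rfl
  rw [h2]
  exact (Ideal.smul_mem_pointwise_smul_iff (a := ω) (S := P) (x := x)).symm

theorem partB (Ω : Subgroup Γ) (P : Ideal B) [P.IsPrime] (γ : Γ)
    (h : ∀ x : B, (∀ ω ∈ Ω, ω • x = x) → γ • x - x ∈ P) :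
    ∃ ω ∈ Ω, ∀ x : B, (γ * ω) • x - x ∈ P := by
  have hA : ∀ x : B, (∀ ω ∈ Ω, ω • x = x) → (x ∈ P ↔ γ • x ∈ P) := by
    intro x hx
    have h1 := h x hx
    constructor
    · intro hxP
      have h2 := P.add_mem h1 hxP
      simpa using h2
    · intro hgx
      have h2 := P.sub_mem hgx h1
      simpa using h2
  obtain ⟨ω₁, hω₁, hstab⟩ := partA Ω P γ hA
  obtain ⟨γ₁, hγ₁⟩ : ∃ γ₁ : Γ, γ₁ = γ * ω₁ := ⟨_, rfl⟩
  rw [← hγ₁] at hstab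
  have htriv : ∀ x : B, (∀ ω ∈ Ω, ω • x = x) → γ₁ • x - x ∈ P := by
    intro x hx
    rw [hγ₁, mul_smul, hx ω₁ hω₁]; exact h x hx
  obtain ⟨e₁, he₁⟩ : ∃ e₁ : B ≃+* B, ∀ x, e₁ x = γ₁ • x :=
    ⟨MulSemiringAction.toRingEquiv Γ B γ₁, fun x => rfl⟩
  have hmap : P = P.map (e₁ : B →+* B) := by
    rw [Ideal.map_comap_of_equiv]
    ext x
    rw [Ideal.mem_comap]
    have h1 := hstab (e₁.symm x)
    have h2 : γ₁ • (e₁.symm x) = x := by rw [← he₁]; exact e₁.apply_symm_apply x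
    rw [h2] at h1
    exact h1.symm
  obtain ⟨σ, hσ⟩ : ∃ σ : (B ⧸ P) ≃ₐ[(FixedPoints.subring B Ω) ⧸ P.under (FixedPoints.subring B Ω)]
      (B ⧸ P), ∀ x : B, σ (Ideal.Quotient.mk P x) = Ideal.Quotient.mk P (γ₁ • x) := by
    refine ⟨AlgEquiv.ofRingEquiv (f := Ideal.quotientEquiv P P e₁ hmap) ?_, ?_⟩
    · intro y
      obtain ⟨a, rfl⟩ := Ideal.Quotient.mk_surjective y
      rw [Ideal.Quotient.algebraMap_mk_of_liesOver, Ideal.quotientEquiv_mk, Ideal.Quotient.eq, he₁]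
      have ha : ∀ m : Ω, m • (a:B) = a := a.2
      exact htriv a.1 (fun ω hω => ha ⟨ω, hω⟩)
    · intro x
      show Ideal.quotientEquiv P P e₁ hmap (Ideal.Quotient.mk P x) = _
      rw [Ideal.quotientEquiv_mk, he₁]
  obtain ⟨g, hg⟩ := Ideal.Quotient.stabilizerHom_surjective Ω
    (P.under (FixedPoints.subring B Ω)) P σ
  have hgx : ∀ x : B, (((g : Ω) : Γ)) • x - γ₁ • x ∈ P := by
    intro x
    have h4 : Ideal.Quotient.stabilizerHom P (P.under (FixedPoints.subring B Ω)) Ω g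
        (Ideal.Quotient.mk P x) = σ (Ideal.Quotient.mk P x) := by rw [hg]
    have h5 : Ideal.Quotient.stabilizerHom P (P.under (FixedPoints.subring B Ω)) Ω g
        (Ideal.Quotient.mk P x) = Ideal.Quotient.mk P ((((g : Ω) : Γ)) • x) := rfl
    rw [h5, hσ] at h4
    exact Ideal.Quotient.eq.mp h4
  refine ⟨ω₁ * ((g : Ω) : Γ)⁻¹, Ω.mul_mem hω₁ (Ω.inv_mem (g : Ω).2), fun x => ?_⟩
  have h6 := hgx ((((g : Ω) : Γ))⁻¹ • x)
  rw [smul_inv_smul] at h6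
  have h7 : (γ * (ω₁ * ((g : Ω) : Γ)⁻¹)) • x = γ₁ • ((((g : Ω) : Γ))⁻¹ • x) := by
    rw [← mul_assoc, mul_smul, hγ₁]
  rw [h7]
  have h8 := P.neg_mem h6
  rwa [neg_sub] at h8

theorem main (B : Type*) [CommRing B] (Γ : Type*) [Group Γ] [Finite Γ] [MulSemiringAction Γ B]
    (Ω : Subgroup Γ) (P : Ideal B) [P.IsPrime] (γ : Γ) :
    ((∀ x : B, (∀ ω ∈ Ω, ω • x = x) → (x ∈ P ↔ γ • x ∈ P)) ↔
        ∃ ω ∈ Ω, ∀ x : B, x ∈ P ↔ (γ * ω) • x ∈ P) ∧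
      ((∀ x : B, (∀ ω ∈ Ω, ω • x = x) → γ • x - x ∈ P) ↔
        ∃ ω ∈ Ω, ∀ x : B, (γ * ω) • x - x ∈ P) := by
  refine ⟨⟨partA Ω P γ, ?_⟩, ⟨partB Ω P γ, ?_⟩⟩
  · rintro ⟨ω, hω, h⟩ x hx
    have h1 := h x
    rwa [mul_smul, hx ω hω] at h1
  · rintro ⟨ω, hω, h⟩ x hx
    have h1 := h x
    rwa [mul_smul, hx ω hω] at h1

end Groth.Agent.Lib.InvThNormal
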