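import Mathlib

namespace Groth.Agent.Lib.IrrLocFin

open TopologicalSpace Topology AlgebraicGeometry

universe u

lemma finite_components_meeting {Y : Type*} [TopologicalSpace Y] (V : Set Y) (hV : IsOpen V)
    [NoetherianSpace V] : {T ∈ irreducibleComponents Y | (T ∩ V).Nonempty}.Finite := by
  classical
  have hemb : IsOpenEmbedding (Subtype.val : V → Y) := hV.isOpenEmbedding_subtypeVal
  have hfin : (irreducibleComponents V).Finite := NoetherianSpace.finite_irreducibleComponents
  have hex : ∀ T ∈ {T ∈ irreducibleComponents Y | (T ∩ V).Nonempty},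
      ∃ C ∈ irreducibleComponents V, (Subtype.val ⁻¹' T : Set V) ⊆ C := by
    rintro T ⟨hT, hne⟩
    have hpre : IsPreirreducible (Subtype.val ⁻¹' T : Set V) := hT.1.2.preimage hemb
    obtain ⟨C, hC, hTC, hmax⟩ := exists_preirreducible _ hpre
    refine ⟨C, ⟨⟨?_, hC⟩, ?_⟩, hTC⟩
    · obtain ⟨y, hyT, hyV⟩ := hne
      exact ⟨⟨y, hyV⟩, hTC hyT⟩
    · intro D hD hCD
      exact (hmax D hD.2 hCD).le
  choose! F hF using hex
  have hdense : ∀ T : Set Y, IsPreirreducible T → (T ∩ V).Nonempty → T ⊆ closure (T ∩ V) := by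
    intro T hT hne x hx
    by_contra hxc
    have hO : IsOpen (closure (T ∩ V))ᶜ := isClosed_closure.isOpen_compl
    obtain ⟨y, hyT, hyO, hyV⟩ := hT _ V hO hV ⟨x, hx, hxc⟩ hne
    exact hyO (subset_closure ⟨hyT, hyV⟩)
  have heq : ∀ T ∈ {T ∈ irreducibleComponents Y | (T ∩ V).Nonempty},
      T = closure (Subtype.val '' F T) := by
    intro T hTS
    obtain ⟨hT, hne⟩ := hTS
    have hFT := hF T ⟨hT, hne⟩
    have hD : IsIrreducible (closure (Subtype.val '' F T)) :=
      (hFT.1.1.image _ continuous_subtype_val.continuousOn).closure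
    have hsub : T ⊆ closure (Subtype.val '' F T) := by
      intro x hx
      have h1 := hdense T hT.1.2 hne hx
      refine closure_mono ?_ h1
      rintro y ⟨hyT, hyV⟩
      exact ⟨⟨y, hyV⟩, hFT.2 hyT, rfl⟩
    exact subset_antisymm hsub (hT.2 hD hsub)
  refine Set.Finite.of_injOn (f := F) (fun T hT => (hF T hT).1) ?_ hfin
  intro T₁ h₁ T₂ h₂ hFeq
  calc T₁ = closure (Subtype.val '' F T₁) := heq T₁ h₁
    _ = closure (Subtype.val '' F T₂) := by rw [hFeq]
    _ = T₂ := (heq T₂ h₂).symm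

lemma locallyFinite_components {X : Type*} [TopologicalSpace X]
    (hX : ∀ x : X, ∃ U : Set X, IsOpen U ∧ x ∈ U ∧ NoetherianSpace U) (Z : Set X) :
    LocallyFinite (fun T : ↥(irreducibleComponents ↥Z) => ((↑) '' (T.1 : Set ↥Z) : Set X)) := by
  intro x
  obtain ⟨U, hUo, hxU, hUn⟩ := hX x
  refine ⟨U, hUo.mem_nhds hxU, ?_⟩
  have hVo : IsOpen (Subtype.val ⁻¹' U : Set ↥Z) := hUo.preimage continuous_subtype_val
  haveI : NoetherianSpace (Subtype.val ⁻¹' U : Set ↥Z) := by
    let g : (Subtype.val ⁻¹' U : Set ↥Z) → U := fun v => ⟨v.1.1, v.2⟩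
    have hg : Continuous g :=
      Continuous.subtype_mk (continuous_subtype_val.comp continuous_subtype_val) (fun v => v.2)
    have hind : IsInducing g := by
      refine IsInducing.of_comp hg continuous_subtype_val ?_
      have hcomp : (Subtype.val ∘ g) =
          (Subtype.val ∘ Subtype.val : (Subtype.val ⁻¹' U : Set ↥Z) → X) := rfl
      rw [hcomp]
      exact IsInducing.subtypeVal.comp IsInducing.subtypeVal
    exact hind.noetherianSpace
  have hfin := finite_components_meeting (Subtype.val ⁻¹' U : Set ↥Z) hVo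
  refine (Set.Finite.preimage (f := fun T : ↥(irreducibleComponents ↥Z) => (T.1 : Set ↥Z))
    (fun a _ b _ h => Subtype.ext h) hfin).subset ?_
  rintro T ⟨y, ⟨z, hzT, rfl⟩, hyU⟩
  exact ⟨T.2, ⟨z, hzT, hyU⟩⟩

theorem main (X : Scheme.{u}) [IsLocallyNoetherian X] (Z : Set ↥X) (hZ : IsClosed Z) :
    LocallyFinite (fun T : ↥(irreducibleComponents ↥Z) => ((↑) '' (T.1 : Set ↥Z) : Set ↥X)) := by
  apply locallyFinite_components
  intro x
  obtain ⟨W, hW, hxW, -⟩ := exists_isAffineOpen_mem_and_subset (x := x) (U := ⊤) trivial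
  haveI : IsNoetherianRing Γ(X, W) := IsLocallyNoetherian.component_noetherian ⟨W, hW⟩
  exact ⟨(W : Set X), W.isOpen, hxW, noetherianSpace_of_isAffineOpen W hW⟩

end Groth.Agent.Lib.IrrLocFin
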