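import Mathlib
import Groth.Prelude

set_option autoImplicit false
set_option linter.style.haveILetI false
set_option linter.unusedVariables false

universe u

open CategoryTheory AlgebraicGeometry TopologicalSpace

namespace Groth.Agent.Lib.UncClosedPtH4

theorem countable_closure {C : Type u} [Monoid C] (S : Set C) (hS : S.Countable) :
    (Submonoid.closure S : Set C).Countable := by
  haveI : Countable S := hS.to_subtype
  haveI : Countable (FreeMonoid S) := FreeMonoid.toList.injective.countable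
  rw [Submonoid.closure_eq_mrange, MonoidHom.coe_mrange]
  exact Set.countable_range _

theorem rank_adjoin_le (k : Type u) {C : Type u} [Field k] [CommRing C] [Algebra k C]
    (S : Set C) (hS : S.Countable) :
    Module.rank k (Algebra.adjoin k S) ≤ Cardinal.aleph0 := by
  have hc : Countable (Submonoid.closure S : Set C) := (countable_closure S hS).to_subtype
  calc Module.rank k (Algebra.adjoin k S)
      = Module.rank k (Subalgebra.toSubmodule (Algebra.adjoin k S)) :=
        (Subalgebra.rank_toSubmodule _).symm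
    _ = Module.rank k (Submodule.span k (Submonoid.closure S : Set C)) := by
        rw [Algebra.adjoin_eq_span]
    _ ≤ Cardinal.mk (Submonoid.closure S : Set C) := rank_span_le _
    _ ≤ Cardinal.aleph0 := Cardinal.mk_le_aleph0_iff.mpr hc

theorem isAlgebraic_of_rank_le (k L : Type u) [Field k] [Uncountable k] [Field L] [Algebra k L]
    (h : Module.rank k L ≤ Cardinal.aleph0) : Algebra.IsAlgebraic k L := by
  refine ⟨fun x => ?_⟩
  by_contra hx
  have hli := Transcendental.linearIndependent_sub_inv (F := k) (E := L) (x := x) hx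
  have h1 : Cardinal.mk k ≤ Module.rank k L := hli.cardinal_le_rank
  exact absurd (lt_of_lt_of_le (Cardinal.aleph0_lt_mk_iff.mpr inferInstance) (le_trans h1 h))
    (lt_irrefl _)

theorem gen (k A C : Type u) [Field k] [Uncountable k] [CommRing A] [CommRing C] [Algebra k A]
    [Algebra k C] [Algebra A C] [IsScalarTower k A C] [Algebra.FiniteType k A] [Nontrivial C]
    (f : ℕ → A) (hf : ∀ n, IsUnit (algebraMap A C (f n))) :
    ∃ m : Ideal A, m.IsMaximal ∧ ∀ n, f n ∉ m := by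
  classical
  obtain ⟨t, ht⟩ := (Algebra.FiniteType.out : (⊤ : Subalgebra k A).FG)
  let φ : A →ₐ[k] C := IsScalarTower.toAlgHom k A C
  let v : ℕ → C := fun n => (((hf n).unit⁻¹ : Cˣ) : C)
  let S : Set C := (φ '' (t : Set A)) ∪ Set.range v
  have hS : S.Countable := (t.countable_toSet.image _).union (Set.countable_range v)
  have hAB : ∀ a : A, φ a ∈ Algebra.adjoin k S := by
    intro a
    have h1 : φ a ∈ (Algebra.adjoin k (t : Set A)).map φ :=
      Subalgebra.mem_map.mpr ⟨a, by rw [ht]; exact Algebra.mem_top, rfl⟩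
    rw [AlgHom.map_adjoin] at h1
    exact Algebra.adjoin_mono Set.subset_union_left h1
  let g0 : A →ₐ[k] (Algebra.adjoin k S) := φ.codRestrict (Algebra.adjoin k S) hAB
  haveI : Nontrivial (Algebra.adjoin k S) :=
    ⟨⟨0, 1, fun h => zero_ne_one (α := C) (congrArg Subtype.val h)⟩⟩
  obtain ⟨𝔫, h𝔫⟩ := Ideal.exists_maximal (Algebra.adjoin k S)
  haveI := h𝔫
  letI : Field ((Algebra.adjoin k S) ⧸ 𝔫) := Ideal.Quotient.field 𝔫
  have hrankL : Module.rank k ((Algebra.adjoin k S) ⧸ 𝔫) ≤ Cardinal.aleph0 :=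
    le_trans (LinearMap.rank_le_of_surjective (Ideal.Quotient.mkₐ k 𝔫).toLinearMap
      (Ideal.Quotient.mkₐ_surjective k 𝔫)) (rank_adjoin_le k S hS)
  haveI halg : Algebra.IsAlgebraic k ((Algebra.adjoin k S) ⧸ 𝔫) :=
    isAlgebraic_of_rank_le k _ hrankL
  haveI hint : Algebra.IsIntegral k ((Algebra.adjoin k S) ⧸ 𝔫) := Algebra.IsAlgebraic.isIntegral
  let G : A →ₐ[k] ((Algebra.adjoin k S) ⧸ 𝔫) := (Ideal.Quotient.mkₐ k 𝔫).comp g0
  have hGint : (G : A →+* ((Algebra.adjoin k S) ⧸ 𝔫)).IsIntegral := by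
    refine RingHom.IsIntegral.tower_top (algebraMap k A) G.toRingHom ?_
    have hcomp : G.toRingHom.comp (algebraMap k A) =
        algebraMap k ((Algebra.adjoin k S) ⧸ 𝔫) := RingHom.ext fun c => G.commutes c
    rw [hcomp]
    exact algebraMap_isIntegral_iff.mpr hint
  haveI hbot : (⊥ : Ideal ((Algebra.adjoin k S) ⧸ 𝔫)).IsMaximal := Ideal.bot_isMaximal
  refine ⟨Ideal.comap (G : A →+* ((Algebra.adjoin k S) ⧸ 𝔫)) ⊥,
    Ideal.isMaximal_comap_of_isIntegral_of_isMaximal' G.toRingHom hGint ⊥, fun n hn => ?_⟩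
  have h0 : Ideal.Quotient.mk 𝔫 (g0 (f n)) = 0 := Ideal.mem_bot.mp (Ideal.mem_comap.mp hn)
  have h1 : g0 (f n) ∈ 𝔫 := Ideal.Quotient.eq_zero_iff_mem.mp h0
  let w : Algebra.adjoin k S := ⟨v n, Algebra.subset_adjoin (Or.inr ⟨n, rfl⟩)⟩
  have h2 : g0 (f n) * w = 1 := Subtype.ext (by
    show φ (f n) * v n = 1
    exact IsUnit.mul_val_inv (hf n))
  have h3 : (1 : Algebra.adjoin k S) ∈ 𝔫 := by
    rw [← h2]; exact Ideal.mul_mem_right w 𝔫 h1
  exact (Ideal.ne_top_iff_one 𝔫).mp h𝔫.ne_top h3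

theorem spec_main (k A : Type u) [Field k] [Uncountable k] [CommRing A] [Algebra k A]
    [Algebra.FiniteType k A] [IrreducibleSpace (PrimeSpectrum A)]
    (Cn : ℕ → Set (PrimeSpectrum A)) (hC : ∀ n, IsClosed (Cn n)) (hne : ∀ n, Cn n ≠ Set.univ) :
    ∃ p : PrimeSpectrum A, p.asIdeal.IsMaximal ∧ ∀ n, p ∉ Cn n := by
  classical
  let η : PrimeSpectrum A := genericPoint (PrimeSpectrum A)
  have hη : closure ({η} : Set (PrimeSpectrum A)) = Set.univ :=
    (genericPoint_spec (PrimeSpectrum A)).def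
  have hηn : ∀ n, η ∉ Cn n := fun n h =>
    hne n (Set.eq_univ_of_univ_subset (by
      rw [← hη]; exact closure_minimal (Set.singleton_subset_iff.mpr h) (hC n)))
  have hex : ∀ n, ∃ fn : A, fn ∉ η.asIdeal ∧
      ∀ q : PrimeSpectrum A, fn ∉ q.asIdeal → q ∉ Cn n := by
    intro n
    obtain ⟨V, ⟨fn, rfl⟩, hηV, hVsub⟩ :=
      PrimeSpectrum.isTopologicalBasis_basic_opens.exists_subset_of_mem_open
        (show η ∈ (Cn n)ᶜ from hηn n) (hC n).isOpen_compl
    exact ⟨fn, (PrimeSpectrum.mem_basicOpen fn η).mp hηV,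
      fun q hq => hVsub ((PrimeSpectrum.mem_basicOpen fn q).mpr hq)⟩
  choose f hf1 hf2 using hex
  haveI : η.asIdeal.IsPrime := η.isPrime
  obtain ⟨m, hm, hfm⟩ := gen k A (Localization.AtPrime η.asIdeal) f
    (fun n => IsLocalization.map_units (Localization.AtPrime η.asIdeal)
      (⟨f n, hf1 n⟩ : η.asIdeal.primeCompl))
  exact ⟨⟨m, hm.isPrime⟩, hm, fun n => hf2 n ⟨m, hm.isPrime⟩ (hfm n)⟩

theorem scheme_main (k : Type u) [Field k] [Uncountable k] (X : Scheme.{u})
    (sX : X ⟶ Spec (CommRingCat.of k)) [IrreducibleSpace X] [LocallyOfFiniteType sX]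
    (Z : ℕ → TopologicalSpace.Closeds X) (hZ : ∀ n, (Z n : Set X) ≠ Set.univ)
    (W : Set X) (hW : IsOpen W) (hWne : W.Nonempty) :
    ∃ x ∈ W, IsClosed ({x} : Set X) ∧ ∀ n, x ∉ Z n := by
  classical
  obtain ⟨x₀, hx₀⟩ := hWne
  obtain ⟨_, ⟨U, hU, rfl⟩, hx₀U, hUW⟩ :=
    X.isBasis_affineOpens.exists_subset_of_mem_open hx₀ hW
  have hU' : IsAffineOpen U := hU
  haveI : IsJacobsonRing (CommRingCat.of k) := inferInstanceAs (IsJacobsonRing k)
  haveI : JacobsonSpace X := LocallyOfFiniteType.jacobsonSpace sX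
  let j : Spec Γ(X, U) ⟶ X := hU'.fromSpec
  haveI : IsOpenImmersion j := inferInstance
  haveI : LocallyOfFiniteType (j ≫ sX) := inferInstance
  let ψ : CommRingCat.of k ⟶ Γ(X, U) := Spec.preimage (j ≫ sX)
  have hψ : RingHom.FiniteType ψ.hom := by
    have h1 : LocallyOfFiniteType (Spec.map ψ) := by rw [Spec.map_preimage]; infer_instance
    exact (HasRingHomProperty.Spec_iff (P := @LocallyOfFiniteType)).mp h1
  letI : Algebra k Γ(X, U) := ψ.hom.toAlgebra
  haveI : Algebra.FiniteType k Γ(X, U) := hψ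
  have hrange : Set.range j = (U : Set X) := hU'.range_fromSpec
  obtain ⟨p₀, hp₀⟩ : x₀ ∈ Set.range j := by rw [hrange]; exact hx₀U
  have hemb : Topology.IsOpenEmbedding j := j.isOpenEmbedding
  haveI : IrreducibleSpace (PrimeSpectrum Γ(X, U)) := by
    have h1 : IsPreirreducible (j ⁻¹' (Set.univ : Set X)) :=
      (IrreducibleSpace.isIrreducible_univ X).2.preimage hemb
    rw [Set.preimage_univ] at h1
    exact { isPreirreducible_univ := h1, toNonempty := ⟨p₀⟩ }
  let Cn : ℕ → Set (PrimeSpectrum Γ(X, U)) := fun n => j ⁻¹' (Z n : Set X)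
  have hCn : ∀ n, IsClosed (Cn n) := fun n => (Z n).isClosed.preimage j.continuous
  have hCne : ∀ n, Cn n ≠ Set.univ := by
    intro n h
    apply hZ n
    have hsub : (U : Set X) ⊆ (Z n : Set X) := by
      rw [← hrange]
      rintro _ ⟨p, rfl⟩
      have : p ∈ Cn n := by rw [h]; trivial
      exact this
    have hdense : Dense (U : Set X) := U.isOpen.dense ⟨x₀, hx₀U⟩
    exact Set.eq_univ_of_univ_subset (by
      rw [← hdense.closure_eq]; exact closure_minimal hsub (Z n).isClosed)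
  obtain ⟨p, hp, hpC⟩ := spec_main k Γ(X, U) Cn hCn hCne
  refine ⟨j p, hUW ?_, ?_, fun n h => hpC n h⟩
  · rw [← hrange]; exact ⟨p, rfl⟩
  · have h1 : p ∈ closedPoints (PrimeSpectrum Γ(X, U)) :=
      (PrimeSpectrum.isClosed_singleton_iff_isMaximal p).mpr hp
    have h2 := hemb.preimage_closedPoints
    exact (h2.ge h1 : j p ∈ closedPoints X)

theorem main1 (k : Type u) [Field k] [Uncountable k]
    (X : Scheme.{u}) (sX : X ⟶ Spec (CommRingCat.of k)) [IrreducibleSpace X]
    [LocallyOfFiniteType sX]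
    (Z : ℕ → TopologicalSpace.Closeds X) (hZ : ∀ n, (Z n : Set X) ≠ Set.univ) :
    ∃ x : X, IsClosed ({x} : Set X) ∧ ∀ n, x ∉ Z n := by
  obtain ⟨x, _, hx⟩ := scheme_main k X sX Z hZ Set.univ isOpen_univ Set.univ_nonempty
  exact ⟨x, hx⟩

theorem main2 (k : Type u) [Field k] [Uncountable k]
    (V : Scheme.{u}) (sV : V ⟶ Spec (CommRingCat.of k)) [IrreducibleSpace V]
    [LocallyOfFiniteType sV]
    (Z : ℕ → TopologicalSpace.Closeds V) (hZ : ∀ n, (Z n : Set V) ≠ Set.univ) :
    Dense {x : V | IsClosed ({x} : Set V) ∧ ∀ n, x ∉ Z n} := by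
  rw [dense_iff_inter_open]
  intro W hW hWne
  obtain ⟨x, hxW, hx⟩ := scheme_main k V sV Z hZ W hW hWne
  exact ⟨x, hxW, hx⟩

end Groth.Agent.Lib.UncClosedPtH4
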