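import Mathlib
import Groth.Prelude
import Groth.Agent.Lib.UncClosedPt_helper4

set_option autoImplicit false
set_option linter.style.haveILetI false
set_option linter.unusedVariables false

universe u

open CategoryTheory AlgebraicGeometry TopologicalSpace

namespace Groth.Agent.Lib.IrredDecompH4

/-- In a locally Noetherian scheme, every member of a family of irreducible closed subsets lies
below a maximal member of the family. -/
theorem exists_maximal_above (X : Scheme.{u}) [IsLocallyNoetherian X]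
    (𝒮 : Set (Closeds X)) (h𝒮 : ∀ T ∈ 𝒮, IsIrreducible (T : Set X))
    (T₀ : Closeds X) (hT₀ : T₀ ∈ 𝒮) :
    ∃ T ∈ 𝒮, T₀ ≤ T ∧ ∀ T' ∈ 𝒮, T ≤ T' → T' = T := by
  classical
  have hgen₀ : IsGenericPoint (h𝒮 T₀ hT₀).genericPoint (T₀ : Set X) := by
    have := (h𝒮 T₀ hT₀).isGenericPoint_genericPoint_closure
    rwa [T₀.isClosed.closure_eq] at this
  obtain ⟨_, ⟨U, hU, rfl⟩, hx₀U, -⟩ :=
    X.isBasis_affineOpens.exists_subset_of_mem_open
      (Set.mem_univ (h𝒮 T₀ hT₀).genericPoint) isOpen_univ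
  have hU' : IsAffineOpen U := hU
  haveI : IsNoetherianRing Γ(X, U) := IsLocallyNoetherian.component_noetherian ⟨U, hU⟩
  let j : Spec Γ(X, U) ⟶ X := hU'.fromSpec
  have hrange : Set.range j = (U : Set X) := hU'.range_fromSpec
  have hemb : Topology.IsOpenEmbedding j := j.isOpenEmbedding
  haveI : WellFoundedLT (PrimeSpectrum Γ(X, U)) :=
    StrictMono.wellFoundedLT (f := fun p : PrimeSpectrum Γ(X, U) => p.asIdeal.height)
      (fun p q hpq => by
        haveI := p.isPrime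
        exact Ideal.height_strict_mono_of_isPrime
          ((PrimeSpectrum.asIdeal_lt_asIdeal p q).mpr hpq))
  let G' : Set (PrimeSpectrum Γ(X, U)) :=
    {p | ∃ T ∈ 𝒮, T₀ ≤ T ∧ IsGenericPoint (j p) (T : Set X)}
  obtain ⟨p₀, hp₀⟩ : (h𝒮 T₀ hT₀).genericPoint ∈ Set.range j := by rw [hrange]; exact hx₀U
  have hne : G'.Nonempty := ⟨p₀, T₀, hT₀, le_rfl, by rw [hp₀]; exact hgen₀⟩
  obtain ⟨p, ⟨T, hT𝒮, hT₀T, hgen⟩, hmin⟩ := wellFounded_lt.has_min G' hne
  refine ⟨T, hT𝒮, hT₀T, fun T' hT' hTT' => ?_⟩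
  have hgen' : IsGenericPoint (h𝒮 T' hT').genericPoint (T' : Set X) := by
    have := (h𝒮 T' hT').isGenericPoint_genericPoint_closure
    rwa [T'.isClosed.closure_eq] at this
  have hjpT : j p ∈ (T : Set X) := by
    have : j p ∈ closure ({j p} : Set X) := subset_closure rfl
    rwa [hgen.def] at this
  have hspec : (h𝒮 T' hT').genericPoint ⤳ j p := by
    rw [specializes_iff_mem_closure, hgen'.def]
    exact (SetLike.le_def.mp hTT') hjpT
  have hjpU : j p ∈ (U : Set X) := by rw [← hrange]; exact ⟨p, rfl⟩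
  have hx'U : (h𝒮 T' hT').genericPoint ∈ (U : Set X) := hspec.mem_open U.isOpen hjpU
  obtain ⟨p', hp'⟩ : ∃ p' : PrimeSpectrum Γ(X, U), j p' = (h𝒮 T' hT').genericPoint := by
    have hmem : (h𝒮 T' hT').genericPoint ∈ Set.range j := by rw [hrange]; exact hx'U
    exact hmem
  have hp'G : p' ∈ G' := ⟨T', hT', le_trans hT₀T hTT', by rw [hp']; exact hgen'⟩
  have hle : p' ≤ p := (PrimeSpectrum.le_iff_specializes p' p).mpr
    ((hemb.toIsEmbedding.toIsInducing.specializes_iff).mp (by rw [hp']; exact hspec))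
  have heq : p' = p := eq_of_le_of_not_lt hle (hmin p' hp'G)
  apply SetLike.coe_injective
  rw [← hgen'.def, ← hgen.def, ← hp', heq]

/-- Countably many closed subsets not containing the irreducible closed subset `T` miss a closed
point of `T`. -/
theorem cov (k : Type u) [Field k] [Uncountable k] (X : Scheme.{u})
    (sX : X ⟶ Spec (CommRingCat.of k)) [LocallyOfFiniteType sX]
    (T : Closeds X) (hT : IsIrreducible (T : Set X))
    (𝒞 : Set (Closeds X)) (h𝒞 : 𝒞.Countable) (hTC : ∀ C ∈ 𝒞, ¬ T ≤ C) :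
    ∃ x ∈ (T : Set X), IsClosed ({x} : Set X) ∧ ∀ C ∈ 𝒞, x ∉ C := by
  classical
  let I := Scheme.IdealSheafData.vanishingIdeal T
  let i : I.subscheme ⟶ X := I.subschemeι
  have hrange : Set.range i = (T : Set X) := by
    rw [Scheme.IdealSheafData.range_subschemeι, Scheme.IdealSheafData.coe_support_vanishingIdeal]
  have hcemb : Topology.IsClosedEmbedding i := i.isClosedEmbedding
  haveI : IrreducibleSpace I.subscheme := by
    have hT' : IsIrreducible (Set.range i) := by rw [hrange]; exact hT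
    have h1 : IrreducibleSpace (Set.range i) := isIrreducible_iff_irreducibleSpace.mp hT'
    exact (Homeomorph.irreducibleSpace_iff hcemb.isEmbedding.toHomeomorph).mpr h1
  haveI : LocallyOfFiniteType (i ≫ sX) := inferInstance
  obtain ⟨c, hc⟩ := (h𝒞.insert ⊥).exists_eq_range ⟨⊥, Set.mem_insert _ _⟩
  let Z' : ℕ → Closeds I.subscheme := fun n =>
    ⟨i ⁻¹' (c n : Set X), (c n).isClosed.preimage i.continuous⟩
  have hZ' : ∀ n, (Z' n : Set I.subscheme) ≠ Set.univ := by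
    intro n h
    have hsub : (T : Set X) ⊆ (c n : Set X) := by
      rw [← hrange]
      rintro _ ⟨y, rfl⟩
      have : y ∈ (Z' n : Set I.subscheme) := by rw [h]; trivial
      exact this
    have hcn : c n ∈ insert ⊥ 𝒞 := by rw [hc]; exact ⟨n, rfl⟩
    rcases hcn with h0 | h1
    · obtain ⟨t, ht⟩ := hT.1
      have : t ∈ ((⊥ : Closeds X) : Set X) := by rw [← h0]; exact hsub ht
      simp at this
    · exact hTC _ h1 (SetLike.coe_subset_coe.mp hsub)
  obtain ⟨y, hy, hyZ⟩ := UncClosedPtH4.main1 k I.subscheme (i ≫ sX) Z' hZ'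
  refine ⟨i y, by rw [← hrange]; exact ⟨y, rfl⟩, ?_, fun C hC hxC => ?_⟩
  · have := hcemb.isClosedMap _ hy
    rwa [Set.image_singleton] at this
  · have hC' : C ∈ insert ⊥ 𝒞 := Set.mem_insert_of_mem _ hC
    rw [hc] at hC'
    obtain ⟨n, rfl⟩ := hC'
    exact hyZ n hxC

theorem main (k : Type u) [Field k] [Uncountable k] (X : Scheme.{u})
    (sX : X ⟶ Spec (CommRingCat.of k)) [LocallyOfFiniteType sX] [QuasiCompact sX]
    (Z : ℕ → Closeds X) :
    ∃! S : Set (Closeds X), S.Countable ∧ (∀ T ∈ S, IsIrreducible (T : Set X)) ∧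
      IsAntichain (· ≤ ·) S ∧
      {x : X | IsClosed ({x} : Set X) ∧ ∃ T ∈ S, x ∈ T} =
        {x : X | IsClosed ({x} : Set X) ∧ ∃ n, x ∈ Z n} := by
  classical
  haveI : IsLocallyNoetherian X := LocallyOfFiniteType.isLocallyNoetherian sX
  haveI : CompactSpace X := QuasiCompact.compactSpace_of_compactSpace sX
  haveI : IsNoetherian X := {}
  have key : ∀ (Sa Sb : Set (Closeds X)), Sb.Countable →
      (∀ T ∈ Sa, IsIrreducible (T : Set X)) →
      {x : X | IsClosed ({x} : Set X) ∧ ∃ T ∈ Sa, x ∈ T} =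
        {x : X | IsClosed ({x} : Set X) ∧ ∃ T ∈ Sb, x ∈ T} →
      ∀ T ∈ Sa, ∃ T' ∈ Sb, T ≤ T' := by
    intro Sa Sb hcb hia hab T hT
    by_contra hcon
    have hcon' : ∀ C ∈ Sb, ¬ T ≤ C := fun C hC hle => hcon ⟨C, hC, hle⟩
    obtain ⟨x, hxT, hxc, hxn⟩ := cov k X sX T (hia T hT) Sb hcb hcon'
    have hx1 : x ∈ {x : X | IsClosed ({x} : Set X) ∧ ∃ T ∈ Sa, x ∈ T} := ⟨hxc, T, hT, hxT⟩
    rw [hab] at hx1
    obtain ⟨_, T', hT', hxT'⟩ := hx1
    exact hxn T' hT' hxT'
  let P : Set (Closeds X) → Prop := fun S =>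
    S.Countable ∧ (∀ T ∈ S, IsIrreducible (T : Set X)) ∧
      IsAntichain (· ≤ ·) S ∧
      {x : X | IsClosed ({x} : Set X) ∧ ∃ T ∈ S, x ∈ T} =
        {x : X | IsClosed ({x} : Set X) ∧ ∃ n, x ∈ Z n}
  have aux : ∀ S₁ S₂ : Set (Closeds X), P S₁ → P S₂ → S₁ ⊆ S₂ := by
    intro S₁ S₂ h₁ h₂
    obtain ⟨hc₁, hi₁, ha₁, he₁⟩ := h₁
    obtain ⟨hc₂, hi₂, ha₂, he₂⟩ := h₂
    intro T hT
    obtain ⟨T', hT', hTT'⟩ := key S₁ S₂ hc₂ hi₁ (he₁.trans he₂.symm) T hT
    obtain ⟨T'', hT'', hT'T''⟩ := key S₂ S₁ hc₁ hi₂ (he₂.trans he₁.symm) T' hT'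
    have hEq : T = T'' := by
      by_contra hne
      exact ha₁ hT hT'' hne (le_trans hTT' hT'T'')
    have hfin : T = T' := le_antisymm hTT' (by rw [hEq]; exact hT'T'')
    rw [hfin]; exact hT'
  choose F hFfin hFirr hFsup using fun n =>
    NoetherianSpace.exists_finite_set_closeds_irreducible (Z n)
  let S₀ : Set (Closeds X) := ⋃ n, F n
  have hS₀c : S₀.Countable := Set.countable_iUnion fun n => (hFfin n).countable
  have hS₀i : ∀ T ∈ S₀, IsIrreducible (T : Set X) := by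
    intro T hT
    obtain ⟨n, hn⟩ := Set.mem_iUnion.mp hT
    exact hFirr n T hn
  let S : Set (Closeds X) := {T | T ∈ S₀ ∧ ∀ T' ∈ S₀, T ≤ T' → T' = T}
  have hZn : ∀ n, (Z n : Set X) = ⋃₀ ((SetLike.coe : Closeds X → Set X) '' F n) := by
    intro n
    have hcl : IsClosed (⋃₀ ((SetLike.coe : Closeds X → Set X) '' F n)) := by
      rw [Set.sUnion_image]; exact (hFfin n).isClosed_biUnion (fun T _ => T.isClosed)
    conv_lhs => rw [hFsup n]
    rw [Closeds.coe_sSup, hcl.closure_eq]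
  have hS : P S := by
    refine ⟨hS₀c.mono (fun T hT => hT.1), fun T hT => hS₀i T hT.1, ?_, ?_⟩
    · intro a ha b hb hne
      show ¬ a ≤ b
      intro hle
      exact hne (ha.2 b hb.1 hle).symm
    · ext x
      constructor
      · rintro ⟨hx, T, hT, hxT⟩
        obtain ⟨n, hn⟩ := Set.mem_iUnion.mp hT.1
        refine ⟨hx, n, ?_⟩
        have hmem : x ∈ (Z n : Set X) := by
          rw [hZn n]; exact ⟨_, ⟨T, hn, rfl⟩, hxT⟩
        exact hmem
      · rintro ⟨hx, n, hxn⟩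
        have hxn' : x ∈ (Z n : Set X) := hxn
        rw [hZn n] at hxn'
        obtain ⟨_, ⟨T₀, hT₀, rfl⟩, hxT₀⟩ := hxn'
        have hT₀S : T₀ ∈ S₀ := Set.mem_iUnion.mpr ⟨n, hT₀⟩
        obtain ⟨T, hTS, hle, hmax⟩ := exists_maximal_above X S₀ hS₀i T₀ hT₀S
        exact ⟨hx, T, ⟨hTS, hmax⟩, (SetLike.le_def.mp hle) hxT₀⟩
  exact ⟨S, hS, fun S' hS' => Set.Subset.antisymm (aux S' S hS' hS) (aux S S' hS hS')⟩

end Groth.Agent.Lib.IrredDecompH4
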