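import Mathlib

set_option maxHeartbeats 400000

namespace Groth.Agent.Lib.IrrelAway

universe u v w

theorem main (R : Type u) (A : Type v) (B : Type w) [CommRing R] [CommRing A] [CommRing B]
    [Algebra R A] [Algebra R B] [Algebra A B] [IsScalarTower R A B]
    (𝒜 : ℕ → Submodule R A) [GradedAlgebra 𝒜] (ℬ : ℕ → Submodule R B) [GradedAlgebra ℬ]
    (σ : A) (hσ0 : σ ∈ 𝒜 0) [IsLocalization.Away σ B]
    (ι : 𝒜 →+*ᵍ ℬ) (hι : ∀ a : A, ι a = algebraMap A B a) :
    (HomogeneousIdeal.irrelevant 𝒜).map ι = HomogeneousIdeal.irrelevant ℬ := by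
  apply HomogeneousIdeal.ext
  rw [HomogeneousIdeal.toIdeal_map]
  apply le_antisymm
  · rw [HomogeneousIdeal.irrelevant_eq_span 𝒜, Ideal.map_span, Ideal.span_le]
    rintro _ ⟨x, hx, rfl⟩
    obtain ⟨i, hi, hxi⟩ := Set.mem_iUnion₂.mp hx
    exact HomogeneousIdeal.mem_irrelevant_of_mem ℬ hi (ι.map_mem hxi)
  · rw [HomogeneousIdeal.toIdeal_irrelevant_le]
    intro d hd b hb
    have hb' : b ∈ ℬ d := hb
    show b ∈ Ideal.map ι (HomogeneousIdeal.irrelevant 𝒜).toIdeal
    obtain ⟨n, a, hna⟩ := IsLocalization.Away.surj σ b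
    have hs : algebraMap A B σ ∈ ℬ 0 := by
      rw [← hι]; exact ι.map_mem hσ0
    have hsn : algebraMap A B σ ^ n ∈ ℬ 0 := by
      have := SetLike.pow_mem_graded n hs
      simpa using this
    have hbs : b * algebraMap A B σ ^ n ∈ ℬ d := by
      have := SetLike.mul_mem_graded hb' hsn
      simpa using this
    have h1 : ((DirectSum.decompose ℬ (b * algebraMap A B σ ^ n) d : ℬ d) : B) =
        b * algebraMap A B σ ^ n := DirectSum.decompose_of_mem_same ℬ hbs
    have h2 : ι (DirectSum.decompose 𝒜 a d : A) = b * algebraMap A B σ ^ n := by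
      rw [GradedRingHom.map_directSumDecompose, hι a, ← hna]
      exact h1
    have hunit : IsUnit (algebraMap A B σ ^ n) :=
      (IsLocalization.Away.algebraMap_isUnit σ).pow n
    obtain ⟨u, hu⟩ := hunit
    have h3 : b = ι (DirectSum.decompose 𝒜 a d : A) * ((u⁻¹ : Bˣ) : B) := by
      rw [Units.eq_mul_inv_iff_mul_eq, hu, h2]
    rw [h3]
    apply Ideal.mul_mem_right
    apply Ideal.mem_map_of_mem
    exact HomogeneousIdeal.mem_irrelevant_of_mem 𝒜 hd (SetLike.coe_mem _)

end Groth.Agent.Lib.IrrelAway
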