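import Mathlib
import Groth.Agent.Lib.IsQuot4_helper8
import Groth.Agent.S2908
import Groth.Agent.S13596
set_option autoImplicit false
open AlgebraicGeometry CategoryTheory CategoryTheory.Limits TopologicalSpace
universe u
namespace IsQuotH8

/-- Separatedness descends along a surjective universally closed morphism. -/
theorem isSeparated_of_comp_surjective {X Y Z : Scheme.{u}} (p : X ⟶ Y) (q : Y ⟶ Z)
    [UniversallyClosed p] (hsurj : Function.Surjective p.base) [IsSeparated (p ≫ q)] :
    IsSeparated q := by
  have hP : UniversallyClosed (pullback.map (p ≫ q) (p ≫ q) q q p p (𝟙 Z)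
      ((Category.comp_id _).trans rfl) ((Category.comp_id _).trans rfl)) :=
    MorphismProperty.pullbackMap (P := @UniversallyClosed) (f := p ≫ q) (g := p ≫ q)
      (f' := q) (g' := q) (i₁ := p) (i₂ := p) inferInstance inferInstance rfl rfl
  obtain ⟨P, hPdef⟩ : ∃ P, P = pullback.map (p ≫ q) (p ≫ q) q q p p (𝟙 Z)
      ((Category.comp_id _).trans rfl) ((Category.comp_id _).trans rfl) := ⟨_, rfl⟩
  rw [← hPdef] at hP
  have h1 : P ≫ pullback.fst q q = pullback.fst (p ≫ q) (p ≫ q) ≫ p := by
    rw [hPdef]; exact pullback.lift_fst _ _ _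
  have h2 : P ≫ pullback.snd q q = pullback.snd (p ≫ q) (p ≫ q) ≫ p := by
    rw [hPdef]; exact pullback.lift_snd _ _ _
  have hnat : pullback.diagonal (p ≫ q) ≫ P = p ≫ pullback.diagonal q := by
    apply pullback.hom_ext
    · rw [Category.assoc, h1, ← Category.assoc, pullback.diagonal_fst, Category.id_comp,
        Category.assoc, pullback.diagonal_fst, Category.comp_id]
    · rw [Category.assoc, h2, ← Category.assoc, pullback.diagonal_snd, Category.id_comp,
        Category.assoc, pullback.diagonal_snd, Category.comp_id]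
  have hrange : Set.range (pullback.diagonal q).base =
      P.base '' Set.range (pullback.diagonal (p ≫ q)).base := by
    ext z
    constructor
    · rintro ⟨y, rfl⟩
      obtain ⟨x, rfl⟩ := hsurj y
      refine ⟨(pullback.diagonal (p ≫ q)).base x, ⟨x, rfl⟩, ?_⟩
      have := congrArg (fun m => m.base x) hnat
      simpa using this
    · rintro ⟨_, ⟨x, rfl⟩, rfl⟩
      refine ⟨p.base x, ?_⟩
      have := congrArg (fun m => m.base x) hnat
      simpa using this.symm
  have hclosed : IsClosed (Set.range (pullback.diagonal q).base) := by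
    rw [hrange]
    exact P.isClosedMap _ (pullback.diagonal (p ≫ q)).isClosedEmbedding.isClosed_range
  haveI := IsClosedImmersion.of_isPreimmersion (pullback.diagonal q) hclosed
  exact ⟨inferInstance⟩


/-- Artin–Tate for ring homomorphisms. -/
theorem finiteType_of_comp_integral {C B A : Type u} [CommRing C] [CommRing B] [CommRing A]
    [IsNoetherianRing C] (φ : C →+* B) (ψ : B →+* A) (hfin : (ψ.comp φ).FiniteType)
    (hint : ψ.IsIntegral) (hinj : Function.Injective ψ) : φ.FiniteType := by
  letI := φ.toAlgebra
  letI := ψ.toAlgebra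
  letI := (ψ.comp φ).toAlgebra
  haveI : IsScalarTower C B A := IsScalarTower.of_algebraMap_eq (fun x => rfl)
  haveI : Algebra.FiniteType C A := hfin
  haveI : Algebra.FiniteType B A := Algebra.FiniteType.of_restrictScalars_finiteType C B A
  haveI : Algebra.IsIntegral B A := ⟨hint⟩
  haveI : Module.Finite B A := Algebra.IsIntegral.finite
  have h := fg_of_fg_of_fg C B A (Algebra.FiniteType.out) (Module.Finite.fg_top) hinj
  exact ⟨h⟩

theorem quasiCompact_of_comp_surjective {X Y Z : Scheme.{u}} (p : X ⟶ Y) (q : Y ⟶ Z)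
    (hsurj : Function.Surjective p.base) [QuasiCompact (p ≫ q)] : QuasiCompact q := by
  refine ⟨fun U hU hUc => ?_⟩
  have h1 : IsCompact ((p ≫ q).base ⁻¹' U) := QuasiCompact.isCompact_preimage U hU hUc
  have h2 : q.base ⁻¹' U = p.base '' ((p ≫ q).base ⁻¹' U) := by
    ext y
    constructor
    · intro hy
      obtain ⟨x, rfl⟩ := hsurj y
      exact ⟨x, by simpa using hy, rfl⟩
    · rintro ⟨x, hx, rfl⟩
      simpa using hx
  rw [h2]
  exact h1.image p.base.hom.continuous

end IsQuotH8
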