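import Mathlib
import Groth.Prelude
import Groth.Agent.Lib.StalkLoc_helper8
import Groth.Agent.Lib.FLF1_helper8

/-!
# The locus where a morphism of coherent modules is a stalkwise isomorphism is open (helper5)
-/

universe u

open CategoryTheory IsLocalRing AlgebraicGeometry TopologicalSpace Opposite

namespace Groth.Agent.IsoLocus

variable {X : Scheme.{u}} {F G : X.Modules} (φ : F ⟶ G)

/-- the map on sections as a linear map -/
noncomputable def secLin (U : X.Opens) : Γ(F, U) →ₗ[Γ(X, U)] Γ(G, U) where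
  toFun m := φ.app U m
  map_add' a b := map_add _ a b
  map_smul' r m := Scheme.Modules.Hom.app_smul φ r m

theorem secLin_apply (U : X.Opens) (m : Γ(F, U)) : secLin φ U m = φ.app U m := rfl

variable [F.IsQuasicoherent] [G.IsQuasicoherent]

/-- bijectivity of the stalk map at a point of an affine open in terms of supports of kernel and
cokernel of the map on sections -/
theorem bijective_stalk_iff {U : X.Opens} (hU : IsAffineOpen U) {y : X} (hy : y ∈ U) :
    Function.Bijective (RefHull.stalkMapₗ φ y) ↔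
      hU.primeIdealOf ⟨y, hy⟩ ∉ Module.support Γ(X, U) (LinearMap.ker (secLin φ U)) ∧
      hU.primeIdealOf ⟨y, hy⟩ ∉
        Module.support Γ(X, U) (Γ(G, U) ⧸ LinearMap.range (secLin φ U)) := by
  letI := TopCat.Presheaf.algebra_section_stalk X.presheaf (⟨y, hy⟩ : U)
  haveI : IsLocalization.AtPrime (X.presheaf.stalk y) (hU.primeIdealOf ⟨y, hy⟩).asIdeal :=
    hU.isLocalization_stalk ⟨y, hy⟩
  letI modF : Module Γ(X, U) (F.presheaf.stalk y) := StalkLocH8.modSec F hy
  letI modG : Module Γ(X, U) (G.presheaf.stalk y) := StalkLocH8.modSec G hy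
  haveI : IsScalarTower Γ(X, U) (X.presheaf.stalk y) (F.presheaf.stalk y) :=
    IsScalarTower.of_algebraMap_smul (fun _ _ => rfl)
  haveI : IsScalarTower Γ(X, U) (X.presheaf.stalk y) (G.presheaf.stalk y) :=
    IsScalarTower.of_algebraMap_smul (fun _ _ => rfl)
  haveI hlocF := StalkLocH8.isLocalizedModule_germLin F hU hy
  haveI hlocG := StalkLocH8.isLocalizedModule_germLin G hU hy
  set P := hU.primeIdealOf ⟨y, hy⟩ with hP
  set S := P.asIdeal.primeCompl with hS
  set ψ := RefHull.stalkMapₗ φ y with hψ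
  set fL := secLin φ U with hfL
  have hψA : ∀ (a : Γ(X, U)) (z : F.presheaf.stalk y), ψ (a • z) = a • ψ z := by
    intro a z
    rw [← algebraMap_smul (X.presheaf.stalk y) a z, map_smul, algebraMap_smul]
  have hψg : ∀ m : Γ(F, U), ψ (StalkLocH8.germLin F hy m) = StalkLocH8.germLin G hy (fL m) :=
    fun m => RefHull.stalkMapₗ_germ φ y hy m
  have hinjF : ∀ (a : Γ(X, U)), a ∉ P.asIdeal → ∀ z : F.presheaf.stalk y, a • z = 0 → z = 0 := by
    intro a ha z hz
    exact IsLocalizedModule.smul_injective (StalkLocH8.germLin F hy) (⟨a, ha⟩ : S)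
      (show (⟨a, ha⟩ : S) • z = (⟨a, ha⟩ : S) • (0 : F.presheaf.stalk y) by
        rw [smul_zero]; exact hz)
  have hinjG : ∀ (a : Γ(X, U)), a ∉ P.asIdeal → ∀ z : G.presheaf.stalk y, a • z = 0 → z = 0 := by
    intro a ha z hz
    exact IsLocalizedModule.smul_injective (StalkLocH8.germLin G hy) (⟨a, ha⟩ : S)
      (show (⟨a, ha⟩ : S) • z = (⟨a, ha⟩ : S) • (0 : G.presheaf.stalk y) by
        rw [smul_zero]; exact hz)
  have hmul : ∀ a b : Γ(X, U), a ∉ P.asIdeal → b ∉ P.asIdeal → a * b ∉ P.asIdeal :=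
    fun a b ha hb h => (P.isPrime.mem_or_mem h).elim ha hb
  constructor
  · intro hb
    constructor
    · rw [Module.notMem_support_iff']
      rintro ⟨k, hk⟩
      rw [LinearMap.mem_ker] at hk
      have h0 : StalkLocH8.germLin F hy k = 0 := by
        apply hb.1
        rw [map_zero]
        have := hψg k
        rw [hk, map_zero] at this
        exact this
      rw [IsLocalizedModule.eq_zero_iff S] at h0
      obtain ⟨c, hc⟩ := h0
      have hc' : (c : Γ(X, U)) • k = 0 := hc
      exact ⟨c, c.2, Subtype.ext hc'⟩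
    · rw [Module.notMem_support_iff']
      intro q
      obtain ⟨n, rfl⟩ := Submodule.Quotient.mk_surjective _ q
      obtain ⟨y', hy'⟩ := hb.2 (StalkLocH8.germLin G hy n)
      obtain ⟨⟨m, s⟩, hms⟩ := IsLocalizedModule.surj S (StalkLocH8.germLin F hy) y'
      have hms' : (s : Γ(X, U)) • y' = StalkLocH8.germLin F hy m := hms
      have e1 : StalkLocH8.germLin G hy ((s : Γ(X, U)) • n) =
          StalkLocH8.germLin G hy (fL m) := by
        rw [map_smul, ← hy', ← hψg, ← hms']
        exact (hψA s y').symm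
      obtain ⟨c, hc⟩ := IsLocalizedModule.exists_of_eq (S := S) (f := StalkLocH8.germLin G hy) e1
      have hc' : (c : Γ(X, U)) • ((s : Γ(X, U)) • n) = (c : Γ(X, U)) • fL m := hc
      refine ⟨(c : Γ(X, U)) * (s : Γ(X, U)), hmul _ _ c.2 s.2, ?_⟩
      rw [← Submodule.Quotient.mk_smul, Submodule.Quotient.mk_eq_zero]
      refine ⟨(c : Γ(X, U)) • m, ?_⟩
      rw [map_smul, mul_smul]
      exact hc'.symm
  · rintro ⟨hK, hC⟩
    rw [Module.notMem_support_iff'] at hK hC
    constructor
    · rw [injective_iff_map_eq_zero]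
      intro y' hy'
      obtain ⟨⟨m, s⟩, hms⟩ := IsLocalizedModule.surj S (StalkLocH8.germLin F hy) y'
      have hms' : (s : Γ(X, U)) • y' = StalkLocH8.germLin F hy m := hms
      have e1 : StalkLocH8.germLin G hy (fL m) = 0 := by
        rw [← hψg, ← hms']
        have := hψA s y'
        rw [hy', smul_zero] at this
        exact this
      rw [IsLocalizedModule.eq_zero_iff S] at e1
      obtain ⟨c, hc⟩ := e1
      have hc' : (c : Γ(X, U)) • fL m = 0 := hc
      have hmem : (c : Γ(X, U)) • m ∈ LinearMap.ker fL := by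
        rw [LinearMap.mem_ker, map_smul]
        exact hc'
      obtain ⟨r, hr, hrk⟩ := hK ⟨(c : Γ(X, U)) • m, hmem⟩
      have hrk' : r • ((c : Γ(X, U)) • m) = 0 := congrArg Subtype.val hrk
      have e2 : StalkLocH8.germLin F hy m = 0 := by
        apply hinjF (r * (c : Γ(X, U))) (hmul _ _ hr c.2)
        rw [← map_smul, mul_smul, hrk', map_zero]
      rw [e2] at hms'
      exact hinjF s s.2 y' hms'
    · intro z
      obtain ⟨⟨n, s⟩, hns⟩ := IsLocalizedModule.surj S (StalkLocH8.germLin G hy) z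
      have hns' : (s : Γ(X, U)) • z = StalkLocH8.germLin G hy n := hns
      obtain ⟨r, hr, hrq⟩ := hC (Submodule.Quotient.mk n)
      rw [← Submodule.Quotient.mk_smul, Submodule.Quotient.mk_eq_zero] at hrq
      obtain ⟨m, hm⟩ := hrq
      have hrs : r * (s : Γ(X, U)) ∉ P.asIdeal := hmul _ _ hr s.2
      set w := IsLocalizedModule.mk' (StalkLocH8.germLin F hy) m (⟨r * (s : Γ(X, U)), hrs⟩ : S)
        with hw
      have hw' : (r * (s : Γ(X, U))) • w = StalkLocH8.germLin F hy m :=
        IsLocalizedModule.mk'_cancel' (StalkLocH8.germLin F hy) m (⟨r * (s : Γ(X, U)), hrs⟩ : S)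
      refine ⟨w, ?_⟩
      have e3 : (r * (s : Γ(X, U))) • (ψ w - z) = 0 := by
        rw [smul_sub, ← hψA, hw', hψg, hm, map_smul, mul_smul, hns', sub_self]
      exact sub_eq_zero.mp (hinjG _ hrs _ e3)

/-- the bijectivity locus is open, given finiteness of kernel and target on affine opens -/
theorem isOpen_bijLocus
    (hK : ∀ U : X.affineOpens, Module.Finite Γ(X, U.1) (LinearMap.ker (secLin φ U.1)))
    (hC : ∀ U : X.affineOpens, Module.Finite Γ(X, U.1) Γ(G, U.1)) :
    IsOpen {x : X | Function.Bijective (RefHull.stalkMapₗ φ x)} := by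
  rw [isOpen_iff_forall_mem_open]
  intro x hx
  obtain ⟨_, ⟨U, hU : IsAffineOpen U, rfl⟩, hxU, -⟩ :=
    (X.isBasis_affineOpens).exists_subset_of_mem_open (Set.mem_univ x) isOpen_univ
  have hx' : x ∈ U := hxU
  haveI := hK ⟨U, hU⟩
  haveI := hC ⟨U, hU⟩
  have hZ : IsClosed (Module.support Γ(X, U) (LinearMap.ker (secLin φ U)) ∪
      Module.support Γ(X, U) (Γ(G, U) ⧸ LinearMap.range (secLin φ U))) :=
    Module.isClosed_support.union Module.isClosed_support
  have hxZ : hU.primeIdealOf ⟨x, hx'⟩ ∈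
      (⟨_, hZ.isOpen_compl⟩ : Opens (PrimeSpectrum Γ(X, U))) := by
    have := (bijective_stalk_iff φ hU hx').mp hx
    show hU.primeIdealOf ⟨x, hx'⟩ ∉ _ ∪ _
    rw [Set.mem_union, not_or]
    exact this
  obtain ⟨_, ⟨g, rfl⟩, hxg, hgZ⟩ :=
    (Opens.isBasis_iff_nbhd.mp PrimeSpectrum.isBasis_basic_opens) hxZ
  refine ⟨X.basicOpen g, ?_, (X.basicOpen g).isOpen,
    FLFH8.mem_basicOpen_of_notMem_prime hU hx' hxg⟩
  intro y hy
  have hyU : y ∈ U := X.basicOpen_le g hy
  have hgy := StalkLocH8.notMem_prime_of_mem_basicOpen hU hyU hy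
  have h1 : hU.primeIdealOf ⟨y, hyU⟩ ∈
      (⟨_, hZ.isOpen_compl⟩ : Opens (PrimeSpectrum Γ(X, U))) := hgZ hgy
  have h2 : hU.primeIdealOf ⟨y, hyU⟩ ∉ _ ∪ _ := h1
  rw [Set.mem_union, not_or] at h2
  exact (bijective_stalk_iff φ hU hyU).mpr h2

end Groth.Agent.IsoLocus
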