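import Groth.Agent.Lib.IsocMult_helper3

/-!
# The Dieudonné–Manin classification over an algebraically closed field (helper3)
-/

set_option autoImplicit false
set_option linter.unusedSectionVars false
set_option linter.style.haveILetI false

noncomputable section

open scoped Pointwise Isocrystal

universe u v

namespace Groth.Agent.Lib.IsocClass_helper3

open Isoc Groth.Agent.Lib.Isoc_helper3 Groth.Agent.Lib.IsocIsocl_helper3
  Groth.Agent.Lib.IsocUniq_helper3 Groth.Agent.Lib.IsocSlopePart_helper3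
  Groth.Agent.Lib.IsocStd_helper3 Groth.Agent.Lib.IsocDecomp_helper3
  Groth.Agent.Lib.IsocCompl_helper3 Groth.Agent.Lib.IsocMult_helper3

variable {p : ℕ} [Fact p.Prime] {k : Type u} [Field k] [CharP k p] [PerfectRing k p]

/-- `(N, F)` is a finite direct sum of standard isocrystals `N_{d/h}` with `gcd(d, h) = 1`. -/
def HasStdDecomp {N : Type v} [AddCommGroup N] [Module K(p, k) N] {τ : K(p, k) →+* K(p, k)}
    (F : N →ₛₗ[τ] N) : Prop :=
  ∃ (ι : Type) (_ : Fintype ι) (d : ι → ℤ) (h : ι → ℕ)
    (e : N ≃ₗ[K(p, k)] ((i : ι) → (Fin (h i) → K(p, k)))),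
    (∀ i, 0 < h i ∧ Int.gcd (d i) (h i) = 1) ∧
      ∀ x i, e (F x) i = stdIsoc τ (d i) (h i) (e x i)

theorem hasStdDecomp [IsAlgClosed k] (a : ℤ) (ha : a ≠ 0) :
    ∀ (n : ℕ) (N : Type v) [AddCommGroup N] [Module (WittVector p k) N] [Module K(p, k) N]
      [IsScalarTower (WittVector p k) K(p, k) N] [FiniteDimensional K(p, k) N]
      (F : N →ₛₗ[frob p k a] N), Function.Bijective F → Module.finrank K(p, k) N = n →
      HasStdDecomp F := by
  intro n
  induction n using Nat.strong_induction_on with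
  | _ n ih =>
    intro N _ _ _ _ _ F hF hn
    have hτ : Good (frob p k a) := good_frob a
    by_cases hN : Subsingleton N
    · refine ⟨Empty, inferInstance, fun i => i.elim, fun i => i.elim,
        LinearEquiv.ofSubsingleton _ _, fun i => i.elim, fun _ i => i.elim⟩
    · rw [not_subsingleton_iff_nontrivial] at hN
      obtain ⟨Q, d₀, h₀, hQ, -⟩ := exists_std_disjoint a ha F hF ⊥
        (fun x hx => by
          rw [Submodule.mem_bot] at hx ⊢
          rw [hx, map_zero]) bot_ne_top
      obtain ⟨Q', hQ', hc⟩ := exists_stable_isCompl a ha F hF Q hQ.stable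
      have hlt : Module.finrank K(p, k) Q' < n := by
        have h1 := Submodule.finrank_add_eq_of_isCompl hc
        have h2 : 1 ≤ Module.finrank K(p, k) Q := Submodule.one_le_finrank_iff.mpr hQ.ne_bot
        omega
      obtain ⟨ι', _, d', h', e', hdh', he'⟩ := ih _ hlt ↥Q' (F.restrict hQ')
        (restrict_bijective F hτ hF.1 Q' hQ') rfl
      obtain ⟨g, hginj, hg, hgr⟩ := hQ.ex
      let eQ : (Fin h₀ → K(p, k)) ≃ₗ[K(p, k)] ↥Q :=
        (LinearEquiv.ofInjective g hginj).trans (LinearEquiv.ofEq _ _ hgr)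
      have heQ : ∀ v, (eQ v : N) = g v := fun v => rfl
      let D : Option ι' → ℤ := fun o => o.elim d₀ d'
      let H : Option ι' → ℕ := fun o => o.elim h₀ h'
      let e₁ : N ≃ₗ[K(p, k)] (↥Q × ↥Q') := (Submodule.prodEquivOfIsCompl Q Q' hc).symm
      let e₂ : (↥Q × ↥Q') ≃ₗ[K(p, k)]
          ((Fin (H none) → K(p, k)) × ((i : ι') → (Fin (H (some i)) → K(p, k)))) :=
        eQ.symm.prodCongr e'
      let e₃ : ((Fin (H none) → K(p, k)) × ((i : ι') → (Fin (H (some i)) → K(p, k)))) ≃ₗ[K(p, k)]
          ((o : Option ι') → (Fin (H o) → K(p, k))) :=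
        (LinearEquiv.piOptionEquivProd K(p, k) (M := fun o => Fin (H o) → K(p, k))).symm
      refine ⟨Option ι', inferInstance, D, H, (e₁.trans e₂).trans e₃, ?_, ?_⟩
      · rintro (_ | i)
        · exact ⟨hQ.pos, hQ.cop⟩
        · exact hdh' i
      · intro x o
        obtain ⟨⟨q, q'⟩, rfl⟩ := (Submodule.prodEquivOfIsCompl Q Q' hc).surjective x
        have hFx : F (Submodule.prodEquivOfIsCompl Q Q' hc (q, q')) =
            Submodule.prodEquivOfIsCompl Q Q' hc
              (⟨F q.1, hQ.stable _ q.2⟩, ⟨F q'.1, hQ' _ q'.2⟩) := by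
          rw [Submodule.coe_prodEquivOfIsCompl', Submodule.coe_prodEquivOfIsCompl', map_add]
        have hx1 : e₁ (Submodule.prodEquivOfIsCompl Q Q' hc (q, q')) = (q, q') :=
          LinearEquiv.symm_apply_apply _ _
        have hx2 : e₁ (F (Submodule.prodEquivOfIsCompl Q Q' hc (q, q'))) =
            (⟨F q.1, hQ.stable _ q.2⟩, ⟨F q'.1, hQ' _ q'.2⟩) := by
          rw [hFx]; exact LinearEquiv.symm_apply_apply _ _
        cases o with
        | none =>
          show eQ.symm (e₁ (F (Submodule.prodEquivOfIsCompl Q Q' hc (q, q')))).1 =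
            stdIsoc (frob p k a) d₀ h₀
              (eQ.symm (e₁ (Submodule.prodEquivOfIsCompl Q Q' hc (q, q'))).1)
          rw [hx1, hx2]
          apply eQ.injective
          rw [LinearEquiv.apply_symm_apply]
          apply Subtype.ext
          rw [heQ, hg, ← heQ, LinearEquiv.apply_symm_apply]
        | some i =>
          show e' (e₁ (F (Submodule.prodEquivOfIsCompl Q Q' hc (q, q')))).2 i =
            stdIsoc (frob p k a) (d' i) (h' i)
              (e' (e₁ (Submodule.prodEquivOfIsCompl Q Q' hc (q, q'))).2 i)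
          rw [hx1, hx2]
          exact he' q' i

/-- **Dieudonné–Manin**: the classification of isocrystals over an algebraically closed field. -/
theorem classification [IsAlgClosed k] (a : ℤ) (ha : a ≠ 0)
    (N : Type v) [AddCommGroup N] [Module (WittVector p k) N] [Module K(p, k) N]
    [IsScalarTower (WittVector p k) K(p, k) N]
    (F : N →ₛₗ[frob p k a] N) (hF : IsIsoc F) :
    ∃ (t : ℕ) (d : Fin t → ℤ) (h : Fin t → ℕ)
      (e : N ≃ₗ[K(p, k)] ((i : Fin t) → (Fin (h i) → K(p, k)))),
      (∀ i, 0 < h i ∧ Int.gcd (d i) (h i) = 1) ∧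
      (∀ (x : N) (i : Fin t), e (F x) i = stdIsoc (frob p k a) (d i) (h i) (e x i)) ∧
      ∀ μ : ℚ, newtonMult F μ =
        ∑ i : Fin t, (if ((d i : ℚ) / (h i : ℚ)) = μ then h i else 0) := by
  haveI := hF.finite
  obtain ⟨ι, _, d, h, e, hdh, he⟩ := hasStdDecomp a ha _ N F hF.bijective rfl
  let ε := Fintype.equivFin ι
  refine ⟨Fintype.card ι, fun j => d (ε.symm j), fun j => h (ε.symm j),
    e.trans (LinearEquiv.piCongrLeft' K(p, k) (fun i => Fin (h i) → K(p, k)) ε),
    fun j => hdh _, fun x j => he x _, fun μ => ?_⟩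
  exact newtonMult_eq_sum F (good_frob a) (ι := Fin (Fintype.card ι)) (fun j => d (ε.symm j))
    (fun j => h (ε.symm j))
    (e.trans (LinearEquiv.piCongrLeft' K(p, k) (fun i => Fin (h i) → K(p, k)) ε))
    (fun j => (hdh _).1) (fun x j => he x _) μ

end Groth.Agent.Lib.IsocClass_helper3
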