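import Groth.Agent.Lib.IsocSS_helper3

/-!
# Standard simple sub-isocrystals and stable complements (helper3)
-/

set_option autoImplicit false
set_option linter.unusedSectionVars false
set_option linter.style.haveILetI false

noncomputable section

open scoped Pointwise Isocrystal

universe u v

namespace Groth.Agent.Lib.IsocCompl_helper3

open Isoc Groth.Agent.Lib.Isoc_helper3 Groth.Agent.Lib.IsocMat_helper3
  Groth.Agent.Lib.IsocOrd_helper3 Groth.Agent.Lib.IsocSlope_helper3 Groth.Agent.Lib.IsocEff_helper3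
  Groth.Agent.Lib.IsocEff2_helper3 Groth.Agent.Lib.IsocRat_helper3 Groth.Agent.Lib.IsocRat2_helper3
  Groth.Agent.Lib.IsocIsocl_helper3 Groth.Agent.Lib.IsocSub_helper3 Groth.Agent.Lib.IsocUniq_helper3
  Groth.Agent.Lib.IsocSlopePart_helper3 Groth.Agent.Lib.IsocStd_helper3
  Groth.Agent.Lib.IsocDecomp_helper3 Groth.Agent.Lib.IsocLiftApp_helper3
  Groth.Agent.Lib.IsocSS_helper3

variable {p : ℕ} [Fact p.Prime] {k : Type u} [Field k] [CharP k p] [PerfectRing k p]
variable {N : Type v} [AddCommGroup N] [Module (WittVector p k) N] [Module K(p, k) N]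
  [IsScalarTower (WittVector p k) K(p, k) N]

section Std

variable {τ : K(p, k) →+* K(p, k)}

/-- `v ↦ ∑ v i • F^i x`. -/
def stdMap (F : N →ₛₗ[τ] N) (h : ℕ) (x : N) : (Fin h → K(p, k)) →ₗ[K(p, k)] N :=
  Fintype.linearCombination K(p, k) (fun i : Fin h => (⇑F)^[(i : ℕ)] x)

lemma stdMap_apply (F : N →ₛₗ[τ] N) (h : ℕ) (x : N) (v : Fin h → K(p, k)) :
    stdMap F h x v = ∑ i, v i • (⇑F)^[(i : ℕ)] x :=
  Fintype.linearCombination_apply _ _ _

lemma stdMap_single (F : N →ₛₗ[τ] N) (h : ℕ) (x : N) (i : Fin h) :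
    stdMap F h x (Pi.single i 1) = (⇑F)^[(i : ℕ)] x := by
  classical
  rw [stdMap, Fintype.linearCombination_apply_single, one_smul]

lemma stdMap_equivariant (F : N →ₛₗ[τ] N) (d : ℤ) (h : ℕ) (x : N)
    (hx : (⇑F)^[h] x = (p : K(p, k)) ^ d • x) (v : Fin h → K(p, k)) :
    stdMap F h x (stdIsoc τ d h v) = F (stdMap F h x v) := by
  rcases h with _ | n
  · simp [stdMap_apply]
  rw [stdMap_apply, stdMap_apply, map_sum, ← Equiv.sum_comp (finRotate (n + 1))]
  apply Finset.sum_congr rfl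
  intro j _
  rw [map_smulₛₗ, stdIsoc_apply, Equiv.symm_apply_apply, ← Function.iterate_succ_apply' (⇑F)]
  by_cases hj : j = Fin.last n
  · subst hj
    rw [finRotate_last]
    simp only [Fin.val_zero, if_true, Function.iterate_zero, id, Fin.val_last]
    rw [hx, smul_smul, mul_comm]
  · have h1 := coe_finRotate_of_ne_last hj
    have h2 : ((finRotate (n + 1)) j : ℕ) ≠ 0 := by omega
    rw [if_neg h2, one_mul, h1]

/-- `Q` is the image of an equivariant embedding of the standard isocrystal `N_{d/h}`,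
`gcd(d,h) = 1`. -/
structure IsStdSub (F : N →ₛₗ[τ] N) (Q : Submodule K(p, k) N) (d : ℤ) (h : ℕ) : Prop where
  pos : 0 < h
  cop : Int.gcd d h = 1
  ex : ∃ g : (Fin h → K(p, k)) →ₗ[K(p, k)] N, Function.Injective g ∧
    (∀ v, g (stdIsoc τ d h v) = F (g v)) ∧ LinearMap.range g = Q

lemma IsStdSub.stable {F : N →ₛₗ[τ] N} {Q : Submodule K(p, k) N} {d : ℤ} {h : ℕ}
    (hQ : IsStdSub F Q d h) : ∀ x ∈ Q, F x ∈ Q := by
  obtain ⟨g, -, hg, rfl⟩ := hQ.ex
  rintro _ ⟨v, rfl⟩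
  exact ⟨stdIsoc τ d h v, hg v⟩

lemma IsStdSub.ne_bot {F : N →ₛₗ[τ] N} {Q : Submodule K(p, k) N} {d : ℤ} {h : ℕ}
    (hQ : IsStdSub F Q d h) : Q ≠ ⊥ := by
  have hpos := hQ.pos
  obtain ⟨g, hinj, -, rfl⟩ := hQ.ex
  intro hbot
  classical
  have h1 : g (Pi.single ⟨0, hpos⟩ 1) = 0 := by
    have : g (Pi.single ⟨0, hpos⟩ 1) ∈ LinearMap.range g := ⟨_, rfl⟩
    rw [hbot, Submodule.mem_bot] at this
    exact this
  have h2 := hinj (h1.trans (map_zero g).symm)
  have h3 := congrFun h2 ⟨0, hpos⟩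
  simp at h3

lemma IsStdSub.simple {F : N →ₛₗ[τ] N} (hτ : Good τ) {Q : Submodule K(p, k) N} {d : ℤ} {h : ℕ}
    (hQ : IsStdSub F Q d h) (R : Submodule K(p, k) N) (hRQ : R ≤ Q) (hR : ∀ x ∈ R, F x ∈ R) :
    R = ⊥ ∨ R = Q := by
  obtain ⟨g, hinj, hg, rfl⟩ := hQ.ex
  have hK : ∀ v ∈ R.comap g, stdIsoc τ d h v ∈ R.comap g := by
    intro v hv
    rw [Submodule.mem_comap] at hv ⊢
    rw [hg]; exact hR _ hv
  have hmap : (R.comap g).map g = R := Submodule.map_comap_eq_of_le hRQ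
  rcases stdIsoc_simple hτ d h hQ.pos hQ.cop (R.comap g) hK with h0 | h1
  · left; rw [← hmap, h0, Submodule.map_bot]
  · right; rw [← hmap, h1, Submodule.map_top]

lemma IsStdSub.isIsoclinicIn {F : N →ₛₗ[τ] N} (hτ : Good τ) {Q : Submodule K(p, k) N} {d : ℤ}
    {h : ℕ} (hQ : IsStdSub F Q d h) : IsIsoclinicIn F Q ((d : ℚ) / h) := by
  obtain ⟨g, -, hg, rfl⟩ := hQ.ex
  have := ((isIsoclinic_iff_top _ _).mp (stdIsoc_isIsoclinic hτ d hQ.pos)).map' hτ g hg
  rwa [Submodule.map_top] at this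

lemma isStdSub_range_stdMap (F : N →ₛₗ[τ] N) (hτ : Good τ) (d : ℤ)
    (h : ℕ) (hh : 0 < h) (hcop : Int.gcd d h = 1) (x : N) (hx0 : x ≠ 0)
    (hx : (⇑F)^[h] x = (p : K(p, k)) ^ d • x) :
    IsStdSub F (LinearMap.range (stdMap F h x)) d h := by
  refine ⟨hh, hcop, stdMap F h x, ?_, stdMap_equivariant F d h x hx, rfl⟩
  rw [← LinearMap.ker_eq_bot]
  have hK : ∀ v ∈ LinearMap.ker (stdMap F h x), stdIsoc τ d h v ∈ LinearMap.ker (stdMap F h x) := by
    intro v hv
    rw [LinearMap.mem_ker] at hv ⊢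
    rw [stdMap_equivariant F d h x hx, hv, map_zero]
  rcases stdIsoc_simple hτ d h hh hcop _ hK with h0 | h1
  · exact h0
  · exfalso
    apply hx0
    have : (Pi.single ⟨0, hh⟩ 1 : Fin h → K(p, k)) ∈ LinearMap.ker (stdMap F h x) := by
      rw [h1]; trivial
    rw [LinearMap.mem_ker, stdMap_single] at this
    exact this

lemma mem_range_stdMap (F : N →ₛₗ[τ] N) (h : ℕ) (hh : 0 < h) (x : N) :
    x ∈ LinearMap.range (stdMap F h x) :=
  ⟨Pi.single ⟨0, hh⟩ 1, by rw [stdMap_single]; rfl⟩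

end Std

/-! ### Every proper stable subspace misses a standard simple subspace -/

theorem exists_std_disjoint [IsAlgClosed k] [FiniteDimensional K(p, k) N] (a : ℤ) (ha : a ≠ 0)
    (F : N →ₛₗ[frob p k a] N) (hF : Function.Bijective F) (R : Submodule K(p, k) N)
    (hR : ∀ x ∈ R, F x ∈ R) (hne : R ≠ ⊤) :
    ∃ (Q : Submodule K(p, k) N) (d : ℤ) (h : ℕ), IsStdSub F Q d h ∧ Disjoint Q R := by
  have hτ : Good (frob p k a) := good_frob a
  -- some slope part is not contained in `R`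
  obtain ⟨μ, hμ⟩ : ∃ μ : ℚ, ¬ slopePart F μ ≤ R := by
    by_contra hall
    push Not at hall
    apply hne
    rw [eq_top_iff, ← iSup_slopePart_eq_top F hτ hF]
    exact iSup_le hall
  set P := slopePart F μ with hPdef
  have hP : ∀ x ∈ P, F x ∈ P := slopePart_stable F hτ μ
  have hPiso : IsIsoclinicIn F P μ := slopePart_isIsoclinicIn F hτ μ
  have hμeq : ((μ.num : ℤ) : ℚ) / (μ.den : ℚ) = μ := Rat.num_div_den μ
  have hcop : Int.gcd μ.num μ.den = 1 := by
    have := μ.reduced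
    rw [Nat.Coprime] at this
    rw [Int.gcd, Int.natAbs_natCast]
    exact this
  rw [← hμeq] at hPiso
  have hspan := le_span_fixed a ha F hF P hP μ.num μ.den μ.den_pos hPiso
  -- a fixed vector outside `R`
  obtain ⟨x, hxP, hxfix, hxR⟩ : ∃ x, x ∈ P ∧ (⇑F)^[μ.den] x = (p : K(p, k)) ^ μ.num • x ∧ x ∉ R := by
    by_contra hall
    push Not at hall
    apply hμ
    refine hspan.trans ?_
    rw [Submodule.span_le]
    rintro x ⟨hxP, hxfix⟩
    exact hall x hxP hxfix
  have hx0 : x ≠ 0 := by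
    rintro rfl
    exact hxR R.zero_mem
  have hstd := isStdSub_range_stdMap F hτ μ.num μ.den μ.den_pos hcop x hx0 hxfix
  refine ⟨_, μ.num, μ.den, hstd, ?_⟩
  rw [disjoint_iff]
  have hst : ∀ y ∈ LinearMap.range (stdMap F μ.den x) ⊓ R,
      F y ∈ LinearMap.range (stdMap F μ.den x) ⊓ R := by
    rintro y ⟨hy1, hy2⟩
    exact ⟨hstd.stable y hy1, hR y hy2⟩
  rcases hstd.simple hτ _ inf_le_left hst with h0 | h1
  · exact h0
  · exfalso
    apply hxR
    have : x ∈ LinearMap.range (stdMap F μ.den x) ⊓ R := by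
      rw [h1]; exact mem_range_stdMap F μ.den μ.den_pos x
    exact this.2

/-- **Semisimplicity**: every stable subspace of an isocrystal over an algebraically closed field
(with non-trivial twist) has a stable complement. -/
theorem exists_stable_isCompl [IsAlgClosed k] [FiniteDimensional K(p, k) N] (a : ℤ) (ha : a ≠ 0)
    (F : N →ₛₗ[frob p k a] N) (hF : Function.Bijective F) (P : Submodule K(p, k) N)
    (hP : ∀ x ∈ P, F x ∈ P) :
    ∃ Q : Submodule K(p, k) N, (∀ x ∈ Q, F x ∈ Q) ∧ IsCompl P Q := by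
  have key : ∀ Q : Submodule K(p, k) N, (∀ x ∈ Q, F x ∈ Q) → Disjoint P Q →
      ∃ Q' : Submodule K(p, k) N, (∀ x ∈ Q', F x ∈ Q') ∧ IsCompl P Q' := by
    intro Q
    refine WellFoundedGT.induction (motive := fun Q : Submodule K(p, k) N =>
      (∀ x ∈ Q, F x ∈ Q) → Disjoint P Q →
      ∃ Q' : Submodule K(p, k) N, (∀ x ∈ Q', F x ∈ Q') ∧ IsCompl P Q') Q ?_
    intro Q ih hQ hdis
    by_cases htop : P ⊔ Q = ⊤
    · exact ⟨Q, hQ, ⟨hdis, codisjoint_iff.mpr htop⟩⟩
    · obtain ⟨S, d, h, hS, hSdis⟩ :=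
        exists_std_disjoint a ha F hF (P ⊔ Q) (stable_sup F hP hQ) htop
      have hlt : Q < Q ⊔ S := by
        refine lt_of_le_of_ne le_sup_left ?_
        intro heq
        have hSQ : S ≤ P ⊔ Q := by
          have : S ≤ Q := by rw [heq]; exact le_sup_right
          exact this.trans le_sup_right
        exact hS.ne_bot (hSdis.eq_bot_of_le hSQ)
      refine ih (Q ⊔ S) hlt (stable_sup F hQ hS.stable) ?_
      exact hdis.disjoint_sup_right_of_disjoint_sup_left hSdis.symm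
  exact key ⊥ (fun x hx => by
    rw [Submodule.mem_bot] at hx ⊢
    rw [hx, map_zero]) disjoint_bot_right

end Groth.Agent.Lib.IsocCompl_helper3
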