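import Groth.Agent.Lib.IsocFit_helper3

/-!
# Helper library for the `Isoc` statements (helper3): the slope decomposition
-/

set_option autoImplicit false
set_option linter.unusedSectionVars false

noncomputable section

open scoped Pointwise Isocrystal
open Filter Topology

universe u v w

namespace Groth.Agent.Lib.IsocDecomp_helper3

open Isoc Groth.Agent.Lib.Isoc_helper3 Groth.Agent.Lib.IsocMat_helper3
  Groth.Agent.Lib.IsocOrd_helper3 Groth.Agent.Lib.IsocSlope_helper3 Groth.Agent.Lib.IsocEff_helper3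
  Groth.Agent.Lib.IsocEff2_helper3 Groth.Agent.Lib.IsocRat_helper3 Groth.Agent.Lib.IsocRat2_helper3
  Groth.Agent.Lib.IsocIsocl_helper3 Groth.Agent.Lib.IsocSub_helper3 Groth.Agent.Lib.IsocUniq_helper3
  Groth.Agent.Lib.IsocSlopePart_helper3 Groth.Agent.Lib.IsocFit_helper3

variable {p : ℕ} [Fact p.Prime] {k : Type u} [Field k] [CharP k p] [PerfectRing k p]
variable {N : Type v} [AddCommGroup N] [Module (WittVector p k) N] [Module K(p, k) N]
  [IsScalarTower (WittVector p k) K(p, k) N]
variable {τ : K(p, k) →+* K(p, k)} {h : ℕ}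

/-- the `W`-span of a basis is a lattice. -/
lemma exists_isLattice (b : Module.Basis (Fin h) K(p, k) N) :
    ∃ M : Submodule (WittVector p k) N, M.IsLattice K(p, k) :=
  ⟨Submodule.span (WittVector p k) (Set.range b), Submodule.fg_span (Set.finite_range b), by
    rw [eq_top_iff, ← b.span_eq]; exact Submodule.span_mono Submodule.subset_span⟩

lemma iterate_smul_W (Φ : N →ₛₗ[τ] N) (hτ : Good τ) (n : ℕ) (w : WittVector p k) (x : N) :
    ∃ w' : WittVector p k, (⇑Φ)^[n] (w • x) = w' • (⇑Φ)^[n] x := by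
  obtain ⟨w', hw'⟩ := (hτ.pow n).map_W w
  refine ⟨w', ?_⟩
  rw [← iter_apply, ← IsScalarTower.algebraMap_smul K(p, k) w x, map_smulₛₗ, hw',
    IsScalarTower.algebraMap_smul, iter_apply]

/-- a nonzero isocrystal is the sum of a stable isoclinic subspace and a proper stable
subspace. -/
theorem exists_split (b : Module.Basis (Fin h) K(p, k) N) (hh : 0 < h) (F : N →ₛₗ[τ] N)
    (hτ : Good τ) (hF : Function.Bijective F) :
    ∃ (N₀ N₁ : Submodule K(p, k) N) (μ : ℚ), (∀ x ∈ N₀, F x ∈ N₀) ∧ (∀ x ∈ N₁, F x ∈ N₁) ∧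
      N₀ ⊔ N₁ = ⊤ ∧ IsIsoclinicIn F N₀ μ ∧ N₁ ≠ ⊤ := by
  obtain ⟨M₀, hM₀⟩ := exists_isLattice b
  obtain ⟨o, ho, lam, hlam⟩ := exists_ord_seq_tendsto b hh F hτ hF hM₀
  have hslope : IsFirstSlope F lam := ⟨M₀, hM₀, o, fun n _ => ho n, hlam⟩
  obtain ⟨d, hd⟩ := exists_isOrdP_detCoeff b F hF.2
  obtain ⟨r, s, M, hs, -, hlamrs, hM, hord, -⟩ := exists_rational_slope b F hτ hF hd hslope
  have hτs := hτ.pow s
  have hΦbij : Function.Bijective ((p : K(p, k)) ^ (-r) • iter F s) := smul_iter_bijective hF (-r) s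
  have hΦM : latImg ((p : K(p, k)) ^ (-r) • iter F s) 1 M ≤ M := by
    rw [latImg_smul_iter F hτ]
    simp only [Nat.cast_one, mul_one]
    calc pPow (-r) (latImg F s M) ≤ pPow (-r) (pPow r M) := pPow_mono _ hord.1
      _ = M := by rw [pPow_pPow, neg_add_cancel, pPow_zero]
  have hΦslope : IsFirstSlope ((p : K(p, k)) ^ (-r) • iter F s) 0 := by
    have := isFirstSlope_smul_iter F hτ hslope (-r) s
    convert this using 1
    have hs' : (s : ℝ) ≠ 0 := by exact_mod_cast hs.ne'
    rw [hlamrs]; push_cast; field_simp; ring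
  have hcomm : ∀ x, F (((p : K(p, k)) ^ (-r) • iter F s) x) =
      ((p : K(p, k)) ^ (-r) • iter F s) (F x) := by
    intro x
    simp only [LinearMap.smul_apply, iter_apply]
    rw [map_zpow_smul, ← Function.iterate_succ_apply' (⇑F), Function.iterate_succ_apply]
  refine ⟨Submodule.span K(p, k) (unitLat ((p : K(p, k)) ^ (-r) • iter F s) M : Set N),
    Submodule.span K(p, k) (nilLat ((p : K(p, k)) ^ (-r) • iter F s) hτs M hΦM : Set N),
    (r : ℚ) / s, ?_, ?_, ?_, ?_, ?_⟩
  · exact unit_stable F hτ _ hτs hcomm hM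
  · exact nil_stable F hτ _ hτs hcomm hM hΦM
  · rw [eq_top_iff]
    intro x _
    obtain ⟨m, hm⟩ := exists_natpow_smul_mem hM.span_eq_top x
    obtain ⟨x₀, x₁, hx, hx₀, hx₁M, hx₁⟩ := fitting b _ hτs hΦbij hM hΦM hm
    have h0 : x₀ ∈ Submodule.span K(p, k)
        (unitLat ((p : K(p, k)) ^ (-r) • iter F s) M : Set N) :=
      Submodule.subset_span (mem_unitLat.mpr hx₀)
    have h1 : x₁ ∈ Submodule.span K(p, k)
        (nilLat ((p : K(p, k)) ^ (-r) • iter F s) hτs M hΦM : Set N) :=
      Submodule.subset_span (mem_nilLat.mpr ⟨hx₁M, hx₁⟩)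
    have : x = ((p : K(p, k)) ^ m)⁻¹ • (x₀ + x₁) := by
      rw [← hx, smul_smul, inv_mul_cancel₀ (pow_ne_zero _ p_ne_zero), one_smul]
    rw [this]
    exact Submodule.smul_mem _ _ (Submodule.add_mem _ (Submodule.mem_sup_left h0)
      (Submodule.mem_sup_right h1))
  · refine ⟨unitLat ((p : K(p, k)) ^ (-r) • iter F s) M, hM.fg.of_le (unitLat_le _ hτs M), rfl,
      r, s, hs, rfl, ?_⟩
    have h1 := latImg_unitLat _ hτs hΦbij.1 hΦM
    rw [latImg_smul_iter F hτ] at h1
    simp only [Nat.cast_one, mul_one] at h1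
    calc latImg F s (unitLat ((p : K(p, k)) ^ (-r) • iter F s) M)
        = pPow r (pPow (-r) (latImg F s (unitLat ((p : K(p, k)) ^ (-r) • iter F s) M))) := by
          rw [pPow_pPow, add_neg_cancel, pPow_zero]
      _ = pPow r (unitLat ((p : K(p, k)) ^ (-r) • iter F s) M) := by rw [h1]
  · intro htop
    obtain ⟨S₀, hS₀⟩ := hM.fg
    have hex : ∀ x : N, ∃ n, (⇑((p : K(p, k)) ^ (-r) • iter F s))^[n] x ∈ pPow 1 M := by
      intro x
      have hx : x ∈ Submodule.span K(p, k)
          (nilLat ((p : K(p, k)) ^ (-r) • iter F s) hτs M hΦM : Set N) := by rw [htop]; trivial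
      obtain ⟨m, hm⟩ := exists_natpow_smul_mem_of_mem_span hx
      obtain ⟨-, hm'⟩ := mem_nilLat.mp hm
      obtain ⟨n, hn⟩ := hm' (m + 1)
      refine ⟨n, ?_⟩
      rw [← zpow_natCast, iterate_zpow_smul, mem_pPow_iff, smul_smul] at hn
      rw [mem_pPow_iff]
      convert hn using 2
      rw [← zpow_add₀ p_ne_zero]; congr 1; push_cast; ring
    choose n hn using hex
    have hle : latImg ((p : K(p, k)) ^ (-r) • iter F s) (S₀.sup n + 1) M ≤ pPow 1 M := by
      intro y hy
      obtain ⟨x, hx, rfl⟩ := (mem_latImg _ hτs (S₀.sup n + 1) M y).mp hy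
      clear hy
      rw [← hS₀] at hx
      induction hx using Submodule.span_induction with
      | mem x hx =>
        have hle : n x ≤ S₀.sup n + 1 := (Finset.le_sup (f := n) hx).trans (Nat.le_succ _)
        exact iterate_mem_pPow_of_le _ hτs hΦM hle 1 (hn x)
      | zero => rw [iterate_zero]; exact Submodule.zero_mem _
      | add x y _ _ hx hy => rw [iterate_add']; exact Submodule.add_mem _ hx hy
      | smul w x _ hx =>
        obtain ⟨w', hw'⟩ := iterate_smul_W ((p : K(p, k)) ^ (-r) • iter F s) hτs (S₀.sup n + 1) w x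
        rw [hw']; exact Submodule.smul_mem _ _ hx
    have := div_le_slope_of_latImg_le b _ hτs hΦbij hΦslope hM (Nat.succ_pos _) hle
    have hpos : (0 : ℝ) < ((1 : ℤ) : ℝ) / ((S₀.sup n + 1 : ℕ) : ℝ) := by positivity
    linarith

/-! ### The slope parts span -/

lemma restrict_bijective [FiniteDimensional K(p, k) N] (F : N →ₛₗ[τ] N) (hτ : Good τ)
    (hinj : Function.Injective F) (P : Submodule K(p, k) N) (hP : ∀ x ∈ P, F x ∈ P) :
    Function.Bijective (F.restrict hP) := by
  have hinj' : Function.Injective (F.restrict hP) := by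
    intro x x' hxx
    apply Subtype.ext
    apply hinj
    exact congrArg Subtype.val hxx
  exact ⟨hinj', surjective_of_injective hτ hinj'⟩

theorem le_iSup_slopePart [FiniteDimensional K(p, k) N] (F : N →ₛₗ[τ] N) (hτ : Good τ)
    (hF : Function.Bijective F) :
    ∀ (n : ℕ) (P : Submodule K(p, k) N), Module.finrank K(p, k) P = n → (∀ x ∈ P, F x ∈ P) →
      P ≤ ⨆ μ, slopePart F μ := by
  intro n
  induction n using Nat.strong_induction_on with
  | _ n ih =>
    intro P hPn hP
    by_cases hbot : P = ⊥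
    · rw [hbot]; exact bot_le
    have hnt : Nontrivial P := Submodule.nontrivial_iff_ne_bot.mpr hbot
    have hpos : 0 < Module.finrank K(p, k) P := Module.finrank_pos
    have hbij := restrict_bijective F hτ hF.1 P hP
    obtain ⟨P₀, P₁, μ, hP₀, hP₁, hsup, hiso, hne⟩ :=
      exists_split (Module.finBasis K(p, k) P) hpos (F.restrict hP) hτ hbij
    have hP₀' : ∀ x ∈ P₀.map P.subtype, F x ∈ P₀.map P.subtype := by
      rintro _ ⟨y, hy, rfl⟩
      exact ⟨F.restrict hP y, hP₀ y hy, rfl⟩
    have hP₁' : ∀ x ∈ P₁.map P.subtype, F x ∈ P₁.map P.subtype := by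
      rintro _ ⟨y, hy, rfl⟩
      exact ⟨F.restrict hP y, hP₁ y hy, rfl⟩
    have h0 : P₀.map P.subtype ≤ ⨆ μ, slopePart F μ :=
      (le_slopePart F hτ hP₀' (hiso.map' hτ P.subtype (fun x => rfl))).trans
        (le_iSup (fun μ => slopePart F μ) μ)
    have hlt : Module.finrank K(p, k) (P₁.map P.subtype) < n := by
      rw [← hPn, Submodule.finrank_map_subtype_eq]
      exact Submodule.finrank_lt hne
    have h1 := ih _ hlt (P₁.map P.subtype) rfl hP₁'
    have : P = P₀.map P.subtype ⊔ P₁.map P.subtype := by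
      rw [← Submodule.map_sup, hsup, Submodule.map_subtype_top]
    rw [this]; exact sup_le h0 h1

theorem iSup_slopePart_eq_top [FiniteDimensional K(p, k) N] (F : N →ₛₗ[τ] N) (hτ : Good τ)
    (hF : Function.Bijective F) : ⨆ μ, slopePart F μ = ⊤ :=
  eq_top_iff.mpr (le_iSup_slopePart F hτ hF _ ⊤ rfl (fun _ _ => Submodule.mem_top))

/-! ### The slope parts are independent -/

lemma stable_finset_sup [FiniteDimensional K(p, k) N] (F : N →ₛₗ[τ] N) (hτ : Good τ)
    (s : Finset ℚ) : ∀ x ∈ s.sup (slopePart F), F x ∈ s.sup (slopePart F) := by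
  classical
  induction s using Finset.induction_on with
  | empty =>
    intro x hx
    rw [Finset.sup_empty, Submodule.mem_bot] at hx ⊢
    rw [hx, map_zero]
  | insert ν s _ ih =>
    rw [Finset.sup_insert]
    exact stable_sup F (slopePart_stable F hτ ν) ih

/-- the induced map on the quotient by a stable subspace is bijective. -/
lemma mapQ_bijective [FiniteDimensional K(p, k) N] (F : N →ₛₗ[τ] N) (hτ : Good τ)
    (hF : Function.Bijective F) (Q : Submodule K(p, k) N) (hQ : ∀ x ∈ Q, F x ∈ Q) :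
    Function.Bijective (Q.mapQ Q F (fun x hx => hQ x hx)) := by
  constructor
  · rw [injective_iff_map_eq_zero]
    intro y hy
    obtain ⟨x, rfl⟩ := Submodule.mkQ_surjective Q y
    rw [Submodule.mkQ_apply, Submodule.mapQ_apply, Submodule.Quotient.mk_eq_zero] at hy
    rw [Submodule.mkQ_apply, Submodule.Quotient.mk_eq_zero]
    exact mem_of_map_mem hτ hF.1 Q hQ hy
  · intro y
    obtain ⟨x, rfl⟩ := Submodule.mkQ_surjective Q y
    obtain ⟨x', rfl⟩ := hF.2 x
    exact ⟨Q.mkQ x', by rw [Submodule.mkQ_apply, Submodule.mapQ_apply]; rfl⟩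

/-- an isoclinic stable subspace of slope `μ` inside a sum of slope parts of other slopes is
zero. -/
lemma eq_bot_of_le_finset_sup [FiniteDimensional K(p, k) N] (F : N →ₛₗ[τ] N) (hτ : Good τ)
    (hF : Function.Bijective F) (s : Finset ℚ) :
    ∀ (P : Submodule K(p, k) N) (μ : ℚ), μ ∉ s → (∀ x ∈ P, F x ∈ P) → IsIsoclinicIn F P μ →
      P ≤ s.sup (slopePart F) → P = ⊥ := by
  classical
  induction s using Finset.induction_on with
  | empty =>
    intro P μ _ _ _ hle
    rwa [Finset.sup_empty, le_bot_iff] at hle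
  | insert ν s hν ih =>
    intro P μ hμ hP hiso hle
    have hμν : μ ≠ ν := fun h => hμ (h ▸ Finset.mem_insert_self _ _)
    have hμs : μ ∉ s := fun h => hμ (Finset.mem_insert_of_mem h)
    rw [Finset.sup_insert] at hle
    have hQ := stable_finset_sup F hτ s
    have hbij := mapQ_bijective F hτ hF _ hQ
    have hequiv : ∀ x, (s.sup (slopePart F)).mkQ (F x) =
        ((s.sup (slopePart F)).mapQ (s.sup (slopePart F)) F (fun x hx => hQ x hx))
          ((s.sup (slopePart F)).mkQ x) := fun x => (Submodule.mapQ_apply _ _ F x).symm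
    have h1 := hiso.map' hτ (s.sup (slopePart F)).mkQ hequiv
    have h2 := (slopePart_isIsoclinicIn F hτ ν).map' hτ (s.sup (slopePart F)).mkQ hequiv
    have hle' : P.map (s.sup (slopePart F)).mkQ ≤ (slopePart F ν).map (s.sup (slopePart F)).mkQ := by
      refine (Submodule.map_mono hle).trans ?_
      rw [Submodule.map_sup, Submodule.mkQ_map_self, sup_bot_eq]
    have hstab : ∀ y ∈ P.map (s.sup (slopePart F)).mkQ,
        ((s.sup (slopePart F)).mapQ (s.sup (slopePart F)) F (fun x hx => hQ x hx)) y ∈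
          P.map (s.sup (slopePart F)).mkQ := by
      rintro _ ⟨x, hx, rfl⟩
      exact ⟨F x, hP x hx, hequiv x⟩
    have h3 := IsIsoclinicIn.of_le hτ hbij.1 h2 _ hstab hle'
    have h4 := eq_bot_of_isIsoclinicIn_of_ne _ hτ hbij _ hstab h1 h3 hμν
    have hPle : P ≤ s.sup (slopePart F) := by
      intro x hx
      have : (s.sup (slopePart F)).mkQ x ∈ P.map (s.sup (slopePart F)).mkQ := ⟨x, hx, rfl⟩
      rw [h4, Submodule.mem_bot, Submodule.mkQ_apply, Submodule.Quotient.mk_eq_zero] at this
      exact this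
    exact ih P μ hμs hP hiso hPle

theorem iSupIndep_slopePart [FiniteDimensional K(p, k) N] (F : N →ₛₗ[τ] N) (hτ : Good τ)
    (hF : Function.Bijective F) : iSupIndep (fun μ : ℚ => slopePart F μ) := by
  classical
  rw [iSupIndep_iff_supIndep]
  intro s
  induction s using Finset.induction_on with
  | empty => exact Finset.supIndep_empty _
  | insert μ s hμ ih =>
    apply Finset.SupIndep.insert ih
    rw [disjoint_iff]
    apply eq_bot_of_le_finset_sup F hτ hF s _ μ hμ
    · intro x hx
      exact ⟨slopePart_stable F hτ μ x hx.1, stable_finset_sup F hτ s x hx.2⟩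
    · exact IsIsoclinicIn.of_le hτ hF.1 (slopePart_isIsoclinicIn F hτ μ) _
        (fun x hx => ⟨slopePart_stable F hτ μ x hx.1, stable_finset_sup F hτ s x hx.2⟩) inf_le_left
    · exact inf_le_right

/-- the slope decomposition. -/
theorem isInternal_slopePart [FiniteDimensional K(p, k) N] (F : N →ₛₗ[τ] N) (hτ : Good τ)
    (hF : Function.Bijective F) : DirectSum.IsInternal (fun μ : ℚ => slopePart F μ) :=
  DirectSum.isInternal_submodule_of_iSupIndep_of_iSup_eq_top (iSupIndep_slopePart F hτ hF)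
    (iSup_slopePart_eq_top F hτ hF)

end Groth.Agent.Lib.IsocDecomp_helper3
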