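import Groth.Agent.Lib.IsocEff_helper3

/-!
# Helper library for the `Isoc` statements (helper3): lattices adapted to slopes
-/

set_option autoImplicit false
set_option linter.unusedSectionVars false

noncomputable section

open scoped Pointwise Isocrystal
open Filter Topology

universe u v

namespace Groth.Agent.Lib.IsocEff2_helper3

open Isoc Groth.Agent.Lib.Isoc_helper3 Groth.Agent.Lib.IsocMat_helper3
  Groth.Agent.Lib.IsocOrd_helper3 Groth.Agent.Lib.IsocSlope_helper3 Groth.Agent.Lib.IsocEff_helper3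

variable {p : ℕ} [Fact p.Prime] {k : Type u} [Field k] [CharP k p] [PerfectRing k p]
variable {N : Type v} [AddCommGroup N] [Module (WittVector p k) N] [Module K(p, k) N]
  [IsScalarTower (WittVector p k) K(p, k) N]
variable {τ : K(p, k) →+* K(p, k)}
variable {h : ℕ}

lemma smul_iter_bijective {F : N →ₛₗ[τ] N} (hF : Function.Bijective F) (m : ℤ) (n : ℕ) :
    Function.Bijective ((p : K(p, k)) ^ m • iter F n) := by
  have h1 := iterate_bijective hF n
  have h2 : Function.Bijective (fun x : N => (p : K(p, k)) ^ m • x) :=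
    MulAction.bijective₀ (zpow_p_ne_zero m)
  exact h2.comp h1

/-- positive first slope implies effective. -/
lemma isEffective_of_pos_slope (G : N →ₛₗ[τ] N) (hτ : Good τ) (hG : Function.Bijective G)
    {μ : ℝ} (hμ : 0 < μ) (hs : IsFirstSlope G μ) : IsEffective G := by
  obtain ⟨M, hM, o, ho, hlim⟩ := hs
  have hev : ∀ᶠ n : ℕ in atTop, 0 < (o n : ℝ) / n := hlim.eventually_const_lt hμ
  obtain ⟨n₀, hn₀⟩ := (hev.and (eventually_ge_atTop 1)).exists
  obtain ⟨hpos, hn1⟩ := hn₀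
  have hn' : (0 : ℝ) < n₀ := by exact_mod_cast hn1
  have ho0 : 0 ≤ o n₀ := by
    have : (0 : ℝ) < o n₀ := by
      by_contra hc
      push Not at hc
      have := div_nonpos_of_nonpos_of_nonneg hc hn'.le
      linarith
    exact_mod_cast this.le
  obtain ⟨j, rfl⟩ : ∃ j, n₀ = j + 1 := ⟨n₀ - 1, by omega⟩
  refine ⟨sumLat G M j, sumLat_isLattice G hτ hG hM j, ?_⟩
  refine (latImg_one_sumLat_le G hτ M j).trans (sup_le le_rfl ?_)
  refine (ho (j + 1) hn1).1.trans ((pPow_anti ho0 M).trans ?_)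
  rw [pPow_zero]
  have := latImg_le_sumLat G hτ M (Nat.zero_le j)
  rwa [latImg_zero G hτ] at this

/-- `r/s ≤ λ₁` gives a lattice with `F^s M ⊆ p^r M`. -/
lemma exists_lattice_latImg_le (b : Module.Basis (Fin h) K(p, k) N) (F : N →ₛₗ[τ] N) (hτ : Good τ)
    (hF : Function.Bijective F) {lam : ℝ} (hlam : IsFirstSlope F lam) (r : ℤ) (s : ℕ) (hs : 0 < s)
    (hrs : (r : ℝ) / s ≤ lam) :
    ∃ M : Submodule (WittVector p k) N, M.IsLattice K(p, k) ∧ latImg F s M ≤ pPow r M := by
  -- Φ = p^{-r} F^s has slope ≥ 0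
  have hs' : (0 : ℝ) < s := by exact_mod_cast hs
  have hΦslope := isFirstSlope_smul_iter F hτ hlam (-r) s
  have hΦnn : 0 ≤ (s : ℝ) * lam + ((-r : ℤ) : ℝ) := by
    rw [div_le_iff₀ hs'] at hrs
    push_cast; linarith
  have hΦbij := smul_iter_bijective hF (-r) s
  -- Ψ = p Φ^{h+1} has slope > 0
  have hΨslope := isFirstSlope_smul_iter _ (hτ.pow s) hΦslope 1 (h + 1)
  have hΨpos : 0 < ((h + 1 : ℕ) : ℝ) * ((s : ℝ) * lam + ((-r : ℤ) : ℝ)) + ((1 : ℤ) : ℝ) := by
    have : (0 : ℝ) ≤ ((h + 1 : ℕ) : ℝ) := by positivity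
    have := mul_nonneg this hΦnn
    push_cast at this ⊢
    linarith
  have hΨbij := smul_iter_bijective hΦbij 1 (h + 1)
  obtain ⟨M', hM', hle'⟩ := isEffective_of_pos_slope _ ((hτ.pow s).pow (h + 1)) hΨbij hΨpos hΨslope
  rw [latImg_smul_iter _ (hτ.pow s)] at hle'
  have hle'' : latImg ((p : K(p, k)) ^ (-r) • iter F s) (h + 1) M' ≤ pPow (-1) M' := by
    rw [le_pPow_iff]
    simpa using hle'
  obtain ⟨M'', hM'', hle⟩ := isEffective_of_latImg_le b _ (hτ.pow s) hΦbij hM' hle''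
  refine ⟨M'', hM'', ?_⟩
  rw [latImg_smul_iter F hτ] at hle
  have : pPow (-r) (latImg F s M'') ≤ M'' := by simpa using hle
  rw [← le_pPow_iff] at this
  simpa using this

end Groth.Agent.Lib.IsocEff2_helper3
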