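import Groth.Agent.Lib.IsocSlope_helper3

/-!
# Helper library for the `Isoc` statements (helper3): effectivity
-/

set_option autoImplicit false
set_option linter.unusedSectionVars false

noncomputable section

open scoped Pointwise Isocrystal
open Filter Topology

universe u v

namespace Groth.Agent.Lib.IsocEff_helper3

open Isoc Groth.Agent.Lib.Isoc_helper3 Groth.Agent.Lib.IsocMat_helper3
  Groth.Agent.Lib.IsocOrd_helper3 Groth.Agent.Lib.IsocSlope_helper3

variable {p : ℕ} [Fact p.Prime] {k : Type u} [Field k] [CharP k p] [PerfectRing k p]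
variable {N : Type v} [AddCommGroup N] [Module (WittVector p k) N] [Module K(p, k) N]
  [IsScalarTower (WittVector p k) K(p, k) N]
variable {τ : K(p, k) →+* K(p, k)}
variable {h : ℕ}

/-- `M + F M + ⋯ + F^j M`. -/
def sumLat (F : N →ₛₗ[τ] N) (M : Submodule (WittVector p k) N) : ℕ → Submodule (WittVector p k) N
  | 0 => M
  | j + 1 => sumLat F M j ⊔ latImg F (j + 1) M

lemma sumLat_le_succ (F : N →ₛₗ[τ] N) (M : Submodule (WittVector p k) N) (j : ℕ) :
    sumLat F M j ≤ sumLat F M (j + 1) := le_sup_left

lemma latImg_le_sumLat (F : N →ₛₗ[τ] N) (hτ : Good τ) (M : Submodule (WittVector p k) N)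
    {i j : ℕ} (hij : i ≤ j) : latImg F i M ≤ sumLat F M j := by
  induction j with
  | zero =>
    have : i = 0 := by omega
    subst this
    rw [latImg_zero F hτ]; exact le_rfl
  | succ j ih =>
    rcases Nat.lt_or_ge i (j + 1) with hlt | hge
    · exact (ih (by omega)).trans (sumLat_le_succ F M j)
    · have : i = j + 1 := by omega
      subst this
      exact le_sup_right

lemma sumLat_le (F : N →ₛₗ[τ] N) (hτ : Good τ) (M : Submodule (WittVector p k) N)
    {Z : Submodule (WittVector p k) N} {j : ℕ} (hZ : ∀ i, i ≤ j → latImg F i M ≤ Z) :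
    sumLat F M j ≤ Z := by
  induction j with
  | zero =>
    have := hZ 0 le_rfl
    rwa [latImg_zero F hτ] at this
  | succ j ih =>
    exact sup_le (ih fun i hi => hZ i (by omega)) (hZ (j + 1) le_rfl)

lemma sumLat_isLattice (F : N →ₛₗ[τ] N) (hτ : Good τ) (hF : Function.Bijective F)
    {M : Submodule (WittVector p k) N} (hM : M.IsLattice K(p, k)) (j : ℕ) :
    (sumLat F M j).IsLattice K(p, k) := by
  induction j with
  | zero => exact hM
  | succ j ih =>
    have := latImg_isLattice F hτ hF (j + 1) hM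
    exact Submodule.IsLattice.sup _ _ _

lemma latImg_one_sumLat_le (F : N →ₛₗ[τ] N) (hτ : Good τ) (M : Submodule (WittVector p k) N)
    (j : ℕ) : latImg F 1 (sumLat F M j) ≤ sumLat F M (j + 1) := by
  induction j with
  | zero =>
    exact le_sup_right
  | succ j ih =>
    show latImg F 1 (sumLat F M j ⊔ latImg F (j + 1) M) ≤ _
    rw [latImg_sup F hτ]
    refine sup_le (ih.trans (sumLat_le_succ F M (j + 1))) ?_
    rw [← latImg_add F hτ]
    have : 1 + (j + 1) = j + 1 + 1 := by ring
    rw [this]
    exact le_sup_right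

/-- If `F^(h+1) M ⊆ p⁻¹ M` then `F` is effective. -/
lemma isEffective_of_latImg_le (b : Module.Basis (Fin h) K(p, k) N) (F : N →ₛₗ[τ] N) (hτ : Good τ)
    (hF : Function.Bijective F) {M : Submodule (WittVector p k) N} (hM : M.IsLattice K(p, k))
    (hFM : latImg F (h + 1) M ≤ pPow (-1) M) : IsEffective F := by
  have htop : sumLat F M (h + (h + 1)) ≤ pPow (-1) (sumLat F M (h + 0)) := by
    apply sumLat_le F hτ
    intro i hi
    rcases Nat.lt_or_ge i (h + 1) with hlt | hge
    · refine (latImg_le_sumLat F hτ M (by omega : i ≤ h + 0)).trans ?_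
      have := pPow_anti (show (-1 : ℤ) ≤ 0 by norm_num) (sumLat F M (h + 0))
      rwa [pPow_zero] at this
    · obtain ⟨i', rfl⟩ : ∃ i', i = i' + (h + 1) := ⟨i - (h + 1), by omega⟩
      rw [latImg_add F hτ]
      refine (latImg_mono F hτ i' hFM).trans ?_
      rw [latImg_pPow F hτ]
      exact pPow_mono _ (latImg_le_sumLat F hτ M (by omega))
  obtain ⟨j, hj, hjeq⟩ := exists_eq_succ_of_chain b (fun j => sumLat F M (h + j))
    (fun j => sumLat_isLattice F hτ hF hM (h + j))
    (fun j _ => sumLat_le_succ F M (h + j)) htop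
  refine ⟨sumLat F M (h + j), sumLat_isLattice F hτ hF hM (h + j), ?_⟩
  have h1 := latImg_one_sumLat_le F hτ M (h + j)
  have hjeq' : sumLat F M (h + j) = sumLat F M (h + j + 1) := hjeq
  rw [hjeq'] at h1 ⊢
  exact (latImg_mono F hτ 1 hjeq'.ge).trans (latImg_one_sumLat_le F hτ M (h + j))

end Groth.Agent.Lib.IsocEff_helper3
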