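import Mathlib
import Groth.Agent.Lib.IsocDecomp_helper3

/-!
# Eigenvalues of the linear Frobenius of an isoclinic isocrystal (helper3)

If `F^s M = p^r M` for a lattice `M` and `π = F^m` is linear then every root `α` (in an extension
field `Ω` of `L`) of the characteristic polynomial of `π` has `α^s p^(-r m)` a unit of the integral
closure of `W` in `Ω`.
-/

set_option autoImplicit false
set_option linter.unusedSectionVars false
set_option linter.style.haveILetI false

noncomputable section

open scoped Pointwise Isocrystal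
open Polynomial

universe u v w

namespace Groth.Agent.Lib.IsocEigen_helper3

open Isoc Groth.Agent.Lib.Isoc_helper3 Groth.Agent.Lib.IsocOrd_helper3
  Groth.Agent.Lib.IsocIsocl_helper3

variable {p : ℕ} [Fact p.Prime] {k : Type u} [Field k] [CharP k p] [PerfectRing k p]
variable {N : Type v} [AddCommGroup N] [Module (WittVector p k) N] [Module K(p, k) N]
  [IsScalarTower (WittVector p k) K(p, k) N]
variable {τ : K(p, k) →+* K(p, k)}

/-- "integral unit": `x` and `x⁻¹` are integral over `W`. -/
def IntUnit {Ω : Type w} [Field Ω] [Algebra (WittVector p k) Ω] (x : Ω) : Prop :=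
  IsIntegral (WittVector p k) x ∧ IsIntegral (WittVector p k) x⁻¹

section Poly

variable {Ω : Type w} [Field Ω] [Algebra (WittVector p k) Ω]

/-- a root of a monic polynomial over `W` with unit constant coefficient is an integral unit. -/
lemma intUnit_of_root (hinj : Function.Injective (algebraMap (WittVector p k) Ω))
    (f : (WittVector p k)[X]) (hf : f.Monic) (hu : IsUnit (f.coeff 0)) (γ : Ω)
    (hγ : eval₂ (algebraMap (WittVector p k) Ω) γ f = 0) : IntUnit (p := p) (k := k) γ := by
  refine ⟨⟨f, hf, hγ⟩, ?_⟩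
  have hc0 : f.coeff 0 ≠ 0 := hu.ne_zero
  have hγ0 : γ ≠ 0 := by
    rintro rfl
    rw [eval₂_at_zero] at hγ
    exact hc0 (hinj (by rw [hγ, map_zero]))
  haveI : Invertible γ := invertibleOfNonzero hγ0
  have h1 : eval₂ (algebraMap (WittVector p k) Ω) (⅟γ) (reverse f) = 0 :=
    (eval₂_reverse_eq_zero_iff _ γ f).mpr hγ
  rw [invOf_eq_inv] at h1
  obtain ⟨u, hu'⟩ := hu
  have hlead : (reverse f).leadingCoeff = u := by
    rw [reverse_leadingCoeff, trailingCoeff_eq_coeff_zero hc0, hu']
  refine ⟨C ((u⁻¹ : (WittVector p k)ˣ) : WittVector p k) * reverse f,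
    monic_C_mul_of_mul_leadingCoeff_eq_one (by rw [hlead]; simp), ?_⟩
  rw [eval₂_mul, h1, mul_zero]

end Poly

section Main

variable {Ω : Type w} [Field Ω] [Algebra (WittVector p k) Ω] [Algebra K(p, k) Ω]
  [IsScalarTower (WittVector p k) K(p, k) Ω]

lemma algebraMap_W_injective :
    Function.Injective (algebraMap (WittVector p k) Ω) := by
  rw [IsScalarTower.algebraMap_eq (WittVector p k) K(p, k) Ω]
  exact (algebraMap K(p, k) Ω).injective.comp (IsFractionRing.injective _ _)

lemma iterate_pi (F : N →ₛₗ[τ] N) (m : ℕ) (π : N →ₗ[K(p, k)] N) (hπ : ∀ x, π x = (⇑F)^[m] x)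
    (s : ℕ) (x : N) : (π ^ s) x = (⇑F)^[m * s] x := by
  rw [Module.End.pow_apply, Function.iterate_mul]
  have : (⇑π : N → N) = (⇑F)^[m] := funext hπ
  rw [this]

/-- the key computation: roots of the characteristic polynomial of the linear Frobenius. -/
theorem intUnit_of_root_charpoly [FiniteDimensional K(p, k) N] (F : N →ₛₗ[τ] N) (hτ : Good τ)
    (hF : Function.Bijective F) (m : ℕ) (π : N →ₗ[K(p, k)] N) (hπ : ∀ x, π x = (⇑F)^[m] x)
    (M : Submodule (WittVector p k) N) (hM : M.IsLattice K(p, k)) (r : ℤ) (s : ℕ)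
    (heq : latImg F s M = pPow r M) (α : Ω)
    (hα : (π.charpoly.map (algebraMap K(p, k) Ω)).IsRoot α) :
    IntUnit (p := p) (k := k)
      (α ^ s * (algebraMap K(p, k) Ω (p : K(p, k))) ^ (-(r * (m : ℤ)))) := by
  classical
  haveI : M.IsLattice K(p, k) := hM
  haveI : Module.Finite (WittVector p k) M := Module.Finite.iff_fg.mpr hM.fg
  haveI := Module.IsTorsionFree.trans_faithfulSMul (WittVector p k) K(p, k) N
  haveI : Module.Free (WittVector p k) M := inferInstance
  set c : K(p, k) := (p : K(p, k)) ^ (-(r * (m : ℤ))) with hc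
  set g : N →ₗ[K(p, k)] N := c • π ^ s with hg
  have hgx : ∀ x, g x = c • (⇑F)^[m * s] x := fun x => by
    rw [hg, LinearMap.smul_apply, iterate_pi F m π hπ]
  have hlat : latImg F (m * s) M = pPow (m * r) M := latImg_eq_pPow_mul F hτ heq m
  have hgM : ∀ x ∈ M, g x ∈ M := by
    intro x hx
    have h1 : (⇑F)^[m * s] x ∈ pPow (m * r) M := by
      rw [← hlat, mem_latImg F hτ]; exact ⟨x, hx, rfl⟩
    rw [mem_pPow_iff] at h1
    rw [hgx, hc, mul_comm r]
    exact h1
  have hgsurj : ∀ y ∈ M, ∃ x ∈ M, g x = y := by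
    intro y hy
    have h1 : (p : K(p, k)) ^ ((m : ℤ) * r) • y ∈ latImg F (m * s) M := by
      rw [hlat]; exact smul_mem_pPow hy
    rw [mem_latImg F hτ] at h1
    obtain ⟨x, hx, hxy⟩ := h1
    refine ⟨x, hx, ?_⟩
    rw [hgx, hxy, hc, smul_smul, mul_comm r, ← zpow_add₀ p_ne_zero, neg_add_cancel, zpow_zero,
      one_smul]
  have hginj : Function.Injective g := by
    intro x y hxy
    rw [hgx, hgx] at hxy
    have h1 := smul_right_injective N (zpow_p_ne_zero (p := p) (k := k) (-(r * (m : ℤ)))) hxy
    exact (hF.1.iterate (m * s)) h1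
  -- the restriction to `M`
  let gM : M →ₗ[WittVector p k] M := (g.restrictScalars (WittVector p k)).restrict hgM
  have hgM_apply : ∀ x : M, (gM x : N) = g x.1 := fun x => rfl
  have hgMbij : Function.Bijective gM := by
    constructor
    · intro x y hxy
      apply Subtype.ext
      apply hginj
      rw [← hgM_apply, ← hgM_apply, hxy]
    · intro y
      obtain ⟨x, hx, hxy⟩ := hgsurj y.1 y.2
      exact ⟨⟨x, hx⟩, Subtype.ext hxy⟩
  let b := Module.Free.chooseBasis (WittVector p k) M
  let bL := b.extendOfIsLattice K(p, k)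
  have hbL : ∀ i, bL i = (b i).1 := fun i => Module.Basis.extendOfIsLattice_apply _ _ _
  -- coordinates of elements of `M`
  have hrepr : ∀ (x : M) i, bL.repr x.1 i = algebraMap (WittVector p k) K(p, k) (b.repr x i) := by
    intro x i
    have h1 : x.1 = ∑ j, (algebraMap (WittVector p k) K(p, k) (b.repr x j)) • bL j := by
      conv_lhs => rw [← b.sum_repr x]
      rw [AddSubmonoidClass.coe_finset_sum]
      apply Finset.sum_congr rfl
      intro j _
      rw [hbL, IsScalarTower.algebraMap_smul]
      rfl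
    rw [h1, map_sum, Finsupp.finset_sum_apply]
    simp only [map_smul, Module.Basis.repr_self, Finsupp.smul_apply, smul_eq_mul]
    rw [Finset.sum_eq_single i]
    · simp
    · intro j _ hji
      simp [Finsupp.single_eq_of_ne hji.symm]
    · intro hi; exact absurd (Finset.mem_univ i) hi
  set B := LinearMap.toMatrix b b gM with hB
  have hBg : LinearMap.toMatrix bL bL g = B.map (algebraMap (WittVector p k) K(p, k)) := by
    ext i j
    rw [LinearMap.toMatrix_apply, Matrix.map_apply, hB, LinearMap.toMatrix_apply, hbL,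
      ← hgM_apply, hrepr]
  have hdet : IsUnit B.det :=
    LinearEquiv.isUnit_det (LinearEquiv.ofBijective gM hgMbij) b b
  have hcoeff : IsUnit (B.charpoly.coeff 0) := by
    have h1 := Matrix.det_eq_sign_charpoly_coeff B
    rw [h1] at hdet
    exact (IsUnit.mul_iff.mp hdet).2
  -- the eigenvalue computation over `Ω`
  set A := LinearMap.toMatrix bL bL π with hA
  set φ := algebraMap K(p, k) Ω with hφ
  have hAchar : (A.map φ).charpoly = π.charpoly.map φ := by
    rw [Matrix.charpoly_map, hA, LinearMap.charpoly_toMatrix]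
  have hspec : α ∈ spectrum Ω (A.map φ) := by
    rw [Matrix.mem_spectrum_iff_isRoot_charpoly, hAchar]; exact hα
  have h2 := spectrum.subset_polynomial_aeval (A.map φ) (C (φ c) * X ^ s) ⟨α, hspec, rfl⟩
  simp only [eval_mul, eval_C, eval_pow, eval_X, map_mul, aeval_C, map_pow, aeval_X] at h2
  have hgmat : LinearMap.toMatrix bL bL g = c • A ^ s := by
    have h3 : LinearMap.toMatrix bL bL g = LinearMap.toMatrixAlgEquiv bL g := rfl
    have h4 : A = LinearMap.toMatrixAlgEquiv bL π := rfl
    rw [h3, h4, hg, map_smul, map_pow]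
  have hmap : (algebraMap Ω (Matrix _ _ Ω)) (φ c) * (A.map φ) ^ s =
      (B.map (algebraMap (WittVector p k) Ω)) := by
    have h5 : (B.map (algebraMap (WittVector p k) K(p, k))).map φ =
        B.map (algebraMap (WittVector p k) Ω) := by
      rw [Matrix.map_map, IsScalarTower.algebraMap_eq (WittVector p k) K(p, k) Ω]
      rfl
    rw [← h5, ← hBg, hgmat, Matrix.map_smul' _ _ _ (map_mul φ), ← Algebra.smul_def]
    congr 1
    exact (map_pow (RingHom.mapMatrix φ) A s).symm
  rw [hmap, Matrix.mem_spectrum_iff_isRoot_charpoly, Matrix.charpoly_map, IsRoot, eval_map] at h2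
  have hfinal := intUnit_of_root (p := p) (k := k) algebraMap_W_injective B.charpoly
    (Matrix.charpoly_monic B) hcoeff _ h2
  rw [mul_comm] at hfinal
  rw [hc, map_zpow₀] at hfinal
  exact hfinal

end Main

end Groth.Agent.Lib.IsocEigen_helper3
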