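import Mathlib
import Groth.Agent.Lib.IsocEigen_helper3

/-!
# Newton slopes and eigenvalues of Frobenius over a finite field (helper3)
-/

set_option autoImplicit false
set_option linter.unusedSectionVars false
set_option linter.style.haveILetI false

noncomputable section

open scoped Pointwise Isocrystal
open Polynomial

universe u v w

namespace Groth.Agent.Lib.IsocEigen2_helper3

open Isoc Groth.Agent.Lib.Isoc_helper3 Groth.Agent.Lib.IsocOrd_helper3
  Groth.Agent.Lib.IsocIsocl_helper3 Groth.Agent.Lib.IsocSub_helper3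
  Groth.Agent.Lib.IsocUniq_helper3 Groth.Agent.Lib.IsocSlopePart_helper3
  Groth.Agent.Lib.IsocDecomp_helper3 Groth.Agent.Lib.IsocEigen_helper3

variable {p : ℕ} [Fact p.Prime] {k : Type u} [Field k] [CharP k p] [PerfectRing k p]
variable {Ω : Type w} [Field Ω] [Algebra (WittVector p k) Ω] [Algebra K(p, k) Ω]
  [IsScalarTower (WittVector p k) K(p, k) Ω]

/-- the predicate "`ord α = μ m`". -/
def Pred (p : ℕ) [Fact p.Prime] (k : Type u) [Field k] [CharP k p] [PerfectRing k p]
    {Ω : Type w} [Field Ω] [Algebra (WittVector p k) Ω] [Algebra K(p, k) Ω]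
    (m : ℕ) (μ : ℚ) (α : Ω) : Prop :=
  IntUnit (p := p) (k := k)
    (α ^ μ.den * (algebraMap K(p, k) Ω (p : K(p, k))) ^ (-(μ.num * (m : ℤ))))

lemma intUnit_of_pow {x : Ω} {t : ℕ} (ht : 0 < t) (h : IntUnit (p := p) (k := k) (x ^ t)) :
    IntUnit (p := p) (k := k) x := by
  refine ⟨IsIntegral.of_pow ht h.1, IsIntegral.of_pow ht ?_⟩
  rw [inv_pow]; exact h.2

lemma IntUnit.pow {x : Ω} (h : IntUnit (p := p) (k := k) x) (t : ℕ) :
    IntUnit (p := p) (k := k) (x ^ t) := by
  refine ⟨h.1.pow t, ?_⟩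
  rw [← inv_pow]; exact h.2.pow t

lemma IntUnit.mul {x y : Ω} (hx : IntUnit (p := p) (k := k) x) (hy : IntUnit (p := p) (k := k) y) :
    IntUnit (p := p) (k := k) (x * y) := by
  refine ⟨hx.1.mul hy.1, ?_⟩
  rw [mul_inv]; exact hx.2.mul hy.2

lemma IntUnit.inv {x : Ω} (hx : IntUnit (p := p) (k := k) x) : IntUnit (p := p) (k := k) x⁻¹ :=
  ⟨hx.2, by rw [inv_inv]; exact hx.1⟩

lemma pΩ_ne_zero : (algebraMap K(p, k) Ω (p : K(p, k))) ≠ 0 := by
  rw [Ne, map_eq_zero]; exact p_ne_zero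

/-- `p⁻¹` is not integral over `W`. -/
lemma not_isIntegral_inv_p :
    ¬ IsIntegral (WittVector p k) (algebraMap K(p, k) Ω (p : K(p, k)))⁻¹ := by
  intro h
  rw [← map_inv₀, isIntegral_algebraMap_iff (algebraMap K(p, k) Ω).injective,
    IsIntegrallyClosed.isIntegral_iff] at h
  obtain ⟨w, hw⟩ := h
  have h1 : algebraMap (WittVector p k) K(p, k) (w * (p : WittVector p k)) = 1 := by
    rw [map_mul, hw, map_natCast, inv_mul_cancel₀ p_ne_zero]
  have h2 : w * (p : WittVector p k) = 1 :=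
    IsFractionRing.injective (WittVector p k) K(p, k) (by rw [h1, map_one])
  exact (WittVector.irreducible p (k := k)).not_isUnit (IsUnit.of_mul_eq_one w (by rw [mul_comm]; exact h2))

/-- a nonzero `α` has at most one "slope". -/
lemma pred_unique {m : ℕ} (hm : m ≠ 0) {μ ν : ℚ} {α : Ω} (hα : α ≠ 0)
    (hμ : Pred p k m μ α) (hν : Pred p k m ν α) : μ = ν := by
  by_contra hne
  set P := algebraMap K(p, k) Ω (p : K(p, k)) with hP
  have hP0 : P ≠ 0 := pΩ_ne_zero
  have hμ' : IntUnit (p := p) (k := k) (α ^ μ.den * P ^ (-(μ.num * (m : ℤ)))) := hμ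
  have hν' : IntUnit (p := p) (k := k) (α ^ ν.den * P ^ (-(ν.num * (m : ℤ)))) := hν
  have h1 := IntUnit.mul (IntUnit.pow hμ' ν.den) (IntUnit.inv (IntUnit.pow hν' μ.den))
  have hcalc : (α ^ μ.den * P ^ (-(μ.num * (m : ℤ)))) ^ ν.den *
      ((α ^ ν.den * P ^ (-(ν.num * (m : ℤ)))) ^ μ.den)⁻¹ =
      P ^ ((m : ℤ) * (ν.num * μ.den - μ.num * ν.den)) := by
    rw [mul_pow, mul_pow, mul_inv, ← pow_mul, ← pow_mul, mul_comm ν.den μ.den,
      ← zpow_natCast (P ^ _), ← zpow_natCast (P ^ _), ← zpow_mul, ← zpow_mul, ← zpow_neg]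
    have hα' : α ^ (μ.den * ν.den) ≠ 0 := pow_ne_zero _ hα
    rw [mul_mul_mul_comm, mul_inv_cancel₀ hα', one_mul, ← zpow_add₀ hP0]
    congr 1; ring
  rw [hcalc] at h1
  set e : ℤ := (m : ℤ) * (ν.num * μ.den - μ.num * ν.den) with he
  have he0 : e ≠ 0 := by
    rw [he]
    refine mul_ne_zero (by exact_mod_cast hm) ?_
    intro h0
    apply hne
    rw [Rat.eq_iff_mul_eq_mul]
    linarith
  rcases lt_or_gt_of_ne he0 with hneg | hpos
  · obtain ⟨t, ht⟩ : ∃ t : ℕ, e = -(t : ℤ) := ⟨(-e).toNat, by omega⟩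
    have ht0 : 0 < t := by omega
    have h2 := h1.1
    rw [ht, zpow_neg, zpow_natCast, ← inv_pow] at h2
    exact not_isIntegral_inv_p (p := p) (k := k) (Ω := Ω) (IsIntegral.of_pow ht0 h2)
  · obtain ⟨t, ht⟩ : ∃ t : ℕ, e = (t : ℤ) := ⟨e.toNat, by omega⟩
    have ht0 : 0 < t := by omega
    have h2 := h1.2
    rw [ht, zpow_natCast, ← inv_pow] at h2
    exact not_isIntegral_inv_p (p := p) (k := k) (Ω := Ω) (IsIntegral.of_pow ht0 h2)

variable {N : Type v} [AddCommGroup N] [Module (WittVector p k) N] [Module K(p, k) N]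
  [IsScalarTower (WittVector p k) K(p, k) N]
variable {τ : K(p, k) →+* K(p, k)}

/-- roots of the characteristic polynomial of an injective endomorphism are nonzero. -/
lemma root_ne_zero [FiniteDimensional K(p, k) N] (π : N →ₗ[K(p, k)] N)
    (hinj : Function.Injective π) (α : Ω)
    (hα : (π.charpoly.map (algebraMap K(p, k) Ω)).IsRoot α) : α ≠ 0 := by
  rintro rfl
  rw [IsRoot, eval_map, eval₂_at_zero, map_eq_zero] at hα
  have hdet : LinearMap.det π = 0 := by
    rw [LinearMap.det_eq_sign_charpoly_coeff, hα, mul_zero]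
  have := LinearMap.bot_lt_ker_of_det_eq_zero hdet
  rw [LinearMap.ker_eq_bot.mpr hinj] at this
  exact lt_irrefl _ this

/-- isoclinic case: all roots have slope `ν`. -/
theorem pred_of_isIsoclinic [FiniteDimensional K(p, k) N] (F : N →ₛₗ[τ] N) (hτ : Good τ)
    (hF : Function.Bijective F) (m : ℕ) (π : N →ₗ[K(p, k)] N) (hπ : ∀ x, π x = (⇑F)^[m] x)
    (ν : ℚ) (hiso : IsIsoclinic F ν) (α : Ω)
    (hα : (π.charpoly.map (algebraMap K(p, k) Ω)).IsRoot α) : Pred p k m ν α := by
  obtain ⟨M, hM, r, s, hs, hrs, heq⟩ := hiso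
  have key := intUnit_of_root_charpoly (Ω := Ω) F hτ hF m π hπ M hM r s heq α hα
  -- `s = den * t`, `r = num * t`
  have hsQ : (s : ℚ) ≠ 0 := by exact_mod_cast hs.ne'
  have hdQ : (ν.den : ℚ) ≠ 0 := by exact_mod_cast ν.den_pos.ne'
  have hcross : r * (ν.den : ℤ) = ν.num * s := by
    have h1 : (r : ℚ) / s = (ν.num : ℚ) / ν.den := by rw [hrs, Rat.num_div_den]
    rw [div_eq_div_iff hsQ hdQ] at h1
    exact_mod_cast h1
  have hcop : IsCoprime (ν.den : ℤ) ν.num := by
    rw [Int.isCoprime_iff_gcd_eq_one, Int.gcd_comm, Int.gcd, Int.natAbs_natCast]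
    exact ν.reduced
  have hdvd : (ν.den : ℤ) ∣ (s : ℤ) := by
    have h1 : (ν.den : ℤ) ∣ (s : ℤ) * ν.num := ⟨r, by rw [mul_comm (ν.den : ℤ), hcross]; ring⟩
    exact hcop.dvd_of_dvd_mul_right h1
  obtain ⟨t, ht⟩ := Int.natCast_dvd_natCast.mp hdvd
  have ht0 : 0 < t := by
    rcases Nat.eq_zero_or_pos t with h0 | h0
    · rw [h0, mul_zero] at ht; omega
    · exact h0
  have hr : r = ν.num * t := by
    have hd0 : (ν.den : ℤ) ≠ 0 := by exact_mod_cast ν.den_pos.ne'
    apply mul_right_cancel₀ hd0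
    rw [hcross, ht]; push_cast; ring
  apply intUnit_of_pow (p := p) (k := k) ht0
  have : (α ^ ν.den * (algebraMap K(p, k) Ω (p : K(p, k))) ^ (-(ν.num * (m : ℤ)))) ^ t =
      α ^ s * (algebraMap K(p, k) Ω (p : K(p, k))) ^ (-(r * (m : ℤ))) := by
    rw [mul_pow, ← pow_mul, ← ht, ← zpow_natCast (_ ^ _), ← zpow_mul, hr]
    congr 2; ring
  rw [this]
  exact key

/-- charpoly is multiplicative over a decomposition into stable complements. -/
lemma charpoly_eq_mul_of_isCompl [FiniteDimensional K(p, k) N] (π : N →ₗ[K(p, k)] N)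
    (P Q : Submodule K(p, k) N) (hc : IsCompl P Q) (hP : ∀ x ∈ P, π x ∈ P)
    (hQ : ∀ x ∈ Q, π x ∈ Q) :
    π.charpoly = (π.restrict hP).charpoly * (π.restrict hQ).charpoly := by
  let e := Submodule.prodEquivOfIsCompl P Q hc
  have h1 : π = e.conj ((π.restrict hP).prodMap (π.restrict hQ)) := by
    apply LinearMap.ext
    intro x
    obtain ⟨⟨a, b⟩, rfl⟩ := e.surjective x
    rw [LinearEquiv.conj_apply, LinearMap.comp_apply, LinearMap.comp_apply]
    simp only [LinearEquiv.coe_coe, LinearEquiv.symm_apply_apply, LinearMap.prodMap_apply]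
    rw [Submodule.coe_prodEquivOfIsCompl', Submodule.coe_prodEquivOfIsCompl', map_add]
    rfl
  conv_lhs => rw [h1]
  rw [LinearEquiv.charpoly_conj, LinearMap.charpoly_prodMap]

lemma iterate_restrict (F : N →ₛₗ[τ] N) (P : Submodule K(p, k) N) (hP : ∀ x ∈ P, F x ∈ P)
    (m : ℕ) (x : P) : (((⇑(F.restrict hP))^[m] x : P) : N) = (⇑F)^[m] x.1 := by
  induction m generalizing x with
  | zero => rfl
  | succ m ih => rw [Function.iterate_succ_apply, Function.iterate_succ_apply, ih]; rfl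

/-- Newton multiplicities are additive over stable complements. -/
lemma newtonMult_add [FiniteDimensional K(p, k) N] (F : N →ₛₗ[τ] N) (hτ : Good τ)
    (P Q : Submodule K(p, k) N) (hc : IsCompl P Q)
    (hP : ∀ x ∈ P, F x ∈ P) (hQ : ∀ x ∈ Q, F x ∈ Q) (μ : ℚ) :
    newtonMult F μ = newtonMult (F.restrict hP) μ + newtonMult (F.restrict hQ) μ := by
  have key : ∀ (P Q : Submodule K(p, k) N) (hc : IsCompl P Q) (hP : ∀ x ∈ P, F x ∈ P)
      (hQ : ∀ x ∈ Q, F x ∈ Q),
      (slopePart (F.restrict hP) μ).map P.subtype ≤ slopePart F μ ∧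
      ∀ x ∈ slopePart F μ, P.projectionOnto Q hc x ∈ slopePart (F.restrict hP) μ := by
    intro P Q hc hP hQ
    constructor
    · have hiso : IsIsoclinicIn F ((slopePart (F.restrict hP) μ).map P.subtype) μ :=
        (slopePart_isIsoclinicIn (F.restrict hP) hτ μ).map' hτ P.subtype (fun x => rfl)
      have hst : ∀ y ∈ (slopePart (F.restrict hP) μ).map P.subtype,
          F y ∈ (slopePart (F.restrict hP) μ).map P.subtype := by
        rintro _ ⟨x, hx, rfl⟩
        exact ⟨F.restrict hP x, slopePart_stable (F.restrict hP) hτ μ x hx, rfl⟩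
      exact le_slopePart F hτ hst hiso
    · have hequiv : ∀ x, P.projectionOnto Q hc (F x) = F.restrict hP (P.projectionOnto Q hc x) := by
        intro x
        obtain ⟨⟨a, b⟩, rfl⟩ := (Submodule.prodEquivOfIsCompl P Q hc).surjective x
        rw [Submodule.coe_prodEquivOfIsCompl', map_add, map_add, map_add]
        have h1 : F a.1 = ((F.restrict hP a : P) : N) := rfl
        have h2 : F b.1 = ((F.restrict hQ b : Q) : N) := rfl
        rw [h1, h2, Submodule.projectionOnto_apply_left, Submodule.projectionOnto_apply_left,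
          Submodule.projectionOnto_apply_right, Submodule.projectionOnto_apply_right, add_zero,
          add_zero]
      have hiso : IsIsoclinicIn (F.restrict hP) ((slopePart F μ).map (P.projectionOnto Q hc)) μ :=
        (slopePart_isIsoclinicIn F hτ μ).map' hτ (P.projectionOnto Q hc) hequiv
      have hst : ∀ y ∈ (slopePart F μ).map (P.projectionOnto Q hc),
          F.restrict hP y ∈ (slopePart F μ).map (P.projectionOnto Q hc) := by
        rintro _ ⟨x, hx, rfl⟩
        exact ⟨F x, slopePart_stable F hτ μ x hx, hequiv x⟩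
      have hle := le_slopePart (F.restrict hP) hτ hst hiso
      intro x hx
      exact hle ⟨x, hx, rfl⟩
  obtain ⟨hP1, hP2⟩ := key P Q hc hP hQ
  obtain ⟨hQ1, hQ2⟩ := key Q P hc.symm hQ hP
  set SP := (slopePart (F.restrict hP) μ).map P.subtype with hSP
  set SQ := (slopePart (F.restrict hQ) μ).map Q.subtype with hSQ
  have hsup : slopePart F μ = SP ⊔ SQ := by
    apply le_antisymm
    · intro x hx
      have hx' : x = (P.projectionOnto Q hc x : N) + (Q.projectionOnto P hc.symm x : N) := by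
        obtain ⟨⟨a, b⟩, rfl⟩ := (Submodule.prodEquivOfIsCompl P Q hc).surjective x
        rw [Submodule.coe_prodEquivOfIsCompl', map_add, map_add,
          Submodule.projectionOnto_apply_left, Submodule.projectionOnto_apply_left,
          Submodule.projectionOnto_apply_right, Submodule.projectionOnto_apply_right,
          add_zero, zero_add]
      rw [hx']
      exact Submodule.add_mem_sup ⟨_, hP2 x hx, rfl⟩ ⟨_, hQ2 x hx, rfl⟩
    · exact sup_le hP1 hQ1
  have hdisj : SP ⊓ SQ = ⊥ := by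
    have h1 : SP ≤ P := by rintro _ ⟨x, -, rfl⟩; exact x.2
    have h2 : SQ ≤ Q := by rintro _ ⟨x, -, rfl⟩; exact x.2
    exact (hc.disjoint.mono h1 h2).eq_bot
  unfold newtonMult
  rw [hsup]
  have h3 := Submodule.finrank_sup_add_finrank_inf_eq SP SQ
  rw [hdisj, finrank_bot, add_zero] at h3
  rw [h3, hSP, hSQ, Submodule.finrank_map_subtype_eq, Submodule.finrank_map_subtype_eq]

end Groth.Agent.Lib.IsocEigen2_helper3
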