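import Mathlib
import Groth.Agent.Lib.IsocEigen2_helper3

/-!
# Newton slopes and eigenvalues of Frobenius over a finite field: the count (helper3)
-/

set_option autoImplicit false
set_option linter.unusedSectionVars false
set_option linter.style.haveILetI false

noncomputable section

open scoped Pointwise Isocrystal
open Polynomial

universe u v w

namespace Groth.Agent.Lib.IsocEigen3_helper3

open Isoc Groth.Agent.Lib.Isoc_helper3 Groth.Agent.Lib.IsocOrd_helper3
  Groth.Agent.Lib.IsocIsocl_helper3 Groth.Agent.Lib.IsocSub_helper3
  Groth.Agent.Lib.IsocUniq_helper3 Groth.Agent.Lib.IsocSlopePart_helper3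
  Groth.Agent.Lib.IsocDecomp_helper3 Groth.Agent.Lib.IsocEigen_helper3
  Groth.Agent.Lib.IsocEigen2_helper3

variable {p : ℕ} [Fact p.Prime] {k : Type u} [Field k] [CharP k p] [PerfectRing k p]
variable {Ω : Type w} [Field Ω] [Algebra (WittVector p k) Ω] [Algebra K(p, k) Ω]
  [IsScalarTower (WittVector p k) K(p, k) Ω]
variable {τ : K(p, k) →+* K(p, k)}

theorem main_aux [IsAlgClosed Ω] (hτ : Good τ) (m : ℕ) (hm : m ≠ 0) (μ : ℚ)
    [DecidablePred (Pred p k (Ω := Ω) m μ)] :
    ∀ (n : ℕ) (N : Type v) [AddCommGroup N] [Module (WittVector p k) N] [Module K(p, k) N]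
      [IsScalarTower (WittVector p k) K(p, k) N] [FiniteDimensional K(p, k) N]
      (F : N →ₛₗ[τ] N) (π : N →ₗ[K(p, k)] N), Function.Bijective F →
      (∀ x, π x = (⇑F)^[m] x) → Module.finrank K(p, k) N = n →
      newtonMult F μ =
        Multiset.countP (Pred p k (Ω := Ω) m μ) ((π.charpoly.map (algebraMap K(p, k) Ω)).roots) := by
  intro n
  induction n using Nat.strong_induction_on with
  | _ n ih =>
    intro N _ _ _ _ _ F π hF hπ hn
    have hπinj : Function.Injective π := by
      intro x y h
      rw [hπ, hπ] at h
      exact hF.1.iterate m h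
    by_cases hN : Subsingleton N
    · have h1 : newtonMult F μ = 0 := by
        unfold newtonMult
        have h0 := Submodule.finrank_le (slopePart F μ)
        have h00 : Module.finrank K(p, k) N = 0 := Module.finrank_zero_of_subsingleton
        omega
      have h2 : π.charpoly = 1 := by
        apply Polynomial.eq_one_of_monic_natDegree_zero (LinearMap.charpoly_monic π)
        rw [LinearMap.charpoly_natDegree]
        exact Module.finrank_zero_of_subsingleton
      rw [h1, h2, Polynomial.map_one, Polynomial.roots_one]
      rfl
    · rw [not_subsingleton_iff_nontrivial] at hN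
      obtain ⟨ν, hν⟩ : ∃ ν, slopePart F ν ≠ ⊥ := by
        by_contra hall
        push Not at hall
        have := iSup_slopePart_eq_top F hτ hF
        simp only [hall, iSup_bot] at this
        exact bot_ne_top this
      have hne : π.charpoly.map (algebraMap K(p, k) Ω) ≠ 0 :=
        ((LinearMap.charpoly_monic π).map _).ne_zero
      by_cases htop : slopePart F ν = ⊤
      · have hiso : IsIsoclinic F ν :=
          (isIsoclinic_iff_top F ν).mpr (by rw [← htop]; exact slopePart_isIsoclinicIn F hτ ν)
        have hroots : ∀ α ∈ (π.charpoly.map (algebraMap K(p, k) Ω)).roots,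
            Pred p k m ν α ∧ α ≠ 0 := by
          intro α hα
          have hα' : (π.charpoly.map (algebraMap K(p, k) Ω)).IsRoot α :=
            (Polynomial.mem_roots hne).mp hα
          exact ⟨pred_of_isIsoclinic F hτ hF m π hπ ν hiso α hα', root_ne_zero π hπinj α hα'⟩
        by_cases hμν : μ = ν
        · subst hμν
          have h1 : newtonMult F μ = Module.finrank K(p, k) N := by
            unfold newtonMult; rw [htop, finrank_top]
          have h2 : Multiset.countP (Pred p k (Ω := Ω) m μ)
              ((π.charpoly.map (algebraMap K(p, k) Ω)).roots) =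
              Multiset.card ((π.charpoly.map (algebraMap K(p, k) Ω)).roots) :=
            Multiset.countP_eq_card.mpr (fun α hα => (hroots α hα).1)
          rw [h1, h2, Polynomial.splits_iff_card_roots.mp (IsAlgClosed.splits _),
            (LinearMap.charpoly_monic π).natDegree_map, LinearMap.charpoly_natDegree]
        · have h1 : newtonMult F μ = 0 := by
            unfold newtonMult
            have hbot : slopePart F μ = ⊥ :=
              eq_bot_of_isIsoclinicIn_of_ne F hτ hF (slopePart F μ) (slopePart_stable F hτ μ)
                (slopePart_isIsoclinicIn F hτ μ)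
                (IsIsoclinicIn.of_le hτ hF.1 ((isIsoclinic_iff_top F ν).mp hiso) (slopePart F μ)
                  (slopePart_stable F hτ μ) le_top) hμν
            rw [hbot, finrank_bot]
          have h2 : Multiset.countP (Pred p k (Ω := Ω) m μ)
              ((π.charpoly.map (algebraMap K(p, k) Ω)).roots) = 0 :=
            Multiset.countP_eq_zero.mpr (fun α hα hp =>
              hμν (pred_unique hm (hroots α hα).2 hp (hroots α hα).1))
          rw [h1, h2]
      · set P := slopePart F ν with hPdef
        set Q := ⨆ (μ' : ℚ) (_ : μ' ≠ ν), slopePart F μ' with hQdef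
        have hP : ∀ x ∈ P, F x ∈ P := slopePart_stable F hτ ν
        have hQ : ∀ x ∈ Q, F x ∈ Q := by
          have : Q ≤ Q.comap F := by
            apply iSup₂_le
            intro μ' hμ' x hx
            exact Submodule.mem_comap.mpr
              (le_iSup₂_of_le (f := fun (μ' : ℚ) (_ : μ' ≠ ν) => slopePart F μ') μ' hμ' le_rfl
                (slopePart_stable F hτ μ' x hx))
          exact fun x hx => this hx
        have hc : IsCompl P Q := by
          refine ⟨iSupIndep_slopePart F hτ hF ν, codisjoint_iff.mpr ?_⟩
          rw [eq_top_iff, ← iSup_slopePart_eq_top F hτ hF]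
          apply iSup_le
          intro μ'
          by_cases h : μ' = ν
          · subst h; exact le_sup_left
          · exact le_sup_of_le_right
              (le_iSup₂_of_le (f := fun (μ' : ℚ) (_ : μ' ≠ ν) => slopePart F μ') μ' h le_rfl)
        have hπP : ∀ x ∈ P, π x ∈ P := fun x hx => by
          rw [hπ]; exact iterate_stable P hP m x hx
        have hπQ : ∀ x ∈ Q, π x ∈ Q := fun x hx => by
          rw [hπ]; exact iterate_stable Q hQ m x hx
        have hdim := Submodule.finrank_add_eq_of_isCompl hc
        have hP1 : 1 ≤ Module.finrank K(p, k) P := Submodule.one_le_finrank_iff.mpr hν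
        have hQ1 : 1 ≤ Module.finrank K(p, k) Q := Submodule.one_le_finrank_iff.mpr (by
          intro hQbot
          apply htop
          have := hc.sup_eq_top
          rw [hQbot, sup_bot_eq] at this
          exact this)
        have ihP := ih (Module.finrank K(p, k) P) (by omega) ↥P (F.restrict hP) (π.restrict hπP)
          (restrict_bijective F hτ hF.1 P hP)
          (fun x => Subtype.ext (by rw [iterate_restrict]; exact hπ x.1)) rfl
        have ihQ := ih (Module.finrank K(p, k) Q) (by omega) ↥Q (F.restrict hQ) (π.restrict hπQ)
          (restrict_bijective F hτ hF.1 Q hQ)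
          (fun x => Subtype.ext (by rw [iterate_restrict]; exact hπ x.1)) rfl
        have hmulne : (π.restrict hπP).charpoly.map (algebraMap K(p, k) Ω) *
            (π.restrict hπQ).charpoly.map (algebraMap K(p, k) Ω) ≠ 0 :=
          mul_ne_zero ((LinearMap.charpoly_monic _).map _).ne_zero
            ((LinearMap.charpoly_monic _).map _).ne_zero
        rw [newtonMult_add F hτ P Q hc hP hQ μ, ihP, ihQ,
          charpoly_eq_mul_of_isCompl π P Q hc hπP hπQ, Polynomial.map_mul,
          Polynomial.roots_mul hmulne, Multiset.countP_add]

/-- **Newton slopes = normalised valuations of Frobenius eigenvalues** (finite field case). -/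
theorem main [IsAlgClosed Ω] (hτ : Good τ) (m : ℕ) (hm : m ≠ 0) (μ : ℚ)
    [DecidablePred (Pred p k (Ω := Ω) m μ)]
    (N : Type v) [AddCommGroup N] [Module (WittVector p k) N] [Module K(p, k) N]
    [IsScalarTower (WittVector p k) K(p, k) N] [FiniteDimensional K(p, k) N]
    (F : N →ₛₗ[τ] N) (π : N →ₗ[K(p, k)] N) (hF : Function.Bijective F)
    (hπ : ∀ x, π x = (⇑F)^[m] x) :
    newtonMult F μ =
      Multiset.countP (Pred p k (Ω := Ω) m μ) ((π.charpoly.map (algebraMap K(p, k) Ω)).roots) :=
  main_aux hτ m hm μ _ N F π hF hπ rfl

end Groth.Agent.Lib.IsocEigen3_helper3
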