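import Groth.Agent.Lib.IsocStd_helper3
import Mathlib.RingTheory.WittVector.Complete

/-!
# Helper library for the `Isoc` statements (helper3): Fitting decomposition of an effective
isocrystal (unit-root part and topologically nilpotent part)
-/

set_option autoImplicit false
set_option linter.unusedSectionVars false

noncomputable section

open scoped Pointwise Isocrystal
open Filter Topology

universe u v w

namespace Groth.Agent.Lib.IsocFit_helper3

open Isoc Groth.Agent.Lib.Isoc_helper3 Groth.Agent.Lib.IsocMat_helper3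
  Groth.Agent.Lib.IsocOrd_helper3 Groth.Agent.Lib.IsocSlope_helper3 Groth.Agent.Lib.IsocEff_helper3
  Groth.Agent.Lib.IsocEff2_helper3 Groth.Agent.Lib.IsocRat_helper3 Groth.Agent.Lib.IsocRat2_helper3
  Groth.Agent.Lib.IsocIsocl_helper3 Groth.Agent.Lib.IsocSub_helper3 Groth.Agent.Lib.IsocUniq_helper3
  Groth.Agent.Lib.IsocSlopePart_helper3

variable {p : ℕ} [Fact p.Prime] {k : Type u} [Field k] [CharP k p] [PerfectRing k p]
variable {N : Type v} [AddCommGroup N] [Module (WittVector p k) N] [Module K(p, k) N]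
  [IsScalarTower (WittVector p k) K(p, k) N]
variable {τ : K(p, k) →+* K(p, k)} {h : ℕ}

/-! ### Stabilisation of chains of lattices -/

lemma exists_stable_of_antitone (b : Module.Basis (Fin h) K(p, k) N)
    (X : ℕ → Submodule (WittVector p k) N) (hX : ∀ j, (X j).IsLattice K(p, k))
    (hanti : ∀ {i j}, i ≤ j → X j ≤ X i) {Y : Submodule (WittVector p k) N}
    (hY : Y.IsLattice K(p, k)) (hle : ∀ j, Y ≤ X j) : ∃ n₀, ∀ n, n₀ ≤ n → X n = X n₀ := by
  choose v hv using fun j => exists_isVol b (hX j)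
  obtain ⟨w, hw⟩ := exists_isVol b hY
  have hbd : ∀ j, v j ≤ w := fun j => (isVol_le b (hle j) hw (hv j)).1
  obtain ⟨ub, ⟨n₀, hn₀⟩, hub⟩ := Int.exists_greatest_of_bdd (P := fun z => ∃ j, v j = z)
    ⟨w, by rintro z ⟨j, rfl⟩; exact hbd j⟩ ⟨v 0, 0, rfl⟩
  refine ⟨n₀, fun n hn => ?_⟩
  have h1 := isVol_le b (hanti hn) (hv n) (hv n₀)
  have h2 : v n ≤ ub := hub _ ⟨n, rfl⟩
  exact h1.2 (by omega)

/-! ### Iterates -/

lemma iterate_add' (Φ : N →ₛₗ[τ] N) (n : ℕ) (x y : N) :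
    (⇑Φ)^[n] (x + y) = (⇑Φ)^[n] x + (⇑Φ)^[n] y := by
  rw [← iter_apply, map_add]; rfl

lemma iterate_sub' (Φ : N →ₛₗ[τ] N) (n : ℕ) (x y : N) :
    (⇑Φ)^[n] (x - y) = (⇑Φ)^[n] x - (⇑Φ)^[n] y := by
  rw [← iter_apply, map_sub]; rfl

lemma iterate_zpow_smul (Φ : N →ₛₗ[τ] N) (n : ℕ) (r : ℤ) (x : N) :
    (⇑Φ)^[n] ((p : K(p, k)) ^ r • x) = (p : K(p, k)) ^ r • (⇑Φ)^[n] x := by
  rw [← iter_apply, map_zpow_smul]; rfl

lemma iterate_mem_pPow (Φ : N →ₛₗ[τ] N) (hτ : Good τ) {M : Submodule (WittVector p k) N}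
    (hΦM : latImg Φ 1 M ≤ M) (n : ℕ) (c : ℤ) {x : N} (hx : x ∈ pPow c M) :
    (⇑Φ)^[n] x ∈ pPow c M := by
  rw [mem_pPow_iff] at hx ⊢
  rw [← iterate_zpow_smul]
  exact latImg_le_of_effective Φ hτ hΦM n ((mem_latImg Φ hτ n M _).mpr ⟨_, hx, rfl⟩)

lemma iterate_mem (Φ : N →ₛₗ[τ] N) (hτ : Good τ) {M : Submodule (WittVector p k) N}
    (hΦM : latImg Φ 1 M ≤ M) (n : ℕ) {x : N} (hx : x ∈ M) : (⇑Φ)^[n] x ∈ M :=
  latImg_le_of_effective Φ hτ hΦM n ((mem_latImg Φ hτ n M _).mpr ⟨_, hx, rfl⟩)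

lemma iterate_mem_pPow_of_le (Φ : N →ₛₗ[τ] N) (hτ : Good τ) {M : Submodule (WittVector p k) N}
    (hΦM : latImg Φ 1 M ≤ M) {n m : ℕ} (hnm : n ≤ m) (c : ℤ) {x : N}
    (hx : (⇑Φ)^[n] x ∈ pPow c M) : (⇑Φ)^[m] x ∈ pPow c M := by
  obtain ⟨j, rfl⟩ := Nat.exists_eq_add_of_le hnm
  rw [add_comm, Function.iterate_add_apply]
  exact iterate_mem_pPow Φ hτ hΦM j c hx

lemma pPow_natCast_le (M : Submodule (WittVector p k) N) (c : ℕ) : pPow (c : ℤ) M ≤ M := by
  have := pPow_anti (show (0 : ℤ) ≤ c by positivity) M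
  rwa [pPow_zero] at this

/-! ### Fitting decomposition at a finite level -/

section Level

variable (b : Module.Basis (Fin h) K(p, k) N) (Φ : N →ₛₗ[τ] N) (hτ : Good τ)
  (hΦ : Function.Bijective Φ) {M : Submodule (WittVector p k) N} (hM : M.IsLattice K(p, k))
  (hΦM : latImg Φ 1 M ≤ M)

include b hτ hΦ hM hΦM

/-- stabilisation of the image chain modulo `p^c`. -/
lemma exists_stable_img (c : ℕ) :
    ∃ n₀, ∀ n, n₀ ≤ n → latImg Φ n M ⊔ pPow (c : ℤ) M = latImg Φ n₀ M ⊔ pPow (c : ℤ) M := by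
  apply exists_stable_of_antitone b (fun j => latImg Φ j M ⊔ pPow (c : ℤ) M) ?_ ?_
    (pPow_isLattice (c : ℤ) hM) (fun j => le_sup_right)
  · intro j
    have h1 := latImg_isLattice Φ hτ hΦ j hM
    have h2 := pPow_isLattice (c : ℤ) hM
    exact Submodule.IsLattice.sup _ _ _
  · intro i j hij
    exact sup_le_sup_right (latImg_antitone_of_effective Φ hτ hΦM hij) _

/-- stabilisation of the kernel chain modulo `p^c`. -/
lemma exists_stable_ker (c : ℕ) :
    ∃ n₁, ∀ n, n₁ ≤ n → ∀ y ∈ M, (⇑Φ)^[n] y ∈ pPow (c : ℤ) M → (⇑Φ)^[n₁] y ∈ pPow (c : ℤ) M := by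
  have hnoeth : IsNoetherian (WittVector p k) M := isNoetherian_of_fg_of_noetherian M hM.fg
  let f : ℕ →o Submodule (WittVector p k) M :=
    { toFun := fun n =>
        { carrier := {y | (⇑Φ)^[n] (y : N) ∈ pPow (c : ℤ) M}
          add_mem' := by
            intro x y hx hy
            simp only [Set.mem_ofPred_eq, Submodule.coe_add] at hx hy ⊢
            rw [iterate_add']; exact Submodule.add_mem _ hx hy
          zero_mem' := by
            simp only [Set.mem_ofPred_eq, ZeroMemClass.coe_zero]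
            rw [iterate_zero]; exact Submodule.zero_mem _
          smul_mem' := by
            intro w x hx
            simp only [Set.mem_ofPred_eq, Submodule.coe_smul] at hx ⊢
            obtain ⟨w', hw'⟩ := (hτ.pow n).map_W w
            rw [← iter_apply, ← IsScalarTower.algebraMap_smul K(p, k) w (x : N), map_smulₛₗ, hw',
              IsScalarTower.algebraMap_smul, iter_apply]
            exact Submodule.smul_mem _ _ hx }
      monotone' := by
        intro n m hnm y hy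
        exact iterate_mem_pPow_of_le Φ hτ hΦM hnm _ hy }
  obtain ⟨n₁, hn₁⟩ := monotone_stabilizes_iff_noetherian.mpr hnoeth f
  refine ⟨n₁, fun n hn y hy hyn => ?_⟩
  have : (⟨y, hy⟩ : M) ∈ f n := hyn
  rw [← hn₁ n hn] at this
  exact this

/-- Fitting decomposition modulo `p^c`: existence. -/
lemma exists_decomp_level (c : ℕ) {x : N} (hx : x ∈ M) :
    ∃ a b' : N, x = a + b' ∧ a ∈ M ∧ (∀ m, a ∈ latImg Φ m M ⊔ pPow (c : ℤ) M) ∧ b' ∈ M ∧
      ∃ n, (⇑Φ)^[n] b' ∈ pPow (c : ℤ) M := by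
  obtain ⟨n₀, hn₀⟩ := exists_stable_img b Φ hτ hΦ hM hΦM c
  have hx1 : (⇑Φ)^[n₀] x ∈ latImg Φ (n₀ + n₀) M ⊔ pPow (c : ℤ) M := by
    rw [hn₀ (n₀ + n₀) (by omega)]
    exact Submodule.mem_sup_left ((mem_latImg Φ hτ n₀ M _).mpr ⟨x, hx, rfl⟩)
  obtain ⟨u, hu, v', hv', huv⟩ := Submodule.mem_sup.mp hx1
  obtain ⟨y, hy, rfl⟩ := (mem_latImg Φ hτ (n₀ + n₀) M u).mp hu
  have hyM : (⇑Φ)^[n₀] y ∈ M := iterate_mem Φ hτ hΦM n₀ hy
  refine ⟨(⇑Φ)^[n₀] y, x - (⇑Φ)^[n₀] y, by abel, hyM, fun m => ?_, M.sub_mem hx hyM, n₀, ?_⟩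
  · have hmem : (⇑Φ)^[n₀] y ∈ latImg Φ n₀ M ⊔ pPow (c : ℤ) M :=
      Submodule.mem_sup_left ((mem_latImg Φ hτ n₀ M _).mpr ⟨y, hy, rfl⟩)
    rcases le_total m n₀ with hm | hm
    · exact sup_le_sup_right (latImg_antitone_of_effective Φ hτ hΦM hm) _ hmem
    · rw [hn₀ m hm]; exact hmem
  · rw [iterate_sub', ← Function.iterate_add_apply, ← huv]
    simpa using hv'

/-- Fitting decomposition modulo `p^c`: the two parts meet in `p^c M`. -/
lemma mem_pPow_of_mem_level (c : ℕ) {a : N}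
    (ha : ∀ m, a ∈ latImg Φ m M ⊔ pPow (c : ℤ) M) {n' : ℕ} (han : (⇑Φ)^[n'] a ∈ pPow (c : ℤ) M) :
    a ∈ pPow (c : ℤ) M := by
  obtain ⟨n₁, hn₁⟩ := exists_stable_ker b Φ hτ hΦ hM hΦM c
  set n := max n₁ n' with hn
  have han' : (⇑Φ)^[n] a ∈ pPow (c : ℤ) M :=
    iterate_mem_pPow_of_le Φ hτ hΦM (le_max_right _ _) _ han
  obtain ⟨u, hu, z, hz, rfl⟩ := Submodule.mem_sup.mp (ha n)
  obtain ⟨y, hy, rfl⟩ := (mem_latImg Φ hτ n M u).mp hu
  rw [iterate_add', ← Function.iterate_add_apply] at han'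
  have hz' : (⇑Φ)^[n] z ∈ pPow (c : ℤ) M := iterate_mem_pPow Φ hτ hΦM n _ hz
  have hy2 : (⇑Φ)^[n + n] y ∈ pPow (c : ℤ) M := by
    have := Submodule.sub_mem _ han' hz'
    rwa [add_sub_cancel_right] at this
  have hy1 : (⇑Φ)^[n₁] y ∈ pPow (c : ℤ) M := hn₁ (n + n) (by omega) y hy hy2
  have hy3 : (⇑Φ)^[n] y ∈ pPow (c : ℤ) M :=
    iterate_mem_pPow_of_le Φ hτ hΦM (le_max_left _ _) _ hy1
  exact Submodule.add_mem _ hy3 hz

end Level

/-! ### Completeness of lattices -/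

lemma witt_complete (f : ℕ → WittVector p k)
    (hf : ∀ c, (p : WittVector p k) ^ c ∣ f (c + 1) - f c) :
    ∃ l : WittVector p k, ∀ c, (p : WittVector p k) ^ c ∣ l - f c := by
  have hmem : ∀ (c : ℕ) (z : WittVector p k),
      z ∈ (Ideal.span {(p : WittVector p k)} ^ c • ⊤ : Submodule (WittVector p k) (WittVector p k)) ↔
        (p : WittVector p k) ^ c ∣ z := by
    intro c z
    rw [smul_eq_mul, Ideal.mul_top, Ideal.span_singleton_pow, Ideal.mem_span_singleton]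
  have hmn : ∀ {m n}, m ≤ n → f m ≡ f n
      [SMOD (Ideal.span {(p : WittVector p k)} ^ m • ⊤ :
        Submodule (WittVector p k) (WittVector p k))] := by
    intro m n hmn
    rw [SModEq.sub_mem, hmem]
    induction n, hmn using Nat.le_induction with
    | base => simp
    | succ n hn ih =>
      have h1 : (p : WittVector p k) ^ m ∣ f (n + 1) - f n :=
        (pow_dvd_pow _ hn).trans (hf n)
      have : f m - f (n + 1) = (f m - f n) - (f (n + 1) - f n) := by ring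
      rw [this]
      exact dvd_sub ih h1
  obtain ⟨l, hl⟩ := IsPrecomplete.prec' (I := Ideal.span {(p : WittVector p k)}) f hmn
  refine ⟨l, fun c => ?_⟩
  have := hl c
  rw [SModEq.sub_mem, hmem] at this
  rwa [dvd_sub_comm]

lemma natCast_pow_smul (c : ℕ) (z : N) :
    ((p : WittVector p k) ^ c) • z = (p : K(p, k)) ^ (c : ℤ) • z := by
  rw [← IsScalarTower.algebraMap_smul K(p, k) ((p : WittVector p k) ^ c) z, map_pow, map_natCast,
    zpow_natCast]

/-- lattices are `p`-adically complete. -/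
lemma exists_limit {M : Submodule (WittVector p k) N} (hM : M.IsLattice K(p, k)) (a : ℕ → N)
    (ha : ∀ c, a c ∈ M) (hc : ∀ c : ℕ, a (c + 1) - a c ∈ pPow (c : ℤ) M) :
    ∃ x ∈ M, ∀ c : ℕ, x - a c ∈ pPow (c : ℤ) M := by
  have := hM
  let e := Module.Free.chooseBasis (WittVector p k) M
  have key1 : ∀ (c : ℕ) (y : M), (y : N) ∈ pPow (c : ℤ) M → ∀ j, (p : WittVector p k) ^ c ∣ e.repr y j := by
    intro c y hy j
    rw [mem_pPow_iff] at hy
    have hyz : y = ((p : WittVector p k) ^ c) • (⟨_, hy⟩ : M) := by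
      apply Subtype.ext
      rw [Submodule.coe_smul, natCast_pow_smul, smul_smul, ← zpow_add₀ p_ne_zero, add_neg_cancel,
        zpow_zero, one_smul]
    rw [hyz, map_smul, Finsupp.smul_apply, smul_eq_mul]
    exact dvd_mul_right _ _
  have key2 : ∀ (c : ℕ) (y : M), (∀ j, (p : WittVector p k) ^ c ∣ e.repr y j) →
      (y : N) ∈ pPow (c : ℤ) M := by
    intro c y hy
    choose g hg using hy
    have hyz : y = ((p : WittVector p k) ^ c) • ∑ j, g j • e j := by
      rw [Finset.smul_sum]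
      conv_lhs => rw [← e.sum_repr y]
      refine Finset.sum_congr rfl fun j _ => ?_
      rw [hg j, mul_smul]
    rw [hyz, Submodule.coe_smul, natCast_pow_smul]
    exact smul_mem_pPow (Submodule.coe_mem _)
  have hcauchy : ∀ j c, (p : WittVector p k) ^ c ∣
      e.repr ⟨a (c + 1), ha (c + 1)⟩ j - e.repr ⟨a c, ha c⟩ j := by
    intro j c
    have := key1 c (⟨a (c + 1), ha (c + 1)⟩ - ⟨a c, ha c⟩) (hc c) j
    rwa [map_sub, Finsupp.sub_apply] at this
  choose l hl using fun j => witt_complete (fun c => e.repr ⟨a c, ha c⟩ j) (hcauchy j)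
  refine ⟨((∑ j, l j • e j : M) : N), Submodule.coe_mem _, fun c => ?_⟩
  have := key2 c ((∑ j, l j • e j) - ⟨a c, ha c⟩) (fun j => by
    rw [map_sub, Finsupp.sub_apply, e.repr_sum_self]
    exact hl j c)
  exact this

/-! ### The Fitting decomposition of a lattice -/

/-- Fitting decomposition of an effective lattice: every element is the sum of an element of
`⋂ Φ^n M` and a topologically nilpotent element. -/
theorem fitting (b : Module.Basis (Fin h) K(p, k) N) (Φ : N →ₛₗ[τ] N) (hτ : Good τ)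
    (hΦ : Function.Bijective Φ) {M : Submodule (WittVector p k) N} (hM : M.IsLattice K(p, k))
    (hΦM : latImg Φ 1 M ≤ M) {x : N} (hx : x ∈ M) :
    ∃ x₀ x₁ : N, x = x₀ + x₁ ∧ (∀ n, x₀ ∈ latImg Φ n M) ∧ x₁ ∈ M ∧
      ∀ c : ℕ, ∃ n, (⇑Φ)^[n] x₁ ∈ pPow (c : ℤ) M := by
  choose a b' hab haM haA hbM hbn using
    fun c : ℕ => exists_decomp_level b Φ hτ hΦ hM hΦM c hx
  have hcauchy : ∀ c : ℕ, a (c + 1) - a c ∈ pPow (c : ℤ) M := by
    intro c
    obtain ⟨n, hn⟩ := hbn c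
    obtain ⟨n', hn'⟩ := hbn (c + 1)
    apply mem_pPow_of_mem_level b Φ hτ hΦ hM hΦM c (a := a (c + 1) - a c) (n' := max n n')
    · intro m
      have h1 : a (c + 1) ∈ latImg Φ m M ⊔ pPow (c : ℤ) M :=
        sup_le_sup_left (pPow_anti (by push_cast; omega) M) _ (haA (c + 1) m)
      exact Submodule.sub_mem _ h1 (haA c m)
    · have heq : a (c + 1) - a c = b' c - b' (c + 1) := by
        rw [sub_eq_sub_iff_add_eq_add, ← hab (c + 1), add_comm, ← hab c]
      rw [heq, iterate_sub']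
      refine Submodule.sub_mem _ (iterate_mem_pPow_of_le Φ hτ hΦM (le_max_left _ _) _ hn) ?_
      have h2 : (⇑Φ)^[n'] (b' (c + 1)) ∈ pPow (c : ℤ) M :=
        pPow_anti (by push_cast; omega) M hn'
      exact iterate_mem_pPow_of_le Φ hτ hΦM (le_max_right _ _) _ h2
  obtain ⟨x₀, hx₀M, hx₀⟩ := exists_limit hM a haM hcauchy
  refine ⟨x₀, x - x₀, by abel, ?_, M.sub_mem hx hx₀M, ?_⟩
  · intro n
    obtain ⟨c, hc⟩ := exists_le_pPow hM.fg (latImg_isLattice Φ hτ hΦ n hM).span_eq_top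
    have hc' : pPow (c : ℤ) M ≤ latImg Φ n M := by
      have := pPow_mono (c : ℤ) hc
      rwa [pPow_pPow, add_neg_cancel, pPow_zero] at this
    have h1 : a c ∈ latImg Φ n M := by
      have := haA c n
      rwa [sup_eq_left.mpr hc'] at this
    have h2 : x₀ - a c ∈ latImg Φ n M := hc' (hx₀ c)
    have := Submodule.add_mem _ h2 h1
    rwa [sub_add_cancel] at this
  · intro c
    obtain ⟨n, hn⟩ := hbn c
    refine ⟨n, ?_⟩
    have heq : x - x₀ = b' c - (x₀ - a c) := by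
      have := hab c
      rw [sub_eq_sub_iff_add_eq_add]
      rw [this]; abel
    rw [heq, iterate_sub']
    exact Submodule.sub_mem _ hn (iterate_mem_pPow Φ hτ hΦM n _ (hx₀ c))

/-! ### The unit-root part and the topologically nilpotent part -/

/-- the topologically nilpotent elements of an effective lattice. -/
def nilLat (Φ : N →ₛₗ[τ] N) (hτ : Good τ) (M : Submodule (WittVector p k) N)
    (hΦM : latImg Φ 1 M ≤ M) : Submodule (WittVector p k) N where
  carrier := {x | x ∈ M ∧ ∀ c : ℕ, ∃ n, (⇑Φ)^[n] x ∈ pPow (c : ℤ) M}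
  add_mem' := by
    rintro x y ⟨hx, hx'⟩ ⟨hy, hy'⟩
    refine ⟨M.add_mem hx hy, fun c => ?_⟩
    obtain ⟨n, hn⟩ := hx' c
    obtain ⟨n', hn'⟩ := hy' c
    refine ⟨max n n', ?_⟩
    rw [iterate_add']
    exact Submodule.add_mem _ (iterate_mem_pPow_of_le Φ hτ hΦM (le_max_left _ _) _ hn)
      (iterate_mem_pPow_of_le Φ hτ hΦM (le_max_right _ _) _ hn')
  zero_mem' := ⟨M.zero_mem, fun c => ⟨0, by simp⟩⟩
  smul_mem' := by
    rintro w x ⟨hx, hx'⟩
    refine ⟨M.smul_mem w hx, fun c => ?_⟩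
    obtain ⟨n, hn⟩ := hx' c
    refine ⟨n, ?_⟩
    obtain ⟨w', hw'⟩ := (hτ.pow n).map_W w
    rw [← iter_apply, ← IsScalarTower.algebraMap_smul K(p, k) w x, map_smulₛₗ, hw',
      IsScalarTower.algebraMap_smul, iter_apply]
    exact Submodule.smul_mem _ _ hn

lemma mem_nilLat {Φ : N →ₛₗ[τ] N} {hτ : Good τ} {M : Submodule (WittVector p k) N}
    {hΦM : latImg Φ 1 M ≤ M} {x : N} :
    x ∈ nilLat Φ hτ M hΦM ↔ x ∈ M ∧ ∀ c : ℕ, ∃ n, (⇑Φ)^[n] x ∈ pPow (c : ℤ) M := Iff.rfl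

/-- the unit-root lattice `⋂ Φ^n M`. -/
def unitLat (Φ : N →ₛₗ[τ] N) (M : Submodule (WittVector p k) N) : Submodule (WittVector p k) N :=
  ⨅ n, latImg Φ n M

lemma mem_unitLat {Φ : N →ₛₗ[τ] N} {M : Submodule (WittVector p k) N} {x : N} :
    x ∈ unitLat Φ M ↔ ∀ n, x ∈ latImg Φ n M := Submodule.mem_iInf _

lemma unitLat_le (Φ : N →ₛₗ[τ] N) (hτ : Good τ) (M : Submodule (WittVector p k) N) :
    unitLat Φ M ≤ M := by
  intro x hx
  have := mem_unitLat.mp hx 0
  rwa [latImg_zero Φ hτ] at this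

/-- `Φ` maps the unit-root lattice onto itself. -/
lemma latImg_unitLat (Φ : N →ₛₗ[τ] N) (hτ : Good τ) (hΦ : Function.Injective Φ)
    {M : Submodule (WittVector p k) N} (hΦM : latImg Φ 1 M ≤ M) :
    latImg Φ 1 (unitLat Φ M) = unitLat Φ M := by
  ext y
  rw [mem_latImg Φ hτ]
  constructor
  · rintro ⟨x, hx, rfl⟩
    rw [mem_unitLat] at hx ⊢
    intro n
    cases n with
    | zero =>
      rw [latImg_zero Φ hτ]
      have h0 := hx 0
      rw [latImg_zero Φ hτ] at h0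
      exact iterate_mem Φ hτ hΦM 1 h0
    | succ m =>
      obtain ⟨z, hz, rfl⟩ := (mem_latImg Φ hτ m M x).mp (hx m)
      refine (mem_latImg Φ hτ (m + 1) M _).mpr ⟨z, hz, ?_⟩
      rw [Function.iterate_succ_apply', Function.iterate_one]
  · intro hy
    rw [mem_unitLat] at hy
    have hz := fun n => (mem_latImg Φ hτ (n + 1) M y).mp (hy (n + 1))
    choose z hzM hzy using hz
    refine ⟨z 0, ?_, hzy 0⟩
    rw [mem_unitLat]
    intro n
    rw [mem_latImg Φ hτ]
    refine ⟨z n, hzM n, ?_⟩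
    apply hΦ
    have h1 := hzy n
    rw [Function.iterate_succ_apply'] at h1
    rw [h1]
    have h0 := hzy 0
    simpa using h0.symm

/-- semilinear maps preserve spans of stable sets. -/
lemma map_mem_span {τ' : K(p, k) →+* K(p, k)} (F : N →ₛₗ[τ'] N) {S S' : Set N}
    (hS : ∀ x ∈ S, F x ∈ Submodule.span K(p, k) S') {x : N}
    (hx : x ∈ Submodule.span K(p, k) S) : F x ∈ Submodule.span K(p, k) S' := by
  induction hx using Submodule.span_induction with
  | mem x hx => exact hS x hx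
  | zero => rw [map_zero]; exact Submodule.zero_mem _
  | add x y _ _ hx hy => rw [map_add]; exact Submodule.add_mem _ hx hy
  | smul c x _ hx => rw [map_smulₛₗ]; exact Submodule.smul_mem _ _ hx

lemma commute_iterate {τ' : K(p, k) →+* K(p, k)} (F : N →ₛₗ[τ'] N) (Φ : N →ₛₗ[τ] N)
    (hcomm : ∀ x, F (Φ x) = Φ (F x)) (n : ℕ) (x : N) : F ((⇑Φ)^[n] x) = (⇑Φ)^[n] (F x) := by
  induction n with
  | zero => rfl
  | succ n ih => rw [Function.iterate_succ_apply', hcomm, ih, ← Function.iterate_succ_apply' (⇑Φ)]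

section Stable

variable {τ' : K(p, k) →+* K(p, k)} (F : N →ₛₗ[τ'] N) (hτ' : Good τ') (Φ : N →ₛₗ[τ] N)
  (hτ : Good τ) (hcomm : ∀ x, F (Φ x) = Φ (F x)) {M : Submodule (WittVector p k) N}
  (hM : M.IsLattice K(p, k)) (hΦM : latImg Φ 1 M ≤ M)

include hτ' hM in
lemma exists_bound : ∃ c₀ : ℕ, ∀ x ∈ M, (p : K(p, k)) ^ (c₀ : ℤ) • F x ∈ M := by
  obtain ⟨c₀, hc₀⟩ := exists_le_pPow (simg_fg F hτ' hM.fg) hM.span_eq_top
  refine ⟨c₀, fun x hx => ?_⟩
  have := hc₀ (mem_simg.mpr ⟨x, hx, rfl⟩)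
  rwa [mem_pPow_iff, neg_neg] at this

include hτ' hτ hcomm hM in
/-- the unit-root part is stable under every map commuting with `Φ`. -/
lemma unit_stable (x : N) (hx : x ∈ Submodule.span K(p, k) (unitLat Φ M : Set N)) :
    F x ∈ Submodule.span K(p, k) (unitLat Φ M : Set N) := by
  obtain ⟨c₀, hc₀⟩ := exists_bound F hτ' hM
  refine map_mem_span F (fun x hx => ?_) hx
  have hmem : (p : K(p, k)) ^ (c₀ : ℤ) • F x ∈ unitLat Φ M := by
    rw [mem_unitLat]
    intro n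
    obtain ⟨y, hy, rfl⟩ := (mem_latImg Φ hτ n M x).mp (mem_unitLat.mp hx n)
    rw [mem_latImg Φ hτ]
    refine ⟨(p : K(p, k)) ^ (c₀ : ℤ) • F y, hc₀ y hy, ?_⟩
    rw [iterate_zpow_smul, commute_iterate F Φ hcomm]
  have := Submodule.smul_mem _ ((p : K(p, k)) ^ (c₀ : ℤ))⁻¹ (Submodule.subset_span hmem)
  rwa [smul_smul, inv_mul_cancel₀ (zpow_p_ne_zero _), one_smul] at this

include hτ' hτ hcomm hM in
/-- the topologically nilpotent part is stable under every map commuting with `Φ`. -/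
lemma nil_stable (x : N) (hx : x ∈ Submodule.span K(p, k) (nilLat Φ hτ M hΦM : Set N)) :
    F x ∈ Submodule.span K(p, k) (nilLat Φ hτ M hΦM : Set N) := by
  obtain ⟨c₀, hc₀⟩ := exists_bound F hτ' hM
  refine map_mem_span F (fun x hx => ?_) hx
  obtain ⟨hxM, hx'⟩ := mem_nilLat.mp hx
  have hmem : (p : K(p, k)) ^ (c₀ : ℤ) • F x ∈ nilLat Φ hτ M hΦM := by
    refine mem_nilLat.mpr ⟨hc₀ x hxM, fun c => ?_⟩
    obtain ⟨n, hn⟩ := hx' c
    refine ⟨n, ?_⟩
    rw [iterate_zpow_smul, ← commute_iterate F Φ hcomm]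
    rw [mem_pPow_iff] at hn ⊢
    have := hc₀ _ hn
    rwa [map_zpow_smul, smul_comm] at this
  have := Submodule.smul_mem _ ((p : K(p, k)) ^ (c₀ : ℤ))⁻¹ (Submodule.subset_span hmem)
  rwa [smul_smul, inv_mul_cancel₀ (zpow_p_ne_zero _), one_smul] at this

end Stable

end Groth.Agent.Lib.IsocFit_helper3
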