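import Groth.Agent.Lib.IsocRat2_helper3

/-!
# Helper library for the `Isoc` statements (helper3): isoclinic isocrystals
-/

set_option autoImplicit false
set_option linter.unusedSectionVars false

noncomputable section

open scoped Pointwise Isocrystal
open Filter Topology

universe u v w

namespace Groth.Agent.Lib.IsocIsocl_helper3

open Isoc Groth.Agent.Lib.Isoc_helper3 Groth.Agent.Lib.IsocMat_helper3
  Groth.Agent.Lib.IsocOrd_helper3 Groth.Agent.Lib.IsocSlope_helper3 Groth.Agent.Lib.IsocEff_helper3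
  Groth.Agent.Lib.IsocEff2_helper3 Groth.Agent.Lib.IsocRat_helper3 Groth.Agent.Lib.IsocRat2_helper3

variable {p : ℕ} [Fact p.Prime] {k : Type u} [Field k] [CharP k p] [PerfectRing k p]
variable {N : Type v} [AddCommGroup N] [Module (WittVector p k) N] [Module K(p, k) N]
  [IsScalarTower (WittVector p k) K(p, k) N]
variable {N' : Type w} [AddCommGroup N'] [Module (WittVector p k) N'] [Module K(p, k) N']
  [IsScalarTower (WittVector p k) K(p, k) N']
variable {τ : K(p, k) →+* K(p, k)}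

/-- isoclinic of slope `μ` on the subspace `P`, expressed inside `N`. -/
def IsIsoclinicIn (F : N →ₛₗ[τ] N) (P : Submodule K(p, k) N) (μ : ℚ) : Prop :=
  ∃ M : Submodule (WittVector p k) N, M.FG ∧ Submodule.span K(p, k) (M : Set N) = P ∧
    ∃ (r : ℤ) (s : ℕ), 0 < s ∧ (r : ℚ) / s = μ ∧ latImg F s M = pPow r M

lemma isIsoclinic_iff_top (F : N →ₛₗ[τ] N) (μ : ℚ) : IsIsoclinic F μ ↔ IsIsoclinicIn F ⊤ μ := by
  constructor
  · rintro ⟨M, hM, r, s, hs, hrs, heq⟩
    exact ⟨M, hM.fg, hM.span_eq_top, r, s, hs, hrs, heq⟩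
  · rintro ⟨M, hfg, hspan, r, s, hs, hrs, heq⟩
    exact ⟨M, ⟨hfg, hspan⟩, r, s, hs, hrs, heq⟩

/-! ### Equivariant maps -/

lemma iterate_equivariant {F : N →ₛₗ[τ] N} {F' : N' →ₛₗ[τ] N'} (g : N →ₗ[K(p, k)] N')
    (hg : ∀ x, g (F x) = F' (g x)) (s : ℕ) (x : N) : g ((⇑F)^[s] x) = (⇑F')^[s] (g x) := by
  induction s generalizing x with
  | zero => rfl
  | succ s ih => rw [Function.iterate_succ_apply, Function.iterate_succ_apply, ih, hg]

lemma map_pPow (g : N →ₗ[K(p, k)] N') (r : ℤ) (M : Submodule (WittVector p k) N) :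
    (pPow r M).map (g.restrictScalars (WittVector p k)) =
      pPow r (M.map (g.restrictScalars (WittVector p k))) := by
  ext y
  rw [Submodule.mem_map, mem_pPow_iff, Submodule.mem_map]
  constructor
  · rintro ⟨z, hz, rfl⟩
    rw [mem_pPow_iff] at hz
    exact ⟨_, hz, by simp⟩
  · rintro ⟨x, hx, hxy⟩
    refine ⟨(p : K(p, k)) ^ r • x, smul_mem_pPow hx, ?_⟩
    have : g ((p : K(p, k)) ^ r • x) = (p : K(p, k)) ^ r • g x := map_smul g _ _
    rw [LinearMap.restrictScalars_apply] at hxy ⊢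
    rw [this, hxy, smul_smul, ← zpow_add₀ p_ne_zero, add_neg_cancel, zpow_zero, one_smul]

lemma map_latImg {F : N →ₛₗ[τ] N} {F' : N' →ₛₗ[τ] N'} (hτ : Good τ) (g : N →ₗ[K(p, k)] N')
    (hg : ∀ x, g (F x) = F' (g x)) (s : ℕ) (M : Submodule (WittVector p k) N) :
    (latImg F s M).map (g.restrictScalars (WittVector p k)) =
      latImg F' s (M.map (g.restrictScalars (WittVector p k))) := by
  ext y
  rw [Submodule.mem_map, mem_latImg F' hτ]
  constructor
  · rintro ⟨z, hz, rfl⟩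
    rw [mem_latImg F hτ] at hz
    obtain ⟨x, hx, rfl⟩ := hz
    exact ⟨g x, Submodule.mem_map_of_mem (f := g.restrictScalars (WittVector p k)) hx,
      (iterate_equivariant g hg s x).symm⟩
  · rintro ⟨x', hx', rfl⟩
    obtain ⟨x, hx, rfl⟩ := Submodule.mem_map.mp hx'
    refine ⟨(⇑F)^[s] x, (mem_latImg F hτ s M _).mpr ⟨x, hx, rfl⟩, ?_⟩
    exact iterate_equivariant g hg s x

lemma span_map (g : N →ₗ[K(p, k)] N') (M : Submodule (WittVector p k) N) :
    Submodule.span K(p, k) ((M.map (g.restrictScalars (WittVector p k)) : Submodule _ N') : Set N') =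
      (Submodule.span K(p, k) (M : Set N)).map g := by
  rw [Submodule.map_span]
  rfl

/-- images of isoclinic subspaces under equivariant maps. -/
lemma IsIsoclinicIn.map' {F : N →ₛₗ[τ] N} {F' : N' →ₛₗ[τ] N'} (hτ : Good τ)
    (g : N →ₗ[K(p, k)] N') (hg : ∀ x, g (F x) = F' (g x)) {P : Submodule K(p, k) N} {μ : ℚ}
    (h : IsIsoclinicIn F P μ) : IsIsoclinicIn F' (P.map g) μ := by
  obtain ⟨M, hfg, hspan, r, s, hs, hrs, heq⟩ := h
  refine ⟨M.map (g.restrictScalars (WittVector p k)), hfg.map _, ?_, r, s, hs, hrs, ?_⟩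
  · rw [span_map, hspan]
  · rw [← map_latImg hτ g hg, heq, map_pPow]

/-! ### Bridging with restrictions -/

lemma isIsoclinicIn_of_restrict (F : N →ₛₗ[τ] N) (hτ : Good τ) (P : Submodule K(p, k) N)
    (hP : ∀ x ∈ P, F x ∈ P) {μ : ℚ} (h : IsIsoclinic (F.restrict hP) μ) : IsIsoclinicIn F P μ := by
  have := ((isIsoclinic_iff_top _ μ).mp h).map' hτ P.subtype (fun x => rfl) (F' := F)
  rwa [Submodule.map_subtype_top] at this

lemma isIsoclinic_restrict_of_in (F : N →ₛₗ[τ] N) (hτ : Good τ) (P : Submodule K(p, k) N)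
    (hP : ∀ x ∈ P, F x ∈ P) {μ : ℚ} (h : IsIsoclinicIn F P μ) : IsIsoclinic (F.restrict hP) μ := by
  obtain ⟨M, hfg, hspan, r, s, hs, hrs, heq⟩ := h
  set ι := (P.subtype).restrictScalars (WittVector p k) with hι
  have hinj : Function.Injective ι := P.injective_subtype
  have hMP : M ≤ LinearMap.range ι := by
    intro x hx
    have : x ∈ P := by rw [← hspan]; exact Submodule.subset_span hx
    exact ⟨⟨x, this⟩, rfl⟩
  have hmap : (M.comap ι).map ι = M := by
    rw [Submodule.map_comap_eq]; exact inf_eq_right.mpr hMP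
  refine ⟨M.comap ι, ⟨?_, ?_⟩, r, s, hs, hrs, ?_⟩
  · exact Submodule.fg_of_fg_map_injective ι hinj (by rw [hmap]; exact hfg)
  · apply Submodule.map_injective_of_injective P.injective_subtype
    rw [← span_map, hmap, hspan, Submodule.map_subtype_top]
  · apply Submodule.map_injective_of_injective hinj
    rw [map_latImg hτ P.subtype (fun x => rfl) (F' := F), map_pPow, hmap, heq]

/-! ### Sums -/

lemma IsIsoclinicIn.sup {F : N →ₛₗ[τ] N} (hτ : Good τ) {P₁ P₂ : Submodule K(p, k) N} {μ : ℚ}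
    (h₁ : IsIsoclinicIn F P₁ μ) (h₂ : IsIsoclinicIn F P₂ μ) : IsIsoclinicIn F (P₁ ⊔ P₂) μ := by
  obtain ⟨M₁, hfg₁, hspan₁, r₁, s₁, hs₁, hrs₁, heq₁⟩ := h₁
  obtain ⟨M₂, hfg₂, hspan₂, r₂, s₂, hs₂, hrs₂, heq₂⟩ := h₂
  refine ⟨M₁ ⊔ M₂, hfg₁.sup hfg₂, ?_, r₁ * s₂, s₁ * s₂, Nat.mul_pos hs₁ hs₂, ?_, ?_⟩
  · rw [← hspan₁, ← hspan₂]
    apply le_antisymm
    · rw [Submodule.span_le]
      intro x hx
      obtain ⟨y, hy, z, hz, rfl⟩ := Submodule.mem_sup.mp hx
      exact Submodule.add_mem _ (Submodule.mem_sup_left (Submodule.subset_span hy))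
        (Submodule.mem_sup_right (Submodule.subset_span hz))
    · apply sup_le
      · exact Submodule.span_mono (fun x hx => Submodule.mem_sup_left hx)
      · exact Submodule.span_mono (fun x hx => Submodule.mem_sup_right hx)
  · rw [← hrs₁]
    have : (s₂ : ℚ) ≠ 0 := by exact_mod_cast hs₂.ne'
    push_cast
    field_simp
  · have e₁ := latImg_eq_pPow_mul F hτ heq₁ s₂
    have e₂ := latImg_eq_pPow_mul F hτ heq₂ s₁
    have hr : (s₁ : ℤ) * r₂ = r₁ * s₂ := by
      have h1 : (s₁ : ℚ) ≠ 0 := by exact_mod_cast hs₁.ne'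
      have h2 : (s₂ : ℚ) ≠ 0 := by exact_mod_cast hs₂.ne'
      have : (r₁ : ℚ) / s₁ = r₂ / s₂ := by rw [hrs₁, hrs₂]
      rw [div_eq_div_iff h1 h2] at this
      have : ((s₁ : ℤ) * r₂ : ℚ) = ((r₁ * s₂ : ℤ) : ℚ) := by push_cast; linarith
      exact_mod_cast this
    rw [latImg_sup F hτ, pPow_sup]
    congr 1
    · rw [mul_comm s₁ s₂, e₁, mul_comm]
    · rw [e₂, hr]

end Groth.Agent.Lib.IsocIsocl_helper3
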