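import Groth.Agent.Lib.IsocLift_helper3

/-!
# Fixed vectors of lattices with `Φ M = M` in isocrystals over an algebraically closed field
(helper3)
-/

set_option autoImplicit false
set_option linter.unusedSectionVars false
set_option linter.style.haveILetI false

noncomputable section

open scoped Pointwise Isocrystal

universe u v

namespace Groth.Agent.Lib.IsocLiftApp_helper3

open Isoc Groth.Agent.Lib.Isoc_helper3 Groth.Agent.Lib.IsocFix_helper3
  Groth.Agent.Lib.IsocLift_helper3

variable {p : ℕ} [Fact p.Prime] {k : Type u} [Field k] [CharP k p] [PerfectRing k p]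

/-! ### Calculus of the twists `σ^a` -/

lemma frob_comp (a b : ℤ) : (frob p k a).comp (frob p k b) = frob p k (a + b) := by
  apply IsLocalization.ringHom_ext (nonZeroDivisors (WittVector p k))
  ext w
  simp only [RingHom.comp_apply]
  rw [frob_algebraMap, frob_algebraMap, frob_algebraMap, zpow_add]
  rfl

lemma frob_frob (a b : ℤ) (x : K(p, k)) : frob p k a (frob p k b x) = frob p k (a + b) x := by
  rw [← frob_comp]; rfl

lemma frob_pow (a : ℤ) (h : ℕ) : (frob p k a) ^ h = frob p k (a * h) := by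
  induction h with
  | zero => rw [pow_zero, Nat.cast_zero, mul_zero, frob_zero]; rfl
  | succ h ih =>
    rw [pow_succ, ih, RingHom.mul_def, frob_comp]
    congr 1
    push_cast; ring

lemma frob_neg_cancel (c : ℤ) (x : K(p, k)) : frob p k c (frob p k (-c) x) = x := by
  rw [frob_frob, add_neg_cancel, frob_zero]; rfl

lemma frobEquiv_zpow_natCast_apply (b : ℕ) (w : WittVector p k) :
    (WittVector.frobeniusEquiv p k ^ (b : ℤ)) w = (⇑(WittVector.frobenius (p := p) (R := k)))^[b] w := by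
  rw [zpow_natCast]
  induction b generalizing w with
  | zero => rfl
  | succ b ih =>
    rw [pow_succ, RingAut.mul_apply, ih, Function.iterate_succ_apply, WittVector.frobeniusEquiv_apply]

lemma constantCoeff_frobenius (w : WittVector p k) :
    WittVector.constantCoeff (WittVector.frobenius w) = (WittVector.constantCoeff w) ^ p := by
  rw [WittVector.constantCoeff_apply, WittVector.constantCoeff_apply,
    WittVector.coeff_frobenius_charP]

lemma constantCoeff_iterate_frobenius (b : ℕ) (w : WittVector p k) :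
    WittVector.constantCoeff ((⇑(WittVector.frobenius (p := p) (R := k)))^[b] w) =
      (WittVector.constantCoeff w) ^ (p ^ b) := by
  induction b with
  | zero => simp
  | succ b ih =>
    rw [Function.iterate_succ_apply', constantCoeff_frobenius, ih, ← pow_mul, ← pow_succ]

/-- the twist `σ^b` on `W`. -/
def sW (p : ℕ) [Fact p.Prime] (k : Type u) [Field k] [CharP k p] [PerfectRing k p] (b : ℕ) :
    WittVector p k →+* WittVector p k :=
  (WittVector.frobeniusEquiv p k ^ (b : ℤ) : WittVector p k ≃+* WittVector p k).toRingHom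

lemma sW_apply (b : ℕ) (w : WittVector p k) :
    sW p k b w = (WittVector.frobeniusEquiv p k ^ (b : ℤ)) w := rfl

lemma hs_sW (b : ℕ) (w : WittVector p k) :
    Ideal.Quotient.mk (Ip p k) (sW p k b w) = (Ideal.Quotient.mk (Ip p k) w) ^ (p ^ b) := by
  apply (WittVector.quotientPEquiv (p := p) (k := k)).injective
  rw [map_pow]
  show WittVector.constantCoeff (sW p k b w) = (WittVector.constantCoeff w) ^ (p ^ b)
  rw [sW_apply, frobEquiv_zpow_natCast_apply, constantCoeff_iterate_frobenius]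

/-! ### Inverse of a bijective semilinear map -/

section Inv

variable {N : Type v} [AddCommGroup N] [Module K(p, k) N]

/-- the inverse of a bijective semilinear map. -/
def invSemi {τ τ' : K(p, k) →+* K(p, k)} (Φ : N →ₛₗ[τ] N) (hΦ : Function.Bijective Φ)
    (hτ : ∀ x, τ (τ' x) = x) : N →ₛₗ[τ'] N where
  toFun := Function.surjInv hΦ.2
  map_add' x y := by
    apply hΦ.1
    have h := Function.surjInv_eq hΦ.2
    rw [map_add, h, h, h]
  map_smul' c x := by
    apply hΦ.1
    have h := Function.surjInv_eq hΦ.2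
    rw [map_smulₛₗ, h, h, hτ]

lemma invSemi_apply_apply {τ τ' : K(p, k) →+* K(p, k)} (Φ : N →ₛₗ[τ] N) (hΦ : Function.Bijective Φ)
    (hτ : ∀ x, τ (τ' x) = x) (x : N) : invSemi Φ hΦ hτ (Φ x) = x :=
  Function.leftInverse_surjInv hΦ x

lemma apply_invSemi_apply {τ τ' : K(p, k) →+* K(p, k)} (Φ : N →ₛₗ[τ] N) (hΦ : Function.Bijective Φ)
    (hτ : ∀ x, τ (τ' x) = x) (x : N) : Φ (invSemi Φ hΦ hτ x) = x :=
  Function.surjInv_eq hΦ.2 x

end Inv

/-! ### Fixed vectors -/

section Fixed

variable [IsAlgClosed k]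
variable {N : Type v} [AddCommGroup N] [Module (WittVector p k) N] [Module K(p, k) N]
  [IsScalarTower (WittVector p k) K(p, k) N]

theorem span_fixed_pos (b : ℕ) (hb : b ≠ 0) (Φ : N →ₛₗ[frob p k (b : ℤ)] N)
    (hinj : Function.Injective Φ) (M : Submodule (WittVector p k) N) (hfg : M.FG)
    (hM₁ : ∀ x ∈ M, Φ x ∈ M) (hM₂ : ∀ y ∈ M, ∃ x ∈ M, Φ x = y) :
    M ≤ Submodule.span (WittVector p k) {x | x ∈ M ∧ Φ x = x} := by
  let ΦM : ↥M →ₛₗ[sW p k b] ↥M :=
    { toFun := fun x => ⟨Φ x.1, hM₁ x.1 x.2⟩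
      map_add' := fun x y => Subtype.ext (map_add Φ x.1 y.1)
      map_smul' := fun w x => Subtype.ext (by
        show Φ (w • x.1) = sW p k b w • Φ x.1
        rw [← IsScalarTower.algebraMap_smul K(p, k) w x.1, map_smulₛₗ, frob_algebraMap,
          IsScalarTower.algebraMap_smul]
        rfl) }
  have hΦM : ∀ x : M, (ΦM x : N) = Φ x.1 := fun _ => rfl
  haveI : Module.Finite (WittVector p k) M := Module.Finite.iff_fg.mpr hfg
  haveI := Module.IsTorsionFree.trans_faithfulSMul (WittVector p k) K(p, k) N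
  haveI : IsAdicComplete (Ip p k) M :=
    Groth.Agent.Lib.AdicRetract.isAdicComplete_of_finite_projective (Ip p k) M
  have hinj' : ∀ m : M, (∃ u : M, ΦM m = (p : WittVector p k) • u) →
      ∃ u : M, m = (p : WittVector p k) • u := by
    rintro m ⟨u, hu⟩
    obtain ⟨x, hx, hxu⟩ := hM₂ u.1 u.2
    refine ⟨⟨x, hx⟩, Subtype.ext ?_⟩
    apply hinj
    have h1 : Φ m.1 = (p : WittVector p k) • u.1 := congrArg Subtype.val hu
    rw [h1]
    show _ = Φ ((p : WittVector p k) • x)
    rw [Nat.cast_smul_eq_nsmul, Nat.cast_smul_eq_nsmul, map_nsmul, hxu]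
  have htop := span_fixed_eq_top_lift (sW p k b) b hb (hs_sW b) ΦM hinj'
  intro m hm
  have h1 : (⟨m, hm⟩ : M) ∈ Submodule.span (WittVector p k) {x : M | ΦM x = x} := by
    rw [htop]; trivial
  have h2 := Submodule.apply_mem_span_image_of_mem_span M.subtype h1
  refine Submodule.span_mono ?_ h2
  rintro _ ⟨x, hx, rfl⟩
  exact ⟨x.2, congrArg Subtype.val hx⟩

/-- **Dieudonné's lemma**, lattice form: if `Φ` is a bijective `σ^c`-semilinear map (`c ≠ 0`)
and `M` is a finitely generated `W`-submodule with `Φ M = M`, then `M` is generated by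
`Φ`-fixed vectors. -/
theorem span_fixed (c : ℤ) (hc : c ≠ 0) (Φ : N →ₛₗ[frob p k c] N)
    (hΦ : Function.Bijective Φ) (M : Submodule (WittVector p k) N) (hfg : M.FG)
    (hM₁ : ∀ x ∈ M, Φ x ∈ M) (hM₂ : ∀ y ∈ M, ∃ x ∈ M, Φ x = y) :
    M ≤ Submodule.span (WittVector p k) {x | x ∈ M ∧ Φ x = x} := by
  rcases lt_or_gt_of_ne hc with hneg | hpos
  · obtain ⟨b, rfl⟩ : ∃ b : ℕ, c = -(b : ℤ) := ⟨(-c).toNat, by omega⟩
    have hb : b ≠ 0 := by rintro rfl; simp at hc
    let Ψ : N →ₛₗ[frob p k (b : ℤ)] N := invSemi Φ hΦ (fun x => by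
      have := frob_neg_cancel (p := p) (k := k) (-(b : ℤ)) x
      rwa [neg_neg] at this)
    have hΨΦ : ∀ x, Ψ (Φ x) = x := fun x => invSemi_apply_apply Φ hΦ _ x
    have hΦΨ : ∀ x, Φ (Ψ x) = x := fun x => apply_invSemi_apply Φ hΦ _ x
    have hΨinj : Function.Injective Ψ := fun x y h => by
      rw [← hΦΨ x, ← hΦΨ y, h]
    have key := span_fixed_pos b hb Ψ hΨinj M hfg
      (fun x hx => by
        obtain ⟨x', hx', rfl⟩ := hM₂ x hx
        rw [hΨΦ]; exact hx')
      (fun y hy => ⟨Φ y, hM₁ y hy, hΨΦ y⟩)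
    refine key.trans (Submodule.span_mono ?_)
    rintro x ⟨hx, hfix⟩
    refine ⟨hx, ?_⟩
    have := congrArg Φ hfix
    rw [hΦΨ] at this
    exact this.symm
  · obtain ⟨b, rfl⟩ : ∃ b : ℕ, c = (b : ℤ) := ⟨c.toNat, by omega⟩
    have hb : b ≠ 0 := by rintro rfl; simp at hc
    exact span_fixed_pos b hb Φ hΦ.1 M hfg hM₁ hM₂

end Fixed

end Groth.Agent.Lib.IsocLiftApp_helper3
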