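import Groth.Prelude.Def_Isoc
import Mathlib.Tactic

/-!
# Helper library for the `Isoc` statements (helper3): scalars and submodule calculus
-/

set_option autoImplicit false
set_option linter.unusedSectionVars false

noncomputable section

open scoped Pointwise Isocrystal

universe u v

namespace Groth.Agent.Lib.Isoc_helper3

open Isoc

variable {p : ℕ} [Fact p.Prime] {k : Type u} [Field k] [CharP k p] [PerfectRing k p]

/-! ### Good twists: ring endomorphisms of `L` mapping `W` onto `W` -/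

/-- `τ` maps `W` onto `W`. -/
structure Good (τ : K(p, k) →+* K(p, k)) : Prop where
  map_W : ∀ w : WittVector p k, ∃ w' : WittVector p k,
    τ (algebraMap (WittVector p k) K(p, k) w) = algebraMap (WittVector p k) K(p, k) w'
  surj_W : ∀ w' : WittVector p k, ∃ w : WittVector p k,
    τ (algebraMap (WittVector p k) K(p, k) w) = algebraMap (WittVector p k) K(p, k) w'

lemma good_frob (a : ℤ) : Good (frob p k a) where
  map_W w := ⟨_, frob_algebraMap p k a w⟩
  surj_W w' := ⟨(WittVector.frobeniusEquiv p k ^ a).symm w', by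
    rw [frob_algebraMap]; simp⟩

lemma good_id : Good (RingHom.id K(p, k)) where
  map_W w := ⟨w, rfl⟩
  surj_W w := ⟨w, rfl⟩

lemma Good.comp {τ τ' : K(p, k) →+* K(p, k)} (h : Good τ) (h' : Good τ') : Good (τ.comp τ') where
  map_W w := by
    obtain ⟨w₁, hw₁⟩ := h'.map_W w
    obtain ⟨w₂, hw₂⟩ := h.map_W w₁
    exact ⟨w₂, by rw [RingHom.comp_apply, hw₁, hw₂]⟩
  surj_W w := by
    obtain ⟨w₁, hw₁⟩ := h.surj_W w
    obtain ⟨w₂, hw₂⟩ := h'.surj_W w₁
    exact ⟨w₂, by rw [RingHom.comp_apply, hw₂, hw₁]⟩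

lemma Good.pow {τ : K(p, k) →+* K(p, k)} (h : Good τ) (n : ℕ) : Good (τ ^ n) := by
  induction n with
  | zero => exact good_id
  | succ n ih => rw [pow_succ']; exact h.comp ih

lemma p_ne_zero : (p : K(p, k)) ≠ 0 := WittVector.FractionRing.p_nonzero p k

lemma zpow_p_ne_zero (r : ℤ) : (p : K(p, k)) ^ r ≠ 0 := zpow_ne_zero r p_ne_zero

lemma map_p (τ : K(p, k) →+* K(p, k)) : τ (p : K(p, k)) = p := map_natCast τ p

lemma map_zpow_p (τ : K(p, k) →+* K(p, k)) (r : ℤ) : τ ((p : K(p, k)) ^ r) = (p : K(p, k)) ^ r := by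
  rw [map_zpow₀, map_p]

lemma algebraMap_injective :
    Function.Injective (algebraMap (WittVector p k) K(p, k)) :=
  IsFractionRing.injective _ _

/-- a good twist maps units of `W` to units of `W`. -/
lemma Good.map_unit {τ : K(p, k) →+* K(p, k)} (h : Good τ) (u : (WittVector p k)ˣ) :
    ∃ u' : (WittVector p k)ˣ,
      τ (algebraMap (WittVector p k) K(p, k) u) = algebraMap (WittVector p k) K(p, k) u' := by
  obtain ⟨w, hw⟩ := h.map_W u
  obtain ⟨w', hw'⟩ := h.map_W (u⁻¹ : (WittVector p k)ˣ)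
  have hmul : w * w' = 1 := by
    apply algebraMap_injective (p := p) (k := k)
    rw [map_mul, ← hw, ← hw', ← map_mul, ← map_mul, Units.mul_inv]; simp
  exact ⟨⟨w, w', hmul, by rw [mul_comm]; exact hmul⟩, hw⟩

/-! ### Orders of scalars -/

lemma isOrdP_one : IsOrdP (1 : K(p, k)) 0 := ⟨1, by simp⟩

lemma isOrdP_ne_zero {c : K(p, k)} {r : ℤ} (h : IsOrdP c r) : c ≠ 0 := by
  obtain ⟨u, rfl⟩ := h
  refine mul_ne_zero (zpow_p_ne_zero r) ?_
  intro h0
  have : (u : WittVector p k) = 0 := algebraMap_injective (by rw [h0, map_zero])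
  exact u.ne_zero this

lemma isOrdP_mul {c c' : K(p, k)} {r r' : ℤ} (h : IsOrdP c r) (h' : IsOrdP c' r') :
    IsOrdP (c * c') (r + r') := by
  obtain ⟨u, rfl⟩ := h
  obtain ⟨u', rfl⟩ := h'
  refine ⟨u * u', ?_⟩
  rw [zpow_add₀ p_ne_zero, Units.val_mul, map_mul]; ring

lemma isOrdP_inv {c : K(p, k)} {r : ℤ} (h : IsOrdP c r) : IsOrdP c⁻¹ (-r) := by
  obtain ⟨u, rfl⟩ := h
  refine ⟨u⁻¹, ?_⟩
  rw [mul_inv, zpow_neg]
  congr 1
  exact (eq_inv_of_mul_eq_one_left (by rw [← map_mul, Units.inv_mul, map_one])).symm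

lemma isOrdP_zpow_p (r : ℤ) : IsOrdP ((p : K(p, k)) ^ r) r := ⟨1, by simp⟩

lemma isOrdP_pow {c : K(p, k)} {r : ℤ} (h : IsOrdP c r) (n : ℕ) : IsOrdP (c ^ n) (n * r) := by
  induction n with
  | zero => simpa using isOrdP_one (p := p) (k := k)
  | succ n ih =>
    rw [pow_succ]
    have := isOrdP_mul ih h
    convert this using 1
    push_cast; ring

lemma isOrdP_map {τ : K(p, k) →+* K(p, k)} (hτ : Good τ) {c : K(p, k)} {r : ℤ} (h : IsOrdP c r) :
    IsOrdP (τ c) r := by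
  obtain ⟨u, rfl⟩ := h
  obtain ⟨u', hu'⟩ := hτ.map_unit u
  exact ⟨u', by rw [map_mul, map_zpow_p, hu']⟩

/-- elements of `W` have nonnegative order. -/
lemma isOrdP_nonneg_of_mem {c : K(p, k)} {r : ℤ} (h : IsOrdP c r) (w : WittVector p k)
    (hw : c = algebraMap (WittVector p k) K(p, k) w) : 0 ≤ r := by
  by_contra hneg
  push Not at hneg
  obtain ⟨u, hu⟩ := h
  -- p^(-r) * w = u with -r > 0, so p divides a unit
  obtain ⟨n, hn⟩ : ∃ n : ℕ, -r = (n : ℤ) + 1 := ⟨(-r - 1).toNat, by omega⟩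
  have h1 : algebraMap (WittVector p k) K(p, k) ((p : WittVector p k) ^ (n + 1) * w) =
      algebraMap (WittVector p k) K(p, k) u := by
    rw [map_mul, map_pow, map_natCast, ← hw, hu, ← mul_assoc, ← zpow_natCast, ← zpow_add₀ p_ne_zero]
    have : ((n + 1 : ℕ) : ℤ) + r = 0 := by push_cast; omega
    rw [this, zpow_zero, one_mul]
  have h2 := algebraMap_injective h1
  have hp : ¬ IsUnit (p : WittVector p k) := (WittVector.irreducible p).not_isUnit
  apply hp
  have hu' : IsUnit ((p : WittVector p k) ^ (n + 1) * w) := h2 ▸ u.isUnit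
  have := isUnit_of_mul_isUnit_left hu'
  exact (isUnit_pow_succ_iff.mp this)

/-- existence of the order of a nonzero scalar. -/
lemma exists_isOrdP {c : K(p, k)} (hc : c ≠ 0) : ∃ r : ℤ, IsOrdP c r := by
  obtain ⟨a, b, hb, rfl⟩ := IsFractionRing.div_surjective (A := WittVector p k) c
  have ha : a ≠ 0 := by
    rintro rfl; simp at hc
  have hb0 : b ≠ 0 := nonZeroDivisors.ne_zero hb
  obtain ⟨m, ua, hua⟩ := WittVector.exists_eq_pow_p_mul' a ha
  obtain ⟨n, ub, hub⟩ := WittVector.exists_eq_pow_p_mul' b hb0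
  have h1 : IsOrdP (algebraMap (WittVector p k) K(p, k) a) m :=
    ⟨ua, by rw [hua, map_mul, map_pow, map_natCast, zpow_natCast]⟩
  have h2 : IsOrdP (algebraMap (WittVector p k) K(p, k) b) n :=
    ⟨ub, by rw [hub, map_mul, map_pow, map_natCast, zpow_natCast]⟩
  exact ⟨m + -n, by rw [div_eq_mul_inv]; exact isOrdP_mul h1 (isOrdP_inv h2)⟩

/-- uniqueness of the order. -/
lemma isOrdP_unique {c : K(p, k)} {r r' : ℤ} (h : IsOrdP c r) (h' : IsOrdP c r') : r = r' := by
  have key : ∀ {r r' : ℤ}, IsOrdP c r → IsOrdP c r' → r ≤ r' := by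
    intro r r' h h'
    have h1 := isOrdP_mul h' (isOrdP_inv h)
    rw [mul_inv_cancel₀ (isOrdP_ne_zero h)] at h1
    -- 1 has order r' - r, and also lies in W
    have := isOrdP_nonneg_of_mem h1 1 (by simp)
    omega
  exact le_antisymm (key h h') (key h' h)

/-- `c ∈ p^r W` and `ord c = d` imply `r ≤ d`. -/
lemma isOrdP_le_of_eq_zpow_mul {c : K(p, k)} {d : ℤ} (h : IsOrdP c d) (r : ℤ) (w : WittVector p k)
    (hw : c = (p : K(p, k)) ^ r * algebraMap (WittVector p k) K(p, k) w) : r ≤ d := by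
  have h1 := isOrdP_mul (isOrdP_inv (isOrdP_zpow_p (p := p) (k := k) r)) h
  have h2 : ((p : K(p, k)) ^ r)⁻¹ * c = algebraMap (WittVector p k) K(p, k) w := by
    rw [hw, ← mul_assoc, inv_mul_cancel₀ (zpow_p_ne_zero r), one_mul]
  have := isOrdP_nonneg_of_mem h1 w h2
  omega

/-! ### Submodule calculus -/

section Lattice

variable {N : Type v} [AddCommGroup N] [Module (WittVector p k) N] [Module K(p, k) N]
  [IsScalarTower (WittVector p k) K(p, k) N]
variable {τ : K(p, k) →+* K(p, k)}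

lemma mem_pPow_iff {r : ℤ} {M : Submodule (WittVector p k) N} {y : N} :
    y ∈ pPow r M ↔ (p : K(p, k)) ^ (-r) • y ∈ M := by
  unfold pPow
  rw [Submodule.mem_smul_pointwise_iff_exists]
  constructor
  · rintro ⟨x, hx, rfl⟩
    rw [smul_smul, ← zpow_add₀ p_ne_zero, neg_add_cancel, zpow_zero, one_smul]; exact hx
  · intro h
    exact ⟨_, h, by rw [smul_smul, ← zpow_add₀ p_ne_zero, add_neg_cancel, zpow_zero, one_smul]⟩

lemma smul_mem_pPow {r : ℤ} {M : Submodule (WittVector p k) N} {x : N} (hx : x ∈ M) :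
    (p : K(p, k)) ^ r • x ∈ pPow r M := by
  rw [mem_pPow_iff, smul_smul, ← zpow_add₀ p_ne_zero, neg_add_cancel, zpow_zero, one_smul]; exact hx

@[simp] lemma pPow_zero (M : Submodule (WittVector p k) N) : pPow 0 M = M := by
  ext y; rw [mem_pPow_iff]; simp

lemma pPow_pPow (r s : ℤ) (M : Submodule (WittVector p k) N) :
    pPow r (pPow s M) = pPow (r + s) M := by
  ext y
  rw [mem_pPow_iff, mem_pPow_iff, mem_pPow_iff, smul_smul, ← zpow_add₀ p_ne_zero]
  have : -s + -r = -(r + s) := by ring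
  rw [this]

lemma pPow_mono (r : ℤ) {M M' : Submodule (WittVector p k) N} (h : M ≤ M') :
    pPow r M ≤ pPow r M' := fun y hy => by
  rw [mem_pPow_iff] at hy ⊢; exact h hy

lemma pPow_le_pPow_iff (r : ℤ) {M M' : Submodule (WittVector p k) N} :
    pPow r M ≤ pPow r M' ↔ M ≤ M' := by
  refine ⟨fun h => ?_, pPow_mono r⟩
  have := pPow_mono (-r) h
  rwa [pPow_pPow, pPow_pPow, neg_add_cancel, pPow_zero, pPow_zero] at this

lemma le_pPow_iff (r : ℤ) {M M' : Submodule (WittVector p k) N} :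
    M ≤ pPow r M' ↔ pPow (-r) M ≤ M' := by
  rw [← pPow_le_pPow_iff (-r), pPow_pPow, neg_add_cancel, pPow_zero]

lemma natpow_smul_mem {M : Submodule (WittVector p k) N} {x : N} (hx : x ∈ M) (n : ℕ) :
    (p : K(p, k)) ^ n • x ∈ M := by
  have : (p : K(p, k)) ^ n = algebraMap (WittVector p k) K(p, k) ((p : WittVector p k) ^ n) := by
    rw [map_pow, map_natCast]
  rw [this, IsScalarTower.algebraMap_smul]
  exact M.smul_mem _ hx

lemma pPow_anti {r r' : ℤ} (h : r ≤ r') (M : Submodule (WittVector p k) N) :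
    pPow r' M ≤ pPow r M := fun y hy => by
  rw [mem_pPow_iff] at hy ⊢
  obtain ⟨n, hn⟩ : ∃ n : ℕ, r' - r = n := ⟨(r' - r).toNat, by omega⟩
  have : (p : K(p, k)) ^ (-r) • y = (p : K(p, k)) ^ n • ((p : K(p, k)) ^ (-r') • y) := by
    rw [smul_smul, ← zpow_natCast, ← zpow_add₀ p_ne_zero]
    congr 2; omega
  rw [this]
  exact natpow_smul_mem hy n

lemma pPow_sup (r : ℤ) (M M' : Submodule (WittVector p k) N) :
    pPow r (M ⊔ M') = pPow r M ⊔ pPow r M' := Submodule.smul_sup' _ _ _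

lemma pPow_bot (r : ℤ) : pPow r (⊥ : Submodule (WittVector p k) N) = ⊥ := Submodule.smul_bot' _

lemma pPow_fg (r : ℤ) {M : Submodule (WittVector p k) N} (h : M.FG) : (pPow r M).FG := by
  obtain ⟨S, rfl⟩ := h
  unfold pPow
  rw [Submodule.smul_span]
  exact Submodule.fg_span ((Finset.finite_toSet S).image _)

lemma pPow_span_top (r : ℤ) {M : Submodule (WittVector p k) N}
    (h : Submodule.span K(p, k) (M : Set N) = ⊤) :
    Submodule.span K(p, k) (pPow r M : Set N) = ⊤ := by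
  rw [eq_top_iff, ← h, Submodule.span_le]
  intro x hx
  have h1 : (p : K(p, k)) ^ r • x ∈ Submodule.span K(p, k) (pPow r M : Set N) :=
    Submodule.subset_span (smul_mem_pPow hx)
  have h2 := Submodule.smul_mem _ ((p : K(p, k)) ^ (-r)) h1
  rwa [smul_smul, ← zpow_add₀ p_ne_zero, neg_add_cancel, zpow_zero, one_smul] at h2

lemma pPow_isLattice (r : ℤ) {M : Submodule (WittVector p k) N} (h : M.IsLattice K(p, k)) :
    (pPow r M).IsLattice K(p, k) := ⟨pPow_fg r h.fg, pPow_span_top r h.span_eq_top⟩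

/-- the image of a `W`-submodule under a semilinear map with good twist. -/
def simg (G : N →ₛₗ[τ] N) (hτ : Good τ) (M : Submodule (WittVector p k) N) :
    Submodule (WittVector p k) N where
  carrier := G '' M
  add_mem' := by
    rintro _ _ ⟨x, hx, rfl⟩ ⟨y, hy, rfl⟩
    exact ⟨x + y, M.add_mem hx hy, map_add G x y⟩
  zero_mem' := ⟨0, M.zero_mem, map_zero G⟩
  smul_mem' := by
    rintro w _ ⟨x, hx, rfl⟩
    obtain ⟨w', hw'⟩ := hτ.surj_W w
    refine ⟨w' • x, M.smul_mem w' hx, ?_⟩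
    rw [← IsScalarTower.algebraMap_smul K(p, k) w' x, map_smulₛₗ, hw',
      IsScalarTower.algebraMap_smul]

lemma mem_simg {G : N →ₛₗ[τ] N} {hτ : Good τ} {M : Submodule (WittVector p k) N} {y : N} :
    y ∈ simg G hτ M ↔ ∃ x ∈ M, G x = y := Iff.rfl

lemma simg_mono (G : N →ₛₗ[τ] N) (hτ : Good τ) {M M' : Submodule (WittVector p k) N}
    (h : M ≤ M') : simg G hτ M ≤ simg G hτ M' := by
  rintro _ ⟨x, hx, rfl⟩; exact ⟨x, h hx, rfl⟩

lemma map_zpow_smul (G : N →ₛₗ[τ] N) (r : ℤ) (x : N) :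
    G ((p : K(p, k)) ^ r • x) = (p : K(p, k)) ^ r • G x := by
  rw [map_smulₛₗ, map_zpow_p]

lemma simg_pPow (G : N →ₛₗ[τ] N) (hτ : Good τ) (r : ℤ) (M : Submodule (WittVector p k) N) :
    simg G hτ (pPow r M) = pPow r (simg G hτ M) := by
  ext y
  constructor
  · rintro ⟨x, hx, rfl⟩
    have hx' : x ∈ pPow r M := hx
    rw [mem_pPow_iff] at hx' ⊢
    exact ⟨_, hx', map_zpow_smul G _ _⟩
  · intro hy
    rw [mem_pPow_iff] at hy
    obtain ⟨x, hx, hxy⟩ := hy
    refine ⟨(p : K(p, k)) ^ r • x, smul_mem_pPow hx, ?_⟩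
    rw [map_zpow_smul, hxy, smul_smul, ← zpow_add₀ p_ne_zero, add_neg_cancel, zpow_zero, one_smul]

lemma simg_sup (G : N →ₛₗ[τ] N) (hτ : Good τ) (M M' : Submodule (WittVector p k) N) :
    simg G hτ (M ⊔ M') = simg G hτ M ⊔ simg G hτ M' := by
  apply le_antisymm
  · rintro _ ⟨x, hx, rfl⟩
    obtain ⟨a, ha, b, hb, rfl⟩ := Submodule.mem_sup.mp hx
    rw [map_add]
    exact Submodule.add_mem_sup ⟨a, ha, rfl⟩ ⟨b, hb, rfl⟩
  · exact sup_le (simg_mono G hτ le_sup_left) (simg_mono G hτ le_sup_right)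

lemma simg_comp {τ₁ τ₂ τ₃ : K(p, k) →+* K(p, k)} (G₁ : N →ₛₗ[τ₁] N) (G₂ : N →ₛₗ[τ₂] N)
    (H : N →ₛₗ[τ₃] N) (h₁ : Good τ₁) (h₂ : Good τ₂) (h₃ : Good τ₃) (hH : ∀ x, H x = G₂ (G₁ x))
    (M : Submodule (WittVector p k) N) : simg H h₃ M = simg G₂ h₂ (simg G₁ h₁ M) := by
  ext y
  constructor
  · rintro ⟨x, hx, rfl⟩; exact ⟨G₁ x, ⟨x, hx, rfl⟩, (hH x).symm⟩
  · rintro ⟨_, ⟨x, hx, rfl⟩, rfl⟩; exact ⟨x, hx, hH x⟩

lemma simg_span (G : N →ₛₗ[τ] N) (hτ : Good τ) (S : Set N) :
    simg G hτ (Submodule.span (WittVector p k) S) = Submodule.span (WittVector p k) (G '' S) := by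
  apply le_antisymm
  · rintro _ ⟨x, hx, rfl⟩
    induction hx using Submodule.span_induction with
    | mem x hx => exact Submodule.subset_span ⟨x, hx, rfl⟩
    | zero => rw [map_zero]; exact Submodule.zero_mem _
    | add x y _ _ hx hy => rw [map_add]; exact Submodule.add_mem _ hx hy
    | smul w x _ hx =>
      obtain ⟨w', hw'⟩ := hτ.map_W w
      rw [← IsScalarTower.algebraMap_smul K(p, k) w x, map_smulₛₗ, hw',
        IsScalarTower.algebraMap_smul]
      exact Submodule.smul_mem _ _ hx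
  · rw [Submodule.span_le]
    rintro _ ⟨x, hx, rfl⟩
    exact ⟨x, Submodule.subset_span hx, rfl⟩

lemma simg_fg (G : N →ₛₗ[τ] N) (hτ : Good τ) {M : Submodule (WittVector p k) N} (h : M.FG) :
    (simg G hτ M).FG := by
  obtain ⟨S, rfl⟩ := h
  rw [simg_span]
  exact Submodule.fg_span ((Finset.finite_toSet S).image _)

lemma Good.surjective (hτ : Good τ) : Function.Surjective τ := by
  intro c
  obtain ⟨a, b, hb, rfl⟩ := IsFractionRing.div_surjective (A := WittVector p k) c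
  obtain ⟨a', ha'⟩ := hτ.surj_W a
  obtain ⟨b', hb'⟩ := hτ.surj_W b
  exact ⟨algebraMap _ _ a' / algebraMap _ _ b', by rw [map_div₀, ha', hb']⟩

lemma simg_span_top (G : N →ₛₗ[τ] N) (hτ : Good τ) (hG : Function.Surjective G)
    {M : Submodule (WittVector p k) N} (h : Submodule.span K(p, k) (M : Set N) = ⊤) :
    Submodule.span K(p, k) (simg G hτ M : Set N) = ⊤ := by
  have key : ∀ x ∈ Submodule.span K(p, k) (M : Set N),
      G x ∈ Submodule.span K(p, k) (simg G hτ M : Set N) := by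
    intro x hx
    induction hx using Submodule.span_induction with
    | mem x hx => exact Submodule.subset_span ⟨x, hx, rfl⟩
    | zero => rw [map_zero]; exact Submodule.zero_mem _
    | add x y _ _ hx hy => rw [map_add]; exact Submodule.add_mem _ hx hy
    | smul c x _ hx => rw [map_smulₛₗ]; exact Submodule.smul_mem _ _ hx
  rw [eq_top_iff]
  intro y _
  obtain ⟨x, rfl⟩ := hG y
  exact key x (by rw [h]; trivial)

lemma simg_isLattice (G : N →ₛₗ[τ] N) (hτ : Good τ) (hG : Function.Surjective G)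
    {M : Submodule (WittVector p k) N} (h : M.IsLattice K(p, k)) :
    (simg G hτ M).IsLattice K(p, k) :=
  ⟨simg_fg G hτ h.fg, simg_span_top G hτ hG h.span_eq_top⟩

/-- `latImg` is the image under the iterate. -/
lemma latImg_eq_simg (F : N →ₛₗ[τ] N) (hτ : Good τ) (s : ℕ) (M : Submodule (WittVector p k) N) :
    latImg F s M = simg (iter F s) (hτ.pow s) M := by
  unfold latImg
  have : ((⇑F)^[s] '' (M : Set N)) = (simg (iter F s) (hτ.pow s) M : Set N) := rfl
  rw [this, Submodule.span_eq]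

lemma mem_latImg (F : N →ₛₗ[τ] N) (hτ : Good τ) (s : ℕ) (M : Submodule (WittVector p k) N) (y : N) :
    y ∈ latImg F s M ↔ ∃ x ∈ M, (⇑F)^[s] x = y := by
  rw [latImg_eq_simg F hτ]; rfl

lemma latImg_mono (F : N →ₛₗ[τ] N) (hτ : Good τ) (s : ℕ) {M M' : Submodule (WittVector p k) N}
    (h : M ≤ M') : latImg F s M ≤ latImg F s M' := by
  rw [latImg_eq_simg F hτ, latImg_eq_simg F hτ]; exact simg_mono _ _ h

lemma latImg_pPow (F : N →ₛₗ[τ] N) (hτ : Good τ) (s : ℕ) (r : ℤ) (M : Submodule (WittVector p k) N) :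
    latImg F s (pPow r M) = pPow r (latImg F s M) := by
  rw [latImg_eq_simg F hτ, latImg_eq_simg F hτ]; exact simg_pPow _ _ r M

lemma latImg_add (F : N →ₛₗ[τ] N) (hτ : Good τ) (s t : ℕ) (M : Submodule (WittVector p k) N) :
    latImg F (s + t) M = latImg F s (latImg F t M) := by
  rw [latImg_eq_simg F hτ, latImg_eq_simg F hτ, latImg_eq_simg F hτ]
  exact simg_comp _ _ _ _ _ _ (fun x => by
    rw [iter_apply, iter_apply, iter_apply, Function.iterate_add_apply]) M

lemma latImg_zero (F : N →ₛₗ[τ] N) (hτ : Good τ) (M : Submodule (WittVector p k) N) :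
    latImg F 0 M = M := by
  ext y; rw [mem_latImg F hτ]; simp

lemma latImg_sup (F : N →ₛₗ[τ] N) (hτ : Good τ) (s : ℕ) (M M' : Submodule (WittVector p k) N) :
    latImg F s (M ⊔ M') = latImg F s M ⊔ latImg F s M' := by
  rw [latImg_eq_simg F hτ, latImg_eq_simg F hτ, latImg_eq_simg F hτ]; exact simg_sup _ _ M M'

lemma iterate_bijective {F : N →ₛₗ[τ] N} (hF : Function.Bijective F) (s : ℕ) :
    Function.Bijective (iter F s) := by
  rw [coe_iter]; exact hF.iterate s

lemma latImg_isLattice (F : N →ₛₗ[τ] N) (hτ : Good τ) (hF : Function.Bijective F) (s : ℕ)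
    {M : Submodule (WittVector p k) N} (h : M.IsLattice K(p, k)) :
    (latImg F s M).IsLattice K(p, k) := by
  rw [latImg_eq_simg F hτ]
  exact simg_isLattice _ _ (iterate_bijective hF s).2 h

/-- Comparison of lattices. -/
lemma exists_natpow_smul_mem {M : Submodule (WittVector p k) N}
    (h : Submodule.span K(p, k) (M : Set N) = ⊤) (x : N) :
    ∃ n : ℕ, (p : K(p, k)) ^ n • x ∈ M := by
  have hx : x ∈ Submodule.span K(p, k) (M : Set N) := by rw [h]; trivial
  induction hx using Submodule.span_induction with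
  | mem x hx => exact ⟨0, by simpa using hx⟩
  | zero => exact ⟨0, by simp⟩
  | add x y _ _ hx hy =>
    obtain ⟨n, hn⟩ := hx
    obtain ⟨m, hm⟩ := hy
    refine ⟨n + m, ?_⟩
    rw [smul_add]
    refine M.add_mem ?_ ?_
    · rw [add_comm, pow_add, mul_smul]; exact natpow_smul_mem hn m
    · rw [pow_add, mul_smul]; exact natpow_smul_mem hm n
  | smul c x _ hx =>
    obtain ⟨n, hn⟩ := hx
    by_cases hc : c = 0
    · exact ⟨0, by simp [hc]⟩
    obtain ⟨r, u, hu⟩ := exists_isOrdP hc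
    refine ⟨n + (-r).toNat, ?_⟩
    obtain ⟨m, hm⟩ : ∃ m : ℕ, ((-r).toNat : ℤ) + r = m := ⟨((-r).toNat + r).toNat, by omega⟩
    have : (p : K(p, k)) ^ (n + (-r).toNat) • c • x =
        (u : WittVector p k) • ((p : K(p, k)) ^ m • ((p : K(p, k)) ^ n • x)) := by
      rw [← IsScalarTower.algebraMap_smul K(p, k) (u : WittVector p k), smul_smul, smul_smul,
        smul_smul, hu]
      congr 1
      rw [← zpow_natCast _ m, ← hm, zpow_add₀ p_ne_zero, zpow_natCast, pow_add]
      ring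
    rw [this]
    exact M.smul_mem _ (natpow_smul_mem hn m)

lemma exists_le_pPow {M₁ M₂ : Submodule (WittVector p k) N} (h₁ : M₁.FG)
    (h₂ : Submodule.span K(p, k) (M₂ : Set N) = ⊤) : ∃ c : ℕ, M₁ ≤ pPow (-(c : ℤ)) M₂ := by
  classical
  obtain ⟨S, rfl⟩ := h₁
  choose n hn using exists_natpow_smul_mem h₂
  refine ⟨S.sup n, ?_⟩
  rw [Submodule.span_le]
  intro x hx
  rw [SetLike.mem_coe, mem_pPow_iff, neg_neg, zpow_natCast]
  have hle : n x ≤ S.sup n := Finset.le_sup (f := n) hx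
  obtain ⟨m, hm⟩ := Nat.exists_eq_add_of_le hle
  rw [hm, add_comm, pow_add, mul_smul]
  exact natpow_smul_mem (hn x) m

end Lattice

end Groth.Agent.Lib.Isoc_helper3
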