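import Groth.Agent.Lib.IsocFix_helper3
import Groth.Agent.Lib.AdicRetract_helper9
import Groth.Agent.Lib.Isoc_helper3

/-!
# Lifting fixed vectors from `M / p M` to a `W(k)`-module `M` (helper3)

`k` algebraically closed of characteristic `p`, `W = W(k)`.  For a finite free `W`-module `M`
and a bijective-mod-`p` semilinear `Φ : M → M` over a power of Frobenius the fixed vectors of `Φ`
generate `M`; `Φ - 1` is surjective.  Application to lattices `M` in isocrystals with `Φ M = M`.
-/

set_option autoImplicit false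
set_option linter.unusedSectionVars false
set_option linter.style.haveILetI false

noncomputable section

open scoped Pointwise Isocrystal

universe u v

namespace Groth.Agent.Lib.IsocLift_helper3

open Isoc Groth.Agent.Lib.Isoc_helper3 Groth.Agent.Lib.IsocFix_helper3

/-! ### Successive approximation -/

section SA

variable {R : Type*} [CommRing R] (π : R) {M : Type*} [AddCommGroup M] [Module R M]

lemma mem_pow_smul_top_iff (n : ℕ) (x : M) :
    x ∈ ((Ideal.span {π}) ^ n • (⊤ : Submodule R M)) ↔ ∃ u : M, x = π ^ n • u := by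
  rw [Ideal.span_singleton_pow, Submodule.ideal_span_singleton_smul,
    Submodule.mem_smul_pointwise_iff_exists]
  constructor
  · rintro ⟨u, -, rfl⟩; exact ⟨u, rfl⟩
  · rintro ⟨u, rfl⟩; exact ⟨u, trivial, rfl⟩

lemma mem_smul_top_iff (x : M) :
    x ∈ ((Ideal.span {π}) • (⊤ : Submodule R M)) ↔ ∃ u : M, x = π • u := by
  have := mem_pow_smul_top_iff π 1 x
  rwa [pow_one, pow_one] at this

theorem surjective_of_mod [IsAdicComplete (Ideal.span {π}) M] (T : M →+ M)
    (hT : ∀ x, T (π • x) = π • T x) (hmod : ∀ w, ∃ y z, w = T y + π • z) :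
    Function.Surjective T := by
  intro w
  choose y z hyz using hmod
  let ws : ℕ → M := fun n => z^[n] w
  let Y : ℕ → M := fun n => ∑ j ∈ Finset.range n, π ^ j • y (ws j)
  have hYs : ∀ n, Y (n + 1) = Y n + π ^ n • y (ws n) := fun n => Finset.sum_range_succ _ _
  have hws : ∀ n, ws (n + 1) = z (ws n) := fun n => Function.iterate_succ_apply' _ _ _
  have hTpow : ∀ n x, T (π ^ n • x) = π ^ n • T x := by
    intro n
    induction n with
    | zero => intro x; simp
    | succ n ih => intro x; rw [pow_succ', mul_smul, hT, ih, ← mul_smul]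
  have hkey : ∀ n, T (Y n) = w - π ^ n • ws n := by
    intro n
    induction n with
    | zero => simp [Y, ws]
    | succ n ih =>
      rw [hYs, hws, map_add, hTpow, ih, pow_succ, mul_smul]
      have := hyz (ws n)
      have h2 : π ^ n • ws n = π ^ n • T (y (ws n)) + π ^ n • π • z (ws n) := by
        rw [← smul_add, ← this]
      rw [h2]; abel
  have hcauchy : ∀ {m n : ℕ}, m ≤ n →
      Y m ≡ Y n [SMOD ((Ideal.span {π}) ^ m • ⊤ : Submodule R M)] := by
    intro m n hmn
    rw [SModEq.sub_mem]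
    induction n, hmn using Nat.le_induction with
    | base => rw [sub_self]; exact Submodule.zero_mem _
    | succ n hmn ih =>
      rw [hYs, ← sub_sub]
      refine Submodule.sub_mem _ ih ?_
      rw [mem_pow_smul_top_iff]
      obtain ⟨d, rfl⟩ := Nat.exists_eq_add_of_le hmn
      exact ⟨π ^ d • y (ws (m + d)), by rw [pow_add, mul_smul]⟩
  obtain ⟨L, hL⟩ := IsPrecomplete.prec' (I := Ideal.span {π}) Y hcauchy
  refine ⟨L, ?_⟩
  rw [← sub_eq_zero]
  apply IsHausdorff.haus' (I := Ideal.span {π})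
  intro n
  rw [SModEq.zero, mem_pow_smul_top_iff]
  have h1 := hL n
  rw [SModEq.sub_mem, mem_pow_smul_top_iff] at h1
  obtain ⟨u, hu⟩ := h1
  refine ⟨-(T u) - ws n, ?_⟩
  have hLn : L = Y n - π ^ n • u := by rw [← hu]; abel
  rw [hLn, map_sub, hTpow, hkey n, smul_sub, smul_neg]
  abel

end SA

/-! ### Reduction mod `p` -/

section Witt

variable {p : ℕ} [Fact p.Prime] {k : Type u} [Field k] [CharP k p] [PerfectRing k p]

/-- the ideal `(p)` of `W(k)`. -/
abbrev Ip (p : ℕ) [Fact p.Prime] (k : Type u) [Field k] [CharP k p] : Ideal (WittVector p k) :=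
  Ideal.span {(p : WittVector p k)}

/-- the residue field `W(k)/p`. -/
abbrev Kp (p : ℕ) [Fact p.Prime] (k : Type u) [Field k] [CharP k p] : Type u :=
  WittVector p k ⧸ Ip p k

lemma Ip_isMaximal : (Ip p k).IsMaximal :=
  PrincipalIdealRing.isMaximal_of_irreducible (WittVector.irreducible p)

attribute [local instance] Ip_isMaximal

/-- field structure on `W(k)/p`. -/
abbrev KpField : Field (Kp p k) := Ideal.Quotient.field _

attribute [local instance] KpField

lemma Kp_charP : CharP (Kp p k) p :=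
  charP_of_injective_ringHom (f := (WittVector.quotientPEquiv (p := p) (k := k)).symm.toRingHom)
    (RingEquiv.injective _) p

attribute [local instance] Kp_charP

lemma Kp_isAlgClosed [IsAlgClosed k] : IsAlgClosed (Kp p k) :=
  IsAlgClosed.of_ringEquiv (k := k) (Kp p k) (WittVector.quotientPEquiv (p := p) (k := k)).symm

attribute [local instance] Kp_isAlgClosed

variable {M : Type v} [AddCommGroup M] [Module (WittVector p k) M]

/-- `M / p M`. -/
abbrev Vp (p : ℕ) [Fact p.Prime] (k : Type u) [Field k] [CharP k p] (M : Type v) [AddCommGroup M]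
    [Module (WittVector p k) M] : Type v :=
  M ⧸ (Ip p k • (⊤ : Submodule (WittVector p k) M))

/-- the reduction map as a semilinear map. -/
def mkS : M →ₛₗ[Ideal.Quotient.mk (Ip p k)] Vp p k M where
  toFun := Submodule.Quotient.mk
  map_add' _ _ := rfl
  map_smul' _ _ := rfl

lemma mkS_surjective : Function.Surjective (mkS (p := p) (k := k) (M := M)) :=
  Submodule.Quotient.mk_surjective _

lemma Vp_finite [Module.Finite (WittVector p k) M] : Module.Finite (Kp p k) (Vp p k M) :=
  Module.Finite.of_surjective (mkS (p := p) (k := k) (M := M)) mkS_surjective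

lemma mkS_eq_zero_iff (x : M) : mkS (p := p) (k := k) x = 0 ↔ ∃ u : M, x = (p : WittVector p k) • u := by
  rw [← mem_smul_top_iff]
  exact Submodule.Quotient.mk_eq_zero _

variable (s : WittVector p k →+* WittVector p k)

lemma map_Ip_le (Φ : M →ₛₗ[s] M) :
    (Ip p k • (⊤ : Submodule (WittVector p k) M)) ≤
      (Ip p k • (⊤ : Submodule (WittVector p k) M)).comap Φ := by
  intro x hx
  rw [mem_smul_top_iff] at hx
  obtain ⟨u, rfl⟩ := hx
  rw [Submodule.mem_comap, map_smulₛₗ, map_natCast, mem_smul_top_iff]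
  exact ⟨Φ u, rfl⟩

/-- the induced map on `M / p M`, semilinear over `W`. -/
def phiW (Φ : M →ₛₗ[s] M) : Vp p k M →ₛₗ[s] Vp p k M :=
  (Ip p k • (⊤ : Submodule (WittVector p k) M)).mapQ _ Φ (map_Ip_le s Φ)

lemma phiW_mk (Φ : M →ₛₗ[s] M) (x : M) :
    phiW s Φ (mkS (p := p) (k := k) x) = mkS (p := p) (k := k) (Φ x) := rfl

/-- the induced map on `M / p M`, semilinear over `W/p`. -/
def phiK (b : ℕ)
    (hs : ∀ w, Ideal.Quotient.mk (Ip p k) (s w) = (Ideal.Quotient.mk (Ip p k) w) ^ (p ^ b))
    (Φ : M →ₛₗ[s] M) : Vp p k M →ₛₗ[iterateFrobenius (Kp p k) p b] Vp p k M where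
  toFun := phiW s Φ
  map_add' := map_add _
  map_smul' c v := by
    obtain ⟨w, rfl⟩ := Ideal.Quotient.mk_surjective c
    obtain ⟨m, rfl⟩ := mkS_surjective (p := p) (k := k) v
    rw [← map_smulₛₗ (mkS (p := p) (k := k)), phiW_mk, phiW_mk, map_smulₛₗ Φ, map_smulₛₗ, hs]
    rfl

lemma phiK_mk (b : ℕ)
    (hs : ∀ w, Ideal.Quotient.mk (Ip p k) (s w) = (Ideal.Quotient.mk (Ip p k) w) ^ (p ^ b))
    (Φ : M →ₛₗ[s] M) (x : M) :
    phiK s b hs Φ (mkS (p := p) (k := k) x) = mkS (p := p) (k := k) (Φ x) := rfl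

variable [IsAlgClosed k]

/-- `Φ - 1` is surjective on `M`. -/
theorem exists_sub_eq_lift (b : ℕ) (hb : b ≠ 0)
    (hs : ∀ w, Ideal.Quotient.mk (Ip p k) (s w) = (Ideal.Quotient.mk (Ip p k) w) ^ (p ^ b))
    [Module.Finite (WittVector p k) M] [IsAdicComplete (Ip p k) M]
    (Φ : M →ₛₗ[s] M) (w : M) : ∃ y, Φ y - y = w := by
  haveI := Vp_finite (p := p) (k := k) (M := M)
  have hsurj : Function.Surjective (Φ.toAddMonoidHom - AddMonoidHom.id M) := by
    apply surjective_of_mod (p : WittVector p k)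
    · intro x
      simp only [AddMonoidHom.sub_apply, LinearMap.toAddMonoidHom_coe, AddMonoidHom.id_apply,
        map_smulₛₗ, map_natCast, smul_sub]
    · intro w
      obtain ⟨yq, hyq⟩ := exists_sub_eq p b hb (phiK s b hs Φ) (mkS (p := p) (k := k) w)
      obtain ⟨y, rfl⟩ := mkS_surjective (p := p) (k := k) yq
      rw [phiK_mk, ← map_sub, ← sub_eq_zero, ← map_sub, mkS_eq_zero_iff] at hyq
      obtain ⟨u, hu⟩ := hyq
      refine ⟨y, -u, ?_⟩
      simp only [AddMonoidHom.sub_apply, LinearMap.toAddMonoidHom_coe, AddMonoidHom.id_apply]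
      rw [smul_neg, ← hu]; abel
  obtain ⟨y, hy⟩ := hsurj w
  exact ⟨y, hy⟩

/-- the fixed vectors of `Φ` generate `M`. -/
theorem span_fixed_eq_top_lift (b : ℕ) (hb : b ≠ 0)
    (hs : ∀ w, Ideal.Quotient.mk (Ip p k) (s w) = (Ideal.Quotient.mk (Ip p k) w) ^ (p ^ b))
    [Module.Finite (WittVector p k) M] [IsAdicComplete (Ip p k) M]
    (Φ : M →ₛₗ[s] M)
    (hinj : ∀ m : M, (∃ u : M, Φ m = (p : WittVector p k) • u) →
      ∃ u : M, m = (p : WittVector p k) • u) :
    Submodule.span (WittVector p k) {x : M | Φ x = x} = ⊤ := by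
  haveI := Vp_finite (p := p) (k := k) (M := M)
  set M₀ := Submodule.span (WittVector p k) {x : M | Φ x = x} with hM₀
  have hinjK : Function.Injective (phiK s b hs Φ) := by
    rw [injective_iff_map_eq_zero]
    intro v hv
    obtain ⟨m, rfl⟩ := mkS_surjective (p := p) (k := k) v
    rw [phiK_mk, mkS_eq_zero_iff] at hv
    rw [mkS_eq_zero_iff]
    exact hinj m hv
  have hspan := span_fixed_eq_top p b hb (phiK s b hs Φ) hinjK
  -- every class is represented by an element of `M₀`
  have hrep : ∀ v : Vp p k M, ∃ m₀ ∈ M₀, mkS (p := p) (k := k) m₀ = v := by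
    intro v
    have hv : v ∈ Submodule.span (Kp p k) {v | phiK s b hs Φ v = v} := by rw [hspan]; trivial
    induction hv using Submodule.span_induction with
    | mem v hv =>
      rw [Set.mem_setOf_eq] at hv
      obtain ⟨x₁, rfl⟩ := mkS_surjective (p := p) (k := k) v
      rw [phiK_mk, ← sub_eq_zero, ← map_sub, mkS_eq_zero_iff] at hv
      obtain ⟨w', hw'⟩ := hv
      obtain ⟨y, hy⟩ := exists_sub_eq_lift s b hb hs Φ (-w')
      refine ⟨x₁ + (p : WittVector p k) • y, Submodule.subset_span ?_, ?_⟩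
      · rw [Set.mem_setOf_eq, ← sub_eq_zero, map_add, map_smulₛₗ, map_natCast]
        have : Φ x₁ + (p : WittVector p k) • Φ y - (x₁ + (p : WittVector p k) • y) =
            (Φ x₁ - x₁) + (p : WittVector p k) • (Φ y - y) := by rw [smul_sub]; abel
        rw [this, hy, hw', smul_neg, add_neg_cancel]
      · rw [map_add, add_eq_left, mkS_eq_zero_iff]
        exact ⟨y, rfl⟩
    | zero => exact ⟨0, Submodule.zero_mem _, map_zero _⟩
    | add v v' _ _ hv hv' =>
      obtain ⟨m, hm, rfl⟩ := hv
      obtain ⟨m', hm', rfl⟩ := hv'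
      exact ⟨m + m', Submodule.add_mem _ hm hm', map_add _ _ _⟩
    | smul c v _ hv =>
      obtain ⟨m, hm, rfl⟩ := hv
      obtain ⟨w, rfl⟩ := Ideal.Quotient.mk_surjective c
      exact ⟨w • m, Submodule.smul_mem _ _ hm, map_smulₛₗ _ _ _⟩
  rw [eq_top_iff]
  refine Submodule.le_of_le_smul_of_le_jacobson_bot (I := Ip p k) Module.Finite.fg_top
    (IsAdicComplete.le_jacobson_bot (Ip p k)) ?_
  intro m _
  obtain ⟨m₀, hm₀, hmm⟩ := hrep (mkS (p := p) (k := k) m)
  have h1 : mkS (p := p) (k := k) (m - m₀) = 0 := by rw [map_sub, hmm, sub_self]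
  have h2 : m - m₀ ∈ Ip p k • (⊤ : Submodule (WittVector p k) M) :=
    (Submodule.Quotient.mk_eq_zero _).mp h1
  have : m = m₀ + (m - m₀) := by abel
  rw [this]
  exact Submodule.add_mem_sup hm₀ h2

end Witt

end Groth.Agent.Lib.IsocLift_helper3
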