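import Groth.Agent.Lib.Isoc_helper3

/-!
# Helper library for the `Isoc` statements (helper3): matrices of semilinear maps and volumes of lattices
-/

set_option autoImplicit false
set_option linter.unusedSectionVars false

noncomputable section

open scoped Pointwise Isocrystal

universe u v

namespace Groth.Agent.Lib.IsocMat_helper3

open Isoc Groth.Agent.Lib.Isoc_helper3

variable {p : ℕ} [Fact p.Prime] {k : Type u} [Field k] [CharP k p] [PerfectRing k p]
variable {N : Type v} [AddCommGroup N] [Module (WittVector p k) N] [Module K(p, k) N]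
  [IsScalarTower (WittVector p k) K(p, k) N]
variable {τ : K(p, k) →+* K(p, k)}
variable {h : ℕ}

/-- matrix of a semilinear map. -/
def smat (b : Module.Basis (Fin h) K(p, k) N) (G : N →ₛₗ[τ] N) : Matrix (Fin h) (Fin h) K(p, k) :=
  Matrix.of fun i j => b.repr (G (b j)) i

lemma detCoeff_eq (b : Module.Basis (Fin h) K(p, k) N) (G : N →ₛₗ[τ] N) :
    detCoeff b G = (smat b G).det := rfl

/-- coordinates of the image of a vector under a semilinear map. -/
lemma repr_apply_semilinear (b : Module.Basis (Fin h) K(p, k) N) (G : N →ₛₗ[τ] N) (x : N)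
    (l : Fin h) : b.repr (G x) l = ∑ i, smat b G l i * τ (b.repr x i) := by
  conv_lhs => rw [← b.sum_repr x]
  rw [map_sum]
  simp only [map_smulₛₗ, map_sum, Finsupp.coe_finsetSum, Finset.sum_apply,
    Finsupp.smul_apply, smul_eq_mul]
  refine Finset.sum_congr rfl fun i _ => ?_
  rw [mul_comm]; rfl

/-- the `j`-th column vector of a matrix. -/
def colVec (b : Module.Basis (Fin h) K(p, k) N) (P : Matrix (Fin h) (Fin h) K(p, k)) (j : Fin h) : N :=
  ∑ i, P i j • b i

lemma repr_colVec (b : Module.Basis (Fin h) K(p, k) N) (P : Matrix (Fin h) (Fin h) K(p, k))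
    (j i : Fin h) : b.repr (colVec b P j) i = P i j := by
  unfold colVec
  rw [b.repr_sum_self]

/-- the `W`-span of the column vectors. -/
def colLat (b : Module.Basis (Fin h) K(p, k) N) (P : Matrix (Fin h) (Fin h) K(p, k)) :
    Submodule (WittVector p k) N :=
  Submodule.span (WittVector p k) (Set.range (colVec b P))

lemma apply_colVec (b : Module.Basis (Fin h) K(p, k) N) (G : N →ₛₗ[τ] N)
    (P : Matrix (Fin h) (Fin h) K(p, k)) (j : Fin h) :
    G (colVec b P j) = colVec b (smat b G * P.map τ) j := by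
  apply b.repr.injective
  ext l
  rw [repr_apply_semilinear, repr_colVec, Matrix.mul_apply]
  refine Finset.sum_congr rfl fun i _ => ?_
  rw [repr_colVec]; rfl

lemma simg_colLat (b : Module.Basis (Fin h) K(p, k) N) (G : N →ₛₗ[τ] N) (hτ : Good τ)
    (P : Matrix (Fin h) (Fin h) K(p, k)) :
    simg G hτ (colLat b P) = colLat b (smat b G * P.map τ) := by
  unfold colLat
  rw [simg_span, ← Set.range_comp]
  congr 2
  ext j
  exact apply_colVec b G P j

lemma smul_colVec (b : Module.Basis (Fin h) K(p, k) N) (c : K(p, k))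
    (P : Matrix (Fin h) (Fin h) K(p, k)) (j : Fin h) :
    c • colVec b P j = colVec b (c • P) j := by
  unfold colVec
  rw [Finset.smul_sum]
  refine Finset.sum_congr rfl fun i _ => ?_
  rw [smul_smul]; rfl

lemma pPow_colLat (b : Module.Basis (Fin h) K(p, k) N) (r : ℤ)
    (P : Matrix (Fin h) (Fin h) K(p, k)) :
    pPow r (colLat b P) = colLat b ((p : K(p, k)) ^ r • P) := by
  unfold colLat pPow
  rw [Submodule.smul_span, ← Set.image_smul, ← Set.range_comp]
  congr 2
  ext j
  exact smul_colVec b _ P j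

/-- inclusion of column lattices gives an integral transition matrix. -/
lemma exists_of_colLat_le (b : Module.Basis (Fin h) K(p, k) N)
    {P Q : Matrix (Fin h) (Fin h) K(p, k)} (hle : colLat b P ≤ colLat b Q) :
    ∃ C : Matrix (Fin h) (Fin h) (WittVector p k),
      P = Q * C.map (algebraMap (WittVector p k) K(p, k)) := by
  have hmem : ∀ j, colVec b P j ∈ colLat b Q := fun j => hle (Submodule.subset_span ⟨j, rfl⟩)
  have := fun j => Submodule.mem_span_range_iff_exists_fun (WittVector p k) |>.mp (hmem j)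
  choose c hc using this
  refine ⟨Matrix.of fun l j => c j l, ?_⟩
  ext i j
  rw [← repr_colVec b P j i, ← hc j, map_sum, Finsupp.coe_finsetSum, Finset.sum_apply,
    Matrix.mul_apply]
  refine Finset.sum_congr rfl fun l _ => ?_
  rw [← IsScalarTower.algebraMap_smul K(p, k) (c j l), map_smul, Finsupp.smul_apply, repr_colVec,
    smul_eq_mul, mul_comm]
  rfl

lemma colLat_mul_le (b : Module.Basis (Fin h) K(p, k) N)
    (Q : Matrix (Fin h) (Fin h) K(p, k)) (C : Matrix (Fin h) (Fin h) (WittVector p k)) :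
    colLat b (Q * C.map (algebraMap (WittVector p k) K(p, k))) ≤ colLat b Q := by
  unfold colLat
  rw [Submodule.span_le]
  rintro _ ⟨j, rfl⟩
  have : colVec b (Q * C.map (algebraMap (WittVector p k) K(p, k))) j =
      ∑ l, C l j • colVec b Q l := by
    apply b.repr.injective
    ext i
    rw [repr_colVec, map_sum, Finsupp.coe_finsetSum, Finset.sum_apply, Matrix.mul_apply]
    refine Finset.sum_congr rfl fun l _ => ?_
    rw [← IsScalarTower.algebraMap_smul K(p, k) (C l j), map_smul, Finsupp.smul_apply, repr_colVec,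
      smul_eq_mul, mul_comm]
    rfl
  rw [this]
  exact Submodule.sum_mem _ fun l _ => Submodule.smul_mem _ _ (Submodule.subset_span ⟨l, rfl⟩)

/-- every lattice is a column lattice of an invertible matrix. -/
lemma exists_colLat_eq (b : Module.Basis (Fin h) K(p, k) N) {M : Submodule (WittVector p k) N}
    (hM : M.IsLattice K(p, k)) :
    ∃ P : Matrix (Fin h) (Fin h) K(p, k), P.det ≠ 0 ∧ M = colLat b P := by
  have := hM
  have hrank : Module.finrank (WittVector p k) M = h := by
    apply Module.finrank_eq_of_rank_eq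
    rw [Submodule.IsLattice.rank' K(p, k) M, rank_eq_card_basis b]
    simp
  let e := Module.finBasisOfFinrankEq (WittVector p k) M hrank
  let eL := e.extendOfIsLattice K(p, k)
  refine ⟨b.toMatrix eL, ?_, ?_⟩
  · intro h0
    have := congrArg Matrix.det (b.toMatrix_mul_toMatrix_flip eL)
    rw [Matrix.det_mul, h0, zero_mul, Matrix.det_one] at this
    exact zero_ne_one this
  · have hcol : ∀ j, colVec b (b.toMatrix eL) j = (e j : N) := by
      intro j
      unfold colVec
      simp only [Module.Basis.toMatrix_apply]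
      rw [b.sum_repr, Module.Basis.extendOfIsLattice_apply]
    unfold colLat
    have : Set.range (colVec b (b.toMatrix eL)) = M.subtype '' Set.range e := by
      rw [← Set.range_comp]; congr 1; ext j; exact hcol j
    rw [this, ← Submodule.map_span, e.span_eq, Submodule.map_top, Submodule.range_subtype]

/-- `IsVol b M d`: `M` is the `W`-span of the columns of a matrix whose determinant has order `d`. -/
def IsVol (b : Module.Basis (Fin h) K(p, k) N) (M : Submodule (WittVector p k) N) (d : ℤ) : Prop :=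
  ∃ P : Matrix (Fin h) (Fin h) K(p, k), IsOrdP P.det d ∧ M = colLat b P

lemma exists_isVol (b : Module.Basis (Fin h) K(p, k) N) {M : Submodule (WittVector p k) N}
    (hM : M.IsLattice K(p, k)) : ∃ d : ℤ, IsVol b M d := by
  obtain ⟨P, hP, rfl⟩ := exists_colLat_eq b hM
  obtain ⟨d, hd⟩ := exists_isOrdP hP
  exact ⟨d, P, hd, rfl⟩

lemma det_map_algebraMap (C : Matrix (Fin h) (Fin h) (WittVector p k)) :
    (C.map (algebraMap (WittVector p k) K(p, k))).det =
      algebraMap (WittVector p k) K(p, k) C.det :=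
  ((algebraMap (WittVector p k) K(p, k)).map_det C).symm

/-- monotonicity of the volume, with the equality case. -/
lemma isVol_le (b : Module.Basis (Fin h) K(p, k) N) {M M' : Submodule (WittVector p k) N}
    {d d' : ℤ} (hle : M ≤ M') (hd : IsVol b M d) (hd' : IsVol b M' d') :
    d' ≤ d ∧ (d = d' → M = M') := by
  obtain ⟨P, hP, rfl⟩ := hd
  obtain ⟨Q, hQ, rfl⟩ := hd'
  obtain ⟨C, hC⟩ := exists_of_colLat_le b hle
  have hdet : P.det = Q.det * algebraMap (WittVector p k) K(p, k) C.det := by
    rw [hC, Matrix.det_mul, det_map_algebraMap]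
  have hC' : IsOrdP (algebraMap (WittVector p k) K(p, k) C.det) (-d' + d) := by
    have := isOrdP_mul (isOrdP_inv hQ) hP
    rwa [hdet, ← mul_assoc, inv_mul_cancel₀ (isOrdP_ne_zero hQ), one_mul] at this
  have hnn := isOrdP_nonneg_of_mem hC' C.det rfl
  refine ⟨by omega, fun hdd => le_antisymm hle ?_⟩
  -- the determinant of `C` is a unit
  obtain ⟨u, hu⟩ := hC'
  have h0 : -d' + d = 0 := by omega
  rw [h0, zpow_zero, one_mul] at hu
  have hCu : IsUnit C.det := (algebraMap_injective hu) ▸ u.isUnit
  have hCinv : C * C⁻¹ = 1 := Matrix.mul_nonsing_inv C hCu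
  have hQ' : Q = P * (C⁻¹).map (algebraMap (WittVector p k) K(p, k)) := by
    rw [hC, Matrix.mul_assoc, ← Matrix.map_mul, hCinv, Matrix.map_one _ (map_zero _) (map_one _),
      Matrix.mul_one]
  rw [hQ']
  exact colLat_mul_le b P _

lemma isVol_unique (b : Module.Basis (Fin h) K(p, k) N) {M : Submodule (WittVector p k) N}
    {d d' : ℤ} (hd : IsVol b M d) (hd' : IsVol b M d') : d = d' :=
  le_antisymm (isVol_le b le_rfl hd' hd).1 (isVol_le b le_rfl hd hd').1

lemma isVol_pPow (b : Module.Basis (Fin h) K(p, k) N) {M : Submodule (WittVector p k) N} {d : ℤ}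
    (hd : IsVol b M d) (r : ℤ) : IsVol b (pPow r M) (d + r * h) := by
  obtain ⟨P, hP, rfl⟩ := hd
  refine ⟨(p : K(p, k)) ^ r • P, ?_, pPow_colLat b r P⟩
  rw [Matrix.det_smul, Fintype.card_fin]
  have := isOrdP_mul (isOrdP_pow (isOrdP_zpow_p (p := p) (k := k) r) h) hP
  convert this using 1
  ring

lemma isVol_simg (b : Module.Basis (Fin h) K(p, k) N) (G : N →ₛₗ[τ] N) (hτ : Good τ)
    {M : Submodule (WittVector p k) N} {d dG : ℤ} (hd : IsVol b M d)
    (hG : IsOrdP (detCoeff b G) dG) : IsVol b (simg G hτ M) (d + dG) := by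
  obtain ⟨P, hP, rfl⟩ := hd
  refine ⟨smat b G * P.map τ, ?_, simg_colLat b G hτ P⟩
  rw [Matrix.det_mul, add_comm]
  refine isOrdP_mul hG ?_
  have : (P.map τ).det = τ P.det := (τ.map_det P).symm
  rw [this]
  exact isOrdP_map hτ hP

lemma latImg_one_eq_simg (F : N →ₛₗ[τ] N) (hτ : Good τ) (M : Submodule (WittVector p k) N) :
    latImg F 1 M = simg F hτ M := by
  ext y; rw [mem_latImg F hτ]; simp [mem_simg]

lemma isVol_latImg (b : Module.Basis (Fin h) K(p, k) N) (F : N →ₛₗ[τ] N) (hτ : Good τ)
    {M : Submodule (WittVector p k) N} {v d : ℤ} (hv : IsVol b M v)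
    (hd : IsOrdP (detCoeff b F) d) (n : ℕ) : IsVol b (latImg F n M) (v + n * d) := by
  induction n with
  | zero => rw [latImg_zero F hτ]; simpa using hv
  | succ n ih =>
    rw [add_comm n 1, latImg_add F hτ, latImg_one_eq_simg F hτ]
    have := isVol_simg b F hτ ih hd
    convert this using 1
    push_cast; ring

/-! ### Consequences for orders -/

lemma isOrd_le {M : Submodule (WittVector p k) N} {F : N →ₛₗ[τ] N} {s : ℕ} {r r' : ℤ}
    (h : IsOrd M F s r) (h' : latImg F s M ≤ pPow r' M) : r' ≤ r := by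
  by_contra hlt
  push Not at hlt
  exact h.2 (h'.trans (pPow_anti (by omega) M))

lemma isOrd_unique {M : Submodule (WittVector p k) N} {F : N →ₛₗ[τ] N} {s : ℕ} {r r' : ℤ}
    (h : IsOrd M F s r) (h' : IsOrd M F s r') : r = r' :=
  le_antisymm (isOrd_le h' h.1) (isOrd_le h h'.1)

/-- a nonzero lattice is not contained in `p` times itself. -/
lemma not_le_pPow_one (b : Module.Basis (Fin h) K(p, k) N) (hh : 0 < h)
    {M : Submodule (WittVector p k) N} (hM : M.IsLattice K(p, k)) : ¬ M ≤ pPow 1 M := by
  intro hle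
  obtain ⟨v, hv⟩ := exists_isVol b hM
  have := (isVol_le b hle hv (isVol_pPow b hv 1)).1
  have hh' : (0 : ℤ) < h := by exact_mod_cast hh
  linarith

lemma not_pPow_le_pPow_succ (b : Module.Basis (Fin h) K(p, k) N) (hh : 0 < h)
    {M : Submodule (WittVector p k) N} (hM : M.IsLattice K(p, k)) (r : ℤ) :
    ¬ pPow r M ≤ pPow (r + 1) M := by
  intro hle
  apply not_le_pPow_one b hh hM
  have := pPow_mono (-r) hle
  rwa [pPow_pPow, pPow_pPow, neg_add_cancel, pPow_zero, ← add_assoc, neg_add_cancel, zero_add]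
    at this

/-- (K2) -/
lemma mul_le_of_latImg_le (b : Module.Basis (Fin h) K(p, k) N) (F : N →ₛₗ[τ] N) (hτ : Good τ)
    {M : Submodule (WittVector p k) N} (hM : M.IsLattice K(p, k)) {d : ℤ}
    (hd : IsOrdP (detCoeff b F) d) {n : ℕ} {r : ℤ} (hle : latImg F n M ≤ pPow r M) :
    r * h ≤ n * d := by
  obtain ⟨v, hv⟩ := exists_isVol b hM
  have := (isVol_le b hle (isVol_latImg b F hτ hv hd n) (isVol_pPow b hv r)).1
  linarith

/-- (K3) -/
lemma mul_eq_of_latImg_eq (b : Module.Basis (Fin h) K(p, k) N) (F : N →ₛₗ[τ] N) (hτ : Good τ)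
    {M : Submodule (WittVector p k) N} (hM : M.IsLattice K(p, k)) {d : ℤ}
    (hd : IsOrdP (detCoeff b F) d) {n : ℕ} {r : ℤ} (heq : latImg F n M = pPow r M) :
    r * h = n * d := by
  obtain ⟨v, hv⟩ := exists_isVol b hM
  have h1 := isVol_latImg b F hτ hv hd n
  rw [heq] at h1
  have := isVol_unique b h1 (isVol_pPow b hv r)
  linarith

/-- (K4) -/
lemma latImg_eq_of_le_of_mul_eq (b : Module.Basis (Fin h) K(p, k) N) (F : N →ₛₗ[τ] N) (hτ : Good τ)
    {M : Submodule (WittVector p k) N} (hM : M.IsLattice K(p, k)) {d : ℤ}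
    (hd : IsOrdP (detCoeff b F) d) {n : ℕ} {r : ℤ} (hle : latImg F n M ≤ pPow r M)
    (hmul : r * h = n * d) : latImg F n M = pPow r M := by
  obtain ⟨v, hv⟩ := exists_isVol b hM
  exact (isVol_le b hle (isVol_latImg b F hτ hv hd n) (isVol_pPow b hv r)).2 (by linarith)

/-- (K5) pigeonhole for increasing chains of lattices. -/
lemma exists_eq_succ_of_chain (b : Module.Basis (Fin h) K(p, k) N)
    (X : ℕ → Submodule (WittVector p k) N) (hX : ∀ j, (X j).IsLattice K(p, k))
    (hmono : ∀ j, j ≤ h → X j ≤ X (j + 1)) (htop : X (h + 1) ≤ pPow (-1) (X 0)) :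
    ∃ j, j ≤ h ∧ X j = X (j + 1) := by
  by_contra hcon
  push Not at hcon
  choose v hv using fun j => exists_isVol b (hX j)
  have hstep : ∀ j, j ≤ h → v (j + 1) ≤ v j - 1 := by
    intro j hj
    have := isVol_le b (hmono j hj) (hv j) (hv (j + 1))
    have hne : v j ≠ v (j + 1) := fun he => hcon j hj (this.2 he)
    have := this.1
    omega
  have hind : ∀ j, j ≤ h + 1 → v j ≤ v 0 - j := by
    intro j
    induction j with
    | zero => intro _; simp
    | succ j ih =>
      intro hj
      have := hstep j (by omega)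
      have := ih (by omega)
      push_cast; omega
  have h1 := hind (h + 1) le_rfl
  have h2 := (isVol_le b htop (hv (h + 1)) (isVol_pPow b (hv 0) (-1))).1
  push_cast at h1
  linarith

/-- (K5') pigeonhole for decreasing chains of lattices. -/
lemma exists_eq_succ_of_chain' (b : Module.Basis (Fin h) K(p, k) N)
    (X : ℕ → Submodule (WittVector p k) N) (hX : ∀ j, (X j).IsLattice K(p, k))
    (hmono : ∀ j, j ≤ h → X (j + 1) ≤ X j) (hbot : pPow 1 (X 0) ≤ X (h + 1)) :
    ∃ j, j ≤ h ∧ X j = X (j + 1) := by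
  by_contra hcon
  push Not at hcon
  choose v hv using fun j => exists_isVol b (hX j)
  have hstep : ∀ j, j ≤ h → v j + 1 ≤ v (j + 1) := by
    intro j hj
    have := isVol_le b (hmono j hj) (hv (j + 1)) (hv j)
    have hne : v (j + 1) ≠ v j := fun he => hcon j hj (this.2 he).symm
    have := this.1
    omega
  have hind : ∀ j, j ≤ h + 1 → v 0 + j ≤ v j := by
    intro j
    induction j with
    | zero => intro _; simp
    | succ j ih =>
      intro hj
      have := hstep j (by omega)
      have := ih (by omega)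
      push_cast; omega
  have h1 := hind (h + 1) le_rfl
  have h2 := (isVol_le b hbot (isVol_pPow b (hv 0) 1) (hv (h + 1))).1
  push_cast at h1
  linarith

/-- (K6) existence of the order. -/
lemma exists_isOrd (b : Module.Basis (Fin h) K(p, k) N) (hh : 0 < h) (F : N →ₛₗ[τ] N) (hτ : Good τ)
    (hF : Function.Bijective F) {M : Submodule (WittVector p k) N} (hM : M.IsLattice K(p, k))
    (s : ℕ) : ∃ r : ℤ, IsOrd M F s r := by
  have hL := latImg_isLattice F hτ hF s hM
  obtain ⟨v, hv⟩ := exists_isVol b hM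
  obtain ⟨v', hv'⟩ := exists_isVol b hL
  obtain ⟨c, hc⟩ := exists_le_pPow hL.fg hM.span_eq_top
  have hh' : (0 : ℤ) < h := by exact_mod_cast hh
  obtain ⟨ub, hub, hmax⟩ := Int.exists_greatest_of_bdd (P := fun r => latImg F s M ≤ pPow r M)
    ⟨|v' - v|, fun r hr => by
      have := (isVol_le b hr hv' (isVol_pPow b hv r)).1
      rcases le_or_gt r 0 with h0 | h0
      · exact h0.trans (abs_nonneg _)
      · have : r ≤ r * h := by nlinarith
        exact le_trans (by linarith) (le_abs_self _)⟩ ⟨_, hc⟩
  exact ⟨ub, hub, fun hle => by have := hmax _ hle; omega⟩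

/-- the determinant coefficient of a surjective semilinear map is nonzero. -/
lemma detCoeff_ne_zero (b : Module.Basis (Fin h) K(p, k) N) (G : N →ₛₗ[τ] N)
    (hG : Function.Surjective G) : detCoeff b G ≠ 0 := by
  choose y hy using fun j => hG (b j)
  have : smat b G * (Matrix.of fun i j => τ (b.repr (y j) i)) = 1 := by
    ext l j
    rw [Matrix.mul_apply]
    have := repr_apply_semilinear b G (y j) l
    rw [hy j] at this
    simp only [Matrix.of_apply]
    rw [← this, Module.Basis.repr_self, Matrix.one_apply, Finsupp.single_apply]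
    simp [eq_comm]
  intro h0
  have hdet := congrArg Matrix.det this
  rw [Matrix.det_mul, ← detCoeff_eq, h0, zero_mul, Matrix.det_one] at hdet
  exact zero_ne_one hdet

lemma exists_isOrdP_detCoeff (b : Module.Basis (Fin h) K(p, k) N) (G : N →ₛₗ[τ] N)
    (hG : Function.Surjective G) : ∃ d : ℤ, IsOrdP (detCoeff b G) d :=
  exists_isOrdP (detCoeff_ne_zero b G hG)

end Groth.Agent.Lib.IsocMat_helper3
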