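import Groth.Agent.Lib.IsocCompl_helper3

/-!
# Newton multiplicities of a direct sum of standard isocrystals (helper3)
-/

set_option autoImplicit false
set_option linter.unusedSectionVars false
set_option linter.style.haveILetI false

noncomputable section

open scoped Pointwise Isocrystal

universe u v

namespace Groth.Agent.Lib.IsocMult_helper3

open Isoc Groth.Agent.Lib.Isoc_helper3 Groth.Agent.Lib.IsocIsocl_helper3
  Groth.Agent.Lib.IsocUniq_helper3 Groth.Agent.Lib.IsocSlopePart_helper3
  Groth.Agent.Lib.IsocStd_helper3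

variable {p : ℕ} [Fact p.Prime] {k : Type u} [Field k] [CharP k p] [PerfectRing k p]
variable {N : Type v} [AddCommGroup N] [Module (WittVector p k) N] [Module K(p, k) N]
  [IsScalarTower (WittVector p k) K(p, k) N]
variable {τ : K(p, k) →+* K(p, k)}

lemma stdIsoc_bijective (hτ : Good τ) (d : ℤ) (h : ℕ) :
    Function.Bijective (stdIsoc (p := p) (k := k) τ d h) :=
  ⟨stdIsoc_injective τ d h,
    Groth.Agent.Lib.IsocSub_helper3.surjective_of_injective hτ (stdIsoc_injective τ d h)⟩

theorem newtonMult_eq_sum [FiniteDimensional K(p, k) N] (F : N →ₛₗ[τ] N) (hτ : Good τ)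
    {ι : Type} [Fintype ι] (d : ι → ℤ) (h : ι → ℕ)
    (e : N ≃ₗ[K(p, k)] ((i : ι) → (Fin (h i) → K(p, k)))) (hh : ∀ i, 0 < h i)
    (he : ∀ x i, e (F x) i = stdIsoc τ (d i) (h i) (e x i)) (μ : ℚ) :
    newtonMult F μ = ∑ i, (if ((d i : ℚ) / (h i : ℚ)) = μ then h i else 0) := by
  classical
  set S := slopePart F μ with hS
  obtain ⟨hSst, hSiso⟩ := slopePart_mem F hτ μ
  -- (1) components of the wrong slope vanish on `S`
  have h1 : ∀ i, (d i : ℚ) / (h i : ℚ) ≠ μ → ∀ x ∈ S, e x i = 0 := by
    intro i hi x hx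
    have := hom_eq_zero (F.restrict hSst) (stdIsoc τ (d i) (h i)) hτ (stdIsoc_bijective hτ _ _)
      hSiso (stdIsoc_isIsoclinic hτ (d i) (hh i)) (Ne.symm hi)
      ((LinearMap.proj i).comp (e.toLinearMap.comp S.subtype)) (fun x => he x.1 i)
    exact LinearMap.congr_fun this ⟨x, hx⟩
  -- (2) factors of the right slope lie in `S`
  have h2 : ∀ i, (d i : ℚ) / (h i : ℚ) = μ → ∀ v : Fin (h i) → K(p, k),
      e.symm (Pi.single i v) ∈ S := by
    intro i hi v
    let g : (Fin (h i) → K(p, k)) →ₗ[K(p, k)] N :=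
      e.symm.toLinearMap.comp (LinearMap.single K(p, k) (fun i => Fin (h i) → K(p, k)) i)
    have hg : ∀ v, g (stdIsoc τ (d i) (h i) v) = F (g v) := by
      intro v
      apply e.injective
      funext j
      show e (e.symm (Pi.single i (stdIsoc τ (d i) (h i) v))) j = e (F (e.symm (Pi.single i v))) j
      rw [e.apply_symm_apply, he, e.apply_symm_apply]
      by_cases hji : j = i
      · subst hji; rw [Pi.single_eq_same, Pi.single_eq_same]
      · rw [Pi.single_eq_of_ne hji, Pi.single_eq_of_ne hji, map_zero]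
    have hiso : IsIsoclinicIn F ((⊤ : Submodule K(p, k) _).map g) ((d i : ℚ) / (h i : ℚ)) :=
      ((isIsoclinic_iff_top _ _).mp (stdIsoc_isIsoclinic hτ (d i) (hh i))).map' hτ g hg
    have hst : ∀ x ∈ (⊤ : Submodule K(p, k) _).map g, F x ∈ (⊤ : Submodule K(p, k) _).map g := by
      rintro _ ⟨v, -, rfl⟩
      exact ⟨stdIsoc τ (d i) (h i) v, trivial, hg v⟩
    rw [hi] at hiso
    exact le_slopePart F hτ hst hiso ⟨v, trivial, rfl⟩
  set I : Set ι := {i | (d i : ℚ) / (h i : ℚ) = μ} with hI
  set J : Set ι := {i | (d i : ℚ) / (h i : ℚ) ≠ μ} with hJ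
  have hmap : S.map e.toLinearMap = ⨅ i ∈ J, LinearMap.ker
      (LinearMap.proj i : ((i : ι) → (Fin (h i) → K(p, k))) →ₗ[K(p, k)] (Fin (h i) → K(p, k))) := by
    ext y
    simp only [Submodule.mem_iInf, LinearMap.mem_ker, LinearMap.proj_apply]
    constructor
    · rintro ⟨x, hx, rfl⟩ i hi
      exact h1 i hi x hx
    · intro hy
      refine ⟨e.symm y, ?_, e.apply_symm_apply y⟩
      have : y = ∑ i, Pi.single i (y i) := (Finset.univ_sum_single y).symm
      rw [this, map_sum]
      refine Submodule.sum_mem _ (fun i _ => ?_)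
      by_cases hi : (d i : ℚ) / (h i : ℚ) = μ
      · exact h2 i hi (y i)
      · rw [hy i hi, Pi.single_zero, map_zero]; exact Submodule.zero_mem _
  have hd : Disjoint I J := by
    rw [Set.disjoint_left]
    intro i hi hj
    exact hj hi
  have hu : Set.univ ⊆ I ∪ J := by
    intro i _
    by_cases hi : (d i : ℚ) / (h i : ℚ) = μ
    · exact Or.inl hi
    · exact Or.inr hi
  unfold newtonMult
  rw [← hS, ← LinearEquiv.finrank_map_eq e S, hmap,
    LinearEquiv.finrank_eq (LinearMap.iInfKerProjEquiv K(p, k) (fun i => Fin (h i) → K(p, k)) hd hu),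
    Module.finrank_pi_fintype]
  simp only [Module.finrank_fin_fun]
  rw [← Finset.sum_filter]
  exact (Finset.sum_subtype (Finset.univ.filter fun i => (d i : ℚ) / (h i : ℚ) = μ)
    (by intro i; simp [hI]) (fun i => h i)).symm

end Groth.Agent.Lib.IsocMult_helper3
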