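import Groth.Agent.Lib.IsocDecomp_helper3

/-!
# Helper library for the `Isoc` statements (helper3): the end point of the Newton polygon
-/

set_option autoImplicit false
set_option linter.unusedSectionVars false

noncomputable section

open scoped Pointwise Isocrystal
open Filter Topology

universe u v w

namespace Groth.Agent.Lib.IsocNewton_helper3

open Isoc Groth.Agent.Lib.Isoc_helper3 Groth.Agent.Lib.IsocMat_helper3
  Groth.Agent.Lib.IsocOrd_helper3 Groth.Agent.Lib.IsocSlope_helper3 Groth.Agent.Lib.IsocEff_helper3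
  Groth.Agent.Lib.IsocEff2_helper3 Groth.Agent.Lib.IsocRat_helper3 Groth.Agent.Lib.IsocRat2_helper3
  Groth.Agent.Lib.IsocIsocl_helper3 Groth.Agent.Lib.IsocSub_helper3 Groth.Agent.Lib.IsocUniq_helper3
  Groth.Agent.Lib.IsocSlopePart_helper3 Groth.Agent.Lib.IsocFit_helper3
  Groth.Agent.Lib.IsocDecomp_helper3

variable {p : ℕ} [Fact p.Prime] {k : Type u} [Field k] [CharP k p] [PerfectRing k p]
variable {N : Type v} [AddCommGroup N] [Module (WittVector p k) N] [Module K(p, k) N]
  [IsScalarTower (WittVector p k) K(p, k) N]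
variable {τ : K(p, k) →+* K(p, k)} {h : ℕ}

/-- a basis of the slope part generating a lattice on which a power of `F` is a power of `p`. -/
lemma exists_slope_basis [FiniteDimensional K(p, k) N] (F : N →ₛₗ[τ] N) (hτ : Good τ) (μ : ℚ) :
    ∃ (v : Module.Basis (Fin (newtonMult F μ)) K(p, k) (slopePart F μ)) (r : ℤ) (s : ℕ),
      0 < s ∧ (r : ℚ) / s = μ ∧
      latImg F s (Submodule.span (WittVector p k) (Set.range fun i => (v i : N))) =
        pPow r (Submodule.span (WittVector p k) (Set.range fun i => (v i : N))) := by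
  obtain ⟨hP, M', hM', r, s, hs, hrs, heq⟩ := slopePart_mem F hτ μ
  have := hM'
  have hrank : Module.finrank (WittVector p k) M' = newtonMult F μ := by
    apply Module.finrank_eq_of_rank_eq
    rw [Submodule.IsLattice.rank' K(p, k) M']
    exact (Module.finrank_eq_rank _ _).symm
  let e₀ := Module.finBasisOfFinrankEq (WittVector p k) M' hrank
  refine ⟨e₀.extendOfIsLattice K(p, k), r, s, hs, hrs, ?_⟩
  have hspan : Submodule.span (WittVector p k)
      (Set.range fun i => ((e₀.extendOfIsLattice K(p, k) i : slopePart F μ) : N)) =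
      M'.map ((slopePart F μ).subtype.restrictScalars (WittVector p k)) := by
    have h1 : (Set.range fun i => ((e₀.extendOfIsLattice K(p, k) i : slopePart F μ) : N)) =
        ((slopePart F μ).subtype.restrictScalars (WittVector p k)) ''
          (M'.subtype '' Set.range e₀) := by
      rw [← Set.range_comp, ← Set.range_comp]
      congr 1
      ext i
      simp [Module.Basis.extendOfIsLattice_apply]
    rw [h1, ← Submodule.map_span, ← Submodule.map_span, e₀.span_eq, Submodule.map_top,
      Submodule.range_subtype]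
  rw [hspan, ← map_latImg (F := F.restrict hP) (F' := F) hτ (slopePart F μ).subtype (fun x => rfl),
    heq, map_pPow]

lemma isOrdP_prod {ι : Type*} (s : Finset ι) (f : ι → K(p, k)) (c : ι → ℤ)
    (hf : ∀ i ∈ s, IsOrdP (f i) (c i)) : IsOrdP (∏ i ∈ s, f i) (∑ i ∈ s, c i) := by
  classical
  induction s using Finset.induction_on with
  | empty => simpa using isOrdP_one (p := p) (k := k)
  | insert i s hi ih =>
    rw [Finset.prod_insert hi, Finset.sum_insert hi]
    exact isOrdP_mul (hf i (Finset.mem_insert_self _ _))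
      (ih fun j hj => hf j (Finset.mem_insert_of_mem hj))

/-- the lattice spanned by a scaled basis, as a column lattice. -/
lemma span_smul_basis_eq_colLat (b e : Module.Basis (Fin h) K(p, k) N) (d : Fin h → K(p, k)) :
    Submodule.span (WittVector p k) (Set.range fun j => d j • e j) =
      colLat b (b.toMatrix e * Matrix.diagonal d) := by
  unfold colLat
  congr 2
  ext j
  unfold colVec
  simp only [Matrix.mul_diagonal, Module.Basis.toMatrix_apply]
  calc d j • e j = d j • ∑ i, b.repr (e j) i • b i := by rw [b.sum_repr]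
    _ = ∑ i, (b.repr (e j) i * d j) • b i := by
      rw [Finset.smul_sum]
      refine Finset.sum_congr rfl fun i _ => ?_
      rw [smul_smul, mul_comm]

lemma span_basis_eq_colLat (b e : Module.Basis (Fin h) K(p, k) N) :
    Submodule.span (WittVector p k) (Set.range e) = colLat b (b.toMatrix e) := by
  have := span_smul_basis_eq_colLat b e (fun _ => 1)
  simpa [Matrix.diagonal_one] using this

lemma det_toMatrix_ne_zero (b e : Module.Basis (Fin h) K(p, k) N) : (b.toMatrix e).det ≠ 0 := by
  intro h0
  have := congrArg Matrix.det (b.toMatrix_mul_toMatrix_flip e)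
  rw [Matrix.det_mul, h0, zero_mul, Matrix.det_one] at this
  exact zero_ne_one this

/-- the Newton polygon ends at `(h, orddet F)`. -/
theorem sum_slopes [FiniteDimensional K(p, k) N] (F : N →ₛₗ[τ] N) (hτ : Good τ)
    (hF : Function.Bijective F) (b : Module.Basis (Fin h) K(p, k) N) {d : ℤ}
    (hd : IsOrdP (detCoeff b F) d) :
    ∑ᶠ μ : ℚ, μ * (newtonMult F μ : ℚ) = d := by
  classical
  choose v r s hs hrs heq using exists_slope_basis F hτ
  have hint := isInternal_slopePart F hτ hF
  have hfin : {μ : ℚ | slopePart F μ ≠ ⊥}.Finite :=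
    WellFoundedGT.finite_ne_bot_of_iSupIndep hint.submodule_iSupIndep
  -- the common exponent
  have hst : 0 < ∏ μ ∈ hfin.toFinset, s μ := Finset.prod_pos fun μ _ => hs μ
  have hc : ∀ μ, ∃ c : ℤ,
      latImg F (∏ μ ∈ hfin.toFinset, s μ)
        (Submodule.span (WittVector p k) (Set.range fun i => (v μ i : N))) =
      pPow c (Submodule.span (WittVector p k) (Set.range fun i => (v μ i : N))) ∧
      (newtonMult F μ ≠ 0 → (c : ℚ) = μ * (∏ μ ∈ hfin.toFinset, s μ : ℕ)) := by
    intro μ
    by_cases hμ : μ ∈ hfin.toFinset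
    · refine ⟨(∏ ν ∈ hfin.toFinset.erase μ, s ν : ℕ) * r μ, ?_, fun _ => ?_⟩
      · have := latImg_eq_pPow_mul F hτ (heq μ) (∏ ν ∈ hfin.toFinset.erase μ, s ν)
        rwa [Finset.prod_erase_mul _ _ hμ] at this
      · have hsne : (s μ : ℚ) ≠ 0 := by exact_mod_cast (hs μ).ne'
        have h2 : (r μ : ℚ) = μ * s μ := (div_eq_iff hsne).mp (hrs μ)
        rw [← Finset.prod_erase_mul _ _ hμ]
        push_cast
        rw [h2]; ring
    · have hbot : slopePart F μ = ⊥ := by
        by_contra hne
        exact hμ (hfin.mem_toFinset.mpr hne)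
      have hzero : Submodule.span (WittVector p k) (Set.range fun i => (v μ i : N)) = ⊥ := by
        rw [Submodule.span_eq_bot]
        rintro _ ⟨i, rfl⟩
        exact (Submodule.eq_bot_iff _).mp hbot _ (v μ i).2
      refine ⟨0, ?_, fun hne => ?_⟩
      · rw [hzero, pPow_bot]
        ext y
        rw [mem_latImg F hτ]
        constructor
        · rintro ⟨x, hx, rfl⟩
          rw [Submodule.mem_bot] at hx
          rw [hx, iterate_zero]; exact Submodule.zero_mem _
        · intro hy
          rw [Submodule.mem_bot] at hy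
          exact ⟨0, Submodule.zero_mem _, by rw [hy, iterate_zero]⟩
      · exfalso
        apply hne
        unfold newtonMult
        rw [hbot]
        exact finrank_bot _ _
  choose c hc1 hc2 using hc
  -- the adapted basis
  set B := hint.collectedBasis v with hB
  set σ := B.indexEquiv b with hσ
  set e := B.reindex σ with he
  have he_apply : ∀ j, e j = (v (σ.symm j).1 (σ.symm j).2 : N) := by
    intro j
    rw [he, Module.Basis.reindex_apply, hB, DirectSum.IsInternal.collectedBasis_coe]
  have hv_eq : ∀ μ i, (v μ i : N) = e (σ ⟨μ, i⟩) := by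
    intro μ i
    rw [he_apply, Equiv.symm_apply_apply]
  have hAle : ∀ μ, Submodule.span (WittVector p k) (Set.range fun i => (v μ i : N)) ≤
      Submodule.span (WittVector p k) (Set.range e) := by
    intro μ
    apply Submodule.span_mono
    rintro _ ⟨i, rfl⟩
    exact ⟨σ ⟨μ, i⟩, (hv_eq μ i).symm⟩
  have hsub : ∀ μ, pPow (c μ) (Submodule.span (WittVector p k) (Set.range fun i => (v μ i : N))) ≤
      Submodule.span (WittVector p k)
        (Set.range fun j => (p : K(p, k)) ^ c (σ.symm j).1 • e j) := by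
    intro μ
    unfold pPow
    rw [Submodule.smul_span, Submodule.span_le]
    rintro _ ⟨_, ⟨i, rfl⟩, rfl⟩
    apply Submodule.subset_span
    refine ⟨σ ⟨μ, i⟩, ?_⟩
    simp only [Equiv.symm_apply_apply]
    rw [hv_eq]
  have hkey : latImg F (∏ μ ∈ hfin.toFinset, s μ) (Submodule.span (WittVector p k) (Set.range e)) =
      Submodule.span (WittVector p k)
        (Set.range fun j => (p : K(p, k)) ^ c (σ.symm j).1 • e j) := by
    apply le_antisymm
    · rw [latImg_eq_simg F hτ, simg_span, Submodule.span_le]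
      rintro _ ⟨_, ⟨j, rfl⟩, rfl⟩
      have h1 : e j ∈ Submodule.span (WittVector p k)
          (Set.range fun i => (v (σ.symm j).1 i : N)) := by
        rw [he_apply]; exact Submodule.subset_span ⟨_, rfl⟩
      have h2 : (⇑F)^[∏ μ ∈ hfin.toFinset, s μ] (e j) ∈ pPow (c (σ.symm j).1)
          (Submodule.span (WittVector p k) (Set.range fun i => (v (σ.symm j).1 i : N))) := by
        rw [← hc1]; exact (mem_latImg F hτ _ _ _).mpr ⟨_, h1, rfl⟩
      exact hsub _ h2
    · rw [Submodule.span_le]
      rintro _ ⟨j, rfl⟩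
      have h1 : e j ∈ Submodule.span (WittVector p k)
          (Set.range fun i => (v (σ.symm j).1 i : N)) := by
        rw [he_apply]; exact Submodule.subset_span ⟨_, rfl⟩
      have h2 := smul_mem_pPow (r := c (σ.symm j).1) h1
      rw [← hc1] at h2
      exact latImg_mono F hτ _ (hAle _) h2
  -- volumes
  obtain ⟨t, ht⟩ := exists_isOrdP (det_toMatrix_ne_zero b e)
  have hv0 : IsVol b (Submodule.span (WittVector p k) (Set.range e)) t :=
    ⟨b.toMatrix e, ht, span_basis_eq_colLat b e⟩
  have hv1 : IsVol b (latImg F (∏ μ ∈ hfin.toFinset, s μ)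
      (Submodule.span (WittVector p k) (Set.range e))) (t + ∑ j, c (σ.symm j).1) := by
    refine ⟨b.toMatrix e * Matrix.diagonal fun j => (p : K(p, k)) ^ c (σ.symm j).1, ?_, ?_⟩
    · rw [Matrix.det_mul, Matrix.det_diagonal]
      exact isOrdP_mul ht (isOrdP_prod _ _ _ fun j _ => isOrdP_zpow_p _)
    · rw [hkey]; exact span_smul_basis_eq_colLat b e _
  have hv2 := isVol_latImg b F hτ hv0 hd (∏ μ ∈ hfin.toFinset, s μ)
  have hsum : ∑ j, c (σ.symm j).1 = (∏ μ ∈ hfin.toFinset, s μ : ℕ) * d := by
    have := isVol_unique b hv1 hv2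
    linarith
  -- arithmetic
  have hcj : ∀ j, (c (σ.symm j).1 : ℚ) = (σ.symm j).1 * (∏ μ ∈ hfin.toFinset, s μ : ℕ) :=
    fun j => hc2 _ (σ.symm j).2.pos.ne'
  have hsumQ : (∑ j, ((σ.symm j).1 : ℚ)) = d := by
    have h1 : (∑ j, (c (σ.symm j).1 : ℚ)) = ((∏ μ ∈ hfin.toFinset, s μ : ℕ) : ℚ) * d := by
      exact_mod_cast hsum
    simp_rw [hcj] at h1
    rw [← Finset.sum_mul, mul_comm] at h1
    have hne : ((∏ μ ∈ hfin.toFinset, s μ : ℕ) : ℚ) ≠ 0 := by exact_mod_cast hst.ne'
    exact mul_left_cancel₀ hne h1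
  -- the fibres
  have hcard : ∀ ν : ℚ, (Finset.univ.filter fun j : Fin h => (σ.symm j).1 = ν).card =
      newtonMult F ν := by
    intro ν
    rw [← Fintype.card_subtype]
    have e1 : {j : Fin h // (σ.symm j).1 = ν} ≃
        {a : (Σ μ : ℚ, Fin (newtonMult F μ)) // a.1 = ν} :=
      σ.symm.subtypeEquiv fun j => Iff.rfl
    have e2 := e1.trans (Equiv.sigmaSubtype (β := fun μ : ℚ => Fin (newtonMult F μ)) ν)
    rw [Fintype.card_congr e2, Fintype.card_fin]
  rw [← hsumQ]
  have hcomp := Finset.sum_comp (s := (Finset.univ : Finset (Fin h))) (fun ν : ℚ => ν)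
    (fun j => (σ.symm j).1)
  rw [hcomp]
  rw [finsum_eq_sum_of_support_subset (s := Finset.univ.image fun j : Fin h => (σ.symm j).1)]
  · refine Finset.sum_congr rfl fun ν _ => ?_
    rw [hcard, nsmul_eq_mul, mul_comm]
  · intro μ hμ
    rw [Function.mem_support] at hμ
    have hne : newtonMult F μ ≠ 0 := by
      intro h0
      apply hμ
      rw [h0]; simp
    rw [Finset.coe_image, Set.mem_image]
    refine ⟨σ ⟨μ, ⟨0, Nat.pos_of_ne_zero hne⟩⟩, Finset.mem_coe.mpr (Finset.mem_univ _), ?_⟩
    rw [Equiv.symm_apply_apply]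

end Groth.Agent.Lib.IsocNewton_helper3
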