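import Groth.Agent.Lib.IsocMat_helper3
import Mathlib.Analysis.Subadditive

/-!
# Helper library for the `Isoc` statements (helper3): orders of iterates
-/

set_option autoImplicit false
set_option linter.unusedSectionVars false

noncomputable section

open scoped Pointwise Isocrystal
open Filter Topology

universe u v

namespace Groth.Agent.Lib.IsocOrd_helper3

open Isoc Groth.Agent.Lib.Isoc_helper3 Groth.Agent.Lib.IsocMat_helper3

variable {p : ℕ} [Fact p.Prime] {k : Type u} [Field k] [CharP k p] [PerfectRing k p]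
variable {N : Type v} [AddCommGroup N] [Module (WittVector p k) N] [Module K(p, k) N]
  [IsScalarTower (WittVector p k) K(p, k) N]
variable {τ : K(p, k) →+* K(p, k)}
variable {h : ℕ}

lemma latImg_le_pPow_add (F : N →ₛₗ[τ] N) (hτ : Good τ) {M : Submodule (WittVector p k) N}
    {s t : ℕ} {r r' : ℤ} (h₁ : latImg F s M ≤ pPow r M) (h₂ : latImg F t M ≤ pPow r' M) :
    latImg F (s + t) M ≤ pPow (r + r') M := by
  rw [latImg_add F hτ]
  refine (latImg_mono F hτ s h₂).trans ?_
  rw [latImg_pPow F hτ, add_comm r r', ← pPow_pPow]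
  exact pPow_mono r' h₁

lemma latImg_le_pPow_mul (F : N →ₛₗ[τ] N) (hτ : Good τ) {M : Submodule (WittVector p k) N}
    {s : ℕ} {r : ℤ} (h₁ : latImg F s M ≤ pPow r M) (n : ℕ) :
    latImg F (n * s) M ≤ pPow (n * r) M := by
  induction n with
  | zero => simp [latImg_zero F hτ]
  | succ n ih =>
    have := latImg_le_pPow_add F hτ ih h₁
    convert this using 2
    · ring
    · push_cast; ring

lemma latImg_eq_pPow_mul (F : N →ₛₗ[τ] N) (hτ : Good τ) {M : Submodule (WittVector p k) N}
    {s : ℕ} {r : ℤ} (h₁ : latImg F s M = pPow r M) (n : ℕ) :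
    latImg F (n * s) M = pPow (n * r) M := by
  induction n with
  | zero => simp [latImg_zero F hτ]
  | succ n ih =>
    have : (n + 1) * s = s + n * s := by ring
    rw [this, latImg_add F hτ, ih, latImg_pPow F hτ, h₁, pPow_pPow]
    congr 1; push_cast; ring

/-- Fekete: the orders of the iterates have a slope. -/
lemma exists_ord_seq_tendsto (b : Module.Basis (Fin h) K(p, k) N) (hh : 0 < h) (F : N →ₛₗ[τ] N)
    (hτ : Good τ) (hF : Function.Bijective F) {M : Submodule (WittVector p k) N}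
    (hM : M.IsLattice K(p, k)) :
    ∃ o : ℕ → ℤ, (∀ n, IsOrd M F n (o n)) ∧
      ∃ lam : ℝ, Tendsto (fun n : ℕ => (o n : ℝ) / n) atTop (𝓝 lam) := by
  choose o ho using fun n => exists_isOrd b hh F hτ hF hM n
  obtain ⟨d, hd⟩ := exists_isOrdP_detCoeff b F hF.2
  refine ⟨o, ho, ?_⟩
  have hsuper : ∀ m n, o m + o n ≤ o (m + n) := fun m n =>
    isOrd_le (ho (m + n)) (latImg_le_pPow_add F hτ (ho m).1 (ho n).1)
  have hupper : ∀ n, o n ≤ n * |d| := by
    intro n
    have h1 := mul_le_of_latImg_le b F hτ hM hd (ho n).1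
    have hh' : (1 : ℤ) ≤ h := by exact_mod_cast hh
    rcases le_or_gt (o n) 0 with h0 | h0
    · exact h0.trans (mul_nonneg (by positivity) (abs_nonneg _))
    · have h2 : o n ≤ o n * h := by nlinarith
      have h3 : (n : ℤ) * d ≤ n * |d| := mul_le_mul_of_nonneg_left (le_abs_self d) (by positivity)
      linarith
  have hsub : Subadditive (fun n => -(o n : ℝ)) := by
    intro m n
    have := hsuper m n
    have h' : (o m : ℝ) + o n ≤ o (m + n) := by exact_mod_cast this
    simp only
    linarith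
  have hbdd : BddBelow (Set.range fun n : ℕ => -(o n : ℝ) / n) := by
    refine ⟨-(|d| : ℤ), ?_⟩
    rintro _ ⟨n, rfl⟩
    rcases Nat.eq_zero_or_pos n with rfl | hn
    · simp
    · have hn' : (0 : ℝ) < n := by exact_mod_cast hn
      rw [le_div_iff₀ hn']
      have : (o n : ℝ) ≤ n * (|d| : ℤ) := by exact_mod_cast hupper n
      push_cast at this ⊢
      linarith
  refine ⟨-hsub.lim, ?_⟩
  have := (hsub.tendsto_lim hbdd).neg
  refine this.congr fun n => ?_
  ring

/-- the slope along a lattice with `F^s M = p^r M`. -/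
lemma lam_eq_of_latImg_eq (b : Module.Basis (Fin h) K(p, k) N) (hh : 0 < h) (F : N →ₛₗ[τ] N)
    (hτ : Good τ) {M : Submodule (WittVector p k) N} (hM : M.IsLattice K(p, k))
    {o : ℕ → ℤ} (ho : ∀ n, 1 ≤ n → IsOrd M F n (o n)) {lam : ℝ}
    (hlam : Tendsto (fun n : ℕ => (o n : ℝ) / n) atTop (𝓝 lam))
    {s : ℕ} (hs : 0 < s) {r : ℤ} (heq : latImg F s M = pPow r M) : lam = (r : ℝ) / s := by
  have hsub : Tendsto (fun m : ℕ => (m + 1) * s) atTop atTop := by
    apply tendsto_atTop_mono (f := fun m : ℕ => m)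
    · intro m; nlinarith
    · exact tendsto_id
  have h1 := hlam.comp hsub
  have h2 : ∀ m : ℕ, ((fun n : ℕ => (o n : ℝ) / n) ∘ fun m : ℕ => (m + 1) * s) m = (r : ℝ) / s := by
    intro m
    have hpos : 1 ≤ (m + 1) * s := Nat.succ_le_of_lt (Nat.mul_pos (Nat.succ_pos m) hs)
    have hom : o ((m + 1) * s) = ((m + 1 : ℕ) : ℤ) * r := by
      refine isOrd_unique (ho _ hpos) ⟨(latImg_eq_pPow_mul F hτ heq (m + 1)).le, ?_⟩
      rw [latImg_eq_pPow_mul F hτ heq (m + 1)]
      exact not_pPow_le_pPow_succ b hh hM _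
    simp only [Function.comp_apply]
    rw [hom]
    have hs' : (s : ℝ) ≠ 0 := by exact_mod_cast hs.ne'
    have hm' : ((m : ℝ) + 1) ≠ 0 := by positivity
    push_cast
    field_simp
  have h3 : Tendsto (fun _ : ℕ => (r : ℝ) / s) atTop (𝓝 lam) := h1.congr h2
  exact (tendsto_nhds_unique h3 tendsto_const_nhds)

end Groth.Agent.Lib.IsocOrd_helper3
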