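import Groth.Agent.Lib.IsocRat_helper3

/-!
# Helper library for the `Isoc` statements (helper3): rationality of the first slope
-/

set_option autoImplicit false
set_option linter.unusedSectionVars false

noncomputable section

open scoped Pointwise Isocrystal
open Filter Topology

universe u v

namespace Groth.Agent.Lib.IsocRat2_helper3

open Isoc Groth.Agent.Lib.Isoc_helper3 Groth.Agent.Lib.IsocMat_helper3
  Groth.Agent.Lib.IsocOrd_helper3 Groth.Agent.Lib.IsocSlope_helper3 Groth.Agent.Lib.IsocEff_helper3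
  Groth.Agent.Lib.IsocEff2_helper3 Groth.Agent.Lib.IsocRat_helper3

variable {p : ℕ} [Fact p.Prime] {k : Type u} [Field k] [CharP k p] [PerfectRing k p]
variable {N : Type v} [AddCommGroup N] [Module (WittVector p k) N] [Module K(p, k) N]
  [IsScalarTower (WittVector p k) K(p, k) N]
variable {τ : K(p, k) →+* K(p, k)}
variable {h : ℕ}

/-- transfer of orders from `Φ = p^(-r) F^s` back to `F`. -/
lemma isOrd_of_isOrd_smul_iter (F : N →ₛₗ[τ] N) (hτ : Good τ) (r : ℤ) (s : ℕ)
    {M : Submodule (WittVector p k) N}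
    (ho : IsOrd M ((p : K(p, k)) ^ (-r) • iter F s) 1 0) : IsOrd M F s r := by
  obtain ⟨h1, h2⟩ := ho
  rw [latImg_smul_iter F hτ] at h1 h2
  simp only [Nat.cast_one, mul_one, zero_add] at h1 h2
  constructor
  · rw [le_pPow_iff]; simpa using h1
  · intro hle
    apply h2
    have := pPow_mono (-r) hle
    rwa [pPow_pPow, ← add_assoc, neg_add_cancel, zero_add] at this

/-- the first slope is rational with denominator at most the height, and is an order. -/
lemma exists_rational_slope (b : Module.Basis (Fin h) K(p, k) N) (F : N →ₛₗ[τ] N) (hτ : Good τ)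
    (hF : Function.Bijective F) {d : ℤ} (hd : IsOrdP (detCoeff b F) d) {lam : ℝ}
    (hlam : IsFirstSlope F lam) :
    ∃ (r : ℤ) (s : ℕ) (M : Submodule (WittVector p k) N), 0 < s ∧ s ≤ h ∧ lam = (r : ℝ) / s ∧
      M.IsLattice K(p, k) ∧ IsOrd M F s r ∧ r * h ≤ s * d := by
  have hh := pos_of_isFirstSlope b F hlam
  obtain ⟨r, s', hs'pos, hs'le, habs⟩ := Real.exists_int_int_abs_mul_sub_le lam hh
  obtain ⟨s, rfl⟩ : ∃ s : ℕ, s' = s := ⟨s'.toNat, by omega⟩
  have hs : 0 < s := by exact_mod_cast hs'pos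
  have hsle : s ≤ h := by exact_mod_cast hs'le
  have hhR : (0 : ℝ) < h := by exact_mod_cast hh
  have hsR : (0 : ℝ) < s := by exact_mod_cast hs
  rw [abs_le] at habs
  obtain ⟨hlo, hhi⟩ := habs
  simp only [Int.cast_natCast] at hlo hhi
  -- Φ
  have hΦ := isFirstSlope_smul_iter F hτ hlam (-r) s
  have hΦbij := smul_iter_bijective hF (-r) s
  set ε : ℝ := (s : ℝ) * lam + ((-r : ℤ) : ℝ) with hε
  have hεlo : -(1 / ((h : ℝ) + 1)) ≤ ε := by rw [hε]; push_cast; linarith
  have hεhi : ε ≤ 1 / ((h : ℝ) + 1) := by rw [hε]; push_cast; linarith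
  -- Ψ
  have hΨ := isFirstSlope_smul_iter _ (hτ.pow s) hΦ 1 (h + 1)
  have hΨbij := smul_iter_bijective hΦbij 1 (h + 1)
  have hΨnn : ((0 : ℤ) : ℝ) / ((1 : ℕ) : ℝ) ≤ ((h + 1 : ℕ) : ℝ) * ε + ((1 : ℤ) : ℝ) := by
    have h1 : (0 : ℝ) < (h : ℝ) + 1 := by positivity
    have : -1 ≤ ((h : ℝ) + 1) * ε := by
      have := mul_le_mul_of_nonneg_left hεlo h1.le
      rw [mul_neg, mul_one_div_cancel h1.ne'] at this
      exact this
    push_cast
    linarith
  obtain ⟨M', hM', hle'⟩ := exists_lattice_latImg_le b _ ((hτ.pow s).pow (h + 1)) hΨbij hΨ 0 1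
    (by norm_num) hΨnn
  rw [latImg_smul_iter _ (hτ.pow s)] at hle'
  have hle'' : latImg ((p : K(p, k)) ^ (-r) • iter F s) (h + 1) M' ≤ pPow (-1) M' := by
    rw [le_pPow_iff]
    simpa using hle'
  obtain ⟨M'', hM'', hle⟩ := isEffective_of_latImg_le b _ (hτ.pow s) hΦbij hM' hle''
  -- no power of Φ maps M'' into p M''
  have hnot : ∀ n, ¬ latImg ((p : K(p, k)) ^ (-r) • iter F s) n M'' ≤ pPow 1 M'' := by
    intro n hn
    have h1 := latImg_le_pPow_one_of_exists b _ (hτ.pow s) hΦbij hM'' hle hn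
    have h2 := div_le_slope_of_latImg_le b _ (hτ.pow s) hΦbij hΦ hM'' hh h1
    have h3 : (1 : ℝ) / ((h : ℝ) + 1) < 1 / h := by
      apply one_div_lt_one_div_of_lt hhR; linarith
    simp only [Int.cast_one] at h2
    linarith
  have hord : ∀ n, IsOrd M'' ((p : K(p, k)) ^ (-r) • iter F s) n 0 := fun n =>
    ⟨by rw [pPow_zero]; exact latImg_le_of_effective _ (hτ.pow s) hle n, by simpa using hnot n⟩
  have hε0 : ε = 0 := by
    refine isFirstSlope_unique _ (hτ.pow s) hΦ ⟨M'', hM'', fun _ => 0, fun n _ => hord n, ?_⟩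
    simp
  refine ⟨r, s, M'', hs, hsle, ?_, hM'', ?_, ?_⟩
  · rw [eq_div_iff hsR.ne']
    rw [hε] at hε0
    push_cast at hε0
    linarith
  · exact isOrd_of_isOrd_smul_iter F hτ r s (hord 1)
  · exact mul_le_of_latImg_le b F hτ hM'' hd (isOrd_of_isOrd_smul_iter F hτ r s (hord 1)).1

end Groth.Agent.Lib.IsocRat2_helper3
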