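import Groth.Agent.Lib.IsocEff2_helper3
import Mathlib.NumberTheory.DiophantineApproximation.Basic

/-!
# Helper library for the `Isoc` statements (helper3): uniqueness and rationality of the first slope
-/

set_option autoImplicit false
set_option linter.unusedSectionVars false

noncomputable section

open scoped Pointwise Isocrystal
open Filter Topology

universe u v

namespace Groth.Agent.Lib.IsocRat_helper3

open Isoc Groth.Agent.Lib.Isoc_helper3 Groth.Agent.Lib.IsocMat_helper3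
  Groth.Agent.Lib.IsocOrd_helper3 Groth.Agent.Lib.IsocSlope_helper3 Groth.Agent.Lib.IsocEff_helper3
  Groth.Agent.Lib.IsocEff2_helper3

variable {p : ℕ} [Fact p.Prime] {k : Type u} [Field k] [CharP k p] [PerfectRing k p]
variable {N : Type v} [AddCommGroup N] [Module (WittVector p k) N] [Module K(p, k) N]
  [IsScalarTower (WittVector p k) K(p, k) N]
variable {τ : K(p, k) →+* K(p, k)}
variable {h : ℕ}

/-- (L1) the slope does not depend on the lattice. -/
lemma slope_unique (F : N →ₛₗ[τ] N) (hτ : Good τ) {M₁ M₂ : Submodule (WittVector p k) N}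
    (hM₁ : M₁.IsLattice K(p, k)) (hM₂ : M₂.IsLattice K(p, k)) {o₁ o₂ : ℕ → ℤ}
    (ho₁ : ∀ n : ℕ, 1 ≤ n → IsOrd M₁ F n (o₁ n)) (ho₂ : ∀ n : ℕ, 1 ≤ n → IsOrd M₂ F n (o₂ n))
    {lam₁ lam₂ : ℝ} (h₁ : Tendsto (fun n : ℕ => (o₁ n : ℝ) / n) atTop (𝓝 lam₁))
    (h₂ : Tendsto (fun n : ℕ => (o₂ n : ℝ) / n) atTop (𝓝 lam₂)) : lam₁ = lam₂ := by
  obtain ⟨c₁, hc₁⟩ := exists_le_pPow hM₁.fg hM₂.span_eq_top
  obtain ⟨c₂, hc₂⟩ := exists_le_pPow hM₂.fg hM₁.span_eq_top
  have key : ∀ (M M' : Submodule (WittVector p k) N) (c c' : ℕ) (o o' : ℕ → ℤ),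
      M ≤ pPow (-(c : ℤ)) M' → M' ≤ pPow (-(c' : ℤ)) M →
      (∀ n : ℕ, 1 ≤ n → IsOrd M F n (o n)) → (∀ n : ℕ, 1 ≤ n → IsOrd M' F n (o' n)) →
      ∀ n : ℕ, 1 ≤ n → o' n - c - c' ≤ o n := by
    intro M M' c c' o o' hc hc' ho ho' n hn
    apply isOrd_le (ho n hn)
    calc latImg F n M ≤ latImg F n (pPow (-(c : ℤ)) M') := latImg_mono F hτ n hc
      _ = pPow (-(c : ℤ)) (latImg F n M') := latImg_pPow F hτ n _ _
      _ ≤ pPow (-(c : ℤ)) (pPow (o' n) M') := pPow_mono _ (ho' n hn).1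
      _ = pPow (-(c : ℤ) + o' n) M' := pPow_pPow _ _ _
      _ ≤ pPow (-(c : ℤ) + o' n) (pPow (-(c' : ℤ)) M) := pPow_mono _ hc'
      _ = pPow (o' n - c - c') M := by rw [pPow_pPow]; congr 1; ring
  have k1 := key M₁ M₂ c₁ c₂ o₁ o₂ hc₁ hc₂ ho₁ ho₂
  have k2 := key M₂ M₁ c₂ c₁ o₂ o₁ hc₂ hc₁ ho₂ ho₁
  have hdiff : Tendsto (fun n : ℕ => ((o₁ n : ℝ) / n - (o₂ n : ℝ) / n)) atTop
      (𝓝 (lam₁ - lam₂)) := h₁.sub h₂
  have hzero : Tendsto (fun n : ℕ => ((o₁ n : ℝ) / n - (o₂ n : ℝ) / n)) atTop (𝓝 0) := by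
    have hC : Tendsto (fun n : ℕ => (((c₁ : ℝ) + c₂) / n)) atTop (𝓝 0) :=
      tendsto_const_div_atTop_nhds_zero_nat _
    refine squeeze_zero_norm' ?_ hC
    filter_upwards [eventually_ge_atTop 1] with n hn
    have hn' : (0 : ℝ) < n := by exact_mod_cast hn
    rw [Real.norm_eq_abs, ← sub_div, abs_div, abs_of_pos hn']
    apply div_le_div_of_nonneg_right _ hn'.le
    rw [abs_le]
    have a1 : ((o₂ n : ℝ) - c₁ - c₂) ≤ o₁ n := by exact_mod_cast k1 n hn
    have a2 : ((o₁ n : ℝ) - c₂ - c₁) ≤ o₂ n := by exact_mod_cast k2 n hn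
    constructor <;> linarith
  have := tendsto_nhds_unique hdiff hzero
  linarith

/-- (L2) -/
lemma isFirstSlope_unique (F : N →ₛₗ[τ] N) (hτ : Good τ) {lam lam' : ℝ}
    (h₁ : IsFirstSlope F lam) (h₂ : IsFirstSlope F lam') : lam = lam' := by
  obtain ⟨M₁, hM₁, o₁, ho₁, hl₁⟩ := h₁
  obtain ⟨M₂, hM₂, o₂, ho₂, hl₂⟩ := h₂
  exact slope_unique F hτ hM₁ hM₂ ho₁ ho₂ hl₁ hl₂

/-- the ambient space of an isocrystal with a first slope is nonzero. -/
lemma pos_of_isFirstSlope (b : Module.Basis (Fin h) K(p, k) N) (F : N →ₛₗ[τ] N) {lam : ℝ}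
    (hlam : IsFirstSlope F lam) : 0 < h := by
  by_contra hh
  have h0 : h = 0 := by omega
  subst h0
  obtain ⟨M, _, o, ho, _⟩ := hlam
  have hsub : ∀ x : N, x = 0 := fun x => by
    apply b.repr.injective
    ext i
    exact i.elim0
  apply (ho 1 le_rfl).2
  intro x _
  rw [hsub x]
  exact Submodule.zero_mem _

/-- (L4) -/
lemma latImg_succ_le_of_effective (G : N →ₛₗ[τ] N) (hτ : Good τ)
    {M : Submodule (WittVector p k) N} (hM : latImg G 1 M ≤ M) (n : ℕ) :
    latImg G (n + 1) M ≤ latImg G n M := by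
  rw [latImg_add G hτ]
  exact latImg_mono G hτ n hM

lemma latImg_antitone_of_effective (G : N →ₛₗ[τ] N) (hτ : Good τ)
    {M : Submodule (WittVector p k) N} (hM : latImg G 1 M ≤ M) {m n : ℕ} (hmn : m ≤ n) :
    latImg G n M ≤ latImg G m M := by
  induction n, hmn using Nat.le_induction with
  | base => exact le_rfl
  | succ n _ ih => exact (latImg_succ_le_of_effective G hτ hM n).trans ih

lemma latImg_le_of_effective (G : N →ₛₗ[τ] N) (hτ : Good τ)
    {M : Submodule (WittVector p k) N} (hM : latImg G 1 M ≤ M) (n : ℕ) : latImg G n M ≤ M := by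
  have := latImg_antitone_of_effective G hτ hM (Nat.zero_le n)
  rwa [latImg_zero G hτ] at this

/-- (L5) a topologically nilpotent effective crystal is nilpotent mod `p` after `h` steps. -/
lemma latImg_le_pPow_one_of_exists (b : Module.Basis (Fin h) K(p, k) N) (G : N →ₛₗ[τ] N)
    (hτ : Good τ) (hG : Function.Bijective G) {M : Submodule (WittVector p k) N}
    (hM : M.IsLattice K(p, k)) (hGM : latImg G 1 M ≤ M) {n : ℕ} (hn : latImg G n M ≤ pPow 1 M) :
    latImg G h M ≤ pPow 1 M := by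
  set X : ℕ → Submodule (WittVector p k) N := fun j => latImg G j M ⊔ pPow 1 M with hX
  have hXlat : ∀ j, (X j).IsLattice K(p, k) := fun j => by
    have h1 := latImg_isLattice G hτ hG j hM
    have h2 := pPow_isLattice 1 hM
    exact Submodule.IsLattice.sup _ _ _
  have hXanti : ∀ j, X (j + 1) ≤ X j := fun j =>
    sup_le_sup_right (latImg_succ_le_of_effective G hτ hGM j) _
  have hXanti' : ∀ {i j}, i ≤ j → X j ≤ X i := fun {i j} hij =>
    sup_le_sup_right (latImg_antitone_of_effective G hτ hGM hij) _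
  have hX0 : X 0 = M := by
    simp only [hX, latImg_zero G hτ]
    exact sup_eq_left.mpr (by simpa using pPow_anti (show (0 : ℤ) ≤ 1 by norm_num) M)
  have hbot : pPow 1 (X 0) ≤ X (h + 1) := by rw [hX0]; exact le_sup_right
  obtain ⟨j, hj, hjeq⟩ := exists_eq_succ_of_chain' b X hXlat (fun j _ => hXanti j) hbot
  -- the transfer map
  have hT : ∀ j, X (j + 1) = latImg G 1 (X j) ⊔ pPow 1 M := by
    intro j
    simp only [hX]
    rw [latImg_sup G hτ, ← latImg_add G hτ, latImg_pPow G hτ, add_comm 1 j, sup_assoc]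
    congr 1
    exact (sup_eq_right.mpr (pPow_mono 1 hGM)).symm
  have hstab : ∀ i, X (j + i) = X j := by
    intro i
    induction i with
    | zero => rfl
    | succ i ih =>
      rw [← add_assoc, hT, ih, ← hT]; exact hjeq.symm
  have hXn : X (j + n) = pPow 1 M := by
    apply le_antisymm
    · refine (hXanti' (Nat.le_add_left n j)).trans ?_
      exact sup_le hn le_rfl
    · exact le_sup_right
  have hXj : X j = pPow 1 M := by rw [← hstab n, hXn]
  have : X h ≤ X j := hXanti' hj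
  rw [hXj] at this
  exact le_sup_left.trans this

/-- (L6) -/
lemma div_le_slope_of_latImg_le (b : Module.Basis (Fin h) K(p, k) N) (G : N →ₛₗ[τ] N)
    (hτ : Good τ) (hG : Function.Bijective G) {ε : ℝ} (hε : IsFirstSlope G ε)
    {M : Submodule (WittVector p k) N} (hM : M.IsLattice K(p, k)) {t : ℕ} (ht : 0 < t) {c : ℤ}
    (hle : latImg G t M ≤ pPow c M) : (c : ℝ) / t ≤ ε := by
  have hh := pos_of_isFirstSlope b G hε
  obtain ⟨o, ho, lam, hlam⟩ := exists_ord_seq_tendsto b hh G hτ hG hM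
  have heq : lam = ε := isFirstSlope_unique G hτ ⟨M, hM, o, fun n _ => ho n, hlam⟩ hε
  rw [← heq]
  have hsub : Tendsto (fun m : ℕ => (m + 1) * t) atTop atTop := by
    apply tendsto_atTop_mono (f := fun m : ℕ => m)
    · intro m; nlinarith
    · exact tendsto_id
  refine ge_of_tendsto' (hlam.comp hsub) fun m => ?_
  simp only [Function.comp_apply]
  have h1 : ((m + 1 : ℕ) : ℤ) * c ≤ o ((m + 1) * t) :=
    isOrd_le (ho _) (latImg_le_pPow_mul G hτ hle (m + 1))
  have h1' : ((m : ℝ) + 1) * c ≤ o ((m + 1) * t) := by exact_mod_cast h1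
  have ht' : (0 : ℝ) < t := by exact_mod_cast ht
  have hm' : (0 : ℝ) < (m : ℝ) + 1 := by positivity
  rw [div_le_div_iff₀ ht' (by push_cast; positivity)]
  push_cast
  nlinarith

end Groth.Agent.Lib.IsocRat_helper3
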