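import Groth.Agent.Lib.IsocSlopePart_helper3

/-!
# Helper library for the `Isoc` statements (helper3): the standard isocrystals
-/

set_option autoImplicit false
set_option linter.unusedSectionVars false

noncomputable section

open scoped Pointwise Isocrystal
open Filter Topology

universe u v w

namespace Groth.Agent.Lib.IsocStd_helper3

open Isoc Groth.Agent.Lib.Isoc_helper3 Groth.Agent.Lib.IsocMat_helper3
  Groth.Agent.Lib.IsocOrd_helper3 Groth.Agent.Lib.IsocSlope_helper3 Groth.Agent.Lib.IsocEff_helper3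
  Groth.Agent.Lib.IsocEff2_helper3 Groth.Agent.Lib.IsocRat_helper3 Groth.Agent.Lib.IsocRat2_helper3
  Groth.Agent.Lib.IsocIsocl_helper3 Groth.Agent.Lib.IsocSub_helper3 Groth.Agent.Lib.IsocUniq_helper3
  Groth.Agent.Lib.IsocSlopePart_helper3

variable {p : ℕ} [Fact p.Prime] {k : Type u} [Field k] [CharP k p] [PerfectRing k p]
variable {τ : K(p, k) →+* K(p, k)}

/-- the standard lattice `W^h` in `L^h`. -/
def stdLat (p : ℕ) [Fact p.Prime] (k : Type u) [Field k] [CharP k p] [PerfectRing k p] (h : ℕ) :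
    Submodule (WittVector p k) (Fin h → K(p, k)) :=
  Submodule.span (WittVector p k) (Set.range fun i : Fin h => (Pi.single i 1 : Fin h → K(p, k)))

lemma mem_stdLat {h : ℕ} {x : Fin h → K(p, k)} :
    x ∈ stdLat p k h ↔ ∀ i, ∃ w : WittVector p k, x i = algebraMap (WittVector p k) K(p, k) w := by
  constructor
  · intro hx
    induction hx using Submodule.span_induction with
    | mem x hx =>
      obtain ⟨j, rfl⟩ := hx
      intro i
      by_cases hij : i = j
      · subst hij; exact ⟨1, by simp⟩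
      · exact ⟨0, by simp [hij]⟩
    | zero => intro i; exact ⟨0, by simp⟩
    | add x y _ _ hx hy =>
      intro i
      obtain ⟨w, hw⟩ := hx i
      obtain ⟨w', hw'⟩ := hy i
      exact ⟨w + w', by rw [Pi.add_apply, hw, hw', map_add]⟩
    | smul c x _ hx =>
      intro i
      obtain ⟨w, hw⟩ := hx i
      refine ⟨c * w, ?_⟩
      rw [Pi.smul_apply, hw, map_mul, Algebra.smul_def]
  · intro hx
    choose w hw using hx
    have : x = ∑ i, w i • (Pi.single i 1 : Fin h → K(p, k)) := by
      ext j
      rw [Finset.sum_apply, Finset.sum_eq_single j]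
      · rw [Pi.smul_apply, Pi.single_eq_same, hw, Algebra.smul_def, mul_one]
      · intro i _ hij
        rw [Pi.smul_apply, Pi.single_eq_of_ne (Ne.symm hij), smul_zero]
      · intro hj; exact absurd (Finset.mem_univ j) hj
    rw [this]
    exact Submodule.sum_mem _ fun i _ => Submodule.smul_mem _ _ (Submodule.subset_span ⟨i, rfl⟩)

lemma stdLat_isLattice (h : ℕ) : (stdLat p k h).IsLattice K(p, k) := by
  refine ⟨Submodule.fg_span (Set.finite_range _), ?_⟩
  rw [eq_top_iff]
  intro x _
  have : x = ∑ i, x i • (Pi.single i 1 : Fin h → K(p, k)) := by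
    ext j
    rw [Finset.sum_apply, Finset.sum_eq_single j]
    · rw [Pi.smul_apply, Pi.single_eq_same, smul_eq_mul, mul_one]
    · intro i _ hij
      rw [Pi.smul_apply, Pi.single_eq_of_ne (Ne.symm hij), smul_zero]
    · intro hj; exact absurd (Finset.mem_univ j) hj
  rw [this]
  exact Submodule.sum_mem _ fun i _ => Submodule.smul_mem _ _
    (Submodule.subset_span (Submodule.subset_span ⟨i, rfl⟩))

lemma stdIsoc_injective (τ : K(p, k) →+* K(p, k)) (d : ℤ) (h : ℕ) :
    Function.Injective (stdIsoc τ d h) := by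
  rw [injective_iff_map_eq_zero]
  intro x hx
  ext j
  have := congrFun hx (finRotate h j)
  rw [stdIsoc_apply, Equiv.symm_apply_apply, Pi.zero_apply] at this
  have hc : (if (finRotate h j).val = 0 then (p : K(p, k)) ^ d else 1) ≠ 0 := by
    split_ifs
    · exact zpow_p_ne_zero d
    · exact one_ne_zero
  have := (mul_eq_zero.mp this).resolve_left hc
  exact (map_eq_zero τ).mp this

lemma val_rot_symm {h : ℕ} (i : Fin h) :
    ((finRotate h).symm i).val = if i.val = 0 then h - 1 else i.val - 1 := by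
  obtain ⟨n, rfl⟩ : ∃ n, h = n + 1 := ⟨h - 1, by have := i.pos; omega⟩
  by_cases hi : i = 0
  · subst hi
    have : (finRotate (n + 1)).symm 0 = Fin.last n := by
      rw [Equiv.symm_apply_eq, finRotate_last]
    rw [this]; simp
  · have hv : i.val ≠ 0 := fun h0 => hi (Fin.ext h0)
    rw [if_neg hv, coe_finRotate_symm_of_ne_zero hi]

/-- the iterates of the standard Frobenius, in coordinates. -/
lemma stdIsoc_iterate (τ : K(p, k) →+* K(p, k)) (d : ℤ) (h : ℕ) (n : ℕ) (hn : n ≤ h)
    (x : Fin h → K(p, k)) (i : Fin h) :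
    ((⇑(stdIsoc τ d h))^[n] x) i =
      (if i.val < n then (p : K(p, k)) ^ d else 1) * (⇑τ)^[n] (x ((⇑(finRotate h).symm)^[n] i)) := by
  induction n generalizing i with
  | zero => simp
  | succ n ih =>
    rw [Function.iterate_succ_apply', stdIsoc_apply, ih (by omega), map_mul,
      Function.iterate_succ_apply' (⇑τ), Function.iterate_succ_apply, ← mul_assoc]
    congr 1
    rw [val_rot_symm]
    by_cases hi : i.val = 0
    · rw [if_pos hi, if_pos hi, if_neg (by omega), if_pos (by omega), map_one, mul_one]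
    · rw [if_neg hi, if_neg hi, one_mul]
      by_cases hlt : i.val < n + 1
      · rw [if_pos hlt, if_pos (by omega), map_zpow_p]
      · rw [if_neg hlt, if_neg (by omega), map_one]

lemma iterate_bij {α : Type*} {f : α → α} (hf : Function.Bijective f) (n : ℕ) :
    Function.Bijective f^[n] := by
  induction n with
  | zero => exact Function.bijective_id
  | succ n ih => rw [Function.iterate_succ]; exact ih.comp hf

lemma latImg_stdLat (hτ : Good τ) (d : ℤ) (h : ℕ) :
    latImg (stdIsoc τ d h) h (stdLat p k h) = pPow d (stdLat p k h) := by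
  have hτh := hτ.pow h
  have hπ : Function.Bijective (⇑(finRotate h).symm)^[h] := iterate_bij (Equiv.bijective _) h
  ext y
  rw [mem_latImg _ hτ, mem_pPow_iff, mem_stdLat]
  constructor
  · rintro ⟨x, hx, rfl⟩ i
    rw [mem_stdLat] at hx
    obtain ⟨w, hw⟩ := hx ((⇑(finRotate h).symm)^[h] i)
    obtain ⟨w', hw'⟩ := hτh.map_W w
    refine ⟨w', ?_⟩
    rw [Pi.smul_apply, stdIsoc_iterate τ d h h le_rfl, if_pos i.isLt, hw, ← RingHom.coe_pow, hw',
      smul_eq_mul, ← mul_assoc, ← zpow_add₀ p_ne_zero, neg_add_cancel, zpow_zero, one_mul]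
  · intro hy
    choose w hw using hy
    have hsurj := fun i => hτh.surj_W (w i)
    choose w' hw' using hsurj
    obtain ⟨g, hg₁, hg₂⟩ := Function.bijective_iff_has_inverse.mp hπ
    refine ⟨fun j => algebraMap (WittVector p k) K(p, k) (w' (g j)), ?_, ?_⟩
    · rw [mem_stdLat]
      intro j
      exact ⟨_, rfl⟩
    · ext i
      rw [stdIsoc_iterate τ d h h le_rfl, if_pos i.isLt, hg₁ i, ← RingHom.coe_pow, hw', ← hw,
        Pi.smul_apply, smul_eq_mul, ← mul_assoc, ← zpow_add₀ p_ne_zero, add_neg_cancel, zpow_zero,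
        one_mul]

/-- the standard isocrystal of slope `d/h` is isoclinic of slope `d/h`. -/
lemma stdIsoc_isIsoclinic (hτ : Good τ) (d : ℤ) {h : ℕ} (hh : 0 < h) :
    IsIsoclinic (stdIsoc τ d h) ((d : ℚ) / h) :=
  ⟨stdLat p k h, stdLat_isLattice h, d, h, hh, rfl, latImg_stdLat hτ d h⟩

/-- the standard isocrystal `N_{d/h}` with `gcd(d, h) = 1` is simple. -/
theorem stdIsoc_simple (hτ : Good τ) (d : ℤ) (h : ℕ) (hh : 0 < h) (hdh : Int.gcd d h = 1)
    (P : Submodule K(p, k) (Fin h → K(p, k))) (hP : ∀ x ∈ P, stdIsoc τ d h x ∈ P) :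
    P = ⊥ ∨ P = ⊤ := by
  by_cases hbot : P = ⊥
  · left; exact hbot
  right
  have hinj := stdIsoc_injective (p := p) (k := k) τ d h
  have hPin : IsIsoclinicIn (stdIsoc τ d h) P ((d : ℚ) / h) :=
    IsIsoclinicIn.of_le hτ hinj ((isIsoclinic_iff_top _ _).mp (stdIsoc_isIsoclinic hτ d hh)) P hP
      le_top
  obtain ⟨M, hM, r, s, hs, hrs, heq⟩ := isIsoclinic_restrict_of_in _ hτ P hP hPin
  have hinj' : Function.Injective ((stdIsoc τ d h).restrict hP) := by
    intro x x' hxx
    apply Subtype.ext
    apply hinj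
    exact congrArg Subtype.val hxx
  have hsurj' := surjective_of_injective hτ hinj'
  obtain ⟨d', hd'⟩ := exists_isOrdP_detCoeff (Module.finBasis K(p, k) P) _ hsurj'
  have K3 := mul_eq_of_latImg_eq (Module.finBasis K(p, k) P) _ hτ hM hd' heq
  have hsQ : (s : ℚ) ≠ 0 := by exact_mod_cast hs.ne'
  have hhQ : (h : ℚ) ≠ 0 := by exact_mod_cast hh.ne'
  have e1 : r * h = d * s := by
    rw [div_eq_div_iff hsQ hhQ] at hrs
    exact_mod_cast hrs
  have hsZ : (s : ℤ) ≠ 0 := by exact_mod_cast hs.ne'
  have e2 : d * (Module.finrank K(p, k) P : ℤ) = d' * h := by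
    apply mul_left_cancel₀ hsZ
    linear_combination (-(Module.finrank K(p, k) P : ℤ)) * e1 + (h : ℤ) * K3
  have hdvd : (h : ℤ) ∣ (Module.finrank K(p, k) P : ℤ) := by
    have h1 : (h : ℤ) ∣ d * (Module.finrank K(p, k) P : ℤ) := ⟨d', by rw [e2]; ring⟩
    have hcop : IsCoprime (h : ℤ) d := by
      rw [Int.isCoprime_iff_gcd_eq_one, Int.gcd_comm]; exact hdh
    exact hcop.dvd_of_dvd_mul_left h1
  have hnt : Nontrivial P := Submodule.nontrivial_iff_ne_bot.mpr hbot
  have hpos : 0 < Module.finrank K(p, k) P := Module.finrank_pos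
  have hle : Module.finrank K(p, k) P ≤ h := by
    have := Submodule.finrank_le P
    simpa using this
  have hfin : Module.finrank K(p, k) P = h :=
    le_antisymm hle (Nat.le_of_dvd hpos (Int.natCast_dvd_natCast.mp hdvd))
  apply Submodule.eq_top_of_finrank_eq
  rw [hfin]; simp

end Groth.Agent.Lib.IsocStd_helper3
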