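import Groth.Agent.Lib.IsocLiftApp_helper3
import Groth.Agent.Lib.IsocStd_helper3
import Groth.Agent.Lib.IsocDecomp_helper3

/-!
# Semisimplicity of isocrystals over an algebraically closed field (helper3)

* `le_span_fixed`: an isoclinic sub-isocrystal of slope `d/h` is spanned by vectors with
  `F^h x = p^d x`.
* `stdMap`: the equivariant map `N_{d/h} → N` attached to such a vector.
* `exists_stable_isCompl`: every stable subspace has a stable complement.
-/

set_option autoImplicit false
set_option linter.unusedSectionVars false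
set_option linter.style.haveILetI false

noncomputable section

open scoped Pointwise Isocrystal

universe u v

namespace Groth.Agent.Lib.IsocSS_helper3

open Isoc Groth.Agent.Lib.Isoc_helper3 Groth.Agent.Lib.IsocMat_helper3
  Groth.Agent.Lib.IsocOrd_helper3 Groth.Agent.Lib.IsocSlope_helper3 Groth.Agent.Lib.IsocEff_helper3
  Groth.Agent.Lib.IsocEff2_helper3 Groth.Agent.Lib.IsocRat_helper3 Groth.Agent.Lib.IsocRat2_helper3
  Groth.Agent.Lib.IsocIsocl_helper3 Groth.Agent.Lib.IsocSub_helper3 Groth.Agent.Lib.IsocUniq_helper3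
  Groth.Agent.Lib.IsocSlopePart_helper3 Groth.Agent.Lib.IsocStd_helper3
  Groth.Agent.Lib.IsocDecomp_helper3 Groth.Agent.Lib.IsocLiftApp_helper3

variable {p : ℕ} [Fact p.Prime] {k : Type u} [Field k] [CharP k p] [PerfectRing k p]
variable {N : Type v} [AddCommGroup N] [Module (WittVector p k) N] [Module K(p, k) N]
  [IsScalarTower (WittVector p k) K(p, k) N]

/-! ### The operation `B ↦ p^(-d) F^h B` on `W`-submodules -/

section Psi

variable {τ : K(p, k) →+* K(p, k)}

/-- the image of a `W`-submodule under `p^(-d) F^h`. -/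
def Psi (F : N →ₛₗ[τ] N) (d : ℤ) (h : ℕ) (B : Submodule (WittVector p k) N) :
    Submodule (WittVector p k) N :=
  pPow (-d) (latImg F h B)

lemma mem_Psi (F : N →ₛₗ[τ] N) (hτ : Good τ) (d : ℤ) (h : ℕ) (B : Submodule (WittVector p k) N)
    (y : N) : y ∈ Psi F d h B ↔ ∃ x ∈ B, (p : K(p, k)) ^ (-d) • (⇑F)^[h] x = y := by
  unfold Psi
  rw [mem_pPow_iff, neg_neg, mem_latImg F hτ]
  constructor
  · rintro ⟨x, hx, hxy⟩
    exact ⟨x, hx, by
      rw [hxy, smul_smul, ← zpow_add₀ p_ne_zero, neg_add_cancel, zpow_zero, one_smul]⟩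
  · rintro ⟨x, hx, rfl⟩
    exact ⟨x, hx, by rw [smul_smul, ← zpow_add₀ p_ne_zero, add_neg_cancel, zpow_zero, one_smul]⟩

lemma Psi_iterate (F : N →ₛₗ[τ] N) (hτ : Good τ) (d : ℤ) (h : ℕ) (j : ℕ)
    (B : Submodule (WittVector p k) N) :
    (Psi F d h)^[j] B = pPow (-(d * j)) (latImg F (h * j) B) := by
  induction j with
  | zero => simp [latImg_zero F hτ]
  | succ j ih =>
    rw [Function.iterate_succ_apply', ih]
    unfold Psi
    rw [latImg_pPow F hτ, ← latImg_add F hτ, pPow_pPow]
    congr 1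
    · push_cast; ring
    · congr 1; ring

lemma latImg_bot (F : N →ₛₗ[τ] N) (hτ : Good τ) (h : ℕ) :
    latImg F h (⊥ : Submodule (WittVector p k) N) = ⊥ := by
  ext y
  rw [mem_latImg F hτ, Submodule.mem_bot]
  constructor
  · rintro ⟨x, hx, rfl⟩
    rw [Submodule.mem_bot] at hx
    rw [hx, ← iter_apply, map_zero]
  · intro hy
    exact ⟨0, Submodule.zero_mem _, by rw [hy, ← iter_apply, map_zero]⟩

lemma Psi_bot (F : N →ₛₗ[τ] N) (hτ : Good τ) (d : ℤ) (h : ℕ) :
    Psi F d h (⊥ : Submodule (WittVector p k) N) = ⊥ := by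
  unfold Psi; rw [latImg_bot F hτ, pPow_bot]

lemma Psi_sup (F : N →ₛₗ[τ] N) (hτ : Good τ) (d : ℤ) (h : ℕ)
    (B B' : Submodule (WittVector p k) N) :
    Psi F d h (B ⊔ B') = Psi F d h B ⊔ Psi F d h B' := by
  unfold Psi; rw [latImg_sup F hτ, pPow_sup]

lemma Psi_finset_sup (F : N →ₛₗ[τ] N) (hτ : Good τ) (d : ℤ) (h : ℕ) (s : Finset ℕ)
    (f : ℕ → Submodule (WittVector p k) N) :
    Psi F d h (s.sup f) = s.sup (fun j => Psi F d h (f j)) := by
  classical
  induction s using Finset.induction_on with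
  | empty => rw [Finset.sup_empty, Finset.sup_empty, Psi_bot F hτ]
  | insert a s _ ih => rw [Finset.sup_insert, Finset.sup_insert, Psi_sup F hτ, ih]

lemma Psi_fg (F : N →ₛₗ[τ] N) (hτ : Good τ) (d : ℤ) (h : ℕ) {B : Submodule (WittVector p k) N}
    (hB : B.FG) : (Psi F d h B).FG := by
  unfold Psi
  apply pPow_fg
  rw [latImg_eq_simg F hτ]
  exact simg_fg _ _ hB

lemma Psi_le_of_le (F : N →ₛₗ[τ] N) (hτ : Good τ) (d : ℤ) (h : ℕ)
    (P : Submodule K(p, k) N) (hP : ∀ x ∈ P, F x ∈ P) {B : Submodule (WittVector p k) N}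
    (hB : ∀ x ∈ B, x ∈ P) : ∀ x ∈ Psi F d h B, x ∈ P := by
  intro y hy
  rw [mem_Psi F hτ] at hy
  obtain ⟨x, hx, rfl⟩ := hy
  exact P.smul_mem _ (iterate_stable P hP h x (hB x hx))

lemma sup_range_shift {α : Type*} [SemilatticeSup α] [OrderBot α] (f : ℕ → α) (t : ℕ) (ht : 0 < t)
    (hf : f t = f 0) :
    (Finset.range t).sup (fun j => f (j + 1)) = (Finset.range t).sup f := by
  apply le_antisymm
  · apply Finset.sup_le
    intro j hj
    rw [Finset.mem_range] at hj
    by_cases hjt : j + 1 < t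
    · exact Finset.le_sup (f := f) (Finset.mem_range.mpr hjt)
    · have : j + 1 = t := by omega
      rw [this, hf]
      exact Finset.le_sup (f := f) (Finset.mem_range.mpr ht)
  · apply Finset.sup_le
    intro j hj
    rw [Finset.mem_range] at hj
    rcases j with _ | j
    · rw [← hf]
      have h1 : t = (t - 1) + 1 := by omega
      rw [h1]
      exact Finset.le_sup (f := fun j => f (j + 1)) (Finset.mem_range.mpr (by omega))
    · exact Finset.le_sup (f := fun j => f (j + 1)) (Finset.mem_range.mpr (by omega))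

end Psi

/-! ### The twisted iterate `p^(-d) F^h` -/

/-- `p^(-d) F^h` as a `σ^(a h)`-semilinear map. -/
def twistIter (a : ℤ) (F : N →ₛₗ[frob p k a] N) (d : ℤ) (h : ℕ) : N →ₛₗ[frob p k (a * h)] N where
  toFun x := (p : K(p, k)) ^ (-d) • (⇑F)^[h] x
  map_add' x y := by
    rw [← iter_apply, map_add, smul_add]; rfl
  map_smul' c x := by
    show (p : K(p, k)) ^ (-d) • (⇑F)^[h] (c • x) =
      frob p k (a * h) c • ((p : K(p, k)) ^ (-d) • (⇑F)^[h] x)
    have hc : (frob p k a ^ h) c = frob p k (a * h) c := by rw [frob_pow]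
    rw [← iter_apply, map_smulₛₗ, hc, smul_smul, smul_smul, mul_comm]; rfl

lemma twistIter_apply (a : ℤ) (F : N →ₛₗ[frob p k a] N) (d : ℤ) (h : ℕ) (x : N) :
    twistIter a F d h x = (p : K(p, k)) ^ (-d) • (⇑F)^[h] x := rfl

lemma twistIter_bijective (a : ℤ) (F : N →ₛₗ[frob p k a] N) (hF : Function.Bijective F) (d : ℤ)
    (h : ℕ) : Function.Bijective (twistIter a F d h) := by
  have h1 : Function.Bijective ((⇑F)^[h]) := hF.iterate h
  have h2 : Function.Bijective (fun y : N => (p : K(p, k)) ^ (-d) • y) :=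
    MulAction.bijective₀ (zpow_p_ne_zero _)
  exact h2.comp h1

lemma twistIter_fixed_iff (a : ℤ) (F : N →ₛₗ[frob p k a] N) (d : ℤ) (h : ℕ) (x : N) :
    twistIter a F d h x = x ↔ (⇑F)^[h] x = (p : K(p, k)) ^ d • x := by
  rw [twistIter_apply]
  constructor
  · intro hx
    have := congrArg (fun y => (p : K(p, k)) ^ d • y) hx
    simp only [smul_smul] at this
    rwa [← zpow_add₀ p_ne_zero, add_neg_cancel, zpow_zero, one_smul] at this
  · intro hx
    rw [hx, smul_smul, ← zpow_add₀ p_ne_zero, neg_add_cancel, zpow_zero, one_smul]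

/-! ### Isoclinic subspaces are spanned by fixed vectors of `p^(-d) F^h` -/

theorem le_span_fixed [IsAlgClosed k] (a : ℤ) (ha : a ≠ 0) (F : N →ₛₗ[frob p k a] N)
    (hF : Function.Bijective F) (P : Submodule K(p, k) N) (hP : ∀ x ∈ P, F x ∈ P) (d : ℤ) (h : ℕ)
    (hh : 0 < h) (hiso : IsIsoclinicIn F P ((d : ℚ) / h)) :
    P ≤ Submodule.span K(p, k) {x | x ∈ P ∧ (⇑F)^[h] x = (p : K(p, k)) ^ d • x} := by
  have hτ : Good (frob p k a) := good_frob a
  obtain ⟨M, hfg, hspan, r, s, hs, hrs, heq⟩ := hiso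
  -- `F^(h s) M = p^(d s) M`
  have hrh : (h : ℤ) * r = d * s := by
    have h1 : (s : ℚ) ≠ 0 := by exact_mod_cast hs.ne'
    have h2 : (h : ℚ) ≠ 0 := by exact_mod_cast hh.ne'
    rw [div_eq_div_iff h1 h2] at hrs
    have : ((h : ℤ) * r : ℚ) = ((d * s : ℤ) : ℚ) := by push_cast; linarith
    exact_mod_cast this
  have hpow : (Psi F d h)^[s] M = M := by
    rw [Psi_iterate F hτ, latImg_eq_pPow_mul F hτ heq h, pPow_pPow, hrh, neg_add_cancel, pPow_zero]
  set f : ℕ → Submodule (WittVector p k) N := fun j => (Psi F d h)^[j] M with hf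
  set M' : Submodule (WittVector p k) N := (Finset.range s).sup f with hM'
  have hPsiM' : Psi F d h M' = M' := by
    rw [hM', Psi_finset_sup F hτ]
    have : (fun j => Psi F d h (f j)) = fun j => f (j + 1) := by
      funext j
      exact (Function.iterate_succ_apply' _ _ _).symm
    rw [this]
    exact sup_range_shift f s hs hpow
  have hMM' : M ≤ M' := by
    have : f 0 ≤ M' := Finset.le_sup (f := f) (Finset.mem_range.mpr hs)
    exact this
  have hM'fg : M'.FG := by
    have hfj : ∀ j, (f j).FG := by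
      intro j
      induction j with
      | zero => exact hfg
      | succ j ih =>
        have : f (j + 1) = Psi F d h (f j) := Function.iterate_succ_apply' _ _ _
        rw [this]; exact Psi_fg F hτ d h ih
    rw [hM']
    generalize Finset.range s = S
    classical
    induction S using Finset.induction_on with
    | empty => rw [Finset.sup_empty]; exact Submodule.fg_bot
    | insert a S _ ih => rw [Finset.sup_insert]; exact (hfj a).sup ih
  have hM'P : ∀ x ∈ M', x ∈ P := by
    have hfj : ∀ j, ∀ x ∈ f j, x ∈ P := by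
      intro j
      induction j with
      | zero =>
        intro x hx
        rw [← hspan]; exact Submodule.subset_span hx
      | succ j ih =>
        have : f (j + 1) = Psi F d h (f j) := Function.iterate_succ_apply' _ _ _
        rw [this]; exact Psi_le_of_le F hτ d h P hP ih
    have : M' ≤ P.restrictScalars (WittVector p k) := by
      rw [hM']
      apply Finset.sup_le
      intro j _ x hx
      exact hfj j x hx
    exact fun x hx => this hx
  -- apply Dieudonné's lemma
  have hah : a * (h : ℤ) ≠ 0 := mul_ne_zero ha (by exact_mod_cast hh.ne')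
  have key := span_fixed (a * h) hah (twistIter a F d h) (twistIter_bijective a F hF d h) M' hM'fg
    (fun x hx => by
      rw [← hPsiM', mem_Psi F hτ]
      exact ⟨x, hx, rfl⟩)
    (fun y hy => by
      rw [← hPsiM', mem_Psi F hτ] at hy
      obtain ⟨x, hx, hxy⟩ := hy
      exact ⟨x, hx, hxy⟩)
  rw [← hspan, Submodule.span_le]
  intro x hx
  have h1 := key (hMM' hx)
  have h2 : Submodule.span (WittVector p k) {x | x ∈ M' ∧ twistIter a F d h x = x} ≤
      (Submodule.span K(p, k)
        {x | x ∈ Submodule.span K(p, k) (M : Set N) ∧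
          (⇑F)^[h] x = (p : K(p, k)) ^ d • x}).restrictScalars (WittVector p k) := by
    refine (Submodule.span_mono ?_).trans (Submodule.span_le_restrictScalars _ _ _)
    rintro y ⟨hy, hfix⟩
    refine ⟨?_, (twistIter_fixed_iff a F d h y).mp hfix⟩
    rw [hspan]; exact hM'P y hy
  exact h2 h1

end Groth.Agent.Lib.IsocSS_helper3
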