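import Groth.Agent.Lib.IsocUniq_helper3

/-!
# Helper library for the `Isoc` statements (helper3): the slope parts
-/

set_option autoImplicit false
set_option linter.unusedSectionVars false

noncomputable section

open scoped Pointwise Isocrystal
open Filter Topology

universe u v w

namespace Groth.Agent.Lib.IsocSlopePart_helper3

open Isoc Groth.Agent.Lib.Isoc_helper3 Groth.Agent.Lib.IsocMat_helper3
  Groth.Agent.Lib.IsocOrd_helper3 Groth.Agent.Lib.IsocSlope_helper3 Groth.Agent.Lib.IsocEff_helper3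
  Groth.Agent.Lib.IsocEff2_helper3 Groth.Agent.Lib.IsocRat_helper3 Groth.Agent.Lib.IsocRat2_helper3
  Groth.Agent.Lib.IsocIsocl_helper3 Groth.Agent.Lib.IsocSub_helper3 Groth.Agent.Lib.IsocUniq_helper3

variable {p : ℕ} [Fact p.Prime] {k : Type u} [Field k] [CharP k p] [PerfectRing k p]
variable {N : Type v} [AddCommGroup N] [Module (WittVector p k) N] [Module K(p, k) N]
  [IsScalarTower (WittVector p k) K(p, k) N]
variable {τ : K(p, k) →+* K(p, k)} {h : ℕ}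

lemma iterate_zero (F : N →ₛₗ[τ] N) (s : ℕ) : (⇑F)^[s] 0 = 0 := by
  induction s with
  | zero => rfl
  | succ s ih => rw [Function.iterate_succ_apply', ih, map_zero]

/-- the zero subspace is isoclinic of every slope. -/
lemma isIsoclinicIn_bot (F : N →ₛₗ[τ] N) (hτ : Good τ) (μ : ℚ) : IsIsoclinicIn F ⊥ μ := by
  refine ⟨⊥, Submodule.fg_bot, by simp, μ.num, μ.den, μ.den_pos, Rat.num_div_den μ, ?_⟩
  rw [pPow_bot]
  ext y
  rw [mem_latImg F hτ]
  constructor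
  · rintro ⟨x, hx, rfl⟩
    rw [Submodule.mem_bot] at hx
    rw [hx, iterate_zero]; exact Submodule.zero_mem _
  · intro hy
    rw [Submodule.mem_bot] at hy
    exact ⟨0, Submodule.zero_mem _, by rw [hy, iterate_zero]⟩

lemma stable_sup (F : N →ₛₗ[τ] N) {P₁ P₂ : Submodule K(p, k) N} (hP₁ : ∀ x ∈ P₁, F x ∈ P₁)
    (hP₂ : ∀ x ∈ P₂, F x ∈ P₂) : ∀ x ∈ P₁ ⊔ P₂, F x ∈ P₁ ⊔ P₂ := by
  intro x hx
  obtain ⟨y, hy, z, hz, rfl⟩ := Submodule.mem_sup.mp hx
  rw [map_add]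
  exact Submodule.add_mem _ (Submodule.mem_sup_left (hP₁ y hy))
    (Submodule.mem_sup_right (hP₂ z hz))

/-- the slope part is stable and isoclinic. -/
lemma slopePart_mem [FiniteDimensional K(p, k) N] (F : N →ₛₗ[τ] N) (hτ : Good τ) (μ : ℚ) :
    ∃ hP : ∀ x ∈ slopePart F μ, F x ∈ slopePart F μ, IsIsoclinic (F.restrict hP) μ := by
  let S : Set (Submodule K(p, k) N) :=
    {P | ∃ hP : ∀ x ∈ P, F x ∈ P, IsIsoclinic (F.restrict hP) μ}
  have hbot0 : ∀ x ∈ (⊥ : Submodule K(p, k) N), F x ∈ (⊥ : Submodule K(p, k) N) := by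
    intro x hx
    rw [Submodule.mem_bot] at hx ⊢
    rw [hx, map_zero]
  have hbot : ⊥ ∈ S := ⟨hbot0, isIsoclinic_restrict_of_in F hτ ⊥ hbot0 (isIsoclinicIn_bot F hτ μ)⟩
  have hsup : SupClosed S := by
    rintro P₁ ⟨hP₁, h₁⟩ P₂ ⟨hP₂, h₂⟩
    exact ⟨stable_sup F hP₁ hP₂, isIsoclinic_restrict_of_in F hτ _ (stable_sup F hP₁ hP₂)
      ((isIsoclinicIn_of_restrict F hτ P₁ hP₁ h₁).sup hτ (isIsoclinicIn_of_restrict F hτ P₂ hP₂ h₂))⟩
  have hwf : WellFoundedGT (Submodule K(p, k) N) := inferInstance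
  have : sSup S ∈ S :=
    (CompleteLattice.WellFoundedGT.isSupFiniteCompact _).isSupClosedCompact _ S ⟨⊥, hbot⟩ hsup
  exact this

/-- the slope part contains every stable subspace that is isoclinic of that slope. -/
lemma le_slopePart (F : N →ₛₗ[τ] N) (hτ : Good τ) {μ : ℚ} {P : Submodule K(p, k) N}
    (hP : ∀ x ∈ P, F x ∈ P) (h : IsIsoclinicIn F P μ) : P ≤ slopePart F μ :=
  le_sSup ⟨hP, isIsoclinic_restrict_of_in F hτ P hP h⟩

lemma slopePart_stable [FiniteDimensional K(p, k) N] (F : N →ₛₗ[τ] N) (hτ : Good τ) (μ : ℚ) :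
    ∀ x ∈ slopePart F μ, F x ∈ slopePart F μ := (slopePart_mem F hτ μ).1

lemma slopePart_isIsoclinicIn [FiniteDimensional K(p, k) N] (F : N →ₛₗ[τ] N) (hτ : Good τ) (μ : ℚ) :
    IsIsoclinicIn F (slopePart F μ) μ := by
  obtain ⟨hP, h⟩ := slopePart_mem F hτ μ
  exact isIsoclinicIn_of_restrict F hτ _ hP h

end Groth.Agent.Lib.IsocSlopePart_helper3
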