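import Groth.Agent.Lib.IsocOrd_helper3
import Mathlib.Analysis.SpecificLimits.Basic

/-!
# Helper library for the `Isoc` statements (helper3): twisted iterates and slopes
-/

set_option autoImplicit false
set_option linter.unusedSectionVars false

noncomputable section

open scoped Pointwise Isocrystal
open Filter Topology

universe u v

namespace Groth.Agent.Lib.IsocSlope_helper3

open Isoc Groth.Agent.Lib.Isoc_helper3 Groth.Agent.Lib.IsocMat_helper3
  Groth.Agent.Lib.IsocOrd_helper3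

variable {p : ℕ} [Fact p.Prime] {k : Type u} [Field k] [CharP k p] [PerfectRing k p]
variable {N : Type v} [AddCommGroup N] [Module (WittVector p k) N] [Module K(p, k) N]
  [IsScalarTower (WittVector p k) K(p, k) N]
variable {τ : K(p, k) →+* K(p, k)}
variable {h : ℕ}

/-- if `ord_M(F)` is defined then `M` is not contained in `pM`. -/
lemma not_le_pPow_one_of_isOrd (F : N →ₛₗ[τ] N) (hτ : Good τ) {M : Submodule (WittVector p k) N}
    {s : ℕ} {r : ℤ} (ho : IsOrd M F s r) : ¬ M ≤ pPow 1 M := by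
  intro hle
  apply ho.2
  calc latImg F s M ≤ latImg F s (pPow 1 M) := latImg_mono F hτ s hle
    _ = pPow 1 (latImg F s M) := latImg_pPow F hτ s 1 M
    _ ≤ pPow 1 (pPow r M) := pPow_mono 1 ho.1
    _ = pPow (r + 1) M := by rw [pPow_pPow, add_comm]

lemma isOrd_zero (F : N →ₛₗ[τ] N) (hτ : Good τ) {M : Submodule (WittVector p k) N}
    {s : ℕ} {r : ℤ} (ho : IsOrd M F s r) : IsOrd M F 0 0 := by
  refine ⟨by rw [latImg_zero F hτ, pPow_zero], ?_⟩
  rw [latImg_zero F hτ, zero_add]
  exact not_le_pPow_one_of_isOrd F hτ ho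

lemma iterate_smul_iter (F : N →ₛₗ[τ] N) (m : ℤ) (n n' : ℕ) (x : N) :
    (⇑((p : K(p, k)) ^ m • iter F n))^[n'] x = (p : K(p, k)) ^ (m * n') • (⇑F)^[n * n'] x := by
  induction n' with
  | zero => simp
  | succ n' ih =>
    rw [Function.iterate_succ_apply', ih, LinearMap.smul_apply, map_zpow_smul, smul_smul,
      ← zpow_add₀ p_ne_zero, iter_apply, ← Function.iterate_add_apply]
    congr 2
    · push_cast; ring
    · ring

lemma latImg_smul_iter (F : N →ₛₗ[τ] N) (hτ : Good τ) (m : ℤ) (n n' : ℕ)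
    (M : Submodule (WittVector p k) N) :
    latImg ((p : K(p, k)) ^ m • iter F n) n' M = pPow (m * n') (latImg F (n * n') M) := by
  ext y
  rw [mem_latImg _ (hτ.pow n), mem_pPow_iff, mem_latImg F hτ]
  constructor
  · rintro ⟨x, hx, rfl⟩
    refine ⟨x, hx, ?_⟩
    rw [iterate_smul_iter, smul_smul, ← zpow_add₀ p_ne_zero, neg_add_cancel, zpow_zero, one_smul]
  · rintro ⟨x, hx, hxy⟩
    refine ⟨x, hx, ?_⟩
    rw [iterate_smul_iter, hxy, smul_smul, ← zpow_add₀ p_ne_zero, add_neg_cancel, zpow_zero,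
      one_smul]

lemma isOrd_of_latImg_eq_pPow {τ' : K(p, k) →+* K(p, k)} (F : N →ₛₗ[τ] N) (G : N →ₛₗ[τ'] N)
    {M : Submodule (WittVector p k) N} {s s' : ℕ} {c r : ℤ}
    (heq : latImg G s' M = pPow c (latImg F s M)) (ho : IsOrd M F s r) :
    IsOrd M G s' (c + r) := by
  constructor
  · rw [heq, ← pPow_pPow]; exact pPow_mono c ho.1
  · rw [heq, add_assoc, ← pPow_pPow, pPow_le_pPow_iff]; exact ho.2

lemma isOrd_smul_iter (F : N →ₛₗ[τ] N) (hτ : Good τ) (m : ℤ) (n n' : ℕ)
    {M : Submodule (WittVector p k) N} {r : ℤ} (ho : IsOrd M F (n * n') r) :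
    IsOrd M ((p : K(p, k)) ^ m • iter F n) n' (m * n' + r) :=
  isOrd_of_latImg_eq_pPow F _ (latImg_smul_iter F hτ m n n' M) ho

/-- the first slope of a twisted iterate. -/
lemma isFirstSlope_smul_iter (F : N →ₛₗ[τ] N) (hτ : Good τ) {lam : ℝ} (hlam : IsFirstSlope F lam)
    (m : ℤ) (n : ℕ) : IsFirstSlope ((p : K(p, k)) ^ m • iter F n) (n * lam + m) := by
  obtain ⟨M, hM, o, ho, hlim⟩ := hlam
  have ho0 : IsOrd M F 0 0 := isOrd_zero F hτ (ho 1 le_rfl)
  -- orders defined for all indices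
  set o'' : ℕ → ℤ := fun j => if j = 0 then 0 else o j with ho''
  have hoall : ∀ j, IsOrd M F j (o'' j) := by
    intro j
    by_cases hj : j = 0
    · subst hj; simpa [ho''] using ho0
    · simp only [ho'', hj, if_false]; exact ho j (Nat.one_le_iff_ne_zero.mpr hj)
  refine ⟨M, hM, fun n' => m * n' + o'' (n * n'),
    fun n' _ => isOrd_smul_iter F hτ m n n' (hoall (n * n')), ?_⟩
  rcases Nat.eq_zero_or_pos n with rfl | hn
  · have : ∀ n' : ℕ, ((fun n' : ℕ => (((m * n' + o'' (0 * n') : ℤ)) : ℝ) / n')) n' =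
        (m : ℝ) * ((n' : ℝ) / n') := by
      intro n'
      simp only [ho'', zero_mul, if_true]
      push_cast; ring
    simp only [Nat.cast_zero, zero_mul, zero_add]
    have h1 : Tendsto (fun n' : ℕ => (m : ℝ) * ((n' : ℝ) / n')) atTop (𝓝 ((m : ℝ) * 1)) := by
      apply Tendsto.const_mul
      apply tendsto_const_nhds.congr'
      filter_upwards [eventually_ge_atTop 1] with n' hn'
      have : (n' : ℝ) ≠ 0 := by exact_mod_cast (Nat.one_le_iff_ne_zero.mp hn')
      rw [div_self this]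
    rw [mul_one] at h1
    refine h1.congr fun n' => ?_
    have := this n'
    simp only [zero_mul] at this ⊢
    exact this.symm
  · have hsub : Tendsto (fun n' : ℕ => n * n') atTop atTop := by
      apply tendsto_atTop_mono (f := fun m : ℕ => m)
      · intro m; nlinarith
      · exact tendsto_id
    have h1 := hlim.comp hsub
    have h2 : Tendsto (fun n' : ℕ => (n : ℝ) * ((o (n * n') : ℝ) / ((n * n' : ℕ) : ℝ)) + m) atTop
        (𝓝 (n * lam + m)) := (h1.const_mul (n : ℝ)).add_const (m : ℝ)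
    refine h2.congr' ?_
    filter_upwards [eventually_ge_atTop 1] with n' hn'
    have hn'0 : (n' : ℝ) ≠ 0 := by exact_mod_cast (Nat.one_le_iff_ne_zero.mp hn')
    have hn0 : (n : ℝ) ≠ 0 := by exact_mod_cast hn.ne'
    have hne : n * n' ≠ 0 := Nat.mul_ne_zero hn.ne' (Nat.one_le_iff_ne_zero.mp hn')
    simp only [ho'', hne, if_false]
    push_cast
    field_simp
    ring

end Groth.Agent.Lib.IsocSlope_helper3
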