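import Groth.Agent.Lib.IsocIsocl_helper3

/-!
# Helper library for the `Isoc` statements (helper3): sub-isocrystals of isoclinic isocrystals
-/

set_option autoImplicit false
set_option linter.unusedSectionVars false

noncomputable section

open scoped Pointwise Isocrystal
open Filter Topology

universe u v w

namespace Groth.Agent.Lib.IsocSub_helper3

open Isoc Groth.Agent.Lib.Isoc_helper3 Groth.Agent.Lib.IsocMat_helper3
  Groth.Agent.Lib.IsocOrd_helper3 Groth.Agent.Lib.IsocSlope_helper3 Groth.Agent.Lib.IsocEff_helper3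
  Groth.Agent.Lib.IsocEff2_helper3 Groth.Agent.Lib.IsocRat_helper3 Groth.Agent.Lib.IsocRat2_helper3
  Groth.Agent.Lib.IsocIsocl_helper3

variable {p : ℕ} [Fact p.Prime] {k : Type u} [Field k] [CharP k p] [PerfectRing k p]
variable {N : Type v} [AddCommGroup N] [Module (WittVector p k) N] [Module K(p, k) N]
  [IsScalarTower (WittVector p k) K(p, k) N]
variable {N' : Type w} [AddCommGroup N'] [Module (WittVector p k) N'] [Module K(p, k) N']
  [IsScalarTower (WittVector p k) K(p, k) N']
variable {τ : K(p, k) →+* K(p, k)}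

/-- an injective semilinear endomorphism of a finite-dimensional space is surjective. -/
lemma surjective_of_injective [FiniteDimensional K(p, k) N] {F : N →ₛₗ[τ] N} (hτ : Good τ)
    (hinj : Function.Injective F) : Function.Surjective F := by
  classical
  have hs : RingHomSurjective τ := ⟨hτ.surjective⟩
  let b := Module.finBasis K(p, k) N
  have hli : LinearIndependent K(p, k) (F ∘ b) :=
    b.linearIndependent.map_of_surjective_injective τ F.toAddMonoidHom hτ.surjective
      (fun m hm => hinj (by rw [map_zero]; exact hm)) (fun r m => map_smulₛₗ F r m)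
  have hspan : Submodule.span K(p, k) (Set.range (F ∘ b)) = ⊤ :=
    hli.span_eq_top_of_card_eq_finrank' (by simp)
  have hle : Submodule.span K(p, k) (Set.range (F ∘ b)) ≤ LinearMap.range F := by
    rw [Submodule.span_le]
    rintro _ ⟨i, rfl⟩
    exact ⟨b i, rfl⟩
  rw [hspan] at hle
  intro y
  exact hle (Submodule.mem_top (x := y))

/-- an injective semilinear endomorphism stabilising a finite-dimensional subspace maps it
onto itself. -/
lemma exists_mem_of_stable {F : N →ₛₗ[τ] N} (hτ : Good τ) (hinj : Function.Injective F)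
    (P : Submodule K(p, k) N) [FiniteDimensional K(p, k) P] (hP : ∀ x ∈ P, F x ∈ P) :
    ∀ y ∈ P, ∃ x ∈ P, F x = y := by
  intro y hy
  have hinj' : Function.Injective (F.restrict hP) := by
    intro x x' h
    apply Subtype.ext
    apply hinj
    exact congrArg Subtype.val h
  obtain ⟨x, hx⟩ := surjective_of_injective hτ hinj' ⟨y, hy⟩
  exact ⟨x.1, x.2, congrArg Subtype.val hx⟩

lemma mem_of_map_mem {F : N →ₛₗ[τ] N} (hτ : Good τ) (hinj : Function.Injective F)
    (P : Submodule K(p, k) N) [FiniteDimensional K(p, k) P] (hP : ∀ x ∈ P, F x ∈ P)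
    {x : N} (hx : F x ∈ P) : x ∈ P := by
  obtain ⟨x', hx', h⟩ := exists_mem_of_stable hτ hinj P hP _ hx
  rwa [← hinj h]

lemma iterate_stable {F : N →ₛₗ[τ] N} (P : Submodule K(p, k) N) (hP : ∀ x ∈ P, F x ∈ P) (s : ℕ) :
    ∀ x ∈ P, (⇑F)^[s] x ∈ P := by
  induction s with
  | zero => intro x hx; exact hx
  | succ s ih => intro x hx; rw [Function.iterate_succ_apply']; exact hP _ (ih x hx)

lemma mem_of_iterate_mem {F : N →ₛₗ[τ] N} (hτ : Good τ) (hinj : Function.Injective F)
    (P : Submodule K(p, k) N) [FiniteDimensional K(p, k) P] (hP : ∀ x ∈ P, F x ∈ P) (s : ℕ)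
    {x : N} (hx : (⇑F)^[s] x ∈ P) : x ∈ P := by
  induction s generalizing x with
  | zero => exact hx
  | succ s ih =>
    rw [Function.iterate_succ_apply'] at hx
    exact ih (mem_of_map_mem hτ hinj P hP hx)

/-- Comparison of lattices, relative version. -/
lemma exists_natpow_smul_mem_of_mem_span {M : Submodule (WittVector p k) N} {x : N}
    (hx : x ∈ Submodule.span K(p, k) (M : Set N)) :
    ∃ n : ℕ, (p : K(p, k)) ^ n • x ∈ M := by
  induction hx using Submodule.span_induction with
  | mem x hx => exact ⟨0, by simpa using hx⟩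
  | zero => exact ⟨0, by simp⟩
  | add x y _ _ hx hy =>
    obtain ⟨n, hn⟩ := hx
    obtain ⟨m, hm⟩ := hy
    refine ⟨n + m, ?_⟩
    rw [smul_add]
    refine M.add_mem ?_ ?_
    · rw [add_comm, pow_add, mul_smul]; exact natpow_smul_mem hn m
    · rw [pow_add, mul_smul]; exact natpow_smul_mem hm n
  | smul c x _ hx =>
    obtain ⟨n, hn⟩ := hx
    by_cases hc : c = 0
    · exact ⟨0, by simp [hc]⟩
    obtain ⟨r, u, hu⟩ := exists_isOrdP hc
    refine ⟨n + (-r).toNat, ?_⟩
    obtain ⟨m, hm⟩ : ∃ m : ℕ, ((-r).toNat : ℤ) + r = m := ⟨((-r).toNat + r).toNat, by omega⟩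
    have : (p : K(p, k)) ^ (n + (-r).toNat) • c • x =
        (u : WittVector p k) • ((p : K(p, k)) ^ m • ((p : K(p, k)) ^ n • x)) := by
      rw [← IsScalarTower.algebraMap_smul K(p, k) (u : WittVector p k), smul_smul, smul_smul,
        smul_smul, hu]
      congr 1
      rw [← zpow_natCast _ m, ← hm, zpow_add₀ p_ne_zero, zpow_natCast, pow_add]
      ring
    rw [this]
    exact M.smul_mem _ (natpow_smul_mem hn m)

/-- sub-isocrystals of isoclinic isocrystals are isoclinic of the same slope. -/
lemma IsIsoclinicIn.of_le {F : N →ₛₗ[τ] N} (hτ : Good τ) (hinj : Function.Injective F)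
    {Q : Submodule K(p, k) N} {μ : ℚ} (h : IsIsoclinicIn F Q μ)
    (P : Submodule K(p, k) N) [FiniteDimensional K(p, k) P] (hP : ∀ x ∈ P, F x ∈ P) (hPQ : P ≤ Q) :
    IsIsoclinicIn F P μ := by
  obtain ⟨M, hfg, hspan, r, s, hs, hrs, heq⟩ := h
  have hnoeth : IsNoetherianRing (WittVector p k) := inferInstance
  refine ⟨M ⊓ P.restrictScalars (WittVector p k), hfg.of_le inf_le_left, ?_, r, s, hs, hrs, ?_⟩
  · apply le_antisymm
    · rw [Submodule.span_le]
      intro x hx
      exact hx.2
    · intro x hx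
      -- `p^n x ∈ M` for some `n`
      have hxQ : x ∈ Submodule.span K(p, k) (M : Set N) := by rw [hspan]; exact hPQ hx
      obtain ⟨n, hn⟩ := exists_natpow_smul_mem_of_mem_span hxQ
      have hmem : (p : K(p, k)) ^ n • x ∈ Submodule.span K(p, k)
          ((M ⊓ P.restrictScalars (WittVector p k) : Submodule (WittVector p k) N) : Set N) :=
        Submodule.subset_span ⟨hn, P.smul_mem _ hx⟩
      have := Submodule.smul_mem _ ((p : K(p, k)) ^ n)⁻¹ hmem
      rwa [smul_smul, inv_mul_cancel₀ (pow_ne_zero _ p_ne_zero), one_smul] at this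
  · ext y
    rw [mem_latImg F hτ, mem_pPow_iff]
    constructor
    · rintro ⟨x, ⟨hxM, hxP⟩, rfl⟩
      have h1 : (⇑F)^[s] x ∈ pPow r M := by
        rw [← heq, mem_latImg F hτ]; exact ⟨x, hxM, rfl⟩
      rw [mem_pPow_iff] at h1
      exact ⟨h1, P.smul_mem _ (iterate_stable P hP s x hxP)⟩
    · rintro ⟨hyM, hyP⟩
      have h1 : y ∈ latImg F s M := by rw [heq, mem_pPow_iff]; exact hyM
      rw [mem_latImg F hτ] at h1
      obtain ⟨x, hxM, rfl⟩ := h1
      refine ⟨x, ⟨hxM, ?_⟩, rfl⟩
      have hyP' : (⇑F)^[s] x ∈ P := by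
        have := P.smul_mem ((p : K(p, k)) ^ r) hyP
        rwa [smul_smul, ← zpow_add₀ p_ne_zero, add_neg_cancel, zpow_zero, one_smul] at this
      exact mem_of_iterate_mem hτ hinj P hP s hyP'

end Groth.Agent.Lib.IsocSub_helper3
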