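import Groth.Agent.Lib.IsocSub_helper3

/-!
# Helper library for the `Isoc` statements (helper3): uniqueness of the slope of an isoclinic
isocrystal, morphisms between isoclinic isocrystals
-/

set_option autoImplicit false
set_option linter.unusedSectionVars false

noncomputable section

open scoped Pointwise Isocrystal
open Filter Topology

universe u v w

namespace Groth.Agent.Lib.IsocUniq_helper3

open Isoc Groth.Agent.Lib.Isoc_helper3 Groth.Agent.Lib.IsocMat_helper3
  Groth.Agent.Lib.IsocOrd_helper3 Groth.Agent.Lib.IsocSlope_helper3 Groth.Agent.Lib.IsocEff_helper3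
  Groth.Agent.Lib.IsocEff2_helper3 Groth.Agent.Lib.IsocRat_helper3 Groth.Agent.Lib.IsocRat2_helper3
  Groth.Agent.Lib.IsocIsocl_helper3 Groth.Agent.Lib.IsocSub_helper3

variable {p : ℕ} [Fact p.Prime] {k : Type u} [Field k] [CharP k p] [PerfectRing k p]
variable {N : Type v} [AddCommGroup N] [Module (WittVector p k) N] [Module K(p, k) N]
  [IsScalarTower (WittVector p k) K(p, k) N]
variable {N' : Type w} [AddCommGroup N'] [Module (WittVector p k) N'] [Module K(p, k) N']
  [IsScalarTower (WittVector p k) K(p, k) N']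
variable {τ : K(p, k) →+* K(p, k)} {h : ℕ}

/-- the first slope of a nonzero isoclinic isocrystal of slope `μ` is `μ`. -/
lemma isFirstSlope_of_isIsoclinic (b : Module.Basis (Fin h) K(p, k) N) (hh : 0 < h)
    (F : N →ₛₗ[τ] N) (hτ : Good τ) (hF : Function.Bijective F) {μ : ℚ} (hμ : IsIsoclinic F μ) :
    IsFirstSlope F (μ : ℝ) := by
  obtain ⟨M, hM, r, s, hs, hrs, heq⟩ := hμ
  obtain ⟨o, ho, lam, hlam⟩ := exists_ord_seq_tendsto b hh F hτ hF hM
  have hl := lam_eq_of_latImg_eq b hh F hτ hM (fun n _ => ho n) hlam hs heq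
  refine ⟨M, hM, o, fun n _ => ho n, ?_⟩
  have : (μ : ℝ) = lam := by
    rw [hl, ← hrs]; push_cast; rfl
  rw [this]; exact hlam

/-- a nonzero isocrystal is isoclinic of at most one slope. -/
lemma isIsoclinic_unique (b : Module.Basis (Fin h) K(p, k) N) (hh : 0 < h)
    (F : N →ₛₗ[τ] N) (hτ : Good τ) (hF : Function.Bijective F) {μ₁ μ₂ : ℚ}
    (h₁ : IsIsoclinic F μ₁) (h₂ : IsIsoclinic F μ₂) : μ₁ = μ₂ := by
  have := isFirstSlope_unique F hτ (isFirstSlope_of_isIsoclinic b hh F hτ hF h₁)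
    (isFirstSlope_of_isIsoclinic b hh F hτ hF h₂)
  exact_mod_cast this

/-- a finite-dimensional isocrystal which is isoclinic of two different slopes is zero. -/
lemma subsingleton_of_isIsoclinic_of_ne [FiniteDimensional K(p, k) N]
    (F : N →ₛₗ[τ] N) (hτ : Good τ) (hF : Function.Bijective F) {μ₁ μ₂ : ℚ}
    (h₁ : IsIsoclinic F μ₁) (h₂ : IsIsoclinic F μ₂) (hne : μ₁ ≠ μ₂) : Subsingleton N := by
  by_contra hns
  rw [not_subsingleton_iff_nontrivial] at hns
  have hpos : 0 < Module.finrank K(p, k) N := Module.finrank_pos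
  exact hne (isIsoclinic_unique (Module.finBasis K(p, k) N) hpos F hτ hF h₁ h₂)

/-- relative version: a stable subspace which is isoclinic of two different slopes is zero. -/
lemma eq_bot_of_isIsoclinicIn_of_ne [FiniteDimensional K(p, k) N]
    (F : N →ₛₗ[τ] N) (hτ : Good τ) (hF : Function.Bijective F) {μ₁ μ₂ : ℚ}
    (P : Submodule K(p, k) N) (hP : ∀ x ∈ P, F x ∈ P)
    (h₁ : IsIsoclinicIn F P μ₁) (h₂ : IsIsoclinicIn F P μ₂) (hne : μ₁ ≠ μ₂) : P = ⊥ := by
  have hinj : Function.Injective (F.restrict hP) := by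
    intro x x' h
    apply Subtype.ext
    apply hF.1
    exact congrArg Subtype.val h
  have hbij : Function.Bijective (F.restrict hP) := ⟨hinj, surjective_of_injective hτ hinj⟩
  have := subsingleton_of_isIsoclinic_of_ne (F.restrict hP) hτ hbij
    (isIsoclinic_restrict_of_in F hτ P hP h₁) (isIsoclinic_restrict_of_in F hτ P hP h₂) hne
  exact Submodule.eq_bot_of_subsingleton

/-- morphisms between isoclinic isocrystals of different slopes vanish. -/
lemma hom_eq_zero [FiniteDimensional K(p, k) N] [FiniteDimensional K(p, k) N']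
    (F : N →ₛₗ[τ] N) (F' : N' →ₛₗ[τ] N') (hτ : Good τ)
    (hF' : Function.Bijective F') {μ₁ μ₂ : ℚ}
    (h₁ : IsIsoclinic F μ₁) (h₂ : IsIsoclinic F' μ₂) (hne : μ₁ ≠ μ₂)
    (f : N →ₗ[K(p, k)] N') (hf : ∀ x, f (F x) = F' (f x)) : f = 0 := by
  have hP : ∀ y ∈ LinearMap.range f, F' y ∈ LinearMap.range f := by
    rintro _ ⟨x, rfl⟩
    exact ⟨F x, hf x⟩
  have e₁ : IsIsoclinicIn F' (LinearMap.range f) μ₁ := by
    have := ((isIsoclinic_iff_top F μ₁).mp h₁).map' hτ f hf
    rwa [Submodule.map_top] at this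
  have e₂ : IsIsoclinicIn F' (LinearMap.range f) μ₂ :=
    IsIsoclinicIn.of_le hτ hF'.1 ((isIsoclinic_iff_top F' μ₂).mp h₂) _ hP le_top
  have := eq_bot_of_isIsoclinicIn_of_ne F' hτ hF' _ hP e₁ e₂ hne
  exact LinearMap.range_eq_bot.mp this

end Groth.Agent.Lib.IsocUniq_helper3
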