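import Groth.Agent.Lib.SepClosedPts_lead
import Groth.Agent.Lib.IsogKernel_lead

/-! # Factoring a homomorphism through a separable isogeny (lead) -/

set_option backward.isDefEq.respectTransparency false
set_option backward.isDefEq.respectTransparency.types false
set_option linter.unusedSimpArgs false
set_option linter.unusedVariables false
set_option linter.unusedSectionVars false
set_option linter.style.longLine false
set_option linter.style.haveILetI false
set_option maxHeartbeats 800000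

universe u

open CategoryTheory CategoryTheory.Limits MonoidalCategory CartesianMonoidalCategory MonObj GrpObj
  AlgebraicGeometry Opposite Topology

namespace Groth.Agent.Lib.IsogFactor

open Groth.Agent.Lib.AssocBundle Groth.Agent.Lib.IsogKernel SchFpqcCovH7

variable {S : Scheme.{u}}

section general

variable {N G Q H : Over S} [GrpObj G] [GrpObj Q] [GrpObj H] (i : N ⟶ G) (q : G ⟶ Q)
  [IsMonHom q] (hker : AlgGrp.IsKernel i q) (ψ : G ⟶ H) [IsMonHom ψ]

include hker in
/-- a homomorphism killing the kernel of a covering homomorphism factors uniquely through it -/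
theorem factor_of_kills (hc : IsCov q.left) (hψ : i ≫ ψ = toUnit N ≫ η[H]) :
    ∃! ρ : Q ⟶ H, IsMonHom ρ ∧ q ≫ ρ = ψ := by
  haveI : Epi q := epi_of_isCov q hc
  have hf : ∀ (T : Over S) (a₁ a₂ : T ⟶ G), a₁ ≫ q = a₂ ≫ q → a₁ ≫ ψ = a₂ ≫ ψ := by
    intro T a₁ a₂ h
    obtain ⟨n, hn⟩ := ker_diff_left i q hker a₁ a₂ h
    have h1 : (n ≫ i) ≫ ψ = 1 := by
      rw [Category.assoc, hψ, ← Category.assoc, Hom.one_def]
      congr 1
      exact toUnit_unique _ _
    rw [hn, MonObj.mul_comp, h1, _root_.one_mul]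
  obtain ⟨ρ, hρ⟩ := desc_of_isCov q hc ψ hf
  have hmon : IsMonHom ρ := by
    refine ⟨?_, ?_⟩
    · rw [← IsMonHom.one_hom q, Category.assoc, hρ, IsMonHom.one_hom ψ]
    · haveI : Epi (q ⊗ₘ q) := epi_of_isCov _ (isCov_tensorHom q q hc hc)
      rw [← cancel_epi (q ⊗ₘ q)]
      rw [← Category.assoc, ← IsMonHom.mul_hom q, Category.assoc, hρ, IsMonHom.mul_hom ψ,
        ← Category.assoc, tensorHom_comp_tensorHom, hρ]
  refine ⟨ρ, ⟨hmon, hρ⟩, ?_⟩
  rintro ρ' ⟨-, h'⟩
  rw [← cancel_epi q, h', hρ]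

end general

section field

variable (k : Type u) [Field k] [IsAlgClosed k]

/-- the tensor unit as the `k`-point object used in `SepClosedPts` -/
noncomputable def unitIso : 𝟙_ (Over (Spec (CommRingCat.of k))) ≅
    Over.mk (Spec.map (CommRingCat.ofHom (algebraMap k k))) :=
  Over.isoMk (Iso.refl _) (by
    show 𝟙 _ ≫ Spec.map (CommRingCat.ofHom (RingHom.id k)) = 𝟙 _
    rw [Category.id_comp, CommRingCat.ofHom_id, Spec.map_id])

theorem eq_of_kpts {N Y : Over (Spec (CommRingCat.of k))} [Smooth N.hom] [IsSeparated Y.hom]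
    (f₁ f₂ : N ⟶ Y)
    (h : ∀ P : 𝟙_ (Over (Spec (CommRingCat.of k))) ⟶ N, P ≫ f₁ = P ≫ f₂) : f₁ = f₂ := by
  apply Groth.Agent.Lib.SepClosedPts.eq_of_Kpts k k N Y f₁ f₂
  intro x
  have h1 := h ((unitIso k).hom ≫ x)
  rw [Category.assoc, Category.assoc] at h1
  exact (cancel_epi (unitIso k).hom).1 h1

theorem main11090 (E E' E'' : Over (Spec (CommRingCat.of k)))
    [GrpObj E] [GrpObj E'] [GrpObj E''] [IsSeparated E''.hom]
    (φ : E ⟶ E') [IsMonHom φ] [QuasiCompact φ.left] [Surjective φ.left] [Etale φ.left]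
    (ψ : E ⟶ E'') [IsMonHom ψ]
    (hker : ∀ P : 𝟙_ (Over (Spec (CommRingCat.of k))) ⟶ E, P ≫ φ = η[E'] → P ≫ ψ = η[E'']) :
    ∃! ρ : E' ⟶ E'', IsMonHom ρ ∧ φ ≫ ρ = ψ := by
  have hk : AlgGrp.IsKernel (pullback.fst φ η[E']) φ := by
    have h0 := IsPullback.of_hasPullback φ η[E']
    have h1 : pullback.snd φ η[E'] = toUnit _ := toUnit_unique _ _
    rw [h1] at h0
    exact h0
  haveI : Smooth (Limits.pullback φ η[E']).hom :=
    prop_kernel (pullback.fst φ η[E']) φ hk @Smooth inferInstance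
  have hc : IsCov φ.left := isCov_of_flat φ.left
  apply factor_of_kills (pullback.fst φ η[E']) φ hk ψ hc
  apply eq_of_kpts k
  intro P
  have hP : P ≫ toUnit (Limits.pullback φ η[E']) = 𝟙 _ := toUnit_unique _ _
  have h2 : (P ≫ pullback.fst φ η[E']) ≫ φ = η[E'] := by
    rw [Category.assoc, hk.w, ← Category.assoc, hP, Category.id_comp]
  have h3 := hker _ h2
  rw [Category.assoc] at h3
  rw [h3, ← Category.assoc, hP, Category.id_comp]

end field

end Groth.Agent.Lib.IsogFactor
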