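import Groth.Agent.Lib.IsogFib_lead

/-! # Homomorphisms of abelian schemes: quasi-finite iff surjective; Néron models (lead) -/

set_option backward.isDefEq.respectTransparency false
set_option backward.isDefEq.respectTransparency.types false
set_option linter.unusedSimpArgs false
set_option linter.unusedVariables false
set_option linter.unusedSectionVars false
set_option linter.style.longLine false
set_option linter.style.haveILetI false
set_option linter.unnecessarySimpa false
set_option maxHeartbeats 800000

universe u

open CategoryTheory CategoryTheory.Limits MonoidalCategory CartesianMonoidalCategory MonObj GrpObj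
  AlgebraicGeometry Opposite Topology TopologicalSpace

namespace Groth.Agent.Lib.IsogFib

variable {S : Scheme.{u}}

theorem lqf_iff_forall_fibre {G H : Over S} [GrpObj G] [GrpObj H] (u : G ⟶ H) [IsMonHom u]
    [LocallyOfFiniteType u.left] :
    LocallyQuasiFinite u.left ↔
      ∀ s : S, LocallyQuasiFinite ((Over.pullback (S.fromSpecResidueField s)).map u).left := by
  constructor
  · intro hq s
    exact MorphismProperty.of_isPullback (P := @LocallyQuasiFinite)
      (Groth.Agent.Lib.TorsorBC.isPullback_map_left (S.fromSpecResidueField s) u).flip hq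
  · intro h
    apply QSecH8.locallyQuasiFinite_of_fibreDimAt_le_zero
    intro x
    rw [← Groth.Agent.Lib.HomLqf.fibreDimAt_const_rel u _ x
      (Groth.Agent.Lib.HomLqf.hom_unit (G.hom x)),
      (Groth.Agent.Lib.HomLqf.lqf_fibre_iff u _).mp (h _)]

theorem surj_iff_forall_fibre {A B : Over S} (f : A ⟶ B) :
    Surjective f.left ↔
      ∀ s : S, Surjective ((Over.pullback (S.fromSpecResidueField s)).map f).left := by
  constructor
  · intro hq s
    exact MorphismProperty.of_isPullback (P := @Surjective)
      (Groth.Agent.Lib.TorsorBC.isPullback_map_left (S.fromSpecResidueField s) f).flip hq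
  · intro h
    refine ⟨fun b => ?_⟩
    obtain ⟨y⟩ : Nonempty (PrimeSpectrum (S.residueField (B.hom b))) := inferInstance
    obtain ⟨z, hz1, hz2⟩ := Scheme.Pullback.exists_preimage_pullback (f := B.hom)
      (g := S.fromSpecResidueField (B.hom b)) b y (Scheme.fromSpecResidueField_apply _ _).symm
    obtain ⟨w, hw⟩ := (h (B.hom b)).surj z
    refine ⟨pullback.fst A.hom (S.fromSpecResidueField (B.hom b)) w, ?_⟩
    have sq := (Groth.Agent.Lib.TorsorBC.isPullback_map_left (S.fromSpecResidueField (B.hom b)) f)
    have e : (pullback.fst A.hom (S.fromSpecResidueField (B.hom b)) ≫ f.left) w =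
        (((Over.pullback (S.fromSpecResidueField (B.hom b))).map f).left ≫
          pullback.fst B.hom (S.fromSpecResidueField (B.hom b))) w := by rw [sq.w]; rfl
    exact e.trans ((congrArg (pullback.fst B.hom (S.fromSpecResidueField (B.hom b))) hw).trans hz1)

theorem fibre_iff (A B : Over S) [GrpObj A] [IsProper A.hom] [GeometricallyConnected A.hom]
    [GrpObj B] [IsProper B.hom] [GeometricallyConnected B.hom]
    (f : A ⟶ B) [IsMonHom f] (s : S)
    (hdim : topologicalKrullDim ↥(A.hom.fiber s) = topologicalKrullDim ↥(B.hom.fiber s)) :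
    LocallyQuasiFinite ((Over.pullback (S.fromSpecResidueField s)).map f).left ↔
      Surjective ((Over.pullback (S.fromSpecResidueField s)).map f).left := by
  haveI : IsProper (Red.bc (S.fromSpecResidueField s) A).hom :=
    (inferInstance : IsProper (pullback.snd A.hom (S.fromSpecResidueField s)))
  haveI : IsProper (Red.bc (S.fromSpecResidueField s) B).hom :=
    (inferInstance : IsProper (pullback.snd B.hom (S.fromSpecResidueField s)))
  haveI : ConnectedSpace ↥(Red.bc (S.fromSpecResidueField s) A).left :=
    (inferInstance : ConnectedSpace ↥(A.hom.fiber s))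
  haveI : ConnectedSpace ↥(Red.bc (S.fromSpecResidueField s) B).left :=
    (inferInstance : ConnectedSpace ↥(B.hom.fiber s))
  exact field_iff (k := ↑(S.residueField s)) (Red.bc (S.fromSpecResidueField s) A)
    (Red.bc (S.fromSpecResidueField s) B) ((Over.pullback (S.fromSpecResidueField s)).map f) hdim

theorem main18385 {S : Scheme.{u}} (A B : Over S)
    [GrpObj A] [IsProper A.hom] [GeometricallyConnected A.hom]
    [GrpObj B] [IsProper B.hom] [GeometricallyConnected B.hom]
    (f : A ⟶ B) [IsMonHom f]
    (hdim : ∀ s : S, topologicalKrullDim ↥(A.hom.fiber s) = topologicalKrullDim ↥(B.hom.fiber s)) :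
    LocallyQuasiFinite f.left ↔ Surjective f.left := by
  haveI : LocallyOfFiniteType (f.left ≫ B.hom) := by rw [Over.w f]; infer_instance
  haveI : LocallyOfFiniteType f.left := locallyOfFiniteType_of_comp f.left B.hom
  rw [lqf_iff_forall_fibre f, surj_iff_forall_fibre f]
  refine forall_congr' fun s => ?_
  exact fibre_iff A B f s (hdim s)

theorem main17459 (R K : Type u) [CommRing R] [IsDomain R]
    [IsDiscreteValuationRing R] [Field K] [Algebra R K] [IsFractionRing R K]
    (N N' : Over (Spec (CommRingCat.of R))) [GrpObj N] [GrpObj N']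
    (hN : SGA7.IsNeron R K N) (hN' : SGA7.IsNeron R K N')
    [IsProper ((SGA7.genFib R K).obj N).hom] [GeometricallyIntegral ((SGA7.genFib R K).obj N).hom]
    [IsProper ((SGA7.genFib R K).obj N').hom] [GeometricallyIntegral ((SGA7.genFib R K).obj N').hom]
    (hdim : topologicalKrullDim ↥((SGA7.genFib R K).obj N).left = topologicalKrullDim ↥((SGA7.genFib R K).obj N').left)
    (u : N ⟶ N') [IsMonHom u]
    [LocallyQuasiFinite (SGA7.fibreHom (IsLocalRing.closedPoint R) u).left] :
    SGA7.IsIsogenyOver ((SGA7.genFib R K).map u) := by
  haveI : Smooth N.hom := hN.1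
  haveI : LocallyOfFiniteType (u.left ≫ N'.hom) := by rw [Over.w u]; infer_instance
  haveI : LocallyOfFiniteType u.left := locallyOfFiniteType_of_comp u.left N'.hom
  have hopen := (Groth.Agent.Lib.HomLqf.main5315 _ N N' u).1
  have hall : ∀ s : ↥(Spec (CommRingCat.of R)), LocallyQuasiFinite
      ((Over.pullback ((Spec (CommRingCat.of R)).fromSpecResidueField s)).map u).left := by
    intro s
    have hmem : IsLocalRing.closedPoint R ∈ {s : ↥(Spec (CommRingCat.of R)) |
        LocallyQuasiFinite
          ((Over.pullback ((Spec (CommRingCat.of R)).fromSpecResidueField s)).map u).left} :=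
      ‹LocallyQuasiFinite (SGA7.fibreHom (IsLocalRing.closedPoint R) u).left›
    exact (IsLocalRing.specializes_closedPoint (R := R) s).mem_open hopen hmem
  haveI hlqf : LocallyQuasiFinite u.left := (lqf_iff_forall_fibre u).mpr hall
  have sqK := (Groth.Agent.Lib.TorsorBC.isPullback_map_left
    (Spec.map (CommRingCat.ofHom (algebraMap R K))) u).flip
  haveI hlqfK : LocallyQuasiFinite ((SGA7.genFib R K).map u).left :=
    MorphismProperty.of_isPullback (P := @LocallyQuasiFinite) sqK hlqf
  haveI hsub : Subsingleton ↥(Spec (CommRingCat.of K)) :=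
    inferInstanceAs (Subsingleton (PrimeSpectrum K))
  haveI : IsDomain (CommRingCat.of K) := inferInstanceAs (IsDomain K)
  haveI : IsIntegral (Spec (CommRingCat.of K)) := inferInstance
  haveI : IsIntegral ((SGA7.genFib R K).obj N).left :=
    GeometricallyIntegral.isIntegral_of_subsingleton ((SGA7.genFib R K).obj N).hom
  haveI : IsIntegral ((SGA7.genFib R K).obj N').left :=
    GeometricallyIntegral.isIntegral_of_subsingleton ((SGA7.genFib R K).obj N').hom
  unfold SGA7.IsIsogenyOver
  refine ⟨surj_of_lqf _ _ ((SGA7.genFib R K).map u) hdim, ?_⟩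
  intro Nk i hK
  have sq : IsPullback i.left Nk.hom ((SGA7.genFib R K).map u).left
      η[(SGA7.genFib R K).obj N'].left := by
    have h := (show IsPullback i (toUnit Nk) ((SGA7.genFib R K).map u)
      η[(SGA7.genFib R K).obj N'] from hK).map (Over.forget _)
    exact h
  haveI : LocallyQuasiFinite Nk.hom :=
    MorphismProperty.of_isPullback (P := @LocallyQuasiFinite) sq hlqfK
  haveI : IsClosedImmersion η[(SGA7.genFib R K).obj N'].left := by
    haveI : IsClosedImmersion (η[(SGA7.genFib R K).obj N'].left ≫
        ((SGA7.genFib R K).obj N').hom) := by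
      rw [Over.w]; exact (inferInstance : IsClosedImmersion (𝟙 (Spec (CommRingCat.of K))))
    exact IsClosedImmersion.of_comp _ ((SGA7.genFib R K).obj N').hom
  haveI : IsClosedImmersion i.left :=
    MorphismProperty.of_isPullback (P := @IsClosedImmersion) sq.flip inferInstance
  haveI : IsProper Nk.hom := by
    rw [← Over.w i]; infer_instance
  exact IsFinite.of_isProper_of_locallyQuasiFinite Nk.hom

end Groth.Agent.Lib.IsogFib
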