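import Groth.Agent.Lib.HomLqf_lead
import Groth.Agent.Lib.TopDim_lead
import Groth.Agent.Lib.GrpConnIrr_helper4
import Groth.Statements.S18385
import Groth.Statements.S17459

/-! # Homomorphisms of abelian schemes: quasi-finite iff surjective, fibrewise (lead) -/

set_option backward.isDefEq.respectTransparency false
set_option backward.isDefEq.respectTransparency.types false
set_option linter.unusedSimpArgs false
set_option linter.unusedVariables false
set_option linter.unusedSectionVars false
set_option linter.style.longLine false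
set_option linter.style.haveILetI false
set_option linter.unnecessarySimpa false
set_option maxHeartbeats 800000

universe u

open CategoryTheory CategoryTheory.Limits MonoidalCategory CartesianMonoidalCategory MonObj GrpObj
  AlgebraicGeometry Opposite Topology TopologicalSpace

namespace Groth.Agent.Lib.IsogFib

/-- a chain of irreducible closed subsets of a proper closed subset of an irreducible space can be
extended by the whole space -/
theorem length_succ_le_dim {Y : Type u} [TopologicalSpace Y] [IrreducibleSpace Y] (Z : Set Y)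
    (hZ : IsClosed Z) (hne : Z ≠ Set.univ) (l : LTSeries (IrreducibleCloseds ↥Z)) :
    ((l.length + 1 : ℕ) : WithBot ℕ∞) ≤ topologicalKrullDim Y := by
  obtain ⟨T, hT⟩ : ∃ T : IrreducibleCloseds Y, (T : Set Y) = Set.univ :=
    ⟨⟨Set.univ, IrreducibleSpace.isIrreducible_univ Y, isClosed_univ⟩, rfl⟩
  have hφ : StrictMono (IrreducibleCloseds.map (Subtype.val : ↥Z → Y) continuous_subtype_val) :=
    IrreducibleCloseds.map_strictMono_of_isInducing IsInducing.subtypeVal
  have hlt : ∀ C : IrreducibleCloseds ↥Z,
      IrreducibleCloseds.map (Subtype.val : ↥Z → Y) continuous_subtype_val C < T := by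
    intro C
    have hsub : (IrreducibleCloseds.map (Subtype.val : ↥Z → Y) continuous_subtype_val C : Set Y)
        ⊆ Z := by
      rw [IrreducibleCloseds.coe_map]
      apply closure_minimal _ hZ
      rintro _ ⟨z, -, rfl⟩
      exact z.2
    refine lt_of_le_of_ne ?_ ?_
    · intro y _
      show y ∈ (T : Set Y)
      rw [hT]; trivial
    · intro h
      apply hne
      apply Set.eq_univ_of_univ_subset
      rw [← hT, ← h]
      exact hsub
  have h := Order.LTSeries.length_le_krullDim
    ((l.map _ hφ).snoc T (by rw [LTSeries.last_map]; exact hlt _))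
  exact h

variable {k : Type u} [Field k]

/-- a quasi-finite morphism between proper irreducible group schemes of the same dimension is
surjective -/
theorem surj_of_lqf (X Y : Over (Spec (CommRingCat.of k))) [GrpObj X] [GrpObj Y]
    [IsProper X.hom] [IsProper Y.hom] [IrreducibleSpace X.left] [IrreducibleSpace Y.left]
    (f : X ⟶ Y) [LocallyQuasiFinite f.left]
    (hdim : topologicalKrullDim X.left = topologicalKrullDim Y.left) : Surjective f.left := by
  obtain ⟨a, ha⟩ := Groth.Agent.Lib.AbSubvar.exists_nat_dim X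
  obtain ⟨b, hb⟩ := Groth.Agent.Lib.AbSubvar.exists_nat_dim Y
  have hab : a = b := by
    have h : ((a : ℕ∞) : WithBot ℕ∞) = ((b : ℕ∞) : WithBot ℕ∞) := by rw [← ha, ← hb, hdim]
    exact_mod_cast h
  haveI : LocallyOfFiniteType (f.left ≫ Y.hom) := by rw [Over.w f]; infer_instance
  haveI : LocallyOfFiniteType f.left := locallyOfFiniteType_of_comp f.left Y.hom
  haveI : IsProper (f.left ≫ Y.hom) := by rw [Over.w f]; infer_instance
  haveI : IsProper f.left := IsProper.of_comp f.left Y.hom
  have hcl : IsClosed (Set.range f.left) := f.left.isClosedMap.isClosed_range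
  obtain ⟨x₁⟩ : Nonempty X.left := inferInstance
  have hZne : (Set.range f.left).Nonempty := Set.range_nonempty _
  haveI : Nonempty ↥(Set.range f.left) := hZne.to_subtype
  have hb' : topologicalKrullDim ↥Y.left = (b : WithBot ℕ∞) := by rw [hb]; rfl
  have hle : topologicalKrullDim ↥(Set.range f.left) ≤ (b : WithBot ℕ∞) := by
    rw [← hb']; exact topologicalKrullDim_subspace_le _ _
  have hge : 0 ≤ topologicalKrullDim ↥(Set.range f.left) :=
    Groth.Agent.TopDimLead.dim_nonneg_of_nonempty
  obtain ⟨c, hc⟩ : ∃ c : ℕ, topologicalKrullDim ↥(Set.range f.left) = (c : WithBot ℕ∞) := by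
    generalize topologicalKrullDim ↥(Set.range f.left) = d at hle hge
    induction d using WithBot.recBotCoe with
    | bot => exact absurd hge (by simp)
    | coe e =>
      induction e using ENat.recTopCoe with
      | top =>
        exfalso
        have h0 : ((⊤ : ℕ∞) : WithBot ℕ∞) ≤ ((b : ℕ∞) : WithBot ℕ∞) := hle
        have h1 : (⊤ : ℕ∞) ≤ (b : ℕ∞) := WithBot.coe_le_coe.mp h0
        exact ENat.coe_ne_top b (top_le_iff.mp h1)
      | coe c => exact ⟨c, rfl⟩
  letI : X.left.Over (Spec (CommRingCat.of k)) := ⟨X.hom⟩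
  letI : Y.left.Over (Spec (CommRingCat.of k)) := ⟨Y.hom⟩
  haveI : LocallyOfFiniteType (X.left ↘ Spec (CommRingCat.of k)) :=
    (inferInstance : LocallyOfFiniteType X.hom)
  haveI : LocallyOfFiniteType (Y.left ↘ Spec (CommRingCat.of k)) :=
    (inferInstance : LocallyOfFiniteType Y.hom)
  have hclZ : topologicalKrullDim ↥(closure (Set.range f.left.base)) = (c : WithBot ℕ∞) := by
    have hr : closure (Set.range f.left.base) = Set.range f.left := hcl.closure_eq
    rw [hr]; exact hc
  obtain ⟨-, -, hdense⟩ := Groth.Agent.S1653.result k X.left Y.left f.left (Over.w f) a c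
    (by rw [ha]; rfl) hclZ
  obtain ⟨x₀, hx₀⟩ := hdense.nonempty
  have h0 : FlatMor.fibreDimAt f.left x₀ = 0 := FibCohH8.fibreDimAt_eq_zero_of_lqf f.left x₀
  have hac : a - c = 0 := by
    have h : ((a - c : ℕ) : WithBot ℕ∞) = 0 :=
      (show FlatMor.fibreDimAt f.left x₀ = ((a - c : ℕ) : WithBot ℕ∞) from hx₀).symm.trans h0
    exact_mod_cast h
  have hcb : c ≤ b := by
    have h : (c : WithBot ℕ∞) ≤ (b : WithBot ℕ∞) := by rw [← hc]; exact hle
    exact_mod_cast h
  have hcb' : c = b := by omega
  refine ⟨?_⟩
  by_contra hns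
  have hne : Set.range f.left ≠ Set.univ := fun h => hns (Set.range_eq_univ.mp h)
  have hall : ∀ l : LTSeries (IrreducibleCloseds ↥(Set.range f.left)), l.length + 1 ≤ b := by
    intro l
    have h := length_succ_le_dim (Set.range f.left) hcl hne l
    rw [hb'] at h
    exact_mod_cast h
  obtain ⟨z⟩ : Nonempty ↥(Set.range f.left) := inferInstance
  have hb1 : 1 ≤ b := by
    have h := hall (RelSeries.singleton _
      ⟨closure {z}, isIrreducible_singleton.closure, isClosed_closure⟩)
    simpa using h
  have hle2 : topologicalKrullDim ↥(Set.range f.left) ≤ ((b - 1 : ℕ) : WithBot ℕ∞) := by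
    apply Groth.Agent.TopDimLead.dim_le_of_forall
    intro l
    have h := hall l
    have h2 : l.length ≤ b - 1 := by omega
    exact_mod_cast h2
  rw [hc, hcb'] at hle2
  have h3 : b ≤ b - 1 := by exact_mod_cast hle2
  omega

/-- a surjective homomorphism between group schemes of the same dimension, the source irreducible,
is quasi-finite -/
theorem lqf_of_surj (X Y : Over (Spec (CommRingCat.of k))) [GrpObj X] [GrpObj Y]
    [LocallyOfFiniteType X.hom] [LocallyOfFiniteType Y.hom] [IrreducibleSpace X.left]
    (f : X ⟶ Y) [IsMonHom f] [Surjective f.left]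
    (hdim : topologicalKrullDim X.left = topologicalKrullDim Y.left) :
    LocallyQuasiFinite f.left := by
  haveI : LocallyOfFiniteType (f.left ≫ Y.hom) := by rw [Over.w f]; infer_instance
  haveI : LocallyOfFiniteType f.left := locallyOfFiniteType_of_comp f.left Y.hom
  obtain ⟨a, ha⟩ := Groth.Agent.Lib.AbSubvar.exists_nat_dim X
  obtain ⟨b, hb⟩ := Groth.Agent.Lib.AbSubvar.exists_nat_dim Y
  have hab : a = b := by
    have h : ((a : ℕ∞) : WithBot ℕ∞) = ((b : ℕ∞) : WithBot ℕ∞) := by rw [← ha, ← hb, hdim]
    exact_mod_cast h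
  letI : X.left.Over (Spec (CommRingCat.of k)) := ⟨X.hom⟩
  letI : Y.left.Over (Spec (CommRingCat.of k)) := ⟨Y.hom⟩
  haveI : LocallyOfFiniteType (X.left ↘ Spec (CommRingCat.of k)) :=
    (inferInstance : LocallyOfFiniteType X.hom)
  haveI : LocallyOfFiniteType (Y.left ↘ Spec (CommRingCat.of k)) :=
    (inferInstance : LocallyOfFiniteType Y.hom)
  have hcl : topologicalKrullDim ↥(closure (Set.range f.left.base)) = (b : WithBot ℕ∞) := by
    have hr : closure (Set.range f.left.base) = Set.univ := by
      rw [Set.range_eq_univ.mpr f.left.surjective, closure_univ]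
    have hb' : topologicalKrullDim ↥Y.left = (b : WithBot ℕ∞) := by rw [hb]; rfl
    rw [hr, ← hb']
    exact (IsHomeomorph.topologicalKrullDim_eq _
      (Homeomorph.Set.univ ↥Y.left).isHomeomorph)
  obtain ⟨x₁⟩ : Nonempty X.left := inferInstance
  obtain ⟨-, -, hdense⟩ := Groth.Agent.S1653.result k X.left Y.left f.left (Over.w f) a b
    (by rw [ha]; rfl) hcl
  obtain ⟨x₀, hx₀⟩ := hdense.nonempty
  have hx₀' : FlatMor.fibreDimAt f.left x₀ = 0 := by
    have h : FlatMor.fibreDimAt f.left x₀ = ((a - b : ℕ) : WithBot ℕ∞) := hx₀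
    rw [h, hab, Nat.sub_self]; rfl
  have hall : ∀ t, FlatMor.fibreDimAt f.left t ≤ 0 := fun t =>
    le_of_eq ((Groth.Agent.Lib.FibDimConst.fibreDimAt_const f t x₀).trans hx₀')
  exact QSecH8.locallyQuasiFinite_of_fibreDimAt_le_zero f.left hall

theorem field_iff (X Y : Over (Spec (CommRingCat.of k))) [GrpObj X] [GrpObj Y]
    [IsProper X.hom] [IsProper Y.hom] [ConnectedSpace X.left] [ConnectedSpace Y.left]
    (f : X ⟶ Y) [IsMonHom f]
    (hdim : topologicalKrullDim X.left = topologicalKrullDim Y.left) :
    LocallyQuasiFinite f.left ↔ Surjective f.left := by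
  haveI := Groth.Agent.Lib.GrpConnIrrH4.main0348 k X
  haveI := Groth.Agent.Lib.GrpConnIrrH4.main0348 k Y
  exact ⟨fun h => surj_of_lqf X Y f hdim, fun h => lqf_of_surj X Y f hdim⟩

end Groth.Agent.Lib.IsogFib
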