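import Mathlib
import Groth.Agent.Lib.UnivHomeo1_helper6
set_option autoImplicit false
universe u

/-!
# Integral, geometrically connected morphisms are universally injective

and the Stein factor of a proper morphism with geometrically connected fibres is a universal
homeomorphism onto the base.
-/

namespace Groth.Agent.Lib.UnivHomeo

open AlgebraicGeometry CategoryTheory CategoryTheory.Limits MorphismProperty

/-- The spectrum of an integral algebra over a field is totally disconnected; if it is preconnected,
it has at most one point. -/
theorem subsingleton_primeSpectrum_of_isIntegral_of_preconnected {R A : Type u} [Field R]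
    [CommRing A] [Algebra R A] [Algebra.IsIntegral R A] [PreconnectedSpace (PrimeSpectrum A)] :
    Subsingleton (PrimeSpectrum A) := by
  have key : ∀ (p q : PrimeSpectrum A) (a : A), a ∈ p.asIdeal → a ∈ q.asIdeal := by
    intro p q a ha
    obtain ⟨B, hB⟩ : ∃ B : Subalgebra R A, B = Algebra.adjoin R {a} := ⟨_, rfl⟩
    haveI : Module.Finite R B := by
      rw [hB]
      exact Algebra.finite_adjoin_simple_of_isIntegral (Algebra.IsIntegral.isIntegral a)
    haveI : IsArtinianRing B := IsArtinianRing.of_finite R B
    haveI : DiscreteTopology (PrimeSpectrum B) := inferInstance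
    have hc : Continuous (PrimeSpectrum.comap B.val.toRingHom) :=
      PrimeSpectrum.continuous_comap _
    have hpre : _root_.IsPreconnected (PrimeSpectrum.comap B.val.toRingHom '' Set.univ) :=
      isPreconnected_univ.image _ hc.continuousOn
    have heq : PrimeSpectrum.comap B.val.toRingHom p = PrimeSpectrum.comap B.val.toRingHom q :=
      hpre.subsingleton ⟨p, Set.mem_univ p, rfl⟩ ⟨q, Set.mem_univ q, rfl⟩
    have haB : a ∈ B := by rw [hB]; exact Algebra.subset_adjoin rfl
    have h1 : (⟨a, haB⟩ : B) ∈ (PrimeSpectrum.comap B.val.toRingHom p).asIdeal := ha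
    rw [heq] at h1
    exact h1
  exact ⟨fun p q => PrimeSpectrum.ext (Ideal.ext fun a => ⟨key p q a, key q p a⟩)⟩

theorem subsingleton_fiber_of_isIntegralHom {N S : Scheme.{u}} (r : N ⟶ S) [IsIntegralHom r]
    [GeometricallyConnected r] (s : S) : Subsingleton (r.fiber s) := by
  haveI : IsIntegralHom (r.fiberToSpecResidueField s) :=
    inferInstanceAs (IsIntegralHom (pullback.snd r (S.fromSpecResidueField s)))
  haveI : IsAffine (r.fiber s) := isAffine_of_isAffineHom (r.fiberToSpecResidueField s)
  haveI : ConnectedSpace (r.fiber s) := inferInstance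
  have hint : ((r.fiberToSpecResidueField s).appTop).hom.IsIntegral :=
    IsIntegralHom.isIntegral_app (r.fiberToSpecResidueField s) ⊤ (isAffineOpen_top _)
  have hφ : ((Scheme.ΓSpecIso (S.residueField s)).inv ≫
      (r.fiberToSpecResidueField s).appTop).hom.IsIntegral := by
    rw [CommRingCat.hom_comp]
    exact RingHom.IsIntegral.trans _ _ (RingHom.isIntegral_of_surjective _
      (ConcreteCategory.bijective_of_isIso (Scheme.ΓSpecIso (S.residueField s)).inv).2) hint
  letI : Algebra (S.residueField s) Γ(r.fiber s, ⊤) :=
    ((Scheme.ΓSpecIso (S.residueField s)).inv ≫ (r.fiberToSpecResidueField s).appTop).hom.toAlgebra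
  haveI : Algebra.IsIntegral (S.residueField s) Γ(r.fiber s, ⊤) := ⟨hφ⟩
  haveI : ConnectedSpace (Spec Γ(r.fiber s, ⊤)) :=
    (r.fiber s).isoSpec.hom.homeomorph.connectedSpace_iff.mp inferInstance
  haveI : PreconnectedSpace (PrimeSpectrum Γ(r.fiber s, ⊤)) :=
    inferInstanceAs (PreconnectedSpace (Spec Γ(r.fiber s, ⊤)))
  haveI : Subsingleton (PrimeSpectrum Γ(r.fiber s, ⊤)) :=
    subsingleton_primeSpectrum_of_isIntegral_of_preconnected (R := S.residueField s)
  haveI : Subsingleton (Spec Γ(r.fiber s, ⊤)) :=
    inferInstanceAs (Subsingleton (PrimeSpectrum Γ(r.fiber s, ⊤)))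
  exact (r.fiber s).isoSpec.hom.homeomorph.injective.subsingleton

theorem injective_of_isIntegralHom_of_geometricallyConnected {N S : Scheme.{u}} (r : N ⟶ S)
    [IsIntegralHom r] [GeometricallyConnected r] : Function.Injective r := by
  intro x₁ x₂ h
  obtain ⟨s, hs⟩ : ∃ s, s = r x₂ := ⟨_, rfl⟩
  have h1 : x₁ ∈ Set.range (r.fiberι s) := by
    rw [r.range_fiberι]; exact h.trans hs.symm
  have h2 : x₂ ∈ Set.range (r.fiberι s) := by
    rw [r.range_fiberι]; exact hs.symm
  obtain ⟨z₁, rfl⟩ := h1
  obtain ⟨z₂, rfl⟩ := h2
  haveI := subsingleton_fiber_of_isIntegralHom r s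
  rw [Subsingleton.elim z₁ z₂]

theorem universallyInjective_of_isIntegralHom_of_geometricallyConnected {N S : Scheme.{u}}
    (r : N ⟶ S) [IsIntegralHom r] [GeometricallyConnected r] : UniversallyInjective r := by
  rw [universallyInjective_eq]
  intro X' Y' i₁ i₂ f' h
  haveI : IsIntegralHom f' := MorphismProperty.of_isPullback h.flip inferInstance
  haveI : GeometricallyConnected f' := MorphismProperty.of_isPullback h.flip inferInstance
  exact injective_of_isIntegralHom_of_geometricallyConnected f'

theorem geometricallyConnected_fromNormalization {X S : Scheme.{u}} (f : X ⟶ S) [IsProper f]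
    [GeometricallyConnected f] : GeometricallyConnected f.fromNormalization := by
  haveI : Surjective f.toNormalization :=
    surjective_of_isDominant_of_isClosed_range _ f.toNormalization.isClosedMap.isClosed_range
  refine ⟨geometrically_iff_of_isClosedUnderIsomorphisms.mpr fun K _ y => ?_⟩
  haveI : ConnectedSpace ↥(pullback f y) :=
    pullback_of_geometrically (GeometricallyConnected.geometrically_connectedSpace (f := f)) K y
  obtain ⟨m, hm⟩ : ∃ m : pullback f y ⟶ pullback f.fromNormalization y,
      m = pullback.lift (pullback.fst f y ≫ f.toNormalization) (pullback.snd f y)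
        (by rw [Category.assoc, f.toNormalization_fromNormalization, pullback.condition]) :=
    ⟨_, rfl⟩
  have hm1 : m ≫ pullback.fst f.fromNormalization y = pullback.fst f y ≫ f.toNormalization := by
    rw [hm]; exact pullback.lift_fst _ _ _
  have hm2 : m ≫ pullback.snd f.fromNormalization y = pullback.snd f y := by
    rw [hm]; exact pullback.lift_snd _ _ _
  have hs : IsPullback (m ≫ pullback.snd f.fromNormalization y) (pullback.fst f y) y
      (f.toNormalization ≫ f.fromNormalization) := by
    rw [hm2, f.toNormalization_fromNormalization]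
    exact (IsPullback.of_hasPullback f y).flip
  have hsq : IsPullback m (pullback.fst f y) (pullback.fst f.fromNormalization y)
      f.toNormalization :=
    IsPullback.of_right hs hm1 (IsPullback.of_hasPullback f.fromNormalization y).flip
  haveI : Surjective m := MorphismProperty.of_isPullback (P := @Surjective) hsq.flip inferInstance
  have hr : Set.range m = Set.univ := m.surjective.range_eq
  show ConnectedSpace ↥(pullback f.fromNormalization y)
  rw [connectedSpace_iff_univ, ← hr, ← Set.image_univ]
  exact isConnected_univ.image _ m.continuous.continuousOn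

theorem isUnivHomeo_fromNormalization {X S : Scheme.{u}} (f : X ⟶ S) [IsProper f]
    [GeometricallyConnected f] : FlatMor.IsUnivHomeo f.fromNormalization := by
  haveI := geometricallyConnected_fromNormalization f
  haveI := universallyInjective_of_isIntegralHom_of_geometricallyConnected f.fromNormalization
  rw [isUnivHomeo_iff]
  exact ⟨inferInstance, inferInstance, inferInstance⟩

end Groth.Agent.Lib.UnivHomeo
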