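import Groth.Statements.S16676
import Groth.Agent.Lib.IsogKernel_lead
import Groth.Agent.Lib.SteinUH_helper6
import Groth.Agent.Lib.GeomConnPt_helper4
import Groth.Agent.Lib.ConnMisc_helper4

/-! # An isogeny is purely inseparable iff its kernel is connected (lead) -/

set_option backward.isDefEq.respectTransparency false
set_option backward.isDefEq.respectTransparency.types false
set_option linter.unusedSimpArgs false
set_option linter.unusedVariables false
set_option linter.unusedSectionVars false
set_option linter.style.longLine false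
set_option linter.style.haveILetI false
set_option linter.unnecessarySimpa false
set_option maxHeartbeats 800000

universe u

open CategoryTheory CategoryTheory.Limits MonoidalCategory CartesianMonoidalCategory MonObj GrpObj
  AlgebraicGeometry Opposite Topology TopologicalSpace

namespace Groth.Agent.Lib.IsogInsep

theorem main16676 (k : Type u) [Field k]
    (X Y : Over (Spec (CommRingCat.of k)))
    [GrpObj X] [GrpObj Y]
    (f : X ⟶ Y) [IsMonHom f] [IsFinite f.left] [Flat f.left] [Surjective f.left]
    (N : Over (Spec (CommRingCat.of k))) (i : N ⟶ X) (hN : AlgGrp.IsKernel i f) :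
    UniversallyInjective f.left ↔ ConnectedSpace ↥N.left := by
  haveI hsub : Subsingleton ↥(Spec (CommRingCat.of k)) :=
    inferInstanceAs (Subsingleton (PrimeSpectrum k))
  have h0 : toUnit (𝟙_ (Over (Spec (CommRingCat.of k)))) = 𝟙 _ := toUnit_unique _ _
  have hd : η[X] ≫ f = toUnit _ ≫ η[Y] := by
    rw [h0, Category.id_comp]; exact IsMonHom.one_hom f
  obtain ⟨e, he⟩ : ∃ e : 𝟙_ (Over (Spec (CommRingCat.of k))) ⟶ N, e ≫ i = η[X] :=
    ⟨IsPullback.lift hN η[X] (toUnit _) hd, IsPullback.lift_fst hN _ _ _⟩
  obtain ⟨pt⟩ : Nonempty ↥(𝟙_ (Over (Spec (CommRingCat.of k)))).left :=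
    (inferInstance : Nonempty (PrimeSpectrum k))
  haveI hne : Nonempty ↥N.left := ⟨e.left pt⟩
  constructor
  · intro huniv
    haveI := huniv
    haveI h1 : UniversallyInjective N.hom :=
      Groth.Agent.Lib.IsogKernel.prop_kernel i f hN @UniversallyInjective ‹_›
    haveI : Subsingleton ↥N.left :=
      ⟨fun a b => N.hom.injective (Subsingleton.elim _ _)⟩
    haveI : PreconnectedSpace ↥N.left := inferInstance
    exact ConnectedSpace.mk hne
  · intro hconn
    haveI := hconn
    haveI : IsFinite N.hom :=
      Groth.Agent.Lib.IsogKernel.prop_kernel i f hN @IsFinite ‹_›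
    haveI : GeometricallyConnected (e.left ≫ N.hom) := by
      have e1 : e.left ≫ N.hom = 𝟙 (Spec (CommRingCat.of k)) := Over.w e
      rw [e1]
      exact Groth.Agent.Lib.ConnMiscH4.geomConn_id _
    haveI : Nonempty ↥(𝟙_ (Over (Spec (CommRingCat.of k)))).left := ⟨pt⟩
    haveI : GeometricallyConnected N.hom :=
      Groth.Agent.Lib.GeomConnPtH4.main2502 e.left N.hom
    have h1 : UniversallyInjective N.hom :=
      Groth.Agent.Lib.UnivHomeo.universallyInjective_of_isIntegralHom_of_geometricallyConnected
        N.hom
    haveI : QuasiCompact f.left := inferInstance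
    exact Groth.Agent.Lib.IsogKernel.prop_of_kernel i f hN @UniversallyInjective h1

end Groth.Agent.Lib.IsogInsep
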