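import Mathlib

set_option autoImplicit false
universe u
open TopologicalSpace

namespace Groth.Agent.Lib.IsolatedPtH7

/-- In a Noetherian quasi-sober space, a closed point with no proper generization is isolated. -/
theorem isOpen_singleton_of_isClosed_of_maximal {α : Type*} [TopologicalSpace α]
    [NoetherianSpace α] [QuasiSober α] (x : α) (hcl : IsClosed ({x} : Set α))
    (hmax : ∀ z : α, z ⤳ x → z = x) : IsOpen ({x} : Set α) := by
  have hfin : (irreducibleComponents α).Finite := NoetherianSpace.finite_irreducibleComponents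
  obtain ⟨W, hW⟩ : ∃ W : Set α, W = ⋃₀ {Z ∈ irreducibleComponents α | x ∉ Z} := ⟨_, rfl⟩
  have hWcl : IsClosed W := by
    rw [hW, Set.sUnion_eq_biUnion]
    exact (hfin.subset (fun Z hZ => hZ.1)).isClosed_biUnion fun Z hZ =>
      isClosed_of_mem_irreducibleComponents Z hZ.1
  have hWc : Wᶜ = {x} := by
    ext y
    constructor
    · intro hy
      have hy' : y ∉ W := hy
      have hZy := irreducibleComponent_mem_irreducibleComponents y
      have hxZ : x ∈ irreducibleComponent y := by
        by_contra hx
        exact hy' (by rw [hW]; exact ⟨_, ⟨hZy, hx⟩, mem_irreducibleComponent⟩)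
      obtain ⟨z, hz⟩ := QuasiSober.sober hZy.1 (isClosed_of_mem_irreducibleComponents _ hZy)
      have hzx : z ⤳ x := by
        rw [specializes_iff_mem_closure, hz.def]; exact hxZ
      have hzeq := hmax z hzx
      have hyZ : y ∈ closure ({z} : Set α) := by rw [hz.def]; exact mem_irreducibleComponent
      rw [hzeq, hcl.closure_eq] at hyZ
      exact hyZ
    · intro hy
      rw [Set.mem_singleton_iff] at hy
      rw [hy, hW]
      rintro ⟨Z, ⟨_, hxZ⟩, hxZ'⟩
      exact hxZ hxZ'
  rw [← hWc]
  exact hWcl.isOpen_compl

end Groth.Agent.Lib.IsolatedPtH7
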