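import Mathlib
import Groth.Prelude.Def_PolLaw
import Groth.Agent.Lib.GammaSpan_helper1

/-!
# Surjectivity of Iversen's map `Γ^{e+1}(B) ⊗ B → Γ^e(B) ⊗ B` (helper1)
-/

set_option autoImplicit false
universe u
open scoped TensorProduct
open Polynomial

namespace Groth.Agent.Lib.IversenH1

open Groth.Agent.Lib.GammaSpanH1 Groth.Agent.Lib.PolLawKerH1

variable {A : Type u} [CommRing A]

section lemmas

variable {S₁ : Type u} [CommRing S₁] [Algebra A S₁]

theorem ev_smul (M : Type u) [AddCommGroup M] [Module A M] (ℓ : S₁ →ₗ[A] A) (q : S₁)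
    (V : S₁ ⊗[A] M) : ev M ℓ (q • V) = ev M (ℓ ∘ₗ LinearMap.mulLeft A q) V := by
  induction V using TensorProduct.induction_on with
  | zero => simp
  | tmul p m => simp [TensorProduct.smul_tmul']
  | add a b ha hb => simp only [smul_add, map_add, ha, hb]

theorem ev_mul_const' (D : Type u) [CommRing D] [Algebra A D] (ℓ : S₁ →ₗ[A] A)
    (W : S₁ ⊗[A] D) (δ : D) : ev D ℓ (W * ((1 : S₁) ⊗ₜ[A] δ)) = ev D ℓ W * δ := by
  induction W using TensorProduct.induction_on with
  | zero => simp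
  | tmul s t => simp [Algebra.TensorProduct.tmul_mul_tmul]
  | add a b ha hb => simp only [map_add, add_mul, ha, hb]

end lemmas

section poly

variable {S : Type u} [CommRing S] [Algebra A S]

/-- the `k`-th coefficient, as an `A`-linear map -/
noncomputable def lc (k : ℕ) : S[X] →ₗ[A] S := (Polynomial.lcoeff S k).restrictScalars A

theorem lc_apply (k : ℕ) (p : S[X]) : lc (A := A) k p = p.coeff k := rfl

/-- evaluation at `1` -/
noncomputable def eps : S[X] →ₐ[A] S := (Polynomial.aeval (1 : S)).restrictScalars A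

theorem eps_apply (p : S[X]) : eps (A := A) p = p.eval 1 := by
  simp [eps, Polynomial.aeval_def, Polynomial.eval₂_eq_eval_map]

/-- constants -/
noncomputable def iot : S →ₐ[A] S[X] := Polynomial.CAlgHom

theorem iot_apply (s : S) : iot (A := A) s = Polynomial.C s := rfl

theorem lc_zero_comp (ℓ : S →ₗ[A] A) (s : S) :
    (ℓ ∘ₗ lc 0) ∘ₗ LinearMap.mulLeft A ((X : S[X]) * Polynomial.C s) = 0 := by
  apply LinearMap.ext
  intro p
  simp [lc_apply, mul_assoc]

theorem lc_succ_comp (ℓ : S →ₗ[A] A) (s : S) (k : ℕ) :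
    (ℓ ∘ₗ lc (k + 1)) ∘ₗ LinearMap.mulLeft A ((X : S[X]) * Polynomial.C s) =
      (ℓ ∘ₗ LinearMap.mulLeft A s) ∘ₗ lc k := by
  apply LinearMap.ext
  intro p
  simp [lc_apply, mul_assoc, Polynomial.coeff_X_mul, Polynomial.coeff_C_mul]

theorem exists_eval_sum (M : Type u) [AddCommGroup M] [Module A M] (w : S[X] ⊗[A] M) :
    ∃ N₀ : ℕ, ∀ N, N₀ ≤ N → ∀ ℓ : S →ₗ[A] A,
      ev M (ℓ ∘ₗ (eps (A := A)).toLinearMap) w = ∑ k ∈ Finset.range N, ev M (ℓ ∘ₗ lc k) w := by
  induction w using TensorProduct.induction_on with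
  | zero => exact ⟨0, fun N _ ℓ => by simp⟩
  | tmul p m =>
    refine ⟨p.natDegree + 1, fun N hN ℓ => ?_⟩
    simp only [ev_tmul, LinearMap.comp_apply, AlgHom.toLinearMap_apply, eps_apply, lc_apply]
    rw [Polynomial.eval_eq_sum_range' (Nat.lt_of_succ_le hN), ← Finset.sum_smul, map_sum]
    simp
  | add a b ha hb =>
    obtain ⟨N₁, h₁⟩ := ha
    obtain ⟨N₂, h₂⟩ := hb
    refine ⟨max N₁ N₂, fun N hN ℓ => ?_⟩
    simp only [map_add, Finset.sum_add_distrib]
    rw [h₁ N (le_trans (le_max_left _ _) hN) ℓ, h₂ N (le_trans (le_max_right _ _) hN) ℓ]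

end poly

section main

variable {B Cd Ce : Type u} [CommRing B] [Algebra A B]
    [CommRing Cd] [Algebra A Cd] [CommRing Ce] [Algebra A Ce]

/-- left inclusion -/
noncomputable abbrev incL : Ce →ₐ[A] Ce ⊗[A] B := Algebra.TensorProduct.includeLeft
/-- right inclusion -/
noncomputable abbrev incR : B →ₐ[A] Ce ⊗[A] B := Algebra.TensorProduct.includeRight

set_option maxHeartbeats 1600000 in
theorem main13399 (e : ℕ)
    (γd : PolLaw.MulLaw A B Cd (e + 1))
    (γe : PolLaw.MulLaw A B Ce e) (hγe : PolLaw.IsGammaD γe)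
    (ω : Cd ⊗[A] B →ₐ[A] Ce ⊗[A] B)
    (hω : ∀ (S : Type u) [CommSemiring S] [Algebra A S] (x y : S ⊗[A] B),
      ω.toLinearMap.lTensor S
        ((Algebra.TensorProduct.includeLeft : Cd →ₐ[A] Cd ⊗[A] B).toLinearMap.lTensor S (γd.law.toFun' S x) *
          (Algebra.TensorProduct.includeRight : B →ₐ[A] Cd ⊗[A] B).toLinearMap.lTensor S y) =
      (Algebra.TensorProduct.includeLeft : Ce →ₐ[A] Ce ⊗[A] B).toLinearMap.lTensor S (γe.law.toFun' S x) *
        (Algebra.TensorProduct.includeRight : B →ₐ[A] Ce ⊗[A] B).toLinearMap.lTensor S (x * y)) :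
    Function.Surjective ω := by
  obtain ⟨I, hI⟩ : ∃ I : Subalgebra A (Ce ⊗[A] B), I = ω.range := ⟨_, rfl⟩
  -- Step 0
  have h0 : ∀ b : B, (incR (A := A) (Ce := Ce) b) ∈ I := by
    intro b
    have h1 := hω A 1 ((1 : A) ⊗ₜ[A] b)
    have a1 : γd.law.toFun' A 1 = 1 := (γd.mult A).1
    have a2 : γe.law.toFun' A 1 = 1 := (γe.mult A).1
    have a3 : (Algebra.TensorProduct.includeLeft : Cd →ₐ[A] Cd ⊗[A] B).toLinearMap.lTensor A 1 = 1 := by
      rw [PolLaw.lTensor_algHom_apply, map_one]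
    have a3' : (Algebra.TensorProduct.includeLeft : Ce →ₐ[A] Ce ⊗[A] B).toLinearMap.lTensor A 1 = 1 := by
      rw [PolLaw.lTensor_algHom_apply, map_one]
    have a4 : (Algebra.TensorProduct.includeRight : B →ₐ[A] Cd ⊗[A] B).toLinearMap.lTensor A
        ((1 : A) ⊗ₜ[A] b) = (1 : A) ⊗ₜ[A] ((1 : Cd) ⊗ₜ[A] b) := by
      rw [LinearMap.lTensor_tmul]; rfl
    have a5 : ω.toLinearMap.lTensor A ((1 : A) ⊗ₜ[A] ((1 : Cd) ⊗ₜ[A] b)) =
        (1 : A) ⊗ₜ[A] ω ((1 : Cd) ⊗ₜ[A] b) := by
      rw [LinearMap.lTensor_tmul]; rfl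
    have a6 : (Algebra.TensorProduct.includeRight : B →ₐ[A] Ce ⊗[A] B).toLinearMap.lTensor A
        ((1 : A) ⊗ₜ[A] b) = (1 : A) ⊗ₜ[A] ((1 : Ce) ⊗ₜ[A] b) := by
      rw [LinearMap.lTensor_tmul]; rfl
    rw [a1, a2, a3, a3', one_mul, one_mul, one_mul, a4, a5, a6] at h1
    have h2 := congrArg (TensorProduct.lid A (Ce ⊗[A] B)) h1
    rw [TensorProduct.lid_tmul, TensorProduct.lid_tmul, one_smul, one_smul] at h2
    rw [hI]
    exact ⟨_, h2⟩
  -- Step 1
  have hrel : ∀ (S : Type u) [CommRing S] [Algebra A S] (x : S ⊗[A] B),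
      ω.toLinearMap.lTensor S
        ((Algebra.TensorProduct.includeLeft : Cd →ₐ[A] Cd ⊗[A] B).toLinearMap.lTensor S (γd.law.toFun' S x)) =
      (incL (A := A) (B := B)).toLinearMap.lTensor S (γe.law.toFun' S x) *
        (incR (A := A) (Ce := Ce)).toLinearMap.lTensor S x := by
    intro S _ _ x
    have h1 := hω S x 1
    rw [PolLaw.lTensor_algHom_apply (Algebra.TensorProduct.includeRight : B →ₐ[A] Cd ⊗[A] B), map_one,
      mul_one, mul_one] at h1
    exact h1
  -- Step 2
  have hP : ∀ (S : Type u) [CommRing S] [Algebra A S] (z : S ⊗[A] B) (k : ℕ) (ℓ : S →ₗ[A] A),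
      incL (A := A) (B := B) (ev Ce (ℓ ∘ₗ lc k) (γe.law.toFun' S[X]
        (1 + (X : S[X]) • (iot (A := A)).toLinearMap.rTensor B z))) ∈ I := by
    intro S _ _ z k
    obtain ⟨w, hw⟩ : ∃ w : S[X] ⊗[A] Ce, w = γe.law.toFun' S[X]
        (1 + (X : S[X]) • (iot (A := A)).toLinearMap.rTensor B z) := ⟨_, rfl⟩
    rw [← hw]
    -- the auxiliary statement
    have haux : ∀ (k : ℕ), (∀ j < k, ∀ ℓ : S →ₗ[A] A,
        incL (A := A) (B := B) (ev Ce (ℓ ∘ₗ lc j) w) ∈ I) →
        ∀ (ℓ : S →ₗ[A] A) (z' : S ⊗[A] B),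
        ev (Ce ⊗[A] B) (ℓ ∘ₗ lc k) ((incL (A := A) (B := B)).toLinearMap.lTensor S[X] w *
          ((X : S[X]) • (iot (A := A)).toLinearMap.rTensor (Ce ⊗[A] B)
            ((incR (A := A) (Ce := Ce)).toLinearMap.lTensor S z'))) ∈ I := by
      intro k hk ℓ z'
      induction z' using TensorProduct.induction_on with
      | zero => simp [Subalgebra.zero_mem]
      | tmul s b =>
        have e1 : (X : S[X]) • (iot (A := A)).toLinearMap.rTensor (Ce ⊗[A] B)
            ((incR (A := A) (Ce := Ce)).toLinearMap.lTensor S (s ⊗ₜ[A] b)) =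
            ((X : S[X]) * Polynomial.C s) • ((1 : S[X]) ⊗ₜ[A] (incR (A := A) (Ce := Ce) b)) := by
          rw [LinearMap.lTensor_tmul, LinearMap.rTensor_tmul, TensorProduct.smul_tmul',
            TensorProduct.smul_tmul', smul_eq_mul, smul_eq_mul, mul_one]
          rfl
        rw [e1, mul_smul_comm, ev_smul]
        cases k with
        | zero =>
          rw [lc_zero_comp]
          simp [ev, Subalgebra.zero_mem]
        | succ k =>
          rw [lc_succ_comp, ev_mul_const', ev_lTensor]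
          exact Subalgebra.mul_mem _ (hk k (Nat.lt_succ_self k) _) (h0 b)
      | add a b ha hb =>
        simp only [map_add, smul_add, mul_add]
        exact Subalgebra.add_mem _ ha hb
    induction k using Nat.strong_induction_on with
    | _ k ih =>
      intro ℓ
      have h1 := hrel S[X] (1 + (X : S[X]) • (iot (A := A)).toLinearMap.rTensor B z)
      rw [← hw] at h1
      have h2 : (incR (A := A) (Ce := Ce)).toLinearMap.lTensor S[X]
          (1 + (X : S[X]) • (iot (A := A)).toLinearMap.rTensor B z) =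
          1 + (X : S[X]) • (iot (A := A)).toLinearMap.rTensor (Ce ⊗[A] B)
            ((incR (A := A) (Ce := Ce)).toLinearMap.lTensor S z) := by
        rw [map_add, lT_smul, lTensor_rTensor_comm, PolLaw.lTensor_algHom_apply, map_one]
      rw [h2, mul_add, mul_one] at h1
      have h3 := congrArg (ev (Ce ⊗[A] B) (ℓ ∘ₗ lc k)) h1
      rw [map_add] at h3
      have hL := ev_lTensor (Cd ⊗[A] B) (ℓ ∘ₗ lc k) ω.toLinearMap
        ((Algebra.TensorProduct.includeLeft : Cd →ₐ[A] Cd ⊗[A] B).toLinearMap.lTensor S[X]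
            (γd.law.toFun' S[X] (1 + (X : S[X]) • (iot (A := A)).toLinearMap.rTensor B z)))
      have hR1 := ev_lTensor Ce (ℓ ∘ₗ lc k) (incL (A := A) (B := B)).toLinearMap w
      rw [hL, hR1] at h3
      have h4 := haux k (fun j hj ℓ' => ih j hj ℓ') ℓ z
      have h5 : (ω.toLinearMap) (ev (Cd ⊗[A] B) (ℓ ∘ₗ lc k)
          ((Algebra.TensorProduct.includeLeft : Cd →ₐ[A] Cd ⊗[A] B).toLinearMap.lTensor S[X]
            (γd.law.toFun' S[X] (1 + (X : S[X]) • (iot (A := A)).toLinearMap.rTensor B z)))) ∈ I := by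
        rw [hI]
        exact ⟨_, rfl⟩
      rw [h3] at h5
      have h6 := Subalgebra.sub_mem _ h5 h4
      rw [add_sub_cancel_right] at h6
      exact h6
  -- Step 3
  have hcoef : ∀ (S : Type u) [CommRing S] [Algebra A S] (x : S ⊗[A] B) (ℓ : S →ₗ[A] A),
      incL (A := A) (B := B) (ev Ce ℓ (γe.law.toFun' S x)) ∈ I := by
    intro S _ _ x ℓ
    have hx : (eps (A := A)).toLinearMap.rTensor B
        (1 + (X : S[X]) • (iot (A := A)).toLinearMap.rTensor B (x - 1)) = x := by
      rw [map_add, rT_smul, rT_eq_map, map_one, ← LinearMap.comp_apply, ← LinearMap.rTensor_comp]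
      have h1 : (eps (A := A)).toLinearMap ∘ₗ (iot (A := A) (S := S)).toLinearMap = LinearMap.id := by
        apply LinearMap.ext
        intro s
        simp [eps_apply, iot_apply]
      rw [h1, LinearMap.rTensor_id, LinearMap.id_apply, eps_apply, Polynomial.eval_X, one_smul]
      abel
    rw [← hx, ← PolynomialLaw.isCompat_apply', ev_rTensor]
    obtain ⟨N₀, hN₀⟩ := exists_eval_sum Ce (γe.law.toFun' S[X]
      (1 + (X : S[X]) • (iot (A := A)).toLinearMap.rTensor B (x - 1)))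
    rw [hN₀ N₀ le_rfl ℓ, map_sum]
    exact Subalgebra.sum_mem _ fun k _ => hP S (x - 1) k ℓ
  -- Step 4
  have hall : ∀ c : Ce, incL (A := A) (B := B) c ∈ I := by
    have hle : Algebra.adjoin A (coeffSetOn γe ⊤) ≤ I.comap (incL (A := A) (B := B)) := by
      apply Algebra.adjoin_le
      rintro _ ⟨S, _, _, z, ℓ, -, rfl⟩
      exact hcoef S z ℓ
    rw [adjoin_coeffSet_eq_top γe hγe] at hle
    intro c
    exact hle Algebra.mem_top
  -- Step 5
  have htop : ∀ t : Ce ⊗[A] B, t ∈ I := by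
    intro t
    induction t using TensorProduct.induction_on with
    | zero => exact Subalgebra.zero_mem _
    | tmul c b =>
      have : c ⊗ₜ[A] b = incL (A := A) (B := B) c * incR (A := A) (Ce := Ce) b := by
        simp [Algebra.TensorProduct.tmul_mul_tmul]
      rw [this]
      exact Subalgebra.mul_mem _ (hall c) (h0 b)
    | add a b ha hb => exact Subalgebra.add_mem _ ha hb
  intro t
  have := htop t
  rw [hI] at this
  exact this

end main

end Groth.Agent.Lib.IversenH1
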