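import Mathlib
import Groth.Prelude.Def_Found
import Groth.Prelude.Def_EGA4b
import Groth.Agent.Lib.QENagata_helper3
import Groth.Agent.Lib.NagataFT5_helper3

/-!
# J-2 plus geometrically reduced formal fibres at maximal ideals ⇒ universally Japanese (helper3)
APPEND-ONLY once landed.
-/

set_option autoImplicit false
universe u

namespace Groth.Agent.Lib.J2JapaneseH3

open TensorProduct IsLocalRing Groth.Agent.Lib.NorLocusH3 Groth.Agent.Lib.QENagataH3

set_option maxHeartbeats 1600000 in
set_option synthInstance.maxHeartbeats 400000 in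
/-- A domain finite over a Noetherian J-2 ring whose local rings at maximal ideals have
geometrically reduced formal fibres is N-1. -/
theorem isN1_of_finite (A : Type u) [CommRing A] [hnoeth : IsNoetherianRing A]
    (h1 : ∀ (m : Ideal A) [m.IsMaximal], EGA4.HasGeomReducedFormalFibres (Localization.AtPrime m))
    (hJ2 : EGA4.IsJ2 A)
    (B : Type u) [CommRing B] [IsDomain B] [Algebra A B] [Module.Finite A B] : CAlg.IsN1 B := by
  haveI : IsNoetherianRing B := IsNoetherianRing.of_finite A B
  have hopen : IsOpen (EGA4.regLocus B) := hJ2 B inferInstance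
  have hbot := Groth.Agent.Lib.NagataCritH3.bot_mem_regLocus B
  obtain ⟨_, ⟨f, rfl⟩, hf1, hf2⟩ :=
    PrimeSpectrum.isTopologicalBasis_basic_opens.exists_subset_of_mem_open hbot hopen
  have hf0 : f ≠ 0 := by
    rintro rfl
    exact hf1 (zero_mem _)
  have hnormal : ∀ q : Ideal B, q.IsPrime → f ∉ q → NormalAt (FractionRing B) q := by
    intro q hq hfq
    haveI := hq
    have h1 : (⟨q, hq⟩ : PrimeSpectrum B) ∈ EGA4.norLocus B :=
      regLocus_subset_norLocus B (hf2 hfq)
    exact (normalAt_iff (FractionRing B) q).2 h1.2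
  have hass : ∀ q ∈ associatedPrimes B (B ⧸ Ideal.span {f}), N1At (FractionRing B) q := by
    intro q hq
    haveI hqp : q.IsPrime := ((AssociatedPrimes.mem_iff).1 hq).isPrime
    let p' : Ideal A := q.comap (algebraMap A B)
    haveI : p'.IsPrime := Ideal.comap_isPrime _ _
    obtain ⟨m, hm, hpm⟩ := Ideal.exists_le_maximal p' (Ideal.IsPrime.ne_top inferInstance)
    haveI := hm
    have hT : Algebra.algebraMapSubmonoid B m.primeCompl ≤ q.primeCompl := by
      rintro _ ⟨a, ha, rfl⟩
      intro haq
      exact ha (hpm haq)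
    have hT0 : Algebra.algebraMapSubmonoid B m.primeCompl ≤ nonZeroDivisors B := by
      intro s hs
      apply mem_nonZeroDivisors_of_ne_zero
      rintro rfl
      exact hT hs (zero_mem q)
    haveI : IsDomain (Localization (Algebra.algebraMapSubmonoid B m.primeCompl)) :=
      IsLocalization.isDomain_localization hT0
    haveI : IsNoetherianRing (Localization.AtPrime m) :=
      IsLocalization.isNoetherianRing m.primeCompl _ hnoeth
    have hN1 := FFNagataH3.isN1_of_finite (Localization.AtPrime m)
      (Localization (Algebra.algebraMapSubmonoid B m.primeCompl)) (h1 m)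
    exact n1At_of_isN1_localization q _ hT hN1
  obtain ⟨c, hc0, hc⟩ := exists_uniform_denominator_of_N1At f hf0 hnormal hass
  exact finite_integralClosure_of_uniform_denominator c hc0 hc

theorem isNagata (A : Type u) [CommRing A] [hnoeth : IsNoetherianRing A]
    (h1 : ∀ (m : Ideal A) [m.IsMaximal], EGA4.HasGeomReducedFormalFibres (Localization.AtPrime m))
    (hJ2 : EGA4.IsJ2 A) : CAlg.IsNagata A := by
  refine ⟨hnoeth, fun p hp => ?_⟩
  apply Groth.Agent.Lib.Japanese.isN2_of_forall_finite_isN1
  intro B _ _ _ hfin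
  letI : Algebra A B := ((algebraMap (A ⧸ p) B).comp (algebraMap A (A ⧸ p))).toAlgebra
  haveI : IsScalarTower A (A ⧸ p) B := IsScalarTower.of_algebraMap_eq (fun _ => rfl)
  haveI : Module.Finite A B := Module.Finite.trans (A ⧸ p) B
  exact isN1_of_finite A h1 hJ2 B

/-- **EGA IV 7.7.2-type statement.** -/
theorem main (A : Type u) [CommRing A] [IsNoetherianRing A]
    (h1 : ∀ (m : Ideal A) [m.IsMaximal], EGA4.HasGeomReducedFormalFibres (Localization.AtPrime m))
    (h2 : EGA4.IsJ2 A) : CAlg.IsUniversallyJapanese A :=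
  ((NagataFT5H3.isNagata_iff A).1 (isNagata A h1 h2)).2

end Groth.Agent.Lib.J2JapaneseH3
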