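import Mathlib
import Groth.Prelude
import Groth.Agent.Lib.NagataCrit_helper3

/-!
# J-2 schemes and J-2 rings (S12460) — helper4
-/

set_option autoImplicit false
universe u
open CategoryTheory CategoryTheory.Limits AlgebraicGeometry TopologicalSpace Opposite

namespace Groth.Agent.Lib.J2SchemeH4

theorem preimage_fromSpec {Y : Scheme.{u}} {V : Y.Opens} (hV : IsAffineOpen V) :
    hV.fromSpec ⁻¹' {y : Y | IsRegularLocalRing (Y.presheaf.stalk y)} =
      EGA4.regLocus Γ(Y, V) := by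
  ext p
  have hp : hV.fromSpec p ∈ V := by
    have := hV.range_fromSpec
    rw [← SetLike.mem_coe, ← this]
    exact ⟨p, rfl⟩
  letI := TopCat.Presheaf.algebra_section_stalk Y.presheaf ⟨hV.fromSpec p, hp⟩
  haveI hloc : IsLocalization p.asIdeal.primeCompl (Y.presheaf.stalk (hV.fromSpec p)) :=
    hV.isLocalization_stalk' p hp
  let e : Localization.AtPrime p.asIdeal ≃ₐ[Γ(Y, V)] Y.presheaf.stalk (hV.fromSpec p) :=
    IsLocalization.algEquiv p.asIdeal.primeCompl _ _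
  constructor
  · intro h
    haveI : IsRegularLocalRing (Y.presheaf.stalk (hV.fromSpec p)) := h
    exact IsRegularLocalRing.of_ringEquiv e.symm.toRingEquiv
  · intro h
    haveI : IsRegularLocalRing (Localization.AtPrime p.asIdeal) := h
    exact IsRegularLocalRing.of_ringEquiv e.toRingEquiv

theorem main12460 (X : Scheme.{u}) :
    ((∀ (Y : Scheme.{u}) (g : Y ⟶ X), LocallyOfFiniteType g →
        IsOpen {y : Y | IsRegularLocalRing (Y.presheaf.stalk y)}) ↔
      ∀ U : X.affineOpens, EGA4.IsJ2 Γ(X, U)) ∧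
    ((∀ (Y : Scheme.{u}) (g : Y ⟶ X), LocallyOfFiniteType g →
        IsOpen {y : Y | IsRegularLocalRing (Y.presheaf.stalk y)}) ↔
      ∀ x : X, ∃ U : X.affineOpens, x ∈ (U : X.Opens) ∧ EGA4.IsJ2 Γ(X, U)) := by
  have h13 : (∀ (Y : Scheme.{u}) (g : Y ⟶ X), LocallyOfFiniteType g →
        IsOpen {y : Y | IsRegularLocalRing (Y.presheaf.stalk y)}) →
      ∀ U : X.affineOpens, EGA4.IsJ2 Γ(X, U) := by
    intro H U S _ _ hS
    have hft : LocallyOfFiniteType
        (Spec.map (CommRingCat.ofHom (algebraMap Γ(X, U) S)) ≫ U.2.fromSpec) := by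
      haveI : LocallyOfFiniteType (Spec.map (CommRingCat.ofHom (algebraMap Γ(X, U) S))) := by
        rw [HasRingHomProperty.Spec_iff (P := @LocallyOfFiniteType)]
        exact RingHom.finiteType_algebraMap.mpr hS
      infer_instance
    have hopen := H _ _ hft
    have h1 : IsOpen (EGA4.regLocus Γ(Spec (CommRingCat.of S), ⊤)) := by
      rw [← preimage_fromSpec (isAffineOpen_top (Spec (CommRingCat.of S)))]
      exact hopen.preimage (isAffineOpen_top (Spec (CommRingCat.of S))).fromSpec.continuous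
    exact Groth.Agent.Lib.NagataCritH3.isOpen_regLocus_of_ringEquiv
      (Scheme.ΓSpecIso (CommRingCat.of S)).commRingCatIsoToRingEquiv h1
  have h34 : (∀ U : X.affineOpens, EGA4.IsJ2 Γ(X, U)) →
      ∀ x : X, ∃ U : X.affineOpens, x ∈ (U : X.Opens) ∧ EGA4.IsJ2 Γ(X, U) := by
    intro H x
    obtain ⟨_, ⟨(U : X.Opens), hU, rfl⟩, hxU, -⟩ :=
      X.isBasis_affineOpens.exists_subset_of_mem_open (Set.mem_univ x) isOpen_univ
    exact ⟨⟨U, hU⟩, hxU, H ⟨U, hU⟩⟩
  have h41 : (∀ x : X, ∃ U : X.affineOpens, x ∈ (U : X.Opens) ∧ EGA4.IsJ2 Γ(X, U)) →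
      ∀ (Y : Scheme.{u}) (g : Y ⟶ X), LocallyOfFiniteType g →
        IsOpen {y : Y | IsRegularLocalRing (Y.presheaf.stalk y)} := by
    intro H Y g hg
    rw [isOpen_iff_forall_mem_open]
    intro y hy
    obtain ⟨U, hxU, hJ⟩ := H (g y)
    obtain ⟨_, ⟨(V : Y.Opens), hV, rfl⟩, hyV, hVU⟩ :=
      Y.isBasis_affineOpens.exists_subset_of_mem_open
        (show y ∈ ((g ⁻¹ᵁ U.1 : Y.Opens) : Set Y) from hxU) (g ⁻¹ᵁ U.1).2
    have hVU' : V ≤ g ⁻¹ᵁ U.1 := hVU
    have hft : (g.appLE U.1 V hVU').hom.FiniteType :=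
      LocallyOfFiniteType.finiteType_appLE g U.2 hV hVU'
    have hopenV : IsOpen (EGA4.regLocus Γ(Y, V)) := by
      letI := (g.appLE U.1 V hVU').hom.toAlgebra
      exact hJ Γ(Y, V) hft
    refine ⟨hV.fromSpec '' (EGA4.regLocus Γ(Y, V)), ?_,
      hV.fromSpec.isOpenEmbedding.isOpenMap _ hopenV, ?_⟩
    · rintro _ ⟨p, hp, rfl⟩
      have hmem : p ∈ hV.fromSpec ⁻¹' {y : Y | IsRegularLocalRing (Y.presheaf.stalk y)} := by
        rw [preimage_fromSpec hV]; exact hp
      exact hmem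
    · obtain ⟨p, hp⟩ : y ∈ Set.range hV.fromSpec := by
        rw [hV.range_fromSpec]; exact hyV
      refine ⟨p, ?_, hp⟩
      rw [← preimage_fromSpec hV]
      show hV.fromSpec p ∈ {y : Y | IsRegularLocalRing (Y.presheaf.stalk y)}
      rw [hp]; exact hy
  exact ⟨⟨h13, fun H => h41 (h34 H)⟩, ⟨fun H => h34 (h13 H), h41⟩⟩

end Groth.Agent.Lib.J2SchemeH4
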