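import Mathlib

/-!
# Extension by zero `j_!` for sheaves of modules on a localised site

Explicit presheaf-level left adjoint of the restriction to `Over X` (direct sums over the
morphisms to `X`), used to show that any left adjoint of `SheafOfModules.overFunctor` is exact and
faithful.
-/

set_option autoImplicit false
set_option linter.unusedSimpArgs false
set_option linter.unusedVariables false
set_option linter.unusedSectionVars false
set_option linter.style.longLine false
set_option linter.unnecessarySimpa false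
set_option maxHeartbeats 1600000
set_option backward.isDefEq.respectTransparency false
set_option backward.isDefEq.respectTransparency.types false
set_option backward.defeqAttrib.useBackward true

namespace Groth.Agent.Lib.JShriek
open CategoryTheory Limits Opposite
open scoped Classical DirectSum

universe u

variable {C : Type u} [SmallCategory C] (X : C) (R : Cᵒᵖ ⥤ RingCat.{u})

/-- the restricted presheaf of rings on `Over X` -/
abbrev RX : (Over X)ᵒᵖ ⥤ RingCat.{u} := (Over.forget X).op ⋙ R

variable {X R}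

section Pre
variable (P : PresheafOfModules.{u} (RX X R))

/-- summand -/
abbrev Sm {U : C} (φ : U ⟶ X) : Type u := P.presheaf.obj (op (Over.mk φ))

noncomputable instance modSm {U : Cᵒᵖ} (φ : U.unop ⟶ X) : Module (R.obj U) (Sm P φ) :=
  inferInstanceAs (Module ((RX X R).obj (op (Over.mk φ))) (P.presheaf.obj (op (Over.mk φ))))

/-- restriction between summands -/
noncomputable def resS {U V : C} {φ : U ⟶ X} {ψ : V ⟶ X} (k : Over.mk ψ ⟶ Over.mk φ) :
    Sm P φ →+ Sm P ψ := (P.presheaf.map k.op).hom

lemma resS_id {U : C} (φ : U ⟶ X) (y : Sm P φ) : resS P (𝟙 (Over.mk φ)) y = y := by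
  show (P.presheaf.map (𝟙 (Over.mk φ)).op).hom y = y
  rw [op_id, P.presheaf.map_id]
  rfl

lemma resS_comp {U V W : C} {φ : U ⟶ X} {ψ : V ⟶ X} {χ : W ⟶ X}
    (k₁ : Over.mk ψ ⟶ Over.mk φ) (k₂ : Over.mk χ ⟶ Over.mk ψ) (y : Sm P φ) :
    resS P (k₂ ≫ k₁) y = resS P k₂ (resS P k₁ y) := by
  show (P.presheaf.map (k₂ ≫ k₁).op).hom y = _
  rw [op_comp, P.presheaf.map_comp]
  rfl

lemma resS_smul {U V : C} {φ : U ⟶ X} {ψ : V ⟶ X} (k : Over.mk ψ ⟶ Over.mk φ)
    (r : R.obj (op U)) (y : Sm P φ) :
    resS P k (r • y) = (R.map k.left.op r) • resS P k y :=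
  P.map_smul k.op r y

/-- inclusion of a summand -/
noncomputable def ofS {U : C} (φ : U ⟶ X) : Sm P φ →+ (⨁ ψ : (U ⟶ X), Sm P ψ) :=
  DirectSum.of (fun ψ : U ⟶ X => Sm P ψ) φ

lemma ofS_injective {U : C} (φ : U ⟶ X) : Function.Injective (ofS P φ) :=
  DirectSum.of_injective φ

lemma ofS_smul {U : Cᵒᵖ} (φ : U.unop ⟶ X) (r : R.obj U) (y : Sm P φ) :
    ofS P φ (r • y) = r • ofS P φ y :=
  DirectSum.of_smul (R.obj U) φ r y

lemma ofS_res_ext {U W : C} {φ : U ⟶ X} {χ χ' : W ⟶ X} (k : Over.mk χ ⟶ Over.mk φ)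
    (k' : Over.mk χ' ⟶ Over.mk φ) (h : k.left = k'.left) (y : Sm P φ) :
    ofS P χ (resS P k y) = ofS P χ' (resS P k' y) := by
  have h1 : χ = χ' := by
    have e1 : k.left ≫ φ = χ := Over.w k
    have e2 : k'.left ≫ φ = χ' := Over.w k'
    rw [← e1, ← e2, h]
  subst h1
  have h2 : k = k' := Over.OverMorphism.ext h
  rw [h2]

/-- the canonical morphism over `X` given by `g` -/
abbrev kk {U V : C} (g : V ⟶ U) (φ : U ⟶ X) : Over.mk (g ≫ φ) ⟶ Over.mk φ := Over.homMk g rfl

/-- restriction on direct sums -/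
noncomputable def L0map {U V : C} (g : V ⟶ U) :
    (⨁ φ : (U ⟶ X), Sm P φ) →+ (⨁ ψ : (V ⟶ X), Sm P ψ) :=
  DirectSum.toAddMonoid (fun φ => (ofS P (g ≫ φ)).comp (resS P (kk g φ)))

lemma L0map_of {U V : C} (g : V ⟶ U) (φ : U ⟶ X) (y : Sm P φ) :
    L0map P g (ofS P φ y) = ofS P (g ≫ φ) (resS P (kk g φ) y) :=
  DirectSum.toAddMonoid_of _ _ _

/-- the underlying abelian presheaf of `j_!` -/
noncomputable def L0pre : Cᵒᵖ ⥤ Ab.{u} where
  obj U := AddCommGrpCat.of (⨁ φ : (U.unop ⟶ X), Sm P φ)
  map {U V} g := AddCommGrpCat.ofHom (L0map P g.unop)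
  map_id U := by
    refine AddCommGrpCat.hom_ext (DirectSum.addHom_ext (fun φ y => ?_))
    show L0map P (𝟙 U.unop) (ofS P φ y) = ofS P φ y
    rw [L0map_of, ofS_res_ext P (kk (𝟙 U.unop) φ) (𝟙 (Over.mk φ)) rfl y, resS_id]
  map_comp {U V W} g h := by
    refine AddCommGrpCat.hom_ext (DirectSum.addHom_ext (fun φ y => ?_))
    show L0map P (h.unop ≫ g.unop) (ofS P φ y) = L0map P h.unop (L0map P g.unop (ofS P φ y))
    rw [L0map_of, L0map_of, L0map_of, ← resS_comp]
    exact ofS_res_ext P (kk (h.unop ≫ g.unop) φ) (kk h.unop (g.unop ≫ φ) ≫ kk g.unop φ) rfl y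

noncomputable instance modL0 (U : Cᵒᵖ) : Module (R.obj U) ((L0pre P).obj U) :=
  inferInstanceAs (Module (R.obj U) (⨁ φ : (U.unop ⟶ X), Sm P φ))

lemma L0map_smul {U V : Cᵒᵖ} (g : U ⟶ V) (r : R.obj U) (m : ⨁ φ : (U.unop ⟶ X), Sm P φ) :
    L0map P g.unop (r • m) = (R.map g r) • L0map P g.unop m := by
  induction m using DirectSum.induction_on with
  | zero => rw [smul_zero, map_zero, smul_zero]
  | of φ y =>
    show L0map P g.unop (r • ofS P φ y) = (R.map g r) • L0map P g.unop (ofS P φ y)
    rw [← ofS_smul, L0map_of, L0map_of, resS_smul, ofS_smul]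
    rfl
  | add x y hx hy => rw [smul_add, map_add, map_add, smul_add, hx, hy]

/-- the presheaf of modules `j_! P` -/
noncomputable def L0obj : PresheafOfModules.{u} R :=
  PresheafOfModules.ofPresheaf (L0pre P) (fun U V g r m => L0map_smul P g r m)

end Pre

section Adj
variable {P : PresheafOfModules.{u} (RX X R)} {G : PresheafOfModules.{u} R}

variable (X R) in
/-- restriction to `Over X` on presheaves of modules -/
noncomputable abbrev Φ : PresheafOfModules.{u} R ⥤ PresheafOfModules.{u} (RX X R) :=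
  PresheafOfModules.pushforward (F := Over.forget X) (R := R) (S := RX X R) (𝟙 (RX X R))

/-- evaluate a morphism on a generator -/
noncomputable def evG (θ : L0obj P ⟶ G) {U : C} (φ : U ⟶ X) (y : Sm P φ) : G.obj (op U) :=
  (θ.app (op U)).hom (ofS P φ y)

lemma evG_add (θ : L0obj P ⟶ G) {U : C} (φ : U ⟶ X) (y y' : Sm P φ) :
    evG θ φ (y + y') = evG θ φ y + evG θ φ y' := by
  unfold evG
  rw [map_add, map_add]

lemma evG_zero (θ : L0obj P ⟶ G) {U : C} (φ : U ⟶ X) : evG θ φ 0 = 0 := by
  unfold evG
  rw [map_zero, map_zero]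

lemma evG_smul (θ : L0obj P ⟶ G) {U : C} (φ : U ⟶ X) (r : R.obj (op U)) (y : Sm P φ) :
    evG θ φ (r • y) = r • evG θ φ y := by
  unfold evG
  rw [ofS_smul P (U := op U) φ r y]
  exact (θ.app (op U)).hom.map_smul r _

lemma evG_res (θ : L0obj P ⟶ G) {U V : C} (g : V ⟶ U) (φ : U ⟶ X) (y : Sm P φ) :
    (G.map g.op).hom (evG θ φ y) = evG θ (g ≫ φ) (resS P (kk g φ) y) := by
  have h := PresheafOfModules.naturality_apply θ g.op (ofS P φ y)
  have h2 : ((L0obj P).map g.op).hom (ofS P φ y) = ofS P (g ≫ φ) (resS P (kk g φ) y) :=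
    L0map_of P g φ y
  unfold evG
  rw [← h2]
  exact h.symm

/-- forward direction, additive components -/
noncomputable def toFadd (θ : L0obj P ⟶ G) (Y : (Over X)ᵒᵖ) :
    (P.presheaf.obj Y) →+ (((Φ X R).obj G).presheaf.obj Y) where
  toFun y := evG θ Y.unop.hom y
  map_zero' := evG_zero θ _
  map_add' y y' := evG_add θ _ y y'

/-- forward direction of the hom equivalence -/
noncomputable def toF (θ : L0obj P ⟶ G) : P ⟶ (Φ X R).obj G :=
  PresheafOfModules.homMk
    { app := fun Y => AddCommGrpCat.ofHom (toFadd θ Y)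
      naturality := fun Y Y' k => by
        ext y
        show evG θ Y'.unop.hom (resS P (φ := Y.unop.hom) (ψ := Y'.unop.hom) k.unop y) =
          (G.map k.unop.left.op).hom (evG θ Y.unop.hom y)
        rw [evG_res]
        exact congrArg (θ.app (op Y'.unop.left)).hom
          (ofS_res_ext P (φ := Y.unop.hom) (χ := Y'.unop.hom) (χ' := k.unop.left ≫ Y.unop.hom)
            k.unop (kk k.unop.left Y.unop.hom) rfl y) }
    (fun Y r m => evG_smul θ Y.unop.hom r m)

/-- backward direction, components on summands -/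
noncomputable def xiAdd (ξ : P ⟶ (Φ X R).obj G) {U : Cᵒᵖ} (φ : U.unop ⟶ X) : Sm P φ →+ G.obj U where
  toFun y := (ξ.app (op (Over.mk φ))).hom y
  map_zero' := map_zero (ξ.app (op (Over.mk φ))).hom
  map_add' := map_add (ξ.app (op (Over.mk φ))).hom

/-- backward direction, additive components -/
noncomputable def invAdd (ξ : P ⟶ (Φ X R).obj G) (U : Cᵒᵖ) :
    (⨁ φ : (U.unop ⟶ X), Sm P φ) →+ G.obj U :=
  DirectSum.toAddMonoid (fun φ => xiAdd ξ φ)

lemma invAdd_of (ξ : P ⟶ (Φ X R).obj G) (U : Cᵒᵖ) (φ : U.unop ⟶ X) (y : Sm P φ) :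
    invAdd ξ U (ofS P φ y) = (ξ.app (op (Over.mk φ))).hom y :=
  DirectSum.toAddMonoid_of _ _ _

/-- backward direction of the hom equivalence -/
noncomputable def invF (ξ : P ⟶ (Φ X R).obj G) : L0obj P ⟶ G :=
  PresheafOfModules.homMk
    { app := fun U => AddCommGrpCat.ofHom (invAdd ξ U)
      naturality := fun U V g => by
        refine AddCommGrpCat.hom_ext (DirectSum.addHom_ext (fun φ y => ?_))
        show invAdd ξ V (L0map P g.unop (ofS P φ y)) = (G.map g).hom (invAdd ξ U (ofS P φ y))
        rw [L0map_of, invAdd_of, invAdd_of]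
        exact PresheafOfModules.naturality_apply ξ (kk g.unop φ).op y }
    (fun U r m => by
      show invAdd ξ U (r • m) = r • invAdd ξ U m
      induction m using DirectSum.induction_on with
      | zero => rw [smul_zero, map_zero, smul_zero]
      | of φ y =>
        show invAdd ξ U (r • ofS P φ y) = r • invAdd ξ U (ofS P φ y)
        rw [← ofS_smul, invAdd_of, invAdd_of]
        exact (ξ.app (op (Over.mk φ))).hom.map_smul r y
      | add x y hx hy => rw [smul_add, map_add, hx, hy, map_add, smul_add])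

lemma evG_invF (ξ : P ⟶ (Φ X R).obj G) {U : C} (φ : U ⟶ X) (y : Sm P φ) :
    evG (invF ξ) φ y = (ξ.app (op (Over.mk φ))).hom y :=
  invAdd_of ξ (op U) φ y

lemma L0_hom_ext {θ θ' : L0obj P ⟶ G}
    (h : ∀ {U : C} (φ : U ⟶ X) (y : Sm P φ), evG θ φ y = evG θ' φ y) : θ = θ' := by
  apply PresheafOfModules.hom_ext
  intro U
  apply ModuleCat.hom_ext
  apply LinearMap.toAddMonoidHom_injective
  show ((θ.app U).hom.toAddMonoidHom : (⨁ φ : (U.unop ⟶ X), Sm P φ) →+ G.obj U) =
    ((θ'.app U).hom.toAddMonoidHom : (⨁ φ : (U.unop ⟶ X), Sm P φ) →+ G.obj U)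
  exact DirectSum.addHom_ext (fun φ y => h φ y)

variable (P G) in
/-- the hom equivalence `Hom(j_! P, G) ≃ Hom(P, j^* G)` -/
noncomputable def homEquiv : (L0obj P ⟶ G) ≃ (P ⟶ (Φ X R).obj G) where
  toFun := toF
  invFun := invF
  left_inv θ := L0_hom_ext (fun φ y => evG_invF (toF θ) φ y)
  right_inv ξ := by
    apply PresheafOfModules.hom_ext
    intro Y
    apply ModuleCat.hom_ext
    apply LinearMap.ext
    intro y
    exact evG_invF ξ Y.unop.hom y

lemma homEquiv_naturality (P : PresheafOfModules.{u} (RX X R)) (G G' : PresheafOfModules.{u} R)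
    (g : G ⟶ G') (h : L0obj P ⟶ G) :
    homEquiv P G' (h ≫ g) = homEquiv P G h ≫ (Φ X R).map g := by
  apply PresheafOfModules.hom_ext
  intro Y
  apply ModuleCat.hom_ext
  apply LinearMap.ext
  intro y
  rfl

variable (X R) in
/-- the presheaf-level extension by zero functor -/
noncomputable def L0 : PresheafOfModules.{u} (RX X R) ⥤ PresheafOfModules.{u} R :=
  Adjunction.leftAdjointOfEquiv (G := Φ X R) (F_obj := fun P => L0obj P)
    (fun P G => homEquiv P G) homEquiv_naturality

variable (X R) in
/-- the presheaf-level adjunction `j_! ⊣ j^*` -/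
noncomputable def adj0 : L0 X R ⊣ Φ X R :=
  Adjunction.adjunctionOfEquivLeft (fun P G => homEquiv P G) homEquiv_naturality

lemma L0_map_ev {P P' : PresheafOfModules.{u} (RX X R)} (f : P ⟶ P') {U : C} (φ : U ⟶ X)
    (y : Sm P φ) :
    evG ((L0 X R).map f) φ y = ofS P' φ ((f.app (op (Over.mk φ))).hom y) := by
  show evG (invF (f ≫ toF (𝟙 (L0obj P')))) φ y = _
  rw [evG_invF]
  rfl

/-- components of a morphism on summands -/
noncomputable def fAdd {P P' : PresheafOfModules.{u} (RX X R)} (f : P ⟶ P') {U : C} (φ : U ⟶ X) :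
    Sm P φ →+ Sm P' φ where
  toFun y := (f.app (op (Over.mk φ))).hom y
  map_zero' := map_zero (f.app (op (Over.mk φ))).hom
  map_add' := map_add (f.app (op (Over.mk φ))).hom

instance L0_preservesMono : (L0 X R).PreservesMonomorphisms where
  preserves {P P'} f hf := by
    apply PresheafOfModules.mono_of_injective
    intro U
    have hinj : ∀ φ : U.unop ⟶ X, Function.Injective (fAdd f φ) := fun φ =>
      PresheafOfModules.injective_of_mono f (op (Over.mk φ))
    have key : ((((L0 X R).map f).app U).hom.toAddMonoidHom :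
        (⨁ φ : (U.unop ⟶ X), Sm P φ) →+ (⨁ φ : (U.unop ⟶ X), Sm P' φ)) =
        DirectSum.map (fun φ : U.unop ⟶ X => fAdd f φ) := by
      refine DirectSum.addHom_ext (fun φ y => ?_)
      refine Eq.trans ?_ (DirectSum.map_of (fun φ : U.unop ⟶ X => fAdd f φ) φ y).symm
      exact L0_map_ev f φ y
    intro a b hab
    have h1 : DirectSum.map (fun φ : U.unop ⟶ X => fAdd f φ) a =
        DirectSum.map (fun φ : U.unop ⟶ X => fAdd f φ) b := by
      rw [← key]
      exact hab
    exact (DirectSum.map_injective _).2 hinj h1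

end Adj

section Sheaf
variable {J : GrothendieckTopology C} (A : Sheaf J RingCat.{u}) (X : C)

/-- the explicit left adjoint candidate on sheaves of modules -/
noncomputable def Lsh : SheafOfModules.{u} (A.over X) ⥤ SheafOfModules.{u} A :=
  SheafOfModules.forget (A.over X) ⋙ L0 X A.obj ⋙ PresheafOfModules.sheafification (𝟙 A.obj)

instance : (Lsh A X).PreservesMonomorphisms := by
  unfold Lsh
  have h1 : PreservesFiniteLimits (SheafOfModules.forget.{u} (A.over X)) := inferInstance
  haveI : PreservesLimitsOfShape WalkingCospan (SheafOfModules.forget.{u} (A.over X)) :=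
    h1.preservesFiniteLimits WalkingCospan
  haveI : (SheafOfModules.forget.{u} (A.over X)).PreservesMonomorphisms :=
    preservesMonomorphisms_of_preservesLimitsOfShape _
  have h2 : PreservesFiniteLimits (PresheafOfModules.sheafification.{u} (R₀ := A.obj) (𝟙 A.obj)) :=
    inferInstance
  haveI : PreservesLimitsOfShape WalkingCospan
      (PresheafOfModules.sheafification.{u} (R₀ := A.obj) (𝟙 A.obj)) :=
    h2.preservesFiniteLimits WalkingCospan
  haveI : (PresheafOfModules.sheafification.{u} (R₀ := A.obj) (𝟙 A.obj)).PreservesMonomorphisms :=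
    preservesMonomorphisms_of_preservesLimitsOfShape _
  haveI : (L0 X A.obj ⋙ PresheafOfModules.sheafification.{u} (R₀ := A.obj)
      (𝟙 A.obj)).PreservesMonomorphisms := Functor.preservesMonomorphisms_comp _ _
  exact Functor.preservesMonomorphisms_comp _ _

/-- any left adjoint of the restriction functor is isomorphic to the explicit one -/
noncomputable def isoL (L : SheafOfModules.{u} (A.over X) ⥤ SheafOfModules.{u} A)
    (adj : L ⊣ SheafOfModules.overFunctor.{u} A X) : L ≅ Lsh A X :=
  adj.leftAdjointUniq (SheafOfModules.pullbackPushforwardAdjunction.{u}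
      (F := Over.forget X) (S := A.over X) (R := A) (𝟙 (A.over X))) ≪≫
    SheafOfModules.pullbackIso.{u} (F := Over.forget X) (S := A.over X) (R := A) (𝟙 (A.over X)) ≪≫
    Functor.isoWhiskerLeft (SheafOfModules.forget (A.over X))
      (Functor.isoWhiskerRight
        ((PresheafOfModules.pullbackPushforwardAdjunction.{u} (F := Over.forget X)
          (S := (A.over X).obj) (R := A.obj) (𝟙 (A.over X).obj)).leftAdjointUniq (adj0 X A.obj))
        (PresheafOfModules.sheafification (𝟙 A.obj)))

theorem Lsh_faithful : (Lsh A X).Faithful where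
  map_injective {F F'} f f' h := by
    let η := (PresheafOfModules.sheafificationAdjunction (R₀ := A.obj) (𝟙 A.obj)).unit
    let P₀ : PresheafOfModules.{u} (RX X A.obj) := F.val
    let P' : PresheafOfModules.{u} (RX X A.obj) := F'.val
    let fv : P₀ ⟶ P' := f.val
    let fv' : P₀ ⟶ P' := f'.val
    let g := (L0 X A.obj).map fv
    let g' := (L0 X A.obj).map fv'
    have h1 : (PresheafOfModules.sheafification (R₀ := A.obj) (𝟙 A.obj)).map g =
        (PresheafOfModules.sheafification (R₀ := A.obj) (𝟙 A.obj)).map g' := h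
    have h2 : g ≫ η.app (L0obj P') = g' ≫ η.app (L0obj P') := by
      have n1 := η.naturality g
      have n2 := η.naturality g'
      exact n1.trans ((congrArg (fun t => η.app (L0obj P₀) ≫ (SheafOfModules.forget A ⋙
        PresheafOfModules.restrictScalars (𝟙 A.obj)).map t) h1).trans n2.symm)
    apply SheafOfModules.hom_ext
    apply PresheafOfModules.hom_ext
    intro Y
    apply ModuleCat.hom_ext
    apply LinearMap.ext
    intro y
    let U : C := Y.unop.left
    let φ : U ⟶ X := Y.unop.hom
    let a : Sm P' φ := (f.val.app Y).hom y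
    let b : Sm P' φ := (f'.val.app Y).hom y
    show a = b
    have h3 : ((η.app (L0obj P')).app (op U)).hom (ofS P' φ a) =
        ((η.app (L0obj P')).app (op U)).hom (ofS P' φ b) := by
      have ea : ofS P' φ a = (g.app (op U)).hom (ofS P₀ φ y) :=
        (L0_map_ev (X := X) (R := A.obj) fv φ y).symm
      have eb : ofS P' φ b = (g'.app (op U)).hom (ofS P₀ φ y) :=
        (L0_map_ev (X := X) (R := A.obj) fv' φ y).symm
      rw [ea, eb]
      exact congrArg (fun t => (PresheafOfModules.Hom.app t (op U)).hom (ofS P₀ φ y)) h2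
    haveI : Presheaf.IsLocallyInjective J
        ((PresheafOfModules.toPresheaf _).map (η.app (L0obj P'))) :=
      inferInstanceAs (Presheaf.IsLocallyInjective J
        (CategoryTheory.toSheafify J (L0obj P').presheaf))
    have hS := Presheaf.equalizerSieve_mem J
      ((PresheafOfModules.toPresheaf _).map (η.app (L0obj P'))) (X := op U)
      (ofS P' φ a) (ofS P' φ b) h3
    have hsep := (F'.isSheaf).isSeparated
    refine hsep Y.unop ((Sieve.overEquiv Y.unop).symm _)
      (GrothendieckTopology.overEquiv_symm_mem_over J Y.unop _ hS) a b ?_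
    intro Z k hk
    have hk' : L0map P' k.left (ofS P' φ a) = L0map P' k.left (ofS P' φ b) := hk
    apply ofS_injective P' Z.hom
    have ea := ofS_res_ext P' (φ := φ) (χ := Z.hom) (χ' := k.left ≫ φ) k (kk k.left φ) rfl a
    have eb := ofS_res_ext P' (φ := φ) (χ := Z.hom) (χ' := k.left ≫ φ) k (kk k.left φ) rfl b
    show ofS P' Z.hom (resS P' (φ := φ) (ψ := Z.hom) k a) =
      ofS P' Z.hom (resS P' (φ := φ) (ψ := Z.hom) k b)
    rw [ea, eb, ← L0map_of, ← L0map_of]
    exact hk'

theorem main (L : SheafOfModules.{u} (A.over X) ⥤ SheafOfModules.{u} A)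
    (adj : L ⊣ SheafOfModules.overFunctor.{u} A X) :
    PreservesFiniteLimits L ∧ PreservesFiniteColimits L ∧ L.Faithful := by
  have e := isoL A X L adj
  haveI : (SheafOfModules.overFunctor.{u} A X).Additive := ⟨by intros; rfl⟩
  haveI : L.Additive := adj.left_adjoint_additive
  haveI : PreservesColimitsOfSize.{0, 0} L := adj.leftAdjoint_preservesColimits
  haveI : PreservesFiniteColimits L := PreservesColimitsOfSize.preservesFiniteColimits _
  haveI : L.PreservesMonomorphisms := Functor.preservesMonomorphisms.of_iso e.symm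
  haveI : L.PreservesHomology := Functor.preservesHomology_of_preservesMonos_and_cokernels L
  refine ⟨Functor.preservesFiniteLimits_of_preservesHomology L, inferInstance, ?_⟩
  haveI := Lsh_faithful A X
  exact Functor.Faithful.of_iso e.symm

end Sheaf

end Groth.Agent.Lib.JShriek
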