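import Mathlib
import Groth.Prelude.Def_CAlgX

/-!
# Injectivity on cotangent modules for an adically formally smooth local homomorphism (helper3)

`A → B` formally smooth for the `𝔫`-adic topology, `K` a `B`-algebra killed by `𝔫`.  With the standard
presentations `A[X_k] → K`, `B[X_k] → K` (`k ∈ K`), the map `I_A/I_A² → I_B/I_B²` is injective.
-/

set_option autoImplicit false
set_option maxSynthPendingDepth 3

namespace Groth.Agent.Lib.JZInjH3

universe u

open MvPolynomial

variable {A B K : Type u} [CommRing A] [CommRing B] [CommRing K] [Algebra A B] [Algebra A K]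
  [Algebra B K] [IsScalarTower A B K]

local notation "qA" => (MvPolynomial.aeval (R := A) (fun k : K => k) : MvPolynomial K A →ₐ[A] K)
local notation "qB" => (MvPolynomial.aeval (R := B) (fun k : K => k) : MvPolynomial K B →ₐ[B] K)

theorem core (𝔫 : Ideal B) (h𝔫 : ∀ x ∈ 𝔫, algebraMap B K x = 0)
    (hfs : CAlgX.IsAdicFormallySmooth A B 𝔫)
    (f : MvPolynomial K A →+* MvPolynomial K B)
    (hfC : ∀ a, f (C a) = C (algebraMap A B a)) (hfX : ∀ k, f (X k) = X k)
    (y : MvPolynomial K A)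
    (hy : f y ∈ (RingHom.ker qB) ^ 2) :
    y ∈ (RingHom.ker qA) ^ 2 := by
  classical
  have hqAsurj : Function.Surjective qA := fun k => ⟨X k, by simp⟩
  -- the test algebra
  let Cc := MvPolynomial K A ⧸ (RingHom.ker qA) ^ 2
  let J : Ideal Cc := (RingHom.ker qA).map (Ideal.Quotient.mk ((RingHom.ker qA) ^ 2))
  have hJ : J ^ 2 = ⊥ := by
    show ((RingHom.ker qA).map (Ideal.Quotient.mk ((RingHom.ker qA) ^ 2))) ^ 2 = ⊥
    rw [← Ideal.map_pow, Ideal.map_quotient_self]
  let ρ : MvPolynomial K A →ₐ[A] Cc ⧸ J :=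
    (Ideal.Quotient.mkₐ A J).comp (Ideal.Quotient.mkₐ A ((RingHom.ker qA) ^ 2))
  have hρ : ∀ a ∈ RingHom.ker qA, ρ a = 0 := by
    intro a ha
    show Ideal.Quotient.mk J (Ideal.Quotient.mk ((RingHom.ker qA) ^ 2) a) = 0
    rw [Ideal.Quotient.eq_zero_iff_mem]
    exact Ideal.mem_map_of_mem _ ha
  let θ : K →ₐ[A] Cc ⧸ J :=
    (Ideal.Quotient.liftₐ (RingHom.ker qA) ρ hρ).comp
      (Ideal.quotientKerAlgEquivOfSurjective hqAsurj).symm.toAlgHom
  have hθ : ∀ p : MvPolynomial K A, θ (qA p) = ρ p := by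
    intro p
    have : (Ideal.quotientKerAlgEquivOfSurjective hqAsurj).symm (qA p) =
        Ideal.Quotient.mk (RingHom.ker qA) p := by
      rw [AlgEquiv.symm_apply_eq]; rfl
    show (Ideal.Quotient.liftₐ (RingHom.ker qA) ρ hρ)
      ((Ideal.quotientKerAlgEquivOfSurjective hqAsurj).symm (qA p)) = ρ p
    rw [this]; rfl
  let ψ : B →ₐ[A] Cc ⧸ J := θ.comp (IsScalarTower.toAlgHom A B K)
  have hψ : ∃ k : ℕ, ∀ x ∈ 𝔫 ^ k, ψ x = 0 := by
    refine ⟨1, fun x hx => ?_⟩
    rw [pow_one] at hx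
    show θ (algebraMap B K x) = 0
    rw [h𝔫 x hx, map_zero]
  obtain ⟨χ, hχ⟩ := hfs Cc J hJ ψ hψ
  have hχ' : ∀ b, Ideal.Quotient.mk J (χ b) = ψ b := fun b => congrArg (fun g => g b) hχ
  let φ : MvPolynomial K B →+* Cc :=
    MvPolynomial.eval₂Hom (χ : B →+* Cc) (fun k => Ideal.Quotient.mk ((RingHom.ker qA) ^ 2) (X k))
  -- Claim 1
  have h1 : φ.comp f = Ideal.Quotient.mk ((RingHom.ker qA) ^ 2) := by
    refine MvPolynomial.ringHom_ext (fun a => ?_) (fun k => ?_)
    · show φ (f (C a)) = _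
      rw [hfC]
      show MvPolynomial.eval₂ (χ : B →+* Cc) _ (C (algebraMap A B a)) = _
      rw [MvPolynomial.eval₂_C]
      show χ (algebraMap A B a) = _
      rw [χ.commutes]; rfl
    · show φ (f (X k)) = _
      rw [hfX]
      show MvPolynomial.eval₂ (χ : B →+* Cc) _ (X k) = _
      rw [MvPolynomial.eval₂_X]
  -- Claim 2
  have h2 : (Ideal.Quotient.mk J).comp φ =
      (θ : K →+* Cc ⧸ J).comp ((qB : MvPolynomial K B →ₐ[B] K) : MvPolynomial K B →+* K) := by
    refine MvPolynomial.ringHom_ext (fun b => ?_) (fun k => ?_)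
    · show Ideal.Quotient.mk J (MvPolynomial.eval₂ (χ : B →+* Cc) _ (C b)) = θ (qB (C b))
      rw [MvPolynomial.eval₂_C]
      show Ideal.Quotient.mk J (χ b) = _
      rw [hχ']
      show θ (algebraMap B K b) = θ (qB (C b))
      congr 1
      simp
    · show Ideal.Quotient.mk J (MvPolynomial.eval₂ (χ : B →+* Cc) _ (X k)) = θ (qB (X k))
      rw [MvPolynomial.eval₂_X]
      have : qB (X k) = qA (X k) := by simp
      rw [this, hθ]; rfl
  have h2' : (RingHom.ker qB).map φ ≤ J := by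
    rw [Ideal.map_le_iff_le_comap]
    intro p hp
    rw [Ideal.mem_comap, ← Ideal.Quotient.eq_zero_iff_mem]
    have := congrArg (fun g => g p) h2
    simp only [RingHom.comp_apply] at this
    rw [this]
    have hp' : qB p = 0 := hp
    show θ (qB p) = 0
    rw [hp', map_zero]
  -- conclusion
  have h3 : φ (f y) ∈ ((RingHom.ker qB).map φ) ^ 2 := by
    rw [← Ideal.map_pow]
    exact Ideal.mem_map_of_mem _ hy
  have h4 : φ (f y) = 0 := by
    have hle : ((RingHom.ker qB).map φ) ^ 2 ≤ J ^ 2 := Ideal.pow_right_mono h2' 2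
    have := hle h3
    rw [hJ] at this
    exact this
  have h5 : Ideal.Quotient.mk ((RingHom.ker qA) ^ 2) y = 0 := by
    rw [← h1]; exact h4
  exact Ideal.Quotient.eq_zero_iff_mem.1 h5

end Groth.Agent.Lib.JZInjH3
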