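import Groth.Agent.Lib.JacCons_helper8

namespace Groth.Agent.JacCons

open PrimeSpectrum Topology

/-- If `ξ` is in the closure of `cl{ξ} ∩ f(V(J) ∖ V(h))`, then `ξ ∈ f(V(J) ∖ V(h))`. -/
theorem mem_image_of_mem_closure {R S : Type*} [CommRing R] [CommRing S] (φ : R →+* S)
    (J : Set S) (h : S) (ξ : PrimeSpectrum R)
    (hξ : ξ ∈ closure (closure {ξ} ∩ comap φ '' (zeroLocus J \ zeroLocus {h}))) :
    ξ ∈ comap φ '' (zeroLocus J \ zeroLocus {h}) := by
  classical
  let I : Ideal S := Ideal.span J ⊔ ξ.asIdeal.map φ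
  let M : Submonoid S := Submonoid.powers h ⊔ ξ.asIdeal.primeCompl.map (φ : R →* S)
  by_cases hd : Disjoint (I : Set S) M
  · obtain ⟨P, hP, hIP, hPM⟩ := Ideal.exists_le_prime_disjoint I M hd
    refine ⟨⟨P, hP⟩, ⟨?_, ?_⟩, ?_⟩
    · rw [mem_zeroLocus]
      exact fun x hx => hIP (Ideal.mem_sup_left (Ideal.subset_span hx))
    · rw [mem_zeroLocus, Set.singleton_subset_iff]
      intro hh
      exact Set.disjoint_left.mp hPM hh
        ((le_sup_left : Submonoid.powers h ≤ M) (Submonoid.mem_powers h))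
    · apply PrimeSpectrum.ext
      apply le_antisymm
      · intro a ha
        by_contra haξ
        have : φ a ∈ M := (le_sup_right : ξ.asIdeal.primeCompl.map (φ : R →* S) ≤ M)
          (Submonoid.mem_map.mpr ⟨a, haξ, rfl⟩)
        exact Set.disjoint_left.mp hPM ha this
      · intro a ha
        exact hIP (Ideal.mem_sup_right (Ideal.mem_map_of_mem φ ha))
  · rw [Set.not_disjoint_iff] at hd
    obtain ⟨s, hsI, hsM⟩ := hd
    obtain ⟨y, hy, z, hz, rfl⟩ := Submonoid.mem_sup.mp hsM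
    obtain ⟨n, rfl⟩ := Submonoid.mem_powers_iff _ _ |>.mp hy
    obtain ⟨a, haξ, rfl⟩ := Submonoid.mem_map.mp hz
    have hopen : IsOpen (basicOpen a : Set (PrimeSpectrum R)) := isOpen_basicOpen
    obtain ⟨x, hxa, hxcl, ⟨P, ⟨hPJ, hPh⟩, rfl⟩⟩ := mem_closure_iff.mp hξ _ hopen haξ
    exfalso
    rw [PrimeSpectrum.closure_singleton] at hxcl
    have hξP : ξ.asIdeal ≤ (comap φ P).asIdeal := hxcl
    have hIP : I ≤ P.asIdeal := by
      refine sup_le ?_ ?_
      · rw [Ideal.span_le]; exact hPJ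
      · rw [Ideal.map_le_iff_le_comap]; exact hξP
    have := hIP hsI
    rcases P.2.mem_or_mem this with h1 | h1
    · apply hPh
      rw [mem_zeroLocus, Set.singleton_subset_iff]
      exact P.2.mem_of_pow_mem n h1
    · exact hxa h1

end Groth.Agent.JacCons
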