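import Mathlib

namespace Groth.Agent.JacCons

open PrimeSpectrum Topology

/-- In the spectrum of a Jacobson ring, a closed set meeting a constructible set meets it in a
closed point. -/
theorem exists_isClosed_singleton_of_isConstructible {S : Type*} [CommRing S] [IsJacobsonRing S]
    (E : Set (PrimeSpectrum S)) (hE : IsConstructible E) (C : Set (PrimeSpectrum S))
    (hC : IsClosed C) (hne : (C ∩ E).Nonempty) :
    ∃ y ∈ C ∩ E, IsClosed ({y} : Set (PrimeSpectrum S)) := by
  obtain ⟨D, rfl⟩ := exists_constructibleSetData_iff.mpr hE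
  obtain ⟨y, hyC, hyE⟩ := hne
  simp only [ConstructibleSetData.toSet, Set.mem_iUnion] at hyE
  obtain ⟨c, hcD, hyc⟩ := hyE
  have hlc : IsLocallyClosed (C ∩ c.toSet) := by
    refine hC.isLocallyClosed.inter ?_
    unfold BasicConstructibleSetData.toSet
    rw [Set.sdiff_eq]
    exact (isClosed_zeroLocus _).isLocallyClosed.inter
      (isClosed_zeroLocus _).isOpen_compl.isLocallyClosed
  obtain ⟨y', ⟨hy'C, hy'c⟩, hy'cl⟩ := nonempty_inter_closedPoints (Z := C ∩ c.toSet) ⟨y, hyC, hyc⟩ hlc
  exact ⟨y', ⟨hy'C, Set.mem_biUnion hcD hy'c⟩, hy'cl⟩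

/-- For a finite type algebra over a Jacobson ring, closed points map to closed points. -/
theorem isClosed_singleton_comap {R S : Type*} [CommRing R] [CommRing S] [Algebra R S]
    [IsJacobsonRing R] [Algebra.FiniteType R S]
    (y : PrimeSpectrum S) (hy : IsClosed ({y} : Set (PrimeSpectrum S))) :
    IsClosed ({PrimeSpectrum.comap (algebraMap R S) y} : Set (PrimeSpectrum R)) := by
  rw [isClosed_singleton_iff_isMaximal] at hy ⊢
  letI := Ideal.Quotient.field y.asIdeal
  haveI : Algebra.FiniteType R (S ⧸ y.asIdeal) :=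
    Algebra.FiniteType.trans (inferInstance : Algebra.FiniteType R S)
      (inferInstance : Algebra.FiniteType S (S ⧸ y.asIdeal))
  haveI hfin := finite_of_finite_type_of_isJacobsonRing R (S ⧸ y.asIdeal)
  have hint : (algebraMap R (S ⧸ y.asIdeal)).IsIntegral :=
    Algebra.isIntegral_def.mp (Algebra.IsIntegral.of_finite R (S ⧸ y.asIdeal))
  have := Ideal.isMaximal_comap_of_isIntegral_of_isMaximal' (algebraMap R (S ⧸ y.asIdeal)) hint ⊥
  convert this using 1
  ext a
  simp only [PrimeSpectrum.comap_asIdeal, Ideal.mem_comap, Ideal.mem_bot]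
  rw [IsScalarTower.algebraMap_apply R S (S ⧸ y.asIdeal), Ideal.Quotient.algebraMap_eq,
    Ideal.Quotient.eq_zero_iff_mem]

end Groth.Agent.JacCons
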