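import Mathlib

namespace Groth.Agent.JacCrit

universe u

/-- Noetherian domain `C` with a nonunit `f ≠ 0` contained in every nonzero prime: every maximal
ideal is a minimal prime over `(f)`, of height one. -/
theorem maximal_mem_minimalPrimes {C : Type*} [CommRing C] [IsDomain C] [IsNoetherianRing C]
    (f : C) (hf0 : f ≠ 0) (hfu : ¬ IsUnit f)
    (hf : ∀ q : Ideal C, q.IsPrime → q ≠ ⊥ → f ∈ q) (M : Ideal C) (hM : M.IsMaximal) :
    M ∈ (Ideal.span {f}).minimalPrimes ∧ M.height = 1 := by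
  classical
  have hQfin : (Ideal.span {f}).minimalPrimes.Finite :=
    Ideal.finite_minimalPrimes_of_isNoetherianRing C _
  have hQ1 : ∀ q ∈ (Ideal.span {f}).minimalPrimes, q.height = 1 := by
    intro q hq
    haveI := hq.1.1
    have h1 : q.height ≤ 1 := Ideal.height_le_one_of_isPrincipal_of_mem_minimalPrimes _ q hq
    have h0 : q.height ≠ 0 := by
      rw [Ne, Ideal.height_eq_zero_iff_eq_bot]
      rintro rfl
      exact hf0 (by simpa using hq.1.2 (Ideal.mem_span_singleton_self f))
    exact le_antisymm h1 (Order.one_le_iff_pos.mpr (pos_iff_ne_zero.mpr h0))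
  have hcontains : ∀ P : Ideal C, P.IsPrime → P ≠ ⊥ →
      ∃ q ∈ (Ideal.span {f}).minimalPrimes, q ≤ P := by
    intro P hP hP0
    exact Ideal.exists_minimalPrimes_le ((Ideal.span_singleton_le_iff_mem _).mpr (hf P hP hP0))
  have hMprime : M.IsPrime := hM.isPrime
  have hM0 : M ≠ ⊥ := by
    rintro rfl
    have hfld : IsField C := Ring.isField_iff_maximal_bot.mpr hM
    obtain ⟨g, hg⟩ := hfld.mul_inv_cancel hf0
    exact hfu (IsUnit.of_mul_eq_one g hg)
  obtain ⟨q, hq, hqM⟩ := hcontains M hMprime hM0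
  haveI := hq.1.1
  suffices hMq : M = q by
    subst hMq
    exact ⟨hq, hQ1 _ hq⟩
  by_contra hne
  have hlt : q < M := lt_of_le_of_ne hqM (fun h => hne h.symm)
  have hM2 : (2 : ℕ∞) ≤ M.height := by
    have := Ideal.height_add_one_le_of_lt_of_isPrime hlt
    rw [hQ1 q hq] at this
    exact this
  -- prime avoidance
  have hsub : ¬ ((M : Set C) ⊆ ⋃ i ∈ (hQfin.toFinset : Set (Ideal C)), (i : Set C)) := by
    intro hsub
    have hprime : ∀ i ∈ hQfin.toFinset, i ≠ (⊥ : Ideal C) → i ≠ (⊥ : Ideal C) →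
        (id i : Ideal C).IsPrime := fun i hi _ _ => (hQfin.mem_toFinset.mp hi).1.1
    obtain ⟨i, hi, hle⟩ := (Ideal.subset_union_prime (f := id) ⊥ ⊥ hprime).mp hsub
    have hi' := hQfin.mem_toFinset.mp hi
    have hieq : M = i := hM.eq_of_le hi'.1.1.ne_top hle
    rw [hieq, hQ1 i hi'] at hM2
    norm_num at hM2
  rw [Set.not_subset] at hsub
  obtain ⟨x, hxM, hxn⟩ := hsub
  have hxq : ∀ q' ∈ (Ideal.span {f}).minimalPrimes, x ∉ q' := by
    intro q' hq' hx
    apply hxn
    refine Set.mem_biUnion (x := q') ?_ hx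
    simpa using hq'
  have hx0 : x ≠ 0 := by
    rintro rfl
    exact hxq q hq (zero_mem _)
  obtain ⟨Q', hQ', hQ'M⟩ := Ideal.exists_minimalPrimes_le
    ((Ideal.span_singleton_le_iff_mem M).mpr hxM)
  haveI := hQ'.1.1
  have hxQ' : x ∈ Q' := hQ'.1.2 (Ideal.mem_span_singleton_self x)
  have hQ'1 : Q'.height ≤ 1 := Ideal.height_le_one_of_isPrincipal_of_mem_minimalPrimes _ Q' hQ'
  have hQ'0 : Q' ≠ ⊥ := by
    rintro rfl
    exact hx0 (by simpa using hxQ')
  obtain ⟨q'', hq'', hq''Q'⟩ := hcontains Q' hQ'.1.1 hQ'0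
  haveI := hq''.1.1
  have : q'' = Q' := Ideal.eq_of_le_of_height_le (I := q'') (J := Q') hq''Q'
    (by rw [hQ1 q'' hq'']; exact hQ'1)
  exact hxq q'' hq'' (this ▸ hxQ')

theorem semilocal_dim_one {C : Type*} [CommRing C] [IsDomain C] [IsNoetherianRing C]
    (f : C) (hf0 : f ≠ 0) (hfu : ¬ IsUnit f)
    (hf : ∀ q : Ideal C, q.IsPrime → q ≠ ⊥ → f ∈ q) :
    Finite (MaximalSpectrum C) ∧ ringKrullDim C = 1 := by
  have key := maximal_mem_minimalPrimes f hf0 hfu hf
  constructor
  · have hQfin : (Ideal.span {f}).minimalPrimes.Finite :=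
      Ideal.finite_minimalPrimes_of_isNoetherianRing C _
    haveI : Finite ↥(Ideal.span {f}).minimalPrimes := hQfin.to_subtype
    refine Finite.of_injective
      (fun M : MaximalSpectrum C => (⟨M.asIdeal, (key M.asIdeal M.isMaximal).1⟩ :
        ↥(Ideal.span {f}).minimalPrimes)) ?_
    intro M M' h
    exact MaximalSpectrum.ext (congrArg Subtype.val h)
  · apply le_antisymm
    · rw [ringKrullDim_le_iff_isMaximal_height_le]
      intro m hm
      rw [(key m hm).2]
      rfl
    · obtain ⟨M, hM⟩ := Ideal.exists_maximal C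
      haveI := hM.isPrime
      have := Ideal.height_le_ringKrullDim_of_isPrime (I := M)
      rw [(key M hM).2] at this
      exact_mod_cast this

theorem isJacobsonRing_iff_criterion (A : Type u) [CommRing A] [IsNoetherianRing A] :
    IsJacobsonRing A ↔
      ∀ (p : Ideal A) [p.IsPrime], ¬ (Finite (MaximalSpectrum (A ⧸ p)) ∧ ringKrullDim (A ⧸ p) = 1) := by
  constructor
  · intro hJ p hp ⟨hfin, hdim⟩
    -- jacobson radical of the domain A/p is zero
    have h0 : (⊥ : Ideal (A ⧸ p)).jacobson = ⊥ :=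
      IsJacobsonRing.out inferInstance (Ideal.isRadical_bot)
    -- but it is a finite intersection of nonzero ideals
    haveI : Fintype (MaximalSpectrum (A ⧸ p)) := Fintype.ofFinite _
    have hne : ∀ M : MaximalSpectrum (A ⧸ p), M.asIdeal ≠ ⊥ := by
      intro M hM
      have hfld : IsField (A ⧸ p) := Ring.isField_iff_maximal_bot.mpr (hM ▸ M.isMaximal)
      have : ringKrullDim (A ⧸ p) = 0 := by
        letI := hfld.toField
        exact ringKrullDim_eq_zero_of_field _
      rw [this] at hdim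
      norm_num at hdim
    have hprod : (∏ M : MaximalSpectrum (A ⧸ p), M.asIdeal) ≠ ⊥ := by
      rw [Ne, ← Ideal.zero_eq_bot, Finset.prod_eq_zero_iff]
      rintro ⟨M, -, hM⟩
      exact hne M hM
    apply hprod
    rw [eq_bot_iff, ← h0]
    refine le_sInf ?_
    rintro J ⟨-, hJmax⟩
    exact Ideal.prod_le_inf.trans (Finset.inf_le (b := (⟨J, hJmax⟩ : MaximalSpectrum (A ⧸ p)))
      (Finset.mem_univ _))
  · intro h
    rw [isJacobsonRing_iff_prime_eq]
    intro P hP
    refine le_antisymm ?_ Ideal.le_jacobson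
    intro f hfJ
    by_contra hfP
    -- maximal prime containing P and avoiding f
    let S : Set (Ideal A) := {q | q.IsPrime ∧ P ≤ q ∧ f ∉ q}
    have hSne : S.Nonempty := ⟨P, hP, le_rfl, hfP⟩
    obtain ⟨p', hp'S, hp'max⟩ := WellFounded.has_min (wellFounded_gt (α := Ideal A)) S hSne
    obtain ⟨hp'prime, hPp', hfp'⟩ := hp'S
    haveI := hp'prime
    have hmk : Function.Surjective (Ideal.Quotient.mk p') := Ideal.Quotient.mk_surjective
    have hf0 : Ideal.Quotient.mk p' f ≠ 0 := by
      rwa [Ne, Ideal.Quotient.eq_zero_iff_mem]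
    have hfmem : ∀ Q : Ideal (A ⧸ p'), Q.IsPrime → Q ≠ ⊥ → Ideal.Quotient.mk p' f ∈ Q := by
      intro Q hQ hQ0
      have hq : (Q.comap (Ideal.Quotient.mk p')).IsPrime := Ideal.IsPrime.comap _
      have hle : p' ≤ Q.comap (Ideal.Quotient.mk p') := by
        intro x hx
        rw [Ideal.mem_comap, Ideal.Quotient.eq_zero_iff_mem.mpr hx]
        exact zero_mem _
      have hne : p' ≠ Q.comap (Ideal.Quotient.mk p') := by
        intro heq
        apply hQ0
        have h1 : Q.comap (Ideal.Quotient.mk p') = (⊥ : Ideal (A ⧸ p')).comap (Ideal.Quotient.mk p') := by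
          rw [← heq, ← RingHom.ker_eq_comap_bot, Ideal.mk_ker]
        exact Ideal.comap_injective_of_surjective _ hmk h1
      have hlt : p' < Q.comap (Ideal.Quotient.mk p') := lt_of_le_of_ne hle hne
      by_contra hfQ
      exact hp'max _ ⟨hq, hPp'.trans hle, fun hfq => hfQ hfq⟩ hlt
    have hfu : ¬ IsUnit (Ideal.Quotient.mk p' f) := by
      intro hu
      obtain ⟨M, hM⟩ := Ideal.exists_maximal (A ⧸ p')
      have hm : (M.comap (Ideal.Quotient.mk p')).IsMaximal :=
        Ideal.comap_isMaximal_of_surjective _ hmk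
      have hPm : P ≤ M.comap (Ideal.Quotient.mk p') := by
        intro x hx
        rw [Ideal.mem_comap, Ideal.Quotient.eq_zero_iff_mem.mpr (hPp' hx)]
        exact zero_mem _
      have hfm : f ∈ M.comap (Ideal.Quotient.mk p') := by
        rw [Ideal.jacobson, Ideal.mem_sInf] at hfJ
        exact hfJ ⟨hPm, hm⟩
      exact hM.ne_top (Ideal.eq_top_of_isUnit_mem _ hfm hu)
    exact h p' (semilocal_dim_one _ hf0 hfu hfmem)

end Groth.Agent.JacCrit
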