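import Mathlib
import Groth.Agent.Lib.Morse_helper1

set_option autoImplicit false
set_option maxHeartbeats 1000000

universe u

open MvPowerSeries Finsupp

namespace Groth.Agent.Lib.JacDegH1

open Groth.Agent.Lib.LubinTateH1 Groth.Agent.Lib.MorseH1

section General
variable {k : Type u} [Field k] {τ : Type} [Fintype τ] [DecidableEq τ]

/-- the ideal `(x₀², x_j)`. -/
noncomputable def J (k : Type u) [Field k] (τ : Type) : Ideal (MvPowerSeries (Option τ) k) :=
  Ideal.span ({X none ^ 2} ∪ Set.range fun j : τ => (X (some j) : MvPowerSeries (Option τ) k))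

/-- the maximal ideal. -/
noncomputable def M (k : Type u) [Field k] (τ : Type) : Ideal (MvPowerSeries (Option τ) k) :=
  RingHom.ker (constantCoeff (σ := Option τ) (R := k))

lemma van_X (a : Option τ) : Van 1 (X a : MvPowerSeries (Option τ) k) :=
  van_one_iff.mpr (constantCoeff_X a)

lemma X_mem_M (a : Option τ) : (X a : MvPowerSeries (Option τ) k) ∈ M k τ :=
  RingHom.mem_ker.mpr (constantCoeff_X a)

lemma van1_mem_M {g : MvPowerSeries (Option τ) k} (h : Van 1 g) : g ∈ M k τ :=
  RingHom.mem_ker.mpr (van_one_iff.mp h)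

lemma M_le_jac : M k τ ≤ Ideal.jacobson ⊥ := by
  intro x hx
  rw [Ideal.mem_jacobson_bot]
  intro y
  rw [isUnit_iff_constantCoeff]
  have : constantCoeff x = 0 := RingHom.mem_ker.mp hx
  rw [map_add, map_mul, this, zero_mul, zero_add, map_one]
  exact isUnit_one

lemma Xsq_mem_J : (X none ^ 2 : MvPowerSeries (Option τ) k) ∈ J k τ :=
  Ideal.subset_span (Or.inl rfl)

lemma Xsome_mem_J (j : τ) : (X (some j) : MvPowerSeries (Option τ) k) ∈ J k τ :=
  Ideal.subset_span (Or.inr ⟨j, rfl⟩)

lemma e_ne : (single (none : Option τ) 1 : Option τ →₀ ℕ) ≠ 0 := by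
  intro h
  have := DFunLike.congr_fun h none
  simp at this

lemma decomp (g : MvPowerSeries (Option τ) k) (h0 : constantCoeff g = 0) :
    g = X none * Q none g + ∑ j : τ, X (some j) * Q (some j) g := by
  conv_lhs => rw [← sum_X_mul_Q g h0]
  rw [Fintype.sum_option]

lemma mem_J_of_coeff {g : MvPowerSeries (Option τ) k} (h0 : coeff 0 g = 0)
    (h1 : coeff (single none 1) g = 0) : g ∈ J k τ := by
  have hc : constantCoeff g = 0 := by rw [← coeff_zero_eq_constantCoeff_apply]; exact h0
  rw [decomp g hc]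
  refine Ideal.add_mem _ ?_ (Ideal.sum_mem _ fun j _ => Ideal.mul_mem_right _ _ (Xsome_mem_J j))
  have hh : constantCoeff (Q (none : Option τ) g) = 0 := by
    rw [← coeff_zero_eq_constantCoeff_apply, coeff_Q, zero_add, h1, ite_self]
  rw [decomp (Q none g) hh, mul_add, Finset.mul_sum]
  refine Ideal.add_mem _ ?_ (Ideal.sum_mem _ fun j _ => ?_)
  · rw [← mul_assoc, ← pow_two]
    exact Ideal.mul_mem_right _ _ Xsq_mem_J
  · have : X none * (X (some j) * Q (some j) (Q none g))
        = X (some j) * (X none * Q (some j) (Q none g)) := by ring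
    rw [this]
    exact Ideal.mul_mem_right _ _ (Xsome_mem_J j)

lemma van2_mem_J {g : MvPowerSeries (Option τ) k} (h : Van 2 g) : g ∈ J k τ :=
  mem_J_of_coeff (h 0 (by simp)) (h _ (by rw [degree_single]; norm_num))

lemma coeff_of_mem_J {g : MvPowerSeries (Option τ) k} (hg : g ∈ J k τ) :
    coeff 0 g = 0 ∧ coeff (single none 1) g = 0 := by
  unfold J at hg
  induction hg using Submodule.span_induction with
  | mem x hx =>
    rcases hx with hx | ⟨j, rfl⟩
    · rw [Set.mem_singleton_iff] at hx
      subst hx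
      have hv : Van 2 (X none ^ 2 : MvPowerSeries (Option τ) k) := by
        rw [pow_two]; exact (van_X none).mul (van_X none)
      exact ⟨hv 0 (by simp), hv _ (by rw [degree_single]; norm_num)⟩
    · refine ⟨coeff_zero_X _, ?_⟩
      rw [coeff_X, if_neg]
      intro h
      have := DFunLike.congr_fun h none
      simp at this
  | zero => exact ⟨map_zero _, map_zero _⟩
  | add x y _ _ hx hy => exact ⟨by rw [map_add, hx.1, hy.1, add_zero], by rw [map_add, hx.2, hy.2, add_zero]⟩
  | smul a x _ hx =>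
    rw [smul_eq_mul]
    have hx1 : Van 1 x := van_one_iff.mpr (by rw [← coeff_zero_eq_constantCoeff_apply]; exact hx.1)
    constructor
    · rw [coeff_zero_eq_constantCoeff_apply, map_mul, ← coeff_zero_eq_constantCoeff_apply (φ := x), hx.1, mul_zero]
    · have ha : a = C (constantCoeff a) + (a - C (constantCoeff a)) := by ring
      have hva : Van 1 (a - C (constantCoeff a)) := by
        rw [van_one_iff, map_sub, constantCoeff_C, sub_self]
      rw [ha, add_mul, map_add, coeff_C_mul, hx.2, mul_zero, zero_add]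
      exact (hva.mul hx1) _ (by rw [degree_single]; norm_num)

lemma mem_J_iff {g : MvPowerSeries (Option τ) k} :
    g ∈ J k τ ↔ coeff 0 g = 0 ∧ coeff (single none 1) g = 0 :=
  ⟨coeff_of_mem_J, fun h => mem_J_of_coeff h.1 h.2⟩

lemma van3_mem_MJ {g : MvPowerSeries (Option τ) k} (h : Van 3 g) : g ∈ M k τ * J k τ := by
  have hc : constantCoeff g = 0 := van_one_iff.mp (h.mono (by norm_num))
  rw [← sum_X_mul_Q g hc]
  exact Ideal.sum_mem _ fun a _ => Ideal.mul_mem_mul (X_mem_M a) (van2_mem_J (Q_van a h))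

lemma van2_decomp {g : MvPowerSeries (Option τ) k} (h : Van 2 g) :
    g ∈ Ideal.span {(X none ^ 2 : MvPowerSeries (Option τ) k)} ⊔ M k τ * J k τ := by
  have hc : constantCoeff g = 0 := van_one_iff.mp (h.mono (by norm_num))
  rw [decomp g hc]
  refine Ideal.add_mem _ ?_ (Ideal.sum_mem _ fun j _ => ?_)
  · have hh : constantCoeff (Q (none : Option τ) g) = 0 := van_one_iff.mp (Q_van none h)
    rw [decomp (Q none g) hh, mul_add, Finset.mul_sum]
    refine Ideal.add_mem _ ?_ (Ideal.sum_mem _ fun j _ => ?_)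
    · rw [← mul_assoc, ← pow_two]
      exact Ideal.mem_sup_left (Ideal.mul_mem_right _ _ (Ideal.subset_span rfl))
    · have : X none * (X (some j) * Q (some j) (Q none g))
          = (X none * Q (some j) (Q none g)) * X (some j) := by ring
      rw [this]
      exact Ideal.mem_sup_right
        (Ideal.mul_mem_mul (Ideal.mul_mem_right _ _ (X_mem_M none)) (Xsome_mem_J j))
  · rw [mul_comm (X (some j)) _]
    exact Ideal.mem_sup_right (Ideal.mul_mem_mul (van1_mem_M (Q_van (some j) h)) (Xsome_mem_J j))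

lemma J_fg : (J k τ).FG := by
  unfold J
  refine Submodule.fg_span ?_
  exact (Set.finite_singleton _).union (Set.finite_range _)

/-- the quotient by `J` is two-dimensional. -/
lemma finrank_quot_J :
    Module.finrank k (MvPowerSeries (Option τ) k ⧸ J k τ) = 2 := by
  set φ : MvPowerSeries (Option τ) k →ₗ[k] k × k :=
    LinearMap.prod (coeff (0 : Option τ →₀ ℕ)) (coeff (single (none : Option τ) 1)) with hφ
  have hker : (J k τ).restrictScalars k = LinearMap.ker φ := by
    ext g
    rw [Submodule.restrictScalars_mem, mem_J_iff, LinearMap.mem_ker, hφ]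
    show _ ↔ ((coeff (0 : Option τ →₀ ℕ)) g, (coeff (single (none : Option τ) 1)) g) = 0
    rw [Prod.mk_eq_zero]
  have hsurj : Function.Surjective φ := by
    rintro ⟨a, b⟩
    refine ⟨C a + monomial (single none 1) b, ?_⟩
    have h1 : coeff (0 : Option τ →₀ ℕ) (C a + monomial (single none 1) b : MvPowerSeries (Option τ) k) = a := by
      rw [map_add, coeff_C, if_pos rfl, coeff_monomial, if_neg (Ne.symm e_ne), add_zero]
    have h2 : coeff (single (none : Option τ) 1) (C a + monomial (single none 1) b : MvPowerSeries (Option τ) k) = b := by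
      rw [map_add, coeff_C, if_neg e_ne, coeff_monomial, if_pos rfl, zero_add]
    rw [hφ]
    show ((coeff (0 : Option τ →₀ ℕ)) _, (coeff (single (none : Option τ) 1)) _) = (a, b)
    rw [h1, h2]
  have e1 := Submodule.Quotient.restrictScalarsEquiv k (J k τ)
  have e2 := Submodule.quotEquivOfEq _ _ hker
  have e3 := φ.quotKerEquivOfSurjective hsurj
  rw [← e1.finrank_eq, e2.finrank_eq, e3.finrank_eq, Module.finrank_prod, Module.finrank_self]

end General

section Main
variable {k : Type u} [Field k] [CharP k 2] {m : ℕ}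

/-- the quadratic part -/
noncomputable def f0 (k : Type u) [Field k] (m : ℕ) : MvPowerSeries (Option (Fin m ⊕ Fin m)) k :=
  X none ^ 2 + ∑ i : Fin m, X (some (Sum.inl i)) * X (some (Sum.inr i))

lemma van2_f0 : Van 2 (f0 k m) := by
  unfold f0
  refine Van.add ?_ (van_sum _ _ fun i _ => (van_X _).mul (van_X _))
  rw [pow_two]; exact (van_X none).mul (van_X none)

lemma two_eq_zero' : (2 : MvPowerSeries (Option (Fin m ⊕ Fin m)) k) = 0 := by
  have h2 : (2 : k) = 0 := CharTwo.two_eq_zero
  rw [← map_ofNat (C (σ := Option (Fin m ⊕ Fin m)) (R := k)) 2, h2, map_zero]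

lemma pderiv_f0_none : pderiv k none (f0 k m) = 0 := by
  unfold f0
  rw [map_add, map_sum, pderiv_pow, Nat.cast_ofNat, two_eq_zero', zero_mul, zero_mul, zero_add]
  refine Finset.sum_eq_zero fun i _ => ?_
  rw [Derivation.leibniz, pderiv_X_of_ne (by simp), pderiv_X_of_ne (by simp), smul_zero, smul_zero,
    add_zero]

lemma pderiv_f0_inl (l : Fin m) :
    pderiv k (some (Sum.inl l)) (f0 k m) = X (some (Sum.inr l)) := by
  unfold f0
  rw [map_add, map_sum, pderiv_pow, pderiv_X_of_ne (by simp), mul_zero, zero_add]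
  rw [Finset.sum_eq_single l]
  · rw [Derivation.leibniz, pderiv_X_of_ne (by simp), pderiv_X_self, smul_zero, zero_add,
      smul_eq_mul, mul_one]
  · intro b _ hb
    rw [Derivation.leibniz, pderiv_X_of_ne (by simp), pderiv_X_of_ne (by simpa using hb),
      smul_zero, smul_zero, add_zero]
  · intro h; exact absurd (Finset.mem_univ _) h

lemma pderiv_f0_inr (l : Fin m) :
    pderiv k (some (Sum.inr l)) (f0 k m) = X (some (Sum.inl l)) := by
  unfold f0
  rw [map_add, map_sum, pderiv_pow, pderiv_X_of_ne (by simp), mul_zero, zero_add]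
  rw [Finset.sum_eq_single l]
  · rw [Derivation.leibniz, pderiv_X_self, pderiv_X_of_ne (by simp), smul_zero, add_zero,
      smul_eq_mul, mul_one]
  · intro b _ hb
    rw [Derivation.leibniz, pderiv_X_of_ne (by simpa using hb), pderiv_X_of_ne (by simp),
      smul_zero, smul_zero, add_zero]
  · intro h; exact absurd (Finset.mem_univ _) h

theorem main8720 (k : Type u) [Field k] [CharP k 2] (m : ℕ)
    (f : MvPowerSeries (Option (Fin m ⊕ Fin m)) k)
    (hf : ∀ d : Option (Fin m ⊕ Fin m) →₀ ℕ, d.degree < 3 →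
      MvPowerSeries.coeff d f = MvPowerSeries.coeff d
        (MvPowerSeries.X none ^ 2 +
          ∑ i : Fin m, MvPowerSeries.X (some (Sum.inl i)) * MvPowerSeries.X (some (Sum.inr i)))) :
    Ideal.span ({f} ∪ Set.range fun i : Option (Fin m ⊕ Fin m) => MvPowerSeries.pderiv k i f) =
      Ideal.span ({MvPowerSeries.X none ^ 2} ∪
        Set.range fun j : Fin m ⊕ Fin m => (MvPowerSeries.X (some j) : MvPowerSeries (Option (Fin m ⊕ Fin m)) k)) ∧
    Module.finrank k (MvPowerSeries (Option (Fin m ⊕ Fin m)) k ⧸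
      Ideal.span ({MvPowerSeries.X none ^ 2} ∪
        Set.range fun j : Fin m ⊕ Fin m => (MvPowerSeries.X (some j) : MvPowerSeries (Option (Fin m ⊕ Fin m)) k))) = 2 := by
  refine ⟨?_, finrank_quot_J (k := k) (τ := Fin m ⊕ Fin m)⟩
  change _ = J k (Fin m ⊕ Fin m)
  have hr : Van 3 (f - f0 k m) := by
    intro d hd
    rw [map_sub, hf d hd, sub_eq_zero]; rfl
  have hfe : f = f0 k m + (f - f0 k m) := by ring
  have hpd : ∀ i, pderiv k i f = pderiv k i (f0 k m) + pderiv k i (f - f0 k m) := by
    intro i; rw [← map_add, ← hfe]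
  have hρ : ∀ i, Van 2 (pderiv k i (f - f0 k m)) := fun i => van_pderiv hr i
  set I := Ideal.span ({f} ∪ Set.range fun i : Option (Fin m ⊕ Fin m) => MvPowerSeries.pderiv k i f)
    with hI
  have hfI : f ∈ I := Ideal.subset_span (Or.inl rfl)
  have hpI : ∀ i, pderiv k i f ∈ I := fun i => Ideal.subset_span (Or.inr ⟨i, rfl⟩)
  apply le_antisymm
  · rw [hI, Ideal.span_le]
    rintro x (hx | ⟨i, rfl⟩)
    · rw [Set.mem_singleton_iff] at hx
      subst hx
      rw [hfe]
      exact Ideal.add_mem _ (van2_mem_J van2_f0) (van2_mem_J (hr.mono (by norm_num)))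
    · change pderiv k i f ∈ J k (Fin m ⊕ Fin m)
      rw [hpd i]
      refine Ideal.add_mem _ ?_ (van2_mem_J (hρ i))
      rcases i with _ | (l | l)
      · rw [pderiv_f0_none]; exact Ideal.zero_mem _
      · rw [pderiv_f0_inl]; exact Xsome_mem_J _
      · rw [pderiv_f0_inr]; exact Xsome_mem_J _
  · -- Nakayama
    have hA : (X none ^ 2 : MvPowerSeries (Option (Fin m ⊕ Fin m)) k)
        ∈ I ⊔ M k (Fin m ⊕ Fin m) * J k (Fin m ⊕ Fin m) := by
      have e : (X none ^ 2 : MvPowerSeries (Option (Fin m ⊕ Fin m)) k)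
          = f - (∑ i : Fin m, X (some (Sum.inl i)) * X (some (Sum.inr i)) + (f - f0 k m)) := by
        unfold f0; ring
      rw [e]
      refine Ideal.sub_mem _ (Ideal.mem_sup_left hfI) (Ideal.mem_sup_right ?_)
      refine Ideal.add_mem _ (Ideal.sum_mem _ fun i _ => ?_) (van3_mem_MJ hr)
      exact Ideal.mul_mem_mul (X_mem_M _) (Xsome_mem_J _)
    have hspan : Ideal.span {(X none ^ 2 : MvPowerSeries (Option (Fin m ⊕ Fin m)) k)} ⊔
        M k (Fin m ⊕ Fin m) * J k (Fin m ⊕ Fin m)
        ≤ I ⊔ M k (Fin m ⊕ Fin m) * J k (Fin m ⊕ Fin m) := by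
      refine sup_le ?_ le_sup_right
      rw [Ideal.span_le, Set.singleton_subset_iff]
      exact hA
    have hB : ∀ j : Fin m ⊕ Fin m, (X (some j) : MvPowerSeries (Option (Fin m ⊕ Fin m)) k)
        ∈ I ⊔ M k (Fin m ⊕ Fin m) * J k (Fin m ⊕ Fin m) := by
      intro j
      rcases j with l | l
      · have e : (X (some (Sum.inl l)) : MvPowerSeries (Option (Fin m ⊕ Fin m)) k)
            = pderiv k (some (Sum.inr l)) f - pderiv k (some (Sum.inr l)) (f - f0 k m) := by
          rw [hpd, pderiv_f0_inr]; ring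
        rw [e]
        exact Ideal.sub_mem _ (Ideal.mem_sup_left (hpI _)) (hspan (van2_decomp (hρ _)))
      · have e : (X (some (Sum.inr l)) : MvPowerSeries (Option (Fin m ⊕ Fin m)) k)
            = pderiv k (some (Sum.inl l)) f - pderiv k (some (Sum.inl l)) (f - f0 k m) := by
          rw [hpd, pderiv_f0_inl]; ring
        rw [e]
        exact Ideal.sub_mem _ (Ideal.mem_sup_left (hpI _)) (hspan (van2_decomp (hρ _)))
    refine Submodule.le_of_le_smul_of_le_jacobson_bot (I := M k (Fin m ⊕ Fin m)) J_fg M_le_jac ?_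
    rw [smul_eq_mul]
    unfold J
    rw [Ideal.span_le]
    rintro x (hx | ⟨j, rfl⟩)
    · rw [Set.mem_singleton_iff] at hx
      subst hx
      exact hA
    · exact hB j

end Main

end Groth.Agent.Lib.JacDegH1
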