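import Mathlib

open MvPolynomial

namespace Groth.Agent.Lib.JacDet

universe u w

theorem det_zero_of_colsum {R : Type*} [CommRing R] {m : ℕ} (hm : 0 < m)
    (N : Matrix (Fin m) (Fin m) R) (hcol : ∀ j, ∑ i, N i j = 0) : N.det = 0 := by
  have h1 := Matrix.det_updateRow_sum N ⟨0, hm⟩ (fun _ => (1:R))
  simp only [one_smul] at h1
  rw [← h1]
  apply Matrix.det_eq_zero_of_row_eq_zero ⟨0, hm⟩
  intro j
  rw [Matrix.updateRow_self, Finset.sum_apply]
  exact hcol j

theorem monoCase (p : ℕ) [Fact p.Prime] (R : Type u) [CommRing R] [CharP R p]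
    {m : ℕ} (hm : 0 < m) (σ : Type w) (a : Fin m → (Fin m ⊕ σ →₀ ℕ)) :
    coeff (Finsupp.sumElim (Finsupp.equivFunOnFinite.symm fun _ : Fin m => p - 1) (0 : σ →₀ ℕ))
      (Matrix.of fun i j : Fin m => pderiv (Sum.inl j) (monomial (a i) (1:R))).det = 0 := by
  classical
  have hp2 : 2 ≤ p := (Fact.out : p.Prime).two_le
  have hμj : ∀ j : Fin m, (Finsupp.sumElim (Finsupp.equivFunOnFinite.symm fun _ : Fin m => p - 1)
      (0 : σ →₀ ℕ)) (Sum.inl j) = p - 1 := by
    intro j; simp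
  generalize (Finsupp.sumElim (Finsupp.equivFunOnFinite.symm fun _ : Fin m => p - 1)
      (0 : σ →₀ ℕ)) = μ at hμj ⊢
  obtain ⟨NR, hNR⟩ : ∃ NR : Matrix (Fin m) (Fin m) R,
      ∀ i j, NR i j = ((a i (Sum.inl j) : ℕ) : R) :=
    ⟨Matrix.of fun i j => ((a i (Sum.inl j) : ℕ) : R), fun i j => rfl⟩
  obtain ⟨E, hE⟩ : ∃ E : (Fin m ⊕ σ) →₀ ℕ, E = ∑ i : Fin m, Finsupp.single (Sum.inl i) 1 :=
    ⟨_, rfl⟩
  obtain ⟨S, hS⟩ : ∃ S : (Fin m ⊕ σ) →₀ ℕ, S = ∑ i : Fin m, a i := ⟨_, rfl⟩
  have hentry : ∀ i j, pderiv (Sum.inl j) (monomial (a i) (1:R)) =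
      monomial (a i - Finsupp.single (Sum.inl j) 1) (NR i j) := by
    intro i j
    rw [pderiv_monomial, one_mul, hNR]
  rw [Matrix.det_apply]
  simp only [Matrix.of_apply, hentry]
  rw [coeff_sum]
  have hterm : ∀ π : Equiv.Perm (Fin m),
      coeff μ (Equiv.Perm.sign π •
        ∏ i, monomial (a (π i) - Finsupp.single (Sum.inl i) 1) (NR (π i) i))
        = if S - E = μ then Equiv.Perm.sign π • ∏ i, NR (π i) i else 0 := by
    intro π
    rw [← monomial_sum_prod, Units.smul_def, coeff_smul, coeff_monomial]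
    by_cases hpos : ∀ i, 1 ≤ a (π i) (Sum.inl i)
    · have hs : ∑ i, (a (π i) - Finsupp.single (Sum.inl i) 1) = S - E := by
        apply eq_tsub_of_add_eq
        rw [hE, ← Finset.sum_add_distrib, hS, ← Equiv.sum_comp π a]
        refine Finset.sum_congr rfl fun i _ => ?_
        apply tsub_add_cancel_of_le
        rw [Finsupp.single_le_iff]
        exact hpos i
      rw [hs]
      split_ifs <;> simp [Units.smul_def]
    · push_neg at hpos
      obtain ⟨i, hi⟩ := hpos
      have hz : ∏ i, NR (π i) i = 0 := by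
        apply Finset.prod_eq_zero (Finset.mem_univ i)
        rw [hNR, Nat.lt_one_iff.mp hi, Nat.cast_zero]
      rw [hz]
      simp
  rw [Finset.sum_congr rfl (fun π _ => hterm π)]
  by_cases hμS : S - E = μ
  · simp only [if_pos hμS]
    rw [← Matrix.det_apply]
    apply det_zero_of_colsum hm
    intro j
    have hj := congrArg (fun s => s (Sum.inl j)) hμS
    simp only [Finsupp.tsub_apply, hμj] at hj
    have hEj : E (Sum.inl j) = 1 := by
      rw [hE, Finsupp.finset_sum_apply]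
      simp [Finsupp.single_apply]
    have hSj : S (Sum.inl j) = ∑ i, a i (Sum.inl j) := by
      rw [hS, Finsupp.finset_sum_apply]
    rw [hEj, hSj] at hj
    have hsum : ∑ i, a i (Sum.inl j) = p := by omega
    simp only [hNR]
    rw [← Nat.cast_sum, hsum, CharP.cast_eq_zero]
  · simp only [if_neg hμS, Finset.sum_const_zero]

theorem main (p : ℕ) [Fact p.Prime] (R : Type u) [CommRing R] [CharP R p]
    {m : ℕ} (hm : 0 < m) (σ : Type w) (f : Fin m → MvPolynomial (Fin m ⊕ σ) R) :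
    coeff (Finsupp.sumElim (Finsupp.equivFunOnFinite.symm fun _ : Fin m => p - 1) (0 : σ →₀ ℕ))
        (Matrix.of fun i j : Fin m => pderiv (Sum.inl j) (f i)).det = 0 := by
  classical
  let L : MvPolynomial (Fin m ⊕ σ) R →ₗ[R] (Fin m → MvPolynomial (Fin m ⊕ σ) R) :=
    LinearMap.pi (fun j => (pderiv (Sum.inl j) : Derivation R _ _).toLinearMap)
  let D : MultilinearMap R (fun _ : Fin m => Fin m → MvPolynomial (Fin m ⊕ σ) R)
      (MvPolynomial (Fin m ⊕ σ) R) :=
    (Matrix.detRowAlternating (R := MvPolynomial (Fin m ⊕ σ) R)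
      (n := Fin m)).toMultilinearMap.restrictScalars R
  let Φ : MultilinearMap R (fun _ : Fin m => MvPolynomial (Fin m ⊕ σ) R) R :=
    (lcoeff (R := R) (Finsupp.sumElim (Finsupp.equivFunOnFinite.symm fun _ : Fin m => p - 1)
      (0 : σ →₀ ℕ))).compMultilinearMap (D.compLinearMap (fun _ => L))
  have hΦ : Φ = 0 := by
    apply Module.Basis.ext_multilinear (fun _ => basisMonomials (Fin m ⊕ σ) R)
    intro v
    exact monoCase p R hm σ v
  have h := congrArg
    (fun Ψ : MultilinearMap R (fun _ : Fin m => MvPolynomial (Fin m ⊕ σ) R) R => Ψ f) hΦ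
  exact h

end Groth.Agent.Lib.JacDet
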