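import Mathlib
import Groth.Prelude.Def_RegImm
import Groth.Prelude.Def_LCI2
import Groth.Agent.Lib.RelGCI6_helper2
import Groth.Agent.Lib.KRegIdeal_helper2
import Groth.Agent.Lib.KoszulTop_helper7

/-!
# The Noether different of a quasi-finite global complete intersection (helper6), part 1:
relative global complete intersection from quasi-finiteness, regularity of the variables.
-/

set_option autoImplicit false
universe u
open scoped TensorProduct

namespace Groth.Agent.Lib.JacDiff

theorem isRelGCI_of_quasiFinite {A : Type u} [CommRing A] {n : ℕ}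
    (f : Fin n → MvPolynomial (Fin n) A)
    [Algebra.QuasiFinite A (MvPolynomial (Fin n) A ⧸ Ideal.span (Set.range f))] :
    Synt.IsRelGCI A n n f := by
  intro p hp
  refine ⟨le_rfl, ?_⟩
  have h1 : IsArtinianRing (p.asIdeal.Fiber (Synt.RelGCIRing A n n f)) :=
    inferInstanceAs (IsArtinianRing (p.asIdeal.Fiber (MvPolynomial (Fin n) A ⧸ Ideal.span (Set.range f))))
  have h2 : @IsArtinianRing (p.asIdeal.Fiber (Synt.RelGCIRing A n n f))
    CommRing.toCommSemiring.toSemiring := h1
  haveI := (isArtinianRing_iff_isNoetherianRing_krullDimLE_zero.mp h2).2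
  have h0 : ringKrullDim (p.asIdeal.Fiber (Synt.RelGCIRing A n n f)) = 0 :=
    ringKrullDimZero_iff_ringKrullDim_eq_zero.mp inferInstance
  rw [h0]
  simp

section vars
variable (B : Type u) [CommRing B] (n : ℕ)

theorem mem_take_ofFn_X (i : ℕ) (x : MvPolynomial (Fin n) B) :
    x ∈ (List.ofFn (fun j : Fin n => (MvPolynomial.X j : MvPolynomial (Fin n) B))).take i ↔
      ∃ k : Fin n, k.val < i ∧ MvPolynomial.X k = x := by
  rw [List.mem_take_iff_getElem]
  constructor
  · rintro ⟨k, hk, rfl⟩
    have hk' : k < n := by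
      have := (lt_min_iff.mp hk).2
      simpa using this
    refine ⟨⟨k, hk'⟩, (lt_min_iff.mp hk).1, ?_⟩
    simp
  · rintro ⟨k, hki, rfl⟩
    refine ⟨k.val, lt_min_iff.mpr ⟨hki, by simp⟩, ?_⟩
    simp

theorem ofList_take_ofFn_X (i : ℕ) :
    Ideal.ofList ((List.ofFn (fun j : Fin n => (MvPolynomial.X j : MvPolynomial (Fin n) B))).take i) =
      Ideal.span (MvPolynomial.X '' {k : Fin n | k.val < i}) := by
  unfold Ideal.ofList
  congr 1
  ext x
  simp only [Set.mem_setOf_eq, Set.mem_image]
  exact mem_take_ofFn_X B n i x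

theorem isWeaklyRegular_X :
    RingTheory.Sequence.IsWeaklyRegular (MvPolynomial (Fin n) B)
      (List.ofFn (fun j : Fin n => (MvPolynomial.X j : MvPolynomial (Fin n) B))) := by
  rw [RingTheory.Sequence.isWeaklyRegular_iff_Fin]
  intro i
  have hin : i.val < n := by
    have := i.isLt
    simpa using this
  have hget : (List.ofFn (fun j : Fin n => (MvPolynomial.X j : MvPolynomial (Fin n) B)))[i] =
      MvPolynomial.X ⟨i.val, hin⟩ := by
    rw [Fin.getElem_fin]
    simp only [List.getElem_ofFn]
  rw [hget]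
  intro a b hab
  induction a using Submodule.Quotient.induction_on with | _ a =>
  induction b using Submodule.Quotient.induction_on with | _ b =>
  simp only [← Submodule.Quotient.mk_smul] at hab
  rw [Submodule.Quotient.eq] at hab ⊢
  rw [smul_eq_mul, Ideal.mul_top] at hab ⊢
  rw [ofList_take_ofFn_X] at hab ⊢
  rw [smul_eq_mul, smul_eq_mul, ← mul_sub] at hab
  rw [MvPolynomial.mem_ideal_span_X_image] at hab ⊢
  intro m hm
  have hm' : m + Finsupp.single (⟨i.val, hin⟩ : Fin n) 1 ∈
      (MvPolynomial.X (⟨i.val, hin⟩ : Fin n) * (a - b)).support := by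
    rw [MvPolynomial.support_X_mul, Finset.mem_map]
    exact ⟨m, hm, by simp [add_comm]⟩
  obtain ⟨k, hk, hk0⟩ := hab _ hm'
  refine ⟨k, hk, ?_⟩
  have hne : (⟨i.val, hin⟩ : Fin n) ≠ k := by
    intro h
    have : k.val < i.val := hk
    rw [← h] at this
    exact lt_irrefl _ this
  rwa [Finsupp.add_apply, Finsupp.single_eq_of_ne hne.symm, add_zero] at hk0

theorem kreg_X :
    LCI.IsKoszulRegularSeq (MvPolynomial (Fin n) B)
      (List.ofFn (fun j : Fin n => (MvPolynomial.X j : MvPolynomial (Fin n) B))) :=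
  (Groth.Agent.Lib.KoszulTopH7.koszulRegular _ (isWeaklyRegular_X B n)).1

end vars

end Groth.Agent.Lib.JacDiff
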