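import Mathlib
import Groth.Agent.Lib.JacDiff1_helper6

/-!
# The Noether different of a quasi-finite global complete intersection (helper6), part 2:
the generators `x_j ⊗ 1 - 1 ⊗ b_j` of the kernel of `A[x] ⊗ B → B`: Koszul-regularity, kernel.
-/

set_option autoImplicit false
universe u
open scoped TensorProduct

namespace Groth.Agent.Lib.JacDiff

section transl
variable {B : Type u} [CommRing B] {n : ℕ} (b : Fin n → B)

/-- the translation automorphism `x_j ↦ x_j + b_j` of `B[x]` -/
noncomputable def transl : MvPolynomial (Fin n) B ≃ₐ[B] MvPolynomial (Fin n) B :=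
  AlgEquiv.ofAlgHom (MvPolynomial.aeval (fun j => MvPolynomial.X j + MvPolynomial.C (b j)))
    (MvPolynomial.aeval (fun j => MvPolynomial.X j - MvPolynomial.C (b j)))
    (by ext j; simp) (by ext j; simp)

@[simp] lemma transl_X (j : Fin n) :
    transl b (MvPolynomial.X j) = MvPolynomial.X j + MvPolynomial.C (b j) := by
  simp [transl]

@[simp] lemma transl_C (c : B) :
    transl b (MvPolynomial.C c) = MvPolynomial.C c := by
  simp [transl]

end transl

section gens
variable {A B : Type u} [CommRing A] [CommRing B] [Algebra A B] {n : ℕ} (b : Fin n → B)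

/-- the elements `x_j ⊗ 1 - 1 ⊗ b_j` of `A[x] ⊗ B` -/
noncomputable def gdiag (j : Fin n) : MvPolynomial (Fin n) A ⊗[A] B :=
  MvPolynomial.X j ⊗ₜ[A] (1 : B) - (1 : MvPolynomial (Fin n) A) ⊗ₜ[A] b j

/-- the ring isomorphism `A[x] ⊗ B ≃ B[x]`, sending `x_j ⊗ 1 - 1 ⊗ b_j` to `x_j` -/
noncomputable def psiEquiv : (MvPolynomial (Fin n) A ⊗[A] B) ≃+* MvPolynomial (Fin n) B :=
  ((Algebra.TensorProduct.comm A (MvPolynomial (Fin n) A) B).toRingEquiv.trans
    (MvPolynomial.algebraTensorAlgEquiv A B).toRingEquiv).trans (transl b).toRingEquiv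

lemma psiEquiv_gdiag (j : Fin n) : psiEquiv (A := A) b (gdiag b j) = MvPolynomial.X j := by
  simp [psiEquiv, gdiag, MvPolynomial.smul_eq_C_mul]

theorem kreg_gdiag :
    LCI.IsKoszulRegularSeq (MvPolynomial (Fin n) A ⊗[A] B) (List.ofFn (gdiag (A := A) b)) := by
  have h := Groth.Agent.Lib.KRegIdeal.kreg_map_equiv (psiEquiv (A := A) b).symm _ (kreg_X B n)
  have e : (List.ofFn (fun j : Fin n => (MvPolynomial.X j : MvPolynomial (Fin n) B))).map
      (psiEquiv (A := A) b).symm = List.ofFn (gdiag (A := A) b) := by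
    rw [List.map_ofFn]
    congr 1
    funext j
    show (psiEquiv (A := A) b).symm (MvPolynomial.X j) = gdiag b j
    rw [RingEquiv.symm_apply_eq, psiEquiv_gdiag]
  rw [e] at h
  exact h

end gens

end Groth.Agent.Lib.JacDiff
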