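import Mathlib
import Groth.Agent.Lib.JacDiff2_helper6

/-!
# The Noether different of a quasi-finite global complete intersection (helper6), part 3:
the kernel of `A[x] ⊗ B → B` and the partial derivative operators.
-/

set_option autoImplicit false
universe u
open scoped TensorProduct

namespace Groth.Agent.Lib.JacDiff

section ker
variable {A B : Type u} [CommRing A] [CommRing B] [Algebra A B] {n : ℕ}
  (φ : MvPolynomial (Fin n) A →ₐ[A] B)

/-- the multiplication map `A[x] ⊗ B → B` -/
noncomputable abbrev muMap : (MvPolynomial (Fin n) A ⊗[A] B) →ₐ[A] B :=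
  Algebra.TensorProduct.productMap φ (AlgHom.id A B)

lemma muMap_gdiag (j : Fin n) :
    muMap φ (gdiag (A := A) (fun j => φ (MvPolynomial.X j)) j) = 0 := by
  simp [gdiag, muMap]

lemma tmul_one_sub_mem (p : MvPolynomial (Fin n) A) :
    p ⊗ₜ[A] (1 : B) - (1 : MvPolynomial (Fin n) A) ⊗ₜ[A] φ p ∈
      Ideal.span (Set.range (gdiag (A := A) (fun j => φ (MvPolynomial.X j)))) := by
  induction p using MvPolynomial.induction_on with
  | C a =>
    have : (MvPolynomial.C a : MvPolynomial (Fin n) A) ⊗ₜ[A] (1 : B) -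
        (1 : MvPolynomial (Fin n) A) ⊗ₜ[A] φ (MvPolynomial.C a) = 0 := by
      rw [← MvPolynomial.algebraMap_eq, AlgHom.commutes, Algebra.algebraMap_eq_smul_one,
        Algebra.algebraMap_eq_smul_one, TensorProduct.smul_tmul, sub_self]
    rw [this]
    exact Ideal.zero_mem _
  | add p q hp hq =>
    have : (p + q) ⊗ₜ[A] (1 : B) - (1 : MvPolynomial (Fin n) A) ⊗ₜ[A] φ (p + q) =
        (p ⊗ₜ[A] (1 : B) - (1 : MvPolynomial (Fin n) A) ⊗ₜ[A] φ p) +
        (q ⊗ₜ[A] (1 : B) - (1 : MvPolynomial (Fin n) A) ⊗ₜ[A] φ q) := by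
      rw [map_add, TensorProduct.add_tmul, TensorProduct.tmul_add]
      abel
    rw [this]
    exact Ideal.add_mem _ hp hq
  | mul_X p j hp =>
    have : (p * MvPolynomial.X j) ⊗ₜ[A] (1 : B) -
        (1 : MvPolynomial (Fin n) A) ⊗ₜ[A] φ (p * MvPolynomial.X j) =
        (p ⊗ₜ[A] (1 : B) - (1 : MvPolynomial (Fin n) A) ⊗ₜ[A] φ p) *
          (MvPolynomial.X j ⊗ₜ[A] (1 : B)) +
        ((1 : MvPolynomial (Fin n) A) ⊗ₜ[A] φ p) *
          gdiag (A := A) (fun j => φ (MvPolynomial.X j)) j := by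
      simp only [gdiag, map_mul, sub_mul, mul_sub, Algebra.TensorProduct.tmul_mul_tmul,
        mul_one, one_mul]
      abel
    rw [this]
    exact Ideal.add_mem _ (Ideal.mul_mem_right _ _ hp)
      (Ideal.mul_mem_left _ _ (Ideal.subset_span ⟨j, rfl⟩))

lemma sub_muMap_mem (x : MvPolynomial (Fin n) A ⊗[A] B) :
    x - (1 : MvPolynomial (Fin n) A) ⊗ₜ[A] muMap φ x ∈
      Ideal.span (Set.range (gdiag (A := A) (fun j => φ (MvPolynomial.X j)))) := by
  induction x using TensorProduct.induction_on with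
  | zero =>
    rw [map_zero, TensorProduct.tmul_zero, sub_zero]
    exact Ideal.zero_mem _
  | add x y hx hy =>
    have : x + y - (1 : MvPolynomial (Fin n) A) ⊗ₜ[A] muMap φ (x + y) =
        (x - (1 : MvPolynomial (Fin n) A) ⊗ₜ[A] muMap φ x) +
        (y - (1 : MvPolynomial (Fin n) A) ⊗ₜ[A] muMap φ y) := by
      rw [map_add, TensorProduct.tmul_add]
      abel
    rw [this]
    exact Ideal.add_mem _ hx hy
  | tmul p c =>
    have : p ⊗ₜ[A] c - (1 : MvPolynomial (Fin n) A) ⊗ₜ[A] muMap φ (p ⊗ₜ[A] c) =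
        (p ⊗ₜ[A] (1 : B) - (1 : MvPolynomial (Fin n) A) ⊗ₜ[A] φ p) *
          ((1 : MvPolynomial (Fin n) A) ⊗ₜ[A] c) := by
      simp only [muMap, Algebra.TensorProduct.productMap_apply_tmul, AlgHom.coe_id, id_eq,
        sub_mul, Algebra.TensorProduct.tmul_mul_tmul, mul_one, one_mul]
    rw [this]
    exact Ideal.mul_mem_right _ _ (tmul_one_sub_mem φ p)

theorem span_gdiag_eq_ker :
    Ideal.span (Set.range (gdiag (A := A) (fun j => φ (MvPolynomial.X j)))) =
      RingHom.ker (muMap φ) := by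
  apply le_antisymm
  · rw [Ideal.span_le]
    rintro _ ⟨j, rfl⟩
    exact muMap_gdiag φ j
  · intro x hx
    have h := sub_muMap_mem φ x
    rw [RingHom.mem_ker] at hx
    rwa [hx, TensorProduct.tmul_zero, sub_zero] at h

end ker

section deriv
variable {A B : Type u} [CommRing A] [CommRing B] [Algebra A B] {n : ℕ}
  (φ : MvPolynomial (Fin n) A →ₐ[A] B)

/-- the operator `p ⊗ b ↦ φ (∂_k p) * b` -/
noncomputable def dMap (k : Fin n) : (MvPolynomial (Fin n) A ⊗[A] B) →ₗ[A] B :=
  TensorProduct.lift ((LinearMap.mul A B).comp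
    (φ.toLinearMap.comp (MvPolynomial.pderiv k).toLinearMap))

@[simp] lemma dMap_tmul (k : Fin n) (p : MvPolynomial (Fin n) A) (c : B) :
    dMap φ k (p ⊗ₜ[A] c) = φ (MvPolynomial.pderiv k p) * c := by
  simp [dMap]

lemma dMap_mul_gdiag (k j : Fin n) (x : MvPolynomial (Fin n) A ⊗[A] B) :
    dMap φ k (x * gdiag (A := A) (fun j => φ (MvPolynomial.X j)) j) =
      if j = k then muMap φ x else 0 := by
  induction x using TensorProduct.induction_on with
  | zero => simp
  | add x y hx hy =>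
    rw [add_mul, map_add, hx, hy, map_add]
    split_ifs <;> simp
  | tmul p c =>
    simp only [gdiag, mul_sub, Algebra.TensorProduct.tmul_mul_tmul, mul_one, map_sub,
      dMap_tmul, Derivation.leibniz, smul_eq_mul, map_add, map_mul, MvPolynomial.pderiv_X,
      muMap, Algebra.TensorProduct.productMap_apply_tmul, AlgHom.coe_id, id_eq]
    by_cases h : j = k
    · subst h
      simp only [Pi.single_eq_same, map_one, mul_one, if_true]
      ring
    · rw [if_neg h, Pi.single_eq_of_ne h, map_zero, mul_zero, zero_add]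
      ring

end deriv

end Groth.Agent.Lib.JacDiff
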