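import Mathlib
import Groth.Prelude.Def_Koszul

/-!
# Tate's formula for the annihilator of the diagonal (helper6), part 1:
elementwise calculus in mapping cones of complexes of modules.
-/

set_option autoImplicit false
set_option linter.style.haveILetI false
set_option linter.unusedSectionVars false
set_option linter.unusedVariables false
universe u
open CategoryTheory CochainComplex HomComplex

namespace Groth.Agent.Lib.KosTate

section ConeCalc

variable {A : Type u} [CommRing A] {F G : CochainComplex (ModuleCat.{u} A) ℤ} (φ : F ⟶ G)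

/-- first component of an element of the mapping cone -/
noncomputable def cfst (p q : ℤ) (h : p + 1 = q) : (mappingCone φ).X p →ₗ[A] F.X q :=
  ((mappingCone.fst φ).1.v p q h).hom

/-- second component of an element of the mapping cone -/
noncomputable def csnd (p : ℤ) : (mappingCone φ).X p →ₗ[A] G.X p :=
  ((mappingCone.snd φ).v p p (add_zero p)).hom

/-- left inclusion -/
noncomputable def cinl (p q : ℤ) (h : p + 1 = q) : F.X q →ₗ[A] (mappingCone φ).X p :=
  ((mappingCone.inl φ).v q p (by omega)).hom

/-- right inclusion -/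
noncomputable def cinr (p : ℤ) : G.X p →ₗ[A] (mappingCone φ).X p :=
  ((mappingCone.inr φ).f p).hom

@[simp] lemma cfst_cinl (p q : ℤ) (h : p + 1 = q) (x : F.X q) :
    cfst φ p q h (cinl φ p q h x) = x := by
  have := mappingCone.inl_v_fst_v φ q p h
  exact congrArg (fun f => f.hom x) this

@[simp] lemma csnd_cinl (p q : ℤ) (h : p + 1 = q) (x : F.X q) :
    csnd φ p (cinl φ p q h x) = 0 := by
  have := mappingCone.inl_v_snd_v φ q p (by omega)
  exact congrArg (fun f => f.hom x) this

@[simp] lemma cfst_cinr (p q : ℤ) (h : p + 1 = q) (y : G.X p) :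
    cfst φ p q h (cinr φ p y) = 0 := by
  have := mappingCone.inr_f_fst_v φ p q h
  exact congrArg (fun f => f.hom y) this

@[simp] lemma csnd_cinr (p : ℤ) (y : G.X p) :
    csnd φ p (cinr φ p y) = y := by
  have := mappingCone.inr_f_snd_v φ p
  exact congrArg (fun f => f.hom y) this

lemma cone_decomp (p q : ℤ) (h : p + 1 = q) (w : (mappingCone φ).X p) :
    cinl φ p q h (cfst φ p q h w) + cinr φ p (csnd φ p w) = w := by
  have := mappingCone.id_X φ p q h
  exact congrArg (fun f => f.hom w) this

lemma cone_ext (p q : ℤ) (h : p + 1 = q) {w w' : (mappingCone φ).X p}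
    (h1 : cfst φ p q h w = cfst φ p q h w') (h2 : csnd φ p w = csnd φ p w') : w = w' := by
  rw [← cone_decomp φ p q h w, ← cone_decomp φ p q h w', h1, h2]

lemma cfst_d (p q r : ℤ) (h : p + 1 = q) (h' : q + 1 = r) (w : (mappingCone φ).X p) :
    cfst φ q r h' (((mappingCone φ).d p q).hom w) = -(F.d q r).hom (cfst φ p q h w) := by
  have := mappingCone.d_fst_v φ p q r h h'
  exact congrArg (fun f => f.hom w) this

lemma csnd_d (p q : ℤ) (h : p + 1 = q) (w : (mappingCone φ).X p) :
    csnd φ q (((mappingCone φ).d p q).hom w) =
      (φ.f q).hom (cfst φ p q h w) + (G.d p q).hom (csnd φ p w) := by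
  have := mappingCone.d_snd_v φ p q h
  exact congrArg (fun f => f.hom w) this

end ConeCalc

end Groth.Agent.Lib.KosTate
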