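import Mathlib
import Groth.Prelude.Def_Koszul
import Groth.Agent.Lib.KosTate1_helper6

/-!
# Tate's formula for the annihilator of the diagonal (helper6), part 2:
the contraction-type operators on the mapping cone model of the Koszul complex.
-/

set_option autoImplicit false
set_option linter.style.haveILetI false
set_option linter.unusedSectionVars false
set_option linter.unusedVariables false
universe u
open CategoryTheory CochainComplex HomComplex

namespace Groth.Agent.Lib.KosTate

section Kos

variable (A : Type u) [CommRing A]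

/-- the pairing of a coefficient vector with a list -/
def pair : (l : List A) → (Fin l.length → A) → A
  | [], _ => 0
  | a :: l, v => v 0 * a + pair l (fun i => v i.succ)

/-- the generator in degree `0` -/
noncomputable def one : (l : List A) → (Koszul.koszul A l).X 0
  | [] => (HomologicalComplex.singleObjXSelf (ComplexShape.up ℤ) 0 (ModuleCat.of A A)).inv.hom
      (1 : A)
  | a :: l => cinr (a • 𝟙 (Koszul.koszul A l)) 0 (one l)

/-- the operators `τ(v)` of degree `-1` -/
noncomputable def tau : (l : List A) → (v : Fin l.length → A) → (p q : ℤ) → (h : q + 1 = p) →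
    ((Koszul.koszul A l).X p →ₗ[A] (Koszul.koszul A l).X q)
  | [], _, _, _, _ => 0
  | a :: l, v, p, q, h =>
      (cinl (a • 𝟙 (Koszul.koszul A l)) q p h).comp
        (v 0 • csnd (a • 𝟙 (Koszul.koszul A l)) p -
          (tau l (fun i => v i.succ) (p + 1) p rfl).comp
            (cfst (a • 𝟙 (Koszul.koszul A l)) p (p + 1) rfl))
      + (cinr (a • 𝟙 (Koszul.koszul A l)) q).comp
          ((tau l (fun i => v i.succ) p q h).comp (csnd (a • 𝟙 (Koszul.koszul A l)) p))

end Kos

section Rel

variable {A : Type u} [CommRing A]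

lemma smul_id_f_apply (K : CochainComplex (ModuleCat.{u} A) ℤ) (a : A) (q : ℤ) (x : K.X q) :
    ((a • 𝟙 K : K ⟶ K).f q).hom x = a • x := by
  simp

lemma tau_cons_apply (a : A) (l : List A) (v : Fin (l.length + 1) → A) (p q : ℤ) (h : q + 1 = p)
    (w : (mappingCone (a • 𝟙 (Koszul.koszul A l))).X p) :
    tau A (a :: l) v p q h w =
      cinl (a • 𝟙 (Koszul.koszul A l)) q p h
        (v 0 • csnd (a • 𝟙 (Koszul.koszul A l)) p w -
          tau A l (fun i => v i.succ) (p + 1) p rfl
            (cfst (a • 𝟙 (Koszul.koszul A l)) p (p + 1) rfl w)) +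
      cinr (a • 𝟙 (Koszul.koszul A l)) q
        (tau A l (fun i => v i.succ) p q h (csnd (a • 𝟙 (Koszul.koszul A l)) p w)) := rfl

lemma cfst_tau_cons (a : A) (l : List A) (v : Fin (l.length + 1) → A) (p q : ℤ) (h : q + 1 = p)
    (w : (mappingCone (a • 𝟙 (Koszul.koszul A l))).X p) :
    cfst (a • 𝟙 (Koszul.koszul A l)) q p h (tau A (a :: l) v p q h w) =
      v 0 • csnd (a • 𝟙 (Koszul.koszul A l)) p w -
        tau A l (fun i => v i.succ) (p + 1) p rfl
          (cfst (a • 𝟙 (Koszul.koszul A l)) p (p + 1) rfl w) := by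
  rw [tau_cons_apply]
  simp

lemma csnd_tau_cons (a : A) (l : List A) (v : Fin (l.length + 1) → A) (p q : ℤ) (h : q + 1 = p)
    (w : (mappingCone (a • 𝟙 (Koszul.koszul A l))).X p) :
    csnd (a • 𝟙 (Koszul.koszul A l)) q (tau A (a :: l) v p q h w) =
      tau A l (fun i => v i.succ) p q h (csnd (a • 𝟙 (Koszul.koszul A l)) p w) := by
  rw [tau_cons_apply]
  simp

theorem d_tau : ∀ (l : List A) (v : Fin l.length → A) (p q r : ℤ) (h1 : q + 1 = p)
    (h2 : p + 1 = r) (x : (Koszul.koszul A l).X p),
    ((Koszul.koszul A l).d q p).hom (tau A l v p q h1 x) +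
      tau A l v r p h2 (((Koszul.koszul A l).d p r).hom x) = pair A l v • x
  | [], v, p, q, r, h1, h2, x => by simp [tau, pair]
  | a :: l, v, p, q, r, h1, h2, x => by
    subst h1
    subst h2
    change (mappingCone (a • 𝟙 (Koszul.koszul A l))).X (q + 1) at x
    show ((mappingCone (a • 𝟙 (Koszul.koszul A l))).d q (q + 1)).hom
        (tau A (a :: l) v (q + 1) q rfl x) +
      (show (mappingCone (a • 𝟙 (Koszul.koszul A l))).X (q + 1) from
        tau A (a :: l) v (q + 1 + 1) (q + 1) rfl
        (((mappingCone (a • 𝟙 (Koszul.koszul A l))).d (q + 1) (q + 1 + 1)).hom x)) =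
      pair A (a :: l) v • x
    have IH1 := d_tau l (fun i => v i.succ) (q + 1 + 1) (q + 1) (q + 1 + 1 + 1) rfl rfl
      (cfst (a • 𝟙 (Koszul.koszul A l)) (q + 1) (q + 1 + 1) rfl x)
    have IH2 := d_tau l (fun i => v i.succ) (q + 1) q (q + 1 + 1) rfl rfl
      (csnd (a • 𝟙 (Koszul.koszul A l)) (q + 1) x)
    refine cone_ext (a • 𝟙 (Koszul.koszul A l)) (q + 1) (q + 1 + 1) rfl ?_ ?_
    · rw [map_add, cfst_d _ q (q + 1) (q + 1 + 1) rfl rfl, cfst_tau_cons, cfst_tau_cons,
        csnd_d _ (q + 1) (q + 1 + 1) rfl, cfst_d _ (q + 1) (q + 1 + 1) (q + 1 + 1 + 1) rfl rfl,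
        map_smul, smul_id_f_apply, map_neg, map_sub, map_smul, pair, add_smul, ← IH1]
      simp only [smul_add, smul_smul, mul_comm]
      abel
    · rw [map_add, csnd_d _ q (q + 1) rfl, cfst_tau_cons, csnd_tau_cons, csnd_tau_cons,
        csnd_d _ (q + 1) (q + 1 + 1) rfl, map_smul, smul_id_f_apply, smul_id_f_apply, map_add,
        map_smul, pair, add_smul, ← IH2]
      simp only [smul_add, smul_sub, smul_smul, mul_comm]
      abel


theorem tau_tau : ∀ (l : List A) (v : Fin l.length → A) (p q r : ℤ) (h1 : q + 1 = p)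
    (h2 : r + 1 = q) (x : (Koszul.koszul A l).X p),
    tau A l v q r h2 (tau A l v p q h1 x) = 0
  | [], v, p, q, r, h1, h2, x => by simp [tau]
  | a :: l, v, p, q, r, h1, h2, x => by
    subst h1
    subst h2
    change (mappingCone (a • 𝟙 (Koszul.koszul A l))).X (r + 1 + 1) at x
    show tau A (a :: l) v (r + 1) r rfl (tau A (a :: l) v (r + 1 + 1) (r + 1) rfl x) =
      (0 : (mappingCone (a • 𝟙 (Koszul.koszul A l))).X r)
    refine cone_ext (a • 𝟙 (Koszul.koszul A l)) r (r + 1) rfl ?_ ?_
    · rw [cfst_tau_cons, csnd_tau_cons, cfst_tau_cons, map_zero, map_sub, map_smul,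
        tau_tau l _ _ _ _ rfl rfl, sub_zero, sub_self]
    · rw [csnd_tau_cons, csnd_tau_cons, tau_tau l, map_zero]


end Rel

section Lin
variable {A : Type u} [CommRing A]

theorem tau_add : ∀ (l : List A) (v w : Fin l.length → A) (p q : ℤ) (h : q + 1 = p)
    (x : (Koszul.koszul A l).X p),
    tau A l (v + w) p q h x = tau A l v p q h x + tau A l w p q h x
  | [], v, w, p, q, h, x => by simp [tau]
  | a :: l, v, w, p, q, h, x => by
    change (mappingCone (a • 𝟙 (Koszul.koszul A l))).X p at x
    have e : (fun i : Fin l.length => (v + w) i.succ) =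
        (fun i => v i.succ) + (fun i => w i.succ) := rfl
    show (tau A (a :: l) (v + w) p q h x : (mappingCone (a • 𝟙 (Koszul.koszul A l))).X q) =
      (show (mappingCone (a • 𝟙 (Koszul.koszul A l))).X q from tau A (a :: l) v p q h x) +
      (show (mappingCone (a • 𝟙 (Koszul.koszul A l))).X q from tau A (a :: l) w p q h x)
    refine cone_ext (a • 𝟙 (Koszul.koszul A l)) q p h ?_ ?_
    · rw [map_add, cfst_tau_cons, cfst_tau_cons, cfst_tau_cons, e, tau_add l, Pi.add_apply,
        add_smul]
      abel
    · rw [map_add, csnd_tau_cons, csnd_tau_cons, csnd_tau_cons, e, tau_add l]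

theorem tau_smul : ∀ (l : List A) (c : A) (v : Fin l.length → A) (p q : ℤ) (h : q + 1 = p)
    (x : (Koszul.koszul A l).X p),
    tau A l (c • v) p q h x = c • tau A l v p q h x
  | [], c, v, p, q, h, x => by simp [tau]
  | a :: l, c, v, p, q, h, x => by
    change (mappingCone (a • 𝟙 (Koszul.koszul A l))).X p at x
    have e : (fun i : Fin l.length => (c • v) i.succ) = c • (fun i => v i.succ) := rfl
    show (tau A (a :: l) (c • v) p q h x : (mappingCone (a • 𝟙 (Koszul.koszul A l))).X q) =
      c • (show (mappingCone (a • 𝟙 (Koszul.koszul A l))).X q from tau A (a :: l) v p q h x)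
    refine cone_ext (a • 𝟙 (Koszul.koszul A l)) q p h ?_ ?_
    · rw [map_smul, cfst_tau_cons, cfst_tau_cons, e, tau_smul l, Pi.smul_apply, smul_sub,
        smul_smul, smul_eq_mul]
    · rw [map_smul, csnd_tau_cons, csnd_tau_cons, e, tau_smul l]

theorem tau_zero (l : List A) (p q : ℤ) (h : q + 1 = p) (x : (Koszul.koszul A l).X p) :
    tau A l 0 p q h x = 0 := by
  have := tau_smul l (0 : A) 0 p q h x
  rwa [zero_smul, zero_smul] at this

end Lin

section Tot
variable (A : Type u) [CommRing A]

/-- the total module of the Koszul complex -/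
abbrev T (l : List A) : Type u := ∀ k : ℤ, (Koszul.koszul A l).X k

/-- the generator in degree `0`, in the total module -/
noncomputable def oneT (l : List A) : T A l := Pi.single 0 (one A l)

/-- the operators `τ(v)` on the total module -/
noncomputable def tauT (l : List A) (v : Fin l.length → A) : T A l →ₗ[A] T A l :=
  LinearMap.pi (fun q => (tau A l v (q + 1) q rfl).comp (LinearMap.proj (q + 1)))

variable {A}

lemma tauT_apply (l : List A) (v : Fin l.length → A) (t : T A l) (q : ℤ) :
    tauT A l v t q = tau A l v (q + 1) q rfl (t (q + 1)) := rfl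

lemma tauT_tauT (l : List A) (v : Fin l.length → A) (t : T A l) :
    tauT A l v (tauT A l v t) = 0 := by
  funext q
  rw [tauT_apply, tauT_apply, tau_tau]
  rfl

variable (A) in
/-- `τ` as a linear map into the endomorphisms of the total module -/
noncomputable def tauL (l : List A) : (Fin l.length → A) →ₗ[A] Module.End A (T A l) where
  toFun v := tauT A l v
  map_add' v w := by
    refine LinearMap.ext fun t => funext fun q => ?_
    rw [tauT_apply, tau_add]
    rfl
  map_smul' c v := by
    refine LinearMap.ext fun t => funext fun q => ?_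
    rw [tauT_apply, tau_smul]
    rfl

lemma tauL_apply (l : List A) (v : Fin l.length → A) : tauL A l v = tauT A l v := rfl

lemma tauL_sq (l : List A) (v : Fin l.length → A) : tauL A l v * tauL A l v = 0 := by
  refine LinearMap.ext fun t => ?_
  rw [Module.End.mul_apply, tauL_apply, tauT_tauT]
  rfl

variable (A) in
/-- the top form -/
noncomputable def omegaT (l : List A) : T A l :=
  (List.ofFn fun i : Fin l.length => tauT A l (Pi.single i 1)).prod (oneT A l)

end Tot


section Omega
variable {A : Type u} [CommRing A]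

/-- the right inclusion on total modules -/
noncomputable def cinrT (a : A) (l : List A) : T A l →ₗ[A] T A (a :: l) :=
  LinearMap.pi (fun k => (cinr (a • 𝟙 (Koszul.koszul A l)) k).comp (LinearMap.proj k))

lemma cinrT_apply (a : A) (l : List A) (t : T A l) (k : ℤ) :
    cinrT a l t k = cinr (a • 𝟙 (Koszul.koszul A l)) k (t k) := rfl

lemma oneT_cons (a : A) (l : List A) : oneT A (a :: l) = cinrT a l (oneT A l) := by
  funext k
  rw [cinrT_apply]
  by_cases hk : k = 0
  · subst hk
    simp only [oneT, Pi.single_eq_same]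
    rfl
  · simp only [oneT, Pi.single_eq_of_ne hk, map_zero]
    rfl

lemma tauT_cinrT (a : A) (l : List A) (v : Fin (l.length + 1) → A) (t : T A l) (q : ℤ) :
    tauT A (a :: l) v (cinrT a l t) q =
      cinl (a • 𝟙 (Koszul.koszul A l)) q (q + 1) rfl (v 0 • t (q + 1)) +
        cinr (a • 𝟙 (Koszul.koszul A l)) q (tauT A l (fun i => v i.succ) t q) := by
  rw [tauT_apply, cinrT_apply, tau_cons_apply, cfst_cinr, csnd_cinr, map_zero, sub_zero,
    tauT_apply]

lemma tauT_cinrT_of_zero (a : A) (l : List A) (v : Fin (l.length + 1) → A) (hv : v 0 = 0)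
    (t : T A l) :
    tauT A (a :: l) v (cinrT a l t) = cinrT a l (tauT A l (fun i => v i.succ) t) := by
  funext q
  rw [tauT_cinrT, hv, zero_smul, map_zero, zero_add, cinrT_apply]

lemma prod_cinrT (a : A) (l : List A) :
    ∀ (vs : List (Fin (l.length + 1) → A)), (∀ v ∈ vs, v 0 = 0) → ∀ t : T A l,
    (vs.map (fun v => tauT A (a :: l) v)).prod (cinrT a l t) =
      cinrT a l ((vs.map (fun v => tauT A l (fun i => v i.succ))).prod t)
  | [], _, t => by simp
  | v :: vs, h, t => by
    rw [List.map_cons, List.prod_cons, List.map_cons, List.prod_cons, Module.End.mul_apply,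
      Module.End.mul_apply, prod_cinrT a l vs (fun w hw => h w (List.mem_cons_of_mem _ hw)) t,
      tauT_cinrT_of_zero a l v (h v List.mem_cons_self)]

theorem omegaT_cons (a : A) (l : List A) (m : ℤ) :
    omegaT A (a :: l) m =
      cinl (a • 𝟙 (Koszul.koszul A l)) m (m + 1) rfl (omegaT A l (m + 1)) := by
  have h1 : (List.ofFn fun i : Fin (a :: l).length => tauT A (a :: l) (Pi.single i 1)) =
      tauT A (a :: l) (Pi.single 0 1) ::
        (List.ofFn fun i : Fin l.length =>
          (Pi.single i.succ 1 : Fin (l.length + 1) → A)).map (fun v => tauT A (a :: l) v) := by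
    rw [List.map_ofFn]
    exact List.ofFn_succ
  have h2 : ((List.ofFn fun i : Fin l.length =>
      (Pi.single i.succ 1 : Fin (l.length + 1) → A)).map
        (fun v => tauT A l (fun i => v i.succ))) =
      List.ofFn fun i : Fin l.length => tauT A l (Pi.single i 1) := by
    rw [List.map_ofFn]
    congr 1
    funext i
    show tauT A l (fun j => (Pi.single i.succ 1 : Fin (l.length + 1) → A) j.succ) = _
    congr 1
    funext j
    simp only [Pi.single_apply, Fin.succ_inj]
  unfold omegaT
  rw [h1, List.prod_cons, Module.End.mul_apply, oneT_cons,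
    prod_cinrT a l _ (fun v hv => by
      rw [List.mem_ofFn] at hv
      obtain ⟨i, rfl⟩ := hv
      exact Pi.single_eq_of_ne (Fin.succ_ne_zero i).symm 1) (oneT A l), h2, tauT_cinrT]
  have h3 : (fun i : Fin l.length => (Pi.single 0 1 : Fin (l.length + 1) → A) i.succ) = 0 := by
    funext i
    exact Pi.single_eq_of_ne (Fin.succ_ne_zero i) 1
  rw [h3]
  have h4 : tauT A l 0 = 0 := by
    refine LinearMap.ext fun t => funext fun q => ?_
    rw [tauT_apply, tau_zero]
    rfl
  rw [h4, LinearMap.zero_apply, Pi.zero_apply, map_zero, add_zero, Pi.single_eq_same, one_smul]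

end Omega


end Groth.Agent.Lib.KosTate
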