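import Mathlib
import Groth.Agent.Lib.KosTate2_helper6
import Groth.Agent.Lib.DMod62_helper6

/-!
# Tate's formula for the annihilator of the diagonal (helper6), part 3:
generators of the extreme terms of the Koszul complex, and the image of the last differential.
-/

set_option autoImplicit false
set_option linter.style.haveILetI false
set_option linter.unusedSectionVars false
set_option linter.unusedVariables false
universe u
open CategoryTheory CategoryTheory.Limits CochainComplex HomComplex

namespace Groth.Agent.Lib.KosTate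

open Groth.Agent.Lib.DMod_helper6 DRing

section Gen

variable {A : Type u} [CommRing A]

lemma isZero_X (l : List A) (i : ℤ) (h : i + l.length < 0 ∨ 0 < i) :
    IsZero ((Koszul.koszul A l).X i) :=
  (koszul_props A l).1 i (by rcases h with h | h; exacts [Or.inl (by omega), Or.inr h])

lemma subsingleton_X (l : List A) (i : ℤ) (h : i + l.length < 0 ∨ 0 < i) :
    Subsingleton ((Koszul.koszul A l).X i) :=
  ModuleCat.subsingleton_of_isZero (isZero_X l i h)

lemma cinr_bijective (a : A) (l : List A) (p q : ℤ) (h : p + 1 = q)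
    (hz : Subsingleton ((Koszul.koszul A l).X q)) :
    Function.Bijective (cinr (a • 𝟙 (Koszul.koszul A l)) p) := by
  constructor
  · intro y y' hy
    have := congrArg (csnd (a • 𝟙 (Koszul.koszul A l)) p) hy
    rwa [csnd_cinr, csnd_cinr] at this
  · intro w
    refine ⟨csnd (a • 𝟙 (Koszul.koszul A l)) p w, ?_⟩
    refine cone_ext (a • 𝟙 (Koszul.koszul A l)) p q h (Subsingleton.elim _ _) ?_
    rw [csnd_cinr]

lemma cinl_bijective (a : A) (l : List A) (p q : ℤ) (h : p + 1 = q)
    (hz : Subsingleton ((Koszul.koszul A l).X p)) :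
    Function.Bijective (cinl (a • 𝟙 (Koszul.koszul A l)) p q h) := by
  constructor
  · intro y y' hy
    have := congrArg (cfst (a • 𝟙 (Koszul.koszul A l)) p q h) hy
    rwa [cfst_cinl, cfst_cinl] at this
  · intro w
    refine ⟨cfst (a • 𝟙 (Koszul.koszul A l)) p q h w, ?_⟩
    refine cone_ext (a • 𝟙 (Koszul.koszul A l)) p q h ?_ (Subsingleton.elim _ _)
    rw [cfst_cinl]

theorem one_bijective : ∀ l : List A, Function.Bijective (fun r : A => r • one A l)
  | [] => by
    let e := (HomologicalComplex.singleObjXSelf (ComplexShape.up ℤ) 0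
      (ModuleCat.of A A)).symm.toLinearEquiv
    have h : (fun r : A => r • one A []) = fun r : A => e r := by
      funext r
      show r • e (1 : A) = e r
      rw [← map_smul, smul_eq_mul, mul_one]
    rw [h]
    exact e.bijective
  | a :: l => by
    have h : (fun r : A => r • one A (a :: l)) =
        (cinr (a • 𝟙 (Koszul.koszul A l)) 0) ∘ (fun r : A => r • one A l) := by
      funext r
      show r • cinr (a • 𝟙 (Koszul.koszul A l)) 0 (one A l) = _
      rw [← map_smul]
      rfl
    rw [h]
    exact (cinr_bijective a l 0 1 rfl (subsingleton_X l 1 (Or.inr one_pos))).comp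
      (one_bijective l)

theorem omegaT_bijective : ∀ (l : List A) (m : ℤ), m + l.length = 0 →
    Function.Bijective (fun r : A => r • omegaT A l m)
  | [], m, hm => by
    have hm0 : m = 0 := by simpa using hm
    subst hm0
    have : omegaT A [] 0 = one A [] := by
      simp [omegaT, oneT]
    rw [this]
    exact one_bijective []
  | a :: l, m, hm => by
    have hm' : m + 1 + l.length = 0 := by
      rw [List.length_cons] at hm
      push_cast at hm
      omega
    have h : (fun r : A => r • omegaT A (a :: l) m) =
        (cinl (a • 𝟙 (Koszul.koszul A l)) m (m + 1) rfl) ∘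
          (fun r : A => r • omegaT A l (m + 1)) := by
      funext r
      rw [omegaT_cons]
      exact (map_smul (cinl (a • 𝟙 (Koszul.koszul A l)) m (m + 1) rfl) r
        (omegaT A l (m + 1))).symm
    rw [h]
    exact (cinl_bijective a l m (m + 1) rfl (subsingleton_X l m (Or.inl (by omega)))).comp
      (omegaT_bijective l (m + 1) hm')

end Gen

section Range
variable {A : Type u} [CommRing A]

lemma exists_pair : ∀ (l : List A) (r : A), r ∈ Ideal.ofList l →
    ∃ v : Fin l.length → A, pair A l v = r
  | [], r, hr => by
    rw [Ideal.ofList_nil, Ideal.mem_bot] at hr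
    exact ⟨fun _ => 0, by rw [hr]; rfl⟩
  | a :: l, r, hr => by
    rw [Ideal.ofList_cons, Submodule.mem_sup] at hr
    obtain ⟨x, hx, y, hy, rfl⟩ := hr
    obtain ⟨c, rfl⟩ := Ideal.mem_span_singleton'.1 hx
    obtain ⟨v', hv'⟩ := exists_pair l y hy
    refine ⟨Fin.cons c v', ?_⟩
    show (Fin.cons c v' : Fin (l.length + 1) → A) 0 * a +
      pair A l (fun i => (Fin.cons c v' : Fin (l.length + 1) → A) i.succ) = _
    simp only [Fin.cons_zero, Fin.cons_succ]
    rw [hv']

lemma pair_mem : ∀ (l : List A) (v : Fin l.length → A), pair A l v ∈ Ideal.ofList l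
  | [], v => by
    rw [Ideal.ofList_nil]
    exact Ideal.zero_mem _
  | a :: l, v => by
    rw [Ideal.ofList_cons]
    exact Submodule.add_mem_sup (Ideal.mem_span_singleton'.2 ⟨v 0, rfl⟩)
      (pair_mem l _)

/-- every multiple of `one` by an element of the ideal is a boundary -/
theorem exists_d_eq (l : List A) (r : A) (hr : r ∈ Ideal.ofList l) :
    ∃ y : (Koszul.koszul A l).X (-1), ((Koszul.koszul A l).d (-1) 0).hom y = r • one A l := by
  obtain ⟨v, rfl⟩ := exists_pair l r hr
  refine ⟨tau A l v 0 (-1) (by norm_num) (one A l), ?_⟩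
  have h := d_tau l v 0 (-1) 1 (by norm_num) (by norm_num) (one A l)
  haveI := subsingleton_X l 1 (Or.inr one_pos)
  rw [Subsingleton.elim (((Koszul.koszul A l).d 0 1).hom (one A l)) 0, map_zero, add_zero] at h
  exact h

/-- every boundary in degree `0` is a multiple of `one` by an element of the ideal -/
theorem d_mem : ∀ (l : List A) (y : (Koszul.koszul A l).X (-1)),
    ∃ r ∈ Ideal.ofList l, ((Koszul.koszul A l).d (-1) 0).hom y = r • one A l
  | [], y => by
    haveI := subsingleton_X ([] : List A) (-1) (Or.inl (by simp))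
    refine ⟨0, Ideal.zero_mem _, ?_⟩
    rw [Subsingleton.elim y 0, map_zero, zero_smul]
  | a :: l, y => by
    change (mappingCone (a • 𝟙 (Koszul.koszul A l))).X (-1) at y
    obtain ⟨s, hs⟩ := (one_bijective l).2 (cfst (a • 𝟙 (Koszul.koszul A l)) (-1) 0 (by norm_num) y)
    obtain ⟨r', hr', hd⟩ := d_mem l (csnd (a • 𝟙 (Koszul.koszul A l)) (-1) y)
    refine ⟨s * a + r', ?_, ?_⟩
    · rw [Ideal.ofList_cons]
      exact Submodule.add_mem_sup (Ideal.mem_span_singleton'.2 ⟨s, rfl⟩) hr'
    · show ((mappingCone (a • 𝟙 (Koszul.koszul A l))).d (-1) 0).hom y =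
        (s * a + r') • cinr (a • 𝟙 (Koszul.koszul A l)) 0 (one A l)
      haveI := subsingleton_X l 1 (Or.inr one_pos)
      refine cone_ext (a • 𝟙 (Koszul.koszul A l)) 0 1 rfl (Subsingleton.elim _ _) ?_
      rw [csnd_d _ (-1) 0 (by norm_num), map_smul, csnd_cinr, smul_id_f_apply, hd, ← hs, add_smul,
        smul_smul, mul_comm]

end Range


section Det
variable {A : Type u} [CommRing A]

/-- the algebra map from the exterior algebra to the endomorphisms of the total module -/
noncomputable def extLift (l : List A) :
    ExteriorAlgebra A (Fin l.length → A) →ₐ[A] Module.End A (T A l) :=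
  ExteriorAlgebra.lift A ⟨tauL A l, fun v => tauL_sq l v⟩

lemma extLift_ι (l : List A) (v : Fin l.length → A) :
    extLift l (ExteriorAlgebra.ι A v) = tauT A l v :=
  ExteriorAlgebra.lift_ι_apply _ _ _ _

/-- evaluation at `one` in degree `m` -/
noncomputable def evalLin (l : List A) (m : ℤ) :
    ExteriorAlgebra A (Fin l.length → A) →ₗ[A] (Koszul.koszul A l).X m :=
  (LinearMap.proj m).comp ((LinearMap.applyₗ (oneT A l)).comp (extLift l).toLinearMap)

lemma evalLin_apply (l : List A) (m : ℤ) (x : ExteriorAlgebra A (Fin l.length → A)) :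
    evalLin l m x = (extLift l x) (oneT A l) m := rfl

/-- the alternating map `v ↦ τ(v₁) ⋯ τ(v_k) (1)` in degree `m` -/
noncomputable def psi (l : List A) (k : ℕ) (m : ℤ) :
    (Fin l.length → A) [⋀^Fin k]→ₗ[A] (Koszul.koszul A l).X m :=
  (evalLin l m).compAlternatingMap (ExteriorAlgebra.ιMulti A k)

lemma psi_apply (l : List A) (k : ℕ) (m : ℤ) (v : Fin k → (Fin l.length → A)) :
    psi l k m v = ((List.ofFn fun i => tauT A l (v i)).prod (oneT A l)) m := by
  show evalLin l m (ExteriorAlgebra.ιMulti A k v) = _
  rw [evalLin_apply, ExteriorAlgebra.ιMulti_apply, map_list_prod, List.map_ofFn]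
  have h : ((extLift l : ExteriorAlgebra A (Fin l.length → A) → Module.End A (T A l)) ∘
      fun i => (ExteriorAlgebra.ι A) (v i)) = fun i => tauT A l (v i) := by
    funext i
    exact extLift_ι l (v i)
  rw [h]

theorem psi_eq_det (l : List A) (m : ℤ) (v : Fin l.length → (Fin l.length → A)) :
    psi l l.length m v = Matrix.det (Matrix.of v) • omegaT A l m := by
  have key : psi l l.length m =
      (LinearMap.toSpanSingleton A _ (omegaT A l m)).compAlternatingMap
        (Matrix.detRowAlternating : (Fin l.length → A) [⋀^Fin l.length]→ₗ[A] A) := by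
    refine Module.Basis.ext_alternating (Pi.basisFun A (Fin l.length)) (fun w hw => ?_)
    have hbij : Function.Bijective w := Finite.injective_iff_bijective.1 hw
    let σ : Equiv.Perm (Fin l.length) := Equiv.ofBijective w hbij
    have hσ : (fun i => Pi.basisFun A (Fin l.length) (w i)) =
        (fun i => Pi.basisFun A (Fin l.length) i) ∘ σ := rfl
    rw [hσ, AlternatingMap.map_perm, AlternatingMap.map_perm]
    congr 1
    rw [psi_apply]
    have h0 : (List.ofFn fun i => tauT A l ((Pi.basisFun A (Fin l.length)) i)).prod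
        (oneT A l) m = omegaT A l m := by
      simp only [Pi.basisFun_apply]
      rfl
    rw [h0]
    show omegaT A l m = Matrix.det (Matrix.of fun i => Pi.basisFun A (Fin l.length) i) • _
    have h1 : (Matrix.of fun i => Pi.basisFun A (Fin l.length) i) =
        (1 : Matrix (Fin l.length) (Fin l.length) A) := by
      ext i j
      simp [Matrix.one_apply, Pi.single_apply, eq_comm]
    rw [h1, Matrix.det_one, one_smul]
  rw [key]
  rfl

end Det


end Groth.Agent.Lib.KosTate
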