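import Mathlib
import Groth.Agent.Lib.KosTate3_helper6

/-!
# Tate's formula for the annihilator of the diagonal (helper6), part 4:
the comparison map between Koszul complexes attached to a matrix of coefficients.
-/

set_option autoImplicit false
set_option linter.style.haveILetI false
set_option linter.unusedSectionVars false
set_option linter.unusedVariables false
universe u
open CategoryTheory CategoryTheory.Limits CochainComplex HomComplex

namespace Groth.Agent.Lib.KosTate

section QMap
variable {P R : Type u} [CommRing P] [CommRing R] [Algebra P R] (lg : List R)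

/-- restriction of scalars of the Koszul complex -/
noncomputable abbrev Nres : CochainComplex (ModuleCat.{u} P) ℤ :=
  ((ModuleCat.restrictScalars (algebraMap P R)).mapHomologicalComplex
    (ComplexShape.up ℤ)).obj (Koszul.koszul R lg)

/-- the `P`-linear map `P → X`, `p ↦ p • x`, for an `R`-module `X` -/
noncomputable def spanMap (X : ModuleCat.{u} R) (x : X) :
    ModuleCat.of P P ⟶ (ModuleCat.restrictScalars (algebraMap P R)).obj X :=
  ModuleCat.ofHom (Y := (ModuleCat.restrictScalars (algebraMap P R)).obj X)
    { toFun := fun p => (algebraMap P R p • x : X)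
      map_add' := fun p p' => by
        show algebraMap P R (p + p') • x = algebraMap P R p • x + algebraMap P R p' • x
        rw [map_add, add_smul]
      map_smul' := fun p p' => by
        show algebraMap P R (p • p') • x = algebraMap P R p • (algebraMap P R p' • x)
        rw [smul_eq_mul, map_mul, mul_smul] }

lemma spanMap_apply (X : ModuleCat.{u} R) (x : X) (p : P) :
    (spanMap (P := P) X x).hom p = (algebraMap P R p • x : X) := rfl

/-- the base map -/
noncomputable def qbase : Koszul.koszul P [] ⟶ Nres (P := P) lg :=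
  HomologicalComplex.mkHomFromSingle (c := ComplexShape.up ℤ) (j := 0)
    (spanMap (P := P) ((Koszul.koszul R lg).X 0) (one R lg))
    (fun k hk => by
      have hk1 : k = 1 := by simpa using hk.symm
      subst hk1
      apply IsZero.eq_of_tgt
      exact (ModuleCat.restrictScalars (algebraMap P R)).map_isZero
        (isZero_X lg 1 (Or.inr one_pos)))

lemma qbase_one : ((qbase (P := P) lg).f 0).hom (one P []) = one R lg := by
  unfold qbase
  rw [HomologicalComplex.mkHomFromSingle_f]
  show (spanMap (P := P) ((Koszul.koszul R lg).X 0) (one R lg)).hom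
    ((HomologicalComplex.singleObjXSelf (ComplexShape.up ℤ) 0 (ModuleCat.of P P)).hom.hom
      ((HomologicalComplex.singleObjXSelf (ComplexShape.up ℤ) 0 (ModuleCat.of P P)).inv.hom
        (1 : P))) = _
  have h2 : (HomologicalComplex.singleObjXSelf (ComplexShape.up ℤ) 0 (ModuleCat.of P P)).hom.hom
      ((HomologicalComplex.singleObjXSelf (ComplexShape.up ℤ) 0 (ModuleCat.of P P)).inv.hom
        (1 : P)) = 1 := by
    have := (HomologicalComplex.singleObjXSelf (ComplexShape.up ℤ) 0
      (ModuleCat.of P P)).inv_hom_id
    exact congrArg (fun f => f.hom (1 : P)) this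
  rw [h2, spanMap_apply, map_one, one_smul]

/-- the operators as cochains of the restricted complex -/
noncomputable def hN (v : Fin lg.length → R) : Cochain (Nres (P := P) lg) (Nres (P := P) lg) (-1) :=
  Cochain.mk (fun p q hpq => (ModuleCat.restrictScalars (algebraMap P R)).map
    (ModuleCat.ofHom (tau R lg v p q (by omega))))

lemma hN_v_apply (v : Fin lg.length → R) (p q : ℤ) (hpq : p + (-1) = q)
    (x : (Koszul.koszul R lg).X p) :
    ((hN (P := P) lg v).v p q hpq).hom x = tau R lg v p q (by omega) x := rfl

lemma δ_hN (v : Fin lg.length → R) (a : P) (h : pair R lg v = algebraMap P R a) :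
    δ (-1) 0 (hN (P := P) lg v) = a • Cochain.ofHom (𝟙 (Nres (P := P) lg)) := by
  refine Cochain.ext₀ _ _ (fun p => ?_)
  rw [δ_v (-1) 0 (by norm_num) _ p p (add_zero p) (p - 1) (p + 1) rfl rfl]
  refine ModuleCat.hom_ext (LinearMap.ext fun x => ?_)
  have key := d_tau lg v p (p - 1) (p + 1) (by omega) rfl x
  rw [h] at key
  simp only [Int.negOnePow_zero, one_smul, Cochain.smul_v, Cochain.ofHom_v,
    HomologicalComplex.id_f]
  exact key


/-- the comparison map of Koszul complexes -/
noncomputable def qmap : (lp : List P) → (H : Fin lp.length → (Fin lg.length → R)) →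
    (hH : ∀ i, pair R lg (H i) = algebraMap P R (lp.get i)) →
    (Koszul.koszul P lp ⟶ Nres (P := P) lg)
  | [], _, _ => qbase lg
  | a :: l, H, hH =>
    mappingCone.desc (a • 𝟙 (Koszul.koszul P l))
      ((Cochain.ofHom (qmap l (fun i => H i.succ) (fun i => hH i.succ))).comp
        (hN lg (H 0)) (zero_add (-1)))
      (qmap l (fun i => H i.succ) (fun i => hH i.succ))
      (by
        rw [δ_ofHom_comp, δ_hN lg (H 0) a (hH 0)]
        refine Cochain.ext₀ _ _ (fun p => ?_)
        simp)


lemma qmap_cons_cinr (a : P) (l : List P) (H : Fin (l.length + 1) → (Fin lg.length → R))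
    (hH : ∀ i, pair R lg (H i) = algebraMap P R ((a :: l).get i)) (p : ℤ)
    (y : (Koszul.koszul P l).X p) :
    ((qmap lg (a :: l) H hH).f p).hom (cinr (a • 𝟙 (Koszul.koszul P l)) p y) =
      ((qmap lg l (fun i => H i.succ) (fun i => hH i.succ)).f p).hom y := by
  have := mappingCone.inr_f_desc_f (a • 𝟙 (Koszul.koszul P l))
    ((Cochain.ofHom (qmap lg l (fun i => H i.succ) (fun i => hH i.succ))).comp
        (hN lg (H 0)) (zero_add (-1)))
    (qmap lg l (fun i => H i.succ) (fun i => hH i.succ))
    (by
        rw [δ_ofHom_comp, δ_hN lg (H 0) a (hH 0)]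
        refine Cochain.ext₀ _ _ (fun p => ?_)
        simp) p
  exact congrArg (fun f => f.hom y) this

lemma qmap_cons_cinl (a : P) (l : List P) (H : Fin (l.length + 1) → (Fin lg.length → R))
    (hH : ∀ i, pair R lg (H i) = algebraMap P R ((a :: l).get i)) (p q : ℤ) (h : p + 1 = q)
    (x : (Koszul.koszul P l).X q) :
    ((qmap lg (a :: l) H hH).f p).hom (cinl (a • 𝟙 (Koszul.koszul P l)) p q h x) =
      tau R lg (H 0) q p h
        (((qmap lg l (fun i => H i.succ) (fun i => hH i.succ)).f q).hom x) := by
  have := mappingCone.inl_v_desc_f (a • 𝟙 (Koszul.koszul P l))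
    ((Cochain.ofHom (qmap lg l (fun i => H i.succ) (fun i => hH i.succ))).comp
        (hN lg (H 0)) (zero_add (-1)))
    (qmap lg l (fun i => H i.succ) (fun i => hH i.succ))
    (by
        rw [δ_ofHom_comp, δ_hN lg (H 0) a (hH 0)]
        refine Cochain.ext₀ _ _ (fun p => ?_)
        simp) q p (by omega)
  have h2 := congrArg (fun f => f.hom x) this
  refine h2.trans ?_
  rw [Cochain.zero_cochain_comp_v, Cochain.ofHom_v]
  rfl

theorem qmap_one : ∀ (lp : List P) (H : Fin lp.length → (Fin lg.length → R))
    (hH : ∀ i, pair R lg (H i) = algebraMap P R (lp.get i)),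
    ((qmap lg lp H hH).f 0).hom (one P lp) = one R lg
  | [], _, _ => qbase_one lg
  | a :: l, H, hH => by
    show ((qmap lg (a :: l) H hH).f 0).hom (cinr (a • 𝟙 (Koszul.koszul P l)) 0 (one P l)) = _
    rw [qmap_cons_cinr]
    exact qmap_one l _ _

theorem qmap_omegaT : ∀ (lp : List P) (H : Fin lp.length → (Fin lg.length → R))
    (hH : ∀ i, pair R lg (H i) = algebraMap P R (lp.get i)) (m : ℤ),
    ((qmap lg lp H hH).f m).hom (omegaT P lp m) =
      ((List.ofFn fun i => tauT R lg (H i)).prod (oneT R lg)) m
  | [], H, hH, m => by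
    have h1 : omegaT P ([] : List P) = oneT P [] := by simp [omegaT]
    have h2 : (List.ofFn fun i : Fin ([] : List P).length => tauT R lg (H i)).prod = 1 := by
      simp
    rw [h1, h2, Module.End.one_apply]
    by_cases hm : m = 0
    · subst hm
      simp only [oneT, Pi.single_eq_same]
      exact qbase_one lg
    · simp only [oneT, Pi.single_eq_of_ne hm, map_zero]
      rfl
  | a :: l, H, hH, m => by
    rw [omegaT_cons, qmap_cons_cinl, qmap_omegaT l _ _ (m + 1), List.ofFn_succ, List.prod_cons,
      Module.End.mul_apply, tauT_apply]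

end QMap

end Groth.Agent.Lib.KosTate
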