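import Mathlib
import Groth.Agent.Lib.KosTate4_helper6

/-!
# Tate's formula for the annihilator of the diagonal (helper6), part 5:
the differential of the top form, and acyclicity of the cone of the comparison map.
-/

set_option autoImplicit false
set_option linter.style.haveILetI false
set_option linter.unusedSectionVars false
set_option linter.unusedVariables false
universe u
open CategoryTheory CategoryTheory.Limits CochainComplex HomComplex

namespace Groth.Agent.Lib.KosTate

section DT
variable {A : Type u} [CommRing A]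

lemma pair_eq_sum : ∀ (l : List A) (v : Fin l.length → A), pair A l v = ∑ i, v i * l.get i
  | [], v => by simp [pair]
  | a :: l, v => by
    rw [pair, pair_eq_sum l]
    exact (Fin.sum_univ_succ (fun i : Fin (l.length + 1) => v i * (a :: l).get i)).symm

lemma pair_single (l : List A) (i : Fin l.length) : pair A l (Pi.single i 1) = l.get i := by
  rw [pair_eq_sum, Finset.sum_eq_single i]
  · rw [Pi.single_eq_same, one_mul]
  · intro j _ hj
    rw [Pi.single_eq_of_ne hj, zero_mul]
  · intro h
    exact absurd (Finset.mem_univ i) h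

/-- the differential on the total module -/
noncomputable def dT (l : List A) : T A l →ₗ[A] T A l :=
  LinearMap.pi (fun k => ((Koszul.koszul A l).d (k - 1) k).hom.comp (LinearMap.proj (k - 1)))

lemma dT_apply (l : List A) (t : T A l) (j k : ℤ) (h : j + 1 = k) :
    dT l t k = ((Koszul.koszul A l).d j k).hom (t j) := by
  obtain rfl : j = k - 1 := by omega
  rfl

lemma tauT_apply' (l : List A) (v : Fin l.length → A) (t : T A l) (p q : ℤ) (h : q + 1 = p) :
    tauT A l v t q = tau A l v p q h (t p) := by
  subst h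
  rfl

lemma dT_tauT (l : List A) (v : Fin l.length → A) (t : T A l) :
    dT l (tauT A l v t) + tauT A l v (dT l t) = pair A l v • t := by
  funext k
  have key := d_tau l v k (k - 1) (k + 1) (by omega) rfl (t k)
  rw [Pi.add_apply, dT_apply l _ (k - 1) k (by omega), tauT_apply' l v t k (k - 1) (by omega),
    tauT_apply, dT_apply l t k (k + 1) rfl, Pi.smul_apply]
  exact key

lemma dT_oneT (l : List A) : dT l (oneT A l) = 0 := by
  funext k
  rw [dT_apply l _ (k - 1) k (by omega)]
  by_cases hk : k - 1 = 0
  · obtain rfl : k = 1 := by omega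
    haveI := subsingleton_X l 1 (Or.inr one_pos)
    exact Subsingleton.elim _ _
  · simp only [oneT, Pi.single_eq_of_ne hk, map_zero]
    rfl

/-- componentwise membership in `𝔞 • ⊤` -/
def InA (𝔞 : Ideal A) (l : List A) (t : T A l) : Prop :=
  ∀ k, t k ∈ (𝔞 • ⊤ : Submodule A ((Koszul.koszul A l).X k))

lemma map_mem_smul_top {M N : Type u} [AddCommGroup M] [AddCommGroup N] [Module A M] [Module A N]
    (𝔞 : Ideal A) (f : M →ₗ[A] N) {x : M} (hx : x ∈ (𝔞 • ⊤ : Submodule A M)) :
    f x ∈ (𝔞 • ⊤ : Submodule A N) := by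
  have h1 : f x ∈ Submodule.map f (𝔞 • ⊤ : Submodule A M) := Submodule.mem_map_of_mem hx
  rw [Submodule.map_smul''] at h1
  exact Submodule.smul_mono le_rfl le_top h1

lemma InA_tauT (𝔞 : Ideal A) (l : List A) (v : Fin l.length → A) (t : T A l) (h : InA 𝔞 l t) :
    InA 𝔞 l (tauT A l v t) := by
  intro k
  rw [tauT_apply]
  exact map_mem_smul_top 𝔞 _ (h (k + 1))

theorem InA_smul_dT_prod (𝔞 : Ideal A) (l : List A) (r : A) :
    ∀ (vs : List (Fin l.length → A)), (∀ v ∈ vs, r * pair A l v ∈ 𝔞) →
    ∀ t : T A l, dT l t = 0 → InA 𝔞 l (r • dT l ((vs.map (tauT A l)).prod t))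
  | [], _, t, ht => by
    intro k
    simp only [List.map_nil, List.prod_nil, Module.End.one_apply, ht, smul_zero]
    exact Submodule.zero_mem _
  | v :: vs, h, t, ht => by
    have IH := InA_smul_dT_prod 𝔞 l r vs (fun w hw => h w (List.mem_cons_of_mem _ hw)) t ht
    set t' := (vs.map (tauT A l)).prod t with ht'
    have e1 : ((v :: vs).map (tauT A l)).prod t = tauT A l v t' := by
      rw [List.map_cons, List.prod_cons, Module.End.mul_apply]
    have e2 : dT l (tauT A l v t') = pair A l v • t' - tauT A l v (dT l t') :=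
      eq_sub_of_add_eq (dT_tauT l v t')
    have e3 : r • tauT A l v (dT l t') = tauT A l v (r • dT l t') := (map_smul _ _ _).symm
    rw [e1, e2, smul_sub, smul_smul, e3]
    intro k
    rw [Pi.sub_apply]
    refine Submodule.sub_mem _ ?_ (InA_tauT 𝔞 l v _ IH k)
    rw [Pi.smul_apply]
    exact Submodule.smul_mem_smul (h v List.mem_cons_self) Submodule.mem_top

theorem smul_d_omegaT_mem (𝔞 : Ideal A) (l : List A) (r : A)
    (h : ∀ i : Fin l.length, r * l.get i ∈ 𝔞) (m k : ℤ) (hmk : m + 1 = k) :
    r • ((Koszul.koszul A l).d m k).hom (omegaT A l m) ∈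
      (𝔞 • ⊤ : Submodule A ((Koszul.koszul A l).X k)) := by
  have h1 := InA_smul_dT_prod 𝔞 l r (List.ofFn fun i : Fin l.length => (Pi.single i 1))
    (fun v hv => by
      rw [List.mem_ofFn] at hv
      obtain ⟨i, rfl⟩ := hv
      rw [pair_single]
      exact h i) (oneT A l) (dT_oneT l) k
  rw [List.map_ofFn, Pi.smul_apply, dT_apply l _ m k hmk] at h1
  exact h1

end DT

end Groth.Agent.Lib.KosTate
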