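import Mathlib
import Groth.Agent.Lib.KosTate5_helper6

/-!
# Tate's formula for the annihilator of the diagonal (helper6), part 6:
acyclicity of the cone of the comparison map, tensoring with a quotient of the ring.
-/

set_option autoImplicit false
set_option linter.style.haveILetI false
set_option linter.unusedSectionVars false
set_option linter.unusedVariables false
universe u
open CategoryTheory CategoryTheory.Limits CochainComplex HomComplex
open scoped TensorProduct

namespace Groth.Agent.Lib.KosTate

open Groth.Agent.Lib.DMod_helper6 DRing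

section Acyc
variable {P R : Type u} [CommRing P] [CommRing R] [Algebra P R] (lp : List P) (lg : List R)
  (H : Fin lp.length → (Fin lg.length → R))
  (hH : ∀ i, pair R lg (H i) = algebraMap P R (lp.get i))

/-- an element of the restricted complex, as an element of the Koszul complex -/
def toM {k : ℤ} (y : (Nres (P := P) lg).X k) : (Koszul.koszul R lg).X k := y

/-- an element of the Koszul complex, as an element of the restricted complex -/
def ofM {k : ℤ} (y : (Koszul.koszul R lg).X k) : (Nres (P := P) lg).X k := y

@[simp] lemma toM_ofM {k : ℤ} (y : (Koszul.koszul R lg).X k) : toM lg (ofM (P := P) lg y) = y := rfl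
@[simp] lemma ofM_toM {k : ℤ} (y : (Nres (P := P) lg).X k) : ofM lg (toM lg y) = y := rfl
lemma toM_add {k : ℤ} (y y' : (Nres (P := P) lg).X k) :
    toM lg (y + y') = toM lg y + toM lg y' := rfl
lemma toM_smul {k : ℤ} (p : P) (y : (Nres (P := P) lg).X k) :
    toM lg (p • y) = algebraMap P R p • toM lg y := rfl
lemma toM_zero {k : ℤ} : toM lg (0 : (Nres (P := P) lg).X k) = 0 := rfl
lemma toM_d (i j : ℤ) (y : (Nres (P := P) lg).X i) :
    toM lg (((Nres (P := P) lg).d i j).hom y) = ((Koszul.koszul R lg).d i j).hom (toM lg y) := rfl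
lemma toM_injective {k : ℤ} {y y' : (Nres (P := P) lg).X k} (h : toM lg y = toM lg y') :
    y = y' := h

lemma qmap_smul_one (s : P) :
    toM lg (((qmap lg lp H hH).f 0).hom (s • one P lp)) = algebraMap P R s • one R lg := by
  rw [map_smul, toM_smul]
  congr 1
  exact qmap_one lg lp H hH

lemma qmap_comm_apply (i j : ℤ) (x : (Koszul.koszul P lp).X i) :
    ((qmap lg lp H hH).f j).hom (((Koszul.koszul P lp).d i j).hom x) =
      ((Nres (P := P) lg).d i j).hom (((qmap lg lp H hH).f i).hom x) := by
  have := (qmap lg lp H hH).comm i j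
  exact (congrArg (fun f => f.hom x) this).symm

include hH in
theorem cone_exact
    (hf : ∀ i : ℤ, i ≠ 0 → (Koszul.koszul P lp).ExactAt i)
    (hg : ∀ i : ℤ, i ≠ 0 → (Koszul.koszul R lg).ExactAt i)
    (hinj : ∀ p : P, algebraMap P R p ∈ Ideal.ofList lg → p ∈ Ideal.ofList lp)
    (hsurj : ∀ r : R, ∃ p : P, r - algebraMap P R p ∈ Ideal.ofList lg)
    (j k r : ℤ) (hjk : j + 1 = k) (hkr : k + 1 = r) :
    Function.Exact ((mappingCone (qmap lg lp H hH)).d j k).hom
      ((mappingCone (qmap lg lp H hH)).d k r).hom := by
  set q := qmap lg lp H hH with hq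
  intro w
  constructor
  · intro hw
    set x := cfst q k r hkr w with hx
    set y := csnd q k w with hy
    have hdx : ((Koszul.koszul P lp).d r (r + 1)).hom x = 0 := by
      have h1 := cfst_d q k r (r + 1) hkr rfl w
      rw [hw, map_zero] at h1
      exact neg_eq_zero.1 h1.symm
    have hdy : (q.f r).hom x + ((Nres (P := P) lg).d k r).hom y = 0 := by
      have h1 := csnd_d q k r hkr w
      rw [hw, map_zero] at h1
      exact h1.symm
    by_cases hk : k = 0
    · -- degree 0
      subst hk
      obtain rfl : r = 1 := by omega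
      obtain rfl : j = -1 := by omega
      obtain ⟨ρ, hρ⟩ := (one_bijective lg).2 (toM lg y)
      obtain ⟨p, hp⟩ := hsurj ρ
      obtain ⟨y', hy'⟩ := exists_d_eq lg _ hp
      refine ⟨cinl q (-1) 0 (by norm_num) (p • one P lp) + cinr q (-1) (ofM lg y'), ?_⟩
      haveI := subsingleton_X lp 1 (Or.inr one_pos)
      refine cone_ext q 0 1 rfl (Subsingleton.elim _ _) ?_
      rw [csnd_d q (-1) 0 (by norm_num)]
      simp only [map_add, cfst_cinl, cfst_cinr, csnd_cinl, csnd_cinr, add_zero, zero_add]
      apply toM_injective lg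
      rw [toM_add, hq, qmap_smul_one, toM_d, toM_ofM, hy', ← hρ, ← add_smul]
      congr 1
      ring
    · -- other degrees
      obtain ⟨x'', hx''⟩ : ∃ x'' : (Koszul.koszul P lp).X k,
          ((Koszul.koszul P lp).d k r).hom x'' = x := by
        by_cases hr : r = 0
        · subst hr
          obtain rfl : k = -1 := by omega
          obtain ⟨s, hs⟩ := (one_bijective lp).2 x
          obtain ⟨ρ, hρ, hdρ⟩ := d_mem lg (toM lg y)
          have h0 : (algebraMap P R s + ρ) • one R lg = 0 := by
            rw [add_smul, ← hdρ, ← qmap_smul_one lp lg H hH s]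
            have : s • one P lp = x := hs
            rw [this, ← toM_d, ← toM_add]
            exact congrArg (toM lg) hdy
          have h1 : algebraMap P R s + ρ = 0 := (one_bijective lg).1 (by
            show (algebraMap P R s + ρ) • one R lg = (0 : R) • one R lg
            rw [h0, zero_smul])
          have h2 : algebraMap P R s ∈ Ideal.ofList lg := by
            have : algebraMap P R s = -ρ := eq_neg_of_add_eq_zero_left h1
            rw [this]
            exact (Ideal.ofList lg).neg_mem hρ
          obtain ⟨x'', hx''⟩ := exists_d_eq lp s (hinj s h2)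
          exact ⟨x'', hx''.trans hs⟩
        · exact (function_exact_of_exactAt (Koszul.koszul P lp) k r (r + 1) hkr rfl
            (hf r hr) x).1 hdx
      have hy2 : ((Koszul.koszul R lg).d k r).hom (toM lg (y + (q.f k).hom x'')) = 0 := by
        rw [← toM_d, map_add, ← qmap_comm_apply, hx'', add_comm]
        exact congrArg (toM lg) hdy
      obtain ⟨y', hy'⟩ := (function_exact_of_exactAt (Koszul.koszul R lg) j k r hjk hkr
        (hg k hk) _).1 hy2
      refine ⟨cinl q j k hjk (-x'') + cinr q j (ofM lg y'), ?_⟩
      refine cone_ext q k r hkr ?_ ?_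
      · rw [cfst_d q j k r hjk hkr, map_add, cfst_cinl, cfst_cinr, add_zero, map_neg, neg_neg,
          hx'']
      · rw [csnd_d q j k hjk]
        simp only [map_add, cfst_cinl, cfst_cinr, csnd_cinl, csnd_cinr, add_zero, zero_add,
          map_neg, map_zero, neg_zero]
        apply toM_injective lg
        rw [toM_add, toM_d, toM_ofM, hy', toM_add]
        show -toM lg ((q.f k).hom x'') + (toM lg y + toM lg ((q.f k).hom x'')) = toM lg y
        abel
  · rintro ⟨u, rfl⟩
    have := (mappingCone q).d_comp_d j k r
    exact congrArg (fun f => f.hom u) this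

end Acyc


section TensorQuot
variable {P : Type u} [CommRing P] (I : Ideal P) {X : Type u} [AddCommGroup X] [Module P X]

lemma exists_tmul_one (ξ : X ⊗[P] (P ⧸ I)) : ∃ u : X, ξ = u ⊗ₜ[P] (1 : P ⧸ I) := by
  induction ξ using TensorProduct.induction_on with
  | zero => exact ⟨0, by rw [TensorProduct.zero_tmul]⟩
  | tmul x b =>
    obtain ⟨p, rfl⟩ := Ideal.Quotient.mk_surjective b
    refine ⟨p • x, ?_⟩
    rw [TensorProduct.smul_tmul]
    congr 1
    show Ideal.Quotient.mk I p = p • (1 : P ⧸ I)
    rw [Algebra.smul_def, mul_one]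
    rfl
  | add ξ η hξ hη =>
    obtain ⟨u, rfl⟩ := hξ
    obtain ⟨v, rfl⟩ := hη
    exact ⟨u + v, by rw [TensorProduct.add_tmul]⟩

lemma tmul_one_eq_zero_iff (u : X) :
    u ⊗ₜ[P] (1 : P ⧸ I) = 0 ↔ u ∈ (I • ⊤ : Submodule P X) := by
  rw [← (TensorProduct.tensorQuotEquivQuotSMul X I).map_eq_zero_iff,
    ← map_one (Ideal.Quotient.mk I), TensorProduct.tensorQuotEquivQuotSMul_tmul_mk, one_smul,
    Submodule.Quotient.mk_eq_zero]

end TensorQuot

section FlatRes
variable {P R : Type u} [CommRing P] [CommRing R] [Algebra P R] [Module.Flat P R]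

lemma flat_restrictScalars (X : ModuleCat.{u} R) [Module.Flat R X] :
    Module.Flat P ((ModuleCat.restrictScalars (algebraMap P R)).obj X) := by
  letI : Module P X := Module.compHom X (algebraMap P R)
  haveI : IsScalarTower P R X := ⟨fun p r x => by
    show (p • r) • x = algebraMap P R p • (r • x)
    rw [Algebra.smul_def, mul_smul]⟩
  exact Module.Flat.trans P R X

end FlatRes


end Groth.Agent.Lib.KosTate
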