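import Mathlib
import Groth.Agent.Lib.KosTate6_helper6

/-!
# Tate's formula for the annihilator of the diagonal (helper6), part 7:
extended ideals on restricted modules, and the determinant formula for a general number of rows.
-/

set_option autoImplicit false
set_option linter.style.haveILetI false
set_option linter.unusedSectionVars false
set_option linter.unusedVariables false
universe u
open CategoryTheory CategoryTheory.Limits CochainComplex HomComplex
open scoped TensorProduct

namespace Groth.Agent.Lib.KosTate

open Groth.Agent.Lib.DMod_helper6 DRing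


section Conv
variable {P R : Type u} [CommRing P] [CommRing R] [Algebra P R] (I : Ideal P)

/-- an element of an `R`-module, as an element of the restricted module -/
def resOf (X : ModuleCat.{u} R) (y : X) : (ModuleCat.restrictScalars (algebraMap P R)).obj X := y

/-- an element of the restricted module, as an element of the `R`-module -/
def resTo (X : ModuleCat.{u} R) (y : (ModuleCat.restrictScalars (algebraMap P R)).obj X) : X := y

lemma resOf_add (X : ModuleCat.{u} R) (y y' : X) :
    resOf (P := P) X (y + y') = resOf X y + resOf X y' := rfl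
lemma resOf_zero (X : ModuleCat.{u} R) : resOf (P := P) X 0 = 0 := rfl
lemma resOf_algebraMap_smul (X : ModuleCat.{u} R) (p : P) (y : X) :
    resOf (P := P) X (algebraMap P R p • y) = p • resOf X y := rfl
lemma resTo_add (X : ModuleCat.{u} R) (y y' : (ModuleCat.restrictScalars (algebraMap P R)).obj X) :
    resTo X (y + y') = resTo X y + resTo X y' := rfl
lemma resTo_smul (X : ModuleCat.{u} R) (p : P)
    (y : (ModuleCat.restrictScalars (algebraMap P R)).obj X) :
    resTo X (p • y) = algebraMap P R p • resTo X y := rfl

/-- from the extended ideal to the original ideal, on a restricted module -/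
lemma mem_smul_top_of_mem_map (X : ModuleCat.{u} R) (y : X)
    (hy : y ∈ (Ideal.map (algebraMap P R) I • ⊤ : Submodule R X)) :
    resOf (P := P) X y ∈
      (I • ⊤ : Submodule P ((ModuleCat.restrictScalars (algebraMap P R)).obj X)) := by
  have key : ∀ a ∈ Ideal.map (algebraMap P R) I, ∀ x : X,
      resOf (P := P) X (a • x) ∈
        (I • ⊤ : Submodule P ((ModuleCat.restrictScalars (algebraMap P R)).obj X)) := by
    intro a ha
    refine Submodule.span_induction (p := fun a _ => ∀ x : X,
      resOf (P := P) X (a • x) ∈
        (I • ⊤ : Submodule P ((ModuleCat.restrictScalars (algebraMap P R)).obj X)))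
      ?_ ?_ ?_ ?_ ha
    · rintro _ ⟨p, hp, rfl⟩ x
      rw [resOf_algebraMap_smul]
      exact Submodule.smul_mem_smul hp Submodule.mem_top
    · intro x
      rw [zero_smul, resOf_zero]
      exact Submodule.zero_mem _
    · intro a b _ _ iha ihb x
      rw [add_smul, resOf_add]
      exact Submodule.add_mem _ (iha x) (ihb x)
    · intro s a _ iha x
      rw [smul_eq_mul, mul_comm, mul_smul]
      exact iha (s • x)
  refine Submodule.smul_induction_on hy (fun a ha x _ => key a ha x) ?_
  intro x y hx hy
  rw [resOf_add]
  exact Submodule.add_mem _ hx hy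

/-- from the original ideal to the extended ideal -/
lemma mem_map_smul_top_of_mem (X : ModuleCat.{u} R)
    (y : (ModuleCat.restrictScalars (algebraMap P R)).obj X)
    (hy : y ∈ (I • ⊤ : Submodule P ((ModuleCat.restrictScalars (algebraMap P R)).obj X))) :
    resTo X y ∈ (Ideal.map (algebraMap P R) I • ⊤ : Submodule R X) := by
  refine Submodule.smul_induction_on hy ?_ ?_
  · intro p hp x _
    rw [resTo_smul]
    exact Submodule.smul_mem_smul (Ideal.mem_map_of_mem _ hp) Submodule.mem_top
  · intro x y hx hy
    rw [resTo_add]
    exact Submodule.add_mem _ hx hy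

end Conv

section Gen1
variable {A : Type u} [CommRing A]

lemma mem_of_smul_mem_smul_top (𝔞 : Ideal A) {X : Type u} [AddCommGroup X] [Module A X] (ω : X)
    (hω : Function.Bijective (fun r : A => r • ω)) (s : A)
    (hs : s • ω ∈ (𝔞 • ⊤ : Submodule A X)) : s ∈ 𝔞 := by
  have key : ∀ y ∈ (𝔞 • ⊤ : Submodule A X), ∃ s' ∈ 𝔞, y = s' • ω := by
    intro y hy
    refine Submodule.smul_induction_on hy ?_ ?_
    · intro a ha x _
      obtain ⟨sx, rfl⟩ := hω.2 x
      exact ⟨a * sx, 𝔞.mul_mem_right _ ha, by simp only [smul_smul]⟩
    · rintro x y ⟨s1, h1, rfl⟩ ⟨s2, h2, rfl⟩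
      exact ⟨s1 + s2, 𝔞.add_mem h1 h2, by rw [add_smul]⟩
  obtain ⟨s', hs', h⟩ := key _ hs
  have : s = s' := hω.1 h
  rw [this]
  exact hs'

theorem psi_eq_det' (l : List A) (k : ℕ) (hk : k = l.length) (m : ℤ)
    (v : Fin k → (Fin l.length → A)) :
    psi l k m v =
      Matrix.det (Matrix.of fun i : Fin l.length => v (Fin.cast hk.symm i)) • omegaT A l m := by
  subst hk
  exact psi_eq_det l m v

end Gen1


end Groth.Agent.Lib.KosTate
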