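import Mathlib
import Groth.Agent.Lib.KosTate7_helper6

/-!
# Tate's formula for the annihilator of the diagonal (helper6), part 8:
the core statement for two Koszul regular sequences related by a matrix.
-/

set_option autoImplicit false
set_option linter.style.haveILetI false
set_option linter.unusedSectionVars false
set_option linter.unusedVariables false
universe u
open CategoryTheory CategoryTheory.Limits CochainComplex HomComplex
open scoped TensorProduct

namespace Groth.Agent.Lib.KosTate

open Groth.Agent.Lib.DMod_helper6 DRing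

section Core
variable {P R : Type u} [CommRing P] [CommRing R] [Algebra P R] [Module.Flat P R]
  (lp : List P) (lg : List R)
  (H : Fin lp.length → (Fin lg.length → R))
  (hH : ∀ i, pair R lg (H i) = algebraMap P R (lp.get i))

lemma cone_vanishesAbove : VanishesAbove (mappingCone (qmap lg lp H hH)) 0 := by
  intro i hi
  rw [mappingCone.isZero_X_iff]
  exact ⟨isZero_X lp (i + 1) (Or.inr (by omega)),
    (ModuleCat.restrictScalars (algebraMap P R)).map_isZero (isZero_X lg i (Or.inr hi))⟩

lemma cone_termwiseFlat : TermwiseFlat (mappingCone (qmap lg lp H hH)) := by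
  intro i
  have h1 : Module.Flat P ((Koszul.koszul P lp).X (i + 1)) := by
    haveI := ((koszul_props P lp).2 (i + 1)).2
    infer_instance
  have h2 : Module.Flat P ((Nres (P := P) lg).X i) := by
    haveI := ((koszul_props R lg).2 i).2
    haveI : Module.Flat R ((Koszul.koszul R lg).X i) := inferInstance
    exact flat_restrictScalars ((Koszul.koszul R lg).X i)
  haveI : Module.Flat P ((Koszul.koszul P lp).X (i + 1) ⊞ (Nres (P := P) lg).X i :
      ModuleCat.{u} P) := flat_biprod h1 h2
  exact Module.Flat.of_linearEquiv (coneXIso (qmap lg lp H hH) i).toLinearEquiv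

include hH in
theorem cone_rTensor_exact
    (hf : ∀ i : ℤ, i ≠ 0 → (Koszul.koszul P lp).ExactAt i)
    (hg : ∀ i : ℤ, i ≠ 0 → (Koszul.koszul R lg).ExactAt i)
    (hinj : ∀ p : P, algebraMap P R p ∈ Ideal.ofList lg → p ∈ Ideal.ofList lp)
    (hsurj : ∀ r : R, ∃ p : P, r - algebraMap P R p ∈ Ideal.ofList lg)
    (B : Type u) [AddCommGroup B] [Module P B] (j k r : ℤ) (hjk : j + 1 = k) (hkr : k + 1 = r) :
    Function.Exact (((mappingCone (qmap lg lp H hH)).d j k).hom.rTensor B)
      (((mappingCone (qmap lg lp H hH)).d k r).hom.rTensor B) := by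
  have hex : ∀ i, (mappingCone (qmap lg lp H hH)).ExactAt i := fun i =>
    exactAt_of_function_exact _ (i - 1) i (i + 1) (by omega) rfl
      (cone_exact lp lg H hH hf hg hinj hsurj (i - 1) i (i + 1) (by omega) rfl)
  haveI := flat_coker_of_acyclic (mappingCone (qmap lg lp H hH)) 0
    (cone_vanishesAbove lp lg H hH) (cone_termwiseFlat lp lg H hH) hex (1 - r).toNat k r hkr
    (by omega)
  exact exact_rTensor_of_flat_coker _ _
    (cone_exact lp lg H hH hf hg hinj hsurj j k r hjk hkr) B


include hH in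
theorem core (hlen : lp.length = lg.length)
    (hf : ∀ i : ℤ, i ≠ 0 → (Koszul.koszul P lp).ExactAt i)
    (hg : ∀ i : ℤ, i ≠ 0 → (Koszul.koszul R lg).ExactAt i)
    (hinj : ∀ p : P, algebraMap P R p ∈ Ideal.ofList lg → p ∈ Ideal.ofList lp)
    (hsurj : ∀ r : R, ∃ p : P, r - algebraMap P R p ∈ Ideal.ofList lg)
    (r : R)
    (hr : ∀ j : Fin lg.length, r * lg.get j ∈ Ideal.map (algebraMap P R) (Ideal.ofList lp)) :
    ∃ p : P, r - algebraMap P R p *
        Matrix.det (Matrix.of fun i : Fin lg.length => H (Fin.cast hlen.symm i)) ∈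
      Ideal.map (algebraMap P R) (Ideal.ofList lp) := by
  set I := Ideal.ofList lp with hI
  set 𝔞 := Ideal.map (algebraMap P R) I with h𝔞
  set q := qmap lg lp H hH with hq
  set m : ℤ := -(lg.length : ℤ) with hm
  have hm1 : m + lg.length = 0 := by omega
  have hm2 : m + lp.length = 0 := by rw [hlen]; exact hm1
  set D := Matrix.det (Matrix.of fun i : Fin lg.length => H (Fin.cast hlen.symm i)) with hD
  -- the element `x = r • ω_g`
  set x : (Nres (P := P) lg).X m := ofM lg (r • omegaT R lg m) with hx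
  have hdx : ((Nres (P := P) lg).d m (m + 1)).hom x ∈
      (I • ⊤ : Submodule P ((Nres (P := P) lg).X (m + 1))) := by
    have h1 := smul_d_omegaT_mem 𝔞 lg r hr m (m + 1) rfl
    rw [← map_smul] at h1
    exact mem_smul_top_of_mem_map I ((Koszul.koszul R lg).X (m + 1)) _ h1
  -- the element `w` of the cone
  set w := cinr q m x with hw
  have hdw : ((mappingCone q).d m (m + 1)).hom w =
      cinr q (m + 1) (((Nres (P := P) lg).d m (m + 1)).hom x) := by
    refine cone_ext q (m + 1) (m + 1 + 1) rfl ?_ ?_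
    · rw [cfst_d q m (m + 1) (m + 1 + 1) rfl rfl, hw, cfst_cinr, cfst_cinr, map_zero, neg_zero]
    · rw [csnd_d q m (m + 1) rfl, hw, cfst_cinr, csnd_cinr, csnd_cinr, map_zero, zero_add]
  have hdw' : ((mappingCone q).d m (m + 1)).hom w ∈
      (I • ⊤ : Submodule P ((mappingCone q).X (m + 1))) := by
    rw [hdw]
    exact map_mem_smul_top I _ hdx
  have h0 : (((mappingCone q).d m (m + 1)).hom.rTensor (P ⧸ I)) (w ⊗ₜ[P] (1 : P ⧸ I)) = 0 := by
    rw [LinearMap.rTensor_tmul]
    exact (tmul_one_eq_zero_iff I _).2 hdw'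
  obtain ⟨ξ, hξ⟩ := (cone_rTensor_exact lp lg H hH hf hg hinj hsurj (P ⧸ I) (m - 1) m (m + 1)
    (by omega) rfl _).1 h0
  obtain ⟨u, rfl⟩ := exists_tmul_one I ξ
  rw [LinearMap.rTensor_tmul] at hξ
  have h1 : ((mappingCone q).d (m - 1) m).hom u - w ∈
      (I • ⊤ : Submodule P ((mappingCone q).X m)) := by
    rw [← tmul_one_eq_zero_iff, TensorProduct.sub_tmul, hξ, sub_self]
  have h2 := map_mem_smul_top I (csnd q m) h1
  rw [map_sub, csnd_d q (m - 1) m (by omega), hw, csnd_cinr] at h2
  haveI : Subsingleton ((Koszul.koszul R lg).X (m - 1)) :=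
    subsingleton_X lg (m - 1) (Or.inl (by omega))
  have h3 : csnd q (m - 1) u = 0 := Subsingleton.elim (α := (Koszul.koszul R lg).X (m - 1)) _ _
  rw [h3, map_zero, add_zero] at h2
  obtain ⟨p, hp⟩ := (omegaT_bijective lp m hm2).2 (cfst q (m - 1) m (by omega) u)
  have hp' : p • omegaT P lp m = cfst q (m - 1) m (by omega) u := hp
  rw [← hp', map_smul] at h2
  have h4 := mem_map_smul_top_of_mem I ((Koszul.koszul R lg).X m) _ h2
  have h5 : resTo ((Koszul.koszul R lg).X m) (p • (q.f m).hom (omegaT P lp m) - x) =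
      (algebraMap P R p * D - r) • omegaT R lg m := by
    have e1 : toM lg ((q.f m).hom (omegaT P lp m)) = D • omegaT R lg m := by
      show ((qmap lg lp H hH).f m).hom (omegaT P lp m) = _
      rw [qmap_omegaT, ← psi_apply, psi_eq_det' lg lp.length hlen]
    show algebraMap P R p • toM lg ((q.f m).hom (omegaT P lp m)) - r • omegaT R lg m = _
    rw [e1, sub_smul, mul_smul]
  rw [h5] at h4
  have h6 := mem_of_smul_mem_smul_top 𝔞 (omegaT R lg m) (omegaT_bijective lg m hm1) _ h4
  refine ⟨p, ?_⟩
  have : r - algebraMap P R p * D = -(algebraMap P R p * D - r) := by ring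
  rw [this]
  exact 𝔞.neg_mem h6

end Core


end Groth.Agent.Lib.KosTate
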