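import Mathlib
import Groth.Prelude.Def_LCI2
import Groth.Agent.Lib.KosTate8_helper6

/-!
# Tate's formula for the annihilator of the diagonal (helper6), part 9: the statement S2235.
-/

set_option autoImplicit false
set_option linter.style.haveILetI false
set_option linter.unusedSectionVars false
set_option linter.unusedVariables false
universe u
open CategoryTheory CategoryTheory.Limits CochainComplex HomComplex
open scoped TensorProduct

namespace Groth.Agent.Lib.KosTate

section Wrap
variable {A P : Type u} [CommRing A] [CommRing P] [Algebra A P]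
  {n : ℕ} (f : Fin n → P)

lemma ofList_ofFn {R : Type u} [CommRing R] (g : Fin n → R) :
    Ideal.ofList (List.ofFn g) = Ideal.span (Set.range g) := by
  unfold Ideal.ofList
  congr 1
  ext x
  simp [List.mem_ofFn]

/-- the projection `P ⊗ B → B ⊗ B` -/
noncomputable abbrev piMap : (P ⊗[A] (P ⧸ Ideal.span (Set.range f))) →ₐ[A]
    ((P ⧸ Ideal.span (Set.range f)) ⊗[A] (P ⧸ Ideal.span (Set.range f))) :=
  Algebra.TensorProduct.map (Ideal.Quotient.mkₐ A (Ideal.span (Set.range f)))
    (AlgHom.id A (P ⧸ Ideal.span (Set.range f)))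

lemma piMap_surjective : Function.Surjective (piMap (A := A) f) :=
  Algebra.TensorProduct.map_surjective _ _ (Ideal.Quotient.mkₐ_surjective A _)
    Function.surjective_id

lemma ker_piMap : RingHom.ker (piMap (A := A) f) =
    Ideal.map (algebraMap P (P ⊗[A] (P ⧸ Ideal.span (Set.range f))))
      (Ideal.span (Set.range f)) := by
  have h := Algebra.TensorProduct.rTensor_ker (R := A) (C := P ⧸ Ideal.span (Set.range f))
    (Ideal.Quotient.mkₐ A (Ideal.span (Set.range f))) (Ideal.Quotient.mkₐ_surjective A _)
  have h2 : RingHom.ker (Ideal.Quotient.mkₐ A (Ideal.span (Set.range f))) =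
      Ideal.span (Set.range f) := by
    ext x
    rw [RingHom.mem_ker]
    exact Ideal.Quotient.eq_zero_iff_mem
  rw [h2] at h
  exact h

lemma lmul_comp_piMap (x : P ⊗[A] (P ⧸ Ideal.span (Set.range f))) :
    Algebra.TensorProduct.lmul' (S := P ⧸ Ideal.span (Set.range f)) A (piMap (A := A) f x) =
      Algebra.TensorProduct.productMap (Ideal.Quotient.mkₐ A (Ideal.span (Set.range f)))
        (AlgHom.id A (P ⧸ Ideal.span (Set.range f))) x := by
  rw [Algebra.TensorProduct.productMap_eq_comp_map]
  rfl


theorem main2235 (hf : LCI.IsKoszulRegularSeq P (List.ofFn f))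
    [Module.Flat A (P ⧸ Ideal.span (Set.range f))]
    (g : Fin n → P ⊗[A] (P ⧸ Ideal.span (Set.range f)))
    (hg : LCI.IsKoszulRegularSeq (P ⊗[A] (P ⧸ Ideal.span (Set.range f))) (List.ofFn g))
    (hgker : Ideal.span (Set.range g) = RingHom.ker (Algebra.TensorProduct.productMap
      (Ideal.Quotient.mkₐ A (Ideal.span (Set.range f)))
      (AlgHom.id A (P ⧸ Ideal.span (Set.range f)))))
    (c : Matrix (Fin n) (Fin n) (P ⊗[A] (P ⧸ Ideal.span (Set.range f))))
    (hc : ∀ i, f i ⊗ₜ[A] (1 : P ⧸ Ideal.span (Set.range f)) = ∑ j, c i j * g j) :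
    Submodule.annihilator (RingHom.ker
        (Algebra.TensorProduct.lmul' (S := P ⧸ Ideal.span (Set.range f)) A)) =
      Ideal.span {Algebra.TensorProduct.map (Ideal.Quotient.mkₐ A (Ideal.span (Set.range f)))
        (AlgHom.id A (P ⧸ Ideal.span (Set.range f))) (Matrix.det c)} := by
  set π := piMap (A := A) f with hπ
  have hπs := piMap_surjective (A := A) f
  have hkerπ := ker_piMap (A := A) f
  -- the elements of the diagonal ideal
  have hJ : ∀ y, y ∈ RingHom.ker (Algebra.TensorProduct.lmul' (S := P ⧸ (Ideal.span (Set.range f))) A) ↔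
      ∃ r' ∈ Ideal.span (Set.range g), π r' = y := by
    intro y
    constructor
    · intro hy
      obtain ⟨r', rfl⟩ := hπs y
      refine ⟨r', ?_, rfl⟩
      rw [hgker, RingHom.mem_ker, ← lmul_comp_piMap]
      exact hy
    · rintro ⟨r', hr', rfl⟩
      rw [hgker, RingHom.mem_ker, ← lmul_comp_piMap] at hr'
      exact hr'
  have hFker : ∀ i, π (f i ⊗ₜ[A] (1 : P ⧸ (Ideal.span (Set.range f)))) = 0 := by
    intro i
    show (Ideal.Quotient.mk (Ideal.span (Set.range f)) (f i)) ⊗ₜ[A] (1 : P ⧸ (Ideal.span (Set.range f))) = 0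
    have h0 : Ideal.Quotient.mk (Ideal.span (Set.range f)) (f i) = 0 :=
      Ideal.Quotient.eq_zero_iff_mem.2 (Ideal.subset_span (Set.mem_range_self i))
    rw [h0, TensorProduct.zero_tmul]
  -- Cramer's rule
  have hcramer : ∀ j, π (Matrix.det c * g j) = 0 := by
    intro j
    have h1 : Matrix.det c * g j = ∑ i, Matrix.adjugate c j i * (f i ⊗ₜ[A] (1 : P ⧸ (Ideal.span (Set.range f)))) := by
      have h2 : (Matrix.adjugate c * c).mulVec g = (Matrix.det c • (1 : Matrix (Fin n) (Fin n) _)).mulVec g := by
        rw [Matrix.adjugate_mul]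
      have h3 := congrFun h2 j
      rw [← Matrix.mulVec_mulVec, Matrix.smul_mulVec, Matrix.one_mulVec] at h3
      rw [Pi.smul_apply, smul_eq_mul] at h3
      rw [← h3]
      simp only [Matrix.mulVec, dotProduct]
      refine Finset.sum_congr rfl (fun i _ => ?_)
      rw [hc i]
    rw [h1, map_sum]
    refine Finset.sum_eq_zero (fun i _ => ?_)
    rw [map_mul, hFker, mul_zero]
  apply le_antisymm
  · -- the annihilator is contained in the principal ideal
    intro s hs
    rw [Submodule.mem_annihilator] at hs
    obtain ⟨r, rfl⟩ := hπs s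
    have hlenf : (List.ofFn f).length = n := List.length_ofFn
    have hleng : (List.ofFn g).length = n := List.length_ofFn
    have hlen : (List.ofFn f).length = (List.ofFn g).length := hlenf.trans hleng.symm
    let H : Fin (List.ofFn f).length → (Fin (List.ofFn g).length → P ⊗[A] (P ⧸ (Ideal.span (Set.range f)))) :=
      fun i j => c (Fin.cast hlenf i) (Fin.cast hleng j)
    have hH : ∀ i, pair _ (List.ofFn g) (H i) =
        algebraMap P (P ⊗[A] (P ⧸ (Ideal.span (Set.range f)))) ((List.ofFn f).get i) := by
      intro i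
      rw [pair_eq_sum, List.get_ofFn, Algebra.TensorProduct.algebraMap_apply]
      show _ = (f (Fin.cast hlenf i)) ⊗ₜ[A] (1 : P ⧸ (Ideal.span (Set.range f)))
      rw [hc]
      refine Fintype.sum_equiv (finCongr hleng) _ _ (fun j => ?_)
      rw [List.get_ofFn]
      rfl
    have hr : ∀ j : Fin (List.ofFn g).length, r * (List.ofFn g).get j ∈
        Ideal.map (algebraMap P (P ⊗[A] (P ⧸ (Ideal.span (Set.range f))))) (Ideal.ofList (List.ofFn f)) := by
      intro j
      rw [ofList_ofFn, ← hkerπ, RingHom.mem_ker, map_mul, List.get_ofFn]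
      have := hs (π (g (Fin.cast hleng j))) ((hJ _).2 ⟨_, Ideal.subset_span ⟨_, rfl⟩, rfl⟩)
      rwa [smul_eq_mul] at this
    obtain ⟨p, hp⟩ := core (List.ofFn f) (List.ofFn g) H hH hlen
      (fun i hi => (HomologicalComplex.exactAt_iff_isZero_homology _ _).2 (hf i hi))
      (fun i hi => (HomologicalComplex.exactAt_iff_isZero_homology _ _).2 (hg i hi))
      (by
        intro p hp
        rw [ofList_ofFn] at hp ⊢
        rw [hgker, RingHom.mem_ker, Algebra.TensorProduct.algebraMap_apply,
          Algebra.TensorProduct.productMap_apply_tmul, map_one, mul_one] at hp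
        exact Ideal.Quotient.eq_zero_iff_mem.1 hp)
      (by
        intro r
        obtain ⟨p, hp⟩ := Ideal.Quotient.mk_surjective
          (Algebra.TensorProduct.productMap (Ideal.Quotient.mkₐ A (Ideal.span (Set.range f))) (AlgHom.id A (P ⧸ (Ideal.span (Set.range f)))) r)
        refine ⟨p, ?_⟩
        rw [ofList_ofFn, hgker, RingHom.mem_ker, map_sub, Algebra.TensorProduct.algebraMap_apply,
          Algebra.TensorProduct.productMap_apply_tmul, map_one, mul_one, sub_eq_zero]
        exact hp.symm)
      r hr
    have hdet : Matrix.det (Matrix.of fun i : Fin (List.ofFn g).length =>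
        H (Fin.cast hlen.symm i)) = Matrix.det c := by
      have : (Matrix.of fun i : Fin (List.ofFn g).length => H (Fin.cast hlen.symm i)) =
          c.submatrix (finCongr hleng) (finCongr hleng) := by
        ext i j
        rfl
      rw [this, Matrix.det_submatrix_equiv_self]
    rw [hdet, ofList_ofFn, ← hkerπ, RingHom.mem_ker, map_sub, sub_eq_zero, map_mul] at hp
    rw [hp]
    exact Ideal.mul_mem_left _ _ (Ideal.subset_span rfl)
  · -- the determinant annihilates the diagonal ideal
    rw [Ideal.span_le]
    rintro _ rfl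
    show π (Matrix.det c) ∈ Submodule.annihilator _
    rw [Submodule.mem_annihilator]
    intro y hy
    obtain ⟨r', hr', rfl⟩ := (hJ y).1 hy
    rw [smul_eq_mul, ← map_mul]
    refine Submodule.span_induction (p := fun r' _ => π (Matrix.det c * r') = 0)
      ?_ ?_ ?_ ?_ hr'
    · rintro _ ⟨j, rfl⟩
      exact hcramer j
    · rw [mul_zero, map_zero]
    · intro a b _ _ ha hb
      rw [mul_add, map_add, ha, hb, add_zero]
    · intro a b _ hb
      rw [smul_eq_mul, mul_left_comm, map_mul, hb, mul_zero]

end Wrap


end Groth.Agent.Lib.KosTate
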