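import Mathlib
import Groth.Prelude.Def_Disc
import Groth.Agent.Lib.JacDiff3_helper6
import Groth.Agent.Lib.KosTate9_helper6

/-!
# The Noether different of a quasi-finite global complete intersection (helper6), part 4:
the Noether different is generated by the Jacobian determinant.
-/

set_option autoImplicit false
universe u
open scoped TensorProduct

namespace Groth.Agent.Lib.JacDiff

section main
variable {A : Type u} [CommRing A] {n : ℕ} (f : Fin n → MvPolynomial (Fin n) A)

/-- any matrix `c` with `f_i ⊗ 1 = ∑ c_ij (x_j ⊗ 1 - 1 ⊗ x_j)` reduces to the Jacobian matrix -/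
lemma muMap_coeff (φ : MvPolynomial (Fin n) A →ₐ[A]
      (MvPolynomial (Fin n) A ⧸ Ideal.span (Set.range f)))
    (c : Fin n → (MvPolynomial (Fin n) A ⊗[A] (MvPolynomial (Fin n) A ⧸ Ideal.span (Set.range f))))
    (p : MvPolynomial (Fin n) A)
    (hc : ∑ j, c j * gdiag (A := A) (fun j => φ (MvPolynomial.X j)) j =
      p ⊗ₜ[A] (1 : MvPolynomial (Fin n) A ⧸ Ideal.span (Set.range f))) (k : Fin n) :
    muMap φ (c k) = φ (MvPolynomial.pderiv k p) := by
  have h := congrArg (dMap φ k) hc
  rw [map_sum, dMap_tmul, mul_one] at h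
  rw [← h]
  simp only [dMap_mul_gdiag]
  rw [Finset.sum_ite_eq' Finset.univ k (fun j => muMap φ (c j))]
  simp

theorem main2210
    [Algebra.QuasiFinite A (MvPolynomial (Fin n) A ⧸ Ideal.span (Set.range f))] :
    Module.Flat A (MvPolynomial (Fin n) A ⧸ Ideal.span (Set.range f)) ∧
      Disc.noetherDifferent A (MvPolynomial (Fin n) A ⧸ Ideal.span (Set.range f)) =
        Ideal.span {Ideal.Quotient.mk (Ideal.span (Set.range f))
          (Matrix.det (Matrix.of fun i j => MvPolynomial.pderiv j (f i)))} := by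
  have hgci := isRelGCI_of_quasiFinite f
  have hflat : Module.Flat A (MvPolynomial (Fin n) A ⧸ Ideal.span (Set.range f)) :=
    Groth.Agent.Lib.RelGCI.flat_relGCIRing A n n f hgci
  refine ⟨hflat, ?_⟩
  haveI := hflat
  have hf := Groth.Agent.Lib.RelGCI.main9254 A n n f hgci
  have hg := kreg_gdiag (A := A)
    (fun j => Ideal.Quotient.mkₐ A (Ideal.span (Set.range f)) (MvPolynomial.X j))
  have hgker := span_gdiag_eq_ker (Ideal.Quotient.mkₐ A (Ideal.span (Set.range f)))
  have hex : ∀ i, ∃ c : Fin n → (MvPolynomial (Fin n) A ⊗[A]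
      (MvPolynomial (Fin n) A ⧸ Ideal.span (Set.range f))),
      ∑ j, c j * gdiag (A := A)
        (fun j => Ideal.Quotient.mkₐ A (Ideal.span (Set.range f)) (MvPolynomial.X j)) j =
        f i ⊗ₜ[A] (1 : MvPolynomial (Fin n) A ⧸ Ideal.span (Set.range f)) := by
    intro i
    have hmem : f i ⊗ₜ[A] (1 : MvPolynomial (Fin n) A ⧸ Ideal.span (Set.range f)) ∈
        Ideal.span (Set.range (gdiag (A := A)
          (fun j => Ideal.Quotient.mkₐ A (Ideal.span (Set.range f)) (MvPolynomial.X j)))) := by
      rw [hgker, RingHom.mem_ker]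
      simp only [muMap, Algebra.TensorProduct.productMap_apply_tmul, map_one, mul_one]
      exact Ideal.Quotient.eq_zero_iff_mem.2 (Ideal.subset_span ⟨i, rfl⟩)
    obtain ⟨c, hc⟩ := Ideal.mem_span_range_iff_exists_fun.1 hmem
    exact ⟨c, hc⟩
  choose c hc using hex
  have hann := Groth.Agent.Lib.KosTate.main2235 f hf _ hg hgker (Matrix.of c)
    (fun i => (hc i).symm)
  unfold Disc.noetherDifferent
  rw [hann, Ideal.map_span, Set.image_singleton]
  congr 2
  have h1 := Groth.Agent.Lib.KosTate.lmul_comp_piMap (A := A) f (Matrix.det (Matrix.of c))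
  refine h1.trans ?_
  rw [AlgHom.map_det, RingHom.map_det]
  congr 1
  ext i k
  exact muMap_coeff f _ (c i) (f i) (hc i) k

end main

end Groth.Agent.Lib.JacDiff
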