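import Mathlib
import Groth.Agent.Lib.KosTate9_helper6

/-!
# Tate's formula for the annihilator of the diagonal (helper6), part 10:
injectivity of `b ↦ b • det c` modulo any ideal containing the first sequence.
-/

set_option autoImplicit false
set_option linter.style.haveILetI false
set_option linter.unusedSectionVars false
set_option linter.unusedVariables false
universe u
open CategoryTheory CategoryTheory.Limits CochainComplex HomComplex
open scoped TensorProduct

namespace Groth.Agent.Lib.KosTate

open Groth.Agent.Lib.DMod_helper6 DRing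

section Core
variable {P R : Type u} [CommRing P] [CommRing R] [Algebra P R] [Module.Flat P R]
  (lp : List P) (lg : List R)
  (H : Fin lp.length → (Fin lg.length → R))
  (hH : ∀ i, pair R lg (H i) = algebraMap P R (lp.get i))

include hH in
theorem core_inj (hlen : lp.length = lg.length)
    (hf : ∀ i : ℤ, i ≠ 0 → (Koszul.koszul P lp).ExactAt i)
    (hg : ∀ i : ℤ, i ≠ 0 → (Koszul.koszul R lg).ExactAt i)
    (hinj : ∀ p : P, algebraMap P R p ∈ Ideal.ofList lg → p ∈ Ideal.ofList lp)
    (hsurj : ∀ r : R, ∃ p : P, r - algebraMap P R p ∈ Ideal.ofList lg)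
    (I' : Ideal P) (hI' : Ideal.ofList lp ≤ I') (p : P)
    (hp : algebraMap P R p *
        Matrix.det (Matrix.of fun i : Fin lg.length => H (Fin.cast hlen.symm i)) ∈
      Ideal.map (algebraMap P R) I') :
    p ∈ I' := by
  set q := qmap lg lp H hH with hq
  set m : ℤ := -(lg.length : ℤ) with hm
  have hm1 : m + lg.length = 0 := by omega
  have hm2 : m + lp.length = 0 := by rw [hlen]; exact hm1
  set D := Matrix.det (Matrix.of fun i : Fin lg.length => H (Fin.cast hlen.symm i)) with hD
  set u := cinl q (m - 1) m (by omega) (p • omegaT P lp m) with hu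
  have hdu : ((mappingCone q).d (m - 1) m).hom u ∈
      (I' • ⊤ : Submodule P ((mappingCone q).X m)) := by
    rw [← cone_decomp q m (m + 1) rfl (((mappingCone q).d (m - 1) m).hom u)]
    refine Submodule.add_mem _ (map_mem_smul_top I' _ ?_) (map_mem_smul_top I' _ ?_)
    · rw [cfst_d q (m - 1) m (m + 1) (by omega) rfl, hu, cfst_cinl, map_smul]
      refine Submodule.neg_mem _ (Submodule.smul_mem _ p ?_)
      have h1 := smul_d_omegaT_mem (Ideal.ofList lp) lp 1
        (fun i => by rw [one_mul]; exact Ideal.subset_span (List.get_mem _ _)) m (m + 1) rfl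
      rw [one_smul] at h1
      exact Submodule.smul_mono hI' le_rfl h1
    · rw [csnd_d q (m - 1) m (by omega), hu, cfst_cinl, csnd_cinl, map_zero, add_zero, map_smul]
      have e1 : toM lg ((q.f m).hom (omegaT P lp m)) = D • omegaT R lg m := by
        show ((qmap lg lp H hH).f m).hom (omegaT P lp m) = _
        rw [qmap_omegaT, ← psi_apply, psi_eq_det' lg lp.length hlen]
      have h2 : (algebraMap P R p * D) • omegaT R lg m ∈
          (Ideal.map (algebraMap P R) I' • ⊤ : Submodule R ((Koszul.koszul R lg).X m)) :=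
        Submodule.smul_mem_smul hp Submodule.mem_top
      have h3 := mem_smul_top_of_mem_map I' ((Koszul.koszul R lg).X m) _ h2
      have e2 : resOf (P := P) ((Koszul.koszul R lg).X m) ((algebraMap P R p * D) • omegaT R lg m) =
          p • (q.f m).hom (omegaT P lp m) := by
        show (algebraMap P R p * D) • omegaT R lg m =
          algebraMap P R p • toM lg ((q.f m).hom (omegaT P lp m))
        rw [e1, mul_smul]
      rw [e2] at h3
      exact h3
  have h0 : (((mappingCone q).d (m - 1) m).hom.rTensor (P ⧸ I')) (u ⊗ₜ[P] (1 : P ⧸ I')) = 0 := by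
    rw [LinearMap.rTensor_tmul]
    exact (tmul_one_eq_zero_iff I' _).2 hdu
  obtain ⟨ξ, hξ⟩ := (cone_rTensor_exact lp lg H hH hf hg hinj hsurj (P ⧸ I') (m - 1 - 1) (m - 1) m
    (by omega) (by omega) _).1 h0
  obtain ⟨u', rfl⟩ := exists_tmul_one I' ξ
  have hz : IsZero ((mappingCone q).X (m - 1 - 1)) := by
    rw [mappingCone.isZero_X_iff]
    exact ⟨isZero_X lp (m - 1 - 1 + 1) (Or.inl (by omega)),
      (ModuleCat.restrictScalars (algebraMap P R)).map_isZero
        (isZero_X lg (m - 1 - 1) (Or.inl (by omega)))⟩
  haveI := ModuleCat.subsingleton_of_isZero hz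
  have hu'0 : u' = 0 := Subsingleton.elim _ _
  rw [hu'0, TensorProduct.zero_tmul, map_zero] at hξ
  have hu2 : u ∈ (I' • ⊤ : Submodule P ((mappingCone q).X (m - 1))) :=
    (tmul_one_eq_zero_iff I' u).1 hξ.symm
  have h5 := map_mem_smul_top I' (cfst q (m - 1) m (by omega)) hu2
  rw [hu, cfst_cinl] at h5
  exact mem_of_smul_mem_smul_top I' (omegaT P lp m) (omegaT_bijective lp m hm2) p h5

end Core

end Groth.Agent.Lib.KosTate
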