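import Mathlib
import Groth.Prelude.Def_LCI2
import Groth.Agent.Lib.KosTate10_helper6

/-!
# Tate's formula for the annihilator of the diagonal (helper6), part 11:
the generator `Δ` of the annihilator of the diagonal is a non-zero-divisor over `B`, modulo every
ideal of the base.
-/

set_option autoImplicit false
set_option linter.style.haveILetI false
set_option linter.unusedSectionVars false
set_option linter.unusedVariables false
universe u
open CategoryTheory CategoryTheory.Limits CochainComplex HomComplex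
open scoped TensorProduct

namespace Groth.Agent.Lib.KosTate

section Wrap
variable {A P : Type u} [CommRing A] [CommRing P] [Algebra A P]
  {n : ℕ} (f : Fin n → P)

theorem main2235_inj (hf : LCI.IsKoszulRegularSeq P (List.ofFn f))
    [Module.Flat A (P ⧸ Ideal.span (Set.range f))]
    (g : Fin n → P ⊗[A] (P ⧸ Ideal.span (Set.range f)))
    (hg : LCI.IsKoszulRegularSeq (P ⊗[A] (P ⧸ Ideal.span (Set.range f))) (List.ofFn g))
    (hgker : Ideal.span (Set.range g) = RingHom.ker (Algebra.TensorProduct.productMap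
      (Ideal.Quotient.mkₐ A (Ideal.span (Set.range f)))
      (AlgHom.id A (P ⧸ Ideal.span (Set.range f)))))
    (c : Matrix (Fin n) (Fin n) (P ⊗[A] (P ⧸ Ideal.span (Set.range f))))
    (hc : ∀ i, f i ⊗ₜ[A] (1 : P ⧸ Ideal.span (Set.range f)) = ∑ j, c i j * g j)
    (𝔞 : Ideal A) (p : P)
    (hp : piMap (A := A) f ((p ⊗ₜ[A] (1 : P ⧸ Ideal.span (Set.range f))) * Matrix.det c) ∈
      Ideal.map (algebraMap A ((P ⧸ Ideal.span (Set.range f)) ⊗[A] (P ⧸ Ideal.span (Set.range f))))
        𝔞) :
    Ideal.Quotient.mk (Ideal.span (Set.range f)) p ∈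
      Ideal.map (algebraMap A (P ⧸ Ideal.span (Set.range f))) 𝔞 := by
  set π := piMap (A := A) f with hπ
  have hπs := piMap_surjective (A := A) f
  have hkerπ := ker_piMap (A := A) f
  set I' : Ideal P := Ideal.span (Set.range f) ⊔ Ideal.map (algebraMap A P) 𝔞 with hI'
  have hlenf : (List.ofFn f).length = n := List.length_ofFn
  have hleng : (List.ofFn g).length = n := List.length_ofFn
  have hlen : (List.ofFn f).length = (List.ofFn g).length := hlenf.trans hleng.symm
  let H : Fin (List.ofFn f).length → (Fin (List.ofFn g).length → P ⊗[A] (P ⧸ (Ideal.span (Set.range f)))) :=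
    fun i j => c (Fin.cast hlenf i) (Fin.cast hleng j)
  have hH : ∀ i, pair _ (List.ofFn g) (H i) =
      algebraMap P (P ⊗[A] (P ⧸ (Ideal.span (Set.range f)))) ((List.ofFn f).get i) := by
    intro i
    rw [pair_eq_sum, List.get_ofFn, Algebra.TensorProduct.algebraMap_apply]
    show _ = (f (Fin.cast hlenf i)) ⊗ₜ[A] (1 : P ⧸ (Ideal.span (Set.range f)))
    rw [hc]
    refine Fintype.sum_equiv (finCongr hleng) _ _ (fun j => ?_)
    rw [List.get_ofFn]
    rfl
  have hdet : Matrix.det (Matrix.of fun i : Fin (List.ofFn g).length =>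
      H (Fin.cast hlen.symm i)) = Matrix.det c := by
    have : (Matrix.of fun i : Fin (List.ofFn g).length => H (Fin.cast hlen.symm i)) =
        c.submatrix (finCongr hleng) (finCongr hleng) := by
      ext i j
      rfl
    rw [this, Matrix.det_submatrix_equiv_self]
  -- the hypothesis, in `P ⊗ B`
  have hx : algebraMap P (P ⊗[A] (P ⧸ (Ideal.span (Set.range f)))) p *
      Matrix.det (Matrix.of fun i : Fin (List.ofFn g).length => H (Fin.cast hlen.symm i)) ∈
      Ideal.map (algebraMap P (P ⊗[A] (P ⧸ (Ideal.span (Set.range f))))) I' := by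
    rw [hdet]
    show (p ⊗ₜ[A] (1 : P ⧸ Ideal.span (Set.range f))) * Matrix.det c ∈ _
    have e1 : Ideal.map (algebraMap A ((P ⧸ Ideal.span (Set.range f)) ⊗[A]
        (P ⧸ Ideal.span (Set.range f)))) 𝔞 =
        Ideal.map π.toRingHom
          (Ideal.map (algebraMap A (P ⊗[A] (P ⧸ (Ideal.span (Set.range f))))) 𝔞) := by
      rw [Ideal.map_map]
      congr 1
    rw [e1] at hp
    obtain ⟨y, hy, hyx⟩ := (Ideal.mem_map_iff_of_surjective π.toRingHom hπs).1 hp
    have hyx' : π y = π ((p ⊗ₜ[A] (1 : P ⧸ Ideal.span (Set.range f))) * Matrix.det c) := hyx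
    have hker : (p ⊗ₜ[A] (1 : P ⧸ Ideal.span (Set.range f))) * Matrix.det c - y ∈
        RingHom.ker π := by
      rw [RingHom.mem_ker, map_sub, hyx', sub_self]
    rw [hkerπ] at hker
    have e2 : Ideal.map (algebraMap A (P ⊗[A] (P ⧸ (Ideal.span (Set.range f))))) 𝔞 =
        Ideal.map (algebraMap P (P ⊗[A] (P ⧸ (Ideal.span (Set.range f)))))
          (Ideal.map (algebraMap A P) 𝔞) := by
      rw [Ideal.map_map, ← IsScalarTower.algebraMap_eq]
    rw [hI', Ideal.map_sup]
    have : (p ⊗ₜ[A] (1 : P ⧸ Ideal.span (Set.range f))) * Matrix.det c =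
        ((p ⊗ₜ[A] (1 : P ⧸ Ideal.span (Set.range f))) * Matrix.det c - y) + y := by ring
    rw [this]
    exact Submodule.add_mem_sup hker (e2 ▸ hy)
  have hmem := core_inj (List.ofFn f) (List.ofFn g) H hH hlen
      (fun i hi => (HomologicalComplex.exactAt_iff_isZero_homology _ _).2 (hf i hi))
      (fun i hi => (HomologicalComplex.exactAt_iff_isZero_homology _ _).2 (hg i hi))
      (by
        intro p hp
        rw [ofList_ofFn] at hp ⊢
        rw [hgker, RingHom.mem_ker, Algebra.TensorProduct.algebraMap_apply,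
          Algebra.TensorProduct.productMap_apply_tmul, map_one, mul_one] at hp
        exact Ideal.Quotient.eq_zero_iff_mem.1 hp)
      (by
        intro r
        obtain ⟨p, hp⟩ := Ideal.Quotient.mk_surjective
          (Algebra.TensorProduct.productMap (Ideal.Quotient.mkₐ A (Ideal.span (Set.range f))) (AlgHom.id A (P ⧸ (Ideal.span (Set.range f)))) r)
        refine ⟨p, ?_⟩
        rw [ofList_ofFn, hgker, RingHom.mem_ker, map_sub, Algebra.TensorProduct.algebraMap_apply,
          Algebra.TensorProduct.productMap_apply_tmul, map_one, mul_one, sub_eq_zero]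
        exact hp.symm)
      I' (by rw [ofList_ofFn]; exact le_sup_left) p hx
  have h1 := Ideal.mem_map_of_mem (Ideal.Quotient.mk (Ideal.span (Set.range f))) hmem
  rw [hI', Ideal.map_sup, Ideal.map_quotient_self, bot_sup_eq, Ideal.map_map] at h1
  exact h1

end Wrap

end Groth.Agent.Lib.KosTate

namespace Groth.Agent.Lib.KosTate

section Wrap2
variable {A P : Type u} [CommRing A] [CommRing P] [Algebra A P]
  {n : ℕ} (f : Fin n → P)

lemma mem_smul_top_iff_mem_map {S : Type u} [CommRing S] [Algebra A S] (𝔞 : Ideal A) (x : S) :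
    x ∈ (𝔞 • ⊤ : Submodule A S) ↔ x ∈ Ideal.map (algebraMap A S) 𝔞 := by
  rw [Ideal.smul_top_eq_map, Submodule.restrictScalars_mem]

/-- `main2235_inj`, in terms of the submodules `𝔞 • ⊤`. -/
theorem main2235_inj' (hf : LCI.IsKoszulRegularSeq P (List.ofFn f))
    [Module.Flat A (P ⧸ Ideal.span (Set.range f))]
    (g : Fin n → P ⊗[A] (P ⧸ Ideal.span (Set.range f)))
    (hg : LCI.IsKoszulRegularSeq (P ⊗[A] (P ⧸ Ideal.span (Set.range f))) (List.ofFn g))
    (hgker : Ideal.span (Set.range g) = RingHom.ker (Algebra.TensorProduct.productMap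
      (Ideal.Quotient.mkₐ A (Ideal.span (Set.range f)))
      (AlgHom.id A (P ⧸ Ideal.span (Set.range f)))))
    (c : Matrix (Fin n) (Fin n) (P ⊗[A] (P ⧸ Ideal.span (Set.range f))))
    (hc : ∀ i, f i ⊗ₜ[A] (1 : P ⧸ Ideal.span (Set.range f)) = ∑ j, c i j * g j)
    (𝔞 : Ideal A) (b : P ⧸ Ideal.span (Set.range f))
    (hb : (b ⊗ₜ[A] (1 : P ⧸ Ideal.span (Set.range f))) * piMap (A := A) f (Matrix.det c) ∈
      (𝔞 • ⊤ : Submodule A ((P ⧸ Ideal.span (Set.range f)) ⊗[A] (P ⧸ Ideal.span (Set.range f))))) :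
    b ∈ (𝔞 • ⊤ : Submodule A (P ⧸ Ideal.span (Set.range f))) := by
  obtain ⟨p, rfl⟩ := Ideal.Quotient.mk_surjective b
  rw [mem_smul_top_iff_mem_map]
  refine main2235_inj f hf g hg hgker c hc 𝔞 p ?_
  rw [map_mul]
  exact (mem_smul_top_iff_mem_map 𝔞 _).1 hb

end Wrap2

end Groth.Agent.Lib.KosTate
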