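import Mathlib
import Groth.Prelude.Def_Disc
import Groth.Agent.Lib.JacDiff4_helper6
import Groth.Agent.Lib.KosTate11_helper6

/-!
# The Noether different of a quasi-finite global complete intersection (helper6), part 5:
the generator `Δ` of the annihilator of the diagonal, with its properties.
-/

set_option autoImplicit false
universe u
open scoped TensorProduct

namespace Groth.Agent.Lib.JacDiff

section main
variable {A : Type u} [CommRing A] {n : ℕ} (f : Fin n → MvPolynomial (Fin n) A)

theorem exists_Delta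
    [Algebra.QuasiFinite A (MvPolynomial (Fin n) A ⧸ Ideal.span (Set.range f))] :
    ∃ Δ : (MvPolynomial (Fin n) A ⧸ Ideal.span (Set.range f)) ⊗[A]
        (MvPolynomial (Fin n) A ⧸ Ideal.span (Set.range f)),
      Submodule.annihilator (RingHom.ker (Algebra.TensorProduct.lmul'
        (S := MvPolynomial (Fin n) A ⧸ Ideal.span (Set.range f)) A)) = Ideal.span {Δ} ∧
      Algebra.TensorProduct.lmul' (S := MvPolynomial (Fin n) A ⧸ Ideal.span (Set.range f)) A Δ =
        Ideal.Quotient.mk (Ideal.span (Set.range f))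
          (Matrix.det (Matrix.of fun i j => MvPolynomial.pderiv j (f i))) ∧
      ∀ (𝔞 : Ideal A) (b : MvPolynomial (Fin n) A ⧸ Ideal.span (Set.range f)),
        (b ⊗ₜ[A] (1 : MvPolynomial (Fin n) A ⧸ Ideal.span (Set.range f))) * Δ ∈
          (𝔞 • ⊤ : Submodule A ((MvPolynomial (Fin n) A ⧸ Ideal.span (Set.range f)) ⊗[A]
            (MvPolynomial (Fin n) A ⧸ Ideal.span (Set.range f)))) →
        b ∈ (𝔞 • ⊤ : Submodule A (MvPolynomial (Fin n) A ⧸ Ideal.span (Set.range f))) := by
  have hgci := isRelGCI_of_quasiFinite f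
  have hflat : Module.Flat A (MvPolynomial (Fin n) A ⧸ Ideal.span (Set.range f)) :=
    Groth.Agent.Lib.RelGCI.flat_relGCIRing A n n f hgci
  haveI := hflat
  have hf := Groth.Agent.Lib.RelGCI.main9254 A n n f hgci
  have hg := kreg_gdiag (A := A)
    (fun j => Ideal.Quotient.mkₐ A (Ideal.span (Set.range f)) (MvPolynomial.X j))
  have hgker := span_gdiag_eq_ker (Ideal.Quotient.mkₐ A (Ideal.span (Set.range f)))
  have hex : ∀ i, ∃ c : Fin n → (MvPolynomial (Fin n) A ⊗[A]
      (MvPolynomial (Fin n) A ⧸ Ideal.span (Set.range f))),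
      ∑ j, c j * gdiag (A := A)
        (fun j => Ideal.Quotient.mkₐ A (Ideal.span (Set.range f)) (MvPolynomial.X j)) j =
        f i ⊗ₜ[A] (1 : MvPolynomial (Fin n) A ⧸ Ideal.span (Set.range f)) := by
    intro i
    have hmem : f i ⊗ₜ[A] (1 : MvPolynomial (Fin n) A ⧸ Ideal.span (Set.range f)) ∈
        Ideal.span (Set.range (gdiag (A := A)
          (fun j => Ideal.Quotient.mkₐ A (Ideal.span (Set.range f)) (MvPolynomial.X j)))) := by
      rw [hgker, RingHom.mem_ker]
      simp only [muMap, Algebra.TensorProduct.productMap_apply_tmul, map_one, mul_one]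
      exact Ideal.Quotient.eq_zero_iff_mem.2 (Ideal.subset_span ⟨i, rfl⟩)
    obtain ⟨c, hc⟩ := Ideal.mem_span_range_iff_exists_fun.1 hmem
    exact ⟨c, hc⟩
  choose c hc using hex
  have hann := Groth.Agent.Lib.KosTate.main2235 f hf _ hg hgker (Matrix.of c)
    (fun i => (hc i).symm)
  refine ⟨Groth.Agent.Lib.KosTate.piMap (A := A) f (Matrix.det (Matrix.of c)), hann, ?_, ?_⟩
  · have h1 := Groth.Agent.Lib.KosTate.lmul_comp_piMap (A := A) f (Matrix.det (Matrix.of c))
    refine h1.trans ?_
    rw [AlgHom.map_det, RingHom.map_det]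
    congr 1
    ext i k
    exact muMap_coeff f _ (c i) (f i) (hc i) k
  · intro 𝔞 b hb
    exact Groth.Agent.Lib.KosTate.main2235_inj' f hf _ hg hgker (Matrix.of c)
      (fun i => (hc i).symm) 𝔞 b hb

end main

end Groth.Agent.Lib.JacDiff
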