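import Mathlib
import Groth.Prelude.Def_Disc

/-!
# Noether different in the finite free case, and its zero locus (helper2)
-/

set_option autoImplicit false

namespace NoetherDiffH2

open TensorProduct Disc

universe u v

section Pair

variable {A : Type u} {B : Type v} [CommRing A] [CommRing B] [Algebra A B]

/-- the pairing `ξ = Σ bᵢ ⊗ cᵢ, l ↦ Σ l(bᵢ) cᵢ`. -/
noncomputable def pair (l : Omega A B) : B ⊗[A] B →ₗ[A] B :=
  TensorProduct.lift ((LinearMap.lsmul A B).comp l.toLinearMap)

@[simp] theorem pair_tmul (l : Omega A B) (x y : B) :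
    pair l (x ⊗ₜ[A] y) = l.toLinearMap x • y := by
  simp [pair]

theorem pair_add (l l' : Omega A B) (ξ : B ⊗[A] B) :
    pair (l + l') ξ = pair l ξ + pair l' ξ := by
  induction ξ using TensorProduct.induction_on with
  | zero => simp
  | tmul x y => simp [add_smul]
  | add a b ha hb => rw [map_add, map_add, map_add, ha, hb]; abel

theorem pair_zero (ξ : B ⊗[A] B) : pair (0 : Omega A B) ξ = 0 := by
  induction ξ using TensorProduct.induction_on with
  | zero => simp
  | tmul x y => simp
  | add a b ha hb => rw [map_add, ha, hb, add_zero]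

theorem pair_sum {ι : Type*} (s : Finset ι) (l : ι → Omega A B) (ξ : B ⊗[A] B) :
    pair (∑ i ∈ s, l i) ξ = ∑ i ∈ s, pair (l i) ξ := by
  classical
  induction s using Finset.induction_on with
  | empty => simp [pair_zero]
  | insert a s ha ih => rw [Finset.sum_insert ha, Finset.sum_insert ha, pair_add, ih]

theorem pair_smul_left (l : Omega A B) (b : B) (ξ : B ⊗[A] B) :
    pair l ((b ⊗ₜ[A] (1 : B)) * ξ) = pair (b • l) ξ := by
  induction ξ using TensorProduct.induction_on with
  | zero => simp
  | tmul x y => simp [Algebra.TensorProduct.tmul_mul_tmul]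
  | add a c ha hc => rw [mul_add, map_add, map_add, ha, hc]

theorem pair_smul_right (l : Omega A B) (b : B) (ξ : B ⊗[A] B) :
    pair l (((1 : B) ⊗ₜ[A] b) * ξ) = b * pair l ξ := by
  induction ξ using TensorProduct.induction_on with
  | zero => simp
  | tmul x y => simp [Algebra.TensorProduct.tmul_mul_tmul, mul_smul_comm]
  | add a c ha hc => rw [mul_add, map_add, map_add, ha, hc, mul_add]

/-- `toLinearMap` as an additive hom -/
def toLinearMapHom : Omega A B →+ (B →ₗ[A] A) where
  toFun := Omega.toLinearMap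
  map_zero' := rfl
  map_add' _ _ := rfl

theorem toLinearMap_sum {ι : Type*} (s : Finset ι) (l : ι → Omega A B) :
    (∑ i ∈ s, l i).toLinearMap = ∑ i ∈ s, (l i).toLinearMap :=
  map_sum (toLinearMapHom (A := A) (B := B)) l s

theorem mem_annihilator_iff (ξ : B ⊗[A] B) :
    ξ ∈ Submodule.annihilator (RingHom.ker (Algebra.TensorProduct.lmul' (S := B) A)) ↔
      ∀ s : B, ((1 : B) ⊗ₜ[A] s - s ⊗ₜ[A] (1 : B)) * ξ = 0 := by
  rw [Submodule.mem_annihilator]
  constructor
  · intro h s
    have := h (1 ⊗ₜ s - s ⊗ₜ 1) (KaehlerDifferential.one_smul_sub_smul_one_mem_ideal A s)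
    rw [smul_eq_mul, mul_comm] at this
    exact this
  · intro h n hn
    have key : ∀ n ∈ Ideal.span (Set.range fun s : B => (1 : B) ⊗ₜ[A] s - s ⊗ₜ[A] (1 : B)),
        ξ * n = 0 := by
      intro n hn'
      induction hn' using Submodule.span_induction with
      | mem x hx =>
        obtain ⟨s, rfl⟩ := hx
        rw [mul_comm]
        exact h s
      | zero => simp
      | add x y _ _ hx hy => rw [mul_add, hx, hy, add_zero]
      | smul a x _ hx => rw [smul_eq_mul, mul_left_comm, hx, mul_zero]
    rw [smul_eq_mul]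
    apply key
    rw [KaehlerDifferential.span_range_eq_ideal]
    exact hn

theorem swap_of_mem {ξ : B ⊗[A] B}
    (hξ : ξ ∈ Submodule.annihilator (RingHom.ker (Algebra.TensorProduct.lmul' (S := B) A)))
    (s : B) : (s ⊗ₜ[A] (1 : B)) * ξ = ((1 : B) ⊗ₜ[A] s) * ξ := by
  have := (mem_annihilator_iff ξ).mp hξ s
  rw [sub_mul, sub_eq_zero] at this
  exact this.symm

theorem pair_smul_of_mem {ξ : B ⊗[A] B}
    (hξ : ξ ∈ Submodule.annihilator (RingHom.ker (Algebra.TensorProduct.lmul' (S := B) A)))
    (s : B) (l : Omega A B) : pair (s • l) ξ = s * pair l ξ := by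
  rw [← pair_smul_left, ← pair_smul_right, swap_of_mem hξ]

end Pair

section Basis

variable {A : Type u} {B : Type v} [CommRing A] [CommRing B] [Algebra A B]
variable {ι : Type*} [Fintype ι] [DecidableEq ι] (b : Module.Basis ι A B)
include b

/-- coordinate functionals as elements of `Omega`. -/
noncomputable def coordΩ (i : ι) : Omega A B := ⟨b.coord i⟩

theorem pair_coord (i : ι) (ξ : B ⊗[A] B) :
    pair (coordΩ b i) ξ = TensorProduct.equivFinsuppOfBasisLeft b ξ i := by
  induction ξ using TensorProduct.induction_on with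
  | zero => simp
  | tmul x y => simp [coordΩ, TensorProduct.equivFinsuppOfBasisLeft_apply_tmul_apply]
  | add a c ha hc => rw [map_add, map_add, Finsupp.add_apply, ha, hc]

theorem eq_zero_of_pair_eq_zero (ξ : B ⊗[A] B) (h : ∀ l : Omega A B, pair l ξ = 0) : ξ = 0 := by
  apply (TensorProduct.equivFinsuppOfBasisLeft b).injective
  rw [map_zero]
  ext i
  rw [← pair_coord, h]
  rfl

theorem omega_eq_sum (l : Omega A B) :
    l = ∑ i, (algebraMap A B (l.toLinearMap (b i))) • coordΩ b i := by
  apply Omega.toLinearMap_injective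
  apply b.ext
  intro j
  rw [toLinearMap_sum, LinearMap.sum_apply]
  simp only [Omega.smul_toLinearMap_apply, coordΩ]
  rw [Finset.sum_eq_single j]
  · rw [← Algebra.smul_def, map_smul, Module.Basis.coord_apply, Module.Basis.repr_self,
      Finsupp.single_eq_same, smul_eq_mul, mul_one]
  · intro i _ hij
    rw [← Algebra.smul_def, map_smul, Module.Basis.coord_apply, Module.Basis.repr_self,
      Finsupp.single_apply, if_neg (Ne.symm hij), smul_zero]
  · intro h
    exact absurd (Finset.mem_univ j) h

/-- the tensor attached to a `B`-linear map `Φ : ω → B`. -/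
noncomputable def xi (Φ : Omega A B →ₗ[B] B) : B ⊗[A] B := ∑ i, b i ⊗ₜ[A] Φ (coordΩ b i)

theorem pair_xi (Φ : Omega A B →ₗ[B] B) (l : Omega A B) : pair l (xi b Φ) = Φ l := by
  rw [xi, map_sum]
  conv_rhs => rw [omega_eq_sum b l, map_sum]
  refine Finset.sum_congr rfl fun i _ => ?_
  rw [pair_tmul, map_smul, Algebra.smul_def, smul_eq_mul]

theorem xi_mem (Φ : Omega A B →ₗ[B] B) :
    xi b Φ ∈ Submodule.annihilator (RingHom.ker (Algebra.TensorProduct.lmul' (S := B) A)) := by
  rw [mem_annihilator_iff]
  intro s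
  apply eq_zero_of_pair_eq_zero b
  intro l
  rw [sub_mul, map_sub, pair_smul_right, pair_smul_left, pair_xi, pair_xi, map_smul, smul_eq_mul,
    sub_self]

theorem existsUnique_xi (Φ : Omega A B →ₗ[B] B) :
    ∃! ξ : B ⊗[A] B,
      ξ ∈ Submodule.annihilator (RingHom.ker (Algebra.TensorProduct.lmul' (S := B) A)) ∧
        ∀ l : Omega A B,
          Φ l = TensorProduct.lift ((LinearMap.lsmul A B).comp l.toLinearMap) ξ := by
  refine ⟨xi b Φ, ⟨xi_mem b Φ, fun l => (pair_xi b Φ l).symm⟩, ?_⟩
  rintro ξ' ⟨_, h'⟩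
  rw [← sub_eq_zero]
  apply eq_zero_of_pair_eq_zero b
  intro l
  rw [map_sub, pair_xi, sub_eq_zero]
  exact (h' l).symm

theorem lmul'_eq_sum (ξ : B ⊗[A] B) :
    Algebra.TensorProduct.lmul' (S := B) A ξ = ∑ j, b j * pair (coordΩ b j) ξ := by
  induction ξ using TensorProduct.induction_on with
  | zero => simp
  | tmul x y =>
    simp only [Algebra.TensorProduct.lmul'_apply_tmul, pair_tmul, coordΩ]
    conv_lhs => rw [← b.sum_repr x]
    rw [Finset.sum_mul]
    refine Finset.sum_congr rfl fun j _ => ?_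
    rw [Module.Basis.coord_apply, smul_mul_assoc, mul_smul_comm]
  | add a c ha hc =>
    rw [map_add, ha, hc, ← Finset.sum_add_distrib]
    refine Finset.sum_congr rfl fun j _ => ?_
    rw [map_add, mul_add]

variable [Module.Finite A B] [Module.Free A B]

theorem trace_eq_sum : Omega.trace A B = ∑ j, b j • coordΩ b j := by
  apply Omega.toLinearMap_injective
  ext x
  rw [toLinearMap_sum, LinearMap.sum_apply]
  simp only [Omega.trace, Omega.smul_toLinearMap_apply, coordΩ]
  rw [Algebra.trace_eq_matrix_trace b, Matrix.trace]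
  refine Finset.sum_congr rfl fun j _ => ?_
  rw [Matrix.diag_apply, Algebra.leftMulMatrix_eq_repr_mul, mul_comm]
  rfl

theorem pair_trace_of_mem (ξ : B ⊗[A] B)
    (hξ : ξ ∈ Submodule.annihilator (RingHom.ker (Algebra.TensorProduct.lmul' (S := B) A))) :
    pair (Omega.trace A B) ξ = Algebra.TensorProduct.lmul' (S := B) A ξ := by
  rw [trace_eq_sum b, pair_sum, lmul'_eq_sum b]
  refine Finset.sum_congr rfl fun j _ => ?_
  rw [pair_smul_of_mem hξ]

theorem noetherDifferent_eq :
    (noetherDifferent A B : Set B) =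
      Set.range (fun Φ : Omega A B →ₗ[B] B => Φ (Omega.trace A B)) := by
  ext y
  have hsurj : Function.Surjective (Algebra.TensorProduct.lmul' (S := B) A) :=
    fun y => ⟨y ⊗ₜ 1, by simp⟩
  simp only [SetLike.mem_coe, noetherDifferent, Set.mem_range]
  rw [Ideal.mem_map_iff_of_surjective _ hsurj]
  constructor
  · rintro ⟨ξ, hξ, rfl⟩
    refine ⟨{ toFun := fun l => pair l ξ
              map_add' := fun l l' => pair_add l l' ξ
              map_smul' := fun s l => ?_ }, pair_trace_of_mem b ξ hξ⟩
    simp only [RingHom.id_apply, smul_eq_mul]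
    exact pair_smul_of_mem hξ s l
  · rintro ⟨Φ, rfl⟩
    exact ⟨xi b Φ, xi_mem b Φ, by rw [← pair_trace_of_mem b _ (xi_mem b Φ), pair_xi]⟩

theorem differentSet_eq [Module.Invertible B (Omega A B)] :
    differentSet A B = (noetherDifferent A B : Set B) := by
  rw [noetherDifferent_eq b]
  ext y
  constructor
  · intro hy
    have claim : ∀ t : Module.Dual B (Omega A B) ⊗[B] Omega A B,
        ∃ Φ : Omega A B →ₗ[B] B,
          Φ (Omega.trace A B) = y * contractLeft B (Omega A B) t := by
      intro t
      induction t using TensorProduct.induction_on with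
      | zero => exact ⟨0, by simp⟩
      | tmul Ψ lam =>
        obtain ⟨c, hc⟩ := hy lam.toLinearMap
        have h1 : y • lam = c • Omega.trace A B := by
          apply Omega.toLinearMap_injective
          ext x
          simp [hc x, Omega.trace]
        refine ⟨c • Ψ, ?_⟩
        rw [LinearMap.smul_apply, contractLeft_apply, smul_eq_mul, ← smul_eq_mul (a := y),
          ← map_smul, h1, map_smul, smul_eq_mul]
      | add a c ha hc =>
        obtain ⟨Φ₁, h₁⟩ := ha
        obtain ⟨Φ₂, h₂⟩ := hc
        exact ⟨Φ₁ + Φ₂, by rw [LinearMap.add_apply, h₁, h₂, map_add, mul_add]⟩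
    obtain ⟨t, ht⟩ := (Module.Invertible.bijective (R := B) (M := Omega A B)).2 1
    obtain ⟨Φ, hΦ⟩ := claim t
    exact ⟨Φ, by show Φ (Omega.trace A B) = y; rw [hΦ, ht, mul_one]⟩
  · rintro ⟨Φ, rfl⟩ φ
    refine ⟨Φ ⟨φ⟩, fun x => ?_⟩
    have hcomm : Φ (Omega.trace A B) • (⟨φ⟩ : Omega A B) = Φ ⟨φ⟩ • Omega.trace A B := by
      have := congrArg (TensorProduct.lift ((LinearMap.lsmul B (Omega A B)).comp Φ))
        (Module.Invertible.tmul_comm (R := B) (m₁ := Omega.trace A B) (m₂ := (⟨φ⟩ : Omega A B)))
      simpa using this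
    have := congrArg (fun l => l.toLinearMap x) hcomm
    simpa [Omega.trace] using this

end Basis

section Locus

variable {A : Type u} {B : Type v} [CommRing A] [CommRing B] [Algebra A B]

theorem noetherDifferent_le_annihilator :
    noetherDifferent A B ≤ Module.annihilator B Ω[B⁄A] := by
  intro f hf
  have hsurj : Function.Surjective (Algebra.TensorProduct.lmul' (S := B) A) :=
    fun y => ⟨y ⊗ₜ 1, by simp⟩
  rw [noetherDifferent, Ideal.mem_map_iff_of_surjective _ hsurj] at hf
  obtain ⟨s, hs, rfl⟩ := hf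
  rw [Module.mem_annihilator]
  intro m
  obtain ⟨x, rfl⟩ := KaehlerDifferential.fromIdeal_surjective A B m
  rw [← algebraMap_smul (B ⊗[A] B) (Algebra.TensorProduct.lmul' (S := B) A s), ← map_smul]
  refine (Ideal.toCotangent_eq_zero _ _).mpr ?_
  rw [pow_two]
  have hsx : s * (x : B ⊗[A] B) = 0 := by
    have := (Submodule.mem_annihilator.mp hs) x x.2
    rwa [smul_eq_mul] at this
  have heq : ((algebraMap B (B ⊗[A] B) (Algebra.TensorProduct.lmul' (S := B) A s) • x : _) :
      B ⊗[A] B) = (algebraMap B (B ⊗[A] B) (Algebra.TensorProduct.lmul' (S := B) A s) - s) *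
        (x : B ⊗[A] B) := by
    rw [sub_mul, hsx, sub_zero]
    rfl
  rw [heq]
  refine Ideal.mul_mem_mul ?_ x.2
  rw [RingHom.mem_ker, map_sub, Algebra.TensorProduct.algebraMap_apply]
  simp

theorem exists_pow_mem_noetherDifferent [Algebra.FiniteType A B] (f : B)
    (hf : f ∈ Module.annihilator B Ω[B⁄A]) : ∃ n : ℕ, f ^ n ∈ noetherDifferent A B := by
  classical
  set I := KaehlerDifferential.ideal A B with hI
  have hfg : I.FG := KaehlerDifferential.ideal_fg A B
  haveI : Module.Finite (B ⊗[A] B) I := Module.Finite.of_fg hfg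
  set g : B ⊗[A] B := algebraMap B (B ⊗[A] B) f with hg
  let φ : Module.End (B ⊗[A] B) I := algebraMap (B ⊗[A] B) (Module.End (B ⊗[A] B) I) g
  have hrange : LinearMap.range φ ≤ I • (⊤ : Submodule (B ⊗[A] B) I) := by
    rintro _ ⟨x, rfl⟩
    have h0 : f • KaehlerDifferential.fromIdeal A B x = 0 := Module.mem_annihilator.mp hf _
    rw [← algebraMap_smul (B ⊗[A] B) f, ← map_smul] at h0
    have h1 : (g • x : I) ∈ I • (⊤ : Submodule (B ⊗[A] B) I) :=
      (Submodule.Quotient.mk_eq_zero _).mp h0
    exact h1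
  obtain ⟨p, hpm, -, hpc, hp0⟩ :=
    LinearMap.exists_monic_and_natDegree_eq_and_coeff_mem_pow_and_aeval_eq_zero (B ⊗[A] B) φ I hrange
  set n := p.natDegree with hn
  set s : B ⊗[A] B := Polynomial.aeval g p with hs
  have hsann : s ∈ Submodule.annihilator I := by
    rw [Submodule.mem_annihilator]
    intro x hx
    have h1 : Polynomial.aeval φ p = algebraMap (B ⊗[A] B) (Module.End (B ⊗[A] B) I) s :=
      Polynomial.aeval_algebraMap_apply _ g p
    have h2 : (algebraMap (B ⊗[A] B) (Module.End (B ⊗[A] B) I) s) ⟨x, hx⟩ = 0 := by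
      rw [← h1, hp0]
      rfl
    rw [Module.algebraMap_end_apply] at h2
    exact congrArg Subtype.val h2
  refine ⟨n, ?_⟩
  have hμ : Algebra.TensorProduct.lmul' (S := B) A s = f ^ n := by
    rw [hs, Polynomial.aeval_eq_sum_range, map_sum, ← hn, Finset.sum_range_succ]
    rw [Finset.sum_eq_zero, zero_add]
    · rw [hn, hpm.coeff_natDegree, one_smul, map_pow, hg, Algebra.TensorProduct.algebraMap_apply]
      simp
    · intro k hk
      rw [Finset.mem_range] at hk
      rw [smul_eq_mul, map_mul]
      have hck : p.coeff k ∈ I := Ideal.pow_le_self (by omega) (hpc k)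
      rw [show Algebra.TensorProduct.lmul' (S := B) A (p.coeff k) = 0 from hck, zero_mul]
  rw [← hμ]
  exact Ideal.mem_map_of_mem _ hsann

theorem zeroLocus_noetherDifferent [Algebra.FiniteType A B] :
    {q : PrimeSpectrum B | noetherDifferent A B ≤ q.asIdeal} =
      (Algebra.unramifiedLocus A B)ᶜ := by
  rw [Algebra.unramifiedLocus_eq_compl_support, compl_compl]
  ext q
  rw [Module.mem_support_iff_of_finite]
  show noetherDifferent A B ≤ q.asIdeal ↔ _
  constructor
  · intro h f hf
    obtain ⟨n, hn⟩ := exists_pow_mem_noetherDifferent f hf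
    exact q.isPrime.mem_of_pow_mem n (h hn)
  · intro h
    exact noetherDifferent_le_annihilator.trans h

end Locus

end NoetherDiffH2
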