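import Mathlib
import Groth.Prelude.Def_Disc
import Groth.Agent.Lib.NoetherDiff_helper2
import Groth.Agent.Lib.KosTate5_helper6

/-!
# The Noether different of a quasi-finite global complete intersection (helper6), part 6:
for a finite free algebra, a generator `Δ` of the annihilator of the diagonal which is a
non-zero-divisor modulo every ideal of the base gives an isomorphism `ω → B`.
-/

set_option autoImplicit false
universe u
open scoped TensorProduct
open NoetherDiffH2 Disc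

namespace Groth.Agent.Lib.JacDiff

section abstract
variable {A B : Type u} [CommRing A] [CommRing B] [Algebra A B]

/-- the map `ω → B` attached to an element of the annihilator of the diagonal -/
noncomputable def deltaMap (Δ : B ⊗[A] B)
    (hΔ : Δ ∈ Submodule.annihilator (RingHom.ker (Algebra.TensorProduct.lmul' (S := B) A))) :
    Omega A B →ₗ[B] B :=
  { toFun := fun l => pair l Δ
    map_add' := fun l l' => pair_add l l' Δ
    map_smul' := fun s l => by
      simp only [RingHom.id_apply, smul_eq_mul]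
      exact pair_smul_of_mem hΔ s l }

@[simp] lemma deltaMap_apply (Δ : B ⊗[A] B)
    (hΔ : Δ ∈ Submodule.annihilator (RingHom.ker (Algebra.TensorProduct.lmul' (S := B) A)))
    (l : Omega A B) : deltaMap Δ hΔ l = pair l Δ := rfl

theorem eq_sum_tmul_pair {ι : Type*} [Fintype ι] [DecidableEq ι] (b : Module.Basis ι A B)
    (ξ : B ⊗[A] B) : ξ = ∑ i, b i ⊗ₜ[A] pair (coordΩ b i) ξ := by
  induction ξ using TensorProduct.induction_on with
  | zero => simp
  | tmul x y =>
    simp only [pair_tmul, coordΩ]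
    conv_lhs => rw [← b.sum_repr x]
    rw [TensorProduct.sum_tmul]
    refine Finset.sum_congr rfl fun i _ => ?_
    rw [TensorProduct.smul_tmul]
    rfl
  | add a c ha hc =>
    conv_lhs => rw [ha, hc]
    rw [← Finset.sum_add_distrib]
    refine Finset.sum_congr rfl fun i _ => ?_
    rw [map_add, TensorProduct.tmul_add]

theorem mem_smul_top_of_pair {ι : Type*} [Fintype ι] [DecidableEq ι] (b : Module.Basis ι A B)
    (𝔞 : Ideal A) (ξ : B ⊗[A] B)
    (h : ∀ l : Omega A B, pair l ξ ∈ (𝔞 • ⊤ : Submodule A B)) :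
    ξ ∈ (𝔞 • ⊤ : Submodule A (B ⊗[A] B)) := by
  rw [eq_sum_tmul_pair b ξ]
  refine Submodule.sum_mem _ fun i _ => ?_
  exact Groth.Agent.Lib.KosTate.map_mem_smul_top 𝔞 (TensorProduct.mk A B B (b i)) (h (coordΩ b i))

lemma mem_smul_top_iff_mem_map' (𝔞 : Ideal A) (x : B) :
    x ∈ (𝔞 • ⊤ : Submodule A B) ↔ x ∈ Ideal.map (algebraMap A B) 𝔞 := by
  rw [Ideal.smul_top_eq_map, Submodule.restrictScalars_mem]

theorem deltaMap_surjective [IsNoetherianRing A] [Module.Finite A B] [Module.Free A B]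
    (Δ : B ⊗[A] B)
    (hΔ : Δ ∈ Submodule.annihilator (RingHom.ker (Algebra.TensorProduct.lmul' (S := B) A)))
    (hinj : ∀ (𝔞 : Ideal A) (b : B),
      (b ⊗ₜ[A] (1 : B)) * Δ ∈ (𝔞 • ⊤ : Submodule A (B ⊗[A] B)) →
        b ∈ (𝔞 • ⊤ : Submodule A B)) :
    Function.Surjective (deltaMap Δ hΔ) := by
  classical
  let bas := Module.Free.chooseBasis A B
  haveI : IsNoetherianRing B := IsNoetherianRing.of_finite A B
  haveI : Algebra.IsIntegral A B := Algebra.IsIntegral.of_finite A B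
  rw [← LinearMap.range_eq_top]
  by_contra hne
  obtain ⟨𝔫, h𝔫max, hle⟩ := Ideal.exists_le_maximal (LinearMap.range (deltaMap Δ hΔ)) hne
  haveI := h𝔫max
  have h𝔪 : (𝔫.comap (algebraMap A B)).IsMaximal :=
    Ideal.isMaximal_comap_of_isIntegral_of_isMaximal 𝔫
  have h𝔪B_le : Ideal.map (algebraMap A B) (𝔫.comap (algebraMap A B)) ≤ 𝔫 := Ideal.map_comap_le
  have hmin : 𝔫 ∈ (Ideal.map (algebraMap A B) (𝔫.comap (algebraMap A B))).minimalPrimes := by
    refine ⟨⟨h𝔫max.isPrime, h𝔪B_le⟩, ?_⟩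
    rintro 𝔭 ⟨h𝔭prime, h𝔭le⟩ h𝔭𝔫
    have h1 : 𝔫.comap (algebraMap A B) ≤ 𝔭.comap (algebraMap A B) :=
      Ideal.map_le_iff_le_comap.1 h𝔭le
    have h2 : 𝔫.comap (algebraMap A B) = 𝔭.comap (algebraMap A B) :=
      h𝔪.eq_of_le (Ideal.comap_ne_top _ h𝔭prime.ne_top) h1
    have h3 : (𝔭.comap (algebraMap A B)).IsMaximal := h2 ▸ h𝔪
    haveI := h𝔭prime
    have h𝔭max : 𝔭.IsMaximal := Ideal.isMaximal_of_isIntegral_of_isMaximal_comap 𝔭 h3
    exact (h𝔭max.eq_of_le h𝔫max.ne_top h𝔭𝔫).ge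
  have hass : 𝔫 ∈ associatedPrimes B
      (B ⧸ Ideal.map (algebraMap A B) (𝔫.comap (algebraMap A B))) := by
    apply Module.associatedPrimes.minimalPrimes_annihilator_subset_associatedPrimes B
      (B ⧸ Ideal.map (algebraMap A B) (𝔫.comap (algebraMap A B)))
    rw [Ideal.annihilator_quotient]
    exact hmin
  obtain ⟨-, x, hx⟩ := isAssociatedPrime_iff.1 hass
  obtain ⟨b, rfl⟩ := Ideal.Quotient.mk_surjective x
  have hb𝔫 : ∀ r : B, r ∈ 𝔫 ↔
      r * b ∈ Ideal.map (algebraMap A B) (𝔫.comap (algebraMap A B)) := by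
    intro r
    have h1 : r ∈ 𝔫 ↔ r • (Ideal.Quotient.mk
        (Ideal.map (algebraMap A B) (𝔫.comap (algebraMap A B))) b) = 0 := by
      conv_lhs => rw [hx]
      rw [Submodule.mem_colon_singleton, Submodule.mem_bot]
    rw [h1, ← Ideal.Quotient.eq_zero_iff_mem]
    rfl
  have hb : b ∉ Ideal.map (algebraMap A B) (𝔫.comap (algebraMap A B)) := fun h =>
    h𝔫max.ne_top ((Ideal.eq_top_iff_one _).2 ((hb𝔫 1).2 (by rwa [one_mul])))
  apply hb
  rw [← mem_smul_top_iff_mem_map']
  apply hinj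
  rw [swap_of_mem hΔ b]
  apply mem_smul_top_of_pair bas
  intro l
  rw [pair_smul_right, mem_smul_top_iff_mem_map', mul_comm]
  exact (hb𝔫 _).1 (hle ⟨l, rfl⟩)

end abstract

end Groth.Agent.Lib.JacDiff
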