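import Mathlib
import Groth.Prelude.Def_Disc
import Groth.Agent.Lib.JacDiff5_helper6
import Groth.Agent.Lib.JacDiff6_helper6

/-!
# The Noether different of a quasi-finite global complete intersection (helper6), part 7:
the isomorphism `B ≃ ω_{B/A}` carrying the Jacobian determinant to the trace, for a finite free
global complete intersection `B = A[x_1..x_n]/(f_1..f_n)`.
-/

set_option autoImplicit false
universe u
open scoped TensorProduct
open NoetherDiffH2 Disc

namespace Groth.Agent.Lib.JacDiff

section abstract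
variable {A B : Type u} [CommRing A] [CommRing B] [Algebra A B]

theorem pair_smulA (a : A) (φ : B →ₗ[A] A) (ξ : B ⊗[A] B) :
    pair (⟨a • φ⟩ : Omega A B) ξ = a • pair (⟨φ⟩ : Omega A B) ξ := by
  induction ξ using TensorProduct.induction_on with
  | zero => simp
  | tmul x y => simp [mul_smul]
  | add a c ha hc => rw [map_add, map_add, ha, hc, smul_add]

/-- the `A`-linear version of `deltaMap` -/
noncomputable def deltaMapA (Δ : B ⊗[A] B) : (B →ₗ[A] A) →ₗ[A] B where
  toFun φ := pair (⟨φ⟩ : Omega A B) Δ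
  map_add' φ ψ := pair_add (⟨φ⟩ : Omega A B) ⟨ψ⟩ Δ
  map_smul' a φ := pair_smulA a φ Δ

theorem deltaMap_bijective [IsNoetherianRing A] [Module.Finite A B] [Module.Free A B]
    (Δ : B ⊗[A] B)
    (hΔ : Δ ∈ Submodule.annihilator (RingHom.ker (Algebra.TensorProduct.lmul' (S := B) A)))
    (hinj : ∀ (𝔞 : Ideal A) (b : B),
      (b ⊗ₜ[A] (1 : B)) * Δ ∈ (𝔞 • ⊤ : Submodule A (B ⊗[A] B)) →
        b ∈ (𝔞 • ⊤ : Submodule A B)) :
    Function.Bijective (deltaMap Δ hΔ) := by
  classical
  have hs := deltaMap_surjective Δ hΔ hinj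
  refine ⟨?_, hs⟩
  have hsA : Function.Surjective (deltaMapA (A := A) Δ) := fun y => by
    obtain ⟨l, hl⟩ := hs y
    exact ⟨l.toLinearMap, hl⟩
  let bas := Module.Free.chooseBasis A B
  have hiA : Function.Injective (deltaMapA (A := A) Δ) :=
    OrzechProperty.injective_of_surjective_of_injective bas.toDualEquiv.symm.toLinearMap
      (deltaMapA (A := A) Δ) bas.toDualEquiv.symm.injective hsA
  intro l l' h
  exact Omega.toLinearMap_injective (hiA h)

theorem deltaMap_trace [Module.Finite A B] [Module.Free A B]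
    (Δ : B ⊗[A] B)
    (hΔ : Δ ∈ Submodule.annihilator (RingHom.ker (Algebra.TensorProduct.lmul' (S := B) A))) :
    deltaMap Δ hΔ (Omega.trace A B) = Algebra.TensorProduct.lmul' (S := B) A Δ := by
  classical
  exact pair_trace_of_mem (Module.Free.chooseBasis A B) Δ hΔ

end abstract

section main
variable (A : Type u) [CommRing A] [IsNoetherianRing A] (n : ℕ)
  (f : Fin n → MvPolynomial (Fin n) A)

theorem main8969
    [Module.Finite A (MvPolynomial (Fin n) A ⧸ Ideal.span (Set.range f))]
    [Module.Free A (MvPolynomial (Fin n) A ⧸ Ideal.span (Set.range f))] :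
    ∃ e : (MvPolynomial (Fin n) A ⧸ Ideal.span (Set.range f)) ≃ₗ[MvPolynomial (Fin n) A ⧸
        Ideal.span (Set.range f)] Disc.Omega A (MvPolynomial (Fin n) A ⧸ Ideal.span (Set.range f)),
      e (Ideal.Quotient.mk (Ideal.span (Set.range f))
        (Matrix.det (Matrix.of fun i j : Fin n => MvPolynomial.pderiv j (f i)))) =
        Disc.Omega.trace A (MvPolynomial (Fin n) A ⧸ Ideal.span (Set.range f)) := by
  obtain ⟨Δ, hann, hmu, hinj⟩ := exists_Delta f
  have hΔ : Δ ∈ Submodule.annihilator (RingHom.ker (Algebra.TensorProduct.lmul'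
      (S := MvPolynomial (Fin n) A ⧸ Ideal.span (Set.range f)) A)) := by
    rw [hann]
    exact Ideal.subset_span rfl
  have hbij := deltaMap_bijective Δ hΔ hinj
  refine ⟨(LinearEquiv.ofBijective (deltaMap Δ hΔ) hbij).symm, ?_⟩
  rw [LinearEquiv.symm_apply_eq, LinearEquiv.ofBijective_apply, deltaMap_trace, hmu]

end main

end Groth.Agent.Lib.JacDiff
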