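import Mathlib
import Groth.Prelude.Def_Disc

set_option autoImplicit false
set_option maxHeartbeats 1000000

open TensorProduct

namespace Groth.Agent.Lib.NoetherDiffBC

universe u

theorem mem_ann_span_range {R : Type*} [CommRing R] {n : ℕ} (x : Fin n → R) (t : R)
    (h : ∀ i, t * x i = 0) : t ∈ Submodule.annihilator (Ideal.span (Set.range x)) := by
  rw [Submodule.mem_annihilator]
  intro y hy
  refine Submodule.span_induction (p := fun y _ => t • y = 0) ?_ ?_ ?_ ?_ hy
  · rintro _ ⟨i, rfl⟩; exact h i
  · simp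
  · intro a b _ _ ha hb; rw [smul_add, ha, hb, add_zero]
  · intro c a _ ha
    rw [smul_eq_mul, smul_eq_mul] at *
    rw [mul_left_comm, ha, mul_zero]

variable (A B A' B' : Type u) [CommRing A] [CommRing B] [CommRing A'] [CommRing B']
  [Algebra A B] [Algebra A A'] [Algebra A B'] [Algebra B B'] [Algebra A' B']
  [IsScalarTower A B B'] [IsScalarTower A A' B']

/-- The comparison map `B ⊗[A] B → B' ⊗[A'] B'`. -/
noncomputable def gMap : B ⊗[A] B →ₐ[A] B' ⊗[A'] B' :=
  Algebra.TensorProduct.productMap
    ((IsScalarTower.toAlgHom A B' (B' ⊗[A'] B')).comp (IsScalarTower.toAlgHom A B B'))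
    (((Algebra.TensorProduct.includeRight : B' →ₐ[A'] B' ⊗[A'] B').restrictScalars A).comp
      (IsScalarTower.toAlgHom A B B'))

theorem gMap_tmul (b₁ b₂ : B) :
    gMap A B A' B' (b₁ ⊗ₜ[A] b₂) = algebraMap B B' b₁ ⊗ₜ[A'] algebraMap B B' b₂ := by
  simp [gMap, Algebra.TensorProduct.algebraMap_apply]

theorem lmul_gMap (t : B ⊗[A] B) :
    Algebra.TensorProduct.lmul' (S := B') A' (gMap A B A' B' t) =
      algebraMap B B' (Algebra.TensorProduct.lmul' (S := B) A t) := by
  induction t with
  | zero => simp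
  | tmul x y => simp [gMap_tmul A B A' B']
  | add x y hx hy => simp only [map_add, hx, hy]

variable [Algebra.IsPushout A B A' B']

noncomputable def eB : A' ⊗[A] B ≃ₗ[A'] B' :=
  ((Algebra.IsPushout.symm (inferInstanceAs (Algebra.IsPushout A B A' B'))).out).equiv

theorem eB_tmul (a : A') (b : B) : eB A B A' B' (a ⊗ₜ[A] b) = a • algebraMap B B' b :=
  IsBaseChange.equiv_tmul _ a b

noncomputable def Psi : A' ⊗[A] (B ⊗[A] B) ≃ₗ[A'] B' ⊗[A'] B' :=
  (AlgebraTensorModule.distribBaseChange A A' B B).trans
    (TensorProduct.congr (eB A B A' B') (eB A B A' B'))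

theorem Psi_tmul (a : A') (t : B ⊗[A] B) :
    Psi A B A' B' (a ⊗ₜ[A] t) = a • gMap A B A' B' t := by
  induction t with
  | zero => simp
  | tmul x y =>
    simp only [Psi, LinearEquiv.trans_apply, AlgebraTensorModule.distribBaseChange_tmul,
      TensorProduct.congr_tmul, eB_tmul A B A' B', gMap_tmul A B A' B', one_smul]
    exact (TensorProduct.smul_tmul' a _ _).symm
  | add x y hx hy => simp only [tmul_add, map_add, smul_add, hx, hy]

theorem Psi_lTensor_mem (I : Ideal (B ⊗[A] B)) (K : Submodule A (B ⊗[A] B))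
    (hK : ∀ κ ∈ K, κ ∈ I) (w : A' ⊗[A] K) :
    Psi A B A' B' (AlgebraTensorModule.lTensor A' A' K.subtype w) ∈
      Ideal.map (gMap A B A' B') I := by
  induction w with
  | zero => simp
  | tmul a κ =>
    rw [AlgebraTensorModule.lTensor_tmul, Psi_tmul A B A' B', Algebra.smul_def]
    exact Ideal.mul_mem_left _ _ (Ideal.mem_map_of_mem _ (hK κ κ.2))
  | add y₁ y₂ h₁ h₂ => rw [map_add, map_add]; exact add_mem h₁ h₂

variable [Module.Flat A A']

theorem mem_map_ann {n : ℕ} (x : Fin n → B ⊗[A] B) (t' : B' ⊗[A'] B')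
    (h : ∀ i, t' * gMap A B A' B' (x i) = 0) :
    t' ∈ Ideal.map (gMap A B A' B') (Submodule.annihilator (Ideal.span (Set.range x))) := by
  classical
  let F : (B ⊗[A] B) →ₗ[A] (Fin n → B ⊗[A] B) :=
    LinearMap.pi (fun i => LinearMap.mulRight A (x i))
  have hker : ∀ t ∈ LinearMap.ker F,
      t ∈ Submodule.annihilator (Ideal.span (Set.range x)) := by
    intro t ht
    apply mem_ann_span_range
    intro i
    have := congrFun (LinearMap.mem_ker.mp ht) i
    simpa [F] using this
  obtain ⟨z, rfl⟩ := (Psi A B A' B').surjective t'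
  have hA : ∀ (i : Fin n) (w : A' ⊗[A] (B ⊗[A] B)),
      Psi A B A' B' (AlgebraTensorModule.lTensor A' A' (LinearMap.mulRight A (x i)) w) =
        Psi A B A' B' w * gMap A B A' B' (x i) := by
    intro i w
    induction w with
    | zero => simp
    | tmul a t =>
      rw [AlgebraTensorModule.lTensor_tmul, Psi_tmul A B A' B', Psi_tmul A B A' B', LinearMap.mulRight_apply, map_mul,
        smul_mul_assoc]
    | add y₁ y₂ h₁ h₂ => simp only [map_add, add_mul, h₁, h₂]
  have hB : ∀ (i : Fin n) (w : A' ⊗[A] (B ⊗[A] B)),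
      TensorProduct.piRight A A' A' (fun _ : Fin n => B ⊗[A] B)
        (AlgebraTensorModule.lTensor A' A' F w) i =
        AlgebraTensorModule.lTensor A' A' (LinearMap.mulRight A (x i)) w := by
    intro i w
    induction w with
    | zero => simp
    | tmul a t =>
      simp only [AlgebraTensorModule.lTensor_tmul, TensorProduct.piRight_apply,
        TensorProduct.piRightHom_tmul]
      rfl
    | add y₁ y₂ h₁ h₂ => simp only [map_add, Pi.add_apply, h₁, h₂]
  have hz0 : AlgebraTensorModule.lTensor A' A' F z = 0 := by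
    apply (TensorProduct.piRight A A' A' (fun _ : Fin n => B ⊗[A] B)).injective
    rw [map_zero]
    funext i
    rw [hB i z]
    show AlgebraTensorModule.lTensor A' A' (LinearMap.mulRight A (x i)) z = 0
    apply (Psi A B A' B').injective
    rw [hA i z, map_zero]
    exact h i
  have hz1 : z ∈ LinearMap.ker (AlgebraTensorModule.lTensor A' A' F) := LinearMap.mem_ker.mpr hz0
  rw [Module.Flat.ker_lTensor_eq A' A' F] at hz1
  obtain ⟨w, rfl⟩ := hz1
  exact Psi_lTensor_mem A B A' B' _ (LinearMap.ker F) hker w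

theorem main [Algebra.FiniteType A B] :
    Disc.noetherDifferent A' B' = (Disc.noetherDifferent A B).map (algebraMap B B') := by
  classical
  have hfg : (KaehlerDifferential.ideal A B).FG := KaehlerDifferential.ideal_fg A B
  obtain ⟨n, x, hx⟩ := Submodule.fg_iff_exists_fin_generating_family.mp hfg
  have hxJ : ∀ i, x i ∈ KaehlerDifferential.ideal A B := fun i => by
    rw [← hx]; exact Submodule.subset_span ⟨i, rfl⟩
  have hJ' : KaehlerDifferential.ideal A' B' =
      Ideal.map (gMap A B A' B') (KaehlerDifferential.ideal A B) := by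
    apply le_antisymm
    · rw [← KaehlerDifferential.span_range_eq_ideal, Ideal.span_le]
      rintro _ ⟨b', rfl⟩
      have hbc : IsBaseChange A' (IsScalarTower.toAlgHom A B B').toLinearMap :=
        (Algebra.IsPushout.symm (inferInstanceAs (Algebra.IsPushout A B A' B'))).out
      refine hbc.inductionOn b' (fun b' => (1 : B') ⊗ₜ[A'] b' - b' ⊗ₜ[A'] (1 : B') ∈
        Ideal.map (gMap A B A' B') (KaehlerDifferential.ideal A B)) ?_ ?_ ?_ ?_
      · simp
      · intro m
        have : (1 : B') ⊗ₜ[A'] (IsScalarTower.toAlgHom A B B').toLinearMap m -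
            (IsScalarTower.toAlgHom A B B').toLinearMap m ⊗ₜ[A'] (1 : B') =
            gMap A B A' B' ((1 : B) ⊗ₜ[A] m - m ⊗ₜ[A] (1 : B)) := by
          rw [map_sub, gMap_tmul A B A' B', gMap_tmul A B A' B', map_one]; rfl
        rw [this]
        exact Ideal.mem_map_of_mem _ (KaehlerDifferential.one_smul_sub_smul_one_mem_ideal A m)
      · intro s y hy
        have : (1 : B') ⊗ₜ[A'] (s • y) - (s • y) ⊗ₜ[A'] (1 : B') =
            algebraMap A' (B' ⊗[A'] B') s * ((1 : B') ⊗ₜ[A'] y - y ⊗ₜ[A'] (1 : B')) := by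
          rw [← Algebra.smul_def, smul_sub, TensorProduct.tmul_smul, ← TensorProduct.smul_tmul']
        rw [this]
        exact Ideal.mul_mem_left _ _ hy
      · intro y₁ y₂ h₁ h₂
        have : (1 : B') ⊗ₜ[A'] (y₁ + y₂) - (y₁ + y₂) ⊗ₜ[A'] (1 : B') =
            ((1 : B') ⊗ₜ[A'] y₁ - y₁ ⊗ₜ[A'] (1 : B')) +
              ((1 : B') ⊗ₜ[A'] y₂ - y₂ ⊗ₜ[A'] (1 : B')) := by
          rw [TensorProduct.tmul_add, TensorProduct.add_tmul]; abel
        rw [this]; exact add_mem h₁ h₂
    · rw [Ideal.map_le_iff_le_comap]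
      intro j hj
      rw [Ideal.mem_comap]
      show Algebra.TensorProduct.lmul' (S := B') A' (gMap A B A' B' j) = 0
      rw [lmul_gMap A B A' B']
      have : Algebra.TensorProduct.lmul' (S := B) A j = 0 := hj
      rw [this, map_zero]
  have hAnn : ∀ t' : B' ⊗[A'] B', t' ∈ Submodule.annihilator (KaehlerDifferential.ideal A' B') →
      t' ∈ Ideal.map (gMap A B A' B')
        (Submodule.annihilator (KaehlerDifferential.ideal A B)) := by
    intro t' ht'
    have h1 : ∀ i, t' * gMap A B A' B' (x i) = 0 := by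
      intro i
      have hmem : gMap A B A' B' (x i) ∈ KaehlerDifferential.ideal A' B' := by
        rw [hJ']; exact Ideal.mem_map_of_mem _ (hxJ i)
      have := (Submodule.mem_annihilator.mp ht') _ hmem
      simpa [smul_eq_mul] using this
    have := mem_map_ann A B A' B' x t' h1
    rwa [show Ideal.span (Set.range x) = KaehlerDifferential.ideal A B from hx] at this
  unfold Disc.noetherDifferent
  apply le_antisymm
  · rw [Ideal.map_le_iff_le_comap]
    intro t' ht'
    have h2 := hAnn t' ht'
    have hle : Ideal.map (gMap A B A' B')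
        (Submodule.annihilator (KaehlerDifferential.ideal A B)) ≤
        Ideal.comap (Algebra.TensorProduct.lmul' (S := B') A')
          (Ideal.map (algebraMap B B') (Ideal.map (Algebra.TensorProduct.lmul' (S := B) A)
            (Submodule.annihilator (KaehlerDifferential.ideal A B)))) := by
      rw [Ideal.map_le_iff_le_comap]
      intro t ht
      rw [Ideal.mem_comap, Ideal.mem_comap, lmul_gMap A B A' B']
      exact Ideal.mem_map_of_mem _ (Ideal.mem_map_of_mem _ ht)
    exact hle h2
  · rw [Ideal.map_le_iff_le_comap, Ideal.map_le_iff_le_comap]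
    intro t ht
    rw [Ideal.mem_comap, Ideal.mem_comap, ← lmul_gMap A B A' B']
    apply Ideal.mem_map_of_mem
    rw [Submodule.mem_annihilator]
    intro y hy
    have hy' : y ∈ Ideal.span ((gMap A B A' B') '' (KaehlerDifferential.ideal A B : Set _)) := by
      have : y ∈ Ideal.map (gMap A B A' B') (KaehlerDifferential.ideal A B) := by
        rw [← hJ']; exact hy
      exact this
    refine Submodule.span_induction (p := fun y _ => gMap A B A' B' t • y = 0) ?_ ?_ ?_ ?_ hy'
    · rintro _ ⟨j, hj, rfl⟩
      rw [smul_eq_mul, ← map_mul]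
      have : t * j = 0 := by simpa [smul_eq_mul] using (Submodule.mem_annihilator.mp ht) j hj
      rw [this, map_zero]
    · simp
    · intro a b _ _ ha hb; rw [smul_add, ha, hb, add_zero]
    · intro c a _ ha
      rw [smul_eq_mul, smul_eq_mul] at *
      rw [mul_left_comm, ha, mul_zero]

end Groth.Agent.Lib.NoetherDiffBC
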