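import Mathlib
import Groth.Prelude.Def_Disc
import Groth.Agent.Lib.NoetherDiffBC_lead

set_option autoImplicit false
set_option maxHeartbeats 1000000

open TensorProduct CategoryTheory AlgebraicGeometry

namespace Groth.Agent.Lib.NoetherDiffOI

open Groth.Agent.Lib.NoetherDiffBC

universe u

theorem mem_map_ann_of_flat {T₀ T₁ : Type u} [CommRing T₀] [CommRing T₁] (g : T₀ →+* T₁)
    (hg : g.Flat) {n : ℕ} (x : Fin n → T₀) (t : T₁) (h : ∀ i, t * g (x i) = 0) :
    t ∈ Ideal.map g (Submodule.annihilator (Ideal.span (Set.range x))) := by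
  classical
  letI : Algebra T₀ T₁ := g.toAlgebra
  haveI : Module.Flat T₀ T₁ := hg
  have hsm : ∀ (r : T₀) (m : T₁), r • m = g r * m := fun r m => by
    rw [Algebra.smul_def, RingHom.algebraMap_toAlgebra]
  let Ψ : T₁ ⊗[T₀] T₀ ≃ₗ[T₁] T₁ := AlgebraTensorModule.rid T₀ T₁ T₁
  have hΨ : ∀ (m : T₁) (r : T₀), Ψ (m ⊗ₜ[T₀] r) = g r * m := fun m r => by
    simp only [Ψ, AlgebraTensorModule.rid_tmul, hsm]
  let F : T₀ →ₗ[T₀] (Fin n → T₀) := LinearMap.pi (fun i => LinearMap.mulRight T₀ (x i))
  have hker : ∀ r ∈ LinearMap.ker F,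
      r ∈ Submodule.annihilator (Ideal.span (Set.range x)) := by
    intro r hr
    apply mem_ann_span_range
    intro i
    have := congrFun (LinearMap.mem_ker.mp hr) i
    simpa [F] using this
  have hfin : ∀ w : T₁ ⊗[T₀] (LinearMap.ker F),
      Ψ (AlgebraTensorModule.lTensor T₁ T₁ (LinearMap.ker F).subtype w) ∈
        Ideal.map g (Submodule.annihilator (Ideal.span (Set.range x))) := by
    intro w
    induction w with
    | zero => simp
    | tmul m κ =>
      rw [AlgebraTensorModule.lTensor_tmul, hΨ]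
      exact Ideal.mul_mem_right _ _ (Ideal.mem_map_of_mem _ (hker κ κ.2))
    | add y₁ y₂ h₁ h₂ => rw [map_add, map_add]; exact add_mem h₁ h₂
  obtain ⟨z, rfl⟩ := Ψ.surjective t
  have hA : ∀ (i : Fin n) (w : T₁ ⊗[T₀] T₀),
      Ψ (AlgebraTensorModule.lTensor T₁ T₁ (LinearMap.mulRight T₀ (x i)) w) =
        Ψ w * g (x i) := by
    intro i w
    induction w with
    | zero => simp
    | tmul m r =>
      rw [AlgebraTensorModule.lTensor_tmul, hΨ, hΨ, LinearMap.mulRight_apply, map_mul]; ring
    | add y₁ y₂ h₁ h₂ => simp only [map_add, add_mul, h₁, h₂]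
  have hB : ∀ (i : Fin n) (w : T₁ ⊗[T₀] T₀),
      TensorProduct.piRight T₀ T₁ T₁ (fun _ : Fin n => T₀)
        (AlgebraTensorModule.lTensor T₁ T₁ F w) i =
        AlgebraTensorModule.lTensor T₁ T₁ (LinearMap.mulRight T₀ (x i)) w := by
    intro i w
    induction w with
    | zero => simp
    | tmul m r =>
      simp only [AlgebraTensorModule.lTensor_tmul, TensorProduct.piRight_apply,
        TensorProduct.piRightHom_tmul]
      rfl
    | add y₁ y₂ h₁ h₂ => simp only [map_add, Pi.add_apply, h₁, h₂]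
  have hz0 : AlgebraTensorModule.lTensor T₁ T₁ F z = 0 := by
    apply (TensorProduct.piRight T₀ T₁ T₁ (fun _ : Fin n => T₀)).injective
    rw [map_zero]
    funext i
    rw [hB i z]
    show AlgebraTensorModule.lTensor T₁ T₁ (LinearMap.mulRight T₀ (x i)) z = 0
    apply Ψ.injective
    rw [hA i z, map_zero]
    exact h i
  have hz1 : z ∈ LinearMap.ker (AlgebraTensorModule.lTensor T₁ T₁ F) := LinearMap.mem_ker.mpr hz0
  rw [Module.Flat.ker_lTensor_eq T₁ T₁ F] at hz1
  obtain ⟨w, rfl⟩ := hz1
  exact hfin w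

theorem final_gen {T₀ S₀ T₁ S₁ : Type*} [CommRing T₀] [CommRing S₀] [CommRing T₁] [CommRing S₁]
    {F₀ F₁ : Type*} [FunLike F₀ T₀ S₀] [RingHomClass F₀ T₀ S₀] [FunLike F₁ T₁ S₁]
    [RingHomClass F₁ T₁ S₁] (μ₀ : F₀) (μ₁ : F₁) (g : T₀ →+* T₁) (φ : S₀ →+* S₁)
    (hcomm : ∀ t, μ₁ (g t) = φ (μ₀ t))
    (hker : RingHom.ker μ₁ = Ideal.map g (RingHom.ker μ₀))
    (hann : ∀ t ∈ Submodule.annihilator (RingHom.ker μ₁),
      t ∈ Ideal.map g (Submodule.annihilator (RingHom.ker μ₀))) :
    Ideal.map μ₁ (Submodule.annihilator (RingHom.ker μ₁)) =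
      Ideal.map φ (Ideal.map μ₀ (Submodule.annihilator (RingHom.ker μ₀))) := by
  apply le_antisymm
  · rw [Ideal.map_le_iff_le_comap]
    intro t ht
    have h2 := hann t ht
    have hle : Ideal.map g (Submodule.annihilator (RingHom.ker μ₀)) ≤
        Ideal.comap μ₁ (Ideal.map φ (Ideal.map μ₀ (Submodule.annihilator (RingHom.ker μ₀)))) := by
      rw [Ideal.map_le_iff_le_comap]
      intro s hs
      rw [Ideal.mem_comap, Ideal.mem_comap, hcomm]
      exact Ideal.mem_map_of_mem _ (Ideal.mem_map_of_mem _ hs)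
    exact hle h2
  · rw [Ideal.map_le_iff_le_comap, Ideal.map_le_iff_le_comap]
    intro s hs
    rw [Ideal.mem_comap, Ideal.mem_comap, ← hcomm]
    apply Ideal.mem_map_of_mem
    rw [Submodule.mem_annihilator]
    intro y hy
    have hy' : y ∈ Ideal.span (g '' (RingHom.ker μ₀ : Set T₀)) := by
      have : y ∈ Ideal.map g (RingHom.ker μ₀) := by rw [← hker]; exact hy
      exact this
    refine Submodule.span_induction (p := fun y _ => g s • y = 0) ?_ ?_ ?_ ?_ hy'
    · rintro _ ⟨j, hj, rfl⟩
      rw [smul_eq_mul, ← map_mul]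
      have : s * j = 0 := by simpa [smul_eq_mul] using (Submodule.mem_annihilator.mp hs) j hj
      rw [this, map_zero]
    · simp
    · intro a b _ _ ha hb; rw [smul_add, ha, hb, add_zero]
    · intro c a _ ha
      rw [smul_eq_mul, smul_eq_mul] at *
      rw [mul_left_comm, ha, mul_zero]

theorem main {A B' B : Type u} [CommRing A] [CommRing B'] [CommRing B] [Algebra A B']
    [Algebra A B] [Algebra B' B] [IsScalarTower A B' B] [Algebra.FiniteType A B']
    (h : IsOpenImmersion (Spec.map (CommRingCat.ofHom (algebraMap B' B)))) :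
    Disc.noetherDifferent A B = (Disc.noetherDifferent A B').map (algebraMap B' B) := by
  classical
  have hflat : (algebraMap B' B).Flat := by
    have : Flat (Spec.map (CommRingCat.ofHom (algebraMap B' B))) := inferInstance
    exact Flat.SpecMap_iff.mp this
  have hepi : Epi (CommRingCat.ofHom (algebraMap B' B)) := by
    have hm : Mono (Spec.map (CommRingCat.ofHom (algebraMap B' B))) := inferInstance
    have hm' : Mono (CommRingCat.ofHom (algebraMap B' B)).op := by
      apply Functor.mono_of_mono_map Scheme.Spec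
      exact hm
    exact unop_epi_of_mono (CommRingCat.ofHom (algebraMap B' B)).op
  let φ : B' →ₐ[A] B := IsScalarTower.toAlgHom A B' B
  let gr : B' ⊗[A] B' →+* B ⊗[A] B := (Algebra.TensorProduct.map φ φ).toRingHom
  have hgflat : gr.Flat := RingHom.Flat.tensorProductMap (f := φ) (g := φ) hflat hflat
  have gr_tmul : ∀ b₁ b₂ : B', gr (b₁ ⊗ₜ[A] b₂) = algebraMap B' B b₁ ⊗ₜ[A] algebraMap B' B b₂ :=
    fun b₁ b₂ => rfl
  have hcomm : ∀ t : B' ⊗[A] B', Algebra.TensorProduct.lmul' (S := B) A (gr t) =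
      algebraMap B' B (Algebra.TensorProduct.lmul' (S := B') A t) := by
    intro t
    induction t with
    | zero => simp
    | tmul x y => rw [gr_tmul]; simp
    | add x y hx hy => simp only [map_add, hx, hy]
  have hfg : (KaehlerDifferential.ideal A B').FG := KaehlerDifferential.ideal_fg A B'
  obtain ⟨n, x, hx⟩ := Submodule.fg_iff_exists_fin_generating_family.mp hfg
  have hxJ : ∀ i, x i ∈ KaehlerDifferential.ideal A B' := fun i => by
    rw [← hx]; exact Submodule.subset_span ⟨i, rfl⟩
  have hJ : KaehlerDifferential.ideal A B = Ideal.map gr (KaehlerDifferential.ideal A B') := by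
    apply le_antisymm
    · rw [← KaehlerDifferential.span_range_eq_ideal, Ideal.span_le]
      rintro _ ⟨b, rfl⟩
      set I := Ideal.map gr (KaehlerDifferential.ideal A B') with hI
      let ι₁ : B →+* (B ⊗[A] B) ⧸ I :=
        (Ideal.Quotient.mk I).comp Algebra.TensorProduct.includeLeftRingHom
      let ι₂ : B →+* (B ⊗[A] B) ⧸ I :=
        (Ideal.Quotient.mk I).comp
          (Algebra.TensorProduct.includeRight (R := A) (A := B) (B := B)).toRingHom
      have h12 : ∀ b' : B', ι₂ (algebraMap B' B b') = ι₁ (algebraMap B' B b') := by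
        intro b'
        show Ideal.Quotient.mk I ((1 : B) ⊗ₜ[A] algebraMap B' B b') =
          Ideal.Quotient.mk I (algebraMap B' B b' ⊗ₜ[A] (1 : B))
        rw [Ideal.Quotient.eq]
        have : (1 : B) ⊗ₜ[A] algebraMap B' B b' - algebraMap B' B b' ⊗ₜ[A] (1 : B) =
            gr ((1 : B') ⊗ₜ[A] b' - b' ⊗ₜ[A] (1 : B')) := by
          rw [map_sub, gr_tmul, gr_tmul, map_one]
        rw [this]
        exact Ideal.mem_map_of_mem _ (KaehlerDifferential.one_smul_sub_smul_one_mem_ideal A b')
      have hcat : CommRingCat.ofHom (algebraMap B' B) ≫ CommRingCat.ofHom ι₂ =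
          CommRingCat.ofHom (algebraMap B' B) ≫ CommRingCat.ofHom ι₁ := by
        ext b'
        exact h12 b'
      have h21 : CommRingCat.ofHom ι₂ = CommRingCat.ofHom ι₁ := (cancel_epi _).mp hcat
      have h21' : ι₂ = ι₁ := by simpa using congrArg CommRingCat.Hom.hom h21
      have hb := RingHom.congr_fun h21' b
      have hb' : Ideal.Quotient.mk I ((1 : B) ⊗ₜ[A] b) = Ideal.Quotient.mk I (b ⊗ₜ[A] (1 : B)) := hb
      exact Ideal.Quotient.eq.mp hb'
    · rw [Ideal.map_le_iff_le_comap]
      intro j hj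
      rw [Ideal.mem_comap]
      show Algebra.TensorProduct.lmul' (S := B) A (gr j) = 0
      rw [hcomm]
      have : Algebra.TensorProduct.lmul' (S := B') A j = 0 := hj
      rw [this, map_zero]
  have hann : ∀ t ∈ Submodule.annihilator (KaehlerDifferential.ideal A B),
      t ∈ Ideal.map gr (Submodule.annihilator (KaehlerDifferential.ideal A B')) := by
    intro t ht
    have h1 : ∀ i, t * gr (x i) = 0 := by
      intro i
      have hmem : gr (x i) ∈ KaehlerDifferential.ideal A B := by
        rw [hJ]; exact Ideal.mem_map_of_mem _ (hxJ i)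
      have := (Submodule.mem_annihilator.mp ht) _ hmem
      simpa [smul_eq_mul] using this
    have := mem_map_ann_of_flat gr hgflat x t h1
    rwa [show Ideal.span (Set.range x) = KaehlerDifferential.ideal A B' from hx] at this
  unfold Disc.noetherDifferent
  exact final_gen (Algebra.TensorProduct.lmul' (S := B') A) (Algebra.TensorProduct.lmul' (S := B) A)
    gr (algebraMap B' B) hcomm hJ hann

end Groth.Agent.Lib.NoetherDiffOI
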