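import Groth.Agent.Lib.OmegaLocFree3_helper6
import Groth.Agent.Lib.GorFrob3_helper6
import Groth.Agent.Lib.InvLocFree_helper7

/-!
# Finite free `B/A`: all fibres Gorenstein iff `ω_{B/A} = Hom_A(B, A)` is an invertible `B`-module (helper6)

(Stacks 0C08-type, EGA/Disc S2217.)
APPEND-ONLY once landed.
-/

set_option autoImplicit false
set_option linter.style.haveILetI false
universe u

namespace Groth.Agent.Lib.OmegaLocFreeH6

open TensorProduct

section Main

variable {A B : Type u} [CommRing A] [CommRing B] [Algebra A B] [Module.Finite A B]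
  [Module.Free A B]

attribute [local instance] Algebra.TensorProduct.rightAlgebra

/-- if `ω` of every fibre is free of rank one then `ω_{B/A}` is invertible -/
theorem invertible_of_forall_equiv
    (H : ∀ (p : Ideal A) [p.IsPrime],
      Nonempty (p.Fiber B ≃ₗ[p.Fiber B] Disc.Omega p.ResidueField (p.Fiber B))) :
    Module.Invertible B (Disc.Omega A B) := by
  classical
  let v := Module.Free.chooseBasis A B
  let s : Set B := {a' | Nonempty (LocalizedModule.Away a' (Disc.Omega A B)
      ≃ₗ[Localization.Away a'] Localization.Away a')}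
  refine Groth.Agent.Lib.InvLocFreeH7.main s ?_ (fun f hf => hf)
  by_contra hne
  obtain ⟨n, hn, hsn⟩ := Ideal.exists_le_maximal _ hne
  haveI := hn.isPrime
  obtain ⟨ε⟩ := H (n.comap (algebraMap A B))
  obtain ⟨e, he⟩ := exists_gram_det_notMem (n.comap (algebraMap A B))
    (inferInstance : Algebra.IsPushout A (n.comap (algebraMap A B)).ResidueField B
      ((n.comap (algebraMap A B)).Fiber B)) ε v
  have hmem : algebraMap A B (gram v e).det ∈ s := nonempty_equiv_away v e
  exact he (hsn (Ideal.subset_span hmem))

/-- conversely -/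
theorem exists_equiv_of_invertible [Module.Invertible B (Disc.Omega A B)]
    (p : Ideal A) [p.IsPrime] :
    Nonempty (p.Fiber B ≃ₗ[p.Fiber B] Disc.Omega p.ResidueField (p.Fiber B)) := by
  have h : Algebra.IsPushout A p.ResidueField B (p.Fiber B) := inferInstance
  haveI : Module.Invertible (p.Fiber B) (Disc.Omega p.ResidueField (p.Fiber B)) :=
    Module.Invertible.congr (Groth.Agent.Lib.OmegaFreeBCH6.βEquiv h)
  haveI : IsArtinianRing (p.Fiber B) := IsArtinianRing.of_finite p.ResidueField (p.Fiber B)
  haveI : Module.Free (p.Fiber B) (Disc.Omega p.ResidueField (p.Fiber B)) := inferInstance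
  obtain ⟨e⟩ := Module.Invertible.free_iff_linearEquiv.1 this
  exact ⟨e.symm⟩

theorem main :
    (∀ (p : Ideal A) [p.IsPrime], LocCoh.IsGorensteinRing (p.Fiber B)) ↔
      Module.Invertible B (Disc.Omega A B) := by
  constructor
  · intro hG
    exact invertible_of_forall_equiv (fun p _ =>
      Groth.Agent.Lib.GorFrobH6.exists_equiv_of_gorenstein p.ResidueField (p.Fiber B) (hG p))
  · intro hI p _
    obtain ⟨e⟩ := exists_equiv_of_invertible (A := A) (B := B) p
    exact Groth.Agent.Lib.GorFrobH6.isGorensteinRing_of_equiv p.ResidueField (p.Fiber B) e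

end Main

end Groth.Agent.Lib.OmegaLocFreeH6
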