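import Mathlib
import Groth.Prelude.Def_Disc
import Groth.Prelude.Def_Fitting
import Groth.Agent.Lib.JacDiff4_helper6
import Groth.Agent.Lib.Fitt15_helper8
import Groth.Agent.Lib.Fitt6_helper8
import Groth.Agent.Lib.NoetherDiffOI_lead
import Groth.Agent.Lib.RelGCI7_helper2
import Groth.Agent.Lib.NoetherDiff_helper2
import Groth.Agent.Lib.OmegaLocFree4_helper6
import Groth.Agent.Lib.LCIBC_helper2
import Groth.Agent.Lib.SyntTA3_helper2

/-!
# The different of a finite free syntomic algebra is the Kähler different (helper6), part 8.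
-/

set_option autoImplicit false
universe u
open scoped TensorProduct

namespace Groth.Agent.Lib.JacDiff

section invertible
variable (A B : Type u) [CommRing A] [CommRing B] [Algebra A B]

/-- for a finite free syntomic algebra, `ω_{B/A}` is invertible -/
theorem omega_invertible [IsNoetherianRing A] [Module.Finite A B] [Module.Free A B]
    (h : Synt.IsSyntomic A B) : Module.Invertible B (Disc.Omega A B) := by
  obtain ⟨hflat, hlci⟩ := (Groth.Agent.Lib.SyntTA.main9287 A B).mp h
  haveI := hflat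
  apply (Groth.Agent.Lib.OmegaLocFreeH6.main (A := A) (B := B)).1
  intro p _
  have h1 := Groth.Agent.Lib.LCIBC.isLCI_baseChange A B p.ResidueField hlci
  exact Groth.Agent.GorLCI9.isGorRing_of_isLCI _ _
    (Groth.Agent.GorFlat9.isGorRing_field p.ResidueField) h1

end invertible

section count
variable {A : Type u} [CommRing A] {n c : ℕ} (F : Fin c → MvPolynomial (Fin n) A)

/-- a nontrivial quasi-finite relative global complete intersection has as many equations as
variables -/
theorem eq_of_isRelGCI_of_quasiFinite (h : Synt.IsRelGCI A n c F)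
    [Nontrivial (Synt.RelGCIRing A n c F)] [Algebra.QuasiFinite A (Synt.RelGCIRing A n c F)] :
    c = n := by
  obtain ⟨q⟩ := (PrimeSpectrum.nonempty_iff_nontrivial (R := Synt.RelGCIRing A n c F)).2
    inferInstance
  set p : PrimeSpectrum A := PrimeSpectrum.comap (algebraMap A (Synt.RelGCIRing A n c F)) q
    with hp
  have hne : Nonempty (PrimeSpectrum (p.asIdeal.Fiber (Synt.RelGCIRing A n c F))) :=
    ⟨PrimeSpectrum.preimageEquivFiber A (Synt.RelGCIRing A n c F) p ⟨q, rfl⟩⟩
  have hnt : Nontrivial (p.asIdeal.Fiber (Synt.RelGCIRing A n c F)) :=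
    PrimeSpectrum.nonempty_iff_nontrivial.1 hne
  obtain ⟨hle, hdim⟩ := h p hnt
  have h1 : IsArtinianRing (p.asIdeal.Fiber (Synt.RelGCIRing A n c F)) := inferInstance
  have h2 : @IsArtinianRing (p.asIdeal.Fiber (Synt.RelGCIRing A n c F))
    CommRing.toCommSemiring.toSemiring := h1
  haveI := (isArtinianRing_iff_isNoetherianRing_krullDimLE_zero.mp h2).2
  have h0 : ringKrullDim (p.asIdeal.Fiber (Synt.RelGCIRing A n c F)) = 0 :=
    ringKrullDimZero_iff_ringKrullDim_eq_zero.mp inferInstance
  rw [h0] at hdim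
  have h3 : (n - c : ℕ) = 0 := by
    have : ((0 : ℕ) : WithBot ℕ∞) = ((n - c : ℕ) : WithBot ℕ∞) := by
      rw [← hdim]; rfl
    exact_mod_cast this.symm
  omega

end count

section local_global
variable {B : Type u} [CommRing B]

theorem exists_pow_mul_mem_of_map_le (g : B) (S : Type u) [CommRing S] [Algebra B S]
    [IsLocalization.Away g S] (I J : Ideal B)
    (h : I.map (algebraMap B S) ≤ J.map (algebraMap B S)) (x : B) (hx : x ∈ I) :
    ∃ k : ℕ, g ^ k * x ∈ J := by
  have h1 : algebraMap B S x ∈ J.map (algebraMap B S) := h (Ideal.mem_map_of_mem _ hx)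
  rw [IsLocalization.mem_map_algebraMap_iff (Submonoid.powers g) S] at h1
  obtain ⟨⟨⟨j, hj⟩, ⟨_, k, rfl⟩⟩, h2⟩ := h1
  simp only at h2
  rw [← map_mul, IsLocalization.eq_iff_exists (Submonoid.powers g) S] at h2
  obtain ⟨⟨_, m, rfl⟩, h3⟩ := h2
  simp only at h3
  refine ⟨m + k, ?_⟩
  have : g ^ (m + k) * x = g ^ m * j := by
    rw [pow_add, mul_assoc, mul_comm (g ^ k) x, h3]
  rw [this]
  exact J.mul_mem_left _ hj

theorem ideal_le_of_local (I J : Ideal B)
    (h : ∀ q : Ideal B, q.IsPrime → ∃ g : B, g ∉ q ∧ ∀ x ∈ I, ∃ k : ℕ, g ^ k * x ∈ J) :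
    I ≤ J := by
  intro x hx
  by_contra hxJ
  have hK : J.colon (Ideal.span {x} : Set B) ≠ ⊤ := by
    intro htop
    have h1 : (1 : B) ∈ J.colon (Ideal.span {x} : Set B) := by rw [htop]; trivial
    rw [Submodule.mem_colon] at h1
    have := h1 x (Ideal.subset_span rfl)
    rw [smul_eq_mul, one_mul] at this
    exact hxJ this
  obtain ⟨q, hq, hle⟩ := Ideal.exists_le_maximal _ hK
  obtain ⟨g, hgq, hg⟩ := h q hq.isPrime
  obtain ⟨k, hk⟩ := hg x hx
  apply hgq
  apply hq.isPrime.mem_of_pow_mem k
  apply hle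
  rw [Submodule.mem_colon]
  intro y hy
  obtain ⟨r, rfl⟩ := Ideal.mem_span_singleton'.1 hy
  rw [smul_eq_mul, mul_left_comm]
  exact J.mul_mem_left _ hk

end local_global

end Groth.Agent.Lib.JacDiff
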