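import Mathlib
import Groth.Agent.Lib.JacDiff8_helper6

/-!
# The different of a finite free syntomic algebra is the Kähler different (helper6), part 9.
-/

set_option autoImplicit false
set_option linter.style.haveILetI false
universe u
open scoped TensorProduct
open AlgebraicGeometry

namespace Groth.Agent.Lib.JacDiff

section main
variable (A B : Type u) [CommRing A] [CommRing B] [Algebra A B]

/-- locally on `Spec B`, the Noether different and the Kähler different agree -/
theorem exists_local_model [Module.Finite A B] (h : Synt.IsSyntomic A B) (q : Ideal B)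
    [q.IsPrime] :
    ∃ g : B, g ∉ q ∧ ∃ (S : Type u) (_ : CommRing S) (_ : Algebra B S),
      IsLocalization.Away g S ∧
      (Disc.noetherDifferent A B).map (algebraMap B S) =
        (Fitt.ideal B (Ω[B⁄A]) 0).map (algebraMap B S) := by
  obtain ⟨g, hgq, n, c, Fam, hgci, ⟨e⟩⟩ := Groth.Agent.Lib.RelGCI.exists_relGCI_away A B h q
  refine ⟨g, hgq, ?_⟩
  haveI : Nontrivial (Localization.Away g) := FittH8.nontrivial_away_of_notMem q g hgq
  haveI : Nontrivial (Synt.RelGCIRing A n c Fam) := e.injective.nontrivial
  haveI : Algebra.QuasiFinite A (Localization.Away g) := inferInstance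
  haveI : Algebra.QuasiFinite A (Synt.RelGCIRing A n c Fam) :=
    (Algebra.QuasiFinite.iff_of_algEquiv e).1 inferInstance
  obtain rfl : c = n := eq_of_isRelGCI_of_quasiFinite Fam hgci
  letI algBS : Algebra B (Synt.RelGCIRing A c c Fam) :=
    ((e : Localization.Away g →+* Synt.RelGCIRing A c c Fam).comp
      (algebraMap B (Localization.Away g))).toAlgebra
  haveI : IsScalarTower A B (Synt.RelGCIRing A c c Fam) :=
    IsScalarTower.of_algebraMap_eq (fun a => by
      show algebraMap A _ a = e (algebraMap B _ (algebraMap A B a))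
      rw [← IsScalarTower.algebraMap_apply A B (Localization.Away g), e.commutes])
  let e' : Localization.Away g ≃ₐ[B] Synt.RelGCIRing A c c Fam :=
    { e.toRingEquiv with commutes' := fun b => rfl }
  haveI hloc : IsLocalization.Away g (Synt.RelGCIRing A c c Fam) :=
    IsLocalization.isLocalization_of_algEquiv (Submonoid.powers g) e'
  refine ⟨Synt.RelGCIRing A c c Fam, inferInstance, algBS, hloc, ?_⟩
  have hopen : IsOpenImmersion (Spec.map (CommRingCat.ofHom
      (algebraMap B (Synt.RelGCIRing A c c Fam)))) := IsOpenImmersion.of_isLocalization g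
  haveI : Algebra.FiniteType A B := inferInstance
  have hD := Groth.Agent.Lib.NoetherDiffOI.main (A := A) (B' := B)
    (B := Synt.RelGCIRing A c c Fam) hopen
  have hF := FittH8.fitt_localization (R := B) (M := Ω[B⁄A]) (Submonoid.powers g)
    (Synt.RelGCIRing A c c Fam) (Ω[Synt.RelGCIRing A c c Fam⁄A])
    (KaehlerDifferential.map A A B (Synt.RelGCIRing A c c Fam)) 0
  rw [← hD, ← hF]
  have h1 := (main2210 Fam).2
  have h2 := FittH8.kaehler_different (A := A) (n := c) Fam
    (B := MvPolynomial (Fin c) A ⧸ Ideal.span (Set.range Fam))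
    Ideal.Quotient.mk_surjective (Ideal.mk_ker)
  exact h1.trans h2.symm

end main

end Groth.Agent.Lib.JacDiff

namespace Groth.Agent.Lib.JacDiff

section main2
variable (A B : Type u) [CommRing A] [CommRing B] [Algebra A B]

theorem noetherDifferent_eq_fitt [Module.Finite A B] (h : Synt.IsSyntomic A B) :
    Disc.noetherDifferent A B = Fitt.ideal B (Ω[B⁄A]) 0 := by
  apply le_antisymm
  · apply ideal_le_of_local
    intro q hq
    haveI := hq
    obtain ⟨g, hgq, S, _, _, hloc, heq⟩ := exists_local_model A B h q
    exact ⟨g, hgq, fun x hx => exists_pow_mul_mem_of_map_le g S _ _ heq.le x hx⟩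
  · apply ideal_le_of_local
    intro q hq
    haveI := hq
    obtain ⟨g, hgq, S, _, _, hloc, heq⟩ := exists_local_model A B h q
    exact ⟨g, hgq, fun x hx => exists_pow_mul_mem_of_map_le g S _ _ heq.ge x hx⟩

theorem main8957 [IsNoetherianRing A] [Module.Finite A B] [Module.Free A B]
    (h : Synt.IsSyntomic A B) :
    Disc.differentSet A B = (Fitt.ideal B (KaehlerDifferential A B) 0 : Set B) := by
  classical
  haveI := omega_invertible A B h
  rw [NoetherDiffH2.differentSet_eq (Module.Free.chooseBasis A B), noetherDifferent_eq_fitt A B h]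

end main2

end Groth.Agent.Lib.JacDiff
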