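import Mathlib
import Groth.Prelude

set_option autoImplicit false
universe u

namespace JacDomH8

open Ideal

variable {C : Type u} [CommRing C] [IsDomain C] [IsNoetherianRing C]

/-- In a Noetherian domain in which every nonzero prime contains `f ≠ 0`, every nonzero prime is
minimal over `(f)`. -/
theorem mem_minimalPrimes_of_gdomain (f : C) (hf0 : f ≠ 0)
    (hf : ∀ P : Ideal C, P.IsPrime → P ≠ ⊥ → f ∈ P) (P : Ideal C) [hP : P.IsPrime] (hP0 : P ≠ ⊥) :
    P ∈ (Ideal.span {f}).minimalPrimes := by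
  classical
  have hfP : Ideal.span {f} ≤ P := by
    rw [Ideal.span_le, Set.singleton_subset_iff]; exact hf P hP hP0
  obtain ⟨P0, hP0m, hP0P⟩ := Ideal.exists_minimalPrimes_le hfP
  by_contra hPm
  have hne : P0 ≠ P := fun h => hPm (h ▸ hP0m)
  have hlt : P0 < P := lt_of_le_of_ne hP0P hne
  have hfin : (Ideal.span {f}).minimalPrimes.Finite :=
    Ideal.finite_minimalPrimes_of_isNoetherianRing C _
  -- prime avoidance
  have hnot : ¬ ((P : Set C) ⊆ ⋃ Q ∈ (↑hfin.toFinset : Set (Ideal C)), (Q : Set C)) := by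
    intro hsub
    have := (Ideal.subset_union_prime (R := C) (s := hfin.toFinset) (f := fun Q => Q) P0 P0
      (fun Q hQ _ _ => by
        have : Q ∈ (Ideal.span {f}).minimalPrimes := by simpa using hQ
        exact this.isPrime) (I := P)).mp hsub
    obtain ⟨Q, hQ, hPQ⟩ := this
    have hQm : Q ∈ (Ideal.span {f}).minimalPrimes := by simpa using hQ
    have h1 : P0 ≤ Q := hP0P.trans hPQ
    have h2 : Q ≤ P0 := hQm.2 hP0m.1 h1
    exact hlt.not_ge (hPQ.trans h2)
  rw [Set.not_subset] at hnot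
  obtain ⟨g, hgP, hgU⟩ := hnot
  have hgQ : ∀ Q ∈ (Ideal.span {f}).minimalPrimes, g ∉ Q := by
    intro Q hQ hgQ
    apply hgU
    simp only [Set.mem_iUnion]
    exact ⟨Q, by simpa using hQ, hgQ⟩
  have hg0 : g ≠ 0 := by
    rintro rfl
    exact hgQ P0 hP0m (zero_mem _)
  have hgle : Ideal.span {g} ≤ P := by
    rw [Ideal.span_le, Set.singleton_subset_iff]; exact hgP
  obtain ⟨Q', hQ'm, -⟩ := Ideal.exists_minimalPrimes_le hgle
  haveI := hQ'm.isPrime
  have hht : Q'.height ≤ 1 :=
    Ideal.height_le_one_of_isPrincipal_of_mem_minimalPrimes (Ideal.span {g}) Q' hQ'm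
  have hgQ' : g ∈ Q' := hQ'm.1.2 (Ideal.mem_span_singleton_self g)
  have hQ'0 : Q' ≠ ⊥ := by
    intro h; rw [h] at hgQ'; exact hg0 (by simpa using hgQ')
  have hfQ' : Ideal.span {f} ≤ Q' := by
    rw [Ideal.span_le, Set.singleton_subset_iff]; exact hf Q' inferInstance hQ'0
  obtain ⟨Q'', hQ''m, hQ''Q'⟩ := Ideal.exists_minimalPrimes_le hfQ'
  haveI := hQ''m.isPrime
  have hfQ'' : f ∈ Q'' := hQ''m.1.2 (Ideal.mem_span_singleton_self f)
  have hQ''0 : (⊥ : Ideal C) < Q'' := by
    rw [bot_lt_iff_ne_bot]; intro h; rw [h] at hfQ''; exact hf0 (by simpa using hfQ'')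
  by_cases heq : Q'' = Q'
  · exact hgQ Q'' hQ''m (heq ▸ hgQ')
  · have hlt2 : Q'' < Q' := lt_of_le_of_ne hQ''Q' heq
    haveI : (⊥ : Ideal C).IsPrime := Ideal.bot_prime
    have h1 := Ideal.height_strict_mono_of_isPrime_of_isPrime hQ''0
    have h2 := Ideal.height_strict_mono_of_isPrime_of_isPrime hlt2
    have h3 : (1 : ℕ∞) ≤ Q''.height := Order.one_le_iff_pos.mpr (lt_of_le_of_lt (zero_le) h1)
    have h4 : Q''.height + 1 ≤ Q'.height := Order.add_one_le_of_lt h2
    have h5 : (1 : ℕ∞) + 1 ≤ 1 := (add_le_add_left h3 1).trans (h4.trans hht)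
    exact absurd h5 (by decide)

/-- Such a domain, if not a field, is semi-local of dimension one. -/
theorem semilocal_dim_one (f : C) (hf0 : f ≠ 0)
    (hf : ∀ P : Ideal C, P.IsPrime → P ≠ ⊥ → f ∈ P) (hC : ¬ IsField C) :
    Finite (MaximalSpectrum C) ∧ ringKrullDim C = 1 := by
  classical
  have hfin : (Ideal.span {f}).minimalPrimes.Finite :=
    Ideal.finite_minimalPrimes_of_isNoetherianRing C _
  refine ⟨?_, ?_⟩
  · haveI : Finite ((Ideal.span {f}).minimalPrimes) := hfin
    let φ : MaximalSpectrum C → (Ideal.span {f}).minimalPrimes := fun m =>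
      ⟨m.asIdeal, by
        haveI := m.isMaximal.isPrime
        exact mem_minimalPrimes_of_gdomain f hf0 hf m.asIdeal
          (Ring.ne_bot_of_isMaximal_of_not_isField m.isMaximal hC)⟩
    refine Finite.of_injective φ ?_
    intro m m' h
    have : m.asIdeal = m'.asIdeal := congrArg Subtype.val h
    exact MaximalSpectrum.ext this
  · apply le_antisymm
    · rw [← Ideal.sup_isPrime_height_eq_ringKrullDim]
      have : (⨆ (I : Ideal C) (_ : I.IsPrime), I.height) ≤ 1 := by
        refine iSup₂_le fun I hI => ?_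
        by_cases hI0 : I = ⊥
        · rw [hI0]
          rw [Ideal.height_bot]; exact zero_le
        · exact Ideal.height_le_one_of_isPrincipal_of_mem_minimalPrimes (Ideal.span {f}) I
            (mem_minimalPrimes_of_gdomain f hf0 hf I hI0)
      exact_mod_cast this
    · obtain ⟨m, hm⟩ := Ideal.exists_maximal C
      haveI := hm.isPrime
      have hm0 : (⊥ : Ideal C) < m :=
        bot_lt_iff_ne_bot.mpr (Ring.ne_bot_of_isMaximal_of_not_isField hm hC)
      haveI : (⊥ : Ideal C).IsPrime := Ideal.bot_prime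
      have h1 := Ideal.height_strict_mono_of_isPrime_of_isPrime hm0
      have h3 : (1 : ℕ∞) ≤ m.height := Order.one_le_iff_pos.mpr (lt_of_le_of_lt (zero_le) h1)
      have h4 : (m.height : WithBot ℕ∞) ≤ ringKrullDim C := Ideal.height_le_ringKrullDim_of_isPrime
      refine le_trans ?_ h4
      exact_mod_cast h3

end JacDomH8
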