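import Mathlib
import Groth.Prelude
import Groth.Agent.Lib.JacDom_helper8

set_option autoImplicit false
universe u

namespace JacDomH8

open Ideal CategoryTheory AlgebraicGeometry

/-- A Noetherian non-Jacobson ring has a prime quotient that is a semi-local domain of dimension
one. -/
theorem exists_prime_of_not_jacobson (A : Type u) [CommRing A] [IsNoetherianRing A]
    (hA : ¬ IsJacobsonRing A) :
    ∃ q : Ideal A, q.IsPrime ∧ Finite (MaximalSpectrum (A ⧸ q)) ∧ ringKrullDim (A ⧸ q) = 1 := by
  classical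
  rw [isJacobsonRing_iff_prime_eq] at hA
  push Not at hA
  obtain ⟨p, hp, hpj⟩ := hA
  have hle : p ≤ p.jacobson := Ideal.le_jacobson
  have : ¬ p.jacobson ≤ p := fun h => hpj (le_antisymm h hle)
  rw [SetLike.not_le_iff_exists] at this
  obtain ⟨f, hfj, hfp⟩ := this
  let S : Set (Ideal A) := {q | p ≤ q ∧ q.IsPrime ∧ f ∉ q}
  have hSne : S.Nonempty := ⟨p, le_rfl, hp, hfp⟩
  obtain ⟨q, hqS, hqmax⟩ : ∃ q ∈ S, ∀ q' ∈ S, ¬ q < q' :=
    set_has_maximal_iff_noetherian.mpr (inferInstance : IsNoetherian A A) S hSne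
  obtain ⟨hpq, hqprime, hfq⟩ := hqS
  haveI := hqprime
  refine ⟨q, hqprime, ?_⟩
  have hqnm : ¬ q.IsMaximal := by
    intro hm
    apply hfq
    have : p.jacobson ≤ q := sInf_le ⟨hpq, hm⟩
    exact this hfj
  have hC : ¬ IsField (A ⧸ q) := fun h => hqnm (Ideal.Quotient.maximal_of_isField q h)
  refine semilocal_dim_one (Ideal.Quotient.mk q f) ?_ ?_ hC
  · rw [Ne, Ideal.Quotient.eq_zero_iff_mem]; exact hfq
  · intro P hP hP0
    let Q := P.comap (Ideal.Quotient.mk q)
    haveI : Q.IsPrime := Ideal.comap_isPrime _ _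
    have hqQ : q ≤ Q := by
      intro a ha
      change Ideal.Quotient.mk q a ∈ P
      rw [Ideal.Quotient.eq_zero_iff_mem.mpr ha]; exact zero_mem _
    have hne : q ≠ Q := by
      intro h
      apply hP0
      rw [eq_bot_iff]
      intro x hx
      obtain ⟨a, rfl⟩ := Ideal.Quotient.mk_surjective x
      have : a ∈ Q := hx
      rw [← h] at this
      simpa using Ideal.Quotient.eq_zero_iff_mem.mpr this
    by_contra hfP
    have hQS : Q ∈ S := ⟨hpq.trans hqQ, inferInstance, hfP⟩
    exact hqmax Q hQS (lt_of_le_of_ne hqQ hne)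

/-- A Jacobson domain with finitely many maximal ideals is a field. -/
theorem isField_of_jacobson_of_finite (R : Type u) [CommRing R] [IsDomain R] [IsJacobsonRing R]
    [Finite (MaximalSpectrum R)] : IsField R := by
  classical
  haveI := Fintype.ofFinite (MaximalSpectrum R)
  have h0 : (⊥ : Ideal R).jacobson = ⊥ :=
    IsJacobsonRing.out inferInstance (Ideal.bot_prime (α := R)).isRadical
  have hinf : (Finset.univ : Finset (MaximalSpectrum R)).inf (fun m => m.asIdeal) ≤ ⊥ := by
    intro x hx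
    rw [← h0]
    rw [Ideal.jacobson, Submodule.mem_sInf]
    rintro J ⟨-, hJ⟩
    rw [Submodule.mem_finsetInf] at hx
    exact hx ⟨J, hJ⟩ (Finset.mem_univ _)
  obtain ⟨m, -, hm⟩ := ((Ideal.bot_prime (α := R)).inf_le').mp hinf
  have : m.asIdeal = ⊥ := le_bot_iff.mp hm
  have hmax : (⊥ : Ideal R).IsMaximal := this ▸ m.isMaximal
  exact Ring.isField_iff_maximal_bot.mpr hmax |> fun h => h

theorem main (X : Scheme.{u}) [IsLocallyNoetherian X] :
    JacobsonSpace X ↔
      ∀ (R : CommRingCat.{u}) [IsDomain R] (i : Spec R ⟶ X) [IsImmersion i],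
        ¬ (Finite (MaximalSpectrum R) ∧ ringKrullDim R = 1) := by
  constructor
  · intro hX R _ i _ ⟨hfin, hdim⟩
    haveI : JacobsonSpace ↥(i.coborderRange : Scheme) :=
      JacobsonSpace.of_isOpenEmbedding i.coborderRange.ι.isOpenEmbedding
    haveI : JacobsonSpace ↥(Spec R) :=
      JacobsonSpace.of_isClosedEmbedding i.liftCoborder.isClosedEmbedding
    haveI : JacobsonSpace (PrimeSpectrum R) := this
    haveI : IsJacobsonRing R := PrimeSpectrum.isJacobsonRing_iff_jacobsonSpace.mpr inferInstance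
    have hF := isField_of_jacobson_of_finite R
    rw [ringKrullDim_eq_zero_of_isField hF] at hdim
    exact zero_ne_one hdim
  · intro H
    have hcov : TopologicalSpace.IsOpenCover (fun U : X.affineOpens => U.1) :=
      TopologicalSpace.IsOpenCover.mk (iSup_affineOpens_eq_top X)
    rw [hcov.jacobsonSpace_iff]
    intro U
    haveI : IsNoetherianRing Γ(X, U.1) := IsLocallyNoetherian.component_noetherian U
    by_contra hU
    have hA : ¬ IsJacobsonRing Γ(X, U.1) := by
      intro hJ
      apply hU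
      haveI : JacobsonSpace (PrimeSpectrum Γ(X, U.1)) := inferInstance
      haveI : JacobsonSpace ↥(Spec Γ(X, U.1)) := this
      exact JacobsonSpace.of_isOpenEmbedding
        (Scheme.homeoOfIso U.2.isoSpec).isOpenEmbedding
    obtain ⟨q, hq, hfin, hdim⟩ := exists_prime_of_not_jacobson Γ(X, U.1) hA
    let R : CommRingCat.{u} := CommRingCat.of (Γ(X, U.1) ⧸ q)
    haveI : IsDomain R := Ideal.Quotient.isDomain q
    let φ : Γ(X, U.1) ⟶ R := CommRingCat.ofHom (Ideal.Quotient.mk q)
    haveI : IsClosedImmersion (Spec.map φ) :=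
      IsClosedImmersion.spec_of_surjective φ Ideal.Quotient.mk_surjective
    exact H R (Spec.map φ ≫ U.2.fromSpec) ⟨hfin, hdim⟩

end JacDomH8
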