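import Mathlib
import Groth.Prelude
import Groth.Agent.Lib.CurvePtInv6_helper9
import Groth.Agent.Lib.CurveGap1_helper9
import Groth.Agent.Lib.InvTensP2_helper5
import Groth.Agent.Lib.CurveRR1_helper9
import Groth.Agent.Lib.CurveIdeal2_helper9
import Groth.Agent.Lib.CurveSub1_helper9

/-!
# Twisting an invertible module up by a rational point: when does `h¹` drop?  (helper9)
APPEND-ONLY once landed.  Towards S17807.
-/

set_option autoImplicit false
set_option linter.style.haveILetI false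
universe u
open CategoryTheory CategoryTheory.Limits AlgebraicGeometry Opposite TopologicalSpace

namespace JacDrop

open QcqsLoc QCohExtn GenLocH8 TensH8 FLFH8 CohB1 Groth.Agent.HHVan CurveAmple CurveGG CurvePt
  Groth.Agent.TensInv

section Local

variable {X : Scheme.{u}}

/-- away from the closed point `x`, the inclusion `I_x ⊗ N → N` preserves generation -/
theorem genAt_comp_twistι' {x x' : X} (hx : IsClosed ({x} : Set X)) (hne : x' ≠ x) {N : X.Modules}
    (hN : PicF.IsInvertible N) (Z : X.IdealSheafData)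
    (hZ : Z = Scheme.IdealSheafData.vanishingIdeal ⟨{x}, hx⟩)
    (σ : Coh.structureModule X ⟶ CohB1.tensorMod (ClSub.idealMod Z) N)
    (hσ : CurveLin.GenAt _ σ x') :
    CurveLin.GenAt N (σ ≫ twistι Z N) x' := by
  obtain ⟨V', hxV', hV'⟩ := hσ
  let U : X.Opens := ⟨{x}ᶜ, hx.isOpen_compl⟩
  have hx'U : x' ∈ U := hne
  obtain ⟨W, hW, hxW, hWU, e, he⟩ := exists_isGen_le hN x' U hx'U
  have hxW' : x ∉ W := fun h => (hWU h) rfl
  have h1mem : (1 : Γ(X, W)) ∈ Z.ideal ⟨W, hW⟩ := by
    rw [hZ]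
    exact mem_vanishingIdeal_of_notMem_basicOpen hx hW 1 (fun h => hxW' (X.basicOpen_le _ h))
  obtain ⟨t, ht⟩ := TensH8.exists_idealMod_section Z hW 1 h1mem
  have hVW : V' ⊓ W ≤ W := inf_le_right
  have hVV' : V' ⊓ W ≤ V' := inf_le_left
  have hsgen : IsGen _ (V' ⊓ W) (ap σ (V' ⊓ W) (toM (1 : Γ(X, V' ⊓ W)))) := by
    rw [← CurveLin.ap_one_res σ hVV']
    exact hV'.res hVV'
  have he'gen : IsGen N (V' ⊓ W) (rF N hVW e) := he.res hVW
  have ht'1 : SerreCrit.toFn (ap (ClSub.idealModι Z) (V' ⊓ W) (rF (ClSub.idealMod Z) hVW t)) = 1 := by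
    rw [ap_rF]
    show rX hVW (SerreCrit.toFn (ap (ClSub.idealModι Z) W t)) = 1
    rw [ht, map_one]
  obtain ⟨z, hz⟩ := tmulGen_surjective (ClSub.idealMod Z) N he hVW
    (ap σ (V' ⊓ W) (toM (1 : Γ(X, V' ⊓ W))))
  obtain ⟨c, hc⟩ := (hsgen (V' ⊓ W) le_rfl).1
    (SecTwist.tmul (ClSub.idealMod Z) N (V' ⊓ W) (rF (ClSub.idealMod Z) hVW t) (rF N hVW e))
  rw [SubExt.rF_self] at hc
  have h2 : ap (twistι Z N) (V' ⊓ W) (ap σ (V' ⊓ W) (toM (1 : Γ(X, V' ⊓ W)))) =
      SerreCrit.toFn (ap (ClSub.idealModι Z) (V' ⊓ W) z) • rF N hVW e := by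
    rw [← hz, ap_twistι_tmul_eq]
  have h3 : rF N hVW e =
      (c * SerreCrit.toFn (ap (ClSub.idealModι Z) (V' ⊓ W) z)) • rF N hVW e := by
    have h := congrArg (ap (twistι Z N) (V' ⊓ W)) hc
    rw [ap_twistι_tmul_eq, ht'1, one_smul, ap_smul, h2, smul_smul] at h
    exact h
  have h4 : c * SerreCrit.toFn (ap (ClSub.idealModι Z) (V' ⊓ W) z) = 1 := by
    have h5 : (1 - c * SerreCrit.toFn (ap (ClSub.idealModι Z) (V' ⊓ W) z)) •
        rF N (le_refl (V' ⊓ W)) (rF N hVW e) = 0 := by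
      rw [SubExt.rF_self, sub_smul, one_smul, ← h3, sub_self]
    have h6 := (he'gen (V' ⊓ W) le_rfl).2 _ h5
    exact (sub_eq_zero.mp h6).symm
  have hgu : IsUnit (SerreCrit.toFn (ap (ClSub.idealModι Z) (V' ⊓ W) z)) :=
    IsUnit.of_mul_eq_one c (by rw [mul_comm]; exact h4)
  refine ⟨V' ⊓ W, ⟨hxV', hxW⟩, ?_⟩
  show IsGen N (V' ⊓ W) (ap (twistι Z N) (V' ⊓ W) (ap σ (V' ⊓ W) (toM (1 : Γ(X, V' ⊓ W)))))
  rw [h2]
  exact isGen_smul_of_isUnit he'gen hgu

/-- away from the closed point `x`, the inclusion `I_x ⊗ N → N` preserves generation -/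
theorem genAt_comp_twistι {x x' : X} (hx : IsClosed ({x} : Set X)) (hne : x' ≠ x) {N : X.Modules}
    (hN : PicF.IsInvertible N)
    (σ : Coh.structureModule X ⟶
      CohB1.tensorMod (ClSub.idealMod (Scheme.IdealSheafData.vanishingIdeal ⟨{x}, hx⟩)) N)
    (hσ : CurveLin.GenAt _ σ x') :
    CurveLin.GenAt N (σ ≫ twistι (Scheme.IdealSheafData.vanishingIdeal ⟨{x}, hx⟩) N) x' :=
  genAt_comp_twistι' hx hne hN _ rfl σ hσ

end Local

section Curve

variable (k : Type u) [Field k] (X : Scheme.{u}) [X.Over (Spec (CommRingCat.of k))]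
  [IsIntegral X] [IsProper (X ↘ Spec (CommRingCat.of k))]

/-- the ideal sheaf of a closed point -/
noncomputable abbrev ptIdeal {x : X} (hx : IsClosed ({x} : Set X)) : X.IdealSheafData :=
  Scheme.IdealSheafData.vanishingIdeal ⟨{x}, hx⟩

omit [IsIntegral X] in
include k in
theorem dim_support_ptIdeal {x : X} (hx : IsClosed ({x} : Set X)) :
    topologicalKrullDim ((ptIdeal X hx).support : Set X) ≤ 0 := by
  haveI : IsLocallyNoetherian X :=
    LocallyOfFiniteType.isLocallyNoetherian (X ↘ Spec (CommRingCat.of k))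
  have h2 : ((ptIdeal X hx).support : Set X) = {x} :=
    Scheme.IdealSheafData.coe_support_vanishingIdeal _
  rw [h2]
  exact CurveSpec.dim_le_zero_of_closed_points {x} hx
    (fun y hy => by rw [Set.mem_singleton_iff.mp hy]; exact hx)

/-- `h⁰(M) ≤ h⁰(I_x ⊗ M) + 1` at a rational closed point -/
theorem h0_le_add_one {x : X} (hx : IsClosed ({x} : Set X))
    (hrat : Module.finrank k (Coh.HH X (ClSub.quotMod (ptIdeal X hx)) 0) = 1)
    {M : X.Modules} (hM : PicF.IsInvertible M) :
    Module.finrank k (Coh.HH X M 0) ≤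
      Module.finrank k (Coh.HH X (CohB1.tensorMod (ClSub.idealMod (ptIdeal X hx)) M) 0) + 1 := by
  haveI : IsLocallyNoetherian X :=
    LocallyOfFiniteType.isLocallyNoetherian (X ↘ Spec (CommRingCat.of k))
  let S := (Groth.Agent.HypSurf.ses (ptIdeal X hx)).map (tR M)
  have hS : S.ShortExact :=
    CurveTens.shortExact_tR hM _ (Groth.Agent.HypSurf.ses_shortExact (ptIdeal X hx))
  have cM := ProperFinH9.isCoh_of_isInvertible hM
  have c1 : Coh.IsCoh S.X₁ := isCoh_tensorMod X (CurveIdeal.isCoh_idealMod (ptIdeal X hx)) hM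
  have c2 : Coh.IsCoh S.X₂ := CohDevH8.isCoh_of_iso (Groth.Agent.CMMul.unitorL M) cM
  have c3 : Coh.IsCoh S.X₃ := isCoh_tensorMod X (CurveIdeal.isCoh_quotMod (ptIdeal X hx)) hM
  have h := CurvePtInv.finrank_HH0_le_add k X S hS c1 c2 c3
  have hQ : Module.finrank k (Coh.HH X S.X₃ 0) = 1 := by
    have hcl : ∀ y ∈ CohB1.support (ClSub.quotMod (ptIdeal X hx)), IsClosed ({y} : Set X) := by
      intro y hy
      have hy1 : y ∈ ((ptIdeal X hx).support : Set X) :=
        CurveIdeal.support_quotMod_subset (ptIdeal X hx) (Iso.refl _) hy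
      have h2 : ((ptIdeal X hx).support : Set X) = {x} :=
        Scheme.IdealSheafData.coe_support_vanishingIdeal _
      rw [h2] at hy1
      rw [Set.mem_singleton_iff.mp hy1]
      exact hx
    have h1 := CurvePtInv.finrank_HH0_tensor_rank k X (ClSub.quotMod (ptIdeal X hx)) M
      (CurveIdeal.isCoh_quotMod (ptIdeal X hx)) (finLocFreeOfRank_one_of_isInvertible hM) hcl
    show Module.finrank k (Coh.HH X (CohB1.tensorMod (ClSub.quotMod (ptIdeal X hx)) M) 0) = 1
    rw [h1, hrat]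
  have h2 : Module.finrank k (Coh.HH X S.X₂ 0) = Module.finrank k (Coh.HH X M 0) :=
    finrank_HH_of_iso k X (Groth.Agent.CMMul.unitorL M) 0
  rw [hQ, h2] at h
  exact h

/-- a section generating at `x` gives `h⁰(M) = h⁰(I_x ⊗ M) + 1` -/
theorem h0_of_genAt {x : X} (hx : IsClosed ({x} : Set X))
    (hrat : Module.finrank k (Coh.HH X (ClSub.quotMod (ptIdeal X hx)) 0) = 1)
    {M : X.Modules} (hM : PicF.IsInvertible M)
    (σ : Coh.structureModule X ⟶ M) (hσ : CurveLin.GenAt M σ x) :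
    Module.finrank k (Coh.HH X M 0) =
      Module.finrank k (Coh.HH X (CohB1.tensorMod (ClSub.idealMod (ptIdeal X hx)) M) 0) + 1 := by
  haveI : IsLocallyNoetherian X :=
    LocallyOfFiniteType.isLocallyNoetherian (X ↘ Spec (CommRingCat.of k))
  have hle := h0_le_add_one k X hx hrat hM
  have cM := ProperFinH9.isCoh_of_isInvertible hM
  have hFc := isCoh_tensorMod X (CurveIdeal.isCoh_idealMod (ptIdeal X hx)) hM
  haveI := mono_twistι (ptIdeal X hx) hM
  have hmono := CurveSub.finrank_HH0_le_of_mono k X (twistι (ptIdeal X hx) M) cM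
  by_contra hne
  have heq : Module.finrank k (Coh.HH X (CohB1.tensorMod (ClSub.idealMod (ptIdeal X hx)) M) 0) =
      Module.finrank k (Coh.HH X M 0) := by omega
  haveI := ProperFinH9.finite_HH_of_proper k X _ hFc 0
  haveI := ProperFinH9.finite_HH_of_proper k X _ cM 0
  haveI : Module.Finite k (Coh.structureModule X ⟶
      CohB1.tensorMod (ClSub.idealMod (ptIdeal X hx)) M) :=
    Module.Finite.equiv (CurveIdeal.thetaEquiv k _).symm
  haveI : Module.Finite k (Coh.structureModule X ⟶ M) :=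
    Module.Finite.equiv (CurveIdeal.thetaEquiv k _).symm
  have hinj : Function.Injective (Linear.rightComp k (Coh.structureModule X)
      (twistι (ptIdeal X hx) M)) := fun u v h => (cancel_mono (twistι (ptIdeal X hx) M)).mp h
  have hfr : Module.finrank k (Coh.structureModule X ⟶
      CohB1.tensorMod (ClSub.idealMod (ptIdeal X hx)) M) =
      Module.finrank k (Coh.structureModule X ⟶ M) := by
    rw [(CurveIdeal.thetaEquiv k _).finrank_eq, (CurveIdeal.thetaEquiv k _).finrank_eq]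
    exact heq
  have hsurj := (LinearMap.injective_iff_surjective_of_finrank_eq_finrank hfr).mp hinj
  obtain ⟨s, hs⟩ := hsurj σ
  have hs' : s ≫ twistι (ptIdeal X hx) M = σ := hs
  apply not_genAt_of_factors hx hM s
  rw [hs']
  exact hσ

/-- if no section generates at `x` then `h⁰(M) = h⁰(I_x ⊗ M)` -/
theorem h0_of_not_genAt {x : X} (hx : IsClosed ({x} : Set X))
    {M : X.Modules} (hM : PicF.IsInvertible M)
    (hno : ∀ σ : Coh.structureModule X ⟶ M, ¬ CurveLin.GenAt M σ x) :
    Module.finrank k (Coh.HH X M 0) =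
      Module.finrank k (Coh.HH X (CohB1.tensorMod (ClSub.idealMod (ptIdeal X hx)) M) 0) := by
  haveI : IsLocallyNoetherian X :=
    LocallyOfFiniteType.isLocallyNoetherian (X ↘ Spec (CommRingCat.of k))
  have cM := ProperFinH9.isCoh_of_isInvertible hM
  have hFc := isCoh_tensorMod X (CurveIdeal.isCoh_idealMod (ptIdeal X hx)) hM
  haveI := mono_twistι (ptIdeal X hx) hM
  have hmono := CurveSub.finrank_HH0_le_of_mono k X (twistι (ptIdeal X hx) M) cM
  haveI := ProperFinH9.finite_HH_of_proper k X _ hFc 0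
  haveI : Module.Finite k (Coh.structureModule X ⟶
      CohB1.tensorMod (ClSub.idealMod (ptIdeal X hx)) M) :=
    Module.Finite.equiv (CurveIdeal.thetaEquiv k _).symm
  have hsurj : Function.Surjective (Linear.rightComp k (Coh.structureModule X)
      (twistι (ptIdeal X hx) M)) := by
    intro σ
    obtain ⟨s, hs⟩ := exists_lift_of_not_genAt hx hM σ (hno σ)
    exact ⟨s, hs⟩
  have h1 := LinearMap.finrank_le_finrank_of_surjective hsurj
  rw [(CurveIdeal.thetaEquiv k M).finrank_eq, (CurveIdeal.thetaEquiv k _).finrank_eq] at h1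
  omega

/-- `χ(M) = χ(I_x ⊗ M) + 1` at a rational closed point, in terms of `h⁰` and `h¹` -/
theorem h_sub_eq (hdim : topologicalKrullDim X ≤ 1) {x : X} (hx : IsClosed ({x} : Set X))
    (hrat : Module.finrank k (Coh.HH X (ClSub.quotMod (ptIdeal X hx)) 0) = 1)
    {M : X.Modules} (hM : PicF.IsInvertible M) :
    (Module.finrank k (Coh.HH X M 0) : ℤ) - Module.finrank k (Coh.HH X M 1) =
      (Module.finrank k (Coh.HH X (CohB1.tensorMod (ClSub.idealMod (ptIdeal X hx)) M) 0) : ℤ) -
      Module.finrank k (Coh.HH X (CohB1.tensorMod (ClSub.idealMod (ptIdeal X hx)) M) 1) + 1 := by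
  haveI : IsLocallyNoetherian X :=
    LocallyOfFiniteType.isLocallyNoetherian (X ↘ Spec (CommRingCat.of k))
  have cM := ProperFinH9.isCoh_of_isInvertible hM
  have hFc := isCoh_tensorMod X (CurveIdeal.isCoh_idealMod (ptIdeal X hx)) hM
  haveI := cM.1
  haveI := hFc.1
  have e1 := CurveIdeal.euler_eq_add k X (ptIdeal X hx) (dim_support_ptIdeal k X hx) hM
  rw [hrat] at e1
  have e2 := CurveRR.euler_eq_sub k X hdim M
  have e3 := CurveRR.euler_eq_sub k X hdim (CohB1.tensorMod (ClSub.idealMod (ptIdeal X hx)) M)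
  rw [e2, e3] at e1
  push_cast at e1
  linarith

end Curve

end JacDrop
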