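import Mathlib
import Groth.Prelude
import Groth.Agent.Lib.JacDrop1_helper9

/-!
# Finiteness of the set of rational points at which `h¹` does not drop (helper9)
APPEND-ONLY once landed.  Towards S17807.
-/

set_option autoImplicit false
set_option linter.style.haveILetI false
universe u
open CategoryTheory CategoryTheory.Limits AlgebraicGeometry Opposite TopologicalSpace

namespace JacDrop

open QcqsLoc QCohExtn GenLocH8 TensH8 FLFH8 CohB1 Groth.Agent.HHVan CurveAmple CurveGG CurvePt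
  Groth.Agent.TensInv

section Curve

variable (k : Type u) [Field k] (X : Scheme.{u}) [X.Over (Spec (CommRingCat.of k))]
  [IsIntegral X] [IsProper (X ↘ Spec (CommRingCat.of k))]

/-- `x` is a rational closed point such that `L(x)` has a global section not vanishing at `x` -/
def Bad (L : X.Modules) (x : X) : Prop :=
  ∃ hx : IsClosed ({x} : Set X),
    Module.finrank k (Coh.HH X (ClSub.quotMod (ptIdeal X hx)) 0) = 1 ∧
    ∃ M : X.Modules, PicF.IsInvertible M ∧
      Nonempty (CohB1.tensorMod (ClSub.idealMod (ptIdeal X hx)) M ≅ L) ∧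
      ∃ σ : Coh.structureModule X ⟶ M, CurveLin.GenAt M σ x

variable {k X}

omit [IsIntegral X] [IsProper (X ↘ Spec (CommRingCat.of k))] in
/-- badness persists after twisting up by another point -/
theorem Bad.twist {L : X.Modules} {x x₁ : X} (hb : Bad k X L x) (hx₁ : IsClosed ({x₁} : Set X))
    (hne : x ≠ x₁) (hI₁ : PicF.IsInvertible (ClSub.idealMod (ptIdeal X hx₁)))
    {M₁ : X.Modules} (e₁ : CohB1.tensorMod (ClSub.idealMod (ptIdeal X hx₁)) M₁ ≅ L) :
    Bad k X M₁ x := by
  obtain ⟨hx, hrat, M, hM, ⟨e⟩, σ, hσ⟩ := hb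
  obtain ⟨J₁, hJ₁, ⟨j⟩⟩ := Groth.Agent.InvTensP.exists_inverse _ hI₁
  refine ⟨hx, hrat, CohB1.tensorMod J₁ M, isInvertible_tensorMod hJ₁ hM, ⟨?_⟩, ?_⟩
  · exact (assoc _ J₁ M).symm ≪≫ mapR (comm _ J₁) M ≪≫ assoc J₁ _ M ≪≫ mapL J₁ e ≪≫
      mapL J₁ e₁.symm ≪≫ (assoc J₁ _ M₁).symm ≪≫ mapR (comm J₁ _ ≪≫ j) M₁ ≪≫
      Groth.Agent.CMMul.unitorL M₁
  · let iso2 : M ≅ CohB1.tensorMod (ClSub.idealMod (ptIdeal X hx₁)) (CohB1.tensorMod J₁ M) :=
      (Groth.Agent.CMMul.unitorL M).symm ≪≫ mapR j.symm M ≪≫ assoc _ J₁ M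
    exact ⟨(σ ≫ iso2.hom) ≫ twistι (ptIdeal X hx₁) (CohB1.tensorMod J₁ M),
      genAt_comp_twistι hx₁ hne (isInvertible_tensorMod hJ₁ hM) _
        (CurveLin.GenAt.of_iso iso2 hσ)⟩

/-- at a bad point `h¹` does not drop -/
theorem Bad.exists_twist (hdim : topologicalKrullDim X ≤ 1) {L : X.Modules} {x : X}
    (hb : Bad k X L x) :
    ∃ (hx : IsClosed ({x} : Set X)) (M : X.Modules), PicF.IsInvertible M ∧
      Nonempty (CohB1.tensorMod (ClSub.idealMod (ptIdeal X hx)) M ≅ L) ∧
      Module.finrank k (Coh.HH X M 1) = Module.finrank k (Coh.HH X L 1) ∧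
      Curv2.euler k X M = Curv2.euler k X L + 1 := by
  obtain ⟨hx, hrat, M, hM, ⟨e⟩, σ, hσ⟩ := hb
  refine ⟨hx, M, hM, ⟨e⟩, ?_, ?_⟩
  · have h0 := h0_of_genAt k X hx hrat hM σ hσ
    have h1 := h_sub_eq k X hdim hx hrat hM
    rw [← finrank_HH_of_iso k X e 1]
    rw [h0] at h1
    push_cast at h1
    have : (Module.finrank k (Coh.HH X M 1) : ℤ) =
        Module.finrank k (Coh.HH X (CohB1.tensorMod (ClSub.idealMod (ptIdeal X hx)) M) 1) := by
      linarith
    exact_mod_cast this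
  · haveI : IsLocallyNoetherian X :=
      LocallyOfFiniteType.isLocallyNoetherian (X ↘ Spec (CommRingCat.of k))
    have e1 := CurveIdeal.euler_eq_add k X (ptIdeal X hx) (dim_support_ptIdeal k X hx) hM
    rw [hrat, CurveTens.euler_of_iso k X e] at e1
    push_cast at e1
    exact e1

variable (k X)

/-- **at most `2g - 1 - deg L` bad points** -/
theorem card_bad_le (hdim : topologicalKrullDim X = 1)
    (hreg : ∀ x : X, IsRegularLocalRing (X.presheaf.stalk x)) (n : ℕ) :
    ∀ L : X.Modules, PicF.IsInvertible L → 0 < Module.finrank k (Coh.HH X L 1) →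
      2 * (Curv2.genus k X : ℤ) - 1 - Curv2.deg k X L 1 ≤ n →
      ∀ s : Finset X, (∀ x ∈ s, Bad k X L x) → s.card ≤ n := by
  haveI : IsLocallyNoetherian X :=
    LocallyOfFiniteType.isLocallyNoetherian (X ↘ Spec (CommRingCat.of k))
  classical
  induction n with
  | zero =>
    intro L hL h1 hdeg s hs
    exfalso
    have hsub := HH1_subsingleton_of_deg_ge k X hdim.le hL (by push_cast at hdeg; linarith)
    rw [Module.finrank_zero_of_subsingleton] at h1
    exact lt_irrefl _ h1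
  | succ n ih =>
    intro L hL h1 hdeg s hs
    rcases s.eq_empty_or_nonempty with rfl | ⟨x₁, hx₁s⟩
    · simp
    obtain ⟨hx₁, M₁, hM₁, ⟨e₁⟩, hh1, heul⟩ := (hs x₁ hx₁s).exists_twist hdim.le
    have hI₁ := CurvePtInv.isInvertible_idealMod_point hdim hx₁ (hreg x₁)
    have hdeg' : 2 * (Curv2.genus k X : ℤ) - 1 - Curv2.deg k X M₁ 1 ≤ n := by
      unfold Curv2.deg at hdeg ⊢
      rw [heul]
      push_cast at hdeg ⊢
      linarith
    have hc := ih M₁ hM₁ (by rw [hh1]; exact h1) hdeg' (s.erase x₁)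
      (fun x hx => (hs x (Finset.mem_of_mem_erase hx)).twist hx₁ (Finset.ne_of_mem_erase hx)
        hI₁ e₁)
    rw [Finset.card_erase_of_mem hx₁s] at hc
    omega

/-- **the set of bad points is finite** -/
theorem finite_bad (hdim : topologicalKrullDim X = 1)
    (hreg : ∀ x : X, IsRegularLocalRing (X.presheaf.stalk x))
    {L : X.Modules} (hL : PicF.IsInvertible L) (h1 : 0 < Module.finrank k (Coh.HH X L 1)) :
    {x : X | Bad k X L x}.Finite := by
  by_contra hinf
  have hinf' : {x : X | Bad k X L x}.Infinite := hinf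
  set n := (2 * (Curv2.genus k X : ℤ) - 1 - Curv2.deg k X L 1).toNat with hn
  obtain ⟨t, hts, htc⟩ := hinf'.exists_subset_card_eq (n + 1)
  have h := card_bad_le k X hdim hreg n L hL h1 (by rw [hn]; exact Int.self_le_toNat _) t
    (fun x hx => hts hx)
  omega

end Curve

end JacDrop
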