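import Mathlib
import Groth.Prelude
import Groth.Agent.Lib.JacDrop2_helper9
import Groth.Agent.Lib.VBCurve3_helper9
import Groth.Agent.Lib.CurveTop_helper7

/-!
# `h¹(L(x)) = h¹(L) - 1` for `x` in a nonempty open set (helper9)
APPEND-ONLY once landed.  Statement of S17807.
-/

set_option autoImplicit false
set_option linter.style.haveILetI false
universe u
open CategoryTheory CategoryTheory.Limits AlgebraicGeometry Opposite TopologicalSpace

namespace JacDrop

open QcqsLoc QCohExtn GenLocH8 TensH8 FLFH8 CohB1 Groth.Agent.HHVan CurveAmple CurveGG CurvePt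
  Groth.Agent.TensInv

section Iso

variable {X : Scheme.{u}}

/-- cancellation of an invertible module -/
theorem iso_of_tensor_iso {I M M' L : X.Modules} (hI : PicF.IsInvertible I)
    (e : CohB1.tensorMod I M ≅ L) (e' : CohB1.tensorMod I M' ≅ L) : Nonempty (M' ≅ M) := by
  obtain ⟨J, hJ, ⟨j⟩⟩ := Groth.Agent.InvTensP.exists_inverse I hI
  let f : ∀ N : X.Modules, N ≅ CohB1.tensorMod J (CohB1.tensorMod I N) := fun N =>
    (Groth.Agent.CMMul.unitorL N).symm ≪≫ mapR (j.symm ≪≫ comm I J) N ≪≫ assoc J I N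
  exact ⟨f M' ≪≫ mapL J (e' ≪≫ e.symm) ≪≫ (f M).symm⟩

end Iso

section Curve

variable (k : Type u) [Field k] (X : Scheme.{u}) [X.Over (Spec (CommRingCat.of k))]
  [IsIntegral X] [IsProper (X ↘ Spec (CommRingCat.of k))]

/-- the dichotomy at a rational closed point -/
theorem h1_twist (hdim : topologicalKrullDim X = 1)
    (hreg : ∀ x : X, IsRegularLocalRing (X.presheaf.stalk x)) {L : X.Modules} {x : X}
    (hx : IsClosed ({x} : Set X))
    (hrat : Module.finrank k (Coh.HH X (ClSub.quotMod (ptIdeal X hx)) 0) = 1)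
    {M : X.Modules} (hM : PicF.IsInvertible M)
    (e : CohB1.tensorMod (ClSub.idealMod (ptIdeal X hx)) M ≅ L) :
    (¬ Bad k X L x → Module.finrank k (Coh.HH X M 1) + 1 = Module.finrank k (Coh.HH X L 1)) ∧
    (Bad k X L x → Module.finrank k (Coh.HH X M 1) = Module.finrank k (Coh.HH X L 1)) := by
  haveI : IsLocallyNoetherian X :=
    LocallyOfFiniteType.isLocallyNoetherian (X ↘ Spec (CommRingCat.of k))
  have hI := CurvePtInv.isInvertible_idealMod_point hdim hx (hreg x)
  have h1 := h_sub_eq k X hdim.le hx hrat hM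
  rw [← finrank_HH_of_iso k X e 1]
  constructor
  · intro hnb
    have hno : ∀ σ : Coh.structureModule X ⟶ M, ¬ CurveLin.GenAt M σ x := fun σ hσ =>
      hnb ⟨hx, hrat, M, hM, ⟨e⟩, σ, hσ⟩
    have h0 := h0_of_not_genAt k X hx hM hno
    rw [h0] at h1
    have : (Module.finrank k (Coh.HH X M 1) : ℤ) + 1 =
        Module.finrank k (Coh.HH X (CohB1.tensorMod (ClSub.idealMod (ptIdeal X hx)) M) 1) := by
      linarith
    exact_mod_cast this
  · rintro ⟨hx', hrat', M', hM', ⟨e'⟩, σ', hσ'⟩
    obtain ⟨φ⟩ := iso_of_tensor_iso hI e e'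
    have h0 := h0_of_genAt k X hx hrat hM (σ' ≫ φ.hom) (CurveLin.GenAt.of_iso φ hσ')
    rw [h0] at h1
    push_cast at h1
    have : (Module.finrank k (Coh.HH X M 1) : ℤ) =
        Module.finrank k (Coh.HH X (CohB1.tensorMod (ClSub.idealMod (ptIdeal X hx)) M) 1) := by
      linarith
    exact_mod_cast this

end Curve

section Main

/-- **statement of S17807** -/
theorem main17807 (k : Type u) [Field k]
    (C : Scheme.{u}) [C.Over (Spec (CommRingCat.of k))]
    [IsProper (C ↘ Spec (CommRingCat.of k))] [Smooth (C ↘ Spec (CommRingCat.of k))]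
    [GeometricallyConnected (C ↘ Spec (CommRingCat.of k))]
    (hdim : topologicalKrullDim ↥C = 1)
    (L : C.Modules) (hL : PicF.IsInvertible L) (hL1 : 0 < Module.finrank k (Coh.HH C L 1)) :
    ∃ U : C.Opens, (U : Set ↥C).Nonempty ∧
      ∀ (σ : Spec (CommRingCat.of k) ⟶ C) (hσ : σ ≫ (C ↘ Spec (CommRingCat.of k)) = 𝟙 _)
        (M : C.Modules) (hM : PicF.IsInvertible M)
        (hML : Nonempty (CohB1.tensorMod M (ClSub.idealMod σ.ker) ≅ L)),
        ((∀ p, σ.base p ∈ U) → Module.finrank k (Coh.HH C M 1) =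
          Module.finrank k (Coh.HH C L 1) - 1) ∧
        ((∀ p, σ.base p ∉ U) → Module.finrank k (Coh.HH C M 1) =
          Module.finrank k (Coh.HH C L 1)) := by
  haveI : IsIntegral C := VBCurve.isIntegral_of_smooth_geomConn k C
  haveI : IsLocallyNoetherian C :=
    LocallyOfFiniteType.isLocallyNoetherian (C ↘ Spec (CommRingCat.of k))
  have hreg : ∀ x : C, IsRegularLocalRing (C.presheaf.stalk x) := fun x =>
    Groth.Agent.S1535.result k C x
  have hfin := finite_bad k C hdim hreg hL hL1
  have hclB : IsClosed {x : C | Bad k C L x} := by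
    have h1 : {x : C | Bad k C L x} = ⋃ x ∈ {x : C | Bad k C L x}, ({x} : Set C) := by
      ext y
      simp
    rw [h1]
    exact hfin.isClosed_biUnion (fun x hx => hx.1)
  refine ⟨⟨{x : C | Bad k C L x}ᶜ, hclB.isOpen_compl⟩, ⟨genericPoint C, ?_⟩, ?_⟩
  · intro hb
    exact Groth.Agent.Lib.CurveTopH7.not_isClosed_genericPoint
      (fun x hx => CurvePtInv.ringKrullDim_stalk_of_closed hdim hx) hb.1
  · intro σ hσ M hM ⟨e⟩
    haveI := CurvePtInv.isClosedImmersion_section k σ hσ
    haveI : Subsingleton ↥(Spec (CommRingCat.of k)) :=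
      inferInstanceAs (Subsingleton (PrimeSpectrum k))
    haveI : Nonempty ↥(Spec (CommRingCat.of k)) :=
      inferInstanceAs (Nonempty (PrimeSpectrum k))
    obtain ⟨z⟩ : Nonempty ↥(Spec (CommRingCat.of k)) := inferInstance
    have hrange : Set.range σ = {σ z} := by
      ext w
      constructor
      · rintro ⟨z', rfl⟩
        rw [Subsingleton.elim z' z]
        rfl
      · rintro rfl
        exact ⟨z, rfl⟩
    have hx : IsClosed ({σ z} : Set C) := by
      rw [← hrange]
      exact σ.isClosedEmbedding.isClosed_range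
    haveI : IsReduced (Spec (CommRingCat.of k)) := inferInstance
    have hker : σ.ker = ptIdeal C hx := CurvePtInv.ker_eq_vanishingIdeal_of_range σ hx hrange
    have hrat : Module.finrank k (Coh.HH C (ClSub.quotMod (ptIdeal C hx)) 0) = 1 := by
      rw [← hker]
      exact CurvePtInv.finrank_HH0_quotMod_ker k σ hσ
    have e' : CohB1.tensorMod (ClSub.idealMod (ptIdeal C hx)) M ≅ L := by
      rw [← hker]
      exact comm _ M ≪≫ e
    obtain ⟨r1, r2⟩ := h1_twist k C hdim hreg hx hrat hM e'
    constructor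
    · intro hU
      have h1 := r1 (hU z)
      omega
    · intro hU
      exact r2 (not_not.mp (hU z))

end Main

end JacDrop
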