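import Mathlib
import Groth.Agent.Lib.ProjDim2_helper8
import Groth.Agent.Lib.DimFT3_helper8

set_option autoImplicit false
universe u
open IsLocalRing

namespace Groth.Agent.Lib.JacGCIH8

variable {k : Type u} [Field k] {n : ℕ}

/-- dimension formula in the polynomial ring in `n` variables. -/
theorem height_add_dim_quotient (P : Ideal (MvPolynomial (Fin n) k)) [P.IsPrime] :
    ∃ r : ℕ, ringKrullDim (MvPolynomial (Fin n) k ⧸ P) = r ∧
      P.height + r = ((n : ℕ) : ℕ∞) := by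
  obtain ⟨N, -, hN, hdimA, -⟩ := Groth.Agent.DimFTH8.exists_dim_eq k (MvPolynomial (Fin n) k)
  have hN' : N = n := by
    rw [MvPolynomial.ringKrullDim_of_isNoetherianRing, ringKrullDim_eq_zero_of_field] at hdimA
    have : ((n : ℕ) : WithBot ℕ∞) = (N : WithBot ℕ∞) := by
      rw [← hdimA]; simp
    exact_mod_cast this.symm
  obtain ⟨r, hr1, hr2⟩ := Groth.Agent.DimFT3H8.height_add_trdeg_quotient N k _ hN P
  obtain ⟨r', hr'1, hr'2⟩ := Groth.Agent.Lib.ProjDimH8.exists_dim_quotient k _ P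
  have : r = r' := by
    have : (r : Cardinal) = (r' : Cardinal) := by rw [← hr1, ← hr'2]
    exact_mod_cast this
  subst this
  exact ⟨r, hr'1, by rw [hr2, hN']⟩

/-- If the ideal `I` of `k[x_1..x_n]` is generated by `c'` elements in the local ring at a prime
`𝔮 ⊇ I`, then `n ≤ dim (k[x]/I) + c'`. -/
theorem dim_quotient_ge (I 𝔮 : Ideal (MvPolynomial (Fin n) k)) [𝔮.IsPrime] (hI : I ≤ 𝔮)
    (c' : ℕ)
    (hgen : (I.map (algebraMap _ (Localization.AtPrime 𝔮))).spanFinrank ≤ c') :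
    ((n : ℕ) : WithBot ℕ∞) ≤ ringKrullDim (MvPolynomial (Fin n) k ⧸ I) + (c' : WithBot ℕ∞) := by
  classical
  let A := MvPolynomial (Fin n) k
  let P := Localization.AtPrime 𝔮
  let 𝔞 : Ideal P := I.map (algebraMap A P)
  have h𝔞 : 𝔞 ≤ maximalIdeal P := by
    rw [Ideal.map_le_iff_le_comap]
    have := IsLocalization.AtPrime.under_maximalIdeal P 𝔮
    rw [Ideal.under_def] at this
    rw [this]
    exact hI
  -- (1) Krull
  have h1 : ((maximalIdeal P).height : WithBot ℕ∞) ≤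
      ringKrullDim (P ⧸ 𝔞) + (𝔞.spanFinrank : WithBot ℕ∞) :=
    height_le_ringKrullDim_quotient_add_spanFinrank h𝔞
  -- (2) height of maximal ideal = height 𝔮
  have h2 : (maximalIdeal P).height = 𝔮.height := by
    have := IsLocalization.AtPrime.ringKrullDim_eq_height 𝔮 P
    have h' := IsLocalRing.maximalIdeal_height_eq_ringKrullDim (R := P)
    rw [this] at h'
    exact_mod_cast h'
  -- (3) the quotient prime
  let Q : Ideal (A ⧸ I) := 𝔮.map (Ideal.Quotient.mk I)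
  haveI hQp : Q.IsPrime := Ideal.isPrime_map_quotientMk_of_isPrime hI
  have hQc : Q.comap (Ideal.Quotient.mk I) = 𝔮 := by
    rw [Ideal.comap_map_of_surjective' _ Ideal.Quotient.mk_surjective, Ideal.mk_ker,
      sup_eq_left.mpr hI]
  have hM : Algebra.algebraMapSubmonoid (A ⧸ I) 𝔮.primeCompl = Q.primeCompl := by
    ext x
    constructor
    · rintro ⟨b, hb, rfl⟩
      intro hx
      apply hb
      rw [← hQc]
      exact hx
    · intro hx
      obtain ⟨b, rfl⟩ := Ideal.Quotient.mk_surjective x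
      refine ⟨b, ?_, rfl⟩
      intro hb
      apply hx
      rw [← hQc] at hb
      exact hb
  haveI hloc : IsLocalization (Algebra.algebraMapSubmonoid (A ⧸ I) 𝔮.primeCompl)
      (P ⧸ 𝔞) := inferInstance
  rw [hM] at hloc
  haveI : IsLocalization.AtPrime (P ⧸ 𝔞) Q := hloc
  have h3 : ringKrullDim (P ⧸ 𝔞) = Q.height :=
    IsLocalization.AtPrime.ringKrullDim_eq_height Q (P ⧸ 𝔞)
  -- (4)
  have h4 := Groth.Agent.DimFT3H8.height_add_ringKrullDim_quotient_le Q
  -- (5)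
  have h5 : ringKrullDim ((A ⧸ I) ⧸ Q) = ringKrullDim (A ⧸ 𝔮) := by
    have e : ((A ⧸ I) ⧸ Q) ≃+* (A ⧸ 𝔮) := DoubleQuot.quotQuotEquivQuotOfLE hI
    exact ringKrullDim_eq_of_ringEquiv e
  -- (6)
  obtain ⟨r, hr1, hr2⟩ := height_add_dim_quotient 𝔮
  rw [h5, hr1] at h4
  rw [h2, h3] at h1
  have hgen' : (𝔞.spanFinrank : WithBot ℕ∞) ≤ (c' : WithBot ℕ∞) := by exact_mod_cast hgen
  have hn : ((n : ℕ) : WithBot ℕ∞) = (𝔮.height : WithBot ℕ∞) + (r : WithBot ℕ∞) := by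
    have : ((𝔮.height + r : ℕ∞) : WithBot ℕ∞) = ((n : ℕ∞) : WithBot ℕ∞) := by rw [hr2]
    calc ((n : ℕ) : WithBot ℕ∞) = ((n : ℕ∞) : WithBot ℕ∞) := rfl
      _ = ((𝔮.height + r : ℕ∞) : WithBot ℕ∞) := this.symm
      _ = (𝔮.height : WithBot ℕ∞) + (r : WithBot ℕ∞) := by push_cast; rfl
  calc ((n : ℕ) : WithBot ℕ∞) = (𝔮.height : WithBot ℕ∞) + (r : WithBot ℕ∞) := hn
    _ ≤ ((Q.height : WithBot ℕ∞) + (𝔞.spanFinrank : WithBot ℕ∞)) + (r : WithBot ℕ∞) := by
        gcongr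
    _ = ((Q.height : WithBot ℕ∞) + (r : WithBot ℕ∞)) + (𝔞.spanFinrank : WithBot ℕ∞) := by
        ring
    _ ≤ ringKrullDim (A ⧸ I) + (c' : WithBot ℕ∞) := by
        gcongr

end Groth.Agent.Lib.JacGCIH8
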