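import Mathlib
import Groth.Agent.Lib.JacGCI1_helper8

set_option autoImplicit false
universe u
open IsLocalRing TensorProduct

namespace Groth.Agent.Lib.JacGCIH8

/-- The fibre of `R[x]/(F)` over a prime `p` is `κ(p)[x]/(F̄)`. -/
theorem fiber_ringEquiv (R : Type u) [CommRing R] (n c : ℕ)
    (F : Fin c → MvPolynomial (Fin n) R) (p : Ideal R) [p.IsPrime] :
    Nonempty (p.Fiber (MvPolynomial (Fin n) R ⧸ Ideal.span (Set.range F)) ≃+*
      (MvPolynomial (Fin n) p.ResidueField ⧸
        Ideal.span (Set.range fun j => MvPolynomial.map (algebraMap R p.ResidueField) (F j)))) := by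
  classical
  let κ := p.ResidueField
  let I : Ideal (MvPolynomial (Fin n) R) := Ideal.span (Set.range F)
  let e1 := Algebra.TensorProduct.tensorQuotientEquiv (R := R) κ (MvPolynomial (Fin n) R) κ I
  let e2 : κ ⊗[R] MvPolynomial (Fin n) R ≃ₐ[κ] MvPolynomial (Fin n) κ :=
    MvPolynomial.algebraTensorAlgEquiv R κ
  let J : Ideal (κ ⊗[R] MvPolynomial (Fin n) R) :=
    I.map (Algebra.TensorProduct.includeRight (A := κ) (R := R))
  let J' : Ideal (MvPolynomial (Fin n) κ) :=
    Ideal.span (Set.range fun j => MvPolynomial.map (algebraMap R κ) (F j))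
  let f1 : MvPolynomial (Fin n) R →+* κ ⊗[R] MvPolynomial (Fin n) R :=
    (Algebra.TensorProduct.includeRight (A := κ) (R := R)).toRingHom
  let f2 : κ ⊗[R] MvPolynomial (Fin n) R →+* MvPolynomial (Fin n) κ := e2.toRingEquiv.toRingHom
  have hf : ∀ x, f2 (f1 x) = MvPolynomial.map (algebraMap R κ) x := by
    intro x
    change e2 (1 ⊗ₜ x) = _
    simp [e2]
  have hJ : J' = J.map (e2.toRingEquiv : κ ⊗[R] MvPolynomial (Fin n) R →+* MvPolynomial (Fin n) κ) := by
    change J' = (I.map f1).map f2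
    have himg : (Set.range fun j => MvPolynomial.map (algebraMap R κ) (F j)) =
        ⇑(f2.comp f1) '' Set.range F := by
      ext x
      simp only [Set.mem_range, Set.mem_image]
      constructor
      · rintro ⟨j, rfl⟩
        exact ⟨F j, ⟨j, rfl⟩, hf _⟩
      · rintro ⟨_, ⟨j, rfl⟩, rfl⟩
        exact ⟨j, (hf _).symm⟩
    rw [Ideal.map_map, Ideal.map_span, ← himg]
  let e3 : (κ ⊗[R] MvPolynomial (Fin n) R) ⧸ J ≃+* MvPolynomial (Fin n) κ ⧸ J' :=
    Ideal.quotientEquiv J J' e2.toRingEquiv hJ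
  exact ⟨e1.toRingEquiv.trans e3⟩


theorem fiber_dim_eq (R : Type u) [CommRing R] (n c : ℕ)
    (F : Fin c → MvPolynomial (Fin n) R) (p : Ideal R) [p.IsPrime] :
    ringKrullDim (p.Fiber (MvPolynomial (Fin n) R ⧸ Ideal.span (Set.range F))) =
    ringKrullDim (MvPolynomial (Fin n) p.ResidueField ⧸
        Ideal.span (Set.range fun j => MvPolynomial.map (algebraMap R p.ResidueField) (F j))) := by
  obtain ⟨e⟩ := fiber_ringEquiv R n c F p
  exact ringKrullDim_eq_of_ringEquiv
    (R := p.Fiber (MvPolynomial (Fin n) R ⧸ Ideal.span (Set.range F)))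
    (S := MvPolynomial (Fin n) p.ResidueField ⧸
        Ideal.span (Set.range fun j => MvPolynomial.map (algebraMap R p.ResidueField) (F j))) e

theorem fiber_nontrivial (R : Type u) [CommRing R] (n c : ℕ)
    (F : Fin c → MvPolynomial (Fin n) R) (p : Ideal R) [p.IsPrime]
    (h : Nontrivial (MvPolynomial (Fin n) p.ResidueField ⧸
        Ideal.span (Set.range fun j => MvPolynomial.map (algebraMap R p.ResidueField) (F j)))) :
    Nontrivial (p.Fiber (MvPolynomial (Fin n) R ⧸ Ideal.span (Set.range F))) := by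
  obtain ⟨e⟩ := fiber_ringEquiv R n c F p
  exact e.symm.injective.nontrivial

end Groth.Agent.Lib.JacGCIH8
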