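import Mathlib
import Groth.Prelude.Def_RegImm
import Groth.Agent.Lib.JacGCI2_helper8

set_option autoImplicit false
universe u
open IsLocalRing TensorProduct

namespace Groth.Agent.Lib.JacGCIH8

/-- A prime of the fibre polynomial ring above a given prime of `R[x]`, with a bound on local
generators. -/
theorem exists_fibre_prime (R : Type u) [CommRing R] (n c : ℕ)
    (F : Fin c → MvPolynomial (Fin n) R) (𝔮 : Ideal (MvPolynomial (Fin n) R)) [𝔮.IsPrime]
    (hI : Ideal.span (Set.range F) ≤ 𝔮) (p : Ideal R) [p.IsPrime]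
    (hp : p = 𝔮.comap (algebraMap R (MvPolynomial (Fin n) R))) :
    ∃ (𝔮' : Ideal (MvPolynomial (Fin n) p.ResidueField)) (_ : 𝔮'.IsPrime),
      Ideal.span (Set.range fun j => MvPolynomial.map (algebraMap R p.ResidueField) (F j)) ≤ 𝔮' ∧
      ((Ideal.span (Set.range fun j => MvPolynomial.map (algebraMap R p.ResidueField) (F j))).map
          (algebraMap _ (Localization.AtPrime 𝔮'))).spanFinrank ≤
        ((Ideal.span (Set.range F)).map (algebraMap _ (Localization.AtPrime 𝔮))).spanFinrank := by
  classical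
  let A := MvPolynomial (Fin n) R
  let κ := p.ResidueField
  let A' := MvPolynomial (Fin n) κ
  let L := 𝔮.ResidueField
  let I : Ideal A := Ideal.span (Set.range F)
  let I' : Ideal A' := Ideal.span (Set.range fun j => MvPolynomial.map (algebraMap R κ) (F j))
  let φ : A →+* A' := MvPolynomial.map (algebraMap R κ)
  let ι : κ →+* L := Ideal.ResidueField.map p 𝔮 (algebraMap R A) hp
  let ψ : A' →+* L := MvPolynomial.eval₂Hom ι (fun i => algebraMap A L (MvPolynomial.X i))
  have hψφ : ψ.comp φ = algebraMap A L := by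
    apply MvPolynomial.ringHom_ext
    · intro r
      change ψ (MvPolynomial.map (algebraMap R κ) (MvPolynomial.C r)) = _
      rw [MvPolynomial.map_C]
      change MvPolynomial.eval₂Hom ι _ (MvPolynomial.C _) = _
      rw [MvPolynomial.eval₂Hom_C]
      exact Ideal.ResidueField.map_algebraMap p 𝔮 (algebraMap R A) hp r
    · intro i
      change ψ (MvPolynomial.map (algebraMap R κ) (MvPolynomial.X i)) = _
      rw [MvPolynomial.map_X]
      change MvPolynomial.eval₂Hom ι _ (MvPolynomial.X i) = _
      rw [MvPolynomial.eval₂Hom_X']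
  let 𝔮' : Ideal A' := RingHom.ker ψ
  haveI h𝔮' : 𝔮'.IsPrime := RingHom.ker_isPrime ψ
  have hcomap : 𝔮 = 𝔮'.comap φ := by
    ext f
    rw [Ideal.mem_comap, RingHom.mem_ker]
    have : ψ (φ f) = algebraMap A L f := RingHom.congr_fun hψφ f
    rw [this, Ideal.algebraMap_residueField_eq_zero]
  have hIφ : I.map φ = I' := by
    change (Ideal.span (Set.range F)).map φ = _
    rw [Ideal.map_span]
    congr 1
    ext x
    simp only [Set.mem_image, Set.mem_range]
    constructor
    · rintro ⟨_, ⟨j, rfl⟩, rfl⟩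
      exact ⟨j, rfl⟩
    · rintro ⟨j, rfl⟩
      exact ⟨F j, ⟨j, rfl⟩, rfl⟩
  have hI' : I' ≤ 𝔮' := by
    rw [← hIφ, Ideal.map_le_iff_le_comap, ← hcomap]
    exact hI
  refine ⟨𝔮', h𝔮', hI', ?_⟩
  let P := Localization.AtPrime 𝔮
  let P' := Localization.AtPrime 𝔮'
  let lrh : P →+* P' := Localization.localRingHom 𝔮 𝔮' φ hcomap
  have hcomp : lrh.comp (algebraMap A P) = (algebraMap A' P').comp φ := by
    refine RingHom.ext (fun x => ?_)
    exact Localization.localRingHom_to_map 𝔮 𝔮' φ hcomap x
  have hmap : (I.map (algebraMap A P)).map lrh = I'.map (algebraMap A' P') := by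
    rw [Ideal.map_map, hcomp, ← Ideal.map_map, hIφ]
  have hfg : (I.map (algebraMap A P)).FG :=
    Ideal.FG.map (I := I) (Submodule.fg_span (Set.finite_range F)) _
  have := Ideal.spanFinrank_map_le_of_fg lrh hfg
  rw [hmap] at this
  exact this


/-- In a relative global complete intersection, the ideal `(F)` needs at least `c` generators
in the local ring at any prime containing it. -/
theorem le_spanFinrank_of_isRelGCI (R : Type u) [CommRing R] (n c : ℕ)
    (F : Fin c → MvPolynomial (Fin n) R) (hF : Synt.IsRelGCI R n c F)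
    (𝔮 : Ideal (MvPolynomial (Fin n) R)) [𝔮.IsPrime]
    (hI : Ideal.span (Set.range F) ≤ 𝔮) :
    c ≤ ((Ideal.span (Set.range F)).map (algebraMap _ (Localization.AtPrime 𝔮))).spanFinrank := by
  classical
  let p : Ideal R := 𝔮.comap (algebraMap R (MvPolynomial (Fin n) R))
  haveI : p.IsPrime := Ideal.comap_isPrime _ _
  obtain ⟨𝔮', h𝔮', hI', hle⟩ := exists_fibre_prime R n c F 𝔮 hI p rfl
  set I' : Ideal (MvPolynomial (Fin n) p.ResidueField) :=
    Ideal.span (Set.range fun j => MvPolynomial.map (algebraMap R p.ResidueField) (F j)) with hI'def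
  have hnt : Nontrivial (MvPolynomial (Fin n) p.ResidueField ⧸ I') :=
    Ideal.Quotient.nontrivial_iff.mpr (fun h => h𝔮'.ne_top (top_le_iff.mp (h ▸ hI')))
  have hnt' := fiber_nontrivial R n c F p hnt
  obtain ⟨hcn, hdim⟩ := hF ⟨p, inferInstance⟩ hnt'
  have hdim' : ringKrullDim (MvPolynomial (Fin n) p.ResidueField ⧸ I') =
      ((n - c : ℕ) : WithBot ℕ∞) := by
    rw [← fiber_dim_eq R n c F p]
    exact hdim
  have key := dim_quotient_ge I' 𝔮' hI' _ le_rfl
  rw [hdim'] at key
  have key' : n ≤ (n - c) + (I'.map (algebraMap _ (Localization.AtPrime 𝔮'))).spanFinrank := by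
    exact_mod_cast key
  omega

end Groth.Agent.Lib.JacGCIH8
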