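import Mathlib
import Groth.Prelude.Def_RegImm
import Groth.Agent.Lib.JacGCI3_helper8
import Groth.Agent.Lib.JacGCI4_helper8
import Groth.Agent.Lib.EtCoord_helper8

set_option autoImplicit false
universe u
open IsLocalRing TensorProduct KaehlerDifferential

namespace Groth.Agent.Lib.JacGCIH8

/-- converse of `EtCoordH8.formallySmooth_quotient_localization`. -/
theorem isSmoothAt_of_formallySmooth_quotient_localization {A B : Type u} [CommRing A] [CommRing B]
    [Algebra A B] (J : Ideal B) (q : Ideal B) [q.IsPrime] (Q : Ideal (B ⧸ J)) [Q.IsPrime]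
    (hQ : Q.comap (Ideal.Quotient.mk J) = q)
    [Algebra.FormallySmooth A
      (Localization.AtPrime q ⧸ J.map (algebraMap B (Localization.AtPrime q)))] :
    Algebra.IsSmoothAt A Q := by
  let P := Localization.AtPrime q
  have hM : Algebra.algebraMapSubmonoid (B ⧸ J) q.primeCompl = Q.primeCompl := by
    ext x
    constructor
    · rintro ⟨b, hb, rfl⟩
      intro hx
      apply hb
      rw [← hQ]
      exact hx
    · intro hx
      obtain ⟨b, rfl⟩ := Ideal.Quotient.mk_surjective x
      refine ⟨b, ?_, rfl⟩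
      intro hb
      apply hx
      rw [← hQ] at hb
      exact hb
  haveI h1 : IsLocalization (Algebra.algebraMapSubmonoid (B ⧸ J) q.primeCompl)
      (P ⧸ J.map (algebraMap B P)) := inferInstance
  rw [hM] at h1
  haveI : IsLocalization.AtPrime (P ⧸ J.map (algebraMap B P)) Q := h1
  let e : Localization.AtPrime Q ≃ₐ[B ⧸ J] (P ⧸ J.map (algebraMap B P)) :=
    IsLocalization.algEquiv Q.primeCompl _ _
  haveI : IsScalarTower A (B ⧸ J) (P ⧸ J.map (algebraMap B P)) := by
    refine IsScalarTower.of_algebraMap_eq (fun a => ?_)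
    rfl
  exact Algebra.FormallySmooth.of_equiv (e.symm.restrictScalars A)


section Main

variable (R : Type u) [CommRing R] (n c : ℕ) (F : Fin c → MvPolynomial (Fin n) R)

/-- The Jacobian matrix of `F` with entries in the residue field at `𝔮`. -/
noncomputable def jacRes (𝔮 : Ideal (MvPolynomial (Fin n) R)) [𝔮.IsPrime] :
    Matrix (Fin c) (Fin n) (ResidueField (Localization.AtPrime 𝔮)) :=
  Matrix.of fun j i => algebraMap (MvPolynomial (Fin n) R) (ResidueField (Localization.AtPrime 𝔮))
    (MvPolynomial.pderiv i (F j))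

theorem formallySmooth_iff_rows (hF : Synt.IsRelGCI R n c F)
    (𝔮 : Ideal (MvPolynomial (Fin n) R)) [𝔮.IsPrime] (hI : Ideal.span (Set.range F) ≤ 𝔮) :
    Algebra.FormallySmooth R (Localization.AtPrime 𝔮 ⧸
      (Ideal.span (Set.range F)).map (algebraMap _ (Localization.AtPrime 𝔮))) ↔
    LinearIndependent (ResidueField (Localization.AtPrime 𝔮)) (jacRes R n c F 𝔮).row := by
  classical
  let A := MvPolynomial (Fin n) R
  let P := Localization.AtPrime 𝔮
  let I : Ideal A := Ideal.span (Set.range F)
  let 𝔞 : Ideal P := I.map (algebraMap A P)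
  let T := P ⧸ 𝔞
  let k := ResidueField P
  have h𝔞 : 𝔞 ≤ maximalIdeal P := by
    rw [Ideal.map_le_iff_le_comap]
    have := IsLocalization.AtPrime.under_maximalIdeal P 𝔮
    rw [Ideal.under_def] at this
    rw [this]
    exact hI
  haveI : Nontrivial T := Ideal.Quotient.nontrivial_iff.mpr
    (fun h => (maximalIdeal.isMaximal P).ne_top (top_le_iff.mp (h ▸ h𝔞)))
  haveI : IsLocalRing T := IsLocalRing.of_surjective' (Ideal.Quotient.mk 𝔞)
    Ideal.Quotient.mk_surjective
  let fTk : P ⧸ 𝔞 →+* ResidueField P := Ideal.Quotient.lift 𝔞 (residue P)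
    (fun a ha => (residue_eq_zero_iff a).mpr (h𝔞 ha))
  letI algTk : Algebra (P ⧸ 𝔞) (ResidueField P) := fTk.toAlgebra
  haveI : IsScalarTower P T k := by
    refine ⟨fun x y z => ?_⟩
    obtain ⟨y', rfl⟩ := Ideal.Quotient.mk_surjective y
    change fTk (Ideal.Quotient.mk 𝔞 (x * y')) * z =
      residue P x * (fTk (Ideal.Quotient.mk 𝔞 y') * z)
    rw [Ideal.Quotient.lift_mk, Ideal.Quotient.lift_mk, ← mul_assoc]
    congr 1
  haveI : Algebra.EssFiniteType A P := .of_isLocalization _ 𝔮.primeCompl
  haveI : Algebra.EssFiniteType R P := .comp _ A _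
  haveI : Algebra.FormallySmooth A P := Algebra.FormallySmooth.of_isLocalization 𝔮.primeCompl
  haveI : Algebra.FormallySmooth R P := Algebra.FormallySmooth.comp R A P
  haveI : Module.Finite P Ω[P⁄R] := inferInstance
  haveI : Module.Projective P Ω[P⁄R] := inferInstance
  haveI : Module.Free P Ω[P⁄R] := Module.free_of_flat_of_isLocalRing
  have hs1 : Function.Surjective (algebraMap P T) := Ideal.Quotient.mk_surjective
  have hker : RingHom.ker (algebraMap P T) = 𝔞 := Ideal.mk_ker
  have hfg𝔞 : 𝔞.FG := Ideal.FG.map (I := I) (Submodule.fg_span (Set.finite_range F)) _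
  have hs2 : (RingHom.ker (algebraMap P T)).FG := by
    rw [hker]
    exact hfg𝔞
  refine (Algebra.FormallySmooth.iff_injective_cotangentComplexBaseChange (R := R) (S := P ⧸ 𝔞) P
    (ResidueField P) hs1 hs2 ?_).trans ?_
  · intro x hx
    obtain ⟨y, rfl⟩ := Ideal.Quotient.mk_surjective x
    rw [RingHom.mem_ker]
    change fTk (Ideal.Quotient.mk 𝔞 y) = 0
    rw [Ideal.Quotient.lift_mk, residue_eq_zero_iff]
    by_contra hy
    have hyu : IsUnit y := by
      by_contra hnu
      exact hy ((mem_maximalIdeal _).mpr hnu)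
    exact (mem_nonunits_iff.mp ((mem_maximalIdeal _).mp hx)) (hyu.map (Ideal.Quotient.mk 𝔞))
  let ker : Ideal P := RingHom.ker (algebraMap P (P ⧸ 𝔞))
  have hker' : ker = 𝔞 := hker
  have hmemker : ∀ j : Fin c, algebraMap A P (F j) ∈ ker := fun j => by
    rw [hker']; exact Ideal.mem_map_of_mem _ (Ideal.subset_span (Set.mem_range_self j))
  let g : Fin c → ↥ker := fun j => ⟨algebraMap A P (F j), hmemker j⟩
  let v : Fin c → ResidueField P ⊗[P] ↥ker := fun j => (1 : ResidueField P) ⊗ₜ[P] g j
  have hgspan : Submodule.span P (Set.range g) = ⊤ := by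
    apply Submodule.map_injective_of_injective (f := ker.subtype) (Submodule.subtype_injective _)
    rw [Submodule.map_span, Submodule.map_subtype_top, ← Set.range_comp]
    change Ideal.span (Set.range fun j => algebraMap A P (F j)) = ker
    rw [hker']
    change _ = Ideal.map (algebraMap A P) (Ideal.span (Set.range F))
    rw [Ideal.map_span, ← Set.range_comp]
    rfl
  have hvspan : Submodule.span (ResidueField P) (Set.range v) = ⊤ := by
    rw [eq_top_iff]
    intro x hx0
    clear hx0
    obtain ⟨y, rfl⟩ := TensorProduct.mk_surjective P ↥ker (ResidueField P)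
      IsLocalRing.residue_surjective x
    have hy : y ∈ Submodule.span P (Set.range g) := hgspan ▸ Submodule.mem_top
    rw [TensorProduct.mk_apply]
    induction hy using Submodule.span_induction with
    | mem z hz =>
      obtain ⟨j, rfl⟩ := hz
      exact Submodule.subset_span ⟨j, rfl⟩
    | zero => rw [TensorProduct.tmul_zero]; exact Submodule.zero_mem _
    | add a b _ _ ha hb => rw [TensorProduct.tmul_add]; exact Submodule.add_mem _ ha hb
    | smul r a _ ha =>
      rw [TensorProduct.tmul_smul, ← algebraMap_smul (ResidueField P) r]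
      exact Submodule.smul_mem _ _ ha
  have hcle : c ≤ Module.finrank (ResidueField P) (ResidueField P ⊗[P] ↥ker) := by
    rw [Module.finrank_eq_spanFinrank_of_free,
      TensorProduct.spanFinrank_top_eq_of_residueField ker (hker' ▸ hfg𝔞), hker']
    exact le_spanFinrank_of_isRelGCI R n c F hF 𝔮 hI
  have hvli : LinearIndependent (ResidueField P) v := by
    apply linearIndependent_of_top_le_span_of_card_le_finrank hvspan.ge
    rw [Fintype.card_fin]
    exact hcle
  -- the basis of `k ⊗ Ω`
  haveI : Algebra.FormallyEtale A P := Algebra.FormallyEtale.of_isLocalization 𝔮.primeCompl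
  have hbc : IsBaseChange P (KaehlerDifferential.map R R A P) :=
    KaehlerDifferential.isBaseChange_of_formallyEtale R A P
  let b := KaehlerDifferential.mvPolynomialBasis R (Fin n)
  let b' : Module.Basis (Fin n) P Ω[P⁄R] := hbc.basis b
  let bK : Module.Basis (Fin n) (ResidueField P) (ResidueField P ⊗[P] Ω[P⁄R]) :=
    b'.baseChange (ResidueField P)
  let Φ : (ResidueField P ⊗[P] Ω[P⁄R]) ≃ₗ[ResidueField P] (Fin n → ResidueField P) :=
    bK.equivFun
  have hΦ : ∀ j : Fin c, Φ (cotangentComplexBaseChange R (P ⧸ 𝔞) P (ResidueField P) (v j)) =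
      (jacRes R n c F 𝔮).row j := by
    intro j
    ext i
    change bK.repr (cotangentComplexBaseChange R (P ⧸ 𝔞) P (ResidueField P)
      ((1 : ResidueField P) ⊗ₜ[P] g j)) i = _
    rw [cotangentComplexBaseChange_tmul, one_smul, kerToTensor_apply,
      Module.Basis.baseChange_repr_tmul]
    change b'.repr (D R P (algebraMap A P (F j))) i • (1 : ResidueField P) = _
    rw [← KaehlerDifferential.map_D R R A P, IsBaseChange.basis_repr_comp_apply,
      KaehlerDifferential.mvPolynomialBasis_repr_apply, Algebra.smul_def, mul_one]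
    change _ = algebraMap A (ResidueField P) (MvPolynomial.pderiv i (F j))
    rw [IsScalarTower.algebraMap_apply A P (ResidueField P)]
  let Ψ : (ResidueField P ⊗[P] ↥ker) →ₗ[ResidueField P] (Fin n → ResidueField P) :=
    Φ.toLinearMap ∘ₗ cotangentComplexBaseChange R (P ⧸ 𝔞) P (ResidueField P)
  have hΨ : Ψ ∘ v = (jacRes R n c F 𝔮).row := funext hΦ
  constructor
  · intro hinj
    have hΨinj : Function.Injective Ψ := Φ.injective.comp hinj
    rw [← hΨ]
    exact hvli.map' Ψ (LinearMap.ker_eq_bot.mpr hΨinj)
  · intro hrows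
    rw [← hΨ] at hrows
    have hΨinj : Function.Injective Ψ :=
      injective_of_span_of_linearIndependent Ψ v hvspan hrows
    exact Function.Injective.of_comp (f := Φ) hΨinj

end Main

theorem main9441 (R : Type u) [CommRing R] (n c : ℕ)
    (F : Fin c → MvPolynomial (Fin n) R) (hF : Synt.IsRelGCI R n c F)
    (q : Ideal (Synt.RelGCIRing R n c F)) [q.IsPrime] :
    Algebra.IsSmoothAt R q ↔ ∃ I : Fin c ↪ Fin n,
      Ideal.Quotient.mk (Ideal.span (Set.range F))
        (Matrix.det (Matrix.of fun j i => MvPolynomial.pderiv (I i) (F j))) ∉ q := by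
  classical
  let A := MvPolynomial (Fin n) R
  let J : Ideal A := Ideal.span (Set.range F)
  let 𝔮 : Ideal A := q.comap (Ideal.Quotient.mk J)
  haveI : 𝔮.IsPrime := Ideal.comap_isPrime _ _
  have hI : J ≤ 𝔮 := by
    intro x hx
    change Ideal.Quotient.mk J x ∈ q
    rw [Ideal.Quotient.eq_zero_iff_mem.mpr hx]
    exact Ideal.zero_mem _
  let P := Localization.AtPrime 𝔮
  have h1 : Algebra.IsSmoothAt R q ↔
      Algebra.FormallySmooth R (P ⧸ J.map (algebraMap A P)) := by
    constructor
    · intro h
      haveI : Algebra.IsSmoothAt R q := h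
      exact EtCoordH8.formallySmooth_quotient_localization (A := R) J 𝔮 q rfl
    · intro h
      haveI : Algebra.FormallySmooth R (P ⧸ J.map (algebraMap A P)) := h
      exact isSmoothAt_of_formallySmooth_quotient_localization (A := R) J 𝔮 q rfl
  rw [h1, formallySmooth_iff_rows R n c F hF 𝔮 hI, linearIndependent_rows_iff_exists_minor]
  refine exists_congr (fun I => ?_)
  have hdet : ((jacRes R n c F 𝔮).submatrix id I).det =
      algebraMap A (ResidueField P)
        (Matrix.det (Matrix.of fun j i => MvPolynomial.pderiv (I i) (F j))) := by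
    rw [RingHom.map_det]
    congr 1
  rw [hdet]
  change _ ↔ _ ∉ 𝔮
  rw [not_iff_not, IsScalarTower.algebraMap_apply A P (ResidueField P)]
  change residue P _ = 0 ↔ _
  rw [residue_eq_zero_iff, IsLocalization.AtPrime.to_map_mem_maximal_iff P 𝔮]

end Groth.Agent.Lib.JacGCIH8
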