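import Mathlib
import Groth.Prelude.Def_CAlgX
import Groth.Agent.Lib.JacLoc_helper3

/-!
# Global form of the Jacobian criterion: formal smoothness is local at maximal ideals (helper3)

* `exists_retraction_of_forall_maximal`: a linear map from a finite module to a projective module
  which is injective modulo every maximal ideal is a split injection.
* `formallySmooth_of_forall_maximal`: for a quotient `C` of a formally smooth `A`-algebra `B`
  with finitely generated conormal module, `C` is formally smooth over `A` as soon as all its
  localisations at maximal ideals are.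
APPEND-ONLY once landed.
-/

set_option autoImplicit false
universe u

open TensorProduct

namespace Groth.Agent.Lib.JacLoc3H3

/-- A linear map from a finite module to a projective module which is injective modulo every
maximal ideal is a split injection. -/
theorem exists_retraction_of_forall_maximal {C : Type u} [CommRing C] {M P : Type u}
    [AddCommGroup M] [Module C M] [Module.Finite C M] [AddCommGroup P] [Module C P]
    [Module.Projective C P] (u : M →ₗ[C] P)
    (h : ∀ (m : Ideal C) [m.IsMaximal], Function.Injective (u.lTensor m.ResidueField)) :
    ∃ l : P →ₗ[C] M, l ∘ₗ u = LinearMap.id := by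
  let I : Ideal C :=
    { carrier := {f | ∃ l : P →ₗ[C] M, ∀ x, l (u x) = f • x}
      add_mem' := by
        rintro a b ⟨l₁, h₁⟩ ⟨l₂, h₂⟩
        exact ⟨l₁ + l₂, fun x => by simp [h₁, h₂, add_smul]⟩
      zero_mem' := ⟨0, fun x => by simp⟩
      smul_mem' := by
        rintro c a ⟨l, hl⟩
        exact ⟨c • l, fun x => by simp [hl, mul_smul]⟩ }
  have hI : I = ⊤ := by
    by_contra hne
    obtain ⟨m, hm, hle⟩ := Ideal.exists_le_maximal I hne
    obtain ⟨f, hf, l, hl⟩ := JacLocH3.exists_smul_retraction m u (h m)
    exact hf (hle ⟨l, hl⟩)
  obtain ⟨l, hl⟩ : (1 : C) ∈ I := hI ▸ Submodule.mem_top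
  exact ⟨l, LinearMap.ext fun x => by simp [hl]⟩

variable {A B C : Type u} [CommRing A] [CommRing B] [CommRing C] [Algebra A B] [Algebra B C]
  [Algebra A C] [IsScalarTower A B C] [Algebra.FormallySmooth A B]

/-- Formal smoothness of a quotient of a formally smooth algebra may be tested at the maximal
ideals. -/
theorem formallySmooth_of_forall_maximal (hsurj : Function.Surjective (algebraMap B C))
    [Module.Finite B (RingHom.ker (algebraMap B C)).Cotangent]
    (h : ∀ (m : Ideal C) [m.IsMaximal], Algebra.FormallySmooth A (Localization.AtPrime m)) :
    Algebra.FormallySmooth A C := by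
  let P' := JacLocH3.ext (A := A) hsurj
  haveI : Algebra.FormallySmooth A P'.Ring := ‹Algebra.FormallySmooth A B›
  let u : P'.Cotangent →ₗ[C] P'.CotangentSpace := P'.cotangentComplex
  haveI : Module.Finite C P'.Cotangent := by
    haveI : Module.Finite B P'.Cotangent :=
      Module.Finite.equiv (show (RingHom.ker (algebraMap B C)).Cotangent ≃ₗ[B] P'.Cotangent from
        P'.cotangentEquivCotangentKer.symm)
    exact Module.Finite.of_restrictScalars_finite B C _
  haveI : Module.Projective C P'.CotangentSpace := inferInstance
  rw [Algebra.Extension.formallySmooth_iff_split_injection P']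
  apply exists_retraction_of_forall_maximal u
  intro m _
  have h2 := ((JacLocH3.tfae_main (A := A) hsurj m).out 0 1).1 (h m)
  have hconv : Function.Injective
      ((KaehlerDifferential.kerCotangentToTensor A B C).lTensor m.ResidueField) ↔
      Function.Injective (u.lTensor m.ResidueField) :=
    JacLocH3.lTensor_injective_iff_of_surjective hsurj m.ResidueField
      (X' := (RingHom.ker (algebraMap B C)).Cotangent) u
      (KaehlerDifferential.kerCotangentToTensor A B C)
      (show P'.Cotangent ≃ₗ[B] (RingHom.ker (algebraMap B C)).Cotangent from
        P'.cotangentEquivCotangentKer)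
      (LinearEquiv.refl B _) (fun x => rfl)
  exact hconv.1 h2

end Groth.Agent.Lib.JacLoc3H3
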