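import Mathlib
import Groth.Prelude
import Groth.Agent.Lib.JacLocus1_helper3
import Groth.Agent.Lib.FittFibre3_helper3
import Groth.Agent.Lib.OmegaFitt_helper4
import Groth.Agent.Lib.OmegaSec_helper4

/-!
# The Jacobian loci `J^p(X/Y)` and local closed immersions into smooth schemes (helper3)
APPEND-ONLY once landed.
-/

set_option autoImplicit false

universe u

open CategoryTheory CategoryTheory.Limits AlgebraicGeometry Opposite TopologicalSpace TensorProduct

namespace Groth.Agent.Lib.JacLocusH3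

/-- If `A` is a quotient of an `R`-algebra `A'` which is standard smooth of relative dimension `p`,
then the `p`-th Fitting ideal of `Ω_{A/R}` is the unit ideal. -/
theorem fitt_top_of_surjective (p : ℕ) {R A' A : Type u} [CommRing R] [CommRing A'] [CommRing A]
    (φ : R →+* A') (ψ : A' →+* A) (hψ : Function.Surjective ψ)
    (hφ : φ.IsStandardSmoothOfRelativeDimension p) (χ : R →+* A) (hχ : χ = ψ.comp φ) :
    letI := χ.toAlgebra
    Fitt.ideal A Ω[A⁄R] p = ⊤ := by
  subst hχ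
  letI := φ.toAlgebra
  letI := ψ.toAlgebra
  letI := (ψ.comp φ).toAlgebra
  haveI : IsScalarTower R A' A := .of_algebraMap_eq' rfl
  haveI : Algebra.IsStandardSmoothOfRelativeDimension p R A' := hφ
  rcases subsingleton_or_nontrivial A with hA | hA
  · exact Subsingleton.elim _ _
  haveI : Nontrivial A' := by
    by_contra hcon
    rw [not_nontrivial_iff_subsingleton] at hcon
    have h01 : (0 : A) = 1 := by
      rw [← map_zero ψ, ← map_one ψ, Subsingleton.elim (0 : A') 1]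
    exact zero_ne_one h01
  haveI : Algebra.IsStandardSmooth R A' :=
    Algebra.IsStandardSmoothOfRelativeDimension.isStandardSmooth p
  have hrank : Module.rank A' Ω[A'⁄R] = p :=
    Algebra.IsStandardSmoothOfRelativeDimension.rank_kaehlerDifferential p
  have hfin : Module.finrank A' Ω[A'⁄R] = p := by
    rw [Module.finrank, hrank, Cardinal.toNat_natCast]
  let b : Module.Basis (Fin p) A' Ω[A'⁄R] := Module.finBasisOfFinrankEq A' Ω[A'⁄R] hfin
  let x : Fin p → Ω[A⁄R] := fun i => KaehlerDifferential.map R R A' A (b i)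
  have hx : Submodule.span A (Set.range x) = ⊤ := by
    rw [eq_top_iff]
    intro ω _
    obtain ⟨ω', rfl⟩ := KaehlerDifferential.map_surjective_of_surjective R R A' A hψ ω
    rw [← b.sum_repr ω', map_sum]
    apply Submodule.sum_mem
    intro i _
    rw [LinearMap.map_smul_of_tower, algebra_compatible_smul A (b.repr ω' i)]
    exact Submodule.smul_mem _ _ (Submodule.subset_span ⟨i, rfl⟩)
  exact FittH8.fitt_eq_top_of_span x hx p le_rfl

section Geom

variable {X Y : Scheme.{u}} (f : X ⟶ Y) [LocallyOfFiniteType f] [QuasiSeparated f]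

/-- Membership in the `p`-th Jacobian locus, in an affine chart. -/
theorem mem_support_iff (p : ℕ) {U : X.Opens} (hU : IsAffineOpen U) {V : Y.Opens}
    (hV : IsAffineOpen V) (e : U ≤ f ⁻¹ᵁ V) {x : X} (hx : x ∈ U) :
    letI := (f.appLE V U e).hom.toAlgebra
    x ∈ (Fitt.sheafIdeal (Omega.sheaf f) p).support ↔
      Fitt.ideal Γ(X, U) Ω[Γ(X, U)⁄Γ(Y, V)] p ≤ (hU.primeIdealOf ⟨x, hx⟩).asIdeal := by
  letI := (f.appLE V U e).hom.toAlgebra
  haveI := OmegaFittH4.isQuasicoherent_omega f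
  haveI := OmegaFittH4.isFiniteType_omega f
  obtain ⟨e1⟩ := OmegaSecH4.omegaSections f hU hV e
  haveI : Module.Finite Γ(X, U) Γ(Omega.sheaf f, U) := QCohFT.finite_of_isFiniteType _ hU
  rw [Groth.Agent.Lib.FittFibreH3.mem_support_sheafIdeal_iff (Omega.sheaf f) p hU hx,
    FittH8.fitt_eq_of_linearEquiv e1 p]

end Geom

section Main

variable {X Y : Scheme.{u}} (f : X ⟶ Y) [LocallyOfFinitePresentation f] [QuasiSeparated f]

theorem exists_local_immersion (p : ℕ) (x : X)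
    (hx : x ∉ (Fitt.sheafIdeal (Omega.sheaf f) p).support) :
    ∃ (U : X.Opens) (U' : Scheme.{u}) (i : (U : Scheme.{u}) ⟶ U') (g : U' ⟶ Y),
      x ∈ U ∧ IsClosedImmersion i ∧ SmoothOfRelativeDimension p g ∧ i ≫ g = U.ι ≫ f := by
  obtain ⟨_, ⟨V, hV : IsAffineOpen V, rfl⟩, hxV, -⟩ :=
    (Y.isBasis_affineOpens).exists_subset_of_mem_open (Set.mem_univ (f x)) isOpen_univ
  obtain ⟨_, ⟨U₀, hU₀ : IsAffineOpen U₀, rfl⟩, hxU₀, hUV⟩ :=
    (X.isBasis_affineOpens).exists_subset_of_mem_open (show x ∈ f ⁻¹ᵁ V from hxV)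
      (f ⁻¹ᵁ V).isOpen
  letI : Algebra Γ(Y, V) Γ(X, U₀) := (f.appLE V U₀ hUV).hom.toAlgebra
  haveI : Algebra.FinitePresentation Γ(Y, V) Γ(X, U₀) := f.finitePresentation_appLE hV hU₀ hUV
  have hq := (mem_support_iff f p hU₀ hV hUV hxU₀).not.mp hx
  obtain ⟨h, B, _, _, ψ, hh, hψ, hB⟩ :=
    exists_smooth_model Γ(Y, V) Γ(X, U₀) (hU₀.primeIdealOf ⟨x, hxU₀⟩).asIdeal p hq
  have hU : IsAffineOpen (X.basicOpen h) := hU₀.basicOpen h
  haveI : IsLocalization.Away h Γ(X, X.basicOpen h) := hU₀.isLocalization_basicOpen h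
  let ρ : Localization.Away h ≃ₐ[Γ(X, U₀)] Γ(X, X.basicOpen h) :=
    IsLocalization.algEquiv (Submonoid.powers h) _ _
  let β : B →+* Γ(X, X.basicOpen h) :=
    (ρ : Localization.Away h →+* Γ(X, X.basicOpen h)).comp (ψ : B →+* Localization.Away h)
  have hβ : Function.Surjective β := ρ.surjective.comp hψ
  have hβR : β.comp (algebraMap Γ(Y, V) B) =
      (f.appLE V (X.basicOpen h) ((X.basicOpen_le h).trans hUV)).hom := by
    ext r
    show ρ (ψ (algebraMap Γ(Y, V) B r)) = _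
    rw [ψ.commutes, IsScalarTower.algebraMap_apply Γ(Y, V) Γ(X, U₀) (Localization.Away h),
      ρ.commutes]
    show (X.presheaf.map (homOfLE (X.basicOpen_le h)).op).hom ((f.appLE V U₀ hUV).hom r) = _
    rw [← CommRingCat.comp_apply, Scheme.Hom.appLE_map]
  refine ⟨X.basicOpen h, Spec (CommRingCat.of B),
    hU.isoSpec.hom ≫ Spec.map (CommRingCat.ofHom β),
    Spec.map (CommRingCat.ofHom (algebraMap Γ(Y, V) B)) ≫ hV.fromSpec, ?_, ?_, ?_, ?_⟩
  · have h1 : hU₀.fromSpec (hU₀.primeIdealOf ⟨x, hxU₀⟩) = x :=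
      hU₀.fromSpec_primeIdealOf ⟨x, hxU₀⟩
    rw [← h1]
    show hU₀.primeIdealOf ⟨x, hxU₀⟩ ∈ hU₀.fromSpec ⁻¹ᵁ X.basicOpen h
    rw [hU₀.fromSpec_preimage_basicOpen]
    exact hh
  · haveI : IsClosedImmersion (Spec.map (CommRingCat.ofHom β)) :=
      IsClosedImmersion.spec_of_surjective _ hβ
    infer_instance
  · haveI : SmoothOfRelativeDimension p
        (Spec.map (CommRingCat.ofHom (algebraMap Γ(Y, V) B))) := by
      rw [HasRingHomProperty.Spec_iff (P := @SmoothOfRelativeDimension p)]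
      apply RingHom.locally_of RingHom.isStandardSmoothOfRelativeDimension_respectsIso
      exact (RingHom.isStandardSmoothOfRelativeDimension_algebraMap ..).mpr hB
    exact inferInstanceAs (SmoothOfRelativeDimension (p + 0) _)
  · rw [Category.assoc, ← Category.assoc (Spec.map _), ← Spec.map_comp, ← CommRingCat.ofHom_comp,
      hβR, CommRingCat.ofHom_hom, IsAffineOpen.SpecMap_appLE_fromSpec f hV hU,
      hU.isoSpec_hom_fromSpec_assoc]

theorem not_mem_support_of_immersion (p : ℕ) (x : X) (U : X.Opens) (U' : Scheme.{u})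
    (i : (U : Scheme.{u}) ⟶ U') (g : U' ⟶ Y) (hxU : x ∈ U) [IsClosedImmersion i]
    [SmoothOfRelativeDimension p g] (hig : i ≫ g = U.ι ≫ f) :
    x ∉ (Fitt.sheafIdeal (Omega.sheaf f) p).support := by
  obtain ⟨V, hV, W', hW', hxW', e, hstd⟩ :=
    SmoothOfRelativeDimension.exists_isStandardSmoothOfRelativeDimension (n := p) (f := g)
      (i ⟨x, hxU⟩)
  have hW : IsAffineOpen (i ⁻¹ᵁ W') := hW'.preimage i
  have hWX : IsAffineOpen (U.ι ''ᵁ (i ⁻¹ᵁ W')) := hW.image_of_isOpenImmersion U.ι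
  have hxWX : x ∈ U.ι ''ᵁ (i ⁻¹ᵁ W') := ⟨⟨x, hxU⟩, hxW', rfl⟩
  have hle : U.ι ''ᵁ (i ⁻¹ᵁ W') ≤ f ⁻¹ᵁ V := by
    rintro _ ⟨w, hw, rfl⟩
    show f (U.ι w) ∈ V
    have h1 : f (U.ι w) = g (i w) := by
      rw [← Scheme.Hom.comp_apply, ← Scheme.Hom.comp_apply, hig]
    rw [h1]
    exact e hw
  rw [mem_support_iff f p hWX hV hle hxWX]
  have hcat : f.appLE V (U.ι ''ᵁ (i ⁻¹ᵁ W')) hle =
      g.appLE V W' e ≫ i.app W' ≫ (U.ι.appIso (i ⁻¹ᵁ W')).inv := by
    rw [← Category.assoc, Iso.eq_comp_inv, Scheme.Hom.appIso_hom', Scheme.Hom.appLE_comp_appLE,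
      Scheme.Hom.app_eq_appLE, Scheme.Hom.appLE_comp_appLE]
    exact OmegaSecH4.appLE_congr' hig.symm _ _ _ _
  have hsurj : Function.Surjective (i.app W' ≫ (U.ι.appIso (i ⁻¹ᵁ W')).inv).hom := by
    have h1 : Function.Surjective (i.app W').hom := i.app_surjective W' hW'
    have h2 : Function.Surjective ((U.ι.appIso (i ⁻¹ᵁ W')).inv).hom :=
      (ConcreteCategory.bijective_of_isIso ((U.ι.appIso (i ⁻¹ᵁ W')).inv)).2
    exact h2.comp h1
  have key := fitt_top_of_surjective p (g.appLE V W' e).hom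
    (i.app W' ≫ (U.ι.appIso (i ⁻¹ᵁ W')).inv).hom hsurj hstd
    (f.appLE V (U.ι ''ᵁ (i ⁻¹ᵁ W')) hle).hom (by rw [hcat]; rfl)
  rw [key]
  intro hle'
  exact (hWX.primeIdealOf ⟨x, hxWX⟩).isPrime.ne_top (top_le_iff.mp hle')

theorem main16253 (p : ℕ) (x : ↥X) :
    x ∉ (Fitt.sheafIdeal (Omega.sheaf f) p).support ↔
      ∃ (U : X.Opens) (U' : Scheme.{u}) (i : (U : Scheme.{u}) ⟶ U') (g : U' ⟶ Y),
        x ∈ U ∧ IsClosedImmersion i ∧ SmoothOfRelativeDimension p g ∧ i ≫ g = U.ι ≫ f := by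
  constructor
  · exact exists_local_immersion f p x
  · rintro ⟨U, U', i, g, hxU, hi, hg, hig⟩
    exact not_mem_support_of_immersion f p x U U' i g hxU hig

end Main

end Groth.Agent.Lib.JacLocusH3
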