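import Mathlib
import Groth.Prelude
import Groth.Agent.Lib.JacLocus2_helper3
import Groth.Agent.Lib.JacLocus3_helper3
import Groth.Agent.Lib.RegImmComp_helper2
import Groth.Agent.Lib.SmoothFib_helper4

/-!
# Local complete intersections: smooth iff outside the Jacobian locus (helper3)
APPEND-ONLY once landed.
-/

set_option autoImplicit false

universe u

open CategoryTheory CategoryTheory.Limits AlgebraicGeometry Opposite TopologicalSpace TensorProduct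

namespace Groth.Agent.Lib.JacLocusH3

section Chart

variable {Y X : Scheme.{u}} (f : Y ⟶ X)

/-- An affine chart adapted to a local complete intersection factorisation. -/
theorem exists_lci_chart (m : ℕ) (y : Y) (U : Y.Opens) (P : Scheme.{u})
    (i : (U : Scheme.{u}) ⟶ P) (π : P ⟶ X) (c : ℕ) (hyU : y ∈ U)
    (hreg : RegImm.IsRegularImmersionOfCodim RegImm.Kind.koszul c i)
    [SmoothOfRelativeDimension (m + c) π] (hcomm : i ≫ π = U.ι ≫ f) :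
    ∃ (V : X.Opens) (_ : IsAffineOpen V) (D : P.Opens) (_ : IsAffineOpen D) (e : D ≤ π ⁻¹ᵁ V)
      (WY : Y.Opens) (_ : IsAffineOpen WY) (hle : WY ≤ f ⁻¹ᵁ V) (_ : y ∈ WY)
      (ψ : Γ(P, D) ⟶ Γ(Y, WY)) (rs : List Γ(P, D)),
      (π.appLE V D e).hom.IsStandardSmoothOfRelativeDimension (m + c) ∧
        Function.Surjective ψ.hom ∧ rs.length = c ∧ LCI.IsKoszulRegularSeq Γ(P, D) rs ∧
        RingHom.ker ψ.hom = Ideal.ofList rs ∧ f.appLE V WY hle = π.appLE V D e ≫ ψ := by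
  obtain ⟨-, hpt⟩ := hreg
  obtain ⟨W, hzW, hcW, rs, hlen, hrs, hkW⟩ := hpt ⟨y, hyU⟩
  obtain ⟨V, hV, W₃, hW₃, hzW₃, e₃, hstd⟩ :=
    SmoothOfRelativeDimension.exists_isStandardSmoothOfRelativeDimension (n := m + c) (f := π)
      (i ⟨y, hyU⟩)
  obtain ⟨h, h', hD, hzD⟩ := exists_basicOpen_le_affine_inter W.2 hW₃ (i ⟨y, hyU⟩) ⟨hzW, hzW₃⟩
  obtain ⟨hDaff, hcD, rs', hlen', hrs', hkD⟩ :=
    Groth.Agent.Lib.RegImmComp.shrink i W.2 hcW rs hrs hkW h (P.basicOpen h) rfl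
  have hDW₃ : P.basicOpen h ≤ W₃ := hD ▸ P.basicOpen_le h'
  have eD : P.basicOpen h ≤ π ⁻¹ᵁ V := hDW₃.trans e₃
  have hstdD : (π.appLE V (P.basicOpen h) eD).hom.IsStandardSmoothOfRelativeDimension (m + c) := by
    letI := (P.presheaf.map (homOfLE hDW₃).op).hom.toAlgebra
    haveI : IsLocalization.Away h' Γ(P, P.basicOpen h) :=
      hW₃.isLocalization_of_eq_basicOpen h' (homOfLE hDW₃) hD
    have h1 := (RingHom.isStandardSmoothOfRelativeDimension_stableUnderCompositionWithLocalizationAway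
      (m + c)).right Γ(P, P.basicOpen h) h' _ hstd
    have h2 : (algebraMap Γ(P, W₃) Γ(P, P.basicOpen h)).comp (π.appLE V W₃ e₃).hom =
        (π.appLE V (P.basicOpen h) eD).hom := by
      show (P.presheaf.map (homOfLE hDW₃).op).hom.comp (π.appLE V W₃ e₃).hom = _
      rw [← CommRingCat.hom_comp, Scheme.Hom.appLE_map]
    rw [h2] at h1
    exact h1
  obtain ⟨hWaff, hWsurj⟩ := Groth.Agent.Lib.RegImmComp.affine_and_surjective i hDaff hcD
  have hWY : IsAffineOpen (U.ι ''ᵁ (i ⁻¹ᵁ P.basicOpen h)) := hWaff.image_of_isOpenImmersion U.ι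
  have hyWY : y ∈ U.ι ''ᵁ (i ⁻¹ᵁ P.basicOpen h) := ⟨⟨y, hyU⟩, hzD, rfl⟩
  have hle : U.ι ''ᵁ (i ⁻¹ᵁ P.basicOpen h) ≤ f ⁻¹ᵁ V := by
    rintro _ ⟨w, hw, rfl⟩
    show f (U.ι w) ∈ V
    have h1 : f (U.ι w) = π (i w) := by
      rw [← Scheme.Hom.comp_apply, ← Scheme.Hom.comp_apply, hcomm]
    rw [h1]
    exact eD hw
  have hcat : f.appLE V (U.ι ''ᵁ (i ⁻¹ᵁ P.basicOpen h)) hle =
      π.appLE V (P.basicOpen h) eD ≫ i.app (P.basicOpen h) ≫
        (U.ι.appIso (i ⁻¹ᵁ P.basicOpen h)).inv := by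
    rw [← Category.assoc, Iso.eq_comp_inv, Scheme.Hom.appIso_hom', Scheme.Hom.appLE_comp_appLE,
      Scheme.Hom.app_eq_appLE, Scheme.Hom.appLE_comp_appLE]
    exact OmegaSecH4.appLE_congr' hcomm.symm _ _ _ _
  have hinj : Function.Injective ((U.ι.appIso (i ⁻¹ᵁ P.basicOpen h)).inv).hom :=
    (ConcreteCategory.bijective_of_isIso ((U.ι.appIso (i ⁻¹ᵁ P.basicOpen h)).inv)).1
  have hsurj2 : Function.Surjective ((U.ι.appIso (i ⁻¹ᵁ P.basicOpen h)).inv).hom :=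
    (ConcreteCategory.bijective_of_isIso ((U.ι.appIso (i ⁻¹ᵁ P.basicOpen h)).inv)).2
  refine ⟨V, hV, P.basicOpen h, hDaff, eD, U.ι ''ᵁ (i ⁻¹ᵁ P.basicOpen h), hWY, hle, hyWY,
    i.app (P.basicOpen h) ≫ (U.ι.appIso (i ⁻¹ᵁ P.basicOpen h)).inv, rs', hstdD, ?_,
    hlen'.trans hlen, hrs', ?_, hcat⟩
  · exact hsurj2.comp hWsurj
  · rw [← hkD]
    ext x
    rw [RingHom.mem_ker, RingHom.mem_ker]
    show ((U.ι.appIso (i ⁻¹ᵁ P.basicOpen h)).inv).hom ((i.app (P.basicOpen h)).hom x) = 0 ↔ _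
    exact map_eq_zero_iff _ hinj

end Chart

section Main

variable {Y X : Scheme.{u}} (f : Y ⟶ X) [LocallyOfFinitePresentation f] [QuasiSeparated f]

theorem main16256 (m : ℕ) (y : ↥Y)
    (hlci : ∃ (U : Y.Opens) (P : Scheme.{u}) (i : (U : Scheme.{u}) ⟶ P) (π : P ⟶ X) (c : ℕ),
      y ∈ U ∧ RegImm.IsRegularImmersionOfCodim RegImm.Kind.koszul c i ∧
        SmoothOfRelativeDimension (m + c) π ∧ i ≫ π = U.ι ≫ f) :
    (∃ V : Y.Opens, y ∈ V ∧ Smooth (V.ι ≫ f)) ↔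
      y ∉ (Fitt.sheafIdeal (Omega.sheaf f) m).support := by
  obtain ⟨U, P, i, π, c, hyU, hreg, hsm, hcomm⟩ := hlci
  obtain ⟨V, hV, D, hD, e, WY, hWY, hle, hyWY, ψ, rs, hstd, hψ, hlen, hrs, hker, hcat⟩ :=
    exists_lci_chart f m y U P i π c hyU hreg hcomm
  have ha : (∃ V : Y.Opens, y ∈ V ∧ Smooth (V.ι ≫ f)) ↔ (f.stalkMap y).hom.FormallySmooth := by
    constructor
    · rintro ⟨V', hyV', hV'⟩
      exact Groth.Agent.Lib.UnramLocH4.stalk_smooth_of_nhd f y V' hyV' hV'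
    · intro h
      exact ⟨f.smoothLocus, h, Groth.Agent.Lib.UnramLocH4.smooth_smoothLocus f⟩
  rw [ha, formallySmooth_stalkMap_iff V hV WY hWY hle hyWY, mem_support_iff f m hWY hV hle hyWY]
  letI : Algebra Γ(X, V) Γ(P, D) := (π.appLE V D e).hom.toAlgebra
  letI : Algebra Γ(X, V) Γ(Y, WY) := (f.appLE V WY hle).hom.toAlgebra
  letI : Algebra Γ(P, D) Γ(Y, WY) := ψ.hom.toAlgebra
  haveI : IsScalarTower Γ(X, V) Γ(P, D) Γ(Y, WY) :=
    IsScalarTower.of_algebraMap_eq' (congrArg CommRingCat.Hom.hom hcat)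
  haveI : Algebra.IsStandardSmoothOfRelativeDimension (m + c) Γ(X, V) Γ(P, D) := hstd
  exact isSmoothAt_iff_not_fitt_le m c hψ rs hlen hrs hker _

end Main

end Groth.Agent.Lib.JacLocusH3
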