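import Mathlib

open Matrix

namespace Groth.Agent.Lib.JacMinors

universe u

theorem det_mul_mem {R : Type*} [CommRing R] {r m : ℕ} (A : Matrix (Fin r) (Fin m) R)
    (J : Matrix (Fin m) (Fin r) R) (T : Ideal R)
    (hT : ∀ κ : Fin r → Fin m, Function.Injective κ → (J.submatrix κ id).det ∈ T) :
    (A * J).det ∈ T := by
  classical
  have hrow : (A * J) = (fun i => ∑ k, A i k • J k) := by
    ext i j
    simp [Matrix.mul_apply, Finset.sum_apply]
  rw [hrow]
  show Matrix.detRowAlternating (fun i => ∑ k, A i k • J k) ∈ T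
  have h1 : Matrix.detRowAlternating (fun i => ∑ k, A i k • J k) =
      ∑ κ : Fin r → Fin m, Matrix.detRowAlternating (fun i => A i (κ i) • J (κ i)) :=
    (Matrix.detRowAlternating (R := R) (n := Fin r)).toMultilinearMap.map_sum
      (fun i k => A i k • J k)
  rw [h1]
  refine Ideal.sum_mem _ fun κ _ => ?_
  have h2 : Matrix.detRowAlternating (fun i => A i (κ i) • J (κ i)) =
      (∏ i, A i (κ i)) • Matrix.detRowAlternating (fun i => J (κ i)) :=
    (Matrix.detRowAlternating (R := R) (n := Fin r)).toMultilinearMap.map_smul_univ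
      (fun i => A i (κ i)) (fun i => J (κ i))
  rw [h2, smul_eq_mul]
  apply Ideal.mul_mem_left
  by_cases hκ : Function.Injective κ
  · exact hT κ hκ
  · rw [Function.Injective] at hκ
    push_neg at hκ
    obtain ⟨i, j, hij, hne⟩ := hκ
    have h3 : Matrix.detRowAlternating (fun i => J (κ i)) = 0 :=
      Matrix.det_zero_of_row_eq (M := fun i => J (κ i)) hne
        (by show J (κ i) = J (κ j); rw [hij])
    rw [h3]; exact T.zero_mem

theorem minors_le {k : Type u} [Field k] {n m l r : ℕ}
    (f : Fin m → MvPowerSeries (Fin n) k) (g : Fin l → MvPowerSeries (Fin n) k)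
    (hgf : Ideal.span (Set.range g) ≤ Ideal.span (Set.range f)) :
    Ideal.span {d : MvPowerSeries (Fin n) k | ∃ (ρ : Fin r → Fin l) (γ : Fin r → Fin n),
        Function.Injective ρ ∧ Function.Injective γ ∧
          d = ((Matrix.of fun (j : Fin l) (i : Fin n) =>
            MvPowerSeries.pderiv k i (g j)).submatrix ρ γ).det}
      ≤ Ideal.span {d : MvPowerSeries (Fin n) k | ∃ (ρ : Fin r → Fin m) (γ : Fin r → Fin n),
        Function.Injective ρ ∧ Function.Injective γ ∧
          d = ((Matrix.of fun (j : Fin m) (i : Fin n) =>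
            MvPowerSeries.pderiv k i (f j)).submatrix ρ γ).det} ⊔ Ideal.span (Set.range f) := by
  classical
  rw [Ideal.span_le]
  rintro d ⟨ρ, γ, hρ, hγ, rfl⟩
  have hex : ∀ j : Fin l, ∃ c : Fin m → MvPowerSeries (Fin n) k, ∑ t, c t * f t = g j :=
    fun j => Ideal.mem_span_range_iff_exists_fun.mp (hgf (Ideal.subset_span ⟨j, rfl⟩))
  choose a ha using hex
  obtain ⟨Jf, hJf⟩ : ∃ Jf : Matrix (Fin m) (Fin n) (MvPowerSeries (Fin n) k),
      Jf = Matrix.of fun (j : Fin m) (i : Fin n) => MvPowerSeries.pderiv k i (f j) := ⟨_, rfl⟩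
  obtain ⟨Jg, hJg⟩ : ∃ Jg : Matrix (Fin l) (Fin n) (MvPowerSeries (Fin n) k),
      Jg = Matrix.of fun (j : Fin l) (i : Fin n) => MvPowerSeries.pderiv k i (g j) := ⟨_, rfl⟩
  obtain ⟨Am, hAm⟩ : ∃ Am : Matrix (Fin l) (Fin m) (MvPowerSeries (Fin n) k),
      Am = Matrix.of fun j t => a j t := ⟨_, rfl⟩
  rw [← hJf, ← hJg]
  have hentry : ∀ j i, Jg j i - (Am * Jf) j i ∈ Ideal.span (Set.range f) := by
    intro j i
    have h1 : Jg j i = ∑ t, (a j t * MvPowerSeries.pderiv k i (f t) +
        f t * MvPowerSeries.pderiv k i (a j t)) := by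
      rw [hJg, Matrix.of_apply, ← ha j, map_sum]
      refine Finset.sum_congr rfl fun t _ => ?_
      rw [Derivation.leibniz, smul_eq_mul, smul_eq_mul]
    rw [h1, Matrix.mul_apply, ← Finset.sum_sub_distrib]
    refine Ideal.sum_mem _ fun t _ => ?_
    have h2 : a j t * (MvPowerSeries.pderiv k i) (f t) +
        f t * (MvPowerSeries.pderiv k i) (a j t) - Am j t * Jf t i =
        f t * MvPowerSeries.pderiv k i (a j t) := by
      rw [hAm, hJf, Matrix.of_apply, Matrix.of_apply]; ring
    rw [h2]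
    exact Ideal.mul_mem_right _ _ (Ideal.subset_span ⟨t, rfl⟩)
  have hdet : (Jg.submatrix ρ γ).det - ((Am * Jf).submatrix ρ γ).det ∈
      Ideal.span (Set.range f) := by
    rw [← Ideal.Quotient.eq, RingHom.map_det, RingHom.map_det]
    congr 1
    ext i j
    simp only [RingHom.mapMatrix_apply, Matrix.map_apply, Matrix.submatrix_apply]
    exact Ideal.Quotient.eq.mpr (hentry (ρ i) (γ j))
  have hmem : ((Am * Jf).submatrix ρ γ).det ∈
      Ideal.span {d : MvPowerSeries (Fin n) k | ∃ (ρ : Fin r → Fin m) (γ : Fin r → Fin n),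
        Function.Injective ρ ∧ Function.Injective γ ∧
          d = (Jf.submatrix ρ γ).det} := by
    rw [Matrix.submatrix_mul Am Jf ρ id γ Function.bijective_id]
    apply det_mul_mem
    intro κ hκ
    apply Ideal.subset_span
    exact ⟨κ, γ, hκ, hγ, rfl⟩
  have hsplit : (Jg.submatrix ρ γ).det = ((Jg.submatrix ρ γ).det -
      ((Am * Jf).submatrix ρ γ).det) + ((Am * Jf).submatrix ρ γ).det := by ring
  rw [hsplit]
  exact Ideal.add_mem _ (Ideal.mem_sup_right hdet) (Ideal.mem_sup_left hmem)

theorem main (k : Type u) [Field k] (n m l r : ℕ)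
    (f : Fin m → MvPowerSeries (Fin n) k) (g : Fin l → MvPowerSeries (Fin n) k)
    (hfg : Ideal.span (Set.range f) = Ideal.span (Set.range g)) :
    Ideal.span {d : MvPowerSeries (Fin n) k | ∃ (ρ : Fin r → Fin m) (γ : Fin r → Fin n), Function.Injective ρ ∧ Function.Injective γ ∧
          d = ((Matrix.of fun (j : Fin m) (i : Fin n) => MvPowerSeries.pderiv k i (f j)).submatrix ρ γ).det} ⊔ Ideal.span (Set.range f) =
      Ideal.span {d : MvPowerSeries (Fin n) k | ∃ (ρ : Fin r → Fin l) (γ : Fin r → Fin n), Function.Injective ρ ∧ Function.Injective γ ∧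
          d = ((Matrix.of fun (j : Fin l) (i : Fin n) => MvPowerSeries.pderiv k i (g j)).submatrix ρ γ).det} ⊔ Ideal.span (Set.range g) := by
  apply le_antisymm
  · refine sup_le ?_ ?_
    · have h := minors_le (r := r) g f hfg.le
      exact h
    · rw [hfg]; exact le_sup_right
  · refine sup_le ?_ ?_
    · have h := minors_le (r := r) f g hfg.ge
      exact h
    · rw [← hfg]; exact le_sup_right

end Groth.Agent.Lib.JacMinors
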