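import Mathlib
import Groth.Prelude
import Groth.Agent.Lib.RelFib5_helper3

/-!
# Relative perfection from the reduction modulo an ideal, ring level (S7233) (helper3)

* `subsingleton_HD_lTensor_of_torAmp_pushout`: `A₀ = R₀ ⊗_R A`, `R → A` flat, `M` pseudo-coherent
  over `A` with `M ⊗^L_A A₀` of tor amplitude `[a, b]` over `R₀`: then `M ⊗^L_R N` has cohomology in
  `[a, b]` for every `R₀`-module `N`.
* `torAmp_localization_of_fibre_exact'`: two sided local fibre criterion at a prime of
  `R[x_1..x_d]`.
* `torAmp_restrict_localization`: `K_{q₀}` has tor amplitude `[a - d, b]` over `R` when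
  `K ⊗^L_R κ(p)` has cohomology in `[a, b]`, `p = q₀ ∩ R`.
-/

set_option autoImplicit false
set_option linter.all false
set_option maxHeartbeats 1600000
universe u
open CategoryTheory CategoryTheory.Limits Pretriangulated DerivedCategory ZeroObject
open scoped TensorProduct
attribute [local instance] HasDerivedCategory.standard

namespace Groth.Agent.Lib.JacPerfH3

open DRing CochainComplex Groth.Agent.ExtendScalarsLib Groth.Agent.Lib.DMod_helper6
  Groth.Agent.Lib.FibCritH3

local instance hasLBCInstJP {A B : Type u} [CommRing A] [CommRing B] (φ : A →+* B) :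
    HasLBaseChange φ := Groth.Agent.Lib.LpullQCL.hasLBaseChange φ

section Pushout

theorem subsingleton_HD_lTensor_of_torAmp_pushout
    {R A R₀ A₀ : Type u} [CommRing R] [CommRing A] [CommRing R₀] [CommRing A₀]
    [Algebra R A] [Algebra R R₀] [Algebra A A₀] [Algebra R₀ A₀] [Algebra R A₀]
    [IsScalarTower R A A₀] [IsScalarTower R R₀ A₀] [Algebra.IsPushout R R₀ A A₀] [Module.Flat R A]
    (N : Type u) [AddCommGroup N] [Module R N] [Module R₀ N] [IsScalarTower R R₀ N]
    [HasLTensor R (ModuleCat.of R N)]
    (M : Dual.D A) (hM : IsPseudoCoherent' A M) (a b : ℤ)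
    (hamp : HasTorAmplitudeIn R₀ a b ((restrictD (algebraMap R₀ A₀)).obj
      ((LBaseChange (algebraMap A A₀)).obj M)))
    (j : ℤ) (hj : j < a ∨ b < j) :
    Subsingleton (Dual.HD R ((LTensor R (ModuleCat.of R N)).obj
      ((restrictD (algebraMap R A)).obj M)) j) := by
  obtain ⟨E, b₁, hEb, hEff, ⟨e⟩⟩ := hM
  have hEf : TermwiseFlat E := fun j => by haveI := (hEff j).2; infer_instance
  obtain ⟨i2⟩ := nonempty_lBaseChange_iso_of_flat (algebraMap A A₀) E b₁ hEb hEf
  let F : Cx R := (restrictCx (algebraMap R A)).obj E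
  have hFb : VanishesAbove F b₁ := fun j hj =>
    (ModuleCat.restrictScalars.{u} (algebraMap R A)).map_isZero (hEb j hj)
  have hFf : TermwiseFlat F := fun j => flat_restrictScalars (E.X j) (hEf j)
  let G : Cx R₀ := (ESc (algebraMap R R₀)).obj F
  have hGb : VanishesAbove G b₁ := fun j hj =>
    (ModuleCat.extendScalars.{u, u, u} (algebraMap R R₀)).map_isZero (hFb j hj)
  have hGf : TermwiseFlat G := fun j => flat_ES (A := R) (B := R₀) (F.X j) (hFf j)
  let iG : (restrictD (algebraMap R₀ A₀)).obj ((LBaseChange (algebraMap A A₀)).obj M) ≅ toD G :=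
    (restrictD (algebraMap R₀ A₀)).mapIso
      ((LBaseChange (algebraMap A A₀)).mapIso e.symm ≪≫ i2) ≪≫
    restrictDIso ((ESc (algebraMap A A₀)).obj E) ≪≫
    Q.mapIso (pushoutCxIsoGen R A R₀ A₀ E).symm
  have hG : HasTorAmplitudeIn R₀ a b (toD G) := hasTorAmplitudeIn_of_iso iG a b hamp
  have h6 := exactAt_TN_of_hasTorAmplitudeIn' G b₁ hGb hGf a b hG (ModuleCat.of R₀ N) j hj
  have h7 := function_exact_of_exactAt _ (j - 1) j (j + 1) (by omega) rfl h6
  have h8 := exact_lTensor_of_exact_rTensor_ES (A := R) (B := R₀) N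
    (F.d (j - 1) j) (F.d j (j + 1)) h7
  have h9 := exact_rTensor_of_exact_lTensor _ _ N h8
  have h10 : ((TN (ModuleCat.of R N)).obj F).ExactAt j :=
    exactAt_of_function_exact _ (j - 1) j (j + 1) (by omega) rfl h9
  obtain ⟨i4⟩ := nonempty_lTensor_iso_of_flat (ModuleCat.of R N) F b₁ hFb hFf
  let i3 : (restrictD (algebraMap R A)).obj M ≅ toD F :=
    (restrictD (algebraMap R A)).mapIso e.symm ≪≫ restrictDIso E
  exact (exactAt_iff_subsingleton_HD
    (i4.symm ≪≫ (LTensor R (ModuleCat.of R N)).mapIso i3.symm) j).1 h10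

/-- the same for the residue field at a prime containing the kernel of `R → R₀` surjective -/
theorem subsingleton_HD_lTensor_residueField_of_torAmp_pushout
    {R A R₀ A₀ : Type u} [CommRing R] [CommRing A] [CommRing R₀] [CommRing A₀]
    [Algebra R A] [Algebra R R₀] [Algebra A A₀] [Algebra R₀ A₀] [Algebra R A₀]
    [IsScalarTower R A A₀] [IsScalarTower R R₀ A₀] [Algebra.IsPushout R R₀ A A₀] [Module.Flat R A]
    (hsurj : Function.Surjective (algebraMap R R₀))
    (p : Ideal R) [p.IsPrime] (hp : RingHom.ker (algebraMap R R₀) ≤ p)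
    [HasLTensor R (ModuleCat.of R p.ResidueField)]
    (M : Dual.D A) (hM : IsPseudoCoherent' A M) (a b : ℤ)
    (hamp : HasTorAmplitudeIn R₀ a b ((restrictD (algebraMap R₀ A₀)).obj
      ((LBaseChange (algebraMap A A₀)).obj M)))
    (j : ℤ) (hj : j < a ∨ b < j) :
    Subsingleton (Dual.HD R ((LTensor R (ModuleCat.of R p.ResidueField)).obj
      ((restrictD (algebraMap R A)).obj M)) j) := by
  have hker : RingHom.ker (algebraMap R R₀) ≤ RingHom.ker (algebraMap R p.ResidueField) := by
    intro x hx
    rw [RingHom.mem_ker, Ideal.algebraMap_residueField_eq_zero]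
    exact hp hx
  let ρ : R₀ →+* p.ResidueField :=
    (algebraMap R R₀).liftOfSurjective hsurj ⟨algebraMap R p.ResidueField, hker⟩
  have hρ : ∀ r : R, ρ (algebraMap R R₀ r) = algebraMap R p.ResidueField r := fun r =>
    RingHom.liftOfSurjective_comp_apply (algebraMap R R₀) hsurj
      ⟨algebraMap R p.ResidueField, hker⟩ r
  letI : Module R₀ p.ResidueField := Module.compHom p.ResidueField ρ
  haveI : IsScalarTower R R₀ p.ResidueField := ⟨fun r y x => by
    show ρ (r • y) * x = r • (ρ y * x)
    rw [Algebra.smul_def r y, map_mul, hρ, Algebra.smul_def r (ρ y * x), mul_assoc]⟩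
  exact subsingleton_HD_lTensor_of_torAmp_pushout (R := R) (A := A) (R₀ := R₀) (A₀ := A₀)
    p.ResidueField M hM a b hamp j hj

end Pushout

section LocalForm

variable (R : Type u) [CommRing R] (d : ℕ)
  (q' : Ideal (MvPolynomial (Fin d) R)) [q'.IsPrime]

attribute [local instance] Algebra.TensorProduct.rightAlgebra

/-- two sided local form of the fibre criterion at a prime of `R[x_1..x_d]` -/
theorem torAmp_localization_of_fibre_exact'
    (E : Cx (MvPolynomial (Fin d) R)) (b₁ : ℤ) (hEb : VanishesAbove E b₁)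
    (hEff : TermwiseFiniteFree E) (a b : ℤ)
    (h : ∀ (p : Ideal R) [p.IsPrime],
      p = (IsLocalRing.maximalIdeal (Localization.AtPrime q')).comap
        (algebraMap R (Localization.AtPrime q')) →
      ∀ j : ℤ, (j < a ∨ b < j) →
      ((ESc (algebraMap R p.ResidueField)).obj
        ((restrictCx (algebraMap R (MvPolynomial (Fin d) R))).obj E)).ExactAt j) :
    HasTorAmplitudeIn (Localization.AtPrime q') (a - d) b
      (toD ((ESc (algebraMap (MvPolynomial (Fin d) R) (Localization.AtPrime q'))).obj E)) := by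
  let P := MvPolynomial (Fin d) R
  let B := Localization.AtPrime q'
  let p : Ideal R := (IsLocalRing.maximalIdeal B).comap (algebraMap R B)
  haveI hp : p.IsPrime := Ideal.comap_isPrime _ _
  let κ := p.ResidueField
  have ha := h p rfl
  let EB : Cx B := (ESc (algebraMap P B)).obj E
  have hEBb : VanishesAbove EB b₁ := fun j hj =>
    (ModuleCat.extendScalars.{u, u, u} (algebraMap P B)).map_isZero (hEb j hj)
  have hEBff : TermwiseFiniteFree EB := fun j =>
    ⟨finite_ES (A := P) (B := B) (E.X j) (hEff j).1,
      free_ES (A := P) (B := B) (E.X j) (hEff j).2⟩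
  have hgl : ∀ M : ModuleCat.{u} (κ ⊗[R] B), HasProjectiveDimensionLT M (d + 1) :=
    fun M => hasPDLT_fibre_localization R d κ q' M
  have h4 : ∀ j : ℤ, (j < a ∨ b < j) →
      ((ESc (algebraMap B (κ ⊗[R] B))).obj EB).ExactAt j := by
    intro j hj
    exact exactAt_fibre_localization R κ P q'.primeCompl B E j (ha j hj)
  exact (perfect_of_fibre_residueField (A := R) (B := B) d hgl a b EB b₁ hEBb hEBff h4).2

end LocalForm

section Concrete

variable (R A : Type u) [CommRing R] [CommRing A] [Algebra R A]
    [Module.Flat R A] [Algebra.FinitePresentation R A] (d : ℕ)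
    (ψ : MvPolynomial (Fin d) R →ₐ[R] A) (hψ : Function.Surjective ψ)
    (q : Ideal A) [q.IsPrime] (p : Ideal R) [p.IsPrime]
    (hpq : p = Ideal.comap (algebraMap R A) q)

attribute [local instance] Algebra.TensorProduct.rightAlgebra

include hψ hpq in
/-- `K_q` has tor amplitude `[a - d, b]` over `R` when `K ⊗^L_R κ(p)` has cohomology in `[a, b]` -/
theorem torAmp_restrict_localization
    [HasLTensor R (ModuleCat.of R p.ResidueField)]
    (K : Dual.D A) (hK : DRing.IsPseudoCoherent' A K) (a b : ℤ)
    (hfib : ∀ i : ℤ, i < a ∨ b < i → Subsingleton (Dual.HD R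
      ((LTensor R (ModuleCat.of R p.ResidueField)).obj
        ((restrictD (algebraMap R A)).obj K)) i)) :
    HasTorAmplitudeIn R (a - d) b
      ((restrictD (algebraMap R (Localization.AtPrime q))).obj
        ((LBaseChange (algebraMap A (Localization.AtPrime q))).obj K)) := by
  let P := MvPolynomial (Fin d) R
  letI algPA : Algebra P A := ψ.toRingHom.toAlgebra
  haveI : IsScalarTower R P A := IsScalarTower.of_algebraMap_eq (fun x => (ψ.commutes x).symm)
  have hsurj : Function.Surjective (algebraMap P A) := hψ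
  let q' : Ideal P := q.comap (algebraMap P A)
  haveI : q'.IsPrime := Ideal.comap_isPrime _ _
  have hpq' : p = q'.comap (algebraMap R P) := by
    rw [hpq, Ideal.comap_comap, ← IsScalarTower.algebraMap_eq]
  let B := Localization.AtPrime q'
  let Aq := Localization.AtPrime q
  letI algBAq : Algebra B Aq := (Localization.localRingHom q' q (algebraMap P A) rfl).toAlgebra
  haveI : IsScalarTower P B Aq := IsScalarTower.of_algebraMap_eq (fun x => by
    show algebraMap P Aq x = Localization.localRingHom q' q (algebraMap P A) rfl (algebraMap P B x)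
    rw [Localization.localRingHom_to_map]
    exact IsScalarTower.algebraMap_apply P A Aq x)
  have hS : Algebra.algebraMapSubmonoid A q'.primeCompl = q.primeCompl := by
    ext x
    constructor
    · rintro ⟨y, hy, rfl⟩
      exact hy
    · intro hx
      obtain ⟨y, rfl⟩ := hsurj x
      exact ⟨y, hx, rfl⟩
  haveI : IsLocalization (Algebra.algebraMapSubmonoid A q'.primeCompl) Aq := by
    rw [hS]; infer_instance
  haveI hpo : Algebra.IsPushout P B A Aq :=
    (Algebra.isPushout_of_isLocalization q'.primeCompl B A Aq).symm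
  haveI : Module.Flat R B := inferInstance
  have hKP : IsPseudoCoherent' P ((restrictD (algebraMap P A)).obj K) :=
    ((Groth.Agent.Lib.PCHom.main7100 R P A hsurj K).1).1 hK
  obtain ⟨E, b₁, hEb, hEff, ⟨e⟩⟩ := hKP
  let X : Dual.D Aq := (LBaseChange (algebraMap A Aq)).obj K
  let EB : Cx B := (ESc (algebraMap P B)).obj E
  have hEf : TermwiseFlat E := fun j => by haveI := (hEff j).2; infer_instance
  obtain ⟨i0⟩ := Groth.Agent.Lib.RelPCBCH3.nonempty_restrict_lBaseChange_iso P A B Aq K
  obtain ⟨i2⟩ := nonempty_lBaseChange_iso_of_flat (algebraMap P B) E b₁ hEb hEf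
  let i1 : (restrictD (algebraMap B Aq)).obj X ≅ toD EB :=
    i0 ≪≫ (LBaseChange (algebraMap P B)).mapIso e.symm ≪≫ i2
  let F : Cx R := (restrictCx (algebraMap R P)).obj E
  have hFb : VanishesAbove F b₁ := fun i hi =>
    (ModuleCat.restrictScalars.{u} (algebraMap R P)).map_isZero (hEb i hi)
  have hFf : TermwiseFlat F := fun i => flat_restrictScalars (E.X i) (hEf i)
  let i3 : (restrictD (algebraMap R A)).obj K ≅ toD F :=
    restrictDCompIso (algebraMap R P) (algebraMap P A) (algebraMap R A)
      (IsScalarTower.algebraMap_eq R P A) K ≪≫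
    (restrictD (algebraMap R P)).mapIso e.symm ≪≫ restrictDIso E
  have hmax : (IsLocalRing.maximalIdeal B).comap (algebraMap R B) = p := by
    have h1 : (IsLocalRing.maximalIdeal B).comap (algebraMap P B) = q' :=
      IsLocalization.AtPrime.under_maximalIdeal B q'
    rw [IsScalarTower.algebraMap_eq R P B, ← Ideal.comap_comap, h1]
    exact hpq'.symm
  have ht : HasTorAmplitudeIn B (a - d) b (toD EB) := by
    refine torAmp_localization_of_fibre_exact' R d q' E b₁ hEb hEff a b ?_
    intro p' hp' hpe j hj
    obtain rfl : p' = p := hpe.trans hmax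
    exact exactAt_ESc_of_subsingleton_HD_lTensor p'.ResidueField F b₁ hFb hFf _ i3 j (hfib j hj)
  have hcomp : algebraMap R Aq = (algebraMap B Aq).comp (algebraMap R B) := by
    ext x
    show algebraMap R Aq x =
      Localization.localRingHom q' q (algebraMap P A) rfl (algebraMap R B x)
    rw [IsScalarTower.algebraMap_apply R P B, Localization.localRingHom_to_map,
      ← IsScalarTower.algebraMap_apply R P A]
    exact IsScalarTower.algebraMap_apply R A Aq x
  have ht' : HasTorAmplitudeIn B (a - d) b ((restrictD (algebraMap B Aq)).obj X) :=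
    hasTorAmplitudeIn_of_iso i1.symm _ _ ht
  have h3 := hasTorAmplitudeIn_restrictD (R := R) (A := B) _ (a - d) b ht'
  exact hasTorAmplitudeIn_of_iso
    (restrictDCompIso (algebraMap R B) (algebraMap B Aq) (algebraMap R Aq) hcomp _).symm _ _ h3

end Concrete

end Groth.Agent.Lib.JacPerfH3
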