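import Mathlib
import Groth.Prelude
import Groth.Agent.Lib.JacPerf1_helper3
import Groth.Agent.Lib.RelTildeAmp2_helper3

/-!
# Relative perfection from the reduction modulo an ideal: generization (S7233) (helper3)

* `torAmp_stalk_of_le`: if `K_{q₀}` has tor amplitude `[a, b]` over `R` then, for `q ⊆ q₀`, the
  complex of stalks at `q` has tor amplitude `[a, b]` over the local ring of `Spec R` at the image
  of `q`.
-/

set_option autoImplicit false
set_option linter.all false
set_option maxHeartbeats 1600000
set_option backward.isDefEq.respectTransparency false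
set_option backward.isDefEq.respectTransparency.types false
set_option backward.defeqAttrib.useBackward true

universe u
open CategoryTheory CategoryTheory.Limits AlgebraicGeometry Opposite TopologicalSpace
open scoped TensorProduct ChangeOfRings
attribute [local instance] HasDerivedCategory.standard

namespace Groth.Agent.Lib.JacPerfH3

open DRing DerSch CochainComplex Groth.Agent.ExtendScalarsLib Groth.Agent.Lib.DMod_helper6
  Groth.Agent.Lib.FibCritH3 Groth.Agent.Lib.RelTildeAmpH3 Groth.Agent.Lib.TildeAmpL
  Groth.Agent.Lib.ExtKFlat DerivedCategory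

noncomputable section

local instance hasLBCInstJP2 {A B : Type u} [CommRing A] [CommRing B] (φ : A →+* B) :
    HasLBaseChange φ := Groth.Agent.Lib.LpullQCL.hasLBaseChange φ

variable {R A : Type u} [CommRing R] [CommRing A] [Algebra R A]

theorem torAmp_stalk_of_le (q₀ : Ideal A) [q₀.IsPrime] (q : PrimeSpectrum A)
    (hq : q.asIdeal ≤ q₀)
    (C : Cx A) (b₁ : ℤ) (hCb : VanishesAbove C b₁) (hCf : TermwiseFlat C) (a b : ℤ)
    (h : HasTorAmplitudeIn R a b
      ((restrictD (algebraMap R (Localization.AtPrime q₀))).obj
        ((LBaseChange (algebraMap A (Localization.AtPrime q₀))).obj (toD C)))) :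
    HasTorAmplitudeIn (Rq (algebraMap R A) q) a b
      (toD (((ModuleCat.restrictScalars.{u} (ell (algebraMap R A) q)).mapHomologicalComplex
        (ComplexShape.up ℤ)).obj ((EScA (fun q : PrimeSpectrum A => Bq A q) q).obj C))) := by
  let φ : R →+* A := algebraMap R A
  have hunit : ∀ y : q₀.primeCompl, IsUnit (algebraMap A (Bq A q) y) := fun y =>
    IsLocalization.map_units (Bq A q)
      (⟨y.1, fun hy => y.2 (hq hy)⟩ : q.asIdeal.primeCompl)
  let lam : Localization.AtPrime q₀ →+* Bq A q :=
    IsLocalization.lift (M := q₀.primeCompl) (g := algebraMap A (Bq A q)) hunit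
  have hlam : ∀ x : A, lam (algebraMap A (Localization.AtPrime q₀) x) = algebraMap A (Bq A q) x :=
    fun x => IsLocalization.lift_eq hunit x
  letI algAB : Algebra (Localization.AtPrime q₀) (Bq A q) := lam.toAlgebra
  haveI : IsScalarTower A (Localization.AtPrime q₀) (Bq A q) :=
    IsScalarTower.of_algebraMap_eq (fun x => (hlam x).symm)
  letI : Algebra R (Bq A q) := algRBq φ q
  letI : Algebra (Rq φ q) (Bq A q) := algRqBq φ q
  haveI : IsScalarTower R A (Bq A q) := IsScalarTower.of_algebraMap_eq (fun r => rfl)
  haveI : IsScalarTower R (Rq φ q) (Bq A q) := tower2 φ q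
  haveI : IsScalarTower R (Localization.AtPrime q₀) (Bq A q) :=
    IsScalarTower.of_algebraMap_eq (fun r => by
      show algebraMap A (Bq A q) (φ r) = lam (algebraMap R (Localization.AtPrime q₀) r)
      rw [IsScalarTower.algebraMap_apply R A (Localization.AtPrime q₀), hlam])
  haveI : IsLocalization (q.asIdeal.primeCompl.map (algebraMap A (Localization.AtPrime q₀)))
      (Bq A q) :=
    IsLocalization.isLocalization_of_submonoid_le (Localization.AtPrime q₀) (Bq A q)
      q₀.primeCompl q.asIdeal.primeCompl (fun y hy hyq => hy (hq hyq))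
  haveI : Module.Flat (Localization.AtPrime q₀) (Bq A q) :=
    IsLocalization.flat (Bq A q)
      (q.asIdeal.primeCompl.map (algebraMap A (Localization.AtPrime q₀)))
  let C₀ : Cx (Localization.AtPrime q₀) :=
    (ESc (algebraMap A (Localization.AtPrime q₀))).obj C
  obtain ⟨i2⟩ := nonempty_lBaseChange_iso_of_flat (algebraMap A (Localization.AtPrime q₀)) C b₁
    hCb hCf
  have h' : HasTorAmplitudeIn R a b
      (toD (((res R (Localization.AtPrime q₀)).mapHomologicalComplex
        (ComplexShape.up ℤ)).obj C₀)) :=
    hasTorAmplitudeIn_of_iso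
      ((restrictD (algebraMap R (Localization.AtPrime q₀))).mapIso i2 ≪≫ restrictDIso C₀) a b h
  have h2 := hasTorAmplitudeIn_res_loc (R := R) (A := Localization.AtPrime q₀)
    (R' := Rq φ q) (B := Bq A q) C₀ a b h'
  let i : (ESc (algebraMap (Localization.AtPrime q₀) (Bq A q))).obj C₀ ≅
      (ESc (algebraMap A (Bq A q))).obj C :=
    (EScCompIso (algebraMap A (Localization.AtPrime q₀))
      (algebraMap (Localization.AtPrime q₀) (Bq A q)) (algebraMap A (Bq A q))
      (IsScalarTower.algebraMap_eq A (Localization.AtPrime q₀) (Bq A q)) C).symm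
  exact hasTorAmplitudeIn_of_iso
    (Q.mapIso (((ModuleCat.restrictScalars.{u} (ell φ q)).mapHomologicalComplex
      (ComplexShape.up ℤ)).mapIso i)) a b h2

end

end Groth.Agent.Lib.JacPerfH3
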