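import Mathlib
import Groth.Prelude
import Groth.Agent.Lib.RelFlatAmp2_helper3
import Groth.Agent.Lib.RelPCa_helper3
import Groth.Agent.Lib.TorSmooth1_helper3

/-!
# Relatively perfect objects form a saturated triangulated subcategory (helper3)

`main7250`: for `f : X ⟶ S` flat, the objects of `D(O_X)` which are pseudo-coherent and locally of
finite tor dimension relative to `S` form a triangulated subcategory stable under retracts.
-/

set_option autoImplicit false
set_option linter.all false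
set_option maxHeartbeats 1600000
set_option backward.isDefEq.respectTransparency false
set_option backward.isDefEq.respectTransparency.types false
set_option backward.defeqAttrib.useBackward true

universe u
open CategoryTheory CategoryTheory.Limits AlgebraicGeometry Opposite TopologicalSpace
open CategoryTheory.Pretriangulated ZeroObject
attribute [local instance] HasDerivedCategory.standard

namespace Groth.Agent.Lib.RelFlatAmpH3

open DRing DerSch Groth.Agent.Lib.DMod_helper6 Groth.Agent.Lib.TorAmpCompL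
  Groth.Agent.Lib.TorAmpPushL Groth.Agent.Lib.TorAmpIdL Groth.Agent.Lib.TorAmpRelH3
  Groth.Agent.Lib.DCohLocLead DerivedCategory

noncomputable section

variable {X S : Scheme.{u}} (f : X ⟶ S)

/-- the stalk functor on derived categories, over the base -/
abbrev stalkD (x : X) : DCoh.D X ⥤ Dual.D (S.presheaf.stalk (f.base x)) :=
  (stalkOver f x).mapDerivedCategory

/-- tor amplitude at a point, for an object of the derived category -/
def TorAt (a b : ℤ) (E : DCoh.D X) (x : X) : Prop :=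
  HasTorAmplitudeIn (S.presheaf.stalk (f.base x)) a b ((stalkD f x).obj E)

variable {f}

lemma torAt_of_iso {E E' : DCoh.D X} (e : E ≅ E') {a b : ℤ} {x : X} (h : TorAt f a b E x) :
    TorAt f a b E' x :=
  hasTorAmplitudeIn_of_iso ((stalkD f x).mapIso e) a b h

lemma torAt_toD_iff (F : CochainComplex X.Modules ℤ) (a b : ℤ) (x : X) :
    TorAt f a b (DCoh.toD X F) x ↔ HasTorAmplitudeAt f a b F x :=
  ⟨fun h => hasTorAmplitudeIn_of_iso ((stalkOver f x).mapDerivedCategoryFactors.app F) a b h,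
    fun h => hasTorAmplitudeIn_of_iso ((stalkOver f x).mapDerivedCategoryFactors.app F).symm a b h⟩

lemma torAt_mono {E : DCoh.D X} {a b a' b' : ℤ} {x : X} (ha : a' ≤ a) (hb : b ≤ b')
    (h : TorAt f a b E x) : TorAt f a' b' E x :=
  hasTorAmplitudeIn_mono _ a b a' b' ha hb h

lemma torAt_of_isZero {E : DCoh.D X} (hE : IsZero E) (a b : ℤ) (x : X) : TorAt f a b E x :=
  hasTorAmplitudeIn_of_isZero _ ((stalkD f x).map_isZero hE) a b

lemma torAt_shift {E : DCoh.D X} {a b : ℤ} {x : X} (h : TorAt f a b E x) (n : ℤ) :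
    TorAt f (a - n) (b - n) (E⟦n⟧) x := by
  have h1 := hasTorAmplitudeIn_shift _ a b (a - n) (b - n) n (by omega) (by omega) h
  exact hasTorAmplitudeIn_of_iso (((stalkD f x).commShiftIso n).app E).symm _ _ h1

lemma torAt_ext₂ (T : Triangle (DCoh.D X)) (hT : T ∈ distTriang (DCoh.D X)) {a b : ℤ} {x : X}
    (h₁ : TorAt f a b T.obj₁ x) (h₃ : TorAt f a b T.obj₃ x) : TorAt f a b T.obj₂ x :=
  (hasTorAmplitudeIn_two_of_three _ ((stalkD f x).map_distinguished T hT) a b).2.1 h₁ h₃

lemma torAt_of_retract {E E' : DCoh.D X} (r : Retract E E') {a b : ℤ} {x : X}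
    (h : TorAt f a b E' x) : TorAt f a b E x := by
  refine Groth.Agent.Lib.TorSmoothH3.hasTorAmplitudeIn_of_retract ((stalkD f x).map r.i)
    ((stalkD f x).map r.r) ?_ a b h
  rw [← Functor.map_comp, r.retract]
  exact CategoryTheory.Functor.map_id _ _

variable (f)

/-- locally finite relative tor dimension, in terms of the stalk functors -/
theorem locHasFiniteRelTorDim_iff_torAt [Flat f] (E : DCoh.D X) :
    DCoh.LocHasFiniteRelTorDim f E ↔
      ∀ x : X, ∃ (V : X.Opens) (a b : ℤ), x ∈ V ∧ ∀ v : X, v ∈ V → TorAt f a b E v := by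
  let F : CochainComplex X.Modules ℤ := Q.objPreimage E
  let e : DCoh.toD X F ≅ E := Q.objObjPreimageIso E
  rw [locHasFiniteRelTorDim_iff' f E F e]
  constructor
  · intro h x
    obtain ⟨V, a, b, hxV, hV⟩ := h x
    exact ⟨V, a, b, hxV, fun v hv => torAt_of_iso e ((torAt_toD_iff F a b v).2 (hV v hv))⟩
  · intro h x
    obtain ⟨V, a, b, hxV, hV⟩ := h x
    exact ⟨V, a, b, hxV, fun v hv => (torAt_toD_iff F a b v).1 (torAt_of_iso e.symm (hV v hv))⟩

/-- the property of being perfect relative to `S` -/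
def RelPerf : ObjectProperty (DCoh.D X) :=
  fun E => (∀ m : ℤ, DCoh.IsPseudoCoherentD m E) ∧ DCoh.LocHasFiniteRelTorDim f E

theorem relPerf_of_isZero [Flat f] {E : DCoh.D X} (hE : IsZero E) : RelPerf f E := by
  refine ⟨fun m => Groth.Agent.Lib.RelPCaH3.isPC_of_isZero hE m, ?_⟩
  rw [locHasFiniteRelTorDim_iff_torAt]
  intro x
  exact ⟨⊤, 0, 0, trivial, fun v _ => torAt_of_isZero hE 0 0 v⟩

theorem relPerf_shift [Flat f] {E : DCoh.D X} (hE : RelPerf f E) (n : ℤ) : RelPerf f (E⟦n⟧) := by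
  obtain ⟨h1, h2⟩ := hE
  refine ⟨fun m => ?_, ?_⟩
  · have := isPC_shift (h1 (m + n)) n
    rwa [show m + n - n = m by ring] at this
  · rw [locHasFiniteRelTorDim_iff_torAt] at h2 ⊢
    intro x
    obtain ⟨V, a, b, hxV, hV⟩ := h2 x
    exact ⟨V, a - n, b - n, hxV, fun v hv => torAt_shift (hV v hv) n⟩

theorem relPerf_ext₂ [Flat f] (T : Triangle (DCoh.D X)) (hT : T ∈ distTriang (DCoh.D X))
    (h₁ : RelPerf f T.obj₁) (h₃ : RelPerf f T.obj₃) : RelPerf f T.obj₂ := by
  refine ⟨fun m => ?_, ?_⟩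
  · have hs := (relPerf_shift f h₃ (-1)).1 (m + 1)
    exact isPC_obj₃ m T.invRotate (inv_rot_of_distTriang _ hT) hs (h₁.1 m)
  · have t₁ := h₁.2
    have t₃ := h₃.2
    rw [locHasFiniteRelTorDim_iff_torAt] at t₁ t₃ ⊢
    intro x
    obtain ⟨V₁, a₁, b₁, hxV₁, hV₁⟩ := t₁ x
    obtain ⟨V₃, a₃, b₃, hxV₃, hV₃⟩ := t₃ x
    refine ⟨V₁ ⊓ V₃, min a₁ a₃, max b₁ b₃, ⟨hxV₁, hxV₃⟩, fun v hv => ?_⟩
    exact torAt_ext₂ T hT
      (torAt_mono (min_le_left _ _) (le_max_left _ _) (hV₁ v hv.1))
      (torAt_mono (min_le_right _ _) (le_max_right _ _) (hV₃ v hv.2))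

theorem relPerf_of_retract [Flat f] {E E' : DCoh.D X} (r : Retract E E') (h : RelPerf f E') :
    RelPerf f E := by
  refine ⟨fun m => Groth.Agent.Lib.RelPCaH3.isPC_of_retract r.i r.r r.retract m (h.1 m), ?_⟩
  have t := h.2
  rw [locHasFiniteRelTorDim_iff_torAt] at t ⊢
  intro x
  obtain ⟨V, a, b, hxV, hV⟩ := t x
  exact ⟨V, a, b, hxV, fun v hv => torAt_of_retract r (hV v hv)⟩

/-- S7250 -/
theorem main7250 [Flat f] :
    ObjectProperty.IsTriangulated (RelPerf f) ∧ ObjectProperty.IsStableUnderRetracts (RelPerf f) := by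
  refine ⟨?_, ⟨fun r h => relPerf_of_retract f r h⟩⟩
  haveI : (RelPerf f).ContainsZero :=
    ⟨⟨0, isZero_zero _, relPerf_of_isZero f (isZero_zero _)⟩⟩
  haveI : (RelPerf f).IsStableUnderShift ℤ :=
    ⟨fun n => ⟨fun E hE => relPerf_shift f hE n⟩⟩
  haveI : (RelPerf f).IsTriangulatedClosed₂ :=
    ⟨fun T hT h₁ h₃ => (RelPerf f).le_isoClosure _ (relPerf_ext₂ f T hT h₁ h₃)⟩
  exact {}

end

end Groth.Agent.Lib.RelFlatAmpH3
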