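import Mathlib
import Groth.Prelude
import Groth.Agent.Lib.JacPerf2_helper3
import Groth.Agent.Lib.RelFlatAmp3_helper3
import Groth.Agent.Lib.RelPerfLoc3_helper3
import Groth.Agent.Lib.RelPerfBC2_helper3

/-!
# Relative perfection from the reduction modulo an ideal: charts (S7233) (helper3)

* `torAmp_stalk_of_isPushout`: the ring level statement for a pushout square in `CommRingCat`.
* `hasTorAmplitudeAt_of_stalk`: from the complex of stalks to `HasTorAmplitudeAt` on `Spec A`.
* `torAt_chart_of_stalk`: the same on an affine chart of a scheme.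
* `exists_specializes_zeroLocus`: over a ring `R` with `I` in the Jacobson radical, every point of
  a proper `R`-scheme specializes to a point over `V(I)`.
-/

set_option autoImplicit false
set_option linter.all false
set_option maxHeartbeats 1600000
set_option backward.isDefEq.respectTransparency false
set_option backward.isDefEq.respectTransparency.types false
set_option backward.defeqAttrib.useBackward true

universe u
open CategoryTheory CategoryTheory.Limits AlgebraicGeometry Opposite TopologicalSpace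
open scoped TensorProduct ChangeOfRings
attribute [local instance] HasDerivedCategory.standard

namespace Groth.Agent.Lib.JacPerfH3

open DRing DerSch CochainComplex Groth.Agent.ExtendScalarsLib Groth.Agent.Lib.DMod_helper6
  Groth.Agent.Lib.FibCritH3 Groth.Agent.Lib.RelTildeAmpH3 Groth.Agent.Lib.TildeAmpL
  Groth.Agent.Lib.ExtKFlat DerivedCategory Groth.Agent.Lib.DCohLocLead
  Groth.Agent.Lib.RelPerfLocH3 Groth.Agent.Lib.RelPerfBCH3 Groth.Agent.Lib.RelFlatAmpH3

noncomputable section

local instance hasLBCInstJP3 {A B : Type u} [CommRing A] [CommRing B] (φ : A →+* B) :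
    HasLBaseChange φ := Groth.Agent.Lib.LpullQCL.hasLBaseChange φ

local instance pflInstJP3 (R : CommRingCat.{u}) : PreservesFiniteLimits (tilde.functor R) :=
  Groth.Agent.Lib.LpullQCL.preservesFiniteLimits_tilde R

section CatForm

/-- the ring level statement for a pushout square in `CommRingCat` -/
theorem torAmp_stalk_of_isPushout {R A R₀ A₀ : CommRingCat.{u}}
    (α : R ⟶ A) (β : R ⟶ R₀) (β' : A ⟶ A₀) (α' : R₀ ⟶ A₀) (H : IsPushout α β β' α')
    (hα : α.hom.Flat) (hfp : α.hom.FinitePresentation) (hβ : Function.Surjective β.hom)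
    (M : DerivedCategory (ModuleCat.{u} A)) (hM : IsPseudoCoherent' A M) (a b : ℤ)
    (hamp : HasTorAmplitudeIn R₀ a b ((restrictD α'.hom).obj ((LBaseChange β'.hom).obj M))) :
    ∃ (a' : ℤ) (C : Cx A) (_ : toD C ≅ M), ∀ (q₀ q : PrimeSpectrum A),
      q.asIdeal ≤ q₀.asIdeal → (∀ r : R, β.hom r = 0 → α.hom r ∈ q₀.asIdeal) →
      HasTorAmplitudeIn (Rq α.hom q) a' b
        (toD (((ModuleCat.restrictScalars.{u} (ell α.hom q)).mapHomologicalComplex
          (ComplexShape.up ℤ)).obj ((EScA (fun q : PrimeSpectrum A => Bq A q) q).obj C))) := by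
  letI : Algebra R A := α.hom.toAlgebra
  letI : Algebra R R₀ := β.hom.toAlgebra
  letI : Algebra R₀ A₀ := α'.hom.toAlgebra
  letI : Algebra A A₀ := β'.hom.toAlgebra
  letI : Algebra R A₀ := (β'.hom.comp α.hom).toAlgebra
  haveI : IsScalarTower R A A₀ := IsScalarTower.of_algebraMap_eq (fun r => rfl)
  haveI : IsScalarTower R R₀ A₀ := IsScalarTower.of_algebraMap_eq (fun r => by
    have h := congrArg (fun k => k.hom r) H.w
    exact h)
  haveI : Module.Flat R A := hα
  haveI : Algebra.FinitePresentation R A := hfp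
  have H' : IsPushout (CommRingCat.ofHom (algebraMap R R₀)) (CommRingCat.ofHom (algebraMap R A))
      (CommRingCat.ofHom (algebraMap R₀ A₀)) (CommRingCat.ofHom (algebraMap A A₀)) := H.flip
  haveI : Algebra.IsPushout R R₀ A A₀ := CommRingCat.isPushout_iff_isPushout.1 H'
  obtain ⟨d, ψ, hψ⟩ := Algebra.FiniteType.iff_quotient_mvPolynomial''.1
    (inferInstance : Algebra.FiniteType R A)
  have hM' := hM
  obtain ⟨C, b₁, hCb, hCff, ⟨eC⟩⟩ := hM
  have hCf : TermwiseFlat C := fun j => by haveI := (hCff j).2; infer_instance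
  refine ⟨a - d, C, eC, fun q₀ q hq hq₀ => ?_⟩
  let p : Ideal R := Ideal.comap (algebraMap R A) q₀.asIdeal
  haveI : p.IsPrime := Ideal.comap_isPrime _ _
  have hp : RingHom.ker (algebraMap R R₀) ≤ p := fun r hr => hq₀ r hr
  haveI : HasLTensor R (ModuleCat.of R p.ResidueField) :=
    Groth.Agent.Lib.LpullQCL.hasLeftDerivedFunctor_of_kproj _
  have hfib : ∀ i : ℤ, i < a ∨ b < i → Subsingleton (Dual.HD R
      ((LTensor R (ModuleCat.of R p.ResidueField)).obj
        ((restrictD (algebraMap R A)).obj M)) i) := fun i hi =>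
    subsingleton_HD_lTensor_residueField_of_torAmp_pushout (R := R) (A := A) (R₀ := R₀)
      (A₀ := A₀) hβ p hp M hM' a b hamp i hi
  have h1 := torAmp_restrict_localization R A d ψ hψ q₀.asIdeal p rfl M hM' a b hfib
  have h2 : HasTorAmplitudeIn R (a - d) b
      ((restrictD (algebraMap R (Localization.AtPrime q₀.asIdeal))).obj
        ((LBaseChange (algebraMap A (Localization.AtPrime q₀.asIdeal))).obj (toD C))) :=
    hasTorAmplitudeIn_of_iso
      ((restrictD (algebraMap R (Localization.AtPrime q₀.asIdeal))).mapIso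
        ((LBaseChange (algebraMap A (Localization.AtPrime q₀.asIdeal))).mapIso eC.symm)) _ _ h1
  exact torAmp_stalk_of_le (R := R) (A := A) q₀.asIdeal q hq C b₁ hCb hCf (a - d) b h2

end CatForm

section Dict

/-- from the complex of stalks to `HasTorAmplitudeAt` on `Spec A` -/
theorem hasTorAmplitudeAt_of_stalk {R A : Type u} [CommRing R] [CommRing A] (φ : R →+* A)
    [PreservesFiniteLimits (tilde.functor (CommRingCat.of A))]
    (M : Dual.D A) (F : CochainComplex (Spec (CommRingCat.of A)).Modules ℤ)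
    (e : DCoh.toD (Spec (CommRingCat.of A)) F ≅ (DCoh.tildeD (CommRingCat.of A)).obj M)
    (C : Cx A) (eC : toD C ≅ M) (q : PrimeSpectrum A) (a b : ℤ)
    (h : HasTorAmplitudeIn (Rq φ q) a b
      (toD (((ModuleCat.restrictScalars.{u} (ell φ q)).mapHomologicalComplex
        (ComplexShape.up ℤ)).obj ((EScA (fun q : PrimeSpectrum A => Bq A q) q).obj C)))) :
    DerSch.HasTorAmplitudeAt (Spec.map (CommRingCat.ofHom φ)) a b F q := by
  let e' : DCoh.toD (XA A) F ≅ DCoh.toD (XA A) ((tildeCx A).obj C) :=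
    e ≪≫ (DCoh.tildeD (CommRingCat.of A)).mapIso eC.symm ≪≫
      (tilde.functor (CommRingCat.of A)).mapDerivedCategoryFactors.app C
  have h2 : HasTorAmplitudeAt (fS φ) a b ((tildeCx A).obj C) q :=
    hasTorAmplitudeIn_of_iso (DerivedCategory.Q.mapIso (stalkOverIso φ q C)).symm a b h
  exact Groth.Agent.Lib.RelFlatAmpH3.hasTorAmplitudeAt_of_iso (fS φ) e'.symm a b q h2

/-- `CommRingCat` form -/
theorem hasTorAmplitudeAt_of_stalk' {R A : CommRingCat.{u}} (φ : R ⟶ A)
    [PreservesFiniteLimits (tilde.functor A)]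
    (M : DerivedCategory (ModuleCat.{u} A)) (F : CochainComplex (Spec A).Modules ℤ)
    (e : DCoh.toD (Spec A) F ≅ (DCoh.tildeD A).obj M)
    (C : Cx A) (eC : toD C ≅ M) (q : PrimeSpectrum A) (a b : ℤ)
    (h : HasTorAmplitudeIn (Rq φ.hom q) a b
      (toD (((ModuleCat.restrictScalars.{u} (ell φ.hom q)).mapHomologicalComplex
        (ComplexShape.up ℤ)).obj ((EScA (fun q : PrimeSpectrum A => Bq A q) q).obj C)))) :
    DerSch.HasTorAmplitudeAt (Spec.map φ) a b F q :=
  hasTorAmplitudeAt_of_stalk φ.hom M F e C eC q a b h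

variable {X S : Scheme.{u}} (f : X ⟶ S)

/-- from the complex of stalks on an affine chart to `TorAt` -/
theorem torAt_chart_of_stalk (E : DCoh.D X)
    (U : X.Opens) (hU : IsAffineOpen U) (V : S.Opens) (hV : IsAffineOpen V) (hUV : U ≤ f ⁻¹ᵁ V)
    (M : DerivedCategory (ModuleCat.{u} Γ(X, U))) (e : EC U hU E ≅ (DCoh.tildeD Γ(X, U)).obj M)
    (C : Cx Γ(X, U)) (eC : toD C ≅ M) (q : PrimeSpectrum Γ(X, U)) (a b : ℤ)
    (h : HasTorAmplitudeIn (Rq (f.appLE V U hUV).hom q) a b
      (toD (((ModuleCat.restrictScalars.{u} (ell (f.appLE V U hUV).hom q)).mapHomologicalComplex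
        (ComplexShape.up ℤ)).obj
          ((EScA (fun q : PrimeSpectrum Γ(X, U) => Bq Γ(X, U) q) q).obj C)))) :
    TorAt f a b E (hU.fromSpec.base q) := by
  let F : CochainComplex X.Modules ℤ := Q.objPreimage E
  let eF : DCoh.toD X F ≅ E := Q.objObjPreimageIso E
  refine torAt_of_iso eF ((torAt_toD_iff F a b _).2 ?_)
  rw [fromSpec_apply U hU q]
  refine (torAmpAt_chart_iff f U hU V hV hUV F a b q).1 ?_
  exact hasTorAmplitudeAt_of_stalk' (f.appLE V U hUV) M (FC U hU F)
    (ecIso U hU E F eF ≪≫ e) C eC q a b h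

end Dict

section Top

/-- over a ring `R` with `I` in the Jacobson radical, every point of a proper `R`-scheme
specializes to a point over `V(I)` -/
theorem exists_specializes_zeroLocus (R : Type u) [CommRing R] (I : Ideal R)
    (hI : I ≤ Ideal.jacobson ⊥) {X : Scheme.{u}} (f : X ⟶ Spec (CommRingCat.of R))
    [UniversallyClosed f] (x : X) :
    ∃ x₀ : X, x ⤳ x₀ ∧
      (f.base x₀ : PrimeSpectrum R) ∈ PrimeSpectrum.zeroLocus (I : Set R) := by
  have hcl : IsClosed (f.base '' closure {x}) := f.isClosedMap _ isClosed_closure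
  obtain ⟨J, hJ⟩ := (PrimeSpectrum.isClosed_iff_zeroLocus_ideal _).1 hcl
  have hne : J ≠ ⊤ := by
    intro h
    have hx : f.base x ∈ f.base '' closure {x} := ⟨x, subset_closure rfl, rfl⟩
    rw [hJ, h] at hx
    simp at hx
  obtain ⟨m, hm, hJm⟩ := Ideal.exists_le_maximal J hne
  have hmem : (⟨m, hm.isPrime⟩ : PrimeSpectrum R) ∈ f.base '' closure {x} := by
    rw [hJ]
    exact hJm
  obtain ⟨x₀, hx₀, hfx₀⟩ := hmem
  refine ⟨x₀, specializes_iff_mem_closure.2 hx₀, ?_⟩
  rw [hfx₀]
  intro r hr
  have h1 : Ideal.jacobson (⊥ : Ideal R) ≤ m := sInf_le ⟨bot_le, hm⟩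
  exact h1 (hI hr)

end Top

end

end Groth.Agent.Lib.JacPerfH3
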