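import Mathlib
import Groth.Prelude
import Groth.Agent.Lib.JacPerf3_helper3
import Groth.Agent.Lib.RpushPCUnb_helper3

/-!
# Relative perfection from the reduction modulo an ideal in the Jacobson radical (S7233) (helper3)

* `chart_bound`: uniform stalkwise tor amplitude on an affine chart, at the generizations of the
  points over `V(I)`.
* `main7233`.
-/

set_option autoImplicit false
set_option linter.all false
set_option maxHeartbeats 1600000
set_option backward.isDefEq.respectTransparency false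
set_option backward.isDefEq.respectTransparency.types false
set_option backward.defeqAttrib.useBackward true

universe u
open CategoryTheory CategoryTheory.Limits AlgebraicGeometry Opposite TopologicalSpace
open scoped TensorProduct ChangeOfRings
attribute [local instance] HasDerivedCategory.standard

namespace Groth.Agent.Lib.JacPerfH3

open DRing DerSch CochainComplex Groth.Agent.ExtendScalarsLib Groth.Agent.Lib.DMod_helper6
  Groth.Agent.Lib.FibCritH3 Groth.Agent.Lib.RelTildeAmpH3 Groth.Agent.Lib.TildeAmpL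
  Groth.Agent.Lib.ExtKFlat DerivedCategory Groth.Agent.Lib.DCohLocLead
  Groth.Agent.Lib.RelPerfLocH3 Groth.Agent.Lib.RelPerfBCH3 Groth.Agent.Lib.RelFlatAmpH3

noncomputable section

local instance hasLBCInstJP4 {A B : Type u} [CommRing A] [CommRing B] (φ : A →+* B) :
    HasLBaseChange φ := Groth.Agent.Lib.LpullQCL.hasLBaseChange φ

local instance pflInstJP4 (R : CommRingCat.{u}) : PreservesFiniteLimits (tilde.functor R) :=
  Groth.Agent.Lib.LpullQCL.preservesFiniteLimits_tilde R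

section Surj

/-- the map on global sections of `Spec (R ⧸ I) → Spec R` is surjective -/
theorem surjective_appLE_top {R₁ R₂ : CommRingCat.{u}} (φ : R₁ ⟶ R₂)
    (hφ : Function.Surjective φ.hom)
    (h : (⊤ : (Spec R₂).Opens) ≤ (Spec.map φ) ⁻¹ᵁ (⊤ : (Spec R₁).Opens)) :
    Function.Surjective ((Spec.map φ).appLE ⊤ ⊤ h).hom := by
  have h1 : (Spec.map φ).appLE ⊤ ⊤ h = (Spec.map φ).appTop := by
    rw [Scheme.Hom.appTop, Scheme.Hom.app_eq_appLE]
    rfl
  have h2 : (Spec.map φ).appTop = (Scheme.ΓSpecIso R₁).hom ≫ φ ≫ (Scheme.ΓSpecIso R₂).inv := by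
    rw [← Scheme.ΓSpecIso_naturality_assoc, Iso.hom_inv_id, Category.comp_id]
  rw [h1, h2]
  intro y
  obtain ⟨x, hx⟩ := hφ ((Scheme.ΓSpecIso R₂).hom.hom y)
  refine ⟨(Scheme.ΓSpecIso R₁).inv.hom x, ?_⟩
  show (Scheme.ΓSpecIso R₂).inv.hom (φ.hom ((Scheme.ΓSpecIso R₁).hom.hom
    ((Scheme.ΓSpecIso R₁).inv.hom x))) = y
  have h3 : (Scheme.ΓSpecIso R₁).hom.hom ((Scheme.ΓSpecIso R₁).inv.hom x) = x := by
    have := congrArg (fun k => k.hom x) (Scheme.ΓSpecIso R₁).inv_hom_id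
    exact this
  rw [h3, hx]
  have := congrArg (fun k => k.hom y) (Scheme.ΓSpecIso R₂).hom_inv_id
  exact this

end Surj

section Chart

variable (R : Type u) [CommRing R] (I : Ideal R) {X : Scheme.{u}}
  (f : X ⟶ Spec (CommRingCat.of R))

theorem chart_bound [Flat f] [LocallyOfFinitePresentation f]
    [DCoh.HasLpull (pullback.fst f (Spec.map (CommRingCat.ofHom (Ideal.Quotient.mk I))))]
    (E : DCoh.D X) (hpc : ∀ m : ℤ, DCoh.IsPseudoCoherentD m E)
    (hK₀pc : ∀ m : ℤ, DCoh.IsPseudoCoherentD m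
      ((DCoh.Lpull (pullback.fst f (Spec.map (CommRingCat.ofHom (Ideal.Quotient.mk I))))).obj E))
    (hK₀T : DCoh.LocHasFiniteRelTorDim
      (pullback.snd f (Spec.map (CommRingCat.ofHom (Ideal.Quotient.mk I))))
      ((DCoh.Lpull (pullback.fst f (Spec.map (CommRingCat.ofHom (Ideal.Quotient.mk I))))).obj E))
    (U : X.Opens) (hU : IsAffineOpen U) :
    ∃ a b : ℤ, ∀ x x₀ : X, x ∈ U → x₀ ∈ U → x ⤳ x₀ →
      (f.base x₀ : PrimeSpectrum R) ∈ PrimeSpectrum.zeroLocus (I : Set R) →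
      TorAt f a b E x := by
  let S : Scheme.{u} := Spec (CommRingCat.of R)
  let g : Spec (CommRingCat.of (R ⧸ I)) ⟶ S :=
    Spec.map (CommRingCat.ofHom (Ideal.Quotient.mk I))
  let V : S.Opens := ⊤
  have hV : IsAffineOpen V := isAffineOpen_top S
  have hUV : U ≤ f ⁻¹ᵁ V := fun _ _ => trivial
  let V' : (Spec (CommRingCat.of (R ⧸ I))).Opens := ⊤
  have hV' : IsAffineOpen V' := isAffineOpen_top _
  have hV'V : V' ≤ g ⁻¹ᵁ V := fun _ _ => trivial
  have hq : DCoh.IsQCohD E := Groth.Agent.Lib.RpushPCUnbH3.isQCohD_of_forall_isPC E hpc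
  have hqU : DCoh.IsQCohD (EC U hU E) :=
    Groth.Agent.Lib.LpullQCL.isQCohD_restrictD _ _
      (Groth.Agent.Lib.LpullQCL.isQCohD_restrictD _ _ hq)
  obtain ⟨M, ⟨eM⟩⟩ := ((Groth.Agent.Lib.DSectX.main0997 Γ(X, U)).2.2 _).1 hqU
  have e : EC U hU E ≅ (DCoh.tildeD Γ(X, U)).obj M := eM.symm
  have hMpc : IsPseudoCoherent' Γ(X, U) M :=
    (isPseudoCoherent'_iff_forall M).2 (fun m =>
      (isPC_tildeD_iff' Γ(X, U) M m).1 (isPC_of_iso e (isPC_chart U hU E m (hpc m))))
  have hUP : IsAffineOpen (UP f g U V') := isAffineOpen_UP f g U hU V hV V' hV' hUV hV'V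
  obtain ⟨c⟩ := nonempty_chart_Lpull_iso f g U hU V' E hUP M e
  have hrel := isRelPerfect_of_relPerfect (pullback.snd f g) _ hK₀pc hK₀T (UP f g U V') hUP V' hV'
    inf_le_right _ c
  obtain ⟨_, a, b, hamp⟩ := hrel
  have H := isPushout_UP f g U hU V hV V' hV' hUV hV'V
  have hβ : Function.Surjective (g.appLE V V' hV'V).hom :=
    surjective_appLE_top (CommRingCat.ofHom (Ideal.Quotient.mk I)) Ideal.Quotient.mk_surjective
      hV'V
  have hfp : (f.appLE V U hUV).hom.FinitePresentation :=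
    HasRingHomProperty.appLE (P := @LocallyOfFinitePresentation) f inferInstance
      ⟨V, hV⟩ ⟨U, hU⟩ hUV
  obtain ⟨a', C, eC, hC⟩ := torAmp_stalk_of_isPushout (f.appLE V U hUV) (g.appLE V V' hV'V)
    ((pullback.fst f g).appLE U (UP f g U V') inf_le_left)
    ((pullback.snd f g).appLE V' (UP f g U V') inf_le_right) H (f.flat_appLE hV hU hUV) hfp hβ
    M hMpc a b hamp
  refine ⟨a', b, fun x x₀ hx hx₀ hsp hz => ?_⟩
  obtain ⟨q, rfl⟩ := exists_fromSpec_eq U hU x hx
  obtain ⟨q₀, rfl⟩ := exists_fromSpec_eq U hU x₀ hx₀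
  have hqq : q ⤳ q₀ := (hU.fromSpec.isOpenEmbedding.isInducing.specializes_iff).1 hsp
  have hle : (q : PrimeSpectrum Γ(X, U)).asIdeal ≤ (q₀ : PrimeSpectrum Γ(X, U)).asIdeal :=
    (PrimeSpectrum.le_iff_specializes (q : PrimeSpectrum Γ(X, U)) q₀).2 hqq
  refine torAt_chart_of_stalk f E U hU V hV hUV M e C eC q a' b (hC q₀ q hle ?_)
  intro r hr
  by_contra hnot
  have h1 : (q₀ : PrimeSpectrum Γ(X, U)) ∈ PrimeSpectrum.basicOpen ((f.appLE V U hUV).hom r) :=
    hnot
  have h2 : hU.fromSpec.base q₀ ∈ X.basicOpen ((f.appLE V U hUV).hom r) := by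
    have h := hU.fromSpec_preimage_basicOpen ((f.appLE V U hUV).hom r)
    show q₀ ∈ hU.fromSpec ⁻¹ᵁ X.basicOpen ((f.appLE V U hUV).hom r)
    rw [h]
    exact h1
  have h3 : X.basicOpen ((f.appLE V U hUV).hom r) = U ⊓ f ⁻¹ᵁ S.basicOpen r :=
    Scheme.basicOpen_appLE f U V hUV r
  rw [h3] at h2
  have h4 : f.base (hU.fromSpec.base q₀) ∈ S.basicOpen r := h2.2
  have hrange : Set.range (PrimeSpectrum.comap (Ideal.Quotient.mk I)) =
      PrimeSpectrum.zeroLocus (I : Set R) := by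
    have h := range_comap_of_surjective _ (Ideal.Quotient.mk I)
      Ideal.Quotient.mk_surjective
    rw [Ideal.mk_ker] at h
    exact h
  rw [← hrange] at hz
  obtain ⟨z, hz'⟩ := hz
  have h5 : (z : Spec (CommRingCat.of (R ⧸ I))) ∈ (V' ⊓ g ⁻¹ᵁ S.basicOpen r :
      (Spec (CommRingCat.of (R ⧸ I))).Opens) := by
    refine ⟨trivial, ?_⟩
    show g.base z ∈ S.basicOpen r
    have h6 : g.base z = f.base (hU.fromSpec.base q₀) := hz'
    rw [h6]
    exact h4
  have h7 : (Spec (CommRingCat.of (R ⧸ I))).basicOpen ((g.appLE V V' hV'V).hom r) =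
      V' ⊓ g ⁻¹ᵁ S.basicOpen r := Scheme.basicOpen_appLE g V' V hV'V r
  rw [← h7, hr, Scheme.basicOpen_zero] at h5
  exact h5

end Chart

section Main

theorem main7233 (R : Type u) [CommRing R] (I : Ideal R)
    (hI : I ≤ Ideal.jacobson ⊥) {X : Scheme.{u}} (f : X ⟶ Spec (CommRingCat.of R)) [IsProper f]
    [Flat f] [LocallyOfFinitePresentation f]
    [DCoh.HasLpull (pullback.fst f (Spec.map (CommRingCat.ofHom (Ideal.Quotient.mk I))))]
    (E : DCoh.D X) (hpc : ∀ m : ℤ, DCoh.IsPseudoCoherentD m E)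
    (h₀ : ∃ F₀ : CochainComplex
        (pullback f (Spec.map (CommRingCat.ofHom (Ideal.Quotient.mk I)))).Modules ℤ,
      Nonempty (DCoh.toD _ F₀ ≅
        (DCoh.Lpull (pullback.fst f (Spec.map (CommRingCat.ofHom (Ideal.Quotient.mk I))))).obj E) ∧
        (∀ m : ℤ, DCoh.IsPseudoCoherentD m (DCoh.toD _ F₀)) ∧
        DerSch.LocFiniteTorAmplitude
          (pullback.snd f (Spec.map (CommRingCat.ofHom (Ideal.Quotient.mk I)))) F₀) :
    DerSch.LocFiniteTorAmplitudeD f E := by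
  obtain ⟨F₀, ⟨e₀⟩, hpc₀, hT₀⟩ := h₀
  have hK₀pc : ∀ m : ℤ, DCoh.IsPseudoCoherentD m
      ((DCoh.Lpull (pullback.fst f (Spec.map (CommRingCat.ofHom (Ideal.Quotient.mk I))))).obj E) :=
    fun m => isPC_of_iso e₀ (hpc₀ m)
  have hK₀T : DCoh.LocHasFiniteRelTorDim
      (pullback.snd f (Spec.map (CommRingCat.ofHom (Ideal.Quotient.mk I))))
      ((DCoh.Lpull (pullback.fst f (Spec.map (CommRingCat.ofHom (Ideal.Quotient.mk I))))).obj E) :=
    (locHasFiniteRelTorDim_iff' _ _ F₀ e₀).2 hT₀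
  haveI : CompactSpace X := QuasiCompact.compactSpace_of_compactSpace f
  choose a b hab using (fun U : X.affineOpens => chart_bound R I f E hpc hK₀pc hK₀T U.1 U.2)
  obtain ⟨t, ht⟩ := isCompact_univ.elim_finite_subcover
    (fun U : X.affineOpens => ((U.1 : X.Opens) : Set X)) (fun U => U.1.isOpen) (fun x _ => by
      obtain ⟨W, hW, hxW, -⟩ := Opens.isBasis_iff_nbhd.mp X.isBasis_affineOpens
        (show x ∈ (⊤ : X.Opens) from trivial)
      exact Set.mem_iUnion.2 ⟨⟨W, hW⟩, hxW⟩)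
  obtain ⟨b0, hb0⟩ := Finset.exists_le (t.image b)
  obtain ⟨a0, ha0⟩ := Finset.exists_le (t.image (fun U => -a U))
  have hall : ∀ x : X, TorAt f (-a0) b0 E x := by
    intro x
    obtain ⟨x₀, hsp, hz⟩ := exists_specializes_zeroLocus R I hI f x
    obtain ⟨U, hU⟩ := Set.mem_iUnion.1 (ht (Set.mem_univ x₀))
    obtain ⟨hUt, hx₀U⟩ := Set.mem_iUnion.1 hU
    have hxU : x ∈ U.1 := hsp.mem_open U.1.isOpen hx₀U
    have hb : b U ≤ b0 := hb0 _ (Finset.mem_image_of_mem b hUt)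
    have ha : -a U ≤ a0 := ha0 _ (Finset.mem_image_of_mem (fun U => -a U) hUt)
    exact torAt_mono (by omega) hb (hab U x x₀ hxU hx₀U hsp hz)
  intro F hF x
  exact ⟨⊤, -a0, b0, trivial, fun x' _ =>
    (torAt_toD_iff F (-a0) b0 x').1 (torAt_of_iso hF.some.symm (hall x'))⟩

end Main

end

end Groth.Agent.Lib.JacPerfH3
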