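import Mathlib

/-!
Helper library (helper1): the Zariski cotangent space of `k[T]/(F)` at a rational point has
dimension `n - rank (∂F_i/∂T_j (a))`.  APPEND-ONLY once landed.
-/

set_option autoImplicit false

namespace Groth.Agent.Lib.JacRankH1

open MvPolynomial IsLocalRing

universe u

section General

variable (k : Type*) [Field k] (A : Type*) [CommRing A] [IsLocalRing A] [Algebra k A]

theorem residue_smul_cot (y : A) (w : CotangentSpace A) : (residue A y) • w = y • w := by
  have h : residue A y = y • (1 : ResidueField A) := by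
    rw [Algebra.smul_def, mul_one]
    rfl
  rw [h, smul_assoc, one_smul]

theorem isScalarTower_cot : IsScalarTower k (ResidueField A) (CotangentSpace A) := by
  refine ⟨fun c x v => ?_⟩
  obtain ⟨x, rfl⟩ := residue_surjective x
  have h2 : c • residue A x = residue A (c • x) := by
    rw [Algebra.smul_def, Algebra.smul_def, map_mul,
      IsScalarTower.algebraMap_apply k A (ResidueField A)]
    rfl
  rw [h2, residue_smul_cot, residue_smul_cot, smul_assoc]

theorem finrank_cot_add (n : ℕ) (τ : Fin n → A)
    (hτ : maximalIdeal A = Ideal.span (Set.range τ))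
    (hrat : ∀ x : A, ∃ c : k, x - algebraMap k A c ∈ maximalIdeal A)
    (W : Submodule k (Fin n → k))
    (hW : ∀ c : Fin n → k,
      (∑ j, algebraMap k A (c j) * τ j ∈ maximalIdeal A ^ 2) ↔ c ∈ W) :
    Module.finrank (ResidueField A) (CotangentSpace A) + Module.finrank k W = n := by
  classical
  haveI := isScalarTower_cot k A
  have hτm : ∀ j, τ j ∈ maximalIdeal A := fun j => hτ ▸ Ideal.subset_span ⟨j, rfl⟩
  have hsm : ∀ c : Fin n → k, ∑ j, algebraMap k A (c j) * τ j ∈ maximalIdeal A :=
    fun c => sum_mem fun j _ => Ideal.mul_mem_left _ _ (hτm j)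
  let e : Fin n → CotangentSpace A := fun j => (maximalIdeal A).toCotangent ⟨τ j, hτm j⟩
  let Φ : (Fin n → k) →ₗ[k] CotangentSpace A := Fintype.linearCombination k e
  have hΦ : ∀ c, Φ c =
      (maximalIdeal A).toCotangent ⟨∑ j, algebraMap k A (c j) * τ j, hsm c⟩ := by
    intro c
    show Fintype.linearCombination k e c = _
    rw [Fintype.linearCombination_apply]
    have h1 : (⟨∑ j, algebraMap k A (c j) * τ j, hsm c⟩ : maximalIdeal A) =
        ∑ j, (algebraMap k A (c j)) • (⟨τ j, hτm j⟩ : maximalIdeal A) := by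
      apply Subtype.ext
      rw [Submodule.coe_sum]
      rfl
    rw [h1, map_sum]
    refine Finset.sum_congr rfl (fun j _ => ?_)
    rw [map_smul, algebraMap_smul]
  have hker : LinearMap.ker Φ = W := by
    ext c
    rw [LinearMap.mem_ker, hΦ, Ideal.toCotangent_eq_zero]
    exact hW c
  have hsurj : Function.Surjective Φ := by
    intro v
    obtain ⟨⟨y, hy⟩, rfl⟩ := (maximalIdeal A).toCotangent_surjective v
    have hy' : y ∈ Ideal.span (Set.range τ) := hτ ▸ hy
    obtain ⟨x, hx⟩ := (Ideal.mem_span_range_iff_exists_fun).mp hy'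
    choose c hc using fun j => hrat (x j)
    refine ⟨c, ?_⟩
    rw [hΦ, Ideal.toCotangent_eq]
    show ∑ j, algebraMap k A (c j) * τ j - y ∈ maximalIdeal A ^ 2
    rw [← hx, ← Finset.sum_sub_distrib]
    refine sum_mem fun j _ => ?_
    rw [← sub_mul, sq]
    refine Ideal.mul_mem_mul ?_ (hτm j)
    rw [← neg_sub]
    exact neg_mem (hc j)
  have h1 := LinearMap.finrank_range_add_finrank_ker Φ
  rw [LinearMap.range_eq_top.mpr hsurj, finrank_top, hker, Module.finrank_fin_fun] at h1
  have h2 : Module.finrank k (ResidueField A) = 1 := by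
    apply Module.finrank_of_bijective_algebraMap
    refine ⟨(algebraMap k (ResidueField A)).injective, fun x => ?_⟩
    obtain ⟨x, rfl⟩ := residue_surjective x
    obtain ⟨c, hc⟩ := hrat x
    refine ⟨c, ?_⟩
    rw [IsScalarTower.algebraMap_apply k A (ResidueField A)]
    symm
    exact (Ideal.Quotient.eq).mpr hc
  have h3 := Module.finrank_mul_finrank k (ResidueField A) (CotangentSpace A)
  rw [h2, one_mul] at h3
  rw [h3]
  exact h1

end General

section Poly

variable {k : Type u} [Field k] {n : ℕ} (a : Fin n → k)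

/-- `t_j = X_j - a_j`. -/
noncomputable def tt (j : Fin n) : MvPolynomial (Fin n) k := X j - C (a j)

/-- The ideal generated by the `t_j`. -/
noncomputable def TT : Ideal (MvPolynomial (Fin n) k) := Ideal.span (Set.range (tt a))

/-- The gradient at `a`. -/
noncomputable def grad : MvPolynomial (Fin n) k →ₗ[k] (Fin n → k) where
  toFun g := fun j => eval a (pderiv j g)
  map_add' g h := by
    funext j
    simp
  map_smul' c g := by
    funext j
    simp [smul_eq_mul]

theorem grad_apply (g : MvPolynomial (Fin n) k) (j : Fin n) :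
    grad a g j = eval a (pderiv j g) := rfl

theorem tt_mem_TT (j : Fin n) : tt a j ∈ TT a := Ideal.subset_span ⟨j, rfl⟩

theorem pderiv_X_ite (j i : Fin n) :
    pderiv j (X i : MvPolynomial (Fin n) k) = if j = i then 1 else 0 := by
  classical
  rw [pderiv_X, Pi.single_apply]
  by_cases h : j = i
  · rw [if_pos h.symm, if_pos h]
  · rw [if_neg (Ne.symm h), if_neg h]

theorem taylor (g : MvPolynomial (Fin n) k) :
    ∃ q ∈ (TT a) ^ 2, g = C (eval a g) + ∑ j, C (eval a (pderiv j g)) * tt a j + q := by
  classical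
  induction g using MvPolynomial.induction_on with
  | C c => exact ⟨0, zero_mem _, by simp⟩
  | add p q hp hq =>
    obtain ⟨q1, hq1, e1⟩ := hp
    obtain ⟨q2, hq2, e2⟩ := hq
    refine ⟨q1 + q2, add_mem hq1 hq2, ?_⟩
    simp only [map_add, add_mul, Finset.sum_add_distrib]
    linear_combination e1 + e2
  | mul_X p i hp =>
    obtain ⟨q, hq, e⟩ := hp
    have hpT : p - C (eval a p) ∈ TT a := by
      have h0 : p - C (eval a p) = ∑ j, C (eval a (pderiv j p)) * tt a j + q := by
        linear_combination e
      rw [h0]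
      exact add_mem (sum_mem fun j _ => Ideal.mul_mem_left _ _ (tt_mem_TT a j))
        (Ideal.pow_le_self two_ne_zero hq)
    refine ⟨(p - C (eval a p)) * tt a i + C (a i) * q, ?_, ?_⟩
    · refine add_mem ?_ (Ideal.mul_mem_left _ _ hq)
      rw [sq]
      exact Ideal.mul_mem_mul hpT (tt_mem_TT a i)
    · have hd : ∀ j, eval a (pderiv j (p * X i)) =
          eval a p * (if j = i then 1 else 0) + a i * eval a (pderiv j p) := by
        intro j
        rw [Derivation.leibniz, pderiv_X_ite]
        split_ifs <;> simp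
      have hsum : ∑ j, C (eval a (pderiv j (p * X i))) * tt a j =
          C (eval a p) * tt a i + C (a i) * ∑ j, C (eval a (pderiv j p)) * tt a j := by
        simp only [hd, map_add, map_mul, add_mul, Finset.sum_add_distrib, Finset.mul_sum]
        congr 1
        · rw [Finset.sum_eq_single i]
          · simp
          · intro j _ hj
            simp [hj]
          · intro h
            exact absurd (Finset.mem_univ i) h
        · exact Finset.sum_congr rfl (fun j _ => by ring)
      rw [hsum, map_mul, eval_X, map_mul]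
      unfold tt at e ⊢
      linear_combination (C (a i)) * e

theorem tt_mem_ker (j : Fin n) : tt a j ∈ RingHom.ker (eval a) := by
  simp [tt, RingHom.mem_ker]

theorem ker_eq_TT : RingHom.ker (eval a) = TT a := by
  apply le_antisymm
  · intro g hg
    obtain ⟨q, hq, e⟩ := taylor a g
    rw [RingHom.mem_ker] at hg
    rw [e, hg, map_zero, zero_add]
    exact add_mem (sum_mem fun j _ => Ideal.mul_mem_left _ _ (tt_mem_TT a j))
      (Ideal.pow_le_self two_ne_zero hq)
  · exact Ideal.span_le.mpr (by
      rintro _ ⟨j, rfl⟩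
      exact tt_mem_ker a j)

theorem grad_tt (j : Fin n) : grad a (tt a j) = Pi.single j 1 := by
  classical
  funext l
  show eval a (pderiv l (X j - C (a j))) = _
  rw [map_sub, pderiv_C, sub_zero, pderiv_X_ite, Pi.single_apply]
  by_cases h : l = j
  · rw [if_pos h, if_pos h, map_one]
  · rw [if_neg h, if_neg h, map_zero]

theorem grad_mul (g h : MvPolynomial (Fin n) k) :
    grad a (g * h) = eval a g • grad a h + eval a h • grad a g := by
  funext l
  show eval a (pderiv l (g * h)) = eval a g * eval a (pderiv l h) + eval a h * eval a (pderiv l g)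
  rw [Derivation.leibniz]
  simp [smul_eq_mul]

theorem grad_sq_eq_zero {q : MvPolynomial (Fin n) k} (hq : q ∈ (RingHom.ker (eval a)) ^ 2) :
    grad a q = 0 := by
  rw [sq] at hq
  refine Submodule.smul_induction_on hq ?_ ?_
  · intro x hx y hy
    rw [smul_eq_mul, grad_mul, RingHom.mem_ker.mp hx, RingHom.mem_ker.mp hy, zero_smul,
      zero_smul, add_zero]
  · intro x y hx hy
    rw [map_add, hx, hy, add_zero]

/-- `c ↦ Σ c_j t_j`. -/
noncomputable def sL : (Fin n → k) →ₗ[k] MvPolynomial (Fin n) k :=
  Fintype.linearCombination k (tt a)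

theorem sL_apply (c : Fin n → k) : sL a c = ∑ j, c j • tt a j :=
  Fintype.linearCombination_apply k (tt a) c

theorem grad_sL (c : Fin n → k) : grad a (sL a c) = c := by
  classical
  rw [sL_apply, map_sum]
  simp_rw [map_smul, grad_tt]
  funext l
  simp [Finset.sum_apply, Pi.single_apply]

end Poly

section Main

variable (k : Type u) [Field k] (n r : ℕ) (F : Fin r → MvPolynomial (Fin n) k) (a : Fin n → k)
  (𝔪 : Ideal (MvPolynomial (Fin n) k ⧸ Ideal.span (Set.range F))) [𝔪.IsMaximal]

theorem main11563
    (h𝔪 : 𝔪.comap (Ideal.Quotient.mk (Ideal.span (Set.range F))) =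
      RingHom.ker (MvPolynomial.eval a)) :
    Module.finrank (IsLocalRing.ResidueField (Localization.AtPrime 𝔪))
        (IsLocalRing.CotangentSpace (Localization.AtPrime 𝔪)) +
      (Matrix.of fun i j => MvPolynomial.eval a (MvPolynomial.pderiv j (F i))).rank = n := by
  classical
  have hmk : Function.Surjective (Ideal.Quotient.mk (Ideal.span (Set.range F))) :=
    Ideal.Quotient.mk_surjective
  -- the composite `P → B → A` as a `k`-algebra map
  let π : MvPolynomial (Fin n) k →ₐ[k] Localization.AtPrime 𝔪 :=
    (IsScalarTower.toAlgHom k (MvPolynomial (Fin n) k ⧸ Ideal.span (Set.range F))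
      (Localization.AtPrime 𝔪)).comp (Ideal.Quotient.mkₐ k (Ideal.span (Set.range F)))
  have hπ : ∀ g, π g = algebraMap (MvPolynomial (Fin n) k ⧸ Ideal.span (Set.range F))
      (Localization.AtPrime 𝔪) (Ideal.Quotient.mk (Ideal.span (Set.range F)) g) := fun g => rfl
  have hIM : Ideal.span (Set.range F) ≤ RingHom.ker (eval a) := by
    rw [← h𝔪]
    intro g hg
    rw [Ideal.mem_comap, Ideal.Quotient.eq_zero_iff_mem.mpr hg]
    exact zero_mem _
  have hFa : ∀ i, eval a (F i) = 0 :=
    fun i => RingHom.mem_ker.mp (hIM (Ideal.subset_span ⟨i, rfl⟩))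
  have h𝔪map : 𝔪 = Ideal.map (Ideal.Quotient.mk (Ideal.span (Set.range F)))
      (RingHom.ker (eval a)) := by
    rw [← h𝔪, Ideal.map_comap_of_surjective _ hmk]
  -- (g1)
  have hmm : Ideal.map (algebraMap (MvPolynomial (Fin n) k ⧸ Ideal.span (Set.range F))
      (Localization.AtPrime 𝔪)) 𝔪 = Ideal.span (Set.range fun j => π (tt a j)) := by
    have h0 := congrArg (Ideal.map (algebraMap (MvPolynomial (Fin n) k ⧸ Ideal.span (Set.range F))
      (Localization.AtPrime 𝔪))) h𝔪map
    rw [h0, ker_eq_TT, TT, Ideal.map_span, Ideal.map_span, ← Set.range_comp, ← Set.range_comp]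
    rfl
  have hg1 : maximalIdeal (Localization.AtPrime 𝔪) =
      Ideal.span (Set.range fun j => π (tt a j)) :=
    (IsLocalization.AtPrime.map_eq_maximalIdeal 𝔪 (Localization.AtPrime 𝔪)).symm.trans hmm
  -- (g2)
  have hg2 : ∀ x : Localization.AtPrime 𝔪,
      ∃ c : k, x - algebraMap k (Localization.AtPrime 𝔪) c ∈
        maximalIdeal (Localization.AtPrime 𝔪) := by
    intro x
    obtain ⟨qb, hqb⟩ := (IsLocalization.AtPrime.equivQuotMaximalIdeal 𝔪
      (Localization.AtPrime 𝔪)).surjective (Ideal.Quotient.mk _ x)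
    obtain ⟨b, rfl⟩ := Ideal.Quotient.mk_surjective qb
    obtain ⟨g, rfl⟩ := hmk b
    rw [IsLocalization.AtPrime.equivQuotMaximalIdeal_apply_mk] at hqb
    have h1 : π g - x ∈ maximalIdeal (Localization.AtPrime 𝔪) := (Ideal.Quotient.eq).mp hqb
    refine ⟨eval a g, ?_⟩
    have h2 : g - C (eval a g) ∈ RingHom.ker (eval a) := by
      rw [RingHom.mem_ker, map_sub, eval_C, sub_self]
    have h3 : π (g - C (eval a g)) ∈ maximalIdeal (Localization.AtPrime 𝔪) := by
      have h30 : Ideal.Quotient.mk (Ideal.span (Set.range F)) (g - C (eval a g)) ∈ 𝔪 := by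
        rw [← Ideal.mem_comap, h𝔪]
        exact h2
      have h31 := Ideal.mem_map_of_mem (algebraMap (MvPolynomial (Fin n) k ⧸ Ideal.span (Set.range F))
        (Localization.AtPrime 𝔪)) h30
      rw [IsLocalization.AtPrime.map_eq_maximalIdeal 𝔪 (Localization.AtPrime 𝔪)] at h31
      exact h31
    have h4 : π (C (eval a g)) = algebraMap k (Localization.AtPrime 𝔪) (eval a g) := by
      rw [← MvPolynomial.algebraMap_eq, AlgHom.commutes]
    rw [map_sub, h4] at h3
    exact (Ideal.Quotient.eq).mp (hqb.symm.trans ((Ideal.Quotient.eq).mpr h3))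
  -- (g3)
  let W : Submodule k (Fin n → k) := Submodule.span k (Set.range fun i => grad a (F i))
  have key1 : ∀ g : MvPolynomial (Fin n) k,
      π g ∈ maximalIdeal (Localization.AtPrime 𝔪) ^ 2 ↔
        g ∈ (RingHom.ker (eval a)) ^ 2 ⊔ Ideal.span (Set.range F) := by
    intro g
    have h1 : Ideal.comap (algebraMap (MvPolynomial (Fin n) k ⧸ Ideal.span (Set.range F))
        (Localization.AtPrime 𝔪)) (maximalIdeal (Localization.AtPrime 𝔪) ^ 2) = 𝔪 ^ 2 :=
      IsLocalization.AtPrime.under_maximalIdeal_pow 𝔪 (Localization.AtPrime 𝔪) 2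
    rw [hπ, ← Ideal.mem_comap, h1, h𝔪map, ← Ideal.map_pow, ← Ideal.mem_comap,
      Ideal.comap_map_of_surjective' _ hmk, Ideal.mk_ker]
  have gradI : ∀ g ∈ Ideal.span (Set.range F), grad a g ∈ W := by
    intro g hg
    obtain ⟨h, rfl⟩ := (Ideal.mem_span_range_iff_exists_fun).mp hg
    rw [map_sum]
    refine sum_mem fun i _ => ?_
    rw [grad_mul, hFa i, zero_smul, add_zero]
    exact W.smul_mem _ (Submodule.subset_span ⟨i, rfl⟩)
  have hrow : ∀ i, sL a (grad a (F i)) ∈
      (RingHom.ker (eval a)) ^ 2 ⊔ Ideal.span (Set.range F) := by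
    intro i
    obtain ⟨q, hq, e⟩ := taylor a (F i)
    rw [hFa i, map_zero, zero_add] at e
    have hsL : sL a (grad a (F i)) = ∑ j, C (eval a (pderiv j (F i))) * tt a j := by
      rw [sL_apply]
      exact Finset.sum_congr rfl (fun j _ => MvPolynomial.smul_eq_C_mul _ _)
    have h0 : sL a (grad a (F i)) = F i - q := by
      rw [hsL]
      exact eq_sub_of_add_eq e.symm
    rw [h0]
    refine Submodule.sub_mem _ (Submodule.mem_sup_right (Ideal.subset_span ⟨i, rfl⟩))
      (Submodule.mem_sup_left ?_)
    rw [ker_eq_TT]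
    exact hq
  have hπs : ∀ c : Fin n → k,
      ∑ j, algebraMap k (Localization.AtPrime 𝔪) (c j) * π (tt a j) = π (sL a c) := by
    intro c
    rw [sL_apply, map_sum]
    refine Finset.sum_congr rfl (fun j _ => ?_)
    rw [map_smul, Algebra.smul_def]
  have hg3 : ∀ c : Fin n → k,
      (∑ j, algebraMap k (Localization.AtPrime 𝔪) (c j) * π (tt a j) ∈
        maximalIdeal (Localization.AtPrime 𝔪) ^ 2) ↔ c ∈ W := by
    intro c
    rw [hπs, key1]
    constructor
    · intro hmem
      obtain ⟨q, hq, g, hg, hqg⟩ := Submodule.mem_sup.mp hmem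
      have h1 := congrArg (grad a) hqg
      rw [map_add, grad_sq_eq_zero a hq, zero_add, grad_sL] at h1
      rw [← h1]
      exact gradI g hg
    · intro hc
      have hle : W ≤ Submodule.comap (sL a)
          (((RingHom.ker (eval a)) ^ 2 ⊔ Ideal.span (Set.range F)).restrictScalars k) :=
        Submodule.span_le.mpr (by
          rintro _ ⟨i, rfl⟩
          exact hrow i)
      exact hle hc
  have hfin := finrank_cot_add k (Localization.AtPrime 𝔪) n (fun j => π (tt a j)) hg1 hg2 W hg3
  rw [Matrix.rank_eq_finrank_span_row]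
  exact hfin

theorem main11554
    (h𝔪 : 𝔪.comap (Ideal.Quotient.mk (Ideal.span (Set.range F))) =
      RingHom.ker (MvPolynomial.eval a)) :
    IsRegularLocalRing (Localization.AtPrime 𝔪) ↔
      ((Matrix.of fun i j => MvPolynomial.eval a (MvPolynomial.pderiv j (F i))).rank :
          WithBot ℕ∞) +
        ringKrullDim (Localization.AtPrime 𝔪) = n := by
  have h1 := main11563 k n r F a 𝔪 h𝔪
  rw [IsRegularLocalRing.iff_finrank_cotangentSpace]
  generalize (Matrix.of fun i j => MvPolynomial.eval a (MvPolynomial.pderiv j (F i))).rank = ρ at h1 ⊢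
  generalize Module.finrank (IsLocalRing.ResidueField (Localization.AtPrime 𝔪))
        (IsLocalRing.CotangentSpace (Localization.AtPrime 𝔪)) = φ at h1 ⊢
  generalize ringKrullDim (Localization.AtPrime 𝔪) = d
  constructor
  · intro h
    rw [← h, ← h1]
    push_cast
    rw [add_comm]
  · intro h
    induction d using WithBot.recBotCoe with
    | bot =>
      rw [WithBot.add_bot] at h
      exact absurd h.symm (WithBot.coe_ne_bot)
    | coe d =>
      induction d using ENat.recTopCoe with
      | top =>
        exfalso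
        have : ((ρ : ℕ∞) + ⊤ : ℕ∞) = (n : ℕ∞) := by exact_mod_cast h
        simp at this
      | coe d =>
        have : ρ + d = n := by exact_mod_cast h
        have : φ = d := by omega
        rw [this]
        rfl

end Main

end Groth.Agent.Lib.JacRankH1
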