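import Groth.Agent.Lib.JacSp_helper8

namespace Groth.Agent.JacCrit

universe u

/-- In a Noetherian ring, every nonempty locally closed subset of the spectrum contains a point
`q` with `{q}` locally closed. -/
theorem exists_isLocallyClosed_singleton {R : Type*} [CommRing R] [IsNoetherianRing R]
    (Z : Set (PrimeSpectrum R)) (hne : Z.Nonempty) (hZ : IsLocallyClosed Z) :
    ∃ q ∈ Z, IsLocallyClosed ({q} : Set (PrimeSpectrum R)) := by
  let S : Set (Ideal R) := PrimeSpectrum.asIdeal '' Z
  have hSne : S.Nonempty := hne.image _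
  obtain ⟨_, ⟨q, hqZ, rfl⟩, hqmax⟩ := WellFounded.has_min (wellFounded_gt (α := Ideal R)) S hSne
  refine ⟨q, hqZ, ?_⟩
  have : ({q} : Set (PrimeSpectrum R)) = closure {q} ∩ Z := by
    ext y
    simp only [Set.mem_singleton_iff, Set.mem_inter_iff]
    constructor
    · rintro rfl
      exact ⟨subset_closure rfl, hqZ⟩
    · rintro ⟨hy, hyZ⟩
      rw [PrimeSpectrum.closure_singleton] at hy
      have hle : q.asIdeal ≤ y.asIdeal := hy
      by_contra hne'
      have hlt : q.asIdeal < y.asIdeal := by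
        refine lt_of_le_of_ne hle ?_
        intro h
        exact hne' (PrimeSpectrum.ext h.symm)
      exact hqmax _ ⟨y, hyZ, rfl⟩ hlt
  rw [this]
  exact isClosed_closure.isLocallyClosed.inter hZ

/-- In a Noetherian ring, if `{a}` is locally closed in the spectrum, every prime strictly above
`a` is maximal. -/
theorem isMaximal_of_lt_of_isLocallyClosed_singleton {R : Type*} [CommRing R] [IsNoetherianRing R]
    (a : PrimeSpectrum R) (ha : IsLocallyClosed ({a} : Set (PrimeSpectrum R)))
    (b : Ideal R) (hb : b.IsPrime) (hlt : a.asIdeal < b) : b.IsMaximal := by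
  obtain ⟨O, C, hO, hC, hOC⟩ := ha
  have haO : a ∈ O := by
    have : a ∈ O ∩ C := hOC ▸ rfl
    exact this.1
  have haC : a ∈ C := by
    have : a ∈ O ∩ C := hOC ▸ rfl
    exact this.2
  obtain ⟨_, ⟨_, ⟨g, rfl⟩, rfl⟩, hag, hgO⟩ :=
    PrimeSpectrum.isBasis_basic_opens.exists_subset_of_mem_open haO hO
  haveI := a.2
  refine isMaximal_of_lt_of_maximal_avoiding a.asIdeal g hag ?_ b hb hlt
  intro q' hq' hlt'
  by_contra hgq'
  have h1 : (⟨q', hq'⟩ : PrimeSpectrum R) ∈ O := hgO hgq'
  have h2 : (⟨q', hq'⟩ : PrimeSpectrum R) ∈ C := by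
    have : (⟨q', hq'⟩ : PrimeSpectrum R) ∈ closure {a} := by
      rw [PrimeSpectrum.closure_singleton]
      exact hlt'.le
    exact (hC.closure_subset_iff.mpr (Set.singleton_subset_iff.mpr haC)) this
  have h3 : (⟨q', hq'⟩ : PrimeSpectrum R) ∈ ({a} : Set (PrimeSpectrum R)) := by
    rw [hOC]; exact ⟨h1, h2⟩
  rw [Set.mem_singleton_iff] at h3
  have : q' = a.asIdeal := congrArg PrimeSpectrum.asIdeal h3
  exact absurd hlt' (by rw [this]; exact lt_irrefl _)

/-- A space locally homeomorphic to spectra of Noetherian rings: if `Y` is closed and meets every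
nonempty closed subset, its complement is a Jacobson space. -/
theorem jacobsonSpace_compl_of_charts {X : Type u} [TopologicalSpace X]
    (hch : ∀ x : X, ∃ (R : Type u) (_ : CommRing R) (_ : IsNoetherianRing R)
      (φ : PrimeSpectrum R → X), Topology.IsOpenEmbedding φ ∧ x ∈ Set.range φ)
    (Y : Set X) (hY : IsClosed Y)
    (hmeet : ∀ Z : Set X, IsClosed Z → Z.Nonempty → (Z ∩ Y).Nonempty) :
    JacobsonSpace ↥(Yᶜ) := by
  rw [jacobsonSpace_iff_locallyClosed]
  intro Z hZne hZlc
  obtain ⟨z, hz⟩ := hZne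
  have hval : Topology.IsOpenEmbedding (Subtype.val : ↥(Yᶜ) → X) :=
    hY.isOpen_compl.isOpenEmbedding_subtypeVal
  have hZ' : IsLocallyClosed (Subtype.val '' Z) :=
    hZlc.image hval.isInducing hval.isOpen_range.isLocallyClosed
  obtain ⟨R, _, _, φ, hφ, z0, hz0⟩ := hch z.1
  have hZ'' : IsLocallyClosed (φ ⁻¹' (Subtype.val '' Z)) := hZ'.preimage hφ.continuous
  have hne'' : (φ ⁻¹' (Subtype.val '' Z)).Nonempty := ⟨z0, by rw [Set.mem_preimage, hz0]; exact ⟨z, hz, rfl⟩⟩
  obtain ⟨q, hqZ, hqlc⟩ := exists_isLocallyClosed_singleton _ hne'' hZ''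
  obtain ⟨x', hx'Z, hx'⟩ := hqZ
  have hxlc : IsLocallyClosed ({φ q} : Set X) := by
    have := hqlc.image hφ.isInducing hφ.isOpen_range.isLocallyClosed
    rwa [Set.image_singleton] at this
  refine ⟨x', hx'Z, ?_⟩
  rw [mem_closedPoints_iff, isClosed_induced_iff]
  refine ⟨closure {φ q}, isClosed_closure, ?_⟩
  ext y
  simp only [Set.mem_preimage, Set.mem_singleton_iff]
  constructor
  swap
  · rintro rfl
    rw [hx']
    exact subset_closure rfl
  intro hy
  by_contra hne
  have hne1 : y.1 ≠ φ q := by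
    intro h
    apply hne
    apply Subtype.ext
    rw [h, hx']
  -- t = y.1 is closed in X
  have htcl : IsClosed ({y.1} : Set X) := by
    rw [← closure_subset_iff_isClosed]
    intro t' ht'
    rw [Set.mem_singleton_iff]
    obtain ⟨R', _, _, ψ, hψ, c, hc⟩ := hch t'
    have h1 : y.1 ∈ Set.range ψ := by
      obtain ⟨w, hw1, hw2⟩ := mem_closure_iff.mp ht' _ hψ.isOpen_range ⟨c, hc⟩
      rw [Set.mem_singleton_iff] at hw2
      exact hw2 ▸ hw1
    have h2 : φ q ∈ Set.range ψ := by
      obtain ⟨w, hw1, hw2⟩ := mem_closure_iff.mp hy _ hψ.isOpen_range h1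
      rw [Set.mem_singleton_iff] at hw2
      exact hw2 ▸ hw1
    obtain ⟨b, hb⟩ := h1
    obtain ⟨a, ha⟩ := h2
    have hab : a ⤳ b := by
      rw [← hψ.isInducing.specializes_iff, ha, hb, specializes_iff_mem_closure]
      exact hy
    have hbc : b ⤳ c := by
      rw [← hψ.isInducing.specializes_iff, hb, hc, specializes_iff_mem_closure]
      exact ht'
    rw [← PrimeSpectrum.le_iff_specializes] at hab hbc
    have hne2 : a ≠ b := by
      rintro rfl
      exact hne1 (hb.symm.trans ha)
    have halc : IsLocallyClosed ({a} : Set (PrimeSpectrum R')) := by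
      have := hxlc.preimage hψ.continuous
      rwa [← ha, ← Set.image_singleton, Set.preimage_image_eq _ hψ.injective] at this
    have hlt : a.asIdeal < b.asIdeal := by
      refine lt_of_le_of_ne hab ?_
      intro h
      exact hne2 (PrimeSpectrum.ext h)
    have hbmax := isMaximal_of_lt_of_isLocallyClosed_singleton a halc b.asIdeal b.2 hlt
    have hbc' : b = c := PrimeSpectrum.ext (hbmax.eq_of_le c.2.ne_top hbc)
    rw [← hc, ← hbc', hb]
  obtain ⟨w, hw1, hw2⟩ := hmeet _ htcl (Set.singleton_nonempty _)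
  rw [Set.mem_singleton_iff] at hw1
  exact y.2 (hw1 ▸ hw2)

end Groth.Agent.JacCrit
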