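import Groth.Agent.Lib.JacCrit_helper8

namespace Groth.Agent.JacCrit

universe u

/-- In a Noetherian ring, if `q` is a prime maximal among primes avoiding `g`, every prime strictly
above `q` is a maximal ideal. -/
theorem isMaximal_of_lt_of_maximal_avoiding {R : Type*} [CommRing R] [IsNoetherianRing R]
    (q : Ideal R) [hq : q.IsPrime] (g : R) (hgq : g ∉ q)
    (hmax : ∀ q' : Ideal R, q'.IsPrime → q < q' → g ∈ q')
    (q' : Ideal R) (hq' : q'.IsPrime) (hlt : q < q') : q'.IsMaximal := by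
  have hmk : Function.Surjective (Ideal.Quotient.mk q) := Ideal.Quotient.mk_surjective
  have hker : RingHom.ker (Ideal.Quotient.mk q) = q := Ideal.mk_ker
  have hg0 : Ideal.Quotient.mk q g ≠ 0 := by
    rwa [Ne, Ideal.Quotient.eq_zero_iff_mem]
  have hgmem : ∀ Q : Ideal (R ⧸ q), Q.IsPrime → Q ≠ ⊥ → Ideal.Quotient.mk q g ∈ Q := by
    intro Q hQ hQ0
    have hqc : (Q.comap (Ideal.Quotient.mk q)).IsPrime := Ideal.IsPrime.comap _
    have hle : q ≤ Q.comap (Ideal.Quotient.mk q) := by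
      intro x hx
      rw [Ideal.mem_comap, Ideal.Quotient.eq_zero_iff_mem.mpr hx]
      exact zero_mem _
    have hne : q ≠ Q.comap (Ideal.Quotient.mk q) := by
      intro heq
      apply hQ0
      have h1 : Q.comap (Ideal.Quotient.mk q) = (⊥ : Ideal (R ⧸ q)).comap (Ideal.Quotient.mk q) := by
        rw [← heq, ← RingHom.ker_eq_comap_bot, Ideal.mk_ker]
      exact Ideal.comap_injective_of_surjective _ hmk h1
    exact hmax _ hqc (lt_of_le_of_ne hle hne)
  -- the image of q'
  have hcm : (q'.map (Ideal.Quotient.mk q)).comap (Ideal.Quotient.mk q) = q' := by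
    rw [Ideal.comap_map_of_surjective _ hmk, ← RingHom.ker_eq_comap_bot, hker]
    exact sup_eq_left.mpr hlt.le
  have hQprime : (q'.map (Ideal.Quotient.mk q)).IsPrime :=
    Ideal.map_isPrime_of_surjective hmk (by rw [hker]; exact hlt.le)
  have hQ0 : q'.map (Ideal.Quotient.mk q) ≠ ⊥ := by
    intro h
    rw [Ideal.map_eq_bot_iff_le_ker, hker] at h
    exact absurd hlt (not_lt_of_ge h)
  have hgu : ¬ IsUnit (Ideal.Quotient.mk q g) := by
    intro hu
    exact hQprime.ne_top (Ideal.eq_top_of_isUnit_mem _ (hgmem _ hQprime hQ0) hu)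
  obtain ⟨M, hM, hQM⟩ := Ideal.exists_le_maximal _ hQprime.ne_top
  have hM1 := (maximal_mem_minimalPrimes _ hg0 hgu hgmem M hM).2
  have hMprime := hM.isPrime
  have hEq : q'.map (Ideal.Quotient.mk q) = M := by
    by_contra hne
    have hlt' : q'.map (Ideal.Quotient.mk q) < M := lt_of_le_of_ne hQM hne
    have := Ideal.height_add_one_le_of_lt_of_isPrime hlt'
    rw [hM1] at this
    have hq0 : (q'.map (Ideal.Quotient.mk q)).height = 0 := by
      have hne' : (q'.map (Ideal.Quotient.mk q)).height ≠ ⊤ := Ideal.height_ne_top hQprime.ne_top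
      have hlt'' : (q'.map (Ideal.Quotient.mk q)).height < 1 := (ENat.add_one_le_iff hne').mp this
      exact Order.lt_one_iff.mp hlt''
    rw [Ideal.height_eq_zero_iff_eq_bot] at hq0
    exact hQ0 hq0
  rw [← hcm, hEq]
  exact Ideal.comap_isMaximal_of_surjective _ hmk

/-- For a Noetherian ring `R` and `I` inside the Jacobson radical, `Spec R ∖ V(I)` is Jacobson. -/
theorem jacobsonSpace_compl_zeroLocus (R : Type u) [CommRing R] [IsNoetherianRing R]
    (I : Ideal R) (hI : I ≤ (⊥ : Ideal R).jacobson) :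
    JacobsonSpace ↥((PrimeSpectrum.zeroLocus (I : Set R))ᶜ) := by
  rw [jacobsonSpace_iff_locallyClosed]
  intro Z hZne hZlc
  obtain ⟨z, hz⟩ := hZne
  obtain ⟨O, C, hO, hC, rfl⟩ := hZlc
  obtain ⟨O', hO', rfl⟩ := isOpen_induced_iff.mp hO
  obtain ⟨C', hC', rfl⟩ := isClosed_induced_iff.mp hC
  have hUo : IsOpen ((PrimeSpectrum.zeroLocus (I : Set R))ᶜ) :=
    (PrimeSpectrum.isClosed_zeroLocus _).isOpen_compl
  obtain ⟨_, ⟨_, ⟨g, rfl⟩, rfl⟩, hzg, hgU⟩ :=
    PrimeSpectrum.isBasis_basic_opens.exists_subset_of_mem_open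
      (show z.1 ∈ O' ∩ (PrimeSpectrum.zeroLocus (I : Set R))ᶜ from ⟨hz.1, z.2⟩) (hO'.inter hUo)
  -- choose q maximal
  let S : Set (Ideal R) := {q | q.IsPrime ∧ z.1.asIdeal ≤ q ∧ g ∉ q}
  have hSne : S.Nonempty := ⟨z.1.asIdeal, z.1.2, le_rfl, hzg⟩
  obtain ⟨q, hqS, hqmax⟩ := WellFounded.has_min (wellFounded_gt (α := Ideal R)) S hSne
  obtain ⟨hqprime, hzq, hgq⟩ := hqS
  have hqg : (⟨q, hqprime⟩ : PrimeSpectrum R) ∈ (PrimeSpectrum.basicOpen g : Set _) := hgq
  have hqU := (hgU hqg).2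
  have hqO := (hgU hqg).1
  have hqC : (⟨q, hqprime⟩ : PrimeSpectrum R) ∈ C' := by
    have : (⟨q, hqprime⟩ : PrimeSpectrum R) ∈ closure {z.1} := by
      rw [PrimeSpectrum.closure_singleton]
      exact hzq
    exact (hC'.closure_subset_iff.mpr (Set.singleton_subset_iff.mpr hz.2)) this
  refine ⟨⟨⟨q, hqprime⟩, hqU⟩, ⟨hqO, hqC⟩, ?_⟩
  rw [mem_closedPoints_iff, isClosed_induced_iff]
  refine ⟨PrimeSpectrum.zeroLocus (q : Set R), PrimeSpectrum.isClosed_zeroLocus _, ?_⟩
  ext y
  simp only [Set.mem_preimage, PrimeSpectrum.mem_zeroLocus, SetLike.coe_subset_coe,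
    Set.mem_singleton_iff]
  constructor
  · intro hle
    by_contra hne
    have hlt : q < y.1.asIdeal := by
      refine lt_of_le_of_ne hle ?_
      intro h
      apply hne
      apply Subtype.ext
      apply PrimeSpectrum.ext
      exact h.symm
    have hmaxy : y.1.asIdeal.IsMaximal := by
      refine isMaximal_of_lt_of_maximal_avoiding q g hgq ?_ _ y.1.2 hlt
      intro q' hq' hlt'
      by_contra hgq'
      exact hqmax q' ⟨hq', hzq.trans hlt'.le, hgq'⟩ hlt'
    apply y.2
    show (I : Set R) ⊆ y.1.asIdeal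
    intro x hx
    have := hI hx
    rw [Ideal.jacobson, Ideal.mem_sInf] at this
    exact this ⟨bot_le, hmaxy⟩
  · rintro rfl
    exact le_rfl

end Groth.Agent.JacCrit
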