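import Mathlib
import Groth.Agent.Lib.QFCover3_helper3

/-!
# Refining fppf coverings by quasi-finite ones (helper3)

`main9432`: a faithfully flat finitely presented `R`-algebra `S` admits an `R`-algebra map to a
quasi-finite, faithfully flat, finitely presented `R`-algebra.
-/

set_option autoImplicit false
universe u

namespace Groth.Agent.Lib.QFCoverH3

open TensorProduct

theorem quasiFinite_pi {R : Type u} [CommRing R] {ι : Type u} [Finite ι] (T : ι → Type u)
    [∀ i, CommRing (T i)] [∀ i, Algebra R (T i)] [∀ i, Algebra.QuasiFinite R (T i)] :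
    Algebra.QuasiFinite R (∀ i, T i) := by
  classical
  haveI := Fintype.ofFinite ι
  refine ⟨fun P _ => ?_⟩
  let e : P.ResidueField ⊗[R] (∀ i, T i) ≃ₐ[P.ResidueField] ∀ i, P.ResidueField ⊗[R] T i :=
    Algebra.TensorProduct.piRight R P.ResidueField P.ResidueField T
  haveI : ∀ i, Module.Finite P.ResidueField (P.ResidueField ⊗[R] T i) := fun i =>
    Algebra.QuasiFinite.finite_fiber P
  exact Module.Finite.equiv e.symm.toLinearEquiv

theorem main9432 (R : Type u) [CommRing R] (S : Type u) [CommRing S] [Algebra R S]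
    [Module.FaithfullyFlat R S] [Algebra.FinitePresentation R S] :
    ∃ (S' : Type u) (_ : CommRing S') (_ : Algebra R S'),
      Algebra.QuasiFinite R S' ∧ Algebra.FiniteType R S' ∧ Module.FaithfullyFlat R S' ∧
        Algebra.FinitePresentation R S' ∧ Nonempty (S →ₐ[R] S') := by
  classical
  have hloc : ∀ p : PrimeSpectrum R, ∃ (T : Type u) (_ : CommRing T) (_ : Algebra R T),
      Algebra.FinitePresentation R T ∧ Module.Flat R T ∧ Algebra.QuasiFinite R T ∧
      Nonempty (S →ₐ[R] T) ∧
      ∃ Q : Ideal T, Q.IsPrime ∧ Q.comap (algebraMap R T) = p.asIdeal := by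
    intro p
    haveI := p.isPrime
    refine exists_local_piece p.asIdeal ?_
    exact (Module.FaithfullyFlat.nontrivial_tensorProduct_iff_right R S).mpr inferInstance
  choose T hT1 hT2 hfp hfl hqf hmap Q hQ using hloc
  letI inst1 : ∀ p, CommRing (T p) := hT1
  letI inst2 : ∀ p, Algebra R (T p) := hT2
  haveI : ∀ p, Algebra.FinitePresentation R (T p) := hfp
  haveI : ∀ p, Module.Flat R (T p) := hfl
  haveI : ∀ p, Algebra.QuasiFinite R (T p) := hqf
  let U : PrimeSpectrum R → Set (PrimeSpectrum R) := fun p =>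
    Set.range (PrimeSpectrum.comap (algebraMap R (T p)))
  have hUopen : ∀ p, IsOpen (U p) := fun p =>
    (PrimeSpectrum.isOpenMap_comap_of_hasGoingDown_of_finitePresentation
      (R := R) (S := T p)).isOpen_range
  have hpU : ∀ p, p ∈ U p := fun p => ⟨⟨Q p, (hQ p).1⟩, PrimeSpectrum.ext (hQ p).2⟩
  have hcover : (Set.univ : Set (PrimeSpectrum R)) ⊆ ⋃ p, U p := fun p _ =>
    Set.mem_iUnion.mpr ⟨p, hpU p⟩
  obtain ⟨t, ht⟩ := isCompact_univ.elim_finite_subcover U hUopen hcover
  let T' : t → Type u := fun i => T i.1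
  refine ⟨∀ i : t, T' i, inferInstance, inferInstance, quasiFinite_pi T', inferInstance, ?_,
    inferInstance, ⟨Pi.algHom R T' fun i => (hmap i.1).some⟩⟩
  haveI : Module.Flat R (∀ i : t, T' i) :=
    Module.Flat.of_linearEquiv (DFinsupp.linearEquivFunOnFintype (R := R) (M := T')).symm
  refine Module.FaithfullyFlat.of_comap_surjective fun P => ?_
  have hP := ht (Set.mem_univ P)
  simp only [Set.mem_iUnion] at hP
  obtain ⟨i, hi, Q', hQ'⟩ := hP
  refine ⟨PrimeSpectrum.comap (Pi.evalRingHom T' ⟨i, hi⟩) Q', ?_⟩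
  rw [← hQ']
  rfl

end Groth.Agent.Lib.QFCoverH3
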