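import Mathlib
import Groth.Agent.S9432

/-!
# The Jacobson property descends along faithfully flat finitely presented maps (helper3)

* `exists_maximal_not_mem`: in a Jacobson ring a prime is the intersection of maximal ideals.
* `isMaximal_under_of_isMaximal`: for `A → B` quasi-finite, faithfully flat, finitely presented with
  `B` Jacobson, maximal ideals of `B` lie over maximal ideals of `A`.
* `isJacobsonRing_of_quasiFinite`, `main1147`.
-/

set_option autoImplicit false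
universe u

namespace Groth.Agent.Lib.JacobsonDescentH3

variable {A B : Type u} [CommRing A] [CommRing B] [Algebra A B]

theorem exists_maximal_not_mem [IsJacobsonRing B] (Q : Ideal B) [hQ : Q.IsPrime] (b : B)
    (hb : b ∉ Q) : ∃ n : Ideal B, n.IsMaximal ∧ Q ≤ n ∧ b ∉ n := by
  have hJ : Q.jacobson = Q := IsJacobsonRing.out' Q hQ.isRadical
  by_contra hcon
  push_neg at hcon
  apply hb
  rw [← hJ, Ideal.jacobson, Ideal.mem_sInf]
  intro n hn
  exact hcon n hn.2 hn.1

theorem isMaximal_under_of_isMaximal [Module.FaithfullyFlat A B] [Algebra.QuasiFinite A B]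
    [Algebra.FinitePresentation A B] [IsJacobsonRing B] (n : Ideal B) [hn : n.IsMaximal] :
    (n.under A).IsMaximal := by
  classical
  set q : Ideal A := n.under A with hq
  haveI hqp : q.IsPrime := Ideal.IsPrime.under A n
  have hFfin : (q.primesOver B).Finite := Algebra.QuasiFinite.finite_primesOver q
  -- members of the fibre are incomparable
  have hincomp : ∀ Q₁ Q₂ : Ideal B, Q₁ ∈ q.primesOver B → Q₂ ∈ q.primesOver B → Q₁ ≤ Q₂ →
      Q₁ = Q₂ := by
    intro Q₁ Q₂ h1 h2 hle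
    haveI := h1.1
    haveI := h2.1
    exact Algebra.QuasiFinite.eq_of_le_of_under_eq (R := A) Q₁ Q₂ hle
      (by rw [← h1.2.over, ← h2.2.over])
  have hnF : n ∈ q.primesOver B := ⟨hn.isPrime, ⟨rfl⟩⟩
  -- minimal primes over `qB` lie in the fibre
  have hminF : ∀ Q₀ ∈ (q.map (algebraMap A B)).minimalPrimes, Q₀ ∈ q.primesOver B := by
    intro Q₀ hQ₀
    haveI hQ₀p : Q₀.IsPrime := hQ₀.1.1
    have hle : q ≤ Q₀.under A := by
      rw [Ideal.under_def, ← Ideal.map_le_iff_le_comap]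
      exact hQ₀.1.2
    refine ⟨hQ₀p, ⟨?_⟩⟩
    by_contra hne
    have hlt : q < Q₀.under A := lt_of_le_of_ne hle hne
    obtain ⟨Q₁, hQ₁le, hQ₁p, hQ₁o⟩ :=
      Algebra.HasGoingDown.exists_ideal_le_liesOver_of_lt (R := A) (p := q) Q₀ hlt
    have h1 : q.map (algebraMap A B) ≤ Q₁ := by
      rw [Ideal.map_le_iff_le_comap, ← Ideal.under_def, ← hQ₁o.over]
    have h2 : Q₀ ≤ Q₁ := hQ₀.2 ⟨hQ₁p, h1⟩ hQ₁le
    have h3 : Q₀ = Q₁ := le_antisymm h2 hQ₁le
    apply hne
    rw [h3, ← hQ₁o.over]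
  -- an element cutting out `n` inside `V(qB)`
  set F' : Finset (Ideal B) := hFfin.toFinset.erase n with hF'
  have hchoose : ∀ Q : Ideal B, ∃ x : B, Q ∈ F' → (x ∈ Q ∧ x ∉ n) := by
    intro Q
    by_cases hQ : Q ∈ F'
    · have hQF : Q ∈ q.primesOver B := by
        have := Finset.mem_of_mem_erase hQ
        simpa using this
      have hQne : Q ≠ n := Finset.ne_of_mem_erase hQ
      have hnle : ¬ Q ≤ n := fun hle => hQne (hincomp Q n hQF hnF hle)
      obtain ⟨x, hxQ, hxn⟩ := Set.not_subset.mp hnle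
      exact ⟨x, fun _ => ⟨hxQ, hxn⟩⟩
    · exact ⟨0, fun h => absurd h hQ⟩
  choose c hc using hchoose
  set e : B := ∏ Q ∈ F', c Q with he
  have hen : e ∉ n := by
    rw [he, hn.isPrime.prod_mem_iff]
    rintro ⟨Q, hQ, hcn⟩
    exact (hc Q hQ).2 hcn
  have heQ : ∀ Q ∈ F', e ∈ Q := by
    intro Q hQ
    rw [he, ← Finset.mul_prod_erase F' c hQ]
    exact Q.mul_mem_right _ (hc Q hQ).1
  -- `V(qB) ∩ D(e) = {n}`
  have hsingle : ∀ Q' : Ideal B, Q'.IsPrime → q.map (algebraMap A B) ≤ Q' → e ∉ Q' → Q' = n := by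
    intro Q' hQ'p hle heQ'
    obtain ⟨Q₀, hQ₀min, hQ₀le⟩ := Ideal.exists_minimalPrimes_le hle
    have hQ₀F := hminF Q₀ hQ₀min
    have hQ₀n : Q₀ = n := by
      by_contra hne
      have : Q₀ ∈ F' := Finset.mem_erase.2 ⟨hne, by simpa using hQ₀F⟩
      exact heQ' (hQ₀le (heQ Q₀ this))
    rw [hQ₀n] at hQ₀le
    exact (hn.eq_of_le hQ'p.ne_top hQ₀le).symm
  -- openness of the image of `D(e)`
  have hopen : IsOpen ((PrimeSpectrum.comap (algebraMap A B)) ''
      (PrimeSpectrum.basicOpen e : Set (PrimeSpectrum B))) :=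
    PrimeSpectrum.isOpenMap_comap_of_hasGoingDown_of_finitePresentation _
      (PrimeSpectrum.basicOpen e).2
  have hqmem : (⟨q, hqp⟩ : PrimeSpectrum A) ∈ (PrimeSpectrum.comap (algebraMap A B)) ''
      (PrimeSpectrum.basicOpen e : Set (PrimeSpectrum B)) :=
    ⟨⟨n, hn.isPrime⟩, hen, rfl⟩
  obtain ⟨_, ⟨_, ⟨h, rfl⟩, rfl⟩, hqh, hhsub⟩ :=
    PrimeSpectrum.isBasis_basic_opens.exists_subset_of_mem_open hqmem hopen
  have hhq : h ∉ q := hqh
  -- primes `p ⊇ q` with `h ∉ p` equal `q`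
  have hiso : ∀ p : Ideal A, p.IsPrime → q ≤ p → h ∉ p → p = q := by
    intro p hp hqp' hhp
    obtain ⟨⟨Q', hQ'p⟩, hQ'e, hQ'eq⟩ := hhsub (show (⟨p, hp⟩ : PrimeSpectrum A) ∈ _ from hhp)
    have hQ'u : Q'.under A = p := congrArg PrimeSpectrum.asIdeal hQ'eq
    have hle : q.map (algebraMap A B) ≤ Q' := by
      rw [Ideal.map_le_iff_le_comap, ← Ideal.under_def, hQ'u]
      exact hqp'
    have := hsingle Q' hQ'p hle hQ'e
    rw [← hQ'u, this]
  -- every member of the fibre is maximal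
  have hFmax : ∀ Q₀ ∈ q.primesOver B, Q₀.IsMaximal := by
    intro Q₀ hQ₀
    haveI := hQ₀.1
    have hhQ₀ : algebraMap A B h ∉ Q₀ := by
      intro hmem
      apply hhq
      rw [hQ₀.2.over]
      exact hmem
    obtain ⟨n', hn'max, hQ₀n', hhn'⟩ := exists_maximal_not_mem Q₀ _ hhQ₀
    have h1 : q ≤ n'.under A := by
      rw [hQ₀.2.over]
      exact Ideal.comap_mono hQ₀n'
    have h2 : n'.under A = q :=
      hiso _ (Ideal.IsPrime.under A n') h1 (fun hmem => hhn' hmem)
    have h3 : n' ∈ q.primesOver B := ⟨hn'max.isPrime, ⟨h2.symm⟩⟩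
    rw [hincomp Q₀ n' hQ₀ h3 hQ₀n']
    exact hn'max
  -- conclusion
  obtain ⟨m, hm, hqm⟩ := Ideal.exists_le_maximal q hqp.ne_top
  obtain ⟨Q, hQp, hQo⟩ := Ideal.exists_isPrime_liesOver_of_faithfullyFlat (B := B) m
  haveI := hm.isPrime
  obtain ⟨Q₀, hQ₀le, hQ₀p, hQ₀o⟩ := Q.exists_ideal_le_liesOver_of_le (p := q) (q := m) hqm
  have hQ₀max := hFmax Q₀ ⟨hQ₀p, hQ₀o⟩
  have hQQ₀ : Q₀ = Q := hQ₀max.eq_of_le hQp.ne_top hQ₀le
  have : q = m := by rw [hQ₀o.over, hQQ₀, ← hQo.over]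
  rw [this]
  exact hm

theorem isJacobsonRing_of_quasiFinite [Module.FaithfullyFlat A B] [Algebra.QuasiFinite A B]
    [Algebra.FinitePresentation A B] [IsJacobsonRing B] : IsJacobsonRing A := by
  rw [isJacobsonRing_iff_prime_eq]
  intro P hP
  refine le_antisymm (fun g hg => ?_) Ideal.le_jacobson
  by_contra hgP
  obtain ⟨Q, hQp, hQo⟩ := Ideal.exists_isPrime_liesOver_of_faithfullyFlat (B := B) P
  have hgQ : algebraMap A B g ∉ Q := by
    intro hmem
    apply hgP
    rw [hQo.over]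
    exact hmem
  obtain ⟨n, hnmax, hQn, hgn⟩ := exists_maximal_not_mem Q _ hgQ
  have hmax := isMaximal_under_of_isMaximal (A := A) n
  have hPle : P ≤ n.under A := by
    rw [hQo.over]
    exact Ideal.comap_mono hQn
  have : g ∈ n.under A := by
    rw [Ideal.jacobson, Ideal.mem_sInf] at hg
    exact hg ⟨hPle, hmax⟩
  exact hgn this

theorem main1147 (A B : Type u) [CommRing A] [CommRing B] [Algebra A B]
    [Module.FaithfullyFlat A B] [Algebra.FinitePresentation A B] [IsJacobsonRing B] :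
    IsJacobsonRing A := by
  obtain ⟨B', _, _, hqf, hft, hff, hfp, ⟨φ⟩⟩ := Groth.Agent.S9432.result A B
  letI : Algebra B B' := φ.toRingHom.toAlgebra
  haveI : IsScalarTower A B B' := IsScalarTower.of_algebraMap_eq (fun x => (φ.commutes x).symm)
  haveI : Algebra.FiniteType B B' := Algebra.FiniteType.of_restrictScalars_finiteType A B B'
  haveI : IsJacobsonRing B' := isJacobsonRing_of_finiteType (A := B) (B := B')
  exact isJacobsonRing_of_quasiFinite (A := A) (B := B')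

end Groth.Agent.Lib.JacobsonDescentH3
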