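import Groth.Agent.Lib.AlgSpEtale_helper7
import Mathlib.AlgebraicGeometry.Morphisms.QuasiFinite
import Mathlib.AlgebraicGeometry.Morphisms.UniversallyOpen
import Mathlib.AlgebraicGeometry.Morphisms.Etale
import Mathlib.Topology.JacobsonSpace
import Mathlib.Topology.DiscreteSubset

/-!
# The Jacobson property descends along étale surjective morphisms (helper6)
-/

set_option autoImplicit false
universe u
open CategoryTheory CategoryTheory.Limits AlgebraicGeometry

namespace Groth.Agent.Lib.JacobsonDescentH6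

/-- Under an étale morphism from a Jacobson scheme, closed points map to closed points provided the
morphism is surjective. -/
theorem isClosed_singleton_image_of_etale_surjective {Y X : Scheme.{u}} (π : Y ⟶ X) [Etale π]
    [Surjective π] [JacobsonSpace ↥Y] (y : ↥Y) (hy : IsClosed ({y} : Set ↥Y)) :
    IsClosed ({π y} : Set ↥X) := by
  haveI : LocallyQuasiFinite π :=
    Groth.Agent.Lib.AlgSpEtale_helper7.locallyQuasiFinite_of_unramified π
  have hopen : IsOpenMap π := π.isOpenMap
  have hgen : GeneralizingMap π := Flat.generalizingMap π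
  have hdisc := fun x => π.isDiscrete_preimage_singleton x
  -- `{π y}` is locally closed
  have hlc : IsLocallyClosed ({π y} : Set ↥X) := by
    obtain ⟨N, hN, hNs⟩ := (isDiscrete_iff_forall_mem_exists_isOpen.1 (hdisc (π y))) y rfl
    have hyN : y ∈ N := by
      have : y ∈ N ∩ π ⁻¹' {π y} := by rw [hNs]; rfl
      exact this.1
    have h1 : ({π y} : Set ↥X) = π '' N ∩ (π '' (N \ {y}))ᶜ := by
      ext x'
      constructor
      · intro hx'
        have hx'' : x' = π y := hx'
        subst hx''
        refine ⟨⟨y, hyN, rfl⟩, ?_⟩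
        rintro ⟨t, ⟨htN, hty⟩, ht⟩
        have : t ∈ N ∩ π ⁻¹' {π y} := ⟨htN, ht⟩
        rw [hNs] at this
        exact hty this
      · rintro ⟨⟨t, htN, rfl⟩, hnot⟩
        by_contra hne
        apply hnot
        refine ⟨t, ⟨htN, ?_⟩, rfl⟩
        intro hty
        have hty' : t = y := hty
        subst hty'
        exact hne rfl
    rw [h1]
    exact (hopen N hN).isLocallyClosed.inter
      (hopen _ (hN.sdiff hy)).isClosed_compl.isLocallyClosed
  rw [← closure_subset_iff_isClosed]
  intro x' hx'
  have hsp : π y ⤳ x' := specializes_iff_mem_closure.2 hx'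
  obtain ⟨y', rfl⟩ := π.surjective x'
  obtain ⟨y₁, hy₁, hπ⟩ := hgen hsp
  have hy₁lc : IsLocallyClosed ({y₁} : Set ↥Y) := by
    have h2 : ({y₁} : Set ↥Y) = closure {y₁} ∩ π ⁻¹' {π y} := by
      ext t
      constructor
      · intro ht
        have ht' : t = y₁ := ht
        subst ht'
        exact ⟨subset_closure rfl, hπ⟩
      · rintro ⟨ht1, ht2⟩
        have hspt : y₁ ⤳ t := specializes_iff_mem_closure.2 ht1
        obtain ⟨v, hv, hvs⟩ := (isDiscrete_iff_forall_mem_exists_isOpen.1 (hdisc (π y))) t ht2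
        have htv : t ∈ v := by
          have : t ∈ v ∩ π ⁻¹' {π y} := by rw [hvs]; rfl
          exact this.1
        have hy₁v : y₁ ∈ v := hspt.mem_open hv htv
        have : y₁ ∈ v ∩ π ⁻¹' {π y} := ⟨hy₁v, hπ⟩
        rw [hvs] at this
        exact this.symm
    rw [h2]
    exact isClosed_closure.isLocallyClosed.inter (hlc.preimage π.continuous)
  obtain ⟨z, hz1, hz2⟩ := (jacobsonSpace_iff_locallyClosed.1 inferInstance) {y₁} ⟨y₁, rfl⟩ hy₁lc
  have hzy : z = y₁ := hz1
  subst hzy
  have hcl : IsClosed ({z} : Set ↥Y) := hz2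
  have h3 : y' ∈ closure ({z} : Set ↥Y) := specializes_iff_mem_closure.1 hy₁
  rw [hcl.closure_eq] at h3
  have h4 : y' = z := h3
  rw [h4, hπ]
  rfl

/-- The Jacobson property descends along étale surjective morphisms of schemes. -/
theorem jacobsonSpace_of_etale_surjective {Y X : Scheme.{u}} (π : Y ⟶ X) [Etale π]
    [Surjective π] [JacobsonSpace ↥Y] : JacobsonSpace ↥X := by
  rw [jacobsonSpace_iff_locallyClosed]
  intro Z hZne hZ
  obtain ⟨z, hz⟩ := hZne
  obtain ⟨y₀, rfl⟩ := π.surjective z
  obtain ⟨y, hyZ, hy⟩ := (jacobsonSpace_iff_locallyClosed.1 inferInstance) (π ⁻¹' Z) ⟨y₀, hz⟩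
    (hZ.preimage π.continuous)
  exact ⟨π y, hyZ, isClosed_singleton_image_of_etale_surjective π y hy⟩

end Groth.Agent.Lib.JacobsonDescentH6
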