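import Mathlib
import Groth.Prelude.Def_PLie

/-!
# Jacobson's formula `(a+b)^p = a^p + b^p - J_p(a,b)` in associative algebras of characteristic `p`,
and `p`-maps induced by embeddings into associative algebras (helper1)
-/

set_option autoImplicit false
set_option maxHeartbeats 1000000

universe u v w

namespace Groth.Agent.Lib.JacobsonH1

open Polynomial

/-! ### binomial congruences -/

lemma choose_pred_prime_zmod (p : ℕ) [Fact p.Prime] :
    ∀ m, m ≤ p - 1 → (((p - 1).choose m : ℕ) : ZMod p) = (-1) ^ m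
  | 0, _ => by simp
  | m + 1, hm => by
    have ih := choose_pred_prime_zmod p m (by omega)
    have hp := (Fact.out : p.Prime)
    have hp2 := hp.two_le
    have h1 : (p - 1).choose (m + 1) * (m + 1) = (p - 1).choose m * (p - 1 - m) :=
      Nat.choose_succ_right_eq (p - 1) m
    have h2 : (((p - 1).choose (m + 1) : ℕ) : ZMod p) * ((m + 1 : ℕ) : ZMod p) =
        (((p - 1).choose m : ℕ) : ZMod p) * ((p - 1 - m : ℕ) : ZMod p) := by
      rw [← Nat.cast_mul, ← Nat.cast_mul, h1]
    have h3 : ((p - 1 - m : ℕ) : ZMod p) = -((m + 1 : ℕ) : ZMod p) := by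
      have e : (p - 1 - m) + (m + 1) = p := by omega
      have h4 : (((p - 1 - m) + (m + 1) : ℕ) : ZMod p) = 0 := by
        rw [e]; exact ZMod.natCast_self p
      rw [Nat.cast_add] at h4
      exact eq_neg_of_add_eq_zero_left h4
    have h5 : ((m + 1 : ℕ) : ZMod p) ≠ 0 := by
      rw [Ne, ZMod.natCast_eq_zero_iff]
      intro hd
      have := Nat.le_of_dvd (by omega) hd
      omega
    rw [ih, h3] at h2
    apply mul_right_cancel₀ h5
    rw [h2, pow_succ]; ring

lemma zsmul_congr_of_zmod {B : Type*} [Ring B] (p : ℕ) (hpB : (p : B) = 0) (c c' : ℤ)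
    (hc : (c : ZMod p) = (c' : ZMod p)) (W : B) : c • W = c' • W := by
  have h1 : ((c - c' : ℤ) : ZMod p) = 0 := by push_cast; rw [hc, sub_self]
  obtain ⟨e, he⟩ := (ZMod.intCast_zmod_eq_zero_iff_dvd (c - c') p).mp h1
  have hc' : c = c' + p * e := by linarith
  have h2 : (p : ℤ) • (e • W) = 0 := by
    rw [natCast_zsmul, nsmul_eq_mul, hpB, zero_mul]
  rw [hc', add_smul, mul_smul, h2, add_zero]

/-! ### powers of `ad` -/

lemma ad_pow_apply {B : Type*} [Ring B] (Y Z : B) (n : ℕ) :
    ((LinearMap.mulLeft ℤ Y - LinearMap.mulRight ℤ Y) ^ n) Z =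
      ∑ m ∈ Finset.range (n + 1),
        ((-1 : ℤ) ^ (n - m) * (n.choose m : ℤ)) • (Y ^ m * Z * Y ^ (n - m)) := by
  have hneg : -(LinearMap.mulRight ℤ Y) = LinearMap.mulRight ℤ (-Y) := by
    ext z; simp
  have hc : Commute (LinearMap.mulLeft ℤ Y) (LinearMap.mulRight ℤ (-Y)) :=
    LinearMap.commute_mulLeft_right Y (-Y)
  rw [sub_eq_add_neg, hneg, hc.add_pow, LinearMap.sum_apply]
  refine Finset.sum_congr rfl fun m _ => ?_
  rw [Module.End.mul_apply, Module.End.mul_apply, Module.End.natCast_apply, LinearMap.pow_mulLeft,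
    LinearMap.pow_mulRight, LinearMap.mulLeft_apply, LinearMap.mulRight_apply, neg_pow Y (n - m)]
  rcases Nat.even_or_odd (n - m) with h | h
  · rw [h.neg_one_pow, h.neg_one_pow, one_mul, one_mul, natCast_zsmul, smul_mul_assoc,
      mul_smul_comm, mul_assoc]
  · rw [h.neg_one_pow, h.neg_one_pow, neg_one_mul, neg_one_mul, neg_smul, natCast_zsmul, mul_neg,
      mul_neg, smul_mul_assoc, mul_smul_comm, mul_assoc]

lemma sum_eq_ad_pow {B : Type*} [Ring B] (p : ℕ) [Fact p.Prime] (hpB : (p : B) = 0) (Y Z : B) :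
    ((LinearMap.mulLeft ℤ Y - LinearMap.mulRight ℤ Y) ^ (p - 1)) Z =
      ∑ m ∈ Finset.range p, Y ^ m * Z * Y ^ (p - 1 - m) := by
  have hp := (Fact.out : p.Prime)
  rw [ad_pow_apply, Nat.sub_add_cancel hp.one_le]
  refine Finset.sum_congr rfl fun m hm => ?_
  have hm' : m ≤ p - 1 := by have := Finset.mem_range.mp hm; omega
  have hc : (((-1 : ℤ) ^ (p - 1 - m) * ((p - 1).choose m : ℤ) : ℤ) : ZMod p) =
      ((1 : ℤ) : ZMod p) := by
    push_cast
    rw [choose_pred_prime_zmod p m hm', ← pow_add, Nat.sub_add_cancel hm']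
    exact ZMod.pow_card_sub_one_eq_one (neg_ne_zero.mpr one_ne_zero)
  rw [zsmul_congr_of_zmod p hpB _ 1 hc, one_smul]

lemma ad_pow_prime {B : Type*} [Ring B] (p : ℕ) [Fact p.Prime] (hpB : (p : B) = 0) (Y Z : B) :
    ((LinearMap.mulLeft ℤ Y - LinearMap.mulRight ℤ Y) ^ p) Z = Y ^ p * Z - Z * Y ^ p := by
  have hp := (Fact.out : p.Prime)
  rw [ad_pow_apply]
  rw [Finset.sum_eq_add_of_mem 0 p (Finset.mem_range.mpr (by omega))
    (Finset.mem_range.mpr (by omega)) hp.pos.ne]
  · have h0 : (((-1 : ℤ) ^ (p - 0) * (p.choose 0 : ℤ) : ℤ) : ZMod p) = ((-1 : ℤ) : ZMod p) := by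
      push_cast
      rw [Nat.choose_zero_right, Nat.cast_one, mul_one, Nat.sub_zero]
      exact ZMod.pow_card (-1)
    rw [zsmul_congr_of_zmod p hpB _ (-1) h0]
    simp
    abel
  · intro m hm hne
    have hm' := Finset.mem_range.mp hm
    have hd : p ∣ p.choose m := hp.dvd_choose_self hne.1 (by omega)
    have h0 : (((-1 : ℤ) ^ (p - m) * (p.choose m : ℤ) : ℤ) : ZMod p) = ((0 : ℤ) : ZMod p) := by
      push_cast
      rw [(ZMod.natCast_eq_zero_iff _ _).mpr hd, mul_zero]
    rw [zsmul_congr_of_zmod p hpB _ 0 h0, zero_smul]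

/-! ### derivative of a power in a noncommutative polynomial ring -/

lemma derivative_pow_noncomm {A : Type*} [Ring A] (Y : A[X]) (n : ℕ) :
    derivative (Y ^ n) = ∑ m ∈ Finset.range n, Y ^ m * derivative Y * Y ^ (n - 1 - m) := by
  induction n with
  | zero => simp
  | succ n ih =>
    rw [pow_succ, derivative_mul, ih, Finset.sum_mul, Finset.sum_range_succ]
    congr 1
    · refine Finset.sum_congr rfl fun m hm => ?_
      have hm' := Finset.mem_range.mp hm
      have e : n + 1 - 1 - m = (n - 1 - m) + 1 := by omega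
      rw [e, pow_succ, ← mul_assoc]
    · simp

/-! ### commutator words -/

section Words

variable {A : Type*} [Ring A]

/-- the commutator. -/
def cm (u v : A) : A := u * v - v * u

/-- iterated commutator along a word. -/
def cw (x : Bool → A) (y : A) : List Bool → A
  | [] => y
  | i :: w => cm (x i) (cw x y w)

/-- the pair `(a, b)` indexed by `Bool` (`false ↦ a`). -/
def pr (a b : A) : Bool → A := fun i => if i then b else a

lemma cw_cons (x : Bool → A) (y : A) (i : Bool) (w : List Bool) :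
    cw x y (i :: w) = cm (x i) (cw x y w) := rfl

lemma cw_zero (x : Bool → A) : ∀ w, cw x 0 w = 0
  | [] => rfl
  | i :: w => by rw [cw_cons, cw_zero x w, cm, mul_zero, zero_mul, sub_zero]

lemma cw_neg (x : Bool → A) (y : A) : ∀ w, cw x (-y) w = -cw x y w
  | [] => rfl
  | i :: w => by
    rw [cw_cons, cw_neg x y w, cw_cons, cm, cm, mul_neg, neg_mul]; abel

lemma cw_append_singleton (x : Bool → A) (y : A) (l : Bool) :
    ∀ w, cw x y (w ++ [l]) = cw x (cm (x l) y) w
  | [] => rfl
  | i :: w => by rw [List.cons_append, cw_cons, cw_append_singleton x y l w, cw_cons]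

/-- number of `false` entries. -/
def nf {n : ℕ} (t : Fin n → Bool) : ℕ := (List.ofFn t).count false

lemma nf_lt {n : ℕ} (t : Fin n → Bool) : nf t < n + 1 := by
  have h := List.count_le_length (a := false) (l := List.ofFn t)
  rw [List.length_ofFn] at h
  unfold nf; omega

lemma card_false_eq_nf : ∀ {n : ℕ} (t : Fin n → Bool),
    (Finset.univ.filter (fun i => t i = false)).card = nf t
  | 0, t => by simp [nf]
  | n + 1, t => by
    rw [Fin.card_filter_univ_succ', card_false_eq_nf (fun i => t i.succ), nf, nf, List.ofFn_succ,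
      List.count_cons]
    cases t 0 <;> simp [add_comm]

lemma sum_cons {M : Type*} [AddCommMonoid M] {n : ℕ} (G : (Fin (n + 1) → Bool) → M) :
    ∑ t', G t' = ∑ t : Fin n → Bool, (G (Fin.cons true t) + G (Fin.cons false t)) := by
  rw [← (Fin.consEquiv (fun _ : Fin (n + 1) => Bool)).sum_comp G, Fintype.sum_prod_type,
    Fintype.sum_bool, ← Finset.sum_add_distrib]
  rfl

lemma sum_snoc {M : Type*} [AddCommMonoid M] {n : ℕ} (G : (Fin (n + 1) → Bool) → M) :
    ∑ t', G t' = ∑ t : Fin n → Bool,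
      (G (Fin.snoc (α := fun _ => Bool) t true) + G (Fin.snoc (α := fun _ => Bool) t false)) := by
  rw [← (Fin.snocEquiv (fun _ : Fin (n + 1) => Bool)).sum_comp G, Fintype.sum_prod_type,
    Fintype.sum_bool, ← Finset.sum_add_distrib]
  rfl

lemma ofFn_snoc {n : ℕ} (t : Fin n → Bool) (l : Bool) :
    List.ofFn (Fin.snoc (α := fun _ => Bool) t l) = List.ofFn t ++ [l] := by
  rw [List.ofFn_succ', List.concat_eq_append]
  simp

/-- the polynomial `a X + b`. -/
noncomputable def Yab (a b : A) : A[X] := monomial 1 a + monomial 0 b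

/-- `ad (a X + b)`. -/
noncomputable def adP (a b : A) (Z : A[X]) : A[X] := Yab a b * Z - Z * Yab a b

lemma adP_monomial (a b z : A) (m : ℕ) :
    adP a b (monomial m z) = monomial (m + 1) (cm a z) + monomial m (cm b z) := by
  unfold adP Yab cm
  rw [add_mul, mul_add, monomial_mul_monomial, monomial_mul_monomial, monomial_mul_monomial,
    monomial_mul_monomial, map_sub, map_sub]
  rw [show 1 + m = m + 1 from add_comm 1 m, zero_add, add_zero]
  abel

lemma adP_sum {ι : Type*} (a b : A) (s : Finset ι) (f : ι → A[X]) :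
    adP a b (∑ i ∈ s, f i) = ∑ i ∈ s, adP a b (f i) := by
  unfold adP; rw [Finset.mul_sum, Finset.sum_mul, Finset.sum_sub_distrib]

lemma iterate_adP (a b c : A) : ∀ n : ℕ, (adP a b)^[n] (monomial 0 c) =
      ∑ t : Fin n → Bool, monomial (nf t) (cw (pr a b) c (List.ofFn t))
  | 0 => by
    rw [Function.iterate_zero, id, Fintype.sum_unique]
    simp [nf, cw]
  | n + 1 => by
    rw [Function.iterate_succ_apply', iterate_adP a b c n, adP_sum, sum_cons]
    refine Finset.sum_congr rfl fun t _ => ?_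
    rw [adP_monomial, nf, nf, nf, List.ofFn_cons, List.ofFn_cons, List.count_cons, List.count_cons,
      cw_cons, cw_cons]
    simp [pr, add_comm]

end Words

/-! ### Jacobson's formula -/

section Jacobson

variable {R : Type u} [CommRing R] (p : ℕ) [Fact p.Prime] [CharP R p]
variable {A : Type w} [Ring A] [Algebra R A]

include R in
lemma natCast_eq_zero_algebra : (p : A) = 0 := by
  rw [← map_natCast (algebraMap R A), CharP.cast_eq_zero R p, map_zero]

lemma coeff_top (a b : A) : ∀ n : ℕ, (Yab a b ^ n).coeff n = a ^ n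
  | 0 => by simp
  | n + 1 => by
    have hdeg : (Yab a b ^ n).natDegree < n + 1 := by
      have h1 : (Yab a b).natDegree ≤ 1 := by
        unfold Yab
        exact (natDegree_add_le _ _).trans (max_le (natDegree_monomial_le a)
          ((natDegree_monomial_le b).trans (Nat.zero_le 1)))
      calc (Yab a b ^ n).natDegree ≤ n * (Yab a b).natDegree := natDegree_pow_le
        _ ≤ n * 1 := Nat.mul_le_mul_left n h1
        _ < n + 1 := by omega
    have h2 : (Yab a b ^ n).coeff (n + 1) = 0 := coeff_eq_zero_of_natDegree_lt hdeg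
    rw [pow_succ]
    conv_lhs => rw [Yab, mul_add]
    rw [coeff_add, coeff_mul_monomial, ← Yab, coeff_top a b n]
    have h3 := coeff_mul_monomial (Yab a b ^ n) 0 (n + 1) b
    rw [add_zero] at h3
    rw [h3, h2, zero_mul, add_zero, pow_succ]

theorem jacobson_aux (a b : A) (q : ℕ) (hq : p = q + 1) :
    (a + b) ^ p = a ^ p + b ^ p + ∑ t : Fin q → Bool,
      (ZMod.castHom (dvd_refl p) R (((nf t + 1 : ℕ) : ZMod p)⁻¹)) •
        cw (pr a b) a (List.ofFn t) := by
  have hp := (Fact.out : p.Prime)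
  have hpA : (p : A) = 0 := natCast_eq_zero_algebra (R := R) p
  have hpB : (p : A[X]) = 0 := by
    rw [← map_natCast (C : A →+* A[X]), hpA, map_zero]
  obtain ⟨Y, hY⟩ : ∃ Y : A[X], Y = Yab a b := ⟨_, rfl⟩
  obtain ⟨ι, hι⟩ : ∃ ι : ZMod p →+* R, ι = ZMod.castHom (dvd_refl p) R := ⟨_, rfl⟩
  rw [← hι]
  -- evaluation at `1`
  have hdeg : (Y ^ p).natDegree < p + 1 := by
    have h1 : Y.natDegree ≤ 1 := by
      rw [hY]; unfold Yab
      exact (natDegree_add_le _ _).trans (max_le (natDegree_monomial_le a)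
        ((natDegree_monomial_le b).trans (Nat.zero_le 1)))
    calc (Y ^ p).natDegree ≤ p * Y.natDegree := natDegree_pow_le
      _ ≤ p * 1 := Nat.mul_le_mul_left p h1
      _ < p + 1 := by omega
  have hev : (a + b) ^ p = ∑ i ∈ Finset.range (p + 1), (Y ^ p).coeff i := by
    have h0 : eval₂RingHom' (RingHom.id A) (1 : A) (fun _ => Commute.one_right _) Y = a + b := by
      rw [hY]; simp [Yab, eval₂_monomial]
    rw [← h0, ← map_pow]
    show eval₂ (RingHom.id A) 1 (Y ^ p) = _
    rw [eval₂_eq_sum_range' (RingHom.id A) hdeg]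
    simp
  -- the extreme coefficients
  have hS0 : (Y ^ p).coeff 0 = b ^ p := by
    rw [← constantCoeff_apply, map_pow, constantCoeff_apply, hY]
    simp [Yab, coeff_monomial]
  have hSp : (Y ^ p).coeff (q + 1) = a ^ p := by
    rw [← hq, hY]; exact coeff_top a b p
  -- the derivative
  have hder : derivative (Y ^ p) =
      ∑ t : Fin q → Bool, monomial (nf t) (cw (pr a b) a (List.ofFn t)) := by
    rw [derivative_pow_noncomm]
    have hY' : derivative Y = monomial 0 a := by
      rw [hY]; simp [Yab, derivative_monomial]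
    have hq' : p - 1 = q := by omega
    rw [hY', ← sum_eq_ad_pow p hpB, Module.End.pow_apply, hq']
    have hfun : ⇑(LinearMap.mulLeft ℤ Y - LinearMap.mulRight ℤ Y) = adP a b := by
      funext Z
      rw [hY]; simp [adP]
    rw [hfun, iterate_adP]
  have hD : ∀ j : ℕ, (Y ^ p).coeff (j + 1) * ((j : A) + 1) =
      ∑ t : Fin q → Bool, if nf t = j then cw (pr a b) a (List.ofFn t) else 0 := by
    intro j
    rw [← coeff_derivative, hder, finset_sum_coeff]
    refine Finset.sum_congr rfl fun t _ => ?_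
    rw [coeff_monomial]
  have hinv : ∀ j : ℕ, j + 1 < p → ∀ s : A,
      (ι (((j + 1 : ℕ) : ZMod p)⁻¹)) • (s * ((j : A) + 1)) = s := by
    intro j hj s
    have h0 : (((j + 1 : ℕ) : ZMod p)) ≠ 0 := by
      rw [Ne, ZMod.natCast_eq_zero_iff]
      intro hd
      have := Nat.le_of_dvd (by omega) hd
      omega
    have h1 : ι (((j + 1 : ℕ) : ZMod p)⁻¹) * ((j + 1 : ℕ) : R) = 1 := by
      rw [← map_natCast ι (j + 1), ← map_mul, inv_mul_cancel₀ h0, map_one]
    have h2 : s * ((j : A) + 1) = ((j + 1 : ℕ) : R) • s := by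
      rw [Nat.cast_smul_eq_nsmul, nsmul_eq_mul']; push_cast; rfl
    rw [h2, smul_smul, h1, one_smul]
  have hr : Finset.range p = Finset.range (q + 1) := by rw [hq]
  rw [hev, Finset.sum_range_succ', hS0, hr, Finset.sum_range_succ, hSp]
  have hmid : ∑ j ∈ Finset.range q, (Y ^ p).coeff (j + 1) =
      ∑ t : Fin q → Bool, (ι (((nf t + 1 : ℕ) : ZMod p)⁻¹)) • cw (pr a b) a (List.ofFn t) := by
    have h1 : ∑ j ∈ Finset.range q, (Y ^ p).coeff (j + 1) =
        ∑ j ∈ Finset.range (q + 1),
          (ι (((j + 1 : ℕ) : ZMod p)⁻¹)) • ((Y ^ p).coeff (j + 1) * ((j : A) + 1)) := by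
      rw [Finset.sum_range_succ]
      have hz : (((q + 1 : ℕ) : ZMod p)) = 0 := by
        rw [← hq]; exact ZMod.natCast_self p
      rw [hz, inv_zero, map_zero, zero_smul, add_zero]
      refine Finset.sum_congr rfl fun j hj => ?_
      have hj' := Finset.mem_range.mp hj
      rw [hinv j (by omega)]
    rw [h1]
    simp_rw [hD, Finset.smul_sum]
    rw [Finset.sum_comm]
    refine Finset.sum_congr rfl fun t _ => ?_
    rw [Finset.sum_eq_single (nf t)]
    · rw [if_pos rfl]
    · intro j _ hj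
      rw [if_neg (Ne.symm hj), smul_zero]
    · intro h
      exact absurd (Finset.mem_range.mpr (nf_lt t)) h
  rw [hmid]
  abel

/-- conversion between the two normalisations of Jacobson's sum. -/
lemma jacobson_convert (a b : A) (g : ℕ → R) (n : ℕ) :
    ∑ t : Fin (n + 1) → Bool, g (nf t + 1) • cw (pr a b) a (List.ofFn t) =
      -∑ t : Fin (n + 1) → Bool, g (nf t) • cw (pr a b) b (List.ofFn t) := by
  rw [sum_snoc, sum_snoc, ← Finset.sum_neg_distrib]
  refine Finset.sum_congr rfl fun t _ => ?_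
  simp only [nf, ofFn_snoc, cw_append_singleton, List.count_append, List.count_cons,
    List.count_nil]
  have h1 : cm (pr a b false) a = 0 := by simp [pr, cm]
  have h2 : cm (pr a b true) b = 0 := by simp [pr, cm]
  have h3 : cm (pr a b true) a = -cm (pr a b false) b := by simp [pr, cm]
  rw [h1, h2, h3, cw_zero, cw_neg]
  simp

theorem jacobson_assoc (a b : A) :
    (a + b) ^ p = a ^ p + b ^ p - ∑ t : Fin (p - 1) → Bool,
      (ZMod.castHom (dvd_refl p) R ((Fintype.card {i // t i = false} : ZMod p)⁻¹)) •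
        cw (pr a b) b (List.ofFn t) := by
  have hp := (Fact.out : p.Prime)
  have hp2 := hp.two_le
  have hq : p = (p - 1) + 1 := by omega
  obtain ⟨n, hn⟩ : ∃ n, p - 1 = n + 1 := ⟨p - 2, by omega⟩
  have h1 := jacobson_aux (R := R) p a b (p - 1) hq
  have hcard : ∀ t : Fin (p - 1) → Bool, Fintype.card {i // t i = false} = nf t := by
    intro t
    rw [Fintype.card_subtype]
    exact card_false_eq_nf t
  simp_rw [hcard]
  rw [h1, sub_eq_add_neg]
  congr 1
  have key : ∀ (m : ℕ) (hm : m = n + 1),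
      ∑ t : Fin m → Bool, (ZMod.castHom (dvd_refl p) R (((nf t + 1 : ℕ) : ZMod p)⁻¹)) •
        cw (pr a b) a (List.ofFn t) =
      -∑ t : Fin m → Bool, (ZMod.castHom (dvd_refl p) R (((nf t : ℕ) : ZMod p)⁻¹)) •
        cw (pr a b) b (List.ofFn t) := by
    intro m hm
    subst hm
    exact jacobson_convert a b (fun j => ZMod.castHom (dvd_refl p) R (((j : ℕ) : ZMod p)⁻¹)) n
  exact key (p - 1) hn

end Jacobson

end Groth.Agent.Lib.JacobsonH1
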