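import Mathlib.Topology.JacobsonSpace
import Mathlib.Topology.Constructible
import Groth.Agent.Lib.ConstrMore_lead

/-!
# Jacobson spaces: opens / constructible sets versus closed points (lead)
-/

universe u

namespace Groth.Agent.Lib.Jacobson_lead

open Set Topology

variable {X : Type u} [TopologicalSpace X] [JacobsonSpace X]

local notation "ι₀" => (Subtype.val : closedPoints X → X)

/-- A nonempty constructible subset of a Jacobson space contains a closed point. -/
theorem exists_closedPoint_of_isConstructible {E : Set X} (hE : IsConstructible E)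
    (hne : E.Nonempty) : (E ∩ closedPoints X).Nonempty := by
  revert hne
  refine ConstrMore_lead.sdiff_union_induction
    (P := fun E => E.Nonempty → (E ∩ closedPoints X).Nonempty) ?_ ?_ hE
  · intro U V hU _ hV _ hne
    exact nonempty_inter_closedPoints hne
      (hU.isLocallyClosed.inter hV.isClosed_compl.isLocallyClosed)
  · intro s t _ _ ihs iht hne
    rcases hne with ⟨x, hx | hx⟩
    · obtain ⟨y, hy, hy'⟩ := ihs ⟨x, hx⟩
      exact ⟨y, Or.inl hy, hy'⟩
    · obtain ⟨y, hy, hy'⟩ := iht ⟨x, hx⟩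
      exact ⟨y, Or.inr hy, hy'⟩

/-- Constructible sets are determined by their closed points. -/
theorem subset_of_preimage_subset {E E' : Set X} (hE : IsConstructible E)
    (hE' : IsConstructible E') (h : ι₀ ⁻¹' E ⊆ ι₀ ⁻¹' E') : E ⊆ E' := by
  by_contra hsub
  rw [Set.not_subset] at hsub
  obtain ⟨x, hxE, hxE'⟩ := hsub
  obtain ⟨y, ⟨hyE, hyE'⟩, hy⟩ := exists_closedPoint_of_isConstructible (hE.sdiff hE') ⟨x, hxE, hxE'⟩
  exact hyE' (h (a := ⟨y, hy⟩) hyE)

theorem subset_of_preimage_subset_of_isOpen {U V : Set X} (hU : IsOpen U) (hV : IsOpen V)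
    (h : ι₀ ⁻¹' U ⊆ ι₀ ⁻¹' V) : U ⊆ V := by
  by_contra hsub
  rw [Set.not_subset] at hsub
  obtain ⟨x, hxE, hxE'⟩ := hsub
  obtain ⟨y, ⟨hyE, hyE'⟩, hy⟩ := nonempty_inter_closedPoints (Z := U \ V) ⟨x, hxE, hxE'⟩
    (hU.isLocallyClosed.inter hV.isClosed_compl.isLocallyClosed)
  exact hyE' (h (a := ⟨y, hy⟩) hyE)

theorem isCompact_preimage_iff {U : Set X} (hU : IsOpen U) :
    IsCompact U ↔ IsCompact (ι₀ ⁻¹' U) := by
  constructor
  · intro hc
    apply isCompact_of_finite_subcover
    intro κ V hV hcov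
    choose W hW hWV using fun i => isOpen_induced_iff.1 (hV i)
    have hUW : U ⊆ ⋃ i, W i := by
      apply subset_of_preimage_subset_of_isOpen hU (isOpen_iUnion hW)
      rw [preimage_iUnion]
      simpa only [hWV] using hcov
    obtain ⟨t, ht⟩ := hc.elim_finite_subcover W hW hUW
    refine ⟨t, ?_⟩
    have := preimage_mono (f := ι₀) ht
    simpa only [preimage_iUnion, hWV] using this
  · intro hc
    apply isCompact_of_finite_subcover
    intro κ W hW hcov
    have hcov' : ι₀ ⁻¹' U ⊆ ⋃ i, ι₀ ⁻¹' W i := by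
      rw [← preimage_iUnion]; exact preimage_mono hcov
    obtain ⟨t, ht⟩ := hc.elim_finite_subcover (fun i => ι₀ ⁻¹' W i)
      (fun i => (hW i).preimage continuous_subtype_val) hcov'
    refine ⟨t, ?_⟩
    apply subset_of_preimage_subset_of_isOpen hU (V := ⋃ i ∈ t, W i)
      (isOpen_iUnion fun i => isOpen_iUnion fun _ => hW i)
    simpa only [preimage_iUnion] using ht

theorem isRetrocompact_preimage_iff {U : Set X} (hU : IsOpen U) :
    IsRetrocompact U ↔ IsRetrocompact (ι₀ ⁻¹' U) := by
  constructor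
  · intro hr K' hK' hK'o
    obtain ⟨K, hK, rfl⟩ := isOpen_induced_iff.1 hK'o
    have hKc : IsCompact K := (isCompact_preimage_iff hK).2 hK'
    rw [← preimage_inter]
    exact (isCompact_preimage_iff (hU.inter hK)).1 (hr hKc hK)
  · intro hr K hKc hK
    rw [isCompact_preimage_iff (hU.inter hK), preimage_inter]
    exact hr ((isCompact_preimage_iff hK).1 hKc) (hK.preimage continuous_subtype_val)

theorem isConstructible_preimage {E : Set X} (hE : IsConstructible E) :
    IsConstructible (ι₀ ⁻¹' E) :=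
  hE.preimage continuous_subtype_val fun _ hso hs => (isRetrocompact_preimage_iff hso).1 hs

theorem exists_isConstructible_preimage_eq {F : Set (closedPoints X)} (hF : IsConstructible F) :
    ∃ E : Set X, IsConstructible E ∧ ι₀ ⁻¹' E = F := by
  induction hF using IsConstructible.empty_union_induction with
  | open_retrocompact V hVo hVr =>
    obtain ⟨U, hU, rfl⟩ := isOpen_induced_iff.1 hVo
    exact ⟨U, ((isRetrocompact_preimage_iff hU).2 hVr).isConstructible hU, rfl⟩
  | union s hs t ht ihs iht =>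
    obtain ⟨E₁, h₁, rfl⟩ := ihs
    obtain ⟨E₂, h₂, rfl⟩ := iht
    exact ⟨E₁ ∪ E₂, h₁.union h₂, preimage_union⟩
  | compl s hs ih =>
    obtain ⟨E₁, h₁, rfl⟩ := ih
    exact ⟨E₁ᶜ, h₁.compl, preimage_compl⟩

end Groth.Agent.Lib.Jacobson_lead
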