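import Mathlib

/-!
# Truncated polynomial rings `k[X]/(X^N)` (helper8)
APPEND-ONLY once landed.
-/

set_option autoImplicit false
set_option maxHeartbeats 400000
universe u

namespace Groth.Agent.Lib.JetRegH8

open Polynomial

variable (k : Type u) [Field k]

/-- The truncated polynomial ring. -/
abbrev Q (N : ℕ) : Type u := k[X] ⧸ Ideal.span {(X : k[X]) ^ N}

/-- The ideal `(X)` of `Q k N`. -/
noncomputable def mQ (N : ℕ) : Ideal (Q k N) :=
  Ideal.map (Ideal.Quotient.mk (Ideal.span {(X : k[X]) ^ N})) (Ideal.span {(X : k[X])})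

variable {k}

theorem span_X_pow_ne_top {N : ℕ} (hN : 1 ≤ N) : Ideal.span {(X : k[X]) ^ N} ≠ ⊤ := by
  intro h
  rw [Ideal.span_singleton_eq_top] at h
  have h1 := (Polynomial.monic_X_pow (R := k) N).eq_one_of_isUnit h
  have h2 := congrArg Polynomial.natDegree h1
  rw [Polynomial.natDegree_X_pow, Polynomial.natDegree_one] at h2
  omega

theorem span_X_pow_le_span_X {N : ℕ} (hN : 1 ≤ N) :
    Ideal.span {(X : k[X]) ^ N} ≤ Ideal.span {(X : k[X])} := by
  rw [Ideal.span_singleton_le_span_singleton]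
  exact dvd_pow_self _ (by omega)

instance nontrivial_Q {N : ℕ} [h : Fact (1 ≤ N)] : Nontrivial (Q k N) :=
  Ideal.Quotient.nontrivial_iff.2 (span_X_pow_ne_top h.out)

theorem span_X_isMaximal : (Ideal.span {(X : k[X])}).IsMaximal := by
  have : (Ideal.span {(X : k[X])}) = RingHom.ker (Polynomial.aeval (0 : k) : k[X] →ₐ[k] k).toRingHom := by
    ext p
    rw [Ideal.mem_span_singleton, RingHom.mem_ker, Polynomial.X_dvd_iff]
    simp [Polynomial.coeff_zero_eq_aeval_zero]
  rw [this]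
  exact RingHom.ker_isMaximal_of_surjective _ (fun c => ⟨C c, by simp⟩)

theorem eq_mQ_of_isMaximal {N : ℕ} (M : Ideal (Q k N)) [hM : M.IsMaximal] : M = mQ k N := by
  have hsurj : Function.Surjective (Ideal.Quotient.mk (Ideal.span {(X : k[X]) ^ N})) :=
    Ideal.Quotient.mk_surjective
  have hc : (M.comap (Ideal.Quotient.mk (Ideal.span {(X : k[X]) ^ N}))).IsMaximal :=
    Ideal.comap_isMaximal_of_surjective _ hsurj
  have hX : (X : k[X]) ∈ M.comap (Ideal.Quotient.mk (Ideal.span {(X : k[X]) ^ N})) := by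
    have : (X : k[X]) ^ N ∈ M.comap (Ideal.Quotient.mk (Ideal.span {(X : k[X]) ^ N})) := by
      rw [Ideal.mem_comap]
      have : Ideal.Quotient.mk (Ideal.span {(X : k[X]) ^ N}) (X ^ N) = 0 :=
        Ideal.Quotient.eq_zero_iff_mem.2 (Ideal.mem_span_singleton_self _)
      rw [this]; exact Ideal.zero_mem _
    exact hc.isPrime.mem_of_pow_mem N this
  have hle : Ideal.span {(X : k[X])} ≤ M.comap (Ideal.Quotient.mk (Ideal.span {(X : k[X]) ^ N})) :=
    (Ideal.span_singleton_le_iff_mem _).2 hX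
  have heq := span_X_isMaximal.eq_of_le hc.ne_top hle
  rw [mQ, heq, Ideal.map_comap_of_surjective _ hsurj]

instance isLocalRing_Q {N : ℕ} [h : Fact (1 ≤ N)] : IsLocalRing (Q k N) := by
  obtain ⟨M, hM⟩ := Ideal.exists_maximal (Q k N)
  refine IsLocalRing.of_unique_max_ideal ⟨M, hM, fun M' hM' => ?_⟩
  haveI := hM'
  rw [eq_mQ_of_isMaximal M', eq_mQ_of_isMaximal M]

theorem maximalIdeal_Q {N : ℕ} [h : Fact (1 ≤ N)] : IsLocalRing.maximalIdeal (Q k N) = mQ k N :=
  eq_mQ_of_isMaximal _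

instance finite_Q {N : ℕ} : Module.Finite k (Q k N) :=
  (Polynomial.monic_X_pow (R := k) N).finite_adjoinRoot

theorem mQ_pow {N : ℕ} : mQ k N ^ N = ⊥ := by
  rw [mQ, ← Ideal.map_pow, Ideal.span_singleton_pow, Ideal.map_quotient_self]

theorem isNilpotent_of_mem_mQ {N : ℕ} {y : Q k N} (hy : y ∈ mQ k N) : IsNilpotent y := by
  refine ⟨N, ?_⟩
  have := Ideal.pow_mem_pow hy N
  rw [mQ_pow] at this
  simpa using this

theorem mem_mQ_of_isNilpotent {N : ℕ} [h : Fact (1 ≤ N)] {y : Q k N} (hy : IsNilpotent y) :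
    y ∈ mQ k N := by
  rw [← maximalIdeal_Q]
  obtain ⟨n, hn⟩ := hy
  exact (IsLocalRing.maximalIdeal.isMaximal _).isPrime.mem_of_pow_mem n (by rw [hn]; exact Ideal.zero_mem _)

end Groth.Agent.Lib.JetRegH8
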