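import Mathlib
import Groth.Agent.Lib.AnInd1_helper8
import Groth.Agent.Lib.JetQ_helper8

/-!
# Jets and regularity: local part (helper8)
APPEND-ONLY once landed.
-/

set_option autoImplicit false
set_option maxHeartbeats 400000
universe u

namespace Groth.Agent.Lib.JetRegH8

open Polynomial IsLocalRing
open Groth.Agent.Lib.AnIndH8

variable {k : Type u} [Field k]

section coords
variable {R : Type u} [CommRing R] [IsLocalRing R] [Algebra k R]

/-- The residue map to `k`. -/
theorem exists_res (hres : Function.Surjective (algebraMap k (ResidueField R))) :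
    ∃ c : R →ₐ[k] k, ∀ r, r - algebraMap k R (c r) ∈ maximalIdeal R := by
  let κ : k ≃ₐ[k] ResidueField R :=
    AlgEquiv.ofBijective (Algebra.ofId k (ResidueField R))
      ⟨(algebraMap k (ResidueField R)).injective, hres⟩
  refine ⟨κ.symm.toAlgHom.comp (IsScalarTower.toAlgHom k R (ResidueField R)), fun r => ?_⟩
  rw [← residue_eq_zero_iff, map_sub, sub_eq_zero]
  have h0 : ∀ z : k, residue R (algebraMap k R z) = κ z := fun z =>
    (IsScalarTower.algebraMap_apply k R (ResidueField R) z).symm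
  have h1 : residue R (algebraMap k R ((κ.symm.toAlgHom.comp
      (IsScalarTower.toAlgHom k R (ResidueField R))) r))
      = κ (κ.symm (residue R r)) := by
    rw [h0]
    rfl
  rw [h1, AlgEquiv.apply_symm_apply]

theorem res_eq_zero {c : R →ₐ[k] k} (hc : ∀ r, r - algebraMap k R (c r) ∈ maximalIdeal R)
    {r : R} (hr : r ∈ maximalIdeal R) : c r = 0 := by
  by_contra hne
  have h1 : algebraMap k R (c r) ∈ maximalIdeal R := by
    have := Ideal.sub_mem _ hr (hc r)
    simpa using this
  exact (mem_maximalIdeal _).1 h1 ((isUnit_iff_ne_zero.2 hne).map _)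

/-- The subspace `𝔪² + k·1`. -/
def U (k : Type u) [Field k] (R : Type u) [CommRing R] [IsLocalRing R] [Algebra k R] :
    Submodule k R :=
  ((maximalIdeal R) ^ 2).restrictScalars k ⊔ Submodule.span k {1}

theorem exists_linear' {n : ℕ} (x : Fin n → R)
    (hres : Function.Surjective (algebraMap k (ResidueField R)))
    (hx : Ideal.span (Set.range x) = maximalIdeal R) (a : R) (ha : a ∈ maximalIdeal R) :
    ∃ c0 : Fin n → k, a - ∑ l, algebraMap k R (c0 l) * x l ∈ maximalIdeal R ^ 2 := by
  rw [← hx] at ha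
  obtain ⟨c, hc⟩ := (Ideal.mem_span_range_iff_exists_fun).1 ha
  choose c0 hc0 using fun l => exists_const (k := k) hres (c l)
  have hxm : ∀ l, x l ∈ maximalIdeal R := fun l => hx ▸ Ideal.subset_span ⟨l, rfl⟩
  refine ⟨c0, ?_⟩
  have : a - ∑ l, algebraMap k R (c0 l) * x l = ∑ l, (c l - algebraMap k R (c0 l)) * x l := by
    rw [← hc, ← Finset.sum_sub_distrib]
    refine Finset.sum_congr rfl fun l _ => ?_
    ring
  rw [this, pow_two]
  exact Ideal.sum_mem _ fun l _ => Ideal.mul_mem_mul (hc0 l) (hxm l)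

theorem finite_quot_U [IsNoetherianRing R]
    (hres : Function.Surjective (algebraMap k (ResidueField R))) :
    Module.Finite k (R ⧸ U k R) := by
  classical
  obtain ⟨n, y, hy⟩ := Submodule.fg_iff_exists_fin_generating_family.1
    (IsNoetherian.noetherian (maximalIdeal R))
  obtain ⟨c, hc⟩ := exists_res (k := k) hres
  refine ⟨⟨Finset.univ.image fun i => (U k R).mkQ (y i), ?_⟩⟩
  rw [eq_top_iff]
  rintro w -
  obtain ⟨r, rfl⟩ := (U k R).mkQ_surjective w
  obtain ⟨c0, hc0⟩ := exists_linear' (k := k) y hres hy _ (hc r)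
  have hdec : r = (r - algebraMap k R (c r) - ∑ l, algebraMap k R (c0 l) * y l)
      + (c r) • (1 : R) + ∑ l, (c0 l) • y l := by
    simp only [Algebra.smul_def, mul_one]; ring
  rw [hdec, map_add, map_add]
  have hz1 : (U k R).mkQ (r - algebraMap k R (c r) - ∑ l, algebraMap k R (c0 l) * y l) = 0 := by
    rw [Submodule.mkQ_apply, Submodule.Quotient.mk_eq_zero]
    exact Submodule.mem_sup_left hc0
  have hz2 : (U k R).mkQ ((c r) • (1 : R)) = 0 := by
    rw [Submodule.mkQ_apply, Submodule.Quotient.mk_eq_zero]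
    exact Submodule.mem_sup_right (Submodule.smul_mem _ _ (Submodule.mem_span_singleton_self _))
  rw [hz1, hz2, zero_add, zero_add, map_sum]
  refine Submodule.sum_mem _ fun l _ => ?_
  rw [map_smul]
  refine Submodule.smul_mem _ _ (Submodule.subset_span ?_)
  simp

end coords

section coords2
variable {R : Type u} [CommRing R] [IsLocalRing R] [Algebra k R]

theorem exists_coords [IsNoetherianRing R]
    (hres : Function.Surjective (algebraMap k (ResidueField R))) :
    ∃ (e : ℕ) (x : Fin e → R), Ideal.span (Set.range x) = maximalIdeal R ∧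
      ∀ v : Fin e → k, ∃ D : R →ₗ[k] k, D 1 = 0 ∧ (∀ r ∈ maximalIdeal R ^ 2, D r = 0) ∧
        ∀ i, D (x i) = v i := by
  haveI := finite_quot_U (k := k) (R := R) hres
  obtain ⟨c, hc⟩ := exists_res (k := k) (R := R) hres
  let b := Module.finBasis k (R ⧸ U k R)
  choose x0 hx0 using fun i => (U k R).mkQ_surjective (b i)
  have hk1 : ∀ d : k, algebraMap k R d ∈ U k R := by
    intro d
    rw [Algebra.algebraMap_eq_smul_one]
    exact Submodule.mem_sup_right (Submodule.smul_mem _ _ (Submodule.mem_span_singleton_self _))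
  let x : Fin (Module.finrank k (R ⧸ U k R)) → R := fun i => x0 i - algebraMap k R (c (x0 i))
  have hxm : ∀ i, x i ∈ maximalIdeal R := fun i => hc _
  have hxb : ∀ i, (U k R).mkQ (x i) = b i := by
    intro i
    have : (U k R).mkQ (algebraMap k R (c (x0 i))) = 0 := by
      rw [Submodule.mkQ_apply, Submodule.Quotient.mk_eq_zero]
      exact hk1 _
    rw [map_sub, hx0, this, sub_zero]
  refine ⟨_, x, ?_, ?_⟩
  · refine le_antisymm (Ideal.span_le.2 ?_) ?_
    · rintro _ ⟨i, rfl⟩
      exact hxm i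
    · refine Submodule.le_of_le_smul_of_le_jacobson_bot (I := maximalIdeal R)
        (IsNoetherian.noetherian _) ?_ ?_
      · rw [IsLocalRing.jacobson_eq_maximalIdeal ⊥ bot_ne_top]
      · intro r hr
        have hrepr := b.sum_repr ((U k R).mkQ r)
        have hmem : r - ∑ i, (b.repr ((U k R).mkQ r) i) • x i ∈ U k R := by
          rw [← Submodule.Quotient.mk_eq_zero, ← Submodule.mkQ_apply, map_sub, map_sum,
            sub_eq_zero]
          refine hrepr.symm.trans (Finset.sum_congr rfl fun i _ => ?_)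
          rw [map_smul, hxb]
        obtain ⟨u, hu, w, hw, huw⟩ := Submodule.mem_sup.1 hmem
        obtain ⟨d, rfl⟩ := Submodule.mem_span_singleton.1 hw
        have hsum : ∑ i, (b.repr ((U k R).mkQ r) i) • x i ∈ Ideal.span (Set.range x) := by
          refine Ideal.sum_mem _ fun i _ => ?_
          rw [Algebra.smul_def]
          exact Ideal.mul_mem_left _ _ (Ideal.subset_span ⟨i, rfl⟩)
        have hu' : u ∈ maximalIdeal R ^ 2 := hu
        have hd : d = 0 := by
          by_contra hne
          have h1 : d • (1 : R) ∈ maximalIdeal R := by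
            have e1 : d • (1 : R) = r - ∑ i, (b.repr ((U k R).mkQ r) i) • x i - u := by
              rw [← huw]; ring
            rw [e1]
            refine Ideal.sub_mem _ (Ideal.sub_mem _ hr ?_) (Ideal.pow_le_self two_ne_zero hu')
            exact (Ideal.span_le.2 (by rintro _ ⟨i, rfl⟩; exact hxm i)) hsum
          rw [← Algebra.algebraMap_eq_smul_one] at h1
          exact (mem_maximalIdeal _).1 h1 ((isUnit_iff_ne_zero.2 hne).map _)
        have hr2 : r = ∑ i, (b.repr ((U k R).mkQ r) i) • x i + u := by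
          have := huw
          rw [hd, zero_smul, add_zero] at this
          rw [this]; ring
        rw [hr2]
        refine Submodule.add_mem _ (Submodule.mem_sup_left hsum) (Submodule.mem_sup_right ?_)
        rw [smul_eq_mul, ← pow_two]
        exact hu'
  · intro v
    refine ⟨(b.constr k v) ∘ₗ (U k R).mkQ, ?_, ?_, ?_⟩
    · have : (U k R).mkQ (1 : R) = 0 := by
        rw [Submodule.mkQ_apply, Submodule.Quotient.mk_eq_zero]
        simpa using hk1 1
      rw [LinearMap.comp_apply, this, map_zero]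
    · intro r hr
      have : (U k R).mkQ r = 0 := by
        rw [Submodule.mkQ_apply, Submodule.Quotient.mk_eq_zero]
        exact Submodule.mem_sup_left hr
      rw [LinearMap.comp_apply, this, map_zero]
    · intro i
      rw [LinearMap.comp_apply, hxb, Module.Basis.constr_basis]

end coords2

section jets
variable {R : Type u} [CommRing R] [IsLocalRing R] [Algebra k R]

/-- An algebra map to a truncated polynomial ring maps the maximal ideal into `(X)`. -/
theorem map_mem_mQ {N : ℕ} [Fact (1 ≤ N)] (ψ : R →ₐ[k] Q k N) {r : R}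
    (hr : r ∈ maximalIdeal R) : ψ r ∈ mQ k N := by
  obtain ⟨p, hp⟩ := Ideal.Quotient.mk_surjective (ψ r)
  have h1 : ψ (r - algebraMap k R (p.coeff 0)) ∈ mQ k N := by
    rw [map_sub, AlgHom.commutes, ← hp]
    have : algebraMap k (Q k N) (p.coeff 0)
        = Ideal.Quotient.mk (Ideal.span {(X : k[X]) ^ N}) (C (p.coeff 0)) := rfl
    rw [this, ← map_sub]
    exact Ideal.mem_map_of_mem _ (Ideal.mem_span_singleton.2 Polynomial.X_dvd_sub_C)
  by_cases hc : p.coeff 0 = 0
  · rw [hc, map_zero, sub_zero] at h1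
    exact h1
  · exfalso
    have hu : IsUnit (r - algebraMap k R (p.coeff 0)) := by
      by_contra hnu
      have h2 : r - algebraMap k R (p.coeff 0) ∈ maximalIdeal R := (mem_maximalIdeal _).2 hnu
      have h3 : algebraMap k R (p.coeff 0) ∈ maximalIdeal R := by
        have := Ideal.sub_mem _ hr h2
        simpa using this
      exact (mem_maximalIdeal _).1 h3 ((isUnit_iff_ne_zero.2 hc).map _)
    exact (hu.map ψ).not_isNilpotent (isNilpotent_of_mem_mQ h1)

/-- The tangent jet attached to a tangent vector. -/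
theorem exists_jet2 (hres : Function.Surjective (algebraMap k (ResidueField R)))
    (D : R →ₗ[k] k) (hD1 : D 1 = 0) (hD2 : ∀ r ∈ maximalIdeal R ^ 2, D r = 0) :
    ∃ φ : R →ₐ[k] Q k 2, ∀ r ∈ maximalIdeal R,
      φ r = Ideal.Quotient.mk (Ideal.span {(X : k[X]) ^ 2}) (C (D r) * X) := by
  obtain ⟨c, hc⟩ := exists_res (k := k) (R := R) hres
  have hDk : ∀ d : k, D (algebraMap k R d) = 0 := by
    intro d
    rw [Algebra.algebraMap_eq_smul_one, map_smul, hD1, smul_zero]
  have hDm : ∀ r, D (r - algebraMap k R (c r)) = D r := by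
    intro r; rw [map_sub, hDk, sub_zero]
  have hDmul : ∀ r s, D (r * s) = c r * D s + c s * D r := by
    intro r s
    have e : r * s = (r - algebraMap k R (c r)) * (s - algebraMap k R (c s))
        + (c r) • (s - algebraMap k R (c s)) + (c s) • (r - algebraMap k R (c r))
        + algebraMap k R (c r * c s) := by
      simp only [Algebra.smul_def, map_mul]; ring
    have h2 : D ((r - algebraMap k R (c r)) * (s - algebraMap k R (c s))) = 0 := by
      apply hD2
      rw [pow_two]
      exact Ideal.mul_mem_mul (hc r) (hc s)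
    conv_lhs => rw [e]
    rw [map_add, map_add, map_add, h2, map_smul, map_smul, hDk, hDm, hDm]
    simp only [smul_eq_mul]; ring
  let f : R →ₗ[k] Q k 2 := (Ideal.Quotient.mkₐ k (Ideal.span {(X : k[X]) ^ 2})).toLinearMap ∘ₗ
    ((Polynomial.monomial 0) ∘ₗ c.toLinearMap + (Polynomial.monomial 1) ∘ₗ D)
  have hf : ∀ r, f r = Ideal.Quotient.mk (Ideal.span {(X : k[X]) ^ 2}) (C (c r) + C (D r) * X) := by
    intro r
    simp only [f, LinearMap.comp_apply, LinearMap.add_apply, AlgHom.toLinearMap_apply,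
      Ideal.Quotient.mkₐ_eq_mk]
    congr 1
    rw [← Polynomial.C_mul_X_pow_eq_monomial, ← Polynomial.C_mul_X_pow_eq_monomial]
    simp
  have h1 : f 1 = 1 := by
    rw [hf, map_one, hD1]; simp
  have hmul : ∀ r s, f (r * s) = f r * f s := by
    intro r s
    rw [hf, hf, hf, ← map_mul, hDmul, map_mul]
    rw [Ideal.Quotient.eq, Ideal.mem_span_singleton]
    refine ⟨- (C (D r) * C (D s)), ?_⟩
    simp only [map_add, map_mul]
    ring
  refine ⟨AlgHom.ofLinearMap f h1 hmul, fun r hr => ?_⟩
  rw [AlgHom.ofLinearMap_apply, hf, res_eq_zero hc hr]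
  simp

end jets

section evaluation

theorem aeval_mul_of_isHomogeneous {B : Type*} [CommRing B] [Algebra k B] {n : ℕ}
    {p : MvPolynomial (Fin n) k} {d : ℕ} (hp : p.IsHomogeneous d) (c : B) (a : Fin n → B) :
    MvPolynomial.aeval (fun i => c * a i) p = c ^ d * MvPolynomial.aeval a p := by
  rw [MvPolynomial.aeval_def, MvPolynomial.aeval_def, MvPolynomial.eval₂_eq,
    MvPolynomial.eval₂_eq, Finset.mul_sum]
  refine Finset.sum_congr rfl fun s hs => ?_
  have hdeg := hp.degree_eq_sum_deg_support hs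
  simp_rw [mul_pow]
  rw [Finset.prod_mul_distrib, Finset.prod_pow_eq_pow_sum, ← hdeg]
  ring

theorem aeval_jet {n j : ℕ} (v : Fin n → k) (W : Fin n → k[X]) (G : MvPolynomial (Fin n) k)
    (hG : G.IsHomogeneous j) :
    ∃ Z : k[X], MvPolynomial.aeval (fun i => C (v i) * X + X ^ 2 * W i) G
      = C (MvPolynomial.eval v G) * X ^ j + X ^ (j + 1) * Z := by
  have e1 : (fun i => C (v i) * X + X ^ 2 * W i) = fun i => (X : k[X]) * (C (v i) + X * W i) := by
    funext i; ring
  rw [e1, aeval_mul_of_isHomogeneous hG]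
  set P : k[X] := MvPolynomial.aeval (fun i => C (v i) + X * W i) G with hP
  have hP0 : P.coeff 0 = MvPolynomial.eval v G := by
    rw [Polynomial.coeff_zero_eq_aeval_zero, hP, MvPolynomial.comp_aeval_apply]
    have : (fun i => (Polynomial.aeval (0 : k)) (C (v i) + X * W i)) = v := by
      funext i; simp
    rw [this, MvPolynomial.aeval_eq_eval]
  obtain ⟨Z, hZ⟩ := Polynomial.X_dvd_sub_C (p := P)
  refine ⟨Z, ?_⟩
  have : P = C (MvPolynomial.eval v G) + X * Z := by
    rw [← hP0, ← hZ]; ring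
  rw [this]; ring

end evaluation

section AIjets
variable {R : Type u} [CommRing R] [IsLocalRing R] [Algebra k R]

theorem AI_of_jets [Infinite k] {e : ℕ} (x : Fin e → R)
    (hjet : ∀ v : Fin e → k, ∀ N, 2 ≤ N → ∃ ψ : R →ₐ[k] Q k N, ∀ i, ∃ W : k[X],
      ψ (x i) = Ideal.Quotient.mk (Ideal.span {(X : k[X]) ^ N}) (C (v i) * X + X ^ 2 * W)) :
    AI (k := k) x := by
  intro j G hG hmem
  by_contra hne
  obtain ⟨v, hv⟩ : ∃ v : Fin e → k, MvPolynomial.eval v G ≠ 0 := by
    by_contra hcon
    push Not at hcon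
    exact hne (MvPolynomial.funext fun v => by rw [hcon v, map_zero])
  rcases j with _ | j
  · have hG0 : G = MvPolynomial.C (MvPolynomial.coeff 0 G) :=
      MvPolynomial.totalDegree_eq_zero_iff_eq_C.1 (Nat.le_zero.1 hG.totalDegree_le)
    have hc : MvPolynomial.coeff 0 G ≠ 0 := fun h => hne (by rw [hG0, h, map_zero])
    have hmem2 : algebraMap k R (MvPolynomial.coeff 0 G) ∈ maximalIdeal R := by
      have e2 : algebraMap k R (MvPolynomial.coeff 0 G) = MvPolynomial.aeval x G := by
        rw [hG0]; simp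
      rw [e2]
      simpa using hmem
    exact (mem_maximalIdeal _).1 hmem2 ((isUnit_iff_ne_zero.2 hc).map _)
  · haveI : Fact (1 ≤ j + 2) := ⟨by omega⟩
    obtain ⟨ψ, hψ⟩ := hjet v (j + 2) (by omega)
    choose W hW using hψ
    have hzero : ψ (MvPolynomial.aeval x G) = 0 := by
      have hle : maximalIdeal R ≤ (mQ k (j + 2)).comap ψ.toRingHom := fun r hr =>
        map_mem_mQ ψ hr
      have h1 := (Ideal.pow_right_mono hle (j + 2)).trans (Ideal.le_comap_pow _ _) hmem
      rw [mQ_pow, Ideal.mem_comap, Ideal.mem_bot] at h1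
      exact h1
    obtain ⟨Z, hZ⟩ := aeval_jet v W G hG
    have h2 : ψ (MvPolynomial.aeval x G) = Ideal.Quotient.mk (Ideal.span {(X : k[X]) ^ (j + 2)})
        (MvPolynomial.aeval (fun i => C (v i) * X + X ^ 2 * W i) G) := by
      rw [MvPolynomial.comp_aeval_apply]
      have : (fun i => ψ (x i)) = fun i => (Ideal.Quotient.mkₐ k (Ideal.span {(X : k[X]) ^ (j + 2)}))
          (C (v i) * X + X ^ 2 * W i) := by
        funext i; rw [hW i]; rfl
      rw [this, ← MvPolynomial.comp_aeval_apply]
      rfl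
    rw [hzero, hZ] at h2
    have h3 := Ideal.Quotient.eq_zero_iff_mem.1 h2.symm
    rw [Ideal.mem_span_singleton, Polynomial.X_pow_dvd_iff] at h3
    have h4 := h3 (j + 1) (by omega)
    rw [Polynomial.coeff_add, Polynomial.coeff_C_mul, Polynomial.coeff_X_pow,
      Polynomial.coeff_X_pow_mul'] at h4
    simp at h4
    exact hv h4

end AIjets

section localthm
variable {R : Type u} [CommRing R] [IsLocalRing R] [Algebra k R]

theorem hle (k : Type u) [Field k] (l : ℕ) :
    Ideal.span {(X : k[X]) ^ (l + 1)} ≤ Ideal.span {(X : k[X]) ^ l} :=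
  Ideal.span_singleton_le_span_singleton.mpr (pow_dvd_pow (X : k[X]) (Nat.le_succ l))

theorem jets_of_JL (hres : Function.Surjective (algebraMap k (ResidueField R)))
    (JL : ∀ l, 1 ≤ l → ∀ φ : R →ₐ[k] Q k l, ∃ ψ : R →ₐ[k] Q k (l + 1),
      (Ideal.Quotient.factorₐ k (hle k l)).comp ψ = φ)
    {e : ℕ} (x : Fin e → R) (hxm : ∀ i, x i ∈ maximalIdeal R) (v : Fin e → k)
    (D : R →ₗ[k] k) (hD1 : D 1 = 0) (hD2 : ∀ r ∈ maximalIdeal R ^ 2, D r = 0)
    (hDx : ∀ i, D (x i) = v i) :
    ∀ N, 2 ≤ N → ∃ ψ : R →ₐ[k] Q k N, ∀ i, ∃ W : k[X],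
      ψ (x i) = Ideal.Quotient.mk (Ideal.span {(X : k[X]) ^ N}) (C (v i) * X + X ^ 2 * W) := by
  intro N hN
  induction N, hN using Nat.le_induction with
  | base =>
    obtain ⟨φ, hφ⟩ := exists_jet2 (k := k) hres D hD1 hD2
    refine ⟨φ, fun i => ⟨0, ?_⟩⟩
    rw [hφ _ (hxm i), hDx]; simp
  | succ N hN ih =>
    obtain ⟨ψN, hψN⟩ := ih
    obtain ⟨ψ, hψ⟩ := JL N (by omega) ψN
    refine ⟨ψ, fun i => ?_⟩
    obtain ⟨W, hW⟩ := hψN i
    obtain ⟨p, hp⟩ := Ideal.Quotient.mk_surjective (ψ (x i))
    have h1 : Ideal.Quotient.factorₐ k (hle k N) (ψ (x i)) = ψN (x i) := by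
      rw [← hψ]; rfl
    rw [← hp, hW] at h1
    have h2 : Ideal.Quotient.mk (Ideal.span {(X : k[X]) ^ N}) p
        = Ideal.Quotient.mk (Ideal.span {(X : k[X]) ^ N}) (C (v i) * X + X ^ 2 * W) := h1
    rw [Ideal.Quotient.eq, Ideal.mem_span_singleton] at h2
    obtain ⟨T, hT⟩ := h2
    refine ⟨W + X ^ (N - 2) * T, ?_⟩
    rw [← hp]
    congr 1
    have e2 : (X : k[X]) ^ N = X ^ 2 * X ^ (N - 2) := by
      rw [← pow_add]; congr 1; omega
    have : p = C (v i) * X + X ^ 2 * W + X ^ N * T := by rw [← hT]; ring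
    rw [this, e2]; ring

theorem isRegularLocalRing_of_jets [Infinite k] [IsNoetherianRing R]
    (hres : Function.Surjective (algebraMap k (ResidueField R)))
    (JL : ∀ l, 1 ≤ l → ∀ φ : R →ₐ[k] Q k l, ∃ ψ : R →ₐ[k] Q k (l + 1),
      (Ideal.Quotient.factorₐ k (hle k l)).comp ψ = φ) :
    IsRegularLocalRing R := by
  obtain ⟨e, x, hx, hD⟩ := exists_coords (k := k) (R := R) hres
  have hxm : ∀ l, x l ∈ maximalIdeal R := fun l => hx ▸ Ideal.subset_span ⟨l, rfl⟩
  have hAI : AI (k := k) x := by
    refine AI_of_jets x fun v => ?_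
    obtain ⟨D, hD1, hD2, hDx⟩ := hD v
    exact jets_of_JL hres JL x hxm v D hD1 hD2 hDx
  have hdim := le_ringKrullDim e R hres x hx hAI
  refine IsRegularLocalRing.of_spanFinrank_maximalIdeal_le R (le_trans ?_ hdim)
  have h1 : (maximalIdeal R).spanFinrank ≤ e := by
    rw [← hx]
    refine (Submodule.spanFinrank_span_le_ncard_of_finite (Set.finite_range x)).trans ?_
    have := Set.ncard_image_le (f := x) (Set.finite_univ (α := Fin e))
    simpa using this
  exact_mod_cast h1

end localthm

end Groth.Agent.Lib.JetRegH8
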