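import Mathlib

/-!
# Lifting along extensions with a vector-space kernel from lifts along hyperplane quotients
(helper3)

`E → T` a surjection of `R`-algebras with kernel `V` killed by a maximal ideal `M` of `E`.
If an `R`-algebra map `g : X → T` lifts to `E ⧸ U` for every "hyperplane" `U = ker l`
(`l : V → E ⧸ M` an `E`-linear functional), then it lifts to `E`.
-/

set_option autoImplicit false
universe u

namespace Groth.Agent.Lib.SmallExtH3

section LinAlg

variable {E : Type u} [CommRing E] (M : Ideal E) [hM : M.IsMaximal]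

theorem exists_retraction {V W : Type u} [AddCommGroup V] [Module E V] [AddCommGroup W]
    [Module E W] (hW : ∀ m ∈ M, ∀ w : W, m • w = 0) (f : V →ₗ[E] W)
    (hf : Function.Injective f) : ∃ r : W →ₗ[E] V, ∀ v, r (f v) = v := by
  classical
  have hV : ∀ m ∈ M, ∀ v : V, m • v = 0 := fun m hm v =>
    hf (by rw [map_smul, hW m hm, map_zero])
  have hWt : Module.IsTorsionBySet E W (M : Set E) := fun w m => hW m.1 m.2 w
  have hVt : Module.IsTorsionBySet E V (M : Set E) := fun v m => hV m.1 m.2 v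
  letI : Module (E ⧸ M) V := hVt.module
  letI : Module (E ⧸ M) W := hWt.module
  letI : Field (E ⧸ M) := Ideal.Quotient.field M
  let f' : V →ₗ[E ⧸ M] W :=
    { toFun := f
      map_add' := f.map_add
      map_smul' := by
        intro c v
        obtain ⟨e, rfl⟩ := Ideal.Quotient.mk_surjective c
        show f (Ideal.Quotient.mk M e • v) = Ideal.Quotient.mk M e • f v
        rw [Module.IsTorsionBySet.mk_smul, Module.IsTorsionBySet.mk_smul, map_smul] }
  obtain ⟨g, hg⟩ := LinearMap.exists_leftInverse_of_injective f' (LinearMap.ker_eq_bot.2 hf)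
  refine ⟨{ toFun := g, map_add' := g.map_add, map_smul' := ?_ }, fun v => LinearMap.congr_fun hg v⟩
  intro e w
  show g (e • w) = e • g w
  rw [← Module.IsTorsionBySet.mk_smul hWt, map_smul, Module.IsTorsionBySet.mk_smul]

theorem exists_functional {V : Type u} [AddCommGroup V] [Module E V]
    (hV : ∀ m ∈ M, ∀ v : V, m • v = 0) (v : V) (hv : v ≠ 0) :
    ∃ l : V →ₗ[E] E ⧸ M, l v ≠ 0 := by
  classical
  have hVt : Module.IsTorsionBySet E V (M : Set E) := fun v m => hV m.1 m.2 v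
  letI : Module (E ⧸ M) V := hVt.module
  letI : Field (E ⧸ M) := Ideal.Quotient.field M
  by_contra hcon
  push_neg at hcon
  apply hv
  rw [← Module.forall_dual_apply_eq_zero_iff (E ⧸ M) v]
  intro φ
  let l : V →ₗ[E] E ⧸ M :=
    { toFun := φ
      map_add' := φ.map_add
      map_smul' := by
        intro e w
        show φ (e • w) = e • φ w
        rw [← Module.IsTorsionBySet.mk_smul hVt, map_smul, Algebra.smul_def]
        rfl }
  exact hcon l

end LinAlg

section Main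

variable {R X E T : Type u} [CommRing R] [CommRing X] [Algebra R X] [CommRing E] [Algebra R E]
  [CommRing T] [Algebra R T]

/-- The ideal of `E` cut out by a functional on the kernel. -/
def hyp (π : E →ₐ[R] T) (M : Ideal E) (l : ↥(RingHom.ker π) →ₗ[E] E ⧸ M) : Ideal E :=
  Submodule.map (Submodule.subtype (RingHom.ker π)) (LinearMap.ker l)

variable (π : E →ₐ[R] T) (M : Ideal E) (l : ↥(RingHom.ker π) →ₗ[E] E ⧸ M)

theorem mem_hyp {x : E} : x ∈ hyp π M l ↔ ∃ h : x ∈ RingHom.ker π, l ⟨x, h⟩ = 0 := by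
  unfold hyp
  constructor
  · rintro ⟨y, hy, rfl⟩
    exact ⟨y.2, hy⟩
  · rintro ⟨h, hl⟩
    exact ⟨⟨x, h⟩, hl, rfl⟩

theorem hyp_le : hyp π M l ≤ RingHom.ker π := fun _ hx => ((mem_hyp π M l).1 hx).1

/-- The induced map `E ⧸ hyp → T`. -/
def hypMap : E ⧸ hyp π M l →ₐ[R] T :=
  Ideal.Quotient.liftₐ (hyp π M l) π (fun _ hx => RingHom.mem_ker.1 (hyp_le π M l hx))

@[simp] theorem hypMap_mk (e : E) : hypMap π M l (Ideal.Quotient.mk _ e) = π e := rfl

theorem ker_hypMap :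
    RingHom.ker (hypMap π M l) = (RingHom.ker π).map (Ideal.Quotient.mk (hyp π M l)) := by
  ext y
  obtain ⟨e, rfl⟩ := Ideal.Quotient.mk_surjective y
  constructor
  · intro h
    rw [RingHom.mem_ker, hypMap_mk] at h
    exact Ideal.mem_map_of_mem _ (RingHom.mem_ker.2 h)
  · intro h
    obtain ⟨v, hv, hve⟩ := (Ideal.mem_map_iff_of_surjective _ Ideal.Quotient.mk_surjective).1 h
    rw [RingHom.mem_ker, ← hve, hypMap_mk]
    exact RingHom.mem_ker.1 hv

/-- The product of all hyperplane quotients. -/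
abbrev PiQ : Type u := ∀ l : ↥(RingHom.ker π) →ₗ[E] E ⧸ M, E ⧸ hyp π M l

/-- The kernel part of the product. -/
def W : Submodule E (PiQ π M) where
  carrier := {f | ∀ l, f l ∈ (RingHom.ker π).map (Ideal.Quotient.mk (hyp π M l))}
  add_mem' := fun hf hg l => Ideal.add_mem _ (hf l) (hg l)
  zero_mem' := fun l => Ideal.zero_mem _
  smul_mem' := fun e f hf l => by
    show e • f l ∈ _
    rw [Algebra.smul_def]
    exact Ideal.mul_mem_left _ _ (hf l)

theorem mem_W {f : PiQ π M} :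
    f ∈ W π M ↔ ∀ l, f l ∈ (RingHom.ker π).map (Ideal.Quotient.mk (hyp π M l)) := Iff.rfl

/-- The diagonal map. -/
def diag : E →ₐ[R] PiQ π M := AlgHom.pi (fun l => Ideal.Quotient.mkₐ R (hyp π M l))

@[simp] theorem diag_apply (e : E) (l) : diag π M e l = Ideal.Quotient.mk _ e := rfl

theorem smul_eq_diag_mul (e : E) (p : PiQ π M) : e • p = diag π M e * p :=
  funext fun l => Algebra.smul_def e (p l)

/-- The diagonal map on the kernel. -/
def diagV : ↥(RingHom.ker π) →ₗ[E] ↥(W π M) where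
  toFun v := ⟨diag π M v.1, fun l => Ideal.mem_map_of_mem _ v.2⟩
  map_add' v w := Subtype.ext (map_add (diag π M) v.1 w.1)
  map_smul' e v := Subtype.ext (by
    show diag π M (e * v.1) = e • diag π M v.1
    rw [smul_eq_diag_mul, map_mul])

@[simp] theorem diagV_coe (v : ↥(RingHom.ker π)) : ((diagV π M v : W π M) : PiQ π M) = diag π M v.1 :=
  rfl

theorem W_mul_W {p q : PiQ π M} (hV2 : ∀ v ∈ RingHom.ker π, ∀ w ∈ RingHom.ker π, v * w = 0)
    (hp : p ∈ W π M) (hq : q ∈ W π M) : p * q = 0 := by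
  funext l
  obtain ⟨v, hv, hvp⟩ := (Ideal.mem_map_iff_of_surjective _ Ideal.Quotient.mk_surjective).1 (hp l)
  obtain ⟨w, hw, hwq⟩ := (Ideal.mem_map_iff_of_surjective _ Ideal.Quotient.mk_surjective).1 (hq l)
  show p l * q l = 0
  rw [← hvp, ← hwq, ← map_mul, hV2 v hv w hw, map_zero]

theorem W_killed (hMV : ∀ m ∈ M, ∀ v ∈ RingHom.ker π, m * v = 0) :
    ∀ m ∈ M, ∀ w : ↥(W π M), m • w = 0 := by
  intro m hm w
  apply Subtype.ext
  funext l
  obtain ⟨v, hv, hvp⟩ := (Ideal.mem_map_iff_of_surjective _ Ideal.Quotient.mk_surjective).1 (w.2 l)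
  show m • (w.1 l) = 0
  rw [← hvp, Algebra.smul_def]
  show Ideal.Quotient.mk _ m * Ideal.Quotient.mk _ v = 0
  rw [← map_mul, hMV m hm v hv, map_zero]

theorem diagV_injective [M.IsMaximal] (hMV : ∀ m ∈ M, ∀ v ∈ RingHom.ker π, m * v = 0) :
    Function.Injective (diagV π M) := by
  rw [injective_iff_map_eq_zero]
  intro v hv
  by_contra hne
  have hV : ∀ m ∈ M, ∀ v : ↥(RingHom.ker π), m • v = 0 := fun m hm v =>
    Subtype.ext (hMV m hm v.1 v.2)
  obtain ⟨l, hl⟩ := exists_functional M hV v hne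
  have h1 : diag π M v.1 l = 0 := by
    have := congrArg (fun w : ↥(W π M) => (w : PiQ π M) l) hv
    exact this
  rw [diag_apply, Ideal.Quotient.eq_zero_iff_mem, mem_hyp] at h1
  obtain ⟨h, h2⟩ := h1
  exact hl h2

theorem exists_lift_of_hyp (hπ : Function.Surjective π) (g : X →ₐ[R] T) [M.IsMaximal]
    (hMV : ∀ m ∈ M, ∀ v ∈ RingHom.ker π, m * v = 0)
    (hV2 : ∀ v ∈ RingHom.ker π, ∀ w ∈ RingHom.ker π, v * w = 0)
    (hlift : ∀ l : ↥(RingHom.ker π) →ₗ[E] E ⧸ M,
      ∃ c : X →ₐ[R] E ⧸ hyp π M l, ∀ x, hypMap π M l (c x) = g x) :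
    ∃ c : X →ₐ[R] E, ∀ x, π (c x) = g x := by
  classical
  choose c hc using hlift
  let cP : X →ₐ[R] PiQ π M := AlgHom.pi c
  have hcP : ∀ x l, cP x l = c l x := fun _ _ => rfl
  obtain ⟨r, hr⟩ := exists_retraction M (W_killed π M hMV) (diagV π M) (diagV_injective π M hMV)
  have hw : ∀ (x : X) (e : E), π e = g x → cP x - diag π M e ∈ W π M := by
    intro x e he l
    show c l x - Ideal.Quotient.mk _ e ∈ _
    rw [← ker_hypMap, RingHom.mem_ker, map_sub, hc, hypMap_mk, he, sub_self]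
  have hrcongr : ∀ (p q : PiQ π M) (hp : p ∈ W π M) (hq : q ∈ W π M), p = q →
      r ⟨p, hp⟩ = r ⟨q, hq⟩ := by
    rintro p q hp hq rfl
    rfl
  have hr0 : ∀ (p : PiQ π M) (hp : p ∈ W π M), p = 0 → r ⟨p, hp⟩ = 0 := by
    rintro p hp rfl
    exact map_zero r
  have hind : ∀ (x : X) (e e' : E) (he : π e = g x) (he' : π e' = g x),
      e + ((r ⟨_, hw x e he⟩ : ↥(RingHom.ker π)) : E)
        = e' + ((r ⟨_, hw x e' he'⟩ : ↥(RingHom.ker π)) : E) := by
    intro x e e' he he'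
    have hv : e' - e ∈ RingHom.ker π := by rw [RingHom.mem_ker, map_sub, he, he', sub_self]
    have h1 : (⟨_, hw x e he⟩ : ↥(W π M)) = ⟨_, hw x e' he'⟩ + diagV π M ⟨e' - e, hv⟩ := by
      apply Subtype.ext
      show cP x - diag π M e = (cP x - diag π M e') + diag π M (e' - e)
      rw [map_sub]
      abel
    rw [h1, map_add, hr]
    show e + (((r ⟨_, hw x e' he'⟩ : ↥(RingHom.ker π)) : E) + (e' - e)) = _
    ring
  let e₀ : X → E := fun x => Classical.choose (hπ (g x))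
  have he₀ : ∀ x, π (e₀ x) = g x := fun x => Classical.choose_spec (hπ (g x))
  let χ : X → E := fun x => e₀ x + ((r ⟨_, hw x (e₀ x) (he₀ x)⟩ : ↥(RingHom.ker π)) : E)
  have hχ : ∀ (x : X) (e : E) (he : π e = g x),
      χ x = e + ((r ⟨_, hw x e he⟩ : ↥(RingHom.ker π)) : E) :=
    fun x e he => hind x _ e (he₀ x) he
  have hχ1 : χ 1 = 1 := by
    rw [hχ 1 1 (by rw [map_one, map_one]),
      hr0 _ _ (by rw [map_one, map_one, sub_self])]
    simp
  have hχadd : ∀ x y, χ (x + y) = χ x + χ y := by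
    intro x y
    rw [hχ (x + y) (e₀ x + e₀ y) (by rw [map_add, map_add, he₀, he₀])]
    have h1 : (⟨_, hw (x + y) (e₀ x + e₀ y) (by rw [map_add, map_add, he₀, he₀])⟩ : ↥(W π M))
        = ⟨_, hw x (e₀ x) (he₀ x)⟩ + ⟨_, hw y (e₀ y) (he₀ y)⟩ := by
      apply Subtype.ext
      show cP (x + y) - diag π M (e₀ x + e₀ y) = (cP x - diag π M (e₀ x)) + (cP y - diag π M (e₀ y))
      rw [map_add, map_add]
      abel
    rw [h1, map_add]
    show e₀ x + e₀ y + (((r ⟨_, hw x (e₀ x) (he₀ x)⟩ : ↥(RingHom.ker π)) : E)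
      + ((r ⟨_, hw y (e₀ y) (he₀ y)⟩ : ↥(RingHom.ker π)) : E)) = _
    show _ = (e₀ x + ((r ⟨_, hw x (e₀ x) (he₀ x)⟩ : ↥(RingHom.ker π)) : E))
      + (e₀ y + ((r ⟨_, hw y (e₀ y) (he₀ y)⟩ : ↥(RingHom.ker π)) : E))
    ring
  have hχmul : ∀ x y, χ (x * y) = χ x * χ y := by
    intro x y
    rw [hχ (x * y) (e₀ x * e₀ y) (by rw [map_mul, map_mul, he₀, he₀])]
    have h1 : (⟨_, hw (x * y) (e₀ x * e₀ y) (by rw [map_mul, map_mul, he₀, he₀])⟩ : ↥(W π M))
        = e₀ x • ⟨_, hw y (e₀ y) (he₀ y)⟩ + e₀ y • ⟨_, hw x (e₀ x) (he₀ x)⟩ := by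
      apply Subtype.ext
      show cP (x * y) - diag π M (e₀ x * e₀ y)
        = e₀ x • (cP y - diag π M (e₀ y)) + e₀ y • (cP x - diag π M (e₀ x))
      have h2 := W_mul_W π M hV2 (hw x (e₀ x) (he₀ x)) (hw y (e₀ y) (he₀ y))
      rw [smul_eq_diag_mul, smul_eq_diag_mul, map_mul, map_mul]
      linear_combination h2
    rw [h1, map_add, map_smul, map_smul]
    have h3 : ((r ⟨_, hw x (e₀ x) (he₀ x)⟩ : ↥(RingHom.ker π)) : E)
        * ((r ⟨_, hw y (e₀ y) (he₀ y)⟩ : ↥(RingHom.ker π)) : E) = 0 :=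
      hV2 _ (r ⟨_, hw x (e₀ x) (he₀ x)⟩).2 _ (r ⟨_, hw y (e₀ y) (he₀ y)⟩).2
    show e₀ x * e₀ y + (e₀ x * ((r ⟨_, hw y (e₀ y) (he₀ y)⟩ : ↥(RingHom.ker π)) : E)
      + e₀ y * ((r ⟨_, hw x (e₀ x) (he₀ x)⟩ : ↥(RingHom.ker π)) : E))
      = (e₀ x + ((r ⟨_, hw x (e₀ x) (he₀ x)⟩ : ↥(RingHom.ker π)) : E))
      * (e₀ y + ((r ⟨_, hw y (e₀ y) (he₀ y)⟩ : ↥(RingHom.ker π)) : E))
    linear_combination -h3
  have hχalg : ∀ t : R, χ (algebraMap R X t) = algebraMap R E t := by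
    intro t
    rw [hχ (algebraMap R X t) (algebraMap R E t) (by rw [AlgHom.commutes, AlgHom.commutes]),
      hr0 _ _ (by rw [AlgHom.commutes, AlgHom.commutes, sub_self])]
    simp
  have hχ0 : χ 0 = 0 := by
    have := hχadd 0 0
    rw [add_zero] at this
    exact left_eq_add.mp this
  refine ⟨{ toFun := χ, map_one' := hχ1, map_mul' := hχmul, map_zero' := hχ0,
            map_add' := hχadd, commutes' := hχalg }, fun x => ?_⟩
  show π (e₀ x + ((r ⟨_, hw x (e₀ x) (he₀ x)⟩ : ↥(RingHom.ker π)) : E)) = g x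
  rw [map_add, he₀, RingHom.mem_ker.1 (r ⟨_, hw x (e₀ x) (he₀ x)⟩).2, add_zero]

end Main

end Groth.Agent.Lib.SmallExtH3
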