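import Mathlib
import Groth.Agent.Lib.SmallExt_helper3
import Groth.Agent.Lib.CohenLift2_helper3
import Groth.Agent.S9315

/-!
# Formal smoothness from lifting along small extensions (helper3)
-/

set_option autoImplicit false
set_option maxSynthPendingDepth 3
universe u

namespace Groth.Agent.Lib.SmallExtH3

open IsLocalRing

/-- The small-extension lifting property. -/
def SmallLift (R S : Type u) [CommRing R] [CommRing S] [IsLocalRing R] [IsLocalRing S]
    [Algebra R S] : Prop :=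
  ∀ (A : Type u) [CommRing A] [IsLocalRing A] [IsArtinianRing A] [Algebra R A]
    [IsLocalHom (algebraMap R A)] (J : Ideal A), J ^ 2 = ⊥ → Module.length A J = 1 →
    ∀ [IsLocalRing (A ⧸ J)] (ψ : S →ₐ[R] A ⧸ J) [IsLocalHom ψ.toRingHom],
      Function.Bijective (ResidueField.map ψ.toRingHom) →
      ∃ χ : S →ₐ[R] A, (Ideal.Quotient.mkₐ R J).comp χ = ψ

variable {R S : Type u} [CommRing R] [CommRing S] [IsLocalRing R] [IsLocalRing S]
  [Algebra R S] [IsLocalHom (algebraMap R S)]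

theorem quot_pow_facts (k : ℕ) :
    maximalIdeal S ^ (k + 1) ≠ ⊤ := by
  have h𝔮le : maximalIdeal S ^ (k + 1) ≤ maximalIdeal S := Ideal.pow_le_self (Nat.succ_ne_zero k)
  exact fun htop => (maximalIdeal.isMaximal S).ne_top (top_le_iff.1 (htop ▸ h𝔮le))

instance quot_pow_nontrivial (k : ℕ) : Nontrivial (S ⧸ maximalIdeal S ^ (k + 1)) :=
  Ideal.Quotient.nontrivial_iff.2 (quot_pow_facts k)

instance quot_pow_isLocalRing (k : ℕ) : IsLocalRing (S ⧸ maximalIdeal S ^ (k + 1)) :=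
  IsLocalRing.of_surjective' (Ideal.Quotient.mk _) Ideal.Quotient.mk_surjective

instance quot_pow_isLocalHom (k : ℕ) :
    IsLocalHom (Ideal.Quotient.mk (maximalIdeal S ^ (k + 1))) :=
  IsLocalHom.of_surjective _ Ideal.Quotient.mk_surjective

theorem quot_pow_maximalIdeal_pow (k : ℕ) :
    maximalIdeal (S ⧸ maximalIdeal S ^ (k + 1)) ^ (k + 1) = ⊥ := by
  rw [← Groth.Agent.Lib.CohenLiftH3.map_mk_maximalIdeal, ← Ideal.map_pow, Ideal.map_quotient_self]

theorem lift_small [IsNoetherianRing S] (H : SmallLift R S) (k : ℕ) (A : Type u) [CommRing A]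
    [Algebra R A] (π : A →ₐ[R] S ⧸ maximalIdeal S ^ (k + 1)) (hπsurj : Function.Surjective π)
    (hJ'2 : RingHom.ker π ^ 2 = ⊥) (hlen : Module.length A ↥(RingHom.ker π) ≤ 1) :
    ∃ χ : S →ₐ[R] A, ∀ s, π (χ s) = Ideal.Quotient.mk _ s := by
  classical
  by_cases h0 : RingHom.ker π = ⊥
  · have hbij : Function.Bijective π := ⟨(RingHom.injective_iff_ker_eq_bot _).2 h0, hπsurj⟩
    let e := AlgEquiv.ofBijective π hbij
    refine ⟨(e.symm : S ⧸ (maximalIdeal S ^ (k + 1)) →ₐ[R] A).comp (Ideal.Quotient.mkₐ R (maximalIdeal S ^ (k + 1))), fun s => ?_⟩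
    show e (e.symm (Ideal.Quotient.mk (maximalIdeal S ^ (k + 1)) s)) = _
    exact e.apply_symm_apply _
  · have hlen1 : Module.length A ↥(RingHom.ker π) = 1 := by
      refine le_antisymm hlen (Order.one_le_iff_ne_zero.2 ?_)
      rw [Ne, Module.length_eq_zero_iff]
      intro hsub
      exact h0 Submodule.eq_bot_of_subsingleton
    set J' : Ideal A := RingHom.ker π with hJ'
    let eπ : (A ⧸ J') ≃ₐ[R] S ⧸ (maximalIdeal S ^ (k + 1)) := Ideal.quotientKerAlgEquivOfSurjective hπsurj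
    have heπ : ∀ x : A, eπ (Ideal.Quotient.mk J' x) = π x := fun x => rfl
    have hunit : ∀ x : A, IsUnit (π x) → IsUnit x := by
      intro x hx
      rw [← IsNilpotent.isUnit_quotient_mk_iff (I := J') ⟨2, hJ'2⟩]
      have h1 : Ideal.Quotient.mk J' x = eπ.symm (π x) := by
        rw [← heπ, AlgEquiv.symm_apply_apply]
      rw [h1]
      exact hx.map eπ.symm
    haveI : Nontrivial A := ⟨⟨0, 1, fun h01 => by
      have h1 := congrArg π h01
      rw [map_zero, map_one] at h1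
      exact zero_ne_one h1⟩⟩
    haveI : IsLocalRing A := IsLocalRing.of_nonunits_add (by
      intro a b ha hb
      have ha' : π a ∈ nonunits (S ⧸ (maximalIdeal S ^ (k + 1))) := fun hu => ha (hunit a hu)
      have hb' : π b ∈ nonunits (S ⧸ (maximalIdeal S ^ (k + 1))) := fun hu => hb (hunit b hu)
      intro hab
      have h1 : IsUnit (π (a + b)) := hab.map π
      rw [map_add] at h1
      exact IsLocalRing.nonunits_add ha' hb' h1)
    haveI : IsLocalHom (algebraMap R A) := ⟨fun r hr => by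
      have h1 : IsUnit (π (algebraMap R A r)) := hr.map π
      rw [AlgHom.commutes, IsScalarTower.algebraMap_apply R S (S ⧸ (maximalIdeal S ^ (k + 1)))] at h1
      exact isUnit_of_map_unit (algebraMap R S) r
        (isUnit_of_map_unit (Ideal.Quotient.mk (maximalIdeal S ^ (k + 1))) _ h1)⟩
    haveI : IsArtinianRing (S ⧸ (maximalIdeal S ^ (k + 1))) := by
      rw [isArtinianRing_iff_isNilpotent_maximalIdeal]
      exact ⟨k + 1, quot_pow_maximalIdeal_pow k⟩
    haveI : IsArtinianRing A := by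
      letI : Algebra A (S ⧸ (maximalIdeal S ^ (k + 1))) := π.toRingHom.toAlgebra
      haveI : IsArtinian A (S ⧸ (maximalIdeal S ^ (k + 1))) :=
        isArtinian_of_surjective_algebraMap (R := S ⧸ (maximalIdeal S ^ (k + 1))) (M := S ⧸ (maximalIdeal S ^ (k + 1))) (S := A) hπsurj
      haveI : IsArtinian A ↥J' := by
        have hfl : IsFiniteLength A ↥J' :=
          Module.length_ne_top_iff.1 (by rw [hlen1]; exact ENat.one_ne_top)
        exact (isFiniteLength_iff_isNoetherian_isArtinian.1 hfl).2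
      exact isArtinian_of_range_eq_ker J'.subtype (Algebra.linearMap A (S ⧸ (maximalIdeal S ^ (k + 1)))) (by
        rw [Submodule.range_subtype]
        ext x
        rfl)
    haveI : IsLocalRing (A ⧸ J') := eπ.symm.toRingEquiv.isLocalRing
    let ψA : S →ₐ[R] A ⧸ J' := (eπ.symm : S ⧸ (maximalIdeal S ^ (k + 1)) →ₐ[R] A ⧸ J').comp (Ideal.Quotient.mkₐ R (maximalIdeal S ^ (k + 1)))
    have hψA : ∀ s : S, eπ (ψA s) = Ideal.Quotient.mk (maximalIdeal S ^ (k + 1)) s := fun s => by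
      show eπ (eπ.symm (Ideal.Quotient.mk (maximalIdeal S ^ (k + 1)) s)) = _
      rw [AlgEquiv.apply_symm_apply]
    haveI : IsLocalHom ψA.toRingHom := ⟨fun s hs => by
      have h1 : IsUnit (eπ (ψA s)) := hs.map eπ
      rw [hψA] at h1
      exact isUnit_of_map_unit (Ideal.Quotient.mk (maximalIdeal S ^ (k + 1))) s h1⟩
    have hψAsurj : Function.Surjective ψA := by
      intro y
      obtain ⟨s, hs⟩ := Ideal.Quotient.mk_surjective (eπ y)
      refine ⟨s, eπ.injective ?_⟩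
      rw [hψA, hs]
    have hbij : Function.Bijective (ResidueField.map ψA.toRingHom) := by
      refine ⟨RingHom.injective _, fun y => ?_⟩
      obtain ⟨z, rfl⟩ := residue_surjective y
      obtain ⟨s, rfl⟩ := hψAsurj z
      exact ⟨residue S s, ResidueField.map_residue _ _⟩
    obtain ⟨χA, hχA⟩ := H A J' hJ'2 hlen1 ψA hbij
    refine ⟨χA, fun s => ?_⟩
    have h1 : Ideal.Quotient.mk J' (χA s) = ψA s := AlgHom.congr_fun hχA s
    rw [← heπ, h1, hψA]

theorem lift_vector [IsNoetherianRing S] (H : SmallLift R S) (k : ℕ) (E : Type u) [CommRing E]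
    [Algebra R E] (π : E →ₐ[R] S ⧸ maximalIdeal S ^ (k + 1)) (hπ : Function.Surjective π)
    (hM : ∀ x y : E, π x ∈ maximalIdeal (S ⧸ maximalIdeal S ^ (k + 1)) → π y = 0 → x * y = 0) :
    ∃ χ : S →ₐ[R] E, ∀ s, π (χ s) = Ideal.Quotient.mk _ s := by
  classical
  set M : Ideal E := (maximalIdeal (S ⧸ (maximalIdeal S ^ (k + 1)))).comap π with hMdef
  haveI : M.IsMaximal := Ideal.comap_isMaximal_of_surjective π hπ
  have hMV : ∀ m ∈ M, ∀ v ∈ RingHom.ker π, m * v = 0 := fun m hm v hv =>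
    hM m v hm (RingHom.mem_ker.1 hv)
  have hV2 : ∀ v ∈ RingHom.ker π, ∀ w ∈ RingHom.ker π, v * w = 0 := fun v hv w hw =>
    hM v w (by rw [RingHom.mem_ker.1 hv]; exact Ideal.zero_mem _) (RingHom.mem_ker.1 hw)
  apply exists_lift_of_hyp π M hπ (Ideal.Quotient.mkₐ R (maximalIdeal S ^ (k + 1))) hMV hV2
  intro l
  have hsurj : Function.Surjective (hypMap π M l) := by
    intro t
    obtain ⟨e, rfl⟩ := hπ t
    exact ⟨Ideal.Quotient.mk _ e, rfl⟩
  have h2 : RingHom.ker (hypMap π M l) ^ 2 = ⊥ := by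
    rw [ker_hypMap, ← Ideal.map_pow]
    have h3 : RingHom.ker π ^ 2 = ⊥ := by
      rw [eq_bot_iff, sq, Ideal.mul_le]
      intro v hv w hw
      rw [Ideal.mem_bot]
      exact hV2 v hv w hw
    rw [h3, Ideal.map_bot]
  have hlen : Module.length (E ⧸ hyp π M l) ↥(RingHom.ker (hypMap π M l)) ≤ 1 := by
    letI : Field (E ⧸ M) := Ideal.Quotient.field M
    have key : ∀ x y : ↥(RingHom.ker (hypMap π M l)), x ≠ 0 →
        ∃ a : E ⧸ hyp π M l, a • x = y := by
      intro x y hx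
      obtain ⟨e, he⟩ := Ideal.Quotient.mk_surjective x.1
      obtain ⟨e', he'⟩ := Ideal.Quotient.mk_surjective y.1
      have heV : e ∈ RingHom.ker π := by
        rw [RingHom.mem_ker, ← hypMap_mk π M l, he]
        exact RingHom.mem_ker.1 x.2
      have he'V : e' ∈ RingHom.ker π := by
        rw [RingHom.mem_ker, ← hypMap_mk π M l, he']
        exact RingHom.mem_ker.1 y.2
      have hle : l ⟨e, heV⟩ ≠ 0 := by
        intro h0
        apply hx
        apply Subtype.ext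
        show x.1 = 0
        rw [← he, Ideal.Quotient.eq_zero_iff_mem, mem_hyp]
        exact ⟨heV, h0⟩
      obtain ⟨a₀, ha₀⟩ := Ideal.Quotient.mk_surjective (l ⟨e', he'V⟩ * (l ⟨e, heV⟩)⁻¹)
      have hmem : a₀ * e - e' ∈ hyp π M l := by
        rw [mem_hyp]
        refine ⟨Ideal.sub_mem _ (Ideal.mul_mem_left _ _ heV) he'V, ?_⟩
        have h4 : (⟨a₀ * e - e', Ideal.sub_mem _ (Ideal.mul_mem_left _ _ heV) he'V⟩ :
            ↥(RingHom.ker π)) = a₀ • ⟨e, heV⟩ - ⟨e', he'V⟩ := rfl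
        rw [h4, map_sub, map_smul, Algebra.smul_def]
        show Ideal.Quotient.mk M a₀ * l ⟨e, heV⟩ - l ⟨e', he'V⟩ = 0
        rw [ha₀, mul_assoc, inv_mul_cancel₀ hle, mul_one, sub_self]
      refine ⟨Ideal.Quotient.mk _ a₀, Subtype.ext ?_⟩
      show Ideal.Quotient.mk _ a₀ * x.1 = y.1
      rw [← he, ← he', ← map_mul]
      exact Ideal.Quotient.eq.2 hmem
    by_cases hsub : Subsingleton ↥(RingHom.ker (hypMap π M l))
    · rw [Module.length_eq_zero_iff.2 hsub]
      exact zero_le_one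
    · rw [not_subsingleton_iff_nontrivial] at hsub
      have hsimple : IsSimpleModule (E ⧸ hyp π M l) ↥(RingHom.ker (hypMap π M l)) :=
        isSimpleModule_iff_toSpanSingleton_surjective.2 ⟨hsub, fun x hx y => by
          obtain ⟨a, ha⟩ := key x y hx
          exact ⟨a, ha⟩⟩
      rw [Module.length_eq_one_iff.2 hsimple]
  obtain ⟨χ, hχ⟩ := lift_small H k (E ⧸ hyp π M l) (hypMap π M l) hsurj h2 hlen
  exact ⟨χ, hχ⟩

theorem lift_G1 [IsNoetherianRing S] (H : SmallLift R S) (A B : Type u) [CommRing A]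
    [Algebra R A] [CommRing B] [Algebra R B] (p : A →ₐ[R] B) (hp : Function.Surjective p)
    (ψ : S →ₐ[R] B) (k : ℕ) (hk : ∀ x ∈ maximalIdeal S ^ k, ψ x = 0)
    (hI : ∀ a l : A, p a ∈ Ideal.map ψ (maximalIdeal S) → p l = 0 → a * l = 0) :
    ∃ χ : S →ₐ[R] A, p.comp χ = ψ := by
  classical
  set 𝔮 : Ideal S := maximalIdeal S ^ (k + 1) with h𝔮
  have hψ𝔮 : ∀ x ∈ 𝔮, ψ x = 0 := fun x hx =>
    hk x (Ideal.pow_le_pow_right (Nat.le_succ k) hx)
  let ψbar : S ⧸ 𝔮 →ₐ[R] B := Ideal.Quotient.liftₐ 𝔮 ψ hψ𝔮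
  have hψbar : ∀ s : S, ψbar (Ideal.Quotient.mk 𝔮 s) = ψ s := fun s => rfl
  let f₁ : A × (S ⧸ 𝔮) →ₐ[R] B := p.comp (AlgHom.fst R A (S ⧸ 𝔮))
  let f₂ : A × (S ⧸ 𝔮) →ₐ[R] B := ψbar.comp (AlgHom.snd R A (S ⧸ 𝔮))
  let E : Subalgebra R (A × (S ⧸ 𝔮)) := AlgHom.equalizer f₁ f₂
  have hE : ∀ x : A × (S ⧸ 𝔮), x ∈ E ↔ p x.1 = ψbar x.2 := fun x =>
    AlgHom.mem_equalizer f₁ f₂ x
  let π : E →ₐ[R] S ⧸ 𝔮 := (AlgHom.snd R A (S ⧸ 𝔮)).comp E.val
  have hπ : ∀ x : E, π x = x.1.2 := fun x => rfl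
  have hπsurj : Function.Surjective π := by
    intro s
    obtain ⟨c, hc⟩ := hp (ψbar s)
    exact ⟨⟨(c, s), (hE _).2 hc⟩, rfl⟩
  have hM : ∀ x y : E, π x ∈ maximalIdeal (S ⧸ 𝔮) → π y = 0 → x * y = 0 := by
    intro x y hx hy
    rw [← Groth.Agent.Lib.CohenLiftH3.map_mk_maximalIdeal, hπ] at hx
    obtain ⟨s, hs, hsx⟩ := (Ideal.mem_map_iff_of_surjective _ Ideal.Quotient.mk_surjective).1 hx
    have h1 : p x.1.1 ∈ Ideal.map ψ (maximalIdeal S) := by
      rw [(hE x.1).1 x.2, ← hsx, hψbar]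
      exact Ideal.mem_map_of_mem _ hs
    have h2 : p y.1.1 = 0 := by
      rw [(hE y.1).1 y.2, ← hπ, hy, map_zero]
    apply Subtype.ext
    apply Prod.ext
    · show x.1.1 * y.1.1 = 0
      exact hI _ _ h1 h2
    · show x.1.2 * y.1.2 = 0
      rw [← hπ y, hy, mul_zero]
  obtain ⟨χE, hχE⟩ := lift_vector H k E π hπsurj hM
  refine ⟨(AlgHom.fst R A (S ⧸ 𝔮)).comp (E.val.comp χE), ?_⟩
  ext s
  show p (χE s).1.1 = ψ s
  rw [(hE (χE s).1).1 (χE s).2, ← hπ, hχE, hψbar]

theorem lift_Gn [IsNoetherianRing S] (H : SmallLift R S) (n : ℕ) :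
    ∀ (A B : Type u) [CommRing A] [Algebra R A] [CommRing B] [Algebra R B] (p : A →ₐ[R] B),
      Function.Surjective p → ∀ (ψ : S →ₐ[R] B) (k : ℕ), (∀ x ∈ maximalIdeal S ^ k, ψ x = 0) →
      (Ideal.comap p (Ideal.map ψ (maximalIdeal S))) ^ n * RingHom.ker p = ⊥ →
      ∃ χ : S →ₐ[R] A, p.comp χ = ψ := by
  induction n with
  | zero =>
    intro A B _ _ _ _ p hp ψ k hk hI
    rw [pow_zero, Ideal.one_eq_top, Ideal.top_mul] at hI
    have hbij : Function.Bijective p := ⟨(RingHom.injective_iff_ker_eq_bot _).2 hI, hp⟩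
    let e := AlgEquiv.ofBijective p hbij
    refine ⟨(e.symm : B →ₐ[R] A).comp ψ, ?_⟩
    ext s
    show e (e.symm (ψ s)) = _
    exact e.apply_symm_apply _
  | succ n ih =>
    intro A B _ _ _ _ p hp ψ k hk hI
    set I : Ideal A := Ideal.comap p (Ideal.map ψ (maximalIdeal S)) with hIdef
    set L : Ideal A := I ^ n * RingHom.ker p with hL
    have hLker : L ≤ RingHom.ker p := Ideal.mul_le_right
    have hkerI : RingHom.ker p ≤ I := by
      intro x hx
      rw [hIdef, Ideal.mem_comap, RingHom.mem_ker.1 hx]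
      exact Ideal.zero_mem _
    let p' : A ⧸ L →ₐ[R] B := Ideal.Quotient.liftₐ L p (fun a ha => RingHom.mem_ker.1 (hLker ha))
    have hp' : ∀ a : A, p' (Ideal.Quotient.mk L a) = p a := fun a => rfl
    have hp'surj : Function.Surjective p' := by
      intro b
      obtain ⟨a, rfl⟩ := hp b
      exact ⟨Ideal.Quotient.mk L a, rfl⟩
    have hI'le : Ideal.comap p' (Ideal.map ψ (maximalIdeal S)) ≤ I.map (Ideal.Quotient.mk L) := by
      intro y hy
      obtain ⟨a, rfl⟩ := Ideal.Quotient.mk_surjective y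
      rw [Ideal.mem_comap, hp'] at hy
      exact Ideal.mem_map_of_mem _ hy
    have hker'le : RingHom.ker p' ≤ (RingHom.ker p).map (Ideal.Quotient.mk L) := by
      intro y hy
      obtain ⟨a, rfl⟩ := Ideal.Quotient.mk_surjective y
      rw [RingHom.mem_ker, hp'] at hy
      exact Ideal.mem_map_of_mem _ (RingHom.mem_ker.2 hy)
    have hI' : (Ideal.comap p' (Ideal.map ψ (maximalIdeal S))) ^ n * RingHom.ker p' = ⊥ := by
      rw [eq_bot_iff]
      refine le_trans (Ideal.mul_mono (Ideal.pow_right_mono hI'le n) hker'le) ?_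
      rw [← Ideal.map_pow, ← Ideal.map_mul, ← hL, Ideal.map_quotient_self]
    obtain ⟨χ₁, hχ₁⟩ := ih (A ⧸ L) B p' hp'surj ψ k hk hI'
    have hχ₁' : ∀ s, p' (χ₁ s) = ψ s := fun s => AlgHom.congr_fun hχ₁ s
    -- `I ^ k ≤ ker p`
    have hIk : I ^ k ≤ RingHom.ker p := by
      have h1 : Ideal.map p (I ^ k) ≤ ⊥ := by
        rw [Ideal.map_pow]
        have h2 : Ideal.map p I ≤ Ideal.map ψ (maximalIdeal S) := Ideal.map_comap_le
        refine le_trans (Ideal.pow_right_mono h2 k) ?_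
        rw [← Ideal.map_pow, Ideal.map_le_iff_le_comap]
        intro x hx
        rw [Ideal.mem_comap, hk x hx]
        exact Ideal.zero_mem _
      intro x hx
      rw [RingHom.mem_ker, ← Ideal.mem_bot]
      exact h1 (Ideal.mem_map_of_mem _ hx)
    -- the image of `𝔪` under `χ₁`
    have hmapχ₁ : Ideal.map χ₁ (maximalIdeal S) ≤ I.map (Ideal.Quotient.mk L) := by
      rw [Ideal.map_le_iff_le_comap]
      intro s hs
      rw [Ideal.mem_comap]
      obtain ⟨a, ha⟩ := Ideal.Quotient.mk_surjective (χ₁ s)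
      rw [← ha]
      apply Ideal.mem_map_of_mem
      rw [hIdef, Ideal.mem_comap, ← hp', ha, hχ₁']
      exact Ideal.mem_map_of_mem _ hs
    have hk' : ∀ x ∈ maximalIdeal S ^ (k + n), χ₁ x = 0 := by
      intro x hx
      have h1 : χ₁ x ∈ Ideal.map χ₁ (maximalIdeal S ^ (k + n)) := Ideal.mem_map_of_mem _ hx
      rw [Ideal.map_pow] at h1
      have h2 := Ideal.pow_right_mono hmapχ₁ (k + n) h1
      rw [← Ideal.map_pow] at h2
      have h3 : I ^ (k + n) ≤ L := by
        rw [add_comm, pow_add, hL]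
        exact Ideal.mul_mono le_rfl hIk
      have h4 := Ideal.map_mono (f := Ideal.Quotient.mk L) h3 h2
      rw [Ideal.map_quotient_self, Ideal.mem_bot] at h4
      exact h4
    have hI1 : ∀ a l : A, (Ideal.Quotient.mkₐ R L) a ∈ Ideal.map χ₁ (maximalIdeal S) →
        (Ideal.Quotient.mkₐ R L) l = 0 → a * l = 0 := by
      intro a l ha hl
      have haI : a ∈ I := by
        rw [hIdef, Ideal.mem_comap]
        have h1 : p' (Ideal.Quotient.mk L a) ∈ Ideal.map p' (Ideal.map χ₁ (maximalIdeal S)) :=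
          Ideal.mem_map_of_mem _ ha
        have h2 : Ideal.map p' (Ideal.map χ₁ (maximalIdeal S)) ≤ Ideal.map ψ (maximalIdeal S) := by
          rw [Ideal.map_le_iff_le_comap, Ideal.map_le_iff_le_comap]
          intro s hs
          show p' (χ₁ s) ∈ Ideal.map ψ (maximalIdeal S)
          rw [hχ₁']
          exact Ideal.mem_map_of_mem _ hs
        have h3 := h2 h1
        rw [hp'] at h3
        exact h3
      have hlL : l ∈ L := Ideal.Quotient.eq_zero_iff_mem.1 hl
      have h3 : a * l ∈ I * L := Ideal.mul_mem_mul haI hlL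
      rw [hL, ← mul_assoc, ← pow_succ', hI, Ideal.mem_bot] at h3
      exact h3
    obtain ⟨χ, hχ⟩ := lift_G1 H A (A ⧸ L) (Ideal.Quotient.mkₐ R L)
      (Ideal.Quotient.mkₐ_surjective R L) χ₁ (k + n) hk' hI1
    refine ⟨χ, ?_⟩
    ext s
    have h1 : Ideal.Quotient.mk L (χ s) = χ₁ s := AlgHom.congr_fun hχ s
    show p (χ s) = ψ s
    rw [← hp', h1, hχ₁']

theorem adic_of_smallLift [IsNoetherianRing S] (H : SmallLift R S) :
    CAlgX.IsAdicFormallySmooth R S (maximalIdeal S) := by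
  classical
  refine (Groth.Agent.S9315.result).2 ?_
  intro A _ _ _ _ J hJ hn _ ψ _ _
  obtain ⟨n, hn⟩ := hn
  have hk : ∀ x ∈ maximalIdeal S ^ n, ψ x = 0 := by
    intro x hx
    have h1 : (maximalIdeal S).map ψ.toRingHom ≤ maximalIdeal (A ⧸ J) :=
      ((local_hom_TFAE ψ.toRingHom).out 0 2).1 ‹IsLocalHom ψ.toRingHom›
    have h2 : ψ.toRingHom x ∈ ((maximalIdeal S) ^ n).map ψ.toRingHom :=
      Ideal.mem_map_of_mem _ hx
    rw [Ideal.map_pow] at h2
    have h3 := Ideal.pow_right_mono h1 n h2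
    rw [← Groth.Agent.Lib.CohenLiftH3.map_mk_maximalIdeal, ← Ideal.map_pow, hn, Ideal.map_bot] at h3
    exact h3
  have hI : (Ideal.comap (Ideal.Quotient.mkₐ R J) (Ideal.map ψ (maximalIdeal S))) ^ n
      * RingHom.ker (Ideal.Quotient.mkₐ R J) = ⊥ := by
    have h1 : Ideal.comap (Ideal.Quotient.mkₐ R J) (Ideal.map ψ (maximalIdeal S))
        ≤ maximalIdeal A := by
      intro x hx
      rw [Ideal.mem_comap] at hx
      have h2 : (maximalIdeal S).map ψ.toRingHom ≤ maximalIdeal (A ⧸ J) :=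
        ((local_hom_TFAE ψ.toRingHom).out 0 2).1 ‹IsLocalHom ψ.toRingHom›
      have h3 : Ideal.Quotient.mk J x ∈ maximalIdeal (A ⧸ J) := h2 hx
      rw [mem_maximalIdeal, mem_nonunits_iff] at h3 ⊢
      exact fun hu => h3 (hu.map (Ideal.Quotient.mk J))
    rw [eq_bot_iff]
    refine le_trans (Ideal.mul_mono (Ideal.pow_right_mono h1 n) le_rfl) ?_
    rw [hn, Ideal.bot_mul]
  exact lift_Gn H n A (A ⧸ J) (Ideal.Quotient.mkₐ R J) (Ideal.Quotient.mkₐ_surjective R J) ψ n hk hI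

end Groth.Agent.Lib.SmallExtH3
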