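import Mathlib
import Groth.Agent.S2453
import Groth.Agent.Lib.SmallExt2_helper3
import Groth.Agent.Lib.PerfectGR_helper3

/-!
# Regularity of local algebras with residue field `k` via infinitesimal lifting (helper8)
APPEND-ONLY once landed.
-/

set_option autoImplicit false
set_option maxSynthPendingDepth 3
universe u

namespace Groth.Agent.Lib.RegLiftH8

open IsLocalRing

/-- Decompose an element of a local `k`-algebra with residue field `k`. -/
theorem exists_sub_mem_maximalIdeal {k A : Type*} [Field k] [CommRing A] [IsLocalRing A]
    [Algebra k A] (h : Function.Surjective (algebraMap k (ResidueField A))) (a : A) :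
    ∃ c : k, a - algebraMap k A c ∈ maximalIdeal A := by
  obtain ⟨c, hc⟩ := h (residue A a)
  refine ⟨c, ?_⟩
  rw [← residue_eq_zero_iff, map_sub, sub_eq_zero, ← hc]
  rfl

/-- Ideals killed by a power of the maximal ideal are finite dimensional. -/
theorem fg_restrictScalars_of_pow_mul_eq_bot {k A : Type*} [Field k] [CommRing A] [IsLocalRing A]
    [IsNoetherianRing A] [Algebra k A]
    (h : Function.Surjective (algebraMap k (ResidueField A))) :
    ∀ (n : ℕ) (I : Ideal A), maximalIdeal A ^ n * I = ⊥ → (I.restrictScalars k).FG := by
  intro n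
  induction n with
  | zero =>
    intro I hI
    rw [pow_zero, Ideal.one_eq_top, Ideal.top_mul] at hI
    subst hI
    rw [Submodule.restrictScalars_bot]
    exact Submodule.fg_bot
  | succ n ih =>
    intro I hI
    have h1 : ((maximalIdeal A * I).restrictScalars k).FG := by
      apply ih
      rw [← mul_assoc, ← pow_succ, hI]
    obtain ⟨s, hs⟩ := (isNoetherian_def.1 ‹IsNoetherianRing A›) I
    have h2 : I.restrictScalars k =
        Submodule.span k (s : Set A) ⊔ (maximalIdeal A * I).restrictScalars k := by
      apply le_antisymm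
      · intro x hx
        have hx' : x ∈ Submodule.span A (s : Set A) := by rw [hs]; exact hx
        induction hx' using Submodule.span_induction with
        | mem y hy => exact Submodule.mem_sup_left (Submodule.subset_span hy)
        | zero => exact Submodule.zero_mem _
        | add y z hy hz ihy ihz =>
          exact Submodule.add_mem _ (ihy (by rw [← hs]; exact hy)) (ihz (by rw [← hs]; exact hz))
        | smul a y hy ihy =>
          have hyI : y ∈ I := by rw [← hs]; exact hy
          obtain ⟨c, hc⟩ := exists_sub_mem_maximalIdeal h a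
          have h3 : a • y = c • y + (a - algebraMap k A c) * y := by
            rw [smul_eq_mul, Algebra.smul_def]; ring
          rw [h3]
          refine Submodule.add_mem _ (Submodule.smul_mem _ c (ihy hyI)) ?_
          exact Submodule.mem_sup_right (Ideal.mul_mem_mul hc hyI)
      · refine sup_le ?_ ?_
        · rw [Submodule.span_le]
          intro y hy
          have : y ∈ Submodule.span A (s : Set A) := Submodule.subset_span hy
          rw [hs] at this
          exact this
        · intro x hx
          rw [Submodule.restrictScalars_mem] at hx ⊢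
          have h5 : maximalIdeal A * I ≤ I := Ideal.mul_le_right
          exact h5 hx
    rw [h2]
    have h6 : (Submodule.span k (s : Set A)).FG := Submodule.fg_span s.finite_toSet
    exact Submodule.FG.sup h6 h1

/-- An Artinian local `k`-algebra with residue field `k` is finite dimensional over `k`. -/
theorem finite_of_isArtinianRing {k A : Type*} [Field k] [CommRing A] [IsLocalRing A]
    [IsArtinianRing A] [Algebra k A]
    (h : Function.Surjective (algebraMap k (ResidueField A))) : Module.Finite k A := by
  obtain ⟨n, hn⟩ := IsArtinianRing.isNilpotent_jacobson_bot (R := A)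
  rw [jacobson_eq_maximalIdeal ⊥ bot_ne_top] at hn
  have h1 := fg_restrictScalars_of_pow_mul_eq_bot h n ⊤ (by rw [hn]; exact Ideal.bot_mul _)
  rw [Submodule.restrictScalars_top] at h1
  exact ⟨h1⟩

theorem isLocalHom_algebraMap_field (k A : Type*) [Field k] [CommRing A] [Nontrivial A]
    [Algebra k A] : IsLocalHom (algebraMap k A) := by
  refine ⟨fun a ha => ?_⟩
  by_cases h0 : a = 0
  · subst h0
    rw [map_zero] at ha
    exact absurd ha not_isUnit_zero
  · exact isUnit_iff_ne_zero.2 h0

/-- A `k`-algebra map from a local `k`-algebra with residue field `k` to a quotient of a finite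
local algebra over an algebraically closed field kills a power of the maximal ideal. -/
theorem exists_pow_map_eq_zero (k : Type u) [Field k] [IsAlgClosed k]
    (A : Type u) [CommRing A] [IsLocalRing A] [Algebra k A]
    (B' : Type u) [CommRing B'] [IsLocalRing B'] [Algebra k B'] [Module.Finite k B']
    (J : Ideal B') (hJ : J ^ 2 = ⊥) (f : A →ₐ[k] B' ⧸ J) :
    ∃ n : ℕ, ∀ x ∈ maximalIdeal A ^ n, f x = 0 := by
  haveI : IsArtinianRing B' := IsArtinianRing.of_finite k B'
  obtain ⟨n, hn⟩ := IsArtinianRing.isNilpotent_jacobson_bot (R := B')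
  rw [jacobson_eq_maximalIdeal ⊥ bot_ne_top] at hn
  replace hn : maximalIdeal B' ^ n = ⊥ := hn
  have hsurj : Function.Surjective (algebraMap k (ResidueField B')) :=
    (IsAlgClosed.algebraMap_bijective_of_isIntegral (k := k)).2
  have hJtop : J ≠ ⊤ := by
    intro h
    rw [h, Ideal.top_pow] at hJ
    exact top_ne_bot hJ
  haveI : Nontrivial (B' ⧸ J) := Ideal.Quotient.nontrivial_iff.2 hJtop
  have key : (maximalIdeal A).map f.toRingHom ≤ (maximalIdeal B').map (Ideal.Quotient.mk J) := by
    rw [Ideal.map_le_iff_le_comap]
    intro x hx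
    rw [Ideal.mem_comap]
    obtain ⟨b, hb⟩ := Ideal.Quotient.mk_surjective (f x)
    obtain ⟨c, hc⟩ := exists_sub_mem_maximalIdeal hsurj b
    by_cases hc0 : c = 0
    · subst hc0
      rw [map_zero, sub_zero] at hc
      show f x ∈ _
      rw [← hb]
      exact Ideal.mem_map_of_mem _ hc
    · exfalso
      have hu : IsUnit (x - algebraMap k A c) := by
        by_contra hnu
        have h1 : x - algebraMap k A c ∈ maximalIdeal A := (mem_maximalIdeal _).2 hnu
        have h2 : algebraMap k A c ∈ maximalIdeal A := by
          have := Ideal.sub_mem _ hx h1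
          rwa [sub_sub_cancel] at this
        exact (mem_maximalIdeal _).1 h2 ((isUnit_iff_ne_zero.2 hc0).map (algebraMap k A))
      have hfu : IsUnit (f (x - algebraMap k A c)) := hu.map f
      have h3 : f (x - algebraMap k A c) = Ideal.Quotient.mk J (b - algebraMap k B' c) := by
        rw [map_sub, map_sub, hb, AlgHom.commutes]
        rfl
      have h4 : (b - algebraMap k B' c) ^ n = 0 := by
        have := Ideal.pow_mem_pow hc n
        rwa [hn, Ideal.mem_bot] at this
      have h5 : f (x - algebraMap k A c) ^ n = 0 := by
        rw [h3, ← map_pow, h4, map_zero]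
      exact not_isUnit_zero (h5 ▸ hfu.pow n)
  refine ⟨n, fun x hx => ?_⟩
  have h1 : f.toRingHom x ∈ (maximalIdeal A ^ n).map f.toRingHom := Ideal.mem_map_of_mem _ hx
  rw [Ideal.map_pow] at h1
  have h2 := Ideal.pow_right_mono key n h1
  rw [← Ideal.map_pow, hn, Ideal.map_bot, Ideal.mem_bot] at h2
  exact h2

/-- In the situation of a small lifting problem, the residue field of the source is `k`. -/
theorem residue_surjective_of_bijective (k : Type u) [Field k]
    (A : Type u) [CommRing A] [IsLocalRing A] [Algebra k A]
    (hres : Function.Surjective (algebraMap k (ResidueField A)))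
    (A' : Type u) [CommRing A'] [IsLocalRing A'] [Algebra k A'] (J : Ideal A')
    [IsLocalRing (A' ⧸ J)] (ψ : A →ₐ[k] A' ⧸ J) [IsLocalHom ψ.toRingHom]
    (hbij : Function.Bijective (ResidueField.map ψ.toRingHom)) :
    Function.Surjective (algebraMap k (ResidueField A')) := by
  intro y
  obtain ⟨a', rfl⟩ := residue_surjective y
  obtain ⟨w, hw⟩ := hbij.2 (residue (A' ⧸ J) (Ideal.Quotient.mk J a'))
  obtain ⟨c, rfl⟩ := hres w
  refine ⟨c, ?_⟩
  have h1 : algebraMap k (ResidueField A) c = residue A (algebraMap k A c) := rfl
  rw [h1, ResidueField.map_residue] at hw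
  have h2 : ψ.toRingHom (algebraMap k A c) = Ideal.Quotient.mk J (algebraMap k A' c) := by
    show ψ (algebraMap k A c) = _
    rw [AlgHom.commutes]
    rfl
  rw [h2, ← sub_eq_zero, ← map_sub, ← map_sub, residue_eq_zero_iff] at hw
  have h3 : algebraMap k A' c - a' ∈ maximalIdeal A' := by
    rw [mem_maximalIdeal, mem_nonunits_iff]
    intro hu
    exact (mem_maximalIdeal _).1 hw (hu.map (Ideal.Quotient.mk J))
  have h4 : residue A' (algebraMap k A' c - a') = 0 := (residue_eq_zero_iff _).2 h3
  rw [map_sub, sub_eq_zero] at h4
  rw [← h4]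
  rfl

theorem main11451 (k : Type u) [Field k] [IsAlgClosed k]
    (A : Type u) [CommRing A] [IsLocalRing A] [Algebra k A] [Algebra.EssFiniteType k A]
    (hres : Function.Surjective (algebraMap k (IsLocalRing.ResidueField A))) :
    IsRegularLocalRing A ↔
      ∀ (B' : Type u) [CommRing B'] [IsLocalRing B'] [Algebra k B'] [Module.Finite k B']
        (J : Ideal B'), J ^ 2 = ⊥ → ∀ f : A →ₐ[k] B' ⧸ J,
          ∃ g : A →ₐ[k] B', (Ideal.Quotient.mkₐ k J).comp g = f := by
  haveI : IsNoetherianRing A := Algebra.EssFiniteType.isNoetherianRing k A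
  haveI : Algebra.IsGeometricallyReduced k (ResidueField A) :=
    Groth.Agent.Lib.PerfectGRH3.isGeometricallyReduced_of_perfectField k _
  have T := (Groth.Agent.S2453.result (k := k) (A := A)).out 0 3
  rw [← T]
  constructor
  · intro hsm B' _ _ _ _ J hJ f
    exact hsm B' J hJ f (exists_pow_map_eq_zero k A B' J hJ f)
  · intro H
    haveI : IsLocalHom (algebraMap k A) := isLocalHom_algebraMap_field k A
    apply Groth.Agent.Lib.SmallExtH3.adic_of_smallLift
    intro A' _ _ _ _ _ J hJ hlen _ ψ _ hbij
    haveI : Module.Finite k A' :=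
      finite_of_isArtinianRing (residue_surjective_of_bijective k A hres A' J ψ hbij)
    exact H A' J hJ ψ

end Groth.Agent.Lib.RegLiftH8
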