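import Mathlib
import Groth.Agent.Lib.JetReg2_helper8
import Groth.Agent.Lib.RegLift1_helper8

/-!
# Jets and regularity: global part (helper8)
APPEND-ONLY once landed.
-/

set_option autoImplicit false
set_option maxHeartbeats 400000
universe u

namespace Groth.Agent.Lib.JetRegH8

open Polynomial IsLocalRing

section glob
variable (k : Type u) [Field k] [IsAlgClosed k] (A : Type u) [CommRing A] [Algebra k A]
  [Algebra.FiniteType k A] (m : Ideal A) [m.IsMaximal]

theorem quot_surjective : Function.Surjective (algebraMap k (A ⧸ m)) := by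
  letI := Ideal.Quotient.field m
  haveI : Algebra.FiniteType k (A ⧸ m) := inferInstance
  haveI : Module.Finite k (A ⧸ m) := finite_of_finite_type_of_isJacobsonRing k (A ⧸ m)
  exact (IsAlgClosed.algebraMap_bijective_of_isIntegral (k := k) (K := A ⧸ m)).2

theorem exists_const_A (a : A) : ∃ c : k, a - algebraMap k A c ∈ m := by
  obtain ⟨c, hc⟩ := quot_surjective k A m (Ideal.Quotient.mk m a)
  refine ⟨c, ?_⟩
  rw [← Ideal.Quotient.eq, ← hc]
  rfl

theorem hres_loc :
    Function.Surjective (algebraMap k (ResidueField (Localization.AtPrime m))) := by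
  intro y
  obtain ⟨a, rfl⟩ := Ideal.algebraMap_residueField_surjective m y
  obtain ⟨c, hc⟩ := exists_const_A k A m a
  refine ⟨c, ?_⟩
  have h1 : algebraMap A m.ResidueField (a - algebraMap k A c) = 0 :=
    (Ideal.algebraMap_residueField_eq_zero).2 hc
  rw [map_sub, sub_eq_zero] at h1
  rw [h1, ← IsScalarTower.algebraMap_apply]

variable {k A m}

theorem isUnit_of_nilp {B : Type*} [CommRing B] [Algebra k B] (φ : A →ₐ[k] B)
    (hφ : ∀ a ∈ m, IsNilpotent (φ a)) (s : m.primeCompl) : IsUnit (φ s) := by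
  obtain ⟨c, hc⟩ := exists_const_A k A m (s : A)
  have hc0 : c ≠ 0 := by
    intro h0
    rw [h0, map_zero, sub_zero] at hc
    exact s.2 hc
  have e : φ s = algebraMap k B c + φ ((s : A) - algebraMap k A c) := by
    rw [map_sub, AlgHom.commutes]; ring
  rw [e]
  exact (hφ _ hc).isUnit_add_left_of_commute ((isUnit_iff_ne_zero.2 hc0).map _) (Commute.all _ _)

/-- Extension of a jet to the local ring. -/
noncomputable def extend {B : Type*} [CommRing B] [Algebra k B] (φ : A →ₐ[k] B)
    (hφ : ∀ a ∈ m, IsNilpotent (φ a)) : Localization.AtPrime m →ₐ[k] B :=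
  IsLocalization.liftAlgHom (M := m.primeCompl) (f := φ) (isUnit_of_nilp φ hφ)

theorem extend_comp {B : Type*} [CommRing B] [Algebra k B] (φ : A →ₐ[k] B)
    (hφ : ∀ a ∈ m, IsNilpotent (φ a)) :
    (extend φ hφ).comp (IsScalarTower.toAlgHom k A (Localization.AtPrime m)) = φ := by
  ext a
  simp [extend]

theorem algHom_ext_loc {B : Type*} [CommRing B] [Algebra k B]
    (f g : Localization.AtPrime m →ₐ[k] B)
    (h : f.comp (IsScalarTower.toAlgHom k A (Localization.AtPrime m))
      = g.comp (IsScalarTower.toAlgHom k A (Localization.AtPrime m))) : f = g := by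
  apply AlgHom.coe_ringHom_injective
  apply IsLocalization.ringHom_ext m.primeCompl
  ext a
  exact AlgHom.congr_fun h a

end glob

section mainthm
variable (k : Type u) [Field k] [IsAlgClosed k] (A : Type u) [CommRing A] [Algebra k A]
  [Algebra.FiniteType k A] (m : Ideal A) [m.IsMaximal]

theorem factor_eq (l : ℕ) :
    Ideal.Quotient.factorₐ k (hle k l)
      = (DoubleQuot.quotQuotEquivQuotOfLEₐ k (hle k l)).toAlgHom.comp
          (Ideal.Quotient.mkₐ k ((Ideal.span {(X : k[X]) ^ l}).map
            (Ideal.Quotient.mkₐ k (Ideal.span {(X : k[X]) ^ (l + 1)})))) := by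
  apply Ideal.Quotient.algHom_ext
  ext
  rfl

theorem J_sq (l : ℕ) (hl : 1 ≤ l) :
    ((Ideal.span {(X : k[X]) ^ l}).map
      (Ideal.Quotient.mkₐ k (Ideal.span {(X : k[X]) ^ (l + 1)}))) ^ 2 = ⊥ := by
  rw [← Ideal.map_pow, Ideal.span_singleton_pow, ← pow_mul]
  rw [Ideal.map_eq_bot_iff_le_ker]
  have : RingHom.ker (Ideal.Quotient.mkₐ k (Ideal.span {(X : k[X]) ^ (l + 1)}))
      = Ideal.span {(X : k[X]) ^ (l + 1)} := Ideal.Quotient.mkₐ_ker k _
  rw [this, Ideal.span_singleton_le_span_singleton]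
  exact pow_dvd_pow _ (by nlinarith)

theorem main18832 :
    IsRegularLocalRing (Localization.AtPrime m) ↔
      ∀ (l : ℕ), 1 ≤ l →
        ∀ (φ : A →ₐ[k] (k[X] ⧸ Ideal.span {(X : k[X]) ^ l})),
          (∀ a ∈ m, IsNilpotent (φ a)) →
          ∃ ψ : A →ₐ[k] (k[X] ⧸ Ideal.span {(X : k[X]) ^ (l + 1)}),
            (Ideal.Quotient.factorₐ k
                (Ideal.span_singleton_le_span_singleton.mpr
                  (pow_dvd_pow (X : k[X]) (Nat.le_succ l)))).comp ψ = φ := by
  haveI : Algebra.EssFiniteType k (Localization.AtPrime m) :=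
    Algebra.EssFiniteType.comp k A (Localization.AtPrime m)
  haveI : IsNoetherianRing (Localization.AtPrime m) :=
    Algebra.EssFiniteType.isNoetherianRing k _
  constructor
  · intro hreg l hl φ hφ
    haveI : Fact (1 ≤ l + 1) := ⟨by omega⟩
    have H := (Groth.Agent.Lib.RegLiftH8.main11451 k (Localization.AtPrime m)
      (hres_loc k A m)).1 hreg (Q k (l + 1))
      ((Ideal.span {(X : k[X]) ^ l}).map
        (Ideal.Quotient.mkₐ k (Ideal.span {(X : k[X]) ^ (l + 1)}))) (J_sq k l hl)
      ((DoubleQuot.quotQuotEquivQuotOfLEₐ k (hle k l)).symm.toAlgHom.comp (extend φ hφ))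
    obtain ⟨g, hg⟩ := H
    refine ⟨g.comp (IsScalarTower.toAlgHom k A (Localization.AtPrime m)), ?_⟩
    have := factor_eq k l
    change (Ideal.Quotient.factorₐ k (hle k l)).comp _ = φ
    rw [this, AlgHom.comp_assoc, ← AlgHom.comp_assoc _ g, hg, ← AlgHom.comp_assoc,
      ← AlgHom.comp_assoc]
    have e1 : (DoubleQuot.quotQuotEquivQuotOfLEₐ k (hle k l)).toAlgHom.comp
        (DoubleQuot.quotQuotEquivQuotOfLEₐ k (hle k l)).symm.toAlgHom = AlgHom.id k _ := by
      ext y; simp
    rw [e1, AlgHom.id_comp, extend_comp]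
  · intro H
    refine isRegularLocalRing_of_jets (k := k) (hres_loc k A m) ?_
    intro l hl φR
    haveI : Fact (1 ≤ l) := ⟨hl⟩
    haveI : Fact (1 ≤ l + 1) := ⟨by omega⟩
    have hφ : ∀ a ∈ m, IsNilpotent
        ((φR.comp (IsScalarTower.toAlgHom k A (Localization.AtPrime m))) a) := by
      intro a ha
      apply isNilpotent_of_mem_mQ
      apply map_mem_mQ φR
      exact (IsLocalization.AtPrime.to_map_mem_maximal_iff _ m a).2 ha
    obtain ⟨ψ, hψ⟩ := H l hl _ hφ
    have hψn : ∀ a ∈ m, IsNilpotent (ψ a) := by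
      intro a ha
      apply isNilpotent_of_mem_mQ
      rw [← maximalIdeal_Q]
      by_contra hnot
      have hu : IsUnit (ψ a) := by
        by_contra hnu
        exact hnot ((mem_maximalIdeal _).2 hnu)
      have h2 := hu.map (Ideal.Quotient.factorₐ k (hle k l))
      have h3 : (Ideal.Quotient.factorₐ k (hle k l)) (ψ a)
          = (φR.comp (IsScalarTower.toAlgHom k A (Localization.AtPrime m))) a := by
        rw [← hψ]; rfl
      rw [h3] at h2
      exact h2.not_isNilpotent (hφ a ha)
    refine ⟨extend ψ hψn, ?_⟩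
    apply algHom_ext_loc
    rw [AlgHom.comp_assoc, extend_comp]
    exact hψ

end mainthm

end Groth.Agent.Lib.JetRegH8
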