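import Mathlib
import Groth.Prelude.Def_SGA3

/-!
# Idempotents of tensor products over an algebraically closed field (helper1)

`π₀(A ⊗ B) = π₀(A) ⊗ π₀(B)` in the elementary form: an idempotent of `R ⊗[k] S`
(`k` algebraically closed, `R`, `S` finitely generated) lies in the image of `E R ⊗ E S`, where `E R`
is the subalgebra generated by the idempotents of `R`.
-/

set_option autoImplicit false
set_option maxHeartbeats 1000000

universe u v w

open TensorProduct

namespace Groth.Agent.Lib.PiZeroH1

section LinAlg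

variable {k : Type u} [Field k] {M : Type v} {N : Type w} [AddCommGroup M] [Module k M]
  [AddCommGroup N] [Module k N]

/-- right slice `(id ⊗ θ)` -/
noncomputable def sliceR (θ : N →ₗ[k] k) : M ⊗[k] N →ₗ[k] M :=
  (TensorProduct.rid k M).toLinearMap ∘ₗ LinearMap.lTensor M θ

@[simp] theorem sliceR_tmul (θ : N →ₗ[k] k) (m : M) (n : N) :
    sliceR θ (m ⊗ₜ[k] n) = θ n • m := by
  simp [sliceR]

/-- left slice `(φ ⊗ id)` -/
noncomputable def sliceL (φ : M →ₗ[k] k) : M ⊗[k] N →ₗ[k] N :=
  (TensorProduct.lid k N).toLinearMap ∘ₗ LinearMap.rTensor N φ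

@[simp] theorem sliceL_tmul (φ : M →ₗ[k] k) (m : M) (n : N) :
    sliceL φ (m ⊗ₜ[k] n) = φ m • n := by
  simp [sliceL]

theorem slice_comm (φ : M →ₗ[k] k) (θ : N →ₗ[k] k) (z : M ⊗[k] N) :
    θ (sliceL φ z) = φ (sliceR θ z) := by
  induction z using TensorProduct.induction_on with
  | zero => simp
  | add x y hx hy => simp only [map_add, hx, hy]
  | tmul m n => simp [mul_comm]

theorem eq_zero_of_sliceR (t : M ⊗[k] N) (h : ∀ θ : N →ₗ[k] k, sliceR θ t = 0) : t = 0 := by
  classical
  let b := Module.Free.chooseBasis k N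
  apply (TensorProduct.equivFinsuppOfBasisRight b).injective
  rw [map_zero]
  ext i
  have key : ∀ z : M ⊗[k] N,
      (TensorProduct.equivFinsuppOfBasisRight b) z i = sliceR (b.coord i) z := by
    intro z
    induction z using TensorProduct.induction_on with
    | zero => simp
    | add x y hx hy => simp only [map_add, Finsupp.add_apply, hx, hy]
    | tmul m n => simp [TensorProduct.equivFinsuppOfBasisRight_apply_tmul_apply]
  rw [key, h]
  rfl

theorem eq_zero_of_sliceL (t : M ⊗[k] N) (h : ∀ φ : M →ₗ[k] k, sliceL φ t = 0) : t = 0 := by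
  have key : ∀ (φ : M →ₗ[k] k) (z : M ⊗[k] N),
      sliceR φ (TensorProduct.comm k M N z) = sliceL φ z := by
    intro φ z
    induction z using TensorProduct.induction_on with
    | zero => simp
    | add x y hx hy => simp only [map_add, hx, hy]
    | tmul m n => simp
  have h2 : TensorProduct.comm k M N t = 0 := by
    apply eq_zero_of_sliceR
    intro φ
    rw [key, h]
  exact (TensorProduct.comm k M N).injective (by rw [h2, map_zero])

theorem sliceR_mem_of_mem_range (E : Submodule k M) (z : M ⊗[k] N)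
    (hz : z ∈ LinearMap.range (LinearMap.rTensor N E.subtype)) (θ : N →ₗ[k] k) :
    sliceR θ z ∈ E := by
  obtain ⟨w, rfl⟩ := hz
  induction w using TensorProduct.induction_on with
  | zero => simp
  | add x y hx hy =>
    rw [map_add, map_add]
    exact E.add_mem hx hy
  | tmul e n =>
    rw [LinearMap.rTensor_tmul, sliceR_tmul]
    exact E.smul_mem _ e.2

theorem sliceL_mem_of_mem_range (F : Submodule k N) (z : M ⊗[k] N)
    (hz : z ∈ LinearMap.range (LinearMap.lTensor M F.subtype)) (φ : M →ₗ[k] k) :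
    sliceL φ z ∈ F := by
  obtain ⟨w, rfl⟩ := hz
  induction w using TensorProduct.induction_on with
  | zero => simp
  | add x y hx hy =>
    rw [map_add, map_add]
    exact F.add_mem hx hy
  | tmul m f =>
    rw [LinearMap.lTensor_tmul, sliceL_tmul]
    exact F.smul_mem _ f.2

theorem mem_range_rTensor_of_sliceR (E : Submodule k M) (z : M ⊗[k] N)
    (h : ∀ θ : N →ₗ[k] k, sliceR θ z ∈ E) :
    z ∈ LinearMap.range (LinearMap.rTensor N E.subtype) := by
  have hex2 := rTensor_exact N (LinearMap.exact_subtype_mkQ E) E.mkQ_surjective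
  apply (hex2 z).mp
  apply eq_zero_of_sliceR
  intro θ
  have key : ∀ w : M ⊗[k] N,
      sliceR θ (LinearMap.rTensor N E.mkQ w) = E.mkQ (sliceR θ w) := by
    intro w
    induction w using TensorProduct.induction_on with
    | zero => simp
    | add x y hx hy => simp only [map_add, hx, hy]
    | tmul m n => simp
  rw [key]
  exact (Submodule.Quotient.mk_eq_zero E).mpr (h θ)

theorem mem_range_lTensor_of_sliceL (F : Submodule k N) (z : M ⊗[k] N)
    (h : ∀ φ : M →ₗ[k] k, sliceL φ z ∈ F) :
    z ∈ LinearMap.range (LinearMap.lTensor M F.subtype) := by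
  have hex2 := lTensor_exact M (LinearMap.exact_subtype_mkQ F) F.mkQ_surjective
  apply (hex2 z).mp
  apply eq_zero_of_sliceL
  intro φ
  have key : ∀ w : M ⊗[k] N,
      sliceL φ (LinearMap.lTensor M F.mkQ w) = F.mkQ (sliceL φ w) := by
    intro w
    induction w using TensorProduct.induction_on with
    | zero => simp
    | add x y hx hy => simp only [map_add, hx, hy]
    | tmul m n => simp
  rw [key]
  exact (Submodule.Quotient.mk_eq_zero F).mpr (h φ)

theorem mem_range_map_of_mem_both (E : Submodule k M) (F : Submodule k N) (z : M ⊗[k] N)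
    (h1 : z ∈ LinearMap.range (LinearMap.rTensor N E.subtype))
    (h2 : z ∈ LinearMap.range (LinearMap.lTensor M F.subtype)) :
    z ∈ LinearMap.range (TensorProduct.map E.subtype F.subtype) := by
  obtain ⟨p, hp⟩ := LinearMap.exists_leftInverse_of_injective E.subtype (Submodule.ker_subtype E)
  obtain ⟨w, hw⟩ := h1
  obtain ⟨w', hw'⟩ := h2
  refine ⟨p.rTensor F w', ?_⟩
  have e1 : (E.subtype ∘ₗ p).rTensor N z = z := by
    rw [← hw, ← LinearMap.rTensor_comp_apply, LinearMap.comp_assoc, hp, LinearMap.comp_id]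
  have e2 : ∀ t : M ⊗[k] F, TensorProduct.map E.subtype F.subtype (p.rTensor F t) =
      (E.subtype ∘ₗ p).rTensor N (F.subtype.lTensor M t) := by
    intro t
    induction t using TensorProduct.induction_on with
    | zero => simp
    | add x y hx hy => simp only [map_add, hx, hy]
    | tmul a b => simp
  rw [e2, hw', e1]

theorem mem_range_rTensor_of_mem_range_map (E : Submodule k M) (F : Submodule k N)
    (z : M ⊗[k] N) (h : z ∈ LinearMap.range (TensorProduct.map E.subtype F.subtype)) :
    z ∈ LinearMap.range (LinearMap.rTensor N E.subtype) := by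
  obtain ⟨w, rfl⟩ := h
  refine ⟨LinearMap.lTensor E F.subtype w, ?_⟩
  rw [← LinearMap.comp_apply, LinearMap.rTensor_comp_lTensor]

theorem mem_range_lTensor_of_mem_range_map (E : Submodule k M) (F : Submodule k N)
    (z : M ⊗[k] N) (h : z ∈ LinearMap.range (TensorProduct.map E.subtype F.subtype)) :
    z ∈ LinearMap.range (LinearMap.lTensor M F.subtype) := by
  obtain ⟨w, rfl⟩ := h
  refine ⟨LinearMap.rTensor F E.subtype w, ?_⟩
  rw [← LinearMap.comp_apply, LinearMap.lTensor_comp_rTensor]

theorem mem_range_map_inf (V₁ V₂ : Submodule k M) (z : M ⊗[k] M)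
    (h1 : z ∈ LinearMap.range (TensorProduct.map V₁.subtype V₁.subtype))
    (h2 : z ∈ LinearMap.range (TensorProduct.map V₂.subtype V₂.subtype)) :
    z ∈ LinearMap.range (TensorProduct.map (V₁ ⊓ V₂).subtype (V₁ ⊓ V₂).subtype) := by
  apply mem_range_map_of_mem_both
  · apply mem_range_rTensor_of_sliceR
    intro θ
    exact ⟨sliceR_mem_of_mem_range V₁ z (mem_range_rTensor_of_mem_range_map _ _ z h1) θ,
      sliceR_mem_of_mem_range V₂ z (mem_range_rTensor_of_mem_range_map _ _ z h2) θ⟩
  · apply mem_range_lTensor_of_sliceL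
    intro φ
    exact ⟨sliceL_mem_of_mem_range V₁ z (mem_range_lTensor_of_mem_range_map _ _ z h1) φ,
      sliceL_mem_of_mem_range V₂ z (mem_range_lTensor_of_mem_range_map _ _ z h2) φ⟩

theorem mem_of_forall_dual (W : Submodule k M) (x : M)
    (h : ∀ φ : M →ₗ[k] k, (∀ w ∈ W, φ w = 0) → φ x = 0) : x ∈ W := by
  have h0 : W.mkQ x = 0 := by
    rw [← Module.forall_dual_apply_eq_zero_iff k]
    intro ψ
    apply h (ψ ∘ₗ W.mkQ)
    intro w hw
    rw [LinearMap.comp_apply, Submodule.mkQ_apply, (Submodule.Quotient.mk_eq_zero W).mpr hw,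
      map_zero]
  exact (Submodule.Quotient.mk_eq_zero W).mp h0

end LinAlg


section CA

variable (k : Type u) [Field k]

/-- the subalgebra generated by the idempotents -/
def E (R : Type u) [CommRing R] [Algebra k R] : Subalgebra k R :=
  Algebra.adjoin k {e : R | IsIdempotentElem e}

variable {k}

theorem idem_mem_E {R : Type u} [CommRing R] [Algebra k R] (e : R) (he : IsIdempotentElem e) :
    e ∈ E k R :=
  Algebra.subset_adjoin he

theorem map_E_le {R R' : Type u} [CommRing R] [Algebra k R] [CommRing R'] [Algebra k R']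
    (f : R →ₐ[k] R') : (E k R).map f ≤ E k R' := by
  rw [Subalgebra.map_le]
  apply Algebra.adjoin_le
  intro e he
  exact idem_mem_E (f e) (he.map f)

theorem lift_E {R R' : Type u} [CommRing R] [Algebra k R] [CommRing R'] [Algebra k R']
    (q : R →ₐ[k] R') (hq : Function.Surjective q)
    (hnil : ∀ x ∈ RingHom.ker (q : R →+* R'), IsNilpotent x) :
    E k R' ≤ (E k R).map q := by
  apply Algebra.adjoin_le
  intro e' he'
  obtain ⟨e, he, hqe⟩ := exists_isIdempotentElem_eq_of_ker_isNilpotent (q : R →+* R') hnil e'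
    (by obtain ⟨r, hr⟩ := hq e'; exact ⟨r, hr⟩) he'
  exact ⟨e, idem_mem_E e he, hqe⟩

/-- slice by a point of `S` -/
noncomputable def ptR {R S : Type u} [CommRing R] [Algebra k R] [CommRing S] [Algebra k S]
    (y : S →ₐ[k] k) : R ⊗[k] S →ₐ[k] R :=
  (Algebra.TensorProduct.rid k k R).toAlgHom.comp (Algebra.TensorProduct.map (AlgHom.id k R) y)

theorem ptR_eq {R S : Type u} [CommRing R] [Algebra k R] [CommRing S] [Algebra k S]
    (y : S →ₐ[k] k) (z : R ⊗[k] S) : ptR y z = sliceR y.toLinearMap z := by
  induction z using TensorProduct.induction_on with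
  | zero => simp
  | add a b ha hb => simp only [map_add, ha, hb]
  | tmul r s => simp [ptR]

/-- slice by a point of `R` -/
noncomputable def ptL {R S : Type u} [CommRing R] [Algebra k R] [CommRing S] [Algebra k S]
    (x : R →ₐ[k] k) : R ⊗[k] S →ₐ[k] S :=
  (Algebra.TensorProduct.lid k S).toAlgHom.comp (Algebra.TensorProduct.map x (AlgHom.id k S))

theorem ptL_eq {R S : Type u} [CommRing R] [Algebra k R] [CommRing S] [Algebra k S]
    (x : R →ₐ[k] k) (z : R ⊗[k] S) : ptL x z = sliceL x.toLinearMap z := by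
  induction z using TensorProduct.induction_on with
  | zero => simp
  | add a b ha hb => simp only [map_add, ha, hb]
  | tmul r s => simp [ptL]

variable [IsAlgClosed k]

/-- Nullstellensatz: points separate elements of a reduced finitely generated algebra -/
theorem exists_point_ne_zero {S : Type u} [CommRing S] [Algebra k S] [Algebra.FiniteType k S]
    [IsReduced S] (s : S) (hs : s ≠ 0) : ∃ y : S →ₐ[k] k, y s ≠ 0 := by
  haveI : IsJacobsonRing S := isJacobsonRing_of_finiteType (A := k) (B := S)
  have hrad : (⊥ : Ideal S).IsRadical := by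
    intro x hx
    obtain ⟨n, hn⟩ := hx
    rw [Ideal.mem_bot] at hn ⊢
    exact IsReduced.eq_zero x ⟨n, hn⟩
  have hj : (⊥ : Ideal S).jacobson = ⊥ := IsJacobsonRing.out inferInstance hrad
  have hs' : s ∉ (⊥ : Ideal S).jacobson := by
    rw [hj, Ideal.mem_bot]
    exact hs
  rw [Ideal.jacobson, Ideal.mem_sInf] at hs'
  push Not at hs'
  obtain ⟨n, ⟨-, hn⟩, hsn⟩ := hs'
  haveI := hn
  letI : Field (S ⧸ n) := Ideal.Quotient.field n
  haveI : Algebra.FiniteType k (S ⧸ n) :=
    Algebra.FiniteType.of_surjective (Ideal.Quotient.mkₐ k n) (Ideal.Quotient.mkₐ_surjective k n)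
  haveI : Module.Finite k (S ⧸ n) := finite_of_finite_type_of_isJacobsonRing k (S ⧸ n)
  haveI : Algebra.IsAlgebraic k (S ⧸ n) := Algebra.IsAlgebraic.of_finite k (S ⧸ n)
  let φ : (S ⧸ n) →ₐ[k] k := IsAlgClosed.lift
  refine ⟨φ.comp (Ideal.Quotient.mkₐ k n), fun h => hsn ?_⟩
  have h1 : φ (Ideal.Quotient.mkₐ k n s) = 0 := h
  rw [map_eq_zero φ, Ideal.Quotient.mkₐ_eq_mk, Ideal.Quotient.eq_zero_iff_mem] at h1
  exact h1

/-- reduced case -/
theorem il_red {R S : Type u} [CommRing R] [Algebra k R] [Algebra.FiniteType k R] [IsReduced R]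
    [CommRing S] [Algebra k S] [Algebra.FiniteType k S] [IsReduced S]
    (z : R ⊗[k] S) (hz : IsIdempotentElem z) :
    z ∈ LinearMap.range (TensorProduct.map (Subalgebra.toSubmodule (E k R)).subtype
      (Subalgebra.toSubmodule (E k S)).subtype) := by
  apply mem_range_map_of_mem_both
  · apply mem_range_rTensor_of_sliceR
    intro θ
    apply mem_of_forall_dual
    intro φ hφ
    rw [← slice_comm]
    have h0 : sliceL φ z = 0 := by
      by_contra hne
      obtain ⟨y, hy⟩ := exists_point_ne_zero (k := k) (sliceL φ z) hne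
      apply hy
      have h1 : y (sliceL φ z) = φ (sliceR y.toLinearMap z) := slice_comm φ y.toLinearMap z
      rw [h1, ← ptR_eq]
      exact hφ _ (idem_mem_E _ (hz.map (ptR y)))
    rw [h0, map_zero]
  · apply mem_range_lTensor_of_sliceL
    intro φ
    apply mem_of_forall_dual
    intro θ hθ
    rw [slice_comm]
    have h0 : sliceR θ z = 0 := by
      by_contra hne
      obtain ⟨x, hx⟩ := exists_point_ne_zero (k := k) (sliceR θ z) hne
      apply hx
      have h1 : x (sliceR θ z) = θ (sliceL x.toLinearMap z) := (slice_comm x.toLinearMap θ z).symm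
      rw [h1, ← ptL_eq]
      exact hθ _ (idem_mem_E _ (hz.map (ptL x)))
    rw [h0, map_zero]

end CA


section IL

variable {k : Type u} [Field k]

theorem ker_map_nil {R S R' S' : Type u} [CommRing R] [Algebra k R] [CommRing S] [Algebra k S]
    [CommRing R'] [Algebra k R'] [CommRing S'] [Algebra k S']
    (f : R →ₐ[k] R') (g : S →ₐ[k] S') (hf : Function.Surjective f) (hg : Function.Surjective g)
    (hfn : ∀ x ∈ RingHom.ker f, IsNilpotent x) (hgn : ∀ x ∈ RingHom.ker g, IsNilpotent x) :
    ∀ x ∈ RingHom.ker (Algebra.TensorProduct.map f g), IsNilpotent x := by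
  intro x hx
  have h1 : RingHom.ker (Algebra.TensorProduct.map f g) ≤ nilradical (R ⊗[k] S) := by
    rw [Algebra.TensorProduct.map_ker f g hf hg]
    apply sup_le
    · rw [Ideal.map_le_iff_le_comap]
      intro r hr
      rw [Ideal.mem_comap, mem_nilradical]
      exact (hfn r hr).map _
    · rw [Ideal.map_le_iff_le_comap]
      intro r hr
      rw [Ideal.mem_comap, mem_nilradical]
      exact (hgn r hr).map _
  exact mem_nilradical.mp (h1 hx)

variable [IsAlgClosed k]

theorem il {R S : Type u} [CommRing R] [Algebra k R] [Algebra.FiniteType k R]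
    [CommRing S] [Algebra k S] [Algebra.FiniteType k S] (z : R ⊗[k] S) (hz : IsIdempotentElem z) :
    z ∈ LinearMap.range (TensorProduct.map (Subalgebra.toSubmodule (E k R)).subtype
      (Subalgebra.toSubmodule (E k S)).subtype) := by
  have hqR : Function.Surjective (Ideal.Quotient.mkₐ k (nilradical R)) :=
    Ideal.Quotient.mkₐ_surjective k _
  have hqS : Function.Surjective (Ideal.Quotient.mkₐ k (nilradical S)) :=
    Ideal.Quotient.mkₐ_surjective k _
  have hnR : ∀ x ∈ RingHom.ker (Ideal.Quotient.mkₐ k (nilradical R)), IsNilpotent x := by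
    intro x hx
    rw [RingHom.mem_ker, Ideal.Quotient.mkₐ_eq_mk, Ideal.Quotient.eq_zero_iff_mem] at hx
    exact mem_nilradical.mp hx
  have hnS : ∀ x ∈ RingHom.ker (Ideal.Quotient.mkₐ k (nilradical S)), IsNilpotent x := by
    intro x hx
    rw [RingHom.mem_ker, Ideal.Quotient.mkₐ_eq_mk, Ideal.Quotient.eq_zero_iff_mem] at hx
    exact mem_nilradical.mp hx
  haveI : IsReduced (R ⧸ nilradical R) :=
    (Ideal.isRadical_iff_quotient_reduced _).mp (Ideal.radical_isRadical _)
  haveI : IsReduced (S ⧸ nilradical S) :=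
    (Ideal.isRadical_iff_quotient_reduced _).mp (Ideal.radical_isRadical _)
  haveI : Algebra.FiniteType k (R ⧸ nilradical R) := Algebra.FiniteType.of_surjective _ hqR
  haveI : Algebra.FiniteType k (S ⧸ nilradical S) := Algebra.FiniteType.of_surjective _ hqS
  obtain ⟨π, hπ⟩ : ∃ π : R ⊗[k] S →ₐ[k] (R ⧸ nilradical R) ⊗[k] (S ⧸ nilradical S),
      π = Algebra.TensorProduct.map (Ideal.Quotient.mkₐ k (nilradical R))
        (Ideal.Quotient.mkₐ k (nilradical S)) := ⟨_, rfl⟩
  have hker : ∀ x ∈ RingHom.ker π, IsNilpotent x := by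
    rw [hπ]
    exact ker_map_nil _ _ hqR hqS hnR hnS
  obtain ⟨ι, hι⟩ : ∃ ι : (E k R) ⊗[k] (E k S) →ₐ[k] R ⊗[k] S,
      ι = Algebra.TensorProduct.map (E k R).val (E k S).val := ⟨_, rfl⟩
  have hιinj : Function.Injective ι := by
    rw [hι]
    exact TensorProduct.map_injective_of_flat_flat (E k R).val.toLinearMap (E k S).val.toLinearMap
      Subtype.val_injective Subtype.val_injective
  have hgker : ∀ x ∈ RingHom.ker ((π.comp ι : (E k R) ⊗[k] (E k S) →ₐ[k] _) :
      (E k R) ⊗[k] (E k S) →+* (R ⧸ nilradical R) ⊗[k] (S ⧸ nilradical S)), IsNilpotent x := by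
    intro x hx
    have h1 : ι x ∈ RingHom.ker π := by
      rw [RingHom.mem_ker] at hx ⊢
      exact hx
    obtain ⟨n, hn⟩ := hker _ h1
    refine ⟨n, hιinj ?_⟩
    rw [map_pow, hn, map_zero]
  have hER : E k (R ⧸ nilradical R) ≤ (E k R).map (Ideal.Quotient.mkₐ k (nilradical R)) :=
    lift_E _ hqR (fun x hx => hnR x (by rw [RingHom.mem_ker] at hx ⊢; exact hx))
  have hES : E k (S ⧸ nilradical S) ≤ (E k S).map (Ideal.Quotient.mkₐ k (nilradical S)) :=
    lift_E _ hqS (fun x hx => hnS x (by rw [RingHom.mem_ker] at hx ⊢; exact hx))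
  have h3 : ∀ w : (Subalgebra.toSubmodule (E k (R ⧸ nilradical R))) ⊗[k]
      (Subalgebra.toSubmodule (E k (S ⧸ nilradical S))),
      TensorProduct.map (Subalgebra.toSubmodule (E k (R ⧸ nilradical R))).subtype
        (Subalgebra.toSubmodule (E k (S ⧸ nilradical S))).subtype w ∈
      ((π.comp ι : (E k R) ⊗[k] (E k S) →ₐ[k] _) :
        (E k R) ⊗[k] (E k S) →+* (R ⧸ nilradical R) ⊗[k] (S ⧸ nilradical S)).range := by
    intro w
    induction w using TensorProduct.induction_on with
    | zero =>
      rw [map_zero]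
      exact Subring.zero_mem _
    | add x y hx hy =>
      rw [map_add]
      exact Subring.add_mem _ hx hy
    | tmul a b =>
      obtain ⟨a', ha', haa⟩ := hER a.2
      obtain ⟨b', hb', hbb⟩ := hES b.2
      refine ⟨(⟨a', ha'⟩ : E k R) ⊗ₜ[k] (⟨b', hb'⟩ : E k S), ?_⟩
      rw [TensorProduct.map_tmul]
      show π (ι _) = _
      rw [hι, hπ, Algebra.TensorProduct.map_tmul, Algebra.TensorProduct.map_tmul]
      show (Ideal.Quotient.mkₐ k (nilradical R)) a' ⊗ₜ[k] (Ideal.Quotient.mkₐ k (nilradical S)) b' = _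
      have haa' : (Ideal.Quotient.mkₐ k (nilradical R)) a' = (a : R ⧸ nilradical R) := haa
      have hbb' : (Ideal.Quotient.mkₐ k (nilradical S)) b' = (b : S ⧸ nilradical S) := hbb
      rw [haa', hbb']
      rfl
  obtain ⟨x, hx, hgx⟩ := exists_isIdempotentElem_eq_of_ker_isNilpotent _ hgker (π z)
    (by obtain ⟨w, hw⟩ := il_red (π z) (hz.map π); rw [← hw]; exact h3 w) (hz.map π)
  have hzx : z = ι x := by
    apply eq_of_isNilpotent_sub_of_isIdempotentElem hz (hx.map ι)
    apply hker
    rw [RingHom.mem_ker, map_sub, sub_eq_zero]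
    exact hgx.symm
  rw [hzx, hι]
  exact ⟨x, rfl⟩

end IL

section Sep

variable {k : Type u} [Field k]

theorem isSeparable_of_idem {A : Type u} [CommRing A] [Algebra k A] (e : A)
    (he : IsIdempotentElem e) : IsSeparable k e := by
  have h1 : Polynomial.aeval e (Polynomial.X * (Polynomial.X - Polynomial.C (1 : k))) = 0 := by
    rw [map_mul, map_sub, Polynomial.aeval_X, Polynomial.aeval_C, map_one, mul_sub, mul_one,
      he.eq, sub_self]
  have h2 : minpoly k e ∣ Polynomial.X * (Polynomial.X - Polynomial.C (1 : k)) :=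
    minpoly.dvd k e h1
  have h3 : (Polynomial.X * (Polynomial.X - Polynomial.C (1 : k))).Separable := by
    apply Polynomial.Separable.mul Polynomial.separable_X (Polynomial.separable_X_sub_C)
    exact ⟨1, -1, by rw [Polynomial.C_1]; ring⟩
  exact Polynomial.Separable.of_dvd h3 h2

theorem isSeparable_map {A B : Type u} [CommRing A] [Algebra k A] [CommRing B] [Algebra k B]
    (φ : A →ₐ[k] B) (a : A) (h : IsSeparable k a) : IsSeparable k (φ a) := by
  have h1 : Polynomial.aeval (φ a) (minpoly k a) = 0 := by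
    rw [Polynomial.aeval_algHom_apply, minpoly.aeval, map_zero]
  exact Polynomial.Separable.of_dvd h (minpoly.dvd k _ h1)

end Sep


section Lagr

variable {k : Type u} [Field k] [IsAlgClosed k]

open Polynomial in
theorem mem_span_idem_of_isSeparable {A : Type u} [CommRing A] [Algebra k A] (a : A)
    (ha : IsSeparable k a) : a ∈ Submodule.span k {e : A | IsIdempotentElem e} := by
  classical
  have hsep : (minpoly k a).Separable := ha
  have hint : IsIntegral k a := by
    by_contra h
    rw [minpoly.eq_zero h] at hsep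
    exact Polynomial.not_separable_zero hsep
  have hmon : (minpoly k a).Monic := minpoly.monic hint
  have hsplit : (minpoly k a).Splits := IsAlgClosed.splits _
  have hprod := hsplit.eq_prod_roots_of_monic hmon
  have hnd : (minpoly k a).roots.Nodup := Polynomial.nodup_roots hsep
  obtain ⟨s, hs⟩ : ∃ s : Finset k, s = (minpoly k a).roots.toFinset := ⟨_, rfl⟩
  have hf : minpoly k a = ∏ μ ∈ s, (X - C μ) := by
    rw [Finset.prod_eq_multiset_prod, hs, Multiset.toFinset_val, hnd.dedup]
    exact hprod
  have hfa : aeval a (∏ μ ∈ s, (X - C μ)) = 0 := by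
    rw [← hf]
    exact minpoly.aeval k a
  rcases s.eq_empty_or_nonempty with h0 | hne
  · rw [h0, Finset.prod_empty, map_one] at hfa
    have : a = 0 := by
      calc a = a * 1 := (mul_one a).symm
        _ = 0 := by rw [hfa, mul_zero]
    rw [this]
    exact Submodule.zero_mem _
  have hinj : Set.InjOn (id : k → k) s := Function.injective_id.injOn
  have key1 : ∀ l ∈ s, ∃ c : k, (X - C l) * Lagrange.basis s id l =
      C c * ∏ μ ∈ s, (X - C μ) := by
    intro l hl
    refine ⟨∏ μ ∈ s.erase l, (l - μ)⁻¹, ?_⟩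
    rw [Lagrange.basis]
    simp only [Lagrange.basisDivisor, id]
    rw [Finset.prod_mul_distrib, ← Finset.mul_prod_erase s _ hl, map_prod]
    ring
  have key2 : ∀ l ∈ s, a * aeval a (Lagrange.basis s id l) = l • aeval a (Lagrange.basis s id l) := by
    intro l hl
    obtain ⟨c, hc⟩ := key1 l hl
    have h1 := congrArg (aeval a) hc
    rw [map_mul, map_mul, hfa, mul_zero, map_sub, aeval_X, aeval_C, sub_mul, sub_eq_zero] at h1
    rw [h1, Algebra.smul_def]
  have key3 : ∀ l ∈ s, ∀ Q : k[X], aeval a Q * aeval a (Lagrange.basis s id l) =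
      Q.eval l • aeval a (Lagrange.basis s id l) := by
    intro l hl Q
    obtain ⟨Q', hQ'⟩ := Polynomial.X_sub_C_dvd_sub_C_eval (p := Q) (a := l)
    have h1 := congrArg (aeval a) hQ'
    rw [map_sub, aeval_C, sub_eq_iff_eq_add, map_mul, map_sub, aeval_X, aeval_C] at h1
    rw [h1, add_mul, mul_assoc, mul_comm (aeval a Q'), ← mul_assoc, sub_mul, key2 l hl,
      Algebra.smul_def, sub_self, zero_mul, zero_add, Algebra.smul_def]
  have key4 : ∀ l ∈ s, IsIdempotentElem (aeval a (Lagrange.basis s id l)) := by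
    intro l hl
    have h1 := key3 l hl (Lagrange.basis s id l)
    have h2 : (Lagrange.basis s id l).eval l = 1 := Lagrange.eval_basis_self hinj hl
    rw [h2, one_smul] at h1
    exact h1
  have key5 : ∑ l ∈ s, aeval a (Lagrange.basis s id l) = 1 := by
    rw [← map_sum, Lagrange.sum_basis hinj hne, map_one]
  have hfin : a = ∑ l ∈ s, l • aeval a (Lagrange.basis s id l) := by
    calc a = a * 1 := (mul_one a).symm
      _ = a * ∑ l ∈ s, aeval a (Lagrange.basis s id l) := by rw [key5]
      _ = ∑ l ∈ s, a * aeval a (Lagrange.basis s id l) := Finset.mul_sum _ _ _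
      _ = ∑ l ∈ s, l • aeval a (Lagrange.basis s id l) :=
        Finset.sum_congr rfl (fun l hl => key2 l hl)
  rw [hfin]
  exact Submodule.sum_mem _ (fun l hl => Submodule.smul_mem _ _ (Submodule.subset_span (key4 l hl)))

end Lagr

section Comul

variable {k : Type u} [Field k]

theorem range_map_val_mono {A : Type u} [CommRing A] [Algebra k A] {R R' S S' : Subalgebra k A}
    (hR : R ≤ R') (hS : S ≤ S') :
    LinearMap.range (TensorProduct.map R.val.toLinearMap S.val.toLinearMap) ≤
      LinearMap.range (TensorProduct.map R'.val.toLinearMap S'.val.toLinearMap) := by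
  rintro _ ⟨w, rfl⟩
  refine ⟨TensorProduct.map (Subalgebra.inclusion hR).toLinearMap
    (Subalgebra.inclusion hS).toLinearMap w, ?_⟩
  induction w using TensorProduct.induction_on with
  | zero => simp
  | add x y hx hy => simp only [map_add, hx, hy]
  | tmul a b => simp

theorem exists_fg_subalgebras {A : Type u} [CommRing A] [Algebra k A] (z : A ⊗[k] A) :
    ∃ R S : Subalgebra k A, R.FG ∧ S.FG ∧
      z ∈ LinearMap.range (TensorProduct.map R.val.toLinearMap S.val.toLinearMap) := by
  induction z using TensorProduct.induction_on with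
  | zero => exact ⟨⊥, ⊥, Subalgebra.fg_bot, Subalgebra.fg_bot, Submodule.zero_mem _⟩
  | tmul a b =>
    refine ⟨Algebra.adjoin k {a}, Algebra.adjoin k {b}, ⟨{a}, by rw [Finset.coe_singleton]⟩,
      ⟨{b}, by rw [Finset.coe_singleton]⟩,
      (⟨a, Algebra.subset_adjoin rfl⟩ : Algebra.adjoin k {a}) ⊗ₜ[k]
        (⟨b, Algebra.subset_adjoin rfl⟩ : Algebra.adjoin k {b}), ?_⟩
    rw [TensorProduct.map_tmul]
    rfl
  | add x y hx hy =>
    obtain ⟨R₁, S₁, hR₁, hS₁, h₁⟩ := hx
    obtain ⟨R₂, S₂, hR₂, hS₂, h₂⟩ := hy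
    exact ⟨R₁ ⊔ R₂, S₁ ⊔ S₂, hR₁.sup hR₂, hS₁.sup hS₂, Submodule.add_mem _
      (range_map_val_mono le_sup_left le_sup_left h₁)
      (range_map_val_mono le_sup_right le_sup_right h₂)⟩

variable [IsAlgClosed k]

theorem comul_idem_mem {A : Type u} [CommRing A] [Bialgebra k A] (e : A)
    (he : IsIdempotentElem e) :
    Coalgebra.comul (R := k) e ∈ LinearMap.range
      (TensorProduct.map (E k A).val.toLinearMap (E k A).val.toLinearMap) := by
  have hz : IsIdempotentElem (Coalgebra.comul (R := k) e) := he.map (Bialgebra.comulAlgHom k A)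
  obtain ⟨R, S, hR, hS, w, hw⟩ := exists_fg_subalgebras (k := k) (Coalgebra.comul (R := k) e)
  haveI : Algebra.FiniteType k R := R.fg_iff_finiteType.mp hR
  haveI : Algebra.FiniteType k S := S.fg_iff_finiteType.mp hS
  have hinj : Function.Injective (TensorProduct.map R.val.toLinearMap S.val.toLinearMap) :=
    TensorProduct.map_injective_of_flat_flat _ _ Subtype.val_injective Subtype.val_injective
  have hmul : ∀ x y : R ⊗[k] S,
      TensorProduct.map R.val.toLinearMap S.val.toLinearMap (x * y) =
        TensorProduct.map R.val.toLinearMap S.val.toLinearMap x *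
          TensorProduct.map R.val.toLinearMap S.val.toLinearMap y := by
    intro x y
    exact map_mul (Algebra.TensorProduct.map R.val S.val) x y
  have hw_idem : IsIdempotentElem w := by
    apply hinj
    rw [hmul, hw]
    exact hz
  obtain ⟨v, hv⟩ := il w hw_idem
  rw [← hw, ← hv]
  clear hv hw_idem hw
  induction v using TensorProduct.induction_on with
  | zero =>
    rw [map_zero, map_zero]
    exact Submodule.zero_mem _
  | add x y hx hy =>
    rw [map_add, map_add]
    exact Submodule.add_mem _ hx hy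
  | tmul a b =>
    have ha : R.val (a : R) ∈ E k A := map_E_le R.val ⟨(a : R), a.2, rfl⟩
    have hb : S.val (b : S) ∈ E k A := map_E_le S.val ⟨(b : S), b.2, rfl⟩
    refine ⟨(⟨_, ha⟩ : E k A) ⊗ₜ[k] (⟨_, hb⟩ : E k A), ?_⟩
    rw [TensorProduct.map_tmul, TensorProduct.map_tmul, TensorProduct.map_tmul]
    rfl

theorem comul_mem_of_isSeparable {A : Type u} [CommRing A] [Bialgebra k A] (a : A)
    (ha : IsSeparable k a) :
    Coalgebra.comul (R := k) a ∈ LinearMap.range
      (TensorProduct.map (E k A).val.toLinearMap (E k A).val.toLinearMap) := by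
  have h1 := mem_span_idem_of_isSeparable a ha
  clear ha
  induction h1 using Submodule.span_induction with
  | mem e he => exact comul_idem_mem e he
  | zero =>
    rw [map_zero]
    exact Submodule.zero_mem _
  | add x y _ _ hx hy =>
    rw [map_add]
    exact Submodule.add_mem _ hx hy
  | smul c x _ hx =>
    rw [map_smul]
    exact Submodule.smul_mem _ c hx

omit [IsAlgClosed k] in
theorem E_le_of_separable {A : Type u} [CommRing A] [Algebra k A] (B₀ : Subalgebra k A)
    (hB₀ : ∀ a : A, a ∈ B₀ ↔ IsSeparable k a) : E k A ≤ B₀ := by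
  apply Algebra.adjoin_le
  intro e he
  exact (hB₀ e).mpr (isSeparable_of_idem e he)

end Comul


section Final

theorem s18329 (k A : Type u) [Field k] [IsAlgClosed k] [CommRing A] [HopfAlgebra k A]
    (B₀ : Subalgebra k A) (hB₀ : ∀ a : A, a ∈ B₀ ↔ IsSeparable k a)
    (C : Subalgebra k A) (hC : SGA3.IsHopfSubalgebra k A C)
    (hCc : ∀ c ∈ C, TensorProduct.comm k A A (Coalgebra.comul c) = Coalgebra.comul c)
    (hCmax : ∀ D : Subalgebra k A, SGA3.IsHopfSubalgebra k A D →
      (∀ d ∈ D, TensorProduct.comm k A A (Coalgebra.comul d) = Coalgebra.comul d) → D ≤ C) :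
    IsGreatest {D : Subalgebra k A | SGA3.IsHopfSubalgebra k A D ∧
      (∀ d ∈ D, TensorProduct.comm k A A (Coalgebra.comul d) = Coalgebra.comul d) ∧ D ≤ B₀}
      (B₀ ⊓ C) := by
  constructor
  · refine ⟨⟨?_, ?_⟩, ?_, inf_le_left⟩
    · intro b hb
      have hb0 : b ∈ B₀ := hb.1
      have hbC : b ∈ C := hb.2
      have h1 : Coalgebra.comul (R := k) b ∈ LinearMap.range
          (TensorProduct.map B₀.val.toLinearMap B₀.val.toLinearMap) :=
        range_map_val_mono (E_le_of_separable B₀ hB₀) (E_le_of_separable B₀ hB₀)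
          (comul_mem_of_isSeparable b ((hB₀ b).mp hb0))
      have h2 := hC.1 b hbC
      exact mem_range_map_inf (Subalgebra.toSubmodule B₀) (Subalgebra.toSubmodule C) _ h1 h2
    · intro b hb
      exact ⟨(hB₀ _).mpr (isSeparable_map (HopfAlgebra.antipodeAlgHom k A) b ((hB₀ b).mp hb.1)),
        hC.2 b hb.2⟩
    · intro d hd
      exact hCc d hd.2
  · intro D hD
    exact le_inf hD.2.2 (hCmax D hD.1 hD.2.1)

end Final

end Groth.Agent.Lib.PiZeroH1
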