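import Mathlib

/-! # The Jouanolou algebra `A[x₁..xₙ,y]/(Σ fᵢxᵢ - 1)` and its base change (helper7) -/

set_option autoImplicit false
set_option linter.unusedSimpArgs false
set_option linter.unusedVariables false
set_option linter.unusedSectionVars false
set_option linter.style.longLine false
set_option linter.unnecessarySimpa false

universe u

open MvPolynomial CategoryTheory CategoryTheory.Limits

namespace Groth.Agent.Lib.JouH7

section Sums

variable {ι : Type*} [Fintype ι]

theorem sum_key {D : Type*} [CommRing D] (r x c : ι → D) (y : D) :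
    ∑ k, r k * (x k - c k + y * c k) =
      ∑ k, r k * x k - ∑ k, r k * c k + y * ∑ k, r k * c k := by
  rw [Finset.mul_sum, ← Finset.sum_sub_distrib, ← Finset.sum_add_distrib]
  exact Finset.sum_congr rfl (fun k _ => by ring)

theorem sum_key2 {D : Type*} [CommRing D] (r z c : ι → D) (s : D) :
    ∑ k, r k * (z k + c k - s * c k) =
      ∑ k, r k * z k + ∑ k, r k * c k - s * ∑ k, r k * c k := by
  rw [Finset.mul_sum, ← Finset.sum_add_distrib, ← Finset.sum_sub_distrib]
  exact Finset.sum_congr rfl (fun k _ => by ring)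

end Sums

variable {ι : Type u} [Fintype ι] {A : Type u} [CommRing A] (f : ι → A)

/-- the relation `Σ fᵢ xᵢ - 1` -/
noncomputable def rel : MvPolynomial (Option ι) A := ∑ i, C (f i) * X (some i) - 1

/-- `A[x₁..xₙ,y]/(Σ fᵢxᵢ - 1)` -/
abbrev Jou : Type u := MvPolynomial (Option ι) A ⧸ Ideal.span {rel f}

noncomputable def xJ (i : ι) : Jou f := Ideal.Quotient.mk _ (X (some i))
noncomputable def yJ : Jou f := Ideal.Quotient.mk _ (X none)
noncomputable def cJ : A →+* Jou f := (Ideal.Quotient.mk _).comp C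

theorem map_rel {Q : Type*} [CommRing Q] (q : MvPolynomial (Option ι) A →+* Q) :
    q (rel f) = ∑ i, q (C (f i)) * q (X (some i)) - 1 := by
  simp only [rel, map_sub, map_sum, map_mul, map_one]

theorem sum_xJ : ∑ i, cJ f (f i) * xJ f i = 1 := by
  have h : Ideal.Quotient.mk (Ideal.span {rel f}) (rel f) = 0 :=
    Ideal.Quotient.eq_zero_iff_mem.mpr (Ideal.subset_span (Set.mem_singleton _))
  have h2 : Ideal.Quotient.mk (Ideal.span {rel f}) (rel f) = ∑ i, cJ f (f i) * xJ f i - 1 :=
    map_rel f (Ideal.Quotient.mk (Ideal.span {rel f}))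
  rw [h2] at h
  exact sub_eq_zero.mp h

section Lift

variable {D : Type*} [CommRing D] (ψ : A →+* D) (x : ι → D) (y : D)

theorem eval_rel (h : ∑ i, ψ (f i) * x i = 1) :
    eval₂Hom ψ (fun o : Option ι => o.elim y x) (rel f) = 0 := by
  simp only [rel, map_sub, map_sum, map_mul, map_one, coe_eval₂Hom, eval₂_C, eval₂_X,
    Option.elim_some]
  rw [h, sub_self]

noncomputable def liftJ (h : ∑ i, ψ (f i) * x i = 1) : Jou f →+* D :=
  Ideal.Quotient.lift _ (eval₂Hom ψ (fun o : Option ι => o.elim y x)) (by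
    intro a ha
    obtain ⟨b, rfl⟩ := Ideal.mem_span_singleton.mp ha
    rw [map_mul, eval_rel f ψ x y h, zero_mul])

@[simp] theorem liftJ_cJ (h : ∑ i, ψ (f i) * x i = 1) (a : A) :
    liftJ f ψ x y h (cJ f a) = ψ a := by
  simp [liftJ, cJ]

@[simp] theorem liftJ_xJ (h : ∑ i, ψ (f i) * x i = 1) (i : ι) :
    liftJ f ψ x y h (xJ f i) = x i := by
  simp [liftJ, xJ]

@[simp] theorem liftJ_yJ (h : ∑ i, ψ (f i) * x i = 1) :
    liftJ f ψ x y h (yJ f) = y := by
  simp [liftJ, yJ]

theorem hom_ext_J {g₁ g₂ : Jou f →+* D} (hc : ∀ a, g₁ (cJ f a) = g₂ (cJ f a))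
    (hx : ∀ i, g₁ (xJ f i) = g₂ (xJ f i)) (hy : g₁ (yJ f) = g₂ (yJ f)) : g₁ = g₂ := by
  apply Ideal.Quotient.ringHom_ext
  apply MvPolynomial.ringHom_ext
  · intro a; exact hc a
  · intro o
    cases o with
    | none => exact hy
    | some i => exact hx i

end Lift

section Pushout

variable {R : Type u} [CommRing R] (φ : A →+* R) (c : ι → R)

/-- `s = Σ φ(fₖ) zₖ` -/
noncomputable def sPoly : MvPolynomial ι R := ∑ k, C (φ (f k)) * X k

theorem sum_C_c (hc : ∑ i, φ (f i) * c i = 1) :
    ∑ k, (C (φ (f k)) : MvPolynomial ι R) * C (c k) = 1 := by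
  have h := map_sum (C : R →+* MvPolynomial ι R) (fun k => φ (f k) * c k) Finset.univ
  simp only [C_mul] at h
  rw [← h, hc, C_1]

theorem beta_rel (hc : ∑ i, φ (f i) * c i = 1) :
    ∑ i, ((C : R →+* MvPolynomial ι R).comp φ) (f i) * (X i + C (c i) - sPoly f φ * C (c i)) =
      (1 : MvPolynomial ι R) := by
  have h := sum_key2 (fun k => (C (φ (f k)) : MvPolynomial ι R)) (fun k => X k)
    (fun k => C (c k)) (sPoly f φ)
  beta_reduce at h
  simp only [RingHom.comp_apply]
  rw [h, sum_C_c f φ c hc]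
  unfold sPoly
  ring

/-- the map `A[x,y]/(Σ fx - 1) → R[z]`, `x ↦ z + c - s c`, `y ↦ s`. -/
noncomputable def beta (hc : ∑ i, φ (f i) * c i = 1) : Jou f →+* MvPolynomial ι R :=
  liftJ f ((C : R →+* MvPolynomial ι R).comp φ) (fun i => X i + C (c i) - sPoly f φ * C (c i))
    (sPoly f φ) (beta_rel f φ c hc)

variable {D : Type u} [CommRing D] (h1 : R →+* D) (h2 : Jou f →+* D)

noncomputable def descHom : MvPolynomial ι R →+* D :=
  eval₂Hom h1 (fun i => h2 (xJ f i) - h1 (c i) + h2 (yJ f) * h1 (c i))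

theorem descHom_C (r : R) : descHom f c h1 h2 (C r) = h1 r := by
  simp [descHom]

theorem descHom_X (i : ι) :
    descHom f c h1 h2 (X i) = h2 (xJ f i) - h1 (c i) + h2 (yJ f) * h1 (c i) := by
  simp [descHom]

theorem descHom_sPoly (hc : ∑ i, φ (f i) * c i = 1) (hcomm : h1.comp φ = h2.comp (cJ f)) :
    descHom f c h1 h2 (sPoly f φ) = h2 (yJ f) := by
  have e1 : ∀ a, h1 (φ a) = h2 (cJ f a) := fun a => RingHom.congr_fun hcomm a
  have e2 : ∑ k, h2 (cJ f (f k)) * h2 (xJ f k) = 1 := by
    rw [← map_one h2, ← sum_xJ f, map_sum]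
    simp only [map_mul]
  have e3 : ∑ k, h2 (cJ f (f k)) * h1 (c k) = 1 := by
    have := congrArg h1 hc
    rw [map_sum, map_one] at this
    simp only [map_mul, e1] at this
    exact this
  simp only [sPoly, map_sum, map_mul, descHom_C, descHom_X, e1]
  rw [sum_key, e2, e3]
  ring

theorem descHom_comp_beta (hc : ∑ i, φ (f i) * c i = 1) (hcomm : h1.comp φ = h2.comp (cJ f)) :
    (descHom f c h1 h2).comp (beta f φ c hc) = h2 := by
  have e1 : ∀ a, h1 (φ a) = h2 (cJ f a) := fun a => RingHom.congr_fun hcomm a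
  have hs := descHom_sPoly f φ c h1 h2 hc hcomm
  apply hom_ext_J
  · intro a
    simp only [RingHom.comp_apply, beta, liftJ_cJ, descHom_C, e1]
  · intro i
    simp only [RingHom.comp_apply, beta, liftJ_xJ, map_sub, map_add, map_mul, hs, descHom_C,
      descHom_X]
    ring
  · simp only [RingHom.comp_apply, beta, liftJ_yJ, hs]

theorem descHom_uniq (hc : ∑ i, φ (f i) * c i = 1) (m : MvPolynomial ι R →+* D)
    (hm1 : m.comp C = h1) (hm2 : m.comp (beta f φ c hc) = h2) : m = descHom f c h1 h2 := by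
  have hz : ∀ i, (X i : MvPolynomial ι R) =
      beta f φ c hc (xJ f i) - C (c i) + beta f φ c hc (yJ f) * C (c i) := by
    intro i
    simp only [beta, liftJ_xJ, liftJ_yJ]
    ring
  have a1 : ∀ b, m (beta f φ c hc b) = h2 b := fun b => RingHom.congr_fun hm2 b
  have a2 : ∀ r, m (C r) = h1 r := fun r => RingHom.congr_fun hm1 r
  apply MvPolynomial.ringHom_ext
  · intro r
    rw [a2, descHom_C]
  · intro i
    rw [descHom_X]
    conv_lhs => rw [hz i]
    simp only [map_sub, map_add, map_mul, a1, a2]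

theorem isPushout_jou (hc : ∑ i, φ (f i) * c i = 1) :
    IsPushout (CommRingCat.ofHom φ) (CommRingCat.ofHom (cJ f))
      (CommRingCat.ofHom (C : R →+* MvPolynomial ι R)) (CommRingCat.ofHom (beta f φ c hc)) := by
  have hcomm : (C : R →+* MvPolynomial ι R).comp φ = (beta f φ c hc).comp (cJ f) := by
    ext a
    simp only [RingHom.comp_apply, beta, liftJ_cJ]
  refine ⟨⟨?_⟩, ⟨PushoutCocone.IsColimit.mk _
    (fun s => CommRingCat.ofHom (descHom f c s.inl.hom s.inr.hom)) ?_ ?_ ?_⟩⟩
  · ext1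
    exact hcomm
  · intro s
    ext1
    exact RingHom.ext (fun r => descHom_C f c s.inl.hom s.inr.hom r)
  · intro s
    ext1
    exact descHom_comp_beta f φ c s.inl.hom s.inr.hom hc
      (congrArg CommRingCat.Hom.hom s.condition)
  · intro s m hm1 hm2
    ext1
    exact descHom_uniq f φ c s.inl.hom s.inr.hom hc m.hom
      (congrArg CommRingCat.Hom.hom hm1) (congrArg CommRingCat.Hom.hom hm2)

end Pushout

end Groth.Agent.Lib.JouH7
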