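import Groth.Statements.S9803
import Groth.Agent.Lib.JouAlg_helper7

/-! # Jouanolou's trick for quasi-affine schemes (helper7) -/

set_option autoImplicit false
set_option linter.unusedSimpArgs false
set_option linter.unusedVariables false
set_option linter.unusedSectionVars false
set_option linter.style.longLine false
set_option linter.unnecessarySimpa false
set_option maxHeartbeats 800000

universe u

open CategoryTheory CategoryTheory.Limits AlgebraicGeometry MvPolynomial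

namespace Groth.Agent.Lib.JouGeomH7

open Groth.Agent.Lib.JouH7

theorem isPullback_of_comp_mono {C : Type*} [Category C] {P X Y Z W : C} {fst : P ⟶ X}
    {snd : P ⟶ Y} {f : X ⟶ Z} {g : Y ⟶ Z} (i : Z ⟶ W) [Mono i]
    (h : IsPullback fst snd (f ≫ i) (g ≫ i)) : IsPullback fst snd f g := by
  have w : fst ≫ f = snd ≫ g := by
    rw [← cancel_mono i, Category.assoc, Category.assoc]; exact h.w
  refine ⟨⟨w⟩, ⟨PullbackCone.IsLimit.mk _
    (fun s => h.lift s.fst s.snd (by rw [← Category.assoc, s.condition, Category.assoc]))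
    (fun s => h.lift_fst _ _ _) (fun s => h.lift_snd _ _ _) ?_⟩⟩
  intro s m h1 h2
  apply h.hom_ext
  · rw [h.lift_fst]; exact h1
  · rw [h.lift_snd]; exact h2

/-- finitely many global functions whose non-vanishing loci cover the image of `X` in `Spec Γ(X)`. -/
theorem exists_generators (X : Scheme.{u}) [X.IsQuasiAffine] :
    ∃ (n : ℕ) (f : ULift.{u} (Fin n) → Γ(X, ⊤)),
      ∀ q : Spec Γ(X, ⊤), q ∈ Set.range X.toSpecΓ ↔ ∃ i, f i ∉ q.asIdeal := by
  have hco : IsCompact (Set.range X.toSpecΓ) ∧ IsOpen (Set.range X.toSpecΓ) :=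
    ⟨isCompact_range X.toSpecΓ.continuous, X.toSpecΓ.isOpenEmbedding.isOpen_range⟩
  obtain ⟨t, ht⟩ := PrimeSpectrum.isCompact_isOpen_iff.mp hco
  refine ⟨t.card, fun i => (t.equivFin.symm i.down).1, ?_⟩
  intro q
  rw [← ht]
  constructor
  · intro hq
    by_contra hcon
    push Not at hcon
    apply hq
    intro a ha
    have := hcon ⟨t.equivFin ⟨a, ha⟩⟩
    simpa using this
  · rintro ⟨i, hi⟩ hq
    exact hi (hq (t.equivFin.symm i.down).2)

section Main

variable (X : Scheme.{u}) [X.IsQuasiAffine] {n : ℕ} (f : ULift.{u} (Fin n) → Γ(X, ⊤))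
  (hf : ∀ q : Spec Γ(X, ⊤), q ∈ Set.range X.toSpecΓ ↔ ∃ i, f i ∉ q.asIdeal)

include hf in
theorem range_subset :
    Set.range (Spec.map (CommRingCat.ofHom (cJ f))) ⊆ Set.range X.toSpecΓ := by
  rintro _ ⟨q, rfl⟩
  rw [hf]
  by_contra hcon
  push Not at hcon
  have h1 : ∀ i, cJ f (f i) ∈ q.asIdeal := fun i => hcon i
  have h2 : (1 : Jou f) ∈ q.asIdeal := by
    rw [← sum_xJ f]
    exact Ideal.sum_mem _ (fun i _ => Ideal.mul_mem_right _ _ (h1 i))
  exact q.isPrime.ne_top ((Ideal.eq_top_iff_one _).mpr h2)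

/-- the morphism `T = Spec A[x,y]/(Σ f x - 1) ⟶ X`. -/
noncomputable def pJ : Spec (CommRingCat.of (Jou f)) ⟶ X :=
  IsOpenImmersion.lift X.toSpecΓ (Spec.map (CommRingCat.ofHom (cJ f))) (range_subset X f hf)

theorem pJ_fac : pJ X f hf ≫ X.toSpecΓ = Spec.map (CommRingCat.ofHom (cJ f)) :=
  IsOpenImmersion.lift_fac _ _ _

include hf in
theorem exists_coeffs {X' : Scheme.{u}} [IsAffine X'] (g : X' ⟶ X) :
    ∃ c : ULift.{u} (Fin n) → Γ(X', ⊤), ∑ i, g.appTop.hom (f i) * c i = 1 := by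
  have hφ : X'.isoSpec.inv ≫ g ≫ X.toSpecΓ = Spec.map g.appTop := by
    rw [Scheme.toSpecΓ_naturality, ← Scheme.isoSpec_hom, Iso.inv_hom_id_assoc]
  have hspan : Ideal.span (Set.range fun i => g.appTop.hom (f i)) = ⊤ := by
    by_contra hne
    obtain ⟨m, hm, hle⟩ := Ideal.exists_le_maximal _ hne
    let x : Spec Γ(X', ⊤) := ⟨m, hm.isPrime⟩
    have hx : Spec.map g.appTop x ∈ Set.range X.toSpecΓ := by
      rw [← hφ]
      exact ⟨g (X'.isoSpec.inv x), rfl⟩
    rw [hf] at hx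
    obtain ⟨i, hi⟩ := hx
    exact hi (hle (Ideal.subset_span ⟨i, rfl⟩))
  have h1 : (1 : Γ(X', ⊤)) ∈ Ideal.span (Set.range fun i => g.appTop.hom (f i)) := by
    rw [hspan]; trivial
  obtain ⟨c, hc⟩ := (Ideal.mem_span_range_iff_exists_fun).mp h1
  exact ⟨c, by rw [← hc]; exact Finset.sum_congr rfl (fun i _ => mul_comm _ _)⟩

theorem exists_iso {X' : Scheme.{u}} [IsAffine X'] (g : X' ⟶ X) :
    ∃ e : Limits.pullback g (pJ X f hf) ≅ 𝔸(ULift.{u} (Fin n); X'),
      e.hom ≫ (𝔸(ULift.{u} (Fin n); X') ↘ X') = Limits.pullback.fst g (pJ X f hf) := by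
  obtain ⟨c, hc⟩ := exists_coeffs X f hf g
  have hφ : X'.isoSpec.inv ≫ g ≫ X.toSpecΓ = Spec.map g.appTop := by
    rw [Scheme.toSpecΓ_naturality, ← Scheme.isoSpec_hom, Iso.inv_hom_id_assoc]
  have hpo := isPushout_jou f g.appTop.hom c hc
  have hpb := isPullback_SpecMap_of_isPushout _ _ _ _ hpo
  have hbig : IsPullback (𝔸(ULift.{u} (Fin n); X') ↘ X')
      ((AffineSpace.isoOfIsAffine (ULift.{u} (Fin n)) X').hom ≫
        Spec.map (CommRingCat.ofHom (beta f g.appTop.hom c hc)))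
      (g ≫ X.toSpecΓ) (pJ X f hf ≫ X.toSpecΓ) := by
    refine IsPullback.of_iso hpb (AffineSpace.isoOfIsAffine (ULift.{u} (Fin n)) X').symm
      X'.isoSpec.symm (Iso.refl _) (Iso.refl _) ?_ ?_ ?_ ?_
    · exact (AffineSpace.isoOfIsAffine_inv_over _).symm
    · simp only [Iso.refl_hom, Category.comp_id, Iso.symm_hom, Iso.inv_hom_id_assoc]
    · simp only [Iso.refl_hom, Category.comp_id, Iso.symm_hom]
      exact hφ.symm
    · simp only [Iso.refl_hom, Category.comp_id, Category.id_comp]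
      exact (pJ_fac X f hf).symm
  have hsmall := isPullback_of_comp_mono X.toSpecΓ hbig
  exact ⟨hsmall.isoPullback.symm, hsmall.isoPullback_inv_fst⟩

end Main

theorem main9803 (X : Scheme.{u}) [X.IsQuasiAffine] :
    ∃ (n : ℕ) (T : Scheme.{u}) (_ : IsAffine T) (p : T ⟶ X),
      ∀ (X' : Scheme.{u}) [IsAffine X'] (g : X' ⟶ X),
        ∃ e : Limits.pullback g p ≅ 𝔸(ULift.{u} (Fin n); X'),
          e.hom ≫ (𝔸(ULift.{u} (Fin n); X') ↘ X') = Limits.pullback.fst g p := by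
  obtain ⟨n, f, hf⟩ := exists_generators X
  exact ⟨n, Spec (CommRingCat.of (Jou f)), inferInstance, pJ X f hf,
    fun X' _ g => exists_iso X f hf g⟩

end Groth.Agent.Lib.JouGeomH7
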