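import Mathlib
import Groth.Prelude.Def_KZero
import Groth.Agent.Lib.TruncChain_helper4

set_option autoImplicit false
set_option linter.style.haveILetI false

universe w v u

open CategoryTheory Limits Pretriangulated DerivedCategory ZeroObject

namespace Groth.Agent.Lib.K0DerH4

open Groth.Agent.Lib.TruncChainH4 KZero

section Ab

variable {A : Type u} [Category.{v} A] [Abelian A]

lemma cl_ses (S : ShortComplex A) (hS : S.ShortExact) : cl S.X₂ = cl S.X₁ + cl S.X₃ := by
  have h : (QuotientAddGroup.mk (FreeAbelianGroup.of S.X₂ - FreeAbelianGroup.of S.X₁ -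
      FreeAbelianGroup.of S.X₃) : K0 A) = 0 :=
    (QuotientAddGroup.eq_zero_iff _).2 (AddSubgroup.subset_closure ⟨S, hS, rfl⟩)
  rw [QuotientAddGroup.mk_sub, QuotientAddGroup.mk_sub, sub_sub, sub_eq_zero] at h
  exact h

lemma cl_isZero (Z : A) (hZ : IsZero Z) : cl Z = 0 := by
  let S : ShortComplex A := ShortComplex.mk (0 : Z ⟶ Z) (0 : Z ⟶ Z) zero_comp
  have hS : S.ShortExact :=
    { exact := S.exact_of_isZero_X₂ hZ
      mono_f := hZ.mono _
      epi_g := hZ.epi _ }
  have h : cl Z = cl Z + cl Z := cl_ses S hS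
  have h' : cl Z + cl Z = cl Z + 0 := by rw [add_zero]; exact h.symm
  exact add_left_cancel h'

lemma cl_iso {X Y : A} (e : X ≅ Y) : cl X = cl Y := by
  let S : ShortComplex A := ShortComplex.mk e.hom (0 : Y ⟶ 0) comp_zero
  have hS : S.ShortExact :=
    { exact := (S.exact_iff_epi rfl).2 (inferInstanceAs (Epi e.hom))
      mono_f := inferInstanceAs (Mono e.hom)
      epi_g := (isZero_zero A).epi _ }
  have h : cl Y = cl X + cl (0 : A) := cl_ses S hS
  rw [h, cl_isZero _ (isZero_zero A), add_zero]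

lemma cl_exact (S : ShortComplex A) (hS : S.Exact) :
    cl S.X₁ = cl (kernel S.f) + cl (kernel S.g) := by
  have w : kernel.ι S.f ≫ kernel.lift S.g S.f S.zero = 0 := by
    rw [← cancel_mono (kernel.ι S.g), Category.assoc, kernel.lift_ι, kernel.condition, zero_comp]
  let S' : ShortComplex A := ShortComplex.mk (kernel.ι S.f) (kernel.lift S.g S.f S.zero) w
  have hS' : S'.ShortExact :=
    { exact := S'.exact_of_f_is_kernel
        (isKernelOfComp (kernel.ι S.g) S.f (kernelIsKernel S.f) w (kernel.lift_ι _ _ _))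
      mono_f := inferInstanceAs (Mono (kernel.ι S.f))
      epi_g := S.exact_iff_epi_kernel_lift.1 hS }
  exact cl_ses S' hS'

end Ab

section Tr

variable {D : Type u} [Category.{v} D] [Preadditive D] [HasZeroObject D] [HasShift D ℤ]
  [∀ n : ℤ, (shiftFunctor D n).Additive] [Pretriangulated D] (Q : ObjectProperty D)

lemma clTr_eq {X : D} (h : Q X) :
    clTr Q X = QuotientAddGroup.mk (FreeAbelianGroup.of (⟨X, h⟩ : Subtype Q)) := dif_pos h

lemma clTr_tri (T : Triangle D) (hT : T ∈ distTriang D) (h₁ : Q T.obj₁) (h₂ : Q T.obj₂)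
    (h₃ : Q T.obj₃) : clTr Q T.obj₂ = clTr Q T.obj₁ + clTr Q T.obj₃ := by
  rw [clTr_eq Q h₁, clTr_eq Q h₂, clTr_eq Q h₃]
  have h : (QuotientAddGroup.mk (FreeAbelianGroup.of (⟨T.obj₂, h₂⟩ : Subtype Q) -
      FreeAbelianGroup.of (⟨T.obj₁, h₁⟩ : Subtype Q) -
      FreeAbelianGroup.of (⟨T.obj₃, h₃⟩ : Subtype Q)) : K0tr Q) = 0 :=
    (QuotientAddGroup.eq_zero_iff _).2 (AddSubgroup.subset_closure ⟨T, h₁, h₂, h₃, hT, rfl⟩)
  rw [QuotientAddGroup.mk_sub, QuotientAddGroup.mk_sub, sub_sub, sub_eq_zero] at h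
  exact h

lemma clTr_zero (h0 : Q (0 : D)) : clTr Q (0 : D) = 0 := by
  have h : clTr Q (0 : D) = clTr Q (0 : D) + clTr Q (0 : D) :=
    clTr_tri Q (contractibleTriangle (0 : D)) (contractible_distinguished _) h0 h0 h0
  have h' : clTr Q (0 : D) + clTr Q (0 : D) = clTr Q (0 : D) + 0 := by
    rw [add_zero]; exact h.symm
  exact add_left_cancel h'

lemma clTr_iso (h0 : Q (0 : D)) {X Y : D} (e : X ≅ Y) (hX : Q X) (hY : Q Y) :
    clTr Q X = clTr Q Y := by
  have hT : Triangle.mk e.hom (0 : Y ⟶ 0) 0 ∈ distTriang D := by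
    refine isomorphic_distinguished _ (contractible_distinguished X) _ ?_
    refine Triangle.isoMk (Triangle.mk e.hom (0 : Y ⟶ 0) 0) (contractibleTriangle X)
      (Iso.refl X) e.symm (Iso.refl (0 : D)) ?_ ?_ ?_
    · change e.hom ≫ e.inv = 𝟙 X ≫ 𝟙 X
      rw [Iso.hom_inv_id, Category.id_comp]
    · exact (isZero_zero D).eq_of_tgt _ _
    · exact (isZero_zero D).eq_of_src _ _
  have h : clTr Q Y = clTr Q X + clTr Q (0 : D) := clTr_tri Q _ hT hX hY h0
  rw [h, clTr_zero Q h0, add_zero]

lemma clTr_shift (h0 : Q (0 : D)) (X : D) (hX : Q X) (hX1 : Q (X⟦(1 : ℤ)⟧)) :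
    clTr Q (X⟦(1 : ℤ)⟧) = - clTr Q X := by
  have h : clTr Q (0 : D) = clTr Q X + clTr Q (X⟦(1 : ℤ)⟧) :=
    clTr_tri Q _ (contractible_distinguished₂ X) hX h0 hX1
  rw [clTr_zero Q h0] at h
  exact (neg_eq_of_add_eq_zero_right h.symm).symm

end Tr

section Der

variable {A : Type u} [Category.{v} A] [Abelian A] [HasDerivedCategory.{w} A]

/-- Bounded objects of the derived category. -/
abbrev Qb (A : Type u) [Category.{v} A] [Abelian A] [HasDerivedCategory.{w} A] :
    ObjectProperty (DerivedCategory A) := fun X => ∃ a b : ℤ, X.IsGE a ∧ X.IsLE b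

/-- The sign `(-1)^i`. -/
def sgn (i : ℤ) : ℤ := ((i.negOnePow : ℤˣ) : ℤ)

lemma sgn_zero : sgn 0 = 1 := by simp [sgn]

lemma sgn_succ (i : ℤ) : sgn (i + 1) = - sgn i := by
  simp [sgn, Int.negOnePow_succ]

lemma sgn_pred (i : ℤ) : sgn (i - 1) = - sgn i := by
  have h := sgn_succ (i - 1)
  rw [sub_add_cancel] at h
  rw [h, neg_neg]

lemma hfs {G : Type*} [AddCommGroup G] (f : ℤ → G) (a b : ℤ)
    (h : ∀ i, i < a ∨ b < i → f i = 0) : Function.HasFiniteSupport f :=
  (Set.finite_Icc a b).subset (fun i hi => by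
    rw [Function.mem_support] at hi
    rw [Set.mem_Icc]
    by_contra hc
    exact hi (h i (by omega)))

lemma isZero_H (K : DerivedCategory A) (a b : ℤ) [K.IsGE a] [K.IsLE b] (i : ℤ)
    (hi : i < a ∨ b < i) : IsZero ((homologyFunctor A i).obj K) := by
  rcases hi with hi | hi
  · exact isZero_of_isGE K a i hi
  · exact isZero_of_isLE K b i hi

lemma isGE_of_isZero (K : DerivedCategory A) (hK : IsZero K) (n : ℤ) : K.IsGE n := by
  rw [isGE_iff]
  intro i _
  exact (homologyFunctor A i).map_isZero hK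

lemma isLE_of_isZero (K : DerivedCategory A) (hK : IsZero K) (n : ℤ) : K.IsLE n := by
  rw [isLE_iff]
  intro i _
  exact (homologyFunctor A i).map_isZero hK

lemma Q_of_isZero (K : DerivedCategory A) (hK : IsZero K) : Qb A K :=
  ⟨0, 0, isGE_of_isZero K hK 0, isLE_of_isZero K hK 0⟩

lemma Q_zero : Qb A (0 : DerivedCategory A) := Q_of_isZero _ (isZero_zero _)

lemma Q_single (M : A) (i : ℤ) : Qb A ((singleFunctor A i).obj M) :=
  ⟨i, i, inferInstance, inferInstance⟩

lemma Q_shift (X : DerivedCategory A) (hX : Qb A X) : Qb A (X⟦(1 : ℤ)⟧) := by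
  obtain ⟨a, b, h1, h2⟩ := hX
  haveI := h1
  haveI := h2
  exact ⟨a - 1, b - 1, TStructure.t.isGE_shift X a 1 (a - 1) (by omega),
    TStructure.t.isLE_shift X b 1 (b - 1) (by omega)⟩

/-- The Euler characteristic of a (bounded) object, in `K₀(A)`. -/
noncomputable def chi (K : DerivedCategory A) : K0 A :=
  ∑ᶠ i : ℤ, sgn i • cl ((homologyFunctor A i).obj K)

lemma chi_single (M : A) (b : ℤ) : chi ((singleFunctor A b).obj M) = sgn b • cl M := by
  have h1 : chi ((singleFunctor A b).obj M) =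
      sgn b • cl ((homologyFunctor A b).obj ((singleFunctor A b).obj M)) := by
    refine finsum_eq_single _ b (fun i hi => ?_)
    rw [cl_isZero _ (isZero_H ((singleFunctor A b).obj M) b b i (by omega)), smul_zero]
  rw [h1]
  congr 1
  exact cl_iso ((singleFunctorCompHomologyFunctorIso A b).app M)

lemma chi_iso {K K' : DerivedCategory A} (e : K ≅ K') : chi K = chi K' :=
  finsum_congr (fun i => by rw [cl_iso ((homologyFunctor A i).mapIso e)])

lemma chi_isZero (K : DerivedCategory A) (hK : IsZero K) : chi K = 0 := by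
  have h : chi K = ∑ᶠ _i : ℤ, (0 : K0 A) :=
    finsum_congr (fun i => by
      rw [cl_isZero _ ((homologyFunctor A i).map_isZero hK), smul_zero])
  rw [h, finsum_zero]

lemma chi_tri (T : Triangle (DerivedCategory A)) (hT : T ∈ distTriang (DerivedCategory A))
    (a b : ℤ) (h1g : T.obj₁.IsGE a) (h1l : T.obj₁.IsLE b) (h2g : T.obj₂.IsGE a)
    (h2l : T.obj₂.IsLE b) (h3g : T.obj₃.IsGE a) (h3l : T.obj₃.IsLE b) :
    chi T.obj₂ = chi T.obj₁ + chi T.obj₃ := by
  haveI := h1g
  haveI := h1l
  haveI := h2g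
  haveI := h2l
  haveI := h3g
  haveI := h3l
  have hX : ∀ i, cl ((homologyFunctor A i).obj T.obj₁) =
      cl (kernel ((homologyFunctor A i).map T.mor₁)) +
        cl (kernel ((homologyFunctor A i).map T.mor₂)) := fun i =>
    cl_exact _ (HomologySequence.exact₂ T hT i)
  have hY : ∀ i, cl ((homologyFunctor A i).obj T.obj₂) =
      cl (kernel ((homologyFunctor A i).map T.mor₂)) +
        cl (kernel (HomologySequence.δ T i (i + 1) rfl)) := fun i =>
    cl_exact _ (HomologySequence.exact₃ T hT i (i + 1) rfl)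
  have hZ : ∀ i, cl ((homologyFunctor A i).obj T.obj₃) =
      cl (kernel (HomologySequence.δ T i (i + 1) rfl)) +
        cl (kernel ((homologyFunctor A (i + 1)).map T.mor₁)) := fun i =>
    cl_exact _ (HomologySequence.exact₁ T hT i (i + 1) rfl)
  have hka0 : ∀ i, i < a ∨ b < i → cl (kernel ((homologyFunctor A i).map T.mor₁)) = 0 :=
    fun i hi => cl_isZero _ (IsZero.of_mono (kernel.ι _) (isZero_H T.obj₁ a b i hi))
  have key : ∀ i, sgn i • cl ((homologyFunctor A i).obj T.obj₂) =
      (sgn i • cl ((homologyFunctor A i).obj T.obj₁) +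
        sgn i • cl ((homologyFunctor A i).obj T.obj₃)) -
      (sgn i • cl (kernel ((homologyFunctor A i).map T.mor₁)) -
        sgn (i + 1) • cl (kernel ((homologyFunctor A (i + 1)).map T.mor₁))) := by
    intro i
    rw [hX, hY, hZ, sgn_succ]
    simp only [smul_add, neg_smul]
    abel
  have hfs1 : Function.HasFiniteSupport
      (fun i => sgn i • cl ((homologyFunctor A i).obj T.obj₁)) :=
    hfs _ a b (fun i hi => by rw [cl_isZero _ (isZero_H T.obj₁ a b i hi), smul_zero])
  have hfs3 : Function.HasFiniteSupport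
      (fun i => sgn i • cl ((homologyFunctor A i).obj T.obj₃)) :=
    hfs _ a b (fun i hi => by rw [cl_isZero _ (isZero_H T.obj₃ a b i hi), smul_zero])
  have hfsa : Function.HasFiniteSupport
      (fun i => sgn i • cl (kernel ((homologyFunctor A i).map T.mor₁))) :=
    hfs _ a b (fun i hi => by rw [hka0 i hi, smul_zero])
  have hfsa' : Function.HasFiniteSupport
      (fun i => sgn (i + 1) • cl (kernel ((homologyFunctor A (i + 1)).map T.mor₁))) :=
    hfs _ (a - 1) (b - 1) (fun i hi => by rw [hka0 (i + 1) (by omega), smul_zero])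
  have hfsF : Function.HasFiniteSupport
      (fun i => sgn i • cl ((homologyFunctor A i).obj T.obj₁) +
        sgn i • cl ((homologyFunctor A i).obj T.obj₃)) :=
    hfs _ a b (fun i hi => by
      rw [cl_isZero _ (isZero_H T.obj₁ a b i hi), cl_isZero _ (isZero_H T.obj₃ a b i hi),
        smul_zero, add_zero])
  have hfsG : Function.HasFiniteSupport
      (fun i => sgn i • cl (kernel ((homologyFunctor A i).map T.mor₁)) -
        sgn (i + 1) • cl (kernel ((homologyFunctor A (i + 1)).map T.mor₁))) :=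
    hfs _ (a - 1) b (fun i hi => by
      rw [hka0 i (by omega), hka0 (i + 1) (by omega), smul_zero, smul_zero, sub_zero])
  have hre : ∑ᶠ i : ℤ, sgn (i + 1) • cl (kernel ((homologyFunctor A (i + 1)).map T.mor₁)) =
      ∑ᶠ i : ℤ, sgn i • cl (kernel ((homologyFunctor A i).map T.mor₁)) :=
    finsum_comp_equiv (Equiv.addRight (1 : ℤ))
      (f := fun i => sgn i • cl (kernel ((homologyFunctor A i).map T.mor₁)))
  calc chi T.obj₂
      = ∑ᶠ i : ℤ, ((sgn i • cl ((homologyFunctor A i).obj T.obj₁) +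
          sgn i • cl ((homologyFunctor A i).obj T.obj₃)) -
        (sgn i • cl (kernel ((homologyFunctor A i).map T.mor₁)) -
          sgn (i + 1) • cl (kernel ((homologyFunctor A (i + 1)).map T.mor₁)))) :=
        finsum_congr key
    _ = (∑ᶠ i : ℤ, (sgn i • cl ((homologyFunctor A i).obj T.obj₁) +
          sgn i • cl ((homologyFunctor A i).obj T.obj₃))) -
        ∑ᶠ i : ℤ, (sgn i • cl (kernel ((homologyFunctor A i).map T.mor₁)) -
          sgn (i + 1) • cl (kernel ((homologyFunctor A (i + 1)).map T.mor₁))) :=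
        finsum_sub_distrib hfsF hfsG
    _ = (chi T.obj₁ + chi T.obj₃) -
        (∑ᶠ i : ℤ, sgn i • cl (kernel ((homologyFunctor A i).map T.mor₁)) -
          ∑ᶠ i : ℤ, sgn (i + 1) • cl (kernel ((homologyFunctor A (i + 1)).map T.mor₁))) :=
        congrArg₂ (· - ·) (finsum_add_distrib hfs1 hfs3) (finsum_sub_distrib hfsa hfsa')
    _ = chi T.obj₁ + chi T.obj₃ := by rw [hre, sub_self, sub_zero]

lemma clTr_single_pred (M : A) (i : ℤ) :
    clTr (Qb A) ((singleFunctor A (i - 1)).obj M) = - clTr (Qb A) ((singleFunctor A i).obj M) := by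
  have e : ((singleFunctor A i).obj M)⟦(1 : ℤ)⟧ ≅ (singleFunctor A (i - 1)).obj M :=
    ((singleFunctors A).shiftIso 1 (i - 1) i (by omega)).app M
  rw [← clTr_iso (Qb A) Q_zero e (Q_shift _ (Q_single M i)) (Q_single M (i - 1)),
    clTr_shift (Qb A) Q_zero _ (Q_single M i) (Q_shift _ (Q_single M i))]

lemma clTr_single (M : A) (i : ℤ) :
    clTr (Qb A) ((singleFunctor A i).obj M) =
      sgn i • clTr (Qb A) ((singleFunctor A 0).obj M) := by
  induction i using Int.induction_on with
  | zero => rw [sgn_zero, one_smul]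
  | succ k ih =>
    have h := clTr_single_pred M ((k : ℤ) + 1)
    rw [add_sub_cancel_right] at h
    rw [sgn_succ, neg_smul, ← ih, h, neg_neg]
  | pred k ih =>
    rw [clTr_single_pred M (-(k : ℤ)), ih, sgn_pred, neg_smul]

theorem clTr_eq_phi_chi (φ : K0 A →+ K0tr (Qb A))
    (hφ : ∀ X : A, φ (cl X) = clTr (Qb A) ((singleFunctor A 0).obj X)) :
    ∀ (n : ℕ) (K : DerivedCategory A) (a b : ℤ), b < a + n → K.IsGE a → K.IsLE b →
      clTr (Qb A) K = φ (chi K) := by
  have zero_case : ∀ K : DerivedCategory A, IsZero K → clTr (Qb A) K = φ (chi K) := by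
    intro K hK
    rw [chi_isZero K hK, map_zero,
      clTr_iso (Qb A) Q_zero hK.isoZero (Q_of_isZero K hK) Q_zero, clTr_zero (Qb A) Q_zero]
  intro n
  induction n with
  | zero =>
    intro K a b hlt hge hle
    haveI := hge
    haveI := hle
    exact zero_case K (TStructure.t.isZero K b a (by simpa using hlt))
  | succ n ih =>
    intro K a b hlt hge hle
    haveI := hge
    haveI := hle
    by_cases hab : a ≤ b
    swap
    · exact zero_case K (TStructure.t.isZero K b a (by omega))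
    obtain ⟨X, Y, hX, hY, f, g, h, hT⟩ := TStructure.t.exists_triangle K (b - 1) b (by omega)
    haveI hXle : X.IsLE (b - 1) := ⟨hX⟩
    haveI hYge : Y.IsGE b := ⟨hY⟩
    haveI hXge : X.IsGE a := trunc_isGE hT b a
    haveI hYle : Y.IsLE b := trunc_isLE hT b
    have hXle' : X.IsLE b := TStructure.t.isLE_of_le X (b - 1) b (by omega)
    have hYge' : Y.IsGE a := TStructure.t.isGE_of_ge Y a b hab
    have hQX : Qb A X := ⟨a, b - 1, inferInstance, inferInstance⟩
    have hQK : Qb A K := ⟨a, b, inferInstance, inferInstance⟩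
    have hQY : Qb A Y := ⟨b, b, inferInstance, inferInstance⟩
    have e1 : clTr (Qb A) K = clTr (Qb A) X + clTr (Qb A) Y :=
      clTr_tri (Qb A) (Triangle.mk f g h) hT hQX hQK hQY
    have e2 : chi K = chi X + chi Y :=
      chi_tri (Triangle.mk f g h) hT a b hXge hXle' hge hle hYge' hYle
    have e3 : clTr (Qb A) X = φ (chi X) :=
      ih X a (b - 1) (by push_cast at hlt; omega) inferInstance inferInstance
    have e4 : clTr (Qb A) Y = φ (chi Y) := by
      obtain ⟨M, ⟨ψ⟩⟩ := exists_iso_singleFunctor_obj_of_isGE_of_isLE Y b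
      rw [clTr_iso (Qb A) Q_zero ψ hQY (Q_single M b), chi_iso ψ, chi_single, map_zsmul, hφ,
        clTr_single]
    rw [e1, e2, map_add, e3, e4]

theorem main : ∃ φ : K0 A ≃+ K0tr (Qb A),
    ∀ X : A, φ (cl X) = clTr (Qb A) ((singleFunctor A 0).obj X) := by
  let f0 : A → K0tr (Qb A) := fun X => clTr (Qb A) ((singleFunctor A 0).obj X)
  have hφker : relAb A ≤ (FreeAbelianGroup.lift f0).ker := by
    unfold relAb
    rw [AddSubgroup.closure_le]
    rintro x ⟨S, hS, rfl⟩
    rw [SetLike.mem_coe, AddMonoidHom.mem_ker, map_sub, map_sub, FreeAbelianGroup.lift_apply_of,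
      FreeAbelianGroup.lift_apply_of, FreeAbelianGroup.lift_apply_of]
    have h : f0 S.X₂ = f0 S.X₁ + f0 S.X₃ :=
      clTr_tri (Qb A) hS.singleTriangle hS.singleTriangle_distinguished (Q_single _ 0)
        (Q_single _ 0) (Q_single _ 0)
    rw [h]
    abel
  let φ : K0 A →+ K0tr (Qb A) := QuotientAddGroup.lift (relAb A) (FreeAbelianGroup.lift f0) hφker
  have hφ : ∀ X : A, φ (cl X) = f0 X := fun X => by
    show QuotientAddGroup.lift _ _ _ (QuotientAddGroup.mk (FreeAbelianGroup.of X)) = _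
    rw [QuotientAddGroup.lift_mk, FreeAbelianGroup.lift_apply_of]
  let g0 : Subtype (Qb A) → K0 A := fun K => chi K.1
  have hψker : relTr (Qb A) ≤ (FreeAbelianGroup.lift g0).ker := by
    unfold relTr
    rw [AddSubgroup.closure_le]
    rintro x ⟨T, h₁, h₂, h₃, hT, rfl⟩
    rw [SetLike.mem_coe, AddMonoidHom.mem_ker, map_sub, map_sub, FreeAbelianGroup.lift_apply_of,
      FreeAbelianGroup.lift_apply_of, FreeAbelianGroup.lift_apply_of]
    obtain ⟨a₁, b₁, hg1, hl1⟩ := h₁
    obtain ⟨a₂, b₂, hg2, hl2⟩ := h₂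
    obtain ⟨a₃, b₃, hg3, hl3⟩ := h₃
    haveI := hg1
    haveI := hl1
    haveI := hg2
    haveI := hl2
    haveI := hg3
    haveI := hl3
    have h : chi T.obj₂ = chi T.obj₁ + chi T.obj₃ :=
      chi_tri T hT (min a₁ (min a₂ a₃)) (max b₁ (max b₂ b₃))
        (TStructure.t.isGE_of_ge T.obj₁ _ a₁ (by omega))
        (TStructure.t.isLE_of_le T.obj₁ b₁ _ (by omega))
        (TStructure.t.isGE_of_ge T.obj₂ _ a₂ (by omega))
        (TStructure.t.isLE_of_le T.obj₂ b₂ _ (by omega))
        (TStructure.t.isGE_of_ge T.obj₃ _ a₃ (by omega))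
        (TStructure.t.isLE_of_le T.obj₃ b₃ _ (by omega))
    show chi T.obj₂ - chi T.obj₁ - chi T.obj₃ = 0
    rw [h]
    abel
  let ψ : K0tr (Qb A) →+ K0 A :=
    QuotientAddGroup.lift (relTr (Qb A)) (FreeAbelianGroup.lift g0) hψker
  have hψ : ∀ (K : DerivedCategory A) (hK : Qb A K), ψ (clTr (Qb A) K) = chi K := fun K hK => by
    rw [clTr_eq (Qb A) hK]
    show QuotientAddGroup.lift _ _ _ (QuotientAddGroup.mk _) = _
    rw [QuotientAddGroup.lift_mk, FreeAbelianGroup.lift_apply_of]
  have h1 : ∀ z : FreeAbelianGroup A, ψ (φ (QuotientAddGroup.mk z)) = QuotientAddGroup.mk z := by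
    intro z
    refine FreeAbelianGroup.induction_on z ?_ ?_ ?_ ?_
    · rw [QuotientAddGroup.mk_zero, map_zero, map_zero]
    · intro X
      have e : ψ (φ (cl X)) = cl X := by
        rw [hφ X, hψ _ (Q_single X 0), chi_single, sgn_zero, one_smul]
      exact e
    · intro X ih
      rw [QuotientAddGroup.mk_neg, map_neg, map_neg, ih]
    · intro x y hx hy
      rw [QuotientAddGroup.mk_add, map_add, map_add, hx, hy]
  have h2 : ∀ z : FreeAbelianGroup (Subtype (Qb A)),
      φ (ψ (QuotientAddGroup.mk z)) = QuotientAddGroup.mk z := by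
    intro z
    refine FreeAbelianGroup.induction_on z ?_ ?_ ?_ ?_
    · rw [QuotientAddGroup.mk_zero, map_zero, map_zero]
    · rintro ⟨K, hK⟩
      have e : φ (ψ (clTr (Qb A) K)) = clTr (Qb A) K := by
        rw [hψ K hK]
        obtain ⟨a, b, hge, hle⟩ := hK
        have hlt : b < a + (((b - a + 1).toNat : ℕ) : ℤ) := by
          have := Int.self_le_toNat (b - a + 1)
          omega
        exact (clTr_eq_phi_chi φ hφ _ K a b hlt hge hle).symm
      rw [clTr_eq (Qb A) hK] at e
      exact e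
    · intro X ih
      rw [QuotientAddGroup.mk_neg, map_neg, map_neg, ih]
    · intro x y hx hy
      rw [QuotientAddGroup.mk_add, map_add, map_add, hx, hy]
  refine ⟨AddMonoidHom.toAddEquiv φ ψ ?_ ?_, fun X => hφ X⟩
  · exact AddMonoidHom.ext fun x => QuotientAddGroup.induction_on x h1
  · exact AddMonoidHom.ext fun x => QuotientAddGroup.induction_on x h2

end Der

end Groth.Agent.Lib.K0DerH4
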