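import Mathlib
import Groth.Prelude.Def_KZero
import Groth.Agent.Lib.K0Der_helper4
import Groth.Agent.Lib.KZero_helper4

/-!
# `K₀` of a kernel-closed class of objects vs `K₀` of the bounded derived category with cohomology
in the class (helper7)

Relative version of helper4's `K0Der`: for an object property `P` of an abelian category `A` which
contains the zero objects and is closed under isomorphisms and kernels, `K0sub P ≃+ K0tr (D^b_P(A))`.
-/

set_option autoImplicit false
set_option backward.isDefEq.respectTransparency false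
set_option linter.style.haveILetI false

universe w v u

open CategoryTheory Limits Pretriangulated DerivedCategory ZeroObject KZero

namespace Groth.Agent.Lib.K0DerSub

open Groth.Agent.Lib.TruncChainH4
open Groth.Agent.Lib.K0DerH4 (sgn sgn_zero sgn_succ sgn_pred hfs isZero_H isGE_of_isZero
  isLE_of_isZero clTr_tri clTr_zero clTr_iso clTr_shift)
open Groth.Agent.Lib.KZeroH4 (clSub_eq clSub_ses liftSub liftSub_clSub)

/-- the class contains the zero objects and is closed under isomorphisms and kernels -/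
structure KerClosed {A : Type u} [Category.{v} A] [Abelian A] (P : ObjectProperty A) : Prop where
  zero : ∀ Z : A, IsZero Z → P Z
  iso : ∀ {X Y : A}, (X ≅ Y) → P X → P Y
  ker : ∀ {X Y : A} (f : X ⟶ Y), P X → P Y → P (kernel f)

section Ab

variable {A : Type u} [Category.{v} A] [Abelian A] {P : ObjectProperty A} (hP : KerClosed P)

include hP

lemma clSub_isZero (Z : A) (hZ : IsZero Z) : clSub P Z = 0 := by
  have hPZ := hP.zero Z hZ
  let S : ShortComplex A := ShortComplex.mk (0 : Z ⟶ Z) (0 : Z ⟶ Z) zero_comp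
  have hS : S.ShortExact :=
    { exact := S.exact_of_isZero_X₂ hZ
      mono_f := hZ.mono _
      epi_g := hZ.epi _ }
  have h : clSub P Z = clSub P Z + clSub P Z := clSub_ses P S hS hPZ hPZ hPZ
  have h' : clSub P Z + clSub P Z = clSub P Z + 0 := by rw [add_zero]; exact h.symm
  exact add_left_cancel h'

lemma clSub_iso {X Y : A} (e : X ≅ Y) (hX : P X) : clSub P X = clSub P Y := by
  have hY := hP.iso e hX
  let S : ShortComplex A := ShortComplex.mk e.hom (0 : Y ⟶ 0) comp_zero
  have hS : S.ShortExact :=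
    { exact := (S.exact_iff_epi rfl).2 (inferInstanceAs (Epi e.hom))
      mono_f := inferInstanceAs (Mono e.hom)
      epi_g := (isZero_zero A).epi _ }
  have h : clSub P Y = clSub P X + clSub P (0 : A) :=
    clSub_ses P S hS hX hY (hP.zero _ (isZero_zero A))
  rw [h, clSub_isZero hP _ (isZero_zero A), add_zero]

lemma clSub_exact (S : ShortComplex A) (hS : S.Exact) (h₁ : P S.X₁) (h₂ : P S.X₂) (h₃ : P S.X₃) :
    clSub P S.X₁ = clSub P (kernel S.f) + clSub P (kernel S.g) := by
  have w : kernel.ι S.f ≫ kernel.lift S.g S.f S.zero = 0 := by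
    rw [← cancel_mono (kernel.ι S.g), Category.assoc, kernel.lift_ι, kernel.condition, zero_comp]
  let S' : ShortComplex A := ShortComplex.mk (kernel.ι S.f) (kernel.lift S.g S.f S.zero) w
  have hS' : S'.ShortExact :=
    { exact := S'.exact_of_f_is_kernel
        (isKernelOfComp (kernel.ι S.g) S.f (kernelIsKernel S.f) w (kernel.lift_ι _ _ _))
      mono_f := inferInstanceAs (Mono (kernel.ι S.f))
      epi_g := S.exact_iff_epi_kernel_lift.1 hS }
  exact clSub_ses P S' hS' (hP.ker S.f h₁ h₂) h₁ (hP.ker S.g h₂ h₃)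

end Ab

section Der

variable {A : Type u} [Category.{v} A] [Abelian A] [HasDerivedCategory.{w} A]

/-- Bounded objects of the derived category with cohomology in `P`. -/
abbrev Qc (P : ObjectProperty A) : ObjectProperty (DerivedCategory A) :=
  fun K => (∀ i : ℤ, P ((homologyFunctor A i).obj K)) ∧ ∃ a b : ℤ, K.IsGE a ∧ K.IsLE b

variable {P : ObjectProperty A} (hP : KerClosed P)

include hP

lemma Qc_of_isZero (K : DerivedCategory A) (hK : IsZero K) : Qc P K :=
  ⟨fun i => hP.zero _ ((homologyFunctor A i).map_isZero hK), 0, 0, isGE_of_isZero K hK 0,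
    isLE_of_isZero K hK 0⟩

lemma Qc_zero : Qc P (0 : DerivedCategory A) := Qc_of_isZero hP _ (isZero_zero _)

lemma Qc_single (M : A) (hM : P M) (i : ℤ) : Qc P ((singleFunctor A i).obj M) := by
  refine ⟨fun j => ?_, i, i, inferInstance, inferInstance⟩
  by_cases h : j = i
  · subst h
    exact hP.iso ((singleFunctorCompHomologyFunctorIso A j).app M).symm hM
  · exact hP.zero _ (isZero_H ((singleFunctor A i).obj M) i i j (by omega))

lemma Qc_iso {K K' : DerivedCategory A} (e : K ≅ K') (hK : Qc P K) : Qc P K' := by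
  obtain ⟨hc, a, b, h1, h2⟩ := hK
  haveI := h1
  haveI := h2
  exact ⟨fun i => hP.iso ((homologyFunctor A i).mapIso e) (hc i), a, b,
    TStructure.t.isGE_of_iso e a, TStructure.t.isLE_of_iso e b⟩

variable (P) in
omit hP in
/-- The Euler characteristic of a (bounded) object, in `K₀(P)`. -/
noncomputable def chi (K : DerivedCategory A) : K0sub P :=
  ∑ᶠ i : ℤ, sgn i • clSub P ((homologyFunctor A i).obj K)

lemma chi_single (M : A) (hM : P M) (b : ℤ) :
    chi P ((singleFunctor A b).obj M) = sgn b • clSub P M := by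
  have h1 : chi P ((singleFunctor A b).obj M) =
      sgn b • clSub P ((homologyFunctor A b).obj ((singleFunctor A b).obj M)) := by
    refine finsum_eq_single _ b (fun i hi => ?_)
    rw [clSub_isZero hP _ (isZero_H ((singleFunctor A b).obj M) b b i (by omega)), smul_zero]
  rw [h1]
  congr 1
  exact (clSub_iso hP ((singleFunctorCompHomologyFunctorIso A b).app M).symm hM).symm

lemma chi_iso {K K' : DerivedCategory A} (e : K ≅ K')
    (hK : ∀ i, P ((homologyFunctor A i).obj K)) : chi P K = chi P K' :=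
  finsum_congr (fun i => by rw [clSub_iso hP ((homologyFunctor A i).mapIso e) (hK i)])

lemma chi_isZero (K : DerivedCategory A) (hK : IsZero K) : chi P K = 0 := by
  have h : chi P K = ∑ᶠ _i : ℤ, (0 : K0sub P) :=
    finsum_congr (fun i => by
      rw [clSub_isZero hP _ ((homologyFunctor A i).map_isZero hK), smul_zero])
  rw [h, finsum_zero]

lemma chi_tri (T : Triangle (DerivedCategory A)) (hT : T ∈ distTriang (DerivedCategory A))
    (a b : ℤ) (h1g : T.obj₁.IsGE a) (h1l : T.obj₁.IsLE b) (h2g : T.obj₂.IsGE a)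
    (h2l : T.obj₂.IsLE b) (h3g : T.obj₃.IsGE a) (h3l : T.obj₃.IsLE b)
    (hc1 : ∀ i, P ((homologyFunctor A i).obj T.obj₁))
    (hc2 : ∀ i, P ((homologyFunctor A i).obj T.obj₂))
    (hc3 : ∀ i, P ((homologyFunctor A i).obj T.obj₃)) :
    chi P T.obj₂ = chi P T.obj₁ + chi P T.obj₃ := by
  haveI := h1g
  haveI := h1l
  haveI := h2g
  haveI := h2l
  haveI := h3g
  haveI := h3l
  have hX : ∀ i, clSub P ((homologyFunctor A i).obj T.obj₁) =
      clSub P (kernel ((homologyFunctor A i).map T.mor₁)) +
        clSub P (kernel ((homologyFunctor A i).map T.mor₂)) := fun i =>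
    clSub_exact hP _ (HomologySequence.exact₂ T hT i) (hc1 i) (hc2 i) (hc3 i)
  have hY : ∀ i, clSub P ((homologyFunctor A i).obj T.obj₂) =
      clSub P (kernel ((homologyFunctor A i).map T.mor₂)) +
        clSub P (kernel (HomologySequence.δ T i (i + 1) rfl)) := fun i =>
    clSub_exact hP _ (HomologySequence.exact₃ T hT i (i + 1) rfl) (hc2 i) (hc3 i) (hc1 (i + 1))
  have hZ : ∀ i, clSub P ((homologyFunctor A i).obj T.obj₃) =
      clSub P (kernel (HomologySequence.δ T i (i + 1) rfl)) +
        clSub P (kernel ((homologyFunctor A (i + 1)).map T.mor₁)) := fun i =>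
    clSub_exact hP _ (HomologySequence.exact₁ T hT i (i + 1) rfl) (hc3 i) (hc1 (i + 1))
      (hc2 (i + 1))
  have hka0 : ∀ i, i < a ∨ b < i → clSub P (kernel ((homologyFunctor A i).map T.mor₁)) = 0 :=
    fun i hi => clSub_isZero hP _ (IsZero.of_mono (kernel.ι _) (isZero_H T.obj₁ a b i hi))
  have key : ∀ i, sgn i • clSub P ((homologyFunctor A i).obj T.obj₂) =
      (sgn i • clSub P ((homologyFunctor A i).obj T.obj₁) +
        sgn i • clSub P ((homologyFunctor A i).obj T.obj₃)) -
      (sgn i • clSub P (kernel ((homologyFunctor A i).map T.mor₁)) -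
        sgn (i + 1) • clSub P (kernel ((homologyFunctor A (i + 1)).map T.mor₁))) := by
    intro i
    rw [hX, hY, hZ, sgn_succ]
    simp only [smul_add, neg_smul]
    abel
  have hfs1 : Function.HasFiniteSupport
      (fun i => sgn i • clSub P ((homologyFunctor A i).obj T.obj₁)) :=
    hfs _ a b (fun i hi => by rw [clSub_isZero hP _ (isZero_H T.obj₁ a b i hi), smul_zero])
  have hfs3 : Function.HasFiniteSupport
      (fun i => sgn i • clSub P ((homologyFunctor A i).obj T.obj₃)) :=
    hfs _ a b (fun i hi => by rw [clSub_isZero hP _ (isZero_H T.obj₃ a b i hi), smul_zero])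
  have hfsa : Function.HasFiniteSupport
      (fun i => sgn i • clSub P (kernel ((homologyFunctor A i).map T.mor₁))) :=
    hfs _ a b (fun i hi => by rw [hka0 i hi, smul_zero])
  have hfsa' : Function.HasFiniteSupport
      (fun i => sgn (i + 1) • clSub P (kernel ((homologyFunctor A (i + 1)).map T.mor₁))) :=
    hfs _ (a - 1) (b - 1) (fun i hi => by rw [hka0 (i + 1) (by omega), smul_zero])
  have hfsF : Function.HasFiniteSupport
      (fun i => sgn i • clSub P ((homologyFunctor A i).obj T.obj₁) +
        sgn i • clSub P ((homologyFunctor A i).obj T.obj₃)) :=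
    hfs _ a b (fun i hi => by
      rw [clSub_isZero hP _ (isZero_H T.obj₁ a b i hi),
        clSub_isZero hP _ (isZero_H T.obj₃ a b i hi), smul_zero, add_zero])
  have hfsG : Function.HasFiniteSupport
      (fun i => sgn i • clSub P (kernel ((homologyFunctor A i).map T.mor₁)) -
        sgn (i + 1) • clSub P (kernel ((homologyFunctor A (i + 1)).map T.mor₁))) :=
    hfs _ (a - 1) b (fun i hi => by
      rw [hka0 i (by omega), hka0 (i + 1) (by omega), smul_zero, smul_zero, sub_zero])
  have hre : ∑ᶠ i : ℤ, sgn (i + 1) • clSub P (kernel ((homologyFunctor A (i + 1)).map T.mor₁)) =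
      ∑ᶠ i : ℤ, sgn i • clSub P (kernel ((homologyFunctor A i).map T.mor₁)) :=
    finsum_comp_equiv (Equiv.addRight (1 : ℤ))
      (f := fun i => sgn i • clSub P (kernel ((homologyFunctor A i).map T.mor₁)))
  calc chi P T.obj₂
      = ∑ᶠ i : ℤ, ((sgn i • clSub P ((homologyFunctor A i).obj T.obj₁) +
          sgn i • clSub P ((homologyFunctor A i).obj T.obj₃)) -
        (sgn i • clSub P (kernel ((homologyFunctor A i).map T.mor₁)) -
          sgn (i + 1) • clSub P (kernel ((homologyFunctor A (i + 1)).map T.mor₁)))) :=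
        finsum_congr key
    _ = (∑ᶠ i : ℤ, (sgn i • clSub P ((homologyFunctor A i).obj T.obj₁) +
          sgn i • clSub P ((homologyFunctor A i).obj T.obj₃))) -
        ∑ᶠ i : ℤ, (sgn i • clSub P (kernel ((homologyFunctor A i).map T.mor₁)) -
          sgn (i + 1) • clSub P (kernel ((homologyFunctor A (i + 1)).map T.mor₁))) :=
        finsum_sub_distrib hfsF hfsG
    _ = (chi P T.obj₁ + chi P T.obj₃) -
        (∑ᶠ i : ℤ, sgn i • clSub P (kernel ((homologyFunctor A i).map T.mor₁)) -
          ∑ᶠ i : ℤ, sgn (i + 1) • clSub P (kernel ((homologyFunctor A (i + 1)).map T.mor₁))) :=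
        congrArg₂ (· - ·) (finsum_add_distrib hfs1 hfs3) (finsum_sub_distrib hfsa hfsa')
    _ = chi P T.obj₁ + chi P T.obj₃ := by rw [hre, sub_self, sub_zero]

lemma clTr_single_pred (M : A) (hM : P M) (i : ℤ) :
    clTr (Qc P) ((singleFunctor A (i - 1)).obj M) =
      - clTr (Qc P) ((singleFunctor A i).obj M) := by
  have e : ((singleFunctor A i).obj M)⟦(1 : ℤ)⟧ ≅ (singleFunctor A (i - 1)).obj M :=
    ((singleFunctors A).shiftIso 1 (i - 1) i (by omega)).app M
  have hsh : Qc P (((singleFunctor A i).obj M)⟦(1 : ℤ)⟧) :=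
    Qc_iso hP e.symm (Qc_single hP M hM (i - 1))
  rw [← clTr_iso (Qc P) (Qc_zero hP) e hsh (Qc_single hP M hM (i - 1)),
    clTr_shift (Qc P) (Qc_zero hP) _ (Qc_single hP M hM i) hsh]

lemma clTr_single (M : A) (hM : P M) (i : ℤ) :
    clTr (Qc P) ((singleFunctor A i).obj M) =
      sgn i • clTr (Qc P) ((singleFunctor A 0).obj M) := by
  induction i using Int.induction_on with
  | zero => rw [sgn_zero, one_smul]
  | succ k ih =>
    have h := clTr_single_pred hP M hM ((k : ℤ) + 1)
    rw [add_sub_cancel_right] at h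
    rw [sgn_succ, neg_smul, ← ih, h, neg_neg]
  | pred k ih =>
    rw [clTr_single_pred hP M hM (-(k : ℤ)), ih, sgn_pred, neg_smul]

theorem clTr_eq_phi_chi (φ : K0sub P →+ K0tr (Qc P))
    (hφ : ∀ X : A, P X → φ (clSub P X) = clTr (Qc P) ((singleFunctor A 0).obj X)) :
    ∀ (n : ℕ) (K : DerivedCategory A) (a b : ℤ), b < a + n → K.IsGE a → K.IsLE b →
      (∀ i, P ((homologyFunctor A i).obj K)) → clTr (Qc P) K = φ (chi P K) := by
  have zero_case : ∀ K : DerivedCategory A, IsZero K → clTr (Qc P) K = φ (chi P K) := by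
    intro K hK
    rw [chi_isZero hP K hK, map_zero,
      clTr_iso (Qc P) (Qc_zero hP) hK.isoZero (Qc_of_isZero hP K hK) (Qc_zero hP),
      clTr_zero (Qc P) (Qc_zero hP)]
  intro n
  induction n with
  | zero =>
    intro K a b hlt hge hle _
    haveI := hge
    haveI := hle
    exact zero_case K (TStructure.t.isZero K b a (by simpa using hlt))
  | succ n ih =>
    intro K a b hlt hge hle hc
    haveI := hge
    haveI := hle
    by_cases hab : a ≤ b
    swap
    · exact zero_case K (TStructure.t.isZero K b a (by omega))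
    obtain ⟨X, Y, hX, hY, f, g, h, hT⟩ := TStructure.t.exists_triangle K (b - 1) b (by omega)
    haveI hXle : X.IsLE (b - 1) := ⟨hX⟩
    haveI hYge : Y.IsGE b := ⟨hY⟩
    haveI hXge : X.IsGE a := trunc_isGE hT b a
    haveI hYle : Y.IsLE b := trunc_isLE hT b
    have hXle' : X.IsLE b := TStructure.t.isLE_of_le X (b - 1) b (by omega)
    have hYge' : Y.IsGE a := TStructure.t.isGE_of_ge Y a b hab
    have hcX : ∀ i, P ((homologyFunctor A i).obj X) := by
      intro i
      by_cases hi : i ≤ b - 1
      · haveI : Mono ((homologyFunctor A i).map f) := trunc_mono hT b i (by omega)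
        haveI : Epi ((homologyFunctor A i).map f) :=
          (HomologySequence.epi_homologyMap_mor₁_iff _ hT i).2
            ((isZero_of_isGE Y b i (by omega)).eq_of_tgt _ _)
        haveI : IsIso ((homologyFunctor A i).map f) := isIso_of_mono_of_epi _
        exact hP.iso (asIso ((homologyFunctor A i).map f)).symm (hc i)
      · exact hP.zero _ (isZero_of_isLE X (b - 1) i (by omega))
    have hcY : ∀ i, P ((homologyFunctor A i).obj Y) := by
      intro i
      by_cases hi : b ≤ i
      · haveI : X.IsLE (i - 1) := TStructure.t.isLE_of_le X (b - 1) (i - 1) (by omega)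
        haveI : IsIso ((homologyFunctor A i).map g) := trunc_isIso_g hT i
        exact hP.iso (asIso ((homologyFunctor A i).map g)) (hc i)
      · exact hP.zero _ (isZero_of_isGE Y b i (by omega))
    have hQX : Qc P X := ⟨hcX, a, b - 1, inferInstance, inferInstance⟩
    have hQK : Qc P K := ⟨hc, a, b, inferInstance, inferInstance⟩
    have hQY : Qc P Y := ⟨hcY, b, b, inferInstance, inferInstance⟩
    have e1 : clTr (Qc P) K = clTr (Qc P) X + clTr (Qc P) Y :=
      clTr_tri (Qc P) (Triangle.mk f g h) hT hQX hQK hQY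
    have e2 : chi P K = chi P X + chi P Y :=
      chi_tri hP (Triangle.mk f g h) hT a b hXge hXle' hge hle hYge' hYle hcX hc hcY
    have e3 : clTr (Qc P) X = φ (chi P X) :=
      ih X a (b - 1) (by push_cast at hlt; omega) inferInstance inferInstance hcX
    have e4 : clTr (Qc P) Y = φ (chi P Y) := by
      obtain ⟨M, ⟨ψ⟩⟩ := exists_iso_singleFunctor_obj_of_isGE_of_isLE Y b
      have h1 : P ((homologyFunctor A b).obj ((singleFunctor A b).obj M)) :=
        hP.iso ((homologyFunctor A b).mapIso ψ) (hcY b)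
      have hM : P M := hP.iso ((singleFunctorCompHomologyFunctorIso A b).app M) h1
      rw [clTr_iso (Qc P) (Qc_zero hP) ψ hQY (Qc_single hP M hM b), chi_iso hP ψ hcY,
        chi_single hP M hM, map_zsmul, hφ M hM, clTr_single hP M hM]
    rw [e1, e2, map_add, e3, e4]

theorem main : ∃ φ : K0sub P ≃+ K0tr (Qc P),
    ∀ X : A, P X → φ (clSub P X) = clTr (Qc P) ((singleFunctor A 0).obj X) := by
  let f0 : A → K0tr (Qc P) := fun X => clTr (Qc P) ((singleFunctor A 0).obj X)
  have hf0 : ∀ S : ShortComplex A, S.ShortExact → P S.X₁ → P S.X₂ → P S.X₃ →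
      f0 S.X₂ = f0 S.X₁ + f0 S.X₃ := fun S hS h₁ h₂ h₃ =>
    clTr_tri (Qc P) hS.singleTriangle hS.singleTriangle_distinguished (Qc_single hP _ h₁ 0)
      (Qc_single hP _ h₂ 0) (Qc_single hP _ h₃ 0)
  let φ : K0sub P →+ K0tr (Qc P) := liftSub P f0 hf0
  have hφ : ∀ X : A, P X → φ (clSub P X) = f0 X := fun X hX => liftSub_clSub P f0 hf0 X hX
  let g0 : Subtype (Qc P) → K0sub P := fun K => chi P K.1
  have hψker : relTr (Qc P) ≤ (FreeAbelianGroup.lift g0).ker := by
    unfold relTr
    rw [AddSubgroup.closure_le]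
    rintro x ⟨T, h₁, h₂, h₃, hT, rfl⟩
    rw [SetLike.mem_coe, AddMonoidHom.mem_ker, map_sub, map_sub, FreeAbelianGroup.lift_apply_of,
      FreeAbelianGroup.lift_apply_of, FreeAbelianGroup.lift_apply_of]
    obtain ⟨hc1, a₁, b₁, hg1, hl1⟩ := h₁
    obtain ⟨hc2, a₂, b₂, hg2, hl2⟩ := h₂
    obtain ⟨hc3, a₃, b₃, hg3, hl3⟩ := h₃
    haveI := hg1
    haveI := hl1
    haveI := hg2
    haveI := hl2
    haveI := hg3
    haveI := hl3
    have h : chi P T.obj₂ = chi P T.obj₁ + chi P T.obj₃ :=
      chi_tri hP T hT (min a₁ (min a₂ a₃)) (max b₁ (max b₂ b₃))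
        (TStructure.t.isGE_of_ge T.obj₁ _ a₁ (by omega))
        (TStructure.t.isLE_of_le T.obj₁ b₁ _ (by omega))
        (TStructure.t.isGE_of_ge T.obj₂ _ a₂ (by omega))
        (TStructure.t.isLE_of_le T.obj₂ b₂ _ (by omega))
        (TStructure.t.isGE_of_ge T.obj₃ _ a₃ (by omega))
        (TStructure.t.isLE_of_le T.obj₃ b₃ _ (by omega)) hc1 hc2 hc3
    show chi P T.obj₂ - chi P T.obj₁ - chi P T.obj₃ = 0
    rw [h]
    abel
  let ψ : K0tr (Qc P) →+ K0sub P :=
    QuotientAddGroup.lift (relTr (Qc P)) (FreeAbelianGroup.lift g0) hψker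
  have hψ : ∀ (K : DerivedCategory A) (hK : Qc P K), ψ (clTr (Qc P) K) = chi P K :=
    fun K hK => by
      rw [Groth.Agent.Lib.K0DerH4.clTr_eq (Qc P) hK]
      show QuotientAddGroup.lift _ _ _ (QuotientAddGroup.mk _) = _
      rw [QuotientAddGroup.lift_mk, FreeAbelianGroup.lift_apply_of]
  have h1 : ∀ z : FreeAbelianGroup (Subtype P), ψ (φ (QuotientAddGroup.mk z)) =
      QuotientAddGroup.mk z := by
    intro z
    refine FreeAbelianGroup.induction_on z ?_ ?_ ?_ ?_
    · rw [QuotientAddGroup.mk_zero, map_zero, map_zero]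
    · rintro ⟨X, hX⟩
      have e : ψ (φ (clSub P X)) = clSub P X := by
        rw [hφ X hX, hψ _ (Qc_single hP X hX 0), chi_single hP X hX, sgn_zero, one_smul]
      rw [clSub_eq P X hX] at e
      exact e
    · intro X ih
      rw [QuotientAddGroup.mk_neg, map_neg, map_neg, ih]
    · intro x y hx hy
      rw [QuotientAddGroup.mk_add, map_add, map_add, hx, hy]
  have h2 : ∀ z : FreeAbelianGroup (Subtype (Qc P)),
      φ (ψ (QuotientAddGroup.mk z)) = QuotientAddGroup.mk z := by
    intro z
    refine FreeAbelianGroup.induction_on z ?_ ?_ ?_ ?_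
    · rw [QuotientAddGroup.mk_zero, map_zero, map_zero]
    · rintro ⟨K, hK⟩
      have e : φ (ψ (clTr (Qc P) K)) = clTr (Qc P) K := by
        rw [hψ K hK]
        obtain ⟨hc, a, b, hge, hle⟩ := hK
        have hlt : b < a + (((b - a + 1).toNat : ℕ) : ℤ) := by
          have := Int.self_le_toNat (b - a + 1)
          omega
        exact (clTr_eq_phi_chi hP φ hφ _ K a b hlt hge hle hc).symm
      rw [Groth.Agent.Lib.K0DerH4.clTr_eq (Qc P) hK] at e
      exact e
    · intro X ih
      rw [QuotientAddGroup.mk_neg, map_neg, map_neg, ih]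
    · intro x y hx hy
      rw [QuotientAddGroup.mk_add, map_add, map_add, hx, hy]
  refine ⟨AddMonoidHom.toAddEquiv φ ψ ?_ ?_, fun X hX => hφ X hX⟩
  · exact AddMonoidHom.ext fun x => QuotientAddGroup.induction_on x h1
  · exact AddMonoidHom.ext fun x => QuotientAddGroup.induction_on x h2

end Der

end Groth.Agent.Lib.K0DerSub
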