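import Mathlib
import Groth.Prelude.Def_KZero
import Groth.Agent.Lib.KZero_helper4
import Groth.Agent.Lib.DMod3_helper6
import Groth.Agent.Lib.DMod62_helper6
import Groth.Agent.Lib.DMod64_helper6
import Groth.Agent.Lib.KoszulTop_helper7
import Groth.Agent.Lib.FinLenEquiv_helper6
import Groth.Agent.Lib.CycLen1_helper8
import Groth.Agent.Lib.AssPts_helper5

/-!
# `K₀` of the perfect complexes supported at the closed point of a regular local ring (helper6)
-/

set_option autoImplicit false
set_option linter.style.haveILetI false
set_option linter.unusedSectionVars false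
set_option linter.unusedVariables false
universe u
open CategoryTheory Limits Pretriangulated DerivedCategory ZeroObject KZero
attribute [local instance] HasDerivedCategory.standard

namespace Groth.Agent.Lib.K0Kos

open Groth.Agent.Lib.DMod_helper6 DRing

section Induction

variable {R : Type u} [CommRing R] [IsLocalRing R] [IsNoetherianRing R]

/-- induction on the length for modules of finite length over a Noetherian local ring -/
theorem finLen_induction
    (motive : ∀ (M : Type u) [AddCommGroup M] [Module R M], Prop)
    (hzero : ∀ (M : Type u) [AddCommGroup M] [Module R M], Subsingleton M → motive M)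
    (hstep : ∀ (M : Type u) [AddCommGroup M] [Module R M] (N : Submodule R M),
      IsFiniteLength R M → IsFiniteLength R N → motive N →
      Nonempty ((M ⧸ N) ≃ₗ[R] (R ⧸ IsLocalRing.maximalIdeal R)) → motive M) :
    ∀ (M : Type u) [AddCommGroup M] [Module R M], IsFiniteLength R M → motive M := by
  have key : ∀ (n : ℕ) (M : Type u) [AddCommGroup M] [Module R M], IsFiniteLength R M →
      (Module.length R M).toNat = n → motive M := by
    intro n
    induction n using Nat.strong_induction_on with
    | _ n ih =>
      intro M _ _ hM hn
      by_cases hsub : Subsingleton M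
      · exact hzero M hsub
      · haveI : Nontrivial M := not_subsingleton_iff_nontrivial.1 hsub
        obtain ⟨q, hq⟩ := Groth.Agent.Lib.FinLenEquiv_helper6.exists_surj_to_kappa M hM
        obtain ⟨hnoeth, hart⟩ := isFiniteLength_iff_isNoetherian_isArtinian.1 hM
        haveI := hnoeth
        haveI := hart
        have hNtop : LinearMap.ker q ≠ ⊤ := by
          intro h
          obtain ⟨x, hx⟩ := hq (1 : R ⧸ IsLocalRing.maximalIdeal R)
          have hx0 : q x = 0 := by
            have : x ∈ LinearMap.ker q := by rw [h]; exact Submodule.mem_top
            exact this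
          rw [hx0] at hx
          exact zero_ne_one hx
        have hlt : Module.length R (LinearMap.ker q) < Module.length R M :=
          Submodule.length_lt hNtop
        have hNfl : IsFiniteLength R (LinearMap.ker q) :=
          isFiniteLength_iff_isNoetherian_isArtinian.2 ⟨inferInstance, inferInstance⟩
        have hne : Module.length R M ≠ ⊤ := Module.length_ne_top_iff.2 hM
        have h1 : ((Module.length R (LinearMap.ker q)).toNat : ℕ∞) =
            Module.length R (LinearMap.ker q) := ENat.coe_toNat (ne_top_of_lt hlt)
        have h2 : ((Module.length R M).toNat : ℕ∞) = Module.length R M := ENat.coe_toNat hne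
        have h3 : ((Module.length R (LinearMap.ker q)).toNat : ℕ∞) <
            ((Module.length R M).toNat : ℕ∞) := by rw [h1, h2]; exact hlt
        have hlt' : (Module.length R (LinearMap.ker q)).toNat < n := by
          rw [← hn]
          exact_mod_cast h3
        exact hstep M (LinearMap.ker q) hM hNfl (ih _ hlt' (LinearMap.ker q) hNfl rfl)
          ⟨q.quotKerEquivOfSurjective hq⟩
  intro M _ _ hM
  exact key _ M hM rfl

end Induction

section Serre

variable (R : Type u) [CommRing R]

/-- the modules of finite length -/
def Pfl : ObjectProperty (ModuleCat.{u} R) := fun M => IsFiniteLength R M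

instance : (Pfl R).IsSerreClass where
  exists_zero := ⟨ModuleCat.of R PUnit, ModuleCat.isZero_of_subsingleton _,
    IsFiniteLength.of_subsingleton⟩
  prop_of_mono {M N} f hf hN := by
    rw [ModuleCat.mono_iff_injective] at hf
    obtain ⟨h1, h2⟩ := isFiniteLength_iff_isNoetherian_isArtinian.1 hN
    haveI := h1
    haveI := h2
    exact isFiniteLength_iff_isNoetherian_isArtinian.2
      ⟨isNoetherian_of_injective f.hom hf, isArtinian_of_injective f.hom hf⟩
  prop_of_epi {M N} f hf hM := by
    rw [ModuleCat.epi_iff_surjective] at hf
    obtain ⟨h1, h2⟩ := isFiniteLength_iff_isNoetherian_isArtinian.1 hM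
    haveI := h1
    haveI := h2
    exact isFiniteLength_iff_isNoetherian_isArtinian.2
      ⟨isNoetherian_of_surjective f.hom (LinearMap.range_eq_top.2 hf),
        isArtinian_of_surjective M f.hom hf⟩
  prop_X₂_of_shortExact {S} hS h₁ h₃ := by
    obtain ⟨h1, h2⟩ := isFiniteLength_iff_isNoetherian_isArtinian.1 h₁
    obtain ⟨h3, h4⟩ := isFiniteLength_iff_isNoetherian_isArtinian.1 h₃
    haveI := h1
    haveI := h2
    haveI := h3
    haveI := h4
    have hf : Function.Injective S.f.hom := (ModuleCat.mono_iff_injective _).1 hS.mono_f
    have hg : Function.Surjective S.g.hom := (ModuleCat.epi_iff_surjective _).1 hS.epi_g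
    have hex : LinearMap.range S.f.hom = LinearMap.ker S.g.hom :=
      ((ShortComplex.ShortExact.moduleCat_exact_iff_function_exact S).1 hS.exact).linearMap_ker_eq.symm
    exact isFiniteLength_iff_isNoetherian_isArtinian.2
      ⟨isNoetherian_of_range_eq_ker S.f.hom S.g.hom hex,
        isArtinian_of_range_eq_ker S.f.hom S.g.hom hex⟩

end Serre

end Groth.Agent.Lib.K0Kos
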