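import Mathlib
import Groth.Agent.Lib.K0Kos1_helper6

/-!
# `K₀` of the perfect complexes supported at the closed point of a regular local ring, part 2
(helper6): finite length modules are perfect, identification of the perfect complexes supported
at the closed point with the bounded complexes with finite length cohomology, and generation.
-/

set_option autoImplicit false
set_option linter.style.haveILetI false
set_option linter.unusedSectionVars false
set_option linter.unusedVariables false
universe u
open CategoryTheory Limits Pretriangulated DerivedCategory ZeroObject KZero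
attribute [local instance] HasDerivedCategory.standard

namespace Groth.Agent.Lib.K0Kos

open Groth.Agent.Lib.DMod_helper6 DRing Groth.Agent.Lib.KZeroH4

section Perfect

variable {R : Type u} [CommRing R] [IsLocalRing R] [IsNoetherianRing R]

/-- the short exact sequence `0 → N → M → M/N → 0` in `ModuleCat` -/
lemma shortExact_sub (M : Type u) [AddCommGroup M] [Module R M] (N : Submodule R M) :
    (ShortComplex.mk (ModuleCat.ofHom N.subtype) (ModuleCat.ofHom N.mkQ) (by
      ext x
      exact (Submodule.Quotient.mk_eq_zero N).2 x.2)).ShortExact := by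
  refine ModuleCat.shortComplex_shortExact _ ?_ ?_ ?_
  · intro x
    constructor
    · intro hx
      exact ⟨⟨x, (Submodule.Quotient.mk_eq_zero N).1 hx⟩, rfl⟩
    · rintro ⟨y, rfl⟩
      exact (Submodule.Quotient.mk_eq_zero N).2 y.2
  · exact N.injective_subtype
  · exact N.mkQ_surjective

/-- if the residue field is perfect, so is every module of finite length -/
theorem isPerfect_inD_of_finLen
    (hk : IsPerfect R (Dual.inD R (R ⧸ IsLocalRing.maximalIdeal R)))
    (M : Type u) [AddCommGroup M] [Module R M] (hM : IsFiniteLength R M) :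
    IsPerfect R (Dual.inD R M) := by
  refine finLen_induction (R := R) (fun M _ _ => IsPerfect R (Dual.inD R M)) ?_ ?_ M hM
  · intro M _ _ hsub
    exact isPerfect_of_isZero _ ((DerivedCategory.singleFunctor (ModuleCat.{u} R) 0).map_isZero
      (ModuleCat.isZero_of_subsingleton _))
  · rintro M _ _ N hM hN hPN ⟨e⟩
    have hS := shortExact_sub M N
    have h3 : IsPerfect R (Dual.inD R (M ⧸ N)) :=
      isPerfect_of_iso
        ((DerivedCategory.singleFunctor (ModuleCat.{u} R) 0).mapIso e.symm.toModuleIso) hk
    exact (perfProp R).ext_of_isTriangulatedClosed₂ _ hS.singleTriangle_distinguished hPN h3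

end Perfect

section Ident

variable {R : Type u} [CommRing R] [IsLocalRing R] [IsNoetherianRing R]

/-- perfect complexes with cohomology supported at the closed point are the bounded complexes with
finite length cohomology, provided the residue field is perfect -/
theorem ptr_iff (hk : IsPerfect R (Dual.inD R (R ⧸ IsLocalRing.maximalIdeal R)))
    (K : Dual.D R) :
    (DRing.IsPerfect R K ∧
      ∀ i : ℤ, Module.support R (Dual.HD R K i) ⊆ {IsLocalRing.closedPoint R}) ↔
      DP (Pfl R) K := by
  constructor
  · rintro ⟨hperf, hsupp⟩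
    have hpc := isPseudoCoherent'_of_isPerfect K hperf
    obtain ⟨E, a, b, hE, -, ⟨e⟩⟩ := hperf
    have hvan : ∀ i : ℤ, (i < a ∨ b < i) → Subsingleton (Dual.HD R K i) := fun i hi =>
      (exactAt_iff_subsingleton_HD e i).1 (exactAt_of_isZero_X E i (hE i hi))
    have hfin : ∀ i : ℤ, Module.Finite R (Dual.HD R K i) := fun i =>
      ((isPseudoCoherent_iff_noeth i K).1 ((isPseudoCoherent'_iff_forall K).1 hpc i)).2 i le_rfl
    refine ⟨fun i => ?_, a, b, isGE_of_subsingleton_HD K a (fun i hi => hvan i (Or.inl hi)),
      isLE_of_subsingleton_HD K b (fun i hi => hvan i (Or.inr hi))⟩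
    have hfi := hfin i
    have hsi := hsupp i
    show IsFiniteLength R (Dual.HD R K i)
    exact @CycLenH8.isFiniteLength_of_support_subset R (Dual.HD R K i) _ _ _ _ _ hfi hsi
  · rintro ⟨hfl, a, b, ha, hb⟩
    haveI := ha
    haveI := hb
    refine ⟨?_, fun i => ?_⟩
    · refine devissage_homology (perfProp R) K ⟨a, b, fun i hi => ?_⟩
        (fun i => isPerfect_inD_of_finLen hk _ (hfl i))
      rcases hi with hi | hi
      · exact ModuleCat.subsingleton_of_isZero (isZero_of_isGE K a i hi)
      · exact ModuleCat.subsingleton_of_isZero (isZero_of_isLE K b i hi)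
    · intro q hq
      have hfli : IsFiniteLength R (Dual.HD R K i) := hfl i
      haveI : IsNoetherian R (Dual.HD R K i) :=
        (isFiniteLength_iff_isNoetherian_isArtinian.1 hfli).1
      haveI : Module.Finite R (Dual.HD R K i) := inferInstance
      exact Set.mem_singleton_iff.2
        ((Groth.Agent.AssPts.support_iff_finiteLength R (Dual.HD R K i)).2 hfli q hq)

end Ident

section Gen

variable {R : Type u} [CommRing R] [IsLocalRing R] [IsNoetherianRing R]

lemma clSub_mem_closure (M : Type u) [AddCommGroup M] [Module R M] (hM : IsFiniteLength R M) :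
    clSub (Pfl R) (ModuleCat.of R M) ∈ AddSubgroup.closure
      {clSub (Pfl R) (ModuleCat.of R (R ⧸ IsLocalRing.maximalIdeal R))} := by
  refine finLen_induction (R := R) (fun M _ _ => clSub (Pfl R) (ModuleCat.of R M) ∈
    AddSubgroup.closure {clSub (Pfl R) (ModuleCat.of R (R ⧸ IsLocalRing.maximalIdeal R))})
    ?_ ?_ M hM
  · intro M _ _ hsub
    haveI := hsub
    rw [clSub_isZero (Pfl R) (ModuleCat.isZero_of_subsingleton (ModuleCat.of R M))]
    exact zero_mem _
  · rintro M _ _ N hM hN hPN ⟨e⟩
    have hS := shortExact_sub M N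
    have h3 : Pfl R (ModuleCat.of R (M ⧸ N)) := hM.of_surjective N.mkQ_surjective
    rw [clSub_ses (Pfl R) _ hS hN hM h3]
    refine add_mem hPN ?_
    have h4 := clSub_iso (Pfl R) e.toModuleIso h3
    erw [h4]
    exact AddSubgroup.subset_closure rfl

theorem K0sub_closure :
    AddSubgroup.closure
      {clSub (Pfl R) (ModuleCat.of R (R ⧸ IsLocalRing.maximalIdeal R))} = ⊤ := by
  rw [eq_top_iff]
  rintro x -
  induction x using QuotientAddGroup.induction_on with
  | H y =>
    induction y using FreeAbelianGroup.induction_on with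
    | zero => exact zero_mem _
    | of a =>
      obtain ⟨M, hM⟩ := a
      rw [← clSub_eq (Pfl R) M hM]
      exact clSub_mem_closure M hM
    | neg a ih =>
      rw [QuotientAddGroup.mk_neg]
      exact neg_mem ih
    | add a b iha ihb =>
      rw [QuotientAddGroup.mk_add]
      exact add_mem iha ihb

/-- S14001 -/
theorem main_closure (fs : List R) (hreg : RingTheory.Sequence.IsRegular R fs)
    (hgen : Ideal.ofList fs = IsLocalRing.maximalIdeal R) :
    AddSubgroup.closure
        {KZero.clTr (fun K : Dual.D R => DRing.IsPerfect R K ∧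
            ∀ i : ℤ, Module.support R (Dual.HD R K i) ⊆ {IsLocalRing.closedPoint R})
          (DRing.toD (Koszul.koszul R fs))} = ⊤ := by
  have hkr := (Groth.Agent.Lib.KoszulTopH7.koszulRegular fs hreg.toIsWeaklyRegular).1
  have hk0 : IsPerfect R (Dual.inD R (R ⧸ Ideal.ofList fs)) :=
    isPerfect_quotient_of_koszulRegularSeq R fs hkr
  let eq : (R ⧸ Ideal.ofList fs) ≃ₗ[R] (R ⧸ IsLocalRing.maximalIdeal R) :=
    Submodule.quotEquivOfEq _ _ hgen
  have hk : IsPerfect R (Dual.inD R (R ⧸ IsLocalRing.maximalIdeal R)) :=
    isPerfect_of_iso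
      ((DerivedCategory.singleFunctor (ModuleCat.{u} R) 0).mapIso eq.toModuleIso) hk0
  have hP : (fun K : Dual.D R => DRing.IsPerfect R K ∧
      ∀ i : ℤ, Module.support R (Dual.HD R K i) ⊆ {IsLocalRing.closedPoint R}) =
      DP (Pfl R) := funext fun K => propext (ptr_iff hk K)
  rw [hP]
  obtain ⟨φ, hφ⟩ := KZeroH4.main (Pfl R)
  obtain ⟨e⟩ := toD_koszul_iso R fs hkr
  have hκ : Pfl R (ModuleCat.of R (R ⧸ IsLocalRing.maximalIdeal R)) := by
    haveI : IsSimpleModule R (R ⧸ IsLocalRing.maximalIdeal R) :=
      isSimpleModule_iff_isCoatom.2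
        (Ideal.isMaximal_def.1 (IsLocalRing.maximalIdeal.isMaximal R))
    show IsFiniteLength R (R ⧸ IsLocalRing.maximalIdeal R)
    refine Module.length_ne_top_iff.1 ?_
    rw [Module.length_eq_one]
    exact ENat.one_ne_top
  have h1 : clTr (DP (Pfl R)) (DRing.toD (Koszul.koszul R fs)) =
      φ (clSub (Pfl R) (ModuleCat.of R (R ⧸ IsLocalRing.maximalIdeal R))) := by
    rw [hφ _ hκ]
    exact (clTr_iso (DP (Pfl R))
      (e ≪≫ (DerivedCategory.singleFunctor (ModuleCat.{u} R) 0).mapIso eq.toModuleIso).symm
      (DP_single (Pfl R) _ hκ)).symm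
  rw [h1]
  have h2 : AddSubgroup.closure
      {φ (clSub (Pfl R) (ModuleCat.of R (R ⧸ IsLocalRing.maximalIdeal R)))} =
      (AddSubgroup.closure
        {clSub (Pfl R) (ModuleCat.of R (R ⧸ IsLocalRing.maximalIdeal R))}).map
        φ.toAddMonoidHom := by
    rw [AddMonoidHom.map_closure, Set.image_singleton]
    rfl
  rw [h2, K0sub_closure]
  exact AddSubgroup.map_top_of_surjective _ φ.surjective

end Gen

end Groth.Agent.Lib.K0Kos
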