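import Mathlib
import Groth.Prelude.Def_KZero

/-!
# Length as a homomorphism on K'₀ of an Artinian ring (helper1)
-/

namespace Groth.Agent.Lib.K0LengthH1

universe u

open CategoryTheory

theorem exists_length_hom (R : Type u) [CommRing R] [IsArtinianRing R] :
    ∃ φ : KZero.K0sub (fun M : ModuleCat.{u} R => Module.Finite R M) →+ ℤ,
      ∀ (M : ModuleCat.{u} R), Module.Finite R M →
        (φ (KZero.clSub (fun M : ModuleCat.{u} R => Module.Finite R M) M) : ℤ) =
          (Module.length R M).toNat := by
  classical
  let P : ObjectProperty (ModuleCat.{u} R) := fun M => Module.Finite R M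
  let r : Subtype P → ℤ := fun M => ((Module.length R M.1).toNat : ℤ)
  let φ₀ : FreeAbelianGroup (Subtype P) →+ ℤ := FreeAbelianGroup.lift r
  have hfin : ∀ M : ModuleCat.{u} R, Module.Finite R M → Module.length R M ≠ ⊤ := by
    intro M hM
    haveI := hM
    exact Module.length_ne_top
  have hker : KZero.relSub P ≤ φ₀.ker := by
    unfold KZero.relSub
    rw [AddSubgroup.closure_le]
    rintro x ⟨S, h1, h2, h3, hS, rfl⟩
    show φ₀ _ = 0
    have hadd : Module.length R S.X₂ = Module.length R S.X₁ + Module.length R S.X₃ :=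
      Module.length_eq_add_of_exact S.f.hom S.g.hom hS.moduleCat_injective_f
        hS.moduleCat_surjective_g
        ((ShortComplex.ShortExact.moduleCat_exact_iff_function_exact S).mp hS.exact)
    simp only [map_sub, φ₀, FreeAbelianGroup.lift_apply_of, r]
    rw [hadd, ENat.toNat_add (hfin _ h1) (hfin _ h3)]
    push_cast
    ring
  refine ⟨QuotientAddGroup.lift (KZero.relSub P) φ₀ hker, fun M hM => ?_⟩
  have hM' : P M := hM
  show (QuotientAddGroup.lift (KZero.relSub P) φ₀ hker) (KZero.clSub P M) = _
  unfold KZero.clSub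
  rw [dif_pos hM', QuotientAddGroup.lift_mk]
  simp only [φ₀, FreeAbelianGroup.lift_apply_of, r]

end Groth.Agent.Lib.K0LengthH1
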