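import Mathlib
import Groth.Prelude.Def_KZero

/-!
# `K₀` of a local ring is `ℤ` (helper1)
-/

namespace Groth.Agent.Lib.K0LocalH1

universe u

open CategoryTheory

section
variable (R : Type u) [CommRing R]

/-- finite projective modules -/
abbrev FP : ObjectProperty (ModuleCat.{u} R) :=
  fun M : ModuleCat.{u} R => Module.Finite R M ∧ Module.Projective R M

variable {R}

theorem rel_of_exact {A B C : Type u} [AddCommGroup A] [Module R A] [AddCommGroup B] [Module R B]
    [AddCommGroup C] [Module R C] (hA : FP R (ModuleCat.of R A)) (hB : FP R (ModuleCat.of R B))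
    (hC : FP R (ModuleCat.of R C)) (f : A →ₗ[R] B) (g : B →ₗ[R] C) (hf : Function.Injective f)
    (hg : Function.Surjective g) (hex : Function.Exact f g) :
    (QuotientAddGroup.mk (FreeAbelianGroup.of ⟨ModuleCat.of R B, hB⟩) : KZero.K0sub (FP R)) =
      QuotientAddGroup.mk (FreeAbelianGroup.of ⟨ModuleCat.of R A, hA⟩) +
      QuotientAddGroup.mk (FreeAbelianGroup.of ⟨ModuleCat.of R C, hC⟩) := by
  have h0 : g.comp f = 0 := by
    ext a
    exact hex.apply_apply_eq_zero a
  let S := ModuleCat.shortComplexOfCompEqZero f g h0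
  have hS : S.ShortExact := ModuleCat.shortComplex_shortExact S hex hf hg
  have hmem : (FreeAbelianGroup.of ⟨ModuleCat.of R B, hB⟩ - FreeAbelianGroup.of ⟨ModuleCat.of R A, hA⟩ -
      FreeAbelianGroup.of ⟨ModuleCat.of R C, hC⟩ : FreeAbelianGroup (Subtype (FP R))) ∈
      KZero.relSub (FP R) := by
    unfold KZero.relSub
    exact AddSubgroup.subset_closure ⟨S, hA, hB, hC, hS, rfl⟩
  have h1 := (QuotientAddGroup.eq_zero_iff _).mpr hmem
  rw [QuotientAddGroup.mk_sub, QuotientAddGroup.mk_sub, sub_sub, sub_eq_zero] at h1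
  exact h1

theorem cl_subsingleton {A : Type u} [AddCommGroup A] [Module R A] [Subsingleton A]
    (hA : FP R (ModuleCat.of R A)) :
    (QuotientAddGroup.mk (FreeAbelianGroup.of ⟨ModuleCat.of R A, hA⟩) : KZero.K0sub (FP R)) = 0 := by
  have h := rel_of_exact hA hA hA (0 : A →ₗ[R] A) (0 : A →ₗ[R] A)
    (fun a b _ => Subsingleton.elim a b) (fun a => ⟨a, Subsingleton.elim _ _⟩)
    (fun a => ⟨fun _ => ⟨a, Subsingleton.elim _ _⟩, fun _ => Subsingleton.elim _ _⟩)
  have h2 : (QuotientAddGroup.mk (FreeAbelianGroup.of ⟨ModuleCat.of R A, hA⟩) :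
      KZero.K0sub (FP R)) + 0 = QuotientAddGroup.mk (FreeAbelianGroup.of ⟨ModuleCat.of R A, hA⟩) +
      QuotientAddGroup.mk (FreeAbelianGroup.of ⟨ModuleCat.of R A, hA⟩) := by
    rw [add_zero]
    exact h
  exact (add_left_cancel h2).symm

theorem cl_equiv {A B : Type u} [AddCommGroup A] [Module R A] [AddCommGroup B] [Module R B]
    (hA : FP R (ModuleCat.of R A)) (hB : FP R (ModuleCat.of R B)) (e : A ≃ₗ[R] B) :
    (QuotientAddGroup.mk (FreeAbelianGroup.of ⟨ModuleCat.of R A, hA⟩) : KZero.K0sub (FP R)) =
      QuotientAddGroup.mk (FreeAbelianGroup.of ⟨ModuleCat.of R B, hB⟩) := by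
  have hZ : FP R (ModuleCat.of R PUnit.{u + 1}) := ⟨inferInstance, inferInstance⟩
  have h := rel_of_exact hZ hA hB (0 : PUnit.{u + 1} →ₗ[R] A) e.toLinearMap
    (fun a b _ => Subsingleton.elim a b) e.surjective
    (fun a => ⟨fun h => ⟨PUnit.unit, by
      have : a = 0 := e.injective (by simpa using h)
      simp [this]⟩, fun ⟨_, h⟩ => by
      have : a = 0 := by simpa using h.symm
      simp [this]⟩)
  rw [h, cl_subsingleton hZ, zero_add]

theorem cl_free (hR : FP R (ModuleCat.of R R)) : ∀ (n : ℕ) {A : Type u} [AddCommGroup A] [Module R A]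
    (hA : FP R (ModuleCat.of R A)) (_ : A ≃ₗ[R] (Fin n → R)),
    (QuotientAddGroup.mk (FreeAbelianGroup.of ⟨ModuleCat.of R A, hA⟩) : KZero.K0sub (FP R)) =
      n • QuotientAddGroup.mk (FreeAbelianGroup.of ⟨ModuleCat.of R R, hR⟩) := by
  intro n
  induction n with
  | zero =>
    intro A _ _ hA e
    haveI : Subsingleton A := e.toEquiv.subsingleton
    rw [cl_subsingleton hA, zero_smul]
  | succ n ih =>
    intro A _ _ hA e
    have hC : FP R (ModuleCat.of R (Fin n → R)) := ⟨inferInstance, inferInstance⟩
    let f : R →ₗ[R] A := e.symm.toLinearMap ∘ₗ (LinearMap.single R (fun _ : Fin (n + 1) => R) 0)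
    let g : A →ₗ[R] (Fin n → R) :=
      (LinearMap.pi fun i : Fin n => LinearMap.proj i.succ) ∘ₗ e.toLinearMap
    have hf : Function.Injective f := by
      intro a b hab
      have h1 := e.symm.injective hab
      have h2 := congrFun h1 0
      simpa using h2
    have hg : Function.Surjective g := by
      intro y
      refine ⟨e.symm (Fin.cons 0 y), ?_⟩
      ext i
      simp [g]
    have hex : Function.Exact f g := by
      intro a
      constructor
      · intro ha
        refine ⟨e a 0, ?_⟩
        apply e.injective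
        simp only [f, LinearMap.coe_comp, LinearEquiv.coe_coe, Function.comp_apply,
          LinearEquiv.apply_symm_apply]
        funext i
        cases i using Fin.cases with
        | zero => simp
        | succ j =>
          have := congrFun ha j
          simp only [g, LinearMap.coe_comp, LinearEquiv.coe_coe, Function.comp_apply,
            LinearMap.pi_apply, LinearMap.proj_apply, Pi.zero_apply] at this
          simp [this]
      · rintro ⟨r, rfl⟩
        ext i
        simp [f, g]
    rw [rel_of_exact hR hA hC f g hf hg hex, ih hC (LinearEquiv.refl R _), succ_nsmul, add_comm]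

end

theorem K0_local (R : Type u) [CommRing R] [IsLocalRing R] :
    ∃ e : KZero.K0sub (fun M : ModuleCat.{u} R => Module.Finite R M ∧ Module.Projective R M) ≃+ ℤ,
      e (KZero.clSub (fun M : ModuleCat.{u} R => Module.Finite R M ∧ Module.Projective R M)
        (ModuleCat.of R R)) = 1 := by
  classical
  have hR : FP R (ModuleCat.of R R) := ⟨inferInstance, inferInstance⟩
  let r : Subtype (FP R) → ℤ := fun M => (Module.finrank R M.1 : ℤ)
  let φ₀ : FreeAbelianGroup (Subtype (FP R)) →+ ℤ := FreeAbelianGroup.lift r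
  have hfree : ∀ M : ModuleCat.{u} R, FP R M → Module.Free R M := by
    intro M hM
    haveI := hM.1
    haveI := hM.2
    exact Module.free_of_flat_of_isLocalRing
  have hker : KZero.relSub (FP R) ≤ φ₀.ker := by
    unfold KZero.relSub
    rw [AddSubgroup.closure_le]
    rintro x ⟨S, h1, h2, h3, hS, rfl⟩
    show φ₀ _ = 0
    haveI := h1.1
    haveI := h3.1
    haveI := h3.2
    haveI := hfree _ h1
    haveI := hfree _ h3
    obtain ⟨s, hs⟩ := Module.projective_lifting_property S.g.hom LinearMap.id
      hS.moduleCat_surjective_g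
    have hexact := (ShortComplex.ShortExact.moduleCat_exact_iff_function_exact S).mp hS.exact
    obtain ⟨eq, -⟩ := (Function.Exact.splitSurjectiveEquiv hexact hS.moduleCat_injective_f) ⟨s, hs⟩
    have hrank : Module.finrank R S.X₂ = Module.finrank R S.X₁ + Module.finrank R S.X₃ := by
      rw [eq.finrank_eq, Module.finrank_prod]
    simp only [map_sub, φ₀, FreeAbelianGroup.lift_apply_of, r]
    rw [hrank]
    push_cast
    ring
  let e₀ : KZero.K0sub (FP R) →+ ℤ := QuotientAddGroup.lift (KZero.relSub (FP R)) φ₀ hker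
  let clR : KZero.K0sub (FP R) := QuotientAddGroup.mk (FreeAbelianGroup.of ⟨ModuleCat.of R R, hR⟩)
  have he₀R : e₀ clR = 1 := by
    simp only [e₀, clR, QuotientAddGroup.lift_mk, φ₀, FreeAbelianGroup.lift_apply_of, r]
    simp
  have hleft : ∀ x : KZero.K0sub (FP R), (e₀ x) • clR = x := by
    intro x
    induction x using QuotientAddGroup.induction_on with
    | H z =>
      induction z using FreeAbelianGroup.induction_on with
      | zero => simp
      | of M =>
        obtain ⟨M, hM⟩ := M
        haveI := hM.1
        haveI := hM.2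
        haveI := hfree _ hM
        have h1 := cl_free hR (Module.finrank R M) (A := M) hM (Module.finBasis R M).equivFun
        simp only [e₀, QuotientAddGroup.lift_mk, φ₀, FreeAbelianGroup.lift_apply_of, r, natCast_zsmul]
        exact h1.symm
      | neg M ih =>
        rw [QuotientAddGroup.mk_neg, map_neg, neg_smul, ih]
      | add a b ha hb =>
        rw [QuotientAddGroup.mk_add, map_add, add_smul, ha, hb]
  let e : KZero.K0sub (FP R) ≃+ ℤ :=
    { toFun := e₀
      invFun := fun n => n • clR
      left_inv := hleft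
      right_inv := fun n => by
        show e₀ (n • clR) = n
        rw [map_zsmul, he₀R, smul_eq_mul, mul_one]
      map_add' := e₀.map_add }
  refine ⟨e, ?_⟩
  show e₀ (KZero.clSub (FP R) (ModuleCat.of R R)) = 1
  unfold KZero.clSub
  rw [dif_pos hR]
  exact he₀R

end Groth.Agent.Lib.K0LocalH1
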