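import Mathlib
import Groth.Prelude.Def_KZero
import Groth.Agent.Lib.KZero_helper4
import Groth.Agent.Lib.K0Der_helper4

set_option backward.isDefEq.respectTransparency false
set_option linter.style.haveILetI false

/-!
# K₀ of a Serre quotient, part A (helper7)

`ι : K₀(P) → K₀(A)`, `λ : K₀(A) → K₀(Q)`, surjectivity of `λ`, `ker λ = im ι`.
-/

universe v u v' u'

open CategoryTheory CategoryTheory.Limits KZero ZeroObject

namespace Groth.Agent.Lib.K0Serre

open Groth.Agent.Lib.KZeroH4 Groth.Agent.Lib.K0DerH4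

section Ab

variable {A : Type u} [Category.{v} A] [Abelian A]

/-- universal property of `K0 A` -/
noncomputable def liftAb {G : Type*} [AddCommGroup G] (f : A → G)
    (hf : ∀ S : ShortComplex A, S.ShortExact → f S.X₂ = f S.X₁ + f S.X₃) : K0 A →+ G :=
  QuotientAddGroup.lift (relAb A) (FreeAbelianGroup.lift f) (by
    unfold relAb
    refine (AddSubgroup.closure_le _).2 ?_
    rintro x ⟨S, hS, rfl⟩
    simp only [SetLike.mem_coe, AddMonoidHom.mem_ker, map_sub, FreeAbelianGroup.lift_apply_of]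
    rw [hf S hS]
    abel)

lemma liftAb_cl {G : Type*} [AddCommGroup G] (f : A → G)
    (hf : ∀ S : ShortComplex A, S.ShortExact → f S.X₂ = f S.X₁ + f S.X₃) (X : A) :
    liftAb f hf (cl X) = f X :=
  (QuotientAddGroup.lift_mk _ _ _).trans (FreeAbelianGroup.lift_apply_of _ _)

lemma homAb_ext {G : Type*} [AddCommGroup G] (f g : K0 A →+ G)
    (h : ∀ X : A, f (cl X) = g (cl X)) : f = g := by
  apply QuotientAddGroup.addMonoidHom_ext
  apply FreeAbelianGroup.lift_ext
  intro X
  exact h X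

lemma splitShortExact (X₁ X₂ : A) :
    (ShortComplex.mk (biprod.inl : X₁ ⟶ X₁ ⊞ X₂) biprod.snd biprod.inl_snd).ShortExact :=
  (ShortComplex.Splitting.ofHasBinaryBiproduct X₁ X₂).shortExact

lemma cl_biprod (X₁ X₂ : A) : cl (X₁ ⊞ X₂) = cl X₁ + cl X₂ :=
  cl_ses _ (splitShortExact X₁ X₂)

lemma shortExact_kernel_of_epi {X Y : A} (g : X ⟶ Y) [Epi g] :
    (ShortComplex.mk (kernel.ι g) g (kernel.condition g)).ShortExact :=
  ShortComplex.ShortExact.mk' (ShortComplex.exact_kernel g) (by dsimp; infer_instance)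
    (by dsimp; infer_instance)

lemma cl_sub_cl_of_map {X Z : A} (f : X ⟶ Z) :
    cl X - cl Z = cl (kernel f) - cl (cokernel f) := by
  have h1 : cl X = cl (kernel f) + cl (kernel (cokernel.π f)) :=
    cl_exact (ShortComplex.mk f (cokernel.π f) (cokernel.condition f))
      (ShortComplex.exact_cokernel f)
  have h2 : cl Z = cl (kernel (cokernel.π f)) + cl (cokernel f) :=
    cl_ses _ (shortExact_kernel_of_epi (cokernel.π f))
  rw [h1, h2]
  abel

variable (P : ObjectProperty A) [P.IsSerreClass]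

lemma clSub_isZero' {X : A} (hX : IsZero X) : clSub P X = 0 := by
  have hPX : P X := P.prop_of_isZero hX
  have hS : (ShortComplex.mk (0 : X ⟶ X) (0 : X ⟶ X) zero_comp).ShortExact :=
    ShortComplex.ShortExact.mk' (ShortComplex.exact_of_isZero_X₂ _ hX) (hX.mono _) (hX.epi _)
  have h : clSub P X = clSub P X + clSub P X := clSub_ses P _ hS hPX hPX hPX
  have h' : clSub P X + 0 = clSub P X + clSub P X := by rw [add_zero]; exact h
  exact (add_left_cancel h').symm

lemma clSub_iso' {X Y : A} (e : X ≅ Y) (hX : P X) : clSub P X = clSub P Y := by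
  have hY : P Y := P.prop_of_iso e hX
  haveI : Epi (0 : Y ⟶ (0 : A)) := (isZero_zero A).epi _
  have hS : (ShortComplex.mk e.hom (0 : Y ⟶ (0 : A)) comp_zero).ShortExact :=
    ShortComplex.ShortExact.mk' ((ShortComplex.exact_iff_epi _ rfl).2 (inferInstance : Epi e.hom))
      (inferInstance : Mono e.hom) (inferInstance : Epi (0 : Y ⟶ (0 : A)))
  have h : clSub P Y = clSub P X + clSub P (0 : A) := clSub_ses P _ hS hX hY P.prop_zero
  rw [clSub_isZero' P (isZero_zero A), add_zero] at h
  exact h.symm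

lemma P_biprod {X Y : A} (hX : P X) (hY : P Y) : P (X ⊞ Y) :=
  P.prop_X₂_of_shortExact (splitShortExact X Y) hX hY

lemma clSub_biprod {X Y : A} (hX : P X) (hY : P Y) :
    clSub P (X ⊞ Y) = clSub P X + clSub P Y :=
  clSub_ses P _ (splitShortExact X Y) hX (P_biprod P hX hY) hY

/-- `ι` -/
noncomputable def iota : K0sub P →+ K0 A :=
  liftSub P (fun X => cl X) (fun S hS _ _ _ => cl_ses S hS)

lemma iota_clSub (X : A) (hX : P X) : iota P (clSub P X) = cl X :=
  liftSub_clSub P _ _ X hX

lemma exists_clSub_sub (x : K0sub P) :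
    ∃ (X Y : A) (_ : P X) (_ : P Y), x = clSub P X - clSub P Y := by
  obtain ⟨x, rfl⟩ := QuotientAddGroup.mk_surjective x
  refine FreeAbelianGroup.induction_on x ?_ ?_ ?_ ?_
  · exact ⟨0, 0, P.prop_zero, P.prop_zero, by rw [sub_self]; rfl⟩
  · rintro ⟨X, hX⟩
    exact ⟨X, 0, hX, P.prop_zero, by
      rw [clSub_isZero' P (isZero_zero A), sub_zero, clSub_eq P X hX]⟩
  · rintro ⟨X, hX⟩ _
    exact ⟨0, X, P.prop_zero, hX, by
      rw [clSub_isZero' P (isZero_zero A), zero_sub, clSub_eq P X hX]; rfl⟩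
  · rintro a b ⟨X, Y, hX, hY, h⟩ ⟨X', Y', hX', hY', h'⟩
    refine ⟨X ⊞ X', Y ⊞ Y', P_biprod P hX hX', P_biprod P hY hY', ?_⟩
    rw [clSub_biprod P hX hX', clSub_biprod P hY hY', QuotientAddGroup.mk_add, h, h']
    abel

lemma cl_sub_mem_range_of_isoModSerre {X Z : A} (f : X ⟶ Z) (hf : P.isoModSerre f) :
    cl X - cl Z ∈ (iota P).range := by
  rw [cl_sub_cl_of_map f]
  refine AddMonoidHom.mem_range.2 ⟨clSub P (kernel f) - clSub P (cokernel f), ?_⟩
  rw [map_sub, iota_clSub P _ hf.1, iota_clSub P _ hf.2]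

end Ab

section Loc

variable {A : Type u} [Category.{v} A] [Abelian A] (P : ObjectProperty A) [P.IsSerreClass]
  {Q : Type u'} [Category.{v'} Q] [Abelian Q]
  (L : A ⥤ Q) [L.IsLocalization P.isoModSerre] [L.Additive] [PreservesFiniteLimits L]
  [PreservesFiniteColimits L]

/-- `λ` -/
noncomputable def lam : K0 A →+ K0 Q :=
  liftAb (fun X => cl (L.obj X)) (fun S hS => cl_ses (S.map L) (hS.map_of_exact L))

lemma lam_cl (X : A) : lam L (cl X) = cl (L.obj X) := liftAb_cl _ _ X

lemma lam_iota (x : K0sub P) : lam L (iota P x) = 0 := by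
  have : (lam L).comp (iota P) = 0 := by
    apply homSub_ext P
    intro X hX
    rw [AddMonoidHom.comp_apply, AddMonoidHom.zero_apply, iota_clSub P X hX, lam_cl]
    exact cl_isZero _ ((ObjectProperty.SerreClassLocalization.isZero_obj_iff L P X).2 hX)
  exact DFunLike.congr_fun this x

lemma isoModSerre_of_isIso {X Z : A} (f : X ⟶ Z) (hf : IsIso (L.map f)) : P.isoModSerre f :=
  ⟨(ObjectProperty.SerreClassLocalization.mono_map_iff L P f).1 inferInstance,
    (ObjectProperty.SerreClassLocalization.epi_map_iff L P f).1 inferInstance⟩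

lemma cl_sub_mem_range_of_iso (X X' : A) (e : L.obj X ≅ L.obj X') :
    cl X - cl X' ∈ (iota P).range := by
  obtain ⟨φ, hφ⟩ := Localization.exists_leftFraction L P.isoModSerre e.hom
  have h1 : φ.map L (Localization.inverts L P.isoModSerre) ≫ L.map φ.s = L.map φ.f :=
    φ.map_comp_map_s L _
  haveI : IsIso (L.map φ.s) := Localization.inverts L P.isoModSerre _ φ.hs
  haveI : IsIso (L.map φ.f) := by rw [← h1, ← hφ]; infer_instance
  have hf : P.isoModSerre φ.f := isoModSerre_of_isIso P L φ.f inferInstance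
  have := sub_mem (cl_sub_mem_range_of_isoModSerre P φ.f hf)
    (cl_sub_mem_range_of_isoModSerre P φ.s φ.hs)
  have e' : cl X - cl φ.Y' - (cl X' - cl φ.Y') = cl X - cl X' := by abel
  rwa [e'] at this

/-- the function underlying `μ` -/
noncomputable def muFun (Y : Q) : K0 A ⧸ (iota P).range :=
  haveI := Localization.essSurj L P.isoModSerre
  QuotientAddGroup.mk (cl (L.objPreimage Y))

lemma muFun_eq (X : A) (Y : Q) (e : L.obj X ≅ Y) :
    muFun P L Y = QuotientAddGroup.mk (cl X) := by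
  haveI := Localization.essSurj L P.isoModSerre
  unfold muFun
  rw [QuotientAddGroup.eq_iff_sub_mem]
  exact cl_sub_mem_range_of_iso P L _ _ (L.objObjPreimageIso Y ≪≫ e.symm)

/-- `μ`, inverse to `λ` modulo the image of `ι` -/
noncomputable def mu : K0 Q →+ K0 A ⧸ (iota P).range :=
  liftAb (muFun P L) (by
    intro S hS
    haveI := hS.epi_g
    obtain ⟨X', Y', g', hg', ⟨e⟩⟩ :=
      (ObjectProperty.SerreClassLocalization.epi_iff L P S.g).1 inferInstance
    haveI := hg'
    let eL : L.obj X' ≅ S.X₂ := Arrow.leftFunc.mapIso e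
    let eR : L.obj Y' ≅ S.X₃ := Arrow.rightFunc.mapIso e
    have comm : L.map g' ≫ eR.hom = eL.hom ≫ S.g := (Arrow.w e.hom).symm
    let eK : L.obj (kernel g') ≅ S.X₁ :=
      PreservesKernel.iso L g' ≪≫ kernel.mapIso (L.map g') S.g eL eR comm ≪≫
        (IsLimit.conePointUniqueUpToIso hS.fIsKernel (kernelIsKernel S.g)).symm
    rw [muFun_eq P L X' S.X₂ eL, muFun_eq P L Y' S.X₃ eR, muFun_eq P L (kernel g') S.X₁ eK]
    have h := cl_ses _ (shortExact_kernel_of_epi g')
    dsimp at h
    rw [h]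
    rfl)

lemma mu_lam (z : K0 A) : mu P L (lam L z) = QuotientAddGroup.mk z := by
  have : (mu P L).comp (lam L) = QuotientAddGroup.mk' _ := by
    apply homAb_ext
    intro X
    rw [AddMonoidHom.comp_apply, QuotientAddGroup.mk'_apply, lam_cl, mu, liftAb_cl]
    exact muFun_eq P L X _ (Iso.refl _)
  exact DFunLike.congr_fun this z

theorem ker_lam : (lam L).ker = (iota P).range := by
  ext z
  rw [AddMonoidHom.mem_ker]
  constructor
  · intro hz
    have h := mu_lam P L z
    rw [hz, map_zero] at h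
    exact (QuotientAddGroup.eq_zero_iff z).1 h.symm
  · rintro ⟨x, rfl⟩
    exact lam_iota P L x

include P in
theorem lam_surjective : Function.Surjective (lam L) := by
  haveI := Localization.essSurj L P.isoModSerre
  intro y
  obtain ⟨y, rfl⟩ := QuotientAddGroup.mk_surjective y
  refine FreeAbelianGroup.induction_on y ⟨0, map_zero _⟩ ?_ ?_ ?_
  · intro Y
    exact ⟨cl (L.objPreimage Y), (lam_cl L _).trans (cl_iso (L.objObjPreimageIso Y))⟩
  · rintro Y ⟨x, hx⟩
    exact ⟨-x, by rw [map_neg, hx]; rfl⟩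
  · rintro a b ⟨x, hx⟩ ⟨x', hx'⟩
    exact ⟨x + x', by rw [map_add, hx, hx']; rfl⟩

end Loc

end Groth.Agent.Lib.K0Serre
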