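import Mathlib
import Groth.Prelude.Def_KZero
import Groth.Prelude.Def_DRing2
import Groth.Agent.Lib.KZero_helper4
import Groth.Agent.Lib.DMod2_helper6
import Groth.Agent.Lib.K0Serre1_helper7

/-!
# `K₀(R) ≅ K₀(D_perf(R))`, part 1 (helper7): Euler characteristics of bounded complexes of
finite projective modules.
-/

set_option autoImplicit false
set_option linter.style.haveILetI false
set_option linter.unusedSectionVars false

universe u

open CategoryTheory Limits Pretriangulated DerivedCategory ZeroObject KZero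
attribute [local instance] HasDerivedCategory.standard

namespace Groth.Agent.Lib.K0Perf

open DRing Groth.Agent.Lib.KZeroH4 Groth.Agent.Lib.DMod_helper6

variable (R : Type u) [CommRing R]

/-- finite projective modules -/
abbrev FP : ObjectProperty (ModuleCat.{u} R) :=
  fun M => Module.Finite R M ∧ Module.Projective R M

variable {R}

lemma FP_of_iso {M N : ModuleCat.{u} R} (e : M ≅ N) (h : FP R M) : FP R N :=
  ⟨finite_of_iso e h.1, projective_of_iso e h.2⟩

lemma FP_of_isZero {M : ModuleCat.{u} R} (h : IsZero M) : FP R M := by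
  haveI : Subsingleton M := ModuleCat.subsingleton_of_isZero h
  exact ⟨inferInstance, inferInstance⟩

lemma FP_biprod {M N : ModuleCat.{u} R} (hM : FP R M) (hN : FP R N) :
    FP R (M ⊞ N : ModuleCat.{u} R) :=
  ⟨finite_biprod hM.1 hN.1, projective_biprod hM.2 hN.2⟩

lemma FP_of_retract {M N : ModuleCat.{u} R} (i : M ⟶ N) (r : N ⟶ M) (h : i ≫ r = 𝟙 M)
    (hN : FP R N) : FP R M := by
  haveI := hN.1
  haveI := hN.2
  have hri : ∀ m : M, r.hom (i.hom m) = m := fun m => by
    have := congrArg (fun f : M ⟶ M => f.hom m) h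
    simpa using this
  exact ⟨Module.Finite.of_surjective r.hom (fun m => ⟨i.hom m, hri m⟩),
    Module.Projective.of_split i.hom r.hom (LinearMap.ext hri)⟩

lemma FP_X₁_of_shortExact {S : ShortComplex (ModuleCat.{u} R)} (hS : S.ShortExact)
    (h₂ : FP R S.X₂) (h₃ : FP R S.X₃) : FP R S.X₁ := by
  haveI : Projective S.X₃ := (IsProjective.iff_projective S.X₃).1 h₃.2
  haveI := hS.epi_g
  haveI := hS.mono_f
  let sp := ShortComplex.Splitting.ofExactOfSection S hS.exact
    (Projective.factorThru (𝟙 S.X₃) S.g) (Projective.factorThru_comp _ _) inferInstance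
  exact FP_of_retract S.f sp.r sp.f_r h₂

lemma clSub_zero' {M : ModuleCat.{u} R} (h : IsZero M) : clSub (FP R) M = 0 := by
  have hP : FP R M := FP_of_isZero h
  have hS : (ShortComplex.mk (0 : M ⟶ M) (0 : M ⟶ M) zero_comp).ShortExact :=
    ShortComplex.ShortExact.mk' (ShortComplex.exact_of_isZero_X₂ _ h) (h.mono _) (h.epi _)
  have e : clSub (FP R) M = clSub (FP R) M + clSub (FP R) M := clSub_ses (FP R) _ hS hP hP hP
  have e' : clSub (FP R) M + 0 = clSub (FP R) M + clSub (FP R) M := by rw [add_zero]; exact e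
  exact (add_left_cancel e').symm

lemma clSub_iso' {M N : ModuleCat.{u} R} (e : M ≅ N) (hM : FP R M) :
    clSub (FP R) M = clSub (FP R) N := by
  have hN : FP R N := FP_of_iso e hM
  haveI : Epi (0 : N ⟶ (0 : ModuleCat.{u} R)) := (isZero_zero _).epi _
  have hS : (ShortComplex.mk e.hom (0 : N ⟶ (0 : ModuleCat.{u} R)) comp_zero).ShortExact :=
    ShortComplex.ShortExact.mk' ((ShortComplex.exact_iff_epi _ rfl).2 (inferInstance : Epi e.hom))
      (inferInstance : Mono e.hom) (inferInstance : Epi (0 : N ⟶ (0 : ModuleCat.{u} R)))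
  have h : clSub (FP R) N = clSub (FP R) M + clSub (FP R) (0 : ModuleCat.{u} R) :=
    clSub_ses (FP R) _ hS hM hN (FP_of_isZero (isZero_zero _))
  rw [clSub_zero' (isZero_zero _), add_zero] at h
  exact h.symm

lemma clSub_biprod' {M N : ModuleCat.{u} R} (hM : FP R M) (hN : FP R N) :
    clSub (FP R) (M ⊞ N : ModuleCat.{u} R) = clSub (FP R) M + clSub (FP R) N :=
  clSub_ses (FP R) _ (Groth.Agent.Lib.K0Serre.splitShortExact M N) hM (FP_biprod hM hN) hN

/-- Euler characteristic of a complex -/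
noncomputable def chiC (E : Cx R) : K0sub (FP R) :=
  ∑ᶠ i : ℤ, ((i.negOnePow : ℤˣ) : ℤ) • clSub (FP R) (E.X i)

lemma chiC_eq_sum (E : Cx R) (a b : ℤ) (h : VanishesOutside E a b) :
    chiC E = ∑ i ∈ Finset.Icc a b, ((i.negOnePow : ℤˣ) : ℤ) • clSub (FP R) (E.X i) := by
  unfold chiC
  apply finsum_eq_sum_of_support_subset
  intro i hi
  rw [Function.mem_support] at hi
  rw [Finset.coe_Icc, Set.mem_Icc]
  by_contra hc
  exact hi (by rw [clSub_zero' (h i (by omega)), smul_zero])

lemma chiC_cone {E F : Cx R} (f : E ⟶ F) (hE : perfCls E) (hF : perfCls F) :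
    chiC (CochainComplex.mappingCone f) = chiC F - chiC E := by
  obtain ⟨a, b, h1, h2⟩ := hE
  obtain ⟨a', b', h1', h2'⟩ := hF
  obtain ⟨s, hs⟩ : ∃ s : ℤ → ℤ, ∀ n, s n = ((n.negOnePow : ℤˣ) : ℤ) :=
    ⟨fun n => ((n.negOnePow : ℤˣ) : ℤ), fun _ => rfl⟩
  have hs1 : ∀ n, s (n + 1) = - s n := fun n => by
    rw [hs, hs, Int.negOnePow_succ, Units.val_neg]
  have T : ∀ n : ℤ, ((n.negOnePow : ℤˣ) : ℤ) •
      clSub (FP R) ((CochainComplex.mappingCone f).X n) =
      s n • clSub (FP R) (F.X n) - s (n + 1) • clSub (FP R) (E.X (n + 1)) := fun n => by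
    have hc : FP R ((CochainComplex.mappingCone f).X n) :=
      FP_of_iso (coneXIso f n).symm (FP_biprod (h2 (n + 1)) (h2' n))
    rw [clSub_iso' (coneXIso f n) hc, clSub_biprod' (h2 (n + 1)) (h2' n), smul_add, hs1,
      neg_smul, sub_neg_eq_add, hs, add_comm]
  have hα : (Function.support (fun n => s n • clSub (FP R) (F.X n))).Finite :=
    fin_supp _ a' b' (fun n hn => by
      show s n • clSub (FP R) (F.X n) = 0
      rw [clSub_zero' (h1' n hn), smul_zero])
  have hβ' : (Function.support (fun n => s (n + 1) • clSub (FP R) (E.X (n + 1)))).Finite :=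
    fin_supp _ (a - 1) (b - 1) (fun n hn => by
      show s (n + 1) • clSub (FP R) (E.X (n + 1)) = 0
      rw [clSub_zero' (h1 (n + 1) (by omega)), smul_zero])
  have hshift : ∑ᶠ n : ℤ, s (n + 1) • clSub (FP R) (E.X (n + 1)) =
      ∑ᶠ n : ℤ, s n • clSub (FP R) (E.X n) :=
    finsum_comp_equiv (Equiv.addRight (1 : ℤ)) (f := fun n => s n • clSub (FP R) (E.X n))
  have eF : chiC F = ∑ᶠ n : ℤ, s n • clSub (FP R) (F.X n) :=
    finsum_congr (fun n => by rw [hs])
  have eE : chiC E = ∑ᶠ n : ℤ, s n • clSub (FP R) (E.X n) :=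
    finsum_congr (fun n => by rw [hs])
  rw [eF, eE, ← hshift]
  exact (finsum_congr T).trans (finsum_sub_distrib hα hβ')

lemma chiC_acyclic (E : Cx R) (hE : perfCls E) (hac : E.Acyclic) : chiC E = 0 := by
  obtain ⟨a, b, h1, h2⟩ := hE
  have hex : ∀ i : ℤ, (ShortComplex.mk (E.d i (i + 1)) (E.d (i + 1) (i + 1 + 1))
      (E.d_comp_d _ _ _)).Exact :=
    fun i => (E.exactAt_iff' i (i + 1) (i + 1 + 1) (by simp) (by simp)).1 (hac (i + 1))
  have hses := fun i : ℤ => shortExact_kernel (E.d i (i + 1)) (E.d (i + 1) (i + 1 + 1))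
    (E.d_comp_d _ _ _) (hex i)
  have hZ0 : ∀ i : ℤ, (i < a ∨ b < i) → IsZero (kernel (E.d i (i + 1))) :=
    fun i hi => IsZero.of_mono (kernel.ι _) (h1 i hi)
  have hZ : ∀ n : ℕ, ∀ i : ℤ, b + 1 - n ≤ i → FP R (kernel (E.d i (i + 1))) := by
    intro n
    induction n with
    | zero =>
      intro i hi
      exact FP_of_isZero (hZ0 i (Or.inr (by omega)))
    | succ n ih =>
      intro i hi
      by_cases h : b + 1 - n ≤ i
      · exact ih i h
      · exact FP_X₁_of_shortExact (hses i) (h2 i) (ih (i + 1) (by omega))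
  have hZall : ∀ i : ℤ, FP R (kernel (E.d i (i + 1))) :=
    fun i => hZ (b + 1 - i).toNat i (by omega)
  obtain ⟨s, hs⟩ : ∃ s : ℤ → ℤ, ∀ n, s n = ((n.negOnePow : ℤˣ) : ℤ) :=
    ⟨fun n => ((n.negOnePow : ℤˣ) : ℤ), fun _ => rfl⟩
  have hs1 : ∀ n, s (n + 1) = - s n := fun n => by
    rw [hs, hs, Int.negOnePow_succ, Units.val_neg]
  obtain ⟨z, hz⟩ : ∃ z : ℤ → K0sub (FP R),
      ∀ i, z i = clSub (FP R) (kernel (E.d i (i + 1))) := ⟨_, fun _ => rfl⟩
  have T : ∀ n : ℤ, ((n.negOnePow : ℤˣ) : ℤ) • clSub (FP R) (E.X n) =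
      s n • z n - s (n + 1) • z (n + 1) := fun n => by
    have e : clSub (FP R) (E.X n) = clSub (FP R) (kernel (E.d n (n + 1))) +
        clSub (FP R) (kernel (E.d (n + 1) (n + 1 + 1))) :=
      clSub_ses (FP R) _ (hses n) (hZall n) (h2 n) (hZall (n + 1))
    rw [e, smul_add, hs1, neg_smul, sub_neg_eq_add, hs, hz, hz]
  have hζ : (Function.support (fun n => s n • z n)).Finite :=
    fin_supp _ a b (fun n hn => by
      show s n • z n = 0
      rw [hz, clSub_zero' (hZ0 n hn), smul_zero])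
  have hζ' : (Function.support (fun n => s (n + 1) • z (n + 1))).Finite :=
    fin_supp _ (a - 1) (b - 1) (fun n hn => by
      show s (n + 1) • z (n + 1) = 0
      rw [hz, clSub_zero' (hZ0 (n + 1) (by omega)), smul_zero])
  have hshift : ∑ᶠ n : ℤ, s (n + 1) • z (n + 1) = ∑ᶠ n : ℤ, s n • z n :=
    finsum_comp_equiv (Equiv.addRight (1 : ℤ)) (f := fun n => s n • z n)
  have key := (finsum_congr T).trans (finsum_sub_distrib hζ hζ')
  rw [hshift, sub_self] at key
  exact key

end Groth.Agent.Lib.K0Perf
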