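import Mathlib
import Groth.Agent.Lib.K0Perf1_helper7
import Groth.Agent.Lib.StupidTr_helper7

/-!
# `K₀(R) ≅ K₀(D_perf(R))`, part 2 (helper7): the Euler characteristic on `D_perf(R)`, dévissage
by stupid truncations, and the isomorphism.
-/

set_option autoImplicit false
set_option linter.style.haveILetI false
set_option linter.unusedSectionVars false

universe u

open CategoryTheory Limits Pretriangulated DerivedCategory ZeroObject KZero
attribute [local instance] HasDerivedCategory.standard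

namespace Groth.Agent.Lib.K0Perf

open DRing Groth.Agent.Lib.KZeroH4 Groth.Agent.Lib.DMod_helper6

variable {R : Type u} [CommRing R]

lemma acyclic_of_isZero_Q {E : Cx R} (h : IsZero (Q.obj E)) : E.Acyclic := by
  intro i
  rw [HomologicalComplex.exactAt_iff_isZero_homology]
  exact IsZero.of_iso ((DerivedCategory.homologyFunctor _ i).map_isZero h)
    ((DerivedCategory.homologyFunctorFactors _ i).app E).symm

lemma isZero_Q_cone_of_isIso {E F : Cx R} (f : E ⟶ F) (h : IsIso (Q.map f)) :
    IsZero (Q.obj (CochainComplex.mappingCone f)) :=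
  (Triangle.isZero₃_iff_isIso₁ _ (DerivedCategory.mappingCone_triangle_distinguished f)).2 h

lemma chiC_eq_of_iso {E F : Cx R} (hE : perfCls E) (hF : perfCls F) (e : Q.obj E ≅ Q.obj F) :
    chiC E = chiC F := by
  haveI := isKProjective_of_perfCls hE
  obtain ⟨f, hf⟩ := exists_Q_map_eq_of_isKProjective e.hom
  have hiso : IsIso (Q.map f) := by rw [hf]; infer_instance
  have hz := isZero_Q_cone_of_isIso f hiso
  have h0 := chiC_acyclic _ (perfCls_cone E F f hE hF) (acyclic_of_isZero_Q hz)
  rw [chiC_cone f hE hF] at h0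
  exact (sub_eq_zero.1 h0).symm

open Classical in
/-- Euler characteristic of a perfect object -/
noncomputable def chiD (K : Dual.D R) : K0sub (FP R) :=
  if h : IsPerfect R K then chiC h.choose else 0

lemma chiD_eq {K : Dual.D R} {E : Cx R} (hE : perfCls E) (e : Q.obj E ≅ K) :
    chiD K = chiC E := by
  obtain ⟨a, b, h1, h2⟩ := hE
  have h : IsPerfect R K := ⟨E, a, b, h1, h2, ⟨e⟩⟩
  unfold chiD
  rw [dif_pos h]
  obtain ⟨a', b', h1', h2', ⟨e'⟩⟩ := h.choose_spec
  exact chiC_eq_of_iso ⟨a', b', h1', h2'⟩ ⟨a, b, h1, h2⟩ (e' ≪≫ e.symm)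

lemma chiD_tri (T : Triangle (Dual.D R)) (hT : T ∈ distTriang (Dual.D R))
    (h₁ : IsPerfect R T.obj₁) (h₂ : IsPerfect R T.obj₂) :
    chiD T.obj₂ = chiD T.obj₁ + chiD T.obj₃ := by
  obtain ⟨E, a, b, hE1, hE2, ⟨e₁⟩⟩ := h₁
  obtain ⟨F, a', b', hF1, hF2, ⟨e₂⟩⟩ := h₂
  have hE : perfCls E := ⟨a, b, hE1, hE2⟩
  have hF : perfCls F := ⟨a', b', hF1, hF2⟩
  haveI := isKProjective_of_perfCls hE
  obtain ⟨f, ⟨e₃⟩⟩ := exists_cone_iso hT e₁ e₂ (exists_Q_map_eq_of_isKProjective _)
  rw [chiD_eq hE e₁, chiD_eq hF e₂, chiD_eq (perfCls_cone E F f hE hF) e₃, chiC_cone f hE hF]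
  abel

/-! ### single modules -/

lemma perfCls_single (M : ModuleCat.{u} R) (hM : FP R M) (n : ℤ) :
    perfCls ((HomologicalComplex.single (ModuleCat.{u} R) (ComplexShape.up ℤ) n).obj M) := by
  refine ⟨n, n, fun i hi => ?_, fun i => ?_⟩
  · exact HomologicalComplex.isZero_single_obj_X (ComplexShape.up ℤ) n M i (by omega)
  · by_cases h : i = n
    · subst h
      exact FP_of_iso (HomologicalComplex.singleObjXSelf (ComplexShape.up ℤ) i M).symm hM
    · exact FP_of_isZero (HomologicalComplex.isZero_single_obj_X (ComplexShape.up ℤ) n M i h)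

lemma isPerfect_single (M : ModuleCat.{u} R) (hM : FP R M) (n : ℤ) :
    IsPerfect R ((singleFunctor (ModuleCat.{u} R) n).obj M) := by
  obtain ⟨a, b, h1, h2⟩ := perfCls_single M hM n
  exact ⟨_, a, b, h1, h2, ⟨((singleFunctorIsoCompQ (ModuleCat.{u} R) n).app M).symm⟩⟩

lemma chiC_single (M : ModuleCat.{u} R) (hM : FP R M) :
    chiC ((HomologicalComplex.single (ModuleCat.{u} R) (ComplexShape.up ℤ) 0).obj M) =
      clSub (FP R) M := by
  rw [chiC_eq_sum _ 0 0 (fun i hi =>
    HomologicalComplex.isZero_single_obj_X (ComplexShape.up ℤ) 0 M i (by omega)),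
    Finset.Icc_self, Finset.sum_singleton, Int.negOnePow_zero, Units.val_one, one_smul]
  exact clSub_iso' (HomologicalComplex.singleObjXSelf (ComplexShape.up ℤ) 0 M)
    (FP_of_iso (HomologicalComplex.singleObjXSelf (ComplexShape.up ℤ) 0 M).symm hM)

lemma chiD_single (M : ModuleCat.{u} R) (hM : FP R M) :
    chiD ((singleFunctor (ModuleCat.{u} R) 0).obj M) = clSub (FP R) M := by
  rw [chiD_eq (perfCls_single M hM 0) ((singleFunctorIsoCompQ (ModuleCat.{u} R) 0).app M).symm,
    chiC_single M hM]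

/-! ### the two homomorphisms -/

variable (R) in
/-- `[M] ↦ [M[0]]` -/
noncomputable def phi : K0sub (FP R) →+ K0tr (perfProp R) :=
  liftSub (FP R) (fun M => clTr (perfProp R) ((singleFunctor (ModuleCat.{u} R) 0).obj M))
    (fun S hS h₁ h₂ h₃ => clTr_tri (perfProp R) hS.singleTriangle
      hS.singleTriangle_distinguished (isPerfect_single _ h₁ 0) (isPerfect_single _ h₂ 0)
      (isPerfect_single _ h₃ 0))

lemma phi_clSub (M : ModuleCat.{u} R) (hM : FP R M) :
    phi R (clSub (FP R) M) = clTr (perfProp R) ((singleFunctor (ModuleCat.{u} R) 0).obj M) :=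
  liftSub_clSub _ _ _ M hM

variable (R) in
/-- the Euler characteristic `K₀(D_perf) → K₀(R)` -/
noncomputable def psi : K0tr (perfProp R) →+ K0sub (FP R) :=
  liftTr (perfProp R) chiD (fun T hT h₁ h₂ _ => chiD_tri T hT h₁ h₂)

lemma psi_clTr (K : Dual.D R) (hK : IsPerfect R K) : psi R (clTr (perfProp R) K) = chiD K :=
  liftTr_clTr _ _ _ K hK

lemma psi_phi (x : K0sub (FP R)) : psi R (phi R x) = x := by
  have h : (psi R).comp (phi R) = AddMonoidHom.id _ := by
    apply homSub_ext
    intro M hM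
    show psi R (phi R (clSub (FP R) M)) = clSub (FP R) M
    rw [phi_clSub M hM, psi_clTr _ (isPerfect_single M hM 0), chiD_single M hM]
  exact DFunLike.congr_fun h x

/-! ### dévissage -/

section Devissage

variable (H : AddSubgroup (K0tr (perfProp R)))

/-- perfect objects whose class lies in `H` -/
def inH : ObjectProperty (Dual.D R) := fun K => perfProp R K ∧ clTr (perfProp R) K ∈ H

lemma inH_of_iso {K L : Dual.D R} (e : K ≅ L) (h : inH H K) : inH H L :=
  ⟨(perfProp R).prop_of_iso e h.1, by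
    rw [← clTr_iso (perfProp R) e h.1]
    exact h.2⟩

lemma inH_shift {K : Dual.D R} (h : inH H K) (n : ℤ) : inH H (K⟦n⟧) :=
  ⟨(perfProp R).le_shift n K h.1, by
    rw [clTr_shift (perfProp R) K h.1 n]
    exact H.zsmul_mem h.2 _⟩

lemma inH_of_tri (T : Triangle (Dual.D R)) (hT : T ∈ distTriang (Dual.D R))
    (h₁ : inH H T.obj₁) (h₃ : inH H T.obj₃) : inH H T.obj₂ := by
  have h₂ : perfProp R T.obj₂ := (perfProp R).ext_of_isTriangulatedClosed₂ T hT h₁.1 h₃.1
  exact ⟨h₂, by
    rw [clTr_tri (perfProp R) T hT h₁.1 h₂ h₃.1]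
    exact H.add_mem h₁.2 h₃.2⟩

variable (hH : ∀ M : ModuleCat.{u} R, FP R M →
  clTr (perfProp R) ((singleFunctor (ModuleCat.{u} R) 0).obj M) ∈ H)

include hH

lemma inH_single (M : ModuleCat.{u} R) (hM : FP R M) (n : ℤ) :
    inH H ((singleFunctor (ModuleCat.{u} R) n).obj M) := by
  have h0 : inH H ((singleFunctor (ModuleCat.{u} R) 0).obj M) :=
    ⟨isPerfect_single M hM 0, hH M hM⟩
  exact inH_of_iso H (((singleFunctors (ModuleCat.{u} R)).shiftIso (-n) n 0 (by omega)).app M)
    (inH_shift H h0 (-n))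

lemma inH_of_supported_single (E : Cx R) (a : ℤ) (h : VanishesOutside E a a)
    (hP : FP R (E.X a)) : inH H (Q.obj E) := by
  haveI : E.IsStrictlyGE a :=
    (CochainComplex.isStrictlyGE_iff E a).2 (fun i hi => h i (Or.inl hi))
  haveI : E.IsStrictlyLE a :=
    (CochainComplex.isStrictlyLE_iff E a).2 (fun i hi => h i (Or.inr hi))
  obtain ⟨M, ⟨e⟩⟩ := E.exists_iso_single a
  have eM : E.X a ≅ M := (HomologicalComplex.eval _ _ a).mapIso e ≪≫
    HomologicalComplex.singleObjXSelf (ComplexShape.up ℤ) a M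
  have hM : FP R M := FP_of_iso eM hP
  exact inH_of_iso H ((singleFunctorIsoCompQ (ModuleCat.{u} R) a).app M ≪≫ Q.mapIso e.symm)
    (inH_single H hH M hM a)

lemma inH_of_bounded : ∀ (n : ℕ) (a : ℤ) (E : Cx R), VanishesOutside E a (a + n) →
    TermwiseFiniteProjective E → inH H (Q.obj E) := by
  intro n
  induction n with
  | zero =>
    intro a E h1 h2
    exact inH_of_supported_single H hH E a
      (fun i hi => h1 i (hi.imp id (fun h => by simpa using h))) (h2 a)
  | succ n ih =>
    intro a E h1 h2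
    have hσ1 : VanishesOutside (StupidTr.tr E (a + 1)) (a + 1) (a + 1 + n) := fun i hi => by
      by_cases h : a + 1 ≤ i
      · haveI := StupidTr.isIso_trι_f E (a + 1) h
        have hi' : a + ((n + 1 : ℕ) : ℤ) < i := by push_cast; omega
        exact IsZero.of_iso (h1 i (Or.inr hi')) (asIso ((StupidTr.trι E (a + 1)).f i))
      · exact StupidTr.isZero_tr_X E (a + 1) h
    have hσ2 : TermwiseFiniteProjective (StupidTr.tr E (a + 1)) := fun i => by
      by_cases h : a + 1 ≤ i
      · haveI := StupidTr.isIso_trι_f E (a + 1) h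
        exact FP_of_iso (asIso ((StupidTr.trι E (a + 1)).f i)).symm (h2 i)
      · exact FP_of_isZero (StupidTr.isZero_tr_X E (a + 1) h)
    have ihσ := ih (a + 1) (StupidTr.tr E (a + 1)) hσ1 hσ2
    obtain ⟨ι, hι⟩ : ∃ ι : StupidTr.tr E (a + 1) ⟶ E, ι = StupidTr.trι E (a + 1) := ⟨_, rfl⟩
    haveI : ∀ m, Mono (ι.f m) := fun m => by rw [hι]; infer_instance
    haveI : Mono ι := HomologicalComplex.mono_of_mono_f ι (fun m => inferInstance)
    have hS : (ShortComplex.mk ι (cokernel.π ι) (cokernel.condition ι)).ShortExact :=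
      ShortComplex.ShortExact.mk' (ShortComplex.exact_cokernel ι)
        (show Mono ι from inferInstance) (show Epi (cokernel.π ι) from inferInstance)
    have hSm : ∀ m : ℤ, ((ShortComplex.mk ι (cokernel.π ι) (cokernel.condition ι)).map
        (HomologicalComplex.eval (ModuleCat.{u} R) (ComplexShape.up ℤ) m)).ShortExact :=
      fun m => hS.map_of_exact _
    have hC1 : ∀ m : ℤ, a + 1 ≤ m → IsZero ((cokernel ι).X m) := fun m hm => by
      haveI : IsIso (ι.f m) := by rw [hι]; exact StupidTr.isIso_trι_f E (a + 1) hm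
      haveI : Epi ((cokernel.π ι).f m) := (hSm m).epi_g
      have w : ι.f m ≫ (cokernel.π ι).f m = 0 := by
        rw [← HomologicalComplex.comp_f, cokernel.condition, HomologicalComplex.zero_f]
      have h0 : (cokernel.π ι).f m = 0 := (cancel_epi (ι.f m)).1 (by rw [comp_zero]; exact w)
      exact IsZero.of_epi_eq_zero _ h0
    have hC2 : ∀ m : ℤ, ¬ a + 1 ≤ m → IsIso ((cokernel.π ι).f m) := fun m hm => by
      haveI : Epi ((cokernel.π ι).f m) := (hSm m).epi_g
      haveI : Mono ((cokernel.π ι).f m) :=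
        (hSm m).exact.mono_g ((StupidTr.isZero_tr_X E (a + 1) hm).eq_of_src _ _)
      exact isIso_of_mono_of_epi _
    have hCv : VanishesOutside (cokernel ι) a a := fun m hm => by
      rcases hm with hm | hm
      · haveI := hC2 m (by omega)
        exact IsZero.of_iso (h1 m (Or.inl hm)) (asIso ((cokernel.π ι).f m)).symm
      · exact hC1 m (by omega)
    have hCP : FP R ((cokernel ι).X a) := by
      haveI := hC2 a (by omega)
      exact FP_of_iso (asIso ((cokernel.π ι).f a)) (h2 a)
    have hCk := inH_of_supported_single H hH (cokernel ι) a hCv hCP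
    exact inH_of_tri H _ (triangleOfSES_distinguished hS) ihσ hCk

end Devissage

lemma phi_surjective : Function.Surjective (phi R) := by
  have hH : ∀ M : ModuleCat.{u} R, FP R M →
      clTr (perfProp R) ((singleFunctor (ModuleCat.{u} R) 0).obj M) ∈ (phi R).range :=
    fun M hM => ⟨clSub (FP R) M, phi_clSub M hM⟩
  have key : ∀ (K : Dual.D R), perfProp R K → clTr (perfProp R) K ∈ (phi R).range := by
    rintro K ⟨E, a, b, h1, h2, ⟨e⟩⟩
    have := inH_of_bounded (phi R).range hH (b - a).toNat a E (fun i hi => h1 i (by omega)) h2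
    exact (inH_of_iso (phi R).range e this).2
  have hq : QuotientAddGroup.mk' (phi R).range = 0 :=
    homTr_ext (perfProp R) _ _ (fun K hK => (QuotientAddGroup.eq_zero_iff _).2 (key K hK))
  intro x
  have hx : x ∈ (phi R).range :=
    (QuotientAddGroup.eq_zero_iff x).1 (DFunLike.congr_fun hq x)
  exact AddMonoidHom.mem_range.1 hx

variable (R) in
/-- the isomorphism -/
noncomputable def phiEquiv : K0sub (FP R) ≃+ K0tr (perfProp R) :=
  AddEquiv.ofBijective (phi R)
    ⟨Function.LeftInverse.injective (g := psi R) psi_phi, phi_surjective⟩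

lemma phiEquiv_symm (y : K0tr (perfProp R)) : (phiEquiv R).symm y = psi R y := by
  have h1 : phi R ((phiEquiv R).symm y) = y := (phiEquiv R).apply_symm_apply y
  have h2 := psi_phi ((phiEquiv R).symm y)
  rw [h1] at h2
  exact h2.symm

variable (R) in
theorem main : ∃ φ : K0sub (FP R) ≃+ K0tr (perfProp R),
    (∀ (M : Type u) [AddCommGroup M] [Module R M], Module.Finite R M → Module.Projective R M →
        φ (clSub (FP R) (ModuleCat.of R M)) = clTr (perfProp R) (Dual.inD R M)) ∧
      ∀ (E : DRing.Cx R) (a b : ℤ), DRing.VanishesOutside E a b →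
        DRing.TermwiseFiniteProjective E →
        φ.symm (clTr (perfProp R) (DRing.toD E)) =
          (Finset.Icc a b).sum (fun i => (i.negOnePow : ℤ) • clSub (FP R) (E.X i)) := by
  refine ⟨phiEquiv R, ?_, ?_⟩
  · intro M _ _ hfin hproj
    exact phi_clSub (ModuleCat.of R M) ⟨hfin, hproj⟩
  · intro E a b h1 h2
    rw [phiEquiv_symm, psi_clTr _ ⟨E, a, b, h1, h2, ⟨Iso.refl _⟩⟩,
      chiD_eq ⟨a, b, h1, h2⟩ (Iso.refl _), chiC_eq_sum E a b h1]

end Groth.Agent.Lib.K0Perf
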