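import Mathlib
import Groth.Prelude.Def_KZero
import Groth.Agent.Lib.K0Serre1_helper7

set_option backward.isDefEq.respectTransparency false
set_option linter.style.haveILetI false

/-!
# K₀ of a Serre quotient, part B (helper7)

Heller-type criterion: if `[X] = [Y]` in `K₀(A)` then there are objects `E`, `E'` which are both
extensions of the same `V` by the same `U`, with `X ⊞ E' ≅ Y ⊞ E`.
-/

universe v u

open CategoryTheory CategoryTheory.Limits KZero ZeroObject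

namespace Groth.Agent.Lib.K0Serre

section Heller

variable {A : Type u} [Category.{v} A] [Abelian A]

/-- iso classes of objects -/
abbrev IsoCl (A : Type u) [Category.{v} A] : Type u := Quotient (isIsomorphicSetoid A)

/-- class of an object -/
def IsoCl.mk (X : A) : IsoCl A := Quotient.mk _ X

/-- sum of iso classes -/
noncomputable def IsoCl.add : IsoCl A → IsoCl A → IsoCl A :=
  Quotient.map₂ (fun X Y => X ⊞ Y) (by
    rintro X X' ⟨e⟩ Y Y' ⟨e'⟩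
    exact ⟨biprod.mapIso e e'⟩)

noncomputable instance : Zero (IsoCl A) := ⟨IsoCl.mk 0⟩
noncomputable instance : Add (IsoCl A) := ⟨IsoCl.add⟩

noncomputable instance : AddCommMonoid (IsoCl A) where
  add_assoc a b c := Quotient.inductionOn₃ a b c (fun X Y Z => by
    change (Quotient.mk _ ((X ⊞ Y) ⊞ Z) : IsoCl A) = Quotient.mk _ (X ⊞ (Y ⊞ Z))
    exact Quotient.sound ⟨biprod.associator X Y Z⟩)
  zero_add a := Quotient.inductionOn a (fun X => by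
    change (Quotient.mk _ ((0 : A) ⊞ X) : IsoCl A) = Quotient.mk _ X
    exact Quotient.sound ⟨(isoZeroBiprod (isZero_zero A)).symm⟩)
  add_zero a := Quotient.inductionOn a (fun X => by
    change (Quotient.mk _ (X ⊞ (0 : A)) : IsoCl A) = Quotient.mk _ X
    exact Quotient.sound ⟨(isoBiprodZero (isZero_zero A)).symm⟩)
  add_comm a b := Quotient.inductionOn₂ a b (fun X Y => by
    change (Quotient.mk _ (X ⊞ Y) : IsoCl A) = Quotient.mk _ (Y ⊞ X)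
    exact Quotient.sound ⟨biprod.braiding X Y⟩)
  nsmul := nsmulRec

lemma IsoCl.mk_biprod (X Y : A) : IsoCl.mk (X ⊞ Y) = IsoCl.mk X + IsoCl.mk Y := rfl

/-- Grothendieck group of iso classes -/
abbrev G0 (A : Type u) [Category.{v} A] [Abelian A] : Type u :=
  Algebra.GrothendieckAddGroup (IsoCl A)

/-- class in `G0` -/
noncomputable def gcl (X : A) : G0 A := Algebra.GrothendieckAddGroup.of (IsoCl.mk X)

lemma gcl_biprod (X Y : A) : gcl (X ⊞ Y) = gcl X + gcl Y := by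
  unfold gcl
  rw [IsoCl.mk_biprod, map_add]

/-- `E`, `E'` are extensions of the same `V` by the same `U` -/
def HRel (E E' : A) : Prop :=
  ∃ (U V : A) (a : U ⟶ E) (b : E ⟶ V) (a' : U ⟶ E') (b' : E' ⟶ V) (w : a ≫ b = 0)
    (w' : a' ≫ b' = 0),
    (ShortComplex.mk a b w).ShortExact ∧ (ShortComplex.mk a' b' w').ShortExact

lemma HRel.refl (E : A) : HRel E E := by
  haveI : Epi (0 : E ⟶ (0 : A)) := (isZero_zero A).epi _
  have hS : (ShortComplex.mk (𝟙 E) (0 : E ⟶ (0 : A)) comp_zero).ShortExact :=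
    ShortComplex.ShortExact.mk' ((ShortComplex.exact_iff_epi _ rfl).2 (inferInstance : Epi (𝟙 E)))
      (inferInstance : Mono (𝟙 E)) (inferInstance : Epi (0 : E ⟶ (0 : A)))
  exact ⟨E, 0, 𝟙 E, 0, 𝟙 E, 0, comp_zero, comp_zero, hS, hS⟩

lemma HRel.symm {E E' : A} (h : HRel E E') : HRel E' E := by
  obtain ⟨U, V, a, b, a', b', w, w', h1, h2⟩ := h
  exact ⟨U, V, a', b', a, b, w', w, h2, h1⟩

lemma biprod_map_zero {U₁ E₁ V₁ U₂ E₂ V₂ : A} (a₁ : U₁ ⟶ E₁) (b₁ : E₁ ⟶ V₁) (w₁ : a₁ ≫ b₁ = 0)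
    (a₂ : U₂ ⟶ E₂) (b₂ : E₂ ⟶ V₂) (w₂ : a₂ ≫ b₂ = 0) :
    biprod.map a₁ a₂ ≫ biprod.map b₁ b₂ = 0 := by
  ext <;> simp [reassoc_of% w₁, reassoc_of% w₂]

lemma shortExact_biprod {U₁ E₁ V₁ U₂ E₂ V₂ : A} (a₁ : U₁ ⟶ E₁) (b₁ : E₁ ⟶ V₁) (w₁ : a₁ ≫ b₁ = 0)
    (a₂ : U₂ ⟶ E₂) (b₂ : E₂ ⟶ V₂) (w₂ : a₂ ≫ b₂ = 0)
    (h₁ : (ShortComplex.mk a₁ b₁ w₁).ShortExact) (h₂ : (ShortComplex.mk a₂ b₂ w₂).ShortExact) :
    (ShortComplex.mk (biprod.map a₁ a₂) (biprod.map b₁ b₂)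
      (biprod_map_zero a₁ b₁ w₁ a₂ b₂ w₂)).ShortExact := by
  haveI : Mono a₁ := h₁.mono_f
  haveI : Mono a₂ := h₂.mono_f
  haveI : Epi b₁ := h₁.epi_g
  haveI : Epi b₂ := h₂.epi_g
  haveI : Mono (ShortComplex.mk a₁ b₁ w₁).f := h₁.mono_f
  haveI : Mono (ShortComplex.mk a₂ b₂ w₂).f := h₂.mono_f
  refine ShortComplex.ShortExact.mk' ?_ (by dsimp; infer_instance) (by dsimp; infer_instance)
  rw [ShortComplex.exact_iff_exact_up_to_refinements]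
  intro T x hx
  dsimp at x hx
  have hx1 : (x ≫ biprod.fst) ≫ b₁ = 0 := by
    have := congrArg (fun t => t ≫ biprod.fst) hx
    simpa using this
  have hx2 : (x ≫ biprod.snd) ≫ b₂ = 0 := by
    have := congrArg (fun t => t ≫ biprod.snd) hx
    simpa using this
  have e₁ : h₁.exact.lift (x ≫ biprod.fst) hx1 ≫ a₁ = x ≫ biprod.fst := h₁.exact.lift_f _ _
  have e₂ : h₂.exact.lift (x ≫ biprod.snd) hx2 ≫ a₂ = x ≫ biprod.snd := h₂.exact.lift_f _ _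
  refine ⟨T, 𝟙 T, inferInstance,
    biprod.lift (h₁.exact.lift (x ≫ biprod.fst) hx1) (h₂.exact.lift (x ≫ biprod.snd) hx2), ?_⟩
  dsimp
  ext
  · simp [e₁]
  · simp [e₂]

lemma HRel.add {E₁ E₁' E₂ E₂' : A} (h₁ : HRel E₁ E₁') (h₂ : HRel E₂ E₂') :
    HRel (E₁ ⊞ E₂) (E₁' ⊞ E₂') := by
  obtain ⟨U₁, V₁, a₁, b₁, a₁', b₁', w₁, w₁', s₁, s₁'⟩ := h₁
  obtain ⟨U₂, V₂, a₂, b₂, a₂', b₂', w₂, w₂', s₂, s₂'⟩ := h₂
  exact ⟨U₁ ⊞ U₂, V₁ ⊞ V₂, biprod.map a₁ a₂, biprod.map b₁ b₂, biprod.map a₁' a₂',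
    biprod.map b₁' b₂', _, _,
    shortExact_biprod _ _ w₁ _ _ w₂ s₁ s₂, shortExact_biprod _ _ w₁' _ _ w₂' s₁' s₂'⟩

lemma HRel.of_shortExact (S : ShortComplex A) (hS : S.ShortExact) : HRel S.X₂ (S.X₁ ⊞ S.X₃) :=
  ⟨S.X₁, S.X₃, S.f, S.g, biprod.inl, biprod.snd, S.zero, biprod.inl_snd, hS, splitShortExact _ _⟩

/-- the hom from the free abelian group -/
noncomputable def gam : FreeAbelianGroup A →+ G0 A := FreeAbelianGroup.lift gcl

lemma gam_of (X : A) : gam (FreeAbelianGroup.of X) = gcl X :=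
  FreeAbelianGroup.lift_apply_of _ _

lemma phi_of_mem (z : FreeAbelianGroup A) (hz : z ∈ relAb A) :
    ∃ E E' : A, HRel E E' ∧ gam z = gcl E - gcl E' := by
  unfold relAb at hz
  induction hz using AddSubgroup.closure_induction with
  | mem x hx =>
    obtain ⟨S, hS, rfl⟩ := hx
    refine ⟨S.X₂, S.X₁ ⊞ S.X₃, HRel.of_shortExact S hS, ?_⟩
    rw [map_sub, map_sub, gam_of, gam_of, gam_of, gcl_biprod]
    abel
  | zero => exact ⟨0, 0, HRel.refl 0, by rw [map_zero, sub_self]⟩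
  | add x y _ _ hx hy =>
    obtain ⟨E₁, E₁', h₁, e₁⟩ := hx
    obtain ⟨E₂, E₂', h₂, e₂⟩ := hy
    exact ⟨E₁ ⊞ E₂, E₁' ⊞ E₂', h₁.add h₂, by
      rw [map_add, e₁, e₂, gcl_biprod, gcl_biprod]; abel⟩
  | neg x _ hx =>
    obtain ⟨E, E', h, e⟩ := hx
    exact ⟨E', E, h.symm, by rw [map_neg, e]; abel⟩

theorem exists_data_of_cl_eq (X Y : A) (h : cl X = cl Y) :
    ∃ (E E' : A), HRel E E' ∧ Nonempty (X ⊞ E' ≅ Y ⊞ E) := by
  have hmem : FreeAbelianGroup.of X - FreeAbelianGroup.of Y ∈ relAb A :=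
    (QuotientAddGroup.eq_iff_sub_mem).1 h
  obtain ⟨E, E', hE, e⟩ := phi_of_mem _ hmem
  rw [map_sub, gam_of, gam_of] at e
  have e2 : gcl (X ⊞ E') = gcl (Y ⊞ E) := by
    rw [gcl_biprod, gcl_biprod, sub_eq_sub_iff_add_eq_add.1 e, add_comm]
  obtain ⟨c, hc⟩ := (AddSubmonoid.LocalizationMap.eq_iff_exists
    (AddLocalization.addMonoidOf (⊤ : AddSubmonoid (IsoCl A)))).1 e2
  obtain ⟨Z, hZ⟩ : ∃ Z : A, IsoCl.mk Z = (c : IsoCl A) := Quotient.exists_rep _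
  rw [← hZ] at hc
  have key : IsoCl.mk (X ⊞ (Z ⊞ E')) = IsoCl.mk (Y ⊞ (Z ⊞ E)) := by
    calc IsoCl.mk (X ⊞ (Z ⊞ E')) = IsoCl.mk X + (IsoCl.mk Z + IsoCl.mk E') := rfl
      _ = IsoCl.mk Z + (IsoCl.mk X + IsoCl.mk E') := add_left_comm _ _ _
      _ = IsoCl.mk Z + (IsoCl.mk Y + IsoCl.mk E) := hc
      _ = IsoCl.mk Y + (IsoCl.mk Z + IsoCl.mk E) := add_left_comm _ _ _
      _ = IsoCl.mk (Y ⊞ (Z ⊞ E)) := rfl
  exact ⟨Z ⊞ E, Z ⊞ E', (HRel.refl Z).add hE, Quotient.exact key⟩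

end Heller

end Groth.Agent.Lib.K0Serre
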