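import Mathlib
import Groth.Prelude.Def_KZero
import Groth.Agent.Lib.K0Serre2_helper7

set_option backward.isDefEq.respectTransparency false
set_option linter.style.haveILetI false

/-!
# K₀ of a Serre quotient, part C (helper7)

The 2-periodic complex attached to a pair of extensions, and the final statement.
-/

universe v u v' u'

open CategoryTheory CategoryTheory.Limits KZero ZeroObject

namespace Groth.Agent.Lib.K0Serre

open Groth.Agent.Lib.KZeroH4 Groth.Agent.Lib.K0DerH4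

section Periodic

variable {A : Type u} [Category.{v} A] [Abelian A]

/-- ternary biproduct structure -/
structure Tri (U N V M : A) where
  iU : U ⟶ M
  iN : N ⟶ M
  iV : V ⟶ M
  pU : M ⟶ U
  pN : M ⟶ N
  pV : M ⟶ V
  iU_pU : iU ≫ pU = 𝟙 _
  iU_pN : iU ≫ pN = 0
  iU_pV : iU ≫ pV = 0
  iN_pU : iN ≫ pU = 0
  iN_pN : iN ≫ pN = 𝟙 _
  iN_pV : iN ≫ pV = 0
  iV_pU : iV ≫ pU = 0
  iV_pN : iV ≫ pN = 0
  iV_pV : iV ≫ pV = 𝟙 _
  total : pU ≫ iU + pN ≫ iN + pV ≫ iV = 𝟙 _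

attribute [reassoc (attr := simp)] Tri.iU_pU Tri.iU_pN Tri.iU_pV Tri.iN_pU Tri.iN_pN Tri.iN_pV
  Tri.iV_pU Tri.iV_pN Tri.iV_pV

/-- the standard one -/
noncomputable def Tri.ofBiprod (U N V : A) : Tri U N V (U ⊞ (N ⊞ V)) where
  iU := biprod.inl
  iN := biprod.inl ≫ biprod.inr
  iV := biprod.inr ≫ biprod.inr
  pU := biprod.fst
  pN := biprod.snd ≫ biprod.fst
  pV := biprod.snd ≫ biprod.snd
  iU_pU := by simp
  iU_pN := by simp
  iU_pV := by simp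
  iN_pU := by simp
  iN_pN := by simp
  iN_pV := by simp
  iV_pU := by simp
  iV_pN := by simp
  iV_pV := by simp
  total := by
    have h1 : (biprod.snd : U ⊞ (N ⊞ V) ⟶ N ⊞ V) ≫
        (biprod.fst ≫ biprod.inl + biprod.snd ≫ biprod.inr) ≫
          (biprod.inr : N ⊞ V ⟶ U ⊞ (N ⊞ V)) = biprod.snd ≫ biprod.inr := by
      rw [biprod.total, Category.id_comp]
    rw [← biprod.total (X := U) (Y := N ⊞ V), ← h1]
    simp only [Preadditive.comp_add, Preadditive.add_comp, Category.assoc, add_assoc]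

lemma Tri.hom_ext {U N V M : A} (t : Tri U N V M) {W : A} (f g : W ⟶ M)
    (hU : f ≫ t.pU = g ≫ t.pU) (hN : f ≫ t.pN = g ≫ t.pN) (hV : f ≫ t.pV = g ≫ t.pV) :
    f = g := by
  have hf : f = (f ≫ t.pU) ≫ t.iU + (f ≫ t.pN) ≫ t.iN + (f ≫ t.pV) ≫ t.iV := by
    simp only [Category.assoc, ← Preadditive.comp_add, t.total, Category.comp_id]
  have hg : g = (g ≫ t.pU) ≫ t.iU + (g ≫ t.pN) ≫ t.iN + (g ≫ t.pV) ≫ t.iV := by
    simp only [Category.assoc, ← Preadditive.comp_add, t.total, Category.comp_id]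
  rw [hf, hg, hU, hN, hV]

/-- binary biproduct structure -/
structure Bi (X E N : A) where
  iX : X ⟶ N
  iE : E ⟶ N
  pX : N ⟶ X
  pE : N ⟶ E
  iX_pX : iX ≫ pX = 𝟙 _
  iX_pE : iX ≫ pE = 0
  iE_pX : iE ≫ pX = 0
  iE_pE : iE ≫ pE = 𝟙 _
  total : pX ≫ iX + pE ≫ iE = 𝟙 _

attribute [reassoc (attr := simp)] Bi.iX_pX Bi.iX_pE Bi.iE_pX Bi.iE_pE

/-- from an isomorphism with a biproduct -/
noncomputable def Bi.ofIso {X E N : A} (θ : N ≅ X ⊞ E) : Bi X E N where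
  iX := biprod.inl ≫ θ.inv
  iE := biprod.inr ≫ θ.inv
  pX := θ.hom ≫ biprod.fst
  pE := θ.hom ≫ biprod.snd
  iX_pX := by simp
  iX_pE := by simp
  iE_pX := by simp
  iE_pE := by simp
  total := by
    have : θ.hom ≫ (biprod.fst ≫ biprod.inl + biprod.snd ≫ biprod.inr) ≫ θ.inv = 𝟙 _ := by
      rw [biprod.total]; simp
    simpa only [Preadditive.comp_add, Preadditive.add_comp, Category.assoc] using this

lemma Bi.mono_iE {X E N : A} (β : Bi X E N) : Mono β.iE :=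
  mono_of_mono_fac β.iE_pE

lemma Bi.epi_pE {X E N : A} (β : Bi X E N) : Epi β.pE :=
  epi_of_epi_fac β.iE_pE

theorem homology_iso {U N V M X E : A} (t : Tri U N V M) (β : Bi X E N)
    (a : U ⟶ E) (b : E ⟶ V) (w : a ≫ b = 0) (hS : (ShortComplex.mk a b w).ShortExact)
    (α α' : U ⟶ N) (γ γ' : N ⟶ V) (hα : α = a ≫ β.iE) (hγ : γ = β.pE ≫ b)
    [Mono α'] [Epi γ']
    (φ ψ : M ⟶ M) (hφ : φ = t.pU ≫ α ≫ t.iN + t.pN ≫ γ' ≫ t.iV)
    (hψ : ψ = t.pU ≫ α' ≫ t.iN + t.pN ≫ γ ≫ t.iV) (h : φ ≫ ψ = 0) :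
    Nonempty ((ShortComplex.mk φ ψ h).homology ≅ X) := by
  subst hα hγ
  have ψ_pU : ψ ≫ t.pU = 0 := by rw [hψ]; simp
  have ψ_pN : ψ ≫ t.pN = t.pU ≫ α' := by rw [hψ]; simp
  have ψ_pV : ψ ≫ t.pV = t.pN ≫ β.pE ≫ b := by rw [hψ]; simp
  have φ_pU : φ ≫ t.pU = 0 := by rw [hφ]; simp
  have φ_pN : φ ≫ t.pN = t.pU ≫ a ≫ β.iE := by rw [hφ]; simp
  have φ_pV : φ ≫ t.pV = t.pN ≫ γ' := by rw [hφ]; simp
  have comm : (β.iX ≫ t.iN) ≫ ψ = 0 := by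
    apply t.hom_ext
    · rw [Category.assoc, ψ_pU, comp_zero, zero_comp]
    · rw [Category.assoc, ψ_pN, zero_comp]; simp
    · rw [Category.assoc, ψ_pV, zero_comp]; simp
  let τ : ShortComplex.mk (0 : X ⟶ X) (0 : X ⟶ X) zero_comp ⟶ ShortComplex.mk φ ψ h :=
    ShortComplex.homMk 0 (β.iX ≫ t.iN) 0 (by simp) (by simpa using comm)
  have hτ₂ : τ.τ₂ = β.iX ≫ t.iN := rfl
  have hmono : Mono (ShortComplex.homologyMap τ) := by
    rw [ShortComplex.mono_homologyMap_iff_up_to_refinements]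
    intro W x₂ _ y₁ hy
    have hy' : x₂ ≫ β.iX ≫ t.iN = y₁ ≫ φ := hy
    have h1 : (x₂ ≫ β.iX ≫ t.iN) ≫ t.pN ≫ β.pX = (y₁ ≫ φ) ≫ t.pN ≫ β.pX := by rw [hy']
    have hx : x₂ = 0 := by
      simpa [reassoc_of% φ_pN] using h1
    refine ⟨W, 𝟙 W, inferInstance, 0, ?_⟩
    rw [hx]
    simp
  have hepi : Epi (ShortComplex.homologyMap τ) := by
    rw [ShortComplex.epi_homologyMap_iff_up_to_refinements]
    intro W y₂ hy₂
    have hy : y₂ ≫ ψ = 0 := hy₂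
    have hU : y₂ ≫ t.pU = 0 := by
      have h1 : (y₂ ≫ t.pU) ≫ α' = 0 := by
        rw [Category.assoc, ← ψ_pN, ← Category.assoc, hy, zero_comp]
      exact zero_of_comp_mono α' h1
    have hN : (y₂ ≫ t.pN ≫ β.pE) ≫ b = 0 := by
      simp only [Category.assoc]
      rw [← ψ_pV, ← Category.assoc, hy, zero_comp]
    haveI : Mono (ShortComplex.mk a b w).f := hS.mono_f
    obtain ⟨l, hl⟩ : ∃ l : W ⟶ U, l ≫ a = y₂ ≫ t.pN ≫ β.pE :=
      ⟨hS.exact.lift _ hN, hS.exact.lift_f _ _⟩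
    obtain ⟨W', π, hπ, n, hn⟩ := surjective_up_to_refinements_of_epi γ' (y₂ ≫ t.pV)
    have hdec : y₂ ≫ t.pN = (y₂ ≫ t.pN ≫ β.pX) ≫ β.iX + (l ≫ a) ≫ β.iE := by
      rw [hl]
      simp only [Category.assoc, ← Preadditive.comp_add, β.total, Category.comp_id]
    refine ⟨W', π, hπ, π ≫ y₂ ≫ t.pN ≫ β.pX, comp_zero, (π ≫ l) ≫ t.iU + n ≫ t.iN, ?_⟩
    change π ≫ y₂ = (π ≫ y₂ ≫ t.pN ≫ β.pX) ≫ (β.iX ≫ t.iN) +
      ((π ≫ l) ≫ t.iU + n ≫ t.iN) ≫ φ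
    apply t.hom_ext
    · simp only [Category.assoc, Preadditive.add_comp, φ_pU, hU, comp_zero, Tri.iN_pU, add_zero]
    · simp only [Category.assoc, Preadditive.add_comp, φ_pN, Tri.iN_pN, Category.comp_id,
        Tri.iU_pU_assoc, Tri.iN_pU_assoc, zero_comp, comp_zero, add_zero]
      rw [hdec]
      simp only [Category.assoc, Preadditive.comp_add]
    · simp only [Category.assoc, Preadditive.add_comp, φ_pV, Tri.iN_pV, comp_zero, zero_add,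
        Tri.iU_pN_assoc, Tri.iN_pN_assoc, zero_comp]
      exact hn
  haveI := hmono
  haveI := hepi
  haveI : IsIso (ShortComplex.homologyMap τ) := isIso_of_mono_of_epi _
  exact ⟨(asIso (ShortComplex.homologyMap τ)).symm ≪≫
    (ShortComplex.LeftHomologyData.ofZeros
      (ShortComplex.mk (0 : X ⟶ X) (0 : X ⟶ X) zero_comp) rfl rfl).homologyIso⟩

lemma cl_homology (S : ShortComplex A) :
    cl S.homology = cl (kernel S.g) - cl S.X₁ + cl (kernel S.f) := by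
  have h1 : cl S.cycles = cl (kernel S.homologyπ) + cl S.homology :=
    cl_ses _ (shortExact_kernel_of_epi S.homologyπ)
  have h2 : cl S.X₁ = cl (kernel S.toCycles) + cl (kernel S.homologyπ) :=
    cl_exact (ShortComplex.mk S.toCycles S.homologyπ S.toCycles_comp_homologyπ)
      (ShortComplex.exact_of_g_is_cokernel _ S.homologyIsCokernel)
  have h3 : cl (kernel S.toCycles) = cl (kernel S.f) :=
    cl_iso ((kernelCompMono S.toCycles S.iCycles).symm ≪≫ kernelIsoOfEq S.toCycles_i)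
  have h4 : cl S.cycles = cl (kernel S.g) := cl_iso S.cyclesIsoKernel
  rw [← h4, h1, h2, h3]
  abel

theorem periodic_of_data (P : ObjectProperty A) [P.IsSerreClass] {X Y E E' U V : A}
    (hX : P X) (hY : P Y)
    (a : U ⟶ E) (b : E ⟶ V) (w : a ≫ b = 0) (hS : (ShortComplex.mk a b w).ShortExact)
    (a' : U ⟶ E') (b' : E' ⟶ V) (w' : a' ≫ b' = 0) (hS' : (ShortComplex.mk a' b' w').ShortExact)
    (θ : X ⊞ E' ≅ Y ⊞ E) :
    ∃ (M : A) (φ ψ : M ⟶ M) (h₁ : φ ≫ ψ = 0) (h₂ : ψ ≫ φ = 0),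
      P (ShortComplex.mk φ ψ h₁).homology ∧ P (ShortComplex.mk ψ φ h₂).homology ∧
      clSub P X - clSub P Y = clSub P (ShortComplex.mk φ ψ h₁).homology -
        clSub P (ShortComplex.mk ψ φ h₂).homology := by
  obtain ⟨t, -⟩ : ∃ t : Tri U (X ⊞ E') V (U ⊞ ((X ⊞ E') ⊞ V)), True := ⟨Tri.ofBiprod _ _ _, trivial⟩
  obtain ⟨β', -⟩ : ∃ β' : Bi X E' (X ⊞ E'), True := ⟨Bi.ofIso (Iso.refl _), trivial⟩
  obtain ⟨β, -⟩ : ∃ β : Bi Y E (X ⊞ E'), True := ⟨Bi.ofIso θ, trivial⟩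
  haveI : Mono a := hS.mono_f
  haveI : Epi b := hS.epi_g
  haveI : Mono a' := hS'.mono_f
  haveI : Epi b' := hS'.epi_g
  haveI := β.mono_iE
  haveI := β.epi_pE
  haveI := β'.mono_iE
  haveI := β'.epi_pE
  obtain ⟨α, hα⟩ : ∃ α, α = a' ≫ β'.iE := ⟨_, rfl⟩
  obtain ⟨γ, hγ⟩ : ∃ γ, γ = β'.pE ≫ b' := ⟨_, rfl⟩
  obtain ⟨α', hα'⟩ : ∃ α', α' = a ≫ β.iE := ⟨_, rfl⟩
  obtain ⟨γ', hγ'⟩ : ∃ γ', γ' = β.pE ≫ b := ⟨_, rfl⟩
  haveI : Mono α := by rw [hα]; infer_instance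
  haveI : Mono α' := by rw [hα']; infer_instance
  haveI : Epi γ := by rw [hγ]; infer_instance
  haveI : Epi γ' := by rw [hγ']; infer_instance
  have hαγ : α ≫ γ = 0 := by rw [hα, hγ]; simp [w']
  have hαγ' : α' ≫ γ' = 0 := by rw [hα', hγ']; simp [w]
  obtain ⟨φ, hφ⟩ : ∃ φ, φ = t.pU ≫ α ≫ t.iN + t.pN ≫ γ' ≫ t.iV := ⟨_, rfl⟩
  obtain ⟨ψ, hψ⟩ : ∃ ψ, ψ = t.pU ≫ α' ≫ t.iN + t.pN ≫ γ ≫ t.iV := ⟨_, rfl⟩
  have h₁ : φ ≫ ψ = 0 := by
    rw [hφ, hψ]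
    simp [reassoc_of% hαγ]
  have h₂ : ψ ≫ φ = 0 := by
    rw [hφ, hψ]
    simp [reassoc_of% hαγ']
  obtain ⟨e₀⟩ := homology_iso t β' a' b' w' hS' α α' γ γ' hα hγ φ ψ hφ hψ h₁
  obtain ⟨e₁⟩ := homology_iso t β a b w hS α' α γ' γ hα' hγ' ψ φ hψ hφ h₂
  have hP₀ : P (ShortComplex.mk φ ψ h₁).homology := P.prop_of_iso e₀.symm hX
  have hP₁ : P (ShortComplex.mk ψ φ h₂).homology := P.prop_of_iso e₁.symm hY
  refine ⟨_, φ, ψ, h₁, h₂, hP₀, hP₁, ?_⟩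
  rw [clSub_iso' P e₀ hP₀, clSub_iso' P e₁ hP₁]

end Periodic

section Main

variable {A : Type u} [Category.{v} A] [Abelian A] (P : ObjectProperty A) [P.IsSerreClass]
  {Q : Type u'} [Category.{v'} Q] [Abelian Q]
  (L : A ⥤ Q) [L.IsLocalization P.isoModSerre] [L.Additive] [PreservesFiniteLimits L]
  [PreservesFiniteColimits L]

theorem main :
    ∃ (ι : K0sub P →+ K0 A) (lam : K0 A →+ K0 Q),
      (∀ X : A, P X → ι (clSub P X) = cl X) ∧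
      (∀ X : A, lam (cl X) = cl (L.obj X)) ∧
      Function.Surjective lam ∧ lam.ker = ι.range ∧
      ∀ x : K0sub P, ι x = 0 ↔
        ∃ (M : A) (φ ψ : M ⟶ M) (h₁ : φ ≫ ψ = 0) (h₂ : ψ ≫ φ = 0),
          P (ShortComplex.mk φ ψ h₁).homology ∧ P (ShortComplex.mk ψ φ h₂).homology ∧
          x = clSub P (ShortComplex.mk φ ψ h₁).homology -
            clSub P (ShortComplex.mk ψ φ h₂).homology := by
  refine ⟨iota P, lam L, iota_clSub P, lam_cl L, lam_surjective P L, ker_lam P L,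
    fun x => ⟨?_, ?_⟩⟩
  · intro hx
    obtain ⟨X, Y, hX, hY, rfl⟩ := exists_clSub_sub P x
    rw [map_sub, iota_clSub P X hX, iota_clSub P Y hY, sub_eq_zero] at hx
    obtain ⟨E, E', ⟨U, V, a, b, a', b', w, w', hS, hS'⟩, ⟨θ⟩⟩ := exists_data_of_cl_eq X Y hx
    exact periodic_of_data P hX hY a b w hS a' b' w' hS' θ
  · rintro ⟨M, φ, ψ, h₁, h₂, hP₁, hP₂, rfl⟩
    rw [map_sub, iota_clSub P _ hP₁, iota_clSub P _ hP₂, cl_homology, cl_homology]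
    dsimp
    abel

end Main

end Groth.Agent.Lib.K0Serre
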