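import Mathlib
import Groth.Prelude
import Groth.Agent.Lib.KRRRes2_helper9

/-!
# Finite locally free resolutions and K₀ (helper9)

* `exists_tower_of_Q`, `hasLFRes_of_Q` : with enough locally frees, a coherent module whose sections
  have projective dimension `≤ d` has a resolution of length `≤ d` by bundles;
* `Q_of_isLFRes` : conversely;
* `cycles_vb` : the `(d+1)`-st cycles of any resolution by bundles are a bundle;
* `exists_cover_pullback`;
* `main3745`.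
APPEND-ONLY once landed.
-/

set_option autoImplicit false
set_option linter.style.haveILetI false
set_option linter.unusedSectionVars false

universe u

open CategoryTheory CategoryTheory.Limits AlgebraicGeometry TopologicalSpace Opposite ZeroObject

namespace Groth.Agent.KRRRes

open Groth.Agent.Lib.ResolK0H4

variable {X : Scheme.{u}}

lemma hasLFRes_of_iso {A B : X.Modules} (e : A ≅ B) (h : KRR.HasLFRes A) : KRR.HasLFRes B := by
  obtain ⟨n, L, π, h⟩ := h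
  haveI := h.quasiIso
  exact ⟨n, L, π ≫ (ChainComplex.single₀ X.Modules).map e.hom,
    ⟨h.finLocFree, h.isZero, inferInstance⟩⟩

lemma ses_kernel {A B : X.Modules} (p : A ⟶ B) [Epi p] :
    (ShortComplex.mk (kernel.ι p) p (kernel.condition p)).ShortExact :=
  ShortComplex.ShortExact.mk' (ShortComplex.exact_kernel p)
    (inferInstance : Mono (kernel.ι p)) (inferInstance : Epi p)

section

variable [IsLocallyNoetherian X]

/-- a tower of finite length resolving a module of `Q d` -/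
lemma exists_tower_of_Q (hX : KRR.HasEnoughLocFree X) : ∀ (d : ℕ) (A : X.Modules), Q d A →
    ∃ T : Tower (KRR.vbP X), Nonempty (T.K 0 ≅ A) ∧ ∀ i, d < i → IsZero (T.L i)
  | 0, A, hA => by
    refine ⟨singleTower (KRR.vbP X) A (vb_of_Q_zero hA)
      (Groth.Agent.Lib.AmpleK.isFinLocFree_of_isZero (isZero_zero _)), ⟨Iso.refl _⟩, fun i hi => ?_⟩
    cases i with
    | zero => omega
    | succ i => exact isZero_zero _
  | d + 1, A, hA => by
    obtain ⟨E, p, hE, hp⟩ := hX A hA.1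
    haveI := hp
    have hK : Q d (kernel p) := by
      have := Q_X₁ _ (ses_kernel p) (d + 1) hE hA
      simpa using this
    obtain ⟨T', ⟨e'⟩, hT'⟩ := exists_tower_of_Q hX d (kernel p) hK
    refine ⟨prepend p hE T' e', ⟨Iso.refl _⟩, fun i hi => ?_⟩
    cases i with
    | zero => omega
    | succ i => exact hT' i (by omega)

lemma hasLFRes_of_Q (hX : KRR.HasEnoughLocFree X) {d : ℕ} {A : X.Modules} (h : Q d A) :
    KRR.HasLFRes A := by
  obtain ⟨T, ⟨e⟩, hz⟩ := exists_tower_of_Q hX d A h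
  exact hasLFRes_of_iso e ⟨d, T.cx, Tower'.π T, ⟨T.hL, fun i hi => hz i hi, Tower'.quasiIso_π T⟩⟩

lemma Q_of_isLFRes {A : X.Modules} (hA : Coh.IsCoh A) {n : ℕ} {L : ChainComplex X.Modules ℕ}
    {π : L ⟶ (ChainComplex.single₀ X.Modules).obj A} (h : KRR.IsLFRes A n L π) : Q (n + 1) A := by
  haveI := h.quasiIso
  obtain ⟨hε, h0, hepi, hex⟩ := of_quasiIso L A π
  let E := LES.ofComplex L (π.f 0) hε h0 hepi hex
  let T := E.tower (KRR.vbP X) (fun i => h.finLocFree i)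
  exact tower_up T n (fun i hi => h.isZero i hi) hA

lemma exists_Q_of_hasLFRes {A : X.Modules} (hA : Coh.IsCoh A) (h : KRR.HasLFRes A) :
    ∃ d, Q d A := by
  obtain ⟨n, L, π, h⟩ := h
  exact ⟨n + 1, Q_of_isLFRes hA h⟩

/-- the `(d+1)`-st cycles of a resolution by bundles of a module in `Q d` form a bundle -/
lemma cycles_vb (L : ChainComplex X.Modules ℕ) (hL : ∀ i, FlatMod.IsFinLocFree (L.X i))
    (hex : ∀ i, 1 ≤ i → L.ExactAt i) (A : X.Modules) (e : L.homology 0 ≅ A) (d : ℕ)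
    (hA : Q d A) : FlatMod.IsFinLocFree (L.cycles (d + 1)) := by
  let ε : L.X 0 ⟶ A := L.pOpcycles 0 ≫ L.isoHomologyι₀.inv ≫ e.hom
  have hε : L.d 1 0 ≫ ε = 0 := by
    show L.d 1 0 ≫ L.pOpcycles 0 ≫ L.isoHomologyι₀.inv ≫ e.hom = 0
    rw [L.d_pOpcycles_assoc, zero_comp]
  have h1 : (ShortComplex.mk (L.d 1 0) (L.pOpcycles 0) (L.d_pOpcycles 1 0)).Exact :=
    ShortComplex.exact_of_g_is_cokernel _ (L.opcyclesIsCokernel 1 0 (by simp))
  have h0 : (ShortComplex.mk (L.d 1 0) ε hε).Exact := by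
    let φ : ShortComplex.mk (L.d 1 0) (L.pOpcycles 0) (L.d_pOpcycles 1 0) ⟶
        ShortComplex.mk (L.d 1 0) ε hε :=
      { τ₁ := 𝟙 _, τ₂ := 𝟙 _, τ₃ := L.isoHomologyι₀.inv ≫ e.hom
        comm₁₂ := by
          show 𝟙 _ ≫ L.d 1 0 = L.d 1 0 ≫ 𝟙 _
          rw [Category.id_comp, Category.comp_id]
        comm₂₃ := by
          show 𝟙 _ ≫ ε = L.pOpcycles 0 ≫ L.isoHomologyι₀.inv ≫ e.hom
          rw [Category.id_comp] }
    haveI : Epi φ.τ₁ := (inferInstance : Epi (𝟙 (L.X 1)))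
    haveI : IsIso φ.τ₂ := (inferInstance : IsIso (𝟙 (L.X 0)))
    haveI : Mono φ.τ₃ := (inferInstance : Mono (L.isoHomologyι₀.inv ≫ e.hom))
    exact (ShortComplex.exact_iff_of_epi_of_isIso_of_mono φ).1 h1
  have hepi : Epi ε := by
    show Epi (L.pOpcycles 0 ≫ L.isoHomologyι₀.inv ≫ e.hom)
    infer_instance
  let E := LES.ofComplex L ε hε h0 hepi (fun i => hex (i + 1) (by omega))
  let T := E.tower (KRR.vbP X) hL
  have h2 : Q (d - (d + 2)) (T.K (d + 2)) := tower_down T d hA (d + 2)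
  have e0 : d - (d + 2) = 0 := by omega
  rw [e0] at h2
  have h3 : Q 0 (kernel (L.d (d + 1) d)) := h2
  exact FLFH8.IsFinLocFree.of_iso (cyclesIsoKernel L d).symm (vb_of_Q_zero h3)

lemma isCoh_biprod {A D : X.Modules} (hA : Coh.IsCoh A) (hD : Coh.IsCoh D) :
    Coh.IsCoh (A ⊞ D) :=
  Groth.Agent.Lib.CohSerreH3.isCoh_of_shortExact _
    (ShortComplex.Splitting.ofHasBinaryBiproduct A D).shortExact hA hD

lemma isCoh_pullback {A B D : X.Modules} (u : A ⟶ B) (v : D ⟶ B) (hA : Coh.IsCoh A)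
    (hB : Coh.IsCoh B) (hD : Coh.IsCoh D) : Coh.IsCoh (pullback u v) := by
  let e : pullback u v ≅ kernel (biprod.desc u (-v)) :=
    IsLimit.conePointUniqueUpToIso
      (Abelian.PullbackToBiproductIsKernel.isLimitPullbackToBiproduct u v) (limit.isLimit _)
  exact isCoh_of_iso e.symm (CohKerH8.isCoh_kernel (isCoh_biprod hA hD) hB _)

lemma exists_cover_pullback (hX : KRR.HasEnoughLocFree X) (A B D : X.Modules) (u : A ⟶ B)
    (v : D ⟶ B) (hu : Epi u) (hA : Coh.IsCoh A) (hB : Coh.IsCoh B) (hD : Coh.IsCoh D) :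
    ∃ (L : X.Modules) (u' : L ⟶ D) (v' : L ⟶ A), FlatMod.IsFinLocFree L ∧ Epi u' ∧
      u' ≫ v = v' ≫ u := by
  haveI := hu
  obtain ⟨E, p, hE, hp⟩ := hX (pullback u v) (isCoh_pullback u v hA hB hD)
  haveI := hp
  haveI : Epi (pullback.snd u v) := Abelian.epi_pullback_of_epi_f u v
  refine ⟨E, p ≫ pullback.snd u v, p ≫ pullback.fst u v, hE, epi_comp _ _, ?_⟩
  rw [Category.assoc, Category.assoc, pullback.condition]

end

/-- S3745 -/
theorem main3745 (X : Scheme.{u}) [IsNoetherian X] (hX : KRR.HasEnoughLocFree X)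
    (h : ∀ M : X.Modules, FlatMod.IsFinLocFree M → Coh.IsCoh M ∧ KRR.HasLFRes M) :
    Function.Bijective (SGA6.mapSub (𝟭 X.Modules) (KRR.vbP X)
      (fun M : X.Modules => Coh.IsCoh M ∧ KRR.HasLFRes M) h) := by
  haveI : (KRR.vbP X).IsClosedUnderIsomorphisms :=
    ⟨fun e h => FLFH8.IsFinLocFree.of_iso e h⟩
  haveI : ObjectProperty.IsClosedUnderIsomorphisms
      (fun M : X.Modules => Coh.IsCoh M ∧ KRR.HasLFRes M) :=
    ⟨fun e h => ⟨isCoh_of_iso e h.1, hasLFRes_of_iso e h.2⟩⟩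
  refine Groth.Agent.Lib.ResolK0H4.main (KRR.vbP X)
    (fun M : X.Modules => Coh.IsCoh M ∧ KRR.HasLFRes M) h ?_ ?_ ?_ ?_ ?_ ?_
  · intro S hS h₁ h₃
    exact vb_X₂ S hS h₁ h₃
  · intro S hS h₁ h₃
    obtain ⟨d₁, q₁⟩ := exists_Q_of_hasLFRes h₁.1 h₁.2
    obtain ⟨d₃, q₃⟩ := exists_Q_of_hasLFRes h₃.1 h₃.2
    have c₂ := Groth.Agent.Lib.CohSerreH3.isCoh_of_shortExact S hS h₁.1 h₃.1
    haveI := c₂.1
    haveI := h₃.1.1
    refine ⟨c₂, hasLFRes_of_Q hX (d := max d₁ d₃) ⟨c₂, ?_⟩⟩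
    exact secPd_X₂ S hS _ (q₁.2.mono (le_max_left _ _)) (q₃.2.mono (le_max_right _ _))
  · intro S hS h₂ h₃
    exact Groth.Agent.Lib.AmpleK.isFinLocFree_of_shortExact S hS h₂ h₃
  · intro S hS h₂ h₃
    obtain ⟨d₂, q₂⟩ := exists_Q_of_hasLFRes h₂.1 h₂.2
    obtain ⟨d₃, q₃⟩ := exists_Q_of_hasLFRes h₃.1 h₃.2
    have q₁ : Q (max d₂ d₃) S.X₁ :=
      Q_X₁' S hS _ (q₂.mono (le_max_left _ _)) (q₃.mono (le_max_right _ _))
    exact ⟨q₁.1, hasLFRes_of_Q hX q₁⟩
  · intro A B D u v hu hA hB hD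
    exact exists_cover_pullback hX A B D u v hu hA.1 hB.1 hD.1
  · intro A hA
    obtain ⟨d, q⟩ := exists_Q_of_hasLFRes hA.1 hA.2
    refine ⟨d, fun L hL hex e => ?_⟩
    obtain ⟨e⟩ := e
    exact cycles_vb L hL hex A e d q

end Groth.Agent.KRRRes
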