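import Mathlib
import Groth.Prelude
import Groth.Agent.Lib.KRRRes3_helper9
import Groth.Agent.Lib.PDOpenSch_helper8
import Groth.Agent.Lib.GlDim_helper5

/-!
# Regular Noetherian schemes: coherent modules have bounded projective dimension (helper9)

* `secPd_of_stalk` : a bound on the projective dimension of all stalks of a coherent module bounds
  the projective dimension of its sections over every affine open;
* `exists_Q_of_regular` : on a Noetherian scheme with regular local rings, every coherent module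
  has sections of bounded projective dimension;
* `main3746`.
APPEND-ONLY once landed.
-/

set_option autoImplicit false
set_option linter.style.haveILetI false
set_option linter.unusedSectionVars false

universe u

open CategoryTheory CategoryTheory.Limits AlgebraicGeometry TopologicalSpace Opposite ZeroObject

namespace Groth.Agent.KRRRes

open Groth.Agent.Lib.ResolK0H4

variable {X : Scheme.{u}}

lemma secPd_of_stalk [IsLocallyNoetherian X] (F : X.Modules) (hF : Coh.IsCoh F) (k : ℕ)
    (h : ∀ x : X, projectiveDimension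
      (ModuleCat.of (X.presheaf.stalk x) (F.presheaf.stalk x)) ≤ (k : WithBot ℕ∞)) :
    SecPd k F := by
  intro U
  haveI : F.IsQuasicoherent := hF.1
  haveI : SheafOfModules.IsFiniteType (R := X.ringCatSheaf) F := hF.2
  haveI : IsNoetherianRing Γ(X, U.1) := IsLocallyNoetherian.component_noetherian U
  haveI : Module.Finite Γ(X, U.1) Γ(F, U.1) := QCohFT.finite_of_isFiniteType F U.2
  haveI : Module.Finite Γ(X, U.1) (ModuleCat.of Γ(X, U.1) Γ(F, U.1)) :=
    QCohFT.finite_of_isFiniteType F U.2
  show HasProjectiveDimensionLE (ModuleCat.of Γ(X, U.1) Γ(F, U.1)) k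
  rw [ModuleCat.hasProjectiveDimensionLE_iff_forall_primeSpectrum]
  intro q
  have hxV : U.2.fromSpec q ∈ U.1 := by
    rw [← SetLike.mem_coe, ← U.2.range_fromSpec]
    exact Set.mem_range_self q
  have hq : U.2.primeIdealOf ⟨U.2.fromSpec q, hxV⟩ = q := by
    apply U.2.fromSpec.isOpenEmbedding.injective
    exact U.2.fromSpec_primeIdealOf ⟨_, hxV⟩
  have h1 := h (U.2.fromSpec q)
  rw [PDStalkH8.pd_stalk_eq F U.2 hxV, hq, projectiveDimension_le_iff] at h1
  haveI := h1
  exact hasProjectiveDimensionLT_of_iso (Shrink.linearEquiv _ _).symm.toModuleIso (k + 1)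

lemma exists_Q_of_regular [IsNoetherian X]
    (hreg : ∀ x : X, IsRegularLocalRing (X.presheaf.stalk x)) (A : X.Modules)
    (hA : Coh.IsCoh A) : ∃ d, Q d A := by
  haveI : A.IsQuasicoherent := hA.1
  haveI : SheafOfModules.IsFiniteType (R := X.ringCatSheaf) A := hA.2
  let V : ℕ → Set X := fun k => {x | projectiveDimension
    (ModuleCat.of (X.presheaf.stalk x) (A.presheaf.stalk x)) ≤ (k : WithBot ℕ∞)}
  have hVo : ∀ k, IsOpen (V k) := fun k => PDStalkH8.isOpen_pd_le A k
  have hcov : (Set.univ : Set X) ⊆ ⋃ k, V k := by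
    intro x _
    haveI := hreg x
    obtain ⟨d, hd⟩ := Groth.Agent.GlDim.exists_dim (X.presheaf.stalk x)
    have := Groth.Agent.GlDim.hasProjectiveDimensionLT_of_regular (X.presheaf.stalk x) d hd
      (A.presheaf.stalk x)
    exact Set.mem_iUnion.2 ⟨d, (projectiveDimension_le_iff _ d).2 this⟩
  have hmono : Monotone V := by
    intro k k' hkk' x hx
    have h1 : ((k : ℕ) : WithBot ℕ∞) ≤ ((k' : ℕ) : WithBot ℕ∞) := by exact_mod_cast hkk'
    exact le_trans hx h1
  obtain ⟨k, hk⟩ := isCompact_univ.elim_directed_cover V hVo hcov hmono.directed_le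
  exact ⟨k, hA, secPd_of_stalk A hA k (fun x => hk (Set.mem_univ x))⟩

/-- S3746 -/
theorem main3746 (X : Scheme.{u}) [IsNoetherian X]
    (hreg : ∀ x : X, IsRegularLocalRing (X.presheaf.stalk x)) (hX : KRR.HasEnoughLocFree X)
    (h : ∀ M : X.Modules, FlatMod.IsFinLocFree M → Coh.IsCoh M) :
    Function.Bijective (SGA6.mapSub (𝟭 X.Modules) (KRR.vbP X)
      (fun M : X.Modules => Coh.IsCoh M) h) := by
  haveI : (KRR.vbP X).IsClosedUnderIsomorphisms :=
    ⟨fun e h => FLFH8.IsFinLocFree.of_iso e h⟩
  haveI : ObjectProperty.IsClosedUnderIsomorphisms (fun M : X.Modules => Coh.IsCoh M) :=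
    ⟨fun e h => isCoh_of_iso e h⟩
  refine Groth.Agent.Lib.ResolK0H4.main (KRR.vbP X) (fun M : X.Modules => Coh.IsCoh M) h
    ?_ ?_ ?_ ?_ ?_ ?_
  · intro S hS h₁ h₃
    exact vb_X₂ S hS h₁ h₃
  · intro S hS h₁ h₃
    exact Groth.Agent.Lib.CohSerreH3.isCoh_of_shortExact S hS h₁ h₃
  · intro S hS h₂ h₃
    exact Groth.Agent.Lib.AmpleK.isFinLocFree_of_shortExact S hS h₂ h₃
  · intro S hS h₂ h₃
    exact isCoh_X₁ S hS h₂ h₃
  · intro A B D u v hu hA hB hD
    exact exists_cover_pullback hX A B D u v hu hA hB hD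
  · intro A hA
    obtain ⟨d, q⟩ := exists_Q_of_regular hreg A hA
    refine ⟨d, fun L hL hex e => ?_⟩
    obtain ⟨e⟩ := e
    exact cycles_vb L hL hex A e d q

end Groth.Agent.KRRRes
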