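import Mathlib
import Groth.Prelude
import Groth.Agent.Lib.KRRRes4_helper9
import Groth.Agent.Lib.CohDev11_helper8
import Groth.Agent.Lib.Snap2_helper9

/-!
# Direct images of bundles along regular closed immersions have finite resolutions (helper9)

* `pdLT_quot_of_isWeaklyRegular` : `pd_R (M/(rs)M) ≤ pd_R M + length rs` for an `M`-weakly-regular `rs`;
* `pdLT_of_surjective_regular` : for `φ : A ↠ B` with kernel generated by a regular sequence `rs`, a
  finite projective `B`-module has `pd_A ≤ length rs`;
* `exists_Q_of_stalk_finite` : a coherent module with stalks of finite pd has bounded pd of sections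
  (Noetherian scheme);
* `exists_Q_push` : `f_* F` for a bundle `F` and a regular closed immersion `f`.
APPEND-ONLY once landed.
-/

set_option autoImplicit false
set_option linter.style.haveILetI false
set_option linter.unusedSectionVars false

universe u

open CategoryTheory CategoryTheory.Limits AlgebraicGeometry TopologicalSpace Opposite ZeroObject

namespace Groth.Agent.KRRRes

open Groth.Agent.Lib.ResolK0H4

section Algebra

open RingTheory.Sequence Pointwise

theorem pdLT_quot_of_isWeaklyRegular {R : Type u} [CommRing R] {M : Type u} [AddCommGroup M]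
    [Module R M] {rs : List R} (h : IsWeaklyRegular M rs) :
    ∀ k : ℕ, HasProjectiveDimensionLT (ModuleCat.of R M) k →
      HasProjectiveDimensionLT
        (ModuleCat.of R (M ⧸ (Ideal.ofList rs • ⊤ : Submodule R M))) (k + rs.length) := by
  induction h with
  | nil M =>
    intro k hk
    haveI := hk
    have hp : (Ideal.ofList ([] : List R) • ⊤ : Submodule R M) = ⊥ := by
      rw [Ideal.ofList_nil, Submodule.bot_smul]
    exact hasProjectiveDimensionLT_of_iso
      (Submodule.quotEquivOfEqBot _ hp).symm.toModuleIso k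
  | @cons M _ _ r rs h1 h2 ih =>
    intro k hk
    haveI := hk
    have hS := IsSMulRegular.smulShortComplex_shortExact (M := ModuleCat.of R M) h1
    have h3 : HasProjectiveDimensionLT (ModuleCat.of R (QuotSMulTop r M)) (k + 1) :=
      hS.hasProjectiveDimensionLT_X₃ k hk
        (hasProjectiveDimensionLT_of_ge (ModuleCat.of R M) k (k + 1) (by omega))
    haveI := ih (k + 1) h3
    haveI := hasProjectiveDimensionLT_of_iso
      (Submodule.quotOfListConsSMulTopEquivQuotSMulTopInner M r rs).symm.toModuleIso
      (k + 1 + rs.length)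
    exact hasProjectiveDimensionLT_of_ge _ (k + 1 + rs.length) _
      (by rw [List.length_cons]; omega)

/-- finite powers. -/
theorem hasPD_pi' {R : Type u} [CommRing R] (N : Type u) [AddCommGroup N] [Module R N] (n : ℕ)
    (hN : HasProjectiveDimensionLT (ModuleCat.of R N) n) :
    ∀ m : ℕ, HasProjectiveDimensionLT (ModuleCat.of R (Fin m → N)) n := by
  intro m
  induction m with
  | zero =>
    haveI : HasProjectiveDimensionLT (ModuleCat.of R (Fin 0 → N)) 0 :=
      (ModuleCat.isZero_of_subsingleton (ModuleCat.of R (Fin 0 → N))).hasProjectiveDimensionLT_zero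
    exact hasProjectiveDimensionLT_of_ge _ 0 n (Nat.zero_le n)
  | succ m ih =>
    haveI := hN
    haveI := ih
    haveI : HasProjectiveDimensionLT (ModuleCat.of R (N × (Fin m → N))) n :=
      hasProjectiveDimensionLT_of_iso
        (ModuleCat.biprodIsoProd (ModuleCat.of R N) (ModuleCat.of R (Fin m → N))) n
    exact hasProjectiveDimensionLT_of_iso
      (Fin.consLinearEquiv R (fun _ : Fin (m + 1) => N)).toModuleIso n

theorem pdLT_of_surjective_regular {A B : Type u} [CommRing A] [CommRing B] (φ : A →+* B)
    (hφ : Function.Surjective φ) (rs : List A) (hrs : IsWeaklyRegular A rs)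
    (hker : RingHom.ker φ = Ideal.ofList rs)
    (M : Type u) [AddCommGroup M] [Module B M] [Module.Finite B M] [Module.Projective B M]
    (N : Type u) [AddCommGroup N] [Module A N] (e : N ≃+ M)
    (he : ∀ (a : A) (n : N), e (a • n) = φ a • e n) :
    HasProjectiveDimensionLT (ModuleCat.of A N) (rs.length + 1) := by
  letI : Module A B := Module.compHom B φ
  have hsm : ∀ (a : A) (b : B), a • b = φ a * b := fun _ _ => rfl
  let φₗ : A →ₗ[A] B :=
    { toFun := φ
      map_add' := map_add φ
      map_smul' := fun a x => by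
        rw [smul_eq_mul, map_mul, hsm, RingHom.id_apply] }
  have hφₗ : Function.Surjective φₗ := hφ
  have hk : LinearMap.ker φₗ = (Ideal.ofList rs • ⊤ : Submodule A A) := by
    ext x
    rw [LinearMap.mem_ker, smul_eq_mul, Ideal.mul_top, ← hker, RingHom.mem_ker]
    rfl
  have hA : HasProjectiveDimensionLT (ModuleCat.of A A) 1 := by
    rw [← projective_iff_hasProjectiveDimensionLT_one, ← IsProjective.iff_projective]
    infer_instance
  have h1 := pdLT_quot_of_isWeaklyRegular hrs 1 hA
  haveI := h1
  let eB : (A ⧸ (Ideal.ofList rs • ⊤ : Submodule A A)) ≃ₗ[A] B :=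
    (Submodule.quotEquivOfEq _ _ hk.symm).trans (φₗ.quotKerEquivOfSurjective hφₗ)
  have hB : HasProjectiveDimensionLT (ModuleCat.of A B) (rs.length + 1) := by
    haveI := hasProjectiveDimensionLT_of_iso eB.toModuleIso (1 + rs.length)
    exact hasProjectiveDimensionLT_of_ge _ (1 + rs.length) _ (by omega)
  obtain ⟨m, p, hp⟩ := Module.Finite.exists_fin' B M
  obtain ⟨s, hs⟩ := Module.projective_lifting_property p LinearMap.id hp
  haveI := hasPD_pi' (R := A) B (rs.length + 1) hB m
  have hret : Retract (ModuleCat.of A N) (ModuleCat.of A (Fin m → B)) :=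
    { i := ModuleCat.ofHom
        { toFun := fun n => s (e n)
          map_add' := fun x y => by rw [map_add, map_add]
          map_smul' := fun a n => by
            rw [he, map_smul, RingHom.id_apply]
            rfl }
      r := ModuleCat.ofHom
        { toFun := fun v => e.symm (p v)
          map_add' := fun x y => by rw [map_add, map_add]
          map_smul' := fun a v => by
            apply e.injective
            rw [he, AddEquiv.apply_symm_apply, AddEquiv.apply_symm_apply, RingHom.id_apply]
            have : a • v = φ a • v := rfl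
            rw [this, map_smul] }
      retract := by
        ext x
        show e.symm (p (s (e x))) = x
        have := LinearMap.congr_fun hs (e x)
        rw [LinearMap.comp_apply, LinearMap.id_apply] at this
        rw [this, AddEquiv.symm_apply_apply] }
  exact hret.hasProjectiveDimensionLT (rs.length + 1)

end Algebra

end Groth.Agent.KRRRes

namespace Groth.Agent.KRRRes

open Groth.Agent.Lib.ResolK0H4

section Scheme

variable {X Y : Scheme.{u}}

lemma subsingleton_sections_bot (F : X.Modules) : Subsingleton Γ(F, ⊥) := by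
  have h0 : ∀ s : Γ(F, ⊥), s = 0 := by
    intro s
    apply QcqsLoc.eq_zero_of_cover
    intro x hx
    exact absurd hx (by simp)
  exact ⟨fun a b => by rw [h0 a, h0 b]⟩

/-- a coherent module whose stalks all have finite projective dimension has sections of bounded
projective dimension (Noetherian scheme) -/
lemma exists_Q_of_stalk_finite [IsNoetherian X] (A : X.Modules) (hA : Coh.IsCoh A)
    (h : ∀ x : X, ∃ k : ℕ, projectiveDimension
      (ModuleCat.of (X.presheaf.stalk x) (A.presheaf.stalk x)) ≤ (k : WithBot ℕ∞)) :
    ∃ d, Q d A := by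
  haveI : A.IsQuasicoherent := hA.1
  haveI : SheafOfModules.IsFiniteType (R := X.ringCatSheaf) A := hA.2
  let V : ℕ → Set X := fun k => {x | projectiveDimension
    (ModuleCat.of (X.presheaf.stalk x) (A.presheaf.stalk x)) ≤ (k : WithBot ℕ∞)}
  have hVo : ∀ k, IsOpen (V k) := fun k => PDStalkH8.isOpen_pd_le A k
  have hcov : (Set.univ : Set X) ⊆ ⋃ k, V k := by
    intro x _
    obtain ⟨k, hk⟩ := h x
    exact Set.mem_iUnion.2 ⟨k, hk⟩
  have hmono : Monotone V := by
    intro k k' hkk' x hx
    have h1 : ((k : ℕ) : WithBot ℕ∞) ≤ ((k' : ℕ) : WithBot ℕ∞) := by exact_mod_cast hkk'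
    exact le_trans hx h1
  obtain ⟨k, hk⟩ := isCompact_univ.elim_directed_cover V hVo hcov hmono.directed_le
  exact ⟨k, hA, secPd_of_stalk A hA k (fun x => hk (Set.mem_univ x))⟩

/-- a bound on the projective dimension of the sections over an affine neighbourhood bounds the
projective dimension of the stalk -/
lemma stalk_pd_le_of_sections [IsLocallyNoetherian X] (G : X.Modules) (hG : Coh.IsCoh G)
    {V : X.Opens} (hV : IsAffineOpen V) {y : X} (hy : y ∈ V) (k : ℕ)
    (h : HasProjectiveDimensionLT (ModuleCat.of Γ(X, V) Γ(G, V)) (k + 1)) :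
    projectiveDimension (ModuleCat.of (X.presheaf.stalk y) (G.presheaf.stalk y)) ≤
      (k : WithBot ℕ∞) := by
  haveI : G.IsQuasicoherent := hG.1
  rw [PDStalkH8.pd_stalk_eq G hV hy, projectiveDimension_le_iff]
  haveI : HasProjectiveDimensionLE (ModuleCat.of Γ(X, V) Γ(G, V)) k := h
  have h2 : HasProjectiveDimensionLT
      (ModuleCat.of (Localization (hV.primeIdealOf ⟨y, hy⟩).asIdeal.primeCompl)
        (Shrink.{u} (LocalizedModule (hV.primeIdealOf ⟨y, hy⟩).asIdeal.primeCompl Γ(G, V))))
      (k + 1) :=
    ModuleCat.localizedModule_hasProjectiveDimensionLE k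
      (hV.primeIdealOf ⟨y, hy⟩).asIdeal.primeCompl (ModuleCat.of Γ(X, V) Γ(G, V))
  haveI := h2
  exact hasProjectiveDimensionLT_of_iso
    (Shrink.linearEquiv (Localization (hV.primeIdealOf ⟨y, hy⟩).asIdeal.primeCompl)
      (LocalizedModule (hV.primeIdealOf ⟨y, hy⟩).asIdeal.primeCompl Γ(G, V))).toModuleIso (k + 1)

/-- the direct image of a bundle along a regular closed immersion has sections of bounded
projective dimension -/
lemma exists_Q_push (f : X ⟶ Y) (hf : Mor2.IsRegularClosedImmersion f) [IsNoetherian Y]
    (F : X.Modules) (hF : FlatMod.IsFinLocFree F) :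
    ∃ d, Q d ((Scheme.Modules.pushforward f).obj F) := by
  haveI : IsClosedImmersion f := hf.1
  have hG : Coh.IsCoh ((Scheme.Modules.pushforward f).obj F) :=
    CohDevH8.isCoh_pushforward_of_isFinite f (isCoh_of_vb hF)
  apply exists_Q_of_stalk_finite _ hG
  intro y
  by_cases hy : y ∈ Set.range f
  · obtain ⟨x, rfl⟩ := hy
    obtain ⟨U, hU, hxU, rs, hrs, hker⟩ := hf.2 x
    refine ⟨rs.length, stalk_pd_le_of_sections _ hG hU hxU _ ?_⟩
    have hU' : IsAffineOpen (f ⁻¹ᵁ U) := hU.preimage f
    haveI := FLFH8.isQuasicoherent_of_finLocFree F hF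
    obtain ⟨fp, fl⟩ := FLFH8.fp_flat_sections_of_finLocFree F hF hU'
    haveI := fp
    haveI := fl
    haveI : Module.Projective Γ(X, f ⁻¹ᵁ U) Γ(F, f ⁻¹ᵁ U) :=
      Module.Flat.projective_of_finitePresentation
    have hk : RingHom.ker (f.app U).hom = Ideal.ofList rs := by
      rw [← hker]
      exact (Scheme.Hom.ker_apply f ⟨U, hU⟩).symm
    exact pdLT_of_surjective_regular (f.app U).hom (f.app_surjective U hU) rs
      hrs.toIsWeaklyRegular hk Γ(F, f ⁻¹ᵁ U) Γ((Scheme.Modules.pushforward f).obj F, U)
      (AddEquiv.refl _) (fun a n => rfl)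
  · have hcl : IsClosed (Set.range f) := f.isClosedEmbedding.isClosed_range
    obtain ⟨_, ⟨V, hV, rfl⟩, hyV, hVsub⟩ :=
      Y.isBasis_affineOpens.exists_subset_of_mem_open hy hcl.isOpen_compl
    have hV : IsAffineOpen V := hV
    refine ⟨0, stalk_pd_le_of_sections _ hG hV hyV 0 ?_⟩
    have hbot : f ⁻¹ᵁ V = ⊥ := by
      ext x
      simp only [Opens.coe_bot, Set.mem_empty_iff_false, iff_false]
      intro hx
      exact hVsub hx ⟨x, rfl⟩
    haveI : Subsingleton Γ((Scheme.Modules.pushforward f).obj F, V) := by
      show Subsingleton Γ(F, f ⁻¹ᵁ V)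
      rw [hbot]
      exact subsingleton_sections_bot F
    haveI := (ModuleCat.isZero_of_subsingleton
      (ModuleCat.of Γ(Y, V) Γ((Scheme.Modules.pushforward f).obj F, V))).hasProjectiveDimensionLT_zero
    exact hasProjectiveDimensionLT_of_ge _ 0 (0 + 1) (by omega)

end Scheme

section TowerAll

variable {X : Scheme.{u}} [IsLocallyNoetherian X] (T : Tower (KRR.vbP X))

/-- all syzygies of a finite tower have bounded projective dimension -/
lemma tower_up_all (n : ℕ) (hz : ∀ i, n < i → IsZero (T.L i)) (hcoh : Coh.IsCoh (T.K 0)) :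
    ∀ i, Q (n + 1) (T.K i) := by
  have hK : ∀ i, Coh.IsCoh (T.K i) := by
    intro i
    induction i with
    | zero => exact hcoh
    | succ i ih => exact isCoh_X₁ _ (T.shortExact i) (isCoh_of_vb (T.hL i)) ih
  have hzK : ∀ i, n < i → IsZero (T.K i) := by
    intro i hi
    haveI := T.epi i
    exact IsZero.of_epi (T.p i) (hz i hi)
  have key : ∀ j i, i + j = n + 1 → Q j (T.K i) := by
    intro j
    induction j with
    | zero =>
      intro i hi
      exact Q_zero_of_vb (Groth.Agent.Lib.AmpleK.isFinLocFree_of_isZero (hzK i (by omega)))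
    | succ j ih =>
      intro i hi
      exact Q_X₃ _ (T.shortExact i) j (ih (i + 1) (by omega)) (T.hL i)
  intro i
  by_cases hi : i ≤ n + 1
  · exact (key (n + 1 - i) i (by omega)).mono (by omega)
  · exact (Q_zero_of_vb (Groth.Agent.Lib.AmpleK.isFinLocFree_of_isZero
      (hzK i (by omega)))).mono (by omega)

end TowerAll

end Groth.Agent.KRRRes
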