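import Mathlib
import Groth.Prelude
import Groth.Agent.Lib.KRRRes5_helper9

/-!
# The push-forward `f_K` of a regular closed immersion on `K(X)` (helper9)

* `P1 Y` : coherent modules with a finite locally free resolution; `β : Kvb Y → K₀(P1 Y)` bijective;
* `euler_P1` : the class of a module is the alternating sum of the terms of a finite locally free
  resolution;
* `pushK f` : `Kvb X → K₀(P1 Y)`, `[F] ↦ [f_* F]`, for a regular closed immersion `f`;
* `main3799`.
APPEND-ONLY once landed.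
-/

set_option autoImplicit false
set_option linter.style.haveILetI false
set_option linter.unusedSectionVars false

universe v w u

open CategoryTheory CategoryTheory.Limits AlgebraicGeometry TopologicalSpace Opposite ZeroObject

namespace Groth.Agent.KRRRes

open KZero Groth.Agent.Lib.KZeroH4 Groth.Agent.Lib.ResolK0H4

section General

universe v₁ u₁ v₂ u₂

variable {A : Type u₁} [Category.{v₁} A] [Abelian A] {B : Type u₂} [Category.{v₂} B] [Abelian B]

lemma mapSub_clSub (F : A ⥤ B) [F.Additive] [PreservesFiniteLimits F] [PreservesFiniteColimits F]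
    (P : ObjectProperty A) (Q : ObjectProperty B) (h : ∀ X, P X → Q (F.obj X)) (M : A)
    (hM : P M) : SGA6.mapSub F P Q h (clSub P M) = clSub Q (F.obj M) := by
  rw [clSub_eq P M hM, clSub_eq Q _ (h M hM)]
  unfold SGA6.mapSub
  rw [QuotientAddGroup.map_mk, FreeAbelianGroup.map_of_apply]
  rfl

lemma clSub_isZero' (Q : ObjectProperty A) (h0 : ∀ X : A, IsZero X → Q X) {X : A}
    (hX : IsZero X) : clSub Q X = 0 := by
  have hPX : Q X := h0 X hX
  have hS : (ShortComplex.mk (0 : X ⟶ X) (0 : X ⟶ X) zero_comp).ShortExact :=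
    ShortComplex.ShortExact.mk' (ShortComplex.exact_of_isZero_X₂ _ hX) (hX.mono _) (hX.epi _)
  have h : clSub Q X = clSub Q X + clSub Q X := clSub_ses Q _ hS hPX hPX hPX
  have h' : clSub Q X + 0 = clSub Q X + clSub Q X := by rw [add_zero]; exact h
  exact (add_left_cancel h').symm

/-- telescoping along a tower all of whose objects lie in `Q` -/
lemma tower_telescope {P₀ : ObjectProperty A} (Q : ObjectProperty A) (T : Tower P₀)
    (hL : ∀ i, Q (T.L i)) (hK : ∀ i, Q (T.K i)) : ∀ m : ℕ,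
    clSub Q (T.K 0) = ∑ k ∈ Finset.range m, (-1 : ℤ) ^ k • clSub Q (T.L k) +
      (-1 : ℤ) ^ m • clSub Q (T.K m)
  | 0 => by simp
  | m + 1 => by
    have h1 : clSub Q (T.L m) = clSub Q (T.K (m + 1)) + clSub Q (T.K m) :=
      clSub_ses Q _ (T.shortExact m) (hK (m + 1)) (hL m) (hK m)
    have h2 : clSub Q (T.K m) = clSub Q (T.L m) - clSub Q (T.K (m + 1)) := by
      rw [h1]; abel
    rw [tower_telescope Q T hL hK m, Finset.sum_range_succ, h2, pow_succ, smul_sub]
    simp only [mul_neg, mul_one, neg_smul]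
    abel

end General

/-- coherent modules with a finite locally free resolution -/
abbrev P1 (Y : Scheme.{u}) : ObjectProperty Y.Modules :=
  fun M : Y.Modules => Coh.IsCoh M ∧ KRR.HasLFRes M

section Target

variable {Y : Scheme.{u}} [IsNoetherian Y] (hYe : KRR.HasEnoughLocFree Y)
include hYe

lemma P1_of_Q {d : ℕ} {M : Y.Modules} (h : Q d M) : P1 Y M := ⟨h.1, hasLFRes_of_Q hYe h⟩

lemma P1_of_vb (M : Y.Modules) (h : FlatMod.IsFinLocFree M) : P1 Y M :=
  P1_of_Q hYe (Q_zero_of_vb h)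

lemma P1_of_isZero (M : Y.Modules) (h : IsZero M) : P1 Y M :=
  P1_of_vb hYe M (Groth.Agent.Lib.AmpleK.isFinLocFree_of_isZero h)

/-- the comparison `Kvb Y → K₀(P1 Y)` -/
noncomputable def β : SGA6.Kvb Y →+ K0sub (P1 Y) :=
  SGA6.mapSub (𝟭 Y.Modules) (KRR.vbP Y) (P1 Y) (P1_of_vb hYe)

lemma β_bijective : Function.Bijective (β hYe) := main3745 Y hYe (P1_of_vb hYe)

lemma β_cl (E : Y.Modules) (hE : FlatMod.IsFinLocFree E) :
    β hYe (KRR.cl Y E) = clSub (P1 Y) E :=
  mapSub_clSub (𝟭 Y.Modules) (KRR.vbP Y) (P1 Y) (P1_of_vb hYe) E hE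

/-- the class of a module is the alternating sum of the terms of a resolution -/
lemma euler_P1 (G : Y.Modules) (hG : Coh.IsCoh G) {n : ℕ} {L : ChainComplex Y.Modules ℕ}
    {π : L ⟶ (ChainComplex.single₀ Y.Modules).obj G} (h : KRR.IsLFRes G n L π) :
    clSub (P1 Y) G = ∑ k ∈ Finset.range (n + 1), (-1 : ℤ) ^ k • clSub (P1 Y) (L.X k) := by
  haveI := h.quasiIso
  obtain ⟨hε, h0, hepi, hex⟩ := of_quasiIso L G π
  let E := LES.ofComplex L (π.f 0) hε h0 hepi hex
  let T := E.tower (KRR.vbP Y) (fun i => h.finLocFree i)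
  have hz : ∀ i, n < i → IsZero (T.L i) := fun i hi => h.isZero i hi
  have hK : ∀ i, P1 Y (T.K i) := fun i => P1_of_Q hYe (tower_up_all T n hz hG i)
  have hL : ∀ i, P1 Y (T.L i) := fun i => P1_of_vb hYe _ (T.hL i)
  have hzK : IsZero (T.K (n + 1)) := by
    haveI := T.epi (n + 1)
    exact IsZero.of_epi (T.p (n + 1)) (hz (n + 1) (by omega))
  have := tower_telescope (P1 Y) T hL hK (n + 1)
  rw [clSub_isZero' (P1 Y) (P1_of_isZero hYe) hzK, smul_zero, add_zero] at this
  exact this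

lemma β_sum (G : Y.Modules) (hG : Coh.IsCoh G) {n : ℕ} {L : ChainComplex Y.Modules ℕ}
    {π : L ⟶ (ChainComplex.single₀ Y.Modules).obj G} (h : KRR.IsLFRes G n L π) :
    β hYe (∑ k ∈ Finset.range (n + 1), (-1 : ℤ) ^ k • KRR.cl Y (L.X k)) = clSub (P1 Y) G := by
  rw [euler_P1 hYe G hG h, map_sum]
  refine Finset.sum_congr rfl (fun k _ => ?_)
  rw [map_zsmul, β_cl hYe _ (h.finLocFree k)]

end Target

section Push

variable {X Y : Scheme.{u}} (f : X ⟶ Y) (hf : Mor2.IsRegularClosedImmersion f)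
  [IsNoetherian Y] (hYe : KRR.HasEnoughLocFree Y)
include hf hYe

lemma P1_push (F : X.Modules) (hF : FlatMod.IsFinLocFree F) :
    P1 Y ((Scheme.Modules.pushforward f).obj F) := by
  obtain ⟨d, hd⟩ := exists_Q_push f hf F hF
  exact P1_of_Q hYe hd

/-- the inverse of `β` as a homomorphism -/
noncomputable def βinv : K0sub (P1 Y) →+ SGA6.Kvb Y :=
  (AddEquiv.ofBijective (β hYe) (β_bijective hYe)).symm.toAddMonoidHom

omit hf in
lemma βinv_β (x : SGA6.Kvb Y) : βinv hYe (β hYe x) = x :=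
  (AddEquiv.ofBijective (β hYe) (β_bijective hYe)).symm_apply_apply x

theorem existsUnique_pushCl {KX : Type v} {KY : Type w} [CommRing KX] [CommRing KY]
    (φX : SGA6.Kvb X →+ KX) (hφX : Function.Bijective φX) (φY : SGA6.Kvb Y →+ KY) :
    ∃! h : KX →+ KY, KRR.IsPushCl f φX φY h := by
  haveI : IsClosedImmersion f := hf.1
  let γ : SGA6.Kvb X →+ K0sub (P1 Y) :=
    SGA6.mapSub (Scheme.Modules.pushforward f) (KRR.vbP X) (P1 Y) (P1_push f hf hYe)
  have hγ : ∀ (F : X.Modules) (hF : FlatMod.IsFinLocFree F),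
      γ (KRR.cl X F) = clSub (P1 Y) ((Scheme.Modules.pushforward f).obj F) :=
    fun F hF => mapSub_clSub _ _ _ (P1_push f hf hYe) F hF
  let eX := AddEquiv.ofBijective φX hφX
  let h₀ : KX →+ KY := φY.comp ((βinv hYe).comp (γ.comp eX.symm.toAddMonoidHom))
  have key : ∀ (F : X.Modules) (hF : FlatMod.IsFinLocFree F) (n : ℕ)
      (L : ChainComplex Y.Modules ℕ)
      (π : L ⟶ (ChainComplex.single₀ Y.Modules).obj ((Scheme.Modules.pushforward f).obj F)),
      KRR.IsLFRes ((Scheme.Modules.pushforward f).obj F) n L π →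
      h₀ (φX (KRR.cl X F)) = ∑ k ∈ Finset.range (n + 1), (-1 : ℤ) ^ k • φY (KRR.cl Y (L.X k)) := by
    intro F hF n L π hL
    have e1 : eX.symm (φX (KRR.cl X F)) = KRR.cl X F := eX.symm_apply_apply _
    show φY (βinv hYe (γ (eX.symm (φX (KRR.cl X F))))) = _
    rw [e1, hγ F hF, ← β_sum hYe _ (P1_push f hf hYe F hF).1 hL, βinv_β, map_sum]
    refine Finset.sum_congr rfl (fun k _ => ?_)
    rw [map_zsmul]
  refine ⟨h₀, key, ?_⟩
  intro h' hh'
  have hcomp : h'.comp φX = h₀.comp φX := by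
    apply homSub_ext (KRR.vbP X)
    intro F hF
    obtain ⟨n, L, π, hL⟩ := (P1_push f hf hYe F hF).2
    rw [AddMonoidHom.comp_apply, AddMonoidHom.comp_apply]
    exact (hh' F hF n L π hL).trans (key F hF n L π hL).symm
  apply AddMonoidHom.ext
  intro x
  obtain ⟨y, rfl⟩ := hφX.2 x
  exact DFunLike.congr_fun hcomp y

end Push

end Groth.Agent.KRRRes
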