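import Mathlib
import Groth.Prelude
import Groth.Agent.Lib.KRRRes6_helper9
import Groth.Agent.Lib.RegComp_helper5

/-!
# Functoriality of the push-forward `f_K` for regular closed immersions (helper9)

* `P1_push_P1` : `g_*` carries coherent modules with a finite locally free resolution on `Y` to such
  modules on `Z`, for a regular closed immersion `g : Y ⟶ Z`;
* `isPushCl_comp`, `main3748`.
APPEND-ONLY once landed.
-/

set_option autoImplicit false
set_option linter.style.haveILetI false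
set_option linter.unusedSectionVars false

universe v w u

open CategoryTheory CategoryTheory.Limits AlgebraicGeometry TopologicalSpace Opposite ZeroObject

namespace Groth.Agent.KRRRes

open KZero Groth.Agent.Lib.KZeroH4 Groth.Agent.Lib.ResolK0H4

lemma clSub_iso' {A : Type*} [Category A] [Abelian A] (Q : ObjectProperty A)
    (h0 : ∀ X : A, IsZero X → Q X) {X Y : A} (e : X ≅ Y) (hX : Q X)
    (hY : Q Y) : clSub Q X = clSub Q Y := by
  haveI : Epi (0 : Y ⟶ (0 : A)) := (isZero_zero A).epi _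
  have hS : (ShortComplex.mk e.hom (0 : Y ⟶ (0 : A)) comp_zero).ShortExact :=
    ShortComplex.ShortExact.mk' ((ShortComplex.exact_iff_epi _ rfl).2 (inferInstance : Epi e.hom))
      (inferInstance : Mono e.hom) (inferInstance : Epi (0 : Y ⟶ (0 : A)))
  have h : clSub Q Y = clSub Q X + clSub Q (0 : A) :=
    clSub_ses Q _ hS hX hY (h0 _ (isZero_zero A))
  rw [clSub_isZero' Q h0 (isZero_zero A), add_zero] at h
  exact h.symm

lemma Q_X₃' {X : Scheme.{u}} (S : ShortComplex X.Modules) (hS : S.ShortExact) (e : ℕ)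
    (h₁ : Q e S.X₁) (h₂ : Q e S.X₂) : Q (e + 1) S.X₃ := by
  have c₃ := isCoh_X₃ S hS h₁.1 h₂.1
  haveI := h₂.1.1
  haveI := c₃.1
  exact ⟨c₃, secPd_X₃ S hS e h₁.2 (h₂.2.mono (by omega))⟩

section

variable {Y Z : Scheme.{u}} (g : Y ⟶ Z) (hg : Mor2.IsRegularClosedImmersion g)
  [IsNoetherian Y] [IsNoetherian Z] (hZe : KRR.HasEnoughLocFree Z)
include hg hZe

lemma P1_push_P1 (M : Y.Modules) (hM : P1 Y M) :
    P1 Z ((Scheme.Modules.pushforward g).obj M) := by
  haveI : IsClosedImmersion g := hg.1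
  obtain ⟨hMc, n, L, π, h⟩ := hM
  haveI := h.quasiIso
  obtain ⟨hε, h0, hepi, hex⟩ := of_quasiIso L M π
  let E := LES.ofComplex L (π.f 0) hε h0 hepi hex
  let T := E.tower (KRR.vbP Y) (fun i => h.finLocFree i)
  have hz : ∀ i, n < i → IsZero (T.L i) := fun i hi => h.isZero i hi
  have hzK : ∀ i, n < i → IsZero (T.K i) := by
    intro i hi
    haveI := T.epi i
    exact IsZero.of_epi (T.p i) (hz i hi)
  have key : ∀ j i, i + j = n + 1 → ∃ e, Q e ((Scheme.Modules.pushforward g).obj (T.K i)) := by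
    intro j
    induction j with
    | zero =>
      intro i hi
      exact ⟨0, Q_zero_of_vb (Groth.Agent.Lib.AmpleK.isFinLocFree_of_isZero
        (Functor.map_isZero (Scheme.Modules.pushforward g) (hzK i (by omega))))⟩
    | succ j ih =>
      intro i hi
      obtain ⟨e, he⟩ := ih (i + 1) (by omega)
      obtain ⟨d, hd⟩ := exists_Q_push g hg (T.L i) (T.hL i)
      have hS := Snap9.shortExact_push g _ (T.shortExact i)
      exact ⟨max e d + 1, Q_X₃' _ hS (max e d) (he.mono (le_max_left _ _))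
        (hd.mono (le_max_right _ _))⟩
  obtain ⟨e, he⟩ := key (n + 1) 0 (by omega)
  exact P1_of_Q hZe he

end

section Comp

variable {X Y Z : Scheme.{u}} (f : X ⟶ Y) (g : Y ⟶ Z)
  (hf : Mor2.IsRegularClosedImmersion f) (hg : Mor2.IsRegularClosedImmersion g)
  [IsNoetherian Y] (hYe : KRR.HasEnoughLocFree Y) [IsNoetherian Z]
  (hZe : KRR.HasEnoughLocFree Z)
include hf hg hYe hZe

theorem isPushCl_comp {KX : Type v} {KY : Type v} {KZ : Type v} [CommRing KX] [CommRing KY]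
    [CommRing KZ] (φX : SGA6.Kvb X →+ KX) (φY : SGA6.Kvb Y →+ KY) (φZ : SGA6.Kvb Z →+ KZ)
    (a : KX →+ KY) (ha : KRR.IsPushCl f φX φY a) (b : KY →+ KZ) (hb : KRR.IsPushCl g φY φZ b) :
    KRR.IsPushCl (f ≫ g) φX φZ (b.comp a) := by
  haveI : IsClosedImmersion f := hf.1
  haveI : IsClosedImmersion g := hg.1
  intro F hF n M π hM
  -- a resolution of `f_* F` on `Y`
  have hfF := P1_push f hf hYe F hF
  obtain ⟨m, L, ρ, hL⟩ := hfF.2
  -- resolutions of the `g_* L_j` on `Z`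
  have hgL : ∀ j, P1 Z ((Scheme.Modules.pushforward g).obj (L.X j)) :=
    fun j => P1_push g hg hZe (L.X j) (hL.finLocFree j)
  choose nj N σ hN using fun j => (hgL j).2
  let ξ : ℕ → SGA6.Kvb Z := fun j =>
    ∑ k ∈ Finset.range (nj j + 1), (-1 : ℤ) ^ k • KRR.cl Z ((N j).X k)
  have hξ : ∀ j, β hZe (ξ j) = clSub (P1 Z) ((Scheme.Modules.pushforward g).obj (L.X j)) :=
    fun j => β_sum hZe _ (hgL j).1 (hN j)
  have hbj : ∀ j, b (φY (KRR.cl Y (L.X j))) = φZ (ξ j) := by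
    intro j
    rw [hb (L.X j) (hL.finLocFree j) (nj j) (N j) (σ j) (hN j), map_sum]
    refine Finset.sum_congr rfl (fun k _ => ?_)
    rw [map_zsmul]
  -- the class of `(f ≫ g)_* F`
  let η : SGA6.Kvb Z := ∑ k ∈ Finset.range (n + 1), (-1 : ℤ) ^ k • KRR.cl Z (M.X k)
  have hfgF : Coh.IsCoh ((Scheme.Modules.pushforward (f ≫ g)).obj F) :=
    CohDevH8.isCoh_pushforward_of_isFinite (f ≫ g) (isCoh_of_vb hF)
  have hη : β hZe η = clSub (P1 Z) ((Scheme.Modules.pushforward (f ≫ g)).obj F) :=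
    β_sum hZe _ hfgF hM
  -- compare in `K₀(P1 Z)`
  let γ : K0sub (P1 Y) →+ K0sub (P1 Z) :=
    SGA6.mapSub (Scheme.Modules.pushforward g) (P1 Y) (P1 Z) (P1_push_P1 g hg hZe)
  have hγ : ∀ (G : Y.Modules) (hG : P1 Y G),
      γ (clSub (P1 Y) G) = clSub (P1 Z) ((Scheme.Modules.pushforward g).obj G) :=
    fun G hG => mapSub_clSub _ _ _ (P1_push_P1 g hg hZe) G hG
  have h1 : clSub (P1 Y) ((Scheme.Modules.pushforward f).obj F) =
      ∑ j ∈ Finset.range (m + 1), (-1 : ℤ) ^ j • clSub (P1 Y) (L.X j) :=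
    euler_P1 hYe _ hfF.1 hL
  have h2 : clSub (P1 Z) ((Scheme.Modules.pushforward g).obj
      ((Scheme.Modules.pushforward f).obj F)) =
      ∑ j ∈ Finset.range (m + 1), (-1 : ℤ) ^ j • β hZe (ξ j) := by
    rw [← hγ _ hfF, h1, map_sum]
    refine Finset.sum_congr rfl (fun j _ => ?_)
    rw [map_zsmul, hγ _ (P1_of_vb hYe _ (hL.finLocFree j)), hξ]
  have h3 : clSub (P1 Z) ((Scheme.Modules.pushforward g).obj
      ((Scheme.Modules.pushforward f).obj F)) =
      clSub (P1 Z) ((Scheme.Modules.pushforward (f ≫ g)).obj F) :=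
    clSub_iso' (P1 Z) (P1_of_isZero hZe) ((Scheme.Modules.pushforwardComp f g).app F)
      (P1_push_P1 g hg hZe _ hfF)
      (P1_push (f ≫ g) (Groth.Agent.RegComp.main f g hf hg) hZe F hF)
  have h4 : η = ∑ j ∈ Finset.range (m + 1), (-1 : ℤ) ^ j • ξ j := by
    apply (β_bijective hZe).1
    rw [hη, ← h3, h2, map_sum]
    refine Finset.sum_congr rfl (fun j _ => ?_)
    rw [map_zsmul]
  show b (a (φX (KRR.cl X F))) = _
  rw [ha F hF m L ρ hL, map_sum]
  have h5 : ∑ k ∈ Finset.range (n + 1), (-1 : ℤ) ^ k • φZ (KRR.cl Z (M.X k)) = φZ η := by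
    rw [map_sum]
    refine Finset.sum_congr rfl (fun k _ => ?_)
    rw [map_zsmul]
  rw [h5, h4, map_sum]
  refine Finset.sum_congr rfl (fun j _ => ?_)
  rw [map_zsmul, map_zsmul, hbj]

end Comp

/-- S3748 -/
theorem main3748 {X Y Z : Scheme.{u}} (f : X ⟶ Y) (g : Y ⟶ Z)
    (hf : Mor2.IsRegularClosedImmersion f) (hg : Mor2.IsRegularClosedImmersion g)
    [IsNoetherian Y] (hYe : KRR.HasEnoughLocFree Y) [IsNoetherian Z]
    (hZe : KRR.HasEnoughLocFree Z)
    {KX : Type v} {KY : Type v} {KZ : Type v} [CommRing KX] [CommRing KY] [CommRing KZ]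
    (φX : SGA6.Kvb X →+ KX) (hφX : Function.Bijective φX) (φY : SGA6.Kvb Y →+ KY)
    (φZ : SGA6.Kvb Z →+ KZ)
    (a : KX →+ KY) (ha : KRR.IsPushCl f φX φY a) (b : KY →+ KZ) (hb : KRR.IsPushCl g φY φZ b)
    (c : KX →+ KZ) (hc : KRR.IsPushCl (f ≫ g) φX φZ c) : c = b.comp a := by
  have hfg : Mor2.IsRegularClosedImmersion (f ≫ g) := Groth.Agent.RegComp.main f g hf hg
  obtain ⟨h, -, huniq⟩ := existsUnique_pushCl (f ≫ g) hfg hZe φX hφX φZ
  rw [huniq c hc, huniq (b.comp a) (isPushCl_comp f g hf hg hYe hZe φX φY φZ a ha b hb)]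

end Groth.Agent.KRRRes
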