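import Mathlib
import Groth.Prelude
import Groth.Agent.Lib.CohDev17_helper8
import Groth.Agent.Lib.KRRRes7_helper9
import Groth.Agent.Lib.CycLen8_helper8

/-!
# `K₀` of coherent modules with support in a closed subset is generated by rank-one generators
(helper9)

`main14003`: dévissage (EGA III 3.1.2) in `K₀(Coh_{Y'}(X))`, on top of helper8's `CohDevH8`.

APPEND-ONLY once landed.
-/

set_option autoImplicit false

universe u

open CategoryTheory CategoryTheory.Limits AlgebraicGeometry TopologicalSpace IsLocalRing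

namespace Groth.Agent.K0Supp9

open KZero Groth.Agent.Lib.KZeroH4 CohDevH8

/-- a module of length one over a local ring is the residue field -/
theorem nonempty_equiv_residueField_of_length_eq_one (R : Type u) [CommRing R] [IsLocalRing R]
    (M : Type u) [AddCommGroup M] [Module R M] (h : Module.length R M = 1) :
    Nonempty (M ≃ₗ[R] ResidueField R) := by
  have hs : IsSimpleModule R M := Module.length_eq_one_iff.mp h
  obtain ⟨I, hI, ⟨e⟩⟩ := isSimpleModule_iff_quot_maximal.mp hs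
  have hI' : I = maximalIdeal R := IsLocalRing.eq_maximalIdeal hI
  subst hI'
  exact ⟨e⟩

variable {X : Scheme.{u}} [IsNoetherian X]

theorem main14003 (Y' : Set X) (hY' : IsClosed Y') {ι : Type u} (F : ι → X.Modules)
    (hF : ∀ a : ι, Coh.IsCoh (F a) ∧ CohB1.support (F a) ⊆ Y')
    (hgen : ∀ (Z : Set X), IsClosed Z → IsIrreducible Z → Z ⊆ Y' → ∀ y : X,
      closure ({y} : Set X) = Z →
      ∃ a : ι, CohB1.support (F a) ⊆ Z ∧
        Module.length (X.presheaf.stalk y) ((F a).presheaf.stalk y) = 1) :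
    AddSubgroup.closure (Set.range fun a : ι =>
        KZero.clSub (fun G : X.Modules => Coh.IsCoh G ∧ CohB1.support G ⊆ Y') (F a)) = ⊤ := by
  classical
  set P : ObjectProperty X.Modules := fun G => Coh.IsCoh G ∧ CohB1.support G ⊆ Y' with hP
  set B := AddSubgroup.closure (Set.range fun a : ι => KZero.clSub P (F a)) with hB
  have hP0 : ∀ M : X.Modules, IsZero M → P M := by
    intro M hM
    refine ⟨isCoh_of_isZero hM, ?_⟩
    rw [CycLenH8.support_eq_empty_of_isZero hM]
    exact Set.empty_subset _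
  let K : X.Modules → Prop := fun M => CohB1.support M ⊆ Y' ∧ KZero.clSub P M ∈ B
  have hiso : ∀ M N : X.Modules, Nonempty (M ≅ N) → K M → K N := by
    rintro M N ⟨e⟩ ⟨h1, h2⟩
    have hsupp : CohB1.support N = CohB1.support M := by
      ext x
      have l := stalkEquivOfIso e x
      show ¬ Subsingleton _ ↔ ¬ Subsingleton _
      rw [not_iff_not]
      exact ⟨fun h => l.toEquiv.subsingleton, fun h => l.symm.toEquiv.subsingleton⟩
    refine ⟨hsupp ▸ h1, ?_⟩
    by_cases hM : Coh.IsCoh M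
    · have hN : Coh.IsCoh N := isCoh_of_iso e.symm hM
      rw [← Groth.Agent.KRRRes.clSub_iso' P hP0 e ⟨hM, h1⟩ ⟨hN, hsupp ▸ h1⟩]
      exact h2
    · have hN : ¬ Coh.IsCoh N := fun hN => hM (isCoh_of_iso e hN)
      have : KZero.clSub P N = 0 := by
        unfold KZero.clSub
        rw [dif_neg (fun h => hN h.1)]
      rw [this]
      exact B.zero_mem
  have h0 : ∀ M : X.Modules, IsZero M → K M := by
    intro M hM
    refine ⟨(hP0 M hM).2, ?_⟩
    rw [Groth.Agent.KRRRes.clSub_isZero' P hP0 hM]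
    exact B.zero_mem
  have hex : ∀ S : ShortComplex X.Modules, S.ShortExact → Coh.IsCoh S.X₁ → Coh.IsCoh S.X₂ →
      Coh.IsCoh S.X₃ → (K S.X₁ → K S.X₂ → K S.X₃) ∧ (K S.X₁ → K S.X₃ → K S.X₂) ∧
        (K S.X₂ → K S.X₃ → K S.X₁) := by
    intro S hS c1 c2 c3
    have hsup := serre_support Y' S hS c1 c2 c3
    have hadd : CohB1.support S.X₂ ⊆ Y' → KZero.clSub P S.X₂ =
        KZero.clSub P S.X₁ + KZero.clSub P S.X₃ := fun h2 =>
      clSub_ses P S hS ⟨c1, (hsup.mp h2).1⟩ ⟨c2, h2⟩ ⟨c3, (hsup.mp h2).2⟩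
    refine ⟨fun k1 k2 => ⟨(hsup.mp k2.1).2, ?_⟩, fun k1 k3 => ⟨hsup.mpr ⟨k1.1, k3.1⟩, ?_⟩,
      fun k2 k3 => ⟨(hsup.mp k2.1).1, ?_⟩⟩
    · have e : KZero.clSub P S.X₃ = KZero.clSub P S.X₂ - KZero.clSub P S.X₁ := by
        rw [hadd k2.1]; abel
      rw [e]
      exact B.sub_mem k2.2 k1.2
    · rw [hadd (hsup.mpr ⟨k1.1, k3.1⟩)]
      exact B.add_mem k1.2 k3.2
    · have e : KZero.clSub P S.X₁ = KZero.clSub P S.X₂ - KZero.clSub P S.X₃ := by
        rw [hadd k2.1]; abel
      rw [e]
      exact B.sub_mem k2.2 k3.2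
  have hext : ∀ S : ShortComplex X.Modules, S.ShortExact → Coh.IsCoh S.X₁ → Coh.IsCoh S.X₂ →
      Coh.IsCoh S.X₃ → K S.X₁ → K S.X₃ → K S.X₂ :=
    fun S hS c1 c2 c3 k1 k3 => (hex S hS c1 c2 c3).2.1 k1 k3
  have hstep : ∀ (Z : Set X) (hZ : IsClosed Z), IsIrreducible Z → Z ⊆ Y' →
      (∀ M : X.Modules, Coh.IsCoh M → CohB1.support M ⊆ Z → CohB1.support M ≠ Z → K M) →
      ∀ G : X.Modules, Coh.IsCoh G →
        ClSub.KilledByIdeal (Scheme.IdealSheafData.vanishingIdeal ⟨Z, hZ⟩) G → K G := by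
    intro Z hZ hZirr hZY IH G hG hk
    have hy : closure {hZirr.genericPoint} = Z := hZirr.closure_genericPoint hZ
    obtain ⟨a, haZ, hlen⟩ := hgen Z hZ hZirr hZY _ hy
    obtain ⟨l⟩ := nonempty_equiv_residueField_of_length_eq_one _ _ hlen
    have hKa : K (F a) := ⟨(hF a).2, AddSubgroup.subset_closure ⟨a, rfl⟩⟩
    exact step_of_rank_one K hex Z hZ _ hy IH (hF a).1 hKa haZ l G hG hk
  rw [eq_top_iff]
  intro x hx
  clear hx
  induction x using QuotientAddGroup.induction_on with
  | H z =>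
    induction z using FreeAbelianGroup.induction_on with
    | zero => exact B.zero_mem
    | of G =>
      have := (induction_on_support K hiso h0 hext Y' hstep G.1 G.2.1 G.2.2).2
      rw [clSub_eq P G.1 G.2] at this
      exact this
    | neg G h => 
      rw [QuotientAddGroup.mk_neg]
      exact B.neg_mem h
    | add a b ha hb =>
      rw [QuotientAddGroup.mk_add]
      exact B.add_mem ha hb

end Groth.Agent.K0Supp9
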