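import Mathlib
import Groth.Prelude
import Groth.Agent.Lib.CycLen8_helper8
import Groth.Agent.Lib.StalkTens2_helper3
import Groth.Agent.Lib.FLF6_helper8
import Groth.Agent.Lib.RelAmpleVan_helper9
import Groth.Agent.Lib.KRRRes2_helper9

/-!
# Tensoring with a bundle of rank `e` is multiplication by `e` on the graded pieces of the
dimension filtration of `K₀(Coh X)` (helper9)

`main7763`, built on helper8's `CycLenH8.clSub_sub_lenSum_mem` and helper3's `stalkTensorIso`.

APPEND-ONLY once landed.
-/

set_option autoImplicit false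

universe u

open CategoryTheory CategoryTheory.Limits AlgebraicGeometry TopologicalSpace IsLocalRing
open TensorProduct

namespace Groth.Agent.K0Supp9

open KZero CohDevH8 CycLenH8

variable {X : Scheme.{u}}

/-- the stalk of `E ⊗ F`, `E` finite locally free of rank `e ≥ 1`, has length `e · length F_x` -/
theorem length_stalk_tensorMod (E F : X.Modules) (e : ℕ) (he : 1 ≤ e)
    (hE : FlatMod.IsFinLocFreeOfRank e E) (x : X) :
    Module.length (X.presheaf.stalk x) ((CohB1.tensorMod E F).presheaf.stalk x) =
      e * Module.length (X.presheaf.stalk x) (F.presheaf.stalk x) := by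
  obtain ⟨hfree, hrank⟩ := FLFH8.free_stalk_of_finLocFreeOfRank E hE x
  haveI := hfree
  haveI : Module.Finite (X.presheaf.stalk x) (E.presheaf.stalk x) :=
    Module.finite_of_finrank_pos (by rw [hrank]; exact he)
  let l1 : (CohB1.tensorMod E F).presheaf.stalk x ≃ₗ[X.presheaf.stalk x]
      (E.presheaf.stalk x) ⊗[X.presheaf.stalk x] (F.presheaf.stalk x) :=
    (Groth.Agent.Lib.StalkTensH3.stalkTensorIso x E F).toLinearEquiv
  let b := Module.Free.chooseBasis (X.presheaf.stalk x) (E.presheaf.stalk x)
  let l2 := TensorProduct.congr b.repr (LinearEquiv.refl (X.presheaf.stalk x) (F.presheaf.stalk x))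
  let l3 := TensorProduct.finsuppScalarLeft (X.presheaf.stalk x) (F.presheaf.stalk x)
    (Module.Free.ChooseBasisIndex (X.presheaf.stalk x) (E.presheaf.stalk x))
  rw [(l1.trans (l2.trans l3)).length_eq, Module.length_finsupp]
  congr 1
  rw [ENat.card_eq_coe_fintype_card, ← Module.finrank_eq_card_chooseBasisIndex, hrank]

theorem support_tensorMod_subset (E F : X.Modules) :
    CohB1.support (CohB1.tensorMod E F) ⊆ CohB1.support F := by
  intro x hx hF
  apply hx
  let l1 : (CohB1.tensorMod E F).presheaf.stalk x ≃ₗ[X.presheaf.stalk x]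
      (E.presheaf.stalk x) ⊗[X.presheaf.stalk x] (F.presheaf.stalk x) :=
    (Groth.Agent.Lib.StalkTensH3.stalkTensorIso x E F).toLinearEquiv
  haveI : Subsingleton (F.presheaf.stalk x) := hF
  haveI : Subsingleton ((E.presheaf.stalk x) ⊗[X.presheaf.stalk x] (F.presheaf.stalk x)) :=
    inferInstance
  exact l1.toEquiv.subsingleton

theorem lenTerm_tensorMod (n : ℕ) (E F : X.Modules) (e : ℕ) (he : 1 ≤ e)
    (hE : FlatMod.IsFinLocFreeOfRank e E) (x : X) :
    lenTerm n (CohB1.tensorMod E F) x = e • lenTerm n F x := by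
  unfold lenTerm
  split_ifs with h
  · rw [length_stalk_tensorMod E F e he hE x, ENat.toNat_mul, ENat.toNat_coe, mul_smul]
  · rw [smul_zero]

variable [IsNoetherian X]

theorem main7763 (E : X.Modules) (e : ℕ) (he : 1 ≤ e) (hE : FlatMod.IsFinLocFreeOfRank e E)
    (F : X.Modules) (hF : Coh.IsCoh F) (r : ℕ)
    (hr : topologicalKrullDim (CohB1.support F) ≤ r) :
    KZero.clSub (fun M : X.Modules => Coh.IsCoh M) (CohB1.tensorMod E F) -
        e • KZero.clSub (fun M : X.Modules => Coh.IsCoh M) F ∈
      AddSubgroup.closure {x : KZero.K0sub (fun M : X.Modules => Coh.IsCoh M) |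
        ∃ G : X.Modules, Coh.IsCoh G ∧ topologicalKrullDim (CohB1.support G) < r ∧
          x = KZero.clSub (fun M : X.Modules => Coh.IsCoh M) G} := by
  haveI := hF.1
  haveI := hF.2
  set B := AddSubgroup.closure {x : KZero.K0sub (fun M : X.Modules => Coh.IsCoh M) |
        ∃ G : X.Modules, Coh.IsCoh G ∧ topologicalKrullDim (CohB1.support G) < r ∧
          x = KZero.clSub (fun M : X.Modules => Coh.IsCoh M) G} with hB
  have hEc : Coh.IsCoh E := Groth.Agent.KRRRes.isCoh_of_vb (FLFH8.IsFinLocFreeOfRank.isFinLocFree E hE)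
  have hEF : Coh.IsCoh (CohB1.tensorMod E F) := RelAmpleVanH9.isCoh_tensorMod hEc hF
  have hsub := support_tensorMod_subset E F
  have hdimEF : topologicalKrullDim (CohB1.support (CohB1.tensorMod E F)) ≤ r :=
    (Topology.IsEmbedding.inclusion hsub).isInducing.topologicalKrullDim_le.trans hr
  have h1 := clSub_sub_lenSum_mem r F hF hr
  have h2 := clSub_sub_lenSum_mem r (CohB1.tensorMod E F) hEF hdimEF
  have hZ₀ : IsClosed (CohB1.support F) := SupportCoh.isClosed_support F
  have hsum : lenSum r (CohB1.tensorMod E F) = e • lenSum r F := by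
    rw [lenSum_eq_sum hZ₀ hr hsub, lenSum_eq_sum hZ₀ hr le_rfl, Finset.smul_sum]
    exact Finset.sum_congr rfl (fun x _ => lenTerm_tensorMod r E F e he hE x)
  have : KZero.clSub (fun M : X.Modules => Coh.IsCoh M) (CohB1.tensorMod E F) -
        e • KZero.clSub (fun M : X.Modules => Coh.IsCoh M) F =
      (KZero.clSub (fun M : X.Modules => Coh.IsCoh M) (CohB1.tensorMod E F) -
        lenSum r (CohB1.tensorMod E F)) -
      e • (KZero.clSub (fun M : X.Modules => Coh.IsCoh M) F - lenSum r F) := by
    rw [hsum, smul_sub]; abel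
  rw [this]
  exact B.sub_mem h2 (B.nsmul_mem h1 e)

end Groth.Agent.K0Supp9
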