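import Mathlib
import Groth.Prelude.Def_KZero
import Groth.Prelude.Def_SGA6
import Groth.Agent.Lib.ResolK0_helper4

/-!
# `K₀` of an increasing union of classes (helper9)
If `P 0 ≤ P 1 ≤ ⋯ ≤ Q`, every object of `Q` lies in some `P m`, and every `K₀(P 0) → K₀(P m)` is
bijective, then `K₀(P 0) → K₀(Q)` is bijective. (Generalizes the last step of helper4's
`ResolK0H4.inc_bijective`.) APPEND-ONLY once landed.
-/

set_option autoImplicit false
set_option linter.style.haveILetI false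
set_option linter.unusedSectionVars false

universe v u

open CategoryTheory Limits KZero

namespace Groth.Agent.K0Union

open Groth.Agent.Lib.KZeroH4 Groth.Agent.Lib.ResolK0H4

variable {C : Type u} [Category.{v} C] [Abelian C]

theorem le_of_mono (P : ℕ → ObjectProperty C) (hmono : ∀ m, P m ≤ P (m + 1)) {a b : ℕ}
    (hab : a ≤ b) : P a ≤ P b := by
  induction hab with
  | refl => exact le_rfl
  | step _ ih => exact ih.trans (hmono _)

theorem inc_bijective_of_union (P : ℕ → ObjectProperty C) (Q : ObjectProperty C)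
    (hmono : ∀ m, P m ≤ P (m + 1)) (hPQ : ∀ m, P m ≤ Q) (hU : ∀ X, Q X → ∃ m, P m X)
    (hbij : ∀ m, Function.Bijective (inc (P 0) (P m) (le_of_mono P hmono (Nat.zero_le m)))) :
    Function.Bijective (inc (P 0) Q (hPQ 0)) := by
  classical
  have h0 : ∀ m, P 0 ≤ P m := fun m => le_of_mono P hmono (Nat.zero_le m)
  have hinj : ∀ m, Function.Injective (inc (P 0) (P m) (h0 m)) := fun m => (hbij m).1
  have hsurj : ∀ m, Function.Surjective (inc (P 0) (P m) (h0 m)) := fun m => (hbij m).2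
  have key : ∀ A : C, Q A → ∃ x : K0sub (P 0), ∀ (k : ℕ) (_ : P k A),
      inc (P 0) (P k) (h0 k) x = clSub (P k) A := by
    intro A hA
    obtain ⟨n, hn⟩ := hU A hA
    obtain ⟨x, hx⟩ := hsurj n (clSub (P n) A)
    refine ⟨x, fun k hk => ?_⟩
    have hnm : n ≤ max n k := le_max_left _ _
    have hkm : k ≤ max n k := le_max_right _ _
    have e1 : inc (P 0) (P (max n k)) (h0 _) x = clSub (P (max n k)) A := by
      have h := inc_comp_apply (P 0) (P n) (P (max n k)) (h0 n) (le_of_mono P hmono hnm) x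
      rw [hx, inc_cl _ _ _ A hn] at h
      exact h.symm
    obtain ⟨y, hy⟩ := hsurj k (clSub (P k) A)
    have e2 : inc (P 0) (P (max n k)) (h0 _) y = clSub (P (max n k)) A := by
      have h := inc_comp_apply (P 0) (P k) (P (max n k)) (h0 k) (le_of_mono P hmono hkm) y
      rw [hy, inc_cl _ _ _ A hk] at h
      exact h.symm
    have hxy : x = y := hinj _ (e1.trans e2.symm)
    rw [hxy, hy]
  choose! f hf using key
  have hadd : ∀ S : ShortComplex C, S.ShortExact → Q S.X₁ → Q S.X₂ → Q S.X₃ →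
      f S.X₂ = f S.X₁ + f S.X₃ := by
    intro S hS h₁ h₂ h₃
    obtain ⟨n₁, hn₁⟩ := hU _ h₁
    obtain ⟨n₂, hn₂⟩ := hU _ h₂
    obtain ⟨n₃, hn₃⟩ := hU _ h₃
    obtain ⟨k, hk₁, hk₂, hk₃⟩ : ∃ k, n₁ ≤ k ∧ n₂ ≤ k ∧ n₃ ≤ k :=
      ⟨max n₁ (max n₂ n₃), le_max_left _ _, le_trans (le_max_left _ _) (le_max_right _ _),
        le_trans (le_max_right _ _) (le_max_right _ _)⟩
    have u₁ := le_of_mono P hmono hk₁ _ hn₁
    have u₂ := le_of_mono P hmono hk₂ _ hn₂
    have u₃ := le_of_mono P hmono hk₃ _ hn₃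
    apply hinj k
    rw [map_add, hf _ h₁ k u₁, hf _ h₂ k u₂, hf _ h₃ k u₃]
    exact clSub_ses (P k) S hS u₁ u₂ u₃
  obtain ⟨ψ, hψ⟩ : ∃ ψ : K0sub Q →+ K0sub (P 0), ∀ (A : C) (_ : Q A), ψ (clSub Q A) = f A :=
    ⟨liftSub Q f hadd, fun A hA => liftSub_clSub Q f hadd A hA⟩
  have hl : ψ.comp (inc (P 0) Q (hPQ 0)) = AddMonoidHom.id _ := homSub_ext (P 0) _ _ (fun A hA => by
    rw [AddMonoidHom.comp_apply, inc_cl _ _ _ A hA, hψ A (hPQ 0 A hA), AddMonoidHom.id_apply]
    apply hinj 0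
    rw [hf A (hPQ 0 A hA) 0 hA, inc_cl _ _ _ A hA])
  have hr : (inc (P 0) Q (hPQ 0)).comp ψ = AddMonoidHom.id _ := homSub_ext Q _ _ (fun A hA => by
    obtain ⟨n, hn⟩ := hU A hA
    rw [AddMonoidHom.comp_apply, hψ A hA, AddMonoidHom.id_apply]
    have h := inc_comp_apply (P 0) (P n) Q (h0 n) (hPQ n) (f A)
    rw [hf A hA n hn, inc_cl _ _ _ A hn] at h
    exact h.symm)
  exact ⟨Function.LeftInverse.injective (g := ψ) (fun x => DFunLike.congr_fun hl x),
    Function.RightInverse.surjective (g := ψ) (fun y => DFunLike.congr_fun hr y)⟩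

/-- step-wise version: it suffices that each `K₀(P m) → K₀(P (m+1))` is bijective -/
theorem inc_bijective_of_union' (P : ℕ → ObjectProperty C) (Q : ObjectProperty C)
    (hmono : ∀ m, P m ≤ P (m + 1)) (hPQ : ∀ m, P m ≤ Q) (hU : ∀ X, Q X → ∃ m, P m X)
    (hstep : ∀ m, Function.Bijective (inc (P m) (P (m + 1)) (hmono m))) :
    Function.Bijective (inc (P 0) Q (hPQ 0)) := by
  refine inc_bijective_of_union P Q hmono hPQ hU (fun m => ?_)
  induction m with
  | zero =>
    rw [inc_self]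
    exact Function.bijective_id
  | succ m ih =>
    have e : (⇑(inc (P m) (P (m + 1)) (hmono m)) ∘
        ⇑(inc (P 0) (P m) (le_of_mono P hmono (Nat.zero_le m)))) =
        ⇑(inc (P 0) (P (m + 1)) (le_of_mono P hmono (Nat.zero_le (m + 1)))) := by
      funext x
      exact inc_comp_apply _ _ _ _ _ x
    rw [← e]
    exact (hstep m).comp ih

/-- `SGA6.mapSub` of the identity functor is `inc` -/
theorem mapSub_id_eq_inc (P Q : ObjectProperty C) (hle : ∀ X, P X → Q X) :
    SGA6.mapSub (𝟭 C) P Q hle = inc P Q hle := homSub_ext P _ _ (fun X hX => by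
  rw [inc_cl _ _ _ X hX, clSub_eq P X hX, clSub_eq Q X (hle X hX)]
  unfold SGA6.mapSub
  rw [QuotientAddGroup.map_mk, FreeAbelianGroup.map_of_apply]
  rfl)

end Groth.Agent.K0Union
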