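import Mathlib

namespace Groth.Agent.Lib.KAS

open Polynomial

universe u

theorem coef_eq {Z : Type*} [CommRing Z] (lam u : Z) (p m : ℕ) (hp1 : 1 ≤ p) (hm1 : 1 ≤ m)
    (q : ℕ) (hq : p.choose m = p * q) (hpu : (p : Z) = lam ^ (p - 1) * u) :
    lam ^ m * (p.choose m : Z) = lam ^ p * ((q : Z) * u * lam ^ (m - 1)) := by
  rw [hq, Nat.cast_mul, hpu]
  obtain ⟨p', rfl⟩ : ∃ p', p = p' + 1 := ⟨p - 1, by omega⟩
  obtain ⟨m', rfl⟩ : ∃ m', m = m' + 1 := ⟨m - 1, by omega⟩
  simp only [Nat.add_sub_cancel]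
  ring

theorem key_i {Z : Type*} [CommRing Z] (lam u : Z) (p : ℕ) (hp : p.Prime)
    (hpu : (p : Z) = lam ^ (p - 1) * u) :
    C (lam ^ p) * (X ^ p + ∑ i ∈ Finset.Ioo 0 p,
        C (((p.choose i / p : ℕ) : Z) * u * lam ^ (i - 1)) * X ^ i)
      = (1 + C lam * X) ^ p - 1 := by
  have hexp : (1 + C lam * X : Z[X]) ^ p =
      ∑ m ∈ Finset.range (p + 1), (C lam * X) ^ m * (p.choose m : Z[X]) := by
    rw [add_comm, add_pow]
    apply Finset.sum_congr rfl
    intro m _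
    rw [one_pow, mul_one]
  have hterm : ∀ m ∈ Finset.Ioo 0 p,
      C (lam ^ p) * (C (((p.choose m / p : ℕ) : Z) * u * lam ^ (m - 1)) * X ^ m) =
        (C lam * X) ^ m * (p.choose m : Z[X]) := by
    intro m hm
    rw [Finset.mem_Ioo] at hm
    have hdvd : p ∣ p.choose m := hp.dvd_choose_self hm.1.ne' hm.2
    have hq : p.choose m = p * (p.choose m / p) := (Nat.mul_div_cancel' hdvd).symm
    have hc := coef_eq lam u p m hp.one_le hm.1 _ hq hpu
    have hC : (C (lam ^ m) * C ((p.choose m : ℕ) : Z) : Z[X]) =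
        C (lam ^ p) * C (((p.choose m / p : ℕ) : Z) * u * lam ^ (m - 1)) := by
      rw [← C_mul, ← C_mul, hc]
    rw [mul_pow, ← C_pow, ← Polynomial.C_eq_natCast]
    linear_combination (-(X : Z[X]) ^ m) * hC
  rw [hexp, Finset.sum_range_succ, Finset.range_eq_Ico, ← Finset.Ioo_insert_left hp.pos,
    Finset.sum_insert Finset.left_notMem_Ioo, mul_add, Finset.mul_sum,
    Finset.sum_congr rfl hterm]
  simp only [pow_zero, Nat.choose_zero_right, Nat.cast_one, mul_one, Nat.choose_self]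
  rw [mul_pow, ← C_pow]
  ring

theorem key_iii {Z T : Type*} [CommRing Z] [CommRing T] [IsDomain T] (f : Z →+* T) (lam : Z)
    (hf : f lam ≠ 0) (P : Z[X]) (p : ℕ)
    (hi : C (lam ^ p) * P = (1 + C lam * X) ^ p - 1) (z₁ z₂ : T) :
    eval₂ f (z₁ + z₂ + f lam * z₁ * z₂) P =
      eval₂ f z₁ P + eval₂ f z₂ P + f (lam ^ p) * eval₂ f z₁ P * eval₂ f z₂ P := by
  have star : ∀ z : T, f (lam ^ p) * eval₂ f z P = (1 + f lam * z) ^ p - 1 := by
    intro z
    have h := congrArg (eval₂ f z) hi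
    simpa only [eval₂_mul, eval₂_C, eval₂_sub, eval₂_pow, eval₂_add, eval₂_one, eval₂_X]
      using h
  have hne : f (lam ^ p) ≠ 0 := by rw [map_pow]; exact pow_ne_zero _ hf
  apply mul_left_cancel₀ hne
  have hw := star (z₁ + z₂ + f lam * z₁ * z₂)
  have hz1 := star z₁
  have hz2 := star z₂
  have hW : (1 + f lam * (z₁ + z₂ + f lam * z₁ * z₂)) ^ p =
      (1 + f lam * z₁) ^ p * (1 + f lam * z₂) ^ p := by
    rw [← mul_pow]; congr 1; ring
  linear_combination hw - hz1 - hz2 - (f (lam ^ p) * eval₂ f z₂ P) * hz1 -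
    ((1 + f lam * z₁) ^ p - 1) * hz2 + hW

theorem u_congr {Z : Type*} [CommRing Z] [IsDomain Z] (lam u : Z) (hlam : lam ≠ 0) (p : ℕ)
    (hp : p.Prime) (hpu : (p : Z) = lam ^ (p - 1) * u) (hz : (1 - lam) ^ p = 1) :
    u + 1 ∈ Ideal.span {lam} := by
  have hi := key_i lam u p hp hpu
  have he := congrArg (eval (-1)) hi
  simp only [eval_mul, eval_C, eval_add, eval_pow, eval_X, eval_finsetSum, eval_sub,
    eval_one] at he
  have h0 : (1 + lam * (-1)) ^ p - 1 = 0 := by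
    rw [mul_neg_one, ← sub_eq_add_neg, hz, sub_self]
  rw [h0] at he
  have h1 : ((-1 : Z)) ^ p + ∑ i ∈ Finset.Ioo 0 p,
      ((p.choose i / p : ℕ) : Z) * u * lam ^ (i - 1) * (-1) ^ i = 0 := by
    rcases mul_eq_zero.mp he with h | h
    · exact absurd h (pow_ne_zero _ hlam)
    · exact h
  rw [← Ideal.Quotient.eq_zero_iff_mem]
  have h2 := congrArg (Ideal.Quotient.mk (Ideal.span {lam})) h1
  rw [map_add, map_sum, map_zero] at h2
  have hlam0 : Ideal.Quotient.mk (Ideal.span {lam}) lam = 0 :=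
    Ideal.Quotient.eq_zero_iff_mem.mpr (Ideal.mem_span_singleton_self lam)
  have h1mem : 1 ∈ Finset.Ioo 0 p := Finset.mem_Ioo.mpr ⟨Nat.one_pos, hp.one_lt⟩
  have hb1 : ((p.choose 1 / p : ℕ) : Z) * u * lam ^ (1 - 1) * (-1) ^ 1 = -u := by
    rw [Nat.choose_one_right, Nat.div_self hp.pos]; simp
  rw [Finset.sum_eq_single_of_mem 1 h1mem, hb1, map_neg, map_pow, map_neg, map_one] at h2
  · have hp0 : Ideal.Quotient.mk (Ideal.span {lam}) ((p : ℕ) : Z) = 0 := by
      rw [hpu, map_mul, map_pow, hlam0, zero_pow (Nat.sub_ne_zero_of_lt hp.one_lt), zero_mul]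
    have hneg : ((-1 : Z ⧸ Ideal.span {lam})) ^ p = -1 := by
      rcases hp.eq_two_or_odd' with h2' | hodd
      · subst h2'
        have h2z : (2 : Z ⧸ Ideal.span {lam}) = 0 := by
          have := hp0
          rw [map_natCast] at this
          exact_mod_cast this
        linear_combination h2z
      · exact hodd.neg_one_pow
    rw [map_add, map_one]
    rw [hneg] at h2
    linear_combination -h2
  · intro i hi hi1
    rw [Finset.mem_Ioo] at hi
    have hi2 : i - 1 ≠ 0 := by omega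
    apply Ideal.Quotient.eq_zero_iff_mem.mpr
    apply Ideal.mem_span_singleton.mpr
    exact Dvd.dvd.mul_right (Dvd.dvd.mul_left (dvd_pow_self lam hi2) _) _

section Universal


theorem prime_cyc (p : ℕ) (hp : p.Prime) : Prime (cyclotomic p ℤ) :=
  UniqueFactorizationMonoid.irreducible_iff_prime.mp (cyclotomic.irreducible hp.pos)

theorem isDomainZ (p : ℕ) (hp : p.Prime) : IsDomain (AdjoinRoot (cyclotomic p ℤ)) :=
  AdjoinRoot.isDomain_of_prime (prime_cyc p hp)

theorem charZeroZ (p : ℕ) (hp : p.Prime) : CharZero (AdjoinRoot (cyclotomic p ℤ)) :=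
  charZero_of_injective_ringHom
    (AdjoinRoot.of.injective_of_degree_ne_zero (degree_cyclotomic_pos p ℤ hp.pos).ne')

theorem primZ (p : ℕ) (hp : p.Prime) : IsPrimitiveRoot (AdjoinRoot.root (cyclotomic p ℤ)) p := by
  haveI := isDomainZ p hp
  haveI := charZeroZ p hp
  haveI : NeZero ((p : ℕ) : AdjoinRoot (cyclotomic p ℤ)) := ⟨by exact_mod_cast hp.ne_zero⟩
  rw [← isRoot_cyclotomic_iff, ← map_cyclotomic p (AdjoinRoot.of (cyclotomic p ℤ))]
  exact AdjoinRoot.isRoot_root _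

theorem exists_u (p : ℕ) (hp : p.Prime) : ∃ u : AdjoinRoot (cyclotomic p ℤ),
    ((p : ℕ) : AdjoinRoot (cyclotomic p ℤ)) =
      (1 - AdjoinRoot.root (cyclotomic p ℤ)) ^ (p - 1) * u := by
  haveI := isDomainZ p hp
  haveI : Fact p.Prime := ⟨hp⟩
  haveI : NeZero p := ⟨hp.ne_zero⟩
  have hprim := primZ p hp
  have hprod : ((p : ℕ) : AdjoinRoot (cyclotomic p ℤ)) =
      ∏ μ ∈ primitiveRoots p (AdjoinRoot (cyclotomic p ℤ)), (1 - μ) := by
    have h1 := congrArg (eval 1) (cyclotomic_eq_prod_X_sub_primitiveRoots hprim)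
    rw [eval_one_cyclotomic_prime, eval_prod] at h1
    rw [h1]
    apply Finset.prod_congr rfl
    intro μ _
    rw [eval_sub, eval_X, eval_C]
  have hdvd : (1 - AdjoinRoot.root (cyclotomic p ℤ)) ^ (p - 1) ∣
      ((p : ℕ) : AdjoinRoot (cyclotomic p ℤ)) := by
    rw [hprod]
    have hcard : (primitiveRoots p (AdjoinRoot (cyclotomic p ℤ))).card = p - 1 := by
      rw [hprim.card_primitiveRoots, Nat.totient_prime hp]
    rw [← hcard, ← Finset.prod_const]
    apply Finset.prod_dvd_prod_of_dvd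
    intro μ hμ
    rw [mem_primitiveRoots hp.pos] at hμ
    obtain ⟨i, _, rfl⟩ := hprim.eq_pow_of_pow_eq_one hμ.pow_eq_one
    exact ⟨∑ j ∈ Finset.range i, (AdjoinRoot.root (cyclotomic p ℤ)) ^ j,
      (mul_neg_geom_sum _ i).symm⟩
  obtain ⟨u, hu⟩ := hdvd
  exact ⟨u, hu⟩

end Universal

theorem main (p : ℕ) (hp : p.Prime) (A : Type u) [CommRing A] (ζ : A)
    (hζ : aeval ζ (cyclotomic p ℤ) = 0) :
    ∃ P : A[X], C ((1 - ζ) ^ p) * P = (1 + C (1 - ζ) * X) ^ p - 1 ∧
      (∃ a : ℕ → A, (∀ i, a i ∈ Ideal.span {1 - ζ}) ∧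
        P = X ^ p - X + (Finset.Ioo 0 p).sum (fun i => C (a i) * X ^ i)) ∧
      ∀ (S : Type u) [CommRing S] [Algebra A S] (z₁ z₂ : S),
        aeval (z₁ + z₂ + algebraMap A S (1 - ζ) * z₁ * z₂) P =
          aeval z₁ P + aeval z₂ P + algebraMap A S ((1 - ζ) ^ p) * aeval z₁ P * aeval z₂ P := by
  haveI := isDomainZ p hp
  have hprim := primZ p hp
  obtain ⟨u, hpu⟩ := exists_u p hp
  obtain ⟨lam, hlamdef⟩ : ∃ l : AdjoinRoot (cyclotomic p ℤ),
      l = 1 - AdjoinRoot.root (cyclotomic p ℤ) := ⟨_, rfl⟩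
  rw [← hlamdef] at hpu
  have hlam : lam ≠ 0 := by
    rw [hlamdef]
    exact sub_ne_zero.mpr (hprim.ne_one hp.one_lt).symm
  have hz : (1 - lam) ^ p = 1 := by
    rw [hlamdef, sub_sub_cancel]; exact hprim.pow_eq_one
  have hu1 : u + 1 ∈ Ideal.span {lam} := u_congr lam u hlam p hp hpu hz
  have hi := key_i lam u p hp hpu
  obtain ⟨PZ, hPZ⟩ : ∃ PZ : (AdjoinRoot (cyclotomic p ℤ))[X], PZ = X ^ p + ∑ i ∈ Finset.Ioo 0 p,
        C (((p.choose i / p : ℕ) : AdjoinRoot (cyclotomic p ℤ)) * u * lam ^ (i - 1)) * X ^ i :=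
    ⟨_, rfl⟩
  rw [← hPZ] at hi
  -- the coefficients
  obtain ⟨a', ha'⟩ : ∃ a' : ℕ → AdjoinRoot (cyclotomic p ℤ), a' = fun i =>
      if i = 1 then u + 1 else if i = 0 then 0 else
        ((p.choose i / p : ℕ) : AdjoinRoot (cyclotomic p ℤ)) * u * lam ^ (i - 1) := ⟨_, rfl⟩
  have ha'mem : ∀ i, lam ∣ a' i := by
    intro i
    rw [ha']
    by_cases h1 : i = 1
    · simp only [h1, if_true]; exact Ideal.mem_span_singleton.mp hu1
    by_cases h0 : i = 0
    · simp only [h0, if_true]; simp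
    · simp only [h1, h0, if_false]
      exact Dvd.dvd.mul_left (dvd_pow_self lam (by omega)) _
  have h1mem : 1 ∈ Finset.Ioo 0 p := Finset.mem_Ioo.mpr ⟨Nat.one_pos, hp.one_lt⟩
  have hPZ' : PZ = X ^ p - X + ∑ i ∈ Finset.Ioo 0 p, C (a' i) * X ^ i := by
    have hsum : ∑ i ∈ Finset.Ioo 0 p, C (a' i) * X ^ i =
        ∑ i ∈ Finset.Ioo 0 p,
          C (((p.choose i / p : ℕ) : AdjoinRoot (cyclotomic p ℤ)) * u * lam ^ (i - 1)) * X ^ i
          + X := by
      have hterm : ∀ i ∈ Finset.Ioo 0 p, C (a' i) * X ^ i =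
          C (((p.choose i / p : ℕ) : AdjoinRoot (cyclotomic p ℤ)) * u * lam ^ (i - 1)) * X ^ i
            + (if i = 1 then X else 0) := by
        intro i hi'
        rw [Finset.mem_Ioo] at hi'
        rw [ha']
        by_cases h1 : i = 1
        · subst h1
          simp only [if_true]
          rw [Nat.choose_one_right, Nat.div_self hp.pos]
          simp only [Nat.cast_one, one_mul, Nat.sub_self, pow_zero, mul_one, pow_one, C_add, C_1]
          ring
        · have h0 : i ≠ 0 := by omega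
          simp only [h1, h0, if_false, add_zero]
      rw [Finset.sum_congr rfl hterm, Finset.sum_add_distrib, Finset.sum_ite_eq', if_pos h1mem]
    rw [hsum, hPZ]; ring
  -- the map to A
  have h0 : (cyclotomic p ℤ).eval₂ (Int.castRingHom A) ζ = 0 := by
    rw [← algebraMap_int_eq, ← aeval_def]; exact hζ
  obtain ⟨φ, hφ⟩ : ∃ φ : AdjoinRoot (cyclotomic p ℤ) →+* A,
      φ = AdjoinRoot.lift (Int.castRingHom A) ζ h0 := ⟨_, rfl⟩
  have hφlam : φ lam = 1 - ζ := by
    rw [hlamdef, map_sub, map_one, hφ, AdjoinRoot.lift_root]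
  refine ⟨PZ.map φ, ?_, ⟨fun i => φ (a' i), ?_, ?_⟩, ?_⟩
  · have h := congrArg (Polynomial.map φ) hi
    simp only [Polynomial.map_mul, Polynomial.map_C, Polynomial.map_sub, Polynomial.map_pow,
      Polynomial.map_add, Polynomial.map_one, Polynomial.map_X, map_pow, hφlam] at h
    rw [C_pow]
    exact h
  · intro i
    apply Ideal.mem_span_singleton.mpr
    rw [← hφlam]
    exact map_dvd φ (ha'mem i)
  · rw [hPZ']
    simp only [Polynomial.map_add, Polynomial.map_sub, Polynomial.map_pow, Polynomial.map_X,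
      Polynomial.map_sum, Polynomial.map_mul, Polynomial.map_C]
  · intro S _ _ z₁ z₂
    have hC : (MvPolynomial.C : AdjoinRoot (cyclotomic p ℤ) →+*
        MvPolynomial (Fin 2) (AdjoinRoot (cyclotomic p ℤ))) lam ≠ 0 := by
      intro h
      exact hlam ((MvPolynomial.C_injective (Fin 2) _) (by rw [h, map_zero]))
    have hT := key_iii (MvPolynomial.C : AdjoinRoot (cyclotomic p ℤ) →+*
        MvPolynomial (Fin 2) (AdjoinRoot (cyclotomic p ℤ))) lam hC PZ p hi
        (MvPolynomial.X 0) (MvPolynomial.X 1)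
    obtain ⟨ψ, hψ⟩ : ∃ ψ : MvPolynomial (Fin 2) (AdjoinRoot (cyclotomic p ℤ)) →+* S,
        ψ = MvPolynomial.eval₂Hom ((algebraMap A S).comp φ) ![z₁, z₂] := ⟨_, rfl⟩
    have hψC : ψ.comp MvPolynomial.C = (algebraMap A S).comp φ := by
      rw [hψ]; refine RingHom.ext fun r => ?_; simp
    have hψ0 : ψ (MvPolynomial.X 0) = z₁ := by rw [hψ]; simp
    have hψ1 : ψ (MvPolynomial.X 1) = z₂ := by rw [hψ]; simp
    have hψlam : ψ (MvPolynomial.C lam) = algebraMap A S (1 - ζ) := by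
      have := RingHom.congr_fun hψC lam
      rw [RingHom.comp_apply, RingHom.comp_apply, hφlam] at this
      exact this
    have hψlamp : ψ (MvPolynomial.C (lam ^ p)) = algebraMap A S ((1 - ζ) ^ p) := by
      rw [map_pow, map_pow, hψlam, map_pow]
    have hT' := congrArg ψ hT
    simp only [map_add, map_mul, Polynomial.hom_eval₂, hψC, hψ0, hψ1, hψlam, hψlamp] at hT'
    simp only [aeval_def, Polynomial.eval₂_map]
    exact hT'

end Groth.Agent.Lib.KAS
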