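import Groth.Agent.Lib.GoodTensor_helper2
import Groth.Agent.Lib.FPExact_helper2
import Groth.Agent.Lib.KFlatMod2_helper2
import Groth.Prelude.Def_DRing2

/-!
# A complex `K` with `K ⊗ M` acyclic for all finitely presented `M` is K-flat (helper2)
-/

set_option autoImplicit false
universe u
open CategoryTheory Limits MonoidalCategory

namespace Groth.Agent.Lib.KFlatFP

open Groth.Agent.Lib.KFlatGen Groth.Agent.Lib.KFlatMod Groth.Agent.Lib.GoodTensor

variable (R : Type u) [CommRing R] (K : DRing.Cx R)

lemma tensorCx_d_hom (N : ModuleCat.{u} R) (i j : ℤ) :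
    ((DRing.tensorCx K N).d i j).hom = LinearMap.rTensor N (K.d i j).hom := rfl

/-- elementwise form of exactness of `K ⊗ N` at `i` -/
lemma exactAt_tensorCx_iff (N : ModuleCat.{u} R) (i : ℤ) :
    (DRing.tensorCx K N).ExactAt i ↔
      ∀ z : TensorProduct R (K.X i) N, LinearMap.rTensor N (K.d i (i + 1)).hom z = 0 →
        z ∈ LinearMap.range (LinearMap.rTensor N (K.d (i - 1) i).hom) := by
  rw [HomologicalComplex.exactAt_iff' _ (i - 1) i (i + 1) (by simp) (by simp),
    ShortComplex.moduleCat_exact_iff]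
  rfl

/-- `K ⊗ N` is acyclic for every module `N` -/
theorem acyclic_tensorCx_of_fp
    (hK : ∀ (M : Type u) [AddCommGroup M] [Module R M], Module.FinitePresentation R M →
      (∀ i : ℤ, IsZero ((DRing.tensorCx K (ModuleCat.of R M)).homology i)))
    (N : ModuleCat.{u} R) : (DRing.tensorCx K N).Acyclic := by
  intro i
  rw [exactAt_tensorCx_iff]
  intro z hz
  refine Groth.Agent.Lib.FPExact.rTensor_all (K.d (i - 1) i).hom (K.d i (i + 1)).hom ?_ N z hz
  intro M _ _ hM
  have h := (HomologicalComplex.exactAt_iff_isZero_homology _ _).2 (hK M hM i)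
  rw [exactAt_tensorCx_iff] at h
  exact h

/-- `F(K^•, M)` in the flipped form -/
theorem acyclic_flip_of_fp
    (hK : ∀ (M : Type u) [AddCommGroup M] [Module R M], Module.FinitePresentation R M →
      (∀ i : ℤ, IsZero ((DRing.tensorCx K (ModuleCat.of R M)).homology i)))
    (N : ModuleCat.{u} R) :
    ((((T R).flip.obj N).mapHomologicalComplex (ComplexShape.up ℤ)).obj K).Acyclic :=
  Groth.Agent.Lib.BifCone.acyclic_of_iso
    ((NatIso.mapHomologicalComplex (flipObjIso R N) (ComplexShape.up ℤ)).app K).symm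
    (acyclic_tensorCx_of_fp R K hK N)

/-- **S6904** -/
theorem kflat_of_fp
    (hK : ∀ (M : Type u) [AddCommGroup M] [Module R M], Module.FinitePresentation R M →
      (∀ i : ℤ, IsZero ((DRing.tensorCx K (ModuleCat.of R M)).homology i))) :
    ∀ L : DRing.Cx R, (∀ i : ℤ, IsZero (L.homology i)) → ∀ i : ℤ, IsZero ((L ⊗ K).homology i) := by
  intro L _ i
  have hg : Good (T R) K L := good_all (acyclic_flip_of_fp R K hK) L
  have h2 : (HomologicalComplex.mapBifunctor L K (T R) (ComplexShape.up ℤ)).Acyclic :=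
    Groth.Agent.Lib.BifCone.acyclic_of_iso
      (tensorCxSymm (BraidedCategory.curriedBraidingNatIso (ModuleCat.{u} R)) K L) hg
  exact (HomologicalComplex.exactAt_iff_isZero_homology _ _).1 (h2 i)

end Groth.Agent.Lib.KFlatFP
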