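import Groth.Agent.Lib.KFlatGen8_helper2
import Groth.Agent.Lib.AssocNat_helper2

/-!
# K-flat complexes with respect to a bifunctor (helper2), part X:
consequences of an associativity isomorphism of trifunctors
-/

set_option autoImplicit false
universe w v u
open CategoryTheory Limits

namespace Groth.Agent.Lib.KFlatGen

open Groth.Agent.Lib.BifCone

variable {𝒜 : Type u} [Category.{v} 𝒜] [Abelian 𝒜]
  (F : 𝒜 ⥤ 𝒜 ⥤ 𝒜) [F.Additive] [∀ X, (F.obj X).Additive]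
  [∀ (K₁ K₂ : CochainComplex 𝒜 ℤ), CochainComplex.HasMapBifunctor K₁ K₂ F]
  (assoc : bifunctorComp₁₂ F F ≅ bifunctorComp₂₃ F F)
  [∀ K₁ K₂ K₃ : CochainComplex 𝒜 ℤ, HomologicalComplex.HasGoodTrifunctor₁₂Obj F F K₁ K₂ K₃
    (ComplexShape.up ℤ) (ComplexShape.up ℤ)]
  [∀ K₁ K₂ K₃ : CochainComplex 𝒜 ℤ, HomologicalComplex.HasGoodTrifunctor₂₃Obj F F K₁ K₂ K₃
    (ComplexShape.up ℤ) (ComplexShape.up ℤ) (ComplexShape.up ℤ)]

/-- the associativity isomorphism of total complexes -/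
noncomputable def totAssoc (K₁ K₂ K₃ : CochainComplex 𝒜 ℤ) :
    HomologicalComplex.mapBifunctor (HomologicalComplex.mapBifunctor K₁ K₂ F (ComplexShape.up ℤ)) K₃ F
        (ComplexShape.up ℤ) ≅
      HomologicalComplex.mapBifunctor K₁ (HomologicalComplex.mapBifunctor K₂ K₃ F (ComplexShape.up ℤ)) F
        (ComplexShape.up ℤ) :=
  HomologicalComplex.mapBifunctorAssociator assoc K₁ K₂ K₃
    (ComplexShape.up ℤ) (ComplexShape.up ℤ) (ComplexShape.up ℤ)

include assoc in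
/-- the tensor product of K-flat complexes is K-flat -/
theorem isKFlat_tensor (K L : CochainComplex 𝒜 ℤ) (hK : IsKFlat F K) (hL : IsKFlat F L) :
    IsKFlat F (HomologicalComplex.mapBifunctor K L F (ComplexShape.up ℤ)) := by
  intro A hA
  exact acyclic_of_iso (totAssoc F assoc A K L) (hL _ (hK A hA))

/-- `(- ⊗ R) ⊗ L ≅ - ⊗ (R ⊗ L)`, naturally -/
noncomputable def assocNatIso (R L : CochainComplex 𝒜 ℤ) :
    F.map₂CochainComplex.flip.obj R ⋙ F.map₂CochainComplex.flip.obj L ≅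
      F.map₂CochainComplex.flip.obj
        (HomologicalComplex.mapBifunctor R L F (ComplexShape.up ℤ)) :=
  NatIso.ofComponents (fun X => totAssoc F assoc X R L) (by
    intro X Y f
    exact Groth.Agent.Lib.AssocNat.mapBifunctorAssociator_hom_naturality₁ assoc R L
      (ComplexShape.up ℤ) (ComplexShape.up ℤ) (ComplexShape.up ℤ) f)

variable [HasDerivedCategory.{w} 𝒜]
variable (σ : F ≅ F.flip) {Fl P : 𝒜 → Prop} (hFl : FlatClass F Fl) (hP : ResClass Fl P)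
  [HasCoproducts.{0} 𝒜]
  [∀ n : ℤ, HasExactColimitsOfShape (Discrete (BifSES.Idx n)) 𝒜]
  [HasColimitsOfShape ℕ 𝒜] [HasExactColimitsOfShape ℕ 𝒜]
  [∀ X : 𝒜, PreservesColimitsOfShape ℕ (F.obj X)]

include assoc σ hFl hP in
/-- **`- ⊗^L (K ⊗ L) ≅ (- ⊗^L K) ⊗^L L` for `L` K-flat** -/
theorem nonempty_derived_comp_iso (K L : CochainComplex 𝒜 ℤ) (hL : IsKFlat F L)
    (LK LL LKL : DerivedCategory 𝒜 ⥤ DerivedCategory 𝒜)
    (αK : DerivedCategory.Q ⋙ LK ⟶ F.map₂CochainComplex.flip.obj K ⋙ DerivedCategory.Q)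
    [LK.IsLeftDerivedFunctor αK (HomologicalComplex.quasiIso 𝒜 (ComplexShape.up ℤ))]
    (αL : DerivedCategory.Q ⋙ LL ⟶ F.map₂CochainComplex.flip.obj L ⋙ DerivedCategory.Q)
    [LL.IsLeftDerivedFunctor αL (HomologicalComplex.quasiIso 𝒜 (ComplexShape.up ℤ))]
    (αKL : DerivedCategory.Q ⋙ LKL ⟶ F.map₂CochainComplex.flip.obj
      (HomologicalComplex.mapBifunctor K L F (ComplexShape.up ℤ)) ⋙ DerivedCategory.Q)
    [LKL.IsLeftDerivedFunctor αKL (HomologicalComplex.quasiIso 𝒜 (ComplexShape.up ℤ))] :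
    Nonempty (LKL ≅ LK ⋙ LL) := by
  obtain ⟨R, π, hR, -, hπ, -⟩ := exists_kflat_resolution hFl hP K
  haveI := hπ
  haveI : QuasiIso (HomologicalComplex.mapBifunctorMap π (𝟙 L) F (ComplexShape.up ℤ)) :=
    quasiIso_mapBifunctorMap₁ F L hL π
  have hRL := isKFlat_tensor F assoc R L hR hL
  obtain ⟨e1⟩ := nonempty_natIso_of_kflat_resolution F σ hFl hP
    (HomologicalComplex.mapBifunctor K L F (ComplexShape.up ℤ))
    (HomologicalComplex.mapBifunctor R L F (ComplexShape.up ℤ))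
    (HomologicalComplex.mapBifunctorMap π (𝟙 L) F (ComplexShape.up ℤ)) hRL LKL αKL
  obtain ⟨e2⟩ := nonempty_natIso_of_kflat_resolution F σ hFl hP K R π hR LK αK
  haveI : QuasiIso (𝟙 L) := inferInstance
  obtain ⟨e3⟩ := nonempty_natIso_of_kflat_resolution F σ hFl hP L L (𝟙 L) hL LL αL
  let e4 : DerivedCategory.Q ⋙ (LK ⋙ LL) ≅
      F.map₂CochainComplex.flip.obj (HomologicalComplex.mapBifunctor R L F (ComplexShape.up ℤ)) ⋙
        DerivedCategory.Q :=
    (Functor.associator _ _ _).symm ≪≫ Functor.isoWhiskerRight e2 LL ≪≫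
      Functor.associator _ _ _ ≪≫ Functor.isoWhiskerLeft _ e3 ≪≫
      (Functor.associator _ _ _).symm ≪≫
      Functor.isoWhiskerRight (assocNatIso F assoc R L) DerivedCategory.Q
  exact ⟨Localization.liftNatIso DerivedCategory.Q
    (HomologicalComplex.quasiIso 𝒜 (ComplexShape.up ℤ)) (DerivedCategory.Q ⋙ LKL)
    (DerivedCategory.Q ⋙ (LK ⋙ LL)) LKL (LK ⋙ LL) (e1 ≪≫ e4.symm)⟩

end Groth.Agent.Lib.KFlatGen
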