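import Groth.Agent.Lib.BifSES_helper2
import Groth.Agent.Lib.BifSingle_helper2
import Groth.Agent.Lib.BifColim_helper2
import Groth.Agent.Lib.BrutalTrunc_helper2
import Mathlib.Algebra.Homology.Embedding.CochainComplex

/-!
# K-flat complexes with respect to a bifunctor `F : 𝒜 ⥤ 𝒜 ⥤ 𝒜` (helper2), part I

Generic versions of the results of `KFlatSite1–4`: two out of three in short exact sequences and
mapping cones, complexes concentrated in one degree, colimits, bounded above complexes of flat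
objects.
-/

set_option autoImplicit false
universe v u
open CategoryTheory Limits ZeroObject

namespace Groth.Agent.Lib.KFlatGen

open Groth.Agent.Lib.BifCone Groth.Agent.Lib.BrutalTrunc

variable {𝒜 : Type u} [Category.{v} 𝒜] [Abelian 𝒜]
  (F : 𝒜 ⥤ 𝒜 ⥤ 𝒜) [F.Additive] [∀ X, (F.obj X).Additive]
  [∀ (K₁ K₂ : CochainComplex 𝒜 ℤ), CochainComplex.HasMapBifunctor K₁ K₂ F]

/-- K-flatness with respect to the bifunctor `F` -/
def IsKFlat (K : CochainComplex 𝒜 ℤ) : Prop :=
  ∀ L : CochainComplex 𝒜 ℤ, L.Acyclic →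
    (HomologicalComplex.mapBifunctor L K F (ComplexShape.up ℤ)).Acyclic

/-- the hypotheses on a class `Fl` of "flat" objects -/
structure FlatClass (Fl : 𝒜 → Prop) : Prop where
  tensor_left : ∀ (S : ShortComplex 𝒜), S.ShortExact → Fl S.X₃ → ∀ G : 𝒜,
    (S.map (F.obj G)).ShortExact
  preservesFiniteLimits : ∀ M, Fl M → PreservesFiniteLimits (F.flip.obj M)
  preservesFiniteColimits : ∀ M, Fl M → PreservesFiniteColimits (F.flip.obj M)
  of_iso : ∀ {M M' : 𝒜}, (M ≅ M') → Fl M → Fl M'
  of_isZero : ∀ M, IsZero M → Fl M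

variable {F}

theorem isKFlat_of_iso {K K' : CochainComplex 𝒜 ℤ} (e : K ≅ K') (h : IsKFlat F K) :
    IsKFlat F K' := fun L hL =>
  acyclic_of_iso ((F.map₂CochainComplex.obj L).mapIso e) (h L hL)

theorem acyclic_of_isZero {K : CochainComplex 𝒜 ℤ} (hK : IsZero K) : K.Acyclic := by
  intro i
  rw [HomologicalComplex.exactAt_iff_isZero_homology]
  exact Functor.map_isZero (HomologicalComplex.homologyFunctor 𝒜 (ComplexShape.up ℤ) i) hK

theorem isKFlat_of_isZero_X (K : CochainComplex 𝒜 ℤ) (hK : ∀ n, IsZero (K.X n)) :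
    IsKFlat F K := by
  have hK' : IsZero K := by
    rw [IsZero.iff_id_eq_zero]
    refine HomologicalComplex.hom_ext _ _ (fun n => ?_)
    exact (hK n).eq_of_src _ _
  intro L _
  exact acyclic_of_isZero (Functor.map_isZero (F.map₂CochainComplex.obj L) hK')

/-- two out of three for mapping cones -/
theorem isKFlat_mappingCone {K₁ K₂ : CochainComplex 𝒜 ℤ} (φ : K₁ ⟶ K₂) :
    (IsKFlat F K₁ → IsKFlat F K₂ → IsKFlat F (CochainComplex.mappingCone φ)) ∧
    (IsKFlat F K₁ → IsKFlat F (CochainComplex.mappingCone φ) → IsKFlat F K₂) ∧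
    (IsKFlat F K₂ → IsKFlat F (CochainComplex.mappingCone φ) → IsKFlat F K₁) := by
  have iso : ∀ L : CochainComplex 𝒜 ℤ,
      HomologicalComplex.mapBifunctor L (CochainComplex.mappingCone φ) F (ComplexShape.up ℤ) ≅
      CochainComplex.mappingCone (HomologicalComplex.mapBifunctorMap (𝟙 L) φ F
        (ComplexShape.up ℤ)) :=
    fun L => mapBifunctorConeIso₂ F L φ
  refine ⟨?_, ?_, ?_⟩
  · intro h1 h2 L hL
    exact acyclic_of_iso (iso L).symm (acyclic_mappingCone_of_acyclic _ (h1 L hL) (h2 L hL))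
  · intro h1 h3 L hL
    exact acyclic_tgt_of_acyclic_mappingCone _ (h1 L hL) (acyclic_of_iso (iso L) (h3 L hL))
  · intro h2 h3 L hL
    exact acyclic_src_of_acyclic_mappingCone _ (h2 L hL) (acyclic_of_iso (iso L) (h3 L hL))

section SES

variable {Fl : 𝒜 → Prop} (hFl : FlatClass F Fl) [HasCoproducts.{0} 𝒜]
  [∀ n : ℤ, HasExactColimitsOfShape (Discrete (BifSES.Idx n)) 𝒜]

include hFl

theorem shortExact_tensorCx (L : CochainComplex 𝒜 ℤ)
    (S : ShortComplex (CochainComplex 𝒜 ℤ)) (hS : S.ShortExact)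
    (h3 : ∀ n : ℤ, Fl (S.X₃.X n)) :
    (S.map (F.map₂CochainComplex.obj L)).ShortExact := by
  apply BifSES.shortExact_mapBifunctor₂ F L S
  intro p q
  have hq : (S.map (HomologicalComplex.eval 𝒜 (ComplexShape.up ℤ) q)).ShortExact :=
    (HomologicalComplex.shortExact_iff_degreewise_shortExact S).1 hS q
  exact hFl.tensor_left _ hq (h3 q) (L.X p)

theorem isKFlat_shortExact (S : ShortComplex (CochainComplex 𝒜 ℤ)) (hS : S.ShortExact)
    (h3 : ∀ n : ℤ, Fl (S.X₃.X n)) :
    (IsKFlat F S.X₁ → IsKFlat F S.X₂ → IsKFlat F S.X₃) ∧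
    (IsKFlat F S.X₁ → IsKFlat F S.X₃ → IsKFlat F S.X₂) ∧
    (IsKFlat F S.X₂ → IsKFlat F S.X₃ → IsKFlat F S.X₁) := by
  have key := fun L => shortExact_tensorCx hFl L S hS h3
  refine ⟨?_, ?_, ?_⟩
  · intro h1 h2 L hL i
    have e1 := fun j => (HomologicalComplex.exactAt_iff_isZero_homology _ _).1 (h1 L hL j)
    have e2 := fun j => (HomologicalComplex.exactAt_iff_isZero_homology _ _).1 (h2 L hL j)
    exact (key L).exactAt_X₃ i ((e2 i).epi _) (fun j _ => (e1 j).mono _)
  · intro h1 h3' L hL i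
    exact (key L).exactAt_X₂ i (h1 L hL i) (h3' L hL i)
  · intro h2 h3' L hL i
    have e2 := fun j => (HomologicalComplex.exactAt_iff_isZero_homology _ _).1 (h2 L hL j)
    have e3 := fun j => (HomologicalComplex.exactAt_iff_isZero_homology _ _).1 (h3' L hL j)
    exact (key L).exactAt_X₁ i ((e2 i).mono _) (fun j _ => (e3 j).epi _)

omit [HasCoproducts.{0} 𝒜] [∀ n : ℤ, HasExactColimitsOfShape (Discrete (BifSES.Idx n)) 𝒜] in
/-- a flat object placed in a single degree is K-flat -/
theorem isKFlat_single (M : 𝒜) (hM : Fl M) (a : ℤ) :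
    IsKFlat F ((HomologicalComplex.single 𝒜 (ComplexShape.up ℤ) a).obj M) := by
  intro L hL
  haveI := hFl.preservesFiniteLimits M hM
  haveI := hFl.preservesFiniteColimits M hM
  exact BifSingle.acyclic_mapBifunctor_single F L M a hL

/-- brutal truncations of a bounded above complex of flat objects are K-flat -/
theorem isKFlat_sigmaGE (K : CochainComplex 𝒜 ℤ) (b : ℤ) [K.IsStrictlyLE b]
    (hflat : ∀ n : ℤ, Fl (K.X n)) (m : ℤ) : IsKFlat F (sigmaGE K m) := by
  suffices H : ∀ (k : ℕ) (m : ℤ), b + 1 - m ≤ k → IsKFlat F (sigmaGE K m) from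
    H (b + 1 - m).toNat m (by omega)
  intro k
  induction k with
  | zero =>
    intro m hm
    apply isKFlat_of_isZero_X
    intro n
    by_cases hn : m ≤ n
    · exact isZero_sigmaGE_X' K m n (K.isZero_of_isStrictlyLE b n (by omega))
    · exact isZero_sigmaGE_X K hn
  | succ k ih =>
    intro m hm
    by_cases hm' : b + 1 - m ≤ k
    · exact ih m hm'
    · have h1 : IsKFlat F (sigmaGE K (m + 1)) := ih (m + 1) (by omega)
      have hS := sc_shortExact K m (m + 1) rfl
      refine (isKFlat_shortExact hFl (sc K m (m + 1) rfl) hS ?_).2.1 h1 ?_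
      · intro n
        by_cases hn : n = m
        · subst hn
          exact hFl.of_iso
            (HomologicalComplex.singleObjXSelf (ComplexShape.up ℤ) n (K.X n)).symm (hflat n)
        · exact hFl.of_isZero _
            (HomologicalComplex.isZero_single_obj_X (ComplexShape.up ℤ) _ _ _ hn)
      · exact isKFlat_single hFl (K.X m) (hflat m) m

end SES

section Colim

variable {J : Type} [SmallCategory J] [HasColimitsOfShape J 𝒜] [HasExactColimitsOfShape J 𝒜]
  [∀ X : 𝒜, PreservesColimitsOfShape J (F.obj X)]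

/-- a colimit (of exact shape) of K-flat complexes is K-flat -/
theorem isKFlat_of_isColimit (D : J ⥤ CochainComplex 𝒜 ℤ) (hD : ∀ j, IsKFlat F (D.obj j))
    {c : Cocone D} (hc : IsColimit c) : IsKFlat F c.pt := by
  intro L hL
  haveI := BifColim.preservesColimitsOfShape_map₂_obj F J L
  exact BifColim.acyclic_of_isColimit (D ⋙ F.map₂CochainComplex.obj L)
    (fun j => hD j L hL) (isColimitOfPreserves (F.map₂CochainComplex.obj L) hc)

end Colim

section Bounded

variable {Fl : 𝒜 → Prop} (hFl : FlatClass F Fl) [HasCoproducts.{0} 𝒜]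
  [∀ n : ℤ, HasExactColimitsOfShape (Discrete (BifSES.Idx n)) 𝒜]
  [HasColimitsOfShape ℕ 𝒜] [HasExactColimitsOfShape ℕ 𝒜]
  [∀ X : 𝒜, PreservesColimitsOfShape ℕ (F.obj X)]

include hFl in
/-- a bounded above complex of flat objects is K-flat -/
theorem isKFlat_of_isStrictlyLE (K : CochainComplex 𝒜 ℤ) (b : ℤ) [K.IsStrictlyLE b]
    (hflat : ∀ n : ℤ, Fl (K.X n)) : IsKFlat F K :=
  isKFlat_of_isColimit (tower K b) (fun k => isKFlat_sigmaGE hFl K b hflat (b - k))
    (c := towerCocone K b) (isColimitTowerCocone K b)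

end Bounded

end Groth.Agent.Lib.KFlatGen
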