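import Groth.Agent.Lib.KFlatGen4_helper2

/-!
# K-flat complexes with respect to a bifunctor (helper2), part V:
distinguished triangles of the derived category are represented by cones of maps of
K-flat complexes
-/

set_option autoImplicit false
universe w v u
open CategoryTheory Limits Pretriangulated

namespace Groth.Agent.Lib.KFlatGen

open Groth.Agent.Lib.BifCone

variable {𝒜 : Type u} [Category.{v} 𝒜] [Abelian 𝒜]
  {F : 𝒜 ⥤ 𝒜 ⥤ 𝒜} [F.Additive] [∀ X, (F.obj X).Additive]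
  [∀ (K₁ K₂ : CochainComplex 𝒜 ℤ), CochainComplex.HasMapBifunctor K₁ K₂ F]
  [HasDerivedCategory.{w} 𝒜]
  {Fl P : 𝒜 → Prop} (hFl : FlatClass F Fl) (hP : ResClass Fl P)
  [HasCoproducts.{0} 𝒜]
  [∀ n : ℤ, HasExactColimitsOfShape (Discrete (BifSES.Idx n)) 𝒜]
  [HasColimitsOfShape ℕ 𝒜] [HasExactColimitsOfShape ℕ 𝒜]
  [∀ X : 𝒜, PreservesColimitsOfShape ℕ (F.obj X)]

include hFl hP in
/-- every distinguished triangle of `D(𝒜)` is isomorphic to the standard triangle of a map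
between K-flat complexes -/
theorem exists_kflat_triangle (T : Triangle (DerivedCategory 𝒜))
    (hT : T ∈ distTriang (DerivedCategory 𝒜)) :
    ∃ (P₁ P₂ : CochainComplex 𝒜 ℤ) (f : P₁ ⟶ P₂), IsKFlat F P₁ ∧ IsKFlat F P₂ ∧
      IsKFlat F (CochainComplex.mappingCone f) ∧
      Nonempty (T ≅ DerivedCategory.Q.mapTriangle.obj
        (CochainComplex.mappingCone.triangle f)) := by
  obtain ⟨X, Y, g, ⟨e⟩⟩ := (DerivedCategory.mem_distTriang_iff T).1 hT
  obtain ⟨P₁, q₁, hP₁, -, hq₁, -⟩ := exists_kflat_resolution hFl hP X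
  obtain ⟨P₂, f, q₂, hP₂, hq₂, hfac, -⟩ := exists_kflat_factor hFl hP (q₁ ≫ g) hP₁
  refine ⟨P₁, P₂, f, hP₁, hP₂, (isKFlat_mappingCone f).1 hP₁ hP₂, ⟨e ≪≫ ?_⟩⟩
  let φ := DerivedCategory.Q.mapTriangle.map
    (CochainComplex.mappingCone.triangleMap f g q₁ q₂ hfac)
  have h1 : IsIso φ.hom₁ := by
    change IsIso (DerivedCategory.Q.map q₁)
    infer_instance
  have h2 : IsIso φ.hom₂ := by
    change IsIso (DerivedCategory.Q.map q₂)
    infer_instance
  have h3 : IsIso φ.hom₃ := isIso₃_of_isIso₁₂ φ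
    (DerivedCategory.mappingCone_triangle_distinguished f)
    (DerivedCategory.mappingCone_triangle_distinguished g) h1 h2
  haveI := Triangle.isIso_of_isIsos φ h1 h2 h3
  exact (asIso φ).symm

end Groth.Agent.Lib.KFlatGen
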