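import Groth.Agent.Lib.KFlatGen4_helper2

/-!
# K-flat complexes with respect to a bifunctor (helper2), part VI:
acyclic K-flat complexes stay acyclic after tensoring with anything
-/

set_option autoImplicit false
universe v u
open CategoryTheory Limits

namespace Groth.Agent.Lib.KFlatGen

open Groth.Agent.Lib.BifCone

variable {𝒜 : Type u} [Category.{v} 𝒜] [Abelian 𝒜]

lemma acyclic_iff_of_quasiIso {K L : CochainComplex 𝒜 ℤ} (f : K ⟶ L) [QuasiIso f] :
    K.Acyclic ↔ L.Acyclic := by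
  have h : ∀ i : ℤ, K.ExactAt i ↔ L.ExactAt i := by
    intro i
    rw [HomologicalComplex.exactAt_iff_isZero_homology,
      HomologicalComplex.exactAt_iff_isZero_homology]
    exact ⟨fun h => IsZero.of_iso h (asIso (HomologicalComplex.homologyMap f i)).symm,
      fun h => IsZero.of_iso h (asIso (HomologicalComplex.homologyMap f i))⟩
  exact ⟨fun hK i => (h i).1 (hK i), fun hL i => (h i).2 (hL i)⟩

/-- for an acyclic complex: `coker d^{i-1} ≅ ker d^{j}` when `i + 1 = j` -/
noncomputable def opcyclesIsoCycles (K : CochainComplex 𝒜 ℤ) (i j : ℤ) (hij : i + 1 = j)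
    (hi : K.ExactAt i) (hj : K.ExactAt j) : K.opcycles i ≅ K.cycles j := by
  have hrel : (ComplexShape.up ℤ).Rel i j := hij
  have hmono : Mono (K.opcyclesToCycles i j) := by
    let S := ShortComplex.mk (K.homologyι i) (K.opcyclesToCycles i j) (by simp)
    let S' := ShortComplex.mk (K.homologyι i) (K.fromOpcycles i j) (by simp)
    let ι : S ⟶ S' :=
      { τ₁ := 𝟙 _
        τ₂ := 𝟙 _
        τ₃ := K.iCycles j }
    have hS : S.Exact := by
      rw [ShortComplex.exact_iff_of_epi_of_isIso_of_mono ι]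
      exact S'.exact_of_f_is_kernel
        (K.homologyIsKernel i j ((ComplexShape.up ℤ).next_eq' hrel))
    exact hS.mono_g
      (((HomologicalComplex.exactAt_iff_isZero_homology K i).1 hi).eq_of_src _ _)
  have hepi : Epi (K.opcyclesToCycles i j) := by
    let T := ShortComplex.mk (K.opcyclesToCycles i j) (K.homologyπ j) (by simp)
    let T' := ShortComplex.mk (K.toCycles i j) (K.homologyπ j) (by simp)
    let π : T' ⟶ T :=
      { τ₁ := K.pOpcycles i
        τ₂ := 𝟙 _
        τ₃ := 𝟙 _ }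
    have hT : T.Exact := by
      rw [← ShortComplex.exact_iff_of_epi_of_isIso_of_mono π]
      exact T'.exact_of_g_is_cokernel
        (K.homologyIsCokernel i j ((ComplexShape.up ℤ).prev_eq' hrel))
    exact hT.epi_f
      (((HomologicalComplex.exactAt_iff_isZero_homology K j).1 hj).eq_of_tgt _ _)
  haveI := isIso_of_mono_of_epi (K.opcyclesToCycles i j)
  exact asIso (K.opcyclesToCycles i j)

variable (F : 𝒜 ⥤ 𝒜 ⥤ 𝒜) [F.Additive] [∀ X, (F.obj X).Additive]
  [∀ (K₁ K₂ : CochainComplex 𝒜 ℤ), CochainComplex.HasMapBifunctor K₁ K₂ F]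
variable (σ : F ≅ F.flip) {Fl P : 𝒜 → Prop} (hFl : FlatClass F Fl) (hP : ResClass Fl P)
  [HasCoproducts.{0} 𝒜]
  [∀ n : ℤ, HasExactColimitsOfShape (Discrete (BifSES.Idx n)) 𝒜]
  [HasColimitsOfShape ℕ 𝒜] [HasExactColimitsOfShape ℕ 𝒜]
  [∀ X : 𝒜, PreservesColimitsOfShape ℕ (F.obj X)]

include σ hFl hP in
/-- a K-flat acyclic complex tensored with any complex is acyclic -/
theorem acyclic_tensor_of_isKFlat_of_acyclic (K : CochainComplex 𝒜 ℤ) (hK : IsKFlat F K)
    (hac : K.Acyclic) (L : CochainComplex 𝒜 ℤ) :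
    (HomologicalComplex.mapBifunctor K L F (ComplexShape.up ℤ)).Acyclic := by
  obtain ⟨Q, q, hQ, -, hq, -⟩ := exists_kflat_resolution hFl hP L
  haveI := hq
  haveI : QuasiIso (HomologicalComplex.mapBifunctorMap (𝟙 K) q F (ComplexShape.up ℤ)) :=
    quasiIso_mapBifunctorMap₂ F K (acyclic_tensor_left_of_isKFlat σ K hK) q
  exact (acyclic_iff_of_quasiIso
    (HomologicalComplex.mapBifunctorMap (𝟙 K) q F (ComplexShape.up ℤ))).1 (hQ K hac)

include σ hFl hP in
/-- for a K-flat acyclic complex `K`, the termwise complex `F(K^i, M)` is acyclic -/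
theorem acyclic_flip_obj_of_isKFlat_of_acyclic (K : CochainComplex 𝒜 ℤ) (hK : IsKFlat F K)
    (hac : K.Acyclic) (M : 𝒜) (T : 𝒜 ⥤ 𝒜) [T.Additive] (e : T ≅ F.flip.obj M) :
    ((T.mapHomologicalComplex (ComplexShape.up ℤ)).obj K).Acyclic := by
  have h := acyclic_tensor_of_isKFlat_of_acyclic F σ hFl hP K hK hac
    ((HomologicalComplex.single 𝒜 (ComplexShape.up ℤ) 0).obj M)
  exact acyclic_of_iso (asIso (xiApp F M T e K)).symm h

end Groth.Agent.Lib.KFlatGen
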