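import Groth.Agent.Lib.TotalMap2_helper2
import Groth.Agent.Lib.ModSite18_helper8
import Groth.Agent.Lib.ModSite13_helper8
import Groth.Agent.Lib.ModSite20_helper8
import Groth.Agent.Lib.KFlatSite8_helper2

/-!
# The restriction of a K-flat complex to a localised site is K-flat (helper2)

Via `j_!` (exact, faithful, commuting with coproducts) and the projection formula
`j_!(P ⊗ N|_V) ≅ j_! P ⊗ N`.
-/

set_option autoImplicit false
universe u
open CategoryTheory Limits ModSite

namespace Groth.Agent.Lib.KFlatRestr

open Groth.Agent.Lib.ModSiteH8 Groth.Agent.Lib.KFlatGen Groth.Agent.Lib.KFlatSite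
  Groth.Agent.Lib.TotalMap

variable {C : Type u} [SmallCategory C] {J : GrothendieckTopology C} (O : Sheaf J CommRingCat.{u})
  (V : C)

instance extZero'_additive : (extZero' O V).Additive := by
  haveI : (extZero' O V).IsLeftAdjoint := (extZero'Adj O V).isLeftAdjoint
  haveI := preservesBinaryBiproducts_of_preservesBinaryCoproducts (extZero' O V)
  exact Functor.additive_of_preservesBinaryBiproducts _

instance extZero'_preservesFiniteColimits : PreservesFiniteColimits (extZero' O V) := by
  haveI : (extZero' O V).IsLeftAdjoint := (extZero'Adj O V).isLeftAdjoint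
  infer_instance

instance extZero_preservesDiscrete (J' : Type) :
    PreservesColimitsOfShape (Discrete J') (extZero O V) := by
  haveI : (extZero O V).IsLeftAdjoint := (extZeroAdj O V).isLeftAdjoint
  infer_instance

/-- the projection formula, natural in both variables -/
noncomputable def projBiIso :
    (𝟭 (Mod (O.over V)) ⋙ tensorBi (O.over V) ⋙
        (Functor.whiskeringLeft (Mod O) (Mod (O.over V)) (Mod (O.over V))).obj (restr O V)) ⋙
      (Functor.whiskeringRight (Mod O) (Mod (O.over V)) (Mod O)).obj (extZero O V) ≅
    extZero' O V ⋙ tensorBi O ⋙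
      (Functor.whiskeringLeft (Mod O) (Mod O) (Mod O)).obj (𝟭 (Mod O)) :=
  NatIso.ofComponents (fun P => NatIso.ofComponents (fun N => projIso O V P N) (by
    intro N' N ν
    have h := projIso_inv_natN O V P ν
    show sAmapN O V P ν ≫ (projIso O V P N).hom = (projIso O V P N').hom ≫ sBmapN O V P ν
    rw [← cancel_mono (projIso O V P N).inv, Category.assoc, Iso.hom_inv_id, Category.comp_id,
      Category.assoc, h, Iso.hom_inv_id_assoc])) (by
    intro P' P π
    refine NatTrans.ext (funext fun N => ?_)
    have h := projIso_inv_natP O V π N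
    show sAmapP O V π N ≫ (projIso O V P N).hom = (projIso O V P' N).hom ≫ sBmapP O V π N
    rw [← cancel_mono (projIso O V P N).inv, Category.assoc, Iso.hom_inv_id, Category.comp_id,
      Category.assoc, h, Iso.hom_inv_id_assoc])

/-- an exact functor preserves acyclic complexes -/
lemma acyclic_map {A B : Type*} [Category A] [Category B] [Abelian A] [Abelian B] (G : A ⥤ B)
    [G.Additive] [PreservesFiniteLimits G] [PreservesFiniteColimits G]
    (K : CochainComplex A ℤ) (hK : K.Acyclic) :
    ((G.mapHomologicalComplex (ComplexShape.up ℤ)).obj K).Acyclic := by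
  intro n
  rw [HomologicalComplex.exactAt_iff]
  exact ((HomologicalComplex.exactAt_iff _ _).1 (hK n)).map G

/-- **the restriction of a K-flat complex is K-flat** -/
theorem isKFlat_restr (K : CochainComplex (Mod O) ℤ) (hK : ModSite.IsKFlat K) :
    ModSite.IsKFlat (((restr O V).mapHomologicalComplex (ComplexShape.up ℤ)).obj K) := by
  rw [isKFlat_iff_gen] at hK ⊢
  intro A hA
  have iso := mapIso (𝟭 (Mod (O.over V)) ⋙ tensorBi (O.over V) ⋙
      (Functor.whiskeringLeft (Mod O) (Mod (O.over V)) (Mod (O.over V))).obj (restr O V))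
    (extZero O V) (extZero' O V) (𝟭 (Mod O)) (tensorBi O) A K (projBiIso O V)
  have hA' : (((extZero' O V).mapHomologicalComplex (ComplexShape.up ℤ)).obj A).Acyclic :=
    acyclic_map (extZero' O V) A hA
  have hK' : IsKFlat (tensorBi O)
      (((𝟭 (Mod O)).mapHomologicalComplex (ComplexShape.up ℤ)).obj K) :=
    KFlatGen.isKFlat_of_iso (F := tensorBi O)
      ((Functor.mapHomologicalComplexIdIso (Mod O) (ComplexShape.up ℤ)).app K).symm hK
  have h1 := Groth.Agent.Lib.BifCone.acyclic_of_iso iso.symm (hK' _ hA')
  intro n
  rw [HomologicalComplex.exactAt_iff]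
  apply extZero_reflects_exact O V
  exact (HomologicalComplex.exactAt_iff _ _).1 (h1 n)

end Groth.Agent.Lib.KFlatRestr
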