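import Groth.Agent.Lib.KFlatGen6_helper2
import Groth.Agent.Lib.KFlatSite10_helper2
import Groth.Agent.Lib.CyclesFlat_helper2

/-!
# K-flat complexes on ringed sites, XII: cycles of an acyclic K-flat complex with flat terms
-/

set_option autoImplicit false
universe u
open CategoryTheory Limits ModSite

namespace Groth.Agent.Lib.KFlatSite

variable {C : Type u} [SmallCategory C] {J : GrothendieckTopology C} (O : Sheaf J CommRingCat.{u})

open Groth.Agent.Lib.ModSiteH8

/-- for a K-flat acyclic complex `K`, the termwise complexes `K ⊗ G` are acyclic -/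
theorem acyclic_flip_obj_of_isKFlat_of_acyclic (K : CochainComplex (Mod O) ℤ)
    (hK : ModSite.IsKFlat K) (hac : K.Acyclic) (G : Mod O) :
    ((((tensorBi O).flip.obj G).mapHomologicalComplex (ComplexShape.up ℤ)).obj K).Acyclic := by
  haveI := hasExactColimitsOfShape_filtered O ℕ
  exact Groth.Agent.Lib.KFlatGen.acyclic_flip_obj_of_isKFlat_of_acyclic (tensorBi O)
    (sigmaNatIso O) (flatClass O) (resClass O) K ((isKFlat_iff_gen O K).1 hK) hac G
    ((tensorBi O).flip.obj G) (Iso.refl _)

/-- the cycles of a K-flat acyclic complex with flat terms are flat -/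
theorem isFlat_cycles_of_isKFlat_of_acyclic (K : CochainComplex (Mod O) ℤ)
    (hK : ModSite.IsKFlat K) (hac : K.Acyclic) (hfl : ∀ i : ℤ, ModSite.IsFlat (K.X i)) (n : ℤ) :
    ModSite.IsFlat (K.cycles n) := by
  have hC := isFlat_cokernel_of_vanishing O K hfl (n - 1) (fun G => by
    rw [← HomologicalComplex.exactAt_iff_isZero_homology]
    exact acyclic_flip_obj_of_isKFlat_of_acyclic O K hK hac G (n - 1 - 1))
  exact isFlat_of_iso O
    ((Groth.Agent.Lib.CyclesFlat.opcyclesIsoCokernel K (n - 1)).symm ≪≫
      Groth.Agent.Lib.KFlatGen.opcyclesIsoCycles K (n - 1) n (by omega) (hac _) (hac _)) hC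

end Groth.Agent.Lib.KFlatSite
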