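import Groth.Agent.Lib.KFlatSite_helper2
import Groth.Agent.Lib.BifSingle_helper2

/-!
# K-flat complexes on ringed sites, II: complexes concentrated in one degree (helper2)
-/

open CategoryTheory Limits ModSite

namespace Groth.Agent.Lib.KFlatSite

universe u

variable {C : Type u} [SmallCategory C] {J : GrothendieckTopology C} {O : Sheaf J CommRingCat.{u}}

/-- A flat module placed in a single degree is K-flat. -/
theorem isKFlat_single (M : Mod O) (hM : ModSite.IsFlat M) (a : ℤ) :
    ModSite.IsKFlat ((HomologicalComplex.single (Mod O) (ComplexShape.up ℤ) a).obj M) := by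
  rw [isKFlat_iff]
  intro L hL
  haveI := hM.1
  haveI := hM.2
  exact BifSingle.acyclic_mapBifunctor_single (tensorBi O) L M a hL

end Groth.Agent.Lib.KFlatSite
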