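import Groth.Agent.Lib.KFlatSite2_helper2
import Groth.Agent.Lib.BifColim_helper2

/-!
# K-flat complexes on ringed sites, III: sequential colimits (helper2)
-/

open CategoryTheory Limits ModSite

namespace Groth.Agent.Lib.KFlatSite

universe u

variable {C : Type u} [SmallCategory C] {J : GrothendieckTopology C} (O : Sheaf J CommRingCat.{u})

open Groth.Agent.Lib.ModSiteH8

/-- filtered colimits indexed by a small category in universe `0` are exact in `Mod O`. -/
theorem hasExactColimitsOfShape_filtered (Λ : Type) [SmallCategory Λ] [IsFiltered Λ] :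
    HasExactColimitsOfShape Λ (Mod O) := by
  haveI : AB5OfSize.{u, u} (Mod O) :=
    ⟨fun Λ _ _ => hasExactColimitsOfShape_sheafOfModules (ringSh O) Λ⟩
  haveI : AB5OfSize.{0, 0} (Mod O) := AB5OfSize_shrink.{0, 0, u, u} (Mod O)
  exact AB5OfSize.ofShape Λ

instance preservesColimitsOfShape_tensorBi_obj (Λ : Type) [SmallCategory Λ] (X : Mod O) :
    PreservesColimitsOfShape Λ ((tensorBi O).obj X) := by
  haveI := preservesColimits_obj O X
  haveI : PreservesColimitsOfSize.{0, 0} ((tensorBi O).obj X) :=
    preservesColimitsOfSize_shrink.{0, u, 0, u} _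
  infer_instance

variable {O}

/-- `Tot(L ⊗ -)` preserves colimits indexed by small categories in universe `0`. -/
instance preservesColimitsOfShape_tensorCx_obj (Λ : Type) [SmallCategory Λ]
    (L : CochainComplex (Mod O) ℤ) : PreservesColimitsOfShape Λ ((tensorCx O).obj L) :=
  BifColim.preservesColimitsOfShape_map₂_obj (tensorBi O) Λ L

/-- a filtered colimit of K-flat complexes is K-flat. -/
theorem isKFlat_of_isColimit {Λ : Type} [SmallCategory Λ] [IsFiltered Λ]
    (K : Λ ⥤ CochainComplex (Mod O) ℤ) (hK : ∀ n, ModSite.IsKFlat (K.obj n))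
    {c : Cocone K} (hc : IsColimit c) : ModSite.IsKFlat c.pt := by
  rw [isKFlat_iff]
  intro L hL
  haveI := hasExactColimitsOfShape_filtered O Λ
  exact BifColim.acyclic_of_isColimit (K ⋙ (tensorCx O).obj L)
    (fun n => (isKFlat_iff _).1 (hK n) L hL) (isColimitOfPreserves ((tensorCx O).obj L) hc)

end Groth.Agent.Lib.KFlatSite
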