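import Groth.Agent.Lib.KFlatSite5_helper2

/-!
# K-flat complexes on ringed sites, VI: factoring maps from K-flat complexes (helper2)
-/

set_option autoImplicit false
universe u
open CategoryTheory Limits ModSite

namespace Groth.Agent.Lib.KFlatSite

variable {C : Type u} [SmallCategory C] {J : GrothendieckTopology C} {O : Sheaf J CommRingCat.{u}}

open Groth.Agent.Lib.ModSiteH8 Groth.Agent.Lib.PCohCyl Groth.Agent.Lib.PCohNQI

/-- a map from a K-flat complex factors strictly through a K-flat complex followed by a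
quasi-isomorphism -/
theorem exists_kflat_factor {K L : CochainComplex (Mod O) ℤ} (a : K ⟶ L) (hK : ModSite.IsKFlat K) :
    ∃ (N : CochainComplex (Mod O) ℤ) (b : K ⟶ N) (c : N ⟶ L), ModSite.IsKFlat N ∧ QuasiIso c ∧
      b ≫ c = a ∧
      ((∀ n : ℤ, ModSite.IsFlat (K.X n)) → ∀ n : ℤ, ModSite.IsFlat (N.X n)) := by
  obtain ⟨Q, κ, hQK, hQfl, hκq, hκepi⟩ := exists_kflat_resolution (CochainComplex.mappingCone a)
  haveI := hκq
  obtain ⟨E', v, u', π, w, hvu, hS, hn, hsec⟩ := exists_factor_split a κ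
  refine ⟨E', v, u', ?_, ?_, hvu, ?_⟩
  · exact (isKFlat_shortExact (ShortComplex.mk v π w) hS hQfl).2.1 hK hQK
  · exact quasiIso_of_forall_nqi _ (fun m => hn m (nqi_of_quasiIso m κ))
  · intro hKfl n
    have hSn := degreewise v π w hS n
    exact (isFlat_two_of_three O _ hSn (hQfl n)).1 (hKfl n)

end Groth.Agent.Lib.KFlatSite
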