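import Groth.Agent.Lib.LambdaGamma_helper1
import Mathlib.Algebra.Polynomial.Reverse

/-!
# `γ_t(e - m) = Σ λ^i(e) t^i (1-t)^(m-i)` for a positive element `e` of augmentation `m` (helper1)

APPEND-ONLY: do not change statements of landed lemmas.
-/

universe u

open Finset

namespace Groth.Agent.Lib.LambdaRingH1

open LambdaRing

variable {K : Type u} [CommRing K] [LambdaOps K]

theorem lam_one_eq_zero (P : PosStructure K) : ∀ k : ℕ, 2 ≤ k → LambdaOps.lam k (1 : K) = 0 := by
  intro k hk
  have h1 : (1 : K) ∈ P.pos := by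
    have := P.natCast_mem 1 one_pos
    simpa using this
  refine P.lam_eq_zero 1 h1 k ?_
  rw [map_one]
  exact_mod_cast (by omega : 1 < k)

theorem lam_eq_zero_of_toNat_lt (P : PosStructure K) {e : K} (he : e ∈ P.pos) {i : ℕ}
    (hi : (P.aug e).toNat < i) : LambdaOps.lam i e = 0 := by
  refine P.lam_eq_zero e he i ?_
  have := P.aug_pos e he
  omega

theorem gammaSeries_one (h1 : ∀ k : ℕ, 2 ≤ k → LambdaOps.lam k (1 : K) = 0) :
    gammaSeries (1 : K) = PowerSeries.mk 1 := by
  rw [gammaSeries_of_line h1, map_one, one_mul, one_add_tOverOneSub]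

theorem gammaSeries_natCast (h1 : ∀ k : ℕ, 2 ≤ k → LambdaOps.lam k (1 : K) = 0) (n : ℕ) :
    gammaSeries ((n : ℕ) : K) = (PowerSeries.mk 1) ^ n := by
  induction n with
  | zero => rw [Nat.cast_zero, gammaSeries_zero, pow_zero]
  | succ n ih => rw [Nat.cast_succ, gammaSeries_add, ih, gammaSeries_one h1, pow_succ]

theorem gammaSeries_sub_natCast (h1 : ∀ k : ℕ, 2 ≤ k → LambdaOps.lam k (1 : K) = 0) (e : K) (m : ℕ) :
    gammaSeries (e - (m : K)) = gammaSeries e * (1 - PowerSeries.X) ^ m := by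
  have hc : gammaSeries (e - (m : K)) * (PowerSeries.mk 1) ^ m = gammaSeries e := by
    rw [← gammaSeries_natCast h1, ← gammaSeries_add, sub_add_cancel]
  have h := PowerSeries.mk_one_mul_one_sub_eq_one K
  rw [← hc, mul_assoc, ← mul_pow, h, one_pow, mul_one]

/-- the polynomial `Σ_{i ≤ m} λ^i(e) t^i (1-t)^(m-i)` -/
noncomputable def gammaPoly (e : K) (m : ℕ) : Polynomial K :=
  ∑ i ∈ range (m + 1), Polynomial.C (LambdaOps.lam i e) * Polynomial.X ^ i *
    (1 - Polynomial.X) ^ (m - i)

theorem lamSeries_eq_coe (e : K) (m : ℕ) (hlam : ∀ i : ℕ, m < i → LambdaOps.lam i e = 0) :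
    lamSeries e = ((∑ i ∈ range (m + 1), Polynomial.C (LambdaOps.lam i e) * Polynomial.X ^ i :
      Polynomial K) : PowerSeries K) := by
  ext k
  rw [coeff_lamSeries, Polynomial.coeff_coe, Polynomial.finset_sum_coeff]
  simp only [Polynomial.coeff_C_mul_X_pow]
  rw [Finset.sum_ite_eq]
  split_ifs with hk
  · rfl
  · rw [Finset.mem_range] at hk
    exact hlam k (by omega)

theorem gammaPoly_coe (h1 : ∀ k : ℕ, 2 ≤ k → LambdaOps.lam k (1 : K) = 0) (e : K) (m : ℕ)
    (hlam : ∀ i : ℕ, m < i → LambdaOps.lam i e = 0) :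
    ((gammaPoly e m : Polynomial K) : PowerSeries K) = gammaSeries (e - (m : K)) := by
  rw [gammaSeries_sub_natCast h1, gammaSeries_eq_subst, lamSeries_eq_coe e m hlam,
    PowerSeries.subst_coe hasSubst_tOverOneSub, gammaPoly,
    ← Polynomial.coeToPowerSeries.ringHom_apply]
  simp only [map_sum, map_mul, map_pow, map_sub, map_one, Polynomial.aeval_C, Polynomial.aeval_X,
    Polynomial.coeToPowerSeries.ringHom_apply, Polynomial.coe_C, Polynomial.coe_X]
  rw [Finset.sum_mul]
  refine Finset.sum_congr rfl (fun i hi => ?_)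
  rw [Finset.mem_range] at hi
  have h := PowerSeries.mk_one_mul_one_sub_eq_one K
  have hm : m = i + (m - i) := by omega
  have key : (tOverOneSub K) ^ i * (1 - PowerSeries.X) ^ m =
      PowerSeries.X ^ i * (1 - PowerSeries.X) ^ (m - i) := by
    conv_lhs => rw [hm, pow_add, ← mul_assoc, ← mul_pow]
    rw [tOverOneSub, mul_assoc, h, mul_one]
  rw [mul_assoc _ (tOverOneSub K ^ i), key, mul_assoc]
  rfl

theorem gamma_eq_coeff_gammaPoly (h1 : ∀ k : ℕ, 2 ≤ k → LambdaOps.lam k (1 : K) = 0) (e : K)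
    (m : ℕ) (hlam : ∀ i : ℕ, m < i → LambdaOps.lam i e = 0) (k : ℕ) :
    gamma k (e - (m : K)) = (gammaPoly e m).coeff k := by
  rw [← coeff_gammaSeries, ← gammaPoly_coe h1 e m hlam, Polynomial.coeff_coe]

section poly
variable {R : Type*} [CommRing R]

theorem reflect_sum' {ι : Type*} (N : ℕ) (s : Finset ι) (f : ι → Polynomial R) :
    Polynomial.reflect N (∑ i ∈ s, f i) = ∑ i ∈ s, Polynomial.reflect N (f i) := by
  classical
  induction s using Finset.induction_on with
  | empty => simp
  | insert a s ha ih => rw [Finset.sum_insert ha, Finset.sum_insert ha, Polynomial.reflect_add, ih]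

theorem natDegree_one_sub_X_le : (1 - Polynomial.X : Polynomial R).natDegree ≤ 1 :=
  (Polynomial.natDegree_sub_le _ _).trans (max_le (by simp) Polynomial.natDegree_X_le)

theorem natDegree_one_sub_X_pow_le (n : ℕ) : ((1 - Polynomial.X : Polynomial R) ^ n).natDegree ≤ n := by
  have := Polynomial.natDegree_pow_le_of_le n (natDegree_one_sub_X_le (R := R))
  simpa using this

theorem reflect_one_sub_X_pow (n : ℕ) :
    Polynomial.reflect n ((1 - Polynomial.X : Polynomial R) ^ n) = (Polynomial.X - 1) ^ n := by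
  induction n with
  | zero => simp [Polynomial.reflect_one]
  | succ n ih =>
    rw [pow_succ, Polynomial.reflect_mul _ _ (natDegree_one_sub_X_pow_le n) natDegree_one_sub_X_le,
      ih, pow_succ, Polynomial.reflect_sub, Polynomial.reflect_one, Polynomial.reflect_one_X, pow_one]

theorem reflect_term (a : R) (m i : ℕ) (hi : i ≤ m) :
    Polynomial.reflect m (Polynomial.C a * Polynomial.X ^ i * (1 - Polynomial.X) ^ (m - i)) =
      Polynomial.C a * (Polynomial.X - 1) ^ (m - i) := by
  rw [mul_assoc, Polynomial.reflect_C_mul]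
  obtain ⟨j, rfl⟩ : ∃ j, m = i + j := ⟨m - i, by omega⟩
  rw [Nat.add_sub_cancel_left, Polynomial.reflect_mul _ _ (Polynomial.natDegree_X_pow_le i)
    (natDegree_one_sub_X_pow_le j)]
  rw [Polynomial.reflect_monomial, Polynomial.revAt_le le_rfl, Nat.sub_self, pow_zero, one_mul,
    reflect_one_sub_X_pow]

theorem reflect_eq_sum (Q : Polynomial R) (m : ℕ) (hQ : Q.natDegree ≤ m) :
    Polynomial.reflect m Q = ∑ k ∈ range (m + 1), Polynomial.C (Q.coeff k) * Polynomial.X ^ (m - k) := by
  conv_lhs => rw [Polynomial.as_sum_range_C_mul_X_pow' Q (Nat.lt_succ_of_le hQ)]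
  rw [reflect_sum']
  refine Finset.sum_congr rfl (fun k hk => ?_)
  rw [Finset.mem_range] at hk
  rw [Polynomial.reflect_C_mul_X_pow, Polynomial.revAt_le (by omega)]

end poly

theorem natDegree_gammaPoly_le (e : K) (m : ℕ) : (gammaPoly e m).natDegree ≤ m := by
  refine Polynomial.natDegree_sum_le_of_forall_le _ _ (fun i hi => ?_)
  rw [Finset.mem_range] at hi
  have h1 : (Polynomial.C (LambdaOps.lam i e) * Polynomial.X ^ i).natDegree ≤ 0 + i :=
    Polynomial.natDegree_mul_le_of_le (by simp) (Polynomial.natDegree_X_pow_le i)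
  have h2 := Polynomial.natDegree_mul_le_of_le h1 (natDegree_one_sub_X_pow_le (R := K) (m - i))
  omega

theorem reflect_gammaPoly (e : K) (m : ℕ) :
    Polynomial.reflect m (gammaPoly e m) =
      ∑ i ∈ range (m + 1), Polynomial.C (LambdaOps.lam i e) * (Polynomial.X - 1) ^ (m - i) := by
  rw [gammaPoly, reflect_sum']
  refine Finset.sum_congr rfl (fun i hi => ?_)
  rw [Finset.mem_range] at hi
  exact reflect_term _ m i (by omega)

/-- S3290 in general form. -/
theorem gamma_sub_aug_poly (P : PosStructure K) (e : K) (he : e ∈ P.pos) :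
    (∑ i ∈ range ((P.aug e).toNat + 1),
        Polynomial.C (gamma i (e - ((P.aug e).toNat : K))) * Polynomial.X ^ ((P.aug e).toNat - i)) =
      ∑ i ∈ range ((P.aug e).toNat + 1),
        Polynomial.C (LambdaOps.lam i e) * (Polynomial.X - 1) ^ ((P.aug e).toNat - i) := by
  have h1 := lam_one_eq_zero P
  have hlam : ∀ i : ℕ, (P.aug e).toNat < i → LambdaOps.lam i e = 0 :=
    fun i hi => lam_eq_zero_of_toNat_lt P he hi
  rw [← reflect_gammaPoly, reflect_eq_sum _ _ (natDegree_gammaPoly_le e _)]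
  refine Finset.sum_congr rfl (fun i _ => ?_)
  rw [gamma_eq_coeff_gammaPoly h1 e _ hlam]

end Groth.Agent.Lib.LambdaRingH1
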