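import Groth.Agent.Lib.LambdaGammaAdams_helper1
import Groth.Agent.Lib.LambdaRefl_helper1

/-!
# The determinant `K → Kˣ` of a λ-ring with positive structure and `L ≅ Gr¹ K` (helper1)

APPEND-ONLY: do not change statements of landed lemmas.
-/

universe u

open Finset

namespace Groth.Agent.Lib.LambdaDetH1

open LambdaRing Groth.Agent.Lib.LambdaRingH1 Groth.Agent.Lib.LambdaSplitH1 Groth.Agent.Lib.LambdaGAH1

section Det

variable {K : Type u} [CommRing K] [LambdaOps K] (P : PosStructure K)

theorem toNat_add_aug {e f : K} (he : e ∈ P.pos) (hf : f ∈ P.pos) :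
    (P.aug (e + f)).toNat = (P.aug e).toNat + (P.aug f).toNat := by
  have h1 := P.aug_pos e he
  have h2 := P.aug_pos f hf
  rw [map_add]
  omega

theorem lam_top_add {e f : K} (he : e ∈ P.pos) (hf : f ∈ P.pos) :
    LambdaOps.lam ((P.aug e).toNat + (P.aug f).toNat) (e + f) =
      LambdaOps.lam (P.aug e).toNat e * LambdaOps.lam (P.aug f).toNat f := by
  rw [LambdaOps.lam_add, Finset.sum_eq_single (P.aug e).toNat]
  · rw [Nat.add_sub_cancel_left]
  · intro i hi hne
    rw [Finset.mem_range] at hi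
    rcases lt_or_gt_of_ne hne with h | h
    · rw [lam_eq_zero_of_toNat_lt P hf (by omega), mul_zero]
    · rw [lam_eq_zero_of_toNat_lt P he h, zero_mul]
  · intro h
    exact absurd (Finset.mem_range.mpr (by omega)) h

open Classical in
/-- `det e = λ^{ε e}(e)` as a unit, for positive `e` (and `1` otherwise) -/
noncomputable def detP (e : K) : Kˣ :=
  if h : e ∈ P.pos then (P.isUnit_lam e h).unit else 1

theorem detP_coe {e : K} (he : e ∈ P.pos) :
    ((detP P e : Kˣ) : K) = LambdaOps.lam (P.aug e).toNat e := by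
  rw [detP, dif_pos he]
  rfl

theorem detP_add {e f : K} (he : e ∈ P.pos) (hf : f ∈ P.pos) :
    detP P (e + f) = detP P e * detP P f := by
  apply Units.ext
  rw [Units.val_mul, detP_coe P he, detP_coe P hf, detP_coe P (P.add_mem e f he hf),
    toNat_add_aug P he hf, lam_top_add P he hf]

theorem exists_det (x : K) : ∃ d : Kˣ, ∀ e f : K, e ∈ P.pos → f ∈ P.pos → x = e - f →
    d = detP P e * (detP P f)⁻¹ := by
  obtain ⟨e₀, f₀, he₀, hf₀, hx⟩ := P.exists_sub x
  refine ⟨detP P e₀ * (detP P f₀)⁻¹, fun e f he hf h => ?_⟩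
  have h1 : e₀ + f = e + f₀ := by
    rw [hx] at h
    linear_combination h
  have h2 : detP P e₀ * detP P f = detP P e * detP P f₀ := by
    rw [← detP_add P he₀ hf, ← detP_add P he hf₀, h1]
  rw [← div_eq_mul_inv, ← div_eq_mul_inv, div_eq_div_iff_mul_eq_mul]
  exact h2

/-- the determinant `K → Kˣ` -/
noncomputable def det (x : K) : Kˣ := Classical.choose (exists_det P x)

theorem det_sub {e f : K} (he : e ∈ P.pos) (hf : f ∈ P.pos) :
    det P (e - f) = detP P e * (detP P f)⁻¹ :=
  Classical.choose_spec (exists_det P (e - f)) e f he hf rfl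

theorem det_add (x y : K) : det P (x + y) = det P x * det P y := by
  obtain ⟨e, f, he, hf, rfl⟩ := P.exists_sub x
  obtain ⟨e', f', he', hf', rfl⟩ := P.exists_sub y
  have h : e - f + (e' - f') = (e + e') - (f + f') := by ring
  rw [h, det_sub P (P.add_mem _ _ he he') (P.add_mem _ _ hf hf'), det_sub P he hf,
    det_sub P he' hf', detP_add P he he', detP_add P hf hf', mul_inv, mul_mul_mul_comm]

theorem one_mem_pos : (1 : K) ∈ P.pos := by
  have := P.natCast_mem 1 one_pos
  simpa using this

theorem det_zero : det P 0 = 1 := by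
  have h : (0 : K) = 1 - 1 := by ring
  rw [h, det_sub P (one_mem_pos P) (one_mem_pos P), mul_inv_cancel]

theorem det_neg (x : K) : det P (-x) = (det P x)⁻¹ := by
  have h := det_add P x (-x)
  rw [add_neg_cancel, det_zero] at h
  exact eq_inv_of_mul_eq_one_right h.symm

theorem det_of_pos {e : K} (he : e ∈ P.pos) : det P e = detP P e := by
  have h : e = (e + 1) - 1 := by ring
  rw [h, det_sub P (P.add_mem _ _ he (one_mem_pos P)) (one_mem_pos P), ← h,
    detP_add P he (one_mem_pos P), mul_inv_cancel_right]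

theorem det_line {u : K} (hu : P.IsLine u) : ((det P u : Kˣ) : K) = u := by
  rw [det_of_pos P hu.1, detP_coe P hu.1, hu.2]
  simp [LambdaOps.lam_one]

variable {K' : Type u} [CommRing K'] [LambdaOps K'] {P' : PosStructure K'} {g : K →+* K'}

theorem detP_natural (hg : IsExtension P P' g) {e : K} (he : e ∈ P.pos) :
    Units.map (g : K →* K') (detP P e) = detP P' (g e) := by
  apply Units.ext
  show g ((detP P e : Kˣ) : K) = _
  rw [detP_coe P he, detP_coe P' (hg.pos_subset e he), hg.isLambdaHom, hg.aug_comp]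

theorem det_natural (hg : IsExtension P P' g) (x : K) :
    Units.map (g : K →* K') (det P x) = det P' (g x) := by
  obtain ⟨e, f, he, hf, rfl⟩ := P.exists_sub x
  rw [det_sub P he hf, map_sub, det_sub P' (hg.pos_subset e he) (hg.pos_subset f hf), map_mul,
    map_inv, detP_natural P hg he, detP_natural P hg hf]

/-- the bilinearity relation `det(xy) = det(x)^{ε y} det(y)^{ε x}` -/
def E (x y : K) : Prop := det P (x * y) = det P x ^ (P.aug y) * det P y ^ (P.aug x)

theorem E_add_left {x x' y : K} (hx : E P x y) (hx' : E P x' y) : E P (x + x') y := by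
  unfold E at hx hx' ⊢
  rw [add_mul, det_add, hx, hx', det_add, map_add, mul_zpow, zpow_add, mul_mul_mul_comm]

theorem E_neg_left {x y : K} (hx : E P x y) : E P (-x) y := by
  unfold E at hx ⊢
  rw [neg_mul, det_neg, hx, det_neg, map_neg, inv_zpow, zpow_neg, mul_inv]

theorem E_symm {x y : K} (h : E P x y) : E P y x := by
  unfold E at h ⊢
  rw [mul_comm y x, h, mul_comm]

theorem E_sub_left {x x' y : K} (hx : E P x y) (hx' : E P x' y) : E P (x - x') y := by
  rw [sub_eq_add_neg]
  exact E_add_left P hx (E_neg_left P hx')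

theorem E_zero_left (y : K) : E P 0 y := by
  unfold E
  rw [zero_mul, det_zero, map_zero, one_zpow, zpow_zero, one_mul]

theorem E_lines {u v : K} (hu : P.IsLine u) (hv : P.IsLine v) : E P u v := by
  unfold E
  rw [hu.2, hv.2, zpow_one, zpow_one]
  apply Units.ext
  rw [Units.val_mul, det_line P hu, det_line P hv, det_line P (isLine_mul P hu hv)]

theorem E_sum_left (s : Multiset K) (y : K) (h : ∀ u ∈ s, E P u y) : E P s.sum y := by
  induction s using Multiset.induction_on with
  | empty => rw [Multiset.sum_zero]; exact E_zero_left P y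
  | cons u s ih =>
    rw [Multiset.sum_cons]
    exact E_add_left P (h u (Multiset.mem_cons_self u s))
      (ih fun w hw => h w (Multiset.mem_cons_of_mem hw))

theorem E_lines_sum (s t : Multiset K) (hs : ∀ u ∈ s, P.IsLine u) (ht : ∀ v ∈ t, P.IsLine v) :
    E P s.sum t.sum :=
  E_sum_left P s _ fun u hu => E_symm P (E_sum_left P t _ fun v hv => E_lines P (ht v hv) (hs u hu))

theorem E_of_ext (hg : IsExtension P P' g) {x y : K} (h : E P' (g x) (g y)) : E P x y := by
  unfold E at h ⊢
  have hinj : Function.Injective (g : K →* K') := hg.injective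
  apply Units.map_injective hinj
  rw [map_mul, map_zpow, map_zpow, det_natural P hg, det_natural P hg, det_natural P hg, map_mul, h,
    hg.aug_comp, hg.aug_comp]

theorem E_pos (hK : HasSplitting K P) {e e' : K} (he : e ∈ P.pos) (he' : e' ∈ P.pos) :
    E P e e' := by
  obtain ⟨K₁, _, _, P₁, f₁, hK₁, hf₁, s₁, hs₁, hsum₁⟩ := exists_split P hK e he
  obtain ⟨K₂, _, _, P₂, f₂, hK₂, hf₂, s₂, hs₂, hsum₂⟩ :=
    exists_split P₁ hK₁ (f₁ e') (hf₁.pos_subset e' he')
  apply E_of_ext P hf₁
  apply E_of_ext P₁ hf₂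
  have h1 : f₂ (f₁ e) = (s₁.map f₂).sum := by rw [← hsum₁, map_multiset_sum]
  rw [h1, ← hsum₂]
  refine E_lines_sum P₂ _ _ ?_ hs₂
  intro u hu
  obtain ⟨w, hw, rfl⟩ := Multiset.mem_map.mp hu
  exact isLine_map P₁ P₂ f₂ hf₂ (hs₁ w hw)

theorem E_all (hK : HasSplitting K P) (x y : K) : E P x y := by
  obtain ⟨e, f, he, hf, rfl⟩ := P.exists_sub x
  obtain ⟨e', f', he', hf', rfl⟩ := P.exists_sub y
  have h1 : ∀ z : K, z ∈ P.pos → E P z (e' - f') := fun z hz =>
    E_symm P (E_sub_left P (E_symm P (E_pos P hK hz he')) (E_symm P (E_pos P hK hz hf')))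
  exact E_sub_left P (h1 e he) (h1 f hf)

theorem det_mul_of_aug_zero (hK : HasSplitting K P) {x y : K} (hx : P.aug x = 0)
    (hy : P.aug y = 0) : det P (x * y) = 1 := by
  have h := E_all P hK x y
  unfold E at h
  rw [h, hx, hy, zpow_zero, zpow_zero, mul_one]

theorem det_mul_left (hK : HasSplitting K P) (c : K) {y : K} (hy : P.aug y = 0)
    (hy1 : det P y = 1) : det P (c * y) = 1 := by
  have h := E_all P hK c y
  unfold E at h
  rw [h, hy, hy1, zpow_zero, one_zpow, mul_one]

end Det

section Lines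

variable {K : Type u} [CommRing K] [LambdaOps K] (P : PosStructure K)

/-- the augmentation ideal -/
abbrev augI : Ideal K := RingHom.ker P.aug

/-- the quotient by the square of the augmentation ideal -/
abbrev qI : K →+* K ⧸ (augI P * augI P) := Ideal.Quotient.mk (augI P * augI P)

theorem gammaSeries_msum (s : Multiset K) : gammaSeries s.sum = (s.map gammaSeries).prod := by
  induction s using Multiset.induction_on with
  | empty => simp [gammaSeries_zero]
  | cons a s ih =>
    rw [Multiset.sum_cons, gammaSeries_add, ih, Multiset.map_cons, Multiset.prod_cons]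

omit [LambdaOps K] in
theorem msum_sub_one (s : Multiset K) :
    (s.map (fun u => u - 1)).sum = s.sum - (Multiset.card s : K) := by
  induction s using Multiset.induction_on with
  | empty => simp
  | cons a s ih =>
    rw [Multiset.map_cons, Multiset.sum_cons, ih, Multiset.sum_cons, Multiset.card_cons]
    push_cast
    ring

theorem aug_sum_lines (s : Multiset K) (hs : ∀ u ∈ s, P.IsLine u) :
    P.aug s.sum = (Multiset.card s : ℤ) := by
  induction s using Multiset.induction_on with
  | empty => simp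
  | cons u s ih =>
    rw [Multiset.sum_cons, map_add, (hs u (Multiset.mem_cons_self u s)).2,
      ih (fun w hw => hs w (Multiset.mem_cons_of_mem hw)), Multiset.card_cons]
    push_cast
    ring

theorem map_prod_gammaSeries_lines (s : Multiset K) (hs : ∀ u ∈ s, P.IsLine u) :
    P.aug ((s.map (fun u => u - 1)).sum) = 0 ∧
    PowerSeries.map (qI P) ((s.map (fun u => gammaSeries (u - 1))).prod) =
      1 + PowerSeries.C (qI P ((s.map (fun u => u - 1)).sum)) * PowerSeries.X := by
  induction s using Multiset.induction_on with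
  | empty => simp
  | cons u s ih =>
    have hu := hs u (Multiset.mem_cons_self u s)
    obtain ⟨ih1, ih2⟩ := ih (fun w hw => hs w (Multiset.mem_cons_of_mem hw))
    have hu0 : P.aug (u - 1) = 0 := by rw [map_sub, hu.2, map_one, sub_self]
    refine ⟨?_, ?_⟩
    · rw [Multiset.map_cons, Multiset.sum_cons, map_add, hu0, ih1, add_zero]
    · rw [Multiset.map_cons, Multiset.prod_cons, map_mul, ih2, Multiset.map_cons,
        Multiset.sum_cons,
        gammaSeries_line_sub_one (lam_one_eq_zero P) (lam_line_eq_zero P hu)]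
      have hz : (qI P) ((u - 1) * (s.map (fun u => u - 1)).sum) = 0 :=
        Ideal.Quotient.eq_zero_iff_mem.mpr
          (Ideal.mul_mem_mul (RingHom.mem_ker.mpr hu0) (RingHom.mem_ker.mpr ih1))
      rw [map_mul] at hz
      have hz' : PowerSeries.C ((qI P) (u - 1)) *
          PowerSeries.C ((qI P) ((s.map (fun u => u - 1)).sum)) = 0 := by
        rw [← map_mul, hz, map_zero]
      simp only [map_add, map_mul, map_one, PowerSeries.map_C, PowerSeries.map_X]
      linear_combination (PowerSeries.X ^ 2) * hz'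

theorem gamma_mem_sq_of_lines (x : K) (s t : Multiset K) (hs : ∀ u ∈ s, P.IsLine u)
    (ht : ∀ v ∈ t, P.IsLine v) (hcard : Multiset.card s = Multiset.card t)
    (hx : x + t.sum = s.sum) (r : ℕ) (hr : 2 ≤ r) :
    gamma r x ∈ augI P * augI P := by
  have hx' : x + (t.map (fun v => v - 1)).sum = (s.map (fun u => u - 1)).sum := by
    rw [msum_sub_one, msum_sub_one, hcard]
    linear_combination hx
  have hG : gammaSeries x * (t.map (fun v => gammaSeries (v - 1))).prod =
      (s.map (fun u => gammaSeries (u - 1))).prod := by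
    have := congrArg gammaSeries hx'
    rw [gammaSeries_add, gammaSeries_msum, gammaSeries_msum, Multiset.map_map,
      Multiset.map_map] at this
    exact this
  obtain ⟨hA0, hA⟩ := map_prod_gammaSeries_lines P s hs
  obtain ⟨hB0, hB⟩ := map_prod_gammaSeries_lines P t ht
  have hG' := congrArg (PowerSeries.map (qI P)) hG
  rw [map_mul, hA, hB] at hG'
  have hab : PowerSeries.C (qI P ((s.map (fun u => u - 1)).sum)) *
      PowerSeries.C (qI P ((t.map (fun v => v - 1)).sum)) = 0 := by
    rw [← map_mul, ← map_mul, Ideal.Quotient.eq_zero_iff_mem.mpr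
      (Ideal.mul_mem_mul (RingHom.mem_ker.mpr hA0) (RingHom.mem_ker.mpr hB0)), map_zero]
  have hbb : PowerSeries.C (qI P ((t.map (fun v => v - 1)).sum)) *
      PowerSeries.C (qI P ((t.map (fun v => v - 1)).sum)) = 0 := by
    rw [← map_mul, ← map_mul, Ideal.Quotient.eq_zero_iff_mem.mpr
      (Ideal.mul_mem_mul (RingHom.mem_ker.mpr hB0) (RingHom.mem_ker.mpr hB0)), map_zero]
  have hfin : PowerSeries.map (qI P) (gammaSeries x) =
      1 + PowerSeries.C (qI P ((s.map (fun u => u - 1)).sum) -
        qI P ((t.map (fun v => v - 1)).sum)) * PowerSeries.X := by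
    rw [map_sub]
    linear_combination
      (1 - PowerSeries.C (qI P ((t.map (fun v => v - 1)).sum)) * PowerSeries.X) * hG' +
      (PowerSeries.map (qI P) (gammaSeries x) * PowerSeries.X ^ 2) * hbb -
      PowerSeries.X ^ 2 * hab
  have hc := congrArg (PowerSeries.coeff r) hfin
  rw [PowerSeries.coeff_map, coeff_gammaSeries, map_add, PowerSeries.coeff_one,
    if_neg (by omega), PowerSeries.coeff_C_mul, PowerSeries.coeff_X, if_neg (by omega), mul_zero,
    add_zero] at hc
  exact Ideal.Quotient.eq_zero_iff_mem.mp hc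

/-- `ε y = 0` and `det y = 1` -/
def Zp (y : K) : Prop := P.aug y = 0 ∧ det P y = 1

theorem Zp_of_mem_sq (hK : HasSplitting K P) {y : K} (hy : y ∈ augI P * augI P) : Zp P y := by
  refine Submodule.mul_induction_on hy ?_ ?_
  · intro a ha b hb
    have ha' : P.aug a = 0 := RingHom.mem_ker.mp ha
    have hb' : P.aug b = 0 := RingHom.mem_ker.mp hb
    exact ⟨by rw [map_mul, ha', zero_mul], det_mul_of_aug_zero P hK ha' hb'⟩
  · rintro a b ⟨ha1, ha2⟩ ⟨hb1, hb2⟩
    exact ⟨by rw [map_add, ha1, hb1, add_zero], by rw [det_add, ha2, hb2, one_mul]⟩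

theorem Zp_of_ext {K' : Type u} [CommRing K'] [LambdaOps K'] {P' : PosStructure K'} {g : K →+* K'}
    (hg : IsExtension P P' g) {y : K} (h : Zp P' (g y)) : Zp P y := by
  refine ⟨by rw [← hg.aug_comp]; exact h.1, ?_⟩
  have hinj : Function.Injective (g : K →* K') := hg.injective
  apply Units.map_injective hinj
  rw [det_natural P hg, h.2, map_one]

theorem gamma_Zp (hK : HasSplitting K P) {x : K} (hx : P.aug x = 0) (r : ℕ) (hr : 2 ≤ r) :
    Zp P (gamma r x) := by
  obtain ⟨e, f, he, hf, rfl⟩ := P.exists_sub x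
  obtain ⟨K₁, _, _, P₁, f₁, hK₁, hf₁, s₁, hs₁, hsum₁⟩ := exists_split P hK e he
  obtain ⟨K₂, _, _, P₂, f₂, hK₂, hf₂, s₂, hs₂, hsum₂⟩ :=
    exists_split P₁ hK₁ (f₁ f) (hf₁.pos_subset f hf)
  apply Zp_of_ext P hf₁
  apply Zp_of_ext P₁ hf₂
  rw [map_gamma f₁ hf₁.isLambdaHom, map_gamma f₂ hf₂.isLambdaHom]
  apply Zp_of_mem_sq P₂ hK₂
  have c1 : (Multiset.card s₁ : ℤ) = P.aug e := by
    rw [← aug_sum_lines P₁ s₁ hs₁, hsum₁, hf₁.aug_comp]
  have c2 : (Multiset.card s₂ : ℤ) = P.aug f := by
    rw [← aug_sum_lines P₂ s₂ hs₂, hsum₂, hf₂.aug_comp, hf₁.aug_comp]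
  rw [map_sub, sub_eq_zero] at hx
  refine gamma_mem_sq_of_lines P₂ _ (s₁.map f₂) s₂ ?_ hs₂ ?_ ?_ r hr
  · intro u hu
    obtain ⟨w, hw, rfl⟩ := Multiset.mem_map.mp hu
    exact isLine_map P₁ P₂ f₂ hf₂ (hs₁ w hw)
  · rw [Multiset.card_map]
    exact_mod_cast (c1.trans (hx.trans c2.symm))
  · rw [hsum₂, map_sub, map_sub, sub_add_cancel, ← hsum₁, map_multiset_sum]

/-- the ideal `{y | ε y = 0, det y = 1}` -/
noncomputable def Z2 (hK : HasSplitting K P) : Ideal K where
  carrier := setOf (Zp P)
  add_mem' := by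
    rintro a b ⟨ha1, ha2⟩ ⟨hb1, hb2⟩
    exact ⟨by rw [map_add, ha1, hb1, add_zero], by rw [det_add, ha2, hb2, one_mul]⟩
  zero_mem' := ⟨map_zero _, det_zero P⟩
  smul_mem' := by
    rintro c y ⟨hy1, hy2⟩
    exact ⟨by rw [smul_eq_mul, map_mul, hy1, mul_zero],
      by rw [smul_eq_mul]; exact det_mul_left P hK c hy1 hy2⟩

theorem mem_Z2 (hK : HasSplitting K P) {y : K} : y ∈ Z2 P hK ↔ Zp P y := Iff.rfl

/-- the filtration `K ⊇ I ⊇ Z2 ⊇ Z2 ⊇ …` -/
noncomputable def Zf (hK : HasSplitting K P) (n : ℕ) : Ideal K :=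
  if n = 0 then ⊤ else if n = 1 then augI P else Z2 P hK

theorem Zf_zero (hK : HasSplitting K P) : Zf P hK 0 = ⊤ := by simp [Zf]

theorem Zf_one (hK : HasSplitting K P) : Zf P hK 1 = augI P := by simp [Zf]

theorem Zf_two_le (hK : HasSplitting K P) {n : ℕ} (hn : 2 ≤ n) : Zf P hK n = Z2 P hK := by
  unfold Zf
  rw [if_neg (by omega), if_neg (by omega)]

theorem Zf_mul (hK : HasSplitting K P) {a b : ℕ} {x y : K} (hx : x ∈ Zf P hK a)
    (hy : y ∈ Zf P hK b) : x * y ∈ Zf P hK (a + b) := by
  rcases Nat.eq_zero_or_pos a with rfl | ha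
  · rw [zero_add]; exact Ideal.mul_mem_left _ _ hy
  rcases Nat.eq_zero_or_pos b with rfl | hb
  · rw [add_zero]; exact Ideal.mul_mem_right _ _ hx
  rw [Zf_two_le P hK (by omega : 2 ≤ a + b)]
  by_cases ha1 : a = 1
  · by_cases hb1 : b = 1
    · subst ha1 hb1
      rw [Zf_one] at hx hy
      have hx' : P.aug x = 0 := RingHom.mem_ker.mp hx
      have hy' : P.aug y = 0 := RingHom.mem_ker.mp hy
      exact (mem_Z2 P hK).mpr ⟨by rw [map_mul, hx', zero_mul], det_mul_of_aug_zero P hK hx' hy'⟩
    · rw [Zf_two_le P hK (by omega : 2 ≤ b)] at hy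
      exact Ideal.mul_mem_left _ _ hy
  · rw [Zf_two_le P hK (by omega : 2 ≤ a)] at hx
    exact Ideal.mul_mem_right _ _ hx

theorem Zf_anti (hK : HasSplitting K P) {a b : ℕ} (h : a ≤ b) : Zf P hK b ≤ Zf P hK a := by
  rcases Nat.eq_zero_or_pos a with rfl | ha
  · rw [Zf_zero]; exact le_top
  by_cases ha1 : a = 1
  · subst ha1
    by_cases hb1 : b = 1
    · subst hb1; exact le_rfl
    · rw [Zf_two_le P hK (by omega : 2 ≤ b), Zf_one]
      intro y hy
      exact RingHom.mem_ker.mpr ((mem_Z2 P hK).mp hy).1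
  · rw [Zf_two_le P hK (by omega : 2 ≤ a), Zf_two_le P hK (by omega : 2 ≤ b)]

theorem gamma_mem_Zf (hK : HasSplitting K P) {x : K} (hx : P.aug x = 0) (r : ℕ) :
    gamma r x ∈ Zf P hK r := by
  rcases r with _ | _ | r
  · rw [Zf_zero]; exact Submodule.mem_top
  · rw [Zf_one, Groth.Agent.S3291.gamma_one_arg]
    exact RingHom.mem_ker.mpr hx
  · rw [Zf_two_le P hK (by omega)]
    exact (mem_Z2 P hK).mpr (gamma_Zp P hK hx _ (by omega))

theorem list_prod_mem_Zf (hK : HasSplitting K P) (l : List (ℕ × K))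
    (hl : ∀ p ∈ l, P.aug p.2 = 0) :
    (l.map fun p => gamma p.1 p.2).prod ∈ Zf P hK (l.map Prod.fst).sum := by
  induction l with
  | nil => simp [Zf_zero]
  | cons p l ih =>
    simp only [List.map_cons, List.prod_cons, List.sum_cons]
    exact Zf_mul P hK (gamma_mem_Zf P hK (hl p (List.mem_cons_self)) p.1)
      (ih fun q hq => hl q (List.mem_cons_of_mem _ hq))

theorem filt_le_Zf (hK : HasSplitting K P) (n : ℕ) {y : K} (hy : y ∈ gammaFiltration P n) :
    y ∈ Zf P hK n := by
  rw [Groth.Agent.S3291.filt_eq] at hy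
  induction hy using AddSubgroup.closure_induction with
  | mem y hy =>
    obtain ⟨l, h1, h2, rfl⟩ := hy
    exact Zf_anti P hK h2 (list_prod_mem_Zf P hK l h1)
  | zero => exact zero_mem _
  | add a b _ _ ha hb => exact add_mem ha hb
  | neg a _ ha => exact neg_mem ha

theorem aug_eq_zero_of_mem_filt_one (hK : HasSplitting K P) {y : K}
    (hy : y ∈ gammaFiltration P 1) : P.aug y = 0 := by
  have := filt_le_Zf P hK 1 hy
  rw [Zf_one] at this
  exact RingHom.mem_ker.mp this

theorem det_eq_one_of_mem_filt_two (hK : HasSplitting K P) {y : K}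
    (hy : y ∈ gammaFiltration P 2) : det P y = 1 := by
  have := filt_le_Zf P hK 2 hy
  rw [Zf_two_le P hK le_rfl] at this
  exact ((mem_Z2 P hK).mp this).2

theorem line_eq_one (hK : HasSplitting K P) {w : K} (hw : P.IsLine w)
    (h : w - 1 ∈ gammaFiltration P 2) : w = 1 := by
  have h1 := det_eq_one_of_mem_filt_two P hK h
  have h2 := det_add P (w - 1) 1
  rw [sub_add_cancel, h1, one_mul] at h2
  have h3 : ((det P w : Kˣ) : K) = ((det P 1 : Kˣ) : K) := congrArg Units.val h2
  rw [det_line P hw, det_line P (isLine_one P)] at h3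
  exact h3

theorem sub_one_mem_filt_one {u : K} (hu : P.IsLine u) : u - 1 ∈ gammaFiltration P 1 := by
  have haug : P.aug (u - 1) = 0 := by rw [map_sub, hu.2, map_one, sub_self]
  have := gamma_mem P 1 (u - 1) haug
  rwa [Groth.Agent.S3291.gamma_one_arg] at this

/-- `λ^r(e) - 1 ≡ e - r` modulo `F²` for positive `e` of augmentation `r`. -/
theorem lam_top_sub_mem (e : K) (he : e ∈ P.pos) :
    LambdaOps.lam (P.aug e).toNat e - 1 - (e - ((P.aug e).toNat : K)) ∈ gammaFiltration P 2 := by
  set r := (P.aug e).toNat with hr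
  have hpos := P.aug_pos e he
  have h1 := lam_one_eq_zero P
  have hlam : ∀ i : ℕ, r < i → LambdaOps.lam i e = 0 :=
    fun i hi => lam_eq_zero_of_toNat_lt P he hi
  have haug : P.aug (e - (r : K)) = 0 := by
    rw [map_sub, map_natCast, hr]
    omega
  have hev1 : Polynomial.eval 1 (gammaPoly e r) = LambdaOps.lam r e := by
    rw [gammaPoly, Polynomial.eval_finsetSum, Finset.sum_eq_single r]
    · simp
    · intro i hi hne
      rw [Finset.mem_range] at hi
      have : r - i ≠ 0 := by omega
      simp [this]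
    · intro h
      exact absurd (Finset.mem_range.mpr (by omega)) h
  have hev2 : Polynomial.eval 1 (gammaPoly e r) =
      ∑ k ∈ range (r + 1), gamma k (e - (r : K)) := by
    rw [Polynomial.eval_eq_sum_range' (Nat.lt_succ_of_le (natDegree_gammaPoly_le e r))]
    refine Finset.sum_congr rfl (fun k _ => ?_)
    rw [one_pow, mul_one, gamma_eq_coeff_gammaPoly h1 e r hlam]
  obtain ⟨r', hr'⟩ : ∃ r', r = r' + 1 := ⟨r - 1, by omega⟩
  rw [hev1, hr', Finset.sum_range_succ', Finset.sum_range_succ', ← hr'] at hev2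
  rw [hev2, gamma_zero_left, Groth.Agent.S3291.gamma_one_arg]
  have : (∑ k ∈ range r', gamma (k + 1 + 1) (e - (r : K))) + (e - (r : K)) + 1 - 1 -
      (e - (r : K)) = ∑ k ∈ range r', gamma (k + 1 + 1) (e - (r : K)) := by ring
  rw [this]
  refine AddSubgroup.sum_mem _ (fun k _ => ?_)
  exact filt_mono P (by omega) (gamma_mem P (k + 1 + 1) _ haug)

theorem isLine_det (hK : HasSplitting K P)
    (hdet : ∀ e : K, e ∈ P.pos → LambdaOps.lam (P.aug e).toNat e ∈ P.pos) (e : K) (he : e ∈ P.pos) :
    P.IsLine (LambdaOps.lam (P.aug e).toNat e) := by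
  refine ⟨hdet e he, ?_⟩
  rw [aug_lam_pos P hK e he, Nat.choose_self]
  rfl

/-- S3781 -/
theorem line_iso_gr_one (hK : HasSplitting K P)
    (hLinv : ∀ w : K, P.IsLine w → ∃ w' : K, P.IsLine w' ∧ w * w' = 1)
    (hdet : ∀ e : K, e ∈ P.pos → LambdaOps.lam (P.aug e).toNat e ∈ P.pos) :
    (∀ x : K, x ∈ gammaFiltration P 1 →
      ∃ u : K, P.IsLine u ∧ x - (u - 1) ∈ gammaFiltration P 2) ∧
    ∀ u v : K, P.IsLine u → P.IsLine v → u - v ∈ gammaFiltration P 2 → u = v := by
  constructor
  · intro x hx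
    have hx0 := aug_eq_zero_of_mem_filt_one P hK hx
    obtain ⟨e₁, e₂, he₁, he₂, rfl⟩ := P.exists_sub x
    rw [map_sub, sub_eq_zero] at hx0
    have ha := isLine_det P hK hdet e₁ he₁
    have hb := isLine_det P hK hdet e₂ he₂
    have hta := lam_top_sub_mem P e₁ he₁
    have htb := lam_top_sub_mem P e₂ he₂
    rw [← hx0] at htb hb
    set r := (P.aug e₁).toNat with hr
    set a := LambdaOps.lam r e₁ with hadef
    set b := LambdaOps.lam r e₂ with hbdef
    obtain ⟨b', hb', hbb'⟩ := hLinv b hb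
    refine ⟨a * b', isLine_mul P ha hb', ?_⟩
    have hid : e₁ - e₂ - (a * b' - 1) =
        -(a - 1 - (e₁ - (r : K))) + (b - 1 - (e₂ - (r : K))) + (a - 1) * (b - 1) +
          a * ((b - 1) * (b' - 1)) := by
      linear_combination (-a) * hbb'
    rw [hid]
    have m1 := sub_one_mem_filt_one P ha
    have m2 := sub_one_mem_filt_one P hb
    have m3 := sub_one_mem_filt_one P hb'
    exact add_mem (add_mem (add_mem (neg_mem hta) htb) (mul_mem_filt P m1 m2))
      (smul_mem_filt P a _ (mul_mem_filt P m2 m3))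
  · intro u v hu hv huv
    obtain ⟨v', hv', hvv'⟩ := hLinv v hv
    have hw : P.IsLine (u * v') := isLine_mul P hu hv'
    have h1 : u * v' - 1 = v' * (u - v) := by linear_combination hvv'
    have h2 : u * v' - 1 ∈ gammaFiltration P 2 := by
      rw [h1]
      exact smul_mem_filt P v' _ huv
    have h3 := line_eq_one P hK hw h2
    calc u = u * (v * v') := by rw [hvv', mul_one]
      _ = (u * v') * v := by ring
      _ = v := by rw [h3, one_mul]

end Lines

end Groth.Agent.Lib.LambdaDetH1
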