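import Groth.Agent.Lib.LambdaDegH_helper1
import Groth.Agent.Lib.LambdaDet_helper1

/-!
# The Adams operations of the γ-structure and the γ-filtration (helper1)

`gpsi_k(x) = Σ_j (-1)^(j+k) C(k,j) ψ^j(x)` for `ε x = 0`; `gpsi_k(F^n) ⊆ F^n`,
`gpsi_n(x) ≡ n! x` mod `F^{n+1}` on `F^n`, `gpsi_j(x) ∈ F^j`.

APPEND-ONLY: do not change statements of landed lemmas.
-/

universe u

open Finset

namespace Groth.Agent.Lib.LambdaGpsiH1

open LambdaRing Groth.Agent.Lib.LambdaRingH1 Groth.Agent.Lib.LambdaSplitH1 Groth.Agent.Lib.LambdaGAH1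
  Groth.Agent.Lib.LambdaOpsH1 Groth.Agent.Lib.LambdaAdamsH1 Groth.Agent.Lib.LambdaDetH1

variable {K : Type u} [CommRing K] [LambdaOps K] (P : PosStructure K)

omit P in
theorem map_gpsi {K' : Type u} [CommRing K'] [LambdaOps K'] (f : K →+* K') (hf : IsLambdaHom f)
    (k : ℕ) (hk : 1 ≤ k) (x : K) : f (gpsi k x) = gpsi k (f x) :=
  @adams_comm_of_lambdaHom K K' _ _ (gammaOps K) (gammaOps K') f
    (fun i y => map_gamma f hf i y) k hk x

/-- the coefficient `(-1)^(j+k) C(k,j)` -/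
def cf (k j : ℕ) : ℤ := (-1 : ℤ) ^ (j + k) * (k.choose j : ℤ)

omit [LambdaOps K] in
theorem binom_sub_one (u : K) (k : ℕ) :
    ∑ j ∈ range (k + 1), cf k j • u ^ j = (u - 1) ^ k := by
  rw [sub_eq_add_neg, add_pow]
  refine Finset.sum_congr rfl (fun m hm => ?_)
  rw [Finset.mem_range] at hm
  have e : (-1 : K) ^ (k - m) = (-1) ^ (m + k) := by
    have : m + k = (k - m) + 2 * m := by omega
    rw [this, pow_add, pow_mul, neg_one_sq, one_pow, mul_one]
  rw [zsmul_eq_mul, cf]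
  push_cast
  rw [e]
  ring

omit [LambdaOps K] in
theorem sum_cf (k : ℕ) (hk : 1 ≤ k) : ∑ j ∈ range (k + 1), cf k j • (1 : K) = 0 := by
  have h := binom_sub_one (1 : K) k
  simp only [one_pow, sub_self] at h
  rw [h, zero_pow (by omega)]

/-- `D_k(x) = gpsi_k(x) - Σ_j (-1)^(j+k) C(k,j) ψ^j(x)` -/
noncomputable def Dfun (k : ℕ) (x : K) : K :=
  gpsi k x - ∑ j ∈ range (k + 1), cf k j • adams P j x

theorem Dfun_add (k : ℕ) (x y : K) : Dfun P k (x + y) = Dfun P k x + Dfun P k y := by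
  unfold Dfun
  rw [gpsi_add]
  simp only [adams_add, smul_add, Finset.sum_add_distrib]
  ring

/-- `D_k` as an additive map -/
noncomputable def DHom (k : ℕ) : K →+ K := AddMonoidHom.mk' (Dfun P k) (Dfun_add P k)

theorem DHom_apply (k : ℕ) (x : K) : DHom P k x = Dfun P k x := rfl

theorem Dfun_line_sub_one {u : K} (hu : P.IsLine u) (k : ℕ) (hk : 1 ≤ k) :
    Dfun P k (u - 1) = 0 := by
  unfold Dfun
  rw [gpsi_of_gamma_line (gamma_line_sub_one (lam_one_eq_zero P) (lam_line_eq_zero P hu)) k hk]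
  have h1 : ∀ j : ℕ, adams P j (u - 1) = u ^ j - 1 := by
    intro j
    rw [adams_sub, adams_line P hu, adams_one]
  simp only [h1, smul_sub, Finset.sum_sub_distrib]
  rw [binom_sub_one, sum_cf k hk]
  ring

theorem Dfun_of_lines (x : K) (s t : Multiset K) (hs : ∀ u ∈ s, P.IsLine u)
    (ht : ∀ v ∈ t, P.IsLine v) (hcard : Multiset.card s = Multiset.card t)
    (hx : x + t.sum = s.sum) (k : ℕ) (hk : 1 ≤ k) : Dfun P k x = 0 := by
  have hx' : x + (t.map (fun v => v - 1)).sum = (s.map (fun u => u - 1)).sum := by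
    rw [msum_sub_one, msum_sub_one, hcard]
    linear_combination hx
  have h := congrArg (DHom P k) hx'
  rw [map_add, map_multiset_sum, map_multiset_sum] at h
  have hz : ∀ (r : Multiset K), (∀ w ∈ r, P.IsLine w) →
      ((r.map (fun u => u - 1)).map (DHom P k)).sum = 0 := by
    intro r hr
    apply Multiset.sum_eq_zero
    intro a ha
    obtain ⟨b, hb, rfl⟩ := Multiset.mem_map.mp ha
    obtain ⟨w, hw, rfl⟩ := Multiset.mem_map.mp hb
    rw [DHom_apply]
    exact Dfun_line_sub_one P (hr w hw) k hk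
  rw [hz s hs, hz t ht, add_zero, DHom_apply] at h
  exact h

theorem map_Dfun {K' : Type u} [CommRing K'] [LambdaOps K'] {P' : PosStructure K'} {g : K →+* K'}
    (hg : IsExtension P P' g) (k : ℕ) (hk : 1 ≤ k) (x : K) :
    g (Dfun P k x) = Dfun P' k (g x) := by
  unfold Dfun
  rw [map_sub, map_gpsi g hg.isLambdaHom k hk, map_sum]
  congr 1
  refine Finset.sum_congr rfl (fun j _ => ?_)
  rw [map_zsmul, adams_ext P P' g hg]

/-- `gpsi_k(x) = Σ_j (-1)^(j+k) C(k,j) ψ^j(x)` when `ε x = 0`. -/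
theorem Dfun_eq_zero (hK : HasSplitting K P) {x : K} (hx : P.aug x = 0) (k : ℕ) (hk : 1 ≤ k) :
    Dfun P k x = 0 := by
  obtain ⟨e, f, he, hf, rfl⟩ := P.exists_sub x
  obtain ⟨K₁, _, _, P₁, f₁, hK₁, hf₁, s₁, hs₁, hsum₁⟩ := exists_split P hK e he
  obtain ⟨K₂, _, _, P₂, f₂, hK₂, hf₂, s₂, hs₂, hsum₂⟩ :=
    exists_split P₁ hK₁ (f₁ f) (hf₁.pos_subset f hf)
  apply hf₁.injective
  apply hf₂.injective
  rw [map_Dfun P hf₁ k hk, map_Dfun P₁ hf₂ k hk, map_zero, map_zero]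
  have c1 : (Multiset.card s₁ : ℤ) = P.aug e := by
    rw [← aug_sum_lines P₁ s₁ hs₁, hsum₁, hf₁.aug_comp]
  have c2 : (Multiset.card s₂ : ℤ) = P.aug f := by
    rw [← aug_sum_lines P₂ s₂ hs₂, hsum₂, hf₂.aug_comp, hf₁.aug_comp]
  rw [map_sub, sub_eq_zero] at hx
  refine Dfun_of_lines P₂ _ (s₁.map f₂) s₂ ?_ hs₂ ?_ ?_ k hk
  · intro u hu
    obtain ⟨w, hw, rfl⟩ := Multiset.mem_map.mp hu
    exact isLine_map P₁ P₂ f₂ hf₂ (hs₁ w hw)
  · rw [Multiset.card_map]
    exact_mod_cast (c1.trans (hx.trans c2.symm))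
  · rw [hsum₂, map_sub, map_sub, sub_add_cancel, ← hsum₁, map_multiset_sum]

theorem gpsi_sub_mem (hK : HasSplitting K P) {n : ℕ} (hn : 1 ≤ n) {x : K}
    (hx : x ∈ gammaFiltration P n) (k : ℕ) (hk : 1 ≤ k) :
    gpsi k x - ((∑ j ∈ range (k + 1), cf k j * (j : ℤ) ^ n : ℤ) : K) * x ∈
      gammaFiltration P (n + 1) := by
  have hx0 : P.aug x = 0 := aug_eq_zero_of_mem_filt_one P hK (filt_mono P hn hx)
  have hD := Dfun_eq_zero P hK hx0 k hk
  unfold Dfun at hD
  rw [sub_eq_zero] at hD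
  have h : gpsi k x - ((∑ j ∈ range (k + 1), cf k j * (j : ℤ) ^ n : ℤ) : K) * x =
      ∑ j ∈ range (k + 1), cf k j • (adams P j x - (j : K) ^ n * x) := by
    rw [hD]
    push_cast
    rw [Finset.sum_mul, ← Finset.sum_sub_distrib]
    refine Finset.sum_congr rfl (fun j _ => ?_)
    rw [zsmul_eq_mul, zsmul_eq_mul]
    ring
  rw [h]
  refine AddSubgroup.sum_mem _ (fun j _ => ?_)
  exact AddSubgroup.zsmul_mem _ (adams_sub_pow_mem P hK j n x hx) _

theorem gpsi_mem (hK : HasSplitting K P) {n : ℕ} (hn : 1 ≤ n) {x : K}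
    (hx : x ∈ gammaFiltration P n) (k : ℕ) (hk : 1 ≤ k) : gpsi k x ∈ gammaFiltration P n := by
  have h := gpsi_sub_mem P hK hn hx k hk
  have h2 := add_mem (filt_mono P (Nat.le_succ n) h)
    (smul_mem_filt P ((∑ j ∈ range (k + 1), cf k j * (j : ℤ) ^ n : ℤ) : K) x hx)
  rwa [sub_add_cancel] at h2

theorem gpsi_top (hK : HasSplitting K P) {n : ℕ} (hn : 1 ≤ n) {x : K}
    (hx : x ∈ gammaFiltration P n) :
    gpsi n x - (n.factorial : K) * x ∈ gammaFiltration P (n + 1) := by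
  have h := gpsi_sub_mem P hK hn hx n hn
  have e : (∑ j ∈ range (n + 1), cf n j * (j : ℤ) ^ n : ℤ) = (n.factorial : ℤ) := by
    have := alt_sum_choose_pow n
    simpa [cf] using this
  rw [e] at h
  exact_mod_cast h

theorem gpsi_mem_self {x : K} (hx : P.aug x = 0) (n : ℕ) :
    gpsi (n + 1) x ∈ gammaFiltration P (n + 1) := by
  induction n using Nat.strong_induction_on with
  | _ n ih =>
    have hN := gpsi_newton x n
    rw [Finset.sum_range_succ, Nat.sub_self, gamma_zero_left, mul_one] at hN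
    have h1 : (-1 : K) ^ n * gpsi (n + 1) x =
        ((n + 1 : ℕ) : K) * gamma (n + 1) x -
          ∑ i ∈ range n, (-1) ^ i * gpsi (i + 1) x * gamma (n - i) x := by
      rw [hN]; ring
    have h2 : (-1 : K) ^ n * gpsi (n + 1) x ∈ gammaFiltration P (n + 1) := by
      rw [h1]
      refine sub_mem (smul_mem_filt P _ _ (gamma_mem P (n + 1) x hx)) ?_
      refine AddSubgroup.sum_mem _ (fun i hi => ?_)
      rw [Finset.mem_range] at hi
      have := mul_mem_filt P (smul_mem_filt P ((-1 : K) ^ i) _ (ih i hi))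
        (gamma_mem P (n - i) x hx)
      exact filt_mono P (by omega) this
    have h3 := smul_mem_filt P ((-1 : K) ^ n) _ h2
    rwa [← mul_assoc, ← mul_pow, neg_one_mul, neg_neg, one_pow, one_mul] at h3

end Groth.Agent.Lib.LambdaGpsiH1
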