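import Groth.Prelude.Def_KGr
import Mathlib.RingTheory.MvPolynomial.Symmetric.NewtonIdentities

/-!
# Evaluating the Chern character polynomial `KGr.chPoly d` through Newton's identities (helper1)

APPEND-ONLY: do not change statements of landed lemmas.
-/

open Finset MvPolynomial

namespace Groth.Agent.Lib.NewtonChH1

theorem newton_mv (σ : Type*) [Fintype σ] (n : ℕ) :
    ((n + 1 : ℕ) : MvPolynomial σ ℚ) * esymm σ ℚ (n + 1) =
      ∑ i ∈ range (n + 1), (-1) ^ i * psum σ ℚ (i + 1) * esymm σ ℚ (n - i) := by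
  have h := mul_esymm_eq_sum σ ℚ (n + 1)
  have hL : (∑ a ∈ antidiagonal (n + 1) with a.1 < n + 1,
      (-1 : MvPolynomial σ ℚ) ^ a.1 * esymm σ ℚ a.1 * psum σ ℚ a.2) =
      ∑ i ∈ range (n + 1), (-1 : MvPolynomial σ ℚ) ^ (n - i) * esymm σ ℚ (n - i) * psum σ ℚ (i + 1) := by
    rw [Finset.sum_filter,
      Finset.Nat.sum_antidiagonal_eq_sum_range_succ
        (fun a b => if a < n + 1 then (-1 : MvPolynomial σ ℚ) ^ a * esymm σ ℚ a * psum σ ℚ b else 0),
      Finset.sum_range_succ, if_neg (lt_irrefl _), add_zero, ← Finset.sum_range_reflect]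
    refine Finset.sum_congr rfl (fun i hi => ?_)
    rw [Finset.mem_range] at hi
    have e1 : n + 1 - 1 - i = n - i := by omega
    have e2 : n + 1 - (n - i) = i + 1 := by omega
    rw [e1, if_pos (by omega), e2]
  rw [h, hL, Finset.mul_sum]
  refine Finset.sum_congr rfl (fun i hi => ?_)
  rw [Finset.mem_range] at hi
  have e3 : (-1 : MvPolynomial σ ℚ) ^ (n + 1 + 1) * (-1) ^ (n - i) = (-1) ^ i := by
    rw [← pow_add]
    have : n + 1 + 1 + (n - i) = 2 * (n + 1 - i) + i := by omega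
    rw [this, pow_add, pow_mul, neg_one_sq, one_pow, one_mul]
  rw [← e3]
  ring

variable (d : ℕ)

/-- evaluation at the elementary symmetric polynomials -/
noncomputable def ev : MvPolynomial (Fin d) ℚ →ₐ[ℚ] MvPolynomial (Fin d) ℚ :=
  aeval (fun i : Fin d => esymm (Fin d) ℚ (i + 1))

theorem ev_injective : Function.Injective (ev d) := by
  intro a b h
  apply esymmAlgHom_injective ℚ (n := d) (σ := Fin d) (by simp)
  apply Subtype.ext
  rw [esymmAlgHom_apply, esymmAlgHom_apply]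
  exact h

theorem ev_symm (s : symmetricSubalgebra (Fin d) ℚ) :
    ev d ((esymmAlgEquiv (Fin d) ℚ (Fintype.card_fin d)).symm s) = s.1 := by
  have h := (esymmAlgEquiv (Fin d) ℚ (Fintype.card_fin d)).apply_symm_apply s
  have h2 := congrArg Subtype.val h
  rw [esymmAlgEquiv_apply, esymmAlgHom_apply] at h2
  exact h2

/-- the polynomial in `e_1, …, e_d` expressing the `k`-th power sum -/
noncomputable def Q (k : ℕ) : MvPolynomial (Fin d) ℚ :=
  (esymmAlgEquiv (Fin d) ℚ (Fintype.card_fin d)).symm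
    ⟨psum (Fin d) ℚ k, psum_isSymmetric (Fin d) ℚ k⟩

theorem ev_Q (k : ℕ) : ev d (Q d k) = psum (Fin d) ℚ k := by
  rw [Q, ev_symm]

/-- the variable `e_j` (with `e_0 = 1`, and `0` beyond `d`) -/
noncomputable def Xt (j : ℕ) : MvPolynomial (Fin d) ℚ :=
  if h0 : j = 0 then 1 else if h : j ≤ d then X ⟨j - 1, by omega⟩ else 0

theorem ev_Xt {j : ℕ} (hj : j ≤ d) : ev d (Xt d j) = esymm (Fin d) ℚ j := by
  by_cases h0 : j = 0
  · subst h0
    rw [Xt, dif_pos rfl, map_one, esymm_zero]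
  · rw [Xt, dif_neg h0, dif_pos hj, ev, aeval_X]
    show esymm (Fin d) ℚ (j - 1 + 1) = esymm (Fin d) ℚ j
    rw [Nat.sub_add_cancel (by omega)]

theorem ev_chPoly : ev d (KGr.chPoly d) =
    ∑ k ∈ range (d + 1), ((1 : ℚ) / (k.factorial : ℚ)) • psum (Fin d) ℚ k := by
  rw [KGr.chPoly, ev_symm]
  show (∑ i : Fin d, Polynomial.aeval (X i : MvPolynomial (Fin d) ℚ) (KGr.expTrunc d)) = _
  simp only [KGr.expTrunc, map_sum, map_mul, map_pow, Polynomial.aeval_C, Polynomial.aeval_X]
  rw [Finset.sum_comm]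
  refine Finset.sum_congr rfl (fun k _ => ?_)
  rw [psum, Finset.smul_sum]
  refine Finset.sum_congr rfl (fun i _ => ?_)
  rw [Algebra.smul_def]

theorem chPoly_eq : KGr.chPoly d = ∑ k ∈ range (d + 1), ((1 : ℚ) / (k.factorial : ℚ)) • Q d k := by
  apply ev_injective d
  rw [ev_chPoly, map_sum]
  refine Finset.sum_congr rfl (fun k _ => ?_)
  rw [map_smul, ev_Q]

theorem Q_zero : Q d 0 = (d : MvPolynomial (Fin d) ℚ) := by
  apply ev_injective d
  rw [ev_Q, psum_zero, map_natCast, Fintype.card_fin]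

theorem newton_Q {n : ℕ} (hn : n < d) :
    ((n + 1 : ℕ) : MvPolynomial (Fin d) ℚ) * Xt d (n + 1) =
      ∑ i ∈ range (n + 1), (-1) ^ i * Q d (i + 1) * Xt d (n - i) := by
  apply ev_injective d
  rw [map_mul, map_natCast, ev_Xt d (by omega), map_sum, newton_mv]
  refine Finset.sum_congr rfl (fun i hi => ?_)
  rw [Finset.mem_range] at hi
  rw [map_mul, map_mul, map_pow, map_neg, map_one, ev_Q, ev_Xt d (by omega)]

variable {A : Type*} [CommRing A] [Algebra ℚ A]

theorem aeval_Xt (c : Fin d → A) (E : ℕ → A) (hE0 : E 0 = 1)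
    (hEc : ∀ i : Fin d, E (i.1 + 1) = c i) {j : ℕ} (hj : j ≤ d) :
    aeval c (Xt d j) = E j := by
  by_cases h0 : j = 0
  · subst h0
    rw [Xt, dif_pos rfl, map_one, hE0]
  · rw [Xt, dif_neg h0, dif_pos hj, aeval_X, ← hEc]
    show E (j - 1 + 1) = E j
    rw [Nat.sub_add_cancel (by omega)]

theorem aeval_Q (c : Fin d → A) (E G : ℕ → A) (hE0 : E 0 = 1)
    (hEc : ∀ i : Fin d, E (i.1 + 1) = c i)
    (hN : ∀ n, n < d → ((n + 1 : ℕ) : A) * E (n + 1) =
      ∑ i ∈ range (n + 1), (-1) ^ i * G (i + 1) * E (n - i)) (n : ℕ) (hn : n < d) :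
    aeval c (Q d (n + 1)) = G (n + 1) := by
  induction n using Nat.strong_induction_on with
  | _ n ih =>
    have h1 := congrArg (aeval c) (newton_Q d hn)
    rw [map_mul, map_natCast, aeval_Xt d c E hE0 hEc (by omega), map_sum, hN n hn] at h1
    rw [Finset.sum_range_succ, Finset.sum_range_succ] at h1
    have h2 : ∑ i ∈ range n, aeval c ((-1) ^ i * Q d (i + 1) * Xt d (n - i)) =
        ∑ i ∈ range n, (-1) ^ i * G (i + 1) * E (n - i) := by
      refine Finset.sum_congr rfl (fun i hi => ?_)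
      rw [Finset.mem_range] at hi
      rw [map_mul, map_mul, map_pow, map_neg, map_one, ih i hi (by omega),
        aeval_Xt d c E hE0 hEc (by omega)]
    rw [h2, add_right_inj, map_mul, map_mul, map_pow, map_neg, map_one, Nat.sub_self,
      aeval_Xt d c E hE0 hEc (Nat.zero_le d), hE0, mul_one, mul_one] at h1
    have h3 := congrArg (fun z => (-1 : A) ^ n * z) h1
    simp only [← mul_assoc, ← mul_pow, neg_one_mul, neg_neg, one_pow, one_mul] at h3
    exact h3.symm

theorem aeval_chPoly (c : Fin d → A) (E G : ℕ → A) (hE0 : E 0 = 1)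
    (hEc : ∀ i : Fin d, E (i.1 + 1) = c i)
    (hN : ∀ n, n < d → ((n + 1 : ℕ) : A) * E (n + 1) =
      ∑ i ∈ range (n + 1), (-1) ^ i * G (i + 1) * E (n - i)) :
    aeval c (KGr.chPoly d) =
      (d : A) + ∑ k ∈ range d, ((1 : ℚ) / ((k + 1).factorial : ℚ)) • G (k + 1) := by
  rw [chPoly_eq, map_sum, Finset.sum_range_succ', add_comm]
  congr 1
  · rw [map_smul, Q_zero, map_natCast, Nat.factorial_zero, Nat.cast_one, div_one, one_smul]
  · refine Finset.sum_congr rfl (fun k hk => ?_)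
    rw [Finset.mem_range] at hk
    rw [map_smul, aeval_Q d c E G hE0 hEc hN k hk]

end Groth.Agent.Lib.NewtonChH1
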