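import Groth.Agent.Lib.KGrRees_helper1
import Groth.Agent.Lib.NewtonCh_helper1
import Groth.Agent.Lib.LambdaGpsi_helper1

/-!
# The Chern character `ℚ ⊗ K ≅ ℚGr K` when `F^{d+1} K = 0` (helper1)

APPEND-ONLY: do not change statements of landed lemmas.
-/

universe v

set_option synthInstance.maxHeartbeats 400000
set_option maxHeartbeats 1000000

open scoped TensorProduct
open Finset

namespace Groth.Agent.Lib.KGrChH1

open LambdaRing KGr Groth.Agent.Lib.LambdaGAH1 Groth.Agent.Lib.KGrH1 Groth.Agent.Lib.LambdaGpsiH1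
  Groth.Agent.Lib.LambdaOpsH1 Groth.Agent.Lib.LambdaDetH1 Groth.Agent.Lib.NewtonChH1

variable {K : Type v} [CommRing K] [LambdaOps K] (P : PosStructure K)

theorem mem_filt_zero (y : K) : y ∈ gammaFiltration P 0 := by
  unfold gammaFiltration
  simp

theorem cl_neg_one_pow_mul {n : ℕ} {y : K} (hy : y ∈ gammaFiltration P n) (i : ℕ) :
    cl P n ((-1) ^ i * y) = (-1) ^ i * cl P n y := by
  rcases Nat.even_or_odd i with h | h
  · rw [h.neg_one_pow (α := K), h.neg_one_pow (α := Gr P), one_mul, one_mul]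
  · rw [h.neg_one_pow (α := K), h.neg_one_pow (α := Gr P), neg_one_mul, neg_one_mul, cl_neg P hy]

theorem newton_cl {x' : K} (hx0 : P.aug x' = 0) (n : ℕ) :
    ((n + 1 : ℕ) : Gr P) * cl P (n + 1) (gamma (n + 1) x') =
      ∑ i ∈ range (n + 1), (-1) ^ i * cl P (i + 1) (gpsi (i + 1) x') * cl P (n - i) (gamma (n - i) x') := by
  have hN := gpsi_newton x' n
  have h1 := congrArg (cl P (n + 1)) hN
  rw [cl_natCast_mul P (gamma_mem P (n + 1) x' hx0), Nat.cast_smul_eq_nsmul ℚ, nsmul_eq_mul] at h1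
  rw [h1, cl_sum]
  · refine Finset.sum_congr rfl (fun i hi => ?_)
    rw [Finset.mem_range] at hi
    have e : n + 1 = i + 1 + (n - i) := by omega
    have hg : (-1 : K) ^ i * gpsi (i + 1) x' ∈ gammaFiltration P (i + 1) :=
      smul_mem_filt P _ _ (gpsi_mem_self P hx0 i)
    rw [e, ← cl_mul P hg (gamma_mem P (n - i) x' hx0),
      cl_neg_one_pow_mul P (gpsi_mem_self P hx0 i)]
  · intro i hi
    rw [Finset.mem_range] at hi
    have hg : (-1 : K) ^ i * gpsi (i + 1) x' ∈ gammaFiltration P (i + 1) :=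
      smul_mem_filt P _ _ (gpsi_mem_self P hx0 i)
    exact filt_mono P (by omega) (mul_mem_filt P hg (gamma_mem P (n - i) x' hx0))

/-- the part of the Chern character of positive degree -/
noncomputable def chTail (d : ℕ) (z : K) : Gr P :=
  ∑ k ∈ range d, ((1 : ℚ) / ((k + 1).factorial : ℚ)) • cl P (k + 1) (gpsi (k + 1) z)

theorem chK_eq (d : ℕ) (x : K) :
    chK P d x = algebraMap ℚ (Gr P) (P.aug x : ℚ) + chTail P d (x - ((P.aug x : ℤ) : K)) := by
  set x' := x - ((P.aug x : ℤ) : K) with hx'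
  have hx0 : P.aug x' = 0 := by simp [hx']
  have hchern : ∀ i : ℕ, chern P i x = cl P i (gamma i x') := fun i => by
    rw [chern]
    exact grK_eq P (gamma_mem P i x' hx0)
  have key := aeval_chPoly d (A := Gr P) (fun i : Fin d => chern P (i.1 + 1) x)
    (fun j => cl P j (gamma j x')) (fun j => cl P j (gpsi j x'))
    (by rw [gamma_zero_left]; exact cl_one P)
    (fun i => (hchern (i.1 + 1)).symm)
    (fun n _ => newton_cl P hx0 n)
  unfold chK
  rw [key, (algebraMap ℚ (Gr P)).map_sub, map_natCast (algebraMap ℚ (Gr P)), chTail]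
  abel

theorem chTail_add (d : ℕ) {z w : K} (hz : P.aug z = 0) (hw : P.aug w = 0) :
    chTail P d (z + w) = chTail P d z + chTail P d w := by
  unfold chTail
  rw [← Finset.sum_add_distrib]
  refine Finset.sum_congr rfl (fun k _ => ?_)
  rw [gpsi_add, cl_add P (gpsi_mem_self P hz k) (gpsi_mem_self P hw k), smul_add]

theorem chK_add (d : ℕ) (x y : K) : chK P d (x + y) = chK P d x + chK P d y := by
  rw [chK_eq, chK_eq, chK_eq]
  have e : (x + y) - ((P.aug (x + y) : ℤ) : K) =
      (x - ((P.aug x : ℤ) : K)) + (y - ((P.aug y : ℤ) : K)) := by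
    rw [map_add]; push_cast; ring
  have ea : algebraMap ℚ (Gr P) ((P.aug (x + y) : ℤ) : ℚ) =
      algebraMap ℚ (Gr P) (P.aug x : ℚ) + algebraMap ℚ (Gr P) (P.aug y : ℚ) := by
    rw [map_add P.aug, Int.cast_add, (algebraMap ℚ (Gr P)).map_add]
  rw [e, chTail_add P d (by simp) (by simp), ea]
  abel

/-- `ch` as an additive map -/
noncomputable def chHom (d : ℕ) : K →+ Gr P := AddMonoidHom.mk' (chK P d) (chK_add P d)

theorem chHom_apply (d : ℕ) (x : K) : chHom P d x = chK P d x := rfl

/-- the ℚ-linear extension of `ch` -/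
noncomputable def Phi (d : ℕ) : ℚ ⊗[ℤ] K →ₗ[ℚ] Gr P :=
  LinearMap.liftBaseChange ℚ (chHom P d).toIntLinearMap

theorem Phi_tmul (d : ℕ) (q : ℚ) (x : K) : Phi P d (q ⊗ₜ[ℤ] x) = q • chK P d x :=
  LinearMap.liftBaseChange_tmul ℚ _ q x

theorem chTail_mem_span (d : ℕ) {z : K} (hz : P.aug z = 0) (n : ℕ)
    (h : ∀ k, k < d → k + 1 ≤ n → cl P (k + 1) (gpsi (k + 1) z) = 0) :
    chTail P d z ∈ Submodule.span ℚ (gensGt P n) := by
  unfold chTail
  refine Submodule.sum_mem _ (fun k hk => ?_)
  rw [Finset.mem_range] at hk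
  by_cases hkn : k + 1 ≤ n
  · rw [h k hk hkn, smul_zero]
    exact zero_mem _
  · exact Submodule.smul_mem _ _
      (Submodule.subset_span ⟨k + 1, _, by omega, gpsi_mem_self P hz k, rfl⟩)

/-- leading term of the Chern character -/
theorem chK_sub_cl_mem (hK : HasSplitting K P) (d : ℕ) (hd : gammaFiltration P (d + 1) = ⊥)
    {n : ℕ} {x : K} (hx : x ∈ gammaFiltration P n) :
    chK P d x - cl P n x ∈ Submodule.span ℚ (gensGt P n) := by
  rcases Nat.eq_zero_or_pos n with rfl | hn
  · rw [chK_eq]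
    set x' := x - ((P.aug x : ℤ) : K) with hx'
    have hx0 : P.aug x' = 0 := by simp [hx']
    have h1 : x' ∈ gammaFiltration P 1 := by
      have := gamma_mem P 1 x' hx0
      rwa [Groth.Agent.S3291.gamma_one_arg] at this
    have h2 : cl P 0 x = algebraMap ℚ (Gr P) (P.aug x : ℚ) := by
      have e : x = ((P.aug x : ℤ) : K) + x' := by rw [hx']; ring
      conv_lhs => rw [e]
      rw [cl_add P (mem_filt_zero P _) (mem_filt_zero P _), cl_eq_zero P h1, add_zero,
        cl_zero_intCast]
    rw [h2, add_sub_cancel_left]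
    exact chTail_mem_span P d hx0 0 (fun k _ hk => absurd hk (by omega))
  · by_cases hnd : d < n
    · have hx0 : x = 0 := by
        have := filt_mono P (by omega : d + 1 ≤ n) hx
        rw [hd] at this
        exact AddSubgroup.mem_bot.mp this
      rw [hx0, cl_zero, sub_zero]
      have : chK P d 0 = 0 := (chHom P d).map_zero
      rw [this]
      exact zero_mem _
    · have haug : P.aug x = 0 := aug_eq_zero_of_mem_filt_one P hK (filt_mono P hn hx)
      rw [chK_eq, haug]
      simp only [Int.cast_zero, map_zero, sub_zero, zero_add]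
      obtain ⟨m, rfl⟩ : ∃ m, n = m + 1 := ⟨n - 1, by omega⟩
      have hmd : m < d := by omega
      -- subtract the indicator sum
      have hind : cl P (m + 1) x =
          ∑ k ∈ range d, (if k = m then cl P (m + 1) x else 0) := by
        rw [Finset.sum_ite_eq', if_pos (Finset.mem_range.mpr hmd)]
      unfold chTail
      rw [hind, ← Finset.sum_sub_distrib]
      refine Submodule.sum_mem _ (fun k hk => ?_)
      rw [Finset.mem_range] at hk
      rcases lt_trichotomy k m with hlt | heq | hgt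
      · rw [if_neg (by omega), sub_zero]
        have : gpsi (k + 1) x ∈ gammaFiltration P (k + 1 + 1) :=
          filt_mono P (by omega) (gpsi_mem P hK hn hx (k + 1) (by omega))
        rw [cl_eq_zero P this, smul_zero]
        exact zero_mem _
      · subst heq
        rw [if_pos rfl]
        have htop := gpsi_top P hK hn hx
        have hfx : ((k + 1).factorial : K) * x ∈ gammaFiltration P (k + 1) :=
          smul_mem_filt P _ _ hx
        have e : gpsi (k + 1) x =
            ((k + 1).factorial : K) * x + (gpsi (k + 1) x - ((k + 1).factorial : K) * x) := by ring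
        rw [e, cl_add P hfx (filt_mono P (Nat.le_succ _) htop), cl_eq_zero P htop, add_zero,
          cl_natCast_mul P hx, smul_smul]
        have hne : ((k + 1).factorial : ℚ) ≠ 0 := by positivity
        rw [one_div, inv_mul_cancel₀ hne, one_smul, sub_self]
        exact zero_mem _
      · rw [if_neg (by omega), sub_zero]
        exact Submodule.smul_mem _ _
          (Submodule.subset_span ⟨k + 1, _, by omega, gpsi_mem_self P haug k, rfl⟩)

theorem cl_mem_range (hK : HasSplitting K P) (d : ℕ) (hd : gammaFiltration P (d + 1) = ⊥) :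
    ∀ (k n : ℕ), d + 1 ≤ n + k → ∀ y ∈ gammaFiltration P n,
      cl P n y ∈ LinearMap.range (Phi P d) := by
  intro k
  induction k with
  | zero =>
    intro n hn y hy
    have := filt_mono P (by omega : d + 1 ≤ n) hy
    rw [hd] at this
    rw [AddSubgroup.mem_bot.mp this, cl_zero]
    exact zero_mem _
  | succ k ih =>
    intro n hn y hy
    have hspan : Submodule.span ℚ (gensGt P n) ≤ LinearMap.range (Phi P d) := by
      rw [Submodule.span_le]
      rintro w ⟨m, z, hm, hz, rfl⟩
      exact ih m (by omega) z hz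
    have h1 := hspan (chK_sub_cl_mem P hK d hd hy)
    have h2 : chK P d y ∈ LinearMap.range (Phi P d) :=
      ⟨(1 : ℚ) ⊗ₜ[ℤ] y, by rw [Phi_tmul, one_smul]⟩
    have := sub_mem h2 h1
    rwa [sub_sub_cancel] at this

theorem Phi_surjective (hK : HasSplitting K P) (d : ℕ) (hd : gammaFiltration P (d + 1) = ⊥) :
    Function.Surjective (Phi P d) := by
  rw [← LinearMap.range_eq_top, eq_top_iff, ← span_gens_eq_top P, Submodule.span_le]
  rintro w ⟨n, y, hy, rfl⟩
  exact cl_mem_range P hK d hd (d + 1) n (by omega) y hy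

theorem exists_mul_mem (hK : HasSplitting K P) (d : ℕ) (hd : gammaFiltration P (d + 1) = ⊥)
    {x : K} (hx : chK P d x = 0) :
    ∀ n : ℕ, ∃ M : ℕ, 1 ≤ M ∧ (M : K) * x ∈ gammaFiltration P n := by
  intro n
  induction n with
  | zero => exact ⟨1, le_rfl, mem_filt_zero P _⟩
  | succ n ih =>
    obtain ⟨M, hM, hMx⟩ := ih
    have h0 : chK P d ((M : K) * x) = 0 := by
      have := map_nsmul (chHom P d) M x
      rw [chHom_apply, chHom_apply, hx, smul_zero, nsmul_eq_mul] at this
      exact this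
    have h1 := chK_sub_cl_mem P hK d hd hMx
    rw [h0, zero_sub, neg_mem_iff] at h1
    obtain ⟨M', hM', hM'x⟩ := exists_mul_mem_of_cl_mem_span P hMx h1
    refine ⟨M' * M, Nat.one_le_iff_ne_zero.mpr (Nat.mul_ne_zero (by omega) (by omega)), ?_⟩
    rw [Nat.cast_mul, mul_assoc]
    exact hM'x

theorem Phi_injective (hK : HasSplitting K P) (d : ℕ) (hd : gammaFiltration P (d + 1) = ⊥) :
    Function.Injective (Phi P d) := by
  rw [injective_iff_map_eq_zero]
  intro v hv
  obtain ⟨M, x, hM, hMv⟩ := exists_rep v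
  have hMq : (M : ℚ) ≠ 0 := by
    have : 0 < M := hM
    positivity
  have hx : chK P d x = 0 := by
    have h := congrArg (Phi P d) hMv
    rw [map_smul, hv, smul_zero, Phi_tmul, one_smul] at h
    exact h.symm
  obtain ⟨M', hM', hM'x⟩ := exists_mul_mem P hK d hd hx (d + 1)
  rw [hd] at hM'x
  have hz : (M' : K) * x = 0 := AddSubgroup.mem_bot.mp hM'x
  have hM'q : (M' : ℚ) ≠ 0 := by
    have : 0 < M' := hM'
    positivity
  have h1 : (M' : ℚ) • ((1 : ℚ) ⊗ₜ[ℤ] x) = 0 := by
    rw [Nat.cast_smul_eq_nsmul ℚ, ← natCast_zsmul, ← TensorProduct.tmul_smul, zsmul_eq_mul]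
    push_cast
    rw [hz, TensorProduct.tmul_zero]
  have h2 : (1 : ℚ) ⊗ₜ[ℤ] x = 0 := (smul_eq_zero.mp h1).resolve_left hM'q
  rw [h2] at hMv
  exact (smul_eq_zero.mp hMv).resolve_left hMq

/-- S3794 -/
theorem chern_character_iso (hK : HasSplitting K P) (d : ℕ) (hd : gammaFiltration P (d + 1) = ⊥) :
    ∃ Φ : TensorProduct ℤ ℚ K →ₗ[ℚ] KGr.Gr P,
      (∀ x : K, Φ ((1 : ℚ) ⊗ₜ[ℤ] x) = KGr.chK P d x) ∧ Function.Bijective Φ :=
  ⟨Phi P d, fun x => by rw [Phi_tmul, one_smul],
    ⟨Phi_injective P hK d hd, Phi_surjective P hK d hd⟩⟩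

end Groth.Agent.Lib.KGrChH1
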