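import Mathlib
import Groth.Agent.Lib.LambdaGammaAdams_helper1

/-!
# Eigenspaces of Adams operations on `ℚ ⊗ K` (helper1)

APPEND-ONLY: do not change statements of landed lemmas.
-/

universe u

namespace Groth.Agent.Lib.LambdaEigH1

open LambdaRing Groth.Agent.Lib.LambdaRingH1 Groth.Agent.Lib.LambdaSplitH1
  Groth.Agent.Lib.LambdaGAH1
open scoped TensorProduct

variable {K : Type u} [CommRing K] [LambdaOps K] (P : PosStructure K)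

/-- `ℚF^n` -/
def QF (n : ℕ) : Submodule ℚ (ℚ ⊗[ℤ] K) :=
  Submodule.span ℚ ((fun x : K => (1 : ℚ) ⊗ₜ[ℤ] x) '' (gammaFiltration P n : Set K))

omit [LambdaOps K] in
theorem tmul_eq_smul (q : ℚ) (x : K) : q ⊗ₜ[ℤ] x = q • ((1 : ℚ) ⊗ₜ[ℤ] x) := by
  rw [TensorProduct.smul_tmul', smul_eq_mul, mul_one]

theorem tmul_mem_QF {n : ℕ} {x : K} (hx : x ∈ gammaFiltration P n) (q : ℚ) :
    q ⊗ₜ[ℤ] x ∈ QF P n := by
  rw [tmul_eq_smul]
  exact Submodule.smul_mem _ _ (Submodule.subset_span ⟨x, hx, rfl⟩)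

theorem QF_zero : QF P 0 = ⊤ := by
  rw [eq_top_iff]
  intro v hv
  clear hv
  induction v using TensorProduct.induction_on with
  | zero => exact zero_mem _
  | tmul q x => exact tmul_mem_QF P (by unfold gammaFiltration; simp) q
  | add a b ha hb => exact add_mem ha hb

theorem QF_mono {a b : ℕ} (h : a ≤ b) : QF P b ≤ QF P a :=
  Submodule.span_mono (Set.image_mono (SetLike.coe_subset_coe.2 (filt_mono P h)))

theorem QF_eq_bot {d : ℕ} (hd : gammaFiltration P (d + 1) = ⊥) {n : ℕ} (hn : d + 1 ≤ n) :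
    QF P n = ⊥ := by
  rw [eq_bot_iff]
  refine (QF_mono P hn).trans ?_
  unfold QF
  rw [hd, Submodule.span_le]
  rintro _ ⟨x, hx, rfl⟩
  have h0 : x = 0 := hx
  simp [h0]

section Psi

variable (hK : HasSplitting K P) (j : ℕ) (Ψ : ℚ ⊗[ℤ] K →ₗ[ℚ] ℚ ⊗[ℤ] K)
  (hΨ : ∀ x : K, Ψ (1 ⊗ₜ[ℤ] x) = 1 ⊗ₜ[ℤ] adams P j x)

include hK hΨ

theorem Psi_sub_mem {n : ℕ} {v : ℚ ⊗[ℤ] K} (hv : v ∈ QF P n) :
    Ψ v - ((j : ℚ) ^ n) • v ∈ QF P (n + 1) := by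
  unfold QF at hv
  induction hv using Submodule.span_induction with
  | mem v hv =>
    obtain ⟨x, hx, rfl⟩ := hv
    rw [hΨ]
    have e : (1 : ℚ) ⊗ₜ[ℤ] adams P j x - ((j : ℚ) ^ n) • ((1 : ℚ) ⊗ₜ[ℤ] x) =
        (1 : ℚ) ⊗ₜ[ℤ] (adams P j x - (j : K) ^ n * x) := by
      rw [TensorProduct.tmul_sub]
      congr 1
      have e1 : (j : K) ^ n * x = ((j ^ n : ℕ) : ℤ) • x := by
        rw [zsmul_eq_mul]; push_cast; ring
      rw [e1, ← TensorProduct.smul_tmul, TensorProduct.smul_tmul', smul_eq_mul, mul_one,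
        zsmul_eq_mul, mul_one]
      push_cast
      rfl
    rw [e]
    exact tmul_mem_QF P (adams_sub_pow_mem P hK j n x hx) 1
  | zero => simp
  | add a b _ _ ha hb =>
    have e : Ψ (a + b) - ((j : ℚ) ^ n) • (a + b) =
        (Ψ a - ((j : ℚ) ^ n) • a) + (Ψ b - ((j : ℚ) ^ n) • b) := by
      rw [map_add, smul_add]; abel
    rw [e]
    exact add_mem ha hb
  | smul q a _ ha =>
    have e : Ψ (q • a) - ((j : ℚ) ^ n) • (q • a) = q • (Ψ a - ((j : ℚ) ^ n) • a) := by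
      rw [map_smul, smul_sub, smul_comm]
    rw [e]
    exact Submodule.smul_mem _ _ ha

theorem eigen_le_QF (hj : 2 ≤ j) (m : ℕ) : Module.End.eigenspace Ψ ((j : ℚ) ^ m) ≤ QF P m := by
  intro v hv
  rw [Module.End.mem_eigenspace_iff] at hv
  have h1j : (1 : ℚ) < (j : ℚ) := by exact_mod_cast hj
  have key : ∀ n, n ≤ m → v ∈ QF P n := by
    intro n
    induction n with
    | zero =>
      intro _
      rw [QF_zero]
      trivial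
    | succ n ih =>
      intro hn
      have h1 := Psi_sub_mem P hK j Ψ hΨ (ih (by omega))
      rw [hv, ← sub_smul] at h1
      have hne : (j : ℚ) ^ m - (j : ℚ) ^ n ≠ 0 := by
        have hlt : (j : ℚ) ^ n < (j : ℚ) ^ m := pow_lt_pow_right₀ h1j (by omega)
        exact (sub_pos.2 hlt).ne'
      have h2 := Submodule.smul_mem _ ((j : ℚ) ^ m - (j : ℚ) ^ n)⁻¹ h1
      rwa [smul_smul, inv_mul_cancel₀ hne, one_smul] at h2
  exact key m le_rfl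

theorem eigen_inf_QF_aux {d : ℕ} (hd : gammaFiltration P (d + 1) = ⊥) (μ : ℚ) :
    ∀ i n, n + i = d + 1 → (∀ k, n ≤ k → μ ≠ (j : ℚ) ^ k) →
      ∀ v ∈ QF P n, Ψ v = μ • v → v = 0 := by
  intro i
  induction i with
  | zero =>
    intro n hn _ v hv _
    rw [QF_eq_bot P hd (by omega)] at hv
    exact (Submodule.mem_bot ℚ).1 hv
  | succ i ih =>
    intro n hn hμ v hv hΨv
    have h1 := Psi_sub_mem P hK j Ψ hΨ hv
    rw [hΨv, ← sub_smul] at h1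
    have h2 := ih (n + 1) (by omega) (fun k hk => hμ k (by omega)) _ h1
      (by rw [map_smul, hΨv, smul_comm])
    have hne : μ - (j : ℚ) ^ n ≠ 0 := sub_ne_zero.2 (hμ n le_rfl)
    exact (smul_eq_zero.1 h2).resolve_left hne

theorem eigen_inf_QF {d : ℕ} (hd : gammaFiltration P (d + 1) = ⊥) (μ : ℚ) (n : ℕ)
    (hμ : ∀ k, n ≤ k → μ ≠ (j : ℚ) ^ k) (v : ℚ ⊗[ℤ] K) (hv : v ∈ QF P n) (hΨv : Ψ v = μ • v) :
    v = 0 := by
  by_cases hn : n ≤ d + 1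
  · exact eigen_inf_QF_aux P hK j Ψ hΨ hd μ (d + 1 - n) n (by omega) hμ v hv hΨv
  · rw [QF_eq_bot P hd (by omega)] at hv
    exact (Submodule.mem_bot ℚ).1 hv

/-- sum of the eigenspaces for `j^m`, `n ≤ m ≤ d` -/
def Sp (d n : ℕ) : Submodule ℚ (ℚ ⊗[ℤ] K) :=
  ⨆ m : ℕ, ⨆ (_ : n ≤ m ∧ m ≤ d), Module.End.eigenspace Ψ ((j : ℚ) ^ m)

omit [LambdaOps K] hK hΨ in
theorem eigen_le_Sp {d n m : ℕ} (h : n ≤ m ∧ m ≤ d) :
    Module.End.eigenspace Ψ ((j : ℚ) ^ m) ≤ Sp j Ψ d n :=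
  le_iSup₂ (f := fun (m : ℕ) (_ : n ≤ m ∧ m ≤ d) => Module.End.eigenspace Ψ ((j : ℚ) ^ m)) m h

omit hK hΨ in
theorem Sp_mono {d a b : ℕ} (h : a ≤ b) : Sp j Ψ d b ≤ Sp j Ψ d a :=
  iSup₂_le fun _ hm => eigen_le_Sp j Ψ ⟨h.trans hm.1, hm.2⟩

theorem Sp_le_QF (hj : 2 ≤ j) (d n : ℕ) : Sp j Ψ d n ≤ QF P n :=
  iSup₂_le fun m hm => (eigen_le_QF P hK j Ψ hΨ hj m).trans (QF_mono P hm.1)

omit hK hΨ in
theorem exists_preimage (hj : 2 ≤ j) (d n : ℕ) (w : ℚ ⊗[ℤ] K) (hw : w ∈ Sp j Ψ d (n + 1)) :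
    ∃ u ∈ Sp j Ψ d (n + 1), Ψ u - ((j : ℚ) ^ n) • u = w := by
  have h1j : (1 : ℚ) < (j : ℚ) := by exact_mod_cast hj
  unfold Sp at hw
  induction hw using Submodule.iSup_induction' with
  | mem m x hx =>
    by_cases hm : n + 1 ≤ m ∧ m ≤ d
    · rw [iSup_pos hm] at hx
      have hx' := Module.End.mem_eigenspace_iff.1 hx
      have hne : (j : ℚ) ^ m - (j : ℚ) ^ n ≠ 0 := by
        have hlt : (j : ℚ) ^ n < (j : ℚ) ^ m := pow_lt_pow_right₀ h1j (by omega)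
        exact (sub_pos.2 hlt).ne'
      refine ⟨((j : ℚ) ^ m - (j : ℚ) ^ n)⁻¹ • x,
        eigen_le_Sp j Ψ hm (Submodule.smul_mem _ _ hx), ?_⟩
      rw [map_smul, hx', smul_comm ((j : ℚ) ^ n), ← smul_sub, ← sub_smul, smul_smul,
        inv_mul_cancel₀ hne, one_smul]
    · rw [iSup_neg hm] at hx
      rw [(Submodule.mem_bot ℚ).1 hx]
      exact ⟨0, zero_mem _, by simp⟩
  | zero => exact ⟨0, zero_mem _, by simp⟩
  | add x y _ _ hx hy =>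
    obtain ⟨u₁, hu₁, e₁⟩ := hx
    obtain ⟨u₂, hu₂, e₂⟩ := hy
    refine ⟨u₁ + u₂, add_mem hu₁ hu₂, ?_⟩
    rw [map_add, smul_add, ← e₁, ← e₂]
    abel

theorem QF_le_Sp_aux (hj : 2 ≤ j) {d : ℕ} (hd : gammaFiltration P (d + 1) = ⊥) :
    ∀ i n, n + i = d + 1 → QF P n ≤ Sp j Ψ d n := by
  intro i
  induction i with
  | zero =>
    intro n hn
    rw [QF_eq_bot P hd (by omega)]
    exact bot_le
  | succ i ih =>
    intro n hn v hv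
    have hw := ih (n + 1) (by omega) (Psi_sub_mem P hK j Ψ hΨ hv)
    obtain ⟨u, hu, hue⟩ := exists_preimage j Ψ hj d n _ hw
    have h1 : v - u ∈ Module.End.eigenspace Ψ ((j : ℚ) ^ n) := by
      rw [Module.End.mem_eigenspace_iff, map_sub, smul_sub]
      have e2 : Ψ v - Ψ u - (((j : ℚ) ^ n) • v - ((j : ℚ) ^ n) • u) =
          (Ψ v - ((j : ℚ) ^ n) • v) - (Ψ u - ((j : ℚ) ^ n) • u) := by abel
      exact sub_eq_zero.1 (by rw [e2, hue, sub_self])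
    have h2 : v = (v - u) + u := by abel
    rw [h2]
    exact add_mem (eigen_le_Sp j Ψ ⟨le_rfl, by omega⟩ h1) (Sp_mono j Ψ (Nat.le_succ n) hu)

theorem QF_le_Sp (hj : 2 ≤ j) {d : ℕ} (hd : gammaFiltration P (d + 1) = ⊥) (n : ℕ) :
    QF P n ≤ Sp j Ψ d n := by
  by_cases hn : n ≤ d + 1
  · exact QF_le_Sp_aux P hK j Ψ hΨ hj hd (d + 1 - n) n (by omega)
  · rw [QF_eq_bot P hd (by omega)]
    exact bot_le

end Psi

theorem Psi_comm (hK : HasSplitting K P) (j l : ℕ) (Ψj Ψl : ℚ ⊗[ℤ] K →ₗ[ℚ] ℚ ⊗[ℤ] K)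
    (hΨj : ∀ x : K, Ψj (1 ⊗ₜ[ℤ] x) = 1 ⊗ₜ[ℤ] adams P j x)
    (hΨl : ∀ x : K, Ψl (1 ⊗ₜ[ℤ] x) = 1 ⊗ₜ[ℤ] adams P l x) (v : ℚ ⊗[ℤ] K) :
    Ψj (Ψl v) = Ψl (Ψj v) := by
  induction v using TensorProduct.induction_on with
  | zero => simp
  | tmul q x =>
    rw [tmul_eq_smul, map_smul, map_smul, map_smul, map_smul, hΨl, hΨj, hΨj, hΨl,
      adams_adams P hK, adams_adams P hK, mul_comm]
  | add a b ha hb => rw [map_add, map_add, map_add, map_add, ha, hb]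

theorem eigen_le_eigen (hK : HasSplitting K P) {d : ℕ} (hd : gammaFiltration P (d + 1) = ⊥)
    (j l : ℕ) (hj : 2 ≤ j) (Ψj Ψl : ℚ ⊗[ℤ] K →ₗ[ℚ] ℚ ⊗[ℤ] K)
    (hΨj : ∀ x : K, Ψj (1 ⊗ₜ[ℤ] x) = 1 ⊗ₜ[ℤ] adams P j x)
    (hΨl : ∀ x : K, Ψl (1 ⊗ₜ[ℤ] x) = 1 ⊗ₜ[ℤ] adams P l x) (m : ℕ) :
    Module.End.eigenspace Ψj ((j : ℚ) ^ m) ≤ Module.End.eigenspace Ψl ((l : ℚ) ^ m) := by
  intro v hv
  have h1j : (1 : ℚ) < (j : ℚ) := by exact_mod_cast hj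
  have hvQ := eigen_le_QF P hK j Ψj hΨj hj m hv
  rw [Module.End.mem_eigenspace_iff] at hv ⊢
  have hw := Psi_sub_mem P hK l Ψl hΨl hvQ
  have hjw : Ψj (Ψl v - ((l : ℚ) ^ m) • v) = ((j : ℚ) ^ m) • (Ψl v - ((l : ℚ) ^ m) • v) := by
    rw [map_sub, map_smul, Psi_comm P hK j l Ψj Ψl hΨj hΨl, hv, map_smul, smul_sub, smul_comm]
  have h0 := eigen_inf_QF P hK j Ψj hΨj hd ((j : ℚ) ^ m) (m + 1)
    (fun k hk => (pow_lt_pow_right₀ h1j (by omega)).ne) _ hw hjw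
  exact sub_eq_zero.1 h0

end Groth.Agent.Lib.LambdaEigH1
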