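import Groth.Agent.Lib.KGrCh_helper1
import Groth.Agent.Lib.LambdaEigen_helper1

/-!
# The Chern character is multiplicative (helper1)

APPEND-ONLY: do not change statements of landed lemmas.
-/

universe u

set_option synthInstance.maxHeartbeats 400000
set_option maxHeartbeats 1000000

open scoped TensorProduct
open Finset

namespace Groth.Agent.Lib.KGrMulH1

open LambdaRing KGr Groth.Agent.Lib.LambdaGAH1 Groth.Agent.Lib.KGrH1 Groth.Agent.Lib.LambdaGpsiH1
  Groth.Agent.Lib.LambdaOpsH1 Groth.Agent.Lib.LambdaDetH1 Groth.Agent.Lib.KGrChH1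
  Groth.Agent.Lib.LambdaEigH1 Groth.Agent.Lib.LambdaSplitH1

variable {K : Type u} [CommRing K] [LambdaOps K] (P : PosStructure K)

/-- the degree-`k` component of the Chern character -/
noncomputable def comp : ℕ → K → Gr P
  | 0, x => algebraMap ℚ (Gr P) (P.aug x : ℚ)
  | (k + 1), x =>
    ((1 : ℚ) / ((k + 1).factorial : ℚ)) • cl P (k + 1) (gpsi (k + 1) (x - ((P.aug x : ℤ) : K)))

theorem comp_zero (x : K) : comp P 0 x = algebraMap ℚ (Gr P) (P.aug x : ℚ) := rfl

theorem comp_succ (k : ℕ) (x : K) : comp P (k + 1) x =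
    ((1 : ℚ) / ((k + 1).factorial : ℚ)) • cl P (k + 1) (gpsi (k + 1) (x - ((P.aug x : ℤ) : K))) :=
  rfl

theorem chK_eq_sum (d : ℕ) (x : K) : chK P d x = ∑ k ∈ range (d + 1), comp P k x := by
  rw [chK_eq, Finset.sum_range_succ', add_comm]
  rfl

theorem comp_add (k : ℕ) (x y : K) : comp P k (x + y) = comp P k x + comp P k y := by
  rcases k with _ | k
  · rw [comp_zero, comp_zero, comp_zero, map_add P.aug, Int.cast_add,
      (algebraMap ℚ (Gr P)).map_add]
  · rw [comp_succ, comp_succ, comp_succ]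
    have e : (x + y) - ((P.aug (x + y) : ℤ) : K) =
        (x - ((P.aug x : ℤ) : K)) + (y - ((P.aug y : ℤ) : K)) := by
      rw [map_add]; push_cast; ring
    rw [e, gpsi_add, cl_add P (gpsi_mem_self P (by simp) k) (gpsi_mem_self P (by simp) k),
      smul_add]

/-- `comp k` as an additive map -/
noncomputable def compHom (k : ℕ) : K →+ Gr P := AddMonoidHom.mk' (comp P k) (comp_add P k)

/-- the ℚ-linear extension of `comp k` -/
noncomputable def Phik (k : ℕ) : ℚ ⊗[ℤ] K →ₗ[ℚ] Gr P :=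
  LinearMap.liftBaseChange ℚ (compHom P k).toIntLinearMap

theorem Phik_tmul (k : ℕ) (q : ℚ) (x : K) : Phik P k (q ⊗ₜ[ℤ] x) = q • comp P k x :=
  LinearMap.liftBaseChange_tmul ℚ _ q x

theorem aug_adams (hK : HasSplitting K P) (j : ℕ) (x : K) : P.aug (adams P j x) = P.aug x := by
  have h := adams_sub_pow_mem P hK j 0 x (mem_filt_zero P x)
  rw [pow_zero, one_mul] at h
  have := aug_eq_zero_of_mem_filt_one P hK h
  rw [map_sub, sub_eq_zero] at this
  exact this

theorem adams_intCast (hK : HasSplitting K P) (j : ℕ) (k : ℤ) : adams P j (k : K) = k := by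
  have := map_intCast (adamsRingHom P hK j) k
  rwa [adamsRingHom_apply] at this

theorem comp_of_mem (hK : HasSplitting K P) {m : ℕ} {x : K} (hx : x ∈ gammaFiltration P m) :
    comp P m x = cl P m x := by
  rcases m with _ | m
  · set x' := x - ((P.aug x : ℤ) : K) with hx'
    have hx0 : P.aug x' = 0 := by simp [hx']
    have h1 : x' ∈ gammaFiltration P 1 := by
      have := gamma_mem P 1 x' hx0
      rwa [Groth.Agent.S3291.gamma_one_arg] at this
    have e : x = ((P.aug x : ℤ) : K) + x' := by rw [hx']; ring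
    rw [comp_zero]
    conv_rhs => rw [e]
    rw [cl_add P (mem_filt_zero P _) (mem_filt_zero P _), cl_eq_zero P h1, add_zero,
      cl_zero_intCast]
  · have hn : 1 ≤ m + 1 := by omega
    have haug : P.aug x = 0 := aug_eq_zero_of_mem_filt_one P hK (filt_mono P hn hx)
    rw [comp_succ, haug]
    simp only [Int.cast_zero, sub_zero]
    have htop := gpsi_top P hK hn hx
    have hfx : ((m + 1).factorial : K) * x ∈ gammaFiltration P (m + 1) :=
      smul_mem_filt P _ _ hx
    have e : gpsi (m + 1) x =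
        ((m + 1).factorial : K) * x + (gpsi (m + 1) x - ((m + 1).factorial : K) * x) := by ring
    rw [e, cl_add P hfx (filt_mono P (Nat.le_succ _) htop), cl_eq_zero P htop, add_zero,
      cl_natCast_mul P hx, smul_smul]
    have hne : ((m + 1).factorial : ℚ) ≠ 0 := by positivity
    rw [one_div, inv_mul_cancel₀ hne, one_smul]

theorem gpsi_adams (hK : HasSplitting K P) (j k : ℕ) (hk : 1 ≤ k) (z : K) (hz : P.aug z = 0) :
    gpsi k (adams P j z) = adams P j (gpsi k z) := by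
  have hz' : P.aug (adams P j z) = 0 := by rw [aug_adams P hK, hz]
  have h1 := Dfun_eq_zero P hK hz k hk
  have h2 := Dfun_eq_zero P hK hz' k hk
  unfold Dfun at h1 h2
  rw [sub_eq_zero] at h1 h2
  rw [h2, h1]
  have e : adams P j (∑ l ∈ range (k + 1), cf k l • adams P l z) =
      ∑ l ∈ range (k + 1), cf k l • adams P j (adams P l z) := by
    have := map_sum (adamsHom P j) (fun l => cf k l • adams P l z) (range (k + 1))
    simp only [map_zsmul, adamsHom_apply] at this
    exact this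
  rw [e]
  refine Finset.sum_congr rfl (fun l _ => ?_)
  rw [adams_adams P hK, adams_adams P hK, mul_comm]

theorem cl_adams (hK : HasSplitting K P) (j : ℕ) {k : ℕ} {y : K}
    (hy : y ∈ gammaFiltration P k) : cl P k (adams P j y) = ((j : ℚ) ^ k) • cl P k y := by
  have h := adams_sub_pow_mem P hK j k y hy
  have hjy : (j : K) ^ k * y ∈ gammaFiltration P k := smul_mem_filt P _ _ hy
  have e : adams P j y = (j : K) ^ k * y + (adams P j y - (j : K) ^ k * y) := by ring
  have e2 : cl P k (adams P j y) =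
      cl P k ((j : K) ^ k * y + (adams P j y - (j : K) ^ k * y)) := by rw [← e]
  rw [e2, cl_add P hjy (filt_mono P (Nat.le_succ k) h), cl_eq_zero P h, add_zero]
  have e3 : ((j : K) ^ k) = ((j ^ k : ℕ) : K) := by push_cast; rfl
  rw [e3, cl_natCast_mul P hy]
  push_cast
  rfl

theorem comp_adams (hK : HasSplitting K P) (j k : ℕ) (x : K) :
    comp P k (adams P j x) = ((j : ℚ) ^ k) • comp P k x := by
  rcases k with _ | k
  · rw [comp_zero, comp_zero, aug_adams P hK, pow_zero, one_smul]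
  · rw [comp_succ, comp_succ, aug_adams P hK]
    have e : adams P j x - ((P.aug x : ℤ) : K) = adams P j (x - ((P.aug x : ℤ) : K)) := by
      rw [adams_sub, adams_intCast P hK]
    rw [e, gpsi_adams P hK j (k + 1) (by omega) _ (by simp),
      cl_adams P hK j (gpsi_mem_self P (by simp) k), smul_comm]

/-- `ψ^j ⊗ ℚ` -/
noncomputable def PsiL (j : ℕ) : ℚ ⊗[ℤ] K →ₗ[ℚ] ℚ ⊗[ℤ] K :=
  LinearMap.baseChange ℚ (adamsHom P j).toIntLinearMap

theorem PsiL_tmul (j : ℕ) (q : ℚ) (x : K) : PsiL P j (q ⊗ₜ[ℤ] x) = q ⊗ₜ[ℤ] adams P j x :=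
  LinearMap.baseChange_tmul _ q x

theorem PsiL_mul (hK : HasSplitting K P) (j : ℕ) (v v' : ℚ ⊗[ℤ] K) :
    PsiL P j (v * v') = PsiL P j v * PsiL P j v' := by
  induction v using TensorProduct.induction_on with
  | zero => rw [zero_mul, map_zero, zero_mul]
  | tmul q x =>
    induction v' using TensorProduct.induction_on with
    | zero => rw [mul_zero, map_zero, mul_zero]
    | tmul q' y =>
      rw [Algebra.TensorProduct.tmul_mul_tmul, PsiL_tmul, PsiL_tmul, PsiL_tmul,
        Algebra.TensorProduct.tmul_mul_tmul, adams_mul P hK]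
    | add a b ha hb => rw [mul_add, map_add, map_add, mul_add, ha, hb]
  | add a b ha hb => rw [add_mul, map_add, map_add, add_mul, ha, hb]

theorem Phik_PsiL (hK : HasSplitting K P) (j k : ℕ) (v : ℚ ⊗[ℤ] K) :
    Phik P k (PsiL P j v) = ((j : ℚ) ^ k) • Phik P k v := by
  induction v using TensorProduct.induction_on with
  | zero => rw [map_zero, map_zero, smul_zero]
  | tmul q x => rw [PsiL_tmul, Phik_tmul, Phik_tmul, comp_adams P hK, smul_comm]
  | add a b ha hb => rw [map_add, map_add, map_add, smul_add, ha, hb]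

theorem eigen_kill (hK : HasSplitting K P) {j : ℕ} (hj : 2 ≤ j) {a k : ℕ} (hak : k ≠ a)
    {v : ℚ ⊗[ℤ] K} (hv : v ∈ Module.End.eigenspace (PsiL P j) ((j : ℚ) ^ a)) :
    Phik P k v = 0 := by
  have h1 := Phik_PsiL P hK j k v
  rw [Module.End.mem_eigenspace_iff.mp hv, map_smul] at h1
  have h2 : ((j : ℚ) ^ a - (j : ℚ) ^ k) • Phik P k v = 0 := by rw [sub_smul, h1, sub_self]
  rcases smul_eq_zero.mp h2 with h | h
  · exfalso
    rw [sub_eq_zero] at h
    have h3 : j ^ a = j ^ k := by exact_mod_cast h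
    exact hak (Nat.pow_right_injective hj h3).symm
  · exact h

theorem QF_mult (hK : HasSplitting K P) {a b : ℕ} {v v' : ℚ ⊗[ℤ] K} (hv : v ∈ QF P a)
    (hv' : v' ∈ QF P b) : Phik P a v * Phik P b v' = Phik P (a + b) (v * v') := by
  unfold QF at hv hv'
  induction hv using Submodule.span_induction with
  | mem w hw =>
    obtain ⟨x, hx, rfl⟩ := hw
    induction hv' using Submodule.span_induction with
    | mem w' hw' =>
      obtain ⟨y, hy, rfl⟩ := hw'
      have hx' : x ∈ gammaFiltration P a := hx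
      have hy' : y ∈ gammaFiltration P b := hy
      rw [Algebra.TensorProduct.tmul_mul_tmul, one_mul, Phik_tmul, Phik_tmul, Phik_tmul,
        one_smul, one_smul, one_smul, comp_of_mem P hK hx', comp_of_mem P hK hy',
        comp_of_mem P hK (mul_mem_filt P hx' hy'), cl_mul P hx' hy']
    | zero => rw [map_zero, mul_zero, mul_zero, map_zero]
    | add c e _ _ hc he => rw [map_add, mul_add, mul_add, map_add, hc, he]
    | smul q c _ hc => rw [map_smul, mul_smul_comm, mul_smul_comm, map_smul, hc]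
  | zero => rw [map_zero, zero_mul, zero_mul, map_zero]
  | add c e _ _ hc he => rw [map_add, add_mul, add_mul, map_add, hc, he]
  | smul q c _ hc => rw [map_smul, smul_mul_assoc, smul_mul_assoc, map_smul, hc]

/-- the sum of the components up to degree `d` -/
noncomputable def Xi (d : ℕ) (v : ℚ ⊗[ℤ] K) : Gr P := ∑ k ∈ range (d + 1), Phik P k v

theorem Xi_tmul (d : ℕ) (x : K) : Xi P d ((1 : ℚ) ⊗ₜ[ℤ] x) = chK P d x := by
  rw [Xi, chK_eq_sum]
  refine Finset.sum_congr rfl (fun k _ => ?_)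
  rw [Phik_tmul, one_smul]

theorem Xi_zero (d : ℕ) : Xi P d 0 = 0 := by
  unfold Xi
  simp

theorem Xi_add (d : ℕ) (v w : ℚ ⊗[ℤ] K) : Xi P d (v + w) = Xi P d v + Xi P d w := by
  unfold Xi
  rw [← Finset.sum_add_distrib]
  refine Finset.sum_congr rfl (fun k _ => ?_)
  rw [map_add]

theorem Xi_eigen (hK : HasSplitting K P) {j : ℕ} (hj : 2 ≤ j) {d a : ℕ} (ha : a ≤ d)
    {v : ℚ ⊗[ℤ] K} (hv : v ∈ Module.End.eigenspace (PsiL P j) ((j : ℚ) ^ a)) :
    Xi P d v = Phik P a v := by
  unfold Xi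
  rw [Finset.sum_eq_single a]
  · intro k _ hk
    exact eigen_kill P hK hj hk hv
  · intro h
    exact absurd (Finset.mem_range.mpr (by omega)) h

theorem Xi_mul_eigen (hK : HasSplitting K P) {j : ℕ} (hj : 2 ≤ j) {d : ℕ}
    (hd : gammaFiltration P (d + 1) = ⊥) {a b : ℕ} (ha : a ≤ d) (hb : b ≤ d)
    {v v' : ℚ ⊗[ℤ] K} (hv : v ∈ Module.End.eigenspace (PsiL P j) ((j : ℚ) ^ a))
    (hv' : v' ∈ Module.End.eigenspace (PsiL P j) ((j : ℚ) ^ b)) :
    Xi P d (v * v') = Xi P d v * Xi P d v' := by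
  have hΨ : ∀ x : K, PsiL P j ((1 : ℚ) ⊗ₜ[ℤ] x) = (1 : ℚ) ⊗ₜ[ℤ] adams P j x :=
    fun x => PsiL_tmul P j 1 x
  have hvQ := eigen_le_QF P hK j (PsiL P j) hΨ hj a hv
  have hvQ' := eigen_le_QF P hK j (PsiL P j) hΨ hj b hv'
  have hprod : v * v' ∈ Module.End.eigenspace (PsiL P j) ((j : ℚ) ^ (a + b)) := by
    rw [Module.End.mem_eigenspace_iff] at hv hv' ⊢
    rw [PsiL_mul P hK, hv, hv', smul_mul_smul_comm, ← pow_add]
  rw [Xi_eigen P hK hj ha hv, Xi_eigen P hK hj hb hv', QF_mult P hK hvQ hvQ']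
  by_cases hab : a + b ≤ d
  · rw [Xi_eigen P hK hj hab hprod]
  · have h0 : v * v' = 0 := by
      have h1 := eigen_le_QF P hK j (PsiL P j) hΨ hj (a + b) hprod
      rw [QF_eq_bot P hd (by omega)] at h1
      exact (Submodule.mem_bot ℚ).mp h1
    rw [h0, Xi_zero, map_zero]

theorem mem_iSup_eigen (hK : HasSplitting K P) {j : ℕ} (hj : 2 ≤ j) {d : ℕ}
    (hd : gammaFiltration P (d + 1) = ⊥) (v : ℚ ⊗[ℤ] K) :
    v ∈ Sp j (PsiL P j) d 0 := by
  have hΨ : ∀ x : K, PsiL P j ((1 : ℚ) ⊗ₜ[ℤ] x) = (1 : ℚ) ⊗ₜ[ℤ] adams P j x :=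
    fun x => PsiL_tmul P j 1 x
  have h := QF_le_Sp P hK j (PsiL P j) hΨ hj hd 0
  rw [QF_zero] at h
  exact h Submodule.mem_top

omit [LambdaOps K] in
theorem Sp_induction {j d : ℕ} {Ψ : ℚ ⊗[ℤ] K →ₗ[ℚ] ℚ ⊗[ℤ] K} {motive : ℚ ⊗[ℤ] K → Prop}
    (mem : ∀ a, a ≤ d → ∀ v ∈ Module.End.eigenspace Ψ ((j : ℚ) ^ a), motive v)
    (zero : motive 0) (add : ∀ x y, motive x → motive y → motive (x + y))
    {v : ℚ ⊗[ℤ] K} (hv : v ∈ Sp j Ψ d 0) : motive v := by
  unfold Sp at hv
  refine Submodule.iSup_induction _ (motive := motive) hv ?_ zero add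
  intro m x hx
  by_cases hm : 0 ≤ m ∧ m ≤ d
  · rw [iSup_pos hm] at hx
    exact mem m hm.2 x hx
  · rw [iSup_neg hm] at hx
    rw [(Submodule.mem_bot ℚ).mp hx]
    exact zero

theorem Xi_mul (hK : HasSplitting K P) {d : ℕ} (hd : gammaFiltration P (d + 1) = ⊥)
    (v v' : ℚ ⊗[ℤ] K) : Xi P d (v * v') = Xi P d v * Xi P d v' := by
  have hj : 2 ≤ 2 := le_rfl
  have hv := mem_iSup_eigen P hK hj hd v
  have hv' := mem_iSup_eigen P hK hj hd v'
  revert v'
  refine Sp_induction (motive := fun v => ∀ v', v' ∈ Sp 2 (PsiL P 2) d 0 →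
    Xi P d (v * v') = Xi P d v * Xi P d v') ?_ ?_ ?_ hv
  · intro a ha w hw v' hv'
    refine Sp_induction (motive := fun v' => Xi P d (w * v') = Xi P d w * Xi P d v') ?_ ?_ ?_ hv'
    · intro b hb w' hw'
      exact Xi_mul_eigen P hK hj hd ha hb hw hw'
    · rw [mul_zero, Xi_zero, mul_zero]
    · intro x y hx hy
      rw [mul_add, Xi_add, Xi_add, mul_add, hx, hy]
  · intro v' _
    rw [zero_mul, Xi_zero, zero_mul]
  · intro x y hx hy v' hv'
    rw [add_mul, Xi_add, Xi_add, add_mul, hx v' hv', hy v' hv']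

theorem chTail_zero (d : ℕ) : chTail P d 0 = 0 := by
  unfold chTail
  refine Finset.sum_eq_zero (fun k _ => ?_)
  rw [gpsi_zero, cl_zero, smul_zero]

/-- S8140 -/
theorem chK_mul (hK : HasSplitting K P) (d : ℕ) (hd : gammaFiltration P (d + 1) = ⊥) (x y : K) :
    chK P d (x * y) = chK P d x * chK P d y ∧ chK P d 1 = 1 := by
  constructor
  · rw [← Xi_tmul, ← Xi_tmul, ← Xi_tmul, ← Xi_mul P hK hd, Algebra.TensorProduct.tmul_mul_tmul,
      one_mul]
  · rw [chK_eq]
    have e : (1 : K) - ((P.aug (1 : K) : ℤ) : K) = 0 := by simp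
    rw [e, chTail_zero, add_zero, map_one, Int.cast_one, map_one]

end Groth.Agent.Lib.KGrMulH1
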