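import Groth.Prelude.Def_KGr
import Groth.Agent.Lib.LambdaGammaAdams_helper1
import Mathlib.RingTheory.Localization.BaseChange

/-!
# The Rees ring of the γ-filtration and `ℚGr K` (helper1)

Classes `cl n y ∈ ℚGr K` of `y ∈ F^n`, their additivity / multiplicativity, spanning, and the
degree-`n` projections.

APPEND-ONLY: do not change statements of landed lemmas.
-/

universe v

open scoped TensorProduct
open LaurentPolynomial Finset

namespace Groth.Agent.Lib.KGrH1

open LambdaRing KGr Groth.Agent.Lib.LambdaGAH1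

section Torsion

variable {A : Type*} [AddCommGroup A]

theorem tmul_eq_zero_imp (a : A) (h : (1 : ℚ) ⊗ₜ[ℤ] a = 0) : ∃ M : ℕ, 1 ≤ M ∧ M • a = 0 := by
  have h' : TensorProduct.mk ℤ ℚ A 1 a = 0 := h
  obtain ⟨s, hs⟩ := (IsLocalizedModule.eq_zero_iff (nonZeroDivisors ℤ)
    (TensorProduct.mk ℤ ℚ A 1) (m := a)).mp h'
  have hs' : (s : ℤ) • a = 0 := hs
  have hne : (s : ℤ) ≠ 0 := nonZeroDivisors.coe_ne_zero s
  refine ⟨(s : ℤ).natAbs, Int.natAbs_pos.mpr hne, ?_⟩
  have : ((s : ℤ).natAbs : ℤ) • a = 0 := by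
    rcases Int.natAbs_eq (s : ℤ) with h | h
    · rw [← h]; exact hs'
    · have e : ((s : ℤ).natAbs : ℤ) = -(s : ℤ) := by omega
      rw [e, neg_smul, hs', neg_zero]
  rwa [natCast_zsmul] at this

theorem exists_rep (v : ℚ ⊗[ℤ] A) : ∃ (M : ℕ) (a : A), 1 ≤ M ∧ (M : ℚ) • v = (1 : ℚ) ⊗ₜ[ℤ] a := by
  obtain ⟨⟨a, s⟩, hs⟩ := IsLocalizedModule.surj (nonZeroDivisors ℤ) (TensorProduct.mk ℤ ℚ A 1) v
  have hs' : (s : ℤ) • v = (1 : ℚ) ⊗ₜ[ℤ] a := hs
  have hne : (s : ℤ) ≠ 0 := nonZeroDivisors.coe_ne_zero s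
  have hM : ∀ w : ℚ ⊗[ℤ] A, (((s : ℤ).natAbs : ℕ) : ℚ) • w = (((s : ℤ).natAbs : ℕ) : ℤ) • w := by
    intro w
    rw [Nat.cast_smul_eq_nsmul ℚ, natCast_zsmul]
  rcases Int.natAbs_eq (s : ℤ) with h | h
  · refine ⟨(s : ℤ).natAbs, a, Int.natAbs_pos.mpr hne, ?_⟩
    rw [hM, ← h, hs']
  · refine ⟨(s : ℤ).natAbs, -a, Int.natAbs_pos.mpr hne, ?_⟩
    have e : ((s : ℤ).natAbs : ℤ) = -(s : ℤ) := by omega
    rw [hM, e, neg_smul, hs', TensorProduct.tmul_neg]

end Torsion

variable {K : Type v} [CommRing K] [LambdaOps K] (P : PosStructure K)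

theorem coeff_mem_of_mem_closure {p : LaurentPolynomial K} (hp : p ∈ Subring.closure (reesGens P)) :
    ∀ m : ℤ, p.coeff m ∈ gammaFiltration P (-m).toNat := by
  induction hp using Subring.closure_induction with
  | mem x hx =>
    intro m
    rcases Set.mem_insert_iff.mp hx with rfl | ⟨n, y, hy, rfl⟩
    · rw [T_apply]
      split_ifs with h
      · subst h
        have e : (-(1 : ℤ)).toNat = 0 := Int.toNat_of_nonpos (by norm_num)
        rw [e]
        exact one_mem_filt P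
      · exact zero_mem _
    · rw [← single_eq_C_mul_T, AddMonoidAlgebra.coeff_single, Finsupp.single_apply]
      split_ifs with h
      · subst h
        simpa using hy
      · exact zero_mem _
  | zero =>
    intro m
    rw [AddMonoidAlgebra.coeff_zero, Finsupp.zero_apply]
    exact zero_mem _
  | one =>
    intro m
    rw [← T_zero, T_apply]
    split_ifs with h
    · subst h
      simpa using one_mem_filt P
    · exact zero_mem _
  | add x y _ _ hx hy =>
    intro m
    rw [AddMonoidAlgebra.coeff_add, Finsupp.add_apply]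
    exact add_mem (hx m) (hy m)
  | neg x _ hx =>
    intro m
    rw [AddMonoidAlgebra.coeff_neg, Finsupp.neg_apply]
    exact neg_mem (hx m)
  | mul x y _ _ hx hy =>
    intro m
    rw [AddMonoidAlgebra.coeff_mul, Finsupp.sum]
    refine AddSubgroup.sum_mem _ (fun a _ => ?_)
    rw [Finsupp.sum]
    refine AddSubgroup.sum_mem _ (fun b _ => ?_)
    split_ifs with h
    · have := mul_mem_filt P (hx a) (hy b)
      exact filt_mono P (by omega) this
    · exact zero_mem _

theorem coeff_mem_of_mem_rees {p : LaurentPolynomial K} (hp : p ∈ rees P) (m : ℤ) :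
    p.coeff m ∈ gammaFiltration P (-m).toNat :=
  coeff_mem_of_mem_closure P hp m

theorem mono_mem (n : ℕ) (y : K) (hy : y ∈ gammaFiltration P n) :
    C y * T (-(n : ℤ)) ∈ rees P :=
  Subring.subset_closure (Set.mem_insert_of_mem _ ⟨n, y, hy, rfl⟩)

open Classical in
/-- the class of `y T^{-n}` in `Gr K` (zero if `y ∉ F^n`) -/
noncomputable def clsZ (n : ℕ) (y : K) : GrZ P :=
  if h : y ∈ gammaFiltration P n then
    Ideal.Quotient.mk (Ideal.span {tGen P}) ⟨C y * T (-(n : ℤ)), mono_mem P n y h⟩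
  else 0

theorem clsZ_of_mem {n : ℕ} {y : K} (h : y ∈ gammaFiltration P n) :
    clsZ P n y =
      Ideal.Quotient.mk (Ideal.span {tGen P}) ⟨C y * T (-(n : ℤ)), mono_mem P n y h⟩ := by
  rw [clsZ, dif_pos h]

theorem clsZ_add {n : ℕ} {y z : K} (hy : y ∈ gammaFiltration P n) (hz : z ∈ gammaFiltration P n) :
    clsZ P n (y + z) = clsZ P n y + clsZ P n z := by
  rw [clsZ_of_mem P hy, clsZ_of_mem P hz, clsZ_of_mem P (add_mem hy hz), ← map_add]
  congr 1
  apply Subtype.ext
  show C (y + z) * T (-(n : ℤ)) = C y * T (-(n : ℤ)) + C z * T (-(n : ℤ))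
  rw [map_add, add_mul]

theorem clsZ_mul {n m : ℕ} {y z : K} (hy : y ∈ gammaFiltration P n)
    (hz : z ∈ gammaFiltration P m) :
    clsZ P n y * clsZ P m z = clsZ P (n + m) (y * z) := by
  rw [clsZ_of_mem P hy, clsZ_of_mem P hz, clsZ_of_mem P (mul_mem_filt P hy hz), ← map_mul]
  congr 1
  apply Subtype.ext
  show (C y * T (-(n : ℤ))) * (C z * T (-(m : ℤ))) = C (y * z) * T (-((n + m : ℕ) : ℤ))
  rw [map_mul, Nat.cast_add, neg_add, T_add]
  ring

theorem clsZ_eq_zero {n : ℕ} {y : K} (hy : y ∈ gammaFiltration P (n + 1)) : clsZ P n y = 0 := by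
  have hy' := filt_mono P (Nat.le_succ n) hy
  rw [clsZ_of_mem P hy', Ideal.Quotient.eq_zero_iff_mem, Ideal.mem_span_singleton]
  refine ⟨⟨C y * T (-((n + 1 : ℕ) : ℤ)), mono_mem P (n + 1) y hy⟩, Subtype.ext ?_⟩
  show C y * T (-(n : ℤ)) = T 1 * (C y * T (-((n + 1 : ℕ) : ℤ)))
  rw [mul_left_comm, ← T_add]
  congr 2
  push_cast
  ring

theorem clsZ_one : clsZ P 0 1 = 1 := by
  rw [clsZ_of_mem P (one_mem_filt P)]
  have : (⟨C (1 : K) * T (-((0 : ℕ) : ℤ)), mono_mem P 0 1 (one_mem_filt P)⟩ : rees P) = 1 := by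
    apply Subtype.ext
    show C (1 : K) * T (-((0 : ℕ) : ℤ)) = 1
    rw [map_one, Nat.cast_zero, neg_zero, T_zero, mul_one]
  rw [this, map_one]

/-- the class of `y ∈ F^n` in `ℚGr^n K` -/
noncomputable def cl (n : ℕ) (y : K) : Gr P := (1 : ℚ) ⊗ₜ[ℤ] clsZ P n y

theorem cl_add {n : ℕ} {y z : K} (hy : y ∈ gammaFiltration P n) (hz : z ∈ gammaFiltration P n) :
    cl P n (y + z) = cl P n y + cl P n z := by
  rw [cl, clsZ_add P hy hz, TensorProduct.tmul_add]
  rfl

theorem cl_mul {n m : ℕ} {y z : K} (hy : y ∈ gammaFiltration P n)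
    (hz : z ∈ gammaFiltration P m) : cl P n y * cl P m z = cl P (n + m) (y * z) := by
  rw [cl, cl, Algebra.TensorProduct.tmul_mul_tmul, one_mul, clsZ_mul P hy hz]
  rfl

theorem cl_eq_zero {n : ℕ} {y : K} (hy : y ∈ gammaFiltration P (n + 1)) : cl P n y = 0 := by
  rw [cl, clsZ_eq_zero P hy, TensorProduct.tmul_zero]

theorem cl_one : cl P 0 1 = 1 := by
  rw [cl, clsZ_one]
  rfl

/-- `cl n` as an additive map on `F^n` -/
noncomputable def clHom (n : ℕ) : gammaFiltration P n →+ Gr P :=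
  AddMonoidHom.mk' (fun y => cl P n y.1) (fun a b => cl_add P a.2 b.2)

theorem clHom_apply (n : ℕ) (y : gammaFiltration P n) : clHom P n y = cl P n y.1 := rfl

theorem cl_zero (n : ℕ) : cl P n 0 = 0 := (clHom P n).map_zero

theorem cl_neg {n : ℕ} {y : K} (hy : y ∈ gammaFiltration P n) : cl P n (-y) = -cl P n y :=
  (clHom P n).map_neg ⟨y, hy⟩

theorem cl_sub {n : ℕ} {y z : K} (hy : y ∈ gammaFiltration P n) (hz : z ∈ gammaFiltration P n) :
    cl P n (y - z) = cl P n y - cl P n z :=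
  (clHom P n).map_sub ⟨y, hy⟩ ⟨z, hz⟩

theorem cl_zsmul {n : ℕ} {y : K} (hy : y ∈ gammaFiltration P n) (k : ℤ) :
    cl P n (k • y) = k • cl P n y :=
  map_zsmul (clHom P n) k ⟨y, hy⟩

theorem cl_sum {n : ℕ} {ι : Type*} (s : Finset ι) (f : ι → K)
    (hf : ∀ i ∈ s, f i ∈ gammaFiltration P n) :
    cl P n (∑ i ∈ s, f i) = ∑ i ∈ s, cl P n (f i) := by
  classical
  induction s using Finset.induction_on with
  | empty => simp [cl_zero]
  | insert a s ha ih =>
    rw [Finset.sum_insert ha, Finset.sum_insert ha,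
      cl_add P (hf a (Finset.mem_insert_self a s))
        (AddSubgroup.sum_mem _ fun i hi => hf i (Finset.mem_insert_of_mem hi)),
      ih fun i hi => hf i (Finset.mem_insert_of_mem hi)]

theorem cl_intCast_mul {n : ℕ} {y : K} (hy : y ∈ gammaFiltration P n) (k : ℤ) :
    cl P n ((k : K) * y) = (k : ℚ) • cl P n y := by
  rw [← zsmul_eq_mul, cl_zsmul P hy, Int.cast_smul_eq_zsmul]

theorem cl_natCast_mul {n : ℕ} {y : K} (hy : y ∈ gammaFiltration P n) (k : ℕ) :
    cl P n ((k : K) * y) = (k : ℚ) • cl P n y := by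
  have := cl_intCast_mul P hy (k : ℤ)
  simpa using this

theorem cl_zero_intCast (k : ℤ) : cl P 0 ((k : ℤ) : K) = algebraMap ℚ (Gr P) k := by
  have h := cl_intCast_mul P (one_mem_filt P) k
  rw [mul_one, cl_one] at h
  rw [h, Algebra.algebraMap_eq_smul_one]

theorem clsZ_zsmul {n : ℕ} {y : K} (hy : y ∈ gammaFiltration P n) (k : ℤ) :
    clsZ P n (k • y) = k • clsZ P n y := by
  have := map_zsmul (AddMonoidHom.mk' (fun y : gammaFiltration P n => clsZ P n y.1)
    (fun a b => clsZ_add P a.2 b.2)) k ⟨y, hy⟩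
  exact this

theorem grK_eq {n : ℕ} {y : K} (hy : y ∈ gammaFiltration P n) : grK P (n : ℤ) y = cl P n y := by
  have h : ∃ N : ℕ, 1 ≤ N ∧ C ((N : K) * y) * T (-(n : ℤ)) ∈ rees P :=
    ⟨1, le_rfl, by rw [Nat.cast_one, one_mul]; exact mono_mem P n y hy⟩
  unfold grK
  rw [dif_pos h]
  obtain ⟨hN1, hN2⟩ := h.choose_spec
  have hNy : ((h.choose : ℕ) : K) * y ∈ gammaFiltration P n := smul_mem_filt P _ _ hy
  have e1 : (Ideal.Quotient.mk (Ideal.span {tGen P})
      ⟨C (((h.choose : ℕ) : K) * y) * T (-(n : ℤ)), hN2⟩) = clsZ P n (((h.choose : ℕ) : K) * y) := by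
    rw [clsZ_of_mem P hNy]
  rw [e1]
  have e2 : clsZ P n (((h.choose : ℕ) : K) * y) = ((h.choose : ℕ) : ℤ) • clsZ P n y := by
    rw [← clsZ_zsmul P hy, zsmul_eq_mul]
    push_cast
    rfl
  rw [e2, ← TensorProduct.smul_tmul, cl]
  congr 1
  rw [zsmul_eq_mul]
  have : ((h.choose : ℕ) : ℚ) ≠ 0 := by
    have : 0 < h.choose := hN1
    positivity
  push_cast
  field_simp

/-- generators of `ℚGr K` -/
def gens : Set (Gr P) := {w | ∃ (n : ℕ) (y : K), y ∈ gammaFiltration P n ∧ w = cl P n y}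

/-- generators of the part of `ℚGr K` of degree `> n` -/
def gensGt (n : ℕ) : Set (Gr P) :=
  {w | ∃ (m : ℕ) (y : K), n < m ∧ y ∈ gammaFiltration P m ∧ w = cl P m y}

theorem span_mul {a b : Gr P} (ha : a ∈ Submodule.span ℚ (gens P))
    (hb : b ∈ Submodule.span ℚ (gens P)) : a * b ∈ Submodule.span ℚ (gens P) := by
  induction ha using Submodule.span_induction with
  | mem x hx =>
    obtain ⟨n, y, hy, rfl⟩ := hx
    induction hb using Submodule.span_induction with
    | mem x' hx' =>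
      obtain ⟨m, z, hz, rfl⟩ := hx'
      rw [cl_mul P hy hz]
      exact Submodule.subset_span ⟨n + m, y * z, mul_mem_filt P hy hz, rfl⟩
    | zero => rw [mul_zero]; exact zero_mem _
    | add x' y' _ _ hx' hy' => rw [mul_add]; exact add_mem hx' hy'
    | smul c x' _ hx' => rw [mul_smul_comm]; exact Submodule.smul_mem _ c hx'
  | zero => rw [zero_mul]; exact zero_mem _
  | add x y _ _ hx hy => rw [add_mul]; exact add_mem hx hy
  | smul c x _ hx => rw [smul_mul_assoc]; exact Submodule.smul_mem _ c hx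

set_option synthInstance.maxHeartbeats 100000 in
theorem one_tmul_mem_span {p : LaurentPolynomial K} (hp : p ∈ Subring.closure (reesGens P)) :
    (1 : ℚ) ⊗ₜ[ℤ] (Ideal.Quotient.mk (Ideal.span {tGen P}) (⟨p, hp⟩ : rees P)) ∈
      Submodule.span ℚ (gens P) := by
  induction hp using Subring.closure_induction with
  | mem x hx =>
    rcases Set.mem_insert_iff.mp hx with rfl | ⟨n, y, hy, rfl⟩
    · have : Ideal.Quotient.mk (Ideal.span {tGen P}) (⟨T 1, Subring.subset_closure hx⟩ : rees P) = 0 :=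
        Ideal.Quotient.eq_zero_iff_mem.mpr (Ideal.subset_span rfl)
      rw [this, TensorProduct.tmul_zero]
      exact zero_mem _
    · have : Ideal.Quotient.mk (Ideal.span {tGen P})
          (⟨C y * T (-(n : ℤ)), Subring.subset_closure hx⟩ : rees P) = clsZ P n y := by
        rw [clsZ_of_mem P hy]
      rw [this]
      exact Submodule.subset_span ⟨n, y, hy, rfl⟩
  | zero =>
    have : (⟨0, Subring.zero_mem _⟩ : rees P) = 0 := rfl
    rw [this, map_zero, TensorProduct.tmul_zero]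
    exact zero_mem _
  | one =>
    have : (⟨1, Subring.one_mem _⟩ : rees P) = 1 := rfl
    rw [this, map_one, ← clsZ_one P]
    exact Submodule.subset_span ⟨0, 1, one_mem_filt P, rfl⟩
  | add x y hx hy ihx ihy =>
    have : (⟨x + y, Subring.add_mem _ hx hy⟩ : rees P) = ⟨x, hx⟩ + ⟨y, hy⟩ := rfl
    rw [this, map_add, TensorProduct.tmul_add]
    exact add_mem ihx ihy
  | neg x hx ihx =>
    have : (⟨-x, Subring.neg_mem _ hx⟩ : rees P) = -⟨x, hx⟩ := rfl
    rw [this, map_neg, TensorProduct.tmul_neg]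
    exact neg_mem ihx
  | mul x y hx hy ihx ihy =>
    have : (⟨x * y, Subring.mul_mem _ hx hy⟩ : rees P) = ⟨x, hx⟩ * ⟨y, hy⟩ := rfl
    rw [this, map_mul]
    have e := Algebra.TensorProduct.tmul_mul_tmul (R := ℤ) (1 : ℚ) (1 : ℚ)
      (Ideal.Quotient.mk (Ideal.span {tGen P}) (⟨x, hx⟩ : rees P))
      (Ideal.Quotient.mk (Ideal.span {tGen P}) (⟨y, hy⟩ : rees P))
    rw [one_mul] at e
    rw [← e]
    exact span_mul P ihx ihy

theorem span_gens_eq_top : Submodule.span ℚ (gens P) = ⊤ := by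
  rw [eq_top_iff]
  rintro w -
  induction w using TensorProduct.induction_on with
  | zero => exact zero_mem _
  | tmul q z =>
    obtain ⟨p, rfl⟩ := Ideal.Quotient.mk_surjective z
    have h := one_tmul_mem_span P p.2
    have e : q ⊗ₜ[ℤ] (Ideal.Quotient.mk (Ideal.span {tGen P}) p) =
        q • ((1 : ℚ) ⊗ₜ[ℤ] (Ideal.Quotient.mk (Ideal.span {tGen P}) (⟨p.1, p.2⟩ : rees P))) := by
      rw [TensorProduct.smul_tmul', smul_eq_mul, mul_one]
    rw [e]
    exact Submodule.smul_mem _ q h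
  | add a b ha hb => exact add_mem ha hb

section Proj

theorem coeff_sub_mem (n : ℕ) (a b : rees P) (h : a - b ∈ Ideal.span {tGen P}) :
    a.1.coeff (-(n : ℤ)) - b.1.coeff (-(n : ℤ)) ∈ gammaFiltration P (n + 1) := by
  obtain ⟨q, hq⟩ := Ideal.mem_span_singleton.mp h
  have h1 : a.1 - b.1 = T 1 * q.1 := congrArg Subtype.val hq
  have h2 := congrArg (fun f : LaurentPolynomial K => f.coeff (-(n : ℤ))) h1
  simp only [AddMonoidAlgebra.coeff_sub, Finsupp.sub_apply] at h2
  rw [h2, T, AddMonoidAlgebra.coeff_single_mul_apply, one_mul]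
  have := coeff_mem_of_mem_rees P q.2 (-1 + -(n : ℤ))
  have e : (-(-1 + -(n : ℤ))).toNat = n + 1 := by omega
  rwa [e] at this

/-- the degree-`n` component map `Gr K → K / F^{n+1}` -/
noncomputable def piFun (n : ℕ) (z : GrZ P) : K ⧸ gammaFiltration P (n + 1) :=
  QuotientAddGroup.mk
    ((Function.surjInv (Ideal.Quotient.mk_surjective (I := Ideal.span {tGen P})) z).1.coeff
      (-(n : ℤ)))

theorem piFun_mk (n : ℕ) (p : rees P) :
    piFun P n (Ideal.Quotient.mk (Ideal.span {tGen P}) p) =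
      QuotientAddGroup.mk (p.1.coeff (-(n : ℤ))) := by
  unfold piFun
  rw [QuotientAddGroup.eq_iff_sub_mem]
  apply coeff_sub_mem
  rw [← Ideal.Quotient.eq]
  exact Function.surjInv_eq _ _

theorem piFun_add (n : ℕ) (z w : GrZ P) : piFun P n (z + w) = piFun P n z + piFun P n w := by
  obtain ⟨a, rfl⟩ := Ideal.Quotient.mk_surjective z
  obtain ⟨b, rfl⟩ := Ideal.Quotient.mk_surjective w
  rw [← map_add, piFun_mk, piFun_mk, piFun_mk]
  show QuotientAddGroup.mk ((a.1 + b.1).coeff (-(n : ℤ))) = _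
  rw [AddMonoidAlgebra.coeff_add, Finsupp.add_apply]
  rfl

/-- `piFun` as an additive map -/
noncomputable def piHom (n : ℕ) : GrZ P →+ K ⧸ gammaFiltration P (n + 1) :=
  AddMonoidHom.mk' (piFun P n) (piFun_add P n)

theorem piHom_clsZ_self {n : ℕ} {y : K} (hy : y ∈ gammaFiltration P n) :
    piHom P n (clsZ P n y) = QuotientAddGroup.mk y := by
  show piFun P n (clsZ P n y) = _
  rw [clsZ_of_mem P hy, piFun_mk]
  show QuotientAddGroup.mk ((C y * T (-(n : ℤ))).coeff (-(n : ℤ))) = _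
  rw [← single_eq_C_mul_T, AddMonoidAlgebra.coeff_single, Finsupp.single_apply, if_pos rfl]

theorem piHom_clsZ_ne {n m : ℕ} (hmn : m ≠ n) (y : K) : piHom P n (clsZ P m y) = 0 := by
  by_cases hy : y ∈ gammaFiltration P m
  · show piFun P n (clsZ P m y) = _
    rw [clsZ_of_mem P hy, piFun_mk]
    show QuotientAddGroup.mk ((C y * T (-(m : ℤ))).coeff (-(n : ℤ))) = _
    rw [← single_eq_C_mul_T, AddMonoidAlgebra.coeff_single, Finsupp.single_apply,
      if_neg (by omega)]
    rfl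
  · rw [clsZ, dif_neg hy, map_zero]

/-- the degree-`n` projection on `ℚGr K` -/
noncomputable def rho (n : ℕ) : Gr P →ₗ[ℚ] ℚ ⊗[ℤ] (K ⧸ gammaFiltration P (n + 1)) :=
  LinearMap.baseChange ℚ (piHom P n).toIntLinearMap

theorem rho_cl_self {n : ℕ} {y : K} (hy : y ∈ gammaFiltration P n) :
    rho P n (cl P n y) = (1 : ℚ) ⊗ₜ[ℤ] (QuotientAddGroup.mk y : K ⧸ gammaFiltration P (n + 1)) := by
  rw [rho, cl, LinearMap.baseChange_tmul]
  congr 1
  exact piHom_clsZ_self P hy

theorem rho_cl_ne {n m : ℕ} (hmn : m ≠ n) (y : K) : rho P n (cl P m y) = 0 := by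
  rw [rho, cl, LinearMap.baseChange_tmul]
  have : (piHom P n).toIntLinearMap (clsZ P m y) = 0 := piHom_clsZ_ne P hmn y
  rw [this, TensorProduct.tmul_zero]

theorem rho_eq_zero_of_mem_span_gensGt {n : ℕ} {w : Gr P}
    (hw : w ∈ Submodule.span ℚ (gensGt P n)) : rho P n w = 0 := by
  have : Submodule.span ℚ (gensGt P n) ≤ LinearMap.ker (rho P n) := by
    rw [Submodule.span_le]
    rintro x ⟨m, y, hm, _, rfl⟩
    exact LinearMap.mem_ker.mpr (rho_cl_ne P (by omega) y)
  exact LinearMap.mem_ker.mp (this hw)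

/-- separation: a class of degree `n` lying in the span of classes of higher degree is torsion -/
theorem exists_mul_mem_of_cl_mem_span {n : ℕ} {y : K} (hy : y ∈ gammaFiltration P n)
    (h : cl P n y ∈ Submodule.span ℚ (gensGt P n)) :
    ∃ M : ℕ, 1 ≤ M ∧ (M : K) * y ∈ gammaFiltration P (n + 1) := by
  have h1 := rho_eq_zero_of_mem_span_gensGt P h
  rw [rho_cl_self P hy] at h1
  obtain ⟨M, hM, hM0⟩ := tmul_eq_zero_imp _ h1
  refine ⟨M, hM, ?_⟩
  have : (QuotientAddGroup.mk (M • y) : K ⧸ gammaFiltration P (n + 1)) = 0 := by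
    rw [QuotientAddGroup.mk_nsmul]; exact hM0
  rw [QuotientAddGroup.eq_zero_iff] at this
  rwa [nsmul_eq_mul] at this

end Proj

end Groth.Agent.Lib.KGrH1
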