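import Mathlib
import Groth.Agent.Lib.KInjGen5_helper7
import Groth.Agent.Lib.DerAdjPlus_helper9

/-!
# K-injective complexes form a right derivability structure; derived adjunctions (helper7)
-/

set_option autoImplicit false
universe w w' v u
open CategoryTheory Limits MorphismProperty ZeroObject

namespace Groth.Agent.Lib.KInjGen7

open Groth.Agent.Lib.KInjGen1 Groth.Agent.Lib.KInjGen4 Groth.Agent.Lib.KInjGen5 Groth.Agent.Lib

section resolution

variable {B : Type u} [Category.{v} B] [Abelian B] [IsGrothendieckAbelian.{v} B]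

/-- properties of a factorization of `M ⟶ 0` as `llp(rlp J)` followed by `rlp J` -/
theorem props_of_factorization {S₀ : B} (hS₀ : IsSeparator S₀) {M : CochainComplex B ℤ}
    (fac : MapFactorizationData (Jgen S₀).rlp.llp (Jgen S₀).rlp (0 : M ⟶ 0)) :
    fac.Z.IsKInjective ∧ QuasiIso fac.i ∧ (∀ n, Injective (fac.Z.X n)) ∧ Mono fac.i := by
  have hp : (monoQis : MorphismProperty (CochainComplex B ℤ)).rlp fac.p :=
    Jgen_rlp_le hS₀ _ fac.hp
  have E : ∀ (S : ShortComplex (CochainComplex B ℤ)), S.ShortExact → S.X₃.Acyclic →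
      ∀ φ : S.X₁ ⟶ fac.Z, ∃ ψ : S.X₂ ⟶ fac.Z, S.f ≫ ψ = φ := by
    intro S hS h3 φ
    haveI : Mono S.f := hS.mono_f
    haveI : QuasiIso S.f := KInjLift.quasiIso_f_of_acyclic S hS h3
    haveI : HasLiftingProperty S.f fac.p := hp S.f ⟨inferInstance, inferInstance⟩
    have sq : CommSq φ S.f fac.p (0 : S.X₂ ⟶ 0) := ⟨(isZero_zero _).eq_of_tgt _ _⟩
    exact ⟨sq.lift, sq.fac_left⟩
  obtain ⟨h1, h2⟩ := (KInjLift.main fac.Z).2 E
  haveI hi_mono : Mono fac.i := by
    have h : (monomorphisms (CochainComplex B ℤ)).rlp.llp fac.i :=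
      antitone_llp (antitone_rlp (Jgen_le_monomorphisms S₀)) _ fac.hi
    rw [IsGrothendieckAbelian.llp_rlp_monomorphisms
      (isSeparator_separator (CochainComplex B ℤ))] at h
    exact h
  have hi_qis : QuasiIso fac.i :=
    quasiIso_of_mono_of_llp' fac.i (rlp_llp_Jgen_le S₀ _ fac.hi)
  exact ⟨h1, hi_qis, h2, hi_mono⟩

variable (B)

/-- the functor `X ↦ (X ⟶ 0)` -/
noncomputable def toArrow : CochainComplex B ℤ ⥤ Arrow (CochainComplex B ℤ) where
  obj X := Arrow.mk (0 : X ⟶ 0)
  map {X Y} f := Arrow.homMk (f := Arrow.mk (0 : X ⟶ 0)) (g := Arrow.mk (0 : Y ⟶ 0)) f (𝟙 0)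
    (by simp)

/-- the functorial factorization -/
noncomputable def data : FunctorialFactorizationData (Jgen (separator B)).rlp.llp
    (Jgen (separator B)).rlp :=
  functorialFactorizationData _ _

/-- the functorial K-injective resolution, as a functor to complexes -/
noncomputable def res₀ : CochainComplex B ℤ ⥤ CochainComplex B ℤ := toArrow B ⋙ (data B).Z

/-- the resolution map -/
noncomputable def ι₀ : 𝟭 (CochainComplex B ℤ) ⟶ res₀ B where
  app X := (data B).i.app ((toArrow B).obj X)
  naturality X Y f := (data B).i.naturality ((toArrow B).map f)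

lemma props (X : CochainComplex B ℤ) :
    ((res₀ B).obj X).IsKInjective ∧ QuasiIso ((ι₀ B).app X) ∧
      (∀ n, Injective (((res₀ B).obj X).X n)) ∧ Mono ((ι₀ B).app X) :=
  props_of_factorization (isSeparator_separator B) ((data B).factorizationData (0 : X ⟶ 0))

instance (X : CochainComplex B ℤ) : ((res₀ B).obj X).IsKInjective := (props B X).1
instance (X : CochainComplex B ℤ) : QuasiIso ((ι₀ B).app X) := (props B X).2.1

/-- K-injective complexes -/
def kInj : ObjectProperty (CochainComplex B ℤ) := fun K => K.IsKInjective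

/-- the functorial K-injective resolution -/
noncomputable def res : CochainComplex B ℤ ⥤ (kInj B).FullSubcategory :=
  (kInj B).lift (res₀ B) (fun X => (props B X).1)

/-- the localizer morphism -/
abbrev Φ : LocalizerMorphism
    ((HomologicalComplex.quasiIso B (ComplexShape.up ℤ)).inverseImage (kInj B).ι)
    (HomologicalComplex.quasiIso B (ComplexShape.up ℤ)) where
  functor := (kInj B).ι
  map := le_rfl

/-- the resolution map -/
noncomputable def ιΦ : 𝟭 (CochainComplex B ℤ) ⟶ res B ⋙ (Φ B).functor :=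
  ι₀ B ≫ ((kInj B).liftCompιIso (res₀ B) (fun X => (props B X).1)).inv

lemma hιΦ (X : CochainComplex B ℤ) :
    HomologicalComplex.quasiIso B (ComplexShape.up ℤ) ((ιΦ B).app X) := by
  rw [HomologicalComplex.mem_quasiIso_iff]
  show QuasiIso ((ι₀ B).app X ≫
    ((kInj B).liftCompιIso (res₀ B) (fun X => (props B X).1)).inv.app X)
  infer_instance

instance : (Φ B).IsRightDerivabilityStructure :=
  (Φ B).isRightDerivabilityStructure_of_functorial_resolutions (ιΦ B) (hιΦ B) rfl

end resolution

section adjunction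

variable {A : Type u} [Category.{v} A] [Abelian A] {B : Type u} [Category.{v} B] [Abelian B]
  [IsGrothendieckAbelian.{v} B] [HasDerivedCategory.{w} A] [HasDerivedCategory.{w'} B]
  (G : B ⥤ A) [G.Additive]

lemma derives {H : Type*} [Category H] (T : CochainComplex A ℤ ⥤ H)
    (hT : (HomologicalComplex.quasiIso A (ComplexShape.up ℤ)).IsInvertedBy T) :
    (Φ B).Derives (G.mapHomologicalComplex (ComplexShape.up ℤ) ⋙ T) := by
  intro I I' f hf
  haveI : I.obj.IsKInjective := I.property
  haveI : I'.obj.IsKInjective := I'.property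
  have hf' : QuasiIso f.hom := (HomologicalComplex.mem_quasiIso_iff _).1 hf
  obtain ⟨e, he⟩ := (CochainComplex.IsKInjective.quasiIso_iff f.hom).1 hf'
  have h2 : HomologicalComplex.quasiIso A (ComplexShape.up ℤ)
      ((G.mapHomologicalComplex (ComplexShape.up ℤ)).map f.hom) :=
    homotopyEquivalences_le_quasiIso _ _ _ ⟨G.mapHomotopyEquiv e, by rw [← he]; rfl⟩
  exact hT _ h2

theorem nonempty_adj (F : A ⥤ B) (adj : F ⊣ G) [F.Additive]
    [PreservesFiniteLimits F] [PreservesFiniteColimits F]
    (RG : DerivedCategory B ⥤ DerivedCategory A)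
    (α : G.mapHomologicalComplex (ComplexShape.up ℤ) ⋙ DerivedCategory.Q ⟶
      DerivedCategory.Q ⋙ RG)
    [RG.IsRightDerivedFunctor α (HomologicalComplex.quasiIso B (ComplexShape.up ℤ))] :
    Nonempty (F.mapDerivedCategory ⊣ RG) := by
  let W₁ := HomologicalComplex.quasiIso A (ComplexShape.up ℤ)
  let W₂ := HomologicalComplex.quasiIso B (ComplexShape.up ℤ)
  let adjC := DerAdjPlus.adjHC adj (ComplexShape.up ℤ)
  let α₁ : DerivedCategory.Q ⋙ F.mapDerivedCategory ⟶
      F.mapHomologicalComplex (ComplexShape.up ℤ) ⋙ DerivedCategory.Q :=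
    F.mapDerivedCategoryFactors.hom
  haveI h1 : F.mapDerivedCategory.IsLeftDerivedFunctor α₁ W₁ :=
    Functor.isLeftDerivedFunctor_of_inverts W₁ _ F.mapDerivedCategoryFactors
  haveI h2 : (F.mapDerivedCategory ⋙ RG).IsLeftDerivedFunctor
      ((Functor.associator _ _ _).inv ≫ Functor.whiskerRight α₁ RG) W₁ :=
    Functor.isLeftDerivedFunctor_of_inverts W₁ (F.mapDerivedCategory ⋙ RG)
      ((Functor.associator _ _ _).symm ≪≫ Functor.isoWhiskerRight F.mapDerivedCategoryFactors RG)
  have hQ : W₁.IsInvertedBy (DerivedCategory.Q : CochainComplex A ℤ ⥤ DerivedCategory A) :=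
    Localization.inverts _ _
  haveI h3 : (RG ⋙ F.mapDerivedCategory).IsRightDerivedFunctor
      (Functor.whiskerRight α F.mapDerivedCategory ≫ (Functor.associator _ _ _).hom) W₂ := by
    have hd : (Φ B).Derives ((G.mapHomologicalComplex (ComplexShape.up ℤ) ⋙ DerivedCategory.Q) ⋙
        F.mapDerivedCategory) :=
      derives G (DerivedCategory.Q ⋙ F.mapDerivedCategory)
        (MorphismProperty.IsInvertedBy.of_comp _ _ hQ _)
    apply hd.isRightDerivedFunctor_of_isIso
    intro X₁
    haveI : IsIso (α.app ((Φ B).functor.obj X₁)) :=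
      (derives G DerivedCategory.Q hQ).isIso_of_isRightDerivedFunctor α X₁
    rw [NatTrans.comp_app, Functor.whiskerRight_app, Functor.associator_hom_app,
      Category.comp_id]
    infer_instance
  exact ⟨adjC.derived W₁ W₂ α₁ α⟩

end adjunction

end Groth.Agent.Lib.KInjGen7
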