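import Mathlib
import Groth.Prelude
import Groth.Agent.Lib.PBCLoc2_helper2
import Groth.Agent.Lib.PBCAlg6_helper2
import Groth.Agent.Lib.RelAmpleCrit_helper9
import Groth.Agent.Lib.KRRReg3_helper9
import Groth.Agent.Lib.ProjSmooth_helper4
import Groth.Agent.S14444

/-!
# Cohomology and base change: from vanishing of higher direct images to the fibres (helper9)

* `dRank_eq_zero_of_homology_zero`: for a bounded-below complex of finite free modules whose
  homology vanishes in (chain) degrees `< c`, the rank functions vanish in degrees `< c`.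
* `fiberRank_eq_zero_of_isZero_Rpush`: for `f` proper of finite presentation and `F` flat of finite
  presentation, `R^p f_* F = 0` for all `p ≥ p₀` implies `H^p(X_y, F_y) = 0` for all `p ≥ p₀`, `y`.
APPEND-ONLY once landed.
-/

set_option autoImplicit false
universe u
open AlgebraicGeometry CategoryTheory CategoryTheory.Limits TopologicalSpace

namespace KRRBC

open Groth.Agent.Lib.PBCH2

section Alg

variable {A : Type u} [CommRing A] (P : ChainComplex (ModuleCat.{u} A) ℤ)
  (hP : ∀ i, Module.Finite A (P.X i) ∧ Module.Free A (P.X i))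

include hP in
theorem projective_opcycles_of_homology_zero (b c : ℤ) (hb : ∀ i, i < b → IsZero (P.X i))
    (hc : ∀ i, i < c → Subsingleton (P.homology i)) :
    ∀ i, i < c → Module.Projective A (P.opcycles i) := by
  have key : ∀ k : ℕ, ∀ i : ℤ, i < b + k → i < c → Module.Projective A (P.opcycles i) := by
    intro k
    induction k with
    | zero =>
      intro i hi _
      exact projective_opcycles_of_isZero P i (hb i (by simpa using hi))
    | succ k ih =>
      intro i hi hic
      by_cases h : i < b + k
      · exact ih i h hic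
      · haveI := (hP (i - 1)).2
        haveI : Module.Projective A (P.X (i - 1)) := inferInstance
        haveI := hc i hic
        haveI : Module.Projective A (P.homology i) := inferInstance
        haveI : Module.Projective A (P.opcycles (i - 1)) :=
          ih (i - 1) (by push_cast at hi; omega) (by omega)
        exact projective_opcycles_step P i
  intro i hi
  exact key (i - b + 1).toNat i (by omega) hi

include hP in
/-- vanishing of the homology in low degrees gives vanishing of the rank functions there -/
theorem dRank_eq_zero_of_homology_zero (b c : ℤ) (hb : ∀ i, i < b → IsZero (P.X i))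
    (hc : ∀ i, i < c → Subsingleton (P.homology i)) (i : ℤ) (hi : i < c)
    (x : PrimeSpectrum A) : CohIII.dRank P i x = 0 := by
  have hP' := hP_proj P hP
  haveI h1 : Module.Projective A (P.opcycles i) :=
    projective_opcycles_of_homology_zero P hP b c hb hc i hi
  haveI h2 : Module.Projective A (P.opcycles (i - 1)) :=
    projective_opcycles_of_homology_zero P hP b c hb hc (i - 1) (by omega)
  have hex := exact_of_forall_loc' P hP' i (fun y =>
    ⟨(mono_loc_iff' P hP' i y).mpr (mem_freeLocus_of_projective_opcycles P hP i y),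
      (epi_loc_iff' P hP' i y).mpr (mem_freeLocus_of_projective_opcycles P hP (i - 1) y)⟩)
  obtain ⟨hfin, hproj, hrank⟩ := homology_facts_of_exact' P hP' i hex
  haveI := hfin
  haveI := hproj
  haveI := hc i hi
  rw [← hrank x]
  have h0 : Module.rankAtStalk (R := A) (P.homology i) = 0 :=
    Module.rankAtStalk_eq_zero_iff_subsingleton.mpr inferInstance
  rw [h0]
  rfl

end Alg

section Geo

variable {X Y : Scheme.{u}} (f : X ⟶ Y) [IsProper f] [LocallyOfFinitePresentation f]
  (F : X.Modules) [Coh.IsQCoh F] (hfp : CohB1.IsFP F) (hfl : FlatMod.IsFlatOver f F)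

include hfp hfl in
/-- vanishing of the higher direct images from degree `p₀` on gives vanishing of the cohomology of
all the fibres from degree `p₀` on -/
theorem fiberRank_eq_zero_of_isZero_Rpush [HasInjectiveResolutions X.Modules] (p₀ : ℕ)
    (h : ∀ p, p₀ ≤ p → IsZero ((Coh.Rpush f p).obj F)) (p : ℕ) (hp : p₀ ≤ p) (y : Y) :
    CohIII.fiberRank f F p y = 0 := by
  obtain ⟨_, ⟨V, hV : IsAffineOpen V, rfl⟩, hyV, -⟩ :=
    (Y.isBasis_affineOpens).exists_subset_of_mem_open (Set.mem_univ y) isOpen_univ
  obtain ⟨P, hP, ⟨b, hb⟩, -, hrk, -, hsec⟩ := locPackage' f F hfp hfl V hV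
  rw [hrk p y hyV]
  refine dRank_eq_zero_of_homology_zero P hP b (-(p₀ : ℤ) + 1) hb ?_ _ (by omega) _
  intro i hi
  obtain ⟨q, rfl⟩ : ∃ q : ℕ, i = -(q : ℤ) := ⟨(-i).toNat, by omega⟩
  obtain ⟨e⟩ := hsec q
  have h0 := RelAmpleCrit.subsingleton_sections_of_isZero _ (h q (by omega)) (Scheme.Opens.ι V ''ᵁ ⊤)
  haveI : Subsingleton Γ(((Coh.Rpush f q).obj F).restrict (Scheme.Opens.ι V), ⊤) := h0
  exact e.symm.toEquiv.subsingleton

include hfp hfl in
theorem subsingleton_fiberH_of_isZero_Rpush [HasInjectiveResolutions X.Modules] (p₀ : ℕ)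
    (h : ∀ p, p₀ ≤ p → IsZero ((Coh.Rpush f p).obj F)) (p : ℕ) (hp : p₀ ≤ p) (y : Y) :
    Subsingleton (CohIII.fiberH f F y p) :=
  (fiberRank_zero_iff f F hfp hfl p y).mp (fiberRank_eq_zero_of_isZero_Rpush f F hfp hfl p₀ h p hp y)

end Geo

end KRRBC
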