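import Mathlib
import Groth.Prelude
import Groth.Agent.Lib.KRRBC1_helper9
import Groth.Agent.Lib.ProperFin3_helper9
import Groth.Agent.Lib.ResProp3_lead
import Groth.Agent.Lib.RelPerfTens_helper3
import Groth.Agent.Lib.BCFun3_helper2

/-!
# Direct images of regular finite locally free modules on `P^n_Y` (helper9)

APPEND-ONLY once landed.
-/

set_option autoImplicit false
universe u
open AlgebraicGeometry CategoryTheory CategoryTheory.Limits TopologicalSpace

namespace KRRBC

open Groth.Agent.TensInv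

section Pn

variable (n : ℕ) (Y : Scheme.{u})

/-- a finite locally free module on `P^n_Y` is flat over `Y` -/
theorem isFlatOver_of_isFinLocFree (F : (KRR.PY n Y).Modules) (hF : FlatMod.IsFinLocFree F) :
    FlatMod.IsFlatOver (KRR.pr n Y) F := by
  haveI : Smooth (KRR.pr n Y) := Groth.Agent.Lib.ProjSmoothH4.smooth_toBase n Y
  haveI : Flat (KRR.pr n Y) := inferInstance
  exact Groth.Agent.Lib.RelPerfTensH3.isFlatOver_of_iso _ (rightUnit F)
    (Groth.Agent.Lib.RelPerfTensH3.isFlatOver_tensor _ F (Coh.structureModule _) hF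
      (Groth.Agent.Lib.BCFunH2.isFlatOver_unit (KRR.pr n Y)))

/-- the push-forward of a finite locally free module on `P^n_Y` without higher direct images is
finite locally free -/
theorem isFinLocFree_push_of_isZero_Rpush (F : (KRR.PY n Y).Modules) (hF : FlatMod.IsFinLocFree F)
    (h : ∀ i : ℕ, 1 ≤ i → IsZero ((Coh.RpushAb (KRR.pr n Y) i).obj (Coh.toAb F))) :
    FlatMod.IsFinLocFree ((Scheme.Modules.pushforward (KRR.pr n Y)).obj F) := by
  haveI : IsProper (KRR.pr n Y) := Groth.Agent.Lib.ProjSpaceProperH4.isProper_toBase n Y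
  haveI : Smooth (KRR.pr n Y) := Groth.Agent.Lib.ProjSmoothH4.smooth_toBase n Y
  haveI : LocallyOfFinitePresentation (KRR.pr n Y) := inferInstance
  haveI : F.IsQuasicoherent := FLFH8.isQuasicoherent_of_finLocFree F hF
  haveI : Coh.IsQCoh F := ‹F.IsQuasicoherent›
  have hfp : CohB1.IsFP F := FLFH8.isFinitePresentation_of_finLocFree F hF
  have hfl := isFlatOver_of_isFinLocFree n Y F hF
  haveI : HasInjectiveResolutions (KRR.PY n Y).Modules :=
    haveI := RpushQC.enoughInjectives_modules (KRR.PY n Y)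
    inferInstance
  have h' : ∀ p, 1 ≤ p → IsZero ((Coh.Rpush (KRR.pr n Y) p).obj F) := fun p hp =>
    (RelAmpleCrit.isZero_Rpush_iff (KRR.pr n Y) p F).mpr (h p hp)
  have h1 : ∀ v : Y, Subsingleton (CohIII.fiberH (KRR.pr n Y) F v 1) := fun v =>
    subsingleton_fiberH_of_isZero_Rpush (KRR.pr n Y) F hfp hfl 1 h' 1 le_rfl v
  exact (Groth.Agent.S14444.result (KRR.pr n Y) F hfp hfl h1).1

/-- **S3756** -/
theorem main3756 (F : (KRR.PY n Y).Modules) (hF : FlatMod.IsFinLocFree F)
    (hreg : KRR.IsRegSheaf n Y F) :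
    FlatMod.IsFinLocFree ((Scheme.Modules.pushforward (KRR.pr n Y)).obj F) := by
  haveI : F.IsQuasicoherent := FLFH8.isQuasicoherent_of_finLocFree F hF
  exact isFinLocFree_push_of_isZero_Rpush n Y F hF
    (fun i hi => KRRRegH9.isZero_Rpush_of_isRegSheaf n Y F ‹F.IsQuasicoherent› hreg i hi)

/-- **S3757** -/
theorem main3757 [IsNoetherian Y] (F : (KRR.PY n Y).Modules) (hF : FlatMod.IsFinLocFree F) :
    ∃ m₀ : ℕ, ∀ m : ℕ, m₀ ≤ m →
      FlatMod.IsFinLocFree ((Scheme.Modules.pushforward (KRR.pr n Y)).obj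
        (KRR.twF n Y (m : ℤ) F)) := by
  haveI : F.IsQuasicoherent := FLFH8.isQuasicoherent_of_finLocFree F hF
  haveI : IsProper (KRR.pr n Y) := Groth.Agent.Lib.ProjSpaceProperH4.isProper_toBase n Y
  haveI : IsLocallyNoetherian (KRR.PY n Y) :=
    LocallyOfFiniteType.isLocallyNoetherian (KRR.pr n Y)
  have hcoh : Coh.IsCoh F := KerFreeH8.isCoh_of_finLocFree hF
  obtain ⟨m₀, hm₀⟩ := ProperFinH9.relative_serre_vanishing n Y F hcoh
  refine ⟨m₀.toNat, fun m hm => ?_⟩
  have hm' : m₀ ≤ (m : ℤ) := by omega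
  have hFm : FlatMod.IsFinLocFree (KRR.twF n Y (m : ℤ) F) :=
    Groth.Agent.Lib.ResPropL.isFinLocFree_tensorMod
      (KRRRegH9.isFinLocFree_twistOver n Y (m : ℤ)) hF
  exact isFinLocFree_push_of_isZero_Rpush n Y _ hFm (fun i hi => hm₀ (m : ℤ) hm' i hi)

end Pn

end KRRBC
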