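import Mathlib
import Groth.Prelude
import Groth.Agent.Lib.KRRBC2_helper9
import Groth.Agent.Lib.BCMate1_helper9
import Groth.Agent.Lib.FibBC1_helper9
import Groth.Agent.Lib.ProperFin7_helper9
import Groth.Agent.Lib.FibAmp5_helper2
import Groth.Agent.Lib.PB9_helper8
import Groth.Agent.S15985
import Groth.Agent.S14444

/-!
# Base change for regular finite locally free modules on `P^n_Y` (helper9)

APPEND-ONLY once landed.
-/

set_option autoImplicit false
universe u
open AlgebraicGeometry CategoryTheory CategoryTheory.Limits TopologicalSpace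

namespace KRRBC

open Groth.Agent.TensInv

section BC

variable (n : ℕ) {Y Y₁ : Scheme.{u}} (φ : Y₁ ⟶ Y)

/-- the pullback of `O(d)` along `P^n_{Y₁} ⟶ P^n_Y` is `O(d)` -/
noncomputable def pullTwistIso (d : ℤ) :
    (Scheme.Modules.pullback (KRR.projSpaceMap n φ)).obj (Twist.twistOver n Y d) ≅
      Twist.twistOver n Y₁ d :=
  (Scheme.Modules.pullbackComp (KRR.projSpaceMap n φ)
      (pullback.fst (CohB1.ProjSpace.toSpec n (ULift.{u} ℤ)) (specULiftZIsTerminal.from Y))).app _ ≪≫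
    (Scheme.Modules.pullbackCongr (ProperFinH9.projSpaceMap_fst n φ)).app _

/-- pullback along `P^n_{Y₁} ⟶ P^n_Y` commutes with twisting -/
theorem nonempty_pullback_twF (F : (KRR.PY n Y).Modules) (d : ℤ) :
    Nonempty ((Scheme.Modules.pullback (KRR.projSpaceMap n φ)).obj (KRR.twF n Y d F) ≅
      KRR.twF n Y₁ d ((Scheme.Modules.pullback (KRR.projSpaceMap n φ)).obj F)) := by
  have hO : PicF.IsInvertible (Twist.twistOver n Y d) := KRRRegH9.isInvertible_twistOver n Y d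
  obtain ⟨e1⟩ := Groth.Agent.Lib.FibAmpH2.nonempty_pullback_tensor_iso (KRR.projSpaceMap n φ) F hO
  exact ⟨(Scheme.Modules.pullback (KRR.projSpaceMap n φ)).mapIso (comm _ _) ≪≫ e1 ≪≫
    mapL _ (pullTwistIso n φ d) ≪≫ comm _ _⟩

/-- regularity is stable under base change (for finite locally free modules) -/
theorem isRegSheaf_pullback (F : (KRR.PY n Y).Modules) (hF : FlatMod.IsFinLocFree F)
    (hreg : KRR.IsRegSheaf n Y F) :
    KRR.IsRegSheaf n Y₁ ((Scheme.Modules.pullback (KRR.projSpaceMap n φ)).obj F) := by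
  haveI : IsProper (KRR.pr n Y) := Groth.Agent.Lib.ProjSpaceProperH4.isProper_toBase n Y
  haveI : Smooth (KRR.pr n Y) := Groth.Agent.Lib.ProjSmoothH4.smooth_toBase n Y
  haveI : LocallyOfFinitePresentation (KRR.pr n Y) := inferInstance
  haveI : IsProper (KRR.pr n Y₁) := Groth.Agent.Lib.ProjSpaceProperH4.isProper_toBase n Y₁
  haveI : Smooth (KRR.pr n Y₁) := Groth.Agent.Lib.ProjSmoothH4.smooth_toBase n Y₁
  haveI : LocallyOfFinitePresentation (KRR.pr n Y₁) := inferInstance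
  haveI : F.IsQuasicoherent := FLFH8.isQuasicoherent_of_finLocFree F hF
  haveI : HasInjectiveResolutions (KRR.PY n Y).Modules :=
    haveI := RpushQC.enoughInjectives_modules (KRR.PY n Y)
    inferInstance
  haveI : HasInjectiveResolutions (KRR.PY n Y₁).Modules :=
    haveI := RpushQC.enoughInjectives_modules (KRR.PY n Y₁)
    inferInstance
  intro i hi
  -- `G = F(-i)`
  have hG : FlatMod.IsFinLocFree (KRR.twF n Y (-(i : ℤ)) F) :=
    Groth.Agent.Lib.ResPropL.isFinLocFree_tensorMod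
      (KRRRegH9.isFinLocFree_twistOver n Y (-(i : ℤ))) hF
  haveI : (KRR.twF n Y (-(i : ℤ)) F).IsQuasicoherent := FLFH8.isQuasicoherent_of_finLocFree _ hG
  haveI : Coh.IsQCoh (KRR.twF n Y (-(i : ℤ)) F) := ‹(KRR.twF n Y (-(i : ℤ)) F).IsQuasicoherent›
  have hfpG : CohB1.IsFP (KRR.twF n Y (-(i : ℤ)) F) :=
    FLFH8.isFinitePresentation_of_finLocFree _ hG
  have hflG := isFlatOver_of_isFinLocFree n Y _ hG
  have hvan : ∀ p, i ≤ p → IsZero ((Coh.Rpush (KRR.pr n Y) p).obj (KRR.twF n Y (-(i : ℤ)) F)) :=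
    fun p hp => (RelAmpleCrit.isZero_Rpush_iff (KRR.pr n Y) p _).mpr
      (KRRRegH9.isZero_Rpush_twF n F ‹F.IsQuasicoherent› hreg (-(i : ℤ)) p (by omega) (by omega))
  -- the pullback
  have hG' : FlatMod.IsFinLocFree ((Scheme.Modules.pullback (KRR.projSpaceMap n φ)).obj
      (KRR.twF n Y (-(i : ℤ)) F)) := PBH8.isFinLocFree_pullback _ hG
  haveI : ((Scheme.Modules.pullback (KRR.projSpaceMap n φ)).obj
      (KRR.twF n Y (-(i : ℤ)) F)).IsQuasicoherent := FLFH8.isQuasicoherent_of_finLocFree _ hG'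
  haveI : Coh.IsQCoh ((Scheme.Modules.pullback (KRR.projSpaceMap n φ)).obj
      (KRR.twF n Y (-(i : ℤ)) F)) := ‹((Scheme.Modules.pullback (KRR.projSpaceMap n φ)).obj
      (KRR.twF n Y (-(i : ℤ)) F)).IsQuasicoherent›
  obtain ⟨e⟩ := nonempty_pullback_twF n φ F (-(i : ℤ))
  refine KRRRegH9.isZero_RpushAb_of_iso e i ?_
  rw [← RelAmpleCrit.isZero_Rpush_iff]
  refine Groth.Agent.S15985.result (KRR.pr n Y₁) _
    (FLFH8.isFinitePresentation_of_finLocFree _ hG') (isFlatOver_of_isFinLocFree n Y₁ _ hG') i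
    (fun y₁ => ?_)
  refine FibBC.subsingleton_fiberH_of_isPullback (ProperFinH9.isPullback_projSpaceMap n φ)
    (KRR.twF n Y (-(i : ℤ)) F) y₁ i ?_
  exact subsingleton_fiberH_of_isZero_Rpush (KRR.pr n Y) _ hfpG hflG i hvan i le_rfl (φ y₁)

/-- **S3770** -/
theorem main3770 (hsq : KRR.projSpaceMap n φ ≫ KRR.pr n Y = KRR.pr n Y₁ ≫ φ)
    (F : (KRR.PY n Y).Modules) (hF : FlatMod.IsFinLocFree F) (hreg : KRR.IsRegSheaf n Y F) :
    KRR.IsRegSheaf n Y₁ ((Scheme.Modules.pullback (KRR.projSpaceMap n φ)).obj F) ∧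
      IsIso (KRR.bcMap n φ hsq F) := by
  refine ⟨isRegSheaf_pullback n φ F hF hreg, ?_⟩
  haveI : IsProper (KRR.pr n Y) := Groth.Agent.Lib.ProjSpaceProperH4.isProper_toBase n Y
  haveI : Smooth (KRR.pr n Y) := Groth.Agent.Lib.ProjSmoothH4.smooth_toBase n Y
  haveI : LocallyOfFinitePresentation (KRR.pr n Y) := inferInstance
  haveI : F.IsQuasicoherent := FLFH8.isQuasicoherent_of_finLocFree F hF
  haveI : Coh.IsQCoh F := ‹F.IsQuasicoherent›
  have hfp : CohB1.IsFP F := FLFH8.isFinitePresentation_of_finLocFree F hF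
  have hfl := isFlatOver_of_isFinLocFree n Y F hF
  haveI : HasInjectiveResolutions (KRR.PY n Y).Modules :=
    haveI := RpushQC.enoughInjectives_modules (KRR.PY n Y)
    inferInstance
  have h' : ∀ p, 1 ≤ p → IsZero ((Coh.Rpush (KRR.pr n Y) p).obj F) := fun p hp =>
    (RelAmpleCrit.isZero_Rpush_iff (KRR.pr n Y) p F).mpr
      (KRRRegH9.isZero_Rpush_of_isRegSheaf n Y F ‹F.IsQuasicoherent› hreg p hp)
  have h1 : ∀ v : Y, Subsingleton (CohIII.fiberH (KRR.pr n Y) F v 1) := fun v =>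
    subsingleton_fiberH_of_isZero_Rpush (KRR.pr n Y) F hfp hfl 1 h' 1 le_rfl v
  have h2 := (Groth.Agent.S14444.result (KRR.pr n Y) F hfp hfl h1).2
    (KRR.projSpaceMap n φ) (KRR.pr n Y₁) φ (ProperFinH9.isPullback_projSpaceMap n φ)
  rw [BCMate.unit_eq_counit (KRR.projSpaceMap n φ) (KRR.pr n Y₁) (KRR.pr n Y) φ hsq F] at h2
  exact h2

end BC

end KRRBC
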