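import Mathlib
import Groth.Prelude
import Groth.Agent.Lib.FibHilb2_helper9
import Groth.Agent.Lib.CMClosed1_helper9
import Groth.Agent.Lib.PCohFT1_lead
import Groth.Agent.Lib.CBCAsm5_helper2

/-!
# The fibres of `P^n_S ⟶ S` (in `Scheme.Hom.fiber` form) as projective spaces (helper9)

* `ιZ : (toBase n S).fiber s ⟶ P^n_{κ(s)}` (an isomorphism), `nonempty_pull_twist_iso`.
* `fibMod F`: the module on `P^n_{κ(s)}` corresponding to the restriction of `F` to the fibre.
* `fiberH_subsingleton_iff`: `H^q` of the fibre of `O(d) ⊗ F` vanishes iff `H^q(P^n_κ, (fibMod F)(d))`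
  vanishes.
* `isFP_tensorMod_of_isInvertible`.
APPEND-ONLY once landed.
-/

set_option autoImplicit false
universe u
open AlgebraicGeometry CategoryTheory CategoryTheory.Limits TopologicalSpace

namespace PnFib

open CohB1 Groth.Agent.ProjBCn Groth.Agent.PnOver Groth.Agent.TensInv

section FP

variable {X : Scheme.{u}}

/-- tensoring a module of finite presentation with an invertible module keeps finite
presentation (no Noetherian hypothesis) -/
theorem isFP_tensorMod_of_isInvertible (F L : X.Modules) (hF : CohB1.IsFP F)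
    (hL : PicF.IsInvertible L) : CohB1.IsFP (CohB1.tensorMod F L) := by
  haveI : SheafOfModules.IsFinitePresentation (R := X.ringCatSheaf) F := hF
  haveI : F.IsQuasicoherent := inferInstance
  haveI : (CohB1.tensorMod F L).IsQuasicoherent := TensH8.isQuasicoherent_tensorMod_right F hL
  choose U hxU hU using hL
  refine Groth.Agent.Lib.DCohLocLead.isFinitePresentation_of_restrict (CohB1.tensorMod F L)
    (fun x : X => U x) ?_ ?_
  · rw [eq_top_iff]
    intro x _
    exact Opens.mem_iSup.mpr ⟨x, hxU x⟩
  · intro x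
    obtain ⟨e⟩ := hU x
    have hL' : PicF.IsInvertible L := fun y => ⟨U y, hxU y, hU y⟩
    obtain ⟨e1⟩ := Groth.Agent.Lib.FibAmpH2.nonempty_pullback_tensor_iso (U x).ι F hL'
    have h1 : CohB1.IsFP ((Scheme.Modules.pullback (U x).ι).obj F) := FpqcH8.isFP_pullback (U x).ι F
    let e2 : (Scheme.Modules.pullback (U x).ι).obj L ≅ Coh.structureModule _ :=
      ((Scheme.Modules.restrictFunctorIsoPullback (U x).ι).app L).symm ≪≫ e
    let e3 : (Scheme.Modules.restrictFunctor (U x).ι).obj (CohB1.tensorMod F L) ≅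
        (Scheme.Modules.pullback (U x).ι).obj F :=
      (Scheme.Modules.restrictFunctorIsoPullback (U x).ι).app _ ≪≫ e1 ≪≫ mapL _ e2 ≪≫
        rightUnit _
    haveI : (SheafOfModules.isFinitePresentation.{u, u, u}
        ((U x : X.Opens) : Scheme.{u}).ringCatSheaf).IsClosedUnderIsomorphisms := inferInstance
    exact ObjectProperty.prop_of_iso
      (SheafOfModules.isFinitePresentation.{u, u, u} ((U x : X.Opens) : Scheme.{u}).ringCatSheaf)
      e3.symm h1

end FP

section Fibre

variable (n : ℕ) (S : Scheme.{u}) (s : S)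

/-- the fibre of `P^n_S ⟶ S` at `s` -/
noncomputable abbrev Z : Scheme.{u} := (ProjSpaceOver.toBase n S).fiber s

/-- `Z ⟶ P^n_S` -/
noncomputable abbrev aZ : Z n S s ⟶ ProjSpaceOver n S := (ProjSpaceOver.toBase n S).fiberι s

/-- `Z ⟶ P^n_ℤ` -/
noncomputable def toPZ : Z n S s ⟶ ProjSpace n (ULift.{u} ℤ) := aZ n S s ≫ FibHilb.cW n S

theorem isPullback_Z :
    IsPullback (toPZ n S s) ((ProjSpaceOver.toBase n S).fiberToSpecResidueField s)
      (ProjSpace.toSpec n (ULift.{u} ℤ))
      (Spec.map (CommRingCat.ofHom (zHom (S.residueField s)))) := by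
  have h1 := IsPullback.of_hasPullback (ProjSpaceOver.toBase n S) (S.fromSpecResidueField s)
  have h3 := IsPullback.of_hasPullback (ProjSpace.toSpec n (ULift.{u} ℤ))
    (specULiftZIsTerminal.from S)
  have h := h1.paste_horiz h3
  have e : S.fromSpecResidueField s ≫ specULiftZIsTerminal.from S =
      Spec.map (CommRingCat.ofHom (zHom (S.residueField s))) :=
    specULiftZIsTerminal.hom_ext _ _
  rw [e] at h
  exact h

/-- the identification of the fibre with `P^n_{κ(s)}` -/
noncomputable def ιZ : Z n S s ⟶ ProjSpace n (S.residueField s) :=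
  ((isPullback_Z n S s).isoIsPullback _ _
    (isPullback_projMapH n (zHom (S.residueField s)))).hom

instance : IsIso (ιZ n S s) := by
  unfold ιZ
  infer_instance

theorem ιZ_projMapH : ιZ n S s ≫ projMapH n (zHom (S.residueField s)) = toPZ n S s :=
  IsPullback.isoIsPullback_hom_fst _ _ _ _

theorem ιZ_toSpec : ιZ n S s ≫ ProjSpace.toSpec n (S.residueField s) =
    (ProjSpaceOver.toBase n S).fiberToSpecResidueField s :=
  IsPullback.isoIsPullback_hom_snd _ _ _ _

/-- the restriction of `O(d)` to the fibre is the pullback of `O(d)` on `P^n_{κ(s)}` -/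
theorem nonempty_pull_twist_iso (d : ℤ) :
    Nonempty ((Scheme.Modules.pullback (aZ n S s)).obj (Twist.twistOver n S d) ≅
      (Scheme.Modules.pullback (ιZ n S s)).obj (Twist.twistProjSpace n (S.residueField s) d)) := by
  obtain ⟨e⟩ := PnOverVanH9.pullback_projMapH_twist n (zHom (S.residueField s)) d
  show Nonempty ((Scheme.Modules.pullback (aZ n S s)).obj
    ((Scheme.Modules.pullback (FibHilb.cW n S)).obj (Twist.twistProjSpace n (ULift.{u} ℤ) d)) ≅ _)
  have hcomm : aZ n S s ≫ FibHilb.cW n S =
      ιZ n S s ≫ projMapH n (zHom (S.residueField s)) := by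
    rw [ιZ_projMapH]
    rfl
  exact ⟨(Scheme.Modules.pullbackComp (aZ n S s) (FibHilb.cW n S)).app _ ≪≫
    (Scheme.Modules.pullbackCongr hcomm).app _ ≪≫
    ((Scheme.Modules.pullbackComp (ιZ n S s)
      (projMapH n (zHom (S.residueField s)))).app _).symm ≪≫
    (Scheme.Modules.pullback (ιZ n S s)).mapIso e⟩

/-- the module on `P^n_{κ(s)}` corresponding to the restriction of `F` to the fibre -/
noncomputable def fibMod (F : (ProjSpaceOver n S).Modules) :
    (ProjSpace n (S.residueField s)).Modules :=
  (Scheme.Modules.pushforward (ιZ n S s)).obj ((Scheme.Modules.pullback (aZ n S s)).obj F)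

theorem isCoh_fibMod (F : (ProjSpaceOver n S).Modules) (hF : Coh.IsCoh F) :
    Coh.IsCoh (fibMod n S s F) :=
  CMClosed.isCoh_push (S.residueField s) n (ιZ n S s)
    (Groth.Agent.Lib.ConsModH2.isCoh_pullback _ _ hF)

/-- the cohomology of the fibre of a twist vanishes iff that of the twist of `fibMod` does -/
theorem fiberH_subsingleton_iff (F : (ProjSpaceOver n S).Modules) [F.IsQuasicoherent] (d : ℤ)
    (q : ℕ) :
    Subsingleton (CohIII.fiberH (ProjSpaceOver.toBase n S)
      (CohB1.tensorMod (Twist.twistOver n S d) F) s q) ↔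
    Subsingleton (Coh.HH (ProjSpace n (S.residueField s))
      (CohB1.tensorMod (fibMod n S s F) (Twist.twistProjSpace n (S.residueField s) d)) q) := by
  have hO : PicF.IsInvertible (Twist.twistOver n S d) := KRRRegH9.isInvertible_twistOver n S d
  obtain ⟨e1⟩ := Groth.Agent.Lib.FibAmpH2.nonempty_pullback_tensor_iso (aZ n S s) F hO
  obtain ⟨e2⟩ := nonempty_pull_twist_iso n S s d
  let e : (Scheme.Modules.pullback (aZ n S s)).obj (CohB1.tensorMod (Twist.twistOver n S d) F) ≅
      Pic13.twistOn (S.residueField s) (ιZ n S s) ((Scheme.Modules.pullback (aZ n S s)).obj F) d :=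
    (Scheme.Modules.pullback (aZ n S s)).mapIso (comm _ _) ≪≫ e1 ≪≫ mapL _ e2
  haveI : ((Scheme.Modules.pullback (aZ n S s)).obj F).IsQuasicoherent := inferInstance
  unfold fibMod
  rw [← CMClosed.subsingleton_iff (S.residueField s) n (ιZ n S s)
    ((Scheme.Modules.pullback (aZ n S s)).obj F) d q]
  exact ⟨fun h => Groth.Agent.HHVan.subsingleton_of_iso e q h,
    fun h => Groth.Agent.HHVan.subsingleton_of_iso e.symm q h⟩

end Fibre

end PnFib
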