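import Mathlib
import Groth.Prelude
import Groth.Agent.Lib.PnFib1_helper9
import Groth.Agent.Lib.KRRBC2_helper9
import Groth.Agent.Lib.MumReg5_helper9
import Groth.Agent.Lib.ProperFin2_helper9
import Groth.Agent.Lib.FibTors2_helper2
import Groth.Agent.S15985

/-!
# Flat families on `P^r_S`: uniform vanishing and local freeness of the direct images of large
twists (helper9)

APPEND-ONLY once landed.
-/

set_option autoImplicit false
universe u
open AlgebraicGeometry CategoryTheory CategoryTheory.Limits TopologicalSpace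

namespace PnFib

open CohB1 Groth.Agent.TensInv Groth.Agent.Lib.PBCH2

section Reg

variable (r : ℕ) (S : Scheme.{u})

theorem isFP_twF (F : (KRR.PY r S).Modules) (hF : CohB1.IsFP F) (d : ℤ) :
    CohB1.IsFP (KRR.twF r S d F) := by
  have h1 := isFP_tensorMod_of_isInvertible F (Twist.twistOver r S d) hF
    (KRRRegH9.isInvertible_twistOver r S d)
  haveI : (SheafOfModules.isFinitePresentation.{u, u, u}
      (KRR.PY r S).ringCatSheaf).IsClosedUnderIsomorphisms := inferInstance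
  exact ObjectProperty.prop_of_iso
    (SheafOfModules.isFinitePresentation.{u, u, u} (KRR.PY r S).ringCatSheaf)
    (comm F (Twist.twistOver r S d)) h1

theorem isFlatOver_twF (F : (KRR.PY r S).Modules) (hfl : FlatMod.IsFlatOver (KRR.pr r S) F)
    (d : ℤ) : FlatMod.IsFlatOver (KRR.pr r S) (KRR.twF r S d F) :=
  Groth.Agent.Lib.RelPerfTensH3.isFlatOver_tensor (KRR.pr r S) (Twist.twistOver r S d) F
    (KRRRegH9.isFinLocFree_twistOver r S d) hfl

variable {r S}

/-- fibrewise `m`-regularity gives vanishing of the cohomology of the fibres of all twists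
`≥ m - 1` -/
theorem fiberH_van_of_regular (F : (KRR.PY r S).Modules) (hF : Coh.IsCoh F) (t : S) (m : ℤ)
    (hreg : ∀ i : ℕ, 1 ≤ i → i ≤ r →
      Subsingleton (CohIII.fiberH (KRR.pr r S) (KRR.twF r S (m - i) F) t i))
    (q : ℕ) (hq : 1 ≤ q) (d : ℤ) (hd : m - 1 ≤ d) :
    Subsingleton (CohIII.fiberH (KRR.pr r S) (KRR.twF r S d F) t q) := by
  haveI := hF.1
  have hcoh := isCoh_fibMod r S t F hF
  have hmreg : Curv2.IsMRegular (S.residueField t) r (fibMod r S t F) m := by
    intro i hi hir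
    exact (fiberH_subsingleton_iff r S t F (m - i) i).mp (hreg i hi hir)
  have hvan := Groth.Agent.MumReg.van_of_regular hcoh hmreg
  exact (fiberH_subsingleton_iff r S t F d q).mpr (hvan q hq d hd)

end Reg

section Main

variable (r : ℕ) (S : Scheme.{u})

/-- local uniform vanishing on the fibres of a flat family on `P^r_S` -/
theorem exists_nhd_uniform_vanishing (F : (KRR.PY r S).Modules) (hF : CohB1.IsFP F)
    (hfl : FlatMod.IsFlatOver (KRR.pr r S) F) (s : S) :
    ∃ (U : Set S) (m : ℤ), IsOpen U ∧ s ∈ U ∧ ∀ t ∈ U, ∀ q : ℕ, 1 ≤ q → ∀ d : ℤ, m ≤ d →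
      Subsingleton (CohIII.fiberH (KRR.pr r S) (KRR.twF r S d F) t q) := by
  haveI : IsProper (KRR.pr r S) := Groth.Agent.Lib.ProjSpaceProperH4.isProper_toBase r S
  haveI : Smooth (KRR.pr r S) := Groth.Agent.Lib.ProjSmoothH4.smooth_toBase r S
  haveI : LocallyOfFinitePresentation (KRR.pr r S) := inferInstance
  haveI : SheafOfModules.IsFinitePresentation (R := (KRR.PY r S).ringCatSheaf) F := hF
  haveI : F.IsQuasicoherent := inferInstance
  have hcohF : Coh.IsCoh F := ⟨inferInstance, Groth.Agent.Lib.FibTors.isFT_of_isFP F hF⟩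
  have hcoh := isCoh_fibMod r S s F hcohF
  obtain ⟨m₀, hm₀⟩ := ProperFinH9.serre_vanishing r (S.residueField s) (fibMod r S s F) hcoh
  obtain ⟨m, hm⟩ : ∃ m : ℤ, m = m₀ + r := ⟨_, rfl⟩
  -- the open sets
  have hopen : ∀ i : ℕ, ∃ U : S.Opens, s ∈ U ∧ (1 ≤ i → i ≤ r → ∀ t ∈ U,
      CohIII.fiberRank (KRR.pr r S) (KRR.twF r S (m - i) F) i t = 0) := by
    intro i
    by_cases hi : 1 ≤ i ∧ i ≤ r
    · haveI : Coh.IsQCoh (KRR.twF r S (m - i) F) :=
        KRRRegH9.isQuasicoherent_twF r S F ‹F.IsQuasicoherent› (m - i)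
      have h1 : Subsingleton (CohIII.fiberH (KRR.pr r S) (KRR.twF r S (m - i) F) s i) :=
        (fiberH_subsingleton_iff r S s F (m - i) i).mpr
          (hm₀ (m - i) (by omega) i hi.1)
      have h2 := (fiberRank_zero_iff (KRR.pr r S) (KRR.twF r S (m - i) F)
        (isFP_twF r S F hF (m - i)) (isFlatOver_twF r S F hfl (m - i)) i s).mpr h1
      obtain ⟨U, hsU, hU⟩ := exists_open_fiberRank_zero (KRR.pr r S) (KRR.twF r S (m - i) F)
        (isFP_twF r S F hF (m - i)) (isFlatOver_twF r S F hfl (m - i)) i s h2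
      exact ⟨U, hsU, fun _ _ => hU⟩
    · exact ⟨⊤, trivial, fun h1 h2 => absurd ⟨h1, h2⟩ hi⟩
  choose U hsU hU using hopen
  refine ⟨⋂ i : Fin (r + 1), (U i : Set S), m - 1, isOpen_iInter_of_finite (fun i => (U i).2),
    Set.mem_iInter.mpr (fun i => hsU i), ?_⟩
  intro t ht q hq d hd
  refine fiberH_van_of_regular F hcohF t m ?_ q hq d hd
  intro i hi hir
  haveI : Coh.IsQCoh (KRR.twF r S (m - i) F) :=
    KRRRegH9.isQuasicoherent_twF r S F ‹F.IsQuasicoherent› (m - i)
  refine (fiberRank_zero_iff (KRR.pr r S) (KRR.twF r S (m - i) F)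
    (isFP_twF r S F hF (m - i)) (isFlatOver_twF r S F hfl (m - i)) i t).mp ?_
  exact hU i hi hir t (Set.mem_iInter.mp ht ⟨i, by omega⟩)

/-- **S8664** -/
theorem main8664 [CompactSpace ↥S] (F : (KRR.PY r S).Modules) (hF : CohB1.IsFP F)
    (hfl : FlatMod.IsFlatOver (KRR.pr r S) F) :
    ∃ n₀ : ℕ, ∀ n : ℕ, n₀ ≤ n →
      (∀ q : ℕ, 1 ≤ q → IsZero ((Coh.RpushAb (KRR.pr r S) q).obj
        (Coh.toAb (KRR.twF r S (n : ℤ) F)))) ∧
      FlatMod.IsFinLocFree ((Scheme.Modules.pushforward (KRR.pr r S)).obj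
        (KRR.twF r S (n : ℤ) F)) := by
  classical
  haveI : IsProper (KRR.pr r S) := Groth.Agent.Lib.ProjSpaceProperH4.isProper_toBase r S
  haveI : Smooth (KRR.pr r S) := Groth.Agent.Lib.ProjSmoothH4.smooth_toBase r S
  haveI : LocallyOfFinitePresentation (KRR.pr r S) := inferInstance
  haveI : SheafOfModules.IsFinitePresentation (R := (KRR.PY r S).ringCatSheaf) F := hF
  haveI : F.IsQuasicoherent := inferInstance
  haveI : HasInjectiveResolutions (KRR.PY r S).Modules :=
    haveI := RpushQC.enoughInjectives_modules (KRR.PY r S)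
    inferInstance
  choose U m hUo hsU hU using exists_nhd_uniform_vanishing r S F hF hfl
  obtain ⟨T, hT⟩ := isCompact_univ.elim_nhds_subcover U (fun s _ => (hUo s).mem_nhds (hsU s))
  refine ⟨T.sup (fun s => (m s).toNat), fun n hn => ?_⟩
  have hfib : ∀ (t : S) (q : ℕ), 1 ≤ q →
      Subsingleton (CohIII.fiberH (KRR.pr r S) (KRR.twF r S (n : ℤ) F) t q) := by
    intro t q hq
    have ht : t ∈ ⋃ s ∈ T, U s := hT.2 (Set.mem_univ t)
    simp only [Set.mem_iUnion] at ht
    obtain ⟨s, hsT, hts⟩ := ht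
    refine hU s t hts q hq (n : ℤ) ?_
    have h1 : (m s).toNat ≤ n := le_trans (Finset.le_sup (f := fun s => (m s).toNat) hsT) hn
    omega
  haveI : Coh.IsQCoh (KRR.twF r S (n : ℤ) F) :=
    KRRRegH9.isQuasicoherent_twF r S F ‹F.IsQuasicoherent› (n : ℤ)
  have hfp := isFP_twF r S F hF (n : ℤ)
  have hflat := isFlatOver_twF r S F hfl (n : ℤ)
  refine ⟨fun q hq => ?_, ?_⟩
  · rw [← RelAmpleCrit.isZero_Rpush_iff]
    exact Groth.Agent.S15985.result (KRR.pr r S) (KRR.twF r S (n : ℤ) F) hfp hflat q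
      (fun y => hfib y q hq)
  · exact (Groth.Agent.S14444.result (KRR.pr r S) (KRR.twF r S (n : ℤ) F) hfp hflat
      (fun v => hfib v 1 le_rfl)).1

end Main

end PnFib
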