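import Mathlib
import Groth.Prelude
import Groth.Agent.Lib.KRRBC2_helper9
import Groth.Agent.Lib.K0Proj1_helper9
import Groth.Agent.Lib.Horseshoe0_helper9
import Groth.Agent.S8664

/-!
# Push-forward of large twists on `K₀` of vector bundles of `P^r_S` (helper9)

APPEND-ONLY once landed.
-/

set_option autoImplicit false
universe u v w
open AlgebraicGeometry CategoryTheory CategoryTheory.Limits TopologicalSpace Opposite

namespace KRRK0

section LES

variable {A : Type u} [Category.{v} A] [Abelian A] [HasInjectiveResolutions A]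
  {B : Type w} [Category.{v} B] [Abelian B] (F : A ⥤ B) [F.Additive]

/-- `F(g)` is an epimorphism for a short exact sequence with `R¹F(X₁) = 0` (`F` left exact). -/
lemma epi_map_g_of_isZero [PreservesFiniteLimits F] (S : ShortComplex A) (hS : S.ShortExact)
    (h : IsZero ((F.rightDerived 1).obj S.X₁)) : Epi (F.map S.g) := by
  haveI := Groth.Agent.Lib.FAcyc.enoughInjectives (A := A)
  have hex := (Groth.Agent.Lib.Horseshoe0.derivedLES F).exact₃ S hS 0 1 rfl
  have hδ : (Groth.Agent.Lib.Horseshoe0.derivedLES F).δ S hS 0 1 rfl = 0 := h.eq_of_tgt _ _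
  haveI : Epi ((F.rightDerived 0).map S.g) := hex.epi_f hδ
  haveI : IsIso F.toRightDerivedZero := inferInstance
  have hn : F.map S.g ≫ F.toRightDerivedZero.app S.X₃ =
      F.toRightDerivedZero.app S.X₂ ≫ (F.rightDerived 0).map S.g :=
    F.toRightDerivedZero.naturality S.g
  haveI : Epi (F.map S.g ≫ F.toRightDerivedZero.app S.X₃) := by
    rw [hn]
    exact epi_comp _ _
  have h2 : F.map S.g = (F.map S.g ≫ F.toRightDerivedZero.app S.X₃) ≫
      inv (F.toRightDerivedZero.app S.X₃) := by simp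
  rw [h2]
  exact epi_comp _ _

end LES

end KRRK0

namespace KRRK0

open PFormH9

section Main

variable (r : ℕ) (S : Scheme.{u})

/-- for `n` large, the twisted push-forward of a short exact sequence of finite locally free
modules is a short exact sequence of finite locally free modules -/
theorem shortExact_push_twist [CompactSpace ↥S] (T : ShortComplex (KRR.PY r S).Modules)
    (hT : T.ShortExact) (h₁ : FlatMod.IsFinLocFree T.X₁) (h₂ : FlatMod.IsFinLocFree T.X₂)
    (h₃ : FlatMod.IsFinLocFree T.X₃) :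
    ∃ n₀ : ℕ, ∀ n : ℕ, n₀ ≤ n →
      ((T.map (TL (Twist.twistOver r S (n : ℤ)))).map
        (Scheme.Modules.pushforward (KRR.pr r S))).ShortExact ∧
      FlatMod.IsFinLocFree ((Scheme.Modules.pushforward (KRR.pr r S)).obj
        (KRR.twF r S (n : ℤ) T.X₁)) ∧
      FlatMod.IsFinLocFree ((Scheme.Modules.pushforward (KRR.pr r S)).obj
        (KRR.twF r S (n : ℤ) T.X₂)) ∧
      FlatMod.IsFinLocFree ((Scheme.Modules.pushforward (KRR.pr r S)).obj
        (KRR.twF r S (n : ℤ) T.X₃)) := by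
  haveI : HasInjectiveResolutions (KRR.PY r S).Modules :=
    haveI := RpushQC.enoughInjectives_modules (KRR.PY r S)
    inferInstance
  haveI : T.X₁.IsQuasicoherent := FLFH8.isQuasicoherent_of_finLocFree _ h₁
  haveI : T.X₂.IsQuasicoherent := FLFH8.isQuasicoherent_of_finLocFree _ h₂
  haveI : T.X₃.IsQuasicoherent := FLFH8.isQuasicoherent_of_finLocFree _ h₃
  obtain ⟨n₁, hn₁⟩ := Groth.Agent.S8664.result S r T.X₁
    (FLFH8.isFinitePresentation_of_finLocFree _ h₁) (KRRBC.isFlatOver_of_isFinLocFree r S _ h₁)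
  obtain ⟨n₂, hn₂⟩ := Groth.Agent.S8664.result S r T.X₂
    (FLFH8.isFinitePresentation_of_finLocFree _ h₂) (KRRBC.isFlatOver_of_isFinLocFree r S _ h₂)
  obtain ⟨n₃, hn₃⟩ := Groth.Agent.S8664.result S r T.X₃
    (FLFH8.isFinitePresentation_of_finLocFree _ h₃) (KRRBC.isFlatOver_of_isFinLocFree r S _ h₃)
  refine ⟨max n₁ (max n₂ n₃), fun n hn => ⟨?_, (hn₁ n (by omega)).2, (hn₂ n (by omega)).2,
    (hn₃ n (by omega)).2⟩⟩
  obtain ⟨hl, hc⟩ := preserves_TL (KRRRegH9.isFinLocFree_twistOver r S (n : ℤ))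
  haveI := hl
  haveI := hc
  have hT' : (T.map (TL (Twist.twistOver r S (n : ℤ)))).ShortExact := hT.map_of_exact _
  have hz : IsZero (((Scheme.Modules.pushforward (KRR.pr r S)).rightDerived 1).obj
      (T.map (TL (Twist.twistOver r S (n : ℤ)))).X₁) :=
    (RelAmpleCrit.isZero_Rpush_iff (KRR.pr r S) 1 (KRR.twF r S (n : ℤ) T.X₁)).mpr
      ((hn₁ n (by omega)).1 1 le_rfl)
  have h := (Functor.preservesFiniteLimits_iff_forall_exact_map_and_mono
    (Scheme.Modules.pushforward (KRR.pr r S))).mp inferInstance _ hT'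
  exact
    { exact := h.1
      mono_f := h.2
      epi_g := epi_map_g_of_isZero (Scheme.Modules.pushforward (KRR.pr r S)) _ hT' hz }

/-- `[M] ↦ [f_* M(n)]` on the free abelian group on finite locally free modules -/
noncomputable def psi (n : ℕ) :
    FreeAbelianGroup (Subtype (KRR.vbP (KRR.PY r S))) →+ SGA6.Kvb S :=
  FreeAbelianGroup.lift (fun M => KRR.cl S ((Scheme.Modules.pushforward (KRR.pr r S)).obj
    (KRR.twF r S (n : ℤ) M.1)))

theorem psi_of (n : ℕ) (M : (KRR.PY r S).Modules) (hM : FlatMod.IsFinLocFree M) :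
    psi r S n (FreeAbelianGroup.of ⟨M, hM⟩) =
      KRR.cl S ((Scheme.Modules.pushforward (KRR.pr r S)).obj (KRR.twF r S (n : ℤ) M)) :=
  FreeAbelianGroup.lift_apply_of _ _

theorem psi_eventually_zero [CompactSpace ↥S]
    (x : FreeAbelianGroup (Subtype (KRR.vbP (KRR.PY r S))))
    (hx : x ∈ KZero.relSub (KRR.vbP (KRR.PY r S))) :
    ∃ n₀ : ℕ, ∀ n : ℕ, n₀ ≤ n → psi r S n x = 0 := by
  unfold KZero.relSub at hx
  induction hx using AddSubgroup.closure_induction with
  | mem x hx =>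
    obtain ⟨T, h₁, h₂, h₃, hT, rfl⟩ := hx
    obtain ⟨n₀, hn₀⟩ := shortExact_push_twist r S T hT h₁ h₂ h₃
    refine ⟨n₀, fun n hn => ?_⟩
    obtain ⟨hse, g₁, g₂, g₃⟩ := hn₀ n hn
    have h := Groth.Agent.K0Proj.clSub_ses (KRR.vbP S) _ hse g₁ g₂ g₃
    rw [map_sub, map_sub, psi_of, psi_of, psi_of]
    have h' : KRR.cl S ((Scheme.Modules.pushforward (KRR.pr r S)).obj
          (KRR.twF r S (n : ℤ) T.X₂)) =
        KRR.cl S ((Scheme.Modules.pushforward (KRR.pr r S)).obj (KRR.twF r S (n : ℤ) T.X₁)) +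
        KRR.cl S ((Scheme.Modules.pushforward (KRR.pr r S)).obj (KRR.twF r S (n : ℤ) T.X₃)) := h
    rw [h']
    abel
  | zero => exact ⟨0, fun n _ => map_zero _⟩
  | add x y _ _ hx hy =>
    obtain ⟨a, ha⟩ := hx
    obtain ⟨b, hb⟩ := hy
    exact ⟨max a b, fun n hn => by rw [map_add, ha n (by omega), hb n (by omega), add_zero]⟩
  | neg x _ hx =>
    obtain ⟨a, ha⟩ := hx
    exact ⟨a, fun n hn => by rw [map_neg, ha n hn, neg_zero]⟩

/-- **S8669** -/
theorem main8669 [CompactSpace ↥S] (F G : (KRR.PY r S).Modules) (hF : FlatMod.IsFinLocFree F)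
    (hG : FlatMod.IsFinLocFree G) (h : KRR.cl (KRR.PY r S) F = KRR.cl (KRR.PY r S) G) :
    ∃ n₀ : ℕ, ∀ n : ℕ, n₀ ≤ n →
      FlatMod.IsFinLocFree ((Scheme.Modules.pushforward (KRR.pr r S)).obj
        (KRR.twF r S (n : ℤ) F)) ∧
      FlatMod.IsFinLocFree ((Scheme.Modules.pushforward (KRR.pr r S)).obj
        (KRR.twF r S (n : ℤ) G)) ∧
      KRR.cl S ((Scheme.Modules.pushforward (KRR.pr r S)).obj (KRR.twF r S (n : ℤ) F)) =
        KRR.cl S ((Scheme.Modules.pushforward (KRR.pr r S)).obj (KRR.twF r S (n : ℤ) G)) := by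
  haveI : F.IsQuasicoherent := FLFH8.isQuasicoherent_of_finLocFree _ hF
  haveI : G.IsQuasicoherent := FLFH8.isQuasicoherent_of_finLocFree _ hG
  obtain ⟨n₁, hn₁⟩ := Groth.Agent.S8664.result S r F
    (FLFH8.isFinitePresentation_of_finLocFree _ hF) (KRRBC.isFlatOver_of_isFinLocFree r S _ hF)
  obtain ⟨n₂, hn₂⟩ := Groth.Agent.S8664.result S r G
    (FLFH8.isFinitePresentation_of_finLocFree _ hG) (KRRBC.isFlatOver_of_isFinLocFree r S _ hG)
  have hmem : (FreeAbelianGroup.of ⟨F, hF⟩ - FreeAbelianGroup.of ⟨G, hG⟩ :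
      FreeAbelianGroup (Subtype (KRR.vbP (KRR.PY r S)))) ∈ KZero.relSub (KRR.vbP (KRR.PY r S)) := by
    have h' : KZero.clSub (KRR.vbP (KRR.PY r S)) F = KZero.clSub (KRR.vbP (KRR.PY r S)) G := h
    rw [Groth.Agent.K0Proj.clSub_eq _ F hF, Groth.Agent.K0Proj.clSub_eq _ G hG] at h'
    have h2 := (QuotientAddGroup.eq_zero_iff _).1
      ((QuotientAddGroup.mk_sub _ _ _).trans (sub_eq_zero.mpr h'))
    exact h2
  obtain ⟨n₃, hn₃⟩ := psi_eventually_zero r S _ hmem
  refine ⟨max n₁ (max n₂ n₃), fun n hn => ⟨(hn₁ n (by omega)).2, (hn₂ n (by omega)).2, ?_⟩⟩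
  have h3 := hn₃ n (by omega)
  rw [map_sub, psi_of, psi_of, sub_eq_zero] at h3
  exact h3

end Main

end KRRK0
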