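import Mathlib
import Groth.Prelude
import Groth.Agent.Lib.KRRBC2_helper9
import Groth.Agent.Lib.PnFib1_helper9
import Groth.Agent.Lib.ProjCech3_helper9
import Groth.Agent.Lib.CurvStH0_helper2
import Groth.Agent.Lib.H0Kappa_helper2
import Groth.Agent.Lib.HypConn2_helper9
import Groth.Agent.Lib.K0Proj1_helper9
import Groth.Agent.Lib.KZero_helper4
import Groth.Agent.Lib.AmpleK2_helper6

/-!
# `p_* O_P = O_Y` for `P = P^n_Y`, and `p_K [O_P] = 1` (helper9)

APPEND-ONLY once landed.
-/

set_option autoImplicit false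
universe u v
open AlgebraicGeometry CategoryTheory CategoryTheory.Limits TopologicalSpace Opposite

namespace KRRK0

open CohB1 Groth.Agent.ProjTens Groth.Agent.TensInv

section Field

variable (n : ℕ) (k : Type u) [Field k]

theorem finrank_homogeneousSubmodule_zero :
    Module.finrank k (MvPolynomial.homogeneousSubmodule (Fin (n + 1)) k 0) = 1 := by
  rw [MvPolynomial.homogeneousSubmodule_zero, Submodule.one_eq_span]
  exact finrank_span_singleton one_ne_zero

/-- `dim H^0(P^n_k, O) = 1` -/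
theorem hRank_Pn :
    Models.hRank k (ProjSpace n k) (ProjSpace.toSpec n k)
      (Coh.structureModule (ProjSpace n k)) 0 = 1 := by
  obtain ⟨e⟩ := Groth.Agent.ProjCech.nonempty_HH_zero_linearEquiv (n := n) (R := k) 0
  obtain ⟨e0⟩ := twist_zero n k
  have e1 := Groth.Agent.HypConn.hhEquivOfIso (A := k) e0 0
  unfold Models.hRank
  have h := (e1.symm.trans e).finrank_eq
  rw [finrank_homogeneousSubmodule_zero] at h
  exact h

theorem isIso_appTop_toSpec : IsIso (ProjSpace.toSpec n k).appTop :=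
  Groth.Agent.Lib.CBCH2.isIso_appTop_of_hRank k _ _ (hRank_Pn n k)

end Field

end KRRK0

namespace KRRK0

open CohB1 Groth.Agent.ProjTens Groth.Agent.TensInv

section Push

variable (n : ℕ) (Y : Scheme.{u})

/-- the fibres of `P^n_Y ⟶ Y` have only constant global functions -/
theorem isIso_appTop_fiber (s : Y) :
    IsIso ((KRR.pr n Y).fiberToSpecResidueField s).appTop :=
  Groth.Agent.Lib.CBCH2.isIso_appTop_of_iso_comp (PnFib.ιZ n Y s)
    (ProjSpace.toSpec n (Y.residueField s)) _ (PnFib.ιZ_toSpec n Y s)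
    (isIso_appTop_toSpec n (Y.residueField s))

/-- **`O_Y ⟶ p_* O_P` is an isomorphism** for `P = P^n_Y` -/
theorem isIso_unitToPush : IsIso (ClSub.unitToPush (KRR.pr n Y)) := by
  haveI : IsProper (KRR.pr n Y) := Groth.Agent.Lib.ProjSpaceProperH4.isProper_toBase n Y
  haveI : Smooth (KRR.pr n Y) := Groth.Agent.Lib.ProjSmoothH4.smooth_toBase n Y
  haveI : LocallyOfFinitePresentation (KRR.pr n Y) := inferInstance
  haveI : Flat (KRR.pr n Y) := inferInstance
  apply Groth.Agent.Lib.CBCH2.isIso_unitToPush_of_app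
  intro V
  exact Groth.Agent.Lib.CBCH2.isIso_app_of_fibres (KRR.pr n Y) (isIso_appTop_fiber n Y) V

/-- `O_P` is regular -/
theorem isRegSheaf_structureModule :
    KRR.IsRegSheaf n Y (Coh.structureModule (KRR.PY n Y)) := by
  intro i hi
  refine KRRRegH9.isZero_RpushAb_of_iso (rightUnit (Twist.twistOver n Y (-(i : ℤ)))).symm i ?_
  exact PnOverVanH9.main Y n i (-(i : ℤ)) (by omega)

end Push

section KTheory

variable (n : ℕ) (Y : Scheme.{u})
  {KP : Type v} [CommRing KP] [LambdaRing.LambdaOps KP] {PP : LambdaRing.PosStructure KP}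
  {φP : SGA6.Kvb (KRR.PY n Y) →+ KP}
  {KY : Type v} [CommRing KY] [LambdaRing.LambdaOps KY] {PY : LambdaRing.PosStructure KY}
  {φY : SGA6.Kvb Y →+ KY}

/-- **S3759** -/
theorem main3759 (hKY : KRR.IsModel Y KY PY φY) (g : KP →+ KY) (hg : KRR.IsPushPr n Y φP φY g) :
    g (φP (KRR.cl (KRR.PY n Y) (Coh.structureModule (KRR.PY n Y)))) = 1 := by
  have hO : FlatMod.IsFinLocFree (Coh.structureModule (KRR.PY n Y)) :=
    Groth.Agent.Lib.AmpleK.isFinLocFree_structureModule
  rw [hg _ hO (isRegSheaf_structureModule n Y), ← hKY.map_one]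
  haveI := isIso_unitToPush n Y
  have hOY : FlatMod.IsFinLocFree (Coh.structureModule Y) :=
    Groth.Agent.Lib.AmpleK.isFinLocFree_structureModule
  congr 1
  exact (Groth.Agent.Lib.AmpleK.cl_iso (asIso (ClSub.unitToPush (KRR.pr n Y))) hOY).symm

end KTheory

end KRRK0
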