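import Mathlib
import Groth.Prelude
import Groth.Agent.Lib.KRRK02_helper9
import Groth.Agent.Lib.KRRBC3_helper9
import Groth.Agent.Lib.FLF3_helper8
import Groth.Agent.Lib.FLF7_helper8
import Groth.Agent.Lib.ProjEuler_helper9
import Groth.Agent.Lib.EulerBC2_helper9
import Groth.Agent.Lib.JacDimSch2_helper3
import Groth.Agent.S2390

/-!
# `p_* O_P(m)` is free of rank `C(n+m, m)` for `P = P^n_Y`, and `p_K [O_P(m)]` (helper9)

APPEND-ONLY once landed.
-/

set_option autoImplicit false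
universe u v
open AlgebraicGeometry CategoryTheory CategoryTheory.Limits TopologicalSpace Opposite

namespace KRRK0

open CohB1 Groth.Agent.ProjTens Groth.Agent.TensInv

section PID

/-- a finite locally free module on the spectrum of a principal ideal domain is free -/
theorem exists_iso_freeMod_of_pid (R : CommRingCat.{u}) [IsDomain R] [IsPrincipalIdealRing R]
    (E : (Spec R).Modules) (hE : FlatMod.IsFinLocFree E) :
    ∃ N : ℕ, Nonempty (E ≅ FlatMod.freeMod (Spec R) N) := by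
  haveI : E.IsQuasicoherent := FLFH8.isQuasicoherent_of_finLocFree E hE
  have h1 : IsIso E.fromTildeΓ := inferInstance
  obtain ⟨M, hM⟩ : ∃ M : ModuleCat.{u} R,
      M = (modulesSpecToSheaf.obj E).presheaf.obj (.op ⊤) := ⟨_, rfl⟩
  have e₀ : tilde M ≅ E := by
    rw [hM]
    exact @asIso _ _ _ _ E.fromTildeΓ h1
  have h2 : FlatMod.IsFinLocFree (tilde M) := FLFH8.IsFinLocFree.of_iso e₀.symm hE
  obtain ⟨hfin, hproj⟩ := (FLFH8.tilde_finLocFree_iff M).mp h2
  haveI := hfin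
  haveI := hproj
  haveI : Module.Free R M := inferInstance
  let ι := Module.Free.ChooseBasisIndex R M
  let b : M ≃ₗ[R] (ι →₀ R) := (Module.Free.chooseBasis R M).repr
  have e₁ : tilde M ≅ tilde (ModuleCat.of R (ι →₀ R)) :=
    (tilde.functor R).mapIso b.toModuleIso
  have e₂ : tilde (ModuleCat.of R (ι →₀ R)) ≅ SheafOfModules.free.{u} ι := tildeFinsupp ι
  have e₃ : (SheafOfModules.free.{u} ι : (Spec R).Modules) ≅
      FlatMod.freeMod (Spec R) (Fintype.card ι) :=
    Sigma.whiskerEquiv (f := fun _ : ι => SheafOfModules.unit.{u} (Spec R).ringCatSheaf)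
      (g := fun _ : Fin (Fintype.card ι) => Coh.structureModule (Spec R))
      (Fintype.equivFin ι) (fun _ => Iso.refl _)
  exact ⟨Fintype.card ι, ⟨e₀.symm ≪≫ e₁ ≪≫ e₂ ≪≫ e₃⟩⟩

end PID

end KRRK0

namespace KRRK0

open CohB1 Groth.Agent.ProjTens Groth.Agent.TensInv

section Free

instance : IsPrincipalIdealRing (ULift.{u} ℤ) :=
  IsPrincipalIdealRing.of_surjective (ULift.ringEquiv (R := ℤ)).symm.toRingHom
    (ULift.ringEquiv (R := ℤ)).symm.surjective

instance : IsDomain (ULift.{u} ℤ) := (ULift.ringEquiv (R := ℤ)).toMulEquiv.isDomain _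

variable (n : ℕ) (Y : Scheme.{u})

/-- `O_P(m)` for `m ≥ 0` is regular -/
theorem isRegSheaf_twF_structureModule (m : ℕ) :
    KRR.IsRegSheaf n Y (KRR.twF n Y (m : ℤ) (Coh.structureModule (KRR.PY n Y))) := by
  have hq : Coh.IsQCoh (Coh.structureModule (KRR.PY n Y)) :=
    FLFH8.isQuasicoherent_of_finLocFree _ Groth.Agent.Lib.AmpleK.isFinLocFree_structureModule
  exact KRRRegH9.isRegSheaf_twF_of_isQCoh n Y _ hq (isRegSheaf_structureModule n Y) m

theorem isFinLocFree_twF_structureModule (d : ℤ) :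
    FlatMod.IsFinLocFree (KRR.twF n Y d (Coh.structureModule (KRR.PY n Y))) :=
  Groth.Agent.Lib.ResPropL.isFinLocFree_tensorMod (KRRRegH9.isFinLocFree_twistOver n Y d)
    Groth.Agent.Lib.AmpleK.isFinLocFree_structureModule

/-- **`p_* O_P(m)` is free** (`m ≥ 0`, `P = P^n_Y`): base change from `Spec ℤ` -/
theorem exists_push_twist_iso_free (m : ℕ) :
    ∃ N : ℕ, Nonempty ((Scheme.Modules.pushforward (KRR.pr n Y)).obj
      (KRR.twF n Y (m : ℤ) (Coh.structureModule (KRR.PY n Y))) ≅ FlatMod.freeMod Y N) := by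
  obtain ⟨B, hB⟩ : ∃ B : Scheme.{u}, B = Spec (CommRingCat.of (ULift.{u} ℤ)) := ⟨_, rfl⟩
  obtain ⟨φ, -⟩ : ∃ φ : Y ⟶ Spec (CommRingCat.of (ULift.{u} ℤ)), φ = specULiftZIsTerminal.from Y :=
    ⟨_, rfl⟩
  have hsq := ProperFinH9.projSpaceMap_toBase n φ
  have hF := isFinLocFree_twF_structureModule n (Spec (CommRingCat.of (ULift.{u} ℤ))) (m : ℤ)
  have hreg := isRegSheaf_twF_structureModule n (Spec (CommRingCat.of (ULift.{u} ℤ))) m
  haveI := (KRRBC.main3770 n φ hsq _ hF hreg).2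
  have e1 := asIso (KRR.bcMap n φ hsq
    (KRR.twF n (Spec (CommRingCat.of (ULift.{u} ℤ))) (m : ℤ) (Coh.structureModule _)))
  obtain ⟨e2'⟩ := KRRBC.nonempty_pullback_twF n φ (Coh.structureModule _) (m : ℤ)
  have e2 : (Scheme.Modules.pullback (KRR.projSpaceMap n φ)).obj
      (KRR.twF n (Spec (CommRingCat.of (ULift.{u} ℤ))) (m : ℤ) (Coh.structureModule _)) ≅
      KRR.twF n Y (m : ℤ) (Coh.structureModule (KRR.PY n Y)) :=
    e2' ≪≫ mapL _ (PBH8.pullbackUnitIso (KRR.projSpaceMap n φ))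
  obtain ⟨N, ⟨e3⟩⟩ := exists_iso_freeMod_of_pid (CommRingCat.of (ULift.{u} ℤ)) _
    (KRRBC.main3756 n (Spec (CommRingCat.of (ULift.{u} ℤ))) _ hF hreg)
  exact ⟨N, ⟨(Scheme.Modules.pushforward (KRR.pr n Y)).mapIso e2.symm ≪≫ e1.symm ≪≫
    (Scheme.Modules.pullback φ).mapIso e3 ≪≫ PBH8.pullbackFreeIso φ N⟩⟩

end Free

end KRRK0

namespace KRRK0

open CohB1 Groth.Agent.ProjTens Groth.Agent.TensInv

section Rank

variable (n : ℕ) (Y : Scheme.{u})

/-- `dim H^0` of the fibre of `O_P(m)` is `C(m+n, n)` -/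
theorem fiberRank_twF_structureModule (y : Y) (m : ℕ) :
    CohIII.fiberRank (KRR.pr n Y) (KRR.twF n Y (m : ℤ) (Coh.structureModule (KRR.PY n Y))) 0 y =
      Nat.choose (m + n) n := by
  letI oZ : (PnFib.Z n Y y).Over (Spec (CommRingCat.of (Y.residueField y))) :=
    ⟨(KRR.pr n Y).fiberToSpecResidueField y⟩
  obtain ⟨e1⟩ := PnFib.nonempty_pull_twist_iso n Y y (m : ℤ)
  let e : (Scheme.Modules.pullback (PnFib.aZ n Y y)).obj
      (KRR.twF n Y (m : ℤ) (Coh.structureModule (KRR.PY n Y))) ≅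
      (Scheme.Modules.pullback (PnFib.ιZ n Y y)).obj
        (Twist.twistProjSpace n (Y.residueField y) (m : ℤ)) :=
    (Scheme.Modules.pullback (PnFib.aZ n Y y)).mapIso (rightUnit (Twist.twistOver n Y (m : ℤ))) ≪≫ e1
  have h1 := (Groth.Agent.HypConn.hhEquivOfIso (A := Y.residueField y) e 0).finrank_eq
  have hpb : IsPullback (PnFib.ιZ n Y y)
      (PnFib.Z n Y y ↘ Spec (CommRingCat.of (Y.residueField y)))
      (ProjSpace n (Y.residueField y) ↘ Spec (CommRingCat.of (Y.residueField y)))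
      (Spec.map (CommRingCat.ofHom (algebraMap (Y.residueField y) (Y.residueField y)))) := by
    have h0 : Spec.map (CommRingCat.ofHom (algebraMap (Y.residueField y) (Y.residueField y))) =
        𝟙 _ := by
      rw [Algebra.algebraMap_self]
      exact Spec.map_id _
    rw [h0]
    exact IsPullback.of_horiz_isIso ⟨by
      rw [Category.comp_id]
      exact PnFib.ιZ_toSpec n Y y⟩
  haveI : CompactSpace (ProjSpace n (Y.residueField y)) := RegGGH9.compactSpace_Pn n _
  haveI : QuasiSeparatedSpace (ProjSpace n (Y.residueField y)) :=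
    RegGGH9.quasiSeparatedSpace_Pn n _
  haveI : Coh.IsQCoh (Twist.twistProjSpace n (Y.residueField y) (m : ℤ)) :=
    Groth.Agent.ProjTw.isQuasicoherent_twist _ _
  have h2 := Groth.Agent.EulerBC.finrank_HH_pullback (k := Y.residueField y)
    (k' := Y.residueField y) (PnFib.ιZ n Y y) hpb
    (Twist.twistProjSpace n (Y.residueField y) (m : ℤ)) 0
  have h3 := Groth.Agent.ProjEuler.finrank_HH_zero (Y.residueField y) n m
  unfold CohIII.fiberRank
  exact h1.trans (h2.trans h3)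

end Rank

end KRRK0

namespace KRRK0

open CohB1 Groth.Agent.ProjTens Groth.Agent.TensInv

section Final

variable (n : ℕ) (Y : Scheme.{u})

/-- **`p_* O_P(m) ≅ O_Y^{C(n+m,m)}`** for `P = P^n_Y` over a nonempty locally Noetherian `Y` -/
theorem push_twist_iso_free [IsLocallyNoetherian Y] [Nonempty Y] (m : ℕ) :
    Nonempty ((Scheme.Modules.pushforward (KRR.pr n Y)).obj
      (KRR.twF n Y (m : ℤ) (Coh.structureModule (KRR.PY n Y))) ≅
        FlatMod.freeMod Y (Nat.choose (n + m) m)) := by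
  haveI : IsProper (KRR.pr n Y) := Groth.Agent.Lib.ProjSpaceProperH4.isProper_toBase n Y
  haveI : IsLocallyNoetherian (KRR.PY n Y) :=
    LocallyOfFiniteType.isLocallyNoetherian (KRR.pr n Y)
  haveI : HasInjectiveResolutions (KRR.PY n Y).Modules :=
    haveI := RpushQC.enoughInjectives_modules (KRR.PY n Y)
    inferInstance
  obtain ⟨N, ⟨e⟩⟩ := exists_push_twist_iso_free n Y m
  obtain ⟨y⟩ := ‹Nonempty Y›
  have hF := isFinLocFree_twF_structureModule n Y (m : ℤ)
  have hreg := isRegSheaf_twF_structureModule n Y m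
  have hcoh : Coh.IsCoh (KRR.twF n Y (m : ℤ) (Coh.structureModule (KRR.PY n Y))) :=
    KerFreeH8.isCoh_of_finLocFree hF
  have hR : ∀ i : ℕ, 0 < i → IsZero ((Coh.Rpush (KRR.pr n Y) i).obj
      (KRR.twF n Y (m : ℤ) (Coh.structureModule (KRR.PY n Y)))) := fun i hi =>
    (RelAmpleCrit.isZero_Rpush_iff (KRR.pr n Y) i _).mpr
      (KRRRegH9.isZero_Rpush_of_isRegSheaf n Y _ hcoh.1 hreg i hi)
  obtain ⟨U, hyU, ⟨α⟩⟩ := (Groth.Agent.S2390.result (KRR.pr n Y) _ hcoh
    (KRRBC.isFlatOver_of_isFinLocFree n Y _ hF) hR).2 y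
  obtain ⟨α'⟩ := FLFH8.iso_restrict_of_iso e (⊤ : Y.Opens)
  have hN := Groth.Agent.Lib.JacDimSchH3.rank_unique _ hyU (Set.mem_univ y) α α'
  rw [fiberRank_twF_structureModule n Y y m] at hN
  have hN' : N = Nat.choose (n + m) m := by
    rw [← hN, add_comm m n, Nat.choose_symm_add]
  rw [← hN']
  exact ⟨e⟩

end Final

section KTheory

variable (n : ℕ) (Y : Scheme.{u})
  {KP : Type v} [CommRing KP] [LambdaRing.LambdaOps KP] {PP : LambdaRing.PosStructure KP}
  {φP : SGA6.Kvb (KRR.PY n Y) →+ KP}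
  {KY : Type v} [CommRing KY] [LambdaRing.LambdaOps KY] {PY : LambdaRing.PosStructure KY}
  {φY : SGA6.Kvb Y →+ KY}

/-- **S3760** -/
theorem main3760 [IsLocallyNoetherian Y] [Nonempty Y] (hKY : KRR.IsModel Y KY PY φY)
    (g : KP →+ KY) (hg : KRR.IsPushPr n Y φP φY g) (m : ℕ) :
    g (φP (KRR.cl (KRR.PY n Y) (KRR.twF n Y (m : ℤ) (Coh.structureModule (KRR.PY n Y))))) =
      (Nat.choose (n + m) m : KY) := by
  obtain ⟨e⟩ := push_twist_iso_free n Y m
  rw [hg _ (isFinLocFree_twF_structureModule n Y (m : ℤ)) (isRegSheaf_twF_structureModule n Y m)]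
  have h1 : KRR.cl Y ((Scheme.Modules.pushforward (KRR.pr n Y)).obj
      (KRR.twF n Y (m : ℤ) (Coh.structureModule (KRR.PY n Y)))) =
      (Nat.choose (n + m) m) • KRR.cl Y (Coh.structureModule Y) := by
    rw [← Groth.Agent.Lib.AmpleK.cl_freeMod]
    exact Groth.Agent.Lib.AmpleK.cl_iso e
      (FLFH8.IsFinLocFree.of_iso e.symm (Groth.Agent.Lib.AmpleK.isFinLocFree_freeMod _))
  rw [h1, map_nsmul, hKY.map_one, nsmul_one]

end KTheory

end KRRK0
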