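import Mathlib
import Groth.Prelude
import Groth.Agent.Lib.KRRK03_helper9
import Groth.Agent.Lib.CMReg2_helper9
import Groth.Agent.Lib.PullSES1_helper6
import Groth.Agent.Lib.AmpleK2_helper6
import Groth.Agent.Lib.ResProp3_lead
import Groth.Agent.Lib.Horrocks7_helper9
import Groth.Agent.Lib.TensInv2_helper9
import Groth.Agent.Lib.K0Proj1_helper9

/-!
# The Koszul sequences on `P^n_Y` (helper9)
For a finite locally free `F` on `P^n_Y`: short exact sequences
`0 → Z_p → ∐_{C(n+1,p)} F(p) → Z_{p+1} → 0` of finite locally free modules, `Z_0 = 0 = Z_{n+2}`.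
APPEND-ONLY once landed.
-/

set_option autoImplicit false
set_option linter.style.haveILetI false
set_option linter.unusedSectionVars false

universe u

open CategoryTheory CategoryTheory.Limits AlgebraicGeometry Opposite

namespace Groth.Agent.KRRKos

open Groth.Agent.CMReg Groth.Agent.Lib.AmpleK PFormH9

section Base

variable (n : ℕ)

/-- the Koszul complex on `P^n_ℤ` -/
noncomputable abbrev K0 : CochainComplex (CohB1.ProjSpace n (ULift.{u} ℤ)).Modules ℕ :=
  KP n (ULift.{u} ℤ) 0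

theorem isFinLocFree_K0X (p : ℕ) : FlatMod.IsFinLocFree ((K0.{u} n).X p) :=
  FLFH8.IsFinLocFree.of_iso (KPIso n (ULift.{u} ℤ) 0 p).symm
    (FLFH8.IsFinLocFreeOfRank.isFinLocFree _
      (Groth.Agent.Horrocks.isFinLocFreeOfRank_sigma _
        (fun _ => KRRRegH9.isInvertible_OO n ((0 : ℤ) + (p : ℤ)))))

theorem isZero_Z_of_lt (p : ℕ) (hp : n + 1 < p) : IsZero (Z (K0.{u} n) p) :=
  IsZero.of_mono (kernel.ι ((K0.{u} n).d p (p + 1))) (isZero_KP n (ULift.{u} ℤ) 0 p hp)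

theorem isZero_Z_zero : IsZero (Z (K0.{u} n) 0) := by
  have hmono : Mono ((K0.{u} n).d 0 1) := by
    have hex := ((K0.{u} n).exactAt_iff' 0 0 1 (by simp) (by simp)).mp
      (KP_exactAt n (ULift.{u} ℤ) 0 0)
    exact (ShortComplex.exact_iff_mono _ ((K0.{u} n).shape 0 0 (by simp))).mp hex
  exact isZero_kernel_of_mono ((K0.{u} n).d 0 1)

theorem sesZ_shortExact' (p : ℕ) : (sesZ (K0.{u} n) p).ShortExact := by
  haveI := hasExt_modules (CohB1.ProjSpace n (ULift.{u} ℤ))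
  exact sesZ_shortExact (K0.{u} n) p (KP_exactAt n (ULift.{u} ℤ) 0 (p + 1))

theorem isFinLocFree_Z : ∀ (k p : ℕ), p + k = n + 2 → FlatMod.IsFinLocFree (Z (K0.{u} n) p) := by
  intro k
  induction k with
  | zero =>
    intro p hp
    exact isFinLocFree_of_isZero (isZero_Z_of_lt n p (by omega))
  | succ k ih =>
    intro p hp
    have h3 : FlatMod.IsFinLocFree (Z (K0.{u} n) (p + 1)) := ih (p + 1) (by omega)
    exact isFinLocFree_of_shortExact (sesZ (K0.{u} n) p) (sesZ_shortExact' n p)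
      (isFinLocFree_K0X n p) h3

theorem isFinLocFree_Z' (p : ℕ) : FlatMod.IsFinLocFree (Z (K0.{u} n) p) := by
  by_cases hp : p ≤ n + 2
  · exact isFinLocFree_Z n (n + 2 - p) p (by omega)
  · exact isFinLocFree_of_isZero (isZero_Z_of_lt n p (by omega))

end Base

section Over

variable (n : ℕ) (Y : Scheme.{u})

/-- the projection `P^n_Y ⟶ P^n_ℤ` -/
noncomputable abbrev π₁ : KRR.PY n Y ⟶ CohB1.ProjSpace n (ULift.{u} ℤ) :=
  pullback.fst (CohB1.ProjSpace.toSpec n (ULift.{u} ℤ)) (specULiftZIsTerminal.from Y)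

theorem shortExact_pull (p : ℕ) :
    ((sesZ (K0.{u} n) p).map (Scheme.Modules.pullback (π₁ n Y))).ShortExact :=
  Groth.Agent.Lib.PullSES.shortExact_map_pullback (π₁ n Y) _ (sesZ_shortExact' n p)
    (isFinLocFree_Z' n p) (isFinLocFree_K0X n p) (isFinLocFree_Z' n (p + 1))

variable {n Y}

theorem shortExact_tens {F : (KRR.PY n Y).Modules} (hF : FlatMod.IsFinLocFree F) (p : ℕ) :
    (((sesZ (K0.{u} n) p).map (Scheme.Modules.pullback (π₁ n Y))).map (TL F)).ShortExact := by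
  obtain ⟨h1, h2⟩ := preserves_TL hF
  haveI := h1
  haveI := h2
  exact (shortExact_pull n Y p).map_of_exact (TL F)

/-- the syzygies of the Koszul sequence of `F` -/
noncomputable def ZF (F : (KRR.PY n Y).Modules) (p : ℕ) : (KRR.PY n Y).Modules :=
  (TL F).obj ((Scheme.Modules.pullback (π₁ n Y)).obj (Z (K0.{u} n) p))

theorem isFinLocFree_ZF {F : (KRR.PY n Y).Modules} (hF : FlatMod.IsFinLocFree F) (p : ℕ) :
    FlatMod.IsFinLocFree (ZF F p) :=
  Groth.Agent.Lib.ResPropL.isFinLocFree_tensorMod hF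
    (PBH8.isFinLocFree_pullback (π₁ n Y) (isFinLocFree_Z' n p))

theorem isZero_ZF_zero (F : (KRR.PY n Y).Modules) : IsZero (ZF F 0) :=
  Functor.map_isZero (TL F) (Functor.map_isZero (Scheme.Modules.pullback (π₁ n Y))
    (isZero_Z_zero n))

theorem isZero_ZF_of_lt (F : (KRR.PY n Y).Modules) (p : ℕ) (hp : n + 1 < p) : IsZero (ZF F p) :=
  Functor.map_isZero (TL F) (Functor.map_isZero (Scheme.Modules.pullback (π₁ n Y))
    (isZero_Z_of_lt n p hp))

/-- the middle terms of the Koszul sequences -/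
theorem nonempty_mid_iso {F : (KRR.PY n Y).Modules} (hF : FlatMod.IsFinLocFree F) (p : ℕ) :
    Nonempty ((TL F).obj ((Scheme.Modules.pullback (π₁ n Y)).obj ((K0.{u} n).X p)) ≅
      ∐ fun _ : Fin (Nat.choose (n + 1) p) => KRR.twF n Y (p : ℤ) F) := by
  obtain ⟨h1, h2⟩ := preserves_TL hF
  haveI := h1
  haveI := h2
  have e1 := KPIso n (ULift.{u} ℤ) 0 p
  have e2 := PreservesCoproduct.iso (Scheme.Modules.pullback (π₁ n Y))
    (fun _ : Fin (Nat.choose (n + 1) p) => Groth.Agent.ProjTens.OO n (ULift.{u} ℤ) ((0 : ℤ) + (p : ℤ)))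
  have e3 := PreservesCoproduct.iso (TL F)
    (fun _ : Fin (Nat.choose (n + 1) p) => (Scheme.Modules.pullback (π₁ n Y)).obj
      (Groth.Agent.ProjTens.OO n (ULift.{u} ℤ) ((0 : ℤ) + (p : ℤ))))
  obtain ⟨e5⟩ := KRRRegH9.twF_congr n Y (zero_add (p : ℤ)) F
  have e4 : (TL F).obj ((Scheme.Modules.pullback (π₁ n Y)).obj
      (Groth.Agent.ProjTens.OO n (ULift.{u} ℤ) ((0 : ℤ) + (p : ℤ)))) ≅ KRR.twF n Y (p : ℤ) F :=
    Groth.Agent.TensInv.comm F (Twist.twistOver n Y ((0 : ℤ) + (p : ℤ))) ≪≫ e5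
  exact ⟨(TL F).mapIso ((Scheme.Modules.pullback (π₁ n Y)).mapIso e1 ≪≫ e2) ≪≫ e3 ≪≫
    Sigma.mapIso (fun _ => e4)⟩

/-- **the Koszul sequences on `P^n_Y`** -/
theorem exists_koszul {F : (KRR.PY n Y).Modules} (hF : FlatMod.IsFinLocFree F) (p : ℕ) :
    ∃ S : ShortComplex (KRR.PY n Y).Modules, S.ShortExact ∧ S.X₁ = ZF F p ∧
      Nonempty (S.X₂ ≅ ∐ fun _ : Fin (Nat.choose (n + 1) p) => KRR.twF n Y (p : ℤ) F) ∧
      S.X₃ = ZF F (p + 1) :=
  ⟨_, shortExact_tens hF p, rfl, nonempty_mid_iso hF p, rfl⟩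

end Over

section K0

universe v₁ u₁

open KZero Groth.Agent.Lib.KZeroH4 ZeroObject

variable {A : Type u₁} [Category.{v₁} A] [Abelian A] (Q : ObjectProperty A)

lemma clSub_isZero_of (h0 : ∀ X : A, IsZero X → Q X) {X : A} (hX : IsZero X) :
    clSub Q X = 0 := by
  have hPX : Q X := h0 X hX
  have hS : (ShortComplex.mk (0 : X ⟶ X) (0 : X ⟶ X) zero_comp).ShortExact :=
    ShortComplex.ShortExact.mk' (ShortComplex.exact_of_isZero_X₂ _ hX) (hX.mono _) (hX.epi _)
  have h : clSub Q X = clSub Q X + clSub Q X := clSub_ses Q _ hS hPX hPX hPX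
  have h' : clSub Q X + 0 = clSub Q X + clSub Q X := by rw [add_zero]; exact h
  exact (add_left_cancel h').symm

lemma clSub_iso_of (h0 : ∀ X : A, IsZero X → Q X) {X Y : A} (e : X ≅ Y) (hX : Q X)
    (hY : Q Y) : clSub Q X = clSub Q Y := by
  haveI : Epi (0 : Y ⟶ (0 : A)) := (isZero_zero A).epi _
  have hS : (ShortComplex.mk e.hom (0 : Y ⟶ (0 : A)) comp_zero).ShortExact :=
    ShortComplex.ShortExact.mk' ((ShortComplex.exact_iff_epi _ rfl).2 (inferInstance : Epi e.hom))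
      (inferInstance : Mono e.hom) (inferInstance : Epi (0 : Y ⟶ (0 : A)))
  have h : clSub Q Y = clSub Q X + clSub Q (0 : A) :=
    clSub_ses Q _ hS hX hY (h0 _ (isZero_zero A))
  rw [clSub_isZero_of Q h0 (isZero_zero A), add_zero] at h
  exact h.symm

lemma clSub_sigma (h0 : ∀ X : A, IsZero X → Q X)
    (hsig : ∀ (m : ℕ) (E : A), Q E → Q (∐ fun _ : Fin m => E)) (E : A) (hE : Q E) :
    ∀ m : ℕ, clSub Q (∐ fun _ : Fin m => E) = m • clSub Q E := by
  intro m
  induction m with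
  | zero =>
    rw [zero_smul]
    apply clSub_isZero_of Q h0
    rw [IsZero.iff_id_eq_zero]
    apply Sigma.hom_ext
    intro j
    exact j.elim0
  | succ m ih =>
    have hS := Groth.Agent.K0Proj.sigmaSES (fun _ : Fin (m + 1) => E)
    have h1 := clSub_ses Q _ hS hE (hsig (m + 1) E hE) (hsig m E hE)
    rw [succ_nsmul, ← ih]
    exact h1.trans (add_comm _ _)

/-- the relation in `K₀(Q)` coming from a finite sequence of short exact sequences
`0 → Z_p → T_p^{c_p} → Z_{p+1} → 0` with `Z_0 = 0 = Z_{N+1}` -/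
theorem kos_rel (h0 : ∀ X : A, IsZero X → Q X)
    (hsig : ∀ (m : ℕ) (E : A), Q E → Q (∐ fun _ : Fin m => E))
    (hiso : ∀ {X Y : A}, (X ≅ Y) → Q X → Q Y)
    (N : ℕ) (Z T : ℕ → A) (c : ℕ → ℕ) (z0 : IsZero (Z 0)) (zN : IsZero (Z (N + 1)))
    (hZ : ∀ p, Q (Z p)) (hT : ∀ p, Q (T p))
    (hS : ∀ p, ∃ S : ShortComplex A, S.ShortExact ∧ S.X₁ = Z p ∧
      Nonempty (S.X₂ ≅ ∐ fun _ : Fin (c p) => T p) ∧ S.X₃ = Z (p + 1)) :
    ∑ p ∈ Finset.range (N + 1), (-1 : ℤ) ^ p • (c p • clSub Q (T p)) = 0 := by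
  have h1 : ∀ p, c p • clSub Q (T p) = clSub Q (Z p) + clSub Q (Z (p + 1)) := by
    intro p
    obtain ⟨S, hSe, h1, ⟨e⟩, h3⟩ := hS p
    have hP2 : Q S.X₂ := hiso e.symm (hsig (c p) (T p) (hT p))
    have h := clSub_ses Q S hSe (h1 ▸ hZ p) hP2 (h3 ▸ hZ (p + 1))
    rw [h1, h3, clSub_iso_of Q h0 e hP2 (hsig (c p) (T p) (hT p)),
      clSub_sigma Q h0 hsig (T p) (hT p)] at h
    exact h
  have claim : ∀ m : ℕ, ∑ p ∈ Finset.range (m + 1), (-1 : ℤ) ^ p • (c p • clSub Q (T p)) =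
      clSub Q (Z 0) + (-1 : ℤ) ^ m • clSub Q (Z (m + 1)) := by
    intro m
    induction m with
    | zero =>
      rw [Finset.sum_range_one, h1 0]
      simp
    | succ m ih =>
      rw [Finset.sum_range_succ, ih, h1 (m + 1), pow_succ, smul_add, mul_neg_one, neg_smul]
      abel
  rw [claim N, clSub_isZero_of Q h0 z0, clSub_isZero_of Q h0 zN, smul_zero, add_zero]

end K0

section Vb

variable {n : ℕ} {Y : Scheme.{u}}

theorem isFinLocFree_sigma_const {X : Scheme.{u}} (E : X.Modules) (hE : FlatMod.IsFinLocFree E) :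
    ∀ m : ℕ, FlatMod.IsFinLocFree (∐ fun _ : Fin m => E) := by
  intro m
  induction m with
  | zero =>
    apply isFinLocFree_of_isZero
    rw [IsZero.iff_id_eq_zero]
    apply Sigma.hom_ext
    intro j
    exact j.elim0
  | succ m ih =>
    let f : Fin (m + 1) → X.Modules := fun _ => E
    let hom : (∐ f) ⟶ E ⊞ ∐ fun _ : Fin m => E :=
      Sigma.desc (fun j => Fin.cases (biprod.inl : E ⟶ E ⊞ ∐ fun _ : Fin m => E)
        (fun j' => Sigma.ι (fun _ : Fin m => E) j' ≫ biprod.inr) j)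
    let inv : (E ⊞ ∐ fun _ : Fin m => E) ⟶ ∐ f :=
      biprod.desc (Sigma.ι f 0) (Sigma.desc fun j' : Fin m => Sigma.ι f j'.succ)
    have h1 : hom ≫ inv = 𝟙 _ := by
      apply Sigma.hom_ext
      intro j
      simp only [hom, inv]
      rw [Sigma.ι_desc_assoc, Category.comp_id]
      refine Fin.cases ?_ (fun j' => ?_) j
      · simp
      · simp
    have h2 : inv ≫ hom = 𝟙 _ := by
      apply biprod.hom_ext'
      · simp only [hom, inv]
        rw [biprod.inl_desc_assoc, Sigma.ι_desc, Category.comp_id]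
        rfl
      · apply Sigma.hom_ext
        intro j'
        simp only [hom, inv]
        rw [biprod.inr_desc_assoc, Sigma.ι_desc_assoc, Sigma.ι_desc, Category.comp_id]
        rfl
    exact FLFH8.IsFinLocFree.of_iso (Iso.mk hom inv h1 h2).symm
      (Groth.Agent.Lib.ConeSP.finLocFree_biprod _ _ hE ih)

/-- **the Koszul relation in `K₀` of the finite locally free modules on `P^n_Y`** -/
theorem koszul_rel_vb (F : (KRR.PY n Y).Modules) (hF : FlatMod.IsFinLocFree F) :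
    ∑ p ∈ Finset.range (n + 1 + 1), (-1 : ℤ) ^ p •
      ((n + 1).choose p • KRR.cl (KRR.PY n Y) (KRR.twF n Y (p : ℤ) F)) = 0 := by
  have hT : ∀ p : ℕ, FlatMod.IsFinLocFree (KRR.twF n Y (p : ℤ) F) := fun p =>
    Groth.Agent.Lib.ResPropL.isFinLocFree_tensorMod (KRRRegH9.isFinLocFree_twistOver n Y p) hF
  exact kos_rel (KRR.vbP (KRR.PY n Y)) (fun X hX => isFinLocFree_of_isZero hX)
    (fun m E hE => isFinLocFree_sigma_const E hE m)
    (fun e h => FLFH8.IsFinLocFree.of_iso e h) (n + 1) (ZF F)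
    (fun p => KRR.twF n Y (p : ℤ) F) (fun p => (n + 1).choose p) (isZero_ZF_zero F)
    (isZero_ZF_of_lt F (n + 1 + 1) (by omega)) (isFinLocFree_ZF hF) hT
    (fun p => exists_koszul hF p)

end Vb

end Groth.Agent.KRRKos
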