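import Mathlib
import Groth.Prelude
import Groth.Agent.Lib.KRRKos1_helper9
import Groth.Agent.Lib.ProperFin3_helper9
import Groth.Agent.S0022

/-!
# `K₀(P^n_Y)` is generated by the classes of regular bundles (helper9)
APPEND-ONLY once landed.
-/

set_option autoImplicit false
set_option linter.style.haveILetI false
set_option linter.unusedSectionVars false

universe u

open CategoryTheory CategoryTheory.Limits AlgebraicGeometry Opposite

namespace Groth.Agent.KRRKos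

open Groth.Agent.Lib.AmpleK PFormH9 ProperFinH9

section Serre

open CohB1 Groth.Agent.PnOver Groth.Agent.ProjTens

variable (N : ℕ) (T : Scheme.{u}) [IsNoetherian T]

/-- `R^q p_* = 0` for `q > N` on coherent modules of `P^N_T` -/
theorem isZero_RpushAb_of_gt (E : (KRR.PY N T).Modules) (hE : Coh.IsCoh E) (m : ℤ) (q : ℕ)
    (hq : N < q) :
    IsZero ((Coh.RpushAb (KRR.pr N T) q).obj (Coh.toAb (KRR.twF N T m E))) := by
  haveI := (KRRRegH9.qcqs_pr N T).1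
  haveI := (KRRRegH9.qcqs_pr N T).2
  obtain ⟨q', rfl⟩ : ∃ q', q = q' + 1 := ⟨q - 1, by omega⟩
  haveI := KRRRegH9.isQuasicoherent_twF N T E hE.1 m
  refine isZero_Rpush_succ_of_affine_cover (KRR.pr N T) (KRR.twF N T m E) q'
    (fun V : T.affineOpens => (V : T.Opens)) (fun V => V.2) (fun y => by
      obtain ⟨W, hW, hyW, -⟩ := PnOverVanH9.affine_basis T ⊤ y trivial
      exact ⟨⟨W, hW⟩, hyW⟩) ?_
  intro V
  rw [KRRRegH9.ext_vanish_iff N (V : T.Opens) V.2 E m (q' + 1)]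
  have hc := isCoh_restrict_sigma N T E hE (V : T.Opens) V.2
  haveI : (E.restrict (sigma N (V : T.Opens) V.2)).IsQuasicoherent := hc.1
  haveI : Coh.IsQCoh (CohB1.tensorMod (E.restrict (sigma N (V : T.Opens) V.2))
      (OO N Γ(T, (V : T.Opens)) m)) := isQuasicoherent_tw N Γ(T, (V : T.Opens)) _ m
  exact Groth.Agent.S0022.result N Γ(T, (V : T.Opens)) _ (q' + 1) (by omega)

/-- every coherent module on `P^N_T` becomes regular after a large twist -/
theorem exists_isRegSheaf_twF (F : (KRR.PY N T).Modules) (hF : Coh.IsCoh F) :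
    ∃ m₀ : ℕ, ∀ m : ℕ, m₀ ≤ m → KRR.IsRegSheaf N T (KRR.twF N T (m : ℤ) F) := by
  obtain ⟨m₁, hm₁⟩ := relative_serre_vanishing N T F hF
  refine ⟨(m₁ + N).toNat, fun m hm i hi => ?_⟩
  obtain ⟨e⟩ := KRRRegH9.twF_twF N T (-(i : ℤ)) (m : ℤ) F
  refine KRRRegH9.isZero_RpushAb_of_iso e.symm i ?_
  by_cases hin : i ≤ N
  · exact hm₁ _ (by omega) i hi
  · exact isZero_RpushAb_of_gt N T F hF _ i (by omega)

end Serre

section Gen

variable (n : ℕ) (Y : Scheme.{u}) [IsNoetherian Y]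

/-- the subgroup of `K₀(P^n_Y)` generated by the classes of the regular bundles -/
noncomputable def Hreg : AddSubgroup (SGA6.Kvb (KRR.PY n Y)) :=
  AddSubgroup.closure {x | ∃ F : (KRR.PY n Y).Modules, FlatMod.IsFinLocFree F ∧
    KRR.IsRegSheaf n Y F ∧ x = KRR.cl (KRR.PY n Y) F}

variable {n Y}

theorem isFinLocFree_twF (F : (KRR.PY n Y).Modules) (hF : FlatMod.IsFinLocFree F) (d : ℤ) :
    FlatMod.IsFinLocFree (KRR.twF n Y d F) :=
  Groth.Agent.Lib.ResPropL.isFinLocFree_tensorMod (KRRRegH9.isFinLocFree_twistOver n Y d) hF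

theorem neg_one_pow_zsmul_mem {G : Type*} [AddCommGroup G] (H : AddSubgroup G) (p : ℕ) (x : G)
    (h : x ∈ H) : (-1 : ℤ) ^ p • x ∈ H := H.zsmul_mem h _

theorem cl_twF_mem (F : (KRR.PY n Y).Modules) (hF : FlatMod.IsFinLocFree F) (m₀ : ℕ)
    (hm₀ : ∀ m : ℕ, m₀ ≤ m → KRR.IsRegSheaf n Y (KRR.twF n Y (m : ℤ) F)) :
    ∀ k m : ℕ, m₀ ≤ m + k → KRR.cl (KRR.PY n Y) (KRR.twF n Y (m : ℤ) F) ∈ Hreg n Y := by
  intro k
  induction k with
  | zero =>
    intro m hm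
    exact AddSubgroup.subset_closure ⟨_, isFinLocFree_twF F hF m, hm₀ m (by omega), rfl⟩
  | succ k ih =>
    intro m hm
    have hFm := isFinLocFree_twF F hF (m : ℤ)
    have hrel := koszul_rel_vb (KRR.twF n Y (m : ℤ) F) hFm
    rw [Finset.sum_range_succ'] at hrel
    have h0 : KRR.cl (KRR.PY n Y) (KRR.twF n Y ((0 : ℕ) : ℤ) (KRR.twF n Y (m : ℤ) F)) =
        KRR.cl (KRR.PY n Y) (KRR.twF n Y (m : ℤ) F) := by
      obtain ⟨e⟩ := KRRRegH9.twF_zero n Y (KRR.twF n Y (m : ℤ) F)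
      exact cl_iso e (isFinLocFree_twF _ hFm _)
    rw [h0, pow_zero, one_smul, Nat.choose_zero_right, one_smul] at hrel
    have hsum : ∑ p ∈ Finset.range (n + 1), (-1 : ℤ) ^ (p + 1) •
        ((n + 1).choose (p + 1) • KRR.cl (KRR.PY n Y)
          (KRR.twF n Y ((p + 1 : ℕ) : ℤ) (KRR.twF n Y (m : ℤ) F))) ∈ Hreg n Y := by
      refine AddSubgroup.sum_mem _ (fun p _ => ?_)
      refine neg_one_pow_zsmul_mem _ _ _ ((Hreg n Y).nsmul_mem ?_ _)
      obtain ⟨e⟩ := KRRRegH9.twF_twF n Y ((p + 1 : ℕ) : ℤ) (m : ℤ) F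
      obtain ⟨e'⟩ := KRRRegH9.twF_congr n Y
        (show ((p + 1 : ℕ) : ℤ) + (m : ℤ) = ((m + (p + 1) : ℕ) : ℤ) by push_cast; ring) F
      rw [cl_iso (e ≪≫ e') (isFinLocFree_twF _ hFm _)]
      exact ih (m + (p + 1)) (by omega)
    have : KRR.cl (KRR.PY n Y) (KRR.twF n Y (m : ℤ) F) =
        -(∑ p ∈ Finset.range (n + 1), (-1 : ℤ) ^ (p + 1) •
        ((n + 1).choose (p + 1) • KRR.cl (KRR.PY n Y)
          (KRR.twF n Y ((p + 1 : ℕ) : ℤ) (KRR.twF n Y (m : ℤ) F)))) :=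
      eq_neg_of_add_eq_zero_right hrel
    rw [this]
    exact (Hreg n Y).neg_mem hsum

/-- **generation**: the classes of the regular bundles generate `K₀(P^n_Y)` -/
theorem Hreg_eq_top : Hreg n Y = ⊤ := by
  rw [eq_top_iff]
  intro x _
  refine Groth.Agent.K0Proj.mem_of_forall (KRR.vbP (KRR.PY n Y)) (Hreg n Y) (fun F hF => ?_) x
  haveI : IsProper (KRR.pr n Y) := Groth.Agent.Lib.ProjSpaceProperH4.isProper_toBase n Y
  haveI : IsLocallyNoetherian (KRR.PY n Y) :=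
    LocallyOfFiniteType.isLocallyNoetherian (KRR.pr n Y)
  have hcoh : Coh.IsCoh F := KerFreeH8.isCoh_of_finLocFree hF
  obtain ⟨m₀, hm₀⟩ := exists_isRegSheaf_twF n Y F hcoh
  have h := cl_twF_mem F hF m₀ hm₀ m₀ 0 (by omega)
  obtain ⟨e⟩ := KRRRegH9.twF_zero n Y F
  have h' : KRR.cl (KRR.PY n Y) (KRR.twF n Y ((0 : ℕ) : ℤ) F) = KRR.cl (KRR.PY n Y) F :=
    cl_iso e (isFinLocFree_twF F hF _)
  rw [h'] at h
  exact h

/-- two additive maps on `K₀(P^n_Y)` agreeing on the regular bundles are equal -/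
theorem hom_ext_reg {G : Type*} [AddCommGroup G] (f g : SGA6.Kvb (KRR.PY n Y) →+ G)
    (h : ∀ F : (KRR.PY n Y).Modules, FlatMod.IsFinLocFree F → KRR.IsRegSheaf n Y F →
      f (KRR.cl (KRR.PY n Y) F) = g (KRR.cl (KRR.PY n Y) F)) : f = g := by
  have hle : Hreg n Y ≤ AddMonoidHom.eqLocus f g := by
    unfold Hreg
    rw [AddSubgroup.closure_le]
    rintro x ⟨F, hF, hreg, rfl⟩
    exact h F hF hreg
  refine AddMonoidHom.ext (fun x => ?_)
  have hx : x ∈ Hreg n Y := by rw [Hreg_eq_top]; trivial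
  exact hle hx

end Gen

end Groth.Agent.KRRKos
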