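import Mathlib
import Groth.Prelude
import Groth.Agent.Lib.KRRKos2_helper9

/-!
# Base change for the push-forward `p_K` on `K(P^n_Y)` (helper9)
APPEND-ONLY once landed.
-/

set_option autoImplicit false
set_option linter.style.haveILetI false
set_option linter.unusedSectionVars false

universe u v

open CategoryTheory CategoryTheory.Limits AlgebraicGeometry Opposite

namespace Groth.Agent.KRRKos

open Groth.Agent.Lib.AmpleK

/-- **S3800** -/
theorem main3800 (n : ℕ) {Y Y₁ : Scheme.{u}} [IsNoetherian Y] [IsNoetherian Y₁] (φ : Y₁ ⟶ Y)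
    {KP KY KP₁ KY₁ : Type v} [CommRing KP] [CommRing KY] [CommRing KP₁] [CommRing KY₁]
    (φP : SGA6.Kvb (KRR.PY n Y) →+ KP) (hP : Function.Surjective φP)
    (φY : SGA6.Kvb Y →+ KY) (φP₁ : SGA6.Kvb (KRR.PY n Y₁) →+ KP₁) (φY₁ : SGA6.Kvb Y₁ →+ KY₁)
    (gφ : KY →+ KY₁) (hgφ : KRR.IsPull φ φY φY₁ gφ)
    (gψ : KP →+ KP₁) (hgψ : KRR.IsPull (KRR.projSpaceMap n φ) φP φP₁ gψ)
    (b : KP →+ KY) (hb : KRR.IsPushPr n Y φP φY b) (b₁ : KP₁ →+ KY₁)
    (hb₁ : KRR.IsPushPr n Y₁ φP₁ φY₁ b₁) (z : KP) : gφ (b z) = b₁ (gψ z) := by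
  obtain ⟨z', rfl⟩ := hP z
  have key := hom_ext_reg ((gφ.comp b).comp φP) ((b₁.comp gψ).comp φP) (fun F hF hreg => ?_)
  · exact DFunLike.congr_fun key z'
  simp only [AddMonoidHom.comp_apply]
  have hpF : FlatMod.IsFinLocFree ((Scheme.Modules.pushforward (KRR.pr n Y)).obj F) :=
    KRRBC.main3756 n Y F hF hreg
  have hsq := ProperFinH9.projSpaceMap_toBase n φ
  obtain ⟨hreg₁, hiso⟩ := KRRBC.main3770 n φ hsq F hF hreg
  rw [hb F hF hreg, hgφ _ hpF, hgψ F hF, hb₁ _ (PBH8.isFinLocFree_pullback _ hF) hreg₁]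
  congr 1
  haveI := hiso
  exact cl_iso (asIso (KRR.bcMap n φ hsq F)) (PBH8.isFinLocFree_pullback φ hpF)

end Groth.Agent.KRRKos
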