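import Mathlib
import Groth.Prelude
import Groth.Agent.Lib.KRRKos2_helper9
import Groth.Agent.Lib.FwdDiffChoose_helper9

/-!
# `p_K [O(-i)] = 0` for `1 ≤ i ≤ n` on `P^n_Y` (helper9)
APPEND-ONLY once landed.
-/

set_option autoImplicit false
set_option linter.style.haveILetI false
set_option linter.unusedSectionVars false

universe u v

open CategoryTheory CategoryTheory.Limits AlgebraicGeometry Opposite

namespace Groth.Agent.KRRKos

open Groth.Agent.Lib.AmpleK

/-- the Koszul relation for the twists of the structure sheaf, in `ℤ`-indexed form -/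
theorem koszul_rel_twist (n : ℕ) (Y : Scheme.{u}) (m : ℤ) :
    ∑ p ∈ Finset.range (n + 1 + 1), (-1 : ℤ) ^ p •
      ((n + 1).choose p • KRR.cl (KRR.PY n Y)
        (KRR.twF n Y (m + (p : ℤ)) (Coh.structureModule (KRR.PY n Y)))) = 0 := by
  have hO : FlatMod.IsFinLocFree (KRR.twF n Y m (Coh.structureModule (KRR.PY n Y))) :=
    KRRK0.isFinLocFree_twF_structureModule n Y m
  rw [← koszul_rel_vb _ hO]
  refine Finset.sum_congr rfl (fun p _ => ?_)
  obtain ⟨e⟩ := KRRRegH9.twF_twF n Y (p : ℤ) m (Coh.structureModule (KRR.PY n Y))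
  obtain ⟨e'⟩ := KRRRegH9.twF_congr n Y (add_comm (p : ℤ) m) (Coh.structureModule (KRR.PY n Y))
  rw [cl_iso (e ≪≫ e') (Groth.Agent.Lib.ResPropL.isFinLocFree_tensorMod
    (KRRRegH9.isFinLocFree_twistOver n Y p) hO)]

/-- **S3761**, from S3760 -/
theorem main3761 (n : ℕ) (Y : Scheme.{u})
    {KP KY : Type v} [CommRing KP] [CommRing KY]
    (φP : SGA6.Kvb (KRR.PY n Y) →+ KP) (g : KP →+ KY)
    (h3760 : ∀ m : ℕ, g (φP (KRR.cl (KRR.PY n Y)
      (KRR.twF n Y (m : ℤ) (Coh.structureModule (KRR.PY n Y))))) = (Nat.choose (n + m) m : KY))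
    (i : ℕ) (hi : 1 ≤ i) (hin : i ≤ n) :
    g (φP (KRR.cl (KRR.PY n Y)
      (KRR.twF n Y (-(i : ℤ)) (Coh.structureModule (KRR.PY n Y))))) = 0 := by
  have key := Groth.Agent.FwdDiffChoose.eq_cn_of_rec n
    (fun m : ℤ => g (φP (KRR.cl (KRR.PY n Y)
      (KRR.twF n Y m (Coh.structureModule (KRR.PY n Y)))))) ?_ ?_ (-(i : ℤ))
  · rw [Groth.Agent.FwdDiffChoose.cn_neg n i hi hin] at key
    simpa using key
  · intro m
    have h := congrArg (fun x => g (φP x)) (koszul_rel_twist n Y m)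
    simp only [map_sum, map_zsmul, map_nsmul, map_zero] at h
    exact h
  · intro m
    show g (φP (KRR.cl (KRR.PY n Y)
      (KRR.twF n Y ((m : ℕ) : ℤ) (Coh.structureModule (KRR.PY n Y))))) = _
    rw [h3760 m, add_comm m n, Nat.choose_symm_add]

end Groth.Agent.KRRKos
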