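import Mathlib
import Groth.Prelude
import Groth.Agent.Lib.KRRKos2_helper9
import Groth.Agent.Lib.PullTensIso3_helper3
import Groth.Agent.Lib.HHVan_helper9
import Groth.Agent.Lib.PForm3_helper9

/-!
# The projection formula for `p_K` on `K(P^n_Y)` (helper9)
APPEND-ONLY once landed.
-/

set_option autoImplicit false
set_option linter.style.haveILetI false
set_option linter.unusedSectionVars false

universe u v

open CategoryTheory CategoryTheory.Limits AlgebraicGeometry Opposite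

namespace Groth.Agent.KRRKos

open Groth.Agent.Lib.AmpleK Groth.Agent.TensInv

section Fibre

variable {X Y : Scheme.{u}} (f : X ⟶ Y)

/-- `M ⊗ O^r ≅ ∐_r M` -/
theorem nonempty_tensor_freeMod (M : X.Modules) (r : ℕ) :
    Nonempty (CohB1.tensorMod M (FlatMod.freeMod X r) ≅ ∐ fun _ : Fin r => M) := by
  have e := PreservesCoproduct.iso (tL M) (fun _ : Fin r => Coh.structureModule X)
  exact ⟨e ≪≫ Sigma.mapIso (fun _ => rightUnit M)⟩

/-- the restriction of `G ⊗ f^* E` to a fibre is a finite direct sum of copies of the restriction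
of `G` -/
theorem nonempty_fibre_tensor_iso (G : X.Modules) (E : Y.Modules) (hE : FlatMod.IsFinLocFree E)
    (y : Y) :
    ∃ r : ℕ, Nonempty ((Scheme.Modules.pullback (f.fiberι y)).obj
        (CohB1.tensorMod G ((Scheme.Modules.pullback f).obj E)) ≅
      ∐ fun _ : Fin r => (Scheme.Modules.pullback (f.fiberι y)).obj G) := by
  have e1 := Groth.Agent.Lib.PullTensIsoH3.pullTensIso (f.fiberι y) G
    ((Scheme.Modules.pullback f).obj E)
  have e2 : (Scheme.Modules.pullback (f.fiberι y)).obj ((Scheme.Modules.pullback f).obj E) ≅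
      (Scheme.Modules.pullback (f.fiberToSpecResidueField y)).obj
        ((Scheme.Modules.pullback (Y.fromSpecResidueField y)).obj E) :=
    (Scheme.Modules.pullbackComp (f.fiberι y) f).app E ≪≫
      (Scheme.Modules.pullbackCongr (f.fiber_fac y)).app E ≪≫
      ((Scheme.Modules.pullbackComp (f.fiberToSpecResidueField y)
        (Y.fromSpecResidueField y)).app E).symm
  obtain ⟨r, ⟨e3⟩⟩ := KRRK0.exists_iso_freeMod_of_pid (Y.residueField y)
    ((Scheme.Modules.pullback (Y.fromSpecResidueField y)).obj E)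
    (PBH8.isFinLocFree_pullback _ hE)
  have e4 := PBH8.pullbackFreeIso (f.fiberToSpecResidueField y) r
  obtain ⟨e5⟩ := nonempty_tensor_freeMod ((Scheme.Modules.pullback (f.fiberι y)).obj G) r
  exact ⟨r, ⟨e1 ≪≫ mapL _ (e2 ≪≫
    (Scheme.Modules.pullback (f.fiberToSpecResidueField y)).mapIso e3 ≪≫ e4) ≪≫ e5⟩⟩

theorem subsingleton_fiberH_tensor (G : X.Modules) (E : Y.Modules) (hE : FlatMod.IsFinLocFree E)
    (y : Y) (i : ℕ) (h : Subsingleton (CohIII.fiberH f G y i)) :
    Subsingleton (CohIII.fiberH f (CohB1.tensorMod G ((Scheme.Modules.pullback f).obj E)) y i) := by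
  obtain ⟨r, ⟨e⟩⟩ := nonempty_fibre_tensor_iso f G E hE y
  exact Groth.Agent.HHVan.subsingleton_of_iso e.symm i
    (ProperFinH9.subsingleton_HH_sigma _ r i h)

end Fibre

section Reg

variable {n : ℕ} {Y : Scheme.{u}}

/-- regular bundles stay regular after tensoring with a bundle pulled back from the base -/
theorem isRegSheaf_tensor_pullback (F : (KRR.PY n Y).Modules) (hF : FlatMod.IsFinLocFree F)
    (hreg : KRR.IsRegSheaf n Y F) (E : Y.Modules) (hE : FlatMod.IsFinLocFree E) :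
    KRR.IsRegSheaf n Y (CohB1.tensorMod F ((Scheme.Modules.pullback (KRR.pr n Y)).obj E)) := by
  haveI : IsProper (KRR.pr n Y) := Groth.Agent.Lib.ProjSpaceProperH4.isProper_toBase n Y
  haveI : Smooth (KRR.pr n Y) := Groth.Agent.Lib.ProjSmoothH4.smooth_toBase n Y
  haveI : LocallyOfFinitePresentation (KRR.pr n Y) := inferInstance
  haveI : F.IsQuasicoherent := FLFH8.isQuasicoherent_of_finLocFree F hF
  haveI : HasInjectiveResolutions (KRR.PY n Y).Modules :=
    haveI := RpushQC.enoughInjectives_modules (KRR.PY n Y)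
    inferInstance
  intro i hi
  have hG : FlatMod.IsFinLocFree (KRR.twF n Y (-(i : ℤ)) F) :=
    Groth.Agent.Lib.ResPropL.isFinLocFree_tensorMod
      (KRRRegH9.isFinLocFree_twistOver n Y (-(i : ℤ))) hF
  haveI : (KRR.twF n Y (-(i : ℤ)) F).IsQuasicoherent := FLFH8.isQuasicoherent_of_finLocFree _ hG
  haveI : Coh.IsQCoh (KRR.twF n Y (-(i : ℤ)) F) := ‹(KRR.twF n Y (-(i : ℤ)) F).IsQuasicoherent›
  have hfpG : CohB1.IsFP (KRR.twF n Y (-(i : ℤ)) F) :=
    FLFH8.isFinitePresentation_of_finLocFree _ hG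
  have hflG := KRRBC.isFlatOver_of_isFinLocFree n Y _ hG
  have hvan : ∀ p, i ≤ p → IsZero ((Coh.Rpush (KRR.pr n Y) p).obj (KRR.twF n Y (-(i : ℤ)) F)) :=
    fun p hp => (RelAmpleCrit.isZero_Rpush_iff (KRR.pr n Y) p _).mpr
      (KRRRegH9.isZero_Rpush_twF n F ‹F.IsQuasicoherent› hreg (-(i : ℤ)) p (by omega) (by omega))
  have hpE : FlatMod.IsFinLocFree ((Scheme.Modules.pullback (KRR.pr n Y)).obj E) :=
    PBH8.isFinLocFree_pullback _ hE
  have hG' : FlatMod.IsFinLocFree (CohB1.tensorMod (KRR.twF n Y (-(i : ℤ)) F)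
      ((Scheme.Modules.pullback (KRR.pr n Y)).obj E)) :=
    Groth.Agent.Lib.ResPropL.isFinLocFree_tensorMod hG hpE
  haveI : (CohB1.tensorMod (KRR.twF n Y (-(i : ℤ)) F)
      ((Scheme.Modules.pullback (KRR.pr n Y)).obj E)).IsQuasicoherent :=
    FLFH8.isQuasicoherent_of_finLocFree _ hG'
  haveI : Coh.IsQCoh (CohB1.tensorMod (KRR.twF n Y (-(i : ℤ)) F)
      ((Scheme.Modules.pullback (KRR.pr n Y)).obj E)) :=
    ‹(CohB1.tensorMod (KRR.twF n Y (-(i : ℤ)) F)
      ((Scheme.Modules.pullback (KRR.pr n Y)).obj E)).IsQuasicoherent›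
  have e : CohB1.tensorMod (KRR.twF n Y (-(i : ℤ)) F)
      ((Scheme.Modules.pullback (KRR.pr n Y)).obj E) ≅
      KRR.twF n Y (-(i : ℤ)) (CohB1.tensorMod F ((Scheme.Modules.pullback (KRR.pr n Y)).obj E)) :=
    assoc _ _ _
  refine KRRRegH9.isZero_RpushAb_of_iso e i ?_
  rw [← RelAmpleCrit.isZero_Rpush_iff]
  refine Groth.Agent.S15985.result (KRR.pr n Y) _
    (FLFH8.isFinitePresentation_of_finLocFree _ hG')
    (KRRBC.isFlatOver_of_isFinLocFree n Y _ hG') i (fun y => ?_)
  exact subsingleton_fiberH_tensor (KRR.pr n Y) _ E hE y i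
    (KRRBC.subsingleton_fiberH_of_isZero_Rpush (KRR.pr n Y) _ hfpG hflG i hvan i le_rfl y)

end Reg

section Main

variable (n : ℕ) (Y : Scheme.{u}) [IsNoetherian Y]

/-- **S3762**: the projection formula `p_K (x · p^K y) = p_K x · y` -/
theorem main3762 {KP KY : Type v} [CommRing KP] [CommRing KY]
    (φP : SGA6.Kvb (KRR.PY n Y) →+ KP) (hP : Function.Surjective φP)
    (φY : SGA6.Kvb Y →+ KY) (hY : Function.Surjective φY)
    (mulP : ∀ E F : (KRR.PY n Y).Modules, FlatMod.IsFinLocFree E → FlatMod.IsFinLocFree F →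
      φP (KRR.cl (KRR.PY n Y) E) * φP (KRR.cl (KRR.PY n Y) F) =
        φP (KRR.cl (KRR.PY n Y) (((DCoh.tensorBi (X := KRR.PY n Y)).obj E).obj F)))
    (mulY : ∀ E F : Y.Modules, FlatMod.IsFinLocFree E → FlatMod.IsFinLocFree F →
      φY (KRR.cl Y E) * φY (KRR.cl Y F) =
        φY (KRR.cl Y (((DCoh.tensorBi (X := Y)).obj E).obj F)))
    (g : KP →+ KY) (hg : KRR.IsPushPr n Y φP φY g) (q : KY →+ KP)
    (hq : KRR.IsPull (KRR.pr n Y) φY φP q) (x : KP) (y : KY) :
    g (x * q y) = g x * y := by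
  obtain ⟨x', rfl⟩ := hP x
  obtain ⟨y', rfl⟩ := hY y
  -- step 1: `y` the class of a bundle
  have step1 : ∀ (E : Y.Modules), FlatMod.IsFinLocFree E → ∀ x' : SGA6.Kvb (KRR.PY n Y),
      g (φP x' * q (φY (KRR.cl Y E))) = g (φP x') * φY (KRR.cl Y E) := by
    intro E hE x'
    have key := hom_ext_reg
      ((g.comp (AddMonoidHom.mulRight (q (φY (KRR.cl Y E))))).comp φP)
      (((AddMonoidHom.mulRight (φY (KRR.cl Y E))).comp g).comp φP) (fun F hF hreg => ?_)
    · exact DFunLike.congr_fun key x'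
    simp only [AddMonoidHom.comp_apply, AddMonoidHom.mulRight_apply]
    have hpE : FlatMod.IsFinLocFree ((Scheme.Modules.pullback (KRR.pr n Y)).obj E) :=
      PBH8.isFinLocFree_pullback _ hE
    have hFE : FlatMod.IsFinLocFree
        (CohB1.tensorMod F ((Scheme.Modules.pullback (KRR.pr n Y)).obj E)) :=
      Groth.Agent.Lib.ResPropL.isFinLocFree_tensorMod hF hpE
    have hpF : FlatMod.IsFinLocFree ((Scheme.Modules.pushforward (KRR.pr n Y)).obj F) :=
      KRRBC.main3756 n Y F hF hreg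
    rw [hq E hE, mulP F _ hF hpE]
    show g (φP (KRR.cl (KRR.PY n Y)
      (CohB1.tensorMod F ((Scheme.Modules.pullback (KRR.pr n Y)).obj E)))) = _
    rw [hg _ hFE (isRegSheaf_tensor_pullback F hF hreg E hE), hg F hF hreg, mulY _ E hpF hE]
    congr 1
    show KRR.cl Y _ = KRR.cl Y (CohB1.tensorMod ((Scheme.Modules.pushforward (KRR.pr n Y)).obj F) E)
    have e : (Scheme.Modules.pushforward (KRR.pr n Y)).obj
        (CohB1.tensorMod F ((Scheme.Modules.pullback (KRR.pr n Y)).obj E)) ≅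
        CohB1.tensorMod ((Scheme.Modules.pushforward (KRR.pr n Y)).obj F) E :=
      (Scheme.Modules.pushforward (KRR.pr n Y)).mapIso (comm _ _) ≪≫
        ((PFormH9.projIso (KRR.pr n Y) E hE).app F).symm ≪≫ comm _ _
    exact cl_iso e (FLFH8.IsFinLocFree.of_iso e.symm
      (Groth.Agent.Lib.ResPropL.isFinLocFree_tensorMod hpF hE))
  -- step 2: general `y`
  have key := Groth.Agent.Lib.KZeroH4.homSub_ext (KRR.vbP Y)
    ((g.comp (AddMonoidHom.mulLeft (φP x'))).comp (q.comp φY))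
    ((AddMonoidHom.mulLeft (g (φP x'))).comp φY) (fun E hE => ?_)
  · exact DFunLike.congr_fun key y'
  show g (φP x' * q (φY (KRR.cl Y E))) = g (φP x') * φY (KRR.cl Y E)
  exact step1 E hE x'

end Main

end Groth.Agent.KRRKos
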