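import Mathlib
import Groth.Prelude
import Groth.Agent.Lib.KRRKos2_helper9
import Groth.Agent.Lib.K0Union_helper9

/-!
# `K₀(regular bundles on P^n_Y) ≅ K₀(bundles on P^n_Y)` (helper9)
Quillen's argument: `R_m` = bundles `F` with `F(m)` regular; `K₀(R_m) → K₀(R_{m+1})` is bijective,
with inverse `[F] ↦ -Σ_{p ≥ 1} (-1)^p C(n+1,p) [F(p)]`.
APPEND-ONLY once landed.
-/

set_option autoImplicit false
set_option linter.style.haveILetI false
set_option linter.unusedSectionVars false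

universe u

open CategoryTheory CategoryTheory.Limits AlgebraicGeometry Opposite KZero

namespace Groth.Agent.KRRKos

open Groth.Agent.Lib.AmpleK Groth.Agent.TensInv Groth.Agent.Lib.KZeroH4
  Groth.Agent.Lib.ResolK0H4 PFormH9

section Reg

variable {n : ℕ} {Y : Scheme.{u}}

theorem isRegSheaf_of_iso {F F' : (KRR.PY n Y).Modules} (e : F ≅ F')
    (h : KRR.IsRegSheaf n Y F) : KRR.IsRegSheaf n Y F' := by
  intro i hi
  exact KRRRegH9.isZero_RpushAb_of_iso ((TL (Twist.twistOver n Y (-(i : ℤ)))).mapIso e) i (h i hi)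

theorem isRegSheaf_of_isZero {F : (KRR.PY n Y).Modules} (h : IsZero F) :
    KRR.IsRegSheaf n Y F := by
  intro i hi
  have h1 : IsZero (KRR.twF n Y (-(i : ℤ)) F) :=
    Functor.map_isZero (TL (Twist.twistOver n Y (-(i : ℤ)))) h
  have h2 : IsZero (Coh.toAb (KRR.twF n Y (-(i : ℤ)) F)) :=
    Functor.map_isZero (SheafOfModules.toSheaf.{u} (KRR.PY n Y).ringCatSheaf) h1
  exact Functor.map_isZero (Coh.RpushAb (KRR.pr n Y) i) h2

theorem isRegSheaf_sigma_const (G : (KRR.PY n Y).Modules) (hG : KRR.IsRegSheaf n Y G) :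
    ∀ r : ℕ, KRR.IsRegSheaf n Y (∐ fun _ : Fin r => G) := by
  intro r
  induction r with
  | zero =>
    apply isRegSheaf_of_isZero
    rw [IsZero.iff_id_eq_zero]
    apply Sigma.hom_ext
    intro j
    exact j.elim0
  | succ r ih =>
    have hS := Groth.Agent.K0Proj.sigmaSES (fun _ : Fin (r + 1) => G)
    have h1 : KRR.IsRegSheaf n Y (ShortComplex.mk (Sigma.ι (fun _ : Fin (r + 1) => G) 0)
        (Groth.Agent.K0Proj.sigmaTail (fun _ : Fin (r + 1) => G))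
        (Groth.Agent.K0Proj.ι_zero_sigmaTail _)).X₁ := hG
    have h3 : KRR.IsRegSheaf n Y (ShortComplex.mk (Sigma.ι (fun _ : Fin (r + 1) => G) 0)
        (Groth.Agent.K0Proj.sigmaTail (fun _ : Fin (r + 1) => G))
        (Groth.Agent.K0Proj.ι_zero_sigmaTail _)).X₃ := ih
    have := KRRRegH9.isRegSheaf_X₂ n Y _ hS h1 h3
    exact this

theorem nonempty_tensor_sigma {X : Scheme.{u}} (E G : X.Modules) (r : ℕ) :
    Nonempty (CohB1.tensorMod E (∐ fun _ : Fin r => G) ≅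
      ∐ fun _ : Fin r => CohB1.tensorMod E G) :=
  ⟨PreservesCoproduct.iso (tL E) (fun _ : Fin r => G)⟩

theorem nonempty_twF_sigma (d : ℤ) (G : (KRR.PY n Y).Modules) (r : ℕ) :
    Nonempty (KRR.twF n Y d (∐ fun _ : Fin r => G) ≅ ∐ fun _ : Fin r => KRR.twF n Y d G) :=
  nonempty_tensor_sigma (Twist.twistOver n Y d) G r

end Reg

section Classes

variable (n : ℕ) (Y : Scheme.{u})

/-- the bundles `F` on `P^n_Y` with `F(m)` regular -/
def Rm (m : ℕ) : ObjectProperty (KRR.PY n Y).Modules :=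
  fun F => FlatMod.IsFinLocFree F ∧ KRR.IsRegSheaf n Y (KRR.twF n Y (m : ℤ) F)

variable {n Y}

theorem isFinLocFree_twF' (F : (KRR.PY n Y).Modules) (hF : FlatMod.IsFinLocFree F) (d : ℤ) :
    FlatMod.IsFinLocFree (KRR.twF n Y d F) :=
  Groth.Agent.Lib.ResPropL.isFinLocFree_tensorMod (KRRRegH9.isFinLocFree_twistOver n Y d) hF

theorem Rm_iso {m : ℕ} {F F' : (KRR.PY n Y).Modules} (e : F ≅ F') (h : Rm n Y m F) :
    Rm n Y m F' :=
  ⟨FLFH8.IsFinLocFree.of_iso e h.1,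
    isRegSheaf_of_iso ((TL (Twist.twistOver n Y (m : ℤ))).mapIso e) h.2⟩

theorem Rm_zero (m : ℕ) {F : (KRR.PY n Y).Modules} (h : IsZero F) : Rm n Y m F :=
  ⟨isFinLocFree_of_isZero h,
    isRegSheaf_of_isZero (Functor.map_isZero (TL (Twist.twistOver n Y (m : ℤ))) h)⟩

theorem Rm_sigma {m : ℕ} (r : ℕ) (E : (KRR.PY n Y).Modules) (h : Rm n Y m E) :
    Rm n Y m (∐ fun _ : Fin r => E) := by
  obtain ⟨e⟩ := nonempty_twF_sigma (m : ℤ) E r
  exact ⟨isFinLocFree_sigma_const E h.1 r,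
    isRegSheaf_of_iso e.symm (isRegSheaf_sigma_const _ h.2 r)⟩

/-- twisting by `j ≥ 0` lowers the index -/
theorem Rm_twF {m : ℕ} (F : (KRR.PY n Y).Modules) (hF : Rm n Y m F) (j k : ℕ) (h : m ≤ k + j) :
    Rm n Y k (KRR.twF n Y (j : ℤ) F) := by
  refine ⟨isFinLocFree_twF' F hF.1 _, ?_⟩
  have hm : FlatMod.IsFinLocFree (KRR.twF n Y (m : ℤ) F) := isFinLocFree_twF' F hF.1 _
  haveI : (KRR.twF n Y (m : ℤ) F).IsQuasicoherent := FLFH8.isQuasicoherent_of_finLocFree _ hm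
  have h1 := KRRRegH9.isRegSheaf_twF_of_isQCoh n Y (KRR.twF n Y (m : ℤ) F)
    ‹(KRR.twF n Y (m : ℤ) F).IsQuasicoherent› hF.2 (k + j - m)
  obtain ⟨e1⟩ := KRRRegH9.twF_twF n Y (((k + j - m : ℕ)) : ℤ) (m : ℤ) F
  obtain ⟨e2⟩ := KRRRegH9.twF_twF n Y (k : ℤ) (j : ℤ) F
  obtain ⟨e3⟩ := KRRRegH9.twF_congr n Y
    (show (((k + j - m : ℕ)) : ℤ) + (m : ℤ) = (k : ℤ) + (j : ℤ) by
      rw [Nat.cast_sub h]; push_cast; ring) F
  exact isRegSheaf_of_iso (e1 ≪≫ e3 ≪≫ e2.symm) h1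

theorem Rm_mono (m : ℕ) : Rm n Y m ≤ Rm n Y (m + 1) := by
  intro F hF
  have h := Rm_twF F hF 0 (m + 1) (by omega)
  obtain ⟨e⟩ := KRRRegH9.twF_zero n Y F
  exact Rm_iso e h

theorem Rm_le_vb (m : ℕ) : Rm n Y m ≤ KRR.vbP (KRR.PY n Y) := fun _ h => h.1

/-- the cokernel lemma -/
theorem Rm_X₃ {m : ℕ} (S : ShortComplex (KRR.PY n Y).Modules) (hS : S.ShortExact)
    (h₁ : Rm n Y (m + 1) S.X₁) (h₂ : Rm n Y m S.X₂) (h₃ : FlatMod.IsFinLocFree S.X₃) :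
    Rm n Y m S.X₃ := by
  refine ⟨h₃, ?_⟩
  obtain ⟨p1, p2⟩ := preserves_TL (KRRRegH9.isFinLocFree_twistOver n Y (m : ℤ))
  haveI := p1
  haveI := p2
  have hS' : (S.map (TL (Twist.twistOver n Y (m : ℤ)))).ShortExact := hS.map_of_exact _
  have k2 : KRR.IsRegSheaf n Y (S.map (TL (Twist.twistOver n Y (m : ℤ)))).X₂ := by
    rw [ShortComplex.map_X₂, ← KRRRegH9.twF_eq]
    exact h₂.2
  have k1 : KRR.IsRegSheaf n Y (KRR.twF n Y 1 (S.map (TL (Twist.twistOver n Y (m : ℤ)))).X₁) := by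
    rw [ShortComplex.map_X₁, ← KRRRegH9.twF_eq]
    obtain ⟨e1⟩ := KRRRegH9.twF_twF n Y 1 (m : ℤ) S.X₁
    obtain ⟨e2⟩ := KRRRegH9.twF_congr n Y
      (show (1 : ℤ) + (m : ℤ) = ((m + 1 : ℕ) : ℤ) by push_cast; ring) S.X₁
    exact isRegSheaf_of_iso (e1 ≪≫ e2).symm h₁.2
  have k3 := KRRRegH9.isRegSheaf_X₃ n Y _ hS' k2 k1
  rw [ShortComplex.map_X₃, ← KRRRegH9.twF_eq] at k3
  exact k3

theorem ZF_mem {m : ℕ} (F : (KRR.PY n Y).Modules) (hF : Rm n Y m F) :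
    ∀ p : ℕ, Rm n Y m (ZF F p) := by
  intro p
  induction p with
  | zero => exact Rm_zero m (isZero_ZF_zero F)
  | succ p ih =>
    obtain ⟨S, hS, h1, ⟨e⟩, h3⟩ := exists_koszul hF.1 p
    have h₂ : Rm n Y m S.X₂ :=
      Rm_iso e.symm (Rm_sigma _ _ (Rm_twF F hF p m (by omega)))
    have := Rm_X₃ S hS (h1 ▸ Rm_mono m _ ih) h₂ (h3 ▸ isFinLocFree_ZF hF.1 (p + 1))
    rw [h3] at this
    exact this

/-- the Koszul relation in `K₀(R_m)` -/
theorem koszul_rel_Rm {m : ℕ} (F : (KRR.PY n Y).Modules) (hF : Rm n Y m F) :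
    ∑ p ∈ Finset.range (n + 1 + 1), (-1 : ℤ) ^ p •
      ((n + 1).choose p • clSub (Rm n Y m) (KRR.twF n Y (p : ℤ) F)) = 0 :=
  kos_rel (Rm n Y m) (fun _ hX => Rm_zero m hX) (fun r E hE => Rm_sigma r E hE)
    (fun e h => Rm_iso e h) (n + 1) (ZF F)
    (fun p => KRR.twF n Y (p : ℤ) F) (fun p => (n + 1).choose p) (isZero_ZF_zero F)
    (isZero_ZF_of_lt F (n + 1 + 1) (by omega)) (ZF_mem F hF)
    (fun p => Rm_twF F hF p m (by omega)) (fun p => exists_koszul hF.1 p)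

/-- the Koszul relation solved for `[F]` -/
theorem cl_eq_neg_sum {m : ℕ} (F : (KRR.PY n Y).Modules) (hF : Rm n Y m F) :
    clSub (Rm n Y m) F = -∑ p ∈ Finset.range (n + 1), (-1 : ℤ) ^ (p + 1) •
      ((n + 1).choose (p + 1) • clSub (Rm n Y m) (KRR.twF n Y ((p + 1 : ℕ) : ℤ) F)) := by
  have hrel := koszul_rel_Rm F hF
  rw [Finset.sum_range_succ'] at hrel
  obtain ⟨e⟩ := KRRRegH9.twF_zero n Y F
  have h0 : clSub (Rm n Y m) (KRR.twF n Y ((0 : ℕ) : ℤ) F) = clSub (Rm n Y m) F :=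
    clSub_iso_of (Rm n Y m) (fun _ hX => Rm_zero m hX) e (Rm_iso e.symm hF) hF
  rw [h0, pow_zero, one_smul, Nat.choose_zero_right, one_smul] at hrel
  exact eq_neg_of_add_eq_zero_right hrel

end Classes

end Groth.Agent.KRRKos
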