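import Mathlib
import Groth.Prelude
import Groth.Agent.Lib.KRRKos6_helper9

/-!
# `K₀(regular bundles on P^n_Y) ≅ K₀(bundles on P^n_Y)`, conclusion (helper9)
APPEND-ONLY once landed.
-/

set_option autoImplicit false
set_option linter.style.haveILetI false
set_option linter.unusedSectionVars false

universe u

open CategoryTheory CategoryTheory.Limits AlgebraicGeometry Opposite KZero

namespace Groth.Agent.KRRKos

open Groth.Agent.Lib.AmpleK Groth.Agent.TensInv Groth.Agent.Lib.KZeroH4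
  Groth.Agent.Lib.ResolK0H4 PFormH9

section Rho

variable {n : ℕ} {Y : Scheme.{u}} (m : ℕ)

/-- the function defining the inverse of `K₀(R_m) → K₀(R_{m+1})` -/
noncomputable def rhoFun (F : (KRR.PY n Y).Modules) : K0sub (Rm n Y m) :=
  -∑ p ∈ Finset.range (n + 1), (-1 : ℤ) ^ (p + 1) •
    ((n + 1).choose (p + 1) • clSub (Rm n Y m) (KRR.twF n Y ((p + 1 : ℕ) : ℤ) F))

theorem clSub_twF_add (S : ShortComplex (KRR.PY n Y).Modules) (hS : S.ShortExact)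
    (h₁ : Rm n Y (m + 1) S.X₁) (h₂ : Rm n Y (m + 1) S.X₂) (h₃ : Rm n Y (m + 1) S.X₃) (p : ℕ) :
    clSub (Rm n Y m) (KRR.twF n Y ((p + 1 : ℕ) : ℤ) S.X₂) =
      clSub (Rm n Y m) (KRR.twF n Y ((p + 1 : ℕ) : ℤ) S.X₁) +
        clSub (Rm n Y m) (KRR.twF n Y ((p + 1 : ℕ) : ℤ) S.X₃) := by
  obtain ⟨p1, p2⟩ := preserves_TL (KRRRegH9.isFinLocFree_twistOver n Y ((p + 1 : ℕ) : ℤ))
  haveI := p1
  haveI := p2
  have hS' : (S.map (TL (Twist.twistOver n Y ((p + 1 : ℕ) : ℤ)))).ShortExact :=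
    hS.map_of_exact _
  have k1 : Rm n Y m (S.map (TL (Twist.twistOver n Y ((p + 1 : ℕ) : ℤ)))).X₁ := by
    rw [ShortComplex.map_X₁, ← KRRRegH9.twF_eq]
    exact Rm_twF _ h₁ (p + 1) m (by omega)
  have k2 : Rm n Y m (S.map (TL (Twist.twistOver n Y ((p + 1 : ℕ) : ℤ)))).X₂ := by
    rw [ShortComplex.map_X₂, ← KRRRegH9.twF_eq]
    exact Rm_twF _ h₂ (p + 1) m (by omega)
  have k3 : Rm n Y m (S.map (TL (Twist.twistOver n Y ((p + 1 : ℕ) : ℤ)))).X₃ := by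
    rw [ShortComplex.map_X₃, ← KRRRegH9.twF_eq]
    exact Rm_twF _ h₃ (p + 1) m (by omega)
  have h := clSub_ses (Rm n Y m) _ hS' k1 k2 k3
  rw [ShortComplex.map_X₁, ShortComplex.map_X₂, ShortComplex.map_X₃, ← KRRRegH9.twF_eq,
    ← KRRRegH9.twF_eq, ← KRRRegH9.twF_eq] at h
  exact h

theorem rhoFun_add (S : ShortComplex (KRR.PY n Y).Modules) (hS : S.ShortExact)
    (h₁ : Rm n Y (m + 1) S.X₁) (h₂ : Rm n Y (m + 1) S.X₂) (h₃ : Rm n Y (m + 1) S.X₃) :
    rhoFun m S.X₂ = rhoFun m S.X₁ + rhoFun m S.X₃ := by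
  unfold rhoFun
  rw [← neg_add, ← Finset.sum_add_distrib]
  congr 1
  refine Finset.sum_congr rfl (fun p _ => ?_)
  rw [clSub_twF_add m S hS h₁ h₂ h₃ p, smul_add, smul_add]

/-- the inverse of `K₀(R_m) → K₀(R_{m+1})` -/
noncomputable def rho : K0sub (Rm n Y (m + 1)) →+ K0sub (Rm n Y m) :=
  liftSub (Rm n Y (m + 1)) (rhoFun m) (rhoFun_add m)

theorem rho_cl (F : (KRR.PY n Y).Modules) (hF : Rm n Y (m + 1) F) :
    rho m (clSub (Rm n Y (m + 1)) F) = rhoFun m F :=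
  liftSub_clSub _ _ _ F hF

theorem rho_inc : (rho (n := n) (Y := Y) m).comp (inc (Rm n Y m) (Rm n Y (m + 1)) (Rm_mono m)) =
    AddMonoidHom.id _ :=
  homSub_ext (Rm n Y m) _ _ (fun F hF => by
    rw [AddMonoidHom.comp_apply, inc_cl _ _ _ F hF, rho_cl m F (Rm_mono m F hF),
      AddMonoidHom.id_apply]
    exact (cl_eq_neg_sum F hF).symm)

theorem inc_rho : (inc (Rm n Y m) (Rm n Y (m + 1)) (Rm_mono m)).comp (rho m) =
    AddMonoidHom.id _ :=
  homSub_ext (Rm n Y (m + 1)) _ _ (fun F hF => by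
    rw [AddMonoidHom.comp_apply, rho_cl m F hF, AddMonoidHom.id_apply]
    unfold rhoFun
    rw [map_neg, map_sum, cl_eq_neg_sum F hF]
    congr 1
    refine Finset.sum_congr rfl (fun p _ => ?_)
    rw [map_zsmul, map_nsmul, inc_cl _ _ _ _ (Rm_twF F hF (p + 1) m (by omega))])

theorem step_bijective :
    Function.Bijective (inc (Rm n Y m) (Rm n Y (m + 1)) (Rm_mono m)) :=
  ⟨Function.LeftInverse.injective (g := rho m) (fun x => DFunLike.congr_fun (rho_inc m) x),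
    Function.RightInverse.surjective (g := rho m) (fun y => DFunLike.congr_fun (inc_rho m) y)⟩

end Rho

section Main

variable (n : ℕ) (Y : Scheme.{u}) [IsNoetherian Y]

theorem exists_Rm (F : (KRR.PY n Y).Modules) (hF : FlatMod.IsFinLocFree F) :
    ∃ m, Rm n Y m F := by
  haveI : IsProper (KRR.pr n Y) := Groth.Agent.Lib.ProjSpaceProperH4.isProper_toBase n Y
  haveI : IsLocallyNoetherian (KRR.PY n Y) :=
    LocallyOfFiniteType.isLocallyNoetherian (KRR.pr n Y)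
  have hcoh : Coh.IsCoh F := KerFreeH8.isCoh_of_finLocFree hF
  obtain ⟨m₀, hm₀⟩ := exists_isRegSheaf_twF n Y F hcoh
  exact ⟨m₀, hF, hm₀ m₀ le_rfl⟩

theorem inc_Rm_zero_bijective :
    Function.Bijective (inc (Rm n Y 0) (KRR.vbP (KRR.PY n Y)) (Rm_le_vb 0)) :=
  Groth.Agent.K0Union.inc_bijective_of_union' (Rm n Y) (KRR.vbP (KRR.PY n Y))
    (fun m => Rm_mono m) (fun m => Rm_le_vb m) (fun F hF => exists_Rm n Y F hF)
    (fun m => step_bijective m)

/-- **S3758** -/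
theorem main3758
    (h : ∀ M : (KRR.PY n Y).Modules, FlatMod.IsFinLocFree M ∧ KRR.IsRegSheaf n Y M →
      FlatMod.IsFinLocFree M) :
    Function.Bijective (SGA6.mapSub (𝟭 (KRR.PY n Y).Modules)
      (fun M : (KRR.PY n Y).Modules => FlatMod.IsFinLocFree M ∧ KRR.IsRegSheaf n Y M)
      (KRR.vbP (KRR.PY n Y)) h) := by
  rw [Groth.Agent.K0Union.mapSub_id_eq_inc]
  have h1 : (fun M : (KRR.PY n Y).Modules => FlatMod.IsFinLocFree M ∧ KRR.IsRegSheaf n Y M) ≤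
      Rm n Y 0 := by
    intro F hF
    obtain ⟨e⟩ := KRRRegH9.twF_zero n Y F
    exact ⟨hF.1, isRegSheaf_of_iso e.symm hF.2⟩
  have h2 : Rm n Y 0 ≤
      (fun M : (KRR.PY n Y).Modules => FlatMod.IsFinLocFree M ∧ KRR.IsRegSheaf n Y M) := by
    intro F hF
    obtain ⟨e⟩ := KRRRegH9.twF_zero n Y F
    exact ⟨hF.1, isRegSheaf_of_iso e hF.2⟩
  have e : (⇑(inc (Rm n Y 0) (KRR.vbP (KRR.PY n Y)) (Rm_le_vb 0)) ∘
      ⇑(inc (fun M : (KRR.PY n Y).Modules => FlatMod.IsFinLocFree M ∧ KRR.IsRegSheaf n Y M)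
        (Rm n Y 0) h1)) =
      ⇑(inc (fun M : (KRR.PY n Y).Modules => FlatMod.IsFinLocFree M ∧ KRR.IsRegSheaf n Y M)
        (KRR.vbP (KRR.PY n Y)) h) := by
    funext x
    exact inc_comp_apply _ _ _ _ _ x
  rw [← e]
  exact (inc_Rm_zero_bijective n Y).comp (inc_bij_of_le _ _ h1 h2)

end Main

end Groth.Agent.KRRKos
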