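import Mathlib
import Groth.Prelude
import Groth.Agent.Lib.KRRKos7_helper9
import Groth.Agent.Lib.KRRK01_helper9

/-!
# Existence and uniqueness of the push-forward `p_K : K(P^n_Y) → K(Y)` (helper9)
APPEND-ONLY once landed.
-/

set_option autoImplicit false
set_option linter.style.haveILetI false
set_option linter.unusedSectionVars false

universe u v

open CategoryTheory CategoryTheory.Limits AlgebraicGeometry Opposite KZero

namespace Groth.Agent.KRRKos

open Groth.Agent.Lib.AmpleK Groth.Agent.Lib.KZeroH4 Groth.Agent.Lib.ResolK0H4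

section Push

variable (n : ℕ) (Y : Scheme.{u})

/-- `p_*` is exact on short exact sequences whose kernel is a regular bundle -/
theorem shortExact_push_of_reg (T : ShortComplex (KRR.PY n Y).Modules) (hT : T.ShortExact)
    (h₁ : FlatMod.IsFinLocFree T.X₁) (hreg₁ : KRR.IsRegSheaf n Y T.X₁) :
    (T.map (Scheme.Modules.pushforward (KRR.pr n Y))).ShortExact := by
  haveI : HasInjectiveResolutions (KRR.PY n Y).Modules :=
    haveI := RpushQC.enoughInjectives_modules (KRR.PY n Y)
    inferInstance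
  haveI : T.X₁.IsQuasicoherent := FLFH8.isQuasicoherent_of_finLocFree _ h₁
  have hz : IsZero (((Scheme.Modules.pushforward (KRR.pr n Y)).rightDerived 1).obj T.X₁) :=
    (RelAmpleCrit.isZero_Rpush_iff (KRR.pr n Y) 1 T.X₁).mpr
      (KRRRegH9.isZero_Rpush_of_isRegSheaf n Y T.X₁ ‹T.X₁.IsQuasicoherent› hreg₁ 1 le_rfl)
  have h := (Functor.preservesFiniteLimits_iff_forall_exact_map_and_mono
    (Scheme.Modules.pushforward (KRR.pr n Y))).mp inferInstance _ hT
  exact
    { exact := h.1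
      mono_f := h.2
      epi_g := KRRK0.epi_map_g_of_isZero (Scheme.Modules.pushforward (KRR.pr n Y)) _ hT hz }

/-- the class of regular bundles -/
def Qreg : ObjectProperty (KRR.PY n Y).Modules :=
  fun M => FlatMod.IsFinLocFree M ∧ KRR.IsRegSheaf n Y M

/-- `[F] ↦ [p_* F]` on `K₀` of the regular bundles -/
noncomputable def push₀ : K0sub (Qreg n Y) →+ SGA6.Kvb Y :=
  liftSub (Qreg n Y) (fun F => KRR.cl Y ((Scheme.Modules.pushforward (KRR.pr n Y)).obj F))
    (fun S hS h₁ h₂ h₃ =>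
      cl_ses (S.map (Scheme.Modules.pushforward (KRR.pr n Y)))
        (shortExact_push_of_reg n Y S hS h₁.1 h₁.2)
        (KRRBC.main3756 n Y _ h₁.1 h₁.2) (KRRBC.main3756 n Y _ h₂.1 h₂.2)
        (KRRBC.main3756 n Y _ h₃.1 h₃.2))

theorem push₀_cl (F : (KRR.PY n Y).Modules) (hF : FlatMod.IsFinLocFree F)
    (hreg : KRR.IsRegSheaf n Y F) :
    push₀ n Y (clSub (Qreg n Y) F) =
      KRR.cl Y ((Scheme.Modules.pushforward (KRR.pr n Y)).obj F) :=
  liftSub_clSub _ _ _ F ⟨hF, hreg⟩

variable [IsNoetherian Y]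

theorem inc_Qreg_bijective :
    Function.Bijective (inc (Qreg n Y) (KRR.vbP (KRR.PY n Y)) (fun _ h => h.1)) := by
  have := main3758 n Y (fun _ h => h.1)
  rw [Groth.Agent.K0Union.mapSub_id_eq_inc] at this
  exact this

/-- **S3798** -/
theorem main3798 {KP KY : Type v} [CommRing KP] [CommRing KY]
    (φP : SGA6.Kvb (KRR.PY n Y) →+ KP) (hP : Function.Bijective φP) (φY : SGA6.Kvb Y →+ KY) :
    ∃! g : KP →+ KY, KRR.IsPushPr n Y φP φY g := by
  let ιe := AddEquiv.ofBijective (inc (Qreg n Y) (KRR.vbP (KRR.PY n Y)) (fun _ h => h.1))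
    (inc_Qreg_bijective n Y)
  let φe := AddEquiv.ofBijective φP hP
  let g : KP →+ KY := φY.comp ((push₀ n Y).comp
    (ιe.symm.toAddMonoidHom.comp φe.symm.toAddMonoidHom))
  have hg : KRR.IsPushPr n Y φP φY g := by
    intro F hF hreg
    show φY (push₀ n Y (ιe.symm (φe.symm (φP (KRR.cl (KRR.PY n Y) F))))) = _
    have e1 : φe.symm (φP (KRR.cl (KRR.PY n Y) F)) = KRR.cl (KRR.PY n Y) F :=
      φe.symm_apply_apply _
    have e2 : ιe.symm (KRR.cl (KRR.PY n Y) F) = clSub (Qreg n Y) F := by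
      rw [AddEquiv.symm_apply_eq]
      exact (inc_cl (Qreg n Y) (KRR.vbP (KRR.PY n Y)) (fun _ h => h.1) F ⟨hF, hreg⟩).symm
    rw [e1, e2, push₀_cl n Y F hF hreg]
  refine ⟨g, hg, fun g' hg' => ?_⟩
  have key := hom_ext_reg (g'.comp φP) (g.comp φP) (fun F hF hreg => by
    rw [AddMonoidHom.comp_apply, AddMonoidHom.comp_apply, hg' F hF hreg, hg F hF hreg])
  refine AddMonoidHom.ext (fun z => ?_)
  obtain ⟨z', rfl⟩ := hP.2 z
  exact DFunLike.congr_fun key z'

end Push

end Groth.Agent.KRRKos
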