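import Mathlib
import Groth.Prelude
import Groth.Agent.Lib.KRRReg3_helper9
import Groth.Agent.Lib.ProperFin2_helper9
import Groth.Agent.Lib.GGFin1_helper9
import Groth.Agent.Lib.StalkSky2_lead
import Groth.Agent.Lib.ProjSmooth_helper4
import Groth.Agent.Lib.PB9_helper8
import Groth.Agent.Lib.DegPull1_helper9
import Groth.Agent.Lib.CMMul1_helper9
import Groth.Agent.Lib.ConsMod1_helper2

/-!
# Pullbacks from the base are regular on `P^n_T` (helper9)

For a coherent module `G` on a Noetherian scheme `T`, the pullback `p^* G` to `P^n_T` is regular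
(in the sense of Castelnuovo–Mumford, relative to `p`).
APPEND-ONLY once landed.
-/

set_option autoImplicit false
universe u
open AlgebraicGeometry CategoryTheory CategoryTheory.Limits TopologicalSpace Opposite

namespace KRRPull

open Groth.Agent.ProjTens Groth.Agent.TensInv Groth.Agent.ProjFin Groth.Agent.ProjCech
  Groth.Agent.HHVan CohB1

section Affine

variable (A : Type u) [CommRing A]

/-- quasi-coherent modules on an affine scheme `Spec R` are globally generated -/
theorem gg_spec' (R : CommRingCat.{u}) (H : (Spec R).Modules) [H.IsQuasicoherent] :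
    Curv2.IsGloballyGenerated H := by
  haveI : IsIso H.fromTildeΓ := inferInstance
  let P := presentationTilde.{u} ((modulesSpecToSheaf.obj H).presheaf.obj (.op ⊤))
    Set.univ (by simp) _ (Submodule.span_eq _)
  have h1 : IsIso H.fromTildeΓ := inferInstance
  have h2 : Epi H.fromTildeΓ := @IsIso.epi_of_iso _ _ _ _ _ h1
  have h3 : Epi P.generators.π := P.generators.epi
  exact ⟨P.generators.I, P.generators.π ≫ H.fromTildeΓ, @epi_comp _ _ _ _ _ _ h3 _ h2⟩

theorem gg_spec (H : (Spec (CommRingCat.of A)).Modules) [H.IsQuasicoherent] :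
    Curv2.IsGloballyGenerated H := gg_spec' (CommRingCat.of A) H

theorem exists_fin_epi_spec (H : (Spec (CommRingCat.of A)).Modules) (hH : Coh.IsCoh H) :
    ∃ (N : ℕ) (φ : FlatMod.freeMod (Spec (CommRingCat.of A)) N ⟶ H), Epi φ := by
  haveI := hH.1
  haveI := hH.2
  exact GGFin.exists_fin_epi H (gg_spec A H)

end Affine

section Pn

variable (n : ℕ) (A : Type u) [CommRing A]

/-- `(π^* O^N)(d) ≅ ∐_N O(d)` -/
theorem nonempty_pull_free_twist (N : ℕ) (d : ℤ) :
    Nonempty (CohB1.tensorMod ((Scheme.Modules.pullback (ProjSpace.toSpec n A)).obj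
        (FlatMod.freeMod (Spec (CommRingCat.of A)) N)) (OO n A d) ≅
      ∐ fun _ : Fin N => OO n A d) := by
  haveI := isEquivalence_tR_twist n A d
  have e := PreservesCoproduct.iso (tR (OO n A d))
    (fun _ : Fin N => Coh.structureModule (CohB1.ProjSpace n A))
  have e' : (∐ fun _ : Fin N => (tR (OO n A d)).obj (Coh.structureModule (CohB1.ProjSpace n A))) ≅
      ∐ fun _ : Fin N => OO n A d :=
    Sigma.mapIso (fun _ => Groth.Agent.CMMul.unitorL (OO n A d))
  exact ⟨(tR (OO n A d)).mapIso (PBH8.pullbackFreeIso (ProjSpace.toSpec n A) N) ≪≫ e ≪≫ e'⟩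

/-- `H^i(P^n_A, (π^* H)(d)) = 0` for `i ≥ 1`, `d ≥ -n` and `H` coherent on `Spec A`. -/
theorem subsingleton_HH_pull_aux [IsNoetherianRing A] (d : ℤ) (hd : -(n : ℤ) ≤ d) :
    ∀ (j i : ℕ), 1 ≤ i → n + 1 ≤ i + j →
      ∀ (H : (Spec (CommRingCat.of A)).Modules), Coh.IsCoh H →
      Subsingleton (Coh.HH (CohB1.ProjSpace n A)
        (CohB1.tensorMod ((Scheme.Modules.pullback (ProjSpace.toSpec n A)).obj H) (OO n A d)) i) := by
  haveI : Smooth (ProjSpace.toSpec n A) := Groth.Agent.Lib.ProjSmoothH4.smooth_toSpec n A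
  haveI : Flat (ProjSpace.toSpec n A) := inferInstance
  haveI : IsNoetherian (Spec (CommRingCat.of A)) := inferInstance
  intro j
  induction j with
  | zero =>
    intro i _ hi H hH
    haveI : H.IsQuasicoherent := hH.1
    haveI : ((Scheme.Modules.pullback (ProjSpace.toSpec n A)).obj H).IsQuasicoherent :=
      PBH8.isQuasicoherent_pullback _ H
    haveI : Coh.IsQCoh (CohB1.tensorMod ((Scheme.Modules.pullback (ProjSpace.toSpec n A)).obj H)
        (OO n A d)) := ProperFinH9.isQuasicoherent_tw n A _ d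
    exact Groth.Agent.S0022.result n A _ i (by omega)
  | succ j ih =>
    intro i hi1 hi H hH
    obtain ⟨N, φ, hφ⟩ := exists_fin_epi_spec A H hH
    have hE : Coh.IsCoh (FlatMod.freeMod (Spec (CommRingCat.of A)) N) :=
      DegPull.isCoh_freeMod N
    have hK := CohKerH8.isCoh_kernel hE hH φ
    let S : ShortComplex (Spec (CommRingCat.of A)).Modules :=
      ShortComplex.mk (kernel.ι φ) φ (kernel.condition φ)
    have hS : S.ShortExact :=
      { exact := ShortComplex.exact_of_f_is_kernel _ (kernelIsKernel φ)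
        mono_f := inferInstanceAs (Mono (kernel.ι φ))
        epi_g := hφ }
    haveI := Groth.Agent.Lib.StalkSkyL.preservesFiniteLimits_pullback_of_flat
      (ProjSpace.toSpec n A)
    have hS1 : (S.map (Scheme.Modules.pullback (ProjSpace.toSpec n A))).ShortExact :=
      hS.map_of_exact _
    have hS2 := shortExact_twist n A _ hS1 d
    refine ProperFinH9.subsingleton_HH_X₃ _ hS2 i ?_ ?_
    · obtain ⟨e⟩ := nonempty_pull_free_twist n A N d
      have h0 : Subsingleton (Coh.HH (CohB1.ProjSpace n A) (OO n A d) i) :=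
        Groth.Agent.S0844.result A n d i (by omega) (by omega)
      exact subsingleton_of_iso e.symm i (ProperFinH9.subsingleton_HH_sigma (OO n A d) N i h0)
    · exact ih (i + 1) (by omega) (by omega) _ hK

theorem subsingleton_HH_pull [IsNoetherianRing A] (d : ℤ) (hd : -(n : ℤ) ≤ d) (i : ℕ) (hi : 1 ≤ i)
    (H : (Spec (CommRingCat.of A)).Modules) (hH : Coh.IsCoh H) :
    Subsingleton (Coh.HH (CohB1.ProjSpace n A)
      (CohB1.tensorMod ((Scheme.Modules.pullback (ProjSpace.toSpec n A)).obj H) (OO n A d)) i) :=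
  subsingleton_HH_pull_aux n A d hd (n + 1) i hi (by omega) H hH

end Pn

end KRRPull

namespace KRRPull

open Groth.Agent.ProjTens Groth.Agent.TensInv Groth.Agent.HHVan CohB1 Groth.Agent.PnOver

section Global

variable (n : ℕ) (T : Scheme.{u})

/-- **the pullback of a coherent module on a Noetherian base to `P^n_T` is regular** -/
theorem isRegSheaf_pullback_of_isCoh [IsNoetherian T] (G : T.Modules) (hG : Coh.IsCoh G) :
    KRR.IsRegSheaf n T ((Scheme.Modules.pullback (KRR.pr n T)).obj G) := by
  intro i hi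
  obtain ⟨j, rfl⟩ := Nat.exists_eq_succ_of_ne_zero (Nat.pos_iff_ne_zero.mp hi)
  refine RpushVanish.isZero_Rpush_succ_of_basis (KRR.pr n T).base
    (Coh.toAb (KRR.twF n T (-((j + 1 : ℕ) : ℤ)) ((Scheme.Modules.pullback (KRR.pr n T)).obj G)))
    j (fun W => IsAffineOpen (X := T) W) (PnOverVanH9.affine_basis T) ?_
  intro V hV
  rw [KRRRegH9.ext_vanish_iff n V hV _ _ (j + 1)]
  haveI : G.IsQuasicoherent := hG.1
  haveI : ((Scheme.Modules.pullback (KRR.pr n T)).obj G).IsQuasicoherent :=
    PBH8.isQuasicoherent_pullback _ G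
  by_cases hjn : j + 1 ≤ n
  · let e : ((Scheme.Modules.pullback (KRR.pr n T)).obj G).restrict (sigma n V hV) ≅
        (Scheme.Modules.pullback (ProjSpace.toSpec n Γ(T, V))).obj
          ((Scheme.Modules.pullback hV.fromSpec).obj G) :=
      (Scheme.Modules.restrictFunctorIsoPullback (sigma n V hV)).app _ ≪≫
        (Scheme.Modules.pullbackComp (sigma n V hV) (KRR.pr n T)).app G ≪≫
        (Scheme.Modules.pullbackCongr (sigma_toBase n V hV)).app G ≪≫
        ((Scheme.Modules.pullbackComp (ProjSpace.toSpec n Γ(T, V)) hV.fromSpec).app G).symm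
    have hH : Coh.IsCoh ((Scheme.Modules.pullback hV.fromSpec).obj G) :=
      Groth.Agent.Lib.ConsModH2.isCoh_pullback _ _ hG
    haveI : IsNoetherianRing Γ(T, V) := IsLocallyNoetherian.component_noetherian ⟨V, hV⟩
    have h := subsingleton_HH_pull n Γ(T, V) (-((j + 1 : ℕ) : ℤ)) (by omega) (j + 1) (by omega)
      _ hH
    exact subsingleton_of_iso (mapR e.symm _) (j + 1) h
  · haveI : (((Scheme.Modules.pullback (KRR.pr n T)).obj G).restrict
        (sigma n V hV)).IsQuasicoherent := inferInstance
    haveI : Coh.IsQCoh (CohB1.tensorMod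
        (((Scheme.Modules.pullback (KRR.pr n T)).obj G).restrict (sigma n V hV))
        (OO n Γ(T, V) (-((j + 1 : ℕ) : ℤ)))) := ProperFinH9.isQuasicoherent_tw n Γ(T, V) _ _
    exact Groth.Agent.S0022.result n Γ(T, V) _ (j + 1) (by omega)

end Global

end KRRPull
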