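import Mathlib
import Groth.Prelude
import Groth.Agent.Lib.KRRPull1_helper9
import Groth.Agent.Lib.GEx10_helper2
import Groth.Agent.S19429
import Groth.Agent.S19433

/-!
# The kernel of `p^* p_* F ⟶ F` for a regular coherent `F` on `P^n_Y` (helper9)

APPEND-ONLY once landed.
-/

set_option autoImplicit false
universe u
open AlgebraicGeometry CategoryTheory CategoryTheory.Limits TopologicalSpace Opposite

namespace KRRPull

section Main

variable (n : ℕ) (Y : Scheme.{u})

/-- **S3755** -/
theorem main3755 [IsNoetherian Y] (F : (KRR.PY n Y).Modules) (hF : Coh.IsCoh F)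
    (hreg : KRR.IsRegSheaf n Y F) :
    Epi ((Scheme.Modules.pullbackPushforwardAdjunction (KRR.pr n Y)).counit.app F) ∧
    KRR.IsRegSheaf n Y (KRR.twF n Y 1
      (kernel ((Scheme.Modules.pullbackPushforwardAdjunction (KRR.pr n Y)).counit.app F))) := by
  haveI : IsProper (KRR.pr n Y) := Groth.Agent.Lib.ProjSpaceProperH4.isProper_toBase n Y
  haveI : IsLocallyNoetherian (KRR.PY n Y) :=
    LocallyOfFiniteType.isLocallyNoetherian (KRR.pr n Y)
  have hepi := Groth.Agent.S19429.result n Y F hF.1 hreg
  refine ⟨hepi, ?_⟩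
  have hG : Coh.IsCoh ((Scheme.Modules.pushforward (KRR.pr n Y)).obj F) :=
    Groth.Agent.Lib.GExH2.isCoh_pushforward (KRR.pr n Y) hF
  have hPG : Coh.IsCoh ((Scheme.Modules.pullback (KRR.pr n Y)).obj
      ((Scheme.Modules.pushforward (KRR.pr n Y)).obj F)) :=
    Groth.Agent.Lib.ConsModH2.isCoh_pullback _ _ hG
  have hK := CohKerH8.isCoh_kernel hPG hF
    ((Scheme.Modules.pullbackPushforwardAdjunction (KRR.pr n Y)).counit.app F)
  let S : ShortComplex (KRR.PY n Y).Modules :=
    ShortComplex.mk
      (kernel.ι ((Scheme.Modules.pullbackPushforwardAdjunction (KRR.pr n Y)).counit.app F))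
      ((Scheme.Modules.pullbackPushforwardAdjunction (KRR.pr n Y)).counit.app F)
      (kernel.condition _)
  have hS : S.ShortExact :=
    { exact := ShortComplex.exact_of_f_is_kernel _ (kernelIsKernel _)
      mono_f := inferInstanceAs (Mono (kernel.ι _))
      epi_g := hepi }
  have hreg₂ : KRR.IsRegSheaf n Y (KRR.twF n Y 1 S.X₂) := by
    have h := KRRRegH9.isRegSheaf_twF_of_isQCoh n Y _ hPG.1
      (isRegSheaf_pullback_of_isCoh n Y _ hG) 1
    rwa [Nat.cast_one] at h
  have hepi' : Epi ((Scheme.Modules.pushforward (KRR.pr n Y)).map S.g) := by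
    have h1 : (Scheme.Modules.pullbackPushforwardAdjunction (KRR.pr n Y)).unit.app
        ((Scheme.Modules.pushforward (KRR.pr n Y)).obj F) ≫
        (Scheme.Modules.pushforward (KRR.pr n Y)).map
          ((Scheme.Modules.pullbackPushforwardAdjunction (KRR.pr n Y)).counit.app F) = 𝟙 _ :=
      (Scheme.Modules.pullbackPushforwardAdjunction (KRR.pr n Y)).right_triangle_components F
    exact (IsSplitEpi.mk' ⟨_, h1⟩ : IsSplitEpi ((Scheme.Modules.pushforward (KRR.pr n Y)).map
      ((Scheme.Modules.pullbackPushforwardAdjunction (KRR.pr n Y)).counit.app F))).epi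
  exact Groth.Agent.S19433.result n Y S hS hK.1 hPG.1 hF.1 hreg₂ hreg hepi'

end Main

end KRRPull
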