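import Mathlib
import Groth.Prelude
import Groth.Agent.Lib.KRRRes7_helper9
import Groth.Agent.Lib.PForm3_helper9
import Groth.Agent.Lib.ResProp3_lead
import Groth.Agent.Lib.PB9_helper8

/-!
# The projection formula `f_K (x · f^K y) = f_K x · y` for regular closed immersions (helper9)

* `P1_map_of_exact` : an exact functor carrying bundles to modules with bounded projective dimension of
  sections carries `P1 Y` into `P1 Z`;
* `pushCl_mul_pull_cl`, `main3747`.
APPEND-ONLY once landed.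
-/

set_option autoImplicit false
set_option linter.style.haveILetI false
set_option linter.unusedSectionVars false

universe v w u

open CategoryTheory CategoryTheory.Limits AlgebraicGeometry TopologicalSpace Opposite ZeroObject

namespace Groth.Agent.KRRRes

open KZero Groth.Agent.Lib.KZeroH4 Groth.Agent.Lib.ResolK0H4 PFormH9

lemma P1_map_of_exact {Y Z : Scheme.{u}} [IsNoetherian Y] [IsNoetherian Z]
    (hZe : KRR.HasEnoughLocFree Z) (Φ : Y.Modules ⥤ Z.Modules) [Φ.Additive]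
    [PreservesFiniteLimits Φ] [PreservesFiniteColimits Φ]
    (hΦ : ∀ F : Y.Modules, FlatMod.IsFinLocFree F → ∃ d, Q d (Φ.obj F))
    (M : Y.Modules) (hM : P1 Y M) : P1 Z (Φ.obj M) := by
  obtain ⟨hMc, n, L, π, h⟩ := hM
  haveI := h.quasiIso
  obtain ⟨hε, h0, hepi, hex⟩ := of_quasiIso L M π
  let E := LES.ofComplex L (π.f 0) hε h0 hepi hex
  let T := E.tower (KRR.vbP Y) (fun i => h.finLocFree i)
  have hz : ∀ i, n < i → IsZero (T.L i) := fun i hi => h.isZero i hi
  have hzK : ∀ i, n < i → IsZero (T.K i) := by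
    intro i hi
    haveI := T.epi i
    exact IsZero.of_epi (T.p i) (hz i hi)
  have key : ∀ j i, i + j = n + 1 → ∃ e, Q e (Φ.obj (T.K i)) := by
    intro j
    induction j with
    | zero =>
      intro i hi
      exact ⟨0, Q_zero_of_vb (Groth.Agent.Lib.AmpleK.isFinLocFree_of_isZero
        (Functor.map_isZero Φ (hzK i (by omega))))⟩
    | succ j ih =>
      intro i hi
      obtain ⟨e, he⟩ := ih (i + 1) (by omega)
      obtain ⟨d, hd⟩ := hΦ (T.L i) (T.hL i)
      have hS := (T.shortExact i).map_of_exact Φ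
      exact ⟨max e d + 1, Q_X₃' _ hS (max e d) (he.mono (le_max_left _ _))
        (hd.mono (le_max_right _ _))⟩
  obtain ⟨e, he⟩ := key (n + 1) 0 (by omega)
  exact P1_of_Q hZe he

section Proj

variable {X Y : Scheme.{u}} (f : X ⟶ Y) (hf : Mor2.IsRegularClosedImmersion f)
  [IsNoetherian Y] (hYe : KRR.HasEnoughLocFree Y)
include hf hYe

theorem pushCl_mul_pull_cl {KX : Type v} {KY : Type w} [CommRing KX] [CommRing KY]
    (φX : SGA6.Kvb X →+ KX) (φY : SGA6.Kvb Y →+ KY)
    (hmulX : ∀ E F : X.Modules, FlatMod.IsFinLocFree E → FlatMod.IsFinLocFree F →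
      φX (KRR.cl X E) * φX (KRR.cl X F) = φX (KRR.cl X (((DCoh.tensorBi (X := X)).obj E).obj F)))
    (hmulY : ∀ E F : Y.Modules, FlatMod.IsFinLocFree E → FlatMod.IsFinLocFree F →
      φY (KRR.cl Y E) * φY (KRR.cl Y F) = φY (KRR.cl Y (((DCoh.tensorBi (X := Y)).obj E).obj F)))
    (g : KY →+ KX) (hg : KRR.IsPull f φY φX g) (h : KX →+ KY) (hh : KRR.IsPushCl f φX φY h)
    (F : X.Modules) (hF : FlatMod.IsFinLocFree F) (E : Y.Modules) (hE : FlatMod.IsFinLocFree E) :
    h (φX (KRR.cl X F) * g (φY (KRR.cl Y E))) = h (φX (KRR.cl X F)) * φY (KRR.cl Y E) := by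
  haveI : IsClosedImmersion f := hf.1
  have hfE : FlatMod.IsFinLocFree ((Scheme.Modules.pullback f).obj E) :=
    PBH8.isFinLocFree_pullback f hE
  have hT : FlatMod.IsFinLocFree ((TL ((Scheme.Modules.pullback f).obj E)).obj F) :=
    Groth.Agent.Lib.ResPropL.isFinLocFree_tensorMod hfE hF
  have hEL : ∀ G : Y.Modules, FlatMod.IsFinLocFree G → FlatMod.IsFinLocFree ((TL E).obj G) :=
    fun G hG => Groth.Agent.Lib.ResPropL.isFinLocFree_tensorMod hE hG
  obtain ⟨p1, p2⟩ := preserves_TL hE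
  haveI := p1
  haveI := p2
  -- resolutions
  have hfT := P1_push f hf hYe _ hT
  obtain ⟨n', L', π', hL'⟩ := hfT.2
  have hfF := P1_push f hf hYe F hF
  obtain ⟨m, L, ρ, hL⟩ := hfF.2
  let η' : SGA6.Kvb Y := ∑ k ∈ Finset.range (n' + 1), (-1 : ℤ) ^ k • KRR.cl Y (L'.X k)
  let η : SGA6.Kvb Y := ∑ j ∈ Finset.range (m + 1), (-1 : ℤ) ^ j • KRR.cl Y ((TL E).obj (L.X j))
  -- left-hand side
  have hl : h (φX (KRR.cl X F) * g (φY (KRR.cl Y E))) = φY η' := by
    rw [hg E hE, mul_comm, hmulX _ _ hfE hF]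
    show h (φX (KRR.cl X ((TL ((Scheme.Modules.pullback f).obj E)).obj F))) = _
    rw [hh _ hT n' L' π' hL', map_sum]
    refine Finset.sum_congr rfl (fun k _ => ?_)
    rw [map_zsmul]
  -- right-hand side
  have hr : h (φX (KRR.cl X F)) * φY (KRR.cl Y E) = φY η := by
    rw [hh F hF m L ρ hL, Finset.sum_mul, map_sum]
    refine Finset.sum_congr rfl (fun j _ => ?_)
    rw [smul_mul_assoc, mul_comm, hmulY _ _ hE (hL.finLocFree j), map_zsmul]
    rfl
  rw [hl, hr]
  congr 1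
  -- compare in `K₀(P1 Y)`
  apply (β_bijective hYe).1
  have hmem : ∀ M : Y.Modules, P1 Y M → P1 Y ((TL E).obj M) :=
    P1_map_of_exact hYe (TL E) (fun G hG => ⟨0, Q_zero_of_vb (hEL G hG)⟩)
  let τ : K0sub (P1 Y) →+ K0sub (P1 Y) := SGA6.mapSub (TL E) (P1 Y) (P1 Y) hmem
  have hτ : ∀ (G : Y.Modules) (hG : P1 Y G), τ (clSub (P1 Y) G) = clSub (P1 Y) ((TL E).obj G) :=
    fun G hG => mapSub_clSub _ _ _ hmem G hG
  have h1 : β hYe η' = clSub (P1 Y) ((Scheme.Modules.pushforward f).obj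
      ((TL ((Scheme.Modules.pullback f).obj E)).obj F)) := β_sum hYe _ hfT.1 hL'
  have h2 : β hYe η = clSub (P1 Y) ((TL E).obj ((Scheme.Modules.pushforward f).obj F)) := by
    rw [← hτ _ hfF, euler_P1 hYe _ hfF.1 hL, map_sum, map_sum]
    refine Finset.sum_congr rfl (fun j _ => ?_)
    rw [map_zsmul, map_zsmul, β_cl hYe _ (hEL _ (hL.finLocFree j)),
      hτ _ (P1_of_vb hYe _ (hL.finLocFree j))]
  rw [h1, h2]
  exact (clSub_iso' (P1 Y) (P1_of_isZero hYe) ((projIso f E hE).app F) (hmem _ hfF) hfT).symm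

end Proj

/-- S3747 -/
theorem main3747 {X Y : Scheme.{u}} (f : X ⟶ Y) (hf : Mor2.IsRegularClosedImmersion f)
    [IsNoetherian Y] (hYe : KRR.HasEnoughLocFree Y)
    {KX : Type v} {KY : Type w} [CommRing KX] [CommRing KY]
    (φX : SGA6.Kvb X →+ KX) (φY : SGA6.Kvb Y →+ KY)
    (hφX : Function.Surjective φX) (hφY : Function.Surjective φY)
    (hmulX : ∀ E F : X.Modules, FlatMod.IsFinLocFree E → FlatMod.IsFinLocFree F →
      φX (KRR.cl X E) * φX (KRR.cl X F) = φX (KRR.cl X (((DCoh.tensorBi (X := X)).obj E).obj F)))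
    (hmulY : ∀ E F : Y.Modules, FlatMod.IsFinLocFree E → FlatMod.IsFinLocFree F →
      φY (KRR.cl Y E) * φY (KRR.cl Y F) = φY (KRR.cl Y (((DCoh.tensorBi (X := Y)).obj E).obj F)))
    (g : KY →+ KX) (hg : KRR.IsPull f φY φX g) (h : KX →+ KY) (hh : KRR.IsPushCl f φX φY h)
    (x : KX) (y : KY) : h (x * g y) = h x * y := by
  -- step 1 : `x` the class of a bundle, `y` arbitrary
  have step1 : ∀ (F : X.Modules) (hF : FlatMod.IsFinLocFree F) (y : KY),
      h (φX (KRR.cl X F) * g y) = h (φX (KRR.cl X F)) * y := by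
    intro F hF y
    let A₁ : KY →+ KY := h.comp ((AddMonoidHom.mulLeft (φX (KRR.cl X F))).comp g)
    let A₂ : KY →+ KY := AddMonoidHom.mulLeft (h (φX (KRR.cl X F)))
    have hA : A₁.comp φY = A₂.comp φY := by
      apply homSub_ext (KRR.vbP Y)
      intro E hE
      exact pushCl_mul_pull_cl f hf hYe φX φY hmulX hmulY g hg h hh F hF E hE
    obtain ⟨y', rfl⟩ := hφY y
    exact DFunLike.congr_fun hA y'
  -- step 2 : `x` arbitrary
  let B₁ : KX →+ KY := h.comp (AddMonoidHom.mulRight (g y))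
  let B₂ : KX →+ KY := (AddMonoidHom.mulRight y).comp h
  have hB : B₁.comp φX = B₂.comp φX := by
    apply homSub_ext (KRR.vbP X)
    intro F hF
    exact step1 F hF y
  obtain ⟨x', rfl⟩ := hφX x
  exact DFunLike.congr_fun hB x'

end Groth.Agent.KRRRes
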