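import Mathlib
import Groth.Prelude
import Groth.Agent.Lib.KRRRes8_helper9
import Groth.Agent.Lib.RpushRestrict_helper9
import Groth.Agent.Lib.PullSES1_helper6

/-!
# Pull-backs of `F_K` along morphisms missing the image of `F` (helper9)

* `Tower.mapExact` : the image of a tower under an exact functor;
* `sum_cl_restrict_eq_zero` : off the image of a closed immersion `F`, the alternating sum of the
  restrictions of the terms of a finite locally free resolution of `F_* E` vanishes in `K₀`;
* `pull_pushCl_eq_zero`, `main3750`.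
APPEND-ONLY once landed.
-/

set_option autoImplicit false
set_option linter.style.haveILetI false
set_option linter.unusedSectionVars false

universe v w u

open CategoryTheory CategoryTheory.Limits AlgebraicGeometry TopologicalSpace Opposite ZeroObject

namespace Groth.Agent.KRRRes

open KZero Groth.Agent.Lib.KZeroH4 Groth.Agent.Lib.ResolK0H4

section MapTower

universe v₁ u₁ v₂ u₂

variable {A : Type u₁} [Category.{v₁} A] [Abelian A] {B : Type u₂} [Category.{v₂} B] [Abelian B]

/-- the image of a tower under an exact functor -/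
noncomputable def towerMap {P₀ : ObjectProperty A} (T : Tower P₀) (Φ : A ⥤ B) [Φ.Additive]
    [PreservesFiniteLimits Φ] [PreservesFiniteColimits Φ] (P₀' : ObjectProperty B)
    (hP : ∀ i, P₀' (Φ.obj (T.L i))) : Tower P₀' where
  K i := Φ.obj (T.K i)
  L i := Φ.obj (T.L i)
  p i := Φ.map (T.p i)
  ι i := Φ.map (T.ι i)
  hL := hP
  epi i := ((T.shortExact i).map_of_exact Φ).epi_g
  mono i := ((T.shortExact i).map_of_exact Φ).mono_f
  zero i := by rw [← Φ.map_comp, T.zero, Φ.map_zero]
  exact i := ((T.shortExact i).map_of_exact Φ).exact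

end MapTower

section Compl

variable {P M : Scheme.{u}} (F : P ⟶ M) [IsClosedImmersion F]

/-- the open complement of the image of a closed immersion -/
def complOpen : M.Opens :=
  ⟨(Set.range F)ᶜ, F.isClosedEmbedding.isClosed_range.isOpen_compl⟩

lemma isZero_of_sections' {Z : Scheme.{u}} (G : Z.Modules)
    (h : ∀ (U : Z.Opens) (s : Γ(G, U)), s = 0) : IsZero G := by
  rw [IsZero.iff_id_eq_zero]
  apply Scheme.Modules.hom_ext
  intro U
  ext s
  exact (h U _).trans (h U _).symm

lemma isZero_restrict_push (E : P.Modules) :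
    IsZero ((Scheme.Modules.restrictFunctor (complOpen F).ι).obj
      ((Scheme.Modules.pushforward F).obj E)) := by
  apply isZero_of_sections'
  intro U s
  have hs : ∀ t : Γ(E, F ⁻¹ᵁ ((complOpen F).ι ''ᵁ U)), t = 0 := by
    intro t
    apply QcqsLoc.eq_zero_of_cover
    intro x hx
    obtain ⟨y, -, hy⟩ := hx
    have hy' : (complOpen F).ι y = F x := hy
    exact absurd ⟨x, hy'.symm⟩ y.2
  exact hs s

end Compl

section Vanish

variable {P M : Scheme.{u}} (F : P ⟶ M) (hF : Mor2.IsRegularClosedImmersion F)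
  [IsNoetherian M]

lemma vb_restrict {M : Scheme.{u}} (U : M.Opens) (G : M.Modules) (hG : FlatMod.IsFinLocFree G) :
    FlatMod.IsFinLocFree ((Scheme.Modules.restrictFunctor U.ι).obj G) :=
  FLFH8.IsFinLocFree.of_iso ((Scheme.Modules.restrictFunctorIsoPullback U.ι).app G).symm
    (PBH8.isFinLocFree_pullback U.ι hG)

include hF in
theorem sum_cl_restrict_eq_zero (E : P.Modules) (hE : FlatMod.IsFinLocFree E) {n : ℕ}
    {L : ChainComplex M.Modules ℕ}
    {π : L ⟶ (ChainComplex.single₀ M.Modules).obj ((Scheme.Modules.pushforward F).obj E)}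
    (hL : KRR.IsLFRes ((Scheme.Modules.pushforward F).obj E) n L π) :
    haveI : IsClosedImmersion F := hF.1
    ∑ k ∈ Finset.range (n + 1), (-1 : ℤ) ^ k •
      KRR.cl (complOpen F) ((Scheme.Modules.restrictFunctor (complOpen F).ι).obj (L.X k)) = 0 := by
  haveI : IsClosedImmersion F := hF.1
  haveI := hL.quasiIso
  obtain ⟨hε, h0, hepi, hex⟩ := of_quasiIso L _ π
  let E' := LES.ofComplex L (π.f 0) hε h0 hepi hex
  let T := E'.tower (KRR.vbP M) (fun i => hL.finLocFree i)
  have hz : ∀ i, n < i → IsZero (T.L i) := fun i hi => hL.isZero i hi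
  have hzK : IsZero (T.K (n + 1)) := by
    haveI := T.epi (n + 1)
    exact IsZero.of_epi (T.p (n + 1)) (hz (n + 1) (by omega))
  let U := complOpen F
  haveI : PreservesFiniteLimits (Scheme.Modules.restrictFunctor U.ι) :=
    RpushQC.preservesFiniteLimits_restrictFunctor U
  haveI : PreservesFiniteColimits (Scheme.Modules.restrictFunctor U.ι) := inferInstance
  let T' := towerMap T (Scheme.Modules.restrictFunctor U.ι) (KRR.vbP U)
    (fun i => vb_restrict U _ (T.hL i))
  have hK0 : IsZero (T'.K 0) := isZero_restrict_push F E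
  have hK : ∀ i, KRR.vbP U (T'.K i) := by
    intro i
    induction i with
    | zero => exact Groth.Agent.Lib.AmpleK.isFinLocFree_of_isZero hK0
    | succ i ih =>
      exact Groth.Agent.Lib.AmpleK.isFinLocFree_of_shortExact _ (T'.shortExact i) (T'.hL i) ih
  have h0' : ∀ X : (↑U : Scheme.{u}).Modules, IsZero X → KRR.vbP U X :=
    fun X hX => Groth.Agent.Lib.AmpleK.isFinLocFree_of_isZero hX
  have htel := tower_telescope (KRR.vbP U) T' T'.hL hK (n + 1)
  have hzK' : IsZero (T'.K (n + 1)) :=
    Functor.map_isZero (Scheme.Modules.restrictFunctor U.ι) hzK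
  rw [clSub_isZero' (KRR.vbP U) h0' hK0, clSub_isZero' (KRR.vbP U) h0' hzK', smul_zero,
    add_zero] at htel
  exact htel.symm

end Vanish

section Pull

variable {P M Z : Scheme.{u}} (F : P ⟶ M) (hF : Mor2.IsRegularClosedImmersion F)
  [IsNoetherian M] (hMe : KRR.HasEnoughLocFree M)
include hF hMe

theorem pull_pushCl_eq_zero {KP : Type v} {KM : Type v} {KZ : Type v} [CommRing KP]
    [CommRing KM] [CommRing KZ] (φP : SGA6.Kvb P →+ KP) (hφP : Function.Surjective φP)
    (φM : SGA6.Kvb M →+ KM) (φZ : SGA6.Kvb Z →+ KZ) (h : Z ⟶ M)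
    (hdisj : Disjoint (Set.range h) (Set.range F))
    (gh : KM →+ KZ) (hgh : KRR.IsPull h φM φZ gh)
    (gF : KP →+ KM) (hgF : KRR.IsPushCl F φP φM gF) (p : KP) : gh (gF p) = 0 := by
  haveI : IsClosedImmersion F := hF.1
  let U := complOpen F
  have hrange : Set.range h ⊆ Set.range U.ι := by
    rintro _ ⟨z, rfl⟩
    rw [Scheme.Opens.range_ι]
    intro hz
    exact Set.disjoint_left.mp hdisj ⟨z, rfl⟩ hz
  let h' : Z ⟶ ↑U := IsOpenImmersion.lift U.ι h hrange
  have hfac : h' ≫ U.ι = h := IsOpenImmersion.lift_fac U.ι h hrange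
  have key : ∀ (E : P.Modules) (hE : FlatMod.IsFinLocFree E), gh (gF (φP (KRR.cl P E))) = 0 := by
    intro E hE
    obtain ⟨n, L, π, hL⟩ := (P1_push F hF hMe E hE).2
    rw [hgF E hE n L π hL, map_sum]
    have h1 : ∀ k, gh ((-1 : ℤ) ^ k • φM (KRR.cl M (L.X k))) =
        φZ ((-1 : ℤ) ^ k • Groth.Agent.Lib.PullSES.pullK h'
          (KRR.cl U ((Scheme.Modules.restrictFunctor U.ι).obj (L.X k)))) := by
      intro k
      have hLk := hL.finLocFree k
      rw [map_zsmul, map_zsmul, hgh _ hLk,
        Groth.Agent.Lib.PullSES.pullK_cl h' _ (vb_restrict U _ hLk)]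
      congr 2
      have e : (Scheme.Modules.pullback h).obj (L.X k) ≅
          (Scheme.Modules.pullback h').obj ((Scheme.Modules.restrictFunctor U.ι).obj (L.X k)) :=
        (Scheme.Modules.pullbackCongr hfac.symm).app (L.X k) ≪≫
          ((Scheme.Modules.pullbackComp h' U.ι).app (L.X k)).symm ≪≫
          (Scheme.Modules.pullback h').mapIso
            ((Scheme.Modules.restrictFunctorIsoPullback U.ι).app (L.X k)).symm
      exact Groth.Agent.Lib.AmpleK.cl_iso e (PBH8.isFinLocFree_pullback h hLk)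
    rw [Finset.sum_congr rfl (fun k _ => h1 k), ← map_sum]
    have h2 : ∑ k ∈ Finset.range (n + 1), (-1 : ℤ) ^ k • Groth.Agent.Lib.PullSES.pullK h'
        (KRR.cl U ((Scheme.Modules.restrictFunctor U.ι).obj (L.X k))) = 0 := by
      have := congrArg (Groth.Agent.Lib.PullSES.pullK h') (sum_cl_restrict_eq_zero F hF E hE hL)
      rw [map_sum, map_zero] at this
      rw [← this]
      refine Finset.sum_congr rfl (fun k _ => ?_)
      rw [map_zsmul]
    rw [h2, map_zero]
  have hcomp : (gh.comp gF).comp φP = 0 := by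
    apply homSub_ext (KRR.vbP P)
    intro E hE
    exact key E hE
  obtain ⟨p', rfl⟩ := hφP p
  exact DFunLike.congr_fun hcomp p'

end Pull

/-- S3750 -/
theorem main3750 {X Y P M Z : Scheme.{u}} (F : P ⟶ M) (φ : Y ⟶ M) (f : X ⟶ Y) (ψ : X ⟶ P)
    (hsq : IsPullback f ψ φ F) (hF : Mor2.IsRegularClosedImmersion F)
    (k : Z ⟶ Y) (hk : Disjoint (Set.range k) (Set.range f))
    [IsNoetherian M] (hMe : KRR.HasEnoughLocFree M)
    {KP : Type v} {KM : Type v} {KZ : Type v} [CommRing KP] [CommRing KM] [CommRing KZ]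
    (φP : SGA6.Kvb P →+ KP) (hφP : Function.Surjective φP)
    (φM : SGA6.Kvb M →+ KM) (φZ : SGA6.Kvb Z →+ KZ)
    (gh : KM →+ KZ) (hgh : KRR.IsPull (k ≫ φ) φM φZ gh)
    (gF : KP →+ KM) (hgF : KRR.IsPushCl F φP φM gF) (p : KP) : gh (gF p) = 0 := by
  refine pull_pushCl_eq_zero F hF hMe φP hφP φM φZ (k ≫ φ) ?_ gh hgh gF hgF p
  rw [Set.disjoint_left]
  rintro _ ⟨z, rfl⟩ ⟨q, hq⟩
  have hq' : φ (k z) = F q := hq.symm
  obtain ⟨w, hw1, hw2⟩ := Scheme.Pullback.exists_preimage_pullback (f := φ) (g := F) (k z) q hq'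
  have hfst : hsq.isoPullback.inv ≫ f = pullback.fst φ F := hsq.isoPullback_inv_fst
  have : f (hsq.isoPullback.inv w) = k z := by
    rw [← hw1, ← hfst]
    rfl
  exact Set.disjoint_left.mp hk ⟨z, rfl⟩ ⟨_, this⟩

end Groth.Agent.KRRRes
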