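import Mathlib
import Groth.Prelude.Def_KZero2

open CategoryTheory CategoryTheory.Limits CategoryTheory.Pretriangulated

namespace Groth.Agent.Lib.KSwindleH7

universe v u

variable {C : Type u} [Category.{v} C] [Preadditive C] [HasZeroObject C] [HasShift C ℤ]
  [∀ n : ℤ, (shiftFunctor C n).Additive] [Pretriangulated C]

open KZero ZeroObject

lemma cl_dist (T : Triangle C) (hT : T ∈ distTriang C) :
    clTri T.obj₂ = clTri T.obj₁ + clTri T.obj₃ := by
  have hmem : (FreeAbelianGroup.of (⟨T.obj₂, trivial⟩ : Subtype (⊤ : ObjectProperty C))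
      - FreeAbelianGroup.of ⟨T.obj₁, trivial⟩ - FreeAbelianGroup.of ⟨T.obj₃, trivial⟩)
      ∈ relTr (⊤ : ObjectProperty C) :=
    AddSubgroup.subset_closure ⟨T, trivial, trivial, trivial, hT, rfl⟩
  have h := (QuotientAddGroup.eq_zero_iff _).mpr hmem
  rw [QuotientAddGroup.mk_sub, QuotientAddGroup.mk_sub, sub_sub, sub_eq_zero] at h
  exact h

lemma cl_zero : clTri (0 : C) = 0 := by
  have h := cl_dist _ (contractible_distinguished (0 : C))
  have h' : clTri (0 : C) = clTri (0 : C) + clTri (0 : C) := h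
  have := congrArg (fun x => x - clTri (0 : C)) h'
  simpa using this.symm

lemma cl_iso {X Y : C} (e : X ≅ Y) : clTri Y = clTri X := by
  have hT : Triangle.mk e.hom (0 : Y ⟶ (0 : C)) 0 ∈ distTriang C :=
    isomorphic_distinguished _ (contractible_distinguished X) _
      (Triangle.isoMk (Triangle.mk e.hom (0 : Y ⟶ (0 : C)) 0) (contractibleTriangle X)
        (Iso.refl X) e.symm (Iso.refl (0 : C))
        (by show e.hom ≫ e.inv = 𝟙 X ≫ 𝟙 X
            rw [Iso.hom_inv_id, Category.id_comp])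
        (by show (0 : Y ⟶ (0 : C)) ≫ 𝟙 (0 : C) = e.inv ≫ (0 : X ⟶ (0 : C))
            rw [zero_comp, comp_zero])
        (by show (0 : (0 : C) ⟶ X⟦(1 : ℤ)⟧) ≫ (shiftFunctor C (1 : ℤ)).map (𝟙 X)
              = 𝟙 (0 : C) ≫ (0 : (0 : C) ⟶ X⟦(1 : ℤ)⟧)
            rw [zero_comp, comp_zero]))
  have h := cl_dist _ hT
  have h' : clTri Y = clTri X + clTri (0 : C) := h
  rw [h', cl_zero, add_zero]

lemma cl_shift_one (X : C) : clTri (X⟦(1 : ℤ)⟧) = - clTri X := by
  have h := cl_dist _ (contractible_distinguished₂ X)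
  have h' : clTri (0 : C) = clTri X + clTri (X⟦(1 : ℤ)⟧) := h
  rw [cl_zero] at h'
  exact (neg_eq_of_add_eq_zero_right h'.symm).symm

lemma cl_biprod (X Y : C) : clTri (X ⊞ Y) = clTri X + clTri Y :=
  cl_dist _ (binaryBiproductTriangle_distinguished X Y)

lemma cl_shift_succ (X : C) (a b : ℤ) (h : a + 1 = b) : clTri (X⟦b⟧) = - clTri (X⟦a⟧) := by
  rw [← cl_shift_one]
  exact cl_iso ((shiftFunctorAdd' C a 1 b h).app X).symm

lemma cl_shift_add_two (X : C) (a b : ℤ) (h : a + 2 = b) : clTri (X⟦b⟧) = clTri (X⟦a⟧) := by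
  rw [cl_shift_succ X (a + 1) b (by omega), cl_shift_succ X a (a + 1) rfl, neg_neg]

lemma cl_shift_even (X : C) (n : ℤ) : clTri (X⟦2 * n⟧) = clTri X := by
  induction n using Int.induction_on with
  | zero => rw [mul_zero]; exact cl_iso ((shiftFunctorZero C ℤ).app X).symm
  | succ k ih => rw [cl_shift_add_two X (2 * (k : ℤ)) (2 * ((k : ℤ) + 1)) (by ring), ih]
  | pred k ih =>
    rw [← cl_shift_add_two X (2 * (-(k : ℤ) - 1)) (2 * (-(k : ℤ))) (by ring), ih]

section swindle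

variable (L : C) (n : ℤ)

abbrev X (i : ℕ) : C := (shiftFunctor C (2 * n * (i : ℤ))).obj L

variable [HasCoproduct (X L n)]

noncomputable abbrev P : C := ∐ (X L n)

noncomputable def e (i : ℕ) : X L n (i + 1) ≅ (shiftFunctor C (2 * n)).obj (X L n i) :=
  (shiftFunctorAdd' C (2 * n * (i : ℤ)) (2 * n) (2 * n * ((i + 1 : ℕ) : ℤ))
    (by push_cast; ring)).app L

noncomputable def hc : IsColimit (Cofan.mk ((shiftFunctor C (2 * n)).obj (P L n))
    (fun i => (shiftFunctor C (2 * n)).map (Sigma.ι (X L n) i))) :=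
  isColimitCofanMkObjOfIsColimit (shiftFunctor C (2 * n)) (X L n) _ (coproductIsCoproduct (X L n))

noncomputable def r : P L n ⟶ X L n 0 :=
  Sigma.desc (fun i => match i with
    | 0 => 𝟙 (X L n 0)
    | _ + 1 => 0)

noncomputable def d : P L n ⟶ (shiftFunctor C (2 * n)).obj (P L n) :=
  Sigma.desc (fun i => match i with
    | 0 => 0
    | i + 1 => (e L n i).hom ≫ (shiftFunctor C (2 * n)).map (Sigma.ι (X L n) i))

noncomputable def σ : (shiftFunctor C (2 * n)).obj (P L n) ⟶ P L n :=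
  Cofan.IsColimit.desc (hc L n) (fun i => (e L n i).inv ≫ Sigma.ι (X L n) (i + 1))

lemma ι_r_zero : Sigma.ι (X L n) 0 ≫ r L n = 𝟙 _ := by simp [r]
lemma ι_r_succ (i : ℕ) : Sigma.ι (X L n) (i + 1) ≫ r L n = 0 := by simp [r]
lemma ι_d_zero : Sigma.ι (X L n) 0 ≫ d L n = 0 := by simp [d]
lemma ι_d_succ (i : ℕ) : Sigma.ι (X L n) (i + 1) ≫ d L n
    = (e L n i).hom ≫ (shiftFunctor C (2 * n)).map (Sigma.ι (X L n) i) := by simp [d]
lemma j_σ (i : ℕ) : (shiftFunctor C (2 * n)).map (Sigma.ι (X L n) i) ≫ σ L n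
    = (e L n i).inv ≫ Sigma.ι (X L n) (i + 1) :=
  Cofan.IsColimit.fac (hc L n) _ i

lemma σ_d : σ L n ≫ d L n = 𝟙 _ := by
  apply Cofan.IsColimit.hom_ext (hc L n)
  intro i
  show (shiftFunctor C (2 * n)).map (Sigma.ι (X L n) i) ≫ σ L n ≫ d L n
    = (shiftFunctor C (2 * n)).map (Sigma.ι (X L n) i) ≫ 𝟙 _
  rw [← Category.assoc, j_σ, Category.assoc, ι_d_succ, Iso.inv_hom_id_assoc, Category.comp_id]

lemma σ_r : σ L n ≫ r L n = 0 := by
  apply Cofan.IsColimit.hom_ext (hc L n)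
  intro i
  show (shiftFunctor C (2 * n)).map (Sigma.ι (X L n) i) ≫ σ L n ≫ r L n
    = (shiftFunctor C (2 * n)).map (Sigma.ι (X L n) i) ≫ 0
  rw [← Category.assoc, j_σ, Category.assoc, ι_r_succ, comp_zero, comp_zero]

lemma split_id : r L n ≫ Sigma.ι (X L n) 0 + d L n ≫ σ L n = 𝟙 (P L n) := by
  apply Sigma.hom_ext
  intro i
  cases i with
  | zero =>
    rw [Preadditive.comp_add, ← Category.assoc, ι_r_zero, ← Category.assoc, ι_d_zero,
      Category.id_comp, zero_comp, add_zero, Category.comp_id]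
  | succ i =>
    rw [Preadditive.comp_add, ← Category.assoc, ι_r_succ, ← Category.assoc, ι_d_succ,
      Category.assoc, j_σ, Iso.hom_inv_id_assoc, zero_comp, zero_add, Category.comp_id]

noncomputable def isoP : P L n ≅ X L n 0 ⊞ (shiftFunctor C (2 * n)).obj (P L n) where
  hom := biprod.lift (r L n) (d L n)
  inv := biprod.desc (Sigma.ι (X L n) 0) (σ L n)
  hom_inv_id := by rw [biprod.lift_desc]; exact split_id L n
  inv_hom_id := by
    ext
    · simp [ι_r_zero]
    · simp [ι_d_zero]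
    · simp [σ_r]
    · simp [σ_d]

end swindle

theorem main (L : C) (n : ℤ) [HasCoproduct (X L n)] : clTri L = 0 := by
  have hP : clTri (P L n) = clTri (X L n 0) + clTri ((shiftFunctor C (2 * n)).obj (P L n)) := by
    rw [← cl_biprod]; exact (cl_iso (isoP L n)).symm
  have hX0 : clTri (X L n 0) = clTri L :=
    cl_iso ((shiftFunctorZero' C (2 * n * ((0 : ℕ) : ℤ)) (by simp)).app L).symm
  have hFP : clTri ((shiftFunctor C (2 * n)).obj (P L n)) = clTri (P L n) :=
    cl_shift_even (P L n) n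
  rw [hX0, hFP] at hP
  have := congrArg (fun x => x - clTri (P L n)) hP
  simpa using this.symm

end Groth.Agent.Lib.KSwindleH7
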