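import Mathlib
import Groth.Prelude.Def_Found
import Groth.Agent.Lib.AdicFSField_helper3
import Groth.Agent.Lib.GeomRegFS_helper3
import Groth.Agent.S2471

/-!
# Differential injectivity criterion passes to directed unions of subfields (helper3)

* `injective_of_directed`
* `isGeometricallyRegular_of_directed`
APPEND-ONLY once landed.
-/

set_option autoImplicit false
set_option maxSynthPendingDepth 3

namespace Groth.Agent.Lib.KaehlerDirectedH3

open TensorProduct IsLocalRing KaehlerDifferential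

universe u

section

variable (k : Type u) [Field k] {ι : Type u} (K : ι → Type u) [∀ i, Field (K i)]
  [∀ i, Algebra (K i) k]

theorem exists_index_of_finset
    (hdir : ∀ i j, ∃ l, Set.range (algebraMap (K i) k) ⊆ Set.range (algebraMap (K l) k) ∧
      Set.range (algebraMap (K j) k) ⊆ Set.range (algebraMap (K l) k))
    (hcov : ∀ x : k, ∃ i, x ∈ Set.range (algebraMap (K i) k)) (s : Finset k) :
    ∃ i, ∀ a ∈ s, a ∈ Set.range (algebraMap (K i) k) := by
  classical
  obtain ⟨i₀, -⟩ := hcov 0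
  induction s using Finset.induction_on with
  | empty => exact ⟨i₀, by simp⟩
  | insert a s ha ih =>
    obtain ⟨i, hi⟩ := ih
    obtain ⟨j, hj⟩ := hcov a
    obtain ⟨l, hil, hjl⟩ := hdir i j
    refine ⟨l, fun b hb => ?_⟩
    rcases Finset.mem_insert.mp hb with rfl | hb
    · exact hjl hj
    · exact hil (hi b hb)

theorem injective_of_directed
    (hdir : ∀ i j, ∃ l, Set.range (algebraMap (K i) k) ⊆ Set.range (algebraMap (K l) k) ∧
      Set.range (algebraMap (K j) k) ⊆ Set.range (algebraMap (K l) k))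
    (hcov : ∀ x : k, ∃ i, x ∈ Set.range (algebraMap (K i) k))
    (B : Type u) [CommRing B] [IsLocalRing B] [Algebra k B] [∀ i, Algebra (K i) B]
    [∀ i, IsScalarTower (K i) k B]
    (hinj : ∀ i, Function.Injective
      ((KaehlerDifferential.mapBaseChange ℤ (K i) B).lTensor (ResidueField B))) :
    Function.Injective ((KaehlerDifferential.mapBaseChange ℤ k B).lTensor (ResidueField B)) := by
  classical
  rw [injective_iff_map_eq_zero]
  intro ξ hξ
  have hmem : ξ ∈ Submodule.span (ResidueField B) (Set.range fun a : k =>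
      (1 : ResidueField B) ⊗ₜ[B] ((1 : B) ⊗ₜ[k] KaehlerDifferential.D ℤ k a)) := by
    rw [Groth.Agent.Lib.AdicFSFieldH3.span_tmul_tmul_D]
    trivial
  obtain ⟨c, rfl⟩ := Finsupp.mem_span_range_iff_exists_finsupp.mp hmem
  have esm : ∀ {M : Type u} [AddCommGroup M] [Module B M] (κ : ResidueField B) (z : M),
      κ • ((1 : ResidueField B) ⊗ₜ[B] z) = κ ⊗ₜ[B] z := by
    intro M _ _ κ z
    rw [TensorProduct.smul_tmul', smul_eq_mul, mul_one]
  simp only [esm] at hξ ⊢
  obtain ⟨i, hi⟩ := exists_index_of_finset k K hdir hcov c.support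
  let y : k → K i := fun a =>
    if h : a ∈ Set.range (algebraMap (K i) k) then h.choose else 0
  have hy : ∀ a ∈ c.support, algebraMap (K i) k (y a) = a := fun a ha => by
    simp only [y, dif_pos (hi a ha)]
    exact (hi a ha).choose_spec
  let ξi : ResidueField B ⊗[B] (B ⊗[K i] Ω[K i⁄ℤ]) :=
    c.sum (fun a κ => κ ⊗ₜ[B] ((1 : B) ⊗ₜ[K i] KaehlerDifferential.D ℤ (K i) (y a)))
  have h1 : (KaehlerDifferential.mapBaseChange ℤ (K i) B).lTensor (ResidueField B) ξi = 0 := by
    rw [← hξ]
    show (KaehlerDifferential.mapBaseChange ℤ (K i) B).lTensor (ResidueField B)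
      (c.sum (fun a κ => κ ⊗ₜ[B] ((1 : B) ⊗ₜ[K i] KaehlerDifferential.D ℤ (K i) (y a)))) = _
    rw [map_finsuppSum, map_finsuppSum]
    refine Finsupp.sum_congr fun a ha => ?_
    rw [LinearMap.lTensor_tmul, LinearMap.lTensor_tmul, KaehlerDifferential.mapBaseChange_tmul,
      KaehlerDifferential.mapBaseChange_tmul, KaehlerDifferential.map_D,
      KaehlerDifferential.map_D, ← hy a ha, ← IsScalarTower.algebraMap_apply, hy a ha]
  have h2 : ξi = 0 := (injective_iff_map_eq_zero _).mp (hinj i) _ h1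
  let τ : B ⊗[K i] Ω[K i⁄ℤ] →ₗ[B] B ⊗[k] Ω[k⁄ℤ] :=
    ((KaehlerDifferential.mapBaseChange ℤ (K i) k).baseChange B) ∘ₗ
      (TensorProduct.AlgebraTensorModule.cancelBaseChange (K i) k B B Ω[K i⁄ℤ]).symm.toLinearMap
  have hτ : ∀ z : K i, τ ((1 : B) ⊗ₜ[K i] KaehlerDifferential.D ℤ (K i) z) =
      (1 : B) ⊗ₜ[k] KaehlerDifferential.D ℤ k (algebraMap (K i) k z) := by
    intro z
    show ((KaehlerDifferential.mapBaseChange ℤ (K i) k).baseChange B)
      ((TensorProduct.AlgebraTensorModule.cancelBaseChange (K i) k B B Ω[K i⁄ℤ]).symm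
        ((1 : B) ⊗ₜ[K i] KaehlerDifferential.D ℤ (K i) z)) = _
    rw [TensorProduct.AlgebraTensorModule.cancelBaseChange_symm_tmul, LinearMap.baseChange_tmul,
      KaehlerDifferential.mapBaseChange_tmul, KaehlerDifferential.map_D, one_smul]
  have h3 : τ.lTensor (ResidueField B) ξi =
      c.sum (fun a κ => κ ⊗ₜ[B] ((1 : B) ⊗ₜ[k] KaehlerDifferential.D ℤ k a)) := by
    show τ.lTensor (ResidueField B)
      (c.sum (fun a κ => κ ⊗ₜ[B] ((1 : B) ⊗ₜ[K i] KaehlerDifferential.D ℤ (K i) (y a)))) = _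
    rw [map_finsuppSum]
    refine Finsupp.sum_congr fun a ha => ?_
    rw [LinearMap.lTensor_tmul, hτ, hy a ha]
  rw [← h3, h2, map_zero]

end

theorem adic_of_directed (k : Type u) [Field k] {ι : Type u}
    (K : ι → Type u) [∀ i, Field (K i)] [∀ i, Algebra (K i) k]
    (hdir : ∀ i j, ∃ l, Set.range (algebraMap (K i) k) ⊆ Set.range (algebraMap (K l) k) ∧
      Set.range (algebraMap (K j) k) ⊆ Set.range (algebraMap (K l) k))
    (hcov : ∀ x : k, ∃ i, x ∈ Set.range (algebraMap (K i) k))
    (B : Type u) [CommRing B] [IsLocalRing B] [IsNoetherianRing B] [Algebra k B]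
    [∀ i, Algebra (K i) B] [∀ i, IsScalarTower (K i) k B]
    (hB : ∀ i, CAlgX.IsAdicFormallySmooth (K i) B (maximalIdeal B)) :
    CAlgX.IsAdicFormallySmooth k B (maximalIdeal B) := by
  obtain ⟨i₀, -⟩ := hcov 0
  exact Groth.Agent.S2471.result.mpr ⟨(Groth.Agent.S2471.result.mp (hB i₀)).1,
    injective_of_directed k K hdir hcov B (fun i => (Groth.Agent.S2471.result.mp (hB i)).2)⟩

theorem isGeometricallyRegular_of_directed (k : Type u) [Field k] {ι : Type u}
    (K : ι → Type u) [∀ i, Field (K i)] [∀ i, Algebra (K i) k]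
    (hdir : ∀ i j, ∃ l, Set.range (algebraMap (K i) k) ⊆ Set.range (algebraMap (K l) k) ∧
      Set.range (algebraMap (K j) k) ⊆ Set.range (algebraMap (K l) k))
    (hcov : ∀ x : k, ∃ i, x ∈ Set.range (algebraMap (K i) k))
    (A : Type u) [CommRing A] [Algebra k A] [IsNoetherianRing A] [∀ i, Algebra (K i) A]
    [∀ i, IsScalarTower (K i) k A] (h : ∀ i, CAlg.IsGeometricallyRegular (K i) A) :
    CAlg.IsGeometricallyRegular k A := by
  rw [Groth.Agent.Lib.GeomRegFSH3.isGeometricallyRegular_iff_forall_adic]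
  intro 𝔮 _
  haveI : IsNoetherianRing (Localization.AtPrime 𝔮) :=
    IsLocalization.isNoetherianRing 𝔮.primeCompl _ inferInstance
  haveI : ∀ i, IsScalarTower (K i) k (Localization.AtPrime 𝔮) := fun i =>
    IsScalarTower.of_algebraMap_eq (fun x => by
      rw [IsScalarTower.algebraMap_apply (K i) A (Localization.AtPrime 𝔮),
        IsScalarTower.algebraMap_apply k A (Localization.AtPrime 𝔮),
        ← IsScalarTower.algebraMap_apply (K i) k A])
  have h0 : ∀ i, CAlgX.IsAdicFormallySmooth (K i) (Localization.AtPrime 𝔮)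
      (maximalIdeal (Localization.AtPrime 𝔮)) := fun i =>
    (Groth.Agent.Lib.GeomRegFSH3.isGeometricallyRegular_iff_forall_adic
      (k := K i) (S := A)).mp (h i) 𝔮
  exact adic_of_directed k K hdir hcov (Localization.AtPrime 𝔮) h0

end Groth.Agent.Lib.KaehlerDirectedH3
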