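import Mathlib

set_option autoImplicit false
universe u v

namespace Groth.Agent.Lib.KaehlerFieldH1

open TensorProduct MvPolynomial KaehlerDifferential

section

variable {k : Type u} {F : Type v} [Field k] [Field F] [Algebra k F]

open scoped IntermediateField.algebraAdjoinAdjoin in
/-- A separating transcendence basis gives a basis of the Kähler differentials. -/
theorem exists_basis_of_isSeparable {ι : Type*} (x : ι → F) (hx : AlgebraicIndependent k x)
    (hsep : Algebra.IsSeparable (IntermediateField.adjoin k (Set.range x)) F) :
    ∃ B : Module.Basis ι F (Ω[F⁄k]), ∀ i, B i = KaehlerDifferential.D k F (x i) := by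
  letI algPF : Algebra (MvPolynomial ι k) F :=
    (aeval x : MvPolynomial ι k →ₐ[k] F).toRingHom.toAlgebra
  haveI : IsScalarTower k (MvPolynomial ι k) F :=
    IsScalarTower.of_algebraMap_eq
      (fun c => ((aeval x : MvPolynomial ι k →ₐ[k] F).commutes c).symm)
  letI algPS : Algebra (MvPolynomial ι k) (Algebra.adjoin k (Set.range x)) :=
    (hx.aevalEquiv : MvPolynomial ι k →ₐ[k] _).toRingHom.toAlgebra
  haveI : IsScalarTower (MvPolynomial ι k) (Algebra.adjoin k (Set.range x)) F :=
    IsScalarTower.of_algebraMap_eq (fun p => rfl)
  haveI e0 : Algebra.FormallyEtale (MvPolynomial ι k) (Algebra.adjoin k (Set.range x)) :=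
    Algebra.FormallyEtale.of_equiv
      ({ hx.aevalEquiv.toRingEquiv with commutes' := fun p => rfl } :
        MvPolynomial ι k ≃ₐ[MvPolynomial ι k] Algebra.adjoin k (Set.range x))
  haveI e1 : Algebra.FormallyEtale (IntermediateField.adjoin k (Set.range x)) F :=
    Algebra.FormallyEtale.of_isSeparable _ F
  haveI e2 : Algebra.FormallyEtale (Algebra.adjoin k (Set.range x))
      (IntermediateField.adjoin k (Set.range x)) := .of_isLocalization (nonZeroDivisors _)
  haveI e3 : Algebra.FormallyEtale (Algebra.adjoin k (Set.range x)) F :=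
    .comp _ (IntermediateField.adjoin k (Set.range x)) _
  haveI e4 : Algebra.FormallyEtale (MvPolynomial ι k) F :=
    .comp _ (Algebra.adjoin k (Set.range x)) _
  let B₀ : Module.Basis ι F (F ⊗[MvPolynomial ι k] Ω[MvPolynomial ι k⁄k]) :=
    (KaehlerDifferential.mvPolynomialBasis k ι).baseChange F
  let B : Module.Basis ι F (Ω[F⁄k]) :=
    B₀.map (KaehlerDifferential.tensorKaehlerEquivOfFormallyEtale k (MvPolynomial ι k) F)
  refine ⟨B, fun i => ?_⟩
  show KaehlerDifferential.tensorKaehlerEquivOfFormallyEtale k (MvPolynomial ι k) F (B₀ i) = _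
  rw [Module.Basis.baseChange_apply, KaehlerDifferential.mvPolynomialBasis_apply,
    KaehlerDifferential.tensorKaehlerEquivOfFormallyEtale_apply,
    KaehlerDifferential.mapBaseChange_tmul, one_smul, KaehlerDifferential.map_D]
  congr 1
  exact aeval_X x i

/-- If the differentials of a transcendence basis span, the extension is separable over it. -/
theorem isSeparable_of_span_eq_top (hF : (⊤ : IntermediateField k F).FG)
    {ι : Type*} (x : ι → F) (hx : IsTranscendenceBasis k x)
    (hspan : Submodule.span F (Set.range fun i : ι => KaehlerDifferential.D k F (x i)) = ⊤) :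
    Algebra.IsSeparable (IntermediateField.adjoin k (Set.range x)) F := by
  haveI : Algebra.EssFiniteType k F := IntermediateField.fg_top_iff.mp hF
  haveI : Algebra.EssFiniteType (IntermediateField.adjoin k (Set.range x)) F :=
    Algebra.EssFiniteType.of_comp k _ F
  have hzero : KaehlerDifferential.map k (IntermediateField.adjoin k (Set.range x)) F F = 0 := by
    apply LinearMap.ext_on hspan
    rintro _ ⟨i, rfl⟩
    rw [KaehlerDifferential.map_D, LinearMap.zero_apply]
    have : algebraMap F F (x i) = algebraMap (IntermediateField.adjoin k (Set.range x)) F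
        ⟨x i, IntermediateField.subset_adjoin k _ ⟨i, rfl⟩⟩ := rfl
    rw [this, Derivation.map_algebraMap]
  haveI : Algebra.FormallyUnramified (IntermediateField.adjoin k (Set.range x)) F := by
    refine ⟨⟨fun a b => ?_⟩⟩
    obtain ⟨a', rfl⟩ := KaehlerDifferential.map_surjective k
      (IntermediateField.adjoin k (Set.range x)) F a
    obtain ⟨b', rfl⟩ := KaehlerDifferential.map_surjective k
      (IntermediateField.adjoin k (Set.range x)) F b
    rw [hzero]
    rfl
  exact Algebra.FormallyUnramified.isSeparable _ F

theorem main11082 (k : Type u) (F : Type v)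
    [Field k] [IsAlgClosed k] [Field F] [Algebra k F] (hF : (⊤ : IntermediateField k F).FG)
    {ι : Type v} (x : ι → F) (hx : IsTranscendenceBasis k x) :
    Algebra.IsSeparable (IntermediateField.adjoin k (Set.range x)) F ↔
      (LinearIndependent F (fun i : ι => KaehlerDifferential.D k F (x i)) ∧
        Submodule.span F (Set.range fun i : ι => KaehlerDifferential.D k F (x i)) = ⊤) := by
  constructor
  · intro hsep
    obtain ⟨B, hB⟩ := exists_basis_of_isSeparable x hx.1 hsep
    have hfun : (fun i : ι => KaehlerDifferential.D k F (x i)) = B := by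
      funext i
      exact (hB i).symm
    rw [hfun]
    exact ⟨B.linearIndependent, B.span_eq⟩
  · rintro ⟨-, hspan⟩
    exact isSeparable_of_span_eq_top hF x hx hspan

/-- rank of the Kähler differentials = cardinality of any finite transcendence basis, over a
perfect field -/
theorem rank_eq_card [PerfectField k] (hF : (⊤ : IntermediateField k F).FG)
    {ι : Type*} [Fintype ι] (x : ι → F) (hx : IsTranscendenceBasis k x) :
    Module.rank F (Ω[F⁄k]) = Fintype.card ι := by
  haveI : Algebra.EssFiniteType k F := IntermediateField.fg_top_iff.mp hF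
  obtain ⟨s, hs, hsep⟩ := exists_isTranscendenceBasis_and_isSeparable_of_perfectField k F
  have hr : Set.range ((↑) : s → F) = (s : Set F) := Subtype.range_coe
  rw [← hr] at hsep
  obtain ⟨B, -⟩ := exists_basis_of_isSeparable ((↑) : s → F) hs.1 hsep
  rw [rank_eq_card_basis B]
  have h := hs.lift_cardinalMk_eq hx
  simp only [Cardinal.mk_fintype, Cardinal.lift_natCast, Nat.cast_inj] at h
  rw [h]

theorem main11083 (k : Type u) (F : Type v)
    [Field k] [IsAlgClosed k] [Field F] [Algebra k F] (hF : (⊤ : IntermediateField k F).FG)
    (d : ℕ) (x : Fin d → F) (hx : IsTranscendenceBasis k x) :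
    Module.rank F (Ω[F⁄k]) = d := by
  rw [rank_eq_card hF x hx, Fintype.card_fin]

end

theorem main11092 (k : Type u) (K L : Type v)
    [Field k] [IsAlgClosed k] [Field K] [Field L] [Algebra k K] [Algebra k L] [Algebra K L]
    [IsScalarTower k K L] (hK : (⊤ : IntermediateField k K).FG)
    (hx : ∃ x : K, IsTranscendenceBasis k (fun _ : Unit => x)) [FiniteDimensional K L] :
    (KaehlerDifferential.map k k K L = 0 ∨ Function.Injective (KaehlerDifferential.map k k K L)) ∧
      (Function.Injective (KaehlerDifferential.map k k K L) ↔ Algebra.IsSeparable K L) := by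
  obtain ⟨x, hx⟩ := hx
  haveI : Algebra.EssFiniteType k K := IntermediateField.fg_top_iff.mp hK
  haveI : Algebra.EssFiniteType k L := Algebra.EssFiniteType.comp k K L
  have hL : (⊤ : IntermediateField k L).FG := IntermediateField.fg_top_iff.mpr inferInstance
  have hxL : IsTranscendenceBasis k (algebraMap K L ∘ (fun _ : Unit => x)) := hx.algebraMap_comp
  have rK : Module.rank K (Ω[K⁄k]) = 1 := by
    rw [rank_eq_card hK _ hx]
    simp
  have rL : Module.rank L (Ω[L⁄k]) = 1 := by
    rw [rank_eq_card hL _ hxL]
    simp
  obtain ⟨v, hv0, hv⟩ := rank_eq_one_iff.mp rK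
  obtain ⟨w, hw0, hw⟩ := rank_eq_one_iff.mp rL
  have hdich : KaehlerDifferential.map k k K L = 0 ∨
      Function.Injective (KaehlerDifferential.map k k K L) := by
    by_cases h0 : KaehlerDifferential.map k k K L v = 0
    · left
      apply LinearMap.ext
      intro ω
      obtain ⟨c, rfl⟩ := hv ω
      rw [map_smul, h0, smul_zero, LinearMap.zero_apply]
    · right
      rw [injective_iff_map_eq_zero]
      intro ω hω
      obtain ⟨c, rfl⟩ := hv ω
      rw [map_smul] at hω
      rcases smul_eq_zero.mp hω with hc | hc
      · rw [hc, zero_smul]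
      · exact absurd hc h0
  refine ⟨hdich, ?_⟩
  constructor
  · intro hinj
    have hne : KaehlerDifferential.map k k K L v ≠ 0 := by
      intro h
      exact hv0 (hinj (h.trans (map_zero _).symm))
    -- the base change map is surjective
    have hsurj : Function.Surjective (KaehlerDifferential.mapBaseChange k K L) := by
      intro ω
      obtain ⟨c, hc⟩ := hw (KaehlerDifferential.map k k K L v)
      have hc0 : c ≠ 0 := by
        rintro rfl
        rw [zero_smul] at hc
        exact hne hc.symm
      obtain ⟨e, rfl⟩ := hw ω
      refine ⟨(e * c⁻¹) ⊗ₜ v, ?_⟩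
      rw [KaehlerDifferential.mapBaseChange_tmul, ← hc, smul_smul, mul_assoc, inv_mul_cancel₀ hc0,
        mul_one]
    haveI : Algebra.FormallyUnramified K L := by
      refine ⟨⟨fun a b => ?_⟩⟩
      have hz : ∀ a : Ω[L⁄K], a = 0 := by
        intro a
        obtain ⟨a', rfl⟩ := KaehlerDifferential.map_surjective k K L a
        obtain ⟨a'', rfl⟩ := hsurj a'
        exact (KaehlerDifferential.exact_mapBaseChange_map k K L _).mpr ⟨a'', rfl⟩
      rw [hz a, hz b]
    exact Algebra.FormallyUnramified.isSeparable K L
  · intro hsep
    haveI : Algebra.FormallyEtale K L := Algebra.FormallyEtale.of_isSeparable K L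
    rcases hdich with h0 | hinj
    · exfalso
      have hz : KaehlerDifferential.mapBaseChange k K L = 0 := by
        apply TensorProduct.AlgebraTensorModule.curry_injective
        ext l ω
        simp [h0]
      have hbij := (KaehlerDifferential.tensorKaehlerEquivOfFormallyEtale k K L).surjective
      obtain ⟨t, ht⟩ := hbij w
      rw [KaehlerDifferential.tensorKaehlerEquivOfFormallyEtale_apply, hz,
        LinearMap.zero_apply] at ht
      exact hw0 ht.symm
    · exact hinj

end Groth.Agent.Lib.KaehlerFieldH1
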