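import Mathlib

open KaehlerDifferential TensorProduct

namespace Groth.Agent.Lib.KaehlerLocVanish

universe u

theorem mem_smul_top_of_tmul_eq_zero {P B M : Type*} [CommRing P] [CommRing B] [Algebra P B]
    [AddCommGroup M] [Module P M] (h : Function.Surjective (algebraMap P B)) (m : M)
    (hm : (1 : B) ⊗ₜ[P] m = 0) : m ∈ (RingHom.ker (algebraMap P B)) • (⊤ : Submodule P M) := by
  let e : (P ⧸ RingHom.ker (algebraMap P B)) ≃+* B := RingHom.quotientKerEquivOfSurjective h
  let eL : (P ⧸ RingHom.ker (algebraMap P B)) ≃ₗ[P] B :=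
    { e.toAddEquiv with
      map_smul' := fun p x => by
        obtain ⟨y, rfl⟩ := Ideal.Quotient.mk_surjective x
        show e (p • Ideal.Quotient.mk _ y) = p • e (Ideal.Quotient.mk _ y)
        rw [Algebra.smul_def, Algebra.smul_def, map_mul]
        rfl }
  have h1 : (Ideal.Quotient.mk (RingHom.ker (algebraMap P B)) 1) ⊗ₜ[P] m = 0 := by
    apply (TensorProduct.congr eL (LinearEquiv.refl P M)).injective
    rw [TensorProduct.congr_tmul, map_zero]
    show e (Ideal.Quotient.mk _ 1) ⊗ₜ[P] m = 0
    rw [map_one, map_one]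
    exact hm
  have h2 := congrArg (TensorProduct.quotTensorEquivQuotSMul M (RingHom.ker (algebraMap P B))) h1
  rw [TensorProduct.quotTensorEquivQuotSMul_mk_tmul, map_zero, one_smul,
    Submodule.Quotient.mk_eq_zero] at h2
  exact h2

section

variable (A P B : Type u) [CommRing A] [CommRing P] [CommRing B] [Algebra A P] [Algebra A B]
    [Algebra P B] [IsScalarTower A P B]

theorem ker_map_le (h : Function.Surjective (algebraMap P B)) :
    LinearMap.ker (KaehlerDifferential.map A A P B) ≤
      Submodule.span P ((D A P) '' (RingHom.ker (algebraMap P B) : Set P)) ⊔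
        (RingHom.ker (algebraMap P B)) • (⊤ : Submodule P (Ω[P⁄A])) := by
  intro ω hω
  have h1 : KaehlerDifferential.mapBaseChange A P B (1 ⊗ₜ ω) = 0 := by
    rw [KaehlerDifferential.mapBaseChange_tmul, one_smul]
    exact hω
  obtain ⟨c, hc⟩ := (KaehlerDifferential.exact_kerCotangentToTensor_mapBaseChange A P B h _).mp h1
  obtain ⟨g, rfl⟩ := Ideal.toCotangent_surjective _ c
  rw [KaehlerDifferential.kerCotangentToTensor_toCotangent] at hc
  have h2 : (1 : B) ⊗ₜ[P] (ω - D A P g.1) = 0 := by
    rw [TensorProduct.tmul_sub, hc, sub_self]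
  have h3 := mem_smul_top_of_tmul_eq_zero h _ h2
  have h4 : ω = D A P g.1 + (ω - D A P g.1) := by abel
  rw [h4]
  exact Submodule.add_mem_sup (Submodule.subset_span ⟨g.1, g.2, rfl⟩) h3

variable (q : Ideal B) [q.IsPrime]

local notation "𝔮" => Ideal.comap (algebraMap P B) q
local notation "Sq" => Ideal.primeCompl (Ideal.comap (algebraMap P B) q)
local notation "R'" => Localization.AtPrime (Ideal.comap (algebraMap P B) q)
local notation "ℓ" => LocalizedModule.mkLinearMap (Ideal.primeCompl (Ideal.comap (algebraMap P B) q)) Ω[P⁄A]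
local notation "II" => RingHom.ker (algebraMap P B)
local notation "KK" => LinearMap.ker (KaehlerDifferential.map A A P B)

theorem step2 (h : Function.Surjective (algebraMap P B)) :
    Subsingleton (LocalizedModule q.primeCompl Ω[B⁄A]) ↔
      Submodule.localized' R' Sq ℓ KK = ⊤ := by
  rw [LocalizedModule.subsingleton_iff, eq_top_iff]
  constructor
  · intro H x _
    obtain ⟨⟨ω, s⟩, rfl⟩ := IsLocalizedModule.mk'_surjective Sq ℓ x
    obtain ⟨b, hb, hb0⟩ := H (KaehlerDifferential.map A A P B ω)
    obtain ⟨t, rfl⟩ := h b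
    have ht : t ∈ Sq := Ideal.mem_primeCompl_iff.mpr fun hmem =>
      Ideal.mem_primeCompl_iff.mp hb (Ideal.mem_comap.mp hmem)
    have htK : t • ω ∈ KK := by
      rw [LinearMap.mem_ker, map_smul, ← algebraMap_smul B t]
      exact hb0
    refine ⟨t • ω, htK, ⟨t, ht⟩ * s, ?_⟩
    exact IsLocalizedModule.mk'_cancel_left ℓ ω ⟨t, ht⟩ s
  · intro H ω'
    obtain ⟨ω, rfl⟩ := KaehlerDifferential.map_surjective_of_surjective A A P B h ω'
    obtain ⟨κ, hκ, s, hs⟩ := H (Submodule.mem_top : ℓ ω ∈ ⊤)
    rw [IsLocalizedModule.mk'_eq_iff] at hs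
    have h0 : κ - (s : P) • ω ∈ LinearMap.ker ℓ := by
      rw [LinearMap.mem_ker, map_sub, map_smul, hs, Submonoid.smul_def, sub_self]
    obtain ⟨r, hr, hr0⟩ := (IsLocalizedModule.mem_ker_iff Sq).mp h0
    refine ⟨algebraMap P B (r * s), ?_, ?_⟩
    · exact Ideal.mem_primeCompl_iff.mpr fun hmem =>
        Ideal.mem_primeCompl_iff.mp (Submonoid.mul_mem Sq hr s.2) (Ideal.mem_comap.mpr hmem)
    · rw [algebraMap_smul, ← map_smul]
      have h5 : (r * (s : P)) • ω = r • κ := by
        rw [mul_smul]
        rw [smul_sub] at hr0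
        exact (sub_eq_zero.mp hr0).symm
      rw [h5, map_smul, LinearMap.mem_ker.mp hκ, smul_zero]

theorem main_loc (h : Function.Surjective (algebraMap P B)) [Module.Finite P Ω[P⁄A]] :
    Subsingleton (LocalizedModule q.primeCompl Ω[B⁄A]) ↔
      Submodule.localized' R' Sq ℓ (Submodule.span P ((D A P) '' (II : Set P))) = ⊤ := by
  rw [step2 A P B q h]
  have hN₀K : Submodule.span P ((D A P) '' (II : Set P)) ≤ KK := by
    rw [Submodule.span_le]
    rintro _ ⟨g, hg, rfl⟩
    rw [SetLike.mem_coe, LinearMap.mem_ker, KaehlerDifferential.map_D,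
      RingHom.mem_ker.mp hg, map_zero]
  have hmono := (Submodule.localized'gi R' Sq ℓ).gc.monotone_l
  constructor
  · intro HK
    have hKle := ker_map_le A P B h
    have h1 : (⊤ : Submodule R' (LocalizedModule Sq Ω[P⁄A])) ≤
        Submodule.localized' R' Sq ℓ (Submodule.span P ((D A P) '' (II : Set P))) ⊔
          (Submodule.localized' R' Sq (Algebra.linearMap P R') II) • ⊤ := by
      refine (top_le_iff.mpr HK).trans ((hmono hKle).trans ?_)
      rw [(Submodule.localized'gi R' Sq ℓ).gc.l_sup, Submodule.localized'_smul,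
        Submodule.localized'_top]
    refine top_le_iff.mp (Submodule.le_of_le_smul_of_le_jacobson_bot
      (Module.finite_def.mp inferInstance) ?_ h1)
    rw [IsLocalRing.jacobson_eq_maximalIdeal ⊥ bot_ne_top]
    rintro x ⟨g, hg, s, rfl⟩
    have hx := IsLocalizedModule.mk'_cancel' (Algebra.linearMap P R') g s
    have hg𝔮 : g ∈ 𝔮 := by
      rw [Ideal.mem_comap, RingHom.mem_ker.mp hg]
      exact zero_mem _
    have h2 : algebraMap P R' (s : P) *
        IsLocalizedModule.mk' (Algebra.linearMap P R') g s ∈ IsLocalRing.maximalIdeal R' := by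
      rw [← Algebra.smul_def, ← Submonoid.smul_def, hx, Algebra.linearMap_apply]
      exact (IsLocalization.AtPrime.to_map_mem_maximal_iff R' 𝔮 g).mpr hg𝔮
    rcases (IsLocalRing.maximalIdeal.isMaximal R').isPrime.mem_or_mem h2 with h3 | h3
    · exact absurd ((IsLocalization.AtPrime.to_map_mem_maximal_iff R' 𝔮 (s : P)).mp h3) s.2
    · exact h3
  · intro HN
    exact top_le_iff.mp (HN ▸ hmono hN₀K)

end

theorem main {A B : Type u} [CommRing A] [CommRing B]
    [Algebra A B] (n : ℕ) (φ : MvPolynomial (Fin n) A →ₐ[A] B) (hφ : Function.Surjective φ)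
    (q : Ideal B) [q.IsPrime] :
    Subsingleton (LocalizedModule q.primeCompl (KaehlerDifferential A B)) ↔
      Submodule.span (Localization.AtPrime (q.comap φ.toRingHom))
        ((LocalizedModule.mkLinearMap (q.comap φ.toRingHom).primeCompl
            (KaehlerDifferential A (MvPolynomial (Fin n) A))) ''
          ((KaehlerDifferential.D A (MvPolynomial (Fin n) A)) '' (RingHom.ker φ.toRingHom : Set (MvPolynomial (Fin n) A)))) = ⊤ := by
  letI : Algebra (MvPolynomial (Fin n) A) B := φ.toRingHom.toAlgebra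
  haveI : IsScalarTower A (MvPolynomial (Fin n) A) B :=
    IsScalarTower.of_algebraMap_eq fun a => (φ.commutes a).symm
  have h := main_loc A (MvPolynomial (Fin n) A) B q hφ
  rw [Submodule.localized'_span] at h
  exact h

end Groth.Agent.Lib.KaehlerLocVanish
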