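import Mathlib

/-!
# Non-free locus of the cokernel of a map `A → A^2` (helper3)
-/

namespace Groth.Agent.Lib.KaehlerNFH3

open IsLocalRing

/-- Over a local ring, if `M = F / (A v)` is projective and `v ∈ m F`, then `v = 0`. -/
theorem eq_zero_of_projective {A F M : Type*} [CommRing A] [IsLocalRing A]
    [AddCommGroup F] [Module A F] [AddCommGroup M] [Module A M] [Module.Projective A M]
    (g : F →ₗ[A] M) (hg : Function.Surjective g)
    (v : F) (hker : LinearMap.ker g ≤ Submodule.span A {v}) (hgv : g v = 0)
    (hv : v ∈ (maximalIdeal A) • (⊤ : Submodule A F)) : v = 0 := by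
  obtain ⟨s, hs⟩ := Module.projective_lifting_property g LinearMap.id hg
  set e : F →ₗ[A] F := LinearMap.id - s ∘ₗ g with he
  have hgs : ∀ m, g (s m) = m := fun m => by
    have := LinearMap.congr_fun hs m
    simpa using this
  have he_mem : ∀ x, e x ∈ Submodule.span A {v} := by
    intro x
    apply hker
    rw [LinearMap.mem_ker, he]
    simp only [LinearMap.sub_apply, LinearMap.id_apply, LinearMap.comp_apply, map_sub]
    rw [hgs, sub_self]
  have hev : e v = v := by
    rw [he]; simp [hgv]
  have key : ∀ y ∈ (maximalIdeal A) • (⊤ : Submodule A F),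
      e y ∈ (maximalIdeal A) • Submodule.span A {v} := by
    intro y hy
    refine Submodule.smul_induction_on hy ?_ ?_
    · intro r hr x _
      rw [map_smul]
      exact Submodule.smul_mem_smul hr (he_mem x)
    · intro x y hx hy
      rw [map_add]; exact Submodule.add_mem _ hx hy
  have h1 : Submodule.span A {v} ≤ (maximalIdeal A) • Submodule.span A {v} := by
    rw [Submodule.span_singleton_le_iff_mem]
    have := key v hv
    rwa [hev] at this
  have h2 : Submodule.span A {v} = ⊥ :=
    Submodule.eq_bot_of_le_smul_of_le_jacobson_bot _ _ (Submodule.fg_span_singleton v) h1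
      (IsLocalRing.maximalIdeal_le_jacobson _)
  have : v ∈ Submodule.span A {v} := Submodule.mem_span_singleton_self v
  rw [h2] at this
  exact (Submodule.mem_bot A).mp this

/-- Over a local ring, if some coordinate of `v` is a unit then `F / (A v)` is free. -/
theorem free_of_coord_isUnit {A F M ι : Type*} [CommRing A] [IsLocalRing A]
    [AddCommGroup F] [Module A F] [AddCommGroup M] [Module A M] [Finite ι]
    (b : Module.Basis ι A F) (g : F →ₗ[A] M) (hg : Function.Surjective g)
    (v : F) (hker : LinearMap.ker g = Submodule.span A {v}) (i : ι)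
    (hi : IsUnit (b.repr v i)) : Module.Free A M := by
  obtain ⟨c, hc⟩ := hi
  have hgv : g v = 0 := by
    have : v ∈ LinearMap.ker g := by rw [hker]; exact Submodule.mem_span_singleton_self v
    exact this
  let ρ : F →ₗ[A] F :=
    LinearMap.id - (LinearMap.toSpanSingleton A F v) ∘ₗ (((c⁻¹ : Aˣ) : A) • b.coord i)
  have hρ : ∀ x, ρ x = x - (((c⁻¹ : Aˣ) : A) * b.repr x i) • v := by
    intro x
    simp [ρ, LinearMap.toSpanSingleton_apply, Module.Basis.coord_apply]
  have hρv : ρ v = 0 := by
    rw [hρ, ← hc, Units.inv_mul, one_smul, sub_self]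
  have hkerρ : LinearMap.ker g ≤ LinearMap.ker ρ := by
    rw [hker, Submodule.span_singleton_le_iff_mem, LinearMap.mem_ker]
    exact hρv
  let s : M →ₗ[A] F := (Submodule.liftQ (LinearMap.ker g) ρ hkerρ) ∘ₗ
    (g.quotKerEquivOfSurjective hg).symm.toLinearMap
  have hs : g ∘ₗ s = LinearMap.id := by
    ext m
    obtain ⟨x, rfl⟩ := hg m
    have h1 : (g.quotKerEquivOfSurjective hg).symm (g x) = Submodule.Quotient.mk x := by
      rw [LinearEquiv.symm_apply_eq]; rfl
    simp only [s, LinearMap.comp_apply, LinearEquiv.coe_coe, h1, LinearMap.id_apply]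
    rw [Submodule.liftQ_apply, hρ, map_sub, map_smul, hgv, smul_zero, sub_zero]
  haveI : Module.Finite A F := Module.Finite.of_basis b
  haveI : Module.Finite A M := Module.Finite.of_surjective g hg
  haveI : Module.Projective A F := Module.Projective.of_basis b
  haveI : Module.Projective A M := Module.Projective.of_split s g hs
  exact Module.free_of_flat_of_isLocalRing

/-- Localized at a prime containing all coordinates of `v ≠ 0`, the module `F / (A v)` is not
free. -/
theorem not_free_atPrime {A F M ι : Type*} [CommRing A] [IsDomain A]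
    [AddCommGroup F] [Module A F] [AddCommGroup M] [Module A M] [Fintype ι]
    (b : Module.Basis ι A F) (g : F →ₗ[A] M) (hg : Function.Surjective g)
    (v : F) (hv0 : v ≠ 0) (hker : LinearMap.ker g = Submodule.span A {v})
    (P : Ideal A) [P.IsPrime] (hP : ∀ i, b.repr v i ∈ P) :
    ¬ Module.Free (Localization.AtPrime P) (LocalizedModule P.primeCompl M) := by
  intro hfree
  have hgv : g v = 0 := by
    have : v ∈ LinearMap.ker g := by rw [hker]; exact Submodule.mem_span_singleton_self v
    exact this
  set g' := LocalizedModule.map P.primeCompl g with hg'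
  set v' : LocalizedModule P.primeCompl F := LocalizedModule.mk v 1 with hv'
  have hsurj : Function.Surjective g' := LocalizedModule.map_surjective _ g hg
  have hgv' : g' v' = 0 := by
    rw [hg', hv', LocalizedModule.map_mk, hgv, LocalizedModule.zero_mk]
  have hker' : LinearMap.ker g' ≤ Submodule.span (Localization.AtPrime P) {v'} := by
    intro x' hx'
    induction x' using LocalizedModule.induction_on with
    | h x s =>
      rw [LinearMap.mem_ker, hg', LocalizedModule.map_mk, ← LocalizedModule.zero_mk 1,
        LocalizedModule.mk_eq] at hx'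
      obtain ⟨t, ht⟩ := hx'
      rw [one_smul, smul_zero, smul_zero] at ht
      have h1 : t • x ∈ LinearMap.ker g := by
        show g (t • x) = 0
        rw [Submonoid.smul_def, map_smul]; exact ht
      rw [hker, Submodule.mem_span_singleton] at h1
      obtain ⟨r, hr⟩ := h1
      have h2 : LocalizedModule.mk x s = (Localization.mk r (t * s)) • v' := by
        rw [hv', LocalizedModule.mk_smul_mk, mul_one, hr,
          ← LocalizedModule.mk_cancel_common_left t s x]
      rw [h2]
      exact Submodule.smul_mem _ _ (Submodule.mem_span_singleton_self _)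
  have hv'm : v' ∈ (maximalIdeal (Localization.AtPrime P)) •
      (⊤ : Submodule (Localization.AtPrime P) (LocalizedModule P.primeCompl F)) := by
    have h1 : v = ∑ i, b.repr v i • b i := (b.sum_repr v).symm
    have h2 : v' = ∑ i, algebraMap A (Localization.AtPrime P) (b.repr v i) •
        (LocalizedModule.mk (b i) 1 : LocalizedModule P.primeCompl F) := by
      rw [hv']
      conv_lhs => rw [h1]
      rw [← LocalizedModule.mkLinearMap_apply, map_sum]
      refine Finset.sum_congr rfl fun i _ => ?_
      rw [map_smul, LocalizedModule.mkLinearMap_apply, algebraMap_smul]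
    rw [h2]
    refine Submodule.sum_mem _ fun i _ => ?_
    refine Submodule.smul_mem_smul ?_ trivial
    exact (IsLocalization.AtPrime.to_map_mem_maximal_iff _ P _).mpr (hP i)
  have hv'0 : v' ≠ 0 := by
    intro h0
    rw [hv', ← LocalizedModule.zero_mk 1, LocalizedModule.mk_eq] at h0
    obtain ⟨t, ht⟩ := h0
    rw [one_smul, smul_zero, smul_zero] at ht
    apply hv0
    have ht0 : (t : A) ≠ 0 := by
      intro h
      exact t.2 (by rw [h]; exact P.zero_mem)
    have : b.repr v = 0 := by
      ext i
      have h3 := congrArg (fun z => b.repr z i) ht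
      simp only [Submonoid.smul_def, map_smul, Finsupp.smul_apply, smul_eq_mul, map_zero,
        Finsupp.zero_apply] at h3
      rcases mul_eq_zero.mp h3 with h | h
      · exact absurd h ht0
      · simpa using h
    exact (b.repr.map_eq_zero_iff).mp this
  haveI : Module.Projective (Localization.AtPrime P) (LocalizedModule P.primeCompl M) :=
    Module.Projective.of_free
  exact hv'0 (eq_zero_of_projective g' hsurj v' hker' hgv' hv'm)

theorem main {A : Type*} [CommRing A] [IsDomain A] [IsNoetherianRing A] [IsLocalRing A] (u : A)
    (hdim : ringKrullDim A = 3)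
    {F M : Type*} [AddCommGroup F] [Module A F] [Module.Free A F]
    (hrk : Module.finrank A F = 2) [AddCommGroup M] [Module A M]
    (g : F →ₗ[A] M) (hg : Function.Surjective g) (v : F)
    (hker : LinearMap.ker g = Submodule.span A {v})
    (h0 : ∀ P : PrimeSpectrum A, u ∈ P.asIdeal → P.asIdeal ≠ maximalIdeal A →
      Module.Free (Localization.AtPrime P.asIdeal) (LocalizedModule P.asIdeal.primeCompl M))
    (hm : ¬ Module.Free A M) :
    ∃ Q : PrimeSpectrum A, u ∉ Q.asIdeal ∧
      ¬ Module.Free (Localization.AtPrime Q.asIdeal) (LocalizedModule Q.asIdeal.primeCompl M) := by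
  classical
  haveI : Module.Finite A F := Module.finite_of_finrank_pos (by omega)
  let b : Module.Basis (Fin 2) A F := Module.finBasisOfFinrankEq A F hrk
  have hv0 : v ≠ 0 := by
    rintro rfl
    apply hm
    have hinj : Function.Injective g := by
      rw [← LinearMap.ker_eq_bot, hker]; simp
    exact Module.Free.of_equiv (LinearEquiv.ofBijective g ⟨hinj, hg⟩)
  have hnu : ∀ i, b.repr v i ∈ maximalIdeal A := by
    intro i
    by_contra h
    have hunit : IsUnit (b.repr v i) := by
      by_contra h'
      exact h ((IsLocalRing.mem_maximalIdeal _).mpr h')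
    exact hm (free_of_coord_isUnit b g hg v hker i hunit)
  set I : Ideal A := Ideal.span ((Finset.univ.image fun i => b.repr v i : Finset A) : Set A)
    with hI
  have hIm : I ≤ maximalIdeal A := by
    rw [hI, Ideal.span_le]
    intro x hx
    simp only [Finset.coe_image, Finset.coe_univ, Set.image_univ, Set.mem_range] at hx
    obtain ⟨i, rfl⟩ := hx
    exact hnu i
  have hItop : I ≠ ⊤ := fun h =>
    (IsLocalRing.maximalIdeal.isMaximal A).ne_top (top_le_iff.mp (h ▸ hIm))
  obtain ⟨Q, hQ⟩ := Ideal.nonempty_minimalPrimes hItop
  haveI : Q.IsPrime := hQ.1.1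
  have hQI : I ≤ Q := hQ.1.2
  have hht : Q.height ≤ 2 := by
    refine (Ideal.height_le_card_of_mem_minimalPrimes_span_finset hQ).trans ?_
    have : (Finset.univ.image fun i => b.repr v i : Finset A).card ≤ 2 :=
      Finset.card_image_le.trans (by simp)
    exact_mod_cast this
  have hQm : Q ≠ maximalIdeal A := by
    intro h
    have h3 : ((maximalIdeal A).height : WithBot ℕ∞) = 3 := by
      rw [IsLocalRing.maximalIdeal_height_eq_ringKrullDim, hdim]
    have h3' : (maximalIdeal A).height = 3 := by
      have h4 : ((maximalIdeal A).height : WithBot ℕ∞) = ((3 : ℕ∞) : WithBot ℕ∞) := h3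
      exact WithBot.coe_injective h4
    rw [h, h3'] at hht
    norm_num at hht
  have hnf : ¬ Module.Free (Localization.AtPrime Q) (LocalizedModule Q.primeCompl M) :=
    not_free_atPrime b g hg v hv0 hker Q
      (fun i => hQI (Ideal.subset_span (by simp)))
  refine ⟨⟨Q, inferInstance⟩, ?_, hnf⟩
  intro huQ
  exact hnf (h0 ⟨Q, inferInstance⟩ huQ hQm)

end Groth.Agent.Lib.KaehlerNFH3
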