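import Mathlib

/-!
# A retraction of `T ⊗[A] Ω[A⁄R] → Ω[T⁄R]` for `T = A ⊗[R] B` (helper3)
-/

set_option autoImplicit false
universe u
open scoped TensorProduct
open KaehlerDifferential

namespace Groth.Agent.Lib.KaehlerTensor_helper3

variable (R A B : Type u) [CommRing R] [CommRing A] [CommRing B] [Algebra R A] [Algebra R B]

attribute [local instance] Algebra.TensorProduct.rightAlgebra in
/-- The retraction `Ω[T⁄R] → Ω[T⁄B] ≃ T ⊗[A] Ω[A⁄R]` for `T = A ⊗[R] B`. -/
noncomputable def retr : Ω[(A ⊗[R] B)⁄R] →ₗ[A ⊗[R] B] ((A ⊗[R] B) ⊗[A] Ω[A⁄R]) :=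
  ((tensorKaehlerEquiv R B A (A ⊗[R] B)).symm :
      Ω[(A ⊗[R] B)⁄B] →ₗ[A ⊗[R] B] ((A ⊗[R] B) ⊗[A] Ω[A⁄R])) ∘ₗ
    (KaehlerDifferential.map R B (A ⊗[R] B) (A ⊗[R] B))

attribute [local instance] Algebra.TensorProduct.rightAlgebra in
theorem retr_D_tmul (a : A) (b : B) :
    retr R A B (D R (A ⊗[R] B) (a ⊗ₜ[R] b)) = ((1 : A) ⊗ₜ[R] b) ⊗ₜ[A] D R A a := by
  simp [retr, KaehlerDifferential.map_D, Algebra.TensorProduct.right_algebraMap_apply]

theorem retr_mapBaseChange (z : (A ⊗[R] B) ⊗[A] Ω[A⁄R]) :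
    retr R A B (mapBaseChange R A (A ⊗[R] B) z) = z := by
  induction z using TensorProduct.induction_on with
  | zero => simp
  | add x y hx hy => simp only [map_add, hx, hy]
  | tmul t ω =>
    rw [mapBaseChange_tmul, map_smul]
    have key : retr R A B (KaehlerDifferential.map R R A (A ⊗[R] B) ω) =
        (1 : A ⊗[R] B) ⊗ₜ[A] ω := by
      have hω : ω ∈ Submodule.span A (Set.range (D R A)) := by
        rw [span_range_derivation]; trivial
      induction hω using Submodule.span_induction with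
      | mem x hx =>
        obtain ⟨a, rfl⟩ := hx
        rw [map_D, Algebra.TensorProduct.algebraMap_apply, Algebra.algebraMap_self,
          RingHom.id_apply, retr_D_tmul]
        rfl
      | zero => simp
      | add x y _ _ hx hy => simp only [map_add, hx, hy, TensorProduct.tmul_add]
      | smul a x _ hx =>
        rw [map_smul, ← algebraMap_smul (A ⊗[R] B) a, map_smul, hx, algebraMap_smul,
          TensorProduct.tmul_smul]
    rw [key, TensorProduct.smul_tmul', smul_eq_mul, mul_one]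

end Groth.Agent.Lib.KaehlerTensor_helper3
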