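import Mathlib

/-!
# Field extensions in which every element has a power in the base field  (helper3)
-/

universe u

open Polynomial

namespace Groth.Agent.Lib.KaplanskyPowH3

section General

variable {F₀ k k' Ω : Type*} [Field F₀] [Field k] [Field k'] [Field Ω]
  [Algebra k k'] [Algebra k' Ω] [Algebra k Ω] [IsScalarTower k k' Ω]
  [Algebra F₀ Ω]

theorem pow_eq_pow (H : ∀ x : k', ∃ n : ℕ, 0 < n ∧ x ^ n ∈ Set.range (algebraMap k k'))
    (φ : k' →ₐ[k] Ω) (x : k') : ∃ n : ℕ, 0 < n ∧ (φ x) ^ n = (algebraMap k' Ω x) ^ n := by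
  obtain ⟨n, hn, y, hy⟩ := H x
  refine ⟨n, hn, ?_⟩
  rw [← map_pow, ← map_pow, ← hy, φ.commutes, ← IsScalarTower.algebraMap_apply]

theorem ratio_pow (H : ∀ x : k', ∃ n : ℕ, 0 < n ∧ x ^ n ∈ Set.range (algebraMap k k'))
    (φ : k' →ₐ[k] Ω) (x : k') (hx : x ≠ 0) :
    ∃ n : ℕ, 0 < n ∧ (φ x / algebraMap k' Ω x) ^ n = 1 := by
  obtain ⟨n, hn, h⟩ := pow_eq_pow H φ x
  have hx' : algebraMap k' Ω x ≠ 0 := (_root_.map_ne_zero _).2 hx
  exact ⟨n, hn, by rw [div_pow, h, div_self (pow_ne_zero _ hx')]⟩

theorem ratio_integral (H : ∀ x : k', ∃ n : ℕ, 0 < n ∧ x ^ n ∈ Set.range (algebraMap k k'))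
    (φ : k' →ₐ[k] Ω) (x : k') (hx : x ≠ 0) :
    IsIntegral F₀ (φ x / algebraMap k' Ω x) := by
  obtain ⟨n, hn, h⟩ := ratio_pow H φ x hx
  apply IsIntegral.of_pow hn
  rw [h]
  exact isIntegral_one

theorem isIntegral_of_moved
    (H : ∀ x : k', ∃ n : ℕ, 0 < n ∧ x ^ n ∈ Set.range (algebraMap k k'))
    (φ : k' →ₐ[k] Ω) (a : k') (ha : φ a ≠ algebraMap k' Ω a) :
    IsIntegral F₀ (algebraMap k' Ω a) := by
  have ha0 : a ≠ 0 := by
    rintro rfl
    exact ha (by rw [map_zero, map_zero])
  have ha1 : a + 1 ≠ 0 := by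
    intro h
    have h' : a = -1 := eq_neg_of_add_eq_zero_left h
    apply ha
    rw [h', map_neg, map_neg, map_one, map_one]
  have hιa : algebraMap k' Ω a ≠ 0 := (_root_.map_ne_zero _).2 ha0
  have hιa1 : algebraMap k' Ω (a + 1) ≠ 0 := (_root_.map_ne_zero _).2 ha1
  obtain ⟨ζ, hζdef⟩ : ∃ ζ, ζ = φ a / algebraMap k' Ω a := ⟨_, rfl⟩
  obtain ⟨ζ', hζ'def⟩ : ∃ ζ', ζ' = φ (a + 1) / algebraMap k' Ω (a + 1) := ⟨_, rfl⟩
  have hζ : IsIntegral F₀ ζ := hζdef ▸ ratio_integral H φ a ha0
  have hζ' : IsIntegral F₀ ζ' := hζ'def ▸ ratio_integral H φ (a + 1) ha1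
  have h1 : φ a = ζ * algebraMap k' Ω a := by rw [hζdef, div_mul_cancel₀ _ hιa]
  have h2 : φ a + 1 = ζ' * (algebraMap k' Ω a + 1) := by
    have : φ (a + 1) = ζ' * algebraMap k' Ω (a + 1) := by rw [hζ'def, div_mul_cancel₀ _ hιa1]
    rwa [map_add, map_add, map_one, map_one] at this
  have hne : ζ - ζ' ≠ 0 := by
    intro h
    have hz : ζ' = ζ := (sub_eq_zero.1 h).symm
    rw [h1, hz] at h2
    have h3 : ζ = 1 := by linear_combination (-1 : Ω) * h2
    apply ha
    rw [h1, h3, one_mul]
  have h3 : algebraMap k' Ω a = (ζ' - 1) / (ζ - ζ') := by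
    rw [eq_div_iff hne]
    rw [h1] at h2
    linear_combination h2
  rw [h3]
  have m1 : ζ ∈ algebraicClosure F₀ Ω := hζ
  have m2 : ζ' ∈ algebraicClosure F₀ Ω := hζ'
  exact div_mem (sub_mem m2 (one_mem _)) (sub_mem m1 m2)

theorem all_integral [Algebra F₀ k'] [IsScalarTower F₀ k' Ω]
    (H : ∀ x : k', ∃ n : ℕ, 0 < n ∧ x ^ n ∈ Set.range (algebraMap k k'))
    (φ : k' →ₐ[k] Ω) (a : k') (ha : φ a ≠ algebraMap k' Ω a) (x : k') :
    IsIntegral F₀ x := by
  have hinj : Function.Injective (algebraMap k' Ω) := (algebraMap k' Ω).injective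
  have hbase : ∀ c : k, IsIntegral F₀ (algebraMap k' Ω (algebraMap k k' c)) := by
    intro c
    have hac : φ (a + algebraMap k k' c) ≠ algebraMap k' Ω (a + algebraMap k k' c) := by
      rw [map_add, map_add, φ.commutes, ← IsScalarTower.algebraMap_apply]
      intro h
      exact ha (add_right_cancel h)
    have h1 : IsIntegral F₀ (algebraMap k' Ω (a + algebraMap k k' c)) :=
      isIntegral_of_moved H φ _ hac
    have h2 : IsIntegral F₀ (algebraMap k' Ω a) := isIntegral_of_moved H φ a ha
    have := h1.sub h2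
    rwa [map_add, add_sub_cancel_left] at this
  obtain ⟨n, hn, c, hc⟩ := H x
  rw [← isIntegral_algebraMap_iff hinj]
  apply IsIntegral.of_pow hn
  rw [← map_pow, ← hc]
  exact hbase c

end General

section CharZero

variable {k k' Ω : Type*} [Field k] [Field k'] [Field Ω]
  [Algebra k k'] [Algebra k' Ω] [Algebra k Ω] [IsScalarTower k k' Ω]

theorem false_of_charZero [CharZero k']
    (H : ∀ x : k', ∃ n : ℕ, 0 < n ∧ x ^ n ∈ Set.range (algebraMap k k'))
    (φ : k' →ₐ[k] Ω) (a : k') (ha : φ a ≠ algebraMap k' Ω a) : False := by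
  haveI : CharZero Ω := charZero_of_injective_algebraMap (algebraMap k' Ω).injective
  have hinta : IsIntegral ℚ (algebraMap k' Ω a) := isIntegral_of_moved H φ a ha
  have ha0 : a ≠ 0 := by
    rintro rfl
    exact ha (by rw [map_zero, map_zero])
  have hιa : algebraMap k' Ω a ≠ 0 := (_root_.map_ne_zero _).2 ha0
  have hintb : IsIntegral ℚ (φ a) := by
    have h := (ratio_integral (F₀ := ℚ) H φ a ha0).mul hinta
    rwa [div_mul_cancel₀ _ hιa] at h
  let F : IntermediateField ℚ Ω := IntermediateField.adjoin ℚ {algebraMap k' Ω a, φ a}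
  haveI : FiniteDimensional ℚ F := IntermediateField.finiteDimensional_adjoin_pair hinta hintb
  haveI : NumberField F := { to_charZero := inferInstance, to_finiteDimensional := inferInstance }
  have hm1 : algebraMap k' Ω a ∈ F := IntermediateField.subset_adjoin ℚ _ (by simp)
  have hm2 : φ a ∈ F := IntermediateField.subset_adjoin ℚ _ (by simp)
  have hcast : ∀ m : ℕ, ((m : k') : k') = algebraMap k k' (m : k) := fun m => (map_natCast _ m).symm
  have hne : ∀ m : ℕ, a + (m : k') ≠ 0 := by
    intro m h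
    have h' : a = -(m : k') := eq_neg_of_add_eq_zero_left h
    apply ha
    rw [h', map_neg, map_neg, map_natCast, map_natCast]
  have hmem : ∀ m : ℕ, (φ a + (m : Ω)) / (algebraMap k' Ω a + (m : Ω)) ∈ F := fun m =>
    div_mem (add_mem hm2 (natCast_mem F m)) (add_mem hm1 (natCast_mem F m))
  let z : ℕ → F := fun m => ⟨_, hmem m⟩
  have hz : ∀ m : ℕ, ∃ n : ℕ, 0 < n ∧ (z m) ^ n = 1 := by
    intro m
    obtain ⟨n, hn, h⟩ := ratio_pow H φ (a + (m : k')) (hne m)
    refine ⟨n, hn, ?_⟩
    apply Subtype.ext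
    rw [map_add, map_add, map_natCast, map_natCast] at h
    simpa [z] using h
  have hzinj : Function.Injective z := by
    intro m m' hmm
    by_contra hne'
    have h1 : (φ a + (m : Ω)) / (algebraMap k' Ω a + (m : Ω)) =
        (φ a + (m' : Ω)) / (algebraMap k' Ω a + (m' : Ω)) := congrArg Subtype.val hmm
    have e1 : algebraMap k' Ω a + (m : Ω) ≠ 0 := by
      have := (_root_.map_ne_zero (algebraMap k' Ω)).2 (hne m)
      rwa [map_add, map_natCast] at this
    have e2 : algebraMap k' Ω a + (m' : Ω) ≠ 0 := by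
      have := (_root_.map_ne_zero (algebraMap k' Ω)).2 (hne m')
      rwa [map_add, map_natCast] at this
    rw [div_eq_div_iff e1 e2] at h1
    have h2 : (φ a - algebraMap k' Ω a) * ((m' : Ω) - (m : Ω)) = 0 := by linear_combination h1
    rcases mul_eq_zero.1 h2 with h3 | h3
    · exact ha (sub_eq_zero.1 h3)
    · exact hne' (Nat.cast_injective (sub_eq_zero.1 h3)).symm
  have hfin := NumberField.Embeddings.finite_of_norm_le F ℂ 1
  have hsub : Set.range z ⊆ {x : F | IsIntegral ℤ x ∧ ∀ ψ : F →+* ℂ, ‖ψ x‖ ≤ 1} := by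
    rintro _ ⟨m, rfl⟩
    obtain ⟨n, hn, h⟩ := hz m
    refine ⟨IsIntegral.of_pow hn (by rw [h]; exact isIntegral_one), fun ψ => ?_⟩
    have h1 : ‖ψ (z m)‖ ^ n = 1 := by rw [← norm_pow, ← map_pow, h, map_one, norm_one]
    exact ((pow_eq_one_iff_of_nonneg (norm_nonneg _) hn.ne').1 h1).le
  exact (Set.infinite_range_of_injective hzinj) (hfin.subset hsub)

end CharZero

theorem main {k k' : Type u} [Field k] [Field k'] [Algebra k k'] :
    (∀ x : k', ∃ n : ℕ, 0 < n ∧ x ^ n ∈ Set.range (algebraMap k k')) ↔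
      Function.Surjective (algebraMap k k') ∨
        ∃ p : ℕ, p.Prime ∧ CharP k' p ∧
          (IsPurelyInseparable k k' ∨ Algebra.IsAlgebraic (⊥ : Subfield k') k') := by
  constructor
  · intro H
    by_cases hsurj : Function.Surjective (algebraMap k k')
    · exact Or.inl hsurj
    right
    haveI : Algebra.IsAlgebraic k k' := ⟨fun x => by
      obtain ⟨n, hn, y, hy⟩ := H x
      exact (IsIntegral.of_pow hn (hy ▸ isIntegral_algebraMap)).isAlgebraic⟩
    obtain ⟨p, hp⟩ := CharP.exists k'
    haveI := hp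
    by_cases hPI : IsPurelyInseparable k k'
    · rcases CharP.char_is_prime_or_zero k' p with hpp | hp0
      · exact ⟨p, hpp, hp, Or.inl hPI⟩
      · exfalso
        subst hp0
        haveI : CharZero k' := CharP.charP_to_charZero k'
        haveI : CharZero k := (algebraMap k k').charZero
        haveI : Algebra.IsSeparable k k' := Algebra.IsAlgebraic.isSeparable_of_perfectField
        exact hsurj (IsPurelyInseparable.surjective_algebraMap_of_isSeparable k k')
    · have hne : separableClosure k k' ≠ ⊥ := fun h => hPI (separableClosure.eq_bot_iff.1 h)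
      obtain ⟨a, hasep, hak⟩ : ∃ a : k', IsSeparable k a ∧ a ∉ Set.range (algebraMap k k') := by
        by_contra hcon
        push Not at hcon
        apply hne
        rw [eq_bot_iff]
        intro x hx
        rw [IntermediateField.mem_bot]
        exact hcon x (mem_separableClosure_iff.1 hx)
      -- a conjugate of `a`
      let Ω := AlgebraicClosure k'
      have hsplit : ((minpoly k a).map (algebraMap k Ω)).Splits := IsAlgClosed.splits _
      have hcard := card_rootSet_eq_natDegree (K := Ω) hasep hsplit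
      have haint : IsIntegral k a := Algebra.IsIntegral.isIntegral a
      have hdeg : 1 < (minpoly k a).natDegree := by
        have h1 : 0 < (minpoly k a).natDegree := minpoly.natDegree_pos haint
        have h2 : (minpoly k a).natDegree ≠ 1 := by
          intro h
          rw [minpoly.natDegree_eq_one_iff] at h
          exact hak h
        omega
      rw [← hcard] at hdeg
      have hmem : algebraMap k' Ω a ∈ (minpoly k a).rootSet Ω := by
        rw [mem_rootSet_of_ne (minpoly.ne_zero haint), aeval_algebraMap_apply, minpoly.aeval,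
          map_zero]
      obtain ⟨⟨b, hb⟩, hbne⟩ := Fintype.exists_ne_of_one_lt_card hdeg ⟨algebraMap k' Ω a, hmem⟩
      have hbne' : b ≠ algebraMap k' Ω a := fun h => hbne (Subtype.ext h)
      have hbroot : aeval b (minpoly k a) = 0 := (mem_rootSet.1 hb).2
      obtain ⟨φ, hφ⟩ := IntermediateField.exists_algHom_of_splits_of_aeval
        (F := k) (E := k') (K := Ω)
        (fun s => ⟨Algebra.IsIntegral.isIntegral s, IsAlgClosed.splits _⟩) hbroot
      have hmoved : φ a ≠ algebraMap k' Ω a := by rw [hφ]; exact hbne'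
      rcases CharP.char_is_prime_or_zero k' p with hpp | hp0
      · refine ⟨p, hpp, hp, Or.inr ?_⟩
        exact ⟨fun x => (all_integral (F₀ := (⊥ : Subfield k')) H φ a hmoved x).isAlgebraic⟩
      · exfalso
        subst hp0
        haveI : CharZero k' := CharP.charP_to_charZero k'
        exact false_of_charZero H φ a hmoved
  · rintro (hs | ⟨p, hpp, hp, hPI | halg⟩) x
    · obtain ⟨y, rfl⟩ := hs x
      exact ⟨1, one_pos, y, (pow_one _).symm⟩
    · haveI := hp
      haveI : CharP k p := (algebraMap k k').charP (algebraMap k k').injective p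
      haveI : ExpChar k p := ExpChar.prime hpp
      obtain ⟨n, hn⟩ := IsPurelyInseparable.pow_mem k p x
      exact ⟨p ^ n, pow_pos hpp.pos n, RingHom.mem_range.1 hn⟩
    · by_cases hx : x = 0
      · exact ⟨1, one_pos, 0, by rw [hx, map_zero, pow_one]⟩
      haveI := hp
      haveI : Fact p.Prime := ⟨hpp⟩
      letI : Fintype (⊥ : Subfield k') := Subfield.fintypeBot k' p
      haveI : Finite (⊥ : Subfield k') := Finite.of_fintype _
      have hxint : IsIntegral (⊥ : Subfield k') x := (halg.isAlgebraic x).isIntegral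
      let E := IntermediateField.adjoin (⊥ : Subfield k') {x}
      haveI : FiniteDimensional (⊥ : Subfield k') E :=
        IntermediateField.adjoin.finiteDimensional hxint
      haveI : Finite E := Module.finite_of_finite (⊥ : Subfield k')
      have hxE : (⟨x, IntermediateField.mem_adjoin_simple_self _ x⟩ : E) ≠ 0 := by
        intro h
        exact hx (congrArg Subtype.val h)
      obtain ⟨n, hn, hun⟩ := isOfFinOrder_iff_pow_eq_one.1 (isOfFinOrder_of_finite (Units.mk0 _ hxE))
      refine ⟨n, hn, 1, ?_⟩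
      rw [map_one]
      have h1 := congrArg (fun u : Eˣ => ((u : E) : k')) hun
      simpa using h1.symm

end Groth.Agent.Lib.KaplanskyPowH3
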