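import Mathlib

set_option autoImplicit false
universe v u
set_option linter.style.haveILetI false

namespace Groth.Agent.Lib.KaroubiH4

open CategoryTheory Limits Pretriangulated

variable {D : Type u} [Category.{v} D] [Preadditive D] [HasZeroObject D] [HasShift D ℤ]
  [∀ n : ℤ, (shiftFunctor D n).Additive] [Pretriangulated D]

/-- A split monomorphism in a pretriangulated category has an epimorphic weak cokernel. -/
lemma exists_cokernel_of_split {S : D} (s r : S ⟶ S) (h : s ≫ r = 𝟙 S) :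
    ∃ (C : D) (g : S ⟶ C), Epi g ∧ s ≫ g = 0 ∧
      ∀ {Y : D} (t : S ⟶ Y), s ≫ t = 0 → ∃ i : C ⟶ Y, g ≫ i = t := by
  obtain ⟨C, g, h3, hT⟩ := distinguished_cocone_triangle s
  have hm : Mono s := ⟨fun a b hab => by
    have := congrArg (fun k => k ≫ r) hab
    simpa [Category.assoc, h] using this⟩
  refine ⟨C, g, ?_, comp_distTriang_mor_zero₁₂ _ hT, ?_⟩
  · exact (Triangle.mor₃_eq_zero_iff_epi₂ _ hT).1 ((Triangle.mor₃_eq_zero_iff_mono₁ _ hT).2 hm)
  · intro Y t ht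
    obtain ⟨i, hi⟩ := Triangle.yoneda_exact₂ _ hT t ht
    exact ⟨i, hi.symm⟩

section

variable {X : D} [HasCoproduct (fun _ : ℕ => X)]

noncomputable def rfun (e e' : X ⟶ X) : (n : ℕ) → (X ⟶ ∐ (fun _ : ℕ => X))
  | 0 => e' ≫ Sigma.ι (fun _ : ℕ => X) 0
  | (n+1) => e' ≫ Sigma.ι (fun _ : ℕ => X) (n+1) + e ≫ Sigma.ι (fun _ : ℕ => X) n

noncomputable def tfun (e : X ⟶ X) : (n : ℕ) → (X ⟶ X)
  | 0 => e
  | (_+1) => 0

noncomputable def sfun (e e' : X ⟶ X) (n : ℕ) : X ⟶ ∐ (fun _ : ℕ => X) :=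
  e' ≫ Sigma.ι (fun _ : ℕ => X) n + e ≫ Sigma.ι (fun _ : ℕ => X) (n+1)

theorem split_aux (e e' : X ⟶ X) (he : e ≫ e = e) (h1 : e' ≫ e' = e') (h2 : e ≫ e' = 0)
    (h3 : e' ≫ e = 0) (h4 : e + e' = 𝟙 X) :
    ∃ (Y : D) (i : Y ⟶ X) (p : X ⟶ Y), i ≫ p = 𝟙 Y ∧ p ≫ i = e := by
  have hea : ∀ {Z : D} (k : X ⟶ Z), e ≫ e ≫ k = e ≫ k := fun k => by
    rw [← Category.assoc, he]
  have h1a : ∀ {Z : D} (k : X ⟶ Z), e' ≫ e' ≫ k = e' ≫ k := fun k => by
    rw [← Category.assoc, h1]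
  have h2a : ∀ {Z : D} (k : X ⟶ Z), e ≫ e' ≫ k = 0 := fun k => by
    rw [← Category.assoc, h2, zero_comp]
  have h3a : ∀ {Z : D} (k : X ⟶ Z), e' ≫ e ≫ k = 0 := fun k => by
    rw [← Category.assoc, h3, zero_comp]
  have h4a : ∀ {Z : D} (k : X ⟶ Z), e ≫ k + e' ≫ k = k := fun k => by
    rw [← Preadditive.add_comp, h4, Category.id_comp]
  let s : ∐ (fun _ : ℕ => X) ⟶ ∐ (fun _ : ℕ => X) := Sigma.desc (sfun e e')
  let r : ∐ (fun _ : ℕ => X) ⟶ ∐ (fun _ : ℕ => X) := Sigma.desc (rfun e e')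
  let t : ∐ (fun _ : ℕ => X) ⟶ X := Sigma.desc (tfun e)
  have hs : ∀ n, Sigma.ι (fun _ : ℕ => X) n ≫ s = sfun e e' n := fun n => Sigma.ι_desc _ _
  have hr : ∀ n, Sigma.ι (fun _ : ℕ => X) n ≫ r = rfun e e' n := fun n => Sigma.ι_desc _ _
  have ht : ∀ n, Sigma.ι (fun _ : ℕ => X) n ≫ t = tfun e n := fun n => Sigma.ι_desc _ _
  have hsr : s ≫ r = 𝟙 _ := by
    refine Sigma.hom_ext _ _ (fun n => ?_)
    rw [← Category.assoc, hs, Category.comp_id]
    unfold sfun
    rw [Preadditive.add_comp, Category.assoc, Category.assoc, hr, hr]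
    cases n with
    | zero =>
      simp only [rfun, Preadditive.comp_add, h1a, h2a, h3a, hea, zero_add, add_zero]
      rw [add_comm, h4a]
    | succ n =>
      simp only [rfun, Preadditive.comp_add, h1a, h2a, h3a, hea, zero_add, add_zero]
      rw [add_comm, h4a]
  have hst : s ≫ t = 0 := by
    refine Sigma.hom_ext _ _ (fun n => ?_)
    rw [← Category.assoc, hs, comp_zero]
    unfold sfun
    rw [Preadditive.add_comp, Category.assoc, Category.assoc, ht, ht]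
    cases n <;> simp only [tfun, h3, comp_zero, add_zero]
  obtain ⟨C, g, hepi, hsg, hfac⟩ := exists_cokernel_of_split s r hsr
  obtain ⟨i, hi⟩ := hfac t hst
  have key0 : e' ≫ Sigma.ι (fun _ : ℕ => X) 0 ≫ g = 0 := by
    have h0 : (e' ≫ Sigma.ι (fun _ : ℕ => X) 0) ≫ s = e' ≫ Sigma.ι (fun _ : ℕ => X) 0 := by
      rw [Category.assoc, hs]
      unfold sfun
      rw [Preadditive.comp_add, h1a, h3a, add_zero]
    calc e' ≫ Sigma.ι (fun _ : ℕ => X) 0 ≫ g
        = ((e' ≫ Sigma.ι (fun _ : ℕ => X) 0) ≫ s) ≫ g := by rw [h0, Category.assoc]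
      _ = 0 := by rw [Category.assoc, hsg, comp_zero]
  have keyS : ∀ n : ℕ, Sigma.ι (fun _ : ℕ => X) (n+1) ≫ g = 0 := by
    intro n
    have h0 : (e ≫ Sigma.ι (fun _ : ℕ => X) n + e' ≫ Sigma.ι (fun _ : ℕ => X) (n+1)) ≫ s
        = Sigma.ι (fun _ : ℕ => X) (n+1) := by
      rw [Preadditive.add_comp, Category.assoc, Category.assoc, hs, hs]
      unfold sfun
      simp only [Preadditive.comp_add, h1a, h2a, h3a, hea, zero_add, add_zero]
      rw [h4a]
    calc Sigma.ι (fun _ : ℕ => X) (n+1) ≫ g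
        = ((e ≫ Sigma.ι (fun _ : ℕ => X) n + e' ≫ Sigma.ι (fun _ : ℕ => X) (n+1)) ≫ s) ≫ g := by
          rw [h0]
      _ = 0 := by rw [Category.assoc, hsg, comp_zero]
  refine ⟨C, i, Sigma.ι (fun _ : ℕ => X) 0 ≫ g, ?_, ?_⟩
  · rw [← cancel_epi g, ← Category.assoc, hi, Category.comp_id]
    refine Sigma.hom_ext _ _ (fun n => ?_)
    rw [← Category.assoc, ht]
    cases n with
    | zero =>
      simp only [tfun]
      have := h4a (Sigma.ι (fun _ : ℕ => X) 0 ≫ g)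
      rw [key0, add_zero] at this
      exact this
    | succ n =>
      simp only [tfun]
      rw [zero_comp, keyS]
  · rw [Category.assoc, hi, ht]
    simp only [tfun]

end

theorem isIdempotentComplete_of_coprod [HasColimitsOfShape (Discrete ℕ) D] :
    IsIdempotentComplete D :=
  ⟨fun X e he => by
    obtain ⟨Y, i, p, h1, h2⟩ := split_aux (X := X) e (𝟙 X - e) he
      (by simp [Preadditive.sub_comp, Preadditive.comp_sub, he])
      (by simp [Preadditive.comp_sub, he])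
      (by simp [Preadditive.sub_comp, he])
      (by abel)
    exact ⟨Y, i, p, h1, h2⟩⟩

section

open Pretriangulated.Opposite

theorem isIdempotentComplete_of_prod [HasLimitsOfShape (Discrete ℕ) D] :
    IsIdempotentComplete D := by
  rw [← Idempotents.isIdempotentComplete_iff_opposite]
  exact isIdempotentComplete_of_coprod (D := Dᵒᵖ)

end

end Groth.Agent.Lib.KaroubiH4
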