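import Mathlib

/-!
# Integration operators on torsion modules with Weyl-algebra-like actions (helper1)

`A` a commutative ring, `x : Fin d → A`, `M` an `A`-module with additive operators `D i` with
`D i (x j • z) = δ_ij z + x j • D i z`, every element killed by a power of each `x i`, and inverses
of factorials `c n` in `A`.  Then the Koszul `H¹` of `x` on `M` vanishes:
`exists_common_preimage`: for `z : Fin d → M` with `x a • z b = x b • z a` there is `m` with
`x i • m = z i`.
-/

set_option autoImplicit false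

namespace Groth.Agent.Lib.KashiwaraH1

section general

variable {A : Type*} [CommRing A] {M : Type*} [AddCommGroup M] [Module A M] {d : ℕ}
  (x : Fin d → A) (D : Fin d → M →+ M) (c : ℕ → A)

/-- the terms `-(c (n+1)) D^{n+1} x^n w` of the integration operator. -/
noncomputable def Uop (j : Fin d) (n : ℕ) (w : M) : M :=
  -(c (n + 1) • (⇑(D j))^[n + 1] (x j ^ n • w))

/-- the terms `c n D^n x^n w`. -/
noncomputable def Top (j : Fin d) (n : ℕ) (w : M) : M :=
  c n • (⇑(D j))^[n] (x j ^ n • w)

/-- the integration operator (truncated at `N`). -/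
noncomputable def Sop (j : Fin d) (N : ℕ) (w : M) : M :=
  ∑ n ∈ Finset.range N, Uop x D c j n w

variable {x D c}

lemma Uop_zero (j : Fin d) (n : ℕ) : Uop x D c j n (0 : M) = 0 := by
  unfold Uop
  rw [smul_zero, iterate_map_zero, smul_zero, neg_zero]

lemma Sop_zero (j : Fin d) (N : ℕ) : Sop x D c j N (0 : M) = 0 := by
  unfold Sop
  exact Finset.sum_eq_zero fun n _ => Uop_zero j n

variable (hD : ∀ (i j : Fin d) (z : M), D i (x j • z) = (if i = j then z else 0) + x j • D i z)

include hD in
lemma iter_smul_self (j : Fin d) (m : ℕ) (v : M) :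
    (⇑(D j))^[m + 1] (x j • v) = x j • (⇑(D j))^[m + 1] v + (m + 1) • (⇑(D j))^[m] v := by
  induction m with
  | zero =>
    have e1 : (⇑(D j))^[0 + 1] (x j • v) = D j (x j • v) := rfl
    have e2 : (⇑(D j))^[0 + 1] v = D j v := rfl
    have e3 : (⇑(D j))^[0] v = v := rfl
    rw [e1, e2, e3, hD, if_pos rfl, zero_add, one_smul, add_comm]
  | succ m ih =>
    have e1 : (⇑(D j))^[m + 1 + 1] (x j • v) = D j ((⇑(D j))^[m + 1] (x j • v)) :=
      Function.iterate_succ_apply' _ _ _
    have e2 : (⇑(D j))^[m + 1 + 1] v = D j ((⇑(D j))^[m + 1] v) :=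
      Function.iterate_succ_apply' _ _ _
    have e3 : (⇑(D j))^[m + 1] v = D j ((⇑(D j))^[m] v) :=
      Function.iterate_succ_apply' _ _ _
    rw [e1, ih, map_add, map_nsmul, hD, if_pos rfl, e2, ← e3, add_smul (m + 1) 1, one_smul]
    abel

include hD in
lemma iter_smul_other (i j : Fin d) (hij : j ≠ i) (m : ℕ) (v : M) :
    (⇑(D j))^[m] (x i • v) = x i • (⇑(D j))^[m] v := by
  induction m with
  | zero => rfl
  | succ m ih =>
    have e1 : (⇑(D j))^[m + 1] (x i • v) = D j ((⇑(D j))^[m] (x i • v)) :=
      Function.iterate_succ_apply' _ _ _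
    have e2 : (⇑(D j))^[m + 1] v = D j ((⇑(D j))^[m] v) :=
      Function.iterate_succ_apply' _ _ _
    rw [e1, ih, hD, if_neg hij, zero_add, e2]

variable (hc0 : c 0 = 1) (hc : ∀ n, c (n + 1) * ((n + 1 : ℕ) : A) = c n)

include hD hc in
lemma smul_Uop (j : Fin d) (n : ℕ) (w : M) :
    x j • Uop x D c j n w = Top x D c j n w - Top x D c j (n + 1) w := by
  unfold Uop Top
  have h1 := iter_smul_self hD j n (x j ^ n • w)
  have h2 : x j • x j ^ n • w = x j ^ (n + 1) • w := by
    rw [pow_succ', mul_smul]
  rw [h2] at h1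
  have h3 : x j • (⇑(D j))^[n + 1] (x j ^ n • w) =
      (⇑(D j))^[n + 1] (x j ^ (n + 1) • w) - (n + 1) • (⇑(D j))^[n] (x j ^ n • w) := by
    rw [h1]; abel
  rw [smul_neg, smul_comm, h3, smul_sub, ← Nat.cast_smul_eq_nsmul A (n + 1), smul_smul, hc n]
  abel

include hD hc0 hc in
lemma smul_Sop (j : Fin d) (N : ℕ) (w : M) (hN : x j ^ N • w = 0) :
    x j • Sop x D c j N w = w := by
  unfold Sop
  rw [Finset.smul_sum, Finset.sum_congr rfl (fun n _ => smul_Uop hD hc j n w),
    Finset.sum_range_sub']
  have h0 : Top x D c j 0 w = w := by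
    unfold Top
    rw [hc0, one_smul, pow_zero, one_smul]
    rfl
  have hN' : Top x D c j N w = 0 := by
    unfold Top
    rw [hN, iterate_map_zero, smul_zero]
  rw [h0, hN', sub_zero]

include hD in
lemma smul_Uop_other (i j : Fin d) (hij : j ≠ i) (n : ℕ) (w : M) :
    x i • Uop x D c j n w = Uop x D c j n (x i • w) := by
  unfold Uop
  rw [smul_neg, smul_comm, ← iter_smul_other hD i j hij, smul_comm (x i) (x j ^ n) w]

include hD in
lemma smul_Sop_other (i j : Fin d) (hij : j ≠ i) (N : ℕ) (w : M) :
    x i • Sop x D c j N w = Sop x D c j N (x i • w) := by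
  unfold Sop
  rw [Finset.smul_sum]
  exact Finset.sum_congr rfl fun n _ => smul_Uop_other hD i j hij n w

include hD hc0 hc in
theorem exists_common_preimage_aux (htors : ∀ (i : Fin d) (z : M), ∃ N : ℕ, x i ^ N • z = 0) :
    ∀ (r : ℕ) (z : Fin d → M), (∀ a b, x a • z b = x b • z a) →
      (∀ i : Fin d, i.val + r < d → z i = 0) → ∃ m : M, ∀ i, x i • m = z i := by
  intro r
  induction r with
  | zero =>
    intro z _ hz
    refine ⟨0, fun i => ?_⟩
    rw [smul_zero, hz i (by have := i.isLt; omega)]
  | succ r ih =>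
    intro z hcompat hz
    by_cases hr : r + 1 ≤ d
    · let j : Fin d := ⟨d - (r + 1), by omega⟩
      have hjval : j.val = d - (r + 1) := rfl
      obtain ⟨N, hN⟩ := htors j (z j)
      have h1 : x j • Sop x D c j N (z j) = z j := smul_Sop hD hc0 hc j N (z j) hN
      have h2 : ∀ i : Fin d, i.val < j.val → x i • Sop x D c j N (z j) = 0 := by
        intro i hi
        have hij : j ≠ i := by
          intro h
          rw [h] at hi
          exact lt_irrefl _ hi
        rw [smul_Sop_other hD i j hij, hcompat i j, hz i (by omega), smul_zero, Sop_zero]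
      obtain ⟨m', hm'⟩ := ih (fun i => z i - x i • Sop x D c j N (z j))
        (fun a b => by
          rw [smul_sub, smul_sub, hcompat a b, smul_comm (x a) (x b)])
        (fun i hi => by
          rcases Nat.lt_or_ge i.val j.val with hlt | hge
          · rw [hz i (by omega), h2 i hlt, sub_zero]
          · have hij : i = j := Fin.ext (by omega)
            rw [hij, h1, sub_self])
      refine ⟨m' + Sop x D c j N (z j), fun i => ?_⟩
      rw [smul_add, hm' i, sub_add_cancel]
    · exact ih z hcompat (fun i hi => absurd hi (by omega))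

include hD hc0 hc in
/-- vanishing of the Koszul `H¹`: a compatible family `z` is of the form `x i • m`. -/
theorem exists_common_preimage (htors : ∀ (i : Fin d) (z : M), ∃ N : ℕ, x i ^ N • z = 0)
    (z : Fin d → M) (hcompat : ∀ a b, x a • z b = x b • z a) : ∃ m : M, ∀ i, x i • m = z i :=
  exists_common_preimage_aux hD hc0 hc htors d z hcompat (fun i hi => absurd hi (by omega))

end general

section span

variable {A : Type*} [CommRing A] {M : Type*} [AddCommGroup M] [Module A M]

/-- a linear map on an ideal generated by `S` which is multiplication by `m` on `S` is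
multiplication by `m`. -/
lemma eq_smul_of_span (I : Ideal A) (S : Set A) (hS : I ≤ Ideal.span S) (hSI : S ⊆ I)
    (φ : ↥I →ₗ[A] M) (m : M) (h : ∀ s (hs : s ∈ S), φ ⟨s, hSI hs⟩ = s • m) :
    ∀ (a : A) (ha : a ∈ I), φ ⟨a, ha⟩ = a • m := by
  intro a ha
  have hle : Ideal.span S ≤ I := Ideal.span_le.mpr hSI
  have key : ∀ b (_ : b ∈ Ideal.span S), ∀ hb' : b ∈ I, φ ⟨b, hb'⟩ = b • m := by
    intro b hb
    induction hb using Submodule.span_induction with
    | mem s hs => intro hb'; exact h s hs
    | zero =>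
      intro hb'
      rw [zero_smul]
      exact map_zero φ
    | add y z hy hz ihy ihz =>
      intro hb'
      have hyI : y ∈ I := hle hy
      have hzI : z ∈ I := hle hz
      have e : (⟨y + z, hb'⟩ : I) = ⟨y, hyI⟩ + ⟨z, hzI⟩ := rfl
      rw [e, map_add, ihy hyI, ihz hzI, add_smul]
    | smul c y hy ihy =>
      intro hb'
      have hyI : y ∈ I := hle hy
      have e : (⟨c • y, hb'⟩ : I) = c • ⟨y, hyI⟩ := rfl
      rw [e, map_smul, ihy hyI, smul_eq_mul, mul_smul]
  exact key a (hS ha) ha

end span

end Groth.Agent.Lib.KashiwaraH1
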