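import Mathlib

namespace Groth.Agent.Lib.KatoDiv

universe u v

theorem main
    {A : Type u} [AddCommGroup A] (P : Set ℕ) (hP : ∀ p ∈ P, p.Prime)
    (IP : Set ℕ) (hIP : ∀ n, n ∈ IP ↔ 0 < n ∧ ∀ p : ℕ, p.Prime → p ∣ n → p ∈ P)
    (B : IP → Type v) [∀ n, AddCommGroup (B n)]
    (g : ∀ ⦃m n : IP⦄, (m : ℕ) ∣ (n : ℕ) → (B n →+ B m))
    (hgid : ∀ (n : IP) (b : B n), g (dvd_refl (n : ℕ)) b = b)
    (hgcomp : ∀ (k m n : IP) (hkm : (k : ℕ) ∣ (m : ℕ)) (hmn : (m : ℕ) ∣ (n : ℕ)) (b : B n),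
      g hkm (g hmn b) = g (hkm.trans hmn) b)
    (φ : ∀ n : IP, A →+ B n) (hφ : ∀ (n : IP) (a : A), φ n ((n : ℕ) • a) = 0)
    (hφg : ∀ (m n : IP) (h : (m : ℕ) ∣ (n : ℕ)) (a : A), g h (φ n a) = φ m a)
    (N : ℕ) (hN : N ∈ IP)
    (htor : ∀ b : ∀ n : IP, B n, (∀ (m n : IP) (h : (m : ℕ) ∣ (n : ℕ)), g h (b n) = b m) →
      (∃ k : ℕ, 0 < k ∧ ∀ n, k • b n = 0) → ∀ n, N • b n = 0)
    (hker : ∀ a : IP → A, (∀ m n : IP, (m : ℕ) ∣ (n : ℕ) → ∃ c : A, a n - a m = (m : ℕ) • c) →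
      (∀ n, φ n (a n) = 0) → ∀ n : IP, ∃ c : A, N • a n = (n : ℕ) • c) :
    (∀ ℓ ∈ P, ∀ x : A, (∀ n ∈ IP, ∃ y : A, x = n • y) →
        ∃ y : A, (∀ n ∈ IP, ∃ z : A, y = n • z) ∧ ℓ • y = x) ∧
    (∀ H : AddSubgroup A, (∀ ℓ ∈ P, ∀ x ∈ H, ∃ y ∈ H, ℓ • y = x) →
        ∀ x ∈ H, ∀ n ∈ IP, ∃ y : A, x = n • y) := by
  constructor
  · intro ℓ hℓ x hx
    have hℓprime := hP ℓ hℓ
    have hNpos : 0 < N := ((hIP N).mp hN).1
    have hNP : ∀ p : ℕ, p.Prime → p ∣ N → p ∈ P := ((hIP N).mp hN).2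
    have hMpos : 0 < ℓ * (N * N) := Nat.mul_pos hℓprime.pos (Nat.mul_pos hNpos hNpos)
    have hM : ℓ * (N * N) ∈ IP := by
      rw [hIP]
      refine ⟨hMpos, ?_⟩
      intro p hp hdvd
      rcases (hp.dvd_mul).mp hdvd with h1 | h1
      · have : p = ℓ := (Nat.prime_dvd_prime_iff_eq hp hℓprime).mp h1
        rw [this]; exact hℓ
      · rcases (hp.dvd_mul).mp h1 with h2 | h2
        · exact hNP p hp h2
        · exact hNP p hp h2
    obtain ⟨u, hu⟩ := hx _ hM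
    have hb : ∀ n : IP, N • φ n u = 0 := by
      refine htor (fun n => φ n u) (fun m n h => hφg m n h u) ⟨ℓ * (N * N), hMpos, ?_⟩
      intro n
      show (ℓ * (N * N)) • φ n u = 0
      rw [← map_nsmul (φ n) (ℓ * (N * N)) u, ← hu]
      obtain ⟨y, hy⟩ := hx n n.2
      rw [hy]
      exact hφ n y
    have hc := hker (fun _ => N • u) (fun m n _ => ⟨0, by simp⟩)
      (fun n => by
        show φ n (N • u) = 0
        rw [map_nsmul]; exact hb n)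
    refine ⟨N • (N • u), ?_, ?_⟩
    · intro n hn
      obtain ⟨c, hc'⟩ := hc ⟨n, hn⟩
      exact ⟨c, hc'⟩
    · rw [hu, mul_nsmul', mul_nsmul']
  · intro H hH
    have key : ∀ n : ℕ, n ∈ IP → ∀ x ∈ H, ∃ y ∈ H, x = n • y := by
      intro n
      induction n using Nat.strong_induction_on with
      | _ n ih =>
        intro hn x hxH
        rcases (hIP n).mp hn with ⟨hpos, hprimes⟩
        by_cases h1 : n = 1
        · subst h1
          exact ⟨x, hxH, (one_nsmul x).symm⟩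
        · obtain ⟨p, hp, m, hm⟩ := Nat.exists_prime_and_dvd h1
          subst hm
          have hpP : p ∈ P := hprimes p hp (dvd_mul_right p m)
          have hmpos : 0 < m := Nat.pos_of_ne_zero (by rintro rfl; simp at hpos)
          have hmlt : m < p * m := by nlinarith [hp.two_le, hmpos]
          have hmIP : m ∈ IP :=
            (hIP m).mpr ⟨hmpos, fun q hq hqm => hprimes q hq (Dvd.dvd.mul_left hqm p)⟩
          obtain ⟨y1, hy1H, hy1⟩ := hH p hpP x hxH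
          obtain ⟨y2, hy2H, hy2⟩ := ih m hmlt hmIP y1 hy1H
          exact ⟨y2, hy2H, by rw [← hy1, hy2, mul_nsmul']⟩
    intro x hxH n hn
    obtain ⟨y, _, hy⟩ := key n hn x hxH
    exact ⟨y, hy⟩

end Groth.Agent.Lib.KatoDiv
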