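import Mathlib

namespace Groth.Agent.Lib.KatoSec

lemma bezout_smul {G : Type*} [AddCommGroup G] (n n' : ℕ) (hc : Nat.Coprime n n') (x : G) :
    ∃ u v : ℤ, x = n • (u • x) + n' • (v • x) := by
  refine ⟨Nat.gcdA n n', Nat.gcdB n n', ?_⟩
  have h := Nat.gcd_eq_gcd_ab n n'
  rw [hc.gcd_eq_one] at h
  have h2 : x = ((n : ℤ) * Nat.gcdA n n' + (n' : ℤ) * Nat.gcdB n n') • x := by
    rw [← h]; simp
  rw [add_smul, mul_smul, mul_smul, natCast_zsmul, natCast_zsmul] at h2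
  exact h2

lemma div_num {A : Type*} [AddCommGroup A] (P : Set ℕ) (K : AddSubgroup A)
    (hD : ∀ ℓ ∈ P, ∀ x ∈ K, ∃ y ∈ K, ℓ • y = x) :
    ∀ n : ℕ, 0 < n → (∀ p : ℕ, p.Prime → p ∣ n → p ∈ P) → ∀ x ∈ K, ∃ y ∈ K, n • y = x := by
  intro n
  induction n using Nat.strong_induction_on with
  | _ n ih =>
    intro hpos hprimes x hxK
    by_cases h1 : n = 1
    · subst h1
      exact ⟨x, hxK, one_nsmul x⟩
    · obtain ⟨p, hp, m, hm⟩ := Nat.exists_prime_and_dvd h1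
      subst hm
      have hpP : p ∈ P := hprimes p hp (dvd_mul_right p m)
      have hmpos : 0 < m := Nat.pos_of_ne_zero (by rintro rfl; simp at hpos)
      have hmlt : m < p * m := by nlinarith [hp.two_le, hmpos]
      obtain ⟨y1, hy1K, hy1⟩ := hD p hpP x hxK
      obtain ⟨y2, hy2K, hy2⟩ := ih m hmlt hmpos
        (fun q hq hqm => hprimes q hq (Dvd.dvd.mul_left hqm p)) y1 hy1K
      exact ⟨y2, hy2K, by rw [mul_nsmul', hy2, hy1]⟩

lemma factor (P : Set ℕ) : ∀ N : ℕ, 0 < N → ∃ n n' : ℕ, N = n * n' ∧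
    (0 < n ∧ ∀ p : ℕ, p.Prime → p ∣ n → p ∈ P) ∧
    (0 < n' ∧ ∀ p : ℕ, p.Prime → p ∣ n' → p ∉ P) := by
  intro N
  induction N using Nat.strong_induction_on with
  | _ N ih =>
    intro hpos
    by_cases h1 : N = 1
    · subst h1
      refine ⟨1, 1, rfl, ⟨Nat.one_pos, ?_⟩, ⟨Nat.one_pos, ?_⟩⟩
      · intro p hp hd; exact absurd (Nat.dvd_one.mp hd) hp.ne_one
      · intro p hp hd; exact absurd (Nat.dvd_one.mp hd) hp.ne_one
    · obtain ⟨p, hp, m, hm⟩ := Nat.exists_prime_and_dvd h1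
      subst hm
      have hmpos : 0 < m := Nat.pos_of_ne_zero (by rintro rfl; simp at hpos)
      have hmlt : m < p * m := by nlinarith [hp.two_le, hmpos]
      obtain ⟨n, n', hnn, ⟨hn0, hn⟩, ⟨hn'0, hn'⟩⟩ := ih m hmlt hmpos
      by_cases hpP : p ∈ P
      · refine ⟨p * n, n', by rw [hnn, mul_assoc], ⟨Nat.mul_pos hp.pos hn0, ?_⟩, ⟨hn'0, hn'⟩⟩
        intro q hq hd
        rcases (hq.dvd_mul).mp hd with h | h
        · rw [(Nat.prime_dvd_prime_iff_eq hq hp).mp h]; exact hpP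
        · exact hn q hq h
      · refine ⟨n, p * n', by rw [hnn]; ring, ⟨hn0, hn⟩, ⟨Nat.mul_pos hp.pos hn'0, ?_⟩⟩
        intro q hq hd
        rcases (hq.dvd_mul).mp hd with h | h
        · rw [(Nat.prime_dvd_prime_iff_eq hq hp).mp h]; exact hpP
        · exact hn' q hq h

lemma inter_zero {T : Type*} [AddCommGroup T] (P : Set ℕ) (t : T)
    (h1 : ∃ n : ℕ, 0 < n ∧ (∀ p : ℕ, p.Prime → p ∣ n → p ∈ P) ∧ n • t = 0)
    (h2 : ∃ n : ℕ, 0 < n ∧ (∀ p : ℕ, p.Prime → p ∣ n → p ∉ P) ∧ n • t = 0) : t = 0 := by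
  obtain ⟨n, -, hn, hnt⟩ := h1
  obtain ⟨n', -, hn', hn't⟩ := h2
  have hc : Nat.Coprime n n' :=
    Nat.coprime_of_dvd (fun k hk hkn hkn' => hn' k hk hkn' (hn k hk hkn))
  obtain ⟨u, v, huv⟩ := bezout_smul n n' hc t
  rw [smul_comm n u t, hnt, smul_zero, smul_comm n' v t, hn't, smul_zero, add_zero] at huv
  exact huv

lemma exists_complement {A T : Type*} [AddCommGroup A] [AddCommGroup T] (P : Set ℕ)
    (π : A →+ T) (hπ : Function.Surjective π)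
    (hK : ∀ n : ℕ, 0 < n → (∀ p : ℕ, p.Prime → p ∣ n → p ∈ P) →
      ∀ x ∈ π.ker, ∃ y ∈ π.ker, n • y = x)
    (TP : AddSubgroup T)
    (hTP : ∀ t ∈ TP, ∃ n : ℕ, 0 < n ∧ (∀ p : ℕ, p.Prime → p ∣ n → p ∈ P) ∧ n • t = 0) :
    ∃ C : AddSubgroup A, C ⊓ π.ker = ⊥ ∧ C ≤ TP.comap π ∧ ∀ t ∈ TP, ∃ c ∈ C, π c = t := by
  classical
  obtain ⟨S, hS⟩ : ∃ S : Set (AddSubgroup A),
      ∀ C, C ∈ S ↔ (C ⊓ π.ker = ⊥ ∧ C ≤ TP.comap π) :=
    ⟨{C | C ⊓ π.ker = ⊥ ∧ C ≤ TP.comap π}, fun C => Iff.rfl⟩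
  have hbot : (⊥ : AddSubgroup A) ∈ S := (hS _).mpr ⟨bot_inf_eq _, bot_le⟩
  have ih : ∀ c ⊆ S, IsChain (· ≤ ·) c → ∀ y ∈ c, ∃ ub ∈ S, ∀ z ∈ c, z ≤ ub := by
    intro c hcS hchain y hy
    refine ⟨sSup c, (hS _).mpr ⟨?_, sSup_le (fun s hs => ((hS _).mp (hcS hs)).2)⟩,
      fun z hz => le_sSup hz⟩
    rw [AddSubgroup.eq_bot_iff_forall]
    intro x hx
    obtain ⟨hx1, hx2⟩ := AddSubgroup.mem_inf.mp hx
    obtain ⟨s, hs, hxs⟩ :=
      (AddSubgroup.mem_sSup_of_directedOn ⟨y, hy⟩ hchain.directedOn).mp hx1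
    have hmem : x ∈ s ⊓ π.ker := AddSubgroup.mem_inf.mpr ⟨hxs, hx2⟩
    rw [((hS _).mp (hcS hs)).1] at hmem
    exact AddSubgroup.mem_bot.mp hmem
  obtain ⟨C, -, hCmax⟩ := zorn_le_nonempty₀ S ih ⊥ hbot
  have hCS : C ⊓ π.ker = ⊥ ∧ C ≤ TP.comap π := (hS _).mp hCmax.prop
  refine ⟨C, hCS.1, hCS.2, ?_⟩
  intro t ht
  by_contra hno
  obtain ⟨N, hNpos, hNP, hNt⟩ := hTP t ht
  have hJ : ∃ j : ℕ, 0 < j ∧ ∃ c ∈ C, π c = j • t :=
    ⟨N, hNpos, 0, C.zero_mem, by rw [map_zero, hNt]⟩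
  obtain ⟨n, ⟨hnpos, cn, hcnC, hcn⟩, hmin⟩ : ∃ n : ℕ, (0 < n ∧ ∃ c ∈ C, π c = n • t) ∧
      ∀ j < n, ¬ (0 < j ∧ ∃ c ∈ C, π c = j • t) :=
    ⟨Nat.find hJ, Nat.find_spec hJ, fun j hj => Nat.find_min hJ hj⟩
  have hdiv : ∀ m : ℤ, (∃ c ∈ C, π c = m • t) → (n : ℤ) ∣ m := by
    rintro m ⟨c, hcC, hc⟩
    by_contra hnd
    have hnz : (n : ℤ) ≠ 0 := by exact_mod_cast hnpos.ne'
    have hr0 : 0 ≤ m % (n : ℤ) := Int.emod_nonneg m hnz
    have hrlt : m % (n : ℤ) < n := Int.emod_lt_of_pos m (by exact_mod_cast hnpos)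
    have hrne : m % (n : ℤ) ≠ 0 := fun h => hnd (Int.dvd_of_emod_eq_zero h)
    obtain ⟨r, hr⟩ := Int.eq_ofNat_of_zero_le hr0
    have hrpos : 0 < r := by omega
    have hrn : r < n := by omega
    have hdec : m = (r : ℤ) + (n : ℤ) * (m / (n : ℤ)) := by
      rw [← hr]; exact (Int.emod_add_mul_ediv m n).symm
    apply hmin r hrn
    refine ⟨hrpos, c - (m / (n : ℤ)) • cn, C.sub_mem hcC (C.zsmul_mem hcnC _), ?_⟩
    rw [map_sub, map_zsmul, hc, hcn]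
    have hmt : m • t = (r : ℤ) • t + (m / (n : ℤ)) • ((n : ℤ) • t) := by
      conv_lhs => rw [hdec]
      rw [add_smul, mul_comm (n : ℤ) (m / (n : ℤ)), mul_smul]
    rw [hmt, natCast_zsmul, natCast_zsmul]
    abel
  have hnN : n ∣ N := by
    have h := hdiv (N : ℤ) ⟨0, C.zero_mem, by rw [map_zero, natCast_zsmul, hNt]⟩
    exact Int.natCast_dvd_natCast.mp h
  have hnP : ∀ p : ℕ, p.Prime → p ∣ n → p ∈ P := fun p hp hpn => hNP p hp (hpn.trans hnN)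
  obtain ⟨a0, ha0⟩ := hπ t
  have hker0 : n • a0 - cn ∈ π.ker := by
    rw [AddMonoidHom.mem_ker, map_sub, map_nsmul, ha0, hcn, sub_self]
  obtain ⟨k, hkK, hk⟩ := hK n hnpos hnP _ hker0
  have hπa : π (a0 - k) = t := by
    rw [map_sub, ha0, AddMonoidHom.mem_ker.mp hkK, sub_zero]
  have hna : n • (a0 - k) = cn := by
    rw [smul_sub, hk]; abel
  have hC'S : C ⊔ AddSubgroup.zmultiples (a0 - k) ∈ S := by
    refine (hS _).mpr ⟨?_, sup_le hCS.2 (AddSubgroup.zmultiples_le_of_mem ?_)⟩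
    · rw [AddSubgroup.eq_bot_iff_forall]
      intro x hx
      obtain ⟨hx1, hx2⟩ := AddSubgroup.mem_inf.mp hx
      obtain ⟨c', hc'C, z, hz, rfl⟩ := AddSubgroup.mem_sup.mp hx1
      obtain ⟨m, rfl⟩ := AddSubgroup.mem_zmultiples_iff.mp hz
      have hπx : π c' + m • t = 0 := by
        have h := AddMonoidHom.mem_ker.mp hx2
        rw [map_add, map_zsmul, hπa] at h
        exact h
      have hm : (n : ℤ) ∣ m := by
        apply hdiv m
        refine ⟨-c', C.neg_mem hc'C, ?_⟩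
        rw [map_neg]
        calc -π c' = -π c' + (π c' + m • t) := by rw [hπx, add_zero]
          _ = m • t := by abel
      obtain ⟨j, rfl⟩ := hm
      have hmem : ((n : ℤ) * j) • (a0 - k) ∈ C := by
        rw [mul_comm, mul_smul, natCast_zsmul, hna]
        exact C.zsmul_mem hcnC j
      have hxC : c' + ((n : ℤ) * j) • (a0 - k) ∈ C ⊓ π.ker :=
        AddSubgroup.mem_inf.mpr ⟨C.add_mem hc'C hmem, hx2⟩
      rw [hCS.1] at hxC
      exact AddSubgroup.mem_bot.mp hxC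
    · show π (a0 - k) ∈ TP
      rw [hπa]; exact ht
  have hle : C ⊔ AddSubgroup.zmultiples (a0 - k) ≤ C := hCmax.le_of_ge hC'S le_sup_left
  have haC : a0 - k ∈ C :=
    hle (AddSubgroup.mem_sup_right (AddSubgroup.mem_zmultiples _))
  exact hno ⟨a0 - k, haC, hπa⟩

theorem main
    {A T : Type*} [AddCommGroup A] [AddCommGroup T] (P : Set ℕ) (hP : ∀ p ∈ P, p.Prime)
    (π : A →+ T) (hπ : Function.Surjective π) (hT : ∀ t : T, ∃ n : ℕ, 0 < n ∧ n • t = 0)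
    (hD : ∀ ℓ ∈ P, ∀ x ∈ π.ker, ∃ y ∈ π.ker, ℓ • y = x)
    (TP T' : AddSubgroup T)
    (hTP : ∀ t, t ∈ TP ↔ ∃ n : ℕ, 0 < n ∧ (∀ p : ℕ, p.Prime → p ∣ n → p ∈ P) ∧ n • t = 0)
    (hT' : ∀ t, t ∈ T' ↔ ∃ n : ℕ, 0 < n ∧ (∀ p : ℕ, p.Prime → p ∣ n → p ∉ P) ∧ n • t = 0) :
    (∀ ℓ ∈ P, ∀ x ∈ T'.comap π, ∃ y ∈ T'.comap π, ℓ • y = x) ∧
    ∃ s : TP →+ A, (∀ t : TP, π (s t) = (t : T)) ∧
      Function.Bijective (fun q : (T'.comap π) × TP => (q.1 : A) + s q.2) := by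
  constructor
  · intro ℓ hℓ x hx
    have hx' : π x ∈ T' := hx
    obtain ⟨n, hnpos, hnP, hn⟩ := (hT' _).mp hx'
    have hcop : Nat.Coprime ℓ n :=
      (Nat.Prime.coprime_iff_not_dvd (hP ℓ hℓ)).mpr (fun hdvd => hnP ℓ (hP ℓ hℓ) hdvd hℓ)
    obtain ⟨u, v, huv⟩ := bezout_smul ℓ n hcop x
    have hnx : n • x ∈ π.ker := by rw [AddMonoidHom.mem_ker, map_nsmul]; exact hn
    obtain ⟨y0, hy0K, hy0⟩ := hD ℓ hℓ (n • x) hnx
    refine ⟨u • x + v • y0, ?_, ?_⟩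
    · have hKle : y0 ∈ T'.comap π := by
        show π y0 ∈ T'
        rw [AddMonoidHom.mem_ker.mp hy0K]; exact T'.zero_mem
      exact (T'.comap π).add_mem ((T'.comap π).zsmul_mem hx u) ((T'.comap π).zsmul_mem hKle v)
    · rw [smul_add, smul_comm ℓ v y0, hy0, smul_comm v n x]
      exact huv.symm
  · obtain ⟨C, hCK, hCTP, hCsurj⟩ := exists_complement P π hπ (div_num P π.ker hD) TP
      (fun t ht => (hTP t).mp ht)
    have hinj : ∀ x ∈ C, ∀ y ∈ C, π x = π y → x = y := by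
      intro x hx y hy hxy
      have hmem : x - y ∈ C ⊓ π.ker := AddSubgroup.mem_inf.mpr
        ⟨C.sub_mem hx hy, by rw [AddMonoidHom.mem_ker, map_sub, hxy, sub_self]⟩
      rw [hCK] at hmem
      exact sub_eq_zero.mp (AddSubgroup.mem_bot.mp hmem)
    choose f hfC hfπ using fun t : TP => hCsurj (t : T) t.2
    have hadd : ∀ t1 t2 : TP, f (t1 + t2) = f t1 + f t2 := fun t1 t2 =>
      hinj _ (hfC _) _ (C.add_mem (hfC _) (hfC _))
        (by simp only [hfπ, map_add, AddSubgroup.coe_add])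
    obtain ⟨s, hsf⟩ : ∃ s : TP →+ A, ∀ t, s t = f t :=
      ⟨AddMonoidHom.mk' f hadd, fun t => rfl⟩
    have hs : ∀ t : TP, π (s t) = (t : T) := fun t => by rw [hsf]; exact hfπ t
    refine ⟨s, hs, ?_, ?_⟩
    · rintro ⟨⟨a1, ha1⟩, t1⟩ ⟨⟨a2, ha2⟩, t2⟩ h
      have h' : a1 + s t1 = a2 + s t2 := h
      have ha1' : π a1 ∈ T' := ha1
      have ha2' : π a2 ∈ T' := ha2
      have hπ1 : π a1 + (t1 : T) = π a2 + (t2 : T) := by
        have h2 := congrArg π h'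
        rw [map_add, map_add, hs, hs] at h2
        exact h2
      have hd1 : (t1 : T) - (t2 : T) ∈ TP := TP.sub_mem t1.2 t2.2
      have hd2 : (t1 : T) - (t2 : T) ∈ T' := by
        have h3 : (t1 : T) - (t2 : T) = π a2 - π a1 := by
          rw [sub_eq_sub_iff_add_eq_add, add_comm (t1 : T)]; exact hπ1
        rw [h3]; exact T'.sub_mem ha2' ha1'
      have hd0 : (t1 : T) - (t2 : T) = 0 :=
        inter_zero P _ ((hTP _).mp hd1) ((hT' _).mp hd2)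
      have ht : t1 = t2 := Subtype.ext (sub_eq_zero.mp hd0)
      subst ht
      have ha : a1 = a2 := add_right_cancel h'
      subst ha
      rfl
    · intro a
      obtain ⟨N, hNpos, hN⟩ := hT (π a)
      obtain ⟨n, n', hNnn, ⟨hn0, hn⟩, ⟨hn'0, hn'⟩⟩ := factor P N hNpos
      have hc : Nat.Coprime n n' :=
        Nat.coprime_of_dvd (fun k hk hkn hkn' => hn' k hk hkn' (hn k hk hkn))
      obtain ⟨u, v, huv⟩ := bezout_smul n n' hc (π a)
      have ht : n' • v • π a ∈ TP := by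
        rw [hTP]
        refine ⟨n, hn0, hn, ?_⟩
        rw [smul_comm n' v, smul_comm n v, ← mul_nsmul', ← hNnn, hN, smul_zero]
      have ht' : n • u • π a ∈ T' := by
        rw [hT']
        refine ⟨n', hn'0, hn', ?_⟩
        rw [smul_comm n u, smul_comm n' u, ← mul_nsmul', mul_comm n' n, ← hNnn, hN, smul_zero]
      have hsub : π a - n' • v • π a = n • u • π a := sub_eq_iff_eq_add.mpr huv
      obtain ⟨tP, htP⟩ : ∃ tP : TP, (tP : T) = n' • v • π a := ⟨⟨_, ht⟩, rfl⟩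
      have hmem : a - s tP ∈ T'.comap π := by
        show π (a - s tP) ∈ T'
        rw [map_sub, hs, htP, hsub]
        exact ht'
      exact ⟨(⟨a - s tP, hmem⟩, tP), sub_add_cancel a (s tP)⟩

end Groth.Agent.Lib.KatoSec
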