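import Mathlib
import Groth.Agent.Lib.KedEt1_helper5

set_option autoImplicit false
set_option linter.style.haveILetI false

open Polynomial MvPolynomial TensorProduct

namespace Groth.Agent.Lib.KedEt

variable {k : Type*} [Field k] {C : Type*} [CommRing C] [Algebra k C] {n : ℕ}

/-- The exponents of Nagata's substitution attached to `F`. -/
def rexp (F : MvPolynomial (Fin (n + 1)) k) (i : Fin n) : ℕ := (2 + F.totalDegree) ^ (i.succ : Fin (n + 1)).1

theorem aeval_T (F : MvPolynomial (Fin (n + 1)) k) (s : C) (x : Fin n → C) :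
    aeval (Fin.cons s (fun i => x i - s ^ rexp F i) : Fin (n + 1) → C) (NN.T F F) =
      aeval (Fin.cons s x : Fin (n + 1) → C) F := by
  show MvPolynomial.aeval _ (NN.T1 F 1 F) = _
  rw [NN.T1, ← AlgHom.comp_apply, MvPolynomial.comp_aeval]
  congr 1
  apply congrArg
  funext i
  refine Fin.cases ?_ (fun j => ?_) i
  · simp
  · simp [rexp, Fin.succ_ne_zero]

theorem aeval_cons_eq (s : C) (x : Fin n → C) (G : MvPolynomial (Fin (n + 1)) k) :
    aeval (Fin.cons s x : Fin (n + 1) → C) G =
      Polynomial.eval₂ (aeval x : MvPolynomial (Fin n) k →ₐ[k] C).toRingHom s (finSuccEquiv k n G) := by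
  have h : (aeval (Fin.cons s x : Fin (n + 1) → C) : MvPolynomial (Fin (n + 1)) k →ₐ[k] C) =
      (Polynomial.aevalTower (aeval x : MvPolynomial (Fin n) k →ₐ[k] C) s).comp
        (finSuccEquiv k n).toAlgHom := by
    apply MvPolynomial.algHom_ext
    intro i
    refine Fin.cases ?_ (fun j => ?_) i
    · simp [finSuccEquiv_X_zero]
    · simp [finSuccEquiv_X_succ]
  rw [h]
  rfl

/-- Nagata's trick: a nonzero relation gives integrality after the substitution. -/
theorem isIntegralElem_of_relation (F : MvPolynomial (Fin (n + 1)) k) (hF : F ≠ 0) (s : C)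
    (x : Fin n → C) (h0 : aeval (Fin.cons s x : Fin (n + 1) → C) F = 0) :
    (aeval (fun i => x i - s ^ rexp F i) : MvPolynomial (Fin n) k →ₐ[k] C).toRingHom.IsIntegralElem
      s := by
  have hu := NN.T_leadingcoeff_isUnit F hF
  have h1 : Polynomial.eval₂ (aeval (fun i => x i - s ^ rexp F i) :
      MvPolynomial (Fin n) k →ₐ[k] C).toRingHom s (finSuccEquiv k n (NN.T F F)) = 0 := by
    rw [← aeval_cons_eq, aeval_T, h0]
  refine ⟨(hu.unit⁻¹ : (MvPolynomial (Fin n) k)ˣ).val • finSuccEquiv k n (NN.T F F),
    Polynomial.monic_of_isUnit_leadingCoeff_inv_smul hu, ?_⟩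
  rw [Polynomial.smul_eq_C_mul, Polynomial.eval₂_mul, h1, mul_zero]

/-- Transitivity helper: an element integral over the image of a ring map whose image consists
of integral elements is integral. -/
theorem isIntegral_of_isIntegralElem {P C : Type*} [CommRing P] [CommRing C] [Algebra P C]
    (ψ : P →+* C) (hψ : ∀ f, IsIntegral P (ψ f)) (s : C) (hs : ψ.IsIntegralElem s) :
    IsIntegral P s := by
  obtain ⟨q, hq, hqs⟩ := hs
  let B := integralClosure P C
  let ψ' : P →+* B := ψ.codRestrict B.toSubring hψ
  have h1 : IsIntegral B s := by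
    refine ⟨q.map ψ', hq.map ψ', ?_⟩
    rw [Polynomial.eval₂_map]
    exact hqs
  exact isIntegral_trans s h1

section Shift

variable (p : ℕ) [Fact p.Prime] [CharP k p]

variable (k) in
include k in
theorem sub_pow_p (a b : C) : (a - b) ^ p = a ^ p - b ^ p := by
  rcases subsingleton_or_nontrivial C with h | h
  · exact Subsingleton.elim _ _
  · haveI : CharP C p := charP_of_injective_algebraMap (algebraMap k C).injective p
    exact sub_pow_char a b

theorem isIntegral_aeval {y x' : Fin n → C}
    (h : ∀ i, (aeval y : MvPolynomial (Fin n) k →ₐ[k] C).toRingHom.IsIntegralElem (x' i))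
    (f : MvPolynomial (Fin n) k) :
    (aeval y : MvPolynomial (Fin n) k →ₐ[k] C).toRingHom.IsIntegralElem (aeval x' f) := by
  letI : Algebra (MvPolynomial (Fin n) k) C :=
    (aeval y : MvPolynomial (Fin n) k →ₐ[k] C).toRingHom.toAlgebra
  show IsIntegral (MvPolynomial (Fin n) k) (aeval x' f)
  induction f using MvPolynomial.induction_on with
  | C a =>
    have : aeval x' (MvPolynomial.C a : MvPolynomial (Fin n) k) =
        algebraMap (MvPolynomial (Fin n) k) C (MvPolynomial.C a) := by
      show _ = aeval y (MvPolynomial.C a)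
      rw [MvPolynomial.aeval_C, MvPolynomial.aeval_C]
    rw [this]
    exact isIntegral_algebraMap
  | add f g hf hg =>
    rw [map_add]
    exact hf.add hg
  | mul_X f i hf =>
    rw [map_mul, MvPolynomial.aeval_X]
    exact hf.mul (h i)

theorem exists_shift (hA : ∀ v : Fin (n + 1) → C, ¬ AlgebraicIndependent k v) :
    ∀ (m : ℕ) (x : Fin n → C) (t : Fin m → C), ∃ g : Fin n → C,
      (∀ i, (aeval (fun i => x i + g i ^ p) :
        MvPolynomial (Fin n) k →ₐ[k] C).toRingHom.IsIntegralElem (x i)) ∧
      (∀ j, (aeval (fun i => x i + g i ^ p) :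
        MvPolynomial (Fin n) k →ₐ[k] C).toRingHom.IsIntegralElem (t j)) := by
  have hp : 0 < p := (Fact.out : p.Prime).pos
  intro m
  induction m with
  | zero =>
    intro x t
    refine ⟨fun _ => 0, fun i => ?_, fun j => j.elim0⟩
    have e : (fun i => x i + (0 : C) ^ p) = x := by
      funext i
      rw [zero_pow hp.ne', add_zero]
    rw [e]
    have := RingHom.isIntegralElem_map
      (f := (aeval x : MvPolynomial (Fin n) k →ₐ[k] C).toRingHom) (x := MvPolynomial.X i)
    simpa using this
  | succ m ih =>
    intro x t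
    set tl := t (Fin.last m) with htl
    set s := tl ^ p with hs
    have hdep := hA (Fin.cons s x)
    rw [algebraicIndependent_iff_injective_aeval, injective_iff_map_eq_zero] at hdep
    push Not at hdep
    obtain ⟨F, hF0, hF⟩ := hdep
    obtain ⟨g', hg'x, hg't⟩ := ih (fun i => x i - s ^ rexp F i) (fun j => t j.castSucc)
    refine ⟨fun i => g' i - tl ^ rexp F i, ?_⟩
    have e : (fun i => x i + (g' i - tl ^ rexp F i) ^ p) =
        (fun i => (x i - s ^ rexp F i) + g' i ^ p) := by
      funext i
      rw [sub_pow_p k p, hs, ← pow_mul, ← pow_mul, mul_comm p]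
      ring
    rw [e]
    set y : Fin n → C := fun i => (x i - s ^ rexp F i) + g' i ^ p with hy
    letI : Algebra (MvPolynomial (Fin n) k) C :=
      (aeval y : MvPolynomial (Fin n) k →ₐ[k] C).toRingHom.toAlgebra
    have hx' : ∀ i, IsIntegral (MvPolynomial (Fin n) k) (x i - s ^ rexp F i) := hg'x
    have hsI : IsIntegral (MvPolynomial (Fin n) k) s :=
      isIntegral_of_isIntegralElem
        (aeval (fun i => x i - s ^ rexp F i) : MvPolynomial (Fin n) k →ₐ[k] C).toRingHom
        (fun f => isIntegral_aeval hg'x f) s (isIntegralElem_of_relation F hF s x hF0)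
    have htlI : IsIntegral (MvPolynomial (Fin n) k) tl := IsIntegral.of_pow hp hsI
    refine ⟨fun i => ?_, fun j => ?_⟩
    · have : x i = (x i - s ^ rexp F i) + s ^ rexp F i := by ring
      show IsIntegral (MvPolynomial (Fin n) k) (x i)
      rw [this]
      exact (hx' i).add (hsI.pow _)
    · show IsIntegral (MvPolynomial (Fin n) k) (t j)
      refine Fin.lastCases ?_ (fun j' => ?_) j
      · exact htlI
      · exact hg't j'

theorem exists_finite_shift [Algebra.FiniteType k C]
    (hA : ∀ v : Fin (n + 1) → C, ¬ AlgebraicIndependent k v) (x : Fin n → C) :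
    ∃ g : Fin n → C, (aeval (fun i => x i + g i ^ p) :
      MvPolynomial (Fin n) k →ₐ[k] C).toRingHom.Finite := by
  classical
  obtain ⟨S, hS⟩ := (Algebra.FiniteType.out : (⊤ : Subalgebra k C).FG)
  let e := S.equivFin
  let t : Fin S.card → C := fun j => ((e.symm j : S) : C)
  obtain ⟨g, -, hgt⟩ := exists_shift (k := k) p hA S.card x t
  refine ⟨g, ?_⟩
  set φ : MvPolynomial (Fin n) k →ₐ[k] C := aeval (fun i => x i + g i ^ p) with hφ
  have hint : φ.toRingHom.IsIntegral := by
    letI : Algebra (MvPolynomial (Fin n) k) C := φ.toRingHom.toAlgebra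
    intro c
    show IsIntegral (MvPolynomial (Fin n) k) c
    have hc : c ∈ Algebra.adjoin k (S : Set C) := by rw [hS]; trivial
    induction hc using Algebra.adjoin_induction with
    | mem c hc =>
      have : c = t (e ⟨c, hc⟩) := by simp [t]
      rw [this]
      exact hgt _
    | algebraMap r =>
      have : algebraMap k C r = algebraMap (MvPolynomial (Fin n) k) C (MvPolynomial.C r) := by
        show _ = φ (MvPolynomial.C r)
        rw [hφ, MvPolynomial.aeval_C]
      rw [this]
      exact isIntegral_algebraMap
    | add a b _ _ ha hb => exact ha.add hb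
    | mul a b _ _ ha hb => exact ha.mul hb
  refine hint.to_finite ?_
  have h1 : (φ.toRingHom.comp (algebraMap k (MvPolynomial (Fin n) k))).FiniteType := by
    have : φ.toRingHom.comp (algebraMap k (MvPolynomial (Fin n) k)) = algebraMap k C :=
      φ.comp_algebraMap
    rw [this]
    exact RingHom.finiteType_algebraMap.mpr inferInstance
  exact RingHom.FiniteType.of_comp_finiteType h1

end Shift

universe u

section Field

variable (k : Type u) [Field k] (n : ℕ) (A : Type u) [Field A] [Algebra k A]
  [Algebra (MvPolynomial (Fin n) k) A] [IsScalarTower k (MvPolynomial (Fin n) k) A]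
  [Algebra.IsAlgebraic (MvPolynomial (Fin n) k) A]

theorem not_algebraicIndependent_field
    (hinj : Function.Injective (algebraMap (MvPolynomial (Fin n) k) A))
    (w : Fin (n + 1) → A) : ¬ AlgebraicIndependent k w := by
  intro hw
  have h1 := hw.lift_cardinalMk_le_trdeg
  haveI : FaithfulSMul (MvPolynomial (Fin n) k) A :=
    (faithfulSMul_iff_algebraMap_injective _ _).mpr hinj
  have h2 : Algebra.trdeg k (MvPolynomial (Fin n) k) + Algebra.trdeg (MvPolynomial (Fin n) k) A =
      Algebra.trdeg k A := trdeg_add_eq _ _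
  rw [MvPolynomial.trdeg_of_isDomain, trdeg_eq_zero] at h2
  rw [← h2] at h1
  simp at h1

end Field

section Etale

variable (k : Type u) [Field k] (n : ℕ) (C : Type u) [CommRing C]
  [Algebra (MvPolynomial (Fin n) k) C] [Algebra k C] [IsScalarTower k (MvPolynomial (Fin n) k) C]
  [Algebra.Etale (MvPolynomial (Fin n) k) C]

theorem not_algebraicIndependent_of_etale (v : Fin (n + 1) → C) : ¬ AlgebraicIndependent k v := by
  classical
  intro hv
  let P := MvPolynomial (Fin n) k
  let K := FractionRing P
  let L := K ⊗[P] C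
  obtain ⟨I, hI, Ai, hF, hAlg, e, he⟩ :=
    (Algebra.Etale.iff_exists_algEquiv_prod K L).mp inferInstance
  haveI := Fintype.ofFinite I
  have hinj : Function.Injective (Algebra.TensorProduct.includeRight : C →ₐ[P] L) :=
    Algebra.TensorProduct.includeRight_injective (IsFractionRing.injective P K)
  let ρ : ∀ i, C →+* Ai i := fun i => (Pi.evalRingHom Ai i).comp
     ((e : L →+* (Π i, Ai i)).comp (Algebra.TensorProduct.includeRight : C →ₐ[P] L).toRingHom)
  have key : ∀ i, ∃ F : MvPolynomial (Fin (n + 1)) k, F ≠ 0 ∧ ρ i (aeval v F) = 0 := by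
    intro i
    letI : Algebra P (Ai i) := ((ρ i).comp (algebraMap P C)).toAlgebra
    letI : Algebra k (Ai i) := ((ρ i).comp (algebraMap k C)).toAlgebra
    haveI : IsScalarTower k P (Ai i) := IsScalarTower.of_algebraMap_eq (fun a => by
      show ρ i (algebraMap k C a) = ρ i (algebraMap P C (algebraMap k P a))
      rw [← IsScalarTower.algebraMap_apply])
    haveI : IsScalarTower P K (Ai i) := IsScalarTower.of_algebraMap_eq (fun a => by
      show ρ i (algebraMap P C a) = algebraMap K (Ai i) (algebraMap P K a)
      have h1 : (Algebra.TensorProduct.includeRight : C →ₐ[P] L) (algebraMap P C a) =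
          algebraMap K L (algebraMap P K a) := by
        rw [AlgHom.commutes, IsScalarTower.algebraMap_apply P K L]
      show (e ((Algebra.TensorProduct.includeRight : C →ₐ[P] L) (algebraMap P C a))) i = _
      rw [h1, AlgEquiv.commutes]
      rfl)
    haveI : Module.Finite K (Ai i) := (he i).1
    haveI : Algebra.IsAlgebraic K (Ai i) := Algebra.IsAlgebraic.of_finite K (Ai i)
    haveI : Algebra.IsAlgebraic P (Ai i) :=
      (IsFractionRing.comap_isAlgebraic_iff (K := K)).mpr inferInstance
    have hinj' : Function.Injective (algebraMap P (Ai i)) := by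
      rw [IsScalarTower.algebraMap_eq P K (Ai i)]
      exact (algebraMap K (Ai i)).injective.comp (IsFractionRing.injective P K)
    have := not_algebraicIndependent_field k n (Ai i) hinj' (fun j => ρ i (v j))
    rw [algebraicIndependent_iff_injective_aeval, injective_iff_map_eq_zero] at this
    push Not at this
    obtain ⟨F, hF0, hF⟩ := this
    refine ⟨F, hF, ?_⟩
    let ρ' : C →ₐ[k] Ai i := { ρ i with commutes' := fun _ => rfl }
    have h2 : aeval (fun j => ρ i (v j)) F = ρ' (aeval v F) := by
      rw [← AlgHom.comp_apply, comp_aeval]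
      rfl
    rw [h2] at hF0
    exact hF0
  choose F hF0 hF using key
  have hprod : (∏ i, F i) ≠ 0 := Finset.prod_ne_zero_iff.mpr (fun i _ => hF0 i)
  apply hprod
  rw [algebraicIndependent_iff_injective_aeval, injective_iff_map_eq_zero] at hv
  apply hv
  apply hinj
  apply e.injective
  rw [map_zero, map_zero]
  funext i
  show ρ i (aeval v (∏ j, F j)) = 0
  rw [map_prod, map_prod]
  exact Finset.prod_eq_zero (Finset.mem_univ i) (hF i)

end Etale

section Diff

open KaehlerDifferential

theorem formallyEtale_of_bijective_mapBaseChange (R S T : Type u) [CommRing R] [CommRing S]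
    [CommRing T] [Algebra R S] [Algebra R T] [Algebra S T] [IsScalarTower R S T]
    [Subsingleton (Algebra.H1Cotangent R T)]
    (hbij : Function.Bijective (KaehlerDifferential.mapBaseChange R S T)) :
    Algebra.FormallyEtale S T := by
  refine ⟨?_, ?_⟩
  · have hs := KaehlerDifferential.map_surjective R S T
    have hex := KaehlerDifferential.exact_mapBaseChange_map R S T
    have h0 : ∀ a : Ω[T⁄S], a = 0 := by
      intro a
      obtain ⟨a', rfl⟩ := hs a
      obtain ⟨a'', rfl⟩ := hbij.2 a'
      exact (hex _).mpr ⟨_, rfl⟩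
    exact ⟨fun a b => by rw [h0 a, h0 b]⟩
  · have h0 : ∀ z : Algebra.H1Cotangent S T, z = 0 := by
      intro z
      have h1 : Algebra.H1Cotangent.δ R S T z = 0 := by
        apply hbij.1
        rw [map_zero]
        exact (Algebra.H1Cotangent.exact_δ_mapBaseChange R S T _).mpr ⟨z, rfl⟩
      obtain ⟨w, rfl⟩ := (Algebra.H1Cotangent.exact_map_δ R S T z).mp h1
      rw [Subsingleton.elim w 0, map_zero]
    exact ⟨fun a b => by rw [h0 a, h0 b]⟩

theorem etale_of_basis (k : Type u) [Field k] (n : ℕ) (C : Type u) [CommRing C] [Algebra k C]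
    [Algebra.FinitePresentation k C] [Subsingleton (Algebra.H1Cotangent k C)]
    (φ : MvPolynomial (Fin n) k →ₐ[k] C) (b : Module.Basis (Fin n) C Ω[C⁄k])
    (hb : ∀ i, b i = D k C (φ (X i))) : φ.toRingHom.Etale := by
  letI : Algebra (MvPolynomial (Fin n) k) C := φ.toRingHom.toAlgebra
  haveI : IsScalarTower k (MvPolynomial (Fin n) k) C :=
    IsScalarTower.of_algebraMap_eq' φ.comp_algebraMap.symm
  show Algebra.Etale (MvPolynomial (Fin n) k) C
  have hbij : Function.Bijective (mapBaseChange k (MvPolynomial (Fin n) k) C) := by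
    let bP := Algebra.TensorProduct.basis C (mvPolynomialBasis k (Fin n))
    have : mapBaseChange k (MvPolynomial (Fin n) k) C =
        (bP.equiv b (Equiv.refl _)).toLinearMap := by
      apply bP.ext
      intro i
      have h1 : algebraMap (MvPolynomial (Fin n) k) C (X i) = φ (X i) := rfl
      have h2 : bP i = 1 ⊗ₜ D k (MvPolynomial (Fin n) k) (X i) := by simp [bP]
      rw [LinearEquiv.coe_coe, Module.Basis.equiv_apply, Equiv.refl_apply, hb, h2,
        mapBaseChange_tmul, one_smul, map_D, h1]
    rw [this]
    exact LinearEquiv.bijective _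
  haveI := formallyEtale_of_bijective_mapBaseChange k (MvPolynomial (Fin n) k) C hbij
  haveI : Algebra.FinitePresentation (MvPolynomial (Fin n) k) C :=
    Algebra.FinitePresentation.of_restrict_scalars_finitePresentation k _ C
  exact {}

/-- For `C` étale over `P = k[X_1..X_n]`, the `d(x_i)` form a basis of `Ω[C/k]`. -/
theorem exists_basis_D (k : Type u) [Field k] (n : ℕ) (C : Type u) [CommRing C] [Algebra k C]
    [Algebra (MvPolynomial (Fin n) k) C] [IsScalarTower k (MvPolynomial (Fin n) k) C]
    [Algebra.FormallyEtale (MvPolynomial (Fin n) k) C] :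
    ∃ b : Module.Basis (Fin n) C Ω[C⁄k],
      ∀ i, b i = D k C (algebraMap (MvPolynomial (Fin n) k) C (X i)) := by
  refine ⟨(Algebra.TensorProduct.basis C (mvPolynomialBasis k (Fin n))).map
    (tensorKaehlerEquivOfFormallyEtale k (MvPolynomial (Fin n) k) C), fun i => ?_⟩
  simp

end Diff


section Main

open KaehlerDifferential

/-- Kedlaya's trick: an étale algebra over `k[X_1..X_n]` in characteristic `p` admits a finite
étale map from `k[X_1..X_n]`. -/
theorem kedlaya (k : Type u) [Field k] (p : ℕ) [Fact p.Prime] [CharP k p] (n : ℕ) (C : Type u)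
    [CommRing C] [Algebra (MvPolynomial (Fin n) k) C] [Algebra k C]
    [IsScalarTower k (MvPolynomial (Fin n) k) C] [Algebra.Etale (MvPolynomial (Fin n) k) C] :
    ∃ φ : MvPolynomial (Fin n) k →ₐ[k] C, φ.toRingHom.Finite ∧ φ.toRingHom.Etale := by
  haveI : Algebra.FinitePresentation k C :=
    Algebra.FinitePresentation.trans k (MvPolynomial (Fin n) k) C
  haveI : Algebra.FiniteType k C := inferInstance
  haveI : Algebra.FormallySmooth k C := Algebra.FormallySmooth.comp k (MvPolynomial (Fin n) k) C
  haveI : Subsingleton (Algebra.H1Cotangent k C) := inferInstance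
  obtain ⟨b, hb⟩ := exists_basis_D k n C
  set x : Fin n → C := fun i => algebraMap (MvPolynomial (Fin n) k) C (MvPolynomial.X i) with hx
  obtain ⟨g, hg⟩ := exists_finite_shift (k := k) p (not_algebraicIndependent_of_etale k n C) x
  refine ⟨MvPolynomial.aeval (fun i => x i + g i ^ p), hg, ?_⟩
  apply etale_of_basis k n C _ b
  intro i
  have hp0 : (p : C) = 0 := by
    rw [← map_natCast (algebraMap k C), CharP.cast_eq_zero k p, map_zero]
  rw [hb, MvPolynomial.aeval_X, map_add, Derivation.leibniz_pow, ← Nat.cast_smul_eq_nsmul C, hp0,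
    zero_smul, add_zero]

end Main

end Groth.Agent.Lib.KedEt
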