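import Mathlib

set_option autoImplicit false
set_option linter.unusedVariables false
set_option linter.unusedTactic false
set_option linter.unreachableTactic false
set_option linter.unusedSectionVars false
set_option maxHeartbeats 800000

universe u

open Filter Topology

namespace Groth.Agent.Lib.KempfH4

section basic

variable {E : Type u} [AddCommGroup E] [Module ℝ E]

theorem mn_le (S : Finset (Module.Dual ℝ E)) (hS : S.Nonempty) (v : E) (f : Module.Dual ℝ E)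
    (hf : f ∈ S) : S.inf' hS (fun f => f v) ≤ f v :=
  Finset.inf'_le (fun f : Module.Dual ℝ E => f v) hf

theorem le_mn_iff (S : Finset (Module.Dual ℝ E)) (hS : S.Nonempty) (v : E) (a : ℝ) :
    a ≤ S.inf' hS (fun f => f v) ↔ ∀ f ∈ S, a ≤ f v :=
  Finset.le_inf'_iff hS (fun f : Module.Dual ℝ E => f v)

theorem mn_smul (S : Finset (Module.Dual ℝ E)) (hS : S.Nonempty) (t : ℝ) (ht : 0 ≤ t) (v : E) :
    S.inf' hS (fun f => f (t • v)) = t * S.inf' hS (fun f => f v) := by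
  apply le_antisymm
  · obtain ⟨f, hf, hfe⟩ := Finset.exists_mem_eq_inf' hS (fun f : Module.Dual ℝ E => f v)
    rw [hfe]
    refine le_trans (mn_le S hS (t • v) f hf) (le_of_eq ?_)
    rw [map_smul, smul_eq_mul]
  · rw [le_mn_iff]
    intro f hf
    rw [map_smul, smul_eq_mul]
    exact mul_le_mul_of_nonneg_left (mn_le S hS v f hf) ht

theorem mn_add (S : Finset (Module.Dual ℝ E)) (hS : S.Nonempty) (v w : E) :
    S.inf' hS (fun f => f v) + S.inf' hS (fun f => f w) ≤ S.inf' hS (fun f => f (v + w)) := by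
  rw [le_mn_iff]
  intro f hf
  rw [map_add]
  exact add_le_add (mn_le S hS v f hf) (mn_le S hS w f hf)

theorem mn_zero (S : Finset (Module.Dual ℝ E)) (hS : S.Nonempty) :
    S.inf' hS (fun f => f (0 : E)) = 0 := by
  obtain ⟨f, hf, hfe⟩ := Finset.exists_mem_eq_inf' hS (fun f : Module.Dual ℝ E => f (0 : E))
  rw [hfe, map_zero]

end basic

section top

variable {E : Type u} [NormedAddCommGroup E] [InnerProductSpace ℝ E] [FiniteDimensional ℝ E]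

theorem mn_cont (S : Finset (Module.Dual ℝ E)) (hS : S.Nonempty) :
    Continuous (fun v : E => S.inf' hS (fun f => f v)) :=
  Continuous.finset_inf'_apply hS (fun g _ => LinearMap.continuous_of_finiteDimensional g)

theorem exists_max (F G : Finset (Module.Dual ℝ E)) (hF : F.Nonempty) (hG : G.Nonempty)
    (hpos : ∃ v : E, 0 ≤ F.inf' hF (fun f => f v) ∧ 0 < G.inf' hG (fun g => g v)) :
    ∃ e : E, ‖e‖ = 1 ∧ 0 ≤ F.inf' hF (fun f => f e) ∧ 0 < G.inf' hG (fun g => g e) ∧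
      ∀ w : E, w ≠ 0 → 0 ≤ F.inf' hF (fun f => f w) →
        G.inf' hG (fun g => g w) / ‖w‖ ≤ G.inf' hG (fun g => g e) := by
  obtain ⟨v, hv1, hv2⟩ := hpos
  have hv0 : v ≠ 0 := by
    rintro rfl
    rw [mn_zero] at hv2
    exact lt_irrefl _ hv2
  have hKeq : {w : E | ‖w‖ = 1 ∧ 0 ≤ F.inf' hF (fun f => f w)} =
      Metric.sphere (0 : E) 1 ∩ {w : E | 0 ≤ F.inf' hF (fun f => f w)} := by
    ext w
    simp only [Set.mem_setOf_eq, Set.mem_inter_iff, mem_sphere_zero_iff_norm]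
  have hKc : IsCompact {w : E | ‖w‖ = 1 ∧ 0 ≤ F.inf' hF (fun f => f w)} := by
    rw [hKeq]
    exact (isCompact_sphere (0 : E) 1).inter_right
      (isClosed_le continuous_const (mn_cont F hF))
  have hunit : ∀ w : E, w ≠ 0 → 0 ≤ F.inf' hF (fun f => f w) →
      (‖w‖⁻¹ • w) ∈ {w : E | ‖w‖ = 1 ∧ 0 ≤ F.inf' hF (fun f => f w)} := by
    intro w hw hfw
    have hn : 0 < ‖w‖ := norm_pos_iff.mpr hw
    refine ⟨?_, ?_⟩
    · rw [norm_smul, norm_inv, norm_norm, inv_mul_cancel₀ (ne_of_gt hn)]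
    · rw [mn_smul F hF ‖w‖⁻¹ (le_of_lt (inv_pos.mpr hn)) w]
      exact mul_nonneg (le_of_lt (inv_pos.mpr hn)) hfw
  obtain ⟨e, heK, hemax⟩ := hKc.exists_isMaxOn ⟨_, hunit v hv0 hv1⟩
    (mn_cont G hG).continuousOn
  rw [isMaxOn_iff] at hemax
  have hmax : ∀ w : E, w ≠ 0 → 0 ≤ F.inf' hF (fun f => f w) →
        G.inf' hG (fun g => g w) / ‖w‖ ≤ G.inf' hG (fun g => g e) := by
    intro w hw hfw
    have hn : 0 < ‖w‖ := norm_pos_iff.mpr hw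
    have h1 : G.inf' hG (fun g => g (‖w‖⁻¹ • w)) ≤ G.inf' hG (fun g => g e) :=
      hemax _ (hunit w hw hfw)
    rw [mn_smul G hG ‖w‖⁻¹ (le_of_lt (inv_pos.mpr hn)) w] at h1
    rw [div_eq_inv_mul]
    exact h1
  refine ⟨e, heK.1, heK.2, ?_, hmax⟩
  have h2 := hmax v hv0 hv1
  exact lt_of_lt_of_le (div_pos hv2 (norm_pos_iff.mpr hv0)) h2

theorem max_unique (F G : Finset (Module.Dual ℝ E)) (hF : F.Nonempty) (hG : G.Nonempty)
    (e : E) (he1 : ‖e‖ = 1) (hfe : 0 ≤ F.inf' hF (fun f => f e))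
    (M : ℝ) (hMdef : M = G.inf' hG (fun g => g e)) (hM : 0 < M)
    (hmax : ∀ w : E, w ≠ 0 → 0 ≤ F.inf' hF (fun f => f w) →
        G.inf' hG (fun g => g w) / ‖w‖ ≤ M)
    (w : E) (hw : w ≠ 0) (hfw : 0 ≤ F.inf' hF (fun f => f w))
    (hwM : G.inf' hG (fun g => g w) / ‖w‖ = M) : w = ‖w‖ • e := by
  have hn : 0 < ‖w‖ := norm_pos_iff.mpr hw
  have hni : 0 ≤ ‖w‖⁻¹ := le_of_lt (inv_pos.mpr hn)
  obtain ⟨u, hu⟩ : ∃ u : E, u = ‖w‖⁻¹ • w := ⟨_, rfl⟩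
  have hu1 : ‖u‖ = 1 := by
    rw [hu, norm_smul, norm_inv, norm_norm, inv_mul_cancel₀ (ne_of_gt hn)]
  have hfu : 0 ≤ F.inf' hF (fun f => f u) := by
    rw [hu, mn_smul F hF ‖w‖⁻¹ hni w]
    exact mul_nonneg hni hfw
  have hgu : G.inf' hG (fun g => g u) = M := by
    rw [hu, mn_smul G hG ‖w‖⁻¹ hni w, ← div_eq_inv_mul]
    exact hwM
  have hwu : w = ‖w‖ • u := by
    rw [hu, smul_smul, mul_inv_cancel₀ (ne_of_gt hn), one_smul]
  have hue : u = e := by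
    by_contra hne
    obtain ⟨m, hm⟩ : ∃ m : E, m = (1 / 2 : ℝ) • (u + e) := ⟨_, rfl⟩
    have hhalf : (0 : ℝ) ≤ 1 / 2 := by norm_num
    have hfm : 0 ≤ F.inf' hF (fun f => f m) := by
      rw [hm, mn_smul F hF (1 / 2) hhalf (u + e)]
      exact mul_nonneg hhalf (le_trans (add_nonneg hfu hfe) (mn_add F hF u e))
    have hgm : M ≤ G.inf' hG (fun g => g m) := by
      rw [hm, mn_smul G hG (1 / 2) hhalf (u + e)]
      have h1 := mn_add G hG u e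
      rw [hgu, ← hMdef] at h1
      linarith
    have hm0 : m ≠ 0 := by
      intro h0
      rw [h0, mn_zero] at hgm
      linarith
    have hnm : ‖m‖ < 1 := by
      have hpl := parallelogram_law_with_norm ℝ u e
      rw [hu1, he1] at hpl
      have hpl' : ‖u + e‖ ^ 2 + ‖u - e‖ ^ 2 = 4 := by rw [hpl]; norm_num
      have hd : 0 < ‖u - e‖ := norm_pos_iff.mpr (sub_ne_zero.mpr hne)
      have hd2 : 0 < ‖u - e‖ ^ 2 := pow_pos hd 2
      have h4 : ‖u + e‖ ^ 2 < 2 ^ 2 := by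
        have : (2 : ℝ) ^ 2 = 4 := by norm_num
        rw [this]; linarith
      have h5 : ‖u + e‖ < 2 := lt_of_pow_lt_pow_left₀ 2 (by norm_num) h4
      rw [hm, norm_smul, Real.norm_of_nonneg hhalf]
      linarith
    have hnm0 : 0 < ‖m‖ := norm_pos_iff.mpr hm0
    have h6 := hmax m hm0 hfm
    rw [div_le_iff₀ hnm0] at h6
    have h7 : M * ‖m‖ < M * 1 := mul_lt_mul_of_pos_left hnm hM
    linarith
  rw [← hue]
  exact hwu

theorem orth (F G : Finset (Module.Dual ℝ E)) (hF : F.Nonempty) (hG : G.Nonempty)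
    (e : E) (he1 : ‖e‖ = 1) (hfe : 0 ≤ F.inf' hF (fun f => f e))
    (M : ℝ) (hMdef : M = G.inf' hG (fun g => g e)) (hM : 0 < M)
    (hmax : ∀ w : E, w ≠ 0 → 0 ≤ F.inf' hF (fun f => f w) →
        G.inf' hG (fun g => g w) / ‖w‖ ≤ M)
    (d : E) (hdF : ∀ f ∈ F, f (M⁻¹ • e) = 0 → f d = 0)
    (hdG : ∀ g ∈ G, g (M⁻¹ • e) = 1 → g d = 0) :
    inner ℝ (M⁻¹ • e) d = 0 := by
  obtain ⟨v₁, hv₁⟩ : ∃ v₁ : E, v₁ = M⁻¹ • e := ⟨_, rfl⟩
  rw [← hv₁] at hdF hdG ⊢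
  have hMi : 0 < M⁻¹ := inv_pos.mpr hM
  have hfv : ∀ f ∈ F, 0 ≤ f v₁ := by
    intro f hf
    have h1 : 0 ≤ F.inf' hF (fun f => f v₁) := by
      rw [hv₁, mn_smul F hF M⁻¹ (le_of_lt hMi) e]
      exact mul_nonneg (le_of_lt hMi) hfe
    exact le_trans h1 (mn_le F hF v₁ f hf)
  have hgv : ∀ g ∈ G, 1 ≤ g v₁ := by
    intro g hg
    have h1 : G.inf' hG (fun g => g v₁) = 1 := by
      rw [hv₁, mn_smul G hG M⁻¹ (le_of_lt hMi) e, ← hMdef, inv_mul_cancel₀ (ne_of_gt hM)]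
    exact le_trans (le_of_eq h1.symm) (mn_le G hG v₁ g hg)
  have hnv : ‖v₁‖ = M⁻¹ := by
    rw [hv₁, norm_smul, he1, mul_one, Real.norm_of_nonneg (le_of_lt hMi)]
  have hmin : ∀ w : E, (∀ f ∈ F, 0 ≤ f w) → (∀ g ∈ G, 1 ≤ g w) → ‖v₁‖ ≤ ‖w‖ := by
    intro w h1 h2
    have hw0 : w ≠ 0 := by
      rintro rfl
      obtain ⟨g, hg⟩ := hG
      have h3 := h2 g hg
      rw [map_zero] at h3
      linarith
    have hn : 0 < ‖w‖ := norm_pos_iff.mpr hw0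
    have h3 : 0 ≤ F.inf' hF (fun f => f w) := (le_mn_iff F hF w 0).mpr h1
    have h4 : 1 ≤ G.inf' hG (fun g => g w) := (le_mn_iff G hG w 1).mpr h2
    have h5 := hmax w hw0 h3
    rw [div_le_iff₀ hn] at h5
    have h6 : 1 ≤ M * ‖w‖ := le_trans h4 h5
    rw [hnv]
    calc M⁻¹ = M⁻¹ * 1 := (mul_one _).symm
      _ ≤ M⁻¹ * (M * ‖w‖) := mul_le_mul_of_nonneg_left h6 (le_of_lt hMi)
      _ = ‖w‖ := by rw [← mul_assoc, inv_mul_cancel₀ (ne_of_gt hM), one_mul]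
  have hcont : ∀ φ : Module.Dual ℝ E,
      Tendsto (fun t : ℝ => φ (v₁ + t • d)) (𝓝 0) (𝓝 (φ v₁)) := by
    intro φ
    have hc : Continuous (fun t : ℝ => φ (v₁ + t • d)) := by
      have e1 : (fun t : ℝ => φ (v₁ + t • d)) = fun t : ℝ => φ v₁ + t * φ d := by
        funext t
        rw [map_add, map_smul, smul_eq_mul]
      rw [e1]
      exact continuous_const.add (continuous_id.mul continuous_const)
    have h := hc.tendsto 0
    simp only [zero_smul, add_zero] at h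
    exact h
  have hevF : ∀ f ∈ F, ∀ᶠ t : ℝ in 𝓝 0, 0 ≤ f (v₁ + t • d) := by
    intro f hf
    by_cases h0 : f v₁ = 0
    · have hd0 := hdF f hf h0
      refine Filter.Eventually.of_forall (fun t => ?_)
      have h1 : f (v₁ + t • d) = 0 := by
        rw [map_add, map_smul, h0, hd0, smul_zero, add_zero]
      exact le_of_eq h1.symm
    · have hpos : 0 < f v₁ := lt_of_le_of_ne (hfv f hf) (Ne.symm h0)
      exact ((hcont f).eventually (lt_mem_nhds hpos)).mono (fun t h => le_of_lt h)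
  have hevG : ∀ g ∈ G, ∀ᶠ t : ℝ in 𝓝 0, 1 ≤ g (v₁ + t • d) := by
    intro g hg
    by_cases h0 : g v₁ = 1
    · have hd0 := hdG g hg h0
      refine Filter.Eventually.of_forall (fun t => ?_)
      have h1 : g (v₁ + t • d) = 1 := by
        rw [map_add, map_smul, h0, hd0, smul_zero, add_zero]
      exact le_of_eq h1.symm
    · have hpos : 1 < g v₁ := lt_of_le_of_ne (hgv g hg) (Ne.symm h0)
      exact ((hcont g).eventually (lt_mem_nhds hpos)).mono (fun t h => le_of_lt h)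
  have hev : ∀ᶠ t : ℝ in 𝓝 0, ‖v₁‖ ≤ ‖v₁ + t • d‖ := by
    filter_upwards [(Filter.eventually_all_finset F).mpr hevF,
      (Filter.eventually_all_finset G).mpr hevG] with t h1 h2
    exact hmin _ h1 h2
  have hloc : IsLocalMin (fun t : ℝ => ‖v₁ + t • d‖ ^ 2) 0 := by
    show ∀ᶠ t : ℝ in 𝓝 0, (fun t : ℝ => ‖v₁ + t • d‖ ^ 2) 0 ≤ (fun t : ℝ => ‖v₁ + t • d‖ ^ 2) t
    refine hev.mono (fun t ht => ?_)
    show ‖v₁ + (0 : ℝ) • d‖ ^ 2 ≤ ‖v₁ + t • d‖ ^ 2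
    rw [zero_smul, add_zero]
    exact pow_le_pow_left₀ (norm_nonneg _) ht 2
  have hder : HasDerivAt (fun t : ℝ => ‖v₁ + t • d‖ ^ 2)
      (2 * inner ℝ (v₁ + (0 : ℝ) • d) ((1 : ℝ) • d)) 0 :=
    (((hasDerivAt_id' (0 : ℝ)).smul_const d).const_add v₁).norm_sq
  have h0 := hloc.hasDerivAt_eq_zero hder
  rw [zero_smul, add_zero, one_smul] at h0
  linarith

theorem rational_point_aux {ι : Type*} [Fintype ι]
    (L : Submodule ℤ E) [DiscreteTopology L] [IsZLattice ℝ L] (b : Module.Basis ι ℤ L)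
    (hint : ∀ x ∈ L, ∀ y ∈ L, ∃ n : ℤ, inner ℝ x y = (n : ℝ))
    (H : Finset (Module.Dual ℝ E))
    (hHi : ∀ h ∈ H, ∀ x ∈ L, ∃ n : ℤ, h x = (n : ℝ))
    (v₁ : E) (hc : ∀ h ∈ H, ∃ c : ℤ, h v₁ = (c : ℝ))
    (horth : ∀ d : E, (∀ h ∈ H, h d = 0) → inner ℝ v₁ d = 0) :
    ∃ N : ℕ, 0 < N ∧ (N : ℝ) • v₁ ∈ L := by
  classical
  obtain ⟨bE, hbEdef⟩ : ∃ bE : Module.Basis ι ℝ E, bE = b.ofZLatticeBasis ℝ L := ⟨_, rfl⟩
  have hbE : ∀ i, bE i = (b i : E) := fun i => by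
    rw [hbEdef]; exact b.ofZLatticeBasis_apply ℝ L i
  have hbL : ∀ i, bE i ∈ L := fun i => by rw [hbE]; exact (b i).2
  choose Q hQ using fun i j => hint (bE i) (hbL i) (bE j) (hbL j)
  have hHi' : ∀ (h : {h // h ∈ H}) (i : ι), ∃ n : ℤ, (h : Module.Dual ℝ E) (bE i) = (n : ℝ) :=
    fun h i => hHi h.1 h.2 (bE i) (hbL i)
  choose nH hnH using hHi'
  have hc' : ∀ h : {h // h ∈ H}, ∃ c : ℤ, (h : Module.Dual ℝ E) v₁ = (c : ℝ) :=
    fun h => hc h.1 h.2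
  choose cH hcH using hc'
  have hK : innerₛₗ ℝ v₁ ∈
      Submodule.span ℝ (Set.range (fun h : {h // h ∈ H} => (h : Module.Dual ℝ E))) := by
    apply mem_span_of_iInf_ker_le_ker
    intro d hd
    rw [LinearMap.mem_ker, innerₛₗ_apply_apply]
    simp only [Submodule.mem_iInf, LinearMap.mem_ker] at hd
    exact horth d (fun h hh => hd ⟨h, hh⟩)
  obtain ⟨lam, hlam0⟩ := (Submodule.mem_span_range_iff_exists_fun ℝ).mp hK
  have hlam : ∑ h : {h // h ∈ H}, lam h • (h : Module.Dual ℝ E) = innerₛₗ ℝ v₁ := hlam0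
  obtain ⟨x, hx⟩ : ∃ x : ι → ℝ, v₁ = ∑ i, x i • bE i :=
    ⟨fun i => bE.repr v₁ i, (bE.sum_repr v₁).symm⟩
  have hlin : ∀ (φ : E →ₗ[ℝ] ℝ) (y : ι → ℝ),
      φ (∑ i, y i • bE i) = ∑ i, y i * φ (bE i) := by
    intro φ y
    rw [map_sum]
    refine Finset.sum_congr rfl (fun i _ => ?_)
    rw [map_smul, smul_eq_mul]
  obtain ⟨ρ, hρ⟩ := LinearMap.exists_leftInverse_of_injective (Algebra.linearMap ℚ ℝ)
    (LinearMap.ker_eq_bot.mpr (fun a b hab => (algebraMap ℚ ℝ).injective hab))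
  have hρq : ∀ q : ℚ, ρ (q : ℝ) = q := by
    intro q
    have h1 := LinearMap.congr_fun hρ q
    rw [LinearMap.comp_apply, Algebra.linearMap_apply, LinearMap.id_apply, eq_ratCast] at h1
    exact h1
  obtain ⟨r, hr⟩ : ∃ r : ℝ →+ ℝ, ∀ t, r t = ((ρ t : ℚ) : ℝ) :=
    ⟨(Rat.castHom ℝ).toAddMonoidHom.comp ρ.toAddMonoidHom, fun t => rfl⟩
  have r_mul_int : ∀ (a : ℝ) (n : ℤ), r (a * (n : ℝ)) = r a * (n : ℝ) := by
    intro a n
    have e1 : a * (n : ℝ) = (n : ℚ) • a := by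
      rw [Rat.smul_def, Rat.cast_intCast, mul_comm]
    rw [hr, hr, e1, map_smul, smul_eq_mul, Rat.cast_mul, Rat.cast_intCast, mul_comm]
  have r_int : ∀ n : ℤ, r (n : ℝ) = (n : ℝ) := by
    intro n
    have e1 : (n : ℝ) = ((n : ℚ) : ℝ) := (Rat.cast_intCast n).symm
    have e2 : r (((n : ℚ) : ℝ)) = ((n : ℚ) : ℝ) := by rw [hr, hρq]
    rw [e1]
    exact e2
  have E1 : ∀ j, ∑ i, x i * (Q j i : ℝ) = ∑ h, lam h * (nH h j : ℝ) := by
    intro j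
    have h1 := LinearMap.congr_fun hlam (bE j)
    rw [LinearMap.sum_apply, innerₛₗ_apply_apply] at h1
    have h2 : inner ℝ v₁ (bE j) = ∑ i, x i * (Q j i : ℝ) := by
      have h3 : (innerₛₗ ℝ (bE j)) (∑ i, x i • bE i) =
          ∑ i, x i * (innerₛₗ ℝ (bE j)) (bE i) := hlin _ _
      rw [← hx, innerₛₗ_apply_apply] at h3
      rw [real_inner_comm, h3]
      refine Finset.sum_congr rfl (fun i _ => ?_)
      rw [innerₛₗ_apply_apply, hQ]
    rw [h2] at h1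
    rw [← h1]
    refine Finset.sum_congr rfl (fun h _ => ?_)
    rw [LinearMap.smul_apply, smul_eq_mul, hnH]
  have E2 : ∀ h : {h // h ∈ H}, ∑ i, x i * (nH h i : ℝ) = (cH h : ℝ) := by
    intro h
    have h3 : (h : Module.Dual ℝ E) (∑ i, x i • bE i) =
        ∑ i, x i * (h : Module.Dual ℝ E) (bE i) := hlin _ _
    rw [← hx, hcH] at h3
    rw [h3]
    refine Finset.sum_congr rfl (fun i _ => ?_)
    rw [hnH]
  have E1r : ∀ j, ∑ i, r (x i) * (Q j i : ℝ) = ∑ h, r (lam h) * (nH h j : ℝ) := by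
    intro j
    have h1 := congrArg r (E1 j)
    rw [map_sum, map_sum] at h1
    simp only [r_mul_int] at h1
    exact h1
  have E2r : ∀ h : {h // h ∈ H}, ∑ i, r (x i) * (nH h i : ℝ) = (cH h : ℝ) := by
    intro h
    have h1 := congrArg r (E2 h)
    rw [map_sum, r_int] at h1
    simp only [r_mul_int] at h1
    exact h1
  obtain ⟨v', hv'⟩ : ∃ v' : E, v' = ∑ i, r (x i) • bE i := ⟨_, rfl⟩
  have hHv' : ∀ h : {h // h ∈ H}, (h : Module.Dual ℝ E) v' = (h : Module.Dual ℝ E) v₁ := by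
    intro h
    have h3 : (h : Module.Dual ℝ E) (∑ i, r (x i) • bE i) =
        ∑ i, r (x i) * (h : Module.Dual ℝ E) (bE i) := hlin _ _
    rw [hv', h3, hcH, ← E2r h]
    refine Finset.sum_congr rfl (fun i _ => ?_)
    rw [hnH]
  have hK' : innerₛₗ ℝ v' = ∑ h : {h // h ∈ H}, r (lam h) • (h : Module.Dual ℝ E) := by
    refine bE.ext (fun j => ?_)
    rw [innerₛₗ_apply_apply, LinearMap.sum_apply, real_inner_comm]
    have h3 : (innerₛₗ ℝ (bE j)) (∑ i, r (x i) • bE i) =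
        ∑ i, r (x i) * (innerₛₗ ℝ (bE j)) (bE i) := hlin _ _
    rw [← hv', innerₛₗ_apply_apply] at h3
    rw [h3]
    have h4 : ∑ i, r (x i) * (innerₛₗ ℝ (bE j)) (bE i) = ∑ i, r (x i) * (Q j i : ℝ) :=
      Finset.sum_congr rfl (fun i _ => by rw [innerₛₗ_apply_apply, hQ])
    rw [h4, E1r j]
    refine Finset.sum_congr rfl (fun h _ => ?_)
    rw [LinearMap.smul_apply, smul_eq_mul, hnH]
  have hd : ∀ h ∈ H, h (v' - v₁) = 0 := by
    intro h hh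
    have e : h v' = h v₁ := hHv' ⟨h, hh⟩
    rw [map_sub, e, sub_self]
  have h1 : inner ℝ v₁ (v' - v₁) = 0 := horth _ hd
  have h2 : inner ℝ v' (v' - v₁) = 0 := by
    rw [← innerₛₗ_apply_apply ℝ v' (v' - v₁), hK', LinearMap.sum_apply]
    refine Finset.sum_eq_zero (fun h _ => ?_)
    rw [LinearMap.smul_apply, hd h.1 h.2, smul_zero]
  have h3 : inner ℝ (v' - v₁) (v' - v₁) = 0 := by
    rw [inner_sub_left, h1, h2, sub_zero]
  have hveq : v' = v₁ := sub_eq_zero.mp (inner_self_eq_zero.mp h3)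
  obtain ⟨q, hq⟩ : ∃ q : ι → ℚ, ∀ i, r (x i) = (q i : ℝ) :=
    ⟨fun i => ρ (x i), fun i => hr _⟩
  have hv1 : v₁ = ∑ i, (q i : ℝ) • bE i := by
    rw [← hveq, hv']
    exact Finset.sum_congr rfl (fun i _ => by rw [hq])
  refine ⟨∏ i, (q i).den, Finset.prod_pos (fun i _ => Rat.den_pos (q i)), ?_⟩
  rw [hv1, Finset.smul_sum]
  refine Submodule.sum_mem _ (fun i _ => ?_)
  obtain ⟨k, hk⟩ := Finset.dvd_prod_of_mem (fun i => (q i).den) (Finset.mem_univ i)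
  have h' : (q i : ℝ) * ((q i).den : ℝ) = ((q i).num : ℝ) := by
    exact_mod_cast Rat.mul_den_eq_num (q i)
  have e1 : ((∏ j, (q j).den : ℕ) : ℝ) * (q i : ℝ) = (((k : ℤ) * (q i).num : ℤ) : ℝ) := by
    rw [hk]
    push_cast
    rw [← h']
    ring
  rw [smul_smul, e1, hbE, Int.cast_smul_eq_zsmul]
  exact L.smul_mem _ (b i).2

theorem rational_point
    (L : Submodule ℤ E) [DiscreteTopology L] [IsZLattice ℝ L]
    (hint : ∀ x ∈ L, ∀ y ∈ L, ∃ n : ℤ, inner ℝ x y = (n : ℝ))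
    (H : Finset (Module.Dual ℝ E))
    (hHi : ∀ h ∈ H, ∀ x ∈ L, ∃ n : ℤ, h x = (n : ℝ))
    (v₁ : E) (hc : ∀ h ∈ H, ∃ c : ℤ, h v₁ = (c : ℝ))
    (horth : ∀ d : E, (∀ h ∈ H, h d = 0) → inner ℝ v₁ d = 0) :
    ∃ N : ℕ, 0 < N ∧ (N : ℝ) • v₁ ∈ L := by
  haveI : Module.Free ℤ L := ZLattice.module_free ℝ L
  haveI : Module.Finite ℤ L := ZLattice.module_finite ℝ L
  exact rational_point_aux L (Module.Free.chooseBasis ℤ L) hint H hHi v₁ hc horth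

theorem ray_lattice (L : Submodule ℤ E)
    (hint : ∀ x ∈ L, ∀ y ∈ L, ∃ n : ℤ, inner ℝ x y = (n : ℝ))
    (e : E) (he1 : ‖e‖ = 1) (t₁ : ℝ) (ht₁ : 0 < t₁) (ht₁L : t₁ • e ∈ L) :
    ∃ t₀ : ℝ, 0 < t₀ ∧ t₀ • e ∈ L ∧ (∀ t : ℝ, 0 < t → t • e ∈ L → t₀ ≤ t) ∧
      ∀ t : ℝ, t • e ∈ L → ∃ n : ℤ, t = (n : ℝ) * t₀ := by
  classical
  have hee : inner ℝ e e = 1 := by rw [real_inner_self_eq_norm_sq, he1, one_pow]
  have key : ∀ t : ℝ, 0 < t → t • e ∈ L → ∃ n : ℕ, 0 < n ∧ t * t₁ = (n : ℝ) := by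
    intro t ht htL
    obtain ⟨z, hz⟩ := hint _ htL _ ht₁L
    rw [real_inner_smul_left, real_inner_smul_right, hee, mul_one] at hz
    have hzpos : (0 : ℝ) < (z : ℝ) := by rw [← hz]; exact mul_pos ht ht₁
    have hz0 : 0 < z := Int.cast_pos.mp hzpos
    have hzn : ((z.toNat : ℕ) : ℝ) = (z : ℝ) := by
      exact_mod_cast Int.toNat_of_nonneg (le_of_lt hz0)
    refine ⟨z.toNat, by omega, ?_⟩
    rw [hz, hzn]
  have hex : ∃ n : ℕ, 0 < n ∧ ∃ t : ℝ, 0 < t ∧ t • e ∈ L ∧ t * t₁ = (n : ℝ) := by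
    obtain ⟨n, hn, hnt⟩ := key t₁ ht₁ ht₁L
    exact ⟨n, hn, t₁, ht₁, ht₁L, hnt⟩
  obtain ⟨hn₀, t₀, ht₀, ht₀L, ht₀n⟩ := Nat.find_spec hex
  have hmin : ∀ t : ℝ, 0 < t → t • e ∈ L → t₀ ≤ t := by
    intro t ht htL
    obtain ⟨n, hn, hnt⟩ := key t ht htL
    have h1 : Nat.find hex ≤ n := Nat.find_min' hex ⟨hn, t, ht, htL, hnt⟩
    have h2 : t₀ * t₁ ≤ t * t₁ := by
      rw [ht₀n, hnt]
      exact_mod_cast h1
    exact le_of_mul_le_mul_right h2 ht₁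
  refine ⟨t₀, ht₀, ht₀L, hmin, ?_⟩
  intro t htL
  obtain ⟨z, hz⟩ : ∃ z : ℤ, z = ⌊t / t₀⌋ := ⟨_, rfl⟩
  have h1 : (z : ℝ) * t₀ ≤ t := by
    rw [hz]
    have h := Int.floor_le (t / t₀)
    rwa [le_div_iff₀ ht₀] at h
  have h2 : t < (z : ℝ) * t₀ + t₀ := by
    rw [hz]
    have h := Int.lt_floor_add_one (t / t₀)
    rw [div_lt_iff₀ ht₀, add_mul, one_mul] at h
    exact h
  have h3 : (t - (z : ℝ) * t₀) • e ∈ L := by
    rw [sub_smul, mul_smul, Int.cast_smul_eq_zsmul]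
    exact L.sub_mem htL (L.smul_mem z ht₀L)
  refine ⟨z, ?_⟩
  by_contra hne
  have h4 : 0 < t - (z : ℝ) * t₀ :=
    lt_of_le_of_ne (sub_nonneg.mpr h1) (fun h => hne (by linarith))
  have h5 := hmin _ h4 h3
  linarith

theorem main17517
    (E : Type u) [NormedAddCommGroup E] [InnerProductSpace ℝ E] [FiniteDimensional ℝ E]
    (L : Submodule ℤ E) [DiscreteTopology L] [IsZLattice ℝ L]
    (hint : ∀ x ∈ L, ∀ y ∈ L, ∃ n : ℤ, inner ℝ x y = (n : ℝ))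
    (F G : Finset (Module.Dual ℝ E)) (hF : F.Nonempty) (hG : G.Nonempty)
    (hFi : ∀ f ∈ F, ∀ x ∈ L, ∃ n : ℤ, f x = (n : ℝ))
    (hGi : ∀ g ∈ G, ∀ x ∈ L, ∃ n : ℤ, g x = (n : ℝ))
    (hpos : ∃ v : E, 0 ≤ F.inf' hF (fun f => f v) ∧ 0 < G.inf' hG (fun g => g v)) :
    ∃ M : ℝ, IsGreatest ((fun v => G.inf' hG (fun g => g v) / ‖v‖) ''
        {v : E | v ≠ 0 ∧ 0 ≤ F.inf' hF (fun f => f v)}) M ∧
      ∃! v₀ : E, v₀ ∈ L ∧ v₀ ≠ 0 ∧ 0 ≤ F.inf' hF (fun f => f v₀) ∧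
        G.inf' hG (fun g => g v₀) / ‖v₀‖ = M ∧
        ∀ v ∈ L, v ≠ 0 → 0 ≤ F.inf' hF (fun f => f v) → G.inf' hG (fun g => g v) / ‖v‖ = M →
          ∃ n : ℤ, v = n • v₀ := by
  classical
  obtain ⟨e, he1, hfe, hM0, hmax0⟩ := exists_max F G hF hG hpos
  obtain ⟨M, hMdef⟩ : ∃ M : ℝ, M = G.inf' hG (fun g => g e) := ⟨_, rfl⟩
  have hM : 0 < M := by rw [hMdef]; exact hM0
  have hmax : ∀ w : E, w ≠ 0 → 0 ≤ F.inf' hF (fun f => f w) →
      G.inf' hG (fun g => g w) / ‖w‖ ≤ M := by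
    intro w hw hfw
    rw [hMdef]
    exact hmax0 w hw hfw
  have he0 : e ≠ 0 := by
    intro h
    rw [h, norm_zero] at he1
    exact zero_ne_one he1
  have huniq : ∀ w : E, w ≠ 0 → 0 ≤ F.inf' hF (fun f => f w) →
      G.inf' hG (fun g => g w) / ‖w‖ = M → w = ‖w‖ • e := fun w hw hfw hwM =>
    max_unique F G hF hG e he1 hfe M hMdef hM hmax w hw hfw hwM
  obtain ⟨H, hH⟩ : ∃ H : Finset (Module.Dual ℝ E),
      H = (F.filter (fun f => f (M⁻¹ • e) = 0)) ∪ (G.filter (fun g => g (M⁻¹ • e) = 1)) :=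
    ⟨_, rfl⟩
  have hHmem : ∀ h, h ∈ H ↔ (h ∈ F ∧ h (M⁻¹ • e) = 0) ∨ (h ∈ G ∧ h (M⁻¹ • e) = 1) := by
    intro h
    rw [hH, Finset.mem_union, Finset.mem_filter, Finset.mem_filter]
  obtain ⟨N, hN, hNL⟩ := rational_point L hint H
    (fun h hh x hx => by
      rcases (hHmem h).mp hh with ⟨h1, _⟩ | ⟨h1, _⟩
      · exact hFi h h1 x hx
      · exact hGi h h1 x hx)
    (M⁻¹ • e)
    (fun h hh => by
      rcases (hHmem h).mp hh with ⟨_, h2⟩ | ⟨_, h2⟩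
      · exact ⟨0, by rw [h2, Int.cast_zero]⟩
      · exact ⟨1, by rw [h2, Int.cast_one]⟩)
    (fun d hd => orth F G hF hG e he1 hfe M hMdef hM hmax d
      (fun f hf h0 => hd f ((hHmem f).mpr (Or.inl ⟨hf, h0⟩)))
      (fun g hg h1 => hd g ((hHmem g).mpr (Or.inr ⟨hg, h1⟩))))
  have hNpos : (0 : ℝ) < (N : ℝ) := Nat.cast_pos.mpr hN
  have ht₁L : ((N : ℝ) * M⁻¹) • e ∈ L := by rw [mul_smul]; exact hNL
  obtain ⟨t₀, ht₀, ht₀L, hmin, hmul⟩ := ray_lattice L hint e he1 ((N : ℝ) * M⁻¹)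
    (mul_pos hNpos (inv_pos.mpr hM)) ht₁L
  have hfmul : ∀ t : ℝ, 0 < t → 0 ≤ F.inf' hF (fun f => f (t • e)) := by
    intro t ht
    rw [mn_smul F hF t (le_of_lt ht) e]
    exact mul_nonneg (le_of_lt ht) hfe
  have hgmul : ∀ t : ℝ, 0 < t → G.inf' hG (fun g => g (t • e)) / ‖t • e‖ = M := by
    intro t ht
    rw [mn_smul G hG t (le_of_lt ht) e, norm_smul, he1, mul_one,
      Real.norm_of_nonneg (le_of_lt ht), ← hMdef, mul_div_cancel_left₀ M (ne_of_gt ht)]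
  have hne : ∀ t : ℝ, 0 < t → t • e ≠ 0 := fun t ht => smul_ne_zero (ne_of_gt ht) he0
  refine ⟨M, ⟨⟨e, ⟨he0, hfe⟩, ?_⟩, ?_⟩, ?_⟩
  · show G.inf' hG (fun g => g e) / ‖e‖ = M
    rw [he1, div_one, hMdef]
  · rintro _ ⟨w, ⟨hw0, hfw⟩, rfl⟩
    exact hmax w hw0 hfw
  · have hmult : ∀ v ∈ L, v ≠ 0 → 0 ≤ F.inf' hF (fun f => f v) →
        G.inf' hG (fun g => g v) / ‖v‖ = M → ∃ n : ℤ, v = n • (t₀ • e) := by
      intro v hvL hv0 hfv hvM
      have h1 := huniq v hv0 hfv hvM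
      have h2 : ‖v‖ • e ∈ L := by rw [← h1]; exact hvL
      obtain ⟨n, hn⟩ := hmul ‖v‖ h2
      refine ⟨n, ?_⟩
      rw [← Int.cast_smul_eq_zsmul ℝ n (t₀ • e), smul_smul, ← hn]
      exact h1
    refine ⟨t₀ • e, ⟨ht₀L, hne t₀ ht₀, hfmul t₀ ht₀, hgmul t₀ ht₀, hmult⟩, ?_⟩
    rintro y ⟨hyL, hy0, hfy, hyM, hymul⟩
    have h1 := huniq y hy0 hfy hyM
    have hny : 0 < ‖y‖ := norm_pos_iff.mpr hy0
    have h2 : ‖y‖ • e ∈ L := by rw [← h1]; exact hyL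
    have h3 : t₀ ≤ ‖y‖ := hmin ‖y‖ hny h2
    obtain ⟨z, hz⟩ := hymul (t₀ • e) ht₀L (hne t₀ ht₀) (hfmul t₀ ht₀) (hgmul t₀ ht₀)
    have h4 : t₀ = (z : ℝ) * ‖y‖ := by
      have h5 : t₀ • e = ((z : ℝ) * ‖y‖) • e := by
        rw [mul_smul, ← h1, Int.cast_smul_eq_zsmul]
        exact hz
      have h6 : (t₀ - (z : ℝ) * ‖y‖) • e = 0 := by rw [sub_smul, ← h5, sub_self]
      rcases smul_eq_zero.mp h6 with h7 | h7
      · linarith
      · exact absurd h7 he0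
    have hz1 : (1 : ℝ) ≤ (z : ℝ) := by
      have hzpos : (0 : ℝ) < (z : ℝ) := by
        by_contra hcon
        have hcon' : (z : ℝ) ≤ 0 := not_lt.mp hcon
        have h8 := mul_nonneg (neg_nonneg.mpr hcon') (le_of_lt hny)
        linarith
      have h9 : (0 : ℤ) < z := Int.cast_pos.mp hzpos
      have h10 : (1 : ℤ) ≤ z := h9
      exact_mod_cast h10
    have h9 : ‖y‖ ≤ t₀ := by
      rw [h4]
      calc ‖y‖ = 1 * ‖y‖ := (one_mul _).symm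
        _ ≤ (z : ℝ) * ‖y‖ := mul_le_mul_of_nonneg_right hz1 (le_of_lt hny)
    have h10 : ‖y‖ = t₀ := le_antisymm h9 h3
    calc y = ‖y‖ • e := h1
      _ = t₀ • e := by rw [h10]

end top

end Groth.Agent.Lib.KempfH4
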