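import Mathlib

set_option maxSynthPendingDepth 3
set_option autoImplicit false

open TensorProduct

namespace Groth.Agent.Lib.SplitInjLocusH3

universe u v w

section Transfer

variable {R : Type u} [CommRing R] (p : PrimeSpectrum R)
variable {X : Type v} {Y : Type w} [AddCommGroup X] [Module R X] [AddCommGroup Y] [Module R Y]

/-- Injectivity of `κ(p) ⊗_R g` can be tested after first base changing to `R_p`. -/
theorem injective_baseChange_residue_iff (g : X →ₗ[R] Y) :
    Function.Injective (g.baseChange p.asIdeal.ResidueField) ↔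
      Function.Injective
        ((g.baseChange (Localization.AtPrime p.asIdeal)).baseChange p.asIdeal.ResidueField) := by
  rw [LinearMap.baseChange_baseChange]
  simp only [LinearMap.coe_comp, LinearEquiv.coe_coe]
  rw [(LinearEquiv.injective _).of_comp_iff,
    Function.Injective.of_comp_iff' _ (LinearEquiv.bijective _)]

end Transfer

section KerRange

variable {R : Type u} [CommRing R] {M : Type v} {N : Type w} [AddCommGroup M] [Module R M]
  [AddCommGroup N] [Module R N]

/-- `κ ⊗ ker d → ker (κ ⊗ d)` is surjective iff `κ ⊗ im d → κ ⊗ N` is injective. -/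
theorem ker_le_range_iff (d : M →ₗ[R] N) (κ : Type*) [CommRing κ] [Algebra R κ] :
    LinearMap.ker (d.baseChange κ) ≤ LinearMap.range ((LinearMap.ker d).subtype.baseChange κ) ↔
      Function.Injective ((LinearMap.range d).subtype.baseChange κ) := by
  have hd : (LinearMap.range d).subtype ∘ₗ d.rangeRestrict = d := LinearMap.ext fun _ => rfl
  have hex0 : Function.Exact (LinearMap.ker d).subtype d.rangeRestrict := by
    rw [LinearMap.exact_iff, LinearMap.ker_rangeRestrict, Submodule.range_subtype]
  have hex : Function.Exact ((LinearMap.ker d).subtype.baseChange κ)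
      (d.rangeRestrict.baseChange κ) := by
    rw [LinearMap.baseChange_eq_ltensor, LinearMap.baseChange_eq_ltensor]
    exact lTensor_exact _ hex0 d.surjective_rangeRestrict
  have hsurj : Function.Surjective (d.rangeRestrict.baseChange κ) := by
    rw [LinearMap.baseChange_eq_ltensor]
    exact LinearMap.lTensor_surjective _ d.surjective_rangeRestrict
  have hcomp : ∀ x, (LinearMap.range d).subtype.baseChange κ (d.rangeRestrict.baseChange κ x) =
      d.baseChange κ x := by
    intro x
    rw [← LinearMap.comp_apply, ← LinearMap.baseChange_comp, hd]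
  constructor
  · intro hA
    rw [injective_iff_map_eq_zero]
    intro y hy
    obtain ⟨x, rfl⟩ := hsurj y
    rw [hcomp] at hy
    obtain ⟨z, rfl⟩ := hA (LinearMap.mem_ker.mpr hy)
    exact hex.apply_apply_eq_zero z
  · intro hinj x hx
    rw [LinearMap.mem_ker, ← hcomp] at hx
    have h0 : d.rangeRestrict.baseChange κ x = 0 := hinj (by rw [hx, map_zero])
    exact (hex x).mp h0

end KerRange

section KL

variable {R : Type u} [CommRing R] {N : Type w} [AddCommGroup N] [Module R N]
  [Module.Finite R N] [Module.Projective R N]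

/-- For `N` finite projective and `I ≤ N` finitely generated, `N ⧸ I` is free at `p` iff
`κ(p) ⊗ I → κ(p) ⊗ N` is injective. -/
theorem mem_freeLocus_quotient_iff (I : Submodule R N) (hI : I.FG) (p : PrimeSpectrum R) :
    p ∈ Module.freeLocus R (N ⧸ I) ↔
      Function.Injective (I.subtype.baseChange p.asIdeal.ResidueField) := by
  have : Module.Finite R I := Module.Finite.iff_fg.mpr hI
  rw [Module.mem_freeLocus_iff_tensor p (Localization.AtPrime p.asIdeal),
    injective_baseChange_residue_iff]
  have hexact : Function.Exact (I.subtype.baseChange (Localization.AtPrime p.asIdeal))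
      (I.mkQ.baseChange (Localization.AtPrime p.asIdeal)) := by
    rw [LinearMap.baseChange_eq_ltensor, LinearMap.baseChange_eq_ltensor]
    exact lTensor_exact _ (LinearMap.exact_subtype_mkQ I) (Submodule.mkQ_surjective I)
  have hsurj : Function.Surjective (I.mkQ.baseChange (Localization.AtPrime p.asIdeal)) := by
    rw [LinearMap.baseChange_eq_ltensor]
    exact LinearMap.lTensor_surjective _ (Submodule.mkQ_surjective I)
  have hinjA : Function.Injective (I.subtype.baseChange (Localization.AtPrime p.asIdeal)) := by
    rw [LinearMap.baseChange_eq_ltensor]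
    exact Module.Flat.lTensor_preserves_injective_linearMap _ Subtype.val_injective
  have : Module.Free (Localization.AtPrime p.asIdeal)
      (Localization.AtPrime p.asIdeal ⊗[R] N) := Module.free_of_flat_of_isLocalRing
  constructor
  · intro hfree
    have := hfree
    obtain ⟨s, hs⟩ := Module.projective_lifting_property
      (I.mkQ.baseChange (Localization.AtPrime p.asIdeal)) LinearMap.id hsurj
    have htfae := (Function.Exact.split_tfae hexact hinjA hsurj).out 0 1
    obtain ⟨r, hr⟩ := htfae.mp ⟨s, hs⟩
    have h2 : (r.baseChange p.asIdeal.ResidueField) ∘ₗ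
        ((I.subtype.baseChange (Localization.AtPrime p.asIdeal)).baseChange
          p.asIdeal.ResidueField) = LinearMap.id := by
      rw [← LinearMap.baseChange_comp, hr, LinearMap.baseChange_id]
    exact Function.HasLeftInverse.injective ⟨_, LinearMap.congr_fun h2⟩
  · intro hinj
    rw [LinearMap.baseChange_eq_ltensor] at hinj
    exact Module.free_of_lTensor_residueField_injective _ _ hsurj hexact hinj

end KL

section Key

variable {R : Type u} [CommRing R] {P₁ : Type v} {P₂ : Type w} [AddCommGroup P₁] [Module R P₁]
  [AddCommGroup P₂] [Module R P₂] [Module.Finite R P₁] [Module.Finite R P₂]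
  [Module.Projective R P₂]

/-- If `κ(q) ⊗ φ` is injective then `φ` has a retraction up to a scalar `u ∉ q`. -/
theorem exists_retraction_smul (φ : P₁ →ₗ[R] P₂) (q : PrimeSpectrum R)
    (h : Function.Injective (φ.baseChange q.asIdeal.ResidueField)) :
    ∃ (ρ : P₂ →ₗ[R] P₁) (u : R), u ∉ q.asIdeal ∧ ρ ∘ₗ φ = u • LinearMap.id := by
  rw [injective_baseChange_residue_iff, LinearMap.baseChange_eq_ltensor] at h
  have : Module.Free (Localization.AtPrime q.asIdeal)
      (Localization.AtPrime q.asIdeal ⊗[R] P₂) := Module.free_of_flat_of_isLocalRing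
  have : Module.FinitePresentation R P₂ := Module.finitePresentation_of_projective R P₂
  obtain ⟨r, hr⟩ := (IsLocalRing.split_injective_iff_lTensor_residueField_injective
    (φ.baseChange (Localization.AtPrime q.asIdeal))).mpr h
  let mk₁ : P₁ →ₗ[R] Localization.AtPrime q.asIdeal ⊗[R] P₁ := TensorProduct.mk R _ P₁ 1
  let mk₂ : P₂ →ₗ[R] Localization.AtPrime q.asIdeal ⊗[R] P₂ := TensorProduct.mk R _ P₂ 1
  obtain ⟨ρ, s, hρ⟩ := Module.FinitePresentation.exists_lift_of_isLocalizedModule
    q.asIdeal.primeCompl mk₁ ((r.restrictScalars R) ∘ₗ mk₂)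
  have h1 : mk₁ ∘ₗ (ρ ∘ₗ φ) = mk₁ ∘ₗ ((s : R) • LinearMap.id) := by
    rw [← LinearMap.comp_assoc, hρ]
    ext x
    have hx : r ((φ.baseChange (Localization.AtPrime q.asIdeal)) (1 ⊗ₜ x)) = 1 ⊗ₜ x := by
      have := LinearMap.congr_fun hr ((1 : Localization.AtPrime q.asIdeal) ⊗ₜ[R] x)
      simpa using this
    simp only [LinearMap.baseChange_tmul] at hx
    simp [mk₁, mk₂, hx, Submonoid.smul_def]
  obtain ⟨t, ht⟩ := Module.Finite.exists_smul_of_comp_eq_of_isLocalizedModule
    q.asIdeal.primeCompl mk₁ _ _ h1
  refine ⟨(t : R) • ρ, (t : R) * (s : R), ?_, ?_⟩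
  · exact Ideal.mem_primeCompl_iff.mp (q.asIdeal.primeCompl.mul_mem t.2 s.2)
  · rw [LinearMap.smul_comp, mul_smul]
    simpa [Submonoid.smul_def] using ht

omit [Module.Finite R P₁] [Module.Finite R P₂] [Module.Projective R P₂] in
theorem injective_baseChange_of_retraction_smul (φ : P₁ →ₗ[R] P₂) (ρ : P₂ →ₗ[R] P₁) (u : R)
    (hρ : ρ ∘ₗ φ = u • LinearMap.id) (q : PrimeSpectrum R) (hu : u ∉ q.asIdeal) :
    Function.Injective (φ.baseChange q.asIdeal.ResidueField) := by
  have h2 : (ρ.baseChange q.asIdeal.ResidueField) ∘ₗ (φ.baseChange q.asIdeal.ResidueField) =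
      u • LinearMap.id := by
    rw [← LinearMap.baseChange_comp, hρ, LinearMap.baseChange_smul, LinearMap.baseChange_id]
  have hne : algebraMap R q.asIdeal.ResidueField u ≠ 0 := by
    rw [Ne, Ideal.algebraMap_residueField_eq_zero]
    exact hu
  intro x y hxy
  have h3 := congrArg (ρ.baseChange q.asIdeal.ResidueField) hxy
  rw [← LinearMap.comp_apply, ← LinearMap.comp_apply, h2] at h3
  simp only [LinearMap.smul_apply, LinearMap.id_coe, id_eq] at h3
  rw [← algebraMap_smul q.asIdeal.ResidueField u x,
    ← algebraMap_smul q.asIdeal.ResidueField u y] at h3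
  exact smul_right_injective _ hne h3

/-- The locus where `κ(p) ⊗ φ` is injective is open. -/
theorem isOpen_inj_locus (φ : P₁ →ₗ[R] P₂) :
    IsOpen {p : PrimeSpectrum R |
      Function.Injective (φ.baseChange p.asIdeal.ResidueField)} := by
  rw [isOpen_iff_forall_mem_open]
  intro q hq
  obtain ⟨ρ, u, hu, hρ⟩ := exists_retraction_smul φ q hq
  refine ⟨PrimeSpectrum.basicOpen u, ?_, (PrimeSpectrum.basicOpen u).2, hu⟩
  intro q' hq'
  exact injective_baseChange_of_retraction_smul φ ρ u hρ q' hq'

theorem localized_map_injective (φ : P₁ →ₗ[R] P₂) (f : R)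
    (hf : ∀ q : PrimeSpectrum R, f ∉ q.asIdeal →
      Function.Injective (φ.baseChange q.asIdeal.ResidueField)) :
    Function.Injective (LocalizedModule.map (Submonoid.powers f) φ) := by
  rw [injective_iff_map_eq_zero]
  intro z
  induction z using LocalizedModule.induction_on with
  | h x s =>
    intro hz
    rw [LocalizedModule.map_mk, ← LocalizedModule.zero_mk 1, LocalizedModule.mk_eq] at hz
    obtain ⟨c, hc⟩ := hz
    have hy : φ ((c : R) • x) = 0 := by
      rw [map_smul]
      simpa [Submonoid.smul_def] using hc
    have hrad : f ∈ Ideal.radical (LinearMap.ker (LinearMap.toSpanSingleton R P₁ ((c : R) • x))) := by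
      rw [Ideal.radical_eq_sInf, Ideal.mem_sInf]
      rintro J ⟨hJ, hJp⟩
      by_contra hfJ
      obtain ⟨ρ, u, hu, hρ⟩ := exists_retraction_smul φ ⟨J, hJp⟩ (hf ⟨J, hJp⟩ hfJ)
      apply hu
      apply hJ
      rw [LinearMap.mem_ker, LinearMap.toSpanSingleton_apply]
      have := LinearMap.congr_fun hρ ((c : R) • x)
      simp only [LinearMap.comp_apply, hy, map_zero, LinearMap.smul_apply, LinearMap.id_coe,
        id_eq] at this
      exact this.symm
    obtain ⟨n, hn⟩ := hrad
    rw [LinearMap.mem_ker, LinearMap.toSpanSingleton_apply] at hn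
    rw [← LocalizedModule.zero_mk 1, LocalizedModule.mk_eq]
    refine ⟨⟨f ^ n, n, rfl⟩ * c, ?_⟩
    simpa [Submonoid.smul_def, mul_smul] using hn

theorem coker_localized_projective (φ : P₁ →ₗ[R] P₂) (f : R)
    (hf : ∀ q : PrimeSpectrum R, f ∉ q.asIdeal →
      Function.Injective (φ.baseChange q.asIdeal.ResidueField)) :
    Module.Projective (Localization.Away f)
      (LocalizedModule (Submonoid.powers f) (P₂ ⧸ LinearMap.range φ)) := by
  have hfg : (LinearMap.range φ).FG := Module.Finite.iff_fg.mp inferInstance
  have : Module.FinitePresentation R P₂ := Module.finitePresentation_of_projective R P₂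
  have : Module.FinitePresentation R (P₂ ⧸ LinearMap.range φ) :=
    Module.finitePresentation_of_surjective (LinearMap.range φ).mkQ
      (Submodule.mkQ_surjective _) (by rwa [Submodule.ker_mkQ])
  refine Module.basicOpen_subset_freeLocus_iff.mp ?_
  intro q hq
  rw [mem_freeLocus_quotient_iff _ hfg]
  have hcomp : (LinearMap.range φ).subtype ∘ₗ φ.rangeRestrict = φ := LinearMap.ext fun _ => rfl
  have h1 : Function.Injective (((LinearMap.range φ).subtype.baseChange q.asIdeal.ResidueField) ∘
      (φ.rangeRestrict.baseChange q.asIdeal.ResidueField)) := by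
    have := hf q hq
    rwa [← LinearMap.coe_comp, ← LinearMap.baseChange_comp, hcomp]
  refine Function.Injective.of_comp_right h1 ?_
  rw [LinearMap.baseChange_eq_ltensor]
  exact LinearMap.lTensor_surjective _ φ.surjective_rangeRestrict

end Key

section Coker

variable {R : Type u} [CommRing R] {M : Type v} {N : Type w} [AddCommGroup M] [Module R M]
  [AddCommGroup N] [Module R N] [Module.Finite R M] [Module.Finite R N] [Module.Projective R N]

theorem finitePresentation_coker (d : M →ₗ[R] N) :
    Module.FinitePresentation R (N ⧸ LinearMap.range d) := by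
  have hfg : (LinearMap.range d).FG := Module.Finite.iff_fg.mp inferInstance
  have : Module.FinitePresentation R N := Module.finitePresentation_of_projective R N
  exact Module.finitePresentation_of_surjective (LinearMap.range d).mkQ
      (Submodule.mkQ_surjective _) (by rwa [Submodule.ker_mkQ])

/-- `κ(p) ⊗ ker d → ker(κ(p) ⊗ d)` surjective iff `coker d` is free at `p`. -/
theorem ker_le_range_iff_mem_freeLocus (d : M →ₗ[R] N) (p : PrimeSpectrum R) :
    LinearMap.ker (d.baseChange p.asIdeal.ResidueField) ≤
        LinearMap.range ((LinearMap.ker d).subtype.baseChange p.asIdeal.ResidueField) ↔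
      p ∈ Module.freeLocus R (N ⧸ LinearMap.range d) := by
  have hfg : (LinearMap.range d).FG := Module.Finite.iff_fg.mp inferInstance
  rw [ker_le_range_iff, mem_freeLocus_quotient_iff _ hfg]

end Coker

end Groth.Agent.Lib.SplitInjLocusH3
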