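import Mathlib
import Groth.Agent.Lib.SplitInjLocus_helper3

/-!
# S14608: exchange property for the kernel at a prime (lead)
-/

set_option autoImplicit false
set_option maxSynthPendingDepth 3
universe u v

namespace Groth.Agent.Lib.KerExchange

open TensorProduct

section

variable {R : Type u} [CommRing R] {K : Type*} {M : Type*} {Q : Type*}
  [AddCommGroup K] [Module R K] [AddCommGroup M] [Module R M] [AddCommGroup Q] [Module R Q]

theorem exists_retraction_of_mem_freeLocus (f : K →ₗ[R] M) (g : M →ₗ[R] Q)
    (hex : Function.Exact f g) (hf : Function.Injective f) (hg : Function.Surjective g)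
    (p : PrimeSpectrum R) (hfree : p ∈ Module.freeLocus R Q) :
    ∃ r : (Localization.AtPrime p.asIdeal ⊗[R] M) →ₗ[Localization.AtPrime p.asIdeal]
        (Localization.AtPrime p.asIdeal ⊗[R] K),
      r ∘ₗ f.baseChange (Localization.AtPrime p.asIdeal) = LinearMap.id := by
  rw [Module.mem_freeLocus_iff_tensor p (Localization.AtPrime p.asIdeal)] at hfree
  haveI := hfree
  have hexact : Function.Exact (f.baseChange (Localization.AtPrime p.asIdeal))
      (g.baseChange (Localization.AtPrime p.asIdeal)) := by
    rw [LinearMap.baseChange_eq_ltensor, LinearMap.baseChange_eq_ltensor]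
    exact lTensor_exact _ hex hg
  have hsurj : Function.Surjective (g.baseChange (Localization.AtPrime p.asIdeal)) := by
    rw [LinearMap.baseChange_eq_ltensor]
    exact LinearMap.lTensor_surjective _ hg
  have hinjA : Function.Injective (f.baseChange (Localization.AtPrime p.asIdeal)) := by
    rw [LinearMap.baseChange_eq_ltensor]
    exact Module.Flat.lTensor_preserves_injective_linearMap _ hf
  obtain ⟨s, hs⟩ := Module.projective_lifting_property
    (g.baseChange (Localization.AtPrime p.asIdeal)) LinearMap.id hsurj
  have htfae := (Function.Exact.split_tfae hexact hinjA hsurj).out 0 1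
  exact htfae.mp ⟨s, hs⟩

theorem injective_baseChange_residue_of_mem_freeLocus (f : K →ₗ[R] M) (g : M →ₗ[R] Q)
    (hex : Function.Exact f g) (hf : Function.Injective f) (hg : Function.Surjective g)
    (p : PrimeSpectrum R) (hfree : p ∈ Module.freeLocus R Q) :
    Function.Injective (f.baseChange p.asIdeal.ResidueField) := by
  obtain ⟨r, hr⟩ := exists_retraction_of_mem_freeLocus f g hex hf hg p hfree
  rw [Groth.Agent.Lib.SplitInjLocusH3.injective_baseChange_residue_iff]
  have h2 : (r.baseChange p.asIdeal.ResidueField) ∘ₗ
      ((f.baseChange (Localization.AtPrime p.asIdeal)).baseChange p.asIdeal.ResidueField) =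
        LinearMap.id := by
    rw [← LinearMap.baseChange_comp, hr, LinearMap.baseChange_id]
  exact Function.HasLeftInverse.injective ⟨_, LinearMap.congr_fun h2⟩

theorem mem_freeLocus_of_exact [Module.Finite R K] [Module.Free R M]
    (f : K →ₗ[R] M) (g : M →ₗ[R] Q)
    (hex : Function.Exact f g) (hf : Function.Injective f) (hg : Function.Surjective g)
    (p : PrimeSpectrum R) (hfree : p ∈ Module.freeLocus R Q) :
    p ∈ Module.freeLocus R K := by
  obtain ⟨r, hr⟩ := exists_retraction_of_mem_freeLocus f g hex hf hg p hfree
  rw [Module.mem_freeLocus_iff_tensor p (Localization.AtPrime p.asIdeal)]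
  have : Module.Projective (Localization.AtPrime p.asIdeal)
      (Localization.AtPrime p.asIdeal ⊗[R] K) :=
    Module.Projective.of_split (f.baseChange (Localization.AtPrime p.asIdeal)) r hr
  exact Module.free_of_flat_of_isLocalRing

end

theorem main (A : Type u) [CommRing A]
    (M : Type v) (F : Type v) [AddCommGroup M] [Module A M] [Module.Finite A M]
    [AddCommGroup F] [Module A F] [Module.Finite A F] [Module.Free A F]
    (δ : M →ₗ[A] F) (p : Ideal A) [p.IsPrime] :
    [ Function.Exact (LinearMap.lTensor p.ResidueField (LinearMap.ker δ).subtype)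
        (LinearMap.lTensor p.ResidueField δ),
      Function.Exact (LinearMap.lTensor p.ResidueField (LinearMap.ker δ).subtype)
        (LinearMap.lTensor p.ResidueField δ) ∧
        Function.Injective (LinearMap.lTensor p.ResidueField (LinearMap.ker δ).subtype),
      Module.Free (Localization.AtPrime p)
        (LocalizedModule p.primeCompl (F ⧸ LinearMap.range δ)) ].TFAE ∧
    (Function.Exact (LinearMap.lTensor p.ResidueField (LinearMap.ker δ).subtype)
        (LinearMap.lTensor p.ResidueField δ) →
      Module.Free (Localization.AtPrime p)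
        (LocalizedModule p.primeCompl (LinearMap.range δ))) := by
  have hex0 : Function.Exact (LinearMap.ker δ).subtype δ.rangeRestrict := by
    rw [LinearMap.exact_iff, LinearMap.ker_rangeRestrict, Submodule.range_subtype]
  have hz : δ ∘ₗ (LinearMap.ker δ).subtype = 0 :=
    LinearMap.ext fun m => LinearMap.mem_ker.mp m.2
  have hiff : Function.Exact (LinearMap.lTensor p.ResidueField (LinearMap.ker δ).subtype)
        (LinearMap.lTensor p.ResidueField δ) ↔
      LinearMap.ker (δ.baseChange p.ResidueField) ≤
        LinearMap.range ((LinearMap.ker δ).subtype.baseChange p.ResidueField) := by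
    constructor
    · intro hex x hx
      have hx' : (LinearMap.lTensor p.ResidueField δ) x = 0 := LinearMap.mem_ker.mp hx
      obtain ⟨z, hz'⟩ := (hex x).mp hx'
      exact ⟨z, hz'⟩
    · intro hle y
      constructor
      · intro hy
        have hy' : y ∈ LinearMap.ker (δ.baseChange p.ResidueField) := LinearMap.mem_ker.mpr hy
        obtain ⟨z, hz'⟩ := hle hy'
        exact ⟨z, hz'⟩
      · rintro ⟨z, rfl⟩
        have h1 := LinearMap.congr_fun (congrArg (LinearMap.lTensor p.ResidueField) hz) z
        rw [LinearMap.lTensor_comp, LinearMap.comp_apply, LinearMap.lTensor_zero,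
          LinearMap.zero_apply] at h1
        exact h1
  have hac : Function.Exact (LinearMap.lTensor p.ResidueField (LinearMap.ker δ).subtype)
        (LinearMap.lTensor p.ResidueField δ) ↔
      (⟨p, inferInstance⟩ : PrimeSpectrum A) ∈ Module.freeLocus A (F ⧸ LinearMap.range δ) :=
    hiff.trans
      (Groth.Agent.Lib.SplitInjLocusH3.ker_le_range_iff_mem_freeLocus δ ⟨p, inferInstance⟩)
  have hI : (⟨p, inferInstance⟩ : PrimeSpectrum A) ∈ Module.freeLocus A (F ⧸ LinearMap.range δ) →
      (⟨p, inferInstance⟩ : PrimeSpectrum A) ∈ Module.freeLocus A (LinearMap.range δ) :=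
    fun hc => mem_freeLocus_of_exact (LinearMap.range δ).subtype (LinearMap.range δ).mkQ
      (LinearMap.exact_subtype_mkQ _) Subtype.val_injective (Submodule.mkQ_surjective _) _ hc
  have hinj : (⟨p, inferInstance⟩ : PrimeSpectrum A) ∈ Module.freeLocus A (LinearMap.range δ) →
      Function.Injective (LinearMap.lTensor p.ResidueField (LinearMap.ker δ).subtype) := by
    intro hI'
    have := injective_baseChange_residue_of_mem_freeLocus (LinearMap.ker δ).subtype
      δ.rangeRestrict hex0 Subtype.val_injective δ.surjective_rangeRestrict _ hI'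
    exact this
  have hC : Module.Free (Localization.AtPrime p)
        (LocalizedModule p.primeCompl (F ⧸ LinearMap.range δ)) ↔
      (⟨p, inferInstance⟩ : PrimeSpectrum A) ∈ Module.freeLocus A (F ⧸ LinearMap.range δ) :=
    Iff.rfl
  have hR : Module.Free (Localization.AtPrime p)
        (LocalizedModule p.primeCompl (LinearMap.range δ)) ↔
      (⟨p, inferInstance⟩ : PrimeSpectrum A) ∈ Module.freeLocus A (LinearMap.range δ) :=
    Iff.rfl
  refine ⟨?_, fun ha => hR.mpr (hI (hac.mp ha))⟩
  tfae_have 1 → 3 := fun ha => hC.mpr (hac.mp ha)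
  tfae_have 3 → 2 := fun hc => ⟨hac.mpr (hC.mp hc), hinj (hI (hC.mp hc))⟩
  tfae_have 2 → 1 := fun hb => hb.1
  tfae_finish

end Groth.Agent.Lib.KerExchange
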