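import Mathlib
import Groth.Prelude
import Groth.Agent.Lib.KerFree1_helper8
import Groth.Agent.Lib.DimGenFib_helper8
import Groth.Agent.Lib.CohDev11_helper8

set_option autoImplicit false
universe u

open CategoryTheory CategoryTheory.Limits AlgebraicGeometry TopologicalSpace Opposite IsLocalRing
open QcqsLoc GenLocH8 SecOrdH8 FLFH8 QCohExtn RefHullH8 RefBasisH8 HomLinH8 SDivGenH8 SDivFreeH8

/-! Elementary transformations of finite locally free modules on regular surfaces. -/

namespace KerFreeH8

variable {X : Scheme.{u}}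

/-- Kernels inherit the extension property when the sections of the quotient restrict injectively
to big opens. -/
theorem hasExt_kernel' (S : ShortComplex X.Modules) (hS : S.ShortExact)
    (hE : HasExt S.X₂)
    (hQ : ∀ (V U₁ : X.Opens) (h : BigIn U₁ V), Function.Injective (rF S.X₃ h.1)) :
    HasExt S.X₁ := by
  intro V U₁ hbig
  obtain ⟨hinjV, hexV⟩ := Groth.Agent.Lib.WeakAssSch2_helper4.sections_exact hS V
  obtain ⟨hinjU, hexU⟩ := Groth.Agent.Lib.WeakAssSch2_helper4.sections_exact hS U₁
  have hnatf : ∀ t : Γ(S.X₁, V), S.f.app U₁ (rF S.X₁ hbig.1 t) = rF S.X₂ hbig.1 (S.f.app V t) :=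
    fun t => ap_rF S.f hbig.1 t
  have hnatg : ∀ t : Γ(S.X₂, V), S.g.app U₁ (rF S.X₂ hbig.1 t) = rF S.X₃ hbig.1 (S.g.app V t) :=
    fun t => ap_rF S.g hbig.1 t
  constructor
  · intro a b hab
    apply hinjV
    apply (hE V U₁ hbig).1
    rw [← hnatf, ← hnatf, hab]
  · intro t
    obtain ⟨e, he⟩ := (hE V U₁ hbig).2 (S.f.app U₁ t)
    have hq : S.g.app V e = 0 := by
      apply hQ V U₁ hbig
      rw [← hnatg, he, map_zero]
      exact (hexU _).mpr ⟨t, rfl⟩
    obtain ⟨t', ht'⟩ := (hexV e).mp hq
    refine ⟨t', ?_⟩
    apply hinjU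
    rw [hnatf, ht', he]

/-- The generic point of an integral closed subscheme of dimension one of a scheme of dimension at
most two has codimension at most one. -/
theorem coheight_generic_le_one {C : Scheme.{u}} (j : C ⟶ X) [IsIntegral C]
    (hj : Function.Injective j.base)
    (hC : topologicalKrullDim C = 1) (hX : topologicalKrullDim X ≤ 2) :
    Order.coheight (j.base (genericPoint C)) ≤ 1 := by
  rw [Groth.Agent.DimGenFibH8.topDim_eq_krullDim] at hC hX
  have h1 : (1 : WithBot ℕ∞) ≤ Order.krullDim C := hC.ge
  obtain ⟨a, b, hab⟩ := Order.one_le_krullDim_iff.mp h1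
  have hbξ : b ≤ genericPoint C := (genericPoint_spec C).specializes (Set.mem_univ b)
  have haξ : a < genericPoint C := lt_of_lt_of_le hab hbξ
  have h2 : j.base a < j.base (genericPoint C) := by
    have hs : genericPoint C ⤳ a := haξ.le
    have h3 : j.base (genericPoint C) ⤳ j.base a := hs.map j.base.hom.continuous
    refine lt_of_le_not_ge h3 (fun h' => ?_)
    have h4 : j.base a ⤳ j.base (genericPoint C) := h'
    have h5 : a = genericPoint C := hj (h4.antisymm h3).eq
    exact (lt_irrefl _ (h5 ▸ haξ))
  have h4 : (1 : ℕ∞) ≤ Order.height (j.base (genericPoint C)) := by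
    have := Order.height_add_one_le h2
    exact le_trans (by simp) this
  haveI : Nonempty X := ⟨j.base a⟩
  have h5 : ((Order.height (j.base (genericPoint C)) +
      Order.coheight (j.base (genericPoint C)) : ℕ∞) : WithBot ℕ∞) ≤ Order.krullDim X := by
    rw [Order.krullDim_eq_iSup_height_add_coheight_of_nonempty, WithBot.coe_le_coe]
    exact le_iSup (fun a : X => Order.height a + Order.coheight a) (j.base (genericPoint C))
  have h6 : ((Order.height (j.base (genericPoint C)) +
      Order.coheight (j.base (genericPoint C)) : ℕ∞) : WithBot ℕ∞) ≤ ((2 : ℕ∞) : WithBot ℕ∞) :=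
    h5.trans hX
  have h7 := WithBot.coe_le_coe.mp h6
  have h8 : (1 : ℕ∞) + Order.coheight (j.base (genericPoint C)) ≤ 1 + 1 := by
    rw [one_add_one_eq_two]
    exact (add_le_add_left h4 _).trans h7
  exact (ENat.add_le_add_iff_left (by simp)).mp h8

/-- On an integral regular scheme of dimension at most two, the kernel of an epimorphism from a
finite locally free module onto the direct image of a coherent module with torsion-free stalks on
an integral closed subscheme of dimension one is finite locally free. -/
theorem isFinLocFree_kernel_push [IsIntegral X] [IsLocallyNoetherian X]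
    (hreg : ∀ x : X, IsRegularLocalRing (X.presheaf.stalk x))
    (hdim : topologicalKrullDim X ≤ 2) {C : Scheme.{u}} (j : C ⟶ X) [IsClosedImmersion j]
    [IsIntegral C] (hC : topologicalKrullDim C = 1) {M : C.Modules} (hM : Coh.IsCoh M)
    (hMtf : TorSh.IsTorsionFree M) {F : X.Modules} (hF : FlatMod.IsFinLocFree F)
    (f : F ⟶ (Scheme.Modules.pushforward j).obj M) [Epi f] :
    FlatMod.IsFinLocFree (kernel f) := by
  have hX := RegKerH8.isNormalScheme_of_regular hreg
  have hFc := isCoh_of_finLocFree hF
  haveI : M.IsQuasicoherent := hM.1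
  have hQc : Coh.IsCoh ((Scheme.Modules.pushforward j).obj M) :=
    CohDevH8.isCoh_pushforward_of_isFinite j hM
  have hKc : Coh.IsCoh (kernel f) := CohKerH8.isCoh_kernel hFc hQc f
  let S : ShortComplex X.Modules := ShortComplex.mk (kernel.ι f) f (kernel.condition f)
  have hS : S.ShortExact :=
    { exact := ShortComplex.exact_kernel f
      mono_f := inferInstanceAs (Mono (kernel.ι f))
      epi_g := inferInstanceAs (Epi f) }
  have hGI : S2.GenInj M := RegKerH8.genInj_of_torsionFree M hMtf
  have hinj : Function.Injective j.base := j.isClosedEmbedding.injective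
  have hQinj : ∀ (V U₁ : X.Opens) (h : BigIn U₁ V),
      Function.Injective (rF ((Scheme.Modules.pushforward j).obj M) h.1) := by
    intro V U₁ h
    rw [injective_iff_map_eq_zero]
    intro t ht
    let t' : Γ(M, j ⁻¹ᵁ V) := t
    have ht' : rF M (j.preimage_mono h.1) t' = 0 := ht
    show t' = 0
    apply hGI (j ⁻¹ᵁ V) t'
    intro hη
    have hξU : j.base (genericPoint C) ∈ U₁ :=
      h.2 _ hη (coheight_generic_le_one j hinj hC hdim)
    have hξU' : genericPoint C ∈ j ⁻¹ᵁ U₁ := hξU
    rw [← germ_rF M (j.preimage_mono h.1) _ hξU' t', ht', map_zero]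
  have hEx : HasExt (kernel f) :=
    hasExt_kernel' S hS (hasExt_of_isReflexive hX (isReflexive_of_finLocFree hF)) hQinj
  have hKtf : TorSh.IsTorsionFree (kernel f) :=
    isTorsionFree_of_mono (kernel.ι f) (isTorsionFree_of_finLocFree hF)
  have hrefl : RefHull.IsReflexive (kernel f) :=
    isReflexive_of_torsionFree_of_hasExt hX hKc hKtf hEx
  exact (Groth.Agent.S1689.result X hreg hdim (kernel f) hKc).mp
    (((isReflexive_tfae (kernel f) hKc).out 0 1).mp hrefl)

end KerFreeH8
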