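import Groth.Statements.S14643
import Groth.Agent.Lib.GeomQuotSep_lead
import Groth.Prelude.Def_ChGrp

/-! # The action of `G/N` induced by an action of `G` with kernel `N` (lead) -/

set_option backward.isDefEq.respectTransparency false
set_option backward.isDefEq.respectTransparency.types false
set_option linter.unusedSimpArgs false
set_option linter.unusedVariables false
set_option linter.unusedSectionVars false
set_option linter.style.longLine false
set_option linter.style.haveILetI false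
set_option maxHeartbeats 800000

universe u

open CategoryTheory CategoryTheory.Limits MonoidalCategory CartesianMonoidalCategory MonObj GrpObj
  AlgebraicGeometry Opposite Topology

namespace Groth.Agent.Lib.KerQuotAct

open Groth.Agent.Lib.AssocBundle Groth.Agent.Lib.GeomQuotSep Groth.Agent.Lib.BundleStages
  Groth.Agent.Lib.TorsorSeq SchFpqcCovH7

variable {S : Scheme.{u}}

theorem action_ext {Q X : Over S} [GrpObj Q] (b b' : AlgGrp.Action Q X) (h : b.act = b'.act) :
    b = b' := by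
  obtain ⟨a1, h1, h2⟩ := b
  obtain ⟨a2, h3, h4⟩ := b'
  dsimp only at h
  subst h
  rfl

section general

variable {G N Q X : Over S} [GrpObj G] [GrpObj N] [GrpObj Q] (a : AlgGrp.Action G X)
  (n : N ⟶ G) (π : G ⟶ Q) [IsMonHom π]
  (hN : ∀ (T : Over S) (g : T ⟶ G),
      (∃ m : T ⟶ N, m ≫ n = g) ↔
        ∀ (T' : Over S) (s : T' ⟶ T) (x : T' ⟶ X), lift (s ≫ g) x ≫ a.act = x)
  (hker : AlgGrp.IsKernel n π)

include hN hker in
theorem act_eq_of_pi_eq {T : Over S} (g₁ g₂ : T ⟶ G) (h : g₁ ≫ π = g₂ ≫ π) (x : T ⟶ X) :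
    lift g₁ x ≫ a.act = lift g₂ x ≫ a.act := by
  have hd : (g₂⁻¹ * g₁) ≫ π = toUnit T ≫ η[Q] := by
    rw [MonObj.mul_comp, GrpObj.inv_comp, h, inv_mul_cancel, Hom.one_def]
  have hm : (hker.lift (g₂⁻¹ * g₁) (toUnit T) hd) ≫ n = g₂⁻¹ * g₁ := hker.lift_fst _ _ _
  have h2 := ((hN T (g₂⁻¹ * g₁)).1 ⟨_, hm⟩) T (𝟙 T) x
  rw [Category.id_comp] at h2
  have h3 : g₁ = g₂ * (g₂⁻¹ * g₁) := by rw [mul_inv_cancel_left]
  calc lift g₁ x ≫ a.act = lift (g₂ * (g₂⁻¹ * g₁)) x ≫ a.act := by rw [← h3]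
    _ = lift g₂ (lift (g₂⁻¹ * g₁) x ≫ a.act) ≫ a.act := act_mul' a _ _ _
    _ = lift g₂ x ≫ a.act := by rw [h2]

include hN hker in
theorem exists_desc (hc : IsCov π.left) : ∃ bact : Q ⊗ X ⟶ X, (π ▷ X) ≫ bact = a.act := by
  apply desc_of_isCov (π ▷ X) (isCov_whiskerRight π X hc) a.act
  intro T a₁ a₂ h
  have h1 : (a₁ ≫ fst G X) ≫ π = (a₂ ≫ fst G X) ≫ π := by
    have := congrArg (fun z => z ≫ fst Q X) h
    simpa only [Category.assoc, whiskerRight_fst] using this
  have h2 : a₁ ≫ snd G X = a₂ ≫ snd G X := by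
    have := congrArg (fun z => z ≫ snd Q X) h
    simpa only [Category.assoc, whiskerRight_snd] using this
  rw [lift_eta a₁, lift_eta a₂, ← h2]
  exact act_eq_of_pi_eq a n π hN hker _ _ h1 _

theorem Kb {bact : Q ⊗ X ⟶ X} (hb : (π ▷ X) ≫ bact = a.act) {T : Over S} (g : T ⟶ G)
    (x : T ⟶ X) : lift (g ≫ π) x ≫ bact = lift g x ≫ a.act := by
  rw [← hb, lift_whiskerRight_assoc]

theorem one_act_desc {bact : Q ⊗ X ⟶ X} (hb : (π ▷ X) ≫ bact = a.act) :
    (η[Q] ▷ X) ≫ bact = (λ_ X).hom := by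
  have h1 : η[Q] ▷ X = (η[G] ▷ X) ≫ (π ▷ X) := by
    rw [← comp_whiskerRight, IsMonHom.one_hom]
  rw [h1, Category.assoc, hb, a.one_act]

theorem mul_act_desc (hc : IsCov π.left) {bact : Q ⊗ X ⟶ X} (hb : (π ▷ X) ≫ bact = a.act) :
    (μ[Q] ▷ X) ≫ bact = (α_ Q Q X).hom ≫ (Q ◁ bact) ≫ bact := by
  haveI : Epi ((π ⊗ₘ π) ▷ X) :=
    epi_of_isCov _ (isCov_whiskerRight (π ⊗ₘ π) X (isCov_tensorHom π π hc hc))
  rw [← cancel_epi ((π ⊗ₘ π) ▷ X)]
  apply AlgGrp.Action.hom_ext_lift₃
  intro T g g' x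
  have L : lift (lift g g') x ≫ ((π ⊗ₘ π) ▷ X) ≫ (μ[Q] ▷ X) ≫ bact
      = lift g (lift g' x ≫ a.act) ≫ a.act := by
    rw [lift_whiskerRight_assoc, lift_whiskerRight_assoc, lift_map, ← Hom.mul_def,
      ← MonObj.mul_comp, Kb a π hb, act_mul']
  have R : lift (lift g g') x ≫ ((π ⊗ₘ π) ▷ X) ≫ (α_ Q Q X).hom ≫ (Q ◁ bact) ≫ bact
      = lift g (lift g' x ≫ a.act) ≫ a.act := by
    rw [lift_whiskerRight_assoc, lift_map, lift_lift_associator_hom_assoc,
      lift_whiskerLeft_assoc, Kb a π hb, Kb a π hb]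
  rw [L, R]

include hN hker in
theorem existsUnique_action (hc : IsCov π.left) :
    ∃! b : AlgGrp.Action Q X, (π ▷ X) ≫ b.act = a.act := by
  obtain ⟨bact, hb⟩ := exists_desc a n π hN hker hc
  refine ⟨⟨bact, one_act_desc a π hb, mul_act_desc a π hc hb⟩, hb, ?_⟩
  intro b' hb'
  apply action_ext
  haveI : Epi (π ▷ X) := epi_of_isCov _ (isCov_whiskerRight π X hc)
  rw [← cancel_epi (π ▷ X)]
  exact hb'.trans hb.symm

include hN hker in
theorem faithful [Flat π.left] [Surjective π.left] [QuasiCompact π.left]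
    (b : AlgGrp.Action Q X) (hb : (π ▷ X) ≫ b.act = a.act) (T : Over S) (q : T ⟶ Q)
    (hq : ∀ (T' : Over S) (s : T' ⟶ T) (x : T' ⟶ X), lift (s ≫ q) x ≫ b.act = x) : q = 1 := by
  obtain ⟨T₁, P1, P2, hcov, -, hP⟩ := exists_lift_cover π ⟨inferInstance, inferInstance, inferInstance⟩ q
  have hfac : ∃ m : T₁ ⟶ N, m ≫ n = P2 := by
    rw [hN T₁ P2]
    intro T' s x
    rw [← Kb a π hb, Category.assoc, ← hP, ← Category.assoc]
    exact hq T' (s ≫ P1) x
  obtain ⟨m, hm⟩ := hfac
  have h1 : P2 ≫ π = 1 := by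
    rw [← hm, Category.assoc, hker.w, ← Category.assoc, Hom.one_def]
    congr 1
    exact toUnit_unique _ _
  have h2 : P1 ≫ (1 : T ⟶ Q) = 1 := by
    rw [Hom.one_def, Hom.one_def, ← Category.assoc]
    congr 1
    exact toUnit_unique _ _
  haveI : Epi P1 := epi_of_isCov _ hcov
  rw [← cancel_epi P1, hP, h1, h2]

theorem graph_eq (b : AlgGrp.Action Q X) (hb : (π ▷ X) ≫ b.act = a.act) :
    (lift (snd G X) a.act).left = (π ▷ X).left ≫ (lift (snd Q X) b.act).left := by
  rw [← Over.comp_left, comp_lift, whiskerRight_snd, hb]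

theorem surj_iff [Surjective π.left] (b : AlgGrp.Action Q X) (hb : (π ▷ X) ≫ b.act = a.act) :
    Surjective (lift (snd G X) a.act).left ↔ Surjective (lift (snd Q X) b.act).left := by
  haveI : Surjective (π ▷ X).left :=
    MorphismProperty.of_isPullback (P := @Surjective) (isPullback_whiskerRight X π).flip
      inferInstance
  rw [graph_eq a π b hb]
  constructor
  · intro h
    exact Surjective.of_comp (π ▷ X).left _
  · intro h
    infer_instance

theorem dom_iff [Surjective π.left] (b : AlgGrp.Action Q X) (hb : (π ▷ X) ≫ b.act = a.act) :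
    IsDominant (lift (snd G X) a.act).left ↔ IsDominant (lift (snd Q X) b.act).left := by
  haveI : Surjective (π ▷ X).left :=
    MorphismProperty.of_isPullback (P := @Surjective) (isPullback_whiskerRight X π).flip
      inferInstance
  rw [graph_eq a π b hb]
  constructor
  · intro h
    exact IsDominant.of_comp (π ▷ X).left _
  · intro h
    infer_instance

end general

theorem main (k : Type u) [Field k]
    (G N Q X : Over (Spec (CommRingCat.of k))) [GrpObj G] [Smooth G.hom] [QuasiCompact G.hom]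
    [IsSeparated X.hom] [LocallyOfFiniteType X.hom] [QuasiCompact X.hom] [GeometricallyIntegral X.hom] (a : AlgGrp.Action G X)
    [GrpObj N] (n : N ⟶ G) [IsMonHom n] [IsClosedImmersion n.left]
    (hN : ∀ (T : Over (Spec (CommRingCat.of k))) (g : T ⟶ G),
      (∃ m : T ⟶ N, m ≫ n = g) ↔
        ∀ (T' : Over (Spec (CommRingCat.of k))) (s : T' ⟶ T) (x : T' ⟶ X), CartesianMonoidalCategory.lift (s ≫ g) x ≫ a.act = x)
    [GrpObj Q] [LocallyOfFiniteType Q.hom] [QuasiCompact Q.hom] (π : G ⟶ Q) [IsMonHom π] [Flat π.left] [Surjective π.left]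
    (hker : AlgGrp.IsKernel n π) :
    (∃! b : AlgGrp.Action Q X, (π ▷ X) ≫ b.act = a.act) ∧
    ∀ b : AlgGrp.Action Q X, (π ▷ X) ≫ b.act = a.act →
      (∀ (T : Over (Spec (CommRingCat.of k))) (q : T ⟶ Q),
        (∀ (T' : Over (Spec (CommRingCat.of k))) (s : T' ⟶ T) (x : T' ⟶ X), CartesianMonoidalCategory.lift (s ≫ q) x ≫ b.act = x) → q = 1) ∧
      (Surjective (CartesianMonoidalCategory.lift (CartesianMonoidalCategory.snd G X) a.act).left ↔
        Surjective (CartesianMonoidalCategory.lift (CartesianMonoidalCategory.snd Q X) b.act).left) ∧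
      (IsDominant (CartesianMonoidalCategory.lift (CartesianMonoidalCategory.snd G X) a.act).left ↔
        IsDominant (CartesianMonoidalCategory.lift (CartesianMonoidalCategory.snd Q X) b.act).left) := by
  haveI : IsNoetherianRing (CommRingCat.of k) := inferInstanceAs (IsNoetherianRing k)
  haveI : IsLocallyNoetherian Q.left := LocallyOfFiniteType.isLocallyNoetherian Q.hom
  haveI : CompactSpace G.left := QuasiCompact.compactSpace_of_compactSpace G.hom
  haveI : QuasiCompact π.left := quasiCompact_of_compactSpace π.left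
  have hc : IsCov π.left := isCov_of_flat π.left
  refine ⟨existsUnique_action a n π hN hker hc, ?_⟩
  intro b hb
  exact ⟨faithful a n π hN hker b hb, surj_iff a π b hb, dom_iff a π b hb⟩

end Groth.Agent.Lib.KerQuotAct
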