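import Mathlib
import Groth.Agent.Lib.SurjLocus_helper3

/-!
# Finite modules over reduced rings with locally constant fibre rank are projective (helper3)
-/

set_option autoImplicit false
set_option maxSynthPendingDepth 3

namespace Groth.Agent.Lib.ReducedRankH3

open PrimeSpectrum TensorProduct Groth.Agent.Lib.FlatRankLocus Groth.Agent.Lib.SurjLocus

universe u

variable {R : Type u} [CommRing R] {M : Type u} [AddCommGroup M] [Module R M]

/-- Step A: generators at a prime, as many as the fibre rank. -/
lemma exists_generators_at [Module.Finite R M] (p : PrimeSpectrum R) :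
    ∃ ψ : (Fin (Module.finrank p.asIdeal.ResidueField (p.asIdeal.ResidueField ⊗[R] M)) → R)
        →ₗ[R] M, Function.Surjective (ψ.lTensor p.asIdeal.ResidueField) := by
  classical
  set s : Set (p.asIdeal.ResidueField ⊗[R] M) :=
    Set.range (fun m : M => (1 : p.asIdeal.ResidueField) ⊗ₜ[R] m) with hs
  have hspan : Submodule.span p.asIdeal.ResidueField s = ⊤ := by
    rw [eq_top_iff]
    intro z _
    induction z using TensorProduct.induction_on with
    | zero => exact Submodule.zero_mem _
    | tmul c m =>
      have : c ⊗ₜ[R] m = c • ((1 : p.asIdeal.ResidueField) ⊗ₜ[R] m) := by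
        rw [TensorProduct.smul_tmul', smul_eq_mul, mul_one]
      rw [this]
      exact Submodule.smul_mem _ _ (Submodule.subset_span ⟨m, rfl⟩)
    | add x y hx hy => exact Submodule.add_mem _ (hx Submodule.mem_top) (hy Submodule.mem_top)
  obtain ⟨f, hf, hfspan, -⟩ := Submodule.exists_fun_fin_finrank_span_eq p.asIdeal.ResidueField s
  have hn : Module.finrank p.asIdeal.ResidueField (Submodule.span p.asIdeal.ResidueField s) =
      Module.finrank p.asIdeal.ResidueField (p.asIdeal.ResidueField ⊗[R] M) := by
    rw [hspan]
    exact finrank_top _ _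
  choose m hm using hf
  let m' : Fin (Module.finrank p.asIdeal.ResidueField (p.asIdeal.ResidueField ⊗[R] M)) → M :=
    fun i => m (Fin.cast hn.symm i)
  refine ⟨Fintype.linearCombination R m', ?_⟩
  have hrange : LinearMap.range ((Fintype.linearCombination R m').baseChange
      p.asIdeal.ResidueField) = ⊤ := by
    rw [eq_top_iff, ← hspan, ← hfspan, Submodule.span_le]
    rintro _ ⟨i, rfl⟩
    refine ⟨(1 : p.asIdeal.ResidueField) ⊗ₜ[R] Pi.single (Fin.cast hn i) 1, ?_⟩
    rw [LinearMap.baseChange_tmul, Fintype.linearCombination_apply_single, one_smul]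
    simp only [m']
    rw [← hm i]
    congr 2
  rw [← LinearMap.baseChange_eq_ltensor]
  exact LinearMap.range_eq_top.mp hrange

/-- Step B: kernel elements have coordinates in `q` when the fibre map is a surjection between
spaces of the same dimension. -/
lemma coord_mem_of_apply_eq_zero {r : ℕ} (ψ : (Fin r → R) →ₗ[R] M) (q : PrimeSpectrum R)
    [Module.Finite R M]
    (hsurj : Function.Surjective (ψ.lTensor q.asIdeal.ResidueField))
    (hr : Module.finrank q.asIdeal.ResidueField (q.asIdeal.ResidueField ⊗[R] M) = r)
    (x : Fin r → R) (hx : ψ x = 0) (i : Fin r) : x i ∈ q.asIdeal := by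
  classical
  have hnt : Nontrivial R := (algebraMap R q.asIdeal.ResidueField).domain_nontrivial
  have hdim : Module.finrank q.asIdeal.ResidueField (q.asIdeal.ResidueField ⊗[R] (Fin r → R)) =
      Module.finrank q.asIdeal.ResidueField (q.asIdeal.ResidueField ⊗[R] M) := by
    rw [hr, Module.finrank_baseChange, Module.finrank_fin_fun]
  have hinj : Function.Injective (ψ.baseChange q.asIdeal.ResidueField) := by
    rw [LinearMap.injective_iff_surjective_of_finrank_eq_finrank hdim,
      LinearMap.baseChange_eq_ltensor]
    exact hsurj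
  have h0 : (1 : q.asIdeal.ResidueField) ⊗ₜ[R] x = 0 := by
    apply hinj
    rw [LinearMap.baseChange_tmul, hx, TensorProduct.tmul_zero, map_zero]
  have h1 := congrArg (TensorProduct.piScalarRight R q.asIdeal.ResidueField
    q.asIdeal.ResidueField (Fin r)) h0
  rw [map_zero, TensorProduct.piScalarRight_apply, TensorProduct.piScalarRightHom_tmul] at h1
  have h2 := congrFun h1 i
  rw [← Ideal.algebraMap_residueField_eq_zero, Algebra.algebraMap_eq_smul_one]
  exact h2

/-- Step C: bijectivity after inverting `f`. -/
lemma localized_bijective [IsReduced R] [Module.Finite R M] {r : ℕ} (ψ : (Fin r → R) →ₗ[R] M)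
    (f : R)
    (h : ∀ q : PrimeSpectrum R, f ∉ q.asIdeal →
      Function.Surjective (ψ.lTensor q.asIdeal.ResidueField) ∧
      Module.finrank q.asIdeal.ResidueField (q.asIdeal.ResidueField ⊗[R] M) = r) :
    Function.Bijective (LocalizedModule.map (Submonoid.powers f) ψ) := by
  constructor
  · rw [injective_iff_map_eq_zero]
    intro z
    induction z using LocalizedModule.induction_on with
    | h x s =>
      intro hz
      rw [LocalizedModule.map_mk, ← LocalizedModule.zero_mk 1, LocalizedModule.mk_eq] at hz
      obtain ⟨c, hc⟩ := hz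
      have hy : ψ ((c : R) • x) = 0 := by
        rw [map_smul]
        simpa [Submonoid.smul_def] using hc
      have hzero : ∀ i, f * ((c : R) • x) i = 0 := by
        intro i
        apply IsReduced.eq_zero
        rw [nilpotent_iff_mem_prime]
        intro J hJ
        by_cases hfJ : f ∈ J
        · exact J.mul_mem_right _ hfJ
        · exact J.mul_mem_left _
            (coord_mem_of_apply_eq_zero ψ ⟨J, hJ⟩ (h ⟨J, hJ⟩ hfJ).1 (h ⟨J, hJ⟩ hfJ).2 _ hy i)
      rw [← LocalizedModule.zero_mk 1, LocalizedModule.mk_eq]
      refine ⟨⟨f, Submonoid.mem_powers f⟩ * c, ?_⟩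
      have : f • (c : R) • x = 0 := by
        ext i
        simpa using hzero i
      simpa [Submonoid.smul_def, mul_smul] using this
  · apply surj_away_of_basicOpen_subset
    intro q hq
    exact (surj_at_iff_lTensor ψ q).mpr (h q hq).1

/-- Local freeness near a prime. -/
lemma exists_free_away [IsReduced R] [Module.Finite R M]
    (hconst : IsLocallyConstant (fun p : PrimeSpectrum R =>
      Module.finrank p.asIdeal.ResidueField (p.asIdeal.ResidueField ⊗[R] M)))
    (p : PrimeSpectrum R) :
    ∃ f : R, f ∉ p.asIdeal ∧
      Module.Free (Localization.Away f) (LocalizedModule (Submonoid.powers f) M) ∧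
      Module.Finite (Localization.Away f) (LocalizedModule (Submonoid.powers f) M) := by
  obtain ⟨ψ, hψ⟩ := exists_generators_at (M := M) p
  have hU1 : IsOpen {q : PrimeSpectrum R | Function.Surjective
      (LocalizedModule.map q.asIdeal.primeCompl ψ)} := isOpen_surj_locus ψ
  have hU2 : IsOpen {q : PrimeSpectrum R |
      Module.finrank q.asIdeal.ResidueField (q.asIdeal.ResidueField ⊗[R] M) =
      Module.finrank p.asIdeal.ResidueField (p.asIdeal.ResidueField ⊗[R] M)} :=
    hconst.isOpen_fiber _
  have hp1 : p ∈ {q : PrimeSpectrum R | Function.Surjective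
      (LocalizedModule.map q.asIdeal.primeCompl ψ)} := (surj_at_iff_lTensor ψ p).mpr hψ
  have hp12 : p ∈ {q : PrimeSpectrum R | Function.Surjective
      (LocalizedModule.map q.asIdeal.primeCompl ψ)} ∩ {q : PrimeSpectrum R |
      Module.finrank q.asIdeal.ResidueField (q.asIdeal.ResidueField ⊗[R] M) =
      Module.finrank p.asIdeal.ResidueField (p.asIdeal.ResidueField ⊗[R] M)} := ⟨hp1, rfl⟩
  obtain ⟨v, ⟨f, rfl⟩, hpf, hsub⟩ :=
    PrimeSpectrum.isTopologicalBasis_basic_opens.exists_subset_of_mem_open
      hp12 (hU1.inter hU2)
  have hbij := localized_bijective ψ f (fun q hq =>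
    ⟨(surj_at_iff_lTensor ψ q).mp (hsub hq).1, (hsub hq).2⟩)
  have hfree : Module.Free (Localization.Away f) (LocalizedModule (Submonoid.powers f)
      (Fin (Module.finrank p.asIdeal.ResidueField (p.asIdeal.ResidueField ⊗[R] M)) → R)) :=
    Module.free_of_isLocalizedModule (Submonoid.powers f)
      (LocalizedModule.mkLinearMap (Submonoid.powers f) _)
  refine ⟨f, hpf, ?_, inferInstance⟩
  exact Module.Free.of_equiv (LinearEquiv.ofBijective _ hbij)

/-- Main theorem: finite + reduced + locally constant fibre rank ⟹ projective. -/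
theorem projective_of_isLocallyConstant_fibreRank [IsReduced R] [Module.Finite R M]
    (hconst : IsLocallyConstant (fun p : PrimeSpectrum R =>
      Module.finrank p.asIdeal.ResidueField (p.asIdeal.ResidueField ⊗[R] M))) :
    Module.Projective R M := by
  set s : Set R := {f | Module.Free (Localization.Away f)
      (LocalizedModule (Submonoid.powers f) M) ∧
      Module.Finite (Localization.Away f) (LocalizedModule (Submonoid.powers f) M)} with hs
  have hspan : Ideal.span s = ⊤ := by
    by_contra hne
    obtain ⟨𝔪, h𝔪, hle⟩ := Ideal.exists_le_maximal _ hne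
    obtain ⟨f, hf, hfree, hfin⟩ := exists_free_away hconst ⟨𝔪, h𝔪.isPrime⟩
    exact hf (hle (Ideal.subset_span ⟨hfree, hfin⟩))
  have hfp : Module.FinitePresentation R M := by
    refine Module.FinitePresentation.of_localizationSpan s hspan ?_
    rintro ⟨g, hgfree, hgfin⟩
    exact Module.finitePresentation_of_projective (Localization.Away g)
      (LocalizedModule (Submonoid.powers g) M)
  rw [← Module.freeLocus_eq_univ_iff, Set.eq_univ_iff_forall]
  intro p
  obtain ⟨f, hf, hfree, hfin⟩ := exists_free_away hconst p
  have : (↑(PrimeSpectrum.basicOpen f) : Set (PrimeSpectrum R)) ⊆ Module.freeLocus R M :=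
    Module.basicOpen_subset_freeLocus_iff.mpr inferInstance
  exact this hf

end Groth.Agent.Lib.ReducedRankH3
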