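import Mathlib
import Groth.Agent.Lib.FiberRank_helper9
import Groth.Agent.Lib.ReducedRank_helper3

/-!
# S14610: locally constant fibre dimension of the kernel ⇒ everything is projective (lead)
-/

set_option autoImplicit false
universe u v

namespace Groth.Agent.Lib.KerRankConst

open TensorProduct

/-- universe-generalised version of helper3's theorem -/
theorem projective_of_const {R : Type u} [CommRing R] [IsReduced R] {M : Type v} [AddCommGroup M]
    [Module R M] [Module.Finite R M]
    (hconst : IsLocallyConstant (fun p : PrimeSpectrum R =>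
      Module.finrank p.asIdeal.ResidueField (p.asIdeal.ResidueField ⊗[R] M))) :
    Module.Projective R M := by
  obtain ⟨n, f, hf⟩ := Module.Finite.exists_fin' R M
  let e : ((Fin n → R) ⧸ LinearMap.ker f) ≃ₗ[R] M := f.quotKerEquivOfSurjective hf
  have hM' : Module.Projective R ((Fin n → R) ⧸ LinearMap.ker f) := by
    apply Groth.Agent.Lib.ReducedRankH3.projective_of_isLocallyConstant_fibreRank
    have : (fun p : PrimeSpectrum R =>
        Module.finrank p.asIdeal.ResidueField
          (p.asIdeal.ResidueField ⊗[R] ((Fin n → R) ⧸ LinearMap.ker f))) =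
        (fun p : PrimeSpectrum R =>
          Module.finrank p.asIdeal.ResidueField (p.asIdeal.ResidueField ⊗[R] M)) := by
      funext p
      exact (TensorProduct.AlgebraTensorModule.congr
        (LinearEquiv.refl p.asIdeal.ResidueField p.asIdeal.ResidueField) e).finrank_eq
    rw [this]
    exact hconst
  exact Module.Projective.of_equiv e

theorem main (A : Type u) [CommRing A] [IsReduced A]
    (M : Type v) (F : Type v) [AddCommGroup M] [Module A M] [Module.Finite A M]
    [AddCommGroup F] [Module A F] [Module.Finite A F] [Module.Free A F] (δ : M →ₗ[A] F)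
    (h : IsLocallyConstant (fun x : PrimeSpectrum A =>
      Module.finrank x.asIdeal.ResidueField
        (LinearMap.ker (δ.baseChange x.asIdeal.ResidueField)))) :
    Module.Projective A M ∧ Module.Projective A (LinearMap.ker δ) ∧
      Module.Projective A (F ⧸ LinearMap.range δ) ∧
      ∀ (N : Type v) [AddCommGroup N] [Module A N],
        Function.Injective (LinearMap.rTensor N (LinearMap.ker δ).subtype) ∧
        Function.Exact (LinearMap.rTensor N (LinearMap.ker δ).subtype)
          (LinearMap.rTensor N δ) := by
  have key : ∀ z : PrimeSpectrum A,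
      Module.finrank z.asIdeal.ResidueField
          (LinearMap.ker (δ.baseChange z.asIdeal.ResidueField)) +
        Module.finrank z.asIdeal.ResidueField (z.asIdeal.ResidueField ⊗[A] F) =
      Module.finrank z.asIdeal.ResidueField (z.asIdeal.ResidueField ⊗[A] M) +
        Module.finrank z.asIdeal.ResidueField
          (z.asIdeal.ResidueField ⊗[A] (F ⧸ LinearMap.range δ)) := by
    intro z
    have e1 := LinearMap.finrank_range_add_finrank_ker (δ.baseChange z.asIdeal.ResidueField)
    have e2 := FiberRank9.finrank_range_baseChange_add z.asIdeal.ResidueField δ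
    omega
  have hF : ∀ z : PrimeSpectrum A,
      Module.finrank z.asIdeal.ResidueField (z.asIdeal.ResidueField ⊗[A] F) =
        Module.finrank A F := fun z => by
    haveI : Nontrivial A := PrimeSpectrum.nonempty_iff_nontrivial.mp ⟨z⟩
    exact Module.finrank_baseChange
  have hac : ∀ x : PrimeSpectrum A, ∀ᶠ y in nhds x,
      Module.finrank y.asIdeal.ResidueField (y.asIdeal.ResidueField ⊗[A] M) =
        Module.finrank x.asIdeal.ResidueField (x.asIdeal.ResidueField ⊗[A] M) ∧
      Module.finrank y.asIdeal.ResidueField
          (y.asIdeal.ResidueField ⊗[A] (F ⧸ LinearMap.range δ)) =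
        Module.finrank x.asIdeal.ResidueField
          (x.asIdeal.ResidueField ⊗[A] (F ⧸ LinearMap.range δ)) := by
    intro x
    have h1 := FiberRank9.eventually_fiber_le (A := A) M x
    have h2 := FiberRank9.eventually_fiber_le (A := A) (F ⧸ LinearMap.range δ) x
    have h3 := h.eventually_eq x
    filter_upwards [h1, h2, h3] with y hy1 hy2 hy3
    have kx := key x
    have ky := key y
    rw [hF] at kx ky
    have hy3' : Module.finrank y.asIdeal.ResidueField
        (LinearMap.ker (δ.baseChange y.asIdeal.ResidueField)) =
      Module.finrank x.asIdeal.ResidueField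
        (LinearMap.ker (δ.baseChange x.asIdeal.ResidueField)) := hy3
    omega
  have hMconst : IsLocallyConstant (fun p : PrimeSpectrum A =>
      Module.finrank p.asIdeal.ResidueField (p.asIdeal.ResidueField ⊗[A] M)) := by
    rw [IsLocallyConstant.iff_eventually_eq]
    intro x
    filter_upwards [hac x] with y hy using hy.1
  have hCconst : IsLocallyConstant (fun p : PrimeSpectrum A =>
      Module.finrank p.asIdeal.ResidueField
        (p.asIdeal.ResidueField ⊗[A] (F ⧸ LinearMap.range δ))) := by
    rw [IsLocallyConstant.iff_eventually_eq]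
    intro x
    filter_upwards [hac x] with y hy using hy.2
  haveI hM : Module.Projective A M := projective_of_const hMconst
  haveI hC : Module.Projective A (F ⧸ LinearMap.range δ) := projective_of_const hCconst
  -- section of the quotient map
  obtain ⟨s, hs⟩ := Module.projective_lifting_property (LinearMap.range δ).mkQ
    (LinearMap.id : (F ⧸ LinearMap.range δ) →ₗ[A] (F ⧸ LinearMap.range δ))
    (Submodule.mkQ_surjective _)
  have hπmem : ∀ x : F, x - s ((LinearMap.range δ).mkQ x) ∈ LinearMap.range δ := by
    intro x
    have h1 : (LinearMap.range δ).mkQ (s ((LinearMap.range δ).mkQ x)) =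
        (LinearMap.range δ).mkQ x := by
      have := LinearMap.congr_fun hs ((LinearMap.range δ).mkQ x)
      exact this
    have h2 : (LinearMap.range δ).mkQ (x - s ((LinearMap.range δ).mkQ x)) = 0 := by
      rw [map_sub, h1, sub_self]
    rwa [← LinearMap.mem_ker, Submodule.ker_mkQ] at h2
  obtain ⟨π, hπdef⟩ : ∃ π : F →ₗ[A] LinearMap.range δ,
      ∀ x, (π x : F) = x - s ((LinearMap.range δ).mkQ x) :=
    ⟨(LinearMap.id - s ∘ₗ (LinearMap.range δ).mkQ).codRestrict (LinearMap.range δ)
      (fun x => hπmem x), fun x => rfl⟩
  have hπ : ∀ y : LinearMap.range δ, π y.1 = y := by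
    intro y
    apply Subtype.ext
    rw [hπdef]
    have : (LinearMap.range δ).mkQ y.1 = 0 := by
      rw [← LinearMap.mem_ker, Submodule.ker_mkQ]; exact y.2
    rw [this, map_zero, sub_zero]
  have hπcomp : π ∘ₗ (LinearMap.range δ).subtype = LinearMap.id :=
    LinearMap.ext fun y => hπ y
  haveI hR : Module.Projective A (LinearMap.range δ) :=
    Module.Projective.of_split (LinearMap.range δ).subtype π hπcomp
  -- section of δ onto its range
  obtain ⟨t, ht⟩ := Module.projective_lifting_property δ.rangeRestrict
    (LinearMap.id : (LinearMap.range δ) →ₗ[A] (LinearMap.range δ))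
    δ.surjective_rangeRestrict
  have ht' : ∀ z : LinearMap.range δ, δ (t z) = z.1 := by
    intro z
    have h2 := congrArg Subtype.val (LinearMap.congr_fun ht z)
    exact h2
  obtain ⟨ρ, hρ⟩ : ∃ ρ : M →ₗ[A] LinearMap.ker δ,
      ∀ m, (ρ m : M) = m - t (δ.rangeRestrict m) :=
    ⟨(LinearMap.id - t ∘ₗ δ.rangeRestrict).codRestrict (LinearMap.ker δ) (fun m => by
      rw [LinearMap.mem_ker, LinearMap.sub_apply, LinearMap.id_apply, LinearMap.comp_apply,
        map_sub, ht']
      exact sub_self _), fun m => rfl⟩
  have hρk : ∀ m : LinearMap.ker δ, ρ m.1 = m := by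
    intro m
    apply Subtype.ext
    rw [hρ]
    have : δ.rangeRestrict m.1 = 0 := Subtype.ext (LinearMap.mem_ker.mp m.2)
    rw [this, map_zero, sub_zero]
  have hρcomp : ρ ∘ₗ (LinearMap.ker δ).subtype = LinearMap.id :=
    LinearMap.ext fun m => hρk m
  have hK : Module.Projective A (LinearMap.ker δ) :=
    Module.Projective.of_split (LinearMap.ker δ).subtype ρ hρcomp
  have hsum : (LinearMap.ker δ).subtype ∘ₗ ρ + t ∘ₗ δ.rangeRestrict = LinearMap.id := by
    apply LinearMap.ext
    intro m
    rw [LinearMap.add_apply, LinearMap.comp_apply, LinearMap.comp_apply,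
      Submodule.subtype_apply, hρ, LinearMap.id_apply]
    exact sub_add_cancel _ _
  have hδ : (LinearMap.range δ).subtype ∘ₗ δ.rangeRestrict = δ := LinearMap.ext fun m => rfl
  have hz : δ ∘ₗ (LinearMap.ker δ).subtype = 0 :=
    LinearMap.ext fun m => LinearMap.mem_ker.mp m.2
  refine ⟨hM, hK, hC, ?_⟩
  intro N _ _
  constructor
  · apply Function.LeftInverse.injective (g := ρ.rTensor N)
    intro z
    have h1 := LinearMap.congr_fun (congrArg (LinearMap.rTensor N) hρcomp) z
    rw [LinearMap.rTensor_comp, LinearMap.comp_apply, LinearMap.rTensor_id,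
      LinearMap.id_apply] at h1
    exact h1
  · intro y
    constructor
    · intro hy
      have h1 := LinearMap.congr_fun (congrArg (LinearMap.rTensor N) hδ) y
      rw [LinearMap.rTensor_comp, LinearMap.comp_apply, hy] at h1
      have h2 := LinearMap.congr_fun (congrArg (LinearMap.rTensor N) hπcomp)
        (δ.rangeRestrict.rTensor N y)
      rw [LinearMap.rTensor_comp, LinearMap.comp_apply, h1, map_zero, LinearMap.rTensor_id,
        LinearMap.id_apply] at h2
      have h3 := LinearMap.congr_fun (congrArg (LinearMap.rTensor N) hsum) y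
      rw [LinearMap.rTensor_add, LinearMap.add_apply, LinearMap.rTensor_comp,
        LinearMap.rTensor_comp, LinearMap.comp_apply, LinearMap.comp_apply, ← h2, map_zero,
        add_zero, LinearMap.rTensor_id, LinearMap.id_apply] at h3
      exact ⟨ρ.rTensor N y, h3⟩
    · rintro ⟨z, rfl⟩
      have h1 := LinearMap.congr_fun (congrArg (LinearMap.rTensor N) hz) z
      rw [LinearMap.rTensor_comp, LinearMap.comp_apply, LinearMap.rTensor_zero,
        LinearMap.zero_apply] at h1
      exact h1

end Groth.Agent.Lib.KerRankConst
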