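import Mathlib
import Groth.Agent.Lib.FiberRank_helper9

/-!
# S14609: upper semicontinuity of the fibre dimension of the kernel (lead)
-/

set_option autoImplicit false
universe u v

namespace Groth.Agent.Lib.KerRankUsc

open TensorProduct

theorem main (A : Type u) [CommRing A]
    (M : Type v) (F : Type v) [AddCommGroup M] [Module A M] [Module.Finite A M]
    [AddCommGroup F] [Module A F] [Module.Finite A F] [Module.Free A F] (δ : M →ₗ[A] F) :
    UpperSemicontinuous (fun x : PrimeSpectrum A =>
      Module.finrank x.asIdeal.ResidueField
        (LinearMap.ker (δ.baseChange x.asIdeal.ResidueField))) := by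
  intro x b hb
  have h1 := FiberRank9.eventually_fiber_le (A := A) M x
  have h2 := FiberRank9.eventually_fiber_le (A := A) (F ⧸ LinearMap.range δ) x
  have key : ∀ z : PrimeSpectrum A,
      Module.finrank z.asIdeal.ResidueField
          (LinearMap.ker (δ.baseChange z.asIdeal.ResidueField)) +
        Module.finrank z.asIdeal.ResidueField (z.asIdeal.ResidueField ⊗[A] F) =
      Module.finrank z.asIdeal.ResidueField (z.asIdeal.ResidueField ⊗[A] M) +
        Module.finrank z.asIdeal.ResidueField
          (z.asIdeal.ResidueField ⊗[A] (F ⧸ LinearMap.range δ)) := by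
    intro z
    have e1 := LinearMap.finrank_range_add_finrank_ker (δ.baseChange z.asIdeal.ResidueField)
    have e2 := FiberRank9.finrank_range_baseChange_add z.asIdeal.ResidueField δ
    omega
  have hF : ∀ z : PrimeSpectrum A,
      Module.finrank z.asIdeal.ResidueField (z.asIdeal.ResidueField ⊗[A] F) =
        Module.finrank A F := fun z => by
    haveI : Nontrivial A := PrimeSpectrum.nonempty_iff_nontrivial.mp ⟨z⟩
    exact Module.finrank_baseChange
  filter_upwards [h1, h2] with y hy1 hy2
  refine lt_of_le_of_lt ?_ hb
  have kx := key x
  have ky := key y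
  rw [hF] at kx ky
  show Module.finrank y.asIdeal.ResidueField
      (LinearMap.ker (δ.baseChange y.asIdeal.ResidueField)) ≤
    Module.finrank x.asIdeal.ResidueField
      (LinearMap.ker (δ.baseChange x.asIdeal.ResidueField))
  omega

end Groth.Agent.Lib.KerRankUsc
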