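import Groth.Prelude.Def_AlgGrp
import Mathlib.CategoryTheory.Monoidal.Cartesian.Grp
import Mathlib.CategoryTheory.Monoidal.Cartesian.Mon

/-!
# Kernels of homomorphisms of group schemes via points

`AlgGrp.IsKernel i q` says that a square against the unit section is cartesian; here it is
rephrased through `T`-valued points: `i ≫ q = 1` and every `g : T ⟶ G` with `g ≫ q = 1` factors
uniquely through `i`.
-/

set_option autoImplicit false
universe u
open CategoryTheory CategoryTheory.Limits MonoidalCategory CartesianMonoidalCategory MonObj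
  AlgebraicGeometry

namespace Groth.Agent.Lib.KernelPoints_helper9

variable {S : Scheme.{u}}

theorem isKernel_iff {N G Q : Over S} [GrpObj Q] (i : N ⟶ G) (q : G ⟶ Q) :
    AlgGrp.IsKernel i q ↔
      (i ≫ q = 1) ∧ ∀ (T : Over S) (g : T ⟶ G), g ≫ q = 1 → ∃! n : T ⟶ N, n ≫ i = g := by
  constructor
  · intro h
    refine ⟨?_, fun T g hg => ?_⟩
    · rw [Hom.one_def]; exact h.w
    · have hg' : g ≫ q = toUnit T ≫ η[Q] := by rw [hg, Hom.one_def]
      refine ⟨h.lift g (toUnit T) hg', h.lift_fst g (toUnit T) hg', ?_⟩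
      intro n hn
      apply h.hom_ext
      · rw [hn, h.lift_fst]
      · exact toUnit_unique _ _
  · rintro ⟨hw, hT⟩
    have hw' : i ≫ q = toUnit N ≫ η[Q] := by rw [hw, Hom.one_def]
    have hs : ∀ s : PullbackCone q η[Q], s.fst ≫ q = 1 := by
      intro s
      rw [s.condition, Hom.one_def]
      congr 1
      exact toUnit_unique _ _
    refine ⟨⟨hw'⟩, ⟨PullbackCone.IsLimit.mk hw' (fun s => (hT s.pt s.fst (hs s)).choose)
      ?_ ?_ ?_⟩⟩
    · intro s
      exact (hT s.pt s.fst (hs s)).choose_spec.1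
    · intro s
      exact toUnit_unique _ _
    · intro s m hm _
      exact (hT s.pt s.fst (hs s)).choose_spec.2 m hm

/-- the kernel inclusion is a monomorphism -/
theorem mono_of_isKernel {N G Q : Over S} [GrpObj Q] {i : N ⟶ G} {q : G ⟶ Q}
    (h : AlgGrp.IsKernel i q) : Mono i := by
  obtain ⟨hw, hT⟩ := (isKernel_iff i q).mp h
  refine ⟨fun {T} a b hab => ?_⟩
  have hq : (a ≫ i) ≫ q = 1 := by rw [Category.assoc, hw, MonObj.comp_one]
  obtain ⟨n, _, hn⟩ := hT T (a ≫ i) hq
  rw [hn a rfl, hn b hab.symm]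

end Groth.Agent.Lib.KernelPoints_helper9
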