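import Mathlib
import Groth.Prelude.Def_Hyper2
import Groth.Agent.Lib.CechKill_helper7

set_option autoImplicit false
set_option linter.style.haveILetI false
set_option linter.unusedSectionVars false
set_option linter.unusedVariables false
set_option backward.isDefEq.respectTransparency false
set_option backward.isDefEq.respectTransparency.types false
set_option maxHeartbeats 1600000

/-! # Dimension shifting for the property "Čech classes die on refinements" -/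

universe u

open CategoryTheory CategoryTheory.Limits Opposite Simplicial Abelian

namespace Groth.Agent.Lib.KillShiftH7

open Groth.Agent.Lib.HyperH0L Groth.Agent.Lib.HyperAcyc Groth.Agent.Lib.CechElH7
  Groth.Agent.Lib.CechKillH7 Groth.Agent.Lib.FreeSheaf

variable {C : Type u} [SmallCategory C] [HasPullbacks C] (J : GrothendieckTopology C) (X : C)
  [∀ (n : ℕ) (F : (SimplexCategory.Truncated n)ᵒᵖ ⥤ Limits.FormalCoproduct.{u} (Over X)),
      (SimplexCategory.Truncated.inclusion n).op.HasRightKanExtension F]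

section SES

variable {S : ShortComplex (Sheaf J AddCommGrpCat.{u})} (hS : S.ShortExact)
  (hI : Injective S.X₂)

include hS in
lemma locSurj_g : Presheaf.IsLocallySurjective J S.g.hom := by
  haveI : Epi S.g := hS.epi_g
  exact (Sheaf.isLocallySurjective_iff_epi' (φ := S.g)).2 inferInstance

include hS hI in
/-- `Kill Q (n+1) ⇒ Kill F (n+2)`. -/
lemma kill_X₁_succ (n : ℕ) (h : Kill X J S.X₃.obj (n + 1)) : Kill X J S.X₁.obj (n + 2) := by
  haveI := hI
  haveI := locSurj_g J hS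
  intro K hK x hx
  have e1 : dd X K S.X₂.obj (n + 2) (tm X K S.f.hom (n + 2) x) = 0 := by
    rw [← tm_dd, hx, map_zero]
  obtain ⟨a, ha⟩ := exactSucc_of_injective J X K hK S.X₂ (n + 1) _ e1
  have e2 : dd X K S.X₃.obj (n + 1) (tm X K S.g.hom (n + 1) a) = 0 := by
    rw [← tm_dd, ha, tm_g_f]
  obtain ⟨L, f, hL, w, hw⟩ := h K hK _ e2
  obtain ⟨L', f', hL', b, hb⟩ := refine_lift X J L hL S.g.hom n w
  have e3 : tm X L' S.g.hom (n + 1)
      (rf X f' S.X₂.obj (n + 1) (rf X f S.X₂.obj (n + 1) a) - dd X L' S.X₂.obj n b) = 0 := by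
    have h1 : tm X L' S.g.hom (n + 1) (rf X f' S.X₂.obj (n + 1) (rf X f S.X₂.obj (n + 1) a)) =
        rf X f' S.X₃.obj (n + 1) (rf X f S.X₃.obj (n + 1) (tm X K S.g.hom (n + 1) a)) := by
      rw [rf_tm, rf_tm]
    have h2 : tm X L' S.g.hom (n + 1) (dd X L' S.X₂.obj n b) =
        rf X f' S.X₃.obj (n + 1) (rf X f S.X₃.obj (n + 1) (tm X K S.g.hom (n + 1) a)) := by
      rw [tm_dd, hb, ← rf_dd, hw]
    rw [map_sub, h1, h2, sub_self]
  obtain ⟨c, hc⟩ := tm_exact X L' hS (n + 1) _ e3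
  refine ⟨L', f' ≫ f, hL', c, ?_⟩
  apply tm_f_injective X L' hS (n + 2)
  have h3 : tm X L' S.f.hom (n + 2) (dd X L' S.X₁.obj (n + 1) c) =
      rf X f' S.X₂.obj (n + 2) (rf X f S.X₂.obj (n + 2) (tm X K S.f.hom (n + 2) x)) := by
    rw [tm_dd, hc, map_sub, dd_dd, sub_zero, ← rf_dd, ← rf_dd, ha]
  have h4 : tm X L' S.f.hom (n + 2) (rf X (f' ≫ f) S.X₁.obj (n + 2) x) =
      rf X f' S.X₂.obj (n + 2) (rf X f S.X₂.obj (n + 2) (tm X K S.f.hom (n + 2) x)) := by
    rw [rf_comp, rf_tm, rf_tm]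
  exact h3.trans h4.symm

include hS hI in
/-- `Kill F (n+2) ⇒ Kill Q (n+1)`. -/
lemma kill_X₃_succ (n : ℕ) (h : Kill X J S.X₁.obj (n + 2)) : Kill X J S.X₃.obj (n + 1) := by
  haveI := hI
  haveI := locSurj_g J hS
  intro K hK w hw
  obtain ⟨L, f, hL, a, ha⟩ := refine_lift X J K hK S.g.hom (n + 1) w
  have e1 : tm X L S.g.hom (n + 2) (dd X L S.X₂.obj (n + 1) a) = 0 := by
    rw [tm_dd, ha, ← rf_dd, hw, map_zero]
  obtain ⟨x, hx⟩ := tm_exact X L hS (n + 2) _ e1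
  have e2 : dd X L S.X₁.obj (n + 2) x = 0 := by
    apply tm_f_injective X L hS (n + 3)
    rw [tm_dd, hx, dd_dd, map_zero]
  obtain ⟨L', f', hL', y, hy⟩ := h L hL x e2
  have e3 : dd X L' S.X₂.obj (n + 1)
      (rf X f' S.X₂.obj (n + 1) a - tm X L' S.f.hom (n + 1) y) = 0 := by
    have h1 : dd X L' S.X₂.obj (n + 1) (rf X f' S.X₂.obj (n + 1) a) =
        rf X f' S.X₂.obj (n + 2) (tm X L S.f.hom (n + 2) x) := by
      rw [← rf_dd, hx]
    have h2 : dd X L' S.X₂.obj (n + 1) (tm X L' S.f.hom (n + 1) y) =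
        rf X f' S.X₂.obj (n + 2) (tm X L S.f.hom (n + 2) x) := by
      rw [← tm_dd, hy, rf_tm]
    rw [map_sub, h1, h2, sub_self]
  obtain ⟨b, hb⟩ := exactSucc_of_injective J X L' hL' S.X₂ n _ e3
  refine ⟨L', f' ≫ f, hL', tm X L' S.g.hom n b, ?_⟩
  rw [← tm_dd, hb, map_sub, tm_g_f, sub_zero, rf_comp, ← rf_tm, ha]

include hS hI in
/-- surjectivity on global sections gives `Kill F 1`. -/
lemma kill_X₁_one (hsurj : Function.Surjective (S.g.hom.app (op X)).hom) :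
    Kill X J S.X₁.obj 1 := by
  haveI := hI
  intro K hK x hx
  have e1 : dd X K S.X₂.obj 1 (tm X K S.f.hom 1 x) = 0 := by
    rw [← tm_dd, hx, map_zero]
  obtain ⟨a, ha⟩ := exactSucc_of_injective J X K hK S.X₂ 0 _ e1
  have e2 : dd X K S.X₃.obj 0 (tm X K S.g.hom 0 a) = 0 := by
    rw [← tm_dd, ha, tm_g_f]
  obtain ⟨s, hs⟩ := Groth.Agent.Lib.HyperH0Ex.cech_h0_exists J X K hK S.X₃ _ e2
  obtain ⟨t, ht⟩ := hsurj s
  have hs' : rX X K S.X₃.obj s = tm X K S.g.hom 0 a := hs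
  have e3 : tm X K S.g.hom 0 (a - rX X K S.X₂.obj t) = 0 := by
    rw [map_sub, tm_rX, ht, hs', sub_self]
  obtain ⟨b, hb⟩ := tm_exact X K hS 0 _ e3
  refine ⟨K, 𝟙 K, hK, b, ?_⟩
  rw [rf_id]
  apply tm_f_injective X K hS 1
  rw [tm_dd, hb, map_sub, dd_rX, sub_zero, ha]

include hS hI in
/-- `Kill F 1` gives surjectivity on global sections. -/
lemma surj_of_kill_one (h : Kill X J S.X₁.obj 1) :
    Function.Surjective (S.g.hom.app (op X)).hom := by
  haveI := hI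
  haveI := locSurj_g J hS
  intro s
  obtain ⟨L, f, hL, a, ha⟩ := refine_lift X J (K0 X) (isHypercovering_K0 X J) S.g.hom 0
    (rX X (K0 X) S.X₃.obj s)
  rw [rf_rX] at ha
  have e1 : tm X L S.g.hom 1 (dd X L S.X₂.obj 0 a) = 0 := by
    rw [tm_dd, ha, dd_rX]
  obtain ⟨x, hx⟩ := tm_exact X L hS 1 _ e1
  have e2 : dd X L S.X₁.obj 1 x = 0 := by
    apply tm_f_injective X L hS 2
    rw [tm_dd, hx, dd_dd, map_zero]
  obtain ⟨L', f', hL', y, hy⟩ := h L hL x e2
  have e3 : dd X L' S.X₂.obj 0 (rf X f' S.X₂.obj 0 a - tm X L' S.f.hom 0 y) = 0 := by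
    have h1 : dd X L' S.X₂.obj 0 (rf X f' S.X₂.obj 0 a) =
        rf X f' S.X₂.obj 1 (tm X L S.f.hom 1 x) := by
      rw [← rf_dd, hx]
    have h2 : dd X L' S.X₂.obj 0 (tm X L' S.f.hom 0 y) =
        rf X f' S.X₂.obj 1 (tm X L S.f.hom 1 x) := by
      rw [← tm_dd, hy, rf_tm]
    rw [map_sub, h1, h2, sub_self]
  obtain ⟨t, ht⟩ := Groth.Agent.Lib.HyperH0Ex.cech_h0_exists J X L' hL' S.X₂ _ e3
  have ht' : rX X L' S.X₂.obj t = rf X f' S.X₂.obj 0 a - tm X L' S.f.hom 0 y := ht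
  refine ⟨t, ?_⟩
  apply rX_injective X J L' S.X₃ hL'.1
  rw [← tm_rX, ht', map_sub, tm_g_f, sub_zero, ← rf_tm, ha, rf_rX]

end SES

/-- degree zero. -/
lemma kill_zero_iff (F : Sheaf J AddCommGrpCat.{u}) :
    Kill X J F.obj 0 ↔ Subsingleton (F.obj.obj (op X)) := by
  constructor
  · intro h
    refine ⟨fun s t => ?_⟩
    suffices hz : ∀ s : F.obj.obj (op X), s = 0 by rw [hz s, hz t]
    intro s
    obtain ⟨L, f, hL, hf⟩ := h (K0 X) (isHypercovering_K0 X J) (rX X (K0 X) F.obj s)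
      (dd_rX X (K0 X) F.obj s)
    have hf' : rf X f F.obj 0 (rX X (K0 X) F.obj s) = 0 := hf
    rw [rf_rX] at hf'
    apply rX_injective X J L F hL.1
    rw [hf', map_zero]
  · intro h K hK x hx
    obtain ⟨s, hs⟩ := Groth.Agent.Lib.HyperH0Ex.cech_h0_exists J X K hK F x hx
    have hs' : rX X K F.obj s = x := hs
    refine ⟨K, 𝟙 K, hK, ?_⟩
    show rf X (𝟙 K) F.obj 0 x = 0
    rw [rf_id, ← hs', Subsingleton.elim s 0, map_zero]

end Groth.Agent.Lib.KillShiftH7
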