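import Mathlib
import Groth.Prelude.Def_Hyper2
import Groth.Prelude.Def_CohSite
import Groth.Agent.Lib.KillShift_helper7

set_option autoImplicit false
set_option linter.style.haveILetI false
set_option linter.unusedSectionVars false
set_option linter.unusedVariables false
set_option backward.isDefEq.respectTransparency false
set_option backward.isDefEq.respectTransparency.types false
set_option maxHeartbeats 1600000

/-! # `H^q(X, F) = 0` iff all Čech classes over hypercoverings die on refinements -/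

universe u

open CategoryTheory CategoryTheory.Limits Opposite Simplicial Abelian

namespace Groth.Agent.Lib.KillMainH7

open Groth.Agent.Lib.HyperH0L Groth.Agent.Lib.HyperAcyc Groth.Agent.Lib.CechElH7
  Groth.Agent.Lib.CechKillH7 Groth.Agent.Lib.FreeSheaf Groth.Agent.Lib.KillShiftH7

variable {C : Type u} [SmallCategory C] [HasPullbacks C] (J : GrothendieckTopology C) (X : C)
  [∀ (n : ℕ) (F : (SimplexCategory.Truncated n)ᵒᵖ ⥤ Limits.FormalCoproduct.{u} (Over X)),
      (SimplexCategory.Truncated.inclusion n).op.HasRightKanExtension F]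

/-- the injective presentation of a sheaf. -/
noncomputable abbrev SS (F : Sheaf J AddCommGrpCat.{u}) : ShortComplex (Sheaf J AddCommGrpCat.{u}) :=
  ShortComplex.mk (Injective.ι F) (cokernel.π (Injective.ι F)) (cokernel.condition _)

lemma hSS (F : Sheaf J AddCommGrpCat.{u}) : (SS J F).ShortExact :=
  ShortComplex.ShortExact.mk' (ShortComplex.exact_cokernel (Injective.ι F))
    (inferInstanceAs (Mono (Injective.ι F))) (inferInstanceAs (Epi (cokernel.π (Injective.ι F))))

lemma hISS (F : Sheaf J AddCommGrpCat.{u}) : Injective (SS J F).X₂ :=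
  inferInstanceAs (Injective (Injective.under F))

theorem sub_iff_kill : ∀ (q : ℕ) (F : Sheaf J AddCommGrpCat.{u}),
    Subsingleton (CohSite.HU F q X) ↔ Kill X J F.obj q := by
  intro q
  induction q using Nat.strong_induction_on with
  | _ q ih =>
    intro F
    match q, ih with
    | 0, _ =>
      rw [kill_zero_iff]
      have hb := Groth.Agent.Lib.CechSite.ext0_bijective J X F
      constructor
      · intro h
        haveI : Subsingleton (Ext (Groth.Agent.Lib.CechSite.fr J X) F 0) := h
        exact (Equiv.ofBijective _ hb).subsingleton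
      · intro h
        haveI : Subsingleton (F.obj.obj (op X)) := h
        have h' : Subsingleton (Ext (Groth.Agent.Lib.CechSite.fr J X) F 0) :=
          (Equiv.ofBijective _ hb).symm.subsingleton
        exact h'
    | 1, _ =>
      haveI := hISS J F
      have hI1 : ∀ ξ : Ext (Groth.Agent.Lib.CechSite.fr J X) (SS J F).X₂ 1, ξ = 0 :=
        fun ξ => Ext.eq_zero_of_injective ξ
      constructor
      · intro h
        refine kill_X₁_one J X (hSS J F) (hISS J F) ?_
        exact Groth.Agent.Lib.CechSite.surjective_of_ext1 J X (hSS J F)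
          (fun ξ => Subsingleton.elim (α := CohSite.HU F 1 X) ξ 0)
      · intro h
        have hsurj := surj_of_kill_one J X (hSS J F) (hISS J F) h
        refine ⟨fun ξ ξ' => ?_⟩
        suffices hz : ∀ ξ : Ext (Groth.Agent.Lib.CechSite.fr J X) (SS J F).X₁ 1, ξ = 0 by
          exact (hz ξ).trans (hz ξ').symm
        intro ξ
        obtain ⟨z, rfl⟩ := Groth.Agent.Lib.CechSite.extδ₀_surjective J X (hSS J F) hI1 ξ
        rw [Groth.Agent.Lib.CechSite.extδ₀_apply]
        exact (Groth.Agent.Lib.CechSite.ext0_comp_extClass_eq_zero_iff J X (hSS J F) z).2 (hsurj z)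
    | (n + 2), ih =>
      haveI := hISS J F
      have hI1 : ∀ ξ : Ext (Groth.Agent.Lib.CechSite.fr J X) (SS J F).X₂ (n + 1), ξ = 0 :=
        fun ξ => Ext.eq_zero_of_injective ξ
      have hI2 : ∀ ξ : Ext (Groth.Agent.Lib.CechSite.fr J X) (SS J F).X₂ (n + 2), ξ = 0 :=
        fun ξ => Ext.eq_zero_of_injective ξ
      have e := Groth.Agent.Lib.CechSite.extShift (Groth.Agent.Lib.CechSite.fr J X) (hSS J F) n
        hI1 hI2
      have h1 : Subsingleton (CohSite.HU F (n + 2) X) ↔
          Subsingleton (CohSite.HU (SS J F).X₃ (n + 1) X) := by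
        constructor
        · intro h
          haveI : Subsingleton (Ext (Groth.Agent.Lib.CechSite.fr J X) (SS J F).X₁ (n + 2)) := h
          have h' : Subsingleton (Ext (Groth.Agent.Lib.CechSite.fr J X) (SS J F).X₃ (n + 1)) :=
            e.toEquiv.subsingleton
          exact h'
        · intro h
          haveI : Subsingleton (Ext (Groth.Agent.Lib.CechSite.fr J X) (SS J F).X₃ (n + 1)) := h
          have h' : Subsingleton (Ext (Groth.Agent.Lib.CechSite.fr J X) (SS J F).X₁ (n + 2)) :=
            e.symm.toEquiv.subsingleton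
          exact h'
      rw [h1, ih (n + 1) (by omega) (SS J F).X₃]
      exact ⟨kill_X₁_succ J X (hSS J F) (hISS J F) n, kill_X₃_succ J X (hSS J F) (hISS J F) n⟩

theorem main3891 (F : Sheaf J AddCommGrpCat.{u}) (q : ℕ) :
    Subsingleton (CohSite.HU F q X) ↔
      ∀ (K : SimplicialObject (FormalCoproduct.{u} (Over X))), Hyper.IsHypercovering J X K →
        ∀ ξ : Hyper.cechH X K F.obj q, ∃ (L : SimplicialObject (FormalCoproduct.{u} (Over X))) (f : L ⟶ K),
          Hyper.IsHypercovering J X L ∧ Hyper.cechHMap X f F.obj q ξ = 0 :=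
  (sub_iff_kill J X q F).trans (killH_iff_kill X F.obj J q).symm

section LocBij

variable {P P' : Cᵒᵖ ⥤ AddCommGrpCat.{u}} (ψ : P ⟶ P')

lemma isCob_tm (K : SimplicialObject (FormalCoproduct.{u} (Over X))) (q : ℕ)
    (z : (Ev (Pr X P)).obj (op (A X K q))) (hz : IsCob X K P q z) :
    IsCob X K P' q (tm X K ψ q z) := by
  cases q with
  | zero =>
    have hz' : z = 0 := hz
    show tm X K ψ 0 z = 0
    rw [hz', map_zero]
  | succ n =>
    obtain ⟨y, hy⟩ := hz
    exact ⟨tm X K ψ n y, by rw [← tm_dd, hy]⟩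

lemma kill_of_locBij [Presheaf.IsLocallySurjective J ψ] [Presheaf.IsLocallyInjective J ψ]
    (q : ℕ) (h : Kill X J P q) : Kill X J P' q := by
  intro K hK x hx
  obtain ⟨L, f, hL, a, ha⟩ := refine_lift X J K hK ψ q x
  have e1 : tm X L ψ (q + 1) (dd X L P q a) = 0 := by
    rw [tm_dd, ha, ← rf_dd, hx, map_zero]
  obtain ⟨L', f', hL', hf'⟩ := refine_zero X J L hL ψ (q + 1) _ e1
  have e2 : dd X L' P q (rf X f' P q a) = 0 := by
    rw [← rf_dd, hf']
  obtain ⟨L'', f'', hL'', hf''⟩ := h L' hL' _ e2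
  refine ⟨L'', f'' ≫ f' ≫ f, hL'', ?_⟩
  have e3 : rf X (f'' ≫ f' ≫ f) P' q x = tm X L'' ψ q (rf X f'' P q (rf X f' P q a)) := by
    rw [rf_comp, rf_comp, ← ha, rf_tm, rf_tm]
  rw [e3]
  exact isCob_tm X ψ L'' q _ hf''

lemma kill_of_locBij' [Presheaf.IsLocallySurjective J ψ] [Presheaf.IsLocallyInjective J ψ]
    (q : ℕ) (h : Kill X J P' q) : Kill X J P q := by
  intro K hK a ha
  have e1 : dd X K P' q (tm X K ψ q a) = 0 := by
    rw [← tm_dd, ha, map_zero]
  obtain ⟨L, f, hL, hf⟩ := h K hK _ e1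
  cases q with
  | zero =>
    have hf' : rf X f P' 0 (tm X K ψ 0 a) = 0 := hf
    rw [rf_tm] at hf'
    obtain ⟨L', f', hL', hf''⟩ := refine_zero X J L hL ψ 0 _ hf'
    refine ⟨L', f' ≫ f, hL', ?_⟩
    show rf X (f' ≫ f) P 0 a = 0
    rw [rf_comp, hf'']
  | succ n =>
    obtain ⟨y, hy⟩ := hf
    obtain ⟨L', f', hL', b, hb⟩ := refine_lift X J L hL ψ n y
    have e2 : tm X L' ψ (n + 1)
        (rf X f' P (n + 1) (rf X f P (n + 1) a) - dd X L' P n b) = 0 := by
      have h1 : tm X L' ψ (n + 1) (rf X f' P (n + 1) (rf X f P (n + 1) a)) =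
          rf X f' P' (n + 1) (rf X f P' (n + 1) (tm X K ψ (n + 1) a)) := by
        rw [rf_tm, rf_tm]
      have h2 : tm X L' ψ (n + 1) (dd X L' P n b) =
          rf X f' P' (n + 1) (rf X f P' (n + 1) (tm X K ψ (n + 1) a)) := by
        rw [tm_dd, hb, ← rf_dd, hy]
      rw [map_sub, h1, h2, sub_self]
    obtain ⟨L'', f'', hL'', hf''⟩ := refine_zero X J L' hL' ψ (n + 1) _ e2
    refine ⟨L'', f'' ≫ f' ≫ f, hL'', rf X f'' P n b, ?_⟩
    rw [map_sub, sub_eq_zero] at hf''
    rw [← rf_dd, ← hf'', rf_comp, rf_comp]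

lemma kill_iff_of_locBij [Presheaf.IsLocallySurjective J ψ] [Presheaf.IsLocallyInjective J ψ]
    (q : ℕ) : Kill X J P q ↔ Kill X J P' q :=
  ⟨kill_of_locBij J X ψ q, kill_of_locBij' J X ψ q⟩

end LocBij

theorem main3892 (G : Cᵒᵖ ⥤ AddCommGrpCat.{u}) (q : ℕ) :
    Subsingleton (CohSite.HU ((presheafToSheaf J AddCommGrpCat.{u}).obj G) q X) ↔
      ∀ (K : SimplicialObject (FormalCoproduct.{u} (Over X))), Hyper.IsHypercovering J X K →
        ∀ ξ : Hyper.cechH X K G q, ∃ (L : SimplicialObject (FormalCoproduct.{u} (Over X))) (f : L ⟶ K),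
          Hyper.IsHypercovering J X L ∧ Hyper.cechHMap X f G q ξ = 0 := by
  refine (sub_iff_kill J X q _).trans ?_
  refine Iff.trans ?_ (killH_iff_kill X G J q).symm
  exact (kill_iff_of_locBij J X (toSheafify J G) q).symm

end Groth.Agent.Lib.KillMainH7
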