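import Mathlib
import Groth.Prelude
import Groth.Agent.Lib.Kosz2_helper9

/-!
# The base-point-free pencil trick (helper9)
For an invertible module `A` generated by two sections `σ₀, σ₁`, the sequence
`0 ⟶ M ⟶ (M ⊗ A)² ⟶ (M ⊗ A) ⊗ A ⟶ 0` is short exact.
APPEND-ONLY once landed.
-/

set_option autoImplicit false
universe u
open CategoryTheory CategoryTheory.Limits AlgebraicGeometry Opposite TopologicalSpace

namespace Kosz

open QcqsLoc QCohExtn GenLocH8 TensH8 FLFH8 CohB1 CurveAmple Groth.Agent.KosSh SDivFreeH8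
  Groth.Agent.HHVan

variable {X : Scheme.{u}}

section Pencil

variable (A : X.Modules) (σ : Fin 2 → (Coh.structureModule X ⟶ A))

/-- the map `M ⟶ (M ⊗ A)²`, `m ↦ (m ⊗ σ₁, -m ⊗ σ₀)` -/
noncomputable def del (M : X.Modules) : M ⟶ Pw 2 (CohB1.tensorMod M A) :=
  mulSec M A (σ 1) ≫ biproduct.ι (fun _ : Fin 2 => CohB1.tensorMod M A) 0 -
    mulSec M A (σ 0) ≫ biproduct.ι (fun _ : Fin 2 => CohB1.tensorMod M A) 1

theorem del_π0 (M : X.Modules) :
    del A σ M ≫ biproduct.π (fun _ : Fin 2 => CohB1.tensorMod M A) 0 = mulSec M A (σ 1) := by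
  unfold del
  rw [Preadditive.sub_comp, Category.assoc, Category.assoc, biproduct.ι_π_self,
    biproduct.ι_π_ne _ (by decide : (1 : Fin 2) ≠ 0), Category.comp_id, comp_zero, sub_zero]

theorem del_π1 (M : X.Modules) :
    del A σ M ≫ biproduct.π (fun _ : Fin 2 => CohB1.tensorMod M A) 1 = - mulSec M A (σ 0) := by
  unfold del
  rw [Preadditive.sub_comp, Category.assoc, Category.assoc, biproduct.ι_π_self,
    biproduct.ι_π_ne _ (by decide : (0 : Fin 2) ≠ 1), Category.comp_id, comp_zero, zero_sub]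

theorem kap_eq_del (M : X.Modules) :
    kap A σ M = (biproduct.π (fun _ : Fin 2 × Fin 2 => M) (0, 1) -
      biproduct.π (fun _ : Fin 2 × Fin 2 => M) (1, 0)) ≫ del A σ M := by
  apply biproduct.hom_ext
  rw [Fin.forall_fin_two]
  constructor
  · rw [kap_π, Category.assoc, Fin.sum_univ_two, Fin.sum_univ_two, del_π0, Preadditive.sub_comp]
    abel
  · rw [kap_π, Category.assoc, Fin.sum_univ_two, Fin.sum_univ_two, del_π1, Preadditive.comp_neg,
      Preadditive.sub_comp]
    abel

variable {A}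

theorem del_Psi (hA : PicF.IsInvertible A) (M : X.Modules) :
    del A σ M ≫ Psi A σ (CohB1.tensorMod M A) = 0 := by
  unfold del Psi
  rw [Preadditive.sub_comp, Category.assoc, Category.assoc, biproduct.ι_desc, biproduct.ι_desc,
    mulSec_comm hA M (σ 1) (σ 0), sub_self]

variable {σ}

theorem mono_del (M : X.Modules)
    (hloc : ∀ (U : X.Opens) (x : X), x ∈ U →
      ∃ (W : X.Opens) (_ : W ≤ U), x ∈ W ∧ Nonempty (LocData A σ W)) :
    Mono (del A σ M) := by
  apply AcycEmb.mono_of_injective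
  intro W
  rw [injective_iff_map_eq_zero]
  intro m hm
  have h1 : ap (mulSec M A (σ 1)) W m = 0 := by
    have h := congrArg (ap (biproduct.π (fun _ : Fin 2 => CohB1.tensorMod M A) 0) W) hm
    rw [map_zero] at h
    have h' : ap (del A σ M ≫ biproduct.π (fun _ : Fin 2 => CohB1.tensorMod M A) 0) W m = 0 := h
    rw [del_π0] at h'
    exact h'
  have h0 : ap (mulSec M A (σ 0)) W m = 0 := by
    have h := congrArg (ap (biproduct.π (fun _ : Fin 2 => CohB1.tensorMod M A) 1) W) hm
    rw [map_zero] at h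
    have h' : ap (del A σ M ≫ biproduct.π (fun _ : Fin 2 => CohB1.tensorMod M A) 1) W m = 0 := h
    rw [del_π1] at h'
    have h'' : - ap (mulSec M A (σ 0)) W m = 0 := h'
    exact neg_eq_zero.mp h''
  apply eq_of_cover M
  intro x hx
  obtain ⟨W', hW', hxW', ⟨D⟩⟩ := hloc W x hx
  refine ⟨W', hW', hxW', ?_⟩
  rw [map_zero]
  have hself : rF A (le_refl W') D.e = D.e := SubExt.rF_self A _ _
  have key : ∀ i : Fin 2, ap (mulSec M A (σ i)) W m = 0 → D.f i • rF M hW' m = 0 := by
    intro i hi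
    have h2 : ap (mulSec M A (σ i)) W' (rF M hW' m) = 0 := by
      rw [ap_rF, hi, map_zero]
    rw [ap_mulSec, D.hf i, tmul_smul_right, ← tmul_smul_left] at h2
    exact tmulGen_injective M A D.he (le_refl W') (D.f i • rF M hW' m) 0
      (by rw [hself]; exact h2.trans (tmul_zero_left M A W' D.e).symm)
  have k0 := key 0 h0
  have k1 := key 1 h1
  have h3 : rF M hW' m = (∑ j, D.g j * D.f j) • rF M hW' m := by rw [D.hg, one_smul]
  rw [h3, Fin.sum_univ_two, add_smul, mul_smul, mul_smul, k0, k1, smul_zero, smul_zero, add_zero]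

/-- **the base-point-free pencil trick**: `0 ⟶ M ⟶ (M ⊗ A)² ⟶ (M ⊗ A) ⊗ A ⟶ 0` is short exact -/
theorem shortExact_del_Psi (hA : PicF.IsInvertible A) (M : X.Modules)
    (hloc : ∀ (U : X.Opens) (x : X), x ∈ U →
      ∃ (W : X.Opens) (_ : W ≤ U), x ∈ W ∧ Nonempty (LocData A σ W)) :
    (ShortComplex.mk (del A σ M) (Psi A σ (CohB1.tensorMod M A)) (del_Psi σ hA M)).ShortExact := by
  have hex : (ShortComplex.mk (del A σ M) (Psi A σ (CohB1.tensorMod M A))
      (del_Psi σ hA M)).Exact := by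
    apply PFormH9.exact_of_local_lift
    intro U z hz x hx
    obtain ⟨V, hV, hxV, y, hy⟩ := PFormH9.exists_local_lift_of_exact _
      (exact_kap_Psi hA M hloc) z hz hx
    refine ⟨V, hV, hxV, ap (biproduct.π (fun _ : Fin 2 × Fin 2 => M) (0, 1) -
      biproduct.π (fun _ : Fin 2 × Fin 2 => M) (1, 0)) V y, ?_⟩
    have hy' : ap (kap A σ M) V y = rF (Pw 2 (CohB1.tensorMod M A)) hV z := hy
    rw [kap_eq_del] at hy'
    exact hy'
  exact ShortComplex.ShortExact.mk' hex (mono_del M hloc)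
    (epi_Psi_of_locData (CohB1.tensorMod M A) hloc)

end Pencil

end Kosz
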