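import Mathlib
import Groth.Prelude
import Groth.Agent.Lib.Kosz3_helper9
import Groth.Agent.Lib.CurveAmple3_helper9

/-!
# The pencil inequality and generation by a basis of sections (helper9)
APPEND-ONLY once landed.
-/

set_option autoImplicit false
universe u
open CategoryTheory CategoryTheory.Limits AlgebraicGeometry Opposite TopologicalSpace

namespace Kosz

open QcqsLoc QCohExtn GenLocH8 TensH8 FLFH8 CohB1 CurveAmple Groth.Agent.KosSh SDivFreeH8
  Groth.Agent.HHVan

section Ineq

variable (k : Type u) [Field k] (B : Scheme.{u}) [B.Over (Spec (CommRingCat.of k))]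
  [IsProper (B ↘ Spec (CommRingCat.of k))]

/-- **the pencil inequality**: `2 h⁰(M ⊗ A) ≤ h⁰(M) + h⁰((M ⊗ A) ⊗ A)` for an invertible module
`A` generated by two sections -/
theorem pencil_ineq {A : B.Modules} (hA : PicF.IsInvertible A)
    (p : FlatMod.freeMod B 2 ⟶ A) [Epi p] {M : B.Modules} (hM : Coh.IsCoh M) :
    2 * Module.finrank k (Coh.HH B (CohB1.tensorMod M A) 0) ≤
      Module.finrank k (Coh.HH B M 0) +
        Module.finrank k (Coh.HH B (CohB1.tensorMod (CohB1.tensorMod M A) A) 0) := by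
  haveI : IsLocallyNoetherian B :=
    LocallyOfFiniteType.isLocallyNoetherian (B ↘ Spec (CommRingCat.of k))
  set σ : Fin 2 → (Coh.structureModule B ⟶ A) :=
    fun i => (ιM i : Coh.structureModule B ⟶ FlatMod.freeMod B 2) ≫ p with hσ
  have hloc : ∀ (U : B.Opens) (x : B), x ∈ U →
      ∃ (W : B.Opens) (_ : W ≤ U), x ∈ W ∧ Nonempty (LocData A σ W) :=
    fun U x hx => exists_locData hA p hx
  have hS := shortExact_del_Psi hA M hloc
  have c1 : Coh.IsCoh (CohB1.tensorMod M A) := isCoh_tensorMod B hM hA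
  have c2 : Coh.IsCoh (CohB1.tensorMod (CohB1.tensorMod M A) A) := isCoh_tensorMod B c1 hA
  have c3 : Coh.IsCoh (Pw 2 (CohB1.tensorMod M A)) :=
    CohDevH8.isCoh_of_iso (biproduct.isoCoproduct _)
      (Groth.Agent.ProjFin.isCoh_sigma_fin _ c1 2)
  have h := CurvePtInv.finrank_HH0_le_add k B _ hS hM c3 c2
  haveI := ProperFinH9.finite_HH_of_proper k B _ c1 0
  haveI : ∀ j : Fin 2, Module.Finite k
      (Coh.HH B ((𝟭 B.Modules).obj ((fun _ : Fin 2 => CohB1.tensorMod M A) j)) 0) :=
    fun _ => ProperFinH9.finite_HH_of_proper k B _ c1 0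
  have hd := Groth.Agent.P1Split.finrank_HH_of_decomp k (𝟭 B.Modules)
    (fun _ : Fin 2 => CohB1.tensorMod M A)
    (biproduct.π (fun _ : Fin 2 => CohB1.tensorMod M A))
    (biproduct.ι (fun _ : Fin 2 => CohB1.tensorMod M A))
    biproduct.total (fun j => biproduct.ι_π_self _ j)
    (fun j l hjl => biproduct.ι_π_ne _ hjl) 0
  have hd' : Module.finrank k (Coh.HH B (Pw 2 (CohB1.tensorMod M A)) 0) =
      2 * Module.finrank k (Coh.HH B (CohB1.tensorMod M A) 0) := by
    refine hd.trans ?_
    rw [Fin.sum_univ_two]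
    show Module.finrank k (Coh.HH B (CohB1.tensorMod M A) 0) +
      Module.finrank k (Coh.HH B (CohB1.tensorMod M A) 0) = _
    ring
  have h' : Module.finrank k (Coh.HH B (Pw 2 (CohB1.tensorMod M A)) 0) ≤
      Module.finrank k (Coh.HH B M 0) +
        Module.finrank k (Coh.HH B (CohB1.tensorMod (CohB1.tensorMod M A) A) 0) := h
  omega

/-- a globally generated coherent module with `h⁰ = r` is generated by `r` sections -/
theorem exists_epi_freeMod_of_finrank {D : B.Modules} (hDc : Coh.IsCoh D)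
    (hgg : Curv2.IsGloballyGenerated D) {r : ℕ}
    (h0 : Module.finrank k (Coh.HH B D 0) = r) : ∃ p : FlatMod.freeMod B r ⟶ D, Epi p := by
  haveI := ProperFinH9.finite_HH_of_proper k B D hDc 0
  haveI : Module.Finite k (Coh.structureModule B ⟶ D) :=
    Module.Finite.equiv (CurveIdeal.thetaEquiv k D).symm
  have hr : Module.finrank k (Coh.structureModule B ⟶ D) = r := by
    rw [(CurveIdeal.thetaEquiv k D).finrank_eq]
    exact h0
  let b := Module.finBasisOfFinrankEq k (Coh.structureModule B ⟶ D) hr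
  refine ⟨Sigma.desc (fun i => b i), ?_⟩
  apply Preadditive.epi_of_cancel_zero
  intro C c hc
  apply NodalG0.jointlyEpi_of_gg hgg C c
  intro τ
  rw [← b.sum_repr τ, Preadditive.sum_comp]
  apply Finset.sum_eq_zero
  intro i _
  rw [Linear.smul_comp]
  have hi : b i ≫ c = 0 := by
    have h := congrArg (fun φ => Sigma.ι (fun _ : Fin r => Coh.structureModule B) i ≫ φ) hc
    simp only [comp_zero] at h
    rw [← Category.assoc, Sigma.ι_desc] at h
    exact h
  rw [hi, smul_zero]

end Ineq

end Kosz
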