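import Mathlib
import Groth.Prelude
import Groth.Agent.Lib.KoszAcyc2_helper7
import Groth.Agent.Lib.CMInterSch_helper2
import Groth.Agent.Lib.RegSpread_helper5
import Groth.Agent.Lib.FLF7_helper8

/-!
# Local complete intersections in Cohen–Macaulay schemes have Koszul resolutions (helper7)
APPEND-ONLY once landed.
-/

set_option autoImplicit false
set_option linter.style.haveILetI false

universe u

open CategoryTheory CategoryTheory.Limits AlgebraicGeometry Opposite TopologicalSpace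
open QcqsLoc QCohExtn RingTheory.Sequence

namespace Groth.Agent.Lib.KoszAcycH7

open Groth.Agent.Lib.CMInterSch (fromSpec_mem primeIdealOf_fromSpec ker_le_primeIdealOf
  mem_range_of_ker_le)

theorem isWeaklyRegular_map_ringEquiv {R S : Type*} [CommRing R] [CommRing S] (e : R ≃+* S)
    (rs : List R) (h : IsWeaklyRegular R rs) : IsWeaklyRegular S (rs.map e) := by
  refine (AddEquiv.isWeaklyRegular_congr (e := e.toAddEquiv) ?_).mp h
  refine List.forall₂_map_right_iff.mpr (List.forall₂_same.mpr fun r _ x => ?_)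
  show e (r * x) = e r * e x
  exact map_mul e r x

variable {X Y : Scheme.{u}}

theorem height_stalk_le (i : Y ⟶ X) (y : Y) {U : X.Opens} (hU : IsAffineOpen U)
    (hyU : i.base y ∈ U) :
    (RingHom.ker (i.stalkMap y).hom).height ≤
      (hU.primeIdealOf ⟨i.base y, hyU⟩).asIdeal.height := by
  have hne : RingHom.ker (i.stalkMap y).hom ≠ ⊤ := RingHom.ker_ne_top _
  have hle : RingHom.ker (i.stalkMap y).hom ≤
      IsLocalRing.maximalIdeal (X.presheaf.stalk (i.base y)) := IsLocalRing.le_maximalIdeal hne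
  have h1 := Ideal.height_mono hle
  letI := TopCat.Presheaf.algebra_section_stalk X.presheaf (⟨i.base y, hyU⟩ : U)
  haveI : IsLocalization.AtPrime (X.presheaf.stalk (i.base y))
      (hU.primeIdealOf ⟨i.base y, hyU⟩).asIdeal := hU.isLocalization_stalk ⟨_, hyU⟩
  have hd := IsLocalization.AtPrime.ringKrullDim_eq_height
    (hU.primeIdealOf ⟨i.base y, hyU⟩).asIdeal (X.presheaf.stalk (i.base y))
  have hm := IsLocalRing.maximalIdeal_height_eq_ringKrullDim (R := X.presheaf.stalk (i.base y))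
  have h2 : ((IsLocalRing.maximalIdeal (X.presheaf.stalk (i.base y))).height : WithBot ℕ∞) =
      ((hU.primeIdealOf ⟨i.base y, hyU⟩).asIdeal.height : WithBot ℕ∞) := hm.trans hd
  exact h1.trans (le_of_eq (WithBot.coe_injective h2))

theorem regular_nbhd [IsLocallyNoetherian X]
    (hCM : ∀ x : X, LocCoh.IsCohenMacaulayLocalRing (X.presheaf.stalk x))
    (i : Y ⟶ X) [IsClosedImmersion i] (c : ℕ)
    (hht : ∀ y : Y, (c : ℕ∞) ≤ (RingHom.ker (i.stalkMap y).hom).height)
    (y : Y) (U : X.affineOpens) (hyU : i.base y ∈ U.1) (g : Fin c → Γ(X, U.1))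
    (hg : i.ker.ideal U = Ideal.span (Set.range g)) :
    ∃ U' : X.affineOpens, i.base y ∈ U'.1 ∧ ∃ f : Fin c → Γ(X, U'.1),
      i.ker.ideal U' = Ideal.span (Set.range f) ∧
      IsWeaklyRegular Γ(X, U'.1) (List.ofFn f) := by
  have hU : IsAffineOpen U.1 := U.2
  haveI : IsNoetherianRing Γ(X, U.1) := IsLocallyNoetherian.component_noetherian U
  letI := TopCat.Presheaf.algebra_section_stalk X.presheaf (⟨i.base y, hyU⟩ : U.1)
  haveI hloc : IsLocalization.AtPrime (X.presheaf.stalk (i.base y))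
      (hU.primeIdealOf ⟨i.base y, hyU⟩).asIdeal := hU.isLocalization_stalk ⟨_, hyU⟩
  haveI := hCM (i.base y)
  have hK : i.ker.ideal U = RingHom.ker (i.app U.1).hom := Scheme.Hom.ker_apply i U
  have hofList : Ideal.ofList (List.ofFn g) = Ideal.span (Set.range g) := by
    show Ideal.span _ = _
    congr 1
    ext r
    exact List.mem_ofFn' g r
  have hreg : IsWeaklyRegular (X.presheaf.stalk (i.base y))
      ((List.ofFn g).map (algebraMap Γ(X, U.1) (X.presheaf.stalk (i.base y)))) := by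
    refine Groth.Agent.Lib.CMInter.isWeaklyRegular_of_height_loc
      (hU.primeIdealOf ⟨i.base y, hyU⟩).asIdeal (X.presheaf.stalk (i.base y))
      (RingHom.ker (i.app U.1).hom) (ker_le_primeIdealOf i hU (i.base y) hyU ⟨y, rfl⟩) _ ?_ ?_
    · rw [← Ideal.map_ofList, hofList, ← hg, hK]
    · intro q hq hKq
      haveI := hq
      rw [List.length_map, List.length_ofFn]
      have hxU := fromSpec_mem hU ⟨q, hq⟩
      have hQ := primeIdealOf_fromSpec hU ⟨q, hq⟩
      obtain ⟨y', hy'⟩ := mem_range_of_ker_le i hU _ hxU (by rw [hQ]; exact hKq)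
      have hy'U : i.base y' ∈ U.1 := by
        have h0 : i.base y' = hU.fromSpec ⟨q, hq⟩ := hy'
        rw [h0]; exact hxU
      have h1 := height_stalk_le i y' hU hy'U
      have h2 : hU.primeIdealOf ⟨i.base y', hy'U⟩ = ⟨q, hq⟩ :=
        (congrArg hU.primeIdealOf (Subtype.ext hy')).trans hQ
      exact (hht y').trans (h1.trans (le_of_eq (congrArg (fun P => P.asIdeal.height) h2)))
  obtain ⟨f1, hf1, H1⟩ := Groth.Agent.RegSpread.spread (hU.primeIdealOf ⟨i.base y, hyU⟩).asIdeal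
    (X.presheaf.stalk (i.base y)) (List.ofFn g) hreg
  have hV : IsAffineOpen (X.basicOpen f1) := hU.basicOpen f1
  have hyV : i.base y ∈ X.basicOpen f1 := by
    rw [Groth.Agent.KerStalk.mem_primeIdealOf_iff hU f1 (i.base y) hyU, not_not] at hf1
    exact (X.mem_basicOpen f1 (i.base y) hyU).mpr hf1
  haveI : IsLocalization.Away f1 Γ(X, X.basicOpen f1) := hU.isLocalization_basicOpen f1
  have hwr := H1 f1 (dvd_refl f1) Γ(X, X.basicOpen f1)
  have hmap : (i.ker.ideal U).map (X.presheaf.map (homOfLE (X.basicOpen_le f1)).op).hom =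
      i.ker.ideal ⟨X.basicOpen f1, hV⟩ :=
    i.ker.map_ideal (U := ⟨X.basicOpen f1, hV⟩) (V := U) (X.basicOpen_le f1)
  refine ⟨⟨X.basicOpen f1, hV⟩, hyV,
    (algebraMap Γ(X, U.1) Γ(X, X.basicOpen f1)) ∘ g, ?_, ?_⟩
  · rw [← hmap, hg, Ideal.map_span, Set.range_comp]
    rfl
  · rw [← List.map_ofFn]
    exact hwr

theorem koszul_free_acyclic (U : X.affineOpens) (c : ℕ) (f : Fin c → Γ(X, U.1))
    (hreg : IsWeaklyRegular Γ(X, U.1) (List.ofFn f))
    (s : FlatMod.freeMod ((U.1 : X.Opens) : Scheme.{u}) c ⟶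
      Coh.structureModule ((U.1 : X.Opens) : Scheme.{u}))
    (hs : ∀ k : Fin c, KoszSh.secForm s ⊤
      ((Limits.Sigma.ι (fun _ : Fin c => Coh.structureModule ((U.1 : X.Opens) : Scheme.{u})) k).app ⊤
        (OmegaSh.strSect ((U.1 : X.Opens) : Scheme.{u}) ⊤ 1)) = U.1.topIso.inv (f k))
    (C : KoszSh.Cx (FlatMod.freeMod ((U.1 : X.Opens) : Scheme.{u}) c) s) (q : ℕ) (hq : 1 ≤ q) :
    Limits.IsZero (C.K.homology q) := by
  haveI : IsAffine ((U.1 : X.Opens) : Scheme.{u}) := U.2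
  refine main15899 c _ (fun x => ⟨⊤, trivial, FLFH8.iso_restrict_of_iso (Iso.refl _) ⊤⟩) s ?_ C q hq
  intro x
  refine ⟨⟨⊤, isAffineOpen_top _⟩, trivial, ?_⟩
  let b : Module.Basis (Fin c) Γ(((U.1 : X.Opens) : Scheme.{u}), ⊤)
      Γ(FlatMod.freeMod ((U.1 : X.Opens) : Scheme.{u}) c, ⊤) :=
    Module.Basis.mk (FLFH8.stdSec_li c ⊤) (le_of_eq (FLFH8.stdSec_span c ⊤).symm)
  refine ⟨b, ?_⟩
  have hb : ∀ k, b k = FLFH8.stdSec c ⊤ k := fun k => Module.Basis.mk_apply _ _ k
  let e : Γ(X, U.1) ≃+* Γ(((U.1 : X.Opens) : Scheme.{u}), ⊤) :=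
    (U.1.topIso.symm).commRingCatIsoToRingEquiv
  have h1 := isWeaklyRegular_map_ringEquiv e (List.ofFn f) hreg
  have h2 : (List.ofFn fun k => KoszSh.secForm s ⊤ (b k)) = (List.ofFn f).map e := by
    rw [List.map_ofFn]
    congr 1
    funext k
    rw [hb]
    exact hs k
  show IsWeaklyRegular Γ(((U.1 : X.Opens) : Scheme.{u}), ⊤)
    (List.ofFn fun k => KoszSh.secForm s ⊤ (b k))
  rw [h2]
  exact h1

theorem main15902 [IsLocallyNoetherian X]
    (hCM : ∀ x : X, LocCoh.IsCohenMacaulayLocalRing (X.presheaf.stalk x))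
    (i : Y ⟶ X) [IsClosedImmersion i] (c : ℕ)
    (hgen : ∀ y : Y, ∃ U : X.affineOpens, i.base y ∈ U.1 ∧ ∃ g : Fin c → Γ(X, U.1),
      i.ker.ideal U = Ideal.span (Set.range g))
    (hht : ∀ y : Y, (c : ℕ∞) ≤ (RingHom.ker (i.stalkMap y).hom).height) :
    ∀ y : Y, ∃ U : X.affineOpens, i.base y ∈ U.1 ∧ ∃ f : Fin c → Γ(X, U.1),
      i.ker.ideal U = Ideal.span (Set.range f) ∧
      RingTheory.Sequence.IsWeaklyRegular Γ(X, U.1) (List.ofFn f) ∧
      ∀ (s : FlatMod.freeMod ((U.1 : X.Opens) : Scheme.{u}) c ⟶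
          Coh.structureModule ((U.1 : X.Opens) : Scheme.{u})),
        (∀ k : Fin c, KoszSh.secForm s ⊤
          ((Limits.Sigma.ι (fun _ : Fin c => Coh.structureModule ((U.1 : X.Opens) : Scheme.{u})) k).app ⊤
            (OmegaSh.strSect ((U.1 : X.Opens) : Scheme.{u}) ⊤ 1)) = U.1.topIso.inv (f k)) →
        ∀ (C : KoszSh.Cx (FlatMod.freeMod ((U.1 : X.Opens) : Scheme.{u}) c) s) (q : ℕ), 1 ≤ q →
          Limits.IsZero (C.K.homology q) := by
  intro y
  obtain ⟨U, hyU, g, hg⟩ := hgen y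
  obtain ⟨U', hyU', f, hf, hreg⟩ := regular_nbhd hCM i c hht y U hyU g hg
  exact ⟨U', hyU', f, hf, hreg, fun s hs C q hq => koszul_free_acyclic U' c f hreg s hs C q hq⟩

end Groth.Agent.Lib.KoszAcycH7
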