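import Mathlib
import Groth.Prelude
import Groth.Agent.Lib.KoszTw1_helper7
import Groth.Agent.Lib.FLF2_helper8
import Groth.Agent.Lib.QCohExact_helper9

/-!
# Twisted Koszul complexes: the kernel identity (helper7)

`Ker (θ ≫ (∂ ⊗ 1)) = Ker δ` for a monomorphic global section `lam` of the invertible module `L`
and a finite locally free `F`.
APPEND-ONLY once landed.
-/

set_option autoImplicit false
set_option linter.style.haveILetI false

universe u

open CategoryTheory CategoryTheory.Limits AlgebraicGeometry Opposite TopologicalSpace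
open QcqsLoc QCohExtn FLFH8 GenLocH8 exteriorPower

namespace Groth.Agent.Lib.KoszTwH7

section Abel

variable {A : Type*} [Category A] [Abelian A]

theorem kernelSubobject_le_of_comp {P Y Z : A} (f : P ⟶ Y) (g : P ⟶ Z)
    (h : kernel.ι f ≫ g = 0) : kernelSubobject f ≤ kernelSubobject g := by
  refine le_kernelSubobject g _ ?_
  rw [← kernelSubobject_arrow, Category.assoc, h, comp_zero]

end Abel

theorem smul_eq_zero_of_free {R V : Type*} [CommRing R] [AddCommGroup V] [Module R V]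
    [Module.Free R V] (c : R) (hc : ∀ a : R, a * c = 0 → a = 0) (v : V) (h : c • v = 0) :
    v = 0 := by
  let b := Module.Free.chooseBasis R V
  apply b.repr.injective
  ext i
  have h1 : b.repr (c • v) i = 0 := by rw [h]; simp
  rw [map_smul] at h1
  have h2 : c * b.repr v i = 0 := h1
  have h3 := hc _ ((mul_comm _ _).trans h2)
  simpa using h3

variable {X : Scheme.{u}}

section Local

variable {F L : X.Modules} {s : F ⟶ Coh.structureModule X} {lam : Coh.structureModule X ⟶ L}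
  {t : CohB1.tensorMod F L ⟶ Coh.structureModule X}

theorem ap_lam_eq {W : X.Opens} {e : Γ(L, W)} (c : Γ(X, W)) (hc : ap lam W (toM 1) = c • e)
    (a : Γ(Coh.structureModule X, W)) : ap lam W a = (ofM a * c) • e := by
  have h1 : a = ofM a • toM (1 : Γ(X, W)) := (mul_one (ofM a)).symm
  calc ap lam W a = ap lam W (ofM a • toM (1 : Γ(X, W))) := congrArg (fun z => ap lam W z) h1
    _ = ofM a • ap lam W (toM (1 : Γ(X, W))) := ap_smul lam _ _
    _ = ofM a • (c • e) := by rw [hc]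
    _ = (ofM a * c) • e := (mul_smul _ _ _).symm

theorem coef_regular [Mono lam] {W : X.Opens} {e : Γ(L, W)} (c : Γ(X, W))
    (hc : ap lam W (toM 1) = c • e) (a : Γ(X, W)) (h : a * c = 0) : a = 0 := by
  have h1 : ap lam W (toM a) = ap lam W 0 := by
    rw [ap_lam_eq c hc (toM a), map_zero]
    show (a * c) • e = 0
    rw [h, zero_smul]
  exact QCohExact.app_injective_of_mono lam W h1

theorem map_tmulR_injective (F : X.Modules) (q : ℕ) {W : X.Opens} {e : Γ(L, W)}
    (he : IsGen L W e) : Function.Injective (exteriorPower.map q (tmulR F L W e)) := by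
  let τ' : Γ(F, W) ≃ₗ[Γ(X, W)] Γ(CohB1.tensorMod F L, W) :=
    LinearEquiv.ofBijective (tmulR F L W e)
      ⟨fun a b h => tmul_inj F he a b h, fun y => tmul_surj F he y⟩
  refine exteriorPower.map_injective τ'.symm.toLinearMap ?_
  ext m
  exact τ'.symm_apply_apply m

theorem free_tensor (F : X.Modules) {W : X.Opens} {e : Γ(L, W)} (he : IsGen L W e)
    [Module.Free Γ(X, W) Γ(F, W)] : Module.Free Γ(X, W) Γ(CohB1.tensorMod F L, W) := by
  let τ' : Γ(F, W) ≃ₗ[Γ(X, W)] Γ(CohB1.tensorMod F L, W) :=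
    LinearEquiv.ofBijective (tmulR F L W e)
      ⟨fun a b h => tmul_inj F he a b h, fun y => tmul_surj F he y⟩
  exact Module.Free.of_equiv τ'

variable (C : KoszSh.Cx F s) (D : KoszSh.Cx (CohB1.tensorMod F L) t)

/-- The morphism `θ ≫ (∂ ⊗ 1)`. -/
noncomputable abbrev Gmor (L : X.Modules) {t : CohB1.tensorMod F L ⟶ Coh.structureModule X}
    (C : KoszSh.Cx F s) (D : KoszSh.Cx (CohB1.tensorMod F L) t) (q : ℕ)
    (θ : KoszTw.CxDecData C D (q + 1)) :
    D.K.X (q + 1) ⟶ CohB1.tensorMod (C.K.X q) (CohB1.tensorPow L (q + 1)) :=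
  θ.iso.hom ≫ KoszTw.tensorMap (C.K.d (q + 1) q) (𝟙 (CohB1.tensorPow L (q + 1)))

theorem ap_G (q : ℕ) (θ : KoszTw.CxDecData C D (q + 1)) (W : X.affineOpens) (e : Γ(L, W.1))
    (w : ↥(⋀[Γ(X, W.1)]^(q + 1) Γ(F, W.1))) :
    ap (Gmor L C D q θ) W.1
        ((D.loc (q + 1) W).symm (exteriorPower.map (q + 1) (tmulR F L W.1 e) w)) =
      tmulR (C.K.X q) (CohB1.tensorPow L (q + 1)) W.1 (KoszTw.tprod L (q + 1) W.1 (fun _ => e))
        (ap (C.K.d (q + 1) q) W.1 ((C.loc (q + 1) W).symm w)) := by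
  calc ap (Gmor L C D q θ) W.1
        ((D.loc (q + 1) W).symm (exteriorPower.map (q + 1) (tmulR F L W.1 e) w))
      = ap (KoszTw.tensorMap (C.K.d (q + 1) q) (𝟙 (CohB1.tensorPow L (q + 1)))) W.1
          (ap θ.iso.hom W.1
            ((D.loc (q + 1) W).symm (exteriorPower.map (q + 1) (tmulR F L W.1 e) w))) := rfl
    _ = ap (KoszTw.tensorMap (C.K.d (q + 1) q) (𝟙 (CohB1.tensorPow L (q + 1)))) W.1
          (tmulR (C.K.X (q + 1)) (CohB1.tensorPow L (q + 1)) W.1
            (KoszTw.tprod L (q + 1) W.1 (fun _ => e)) ((C.loc (q + 1) W).symm w)) :=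
        congrArg (fun v => ap (KoszTw.tensorMap (C.K.d (q + 1) q)
          (𝟙 (CohB1.tensorPow L (q + 1)))) W.1 v) (theta_lin C D (q + 1) θ W e w)
    _ = _ := ap_tensorMap_id_tmulR _ _ _ _ _

/-- Local claim, easy direction: `δ y = 0 ⇒ G y = 0`. -/
theorem ap_G_eq_zero (htri : KoszTw.TwistTriangle s lam t) (q : ℕ)
    (θ : KoszTw.CxDecData C D (q + 1)) (W : X.affineOpens) (e : Γ(L, W.1))
    (he : IsGen L W.1 e) (y : Γ(D.K.X (q + 1), W.1))
    (hy : ap (D.K.d (q + 1) q) W.1 y = 0) : ap (Gmor L C D q θ) W.1 y = 0 := by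
  obtain ⟨c, hc⟩ := (isGen_spec he).1 (ap lam W.1 (toM 1))
  have hsurj : Function.Surjective (tmulR F L W.1 e) := fun y => tmul_surj F he y
  obtain ⟨w, hw⟩ := exteriorPower.map_surjective (n := q + 1) hsurj ((D.loc (q + 1) W) y)
  have hy' : y = (D.loc (q + 1) W).symm (exteriorPower.map (q + 1) (tmulR F L W.1 e) w) := by
    rw [hw, LinearEquiv.symm_apply_apply]
  subst hy'
  have h1 := delta_lin C D htri q W e he c hc w
  have h1' : (D.loc q W).symm (exteriorPower.map q (tmulR F L W.1 e)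
      ((C.loc q W) (ap (C.K.d (q + 1) q) W.1 ((C.loc (q + 1) W).symm w)))) = 0 :=
    h1.symm.trans ((congrArg (fun v => c • v) hy).trans (smul_zero c))
  have h2 : exteriorPower.map q (tmulR F L W.1 e)
      ((C.loc q W) (ap (C.K.d (q + 1) q) W.1 ((C.loc (q + 1) W).symm w))) = 0 :=
    (LinearEquiv.map_eq_zero_iff _).1 h1'
  have h3 : (C.loc q W) (ap (C.K.d (q + 1) q) W.1 ((C.loc (q + 1) W).symm w)) = 0 :=
    map_tmulR_injective F q he (h2.trans (map_zero _).symm)
  have h4 : ap (C.K.d (q + 1) q) W.1 ((C.loc (q + 1) W).symm w) = 0 :=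
    (LinearEquiv.map_eq_zero_iff _).1 h3
  rw [ap_G, h4, map_zero]

/-- Local claim, hard direction: `G y = 0 ⇒ δ y = 0` (uses `Mono lam` and freeness). -/
theorem ap_delta_eq_zero [Mono lam] (htri : KoszTw.TwistTriangle s lam t) (q : ℕ)
    (θ : KoszTw.CxDecData C D (q + 1)) (W : X.affineOpens) (e : Γ(L, W.1))
    (he : IsGen L W.1 e) [Module.Free Γ(X, W.1) Γ(F, W.1)] (y : Γ(D.K.X (q + 1), W.1))
    (hy : ap (Gmor L C D q θ) W.1 y = 0) : ap (D.K.d (q + 1) q) W.1 y = 0 := by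
  obtain ⟨c, hc⟩ := (isGen_spec he).1 (ap lam W.1 (toM 1))
  have hsurj : Function.Surjective (tmulR F L W.1 e) := fun y => tmul_surj F he y
  obtain ⟨w, hw⟩ := exteriorPower.map_surjective (n := q + 1) hsurj ((D.loc (q + 1) W) y)
  have hy' : y = (D.loc (q + 1) W).symm (exteriorPower.map (q + 1) (tmulR F L W.1 e) w) := by
    rw [hw, LinearEquiv.symm_apply_apply]
  subst hy'
  have hy2 := (ap_G C D q θ W e w).symm.trans hy
  have h4 : ap (C.K.d (q + 1) q) W.1 ((C.loc (q + 1) W).symm w) = 0 :=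
    tmul_inj (C.K.X q) (isGen_tprod he (q + 1)) _ _ (hy2.trans (map_zero _).symm)
  have h1 := delta_lin C D htri q W e he c hc w
  have h5 : c • ap (D.K.d (q + 1) q) W.1
      ((D.loc (q + 1) W).symm (exteriorPower.map (q + 1) (tmulR F L W.1 e) w)) = 0 := by
    refine h1.trans ?_
    rw [h4, map_zero, map_zero, map_zero]
  haveI : Module.Free Γ(X, W.1) Γ(CohB1.tensorMod F L, W.1) := free_tensor F he
  haveI : Module.Free Γ(X, W.1) Γ(D.K.X q, W.1) := Module.Free.of_equiv (D.loc q W).symm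
  exact smul_eq_zero_of_free c (coef_regular c hc) _ h5

theorem main93_le1 [Mono lam] (hF : FlatMod.IsFinLocFree F) (hL : PicF.IsInvertible L)
    (htri : KoszTw.TwistTriangle s lam t) (q : ℕ) (θ : KoszTw.CxDecData C D (q + 1)) :
    kernel.ι (Gmor L C D q θ) ≫ D.K.d (q + 1) q = 0 := by
  apply hom_eq_zero_of_locally
  intro U x p hp
  obtain ⟨W₀, -, hpW₀, e₀, he₀⟩ := GenLocH8.exists_isGen hL p
  obtain ⟨W', hWaff, hpW, hWle, r, g, hspan, hli⟩ :=
    FLFH8.exists_affine_basis_le F hF (show p ∈ U ⊓ W₀ from ⟨hp, hpW₀⟩)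
  obtain ⟨W, hW⟩ : ∃ W : X.affineOpens, W.1 = W' := ⟨⟨W', hWaff⟩, rfl⟩
  subst hW
  haveI : Module.Free Γ(X, W.1) Γ(F, W.1) :=
    Module.Free.of_basis (Module.Basis.mk hli hspan.ge)
  refine ⟨W.1, hWle.trans inf_le_left, hpW, ?_⟩
  have he := he₀.res (hWle.trans inf_le_right)
  show ap (D.K.d (q + 1) q) W.1 (ap (kernel.ι (Gmor L C D q θ)) W.1 _) = 0
  refine ap_delta_eq_zero C D htri q θ W _ he _ ?_
  show ap (kernel.ι (Gmor L C D q θ) ≫ Gmor L C D q θ) W.1 _ = 0
  rw [kernel.condition]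
  rfl

theorem main93_le2 (hL : PicF.IsInvertible L)
    (htri : KoszTw.TwistTriangle s lam t) (q : ℕ) (θ : KoszTw.CxDecData C D (q + 1)) :
    kernel.ι (D.K.d (q + 1) q) ≫ Gmor L C D q θ = 0 := by
  apply hom_eq_zero_of_locally
  intro U x p hp
  obtain ⟨W, hWU, e, hpW, he⟩ := exists_small hL U p hp
  refine ⟨W.1, hWU, hpW, ?_⟩
  show ap (Gmor L C D q θ) W.1 (ap (kernel.ι (D.K.d (q + 1) q)) W.1 _) = 0
  refine ap_G_eq_zero C D htri q θ W e he _ ?_
  show ap (kernel.ι (D.K.d (q + 1) q) ≫ D.K.d (q + 1) q) W.1 _ = 0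
  rw [kernel.condition]
  rfl

theorem main16093 [Mono lam] (hF : FlatMod.IsFinLocFree F) (hL : PicF.IsInvertible L)
    (htri : KoszTw.TwistTriangle s lam t) (q : ℕ) (θ : KoszTw.CxDecData C D (q + 1)) :
    kernelSubobject (Gmor L C D q θ) = kernelSubobject (D.K.d (q + 1) q) :=
  le_antisymm
    (kernelSubobject_le_of_comp _ _ (main93_le1 C D hF hL htri q θ))
    (kernelSubobject_le_of_comp _ _ (main93_le2 C D hL htri q θ))

end Local

end Groth.Agent.Lib.KoszTwH7
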