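import Mathlib

set_option autoImplicit false
set_option maxHeartbeats 1000000

/-! Hilbert function of `k[x,y,z]/(f,g)` in degrees `≥ deg f + deg g` (helper1). -/

namespace Groth.Agent.Lib.KoszulHilbH1

open MvPolynomial

universe u

variable {k : Type u} [Field k]

attribute [local instance] MvPolynomial.gradedAlgebra

theorem two_T (x : ℕ) : 2 * (x + 2).choose 2 = (x + 1) * (x + 2) := by
  induction x with
  | zero => decide
  | succ x ih =>
    have h : (x + 1 + 2).choose 2 = (x + 2).choose 1 + (x + 2).choose 2 :=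
      Nat.choose_succ_succ (x + 2) 1
    rw [h, Nat.choose_one_right]
    nlinarith [ih]

noncomputable def eqv (e : ℕ) : Sym (Fin 3) e ≃ {d : Fin 3 →₀ ℕ | d.degree = e} :=
  (Sym.equivNatSum (Fin 3) e).trans (Equiv.subtypeEquivRight fun d => Iff.rfl)

theorem finrank_homog (e : ℕ) :
    Module.finrank k (homogeneousSubmodule (Fin 3) k e) = (e + 2).choose 2 := by
  classical
  rw [homogeneousSubmodule_eq_finsupp_supported,
    (AddMonoidAlgebra.supportedEquivFinsupp (R := k) (S := k)
      {d : Fin 3 →₀ ℕ | d.degree = e}).finrank_eq]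
  haveI : Fintype {d : Fin 3 →₀ ℕ | d.degree = e} := Fintype.ofEquiv _ (eqv e)
  rw [Module.finrank_finsupp_self, Fintype.card_congr (eqv e).symm, Sym.card_sym_eq_choose,
    Fintype.card_fin, show 3 + e - 1 = e + 2 by omega, Nat.choose_symm_add]

theorem finrank_comap_subtype {M : Type*} [AddCommGroup M] [Module k M] (H I : Submodule k M) :
    Module.finrank k (Submodule.comap H.subtype I) = Module.finrank k ↥(I ⊓ H) := by
  have h : Submodule.comap H.subtype I = Submodule.comap H.subtype (I ⊓ H) := by
    ext x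
    simp only [Submodule.mem_comap, Submodule.subtype_apply, Submodule.mem_inf]
    exact ⟨fun h => ⟨h, x.2⟩, fun h => h.1⟩
  rw [h]
  exact (Submodule.comapSubtypeEquivOfLe inf_le_right).finrank_eq

section

variable (f g : MvPolynomial (Fin 3) k)

noncomputable def psi (da db : ℕ) :
    (↥(homogeneousSubmodule (Fin 3) k da) × ↥(homogeneousSubmodule (Fin 3) k db)) →ₗ[k]
      MvPolynomial (Fin 3) k :=
  ((LinearMap.mulRight k f).comp (homogeneousSubmodule (Fin 3) k da).subtype).coprod
    ((LinearMap.mulRight k g).comp (homogeneousSubmodule (Fin 3) k db).subtype)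

theorem psi_apply (da db : ℕ)
    (x : ↥(homogeneousSubmodule (Fin 3) k da) × ↥(homogeneousSubmodule (Fin 3) k db)) :
    psi f g da db x =
      (x.1 : MvPolynomial (Fin 3) k) * f + (x.2 : MvPolynomial (Fin 3) k) * g := by
  simp [psi]

theorem range_psi {n m : ℕ} (hf : f.IsHomogeneous n) (hg : g.IsHomogeneous m) (da db d : ℕ)
    (hda : da + n = d) (hdb : db + m = d) :
    LinearMap.range (psi f g da db) =
      (Ideal.span ({f, g} : Set (MvPolynomial (Fin 3) k))).restrictScalars k ⊓
        homogeneousSubmodule (Fin 3) k d := by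
  apply le_antisymm
  · rintro x ⟨⟨a, b⟩, rfl⟩
    rw [psi_apply]
    refine Submodule.mem_inf.mpr ⟨?_, ?_⟩
    · rw [Submodule.restrictScalars_mem]
      exact Ideal.add_mem _ (Ideal.mul_mem_left _ _ (Ideal.subset_span (by simp)))
        (Ideal.mul_mem_left _ _ (Ideal.subset_span (by simp)))
    · rw [mem_homogeneousSubmodule]
      have h1 : IsHomogeneous ((a : MvPolynomial (Fin 3) k) * f) d :=
        hda ▸ IsHomogeneous.mul ((mem_homogeneousSubmodule da _).mp a.2) hf
      have h2 : IsHomogeneous ((b : MvPolynomial (Fin 3) k) * g) d :=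
        hdb ▸ IsHomogeneous.mul ((mem_homogeneousSubmodule db _).mp b.2) hg
      exact h1.add h2
  · intro x hx
    obtain ⟨hxI, hxd⟩ := Submodule.mem_inf.mp hx
    obtain ⟨p, q, rfl⟩ := Ideal.mem_span_pair.mp ((Submodule.restrictScalars_mem k _ x).mp hxI)
    refine ⟨(DirectSum.decompose (homogeneousSubmodule (Fin 3) k) p da,
      DirectSum.decompose (homogeneousSubmodule (Fin 3) k) q db), ?_⟩
    rw [psi_apply]
    have h1 := DirectSum.decompose_of_mem_same (homogeneousSubmodule (Fin 3) k) hxd
    rw [DirectSum.decompose_add, DirectSum.add_apply, Submodule.coe_add] at h1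
    have h2 : ((DirectSum.decompose (homogeneousSubmodule (Fin 3) k) (p * f)) d :
        MvPolynomial (Fin 3) k) =
        (DirectSum.decompose (homogeneousSubmodule (Fin 3) k) p da : MvPolynomial (Fin 3) k) *
          f := by
      rw [← hda]
      exact DirectSum.coe_decompose_mul_add_of_right_mem (homogeneousSubmodule (Fin 3) k)
        ((mem_homogeneousSubmodule n f).mpr hf)
    have h3 : ((DirectSum.decompose (homogeneousSubmodule (Fin 3) k) (q * g)) d :
        MvPolynomial (Fin 3) k) =
        (DirectSum.decompose (homogeneousSubmodule (Fin 3) k) q db : MvPolynomial (Fin 3) k) *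
          g := by
      rw [← hdb]
      exact DirectSum.coe_decompose_mul_add_of_right_mem (homogeneousSubmodule (Fin 3) k)
        ((mem_homogeneousSubmodule m g).mpr hg)
    rw [h2, h3] at h1
    exact h1

noncomputable def kap {n m : ℕ} (hf : f.IsHomogeneous n) (hg : g.IsHomogeneous m)
    (e da db : ℕ) (he1 : e + m = da) (he2 : e + n = db) :
    ↥(homogeneousSubmodule (Fin 3) k e) →ₗ[k]
      (↥(homogeneousSubmodule (Fin 3) k da) × ↥(homogeneousSubmodule (Fin 3) k db)) :=
  LinearMap.prod
    (LinearMap.codRestrict (homogeneousSubmodule (Fin 3) k da)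
      ((LinearMap.mulRight k g).comp (homogeneousSubmodule (Fin 3) k e).subtype)
      (fun c => by
        rw [mem_homogeneousSubmodule]
        exact he1 ▸ IsHomogeneous.mul ((mem_homogeneousSubmodule e _).mp c.2) hg))
    (LinearMap.codRestrict (homogeneousSubmodule (Fin 3) k db)
      ((LinearMap.mulRight k (-f)).comp (homogeneousSubmodule (Fin 3) k e).subtype)
      (fun c => by
        rw [mem_homogeneousSubmodule]
        have hnf : IsHomogeneous (-f) n :=
          (mem_homogeneousSubmodule n _).mp
            (Submodule.neg_mem _ ((mem_homogeneousSubmodule n f).mpr hf))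
        exact he2 ▸ IsHomogeneous.mul ((mem_homogeneousSubmodule e _).mp c.2) hnf))

theorem kap_fst {n m : ℕ} (hf : f.IsHomogeneous n) (hg : g.IsHomogeneous m)
    (e da db : ℕ) (he1 : e + m = da) (he2 : e + n = db)
    (c : ↥(homogeneousSubmodule (Fin 3) k e)) :
    ((kap f g hf hg e da db he1 he2 c).1 : MvPolynomial (Fin 3) k) =
      (c : MvPolynomial (Fin 3) k) * g := rfl

theorem kap_snd {n m : ℕ} (hf : f.IsHomogeneous n) (hg : g.IsHomogeneous m)
    (e da db : ℕ) (he1 : e + m = da) (he2 : e + n = db)
    (c : ↥(homogeneousSubmodule (Fin 3) k e)) :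
    ((kap f g hf hg e da db he1 he2 c).2 : MvPolynomial (Fin 3) k) =
      (c : MvPolynomial (Fin 3) k) * (-f) := rfl

theorem kap_inj (hg0 : g ≠ 0) {n m : ℕ} (hf : f.IsHomogeneous n) (hg : g.IsHomogeneous m)
    (e da db : ℕ) (he1 : e + m = da) (he2 : e + n = db) :
    Function.Injective (kap f g hf hg e da db he1 he2) := by
  rw [← LinearMap.ker_eq_bot, LinearMap.ker_eq_bot']
  intro c hc
  have h1 : ((kap f g hf hg e da db he1 he2 c).1 : MvPolynomial (Fin 3) k) = 0 := by
    rw [hc]; rfl
  rw [kap_fst] at h1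
  exact Subtype.ext ((mul_eq_zero.mp h1).resolve_right hg0)

theorem ker_psi_eq (hg0 : g ≠ 0) (hfg : IsRelPrime f g) {n m : ℕ} (hf : f.IsHomogeneous n)
    (hg : g.IsHomogeneous m) (e da db : ℕ) (he1 : e + m = da) (he2 : e + n = db) :
    LinearMap.ker (psi f g da db) = LinearMap.range (kap f g hf hg e da db he1 he2) := by
  apply le_antisymm
  · rintro ⟨a, b⟩ hab
    rw [LinearMap.mem_ker, psi_apply] at hab
    have hab' : (a : MvPolynomial (Fin 3) k) * f + (b : MvPolynomial (Fin 3) k) * g = 0 := hab
    have hdvd : g ∣ (a : MvPolynomial (Fin 3) k) * f :=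
      ⟨-(b : MvPolynomial (Fin 3) k), by linear_combination hab'⟩
    obtain ⟨c', hc'⟩ := hfg.symm.dvd_of_dvd_mul_right hdvd
    have hca : ((DirectSum.decompose (homogeneousSubmodule (Fin 3) k) c' e :
        ↥(homogeneousSubmodule (Fin 3) k e)) : MvPolynomial (Fin 3) k) * g = a := by
      have h1 := DirectSum.coe_decompose_mul_add_of_right_mem (homogeneousSubmodule (Fin 3) k)
        (i := e) (a := c') ((mem_homogeneousSubmodule m g).mpr hg)
      rw [← h1, he1, mul_comm c' g, ← hc']
      exact DirectSum.decompose_of_mem_same _ a.2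
    have hcb : ((DirectSum.decompose (homogeneousSubmodule (Fin 3) k) c' e :
        ↥(homogeneousSubmodule (Fin 3) k e)) : MvPolynomial (Fin 3) k) * (-f) = b := by
      have h2 : (((DirectSum.decompose (homogeneousSubmodule (Fin 3) k) c' e :
          ↥(homogeneousSubmodule (Fin 3) k e)) : MvPolynomial (Fin 3) k) * f + b) * g = 0 := by
        linear_combination hab' + f * hca
      have h3 := (mul_eq_zero.mp h2).resolve_right hg0
      linear_combination -h3
    refine ⟨DirectSum.decompose (homogeneousSubmodule (Fin 3) k) c' e, ?_⟩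
    apply Prod.ext
    · exact Subtype.ext hca
    · exact Subtype.ext hcb
  · rintro x ⟨c, rfl⟩
    rw [LinearMap.mem_ker, psi_apply, kap_fst, kap_snd]
    ring

end

theorem main (k : Type u) [Field k] (n m d : ℕ)
    (f g : MvPolynomial (Fin 3) k) (hf : f.IsHomogeneous n) (hg : g.IsHomogeneous m)
    (hn : 0 < n) (hm : 0 < m) (hf0 : f ≠ 0) (hg0 : g ≠ 0) (hfg : IsRelPrime f g)
    (hd : n + m ≤ d) :
    Module.finrank k
        (↥(MvPolynomial.homogeneousSubmodule (Fin 3) k d) ⧸
          Submodule.comap (MvPolynomial.homogeneousSubmodule (Fin 3) k d).subtype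
            ((Ideal.span ({f, g} : Set (MvPolynomial (Fin 3) k))).restrictScalars k)) =
      n * m := by
  obtain ⟨e, rfl⟩ : ∃ e, d = e + n + m := ⟨d - n - m, by omega⟩
  have hfin : ∀ j, Module.Finite k ↥(homogeneousSubmodule (Fin 3) k j) := fun j =>
    Module.Finite.iff_fg.mpr (homogeneousSubmodule_fg (Fin 3) k j)
  haveI := hfin (e + n + m)
  haveI := hfin (e + m)
  haveI := hfin (e + n)
  have h1 := Submodule.finrank_quotient_add_finrank
    (Submodule.comap (homogeneousSubmodule (Fin 3) k (e + n + m)).subtype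
      ((Ideal.span ({f, g} : Set (MvPolynomial (Fin 3) k))).restrictScalars k))
  rw [finrank_comap_subtype,
    ← range_psi f g hf hg (e + m) (e + n) (e + n + m) (by omega) (by omega),
    finrank_homog] at h1
  have h3 := LinearMap.finrank_range_add_finrank_ker (psi f g (e + m) (e + n))
  rw [Module.finrank_prod, finrank_homog, finrank_homog,
    ker_psi_eq f g hg0 hfg hf hg e (e + m) (e + n) rfl rfl,
    LinearMap.finrank_range_of_inj (kap_inj f g hg0 hf hg e (e + m) (e + n) rfl rfl),
    finrank_homog] at h3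
  have t1 := two_T (e + n + m)
  have t2 := two_T e
  have t3 := two_T (e + m)
  have t4 := two_T (e + n)
  nlinarith [h1, h3, t1, t2, t3, t4]

end Groth.Agent.Lib.KoszulHilbH1
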