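import Mathlib
import Groth.Prelude.Def_Koszul
import Groth.Prelude.Def_LCI2
import Groth.Prelude.Def_DRing2
import Groth.Agent.Lib.KoszulSwap_helper2
import Groth.Agent.Lib.KoszulSplit_helper2

/-!
# Homology of iterated cones of null-homotopic scalars: binomial decomposition.
-/

set_option autoImplicit false
universe u
open CategoryTheory CategoryTheory.Limits CochainComplex HomComplex

namespace Groth.Agent.Lib.KoszulPascal

open Groth.Agent.Lib.KoszulSwap Groth.Agent.Lib.KoszulSplit

variable {A : Type u} [CommRing A]

section pascal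

variable (G : ℕ → Type u) [∀ j, AddCommGroup (G j)] [∀ j, Module A (G j)]

/-- `ℕ`-indexed binomial product. -/
abbrev Q (r : ℕ) : Type u := (j : ℕ) → Fin (r.choose j) → G j

/-- Pascal's rule for binomial products. -/
noncomputable def pascal (r : ℕ) :
    (Q G r × Q (fun j => G (j + 1)) r) ≃ₗ[A] Q G (r + 1) where
  toFun p := fun j => match j with
    | 0 => fun i => p.1 0 (Fin.cast (by simp) i)
    | k + 1 => fun i => Fin.addCases (m := r.choose k) (n := r.choose (k + 1))
        (motive := fun _ => G (k + 1)) (fun i₁ => p.2 k i₁) (fun i₂ => p.1 (k + 1) i₂) i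
  invFun w := (fun j => match j with
      | 0 => fun i => w 0 (Fin.cast (by simp) i)
      | k + 1 => fun i => w (k + 1) (Fin.natAdd (r.choose k) i),
    fun k i => w (k + 1) (Fin.castAdd (r.choose (k + 1)) i))
  map_add' p q := by
    funext j
    cases j with
    | zero => rfl
    | succ k =>
      funext i
      refine Fin.addCases (fun i₁ => ?_) (fun i₂ => ?_) i
      · simp only [Pi.add_apply, Fin.addCases_left, Prod.snd_add]
      · simp only [Pi.add_apply, Fin.addCases_right, Prod.fst_add]
  map_smul' c p := by
    funext j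
    cases j with
    | zero => rfl
    | succ k =>
      funext i
      refine Fin.addCases (fun i₁ => ?_) (fun i₂ => ?_) i
      · simp only [Pi.smul_apply, Fin.addCases_left, Prod.smul_snd, RingHom.id_apply]
      · simp only [Pi.smul_apply, Fin.addCases_right, Prod.smul_fst, RingHom.id_apply]
  left_inv p := by
    apply Prod.ext
    · funext j
      cases j with
      | zero =>
        funext i
        simp only [Fin.cast_cast, Fin.cast_eq_self]
      | succ k =>
        funext i
        simp only [Fin.addCases_right]
    · funext k i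
      simp only [Fin.addCases_left]
  right_inv w := by
    funext j
    cases j with
    | zero =>
      funext i
      simp only [Fin.cast_cast, Fin.cast_eq_self]
    | succ k =>
      funext i
      refine Fin.addCases (fun i₁ => ?_) (fun i₂ => ?_) i
      · simp only [Fin.addCases_left]
      · simp only [Fin.addCases_right]

/-- the binomial product for `r = 0`. -/
noncomputable def qZero : G 0 ≃ₗ[A] Q G 0 where
  toFun g := fun j => match j with
    | 0 => fun _ => g
    | _ + 1 => fun i => Fin.elim0 i
  invFun w := w 0 ⟨0, by simp⟩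
  map_add' g g' := by
    funext j
    cases j with
    | zero => rfl
    | succ k => funext i; exact Fin.elim0 i
  map_smul' c g := by
    funext j
    cases j with
    | zero => rfl
    | succ k => funext i; exact Fin.elim0 i
  left_inv g := rfl
  right_inv w := by
    funext j
    cases j with
    | zero =>
      funext i
      have : i = ⟨0, by simp⟩ := by
        apply Fin.ext
        have := i.2
        simp only [Nat.choose_self] at this
        lia
      rw [this]
    | succ k => funext i; exact Fin.elim0 i

/-- restriction of the `ℕ`-indexed binomial product to `Fin (r + 1)`. -/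
noncomputable def qFin (r : ℕ) :
    Q G r ≃ₗ[A] ((j : Fin (r + 1)) → Fin (r.choose j) → G j) where
  toFun w := fun j => w j
  invFun u := fun j => if h : j < r + 1 then u ⟨j, h⟩ else
    fun i => (Fin.elim0 (Fin.cast (Nat.choose_eq_zero_of_lt (by lia)) i))
  map_add' _ _ := rfl
  map_smul' _ _ := rfl
  left_inv w := by
    funext j
    by_cases h : j < r + 1
    · simp only [dif_pos h]
    · funext i
      exact Fin.elim0 (Fin.cast (Nat.choose_eq_zero_of_lt (by lia)) i)
  right_inv u := by
    funext j
    simp only [dif_pos j.2]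

end pascal

section cast

/-- transport along an equality of indices. -/
noncomputable def idxCast (G : ℤ → Type u) [∀ j, AddCommGroup (G j)] [∀ j, Module A (G j)]
    {i i' : ℤ} (h : i = i') : G i ≃ₗ[A] G i' := by
  subst h
  exact LinearEquiv.refl A _

end cast

section iter

/-- binomial decomposition of the homology of an iterated cone of null-homotopic scalars
(`ℕ`-indexed form). -/
theorem iterCone_homology_Q (L : CochainComplex (ModuleCat.{u} A) ℤ) :
    ∀ (ys : List A) (_ : ∀ y ∈ ys, Nonempty (Homotopy (y • 𝟙 L) 0)) (m : ℤ),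
      Nonempty ((iterCone ys L).homology m ≃ₗ[A]
        Q (fun j : ℕ => (L.homology (m + (j : ℤ)) : Type u)) ys.length) := by
  intro ys
  induction ys with
  | nil =>
    intro _ m
    have e0 : (L.homology m : Type u) ≃ₗ[A] (L.homology (m + ((0 : ℕ) : ℤ)) : Type u) :=
      idxCast (A := A) (fun i => (L.homology i : Type u)) (by simp)
    exact ⟨e0.trans (qZero (A := A) (fun j : ℕ => (L.homology (m + (j : ℤ)) : Type u)))⟩
  | cons y ys ih =>
    intro hys m
    have hys' : ∀ y ∈ ys, Nonempty (Homotopy (y • 𝟙 L) 0) :=
      fun z hz => hys z (List.mem_cons_of_mem _ hz)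
    obtain ⟨hy⟩ := nullHomotopic_iterCone ys L y (hys y List.mem_cons_self)
    obtain ⟨e⟩ := coneSplit (y • 𝟙 (iterCone ys L)) hy m (m + 1) rfl
    obtain ⟨e1⟩ := ih hys' m
    obtain ⟨e2⟩ := ih hys' (m + 1)
    have e3 : Q (fun j : ℕ => (L.homology (m + 1 + (j : ℤ)) : Type u)) ys.length ≃ₗ[A]
        Q (fun j : ℕ => (L.homology (m + ((j + 1 : ℕ) : ℤ)) : Type u)) ys.length :=
      LinearEquiv.piCongrRight (fun j => LinearEquiv.piCongrRight (fun _ =>
        idxCast (A := A) (fun i => (L.homology i : Type u)) (by push_cast; ring)))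
    exact ⟨e.trans ((LinearEquiv.prodCongr e1 (e2.trans e3)).trans
      (pascal (A := A) (fun j : ℕ => (L.homology (m + (j : ℤ)) : Type u)) ys.length))⟩

/-- binomial decomposition of the homology of an iterated cone of null-homotopic scalars. -/
theorem iterCone_homology (L : CochainComplex (ModuleCat.{u} A) ℤ)
    (ys : List A) (hys : ∀ y ∈ ys, Nonempty (Homotopy (y • 𝟙 L) 0)) (m : ℤ) :
    Nonempty ((iterCone ys L).homology m ≃ₗ[A]
      ((j : Fin (ys.length + 1)) → Fin (ys.length.choose j) → L.homology (m + j))) := by
  obtain ⟨e⟩ := iterCone_homology_Q L ys hys m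
  exact ⟨e.trans (qFin (A := A) (fun j : ℕ => (L.homology (m + (j : ℤ)) : Type u)) ys.length)⟩

end iter

section functor

variable (F : ModuleCat.{u} A ⥤ ModuleCat.{u} A) [F.Additive] [Functor.Linear A F]

/-- additive linear functors commute with iterated cones. -/
noncomputable def mapIterCone : ∀ (ys : List A) (L : CochainComplex (ModuleCat.{u} A) ℤ),
    (F.mapHomologicalComplex (ComplexShape.up ℤ)).obj (iterCone ys L) ≅
      iterCone ys ((F.mapHomologicalComplex (ComplexShape.up ℤ)).obj L)
  | [], _ => Iso.refl _
  | y :: ys, L =>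
    (mappingCone.mapHomologicalComplexIso (y • 𝟙 (iterCone ys L)) F) ≪≫
      Groth.Agent.Lib.KoszulRegH7.coneIso _
        (y • 𝟙 (iterCone ys ((F.mapHomologicalComplex (ComplexShape.up ℤ)).obj L)))
        (mapIterCone ys L) (mapIterCone ys L)
        (by
          rw [Functor.map_smul, CategoryTheory.Functor.map_id, Linear.smul_comp,
            Linear.comp_smul, Category.id_comp, Category.comp_id])

lemma map_nullHomotopic (L : CochainComplex (ModuleCat.{u} A) ℤ) (y : A)
    (h : Nonempty (Homotopy (y • 𝟙 L) 0)) :
    Nonempty (Homotopy (y • 𝟙 ((F.mapHomologicalComplex (ComplexShape.up ℤ)).obj L)) 0) := by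
  obtain ⟨h⟩ := h
  have h' := F.mapHomotopy h
  rw [Functor.map_smul, CategoryTheory.Functor.map_id, Functor.map_zero] at h'
  exact ⟨h'⟩

end functor

section main

variable (A)

theorem main15822 (M : ModuleCat.{u} A)
    (xs ys : List A) (hy : ∀ y ∈ ys, y ∈ Ideal.span {a | a ∈ xs}) (m : ℤ) :
    Nonempty ((DRing.tensorCx (Koszul.koszul A (xs ++ ys)) M).homology m ≅
      ModuleCat.of A ((j : Fin (ys.length + 1)) → Fin (ys.length.choose j) →
        (DRing.tensorCx (Koszul.koszul A xs) M).homology (m + j))) := by
  obtain ⟨e⟩ := koszul_perm A (List.perm_append_comm (l₁ := xs) (l₂ := ys))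
  rw [koszul_append A ys xs] at e
  let F := MonoidalCategory.tensorRight M
  let e1 : DRing.tensorCx (Koszul.koszul A (xs ++ ys)) M ≅
      (F.mapHomologicalComplex (ComplexShape.up ℤ)).obj (iterCone ys (Koszul.koszul A xs)) :=
    (F.mapHomologicalComplex (ComplexShape.up ℤ)).mapIso e
  let e2 := mapIterCone F ys (Koszul.koszul A xs)
  have hnull : ∀ y ∈ ys, Nonempty (Homotopy
      (y • 𝟙 ((F.mapHomologicalComplex (ComplexShape.up ℤ)).obj (Koszul.koszul A xs))) 0) := by
    intro y hyy
    exact map_nullHomotopic F _ y (nullHomotopic_koszul A xs y (hy y hyy))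
  obtain ⟨e3⟩ := iterCone_homology
    ((F.mapHomologicalComplex (ComplexShape.up ℤ)).obj (Koszul.koszul A xs)) ys hnull m
  exact ⟨(HomologicalComplex.homologyFunctor _ _ m).mapIso (e1 ≪≫ e2) ≪≫ e3.toModuleIso⟩

end main

end Groth.Agent.Lib.KoszulPascal
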