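import Mathlib

/-!
# `colim_n A[X]/(X^n)` along multiplication by powers of `∏ X_j` is free over `A` (helper3)
-/

set_option autoImplicit false
universe u v w
open MvPolynomial

namespace Groth.Agent.Lib.KoszulPoly2H3

variable {A : Type u} [CommRing A] {σ : Type v} [Fintype σ]

/-- the exponent vector `n - a`. -/
noncomputable def ex (n : ℕ) (a : σ → ℕ) : σ →₀ ℕ :=
  Finsupp.equivFunOnFinite.symm (fun j => n - a j)

@[simp] lemma ex_apply (n : ℕ) (a : σ → ℕ) (j : σ) : ex n a j = n - a j := rfl

omit [Fintype σ] in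
lemma mem_span_X_pow_iff (n : ℕ) (p : MvPolynomial σ A) :
    p ∈ Ideal.span (Set.range fun j : σ => (X j : MvPolynomial σ A) ^ n) ↔
      ∀ b ∈ p.support, ∃ j, n ≤ b j := by
  have h : Set.range (fun j : σ => (X j : MvPolynomial σ A) ^ n) =
      (fun s => monomial s (1 : A)) '' (Set.range fun j : σ => Finsupp.single j n) := by
    rw [← Set.range_comp]
    congr 1
    ext j
    simp [X_pow_eq_monomial]
  rw [h, mem_ideal_span_monomial_image]
  refine forall₂_congr fun b _ => ?_
  constructor
  · rintro ⟨_, ⟨j, rfl⟩, hle⟩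
    exact ⟨j, Finsupp.single_le_iff.mp hle⟩
  · rintro ⟨j, hj⟩
    exact ⟨_, ⟨j, rfl⟩, Finsupp.single_le_iff.mpr hj⟩

lemma prod_X_pow (d : ℕ) :
    (∏ j : σ, (X j : MvPolynomial σ A)) ^ d =
      monomial (Finsupp.equivFunOnFinite.symm (fun _ : σ => d)) 1 := by
  rw [monomial_eq, C_1, one_mul, Finsupp.prod_fintype _ _ (fun _ => pow_zero _), ← Finset.prod_pow]
  rfl

lemma prod_X_pow_mul_monomial (n m : ℕ) (h : n ≤ m) (a : σ → ℕ) (ha : ∀ j, a j ≤ n) (c : A) :
    (∏ j : σ, (X j : MvPolynomial σ A)) ^ (m - n) * monomial (ex n a) c = monomial (ex m a) c := by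
  have key : Finsupp.equivFunOnFinite.symm (fun _ : σ => m - n) + ex n a = ex m a := by
    ext j
    have := ha j
    simp only [Finsupp.coe_add, Pi.add_apply, ex_apply, Finsupp.equivFunOnFinite_symm_apply_apply]
    omega
  rw [prod_X_pow, monomial_mul, one_mul, key]

section main

variable (H : ℕ → Type w) [∀ n, AddCommGroup (H n)] [∀ n, Module (MvPolynomial σ A) (H n)]
  (g : ∀ n m, n ≤ m → H n →ₗ[MvPolynomial σ A] H m) [DirectedSystem H (g · · ·)]
  (t : ∀ n, MvPolynomial σ A →ₗ[MvPolynomial σ A] H n)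

/-- the index set of the basis. -/
abbrev J (σ : Type v) : Type v := {a : σ → ℕ // ∀ j, 1 ≤ a j}

theorem free_directLimit (ht_surj : ∀ n, Function.Surjective (t n))
    (ht_ker : ∀ n p, t n p = 0 ↔
      p ∈ Ideal.span (Set.range fun j : σ => (X j : MvPolynomial σ A) ^ n))
    (ht_trans : ∀ n m (h : n ≤ m) p,
      g n m h (t n p) = t m ((∏ j : σ, (X j : MvPolynomial σ A)) ^ (m - n) * p)) :
    Module.Free A (RestrictScalars A (MvPolynomial σ A) (Module.DirectLimit H g)) := by
  classical
  set S := MvPolynomial σ A with hS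
  set DL := Module.DirectLimit H g with hDL
  letI modA : Module A DL := Module.compHom DL (algebraMap A S)
  have smul_def' : ∀ (c : A) (x : DL), c • x = (C c : S) • x := fun c x => rfl
  haveI : IsScalarTower A S DL := ⟨fun a s x => by
    rw [smul_def', smul_eq_C_mul, mul_smul]⟩
  suffices hfree : Module.Free A DL from hfree
  let ℓ : ∀ n, S →ₗ[S] DL := fun n => (Module.DirectLimit.of S ℕ H g n).comp (t n)
  have hℓ : ∀ n p, ℓ n p = Module.DirectLimit.of S ℕ H g n (t n p) := fun n p => rfl
  -- K0
  have K0 : ∀ n m (h : n ≤ m) p, ℓ n p = ℓ m ((∏ j : σ, (X j : S)) ^ (m - n) * p) := by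
    intro n m h p
    rw [hℓ, hℓ, ← ht_trans n m h p, Module.DirectLimit.of_f]
  have K1 : ∀ n m (h : n ≤ m) (a : σ → ℕ) (c : A), (∀ j, a j ≤ n) →
      ℓ n (monomial (ex n a) c) = ℓ m (monomial (ex m a) c) := by
    intro n m h a c ha
    rw [K0 n m h, prod_X_pow_mul_monomial n m h a ha c]
  have K2 : ∀ n (b : σ →₀ ℕ) (c : A), (∃ j, n ≤ b j) → ℓ n (monomial b c) = 0 := by
    intro n b c hb
    rw [hℓ, (ht_ker n _).mpr, map_zero]
    rw [mem_span_X_pow_iff]
    intro b' hb'
    have := Finset.mem_singleton.mp (support_monomial_subset hb')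
    rw [this]
    exact hb
  let N : J σ → ℕ := fun a => ∑ j, a.1 j
  have hN : ∀ (a : J σ) j, a.1 j ≤ N a := fun a j =>
    Finset.single_le_sum (f := a.1) (fun _ _ => Nat.zero_le _) (Finset.mem_univ j)
  let vv : J σ → DL := fun a => ℓ (N a) (monomial (ex (N a) a.1) 1)
  have K3 : ∀ (a : J σ) (n : ℕ) (c : A), (∀ j, a.1 j ≤ n) →
      ℓ n (monomial (ex n a.1) c) = c • vv a := by
    intro a n c ha
    rw [K1 n (max n (N a)) (le_max_left _ _) a.1 c ha, smul_def']
    show _ = (C c : S) • ℓ (N a) (monomial (ex (N a) a.1) 1)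
    rw [K1 (N a) (max n (N a)) (le_max_right _ _) a.1 1 (hN a), ← map_smul, smul_eq_mul,
      C_mul_monomial, mul_one]
  -- linear independence
  have hli : LinearIndependent A vv := by
    rw [linearIndependent_iff]
    intro l hl
    rw [Finsupp.linearCombination_apply, Finsupp.sum] at hl
    set n := l.support.sup N with hn
    have hle : ∀ a ∈ l.support, ∀ j, a.1 j ≤ n := fun a ha j =>
      (hN a j).trans (Finset.le_sup (f := N) ha)
    have h1 : ∑ a ∈ l.support, l a • vv a =
        ℓ n (∑ a ∈ l.support, monomial (ex n a.1) (l a)) := by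
      rw [map_sum]
      exact Finset.sum_congr rfl fun a ha => (K3 a n (l a) (hle a ha)).symm
    rw [h1, hℓ] at hl
    obtain ⟨m, hnm, hm⟩ := Module.DirectLimit.of.zero_exact hl
    rw [ht_trans n m hnm, ht_ker, Finset.mul_sum] at hm
    have h2 : ∑ a ∈ l.support, (∏ j : σ, (X j : S)) ^ (m - n) * monomial (ex n a.1) (l a) =
        ∑ a ∈ l.support, monomial (ex m a.1) (l a) :=
      Finset.sum_congr rfl fun a ha => prod_X_pow_mul_monomial n m hnm a.1 (hle a ha) (l a)
    rw [h2, mem_span_X_pow_iff] at hm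
    ext a₀
    rw [Finsupp.zero_apply]
    by_contra hne
    have ha₀ : a₀ ∈ l.support := Finsupp.mem_support_iff.mpr hne
    have hcoeff : coeff (ex m a₀.1) (∑ a ∈ l.support, monomial (ex m a.1) (l a)) = l a₀ := by
      rw [coeff_sum, Finset.sum_eq_single a₀]
      · rw [coeff_monomial, if_pos rfl]
      · intro a ha hne'
        rw [coeff_monomial, if_neg]
        intro heq
        apply hne'
        apply Subtype.ext
        funext j
        have h3 := DFunLike.congr_fun heq j
        simp only [ex_apply] at h3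
        have h4 := (hle a ha j).trans hnm
        have h5 := (hle a₀ ha₀ j).trans hnm
        omega
      · intro h; exact absurd ha₀ h
    have hsupp : ex m a₀.1 ∈ (∑ a ∈ l.support, monomial (ex m a.1) (l a)).support := by
      rw [mem_support_iff, hcoeff]
      exact hne
    obtain ⟨j, hj⟩ := hm _ hsupp
    have h4 := a₀.2 j
    have h5 := (hle a₀ ha₀ j).trans hnm
    simp only [ex_apply] at hj
    omega
  -- spanning
  have hsp : ⊤ ≤ Submodule.span A (Set.range vv) := by
    intro x _
    obtain ⟨n, y, rfl⟩ := Module.DirectLimit.exists_of x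
    obtain ⟨p, rfl⟩ := ht_surj n y
    show ℓ n p ∈ _
    rw [p.as_sum, map_sum]
    refine Submodule.sum_mem _ fun b _ => ?_
    by_cases hb : ∃ j, n ≤ b j
    · rw [K2 n b _ hb]
      exact Submodule.zero_mem _
    · push_neg at hb
      let a : J σ := ⟨fun j => n - b j, fun j => by
        have := hb j
        show 1 ≤ n - b j
        omega⟩
      have hab : ex n a.1 = b := by
        ext j
        have := hb j
        simp only [ex_apply, a]
        omega
      have := K3 a n (coeff b p) (fun j => Nat.sub_le _ _)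
      rw [hab] at this
      rw [this]
      exact Submodule.smul_mem _ _ (Submodule.subset_span ⟨a, rfl⟩)
  exact Module.Free.of_basis (Module.Basis.mk hli hsp)

end main

end Groth.Agent.Lib.KoszulPoly2H3
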