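import Mathlib
import Groth.Prelude.Def_ega3
import Groth.Agent.Lib.KoszulLim2_helper6

/-!
# Koszul cohomology of the polynomial ring with respect to powers of the variables (helper3)

* `top` : the canonical map `M ⟶ H^0(K(fs; M))` (top Koszul degree), surjective with kernel `(fs) M`,
  compatible with the transition maps `koszulTrans` (multiplication by `(∏ fs)^(m-n)`).
* `isZero_homology_of_tailReg` : vanishing outside the top degree for "tail-regular" sequences.
* `free_directLimit` : the abstract computation of `colim_n S/(X^n)` along multiplication by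
  `(∏ X_j)^(m-n)` for a polynomial ring `S = A[X_j]` : free over `A`.
-/

set_option autoImplicit false
universe u
open CategoryTheory CategoryTheory.Limits CochainComplex HomologicalComplex

namespace Groth.Agent.Lib.KoszulPolyH3

open Groth.Agent.Lib.KoszulLim_helper6 Groth.Agent.Lib.KoszulLim2_helper6
open Groth.Agent.Lib.KoszulDepthH7

variable {A : Type u} [CommRing A]

section exact

variable (c : A) (K : CochainComplex (ModuleCat.{u} A) ℤ)

/-- exactness in the middle: `H^i(K) --c--> H^i(K) --inr--> H^i(cone)`. -/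
lemma E2' (i : ℤ) (y : (K.homology i : ModuleCat.{u} A))
    (hy : (homologyMap (mappingCone.inr (c • 𝟙 K)) i).hom y = 0) :
    ∃ w : (K.homology i : ModuleCat.{u} A), c • w = y := by
  letI : HasDerivedCategory (ModuleCat.{u} A) := HasDerivedCategory.standard _
  have hT := DerivedCategory.mappingCone_triangle_distinguished (c • 𝟙 K)
  have e2 := CochainComplex.homologyMap_exact₂_of_distTriang
    (mappingCone.triangle (c • 𝟙 K)) hT i
  have hrk := (ShortComplex.moduleCat_exact_iff_range_eq_ker _).mp e2
  have hymem : y ∈ LinearMap.ker (homologyMap (mappingCone.inr (c • 𝟙 K)) i).hom := hy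
  have : y ∈ LinearMap.range (homologyMap (c • 𝟙 K) i).hom := by
    rw [show LinearMap.range (homologyMap (c • 𝟙 K) i).hom =
      LinearMap.ker (homologyMap (mappingCone.inr (c • 𝟙 K)) i).hom from hrk]
    exact hymem
  obtain ⟨w, hw⟩ := this
  refine ⟨w, ?_⟩
  rw [hφ, ModuleCat.hom_smul, ModuleCat.hom_id] at hw
  exact hw

end exact

section top

variable (M : ModuleCat.{u} A)

/-- the canonical map from `M` to the top Koszul cohomology. -/
noncomputable def top : ∀ fs : List A, M ⟶ (CohIII.koszulCx M fs).homology 0
  | [] => (HomologicalComplex.singleObjHomologySelfIso (ComplexShape.up ℤ) 0 M).inv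
  | f :: fs => top fs ≫ homologyMap (mappingCone.inr (f • 𝟙 (CohIII.koszulCx M fs))) 0

lemma top_cons (f : A) (fs : List A) (m : M) :
    (top M (f :: fs)).hom m =
      (homologyMap (mappingCone.inr (f • 𝟙 (CohIII.koszulCx M fs))) 0).hom ((top M fs).hom m) := rfl

lemma isZero_homology_one (fs : List A) : IsZero ((CohIII.koszulCx M fs).homology 1) :=
  isZero_homology_of_isZero_X _ 1 (isZero_X_of_pos M fs 1 one_pos)

theorem top_surjective : ∀ fs : List A, Function.Surjective (top M fs).hom
  | [] => by
    intro x
    refine ⟨(HomologicalComplex.singleObjHomologySelfIso (ComplexShape.up ℤ) 0 M).hom.hom x, ?_⟩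
    show ((HomologicalComplex.singleObjHomologySelfIso (ComplexShape.up ℤ) 0 M).hom ≫
      (HomologicalComplex.singleObjHomologySelfIso (ComplexShape.up ℤ) 0 M).inv).hom x = x
    rw [Iso.hom_inv_id]
    rfl
  | f :: fs => by
    intro x
    change ((mappingCone (f • 𝟙 (CohIII.koszulCx M fs))).homology 0 : ModuleCat.{u} A) at x
    have hsub : Subsingleton ((CohIII.koszulCx M fs).homology 1 : ModuleCat.{u} A) :=
      ModuleCat.subsingleton_of_isZero (isZero_homology_one M fs)
    obtain ⟨y, hy⟩ := E3 f (CohIII.koszulCx M fs) 0 1 rfl x (hsub.elim _ _)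
    obtain ⟨m, hm⟩ := top_surjective fs y
    exact ⟨m, by rw [top_cons, hm, hy]⟩

theorem top_eq_zero_iff : ∀ (fs : List A) (m : M),
    (top M fs).hom m = 0 ↔ m ∈ Ideal.ofList fs • (⊤ : Submodule A M)
  | [], m => by
    rw [Ideal.ofList_nil, Submodule.bot_smul, Submodule.mem_bot]
    constructor
    · intro h
      have hinj : Function.Injective
          (HomologicalComplex.singleObjHomologySelfIso (ComplexShape.up ℤ) 0 M).inv.hom :=
        (ModuleCat.mono_iff_injective _).mp inferInstance
      exact hinj (h.trans (map_zero _).symm)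
    · rintro rfl
      exact map_zero _
  | f :: fs, m => by
    rw [Ideal.ofList_cons_smul, top_cons]
    constructor
    · intro h
      obtain ⟨w, hw⟩ := E2' f (CohIII.koszulCx M fs) 0 _ h
      obtain ⟨m', rfl⟩ := top_surjective M fs w
      have h0 : (top M fs).hom (m - f • m') = 0 := by
        rw [map_sub, map_smul, hw, sub_self]
      have h1 := (top_eq_zero_iff fs _).mp h0
      have : m = f • m' + (m - f • m') := by abel
      rw [this]
      exact Submodule.add_mem_sup (Submodule.smul_mem_pointwise_smul _ f ⊤ trivial) h1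
    · intro h
      obtain ⟨y, hy, z, hz, rfl⟩ := Submodule.mem_sup.mp h
      obtain ⟨m', -, rfl⟩ := (Submodule.mem_smul_pointwise_iff_exists _ _ _).mp hy
      rw [map_add, map_smul, (top_eq_zero_iff fs z).mpr hz, add_zero]
      exact E2 f (CohIII.koszulCx M fs) 0 _

theorem top_trans (n m : ℕ) (h : n ≤ m) : ∀ fs : List A,
    top M (fs.map (· ^ n)) ≫ homologyMap (CohIII.koszulTrans M n m h fs) 0 =
      (fs.prod ^ (m - n)) • top M (fs.map (· ^ m))
  | [] => by
    show top M [] ≫ homologyMap (𝟙 _) 0 = ((1 : A) ^ (m - n)) • top M []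
    rw [homologyMap_id, Category.comp_id, one_pow, one_smul]
  | f :: fs => by
    have ih := top_trans n m h fs
    show (top M (fs.map (· ^ n)) ≫ homologyMap (mappingCone.inr (f ^ n • 𝟙 (Kn M fs n))) 0) ≫
        homologyMap (Tn M f fs n m h) 0 =
      ((f * fs.prod) ^ (m - n)) •
        (top M (fs.map (· ^ m)) ≫ homologyMap (mappingCone.inr (f ^ m • 𝟙 (Kn M fs m))) 0)
    have h1 : homologyMap (mappingCone.inr (f ^ n • 𝟙 (Kn M fs n))) 0 ≫
        homologyMap (Tn M f fs n m h) 0 =
        homologyMap (f ^ (m - n) • CohIII.koszulTrans M n m h fs) 0 ≫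
          homologyMap (mappingCone.inr (f ^ m • 𝟙 (Kn M fs m))) 0 := by
      rw [← homologyMap_comp, ← homologyMap_comp]
      congr 1
      exact inr_nat _ _ _ _ _
    rw [Category.assoc, h1, homologyMap_smul, Linear.smul_comp, Linear.comp_smul,
      ← Category.assoc, ih, Linear.smul_comp, smul_smul, mul_pow]

end top

section vanish

variable (M : ModuleCat.{u} A)

/-- each element is a nonzerodivisor modulo the later ones. -/
def TailReg : List A → Prop
  | [] => True
  | f :: fs => (∀ m : M, f • m ∈ Ideal.ofList fs • (⊤ : Submodule A M) →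
      m ∈ Ideal.ofList fs • (⊤ : Submodule A M)) ∧ TailReg fs

theorem isZero_homology_of_tailReg : ∀ fs : List A, TailReg M fs → ∀ j : ℤ, j ≠ 0 →
    IsZero ((CohIII.koszulCx M fs).homology j)
  | [], _, j, hj => HomologicalComplex.isZero_single_obj_homology (ComplexShape.up ℤ) 0 M j hj
  | f :: fs, ⟨h1, h2⟩, j, hj => by
    have ih := isZero_homology_of_tailReg fs h2
    show IsZero ((mappingCone (f • 𝟙 (CohIII.koszulCx M fs))).homology j)
    rw [ModuleCat.isZero_iff_subsingleton]
    refine ⟨fun a b => ?_⟩
    suffices key : ∀ x : ((mappingCone (f • 𝟙 (CohIII.koszulCx M fs))).homology j :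
        ModuleCat.{u} A), x = 0 by rw [key a, key b]
    intro x
    have hδ : (homologyδOfTriangle (mappingCone.triangle (f • 𝟙 (CohIII.koszulCx M fs))) j (j + 1)
        rfl).hom x = 0 := by
      by_cases hj1 : j + 1 = 0
      · -- δ x is killed by f in H^0(K) = M/(fs)M
        have hj' : j = -1 := by omega
        subst hj'
        have hk := E1' f (CohIII.koszulCx M fs) (-1) (-1 + 1) rfl x
        set z := (homologyδOfTriangle (mappingCone.triangle (f • 𝟙 (CohIII.koszulCx M fs))) (-1)
          (-1 + 1) rfl).hom x with hz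
        clear_value z
        change ((CohIII.koszulCx M fs).homology 0 : ModuleCat.{u} A) at z
        obtain ⟨m, rfl⟩ := top_surjective M fs z
        have hk' : (top M fs).hom (f • m) = 0 := by
          rw [map_smul]
          exact hk
        have := h1 m ((top_eq_zero_iff M fs _).mp hk')
        exact (top_eq_zero_iff M fs m).mpr this
      · have hsub : Subsingleton ((CohIII.koszulCx M fs).homology (j + 1) : ModuleCat.{u} A) :=
          ModuleCat.subsingleton_of_isZero (ih (j + 1) hj1)
        exact hsub.elim _ _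
    obtain ⟨y, hy⟩ := E3 f (CohIII.koszulCx M fs) j (j + 1) rfl x hδ
    haveI := ModuleCat.subsingleton_of_isZero (ih j hj)
    rw [← hy, Subsingleton.elim y 0, map_zero]

end vanish

section exists_top

variable (M : ModuleCat.{u} A)

theorem exists_top (fs : List A) (i : ℤ) (hi : i = 0) :
    ∃ t : ∀ n : ℕ, M →ₗ[A] ((Kn M fs n).homology i : ModuleCat.{u} A),
      (∀ n, Function.Surjective (t n)) ∧
      (∀ n x, t n x = 0 ↔ x ∈ Ideal.ofList (fs.map (· ^ n)) • (⊤ : Submodule A M)) ∧
      (∀ n m (h : n ≤ m) x,
        (homologyMap (CohIII.koszulTrans M n m h fs) i).hom (t n x) =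
          t m (fs.prod ^ (m - n) • x)) := by
  subst hi
  refine ⟨fun n => (top M (fs.map (· ^ n))).hom, fun n => top_surjective _ _,
    fun n x => top_eq_zero_iff _ _ _, ?_⟩
  intro n m h x
  have h1 := top_trans M n m h fs
  have h2 := LinearMap.congr_fun (congrArg ModuleCat.Hom.hom h1) x
  rw [ModuleCat.hom_comp, ModuleCat.hom_smul] at h2
  rw [map_smul]
  exact h2

end exists_top

end Groth.Agent.Lib.KoszulPolyH3
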