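import Mathlib
import Groth.Prelude.Def_ega3
import Groth.Agent.Lib.KoszulPoly_helper3
import Groth.Agent.Lib.KoszulPoly2_helper3

/-!
# Direct-limit Koszul cohomology of the polynomial ring w.r.t. its variables (helper3)
-/

set_option autoImplicit false
universe u
open CategoryTheory CategoryTheory.Limits CochainComplex HomologicalComplex MvPolynomial

namespace Groth.Agent.Lib.KoszulPoly3H3

open Groth.Agent.Lib.KoszulLim_helper6 Groth.Agent.Lib.KoszulLim2_helper6
open Groth.Agent.Lib.KoszulPolyH3 Groth.Agent.Lib.KoszulPoly2H3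

variable {A : Type u} [CommRing A] {σ : Type} [DecidableEq σ]

lemma mem_ofList_iff (l : List σ) (n : ℕ) (p : MvPolynomial σ A) :
    p ∈ Ideal.ofList (l.map fun s => (X s : MvPolynomial σ A) ^ n) •
        (⊤ : Submodule (MvPolynomial σ A) (MvPolynomial σ A)) ↔
      ∀ b ∈ p.support, ∃ s ∈ l, n ≤ b s := by
  have h0 : Ideal.ofList (l.map fun s => (X s : MvPolynomial σ A) ^ n) •
      (⊤ : Submodule (MvPolynomial σ A) (MvPolynomial σ A)) =
      Ideal.ofList (l.map fun s => (X s : MvPolynomial σ A) ^ n) := by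
    rw [smul_eq_mul, Ideal.mul_top]
  have h : {x | x ∈ l.map fun s => (X s : MvPolynomial σ A) ^ n} =
      (fun s => monomial s (1 : A)) '' ((fun s : σ => Finsupp.single s n) '' {s | s ∈ l}) := by
    ext x
    simp only [List.mem_map, Set.mem_setOf_eq, Set.mem_image, exists_exists_and_eq_and,
      X_pow_eq_monomial]
  rw [h0, Ideal.ofList, h, mem_ideal_span_monomial_image]
  refine forall₂_congr fun b _ => ?_
  constructor
  · rintro ⟨_, ⟨s, hs, rfl⟩, hle⟩
    exact ⟨s, hs, Finsupp.single_le_iff.mp hle⟩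
  · rintro ⟨s, hs, hle⟩
    exact ⟨_, ⟨s, hs, rfl⟩, Finsupp.single_le_iff.mpr hle⟩

theorem tailReg_X_pow (n : ℕ) : ∀ l : List σ, l.Nodup →
    TailReg (ModuleCat.of (MvPolynomial σ A) (MvPolynomial σ A))
      (l.map fun s => (X s : MvPolynomial σ A) ^ n)
  | [], _ => trivial
  | s :: l, hl => by
    rw [List.nodup_cons] at hl
    refine ⟨?_, tailReg_X_pow n l hl.2⟩
    intro p hp
    change MvPolynomial σ A at p
    change (X s : MvPolynomial σ A) ^ n * p ∈ _ at hp
    rw [mem_ofList_iff] at hp ⊢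
    intro b hb
    have hmem : Finsupp.single s n + b ∈ ((X s : MvPolynomial σ A) ^ n * p).support := by
      rw [mem_support_iff, X_pow_eq_monomial, coeff_monomial_mul, one_mul]
      exact mem_support_iff.mp hb
    obtain ⟨s', hs', hle⟩ := hp _ hmem
    refine ⟨s', hs', ?_⟩
    have hne : s ≠ s' := fun h => hl.1 (h ▸ hs')
    rwa [Finsupp.add_apply, Finsupp.single_eq_of_ne' hne, zero_add] at hle

section main

variable (A) (r : ℕ)

/-- the list of variables. -/
noncomputable abbrev vars : List (MvPolynomial (Fin (r + 1)) A) :=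
  List.ofFn (fun j : Fin (r + 1) => (X j : MvPolynomial (Fin (r + 1)) A))

lemma vars_map (n : ℕ) : (vars A r).map (· ^ n) =
    (List.finRange (r + 1)).map fun s => (X s : MvPolynomial (Fin (r + 1)) A) ^ n := by
  rw [vars, List.ofFn_eq_map, List.map_map]
  rfl

lemma tailReg_vars (n : ℕ) :
    TailReg (ModuleCat.of (MvPolynomial (Fin (r + 1)) A) (MvPolynomial (Fin (r + 1)) A))
      ((vars A r).map (· ^ n)) := by
  rw [vars_map]
  exact tailReg_X_pow n _ (List.nodup_finRange _)

lemma mem_vars_iff (n : ℕ) (p : MvPolynomial (Fin (r + 1)) A) :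
    p ∈ Ideal.ofList ((vars A r).map (· ^ n)) •
        (⊤ : Submodule (MvPolynomial (Fin (r + 1)) A) (MvPolynomial (Fin (r + 1)) A)) ↔
      p ∈ Ideal.span (Set.range fun j : Fin (r + 1) =>
        (X j : MvPolynomial (Fin (r + 1)) A) ^ n) := by
  rw [vars_map, mem_ofList_iff, mem_span_X_pow_iff]
  refine forall₂_congr fun b _ => ?_
  constructor
  · rintro ⟨s, -, hs⟩
    exact ⟨s, hs⟩
  · rintro ⟨s, hs⟩
    exact ⟨s, List.mem_finRange s, hs⟩

theorem vanish (i : ℕ) (hi : i ≠ r + 1) :
    Subsingleton (CohIII.koszulHLim (vars A r)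
      (ModuleCat.of (MvPolynomial (Fin (r + 1)) A) (MvPolynomial (Fin (r + 1)) A)) i) := by
  have key : ∀ a : CohIII.koszulHLim (vars A r)
      (ModuleCat.of (MvPolynomial (Fin (r + 1)) A) (MvPolynomial (Fin (r + 1)) A)) i, a = 0 := by
    intro a
    unfold CohIII.koszulHLim at a ⊢
    obtain ⟨n, x, rfl⟩ := Module.DirectLimit.exists_of a
    have hdeg : (i : ℤ) - ((vars A r).length : ℤ) ≠ 0 := by
      rw [vars, List.length_ofFn]
      push_cast
      omega
    have hz := isZero_homology_of_tailReg _ _ (tailReg_vars A r n) _ hdeg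
    haveI := ModuleCat.subsingleton_of_isZero hz
    rw [Subsingleton.elim x 0, map_zero]
  exact ⟨fun a b => by rw [key a, key b]⟩

theorem free :
    Module.Free A (RestrictScalars A (MvPolynomial (Fin (r + 1)) A)
      (CohIII.koszulHLim (vars A r)
        (ModuleCat.of (MvPolynomial (Fin (r + 1)) A) (MvPolynomial (Fin (r + 1)) A)) (r + 1))) := by
  have hdeg : (((r + 1 : ℕ) : ℤ)) - ((vars A r).length : ℤ) = 0 := by
    rw [vars, List.length_ofFn]
    push_cast
    omega
  obtain ⟨t, ht1, ht2, ht3⟩ := exists_top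
    (ModuleCat.of (MvPolynomial (Fin (r + 1)) A) (MvPolynomial (Fin (r + 1)) A)) (vars A r) _ hdeg
  have hprod : (vars A r).prod = ∏ j : Fin (r + 1), (X j : MvPolynomial (Fin (r + 1)) A) :=
    List.prod_ofFn
  exact @free_directLimit A _ (Fin (r + 1)) _
    (Gj (vars A r) (((r + 1 : ℕ) : ℤ) - ((vars A r).length : ℤ))
      (ModuleCat.of (MvPolynomial (Fin (r + 1)) A) (MvPolynomial (Fin (r + 1)) A))) _ _
    (tj (vars A r) (((r + 1 : ℕ) : ℤ) - ((vars A r).length : ℤ))
      (ModuleCat.of (MvPolynomial (Fin (r + 1)) A) (MvPolynomial (Fin (r + 1)) A)))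
    (dirSys (vars A r) _ _) t ht1
    (fun n p => (ht2 n p).trans (mem_vars_iff A r n p))
    (fun n m h p => by rw [ht3 n m h p, hprod, smul_eq_mul])

end main

end Groth.Agent.Lib.KoszulPoly3H3
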