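import Mathlib
import Groth.Prelude.Def_ega3
import Groth.Prelude.Def_Koszul
import Groth.Agent.Lib.KoszulReg_helper7
import Groth.Agent.Lib.KoszulTop_helper7

set_option autoImplicit false
universe u
open CategoryTheory CategoryTheory.Limits CochainComplex HomComplex
open scoped Pointwise TensorProduct

namespace Groth.Agent.Lib.KoszulScaleH7

section general

variable {C : Type*} [Category C] [Preadditive C] [HasBinaryBiproducts C]
  {R : Type*} [CommRing R] [Linear R C]

/-- the complex with the same terms and differential multiplied by `x`. -/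
abbrev scaleCx (x : R) (K : CochainComplex C ℤ) : CochainComplex C ℤ where
  X n := K.X n
  d i j := x • K.d i j
  shape i j h := by rw [K.shape i j h, smul_zero]
  d_comp_d' i j k _ _ := by
    rw [Linear.smul_comp, Linear.comp_smul, K.d_comp_d, smul_zero, smul_zero]

noncomputable def coneScaleXIso (x f : R) (K : CochainComplex C ℤ) (n : ℤ) :
    (mappingCone ((x * f) • 𝟙 (scaleCx x K))).X n ≅ (mappingCone (f • 𝟙 K)).X n where
  hom := (mappingCone.fst ((x * f) • 𝟙 (scaleCx x K))).1.v n (n + 1) rfl ≫
        (mappingCone.inl (f • 𝟙 K)).v (n + 1) n (by lia) +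
      (mappingCone.snd ((x * f) • 𝟙 (scaleCx x K))).v n n (add_zero n) ≫
        (mappingCone.inr (f • 𝟙 K)).f n
  inv := (mappingCone.fst (f • 𝟙 K)).1.v n (n + 1) rfl ≫
        (mappingCone.inl ((x * f) • 𝟙 (scaleCx x K))).v (n + 1) n (by lia) +
      (mappingCone.snd (f • 𝟙 K)).v n n (add_zero n) ≫
        (mappingCone.inr ((x * f) • 𝟙 (scaleCx x K))).f n
  hom_inv_id := by
    simp only [Preadditive.add_comp, Preadditive.comp_add, Category.assoc,
      mappingCone.inl_v_fst_v_assoc, mappingCone.inl_v_snd_v_assoc,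
      mappingCone.inr_f_fst_v_assoc, mappingCone.inr_f_snd_v_assoc, zero_comp, comp_zero,
      add_zero, zero_add, mappingCone.id_X]
  inv_hom_id := by
    simp only [Preadditive.add_comp, Preadditive.comp_add, Category.assoc,
      mappingCone.inl_v_fst_v_assoc, mappingCone.inl_v_snd_v_assoc,
      mappingCone.inr_f_fst_v_assoc, mappingCone.inr_f_snd_v_assoc, zero_comp, comp_zero,
      add_zero, zero_add, mappingCone.id_X]

lemma inl_coneScaleXIso (x f : R) (K : CochainComplex C ℤ) (m m' : ℤ) (h : m' + (-1) = m) :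
    (mappingCone.inl ((x * f) • 𝟙 (scaleCx x K))).v m' m h ≫ (coneScaleXIso x f K m).hom =
      (mappingCone.inl (f • 𝟙 K)).v m' m h := by
  obtain rfl : m' = m + 1 := by lia
  simp only [coneScaleXIso, Preadditive.comp_add, mappingCone.inl_v_fst_v_assoc,
    mappingCone.inl_v_snd_v_assoc, zero_comp, add_zero]

lemma inr_coneScaleXIso (x f : R) (K : CochainComplex C ℤ) (m : ℤ) :
    (mappingCone.inr ((x * f) • 𝟙 (scaleCx x K))).f m ≫ (coneScaleXIso x f K m).hom =
      (mappingCone.inr (f • 𝟙 K)).f m := by
  simp only [coneScaleXIso, Preadditive.comp_add, mappingCone.inr_f_fst_v_assoc,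
    mappingCone.inr_f_snd_v_assoc, zero_comp, zero_add]

noncomputable def coneScaleIso (x f : R) (K : CochainComplex C ℤ) :
    mappingCone ((x * f) • 𝟙 (scaleCx x K)) ≅ scaleCx x (mappingCone (f • 𝟙 K)) :=
  HomologicalComplex.Hom.isoOfComponents (fun n => coneScaleXIso x f K n) (by
    rintro n _ rfl
    rw [mappingCone.ext_from_iff _ (n + 1) n rfl]
    constructor
    · show (mappingCone.inl ((x * f) • 𝟙 (scaleCx x K))).v (n + 1) n _ ≫
          (coneScaleXIso x f K n).hom ≫ (x • (mappingCone (f • 𝟙 K)).d n (n + 1)) =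
        (mappingCone.inl ((x * f) • 𝟙 (scaleCx x K))).v (n + 1) n _ ≫
          (mappingCone ((x * f) • 𝟙 (scaleCx x K))).d n (n + 1) ≫
            (coneScaleXIso x f K (n + 1)).hom
      rw [← Category.assoc, inl_coneScaleXIso, Linear.comp_smul,
        mappingCone.inl_v_d (f • 𝟙 K) (n + 1) n (n + 2) (by lia) (by lia),
        ← Category.assoc, mappingCone.inl_v_d ((x * f) • 𝟙 (scaleCx x K)) (n + 1) n (n + 2)
          (by lia) (by lia), Preadditive.sub_comp, Category.assoc, Category.assoc,
        inr_coneScaleXIso, inl_coneScaleXIso]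
      simp only [HomologicalComplex.smul_f_apply, HomologicalComplex.id_f, Linear.smul_comp,
        Category.id_comp, smul_sub, smul_smul]
    · show (mappingCone.inr ((x * f) • 𝟙 (scaleCx x K))).f n ≫
          (coneScaleXIso x f K n).hom ≫ (x • (mappingCone (f • 𝟙 K)).d n (n + 1)) =
        (mappingCone.inr ((x * f) • 𝟙 (scaleCx x K))).f n ≫
          (mappingCone ((x * f) • 𝟙 (scaleCx x K))).d n (n + 1) ≫
            (coneScaleXIso x f K (n + 1)).hom
      rw [← Category.assoc, inr_coneScaleXIso, Linear.comp_smul, mappingCone.inr_f_d,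
        ← Category.assoc, mappingCone.inr_f_d, Category.assoc, inr_coneScaleXIso,
        Linear.smul_comp])

end general

variable {A : Type u} [CommRing A]

/-- the Koszul complex of `x • l` is the Koszul complex of `l` with differential scaled by `x`. -/
noncomputable def koszulScaleIso (x : A) : ∀ l : List A,
    Koszul.koszul A (l.map (fun f => x * f)) ≅ scaleCx x (Koszul.koszul A l)
  | [] => HomologicalComplex.Hom.isoOfComponents (fun n => Iso.refl _) (by
      intro i j _
      have h : (Koszul.koszul A []).d i j = 0 := rfl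
      show 𝟙 _ ≫ (x • ((Koszul.koszul A []).d i j)) = (Koszul.koszul A []).d i j ≫ 𝟙 _
      rw [h, smul_zero, comp_zero, zero_comp])
  | f :: l =>
    Groth.Agent.Lib.KoszulRegH7.coneIso
      ((x * f) • 𝟙 (Koszul.koszul A (l.map (fun f => x * f))))
      ((x * f) • 𝟙 (scaleCx x (Koszul.koszul A l)))
      (koszulScaleIso x l) (koszulScaleIso x l)
      (by rw [Linear.smul_comp, Linear.comp_smul, Category.id_comp, Category.comp_id]) ≪≫
    coneScaleIso x f (Koszul.koszul A l)

lemma isSMulRegular_of_mem_nonZeroDivisors (x : A) (hx : x ∈ nonZeroDivisors A) :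
    IsSMulRegular A x := by
  intro a b hab
  change x * a = x * b at hab
  have h : x * (a - b) = 0 := by rw [mul_sub, hab, sub_self]
  exact sub_eq_zero.mp ((mul_left_mem_nonZeroDivisors_eq_zero_iff hx).mp h)

lemma isSMulRegular_koszul_X (x : A) (hx : x ∈ nonZeroDivisors A) (l : List A) (n : ℤ) :
    IsSMulRegular ((Koszul.koszul A l).X n) x := by
  rw [Groth.Agent.Lib.KoszulTopH7.koszul_eq]
  exact Groth.Agent.Lib.KoszulRegH7.isSMulRegular_X x (ModuleCat.of A A)
    (isSMulRegular_of_mem_nonZeroDivisors x hx) l n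

set_option backward.isDefEq.respectTransparency false in
/-- cohomology of the scaled complex. -/
theorem homology_scale (x : A) (K : CochainComplex (ModuleCat.{u} A) ℤ) (q : ℤ)
    (hreg : IsSMulRegular (K.X (q + 1)) x) :
    Nonempty ((scaleCx x K).homology q ≅
      ModuleCat.of A (↥(LinearMap.ker (K.d q (q + 1)).hom) ⧸
        Submodule.comap (LinearMap.ker (K.d q (q + 1)).hom).subtype
          (Ideal.span {x} • LinearMap.range (K.d (q - 1) q).hom))) := by
  let L := scaleCx x K
  let S := L.sc' (q - 1) q (q + 1)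
  let e1 : L.homology q ≅ S.homology := L.homologyIsoSc' (q - 1) q (q + 1) (by simp) (by simp)
  let e2 : S.homology ≅ ModuleCat.of A (↥(LinearMap.ker S.g.hom) ⧸
      LinearMap.range S.moduleCatToCycles) := S.moduleCatHomologyIso
  have hker : LinearMap.ker S.g.hom = LinearMap.ker (K.d q (q + 1)).hom := by
    apply le_antisymm
    · intro w hw
      have hw' : x • (K.d q (q + 1)).hom w = 0 := hw
      exact hreg (show x • (K.d q (q + 1)).hom w = x • 0 by rw [hw', smul_zero])
    · intro w hw
      have hw' : (K.d q (q + 1)).hom w = 0 := hw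
      show x • (K.d q (q + 1)).hom w = 0
      rw [hw', smul_zero]
  have hmap : Submodule.map (LinearEquiv.ofEq _ _ hker).toLinearMap
      (LinearMap.range S.moduleCatToCycles) =
      Submodule.comap (LinearMap.ker (K.d q (q + 1)).hom).subtype
        (Ideal.span {x} • LinearMap.range (K.d (q - 1) q).hom) := by
    ext ⟨w, hw⟩
    rw [Submodule.mem_comap, Submodule.ideal_span_singleton_smul]
    constructor
    · rintro ⟨_, ⟨u, rfl⟩, h⟩
      have h' : x • (K.d (q - 1) q).hom u = w := congrArg Subtype.val h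
      show w ∈ x • LinearMap.range (K.d (q - 1) q).hom
      rw [← h']
      exact Submodule.smul_mem_pointwise_smul _ x _ (LinearMap.mem_range_self _ u)
    · intro h
      obtain ⟨y, ⟨u, rfl⟩, hy⟩ := (Submodule.mem_smul_pointwise_iff_exists _ _ _).mp h
      exact ⟨S.moduleCatToCycles u, ⟨u, rfl⟩, Subtype.ext hy⟩
  exact ⟨e1 ≪≫ e2 ≪≫ (Submodule.Quotient.equiv _ _ (LinearEquiv.ofEq _ _ hker) hmap).toModuleIso⟩

theorem main1 (l : List A) (x : A) (hx : x ∈ nonZeroDivisors A) (q : ℤ) :
    Nonempty ((Koszul.koszul A (l.map (fun f => x * f))).homology q ≅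
      ModuleCat.of A (↥(LinearMap.ker ((Koszul.koszul A l).d q (q + 1)).hom) ⧸
        Submodule.comap (LinearMap.ker ((Koszul.koszul A l).d q (q + 1)).hom).subtype
          (Ideal.span {x} • LinearMap.range ((Koszul.koszul A l).d (q - 1) q).hom))) := by
  obtain ⟨e⟩ := homology_scale x (Koszul.koszul A l) q (isSMulRegular_koszul_X x hx l (q + 1))
  exact ⟨(HomologicalComplex.homologyFunctor _ _ q).mapIso (koszulScaleIso x l) ≪≫ e⟩

lemma comap_subtype_smul {M : Type u} [AddCommGroup M] [Module A M] (I : Ideal A)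
    (Z : Submodule A M) :
    Submodule.comap Z.subtype (I • Z) = I • (⊤ : Submodule A ↥Z) := by
  apply Submodule.map_injective_of_injective Z.injective_subtype
  rw [Submodule.map_comap_subtype, Submodule.map_smul'', Submodule.map_subtype_top,
    inf_eq_right.mpr Submodule.smul_le_right]

theorem main2 (l : List A) (hl : RingTheory.Sequence.IsWeaklyRegular A l) (x : A)
    (hx : x ∈ nonZeroDivisors A) (q : ℤ) (hq : q < 0) :
    Nonempty ((Koszul.koszul A (l.map (fun f => x * f))).homology q ≅
      ModuleCat.of A (↥(LinearMap.ker ((Koszul.koszul A l).d q (q + 1)).hom) ⊗[A]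
        (A ⧸ Ideal.span {x}))) := by
  obtain ⟨e⟩ := main1 l x hx q
  have hz : IsZero ((Koszul.koszul A l).homology q) :=
    (Groth.Agent.Lib.KoszulTopH7.koszulRegular l hl).1 q (ne_of_lt hq)
  have hex : ((Koszul.koszul A l).sc' (q - 1) q (q + 1)).Exact := by
    rw [← (Koszul.koszul A l).exactAt_iff' (q - 1) q (q + 1) (by simp) (by simp),
      HomologicalComplex.exactAt_iff_isZero_homology]
    exact hz
  have hBZ : LinearMap.range ((Koszul.koszul A l).d (q - 1) q).hom =
      LinearMap.ker ((Koszul.koszul A l).d q (q + 1)).hom :=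
    (ShortComplex.moduleCat_exact_iff_range_eq_ker _).mp hex
  have h : Submodule.comap (LinearMap.ker ((Koszul.koszul A l).d q (q + 1)).hom).subtype
      (Ideal.span {x} • LinearMap.range ((Koszul.koszul A l).d (q - 1) q).hom) =
      Ideal.span {x} • (⊤ : Submodule A ↥(LinearMap.ker ((Koszul.koszul A l).d q (q + 1)).hom)) := by
    rw [hBZ]
    exact comap_subtype_smul _ _
  exact ⟨e ≪≫ ((Submodule.quotEquivOfEq _ _ h).trans
    (TensorProduct.tensorQuotEquivQuotSMul _ (Ideal.span {x})).symm).toModuleIso⟩

end Groth.Agent.Lib.KoszulScaleH7
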