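import Mathlib

set_option autoImplicit false
universe u

namespace KrasH8

open Polynomial IntermediateField

/-- Approximating a separable generator: the Krasner step. -/
theorem exists_approx (K : Type u) [Field K] (Kh : Type u) [NontriviallyNormedField Kh]
    [CompleteSpace Kh] [IsUltrametricDist Kh] [Algebra K Kh]
    (hd : DenseRange (algebraMap K Kh)) (F : Type u) [Field F] [Algebra Kh F]
    [Algebra.IsAlgebraic Kh F] [IsAlgClosed F] (a : F) (hsep : IsSeparable Kh a) :
    ∃ (g : K[X]) (b : F), g.Monic ∧ g.natDegree = (minpoly Kh a).natDegree ∧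
      aeval b (g.map (algebraMap K Kh)) = 0 ∧ a ∈ Kh⟮b⟯ := by
  classical
  letI : NontriviallyNormedField F := spectralNorm.nontriviallyNormedField Kh F
  letI : NormedAlgebra Kh F := spectralNorm.normedAlgebra Kh F
  have haint : IsIntegral Kh a := hsep.isIntegral
  obtain ⟨f, hf⟩ : ∃ f, f = minpoly Kh a := ⟨_, rfl⟩
  have fmon : f.Monic := hf ▸ minpoly.monic haint
  have fa0 : aeval a f = 0 := hf ▸ minpoly.aeval Kh a
  have fnatdeg0 : f.natDegree ≠ 0 := by
    rw [hf]; exact (minpoly.natDegree_pos haint).ne'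
  let S : Finset F := {x ∈ (f.rootSet F).toFinset | x ≠ a}
  let δ : ℝ := if hS : S.Nonempty then Finset.min' (S.image fun x => ‖a - x‖)
      (Finset.image_nonempty.mpr hS) else 1
  have norm_sub_le : ∀ a' : F, IsConjRoot Kh a a' → a ≠ a' → δ ≤ ‖a - a'‖ := by
    intro a' conj ne
    by_cases hS : S.Nonempty <;> simp only [hS, ↓reduceDIte, δ]
    · apply Finset.min'_le (S.image fun x => ‖a - x‖) (‖a - a'‖)
      apply Finset.mem_image_of_mem
      simp only [hf, Finset.mem_filter, Set.mem_toFinset, S]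
      rw [← (isConjRoot_iff_mem_minpoly_rootSet haint)]
      exact ⟨conj, ne.symm⟩
    · simp only [ne_eq, Finset.not_nonempty_iff_eq_empty, Finset.filter_eq_empty_iff,
        Set.mem_toFinset, not_not, S] at hS
      rw [isConjRoot_iff_mem_minpoly_rootSet haint, ← hf] at conj
      exact (ne (hS conj).symm).elim
  have δpos : δ > 0 := by
    by_cases hS : S.Nonempty <;> simp only [hS, ↓reduceDIte, δ]
    · simp only [gt_iff_lt, Finset.lt_min'_iff, Finset.mem_image, forall_exists_index, and_imp,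
        forall_apply_eq_imp_iff₂]
      rintro a' ha'
      simp only [Finset.mem_filter, Set.mem_toFinset, S] at ha'
      rw [norm_pos_iff, sub_ne_zero]
      exact ha'.2.symm
    · linarith
  have hε : (δ / (max ‖a‖ 1)) ^ f.natDegree / (f.natDegree + 1) > 0 := by positivity
  obtain ⟨g, gmon, gdeg, gcoeff⟩ :=
    exists_monic_and_natDegree_eq_and_norm_map_algebraMap_coeff_sub_lt hd fmon hε
  obtain ⟨b, hb, hab⟩ := exists_aroots_norm_sub_lt_of_norm_coeff_sub_lt
      hε fa0 fmon (gmon.map _) (gdeg ▸ (g.natDegree_map _)) gcoeff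
      (IsAlgClosed.splits _)
  have hab : ‖a - b‖ < δ := by
    rw [← Real.rpow_natCast, ← mul_comm_div, div_self, one_mul,
        ← Real.rpow_mul (div_pos δpos (by positivity)).le, mul_inv_cancel₀] at hab
    · simpa [mul_assoc, div_mul_cancel₀ _ (by positivity : (max ‖a‖ 1) > 0).ne'] using hab
    · simp [fnatdeg0]
    · positivity
  simp only [Polynomial.mem_roots', ne_eq, Polynomial.IsRoot.def,
    Polynomial.eval_map_algebraMap] at hb
  refine ⟨g, b, gmon, by rw [← hf]; exact gdeg.symm, hb.2, ?_⟩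
  have masp : ((minpoly Kh a).map (algebraMap Kh F)).Splits := IsAlgClosed.splits _
  exact IsKrasner.krasner hsep masp ⟨(g.map _), gmon.map _, hb.2⟩
    fun a' h1 h2 ↦ lt_of_lt_of_le hab (norm_sub_le a' h1 h2)

end KrasH8

namespace KrasH8

open Polynomial IntermediateField TensorProduct

theorem exists_descent (K : Type u) [Field K] (Kh : Type u) [NontriviallyNormedField Kh]
    [CompleteSpace Kh] [IsUltrametricDist Kh] [Algebra K Kh]
    (hd : DenseRange (algebraMap K Kh)) (M : Type u) [Field M] [Algebra Kh M]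
    [FiniteDimensional Kh M] [Algebra.IsSeparable Kh M] :
    ∃ (L : Type u) (_ : Field L) (_ : Algebra K L), FiniteDimensional K L ∧
      Algebra.IsSeparable K L ∧ Nonempty ((Kh ⊗[K] L) ≃ₐ[Kh] M) := by
  obtain ⟨α, hα⟩ := Field.exists_primitive_element Kh M
  let F := AlgebraicClosure M
  haveI : Algebra.IsAlgebraic Kh F := Algebra.IsAlgebraic.trans Kh M F
  letI : Algebra K F := ((algebraMap Kh F).comp (algebraMap K Kh)).toAlgebra
  haveI : IsScalarTower K Kh F := IsScalarTower.of_algebraMap_eq (fun _ => rfl)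
  let j : M →ₐ[Kh] F := IsScalarTower.toAlgHom Kh M F
  have hαint : IsIntegral Kh α := Algebra.IsIntegral.isIntegral α
  have hmin : minpoly Kh (j α) = minpoly Kh α := minpoly.algHom_eq j j.injective α
  have hsep : IsSeparable Kh (j α) := by
    unfold IsSeparable
    rw [hmin]
    exact Algebra.IsSeparable.isSeparable Kh α
  obtain ⟨g, b, gmon, gdeg, hgb, hab⟩ := exists_approx K Kh hd F (j α) hsep
  have hbint : IsIntegral Kh b := ⟨g.map _, gmon.map _, hgb⟩
  have hdvd : minpoly Kh b ∣ g.map (algebraMap K Kh) := minpoly.dvd Kh b hgb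
  have hle : Kh⟮j α⟯ ≤ Kh⟮b⟯ := adjoin_simple_le_iff.mpr hab
  haveI := adjoin.finiteDimensional hbint
  have h1 : Module.finrank Kh Kh⟮j α⟯ ≤ Module.finrank Kh Kh⟮b⟯ := finrank_le_of_le_right hle
  rw [adjoin.finrank hbint, adjoin.finrank hsep.isIntegral] at h1
  have h2 : (minpoly Kh b).natDegree ≤ (g.map (algebraMap K Kh)).natDegree :=
    natDegree_le_of_dvd hdvd (gmon.map _).ne_zero
  rw [natDegree_map, gdeg] at h2
  have hdeg_eq : (minpoly Kh b).natDegree = (minpoly Kh (j α)).natDegree := le_antisymm h2 h1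
  have hminb : minpoly Kh b = g.map (algebraMap K Kh) :=
    (Polynomial.eq_of_monic_of_dvd_of_natDegree_le (minpoly.monic hbint) (gmon.map _) hdvd
      (by rw [natDegree_map, gdeg, hdeg_eq])).symm
  have heq : Kh⟮j α⟯ = Kh⟮b⟯ := eq_of_le_of_finrank_eq hle
    (by rw [adjoin.finrank hbint, adjoin.finrank hsep.isIntegral, hdeg_eq])
  have girr : Irreducible g :=
    gmon.irreducible_of_irreducible_map (algebraMap K Kh) g (hminb ▸ minpoly.irreducible hbint)
  have hbsep : IsSeparable Kh b := by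
    haveI : Algebra.IsSeparable Kh Kh⟮j α⟯ :=
      (isSeparable_adjoin_simple_iff_isSeparable Kh F).mpr hsep
    exact isSeparable_of_mem_isSeparable Kh F (heq ▸ mem_adjoin_simple_self Kh b)
  have gsep : g.Separable := by
    have h3 : (g.map (algebraMap K Kh)).Separable := hminb ▸ hbsep
    exact (Polynomial.separable_map (algebraMap K Kh)).mp h3
  haveI : Fact (Irreducible g) := ⟨girr⟩
  haveI hfin : Module.Finite K (AdjoinRoot g) := gmon.finite_adjoinRoot
  refine ⟨AdjoinRoot g, inferInstance, inferInstance, hfin, ?_, ?_⟩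
  · have hroot_min : minpoly K (AdjoinRoot.root g) = g := by
      rw [AdjoinRoot.minpoly_root girr.ne_zero, gmon.leadingCoeff, inv_one, map_one, mul_one]
    have hrsep : IsSeparable K (AdjoinRoot.root g) := by
      unfold IsSeparable
      rw [hroot_min]
      exact gsep
    haveI := (isSeparable_adjoin_simple_iff_isSeparable K (AdjoinRoot g)).mpr hrsep
    have htop : K⟮AdjoinRoot.root g⟯ = ⊤ := by
      apply toSubalgebra_injective
      rw [adjoin_simple_toSubalgebra_of_isAlgebraic hrsep.isIntegral.isAlgebraic, AdjoinRoot.adjoinRoot_eq_top,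
        top_toSubalgebra]
    constructor
    intro x
    exact isSeparable_of_mem_isSeparable K _ (htop ▸ mem_top : x ∈ K⟮AdjoinRoot.root g⟯)
  · let bb : Kh⟮b⟯ := AdjoinSimple.gen Kh b
    have hbb : Polynomial.eval₂ (Algebra.ofId K Kh⟮b⟯ : K →+* Kh⟮b⟯) bb g = 0 := by
      apply (algebraMap Kh⟮b⟯ F).injective
      rw [map_zero, Polynomial.hom_eval₂]
      have h4 : aeval b (g.map (algebraMap K Kh)) = Polynomial.eval₂ (algebraMap K F) b g := by
        rw [aeval_def, Polynomial.eval₂_map]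
        rfl
      rw [← hgb, h4]
      rfl
    let φ : AdjoinRoot g →ₐ[K] Kh⟮b⟯ := AdjoinRoot.liftAlgHom g (Algebra.ofId K Kh⟮b⟯) bb hbb
    let ψ : Kh ⊗[K] AdjoinRoot g →ₐ[Kh] Kh⟮b⟯ :=
      Algebra.TensorProduct.lift (Algebra.ofId Kh Kh⟮b⟯) φ (fun _ _ => Commute.all _ _)
    have hsurj : Function.Surjective ψ := by
      rw [← AlgHom.range_eq_top, eq_top_iff, ← (adjoin.powerBasis hbint).adjoin_gen_eq_top]
      apply Algebra.adjoin_le
      rintro _ rfl
      refine ⟨1 ⊗ₜ AdjoinRoot.root g, ?_⟩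
      simp [ψ, φ, bb]
    have hfr : Module.finrank Kh (Kh ⊗[K] AdjoinRoot g) = Module.finrank Kh Kh⟮b⟯ := by
      rw [Module.finrank_baseChange, adjoin.finrank hbint, hminb, natDegree_map,
        (AdjoinRoot.powerBasis' gmon).finrank, AdjoinRoot.powerBasis'_dim]
    have hinj : Function.Injective ψ :=
      (LinearMap.injective_iff_surjective_of_finrank_eq_finrank (f := ψ.toLinearMap) hfr).mpr hsurj
    let e1 : Kh ⊗[K] AdjoinRoot g ≃ₐ[Kh] Kh⟮b⟯ := AlgEquiv.ofBijective ψ ⟨hinj, hsurj⟩
    let e2 : Kh⟮b⟯ ≃ₐ[Kh] Kh⟮j α⟯ := equivOfEq heq.symm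
    have hrange : j.fieldRange = Kh⟮j α⟯ := by
      rw [AlgHom.fieldRange_eq_map, ← hα, adjoin_map, Set.image_singleton]
    let e3 : M ≃ₐ[Kh] Kh⟮j α⟯ := j.equivFieldRange.trans (equivOfEq hrange)
    exact ⟨e1.trans (e2.trans e3.symm)⟩

end KrasH8
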