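import Mathlib
import Groth.Agent.S0549
import Groth.Agent.Lib.CVal4_helper8
import Groth.Agent.Lib.Kras2_helper8

set_option autoImplicit false
universe u

namespace KrasH8

open IsLocalRing

section dvr

variable (A : Type u) [CommRing A] [IsDomain A] [IsDiscreteValuationRing A]

theorem exists_approx_adic (π : A) (hπ : maximalIdeal A = Ideal.span {π})
    (x : AdicCompletion (maximalIdeal A) A) (n : ℕ) :
    ∃ a : A, ∃ y : AdicCompletion (maximalIdeal A) A,
      x - algebraMap A (AdicCompletion (maximalIdeal A) A) a =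
        (algebraMap A (AdicCompletion (maximalIdeal A) A) π) ^ n * y := by
  obtain ⟨a, ha⟩ := Submodule.mkQ_surjective _ (x.val n)
  have h1 : x - AdicCompletion.of (maximalIdeal A) A a ∈
      LinearMap.ker (AdicCompletion.eval (maximalIdeal A) A n) := by
    rw [LinearMap.mem_ker, map_sub, AdicCompletion.eval_of, AdicCompletion.eval_apply, ha,
      sub_self]
  have hpow : maximalIdeal A ^ n = Ideal.span {π ^ n} := by rw [hπ, Ideal.span_singleton_pow]
  rw [← AdicCompletion.pow_smul_top_eq_ker_eval (maximalIdeal A).fg_of_isNoetherianRing, hpow,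
    Submodule.ideal_span_singleton_smul,
    Submodule.mem_smul_pointwise_iff_exists] at h1
  obtain ⟨y, -, hy⟩ := h1
  refine ⟨a, y, ?_⟩
  rw [← map_pow, ← Algebra.smul_def, hy]
  rfl

variable (K : Type u) [Field K] [Algebra A K] [IsFractionRing A K]
  (Kh : Type u) [Field Kh] [Algebra (AdicCompletion (maximalIdeal A) A) Kh]
  [IsFractionRing (AdicCompletion (maximalIdeal A) A) Kh] [Algebra A Kh] [Algebra K Kh]
  [IsScalarTower A (AdicCompletion (maximalIdeal A) A) Kh] [IsScalarTower A K Kh]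
  [IsDomain (AdicCompletion (maximalIdeal A) A)]
  [IsDiscreteValuationRing (AdicCompletion (maximalIdeal A) A)]

theorem denseRange (π : A) (hπ : maximalIdeal A = Ideal.span {π})
    (hϖ0 : algebraMap A (AdicCompletion (maximalIdeal A) A) π ≠ 0)
    (hϖu : ¬ IsUnit (algebraMap A (AdicCompletion (maximalIdeal A) A) π)) :
    letI := CValH8.nnf (AdicCompletion (maximalIdeal A) A) Kh
      (algebraMap A (AdicCompletion (maximalIdeal A) A) π) hϖ0 hϖu
    DenseRange (algebraMap K Kh) := by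
  letI := CValH8.nnf (AdicCompletion (maximalIdeal A) A) Kh
      (algebraMap A (AdicCompletion (maximalIdeal A) A) π) hϖ0 hϖu
  haveI := CValH8.nnf_isUltrametricDist (AdicCompletion (maximalIdeal A) A) Kh
      (algebraMap A (AdicCompletion (maximalIdeal A) A) π) hϖ0 hϖu
  have hle := CValH8.nnf_norm_le_one_iff (AdicCompletion (maximalIdeal A) A) Kh
      (algebraMap A (AdicCompletion (maximalIdeal A) A) π) hϖ0 hϖu
  have hlt := CValH8.nnf_norm_lt_one_iff (AdicCompletion (maximalIdeal A) A) Kh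
      (algebraMap A (AdicCompletion (maximalIdeal A) A) π) hϖ0 hϖu
  rw [Metric.denseRange_iff]
  intro y ε hε
  obtain ⟨ϖ, hϖ⟩ : ∃ ϖ : Kh, ϖ = algebraMap (AdicCompletion (maximalIdeal A) A) Kh
      (algebraMap A (AdicCompletion (maximalIdeal A) A) π) := ⟨_, rfl⟩
  obtain ⟨r, hr⟩ : ∃ r : ℝ, r = ‖ϖ‖ := ⟨_, rfl⟩
  have hr1 : r < 1 := by rw [hr, hϖ]; exact (hlt _).mpr hϖu
  have hϖne : ϖ ≠ 0 := by
    rw [hϖ]
    intro h
    exact hϖ0 (IsFractionRing.injective (AdicCompletion (maximalIdeal A) A) Kh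
      (h.trans (map_zero _).symm))
  have hr0 : 0 < r := by rw [hr]; exact norm_pos_iff.mpr hϖne
  obtain ⟨k, hk⟩ : ∃ k : ℕ, ‖y‖ * r ^ k ≤ 1 := by
    rcases eq_or_ne y 0 with rfl | hy
    · exact ⟨0, by simp⟩
    · have hy0 : 0 < ‖y‖ := norm_pos_iff.mpr hy
      obtain ⟨k, hk⟩ := exists_pow_lt_of_lt_one (inv_pos.mpr hy0) hr1
      refine ⟨k, ?_⟩
      calc ‖y‖ * r ^ k ≤ ‖y‖ * ‖y‖⁻¹ := by gcongr
        _ = 1 := mul_inv_cancel₀ hy0.ne'
  obtain ⟨x, hx⟩ := (hle (y * ϖ ^ k)).mp (by rw [norm_mul, norm_pow, ← hr]; exact hk)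
  obtain ⟨n, hn⟩ := exists_pow_lt_of_lt_one (mul_pos hε (pow_pos hr0 k)) hr1
  obtain ⟨a, z, haz⟩ := exists_approx_adic A π hπ x n
  refine ⟨algebraMap A K a / (algebraMap A K π) ^ k, ?_⟩
  rw [dist_eq_norm]
  have e1 : algebraMap K Kh (algebraMap A K a / algebraMap A K π ^ k) =
      algebraMap (AdicCompletion (maximalIdeal A) A) Kh
        (algebraMap A (AdicCompletion (maximalIdeal A) A) a) / ϖ ^ k := by
    rw [map_div₀, map_pow, ← IsScalarTower.algebraMap_apply A K Kh,
      ← IsScalarTower.algebraMap_apply A K Kh,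
      IsScalarTower.algebraMap_apply A (AdicCompletion (maximalIdeal A) A) Kh a,
      IsScalarTower.algebraMap_apply A (AdicCompletion (maximalIdeal A) A) Kh π, hϖ]
  have e2 : y = algebraMap (AdicCompletion (maximalIdeal A) A) Kh x / ϖ ^ k := by
    rw [hx, mul_div_cancel_right₀ _ (pow_ne_zero k hϖne)]
  have hz : ‖algebraMap (AdicCompletion (maximalIdeal A) A) Kh z‖ ≤ 1 := (hle _).mpr ⟨z, rfl⟩
  rw [e1, e2, ← sub_div, ← map_sub, haz, norm_div, map_mul, map_pow, norm_mul, norm_pow, norm_pow,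
    ← hϖ, ← hr, div_lt_iff₀ (pow_pos hr0 k)]
  calc r ^ n * ‖algebraMap (AdicCompletion (maximalIdeal A) A) Kh z‖ ≤ r ^ n * 1 := by gcongr
    _ = r ^ n := mul_one _
    _ < ε * r ^ k := hn

end dvr

open TensorProduct in
theorem main (A K : Type u) [CommRing A] [IsDomain A]
    [IsDiscreteValuationRing A] [Field K] [Algebra A K] [IsFractionRing A K]
    (Kh : Type u) [Field Kh] [Algebra (AdicCompletion (IsLocalRing.maximalIdeal A) A) Kh]
    [IsFractionRing (AdicCompletion (IsLocalRing.maximalIdeal A) A) Kh] [Algebra A Kh] [Algebra K Kh]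
    [IsScalarTower A (AdicCompletion (IsLocalRing.maximalIdeal A) A) Kh] [IsScalarTower A K Kh]
    (M : Type u) [Field M] [Algebra Kh M] [FiniteDimensional Kh M] [Algebra.IsSeparable Kh M] :
    ∃ (L : Type u) (_ : Field L) (_ : Algebra K L), FiniteDimensional K L ∧ Algebra.IsSeparable K L ∧
      Nonempty ((Kh ⊗[K] L) ≃ₐ[Kh] M) := by
  obtain ⟨hdom, hdvr⟩ := (Groth.Agent.S0549.result A).mp ⟨inferInstance, inferInstance⟩
  obtain ⟨π, hπirr⟩ := IsDiscreteValuationRing.exists_irreducible A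
  have hπ : maximalIdeal A = Ideal.span {π} := hπirr.maximalIdeal_eq
  have hmax : maximalIdeal (AdicCompletion (maximalIdeal A) A) =
      Ideal.span {algebraMap A (AdicCompletion (maximalIdeal A) A) π} := by
    rw [AdicCompletion.maximalIdeal_eq_map, hπ, Ideal.map_span, Set.image_singleton]
  have hϖu : ¬ IsUnit (algebraMap A (AdicCompletion (maximalIdeal A) A) π) := by
    rw [← mem_nonunits_iff, ← mem_maximalIdeal, hmax]
    exact Ideal.mem_span_singleton_self _
  have hϖ0 : algebraMap A (AdicCompletion (maximalIdeal A) A) π ≠ 0 := by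
    intro h0
    rw [h0, Ideal.span_singleton_eq_bot.mpr rfl] at hmax
    exact IsDiscreteValuationRing.not_isField (AdicCompletion (maximalIdeal A) A)
      (IsLocalRing.isField_iff_maximalIdeal_eq.mpr hmax)
  haveI : IsAdicComplete (Ideal.span {algebraMap A (AdicCompletion (maximalIdeal A) A) π})
      (AdicCompletion (maximalIdeal A) A) := hmax ▸ inferInstance
  letI := CValH8.nnf (AdicCompletion (maximalIdeal A) A) Kh
      (algebraMap A (AdicCompletion (maximalIdeal A) A) π) hϖ0 hϖu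
  haveI := CValH8.nnf_isUltrametricDist (AdicCompletion (maximalIdeal A) A) Kh
      (algebraMap A (AdicCompletion (maximalIdeal A) A) π) hϖ0 hϖu
  haveI := CValH8.nnf_completeSpace (AdicCompletion (maximalIdeal A) A) Kh
      (algebraMap A (AdicCompletion (maximalIdeal A) A) π) hϖ0 hϖu
  exact exists_descent K Kh (denseRange A K Kh π hπ hϖ0 hϖu) M

end KrasH8
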