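import Groth.Agent.Lib.KronMod_helper6

/-!
# Kronecker modules: semistability for dimension vectors `(d, nd)` and `(nd, d)` (helper6)
-/

set_option autoImplicit false
universe u v w
open KronMod

namespace Groth.Agent.Lib.KronMod_helper6

variable {K : Type u} [Field K] {V : Type v} {W : Type w}
  [AddCommGroup V] [Module K V] [AddCommGroup W] [Module K W] {n : ℕ}
  [FiniteDimensional K V] [FiniteDimensional K W]

theorem top_ne_bot_of_finrank_pos {U : Type*} [AddCommGroup U] [Module K U]
    (h : 0 < Module.finrank K U) : (⊤ : Submodule K U) ≠ ⊥ := by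
  intro e
  have : Module.finrank K (⊤ : Submodule K U) = 0 := by rw [e]; exact finrank_bot K U
  rw [finrank_top] at this
  omega

/-- S15560 -/
theorem not_isSemistable_of_dim_out_of_range (f : Fin n → (V →ₗ[K] W))
    (hV : 0 < Module.finrank K V) (hW : 0 < Module.finrank K W)
    (h : n * Module.finrank K V < Module.finrank K W ∨ n * Module.finrank K W < Module.finrank K V) :
    ¬ IsSemistable f := by
  rintro ⟨-, hs⟩
  rcases h with h | h
  · -- `(⊤, range sumMap)`
    have h1 := hs ⊤ (LinearMap.range (sumMap f)) (isSubrep_top_range_sumMap f)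
      (fun e => top_ne_bot_of_finrank_pos hV e.1)
      (fun e => by
        have := finrank_range_sumMap_le f
        rw [e.2, finrank_top] at this
        omega)
    rw [finrank_top] at h1
    have h2 := finrank_range_sumMap_le f
    have h3 : Module.finrank K W ≤ Module.finrank K (LinearMap.range (sumMap f)) := by
      rw [mul_comm] at h1
      exact Nat.le_of_mul_le_mul_left h1 hV
    omega
  · -- `(ker prodMap, ⊥)`
    have hker : 0 < Module.finrank K (LinearMap.ker (prodMap f)) := by
      have h1 := LinearMap.finrank_range_add_finrank_ker (prodMap f)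
      have h2 := (LinearMap.range (prodMap f)).finrank_le
      rw [finrank_pi_fin] at h2
      omega
    have h1 := hs (LinearMap.ker (prodMap f)) ⊥ (isSubrep_ker_prodMap_bot f)
      (fun e => by rw [e.1, finrank_bot] at hker; omega)
      (fun e => top_ne_bot_of_finrank_pos hW e.2.symm)
    rw [finrank_bot, mul_zero] at h1
    have : Module.finrank K W * Module.finrank K (LinearMap.ker (prodMap f)) > 0 :=
      Nat.mul_pos hW hker
    omega

/-- S15561 -/
theorem isSemistable_iff_bijective_sumMap (f : Fin n → (V →ₗ[K] W))
    (hV : 0 < Module.finrank K V) (hW : Module.finrank K W = n * Module.finrank K V) :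
    IsSemistable f ↔ Function.Bijective (sumMap f) := by
  have hdim : Module.finrank K (Fin n → V) = Module.finrank K W := by rw [finrank_pi_fin, hW]
  constructor
  · rintro ⟨-, hs⟩
    have hsurj : LinearMap.range (sumMap f) = ⊤ := by
      by_contra hne
      have h1 := hs ⊤ (LinearMap.range (sumMap f)) (isSubrep_top_range_sumMap f)
        (fun e => top_ne_bot_of_finrank_pos hV e.1) (fun e => hne e.2)
      rw [finrank_top] at h1
      have h3 : Module.finrank K W ≤ Module.finrank K (LinearMap.range (sumMap f)) := by
        rw [mul_comm] at h1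
        exact Nat.le_of_mul_le_mul_left h1 hV
      exact hne (Submodule.eq_top_of_finrank_eq
        (le_antisymm (Submodule.finrank_le _) h3))
    have hs' : Function.Surjective (sumMap f) := LinearMap.range_eq_top.1 hsurj
    exact ⟨(LinearMap.injective_iff_surjective_of_finrank_eq_finrank hdim).2 hs', hs'⟩
  · intro hb
    refine ⟨by omega, ?_⟩
    intro V' W' hsub _ _
    have := mul_finrank_le_of_sumMap_injective f hb.1 hsub
    rw [hW]
    calc n * Module.finrank K V * Module.finrank K V'
        = Module.finrank K V * (n * Module.finrank K V') := by ring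
      _ ≤ Module.finrank K V * Module.finrank K W' := Nat.mul_le_mul_left _ this

/-- S15572 -/
theorem isSemistable_iff_bijective_prodMap (f : Fin n → (V →ₗ[K] W))
    (hW : 0 < Module.finrank K W) (hV : Module.finrank K V = n * Module.finrank K W) :
    IsSemistable f ↔ Function.Bijective (prodMap f) := by
  have hdim : Module.finrank K V = Module.finrank K (Fin n → W) := by rw [finrank_pi_fin, hV]
  constructor
  · rintro ⟨-, hs⟩
    have hinj : LinearMap.ker (prodMap f) = ⊥ := by
      by_contra hne
      have h1 := hs (LinearMap.ker (prodMap f)) ⊥ (isSubrep_ker_prodMap_bot f)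
        (fun e => hne e.1) (fun e => top_ne_bot_of_finrank_pos hW e.2.symm)
      rw [finrank_bot, mul_zero] at h1
      have h0 : Module.finrank K (LinearMap.ker (prodMap f)) = 0 := by
        rcases Nat.eq_zero_or_pos (Module.finrank K (LinearMap.ker (prodMap f))) with h | h
        · exact h
        · have := Nat.mul_pos hW h; omega
      exact hne (Submodule.finrank_eq_zero.1 h0)
    have hi' : Function.Injective (prodMap f) := LinearMap.ker_eq_bot.1 hinj
    exact ⟨hi', (LinearMap.injective_iff_surjective_of_finrank_eq_finrank hdim).1 hi'⟩
  · intro hb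
    refine ⟨by omega, ?_⟩
    intro V' W' hsub _ _
    have := finrank_le_mul_of_prodMap_injective f hb.1 hsub
    rw [hV]
    calc Module.finrank K W * Module.finrank K V'
        ≤ Module.finrank K W * (n * Module.finrank K W') := Nat.mul_le_mul_left _ this
      _ = n * Module.finrank K W * Module.finrank K W' := by ring

/-- S15571 -/
theorem isSemistable_of_bijective_combination (f : Fin n → (V →ₗ[K] W)) (k : ℕ) (hk : 1 ≤ k)
    (hV : Module.finrank K V = k) (hW : Module.finrank K W = k)
    (z : Fin n → K) (hz : Function.Bijective ((∑ j, z j • f j : V →ₗ[K] W) : V → W)) :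
    IsSemistable f := by
  refine ⟨by omega, ?_⟩
  intro V' W' hsub _ _
  let g : V →ₗ[K] W := ∑ j, z j • f j
  have hg : ∀ v ∈ V', g v ∈ W' := by
    intro v hv
    have : g v = ∑ j, z j • f j v := by simp [g]
    rw [this]
    exact Submodule.sum_mem _ (fun j _ => Submodule.smul_mem _ _ (hsub j ⟨v, hv, rfl⟩))
  let T : V' →ₗ[K] W' := g.restrict hg
  have hT : Function.Injective T := by
    intro a b hab
    apply Subtype.ext
    apply hz.1
    exact congrArg Subtype.val hab
  have := LinearMap.finrank_le_finrank_of_injective hT
  rw [hV, hW]
  exact Nat.mul_le_mul_left _ this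

end Groth.Agent.Lib.KronMod_helper6
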