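import Groth.Agent.Lib.KronMod2_helper6

/-!
# Kronecker modules: existence/uniqueness and stability for `(d, nd)` and `(nd, d)` (helper6)
-/

set_option autoImplicit false
universe u v w
open KronMod

namespace Groth.Agent.Lib.KronMod_helper6

variable {K : Type u} [Field K] {V : Type v} {W : Type w}
  [AddCommGroup V] [Module K V] [AddCommGroup W] [Module K W] {n : ℕ}
  [FiniteDimensional K V] [FiniteDimensional K W]

theorem isSemistable_of_isStable {f : Fin n → (V →ₗ[K] W)} (h : IsStable f) : IsSemistable f :=
  ⟨h.1, fun V' W' hs h1 h2 => le_of_lt (h.2 V' W' hs h1 h2)⟩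

/-- S15562 -/
theorem exists_isSemistable_and_areIso_sum
    (hV : 0 < Module.finrank K V) (hW : Module.finrank K W = n * Module.finrank K V) :
    (∃ f : Fin n → (V →ₗ[K] W), IsSemistable f) ∧
    ∀ f f' : Fin n → (V →ₗ[K] W), IsSemistable f → IsSemistable f' → AreIso f f' := by
  classical
  constructor
  · have hdim : Module.finrank K (Fin n → V) = Module.finrank K W := by rw [finrank_pi_fin, hW]
    let e : (Fin n → V) ≃ₗ[K] W := LinearEquiv.ofFinrankEq _ _ hdim
    let f : Fin n → (V →ₗ[K] W) := fun j => e.toLinearMap.comp (LinearMap.single K (fun _ => V) j)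
    refine ⟨f, (isSemistable_iff_bijective_sumMap f hV hW).2 ?_⟩
    have : ⇑(sumMap f) = ⇑e := by
      funext v
      rw [sumMap_apply]
      have h1 : ∀ j, f j (v j) = e (Pi.single j (v j)) := fun j => rfl
      simp only [h1]
      rw [← map_sum, Finset.univ_sum_single]
    rw [this]
    exact e.bijective
  · intro f f' hf hf'
    have hb := (isSemistable_iff_bijective_sumMap f hV hW).1 hf
    have hb' := (isSemistable_iff_bijective_sumMap f' hV hW).1 hf'
    let S := LinearEquiv.ofBijective (sumMap f) hb
    let S' := LinearEquiv.ofBijective (sumMap f') hb'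
    refine ⟨LinearEquiv.refl K V, S.symm.trans S', ?_⟩
    intro j
    apply LinearMap.ext
    intro v
    have h1 : f j v = S (Pi.single j v) := (sumMap_single f j v).symm
    have h2 : f' j v = S' (Pi.single j v) := (sumMap_single f' j v).symm
    show S' (S.symm (f j v)) = f' j v
    rw [h1, LinearEquiv.symm_apply_apply, h2]

/-- S15569 -/
theorem exists_isSemistable_and_areIso_prod
    (hW : 0 < Module.finrank K W) (hV : Module.finrank K V = n * Module.finrank K W) :
    (∃ f : Fin n → (V →ₗ[K] W), IsSemistable f) ∧
    ∀ f f' : Fin n → (V →ₗ[K] W), IsSemistable f → IsSemistable f' → AreIso f f' := by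
  classical
  constructor
  · have hdim : Module.finrank K V = Module.finrank K (Fin n → W) := by rw [finrank_pi_fin, hV]
    let e : V ≃ₗ[K] (Fin n → W) := LinearEquiv.ofFinrankEq _ _ hdim
    let f : Fin n → (V →ₗ[K] W) := fun j => (LinearMap.proj j).comp e.toLinearMap
    refine ⟨f, (isSemistable_iff_bijective_prodMap f hW hV).2 ?_⟩
    have : ⇑(prodMap f) = ⇑e := by
      funext v
      funext j
      rfl
    rw [this]
    exact e.bijective
  · intro f f' hf hf'
    have hb := (isSemistable_iff_bijective_prodMap f hW hV).1 hf
    have hb' := (isSemistable_iff_bijective_prodMap f' hW hV).1 hf'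
    let P := LinearEquiv.ofBijective (prodMap f) hb
    let P' := LinearEquiv.ofBijective (prodMap f') hb'
    refine ⟨P.trans P'.symm, LinearEquiv.refl K W, ?_⟩
    intro j
    apply LinearMap.ext
    intro v
    show f j v = f' j (P'.symm (P v))
    have h1 : f' j (P'.symm (P v)) = (P' (P'.symm (P v))) j := rfl
    rw [h1, LinearEquiv.apply_symm_apply]
    rfl

theorem eq_bot_or_eq_top_of_finrank_eq_one {U : Type*} [AddCommGroup U] [Module K U]
    [FiniteDimensional K U] (h : Module.finrank K U = 1) (U' : Submodule K U) :
    U' = ⊥ ∨ U' = ⊤ := by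
  have h1 := U'.finrank_le
  rw [h] at h1
  rcases Nat.eq_zero_or_pos (Module.finrank K U') with h0 | h0
  · left; exact Submodule.finrank_eq_zero.1 h0
  · right
    apply Submodule.eq_top_of_finrank_eq
    omega

/-- S15563 -/
theorem isStable_iff_sum (f : Fin n → (V →ₗ[K] W))
    (hV : 0 < Module.finrank K V) (hW : Module.finrank K W = n * Module.finrank K V) :
    IsStable f ↔ (IsSemistable f ∧ Module.finrank K V = 1) := by
  classical
  constructor
  · intro hst
    have hss := isSemistable_of_isStable hst
    refine ⟨hss, ?_⟩
    by_contra hne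
    have h2 : 2 ≤ Module.finrank K V := by omega
    have hb := (isSemistable_iff_bijective_sumMap f hV hW).1 hss
    obtain ⟨v, hv⟩ : ∃ v : V, v ≠ 0 := by
      have : Nontrivial V := Module.nontrivial_of_finrank_pos hV
      exact exists_ne 0
    let V' : Submodule K V := K ∙ v
    have hV'1 : Module.finrank K V' = 1 := finrank_span_singleton hv
    let ι : (Fin n → V') →ₗ[K] (Fin n → V) := LinearMap.pi (fun j => V'.subtype.comp (LinearMap.proj j))
    let W' : Submodule K W := LinearMap.range ((sumMap f).comp ι)
    have hW'le : Module.finrank K W' ≤ n := by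
      have := LinearMap.finrank_range_le ((sumMap f).comp ι)
      rw [finrank_pi_fin, hV'1, mul_one] at this
      exact this
    have hsub : IsSubrep f V' W' := by
      intro j
      rintro w ⟨x, hx, rfl⟩
      refine ⟨Pi.single j ⟨x, hx⟩, ?_⟩
      show sumMap f (ι (Pi.single j ⟨x, hx⟩)) = f j x
      have : ι (Pi.single j (⟨x, hx⟩ : V')) = Pi.single j x := by
        funext i
        by_cases hij : i = j
        · subst hij; simp [ι]
        · simp [ι, Pi.single_eq_of_ne hij]
      rw [this, sumMap_single]
    have h3 := hst.2 V' W' hsub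
      (fun e => by rw [e.1, finrank_bot] at hV'1; omega)
      (fun e => by rw [e.1, finrank_top] at hV'1; omega)
    rw [hV'1, hW, mul_one] at h3
    have : Module.finrank K V * Module.finrank K W' ≤ Module.finrank K V * n :=
      Nat.mul_le_mul_left _ hW'le
    rw [mul_comm n] at h3
    omega
  · rintro ⟨hss, h1⟩
    have hb := (isSemistable_iff_bijective_sumMap f hV hW).1 hss
    refine ⟨hss.1, ?_⟩
    intro V' W' hsub hnb hnt
    rcases eq_bot_or_eq_top_of_finrank_eq_one h1 V' with hV' | hV'
    · have hW' : W' ≠ ⊥ := fun e => hnb ⟨hV', e⟩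
      have : 0 < Module.finrank K W' := by
        rcases Nat.eq_zero_or_pos (Module.finrank K W') with h0 | h0
        · exact absurd (Submodule.finrank_eq_zero.1 h0) hW'
        · exact h0
      rw [hV', finrank_bot, mul_zero, h1, one_mul]
      exact this
    · exfalso
      apply hnt
      refine ⟨hV', ?_⟩
      rw [eq_top_iff]
      intro w _
      obtain ⟨u, rfl⟩ := hb.2 w
      exact sumMap_mem_of_isSubrep f hsub u (fun j => by rw [hV']; trivial)

/-- S15570 -/
theorem isStable_iff_prod (f : Fin n → (V →ₗ[K] W))
    (hW : 0 < Module.finrank K W) (hV : Module.finrank K V = n * Module.finrank K W) :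
    IsStable f ↔ (IsSemistable f ∧ Module.finrank K W = 1) := by
  classical
  constructor
  · intro hst
    have hss := isSemistable_of_isStable hst
    refine ⟨hss, ?_⟩
    by_contra hne
    have h2 : 2 ≤ Module.finrank K W := by omega
    have hb := (isSemistable_iff_bijective_prodMap f hW hV).1 hss
    let P := LinearEquiv.ofBijective (prodMap f) hb
    obtain ⟨w, hw⟩ : ∃ w : W, w ≠ 0 := by
      have : Nontrivial W := Module.nontrivial_of_finrank_pos hW
      exact exists_ne 0
    let W' : Submodule K W := K ∙ w
    have hW'1 : Module.finrank K W' = 1 := finrank_span_singleton hw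
    let ι : (Fin n → W') →ₗ[K] (Fin n → W) := LinearMap.pi (fun j => W'.subtype.comp (LinearMap.proj j))
    have hι : Function.Injective ι := by
      intro a b hab
      funext j
      apply Subtype.ext
      exact congrFun hab j
    let T : (Fin n → W') →ₗ[K] V := P.symm.toLinearMap.comp ι
    have hT : Function.Injective T := P.symm.injective.comp hι
    let V' : Submodule K V := LinearMap.range T
    have hV'n : Module.finrank K V' = n := by
      have := LinearMap.finrank_range_of_inj hT
      rw [finrank_pi_fin, hW'1, mul_one] at this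
      exact this
    have hsub : IsSubrep f V' W' := by
      intro j
      rintro x ⟨v, ⟨u, rfl⟩, rfl⟩
      have : f j (T u) = (P (P.symm (ι u))) j := rfl
      rw [this, LinearEquiv.apply_symm_apply]
      exact (u j).2
    have h3 := hst.2 V' W' hsub
      (fun e => by rw [e.2, finrank_bot] at hW'1; omega)
      (fun e => by rw [e.2, finrank_top] at hW'1; omega)
    rw [hV'n, hW'1, hV, mul_one, mul_comm] at h3
    omega
  · rintro ⟨hss, h1⟩
    have hb := (isSemistable_iff_bijective_prodMap f hW hV).1 hss
    refine ⟨hss.1, ?_⟩
    intro V' W' hsub hnb hnt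
    rcases eq_bot_or_eq_top_of_finrank_eq_one h1 W' with hW' | hW'
    · exfalso
      apply hnb
      refine ⟨?_, hW'⟩
      rw [eq_bot_iff]
      intro v hv
      have : prodMap f v = 0 := by
        funext j
        have := hsub j ⟨v, hv, rfl⟩
        rw [hW'] at this
        exact (Submodule.mem_bot K).1 this
      have h0 : prodMap f v = prodMap f 0 := by rw [this, map_zero]
      exact (Submodule.mem_bot K).2 (hb.1 h0)
    · have hV' : V' ≠ ⊤ := fun e => hnt ⟨e, hW'⟩
      have hlt : Module.finrank K V' < Module.finrank K V := Submodule.finrank_lt hV'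
      rw [hW', finrank_top, h1, one_mul, mul_one]
      exact hlt

end Groth.Agent.Lib.KronMod_helper6
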