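import Groth.Agent.Lib.KronMod3_helper6
import Mathlib.LinearAlgebra.Eigenspace.Triangularizable

/-!
# Kronecker modules: dimension vector `(1,1)`; two arrows over an algebraically closed field (helper6)
-/

set_option autoImplicit false
universe u v w
open KronMod

namespace Groth.Agent.Lib.KronMod_helper6

variable {K : Type u} [Field K] {V : Type v} {W : Type w}
  [AddCommGroup V] [Module K V] [AddCommGroup W] [Module K W] {n : ℕ}
  [FiniteDimensional K V] [FiniteDimensional K W]

/-- S15564 -/
theorem dim_one_one (f : Fin n → (V →ₗ[K] W))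
    (hV : Module.finrank K V = 1) (hW : Module.finrank K W = 1) :
    (IsSemistable f ↔ f ≠ 0) ∧ (IsStable f ↔ f ≠ 0) := by
  have hVpos : 0 < Module.finrank K V := by omega
  have hWpos : 0 < Module.finrank K W := by omega
  have A : IsSemistable f → f ≠ 0 := by
    rintro ⟨-, hs⟩ rfl
    have hsub : IsSubrep (0 : Fin n → (V →ₗ[K] W)) ⊤ ⊥ := by
      intro j
      rintro w ⟨v, -, rfl⟩
      simp
    have := hs ⊤ ⊥ hsub (fun e => top_ne_bot_of_finrank_pos hVpos e.1)
      (fun e => top_ne_bot_of_finrank_pos hWpos e.2.symm)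
    rw [finrank_top, finrank_bot, hV, hW] at this
    omega
  have B : f ≠ 0 → IsStable f := by
    intro hf
    refine ⟨by omega, ?_⟩
    intro V' W' hsub hnb hnt
    rcases eq_bot_or_eq_top_of_finrank_eq_one hV V' with hV' | hV'
    · rcases eq_bot_or_eq_top_of_finrank_eq_one hW W' with hW' | hW'
      · exact absurd ⟨hV', hW'⟩ hnb
      · rw [hV', hW', finrank_bot, finrank_top, hV, hW]
        omega
    · rcases eq_bot_or_eq_top_of_finrank_eq_one hW W' with hW' | hW'
      · exfalso
        apply hf
        funext j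
        apply LinearMap.ext
        intro v
        have := hsub j ⟨v, by rw [hV']; trivial, rfl⟩
        rw [hW'] at this
        exact (Submodule.mem_bot K).1 this
      · exact absurd ⟨hV', hW'⟩ hnt
  exact ⟨⟨A, fun h => isSemistable_of_isStable (B h)⟩, ⟨fun h => A (isSemistable_of_isStable h), B⟩⟩

theorem finrank_span_singleton_le_one (w : W) : Module.finrank K (K ∙ w) ≤ 1 := by
  by_cases hw : w = 0
  · subst hw
    rw [Submodule.span_zero_singleton, finrank_bot]
    omega
  · rw [finrank_span_singleton hw]

/-- S15565 -/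
theorem not_isStable_two_arrows [IsAlgClosed K] (f : Fin 2 → (V →ₗ[K] W)) (k : ℕ) (hk : 2 ≤ k)
    (hV : Module.finrank K V = k) (hW : Module.finrank K W = k) :
    ¬ IsStable f := by
  intro hst
  have hVpos : 0 < Module.finrank K V := by omega
  have : Nontrivial V := Module.nontrivial_of_finrank_pos hVpos
  -- a vector `v ≠ 0` and `w` with `f 0 v, f 1 v ∈ K ∙ w`
  obtain ⟨v, w, hv, h0, h1⟩ : ∃ (v : V) (w : W), v ≠ 0 ∧ f 0 v ∈ K ∙ w ∧ f 1 v ∈ K ∙ w := by
    by_cases hinj : Function.Injective (f 0)
    · have hdim : Module.finrank K V = Module.finrank K W := by rw [hV, hW]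
      have hbij : Function.Bijective (f 0) :=
        ⟨hinj, (LinearMap.injective_iff_surjective_of_finrank_eq_finrank hdim).1 hinj⟩
      let e := LinearEquiv.ofBijective (f 0) hbij
      let T : Module.End K V := e.symm.toLinearMap.comp (f 1)
      obtain ⟨μ, hμ⟩ := Module.End.exists_eigenvalue T
      obtain ⟨v, hv⟩ := hμ.exists_hasEigenvector
      refine ⟨v, f 0 v, hv.2, Submodule.mem_span_singleton_self _, ?_⟩
      have h2 : T v = μ • v := hv.apply_eq_smul
      have h3 : f 1 v = e (T v) := by
        show f 1 v = e (e.symm (f 1 v))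
        rw [LinearEquiv.apply_symm_apply]
      rw [h3, h2, map_smul]
      exact Submodule.smul_mem _ _ (Submodule.mem_span_singleton_self _)
    · have hker : LinearMap.ker (f 0) ≠ ⊥ := fun e => hinj (LinearMap.ker_eq_bot.1 e)
      obtain ⟨v, hvk, hv⟩ := Submodule.exists_mem_ne_zero_of_ne_bot hker
      refine ⟨v, f 1 v, hv, ?_, Submodule.mem_span_singleton_self _⟩
      rw [LinearMap.mem_ker.1 hvk]
      exact Submodule.zero_mem _
  let V' : Submodule K V := K ∙ v
  let W' : Submodule K W := K ∙ w
  have hV'1 : Module.finrank K V' = 1 := finrank_span_singleton hv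
  have hW'1 : Module.finrank K W' ≤ 1 := finrank_span_singleton_le_one w
  have hsub : IsSubrep f V' W' := by
    intro j
    rintro x ⟨y, hy, rfl⟩
    obtain ⟨c, rfl⟩ := Submodule.mem_span_singleton.1 hy
    rw [map_smul]
    apply Submodule.smul_mem
    fin_cases j
    · exact h0
    · exact h1
  have h3 := hst.2 V' W' hsub
    (fun e => by rw [e.1, finrank_bot] at hV'1; omega)
    (fun e => by rw [e.1, finrank_top] at hV'1; omega)
  rw [hV'1, hV, hW] at h3
  have : k * Module.finrank K W' ≤ k * 1 := Nat.mul_le_mul_left _ hW'1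
  omega

end Groth.Agent.Lib.KronMod_helper6
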