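import Groth.Agent.Lib.KronMod4_helper6
import Mathlib.LinearAlgebra.Dual.Lemmas

/-!
# Kronecker modules: duality (helper6)
-/

set_option autoImplicit false
universe u v w
open KronMod

namespace Groth.Agent.Lib.KronMod_helper6

variable {K : Type u} [Field K] {V : Type v} {W : Type w}
  [AddCommGroup V] [Module K V] [AddCommGroup W] [Module K W] {n : ℕ}
  [FiniteDimensional K V] [FiniteDimensional K W]

/-- the dual Kronecker module -/
def dualRep (f : Fin n → (V →ₗ[K] W)) : Fin n → (Module.Dual K W →ₗ[K] Module.Dual K V) :=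
  fun j => (f j).dualMap

theorem isSubrep_dual_of_isSubrep (f : Fin n → (V →ₗ[K] W)) {V' : Submodule K V}
    {W' : Submodule K W} (h : IsSubrep f V' W') :
    IsSubrep (dualRep f) W'.dualAnnihilator V'.dualAnnihilator := by
  intro j
  rintro ψ ⟨φ, hφ, rfl⟩
  rw [Submodule.mem_dualAnnihilator]
  intro v hv
  show φ (f j v) = 0
  exact (Submodule.mem_dualAnnihilator φ).1 hφ _ (h j ⟨v, hv, rfl⟩)

theorem isSubrep_of_isSubrep_dual (f : Fin n → (V →ₗ[K] W)) {A : Submodule K (Module.Dual K W)}
    {B : Submodule K (Module.Dual K V)} (h : IsSubrep (dualRep f) A B) :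
    IsSubrep f B.dualCoannihilator A.dualCoannihilator := by
  intro j
  rintro w ⟨v, hv, rfl⟩
  rw [Submodule.mem_dualCoannihilator]
  intro ψ hψ
  have h1 : (f j).dualMap ψ ∈ B := h j ⟨ψ, hψ, rfl⟩
  exact (Submodule.mem_dualCoannihilator _).1 hv _ h1

theorem eq_bot_iff_finrank {U : Type*} [AddCommGroup U] [Module K U] [FiniteDimensional K U]
    (U' : Submodule K U) : U' = ⊥ ↔ Module.finrank K U' = 0 :=
  ⟨fun e => by rw [e, finrank_bot], fun h => Submodule.finrank_eq_zero.1 h⟩

theorem eq_top_iff_finrank {U : Type*} [AddCommGroup U] [Module K U] [FiniteDimensional K U]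
    (U' : Submodule K U) : U' = ⊤ ↔ Module.finrank K U' = Module.finrank K U :=
  ⟨fun e => by rw [e, finrank_top], fun h => Submodule.eq_top_of_finrank_eq h⟩

/-- arithmetic core -/
theorem arith_le {dV dW a b a' b' : ℕ} (ha : a + a' = dV) (hb : b + b' = dW) :
    dW * a ≤ dV * b ↔ dV * b' ≤ dW * a' := by
  subst ha hb
  constructor <;> intro h <;> nlinarith

theorem arith_lt {dV dW a b a' b' : ℕ} (ha : a + a' = dV) (hb : b + b' = dW) :
    dW * a < dV * b ↔ dV * b' < dW * a' := by
  subst ha hb
  constructor <;> intro h <;> nlinarith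

/-- general form: a relation `R` that is `≤` or `<` -/
theorem dual_core (f : Fin n → (V →ₗ[K] W)) (R : ℕ → ℕ → Prop)
    (hR : ∀ {dV dW a b a' b' : ℕ}, a + a' = dV → b + b' = dW →
      (R (dW * a) (dV * b) ↔ R (dV * b') (dW * a'))) :
    (∀ (V' : Submodule K V) (W' : Submodule K W), IsSubrep f V' W' →
        ¬ (V' = ⊥ ∧ W' = ⊥) → ¬ (V' = ⊤ ∧ W' = ⊤) →
        R (Module.finrank K W * Module.finrank K V') (Module.finrank K V * Module.finrank K W')) ↔
    (∀ (A : Submodule K (Module.Dual K W)) (B : Submodule K (Module.Dual K V)),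
        IsSubrep (dualRep f) A B → ¬ (A = ⊥ ∧ B = ⊥) → ¬ (A = ⊤ ∧ B = ⊤) →
        R (Module.finrank K (Module.Dual K V) * Module.finrank K A)
          (Module.finrank K (Module.Dual K W) * Module.finrank K B)) := by
  constructor
  · intro hs A B hsub hnb hnt
    have hA := Subspace.finrank_add_finrank_dualCoannihilator_eq A
    have hB := Subspace.finrank_add_finrank_dualCoannihilator_eq B
    rw [Subspace.dual_finrank_eq, Subspace.dual_finrank_eq]
    have h1 := hs B.dualCoannihilator A.dualCoannihilator (isSubrep_of_isSubrep_dual f hsub)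
      (by
        rw [eq_bot_iff_finrank, eq_bot_iff_finrank]
        rintro ⟨e1, e2⟩
        apply hnt
        rw [eq_top_iff_finrank, eq_top_iff_finrank, Subspace.dual_finrank_eq,
          Subspace.dual_finrank_eq]
        omega)
      (by
        rw [eq_top_iff_finrank, eq_top_iff_finrank]
        rintro ⟨e1, e2⟩
        apply hnb
        rw [eq_bot_iff_finrank, eq_bot_iff_finrank]
        omega)
    have hB' : Module.finrank K B.dualCoannihilator + Module.finrank K B = Module.finrank K V := by
      omega
    have hA' : Module.finrank K A.dualCoannihilator + Module.finrank K A = Module.finrank K W := by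
      omega
    exact (hR hB' hA').1 h1
  · intro hs V' W' hsub hnb hnt
    have hV' := Subspace.finrank_add_finrank_dualAnnihilator_eq V'
    have hW' := Subspace.finrank_add_finrank_dualAnnihilator_eq W'
    have h1 := hs W'.dualAnnihilator V'.dualAnnihilator (isSubrep_dual_of_isSubrep f hsub)
      (by
        rw [eq_bot_iff_finrank, eq_bot_iff_finrank]
        rintro ⟨e1, e2⟩
        apply hnt
        rw [eq_top_iff_finrank, eq_top_iff_finrank]
        omega)
      (by
        rw [eq_top_iff_finrank, eq_top_iff_finrank, Subspace.dual_finrank_eq,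
          Subspace.dual_finrank_eq]
        rintro ⟨e1, e2⟩
        apply hnb
        rw [eq_bot_iff_finrank, eq_bot_iff_finrank]
        omega)
    rw [Subspace.dual_finrank_eq, Subspace.dual_finrank_eq] at h1
    exact (hR hV' hW').2 h1

/-- S15567 -/
theorem isSemistable_iff_dual (f : Fin n → (V →ₗ[K] W)) :
    (IsSemistable f ↔ IsSemistable (fun j => (f j).dualMap)) ∧
    (IsStable f ↔ IsStable (fun j => (f j).dualMap)) := by
  have hd : Module.finrank K (Module.Dual K W) + Module.finrank K (Module.Dual K V) =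
      Module.finrank K W + Module.finrank K V := by
    rw [Subspace.dual_finrank_eq, Subspace.dual_finrank_eq]
  have c1 := dual_core f (· ≤ ·) (fun ha hb => arith_le ha hb)
  have c2 := dual_core f (· < ·) (fun ha hb => arith_lt ha hb)
  constructor
  · constructor
    · rintro ⟨h0, hs⟩
      exact ⟨by omega, c1.1 hs⟩
    · rintro ⟨h0, hs⟩
      exact ⟨by omega, c1.2 hs⟩
  · constructor
    · rintro ⟨h0, hs⟩
      exact ⟨by omega, c2.1 hs⟩
    · rintro ⟨h0, hs⟩
      exact ⟨by omega, c2.2 hs⟩

end Groth.Agent.Lib.KronMod_helper6
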