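import Groth.Prelude.Def_W4c2quivmodsheafKron
import Mathlib.LinearAlgebra.FiniteDimensional.Lemmas
import Mathlib.LinearAlgebra.Dimension.Constructions
import Mathlib.LinearAlgebra.FiniteDimensional.Basic
import Mathlib.LinearAlgebra.Pi
import Mathlib.LinearAlgebra.Dimension.Free

/-!
# Kronecker modules: sum map, product map, basic (semi)stability lemmas (helper6)
-/

set_option autoImplicit false
universe u v w
open KronMod

namespace Groth.Agent.Lib.KronMod_helper6

variable {K : Type u} [Field K] {V : Type v} {W : Type w}
  [AddCommGroup V] [Module K V] [AddCommGroup W] [Module K W] {n : ℕ}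

/-- the sum map `Vⁿ → W` -/
noncomputable def sumMap (f : Fin n → (V →ₗ[K] W)) : (Fin n → V) →ₗ[K] W :=
  ∑ j, (f j).comp (LinearMap.proj j)

/-- the product map `V → Wⁿ` -/
def prodMap (f : Fin n → (V →ₗ[K] W)) : V →ₗ[K] (Fin n → W) :=
  LinearMap.pi f

@[simp] theorem sumMap_apply (f : Fin n → (V →ₗ[K] W)) (v : Fin n → V) :
    sumMap f v = ∑ j, f j (v j) := by
  simp [sumMap]

@[simp] theorem prodMap_apply (f : Fin n → (V →ₗ[K] W)) (v : V) (j : Fin n) :
    prodMap f v j = f j v := rfl

theorem sumMap_single (f : Fin n → (V →ₗ[K] W)) (j : Fin n) (v : V) :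
    sumMap f (Pi.single j v) = f j v := by
  classical
  rw [sumMap_apply]
  rw [Finset.sum_eq_single j]
  · simp
  · intro b _ hb
    simp [Pi.single_eq_of_ne hb]
  · intro h; exact absurd (Finset.mem_univ j) h

theorem isSubrep_top_range_sumMap (f : Fin n → (V →ₗ[K] W)) :
    IsSubrep f ⊤ (LinearMap.range (sumMap f)) := by
  intro j
  rintro w ⟨v, -, rfl⟩
  exact ⟨Pi.single j v, sumMap_single f j v⟩

theorem isSubrep_ker_prodMap_bot (f : Fin n → (V →ₗ[K] W)) :
    IsSubrep f (LinearMap.ker (prodMap f)) ⊥ := by
  intro j
  rintro w ⟨v, hv, rfl⟩
  have : prodMap f v = 0 := hv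
  have h2 : prodMap f v j = 0 := by rw [this]; rfl
  simpa using h2

section FD

variable [FiniteDimensional K V] [FiniteDimensional K W]

theorem finrank_pi_fin (U : Type*) [AddCommGroup U] [Module K U] [FiniteDimensional K U] :
    Module.finrank K (Fin n → U) = n * Module.finrank K U := by
  rw [Module.finrank_pi_fintype]
  simp

theorem finrank_range_sumMap_le (f : Fin n → (V →ₗ[K] W)) :
    Module.finrank K (LinearMap.range (sumMap f)) ≤ n * Module.finrank K V := by
  have := LinearMap.finrank_range_le (sumMap f)
  rwa [finrank_pi_fin] at this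

/-- for a subrepresentation `(V', W')`, the sum map sends `V'ⁿ` into `W'` -/
theorem sumMap_mem_of_isSubrep (f : Fin n → (V →ₗ[K] W)) {V' : Submodule K V} {W' : Submodule K W}
    (h : IsSubrep f V' W') (v : Fin n → V) (hv : ∀ j, v j ∈ V') : sumMap f v ∈ W' := by
  rw [sumMap_apply]
  exact Submodule.sum_mem _ (fun j _ => h j ⟨v j, hv j, rfl⟩)

/-- if the sum map is injective, then `n · dim V' ≤ dim W'` for every subrepresentation -/
theorem mul_finrank_le_of_sumMap_injective (f : Fin n → (V →ₗ[K] W))
    (hinj : Function.Injective (sumMap f)) {V' : Submodule K V} {W' : Submodule K W}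
    (h : IsSubrep f V' W') : n * Module.finrank K V' ≤ Module.finrank K W' := by
  let T : (Fin n → V') →ₗ[K] W' :=
    { toFun := fun u => ⟨sumMap f (fun j => (u j : V)), sumMap_mem_of_isSubrep f h _ (fun j => (u j).2)⟩
      map_add' := by
        intro a b
        apply Subtype.ext
        have : (fun j => ((a + b) j : V)) = (fun j => (a j : V)) + (fun j => (b j : V)) := by
          funext j; simp
        simp only [this, map_add]
        rfl
      map_smul' := by
        intro c a
        apply Subtype.ext
        have : (fun j => ((c • a) j : V)) = c • (fun j => (a j : V)) := by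
          funext j; simp
        simp only [this, map_smul]
        rfl }
  have hT : Function.Injective T := by
    intro a b hab
    have h1 : sumMap f (fun j => (a j : V)) = sumMap f (fun j => (b j : V)) :=
      congrArg Subtype.val hab
    have h2 := hinj h1
    funext j
    exact Subtype.ext (congrFun h2 j)
  have := LinearMap.finrank_le_finrank_of_injective hT
  rwa [finrank_pi_fin] at this

/-- if the product map is injective, then `dim V' ≤ n · dim W'` for every subrepresentation -/
theorem finrank_le_mul_of_prodMap_injective (f : Fin n → (V →ₗ[K] W))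
    (hinj : Function.Injective (prodMap f)) {V' : Submodule K V} {W' : Submodule K W}
    (h : IsSubrep f V' W') : Module.finrank K V' ≤ n * Module.finrank K W' := by
  let T : V' →ₗ[K] (Fin n → W') :=
    { toFun := fun u j => ⟨f j u, h j ⟨u, u.2, rfl⟩⟩
      map_add' := by
        intro a b
        funext j
        apply Subtype.ext
        simp
      map_smul' := by
        intro c a
        funext j
        apply Subtype.ext
        simp }
  have hT : Function.Injective T := by
    intro a b hab
    apply Subtype.ext
    apply hinj
    funext j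
    have := congrArg (fun t => ((t j : W') : W)) hab
    exact this
  have := LinearMap.finrank_le_finrank_of_injective hT
  rwa [finrank_pi_fin] at this

end FD

end Groth.Agent.Lib.KronMod_helper6
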