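import Mathlib
import Groth.Prelude.Def_W4c2quivmodsheafKron

/-!
# Semistable Kronecker modules with two arrows of dimension vector `(k, k)`

A semistable pencil `(f 0, f 1)` between spaces of the same dimension over an infinite field
contains an invertible member.
-/

namespace Groth.Agent.Lib.KronPencil

open Module

theorem main (K : Type*) [Field K] [Infinite K] (V W : Type*)
    [AddCommGroup V] [Module K V] [FiniteDimensional K V]
    [AddCommGroup W] [Module K W] [FiniteDimensional K W]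
    (f : Fin 2 → (V →ₗ[K] W)) (hVW : finrank K V = finrank K W)
    (hf : KronMod.IsSemistable f) :
    ∃ z : Fin 2 → K, Function.Bijective ((∑ j, z j • f j : V →ₗ[K] W) : V → W) := by
  by_contra hcon
  push_neg at hcon
  have hk : 0 < finrank K V := by
    have := hf.1
    omega
  have hg : ∀ c : K, ∃ x : V, x ≠ 0 ∧ f 0 x + c • f 1 x = 0 := by
    intro c
    have h1 := hcon ![1, c]
    have h2 : (∑ j, (![1, c] : Fin 2 → K) j • f j : V →ₗ[K] W) = f 0 + c • f 1 := by
      simp [Fin.sum_univ_two]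
    rw [h2] at h1
    have h3 : ¬ Function.Injective (f 0 + c • f 1) := fun hinj =>
      h1 ⟨hinj, (LinearMap.injective_iff_surjective_of_finrank_eq_finrank hVW).mp hinj⟩
    rw [← LinearMap.ker_eq_bot, Submodule.eq_bot_iff] at h3
    push_neg at h3
    obtain ⟨x, hx, hx0⟩ := h3
    refine ⟨x, hx0, ?_⟩
    simpa using hx
  obtain ⟨U, hUdef⟩ : ∃ U : Submodule K V, U = ⨆ c : K, LinearMap.ker (f 0 + c • f 1) := ⟨_, rfl⟩
  have hkerU : ∀ (c : K) (x : V), f 0 x + c • f 1 x = 0 → x ∈ U := by
    intro c x hx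
    rw [hUdef]
    exact le_iSup (fun c : K => LinearMap.ker (f 0 + c • f 1)) c (by simpa using hx)
  have hU0 : U.map (f 0) ≤ U.map (f 1) := by
    rw [hUdef, Submodule.map_iSup]
    refine iSup_le fun c => ?_
    rintro _ ⟨x, hx, rfl⟩
    have hx' : f 0 x + c • f 1 x = 0 := by simpa using hx
    refine ⟨(-c) • x, ?_, ?_⟩
    · rw [← hUdef]
      exact Submodule.smul_mem _ _ (hkerU c x hx')
    · rw [map_smul, neg_smul]; exact (eq_neg_of_add_eq_zero_left hx').symm
  have hsub : KronMod.IsSubrep f U (U.map (f 1)) := by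
    rw [KronMod.IsSubrep, Fin.forall_fin_two]
    exact ⟨hU0, le_rfl⟩
  obtain ⟨x0, hx0, hx0'⟩ := hg 0
  have hx0U : x0 ∈ U := hkerU 0 x0 hx0'
  have hUbot : U ≠ ⊥ := fun h => hx0 (by rw [h] at hx0U; exact (Submodule.mem_bot K).mp hx0U)
  have hntop : ¬ (U = ⊤ ∧ U.map (f 1) = ⊤) := by
    rintro ⟨h1, h2⟩
    rw [h1, Submodule.map_top, LinearMap.range_eq_top] at h2
    have h3 := hcon ![0, 1]
    have h4 : (∑ j, (![0, 1] : Fin 2 → K) j • f j : V →ₗ[K] W) = f 1 := by
      simp [Fin.sum_univ_two]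
    rw [h4] at h3
    exact h3 ⟨(LinearMap.injective_iff_surjective_of_finrank_eq_finrank hVW).mpr h2, h2⟩
  have hss := hf.2 U (U.map (f 1)) hsub (fun h => hUbot h.1) hntop
  rw [← hVW] at hss
  have hle : finrank K U ≤ finrank K (U.map (f 1)) := Nat.le_of_mul_le_mul_left hss hk
  obtain ⟨φ, hφ⟩ : ∃ φ : U →ₗ[K] W, φ = (f 1).domRestrict U := ⟨_, rfl⟩
  have hφapp : ∀ u : U, φ u = f 1 u := fun u => by rw [hφ]; rfl
  have hrange : LinearMap.range φ = U.map (f 1) := by
    rw [hφ]; exact LinearMap.range_domRestrict U (f 1)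
  have hker : LinearMap.ker φ = ⊥ := by
    have h1 := LinearMap.finrank_range_add_finrank_ker φ
    rw [hrange] at h1
    have h2 : finrank K (LinearMap.ker φ) = 0 := by omega
    exact Submodule.finrank_eq_zero.mp h2
  have hinj : Function.Injective φ := LinearMap.ker_eq_bot.mp hker
  have hmem : ∀ u : U, (f 0).domRestrict U u ∈ LinearMap.range φ := by
    intro u
    rw [hrange]
    exact hU0 (Submodule.mem_map_of_mem u.2)
  let e := LinearEquiv.ofInjective φ hinj
  let g0 : U →ₗ[K] LinearMap.range φ :=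
    ((f 0).domRestrict U).codRestrict (LinearMap.range φ) hmem
  let T : Module.End K U := e.symm.toLinearMap ∘ₗ g0
  have heig : ∀ c : K, T.HasEigenvalue (-c) := by
    intro c
    obtain ⟨x, hx0, hx⟩ := hg c
    have hxU : x ∈ U := hkerU c x hx
    refine Module.End.hasEigenvalue_of_hasEigenvector (x := (⟨x, hxU⟩ : U)) ?_
    rw [Module.End.hasEigenvector_iff, Module.End.mem_eigenspace_iff]
    refine ⟨?_, fun h => hx0 (congrArg Subtype.val h)⟩
    apply e.injective
    change e (e.symm (g0 ⟨x, hxU⟩)) = e ((-c) • (⟨x, hxU⟩ : U))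
    rw [LinearEquiv.apply_symm_apply]
    apply Subtype.ext
    change f 0 x = φ ((-c) • (⟨x, hxU⟩ : U))
    rw [map_smul, neg_smul, hφapp]
    exact eq_neg_of_add_eq_zero_left hx
  have hfin := T.finite_hasEigenvalue
  have hKfin : (Set.univ : Set K).Finite := by
    have h1 : (Set.univ : Set K) ⊆ (fun c : K => -c) ⁻¹' {μ | T.HasEigenvalue μ} :=
      fun c _ => heig c
    exact (hfin.preimage (fun a _ b _ h => neg_injective h)).subset h1
  exact Set.infinite_univ hKfin

end Groth.Agent.Lib.KronPencil
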