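import Mathlib
import Groth.Prelude.Def_W4c2quivmodsheafKron

/-!
# Semistable Kronecker modules of dimension vector `(2, 2)` contain an invertible combination
-/

namespace Groth.Agent.Lib.KronTwo

open Module

universe u v w

section aux
variable {K : Type*} [Field K] {V W : Type*} [AddCommGroup V] [Module K V]
  [AddCommGroup W] [Module K W]

/-- the determinant pairing in coordinates `c0, c1`. -/
def D (c0 c1 : W →ₗ[K] K) (a b : W) : K := c0 a * c1 b - c1 a * c0 b

theorem D_add_left (c0 c1 : W →ₗ[K] K) (a a' b : W) :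
    D c0 c1 (a + a') b = D c0 c1 a b + D c0 c1 a' b := by
  unfold D; rw [map_add, map_add]; ring

theorem D_add_right (c0 c1 : W →ₗ[K] K) (a b b' : W) :
    D c0 c1 a (b + b') = D c0 c1 a b + D c0 c1 a b' := by
  unfold D; rw [map_add, map_add]; ring

theorem D_smul_right (c0 c1 : W →ₗ[K] K) (a b : W) (t : K) :
    D c0 c1 a (t • b) = t * D c0 c1 a b := by
  unfold D; rw [map_smul, map_smul, smul_eq_mul, smul_eq_mul]; ring

theorem D_zero_left (c0 c1 : W →ₗ[K] K) (b : W) : D c0 c1 0 b = 0 := by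
  unfold D; rw [map_zero, map_zero]; ring

theorem D_zero_right (c0 c1 : W →ₗ[K] K) (a : W) : D c0 c1 a 0 = 0 := by
  unfold D; rw [map_zero, map_zero]; ring

theorem D_plucker (c0 c1 : W →ₗ[K] K) (a b c d : W) :
    D c0 c1 a b * D c0 c1 c d - D c0 c1 a c * D c0 c1 b d + D c0 c1 a d * D c0 c1 b c = 0 := by
  unfold D; ring

theorem pencil_aux [FiniteDimensional K V] (hV : finrank K V = 2) (c0 c1 : W →ₗ[K] K) (e0 e1 : W)
    (h00 : c0 e0 = 1) (h10 : c1 e0 = 0) (h01 : c0 e1 = 0) (h11 : c1 e1 = 1)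
    (hzero : ∀ w : W, c0 w = 0 → c1 w = 0 → w = 0)
    (L : Submodule K (V →ₗ[K] W)) (hL : ∀ g ∈ L, ¬ Function.Injective g) :
    (∃ v : V, v ≠ 0 ∧ ∀ g ∈ L, g v = 0) ∨
      (∃ u : W →ₗ[K] K, u ≠ 0 ∧ ∀ g ∈ L, ∀ x, u (g x) = 0) := by
  classical
  have hker : ∀ g ∈ L, ∃ v : V, v ≠ 0 ∧ g v = 0 := by
    intro g hg
    have h3 := hL g hg
    rw [← LinearMap.ker_eq_bot, Submodule.eq_bot_iff] at h3
    push_neg at h3
    obtain ⟨x, hx, hx0⟩ := h3
    exact ⟨x, hx0, by simpa using hx⟩
  have hD3 : ∀ w : W, w ≠ 0 → ∃ e, D c0 c1 w e ≠ 0 := by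
    intro w hw
    by_cases h0 : c0 w = 0
    · have h1 : c1 w ≠ 0 := fun h1 => hw (hzero w h0 h1)
      refine ⟨e0, ?_⟩
      unfold D
      rw [h10, h00, h0]
      simpa using h1
    · refine ⟨e1, ?_⟩
      unfold D
      rw [h11, h01]
      simpa using h0
  by_cases hall : ∀ g ∈ L, g = 0
  · left
    have hpos : 0 < finrank K V := by omega
    obtain ⟨v, hv⟩ := (Module.finrank_pos_iff_exists_ne_zero (R := K)).1 hpos
    exact ⟨v, hv, fun g hg => by rw [hall g hg, LinearMap.zero_apply]⟩
  push_neg at hall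
  obtain ⟨f0, hf0L, hf0⟩ := hall
  obtain ⟨v0, hv0, hf0v0⟩ := hker f0 hf0L
  by_cases hcom : ∀ g ∈ L, g v0 = 0
  · left; exact ⟨v0, hv0, hcom⟩
  push_neg at hcom
  obtain ⟨h, hhL, hhv0⟩ := hcom
  obtain ⟨v1, hv1, hhv1⟩ := hker h hhL
  right
  have hli : LinearIndependent K ![v0, v1] := by
    rw [LinearIndependent.pair_iff]
    intro s t hst
    have h1 := congrArg h hst
    rw [map_add, map_smul, map_smul, hhv1, smul_zero, add_zero, map_zero] at h1
    have hs : s = 0 := by
      rcases smul_eq_zero.1 h1 with h2 | h2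
      · exact h2
      · exact absurd h2 hhv0
    subst hs
    rw [zero_smul, zero_add] at hst
    rcases smul_eq_zero.1 hst with h2 | h2
    · exact ⟨rfl, h2⟩
    · exact absurd h2 hv1
  have hspan : ∀ x : V, ∃ α β : K, x = α • v0 + β • v1 := by
    intro x
    have htop := hli.span_eq_top_of_card_eq_finrank' (by simp [hV])
    have hx : x ∈ Submodule.span K (Set.range ![v0, v1]) := by rw [htop]; trivial
    obtain ⟨c, hc⟩ := (Submodule.mem_span_range_iff_exists_fun K).1 hx
    refine ⟨c 0, c 1, ?_⟩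
    rw [← hc]
    simp [Fin.sum_univ_two]
  have hD : ∀ g ∈ L, D c0 c1 (g v0) (g v1) = 0 := by
    intro g hg
    obtain ⟨x, hx, hgx⟩ := hker g hg
    obtain ⟨α, β, rfl⟩ := hspan x
    rw [map_add, map_smul, map_smul] at hgx
    have hαβ : α ≠ 0 ∨ β ≠ 0 := by
      by_contra hcon
      push_neg at hcon
      apply hx
      rw [hcon.1, hcon.2, zero_smul, zero_smul, add_zero]
    have h0 := congrArg c0 hgx
    have h1 := congrArg c1 hgx
    simp only [map_add, map_smul, smul_eq_mul, map_zero] at h0 h1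
    rcases hαβ with hα | hβ
    · have : α * D c0 c1 (g v0) (g v1) = 0 := by
        unfold D; linear_combination (c1 (g v1)) * h0 - (c0 (g v1)) * h1
      exact (mul_eq_zero.1 this).resolve_left hα
    · have : β * D c0 c1 (g v0) (g v1) = 0 := by
        unfold D; linear_combination (c0 (g v0)) * h1 - (c1 (g v0)) * h0
      exact (mul_eq_zero.1 this).resolve_left hβ
  -- the element `cc = f0 v1`
  have hcc : f0 v1 ≠ 0 := by
    intro hcc
    apply hf0
    apply LinearMap.ext
    intro x
    obtain ⟨α, β, rfl⟩ := hspan x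
    rw [map_add, map_smul, map_smul, hf0v0, hcc, smul_zero, smul_zero, add_zero, LinearMap.zero_apply]
  have hw0cc : D c0 c1 (h v0) (f0 v1) = 0 := by
    have := hD (f0 + h) (L.add_mem hf0L hhL)
    rw [LinearMap.add_apply, LinearMap.add_apply, hf0v0, hhv1, zero_add, add_zero] at this
    exact this
  obtain ⟨e, he⟩ := hD3 (f0 v1) hcc
  have key : ∀ g ∈ L, D c0 c1 (h v0) (g v0) = 0 ∧ D c0 c1 (h v0) (g v1) = 0 := by
    intro g hg
    have hab := hD g hg
    have h1 := hD (g + h) (L.add_mem hg hhL)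
    rw [LinearMap.add_apply, LinearMap.add_apply, hhv1, add_zero, D_add_left, hab, zero_add] at h1
    have h2 := hD (g + f0) (L.add_mem hg hf0L)
    rw [LinearMap.add_apply, LinearMap.add_apply, hf0v0, add_zero, D_add_right, hab, zero_add] at h2
    refine ⟨?_, h1⟩
    have hp := D_plucker c0 c1 (h v0) (g v0) (f0 v1) e
    rw [hw0cc, h2] at hp
    have : D c0 c1 (h v0) (g v0) * D c0 c1 (f0 v1) e = 0 := by linear_combination hp
    exact (mul_eq_zero.1 this).resolve_right he
  refine ⟨c0 (h v0) • c1 - c1 (h v0) • c0, ?_, ?_⟩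
  · obtain ⟨e', he'⟩ := hD3 (h v0) hhv0
    intro hu
    apply he'
    have := congrArg (fun u : W →ₗ[K] K => u e') hu
    simpa [D] using this
  · intro g hg x
    obtain ⟨α, β, rfl⟩ := hspan x
    obtain ⟨ka, kb⟩ := key g hg
    have hux : ∀ y : W, (c0 (h v0) • c1 - c1 (h v0) • c0) y = D c0 c1 (h v0) y := by
      intro y; simp [D]
    rw [hux, map_add, map_smul, map_smul, D_add_right, D_smul_right, D_smul_right, ka, kb]
    ring

end aux

theorem main (K : Type u) [Field K] (V : Type v) (W : Type w)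
    [AddCommGroup V] [Module K V] [FiniteDimensional K V]
    [AddCommGroup W] [Module K W] [FiniteDimensional K W]
    (n : ℕ) (f : Fin n → (V →ₗ[K] W))
    (hV : Module.finrank K V = 2) (hW : Module.finrank K W = 2)
    (hf : KronMod.IsSemistable f) :
    ∃ z : Fin n → K, Function.Bijective ((∑ j, z j • f j : V →ₗ[K] W) : V → W) := by
  classical
  by_contra hcon
  push_neg at hcon
  let bW : Module.Basis (Fin 2) K W := Module.finBasisOfFinrankEq K W hW
  have hVW : finrank K V = finrank K W := by rw [hV, hW]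
  let L : Submodule K (V →ₗ[K] W) := Submodule.span K (Set.range f)
  have hL : ∀ g ∈ L, ¬ Function.Injective g := by
    intro g hg hinj
    obtain ⟨z, hz⟩ := (Submodule.mem_span_range_iff_exists_fun K).1 hg
    apply hcon z
    rw [hz]
    exact ⟨hinj, (LinearMap.injective_iff_surjective_of_finrank_eq_finrank hVW).mp hinj⟩
  have hfL : ∀ j, f j ∈ L := fun j => Submodule.subset_span ⟨j, rfl⟩
  have hzero : ∀ w : W, bW.coord 0 w = 0 → bW.coord 1 w = 0 → w = 0 := by
    intro w h0 h1
    apply bW.ext_elem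
    intro i
    fin_cases i
    · simpa [Module.Basis.coord_apply] using h0
    · simpa [Module.Basis.coord_apply] using h1
  rcases pencil_aux hV (bW.coord 0) (bW.coord 1) (bW 0) (bW 1)
    (by simp [Module.Basis.coord_apply]) (by simp [Module.Basis.coord_apply])
    (by simp [Module.Basis.coord_apply]) (by simp [Module.Basis.coord_apply])
    hzero L hL with ⟨x, hx, hxL⟩ | ⟨u, hu, huL⟩
  · have hsub : KronMod.IsSubrep f (K ∙ x) ⊥ := by
      intro j
      rw [Submodule.map_span, Set.image_singleton, hxL _ (hfL j)]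
      simp
    have h1 := hf.2 (K ∙ x) ⊥ hsub (fun h => hx (by simpa using h.1)) (fun h => by
      have h2 : finrank K (⊥ : Submodule K W) = finrank K (⊤ : Submodule K W) := by rw [h.2]
      rw [finrank_bot, finrank_top, hW] at h2; omega)
    rw [finrank_span_singleton hx, finrank_bot, hV, hW] at h1
    omega
  · have hsub : KronMod.IsSubrep f ⊤ (LinearMap.ker u) := by
      intro j
      rintro _ ⟨y, -, rfl⟩
      exact huL _ (hfL j) y
    have hlt : finrank K (LinearMap.ker u) < finrank K W := by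
      apply Submodule.finrank_lt
      rw [Ne, LinearMap.ker_eq_top]
      exact hu
    have h1 := hf.2 ⊤ (LinearMap.ker u) hsub (fun h => by
      have h2 : finrank K (⊤ : Submodule K V) = finrank K (⊥ : Submodule K V) := by rw [h.1]
      rw [finrank_bot, finrank_top, hV] at h2; omega) (fun h => hu (LinearMap.ker_eq_top.1 h.2))
    rw [finrank_top, hV, hW] at h1
    rw [hW] at hlt
    omega

end Groth.Agent.Lib.KronTwo
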