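import Mathlib.Order.KrullDimension
import Mathlib.Topology.KrullDimension
import Mathlib.Topology.Sober

/-!
# Lifting chains and Krull dimension (lead)
-/

universe u v

namespace Groth.Agent.Lib.KrullLift_lead

open Order

/-- If `g : α → β` is surjective and strict lower bounds lift along `g`, then
`krullDim β ≤ krullDim α`. -/
theorem krullDim_le_of_lifting_lt {α : Type u} {β : Type v} [Preorder α] [Preorder β] (g : α → β)
    (hg : Function.Surjective g)
    (hlift : ∀ a b', b' < g a → ∃ a', a' < a ∧ g a' = b') : krullDim β ≤ krullDim α := by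
  have key : ∀ n (p : LTSeries β), p.length = n → ∀ a, g a = p.last →
      ∃ q : LTSeries α, q.length = n ∧ q.last = a := by
    intro n
    induction n with
    | zero =>
      intro p _ a _
      exact ⟨RelSeries.singleton _ a, rfl, rfl⟩
    | succ n ih =>
      intro p hp a ha
      have hlt : p.eraseLast.last < p.last :=
        RelSeries.eraseLast_last_rel_last p (by omega)
      obtain ⟨a', ha'lt, ha'⟩ := hlift a p.eraseLast.last (ha ▸ hlt)
      obtain ⟨q', hq', hq'last⟩ := ih p.eraseLast (by simp [hp]) a' ha'
      refine ⟨q'.snoc a (by rw [hq'last]; exact ha'lt), by simp [hq'], by simp⟩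
  rw [krullDim]
  apply iSup_le
  intro p
  obtain ⟨a, ha⟩ := hg p.last
  obtain ⟨q, hq, -⟩ := key p.length p rfl a ha
  rw [← hq]
  exact LTSeries.length_le_krullDim q

/-- Dual version: strict upper bounds lift. -/
theorem krullDim_le_of_lifting_gt {α : Type u} {β : Type v} [Preorder α] [Preorder β] (g : α → β)
    (hg : Function.Surjective g)
    (hlift : ∀ a b', g a < b' → ∃ a', a < a' ∧ g a' = b') : krullDim β ≤ krullDim α := by
  rw [← krullDim_orderDual (α := β), ← krullDim_orderDual (α := α)]
  exact krullDim_le_of_lifting_lt (α := αᵒᵈ) (β := βᵒᵈ) g hg hlift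

end Groth.Agent.Lib.KrullLift_lead
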