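import Mathlib

set_option autoImplicit false
universe u

namespace KumH8

open Polynomial

/-- Any finite family of elements acquires roots of prescribed orders in a faithful extension. -/
theorem exists_roots {A : Type u} [CommRing A] [Nontrivial A] : ∀ (r : ℕ) (f : Fin r → A) (n : Fin r → ℕ)
    (_ : ∀ i, 1 ≤ n i),
    ∃ (Ω : Type u) (_ : CommRing Ω) (_ : Algebra A Ω), Function.Injective (algebraMap A Ω) ∧
      ∃ t : Fin r → Ω, ∀ i, t i ^ n i = algebraMap A Ω (f i) := by
  intro r
  induction r with
  | zero =>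
    intro f n hn
    exact ⟨A, inferInstance, Algebra.id A, Function.injective_id, Fin.elim0, fun i => i.elim0⟩
  | succ r ih =>
    intro f n hn
    obtain ⟨Ω₀, _, _, hinj₀, t₀, ht₀⟩ := ih (fun i => f i.succ) (fun i => n i.succ)
      (fun i => hn i.succ)
    let g : Ω₀[X] := X ^ n 0 - C (algebraMap A Ω₀ (f 0))
    haveI : Nontrivial Ω₀ := hinj₀.nontrivial
    have hgm : g.Monic := monic_X_pow_sub_C _ (by have := hn 0; omega)
    have hgdeg : g.natDegree = n 0 := natDegree_X_pow_sub_C
    have hofinj : Function.Injective (AdjoinRoot.of g) := by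
      rw [injective_iff_map_eq_zero]
      intro a ha
      by_contra ha0
      have h1 : g ∣ C a := AdjoinRoot.mk_eq_zero.mp ha
      refine hgm.not_dvd_of_natDegree_lt (fun h => ha0 (C_eq_zero.mp h)) ?_ h1
      rw [natDegree_C, hgdeg]
      have := hn 0
      omega
    refine ⟨AdjoinRoot g, inferInstance, inferInstance, ?_, Fin.cons (AdjoinRoot.root g)
      (fun i => AdjoinRoot.of g (t₀ i)), ?_⟩
    · rw [IsScalarTower.algebraMap_eq A Ω₀ (AdjoinRoot g)]
      exact hofinj.comp hinj₀
    · intro i
      refine Fin.cases ?_ (fun j => ?_) i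
      · simp only [Fin.cons_zero]
        have h1 : eval₂ (AdjoinRoot.of g) (AdjoinRoot.root g) g = 0 := AdjoinRoot.eval₂_root g
        simp only [g, eval₂_sub, eval₂_pow, eval₂_X, eval₂_C] at h1
        rw [IsScalarTower.algebraMap_eq A Ω₀ (AdjoinRoot g)]
        exact sub_eq_zero.mp h1
      · simp only [Fin.cons_succ]
        rw [← map_pow, ht₀ j, IsScalarTower.algebraMap_eq A Ω₀ (AdjoinRoot g)]
        rfl

end KumH8
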