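import Mathlib
import Groth.Prelude.Def_SGA1
import Groth.Agent.Lib.Kum1_helper8
import Groth.Agent.Lib.LocSurj1_helper8

set_option autoImplicit false
universe u

namespace KumH8

open IsLocalRing

section basic

variable {A : Type u} [CommRing A] {r : ℕ} (f : Fin r → A) (n : Fin r → ℕ)

/-- The class of `T_i`. -/
noncomputable def T (i : Fin r) : SGA1.kummerAlg A f n :=
  Ideal.Quotient.mk _ (MvPolynomial.X i)

theorem T_pow (i : Fin r) : T f n i ^ n i = algebraMap A (SGA1.kummerAlg A f n) (f i) := by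
  unfold T
  rw [← map_pow]
  have h1 : algebraMap A (SGA1.kummerAlg A f n) (f i) =
      Ideal.Quotient.mk _ (MvPolynomial.C (f i)) := rfl
  rw [h1, Ideal.Quotient.eq]
  exact Ideal.subset_span ⟨i, rfl⟩

/-- Maps out of the Kummer algebra. -/
noncomputable def lift {Ω : Type u} [CommRing Ω] [Algebra A Ω] (t : Fin r → Ω)
    (ht : ∀ i, t i ^ n i = algebraMap A Ω (f i)) : SGA1.kummerAlg A f n →ₐ[A] Ω :=
  Ideal.Quotient.liftₐ _ (MvPolynomial.aeval t) (by
    intro a ha
    have hle : Ideal.span (Set.range fun i =>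
        (MvPolynomial.X i : MvPolynomial (Fin r) A) ^ n i - MvPolynomial.C (f i)) ≤
        RingHom.ker (MvPolynomial.aeval t : MvPolynomial (Fin r) A →ₐ[A] Ω) := by
      rw [Ideal.span_le]
      rintro _ ⟨i, rfl⟩
      simp [RingHom.mem_ker, ht i]
    exact hle ha)

theorem lift_T {Ω : Type u} [CommRing Ω] [Algebra A Ω] (t : Fin r → Ω)
    (ht : ∀ i, t i ^ n i = algebraMap A Ω (f i)) (i : Fin r) : lift f n t ht (T f n i) = t i := by
  unfold lift T
  simp

theorem algebraMap_injective [Nontrivial A] (hn : ∀ i, 1 ≤ n i) :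
    Function.Injective (algebraMap A (SGA1.kummerAlg A f n)) := by
  obtain ⟨Ω, _, _, hinj, t, ht⟩ := exists_roots r f n hn
  intro a b hab
  apply hinj
  have h1 : ∀ c : A, algebraMap A Ω c = lift f n t ht (algebraMap A (SGA1.kummerAlg A f n) c) := by
    intro c
    simp
  rw [h1, h1, hab]

theorem adjoin_T : Algebra.adjoin A (Set.range (T f n)) = ⊤ := by
  have h1 : Function.Surjective (Ideal.Quotient.mkₐ A (Ideal.span (Set.range fun i =>
      (MvPolynomial.X i : MvPolynomial (Fin r) A) ^ n i - MvPolynomial.C (f i)))) :=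
    Ideal.Quotient.mkₐ_surjective _ _
  have h2 := Algebra.map_top (Ideal.Quotient.mkₐ A (Ideal.span (Set.range fun i =>
      (MvPolynomial.X i : MvPolynomial (Fin r) A) ^ n i - MvPolynomial.C (f i))))
  rw [← MvPolynomial.adjoin_range_X, AlgHom.map_adjoin, (AlgHom.range_eq_top _).mpr h1,
    ← Set.range_comp] at h2
  exact h2

theorem isIntegral_T (hn : ∀ i, 1 ≤ n i) (i : Fin r) : IsIntegral A (T f n i) := by
  refine ⟨Polynomial.X ^ n i - Polynomial.C (f i),
    Polynomial.monic_X_pow_sub_C _ (by have := hn i; omega), ?_⟩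
  simp [T_pow]

theorem isIntegral (hn : ∀ i, 1 ≤ n i) : Algebra.IsIntegral A (SGA1.kummerAlg A f n) := by
  constructor
  intro x
  have h1 : Algebra.adjoin A (Set.range (T f n)) ≤ integralClosure A (SGA1.kummerAlg A f n) := by
    apply Algebra.adjoin_le
    rintro _ ⟨i, rfl⟩
    exact isIntegral_T f n hn i
  rw [adjoin_T] at h1
  exact h1 Algebra.mem_top

theorem finite (hn : ∀ i, 1 ≤ n i) : Module.Finite A (SGA1.kummerAlg A f n) := by
  haveI := isIntegral f n hn
  exact Algebra.IsIntegral.finite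

end basic

section loc

variable {A : Type u} [CommRing A] [IsLocalRing A] {r : ℕ} (f : Fin r → A) (n : Fin r → ℕ)
  (hm : ∀ i, f i ∈ maximalIdeal A) (hn : ∀ i, 1 ≤ n i)

include hm hn in
theorem T_mem_of_isMaximal (M : Ideal (SGA1.kummerAlg A f n)) (hM : M.IsMaximal) :
    (∀ i, T f n i ∈ M) ∧ (maximalIdeal A).map (algebraMap A (SGA1.kummerAlg A f n)) ≤ M := by
  haveI := isIntegral f n hn
  have h1 : (M.comap (algebraMap A (SGA1.kummerAlg A f n))).IsMaximal :=
    Ideal.isMaximal_comap_of_isIntegral_of_isMaximal M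
  have h2 : M.comap (algebraMap A (SGA1.kummerAlg A f n)) = maximalIdeal A :=
    IsLocalRing.eq_maximalIdeal h1
  have h3 : (maximalIdeal A).map (algebraMap A (SGA1.kummerAlg A f n)) ≤ M := by
    rw [← h2]; exact Ideal.map_comap_le
  refine ⟨fun i => ?_, h3⟩
  have h4 : T f n i ^ n i ∈ M := by
    rw [T_pow]
    exact h3 (Ideal.mem_map_of_mem _ (hm i))
  exact hM.isPrime.mem_of_pow_mem _ h4

omit [IsLocalRing A] in
theorem exists_sub_mem_span (b : SGA1.kummerAlg A f n) :
    ∃ a : A, b - algebraMap A (SGA1.kummerAlg A f n) a ∈ Ideal.span (Set.range (T f n)) := by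
  obtain ⟨P, rfl⟩ := Ideal.Quotient.mk_surjective b
  refine ⟨MvPolynomial.constantCoeff P, ?_⟩
  have h1 : P - MvPolynomial.C (MvPolynomial.constantCoeff P) ∈
      Ideal.span (MvPolynomial.X '' (Set.univ : Set (Fin r)) : Set (MvPolynomial (Fin r) A)) := by
    rw [MvPolynomial.mem_ideal_span_X_image]
    intro m hm'
    by_contra hcon
    push Not at hcon
    have hm0 : m = 0 := by
      ext i
      simpa using hcon i (Set.mem_univ i)
    rw [MvPolynomial.mem_support_iff, hm0] at hm'
    apply hm'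
    simp [MvPolynomial.constantCoeff_eq]
  have h2 : Ideal.Quotient.mk _ P - algebraMap A (SGA1.kummerAlg A f n) (MvPolynomial.constantCoeff P)
      = Ideal.Quotient.mk (Ideal.span (Set.range fun i =>
      (MvPolynomial.X i : MvPolynomial (Fin r) A) ^ n i - MvPolynomial.C (f i)))
        (P - MvPolynomial.C (MvPolynomial.constantCoeff P)) := by
    rw [map_sub]; rfl
  rw [h2]
  have h3 : Ideal.span (Set.range (T f n)) = (Ideal.span (MvPolynomial.X '' (Set.univ : Set (Fin r)) :
      Set (MvPolynomial (Fin r) A))).map (Ideal.Quotient.mk (Ideal.span (Set.range fun i =>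
      (MvPolynomial.X i : MvPolynomial (Fin r) A) ^ n i - MvPolynomial.C (f i)))) := by
    rw [Ideal.map_span, Set.image_univ, ← Set.range_comp]
    rfl
  rw [h3]
  exact Ideal.mem_map_of_mem _ h1

include hm hn in
theorem isLocalRing : IsLocalRing (SGA1.kummerAlg A f n) := by
  haveI : Nontrivial (SGA1.kummerAlg A f n) := (algebraMap_injective f n hn).nontrivial
  refine LocSurjH8.isLocalRing_of_surjective (Ideal.span (Set.range (T f n))) ?_
    (exists_sub_mem_span f n)
  rw [Ideal.span_le]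
  rintro _ ⟨i, rfl⟩
  show T f n i ∈ Ideal.jacobson ⊥
  rw [Ideal.jacobson, Ideal.mem_sInf]
  rintro M ⟨-, hM⟩
  exact (T_mem_of_isMaximal f n hm hn M hM).1 i

include hm hn in
theorem maximalIdeal_eq [IsLocalRing (SGA1.kummerAlg A f n)] :
    maximalIdeal (SGA1.kummerAlg A f n) = Ideal.span (Set.range (T f n)) ⊔
      (maximalIdeal A).map (algebraMap A (SGA1.kummerAlg A f n)) := by
  haveI : Nontrivial (SGA1.kummerAlg A f n) := (algebraMap_injective f n hn).nontrivial
  have h := T_mem_of_isMaximal f n hm hn _ (maximalIdeal.isMaximal (SGA1.kummerAlg A f n))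
  refine LocSurjH8.maximalIdeal_eq (Ideal.span (Set.range (T f n))) ?_ h.2
    (exists_sub_mem_span f n)
  rw [Ideal.span_le]
  rintro _ ⟨i, rfl⟩
  exact h.1 i

end loc

end KumH8
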