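import Mathlib

set_option autoImplicit false
universe u

namespace KumH8

open IsLocalRing

/-- A family in the maximal ideal of a Noetherian local ring whose images in the cotangent space are linearly
independent extends to a generating set of the maximal ideal with `dim m/m²` elements. -/
theorem exists_generators {A : Type u} [CommRing A] [IsLocalRing A] [IsNoetherianRing A] {r : ℕ}
    (f : Fin r → A) (hm : ∀ i, f i ∈ maximalIdeal A)
    (hf : LinearIndependent (ResidueField A)
      (fun i => (maximalIdeal A).toCotangent ⟨f i, hm i⟩)) :
    ∃ G : Set A, G.Finite ∧ r + G.ncard ≤ Module.finrank (ResidueField A) (CotangentSpace A) ∧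
      maximalIdeal A = Ideal.span (Set.range f ∪ G) := by
  classical
  let v : Fin r → CotangentSpace A := fun i => (maximalIdeal A).toCotangent ⟨f i, hm i⟩
  have hs : LinearIndepOn (ResidueField A) id (Set.range v) := hf.linearIndepOn_id
  let E : Set (CotangentSpace A) := hs.extend (Set.subset_univ _)
  let b : Module.Basis E (ResidueField A) (CotangentSpace A) := Module.Basis.extend hs
  have hsE : Set.range v ⊆ E := Module.Basis.subset_extend hs
  haveI : Fintype E := FiniteDimensional.fintypeBasisIndex b
  have hEfin : E.Finite := Set.toFinite E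
  have hcardE : E.ncard = Module.finrank (ResidueField A) (CotangentSpace A) := by
    rw [Module.finrank_eq_nat_card_basis b, Nat.card_coe_set_eq]
  have hcards : (Set.range v).ncard = r := by
    rw [← Set.image_univ, Set.ncard_image_of_injective _ hf.injective, Set.ncard_univ,
      Nat.card_eq_fintype_card, Fintype.card_fin]
  have hsurj : Function.Surjective (maximalIdeal A).toCotangent :=
    (maximalIdeal A).toCotangent_surjective
  let lift : CotangentSpace A → maximalIdeal A := Function.surjInv hsurj
  have hlift : ∀ e, (maximalIdeal A).toCotangent (lift e) = e := Function.surjInv_eq hsurj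
  let W : Set (maximalIdeal A) := Set.range (fun i => (⟨f i, hm i⟩ : maximalIdeal A)) ∪
    lift '' (E \ Set.range v)
  have hW : Submodule.span A W = ⊤ := by
    rw [← CotangentSpace.span_image_eq_top_iff]
    rw [eq_top_iff, ← b.span_eq]
    apply Submodule.span_mono
    rintro _ ⟨e, rfl⟩
    have hbe : b e = (e : CotangentSpace A) := Module.Basis.extend_apply_self hs e
    rw [hbe]
    by_cases he : (e : CotangentSpace A) ∈ Set.range v
    · obtain ⟨i, hi⟩ := he
      exact ⟨⟨f i, hm i⟩, Or.inl ⟨i, rfl⟩, hi⟩
    · exact ⟨lift e, Or.inr ⟨e, ⟨e.2, he⟩, rfl⟩, hlift e⟩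
  refine ⟨Subtype.val '' (lift '' (E \ Set.range v)),
    ((hEfin.sdiff).image _).image _, ?_, ?_⟩
  · have h1 : (Subtype.val '' (lift '' (E \ Set.range v))).ncard ≤ (E \ Set.range v).ncard :=
      (Set.ncard_image_le ((hEfin.sdiff).image _)).trans (Set.ncard_image_le hEfin.sdiff)
    have h2 : (E \ Set.range v).ncard = E.ncard - (Set.range v).ncard :=
      Set.ncard_diff hsE (Set.finite_range v)
    have h3 : (Set.range v).ncard ≤ E.ncard := Set.ncard_le_ncard hsE hEfin
    omega
  · have h1 : (maximalIdeal A) = Submodule.map (maximalIdeal A).subtype (Submodule.span A W) := by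
      rw [hW, Submodule.map_top, Submodule.range_subtype]
    rw [Submodule.map_span] at h1
    have h2 : (maximalIdeal A).subtype '' W = Set.range f ∪
        Subtype.val '' (lift '' (E \ Set.range v)) := by
      simp only [W, Set.image_union]
      congr 1
      ext a
      simp
    rw [h2] at h1
    exact h1

end KumH8
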