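import Mathlib
import Groth.Prelude.Def_SGA1
import Groth.Agent.Lib.Kum2_helper8
import Groth.Agent.Lib.Kum3_helper8
import Groth.Agent.Lib.IntegralHeight_helper5

set_option autoImplicit false
universe u

namespace KumH8

open IsLocalRing

theorem isRegularLocalRing_kummer (A : Type u) [CommRing A] [IsRegularLocalRing A] (r : ℕ)
    (f : Fin r → A) (hm : ∀ i, f i ∈ maximalIdeal A)
    (hf : LinearIndependent (ResidueField A)
      (fun i => (maximalIdeal A).toCotangent ⟨f i, hm i⟩))
    (n : Fin r → ℕ) (hn : ∀ i, 1 ≤ n i) : IsRegularLocalRing (SGA1.kummerAlg A f n) := by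
  haveI := isLocalRing f n hm hn
  haveI : IsNoetherianRing (SGA1.kummerAlg A f n) := inferInstance
  haveI := isIntegral f n hn
  apply IsRegularLocalRing.of_spanFinrank_maximalIdeal_le
  obtain ⟨G, hGfin, hcard, hG⟩ := exists_generators f hm hf
  have hmax := maximalIdeal_eq f n hm hn
  have hm' : maximalIdeal (SGA1.kummerAlg A f n) =
      Ideal.span (Set.range (T f n) ∪ algebraMap A (SGA1.kummerAlg A f n) '' G) := by
    rw [hmax, hG, Ideal.map_span, Set.image_union, Ideal.span_union, Ideal.span_union]
    apply le_antisymm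
    · refine sup_le le_sup_left (sup_le ?_ le_sup_right)
      rw [Ideal.span_le]
      rintro _ ⟨_, ⟨i, rfl⟩, rfl⟩
      apply Ideal.mem_sup_left
      rw [← T_pow]
      have hTi : T f n i ∈ Ideal.span (Set.range (T f n)) := Ideal.subset_span ⟨i, rfl⟩
      exact Ideal.pow_mem_of_mem _ hTi _ (hn i)
    · exact sup_le le_sup_left (le_sup_of_le_right le_sup_right)
  have hfin : (Set.range (T f n) ∪ algebraMap A (SGA1.kummerAlg A f n) '' G).Finite :=
    (Set.finite_range _).union (hGfin.image _)
  have h1 : (maximalIdeal (SGA1.kummerAlg A f n)).spanFinrank ≤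
      (Set.range (T f n) ∪ algebraMap A (SGA1.kummerAlg A f n) '' G).ncard := by
    rw [hm']
    exact Submodule.spanFinrank_span_le_ncard_of_finite hfin
  have h2 : (Set.range (T f n) ∪ algebraMap A (SGA1.kummerAlg A f n) '' G).ncard ≤
      r + G.ncard := by
    refine (Set.ncard_union_le _ _).trans (add_le_add ?_ (Set.ncard_image_le hGfin))
    rw [← Set.image_univ]
    refine (Set.ncard_image_le Set.finite_univ).trans ?_
    rw [Set.ncard_univ, Nat.card_eq_fintype_card, Fintype.card_fin]
  have h3 : ringKrullDim (SGA1.kummerAlg A f n) = ringKrullDim A :=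
    Groth.Agent.IntegralHeight.ringKrullDim_eq_of_isIntegral_of_injective A _
      (algebraMap_injective f n hn)
  have h4 : ringKrullDim A = ((maximalIdeal A).spanFinrank : WithBot ℕ∞) :=
    (IsRegularLocalRing.spanFinrank_maximalIdeal (R := A)).symm
  have h5 : (maximalIdeal A).spanFinrank =
      Module.finrank (ResidueField A) (CotangentSpace A) :=
    IsLocalRing.spanFinrank_maximalIdeal_eq_finrank_cotangentSpace A
  rw [h3, h4, h5]
  exact_mod_cast (h1.trans h2).trans hcard

end KumH8
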