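import Mathlib
import Groth.Prelude.Def_SGA1
import Groth.Agent.Lib.Kum2_helper8

set_option autoImplicit false
universe u

namespace KumH8

open Polynomial

section pair

variable {R : Type u} [CommRing R]

/-- The standard étale pair `(X^m - a, 1)` for units `m`, `a`. -/
noncomputable def kummerPair (m : ℕ) (hm : 1 ≤ m) (a : R) (ha : IsUnit a) (hmu : IsUnit (m : R)) :
    StandardEtalePair R where
  f := X ^ m - C a
  monic_f := monic_X_pow_sub_C _ (by omega)
  g := 1
  cond := by
    obtain ⟨u, hu⟩ := ha.exists_right_inv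
    obtain ⟨v, hv⟩ := hmu.exists_right_inv
    refine ⟨C (v * u) * X, - C u, 0, ?_⟩
    have h1 : derivative (X ^ m - C a : R[X]) = C (m : R) * X ^ (m - 1) := by
      rw [derivative_sub, derivative_C, sub_zero, derivative_X_pow]
    rw [h1, pow_zero]
    have h2 : (X : R[X]) ^ (m - 1) * X = X ^ m := by
      rw [← pow_succ]; congr 1; omega
    have h3 : C (m : R) * X ^ (m - 1) * (C (v * u) * X) = C ((m : R) * v * u) * X ^ m := by
      rw [← h2]; simp only [map_mul]; ring
    rw [h3, hv, one_mul]
    have h4 : (X ^ m - C a) * -C u = - (C u * X ^ m) + C (a * u) := by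
      simp only [map_mul]; ring
    rw [h4, hu, map_one]
    ring

theorem kummerPair_hasMap {m : ℕ} {hm : 1 ≤ m} {a : R} {ha : IsUnit a} {hmu : IsUnit (m : R)}
    {C' : Type u} [CommRing C'] [Algebra R C'] (x : C') :
    (kummerPair m hm a ha hmu).HasMap x ↔ x ^ m = algebraMap R C' a := by
  unfold StandardEtalePair.HasMap kummerPair
  simp [sub_eq_zero]

end pair

section etale

variable {A : Type u} [CommRing A] {r : ℕ} (f : Fin r → A) (n : Fin r → ℕ)
  (R S : Type u) [CommRing R] [CommRing S] [Algebra A R] [Algebra (SGA1.kummerAlg A f n) S]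
  [Algebra R S] [Algebra A S] [IsScalarTower A R S] [IsScalarTower A (SGA1.kummerAlg A f n) S]
  [IsLocalization.Away (∏ i, f i) R]
  [IsLocalization.Away (algebraMap A (SGA1.kummerAlg A f n) (∏ i, f i)) S]

omit [Algebra (SGA1.kummerAlg A f n) S] [Algebra R S] [Algebra A S] [IsScalarTower A R S]
  [IsScalarTower A (SGA1.kummerAlg A f n) S]
  [IsLocalization.Away (algebraMap A (SGA1.kummerAlg A f n) (∏ i, f i)) S] [CommRing S] in
theorem isUnit_algebraMap_f (i : Fin r) : IsUnit (algebraMap A R (f i)) := by
  have h1 : IsUnit (algebraMap A R (∏ i, f i)) := IsLocalization.Away.algebraMap_isUnit _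
  have h2 : f i ∣ ∏ i, f i := Finset.dvd_prod_of_mem f (Finset.mem_univ i)
  exact isUnit_of_dvd_unit (map_dvd (algebraMap A R) h2) h1

variable {C' : Type u} [CommRing C'] [Algebra R C']

include R in
theorem algHom_ext (ψ₁ ψ₂ : S →ₐ[R] C')
    (h : ∀ i, ψ₁ (algebraMap (SGA1.kummerAlg A f n) S (T f n i)) =
      ψ₂ (algebraMap (SGA1.kummerAlg A f n) S (T f n i))) : ψ₁ = ψ₂ := by
  apply AlgHom.coe_ringHom_injective
  apply IsLocalization.ringHom_ext
    (Submonoid.powers (algebraMap A (SGA1.kummerAlg A f n) (∏ i, f i)))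
  apply Ideal.Quotient.ringHom_ext
  apply MvPolynomial.ringHom_ext
  · intro a
    have h1 : algebraMap (SGA1.kummerAlg A f n) S
        (Ideal.Quotient.mk _ (MvPolynomial.C a)) = algebraMap R S (algebraMap A R a) := by
      have : (Ideal.Quotient.mk (Ideal.span (Set.range fun i =>
          (MvPolynomial.X i : MvPolynomial (Fin r) A) ^ n i - MvPolynomial.C (f i)))
            (MvPolynomial.C a)) = algebraMap A (SGA1.kummerAlg A f n) a := rfl
      rw [this, ← IsScalarTower.algebraMap_apply A (SGA1.kummerAlg A f n) S,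
        ← IsScalarTower.algebraMap_apply A R S]
    simp only [RingHom.comp_apply, AlgHom.coe_toRingHom, RingHom.coe_coe]
    rw [h1, AlgHom.commutes, AlgHom.commutes]
  · intro i
    exact h i

include R in
theorem exists_algHom (t : Fin r → C')
    (ht : ∀ i, t i ^ n i = algebraMap R C' (algebraMap A R (f i))) :
    ∃ ψ : S →ₐ[R] C', ∀ i, ψ (algebraMap (SGA1.kummerAlg A f n) S (T f n i)) = t i := by
  letI : Algebra A C' := Algebra.compHom C' (algebraMap A R)
  haveI : IsScalarTower A R C' := IsScalarTower.of_algebraMap_eq (fun _ => rfl)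
  have ht' : ∀ i, t i ^ n i = algebraMap A C' (f i) := ht
  have hF : IsUnit ((lift f n t ht').toRingHom
      (algebraMap A (SGA1.kummerAlg A f n) (∏ i, f i))) := by
    show IsUnit (lift f n t ht' (algebraMap A (SGA1.kummerAlg A f n) (∏ i, f i)))
    rw [AlgHom.commutes]
    exact (IsLocalization.Away.algebraMap_isUnit (S := R) (∏ i, f i)).map (algebraMap R C')
  have hψ₁ : ∀ b, IsLocalization.Away.lift (S := S)
      (algebraMap A (SGA1.kummerAlg A f n) (∏ i, f i)) hF (algebraMap _ S b) =
      lift f n t ht' b := IsLocalization.Away.lift_eq _ hF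
  have hcomm : ∀ x : R, IsLocalization.Away.lift (S := S)
      (algebraMap A (SGA1.kummerAlg A f n) (∏ i, f i)) hF (algebraMap R S x) =
      algebraMap R C' x := by
    have : (IsLocalization.Away.lift (S := S)
        (algebraMap A (SGA1.kummerAlg A f n) (∏ i, f i)) hF).comp (algebraMap R S) =
        algebraMap R C' := by
      apply IsLocalization.ringHom_ext (Submonoid.powers (∏ i, f i))
      ext a
      simp only [RingHom.comp_apply]
      rw [← IsScalarTower.algebraMap_apply A R S,
        IsScalarTower.algebraMap_apply A (SGA1.kummerAlg A f n) S, hψ₁, AlgHom.commutes]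
      rfl
    exact fun x => RingHom.congr_fun this x
  refine ⟨{ IsLocalization.Away.lift (S := S)
      (algebraMap A (SGA1.kummerAlg A f n) (∏ i, f i)) hF with commutes' := hcomm }, fun i => ?_⟩
  show IsLocalization.Away.lift (S := S)
      (algebraMap A (SGA1.kummerAlg A f n) (∏ i, f i)) hF _ = _
  rw [hψ₁]
  exact lift_T f n t ht' i

include f in
theorem formallyEtale (hn : ∀ i, 1 ≤ n i) (hnu : ∀ i, IsUnit ((n i : ℕ) : R)) :
    Algebra.FormallyEtale R S := by
  rw [Algebra.FormallyEtale.iff_comp_bijective]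
  intro D _ _ N hN
  have hTmap : ∀ (E : Type u) [CommRing E] [Algebra R E] (φ : S →ₐ[R] E) (i : Fin r),
      (kummerPair (n i) (hn i) (algebraMap A R (f i)) (isUnit_algebraMap_f f R i) (hnu i)).HasMap
        (φ (algebraMap (SGA1.kummerAlg A f n) S (T f n i))) := by
    intro E _ _ φ i
    rw [kummerPair_hasMap, ← map_pow, ← map_pow, T_pow,
      ← IsScalarTower.algebraMap_apply A (SGA1.kummerAlg A f n) S,
      IsScalarTower.algebraMap_apply A R S, AlgHom.commutes]
  constructor
  · intro ψ ψ' hψ
    apply algHom_ext f n R S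
    intro i
    have hx := hTmap D ψ i
    have hx' := hTmap D ψ' i
    have hmem : ψ' (algebraMap (SGA1.kummerAlg A f n) S (T f n i)) -
        ψ (algebraMap (SGA1.kummerAlg A f n) S (T f n i)) ∈ N := by
      have h1 := congrArg (fun φ : S →ₐ[R] D ⧸ N =>
        φ (algebraMap (SGA1.kummerAlg A f n) S (T f n i))) hψ
      simp only [AlgHom.comp_apply, Ideal.Quotient.mkₐ_eq_mk] at h1
      rw [← Ideal.Quotient.eq]
      exact h1.symm
    have hq : (kummerPair (n i) (hn i) (algebraMap A R (f i)) (isUnit_algebraMap_f f R i)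
        (hnu i)).HasMap (Ideal.Quotient.mk N
          (ψ (algebraMap (SGA1.kummerAlg A f n) S (T f n i)))) :=
      hTmap (D ⧸ N) ((Ideal.Quotient.mkₐ R N).comp ψ) i
    obtain ⟨ε, -, huniq⟩ := (kummerPair (n i) (hn i) (algebraMap A R (f i))
      (isUnit_algebraMap_f f R i) (hnu i)).existsUnique_hasMap_of_hasMap_quotient_of_sq_eq_bot
        N hN _ hq
    have h0 : (0 : D) = ε := huniq 0 ⟨N.zero_mem, by simpa using hx⟩
    have h1 : ψ' (algebraMap (SGA1.kummerAlg A f n) S (T f n i)) -
        ψ (algebraMap (SGA1.kummerAlg A f n) S (T f n i)) = ε :=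
      huniq _ ⟨hmem, by simpa using hx'⟩
    rw [← h0] at h1
    exact (sub_eq_zero.mp h1).symm
  · intro ψb
    choose x hx using fun i => Ideal.Quotient.mk_surjective
      (ψb (algebraMap (SGA1.kummerAlg A f n) S (T f n i)))
    have hxmap : ∀ i, (kummerPair (n i) (hn i) (algebraMap A R (f i)) (isUnit_algebraMap_f f R i)
        (hnu i)).HasMap (Ideal.Quotient.mk N (x i)) := by
      intro i
      rw [hx]
      exact hTmap (D ⧸ N) ψb i
    choose ε hε using fun i => ((kummerPair (n i) (hn i) (algebraMap A R (f i))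
      (isUnit_algebraMap_f f R i) (hnu i)).existsUnique_hasMap_of_hasMap_quotient_of_sq_eq_bot
        N hN (x i) (hxmap i)).exists
    obtain ⟨ψ, hψ⟩ := exists_algHom f n R S (fun i => x i + ε i)
      (fun i => (kummerPair_hasMap _).mp (hε i).2)
    refine ⟨ψ, ?_⟩
    apply algHom_ext f n R S
    intro i
    show Ideal.Quotient.mk N (ψ (algebraMap (SGA1.kummerAlg A f n) S (T f n i))) = _
    rw [hψ, map_add, hx, Ideal.Quotient.eq_zero_iff_mem.mpr (hε i).1, add_zero]

include f in
theorem etale (hn : ∀ i, 1 ≤ n i) (hnu : ∀ i, IsUnit ((n i : ℕ) : R)) :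
    Algebra.Etale R S := by
  haveI h0 := formallyEtale f n R S hn hnu
  haveI h1 : Algebra.FinitePresentation A (SGA1.kummerAlg A f n) :=
    Algebra.FinitePresentation.quotient (Submodule.fg_span (Set.finite_range _))
  haveI h2 : Algebra.FinitePresentation (SGA1.kummerAlg A f n) S :=
    IsLocalization.Away.finitePresentation (algebraMap A (SGA1.kummerAlg A f n) (∏ i, f i))
  haveI h3 : Algebra.FinitePresentation A S :=
    Algebra.FinitePresentation.trans A (SGA1.kummerAlg A f n) S
  haveI h4 : Algebra.FinitePresentation A R :=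
    IsLocalization.Away.finitePresentation (∏ i, f i)
  haveI h5 : Algebra.FinitePresentation R S :=
    Algebra.FinitePresentation.of_restrict_scalars_finitePresentation A R S
  exact {}

end etale

end KumH8
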