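import Mathlib

/-!
# The Kummer algebra `R[T]/(T^d - u)` : functoriality, change of root, coefficients (helper5)
APPEND-ONLY once landed.
-/

set_option autoImplicit false
universe u

namespace Groth.Agent.KumAlg

open Polynomial

variable {R R' R'' : Type u} [CommRing R] [CommRing R'] [CommRing R'']

/-- The Kummer polynomial `T^d - u`. -/
noncomputable def pol (d : ℕ) (u : R) : R[X] := X ^ d - C u

theorem pol_monic {d : ℕ} (hd : 0 < d) (u : R) : (pol d u).Monic :=
  monic_X_pow_sub_C u hd.ne'

/-- The Kummer algebra `R[T]/(T^d - u)`. -/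
abbrev K (d : ℕ) (u : R) : Type u := AdjoinRoot (pol d u)

/-- The structure map. -/
noncomputable abbrev ofK (d : ℕ) (u : R) : R →+* K d u := AdjoinRoot.of (pol d u)

/-- The root `T`. -/
noncomputable abbrev rt (d : ℕ) (u : R) : K d u := AdjoinRoot.root (pol d u)

theorem eval₂_pol {S : Type*} [CommRing S] (d : ℕ) (u : R) (i : R →+* S) (x : S) :
    (pol d u).eval₂ i x = x ^ d - i u := by
  unfold pol
  rw [eval₂_sub, eval₂_pow, eval₂_X, eval₂_C]

theorem rt_pow (d : ℕ) (u : R) : rt d u ^ d = ofK d u u := by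
  have h := AdjoinRoot.eval₂_root (pol d u)
  rw [eval₂_pol, sub_eq_zero] at h
  exact h

theorem isUnit_rt {d : ℕ} (hd : 0 < d) {u : R} (hu : IsUnit u) : IsUnit (rt d u) := by
  have h : IsUnit (rt d u ^ d) := by
    rw [rt_pow]
    exact hu.map (ofK d u)
  exact (isUnit_pow_iff hd.ne').mp h

theorem ringHom_ext {S : Type*} [Semiring S] {d : ℕ} {u : R} {f g : K d u →+* S}
    (h1 : ∀ r : R, f (ofK d u r) = g (ofK d u r)) (h2 : f (rt d u) = g (rt d u)) : f = g :=
  AdjoinRoot.ringHom_ext (RingHom.ext h1) h2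

/-- Functoriality in the base ring. -/
noncomputable def mapK (d : ℕ) (f : R →+* R') {u : R} {u' : R'} (h : f u = u') :
    K d u →+* K d u' :=
  AdjoinRoot.lift ((ofK d u').comp f) (rt d u') (by
    rw [eval₂_pol, RingHom.comp_apply, h, rt_pow, sub_self])

@[simp] theorem mapK_of (d : ℕ) (f : R →+* R') {u : R} {u' : R'} (h : f u = u') (r : R) :
    mapK d f h (ofK d u r) = ofK d u' (f r) := by
  unfold mapK
  rw [AdjoinRoot.lift_of]
  rfl

@[simp] theorem mapK_rt (d : ℕ) (f : R →+* R') {u : R} {u' : R'} (h : f u = u') :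
    mapK d f h (rt d u) = rt d u' := by
  unfold mapK
  rw [AdjoinRoot.lift_root]

theorem mapK_mapK (d : ℕ) (f : R →+* R') (g : R' →+* R'') {u : R} {u' : R'} {u'' : R''}
    (h : f u = u') (h' : g u' = u'') (h'' : (g.comp f) u = u'') (x : K d u) :
    mapK d g h' (mapK d f h x) = mapK d (g.comp f) h'' x := by
  have : (mapK d g h').comp (mapK d f h) = mapK d (g.comp f) h'' := by
    refine ringHom_ext (fun r => ?_) ?_
    · rw [RingHom.comp_apply, mapK_of, mapK_of, mapK_of, RingHom.comp_apply]
    · rw [RingHom.comp_apply, mapK_rt, mapK_rt, mapK_rt]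
  exact congrArg (fun φ : K d u →+* K d u'' => φ x) this

theorem mapK_id (d : ℕ) {u u' : R} (h : (RingHom.id R) u = u') (h' : u = u') (x : K d u) :
    mapK d (RingHom.id R) h x = h' ▸ x := by
  subst h'
  have : mapK d (RingHom.id R) h = RingHom.id (K d u) := by
    refine ringHom_ext (fun r => ?_) ?_
    · rw [mapK_of]; rfl
    · rw [mapK_rt]; rfl
  exact congrArg (fun φ : K d u →+* K d u => φ x) this

theorem mapK_congr (d : ℕ) {f g : R →+* R'} (hfg : f = g) {u : R} {u' : R'} (h : f u = u')
    (h' : g u = u') (x : K d u) : mapK d f h x = mapK d g h' x := by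
  subst hfg
  rfl

/-- Change of the root: `T ↦ v T`, from `K(v^d u)` to `K(u)`. -/
noncomputable def chg (d : ℕ) (v : R) {u u' : R} (h : u' = v ^ d * u) : K d u' →+* K d u :=
  AdjoinRoot.lift (ofK d u) (ofK d u v * rt d u) (by
    rw [eval₂_pol, mul_pow, rt_pow, h, map_mul, map_pow, sub_self])

@[simp] theorem chg_of (d : ℕ) (v : R) {u u' : R} (h : u' = v ^ d * u) (r : R) :
    chg d v h (ofK d u' r) = ofK d u r := by
  unfold chg
  rw [AdjoinRoot.lift_of]

@[simp] theorem chg_rt (d : ℕ) (v : R) {u u' : R} (h : u' = v ^ d * u) :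
    chg d v h (rt d u') = ofK d u v * rt d u := by
  unfold chg
  rw [AdjoinRoot.lift_root]

theorem chg_chg (d : ℕ) (v w : R) {u u' u'' : R} (h : u' = v ^ d * u) (h' : u'' = w ^ d * u')
    (h'' : u'' = (w * v) ^ d * u) (x : K d u'') :
    chg d v h (chg d w h' x) = chg d (w * v) h'' x := by
  have : (chg d v h).comp (chg d w h') = chg d (w * v) h'' := by
    refine ringHom_ext (fun r => ?_) ?_
    · rw [RingHom.comp_apply, chg_of, chg_of, chg_of]
    · rw [RingHom.comp_apply, chg_rt, map_mul, chg_of, chg_rt, chg_rt, map_mul, mul_assoc]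
  exact congrArg (fun φ : K d u'' →+* K d u => φ x) this

theorem chg_one (d : ℕ) {u u' : R} (h : u' = (1 : R) ^ d * u) (h' : u' = u) (x : K d u') :
    chg d 1 h x = h' ▸ x := by
  subst h'
  have : chg d 1 h = RingHom.id (K d u') := by
    refine ringHom_ext (fun r => ?_) ?_
    · rw [chg_of]; rfl
    · rw [chg_rt, map_one, one_mul]; rfl
  exact congrArg (fun φ : K d u' →+* K d u' => φ x) this

theorem chg_congr (d : ℕ) {v w : R} (hvw : v = w) {u u' : R} (h : u' = v ^ d * u)
    (h' : u' = w ^ d * u) (x : K d u') : chg d v h x = chg d w h' x := by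
  subst hvw
  rfl

theorem mapK_chg (d : ℕ) (f : R →+* R') (v : R) {u u' : R} {w w' : R'} (h : u' = v ^ d * u)
    (hw : f u = w) (hw' : f u' = w') (h' : w' = f v ^ d * w) (x : K d u') :
    mapK d f hw (chg d v h x) = chg d (f v) h' (mapK d f hw' x) := by
  have : (mapK d f hw).comp (chg d v h) = (chg d (f v) h').comp (mapK d f hw') := by
    refine ringHom_ext (fun r => ?_) ?_
    · rw [RingHom.comp_apply, RingHom.comp_apply, chg_of, mapK_of, mapK_of, chg_of]
    · rw [RingHom.comp_apply, RingHom.comp_apply, chg_rt, map_mul, mapK_of, mapK_rt, mapK_rt,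
        chg_rt]
  exact congrArg (fun φ : K d u' →+* K d w => φ x) this

theorem chg_bijective (d : ℕ) {v : R} (hv : IsUnit v) {u u' : R} (h : u' = v ^ d * u) :
    Function.Bijective (chg d v h) := by
  obtain ⟨w, hw⟩ := hv.exists_left_inv
  have hw' : v * w = 1 := by rw [mul_comm]; exact hw
  have h2 : u = w ^ d * u' := by
    rw [h, ← mul_assoc, ← mul_pow, hw, one_pow, one_mul]
  have e1 : ∀ x, chg d w h2 (chg d v h x) = x := by
    intro x
    rw [chg_chg d w v h2 h (by rw [hw', one_pow, one_mul]) x]
    have := chg_one d (u := u') (u' := u') (by rw [one_pow, one_mul]) rfl x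
    rw [chg_congr d hw' _ (by rw [one_pow, one_mul]) x]
    exact this
  have e2 : ∀ x, chg d v h (chg d w h2 x) = x := by
    intro x
    rw [chg_chg d v w h h2 (by rw [hw, one_pow, one_mul]) x]
    have := chg_one d (u := u) (u' := u) (by rw [one_pow, one_mul]) rfl x
    rw [chg_congr d hw _ (by rw [one_pow, one_mul]) x]
    exact this
  exact ⟨Function.LeftInverse.injective e1, Function.RightInverse.surjective e2⟩

section Coef

variable {d : ℕ} (hd : 0 < d) {u : R}

/-- The reduced representative of an element of the Kummer algebra. -/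
noncomputable def rep (x : K d u) : R[X] := AdjoinRoot.modByMonicHom (pol_monic hd u) x

theorem mk_rep (x : K d u) : AdjoinRoot.mk (pol d u) (rep hd x) = x :=
  AdjoinRoot.mk_leftInverse (pol_monic hd u) x

/-- The coefficients of an element of the Kummer algebra. -/
noncomputable def coef (x : K d u) (n : ℕ) : R := (rep hd x).coeff n

theorem coef_eq_zero (x : K d u) {n : ℕ} (hn : d ≤ n) : coef hd x n = 0 := by
  rcases subsingleton_or_nontrivial R with hR | hR
  · exact Subsingleton.elim _ _
  · unfold coef rep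
    apply coeff_eq_zero_of_degree_lt
    obtain ⟨p, rfl⟩ := AdjoinRoot.mk_surjective x
    rw [AdjoinRoot.modByMonicHom_mk]
    refine lt_of_lt_of_le (degree_modByMonic_lt p (pol_monic hd u)) ?_
    unfold pol
    rw [degree_X_pow_sub_C hd u]
    exact_mod_cast hn

/-- The element with given coefficients. -/
noncomputable def ofCoef (d : ℕ) (u : R) (a : ℕ → R) : K d u :=
  ∑ n ∈ Finset.range d, ofK d u (a n) * rt d u ^ n

theorem ofCoef_coef (x : K d u) : ofCoef d u (coef hd x) = x := by
  have h1 : rep hd x = ∑ n ∈ Finset.range d, C (coef hd x n) * X ^ n := by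
    ext m
    rw [finsetSum_coeff]
    simp only [coeff_C_mul, coeff_X_pow]
    by_cases hm : m < d
    · rw [Finset.sum_eq_single m]
      · simp [coef]
      · intro b _ hb
        rw [if_neg (Ne.symm hb), mul_zero]
      · intro hm'
        exact absurd (Finset.mem_range.mpr hm) hm'
    · have h0 : (rep hd x).coeff m = 0 := coef_eq_zero hd x (not_lt.mp hm)
      rw [h0]
      symm
      apply Finset.sum_eq_zero
      intro b hb
      have : m ≠ b := by
        intro h
        rw [h] at hm
        exact hm (Finset.mem_range.mp hb)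
      rw [if_neg this, mul_zero]
  have h2 := mk_rep hd x
  rw [h1, map_sum] at h2
  refine Eq.trans ?_ h2
  unfold ofCoef
  apply Finset.sum_congr rfl
  intro n _
  rw [map_mul, map_pow, AdjoinRoot.mk_C, AdjoinRoot.mk_X]

theorem coef_ofCoef (a : ℕ → R) {n : ℕ} (hn : n < d) : coef hd (ofCoef d u a) n = a n := by
  rcases subsingleton_or_nontrivial R with hR | hR
  · exact Subsingleton.elim _ _
  · let p : R[X] := ∑ m ∈ Finset.range d, C (a m) * X ^ m
    have hp : AdjoinRoot.mk (pol d u) p = ofCoef d u a := by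
      unfold ofCoef
      rw [map_sum]
      apply Finset.sum_congr rfl
      intro m _
      rw [map_mul, map_pow, AdjoinRoot.mk_C, AdjoinRoot.mk_X]
    have hdeg : p.degree < (pol d u).degree := by
      unfold pol
      rw [degree_X_pow_sub_C hd u]
      refine lt_of_le_of_lt (degree_sum_le _ _) ?_
      rw [Finset.sup_lt_iff (by exact_mod_cast WithBot.bot_lt_coe d)]
      intro m hm
      refine lt_of_le_of_lt (degree_C_mul_X_pow_le m (a m)) ?_
      exact_mod_cast Finset.mem_range.mp hm
    have h1 : rep hd (ofCoef d u a) = p := by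
      unfold rep
      rw [← hp, AdjoinRoot.modByMonicHom_mk]
      exact (modByMonic_eq_self_iff (pol_monic hd u)).mpr hdeg
    unfold coef
    rw [h1, finsetSum_coeff]
    simp only [coeff_C_mul, coeff_X_pow]
    rw [Finset.sum_eq_single n]
    · simp
    · intro b _ hb
      rw [if_neg (Ne.symm hb), mul_zero]
    · intro hn'
      exact absurd (Finset.mem_range.mpr hn) hn'

theorem ofCoef_congr {a b : ℕ → R} (h : ∀ n, n < d → a n = b n) : ofCoef d u a = ofCoef d u b := by
  unfold ofCoef
  apply Finset.sum_congr rfl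
  intro n hn
  rw [h n (Finset.mem_range.mp hn)]

theorem ext_coef {x y : K d u} (h : ∀ n, n < d → coef hd x n = coef hd y n) : x = y := by
  rw [← ofCoef_coef hd x, ← ofCoef_coef hd y]
  exact ofCoef_congr h

theorem coef_unique (x : K d u) (a : ℕ → R) (h : x = ofCoef d u a) {n : ℕ} (hn : n < d) :
    coef hd x n = a n := by
  rw [h]
  exact coef_ofCoef hd a hn

theorem mapK_ofCoef (f : R →+* R') {u' : R'} (h : f u = u') (a : ℕ → R) :
    mapK d f h (ofCoef d u a) = ofCoef d u' (fun n => f (a n)) := by
  unfold ofCoef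
  rw [map_sum]
  apply Finset.sum_congr rfl
  intro n _
  rw [map_mul, map_pow, mapK_of, mapK_rt]

theorem coef_mapK (f : R →+* R') {u' : R'} (h : f u = u') (x : K d u) {n : ℕ} (hn : n < d) :
    coef hd (mapK d f h x) n = f (coef hd x n) := by
  apply coef_unique hd _ (fun n => f (coef hd x n)) _ hn
  rw [← mapK_ofCoef f h, ofCoef_coef]

theorem chg_ofCoef (v : R) {u' : R} (h : u' = v ^ d * u) (a : ℕ → R) :
    chg d v h (ofCoef d u' a) = ofCoef d u (fun n => a n * v ^ n) := by
  unfold ofCoef
  rw [map_sum]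
  apply Finset.sum_congr rfl
  intro n _
  rw [map_mul, map_pow, chg_of, chg_rt, mul_pow, map_mul, map_pow, mul_assoc]

theorem coef_chg (v : R) {u' : R} (h : u' = v ^ d * u) (x : K d u') {n : ℕ} (hn : n < d) :
    coef hd (chg d v h x) n = coef hd x n * v ^ n := by
  apply coef_unique hd _ (fun n => coef hd x n * v ^ n) _ hn
  rw [← chg_ofCoef v h, ofCoef_coef]

theorem coef_add (x y : K d u) (n : ℕ) : coef hd (x + y) n = coef hd x n + coef hd y n := by
  unfold coef rep
  rw [map_add, coeff_add]

theorem coef_zero (n : ℕ) : coef hd (0 : K d u) n = 0 := by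
  unfold coef rep
  rw [map_zero, coeff_zero]

theorem coef_of_mul (r : R) (x : K d u) (n : ℕ) :
    coef hd (ofK d u r * x) n = r * coef hd x n := by
  unfold coef rep
  have : ofK d u r * x = r • x := by
    rw [Algebra.smul_def]
    rfl
  rw [this, map_smul, coeff_smul, smul_eq_mul]

theorem coef_of (r : R) : coef hd (ofK d u r) 0 = r ∧ ∀ n, 0 < n → coef hd (ofK d u r) n = 0 := by
  have h : ofK d u r = ofCoef d u (fun n => if n = 0 then r else 0) := by
    unfold ofCoef
    rw [Finset.sum_eq_single 0]
    · simp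
    · intro b _ hb
      dsimp only
      rw [if_neg hb, map_zero, zero_mul]
    · intro h0
      exact absurd (Finset.mem_range.mpr hd) h0
  constructor
  · rw [coef_unique hd _ _ h hd]
    simp
  · intro n hn
    by_cases hnd : n < d
    · rw [coef_unique hd _ _ h hnd, if_neg hn.ne']
    · exact coef_eq_zero hd _ (not_lt.mp hnd)

theorem eq_of_of_coef_eq_zero (x : K d u) (h : ∀ n, 0 < n → n < d → coef hd x n = 0) :
    x = ofK d u (coef hd x 0) := by
  apply ext_coef hd
  intro n hn
  rcases Nat.eq_zero_or_pos n with h0 | h0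
  · subst h0
    exact ((coef_of hd (coef hd x 0)).1).symm
  · rw [h n h0 hn, (coef_of hd (coef hd x 0)).2 n h0]

end Coef

end Groth.Agent.KumAlg
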