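import Mathlib

/-!
# The Kummer-type polynomial `P` with `(1 - ζ)^p P = (1 + (1 - ζ) X)^p - 1` (helper8)
-/

set_option autoImplicit false
universe u

namespace Groth.Agent.Lib.KumH8

open Polynomial IsLocalRing

/-- The universal identity `(1 + X)^p = 1 + X^p + p X R` with `R(0) = 1`. -/
theorem exists_R (p : ℕ) (hp : p.Prime) :
    ∃ R : ℤ[X], (1 + X : ℤ[X]) ^ p = 1 + X ^ p + C (p : ℤ) * X * R ∧ R.coeff 0 = 1 := by
  obtain ⟨r, hr⟩ := exists_add_pow_prime_eq hp (1 : ℤ[X]) X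
  refine ⟨r, ?_, ?_⟩
  · rw [hr, one_pow, mul_one]
    congr 2
  · have h1 := congrArg (fun q : ℤ[X] => q.coeff 1) hr
    beta_reduce at h1
    rw [coeff_one_add_X_pow, Nat.choose_one_right, one_pow, mul_one] at h1
    have h2 : ((1 : ℤ[X]) + X ^ p + (p : ℤ[X]) * X * r).coeff 1 = (p : ℤ) * r.coeff 0 := by
      have hp1 : 1 < p := hp.one_lt
      rw [coeff_add, coeff_add, coeff_one, if_neg (by norm_num), coeff_X_pow,
        if_neg (by omega), zero_add, zero_add]
      have : ((p : ℤ[X]) * X * r) = X * (C (p : ℤ) * r) := by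
        rw [← C_eq_natCast]; push_cast; ring
      rw [this, coeff_X_mul, coeff_C_mul]
    rw [h2] at h1
    have hp0 : (p : ℤ) ≠ 0 := by exact_mod_cast hp.ne_zero
    have h3 : (p : ℤ) * 1 = (p : ℤ) * r.coeff 0 := by rw [mul_one]; exact_mod_cast h1
    exact (mul_left_cancel₀ hp0 h3).symm

section zeta

variable {p : ℕ} (hp : p.Prime) {A : Type u} [CommRing A] [IsDomain A] (ζ : A)
  (hζ : aeval ζ (cyclotomic p ℤ) = 0)

include hp hζ in
theorem zeta_pow : ζ ^ p = 1 := by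
  have h1 : cyclotomic p ℤ ∣ X ^ p - 1 := cyclotomic.dvd_X_pow_sub_one p ℤ
  obtain ⟨q, hq⟩ := h1
  have h2 := congrArg (aeval ζ) hq
  rw [map_mul, hζ, zero_mul, map_sub, map_pow, aeval_X, map_one] at h2
  exact sub_eq_zero.mp h2

include hp hζ in
theorem one_sub_zeta_ne_zero (hpA : (p : A) ≠ 0) : 1 - ζ ≠ 0 := by
  intro h
  have h1 : ζ = 1 := (sub_eq_zero.mp h).symm
  rw [h1] at hζ
  haveI : Fact p.Prime := ⟨hp⟩
  have h2 : aeval (1 : A) (cyclotomic p ℤ) = (p : A) := by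
    rw [aeval_def, eval₂_eq_eval_map, algebraMap_int_eq, map_cyclotomic_int, eval_one_cyclotomic_prime]
  rw [h2] at hζ
  exact hpA hζ

include hp hζ in
/-- `p · R(-w) = (-1)^p w^(p-1)` for `w = 1 - ζ`. -/
theorem p_mul_eq (hpA : (p : A) ≠ 0) (R : ℤ[X])
    (hR : (1 + X : ℤ[X]) ^ p = 1 + X ^ p + C (p : ℤ) * X * R) :
    (p : A) * aeval (-(1 - ζ)) R = (-1) ^ p * (1 - ζ) ^ (p - 1) := by
  have hw := one_sub_zeta_ne_zero hp ζ hζ hpA
  have h1 := congrArg (aeval (-(1 - ζ))) hR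
  rw [map_pow, map_add, map_one, aeval_X, map_add, map_add, map_one, map_pow, aeval_X, map_mul,
    map_mul, aeval_C, aeval_X] at h1
  have h2 : (1 + -(1 - ζ)) = ζ := by ring
  rw [h2, zeta_pow hp ζ hζ] at h1
  have hp1 : p = (p - 1) + 1 := by have := hp.one_lt; omega
  have h3 : (1 - ζ) * ((p : A) * aeval (-(1 - ζ)) R) =
      (1 - ζ) * ((-1) ^ p * (1 - ζ) ^ (p - 1)) := by
    have h4 : (-(1 - ζ)) ^ p = (-1) ^ p * ((1 - ζ) ^ (p - 1) * (1 - ζ)) := by
      rw [← pow_succ, ← hp1, neg_pow]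
    have h5 : (algebraMap ℤ A) (p : ℤ) = (p : A) := by simp
    rw [h5] at h1
    linear_combination h1 + h4
  exact mul_left_cancel₀ hw h3

end zeta

section loc

variable {p : ℕ} (hp : p.Prime) {A : Type u} [CommRing A] [IsDomain A] [IsLocalRing A]
  [CharP (ResidueField A) p] (ζ : A) (hζ : aeval ζ (cyclotomic p ℤ) = 0)

include hp hζ in
theorem one_sub_zeta_mem (hpA : (p : A) ≠ 0) : 1 - ζ ∈ maximalIdeal A := by
  obtain ⟨R, hR, -⟩ := exists_R p hp
  have h1 := p_mul_eq hp ζ hζ hpA R hR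
  have h2 := congrArg (residue A) h1
  rw [map_mul, map_natCast, CharP.cast_eq_zero, zero_mul, map_mul, map_pow, map_pow, map_neg,
    map_one] at h2
  have h3 : (residue A (1 - ζ)) ^ (p - 1) = 0 := by
    rcases mul_eq_zero.mp h2.symm with h | h
    · exact absurd h (pow_ne_zero _ (neg_ne_zero.mpr one_ne_zero))
    · exact h
  rw [← residue_eq_zero_iff]
  exact pow_eq_zero_iff (by have := hp.one_lt; omega) |>.mp h3

omit [IsLocalRing A] [CharP (ResidueField A) p] in
include hp in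
theorem P_monic_natDegree (w : A) (hw : w ≠ 0) (P : A[X])
    (hP : C (w ^ p) * P = (1 + C w * X) ^ p - 1) : P.Monic ∧ P.natDegree = p := by
  have hp0 : 0 < p := hp.pos
  have hlin : (1 + C w * X : A[X]) = C w * X + C 1 := by rw [C_1]; ring
  have hnd : ((1 + C w * X : A[X]) ^ p).natDegree = p := by
    rw [natDegree_pow, hlin, natDegree_linear hw, mul_one]
  have hlc : ((1 + C w * X : A[X]) ^ p).leadingCoeff = w ^ p := by
    rw [leadingCoeff_pow, hlin, leadingCoeff_linear hw]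
  have hdeg1 : (1 : A[X]).natDegree < ((1 + C w * X : A[X]) ^ p).natDegree := by
    rw [natDegree_one, hnd]; exact hp0
  have hnd' : ((1 + C w * X : A[X]) ^ p - 1).natDegree = p := by
    rw [natDegree_sub_eq_left_of_natDegree_lt hdeg1, hnd]
  have hlc' : ((1 + C w * X : A[X]) ^ p - 1).leadingCoeff = w ^ p := by
    rw [leadingCoeff_sub_of_degree_lt, hlc]
    exact degree_lt_degree hdeg1
  have hwp : w ^ p ≠ 0 := pow_ne_zero _ hw
  have h1 : P.natDegree = p := by
    rw [← hnd', ← hP, natDegree_C_mul hwp]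
  refine ⟨?_, h1⟩
  have h2 : (C (w ^ p) * P).leadingCoeff = w ^ p := by rw [hP, hlc']
  rw [leadingCoeff_mul, leadingCoeff_C] at h2
  have h3 : w ^ p * P.leadingCoeff = w ^ p * 1 := by rw [h2, mul_one]
  exact mul_left_cancel₀ hwp h3

include hp hζ in
/-- the reduction of `P` is the Artin–Schreier polynomial `X ^ p - X` -/
theorem P_map_residue (hpA : (p : A) ≠ 0) (P : A[X])
    (hP : C ((1 - ζ) ^ p) * P = (1 + C (1 - ζ) * X) ^ p - 1) :
    P.map (residue A) = X ^ p - X := by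
  haveI : Fact p.Prime := ⟨hp⟩
  obtain ⟨R, hR, hR0⟩ := exists_R p hp
  have hw := one_sub_zeta_ne_zero hp ζ hζ hpA
  have hwm := one_sub_zeta_mem hp ζ hζ hpA
  obtain ⟨w, hwdef⟩ : ∃ w : A, w = 1 - ζ := ⟨_, rfl⟩
  rw [← hwdef] at hP hw hwm
  have hpu := p_mul_eq hp ζ hζ hpA R hR
  rw [← hwdef] at hpu
  obtain ⟨u, hu⟩ : ∃ u : A, u = aeval (-w) R := ⟨_, rfl⟩
  rw [← hu] at hpu
  -- the identity in `A[X]`
  have h1 := congrArg (aeval (C w * X : A[X])) hR
  rw [map_pow, map_add, map_one, aeval_X, map_add, map_add, map_one, map_pow, aeval_X, map_mul,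
    map_mul, aeval_C, aeval_X] at h1
  obtain ⟨Rt, hRt⟩ : ∃ Rt : A[X], Rt = aeval (C w * X : A[X]) R := ⟨_, rfl⟩
  rw [← hRt] at h1
  have h5 : (algebraMap ℤ A[X]) (p : ℤ) = C (p : A) := by simp
  rw [h5] at h1
  -- `C u * P = C u * X ^ p + C ((-1)^p) * X * Rt`
  have hwp : C (w ^ p) ≠ (0 : A[X]) := by
    rw [Ne, C_eq_zero]; exact pow_ne_zero _ hw
  have hp1 : p = (p - 1) + 1 := by have := hp.one_lt; omega
  have h6 : C (w ^ p) * (C u * P) = C (w ^ p) * (C u * X ^ p + C ((-1) ^ p) * X * Rt) := by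
    have h7 : C (w ^ p) * (C u * P) = C u * ((1 + C w * X) ^ p - 1) := by
      rw [← hP]; ring
    rw [h7, h1]
    have h8 : C ((p : A) * u) = C ((-1) ^ p * w ^ (p - 1)) := by rw [hpu]
    have h9 : (C w : A[X]) ^ p = C w ^ (p - 1) * C w := by rw [← pow_succ, ← hp1]
    simp only [C_mul, C_pow] at h8 ⊢
    rw [mul_pow, h9]
    linear_combination (C w * X * Rt) * h8
  have h10 := mul_left_cancel₀ hwp h6
  -- reduce
  have hu1 : residue A u = 1 := by
    have h11 : R = C (R.coeff 0) + X * R.divX := by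
      conv_lhs => rw [← divX_mul_X_add R]
      ring
    rw [hu, h11, hR0, map_add, map_mul, aeval_X, aeval_C, map_add, map_mul, map_neg,
      (residue_eq_zero_iff w).mpr hwm]
    simp
  have hRt1 : Rt.map (residue A) = 1 := by
    have h12 : Rt.map (residue A) =
        aeval ((C w * X : A[X]).map (residue A)) R := by
      rw [hRt]
      exact (Polynomial.aeval_algHom_apply ((mapRingHom (residue A)).toIntAlgHom) (C w * X) R).symm
    rw [h12, Polynomial.map_mul, map_C, (residue_eq_zero_iff w).mpr hwm, C_0, zero_mul,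
      ← coeff_zero_eq_aeval_zero', hR0]
    simp
  have h13 := congrArg (Polynomial.map (residue A)) h10
  rw [Polynomial.map_mul, map_C, hu1, C_1, one_mul, Polynomial.map_add, Polynomial.map_mul,
    Polynomial.map_mul, Polynomial.map_mul, map_C, map_C, hu1, C_1, one_mul, hRt1, mul_one,
    Polynomial.map_pow, map_X, map_pow, map_neg, map_one,
    neg_one_pow_char (ResidueField A) p] at h13
  rw [h13, C_neg, C_1]
  ring

end loc

end Groth.Agent.Lib.KumH8
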