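import Mathlib

/-!
# Kummer extensions of prime degree: Galois, degree `1` or `p` (helper8)
-/

set_option autoImplicit false
universe u

namespace Groth.Agent.Lib.KumH8

open Polynomial IntermediateField

theorem kummer_galois_finrank {p : ℕ} (hp : p.Prime) {K L : Type u} [Field K] [Field L]
    [Algebra K L] (ζ : K) (hζ : IsPrimitiveRoot ζ p) (hpK : (p : K) ≠ 0) (η : K) (y : L)
    (hy : y ^ p = algebraMap K L η) (hgen : IntermediateField.adjoin K {y} = ⊤) :
    IsGalois K L ∧ (Module.finrank K L = 1 ∨ Module.finrank K L = p) := by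
  haveI : NeZero p := ⟨hp.ne_zero⟩
  have hζL : IsPrimitiveRoot (algebraMap K L ζ) p := hζ.map_of_injective (algebraMap K L).injective
  by_cases hη : ∃ b : K, b ^ p = η
  · obtain ⟨b, rfl⟩ := hη
    have hyK : y ∈ (⊥ : IntermediateField K L) := by
      rw [IntermediateField.mem_bot]
      by_cases hb : b = 0
      · refine ⟨0, ?_⟩
        rw [hb, zero_pow hp.ne_zero, map_zero] at hy
        rw [map_zero]
        exact (pow_eq_zero_iff hp.ne_zero).mp hy |>.symm
      · have hbL : algebraMap K L b ≠ 0 := fun h => hb ((algebraMap K L).injective (by rw [h, map_zero]))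
        have h1 : (y / algebraMap K L b) ^ p = 1 := by
          rw [div_pow, hy, map_pow, div_self (pow_ne_zero _ hbL)]
        obtain ⟨i, -, hi⟩ := hζL.eq_pow_of_pow_eq_one h1
        refine ⟨ζ ^ i * b, ?_⟩
        rw [map_mul, map_pow, hi, div_mul_cancel₀ _ hbL]
    have hbot : (⊥ : IntermediateField K L) = ⊤ := by
      rw [← hgen, eq_comm, IntermediateField.adjoin_simple_eq_bot_iff]; exact hyK
    constructor
    · haveI : IsGalois K (⊤ : IntermediateField K L) := hbot ▸ (isGalois_bot : IsGalois K (⊥ : IntermediateField K L))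
      exact IsGalois.of_algEquiv (IntermediateField.topEquiv (F := K) (E := L))
    · left
      rw [← IntermediateField.finrank_top', ← hbot, IntermediateField.finrank_bot]
  · push Not at hη
    have hη0 : η ≠ 0 := by
      rintro rfl
      exact hη 0 (zero_pow hp.ne_zero)
    have hirr : Irreducible (X ^ p - C η : K[X]) := X_pow_sub_C_irreducible_of_prime hp hη
    have hroot : aeval y (X ^ p - C η : K[X]) = 0 := by
      rw [map_sub, map_pow, aeval_X, aeval_C, hy, sub_self]
    have hmonic : (X ^ p - C η : K[X]).Monic := monic_X_pow_sub_C _ hp.ne_zero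
    have hmin : (X ^ p - C η : K[X]) = minpoly K y :=
      minpoly.eq_of_irreducible_of_monic hirr hroot hmonic
    have hint : IsIntegral K y := ⟨_, hmonic, hroot⟩
    have hfin := IntermediateField.adjoin.finrank hint
    rw [← hmin, natDegree_X_pow_sub_C, hgen, IntermediateField.finrank_top'] at hfin
    refine ⟨?_, Or.inr hfin⟩
    have hsplit : IsSplittingField K L (X ^ p - C η : K[X]) := by
      refine ⟨?_, ?_⟩
      · rw [Polynomial.map_sub, Polynomial.map_pow, map_X, map_C]
        exact X_pow_sub_C_splits_of_isPrimitiveRoot hζL hy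
      · have hyroot : y ∈ (X ^ p - C η : K[X]).rootSet L := by
          rw [mem_rootSet]
          exact ⟨hmonic.ne_zero, hroot⟩
        have h1 : Algebra.adjoin K {y} = ⊤ := by
          have h2 := IntermediateField.adjoin_simple_toSubalgebra_of_isAlgebraic hint.isAlgebraic
          rw [hgen] at h2
          rw [← h2]; rfl
        rw [eq_top_iff, ← h1]
        exact Algebra.adjoin_mono (Set.singleton_subset_iff.mpr hyroot)
    haveI := hsplit
    exact IsGalois.of_separable_splitting_field (separable_X_pow_sub_C η hpK hη0)

end Groth.Agent.Lib.KumH8
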