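import Mathlib
import Groth.Prelude.Def_EtRam
import Groth.Agent.Lib.MonoDvr1_helper8

/-!
# Monogenic extensions of DVRs: the totally ramified and inseparable criteria (helper8)
-/

set_option autoImplicit false
universe u

namespace Groth.Agent.Lib.MonoDvrH8

open IsLocalRing Polynomial Groth.Agent.Lib.MonoLocH8 Groth.Agent.Lib.ASDvrH8
  Groth.Agent.Lib.TotRamCritH8

section gen

variable {A : Type u} [CommRing A] [IsDomain A] [IsDiscreteValuationRing A]
  {K L : Type u} [Field K] [Field L] [Algebra A K] [IsFractionRing A K] [Algebra K L] [Algebra A L]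
  [IsScalarTower A K L]

/-- **Totally ramified criterion** for a root of `P - ξ`, `P` monic of degree `e` over `A`,
`ξ = π⁻ⁿ a` with `a` a unit and `n` prime to `e`. -/
theorem totRam_of_monic (π : A) (hπ : maximalIdeal A = Ideal.span {π}) (P : A[X]) (hP : P.Monic)
    (e : ℕ) (he : P.natDegree = e) (he1 : 1 < e) (ξ : K) (z : L)
    (hz : aeval z P = algebraMap K L ξ) (hgen : IntermediateField.adjoin K {z} = ⊤)
    (n : ℕ) (a : Aˣ) (hn : 0 < n) (hcop : Nat.Coprime n e)
    (hξ : ξ * algebraMap A K π ^ n = algebraMap A K a) :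
    EtRam.IsTotallyRamified A (algebraMap A L) ∧ Module.finrank K L = e := by
  obtain ⟨hfd, hfin⟩ := finite_of_monic P hP (by omega) ξ z hz hgen
  haveI := hfd
  rw [he] at hfin
  obtain ⟨u, -, hu⟩ := Nat.exists_mul_mod_eq_one_of_coprime hcop he1
  obtain ⟨w, hw⟩ : ∃ w, n * u = e * w + 1 := ⟨n * u / e, by
    have := Nat.div_add_mod (n * u) e; omega⟩
  refine isTotallyRamified_of_pow_eq π hπ e (by omega) hfin
    ((z ^ u)⁻¹ * (algebraMap A L π ^ w)⁻¹) (fun V hV => ?_)
  have hϖ0 := val_pi_ne_zero π hπ V (algebraMap_injective' A K L)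
  have hϖ1 := val_pi_lt_one π hπ V hV
  have hξL : algebraMap K L ξ * algebraMap A L π ^ n = algebraMap A L a := by
    have := congrArg (algebraMap K L) hξ
    rwa [map_mul, map_pow, ← IsScalarTower.algebraMap_apply, ← IsScalarTower.algebraMap_apply]
      at this
  have hvξ : V.valuation (algebraMap K L ξ) * V.valuation (algebraMap A L π) ^ n = 1 := by
    rw [← map_pow, ← map_mul, hξL, val_unit V hV a]
  have hz1 : 1 < V.valuation z := by
    by_contra hle
    push Not at hle
    have hzV : z ∈ V := (V.valuation_le_one_iff _).mp hle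
    have h1 : aeval z P ∈ V := by
      rw [aeval_def]
      exact eval₂_mem V (algebraMap A L) hV.1 z hzV P
    rw [hz] at h1
    have h2 : V.valuation (algebraMap K L ξ) ≤ 1 := (V.valuation_le_one_iff _).mpr h1
    have h3 : V.valuation (algebraMap A L π) ^ n < 1 := pow_lt_one₀ zero_le hϖ1 hn.ne'
    have h4 : V.valuation (algebraMap K L ξ) * V.valuation (algebraMap A L π) ^ n < 1 :=
      mul_lt_one_of_nonneg_of_lt_one_right h2 zero_le h3
    rw [hvξ] at h4
    exact lt_irrefl _ h4
  have hzp : V.valuation z ^ e = V.valuation (algebraMap K L ξ) := by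
    rw [← he, ← val_aeval_of_monic V hV.1 P hP z hz1, hz]
  have hvξ0 : V.valuation (algebraMap K L ξ) ≠ 0 := by
    intro h0
    rw [h0, zero_mul] at hvξ
    exact zero_ne_one hvξ
  obtain ⟨X, hX⟩ : ∃ X, X = V.valuation (algebraMap K L ξ) ^ u *
      V.valuation (algebraMap A L π) ^ (w * e) := ⟨_, rfl⟩
  have hX0 : X ≠ 0 := by
    rw [hX]; exact mul_ne_zero (pow_ne_zero _ hvξ0) (pow_ne_zero _ hϖ0)
  have e1 : V.valuation (((z ^ u)⁻¹ * (algebraMap A L π ^ w)⁻¹) ^ e) * X = 1 := by
    rw [map_pow, map_mul, map_inv₀, map_inv₀, map_pow, map_pow, mul_pow, inv_pow, inv_pow,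
      ← pow_mul, mul_comm u e, pow_mul, hzp, ← pow_mul, hX, ← mul_inv,
      inv_mul_cancel₀]
    exact mul_ne_zero (pow_ne_zero _ hvξ0) (pow_ne_zero _ hϖ0)
  have e2 : V.valuation (algebraMap A L π) * X = 1 := by
    rw [hX, mul_comm, mul_assoc, ← pow_succ, mul_comm w e, ← hw, pow_mul, ← mul_pow,
      hvξ, one_pow]
  exact mul_right_cancel₀ hX0 (e1.trans e2.symm)

/-- **Inseparable residue criterion**: a root `y` of a monic `G` whose reduction is `X ^ p - ā`
with `ā` not a `p`-th power gives case (4). -/
theorem case4_of_monic {p : ℕ} [hp : Fact p.Prime] [CharP (ResidueField A) p] (π : A)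
    (hπ : maximalIdeal A = Ideal.span {π}) (G : A[X]) (hG : G.Monic) (a : A)
    (hGa : G.map (residue A) = X ^ p - C (residue A a))
    (ha : ∀ r : A, residue A a ≠ residue A r ^ p) (y : L)
    (hy : eval₂ (algebraMap A L) y G = 0)
    (hcl : Subfield.closure (Set.range (algebraMap A L) ∪ {y}) = ⊤) :
    Case4 p A (algebraMap A L) := by
  have hirr : Irreducible (G.map (residue A)) := by
    rw [hGa]
    apply X_pow_sub_C_irreducible_of_prime hp.out
    intro b hb
    obtain ⟨r, rfl⟩ := residue_surjective b
    exact ha r hb.symm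
  have hlocal : ∀ V : ValuationSubring L, EtRam.Dominates A (algebraMap A L) V →
      y ∈ V ∧ (∀ x ∈ V, ∃ q : A[X], x = eval₂ (algebraMap A L) y q) ∧
        (∀ x ∈ V, V.valuation x < 1 → ∃ y' ∈ V, x = algebraMap A L π * y') := by
    intro V hV
    have hφt : V.valuation (algebraMap A L π) < 1 :=
      hV.2 π (by rw [hπ]; exact Ideal.mem_span_singleton_self π)
    obtain ⟨h1, h2⟩ := surjective_of_irreducible π hπ V (algebraMap A L) hV.1 hφt
      G hG hirr y hy hcl
    exact ⟨mem_of_eval₂_eq_zero V (algebraMap A L) hV.1 _ hG y hy, h1, h2⟩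
  refine ⟨TotRamH8.exists_dominating (algebraMap A L), ?_, ?_⟩
  · have key : ∀ V V' : ValuationSubring L, EtRam.Dominates A (algebraMap A L) V →
        EtRam.Dominates A (algebraMap A L) V' → V ≤ V' := by
      intro V V' hV hV' x hx
      obtain ⟨-, h1, -⟩ := hlocal V hV
      obtain ⟨hyV', -, -⟩ := hlocal V' hV'
      obtain ⟨q, rfl⟩ := h1 x hx
      exact eval₂_mem V' (algebraMap A L) hV'.1 _ hyV' q
    exact fun V V' hV hV' => le_antisymm (key V V' hV hV') (key V' V hV' hV)
  · intro V hV
    letI : Algebra A V := (RingHom.codRestrict (algebraMap A L) V hV.1).toAlgebra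
    intro hloc
    have hcompat : ∀ a, ((algebraMap A V a : V) : L) = algebraMap A L a := fun a => rfl
    obtain ⟨hyV, h1, h2⟩ := hlocal V hV
    refine ⟨isWeaklyUnramified_of_forall π hπ V hcompat h2, ?_⟩
    -- the residue field
    have hadj : ∀ x : ResidueField V,
        x ∈ Algebra.adjoin (ResidueField A) {residue V ⟨y, hyV⟩} :=
      residue_mem_adjoin V hcompat y hyV (fun x hx => by
        obtain ⟨q, hq⟩ := h1 x hx
        exact ⟨q, by rw [hq, sub_self, map_zero]; exact zero_lt_one⟩)
    have hroot := aeval_residue_eq_zero V hcompat G y hyV hy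
    rw [hGa] at hroot
    have hyp : (residue V ⟨y, hyV⟩) ^ p =
        algebraMap (ResidueField A) (ResidueField V) (residue A a) := by
      rw [map_sub, map_pow, aeval_X, aeval_C, sub_eq_zero] at hroot
      exact hroot
    haveI : ExpChar (ResidueField A) p := ExpChar.prime hp.out
    haveI : CharP (ResidueField V) p :=
      charP_of_injective_algebraMap (algebraMap (ResidueField A) (ResidueField V)).injective p
    constructor
    · rw [isPurelyInseparable_iff_pow_mem (ResidueField A) p]
      intro x
      refine ⟨1, ?_⟩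
      rw [pow_one]
      have hx := hadj x
      induction hx using Algebra.adjoin_induction with
      | mem x hx =>
        rw [Set.mem_singleton_iff] at hx
        rw [hx, hyp]
        exact ⟨_, rfl⟩
      | algebraMap r => exact ⟨r ^ p, by rw [map_pow]⟩
      | add x y _ _ ihx ihy =>
        rw [add_pow_char]
        exact Subring.add_mem _ ihx ihy
      | mul x y _ _ ihx ihy =>
        rw [mul_pow]
        exact Subring.mul_mem _ ihx ihy
    · have hirr' : Irreducible (X ^ p - C (residue A a) : (ResidueField A)[X]) := hGa ▸ hirr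
      have hroot' : aeval (residue V ⟨y, hyV⟩)
          (X ^ p - C (residue A a) : (ResidueField A)[X]) = 0 := hroot
      have hmin : (X ^ p - C (residue A a) : (ResidueField A)[X]) =
          minpoly (ResidueField A) (residue V ⟨y, hyV⟩) :=
        minpoly.eq_of_irreducible_of_monic hirr' hroot' (monic_X_pow_sub_C _ hp.out.ne_zero)
      have hint : IsIntegral (ResidueField A) (residue V ⟨y, hyV⟩) :=
        ⟨_, monic_X_pow_sub_C _ hp.out.ne_zero, hroot'⟩
      have hfin := IntermediateField.adjoin.finrank hint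
      rw [← hmin, natDegree_X_pow_sub_C] at hfin
      have htop : IntermediateField.adjoin (ResidueField A) {residue V ⟨y, hyV⟩} = ⊤ := by
        rw [eq_top_iff]
        intro x _
        exact IntermediateField.algebra_adjoin_le_adjoin _ _ (hadj x)
      rw [htop, IntermediateField.finrank_top'] at hfin
      exact hfin

end gen

end Groth.Agent.Lib.MonoDvrH8
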