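import Mathlib
import Groth.Prelude.Def_EtRam
import Groth.Agent.Lib.MonoDvr2_helper8

/-!
# Monogenic extensions of DVRs: inseparable residue criterion for `P(z) = π⁻ⁿ a`, `p ∣ n` (helper8)
-/

set_option autoImplicit false
universe u

namespace Groth.Agent.Lib.MonoDvrH8

open IsLocalRing Polynomial Groth.Agent.Lib.MonoLocH8 Groth.Agent.Lib.ASDvrH8
  Groth.Agent.Lib.TotRamCritH8

section gen

variable {A : Type u} [CommRing A] [IsDomain A] [IsDiscreteValuationRing A]
  {K L : Type u} [Field K] [Field L] [Algebra A K] [IsFractionRing A K] [Algebra K L] [Algebra A L]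
  [IsScalarTower A K L]

omit [IsDomain A] [IsDiscreteValuationRing A] in
theorem map_scaleRoots_of_mem [IsLocalRing A] (P : A[X]) (hP : P.Monic) (s : A)
    (hs : s ∈ maximalIdeal A) :
    (scaleRoots P s).map (residue A) = X ^ P.natDegree := by
  ext i
  rw [coeff_map, coeff_scaleRoots, coeff_X_pow]
  rcases lt_trichotomy i P.natDegree with h | h | h
  · rw [if_neg h.ne, map_mul, map_pow, (residue_eq_zero_iff s).mpr hs,
      zero_pow (by omega), mul_zero]
  · rw [if_pos h, h, tsub_self, pow_zero, mul_one, hP.coeff_natDegree, map_one]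
  · rw [if_neg h.ne', coeff_eq_zero_of_natDegree_lt h, zero_mul, map_zero]

theorem case4_of_monic_pole {p : ℕ} [hp : Fact p.Prime] [CharP (ResidueField A) p] (π : A)
    (hπ : maximalIdeal A = Ideal.span {π}) (P : A[X]) (hP : P.Monic) (hPd : P.natDegree = p)
    (ξ : K) (z : L) (hz : aeval z P = algebraMap K L ξ)
    (hgen : IntermediateField.adjoin K {z} = ⊤)
    (n : ℕ) (a : A) (hn : 0 < n) (hpn : p ∣ n)
    (ha : ∀ r : A, residue A a ≠ residue A r ^ p)
    (hξ : ξ * algebraMap A K π ^ n = algebraMap A K a) :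
    Case4 p A (algebraMap A L) := by
  obtain ⟨m, rfl⟩ := hpn
  have hm : 0 < m := Nat.pos_of_mul_pos_left hn
  have hp0 : 0 < p := hp.out.pos
  have hπm : π ∈ maximalIdeal A := by rw [hπ]; exact Ideal.mem_span_singleton_self π
  have hs : π ^ m ∈ maximalIdeal A := Ideal.pow_mem_of_mem _ hπm _ hm
  have hP0 : algebraMap A L π ≠ 0 := by
    intro h0
    exact pi_ne_zero π hπ (algebraMap_injective' A K L (by rw [h0, map_zero]))
  have hξL : algebraMap K L ξ * algebraMap A L π ^ (p * m) = algebraMap A L a := by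
    have := congrArg (algebraMap K L) hξ
    rwa [map_mul, map_pow, ← IsScalarTower.algebraMap_apply, ← IsScalarTower.algebraMap_apply]
      at this
  obtain ⟨G, hGdef⟩ : ∃ G : A[X], G = scaleRoots P (π ^ m) - C a := ⟨_, rfl⟩
  have hsm : (scaleRoots P (π ^ m)).Monic := (monic_scaleRoots_iff _).mpr hP
  have hdegC : degree (C a : A[X]) < degree (scaleRoots P (π ^ m)) := by
    refine lt_of_le_of_lt degree_C_le ?_
    rw [degree_eq_natDegree hsm.ne_zero, natDegree_scaleRoots, hPd]
    exact_mod_cast hp0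
  have hG : G.Monic := by rw [hGdef]; exact hsm.sub_of_left hdegC
  have hGa : G.map (residue A) = X ^ p - C (residue A a) := by
    rw [hGdef, Polynomial.map_sub, map_scaleRoots_of_mem P hP _ hs, hPd, map_C]
  obtain ⟨y, hydef⟩ : ∃ y : L, y = algebraMap A L (π ^ m) * z := ⟨_, rfl⟩
  have hy : eval₂ (algebraMap A L) y G = 0 := by
    rw [hGdef, eval₂_sub, eval₂_C, hydef, scaleRoots_eval₂_mul, hPd, ← aeval_def, hz, map_pow,
      ← pow_mul, mul_comm m p, mul_comm, hξL, sub_self]
  have hcl : Subfield.closure (Set.range (algebraMap A L) ∪ {y}) = ⊤ := by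
    apply closure_eq_top (K := K) z hgen
    have h1 : z = y / algebraMap A L (π ^ m) := by
      rw [hydef, mul_comm, mul_div_assoc, div_self, mul_one]
      rw [map_pow]; exact pow_ne_zero m hP0
    rw [h1]
    have hy1 : y ∈ Subfield.closure (Set.range (algebraMap A L) ∪ {y}) :=
      Subfield.subset_closure (Or.inr rfl)
    have hP1 : algebraMap A L (π ^ m) ∈ Subfield.closure (Set.range (algebraMap A L) ∪ {y}) :=
      Subfield.subset_closure (Or.inl ⟨π ^ m, rfl⟩)
    exact Subfield.div_mem _ hy1 hP1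
  exact case4_of_monic π hπ G hG a hGa ha y hy hcl

end gen

end Groth.Agent.Lib.MonoDvrH8
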