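import Mathlib
import Groth.Prelude.Def_EtRam
import Groth.Agent.Lib.MonoDvr3_helper8
import Groth.Agent.Lib.KumDvr1_helper8
import Groth.Agent.Lib.KumDvr2_helper8

/-!
# Kummer-type extensions of a DVR (mixed characteristic): setup and cases (A), (B), (C) (helper8)
-/

set_option autoImplicit false
universe u

namespace Groth.Agent.Lib.KumH8

open IsLocalRing Polynomial Groth.Agent.Lib.MonoDvrH8 Groth.Agent.Lib.ASDvrH8
  Groth.Agent.Lib.ASExtH8

section kum

variable {p : ℕ} [hp : Fact p.Prime] {A : Type u} [CommRing A] [IsDomain A]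
  [IsDiscreteValuationRing A]
  {K L : Type u} [Field K] [Field L] [Algebra A K] [IsFractionRing A K] [Algebra K L] [Algebra A L]
  [IsScalarTower A K L] [CharZero K] (ζ : A)
  (hζ : aeval ζ (cyclotomic p ℤ) = 0) (P : A[X])
  (hP : C ((1 - ζ) ^ p) * P = (1 + C (1 - ζ) * X) ^ p - 1)

omit hp [IsDiscreteValuationRing A] in
include K in
theorem natCast_ne_zero (hp0 : p ≠ 0) : (p : A) ≠ 0 := by
  intro h
  have h1 := congrArg (algebraMap A K) h
  rw [map_natCast, map_zero] at h1
  exact hp0 (by exact_mod_cast h1)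

omit hp [IsDomain A] [IsDiscreteValuationRing A] in
include hP in
theorem key_identity {B : Type u} [CommRing B] [Algebra A B] (t : B) :
    algebraMap A B (1 - ζ) ^ p * aeval t P = (1 + algebraMap A B (1 - ζ) * t) ^ p - 1 := by
  have h1 := congrArg (aeval t) hP
  simp only [map_mul, aeval_C, map_sub, map_pow, map_add, map_one, aeval_X] at h1
  rw [map_sub, map_one]
  exact h1

include hζ K in
omit [IsDiscreteValuationRing A] in
theorem isPrimitiveRoot_K : IsPrimitiveRoot (algebraMap A K ζ) p := by
  haveI : NeZero ((p : ℕ) : K) := ⟨by exact_mod_cast hp.out.ne_zero⟩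
  rw [← isRoot_cyclotomic_iff, IsRoot]
  have h1 : aeval (algebraMap A K ζ) (cyclotomic p ℤ) = 0 := by
    rw [aeval_algebraMap_apply, hζ, map_zero]
  rw [aeval_def, eval₂_eq_eval_map, algebraMap_int_eq, map_cyclotomic_int] at h1
  exact h1

omit [IsDiscreteValuationRing A] in
include hζ hP in
theorem P_facts [IsLocalRing A] [CharP (ResidueField A) p] (hpA : (p : A) ≠ 0) :
    P.Monic ∧ P.natDegree = p ∧ P.map (residue A) = X ^ p - X := by
  have hw := one_sub_zeta_ne_zero hp.out ζ hζ hpA
  obtain ⟨h1, h2⟩ := P_monic_natDegree hp.out (1 - ζ) hw P hP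
  exact ⟨h1, h2, P_map_residue hp.out ζ hζ hpA P hP⟩

include hζ hP in
omit [IsDiscreteValuationRing A] in
theorem kum_galois_finrank (ξ : K) (z : L) (hz : aeval z P = algebraMap K L ξ)
    (hgen : IntermediateField.adjoin K {z} = ⊤) :
    IsGalois K L ∧ (Module.finrank K L = 1 ∨ Module.finrank K L = p) := by
  have hpA : (p : A) ≠ 0 := natCast_ne_zero (K := K) hp.out.ne_zero
  have hw := one_sub_zeta_ne_zero hp.out ζ hζ hpA
  have hwK : algebraMap A K (1 - ζ) ≠ 0 := by
    intro h0
    exact hw (IsFractionRing.injective A K (by rw [h0, map_zero]))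
  have hwL : algebraMap A L (1 - ζ) = algebraMap K L (algebraMap A K (1 - ζ)) :=
    IsScalarTower.algebraMap_apply A K L _
  have hwL0 : algebraMap A L (1 - ζ) ≠ 0 := by
    rw [hwL]
    intro h0
    exact hwK ((algebraMap K L).injective (by rw [h0, map_zero]))
  obtain ⟨y, hydef⟩ : ∃ y : L, y = 1 + algebraMap A L (1 - ζ) * z := ⟨_, rfl⟩
  have hy : y ^ p = algebraMap K L (1 + algebraMap A K (1 - ζ) ^ p * ξ) := by
    have h1 := key_identity ζ P hP (B := L) z
    rw [hz, ← hydef] at h1
    rw [map_add, map_one, map_mul, map_pow, ← hwL]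
    linear_combination -h1
  have hgen' : IntermediateField.adjoin K {y} = ⊤ := by
    rw [eq_top_iff, ← hgen, IntermediateField.adjoin_simple_le_iff]
    have h1 : z = (y - 1) / algebraMap A L (1 - ζ) := by
      rw [hydef, add_sub_cancel_left, mul_comm, mul_div_assoc, div_self hwL0, mul_one]
    rw [h1, hwL]
    exact div_mem (sub_mem (IntermediateField.mem_adjoin_simple_self K y) (one_mem _))
      (IntermediateField.algebraMap_mem _ _)
  have hpK : ((p : ℕ) : K) ≠ 0 := by exact_mod_cast hp.out.ne_zero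
  exact kummer_galois_finrank hp.out (algebraMap A K ζ) (isPrimitiveRoot_K (K := K) ζ hζ) hpK _ y
    hy hgen'

include hζ hP in
/-- Kummer case (A). -/
theorem kum_caseA [CharP (ResidueField A) p] (π : A) (hπ : maximalIdeal A = Ideal.span {π})
    (a₀ : A) (z : L) (hz : aeval z P = algebraMap K L (algebraMap A K a₀))
    (hgen : IntermediateField.adjoin K {z} = ⊤) :
    EtRam.IsUnramifiedExt A (algebraMap A L) := by
  have hpA : (p : A) ≠ 0 := natCast_ne_zero (K := K) hp.out.ne_zero
  obtain ⟨hPm, hPd, hPr⟩ := P_facts ζ hζ P hP hpA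
  have hdegC : degree (C a₀ : A[X]) < degree P := by
    refine lt_of_le_of_lt degree_C_le ?_
    rw [degree_eq_natDegree hPm.ne_zero, hPd]
    exact_mod_cast hp.out.pos
  have hf : (P - C a₀).Monic := hPm.sub_of_left hdegC
  have hsep : ((P - C a₀).map (residue A)).Separable := by
    rw [Polynomial.map_sub, hPr, map_C]
    exact asPoly_separable p (residue A a₀)
  have hz' : eval₂ (algebraMap A L) z (P - C a₀) = 0 := by
    rw [eval₂_sub, eval₂_C, ← aeval_def, hz, ← IsScalarTower.algebraMap_apply, sub_self]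
  exact unramified_of_separable π hπ _ hf hsep z hz' hgen

end kum

end Groth.Agent.Lib.KumH8
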