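import Mathlib
import Groth.Prelude.Def_EtRam
import Groth.Agent.Lib.KumDvr3_helper8

/-!
# Kummer-type extensions of a DVR: pure Kummer generators (helper8)
-/

set_option autoImplicit false
universe u

namespace Groth.Agent.Lib.KumH8

open IsLocalRing Polynomial Groth.Agent.Lib.MonoDvrH8 Groth.Agent.Lib.ASDvrH8
  Groth.Agent.Lib.ASExtH8

section pure

variable {p : ℕ} [hp : Fact p.Prime] {A : Type u} [CommRing A] [IsDomain A]
  [IsDiscreteValuationRing A]
  {K L : Type u} [Field K] [Field L] [Algebra A K] [IsFractionRing A K] [Algebra K L] [Algebra A L]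
  [IsScalarTower A K L]

/-- `y ^ p = u π^k` with `p ∤ k`: totally ramified of degree `p`. -/
theorem kum_totRam (π : A) (hπ : maximalIdeal A = Ideal.span {π}) (y : L) (u : Aˣ) (k : ℕ)
    (hk : ¬ p ∣ k) (hy : y ^ p = algebraMap A L ((u : A) * π ^ k))
    (hgen : IntermediateField.adjoin K {y} = ⊤) :
    EtRam.IsTotallyRamified A (algebraMap A L) ∧ Module.finrank K L = p := by
  have hk0 : 0 < k := by
    rcases Nat.eq_zero_or_pos k with rfl | h
    · exact absurd (dvd_zero p) hk
    · exact h
  have hπ0 : π ≠ 0 := TotRamCritH8.pi_ne_zero π hπ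
  have hP0 : algebraMap A K π ≠ 0 := by
    intro h0
    exact hπ0 (IsFractionRing.injective A K (by rw [h0, map_zero]))
  have hu0 : algebraMap A K (u : A) ≠ 0 := by
    intro h0
    exact u.ne_zero (IsFractionRing.injective A K (by rw [h0, map_zero]))
  have hcop : Nat.Coprime k p := ((Nat.Prime.coprime_iff_not_dvd hp.out).mpr hk).symm
  have hz : aeval y⁻¹ (X ^ p : A[X]) =
      algebraMap K L (algebraMap A K ((u : A) * π ^ k))⁻¹ := by
    rw [map_pow, aeval_X, inv_pow, hy, map_inv₀, ← IsScalarTower.algebraMap_apply]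
  have hgen' : IntermediateField.adjoin K {y⁻¹} = ⊤ := by
    rw [eq_top_iff, ← hgen, IntermediateField.adjoin_simple_le_iff]
    have h1 : (y⁻¹)⁻¹ ∈ IntermediateField.adjoin K {y⁻¹} :=
      inv_mem (IntermediateField.mem_adjoin_simple_self K _)
    rwa [inv_inv] at h1
  have hξ : (algebraMap A K ((u : A) * π ^ k))⁻¹ * algebraMap A K π ^ k =
      algebraMap A K ((u⁻¹ : Aˣ) : A) := by
    have h1 : algebraMap A K ((u⁻¹ : Aˣ) : A) = (algebraMap A K (u : A))⁻¹ := by
      apply eq_inv_of_mul_eq_one_left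
      rw [← map_mul, Units.inv_mul, map_one]
    rw [h1, map_mul, map_pow, mul_inv, mul_assoc, inv_mul_cancel₀ (pow_ne_zero _ hP0), mul_one]
  exact totRam_of_monic π hπ (X ^ p) (monic_X_pow p) p (natDegree_X_pow p) hp.out.one_lt _ _ hz
    hgen' k u⁻¹ hk0 hcop hξ

/-- `y ^ p = u` with `u` not a `p`-th power modulo `π`: case (4). -/
theorem kum_case4 [CharP (ResidueField A) p] (π : A) (hπ : maximalIdeal A = Ideal.span {π})
    (y : L) (u : A) (hu : ∀ r : A, residue A u ≠ residue A r ^ p)
    (hy : y ^ p = algebraMap A L u) (hgen : IntermediateField.adjoin K {y} = ⊤) :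
    Case4 p A (algebraMap A L) := by
  have hGa : (X ^ p - C u : A[X]).map (residue A) = X ^ p - C (residue A u) := by
    rw [Polynomial.map_sub, Polynomial.map_pow, map_X, map_C]
  have hy' : eval₂ (algebraMap A L) y (X ^ p - C u : A[X]) = 0 := by
    rw [eval₂_sub, eval₂_pow, eval₂_X, eval₂_C, hy, sub_self]
  have hcl : Subfield.closure (Set.range (algebraMap A L) ∪ {y}) = ⊤ :=
    closure_eq_top (K := K) y hgen y (Subfield.subset_closure (Or.inr rfl))
  exact case4_of_monic π hπ _ (monic_X_pow_sub_C u hp.out.ne_zero) u hGa hu y hy' hcl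

end pure

end Groth.Agent.Lib.KumH8
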