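import Mathlib
import Groth.Prelude.Def_EtRam
import Groth.Agent.Lib.KumDvr4_helper8

/-!
# Kummer-type extensions of a DVR: the reduction step and induction on the pole order (helper8)
-/

set_option autoImplicit false
universe u

namespace Groth.Agent.Lib.KumH8

open IsLocalRing Polynomial Groth.Agent.Lib.MonoDvrH8 Groth.Agent.Lib.ASDvrH8
  Groth.Agent.Lib.ASExtH8

section step

variable {p : ℕ} [hp : Fact p.Prime] {A : Type u} [CommRing A] [IsDomain A]
  [IsDiscreteValuationRing A]
  {K L : Type u} [Field K] [Field L] [Algebra A K] [IsFractionRing A K] [Algebra K L] [Algebra A L]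
  [IsScalarTower A K L]

omit hp in
/-- `π^(m+1) ∣ w` from `θ π^(pm) = a w^p` with `θ` a non-unit and `a` a unit. -/
theorem exists_mul_pow_of_eq (hp0 : 0 < p) (π : A) (hπ : maximalIdeal A = Ideal.span {π}) (w θ : A)
    (hw : w ≠ 0) (hθ : θ ∈ maximalIdeal A) (a : Aˣ) (m : ℕ)
    (h : θ * π ^ (p * m) = (a : A) * w ^ p) : ∃ w' : A, w = π ^ (m + 1) * w' := by
  have hirr : Irreducible π := by
    rw [IsDiscreteValuationRing.irreducible_iff_uniformizer]; exact hπ
  have hπ0 : π ≠ 0 := hirr.ne_zero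
  obtain ⟨e₀, v, hv⟩ := IsDiscreteValuationRing.eq_unit_mul_pow_irreducible hw hirr
  rw [hπ, Ideal.mem_span_singleton'] at hθ
  obtain ⟨θ', rfl⟩ := hθ
  by_cases hle : m + 1 ≤ e₀
  · refine ⟨(v : A) * π ^ (e₀ - (m + 1)), ?_⟩
    rw [hv]
    have : e₀ = (m + 1) + (e₀ - (m + 1)) := by omega
    conv_lhs => rw [this, pow_add]
    ring
  · exfalso
    push Not at hle
    have he : p * e₀ ≤ p * m := Nat.mul_le_mul_left p (by omega)
    have h1 : π ^ (p * e₀) * (θ' * π ^ (p * m + 1 - p * e₀)) =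
        π ^ (p * e₀) * ((a : A) * (v : A) ^ p) := by
      have h2 : θ' * π * π ^ (p * m) = θ' * π ^ (p * m + 1) := by rw [pow_succ]; ring
      rw [h2, hv, mul_pow, ← pow_mul, mul_comm e₀ p] at h
      have h3 : p * m + 1 = p * e₀ + (p * m + 1 - p * e₀) := by omega
      rw [h3, pow_add] at h
      have h4 : p * e₀ + (p * m + 1 - p * e₀) - p * e₀ = p * m + 1 - p * e₀ := by omega
      linear_combination h
    have h5 := mul_left_cancel₀ (pow_ne_zero _ hπ0) h1
    have hunit : IsUnit ((a : A) * (v : A) ^ p) := a.isUnit.mul (v.isUnit.pow p)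
    rw [← h5] at hunit
    have hmem : θ' * π ^ (p * m + 1 - p * e₀) ∈ maximalIdeal A := by
      apply Ideal.mul_mem_left
      apply Ideal.pow_mem_of_mem
      · rw [hπ]; exact Ideal.mem_span_singleton_self π
      · omega
    exact (mem_maximalIdeal _).mp hmem hunit

variable [CharZero K] (ζ : A) (hζ : aeval ζ (cyclotomic p ℤ) = 0) (P : A[X])
  (hP : C ((1 - ζ) ^ p) * P = (1 + C (1 - ζ) * X) ^ p - 1)

include hζ hP in
/-- The reduction step: when the leading coefficient is a `p`-th power, the pole order of `ξ`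
can be lowered without changing the field. -/
theorem kum_reduce (π : A) (hπ : maximalIdeal A = Ideal.span {π}) (ξ : K) (z : L)
    (hz : aeval z P = algebraMap K L ξ) (hgen : IntermediateField.adjoin K {z} = ⊤)
    (θ : A) (hθ : θ ∈ maximalIdeal A)
    (hθξ : ξ * algebraMap A K (1 - ζ) ^ p = algebraMap A K θ)
    (m : ℕ) (hm : 0 < m) (ua : Aˣ) (hξ : ξ * algebraMap A K π ^ (p * m) = algebraMap A K ua)
    (r : A) (hr : residue A (ua : A) = residue A r ^ p) :
    ∃ (ξ₁ : K) (z₁ : L), aeval z₁ P = algebraMap K L ξ₁ ∧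
      IntermediateField.adjoin K {z₁} = ⊤ ∧
      (∃ θ₁ ∈ maximalIdeal A, ξ₁ * algebraMap A K (1 - ζ) ^ p = algebraMap A K θ₁) ∧
      (∃ a₁ : A, ξ₁ * algebraMap A K π ^ (p * m - 1) = algebraMap A K a₁) := by
  have hp0 : 0 < p := hp.out.pos
  have hp1 : 1 < p := hp.out.one_lt
  have hpA : (p : A) ≠ 0 := natCast_ne_zero (K := K) hp.out.ne_zero
  have hw := one_sub_zeta_ne_zero hp.out ζ hζ hpA
  obtain ⟨hPm, hPd⟩ := P_monic_natDegree hp.out (1 - ζ) hw P hP
  have hinj := IsFractionRing.injective A K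
  have hπ0 : π ≠ 0 := TotRamCritH8.pi_ne_zero π hπ
  have hπK : algebraMap A K π ≠ 0 := fun h0 => hπ0 (hinj (by rw [h0, map_zero]))
  have hπm : π ∈ maximalIdeal A := by rw [hπ]; exact Ideal.mem_span_singleton_self π
  -- (1) the relation in `A`
  have hrel : θ * π ^ (p * m) = (ua : A) * (1 - ζ) ^ p := by
    apply hinj
    rw [map_mul, map_mul, map_pow, map_pow, ← hθξ, ← hξ]; ring
  obtain ⟨w', hw'⟩ := exists_mul_pow_of_eq hp0 π hπ (1 - ζ) θ hw hθ ua m hrel
  -- (3) the unit `ε`
  obtain ⟨ε, hεdef⟩ : ∃ ε : A, ε = 1 + π * w' * r := ⟨_, rfl⟩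
  have hε1 : ε - 1 ∈ maximalIdeal A := by
    rw [hεdef, add_sub_cancel_left, mul_assoc]
    exact Ideal.mul_mem_right _ _ hπm
  have hεu : IsUnit ε := by
    have h1 : ε = 1 - (-(ε - 1)) := by ring
    rw [h1]
    exact IsLocalRing.isUnit_one_sub_self_of_mem_nonunits _
      ((Ideal.neg_mem_iff _).mpr hε1)
  obtain ⟨εu, hεu'⟩ := hεu
  have hεK : algebraMap A K ε ≠ 0 := by
    intro h0
    exact εu.ne_zero (hεu' ▸ hinj (by rw [h0, map_zero]))
  -- (4) the element `c`
  obtain ⟨c, hcdef⟩ : ∃ c : K, c = algebraMap A K r / algebraMap A K π ^ m := ⟨_, rfl⟩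
  have hwc : algebraMap A K ε = 1 + algebraMap A K (1 - ζ) * c := by
    rw [hεdef, hcdef, hw', map_add, map_one, map_mul, map_mul, map_mul, map_pow, pow_succ]
    field_simp
  -- opaque names
  obtain ⟨W, hW⟩ : ∃ W : K, W = algebraMap A K (1 - ζ) := ⟨_, rfl⟩
  obtain ⟨E, hE⟩ : ∃ E : K, E = algebraMap A K ε := ⟨_, rfl⟩
  have hwL : algebraMap A L (1 - ζ) = algebraMap K L W := by
    rw [hW]; exact IsScalarTower.algebraMap_apply A K L _
  have hW0 : W ≠ 0 := by
    rw [hW]; exact fun h0 => hw (hinj (by rw [h0, map_zero]))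
  have hWL0 : algebraMap K L W ≠ 0 := fun h0 =>
    hW0 ((algebraMap K L).injective (by rw [h0, map_zero]))
  have hE0 : E ≠ 0 := by rw [hE]; exact hεK
  have hEL0 : algebraMap K L E ≠ 0 := fun h0 =>
    hE0 ((algebraMap K L).injective (by rw [h0, map_zero]))
  rw [← hW] at hθξ hwc
  rw [← hE] at hwc
  -- key identities
  have hKc : W ^ p * aeval c P = E ^ p - 1 := by
    have := key_identity ζ P hP (B := K) c
    rw [← hW, ← hwc] at this
    exact this
  obtain ⟨z₁, hz₁def⟩ : ∃ z₁ : L, z₁ = (z - algebraMap K L c) / algebraMap K L E :=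
    ⟨_, rfl⟩
  obtain ⟨ξ₁, hξ₁def⟩ : ∃ ξ₁ : K, ξ₁ = (ξ - aeval c P) / E ^ p := ⟨_, rfl⟩
  have hinvK : algebraMap A K ((εu⁻¹ : Aˣ) : A) = E⁻¹ := by
    apply eq_inv_of_mul_eq_one_left
    rw [hE, ← map_mul, ← hεu', Units.inv_mul, map_one]
  refine ⟨ξ₁, z₁, ?_, ?_, ?_, ?_⟩
  · -- (6)
    have ha := key_identity ζ P hP (B := L) z
    have hc := key_identity ζ P hP (B := L) z₁
    rw [hz, hwL] at ha
    rw [hwL] at hc
    have hb := congrArg (algebraMap K L) hKc
    rw [map_mul, map_pow, map_sub, map_pow, map_one] at hb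
    have h1 : 1 + algebraMap K L W * z₁ = (1 + algebraMap K L W * z) / algebraMap K L E := by
      have h2 : algebraMap K L E = 1 + algebraMap K L W * algebraMap K L c := by
        rw [hwc, map_add, map_one, map_mul]
      rw [hz₁def]
      field_simp
      rw [h2]; ring
    rw [h1, div_pow] at hc
    have h3 : algebraMap K L W ^ p * aeval z₁ P = algebraMap K L W ^ p * algebraMap K L ξ₁ := by
      rw [hc, hξ₁def, map_div₀, map_sub, map_pow]
      have hEp : algebraMap K L E ^ p ≠ 0 := pow_ne_zero _ hEL0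
      field_simp
      linear_combination hb - ha
    exact mul_left_cancel₀ (pow_ne_zero _ hWL0) h3
  · -- (7)
    rw [eq_top_iff, ← hgen, IntermediateField.adjoin_simple_le_iff]
    have h1 : z = algebraMap K L E * z₁ + algebraMap K L c := by
      rw [hz₁def, mul_div_cancel₀ _ hEL0]; ring
    rw [h1]
    exact add_mem (mul_mem (IntermediateField.algebraMap_mem _ _)
      (IntermediateField.mem_adjoin_simple_self K z₁)) (IntermediateField.algebraMap_mem _ _)
  · -- (8)
    refine ⟨(θ - (ε ^ p - 1)) * ((εu⁻¹ : Aˣ) : A) ^ p, ?_, ?_⟩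
    · apply Ideal.mul_mem_right
      apply Ideal.sub_mem _ hθ
      rw [← residue_eq_zero_iff, map_sub, map_pow, map_one]
      have : residue A ε = 1 := by
        have := (residue_eq_zero_iff _).mpr hε1
        rw [map_sub, map_one, sub_eq_zero] at this
        exact this
      rw [this, one_pow, sub_self]
    · rw [← hW]
      have h9 : algebraMap A K ((θ - (ε ^ p - 1)) * ((εu⁻¹ : Aˣ) : A) ^ p) =
          (algebraMap A K θ - (E ^ p - 1)) * E⁻¹ ^ p := by
        rw [map_mul, map_pow, hinvK, map_sub, map_sub, map_pow, map_one, hE]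
      rw [h9, ← hθξ, ← hKc, hξ₁def]
      field_simp
      rw [one_div, inv_pow, mul_assoc, mul_inv_cancel₀ (pow_ne_zero _ hE0), mul_one]
  · -- (9)
    obtain ⟨b, hb⟩ : ∃ b : A, (ua : A) - r ^ p = b * π := by
      have h1 : (ua : A) - r ^ p ∈ maximalIdeal A := by
        rw [← residue_eq_zero_iff, map_sub, map_pow, hr, sub_self]
      rw [hπ, Ideal.mem_span_singleton'] at h1
      obtain ⟨b, hb⟩ := h1
      exact ⟨b, hb.symm⟩
    have hn1 : p * m = (p * m - 1) + 1 := by
      have : 0 < p * m := Nat.mul_pos hp0 hm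
      omega
    have hmk : ∀ k ∈ Finset.range p, m * k ≤ p * m - 1 := by
      intro k hk
      rw [Finset.mem_range] at hk
      have h1 : m * k ≤ m * (p - 1) := Nat.mul_le_mul_left m (by omega)
      have h2 : m * (p - 1) + m = p * m := by
        obtain ⟨q, rfl⟩ : ∃ q, p = q + 1 := ⟨p - 1, by omega⟩
        simp only [Nat.add_sub_cancel]; ring
      omega
    have hcp : (ξ - c ^ p) * algebraMap A K π ^ (p * m - 1) = algebraMap A K b := by
      have h1 : (ξ - c ^ p) * algebraMap A K π ^ (p * m) = algebraMap A K (b * π) := by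
        rw [← hb, map_sub, map_pow, sub_mul, hξ, hcdef, div_pow, ← pow_mul, mul_comm m p,
          div_mul_cancel₀ _ (pow_ne_zero _ hπK)]
      have h5 : algebraMap A K π ^ (p * m) = algebraMap A K π ^ (p * m - 1) * algebraMap A K π := by
        rw [← pow_succ, ← hn1]
      rw [h5, ← mul_assoc, map_mul] at h1
      exact mul_right_cancel₀ hπK h1
    have hck : ∀ k ∈ Finset.range p, c ^ k * algebraMap A K π ^ (p * m - 1) =
        algebraMap A K (r ^ k * π ^ (p * m - 1 - m * k)) := by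
      intro k hk
      have h1 := hmk k hk
      have h2 : p * m - 1 = m * k + (p * m - 1 - m * k) := by omega
      rw [map_mul, map_pow, map_pow, hcdef, div_pow, ← pow_mul]
      conv_lhs => rw [h2, pow_add]
      field_simp
    have hsum : aeval c P = c ^ p + ∑ k ∈ Finset.range p, algebraMap A K (P.coeff k) * c ^ k := by
      conv_lhs => rw [hPm.as_sum, hPd]
      rw [map_add, map_pow, aeval_X, map_sum]
      congr 1
      apply Finset.sum_congr rfl
      intro k _
      rw [map_mul, aeval_C, map_pow, aeval_X]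
    refine ⟨(b - ∑ k ∈ Finset.range p, P.coeff k * (r ^ k * π ^ (p * m - 1 - m * k))) *
      ((εu⁻¹ : Aˣ) : A) ^ p, ?_⟩
    have h6 : (ξ - aeval c P) * algebraMap A K π ^ (p * m - 1) =
        algebraMap A K (b - ∑ k ∈ Finset.range p, P.coeff k * (r ^ k * π ^ (p * m - 1 - m * k))) := by
      rw [hsum, map_sub, map_sum, ← hcp, ← sub_sub, sub_mul, Finset.sum_mul]
      congr 1
      apply Finset.sum_congr rfl
      intro k hk
      rw [map_mul, ← hck k hk]; ring
    rw [map_mul, map_pow, hinvK, ← h6, hξ₁def]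
    field_simp
    rw [one_div, inv_pow, mul_assoc, mul_inv_cancel₀ (pow_ne_zero _ hE0), mul_one]

end step

end Groth.Agent.Lib.KumH8
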