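import Mathlib
import Groth.Prelude.Def_EtRam
import Groth.Agent.Lib.KumDvr5_helper8

/-!
# Kummer-type extensions of a DVR: the four cases in general (helper8)
-/

set_option autoImplicit false
universe u

namespace Groth.Agent.Lib.KumH8

open IsLocalRing Polynomial Groth.Agent.Lib.MonoDvrH8 Groth.Agent.Lib.ASDvrH8
  Groth.Agent.Lib.ASExtH8

section general

variable {p : ℕ} [hp : Fact p.Prime] {A : Type u} [CommRing A] [IsDomain A]
  [IsDiscreteValuationRing A]
  {K L : Type u} [Field K] [Field L] [Algebra A K] [IsFractionRing A K] [Algebra K L] [Algebra A L]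
  [IsScalarTower A K L] [CharZero K] [CharP (ResidueField A) p] (ζ : A)
  (hζ : aeval ζ (cyclotomic p ℤ) = 0) (P : A[X])
  (hP : C ((1 - ζ) ^ p) * P = (1 + C (1 - ζ) * X) ^ p - 1)

include hζ hP in
theorem kum_step3 (π : A) (hπ : maximalIdeal A = Ideal.span {π}) :
    ∀ (n : ℕ) (ξ : K) (z : L), aeval z P = algebraMap K L ξ →
      IntermediateField.adjoin K {z} = ⊤ →
      (∃ θ ∈ maximalIdeal A, ξ * algebraMap A K (1 - ζ) ^ p = algebraMap A K θ) →
      (∃ a : A, ξ * algebraMap A K π ^ n = algebraMap A K a) →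
      Module.finrank K L = 1 ∨
        (EtRam.IsUnramifiedExt A (algebraMap A L) ∧ Module.finrank K L = p) ∨
        (EtRam.IsTotallyRamified A (algebraMap A L) ∧ Module.finrank K L = p) ∨
        Case4 p A (algebraMap A L) := by
  have hpA : (p : A) ≠ 0 := natCast_ne_zero (K := K) hp.out.ne_zero
  obtain ⟨hPm, hPd, -⟩ := P_facts ζ hζ P hP hpA
  have hπ0 : π ≠ 0 := TotRamCritH8.pi_ne_zero π hπ
  have hP0 : algebraMap A K π ≠ 0 := by
    intro h0
    exact hπ0 (IsFractionRing.injective A K (by rw [h0, map_zero]))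
  intro n
  induction n using Nat.strong_induction_on with
  | _ n ih =>
    intro ξ z hz hgen hθ ⟨a, ha⟩
    rcases Nat.eq_zero_or_pos n with rfl | hn
    · rw [pow_zero, mul_one] at ha
      subst ha
      rcases (kum_galois_finrank ζ hζ P hP _ z hz hgen).2 with h1 | h1
      · exact Or.inl h1
      · exact Or.inr (Or.inl ⟨kum_caseA ζ hζ P hP π hπ a z hz hgen, h1⟩)
    by_cases hau : IsUnit a
    swap
    · have ham : a ∈ maximalIdeal A := (mem_maximalIdeal a).mpr hau
      rw [hπ, Ideal.mem_span_singleton'] at ham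
      obtain ⟨a', rfl⟩ := ham
      refine ih (n - 1) (by omega) ξ z hz hgen hθ ⟨a', ?_⟩
      have hn1 : n = (n - 1) + 1 := by omega
      have h5 : algebraMap A K π ^ n = algebraMap A K π ^ (n - 1) * algebraMap A K π := by
        rw [← pow_succ, ← hn1]
      rw [h5, ← mul_assoc, map_mul] at ha
      exact mul_right_cancel₀ hP0 ha
    obtain ⟨ua, rfl⟩ := hau
    by_cases hpn : p ∣ n
    swap
    · have hcop : Nat.Coprime n p := ((Nat.Prime.coprime_iff_not_dvd hp.out).mpr hpn).symm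
      exact Or.inr (Or.inr (Or.inl (totRam_of_monic π hπ P hPm p hPd hp.out.one_lt ξ z hz hgen
        n ua hn hcop ha)))
    by_cases hpow : ∃ r : A, residue A (ua : A) = residue A r ^ p
    swap
    · push Not at hpow
      exact Or.inr (Or.inr (Or.inr (case4_of_monic_pole π hπ P hPm hPd ξ z hz hgen n (ua : A) hn
        hpn hpow ha)))
    obtain ⟨r, hr⟩ := hpow
    obtain ⟨m, rfl⟩ := hpn
    have hm : 0 < m := Nat.pos_of_mul_pos_left hn
    obtain ⟨θ, hθm, hθξ⟩ := hθ
    obtain ⟨ξ₁, z₁, hz₁, hgen₁, hθ₁, ha₁⟩ :=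
      kum_reduce ζ hζ P hP π hπ ξ z hz hgen θ hθm hθξ m hm ua ha r hr
    exact ih (p * m - 1) (by omega) ξ₁ z₁ hz₁ hgen₁ hθ₁ ha₁

omit hp [IsDomain A] [IsDiscreteValuationRing A] [Algebra A K] [IsFractionRing A K] [Algebra A L]
  [IsScalarTower A K L] [CharZero K] [CharP (ResidueField A) p] [CommRing A] in
theorem adjoin_eq_top_of_mem (y : L) (hgen : IntermediateField.adjoin K {y} = ⊤) (y' : L)
    (h : y ∈ IntermediateField.adjoin K {y'}) : IntermediateField.adjoin K {y'} = ⊤ := by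
  rw [eq_top_iff, ← hgen, IntermediateField.adjoin_simple_le_iff]
  exact h

include hζ hP in
/-- The four cases for a pure Kummer generator `y ^ p = η ∈ K`. -/
theorem kum_of_pow (π : A) (hπ : maximalIdeal A = Ideal.span {π}) (y : L) (η : K)
    (hy : y ^ p = algebraMap K L η) (hgen : IntermediateField.adjoin K {y} = ⊤) :
    Module.finrank K L = 1 ∨
      (EtRam.IsUnramifiedExt A (algebraMap A L) ∧ Module.finrank K L = p) ∨
      (EtRam.IsTotallyRamified A (algebraMap A L) ∧ Module.finrank K L = p) ∨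
      Case4 p A (algebraMap A L) := by
  have hp0 : 0 < p := hp.out.pos
  have hpA : (p : A) ≠ 0 := natCast_ne_zero (K := K) hp.out.ne_zero
  have hw := one_sub_zeta_ne_zero hp.out ζ hζ hpA
  have hinj := IsFractionRing.injective A K
  have hπ0 : π ≠ 0 := TotRamCritH8.pi_ne_zero π hπ
  have hπK : algebraMap A K π ≠ 0 := fun h0 => hπ0 (hinj (by rw [h0, map_zero]))
  have hπL : algebraMap K L (algebraMap A K π) ≠ 0 := fun h0 =>
    hπK ((algebraMap K L).injective (by rw [h0, map_zero]))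
  have hirr : Irreducible π := by
    rw [IsDiscreteValuationRing.irreducible_iff_uniformizer]; exact hπ
  by_cases hη : η = 0
  · left
    rw [hη, map_zero] at hy
    have hy0 : y = 0 := (pow_eq_zero_iff hp.out.ne_zero).mp hy
    rw [hy0, IntermediateField.adjoin_zero] at hgen
    rw [← IntermediateField.finrank_top', ← hgen, IntermediateField.finrank_bot]
  -- normalise `η`
  obtain ⟨x, x', hx', rfl⟩ := IsFractionRing.div_surjective (A := A) η
  have hx'0 : x' ≠ 0 := nonZeroDivisors.ne_zero hx'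
  have hx0 : x ≠ 0 := by
    rintro rfl
    rw [map_zero, zero_div] at hη
    exact hη rfl
  obtain ⟨k₁, u₁, hu₁⟩ := IsDiscreteValuationRing.eq_unit_mul_pow_irreducible hx0 hirr
  obtain ⟨k₂, u₂, hu₂⟩ := IsDiscreteValuationRing.eq_unit_mul_pow_irreducible hx'0 hirr
  have hu₂K : algebraMap A K (u₂ : A) ≠ 0 := fun h0 => u₂.ne_zero (hinj (by rw [h0, map_zero]))
  obtain ⟨k, hkdef⟩ : ∃ k, k = k₁ + (p - 1) * k₂ := ⟨_, rfl⟩
  have hηK : algebraMap A K x / algebraMap A K x' * algebraMap A K π ^ (p * k₂) =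
      algebraMap A K ((u₁ * u₂⁻¹ : Aˣ) * π ^ k) := by
    have h1 : algebraMap A K ((u₂⁻¹ : Aˣ) : A) = (algebraMap A K (u₂ : A))⁻¹ := by
      apply eq_inv_of_mul_eq_one_left
      rw [← map_mul, Units.inv_mul, map_one]
    have h2 : p * k₂ = k₂ + (p - 1) * k₂ := by
      obtain ⟨q, rfl⟩ : ∃ q, p = q + 1 := ⟨p - 1, by omega⟩
      simp only [Nat.add_sub_cancel]; ring
    rw [hu₁, hu₂, hkdef, Units.val_mul, map_mul, map_mul, map_mul, map_mul, map_pow, map_pow,
      map_pow, h1, h2, pow_add, pow_add]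
    field_simp
  obtain ⟨y₁, hy₁def⟩ : ∃ y₁ : L, y₁ = algebraMap K L (algebraMap A K π) ^ k₂ * y := ⟨_, rfl⟩
  have hy₁ : y₁ ^ p = algebraMap A L ((u₁ * u₂⁻¹ : Aˣ) * π ^ k) := by
    rw [hy₁def, mul_pow, hy, ← pow_mul, mul_comm k₂ p, IsScalarTower.algebraMap_apply A K L,
      ← hηK, map_mul, map_pow]
    ring
  have hgen₁ : IntermediateField.adjoin K {y₁} = ⊤ := by
    apply adjoin_eq_top_of_mem y hgen
    have h1 : y = y₁ / algebraMap K L (algebraMap A K π) ^ k₂ := by
      rw [hy₁def, mul_comm, mul_div_assoc, div_self (pow_ne_zero _ hπL), mul_one]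
    rw [h1]
    exact div_mem (IntermediateField.mem_adjoin_simple_self K y₁)
      (pow_mem (IntermediateField.algebraMap_mem _ _) _)
  by_cases hpk : p ∣ k
  swap
  · exact Or.inr (Or.inr (Or.inl (kum_totRam π hπ y₁ _ k hpk hy₁ hgen₁)))
  obtain ⟨m', hm'⟩ := hpk
  obtain ⟨u, hudef⟩ : ∃ u : Aˣ, u = u₁ * u₂⁻¹ := ⟨_, rfl⟩
  rw [← hudef] at hy₁
  obtain ⟨y₂, hy₂def⟩ : ∃ y₂ : L, y₂ = y₁ / algebraMap K L (algebraMap A K π) ^ m' := ⟨_, rfl⟩
  have hy₂ : y₂ ^ p = algebraMap A L (u : A) := by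
    rw [hy₂def, div_pow, hy₁, hm', map_mul, map_pow, ← pow_mul, mul_comm m' p,
      IsScalarTower.algebraMap_apply A K L π, mul_div_assoc, div_self (pow_ne_zero _ hπL), mul_one]
  have hgen₂ : IntermediateField.adjoin K {y₂} = ⊤ := by
    apply adjoin_eq_top_of_mem y₁ hgen₁
    have h1 : y₁ = y₂ * algebraMap K L (algebraMap A K π) ^ m' := by
      rw [hy₂def, div_mul_cancel₀ _ (pow_ne_zero _ hπL)]
    rw [h1]
    exact mul_mem (IntermediateField.mem_adjoin_simple_self K y₂)
      (pow_mem (IntermediateField.algebraMap_mem _ _) _)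
  by_cases hpow : ∃ d : A, residue A (u : A) = residue A d ^ p
  swap
  · push Not at hpow
    exact Or.inr (Or.inr (Or.inr (kum_case4 π hπ y₂ (u : A) hpow hy₂ hgen₂)))
  obtain ⟨d, hd⟩ := hpow
  have hdu : IsUnit d := by
    by_contra hnu
    have h1 : residue A d = 0 := (residue_eq_zero_iff d).mpr ((mem_maximalIdeal d).mpr hnu)
    rw [h1, zero_pow hp.out.ne_zero, residue_eq_zero_iff] at hd
    exact (mem_maximalIdeal _).mp hd u.isUnit
  obtain ⟨du, rfl⟩ := hdu
  have hduK : algebraMap A K (du : A) ≠ 0 := fun h0 => du.ne_zero (hinj (by rw [h0, map_zero]))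
  have hduL : algebraMap K L (algebraMap A K (du : A)) ≠ 0 := fun h0 =>
    hduK ((algebraMap K L).injective (by rw [h0, map_zero]))
  obtain ⟨θ, hθdef⟩ : ∃ θ : A, θ = (u : A) * ((du⁻¹ : Aˣ) : A) ^ p - 1 := ⟨_, rfl⟩
  have hθm : θ ∈ maximalIdeal A := by
    rw [← residue_eq_zero_iff, hθdef, map_sub, map_mul, map_pow, map_one, hd, ← mul_pow,
      ← map_mul, Units.mul_inv, map_one, one_pow, sub_self]
  have hwK0 : algebraMap A K (1 - ζ) ≠ 0 := fun h0 => hw (hinj (by rw [h0, map_zero]))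
  have hwL : algebraMap A L (1 - ζ) = algebraMap K L (algebraMap A K (1 - ζ)) :=
    IsScalarTower.algebraMap_apply A K L _
  have hwL0 : algebraMap K L (algebraMap A K (1 - ζ)) ≠ 0 := fun h0 =>
    hwK0 ((algebraMap K L).injective (by rw [h0, map_zero]))
  obtain ⟨y₃, hy₃def⟩ : ∃ y₃ : L, y₃ = y₂ / algebraMap K L (algebraMap A K (du : A)) := ⟨_, rfl⟩
  have hy₃ : y₃ ^ p = 1 + algebraMap K L (algebraMap A K θ) := by
    have h1 : algebraMap A K ((du⁻¹ : Aˣ) : A) = (algebraMap A K (du : A))⁻¹ := by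
      apply eq_inv_of_mul_eq_one_left
      rw [← map_mul, Units.inv_mul, map_one]
    rw [hy₃def, div_pow, hy₂, IsScalarTower.algebraMap_apply A K L (u : A), hθdef, map_sub,
      map_mul, map_pow, map_one, h1, map_sub, map_mul, map_pow, map_inv₀, map_one, div_eq_mul_inv,
      inv_pow]
    ring
  obtain ⟨z', hz'def⟩ : ∃ z' : L, z' = (y₃ - 1) / algebraMap K L (algebraMap A K (1 - ζ)) :=
    ⟨_, rfl⟩
  have hy₃z : y₃ = 1 + algebraMap K L (algebraMap A K (1 - ζ)) * z' := by
    rw [hz'def, mul_div_cancel₀ _ hwL0]; ring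
  have hz' : aeval z' P =
      algebraMap K L (algebraMap A K θ / algebraMap A K (1 - ζ) ^ p) := by
    have h1 := key_identity ζ P hP (B := L) z'
    rw [hwL, ← hy₃z, hy₃, add_sub_cancel_left] at h1
    rw [map_div₀, map_pow, eq_div_iff (pow_ne_zero _ hwL0), mul_comm]
    exact h1
  have hgen' : IntermediateField.adjoin K {z'} = ⊤ := by
    apply adjoin_eq_top_of_mem y₂ hgen₂
    have h1 : y₂ = y₃ * algebraMap K L (algebraMap A K (du : A)) := by
      rw [hy₃def, div_mul_cancel₀ _ hduL]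
    rw [h1, hy₃z]
    exact mul_mem (add_mem (one_mem _) (mul_mem (IntermediateField.algebraMap_mem _ _)
      (IntermediateField.mem_adjoin_simple_self K z'))) (IntermediateField.algebraMap_mem _ _)
  obtain ⟨n, a, hna⟩ := exists_pole_order π hπ
    (algebraMap A K θ / algebraMap A K (1 - ζ) ^ p)
  exact kum_step3 ζ hζ P hP π hπ n _ z' hz' hgen'
    ⟨θ, hθm, div_mul_cancel₀ _ (pow_ne_zero _ hwK0)⟩ ⟨a, hna⟩

end general

end Groth.Agent.Lib.KumH8
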