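import Mathlib
import Groth.Prelude.Def_EtRam
import Groth.Agent.Lib.KumDvr6_helper8

/-!
# Kummer-type extensions of a DVR: assembling the statement (helper8)
-/

set_option autoImplicit false
universe u

namespace Groth.Agent.Lib.KumH8

open IsLocalRing Polynomial Groth.Agent.Lib.MonoDvrH8 Groth.Agent.Lib.ASDvrH8
  Groth.Agent.Lib.ASExtH8

section general7

variable {p : ℕ} [hp : Fact p.Prime] {A : Type u} [CommRing A] [IsDomain A]
  [IsDiscreteValuationRing A]
  {K L : Type u} [Field K] [Field L] [Algebra A K] [IsFractionRing A K] [Algebra K L] [Algebra A L]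
  [IsScalarTower A K L] [CharZero K] [CharP (ResidueField A) p] (ζ : A)
  (hζ : aeval ζ (cyclotomic p ℤ) = 0) (P : A[X])
  (hP : C ((1 - ζ) ^ p) * P = (1 + C (1 - ζ) * X) ^ p - 1)

include hζ hP in
theorem kum_cases_general (π : A) (hπ : maximalIdeal A = Ideal.span {π}) (ξ : K) (z : L)
    (hz : aeval z P = algebraMap K L ξ) (hgen : IntermediateField.adjoin K {z} = ⊤) :
    Module.finrank K L = 1 ∨
      (EtRam.IsUnramifiedExt A (algebraMap A L) ∧ Module.finrank K L = p) ∨
      (EtRam.IsTotallyRamified A (algebraMap A L) ∧ Module.finrank K L = p) ∨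
      Case4 p A (algebraMap A L) := by
  have hpA : (p : A) ≠ 0 := natCast_ne_zero (K := K) hp.out.ne_zero
  have hw := one_sub_zeta_ne_zero hp.out ζ hζ hpA
  have hwK : algebraMap A K (1 - ζ) ≠ 0 := by
    intro h0
    exact hw (IsFractionRing.injective A K (by rw [h0, map_zero]))
  have hwL : algebraMap A L (1 - ζ) = algebraMap K L (algebraMap A K (1 - ζ)) :=
    IsScalarTower.algebraMap_apply A K L _
  have hwL0 : algebraMap A L (1 - ζ) ≠ 0 := by
    rw [hwL]
    intro h0
    exact hwK ((algebraMap K L).injective (by rw [h0, map_zero]))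
  obtain ⟨y, hydef⟩ : ∃ y : L, y = 1 + algebraMap A L (1 - ζ) * z := ⟨_, rfl⟩
  have hy : y ^ p = algebraMap K L (1 + algebraMap A K (1 - ζ) ^ p * ξ) := by
    have h1 := key_identity ζ P hP (B := L) z
    rw [hz, ← hydef] at h1
    rw [map_add, map_one, map_mul, map_pow, ← hwL]
    linear_combination -h1
  have hgen' : IntermediateField.adjoin K {y} = ⊤ := by
    rw [eq_top_iff, ← hgen, IntermediateField.adjoin_simple_le_iff]
    have h1 : z = (y - 1) / algebraMap A L (1 - ζ) := by
      rw [hydef, add_sub_cancel_left, mul_comm, mul_div_assoc, div_self hwL0, mul_one]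
    rw [h1, hwL]
    exact div_mem (sub_mem (IntermediateField.mem_adjoin_simple_self K y) (one_mem _))
      (IntermediateField.algebraMap_mem _ _)
  exact kum_of_pow ζ hζ P hP π hπ y _ hy hgen'

end general7

end Groth.Agent.Lib.KumH8
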