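import Mathlib
import Groth.Agent.Lib.KumAlg1_helper5

/-!
# The Kummer algebra `R[T]/(T^d - u)` is étale when `d` and `u` are units (helper5)
APPEND-ONLY once landed.
-/

set_option autoImplicit false
universe u

namespace Groth.Agent.KumAlg

open Polynomial

variable {R : Type u} [CommRing R]

theorem derivative_pol (d : ℕ) (u : R) :
    derivative (pol d u) = C (d : R) * X ^ (d - 1) := by
  unfold pol
  rw [derivative_sub, derivative_C, sub_zero, derivative_X_pow]

/-- The standard étale pair `(T^d - u, 1)`. -/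
noncomputable def etPair {d : ℕ} (hd : 0 < d) {u : R} (hu : IsUnit u) (hdu : IsUnit (d : R)) :
    StandardEtalePair R where
  f := pol d u
  monic_f := pol_monic hd u
  g := 1
  cond := by
    obtain ⟨v, hv⟩ := (hdu.mul hu).exists_right_inv
    refine ⟨C v * X, - C (v * (d : R)), 1, ?_⟩
    rw [derivative_pol, pow_one]
    have hX : (X : R[X]) ^ (d - 1) * X = X ^ d := by
      rw [← pow_succ, Nat.sub_add_cancel hd]
    have h1 : C (d : R) * X ^ (d - 1) * (C v * X) = C (v * (d : R)) * X ^ d := by
      rw [← hX, C_mul]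
      ring
    rw [h1]
    unfold pol
    have h2 : C (v * (d : R)) * C u = (1 : R[X]) := by
      rw [← C_mul, ← C_1]
      congr 1
      rw [← hv]
      ring
    calc C (v * (d : R)) * X ^ d + (X ^ d - C u) * -C (v * (d : R))
        = C (v * (d : R)) * C u := by ring
      _ = 1 := h2

theorem etale_ofK {d : ℕ} (hd : 0 < d) {u : R} (hu : IsUnit u) (hdu : IsUnit (d : R)) :
    (ofK d u).Etale := by
  let P := etPair hd hu hdu
  have hone : AdjoinRoot.mk P.f P.g = 1 := map_one _
  haveI : IsLocalization.Away (AdjoinRoot.mk P.f P.g) (AdjoinRoot P.f) := by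
    rw [hone]
    exact IsLocalization.away_of_isUnit_of_bijective _ isUnit_one Function.bijective_id
  let e1 : Localization.Away (AdjoinRoot.mk P.f P.g) ≃ₐ[AdjoinRoot P.f] AdjoinRoot P.f :=
    IsLocalization.algEquiv (Submonoid.powers (AdjoinRoot.mk P.f P.g)) _ _
  let e2 : P.Ring ≃ₐ[R] AdjoinRoot P.f :=
    P.equivAwayAdjoinRoot.trans (e1.restrictScalars R)
  haveI : Algebra.Etale R (AdjoinRoot P.f) := Algebra.Etale.of_equiv e2
  have h := RingHom.etale_algebraMap.mpr this
  rw [AdjoinRoot.algebraMap_eq] at h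
  exact h

end Groth.Agent.KumAlg
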