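import Mathlib

/-!
# Parity decomposition of `R[x, y]` in characteristic 2 (helper9)

Tools for the KumFam kernel computations: `R[x,y]` is free over `R[x²,y²]` on `1, x, y, xy`;
derivations kill `R[x²,y²]` in characteristic 2.
-/

namespace Groth.Agent.Lib.KumFam

open MvPolynomial

universe u
variable {R : Type u} [CommRing R]

/-- `φ = expand 2 : q(x, y) ↦ q(x², y²)`. -/
noncomputable abbrev φ : MvPolynomial (Fin 2) R →ₐ[R] MvPolynomial (Fin 2) R := expand 2

lemma φ_injective : Function.Injective (φ (R := R)) := expand_injective (by norm_num)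

section char2
variable [CharP R 2]

lemma two_eq_zero' : (2 : MvPolynomial (Fin 2) R) = 0 := by
  have h : ((2 : ℕ) : MvPolynomial (Fin 2) R) = 0 := CharP.cast_eq_zero _ 2
  exact_mod_cast h

lemma D_φ (D : Derivation R (MvPolynomial (Fin 2) R) (MvPolynomial (Fin 2) R))
    (q : MvPolynomial (Fin 2) R) : D (φ q) = 0 := by
  induction q using MvPolynomial.induction_on with
  | C a =>
    rw [show (C a : MvPolynomial (Fin 2) R) = algebraMap R _ a from rfl, AlgHom.commutes,
      Derivation.map_algebraMap]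
  | add p q hp hq => rw [map_add, map_add, hp, hq, add_zero]
  | mul_X p i hp =>
    rw [map_mul, Derivation.leibniz, hp, smul_zero, add_zero, expand_X, pow_two,
      Derivation.leibniz, smul_eq_mul, smul_eq_mul]
    linear_combination (φ p * X i * D (X i)) * (two_eq_zero' (R := R))

lemma D_φ_mul (D : Derivation R (MvPolynomial (Fin 2) R) (MvPolynomial (Fin 2) R))
    (q m : MvPolynomial (Fin 2) R) : D (φ q * m) = φ q * D m := by
  rw [Derivation.leibniz, D_φ, smul_zero, add_zero, smul_eq_mul]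

/-- Uniqueness of the parity decomposition. -/
lemma parity_unique (a b c d : MvPolynomial (Fin 2) R)
    (h : φ a + φ b * X 0 + φ c * X 1 + φ d * (X 0 * X 1) = 0) :
    a = 0 ∧ b = 0 ∧ c = 0 ∧ d = 0 := by
  have h0 := congrArg (pderiv (R := R) (0 : Fin 2)) h
  have h1 := congrArg (pderiv (R := R) (1 : Fin 2)) h
  have e01 : pderiv (R := R) (0 : Fin 2) (X 1) = 0 := pderiv_X_of_ne (by decide)
  have e10 : pderiv (R := R) (1 : Fin 2) (X 0) = 0 := pderiv_X_of_ne (by decide)
  simp only [map_add, D_φ, D_φ_mul, Derivation.leibniz, pderiv_X_self, e01, e10, smul_eq_mul,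
    map_zero, mul_zero, mul_one, zero_add, add_zero] at h0 h1
  have h01 := congrArg (pderiv (R := R) (1 : Fin 2)) h0
  simp only [map_add, D_φ, D_φ_mul, pderiv_X_self, map_zero, mul_one, zero_add] at h01
  have hd : d = 0 := φ_injective (by rw [h01, map_zero])
  subst hd
  simp only [map_zero, zero_mul, add_zero] at h0 h1 h
  have hb : b = 0 := φ_injective (by rw [h0, map_zero])
  have hc : c = 0 := φ_injective (by rw [h1, map_zero])
  subst hb hc
  simp only [map_zero, zero_mul, add_zero] at h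
  exact ⟨φ_injective (by rw [h, map_zero]), rfl, rfl, rfl⟩

/-- Existence of the parity decomposition. -/
lemma parity_exists (p : MvPolynomial (Fin 2) R) :
    ∃ a b c d : MvPolynomial (Fin 2) R,
      p = φ a + φ b * X 0 + φ c * X 1 + φ d * (X 0 * X 1) := by
  induction p using MvPolynomial.induction_on with
  | C r => exact ⟨C r, 0, 0, 0, by simp [expand_C]⟩
  | add p q hp hq =>
    obtain ⟨a, b, c, d, rfl⟩ := hp
    obtain ⟨a', b', c', d', rfl⟩ := hq
    exact ⟨a + a', b + b', c + c', d + d', by simp only [map_add]; ring⟩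
  | mul_X p i hp =>
    obtain ⟨a, b, c, d, rfl⟩ := hp
    fin_cases i
    · exact ⟨b * X 0, a, d * X 0, c, by
        simp only [map_mul, expand_X, Fin.zero_eta]; ring⟩
    · exact ⟨c * X 1, d * X 1, a, b, by
        simp only [map_mul, expand_X, Fin.mk_one]; ring⟩

/-- The derivation formula in parity coordinates. -/
lemma D_parity (D : Derivation R (MvPolynomial (Fin 2) R) (MvPolynomial (Fin 2) R))
    (A A' B : MvPolynomial (Fin 2) R)
    (hx : D (X 0) = φ A + φ B * X 0) (hy : D (X 1) = φ A' + φ B * X 1)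
    (a b c d : MvPolynomial (Fin 2) R) :
    D (φ a + φ b * X 0 + φ c * X 1 + φ d * (X 0 * X 1)) =
      φ (b * A + c * A') + φ (b * B + d * A') * X 0 + φ (c * B + d * A) * X 1 +
        φ 0 * (X 0 * X 1) := by
  simp only [map_add, D_φ, D_φ_mul, Derivation.leibniz, hx, hy, smul_eq_mul, map_mul, map_zero]
  linear_combination (φ d * φ B * X 0 * X 1) * (two_eq_zero' (R := R))

lemma D_eq_zero_iff (D : Derivation R (MvPolynomial (Fin 2) R) (MvPolynomial (Fin 2) R))
    (A A' B : MvPolynomial (Fin 2) R)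
    (hx : D (X 0) = φ A + φ B * X 0) (hy : D (X 1) = φ A' + φ B * X 1)
    (a b c d : MvPolynomial (Fin 2) R)
    (h : D (φ a + φ b * X 0 + φ c * X 1 + φ d * (X 0 * X 1)) = 0) :
    b * B + d * A' = 0 ∧ c * B + d * A = 0 := by
  rw [D_parity D A A' B hx hy] at h
  obtain ⟨-, h2, h3, -⟩ := parity_unique _ _ _ _ h
  exact ⟨h2, h3⟩

/-- The invariant `w = φ A' x + φ A y + φ B xy` is killed by `D`. -/
lemma D_w (D : Derivation R (MvPolynomial (Fin 2) R) (MvPolynomial (Fin 2) R))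
    (A A' B : MvPolynomial (Fin 2) R)
    (hx : D (X 0) = φ A + φ B * X 0) (hy : D (X 1) = φ A' + φ B * X 1) :
    D (φ A' * X 0 + φ A * X 1 + φ B * (X 0 * X 1)) = 0 := by
  have := D_parity D A A' B hx hy 0 A' A B
  simp only [map_zero, zero_add, zero_mul] at this
  rw [this]
  have e : ∀ z : MvPolynomial (Fin 2) R, z + z = 0 := fun z => by
    linear_combination z * (two_eq_zero' (R := R))
  rw [mul_comm A' A, e, mul_comm B A', e, mul_comm B A, e]
  simp

end char2


section kernel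

variable [CharP R 2]

/-- `ι : R[x,y] → R[a,b,c]`, `x ↦ a`, `y ↦ b`. -/
noncomputable abbrev ι : MvPolynomial (Fin 2) R →ₐ[R] MvPolynomial (Fin 3) R :=
  rename Fin.castSucc

omit [CharP R 2] in
lemma aeval_ι (w : MvPolynomial (Fin 2) R) (q : MvPolynomial (Fin 2) R) :
    aeval (R := R) (S₁ := MvPolynomial (Fin 2) R) ![X 0 ^ 2, X 1 ^ 2, w] (ι q) = φ q := by
  have : (aeval (R := R) (S₁ := MvPolynomial (Fin 2) R) ![X 0 ^ 2, X 1 ^ 2, w]).comp ι = φ := by
    apply MvPolynomial.algHom_ext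
    intro i
    fin_cases i <;> simp [ι]
  exact congrArg (fun f => f q) this

omit [CharP R 2] in
lemma mem_range_of_eq (w p a e : MvPolynomial (Fin 2) R) (h : p = φ a + φ e * w) :
    p ∈ (aeval (R := R) (S₁ := MvPolynomial (Fin 2) R) ![X 0 ^ 2, X 1 ^ 2, w]).range := by
  refine (AlgHom.mem_range _).mpr ⟨ι a + ι e * X 2, ?_⟩
  rw [map_add, map_mul, aeval_ι, aeval_ι, aeval_X, h]
  rfl

/-- `D` kills the range of `aeval ![x², y², w]` if it kills `w`. -/
lemma D_aeval (D : Derivation R (MvPolynomial (Fin 2) R) (MvPolynomial (Fin 2) R))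
    (w : MvPolynomial (Fin 2) R) (hw : D w = 0) (q : MvPolynomial (Fin 3) R) :
    D (aeval (R := R) (S₁ := MvPolynomial (Fin 2) R) ![X 0 ^ 2, X 1 ^ 2, w] q) = 0 := by
  induction q using MvPolynomial.induction_on with
  | C a =>
    rw [show (C a : MvPolynomial (Fin 3) R) = algebraMap R _ a from rfl, AlgHom.commutes,
      Derivation.map_algebraMap]
  | add p q hp hq => rw [map_add, map_add, hp, hq, add_zero]
  | mul_X p i hp =>
    rw [map_mul, Derivation.leibniz, hp, smul_zero, add_zero, aeval_X]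
    have e0 : D (X 0 ^ 2) = 0 := by
      have := D_φ D (X 0); rwa [expand_X] at this
    have e1 : D (X 1 ^ 2) = 0 := by
      have := D_φ D (X 1); rwa [expand_X] at this
    fin_cases i <;> simp [e0, e1, hw]

/-- The relation `E = c² + ι(α² x + β² y + γ² xy)` (for `w = φ α x + φ β y + φ γ xy`). -/
noncomputable abbrev relE (α β γ : MvPolynomial (Fin 2) R) : MvPolynomial (Fin 3) R :=
  X 2 ^ 2 + ι (α ^ 2 * X 0 + β ^ 2 * X 1 + γ ^ 2 * (X 0 * X 1))

lemma aeval_relE (α β γ : MvPolynomial (Fin 2) R) :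
    aeval (R := R) (S₁ := MvPolynomial (Fin 2) R)
      ![X 0 ^ 2, X 1 ^ 2, φ α * X 0 + φ β * X 1 + φ γ * (X 0 * X 1)] (relE α β γ) = 0 := by
  rw [relE, map_add, aeval_ι, map_pow, aeval_X]
  simp only [map_add, map_mul, map_pow, expand_X, Matrix.cons_val_two, Matrix.tail_cons,
    Matrix.head_cons]
  have h2 := two_eq_zero' (R := R)
  linear_combination ((φ α) ^ 2 * X 0 ^ 2 + (φ β) ^ 2 * X 1 ^ 2 + (φ γ) ^ 2 * X 0 ^ 2 * X 1 ^ 2
    + φ α * X 0 * φ β * X 1 + φ α * X 0 * φ γ * X 0 * X 1 + φ β * X 1 * φ γ * X 0 * X 1) * h2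

omit [CharP R 2] in
/-- Reduction modulo `E`. -/
lemma reduce_mod_relE (T : MvPolynomial (Fin 2) R) (q : MvPolynomial (Fin 3) R) :
    ∃ q₀ q₁ : MvPolynomial (Fin 2) R,
      q - (ι q₀ + ι q₁ * X 2) ∈ Ideal.span {(X 2 ^ 2 + ι T : MvPolynomial (Fin 3) R)} := by
  induction q using MvPolynomial.induction_on with
  | C r =>
    refine ⟨C r, 0, ?_⟩
    simp
  | add p q hp hq =>
    obtain ⟨p₀, p₁, hp⟩ := hp
    obtain ⟨q₀, q₁, hq⟩ := hq
    refine ⟨p₀ + q₀, p₁ + q₁, ?_⟩
    have := Ideal.add_mem _ hp hq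
    convert this using 1
    simp only [map_add]; ring
  | mul_X p i hp =>
    obtain ⟨p₀, p₁, hp⟩ := hp
    fin_cases i
    · refine ⟨p₀ * X 0, p₁ * X 0, ?_⟩
      have := Ideal.mul_mem_right (X 0) _ hp
      convert this using 1
      simp only [map_mul, ι, rename_X, Fin.zero_eta, Fin.castSucc_zero]; ring
    · refine ⟨p₀ * X 1, p₁ * X 1, ?_⟩
      have := Ideal.mul_mem_right (X 1) _ hp
      convert this using 1
      simp only [map_mul, ι, rename_X, Fin.mk_one, Fin.castSucc_one]; ring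
    · refine ⟨-(p₁ * T), p₀, ?_⟩
      have h1 := Ideal.mul_mem_right (X 2) _ hp
      have h2 := Ideal.mul_mem_left _ (ι p₁) (Ideal.subset_span (Set.mem_singleton
        (X 2 ^ 2 + ι T : MvPolynomial (Fin 3) R)))
      have := Ideal.add_mem _ h1 h2
      convert this using 1
      simp only [map_mul, map_neg]
      have : (⟨2, by decide⟩ : Fin 3) = 2 := rfl
      simp only [this]
      ring

/-- Kernel of `aeval ![x², y², w]` for `w = φ α x + φ β y + φ γ xy`, `γ` regular. -/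
lemma ker_eq_span (α β γ : MvPolynomial (Fin 2) R)
    (hγ : ∀ q : MvPolynomial (Fin 2) R, q * γ = 0 → q = 0) :
    RingHom.ker (aeval (R := R) (S₁ := MvPolynomial (Fin 2) R)
      ![X 0 ^ 2, X 1 ^ 2, φ α * X 0 + φ β * X 1 + φ γ * (X 0 * X 1)]) =
      Ideal.span {relE α β γ} := by
  apply le_antisymm
  · intro q hq
    rw [RingHom.mem_ker] at hq
    obtain ⟨q₀, q₁, hred⟩ := reduce_mod_relE (α ^ 2 * X 0 + β ^ 2 * X 1 + γ ^ 2 * (X 0 * X 1)) q
    have hle : Ideal.span {relE α β γ} ≤ RingHom.ker (aeval (R := R)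
        (S₁ := MvPolynomial (Fin 2) R)
        ![X 0 ^ 2, X 1 ^ 2, φ α * X 0 + φ β * X 1 + φ γ * (X 0 * X 1)]) := by
      rw [Ideal.span_le]
      intro z hz
      rw [Set.mem_singleton_iff] at hz
      rw [hz]
      exact aeval_relE α β γ
    have h0 := hle hred
    rw [RingHom.mem_ker, map_sub, hq, zero_sub, neg_eq_zero, map_add, map_mul,
      aeval_ι, aeval_ι, aeval_X] at h0
    have : (![X 0 ^ 2, X 1 ^ 2, φ α * X 0 + φ β * X 1 + φ γ * (X 0 * X 1)] :
      Fin 3 → MvPolynomial (Fin 2) R) 2 = φ α * X 0 + φ β * X 1 + φ γ * (X 0 * X 1) := rfl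
    rw [this] at h0
    have h1 : φ q₀ + φ (q₁ * α) * X 0 + φ (q₁ * β) * X 1 + φ (q₁ * γ) * (X 0 * X 1) = 0 := by
      rw [← h0]; simp only [map_mul]; ring
    obtain ⟨e0, -, -, e3⟩ := parity_unique _ _ _ _ h1
    have e1 := hγ _ e3
    subst e0 e1
    rw [map_zero, zero_mul, add_zero, sub_zero] at hred
    exact hred
  · rw [Ideal.span_le]
    intro z hz
    rw [Set.mem_singleton_iff] at hz
    rw [hz]
    exact aeval_relE α β γ

end kernel


section misc

variable [CharP R 2]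

lemma two_eq_zero3 : (2 : MvPolynomial (Fin 3) R) = 0 := by
  have h : ((2 : ℕ) : MvPolynomial (Fin 3) R) = 0 := CharP.cast_eq_zero _ 2
  exact_mod_cast h

omit [CharP R 2] in
lemma regular_C_unit (τ : R) (hτ : IsUnit τ) (q : MvPolynomial (Fin 2) R)
    (h : q * C τ = 0) : q = 0 := by
  obtain ⟨t, rfl⟩ := hτ
  have : q * C (t : R) * C ((t⁻¹ : Rˣ) : R) = 0 := by rw [h, zero_mul]
  rwa [mul_assoc, ← C_mul, Units.mul_inv, C_1, mul_one] at this

omit [CharP R 2] in
lemma regular_C_unit_X (τ : R) (hτ : IsUnit τ) (q : MvPolynomial (Fin 2) R)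
    (h : q * (C τ * X 0 * X 1) = 0) : q = 0 := by
  have h1 : (q * C τ) * X 0 * X 1 = 0 := by rw [← h]; ring
  have h2 : (q * C τ) * X 0 = 0 :=
    (isRegular_X (R := R) (n := (1 : Fin 2))).right (by simpa using h1)
  have h3 : q * C τ = 0 :=
    (isRegular_X (R := R) (n := (0 : Fin 2))).right (by simpa using h2)
  exact regular_C_unit τ hτ q h3

/-- Solving `b * τ + d * A' = 0` for `b` in characteristic 2. -/
lemma solve_unit (τ τi : R) (hu : τ * τi = 1) (b d A' : MvPolynomial (Fin 2) R)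
    (h : b * C τ + d * A' = 0) : b = C τi * d * A' := by
  have hu' : (C τ : MvPolynomial (Fin 2) R) * C τi = 1 := by rw [← C_mul, hu, C_1]
  linear_combination (C τi) * h - b * hu' - (C τi * d * A') * (two_eq_zero' (R := R))

end misc


section cusp

/-- Elements of `R[u², u³, v², v³]` in parity coordinates. -/
lemma cusp_form (a : MvPolynomial (Fin 2) R)
    (ha : a ∈ Algebra.adjoin R
      ({X 0 ^ 2, X 0 ^ 3, X 1 ^ 2, X 1 ^ 3} : Set (MvPolynomial (Fin 2) R))) :
    ∃ a₀ a₁ a₂ a₃ : MvPolynomial (Fin 2) R,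
      a = φ a₀ + φ (X 0 * a₁) * X 0 + φ (X 1 * a₂) * X 1 +
        φ (X 0 * X 1 * a₃) * (X 0 * X 1) := by
  induction ha using Algebra.adjoin_induction with
  | mem x hx =>
    simp only [Set.mem_insert_iff, Set.mem_singleton_iff] at hx
    rcases hx with rfl | rfl | rfl | rfl
    · exact ⟨X 0, 0, 0, 0, by simp⟩
    · exact ⟨0, 1, 0, 0, by simp only [map_zero, mul_one, mul_zero, zero_mul, expand_X]; ring⟩
    · exact ⟨X 1, 0, 0, 0, by simp⟩
    · exact ⟨0, 0, 1, 0, by simp only [map_zero, mul_one, mul_zero, zero_mul, expand_X]; ring⟩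
  | algebraMap r =>
    refine ⟨C r, 0, 0, 0, ?_⟩
    simp only [mul_zero, map_zero, zero_mul, add_zero, expand_C]
    rfl
  | add x y hx hy hx' hy' =>
    obtain ⟨a₀, a₁, a₂, a₃, rfl⟩ := hx'
    obtain ⟨b₀, b₁, b₂, b₃, rfl⟩ := hy'
    exact ⟨a₀ + b₀, a₁ + b₁, a₂ + b₂, a₃ + b₃, by simp only [map_add, map_mul, mul_add]; ring⟩
  | mul x y hx hy hx' hy' =>
    obtain ⟨a₀, a₁, a₂, a₃, rfl⟩ := hx'
    obtain ⟨b₀, b₁, b₂, b₃, rfl⟩ := hy'
    refine ⟨a₀ * b₀ + X 0 ^ 3 * a₁ * b₁ + X 1 ^ 3 * a₂ * b₂ + X 0 ^ 3 * X 1 ^ 3 * a₃ * b₃,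
      a₀ * b₁ + a₁ * b₀ + X 1 ^ 3 * (a₂ * b₃ + a₃ * b₂),
      a₀ * b₂ + a₂ * b₀ + X 0 ^ 3 * (a₁ * b₃ + a₃ * b₁),
      a₀ * b₃ + a₃ * b₀ + a₁ * b₂ + a₂ * b₁, ?_⟩
    simp only [map_add, map_mul, map_pow, expand_X]
    ring

lemma φ_mem_adjoin (s : Set (MvPolynomial (Fin 2) R))
    (h0 : (X 0 ^ 2 : MvPolynomial (Fin 2) R) ∈ s) (h1 : (X 1 ^ 2 : MvPolynomial (Fin 2) R) ∈ s)
    (q : MvPolynomial (Fin 2) R) : φ q ∈ Algebra.adjoin R s := by
  induction q using MvPolynomial.induction_on with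
  | C r => rw [expand_C]; exact Subalgebra.algebraMap_mem _ r
  | add p q hp hq => rw [map_add]; exact Subalgebra.add_mem _ hp hq
  | mul_X p i hp =>
    rw [map_mul, expand_X]
    refine Subalgebra.mul_mem _ hp (Algebra.subset_adjoin ?_)
    fin_cases i
    · exact h0
    · exact h1

/-- Cancel `x² y` / `x y²`-type monomial factors. -/
lemma cancel_XXY (i j k : Fin 2) (p : MvPolynomial (Fin 2) R)
    (h : p * (X i * X j * X k) = 0) : p = 0 := by
  have hreg : IsRegular (X i * X j * X k : MvPolynomial (Fin 2) R) :=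
    (isRegular_X.mul isRegular_X).mul isRegular_X
  exact hreg.right (by simpa using h)

end cusp

end Groth.Agent.Lib.KumFam
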