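import Mathlib
import Groth.Prelude
import Groth.Agent.Lib.Tens43_helper8
import Groth.Agent.Lib.KumAlg1_helper5

/-!
# The cyclic (Kummer) algebra of an invertible module `L` with `φ : L^{⊗ d} ⟶ O_X` (helper5)
APPEND-ONLY once landed.

Sections over `W` are compatible families, indexed by the pairs `(O, e)` of an open `O ≤ W` and a
generator `e` of `L` over `O`, of elements of `Γ(X, O)[T]/(T^d - φ(e^d))`.
-/

set_option autoImplicit false
universe u
open CategoryTheory CategoryTheory.Limits AlgebraicGeometry TopologicalSpace Opposite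
open QcqsLoc QCohExtn GenLocH8 TensH8 FLFH8

namespace Groth.Agent.KumSh

open Groth.Agent.KumAlg

variable {X : Scheme.{u}} {L : X.Modules} {d : ℕ}
  (φ : CohB1.tensorPow L d ⟶ Coh.structureModule X)

/-- The function `φ(e^{⊗ d})`. -/
noncomputable def uOf (W : X.Opens) (e : Γ(L, W)) : Γ(X, W) :=
  ofM (ap φ W ((Frame.pow L d).φ W e))

theorem uOf_res {W W' : X.Opens} (h : W' ≤ W) (e : Γ(L, W)) :
    rX h (uOf φ W e) = uOf φ W' (rF L h e) := by
  unfold uOf
  rw [← (Frame.pow L d).res h e]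
  exact (congrArg ofM (ap_rF φ h _)).symm

theorem uOf_smul (W : X.Opens) (v : Γ(X, W)) (e : Γ(L, W)) :
    uOf φ W (v • e) = v ^ d * uOf φ W e := by
  unfold uOf
  rw [(Frame.pow L d).smul W v e]
  exact congrArg ofM (ap_smul φ (v ^ d) _)

theorem uOf_eq_of_smul {W : X.Opens} {v : Γ(X, W)} {e₁ e₂ : Γ(L, W)} (h : e₁ = v • e₂) :
    uOf φ W e₁ = v ^ d * uOf φ W e₂ := by
  rw [h, uOf_smul]

/-- Generator pairs below `W`. -/
structure GP (L : X.Modules) (W : X.Opens) where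
  O : X.Opens
  le : O ≤ W
  e : Γ(L, O)
  gen : IsGen L O e

/-- Restriction of a generator pair. -/
noncomputable def GP.res {W : X.Opens} (p : GP L W) (V : X.Opens) (h : V ≤ p.O) : GP L W :=
  ⟨V, h.trans p.le, rF L h p.e, p.gen.res h⟩

/-- A generator pair below `V ≤ W` is below `W`. -/
def GP.lift {V W : X.Opens} (p : GP L V) (i : V ≤ W) : GP L W :=
  ⟨p.O, p.le.trans i, p.e, p.gen⟩

/-- Families. -/
abbrev Fam (W : X.Opens) : Type u := ∀ p : GP L W, K d (uOf φ p.O p.e)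

/-- Compatibility of a family with restriction and change of generator. -/
def IsCompat (W : X.Opens) (t : Fam φ W) : Prop :=
  (∀ (p : GP L W) (V : X.Opens) (h : V ≤ p.O),
      mapK d (rX h) (uOf_res φ h p.e) (t p) = t (p.res V h)) ∧
    ∀ (O : X.Opens) (hO : O ≤ W) (e₁ e₂ : Γ(L, O)) (h₁ : IsGen L O e₁) (h₂ : IsGen L O e₂)
      (v : Γ(X, O)) (hv : e₁ = v • e₂),
      chg d v (uOf_eq_of_smul φ hv) (t ⟨O, hO, e₁, h₁⟩) = t ⟨O, hO, e₂, h₂⟩

/-- The ring of compatible families. -/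
def sub (W : X.Opens) : Subring (Fam φ W) where
  carrier := {t | IsCompat φ W t}
  mul_mem' {a b} ha hb :=
    ⟨fun p V h => by rw [Pi.mul_apply, map_mul, ha.1, hb.1]; rfl,
      fun O hO e₁ e₂ h₁ h₂ v hv => by
        rw [Pi.mul_apply, map_mul, ha.2 O hO e₁ e₂ h₁ h₂ v hv, hb.2 O hO e₁ e₂ h₁ h₂ v hv]; rfl⟩
  one_mem' :=
    ⟨fun p V h => by rw [Pi.one_apply, map_one]; rfl,
      fun O hO e₁ e₂ h₁ h₂ v hv => by rw [Pi.one_apply, map_one]; rfl⟩
  add_mem' {a b} ha hb :=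
    ⟨fun p V h => by rw [Pi.add_apply, map_add, ha.1, hb.1]; rfl,
      fun O hO e₁ e₂ h₁ h₂ v hv => by
        rw [Pi.add_apply, map_add, ha.2 O hO e₁ e₂ h₁ h₂ v hv, hb.2 O hO e₁ e₂ h₁ h₂ v hv]; rfl⟩
  zero_mem' :=
    ⟨fun p V h => by rw [Pi.zero_apply, map_zero]; rfl,
      fun O hO e₁ e₂ h₁ h₂ v hv => by rw [Pi.zero_apply, map_zero]; rfl⟩
  neg_mem' {a} ha :=
    ⟨fun p V h => by rw [Pi.neg_apply, map_neg, ha.1]; rfl,
      fun O hO e₁ e₂ h₁ h₂ v hv => by
        rw [Pi.neg_apply, map_neg, ha.2 O hO e₁ e₂ h₁ h₂ v hv]; rfl⟩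

theorem mem_sub {W : X.Opens} {t : Fam φ W} : t ∈ sub φ W ↔ IsCompat φ W t := Iff.rfl

/-- Restriction of compatible families. -/
noncomputable def resHom {V W : X.Opens} (i : V ≤ W) : sub φ W →+* sub φ V where
  toFun t := ⟨fun p => t.1 (p.lift i),
    ⟨fun p V' h => t.2.1 (p.lift i) V' h,
      fun O hO e₁ e₂ h₁ h₂ v hv => t.2.2 O (hO.trans i) e₁ e₂ h₁ h₂ v hv⟩⟩
  map_one' := rfl
  map_mul' _ _ := rfl
  map_zero' := rfl
  map_add' _ _ := rfl

/-- The presheaf of rings. -/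
noncomputable def presheaf : TopCat.Presheaf CommRingCat.{u} X.carrier where
  obj U := CommRingCat.of (sub φ U.unop)
  map {U V} i := CommRingCat.ofHom (resHom φ i.unop.le)
  map_id U := by
    refine CommRingCat.hom_ext (RingHom.ext fun t => ?_)
    rfl
  map_comp {U V W} i j := by
    refine CommRingCat.hom_ext (RingHom.ext fun t => ?_)
    rfl

/-- The structure map on sections. -/
noncomputable def strHom (W : X.Opens) : Γ(X, W) →+* sub φ W where
  toFun r := ⟨fun p => ofK d _ (rX p.le r),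
    ⟨fun p V h => by
        rw [mapK_of, rX_rX]
        rfl,
      fun O hO e₁ e₂ h₁ h₂ v hv => by rw [chg_of]⟩⟩
  map_one' := by
    refine Subtype.ext (funext fun p => ?_)
    change ofK d _ (rX p.le 1) = 1
    rw [map_one, map_one]
  map_mul' a b := by
    refine Subtype.ext (funext fun p => ?_)
    change ofK d _ (rX p.le (a * b)) = ofK d _ (rX p.le a) * ofK d _ (rX p.le b)
    rw [map_mul, map_mul]
  map_zero' := by
    refine Subtype.ext (funext fun p => ?_)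
    change ofK d _ (rX p.le 0) = 0
    rw [map_zero, map_zero]
  map_add' a b := by
    refine Subtype.ext (funext fun p => ?_)
    change ofK d _ (rX p.le (a + b)) = ofK d _ (rX p.le a) + ofK d _ (rX p.le b)
    rw [map_add, map_add]

/-- The structure map. -/
noncomputable def str : X.presheaf ⟶ presheaf φ where
  app U := CommRingCat.ofHom (strHom φ U.unop)
  naturality {U V} i := by
    refine CommRingCat.hom_ext (RingHom.ext fun r => ?_)
    refine Subtype.ext (funext fun p => ?_)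
    change ofK d _ (rX p.le (rX i.unop.le r)) = ofK d _ (rX (p.le.trans i.unop.le) r)
    rw [rX_rX]

section Glue

theorem mapK_heq {R R' : Type u} [CommRing R] [CommRing R'] (f : R →+* R') {w : R} {w₁ w₂ : R'}
    (h₁ : f w = w₁) (h₂ : f w = w₂) (x : K d w) : HEq (mapK d f h₁ x) (mapK d f h₂ x) := by
  subst h₁
  subst h₂
  rfl

theorem mapK_heq' {R R' : Type u} [CommRing R] [CommRing R'] (f : R →+* R') {w w' : R}
    {w₁ w₂ : R'} (h₁ : f w = w₁) (h₂ : f w' = w₂) (x : K d w) (x' : K d w') (hw : w = w')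
    (hx : HEq x x') : HEq (mapK d f h₁ x) (mapK d f h₂ x') := by
  subst hw
  have := eq_of_heq hx
  subst this
  exact mapK_heq f h₁ h₂ x

/-- The value of a family only depends on the generator. -/
theorem fam_heq {W : X.Opens} (t : Fam φ W) {O : X.Opens} {hO hO' : O ≤ W} {e e' : Γ(L, O)}
    (he : e = e') {g : IsGen L O e} {g' : IsGen L O e'} :
    HEq (t ⟨O, hO, e, g⟩) (t ⟨O, hO', e', g'⟩) := by
  subst he
  rfl

variable (hd : 0 < d)
include hd

/-- Elements of the Kummer algebra over an open are determined locally. -/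
theorem K_ext_cover {V : X.Opens} {w : Γ(X, V)} (x y : K d w) {ι : Type*} (O : ι → X.Opens)
    (hO : ∀ i, O i ≤ V) (hcov : V ≤ ⨆ i, O i) (w' : ∀ i, Γ(X, O i))
    (hw : ∀ i, rX (hO i) w = w' i)
    (h : ∀ i, mapK d (rX (hO i)) (hw i) x = mapK d (rX (hO i)) (hw i) y) : x = y := by
  apply KumAlg.ext_coef hd
  intro n hn
  apply eqX_of_cover
  intro z hz
  obtain ⟨i, hi⟩ := Opens.mem_iSup.mp (hcov hz)
  refine ⟨O i, hO i, hi, ?_⟩
  rw [← KumAlg.coef_mapK hd (rX (hO i)) (hw i) x hn, ← KumAlg.coef_mapK hd (rX (hO i)) (hw i) y hn, h i]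

/-- Elements of the Kummer algebra over an open glue. -/
theorem K_glue {V : X.Opens} (w : Γ(X, V)) {ι : Type*} (O : ι → X.Opens)
    (hO : ∀ i, O i ≤ V) (hcov : V ≤ ⨆ i, O i) (w' : ∀ i, Γ(X, O i))
    (hw : ∀ i, rX (hO i) w = w' i) (w'' : ∀ i j, Γ(X, O i ⊓ O j))
    (hl : ∀ i j, rX (inf_le_left : O i ⊓ O j ≤ O i) (w' i) = w'' i j)
    (hr : ∀ i j, rX (inf_le_right : O i ⊓ O j ≤ O j) (w' j) = w'' i j)
    (x : ∀ i, K d (w' i))
    (hx : ∀ i j, mapK d (rX (inf_le_left : O i ⊓ O j ≤ O i)) (hl i j) (x i) =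
      mapK d (rX (inf_le_right : O i ⊓ O j ≤ O j)) (hr i j) (x j)) :
    ∃ y : K d w, ∀ i, mapK d (rX (hO i)) (hw i) y = x i := by
  have hc : ∀ n : ℕ, ∃ a : Γ(X, V), ∀ i, rX (hO i) a = KumAlg.coef hd (x i) n := by
    intro n
    refine glueX O V hO hcov (fun i => KumAlg.coef hd (x i) n) (fun i j => ?_)
    by_cases hn : n < d
    · rw [← KumAlg.coef_mapK hd _ (hl i j) (x i) hn, ← KumAlg.coef_mapK hd _ (hr i j) (x j) hn, hx i j]
    · rw [KumAlg.coef_eq_zero hd (x i) (not_lt.mp hn), KumAlg.coef_eq_zero hd (x j) (not_lt.mp hn), map_zero,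
        map_zero]
  choose a ha using hc
  refine ⟨ofCoef d w a, fun i => ?_⟩
  rw [mapK_ofCoef]
  refine Eq.trans ?_ (KumAlg.ofCoef_coef hd (x i))
  exact ofCoef_congr (fun n _ => ha n i)

end Glue

section Sheaf

variable (hd : 0 < d)
include hd

theorem isSheaf_presheaf : (presheaf φ).IsSheaf := by
  refine (TopCat.Presheaf.isSheaf_iff_isSheafUniqueGluing _).mpr (fun ι U sf hsf => ?_)
  let sf' : ∀ i, sub φ (U i) := sf
  have hcomp : ∀ (i j : ι) (q : GP L (U i ⊓ U j)),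
      (sf' i).1 (q.lift inf_le_left) = (sf' j).1 (q.lift inf_le_right) :=
    fun i j q => congrArg (fun a : sub φ (U i ⊓ U j) => a.1 q) (hsf i j)
  let pr : ∀ {W : X.Opens} (p : GP L W) (i : ι), GP L (U i) := fun p i =>
    ⟨p.O ⊓ U i, inf_le_right, rF L inf_le_left p.e, p.gen.res inf_le_left⟩
  have hcov : ∀ (O : X.Opens), O ≤ iSup U → O ≤ ⨆ i, O ⊓ U i := by
    intro O hO z hz
    obtain ⟨i, hi⟩ := Opens.mem_iSup.mp (hO hz)
    exact Opens.mem_iSup.mpr ⟨i, hz, hi⟩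
  have key : ∀ p : GP L (iSup U), ∃ y : K d (uOf φ p.O p.e), ∀ i,
      mapK d (rX (inf_le_left : p.O ⊓ U i ≤ p.O)) (uOf_res φ _ p.e) y = (sf' i).1 (pr p i) := by
    intro p
    refine K_glue hd (uOf φ p.O p.e) (fun i => p.O ⊓ U i) (fun i => inf_le_left) (hcov p.O p.le)
      (fun i => uOf φ _ (rF L inf_le_left p.e)) (fun i => uOf_res φ _ p.e)
      (fun i j => uOf φ _ (rF L (inf_le_left.trans inf_le_left) p.e))
      (fun i j => by rw [uOf_res, rF_rF]) (fun i j => by rw [uOf_res, rF_rF])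
      (fun i => (sf' i).1 (pr p i)) (fun i j => ?_)
    apply eq_of_heq
    have h1 := (sf' i).2.1 (pr p i) ((p.O ⊓ U i) ⊓ (p.O ⊓ U j)) inf_le_left
    have h2 := (sf' j).2.1 (pr p j) ((p.O ⊓ U i) ⊓ (p.O ⊓ U j)) inf_le_right
    let q : GP L (U i ⊓ U j) := ⟨(p.O ⊓ U i) ⊓ (p.O ⊓ U j), inf_le_inf inf_le_right inf_le_right,
      rF L (inf_le_left.trans inf_le_left) p.e, p.gen.res _⟩
    refine HEq.trans (b := (sf' i).1 ((pr p i).res _ inf_le_left))
      ((mapK_heq _ _ _ _).trans (heq_of_eq h1)) ?_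
    refine HEq.trans (b := (sf' i).1 (q.lift inf_le_left))
      (fam_heq φ (sf' i).1 (rF_rF L _ _ p.e)) ?_
    refine HEq.trans (b := (sf' j).1 (q.lift inf_le_right)) (heq_of_eq (hcomp i j q)) ?_
    refine HEq.trans (b := (sf' j).1 ((pr p j).res _ inf_le_right))
      (fam_heq φ (sf' j).1 (rF_rF L _ _ p.e).symm) ?_
    exact (heq_of_eq h2.symm).trans (mapK_heq _ _ _ _)
  choose s hs using key
  have hsR : ∀ (p : GP L (iSup U)) (V : X.Opens) (h : V ≤ p.O),
      mapK d (rX h) (uOf_res φ h p.e) (s p) = s (p.res V h) := by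
    intro p V h
    refine K_ext_cover hd _ _ (fun i => V ⊓ U i) (fun i => inf_le_left) (hcov V (h.trans p.le))
      (fun i => uOf φ _ (rF L inf_le_left (rF L h p.e))) (fun i => uOf_res φ _ _) (fun i => ?_)
    refine Eq.trans ?_ (hs (p.res V h) i).symm
    apply eq_of_heq
    have h1 := (sf' i).2.1 (pr p i) (V ⊓ U i) (inf_le_inf h le_rfl)
    have e1 : mapK d (rX (inf_le_left : V ⊓ U i ≤ V)) (uOf_res φ _ _)
        (mapK d (rX h) (uOf_res φ h p.e) (s p)) =
        mapK d ((rX (inf_le_left : V ⊓ U i ≤ V)).comp (rX h))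
          (by rw [RingHom.comp_apply, uOf_res, uOf_res]) (s p) := mapK_mapK d _ _ _ _ _ _
    have e2 : mapK d (rX (inf_le_inf h le_rfl : V ⊓ U i ≤ p.O ⊓ U i)) (uOf_res φ _ _)
        (mapK d (rX (inf_le_left : p.O ⊓ U i ≤ p.O)) (uOf_res φ _ p.e) (s p)) =
        mapK d ((rX (inf_le_inf h le_rfl : V ⊓ U i ≤ p.O ⊓ U i)).comp
          (rX (inf_le_left : p.O ⊓ U i ≤ p.O)))
          (by rw [RingHom.comp_apply, uOf_res, uOf_res]) (s p) := mapK_mapK d _ _ _ _ _ _
    have e3 : (rX (inf_le_left : V ⊓ U i ≤ V)).comp (rX h) =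
        (rX (inf_le_inf h le_rfl : V ⊓ U i ≤ p.O ⊓ U i)).comp
          (rX (inf_le_left : p.O ⊓ U i ≤ p.O)) := by
      refine RingHom.ext fun r => ?_
      rw [RingHom.comp_apply, RingHom.comp_apply, rX_rX, rX_rX]
    have e4 := mapK_congr d e3 (by rw [RingHom.comp_apply, uOf_res, uOf_res])
      (by rw [RingHom.comp_apply, uOf_res, uOf_res, rF_rF, rF_rF]) (s p)
    rw [hs p i] at e2
    refine HEq.trans (b := mapK d ((rX (inf_le_left : V ⊓ U i ≤ V)).comp (rX h))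
      (by rw [RingHom.comp_apply, uOf_res, uOf_res]) (s p)) (heq_of_eq e1) ?_
    refine HEq.trans (b := mapK d ((rX (inf_le_inf h le_rfl : V ⊓ U i ≤ p.O ⊓ U i)).comp
          (rX (inf_le_left : p.O ⊓ U i ≤ p.O)))
          (by rw [RingHom.comp_apply, uOf_res, uOf_res]) (s p))
      ((heq_of_eq e4).trans (mapK_heq _ _ _ _)) ?_
    refine HEq.trans (b := (sf' i).1 ((pr p i).res (V ⊓ U i) (inf_le_inf h le_rfl)))
      ((heq_of_eq e2.symm).trans (heq_of_eq h1)) ?_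
    exact fam_heq φ (sf' i).1 ((rF_rF L _ _ p.e).trans (rF_rF L _ h p.e).symm)
  have hsT : ∀ (O : X.Opens) (hO : O ≤ iSup U) (e₁ e₂ : Γ(L, O)) (h₁ : IsGen L O e₁)
      (h₂ : IsGen L O e₂) (v : Γ(X, O)) (hv : e₁ = v • e₂),
      chg d v (uOf_eq_of_smul φ hv) (s ⟨O, hO, e₁, h₁⟩) = s ⟨O, hO, e₂, h₂⟩ := by
    intro O hO e₁ e₂ h₁ h₂ v hv
    refine K_ext_cover hd _ _ (fun i => O ⊓ U i) (fun i => inf_le_left) (hcov O hO)
      (fun i => uOf φ _ (rF L inf_le_left e₂)) (fun i => uOf_res φ _ _) (fun i => ?_)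
    refine Eq.trans ?_ (hs ⟨O, hO, e₂, h₂⟩ i).symm
    have hv' : rF L (inf_le_left : O ⊓ U i ≤ O) e₁ =
        rX (inf_le_left : O ⊓ U i ≤ O) v • rF L (inf_le_left : O ⊓ U i ≤ O) e₂ := by
      rw [hv, rF_smul]
    have h3 := (sf' i).2.2 (O ⊓ U i) inf_le_right _ _ (h₁.res inf_le_left) (h₂.res inf_le_left)
      _ hv'
    refine Eq.trans ?_ h3
    rw [mapK_chg d (rX (inf_le_left : O ⊓ U i ≤ O)) v (uOf_eq_of_smul φ hv) (uOf_res φ _ _)
      (uOf_res φ _ _) (uOf_eq_of_smul φ hv')]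
    exact congrArg _ (hs ⟨O, hO, e₁, h₁⟩ i)
  let g : sub φ (iSup U) := ⟨s, hsR, hsT⟩
  refine ⟨g, fun i => ?_, fun t ht => ?_⟩
  · refine Subtype.ext (funext fun p => ?_)
    change s (p.lift (le_iSup U i)) = (sf' i).1 p
    refine K_ext_cover hd _ _ (fun j => p.O ⊓ U j) (fun j => inf_le_left)
      (hcov p.O (p.le.trans (le_iSup U i)))
      (fun j => uOf φ _ (rF L inf_le_left p.e)) (fun j => uOf_res φ _ _) (fun j => ?_)
    refine (hs (p.lift (le_iSup U i)) j).trans ?_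
    refine Eq.trans ?_ ((sf' i).2.1 p (p.O ⊓ U j) inf_le_left).symm
    let q : GP L (U i ⊓ U j) := ⟨p.O ⊓ U j, le_inf (inf_le_left.trans p.le) inf_le_right,
      rF L inf_le_left p.e, p.gen.res inf_le_left⟩
    exact (hcomp i j q).symm
  · let t' : sub φ (iSup U) := t
    refine Subtype.ext (funext fun p => ?_)
    change t'.1 p = s p
    refine K_ext_cover hd _ _ (fun i => p.O ⊓ U i) (fun i => inf_le_left) (hcov p.O p.le)
      (fun i => uOf φ _ (rF L inf_le_left p.e)) (fun i => uOf_res φ _ _) (fun i => ?_)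
    refine Eq.trans ?_ (hs p i).symm
    refine (t'.2.1 p (p.O ⊓ U i) inf_le_left).trans ?_
    exact congrArg (fun a : sub φ (U i) => a.1 (pr p i)) (ht i)

end Sheaf

end Groth.Agent.KumSh
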