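import Mathlib
import Groth.Prelude
import Groth.Agent.Lib.KumSh1_helper5

/-!
# The cyclic (Kummer) algebra: charts (helper5)
APPEND-ONLY once landed.

Over an open `W` carrying a generator `e` of `L`, evaluation at `(W, e)` identifies the sections of
the Kummer algebra with `Γ(X, W)[T]/(T^d - φ(e^d))`.
-/

set_option autoImplicit false
universe u
open CategoryTheory CategoryTheory.Limits AlgebraicGeometry TopologicalSpace Opposite
open QcqsLoc QCohExtn GenLocH8 TensH8 FLFH8

namespace Groth.Agent.KumSh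

open Groth.Agent.KumAlg

variable {X : Scheme.{u}} {L : X.Modules} {d : ℕ}
  (φ : CohB1.tensorPow L d ⟶ Coh.structureModule X)

theorem rX_self' {W : X.Opens} (h : W ≤ W) (c : Γ(X, W)) : rX h c = c := by
  have e : (homOfLE h).op = 𝟙 (op W) := rfl
  show (X.presheaf.map (homOfLE h).op).hom c = c
  rw [e, X.presheaf.map_id]
  rfl

/-- Evaluation of a compatible family at a generator pair. -/
noncomputable def evHom {W : X.Opens} (p : GP L W) : sub φ W →+* K d (uOf φ p.O p.e) where
  toFun t := t.1 p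
  map_one' := rfl
  map_mul' _ _ := rfl
  map_zero' := rfl
  map_add' _ _ := rfl

theorem evHom_apply {W : X.Opens} (p : GP L W) (t : sub φ W) : evHom φ p t = t.1 p := rfl

theorem evHom_strHom {W : X.Opens} (p : GP L W) (r : Γ(X, W)) :
    evHom φ p (strHom φ W r) = ofK d _ (rX p.le r) := rfl

theorem evHom_resHom {V W : X.Opens} (i : V ≤ W) (p : GP L V) (t : sub φ W) :
    evHom φ p (resHom φ i t) = evHom φ (p.lift i) t := rfl

/-- The generator pair of a generator. -/
abbrev gp {W : X.Opens} {e : Γ(L, W)} (he : IsGen L W e) : GP L W := ⟨W, le_rfl, e, he⟩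

/-- The restricted generator pair. -/
noncomputable abbrev gpr {W : X.Opens} {e : Γ(L, W)} (he : IsGen L W e) {O : X.Opens}
    (hO : O ≤ W) : GP L O := ⟨O, le_rfl, rF L hO e, he.res hO⟩

theorem evHom_gpr {W : X.Opens} {e : Γ(L, W)} (he : IsGen L W e) {O : X.Opens} (hO : O ≤ W)
    (t : sub φ W) :
    evHom φ (gpr he hO) (resHom φ hO t) = mapK d (rX hO) (uOf_res φ hO e) (evHom φ (gp he) t) :=
  (t.2.1 (gp he) O hO).symm

section

variable (hd : 0 < d)
include hd

omit hd in
theorem eval_injective {W : X.Opens} {e : Γ(L, W)} (he : IsGen L W e) {t t' : sub φ W}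
    (h : evHom φ (gp he) t = evHom φ (gp he) t') : t = t' := by
  refine Subtype.ext (funext fun p => ?_)
  obtain ⟨O, hO, e', he'⟩ := p
  obtain ⟨v, hv⟩ := (he.res hO).exists_coef e'
  have hvu : IsUnit v := isUnit_of_isGen_smul (he.res hO) (hv ▸ he')
  have h1 := t.2.2 O hO e' (rF L hO e) he' (he.res hO) v hv
  have h2 := t'.2.2 O hO e' (rF L hO e) he' (he.res hO) v hv
  have h3 := t.2.1 (gp he) O hO
  have h4 := t'.2.1 (gp he) O hO
  apply (chg_bijective d hvu (uOf_eq_of_smul φ hv)).1
  rw [h1, h2]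
  exact h3.symm.trans ((congrArg _ h).trans h4)

/-- The coefficient of the restriction of `e` with respect to the generator of a pair. -/
noncomputable def cf {W : X.Opens} (e : Γ(L, W)) (p : GP L W) : Γ(X, p.O) :=
  Classical.choose (p.gen.exists_coef (rF L p.le e))

omit hd in
theorem cf_spec {W : X.Opens} (e : Γ(L, W)) (p : GP L W) : rF L p.le e = cf e p • p.e :=
  Classical.choose_spec (p.gen.exists_coef (rF L p.le e))

omit hd in
theorem cf_unique {W : X.Opens} (e : Γ(L, W)) (p : GP L W) (c : Γ(X, p.O))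
    (h : rF L p.le e = c • p.e) : cf e p = c :=
  IsGen.coef_ext p.gen ((cf_spec e p).symm.trans h)

/-- The family with prescribed value at a generator. -/
noncomputable def famOf {W : X.Opens} (e : Γ(L, W)) (x : K d (uOf φ W e)) : Fam φ W :=
  fun p => chg d (cf e p) (uOf_eq_of_smul φ (cf_spec e p)) (mapK d (rX p.le) (uOf_res φ p.le e) x)

theorem coef_famOf {W : X.Opens} (e : Γ(L, W)) (x : K d (uOf φ W e)) (p : GP L W) {n : ℕ}
    (hn : n < d) :
    KumAlg.coef hd (famOf φ e x p) n = rX p.le (KumAlg.coef hd x n) * cf e p ^ n := by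
  unfold famOf
  rw [KumAlg.coef_chg hd _ _ _ hn, KumAlg.coef_mapK hd _ _ _ hn]

theorem isCompat_famOf {W : X.Opens} (e : Γ(L, W)) (x : K d (uOf φ W e)) :
    IsCompat φ W (famOf φ e x) := by
  constructor
  · intro p V h
    apply KumAlg.ext_coef hd
    intro n hn
    have hc : cf e (p.res V h) = rX h (cf e p) := by
      apply cf_unique
      change rF L (h.trans p.le) e = rX h (cf e p) • rF L h p.e
      rw [← rF_smul, ← cf_spec, rF_rF]
    refine (KumAlg.coef_mapK hd _ _ _ hn).trans ?_
    refine Eq.trans ?_ (coef_famOf φ hd e x (p.res V h) hn).symm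
    rw [coef_famOf φ hd e x p hn, hc, map_mul, map_pow, rX_rX]
    rfl
  · intro O hO e₁ e₂ h₁ h₂ v hv
    apply KumAlg.ext_coef hd
    intro n hn
    rw [KumAlg.coef_chg hd _ _ _ hn, coef_famOf φ hd e x _ hn, coef_famOf φ hd e x _ hn]
    have hc : cf e ⟨O, hO, e₂, h₂⟩ = cf e ⟨O, hO, e₁, h₁⟩ * v := by
      apply cf_unique
      change rF L hO e = (cf e ⟨O, hO, e₁, h₁⟩ * v) • e₂
      rw [mul_smul, ← hv]
      exact cf_spec e ⟨O, hO, e₁, h₁⟩
    rw [hc, mul_pow, mul_assoc]

theorem eval_surjective {W : X.Opens} {e : Γ(L, W)} (he : IsGen L W e) (x : K d (uOf φ W e)) :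
    ∃ t : sub φ W, evHom φ (gp he) t = x := by
  refine ⟨⟨famOf φ e x, isCompat_famOf φ hd e x⟩, ?_⟩
  apply KumAlg.ext_coef hd
  intro n hn
  change KumAlg.coef hd (famOf φ e x (gp he)) n = _
  rw [coef_famOf φ hd e x _ hn]
  have hc : cf e (gp he) = 1 := by
    apply cf_unique
    change rF L le_rfl e = (1 : Γ(X, W)) • e
    rw [one_smul, SubExt.rF_self]
  rw [hc, one_pow, mul_one]
  exact rX_self' _ _

end

end Groth.Agent.KumSh
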