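import Mathlib
import Groth.Agent.Lib.PrinPart1_helper6

/-!
# Differential operators of order `0` are the linear maps (helper6)
-/

set_option autoImplicit false
universe u
open CategoryTheory CategoryTheory.Limits AlgebraicGeometry TopologicalSpace Opposite

namespace Groth.Agent.Lib.PrinPart2H6

open Scheme.Modules Groth.Agent.Lib.PrinPart1H6

variable {X S : Scheme.{u}} (f : X ⟶ S)

/-- `d^0` as a morphism of `O_X`-modules. -/
noncomputable def d0Hom (F : X.Modules) : F ⟶ PrinPart.PMod f 0 F :=
  (pullbackPushforwardAdjunction (PrinPart.pr2 f 0)).unit.app F ≫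
    (pushforwardCongr (pr1_zero_eq_pr2_zero f).symm).hom.app
      ((Scheme.Modules.pullback (PrinPart.pr2 f 0)).obj F)

theorem d0Hom_app (F : X.Modules) (U : X.Opens) (t : Γ(F, U)) :
    (d0Hom f F).app U t = PrinPart.dP f 0 F U t := by
  rw [PrinPart.dP_apply]
  change ((Scheme.Modules.pullback (PrinPart.pr2 f 0)).obj F).presheaf.map _
    (OmegaSh.pullSect (PrinPart.pr2 f 0) F U t) = _
  congr 1

instance isIso_d0Hom (F : X.Modules) : IsIso (d0Hom f F) := by
  haveI := isIso_pr2_zero f
  have h1 := isIso_unit_app (PrinPart.pr2 f 0) F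
  have h2 : IsIso ((pushforwardCongr (pr1_zero_eq_pr2_zero f).symm).hom.app
      ((Scheme.Modules.pullback (PrinPart.pr2 f 0)).obj F)) := inferInstance
  exact @IsIso.comp_isIso _ _ _ _ _ _ _ h1 h2

/-- An additive map of presheaves that is `O_X`-linear is a morphism of modules. -/
noncomputable def homOfLinear (F G : X.Modules) (D : F.presheaf ⟶ G.presheaf)
    (h : ∀ (U : X.Opens) (a : Γ(X, U)) (t : Γ(F, U)),
      D.app (op U) (a • t) = a • D.app (op U) t) : F ⟶ G :=
  (⟨PresheafOfModules.homMk (M₁ := F.val) (M₂ := G.val) D (fun U r m => h U.unop r m)⟩ :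
    SheafOfModules.Hom F G)

theorem homOfLinear_app (F G : X.Modules) (D : F.presheaf ⟶ G.presheaf)
    (h : ∀ (U : X.Opens) (a : Γ(X, U)) (t : Γ(F, U)),
      D.app (op U) (a • t) = a • D.app (op U) t) (U : X.Opens) (t : Γ(F, U)) :
    (homOfLinear F G D h).app U t = D.app (op U) t := rfl

theorem isDiffOpLE_zero_iff (F G : X.Modules) (D : F.presheaf ⟶ G.presheaf) :
    PrinPart.IsDiffOpLE f F G 0 D ↔
      ∀ (U : X.Opens) (a : Γ(X, U)) (t : Γ(F, U)),
        D.app (op U) (a • t) = a • D.app (op U) t := by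
  constructor
  · rintro ⟨u, hu⟩ U a t
    have key : ∀ s : Γ(F, U), D.app (op U) s = (d0Hom f F ≫ u).app U s := by
      intro s
      rw [hu, ← d0Hom_app]
      rfl
    rw [key, key, Scheme.Modules.Hom.app_smul]
  · intro h
    refine ⟨inv (d0Hom f F) ≫ homOfLinear F G D h, fun U t => ?_⟩
    rw [← d0Hom_app, ← homOfLinear_app F G D h U t]
    have : (d0Hom f F ≫ inv (d0Hom f F) ≫ homOfLinear F G D h).app U t =
        (homOfLinear F G D h).app U t := by
      rw [IsIso.hom_inv_id_assoc]
    exact this.symm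

end Groth.Agent.Lib.PrinPart2H6
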