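import Mathlib
import Groth.Prelude
import Groth.Agent.S8255
import Groth.Agent.Lib.PrinPart2_helper6
import Groth.Agent.Lib.CoverRank_helper4

set_option autoImplicit false
set_option linter.style.haveILetI false
set_option linter.unusedVariables false

universe u

open CategoryTheory CategoryTheory.Limits AlgebraicGeometry TopologicalSpace Opposite

namespace Groth.Agent.Lib.RelSpecModH6

variable {X : Scheme.{u}} (A : RelSpec.QCAlg X)

/-- The pushforward of the structure module of `Spec(A)`. -/
noncomputable abbrev pushO : X.Modules :=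
  (Scheme.Modules.pushforward A.π).obj (Coh.structureModule A.spec)

/-- The additive presheaf map underlying `gammaMap`. -/
noncomputable def gammaAdd : (pushO A).presheaf ⟶ A.toModule.presheaf where
  app U := AddCommGrpCat.ofHom (A.gammaMap.app U).hom.toAddMonoidHom
  naturality U V i := by
    ext m
    have h := congr_arg (fun ψ => ψ.hom m) (A.gammaMap.naturality i)
    exact h

theorem gammaAdd_app (U : X.Opens) (m : Γ(pushO A, U)) :
    (gammaAdd A).app (op U) m = (A.gammaMap.app (op U)).hom m := rfl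

theorem gammaAdd_linear (U : X.Opens) (a : Γ(X, U)) (t : Γ(pushO A, U)) :
    (gammaAdd A).app (op U) (a • t) = a • (gammaAdd A).app (op U) t := by
  let t' : Γ(A.spec, A.π ⁻¹ᵁ U) := t
  have h1 : (a • t : Γ(pushO A, U)) = ((A.π.app U).hom a * t' : Γ(A.spec, A.π ⁻¹ᵁ U)) := rfl
  have h2 : (A.gammaMap.app (op U)).hom ((A.π.app U).hom a) = (A.str.app (op U)).hom a :=
    congr_arg (fun ψ => ψ.hom a) (NatTrans.congr_app A.π_c_gammaMap (op U))
  rw [gammaAdd_app, gammaAdd_app, h1]
  refine (map_mul (A.gammaMap.app (op U)).hom _ _).trans ?_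
  rw [h2]
  rfl

/-- `gammaMap` as a morphism of modules. -/
noncomputable def gammaMod : pushO A ⟶ A.toModule :=
  Groth.Agent.Lib.PrinPart2H6.homOfLinear (pushO A) A.toModule (gammaAdd A) (gammaAdd_linear A)

instance isIso_gammaMod : IsIso (gammaMod A) := by
  rw [Scheme.Modules.Hom.isIso_iff_isIso_app]
  intro U
  haveI : IsIso A.gammaMap := Groth.Agent.S8255.result A
  haveI : IsIso (A.gammaMap.app (op U)) := inferInstance
  have hb : Function.Bijective (A.gammaMap.app (op U)).hom :=
    ConcreteCategory.bijective_of_isIso (A.gammaMap.app (op U))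
  rw [ConcreteCategory.isIso_iff_bijective]
  exact hb

theorem isFinLocFreeOfRank_pushO (d : ℕ) (hA : FlatMod.IsFinLocFreeOfRank d A.toModule) :
    FlatMod.IsFinLocFreeOfRank d (pushO A) := by
  intro y
  obtain ⟨U, hyU, ⟨α⟩⟩ := hA y
  exact ⟨U, hyU, ⟨(Scheme.Modules.restrictFunctor U.ι).mapIso (asIso (gammaMod A)) ≪≫ α⟩⟩

theorem isCover_π (d : ℕ) (hA : FlatMod.IsFinLocFreeOfRank d A.toModule) :
    FinCov.IsCover A.π d :=
  (Groth.Agent.Lib.CoverRankH4.main19692 A.π d).mpr ⟨inferInstance, isFinLocFreeOfRank_pushO A d hA⟩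

end Groth.Agent.Lib.RelSpecModH6
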