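import Mathlib
import Groth.Prelude
import Groth.Agent.Lib.KumSh2_helper5
import Groth.Agent.Lib.QCAlgOfSheaf_helper6
import Groth.Agent.Lib.RelSpecMod_helper6
import Groth.Agent.Lib.FLF6_helper8

/-!
# The cyclic (Kummer) algebra is finite locally free of rank `d`; its relative spectrum (helper5)
APPEND-ONLY once landed.
-/

set_option autoImplicit false
universe u
open CategoryTheory CategoryTheory.Limits AlgebraicGeometry TopologicalSpace Opposite
open QcqsLoc QCohExtn GenLocH8 TensH8 FLFH8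

namespace Groth.Agent.KumSh

open Groth.Agent.KumAlg Groth.Agent.Lib.QCAlgOfSheafH6

variable {X : Scheme.{u}} {L : X.Modules} {d : ℕ}
  (φ : CohB1.tensorPow L d ⟶ Coh.structureModule X) (hd : 0 < d)

/-- The Kummer algebra as a sheaf of rings. -/
noncomputable def sheaf : Sheaf (Opens.grothendieckTopology X) CommRingCat.{u} :=
  ⟨presheaf φ, isSheaf_presheaf φ hd⟩

/-- Its structure map. -/
noncomputable def strS : X.sheaf ⟶ sheaf φ hd := ⟨str φ⟩

/-- The Kummer algebra as a module. -/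
noncomputable abbrev kmod : X.Modules := modOf (sheaf φ hd) (strS φ hd)

/-- Sections of the module as compatible families. -/
def toS {U : X.Opens} (b : Γ(kmod φ hd, U)) : sub φ U := b

/-- Compatible families as sections of the module. -/
def ofS {U : X.Opens} (b : sub φ U) : Γ(kmod φ hd, U) := b

theorem toS_smul {U : X.Opens} (r : Γ(X, U)) (b : Γ(kmod φ hd, U)) :
    toS φ hd (r • b) = strHom φ U r * toS φ hd b := rfl

theorem toS_rF {U V : X.Opens} (h : V ≤ U) (b : Γ(kmod φ hd, U)) :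
    toS φ hd (rF (kmod φ hd) h b) = resHom φ h (toS φ hd b) := rfl

theorem toS_add {U : X.Opens} (a b : Γ(kmod φ hd, U)) :
    toS φ hd (a + b) = toS φ hd a + toS φ hd b := rfl

theorem toS_zero {U : X.Opens} : toS φ hd (0 : Γ(kmod φ hd, U)) = 0 := rfl

theorem toS_sum {U : X.Opens} {ι : Type*} (s : Finset ι) (f : ι → Γ(kmod φ hd, U)) :
    toS φ hd (∑ i ∈ s, f i) = ∑ i ∈ s, toS φ hd (f i) := by
  classical
  induction s using Finset.induction_on with
  | empty => rfl
  | insert a s ha ih =>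
    rw [Finset.sum_insert ha, Finset.sum_insert ha, toS_add, ih]

include hd in
/-- The evaluation of a combination of the powers of the root. -/
theorem evHom_comb {O₀ : X.Opens} {e₀ : Γ(L, O₀)} (he₀ : IsGen L O₀ e₀) (T : ℕ → sub φ O₀)
    (hT : ∀ k, evHom φ (gp he₀) (T k) = rt d _ ^ k) {O : X.Opens} (hO : O ≤ O₀)
    (c : ℕ → Γ(X, O)) :
    evHom φ (gpr he₀ hO) (∑ k ∈ Finset.range d, strHom φ O (c k) * resHom φ hO (T k)) =
      ofCoef d _ c := by
  rw [map_sum]
  unfold ofCoef
  apply Finset.sum_congr rfl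
  intro k _
  rw [map_mul, evHom_gpr, hT k, map_pow, mapK_rt, evHom_strHom]
  congr 2
  exact rX_self' _ _

include hd in
theorem span_li {O₀ : X.Opens} {e₀ : Γ(L, O₀)} (he₀ : IsGen L O₀ e₀) (T : ℕ → sub φ O₀)
    (hT : ∀ k, evHom φ (gp he₀) (T k) = rt d _ ^ k) {O : X.Opens} (hO : O ≤ O₀) :
    (∀ m : sub φ O, m = ∑ k ∈ Finset.range d,
        strHom φ O (KumAlg.coef hd (evHom φ (gpr he₀ hO) m) k) * resHom φ hO (T k)) ∧
      ∀ c : ℕ → Γ(X, O), (∑ k ∈ Finset.range d, strHom φ O (c k) * resHom φ hO (T k)) = 0 →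
        ∀ k, k < d → c k = 0 := by
  constructor
  · intro m
    apply eval_injective φ (he₀.res hO)
    refine Eq.trans ?_ (evHom_comb φ hd he₀ T hT hO _).symm
    exact (KumAlg.ofCoef_coef hd _).symm
  · intro c hc k hk
    have h1 := evHom_comb φ hd he₀ T hT hO c
    rw [hc, map_zero] at h1
    have h2 := KumAlg.coef_ofCoef hd (u := uOf φ O (rF L hO e₀)) c hk
    rw [← h1] at h2
    rw [← h2]
    exact KumAlg.coef_zero hd k

include hd in
theorem basisOn {O₀ : X.Opens} {e₀ : Γ(L, O₀)} (he₀ : IsGen L O₀ e₀) (T : ℕ → sub φ O₀)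
    (hT : ∀ k, evHom φ (gp he₀) (T k) = rt d _ ^ k) (O : X.Opens) (hO : O ≤ O₀) :
    BasisOn (kmod φ hd) (fun j : Fin d => ofS φ hd (T j)) O hO := by
  obtain ⟨h1, h2⟩ := span_li φ hd he₀ T hT hO
  constructor
  · rw [eq_top_iff]
    intro m _
    rw [Submodule.mem_span_range_iff_exists_fun]
    let cc : Fin d → Γ(X, O) := fun j => KumAlg.coef hd (evHom φ (gpr he₀ hO) (toS φ hd m)) j
    refine ⟨cc, ?_⟩
    have h3 := h1 (toS φ hd m)
    rw [Finset.sum_range] at h3
    have h4 : toS φ hd (∑ j : Fin d, cc j • rF (kmod φ hd) hO (ofS φ hd (T j))) =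
        toS φ hd m := by
      rw [toS_sum]
      exact h3.symm
    exact h4
  · rw [Fintype.linearIndependent_iff]
    intro c hc j
    let c' : ℕ → Γ(X, O) := fun k => if h : k < d then c ⟨k, h⟩ else 0
    have h3 : (∑ k ∈ Finset.range d, strHom φ O (c' k) * resHom φ hO (T k)) = 0 := by
      rw [Finset.sum_range]
      have h4 := congrArg (toS φ hd) hc
      rw [toS_sum] at h4
      refine Eq.trans ?_ h4
      apply Finset.sum_congr rfl
      intro i _
      have : c' i = c i := by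
        simp only [c', dif_pos i.2]
      rw [this]
      rfl
    have h5 := h2 c' h3 j j.2
    simp only [c', dif_pos j.2] at h5
    exact h5

/-- A module with local bases of `r` sections is finite locally free of rank `r`. -/
theorem isFinLocFreeOfRank_of_bases (F : X.Modules) (r : ℕ)
    (h : ∀ x : X, ∃ W : X.Opens, x ∈ W ∧ ∃ t : Fin r → Γ(F, W.ι ''ᵁ ⊤),
      ∀ (O : X.Opens) (hO : O ≤ W.ι ''ᵁ ⊤), BasisOn F t O hO) :
    FlatMod.IsFinLocFreeOfRank r F := by
  intro x
  obtain ⟨W, hxW, t, ht⟩ := h x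
  refine ⟨W, hxW, ?_⟩
  haveI := isIso_freeHom_restrict F t ht
  exact ⟨(asIso (SDivGenH8.freeHom (F.restrict W.ι) (t : Fin r → Γ(F.restrict W.ι, ⊤)))).symm⟩

include hd in
/-- The Kummer algebra is finite locally free of rank `d`. -/
theorem isFinLocFreeOfRank (hL : PicF.IsInvertible L) :
    FlatMod.IsFinLocFreeOfRank d (kmod φ hd) := by
  apply isFinLocFreeOfRank_of_bases
  intro x
  obtain ⟨W, -, hxW, e, he⟩ := exists_isGen hL x
  refine ⟨W, hxW, ?_⟩
  have hO₀ : W.ι ''ᵁ ⊤ ≤ W := by rw [Scheme.Opens.ι_image_top]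
  have he₀ : IsGen L (W.ι ''ᵁ ⊤) (rF L hO₀ e) := he.res hO₀
  choose T hT using fun k : ℕ => eval_surjective φ hd he₀ (rt d _ ^ k)
  exact ⟨fun j : Fin d => ofS φ hd (T j), fun O hO => basisOn φ hd he₀ T hT O hO⟩

/-- The Kummer algebra as a quasi-coherent algebra. -/
noncomputable def alg (hL : PicF.IsInvertible L) : RelSpec.QCAlg X :=
  qcAlg (sheaf φ hd) (strS φ hd)
    (isQuasicoherent_of_finLocFree _ (IsFinLocFreeOfRank.isFinLocFree _
      (isFinLocFreeOfRank φ hd hL)))

theorem isCover (hL : PicF.IsInvertible L) : FinCov.IsCover (alg φ hd hL).π d :=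
  Groth.Agent.Lib.RelSpecModH6.isCover_π _ d (isFinLocFreeOfRank φ hd hL)

end Groth.Agent.KumSh
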