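import Mathlib
import Groth.Prelude
import Groth.Agent.Lib.KumSh3_helper5
import Groth.Agent.Lib.NormPic1_helper5
import Groth.Agent.Lib.SchemeIdem_helper3

/-!
# The cyclic (Kummer) cover of a torsion invertible module of exact order `d` is connected (helper5)
APPEND-ONLY once landed.
-/

set_option autoImplicit false
universe u
open CategoryTheory CategoryTheory.Limits AlgebraicGeometry TopologicalSpace Opposite
open QcqsLoc QCohExtn GenLocH8 TensH8 FLFH8

namespace Groth.Agent.KumSh

open Groth.Agent.KumAlg Groth.Agent.Lib.QCAlgOfSheafH6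

section Coefs

variable {X : Scheme.{u}} {L : X.Modules} {d : ℕ}
  (φ : CohB1.tensorPow L d ⟶ Coh.structureModule X) (hd : 0 < d)

include hd in
theorem coef_res {U : X.Opens} (t : sub φ U) (p : GP L U) (V : X.Opens) (h : V ≤ p.O) {n : ℕ}
    (hn : n < d) :
    KumAlg.coef hd (t.1 (p.res V h)) n = rX h (KumAlg.coef hd (t.1 p) n) := by
  rw [← t.2.1 p V h]
  exact KumAlg.coef_mapK hd _ _ _ hn

include hd in
theorem coef_change {U : X.Opens} (t : sub φ U) (O : X.Opens) (hO : O ≤ U) (e : Γ(L, O))
    (he : IsGen L O e) (v : Γ(X, O)) (he' : IsGen L O (v • e)) {n : ℕ} (hn : n < d) :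
    KumAlg.coef hd (t.1 ⟨O, hO, e, he⟩) n =
      KumAlg.coef hd (t.1 ⟨O, hO, v • e, he'⟩) n * v ^ n := by
  rw [← t.2.2 O hO (v • e) e he' he v rfl]
  exact KumAlg.coef_chg hd _ _ _ hn

end Coefs

section Global

variable {X : Scheme.{u}} {L : X.Modules} {d : ℕ}
  (α : CohB1.tensorPow L d ≅ Coh.structureModule X) (hd : 0 < d)

theorem isUnit_uOf {W : X.Opens} {e : Γ(L, W)} (he : IsGen L W e) : IsUnit (uOf α.hom W e) :=
  isUnit_of_isGen_structure (isGen_of_iso α ((Frame.pow L d).isGen he))

/-- A weight zero system of functions glues to a global function. -/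
theorem exists_global_of_weight_zero (hL : PicF.IsInvertible L)
    (c : ∀ (W : X.Opens) (e : Γ(L, W)) (_ : IsGen L W e), Γ(X, W))
    (hres : ∀ (W : X.Opens) (e : Γ(L, W)) (he : IsGen L W e) {W' : X.Opens} (h : W' ≤ W),
      c W' (rF L h e) (he.res h) = rX h (c W e he))
    (hchange : ∀ (W : X.Opens) (e : Γ(L, W)) (he : IsGen L W e) (v : Γ(X, W))
      (he' : IsGen L W (v • e)), c W e he = c W (v • e) he') :
    ∃ c₀ : Γ(X, ⊤), ∀ (W : X.Opens) (e : Γ(L, W)) (he : IsGen L W e),
      rX (le_top : W ≤ ⊤) c₀ = c W e he := by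
  obtain ⟨σ, hσ⟩ := (Frame.unit L).exists_section hL ⊤ (fun W _ e he => c W e he)
    (fun W _ e he _ h => hres W e he h)
    (fun W _ e he v he' => by rw [pow_zero, mul_one]; exact hchange W e he v he')
  refine ⟨ofM σ, fun W e he => ?_⟩
  have h1 := hσ W le_top e he
  have h2 : (c W e he • (Frame.unit L).φ W e : Γ(Coh.structureModule X, W)) =
      toM (c W e he) := mul_one (c W e he)
  rw [h2] at h1
  exact h1

include hd in
/-- The middle coefficients of a global section vanish when `L` has exact order `d`. -/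
theorem coef_eq_zero_of_min [IsIntegral X] (hfield : IsField (Γ(X, ⊤) : Type u))
    (hL : PicF.IsInvertible L)
    (hmin : ∀ i : ℕ, 0 < i → i < d → IsEmpty (CohB1.tensorPow L i ≅ Coh.structureModule X))
    (t : sub α.hom ⊤) {k : ℕ} (hk0 : 0 < k) (hkd : k < d) (p : GP L ⊤) :
    KumAlg.coef hd (t.1 p) k = 0 := by
  let a : ∀ (W : X.Opens) (e : Γ(L, W)) (_ : IsGen L W e), Γ(X, W) :=
    fun W e he => KumAlg.coef hd (t.1 ⟨W, le_top, e, he⟩) k
  have hres_a : ∀ (W : X.Opens) (e : Γ(L, W)) (he : IsGen L W e) {W' : X.Opens} (h : W' ≤ W),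
      a W' (rF L h e) (he.res h) = rX h (a W e he) :=
    fun W e he W' h => coef_res α.hom hd t ⟨W, le_top, e, he⟩ W' h hkd
  have hchange_a : ∀ (W : X.Opens) (e : Γ(L, W)) (he : IsGen L W e) (v : Γ(X, W))
      (he' : IsGen L W (v • e)), a W e he = a W (v • e) he' * v ^ k :=
    fun W e he v he' => coef_change α.hom hd t W le_top e he v he' hkd
  let c : ∀ (W : X.Opens) (e : Γ(L, W)) (_ : IsGen L W e), Γ(X, W) :=
    fun W e he => a W e he ^ d * uOf α.hom W e ^ k
  obtain ⟨c₀, hc₀⟩ := exists_global_of_weight_zero hL c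
    (fun W e he W' h => by
      change a W' (rF L h e) (he.res h) ^ d * uOf α.hom W' (rF L h e) ^ k =
        rX h (a W e he ^ d * uOf α.hom W e ^ k)
      rw [hres_a W e he h, map_mul, map_pow, map_pow, uOf_res])
    (fun W e he v he' => by
      change a W e he ^ d * uOf α.hom W e ^ k =
        a W (v • e) he' ^ d * uOf α.hom W (v • e) ^ k
      rw [hchange_a W e he v he', uOf_smul]
      ring)
  rcases eq_or_ne c₀ 0 with h0 | h0
  · obtain ⟨O, hO, e, he⟩ := p
    have hc : a O e he ^ d * uOf α.hom O e ^ k = 0 := by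
      have := hc₀ O e he
      rw [h0, map_zero] at this
      exact this.symm
    have hu : IsUnit (uOf α.hom O e ^ k) := (isUnit_uOf α he).pow k
    have hc' : a O e he ^ d = 0 := by
      obtain ⟨w, hw⟩ := hu.exists_right_inv
      calc a O e he ^ d = a O e he ^ d * (uOf α.hom O e ^ k * w) := by rw [hw, mul_one]
        _ = (a O e he ^ d * uOf α.hom O e ^ k) * w := by ring
        _ = 0 := by rw [hc, zero_mul]
    by_cases hN : Nonempty O
    · haveI := hN
      haveI : IsDomain Γ(X, O) := inferInstance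
      exact pow_eq_zero_iff hd.ne' |>.mp hc'
    · have hbot : O = ⊥ := by
        ext x
        simp only [Opens.coe_bot, Set.mem_empty_iff_false, iff_false]
        intro hx
        exact hN ⟨⟨x, hx⟩⟩
      subst hbot
      exact Subsingleton.elim _ _
  · exfalso
    have hu0 : IsUnit c₀ := by
      obtain ⟨b, hb⟩ := hfield.mul_inv_cancel h0
      exact IsUnit.of_mul_eq_one b hb
    have hunit : ∀ (W : X.Opens) (e : Γ(L, W)) (he : IsGen L W e), IsUnit (a W e he) := by
      intro W e he
      have h1 : IsUnit (a W e he ^ d * uOf α.hom W e ^ k) := by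
        have := hc₀ W e he
        change rX (le_top : W ≤ ⊤) c₀ = a W e he ^ d * uOf α.hom W e ^ k at this
        rw [← this]
        exact hu0.map _
      have h2 : IsUnit (a W e he ^ d) := isUnit_of_mul_isUnit_left h1
      exact (isUnit_pow_iff hd.ne').mp h2
    obtain ⟨iso⟩ := Groth.Agent.NormPic.nonempty_iso_of_unit_coefs hL (Frame.pow L k)
      (fun W _ e he => a W e he) (fun W _ e he _ h => hres_a W e he h)
      (fun W _ e he v he' => hchange_a W e he v he') (fun W _ e he => hunit W e he)
    exact (hmin k hk0 hkd).false iso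

include hd in
/-- Global sections of the Kummer algebra are functions when `L` has exact order `d`. -/
theorem exists_eq_strHom [IsIntegral X] (hfield : IsField (Γ(X, ⊤) : Type u))
    (hL : PicF.IsInvertible L)
    (hmin : ∀ i : ℕ, 0 < i → i < d → IsEmpty (CohB1.tensorPow L i ≅ Coh.structureModule X))
    (t : sub α.hom ⊤) : ∃ c : Γ(X, ⊤), t = strHom α.hom ⊤ c := by
  obtain ⟨c₀, hc₀⟩ := exists_global_of_weight_zero hL
    (fun W e he => KumAlg.coef hd (t.1 ⟨W, le_top, e, he⟩) 0)
    (fun W e he W' h => coef_res α.hom hd t ⟨W, le_top, e, he⟩ W' h hd)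
    (fun W e he v he' => by
      have := coef_change α.hom hd t W le_top e he v he' hd
      rw [pow_zero, mul_one] at this
      exact this)
  refine ⟨c₀, Subtype.ext (funext fun p => ?_)⟩
  have h1 := KumAlg.eq_of_of_coef_eq_zero hd (t.1 p)
    (fun n hn0 hnd => coef_eq_zero_of_min α hd hfield hL hmin t hn0 hnd p)
  rw [h1]
  change ofK d _ (KumAlg.coef hd (t.1 p) 0) = ofK d _ (rX p.le c₀)
  congr 1
  exact (hc₀ p.O p.e p.gen).symm

end Global

section Conn

/-- A scheme whose ring of global functions is nontrivial with only trivial idempotents is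
connected. -/
theorem connectedSpace_of_idem (Y : Scheme.{u}) (h01 : (0 : Γ(Y, ⊤)) ≠ 1)
    (h : ∀ e : Γ(Y, ⊤), IsIdempotentElem e → e = 0 ∨ e = 1) : ConnectedSpace ↥Y := by
  rw [connectedSpace_iff_clopen]
  constructor
  · by_contra hne
    rw [not_nonempty_iff] at hne
    have hbot : (⊤ : Y.Opens) = ⊥ := by
      ext x
      exact (hne.false x).elim
    apply h01
    have : Subsingleton Γ(Y, ⊤) := by
      rw [hbot]
      infer_instance
    exact Subsingleton.elim _ _
  · intro s hs
    obtain ⟨e, he, hes⟩ := Groth.Agent.Lib.SchemeIdemH3.exists_idem_of_isClopen Y s hs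
    rcases h e he with h0 | h1
    · left
      rw [← hes, h0, Scheme.basicOpen_zero]
      rfl
    · right
      rw [← hes, h1, Scheme.basicOpen_one]
      rfl

end Conn

end Groth.Agent.KumSh
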