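import Mathlib
import Groth.Prelude
import Groth.Agent.Lib.KumSh4_helper5
import Groth.Agent.Lib.PullGr1_helper5
import Groth.Agent.Lib.CocycIso_helper9

/-!
# The pullback of `L` to its cyclic (Kummer) cover is trivial (helper5)
APPEND-ONLY once landed.
-/

set_option autoImplicit false
universe u
open CategoryTheory CategoryTheory.Limits AlgebraicGeometry TopologicalSpace Opposite
open QcqsLoc QCohExtn GenLocH8 TensH8 FLFH8 PBH8

namespace Groth.Agent.KumSh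

open Groth.Agent.KumAlg Groth.Agent.Lib.QCAlgOfSheafH6

section Root

variable {X : Scheme.{u}} {L : X.Modules} {d : ℕ}
  (φ : CohB1.tensorPow L d ⟶ Coh.structureModule X) (hd : 0 < d)

include hd in
/-- An element of the Kummer algebra over a chart whose value is a unit is a unit. -/
theorem isUnit_of_evHom {W : X.Opens} {e : Γ(L, W)} (he : IsGen L W e) (b : sub φ W)
    (hb : IsUnit (evHom φ (gp he) b)) : IsUnit b := by
  obtain ⟨y, hy⟩ := hb.exists_right_inv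
  obtain ⟨b', hb'⟩ := eval_surjective φ hd he y
  have h1 : b * b' = 1 := by
    apply eval_injective φ he
    rw [map_mul, hb', hy, map_one]
  exact IsUnit.of_mul_eq_one b' h1

include hd in
/-- The transition of the root elements. -/
theorem root_transition {W₁ W₂ : X.Opens} {e₁ : Γ(L, W₁)} {e₂ : Γ(L, W₂)} (he₁ : IsGen L W₁ e₁)
    (he₂ : IsGen L W₂ e₂) (b₁ : sub φ W₁) (b₂ : sub φ W₂)
    (hb₁ : evHom φ (gp he₁) b₁ = rt d _) (hb₂ : evHom φ (gp he₂) b₂ = rt d _)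
    (c : Γ(X, W₁ ⊓ W₂))
    (hc : rF L (inf_le_left : W₁ ⊓ W₂ ≤ W₁) e₁ = c • rF L (inf_le_right : W₁ ⊓ W₂ ≤ W₂) e₂) :
    resHom φ (inf_le_left : W₁ ⊓ W₂ ≤ W₁) b₁ =
      strHom φ (W₁ ⊓ W₂) c * resHom φ (inf_le_right : W₁ ⊓ W₂ ≤ W₂) b₂ := by
  apply eval_injective φ (he₂.res (inf_le_right : W₁ ⊓ W₂ ≤ W₂))
  have hT := b₁.2.2 (W₁ ⊓ W₂) inf_le_left _ _ (he₁.res inf_le_left) (he₂.res inf_le_right) c hc
  have hR := b₁.2.1 (gp he₁) (W₁ ⊓ W₂) inf_le_left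
  have hb₁' : b₁.1 (gp he₁) = rt d _ := hb₁
  rw [hb₁', mapK_rt] at hR
  have hL1 : evHom φ (gp (he₂.res (inf_le_right : W₁ ⊓ W₂ ≤ W₂)))
      (resHom φ (inf_le_left : W₁ ⊓ W₂ ≤ W₁) b₁) = ofK d _ c * rt d _ := by
    refine hT.symm.trans ?_
    refine (congrArg _ hR.symm).trans ?_
    exact chg_rt d c _
  rw [hL1, map_mul, evHom_gpr φ he₂ inf_le_right b₂, hb₂, mapK_rt, evHom_strHom]
  congr 2
  exact (rX_self' _ _).symm

end Root

section Pull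

variable {X : Scheme.{u}} {L : X.Modules} {d : ℕ}
  (α : CohB1.tensorPow L d ≅ Coh.structureModule X) (hd : 0 < d) (hL : PicF.IsInvertible L)

/-- Sections of the Kummer algebra as functions on its relative spectrum. -/
noncomputable def tS (W : X.Opens) :
    sub α.hom W →+* Γ((alg α.hom hd hL).spec, (alg α.hom hd hL).π ⁻¹ᵁ W) :=
  ((Groth.Agent.SpecQ.gInv (alg α.hom hd hL)).app (op W)).hom

theorem tS_res {W W' : X.Opens} (h : W' ≤ W) (b : sub α.hom W) :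
    rX (X := (alg α.hom hd hL).spec) ((alg α.hom hd hL).π.preimage_mono h) (tS α hd hL W b) =
      tS α hd hL W' (resHom α.hom h b) := by
  have h1 := (Groth.Agent.SpecQ.gInv (alg α.hom hd hL)).naturality (homOfLE h).op
  exact (congrArg (fun ψ => ψ.hom b) h1).symm

theorem tS_str (W : X.Opens) (r : Γ(X, W)) :
    tS α hd hL W (strHom α.hom W r) = ((alg α.hom hd hL).π.app W).hom r := by
  have h1 := Groth.Agent.PullGr.str_gInv (alg α.hom hd hL) W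
  exact congrArg (fun ψ => ψ.hom r) h1

theorem preimage_inf_le' {Z S : Scheme.{u}} (f : Z ⟶ S) (V₁ V₂ : S.Opens) :
    f ⁻¹ᵁ V₁ ⊓ f ⁻¹ᵁ V₂ ≤ f ⁻¹ᵁ (V₁ ⊓ V₂) :=
  fun _ hz => ⟨hz.1, hz.2⟩

/-- Pulled back sections transform by the pulled back coefficient. -/
theorem cUV_transition' {Z S : Scheme.{u}} (f : Z ⟶ S) (F : S.Modules) {V₁ V₂ : S.Opens}
    (x₁ : Γ(F, V₁)) (x₂ : Γ(F, V₂)) (c : Γ(S, V₁ ⊓ V₂))
    (h : rF F (inf_le_left : V₁ ⊓ V₂ ≤ V₁) x₁ = c • rF F (inf_le_right : V₁ ⊓ V₂ ≤ V₂) x₂) :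
    rF ((Scheme.Modules.pullback f).obj F) (inf_le_left : f ⁻¹ᵁ V₁ ⊓ f ⁻¹ᵁ V₂ ≤ f ⁻¹ᵁ V₁)
        (cUV f F le_rfl x₁) =
      f.appLE (V₁ ⊓ V₂) (f ⁻¹ᵁ V₁ ⊓ f ⁻¹ᵁ V₂) (preimage_inf_le' f V₁ V₂) c •
        rF ((Scheme.Modules.pullback f).obj F) (inf_le_right : f ⁻¹ᵁ V₁ ⊓ f ⁻¹ᵁ V₂ ≤ f ⁻¹ᵁ V₂)
          (cUV f F le_rfl x₂) := by
  rw [rF_cUV, rF_cUV]
  have e1 : cUV f F ((inf_le_left : f ⁻¹ᵁ V₁ ⊓ f ⁻¹ᵁ V₂ ≤ f ⁻¹ᵁ V₁).trans le_rfl) x₁ =
      cUV f F (preimage_inf_le' f V₁ V₂) (rF F (inf_le_left : V₁ ⊓ V₂ ≤ V₁) x₁) :=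
    (cUV_resV f F (inf_le_left : V₁ ⊓ V₂ ≤ V₁) (preimage_inf_le' f V₁ V₂) x₁).symm
  have e2 : cUV f F ((inf_le_right : f ⁻¹ᵁ V₁ ⊓ f ⁻¹ᵁ V₂ ≤ f ⁻¹ᵁ V₂).trans le_rfl) x₂ =
      cUV f F (preimage_inf_le' f V₁ V₂) (rF F (inf_le_right : V₁ ⊓ V₂ ≤ V₂) x₂) :=
    (cUV_resV f F (inf_le_right : V₁ ⊓ V₂ ≤ V₂) (preimage_inf_le' f V₁ V₂) x₂).symm
  rw [e1, e2, h, cUV_smul]

include hd in
/-- **The pullback of `L` to its Kummer cover is trivial.** -/
theorem nonempty_pullback_iso :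
    Nonempty ((Scheme.Modules.pullback (alg α.hom hd hL).π).obj L ≅
      Coh.structureModule (alg α.hom hd hL).spec) := by
  classical
  let A := alg α.hom hd hL
  let g := A.π
  let ι : Type u := {p : Σ V : X.Opens, Γ(L, V) // IsAffineOpen p.1 ∧ IsGen L p.1 p.2}
  let U : ι → A.spec.Opens := fun p => g ⁻¹ᵁ p.1.1
  have hU : iSup U = ⊤ := by
    rw [eq_top_iff]
    intro y _
    obtain ⟨W, hW, hyW, e, he⟩ := exists_isGen hL (g.base y)
    exact Opens.mem_iSup.mpr ⟨⟨⟨W, e⟩, hW, he⟩, hyW⟩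
  -- the root elements
  have hroot : ∀ p : ι, ∃ b : sub α.hom p.1.1, evHom α.hom (gp p.2.2) b = rt d _ :=
    fun p => eval_surjective α.hom hd p.2.2 _
  choose b hb using hroot
  have hbu : ∀ p : ι, IsUnit (b p) := fun p => by
    apply isUnit_of_evHom α.hom hd p.2.2
    rw [hb p]
    exact isUnit_rt hd (isUnit_uOf α p.2.2)
  let T : ∀ p : ι, Γ(A.spec, U p) := fun p => tS α hd hL p.1.1 (b p)
  have hTu : ∀ p : ι, IsUnit (T p) := fun p => (hbu p).map (tS α hd hL p.1.1)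
  -- transition coefficients on the base
  have hcoef : ∀ p q : ι, ∃ c : Γ(X, p.1.1 ⊓ q.1.1),
      rF L (inf_le_left : p.1.1 ⊓ q.1.1 ≤ p.1.1) p.1.2 =
        c • rF L (inf_le_right : p.1.1 ⊓ q.1.1 ≤ q.1.1) q.1.2 :=
    fun p q => (q.2.2.res (inf_le_right : p.1.1 ⊓ q.1.1 ≤ q.1.1)).exists_coef _
  choose c hc using hcoef
  let η' : ∀ p q : ι, Γ(A.spec, U p ⊓ U q) := fun p q =>
    g.appLE (p.1.1 ⊓ q.1.1) (U p ⊓ U q) (preimage_inf_le' g p.1.1 q.1.1) (c p q)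
  have hη'eq : ∀ p q : ι, η' p q = (g.app (p.1.1 ⊓ q.1.1)).hom (c p q) := by
    intro p q
    change (g.appLE (p.1.1 ⊓ q.1.1) (g ⁻¹ᵁ (p.1.1 ⊓ q.1.1)) le_rfl).hom (c p q) = _
    rw [Scheme.Hom.appLE_eq_app]
  -- transition of the root functions
  have hTtrans : ∀ p q : ι, rX (inf_le_left : U p ⊓ U q ≤ U p) (T p) =
      η' p q * rX (inf_le_right : U p ⊓ U q ≤ U q) (T q) := by
    intro p q
    have h1 := root_transition α.hom hd p.2.2 q.2.2 (b p) (b q) (hb p) (hb q) (c p q) (hc p q)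
    have h2 := congrArg (tS α hd hL (p.1.1 ⊓ q.1.1)) h1
    rw [map_mul, tS_str, ← tS_res α hd hL inf_le_left (b p),
      ← tS_res α hd hL inf_le_right (b q)] at h2
    rw [hη'eq]
    exact h2
  have hinv : ∀ p : ι, ∃ w : Γ(A.spec, U p), T p * w = 1 := fun p => (hTu p).exists_right_inv
  choose w hw using hinv
  have hwu : ∀ p : ι, IsUnit (w p) := fun p =>
    IsUnit.of_mul_eq_one (T p) (by rw [mul_comm]; exact hw p)
  obtain ⟨iso⟩ := CocycIsoH9.nonempty_iso (X := A.spec) (U := U)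
    (L := Coh.structureModule A.spec) (L' := (Scheme.Modules.pullback g).obj L)
    (s := fun p => toM (1 : Γ(A.spec, U p))) (s' := fun p => cUV g L le_rfl p.1.2)
    (η := fun _ _ => 1) (η' := η') (u := w) hU (fun p => isGen_one (U p))
    (fun p q => by
      rw [one_smul]
      exact (map_one (rX (inf_le_left : U p ⊓ U q ≤ U p))).trans
        (map_one (rX (inf_le_right : U p ⊓ U q ≤ U q))).symm)
    (fun p q => cUV_transition' g L p.1.2 q.1.2 (c p q) (hc p q))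
    (fun p q => by
      rw [mul_one]
      have hx := hTtrans p q
      have h1 : rX (inf_le_left : U p ⊓ U q ≤ U p) (T p) *
          rX (inf_le_left : U p ⊓ U q ≤ U p) (w p) = 1 := by
        rw [← map_mul, hw p, map_one]
      have h2 : rX (inf_le_right : U p ⊓ U q ≤ U q) (T q) *
          rX (inf_le_right : U p ⊓ U q ≤ U q) (w q) = 1 := by
        rw [← map_mul, hw q, map_one]
      have hyu : IsUnit (rX (inf_le_right : U p ⊓ U q ≤ U q) (T q)) := (hTu q).map _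
      apply hyu.mul_left_cancel
      rw [h2, ← mul_assoc, mul_comm _ (η' p q), ← hx, h1])
    (fun p => isGen_cUV g hL p.2.1 p.2.2) hwu
  exact ⟨iso.symm⟩

end Pull

end Groth.Agent.KumSh
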