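import Mathlib
import Groth.Prelude
import Groth.Agent.Lib.KumSh5_helper5
import Groth.Agent.Lib.KumEt1_helper5

/-!
# The Kummer cover: connectedness and étaleness (helper5)
APPEND-ONLY once landed.
-/

set_option autoImplicit false
universe u
open CategoryTheory CategoryTheory.Limits AlgebraicGeometry TopologicalSpace Opposite
open QcqsLoc QCohExtn GenLocH8 TensH8 FLFH8 PBH8

namespace Groth.Agent.KumSh

open Groth.Agent.KumAlg Groth.Agent.Lib.QCAlgOfSheafH6

variable {X : Scheme.{u}} {L : X.Modules} {d : ℕ}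
  (α : CohB1.tensorPow L d ≅ Coh.structureModule X) (hd : 0 < d) (hL : PicF.IsInvertible L)

include hd in
/-- Over an open where `L` is generated and `d` is invertible, the Kummer algebra is étale. -/
theorem etale_strHom {W : X.Opens} {e : Γ(L, W)} (he : IsGen L W e)
    (hdu : IsUnit ((d : ℕ) : Γ(X, W))) : (strHom α.hom W).Etale := by
  have hu : IsUnit (uOf α.hom W e) := isUnit_uOf α he
  have h0 := KumAlg.etale_ofK hd hu hdu
  let E : sub α.hom W ≃+* K d (uOf α.hom W e) :=
    RingEquiv.ofBijective (evHom α.hom (gp he))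
      ⟨fun t t' h => eval_injective α.hom he h, fun x => eval_surjective α.hom hd he x⟩
  have h1 := RingHom.Etale.respectsIso.1 (ofK d (uOf α.hom W e)) E.symm h0
  have h2 : E.symm.toRingHom.comp (ofK d (uOf α.hom W e)) = strHom α.hom W := by
    refine RingHom.ext fun r => ?_
    change E.symm (ofK d _ r) = strHom α.hom W r
    rw [RingEquiv.symm_apply_eq]
    change _ = evHom α.hom (gp he) (strHom α.hom W r)
    rw [evHom_strHom, rX_self']
  rw [← h2]
  exact h1

/-- **The Kummer cover is étale when `d` is invertible.** -/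
theorem etale_π (hdu : IsUnit ((d : ℕ) : Γ(X, ⊤))) : Etale (alg α.hom hd hL).π := by
  choose W hW hxW e he using fun x : X => exists_isGen hL x
  refine IsZariskiLocalAtSource.of_iSup_eq_top (P := @Etale)
    (fun x : X => (alg α.hom hd hL).π ⁻¹ᵁ W x) ?_ ?_
  · rw [eq_top_iff]
    intro y _
    exact Opens.mem_iSup.mpr ⟨(alg α.hom hd hL).π.base y, hxW _⟩
  · intro x
    have hr : (alg α.hom hd hL).π ⁻¹ᵁ W x = ((alg α.hom hd hL).ι (W x) (hW x)).opensRange :=
      (alg α.hom hd hL).π_preimage (W x) (hW x)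
    have e1 : Set.range ((alg α.hom hd hL).ι (W x) (hW x)) =
        Set.range ((alg α.hom hd hL).π ⁻¹ᵁ W x).ι := by
      rw [Scheme.Opens.range_ι, hr]
      rfl
    have h2 := IsOpenImmersion.isoOfRangeEq_inv_fac ((alg α.hom hd hL).ι (W x) (hW x))
      ((alg α.hom hd hL).π ⁻¹ᵁ W x).ι e1
    rw [← h2, Category.assoc, MorphismProperty.cancel_left_of_respectsIso (P := @Etale),
      (alg α.hom hd hL).ι_π]
    have hdW : IsUnit ((d : ℕ) : Γ(X, W x)) := by
      have := hdu.map (rX (X := X) (le_top : W x ≤ ⊤))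
      rwa [map_natCast] at this
    haveI : Etale (Spec.map ((alg α.hom hd hL).str.app (op (W x)))) := by
      rw [HasRingHomProperty.Spec_iff (P := @Etale)]
      exact etale_strHom α hd (he x) hdW
    infer_instance

include hd in
/-- **The Kummer cover of a line bundle of exact order `d` is connected.** -/
theorem connectedSpace_spec [IsIntegral X] (hfield : IsField (Γ(X, ⊤) : Type u))
    (hmin : ∀ i : ℕ, 0 < i → i < d → IsEmpty (CohB1.tensorPow L i ≅ Coh.structureModule X)) :
    ConnectedSpace ↥(alg α.hom hd hL).spec := by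
  have hbij : Function.Bijective (tS α hd hL ⊤) :=
    ConcreteCategory.bijective_of_isIso
      ((Groth.Agent.SpecQ.gInv (alg α.hom hd hL)).app (op ⊤))
  apply connectedSpace_of_idem
  · intro h
    have h01 : (0 : sub α.hom ⊤) = 1 := by
      apply hbij.1
      rw [map_zero, map_one]
      exact h
    obtain ⟨x⟩ : Nonempty X := inferInstance
    obtain ⟨W, -, hxW, e, he⟩ := exists_isGen hL x
    haveI : Nonempty W := ⟨⟨x, hxW⟩⟩
    haveI : IsDomain Γ(X, W) := inferInstance
    have h2 := congrArg (fun t : sub α.hom ⊤ => KumAlg.coef hd (t.1 ⟨W, le_top, e, he⟩) 0) h01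
    have h3 : KumAlg.coef hd ((0 : sub α.hom ⊤).1 ⟨W, le_top, e, he⟩) 0 = 0 :=
      KumAlg.coef_zero hd 0
    have h4 : KumAlg.coef hd ((1 : sub α.hom ⊤).1 ⟨W, le_top, e, he⟩) 0 = 1 := by
      have : (1 : sub α.hom ⊤).1 ⟨W, le_top, e, he⟩ = ofK d _ 1 := (map_one _).symm
      rw [this]
      exact (KumAlg.coef_of hd 1).1
    exact zero_ne_one (h3.symm.trans (h2.trans h4))
  · intro e he
    obtain ⟨t, rfl⟩ := hbij.2 e
    have ht : IsIdempotentElem t := by
      apply hbij.1
      rw [map_mul]
      exact he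
    obtain ⟨c, rfl⟩ := exists_eq_strHom α hd hfield hL hmin t
    by_cases hc : c = 0
    · left
      rw [hc, map_zero, map_zero]
      rfl
    · right
      obtain ⟨c', hc'⟩ := hfield.mul_inv_cancel hc
      have hu : IsUnit (strHom α.hom ⊤ c) := (IsUnit.of_mul_eq_one _ hc').map _
      have h1 : strHom α.hom ⊤ c = 1 := (IsIdempotentElem.iff_eq_one_of_isUnit hu).mp ht
      rw [h1, map_one]
      rfl

end Groth.Agent.KumSh
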