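import Mathlib

/-!
# Kummer algebras with unit data are finite étale (helper8)
-/

set_option autoImplicit false
universe u

namespace Groth.Agent.Lib.KumTameH8

open MvPolynomial Algebra

section kummer

variable {R : Type u} [CommRing R] {ι : Type} [Fintype ι] [DecidableEq ι]
  (c : ι → R) (m : ι → ℕ)

/-- the Kummer relations -/
noncomputable def kRel : ι → MvPolynomial ι R := fun j => X j ^ m j - C (c j)

/-- the Kummer algebra -/
abbrev KAlg : Type u := MvPolynomial ι R ⧸ Ideal.span (Set.range (kRel c m))

theorem pderiv_kRel (i j : ι) :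
    pderiv i (kRel c m j) = if i = j then C ((m j : ℕ) : R) * X j ^ (m j - 1) else 0 := by
  unfold kRel
  rw [map_sub, pderiv_C, sub_zero, pderiv_pow, pderiv_X]
  by_cases h : i = j
  · subst h
    simp [Pi.single_apply, mul_comm]
  · have : (Pi.single j 1 : ι → MvPolynomial ι R) i = 0 := by
      simp [Pi.single_apply, h]
    simp [this, h]

/-- the naive presubmersive presentation of the Kummer algebra -/
noncomputable def kPre : PreSubmersivePresentation R (KAlg c m) ι ι :=
  PreSubmersivePresentation.naive (v := kRel c m) id Function.injective_id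

theorem kPre_jacobiMatrix :
    (kPre c m).jacobiMatrix =
      Matrix.diagonal (fun j => (C ((m j : ℕ) : R) * X j ^ (m j - 1) : MvPolynomial ι R)) := by
  apply Matrix.ext
  intro i j
  unfold kPre
  rw [PreSubmersivePresentation.jacobiMatrix_naive, Matrix.diagonal_apply]
  show pderiv i (kRel c m j) = _
  rw [pderiv_kRel]
  by_cases h : i = j
  · subst h; simp
  · simp [h]

omit [Fintype ι] [DecidableEq ι] in
theorem mk_X_pow (j : ι) :
    (Ideal.Quotient.mk (Ideal.span (Set.range (kRel c m))) (X j)) ^ m j =
      Ideal.Quotient.mk _ (C (c j)) := by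
  rw [← map_pow, Ideal.Quotient.eq]
  exact Ideal.subset_span ⟨j, rfl⟩

theorem isUnit_mk_X (hc : ∀ j, IsUnit (c j)) (hm0 : ∀ j, m j ≠ 0) (j : ι) :
    IsUnit (Ideal.Quotient.mk (Ideal.span (Set.range (kRel c m))) (X j)) := by
  have h1 : IsUnit ((Ideal.Quotient.mk (Ideal.span (Set.range (kRel c m))) (X j)) ^ m j) := by
    rw [mk_X_pow]
    exact ((hc j).map (C : R →+* MvPolynomial ι R)).map (Ideal.Quotient.mk _)
  exact (isUnit_pow_iff (hm0 j)).mp h1

theorem kPre_jacobian_isUnit (hc : ∀ j, IsUnit (c j)) (hm0 : ∀ j, m j ≠ 0)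
    (hm : ∀ j, IsUnit ((m j : ℕ) : R)) : IsUnit (kPre c m).jacobian := by
  rw [PreSubmersivePresentation.jacobian_eq_jacobiMatrix_det, kPre_jacobiMatrix, Matrix.det_diagonal,
    map_prod]
  rw [IsUnit.prod_univ_iff]
  intro j
  rw [map_mul, map_pow]
  apply IsUnit.mul
  · exact ((hm j).map (C : R →+* MvPolynomial ι R)).map _
  · exact (isUnit_mk_X c m hc hm0 j).pow _

/-- **The Kummer algebra with unit data is étale.** -/
theorem kummer_etale (hc : ∀ j, IsUnit (c j)) (hm0 : ∀ j, m j ≠ 0)
    (hm : ∀ j, IsUnit ((m j : ℕ) : R)) : Algebra.Etale R (KAlg c m) := by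
  let P : SubmersivePresentation R (KAlg c m) ι ι :=
    { kPre c m with jacobian_isUnit := kPre_jacobian_isUnit c m hc hm0 hm }
  haveI : Algebra.IsStandardSmoothOfRelativeDimension 0 R (KAlg c m) :=
    P.isStandardSmoothOfRelativeDimension (by simp [Algebra.Presentation.dimension])
  infer_instance

omit [DecidableEq ι] in
/-- **The Kummer algebra is finite.** -/
theorem kummer_finite (hm0 : ∀ j, m j ≠ 0) : Module.Finite R (KAlg c m) := by
  have hX : ∀ j, IsIntegral R (Ideal.Quotient.mk (Ideal.span (Set.range (kRel c m))) (X j)) := by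
    intro j
    refine ⟨Polynomial.X ^ m j - Polynomial.C (c j), Polynomial.monic_X_pow_sub_C _ (hm0 j), ?_⟩
    rw [Polynomial.eval₂_sub, Polynomial.eval₂_pow, Polynomial.eval₂_X, Polynomial.eval₂_C, mk_X_pow]
    exact sub_self _
  have htop : (integralClosure R (KAlg c m)) = ⊤ := by
    rw [Algebra.eq_top_iff]
    intro x
    obtain ⟨p, rfl⟩ := Ideal.Quotient.mk_surjective x
    induction p using MvPolynomial.induction_on with
    | C a => exact (integralClosure R (KAlg c m)).algebraMap_mem a
    | add p q hp hq => rw [map_add]; exact add_mem hp hq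
    | mul_X p j hp => rw [map_mul]; exact mul_mem hp (hX j)
  haveI : Algebra.IsIntegral R (KAlg c m) := by
    constructor
    intro x
    have : x ∈ integralClosure R (KAlg c m) := by rw [htop]; trivial
    exact this
  exact Algebra.IsIntegral.finite

end kummer

end Groth.Agent.Lib.KumTameH8
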