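import Mathlib
import Groth.Prelude.Def_EtRam
import Groth.Agent.Lib.TameGen2_helper8
import Groth.Agent.Lib.DvrExt1_helper8
import Groth.Agent.Lib.DvrExt2_helper8
import Groth.Agent.Lib.DvrExt3_helper8

set_option autoImplicit false
universe u

namespace TameExtH8

open IsLocalRing Polynomial

/-- `A[z]/(z^e - π)` is a local ring when `A` is local with `π` in the maximal ideal. -/
theorem isLocalRing_adjoinRoot {A : Type u} [CommRing A] [IsLocalRing A] (π : A)
    (hπm : π ∈ maximalIdeal A) (e : ℕ) (he : e ≠ 0) :
    IsLocalRing (AdjoinRoot (X ^ e - C π : A[X])) := by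
  have hmonic : (X ^ e - C π : A[X]).Monic := monic_X_pow_sub_C π he
  haveI : Module.Finite A (AdjoinRoot (X ^ e - C π : A[X])) := hmonic.finite_adjoinRoot
  haveI : Algebra.IsIntegral A (AdjoinRoot (X ^ e - C π : A[X])) := Algebra.IsIntegral.of_finite _ _
  have hsurj : Function.Surjective (chi π e hπm he) := by
    intro x
    obtain ⟨a, rfl⟩ := residue_surjective x
    exact ⟨AdjoinRoot.of _ a, chi_of π e hπm he a⟩
  haveI hkmax : (RingHom.ker (chi π e hπm he)).IsMaximal :=
    RingHom.ker_isMaximal_of_surjective _ hsurj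
  apply IsLocalRing.of_unique_max_ideal
  refine ⟨RingHom.ker (chi π e hπm he), hkmax, ?_⟩
  intro M hM
  haveI := hM
  have hcomap : M.comap (algebraMap A (AdjoinRoot (X ^ e - C π : A[X]))) = maximalIdeal A := by
    haveI := Ideal.isMaximal_comap_of_isIntegral_of_isMaximal (R := A) M
    exact IsLocalRing.eq_maximalIdeal inferInstance
  have hπM : AdjoinRoot.of (X ^ e - C π : A[X]) π ∈ M := by
    have : π ∈ M.comap (algebraMap A (AdjoinRoot (X ^ e - C π : A[X]))) := by
      rw [hcomap]
      exact hπm
    exact this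
  have hzM : AdjoinRoot.root (X ^ e - C π : A[X]) ∈ M := by
    rw [← root_pow_eq] at hπM
    exact hM.isPrime.mem_of_pow_mem e hπM
  have hle : RingHom.ker (chi π e hπm he) ≤ M := by
    intro x hx
    rw [RingHom.mem_ker] at hx
    obtain ⟨a, y, rfl⟩ := exists_eq_of_add_root_mul π e x
    rw [map_add, map_mul, chi_root, zero_mul, add_zero, chi_of, residue_eq_zero_iff] at hx
    have ha : AdjoinRoot.of (X ^ e - C π : A[X]) a ∈ M := by
      have : a ∈ M.comap (algebraMap A (AdjoinRoot (X ^ e - C π : A[X]))) := by
        rw [hcomap]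
        exact hx
      exact this
    exact M.add_mem ha (M.mul_mem_right _ hzM)
  exact (hkmax.eq_of_le hM.ne_top hle).symm

end TameExtH8

namespace TameExtH8

open IsLocalRing Polynomial DvrExtH8

set_option maxHeartbeats 1600000 in
theorem tame_of_abhyankar {A K L : Type u} [CommRing A] [IsDomain A]
    [IsDiscreteValuationRing A] [Field K] [Algebra A K] [IsFractionRing A K] [Field L] [Algebra K L]
    [Algebra A L] [IsScalarTower A K L] [FiniteDimensional K L] [Algebra.IsSeparable K L]
    (π : A) (hπ : maximalIdeal A = Ideal.span {π})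
    (e : ℕ) (he : 0 < e) (heκ : (e : ResidueField A) ≠ 0)
    (L' : Type u) [Field L'] [Algebra K L']
    [Algebra (AdjoinRoot (X ^ e - C π : A[X])) L'] (f : L →ₐ[K] L')
    [FiniteDimensional K L'] [Algebra.IsSeparable K L']
    (hcompat : (algebraMap (AdjoinRoot (X ^ e - C π : A[X])) L').comp (AdjoinRoot.of (X ^ e - C π)) =
            (algebraMap K L').comp (algebraMap A K))
    (hunr : ∀ [IsLocalRing (AdjoinRoot (X ^ e - C π : A[X]))],
            EtRam.IsUnramifiedExt (AdjoinRoot (X ^ e - C π : A[X]))
              (algebraMap (AdjoinRoot (X ^ e - C π : A[X])) L')) :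
    EtRam.IsTamelyRamified A (algebraMap A L) := by
  classical
  have he0 : e ≠ 0 := Nat.pos_iff_ne_zero.mp he
  have hπm : π ∈ maximalIdeal A := by
    rw [hπ]
    exact Ideal.mem_span_singleton_self _
  haveI hlocA' : IsLocalRing (AdjoinRoot (X ^ e - C π : A[X])) :=
    isLocalRing_adjoinRoot π hπm e he0
  have hunr' := hunr
  haveI : IsLocalHom (algebraMap A (AdjoinRoot (X ^ e - C π : A[X]))) :=
    isLocalHom_of_adjoinRoot π hπ e he0
  have hmA' := maximalIdeal_adjoinRoot π hπ e he0
  have halg : algebraMap A L = (algebraMap K L).comp (algebraMap A K) :=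
    IsScalarTower.algebraMap_eq A K L
  have hinjAL : Function.Injective (algebraMap A L) := by
    rw [halg]
    exact (algebraMap K L).injective.comp (IsFractionRing.injective A K)
  intro V hV
  letI : Algebra A V := (RingHom.codRestrict (algebraMap A L) V hV.1).toAlgebra
  intro _
  obtain ⟨W, hW, hlocVW⟩ := exists_extension f.toRingHom V
  obtain ⟨gA', hgA'⟩ : ∃ gA' : AdjoinRoot (X ^ e - C π : A[X]) →+* L',
      gA' = algebraMap (AdjoinRoot (X ^ e - C π : A[X])) L' := ⟨_, rfl⟩
  have hg : ∀ a, ((algebraMap K L').comp (algebraMap A K)) a = f (algebraMap A L a) := by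
    intro a
    rw [IsScalarTower.algebraMap_apply A K L, AlgHom.commutes]
    rfl
  have hof : ∀ a, gA' (AdjoinRoot.of _ a) = f (algebraMap A L a) := by
    intro a
    rw [← hg, ← hcompat, hgA']
    rfl
  have hdAW : EtRam.Dominates A ((algebraMap K L').comp (algebraMap A K)) W :=
    dominates_comp (algebraMap A L) V hV f.toRingHom W hW hlocVW _ hg
  obtain ⟨ζ, hζdef⟩ : ∃ ζ : L', ζ = gA' (AdjoinRoot.root _) := ⟨_, rfl⟩
  have hζe : ζ ^ e = ((algebraMap K L').comp (algebraMap A K)) π := by
    rw [hζdef, ← map_pow, root_pow_eq, hof, hg]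
  have hvζ : W.valuation ζ < 1 := by
    have h1 : W.valuation ζ ^ e < 1 := by
      rw [← map_pow, hζe]
      exact hdAW.2 π hπm
    exact (pow_lt_one_iff he0).mp h1
  have hζW : ζ ∈ W := (W.valuation_le_one_iff _).mp hvζ.le
  have hmemW : ∀ x, gA' x ∈ W := by
    intro x
    induction x using AdjoinRoot.induction_on with
    | ih p =>
      induction p using Polynomial.induction_on' with
      | add p q hp hq =>
        rw [map_add, map_add]
        exact W.add_mem _ _ hp hq
      | monomial n a =>
        have : AdjoinRoot.mk (X ^ e - C π : A[X]) (monomial n a) =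
            AdjoinRoot.of _ a * AdjoinRoot.root _ ^ n := by
          rw [← C_mul_X_pow_eq_monomial, map_mul, map_pow, AdjoinRoot.mk_C, AdjoinRoot.mk_X]
        rw [this, map_mul, map_pow, ← hζdef, hof, ← hg]
        exact W.mul_mem _ _ (hdAW.1 a) (W.pow_mem hζW n)
  have hdW : EtRam.Dominates (AdjoinRoot (X ^ e - C π : A[X])) gA' W := by
    refine ⟨hmemW, fun x hx => ?_⟩
    rw [hmA'] at hx
    obtain ⟨y, rfl⟩ := Ideal.mem_span_singleton'.mp hx
    rw [map_mul, ← hζdef, map_mul]
    calc W.valuation (gA' y) * W.valuation ζ ≤ 1 * W.valuation ζ :=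
          mul_le_mul_left ((W.valuation_le_one_iff _).mpr (hmemW y)) _
      _ = W.valuation ζ := one_mul _
      _ < 1 := hvζ
  -- apply unramifiedness
  subst hgA'
  letI : Algebra (AdjoinRoot (X ^ e - C π : A[X])) W :=
    (RingHom.codRestrict (algebraMap (AdjoinRoot (X ^ e - C π : A[X])) L') W hdW.1).toAlgebra
  haveI : IsLocalHom (algebraMap (AdjoinRoot (X ^ e - C π : A[X])) W) :=
    isLocalHom_of_dominates _ W hdW
  obtain ⟨hwu, hsepW⟩ := hunr' W hdW
  -- DVR structures
  haveI : IsDiscreteValuationRing V :=
    isDVR_of_dominates (A := A) (K := K) (L := L) V (halg ▸ hV)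
  haveI : IsDiscreteValuationRing W := isDVR_of_dominates (A := A) (K := K) (L := L') W hdAW
  letI : Algebra A W :=
    (RingHom.codRestrict ((algebraMap K L').comp (algebraMap A K)) W hdAW.1).toAlgebra
  letI : Algebra V W := (RingHom.codRestrict (f.toRingHom.comp V.subtype) W hW).toAlgebra
  haveI : IsLocalHom (algebraMap V W) := hlocVW
  haveI : IsLocalHom (algebraMap A W) := isLocalHom_of_dominates _ W hdAW
  haveI : IsScalarTower A V W := IsScalarTower.of_algebraMap_eq (fun a => Subtype.ext (hg a))
  haveI : IsScalarTower A (AdjoinRoot (X ^ e - C π : A[X])) W :=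
    IsScalarTower.of_algebraMap_eq (fun a => Subtype.ext (by
      show ((algebraMap K L').comp (algebraMap A K)) a = _
      rw [hg, ← hof]
      rfl))
  have hAV : Function.Injective (algebraMap A V) := by
    intro x y hxy
    apply hinjAL
    exact congrArg (fun z : V => (z : L)) hxy
  have hVW : Function.Injective (algebraMap V W) := by
    intro x y hxy
    apply Subtype.ext
    apply f.toRingHom.injective
    exact congrArg (fun z : W => (z : L')) hxy
  have htower := ramificationIdx'_tower (A := A) (V := V) (W := W) hAV hVW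
  -- the ramification index of `W` over `A`
  let ζW : W := algebraMap (AdjoinRoot (X ^ e - C π : A[X])) W (AdjoinRoot.root _)
  have hmW : maximalIdeal W = Ideal.span {ζW} := by
    unfold EtRam.IsWeaklyUnramified at hwu
    have h1 : (maximalIdeal (AdjoinRoot (X ^ e - C π : A[X]))).map
        (algebraMap (AdjoinRoot (X ^ e - C π : A[X])) W) =
        (Ideal.span {AdjoinRoot.root (X ^ e - C π : A[X])}).map
          (algebraMap (AdjoinRoot (X ^ e - C π : A[X])) W) :=
      congrArg (Ideal.map (algebraMap (AdjoinRoot (X ^ e - C π : A[X])) W)) hmA'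
    rw [h1, Ideal.map_span, Set.image_singleton] at hwu
    exact hwu.symm
  have hπW : algebraMap A W π = ζW ^ e := by
    apply Subtype.ext
    show ((algebraMap K L').comp (algebraMap A K)) π = _
    rw [← hζe, hζdef]
    rfl
  have hram : Ideal.ramificationIdx' (maximalIdeal A) (maximalIdeal W) = e := by
    have hmap : (maximalIdeal A).map (algebraMap A W) = maximalIdeal W ^ e := by
      have h1 : (maximalIdeal A).map (algebraMap A W) = (Ideal.span {π}).map (algebraMap A W) :=
        congrArg (Ideal.map (algebraMap A W)) hπ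
      rw [h1, Ideal.map_span, Set.image_singleton, hπW, hmW, Ideal.span_singleton_pow]
    apply Ideal.ramificationIdx'_spec
    · rw [hmap]
    · rw [hmap]
      intro hle
      have hlt : maximalIdeal W ^ (e + 1) < maximalIdeal W ^ e :=
        Ideal.pow_succ_lt_pow (IsDiscreteValuationRing.not_a_field W) e
      exact absurd hle (not_le_of_gt hlt)
  refine ⟨?_, ?_⟩
  · -- separability
    haveI := hsepW
    haveI : Algebra.IsSeparable (ResidueField A)
        (ResidueField (AdjoinRoot (X ^ e - C π : A[X]))) := by
      constructor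
      intro x
      obtain ⟨y, rfl⟩ := residue_surjective x
      obtain ⟨a, ha⟩ := residue_adjoinRoot_surjective π hπ e he0 y
      rw [ha]
      have : residue _ (AdjoinRoot.of (X ^ e - C π : A[X]) a) =
          algebraMap (ResidueField A) (ResidueField (AdjoinRoot (X ^ e - C π : A[X])))
            (residue A a) := rfl
      rw [this]
      exact isSeparable_algebraMap _
    haveI : Algebra.IsSeparable (ResidueField A) (ResidueField W) :=
      Algebra.IsSeparable.trans (ResidueField A) (ResidueField (AdjoinRoot (X ^ e - C π : A[X])))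
        (ResidueField W)
    let ι : V →ₐ[A] W := IsScalarTower.toAlgHom A V W
    haveI : IsLocalHom ι := ⟨fun a ha => isUnit_of_map_unit (algebraMap V W) a ha⟩
    exact Algebra.IsSeparable.of_algHom (ResidueField A) (ResidueField W)
      (ResidueField.mapAlgHom' ι)
  · intro p hp hchar hdvd
    apply heκ
    rw [CharP.cast_eq_zero_iff (ResidueField A) p e, ← hram, htower]
    exact Dvd.dvd.mul_right hdvd _

end TameExtH8
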