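import Mathlib
import Groth.Prelude.Def_EtRam
import Groth.Agent.Lib.EtTame3_helper8
import Groth.Agent.Lib.KumTame1_helper8
import Groth.Agent.Lib.TameGen6_helper8

/-!
# Kummer extensions of a DVR are tamely ramified (helper8)
-/

set_option autoImplicit false
universe u

namespace Groth.Agent.Lib.KumTameH8

open IsLocalRing Polynomial TameExtH8 Groth.Agent.Lib.EtTameH8

section core

variable {D : Type u} [CommRing D] [IsDomain D] [IsDiscreteValuationRing D]
  {L : Type u} [Field L]

/-- field-level facts: `L = K(t_j)` is finite separable over `K = Frac D` -/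
theorem finite_separable_of_gen (g : D →+* L) (hg : Function.Injective g)
    [Algebra (FractionRing D) L]
    (halg : ∀ a : D, algebraMap (FractionRing D) L (algebraMap D (FractionRing D) a) = g a)
    {r : ℕ} (d : Fin r → D) (hd0 : ∀ j, d j ≠ 0)
    (n : Fin r → ℕ) (hn0 : ∀ j, n j ≠ 0) (hnu : ∀ j, IsUnit ((n j : ℕ) : D))
    (t : Fin r → L) (ht : ∀ j, t j ^ n j = g (d j))
    (hgen : ∀ z : L, ∃ P Q : MvPolynomial (Fin r) D,
      MvPolynomial.eval₂ g t Q ≠ 0 ∧ MvPolynomial.eval₂ g t Q * z = MvPolynomial.eval₂ g t P) :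
    FiniteDimensional (FractionRing D) L ∧ Algebra.IsSeparable (FractionRing D) L := by
  classical
  have hroot : ∀ j, Polynomial.aeval (t j)
      (X ^ n j - C (algebraMap D (FractionRing D) (d j)) : (FractionRing D)[X]) = 0 := by
    intro j
    rw [map_sub, map_pow, aeval_X, aeval_C, halg, ht, sub_self]
  have hnK : ∀ j, ((n j : ℕ) : FractionRing D) ≠ 0 := by
    intro j
    have h1 : ((n j : ℕ) : D) ≠ 0 := (hnu j).ne_zero
    have h2 := (IsFractionRing.injective D (FractionRing D)).ne h1
    rwa [map_natCast, map_zero] at h2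
  have hdK : ∀ j, algebraMap D (FractionRing D) (d j) ≠ 0 := by
    intro j
    have h2 := (IsFractionRing.injective D (FractionRing D)).ne (hd0 j)
    rwa [map_zero] at h2
  have hsepP : ∀ j, (X ^ n j - C (algebraMap D (FractionRing D) (d j)) :
      (FractionRing D)[X]).Separable := fun j => separable_X_pow_sub_C _ (hnK j) (hdK j)
  have hint : ∀ j, IsIntegral (FractionRing D) (t j) := fun j =>
    ⟨_, monic_X_pow_sub_C _ (hn0 j), hroot j⟩
  have hsep : ∀ j, IsSeparable (FractionRing D) (t j) := fun j =>
    (hsepP j).of_dvd (minpoly.dvd _ _ (hroot j))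
  have hE : IntermediateField.adjoin (FractionRing D) (Set.range t) = ⊤ := by
    rw [eq_top_iff]
    intro z _
    obtain ⟨P, Q, hQ, hPQ⟩ := hgen z
    have hmem : ∀ P : MvPolynomial (Fin r) D,
        MvPolynomial.eval₂ g t P ∈ IntermediateField.adjoin (FractionRing D) (Set.range t) := by
      intro P
      induction P using MvPolynomial.induction_on with
      | C a =>
        rw [MvPolynomial.eval₂_C, ← halg]
        exact IntermediateField.algebraMap_mem _ _
      | add p q hp hq => rw [MvPolynomial.eval₂_add]; exact add_mem hp hq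
      | mul_X p j hp =>
        rw [MvPolynomial.eval₂_mul, MvPolynomial.eval₂_X]
        exact mul_mem hp (IntermediateField.subset_adjoin _ _ ⟨j, rfl⟩)
    have hz : z = MvPolynomial.eval₂ g t P / MvPolynomial.eval₂ g t Q := by
      rw [eq_div_iff hQ, mul_comm]; exact hPQ
    rw [hz]
    exact div_mem (hmem P) (hmem Q)
  constructor
  · haveI : FiniteDimensional (FractionRing D)
        (IntermediateField.adjoin (FractionRing D) (Set.range t)) :=
      IntermediateField.finiteDimensional_adjoin (fun x hx => by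
        obtain ⟨j, rfl⟩ := hx; exact hint j)
    rw [hE] at this
    exact (IntermediateField.topEquiv (F := FractionRing D) (E := L)).toLinearEquiv.finiteDimensional
  · haveI : Algebra.IsSeparable (FractionRing D)
        (IntermediateField.adjoin (FractionRing D) (Set.range t)) :=
      (IntermediateField.isSeparable_adjoin_iff_isSeparable (FractionRing D) L).mpr (by
        rintro _ ⟨j, rfl⟩; exact hsep j)
    rw [hE] at this
    exact AlgEquiv.Algebra.isSeparable (IntermediateField.topEquiv (F := FractionRing D) (E := L))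

set_option maxHeartbeats 1600000 in
/-- **Core**: a field `L` generated over `K = Frac D` by `n_j`-th roots `t_j` of elements `d_j`, one of which
is a uniformizer and the others units, with all `n_j` invertible in `D`, is tamely ramified over `D`. -/
theorem kummer_tame_core (g : D →+* L) (hg : Function.Injective g)
    (π : D) (hπ : maximalIdeal D = Ideal.span {π})
    {r : ℕ} (i : Fin r) (d : Fin r → D) (hdi : d i = π) (hdu : ∀ j, j ≠ i → IsUnit (d j))
    (n : Fin r → ℕ) (hn0 : ∀ j, n j ≠ 0) (hnu : ∀ j, IsUnit ((n j : ℕ) : D))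
    (t : Fin r → L) (ht : ∀ j, t j ^ n j = g (d j))
    (hgen : ∀ z : L, ∃ P Q : MvPolynomial (Fin r) D,
      MvPolynomial.eval₂ g t Q ≠ 0 ∧ MvPolynomial.eval₂ g t Q * z = MvPolynomial.eval₂ g t P) :
    EtRam.IsTamelyRamified D g := by
  classical
  have hπirr : Irreducible π := (IsDiscreteValuationRing.irreducible_iff_uniformizer π).mpr hπ
  have hπ0 : π ≠ 0 := hπirr.ne_zero
  have hπm : π ∈ maximalIdeal D := by rw [hπ]; exact Ideal.mem_span_singleton_self _
  have hd0 : ∀ j, d j ≠ 0 := by
    intro j
    by_cases hj : j = i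
    · rw [hj, hdi]; exact hπ0
    · exact (hdu j hj).ne_zero
  letI algDL : Algebra D L := g.toAlgebra
  letI algKL : Algebra (FractionRing D) L := (IsFractionRing.lift (K := FractionRing D) hg).toAlgebra
  have halg : ∀ a : D, algebraMap (FractionRing D) L (algebraMap D (FractionRing D) a) = g a :=
    fun a => IsFractionRing.lift_algebraMap hg a
  haveI : IsScalarTower D (FractionRing D) L :=
    IsScalarTower.of_algebraMap_eq (fun x => (halg x).symm)
  obtain ⟨hfd, hsepKL⟩ := finite_separable_of_gen g hg halg d hd0 n hn0 hnu t ht hgen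
  haveI := hfd
  haveI := hsepKL
  have hmonic : (X ^ n i - C π : D[X]).Monic := monic_X_pow_sub_C π (hn0 i)
  letI algA'L : Algebra (AdjoinRoot (X ^ n i - C π : D[X])) L :=
    (AdjoinRoot.lift g (t i) (by
      rw [eval₂_sub, eval₂_pow, eval₂_X, eval₂_C, ht, hdi, sub_self])).toAlgebra
  have hof : ∀ a, algebraMap (AdjoinRoot (X ^ n i - C π : D[X])) L (AdjoinRoot.of _ a) = g a :=
    fun a => AdjoinRoot.lift_of _
  have hrt : algebraMap (AdjoinRoot (X ^ n i - C π : D[X])) L (AdjoinRoot.root _) = t i :=
    AdjoinRoot.lift_root _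
  have hti0 : t i ≠ 0 := by
    intro h0
    have := ht i
    rw [h0, zero_pow (hn0 i), hdi] at this
    exact hπ0 (hg (by rw [← this, map_zero]))
  have heκ : ((n i : ℕ) : ResidueField D) ≠ 0 := by
    have := (hnu i).map (residue D)
    rw [map_natCast] at this
    exact this.ne_zero
  refine tame_of_abhyankar (A := D) (K := FractionRing D) (L := L) π hπ (n i)
    (Nat.pos_of_ne_zero (hn0 i)) heκ L (AlgHom.id (FractionRing D) L) ?_ ?_
  · ext a
    show algebraMap (AdjoinRoot (X ^ n i - C π : D[X])) L (AdjoinRoot.of _ a) =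
      algebraMap (FractionRing D) L (algebraMap D (FractionRing D) a)
    rw [hof, halg]
  · intro hlocA'
    haveI : Module.Finite D (AdjoinRoot (X ^ n i - C π : D[X])) := hmonic.finite_adjoinRoot
    haveI : IsNoetherianRing (AdjoinRoot (X ^ n i - C π : D[X])) := IsNoetherianRing.of_finite D _
    let c : {j : Fin r // j ≠ i} → AdjoinRoot (X ^ n i - C π : D[X]) := fun j => AdjoinRoot.of _ (d j)
    let m : {j : Fin r // j ≠ i} → ℕ := fun j => n j
    haveI : Module.Finite (AdjoinRoot (X ^ n i - C π : D[X])) (KAlg c m) :=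
      kummer_finite c m (fun j => hn0 j)
    haveI : Algebra.Etale (AdjoinRoot (X ^ n i - C π : D[X])) (KAlg c m) :=
      kummer_etale c m (fun j => (hdu j j.2).map _) (fun j => hn0 j) (fun j => by
        have := (hnu j).map (AdjoinRoot.of (X ^ n i - C π : D[X]))
        rwa [map_natCast] at this)
    let ψ0 : MvPolynomial {j : Fin r // j ≠ i} (AdjoinRoot (X ^ n i - C π : D[X])) →+* L :=
      MvPolynomial.eval₂Hom (algebraMap (AdjoinRoot (X ^ n i - C π : D[X])) L) (fun j => t j)
    have hψ0 : ∀ p ∈ Ideal.span (Set.range (kRel c m)), ψ0 p = 0 := by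
      have hle : Ideal.span (Set.range (kRel c m)) ≤ RingHom.ker ψ0 := by
        rw [Ideal.span_le]
        rintro _ ⟨j, rfl⟩
        show ψ0 (kRel c m j) = 0
        unfold kRel
        rw [map_sub, map_pow, MvPolynomial.eval₂Hom_X', MvPolynomial.eval₂Hom_C]
        show t j ^ n j - algebraMap _ L (AdjoinRoot.of _ (d j)) = 0
        rw [hof, ht, sub_self]
      exact fun p hp => hle hp
    let ψ : KAlg c m →+* L := Ideal.Quotient.lift _ ψ0 hψ0
    have hψmk : ∀ p, ψ (Ideal.Quotient.mk _ p) = ψ0 p := fun p => Ideal.Quotient.lift_mk _ _ _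
    refine unramified_of_finite_etale (A := AdjoinRoot (X ^ n i - C π : D[X])) (B := KAlg c m)
      (AdjoinRoot.root _) (maximalIdeal_adjoinRoot π hπ (n i) (hn0 i))
      (algebraMap (AdjoinRoot (X ^ n i - C π : D[X])) L) (by rw [hrt]; exact hti0) ψ ?_ ?_
    · refine RingHom.ext fun a => ?_
      show ψ (Ideal.Quotient.mk _ (MvPolynomial.C a)) = _
      rw [hψmk, MvPolynomial.eval₂Hom_C]
    · -- generation
      let χ : MvPolynomial (Fin r) D →+* KAlg c m :=
        MvPolynomial.eval₂Hom ((algebraMap (AdjoinRoot (X ^ n i - C π : D[X])) (KAlg c m)).comp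
          (AdjoinRoot.of _))
          (fun j => if h : j = i then
              algebraMap (AdjoinRoot (X ^ n i - C π : D[X])) (KAlg c m) (AdjoinRoot.root _)
            else Ideal.Quotient.mk (Ideal.span (Set.range (kRel c m)))
              (MvPolynomial.X (⟨j, h⟩ : {j : Fin r // j ≠ i})))
      have hχ : ∀ P : MvPolynomial (Fin r) D, ψ (χ P) = MvPolynomial.eval₂ g t P := by
        intro P
        have : ψ.comp χ = MvPolynomial.eval₂Hom g t := by
          apply MvPolynomial.ringHom_ext
          · intro a
            show ψ (χ (MvPolynomial.C a)) = MvPolynomial.eval₂Hom g t (MvPolynomial.C a)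
            rw [MvPolynomial.eval₂Hom_C, MvPolynomial.eval₂Hom_C]
            show ψ (Ideal.Quotient.mk _ (MvPolynomial.C (AdjoinRoot.of _ a))) = _
            rw [hψmk, MvPolynomial.eval₂Hom_C, hof]
          · intro j
            show ψ (χ (MvPolynomial.X j)) = MvPolynomial.eval₂Hom g t (MvPolynomial.X j)
            rw [MvPolynomial.eval₂Hom_X', MvPolynomial.eval₂Hom_X']
            by_cases h : j = i
            · rw [dif_pos h]
              show ψ (Ideal.Quotient.mk _ (MvPolynomial.C (AdjoinRoot.root _))) = _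
              rw [hψmk, MvPolynomial.eval₂Hom_C, hrt, h]
            · rw [dif_neg h, hψmk, MvPolynomial.eval₂Hom_X']
        exact congrArg (fun φ => φ P) this
      intro z
      obtain ⟨P, Q, hQ, hPQ⟩ := hgen z
      exact ⟨χ P, χ Q, by rw [hχ]; exact hQ, by rw [hχ, hχ]; exact hPQ⟩

end core

end Groth.Agent.Lib.KumTameH8
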