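import Mathlib
import Groth.Prelude.Def_EtRam
import Groth.Prelude.Def_SGA1
import Groth.Agent.Lib.KumTame2_helper8

/-!
# S2924: the Kummer algebra of a regular local ring is tame along the `f_i` (helper8)
-/

set_option autoImplicit false
universe u

namespace Groth.Agent.Lib.KumTameH8

open IsLocalRing

section loc

variable {A : Type u} [CommRing A] [IsDomain A] [IsNoetherianRing A] (x : A) (hx : x ≠ 0)
  [hP : (Ideal.span {x}).IsPrime]

instance isDomain_loc : IsDomain (Localization.AtPrime (Ideal.span {x})) :=
  IsLocalization.isDomain_localization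
    (Ideal.primeCompl_le_nonZeroDivisors (Ideal.span {x}))

omit [IsDomain A] [IsNoetherianRing A] in
theorem maximalIdeal_loc : maximalIdeal (Localization.AtPrime (Ideal.span {x})) =
    Ideal.span {algebraMap A (Localization.AtPrime (Ideal.span {x})) x} := by
  rw [← Localization.AtPrime.map_eq_maximalIdeal, Ideal.map_span, Set.image_singleton]

include hx in
theorem isDVR_loc : IsDiscreteValuationRing (Localization.AtPrime (Ideal.span {x})) := by
  haveI : IsNoetherianRing (Localization.AtPrime (Ideal.span {x})) :=
    IsLocalization.isNoetherianRing (Ideal.span {x}).primeCompl _ inferInstance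
  have hnf : ¬ IsField (Localization.AtPrime (Ideal.span {x})) := by
    rw [isField_iff_maximalIdeal_eq, maximalIdeal_loc, Ideal.span_singleton_eq_bot]
    intro h0
    have hinj : Function.Injective (algebraMap A (Localization.AtPrime (Ideal.span {x}))) :=
      IsLocalization.injective _ (Ideal.primeCompl_le_nonZeroDivisors (Ideal.span {x}))
    exact hx (hinj (by rw [h0, map_zero]))
  refine ((IsDiscreteValuationRing.TFAE _ hnf).out 0 4).mpr ?_
  rw [maximalIdeal_loc]
  exact ⟨⟨_, rfl⟩⟩

end loc

section cot

variable {A : Type u} [CommRing A] [IsLocalRing A] {r : ℕ} (f : Fin r → A)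
  (hm : ∀ i, f i ∈ maximalIdeal A)
  (hf : LinearIndependent (ResidueField A) (fun i => (maximalIdeal A).toCotangent ⟨f i, hm i⟩))

include hf in
theorem ne_zero_of_linearIndependent (i : Fin r) : f i ≠ 0 := by
  intro h0
  apply hf.ne_zero i
  have : (⟨f i, hm i⟩ : maximalIdeal A) = 0 := Subtype.ext h0
  rw [this, map_zero]

include hf in
theorem notMem_span_of_linearIndependent (i j : Fin r) (hji : j ≠ i) : f j ∉ Ideal.span {f i} := by
  intro hmem
  obtain ⟨a, ha⟩ := Ideal.mem_span_singleton'.mp hmem
  have h1 : (⟨f j, hm j⟩ : maximalIdeal A) = a • ⟨f i, hm i⟩ := by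
    apply Subtype.ext
    show f j = a * f i
    exact ha.symm
  have h2 : (maximalIdeal A).toCotangent ⟨f j, hm j⟩ =
      (residue A a) • (maximalIdeal A).toCotangent ⟨f i, hm i⟩ := by
    rw [h1, map_smul]
    rfl
  have h3 := hf.notMem_span_image (s := {i}) (x := j) (by simpa using hji)
  apply h3
  rw [Set.image_singleton, h2]
  exact Submodule.smul_mem _ _ (Submodule.mem_span_singleton_self _)

end cot

section main

set_option maxHeartbeats 1600000 in
theorem main2924 (A : Type u) [CommRing A] [IsRegularLocalRing A] [IsDomain A] (r : ℕ) (f : Fin r → A)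
    (hm : ∀ i, f i ∈ maximalIdeal A)
    (hf : LinearIndependent (ResidueField A) (fun i => (maximalIdeal A).toCotangent ⟨f i, hm i⟩))
    [∀ i, (Ideal.span {f i}).IsPrime] (n : Fin r → ℕ) (hn : ∀ i, 1 ≤ n i)
    (hu : ∀ i, IsUnit ((n i : ℕ) : ResidueField A)) :
    SGA1.IsTameAlong f (algebraMap A (SGA1.kummerAlg A f n)) := by
  intro i q hqp hq
  have hfi0 := ne_zero_of_linearIndependent f hm hf i
  haveI := isDVR_loc (f i) hfi0
  have hgA : ∀ a : A, SGA1.genericResidueMap (algebraMap A (SGA1.kummerAlg A f n)) (Ideal.span {f i}) q hq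
      (algebraMap A (Localization.AtPrime (Ideal.span {f i})) a) =
      algebraMap (SGA1.kummerAlg A f n) q.ResidueField (algebraMap A (SGA1.kummerAlg A f n) a) :=
    fun a => IsLocalization.lift_eq _ a
  have hginj : Function.Injective
      (SGA1.genericResidueMap (algebraMap A (SGA1.kummerAlg A f n)) (Ideal.span {f i}) q hq) := by
    rw [injective_iff_map_eq_zero]
    intro x hx
    obtain ⟨a, s, rfl⟩ := IsLocalization.exists_mk'_eq (Ideal.span {f i}).primeCompl x
    have h0 : SGA1.genericResidueMap (algebraMap A (SGA1.kummerAlg A f n)) (Ideal.span {f i}) q hq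
        (algebraMap A (Localization.AtPrime (Ideal.span {f i})) a) = 0 := by
      have h1 : IsLocalization.mk' (Localization.AtPrime (Ideal.span {f i})) a s *
          algebraMap A (Localization.AtPrime (Ideal.span {f i})) s =
          algebraMap A (Localization.AtPrime (Ideal.span {f i})) a := IsLocalization.mk'_spec _ _ _
      rw [← h1, map_mul, hx, zero_mul]
    rw [hgA] at h0
    have h2 : algebraMap A (SGA1.kummerAlg A f n) a ∈ q := Ideal.algebraMap_residueField_eq_zero.mp h0
    have h3 : a ∈ Ideal.comap (algebraMap A (SGA1.kummerAlg A f n)) q := h2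
    rw [hq, Ideal.mem_bot] at h3
    rw [h3, IsLocalization.mk'_zero]
  refine kummer_tame_core _ hginj (algebraMap A _ (f i)) (maximalIdeal_loc (f i)) i
    (fun j => algebraMap A _ (f j)) rfl ?_ n (fun j => Nat.one_le_iff_ne_zero.mp (hn j)) ?_
    (fun j => algebraMap (SGA1.kummerAlg A f n) q.ResidueField
      (Ideal.Quotient.mk _ (MvPolynomial.X j))) ?_ ?_
  · -- units
    intro j hj
    apply IsLocalization.map_units (Localization.AtPrime (Ideal.span {f i}))
      (⟨f j, notMem_span_of_linearIndependent f hm hf i j hj⟩ : (Ideal.span {f i}).primeCompl)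
  · intro j
    have h1 : IsUnit ((n j : ℕ) : A) := by
      have := hu j
      rw [← map_natCast (residue A)] at this
      exact isUnit_of_map_unit (residue A) _ this
    have := h1.map (algebraMap A (Localization.AtPrime (Ideal.span {f i})))
    rwa [map_natCast] at this
  · intro j
    rw [hgA, ← map_pow]
    congr 1
    rw [← map_pow]
    show Ideal.Quotient.mk _ (MvPolynomial.X j ^ n j) = Ideal.Quotient.mk _ (MvPolynomial.C (f j))
    rw [Ideal.Quotient.eq]
    exact Ideal.subset_span ⟨j, rfl⟩
  · have hev : ∀ p : MvPolynomial (Fin r) A,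
        MvPolynomial.eval₂
          (SGA1.genericResidueMap (algebraMap A (SGA1.kummerAlg A f n)) (Ideal.span {f i}) q hq)
          (fun j => algebraMap (SGA1.kummerAlg A f n) q.ResidueField
            (Ideal.Quotient.mk _ (MvPolynomial.X j)))
          (MvPolynomial.map (algebraMap A (Localization.AtPrime (Ideal.span {f i}))) p) =
        algebraMap (SGA1.kummerAlg A f n) q.ResidueField (Ideal.Quotient.mk _ p) := by
      intro p
      rw [MvPolynomial.eval₂_map]
      induction p using MvPolynomial.induction_on with
      | C a =>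
        rw [MvPolynomial.eval₂_C, RingHom.comp_apply, hgA]
        rfl
      | add p₁ p₂ h₁ h₂ => rw [MvPolynomial.eval₂_add, h₁, h₂, map_add, map_add]
      | mul_X p₁ j h₁ => rw [MvPolynomial.eval₂_mul, MvPolynomial.eval₂_X, h₁, map_mul, map_mul]
    intro z
    obtain ⟨x, s, c, hc, hs, e⟩ :=
      (RingHom.surjective_localRingHom_iff
        (f := algebraMap (SGA1.kummerAlg A f n) q.ResidueField) (⊥ : Ideal q.ResidueField)).mp
        (Ideal.surjectiveOnStalks_residueField q ⊥ Ideal.isPrime_bot) z
    obtain ⟨px, rfl⟩ := Ideal.Quotient.mk_surjective x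
    obtain ⟨ps, rfl⟩ := Ideal.Quotient.mk_surjective s
    refine ⟨MvPolynomial.map (algebraMap A _) px, MvPolynomial.map (algebraMap A _) ps, ?_, ?_⟩
    · rw [hev]
      intro h
      exact hs (by rw [h]; exact Submodule.zero_mem _)
    · rw [hev, hev]
      have hc0 : c ≠ 0 := fun h => hc (by rw [h]; exact Submodule.zero_mem _)
      apply mul_left_cancel₀ hc0
      rw [← mul_assoc]
      exact e

end main

end Groth.Agent.Lib.KumTameH8
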