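import Mathlib

namespace Groth.Agent.Lib.KumTorsH8

universe u

section Roots

variable {A : Type u} [CommRing A] [IsLocalRing A]

/-- In a local ring, a `k`-th root of unity congruent to `1` is `1` when `k` is invertible. -/
theorem eq_one_of_pow_eq_one_of_sub_mem (k : ℕ) (hk : IsUnit ((k : ℕ) : A)) (y : A) (hy : y ^ k = 1)
    (hmem : y - 1 ∈ IsLocalRing.maximalIdeal A) : y = 1 := by
  have h1 : (∑ i ∈ Finset.range k, y ^ i) * (y - 1) = 0 := by
    rw [geom_sum_mul, hy, sub_self]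
  have h2 : IsUnit (∑ i ∈ Finset.range k, y ^ i) := by
    have h3 : (∑ i ∈ Finset.range k, y ^ i) - (k : A) ∈ IsLocalRing.maximalIdeal A := by
      have : (∑ i ∈ Finset.range k, y ^ i) - (k : A) = ∑ i ∈ Finset.range k, (y ^ i - 1) := by
        rw [Finset.sum_sub_distrib]; simp
      rw [this]
      refine Ideal.sum_mem _ fun i _ => ?_
      have h4 : y ^ i - 1 = (∑ j ∈ Finset.range i, y ^ j) * (y - 1) := (geom_sum_mul y i).symm
      rw [h4]
      exact Ideal.mul_mem_left _ _ hmem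
    by_contra hnu
    have h5 : (∑ i ∈ Finset.range k, y ^ i) ∈ IsLocalRing.maximalIdeal A :=
      (IsLocalRing.mem_maximalIdeal _).mpr hnu
    have h6 : (k : A) ∈ IsLocalRing.maximalIdeal A := by
      have := Ideal.sub_mem _ h5 h3
      simpa using this
    exact (IsLocalRing.mem_maximalIdeal _).mp h6 hk
  have h7 := h2.mul_right_eq_zero.mp h1
  exact sub_eq_zero.mp h7

variable (n : ℕ) (hn : IsUnit ((n : ℕ) : A)) (ζ₀ : A) (hζ₀ : IsPrimitiveRoot ζ₀ n)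

include hn hζ₀ in
theorem isUnit_pow_sub_one (l : ℕ) (hl0 : 0 < l) (hln : l < n) : IsUnit (ζ₀ ^ l - 1) := by
  by_contra hnu
  have hmem : ζ₀ ^ l - 1 ∈ IsLocalRing.maximalIdeal A := (IsLocalRing.mem_maximalIdeal _).mpr hnu
  have hres : (IsLocalRing.residue A ζ₀) ^ l = 1 := by
    rw [← map_pow, ← sub_eq_zero, ← map_one (IsLocalRing.residue A), ← map_sub]
    exact (IsLocalRing.residue_eq_zero_iff _).mpr hmem
  have hresn : (IsLocalRing.residue A ζ₀) ^ n = 1 := by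
    rw [← map_pow, hζ₀.pow_eq_one, map_one]
  have hd : (IsLocalRing.residue A ζ₀) ^ (Nat.gcd l n) = 1 := pow_gcd_eq_one.mpr ⟨hres, hresn⟩
  set d := Nat.gcd l n with hd_def
  have hd0 : 0 < d := Nat.gcd_pos_of_pos_left n hl0
  have hdl : d ≤ l := Nat.gcd_le_left n hl0
  obtain ⟨k, hk⟩ : d ∣ n := Nat.gcd_dvd_right l n
  have hmem2 : ζ₀ ^ d - 1 ∈ IsLocalRing.maximalIdeal A := by
    rw [← IsLocalRing.residue_eq_zero_iff, map_sub, map_pow, hd, map_one, sub_self]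
  have hku : IsUnit ((k : ℕ) : A) := by
    have : ((n : ℕ) : A) = (d : A) * (k : A) := by rw [hk]; push_cast; rfl
    rw [this] at hn
    exact isUnit_of_mul_isUnit_right hn
  have hpow : (ζ₀ ^ d) ^ k = 1 := by rw [← pow_mul, ← hk, hζ₀.pow_eq_one]
  have h1 := eq_one_of_pow_eq_one_of_sub_mem k hku (ζ₀ ^ d) hpow hmem2
  exact hζ₀.pow_ne_one_of_pos_of_lt hd0.ne' (lt_of_le_of_lt hdl hln) h1

include hn hζ₀ in
theorem isUnit_pow_sub_pow (i j : ℕ) (hij : i < j) (hjn : j < n) : IsUnit (ζ₀ ^ j - ζ₀ ^ i) := by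
  have h1 : ζ₀ ^ j - ζ₀ ^ i = ζ₀ ^ i * (ζ₀ ^ (j - i) - 1) := by
    rw [mul_sub, mul_one, ← pow_add, Nat.add_sub_cancel' hij.le]
  rw [h1]
  have hζu : IsUnit ζ₀ := by
    have hn0 : n ≠ 0 := by omega
    exact IsUnit.of_pow_eq_one hζ₀.pow_eq_one hn0
  exact (hζu.pow i).mul (isUnit_pow_sub_one n hn ζ₀ hζ₀ (j - i) (by omega) (by omega))

include hn hζ₀ in
theorem eq_pow_of_pow_eq_one (hn0 : 0 < n) (x : A) (hx : x ^ n = 1) : ∃ i < n, x = ζ₀ ^ i := by
  have hprim : IsPrimitiveRoot (IsLocalRing.residue A ζ₀) n := by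
    refine IsPrimitiveRoot.mk_of_lt _ hn0 (by rw [← map_pow, hζ₀.pow_eq_one, map_one]) ?_
    intro l hl0 hln hl
    have h1 := isUnit_pow_sub_one n hn ζ₀ hζ₀ l hl0 hln
    have h2 : IsLocalRing.residue A (ζ₀ ^ l - 1) = 0 := by
      rw [map_sub, map_pow, hl, map_one, sub_self]
    exact ((IsLocalRing.residue_eq_zero_iff _).mp h2) h1
  haveI : NeZero n := ⟨hn0.ne'⟩
  obtain ⟨i, hi, hxi⟩ := hprim.eq_pow_of_pow_eq_one (ξ := IsLocalRing.residue A x)
    (by rw [← map_pow, hx, map_one])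
  refine ⟨i, hi, ?_⟩
  have hζu : IsUnit ζ₀ := IsUnit.of_pow_eq_one hζ₀.pow_eq_one hn0.ne'
  -- y = x * ζ₀^(n - i)
  set y := x * ζ₀ ^ (n - i) with hy
  have hyn : y ^ n = 1 := by
    rw [hy, mul_pow, hx, one_mul, ← pow_mul, mul_comm, pow_mul, hζ₀.pow_eq_one, one_pow]
  have hymem : y - 1 ∈ IsLocalRing.maximalIdeal A := by
    rw [← IsLocalRing.residue_eq_zero_iff, map_sub, hy, map_mul, map_pow, ← hxi, ← pow_add,
      Nat.add_sub_cancel' hi.le, ← map_pow, hζ₀.pow_eq_one, map_one, sub_self]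
  have hy1 := eq_one_of_pow_eq_one_of_sub_mem n hn y hyn hymem
  have : x = x * ζ₀ ^ (n - i) * ζ₀ ^ i := by
    rw [mul_assoc, ← pow_add, Nat.sub_add_cancel hi.le, hζ₀.pow_eq_one, mul_one]
  rw [this, ← hy, hy1, one_mul]

end Roots

end Groth.Agent.Lib.KumTorsH8
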