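import Groth.Agent.Lib.ASTors1_helper8
import Groth.Agent.Lib.KumTors1_helper8

open TensorProduct

namespace Groth.Agent.Lib.KumTorsH8

open Groth.Agent.Lib.ASTorsH8

universe u

section General

variable {A B : Type u} [CommRing A] [CommRing B] [Algebra A B]
variable {G : Type} [AddGroup G] [Fintype G] [DecidableEq G]
variable (σ : G → (B →ₐ[A] B))
variable (hσ0 : σ 0 = AlgHom.id A B) (hσadd : ∀ g h, σ (g + h) = (σ g).comp (σ h))
variable [Algebra.FormallyUnramified A B] [Algebra.EssFiniteType A B] [Module.FaithfullyFlat A B]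

include hσ0 hσadd in
theorem fixed_mem_range (htors : IsGeomTorsor σ) (x : B) (hx : ∀ g, σ g x = x) :
    ∃ a : A, algebraMap A B a = x := by
  have h1 : (1 : B) ⊗ₜ[A] x = x ⊗ₜ[A] (1 : B) := by
    apply Phi_injective σ hσ0 hσadd htors
    intro g
    rw [Phi_tmul, Phi_tmul, hx, map_one]
    ring
  have h2 : (1 : B) ⊗ₜ[A] x ∈ LinearMap.range ((Algebra.linearMap A B).lTensor B) := by
    refine ⟨x ⊗ₜ[A] (1 : A), ?_⟩
    rw [LinearMap.lTensor_tmul, h1]
    simp
  obtain ⟨a, ha⟩ := mem_range_of_tmul_mem_range (B := B) (Algebra.linearMap A B) _ h2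
  exact ⟨a, ha⟩

variable {n : ℕ} (gs : Fin n → G) (hgs : Function.Surjective gs) (T : B)
  (hV : IsUnit (Matrix.vandermonde (fun i => σ (gs i) T)).det)

include hV in
theorem coeff_eq_zero_of_vandermonde (c : Fin n → A)
    (h : ∑ i : Fin n, c i • T ^ (i : ℕ) = 0) : c = 0 := by
  have hinj : Function.Injective (algebraMap A B) := FaithfulSMul.algebraMap_injective A B
  let V := Matrix.vandermonde (fun i => σ (gs i) T)
  have h1 : V.mulVec (fun i => algebraMap A B (c i)) = 0 := by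
    ext k
    have h2 := congrArg (σ (gs k)) h
    rw [map_sum, map_zero] at h2
    simp only [Matrix.mulVec, dotProduct, V, Matrix.vandermonde_apply, Pi.zero_apply]
    rw [← h2]
    refine Finset.sum_congr rfl fun i _ => ?_
    rw [map_smul, map_pow, Algebra.smul_def]
    ring
  have h3 : (fun i => algebraMap A B (c i)) = 0 := by
    have := congrArg (V⁻¹.mulVec) h1
    rwa [Matrix.mulVec_mulVec, Matrix.nonsing_inv_mul _ hV,
      Matrix.one_mulVec, Matrix.mulVec_zero] at this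
  ext i
  apply hinj
  rw [Pi.zero_apply, map_zero]
  exact congrFun h3 i

include hσ0 hσadd hgs hV in
theorem exists_coeff_of_vandermonde (htors : IsGeomTorsor σ) (y : B) :
    ∃ c : Fin n → A, ∑ i : Fin n, c i • T ^ (i : ℕ) = y := by
  let V := Matrix.vandermonde (fun i => σ (gs i) T)
  let u : Fin n → B := fun k => σ (gs k) y
  let v : Fin n → B := V⁻¹.mulVec u
  have hv : V.mulVec v = u := by
    simp only [v]
    rw [Matrix.mulVec_mulVec, Matrix.mul_nonsing_inv _ hV, Matrix.one_mulVec]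
  let ψ : (Fin n → A) →ₗ[A] B :=
    { toFun := fun c => ∑ i : Fin n, c i • T ^ (i : ℕ)
      map_add' := by
        intro c d
        simp only [Pi.add_apply, add_smul, Finset.sum_add_distrib]
      map_smul' := by
        intro a c
        simp only [Pi.smul_apply, smul_eq_mul, mul_smul, Finset.smul_sum, RingHom.id_apply] }
  have hψ : ∀ i : Fin n, ψ (Pi.single i 1) = T ^ (i : ℕ) := by
    intro i
    simp only [ψ, LinearMap.coe_mk, AddHom.coe_mk]
    rw [Finset.sum_eq_single i]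
    · simp
    · intro j _ hj
      simp [Pi.single_eq_of_ne hj]
    · intro h; exact absurd (Finset.mem_univ i) h
  have h1 : (1 : B) ⊗ₜ[A] y ∈ LinearMap.range (ψ.lTensor B) := by
    refine ⟨∑ i : Fin n, v i ⊗ₜ[A] (Pi.single i (1 : A)), ?_⟩
    apply Phi_injective σ hσ0 hσadd htors
    intro g
    obtain ⟨k, rfl⟩ := hgs g
    rw [map_sum, map_sum]
    simp only [LinearMap.lTensor_tmul, hψ, Phi_tmul, map_pow, one_mul]
    have h2 := congrFun hv k
    simp only [Matrix.mulVec, dotProduct, V, Matrix.vandermonde_apply, u] at h2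
    rw [← h2]
    refine Finset.sum_congr rfl fun i _ => ?_
    ring
  obtain ⟨c, hc⟩ := mem_range_of_tmul_mem_range (B := B) ψ y h1
  exact ⟨c, hc⟩

end General

section Kummer

variable {A B : Type u} [CommRing A] [CommRing B] [Algebra A B]
variable (n : ℕ) [NeZero n] (ζ₀ : A) (hζ₀ : ζ₀ ^ n = 1)

/-- the character `i ↦ ζ₀ ^ i`. -/
def chi (i : ZMod n) : A := ζ₀ ^ i.val

include hζ₀ in
theorem chi_add (i j : ZMod n) : chi n ζ₀ (i + j) = chi n ζ₀ i * chi n ζ₀ j := by
  unfold chi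
  rw [ZMod.val_add, ← pow_eq_pow_mod _ hζ₀, pow_add]

theorem chi_zero : chi n ζ₀ 0 = 1 := by
  unfold chi
  rw [ZMod.val_zero, pow_zero]

include hζ₀ in
theorem chi_neg_mul (i : ZMod n) : chi n ζ₀ (-i) * chi n ζ₀ i = 1 := by
  rw [← chi_add n ζ₀ hζ₀, neg_add_cancel, chi_zero]

include hζ₀ in
theorem chi_pow (i : ZMod n) : (chi n ζ₀ i) ^ n = 1 := by
  unfold chi
  rw [← pow_mul, mul_comm, pow_mul, hζ₀, one_pow]

theorem chi_natCast (i : ℕ) (hi : i < n) : chi n ζ₀ (i : ZMod n) = ζ₀ ^ i := by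
  unfold chi
  rw [ZMod.val_natCast_of_lt hi]

variable (ninv : A) (hninv : ninv * (n : A) = 1)
variable (σ : ZMod n → (B →ₐ[A] B))
variable (hσ0 : σ 0 = AlgHom.id A B) (hσadd : ∀ g h, σ (g + h) = (σ g).comp (σ h))

/-- the isotypic projector. -/
noncomputable def pr (c : ZMod n) : B →ₗ[A] B :=
  ninv • ∑ i : ZMod n, chi n ζ₀ (-(c * i)) • (σ i).toLinearMap

theorem pr_apply (c : ZMod n) (b : B) :
    pr n ζ₀ ninv σ c b = ninv • ∑ i : ZMod n, chi n ζ₀ (-(c * i)) • σ i b := by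
  simp [pr, LinearMap.sum_apply]

include hζ₀ hσadd in
theorem sigma_pr (c j : ZMod n) (b : B) :
    σ j (pr n ζ₀ ninv σ c b) = chi n ζ₀ (c * j) • pr n ζ₀ ninv σ c b := by
  rw [pr_apply, map_smul, map_sum, smul_comm]
  congr 1
  rw [Finset.smul_sum]
  have h1 : ∑ i : ZMod n, chi n ζ₀ (c * j) • chi n ζ₀ (-(c * i)) • σ i b =
      ∑ x : ZMod n, chi n ζ₀ (c * j) • chi n ζ₀ (-(c * (j + x))) • σ (j + x) b :=
    (Equiv.sum_comp (Equiv.addLeft j)
      (fun i => chi n ζ₀ (c * j) • chi n ζ₀ (-(c * i)) • σ i b)).symm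
  rw [h1]
  refine Finset.sum_congr rfl fun i _ => ?_
  rw [map_smul, smul_smul, hσadd j i, AlgHom.comp_apply]
  congr 1
  have : -(c * i) = c * j + -(c * (j + i)) := by ring
  rw [this, chi_add n ζ₀ hζ₀]

include hζ₀ hninv in
theorem pr_eq_self (c : ZMod n) (t : B) (ht : ∀ i, σ i t = chi n ζ₀ (c * i) • t) :
    pr n ζ₀ ninv σ c t = t := by
  rw [pr_apply]
  have h1 : ∀ i : ZMod n, chi n ζ₀ (-(c * i)) • σ i t = t := by
    intro i
    rw [ht, smul_smul, chi_neg_mul n ζ₀ hζ₀, one_smul]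
  rw [Finset.sum_congr rfl (fun i _ => h1 i), Finset.sum_const, Finset.card_univ, ZMod.card,
    ← Nat.cast_smul_eq_nsmul A, smul_smul, hninv, one_smul]

theorem pr_zero_mul (c : ZMod n) (b t : B) (ht : ∀ i, σ i t = chi n ζ₀ (c * i) • t) :
    pr n ζ₀ ninv σ 0 (b * t) = pr n ζ₀ ninv σ (-c) b * t := by
  rw [pr_apply, pr_apply, smul_mul_assoc, Finset.sum_mul]
  congr 1
  refine Finset.sum_congr rfl fun i _ => ?_
  rw [map_mul, ht, zero_mul, neg_zero, chi_zero, one_smul, neg_mul, neg_neg, mul_smul_comm,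
    smul_mul_assoc]

end Kummer

end Groth.Agent.Lib.KumTorsH8
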