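import Groth.Agent.Lib.KumTors2_helper8
import Groth.Prelude.Def_SGA1t

open TensorProduct

namespace Groth.Agent.Lib.KumTorsH8

open Groth.Agent.Lib.ASTorsH8

universe u

section KCore

variable {A B : Type u} [CommRing A] [CommRing B] [Algebra A B]
variable (n : ℕ) [NeZero n] (ζ₀ : A) (hζ₀ : ζ₀ ^ n = 1)
variable (ninv : A) (hninv : ninv * (n : A) = 1)
variable (σ : ZMod n → (B →ₐ[A] B))
variable (hσ0 : σ 0 = AlgHom.id A B) (hσadd : ∀ g h, σ (g + h) = (σ g).comp (σ h))
variable [Algebra.FormallyUnramified A B] [Algebra.EssFiniteType A B] [Module.FaithfullyFlat A B]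

include hζ₀ hσadd in
theorem Phi_pr (c j : ZMod n) (w : B ⊗[A] B) :
    Phi σ j ((pr n ζ₀ ninv σ c).lTensor B w) =
      ninv • ∑ i : ZMod n, chi n ζ₀ (-(c * i)) • Phi σ (j + i) w := by
  induction w using TensorProduct.induction_on with
  | zero => simp
  | tmul b y =>
    rw [LinearMap.lTensor_tmul, Phi_tmul, pr_apply, map_smul, map_sum, mul_smul_comm, Finset.mul_sum]
    congr 1
    refine Finset.sum_congr rfl fun i _ => ?_
    rw [map_smul, mul_smul_comm, Phi_tmul, hσadd j i, AlgHom.comp_apply]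
  | add x y hx hy =>
    rw [map_add, map_add, hx, hy, ← smul_add, ← Finset.sum_add_distrib]
    congr 1
    refine Finset.sum_congr rfl fun i _ => ?_
    rw [map_add, smul_add]

/-- the set of products `s * t ∈ A` with `s ∈ B_{-1}`, `t ∈ B_1`. -/
def prodSet : Set A :=
  {a | ∃ s t : B, (∀ i, σ i s = chi n ζ₀ (-i) • s) ∧ (∀ i, σ i t = chi n ζ₀ i • t) ∧
    algebraMap A B a = s * t}

include hζ₀ hσ0 hσadd in
theorem exists_mem_span_prodSet (htors : IsGeomTorsor σ) (w : B ⊗[A] B) :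
    ∃ a ∈ Ideal.span (prodSet (B := B) n ζ₀ σ),
      algebraMap A B a = pr n ζ₀ ninv σ 0 (Phi σ 0 ((pr n ζ₀ ninv σ 1).lTensor B w)) := by
  induction w using TensorProduct.induction_on with
  | zero => exact ⟨0, Ideal.zero_mem _, by simp⟩
  | tmul b y =>
    rw [LinearMap.lTensor_tmul, Phi_tmul, hσ0, AlgHom.id_apply]
    have ht : ∀ i, σ i (pr n ζ₀ ninv σ 1 y) = chi n ζ₀ (1 * i) • pr n ζ₀ ninv σ 1 y :=
      fun i => sigma_pr n ζ₀ hζ₀ ninv σ hσadd 1 i y
    rw [pr_zero_mul n ζ₀ ninv σ 1 b _ ht]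
    have hs : ∀ i, σ i (pr n ζ₀ ninv σ (-1) b) = chi n ζ₀ (-i) • pr n ζ₀ ninv σ (-1) b := by
      intro i
      rw [sigma_pr n ζ₀ hζ₀ ninv σ hσadd (-1) i b, neg_one_mul]
    have hfix : ∀ g, σ g (pr n ζ₀ ninv σ (-1) b * pr n ζ₀ ninv σ 1 y) =
        pr n ζ₀ ninv σ (-1) b * pr n ζ₀ ninv σ 1 y := by
      intro g
      rw [map_mul, hs, ht, one_mul, smul_mul_smul_comm, chi_neg_mul n ζ₀ hζ₀, one_smul]
    obtain ⟨a, ha⟩ := fixed_mem_range σ hσ0 hσadd htors _ hfix
    refine ⟨a, Ideal.subset_span ⟨_, _, hs, ?_, ha⟩, ha⟩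
    intro i
    rw [ht, one_mul]
  | add x y hx hy =>
    obtain ⟨a, ha, hax⟩ := hx
    obtain ⟨a', ha', hay⟩ := hy
    exact ⟨a + a', Ideal.add_mem _ ha ha', by rw [map_add, hax, hay, map_add, map_add, map_add]⟩

include hζ₀ hninv hσ0 hσadd in
theorem exists_unit_eigen [IsLocalRing A] (htors : IsGeomTorsor σ) :
    ∃ T : B, IsUnit T ∧ ∀ i, σ i T = chi n ζ₀ i • T := by
  obtain ⟨w, hw⟩ := Phi_surjective σ hσ0 hσadd htors (fun i => algebraMap A B (chi n ζ₀ i))
  have hw1 : (pr n ζ₀ ninv σ 1).lTensor B w = w := by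
    apply Phi_injective σ hσ0 hσadd htors
    intro j
    rw [Phi_pr n ζ₀ hζ₀ ninv σ hσadd, hw]
    have h1 : ∀ i : ZMod n, chi n ζ₀ (-(1 * i)) • Phi σ (j + i) w = algebraMap A B (chi n ζ₀ j) := by
      intro i
      rw [hw, one_mul, Algebra.smul_def, ← map_mul, chi_add n ζ₀ hζ₀, mul_comm (chi n ζ₀ j),
        ← mul_assoc, chi_neg_mul n ζ₀ hζ₀, one_mul]
    rw [Finset.sum_congr rfl (fun i _ => h1 i), Finset.sum_const, Finset.card_univ, ZMod.card,
      ← Nat.cast_smul_eq_nsmul A, smul_smul, hninv, one_smul]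
  obtain ⟨a, ha, haw⟩ := exists_mem_span_prodSet n ζ₀ hζ₀ ninv σ hσ0 hσadd htors w
  rw [hw1, hw, chi_zero, map_one] at haw
  have hone : pr n ζ₀ ninv σ 0 (1 : B) = 1 := by
    apply pr_eq_self n ζ₀ hζ₀ ninv hninv σ 0 1
    intro i
    rw [map_one, zero_mul, chi_zero, one_smul]
  rw [hone] at haw
  have ha1 : a = 1 := by
    apply FaithfulSMul.algebraMap_injective A B
    rw [haw, map_one]
  rw [ha1] at ha
  have htop : Ideal.span (prodSet (B := B) n ζ₀ σ) = ⊤ := (Ideal.eq_top_iff_one _).mpr ha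
  have : ∃ a ∈ prodSet (B := B) n ζ₀ σ, IsUnit a := by
    by_contra hne
    push_neg at hne
    have hle : Ideal.span (prodSet (B := B) n ζ₀ σ) ≤ IsLocalRing.maximalIdeal A := by
      rw [Ideal.span_le]
      intro a ha
      exact (IsLocalRing.mem_maximalIdeal _).mpr (hne a ha)
    rw [htop] at hle
    exact (IsLocalRing.maximalIdeal.isMaximal A).ne_top (top_le_iff.mp hle)
  obtain ⟨a, ⟨s, t, -, ht, hst⟩, hau⟩ := this
  refine ⟨t, ?_, ht⟩
  have h1 : IsUnit (s * t) := by rw [← hst]; exact hau.map _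
  exact isUnit_of_mul_isUnit_right h1


include hζ₀ hninv hσ0 hσadd in
theorem kummer_core [IsLocalRing A] (hn : IsUnit ((n : ℕ) : A)) (hprim : IsPrimitiveRoot ζ₀ n)
    (htors : IsGeomTorsor σ) :
    ∃ (a : Aˣ) (φ : SGA1t.kummer A (fun _ : Unit => (a : A)) (fun _ => n) ≃ₐ[A] B),
      ∀ (i : ZMod n) (ζ : rootsOfUnity n A), ((ζ : Aˣ) : A) = chi n ζ₀ i →
        ∀ x, φ (SGA1t.kummerTwist A (fun _ : Unit => (a : A)) (fun _ => n) (fun _ => ζ) x) =
          σ i (φ x) := by
  obtain ⟨T, hTu, hT⟩ := exists_unit_eigen n ζ₀ hζ₀ ninv hninv σ hσ0 hσadd htors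
  have hn0 : 0 < n := Nat.pos_of_ne_zero (NeZero.ne n)
  -- the element a
  have hfix : ∀ g, σ g (T ^ n) = T ^ n := by
    intro g
    rw [map_pow, hT, smul_pow, chi_pow n ζ₀ hζ₀, one_smul]
  obtain ⟨a₀, ha₀⟩ := fixed_mem_range σ hσ0 hσadd htors _ hfix
  have ha₀u : IsUnit a₀ := by
    have h1 : IsUnit (algebraMap A B a₀) := by rw [ha₀]; exact hTu.pow n
    have h2 := Ideal.comap_map_eq_self_of_faithfullyFlat (B := B) (Ideal.span {a₀})
    rw [Ideal.map_span, Set.image_singleton, Ideal.span_singleton_eq_top.mpr h1, Ideal.comap_top] at h2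
    exact Ideal.span_singleton_eq_top.mp h2.symm
  -- Vandermonde
  let gs : Fin n → ZMod n := fun i => ((i : ℕ) : ZMod n)
  have hgs : Function.Surjective gs := by
    intro g
    exact ⟨⟨g.val, ZMod.val_lt g⟩, by simp [gs]⟩
  have hr : ∀ i : Fin n, σ (gs i) T = ζ₀ ^ (i : ℕ) • T := by
    intro i
    rw [hT, chi_natCast n ζ₀ i i.2]
  have hV : IsUnit (Matrix.vandermonde (fun i => σ (gs i) T)).det := by
    rw [Matrix.det_vandermonde]
    refine IsUnit.prod_univ_iff.mpr fun i => ?_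
    rw [← Finset.prod_attach]
    refine IsUnit.prod_univ_iff.mpr fun j => ?_
    have hij : i < j.1 := Finset.mem_Ioi.mp j.2
    rw [hr, hr, ← sub_smul, Algebra.smul_def]
    exact ((isUnit_pow_sub_pow n hn ζ₀ hprim i j.1 hij j.1.2).map _).mul hTu
  -- the map
  let I : Ideal (MvPolynomial Unit A) :=
    Ideal.span (Set.range fun i : Unit => (MvPolynomial.X i : MvPolynomial Unit A) ^ n - MvPolynomial.C a₀)
  have hker : ∀ q ∈ I, MvPolynomial.aeval (fun _ : Unit => T) q = 0 := by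
    intro q hq
    have hle : I ≤ RingHom.ker (MvPolynomial.aeval (R := A) (fun _ : Unit => T)).toRingHom := by
      rw [Ideal.span_le]
      rintro _ ⟨i, rfl⟩
      rw [SetLike.mem_coe, RingHom.mem_ker]
      show MvPolynomial.aeval (fun _ : Unit => T) _ = 0
      rw [map_sub, map_pow, MvPolynomial.aeval_X, MvPolynomial.aeval_C, ha₀, sub_self]
    exact hle hq
  let φ₀ : SGA1t.kummer A (fun _ : Unit => a₀) (fun _ => n) →ₐ[A] B :=
    Ideal.Quotient.liftₐ I (MvPolynomial.aeval (fun _ : Unit => T)) hker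
  have hφ₀ : ∀ q : MvPolynomial Unit A, φ₀ (Ideal.Quotient.mk I q) = MvPolynomial.aeval (fun _ : Unit => T) q :=
    fun q => rfl
  let e := MvPolynomial.uniqueAlgEquiv A Unit
  have hcompat : ∀ r : Polynomial A, MvPolynomial.aeval (fun _ : Unit => T) (e.symm r) = Polynomial.aeval T r := by
    intro r
    rw [MvPolynomial.aeval_def, Polynomial.aeval_def]
    exact MvPolynomial.eval₂_const_uniqueAlgEquiv_symm
  have hinj : Function.Injective φ₀ := by
    rw [injective_iff_map_eq_zero]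
    intro x hx
    obtain ⟨q, rfl⟩ := Ideal.Quotient.mk_surjective x
    by_cases hA : Nontrivial A
    · obtain ⟨f, hf⟩ : ∃ f : Polynomial A, f = Polynomial.X ^ n - Polynomial.C a₀ := ⟨_, rfl⟩
      have hm : f.Monic := by rw [hf]; exact Polynomial.monic_X_pow_sub_C a₀ hn0.ne'
      have hfd : f.natDegree = n := by rw [hf]; exact Polynomial.natDegree_X_pow_sub_C
      have hef : e.symm f = (MvPolynomial.X () : MvPolynomial Unit A) ^ n - MvPolynomial.C a₀ := by
        apply e.injective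
        rw [AlgEquiv.apply_symm_apply, hf]
        simp [e]
      obtain ⟨r, hr'⟩ : ∃ r : Polynomial A, r = (e q) %ₘ f := ⟨_, rfl⟩
      have hq : Ideal.Quotient.mk I q = Ideal.Quotient.mk I (e.symm r) := by
        rw [Ideal.Quotient.eq]
        have h1 : q - e.symm r = e.symm f * e.symm ((e q) /ₘ f) := by
          rw [← map_mul, ← e.symm_apply_apply q, ← map_sub, e.apply_symm_apply]
          congr 1
          have := Polynomial.modByMonic_add_div (e q) (q := f)
          rw [← hr'] at this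
          linear_combination -this
        rw [h1, hef]
        exact Ideal.mul_mem_right _ _ (Ideal.subset_span ⟨(), rfl⟩)
      rw [hq] at hx ⊢
      have hdeg : r.natDegree < n := by
        rw [hr']
        have := Polynomial.natDegree_modByMonic_lt (e q) hm (by
          intro h1
          rw [h1, Polynomial.natDegree_one] at hfd
          exact hn0.ne' hfd.symm)
        rwa [hfd] at this
      rw [hφ₀, hcompat, Polynomial.aeval_eq_sum_range' hdeg,
        ← Fin.sum_univ_eq_sum_range (fun i => r.coeff i • T ^ i)] at hx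
      have h0 := coeff_eq_zero_of_vandermonde σ gs T hV (fun i : Fin n => r.coeff i) hx
      have hr0 : r = 0 := by
        ext m
        by_cases hmn : m < n
        · exact congrFun h0 ⟨m, hmn⟩
        · rw [Polynomial.coeff_eq_zero_of_natDegree_lt (lt_of_lt_of_le hdeg (not_lt.mp hmn))]; simp
      rw [hr0, map_zero, map_zero]
    · rw [not_nontrivial_iff_subsingleton] at hA
      haveI : Subsingleton (MvPolynomial Unit A) := inferInstance
      exact Subsingleton.elim _ _
  have hsurj : Function.Surjective φ₀ := by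
    intro y
    obtain ⟨c, hc⟩ := exists_coeff_of_vandermonde σ hσ0 hσadd gs hgs T hV htors y
    refine ⟨Ideal.Quotient.mk I (∑ i : Fin n, MvPolynomial.C (c i) * MvPolynomial.X () ^ (i : ℕ)), ?_⟩
    rw [hφ₀, map_sum, ← hc]
    refine Finset.sum_congr rfl fun i _ => ?_
    rw [map_mul, MvPolynomial.aeval_C, map_pow, MvPolynomial.aeval_X, Algebra.smul_def]
  refine ⟨ha₀u.unit, AlgEquiv.ofBijective φ₀ ⟨hinj, hsurj⟩, ?_⟩
  intro i ζ hζ x
  obtain ⟨q, rfl⟩ := Ideal.Quotient.mk_surjective x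
  show φ₀ (SGA1t.kummerTwist A (fun _ : Unit => a₀) (fun _ => n) (fun _ => ζ) (Ideal.Quotient.mk I q)) =
    σ i (φ₀ (Ideal.Quotient.mk I q))
  have h1 : SGA1t.kummerTwist A (fun _ : Unit => a₀) (fun _ => n) (fun _ => ζ) (Ideal.Quotient.mk I q) =
      Ideal.Quotient.mk I (MvPolynomial.aeval (R := A)
        (fun j : Unit => MvPolynomial.C (((ζ : Aˣ) : A)) * MvPolynomial.X j) q) := rfl
  rw [h1, hφ₀, hφ₀]
  clear h1
  induction q using MvPolynomial.induction_on with
  | C c => simp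
  | add q r hq hr => rw [map_add, map_add, map_add, map_add, hq, hr]
  | mul_X q j hq =>
    rw [map_mul, map_mul, map_mul, map_mul, hq]
    congr 1
    rw [MvPolynomial.aeval_X, MvPolynomial.aeval_X, map_mul, MvPolynomial.aeval_C, MvPolynomial.aeval_X,
      hT, hζ, Algebra.smul_def]

end KCore

end Groth.Agent.Lib.KumTorsH8
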