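import Groth.Agent.Lib.ASTors3_helper8

open CategoryTheory CategoryTheory.Limits AlgebraicGeometry

namespace Groth.Agent.Lib.PrincTrH8

open Groth.Agent.Lib.ASTorsH8

universe u

variable (A : Type u) [CommRing A] (P : FEt.Cat (Spec (CommRingCat.of A)))

/-- the `A`-algebra structure on global sections of a finite étale cover of `Spec A`. -/
@[reducible] noncomputable def algInst : Algebra A Γ(P.left, ⊤) := (str A P).hom.toAlgebra

attribute [local instance] algInst

theorem algebraMap_eq : algebraMap A Γ(P.left, ⊤) = (str A P).hom := rfl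

theorem finite_sections : Module.Finite A Γ(P.left, ⊤) := by
  have hfinS : IsFinite (Spec.map (str A P)) := by
    have h1 : IsFinite (sh A P) := inferInstance
    rw [hom_eq] at h1
    exact (MorphismProperty.cancel_left_of_respectsIso @IsFinite _ _).mp h1
  exact (IsFinite.SpecMap_iff _).mp hfinS

theorem etale_sections : Algebra.Etale A Γ(P.left, ⊤) := by
  have hetS : Etale (Spec.map (str A P)) := by
    have h1 : Etale (sh A P) := inferInstance
    rw [hom_eq] at h1
    exact (MorphismProperty.cancel_left_of_respectsIso @Etale _ _).mp h1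
  exact (HasRingHomProperty.Spec_iff (P := @Etale)).mp hetS

theorem faithfullyFlat_sections (hsurj : Function.Surjective P.hom.base) :
    Module.FaithfullyFlat A Γ(P.left, ⊤) := by
  haveI := etale_sections A P
  apply Module.FaithfullyFlat.of_comap_surjective
  intro x
  obtain ⟨y, hy⟩ := hsurj x
  refine ⟨(P.left.isoSpec.hom).base y, ?_⟩
  have h1 : (sh A P).base y = x := hy
  rw [hom_eq] at h1
  exact h1

/-- the algebra endomorphism of global sections induced by an automorphism of the cover. -/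
noncomputable def sig (g : Aut P) : Γ(P.left, ⊤) →ₐ[A] Γ(P.left, ⊤) :=
  { toRingHom := (g.hom.left.appTop).hom
    commutes' := by
      intro a
      have h1 := str_comp A P g
      have h2 := congrArg (fun f => f.hom a) h1
      exact h2 }

theorem sig_apply (g : Aut P) (x : Γ(P.left, ⊤)) : sig A P g x = (g.hom.left.appTop).hom x := rfl

theorem sig_one : sig A P 1 = AlgHom.id A Γ(P.left, ⊤) := by
  ext x
  rfl

theorem sig_mul (g h : Aut P) : sig A P (g * h) = (sig A P h).comp (sig A P g) := by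
  ext x
  rw [AlgHom.comp_apply, sig_apply, sig_apply, sig_apply, Aut.Aut_mul_def]
  rfl

/-- translation of the geometric fibre condition. -/
theorem fiber_iff {Ω : Type u} [Field Ω] (s t : Γ(P.left, ⊤) →+* Ω)
    (hst : s.comp (algebraMap A Γ(P.left, ⊤)) = t.comp (algebraMap A Γ(P.left, ⊤))) :
    ∃ (ξ : Spec (CommRingCat.of Ω) ⟶ Spec (CommRingCat.of A)) (s' t' : FEt.fiberObj ξ P),
      ∀ g : Aut P, (FEt.fiber ξ).map g.hom s' = t' ↔ s.comp (sig A P g).toRingHom = t := by
  let ξ : Spec (CommRingCat.of Ω) ⟶ Spec (CommRingCat.of A) :=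
    Spec.map (str A P ≫ CommRingCat.ofHom s)
  have hs : (Spec.map (CommRingCat.ofHom s) ≫ P.left.isoSpec.inv) ≫ P.hom = ξ := by
    show (Spec.map (CommRingCat.ofHom s) ≫ P.left.isoSpec.inv) ≫ sh A P = ξ
    rw [hom_eq, Category.assoc, Iso.inv_hom_id_assoc, ← Spec.map_comp]
  have ht : (Spec.map (CommRingCat.ofHom t) ≫ P.left.isoSpec.inv) ≫ P.hom = ξ := by
    show (Spec.map (CommRingCat.ofHom t) ≫ P.left.isoSpec.inv) ≫ sh A P = ξ
    rw [hom_eq, Category.assoc, Iso.inv_hom_id_assoc, ← Spec.map_comp]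
    congr 1
    ext a
    exact (congrArg (fun f => f a) hst).symm
  refine ⟨ξ, ⟨_, hs⟩, ⟨_, ht⟩, ?_⟩
  intro g
  refine Iff.trans Subtype.ext_iff ?_
  show (Spec.map (CommRingCat.ofHom s) ≫ P.left.isoSpec.inv) ≫ g.hom.left =
    Spec.map (CommRingCat.ofHom t) ≫ P.left.isoSpec.inv ↔ _
  rw [Category.assoc, ← Scheme.isoSpec_inv_naturality, ← Category.assoc, ← Spec.map_comp,
    cancel_mono, Spec.map_inj]
  constructor
  · intro h
    ext x
    exact congrArg (fun f => f.hom x) h
  · intro h
    ext x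
    exact congrArg (fun f => f x) h

/-- build the scheme isomorphism from a ring-level isomorphism. -/
theorem build_iso {G : Type*} (ρ : G → Aut P) {C : Type u} [CommRing C] [Algebra A C]
    (φ : C ≃ₐ[A] Γ(P.left, ⊤)) (τ : G → C →+* C)
    (hφ : ∀ g x, φ (τ g x) = sig A P (ρ g) (φ x)) :
    ∃ e : P.left ≅ Spec (CommRingCat.of C),
      e.hom ≫ Spec.map (CommRingCat.ofHom (algebraMap A C)) = P.hom ∧
      ∀ g : G, (ρ g).hom.left ≫ e.hom = e.hom ≫ Spec.map (CommRingCat.ofHom (τ g)) := by
  let ψ : CommRingCat.of C ⟶ Γ(P.left, ⊤) := CommRingCat.ofHom (φ : C →+* Γ(P.left, ⊤))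
  let ψ' : Γ(P.left, ⊤) ⟶ CommRingCat.of C := CommRingCat.ofHom (φ.symm : Γ(P.left, ⊤) →+* C)
  have h1 : ψ ≫ ψ' = 𝟙 _ := by
    refine CommRingCat.hom_ext (RingHom.ext fun x => ?_)
    exact φ.symm_apply_apply x
  have h2 : ψ' ≫ ψ = 𝟙 _ := by
    refine CommRingCat.hom_ext (RingHom.ext fun x => ?_)
    exact φ.apply_symm_apply x
  let e : P.left ≅ Spec (CommRingCat.of C) :=
    { hom := P.left.isoSpec.hom ≫ Spec.map ψ
      inv := Spec.map ψ' ≫ P.left.isoSpec.inv
      hom_inv_id := by
        rw [Category.assoc, ← Category.assoc (Spec.map ψ), ← Spec.map_comp, h2, Spec.map_id,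
          Category.id_comp, Iso.hom_inv_id]
      inv_hom_id := by
        rw [Category.assoc, ← Category.assoc P.left.isoSpec.inv, Iso.inv_hom_id, Category.id_comp,
          ← Spec.map_comp, h1, Spec.map_id] }
  refine ⟨e, ?_, ?_⟩
  · show (P.left.isoSpec.hom ≫ Spec.map ψ) ≫ _ = sh A P
    rw [hom_eq, Category.assoc, ← Spec.map_comp]
    congr 2
    refine CommRingCat.hom_ext (RingHom.ext fun x => ?_)
    exact φ.commutes x
  · intro j
    show (ρ j).hom.left ≫ (P.left.isoSpec.hom ≫ Spec.map ψ) =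
      (P.left.isoSpec.hom ≫ Spec.map ψ) ≫ _
    rw [← Category.assoc, ← Scheme.isoSpec_hom_naturality, Category.assoc, Category.assoc,
      ← Spec.map_comp, ← Spec.map_comp]
    congr 2
    refine CommRingCat.hom_ext (RingHom.ext fun x => ?_)
    exact (hφ j x).symm

end Groth.Agent.Lib.PrincTrH8
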