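import Groth.Agent.Lib.KumTors3_helper8
import Groth.Agent.Lib.PrincTr1_helper8

open CategoryTheory CategoryTheory.Limits AlgebraicGeometry

namespace Groth.Agent.Lib.KumTorsH8

open Groth.Agent.Lib.ASTorsH8 Groth.Agent.Lib.PrincTrH8

universe u

attribute [local instance] algInst

set_option maxHeartbeats 1600000 in
theorem main3720 (A : Type u) [CommRing A] [IsLocalRing A] (n : ℕ) (hn1 : 1 ≤ n)
    (hn : IsUnit ((n : ℕ) : A)) (ζ₀ : A) (hζ₀ : IsPrimitiveRoot ζ₀ n)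
    (P : FEt.Cat (Spec (CommRingCat.of A))) (ρ : ↥(rootsOfUnity n A) →* Aut P)
    (hP : SGA1t.IsPrincipal ↥(rootsOfUnity n A) P ρ) :
    ∃ (a : Aˣ) (e : P.left ≅ Spec (CommRingCat.of (SGA1t.kummer A (fun _ : Unit => (a : A)) (fun _ => n)))),
      e.hom ≫ Spec.map (CommRingCat.ofHom (algebraMap A (SGA1t.kummer A (fun _ : Unit => (a : A)) (fun _ => n)))) = P.hom ∧
      ∀ ζ : ↥(rootsOfUnity n A), (ρ ζ).hom.left ≫ e.hom =
        e.hom ≫ Spec.map (CommRingCat.ofHom (SGA1t.kummerTwist A (fun _ : Unit => (a : A)) (fun _ => n) (fun _ => ζ))) := by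
  haveI : NeZero n := ⟨by omega⟩
  have hn0 : 0 < n := by omega
  haveI := etale_sections A P
  haveI := faithfullyFlat_sections A P hP.1
  let ζu : rootsOfUnity n A := hζ₀.toRootsOfUnity
  have hζu : ((ζu : Aˣ) : A) = ζ₀ := rfl
  have hζun : ζu ^ n = 1 := by
    apply Subtype.ext
    apply Units.ext
    simp [hζu, hζ₀.pow_eq_one]
  -- every root of unity is a power of ζu
  have hpow : ∀ ζ : rootsOfUnity n A, ∃ i < n, ζ = ζu ^ i := by
    intro ζ
    have h1 : ((ζ : Aˣ) : A) ^ n = 1 := by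
      have := (mem_rootsOfUnity n (ζ : Aˣ)).mp ζ.2
      rw [← Units.val_pow_eq_pow_val, this, Units.val_one]
    obtain ⟨i, hi, hxi⟩ := eq_pow_of_pow_eq_one n hn ζ₀ hζ₀ hn0 _ h1
    refine ⟨i, hi, ?_⟩
    apply Subtype.ext
    apply Units.ext
    simp [hxi, hζu]
  have hpowinj : ∀ i j : ℕ, i < n → j < n → ζu ^ i = ζu ^ j → i = j := by
    intro i j hi hj h
    apply hζ₀.pow_inj hi hj
    have := congrArg (fun z : rootsOfUnity n A => ((z : Aˣ) : A)) h
    simpa [hζu] using this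
  let σ : ZMod n → (Γ(P.left, ⊤) →ₐ[A] Γ(P.left, ⊤)) := fun i => sig A P (ρ (ζu ^ i.val))
  have hσ0 : σ 0 = AlgHom.id A Γ(P.left, ⊤) := by
    simp only [σ]
    rw [ZMod.val_zero, pow_zero, map_one, sig_one]
  have hσadd : ∀ g h, σ (g + h) = (σ g).comp (σ h) := by
    intro g h
    simp only [σ]
    rw [← sig_mul, ← map_mul, ← pow_add, add_comm g h, ZMod.val_add, ← pow_eq_pow_mod _ hζun]
  have htors : IsGeomTorsor σ := by
    intro Ω _ _ s t hst
    obtain ⟨ξ, s', t', hkey⟩ := fiber_iff A P s t hst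
    obtain ⟨g, hg, hguniq⟩ := hP.2 Ω ξ s' t'
    obtain ⟨i, hi, hgi⟩ := hpow g
    refine ⟨(i : ZMod n), ?_, ?_⟩
    · simp only [σ]
      rw [ZMod.val_natCast_of_lt hi, ← hgi]
      exact (hkey _).mp hg
    · intro j hj
      simp only [σ] at hj
      have h1 := hguniq (ζu ^ j.val) ((hkey _).mpr hj)
      rw [hgi] at h1
      have h2 := hpowinj _ _ (ZMod.val_lt j) hi h1
      rw [← h2, ZMod.natCast_zmod_val]
  have hninv : ((hn.unit⁻¹ : Aˣ) : A) * (n : A) = 1 := by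
    have := hn.unit.inv_mul
    simpa using this
  obtain ⟨a, φ, hφ⟩ := kummer_core n ζ₀ hζ₀.pow_eq_one _ hninv σ hσ0 hσadd hn hζ₀ htors
  obtain ⟨e, he1, he2⟩ := build_iso A P (fun ζ : rootsOfUnity n A => ρ ζ) φ
    (fun ζ => SGA1t.kummerTwist A (fun _ : Unit => (a : A)) (fun _ => n) (fun _ => ζ)) (by
      intro ζ x
      obtain ⟨i, hi, hζi⟩ := hpow ζ
      have h1 := hφ (i : ZMod n) ζ (by
        rw [chi_natCast n ζ₀ i hi, hζi]
        simp [hζu]) x
      rw [h1]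
      simp only [σ]
      rw [ZMod.val_natCast_of_lt hi, ← hζi])
  exact ⟨a, e, he1, he2⟩

end Groth.Agent.Lib.KumTorsH8
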