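import Mathlib

/-!
# Kummer extensions attached to a divisor class of exact order `n` (helper3)
-/

set_option autoImplicit false
universe u v w
open Polynomial IntermediateField Module

namespace Groth.Agent.Lib.KummerH3

theorem prod_eq {K : Type v} {L : Type w} [Field K] [Field L] [Algebra K L] (α : L)
    (R : Multiset L) (hR : ∀ r ∈ R, ∃ k : K, k ≠ 0 ∧ r = algebraMap K L k * α) :
    ∃ k : K, k ≠ 0 ∧ R.prod = algebraMap K L k * α ^ (Multiset.card R) := by
  induction R using Multiset.induction_on with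
  | empty => exact ⟨1, one_ne_zero, by simp⟩
  | cons a s ih =>
    obtain ⟨k₁, hk₁, h1⟩ := hR a (Multiset.mem_cons_self a s)
    obtain ⟨k₂, hk₂, h2⟩ := ih (fun r hr => hR r (Multiset.mem_cons_of_mem hr))
    refine ⟨k₁ * k₂, mul_ne_zero hk₁ hk₂, ?_⟩
    rw [Multiset.prod_cons, Multiset.card_cons, h1, h2, map_mul, pow_succ]
    ring

theorem exists_pow_natDegree_minpoly {K : Type v} {L : Type w} [Field K] [Field L] [Algebra K L]
    (n : ℕ) (hn : n ≠ 0) (ζ : K) (hζ : IsPrimitiveRoot ζ n) (f : K) (hf : f ≠ 0) (α : L)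
    (hα : α ^ n = algebraMap K L f) :
    ∃ g : K, g ≠ 0 ∧ α ^ (minpoly K α).natDegree = algebraMap K L g := by
  haveI : NeZero n := ⟨hn⟩
  have hfL : algebraMap K L f ≠ 0 := by
    rw [Ne, map_eq_zero]; exact hf
  have hα0 : α ≠ 0 := by
    rintro rfl
    rw [zero_pow hn] at hα
    exact hfL hα.symm
  have hζL : IsPrimitiveRoot (algebraMap K L ζ) n :=
    hζ.map_of_injective (algebraMap K L).injective
  have hint : IsIntegral K α := ⟨X ^ n - C f, monic_X_pow_sub_C f hn, by simp [hα]⟩
  have hdvd : minpoly K α ∣ X ^ n - C f := minpoly.dvd K α (by simp [hα])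
  have hsplit : (X ^ n - C (algebraMap K L f)).Splits :=
    X_pow_sub_C_splits_of_isPrimitiveRoot hζL hα
  have hmap : ((minpoly K α).map (algebraMap K L)) ∣ X ^ n - C (algebraMap K L f) := by
    have := Polynomial.map_dvd (algebraMap K L) hdvd
    simpa using this
  have hPsplit : ((minpoly K α).map (algebraMap K L)).Splits :=
    hsplit.of_dvd (X_pow_sub_C_ne_zero (Nat.pos_of_ne_zero hn) _) hmap
  have hmonic : ((minpoly K α).map (algebraMap K L)).Monic := (minpoly.monic hint).map _
  have hcoeff := hPsplit.coeff_zero_eq_prod_roots_of_monic hmonic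
  have hroots : ∀ r ∈ ((minpoly K α).map (algebraMap K L)).roots,
      ∃ k : K, k ≠ 0 ∧ r = algebraMap K L k * α := by
    intro r hr
    have hr0 : ((minpoly K α).map (algebraMap K L)).IsRoot r :=
      (Polynomial.mem_roots hmonic.ne_zero).mp hr
    have hr1 : r ^ n = algebraMap K L f := by
      obtain ⟨q, hq⟩ := hmap
      have h1 := congrArg (Polynomial.eval r) hq
      rw [eval_mul, hr0.eq_zero, zero_mul] at h1
      simpa [sub_eq_zero] using h1
    have hr2 : (r / α) ^ n = 1 := by
      rw [div_pow, hr1, hα, div_self hfL]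
    obtain ⟨i, _, hi⟩ := hζL.eq_pow_of_pow_eq_one hr2
    refine ⟨ζ ^ i, pow_ne_zero _ (hζ.ne_zero hn), ?_⟩
    rw [map_pow, hi, div_mul_cancel₀ _ hα0]
  obtain ⟨k, hk, hprod⟩ := prod_eq α _ hroots
  rw [← hPsplit.natDegree_eq_card_roots, natDegree_map] at hprod
  rw [coeff_map, natDegree_map, hprod] at hcoeff
  have hkL : algebraMap K L k ≠ 0 := by
    rw [Ne, map_eq_zero]; exact hk
  have hsign : ((-1 : L) ^ (minpoly K α).natDegree) ≠ 0 := pow_ne_zero _ (by simp)
  refine ⟨(minpoly K α).coeff 0 * ((-1) ^ (minpoly K α).natDegree * k)⁻¹, ?_, ?_⟩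
  · intro h0
    have h1 : algebraMap K L ((minpoly K α).coeff 0 * ((-1) ^ (minpoly K α).natDegree * k)⁻¹) =
        α ^ (minpoly K α).natDegree := by
      rw [map_mul, map_inv₀, map_mul, map_pow, map_neg, map_one, hcoeff]
      field_simp
    rw [h0, map_zero] at h1
    exact pow_ne_zero _ hα0 h1.symm
  · rw [map_mul, map_inv₀, map_mul, map_pow, map_neg, map_one, hcoeff]
    field_simp

theorem fractionalIdeal_pow_inj {A : Type u} {K : Type v} [CommRing A] [IsDedekindDomain A]
    [Field K] [Algebra A K] [IsFractionRing A K] (n : ℕ) (hn : n ≠ 0)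
    (I J : FractionalIdeal (nonZeroDivisors A) K) (hI : I ≠ 0) (hJ : J ≠ 0)
    (h : I ^ n = J ^ n) : I = J := by
  rw [← FractionalIdeal.finprod_heightOneSpectrum_factorization' K hI,
    ← FractionalIdeal.finprod_heightOneSpectrum_factorization' K hJ]
  apply finprod_congr
  intro v
  congr 1
  have h1 := congrArg (FractionalIdeal.count K v) h
  rw [FractionalIdeal.count_pow, FractionalIdeal.count_pow] at h1
  exact mul_left_cancel₀ (Nat.cast_ne_zero.mpr hn) h1

theorem main {A : Type u} {K : Type v} {L : Type w} [CommRing A] [IsDedekindDomain A]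
    [Field K] [Algebra A K] [IsFractionRing A K] [Field L] [Algebra K L]
    (n : ℕ) (hn : IsUnit (n : A)) (ζ : K) (hζ : IsPrimitiveRoot ζ n) (f : K) (hf : f ≠ 0)
    (I : (FractionalIdeal (nonZeroDivisors A) K)ˣ)
    (hI : FractionalIdeal.spanSingleton (nonZeroDivisors A) f =
      (I : FractionalIdeal (nonZeroDivisors A) K) ^ n)
    (hord : orderOf (ClassGroup.mk K I) = n)
    (α : L) (hα : α ^ n = algebraMap K L f) (hgen : IntermediateField.adjoin K {α} = ⊤) :
    IsGalois K L ∧ IsCyclic (L ≃ₐ[K] L) ∧ Module.finrank K L = n := by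
  have hn0 : n ≠ 0 := by
    rintro rfl
    rw [Nat.cast_zero] at hn
    exact not_isUnit_zero hn
  haveI : NeZero n := ⟨hn0⟩
  have hint : IsIntegral K α := ⟨X ^ n - C f, monic_X_pow_sub_C f hn0, by simp [hα]⟩
  haveI : FiniteDimensional K L := by
    have h1 : FiniteDimensional K K⟮α⟯ := adjoin.finiteDimensional hint
    rw [hgen] at h1
    exact Module.Finite.equiv (IntermediateField.topEquiv (F := K) (E := L)).toLinearEquiv
  have hfin : finrank K L = (minpoly K α).natDegree := by
    rw [← IntermediateField.adjoin.finrank hint, hgen, IntermediateField.finrank_top']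
  obtain ⟨g, hg0, hg⟩ := exists_pow_natDegree_minpoly n hn0 ζ hζ f hf α hα
  set m := (minpoly K α).natDegree with hm
  have hgn : g ^ n = f ^ m := by
    apply (algebraMap K L).injective
    rw [map_pow, map_pow, ← hg, ← hα, ← pow_mul, ← pow_mul, mul_comm]
  have hideal : FractionalIdeal.spanSingleton (nonZeroDivisors A) g =
      (I : FractionalIdeal (nonZeroDivisors A) K) ^ m := by
    apply fractionalIdeal_pow_inj n hn0
    · exact FractionalIdeal.spanSingleton_ne_zero_iff.mpr hg0
    · exact pow_ne_zero _ (Units.ne_zero I)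
    · rw [FractionalIdeal.spanSingleton_pow, hgn, ← FractionalIdeal.spanSingleton_pow, hI,
        ← pow_mul, ← pow_mul, mul_comm]
  have hcls : (ClassGroup.mk K I) ^ m = 1 := by
    rw [← map_pow, ClassGroup.mk_eq_one_iff]
    have h1 : ((I ^ m : (FractionalIdeal (nonZeroDivisors A) K)ˣ) :
        FractionalIdeal (nonZeroDivisors A) K) =
        FractionalIdeal.spanSingleton (nonZeroDivisors A) g := by
      rw [Units.val_pow_eq_pow_val, hideal]
    rw [h1, FractionalIdeal.coe_spanSingleton]
    exact ⟨⟨g, rfl⟩⟩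
  have hdvd : n ∣ m := by
    rw [← hord]; exact orderOf_dvd_of_pow_eq_one hcls
  have hmle : m ≤ n := by
    have h1 := Polynomial.natDegree_le_of_dvd
      (minpoly.dvd K α (p := X ^ n - C f) (by simp [hα]))
      (X_pow_sub_C_ne_zero (Nat.pos_of_ne_zero hn0) f)
    rwa [natDegree_X_pow_sub_C] at h1
  have hmpos : 0 < m := minpoly.natDegree_pos hint
  have hmn : m = n := le_antisymm hmle (Nat.le_of_dvd hmpos hdvd)
  have hfin' : finrank K L = n := hfin.trans hmn
  have hα' : α ^ (finrank K L) = algebraMap K L f := by rw [hfin']; exact hα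
  have hK : (primitiveRoots (finrank K L) K).Nonempty :=
    ⟨ζ, by rw [hfin']; exact (mem_primitiveRoots (Nat.pos_of_ne_zero hn0)).mpr hζ⟩
  have hirr := irreducible_X_pow_sub_C_of_root_adjoin_eq_top hα' hgen
  haveI := isSplittingField_X_pow_sub_C_of_root_adjoin_eq_top hK hα' hgen
  haveI : NeZero (finrank K L) := ⟨by rw [hfin']; exact hn0⟩
  exact ⟨isGalois_of_isSplittingField_X_pow_sub_C hK hirr L,
    isCyclic_of_isSplittingField_X_pow_sub_C hK hirr L, hfin'⟩

end Groth.Agent.Lib.KummerH3
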