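import Mathlib

/-!
# Kummer covers of a Dedekind domain with divisor `n·D` are finite étale (helper3)
-/

set_option autoImplicit false
universe u v w

open Polynomial nonZeroDivisors

namespace Groth.Agent.Lib.KummerEtaleH3

theorem fi_pow_mem_pow {A : Type u} {K : Type v} [CommRing A] [IsDomain A]
    [Field K] [Algebra A K] [IsFractionRing A K] {I : FractionalIdeal A⁰ K} {x : K} (hx : x ∈ I)
    (n : ℕ) : x ^ n ∈ I ^ n := by
  rw [← FractionalIdeal.mem_coe, FractionalIdeal.coe_pow]
  exact Submodule.pow_mem_pow _ (FractionalIdeal.mem_coe.mpr hx) n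

theorem fi_add_mem {A : Type u} {K : Type v} [CommRing A] [IsDomain A]
    [Field K] [Algebra A K] [IsFractionRing A K] {I : FractionalIdeal A⁰ K} {x y : K} (hx : x ∈ I)
    (hy : y ∈ I) : x + y ∈ I := by
  rw [← FractionalIdeal.mem_coe]
  exact Submodule.add_mem _ (FractionalIdeal.mem_coe.mpr hx) (FractionalIdeal.mem_coe.mpr hy)

/-- Local generator: if `(f) = I^n` then at any prime `p` there is `t ∈ K` with
`t^n = a'·f`, `a' ∉ p`. -/
theorem exists_local_generator {A : Type u} {K : Type v} [CommRing A] [IsDedekindDomain A]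
    [Field K] [Algebra A K] [IsFractionRing A K] (n : ℕ) (hn : n ≠ 0) (f : K) (hf : f ≠ 0)
    (I : FractionalIdeal A⁰ K) (hI : FractionalIdeal.spanSingleton A⁰ f = I ^ n)
    (p : Ideal A) [p.IsPrime] :
    ∃ (t : K) (a' : A), t ≠ 0 ∧ a' ∉ p ∧ t ^ n = algebraMap A K a' * f := by
  have hI0 : I ≠ 0 := by
    rintro rfl
    rw [zero_pow hn] at hI
    exact FractionalIdeal.spanSingleton_ne_zero_iff.mpr hf hI
  have hinv : I * I⁻¹ = 1 := mul_inv_cancel₀ hI0
  have h1 : (1 : K) ∈ I * I⁻¹ := by
    rw [hinv]; exact FractionalIdeal.one_mem_one _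
  have hinj := IsFractionRing.injective A K
  have key : ∀ z : K, z ∈ I * I⁻¹ → z ∈ I * I⁻¹ ∧ ∀ a : A, z = algebraMap A K a → a ∉ p →
      ∃ t ∈ I, ∃ y ∈ I⁻¹, ∃ c : A, c ∉ p ∧ t * y = algebraMap A K c := by
    intro z hz
    refine FractionalIdeal.mul_induction_on hz ?_ ?_
    · intro i hi j hj
      refine ⟨FractionalIdeal.mul_mem_mul hi hj, fun a ha hap => ⟨i, hi, j, hj, a, hap, ha⟩⟩
    · rintro x y ⟨hx, hx'⟩ ⟨hy, hy'⟩
      refine ⟨fi_add_mem hx hy, fun a ha hap => ?_⟩
      have hx1 := hx
      have hy1 := hy
      rw [hinv, FractionalIdeal.mem_one_iff] at hx1 hy1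
      obtain ⟨a1, ha1⟩ := hx1
      obtain ⟨a2, ha2⟩ := hy1
      have hsum : a = a1 + a2 := by
        apply hinj
        rw [map_add, ha1, ha2, ha]
      by_cases h1p : a1 ∈ p
      · have h2p : a2 ∉ p := by
          intro h2p
          exact hap (hsum ▸ add_mem h1p h2p)
        exact hy' a2 ha2.symm h2p
      · exact hx' a1 ha1.symm h1p
  obtain ⟨t, ht, y, hy, c, hcp, hty⟩ := (key 1 h1).2 1 (map_one _).symm
    (fun h => (Ideal.IsPrime.ne_top inferInstance) ((Ideal.eq_top_iff_one p).mpr h))
  have hc0 : c ≠ 0 := by
    rintro rfl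
    exact hcp (zero_mem _)
  have ht0 : t ≠ 0 := by
    rintro rfl
    rw [zero_mul] at hty
    exact hc0 (hinj (by rw [map_zero]; exact hty.symm))
  -- powers
  have htn : t ^ n ∈ I ^ n := fi_pow_mem_pow ht n
  rw [← hI, FractionalIdeal.mem_spanSingleton] at htn
  obtain ⟨a', ha'⟩ := htn
  have hyn : y ^ n ∈ (I⁻¹) ^ n := fi_pow_mem_pow hy n
  rw [inv_pow, ← hI, FractionalIdeal.spanSingleton_inv, FractionalIdeal.mem_spanSingleton] at hyn
  obtain ⟨b', hb'⟩ := hyn
  have hprod : c ^ n = a' * b' := by
    apply hinj
    rw [map_pow, ← hty, mul_pow, ← ha', ← hb', map_mul, Algebra.smul_def, Algebra.smul_def]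
    field_simp
  refine ⟨t, a', ht0, ?_, ?_⟩
  · intro hap
    have : c ^ n ∈ p := by rw [hprod]; exact Ideal.mul_mem_right _ _ hap
    exact hcp (Ideal.IsPrime.mem_of_pow_mem inferInstance n this)
  · rw [← ha', Algebra.smul_def]

end Groth.Agent.Lib.KummerEtaleH3

namespace Groth.Agent.Lib.KummerEtaleH3

open IntermediateField

attribute [local instance] FractionRing.liftAlgebra FractionRing.isScalarTower_liftAlgebra

theorem main {A : Type u} {K : Type v} {L : Type w} [CommRing A] [IsDedekindDomain A]
    [Field K] [Algebra A K] [IsFractionRing A K]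
    [Field L] [Algebra K L] [Algebra A L] [IsScalarTower A K L]
    (n : ℕ) (hn : IsUnit (n : A)) (f : K) (hf : f ≠ 0)
    (I : FractionalIdeal A⁰ K) (hI : FractionalIdeal.spanSingleton A⁰ f = I ^ n)
    (α : L) (hα : α ^ n = algebraMap K L f) (hgen : IntermediateField.adjoin K {α} = ⊤) :
    Algebra.Etale A (integralClosure A L) ∧ Module.Finite A (integralClosure A L) := by
  classical
  have hn0 : n ≠ 0 := by
    rintro rfl
    rw [Nat.cast_zero] at hn
    exact not_isUnit_zero hn
  have hnK : (n : K) ≠ 0 := by
    have := hn.map (algebraMap A K)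
    rw [map_natCast] at this
    exact this.ne_zero
  have hfL : algebraMap K L f ≠ 0 := by
    rw [Ne, map_eq_zero]; exact hf
  have hα0 : α ≠ 0 := by
    rintro rfl
    rw [zero_pow hn0] at hα
    exact hfL hα.symm
  have hint : IsIntegral K α := ⟨X ^ n - C f, monic_X_pow_sub_C f hn0, by simp [hα]⟩
  haveI : FiniteDimensional K L := by
    have h1 : FiniteDimensional K K⟮α⟯ := adjoin.finiteDimensional hint
    rw [hgen] at h1
    exact Module.Finite.equiv (IntermediateField.topEquiv (F := K) (E := L)).toLinearEquiv
  have hsepα : IsSeparable K α :=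
    (separable_X_pow_sub_C f hnK hf).of_dvd (minpoly.dvd K α (by simp [hα]))
  haveI : Algebra.IsSeparable K L := by
    haveI : Algebra.IsSeparable K K⟮α⟯ :=
      (IntermediateField.isSeparable_adjoin_simple_iff_isSeparable K L).mpr hsepα
    exact ⟨fun x => IntermediateField.isSeparable_of_mem_isSeparable K L (L := K⟮α⟯)
      (by rw [hgen]; trivial)⟩
  haveI : IsFractionRing (integralClosure A L) L :=
    integralClosure.isFractionRing_of_finite_extension K L
  haveI : IsDedekindDomain (integralClosure A L) := integralClosure.isDedekindDomain A K L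
  haveI hfinB : Module.Finite A (integralClosure A L) :=
    IsIntegralClosure.finite A K L (integralClosure A L)
  have hinjAL : Function.Injective (algebraMap A L) := by
    rw [IsScalarTower.algebraMap_eq A K L]
    exact (algebraMap K L).injective.comp (IsFractionRing.injective A K)
  haveI : Module.IsTorsionFree A L := Module.isTorsionFree_iff_algebraMap_injective.mpr hinjAL
  haveI : Module.IsTorsionFree A (integralClosure A L) := inferInstance
  haveI : Module.Flat A (integralClosure A L) := inferInstance
  haveI : Algebra.FinitePresentation A (integralClosure A L) :=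
    Algebra.FinitePresentation.of_finiteType.mp inferInstance
  haveI : Algebra.IsSeparable (FractionRing A) (FractionRing (integralClosure A L)) := by
    refine Algebra.IsSeparable.of_equiv_equiv (FractionRing.algEquiv A K).symm.toRingEquiv
          (FractionRing.algEquiv (integralClosure A L) L).symm.toRingEquiv ?_
    ext _
    exact IsFractionRing.algEquiv_commutes (FractionRing.algEquiv A K).symm
      (FractionRing.algEquiv (integralClosure A L) L).symm _
  haveI : Algebra.FormallyUnramified A (integralClosure A L) := by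
    rw [Algebra.formallyUnramified_iff_forall]
    intro q
    rw [← not_dvd_differentIdeal_iff (A := A), Ideal.dvd_iff_le]
    intro hle
    -- local generator at `p = q ∩ A`
    obtain ⟨t, a', ht0, ha'p, hta⟩ := exists_local_generator n hn0 f hf I hI (q.asIdeal.under A)
    have ha'0 : a' ≠ 0 := by
      rintro rfl
      exact ha'p (zero_mem _)
    have ha'K : algebraMap A K a' ≠ 0 := by
      rw [Ne, map_eq_zero_iff _ (IsFractionRing.injective A K)]; exact ha'0
    set c : K := algebraMap A K a' / t with hc
    have hc0 : c ≠ 0 := div_ne_zero ha'K ht0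
    set xL : L := algebraMap K L c * α with hxL
    have hxLn : xL ^ n = algebraMap A L (a' ^ (n - 1)) := by
      rw [hxL, mul_pow, hα, ← map_pow, ← map_mul, IsScalarTower.algebraMap_apply A K L]
      congr 1
      rw [hc, div_pow, hta, map_pow]
      have : algebraMap A K a' ^ n = algebraMap A K a' ^ (n - 1) * algebraMap A K a' := by
        rw [← pow_succ, Nat.sub_add_cancel (Nat.pos_of_ne_zero hn0)]
      rw [this]
      field_simp
    have hxint : IsIntegral A xL := by
      refine ⟨X ^ n - C (a' ^ (n - 1)), monic_X_pow_sub_C _ hn0, ?_⟩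
      rw [← aeval_def, map_sub, map_pow, aeval_X, aeval_C, hxLn, sub_self]
    set x : integralClosure A L := ⟨xL, hxint⟩ with hx
    have hxB : IsIntegral A x := Algebra.IsIntegral.isIntegral x
    -- `K(x) = L`
    have hadj : Algebra.adjoin K {algebraMap (integralClosure A L) L x} = ⊤ := by
      have h1 : K⟮xL⟯ = ⊤ := by
        rw [eq_top_iff, ← hgen, IntermediateField.adjoin_simple_le_iff]
        have h2 : α = algebraMap K L c⁻¹ * xL := by
          rw [hxL, ← mul_assoc, ← map_mul, inv_mul_cancel₀ hc0, map_one, one_mul]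
        rw [h2]
        exact mul_mem (IntermediateField.algebraMap_mem _ _)
          (IntermediateField.mem_adjoin_simple_self K xL)
      have h3 := IntermediateField.adjoin_simple_toSubalgebra_of_isAlgebraic
        (IsAlgebraic.of_finite K xL)
      rw [h1, IntermediateField.top_toSubalgebra] at h3
      exact h3.symm
    have hmem := aeval_derivative_mem_differentIdeal A K L x hadj
    have hq := hle hmem
    -- divisibility
    have hroot : aeval x (X ^ n - C (a' ^ (n - 1)) : A[X]) = 0 := by
      apply Subtype.ext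
      rw [map_sub, map_pow, aeval_X, aeval_C]
      show xL ^ n - algebraMap A L (a' ^ (n - 1)) = 0
      rw [hxLn, sub_self]
    obtain ⟨h, hh⟩ := minpoly.isIntegrallyClosed_dvd hxB hroot
    have hder : derivative (X ^ n - C (a' ^ (n - 1)) : A[X]) =
        derivative (minpoly A x) * h + minpoly A x * derivative h := by
      rw [hh, derivative_mul]
    rw [derivative_sub, derivative_X_pow, derivative_C, sub_zero] at hder
    have hder2 := congrArg (aeval x) hder
    rw [map_mul, aeval_C, map_pow, aeval_X, map_natCast, map_add, map_mul, map_mul, minpoly.aeval,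
      zero_mul, add_zero] at hder2
    have hmem2 : (n : integralClosure A L) * x ^ (n - 1) ∈ q.asIdeal := by
      rw [hder2]
      exact Ideal.mul_mem_right _ _ hq
    rcases (q.isPrime.mem_or_mem hmem2) with h1 | h1
    · have hu : IsUnit ((n : integralClosure A L)) := by
        have := hn.map (algebraMap A (integralClosure A L))
        rwa [map_natCast] at this
      exact q.isPrime.ne_top (Ideal.eq_top_of_isUnit_mem _ h1 hu)
    · have hxq : x ∈ q.asIdeal := q.isPrime.mem_of_pow_mem _ h1
      have hxn : x ^ n ∈ q.asIdeal := Ideal.pow_mem_of_mem _ hxq n (Nat.pos_of_ne_zero hn0)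
      have hxn' : x ^ n = algebraMap A (integralClosure A L) (a' ^ (n - 1)) := by
        apply Subtype.ext
        show xL ^ n = algebraMap A L (a' ^ (n - 1))
        exact hxLn
      rw [hxn'] at hxn
      have : a' ^ (n - 1) ∈ q.asIdeal.under A := hxn
      have hp : (q.asIdeal.under A).IsPrime := inferInstance
      by_cases hn1 : n - 1 = 0
      · rw [hn1, pow_zero] at this
        exact hp.ne_top ((Ideal.eq_top_iff_one _).mpr this)
      · exact ha'p (hp.mem_of_pow_mem _ this)
  exact ⟨Algebra.Etale.of_formallyUnramified_of_flat, hfinB⟩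

end Groth.Agent.Lib.KummerEtaleH3
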