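import Mathlib
import Groth.Prelude

/-!
# Kummer algebras over a formally smooth coordinate chart are formally smooth (helper4)

Ring-level core of S3710: if `θ : R₀[Y_j] → A` is formally smooth and `a i = θ (Y_{e i})` for an
injective `e`, then `R₀ → A[T_i]/(T_i^{n_i} - a_i)` is formally smooth.
-/

set_option autoImplicit false
universe u

namespace Groth.Agent.Lib.KummerFSH4

open MvPolynomial

variable {R₀ A : Type u} [CommRing R₀] [CommRing A] {ν : Type u} {ι : Type}

set_option maxHeartbeats 1600000 in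
/-- The ring-level main lemma. -/
theorem formallySmooth_kummer
    (θ : MvPolynomial ν R₀ →+* A) (hθ : θ.FormallySmooth)
    (e : ι → ν) (he : Function.Injective e) (n : ι → ℕ) (a : ι → A)
    (ha : ∀ i, a i = θ (X (e i))) :
    ((algebraMap A (SGA1t.kummer A a n)).comp (θ.comp MvPolynomial.C)).FormallySmooth := by
  classical
  letI algC : Algebra R₀ (SGA1t.kummer A a n) :=
    ((algebraMap A (SGA1t.kummer A a n)).comp (θ.comp MvPolynomial.C)).toAlgebra
  show Algebra.FormallySmooth R₀ (SGA1t.kummer A a n)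
  refine Algebra.FormallySmooth.of_comp_surjective ?_
  intro B _ _ I hI g
  have halgC : ∀ r : R₀, algebraMap R₀ (SGA1t.kummer A a n) r =
      algebraMap A (SGA1t.kummer A a n) (θ (MvPolynomial.C r)) := fun r => rfl
  let J : Ideal (MvPolynomial ι A) :=
    Ideal.span (Set.range fun i => (MvPolynomial.X i : MvPolynomial ι A) ^ n i - MvPolynomial.C (a i))
  let Tq : ι → SGA1t.kummer A a n := fun i => Ideal.Quotient.mk J (X i)
  have hTq : ∀ i, Tq i ^ n i = algebraMap A (SGA1t.kummer A a n) (a i) := by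
    intro i
    have h1 : (MvPolynomial.X i : MvPolynomial ι A) ^ n i - MvPolynomial.C (a i) ∈ J :=
      Ideal.subset_span ⟨i, rfl⟩
    have h2 := (Ideal.Quotient.eq_zero_iff_mem (I := J)).mpr h1
    rw [map_sub, map_pow, sub_eq_zero] at h2
    exact h2
  have hsurj := Ideal.Quotient.mk_surjective (I := I)
  choose t ht using fun i => hsurj (g (Tq i))
  choose y hy using fun j : ν => hsurj (g (algebraMap A (SGA1t.kummer A a n) (θ (X j))))
  let w : ν → B := fun j => if h : ∃ i, e i = j then t h.choose ^ n h.choose else y j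
  have hw : ∀ i, w (e i) = t i ^ n i := by
    intro i
    have h : ∃ i', e i' = e i := ⟨i, rfl⟩
    have h2 : h.choose = i := he h.choose_spec
    simp only [w, dif_pos h]
    rw [h2]
  have hw' : ∀ j, Ideal.Quotient.mk I (w j) =
      g (algebraMap A (SGA1t.kummer A a n) (θ (X j))) := by
    intro j
    by_cases h : ∃ i, e i = j
    · obtain ⟨i, rfl⟩ := h
      rw [hw, map_pow, ht, ← map_pow, hTq, ha]
    · simp only [w, dif_neg h]
      exact hy j
  let ψP : MvPolynomial ν R₀ →ₐ[R₀] B := MvPolynomial.aeval w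
  have hψP : ∀ p : MvPolynomial ν R₀, Ideal.Quotient.mk I (ψP p) =
      g (algebraMap A (SGA1t.kummer A a n) (θ p)) := by
    intro p
    have : (Ideal.Quotient.mk I).comp ψP.toRingHom =
        (g.toRingHom.comp (algebraMap A (SGA1t.kummer A a n))).comp θ := by
      refine MvPolynomial.ringHom_ext ?_ ?_
      · intro r
        simp only [RingHom.comp_apply, AlgHom.toRingHom_eq_coe, RingHom.coe_coe]
        rw [show ψP (MvPolynomial.C r) = algebraMap R₀ B r from by
          simp only [ψP]; rw [MvPolynomial.aeval_C]]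
        rw [← halgC, AlgHom.commutes]
        rfl
      · intro j
        simp only [RingHom.comp_apply, AlgHom.toRingHom_eq_coe, RingHom.coe_coe]
        rw [show ψP (X j) = w j from by simp only [ψP]; rw [MvPolynomial.aeval_X]]
        exact hw' j
    exact congrArg (fun φ : MvPolynomial ν R₀ →+* B ⧸ I => φ p) this
  letI algPB : Algebra (MvPolynomial ν R₀) B := ψP.toRingHom.toAlgebra
  letI algPA : Algebra (MvPolynomial ν R₀) A := θ.toAlgebra
  haveI : Algebra.FormallySmooth (MvPolynomial ν R₀) A := hθ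
  let gA : A →ₐ[MvPolynomial ν R₀] B ⧸ I :=
    { toRingHom := g.toRingHom.comp (algebraMap A (SGA1t.kummer A a n))
      commutes' := by
        intro p
        have h1 : algebraMap (MvPolynomial ν R₀) (B ⧸ I) p = Ideal.Quotient.mk I (ψP p) := rfl
        rw [h1, hψP]
        rfl }
  let ψA : A →ₐ[MvPolynomial ν R₀] B := Algebra.FormallySmooth.lift I ⟨2, hI⟩ gA
  have hψA : ∀ x : A, Ideal.Quotient.mk I (ψA x) = g (algebraMap A (SGA1t.kummer A a n) x) :=
    fun x => Algebra.FormallySmooth.mk_lift I ⟨2, hI⟩ gA x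
  have hψAθ : ∀ p : MvPolynomial ν R₀, ψA (θ p) = ψP p := by
    intro p
    have := ψA.commutes p
    exact this
  have hψAa : ∀ i, ψA (a i) = t i ^ n i := by
    intro i
    rw [ha, hψAθ]
    simp only [ψP]
    rw [MvPolynomial.aeval_X, hw]
  let F0 : MvPolynomial ι A →+* B := MvPolynomial.eval₂Hom ψA.toRingHom t
  have hF0 : ∀ p ∈ J, F0 p = 0 := by
    intro p hp
    have hle : J ≤ RingHom.ker F0 := by
      rw [Ideal.span_le]
      rintro _ ⟨i, rfl⟩
      rw [SetLike.mem_coe, RingHom.mem_ker]
      simp only [F0, map_sub, map_pow, MvPolynomial.coe_eval₂Hom, MvPolynomial.eval₂_X,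
        MvPolynomial.eval₂_C]
      rw [AlgHom.toRingHom_eq_coe, RingHom.coe_coe, hψAa, sub_self]
    exact hle hp
  let F1 : SGA1t.kummer A a n →+* B := Ideal.Quotient.lift J F0 hF0
  have hF1mk : ∀ p, F1 (Ideal.Quotient.mk J p) = F0 p := fun p => Ideal.Quotient.lift_mk J F0 hF0
  let F : SGA1t.kummer A a n →ₐ[R₀] B :=
    { toRingHom := F1
      commutes' := by
        intro r
        rw [halgC]
        have h1 : algebraMap A (SGA1t.kummer A a n) (θ (MvPolynomial.C r)) =
            Ideal.Quotient.mk J (MvPolynomial.C (θ (MvPolynomial.C r))) := rfl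
        rw [h1]
        show F1 _ = _
        rw [hF1mk]
        simp only [F0, MvPolynomial.coe_eval₂Hom, MvPolynomial.eval₂_C]
        rw [AlgHom.toRingHom_eq_coe, RingHom.coe_coe, hψAθ]
        simp only [ψP]
        rw [MvPolynomial.aeval_C] }
  refine ⟨F, ?_⟩
  apply AlgHom.coe_ringHom_injective
  apply Ideal.Quotient.ringHom_ext
  refine MvPolynomial.ringHom_ext ?_ ?_
  · intro x
    simp only [RingHom.comp_apply, AlgHom.coe_comp, RingHom.coe_coe, Function.comp_apply,
      Ideal.Quotient.mkₐ_eq_mk]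
    show Ideal.Quotient.mk I (F1 (Ideal.Quotient.mk J (MvPolynomial.C x))) = _
    rw [hF1mk]
    simp only [F0, MvPolynomial.coe_eval₂Hom, MvPolynomial.eval₂_C]
    rw [AlgHom.toRingHom_eq_coe, RingHom.coe_coe, hψA]
    rfl
  · intro i
    simp only [RingHom.comp_apply, AlgHom.coe_comp, RingHom.coe_coe, Function.comp_apply,
      Ideal.Quotient.mkₐ_eq_mk]
    show Ideal.Quotient.mk I (F1 (Ideal.Quotient.mk J (X i))) = _
    rw [hF1mk]
    simp only [F0, MvPolynomial.coe_eval₂Hom, MvPolynomial.eval₂_X]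
    exact ht i

end Groth.Agent.Lib.KummerFSH4
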