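import Mathlib
import Groth.Prelude
import Groth.Agent.Lib.KummerFS1_helper4

/-!
# Étale coordinates give a formally smooth chart map (helper4)
-/

set_option autoImplicit false
universe u

open CategoryTheory CategoryTheory.Limits AlgebraicGeometry

namespace Groth.Agent.Lib.KummerFSH4

open MvPolynomial

/-- For an affine scheme `T`, the canonical ring map `Γ(T)[Y] → Γ(𝔸(n; T))` is bijective. -/
theorem bijective_evalCoord (n : Type u) (T : Scheme.{u}) [IsAffine T] :
    Function.Bijective (eval₂Hom ((𝔸(n; T) ↘ T).appTop).hom (AffineSpace.coord T) :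
      MvPolynomial n Γ(T, ⊤) →+* Γ(𝔸(n; T), ⊤)) := by
  have h := AffineSpace.isoOfIsAffine_hom_appTop (n := n) (S := T)
  have h2 : CommRingCat.ofHom (eval₂Hom ((𝔸(n; T) ↘ T).appTop).hom (AffineSpace.coord T)) =
      (Scheme.ΓSpecIso _).inv ≫ (AffineSpace.isoOfIsAffine n T).hom.appTop := by
    rw [h, Iso.inv_hom_id_assoc]
  have h3 : IsIso (CommRingCat.ofHom
      (eval₂Hom ((𝔸(n; T) ↘ T).appTop).hom (AffineSpace.coord T))) := by
    rw [h2]
    haveI : IsIso ((AffineSpace.isoOfIsAffine n T).hom.app ⊤) := inferInstance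
    exact (inferInstance : IsIso ((Scheme.ΓSpecIso _).inv ≫ (AffineSpace.isoOfIsAffine n T).hom.app ⊤))
  exact ConcreteCategory.bijective_of_isIso
    (CommRingCat.ofHom (eval₂Hom ((𝔸(n; T) ↘ T).appTop).hom (AffineSpace.coord T)))

set_option maxHeartbeats 1600000 in
/-- Scheme-level chart: an étale coordinate map gives a formally smooth ring map on charts. -/
theorem exists_chart_scheme {n : Type u} {U₁ U₀ : Scheme.{u}} [IsAffine U₁] [IsAffine U₀]
    (p : U₁ ⟶ U₀) (v₁ : n → Γ(U₁, ⊤)) [Etale (AffineSpace.homOfVector p v₁)] :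
    ∃ θ : MvPolynomial n Γ(U₀, ⊤) →+* Γ(U₁, ⊤), θ.FormallySmooth ∧
      (∀ r, θ (C r) = p.appTop.hom r) ∧ ∀ j, θ (X j) = v₁ j := by
  let g₁ := AffineSpace.homOfVector p v₁
  have hg : g₁.appTop.hom.Etale :=
    (HasRingHomProperty.iff_of_isAffine (P := @Etale)).mp inferInstance
  let ρ : MvPolynomial n Γ(U₀, ⊤) →+* Γ(𝔸(n; U₀), ⊤) :=
    eval₂Hom ((𝔸(n; U₀) ↘ U₀).appTop).hom (AffineSpace.coord U₀)
  have hρ : Function.Bijective ρ := bijective_evalCoord n U₀
  refine ⟨g₁.appTop.hom.comp ρ, ?_, ?_, ?_⟩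
  · refine RingHom.FormallySmooth.comp (RingHom.FormallySmooth.of_bijective hρ) ?_
    letI := g₁.appTop.hom.toAlgebra
    haveI : Algebra.Etale Γ(𝔸(n; U₀), ⊤) Γ(U₁, ⊤) := hg
    show Algebra.FormallySmooth Γ(𝔸(n; U₀), ⊤) Γ(U₁, ⊤)
    infer_instance
  · intro r
    simp only [RingHom.comp_apply, ρ, coe_eval₂Hom, eval₂_C]
    rw [← CommRingCat.comp_apply, ← Scheme.Hom.comp_appTop]
    simp only [g₁, AffineSpace.homOfVector_over]
  · intro j
    simp only [RingHom.comp_apply, ρ, coe_eval₂Hom, eval₂_X]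
    exact AffineSpace.homOfVector_appTop_coord p v₁ j

set_option maxHeartbeats 1600000 in
/-- Chart form on opens of `X` and `S`. -/
theorem exists_chart {X S : Scheme.{u}} (f : X ⟶ S) (W : X.Opens) {n : Type u}
    (v : n → Γ(W, ⊤)) [Etale (AffineSpace.homOfVector (W.ι ≫ f) v)]
    (U₀ : S.Opens) (hU₀ : IsAffineOpen U₀) (U₁ : X.Opens) (hU₁ : IsAffineOpen U₁)
    (hle : U₁ ≤ W) (hUV : U₁ ≤ f ⁻¹ᵁ U₀) :
    ∃ θ : MvPolynomial n Γ(S, U₀) →+* Γ(X, U₁), θ.FormallySmooth ∧
      (∀ r, θ (C r) = (f.appLE U₀ U₁ hUV).hom r) ∧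
      ∀ j, θ (MvPolynomial.X j) =
        (X.presheaf.map (homOfLE hle).op).hom (W.topIso.hom.hom (v j)) := by
  haveI : IsAffine U₁.toScheme := hU₁
  haveI : IsAffine U₀.toScheme := hU₀
  let p : U₁.toScheme ⟶ U₀.toScheme := f.resLE U₀ U₁ hUV
  let v₁ : n → Γ(U₁.toScheme, ⊤) := fun j => (X.homOfLE hle).appTop.hom (v j)
  have hcomp : AffineSpace.homOfVector p v₁ ≫ AffineSpace.map n U₀.ι =
      X.homOfLE hle ≫ AffineSpace.homOfVector (W.ι ≫ f) v := by
    rw [AffineSpace.comp_homOfVector, AffineSpace.map, AffineSpace.comp_homOfVector]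
    congr 1
    · rw [AffineSpace.homOfVector_over_assoc, Scheme.homOfLE_ι_assoc]
      exact Scheme.Hom.resLE_comp_ι f hUV
    · funext j
      simp only [Function.comp_apply]
      exact AffineSpace.homOfVector_appTop_coord p v₁ j
  haveI hoi : IsOpenImmersion (AffineSpace.map n U₀.ι) :=
    MorphismProperty.of_isPullback (P := @IsOpenImmersion)
      (AffineSpace.isPullback_map (n := n) U₀.ι).flip inferInstance
  haveI : Etale (AffineSpace.homOfVector p v₁ ≫ AffineSpace.map n U₀.ι) := by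
    rw [hcomp]; infer_instance
  haveI : Etale (AffineSpace.homOfVector p v₁) :=
    Etale.of_comp (AffineSpace.homOfVector p v₁) (AffineSpace.map n U₀.ι)
  obtain ⟨θ', hθ', hθ'C, hθ'X⟩ := exists_chart_scheme p v₁
  have hbij : Function.Bijective (MvPolynomial.map (σ := n) U₀.topIso.inv.hom) := by
    constructor
    · exact MvPolynomial.map_injective _
        (ConcreteCategory.bijective_of_isIso U₀.topIso.inv).1
    · exact MvPolynomial.map_surjective _
        (ConcreteCategory.bijective_of_isIso U₀.topIso.inv).2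
  refine ⟨(U₁.topIso.hom.hom).comp (θ'.comp (MvPolynomial.map U₀.topIso.inv.hom)), ?_, ?_, ?_⟩
  · exact RingHom.FormallySmooth.comp
      (RingHom.FormallySmooth.comp (RingHom.FormallySmooth.of_bijective hbij) hθ')
      (RingHom.FormallySmooth.of_bijective (ConcreteCategory.bijective_of_isIso U₁.topIso.hom))
  · intro r
    simp only [RingHom.comp_apply, MvPolynomial.map_C]
    rw [hθ'C]
    have h1 : p.appTop = U₀.topIso.hom ≫ f.appLE U₀ U₁ hUV ≫ U₁.topIso.inv :=
      Scheme.Hom.resLE_app_top f hUV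
    rw [h1]
    have h4 : U₀.topIso.inv ≫ (U₀.topIso.hom ≫ f.appLE U₀ U₁ hUV ≫ U₁.topIso.inv) ≫
        U₁.topIso.hom = f.appLE U₀ U₁ hUV := by
      simp only [Category.assoc, Iso.inv_hom_id, Category.comp_id, Iso.inv_hom_id_assoc]
    have h5 := congrArg (fun g => g.hom r) h4
    simpa only [CommRingCat.hom_comp, RingHom.comp_apply] using h5
  · intro j
    simp only [RingHom.comp_apply, MvPolynomial.map_X]
    rw [hθ'X]
    show U₁.topIso.hom.hom ((X.homOfLE hle).appTop.hom (v j)) = _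
    rw [Scheme.homOfLE_appTop]
    simp only [Scheme.Opens.topIso_hom]
    change (X.presheaf.map _ ≫ X.presheaf.map _).hom (v j) =
      (X.presheaf.map _ ≫ X.presheaf.map _).hom (v j)
    rw [← Functor.map_comp, ← Functor.map_comp]
    rfl

end Groth.Agent.Lib.KummerFSH4
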