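import Mathlib
import Groth.Prelude
import Groth.Agent.Lib.KummerFS2_helper4

/-!
# The Kummer scheme of a relative SNC divisor is smooth over the base at points over `x` (helper4)
-/

set_option autoImplicit false
universe u

open CategoryTheory CategoryTheory.Limits AlgebraicGeometry

namespace Groth.Agent.Lib.KummerFSH4

/-- Global formal smoothness gives formal smoothness of all stalk maps (source affine `Spec C`,
image inside an affine open). -/
theorem formallySmooth_stalkMap_of_appLE {S : Scheme.{u}} {C : CommRingCat.{u}}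
    (h : Spec C ⟶ S) (U₀ : S.Opens) (hU₀ : IsAffineOpen U₀) (hh : (⊤ : (Spec C).Opens) ≤ h ⁻¹ᵁ U₀)
    (hfs : (h.appLE U₀ ⊤ hh).hom.FormallySmooth) (x' : Spec C) :
    (h.stalkMap x').hom.FormallySmooth := by
  rw [formallySmooth_stalkMap_iff U₀ hU₀ ⊤ (isAffineOpen_top (Spec C)) hh (TopologicalSpace.Opens.mem_top x')]
  letI := (h.appLE U₀ ⊤ hh).hom.toAlgebra
  haveI : Algebra.FormallySmooth Γ(S, U₀) Γ(Spec C, ⊤) := hfs
  show Algebra.FormallySmooth Γ(S, U₀) (Localization.AtPrime _)
  haveI : Algebra.FormallySmooth Γ(Spec C, ⊤)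
      (Localization.AtPrime ((isAffineOpen_top (Spec C)).primeIdealOf ⟨x', TopologicalSpace.Opens.mem_top x'⟩).asIdeal) :=
    Algebra.FormallySmooth.of_isLocalization
      ((isAffineOpen_top (Spec C)).primeIdealOf ⟨x', TopologicalSpace.Opens.mem_top x'⟩).asIdeal.primeCompl
  exact Algebra.FormallySmooth.comp Γ(S, U₀) Γ(Spec C, ⊤) _

end Groth.Agent.Lib.KummerFSH4
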