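import Mathlib
import Groth.Prelude
import Groth.Agent.Lib.KummerFS3_helper4

/-!
# The Kummer scheme of a relative SNC divisor is smooth over the base at points over `x` (helper4)
-/

set_option autoImplicit false
universe u

open CategoryTheory CategoryTheory.Limits AlgebraicGeometry

namespace Groth.Agent.Lib.KummerFSH4

/-- Points in the image of `Spec 𝒪_{X,x} → X` lie in every open containing `x`. -/
theorem fromSpecStalk_mem {X : Scheme.{u}} (x : X) (U : X.Opens) (hxU : x ∈ U)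
    (y : Spec (X.presheaf.stalk x)) : (X.fromSpecStalk x) y ∈ U := by
  have h1 : (X.fromSpecStalk x) y ∈ Set.range (X.fromSpecStalk x) := ⟨_, rfl⟩
  rw [Scheme.range_fromSpecStalk] at h1
  exact h1.mem_open U.isOpen hxU

/-- Sections of `Spec 𝒪_{X,x} → X` over an open containing `x`. -/
theorem fromSpecStalk_appLE_top {X : Scheme.{u}} (x : X) (U : X.Opens) (hxU : x ∈ U)
    (e : (⊤ : (Spec (X.presheaf.stalk x)).Opens) ≤ (X.fromSpecStalk x) ⁻¹ᵁ U) :
    (X.fromSpecStalk x).appLE U ⊤ e =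
      X.presheaf.germ U x hxU ≫ (Scheme.ΓSpecIso (X.presheaf.stalk x)).inv := by
  rw [Scheme.Hom.appLE, Scheme.fromSpecStalk_app hxU, Category.assoc, Category.assoc,
    ← Functor.map_comp]
  have : (homOfLE le_top).op ≫ (homOfLE e).op = 𝟙 (Opposite.op (⊤ : (Spec (X.presheaf.stalk x)).Opens)) :=
    Subsingleton.elim _ _
  rw [this, CategoryTheory.Functor.map_id, Category.comp_id]

/-- Global sections of `Spec.map`. -/
theorem SpecMap_appLE_top {R C : CommRingCat.{u}} (ψ : R ⟶ C)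
    (e : (⊤ : (Spec C).Opens) ≤ (Spec.map ψ) ⁻¹ᵁ ⊤) :
    (Spec.map ψ).appLE ⊤ ⊤ e =
      (Scheme.ΓSpecIso R).hom ≫ ψ ≫ (Scheme.ΓSpecIso C).inv := by
  have h1 : (Spec.map ψ).appLE ⊤ ⊤ e = (Spec.map ψ).appTop :=
    Scheme.Hom.appLE_eq_app (Spec.map ψ)
  rw [h1, ← Scheme.ΓSpecIso_naturality_assoc, Iso.hom_inv_id, Category.comp_id]

set_option maxHeartbeats 1600000 in
/-- **Main theorem**: the Kummer scheme is smooth over `S` at every point. -/
theorem main {X S : Scheme.{u}} (f : X ⟶ S) {r : ℕ} (φ : Fin r → Γ(X, ⊤))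
    (hD : SGA1t.IsRelSNC f φ) (x : X) (hx : Nonempty (SGA1t.vanishingAt φ x))
    (n : SGA1t.vanishingAt φ x → ℕ)
    (x' : Spec (CommRingCat.of (SGA1t.kummer (X.presheaf.stalk x)
      (fun i : SGA1t.vanishingAt φ x => (X.presheaf.germ ⊤ x trivial).hom (φ i.1)) n))) :
    ((Spec.map (CommRingCat.ofHom (algebraMap (X.presheaf.stalk x)
        (SGA1t.kummer (X.presheaf.stalk x)
          (fun i : SGA1t.vanishingAt φ x => (X.presheaf.germ ⊤ x trivial).hom (φ i.1)) n))) ≫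
        X.fromSpecStalk x ≫ f).stalkMap x').hom.FormallySmooth := by
  obtain ⟨W, hxW, d, v, e, he, hEt, hv⟩ := hD x hx
  obtain ⟨_, ⟨(U₀ : S.Opens), hU₀, rfl⟩, hxU₀, -⟩ :=
    S.isBasis_affineOpens.exists_subset_of_mem_open (Set.mem_univ (f x)) isOpen_univ
  obtain ⟨_, ⟨(U₁ : X.Opens), hU₁, rfl⟩, hxU₁, hU₁le⟩ :=
    X.isBasis_affineOpens.exists_subset_of_mem_open
      (show x ∈ ((W ⊓ f ⁻¹ᵁ U₀ : X.Opens) : Set X) from ⟨hxW, hxU₀⟩) (W ⊓ f ⁻¹ᵁ U₀).isOpen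
  have hle : U₁ ≤ W := fun y hy => (hU₁le hy).1
  have hUV : U₁ ≤ f ⁻¹ᵁ U₀ := fun y hy => (hU₁le hy).2
  haveI := hEt
  obtain ⟨θ, hθ, hθC, hθX⟩ := exists_chart f W v U₀ hU₀ U₁ hU₁ hle hUV
  let gm : Γ(X, U₁) →+* X.presheaf.stalk x := (X.presheaf.germ U₁ x hxU₁).hom
  have hgm : gm.FormallySmooth := by
    letI := X.presheaf.algebra_section_stalk (U := U₁) ⟨x, hxU₁⟩
    haveI := hU₁.isLocalization_stalk ⟨x, hxU₁⟩
    exact Algebra.FormallySmooth.of_isLocalization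
      (hU₁.primeIdealOf ⟨x, hxU₁⟩).asIdeal.primeCompl
  let Θ : MvPolynomial (ULift.{u} (Fin d)) Γ(S, U₀) →+* X.presheaf.stalk x := gm.comp θ
  have hΘ : Θ.FormallySmooth := RingHom.FormallySmooth.comp hθ hgm
  have ha : ∀ i : SGA1t.vanishingAt φ x, (X.presheaf.germ ⊤ x trivial).hom (φ i.1) =
      Θ (MvPolynomial.X (ULift.up (e i))) := by
    intro i
    have h1 : W.topIso.hom.hom (v (ULift.up (e i))) =
        (X.presheaf.map (homOfLE (le_top : W ≤ ⊤)).op).hom (φ i.1) := by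
      rw [hv]
      exact congrArg (fun g => g.hom ((X.presheaf.map (homOfLE (le_top : W ≤ ⊤)).op).hom (φ i.1)))
        W.topIso.inv_hom_id
    have h2 : (X.presheaf.germ U₁ x hxU₁).hom ((X.presheaf.map (homOfLE hle).op).hom
        ((X.presheaf.map (homOfLE (le_top : W ≤ ⊤)).op).hom (φ i.1))) =
        (X.presheaf.germ ⊤ x trivial).hom (φ i.1) := by
      have h3 := TopCat.Presheaf.germ_res_apply X.presheaf (homOfLE hle) x hxU₁
        ((X.presheaf.map (homOfLE (le_top : W ≤ ⊤)).op).hom (φ i.1))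
      have h4 := TopCat.Presheaf.germ_res_apply X.presheaf (homOfLE (le_top : W ≤ ⊤)) x hxW (φ i.1)
      exact h3.trans h4
    show _ = gm (θ (MvPolynomial.X (ULift.up (e i))))
    rw [hθX, h1]
    exact h2.symm
  have hinj : Function.Injective (fun i : SGA1t.vanishingAt φ x => (ULift.up (e i) : ULift.{u} (Fin d))) :=
    fun i j hij => he (ULift.up_injective hij)
  have key := formallySmooth_kummer Θ hΘ (fun i => ULift.up (e i)) hinj n
    (fun i : SGA1t.vanishingAt φ x => (X.presheaf.germ ⊤ x trivial).hom (φ i.1)) ha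
  set Cc := SGA1t.kummer (X.presheaf.stalk x)
    (fun i : SGA1t.vanishingAt φ x => (X.presheaf.germ ⊤ x trivial).hom (φ i.1)) n with hCc
  set ψ : X.presheaf.stalk x ⟶ CommRingCat.of Cc :=
    CommRingCat.ofHom (algebraMap (X.presheaf.stalk x) Cc) with hψ
  have hq : ∀ z : Spec (CommRingCat.of Cc), (Spec.map ψ ≫ X.fromSpecStalk x) z ∈ U₁ := by
    intro z
    rw [Scheme.Hom.comp_apply]
    exact fromSpecStalk_mem x U₁ hxU₁ _
  have e₂ : (⊤ : (Spec (CommRingCat.of Cc)).Opens) ≤ (Spec.map ψ ≫ X.fromSpecStalk x) ⁻¹ᵁ U₁ :=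
    fun z _ => hq z
  have e₃ : (⊤ : (Spec (X.presheaf.stalk x)).Opens) ≤ (X.fromSpecStalk x) ⁻¹ᵁ U₁ :=
    fun z _ => fromSpecStalk_mem x U₁ hxU₁ z
  have e₄ : (⊤ : (Spec (CommRingCat.of Cc)).Opens) ≤ (Spec.map ψ) ⁻¹ᵁ ⊤ := fun z _ => trivial
  have hh : (⊤ : (Spec (CommRingCat.of Cc)).Opens) ≤
      (Spec.map ψ ≫ X.fromSpecStalk x ≫ f) ⁻¹ᵁ U₀ := by
    intro z _
    have h1 := hUV (hq z)
    have h2 : (Spec.map ψ ≫ X.fromSpecStalk x ≫ f) z = f ((Spec.map ψ ≫ X.fromSpecStalk x) z) := by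
      rw [← Scheme.Hom.comp_apply, Category.assoc]
    show (Spec.map ψ ≫ X.fromSpecStalk x ≫ f) z ∈ U₀
    rw [h2]
    exact h1
  refine formallySmooth_stalkMap_of_appLE _ U₀ hU₀ hh ?_ x'
  have hcalc : (Spec.map ψ ≫ X.fromSpecStalk x ≫ f).appLE U₀ ⊤ hh =
      f.appLE U₀ U₁ hUV ≫ X.presheaf.germ U₁ x hxU₁ ≫ ψ ≫ (Scheme.ΓSpecIso (CommRingCat.of Cc)).inv := by
    have h1 := Scheme.Hom.appLE_comp_appLE (Spec.map ψ ≫ X.fromSpecStalk x) f U₀ U₁ ⊤ hUV e₂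
    have h2 := Scheme.Hom.appLE_comp_appLE (Spec.map ψ) (X.fromSpecStalk x) U₁ ⊤ ⊤ e₃ e₄
    rw [fromSpecStalk_appLE_top x U₁ hxU₁ e₃, SpecMap_appLE_top ψ e₄] at h2
    simp only [Category.assoc, Iso.inv_hom_id_assoc] at h2
    have h3 : (Spec.map ψ ≫ X.fromSpecStalk x ≫ f).appLE U₀ ⊤ hh =
        ((Spec.map ψ ≫ X.fromSpecStalk x) ≫ f).appLE U₀ ⊤
          (e₂.trans ((TopologicalSpace.Opens.map (Spec.map ψ ≫ X.fromSpecStalk x).base).map (homOfLE hUV)).le) := by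
      congr 1
    rw [h3, ← h1, ← h2]
  rw [hcalc]
  have h5 : (f.appLE U₀ U₁ hUV ≫ X.presheaf.germ U₁ x hxU₁ ≫ ψ ≫
      (Scheme.ΓSpecIso (CommRingCat.of Cc)).inv).hom =
      (Scheme.ΓSpecIso (CommRingCat.of Cc)).inv.hom.comp
        ((algebraMap (X.presheaf.stalk x) Cc).comp (Θ.comp MvPolynomial.C)) := by
    ext r
    simp only [CommRingCat.hom_comp, RingHom.comp_apply, Θ, gm, hθC]
    rfl
  rw [h5]
  exact RingHom.FormallySmooth.comp key
    (RingHom.FormallySmooth.of_bijective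
      (ConcreteCategory.bijective_of_isIso (Scheme.ΓSpecIso (CommRingCat.of Cc)).inv))

end Groth.Agent.Lib.KummerFSH4
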