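import Mathlib
import Groth.Prelude.Def_Dix
import Groth.Prelude.Def_EtBase
import Groth.Prelude.Def_EtGm
import Groth.Agent.Lib.Kummer_helper7
import Groth.Agent.Lib.EtZarAff_helper7

/-!
# The Kummer sequence and its long exact cohomology sequence (helper8)
APPEND-ONLY once landed.
-/

set_option autoImplicit false
universe u
open CategoryTheory CategoryTheory.Limits AlgebraicGeometry Opposite Abelian

namespace Groth.Agent.Lib.KummerLESH8

open Groth.Agent.Lib.Kummer_helper7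

theorem isUnit_natCast_of_invertibleOn (X : Scheme.{u}) (n : ℕ) (hX : Dix.InvertibleOn X n) :
    IsUnit ((n : ℕ) : Γ(X, ⊤)) := by
  apply RingedSpace.isUnit_of_isUnit_germ
  intro x hx
  have h1 := hX x
  have h2 : (X.presheaf.germ ⊤ x hx).hom ((n : ℕ) : Γ(X, ⊤)) = ((n : ℕ) : X.presheaf.stalk x) :=
    map_natCast _ n
  show IsUnit ((X.presheaf.germ ⊤ x hx).hom ((n : ℕ) : Γ(X, ⊤)))
  rw [h2]
  rw [← IsLocalRing.residue_ne_zero_iff_isUnit]
  have h3 : IsLocalRing.residue (X.presheaf.stalk x) ((n : ℕ) : X.presheaf.stalk x) =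
      ((n : ℕ) : X.residueField x) := map_natCast _ n
  rw [h3]
  exact h1

/-- the Kummer short complex -/
noncomputable abbrev kummerSC (X : Scheme.{u}) (n : ℕ) : ShortComplex (EtCoh.Ab X) :=
  ShortComplex.mk (EtCoh.muι X n) (EtCoh.powMap X n) (kernel.condition _)

theorem kummer_shortExact (X : Scheme.{u}) (n : ℕ) (hn : IsUnit ((n : ℕ) : Γ(X, ⊤))) :
    (kummerSC X n).ShortExact := by
  haveI : Epi (kummerSC X n).g := epi_powMap X n hn
  haveI : Mono (kummerSC X n).f := inferInstanceAs (Mono (kernel.ι (EtCoh.powMap X n)))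
  exact { exact := ShortComplex.exact_kernel (EtCoh.powMap X n) }

lemma comp_mk₀_nsmul {A : Type*} [Category A] [Abelian A] [HasExt A] {P F G : A} {i : ℕ}
    (ξ : Ext P F i) (φ : F ⟶ G) (n : ℕ) :
    ξ.comp (Ext.mk₀ (n • φ)) (add_zero i) = n • ξ.comp (Ext.mk₀ φ) (add_zero i) := by
  induction n with
  | zero => rw [zero_nsmul, zero_nsmul, Ext.mk₀_zero, Ext.comp_zero]
  | succ k ih => rw [succ_nsmul, succ_nsmul, Ext.mk₀_add, Ext.comp_add, ih]

lemma nsmul_eq_comp_powMap (X : Scheme.{u}) (n i : ℕ) (ξ : EtCoh.H X (EtCoh.Gm X) i) :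
    n • ξ = ξ.comp (Ext.mk₀ (EtCoh.powMap X n)) (add_zero i) := by
  show _ = ξ.comp (Ext.mk₀ (n • 𝟙 (EtCoh.Gm X))) (add_zero i)
  rw [comp_mk₀_nsmul, Ext.comp_mk₀_id]

theorem range_muι (X : Scheme.{u}) (n : ℕ) (hn : IsUnit ((n : ℕ) : Γ(X, ⊤))) (i : ℕ) :
    Set.range ⇑((EtCoh.HF X i).map (EtCoh.muι X n)) =
      {ξ : (EtCoh.HF X i).obj (EtCoh.Gm X) | n • ξ = 0} := by
  ext ξ
  constructor
  · rintro ⟨η, rfl⟩
    show n • (η.comp (Ext.mk₀ (EtCoh.muι X n)) (add_zero i)) = 0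
    rw [nsmul_eq_comp_powMap, Ext.comp_assoc_of_third_deg_zero, Ext.mk₀_comp_mk₀]
    have : EtCoh.muι X n ≫ EtCoh.powMap X n = 0 := kernel.condition _
    rw [this, Ext.mk₀_zero, Ext.comp_zero]
  · intro hξ
    have hξ' : n • (show EtCoh.H X (EtCoh.Gm X) i from ξ) = 0 := hξ
    rw [nsmul_eq_comp_powMap] at hξ'
    obtain ⟨η, hη⟩ := Ext.covariant_sequence_exact₂ _ (kummer_shortExact X n hn)
      (show EtCoh.H X (EtCoh.Gm X) i from ξ) hξ'
    exact ⟨η, hη⟩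

theorem invertibleOn_pow (X : Scheme.{u}) (ℓ k : ℕ) (h : Dix.InvertibleOn X ℓ) :
    Dix.InvertibleOn X (ℓ ^ k) := by
  intro x
  rw [Nat.cast_pow]
  exact pow_ne_zero _ (h x)

lemma powMap_app_apply (X : Scheme.{u}) (n : ℕ) (U : X.Etale)
    (s : (EtCoh.Gm X).obj.obj (op U)) : (EtCoh.powMap X n).hom.app (op U) s = n • s := by
  show (n • 𝟙 (EtCoh.Gm X)).hom.app (op U) s = _
  rw [nsmul_hom_app_apply]
  rfl

theorem isPrimaryTorsion_mu (X : Scheme.{u}) (ℓ k : ℕ) :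
    Dix.IsPrimaryTorsion ℓ (EtCoh.mu X (ℓ ^ k)) := by
  intro U s x
  refine ⟨U, 𝟙 U, ⟨x, rfl⟩, k, ?_⟩
  have hmono : Mono (EtCoh.muι X (ℓ ^ k)) := inferInstanceAs (Mono (kernel.ι _))
  have h1 : Mono (EtCoh.muι X (ℓ ^ k)).hom :=
    (Sheaf.Hom.mono_iff_presheaf_mono _ _ _).mp hmono
  have h2 : Mono ((EtCoh.muι X (ℓ ^ k)).hom.app (op U)) :=
    (NatTrans.mono_iff_mono_app _).mp h1 (op U)
  have hinj := (AddCommGrpCat.mono_iff_injective _).mp h2
  apply hinj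
  rw [map_nsmul, map_zero, ← powMap_app_apply]
  have h3 : EtCoh.muι X (ℓ ^ k) ≫ EtCoh.powMap X (ℓ ^ k) = 0 := kernel.condition _
  have h4 := congrArg (fun ψ : EtCoh.mu X (ℓ ^ k) ⟶ EtCoh.Gm X =>
    ψ.hom.app (op U) ((EtCoh.mu X (ℓ ^ k)).obj.map (𝟙 U).op s)) h3
  exact h4

theorem isPrimaryTorsion_coker (X : Scheme.{u}) (ℓ k : ℕ) :
    Dix.IsPrimaryTorsion ℓ (cokernel (EtCoh.powMap X (ℓ ^ k))) := by
  intro U s x
  have hloc : Sheaf.IsLocallySurjective (cokernel.π (EtCoh.powMap X (ℓ ^ k))) :=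
    (Sheaf.isLocallySurjective_iff_epi' (φ := cokernel.π (EtCoh.powMap X (ℓ ^ k)))).2 inferInstance
  have hR := Presheaf.imageSieve_mem X.smallEtaleTopology
    (cokernel.π (EtCoh.powMap X (ℓ ^ k))).hom s
  rw [Groth.Agent.Lib.EtZarAff_helper7.mem_Jet_iff] at hR
  obtain ⟨V, g, v, ⟨t, ht⟩, -, hv⟩ := hR x
  refine ⟨V, g, ⟨v, hv⟩, k, ?_⟩
  rw [← ht, ← map_nsmul, ← powMap_app_apply]
  have h3 : EtCoh.powMap X (ℓ ^ k) ≫ cokernel.π (EtCoh.powMap X (ℓ ^ k)) = 0 :=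
    cokernel.condition _
  have h4 := congrArg (fun ψ : EtCoh.Gm X ⟶ cokernel (EtCoh.powMap X (ℓ ^ k)) =>
    ψ.hom.app (op V) t) h3
  exact h4

/-- the sequence `0 → ker P → G_m → im P → 0` -/
noncomputable abbrev sesK (X : Scheme.{u}) (n : ℕ) : ShortComplex (EtCoh.Ab X) :=
  ShortComplex.mk (kernel.ι (EtCoh.powMap X n)) (Abelian.factorThruImage (EtCoh.powMap X n)) (by
    rw [← cancel_mono (Abelian.image.ι (EtCoh.powMap X n)), Category.assoc, Abelian.image.fac,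
      kernel.condition, zero_comp])

theorem sesK_shortExact (X : Scheme.{u}) (n : ℕ) : (sesK X n).ShortExact := by
  let φ : sesK X n ⟶ ShortComplex.mk (kernel.ι (EtCoh.powMap X n)) (EtCoh.powMap X n)
      (kernel.condition _) :=
    { τ₁ := 𝟙 _
      τ₂ := 𝟙 _
      τ₃ := Abelian.image.ι (EtCoh.powMap X n)
      comm₁₂ := by simp
      comm₂₃ := by
        show 𝟙 _ ≫ EtCoh.powMap X n =
          Abelian.factorThruImage (EtCoh.powMap X n) ≫ Abelian.image.ι (EtCoh.powMap X n)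
        rw [Abelian.image.fac, Category.id_comp] }
  haveI : Epi φ.τ₁ := inferInstanceAs (Epi (𝟙 _))
  haveI : IsIso φ.τ₂ := inferInstanceAs (IsIso (𝟙 _))
  haveI : Mono φ.τ₃ := inferInstanceAs (Mono (Abelian.image.ι (EtCoh.powMap X n)))
  haveI : Mono (sesK X n).f := inferInstanceAs (Mono (kernel.ι (EtCoh.powMap X n)))
  haveI : Epi (sesK X n).g := inferInstanceAs (Epi (Abelian.factorThruImage (EtCoh.powMap X n)))
  have hex : (sesK X n).Exact := (ShortComplex.exact_iff_of_epi_of_isIso_of_mono φ).2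
      (ShortComplex.exact_kernel (EtCoh.powMap X n))
  exact { exact := hex }

/-- the sequence `0 → im P → G_m → coker P → 0` -/
noncomputable abbrev sesC (X : Scheme.{u}) (n : ℕ) : ShortComplex (EtCoh.Ab X) :=
  ShortComplex.mk (Abelian.image.ι (EtCoh.powMap X n)) (cokernel.π (EtCoh.powMap X n))
    (kernel.condition _)

theorem sesC_shortExact (X : Scheme.{u}) (n : ℕ) : (sesC X n).ShortExact := by
  haveI : Mono (sesC X n).f := inferInstanceAs (Mono (Abelian.image.ι (EtCoh.powMap X n)))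
  haveI : Epi (sesC X n).g := inferInstanceAs (Epi (cokernel.π (EtCoh.powMap X n)))
  exact { exact := ShortComplex.exact_kernel (cokernel.π (EtCoh.powMap X n)) }

theorem torsion_vanish_general (X : Scheme.{u}) (ℓ n : ℕ) (hcd : Dix.CohDimLEAt X ℓ n) (i : ℕ)
    (hi : n + 1 < i) (ξ : EtCoh.H X (EtCoh.Gm X) i) (k : ℕ) (hk : ℓ ^ k • ξ = 0) : ξ = 0 := by
  obtain ⟨j, rfl⟩ : ∃ j, i = j + 1 := ⟨i - 1, by omega⟩
  rw [nsmul_eq_comp_powMap] at hk
  have hfac : EtCoh.powMap X (ℓ ^ k) = (sesK X (ℓ ^ k)).g ≫ (sesC X (ℓ ^ k)).f :=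
    (Abelian.image.fac _).symm
  rw [hfac, ← Ext.mk₀_comp_mk₀, ← Ext.comp_assoc_of_third_deg_zero] at hk
  -- first step: `ξ ∘ e = 0`
  have h1 : ξ.comp (Ext.mk₀ (sesK X (ℓ ^ k)).g) (add_zero (j + 1)) = 0 := by
    obtain ⟨x₃, hx₃⟩ := Ext.covariant_sequence_exact₁ _ (sesC_shortExact X (ℓ ^ k)) _ hk rfl
    haveI : Subsingleton (EtCoh.H X (sesC X (ℓ ^ k)).X₃ j) :=
      hcd _ (isPrimaryTorsion_coker X ℓ k) j (by omega)
    rw [← hx₃, Subsingleton.elim x₃ 0, Ext.zero_comp]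
  obtain ⟨η, hη⟩ := Ext.covariant_sequence_exact₂ _ (sesK_shortExact X (ℓ ^ k)) ξ h1
  haveI : Subsingleton (EtCoh.H X (sesK X (ℓ ^ k)).X₁ (j + 1)) :=
    hcd _ (isPrimaryTorsion_mu X ℓ k) (j + 1) (by omega)
  rw [← hη, Subsingleton.elim η 0, Ext.zero_comp]

theorem torsion_vanish_inv (X : Scheme.{u}) (ℓ n : ℕ) (hcd : Dix.CohDimLEAt X ℓ n)
    (hinv : Dix.InvertibleOn X ℓ) (i : ℕ)
    (hi : n < i) (ξ : EtCoh.H X (EtCoh.Gm X) i) (k : ℕ) (hk : ℓ ^ k • ξ = 0) : ξ = 0 := by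
  rw [nsmul_eq_comp_powMap] at hk
  obtain ⟨η, hη⟩ := Ext.covariant_sequence_exact₂ _
    (kummer_shortExact X (ℓ ^ k) (isUnit_natCast_of_invertibleOn X _ (invertibleOn_pow X ℓ k hinv)))
    ξ hk
  haveI : Subsingleton (EtCoh.H X (kummerSC X (ℓ ^ k)).X₁ i) :=
    hcd _ (isPrimaryTorsion_mu X ℓ k) i hi
  rw [← hη, Subsingleton.elim η 0, Ext.zero_comp]

end Groth.Agent.Lib.KummerLESH8
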