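import Mathlib

/-!
# Kummer torsors of `p`-power order: maximal level and reduced special fibre (helper3)
-/

namespace Groth.Agent.Lib.KummerLvlH3

open Polynomial

/-! ### Number theory -/

theorem nt1 (q s d : ℕ) :
    (q + 1) ^ (s + d + 1) ≤ (q + 1) ^ s + q * (d + 1) * (q + 1) ^ (s + d) := by
  induction d with
  | zero =>
    simp only [add_zero, zero_add, mul_one]
    rw [pow_succ]; nlinarith
  | succ d ih =>
    have h1 : (q + 1) ^ (s + (d + 1) + 1) = (q + 1) * (q + 1) ^ (s + d + 1) := by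
      rw [← pow_succ']
      rfl
    have h2 : (q + 1) ^ s ≤ (q + 1) ^ (s + (d + 1)) := Nat.pow_le_pow_right (by omega) (by omega)
    have h3 : (q + 1) ^ (s + (d + 1)) = (q + 1) * (q + 1) ^ (s + d) := by
      rw [← pow_succ']
      rfl
    rw [h1]
    have h4 := Nat.mul_le_mul_left (q + 1) ih
    rw [h3] at h2 ⊢
    nlinarith

theorem nt2 {p : ℕ} (hp : p.Prime) (n k : ℕ) (hk0 : 0 < k) (hkn : k < p ^ n) :
    ∃ s, s < n ∧ p ^ s ≤ k ∧ p ^ (n - s) ∣ (p ^ n).choose k := by
  refine ⟨multiplicity p k, ?_, ?_, ?_⟩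
  · have h1 : p ^ multiplicity p k ∣ k := pow_multiplicity_dvd p k
    have h2 : p ^ multiplicity p k ≤ k := Nat.le_of_dvd hk0 h1
    have h3 : p ^ multiplicity p k < p ^ n := lt_of_le_of_lt h2 hkn
    exact (Nat.pow_lt_pow_iff_right hp.one_lt).mp h3
  · exact Nat.le_of_dvd hk0 (pow_multiplicity_dvd p k)
  · apply pow_dvd_of_le_emultiplicity
    rw [hp.emultiplicity_choose_prime_pow hkn.le hk0.ne']

theorem nt3 {R : Type*} [CommRing R] (ϖ : R) {p : ℕ} (hp : p.Prime) (n : ℕ) (j : ℕ)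
    (hj : ϖ ^ (p ^ (n - 1) * (p - 1) * (j + 1)) ∣ (p : R))
    (k : ℕ) (hk0 : 0 < k) (hkn : k < p ^ n) :
    ϖ ^ ((j + 1) * (p ^ n - k)) ∣ (((p ^ n).choose k : ℕ) : R) := by
  obtain ⟨s, hsn, hsk, hdvd⟩ := nt2 hp n k hk0 hkn
  have h1 : ((p : R)) ^ (n - s) ∣ (((p ^ n).choose k : ℕ) : R) := by
    have := Nat.cast_dvd_cast (α := R) hdvd
    rwa [Nat.cast_pow] at this
  have h2 : (ϖ ^ (p ^ (n - 1) * (p - 1) * (j + 1))) ^ (n - s) ∣ ((p : R)) ^ (n - s) :=
    pow_dvd_pow_of_dvd hj _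
  refine dvd_trans ?_ (dvd_trans h2 h1)
  rw [← pow_mul]
  apply pow_dvd_pow
  obtain ⟨d, rfl⟩ : ∃ d, n = s + d + 1 := ⟨n - s - 1, by omega⟩
  obtain ⟨q, rfl⟩ : ∃ q, p = q + 1 := ⟨p - 1, by have := hp.pos; omega⟩
  have e1 : s + d + 1 - 1 = s + d := by omega
  have e2 : s + d + 1 - s = d + 1 := by omega
  have e3 : q + 1 - 1 = q := by omega
  rw [e1, e2, e3]
  have H := nt1 q s d
  have H2 : (q + 1) ^ (s + d + 1) - k ≤ q * (d + 1) * (q + 1) ^ (s + d) := by
    generalize (q + 1) ^ (s + d + 1) = X at *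
    generalize q * (d + 1) * (q + 1) ^ (s + d) = Y at *
    generalize (q + 1) ^ s = Z at *
    omega
  calc (j + 1) * ((q + 1) ^ (s + d + 1) - k)
      ≤ (j + 1) * (q * (d + 1) * (q + 1) ^ (s + d)) := Nat.mul_le_mul_left _ H2
    _ = (q + 1) ^ (s + d) * q * (j + 1) * (d + 1) := by ring

/-! ### Binomial expansion -/

theorem expand {C : Type*} [CommRing C] (ϖ T : C) (i N' : ℕ) (c : ℕ → C)
    (hc : ∀ k < N', (((N' + 1).choose (k + 1) : ℕ) : C) = ϖ ^ (i * (N' - k)) * c k) :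
    (1 + ϖ ^ i * T) ^ (N' + 1) =
      1 + ϖ ^ (i * (N' + 1)) * (T ^ (N' + 1) + ∑ k ∈ Finset.range N', c k * T ^ (k + 1)) := by
  rw [add_comm 1, add_pow, Finset.sum_range_succ, Finset.sum_range_succ']
  have hterm : ∀ k ∈ Finset.range N',
      (ϖ ^ i * T) ^ (k + 1) * 1 ^ (N' + 1 - (k + 1)) * (((N' + 1).choose (k + 1) : ℕ) : C) =
        ϖ ^ (i * (N' + 1)) * (c k * T ^ (k + 1)) := by
    intro k hk
    have hk' := Finset.mem_range.mp hk
    rw [hc k hk', one_pow, mul_one, mul_pow, ← pow_mul]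
    have : i * (N' + 1) = i * (k + 1) + i * (N' - k) := by
      rw [← mul_add]; congr 1; omega
    rw [this, pow_add]; ring
  rw [Finset.sum_congr rfl hterm, ← Finset.mul_sum]
  simp only [pow_zero, Nat.sub_zero, one_pow, mul_one, Nat.choose_zero_right, Nat.cast_one,
    Nat.sub_self, Nat.choose_self, mul_pow, ← pow_mul]
  ring

/-! ### Contraction of `π^M B` to `A` -/

theorem dvd_of_integral {A S : Type*} [CommRing A] [IsDomain A] [CommRing S] [IsDomain S]
    [Algebra A S] (hinj : Function.Injective (algebraMap A S)) {π : A} (hπ : Prime π) :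
    ∀ (M : ℕ) (x : A) (b : S), IsIntegral A b →
      algebraMap A S x = (algebraMap A S π) ^ M * b → π ^ M ∣ x := by
  intro M
  induction M with
  | zero => intro x b _ _; simp
  | succ M ih =>
    intro x b hb h
    obtain ⟨P, hPm, hP⟩ := hb
    have h1 : π ^ (M + 1) ∣ x ^ P.natDegree :=
      dvd_pow_natDegree_of_eval₂_eq_zero hinj hPm (π ^ (M + 1)) x b hP
        (by rw [map_pow]; exact h.symm)
    have h2 : π ∣ x ^ P.natDegree := dvd_trans (dvd_pow_self π (Nat.succ_ne_zero M)) h1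
    obtain ⟨x', rfl⟩ := hπ.dvd_of_dvd_pow h2
    have hπS0 : algebraMap A S π ≠ 0 := by
      intro h0
      exact hπ.ne_zero (hinj (by rw [h0, map_zero]))
    have h3 : algebraMap A S x' = (algebraMap A S π) ^ M * b := by
      apply mul_left_cancel₀ hπS0
      rw [← map_mul, h, pow_succ]; ring
    obtain ⟨y, rfl⟩ := ih x' b ⟨P, hPm, hP⟩ h3
    exact ⟨y, by rw [pow_succ]; ring⟩

/-! ### The main computation -/

theorem core {A : Type*} [CommRing A] [IsDomain A] {π : A} (hπ : Prime π)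
    (S : Type*) [CommRing S] [IsDomain S] [Algebra A S]
    (hinj : Function.Injective (algebraMap A S)) (hπS : IsUnit (algebraMap A S π))
    (p : ℕ) [hp : Fact p.Prime] (n : ℕ) (hpπ : π ∣ ((p : ℕ) : A))
    (j : ℕ)
    (hbin : ∀ k, 0 < k → k < p ^ n →
      π ^ ((j + 1) * (p ^ n - k)) ∣ (((p ^ n).choose k : ℕ) : A))
    (hlift : ∀ a : A, IsUnit (Ideal.Quotient.mk (Ideal.span {π}) a) → IsUnit a)
    (f g : Aˣ) (f₀ : A)
    (hfg : (f : A) * (g : A) ^ (p ^ n) = 1 + π ^ (j * p ^ n) * f₀)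
    (hmax : ∀ (g' : Aˣ) (c : A), (f : A) * (g' : A) ^ (p ^ n) ≠ 1 + π ^ ((j + 1) * p ^ n) * c)
    (Z : S) (hZ : Z ^ (p ^ n) = algebraMap A S f)
    (hred : (Ideal.span {algebraMap A (integralClosure A S) π}).IsRadical)
    (g₀ : A) : f₀ - g₀ ^ (p ^ n) ∉ Ideal.span {π} := by
  intro hmem
  obtain ⟨c₀, hc₀⟩ := Ideal.mem_span_singleton.mp hmem
  have hNpos : 0 < p ^ n := pow_pos hp.out.pos n
  obtain ⟨N', hN⟩ : ∃ N', p ^ n = N' + 1 := ⟨p ^ n - 1, by omega⟩
  rw [hN] at hbin hfg hmax hZ hc₀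
  choose! cc hcc using hbin
  obtain ⟨u, hu⟩ := hπS
  have hu0 : (u : S) ≠ 0 := u.ne_zero
  -- Step 1
  set W : S := Z * algebraMap A S g with hW
  have hWN : W ^ (N' + 1) = 1 + (u : S) ^ (j * (N' + 1)) * algebraMap A S f₀ := by
    rw [hW, mul_pow, hZ, ← map_pow, ← map_mul, hfg, map_add, map_one, map_mul, map_pow, hu]
  -- Step 2
  set T : S := (W - 1) * ((u⁻¹ : Sˣ) : S) ^ j with hT
  have hWT : W = 1 + (u : S) ^ j * T := by
    rw [hT]
    have : (u : S) ^ j * ((W - 1) * ((u⁻¹ : Sˣ) : S) ^ j)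
        = (W - 1) * ((u : S) * ((u⁻¹ : Sˣ) : S)) ^ j := by
      rw [mul_pow]; ring
    rw [this, Units.mul_inv, one_pow, mul_one]; ring
  -- Step 3
  have hexp := expand (u : S) T j N' (fun k => (u : S) ^ (N' - k) * algebraMap A S (cc (k + 1))) (by
    intro k hk
    have h := hcc (k + 1) (Nat.succ_pos k) (by omega)
    have h' := congrArg (algebraMap A S) h
    rw [map_natCast, map_mul, map_pow, ← hu] at h'
    rw [h']
    have e : (j + 1) * (N' + 1 - (k + 1)) = j * (N' - k) + (N' - k) := by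
      have : N' + 1 - (k + 1) = N' - k := by omega
      rw [this]; ring
    rw [e, pow_add]; ring)
  have hTrel : T ^ (N' + 1) + ∑ k ∈ Finset.range N',
      ((u : S) ^ (N' - k) * algebraMap A S (cc (k + 1))) * T ^ (k + 1) = algebraMap A S f₀ := by
    have h1 : (1 : S) + (u : S) ^ (j * (N' + 1)) * (T ^ (N' + 1) + ∑ k ∈ Finset.range N',
        ((u : S) ^ (N' - k) * algebraMap A S (cc (k + 1))) * T ^ (k + 1))
        = 1 + (u : S) ^ (j * (N' + 1)) * algebraMap A S f₀ := by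
      rw [← hexp, ← hWT, hWN]
    exact mul_left_cancel₀ (pow_ne_zero _ hu0) (add_left_cancel h1)
  -- Step 4
  have hTint : IsIntegral A T := by
    refine ⟨X ^ (N' + 1) + (∑ k ∈ Finset.range N', C (π ^ (N' - k) * cc (k + 1)) * X ^ (k + 1)
      - C f₀), ?_, ?_⟩
    · apply monic_X_pow_add
      refine (degree_sub_le _ _).trans_lt (max_lt ?_ ?_)
      · refine (degree_sum_le _ _).trans_lt ?_
        rw [Finset.sup_lt_iff (WithBot.bot_lt_coe _)]
        intro k hk
        refine (degree_C_mul_X_pow_le _ _).trans_lt ?_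
        have := Finset.mem_range.mp hk
        exact_mod_cast (by omega : k + 1 < N' + 1)
      · exact degree_C_le.trans_lt (by exact_mod_cast Nat.succ_pos N')
    · rw [eval₂_add, eval₂_pow, eval₂_X, eval₂_sub, eval₂_C, eval₂_finset_sum]
      simp only [eval₂_mul, eval₂_C, eval₂_pow, eval₂_X, map_mul, map_pow, ← hu]
      rw [← add_sub_assoc, hTrel, sub_self]
  -- Step 5
  set B := integralClosure A S with hB
  set πB : B := algebraMap A B π with hπB
  have hval : ∀ a : A, ((algebraMap A B a : B) : S) = algebraMap A S a := fun a => rfl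
  have hπBval : ((πB : B) : S) = (u : S) := by rw [hu]; rfl
  have hπB0 : πB ≠ 0 := by
    intro h; apply hu0; rw [← hπBval, h]; rfl
  obtain ⟨TB, hTBval⟩ : ∃ TB : B, (TB : S) = T := ⟨⟨T, hTint⟩, rfl⟩
  have hcontr : ∀ (M : ℕ) (x : A) (Y : B), algebraMap A B x = πB ^ M * Y → π ^ M ∣ x := by
    intro M x Y h
    refine dvd_of_integral hinj hπ M x (Y : S) Y.2 ?_
    have h' := congrArg (fun b : B => (b : S)) h
    simp only [Subalgebra.coe_mul, Subalgebra.coe_pow, hval, hπBval] at h'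
    rw [h', hu]
  have h5 : TB ^ (N' + 1) - algebraMap A B f₀ ∈ Ideal.span {πB} := by
    have e : TB ^ (N' + 1) - algebraMap A B f₀ = - ∑ k ∈ Finset.range N',
        (πB ^ (N' - k) * algebraMap A B (cc (k + 1))) * TB ^ (k + 1) := by
      apply Subtype.ext
      simp only [Subalgebra.coe_sub, Subalgebra.coe_pow, Subalgebra.coe_neg, Subalgebra.coe_mul,
        AddSubmonoidClass.coe_finset_sum, hval, hπBval, hTBval]
      rw [← hTrel]; ring
    rw [e]
    refine neg_mem (Ideal.sum_mem _ fun k hk => ?_)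
    have hk' := Finset.mem_range.mp hk
    refine Ideal.mul_mem_right _ _ (Ideal.mul_mem_right _ _ ?_)
    exact Ideal.pow_mem_of_mem _ (Ideal.mem_span_singleton_self _) _ (by omega)
  -- Step 6
  have h6 : TB - algebraMap A B g₀ ∈ Ideal.span {πB} := by
    by_cases htop : Ideal.span {πB} = ⊤
    · rw [htop]; trivial
    have hQnt : Nontrivial (B ⧸ Ideal.span {πB}) := Ideal.Quotient.nontrivial_iff.mpr htop
    have hp0 : ((p : ℕ) : B ⧸ Ideal.span {πB}) = 0 := by
      obtain ⟨r, hr⟩ := hpπ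
      have : ((p : ℕ) : B) = πB * algebraMap A B r := by
        rw [hπB, ← map_mul, ← hr, map_natCast]
      rw [← map_natCast (Ideal.Quotient.mk (Ideal.span {πB})), this]
      exact Ideal.Quotient.eq_zero_iff_mem.mpr
        (Ideal.mul_mem_right _ _ (Ideal.mem_span_singleton_self _))
    haveI : CharP (B ⧸ Ideal.span {πB}) p := (CharP.charP_iff_prime_eq_zero hp.out).mpr hp0
    apply hred
    refine ⟨N' + 1, ?_⟩
    rw [← Ideal.Quotient.eq_zero_iff_mem, map_pow, map_sub]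
    have hfr := sub_pow_char_pow (p := p) (Ideal.Quotient.mk (Ideal.span {πB}) TB)
      (Ideal.Quotient.mk (Ideal.span {πB}) (algebraMap A B g₀)) n
    rw [hN] at hfr
    rw [hfr, ← map_pow, ← map_pow, ← map_sub, Ideal.Quotient.eq_zero_iff_mem]
    have : TB ^ (N' + 1) - (algebraMap A B g₀) ^ (N' + 1)
        = (TB ^ (N' + 1) - algebraMap A B f₀) + πB * algebraMap A B c₀ := by
      rw [hπB, ← map_mul, ← hc₀, map_sub, map_pow]; ring
    rw [this]
    exact Ideal.add_mem _ h5 (Ideal.mul_mem_right _ _ (Ideal.mem_span_singleton_self _))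
  obtain ⟨T', hT'⟩ := Ideal.mem_span_singleton.mp h6
  -- Step 7
  set h : A := 1 + π ^ j * g₀ with hh
  have hWB : (1 + πB ^ j * TB : B) = algebraMap A B h + πB ^ (j + 1) * T' := by
    have : TB = algebraMap A B g₀ + πB * T' := by rw [← hT']; ring
    rw [this, hh, map_add, map_one, map_mul, map_pow, ← hπB, pow_succ]; ring
  have hWBN : (1 + πB ^ j * TB : B) ^ (N' + 1)
      = algebraMap A B ((f : A) * (g : A) ^ (N' + 1)) := by
    apply Subtype.ext
    simp only [Subalgebra.coe_add, Subalgebra.coe_one, Subalgebra.coe_pow, Subalgebra.coe_mul,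
      hval, hπBval, hTBval]
    rw [← hWT, hWN, hfg, map_add, map_one, map_mul, map_pow, hu]
  -- Step 8
  have hhunit : IsUnit h := by
    apply hlift
    have hdvd : π ∣ (f : A) * (g : A) ^ (N' + 1) - h ^ (N' + 1) := by
      obtain ⟨Y, hY⟩ := sub_dvd_pow_sub_pow (algebraMap A B h + πB ^ (j + 1) * T')
        (algebraMap A B h) (N' + 1)
      have := hcontr 1 ((f : A) * (g : A) ^ (N' + 1) - h ^ (N' + 1)) (πB ^ j * T' * Y) (by
        rw [map_sub, map_pow, ← hWBN, hWB, hY, pow_one, pow_succ]; ring)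
      simpa using this
    have hpow : (Ideal.Quotient.mk (Ideal.span {π}) h) ^ (N' + 1)
        = Ideal.Quotient.mk (Ideal.span {π}) ((f : A) * (g : A) ^ (N' + 1)) := by
      rw [← map_pow]
      symm
      rw [Ideal.Quotient.eq, Ideal.mem_span_singleton]
      exact hdvd
    have hunit : IsUnit (Ideal.Quotient.mk (Ideal.span {π}) ((f : A) * (g : A) ^ (N' + 1))) :=
      ((f.isUnit.mul (g.isUnit.pow _))).map _
    rw [← hpow] at hunit
    exact (isUnit_pow_iff (Nat.succ_ne_zero N')).mp hunit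
  obtain ⟨hu', hhu'⟩ := hhunit
  -- Step 9
  set g' : Aˣ := g * hu'⁻¹ with hg'
  set T'' : B := T' * algebraMap A B ((hu'⁻¹ : Aˣ) : A) with hT''
  have h9a : (1 + πB ^ (j + 1) * T'' : B)
      = (algebraMap A B h + πB ^ (j + 1) * T') * algebraMap A B ((hu'⁻¹ : Aˣ) : A) := by
    rw [add_mul, ← map_mul, ← hhu', Units.mul_inv, map_one, hT'']; ring
  have h9b : (1 + πB ^ (j + 1) * T'' : B) ^ (N' + 1)
      = algebraMap A B ((f : A) * (g' : A) ^ (N' + 1)) := by
    rw [h9a, mul_pow, ← hWB, hWBN, ← map_pow, ← map_mul, hg', Units.val_mul, mul_pow]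
    congr 1; ring
  have hexp2 := expand πB T'' (j + 1) N' (fun k => algebraMap A B (cc (k + 1))) (by
    intro k hk
    have h := hcc (k + 1) (Nat.succ_pos k) (by omega)
    have h' := congrArg (algebraMap A B) h
    rw [map_natCast, map_mul, map_pow] at h'
    rw [h']
    have : N' + 1 - (k + 1) = N' - k := by omega
    rw [this])
  rw [h9b] at hexp2
  obtain ⟨c, hc⟩ := hcontr ((j + 1) * (N' + 1)) ((f : A) * (g' : A) ^ (N' + 1) - 1)
    (T'' ^ (N' + 1) + ∑ k ∈ Finset.range N', algebraMap A B (cc (k + 1)) * T'' ^ (k + 1)) (by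
    rw [map_sub, map_one, hexp2]; ring)
  exact hmax g' c (by rw [← hc]; ring)

end Groth.Agent.Lib.KummerLvlH3
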