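import Mathlib

/-!
# Kummer covers with integral special fibre (helper3)

`core`: if `π` is a prime element of a Noetherian domain `A`, `f ∈ A` is a unit in `A[1/π]`,
`S` is a domain over `A[1/π]` containing an `m`-th root `Z` of `f`, and `π` generates a prime ideal
in the integral closure of `A` in `S`, then `f = π^(mq) u` with `u` a unit of `A`.
-/

namespace Groth.Agent.Lib.KummerSpH3

open Polynomial

theorem isUnit_of_isUnit_away {A : Type*} [CommRing A] [IsDomain A] {π : A} (hπ : Prime π)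
    (L : Type*) [CommRing L] [Algebra A L] [IsLocalization.Away π L]
    {x : A} (hx : ¬ π ∣ x) (hu : IsUnit (algebraMap A L x)) : IsUnit x := by
  have hinj : Function.Injective (algebraMap A L) :=
    IsLocalization.injective L (powers_le_nonZeroDivisors_of_noZeroDivisors hπ.ne_zero)
  obtain ⟨v, hv⟩ := hu.exists_right_inv
  obtain ⟨⟨c, s⟩, hcs⟩ := IsLocalization.surj (Submonoid.powers π) v
  obtain ⟨k, hk⟩ := s.2
  have h1 : x * c = π ^ k := by
    apply hinj
    rw [map_mul, ← hcs, ← mul_assoc, hv, one_mul, ← hk]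
  have h2 : π ^ k ∣ c := hπ.pow_dvd_of_dvd_mul_left k hx (by rw [h1])
  obtain ⟨c', rfl⟩ := h2
  have h3 : x * c' = 1 := by
    have : π ^ k * (x * c') = π ^ k * 1 := by
      calc π ^ k * (x * c') = x * (π ^ k * c') := by ring
        _ = π ^ k := h1
        _ = π ^ k * 1 := (mul_one _).symm
    exact mul_left_cancel₀ (pow_ne_zero k hπ.ne_zero) this
  exact IsUnit.of_mul_eq_one _ h3

theorem core {A : Type*} [CommRing A] [IsDomain A] [IsNoetherianRing A] {π : A} (hπ : Prime π)
    (L : Type*) [CommRing L] [Algebra A L] [IsLocalization.Away π L]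
    (S : Type*) [CommRing S] [IsDomain S] [Algebra A S] [Algebra L S] [IsScalarTower A L S]
    (m : ℕ) (hm : 0 < m) (f : A) (hf : IsUnit (algebraMap A L f))
    (Z : S) (hZ : Z ^ m = algebraMap A S f)
    (hsp : (Ideal.span {algebraMap A (integralClosure A S) π}).IsPrime) :
    ∃ (q : ℕ) (u : Aˣ), f = π ^ (m * q) * (u : A) := by
  have hLnt : Nontrivial L := by
    by_contra h
    rw [not_nontrivial_iff_subsingleton] at h
    have : (1 : S) = 0 := by
      rw [← map_one (algebraMap L S), Subsingleton.elim (1 : L) 0, map_zero]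
    exact one_ne_zero this
  have hf0 : f ≠ 0 := by
    rintro rfl
    rw [map_zero] at hf
    exact not_isUnit_zero hf
  obtain ⟨a, f₁, hnd, hfa⟩ := WfDvdMonoid.max_power_factor hf0 hπ.irreducible
  have hπL : IsUnit (algebraMap A L π) := IsLocalization.Away.algebraMap_isUnit π
  have hf₁L : IsUnit (algebraMap A L f₁) := by
    rw [hfa, map_mul, map_pow] at hf
    exact isUnit_of_mul_isUnit_right hf
  have hf₁ : IsUnit f₁ := isUnit_of_isUnit_away hπ L hnd hf₁L
  obtain ⟨q, r, har, hrm⟩ : ∃ q r : ℕ, a = m * q + r ∧ r < m :=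
    ⟨a / m, a % m, (Nat.div_add_mod a m).symm, Nat.mod_lt a hm⟩
  suffices hr0 : r = 0 by
    refine ⟨q, hf₁.unit, ?_⟩
    rw [hfa, har, hr0, add_zero]; rfl
  by_contra hr0
  have hrpos : 0 < r := Nat.pos_of_ne_zero hr0
  have hpS : IsUnit (algebraMap A S π) := by
    rw [IsScalarTower.algebraMap_apply A L S]
    exact hπL.map _
  obtain ⟨p, hp⟩ := hpS
  have key : ((p : S)) ^ (m * q) * (((p⁻¹ : Sˣ) : S) ^ q) ^ m = 1 := by
    rw [← pow_mul, mul_comm q m, ← mul_pow, Units.mul_inv, one_pow]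
  set w : S := Z * ((p⁻¹ : Sˣ) : S) ^ q with hw
  have hwm : w ^ m = algebraMap A S (π ^ r * f₁) := by
    rw [hw, mul_pow, hZ, hfa, har, map_mul, map_mul, map_pow, map_pow, ← hp, pow_add]
    calc (p : S) ^ (m * q) * (p : S) ^ r * algebraMap A S f₁ * (((p⁻¹ : Sˣ) : S) ^ q) ^ m
        = ((p : S) ^ (m * q) * (((p⁻¹ : Sˣ) : S) ^ q) ^ m) * ((p : S) ^ r * algebraMap A S f₁) := by
          ring
      _ = (p : S) ^ r * algebraMap A S f₁ := by rw [key, one_mul]
  have hint : IsIntegral A w := by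
    refine ⟨X ^ m - C (π ^ r * f₁), monic_X_pow_sub_C _ hm.ne', ?_⟩
    rw [eval₂_sub, eval₂_pow, eval₂_X, eval₂_C, hwm, sub_self]
  set B := integralClosure A S with hB
  let wB : B := ⟨w, hint⟩
  set πB : B := algebraMap A B π with hπB
  have hπBcoe : ((πB : B) : S) = (p : S) := by
    rw [hp]; rfl
  have hπB0 : πB ≠ 0 := by
    intro h
    have : (p : S) = 0 := by rw [← hπBcoe, h]; rfl
    exact p.ne_zero this
  have hwBm : wB ^ m = πB ^ r * algebraMap A B f₁ := by
    apply Subtype.ext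
    rw [← map_pow, ← map_mul]
    exact hwm
  have hmem : wB ^ m ∈ Ideal.span {πB} := by
    rw [hwBm, Ideal.mem_span_singleton]
    exact Dvd.dvd.mul_right (dvd_pow_self _ hr0) _
  have hmem' : wB ∈ Ideal.span {πB} := hsp.mem_of_pow_mem m hmem
  obtain ⟨w', hw'⟩ := Ideal.mem_span_singleton.mp hmem'
  have hmr : m = r + (m - r) := by omega
  have h4 : πB ^ r * (πB ^ (m - r) * w' ^ m) = πB ^ r * algebraMap A B f₁ := by
    rw [← hwBm, hw', mul_pow, ← mul_assoc, ← pow_add, ← hmr]
  have h5 : πB ^ (m - r) * w' ^ m = algebraMap A B f₁ :=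
    mul_left_cancel₀ (pow_ne_zero r hπB0) h4
  have h6 : algebraMap A B f₁ ∈ Ideal.span {πB} := by
    rw [← h5, Ideal.mem_span_singleton]
    exact Dvd.dvd.mul_right (dvd_pow_self _ (by omega)) _
  exact hsp.ne_top (Ideal.eq_top_of_isUnit_mem _ h6 (hf₁.map _))

end Groth.Agent.Lib.KummerSpH3
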