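import Mathlib
import Groth.Prelude.Def_HTor
import Groth.Agent.Lib.HomCx_helper2

/-!
# Künneth map for complexes of modules (helper9), part 1

Element-level API for cochain complexes of modules and the construction of the Künneth map
`⊕_{i+j=n} H^i(K) ⊗ H^j(L) → H^n(K ⊗ L)`.
-/

set_option autoImplicit false
universe u
open CategoryTheory Limits MonoidalCategory TensorProduct

namespace Groth.Agent.Kun9

open Groth.Agent.Lib.HomCx

variable {A : Type u} [CommRing A]

section LinAlg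

variable {Z H W : Type*} [AddCommGroup Z] [Module A Z] [AddCommGroup H] [Module A H]
  [AddCommGroup W] [Module A W]

/-- descend a linear map along a surjection -/
noncomputable def descSurj (π : Z →ₗ[A] H) (hπ : Function.Surjective π) (g : Z →ₗ[A] W)
    (hg : LinearMap.ker π ≤ LinearMap.ker g) : H →ₗ[A] W :=
  ((LinearMap.ker π).liftQ g hg) ∘ₗ (π.quotKerEquivOfSurjective hπ).symm.toLinearMap

lemma descSurj_apply (π : Z →ₗ[A] H) (hπ : Function.Surjective π) (g : Z →ₗ[A] W)
    (hg : LinearMap.ker π ≤ LinearMap.ker g) (z : Z) : descSurj π hπ g hg (π z) = g z := by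
  unfold descSurj
  have : (π.quotKerEquivOfSurjective hπ).symm (π z) = Submodule.Quotient.mk z := by
    rw [LinearEquiv.symm_apply_eq, LinearMap.quotKerEquivOfSurjective_apply_mk]
  simp only [LinearMap.coe_comp, LinearEquiv.coe_coe, Function.comp_apply, this,
    Submodule.liftQ_apply]

end LinAlg

section CxAPI

variable (K : DRing.Cx A)

lemma iCycles_inj (i : ℤ) : Function.Injective (K.iCycles i).hom :=
  (ModuleCat.mono_iff_injective (K.iCycles i)).mp inferInstance

lemma homologyπ_surj (i : ℤ) : Function.Surjective (K.homologyπ i).hom :=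
  (ModuleCat.epi_iff_surjective (K.homologyπ i)).mp inferInstance

lemma d_iCycles (i j : ℤ) (z : K.cycles i) : (K.d i j).hom ((K.iCycles i).hom z) = 0 :=
  congrArg (fun f => f.hom z) (K.iCycles_d i j)

lemma exists_cycle (i : ℤ) (x : K.X i) (hx : (K.d i (i + 1)).hom x = 0) :
    ∃ z : K.cycles i, (K.iCycles i).hom z = x := by
  have hS : (ShortComplex.mk (K.iCycles i) (K.d i (i + 1)) (K.iCycles_d i (i + 1))).Exact :=
    ShortComplex.exact_of_f_is_kernel _ (K.cyclesIsKernel i (i + 1) (by simp))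
  exact (ShortComplex.moduleCat_exact_iff _).mp hS x hx

lemma homologyπ_eq_zero_of_boundary (i j : ℤ) (z : K.cycles i) (y : K.X j)
    (hy : (K.d j i).hom y = (K.iCycles i).hom z) : (K.homologyπ i).hom z = 0 := by
  have hz : z = (K.toCycles j i).hom y := by
    apply iCycles_inj K i
    rw [← hy]
    exact (congrArg (fun f => f.hom y) (K.toCycles_i j i)).symm
  rw [hz]
  exact congrArg (fun f => f.hom y) (K.toCycles_comp_homologyπ j i)

lemma exists_boundary (i : ℤ) (z : K.cycles i) (hz : (K.homologyπ i).hom z = 0) :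
    ∃ y : K.X (i - 1), (K.d (i - 1) i).hom y = (K.iCycles i).hom z := by
  have hS : (ShortComplex.mk (K.toCycles (i - 1) i) (K.homologyπ i)
      (K.toCycles_comp_homologyπ _ _)).Exact :=
    ShortComplex.exact_of_g_is_cokernel _ (K.homologyIsCokernel (i - 1) i (by simp))
  obtain ⟨y, hy⟩ := (ShortComplex.moduleCat_exact_iff _).mp hS z hz
  refine ⟨y, ?_⟩
  rw [← hy]
  exact (congrArg (fun f => f.hom y) (K.toCycles_i (i - 1) i)).symm

lemma exists_boundary' (i j : ℤ) (hj : j + 1 = i) (z : K.cycles i)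
    (hz : (K.homologyπ i).hom z = 0) :
    ∃ y : K.X j, (K.d j i).hom y = (K.iCycles i).hom z := by
  obtain rfl : j = i - 1 := by omega
  exact exists_boundary K i z hz

variable {K}

lemma homologyπ_naturality_apply {K' : DRing.Cx A} (φ : K ⟶ K') (i : ℤ) (z : K.cycles i) :
    (HomologicalComplex.homologyMap φ i).hom ((K.homologyπ i).hom z) =
      (K'.homologyπ i).hom ((HomologicalComplex.cyclesMap φ i).hom z) :=
  congrArg (fun f => f.hom z) (HomologicalComplex.homologyπ_naturality φ i)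

lemma cyclesMap_i_apply {K' : DRing.Cx A} (φ : K ⟶ K') (i : ℤ) (z : K.cycles i) :
    (K'.iCycles i).hom ((HomologicalComplex.cyclesMap φ i).hom z) =
      (φ.f i).hom ((K.iCycles i).hom z) :=
  congrArg (fun f => f.hom z) (HomologicalComplex.cyclesMap_i φ i)

lemma isIso_of_bijective {X Y : ModuleCat.{u} A} (f : X ⟶ Y) (h : Function.Bijective f.hom) :
    IsIso f := by
  let e := (LinearEquiv.ofBijective f.hom h).toModuleIso
  have : f = e.hom := by
    apply ModuleCat.hom_ext
    apply LinearMap.ext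
    intro x
    rfl
  rw [this]
  infer_instance

lemma quasiIsoAt_of_elements {K' : DRing.Cx A} (φ : K ⟶ K') (n : ℤ)
    (hsurj : ∀ x' : K'.X n, (K'.d n (n + 1)).hom x' = 0 →
      ∃ (x : K.X n) (y' : K'.X (n - 1)), (K.d n (n + 1)).hom x = 0 ∧
        x' = (φ.f n).hom x + (K'.d (n - 1) n).hom y')
    (hinj : ∀ x : K.X n, (K.d n (n + 1)).hom x = 0 →
      (∃ y' : K'.X (n - 1), (K'.d (n - 1) n).hom y' = (φ.f n).hom x) →
      ∃ y : K.X (n - 1), (K.d (n - 1) n).hom y = x) :
    QuasiIsoAt φ n := by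
  rw [quasiIsoAt_iff_isIso_homologyMap]
  apply isIso_of_bijective
  constructor
  · rw [injective_iff_map_eq_zero]
    intro h hh
    obtain ⟨z, rfl⟩ := homologyπ_surj K n h
    rw [homologyπ_naturality_apply] at hh
    obtain ⟨y', hy'⟩ := exists_boundary K' n _ hh
    rw [cyclesMap_i_apply] at hy'
    obtain ⟨y, hy⟩ := hinj _ (d_iCycles K n (n + 1) z) ⟨y', hy'⟩
    exact homologyπ_eq_zero_of_boundary K n (n - 1) z y hy
  · intro h'
    obtain ⟨z', rfl⟩ := homologyπ_surj K' n h'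
    obtain ⟨x, y', hx, hxy⟩ := hsurj _ (d_iCycles K' n (n + 1) z')
    obtain ⟨z, hz⟩ := exists_cycle K n x hx
    refine ⟨(K.homologyπ n).hom z, ?_⟩
    rw [homologyπ_naturality_apply]
    have hdiff : (K'.homologyπ n).hom (z' - (HomologicalComplex.cyclesMap φ n).hom z) = 0 := by
      apply homologyπ_eq_zero_of_boundary K' n (n - 1) _ y'
      rw [map_sub, cyclesMap_i_apply, hz, hxy]
      abel
    rw [map_sub, sub_eq_zero] at hdiff
    exact hdiff.symm

end CxAPI

section Kunneth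

variable (K L : DRing.Cx A)

lemma ιt_zero_left (p q i : ℤ) (h : p + q = i) (y : L.X q) : ιt K L p q i h 0 y = 0 := by
  simp [ιt]

lemma ιt_zero_right (p q i : ℤ) (h : p + q = i) (x : K.X p) : ιt K L p q i h x 0 = 0 := by
  simp [ιt]

/-- the map `Z^i(K) ⊗ Z^j(L) → Z^n(K ⊗ L)` -/
noncomputable def cycMap (i j n : ℤ) (h : i + j = n) :
    (K.cycles i ⊗ L.cycles j : ModuleCat.{u} A) ⟶ ((K ⊗ L : DRing.Cx A)).cycles n :=
  ((K ⊗ L : DRing.Cx A)).liftCycles
    ((K.iCycles i ⊗ₘ L.iCycles j) ≫ HomologicalComplex.ιTensorObj K L i j n h) (n + 1) (by simp)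
    (by
      apply ModuleCat.MonoidalCategory.tensor_ext
      intro z z'
      show (((K ⊗ L : DRing.Cx A)).d n (n + 1)).hom
        (ιt K L i j n h ((K.iCycles i).hom z) ((L.iCycles j).hom z')) = 0
      rw [d_ιt i j n (n + 1) h rfl, d_iCycles, d_iCycles, ιt_zero_left, ιt_zero_right,
        smul_zero, add_zero])

lemma iCycles_cycMap (i j n : ℤ) (h : i + j = n) (z : K.cycles i) (z' : L.cycles j) :
    (((K ⊗ L : DRing.Cx A)).iCycles n).hom ((cycMap K L i j n h).hom (z ⊗ₜ[A] z')) =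
      ιt K L i j n h ((K.iCycles i).hom z) ((L.iCycles j).hom z') := by
  unfold cycMap
  exact congrArg (fun f : (K.cycles i ⊗ L.cycles j : ModuleCat.{u} A) ⟶
    ((K ⊗ L : DRing.Cx A)).X n => f.hom (z ⊗ₜ[A] z')) (HomologicalComplex.liftCycles_i _ _ _ _ _)

/-- the bilinear map on cycles -/
noncomputable def kb0 (i j n : ℤ) (h : i + j = n) :
    K.cycles i →ₗ[A] L.cycles j →ₗ[A] ((K ⊗ L : DRing.Cx A)).homology n :=
  LinearMap.compr₂ (TensorProduct.mk A (K.cycles i) (L.cycles j))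
    ((cycMap K L i j n h ≫ ((K ⊗ L : DRing.Cx A)).homologyπ n).hom)

lemma kb0_apply (i j n : ℤ) (h : i + j = n) (z : K.cycles i) (z' : L.cycles j) :
    kb0 K L i j n h z z' =
      (((K ⊗ L : DRing.Cx A)).homologyπ n).hom ((cycMap K L i j n h).hom (z ⊗ₜ[A] z')) := rfl

lemma kb0_left_zero (i j n : ℤ) (h : i + j = n) (z : K.cycles i)
    (hz : (K.homologyπ i).hom z = 0) (z' : L.cycles j) : kb0 K L i j n h z z' = 0 := by
  obtain ⟨p, rfl⟩ : ∃ p, i = p + 1 := ⟨i - 1, by omega⟩
  subst h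
  obtain ⟨y, hy⟩ := exists_boundary' K (p + 1) p rfl z hz
  rw [kb0_apply]
  refine homologyπ_eq_zero_of_boundary _ (p + 1 + j) (p + j) _
    (ιt K L p j (p + j) rfl y ((L.iCycles j).hom z')) ?_
  rw [iCycles_cycMap, d_ιt p j (p + j) (p + 1 + j) rfl (by omega), hy, d_iCycles,
    ιt_zero_right, smul_zero, add_zero]

lemma kb0_right_zero (i j n : ℤ) (h : i + j = n) (z : K.cycles i) (z' : L.cycles j)
    (hz' : (L.homologyπ j).hom z' = 0) : kb0 K L i j n h z z' = 0 := by
  obtain ⟨q, rfl⟩ : ∃ q, j = q + 1 := ⟨j - 1, by omega⟩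
  subst h
  obtain ⟨y, hy⟩ := exists_boundary' L (q + 1) q rfl z' hz'
  rw [kb0_apply]
  refine homologyπ_eq_zero_of_boundary _ (i + (q + 1)) (i + q) _
    ((i.negOnePow : ℤˣ) • ιt K L i q (i + q) rfl ((K.iCycles i).hom z) y) ?_
  rw [iCycles_cycMap, Units.smul_def, map_zsmul, ← Units.smul_def,
    d_ιt i q (i + q) (i + (q + 1)) rfl (by omega), hy, d_iCycles, ιt_zero_left, zero_add,
    smul_smul, Int.units_mul_self, one_smul]

noncomputable def kb1 (i j n : ℤ) (h : i + j = n) :
    K.homology i →ₗ[A] L.cycles j →ₗ[A] ((K ⊗ L : DRing.Cx A)).homology n :=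
  descSurj (K.homologyπ i).hom (homologyπ_surj K i) (kb0 K L i j n h) (by
    intro z hz
    rw [LinearMap.mem_ker] at hz ⊢
    ext z'
    exact kb0_left_zero K L i j n h z hz z')

lemma kb1_apply (i j n : ℤ) (h : i + j = n) (z : K.cycles i) (z' : L.cycles j) :
    kb1 K L i j n h ((K.homologyπ i).hom z) z' = kb0 K L i j n h z z' := by
  unfold kb1
  rw [descSurj_apply]

noncomputable def kb2 (i j n : ℤ) (h : i + j = n) :
    L.homology j →ₗ[A] K.homology i →ₗ[A] ((K ⊗ L : DRing.Cx A)).homology n :=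
  descSurj (L.homologyπ j).hom (homologyπ_surj L j) (kb1 K L i j n h).flip (by
    intro z' hz'
    rw [LinearMap.mem_ker] at hz' ⊢
    ext x
    obtain ⟨z, rfl⟩ := homologyπ_surj K i x
    rw [LinearMap.flip_apply, kb1_apply]
    exact kb0_right_zero K L i j n h z z' hz')

/-- the `(i, j)` component of the Künneth map -/
noncomputable def kcomp (i j n : ℤ) (h : i + j = n) :
    TensorProduct A (K.homology i) (L.homology j) →ₗ[A] ((K ⊗ L : DRing.Cx A)).homology n :=
  TensorProduct.lift (kb2 K L i j n h).flip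

lemma kcomp_tmul (i j n : ℤ) (h : i + j = n) (z : K.cycles i) (z' : L.cycles j) :
    kcomp K L i j n h ((K.homologyπ i).hom z ⊗ₜ[A] (L.homologyπ j).hom z') =
      (((K ⊗ L : DRing.Cx A)).homologyπ n).hom ((cycMap K L i j n h).hom (z ⊗ₜ[A] z')) := by
  unfold kcomp kb2
  rw [TensorProduct.lift.tmul, LinearMap.flip_apply, descSurj_apply, LinearMap.flip_apply,
    kb1_apply, kb0_apply]

/-- the Künneth map -/
noncomputable def kunneth (n : ℤ) :
    HTor.KunnethSum K L n →ₗ[A] ((K ⊗ L : DRing.Cx A)).homology n :=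
  DirectSum.toModule A (HTor.Antidiag n) _ (fun ij => kcomp K L ij.1.1 ij.1.2 n ij.2)

lemma kunneth_lof (n : ℤ) (ij : HTor.Antidiag n)
    (t : TensorProduct A (K.homology ij.1.1) (L.homology ij.1.2)) :
    kunneth K L n (DirectSum.lof A (HTor.Antidiag n) _ ij t) =
      kcomp K L ij.1.1 ij.1.2 n ij.2 t := by
  unfold kunneth
  rw [DirectSum.toModule_lof]

lemma kunneth_lof_tmul (n : ℤ) (ij : HTor.Antidiag n) (z : K.cycles ij.1.1)
    (z' : L.cycles ij.1.2) :
    kunneth K L n (DirectSum.lof A (HTor.Antidiag n) _ ij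
      ((K.homologyπ ij.1.1).hom z ⊗ₜ[A] (L.homologyπ ij.1.2).hom z')) =
      (((K ⊗ L : DRing.Cx A)).homologyπ n).hom
        ((cycMap K L ij.1.1 ij.1.2 n ij.2).hom (z ⊗ₜ[A] z')) := by
  rw [kunneth_lof, kcomp_tmul]

theorem isKunnethMap_kunneth (n : ℤ) : HTor.IsKunnethMap K L n (kunneth K L n) := by
  intro ij z z' w hw
  have hw' : w = (cycMap K L ij.1.1 ij.1.2 n ij.2).hom (z ⊗ₜ[A] z') := by
    apply iCycles_inj ((K ⊗ L : DRing.Cx A)) n
    rw [iCycles_cycMap]
    exact hw
  rw [hw']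
  exact kunneth_lof_tmul K L n ij z z'

lemma kunneth_ext {N : Type*} [AddCommGroup N] [Module A N] (n : ℤ)
    (f g : HTor.KunnethSum K L n →ₗ[A] N)
    (h : ∀ (ij : HTor.Antidiag n) (z : K.cycles ij.1.1) (z' : L.cycles ij.1.2),
      f (DirectSum.lof A (HTor.Antidiag n) _ ij
        ((K.homologyπ ij.1.1).hom z ⊗ₜ[A] (L.homologyπ ij.1.2).hom z')) =
      g (DirectSum.lof A (HTor.Antidiag n) _ ij
        ((K.homologyπ ij.1.1).hom z ⊗ₜ[A] (L.homologyπ ij.1.2).hom z'))) : f = g := by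
  apply DirectSum.linearMap_ext
  intro ij
  apply TensorProduct.ext'
  intro x y
  obtain ⟨z, rfl⟩ := homologyπ_surj K ij.1.1 x
  obtain ⟨z', rfl⟩ := homologyπ_surj L ij.1.2 y
  exact h ij z z'

end Kunneth

end Groth.Agent.Kun9
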