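import Groth.Agent.Lib.Kun1_helper9

/-!
# Künneth map (helper9), part 2: naturality and the case of a complex with zero differential
-/

set_option autoImplicit false
universe u
open CategoryTheory Limits MonoidalCategory TensorProduct

namespace Groth.Agent.Kun9

open Groth.Agent.Lib.HomCx

variable {A : Type u} [CommRing A]

section DS

variable {ι : Type*} [DecidableEq ι] {M N : ι → Type*} [∀ i, AddCommGroup (M i)]
  [∀ i, Module A (M i)] [∀ i, AddCommGroup (N i)] [∀ i, Module A (N i)]

lemma mem_range_lmap (f : ∀ i, M i →ₗ[A] N i) (y : DirectSum ι N)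
    (hy : ∀ i, y i ∈ LinearMap.range (f i)) : y ∈ LinearMap.range (DirectSum.lmap f) := by
  classical
  rw [← DirectSum.sum_support_of y]
  refine Submodule.sum_mem _ (fun i _ => ?_)
  obtain ⟨x, hx⟩ := hy i
  exact ⟨DirectSum.of M i x, by rw [DirectSum.lmap_of, hx]⟩

lemma lmap_surjective (f : ∀ i, M i →ₗ[A] N i) (hf : ∀ i, Function.Surjective (f i)) :
    Function.Surjective (DirectSum.lmap f) := by
  intro y
  exact mem_range_lmap f y (fun i => by
    obtain ⟨x, hx⟩ := hf i (y i)
    exact ⟨x, hx⟩)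

lemma lof_ne_apply (i j : ι) (h : j ≠ i) (b : M i) : (DirectSum.lof A ι M i b) j = 0 :=
  DFinsupp.single_eq_of_ne h

end DS

section Tmap

/-- `L ⊗ f` -/
noncomputable def tmap (L : DRing.Cx A) {M M' : DRing.Cx A} (f : M ⟶ M') :
    (L ⊗ M : DRing.Cx A) ⟶ (L ⊗ M' : DRing.Cx A) :=
  HomologicalComplex.mapBifunctorMap (𝟙 L) f (curriedTensor (ModuleCat.{u} A))
    (ComplexShape.up ℤ)

lemma tmap_ιt (L : DRing.Cx A) {M M' : DRing.Cx A} (f : M ⟶ M') (p q n : ℤ) (h : p + q = n)
    (x : L.X p) (y : M.X q) :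
    ((tmap L f).f n).hom (ιt L M p q n h x y) = ιt L M' p q n h x ((f.f q).hom y) := by
  have h1 := HomologicalComplex.ι_mapBifunctorMap (𝟙 L) f (curriedTensor (ModuleCat.{u} A))
    (ComplexShape.up ℤ) p q n h
  have h2 := congrArg (fun g => g.hom (x ⊗ₜ[A] y)) h1
  simp only [HomologicalComplex.id_f, Functor.map_id, NatTrans.id_app, Category.id_comp] at h2
  exact h2

/-- the map induced on Künneth sums -/
noncomputable def ksMap (L : DRing.Cx A) {M M' : DRing.Cx A} (f : M ⟶ M') (n : ℤ) :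
    HTor.KunnethSum L M n →ₗ[A] HTor.KunnethSum L M' n :=
  DirectSum.lmap (fun ij => TensorProduct.map LinearMap.id
    (HomologicalComplex.homologyMap f ij.1.2).hom)

lemma ksMap_lof (L : DRing.Cx A) {M M' : DRing.Cx A} (f : M ⟶ M') (n : ℤ)
    (ij : HTor.Antidiag n) (t : TensorProduct A (L.homology ij.1.1) (M.homology ij.1.2)) :
    ksMap L f n (DirectSum.lof A (HTor.Antidiag n) _ ij t) =
      DirectSum.lof A (HTor.Antidiag n) _ ij (TensorProduct.map LinearMap.id
        (HomologicalComplex.homologyMap f ij.1.2).hom t) := by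
  unfold ksMap
  rw [DirectSum.lmap_lof]

lemma ksMap_apply (L : DRing.Cx A) {M M' : DRing.Cx A} (f : M ⟶ M') (n : ℤ)
    (x : HTor.KunnethSum L M n) (ij : HTor.Antidiag n) :
    ksMap L f n x ij = TensorProduct.map LinearMap.id
        (HomologicalComplex.homologyMap f ij.1.2).hom (x ij) := rfl

lemma ksMap_surjective (L : DRing.Cx A) {M M' : DRing.Cx A} (f : M ⟶ M') (n : ℤ)
    (hf : ∀ j, Function.Surjective (HomologicalComplex.homologyMap f j).hom) :
    Function.Surjective (ksMap L f n) := by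
  apply lmap_surjective
  intro ij
  exact TensorProduct.map_surjective (fun x => ⟨x, rfl⟩) (hf ij.1.2)

theorem kunneth_naturality (L : DRing.Cx A) {M M' : DRing.Cx A} (f : M ⟶ M') (n : ℤ)
    (x : HTor.KunnethSum L M n) :
    (HomologicalComplex.homologyMap (tmap L f) n).hom (kunneth L M n x) =
      kunneth L M' n (ksMap L f n x) := by
  have key : (HomologicalComplex.homologyMap (tmap L f) n).hom ∘ₗ kunneth L M n =
      kunneth L M' n ∘ₗ ksMap L f n := by
    apply kunneth_ext
    intro ij z z'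
    rw [LinearMap.comp_apply, LinearMap.comp_apply, kunneth_lof_tmul, homologyπ_naturality_apply,
      ksMap_lof, TensorProduct.map_tmul, LinearMap.id_apply, homologyπ_naturality_apply,
      kunneth_lof_tmul]
    refine congrArg _ ?_
    apply iCycles_inj
    rw [cyclesMap_i_apply, iCycles_cycMap, iCycles_cycMap, tmap_ιt, cyclesMap_i_apply]
  exact LinearMap.congr_fun key x

end Tmap

section Comp

variable (K L : DRing.Cx A)

/-- the family of components of `(K ⊗ L)^n` -/
abbrev compFam (n : ℤ) : HTor.Antidiag n → Type u :=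
  fun ij => TensorProduct A (K.X ij.1.1) (L.X ij.1.2)

/-- the module-theoretic direct sum of the components of `(K ⊗ L)^n` -/
abbrev Comp (n : ℤ) : Type u := DirectSum (HTor.Antidiag n) (compFam K L n)

/-- `(K ⊗ L)^n → ⊕ K^i ⊗ L^j` -/
noncomputable def toComp (n : ℤ) :
    ((K ⊗ L : DRing.Cx A)).X n ⟶ ModuleCat.of A (Comp K L n) :=
  HomologicalComplex.mapBifunctorDesc (fun p q hpq =>
    (ModuleCat.ofHom (DirectSum.lof A (HTor.Antidiag n) (compFam K L n) ⟨(p, q), hpq⟩) :
      (K.X p ⊗ L.X q : ModuleCat.{u} A) ⟶ ModuleCat.of A (Comp K L n)))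

lemma toComp_ι (n : ℤ) (ij : HTor.Antidiag n) (c : TensorProduct A (K.X ij.1.1) (L.X ij.1.2)) :
    (toComp K L n).hom ((HomologicalComplex.ιTensorObj K L ij.1.1 ij.1.2 n ij.2).hom c) =
      DirectSum.lof A (HTor.Antidiag n) (compFam K L n) ij c := by
  have h1 := HomologicalComplex.ι_mapBifunctorDesc (K₁ := K) (K₂ := L)
    (F := curriedTensor (ModuleCat.{u} A)) (c := ComplexShape.up ℤ) (j := n) (fun p q hpq =>
    (ModuleCat.ofHom (DirectSum.lof A (HTor.Antidiag n) (compFam K L n) ⟨(p, q), hpq⟩) :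
      (K.X p ⊗ L.X q : ModuleCat.{u} A) ⟶ ModuleCat.of A (Comp K L n))) ij.1.1 ij.1.2 ij.2
  exact congrArg (fun f => f.hom c) h1

lemma toComp_ιt (p q n : ℤ) (h : p + q = n) (x : K.X p) (y : L.X q) :
    (toComp K L n).hom (ιt K L p q n h x y) =
      DirectSum.lof A (HTor.Antidiag n) (compFam K L n) ⟨(p, q), h⟩ (x ⊗ₜ[A] y) :=
  toComp_ι K L n ⟨(p, q), h⟩ (x ⊗ₜ[A] y)

/-- `⊕ K^i ⊗ L^j → (K ⊗ L)^n` -/
noncomputable def fromComp (n : ℤ) : Comp K L n →ₗ[A] ((K ⊗ L : DRing.Cx A)).X n :=
  DirectSum.toModule A (HTor.Antidiag n) _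
    (fun ij => (HomologicalComplex.ιTensorObj K L ij.1.1 ij.1.2 n ij.2).hom)

lemma fromComp_lof (n : ℤ) (ij : HTor.Antidiag n)
    (c : TensorProduct A (K.X ij.1.1) (L.X ij.1.2)) :
    fromComp K L n (DirectSum.lof A (HTor.Antidiag n) (compFam K L n) ij c) =
      (HomologicalComplex.ιTensorObj K L ij.1.1 ij.1.2 n ij.2).hom c := by
  unfold fromComp
  rw [DirectSum.toModule_lof]

lemma fromComp_toComp (n : ℤ) (v : ((K ⊗ L : DRing.Cx A)).X n) :
    fromComp K L n ((toComp K L n).hom v) = v := by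
  have key : toComp K L n ≫ ModuleCat.ofHom (fromComp K L n) = 𝟙 _ := by
    apply hom_ext_tensor
    intro p q hpq x y
    show fromComp K L n ((toComp K L n).hom (ιt K L p q n hpq x y)) = ιt K L p q n hpq x y
    rw [toComp_ιt, fromComp_lof]
    rfl
  exact congrArg (fun f => f.hom v) key

lemma toComp_fromComp (n : ℤ) (c : Comp K L n) :
    (toComp K L n).hom (fromComp K L n c) = c := by
  have key : (toComp K L n).hom ∘ₗ fromComp K L n = LinearMap.id := by
    apply DirectSum.linearMap_ext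
    intro ij
    apply LinearMap.ext
    intro t
    rw [LinearMap.comp_apply, LinearMap.comp_apply, fromComp_lof, toComp_ι]
    rfl
  exact LinearMap.congr_fun key c

end Comp

section KcompLin

variable (K L : DRing.Cx A)

lemma kcomp_map (i j n : ℤ) (h : i + j = n) (s : TensorProduct A (K.cycles i) (L.cycles j)) :
    kcomp K L i j n h (TensorProduct.map (K.homologyπ i).hom (L.homologyπ j).hom s) =
      (((K ⊗ L : DRing.Cx A)).homologyπ n).hom ((cycMap K L i j n h).hom s) := by
  induction s using TensorProduct.induction_on with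
  | zero => simp
  | tmul z z' => rw [TensorProduct.map_tmul, kcomp_tmul]
  | add a b ha hb => rw [map_add, map_add, ha, hb, map_add, map_add]

lemma iCycles_cycMap_lin (i j n : ℤ) (h : i + j = n)
    (s : TensorProduct A (K.cycles i) (L.cycles j)) :
    (((K ⊗ L : DRing.Cx A)).iCycles n).hom ((cycMap K L i j n h).hom s) =
      (HomologicalComplex.ιTensorObj K L i j n h).hom
        (TensorProduct.map (K.iCycles i).hom (L.iCycles j).hom s) := by
  induction s using TensorProduct.induction_on with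
  | zero => simp
  | tmul z z' => rw [iCycles_cycMap, TensorProduct.map_tmul]; rfl
  | add a b ha hb => rw [map_add, map_add, ha, hb, map_add, map_add]

end KcompLin

section ZeroDiff

variable (L Q : DRing.Cx A) (hQ0 : ∀ i j : ℤ, Q.d i j = 0)

include hQ0 in
lemma toComp_d_zeroDiff (m m' : ℤ) (hm : m + 1 = m') (i i' j : ℤ) (hi : i + 1 = i')
    (hij : i + j = m) (v : ((L ⊗ Q : DRing.Cx A)).X m) :
    ((toComp L Q m').hom ((((L ⊗ Q : DRing.Cx A)).d m m').hom v)) ⟨(i', j), by omega⟩ =
      LinearMap.rTensor (Q.X j) (L.d i i').hom (((toComp L Q m).hom v) ⟨(i, j), hij⟩) := by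
  subst hm hi
  have key : ((L ⊗ Q : DRing.Cx A)).d m (m + 1) ≫ toComp L Q (m + 1) ≫
      ModuleCat.ofHom (DirectSum.component A (HTor.Antidiag (m + 1)) (compFam L Q (m + 1))
        ⟨(i + 1, j), by omega⟩) =
      toComp L Q m ≫ ModuleCat.ofHom (DirectSum.component A (HTor.Antidiag m) (compFam L Q m)
        ⟨(i, j), hij⟩) ≫ ModuleCat.ofHom (LinearMap.rTensor (Q.X j) (L.d i (i + 1)).hom) := by
    apply hom_ext_tensor
    intro p q hpq x y
    show ((toComp L Q (m + 1)).hom ((((L ⊗ Q : DRing.Cx A)).d m (m + 1)).hom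
      (ιt L Q p q m hpq x y))) ⟨(i + 1, j), by omega⟩ =
      LinearMap.rTensor (Q.X j) (L.d i (i + 1)).hom
        (((toComp L Q m).hom (ιt L Q p q m hpq x y)) ⟨(i, j), hij⟩)
    have hy0 : (Q.d q (q + 1)).hom y = 0 := by rw [hQ0]; rfl
    rw [d_ιt p q m (m + 1) hpq rfl x y, hy0, ιt_zero_right, smul_zero, add_zero, toComp_ιt,
      toComp_ιt]
    by_cases hpi : p = i ∧ q = j
    · obtain ⟨rfl, rfl⟩ := hpi
      rw [DirectSum.lof_apply, DirectSum.lof_apply, LinearMap.rTensor_tmul]
    · rw [lof_ne_apply, lof_ne_apply, map_zero]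
      · intro h
        apply hpi
        have := congrArg Subtype.val h
        simp only [Prod.mk.injEq] at this
        exact ⟨this.1.symm, this.2.symm⟩
      · intro h
        apply hpi
        have := congrArg Subtype.val h
        simp only [Prod.mk.injEq] at this
        exact ⟨by omega, this.2.symm⟩
  exact congrArg (fun f => f.hom v) key

/-- for a complex with zero differential, cycles are everything -/
noncomputable def zeq (j : ℤ) : Q.cycles j ≃ₗ[A] Q.X j :=
  LinearEquiv.ofBijective (Q.iCycles j).hom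
    ⟨iCycles_inj Q j, fun x => exists_cycle Q j x (by rw [hQ0]; rfl)⟩

lemma zeq_apply (j : ℤ) (z : Q.cycles j) : zeq Q hQ0 j z = (Q.iCycles j).hom z := rfl

/-- `⊕ Z^i(L) ⊗ Q^j` -/
abbrev ZC (n : ℤ) : Type u :=
  DirectSum (HTor.Antidiag n) fun ij => TensorProduct A (L.cycles ij.1.1) (Q.X ij.1.2)

noncomputable def sMap (i j : ℤ) :
    TensorProduct A (L.cycles i) (Q.X j) →ₗ[A] TensorProduct A (L.cycles i) (Q.cycles j) :=
  LinearMap.lTensor _ (zeq Q hQ0 j).symm.toLinearMap

noncomputable def αMap (n : ℤ) : ZC L Q n →ₗ[A] Comp L Q n :=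
  DirectSum.lmap fun ij => LinearMap.rTensor (Q.X ij.1.2) (L.iCycles ij.1.1).hom

noncomputable def κMap (n : ℤ) : ZC L Q n →ₗ[A] HTor.KunnethSum L Q n :=
  DirectSum.lmap fun ij =>
    (TensorProduct.map (L.homologyπ ij.1.1).hom (Q.homologyπ ij.1.2).hom) ∘ₗ
      sMap L Q hQ0 ij.1.1 ij.1.2

noncomputable def cMap (n : ℤ) : ZC L Q n →ₗ[A] ((L ⊗ Q : DRing.Cx A)).cycles n :=
  DirectSum.toModule A (HTor.Antidiag n) _ fun ij =>
    (cycMap L Q ij.1.1 ij.1.2 n ij.2).hom ∘ₗ sMap L Q hQ0 ij.1.1 ij.1.2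

lemma map_iCycles_sMap (i j : ℤ) (t : TensorProduct A (L.cycles i) (Q.X j)) :
    TensorProduct.map (L.iCycles i).hom (Q.iCycles j).hom (sMap L Q hQ0 i j t) =
      LinearMap.rTensor (Q.X j) (L.iCycles i).hom t := by
  induction t using TensorProduct.induction_on with
  | zero => simp
  | tmul z q =>
    unfold sMap
    rw [LinearMap.lTensor_tmul, TensorProduct.map_tmul, LinearMap.rTensor_tmul,
      LinearEquiv.coe_coe, ← zeq_apply Q hQ0, LinearEquiv.apply_symm_apply]
  | add a b ha hb => rw [map_add, map_add, ha, hb, map_add]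

lemma iCycles_cMap (n : ℤ) (τ : ZC L Q n) :
    (((L ⊗ Q : DRing.Cx A)).iCycles n).hom (cMap L Q hQ0 n τ) =
      fromComp L Q n (αMap L Q n τ) := by
  have key : (((L ⊗ Q : DRing.Cx A)).iCycles n).hom ∘ₗ cMap L Q hQ0 n =
      fromComp L Q n ∘ₗ αMap L Q n := by
    apply DirectSum.linearMap_ext
    intro ij
    apply LinearMap.ext
    intro t
    rw [LinearMap.comp_apply, LinearMap.comp_apply, LinearMap.comp_apply, LinearMap.comp_apply]
    unfold cMap αMap
    rw [DirectSum.toModule_lof, DirectSum.lmap_lof, fromComp_lof, LinearMap.comp_apply,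
      iCycles_cycMap_lin, map_iCycles_sMap]
  exact LinearMap.congr_fun key τ

lemma kunneth_κMap (n : ℤ) (τ : ZC L Q n) :
    kunneth L Q n (κMap L Q hQ0 n τ) =
      (((L ⊗ Q : DRing.Cx A)).homologyπ n).hom (cMap L Q hQ0 n τ) := by
  have key : kunneth L Q n ∘ₗ κMap L Q hQ0 n =
      (((L ⊗ Q : DRing.Cx A)).homologyπ n).hom ∘ₗ cMap L Q hQ0 n := by
    apply DirectSum.linearMap_ext
    intro ij
    apply LinearMap.ext
    intro t
    rw [LinearMap.comp_apply, LinearMap.comp_apply, LinearMap.comp_apply, LinearMap.comp_apply]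
    unfold cMap κMap
    rw [DirectSum.toModule_lof, DirectSum.lmap_lof, kunneth_lof, LinearMap.comp_apply,
      LinearMap.comp_apply, kcomp_map]
  exact LinearMap.congr_fun key τ

lemma κMap_surjective (n : ℤ) : Function.Surjective (κMap L Q hQ0 n) := by
  apply lmap_surjective
  intro ij
  rw [LinearMap.coe_comp]
  refine Function.Surjective.comp
    (TensorProduct.map_surjective (homologyπ_surj L _) (homologyπ_surj Q _)) ?_
  unfold sMap
  exact LinearMap.lTensor_surjective _ (zeq Q hQ0 ij.1.2).symm.surjective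

include hQ0 in
theorem kunneth_bijective_of_zeroDiff (hQf : ∀ j, Module.Flat A (Q.X j)) (n : ℤ) :
    Function.Bijective (kunneth L Q n) := by
  constructor
  · rw [injective_iff_map_eq_zero]
    intro x hx
    obtain ⟨τ, rfl⟩ := κMap_surjective L Q hQ0 n x
    rw [kunneth_κMap] at hx
    obtain ⟨u, hu⟩ := exists_boundary _ n _ hx
    rw [iCycles_cMap] at hu
    apply DirectSum.ext
    rintro ⟨⟨i, j⟩, hij⟩
    have hij' : i + j = n := hij
    haveI := hQf j
    have h1 := toComp_d_zeroDiff L Q hQ0 (n - 1) n (by omega) (i - 1) i j (by omega) (by omega) u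
    rw [hu, toComp_fromComp] at h1
    have h1' : LinearMap.rTensor (Q.X j) (L.iCycles i).hom (τ ⟨(i, j), hij⟩) =
        LinearMap.rTensor (Q.X j) (L.d (i - 1) i).hom
          (((toComp L Q (n - 1)).hom u) ⟨(i - 1, j), by omega⟩) := h1
    have h2 : (L.d (i - 1) i).hom = (L.iCycles i).hom ∘ₗ (L.toCycles (i - 1) i).hom := by
      rw [← ModuleCat.hom_comp, L.toCycles_i]
    rw [h2, LinearMap.rTensor_comp, LinearMap.comp_apply] at h1'
    have hinj := Module.Flat.rTensor_preserves_injective_linearMap (M := Q.X j)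
      (L.iCycles i).hom (iCycles_inj L i)
    have h3 := hinj h1'
    show (TensorProduct.map (L.homologyπ i).hom (Q.homologyπ j).hom)
      (sMap L Q hQ0 i j (τ ⟨(i, j), hij⟩)) = 0
    rw [h3]
    generalize ((toComp L Q (n - 1)).hom u) ⟨(i - 1, j), by omega⟩ = r
    induction r using TensorProduct.induction_on with
    | zero => simp
    | tmul a q =>
      unfold sMap
      rw [LinearMap.rTensor_tmul, LinearMap.lTensor_tmul, TensorProduct.map_tmul]
      have : (L.homologyπ i).hom ((L.toCycles (i - 1) i).hom a) = 0 :=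
        congrArg (fun f => f.hom a) (L.toCycles_comp_homologyπ (i - 1) i)
      rw [this, zero_tmul]
    | add a b ha hb => rw [map_add, map_add, map_add, ha, hb, add_zero]
  · intro h'
    obtain ⟨w, rfl⟩ := homologyπ_surj _ n h'
    have hξ : ∀ ij : HTor.Antidiag n, ((toComp L Q n).hom
        ((((L ⊗ Q : DRing.Cx A)).iCycles n).hom w)) ij ∈
        LinearMap.range (LinearMap.rTensor (Q.X ij.1.2) (L.iCycles ij.1.1).hom) := by
      rintro ⟨⟨i, j⟩, hij⟩
      have hij' : i + j = n := hij
      haveI := hQf j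
      have hex : Function.Exact (L.iCycles i).hom (L.d i (i + 1)).hom := by
        intro x
        constructor
        · intro hx
          exact exists_cycle L i x hx
        · rintro ⟨z, rfl⟩
          exact d_iCycles L i (i + 1) z
      have hex' := Module.Flat.rTensor_exact (Q.X j) hex
      have h1 := toComp_d_zeroDiff L Q hQ0 n (n + 1) rfl i (i + 1) j rfl hij'
        ((((L ⊗ Q : DRing.Cx A)).iCycles n).hom w)
      rw [d_iCycles, map_zero] at h1
      exact (hex' _).mp h1.symm
    obtain ⟨τ, hτ⟩ := mem_range_lmap _ _ hξ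
    refine ⟨κMap L Q hQ0 n τ, ?_⟩
    rw [kunneth_κMap]
    refine congrArg _ ?_
    apply iCycles_inj
    rw [iCycles_cMap]
    have : αMap L Q n τ = (toComp L Q n).hom ((((L ⊗ Q : DRing.Cx A)).iCycles n).hom w) := hτ
    rw [this, fromComp_toComp]

end ZeroDiff

end Groth.Agent.Kun9
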