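import Groth.Agent.Lib.Kun2_helper9

/-!
# Künneth map (helper9), part 3: a free cover `0 → K → P → M → 0` of a bounded above complex

`P = (spheres on free covers of the cycles) ⊕ (disks on free covers of the terms)`.
-/

set_option autoImplicit false
universe u
open CategoryTheory Limits MonoidalCategory TensorProduct

namespace Groth.Agent.Kun9

open Groth.Agent.Lib.HomCx

variable {A : Type u} [CommRing A]

lemma eq_zero_of_isZero {X : ModuleCat.{u} A} (h : IsZero X) (x : X) : x = 0 := by
  haveI := ModuleCat.subsingleton_of_isZero h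
  exact Subsingleton.elim _ _

section DS2

variable {ι : Type*} [DecidableEq ι] {M N : ι → Type*} [∀ i, AddCommGroup (M i)]
  [∀ i, Module A (M i)] [∀ i, AddCommGroup (N i)] [∀ i, Module A (N i)]

lemma lmap_injective (f : ∀ i, M i →ₗ[A] N i) (hf : ∀ i, Function.Injective (f i)) :
    Function.Injective (DirectSum.lmap f) := by
  rw [injective_iff_map_eq_zero]
  intro x hx
  apply DirectSum.ext
  intro i
  have h1 : (DirectSum.lmap f x) i = 0 := by rw [hx]; rfl
  rw [DirectSum.lmap_apply] at h1
  exact (injective_iff_map_eq_zero (f i)).1 (hf i) _ h1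

end DS2

lemma map_id_bijective {X Y Y' : Type*} [AddCommGroup X] [Module A X] [AddCommGroup Y]
    [Module A Y] [AddCommGroup Y'] [Module A Y'] (g : Y →ₗ[A] Y') (hg : Function.Bijective g) :
    Function.Bijective (TensorProduct.map (LinearMap.id : X →ₗ[A] X) g) := by
  have : TensorProduct.map (LinearMap.id : X →ₗ[A] X) g =
      (TensorProduct.congr (LinearEquiv.refl A X) (LinearEquiv.ofBijective g hg)).toLinearMap := by
    apply TensorProduct.ext'
    intro x y
    rfl
  rw [this]
  exact (TensorProduct.congr (LinearEquiv.refl A X) (LinearEquiv.ofBijective g hg)).bijective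

section Cover

variable (M : DRing.Cx A) (b : ℤ)

/-- nonzero cycles -/
abbrev IF (j : ℤ) : Type u := {z : M.cycles j // z ≠ 0}
/-- nonzero elements in degrees `< b` -/
abbrev IG (j : ℤ) : Type u := {x : M.X j // x ≠ 0 ∧ j < b}
/-- nonzero elements in degree `j - 1 < b` -/
abbrev IG' (j : ℤ) : Type u := Σ i : ℤ, {x : M.X i // x ≠ 0 ∧ i < b ∧ i + 1 = j}

/-- the terms of the cover -/
abbrev PX (j : ℤ) : Type u := (IF M j →₀ A) × (IG M b j →₀ A) × (IG' M b j →₀ A)

/-- the reindexing `IG i → IG' j` -/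
def emb (i j : ℤ) (h : i + 1 = j) : IG M b i → IG' M b j :=
  fun x => ⟨i, x.1, x.2.1, x.2.2, h⟩

lemma emb_injective (i j : ℤ) (h : i + 1 = j) : Function.Injective (emb M b i j h) := by
  intro x y hxy
  unfold emb at hxy
  rw [Sigma.mk.inj_iff] at hxy
  have := eq_of_heq hxy.2
  have h2 : (x : M.X i) = y :=
    congrArg (fun s : {x : M.X i // x ≠ 0 ∧ i < b ∧ i + 1 = j} => s.1) this
  exact Subtype.ext h2

lemma emb_surjective (i j : ℤ) (h : i + 1 = j) : Function.Surjective (emb M b i j h) := by
  rintro ⟨i', x, hx0, hxb, hi'⟩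
  obtain rfl : i' = i := by omega
  exact ⟨⟨x, hx0, hxb⟩, rfl⟩

/-- the differential of the cover -/
noncomputable def dP (i j : ℤ) : PX M b i →ₗ[A] PX M b j :=
  if h : i + 1 = j then
    LinearMap.inr A (IF M j →₀ A) ((IG M b j →₀ A) × (IG' M b j →₀ A)) ∘ₗ
      LinearMap.inr A (IG M b j →₀ A) (IG' M b j →₀ A) ∘ₗ
      Finsupp.lmapDomain A A (emb M b i j h) ∘ₗ
      LinearMap.fst A (IG M b i →₀ A) (IG' M b i →₀ A) ∘ₗ
      LinearMap.snd A (IF M i →₀ A) ((IG M b i →₀ A) × (IG' M b i →₀ A))
  else 0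

lemma dP_apply (i j : ℤ) (h : i + 1 = j) (v : PX M b i) :
    dP M b i j v = (0, 0, Finsupp.mapDomain (emb M b i j h) v.2.1) := by
  unfold dP
  rw [dif_pos h]
  rfl

/-- the cover complex -/
noncomputable def Pc : DRing.Cx A where
  X j := ModuleCat.of A (PX M b j)
  d i j := ModuleCat.ofHom (dP M b i j)
  shape i j hij := by
    have h : ¬ (i + 1 = j) := hij
    apply ModuleCat.hom_ext
    unfold dP
    rw [dif_neg h]
    rfl
  d_comp_d' i j k hij hjk := by
    have h1 : i + 1 = j := hij
    have h2 : j + 1 = k := hjk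
    apply ModuleCat.hom_ext
    apply LinearMap.ext
    intro v
    show dP M b j k (dP M b i j v) = 0
    rw [dP_apply M b i j h1, dP_apply M b j k h2]
    simp

/-- the spherical part -/
noncomputable def Ps : DRing.Cx A where
  X j := ModuleCat.of A (IF M j →₀ A)
  d i j := 0
  shape := by intros; rfl
  d_comp_d' := by intros; simp

noncomputable def εF (j : ℤ) : (IF M j →₀ A) →ₗ[A] M.X j :=
  Finsupp.linearCombination A (fun z : IF M j => (M.iCycles j).hom z.1)

noncomputable def γG (j : ℤ) : (IG M b j →₀ A) →ₗ[A] M.X j :=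
  Finsupp.linearCombination A (fun x : IG M b j => x.1)

noncomputable def γG' (j : ℤ) : (IG' M b j →₀ A) →ₗ[A] M.X j :=
  Finsupp.linearCombination A (fun s : IG' M b j => (M.d s.1 j).hom s.2.1)

noncomputable def πP (j : ℤ) : PX M b j →ₗ[A] M.X j :=
  (εF M j).coprod ((γG M b j).coprod (γG' M b j))

lemma πP_apply (j : ℤ) (v : PX M b j) :
    πP M b j v = εF M j v.1 + (γG M b j v.2.1 + γG' M b j v.2.2) := rfl

lemma d_εF (i j : ℤ) (f : IF M i →₀ A) : (M.d i j).hom (εF M i f) = 0 := by
  unfold εF
  rw [LinearMap.map_finsupp_linearCombination]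
  have : ((M.d i j).hom ∘ fun z : IF M i => (M.iCycles i).hom z.1) = 0 := by
    funext z
    exact d_iCycles M i j z.1
  rw [this, Finsupp.linearCombination_zero]
  rfl

lemma d_γG' (j k : ℤ) (g : IG' M b j →₀ A) : (M.d j k).hom (γG' M b j g) = 0 := by
  unfold γG'
  rw [LinearMap.map_finsupp_linearCombination]
  have : ((M.d j k).hom ∘ fun s : IG' M b j => (M.d s.1 j).hom s.2.1) = 0 := by
    funext s
    exact congrArg (fun f => f.hom s.2.1) (M.d_comp_d s.1 j k)
  rw [this, Finsupp.linearCombination_zero]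
  rfl

lemma γG'_mapDomain (i j : ℤ) (h : i + 1 = j) (g : IG M b i →₀ A) :
    γG' M b j (Finsupp.mapDomain (emb M b i j h) g) = (M.d i j).hom (γG M b i g) := by
  unfold γG' γG
  rw [Finsupp.linearCombination_mapDomain, LinearMap.map_finsupp_linearCombination]
  rfl

/-- the covering map -/
noncomputable def πc : Pc M b ⟶ M where
  f j := ModuleCat.ofHom (πP M b j)
  comm' i j hij := by
    have h : i + 1 = j := hij
    apply ModuleCat.hom_ext
    apply LinearMap.ext
    intro v
    show (M.d i j).hom (πP M b i v) = πP M b j (dP M b i j v)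
    rw [dP_apply M b i j h, πP_apply, πP_apply, map_add, map_add, d_εF, d_γG', γG'_mapDomain]
    simp

lemma πP_surjective (hb : DRing.VanishesAbove M b) (j : ℤ) :
    Function.Surjective (πP M b j) := by
  intro x
  by_cases hx : x = 0
  · exact ⟨0, by rw [map_zero, hx]⟩
  by_cases hj : j < b
  · refine ⟨(0, Finsupp.single ⟨x, hx, hj⟩ 1, 0), ?_⟩
    rw [πP_apply]
    simp [γG, Finsupp.linearCombination_single]
  · have hd : (M.d j (j + 1)).hom x = 0 :=
      eq_zero_of_isZero (hb (j + 1) (by omega)) _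
    obtain ⟨z, hz⟩ := exists_cycle M j x hd
    have hz0 : z ≠ 0 := by
      rintro rfl
      apply hx
      rw [← hz, map_zero]
    refine ⟨(Finsupp.single ⟨z, hz0⟩ 1, 0, 0), ?_⟩
    rw [πP_apply]
    simp [εF, Finsupp.linearCombination_single, hz]

lemma Pc_vanishesAbove (hb : DRing.VanishesAbove M b) : DRing.VanishesAbove (Pc M b) b := by
  intro j hj
  haveI : IsEmpty (IF M j) := ⟨fun z => z.2 (by
    apply iCycles_inj M j
    rw [map_zero]
    exact eq_zero_of_isZero (hb j hj) _)⟩
  haveI : IsEmpty (IG M b j) := ⟨fun x => by have := x.2.2; omega⟩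
  haveI : IsEmpty (IG' M b j) := ⟨fun s => by
    have h1 := s.2.2.2.1
    have h2 := s.2.2.2.2
    omega⟩
  haveI : Subsingleton (PX M b j) := inferInstance
  exact ModuleCat.isZero_of_subsingleton (ModuleCat.of A (PX M b j))

lemma homologyMap_πc_surjective (j : ℤ) :
    Function.Surjective (HomologicalComplex.homologyMap (πc M b) j).hom := by
  intro h
  obtain ⟨z, rfl⟩ := homologyπ_surj M j h
  by_cases hz : z = 0
  · exact ⟨0, by rw [map_zero, hz, map_zero]⟩
  · have hv : ((Pc M b).d j (j + 1)).hom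
        ((Finsupp.single ⟨z, hz⟩ 1, 0, 0) : PX M b j) = 0 := by
      show dP M b j (j + 1) ((Finsupp.single ⟨z, hz⟩ 1, 0, 0) : PX M b j) = 0
      rw [dP_apply M b j (j + 1) rfl]
      simp
    obtain ⟨w, hw⟩ := exists_cycle (Pc M b) j _ hv
    refine ⟨((Pc M b).homologyπ j).hom w, ?_⟩
    rw [homologyπ_naturality_apply]
    refine congrArg _ ?_
    apply iCycles_inj M j
    rw [cyclesMap_i_apply, hw]
    show πP M b j ((Finsupp.single ⟨z, hz⟩ 1, 0, 0) : PX M b j) = _
    rw [πP_apply]
    simp [εF, Finsupp.linearCombination_single]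

/-- the inclusion of the spherical part -/
noncomputable def inclP : Ps M ⟶ Pc M b where
  f j := ModuleCat.ofHom
    (LinearMap.inl A (IF M j →₀ A) ((IG M b j →₀ A) × (IG' M b j →₀ A)))
  comm' i j hij := by
    have h : i + 1 = j := hij
    apply ModuleCat.hom_ext
    apply LinearMap.ext
    intro f
    show dP M b i j ((f, 0) : PX M b i) = 0
    rw [dP_apply M b i j h]
    simp

lemma quasiIso_inclP : QuasiIso (inclP M b) := by
  rw [quasiIso_iff]
  intro n
  apply quasiIsoAt_of_elements
  · intro x' hx'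
    have h1 : dP M b n (n + 1) x' = 0 := hx'
    rw [dP_apply M b n (n + 1) rfl] at h1
    have hg : x'.2.1 = 0 := by
      have h2 : Finsupp.mapDomain (emb M b n (n + 1) rfl) x'.2.1 = 0 :=
        congrArg (fun v : PX M b (n + 1) => v.2.2) h1
      apply Finsupp.mapDomain_injective (emb_injective M b n (n + 1) rfl)
      rw [h2, Finsupp.mapDomain_zero]
    obtain ⟨g0, hg0⟩ := Finsupp.mapDomain_surjective
      (emb_surjective M b (n - 1) n (by omega)) (M := A) x'.2.2
    refine ⟨x'.1, ((0, g0, 0) : PX M b (n - 1)), rfl, ?_⟩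
    show x' = ((x'.1, 0) : PX M b n) + dP M b (n - 1) n ((0, g0, 0) : PX M b (n - 1))
    rw [dP_apply M b (n - 1) n (by omega)]
    apply Prod.ext
    · simp
    · apply Prod.ext
      · simp [hg]
      · simp [hg0]
  · rintro x - ⟨y', hy'⟩
    have h1 : dP M b (n - 1) n y' = ((x, 0) : PX M b n) := hy'
    rw [dP_apply M b (n - 1) n (by omega)] at h1
    have h2 : (0 : IF M n →₀ A) = x := congrArg Prod.fst h1
    exact ⟨0, by rw [map_zero]; exact h2⟩

lemma flat_homology_Pc (j : ℤ) : Module.Flat A ((Pc M b).homology j) := by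
  haveI := quasiIso_inclP M b
  haveI : IsIso (HomologicalComplex.homologyMap (inclP M b) j) :=
    (quasiIsoAt_iff_isIso_homologyMap _ _).1 inferInstance
  let e1 : (Ps M).homology j ≅ (Pc M b).homology j :=
    asIso (HomologicalComplex.homologyMap (inclP M b) j)
  let e2 : (Ps M).cycles j ≅ (Ps M).homology j :=
    (Ps M).isoHomologyπ (j - 1) j (by simp) rfl
  let e3 : (Ps M).cycles j ≅ (Ps M).X j := (Ps M).iCyclesIso j (j + 1) (by simp) rfl
  let e : (Pc M b).homology j ≅ ModuleCat.of A (IF M j →₀ A) := e1.symm ≪≫ e2.symm ≪≫ e3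
  exact Module.Flat.of_linearEquiv e.toLinearEquiv

theorem kunneth_bijective_Pc (L : DRing.Cx A) (hL : DRing.TermwiseFlat L)
    (bL : ∃ c : ℤ, DRing.VanishesAbove L c) (n : ℤ) :
    Function.Bijective (kunneth L (Pc M b) n) := by
  have h0 := kunneth_bijective_of_zeroDiff L (Ps M) (fun _ _ => rfl)
    (fun j => (inferInstance : Module.Flat A (IF M j →₀ A))) n
  haveI := quasiIso_inclP M b
  obtain ⟨c, hc⟩ := bL
  have hKF : Groth.Agent.Lib.KFlatMod.KF A L :=
    Groth.Agent.Lib.KFlatMod.kf_of_vanishesAbove L c hc hL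
  have hac := Groth.Agent.Lib.KFlatGen.acyclic_tensor_left_of_isKFlat
    (BraidedCategory.curriedBraidingNatIso (ModuleCat.{u} A)) L
    ((Groth.Agent.Lib.KFlatMod.kf_iff L).1 hKF)
  have hq : QuasiIso (tmap L (inclP M b)) :=
    Groth.Agent.Lib.BifCone.quasiIso_mapBifunctorMap₂ (Groth.Agent.Lib.KFlatMod.T A) L hac
      (inclP M b)
  have hH : Function.Bijective (HomologicalComplex.homologyMap (tmap L (inclP M b)) n).hom := by
    haveI : IsIso (HomologicalComplex.homologyMap (tmap L (inclP M b)) n) :=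
      (quasiIsoAt_iff_isIso_homologyMap _ _).1 inferInstance
    exact (asIso (HomologicalComplex.homologyMap (tmap L (inclP M b)) n)).toLinearEquiv.bijective
  have hk : Function.Bijective (ksMap L (inclP M b) n) := by
    have hcomp : ∀ ij : HTor.Antidiag n, Function.Bijective
        (TensorProduct.map (LinearMap.id : L.homology ij.1.1 →ₗ[A] L.homology ij.1.1)
          (HomologicalComplex.homologyMap (inclP M b) ij.1.2).hom) := by
      intro ij
      apply map_id_bijective
      haveI : IsIso (HomologicalComplex.homologyMap (inclP M b) ij.1.2) :=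
        (quasiIsoAt_iff_isIso_homologyMap _ _).1 inferInstance
      exact (asIso (HomologicalComplex.homologyMap (inclP M b) ij.1.2)).toLinearEquiv.bijective
    exact ⟨lmap_injective _ (fun ij => (hcomp ij).1), lmap_surjective _ (fun ij => (hcomp ij).2)⟩
  have hcomp : (kunneth L (Pc M b) n) ∘ (ksMap L (inclP M b) n) =
      (HomologicalComplex.homologyMap (tmap L (inclP M b)) n).hom ∘ (kunneth L (Ps M) n) := by
    funext x
    exact (kunneth_naturality L (inclP M b) n x).symm
  rw [← Function.Bijective.of_comp_iff _ hk, hcomp]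
  exact hH.comp h0

/-- the kernel of the cover -/
noncomputable def Kc : DRing.Cx A := kernel (πc M b)

noncomputable def ιc : Kc M b ⟶ Pc M b := kernel.ι (πc M b)

lemma ιc_πc : ιc M b ≫ πc M b = 0 := kernel.condition _

lemma coverSES (hb : DRing.VanishesAbove M b) :
    (ShortComplex.mk (ιc M b) (πc M b) (ιc_πc M b)).ShortExact := by
  have hepi : Epi (πc M b) := HomologicalComplex.epi_of_epi_f _ (fun j =>
    (ModuleCat.epi_iff_surjective _).mpr (πP_surjective M b hb j))
  exact ShortComplex.ShortExact.mk'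
    (ShortComplex.exact_of_f_is_kernel _ (kernelIsKernel (πc M b)))
    (inferInstanceAs (Mono (kernel.ι (πc M b)))) hepi

lemma Kc_vanishesAbove (hb : DRing.VanishesAbove M b) : DRing.VanishesAbove (Kc M b) b := by
  intro j hj
  haveI : Mono (ιc M b) := inferInstanceAs (Mono (kernel.ι (πc M b)))
  exact IsZero.of_mono ((ιc M b).f j) (Pc_vanishesAbove M b hb j hj)

end Cover

/-- the cover package -/
theorem exists_cover (M : DRing.Cx A) (b : ℤ) (hb : DRing.VanishesAbove M b) :
    ∃ (K P : DRing.Cx A) (ι : K ⟶ P) (π : P ⟶ M) (w : ι ≫ π = 0),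
      (ShortComplex.mk ι π w).ShortExact ∧ DRing.VanishesAbove K b ∧
      (∀ j, Function.Surjective (HomologicalComplex.homologyMap π j).hom) ∧
      (∀ j, Module.Flat A (P.homology j)) ∧
      (∀ (L : DRing.Cx A), DRing.TermwiseFlat L → (∃ c : ℤ, DRing.VanishesAbove L c) →
        ∀ n, Function.Bijective (kunneth L P n)) :=
  ⟨Kc M b, Pc M b, ιc M b, πc M b, ιc_πc M b, coverSES M b hb, Kc_vanishesAbove M b hb,
    homologyMap_πc_surjective M b, flat_homology_Pc M b,
    fun L hL bL n => kunneth_bijective_Pc M b L hL bL n⟩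

end Groth.Agent.Kun9
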