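import Mathlib
import Groth.Prelude.Def_DRing2
import Groth.Agent.Lib.UCTDed_helper5

/-!
# `Tor_1` as a kernel, and the four term sequence for a two term flat complex (helper5)
-/

set_option autoImplicit false

open CategoryTheory CategoryTheory.Limits MonoidalCategory TensorProduct

universe u

namespace Groth.Agent.TorKer5

variable {A : Type u} [CommRing A]

/-- for `0 → X₁ → X₂ → X₃ → 0` with `X₂` flat: `Tor_1(X₃, M)` is the kernel of
`X₁ ⊗ M → X₂ ⊗ M`. -/
theorem exists_tor1_kernel (S : ShortComplex (ModuleCat.{u} A)) (hS : S.ShortExact)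
    (hflat : Module.Flat A S.X₂) (M : ModuleCat.{u} A) :
    ∃ k : ((Tor (ModuleCat.{u} A) 1).obj S.X₃).obj M ⟶ S.X₁ ⊗ M,
      Function.Injective k.hom ∧ Function.Exact k.hom (S.f ▷ M).hom := by
  have c₂ : ((Tor (ModuleCat.{u} A) 0).map S.f).app M ≫
      (Groth.Agent.TorBal.tor0Iso S.X₂).hom.app M ≫ (β_ M S.X₂).hom =
      ((Groth.Agent.TorBal.tor0Iso S.X₁).hom.app M ≫ (β_ M S.X₁).hom) ≫ (S.f ▷ M) := by
    have hn := congrArg (fun t => t.app M) (Groth.Agent.TorBal.tor0Iso_naturality S.f)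
    simp only [NatTrans.comp_app] at hn
    rw [reassoc_of% hn, Category.assoc, ← BraidedCategory.braiding_naturality_right]
    rfl
  obtain ⟨E, hEa⟩ : ∃ E : Groth.Agent.TorBal.LeftEx ((Tor (ModuleCat.{u} A) 1).obj S.X₃)
      ((Tor (ModuleCat.{u} A) 0).obj S.X₁) ((Tor (ModuleCat.{u} A) 0).obj S.X₂),
      E.a = (Tor (ModuleCat.{u} A) 0).map S.f :=
    ⟨Groth.Agent.TorBal.tEx S hS hflat, rfl⟩
  have hEw : E.δ.app M ≫ ((Tor (ModuleCat.{u} A) 0).map S.f).app M = 0 := by
    rw [← hEa]; exact E.w M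
  have hEex : (ShortComplex.mk (E.δ.app M) (((Tor (ModuleCat.{u} A) 0).map S.f).app M)
      hEw).Exact := by
    have := E.exact M
    simp only [hEa] at this
    exact this
  have hk₃ : Function.Injective (E.δ.app M ≫
      (Groth.Agent.TorBal.tor0Iso S.X₁).hom.app M ≫ (β_ M S.X₁).hom).hom := by
    have hδinj : Function.Injective (E.δ.app M).hom :=
      (ModuleCat.mono_iff_injective (E.δ.app M)).mp (E.mono M)
    have h2 : Function.Injective
        (((Groth.Agent.TorBal.tor0Iso S.X₁).app M ≪≫ β_ M S.X₁).hom).hom :=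
      ((Groth.Agent.TorBal.tor0Iso S.X₁).app M ≪≫ β_ M S.X₁).toLinearEquiv.injective
    exact h2.comp hδinj
  have w₃ : (E.δ.app M ≫ (Groth.Agent.TorBal.tor0Iso S.X₁).hom.app M ≫ (β_ M S.X₁).hom) ≫
      (S.f ▷ M) = 0 := by
    rw [Category.assoc, ← c₂, reassoc_of% hEw, zero_comp]
  have iso₃ : ShortComplex.mk (E.δ.app M) (((Tor (ModuleCat.{u} A) 0).map S.f).app M) hEw ≅
      ShortComplex.mk _ _ w₃ :=
    ShortComplex.isoMk (Iso.refl _)
      ((Groth.Agent.TorBal.tor0Iso S.X₁).app M ≪≫ β_ M S.X₁)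
      ((Groth.Agent.TorBal.tor0Iso S.X₂).app M ≪≫ β_ M S.X₂)
      (Category.id_comp _) c₂.symm
  have hE₃ : (ShortComplex.mk _ _ w₃).Exact := (ShortComplex.exact_iff_of_iso iso₃).mp hEex
  exact ⟨_, hk₃, (ShortComplex.ShortExact.moduleCat_exact_iff_function_exact _).mp hE₃⟩

/-- module form: for `0 → X₁ → X₂ → X₃ → 0` with `X₂` flat,
`Tor_1(X₃, N) ≃ ker (X₁ ⊗ N → X₂ ⊗ N)`. -/
theorem nonempty_tor1_equiv_ker {X₁ X₂ X₃ N : Type u} [AddCommGroup X₁] [Module A X₁]
    [AddCommGroup X₂] [Module A X₂] [AddCommGroup X₃] [Module A X₃] [AddCommGroup N] [Module A N]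
    [Module.Flat A X₂] (i : X₁ →ₗ[A] X₂) (p : X₂ →ₗ[A] X₃) (hi : Function.Injective i)
    (hip : Function.Exact i p) (hp : Function.Surjective p) :
    Nonempty (((Tor (ModuleCat.{u} A) 1).obj (ModuleCat.of A X₃)).obj (ModuleCat.of A N) ≃ₗ[A]
      LinearMap.ker (i.rTensor N)) := by
  obtain ⟨k, hk, he⟩ := exists_tor1_kernel
    (ShortComplex.moduleCatMk i p hip.linearMap_comp_eq_zero)
    (Groth.Agent.TorLES.mk_shortExact i p hi hip hp) (inferInstanceAs (Module.Flat A X₂))
    (ModuleCat.of A N)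
  exact ⟨Groth.Agent.UCTDed5.kerEquiv k.hom (i.rTensor N) hk he⟩

/-- module form of dimension shifting: `Tor_2(X₃, N) ≃ Tor_1(X₁, N)` when `X₂` is flat. -/
theorem nonempty_tor2_equiv_tor1 {X₁ X₂ X₃ N : Type u} [AddCommGroup X₁] [Module A X₁]
    [AddCommGroup X₂] [Module A X₂] [AddCommGroup X₃] [Module A X₃] [AddCommGroup N] [Module A N]
    [Module.Flat A X₂] (i : X₁ →ₗ[A] X₂) (p : X₂ →ₗ[A] X₃) (hi : Function.Injective i)
    (hip : Function.Exact i p) (hp : Function.Surjective p) :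
    Nonempty (((Tor (ModuleCat.{u} A) 2).obj (ModuleCat.of A X₃)).obj (ModuleCat.of A N) ≃ₗ[A]
      ((Tor (ModuleCat.{u} A) 1).obj (ModuleCat.of A X₁)).obj (ModuleCat.of A N)) :=
  ⟨((Groth.Agent.TorBal.shift (ShortComplex.moduleCatMk i p hip.linearMap_comp_eq_zero)
    (Groth.Agent.TorLES.mk_shortExact i p hi hip hp) (inferInstanceAs (Module.Flat A X₂)) 0).app
      (ModuleCat.of A N)).toLinearEquiv⟩

/-- for `f` surjective and `α` exact with `f`: `ker (g ∘ f) / im α ≃ ker g`. -/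
theorem nonempty_quot_equiv_ker {X Y W K : Type*} [AddCommGroup X] [Module A X] [AddCommGroup Y]
    [Module A Y] [AddCommGroup W] [Module A W] [AddCommGroup K] [Module A K]
    (f : X →ₗ[A] Y) (g : Y →ₗ[A] W) (fg : X →ₗ[A] W) (hfg : ∀ z, g (f z) = fg z)
    (α : K →ₗ[A] X) (hex : Function.Exact α f) (hf : Function.Surjective f) :
    Nonempty ((↥(LinearMap.ker fg) ⧸ Submodule.comap (LinearMap.ker fg).subtype
      (LinearMap.range α)) ≃ₗ[A] ↥(LinearMap.ker g)) := by
  let r : ↥(LinearMap.ker fg) →ₗ[A] ↥(LinearMap.ker g) :=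
    (f.domRestrict (LinearMap.ker fg)).codRestrict _ (fun x => by
      rw [LinearMap.mem_ker]
      exact (hfg x.1).trans (LinearMap.mem_ker.mp x.2))
  have hr : Function.Surjective r := by
    intro y
    obtain ⟨x, hx⟩ := hf y.1
    have hx' : x ∈ LinearMap.ker fg := by
      rw [LinearMap.mem_ker, ← hfg, hx]
      exact LinearMap.mem_ker.mp y.2
    exact ⟨⟨x, hx'⟩, Subtype.ext hx⟩
  have hker : Submodule.comap (LinearMap.ker fg).subtype (LinearMap.range α) =
      LinearMap.ker r := by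
    ext x
    rw [Submodule.mem_comap, LinearMap.mem_ker]
    constructor
    · intro hx
      exact Subtype.ext ((hex x.1).mpr hx)
    · intro hx
      exact (hex x.1).mp (congrArg Subtype.val hx)
  exact ⟨(Submodule.quotEquivOfEq _ _ hker).trans (LinearMap.quotKerEquivOfSurjective r hr)⟩

/-- S4499, for an arbitrary coefficient module `N`. -/
theorem s4499 {P₁ P₀ N : Type u} [AddCommGroup P₁] [Module A P₁] [AddCommGroup P₀] [Module A P₀]
    [AddCommGroup N] [Module A N] [Module.Flat A P₁] [Module.Flat A P₀] (d : P₁ →ₗ[A] P₀) :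
    Nonempty (LinearMap.ker ((LinearMap.ker d).subtype.rTensor N) ≃ₗ[A]
        ((Tor (ModuleCat.{u} A) 2).obj (ModuleCat.of A (P₀ ⧸ LinearMap.range d))).obj
          (ModuleCat.of A N)) ∧
      LinearMap.range ((LinearMap.ker d).subtype.rTensor N) ≤ LinearMap.ker (d.rTensor N) ∧
      Nonempty ((↥(LinearMap.ker (d.rTensor N)) ⧸
          Submodule.comap (LinearMap.ker (d.rTensor N)).subtype
            (LinearMap.range ((LinearMap.ker d).subtype.rTensor N))) ≃ₗ[A]
        ((Tor (ModuleCat.{u} A) 1).obj (ModuleCat.of A (P₀ ⧸ LinearMap.range d))).obj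
          (ModuleCat.of A N)) := by
  -- the two short exact sequences
  have ha_inj : Function.Injective (LinearMap.ker d).subtype := Submodule.injective_subtype _
  have ha_ex : Function.Exact (LinearMap.ker d).subtype d.rangeRestrict := by
    intro x
    constructor
    · intro h
      exact ⟨⟨x, LinearMap.mem_ker.mpr (congrArg Subtype.val h)⟩, rfl⟩
    · rintro ⟨y, rfl⟩
      exact Subtype.ext (LinearMap.mem_ker.mp y.2)
  have ha_surj : Function.Surjective d.rangeRestrict := LinearMap.surjective_rangeRestrict d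
  have hb_inj : Function.Injective (LinearMap.range d).subtype := Submodule.injective_subtype _
  have hb_ex : Function.Exact (LinearMap.range d).subtype (LinearMap.range d).mkQ :=
    LinearMap.exact_subtype_mkQ _
  have hb_surj : Function.Surjective (LinearMap.range d).mkQ := Submodule.mkQ_surjective _
  obtain ⟨e1⟩ := nonempty_tor1_equiv_ker (N := N) _ _ ha_inj ha_ex ha_surj
  obtain ⟨e2⟩ := nonempty_tor2_equiv_tor1 (N := N) _ _ hb_inj hb_ex hb_surj
  obtain ⟨e3⟩ := nonempty_tor1_equiv_ker (N := N) _ _ hb_inj hb_ex hb_surj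
  have hcomp : ((LinearMap.range d).subtype.rTensor N) ∘ₗ (d.rangeRestrict.rTensor N) =
      d.rTensor N := by
    rw [← LinearMap.rTensor_comp]
    rfl
  have hexN : Function.Exact ((LinearMap.ker d).subtype.rTensor N) (d.rangeRestrict.rTensor N) :=
    rTensor_exact N ha_ex ha_surj
  have hfsurj : Function.Surjective (d.rangeRestrict.rTensor N) :=
    LinearMap.rTensor_surjective N ha_surj
  refine ⟨⟨e1.symm.trans e2.symm⟩, ?_, ?_⟩
  · rintro _ ⟨x, rfl⟩
    rw [LinearMap.mem_ker, ← hcomp, LinearMap.comp_apply, hexN.apply_apply_eq_zero, map_zero]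
  · -- the restriction of `f` to `ker (d ⊗ N)`
    have hx0 : ∀ z, ((LinearMap.range d).subtype.rTensor N) ((d.rangeRestrict.rTensor N) z) =
        d.rTensor N z := fun z => LinearMap.congr_fun hcomp z
    obtain ⟨q⟩ := nonempty_quot_equiv_ker (d.rangeRestrict.rTensor N)
      ((LinearMap.range d).subtype.rTensor N) (d.rTensor N) hx0
      ((LinearMap.ker d).subtype.rTensor N) hexN hfsurj
    exact ⟨q.trans e3.symm⟩

end Groth.Agent.TorKer5
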