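import Groth.Agent.Lib.Kun3_helper9
import Groth.Agent.Lib.TorKer_helper5
import Groth.Agent.Lib.TorBal2_helper5
import Groth.Agent.Lib.BifSES_helper2

/-!
# Künneth (helper9), part 4: subquotients, the long exact sequence of `L ⊗ -`, Tor glue
-/

set_option autoImplicit false
universe u
open CategoryTheory Limits MonoidalCategory TensorProduct

namespace Groth.Agent.Kun9

open Groth.Agent.Lib.HomCx

variable {A : Type u} [CommRing A]

section Subq

variable {N N' T T' W V : Type u} [AddCommGroup N] [Module A N] [AddCommGroup N'] [Module A N']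
  [AddCommGroup T] [Module A T] [AddCommGroup T'] [Module A T'] [AddCommGroup W] [Module A W]
  [AddCommGroup V] [Module A V]

lemma isSubquotient_of_surjective (S' : Submodule A T) (g : S' →ₗ[A] N)
    (hg : Function.Surjective g) : HTor.IsSubquotient A N T := by
  refine ⟨Submodule.map S'.subtype (LinearMap.ker g), S', ?_, ⟨?_⟩⟩
  · rintro _ ⟨x, _, rfl⟩
    exact x.2
  · have h1 : Submodule.comap S'.subtype (Submodule.map S'.subtype (LinearMap.ker g)) =
        LinearMap.ker g := Submodule.comap_map_eq_of_injective S'.injective_subtype _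
    exact (g.quotKerEquivOfSurjective hg).symm ≪≫ₗ (Submodule.quotEquivOfEq _ _ h1.symm)

lemma isSubquotient_of_surjective' (j : V →ₗ[A] T) (hj : Function.Injective j) (g : V →ₗ[A] N)
    (hg : Function.Surjective g) : HTor.IsSubquotient A N T := by
  let e : V ≃ₗ[A] LinearMap.range j := LinearEquiv.ofInjective j hj
  apply isSubquotient_of_surjective (LinearMap.range j) (g ∘ₗ e.symm.toLinearMap)
  intro n
  obtain ⟨v, rfl⟩ := hg n
  exact ⟨e v, by rw [LinearMap.comp_apply, LinearEquiv.coe_coe, LinearEquiv.symm_apply_apply]⟩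

lemma isSubquotient_of_maps (i : N →ₗ[A] W) (hi : Function.Injective i) (j : V →ₗ[A] T)
    (hj : Function.Injective j) (t : V →ₗ[A] W)
    (h : LinearMap.range i ≤ LinearMap.range t) : HTor.IsSubquotient A N T := by
  let U : Submodule A V := Submodule.comap t (LinearMap.range i)
  let e : N ≃ₗ[A] LinearMap.range i := LinearEquiv.ofInjective i hi
  let r : U →ₗ[A] LinearMap.range i :=
    t.restrict (p := U) (q := LinearMap.range i) (fun x hx => hx)
  apply isSubquotient_of_surjective' (j ∘ₗ U.subtype) (hj.comp U.injective_subtype)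
    (e.symm.toLinearMap ∘ₗ r)
  intro n
  obtain ⟨v, hv⟩ := h ⟨n, rfl⟩
  have hvU : v ∈ U := by
    show t v ∈ LinearMap.range i
    rw [hv]
    exact ⟨n, rfl⟩
  refine ⟨⟨v, hvU⟩, ?_⟩
  rw [LinearMap.comp_apply, LinearEquiv.coe_coe, LinearEquiv.symm_apply_eq]
  apply Subtype.ext
  show t v = i n
  exact hv

lemma isSubquotient_trans_inj (i : N →ₗ[A] N') (hi : Function.Injective i)
    (h : HTor.IsSubquotient A N' T) (j : T →ₗ[A] T') (hj : Function.Injective j) :
    HTor.IsSubquotient A N T' := by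
  obtain ⟨S, S', _, ⟨e⟩⟩ := h
  apply isSubquotient_of_maps i hi (j ∘ₗ S'.subtype) (hj.comp S'.injective_subtype)
    (e.symm.toLinearMap ∘ₗ (Submodule.comap S'.subtype S).mkQ)
  rintro _ ⟨n, rfl⟩
  obtain ⟨x, hx⟩ := Submodule.mkQ_surjective _ (e (i n))
  exact ⟨x, by rw [LinearMap.comp_apply, hx, LinearEquiv.coe_coe, LinearEquiv.symm_apply_apply]⟩

lemma isSubquotient_of_subsingleton [Subsingleton N] : HTor.IsSubquotient A N T := by
  apply isSubquotient_of_maps (LinearMap.id : N →ₗ[A] N) Function.injective_id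
    (LinearMap.id : T →ₗ[A] T) Function.injective_id (0 : T →ₗ[A] N)
  intro x _
  exact ⟨0, Subsingleton.elim _ _⟩

lemma subsingleton_of_isSubquotient [Subsingleton T] (h : HTor.IsSubquotient A N T) :
    Subsingleton N := by
  obtain ⟨S, S', _, ⟨e⟩⟩ := h
  constructor
  intro a b
  apply e.injective
  obtain ⟨x, hx⟩ := Submodule.mkQ_surjective _ (e a)
  obtain ⟨y, hy⟩ := Submodule.mkQ_surjective _ (e b)
  have : x = y := Subtype.ext (Subsingleton.elim _ _)
  rw [← hx, ← hy, this]

end Subq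

section Quot

variable {H H' : Type u} [AddCommGroup H] [Module A H] [AddCommGroup H'] [Module A H']

lemma exists_injective_quot (δ : H →ₗ[A] H') (V' U' : Submodule A H') :
    ∃ f : (↥(Submodule.comap δ V') ⧸
        Submodule.comap (Submodule.comap δ V').subtype (Submodule.comap δ U')) →ₗ[A]
        (↥V' ⧸ Submodule.comap V'.subtype U'), Function.Injective f := by
  refine ⟨Submodule.mapQ _ _
    (δ.restrict (p := Submodule.comap δ V') (q := V') (fun x hx => hx)) (fun x hx => hx), ?_⟩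
  rw [injective_iff_map_eq_zero]
  intro q hq
  obtain ⟨x, rfl⟩ := Submodule.Quotient.mk_surjective _ q
  rw [Submodule.mapQ_apply, Submodule.Quotient.mk_eq_zero] at hq
  rw [Submodule.Quotient.mk_eq_zero]
  exact hq

lemma exists_injective_quot_ker (δ : H →ₗ[A] H') (V' : Submodule A H') :
    ∃ f : (↥(Submodule.comap δ V') ⧸
        Submodule.comap (Submodule.comap δ V').subtype (LinearMap.ker δ)) →ₗ[A] H',
      Function.Injective f ∧ ∀ q, ∃ x ∈ Submodule.comap δ V', f q = δ x := by
  refine ⟨Submodule.liftQ _ (δ ∘ₗ (Submodule.comap δ V').subtype) (fun x hx => hx), ?_, ?_⟩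
  · rw [injective_iff_map_eq_zero]
    intro q hq
    obtain ⟨x, rfl⟩ := Submodule.Quotient.mk_surjective _ q
    rw [Submodule.liftQ_apply] at hq
    rw [Submodule.Quotient.mk_eq_zero]
    exact hq
  · intro q
    obtain ⟨x, rfl⟩ := Submodule.Quotient.mk_surjective _ q
    refine ⟨x.1, x.2, ?_⟩
    rw [Submodule.liftQ_apply]
    rfl

lemma filt_eq_top (F : ℕ → Submodule A H) (N : ℕ) (htop : F N = ⊤)
    (hgr : ∀ p, Subsingleton (HTor.grSucc F p)) : F 0 = ⊤ := by
  have hle : ∀ p, F (p + 1) ≤ F p := by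
    intro p x hx
    haveI := hgr p
    have h0 : (Submodule.Quotient.mk (⟨x, hx⟩ : ↥(F (p + 1))) : HTor.grSucc F p) = 0 :=
      Subsingleton.elim _ _
    rw [Submodule.Quotient.mk_eq_zero] at h0
    exact h0
  have hall : ∀ k, F k ≤ F 0 := by
    intro k
    induction k with
    | zero => exact le_rfl
    | succ k ih => exact (hle k).trans ih
  rw [eq_top_iff, ← htop]
  exact hall N

lemma subsingleton_quot_of_subsingleton [Subsingleton H] (V : Submodule A H)
    (U : Submodule A V) : Subsingleton (↥V ⧸ U) := by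
  constructor
  intro a b
  obtain ⟨a', rfl⟩ := Submodule.Quotient.mk_surjective _ a
  obtain ⟨b', rfl⟩ := Submodule.Quotient.mk_surjective _ b
  have : a' = b' := Subtype.ext (Subsingleton.elim _ _)
  rw [this]

lemma directSum_subsingleton {ι : Type*} {β : ι → Type*} [∀ i, AddCommMonoid (β i)]
    (h : ∀ i, Subsingleton (β i)) : Subsingleton (DirectSum ι β) :=
  ⟨fun a b => DFinsupp.ext (fun i => @Subsingleton.elim _ (h i) _ _)⟩

lemma exists_injective_reindex {ι : Type*} {P Q : ι → Prop} (h : ∀ a, P a ↔ Q a)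
    (β : ι → Type u) [∀ i, AddCommGroup (β i)] [∀ i, Module A (β i)] :
    ∃ f : (DirectSum {a // P a} fun a => β a.1) →ₗ[A] (DirectSum {a // Q a} fun a => β a.1),
      Function.Injective f :=
  ⟨(DirectSum.lequivCongrLeft A (Equiv.subtypeEquivRight h)).toLinearMap,
    (DirectSum.lequivCongrLeft A (Equiv.subtypeEquivRight h)).injective⟩

end Quot

section LES

lemma exact_iff_mem_range (S : ShortComplex (ModuleCat.{u} A)) (hS : S.Exact) (y : S.X₂) :
    S.g.hom y = 0 ↔ y ∈ LinearMap.range S.f.hom := by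
  constructor
  · intro h
    obtain ⟨x, hx⟩ := (ShortComplex.moduleCat_exact_iff S).mp hS y h
    exact ⟨x, hx⟩
  · rintro ⟨x, rfl⟩
    exact congrArg (fun f => f.hom x) S.zero

theorem les_elem (T : ShortComplex (DRing.Cx A)) (hT : T.ShortExact) (n m : ℤ)
    (hnm : n + 1 = m) :
    ∃ δ : T.X₃.homology n →ₗ[A] T.X₁.homology m,
      (∀ x, δ x = 0 ↔ x ∈ LinearMap.range (HomologicalComplex.homologyMap T.g n).hom) ∧
      (∀ y, (HomologicalComplex.homologyMap T.f m).hom y = 0 ↔ y ∈ LinearMap.range δ) :=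
  ⟨(hT.δ n m hnm).hom,
    fun x => exact_iff_mem_range _ (hT.homology_exact₃ n m hnm) x,
    fun y => exact_iff_mem_range _ (hT.homology_exact₁ n m hnm) y⟩

theorem les_exact₂ (T : ShortComplex (DRing.Cx A)) (hT : T.ShortExact) (n : ℤ)
    (y : T.X₂.homology n) :
    (HomologicalComplex.homologyMap T.g n).hom y = 0 ↔
      y ∈ LinearMap.range (HomologicalComplex.homologyMap T.f n).hom :=
  exact_iff_mem_range _ (hT.homology_exact₂ n) y

lemma flat_tensor_shortExact (S : ShortComplex (ModuleCat.{u} A)) (hS : S.ShortExact)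
    (G : ModuleCat.{u} A) (hG : Module.Flat A G) :
    (S.map ((curriedTensor (ModuleCat.{u} A)).obj G)).ShortExact := by
  obtain ⟨hex, hepi⟩ := (Functor.preservesFiniteColimits_iff_forall_exact_map_and_epi
    ((curriedTensor (ModuleCat.{u} A)).obj G)).1 inferInstance S hS
  have hf : Function.Injective S.f.hom := (ModuleCat.mono_iff_injective _).1 hS.mono_f
  have hmono : Mono (((curriedTensor (ModuleCat.{u} A)).obj G).map S.f) := by
    rw [ModuleCat.mono_iff_injective]
    exact Module.Flat.lTensor_preserves_injective_linearMap (M := G) S.f.hom hf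
  exact { exact := hex, mono_f := hmono, epi_g := hepi }

theorem tensor_shortExact (L : DRing.Cx A) (hL : DRing.TermwiseFlat L)
    (S : ShortComplex (DRing.Cx A)) (hS : S.ShortExact) :
    (S.map ((curriedTensor (ModuleCat.{u} A)).map₂CochainComplex.obj L)).ShortExact := by
  apply Groth.Agent.Lib.BifSES.shortExact_mapBifunctor₂ (curriedTensor (ModuleCat.{u} A)) L S
  intro p q
  exact flat_tensor_shortExact _
    ((HomologicalComplex.shortExact_iff_degreewise_shortExact S).1 hS q) (L.X p) (hL p)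

variable (L : DRing.Cx A) (hL : DRing.TermwiseFlat L) {K P M : DRing.Cx A} (ι : K ⟶ P)
  (π : P ⟶ M) (w : ι ≫ π = 0) (hS : (ShortComplex.mk ι π w).ShortExact)

include hL hS in
theorem tensor_les (n m : ℤ) (hnm : n + 1 = m) :
    ∃ δ : ((L ⊗ M : DRing.Cx A)).homology n →ₗ[A] ((L ⊗ K : DRing.Cx A)).homology m,
      (∀ x, δ x = 0 ↔
        x ∈ LinearMap.range (HomologicalComplex.homologyMap (tmap L π) n).hom) ∧
      (∀ y, (HomologicalComplex.homologyMap (tmap L ι) m).hom y = 0 ↔ y ∈ LinearMap.range δ) :=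
  les_elem _ (tensor_shortExact L hL _ hS) n m hnm

include hL hS in
theorem tensor_exact₂ (n : ℤ) (y : ((L ⊗ P : DRing.Cx A)).homology n) :
    (HomologicalComplex.homologyMap (tmap L π) n).hom y = 0 ↔
      y ∈ LinearMap.range (HomologicalComplex.homologyMap (tmap L ι) n).hom :=
  les_exact₂ _ (tensor_shortExact L hL _ hS) n y

include hS in
lemma homologyMap_injective_of_surjective
    (hπ : ∀ j, Function.Surjective (HomologicalComplex.homologyMap π j).hom) (j : ℤ) :
    Function.Injective (HomologicalComplex.homologyMap ι j).hom := by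
  rw [injective_iff_map_eq_zero]
  intro y hy
  have hex := hS.homology_exact₁ (j - 1) j (by simp)
  obtain ⟨x, hx⟩ := (ShortComplex.moduleCat_exact_iff _).mp hex y hy
  obtain ⟨x', rfl⟩ := hπ (j - 1) x
  rw [← hx]
  exact congrArg (fun f => f.hom x') (hS.comp_δ (j - 1) j (by simp))

include hS in
lemma homologyMap_exact (j : ℤ) :
    Function.Exact (HomologicalComplex.homologyMap ι j).hom
      (HomologicalComplex.homologyMap π j).hom := by
  intro y
  exact les_exact₂ _ hS j y

end LES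

section TorGlue

lemma rTensor_comm_apply {X Y Y' : Type*} [AddCommGroup X] [Module A X] [AddCommGroup Y]
    [Module A Y] [AddCommGroup Y'] [Module A Y'] (f : Y →ₗ[A] Y') (y : X ⊗[A] Y) :
    LinearMap.rTensor X f (TensorProduct.comm A X Y y) =
      TensorProduct.comm A X Y' (TensorProduct.map LinearMap.id f y) := by
  have key : (LinearMap.rTensor X f) ∘ₗ (TensorProduct.comm A X Y).toLinearMap =
      (TensorProduct.comm A X Y').toLinearMap ∘ₗ (TensorProduct.map LinearMap.id f) :=
    TensorProduct.ext' (fun x y => rfl)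
  exact LinearMap.congr_fun key y

lemma comm_comm_apply {X Y : Type*} [AddCommGroup X] [Module A X] [AddCommGroup Y]
    [Module A Y] (y : X ⊗[A] Y) :
    TensorProduct.comm A Y X (TensorProduct.comm A X Y y) = y := by
  have key : (TensorProduct.comm A Y X).toLinearMap ∘ₗ (TensorProduct.comm A X Y).toLinearMap =
      LinearMap.id := TensorProduct.ext' (fun x y => rfl)
  exact LinearMap.congr_fun key y

theorem exists_tor1_map (S : ShortComplex (ModuleCat.{u} A)) (hS : S.ShortExact)
    (hflat : Module.Flat A S.X₂) (X : ModuleCat.{u} A) :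
    ∃ θ : ((Tor (ModuleCat.{u} A) 1).obj X).obj S.X₃ →ₗ[A] (X ⊗[A] S.X₁),
      ∀ y : X ⊗[A] S.X₁, TensorProduct.map LinearMap.id S.f.hom y = 0 →
        y ∈ LinearMap.range θ := by
  obtain ⟨k, _, hk⟩ := Groth.Agent.TorKer5.exists_tor1_kernel S hS hflat X
  let e : ((Tor (ModuleCat.{u} A) 1).obj X).obj S.X₃ ≅ ((Tor (ModuleCat.{u} A) 1).obj S.X₃).obj X :=
    (Groth.Agent.TorBal.torSymm X 1).app S.X₃
  let k' : ((Tor (ModuleCat.{u} A) 1).obj X).obj S.X₃ →ₗ[A] (S.X₁ ⊗[A] X) := (e.hom ≫ k).hom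
  refine ⟨(TensorProduct.comm A S.X₁ X).toLinearMap ∘ₗ k', ?_⟩
  intro y hy
  have h1 : (S.f ▷ X).hom (TensorProduct.comm A X S.X₁ y) = 0 := by
    show LinearMap.rTensor X S.f.hom (TensorProduct.comm A X S.X₁ y) = 0
    rw [rTensor_comm_apply, hy, map_zero]
  obtain ⟨t, ht⟩ := (hk _).1 h1
  refine ⟨e.inv.hom t, ?_⟩
  have h2 : e.hom.hom (e.inv.hom t) = t := congrArg (fun f => f.hom t) e.inv_hom_id
  show (TensorProduct.comm A S.X₁ X) (k.hom (e.hom.hom (e.inv.hom t))) = y
  rw [h2, ht]
  exact comm_comm_apply y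

theorem nonempty_tor_shift (S : ShortComplex (ModuleCat.{u} A)) (hS : S.ShortExact)
    (hflat : Module.Flat A S.X₂) (X : ModuleCat.{u} A) (p : ℕ) :
    Nonempty (((Tor (ModuleCat.{u} A) (p + 1)).obj X).obj S.X₁ ≃ₗ[A]
      ((Tor (ModuleCat.{u} A) (p + 2)).obj X).obj S.X₃) := by
  let e1 : ((Tor (ModuleCat.{u} A) (p + 1)).obj X).obj S.X₁ ≅
      ((Tor (ModuleCat.{u} A) (p + 1)).obj S.X₁).obj X :=
    (Groth.Agent.TorBal.torSymm X (p + 1)).app S.X₁
  let e2 : ((Tor (ModuleCat.{u} A) (p + 2)).obj S.X₃).obj X ≅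
      ((Tor (ModuleCat.{u} A) (p + 1)).obj S.X₁).obj X :=
    (Groth.Agent.TorBal.shift S hS hflat p).app X
  let e3 : ((Tor (ModuleCat.{u} A) (p + 2)).obj X).obj S.X₃ ≅
      ((Tor (ModuleCat.{u} A) (p + 2)).obj S.X₃).obj X :=
    (Groth.Agent.TorBal.torSymm X (p + 2)).app S.X₃
  exact ⟨(e1 ≪≫ e2.symm ≪≫ e3.symm).toLinearEquiv⟩

variable {X Y₁ Y₂ Y₃ : Type u} [AddCommGroup X] [Module A X] [AddCommGroup Y₁] [Module A Y₁]
  [AddCommGroup Y₂] [Module A Y₂] [AddCommGroup Y₃] [Module A Y₃]

theorem exists_tor1_map' (hflat : Module.Flat A Y₂) (i : Y₁ →ₗ[A] Y₂) (p : Y₂ →ₗ[A] Y₃)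
    (hi : Function.Injective i) (hip : Function.Exact i p) (hp : Function.Surjective p) :
    ∃ θ : DRing.Tor A 1 X Y₃ →ₗ[A] (X ⊗[A] Y₁),
      ∀ y : X ⊗[A] Y₁, TensorProduct.map LinearMap.id i y = 0 → y ∈ LinearMap.range θ :=
  exists_tor1_map (ShortComplex.moduleCatMk i p hip.linearMap_comp_eq_zero)
    (Groth.Agent.TorLES.mk_shortExact i p hi hip hp) hflat (ModuleCat.of A X)

theorem nonempty_tor_shift' (hflat : Module.Flat A Y₂) (i : Y₁ →ₗ[A] Y₂) (p : Y₂ →ₗ[A] Y₃)
    (hi : Function.Injective i) (hip : Function.Exact i p) (hp : Function.Surjective p)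
    (q : ℕ) : Nonempty (DRing.Tor A (q + 1) X Y₁ ≃ₗ[A] DRing.Tor A (q + 2) X Y₃) :=
  nonempty_tor_shift (ShortComplex.moduleCatMk i p hip.linearMap_comp_eq_zero)
    (Groth.Agent.TorLES.mk_shortExact i p hi hip hp) hflat (ModuleCat.of A X) q

end TorGlue

end Groth.Agent.Kun9
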