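import Groth.Agent.Lib.Kun4_helper9

/-!
# Künneth (helper9), part 5: the Künneth filtration by dimension shifting along free covers
-/

set_option autoImplicit false
universe u
open CategoryTheory Limits MonoidalCategory TensorProduct

namespace Groth.Agent.Kun9

open Groth.Agent.Lib.HomCx

variable {A : Type u} [CommRing A]

/-- the Tor sums reindexed by the total degree `m = i + j` -/
abbrev TS (L M : DRing.Cx A) (m : ℤ) (p : ℕ) : Type u :=
  DirectSum (HTor.Antidiag m) fun ij => DRing.Tor A p (L.homology ij.1.1) (M.homology ij.1.2)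

/-- the filtration statement, with reindexed Tor sums -/
def Stmt (L M : DRing.Cx A) (n : ℤ) : Prop :=
  ∃ (N : ℕ) (F : ℕ → Submodule A (((L ⊗ M : DRing.Cx A)).homology n)),
    F 0 = LinearMap.range (kunneth L M n) ∧ Monotone F ∧ F N = ⊤ ∧
    ∀ (p : ℕ) (m : ℤ), m = n + p + 1 →
      HTor.IsSubquotient A (HTor.grSucc F p) (TS L M m (p + 1))

/-- the filtration induced on the source of a connecting map -/
def stepF {H H' : Type u} [AddCommGroup H] [Module A H] [AddCommGroup H'] [Module A H']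
    (δ : H →ₗ[A] H') (FK : ℕ → Submodule A H') : ℕ → Submodule A H
  | 0 => LinearMap.ker δ
  | (q + 1) => Submodule.comap δ (FK q)

lemma ksMap_comp_zero (L : DRing.Cx A) {K P M : DRing.Cx A} (ι : K ⟶ P) (π : P ⟶ M)
    (w : ι ≫ π = 0) (n : ℤ) (k : HTor.KunnethSum L K n) :
    ksMap L π n (ksMap L ι n k) = 0 := by
  apply DirectSum.ext
  intro ij
  rw [ksMap_apply, ksMap_apply]
  have h0 : (HomologicalComplex.homologyMap π ij.1.2).hom ∘ₗ
      (HomologicalComplex.homologyMap ι ij.1.2).hom = 0 := by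
    have h1 : HomologicalComplex.homologyMap ι ij.1.2 ≫ HomologicalComplex.homologyMap π ij.1.2
        = 0 := by
      rw [← HomologicalComplex.homologyMap_comp, w, HomologicalComplex.homologyMap_zero]
    exact congrArg ModuleCat.Hom.hom h1
  rw [← LinearMap.comp_apply, ← TensorProduct.map_comp, h0, TensorProduct.map_zero_right,
    LinearMap.zero_apply]
  rfl

theorem step (L : DRing.Cx A) (hL : DRing.TermwiseFlat L) {K P M : DRing.Cx A} (ι : K ⟶ P)
    (π : P ⟶ M) (w : ι ≫ π = 0) (hS : (ShortComplex.mk ι π w).ShortExact)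
    (hπ : ∀ j, Function.Surjective (HomologicalComplex.homologyMap π j).hom)
    (hPflat : ∀ j, Module.Flat A (P.homology j))
    (hPk : ∀ n, Function.Bijective (kunneth L P n))
    (n : ℤ) (IH : Stmt L K (n + 1)) : Stmt L M n := by
  obtain ⟨δ, hδ1, hδ2⟩ := tensor_les L hL ι π w hS n (n + 1) rfl
  obtain ⟨NK, FK, hFK0, hFKm, hFKN, hFKgr⟩ := IH
  have hinj : ∀ j, Function.Injective (HomologicalComplex.homologyMap ι j).hom :=
    homologyMap_injective_of_surjective ι π w hS hπ
  have hex : ∀ j, Function.Exact (HomologicalComplex.homologyMap ι j).hom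
      (HomologicalComplex.homologyMap π j).hom := homologyMap_exact ι π w hS
  refine ⟨NK + 1, stepF δ FK, ?_, ?_, ?_, ?_⟩
  · show LinearMap.ker δ = LinearMap.range (kunneth L M n)
    ext x
    rw [LinearMap.mem_ker, hδ1 x]
    constructor
    · rintro ⟨y, rfl⟩
      obtain ⟨k, rfl⟩ := (hPk n).2 y
      exact ⟨ksMap L π n k, (kunneth_naturality L π n k).symm⟩
    · rintro ⟨k', rfl⟩
      obtain ⟨k, rfl⟩ := ksMap_surjective L π n hπ k'
      exact ⟨kunneth L P n k, kunneth_naturality L π n k⟩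
  · apply monotone_nat_of_le_succ
    intro p
    cases p with
    | zero =>
      intro x hx
      have hx' : δ x = 0 := hx
      show δ x ∈ FK 0
      rw [hx']
      exact zero_mem _
    | succ q => exact Submodule.comap_mono (hFKm (Nat.le_succ q))
  · show Submodule.comap δ (FK NK) = ⊤
    rw [hFKN, Submodule.comap_top]
  · intro p m hm
    cases p with
    | zero =>
      obtain rfl : m = n + 1 := by rw [hm]; simp
      show HTor.IsSubquotient A (↥(Submodule.comap δ (FK 0)) ⧸
        Submodule.comap (Submodule.comap δ (FK 0)).subtype (LinearMap.ker δ)) (TS L M (n + 1) 1)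
      obtain ⟨f, hfinj, hf⟩ := exists_injective_quot_ker δ (FK 0)
      have hθ : ∀ ij : HTor.Antidiag (n + 1),
          ∃ θ : DRing.Tor A 1 (L.homology ij.1.1) (M.homology ij.1.2) →ₗ[A]
            ((L.homology ij.1.1) ⊗[A] (K.homology ij.1.2)),
          ∀ y : (L.homology ij.1.1) ⊗[A] (K.homology ij.1.2),
            TensorProduct.map LinearMap.id (HomologicalComplex.homologyMap ι ij.1.2).hom y = 0 →
              y ∈ LinearMap.range θ :=
        fun ij => exists_tor1_map' (hPflat ij.1.2) _ _ (hinj ij.1.2) (hex ij.1.2) (hπ ij.1.2)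
      choose θ hθ' using hθ
      let t : TS L M (n + 1) 1 →ₗ[A] ((L ⊗ K : DRing.Cx A)).homology (n + 1) :=
        kunneth L K (n + 1) ∘ₗ DirectSum.lmap θ
      refine isSubquotient_of_maps f hfinj
        (LinearMap.id : TS L M (n + 1) 1 →ₗ[A] TS L M (n + 1) 1) Function.injective_id t ?_
      rintro _ ⟨q, rfl⟩
      obtain ⟨x, hx, hfx⟩ := hf q
      rw [hfx]
      have hx0 : δ x ∈ FK 0 := hx
      rw [hFK0] at hx0
      obtain ⟨k, hk⟩ := hx0
      have h1 : (HomologicalComplex.homologyMap (tmap L ι) (n + 1)).hom (δ x) = 0 :=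
        (hδ2 _).2 ⟨x, rfl⟩
      rw [← hk, kunneth_naturality] at h1
      have h2 : ksMap L ι (n + 1) k = 0 :=
        (hPk (n + 1)).1 (h1.trans (map_zero (kunneth L P (n + 1))).symm)
      have h3 : k ∈ LinearMap.range (DirectSum.lmap θ) := by
        apply mem_range_lmap
        intro ij
        apply hθ' ij
        have h4 := ksMap_apply L ι (n + 1) k ij
        rw [h2] at h4
        exact h4.symm
      obtain ⟨τ, hτ⟩ := h3
      exact ⟨τ, by rw [LinearMap.comp_apply, hτ, hk]⟩
    | succ p =>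
      show HTor.IsSubquotient A (↥(Submodule.comap δ (FK (p + 1))) ⧸
        Submodule.comap (Submodule.comap δ (FK (p + 1))).subtype (Submodule.comap δ (FK p)))
        (TS L M m (p + 1 + 1))
      obtain ⟨f, hf⟩ := exists_injective_quot δ (FK (p + 1)) (FK p)
      have hm' : m = (n + 1) + p + 1 := by omega
      have hsub := hFKgr p m hm'
      have he : ∀ ij : HTor.Antidiag m,
          Nonempty (DRing.Tor A (p + 1) (L.homology ij.1.1) (K.homology ij.1.2) ≃ₗ[A]
            DRing.Tor A (p + 2) (L.homology ij.1.1) (M.homology ij.1.2)) :=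
        fun ij => nonempty_tor_shift' (hPflat ij.1.2) _ _ (hinj ij.1.2) (hex ij.1.2)
          (hπ ij.1.2) p
      let Ξ : TS L K m (p + 1) →ₗ[A] TS L M m (p + 1 + 1) :=
        DirectSum.lmap (fun ij => ((he ij).some).toLinearMap)
      have hΞ : Function.Injective Ξ := lmap_injective _ (fun ij => ((he ij).some).injective)
      exact isSubquotient_trans_inj f hf hsub Ξ hΞ

lemma tensor_isZero (L M : DRing.Cx A) (bL bM : ℤ) (hL : DRing.VanishesAbove L bL)
    (hM : DRing.VanishesAbove M bM) (n : ℤ) (hn : bL + bM < n) :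
    IsZero (((L ⊗ M : DRing.Cx A)).X n) := by
  rw [IsZero.iff_id_eq_zero]
  apply hom_ext_tensor
  intro p q hpq x y
  by_cases hp : bL < p
  · rw [eq_zero_of_isZero (hL p hp) x, ιt_zero_left]
    simp
  · have hq : bM < q := by omega
    rw [eq_zero_of_isZero (hM q hq) y, ιt_zero_right]
    simp

lemma stmt_base (L M : DRing.Cx A) (bL bM : ℤ) (hL : DRing.VanishesAbove L bL)
    (hM : DRing.VanishesAbove M bM) (n : ℤ) (hn : bL + bM < n) : Stmt L M n := by
  have hz : IsZero (((L ⊗ M : DRing.Cx A)).homology n) :=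
    ShortComplex.isZero_homology_of_isZero_X₂ (((L ⊗ M : DRing.Cx A)).sc n)
      (tensor_isZero L M bL bM hL hM n hn)
  haveI : Subsingleton (((L ⊗ M : DRing.Cx A)).homology n) :=
    ModuleCat.subsingleton_of_isZero hz
  refine ⟨0, fun _ => ⊤, ?_, monotone_const, rfl, ?_⟩
  · ext x
    simp only [Submodule.mem_top, true_iff]
    exact ⟨0, Subsingleton.elim _ _⟩
  · intro p m _
    haveI : Subsingleton (HTor.grSucc
        (fun _ : ℕ => (⊤ : Submodule A (((L ⊗ M : DRing.Cx A)).homology n))) p) :=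
      subsingleton_quot_of_subsingleton _ _
    exact isSubquotient_of_subsingleton

theorem main_aux (L : DRing.Cx A) (hL : DRing.TermwiseFlat L) (bL : ℤ)
    (hbL : DRing.VanishesAbove L bL) :
    ∀ (k : ℕ) (M : DRing.Cx A) (bM : ℤ) (n : ℤ), DRing.VanishesAbove M bM →
      bL + bM < n + k → Stmt L M n := by
  intro k
  induction k with
  | zero =>
    intro M bM n hM hn
    exact stmt_base L M bL bM hbL hM n (by simpa using hn)
  | succ k ih =>
    intro M bM n hM hn
    obtain ⟨K, P, ι, π, w, hS, hK, hπ, hPf, hPk⟩ := exists_cover M bM hM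
    exact step L hL ι π w hS hπ hPf (fun n' => hPk L hL ⟨bL, hbL⟩ n') n
      (ih K bM (n + 1) hK (by push_cast at hn; omega))

theorem stmt_main (L M : DRing.Cx A) (hL : DRing.TermwiseFlat L) (cL cM : ℤ)
    (hcL : DRing.VanishesAbove L cL) (hcM : DRing.VanishesAbove M cM) (n : ℤ) : Stmt L M n :=
  main_aux L hL cL hcL (cL + cM - n + 1).toNat M cM n hcM (by omega)

/-- S3539 -/
theorem s3539 (L M : DRing.Cx A) (hL : DRing.TermwiseFlat L)
    (bL : ∃ b : ℤ, DRing.VanishesAbove L b) (bM : ∃ b : ℤ, DRing.VanishesAbove M b) (n : ℤ) :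
    ∃ (N : ℕ) (F : ℕ → Submodule A ((HTor.tensorCx L M).homology n))
      (Φ : HTor.KunnethSum L M n →ₗ[A] (HTor.tensorCx L M).homology n),
      HTor.IsKunnethMap L M n Φ ∧ F 0 = LinearMap.range Φ ∧ Monotone F ∧ F N = ⊤ ∧
        ∀ p : ℕ, HTor.IsSubquotient A (HTor.grSucc F p) (HTor.TorSum L M n (p + 1)) := by
  obtain ⟨cL, hcL⟩ := bL
  obtain ⟨cM, hcM⟩ := bM
  obtain ⟨N, F, h0, hmono, htop, hgr⟩ := stmt_main L M hL cL cM hcL hcM n
  refine ⟨N, F, kunneth L M n, isKunnethMap_kunneth L M n, h0, hmono, htop, fun p => ?_⟩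
  obtain ⟨f, hf⟩ := exists_injective_reindex (A := A) (ι := ℤ × ℤ)
    (P := fun ij => ij.1 + ij.2 = n + p + 1)
    (Q := fun ij => ij.1 + ij.2 - ((p + 1 : ℕ) : ℤ) = n)
    (fun ij => by
      show ij.1 + ij.2 = n + p + 1 ↔ ij.1 + ij.2 - ((p + 1 : ℕ) : ℤ) = n
      constructor <;> intro h <;> omega)
    (fun ij => DRing.Tor A (p + 1) (L.homology ij.1) (M.homology ij.2))
  exact isSubquotient_trans_inj LinearMap.id Function.injective_id (hgr p (n + p + 1) rfl) f hf

theorem kunneth_surjective_of_flat (L M : DRing.Cx A) (hL : DRing.TermwiseFlat L) (cL cM : ℤ)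
    (hcL : DRing.VanishesAbove L cL) (hcM : DRing.VanishesAbove M cM)
    (hH : ∀ i : ℤ, Module.Flat A (L.homology i)) (n : ℤ) :
    Function.Surjective (kunneth L M n) := by
  obtain ⟨N, F, h0, _, htop, hgr⟩ := stmt_main L M hL cL cM hcL hcM n
  have h1 : F 0 = ⊤ := by
    apply filt_eq_top F N htop
    intro p
    haveI : Subsingleton (TS L M (n + p + 1) (p + 1)) := by
      apply directSum_subsingleton
      intro ij
      haveI : Module.Flat A (ModuleCat.of A (L.homology ij.1.1)) := hH ij.1.1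
      exact ModuleCat.subsingleton_of_isZero
        (Groth.Agent.TorLES.isZero_tor_succ_of_flat_left (ModuleCat.of A (L.homology ij.1.1))
          (ModuleCat.of A (M.homology ij.1.2)) p)
    exact subsingleton_of_isSubquotient (hgr p (n + p + 1) rfl)
  rw [h0] at h1
  exact LinearMap.range_eq_top.mp h1

/-- S3523 -/
theorem s3523 (L M : DRing.Cx A) (hL : DRing.TermwiseFlat L)
    (bL : ∃ b : ℤ, DRing.VanishesAbove L b) (bM : ∃ b : ℤ, DRing.VanishesAbove M b)
    (hH : ∀ i : ℤ, Module.Flat A (L.homology i)) (n : ℤ) :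
    ∃ Φ : HTor.KunnethSum L M n →ₗ[A] (HTor.tensorCx L M).homology n,
      HTor.IsKunnethMap L M n Φ ∧ Function.Bijective Φ := by
  obtain ⟨cL, hcL⟩ := bL
  obtain ⟨cM, hcM⟩ := bM
  refine ⟨kunneth L M n, isKunnethMap_kunneth L M n, ?_,
    kunneth_surjective_of_flat L M hL cL cM hcL hcM hH n⟩
  obtain ⟨K, P, ι, π, w, hS, hK, hπ, hPf, hPk⟩ := exists_cover M cM hcM
  have hKs := kunneth_surjective_of_flat L K hL cL cM hcL hK hH n
  have hPb := hPk L hL ⟨cL, hcL⟩ n
  rw [injective_iff_map_eq_zero]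
  intro x hx
  obtain ⟨y, rfl⟩ := ksMap_surjective L π n hπ x
  rw [← kunneth_naturality] at hx
  obtain ⟨z, hz⟩ := (tensor_exact₂ L hL ι π w hS n _).1 hx
  obtain ⟨k, rfl⟩ := hKs z
  rw [kunneth_naturality] at hz
  have hy : ksMap L ι n k = y := hPb.1 hz
  rw [← hy]
  exact ksMap_comp_zero L ι π w n k

/-- S3524 -/
theorem s3524 (L M : DRing.Cx A) (hL : DRing.TermwiseFlat L)
    (bL : ∃ b : ℤ, DRing.VanishesAbove L b) (bM : ∃ b : ℤ, DRing.VanishesAbove M b) (n : ℤ)
    (h : ∀ (p : ℕ) (i j : ℤ), i + j - p = n →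
      Subsingleton (DRing.Tor A p (L.homology i) (M.homology j))) :
    IsZero ((HTor.tensorCx L M).homology n) := by
  obtain ⟨cL, hcL⟩ := bL
  obtain ⟨cM, hcM⟩ := bM
  obtain ⟨N, F, h0, _, htop, hgr⟩ := stmt_main L M hL cL cM hcL hcM n
  have h1 : F 0 = ⊤ := by
    apply filt_eq_top F N htop
    intro p
    haveI : Subsingleton (TS L M (n + p + 1) (p + 1)) := by
      apply directSum_subsingleton
      intro ij
      exact h (p + 1) ij.1.1 ij.1.2 (by have := ij.2; omega)
    exact subsingleton_of_isSubquotient (hgr p (n + p + 1) rfl)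
  haveI : Subsingleton (HTor.KunnethSum L M n) := by
    apply directSum_subsingleton
    intro ij
    haveI := h 0 ij.1.1 ij.1.2 (by have := ij.2; omega)
    exact (Groth.Agent.TorLES.torZeroEquiv (M.homology ij.1.2)
      (L.homology ij.1.1)).symm.toEquiv.subsingleton
  show IsZero (((L ⊗ M : DRing.Cx A)).homology n)
  haveI : Subsingleton (((L ⊗ M : DRing.Cx A)).homology n) := by
    constructor
    intro a b
    have ha : a ∈ F 0 := by rw [h1]; trivial
    have hb : b ∈ F 0 := by rw [h1]; trivial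
    rw [h0] at ha hb
    obtain ⟨ka, rfl⟩ := ha
    obtain ⟨kb, rfl⟩ := hb
    rw [Subsingleton.elim ka kb]
  exact ModuleCat.isZero_of_subsingleton _

end Groth.Agent.Kun9
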