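import Mathlib

/-!
# The Koszul operator on functions of finite subsets (helper1)

Chains are plain functions `Finset (Fin n) → N`; the cardinality of the subset is the exterior
degree, recorded by the predicate `Supp p`.  For a family of linear maps `x v : N' → N` the
operator `kd x` is the Koszul differential; `sU u` is exterior multiplication by the `u`-th basis
vector, giving the usual null-homotopy of `x u`.
-/

set_option autoImplicit false

namespace Groth.Agent.Lib.KzH1

variable {n : ℕ}

/-- the Koszul sign -/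
def eps (v : Fin n) (J : Finset (Fin n)) : ℤ := (-1) ^ (J.filter (· < v)).card

theorem eps_mul_self (v : Fin n) (J : Finset (Fin n)) : eps v J * eps v J = 1 := by
  unfold eps
  rw [← pow_add, ← two_mul, pow_mul]
  simp

theorem eps_empty (v : Fin n) : eps v ∅ = 1 := by
  simp [eps]

theorem eps_insert_lt {u v : Fin n} {J : Finset (Fin n)} (hu : u ∉ J) (h : u < v) :
    eps v (insert u J) = - eps v J := by
  unfold eps
  rw [Finset.filter_insert, if_pos h, Finset.card_insert_of_notMem (by simp [hu]), pow_succ]
  ring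

theorem eps_insert_not_lt {u v : Fin n} {J : Finset (Fin n)} (h : ¬ u < v) :
    eps v (insert u J) = eps v J := by
  unfold eps
  rw [Finset.filter_insert, if_neg h]

theorem eps_anti {u v : Fin n} {K : Finset (Fin n)} (hu : u ∉ K) (hv : v ∉ K) (huv : u ≠ v) :
    eps u K * eps v (insert u K) + eps v K * eps u (insert v K) = 0 := by
  rcases lt_or_gt_of_ne huv with h | h
  · rw [eps_insert_lt hu h, eps_insert_not_lt (not_lt.mpr h.le)]; ring
  · rw [eps_insert_not_lt (not_lt.mpr h.le), eps_insert_lt hv h]; ring

theorem eps_anti' {u v : Fin n} {K : Finset (Fin n)} (hu : u ∉ K) (hv : v ∉ K) (huv : u ≠ v) :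
    eps v (insert u K) * eps u (insert v K) + eps u K * eps v K = 0 := by
  rcases lt_or_gt_of_ne huv with h | h
  · rw [eps_insert_lt hu h, eps_insert_not_lt (not_lt.mpr h.le)]; ring
  · rw [eps_insert_not_lt (not_lt.mpr h.le), eps_insert_lt hv h]; ring

/-- chains supported on subsets of cardinality `p` -/
def Supp (p : ℕ) {X : Type*} [Zero X] (m : Finset (Fin n) → X) : Prop :=
  ∀ I : Finset (Fin n), I.card ≠ p → m I = 0

section ops

variable {k : Type*} [CommRing k] {N N' N'' : Type*} [AddCommGroup N] [Module k N]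
  [AddCommGroup N'] [Module k N'] [AddCommGroup N''] [Module k N'']

/-- the Koszul differential -/
def kd (x : Fin n → N' →ₗ[k] N) : (Finset (Fin n) → N') →+ (Finset (Fin n) → N) where
  toFun m := fun J => ∑ v ∈ Jᶜ, eps v J • x v (m (insert v J))
  map_zero' := by
    funext J
    simp
  map_add' a b := by
    funext J
    simp only [Pi.add_apply, map_add, smul_add, Finset.sum_add_distrib]

theorem kd_apply (x : Fin n → N' →ₗ[k] N) (m : Finset (Fin n) → N') (J : Finset (Fin n)) :
    kd x m J = ∑ v ∈ Jᶜ, eps v J • x v (m (insert v J)) := rfl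

theorem kd_supp {p : ℕ} (x : Fin n → N' →ₗ[k] N) {m : Finset (Fin n) → N'}
    (h : Supp (p + 1) m) : Supp p (kd x m) := by
  intro J hJ
  rw [kd_apply]
  apply Finset.sum_eq_zero
  intro v hv
  have hv' : v ∉ J := by simpa using hv
  rw [h (insert v J) (by rw [Finset.card_insert_of_notMem hv']; omega), map_zero, smul_zero]

theorem kd_of_supp_zero (x : Fin n → N' →ₗ[k] N) {m : Finset (Fin n) → N'} (h : Supp 0 m) :
    kd x m = 0 := by
  funext J
  rw [kd_apply]
  apply Finset.sum_eq_zero
  intro v hv
  have hv' : v ∉ J := by simpa using hv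
  rw [h (insert v J) (by rw [Finset.card_insert_of_notMem hv']; omega), map_zero, smul_zero]

theorem kd_mem (x : Fin n → N' →ₗ[k] N) {L' : Submodule k N'} {L : Submodule k N}
    (hx : ∀ v a, a ∈ L' → x v a ∈ L) {m : Finset (Fin n) → N'} (hm : ∀ I, m I ∈ L')
    (J : Finset (Fin n)) : kd x m J ∈ L := by
  rw [kd_apply]
  exact Submodule.sum_mem _ fun v _ => zsmul_mem (hx _ _ (hm _)) _

theorem kd_comp {M' M : Type*} [AddCommGroup M'] [Module k M'] [AddCommGroup M] [Module k M]
    (x : Fin n → N' →ₗ[k] N) (xM : Fin n → M' →ₗ[k] M) (φ : N' →ₗ[k] M') (ψ : N →ₗ[k] M)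
    (h : ∀ v a, ψ (x v a) = xM v (φ a)) (m : Finset (Fin n) → N') :
    (fun J => ψ (kd x m J)) = kd xM (fun I => φ (m I)) := by
  funext J
  rw [kd_apply, kd_apply, map_sum]
  refine Finset.sum_congr rfl fun v _ => ?_
  rw [map_zsmul, h]

/-- `d ∘ d = 0` -/
theorem kd_kd (x : Fin n → N'' →ₗ[k] N') (x' : Fin n → N' →ₗ[k] N)
    (hc : ∀ v w a, x' v (x w a) = x' w (x v a)) (m : Finset (Fin n) → N'') :
    kd x' (kd x m) = 0 := by
  funext K
  rw [kd_apply]
  have h1 : ∀ w ∈ Kᶜ, eps w K • x' w (kd x m (insert w K)) =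
      ∑ v ∈ Kᶜ.erase w, (eps w K * eps v (insert w K)) •
        x' w (x v (m (insert v (insert w K)))) := by
    intro w _
    rw [kd_apply, map_sum, Finset.smul_sum, Finset.compl_insert]
    refine Finset.sum_congr rfl fun v _ => ?_
    rw [map_zsmul, smul_smul]
  rw [Finset.sum_congr rfl h1, Finset.sum_sigma']
  refine Finset.sum_involution (fun p _ => ⟨p.2, p.1⟩) ?_ ?_ ?_ ?_
  · rintro ⟨w, v⟩ hp
    rw [Finset.mem_sigma, Finset.mem_erase, Finset.mem_compl, Finset.mem_compl] at hp
    obtain ⟨hw, hvw, hv⟩ := hp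
    show (eps w K * eps v (insert w K)) • x' w (x v (m (insert v (insert w K)))) +
      (eps v K * eps w (insert v K)) • x' v (x w (m (insert w (insert v K)))) = 0
    rw [Finset.insert_comm w v K, hc v w, ← add_smul, eps_anti hw hv (Ne.symm hvw), zero_smul]
  · rintro ⟨w, v⟩ hp _ heq
    rw [Finset.mem_sigma, Finset.mem_erase] at hp
    have : v = w := congrArg Sigma.fst heq
    exact hp.2.1 this
  · rintro ⟨w, v⟩ hp
    have hp' : w ∈ Kᶜ ∧ v ≠ w ∧ v ∈ Kᶜ := by
      rw [Finset.mem_sigma, Finset.mem_erase] at hp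
      exact hp
    show (⟨v, w⟩ : Σ _ : Fin n, Fin n) ∈ Kᶜ.sigma fun w => Kᶜ.erase w
    rw [Finset.mem_sigma, Finset.mem_erase]
    exact ⟨hp'.2.2, Ne.symm hp'.2.1, hp'.1⟩
  · rintro ⟨w, v⟩ _
    rfl

/-- exterior multiplication by the `u`-th basis vector -/
def sU (u : Fin n) {X : Type*} [AddCommGroup X] (m : Finset (Fin n) → X) : Finset (Fin n) → X :=
  fun I => if u ∈ I then eps u (I.erase u) • m (I.erase u) else 0

theorem sU_supp {p : ℕ} (u : Fin n) {X : Type*} [AddCommGroup X] {m : Finset (Fin n) → X}
    (h : Supp p m) : Supp (p + 1) (sU u m) := by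
  intro I hI
  unfold sU
  split_ifs with hu
  · rw [h (I.erase u) (by rw [Finset.card_erase_of_mem hu]; have := Finset.card_pos.mpr ⟨u, hu⟩; omega),
      smul_zero]
  · rfl

theorem sU_mem (u : Fin n) {L : Submodule k N} {m : Finset (Fin n) → N} (hm : ∀ I, m I ∈ L)
    (I : Finset (Fin n)) : sU u m I ∈ L := by
  unfold sU
  split_ifs
  · exact zsmul_mem (hm _) _
  · exact L.zero_mem

/-- the homotopy identity -/
theorem kd_sU (x : Fin n → N' →ₗ[k] N) (u : Fin n) (m : Finset (Fin n) → N') :
    kd x (sU u m) + sU u (kd x m) = fun J => x u (m J) := by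
  funext J
  rw [Pi.add_apply, kd_apply]
  by_cases huJ : u ∈ J
  · have hsU : sU u (kd x m) J = eps u (J.erase u) • kd x m (J.erase u) := if_pos huJ
    rw [hsU, kd_apply]
    have hcompl : (J.erase u)ᶜ = insert u Jᶜ := by
      ext w
      simp only [Finset.mem_compl, Finset.mem_erase, Finset.mem_insert]
      by_cases hw : w = u
      · simp [hw]
      · simp [hw]
    have hu' : u ∉ Jᶜ := by simp [huJ]
    rw [hcompl, Finset.sum_insert hu', Finset.insert_erase huJ, smul_add, smul_smul, eps_mul_self,
      one_smul, Finset.smul_sum, add_left_comm, ← Finset.sum_add_distrib]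
    have h0 : ∑ v ∈ Jᶜ, (eps v J • x v (sU u m (insert v J)) +
        eps u (J.erase u) • eps v (J.erase u) • x v (m (insert v (J.erase u)))) = 0 := by
      apply Finset.sum_eq_zero
      intro v hv
      have hvJ : v ∉ J := by simpa using hv
      have hvu : v ≠ u := fun h => hvJ (h ▸ huJ)
      have h1 : sU u m (insert v J) =
          eps u (insert v (J.erase u)) • m (insert v (J.erase u)) := by
        unfold sU
        rw [if_pos (Finset.mem_insert_of_mem huJ), Finset.erase_insert_of_ne hvu]
      rw [h1, map_zsmul, smul_smul, smul_smul, ← add_smul]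
      have h2 : eps v J * eps u (insert v (J.erase u)) +
          eps u (J.erase u) * eps v (J.erase u) = 0 := by
        have h3 := eps_anti' (u := u) (v := v) (K := J.erase u) (by simp)
          (by simp [hvJ]) (Ne.symm hvu)
        rwa [Finset.insert_erase huJ] at h3
      rw [h2, zero_smul]
    rw [h0, add_zero]
  · have hsU : sU u (kd x m) J = 0 := if_neg huJ
    rw [hsU, add_zero, Finset.sum_eq_single u]
    · have h1 : sU u m (insert u J) = eps u J • m J := by
        unfold sU
        rw [if_pos (Finset.mem_insert_self u J), Finset.erase_insert huJ]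
      rw [h1, map_zsmul, smul_smul, eps_mul_self, one_smul]
    · intro v hv hvu
      have h1 : sU u m (insert v J) = 0 := by
        unfold sU
        rw [if_neg]
        rw [Finset.mem_insert]
        rintro (h | h)
        · exact hvu h.symm
        · exact huJ h
      rw [h1, map_zero, smul_zero]
    · intro h
      exact absurd (by simpa using huJ : u ∈ Jᶜ) h

end ops

section special

variable {k : Type*} [CommRing k] {N N' : Type*} [AddCommGroup N] [Module k N]
  [AddCommGroup N'] [Module k N']

/-- the chain of exterior degree one with coefficients `f` -/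
def sc {X : Type*} [AddCommMonoid X] (f : Fin n → X) : Finset (Fin n) → X :=
  fun I => ∑ v, if I = {v} then f v else 0

theorem sc_singleton {X : Type*} [AddCommMonoid X] (f : Fin n → X) (v : Fin n) :
    sc f {v} = f v := by
  unfold sc
  rw [Finset.sum_eq_single v]
  · rw [if_pos rfl]
  · intro w _ hw
    rw [if_neg]
    intro h
    exact hw (Finset.singleton_inj.mp h).symm
  · intro h
    exact absurd (Finset.mem_univ v) h

theorem sc_supp {X : Type*} [AddCommMonoid X] (f : Fin n → X) : Supp 1 (sc f) := by
  intro I hI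
  unfold sc
  apply Finset.sum_eq_zero
  intro v _
  rw [if_neg]
  rintro rfl
  exact hI (Finset.card_singleton v)

theorem sc_mem {L : Submodule k N} {f : Fin n → N} (hf : ∀ v, f v ∈ L) (I : Finset (Fin n)) :
    sc f I ∈ L := by
  unfold sc
  refine Submodule.sum_mem _ fun v _ => ?_
  split_ifs
  · exact hf v
  · exact L.zero_mem

theorem kd_sc (x : Fin n → N' →ₗ[k] N) (f : Fin n → N') :
    kd x (sc f) = fun J => if J = ∅ then ∑ v, x v (f v) else 0 := by
  funext J
  rw [kd_apply]
  split_ifs with hJ
  · subst hJ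
    rw [Finset.compl_empty]
    refine Finset.sum_congr rfl fun v _ => ?_
    rw [eps_empty, one_smul]
    have : insert v (∅ : Finset (Fin n)) = {v} := by simp
    rw [this, sc_singleton]
  · apply Finset.sum_eq_zero
    intro v hv
    have hvJ : v ∉ J := by simpa using hv
    have hpos := Finset.card_pos.mpr (Finset.nonempty_iff_ne_empty.mpr hJ)
    rw [sc_supp f (insert v J) (by rw [Finset.card_insert_of_notMem hvJ]; omega), map_zero,
      smul_zero]

/-- the chain of exterior degree zero with value `a` -/
def pc {X : Type*} [Zero X] (a : X) : Finset (Fin n) → X := fun I => if I = ∅ then a else 0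

theorem pc_empty {X : Type*} [Zero X] (a : X) : pc (n := n) a ∅ = a := if_pos rfl

theorem pc_supp {X : Type*} [Zero X] (a : X) : Supp 0 (pc (n := n) a) := by
  intro I hI
  unfold pc
  rw [if_neg]
  rintro rfl
  exact hI Finset.card_empty

theorem pc_mem {L : Submodule k N} {a : N} (ha : a ∈ L) (I : Finset (Fin n)) :
    pc (n := n) a I ∈ L := by
  unfold pc
  split_ifs
  · exact ha
  · exact L.zero_mem

theorem eq_pc_of_supp_zero {X : Type*} [Zero X] {m : Finset (Fin n) → X} (h : Supp 0 m) :
    m = pc (m ∅) := by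
  funext I
  unfold pc
  split_ifs with hI
  · rw [hI]
  · exact h I (fun hc => hI (Finset.card_eq_zero.mp hc))

end special

end Groth.Agent.Lib.KzH1
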