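import Groth.Agent.Lib.KzA_helper1

/-!
# Graded modules over a polynomial ring as linear-algebra data, iterated linear syzygies,
and the vanishing of Koszul homology (helper1)
-/

set_option autoImplicit false

namespace Groth.Agent.Lib.KzH1

universe u

variable {n : ℕ} {k : Type u} [CommRing k]

/-- unbundled vanishing of Koszul homology at exterior degree `p` and total degree `j` -/
def HV' {N : Type*} [AddCommGroup N] [Module k N] (lev : ℤ → Submodule k N)
    (x : Fin n → N →ₗ[k] N) (p : ℕ) (j : ℤ) : Prop :=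
  ∀ z : Finset (Fin n) → N, Supp p z → (∀ I, z I ∈ lev (j - p)) → kd x z = 0 →
    ∃ y : Finset (Fin n) → N, Supp (p + 1) y ∧ (∀ I, y I ∈ lev (j - p - 1)) ∧ kd x y = z

/-- a graded module over the polynomial ring in `n` variables, as linear algebra data -/
structure GM (k : Type u) [CommRing k] (n : ℕ) where
  N : Type u
  [ag : AddCommGroup N]
  [md : Module k N]
  lev : ℤ → Submodule k N
  x : Fin n → N →ₗ[k] N
  x_mem : ∀ v d a, a ∈ lev d → x v a ∈ lev (d + 1)
  comm : ∀ v w a, x v (x w a) = x w (x v a)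

attribute [instance] GM.ag GM.md

/-- the first module of linear syzygies -/
@[reducible] def T1 (G : GM k n) : GM k n where
  N := Fin n → G.N
  lev d :=
    { carrier := {f | (∀ v, f v ∈ G.lev (d - 1)) ∧ ∑ v, G.x v (f v) = 0}
      add_mem' := by
        rintro f g ⟨hf1, hf2⟩ ⟨hg1, hg2⟩
        refine ⟨fun v => (G.lev _).add_mem (hf1 v) (hg1 v), ?_⟩
        simp only [Pi.add_apply, map_add, Finset.sum_add_distrib, hf2, hg2, add_zero]
      zero_mem' := ⟨fun v => (G.lev _).zero_mem, by simp⟩
      smul_mem' := by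
        rintro c f ⟨hf1, hf2⟩
        refine ⟨fun v => (G.lev _).smul_mem c (hf1 v), ?_⟩
        simp only [Pi.smul_apply, map_smul, ← Finset.smul_sum, hf2, smul_zero] }
  x v := (G.x v).compLeft (Fin n)
  x_mem := by
    rintro v d f ⟨hf1, hf2⟩
    refine ⟨fun w => ?_, ?_⟩
    · have h := G.x_mem v (d - 1) (f w) (hf1 w)
      rwa [show d - 1 + 1 = d + 1 - 1 by ring] at h
    · show ∑ w, G.x w (G.x v (f w)) = 0
      have h : ∀ w, G.x w (G.x v (f w)) = G.x v (G.x w (f w)) := fun w => G.comm w v (f w)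
      simp_rw [h]
      rw [← map_sum, hf2, map_zero]
  comm := by
    intro v w f
    funext i
    exact G.comm v w (f i)

theorem T1_x_apply (G : GM k n) (v : Fin n) (f : Fin n → G.N) (w : Fin n) :
    (T1 G).x v f w = G.x v (f w) := rfl

/-- the multiplication map -/
def mu (G : GM k n) : (Fin n → G.N) →ₗ[k] G.N := ∑ v, (G.x v).comp (LinearMap.proj v)

theorem mu_apply (G : GM k n) (f : Fin n → G.N) : mu G f = ∑ v, G.x v (f v) := by
  simp [mu, LinearMap.sum_apply]

theorem mem_T1_lev {G : GM k n} {d : ℤ} {f : Fin n → G.N} :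
    f ∈ (T1 G).lev d ↔ (∀ v, f v ∈ G.lev (d - 1)) ∧ ∑ v, G.x v (f v) = 0 := Iff.rfl

theorem mu_T1x (G : GM k n) (v : Fin n) (f : Fin n → G.N) :
    mu G ((T1 G).x v f) = G.x v (mu G f) := by
  rw [mu_apply, mu_apply, map_sum]
  refine Finset.sum_congr rfl fun w _ => ?_
  exact G.comm w v (f w)

/-- vanishing of Koszul homology -/
def HV (G : GM k n) (p : ℕ) (j : ℤ) : Prop := HV' G.lev G.x p j

/-- the piece of degree `d` lies in the irrelevant ideal times the module -/
def Gen (G : GM k n) (d : ℤ) : Prop :=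
  ∀ a ∈ G.lev d, ∃ f : Fin n → G.N, (∀ v, f v ∈ G.lev (d - 1)) ∧ a = ∑ v, G.x v (f v)

/-- iterated linear syzygies -/
def Tn : ℕ → GM k n → GM k n
  | 0, G => G
  | i + 1, G => Tn i (T1 G)

theorem Tn_zero (G : GM k n) : Tn 0 G = G := rfl

theorem Tn_succ (i : ℕ) (G : GM k n) : Tn (i + 1) G = Tn i (T1 G) := rfl

theorem sU_zero (w : Fin n) {X : Type*} [AddCommGroup X] :
    sU w (0 : Finset (Fin n) → X) = 0 := by
  funext I
  unfold sU
  split_ifs <;> simp

/-- The main vanishing theorem. -/
theorem HV_of_gen : ∀ (p : ℕ) (G : GM k n) (j : ℤ),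
    (∀ i : ℕ, i ≤ p → Gen (Tn i G) (j - p + i)) → HV G p j := by
  intro p
  induction p with
  | zero =>
    intro G j hgen z hz hlev _
    have h0 := hgen 0 le_rfl
    have e : j - ((0 : ℕ) : ℤ) + ((0 : ℕ) : ℤ) = j - ((0 : ℕ) : ℤ) := by simp
    rw [e, Tn_zero] at h0
    obtain ⟨f, hf1, hf2⟩ := h0 (z ∅) (hlev ∅)
    refine ⟨sc f, sc_supp f, fun I => sc_mem hf1 I, ?_⟩
    rw [kd_sc, eq_pc_of_supp_zero hz]
    funext J
    unfold pc
    split_ifs
    · exact hf2.symm
    · rfl
  | succ p ih =>
    intro G j hgen z hz hlev hcyc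
    set d : ℤ := j - ((p + 1 : ℕ) : ℤ) with hd
    have hgen0 : Gen G d := by
      have h := hgen 0 (Nat.zero_le _)
      have e : j - ((p + 1 : ℕ) : ℤ) + ((0 : ℕ) : ℤ) = d := by simp [hd]
      rw [e, Tn_zero] at h
      exact h
    have hlift : ∀ I, ∃ f : Fin n → G.N, (∀ v, f v ∈ G.lev (d - 1)) ∧
        z I = ∑ v, G.x v (f v) := fun I => hgen0 (z I) (hlev I)
    choose b₀ hb₀1 hb₀2 using hlift
    let b : Finset (Fin n) → (Fin n → G.N) := fun I => if I.card = p + 1 then b₀ I else 0
    have hbS : Supp (p + 1) b := fun I hI => if_neg hI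
    have hb1 : ∀ I v, b I v ∈ G.lev (d - 1) := by
      intro I v
      show (if I.card = p + 1 then b₀ I else 0) v ∈ _
      split_ifs
      · exact hb₀1 I v
      · exact (G.lev _).zero_mem
    have hbμ : ∀ I, mu G (b I) = z I := by
      intro I
      show mu G (if I.card = p + 1 then b₀ I else 0) = z I
      split_ifs with h
      · rw [mu_apply]
        exact (hb₀2 I).symm
      · rw [map_zero, hz I h]
    have hcS : Supp p (kd (T1 G).x b) := kd_supp _ hbS
    have hcμ : (fun J => mu G (kd (T1 G).x b J)) = 0 := by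
      rw [kd_comp (T1 G).x G.x (mu G) (mu G) (fun v a => mu_T1x G v a) b]
      have h : (fun I => mu G (b I)) = z := funext hbμ
      rw [h, hcyc]
    have hproj : ∀ (m : Finset (Fin n) → (Fin n → G.N)) (w : Fin n),
        (fun J => kd (T1 G).x m J w) = kd G.x (fun I => m I w) := fun m w =>
      kd_comp (T1 G).x G.x (LinearMap.proj w) (LinearMap.proj w) (fun v a => rfl) m
    have hclev : ∀ J, kd (T1 G).x b J ∈ (T1 G).lev (d + 1) := by
      intro J
      refine ⟨fun w => ?_, ?_⟩
      · have hw : kd (T1 G).x b J w = kd G.x (fun I => b I w) J := congrFun (hproj b w) J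
        rw [hw]
        have h := kd_mem G.x (L' := G.lev (d - 1)) (L := G.lev (d - 1 + 1))
          (fun v a ha => G.x_mem v _ a ha) (fun I => hb1 I w) J
        rwa [show d - 1 + 1 = d + 1 - 1 by ring] at h
      · have h := congrFun hcμ J
        rw [mu_apply] at h
        exact h
    have hccyc : kd (T1 G).x (kd (T1 G).x b) = 0 :=
      kd_kd (T1 G).x (T1 G).x (T1 G).comm b
    have hIH : HV (T1 G) p j := by
      apply ih
      intro i hi
      have h := hgen (i + 1) (Nat.succ_le_succ hi)
      have e : d + ((i + 1 : ℕ) : ℤ) = j - (p : ℤ) + (i : ℤ) := by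
        rw [hd]
        push_cast
        ring
      rw [e, Tn_succ] at h
      exact h
    have hdp : d + 1 = j - (p : ℤ) := by
      rw [hd]
      push_cast
      ring
    obtain ⟨a, haS, halev, hakd⟩ := hIH (kd (T1 G).x b) hcS
      (fun J => by rw [← hdp]; exact hclev J) hccyc
    have halev' : ∀ I, a I ∈ (T1 G).lev d := fun I => by
      have h := halev I
      rwa [show j - (p : ℤ) - 1 = d by rw [hd]; push_cast; ring] at h
    have hb'S : Supp (p + 1) (b - a) := fun I hI => by
      show b I - a I = 0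
      rw [hbS I hI, haS I hI, sub_zero]
    have hb'cyc : kd (T1 G).x (b - a) = 0 := by
      rw [map_sub, hakd]
      exact sub_self _
    have hb'μ : ∀ I, mu G ((b - a) I) = z I := by
      intro I
      show mu G (b I - a I) = z I
      rw [map_sub, hbμ, mu_apply (f := a I), (halev' I).2, sub_zero]
    have hb'lev : ∀ I w, (b - a) I w ∈ G.lev (d - 1) := fun I w =>
      (G.lev _).sub_mem (hb1 I w) ((halev' I).1 w)
    have hb'w : ∀ w, kd G.x (fun I => (b - a) I w) = 0 := by
      intro w
      rw [← hproj (b - a) w, hb'cyc]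
      rfl
    refine ⟨∑ w, sU w (fun I => (b - a) I w), ?_, ?_, ?_⟩
    · intro I hI
      rw [Finset.sum_apply]
      refine Finset.sum_eq_zero fun w _ => ?_
      refine sU_supp w (fun I' hI' => ?_) I hI
      show (b - a) I' w = 0
      rw [hb'S I' hI']
      rfl
    · intro I
      rw [Finset.sum_apply]
      refine Submodule.sum_mem _ fun w _ => ?_
      exact sU_mem (k := k) w (L := G.lev (d - 1)) (fun I' => hb'lev I' w) I
    · rw [map_sum]
      have hw : ∀ w, kd G.x (sU w (fun I => (b - a) I w)) = fun J => G.x w ((b - a) J w) := by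
        intro w
        have h := kd_sU G.x w (fun I => (b - a) I w)
        rw [hb'w w, sU_zero, add_zero] at h
        exact h
      rw [Finset.sum_congr rfl fun w _ => hw w]
      funext J
      rw [Finset.sum_apply, ← hb'μ J, mu_apply]

end Groth.Agent.Lib.KzH1
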