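import Groth.Agent.Lib.KzB_helper1
import Groth.Agent.Lib.GrSyz5_helper1

/-!
# Koszul acyclicity of the polynomial ring in graded strands, and the link between Koszul
homology and minimal graded free resolutions (helper1)
-/

set_option autoImplicit false

namespace Groth.Agent.Lib.KzH1

open DirectSum Groth.Agent.Lib.GrSyz3H1 Groth.Agent.Lib.GrSyzH1 Groth.Agent.Lib.GrSyz5H1

universe u

section poly

variable (k : Type u) [Field k] (n : ℕ)

theorem X_mem (v : Fin n) :
    (MvPolynomial.X v : MvPolynomial (Fin n) k) ∈ GrSyz.stdGr k (Fin n) 1 :=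
  MvPolynomial.isWeightedHomogeneous_X k (fun _ : Fin n => (1 : ℤ)) v

variable {k n}

/-- homogeneous elements of an ideal generated by variables have homogeneous coefficients -/
theorem homGen {g : ℤ} {a : MvPolynomial (Fin n) k} (ha : a ∈ GrSyz.stdGr k (Fin n) g)
    (s : Set (Fin n))
    (hs : a ∈ Ideal.span ((MvPolynomial.X : Fin n → MvPolynomial (Fin n) k) '' s)) :
    ∃ c : Fin n → MvPolynomial (Fin n) k, (∀ v, c v ∈ GrSyz.stdGr k (Fin n) (g - 1)) ∧
      (∀ v, v ∉ s → c v = 0) ∧ a = ∑ v, MvPolynomial.X v * c v := by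
  classical
  let gens : Fin n → MvPolynomial (Fin n) k := fun v => if v ∈ s then MvPolynomial.X v else 0
  have hle : Ideal.span ((MvPolynomial.X : Fin n → MvPolynomial (Fin n) k) '' s) ≤
      Ideal.span (Set.range gens) := by
    apply Ideal.span_le.mpr
    rintro _ ⟨v, hv, rfl⟩
    exact Ideal.subset_span ⟨v, if_pos hv⟩
  obtain ⟨c', hc'⟩ := Ideal.mem_span_range_iff_exists_fun.mp (hle hs)
  refine ⟨fun v => if v ∈ s then (decompose (GrSyz.stdGr k (Fin n)) (c' v) (g - 1) :
    MvPolynomial (Fin n) k) else 0, ?_, ?_, ?_⟩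
  · intro v
    show (if v ∈ s then _ else _) ∈ _
    split_ifs
    · exact (decompose (GrSyz.stdGr k (Fin n)) (c' v) (g - 1)).2
    · exact Submodule.zero_mem _
  · intro v hv
    exact if_neg hv
  · have h1 : a = (decompose (GrSyz.stdGr k (Fin n)) a g : MvPolynomial (Fin n) k) :=
      (decompose_of_mem_same _ ha).symm
    rw [h1, ← hc', coe_decompose_sum' (GrSyz.stdGr k (Fin n))]
    refine Finset.sum_congr rfl fun v _ => ?_
    show (decompose (GrSyz.stdGr k (Fin n)) (c' v * (if v ∈ s then MvPolynomial.X v else 0)) g :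
      MvPolynomial (Fin n) k) = MvPolynomial.X v * (if v ∈ s then _ else 0)
    split_ifs with hv
    · have e : g = (g - 1) + 1 := by ring
      rw [e, DirectSum.coe_decompose_mul_add_of_right_mem (GrSyz.stdGr k (Fin n)) (X_mem k n v),
        mul_comm]
      rw [← e]
    · rw [mul_zero, mul_zero, decompose_zero, DirectSum.zero_apply, Submodule.coe_zero]

theorem mem_span_X_of_pos {g : ℤ} {a : MvPolynomial (Fin n) k}
    (ha : a ∈ GrSyz.stdGr k (Fin n) g) (hg : 0 < g) :
    a ∈ Ideal.span ((MvPolynomial.X : Fin n → MvPolynomial (Fin n) k) '' Set.univ) := by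
  rw [MvPolynomial.mem_ideal_span_X_image]
  intro m hm
  have hw : Finsupp.weight (fun _ : Fin n => (1 : ℤ)) m = g :=
    ha (MvPolynomial.mem_support_iff.mp hm)
  by_contra hcon
  have hm0 : m = 0 := by
    ext i
    by_contra hi
    exact hcon ⟨i, Set.mem_univ i, hi⟩
  rw [hm0, map_zero] at hw
  omega

/-- homogeneous elements of the irrelevant ideal -/
theorem homGen_irr {g : ℤ} {a : MvPolynomial (Fin n) k} (ha : a ∈ GrSyz.stdGr k (Fin n) g)
    (hm : a ∈ irr k (Fin n)) :
    ∃ c : Fin n → MvPolynomial (Fin n) k, (∀ v, c v ∈ GrSyz.stdGr k (Fin n) (g - 1)) ∧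
      a = ∑ v, MvPolynomial.X v * c v := by
  by_cases hg : 0 < g
  · obtain ⟨c, hc1, -, hc3⟩ := homGen ha Set.univ (mem_span_X_of_pos ha hg)
    exact ⟨c, hc1, hc3⟩
  · have h0 : a = 0 := entry_zero ha (not_lt.mp hg) hm
    exact ⟨fun _ => 0, fun _ => Submodule.zero_mem _, by simp [h0]⟩

theorem reg_X (u : Fin n) {a : MvPolynomial (Fin n) k}
    (h : MvPolynomial.X u * a ∈
      Ideal.span ((MvPolynomial.X : Fin n → MvPolynomial (Fin n) k) '' {v | v < u})) :
    a ∈ Ideal.span ((MvPolynomial.X : Fin n → MvPolynomial (Fin n) k) '' {v | v < u}) := by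
  rw [MvPolynomial.mem_ideal_span_X_image] at h ⊢
  intro m hm
  have hm' : Finsupp.single u 1 + m ∈ (MvPolynomial.X u * a).support := by
    rw [MvPolynomial.mem_support_iff, MvPolynomial.coeff_X_mul]
    exact MvPolynomial.mem_support_iff.mp hm
  obtain ⟨i, hi, hne⟩ := h _ hm'
  refine ⟨i, hi, ?_⟩
  have hiu : u ≠ i := (ne_of_lt hi).symm
  rwa [Finsupp.add_apply, Finsupp.single_apply, if_neg hiu, zero_add] at hne

variable (k n)

/-- the polynomial ring as a graded module over itself -/
@[reducible] noncomputable def GS : GM k n where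
  N := MvPolynomial (Fin n) k
  lev := fun d => GrSyz.stdGr k (Fin n) d
  x v := LinearMap.mulLeft k (MvPolynomial.X v)
  x_mem := by
    intro v d a ha
    have h := SetLike.GradedMul.mul_mem (A := GrSyz.stdGr k (Fin n)) (X_mem k n v) ha
    rwa [add_comm] at h
  comm := by
    intro v w a
    show MvPolynomial.X v * (MvPolynomial.X w * a) = MvPolynomial.X w * (MvPolynomial.X v * a)
    ring

theorem GS_x_apply (v : Fin n) (a : MvPolynomial (Fin n) k) :
    (GS k n).x v a = MvPolynomial.X v * a := rfl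

/-- chains not involving the variables of index `≥ m` -/
def SuppIn (m : ℕ) {X : Type*} [Zero X] (z : Finset (Fin n) → X) : Prop :=
  ∀ I : Finset (Fin n), (∃ v ∈ I, m ≤ (v : ℕ)) → z I = 0

variable {k n}

/-- Koszul acyclicity in the first `m` variables -/
def AC (k : Type u) [Field k] (n m : ℕ) : Prop :=
  ∀ (t : ℕ) (g : ℤ) (z : Finset (Fin n) → MvPolynomial (Fin n) k),
    Supp (t + 1) z → SuppIn n m z → (∀ I, z I ∈ GrSyz.stdGr k (Fin n) g) →
    kd (GS k n).x z = 0 →
    ∃ y : Finset (Fin n) → MvPolynomial (Fin n) k, Supp (t + 1 + 1) y ∧ SuppIn n m y ∧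
      (∀ I, y I ∈ GrSyz.stdGr k (Fin n) (g - 1)) ∧ kd (GS k n).x y = z

theorem AC_zero : AC k n 0 := by
  intro t g z hzS hzI _ _
  have hz0 : z = 0 := by
    funext I
    rcases Finset.eq_empty_or_nonempty I with rfl | ⟨v, hv⟩
    · exact hzS ∅ (by simp)
    · exact hzI I ⟨v, hv, Nat.zero_le _⟩
  refine ⟨0, fun _ _ => rfl, fun _ _ => rfl, fun _ => Submodule.zero_mem _, ?_⟩
  rw [map_zero, hz0]

theorem AC_succ (m : ℕ) (hm : m < n) (ih : AC k n m) : AC k n (m + 1) := by
  intro t g z hzS hzI hzlev hzcyc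
  let u : Fin n := ⟨m, hm⟩
  let z'' : Finset (Fin n) → MvPolynomial (Fin n) k :=
    fun I => if u ∈ I then 0 else z (insert u I)
  have hz''S : Supp t z'' := by
    intro I hI
    show (if u ∈ I then 0 else z (insert u I)) = 0
    split_ifs with hu
    · rfl
    · exact hzS _ (by rw [Finset.card_insert_of_notMem hu]; omega)
  have hz''I : SuppIn n m z'' := by
    rintro I ⟨v, hvI, hmv⟩
    show (if u ∈ I then 0 else z (insert u I)) = 0
    split_ifs with hu
    · rfl
    · apply hzI
      refine ⟨v, Finset.mem_insert_of_mem hvI, ?_⟩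
      have hvu : v ≠ u := fun h => hu (h ▸ hvI)
      have h2 : (v : ℕ) ≠ m := fun h => hvu (Fin.ext h)
      omega
  have hz''lev : ∀ I, z'' I ∈ GrSyz.stdGr k (Fin n) g := by
    intro I
    show (if u ∈ I then 0 else z (insert u I)) ∈ _
    split_ifs
    · exact Submodule.zero_mem _
    · exact hzlev _
  have hz''cyc : kd (GS k n).x z'' = 0 := by
    funext J
    rw [kd_apply]
    by_cases huJ : u ∈ J
    · apply Finset.sum_eq_zero
      intro v _
      have h1 : z'' (insert v J) = 0 := if_pos (Finset.mem_insert_of_mem huJ)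
      rw [h1, map_zero, smul_zero]
    · have h0 : kd (GS k n).x z (insert u J) = 0 := by
        rw [hzcyc]
        rfl
      rw [kd_apply, Finset.compl_insert] at h0
      rw [Pi.zero_apply, ← h0]
      have hu0 : eps u J • (GS k n).x u (z'' (insert u J)) = 0 := by
        have h1 : z'' (insert u J) = 0 := if_pos (Finset.mem_insert_self u J)
        rw [h1, map_zero, smul_zero]
      rw [← Finset.sum_erase Jᶜ (f := fun v => eps v J • (GS k n).x v (z'' (insert v J))) hu0]
      refine Finset.sum_congr rfl fun v hv => ?_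
      rw [Finset.mem_erase, Finset.mem_compl] at hv
      obtain ⟨hvu, hvJ⟩ := hv
      have h1 : z'' (insert v J) = z (insert v (insert u J)) := by
        show (if u ∈ insert v J then 0 else z (insert u (insert v J))) = _
        have hn : u ∉ insert v J := by
          rw [Finset.mem_insert]
          rintro (h | h)
          · exact hvu h.symm
          · exact huJ h
        rw [if_neg hn, Finset.insert_comm]
      rw [h1]
      by_cases hlt : u < v
      · have hlt' : m < (v : ℕ) := hlt
        have h2 : z (insert v (insert u J)) = 0 :=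
          hzI _ ⟨v, Finset.mem_insert_self _ _, by omega⟩
        rw [h2, map_zero, smul_zero, smul_zero]
      · rw [eps_insert_not_lt hlt]
  have hy'' : ∃ y'' : Finset (Fin n) → MvPolynomial (Fin n) k, Supp (t + 1) y'' ∧
      SuppIn n m y'' ∧ (∀ I, y'' I ∈ GrSyz.stdGr k (Fin n) (g - 1)) ∧
      kd (GS k n).x y'' = z'' := by
    cases t with
    | succ t' => exact ih t' g z'' hz''S hz''I hz''lev hz''cyc
    | zero =>
      have hsum : ∑ v, MvPolynomial.X v * z (insert v ∅) = 0 := by
        have h0 : kd (GS k n).x z ∅ = 0 := by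
          rw [hzcyc]
          rfl
        rw [kd_apply, Finset.compl_empty] at h0
        rw [← h0]
        refine Finset.sum_congr rfl fun v _ => ?_
        rw [eps_empty, one_smul]
        rfl
      have hXu : MvPolynomial.X u * z (insert u ∅) ∈
          Ideal.span ((MvPolynomial.X : Fin n → MvPolynomial (Fin n) k) '' {v | v < u}) := by
        have h1 := Finset.add_sum_erase Finset.univ
          (fun v => MvPolynomial.X v * z (insert v ∅)) (Finset.mem_univ u)
        rw [hsum] at h1
        have h2 : MvPolynomial.X u * z (insert u ∅) =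
            -∑ v ∈ Finset.univ.erase u, MvPolynomial.X v * z (insert v ∅) :=
          eq_neg_of_add_eq_zero_left h1
        rw [h2]
        apply Ideal.neg_mem_iff _ |>.mpr
        refine Ideal.sum_mem _ fun v hv => ?_
        rw [Finset.mem_erase] at hv
        rcases lt_or_gt_of_ne hv.1 with h | h
        · exact Ideal.mul_mem_right _ _ (Ideal.subset_span ⟨v, h, rfl⟩)
        · have hlt' : m < (v : ℕ) := h
          have h3 : z (insert v ∅) = 0 := hzI _ ⟨v, Finset.mem_insert_self _ _, by omega⟩
          rw [h3, mul_zero]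
          exact Ideal.zero_mem _
      obtain ⟨c, hc1, hc2, hc3⟩ := homGen (hzlev (insert u ∅)) {v | v < u} (reg_X u hXu)
      refine ⟨sc c, sc_supp c, ?_, fun I => sc_mem hc1 I, ?_⟩
      · rintro I ⟨v, hvI, hmv⟩
        unfold sc
        apply Finset.sum_eq_zero
        intro w _
        split_ifs with hIw
        · apply hc2
          rw [hIw, Finset.mem_singleton] at hvI
          show ¬ w < u
          rw [← hvI]
          intro hlt
          have hlt' : (v : ℕ) < m := hlt
          omega
        · rfl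
      · rw [kd_sc, eq_pc_of_supp_zero hz''S]
        funext J
        unfold pc
        split_ifs
        · show ∑ v, MvPolynomial.X v * c v = (if u ∈ (∅ : Finset (Fin n)) then 0 else z (insert u ∅))
          rw [if_neg (Finset.notMem_empty u), ← hc3]
        · rfl
  obtain ⟨y'', hy''S, hy''I, hy''lev, hy''kd⟩ := hy''
  have hw_kd : kd (GS k n).x (sU u y'') =
      (fun J => MvPolynomial.X u * y'' J) - sU u z'' := by
    have h := kd_sU (GS k n).x u y''
    rw [hy''kd] at h
    exact eq_sub_of_add_eq h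
  have hwS : Supp (t + 1 + 1) (sU u y'') := sU_supp u hy''S
  have hwlev : ∀ I, sU u y'' I ∈ GrSyz.stdGr k (Fin n) (g - 1) := sU_mem (k := k) u hy''lev
  have hss : ((-1 : ℤ) ^ t) * ((-1 : ℤ) ^ t) = 1 := by
    rw [← mul_pow]
    simp
  have hztS : Supp (t + 1) (z + ((-1 : ℤ) ^ t) • kd (GS k n).x (sU u y'')) := by
    intro I hI
    show z I + ((-1 : ℤ) ^ t) • kd (GS k n).x (sU u y'') I = 0
    rw [hzS I hI, kd_supp (GS k n).x hwS I hI, smul_zero, add_zero]
  have hztlev : ∀ I, (z + ((-1 : ℤ) ^ t) • kd (GS k n).x (sU u y'')) I ∈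
      GrSyz.stdGr k (Fin n) g := by
    intro I
    show z I + ((-1 : ℤ) ^ t) • kd (GS k n).x (sU u y'') I ∈ _
    refine Submodule.add_mem _ (hzlev I) (zsmul_mem ?_ _)
    have h := kd_mem (GS k n).x (L' := GrSyz.stdGr k (Fin n) (g - 1))
      (L := GrSyz.stdGr k (Fin n) (g - 1 + 1)) (fun v a ha => (GS k n).x_mem v _ a ha) hwlev I
    rwa [sub_add_cancel] at h
  have hztcyc : kd (GS k n).x (z + ((-1 : ℤ) ^ t) • kd (GS k n).x (sU u y'')) = 0 := by
    rw [map_add, map_zsmul, hzcyc, kd_kd (GS k n).x (GS k n).x (GS k n).comm, smul_zero, add_zero]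
  have hztI : SuppIn n m (z + ((-1 : ℤ) ^ t) • kd (GS k n).x (sU u y'')) := by
    rintro I ⟨v, hvI, hmv⟩
    show z I + ((-1 : ℤ) ^ t) • kd (GS k n).x (sU u y'') I = 0
    rw [hw_kd]
    show z I + ((-1 : ℤ) ^ t) • (MvPolynomial.X u * y'' I - sU u z'' I) = 0
    have hy0 : y'' I = 0 := hy''I I ⟨v, hvI, hmv⟩
    rw [hy0, mul_zero, zero_sub]
    by_cases huI : u ∈ I
    · have h1 : sU u z'' I = eps u (I.erase u) • z I := by
        unfold sU
        rw [if_pos huI]
        congr 1
        show (if u ∈ I.erase u then 0 else z (insert u (I.erase u))) = z I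
        rw [if_neg (Finset.notMem_erase u I), Finset.insert_erase huI]
      rw [h1]
      by_cases hzI0 : z I = 0
      · rw [hzI0]
        simp
      · have hcard : I.card = t + 1 := by
          by_contra h
          exact hzI0 (hzS I h)
        have hall : ∀ w ∈ I, (w : ℕ) ≤ m := by
          intro w hw
          by_contra h
          exact hzI0 (hzI I ⟨w, hw, by omega⟩)
        have hfil : (I.erase u).filter (· < u) = I.erase u := by
          apply Finset.filter_true_of_mem
          intro w hw
          rw [Finset.mem_erase] at hw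
          have h1 := hall w hw.2
          have h2 : (w : ℕ) ≠ m := fun h => hw.1 (Fin.ext h)
          show (w : ℕ) < m
          omega
        have heps : eps u (I.erase u) = (-1 : ℤ) ^ t := by
          unfold eps
          rw [hfil, Finset.card_erase_of_mem huI, hcard, Nat.add_sub_cancel]
        rw [heps, smul_neg, smul_smul, hss, one_smul, add_neg_cancel]
    · have h1 : sU u z'' I = 0 := if_neg huI
      have hvu : v ≠ u := fun h => huI (h ▸ hvI)
      have h2 : (v : ℕ) ≠ m := fun h => hvu (Fin.ext h)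
      rw [h1, neg_zero, smul_zero, add_zero]
      exact hzI I ⟨v, hvI, by omega⟩
  obtain ⟨yt, hytS, hytI, hytlev, hytkd⟩ := ih t g _ hztS hztI hztlev hztcyc
  refine ⟨yt - ((-1 : ℤ) ^ t) • sU u y'', ?_, ?_, ?_, ?_⟩
  · intro I hI
    show yt I - ((-1 : ℤ) ^ t) • sU u y'' I = 0
    rw [hytS I hI, hwS I hI, smul_zero, sub_zero]
  · rintro I ⟨v, hvI, hmv⟩
    show yt I - ((-1 : ℤ) ^ t) • sU u y'' I = 0
    have h1 : yt I = 0 := hytI I ⟨v, hvI, by omega⟩
    have h2 : sU u y'' I = 0 := by
      unfold sU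
      split_ifs with huI
      · have hvu : v ≠ u := by
          intro h
          have h3 : (v : ℕ) = m := congrArg Fin.val h
          omega
        rw [hy''I (I.erase u) ⟨v, Finset.mem_erase.mpr ⟨hvu, hvI⟩, by omega⟩, smul_zero]
      · rfl
    rw [h1, h2, smul_zero, sub_zero]
  · intro I
    show yt I - ((-1 : ℤ) ^ t) • sU u y'' I ∈ _
    exact Submodule.sub_mem _ (hytlev I) (zsmul_mem (hwlev I) _)
  · rw [map_sub, map_zsmul, hytkd, add_sub_cancel_right]

theorem AC_all : ∀ m : ℕ, m ≤ n → AC k n m := by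
  intro m
  induction m with
  | zero => exact fun _ => AC_zero
  | succ m ih => exact fun hm => AC_succ m hm (ih (Nat.le_of_succ_le hm))

theorem HV_GS (t : ℕ) (j : ℤ) : HV (GS k n) (t + 1) j := by
  intro z hz hlev hcyc
  obtain ⟨y, hy1, -, hy3, hy4⟩ := AC_all n le_rfl t _ z hz
    (fun I ⟨v, _, hv⟩ => absurd v.2 (not_lt.mpr hv)) hlev hcyc
  exact ⟨y, hy1, hy3, hy4⟩

end poly

end Groth.Agent.Lib.KzH1
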