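import Groth.Agent.Lib.KzD_helper1

/-!
# Iterated linear syzygies as functions on words, and the vanishing of graded Betti numbers
(helper1)
-/

set_option autoImplicit false

namespace Groth.Agent.Lib.KzH1

open DirectSum Groth.Agent.Lib.GrSyz3H1 Groth.Agent.Lib.GrSyzH1 Groth.Agent.Lib.GrSyz5H1

universe u

section equivs

variable (k : Type u) [CommRing k] (n : ℕ)

/-- functions on the empty word -/
def zeroE (M : Type u) [AddCommGroup M] [Module k M] : M ≃ₗ[k] ((Fin 0 → Fin n) → M) where
  toFun a := fun _ => a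
  invFun m := m (fun j => j.elim0)
  left_inv _ := rfl
  right_inv m := by
    funext c
    exact congrArg m (Subsingleton.elim _ _)
  map_add' _ _ := rfl
  map_smul' _ _ := rfl

/-- currying the last letter of a word -/
def curryE (i : ℕ) (M : Type u) [AddCommGroup M] [Module k M] :
    ((Fin i → Fin n) → (Fin n → M)) ≃ₗ[k] ((Fin (i + 1) → Fin n) → M) where
  toFun m := fun c => m (Fin.init c) (c (Fin.last i))
  invFun m' := fun c w => m' (Fin.snoc c w)
  left_inv m := by
    funext c w
    show m (Fin.init (Fin.snoc c w : Fin (i + 1) → Fin n))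
      ((Fin.snoc c w : Fin (i + 1) → Fin n) (Fin.last i)) = m c w
    rw [Fin.init_snoc, Fin.snoc_last]
  right_inv m' := by
    funext c
    show m' (Fin.snoc (Fin.init c) (c (Fin.last i))) = m' c
    rw [Fin.snoc_init_self]
  map_add' _ _ := rfl
  map_smul' _ _ := rfl

variable {k n}

theorem curryE_update_last {i : ℕ} {M : Type u} [AddCommGroup M] [Module k M]
    (m : (Fin i → Fin n) → (Fin n → M)) (c : Fin (i + 1) → Fin n) (v : Fin n) :
    curryE k n i M m (Function.update c (Fin.last i) v) = m (Fin.init c) v := by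
  show m (Fin.init (Function.update c (Fin.last i) v))
    (Function.update c (Fin.last i) v (Fin.last i)) = _
  rw [Fin.init_update_last, Function.update_self]

theorem curryE_update_castSucc {i : ℕ} {M : Type u} [AddCommGroup M] [Module k M]
    (m : (Fin i → Fin n) → (Fin n → M)) (c : Fin (i + 1) → Fin n) (s : Fin i) (v : Fin n) :
    curryE k n i M m (Function.update c s.castSucc v) =
      m (Function.update (Fin.init c) s v) (c (Fin.last i)) := by
  show m (Fin.init (Function.update c s.castSucc v))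
    (Function.update c s.castSucc v (Fin.last i)) = _
  rw [Fin.init_update_castSucc, Function.update_of_ne (Fin.castSucc_ne_last s).symm]

theorem curryE_snoc {i : ℕ} {M : Type u} [AddCommGroup M] [Module k M]
    (m : (Fin i → Fin n) → (Fin n → M)) (c : Fin i → Fin n) (w : Fin n) :
    curryE k n i M m (Fin.snoc c w) = m c w := by
  show m (Fin.init (Fin.snoc c w : Fin (i + 1) → Fin n))
    ((Fin.snoc c w : Fin (i + 1) → Fin n) (Fin.last i)) = m c w
  rw [Fin.init_snoc, Fin.snoc_last]

end equivs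

section iso

variable {n : ℕ} {k : Type u} [CommRing k]

/-- isomorphism of graded modules -/
structure GIso (G G' : GM k n) where
  e : G.N ≃ₗ[k] G'.N
  lev : ∀ d a, a ∈ G.lev d ↔ e a ∈ G'.lev d
  x : ∀ v a, e (G.x v a) = G'.x v (e a)

/-- composition of isomorphisms -/
def GIso.trans {G G' G'' : GM k n} (I : GIso G G') (I' : GIso G' G'') : GIso G G'' where
  e := I.e.trans I'.e
  lev d a := (I.lev d a).trans (I'.lev d (I.e a))
  x v a := by
    show I'.e (I.e (G.x v a)) = G''.x v (I'.e (I.e a))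
    rw [I.x, I'.x]

theorem Gen_of_iso {G G' : GM k n} (I : GIso G G') {d : ℤ} (h : Gen G' d) : Gen G d := by
  intro a ha
  obtain ⟨f, hf1, hf2⟩ := h (I.e a) ((I.lev d a).mp ha)
  refine ⟨fun v => I.e.symm (f v), fun v => ?_, ?_⟩
  · rw [I.lev (d - 1), LinearEquiv.apply_symm_apply]
    exact hf1 v
  · apply I.e.injective
    rw [hf2, map_sum]
    refine Finset.sum_congr rfl fun v _ => ?_
    rw [I.x, LinearEquiv.apply_symm_apply]

/-- the explicit model of iterated linear syzygies: functions on words -/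
@[reducible] def TW (i : ℕ) (G : GM k n) : GM k n where
  N := (Fin i → Fin n) → G.N
  lev d :=
    { carrier := {m | (∀ c, m c ∈ G.lev (d - (i : ℤ))) ∧
        ∀ (s : Fin i) (c : Fin i → Fin n), ∑ v, G.x v (m (Function.update c s v)) = 0}
      add_mem' := by
        rintro f g ⟨hf1, hf2⟩ ⟨hg1, hg2⟩
        refine ⟨fun c => (G.lev _).add_mem (hf1 c) (hg1 c), fun s c => ?_⟩
        simp only [Pi.add_apply, map_add, Finset.sum_add_distrib, hf2 s c, hg2 s c, add_zero]
      zero_mem' := ⟨fun c => (G.lev _).zero_mem, fun s c => by simp⟩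
      smul_mem' := by
        rintro a f ⟨hf1, hf2⟩
        refine ⟨fun c => (G.lev _).smul_mem a (hf1 c), fun s c => ?_⟩
        simp only [Pi.smul_apply, map_smul, ← Finset.smul_sum, hf2 s c, smul_zero] }
  x v := (G.x v).compLeft (Fin i → Fin n)
  x_mem := by
    rintro v d f ⟨hf1, hf2⟩
    refine ⟨fun c => ?_, fun s c => ?_⟩
    · have h := G.x_mem v (d - (i : ℤ)) (f c) (hf1 c)
      rwa [show d - (i : ℤ) + 1 = d + 1 - (i : ℤ) by ring] at h
    · show ∑ w, G.x w (G.x v (f (Function.update c s w))) = 0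
      have h : ∀ w, G.x w (G.x v (f (Function.update c s w))) =
          G.x v (G.x w (f (Function.update c s w))) := fun w => G.comm w v _
      simp_rw [h]
      rw [← map_sum, hf2 s c, map_zero]
  comm := by
    intro v w f
    funext c
    exact G.comm v w (f c)

/-- words of length zero -/
def zeroIso (G : GM k n) : GIso G (TW 0 G) where
  e := zeroE k n G.N
  lev d a := by
    have e0 : d - ((0 : ℕ) : ℤ) = d := by simp
    constructor
    · intro ha
      refine ⟨fun c => ?_, fun s => s.elim0⟩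
      show a ∈ G.lev (d - ((0 : ℕ) : ℤ))
      rw [e0]
      exact ha
    · rintro ⟨h1, -⟩
      have h : a ∈ G.lev (d - ((0 : ℕ) : ℤ)) := h1 (fun j => j.elim0)
      rw [e0] at h
      exact h
  x v a := rfl

/-- currying the last letter -/
def curryIso (i : ℕ) (G : GM k n) : GIso (TW i (T1 G)) (TW (i + 1) G) where
  e := curryE k n i G.N
  lev d m := by
    have e : d - ((i + 1 : ℕ) : ℤ) = d - (i : ℤ) - 1 := by
      push_cast
      ring
    constructor
    · rintro ⟨hA, hC⟩
      refine ⟨fun c => ?_, fun s c => ?_⟩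
      · have h := (hA (Fin.init c)).1 (c (Fin.last i))
        rw [e]
        exact h
      · induction s using Fin.lastCases with
        | last =>
          simp_rw [curryE_update_last]
          exact (hA (Fin.init c)).2
        | cast s =>
          simp_rw [curryE_update_castSucc]
          have h := congrFun (hC s (Fin.init c)) (c (Fin.last i))
          rw [Finset.sum_apply] at h
          exact h
    · rintro ⟨hA', hB'⟩
      refine ⟨fun c => ⟨fun w => ?_, ?_⟩, fun s c => ?_⟩
      · have h := hA' (Fin.snoc c w)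
        rw [curryE_snoc, e] at h
        exact h
      · rcases isEmpty_or_nonempty (Fin n) with hn | ⟨⟨w₀⟩⟩
        · exact Finset.sum_eq_zero fun v _ => (hn.false v).elim
        · have h := hB' (Fin.last i) (Fin.snoc c w₀)
          simp_rw [curryE_update_last, Fin.init_snoc] at h
          exact h
      · funext w
        rw [Finset.sum_apply]
        have h := hB' s.castSucc (Fin.snoc c w)
        simp_rw [curryE_update_castSucc, Fin.init_snoc, Fin.snoc_last] at h
        exact h
  x v a := rfl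

theorem tnIso : ∀ (i : ℕ) (G : GM k n), Nonempty (GIso (Tn i G) (TW i G)) := by
  intro i
  induction i with
  | zero =>
    intro G
    exact ⟨zeroIso G⟩
  | succ i ih =>
    intro G
    obtain ⟨I⟩ := ih (T1 G)
    exact ⟨I.trans (curryIso i G)⟩

end iso

section final

variable {k : Type u} [Field k] {r : ℕ}
    {R : Type u} [AddCommGroup R] [Module k R] [Module (MvPolynomial (Fin (r + 1)) k) R]
    [IsScalarTower k (MvPolynomial (Fin (r + 1)) k) R]
    (ℛ : ℤ → Submodule k R) [DirectSum.Decomposition ℛ]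
    [SetLike.GradedSMul (GrSyz.stdGr k (Fin (r + 1))) ℛ]

/-- valuewise homogeneous component -/
noncomputable def cmp (i : ℕ) (e : ℤ) (b : (Fin i → Fin (r + 1)) → R) :
    (Fin i → Fin (r + 1)) → R :=
  fun c => ((DirectSum.decompose ℛ (b c)) e : R)

theorem cmp_add (i : ℕ) (e : ℤ) (b b' : (Fin i → Fin (r + 1)) → R) :
    cmp ℛ i e (b + b') = cmp ℛ i e b + cmp ℛ i e b' := by
  funext c
  show ((DirectSum.decompose ℛ (b c + b' c)) e : R) =
    ((DirectSum.decompose ℛ (b c)) e : R) + ((DirectSum.decompose ℛ (b' c)) e : R)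
  rw [decompose_add, DirectSum.add_apply, Submodule.coe_add]

theorem cmp_zero (i : ℕ) (e : ℤ) : cmp ℛ i e (0 : (Fin i → Fin (r + 1)) → R) = 0 := by
  funext c
  show ((DirectSum.decompose ℛ (0 : R)) e : R) = 0
  rw [decompose_zero, DirectSum.zero_apply, Submodule.coe_zero]

theorem cmp_of_mem (i : ℕ) (e : ℤ) {b : (Fin i → Fin (r + 1)) → R} (h : ∀ c, b c ∈ ℛ e) :
    cmp ℛ i e b = b := by
  funext c
  exact decompose_of_mem_same ℛ (h c)

theorem cmp_smul_of_mem (i : ℕ) {g : ℤ} {b : (Fin i → Fin (r + 1)) → R} (h : ∀ c, b c ∈ ℛ g)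
    (s : MvPolynomial (Fin (r + 1)) k) (e : ℤ) :
    cmp ℛ i e (s • b) =
      ((DirectSum.decompose (GrSyz.stdGr k (Fin (r + 1))) s (e - g) :
        MvPolynomial (Fin (r + 1)) k)) • b := by
  funext c
  exact decompose_smul_of_mem' (GrSyz.stdGr k (Fin (r + 1))) ℛ (h c) s e

theorem TW_GR_x_apply (i : ℕ) (v : Fin (r + 1)) (b : (Fin i → Fin (r + 1)) → R) :
    (TW i (GR k r R ℛ)).x v b = (MvPolynomial.X v : MvPolynomial (Fin (r + 1)) k) • b := rfl

/-- generation of the module of iterated linear syzygies in low degrees gives `Gen` -/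
theorem Gen_TW_GR (i : ℕ) (d : ℤ)
    (hgen : ∀ m : (Fin i → Fin (r + 1)) → R,
      (∀ (s : Fin i) (c : Fin i → Fin (r + 1)), ∑ v : Fin (r + 1),
        (MvPolynomial.X v : MvPolynomial (Fin (r + 1)) k) • m (Function.update c s v) = 0) →
      m ∈ Submodule.span (MvPolynomial (Fin (r + 1)) k) {m' : (Fin i → Fin (r + 1)) → R |
        (∀ (s : Fin i) (c : Fin i → Fin (r + 1)), ∑ v : Fin (r + 1),
          (MvPolynomial.X v : MvPolynomial (Fin (r + 1)) k) • m' (Function.update c s v) = 0) ∧
        ∃ e : ℤ, e ≤ d - 1 ∧ ∀ c : Fin i → Fin (r + 1), m' c ∈ ℛ (e - (i : ℤ))}) :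
    Gen (TW i (GR k r R ℛ)) d := by
  intro a ha
  obtain ⟨ha1, ha2⟩ := ha
  have ha2' : ∀ (s : Fin i) (c : Fin i → Fin (r + 1)), ∑ v : Fin (r + 1),
      (MvPolynomial.X v : MvPolynomial (Fin (r + 1)) k) • a (Function.update c s v) = 0 := ha2
  have ha1' : ∀ c, a c ∈ ℛ (d - (i : ℤ)) := ha1
  let W : Submodule k ((Fin i → Fin (r + 1)) → R) :=
    (Submodule.pi Set.univ (fun _ : Fin (r + 1) => (TW i (GR k r R ℛ)).lev (d - 1))).map
      (mu (TW i (GR k r R ℛ)))
  have key : ∀ m ∈ Submodule.span (MvPolynomial (Fin (r + 1)) k)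
      {m' : (Fin i → Fin (r + 1)) → R |
        (∀ (s : Fin i) (c : Fin i → Fin (r + 1)), ∑ v : Fin (r + 1),
          (MvPolynomial.X v : MvPolynomial (Fin (r + 1)) k) • m' (Function.update c s v) = 0) ∧
        ∃ e : ℤ, e ≤ d - 1 ∧ ∀ c : Fin i → Fin (r + 1), m' c ∈ ℛ (e - (i : ℤ))},
      ∀ s : MvPolynomial (Fin (r + 1)) k, cmp ℛ i (d - (i : ℤ)) (s • m) ∈ W := by
    intro m hm
    refine Submodule.span_induction
      (p := fun m _ => ∀ s : MvPolynomial (Fin (r + 1)) k, cmp ℛ i (d - (i : ℤ)) (s • m) ∈ W)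
      ?_ ?_ ?_ ?_ hm
    · rintro m' ⟨hT, e, he, hv⟩ s
      have e1 : d - (i : ℤ) - (e - (i : ℤ)) = d - e := by ring
      have hts : cmp ℛ i (d - (i : ℤ)) (s • m') =
          ((DirectSum.decompose (GrSyz.stdGr k (Fin (r + 1))) s (d - e) :
            MvPolynomial (Fin (r + 1)) k)) • m' := by
        rw [cmp_smul_of_mem ℛ i hv s (d - (i : ℤ)), e1]
      rw [hts]
      have htm := (DirectSum.decompose (GrSyz.stdGr k (Fin (r + 1))) s (d - e)).2
      obtain ⟨cf, hc1, -, hc3⟩ := homGen htm Set.univ (mem_span_X_of_pos htm (by omega))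
      rw [hc3]
      refine Submodule.mem_map.mpr ⟨fun v => cf v • m',
        Submodule.mem_pi.mpr (fun v _ => ⟨fun c => ?_, fun s' c => ?_⟩), ?_⟩
      · have h := smul_mem_gr' (GrSyz.stdGr k (Fin (r + 1))) ℛ (hc1 v) (hv c)
        have e2 : d - e - 1 + (e - (i : ℤ)) = d - 1 - (i : ℤ) := by ring
        rw [e2] at h
        exact h
      · show ∑ w, (MvPolynomial.X w : MvPolynomial (Fin (r + 1)) k) •
          (cf v • m' (Function.update c s' w)) = 0
        have h : ∀ w, (MvPolynomial.X w : MvPolynomial (Fin (r + 1)) k) •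
            (cf v • m' (Function.update c s' w)) =
            cf v • ((MvPolynomial.X w : MvPolynomial (Fin (r + 1)) k) •
              m' (Function.update c s' w)) := fun w => smul_comm _ _ _
        rw [Finset.sum_congr rfl fun w _ => h w, ← Finset.smul_sum, hT s' c, smul_zero]
      · rw [mu_apply, Finset.sum_smul]
        refine Finset.sum_congr rfl fun v _ => ?_
        rw [mul_smul]
        exact TW_GR_x_apply ℛ i v _
    · intro s
      rw [smul_zero, cmp_zero]
      exact W.zero_mem
    · intro x y _ _ hx hy s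
      rw [smul_add, cmp_add]
      exact W.add_mem (hx s) (hy s)
    · intro t x _ hx s
      rw [smul_smul]
      exact hx (s * t)
  have h1 := key a (hgen a ha2') 1
  rw [one_smul, cmp_of_mem ℛ i _ ha1'] at h1
  obtain ⟨f, hf, hfa⟩ := Submodule.mem_map.mp h1
  refine ⟨f, fun v => (Submodule.mem_pi.mp hf) v (Set.mem_univ v), ?_⟩
  rw [← hfa, mu_apply]

/-- Green's vanishing theorem via iterated linear syzygies -/
theorem main18227 (p : ℕ) (j : ℤ)
    (hgen : ∀ i : ℕ, i ≤ p → ∀ m : (Fin i → Fin (r + 1)) → R,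
      (∀ (s : Fin i) (c : Fin i → Fin (r + 1)), ∑ v : Fin (r + 1),
        (MvPolynomial.X v : MvPolynomial (Fin (r + 1)) k) • m (Function.update c s v) = 0) →
      m ∈ Submodule.span (MvPolynomial (Fin (r + 1)) k) {m' : (Fin i → Fin (r + 1)) → R |
        (∀ (s : Fin i) (c : Fin i → Fin (r + 1)), ∑ v : Fin (r + 1),
          (MvPolynomial.X v : MvPolynomial (Fin (r + 1)) k) • m' (Function.update c s v) = 0) ∧
        ∃ e : ℤ, e ≤ j - (p : ℤ) + (i : ℤ) - 1 ∧
          ∀ c : Fin i → Fin (r + 1), m' c ∈ ℛ (e - (i : ℤ))})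
    (F : GrSyz.FreeRes (GrSyz.stdGr k (Fin (r + 1))) ℛ)
    (hF : F.IsMinimal (GrSyz.irrel (GrSyz.stdGr k (Fin (r + 1)))).toIdeal) :
    F.betti p j = 0 := by
  refine betti_eq_zero_of_HV k r R ℛ F hF p j (HV_of_gen p (GR k r R ℛ) j fun i hi => ?_)
  obtain ⟨I⟩ := tnIso i (GR k r R ℛ)
  exact Gen_of_iso I (Gen_TW_GR ℛ i (j - (p : ℤ) + (i : ℤ)) (hgen i hi))

end final

end Groth.Agent.Lib.KzH1
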