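import Mathlib
import Groth.Agent.Lib.ProdLoc_helper2

/-!
# Triple products of localizations and left derived functors of trifunctors (helper2)
-/

set_option autoImplicit false
universe w v u
open CategoryTheory Limits

namespace Groth.Agent.Lib.ProdLoc

section Unique

variable {C D H : Type*} [Category C] [Category D] [Category H]

/-- a natural transformation between two left derived functors which is compatible with the counits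
is an isomorphism -/
theorem isIso_app_of_isLeftDerivedFunctor (L : C ⥤ D) (W : MorphismProperty C) [L.IsLocalization W]
    {F : C ⥤ H} (LF₁ LF₂ : D ⥤ H) (α₁ : L ⋙ LF₁ ⟶ F) (α₂ : L ⋙ LF₂ ⟶ F)
    [LF₁.IsLeftDerivedFunctor α₁ W] [LF₂.IsLeftDerivedFunctor α₂ W] (a : LF₁ ⟶ LF₂)
    (ha : Functor.whiskerLeft L a ≫ α₂ = α₁) (X : D) : IsIso (a.app X) := by
  let b : LF₂ ⟶ LF₁ := LF₁.leftDerivedLift α₁ W LF₂ α₂
  have hb : Functor.whiskerLeft L b ≫ α₁ = α₂ := LF₁.leftDerived_fac α₁ W LF₂ α₂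
  have hab : a ≫ b = 𝟙 _ := by
    apply LF₁.leftDerived_ext α₁ W
    rw [Functor.whiskerLeft_comp, Category.assoc, hb, ha, Functor.whiskerLeft_id',
      Category.id_comp]
  have hba : b ≫ a = 𝟙 _ := by
    apply LF₂.leftDerived_ext α₂ W
    rw [Functor.whiskerLeft_comp, Category.assoc, ha, hb, Functor.whiskerLeft_id',
      Category.id_comp]
  exact ⟨b.app X, by rw [← NatTrans.comp_app, hab]; rfl, by rw [← NatTrans.comp_app, hba]; rfl⟩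

end Unique

section Quotient

variable {V₁ V₂ V₃ : Type u} [Category.{v} V₁] [Category.{v} V₂] [Category.{v} V₃]
  [Preadditive V₁] [Preadditive V₂] [Preadditive V₃] (c₁ c₂ c₃ : ComplexShape ℤ)

/-- the product of the three quotient functors -/
abbrev ππ₃ : HomologicalComplex V₁ c₁ × (HomologicalComplex V₂ c₂ × HomologicalComplex V₃ c₃) ⥤
    HomotopyCategory V₁ c₁ × (HomotopyCategory V₂ c₂ × HomotopyCategory V₃ c₃) :=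
  (HomotopyCategory.quotient V₁ c₁).prod (ππ c₂ c₃)

lemma map_eq_ππ₃_map_out
    {X Y : HomotopyCategory V₁ c₁ × (HomotopyCategory V₂ c₂ × HomotopyCategory V₃ c₃)}
    (f : X ⟶ Y) :
    f = (ππ₃ c₁ c₂ c₃).map ((f.1.out, (f.2.1.out, f.2.2.out)) :
      (X.1.as, (X.2.1.as, X.2.2.as)) ⟶ (Y.1.as, (Y.2.1.as, Y.2.2.as))) :=
  Prod.ext (HomotopyCategory.quotient_map_out f.1).symm
    (Prod.ext (HomotopyCategory.quotient_map_out f.2.1).symm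
      (HomotopyCategory.quotient_map_out f.2.2).symm)

theorem whiskerFF_ππ₃ (H : Type*) [Category H] :
    WhiskerFF (ππ₃ (V₁ := V₁) (V₂ := V₂) (V₃ := V₃) c₁ c₂ c₃) H := by
  intro G₁ G₂
  constructor
  · intro τ₁ τ₂ h
    ext ⟨⟨X⟩, ⟨Y⟩, ⟨Z⟩⟩
    exact congrArg (fun t => t.app (X, (Y, Z))) h
  · intro τ
    refine ⟨{ app := fun X => τ.app (X.1.as, (X.2.1.as, X.2.2.as)), naturality := ?_ }, ?_⟩
    · intro X Y f
      rw [map_eq_ππ₃_map_out c₁ c₂ c₃ f]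
      exact τ.naturality ((f.1.out, (f.2.1.out, f.2.2.out)) :
        (X.1.as, (X.2.1.as, X.2.2.as)) ⟶ (Y.1.as, (Y.2.1.as, Y.2.2.as)))
    · ext ⟨X, Y, Z⟩
      rfl

end Quotient

section Derived

variable {𝒜₁ 𝒜₂ 𝒜₃ : Type u} [Category.{v} 𝒜₁] [Category.{v} 𝒜₂] [Category.{v} 𝒜₃]
  [Abelian 𝒜₁] [Abelian 𝒜₂] [Abelian 𝒜₃]
  [HasDerivedCategory.{w} 𝒜₁] [HasDerivedCategory.{w} 𝒜₂] [HasDerivedCategory.{w} 𝒜₃]
  {H : Type*} [Category H]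

variable (𝒜₁ 𝒜₂ 𝒜₃) in
/-- triples of quasi-isomorphisms in the homotopy categories -/
abbrev WK₃ : MorphismProperty (HomotopyCategory 𝒜₁ (ComplexShape.up ℤ) ×
    (HomotopyCategory 𝒜₂ (ComplexShape.up ℤ) × HomotopyCategory 𝒜₃ (ComplexShape.up ℤ))) :=
  (HomotopyCategory.quasiIso 𝒜₁ (ComplexShape.up ℤ)).prod (WK 𝒜₂ 𝒜₃)

variable (𝒜₁ 𝒜₂ 𝒜₃) in
/-- triples of quasi-isomorphisms of complexes -/
abbrev WC₃ : MorphismProperty (CochainComplex 𝒜₁ ℤ × (CochainComplex 𝒜₂ ℤ × CochainComplex 𝒜₃ ℤ)) :=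
  (HomologicalComplex.quasiIso 𝒜₁ (ComplexShape.up ℤ)).prod (WC 𝒜₂ 𝒜₃)

variable (𝒜₁ 𝒜₂ 𝒜₃) in
/-- `Qh × (Qh × Qh)` -/
noncomputable abbrev QhQhQh : HomotopyCategory 𝒜₁ (ComplexShape.up ℤ) ×
    (HomotopyCategory 𝒜₂ (ComplexShape.up ℤ) × HomotopyCategory 𝒜₃ (ComplexShape.up ℤ)) ⥤
    DerivedCategory 𝒜₁ × (DerivedCategory 𝒜₂ × DerivedCategory 𝒜₃) :=
  DerivedCategory.Qh.prod (QhQh 𝒜₂ 𝒜₃)

variable (𝒜₁ 𝒜₂ 𝒜₃) in
/-- `Q × (Q × Q)` -/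
noncomputable abbrev QQQ : CochainComplex 𝒜₁ ℤ × (CochainComplex 𝒜₂ ℤ × CochainComplex 𝒜₃ ℤ) ⥤
    DerivedCategory 𝒜₁ × (DerivedCategory 𝒜₂ × DerivedCategory 𝒜₃) :=
  DerivedCategory.Q.prod (QQ 𝒜₂ 𝒜₃)

/-- a left derived functor along `Q × (Q × Q)` is a left derived functor along `Qh × (Qh × Qh)` -/
theorem isLeftDerivedFunctor_Qh₃_of_Q₃
    (F' : HomotopyCategory 𝒜₁ (ComplexShape.up ℤ) ×
      (HomotopyCategory 𝒜₂ (ComplexShape.up ℤ) × HomotopyCategory 𝒜₃ (ComplexShape.up ℤ)) ⥤ H)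
    (LF : DerivedCategory 𝒜₁ × (DerivedCategory 𝒜₂ × DerivedCategory 𝒜₃) ⥤ H)
    (α : QQQ 𝒜₁ 𝒜₂ 𝒜₃ ⋙ LF ⟶
      ππ₃ (ComplexShape.up ℤ) (ComplexShape.up ℤ) (ComplexShape.up ℤ) ⋙ F')
    [hα : LF.IsLeftDerivedFunctor α (WC₃ 𝒜₁ 𝒜₂ 𝒜₃)] :
    ∃ α' : QhQhQh 𝒜₁ 𝒜₂ 𝒜₃ ⋙ LF ⟶ F', LF.IsLeftDerivedFunctor α' (WK₃ 𝒜₁ 𝒜₂ 𝒜₃) ∧
      ∀ X, α'.app ((ππ₃ (ComplexShape.up ℤ) (ComplexShape.up ℤ) (ComplexShape.up ℤ)).obj X) =
        α.app X := by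
  let α₂ : (ππ₃ (ComplexShape.up ℤ) (ComplexShape.up ℤ) (ComplexShape.up ℤ) ⋙
        QhQhQh 𝒜₁ 𝒜₂ 𝒜₃) ⋙ LF ⟶
      ππ₃ (ComplexShape.up ℤ) (ComplexShape.up ℤ) (ComplexShape.up ℤ) ⋙ F' := α
  haveI : LF.IsRightKanExtension α₂ :=
    Functor.IsLeftDerivedFunctor.isRightKanExtension LF α (WC₃ 𝒜₁ 𝒜₂ 𝒜₃)
  obtain ⟨α', h1, h2⟩ := isRightKanExtension_of_whiskerFF
    (ππ₃ (ComplexShape.up ℤ) (ComplexShape.up ℤ) (ComplexShape.up ℤ)) (QhQhQh 𝒜₁ 𝒜₂ 𝒜₃) F' LF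
    (whiskerFF_ππ₃ (ComplexShape.up ℤ) (ComplexShape.up ℤ) (ComplexShape.up ℤ) H) α₂
  exact ⟨α', ⟨h1⟩, h2⟩

end Derived

end Groth.Agent.Lib.ProdLoc
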