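import Mathlib
import Groth.Prelude.Def_DTen6
import Groth.Agent.Lib.ProdLoc3_helper2
import Groth.Agent.Lib.LTenMix_helper2

/-!
# Associativity of the mixed derived tensor product (helper2)

For ring maps `φ : A → B`, `ψ : B → C`, both legs `(E ⊗^L_A F) ⊗^L_B G ⟶ LTenMix₃(E, F, G)` and
`E ⊗^L_A (F ⊗^L_B G) ⟶ LTenMix₃(E, F, G)` are isomorphisms.
-/

set_option autoImplicit false
universe u
open CategoryTheory Limits MonoidalCategory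

namespace Groth.Agent.Lib.LTenMix3

open DerivedCategory Groth.Agent.Lib.KFlatMod Groth.Agent.Lib.KFlatGen Groth.Agent.Lib.ProdLoc
  Groth.Agent.Lib.KProjInv Groth.Agent.Lib.LTen2 Groth.Agent.Lib.ExtKFlat
  Groth.Agent.Lib.SplitIso Groth.Agent.Lib.LTenMix

attribute [local instance] HasDerivedCategory.standard

section KFlat

variable {A : Type u} [CommRing A]

/-- the tensor product of two K-flat complexes is K-flat -/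
theorem kf_tensor (K N : DRing.Cx A) (hK : KF A K) (hN : KF A N) : KF A (K ⊗ N) := by
  intro L hL i
  have h2 := hN (L ⊗ K) (hK L hL) i
  exact h2.of_iso ((HomologicalComplex.homologyFunctor _ _ i).mapIso (α_ L K N).symm)

end KFlat

variable {A B C : Type u} [CommRing A] [CommRing B] [CommRing C] (φ : A →+* B) (ψ : B →+* C)

lemma mixT_map {X₁ Y₁ : DRing.Cx A} {X₂ Y₂ : DRing.Cx B} (f : X₁ ⟶ Y₁) (g : X₂ ⟶ Y₂) :
    (DTen.mixT φ).map ((f, g) : (X₁, X₂) ⟶ (Y₁, Y₂)) = (DTen.extCx φ).map f ⊗ₘ g :=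
  (MonoidalCategory.tensorHom_def ((DTen.extCx φ).map f) g).symm

lemma mixT₃_map {X₁ Y₁ : DRing.Cx A} {X₂ Y₂ : DRing.Cx B} {X₃ Y₃ : DRing.Cx C}
    (f : X₁ ⟶ Y₁) (g : X₂ ⟶ Y₂) (k : X₃ ⟶ Y₃) :
    (DTen.mixT₃ φ ψ).map ((f, (g, k)) : (X₁, (X₂, X₃)) ⟶ (Y₁, (Y₂, Y₃))) =
      (DTen.extCx ψ).map ((DTen.extCx φ).map f ⊗ₘ g) ⊗ₘ k := by
  show (DTen.mixT ψ).map (((DTen.mixT φ).map ((f, g) : (X₁, X₂) ⟶ (Y₁, Y₂)), k) :
    ((DTen.mixT φ).obj (X₁, X₂), X₃) ⟶ ((DTen.mixT φ).obj (Y₁, Y₂), Y₃)) = _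
  rw [mixT_map, mixT_map]

/-- `(X, Y) ↦ (X ⊗_A B) ⊗_B Y` on homotopy categories -/
noncomputable abbrev mixHT : KR A × KR B ⥤ KR B := ((extH φ).prod (𝟭 (KR B))) ⋙ tensorH B

lemma mixHT_map {X₁ Y₁ : DRing.Cx A} {X₂ Y₂ : DRing.Cx B} (f : X₁ ⟶ Y₁) (g : X₂ ⟶ Y₂) :
    (mixHT φ).map ((ππ (ComplexShape.up ℤ) (ComplexShape.up ℤ)).map
        ((f, g) : (X₁, X₂) ⟶ (Y₁, Y₂))) =
      (HomotopyCategory.quotient _ _).map ((DTen.extCx φ).map f ⊗ₘ g) :=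
  tensorH_map B ((DTen.extCx φ).map f) g

/-- the mixed triple tensor product on homotopy categories -/
noncomputable abbrev mixH₃ : KR A × (KR B × KR C) ⥤ DR C :=
  prod.inverseAssociator _ _ _ ⋙ (mixHT φ).prod (𝟭 (KR C)) ⋙ mixH ψ

lemma mixH₃_map {X₁ Y₁ : DRing.Cx A} {X₂ Y₂ : DRing.Cx B} {X₃ Y₃ : DRing.Cx C}
    (f : X₁ ⟶ Y₁) (g : X₂ ⟶ Y₂) (k : X₃ ⟶ Y₃) :
    (mixH₃ φ ψ).map ((ππ₃ (ComplexShape.up ℤ) (ComplexShape.up ℤ) (ComplexShape.up ℤ)).map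
        ((f, (g, k)) : (X₁, (X₂, X₃)) ⟶ (Y₁, (Y₂, Y₃)))) =
      Qh.map ((HomotopyCategory.quotient _ _).map
        ((DTen.extCx ψ).map ((DTen.extCx φ).map f ⊗ₘ g) ⊗ₘ k)) := by
  show (mixH ψ).map (((mixHT φ).map ((ππ (ComplexShape.up ℤ) (ComplexShape.up ℤ)).map
      ((f, g) : (X₁, X₂) ⟶ (Y₁, Y₂))), (HomotopyCategory.quotient _ _).map k) :
    ((mixHT φ).obj ((ππ (ComplexShape.up ℤ) (ComplexShape.up ℤ)).obj (X₁, X₂)),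
      (HomotopyCategory.quotient _ _).obj X₃) ⟶
    ((mixHT φ).obj ((ππ (ComplexShape.up ℤ) (ComplexShape.up ℤ)).obj (Y₁, Y₂)),
      (HomotopyCategory.quotient _ _).obj Y₃)) = _
  rw [mixHT_map]
  exact mixH_map ψ ((DTen.extCx φ).map f ⊗ₘ g) k

/-- `mixH₃` is induced by `mix₃` -/
noncomputable def mixH₃Iso :
    ππ₃ (ComplexShape.up ℤ) (ComplexShape.up ℤ) (ComplexShape.up ℤ) ⋙ mixH₃ φ ψ ≅
      DTen.mix₃ φ ψ :=
  NatIso.ofComponents (fun X => (quotientCompQhIso _).app ((DTen.mixT₃ φ ψ).obj X)) (by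
    rintro ⟨X₁, X₂, X₃⟩ ⟨Y₁, Y₂, Y₃⟩ ⟨f, g, k⟩
    show (mixH₃ φ ψ).map
        ((ππ₃ (ComplexShape.up ℤ) (ComplexShape.up ℤ) (ComplexShape.up ℤ)).map
          ((f, (g, k)) : (X₁, (X₂, X₃)) ⟶ (Y₁, (Y₂, Y₃)))) ≫
        (quotientCompQhIso _).hom.app ((DTen.mixT₃ φ ψ).obj (Y₁, (Y₂, Y₃))) =
      (quotientCompQhIso _).hom.app ((DTen.mixT₃ φ ψ).obj (X₁, (X₂, X₃))) ≫
        Q.map ((DTen.mixT₃ φ ψ).map ((f, (g, k)) : (X₁, (X₂, X₃)) ⟶ (Y₁, (Y₂, Y₃))))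
    rw [mixH₃_map, mixT₃_map]
    exact (quotientCompQhIso _).hom.naturality
      ((DTen.extCx ψ).map ((DTen.extCx φ).map f ⊗ₘ g) ⊗ₘ k))

/-- the class of triples with the first two complexes K-flat -/
def P₃ (X : KR A × (KR B × KR C)) : Prop := KF A X.1.as ∧ KF B X.2.1.as

lemma exists_res₃ (X : KR A × (KR B × KR C)) :
    ∃ (X' : KR A × (KR B × KR C)) (s : X' ⟶ X),
      WK₃ (ModuleCat.{u} A) (ModuleCat.{u} B) (ModuleCat.{u} C) s ∧ P₃ X' :=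
  ⟨((ρ A).obj X.1, ((ρ B).obj X.2.1, X.2.2)),
    (((πρ A).app X.1, ((πρ B).app X.2.1, 𝟙 X.2.2)) :
      ((ρ A).obj X.1, ((ρ B).obj X.2.1, X.2.2)) ⟶ X),
    ⟨mem_quasiIso_πρ X.1, mem_quasiIso_πρ X.2.1, MorphismProperty.id_mem _ _⟩,
    ⟨(ρ_prop A X.1).2, (ρ_prop B X.2.1).2⟩⟩

section L

variable [DTen.HasLTenMix φ] [DTen.HasLTenMix ψ]

lemma isIso_β₃L_app (M : DRing.Cx A) (N : DRing.Cx B) (K : DRing.Cx C) (hM : KF A M)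
    (hN : KF B N) : IsIso ((DTen.β₃L φ ψ).app (M, (N, K))) := by
  letI : Algebra A B := φ.toAlgebra
  haveI : IsIso ((DTen.εMix φ).app (M, N)) := isIso_εMix_of_kf φ M N hM
  have hext : KF B ((DTen.extCx φ).obj M) := kf_ext (R := A) (R' := B) M hM
  have hMN : KF B ((DTen.mixT φ).obj (M, N)) := kf_tensor _ _ hext hN
  haveI : IsIso ((DTen.εMix ψ).app ((DTen.mixT φ).obj (M, N), K)) :=
    isIso_εMix_of_kf ψ _ K hMN
  haveI : IsIso (Prod.mkHom ((DTen.εMix φ).app (M, N)) (𝟙 (DerivedCategory.Q.obj K))) :=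
    (isIso_prod_iff (f := Prod.mkHom ((DTen.εMix φ).app (M, N))
      (𝟙 (DerivedCategory.Q.obj K)))).2 ⟨inferInstance, inferInstanceAs (IsIso (𝟙 _))⟩
  show IsIso ((DTen.LTenMix ψ).map (Prod.mkHom ((DTen.εMix φ).app (M, N))
    (𝟙 (DerivedCategory.Q.obj K))) ≫ (DTen.εMix ψ).app ((DTen.mixT φ).obj (M, N), K))
  infer_instance

/-- `(E ⊗^L_A F) ⊗^L_B G` on the homotopy categories -/
noncomputable abbrev GfL : KR A × (KR B × KR C) ⥤ DR C :=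
  QhQhQh (ModuleCat.{u} A) (ModuleCat.{u} B) (ModuleCat.{u} C) ⋙ DTen.iterL φ ψ

/-- `β₃L` with target rewritten through the homotopy categories -/
noncomputable def β₃L₀ :
    ππ₃ (ComplexShape.up ℤ) (ComplexShape.up ℤ) (ComplexShape.up ℤ) ⋙ GfL φ ψ ⟶
      ππ₃ (ComplexShape.up ℤ) (ComplexShape.up ℤ) (ComplexShape.up ℤ) ⋙ mixH₃ φ ψ :=
  (show ππ₃ (ComplexShape.up ℤ) (ComplexShape.up ℤ) (ComplexShape.up ℤ) ⋙ GfL φ ψ ⟶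
    DTen.mix₃ φ ψ from DTen.β₃L φ ψ) ≫ (mixH₃Iso φ ψ).inv

lemma exists_τL : ∃ τL : GfL φ ψ ⟶ mixH₃ φ ψ,
    Functor.whiskerLeft (ππ₃ (ComplexShape.up ℤ) (ComplexShape.up ℤ) (ComplexShape.up ℤ)) τL =
      β₃L₀ φ ψ :=
  (whiskerFF_ππ₃ (ComplexShape.up ℤ) (ComplexShape.up ℤ) (ComplexShape.up ℤ) (DR C) (GfL φ ψ)
    (mixH₃ φ ψ)).2 (β₃L₀ φ ψ)

/-- the descent of `β₃L` -/
noncomputable def τL : GfL φ ψ ⟶ mixH₃ φ ψ := (exists_τL φ ψ).choose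

lemma τL_app (M : DRing.Cx A) (N : DRing.Cx B) (K : DRing.Cx C) :
    (τL φ ψ).app ((ππ₃ (ComplexShape.up ℤ) (ComplexShape.up ℤ) (ComplexShape.up ℤ)).obj
        (M, (N, K))) =
      (DTen.β₃L φ ψ).app (M, (N, K)) ≫ (mixH₃Iso φ ψ).inv.app (M, (N, K)) :=
  congrArg (fun t => t.app (M, (N, K))) (exists_τL φ ψ).choose_spec

lemma resDataL : Groth.Agent.Lib.DerivedCmp.ResData
    (WK₃ (ModuleCat.{u} A) (ModuleCat.{u} B) (ModuleCat.{u} C)) (τL φ ψ) P₃ where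
  iso X hX := by
    show IsIso ((τL φ ψ).app
      ((ππ₃ (ComplexShape.up ℤ) (ComplexShape.up ℤ) (ComplexShape.up ℤ)).obj
        (X.1.as, (X.2.1.as, X.2.2.as))))
    rw [τL_app]
    exact @IsIso.comp_isIso _ _ _ _ _ ((DTen.β₃L φ ψ).app (X.1.as, (X.2.1.as, X.2.2.as)))
      ((mixH₃Iso φ ψ).inv.app (X.1.as, (X.2.1.as, X.2.2.as)))
      (isIso_β₃L_app φ ψ _ _ _ hX.1 hX.2) inferInstance
  res X := exists_res₃ X

lemma isLeftDerivedFunctor_iterL :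
    (DTen.iterL φ ψ).IsLeftDerivedFunctor (τL φ ψ)
      (WK₃ (ModuleCat.{u} A) (ModuleCat.{u} B) (ModuleCat.{u} C)) := by
  have h2 := Groth.Agent.Lib.DerivedCmp.isLeftDerivedFunctor
    (QhQhQh (ModuleCat.{u} A) (ModuleCat.{u} B) (ModuleCat.{u} C))
    (WK₃ (ModuleCat.{u} A) (ModuleCat.{u} B) (ModuleCat.{u} C))
    (resDataL φ ψ) (DTen.iterL φ ψ) (Iso.refl _)
  have h3 : (Iso.refl (QhQhQh (ModuleCat.{u} A) (ModuleCat.{u} B) (ModuleCat.{u} C) ⋙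
      DTen.iterL φ ψ)).hom ≫ τL φ ψ = τL φ ψ := Category.id_comp _
  rwa [h3] at h2

end L

section R

variable [DTen.HasLTenMix ψ] [DTen.HasLTenMix (ψ.comp φ)]

lemma isIso_β₃R_app (M : DRing.Cx A) (N : DRing.Cx B) (K : DRing.Cx C) (hM : KF A M)
    (hN : KF B N) : IsIso ((DTen.β₃R φ ψ).app (M, (N, K))) := by
  haveI : IsIso ((DTen.εMix ψ).app (N, K)) := isIso_εMix_of_kf ψ N K hN
  haveI : IsIso ((DTen.εMix (ψ.comp φ)).app (M, (DTen.mixT ψ).obj (N, K))) :=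
    isIso_εMix_of_kf (ψ.comp φ) M _ hM
  haveI : IsIso (Prod.mkHom (𝟙 (DerivedCategory.Q.obj M)) ((DTen.εMix ψ).app (N, K))) :=
    (isIso_prod_iff (f := Prod.mkHom (𝟙 (DerivedCategory.Q.obj M))
      ((DTen.εMix ψ).app (N, K)))).2 ⟨inferInstanceAs (IsIso (𝟙 _)), inferInstance⟩
  show IsIso ((DTen.LTenMix (ψ.comp φ)).map (Prod.mkHom (𝟙 (DerivedCategory.Q.obj M))
      ((DTen.εMix ψ).app (N, K))) ≫
    (DTen.εMix (ψ.comp φ)).app (M, (DTen.mixT ψ).obj (N, K)) ≫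
      DerivedCategory.Q.map ((DTen.θ₃ φ ψ).inv.app (M, (N, K))))
  infer_instance

/-- `E ⊗^L_A (F ⊗^L_B G)` on the homotopy categories -/
noncomputable abbrev GfR : KR A × (KR B × KR C) ⥤ DR C :=
  QhQhQh (ModuleCat.{u} A) (ModuleCat.{u} B) (ModuleCat.{u} C) ⋙ DTen.iterR φ ψ

/-- `β₃R` with target rewritten through the homotopy categories -/
noncomputable def β₃R₀ :
    ππ₃ (ComplexShape.up ℤ) (ComplexShape.up ℤ) (ComplexShape.up ℤ) ⋙ GfR φ ψ ⟶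
      ππ₃ (ComplexShape.up ℤ) (ComplexShape.up ℤ) (ComplexShape.up ℤ) ⋙ mixH₃ φ ψ :=
  (show ππ₃ (ComplexShape.up ℤ) (ComplexShape.up ℤ) (ComplexShape.up ℤ) ⋙ GfR φ ψ ⟶
    DTen.mix₃ φ ψ from DTen.β₃R φ ψ) ≫ (mixH₃Iso φ ψ).inv

lemma exists_τR : ∃ τR : GfR φ ψ ⟶ mixH₃ φ ψ,
    Functor.whiskerLeft (ππ₃ (ComplexShape.up ℤ) (ComplexShape.up ℤ) (ComplexShape.up ℤ)) τR =
      β₃R₀ φ ψ :=
  (whiskerFF_ππ₃ (ComplexShape.up ℤ) (ComplexShape.up ℤ) (ComplexShape.up ℤ) (DR C) (GfR φ ψ)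
    (mixH₃ φ ψ)).2 (β₃R₀ φ ψ)

/-- the descent of `β₃R` -/
noncomputable def τR : GfR φ ψ ⟶ mixH₃ φ ψ := (exists_τR φ ψ).choose

lemma τR_app (M : DRing.Cx A) (N : DRing.Cx B) (K : DRing.Cx C) :
    (τR φ ψ).app ((ππ₃ (ComplexShape.up ℤ) (ComplexShape.up ℤ) (ComplexShape.up ℤ)).obj
        (M, (N, K))) =
      (DTen.β₃R φ ψ).app (M, (N, K)) ≫ (mixH₃Iso φ ψ).inv.app (M, (N, K)) :=
  congrArg (fun t => t.app (M, (N, K))) (exists_τR φ ψ).choose_spec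

lemma resDataR : Groth.Agent.Lib.DerivedCmp.ResData
    (WK₃ (ModuleCat.{u} A) (ModuleCat.{u} B) (ModuleCat.{u} C)) (τR φ ψ) P₃ where
  iso X hX := by
    show IsIso ((τR φ ψ).app
      ((ππ₃ (ComplexShape.up ℤ) (ComplexShape.up ℤ) (ComplexShape.up ℤ)).obj
        (X.1.as, (X.2.1.as, X.2.2.as))))
    rw [τR_app]
    exact @IsIso.comp_isIso _ _ _ _ _ ((DTen.β₃R φ ψ).app (X.1.as, (X.2.1.as, X.2.2.as)))
      ((mixH₃Iso φ ψ).inv.app (X.1.as, (X.2.1.as, X.2.2.as)))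
      (isIso_β₃R_app φ ψ _ _ _ hX.1 hX.2) inferInstance
  res X := exists_res₃ X

lemma isLeftDerivedFunctor_iterR :
    (DTen.iterR φ ψ).IsLeftDerivedFunctor (τR φ ψ)
      (WK₃ (ModuleCat.{u} A) (ModuleCat.{u} B) (ModuleCat.{u} C)) := by
  have h2 := Groth.Agent.Lib.DerivedCmp.isLeftDerivedFunctor
    (QhQhQh (ModuleCat.{u} A) (ModuleCat.{u} B) (ModuleCat.{u} C))
    (WK₃ (ModuleCat.{u} A) (ModuleCat.{u} B) (ModuleCat.{u} C))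
    (resDataR φ ψ) (DTen.iterR φ ψ) (Iso.refl _)
  have h3 : (Iso.refl (QhQhQh (ModuleCat.{u} A) (ModuleCat.{u} B) (ModuleCat.{u} C) ⋙
      DTen.iterR φ ψ)).hom ≫ τR φ ψ = τR φ ψ := Category.id_comp _
  rwa [h3] at h2

end R

section Main

variable [DTen.HasLTenMix₃ φ ψ]

/-- the counit of `LTenMix₃`, with target rewritten through the homotopy categories -/
noncomputable def ε₃₀ : QQQ (ModuleCat.{u} A) (ModuleCat.{u} B) (ModuleCat.{u} C) ⋙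
      DTen.LTenMix₃ φ ψ ⟶
    ππ₃ (ComplexShape.up ℤ) (ComplexShape.up ℤ) (ComplexShape.up ℤ) ⋙ mixH₃ φ ψ :=
  DTen.εMix₃ φ ψ ≫ (mixH₃Iso φ ψ).inv

instance isLeftDerivedFunctor_ε₃₀ :
    (DTen.LTenMix₃ φ ψ).IsLeftDerivedFunctor (ε₃₀ φ ψ)
      (WC₃ (ModuleCat.{u} A) (ModuleCat.{u} B) (ModuleCat.{u} C)) := by
  have h : (DTen.LTenMix₃ φ ψ).IsLeftDerivedFunctor (DTen.εMix₃ φ ψ) (DTen.qisMix₃ A B C) :=
    inferInstance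
  rw [Functor.isLeftDerivedFunctor_iff_isRightKanExtension] at h ⊢
  refine (Functor.isRightKanExtension_iff_of_iso₂ (DTen.εMix₃ φ ψ) (ε₃₀ φ ψ)
    (mixH₃Iso φ ψ).symm (Iso.refl _) ?_).1 h
  ext X
  simp [ε₃₀]

theorem isIso_leg₃L [DTen.HasLTenMix φ] [DTen.HasLTenMix ψ] (X : DR A × (DR B × DR C)) :
    IsIso ((DTen.leg₃L φ ψ).app X) := by
  obtain ⟨α₃, hα₃, happ₃⟩ :=
    isLeftDerivedFunctor_Qh₃_of_Q₃ (mixH₃ φ ψ) (DTen.LTenMix₃ φ ψ) (ε₃₀ φ ψ)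
  haveI := hα₃
  haveI := isLeftDerivedFunctor_iterL φ ψ
  let W := WK₃ (ModuleCat.{u} A) (ModuleCat.{u} B) (ModuleCat.{u} C)
  let L := QhQhQh (ModuleCat.{u} A) (ModuleCat.{u} B) (ModuleCat.{u} C)
  have haL : Functor.whiskerLeft L (DTen.leg₃L φ ψ) ≫ α₃ = τL φ ψ := by
    apply (whiskerFF_ππ₃ (ComplexShape.up ℤ) (ComplexShape.up ℤ) (ComplexShape.up ℤ)
      (DR C) _ _).1
    ext ⟨M, N, K⟩
    show (DTen.leg₃L φ ψ).app ((DTen.QMix₃ A B C).obj (M, (N, K))) ≫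
        α₃.app ((ππ₃ (ComplexShape.up ℤ) (ComplexShape.up ℤ) (ComplexShape.up ℤ)).obj
          (M, (N, K))) =
      (τL φ ψ).app ((ππ₃ (ComplexShape.up ℤ) (ComplexShape.up ℤ) (ComplexShape.up ℤ)).obj
        (M, (N, K)))
    rw [happ₃, τL_app, ← DTen.leg₃L_fac]
    show _ ≫ (DTen.εMix₃ φ ψ).app (M, (N, K)) ≫ (mixH₃Iso φ ψ).inv.app (M, (N, K)) = _
    rw [Category.assoc]
  exact isIso_app_of_isLeftDerivedFunctor L W (DTen.iterL φ ψ) (DTen.LTenMix₃ φ ψ) (τL φ ψ) α₃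
    (DTen.leg₃L φ ψ) haL X

theorem isIso_leg₃R [DTen.HasLTenMix ψ] [DTen.HasLTenMix (ψ.comp φ)]
    (X : DR A × (DR B × DR C)) : IsIso ((DTen.leg₃R φ ψ).app X) := by
  obtain ⟨α₃, hα₃, happ₃⟩ :=
    isLeftDerivedFunctor_Qh₃_of_Q₃ (mixH₃ φ ψ) (DTen.LTenMix₃ φ ψ) (ε₃₀ φ ψ)
  haveI := hα₃
  haveI := isLeftDerivedFunctor_iterR φ ψ
  let W := WK₃ (ModuleCat.{u} A) (ModuleCat.{u} B) (ModuleCat.{u} C)
  let L := QhQhQh (ModuleCat.{u} A) (ModuleCat.{u} B) (ModuleCat.{u} C)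
  have haR : Functor.whiskerLeft L (DTen.leg₃R φ ψ) ≫ α₃ = τR φ ψ := by
    apply (whiskerFF_ππ₃ (ComplexShape.up ℤ) (ComplexShape.up ℤ) (ComplexShape.up ℤ)
      (DR C) _ _).1
    ext ⟨M, N, K⟩
    show (DTen.leg₃R φ ψ).app ((DTen.QMix₃ A B C).obj (M, (N, K))) ≫
        α₃.app ((ππ₃ (ComplexShape.up ℤ) (ComplexShape.up ℤ) (ComplexShape.up ℤ)).obj
          (M, (N, K))) =
      (τR φ ψ).app ((ππ₃ (ComplexShape.up ℤ) (ComplexShape.up ℤ) (ComplexShape.up ℤ)).obj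
        (M, (N, K)))
    rw [happ₃, τR_app, ← DTen.leg₃R_fac]
    show _ ≫ (DTen.εMix₃ φ ψ).app (M, (N, K)) ≫ (mixH₃Iso φ ψ).inv.app (M, (N, K)) = _
    rw [Category.assoc]
  exact isIso_app_of_isLeftDerivedFunctor L W (DTen.iterR φ ψ) (DTen.LTenMix₃ φ ψ) (τR φ ψ) α₃
    (DTen.leg₃R φ ψ) haR X

end Main

end Groth.Agent.Lib.LTenMix3
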