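import Mathlib
import Groth.Prelude.Def_DTen5
import Groth.Agent.Lib.BaseCmp_helper2
import Groth.Agent.Lib.LTenMix3_helper2

/-!
# Derived base change is monoidal (helper1), part 1: the complex level

For `φ : R → R'` and complexes `W`, `K` of `R`-modules, the canonical map
`θ : (W ⊗_R K) ⊗_R R' ⟶ (W ⊗_R R') ⊗_{R'} (K ⊗_R R')` (the adjunct of
`(unit ⊗ unit) ≫ resTenCx`) is an isomorphism of complexes.
-/

set_option autoImplicit false
universe u
open CategoryTheory Limits MonoidalCategory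

namespace Groth.Agent.Lib.LBaseMonH1

open DTen DerivedCategory Groth.Agent.Lib.KFlatMod Groth.Agent.Lib.DerivedAdj
attribute [local instance] HasDerivedCategory.standard

/-- a map between colimit cofans which is an isomorphism on each leg is an isomorphism -/
lemma isIso_of_cofans {C : Type*} [Category C] {J : Type*} {f₁ f₂ : J → C}
    (c₁ : Cofan f₁) (hc₁ : IsColimit c₁) (c₂ : Cofan f₂) (hc₂ : IsColimit c₂)
    (g : c₁.pt ⟶ c₂.pt) (s : ∀ j, f₁ j ≅ f₂ j)
    (hg : ∀ j, c₁.inj j ≫ g = (s j).hom ≫ c₂.inj j) : IsIso g := by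
  refine ⟨Cofan.IsColimit.desc hc₂ (fun j => (s j).inv ≫ c₁.inj j), ?_, ?_⟩
  · refine Cofan.IsColimit.hom_ext hc₁ _ _ (fun j => ?_)
    rw [reassoc_of% hg, Cofan.IsColimit.fac, Iso.hom_inv_id_assoc, Category.comp_id]
  · refine Cofan.IsColimit.hom_ext hc₂ _ _ (fun j => ?_)
    rw [Cofan.IsColimit.fac_assoc, Category.assoc, hg, Iso.inv_hom_id_assoc, Category.comp_id]

variable {R R' : Type u} [CommRing R] [CommRing R'] (φ : R →+* R')

/-- extension of scalars on modules -/
noncomputable abbrev extM : ModuleCat.{u} R ⥤ ModuleCat.{u} R' :=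
  ModuleCat.extendScalars.{u, u, u} φ

/-- the adjunction `extension ⊣ restriction` on modules -/
noncomputable abbrev adjM : extM φ ⊣ resM φ := ModuleCat.extendRestrictScalarsAdj.{u, u, u} φ

/-- the unit `M ⟶ res (ext M)` with a clean type -/
noncomputable abbrev uM (M : ModuleCat.{u} R) : M ⟶ (resM φ).obj ((extM φ).obj M) :=
  (adjM φ).unit.app M

/-- `M ⊗ N ⟶ res (ext M ⊗ ext N)`, `m ⊗ n ↦ (1 ⊗ m) ⊗ (1 ⊗ n)` -/
noncomputable def mu0M (M N : ModuleCat.{u} R) :
    M ⊗ N ⟶ (resM φ).obj ((extM φ).obj M ⊗ (extM φ).obj N) :=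
  (uM φ M ▷ N) ≫ ((resM φ).obj ((extM φ).obj M) ◁ uM φ N) ≫
    resTen₀app φ ((extM φ).obj M) ((extM φ).obj N)

set_option backward.isDefEq.respectTransparency false in
lemma homEquiv_δ (M N : ModuleCat.{u} R) :
    (adjM φ).homEquiv _ _ (Functor.OplaxMonoidal.δ (extM φ) M N) = mu0M φ M N := by
  rw [Adjunction.homEquiv_unit]
  apply ModuleCat.MonoidalCategory.tensor_ext
  intro m n
  rfl

lemma map_mu0M_counit (M N : ModuleCat.{u} R) :
    (extM φ).map (mu0M φ M N) ≫ (adjM φ).counit.app ((extM φ).obj M ⊗ (extM φ).obj N) =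
      Functor.OplaxMonoidal.δ (extM φ) M N := by
  have h : ((adjM φ).homEquiv _ _).symm (mu0M φ M N) =
      Functor.OplaxMonoidal.δ (extM φ) M N := by
    rw [Equiv.symm_apply_eq, homEquiv_δ]
  rw [← h, Adjunction.homEquiv_counit]

/-- `δ` as an isomorphism -/
noncomputable def δIso (M N : ModuleCat.{u} R) :
    (extM φ).obj (M ⊗ N) ≅ (extM φ).obj M ⊗ (extM φ).obj N :=
  asIso (Functor.OplaxMonoidal.δ (extM φ) M N)

section ComplexLevel

variable (W K : DRing.Cx R)

/-- the complex-level adjunction -/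
noncomputable abbrev adjCx : extCx φ ⊣ resCx φ := adjC (adjM φ) (ComplexShape.up ℤ)

/-- the unit `W ⟶ res (ext W)` on complexes, with a clean type -/
noncomputable abbrev uCx (W : DRing.Cx R) : W ⟶ (resCx φ).obj ((extCx φ).obj W) :=
  (unitCx φ).app W

/-- `W ⊗ K ⟶ res (ext W ⊗ ext K)` -/
noncomputable def mu0 :
    (W ⊗ K : DRing.Cx R) ⟶ (resCx φ).obj ((extCx φ).obj W ⊗ (extCx φ).obj K) :=
  (uCx φ W ⊗ₘ uCx φ K) ≫ resTenCx φ ((extCx φ).obj W) ((extCx φ).obj K)

/-- the comparison `ext (W ⊗ K) ⟶ ext W ⊗ ext K` -/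
noncomputable def theta : (extCx φ).obj (W ⊗ K) ⟶ (extCx φ).obj W ⊗ (extCx φ).obj K :=
  ((adjCx φ).homEquiv _ _).symm (mu0 φ W K)

lemma unit_theta : uCx φ (W ⊗ K) ≫ (resCx φ).map (theta φ W K) = mu0 φ W K := by
  have h := ((adjCx φ).homEquiv _ _).apply_symm_apply (mu0 φ W K)
  rw [Adjunction.homEquiv_unit] at h
  exact h

lemma theta_f (n : ℤ) : (theta φ W K).f n =
    (extM φ).map ((mu0 φ W K).f n) ≫
      (adjM φ).counit.app (((extCx φ).obj W ⊗ (extCx φ).obj K).X n) := by
  unfold theta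
  rw [Adjunction.homEquiv_counit]
  rfl

set_option backward.isDefEq.respectTransparency false in
lemma ι_mu0 (p q n : ℤ) (h : p + q = n) :
    HomologicalComplex.ιTensorObj W K p q n h ≫ (mu0 φ W K).f n =
      mu0M φ (W.X p) (K.X q) ≫
        (resM φ).map
          (HomologicalComplex.ιTensorObj ((extCx φ).obj W) ((extCx φ).obj K) p q n h) := by
  unfold mu0
  change HomologicalComplex.ιTensorObj W K p q n h ≫
    (HomologicalComplex.mapBifunctorMap (uCx φ W) (uCx φ K) _ _ ≫ resTenCx φ _ _).f n = _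
  rw [HomologicalComplex.comp_f, HomologicalComplex.ι_mapBifunctorMap_assoc]
  erw [ι_resTenCx φ ((extCx φ).obj W) ((extCx φ).obj K) p q n h]
  simp only [mu0M, Category.assoc]
  rfl

set_option backward.isDefEq.respectTransparency false in
lemma ext_ι_theta (p q n : ℤ) (h : p + q = n) :
    (extM φ).map (HomologicalComplex.ιTensorObj W K p q n h) ≫ (theta φ W K).f n =
      Functor.OplaxMonoidal.δ (extM φ) (W.X p) (K.X q) ≫
        HomologicalComplex.ιTensorObj ((extCx φ).obj W) ((extCx φ).obj K) p q n h := by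
  have hc := (adjM φ).counit.naturality
    (HomologicalComplex.ιTensorObj ((extCx φ).obj W) ((extCx φ).obj K) p q n h)
  calc (extM φ).map (HomologicalComplex.ιTensorObj W K p q n h) ≫ (theta φ W K).f n
      = (extM φ).map (mu0M φ (W.X p) (K.X q)) ≫
          ((extM φ).map ((resM φ).map
            (HomologicalComplex.ιTensorObj ((extCx φ).obj W) ((extCx φ).obj K) p q n h)) ≫
          (adjM φ).counit.app (((extCx φ).obj W ⊗ (extCx φ).obj K).X n)) := by
        rw [theta_f, ← Functor.map_comp_assoc, ι_mu0, Functor.map_comp, Category.assoc]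
    _ = (extM φ).map (mu0M φ (W.X p) (K.X q)) ≫
          ((adjM φ).counit.app _ ≫
            HomologicalComplex.ιTensorObj ((extCx φ).obj W) ((extCx φ).obj K) p q n h) := by
        congr 1
    _ = _ := by
        rw [← Category.assoc]
        congr 1
        exact map_mu0M_counit φ (W.X p) (K.X q)

instance isIso_theta : IsIso (theta φ W K) := by
  haveI : PreservesColimitsOfSize.{0, 0} (extM φ) := (adjM φ).leftAdjoint_preservesColimits
  haveI : ∀ n, IsIso ((theta φ W K).f n) := fun n => by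
    let B₁ := (((curriedTensor (ModuleCat.{u} R)).mapBifunctorHomologicalComplex
      (ComplexShape.up ℤ) (ComplexShape.up ℤ)).obj W).obj K
    let B₂ := (((curriedTensor (ModuleCat.{u} R')).mapBifunctorHomologicalComplex
      (ComplexShape.up ℤ) (ComplexShape.up ℤ)).obj ((extCx φ).obj W)).obj ((extCx φ).obj K)
    have hc₁ := isColimitCofanMkObjOfIsColimit (extM φ)
      (B₁.toGradedObject.mapObjFun
        (ComplexShape.π (ComplexShape.up ℤ) (ComplexShape.up ℤ) (ComplexShape.up ℤ)) n)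
      (P := B₁.toGradedObject.mapObj
        (ComplexShape.π (ComplexShape.up ℤ) (ComplexShape.up ℤ) (ComplexShape.up ℤ)) n)
      (fun j => B₁.toGradedObject.ιMapObj
        (ComplexShape.π (ComplexShape.up ℤ) (ComplexShape.up ℤ) (ComplexShape.up ℤ)) j.1 n j.2)
      (B₁.toGradedObject.isColimitCofanMapObj
        (ComplexShape.π (ComplexShape.up ℤ) (ComplexShape.up ℤ) (ComplexShape.up ℤ)) n)
    have hc₂ := B₂.toGradedObject.isColimitCofanMapObj
      (ComplexShape.π (ComplexShape.up ℤ) (ComplexShape.up ℤ) (ComplexShape.up ℤ)) n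
    exact isIso_of_cofans _ hc₁ _ hc₂ ((theta φ W K).f n)
      (fun j => δIso φ (W.X j.1.1) (K.X j.1.2))
      (fun j => ext_ι_theta φ W K j.1.1 j.1.2 n j.2)
  exact HomologicalComplex.Hom.isIso_of_components _

end ComplexLevel

end Groth.Agent.Lib.LBaseMonH1
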