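import Mathlib
import Groth.Prelude.Def_DTen5
import Groth.Agent.Lib.LBaseMon1_helper1

/-!
# Derived base change is monoidal (helper1), part 2: the derived level

`cmon φ W K : (W ⊗^L_R K) ⊗^L_R R' ⟶ (W ⊗^L_R R') ⊗^L_{R'} (K ⊗^L_R R')` (the adjunct of
`(unit ⊗ unit) ≫ resPF`) is an isomorphism, and `DTen.rhomBC φ K M` is an isomorphism.
-/

set_option autoImplicit false
universe u
open CategoryTheory Limits MonoidalCategory

namespace Groth.Agent.Lib.LBaseMonH1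

open DTen DerivedCategory Groth.Agent.Lib.KFlatMod
attribute [local instance] HasDerivedCategory.standard

section Ten

variable {A : Type u} [CommRing A] [HasLTen A]

/-- `f ⊗^L g` -/
noncomputable abbrev tn {a a' b b' : Dual.D A} (f : a ⟶ a') (g : b ⟶ b') :
    (LTen₂ A).obj (a, b) ⟶ (LTen₂ A).obj (a', b') := (LTen₂ A).map (Prod.mkHom f g)

lemma tn_comp {a a' a'' b b' b'' : Dual.D A} (f : a ⟶ a') (f' : a' ⟶ a'') (g : b ⟶ b')
    (g' : b' ⟶ b'') : tn f g ≫ tn f' g' = tn (f ≫ f') (g ≫ g') := by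
  show (LTen₂ A).map _ ≫ (LTen₂ A).map _ = (LTen₂ A).map _
  rw [← Functor.map_comp]
  rfl

lemma tn_comp_assoc {a a' a'' b b' b'' : Dual.D A} (f : a ⟶ a') (f' : a' ⟶ a'') (g : b ⟶ b')
    (g' : b' ⟶ b'') {Z : Dual.D A} (h : (LTen₂ A).obj (a'', b'') ⟶ Z) :
    tn f g ≫ tn f' g' ≫ h = tn (f ≫ f') (g ≫ g') ≫ h := by
  rw [← Category.assoc, tn_comp]

lemma tn_id (a b : Dual.D A) : tn (𝟙 a) (𝟙 b) = 𝟙 ((LTen₂ A).obj (a, b)) := by
  have : (Prod.mkHom (𝟙 a) (𝟙 b) : ((a, b) : Dual.D A × Dual.D A) ⟶ (a, b)) =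
      𝟙 ((a, b) : Dual.D A × Dual.D A) := rfl
  show (LTen₂ A).map _ = _
  rw [this, CategoryTheory.Functor.map_id]

lemma isIso_tn {a a' b b' : Dual.D A} (f : a ⟶ a') (g : b ⟶ b') (hf : IsIso f) (hg : IsIso g) :
    IsIso (tn f g) := by
  haveI : IsIso (Prod.mkHom f g) := (isIso_prod_iff (f := Prod.mkHom f g)).2 ⟨hf, hg⟩
  exact Functor.map_isIso (LTen₂ A) (Prod.mkHom f g)

/-- the counit with a clean type -/
noncomputable abbrev eps (W₀ K₀ : DRing.Cx A) :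
    (LTen₂ A).obj (Q.obj W₀, Q.obj K₀) ⟶ Q.obj (W₀ ⊗ K₀) := (ε A).app (W₀, K₀)

lemma eps_nat {W₀ W₁ K₀ K₁ : DRing.Cx A} (f : W₀ ⟶ W₁) (g : K₀ ⟶ K₁) :
    tn (Q.map f) (Q.map g) ≫ eps W₁ K₁ = eps W₀ K₀ ≫ Q.map (f ⊗ₘ g) := by
  have e := (ε A).naturality (Prod.mkHom f g)
  dsimp at e
  rw [MonoidalCategory.tensorHom_def]
  exact e

omit [HasLTen A] in
lemma exists_kf_iso (X : Dual.D A) :
    ∃ K₀ : DRing.Cx A, KF A K₀ ∧ Nonempty (Q.obj K₀ ≅ X) := by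
  obtain ⟨K₀, f, hK, -, hf, -⟩ := exists_kf_resolution (Q.objPreimage X)
  haveI : IsIso (Q.map f) := (isIso_Q_map_iff_quasiIso (C := ModuleCat.{u} A) f).2 hf
  exact ⟨K₀, hK, ⟨asIso (Q.map f) ≪≫ Q.objObjPreimageIso X⟩⟩

end Ten

section Main

variable {R R' : Type u} [CommRing R] [CommRing R'] (φ : R →+* R')

/-- `res (Q Y) ⟶ Q (res Y)` -/
noncomputable abbrev rFh (Y : DRing.Cx R') :
    (DRing.restrictD φ).obj (Q.obj Y) ⟶ Q.obj ((resCx φ).obj Y) := (resFactors φ).hom.app Y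

/-- `Q (res Y) ⟶ res (Q Y)` -/
noncomputable abbrev rFi (Y : DRing.Cx R') :
    Q.obj ((resCx φ).obj Y) ⟶ (DRing.restrictD φ).obj (Q.obj Y) := (resFactors φ).inv.app Y

lemma rFh_rFi (Y : DRing.Cx R') : rFh φ Y ≫ rFi φ Y = 𝟙 _ := (resFactors φ).hom_inv_id_app Y

lemma rFi_rFh (Y : DRing.Cx R') : rFi φ Y ≫ rFh φ Y = 𝟙 _ := (resFactors φ).inv_hom_id_app Y

lemma rFi_nat {Y Y' : DRing.Cx R'} (f : Y ⟶ Y') :
    rFi φ Y ≫ (DRing.restrictD φ).map (Q.map f) = Q.map ((resCx φ).map f) ≫ rFi φ Y' :=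
  ((resFactors φ).inv.naturality f).symm

variable [HasLTen R] [HasLTen R'] [HasLBase φ]

/-- `baseCmp` with a clean type -/
noncomputable abbrev bC (K₀ : DRing.Cx R) :
    (LBase φ).obj (Q.obj K₀) ⟶ Q.obj ((extCx φ).obj K₀) := (baseCmp φ).app K₀

omit [HasLTen R] [HasLTen R'] in
lemma unit_bC (K₀ : DRing.Cx R) :
    (baseAdj φ).unit.app (Q.obj K₀) ≫ (DRing.restrictD φ).map (bC φ K₀) =
      Q.map (uCx φ K₀) ≫ rFi φ ((extCx φ).obj K₀) :=
  baseCmp_fac φ K₀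

variable [HasResTen φ] [ResLegIso φ]

/-- `W ⊗^L K ⟶ res (F W ⊗^L F K)` -/
noncomputable def c₀ (W K : Dual.D R) :
    (LTen₂ R).obj (W, K) ⟶
      (DRing.restrictD φ).obj ((LTen₂ R').obj ((LBase φ).obj W, (LBase φ).obj K)) :=
  tn ((baseAdj φ).unit.app W) ((baseAdj φ).unit.app K) ≫
    (resPF φ).app ((LBase φ).obj W, (LBase φ).obj K)

/-- the monoidal comparison of derived base change -/
noncomputable def cmon (W K : Dual.D R) :
    (LBase φ).obj ((LTen₂ R).obj (W, K)) ⟶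
      (LTen₂ R').obj ((LBase φ).obj W, (LBase φ).obj K) :=
  ((baseAdj φ).homEquiv _ _).symm (c₀ φ W K)

omit [HasLBase φ] in
lemma resPF_nat {X X' Y Y' : Dual.D R'} (f : X ⟶ X') (g : Y ⟶ Y') :
    tn ((DRing.restrictD φ).map f) ((DRing.restrictD φ).map g) ≫ (resPF φ).app (X', Y') =
      (resPF φ).app (X, Y) ≫ (DRing.restrictD φ).map (tn f g) :=
  (resPF φ).naturality (Prod.mkHom f g)

lemma c₀_nat {W W₁ K K₁ : Dual.D R} (f : W ⟶ W₁) (g : K ⟶ K₁) :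
    tn f g ≫ c₀ φ W₁ K₁ =
      c₀ φ W K ≫ (DRing.restrictD φ).map (tn ((LBase φ).map f) ((LBase φ).map g)) := by
  have h1 : f ≫ (baseAdj φ).unit.app W₁ =
      (baseAdj φ).unit.app W ≫ (DRing.restrictD φ).map ((LBase φ).map f) :=
    (baseAdj φ).unit.naturality f
  have h2 : g ≫ (baseAdj φ).unit.app K₁ =
      (baseAdj φ).unit.app K ≫ (DRing.restrictD φ).map ((LBase φ).map g) :=
    (baseAdj φ).unit.naturality g
  unfold c₀
  rw [← Category.assoc, tn_comp, h1, h2, Category.assoc, ← resPF_nat, ← Category.assoc, tn_comp]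

lemma cmon_nat {W W₁ K K₁ : Dual.D R} (f : W ⟶ W₁) (g : K ⟶ K₁) :
    (LBase φ).map (tn f g) ≫ cmon φ W₁ K₁ =
      cmon φ W K ≫ tn ((LBase φ).map f) ((LBase φ).map g) := by
  unfold cmon
  rw [← Adjunction.homEquiv_naturality_left_symm, ← Adjunction.homEquiv_naturality_right_symm,
    c₀_nat]

omit [HasLBase φ] in
lemma resPF_eps (Y Y' : DRing.Cx R') :
    (resPF φ).app (Q.obj Y, Q.obj Y') ≫ (DRing.restrictD φ).map (eps Y Y') =
      tn (rFh φ Y) (rFh φ Y') ≫ eps ((resCx φ).obj Y) ((resCx φ).obj Y') ≫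
        Q.map (resTenCx φ Y Y') ≫ rFi φ (Y ⊗ Y') := by
  have h := resPF_fac φ (Y, Y')
  have h2 : (resβB φ).app (Y, Y') =
      (DRing.restrictD φ).map (eps Y Y') ≫ rFh φ (Y ⊗ Y') := rfl
  have h3 : (resβA φ).app (Y, Y') = tn (rFh φ Y) (rFh φ Y') ≫
      eps ((resCx φ).obj Y) ((resCx φ).obj Y') ≫ Q.map (resTenCx φ Y Y') := rfl
  rw [h2, h3] at h
  calc (resPF φ).app (Q.obj Y, Q.obj Y') ≫ (DRing.restrictD φ).map (eps Y Y')
      = ((resPF φ).app ((QQ R').obj (Y, Y')) ≫ (DRing.restrictD φ).map (eps Y Y') ≫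
          rFh φ (Y ⊗ Y')) ≫ rFi φ (Y ⊗ Y') := by
        simp only [Category.assoc, rFh_rFi, Category.comp_id]
        rfl
    _ = _ := by
        rw [h]
        simp only [Category.assoc]

/-- the key formula computing `cmon` on images of complexes -/
lemma cmon_Q (W₀ K₀ : DRing.Cx R) :
    cmon φ (Q.obj W₀) (Q.obj K₀) ≫ tn (bC φ W₀) (bC φ K₀) ≫
        eps ((extCx φ).obj W₀) ((extCx φ).obj K₀) =
      (LBase φ).map (eps W₀ K₀) ≫ bC φ (W₀ ⊗ K₀) ≫ Q.map (theta φ W₀ K₀) := by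
  apply ((baseAdj φ).homEquiv _ _).injective
  have hR : (baseAdj φ).homEquiv _ _
      ((LBase φ).map (eps W₀ K₀) ≫ bC φ (W₀ ⊗ K₀) ≫ Q.map (theta φ W₀ K₀)) =
      eps W₀ K₀ ≫ Q.map (mu0 φ W₀ K₀) ≫ rFi φ ((extCx φ).obj W₀ ⊗ (extCx φ).obj K₀) := by
    rw [Adjunction.homEquiv_naturality_left, Adjunction.homEquiv_unit, Functor.map_comp,
      ← Category.assoc ((baseAdj φ).unit.app _), unit_bC, Category.assoc, rFi_nat,
      ← Category.assoc (Q.map _), ← Functor.map_comp, unit_theta]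
  have hL : (baseAdj φ).homEquiv _ _ (cmon φ (Q.obj W₀) (Q.obj K₀) ≫ tn (bC φ W₀) (bC φ K₀) ≫
        eps ((extCx φ).obj W₀) ((extCx φ).obj K₀)) =
      eps W₀ K₀ ≫ Q.map (mu0 φ W₀ K₀) ≫ rFi φ ((extCx φ).obj W₀ ⊗ (extCx φ).obj K₀) := by
    rw [Adjunction.homEquiv_naturality_right]
    unfold cmon
    rw [Equiv.apply_symm_apply]
    unfold c₀
    rw [Functor.map_comp, Category.assoc, ← Category.assoc ((resPF φ).app _), ← resPF_nat,
      Category.assoc, resPF_eps, tn_comp_assoc, tn_comp_assoc, unit_bC, unit_bC]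
    simp only [Category.assoc, rFi_rFh, Category.comp_id]
    rw [← Category.assoc, eps_nat, Category.assoc, ← Category.assoc (Q.map _),
      ← Functor.map_comp]
    rfl
  rw [hL, hR]

lemma isIso_cmon_Q (W₀ K₀ : DRing.Cx R) (hW : KF R W₀) (hK : KF R K₀) :
    IsIso (cmon φ (Q.obj W₀) (Q.obj K₀)) := by
  letI : Algebra R R' := φ.toAlgebra
  have hextW : KF R' ((extCx φ).obj W₀) :=
    Groth.Agent.Lib.ExtKFlat.kf_ext (R := R) (R' := R') W₀ hW
  haveI i1 : IsIso (bC φ W₀) := Groth.Agent.Lib.BaseCmp.isIso_baseCmp_of_kf φ W₀ hW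
  haveI i2 : IsIso (bC φ K₀) := Groth.Agent.Lib.BaseCmp.isIso_baseCmp_of_kf φ K₀ hK
  haveI i3 : IsIso (tn (bC φ W₀) (bC φ K₀)) := isIso_tn _ _ i1 i2
  haveI i4 : IsIso (eps ((extCx φ).obj W₀) ((extCx φ).obj K₀)) :=
    Groth.Agent.Lib.LTen2.isIso_ε_of_kf_left R' _ _ hextW
  haveI i5 : IsIso (eps W₀ K₀) := Groth.Agent.Lib.LTen2.isIso_ε_of_kf_left R _ _ hW
  haveI i6 : IsIso (bC φ (W₀ ⊗ K₀)) :=
    Groth.Agent.Lib.BaseCmp.isIso_baseCmp_of_kf φ _
      (Groth.Agent.Lib.LTenMix3.kf_tensor W₀ K₀ hW hK)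
  haveI i7 : IsIso (cmon φ (Q.obj W₀) (Q.obj K₀) ≫ tn (bC φ W₀) (bC φ K₀) ≫
      eps ((extCx φ).obj W₀) ((extCx φ).obj K₀)) := by
    rw [cmon_Q]
    infer_instance
  exact IsIso.of_isIso_comp_right _ (tn (bC φ W₀) (bC φ K₀) ≫
      eps ((extCx φ).obj W₀) ((extCx φ).obj K₀))

/-- **derived base change is monoidal** -/
theorem isIso_cmon (W K : Dual.D R) : IsIso (cmon φ W K) := by
  obtain ⟨W₀, hW, ⟨eW⟩⟩ := exists_kf_iso W
  obtain ⟨K₀, hK, ⟨eK⟩⟩ := exists_kf_iso K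
  haveI := isIso_cmon_Q φ W₀ K₀ hW hK
  haveI : IsIso (tn eW.hom eK.hom) := isIso_tn _ _ inferInstance inferInstance
  haveI : IsIso (tn ((LBase φ).map eW.hom) ((LBase φ).map eK.hom)) :=
    isIso_tn _ _ inferInstance inferInstance
  have h := cmon_nat φ eW.hom eK.hom
  haveI : IsIso ((LBase φ).map (tn eW.hom eK.hom) ≫ cmon φ W K) := by
    rw [h]
    infer_instance
  exact IsIso.of_isIso_comp_left ((LBase φ).map (tn eW.hom eK.hom)) _

variable [HasRHom R] [HasRHom R']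

/-- **`res RHom_{R'}(K ⊗^L R', M) ⟶ RHom_R(K, res M)` is an isomorphism** -/
theorem isIso_rhomBC (K : Dual.D R) (M : Dual.D R') : IsIso (rhomBC φ K M) := by
  apply isIso_of_yoneda_map_bijective
  intro W
  haveI : IsIso (cmon φ W K) := isIso_cmon φ W K
  let Φ : (W ⟶ (DRing.restrictD φ).obj ((RHomR R' ((LBase φ).obj K)).obj M)) →
      ((LBase φ).obj ((LTen₂ R).obj (W, K)) ⟶ M) := fun x =>
    cmon φ W K ≫ (rhomHomEquiv ((LBase φ).obj W) ((LBase φ).obj K) M).symm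
      (((baseAdj φ).homEquiv W _).symm x)
  have hΦ : Function.Bijective Φ :=
    (Iso.homFromEquiv (asIso (cmon φ W K))).symm.bijective.comp
      ((rhomHomEquiv ((LBase φ).obj W) ((LBase φ).obj K) M).symm.bijective.comp
        ((baseAdj φ).homEquiv W _).symm.bijective)
  let Ψ : (W ⟶ (RHomR R K).obj ((DRing.restrictD φ).obj M)) →
      ((LBase φ).obj ((LTen₂ R).obj (W, K)) ⟶ M) := fun y =>
    ((baseAdj φ).homEquiv _ _).symm ((rhomHomEquiv W K ((DRing.restrictD φ).obj M)).symm y)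
  have hΨ : Function.Bijective Ψ :=
    ((baseAdj φ).homEquiv _ _).symm.bijective.comp
      (rhomHomEquiv W K ((DRing.restrictD φ).obj M)).symm.bijective
  have key : ∀ x, Ψ (x ≫ rhomBC φ K M) = Φ x := by
    intro x
    obtain ⟨g, rfl⟩ : ∃ g, x = (baseAdj φ).homEquiv W _ g :=
      ⟨((baseAdj φ).homEquiv W _).symm x, (Equiv.apply_symm_apply _ _).symm⟩
    have hx : (baseAdj φ).homEquiv W _ g =
        (baseAdj φ).unit.app W ≫ (DRing.restrictD φ).map g := (baseAdj φ).homEquiv_unit _ _ _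
    have n1 : (rhomHomEquiv W K ((DRing.restrictD φ).obj M)).symm
        ((baseAdj φ).homEquiv W _ g ≫ rhomBC φ K M) =
        tn ((baseAdj φ).homEquiv W _ g) (𝟙 K) ≫ rhomBCCore φ K M := by
      rw [Adjunction.homEquiv_naturality_left_symm]
      unfold rhomBC
      rw [Equiv.symm_apply_apply]
      rfl
    have n2 : tn ((baseAdj φ).homEquiv W _ g) (𝟙 K) ≫ rhomBCCore φ K M =
        c₀ φ W K ≫ (DRing.restrictD φ).map (tn g (𝟙 ((LBase φ).obj K)) ≫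
          ev ((LBase φ).obj K) M) := by
      have h := resPF_nat φ g (𝟙 ((LBase φ).obj K))
      unfold rhomBCCore c₀
      rw [tn_comp_assoc, hx, Category.comp_id, Category.id_comp, Functor.map_comp]
      simp only [Category.assoc]
      rw [← reassoc_of% h, tn_comp_assoc, CategoryTheory.Functor.map_id]
      erw [Category.comp_id]
    have n3 : (rhomHomEquiv ((LBase φ).obj W) ((LBase φ).obj K) M).symm g =
        tn g (𝟙 ((LBase φ).obj K)) ≫ ev ((LBase φ).obj K) M :=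
      (rhomAdj R' ((LBase φ).obj K)).homEquiv_counit _ _ _
    show ((baseAdj φ).homEquiv _ _).symm _ = cmon φ W K ≫ _
    rw [n1, n2, Adjunction.homEquiv_naturality_right_symm, Equiv.symm_apply_apply, n3]
    rfl
  have hcomp : Ψ ∘ (fun x => x ≫ rhomBC φ K M) = Φ := funext key
  refine (Function.Bijective.of_comp_iff' hΨ _).1 ?_
  rw [hcomp]
  exact hΦ

end Main

end Groth.Agent.Lib.LBaseMonH1
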