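import Mathlib
import Groth.Prelude.Def_DTen5
import Groth.Agent.Lib.LBaseMon2_helper1
import Groth.Agent.Lib.WExact_helper2

/-!
# Derived base change is monoidal (helper1), part 3: exactness without the symmetry binders

Versions of helper2's `WExact` results for `RHom(-, M)` and `X ⊗^L -` which need neither `HasLTen₃`
nor `IsSymMonoidal`; derived base change weakly preserves distinguished triangles.
-/

set_option autoImplicit false
universe u
open CategoryTheory Limits MonoidalCategory Pretriangulated Opposite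

namespace Groth.Agent.Lib.LBaseMonH1

open DTen DerivedCategory Groth.Agent.Lib.KFlatMod Groth.Agent.Lib.WExact
attribute [local instance] HasDerivedCategory.standard

section General

variable {C D : Type*} [Category C] [Category D] [Preadditive C] [HasZeroObject C] [HasShift C ℤ]
  [∀ n : ℤ, (shiftFunctor C n).Additive] [Pretriangulated C]
  [Preadditive D] [HasZeroObject D] [HasShift D ℤ]
  [∀ n : ℤ, (shiftFunctor D n).Additive] [Pretriangulated D]

open ZeroObject in
/-- a functor weakly preserving distinguished triangles preserves the zero object -/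
lemma isZero_obj_zero_of_weakTri {Φ : C ⥤ D} (hΦ : WeakTri Φ) : IsZero (Φ.obj (0 : C)) := by
  obtain ⟨δ, hδ⟩ := hΦ _ (contractible_distinguished (0 : C))
  have hiso : IsIso (Triangle.mk (Φ.map (contractibleTriangle (0 : C)).mor₁)
      (Φ.map (contractibleTriangle (0 : C)).mor₂) δ).mor₁ := by
    show IsIso (Φ.map (𝟙 (0 : C)))
    rw [Φ.map_id]
    infer_instance
  exact Triangle.isZero₃_of_isIso₁ _ hδ hiso

open ZeroObject in
/-- a functor weakly preserving distinguished triangles preserves zero morphisms -/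
lemma preservesZeroMorphisms_of_weakTri {Φ : C ⥤ D} (hΦ : WeakTri Φ) :
    Φ.PreservesZeroMorphisms where
  map_zero X Y := by
    have hZ := isZero_obj_zero_of_weakTri hΦ
    have h : (0 : X ⟶ Y) = (0 : X ⟶ (0 : C)) ≫ (0 : (0 : C) ⟶ Y) := by simp
    rw [h, Φ.map_comp, hZ.eq_of_tgt (Φ.map (0 : X ⟶ (0 : C))) 0, zero_comp]

end General

section SymFree

variable {A : Type u} [CommRing A] [HasLTen A]

/-- tensoring on the left with a complex commutes with mapping cones -/
noncomputable def coneTensorIso₂ (X : DRing.Cx A) {K L : DRing.Cx A} (f : K ⟶ L) :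
    X ⊗ CochainComplex.mappingCone f ≅ CochainComplex.mappingCone (X ◁ f) :=
  Groth.Agent.Lib.BifCone.mapBifunctorConeIso₂ (T A) X f

omit [HasLTen A] in
lemma inr_coneTensorIso₂ (X : DRing.Cx A) {K L : DRing.Cx A} (f : K ⟶ L) :
    (X ◁ CochainComplex.mappingCone.inr f) ≫ (coneTensorIso₂ X f).hom =
      CochainComplex.mappingCone.inr (X ◁ f) := by
  have h := (Groth.Agent.Lib.BifCone.action₂ (T A) X).inr_coneIso_inv f
  rw [← cancel_mono (coneTensorIso₂ X f).inv, Category.assoc, Iso.hom_inv_id, Category.comp_id]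
  exact h.symm

theorem weakTri_tensorLeftD_Q (X : DRing.Cx A) (hX : KF A X) :
    WeakTri ((LTen A).obj (Q.obj X)) := by
  haveI : ∀ K : DRing.Cx A, IsIso ((εLeft A X).app K) := fun K =>
    Groth.Agent.Lib.LTen2.isIso_ε_of_kf_left A X K hX
  haveI : IsIso (εLeft A X) := NatIso.isIso_of_isIso_app _
  exact weakTri_of_cone (Φ := tensorLeft X) (asIso (εLeft A X))
    (fun f => coneTensorIso₂ X f) (fun f => inr_coneTensorIso₂ X f)

/-- `X ⊗^L -` weakly preserves distinguished triangles (no symmetry needed) -/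
theorem weakTri_tensorLeftD' (X : Dual.D A) : WeakTri ((LTen A).obj X) := by
  obtain ⟨X₀, hX, ⟨e⟩⟩ := exists_kf_iso X
  exact weakTri_of_iso ((LTen A).mapIso e) (weakTri_tensorLeftD_Q X₀ hX)

lemma tn_zero_right (a : Dual.D A) {b b' : Dual.D A} : tn (𝟙 a) (0 : b ⟶ b') = 0 :=
  (preservesZeroMorphisms_of_weakTri (weakTri_tensorLeftD' a)).map_zero b b'

variable [HasRHom A]

lemma tn_zero_left {a a' : Dual.D A} (b : Dual.D A) : tn (0 : a ⟶ a') (𝟙 b) = 0 :=
  (tensorRightD A b).map_zero _ _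

lemma RHomMap_comp' {M M' M'' : Dual.D A} (g : M' ⟶ M) (g' : M'' ⟶ M') (L : Dual.D A) :
    RHomMap g L ≫ RHomMap g' L = RHomMap (g' ≫ g) L := by
  show ((RHom A).map g.op).app L ≫ ((RHom A).map g'.op).app L = ((RHom A).map (g' ≫ g).op).app L
  rw [← NatTrans.comp_app, ← Functor.map_comp, ← op_comp]

lemma RHomMap_id' (M L : Dual.D A) : RHomMap (𝟙 M) L = 𝟙 _ := by
  show ((RHom A).map (𝟙 M).op).app L = _
  rw [op_id, CategoryTheory.Functor.map_id]
  rfl

lemma adjunct_eq' {W M L : Dual.D A} (w : W ⟶ (RHomR A M).obj L) :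
    (rhomHomEquiv W M L).symm w = tn w (𝟙 M) ≫ ev M L :=
  (rhomAdj A M).homEquiv_counit _ _ _

lemma RHom_map_ev' {L L' : Dual.D A} (g : L' ⟶ L) (M : Dual.D A) :
    tn (RHomMap g M) (𝟙 L') ≫ ev L' M = tn (𝟙 ((RHomR A L).obj M)) g ≫ ev L M :=
  RHom_map_ev g M

lemma adjunct_comp_RHomMap' {W M M' L : Dual.D A} (w : W ⟶ (RHomR A M).obj L) (g : M' ⟶ M) :
    tn (w ≫ RHomMap g L) (𝟙 M') ≫ ev M' L = tn (𝟙 W) g ≫ tn w (𝟙 M) ≫ ev M L := by
  have h : tn (RHomMap g L) (𝟙 M') ≫ ev M' L = tn (𝟙 _) g ≫ ev M L := RHom_map_ev g L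
  calc tn (w ≫ RHomMap g L) (𝟙 M') ≫ ev M' L
      = tn w (𝟙 M') ≫ tn (RHomMap g L) (𝟙 M') ≫ ev M' L := by
        rw [← Category.assoc, tn_comp, Category.comp_id]
    _ = tn w (𝟙 M') ≫ tn (𝟙 _) g ≫ ev M L := by rw [h]
    _ = tn w g ≫ ev M L := by
        rw [← Category.assoc, tn_comp, Category.comp_id, Category.id_comp]
    _ = tn (𝟙 W) g ≫ tn w (𝟙 M) ≫ ev M L := by
        rw [← Category.assoc, tn_comp, Category.comp_id, Category.id_comp]

lemma RHomMap_zero' (M M' L : Dual.D A) : RHomMap (0 : M' ⟶ M) L = 0 := by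
  apply (rhomHomEquiv _ M' L).symm.injective
  rw [adjunct_eq', adjunct_eq', tn_zero_left, zero_comp]
  have h : tn (RHomMap (0 : M' ⟶ M) L) (𝟙 M') ≫ ev M' L = tn (𝟙 _) (0 : M' ⟶ M) ≫ ev M L :=
    RHom_map_ev _ L
  rw [h, tn_zero_right, zero_comp]

lemma isZero_RHom_of_isZero' {X : Dual.D A} (hX : IsZero X) (L : Dual.D A) :
    IsZero ((RHomR A X).obj L) := by
  rw [IsZero.iff_id_eq_zero, ← RHomMap_id', hX.eq_of_src (𝟙 X) 0, RHomMap_zero']

/-- **`RHom(-, M)` turns weakly exact sequences into weakly exact sequences** (no symmetry) -/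
theorem wExact_RHomMap' {X Y Z : Dual.D A} {a : X ⟶ Y} {b : Y ⟶ Z} (h : WExact a b)
    (M : Dual.D A) : WExact (RHomMap b M) (RHomMap a M) := by
  refine ⟨by rw [RHomMap_comp', h.1, RHomMap_zero'], fun W w hw => ?_⟩
  have hφ : ((LTen A).obj W).map a ≫ (tn w (𝟙 Y) ≫ ev Y M) = 0 := by
    show tn (𝟙 W) a ≫ tn w (𝟙 Y) ≫ ev Y M = 0
    rw [← adjunct_comp_RHomMap', hw, tn_zero_left, zero_comp]
  obtain ⟨ψ, hψ⟩ := wExact_yoneda (weakTri_tensorLeftD' W) h _ hφ
  have hψ' : tn (𝟙 W) b ≫ ψ = tn w (𝟙 Y) ≫ ev Y M := hψ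
  refine ⟨rhomHomEquiv W Z M ψ, ?_⟩
  apply (rhomHomEquiv W Y M).symm.injective
  rw [adjunct_eq', adjunct_eq', adjunct_comp_RHomMap', ← adjunct_eq', Equiv.symm_apply_apply, hψ']

end SymFree

section LBaseTri

variable {R R' : Type u} [CommRing R] [CommRing R'] (φ : R →+* R') [HasLBase φ]

/-- derived base change weakly preserves distinguished triangles -/
theorem weakTri_LBase : WeakTri (LBase φ) := by
  letI : (LBase φ).CommShift ℤ := (baseAdj φ).leftAdjointCommShift ℤ
  haveI : (baseAdj φ).CommShift ℤ := (baseAdj φ).commShift_of_rightAdjoint ℤ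
  haveI : (LBase φ).IsTriangulated := (baseAdj φ).isTriangulated_leftAdjoint
  intro T hT
  exact ⟨_, (LBase φ).map_distinguished T hT⟩

instance preservesZeroMorphisms_LBase : (LBase φ).PreservesZeroMorphisms :=
  preservesZeroMorphisms_of_weakTri (weakTri_LBase φ)

end LBaseTri

end Groth.Agent.Lib.LBaseMonH1
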