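import Mathlib
import Groth.Prelude.Def_DTen5
import Groth.Agent.Lib.LBaseMon3_helper1

/-!
# Derived base change is monoidal (helper1), part 4: base change for `RHom` out of a perfect complex

`DTen.bcRHom φ K M : RHom_R(K, M) ⊗^L_R R' ⟶ RHom_{R'}(K ⊗^L_R R', M ⊗^L_R R')` is the canonical map
of the strong monoidal functor `LBase φ` (`cmon_bcRHom_ev`), is natural in `K` (`bcRHom_nat`), and is an
isomorphism for `K` perfect.
-/

set_option autoImplicit false
universe u
open CategoryTheory Limits MonoidalCategory Pretriangulated Opposite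

namespace Groth.Agent.Lib.LBaseMonH1

open DTen DerivedCategory Groth.Agent.Lib.KFlatMod Groth.Agent.Lib.WExact
  Groth.Agent.Lib.TenExact Groth.Agent.Lib.Devissage
attribute [local instance] HasDerivedCategory.standard

section Formula

variable {R R' : Type u} [CommRing R] [CommRing R'] (φ : R →+* R')
  [HasLTen R] [HasLTen R'] [HasRHom R] [HasRHom R'] [HasLBase φ] [HasResTen φ] [ResLegIso φ]

instance isIso_rhomBC_inst (K : Dual.D R) (M : Dual.D R') : IsIso (rhomBC φ K M) :=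
  isIso_rhomBC φ K M

/-- `bcRHom` is the canonical map of the strong monoidal functor `LBase φ` -/
lemma cmon_bcRHom_ev (K M : Dual.D R) :
    cmon φ ((RHomR R K).obj M) K ≫ tn (bcRHom φ K M) (𝟙 ((LBase φ).obj K)) ≫
        ev ((LBase φ).obj K) ((LBase φ).obj M) = (LBase φ).map (ev K M) := by
  apply ((baseAdj φ).homEquiv _ _).injective
  rw [Adjunction.homEquiv_naturality_right]
  unfold cmon
  rw [Equiv.apply_symm_apply, Adjunction.homEquiv_unit]
  have h := resPF_nat φ (bcRHom φ K M) (𝟙 ((LBase φ).obj K))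
  have hfac := bcRHom_fac φ K M
  have hnat : (baseAdj φ).unit.app _ ≫ (DRing.restrictD φ).map ((LBase φ).map (ev K M)) =
      ev K M ≫ (baseAdj φ).unit.app M := ((baseAdj φ).unit.naturality (ev K M)).symm
  have e1 : c₀ φ ((RHomR R K).obj M) K ≫ (DRing.restrictD φ).map
      (tn (bcRHom φ K M) (𝟙 ((LBase φ).obj K)) ≫ ev ((LBase φ).obj K) ((LBase φ).obj M)) =
      tn ((baseAdj φ).unit.app ((RHomR R K).obj M) ≫ (DRing.restrictD φ).map (bcRHom φ K M))
          ((baseAdj φ).unit.app K) ≫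
        (resPF φ).app ((RHomR R' ((LBase φ).obj K)).obj ((LBase φ).obj M), (LBase φ).obj K) ≫
          (DRing.restrictD φ).map (ev ((LBase φ).obj K) ((LBase φ).obj M)) := by
    unfold c₀
    rw [Functor.map_comp]
    simp only [Category.assoc]
    rw [← reassoc_of% h, tn_comp_assoc, CategoryTheory.Functor.map_id]
    erw [Category.comp_id]
  have e2 : tn ((baseAdj φ).unit.app ((RHomR R K).obj M) ≫
        (DRing.restrictD φ).map (bcRHom φ K M)) ((baseAdj φ).unit.app K) =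
      tn ((RHomR R K).map ((baseAdj φ).unit.app M)) (𝟙 K) ≫
        tn (inv (rhomBC φ K ((LBase φ).obj M))) (𝟙 K) ≫
          tn (𝟙 _) ((baseAdj φ).unit.app K) := by
    rw [tn_comp, tn_comp, Category.comp_id, Category.id_comp, Category.id_comp, hfac]
  have e3 : tn (inv (rhomBC φ K ((LBase φ).obj M))) (𝟙 K) ≫ rhomBCCore φ K ((LBase φ).obj M) =
      ev K ((DRing.restrictD φ).obj ((LBase φ).obj M)) := by
    rw [← rhomBC_fac φ K ((LBase φ).obj M)]
    show tn (inv (rhomBC φ K ((LBase φ).obj M))) (𝟙 K) ≫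
      tn (rhomBC φ K ((LBase φ).obj M)) (𝟙 K) ≫ _ = _
    rw [← Category.assoc, tn_comp, IsIso.inv_hom_id, Category.comp_id, tn_id, Category.id_comp]
  have e4 : tn ((RHomR R K).map ((baseAdj φ).unit.app M)) (𝟙 K) ≫
      ev K ((DRing.restrictD φ).obj ((LBase φ).obj M)) = ev K M ≫ (baseAdj φ).unit.app M :=
    (rhomAdj R K).counit.naturality ((baseAdj φ).unit.app M)
  have hcore : tn (𝟙 _) ((baseAdj φ).unit.app K) ≫
      (resPF φ).app ((RHomR R' ((LBase φ).obj K)).obj ((LBase φ).obj M), (LBase φ).obj K) ≫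
        (DRing.restrictD φ).map (ev ((LBase φ).obj K) ((LBase φ).obj M)) =
      rhomBCCore φ K ((LBase φ).obj M) := rfl
  rw [hnat, e1, e2]
  simp only [Category.assoc]
  rw [hcore, e3, e4]

/-- `bcRHom` is natural in the first variable -/
lemma bcRHom_nat {K₁ K₂ : Dual.D R} (f : K₁ ⟶ K₂) (M : Dual.D R) :
    (LBase φ).map (RHomMap f M) ≫ bcRHom φ K₁ M =
      bcRHom φ K₂ M ≫ RHomMap ((LBase φ).map f) ((LBase φ).obj M) := by
  apply (rhomHomEquiv _ ((LBase φ).obj K₁) ((LBase φ).obj M)).symm.injective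
  rw [adjunct_eq', adjunct_eq']
  haveI := isIso_cmon φ ((RHomR R K₂).obj M) K₁
  rw [← cancel_epi (cmon φ ((RHomR R K₂).obj M) K₁)]
  have hL : cmon φ ((RHomR R K₂).obj M) K₁ ≫
      tn ((LBase φ).map (RHomMap f M) ≫ bcRHom φ K₁ M) (𝟙 ((LBase φ).obj K₁)) ≫
        ev ((LBase φ).obj K₁) ((LBase φ).obj M) =
      (LBase φ).map (tn (𝟙 ((RHomR R K₂).obj M)) f ≫ ev K₂ M) := by
    have hn := cmon_nat φ (RHomMap f M) (𝟙 K₁)
    rw [CategoryTheory.Functor.map_id] at hn
    calc cmon φ ((RHomR R K₂).obj M) K₁ ≫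
          tn ((LBase φ).map (RHomMap f M) ≫ bcRHom φ K₁ M) (𝟙 ((LBase φ).obj K₁)) ≫
            ev ((LBase φ).obj K₁) ((LBase φ).obj M)
        = cmon φ ((RHomR R K₂).obj M) K₁ ≫
            tn ((LBase φ).map (RHomMap f M)) (𝟙 ((LBase φ).obj K₁)) ≫
              tn (bcRHom φ K₁ M) (𝟙 ((LBase φ).obj K₁)) ≫
                ev ((LBase φ).obj K₁) ((LBase φ).obj M) := by
          rw [tn_comp_assoc, Category.comp_id]
      _ = (LBase φ).map (tn (RHomMap f M) (𝟙 K₁)) ≫ cmon φ ((RHomR R K₁).obj M) K₁ ≫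
              tn (bcRHom φ K₁ M) (𝟙 ((LBase φ).obj K₁)) ≫
                ev ((LBase φ).obj K₁) ((LBase φ).obj M) := by
          rw [← reassoc_of% hn]
      _ = (LBase φ).map (tn (RHomMap f M) (𝟙 K₁)) ≫ (LBase φ).map (ev K₁ M) := by
          rw [cmon_bcRHom_ev]
      _ = (LBase φ).map (tn (RHomMap f M) (𝟙 K₁) ≫ ev K₁ M) := ((LBase φ).map_comp _ _).symm
      _ = _ := by rw [RHom_map_ev']
  have hR : cmon φ ((RHomR R K₂).obj M) K₁ ≫
      tn (bcRHom φ K₂ M ≫ RHomMap ((LBase φ).map f) ((LBase φ).obj M))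
          (𝟙 ((LBase φ).obj K₁)) ≫
        ev ((LBase φ).obj K₁) ((LBase φ).obj M) =
      (LBase φ).map (tn (𝟙 ((RHomR R K₂).obj M)) f ≫ ev K₂ M) := by
    have hn := cmon_nat φ (𝟙 ((RHomR R K₂).obj M)) f
    rw [CategoryTheory.Functor.map_id] at hn
    calc cmon φ ((RHomR R K₂).obj M) K₁ ≫
          tn (bcRHom φ K₂ M ≫ RHomMap ((LBase φ).map f) ((LBase φ).obj M))
              (𝟙 ((LBase φ).obj K₁)) ≫
            ev ((LBase φ).obj K₁) ((LBase φ).obj M)
        = cmon φ ((RHomR R K₂).obj M) K₁ ≫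
            tn (𝟙 ((LBase φ).obj ((RHomR R K₂).obj M))) ((LBase φ).map f) ≫
              tn (bcRHom φ K₂ M) (𝟙 ((LBase φ).obj K₂)) ≫
                ev ((LBase φ).obj K₂) ((LBase φ).obj M) := by
          rw [adjunct_comp_RHomMap']
      _ = (LBase φ).map (tn (𝟙 ((RHomR R K₂).obj M)) f) ≫ cmon φ ((RHomR R K₂).obj M) K₂ ≫
              tn (bcRHom φ K₂ M) (𝟙 ((LBase φ).obj K₂)) ≫
                ev ((LBase φ).obj K₂) ((LBase φ).obj M) := by
          rw [← reassoc_of% hn]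
      _ = (LBase φ).map (tn (𝟙 ((RHomR R K₂).obj M)) f) ≫ (LBase φ).map (ev K₂ M) := by
          rw [cmon_bcRHom_ev]
      _ = _ := ((LBase φ).map_comp _ _).symm
  rw [hL, hR]

end Formula

section Equiv

variable {A : Type u} [CommRing A] [HasLTen A]

/-- `- ⊗^L Q S` is computed on complexes, for `S` K-flat -/
noncomputable def εRightIso (S : DRing.Cx A) (hS : KF A S) :
    Q ⋙ tensorRightD A (Q.obj S) ≅ tensorRight S ⋙ Q :=
  haveI : ∀ K : DRing.Cx A, IsIso ((εRight A S).app K) := fun K =>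
    Groth.Agent.Lib.LTen2.isIso_ε_of_kf_right A K S hS
  haveI : IsIso (εRight A S) := NatIso.isIso_of_isIso_app _
  asIso (εRight A S)

/-- `(- ⊗ S) ⊗ S' ≅ 𝟭` on complexes, if `S ⊗ S' ≅ 𝟙` -/
noncomputable def cancelCx (S S' : DRing.Cx A) (u : S ⊗ S' ≅ 𝟙_ (DRing.Cx A)) :
    tensorRight S ⋙ tensorRight S' ≅ 𝟭 (DRing.Cx A) :=
  (tensorRightTensor S S').symm ≪≫
    (NatIso.ofComponents (fun Z => whiskerLeftIso Z u)
      (fun f => (whisker_exchange f u.hom).symm) :
        tensorRight (S ⊗ S') ≅ tensorRight (𝟙_ (DRing.Cx A))) ≪≫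
    rightUnitorNatIso (DRing.Cx A)

/-- `(- ⊗^L Q S) ⊗^L Q S' ≅ 𝟭`, if `S ⊗ S' ≅ 𝟙` with `S`, `S'` K-flat -/
noncomputable def cancelR (S S' : DRing.Cx A) (hS : KF A S) (hS' : KF A S')
    (u : S ⊗ S' ≅ 𝟙_ (DRing.Cx A)) :
    tensorRightD A (Q.obj S) ⋙ tensorRightD A (Q.obj S') ≅ 𝟭 (Dual.D A) :=
  Localization.liftNatIso Q (qis A)
    (Q ⋙ tensorRightD A (Q.obj S) ⋙ tensorRightD A (Q.obj S')) Q _ _
    ((Functor.associator _ _ _).symm ≪≫
      Functor.isoWhiskerRight (εRightIso S hS) (tensorRightD A (Q.obj S')) ≪≫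
      Functor.associator _ _ _ ≪≫
      Functor.isoWhiskerLeft (tensorRight S) (εRightIso S' hS') ≪≫
      (Functor.associator _ _ _).symm ≪≫
      Functor.isoWhiskerRight (cancelCx S S' u) Q ≪≫ Functor.leftUnitor Q)

/-- tensoring on the right with an invertible K-flat complex is an equivalence -/
noncomputable def tensorEquivR (S S' : DRing.Cx A) (hS : KF A S) (hS' : KF A S')
    (u : S ⊗ S' ≅ 𝟙_ (DRing.Cx A)) (u' : S' ⊗ S ≅ 𝟙_ (DRing.Cx A)) : Dual.D A ≌ Dual.D A :=
  CategoryTheory.Equivalence.mk (tensorRightD A (Q.obj S)) (tensorRightD A (Q.obj S'))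
    (cancelR S S' hS hS' u).symm (cancelR S' S hS' hS u')

lemma isEquivalence_tensorRightD_I (m : ℤ) : (tensorRightD A (I (A := A) m)).IsEquivalence :=
  (tensorEquivR (U m) (U (-m)) (kf_U m) (kf_U (-m)) (UU m (-m) (by omega))
    (UU (-m) m (by omega))).isEquivalence_functor

end Equiv

section Base

variable {R R' : Type u} [CommRing R] [CommRing R'] (φ : R →+* R')

/-- `ext 𝟙 ≅ 𝟙` on complexes -/
noncomputable def extUnitIso : (extCx φ).obj (𝟙_ (DRing.Cx R)) ≅ 𝟙_ (DRing.Cx R') :=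
  (HomologicalComplex.singleMapHomologicalComplex (extM φ) (ComplexShape.up ℤ) 0).app
      (𝟙_ (ModuleCat.{u} R)) ≪≫
    (HomologicalComplex.single (ModuleCat.{u} R') (ComplexShape.up ℤ) 0).mapIso
      (Functor.Monoidal.εIso (extM φ)).symm

/-- `ext (𝟙[m]) ≅ 𝟙[m]` on complexes -/
noncomputable def extUIso (m : ℤ) : (extCx φ).obj (U (A := R) m) ≅ U (A := R') m :=
  ((extCx φ).commShiftIso m).app (𝟙_ (DRing.Cx R)) ≪≫
    (shiftFunctor (DRing.Cx R') m).mapIso (extUnitIso φ)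

variable [HasLTen R] [HasLTen R'] [HasLBase φ]

/-- `R[m] ⊗^L_R R' ≅ R'[m]` -/
noncomputable def LBaseIIso (m : ℤ) : (LBase φ).obj (I (A := R) m) ≅ I (A := R') m :=
  haveI : IsIso (bC φ (U (A := R) m)) :=
    Groth.Agent.Lib.BaseCmp.isIso_baseCmp_of_kf φ (U m) (kf_U m)
  asIso (bC φ (U (A := R) m)) ≪≫ Q.mapIso (extUIso φ m)

variable [HasRHom R] [HasRHom R'] [HasResTen φ] [ResLegIso φ]

/-- the base case: `bcRHom φ (R[m]) M` is an isomorphism -/
theorem isIso_bcRHom_I (m : ℤ) (M : Dual.D R) : IsIso (bcRHom φ (I (A := R) m) M) := by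
  haveI e1 : (tensorRightD R (I (A := R) m)).IsEquivalence := isEquivalence_tensorRightD_I m
  haveI e2 : (tensorRightD R' ((LBase φ).obj (I (A := R) m))).IsEquivalence := by
    haveI := isEquivalence_tensorRightD_I (A := R') m
    exact Functor.isEquivalence_of_iso ((LTen R').flip.mapIso (LBaseIIso φ m).symm)
  haveI i1 : IsIso (ev (I (A := R) m) M) := inferInstance
  haveI i2 : IsIso (ev ((LBase φ).obj (I (A := R) m)) ((LBase φ).obj M)) := inferInstance
  haveI i3 := isIso_cmon φ ((RHomR R (I (A := R) m)).obj M) (I m)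
  have h := cmon_bcRHom_ev φ (I (A := R) m) M
  haveI i4 : IsIso ((tensorRightD R' ((LBase φ).obj (I (A := R) m))).map
      (bcRHom φ (I (A := R) m) M)) := by
    have h' : tn (bcRHom φ (I (A := R) m) M) (𝟙 ((LBase φ).obj (I (A := R) m))) =
        inv (cmon φ ((RHomR R (I (A := R) m)).obj M) (I m)) ≫
          (LBase φ).map (ev (I (A := R) m) M) ≫
            inv (ev ((LBase φ).obj (I (A := R) m)) ((LBase φ).obj M)) := by
      rw [IsIso.eq_inv_comp, ← h]
      simp only [Category.assoc, IsIso.hom_inv_id, Category.comp_id]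
    show IsIso (tn (bcRHom φ (I (A := R) m) M) (𝟙 ((LBase φ).obj (I (A := R) m))))
    rw [h']
    infer_instance
  exact isIso_of_reflects_iso _ (tensorRightD R' ((LBase φ).obj (I (A := R) m)))

end Base

section Main

variable {R R' : Type u} [CommRing R] [CommRing R'] (φ : R →+* R')
  [HasLTen R] [HasLTen R'] [HasRHom R] [HasRHom R'] [HasLBase φ] [HasResTen φ] [ResLegIso φ]

/-- `K ↦ RHom_R(K, M) ⊗^L_R R'` -/
noncomputable def FcK (M : Dual.D R) : (Dual.D R)ᵒᵖ ⥤ Dual.D R' :=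
  (RHom R).flip.obj M ⋙ LBase φ

/-- `K ↦ RHom_{R'}(K ⊗^L_R R', M ⊗^L_R R')` -/
noncomputable def GcK (M : Dual.D R) : (Dual.D R)ᵒᵖ ⥤ Dual.D R' :=
  (LBase φ).op ⋙ (RHom R').flip.obj ((LBase φ).obj M)

/-- `bcRHom φ - M` as a natural transformation -/
noncomputable def bcRHomNat (M : Dual.D R) : FcK φ M ⟶ GcK φ M where
  app K := bcRHom φ (unop K) M
  naturality K K' g := by
    obtain ⟨K₀⟩ := K
    obtain ⟨K₁⟩ := K'
    obtain ⟨h, rfl⟩ : ∃ h : K₁ ⟶ K₀, g = h.op := ⟨g.unop, rfl⟩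
    exact bcRHom_nat φ h M

/-- **base change for `RHom` out of a perfect complex** -/
theorem isIso_bcRHom_of_isPerfect (K M : Dual.D R) (hK : DRing.IsPerfect R K) :
    IsIso (bcRHom φ K M) := by
  have hW := weakTri_LBase φ
  have hF : ∀ T : Triangle (Dual.D R), T ∈ distTriang _ →
      WExact ((FcK φ M).map T.mor₂.op) ((FcK φ M).map T.mor₁.op) := fun T hT =>
    wExact_map hW (wExact_RHomMap' (wExact_of_distinguished T hT) M)
  have hG : ∀ T : Triangle (Dual.D R), T ∈ distTriang _ →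
      WExact ((GcK φ M).map T.mor₂.op) ((GcK φ M).map T.mor₁.op) := fun T hT =>
    wExact_RHomMap' (wExact_map hW (wExact_of_distinguished T hT)) _
  have hgood : GoodOp (bcRHomNat φ M) K := by
    refine perfect_induction (GoodOp (bcRHomNat φ M)) (fun e h => goodOp_of_iso _ e h)
      (fun X hX => goodOp_of_isZero _ (fun Y hY => ?_) (fun Y hY => ?_) hX)
      (fun i r hir h => goodOp_of_retract _ i r hir h) ?_
      (fun T hT h1 h3 => goodOp_ext _ hF hG T hT h1 h3) K hK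
    · exact (LBase φ).map_isZero (isZero_RHom_of_isZero' hY M)
    · exact isZero_RHom_of_isZero' ((LBase φ).map_isZero hY) _
    · intro a n
      refine isIso_app_of_iso' (bcRHomNat φ M) (sDIso a n).op ?_
      exact isIso_bcRHom_I φ (n - a) M
  exact isIso_app_of_goodOp _ hgood

end Main

end Groth.Agent.Lib.LBaseMonH1
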