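import Mathlib
import Groth.Prelude.Def_DTen5
import Groth.Agent.Lib.LBaseMon4_helper1
import Groth.Agent.Lib.Amp2_helper2

/-!
# Derived base change is monoidal (helper1), part 5: base change for `RHom` out of a pseudo-coherent
complex into a bounded below complex, along a flat ring map
-/

set_option autoImplicit false
universe u
open CategoryTheory Limits MonoidalCategory Pretriangulated Opposite

namespace Groth.Agent.Lib.LBaseMonH1

open DTen DerivedCategory Groth.Agent.Lib.KFlatMod Groth.Agent.Lib.WExact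
  Groth.Agent.Lib.TenExact Groth.Agent.Lib.Devissage Groth.Agent.Lib.Amp
attribute [local instance] HasDerivedCategory.standard

section Abstract

variable {C D : Type*} [Category C] [Category D] [Preadditive C] [HasZeroObject C] [HasShift C ℤ]
  [∀ n : ℤ, (shiftFunctor C n).Additive] [Pretriangulated C] [Preadditive D]

/-- comparison through an approximation, for contravariant functors -/
lemma bijective_of_approx_op {F G : Cᵒᵖ ⥤ D} (τ : F ⟶ G)
    (hF : ∀ T : Triangle C, T ∈ distTriang C → WExact (F.map T.mor₂.op) (F.map T.mor₁.op))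
    (hG : ∀ T : Triangle C, T ∈ distTriang C → WExact (G.map T.mor₂.op) (G.map T.mor₁.op))
    (T : Triangle C) (hT : T ∈ distTriang C) (h₁ : IsIso (τ.app (op T.obj₁))) (W : D)
    (hF3 : ∀ φ : W ⟶ F.obj (op T.obj₃), φ = 0)
    (hF3' : ∀ φ : W ⟶ F.obj (op (T.obj₃⟦(-1 : ℤ)⟧)), φ = 0)
    (hG3 : ∀ φ : W ⟶ G.obj (op T.obj₃), φ = 0)
    (hG3' : ∀ φ : W ⟶ G.obj (op (T.obj₃⟦(-1 : ℤ)⟧)), φ = 0) :
    Function.Bijective (fun x : W ⟶ F.obj (op T.obj₂) => x ≫ τ.app (op T.obj₂)) := by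
  have hTi := inv_rot_of_distTriang T hT
  have key : ∀ (H : Cᵒᵖ ⥤ D)
      (_ : ∀ T : Triangle C, T ∈ distTriang C → WExact (H.map T.mor₂.op) (H.map T.mor₁.op))
      (_ : ∀ φ : W ⟶ H.obj (op T.obj₃), φ = 0)
      (_ : ∀ φ : W ⟶ H.obj (op (T.obj₃⟦(-1 : ℤ)⟧)), φ = 0),
      Function.Bijective (fun y : W ⟶ H.obj (op T.obj₂) => y ≫ H.map T.mor₁.op) := by
    intro H hH h3 h3'
    constructor
    · intro y y' hyy
      have hyy' : y ≫ H.map T.mor₁.op = y' ≫ H.map T.mor₁.op := hyy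
      rw [← sub_eq_zero]
      have hz : (y - y') ≫ H.map T.mor₁.op = 0 := by
        rw [Preadditive.sub_comp, hyy', sub_self]
      obtain ⟨v, hv⟩ := (hH T hT).2 (y - y') hz
      rw [← hv, h3 v, zero_comp]
    · intro x
      have hx : x ≫ H.map T.invRotate.mor₁.op = 0 := h3' _
      obtain ⟨y, hy⟩ := (hH T.invRotate hTi).2 x hx
      exact ⟨y, hy⟩
  have bF := key F hF hF3 hF3'
  have bG := key G hG hG3 hG3'
  have bτ : Function.Bijective (fun y : W ⟶ F.obj (op T.obj₁) => y ≫ τ.app (op T.obj₁)) :=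
    ⟨fun y y' h => (cancel_mono (τ.app (op T.obj₁))).1 h,
      fun z => ⟨z ≫ inv (τ.app (op T.obj₁)), by simp⟩⟩
  have hcomp : (fun z : W ⟶ G.obj (op T.obj₂) => z ≫ G.map T.mor₁.op) ∘
      (fun x : W ⟶ F.obj (op T.obj₂) => x ≫ τ.app (op T.obj₂)) =
      (fun y : W ⟶ F.obj (op T.obj₁) => y ≫ τ.app (op T.obj₁)) ∘
        (fun x : W ⟶ F.obj (op T.obj₂) => x ≫ F.map T.mor₁.op) := by
    funext x
    simp only [Function.comp_apply, Category.assoc, τ.naturality]
  exact (Function.Bijective.of_comp_iff' bG _).1 (hcomp ▸ bτ.comp bF)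

end Abstract

section AmpRHom

variable {A : Type u} [CommRing A] [HasLTen A] [HasRHom A]

lemma eq_zero_of_adjunct' {W X Y : Dual.D A} (φ : W ⟶ (RHomR A X).obj Y)
    (h : tn φ (𝟙 X) ≫ ev X Y = 0) : φ = 0 := by
  apply (rhomHomEquiv W X Y).symm.injective
  rw [adjunct_eq', adjunct_eq', h, tn_zero_left, zero_comp]

/-- amplitude of `RHom` (no symmetry binders) -/
theorem isGE_RHom' (C L : Dual.D A) (p n : ℤ) [C.IsLE p] [L.IsGE n] :
    ((RHomR A C).obj L).IsGE (n - p) := by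
  apply isGE_of_hom_J
  intro i hi φ
  apply eq_zero_of_adjunct'
  haveI := isLE_J_tensor i p C
  exact TStructure.t.zero _ (i + p) n (by omega)

end AmpRHom

section AmpLBase

variable {R R' : Type u} [CommRing R] [CommRing R'] (φ : R →+* R') [HasLBase φ]

/-- derived base change is right t-exact -/
theorem isLE_LBase (X : Dual.D R) (p : ℤ) [X.IsLE p] : ((LBase φ).obj X).IsLE p := by
  obtain ⟨X₀, hX₀, ⟨eX⟩⟩ := exists_iso_Q_obj_of_isLE X p
  obtain ⟨X₁, α, hX₁, hfree, _, hα⟩ := Groth.Agent.Lib.LeftRes.exists_resolution_int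
    (fun M : ModuleCat.{u} R => Module.Free R M) (resClass R).cover (resClass R).zero X₀ p
  have hkf : KF R X₁ := kf_of_vanishesAbove X₁ p (fun i hi => X₁.isZero_of_isStrictlyLE p i hi)
    (fun i => by haveI := hfree i; infer_instance)
  haveI : IsIso (Q.map α) := (isIso_Q_map_iff_quasiIso (C := ModuleCat.{u} R) α).2 hα
  have e1 : X ≅ Q.obj X₁ := eX ≪≫ (asIso (Q.map α)).symm
  haveI : IsIso (bC φ X₁) := Groth.Agent.Lib.BaseCmp.isIso_baseCmp_of_kf φ X₁ hkf
  have e2 : (LBase φ).obj X ≅ Q.obj ((extCx φ).obj X₁) :=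
    (LBase φ).mapIso e1 ≪≫ asIso (bC φ X₁)
  haveI : ((extCx φ).obj X₁).IsStrictlyLE p := by
    rw [CochainComplex.isStrictlyLE_iff]
    intro i hi
    exact (extM φ).map_isZero (X₁.isZero_of_isStrictlyLE p i hi)
  exact TStructure.t.isLE_of_iso e2.symm p

/-- derived base change along a flat map is left t-exact -/
theorem isGE_LBase_of_flat (hφ : φ.Flat) (X : Dual.D R) (k : ℤ) [X.IsGE k] :
    ((LBase φ).obj X).IsGE k := by
  obtain ⟨X₁, hkf, ⟨e⟩⟩ := exists_kf_iso X
  haveI : IsIso (bC φ X₁) := Groth.Agent.Lib.BaseCmp.isIso_baseCmp_of_kf φ X₁ hkf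
  have e2 : (LBase φ).obj X ≅ Q.obj ((extCx φ).obj X₁) :=
    (LBase φ).mapIso e.symm ≪≫ asIso (bC φ X₁)
  haveI : PreservesFiniteLimits (extM φ) :=
    ModuleCat.preservesFiniteLimits_extendScalars_of_flat hφ
  haveI : PreservesFiniteColimits (extM φ) := by
    haveI := (adjM φ).leftAdjoint_preservesColimits
    infer_instance
  haveI : (Q.obj X₁).IsGE k := TStructure.t.isGE_of_iso e.symm k
  haveI : (Q.obj ((extCx φ).obj X₁)).IsGE k := by
    rw [isGE_iff]
    intro i hi
    have h1 : IsZero ((homologyFunctor _ i).obj (Q.obj X₁)) :=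
      (isGE_iff (Q.obj X₁) k).1 inferInstance i hi
    have h2 : IsZero (X₁.homology i) := h1.of_iso ((homologyFunctorFactors _ i).app X₁).symm
    have h3 : X₁.ExactAt i := (HomologicalComplex.exactAt_iff_isZero_homology _ _).2 h2
    have h4 : ((extCx φ).obj X₁).ExactAt i := by
      rw [HomologicalComplex.exactAt_iff]
      exact ((HomologicalComplex.exactAt_iff _ _).1 h3).map (extM φ)
    exact ((HomologicalComplex.exactAt_iff_isZero_homology _ _).1 h4).of_iso
      ((homologyFunctorFactors _ i).app _)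
  exact TStructure.t.isGE_of_iso e2.symm k

end AmpLBase

section Main

variable {R R' : Type u} [CommRing R] [CommRing R'] (φ : R →+* R')
  [HasLTen R] [HasLTen R'] [HasRHom R] [HasRHom R'] [HasLBase φ] [HasResTen φ] [ResLegIso φ]

lemma wExact_FcK (M : Dual.D R) (T : Triangle (Dual.D R)) (hT : T ∈ distTriang _) :
    WExact ((FcK φ M).map T.mor₂.op) ((FcK φ M).map T.mor₁.op) :=
  wExact_map (weakTri_LBase φ) (wExact_RHomMap' (wExact_of_distinguished T hT) M)

lemma wExact_GcK (M : Dual.D R) (T : Triangle (Dual.D R)) (hT : T ∈ distTriang _) :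
    WExact ((GcK φ M).map T.mor₂.op) ((GcK φ M).map T.mor₁.op) :=
  wExact_RHomMap' (wExact_map (weakTri_LBase φ) (wExact_of_distinguished T hT)) _

/-- **base change for `RHom(K, M)`, `K` pseudo-coherent, `M` bounded below, under amplitude bounds for
derived base change**: `d` bounds the loss of left exactness of `LBase φ`. -/
theorem isIso_bcRHom_of_amp (d : ℤ)
    (hamp : ∀ (X : Dual.D R) (k : ℤ), X.IsGE k → ((LBase φ).obj X).IsGE (k - d))
    (K M : Dual.D R) (hK : DRing.IsPseudoCoherent' R K) (n : ℤ) [M.IsGE n] :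
    IsIso (bcRHom φ K M) := by
  obtain ⟨E, b, hb, hE, ⟨eK⟩⟩ := hK
  refine isIso_app_of_iso' (bcRHomNat φ M) eK.op.symm ?_
  show IsIso (bcRHom φ (DRing.toD E) M)
  have hFM : ((LBase φ).obj M).IsGE (n - d) := hamp M n inferInstance
  apply isIso_of_bijective_hom_J
  intro i
  obtain ⟨P, C, u, v, w, hT, hP, hC⟩ := exists_approx E b hb hE (n - d - i - 1)
  haveI := hC
  haveI hC' : (C⟦(-1 : ℤ)⟧).IsLE (n - d - i - 1) :=
    TStructure.t.isLE_shift C (n - d - i - 1 - 1) (-1) (n - d - i - 1) (by omega)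
  have h₁ : IsIso ((bcRHomNat φ M).app (op P)) := isIso_bcRHom_of_isPerfect φ P M hP
  refine bijective_of_approx_op (bcRHomNat φ M) (wExact_FcK φ M) (wExact_GcK φ M)
    (Triangle.mk u v w) hT h₁ (J i) ?_ ?_ ?_ ?_
  · intro ψ
    haveI := isGE_RHom' C M (n - d - i - 1 - 1) n
    have hge := hamp ((RHomR R C).obj M) (n - (n - d - i - 1 - 1)) inferInstance
    exact @hom_J_eq_zero_of_isGE R' _ _ (n - (n - d - i - 1 - 1) - d) i hge (by omega) ψ
  · intro ψ
    haveI := isGE_RHom' (C⟦(-1 : ℤ)⟧) M (n - d - i - 1) n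
    have hge := hamp ((RHomR R (C⟦(-1 : ℤ)⟧)).obj M) (n - (n - d - i - 1)) inferInstance
    exact @hom_J_eq_zero_of_isGE R' _ _ (n - (n - d - i - 1) - d) i hge (by omega) ψ
  · intro ψ
    haveI := isLE_LBase φ C (n - d - i - 1 - 1)
    haveI := hFM
    have hge := isGE_RHom' ((LBase φ).obj C) ((LBase φ).obj M) (n - d - i - 1 - 1) (n - d)
    exact @hom_J_eq_zero_of_isGE R' _ _ (n - d - (n - d - i - 1 - 1)) i hge (by omega) ψ
  · intro ψ
    haveI := isLE_LBase φ (C⟦(-1 : ℤ)⟧) (n - d - i - 1)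
    haveI := hFM
    have hge := isGE_RHom' ((LBase φ).obj (C⟦(-1 : ℤ)⟧)) ((LBase φ).obj M) (n - d - i - 1)
      (n - d)
    exact @hom_J_eq_zero_of_isGE R' _ _ (n - d - (n - d - i - 1)) i hge (by omega) ψ

/-- **flat base change for `RHom(K, M)`, `K` pseudo-coherent, `M` bounded below** -/
theorem isIso_bcRHom_of_flat (hφ : φ.Flat) (K M : Dual.D R) (hK : DRing.IsPseudoCoherent' R K)
    (n : ℤ) [M.IsGE n] : IsIso (bcRHom φ K M) := by
  refine isIso_bcRHom_of_amp φ 0 (fun X k hX => ?_) K M hK n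
  haveI := hX
  rw [sub_zero]
  exact isGE_LBase_of_flat φ hφ X k

end Main

end Groth.Agent.Lib.LBaseMonH1
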