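import Mathlib
import Groth.Prelude.Def_DTen5
import Groth.Agent.Lib.LBaseMon5_helper1
import Groth.Agent.Lib.ShriekTen3_helper6
import Groth.Agent.Lib.DMod50_helper6

/-!
# Derived base change is monoidal (helper1), part 6: amplitude of derived base change along a ring map
of finite tor dimension, and base change for `RHom`
-/

set_option autoImplicit false
universe u
open CategoryTheory Limits MonoidalCategory Pretriangulated Opposite

namespace Groth.Agent.Lib.LBaseMonH1

open DTen DerivedCategory Groth.Agent.Lib.KFlatMod Groth.Agent.Lib.WExact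
  Groth.Agent.Lib.TenExact Groth.Agent.Lib.Devissage Groth.Agent.Lib.Amp
attribute [local instance] HasDerivedCategory.standard

section TorAmp

variable {A : Type u} [CommRing A] [HasLTen A]

/-- amplitude of `X ⊗^L Y` for `X` bounded below and `Y` of tor amplitude in `[a, b]` -/
theorem isGE_tensor_of_torAmp (X Y : Dual.D A) (k a b : ℤ) [X.IsGE k]
    (hY : DRing.HasTorAmplitudeIn A a b Y) : ((LTen₂ A).obj (X, Y)).IsGE (k + a) := by
  obtain ⟨Fl, hFl, hflat, ⟨eY⟩⟩ := hY
  obtain ⟨X₀, hX₀, ⟨eX⟩⟩ := exists_iso_Q_obj_of_isGE X k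
  have hkf : KF A Fl := kf_of_vanishesAbove Fl b (fun i hi => hFl i (Or.inr hi)) hflat
  haveI := Groth.Agent.Lib.LTen2.isIso_ε_of_kf_right A X₀ Fl hkf
  have e2 : (LTen₂ A).obj (X, Y) ≅ Q.obj (X₀ ⊗ Fl) :=
    (LTen₂ A).mapIso (Iso.prod eX eY.symm) ≪≫ asIso ((ε A).app (X₀, Fl))
  haveI : (X₀ ⊗ Fl).IsStrictlyGE (k + a) := by
    rw [CochainComplex.isStrictlyGE_iff]
    intro j hj
    apply Groth.Agent.Lib.DRingLT.isZero_tensor_X
    intro p q hpq
    by_cases hp : p < k
    · exact Or.inl (X₀.isZero_of_isStrictlyGE k p hp)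
    · exact Or.inr (hFl q (Or.inl (by omega)))
  exact TStructure.t.isGE_of_iso e2.symm (k + a)

end TorAmp

section JIso

variable {R R' : Type u} [CommRing R] [CommRing R'] (φ : R →+* R')

/-- `ext` of the ring placed in degree `i` is the ring placed in degree `i` -/
noncomputable def extSIso (i : ℤ) : (extCx φ).obj (S (A := R) i) ≅ S (A := R') i :=
  (HomologicalComplex.singleMapHomologicalComplex (extM φ) (ComplexShape.up ℤ) i).app
      (ModuleCat.of R R) ≪≫
    (HomologicalComplex.single (ModuleCat.{u} R') (ComplexShape.up ℤ) i).mapIso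
      (Functor.Monoidal.εIso (extM φ)).symm

variable [HasLBase φ]

/-- `R[-i] ⊗^L_R R' ≅ R'[-i]` -/
noncomputable def LBaseJIso (i : ℤ) : (LBase φ).obj (J (A := R) i) ≅ J (A := R') i :=
  haveI : IsIso (bC φ (S (A := R) i)) :=
    Groth.Agent.Lib.BaseCmp.isIso_baseCmp_of_kf φ (S i) (kf_S i)
  asIso (bC φ (S (A := R) i)) ≪≫ Q.mapIso (extSIso φ i)

/-- restriction of scalars detects the bounded below objects -/
lemma isGE_of_isGE_res (Y : Dual.D R') (s : ℤ) [((DRing.restrictD φ).obj Y).IsGE s] :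
    Y.IsGE s := by
  apply isGE_of_hom_J
  intro i hi ψ
  have h0 : (baseAdj φ).homEquiv _ _ ((LBaseJIso φ i).hom ≫ ψ) = 0 :=
    hom_J_eq_zero_of_isGE _ s i hi _
  have h1 : (LBaseJIso φ i).hom ≫ ψ = 0 := by
    apply ((baseAdj φ).homEquiv _ _).injective
    rw [h0, Adjunction.homEquiv_unit, Functor.map_zero, comp_zero]
  rw [← cancel_epi (LBaseJIso φ i).hom, h1, comp_zero]

end JIso

section ProjUnit

variable {R R' : Type u} [CommRing R] [CommRing R'] [Algebra R R']

/-- `R'` restricted to `R`, as a module: the linear equivalence -/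
noncomputable def resOfEquiv :
    ((resM (algebraMap R R')).obj (𝟙_ (ModuleCat.{u} R'))) ≃ₗ[R] (ModuleCat.of R R') where
  toFun := fun x => x
  invFun := fun x => x
  left_inv := fun _ => rfl
  right_inv := fun _ => rfl
  map_add' := fun _ _ => rfl
  map_smul' := fun r x => by
    show (algebraMap R R' r) • (show R' from x) = r • (show R' from x)
    rw [smul_eq_mul, Algebra.smul_def]

/-- `R'` restricted to `R`, as a module -/
noncomputable def resOfIso :
    (resM (algebraMap R R')).obj (𝟙_ (ModuleCat.{u} R')) ≅ ModuleCat.of R R' :=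
  (resOfEquiv (R := R) (R' := R')).toModuleIso

/-- `res 𝟙` in `D(R)` is `R'` placed in degree `0` -/
noncomputable def resUnitIso :
    Q.obj ((resCx (algebraMap R R')).obj (𝟙_ (DRing.Cx R'))) ≅ Dual.inD R R' :=
  Q.mapIso ((HomologicalComplex.singleMapHomologicalComplex (resM (algebraMap R R'))
      (ComplexShape.up ℤ) 0).app (𝟙_ (ModuleCat.{u} R')) ≪≫
    (HomologicalComplex.single (ModuleCat.{u} R) (ComplexShape.up ℤ) 0).mapIso resOfIso) ≪≫
    ((singleFunctorIsoCompQ (ModuleCat.{u} R) 0).app (ModuleCat.of R R')).symm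

variable [HasLTen R] [HasLBase (algebraMap R R')]

/-- `(X ⊗^L_R R')|_R ≅ X ⊗^L_R R'[0]` -/
lemma nonempty_res_LBase_iso (X : Dual.D R) :
    Nonempty ((DRing.restrictD (algebraMap R R')).obj ((LBase (algebraMap R R')).obj X) ≅
      (LTen₂ R).obj (X, Dual.inD R R')) := by
  obtain ⟨X₁, hkf, ⟨e⟩⟩ := exists_kf_iso X
  haveI : IsIso (bC (algebraMap R R') X₁) :=
    Groth.Agent.Lib.BaseCmp.isIso_baseCmp_of_kf (algebraMap R R') X₁ hkf
  haveI := Groth.Agent.Lib.LTen2.isIso_ε_of_kf_left R X₁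
    ((resCx (algebraMap R R')).obj (𝟙_ (DRing.Cx R'))) hkf
  let c : (X₁ ⊗ (resCx (algebraMap R R')).obj (𝟙_ (DRing.Cx R')) : DRing.Cx R) ≅
      (resCx (algebraMap R R')).obj ((extCx (algebraMap R R')).obj X₁) :=
    asIso (Groth.Agent.Lib.ShriekTenH6.sig X₁ (𝟙_ (DRing.Cx R'))) ≪≫
      (resCx (algebraMap R R')).mapIso (ρ_ ((extCx (algebraMap R R')).obj X₁))
  exact ⟨(DRing.restrictD (algebraMap R R')).mapIso
      ((LBase (algebraMap R R')).mapIso e.symm ≪≫ asIso (bC (algebraMap R R') X₁)) ≪≫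
    (resFactors (algebraMap R R')).app _ ≪≫ Q.mapIso c.symm ≪≫
    (asIso ((ε R).app (X₁, (resCx (algebraMap R R')).obj (𝟙_ (DRing.Cx R'))))).symm ≪≫
    (LTen₂ R).mapIso (Iso.prod e resUnitIso)⟩

/-- derived base change along a ring map of tor dimension `≤ d` loses at most `d` degrees -/
theorem isGE_LBase_of_torDim (d : ℕ) (hd : DRing.HasTorDimLE R d R') (X : Dual.D R) (k : ℤ)
    [X.IsGE k] : ((LBase (algebraMap R R')).obj X).IsGE (k - d) := by
  obtain ⟨e⟩ := nonempty_res_LBase_iso (R' := R') X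
  have hY := (Groth.Agent.Lib.DMod_helper6.hasTorDimLE_iff R' d).1 hd
  have h1 := isGE_tensor_of_torAmp X (Dual.inD R R') k (-(d : ℤ)) 0 hY
  rw [← sub_eq_add_neg] at h1
  haveI : ((DRing.restrictD (algebraMap R R')).obj ((LBase (algebraMap R R')).obj X)).IsGE
      (k - d) := TStructure.t.isGE_of_iso e.symm (k - d)
  exact isGE_of_isGE_res (algebraMap R R') _ (k - d)

variable [HasLTen R'] [HasRHom R] [HasRHom R'] [HasResTen (algebraMap R R')]
  [ResLegIso (algebraMap R R')]

/-- **base change for `RHom(K, M)`, `K` pseudo-coherent, `M` bounded below, `R'` of finite tor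
dimension over `R`** -/
theorem isIso_bcRHom_of_finiteTorDim (hR' : DRing.HasFiniteTorDim R R') (K M : Dual.D R)
    (hK : DRing.IsPseudoCoherent' R K) (n : ℤ) [M.IsGE n] :
    IsIso (bcRHom (algebraMap R R') K M) := by
  obtain ⟨d, hd⟩ := hR'
  refine isIso_bcRHom_of_amp (algebraMap R R') (d : ℤ) (fun X k hX => ?_) K M hK n
  haveI := hX
  exact isGE_LBase_of_torDim d hd X k

end ProjUnit

end Groth.Agent.Lib.LBaseMonH1
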