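import Mathlib
import Groth.Prelude.Def_DTen2
import Groth.Agent.Lib.ProdLoc3_helper2
import Groth.Agent.Lib.LTen2_helper2

/-!
# Associativity of the derived tensor product (helper2)

Both associativity legs `(a ⊗^L b) ⊗^L c ⟶ LTen₃(a, b, c)` and `a ⊗^L (b ⊗^L c) ⟶ LTen₃(a, b, c)`
are isomorphisms.
-/

set_option autoImplicit false
universe u
open CategoryTheory Limits MonoidalCategory

namespace Groth.Agent.Lib.LTen3

open DerivedCategory Groth.Agent.Lib.KFlatMod Groth.Agent.Lib.KFlatGen Groth.Agent.Lib.ProdLoc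
  Groth.Agent.Lib.KProjInv Groth.Agent.Lib.LTen2

attribute [local instance] HasDerivedCategory.standard

variable (A : Type u) [CommRing A]

/-- the triple tensor product on the homotopy category -/
noncomputable abbrev tensorH₃ : KR A × (KR A × KR A) ⥤ KR A :=
  ((𝟭 (KR A)).prod (tensorH A)) ⋙ tensorH A

/-- `(X, (Y, Z)) ↦ Qh (X ⊗ (Y ⊗ Z))` -/
noncomputable abbrev tensorH₃Q : KR A × (KR A × KR A) ⥤ DR A := tensorH₃ A ⋙ Qh

lemma tensorT₃_map {X₁ Y₁ X₂ Y₂ X₃ Y₃ : DRing.Cx A} (f : X₁ ⟶ Y₁) (g : X₂ ⟶ Y₂) (h : X₃ ⟶ Y₃) :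
    (DTen.tensorT₃ A).map ((f, (g, h)) : (X₁, (X₂, X₃)) ⟶ (Y₁, (Y₂, Y₃))) = f ⊗ₘ (g ⊗ₘ h) := by
  show (DTen.tensorT A).map ((f, (DTen.tensorT A).map ((g, h) : (X₂, X₃) ⟶ (Y₂, Y₃))) :
    (X₁, X₂ ⊗ X₃) ⟶ (Y₁, Y₂ ⊗ Y₃)) = _
  have e1 : (DTen.tensorT A).map ((g, h) : (X₂, X₃) ⟶ (Y₂, Y₃)) = g ⊗ₘ h :=
    (MonoidalCategory.tensorHom_def g h).symm
  rw [e1]
  exact (MonoidalCategory.tensorHom_def f (g ⊗ₘ h)).symm

lemma tensorH₃_map {X₁ Y₁ X₂ Y₂ X₃ Y₃ : DRing.Cx A} (f : X₁ ⟶ Y₁) (g : X₂ ⟶ Y₂) (h : X₃ ⟶ Y₃) :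
    (tensorH₃ A).map ((ππ₃ (ComplexShape.up ℤ) (ComplexShape.up ℤ) (ComplexShape.up ℤ)).map
        ((f, (g, h)) : (X₁, (X₂, X₃)) ⟶ (Y₁, (Y₂, Y₃)))) =
      (HomotopyCategory.quotient _ _).map (f ⊗ₘ (g ⊗ₘ h)) := by
  show (tensorH A).map (((HomotopyCategory.quotient _ _).map f,
    (tensorH A).map ((ππ (ComplexShape.up ℤ) (ComplexShape.up ℤ)).map
      ((g, h) : (X₂, X₃) ⟶ (Y₂, Y₃)))) :
    ((HomotopyCategory.quotient _ _).obj X₁, (HomotopyCategory.quotient _ _).obj (X₂ ⊗ X₃)) ⟶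
      ((HomotopyCategory.quotient _ _).obj Y₁, (HomotopyCategory.quotient _ _).obj (Y₂ ⊗ Y₃))) = _
  rw [tensorH_map]
  exact tensorH_map A f (g ⊗ₘ h)

/-- `tensorH₃Q` is induced by `tensor₃` -/
noncomputable def tensorH₃QIso :
    ππ₃ (ComplexShape.up ℤ) (ComplexShape.up ℤ) (ComplexShape.up ℤ) ⋙ tensorH₃Q A ≅
      DTen.tensor₃ A :=
  NatIso.ofComponents (fun X => (quotientCompQhIso _).app (X.1 ⊗ (X.2.1 ⊗ X.2.2))) (by
    rintro ⟨X₁, X₂, X₃⟩ ⟨Y₁, Y₂, Y₃⟩ ⟨f, g, h⟩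
    show Qh.map ((tensorH₃ A).map
        ((ππ₃ (ComplexShape.up ℤ) (ComplexShape.up ℤ) (ComplexShape.up ℤ)).map
          ((f, (g, h)) : (X₁, (X₂, X₃)) ⟶ (Y₁, (Y₂, Y₃))))) ≫
        (quotientCompQhIso _).hom.app (Y₁ ⊗ (Y₂ ⊗ Y₃)) =
      (quotientCompQhIso _).hom.app (X₁ ⊗ (X₂ ⊗ X₃)) ≫
        Q.map ((DTen.tensorT₃ A).map ((f, (g, h)) : (X₁, (X₂, X₃)) ⟶ (Y₁, (Y₂, Y₃))))
    rw [tensorH₃_map, tensorT₃_map]
    exact (quotientCompQhIso _).hom.naturality (f ⊗ₘ (g ⊗ₘ h)))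

variable [DTen.HasLTen A]

/-- `a ⊗^L (b ⊗^L c)` on the homotopy categories -/
noncomputable abbrev GfR : KR A × (KR A × KR A) ⥤ DR A :=
  QhQhQh (ModuleCat.{u} A) (ModuleCat.{u} A) (ModuleCat.{u} A) ⋙ DTen.LTenR A

/-- `(a ⊗^L b) ⊗^L c` on the homotopy categories -/
noncomputable abbrev GfL : KR A × (KR A × KR A) ⥤ DR A :=
  QhQhQh (ModuleCat.{u} A) (ModuleCat.{u} A) (ModuleCat.{u} A) ⋙ DTen.LTenL A

/-- `βR` with target rewritten through the homotopy categories -/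
noncomputable def βR₀ :
    ππ₃ (ComplexShape.up ℤ) (ComplexShape.up ℤ) (ComplexShape.up ℤ) ⋙ GfR A ⟶
      ππ₃ (ComplexShape.up ℤ) (ComplexShape.up ℤ) (ComplexShape.up ℤ) ⋙ tensorH₃Q A :=
  (show ππ₃ (ComplexShape.up ℤ) (ComplexShape.up ℤ) (ComplexShape.up ℤ) ⋙ GfR A ⟶ DTen.tensor₃ A
    from DTen.βR A) ≫ (tensorH₃QIso A).inv

/-- `βL` with target rewritten through the homotopy categories -/
noncomputable def βL₀ :
    ππ₃ (ComplexShape.up ℤ) (ComplexShape.up ℤ) (ComplexShape.up ℤ) ⋙ GfL A ⟶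
      ππ₃ (ComplexShape.up ℤ) (ComplexShape.up ℤ) (ComplexShape.up ℤ) ⋙ tensorH₃Q A :=
  (show ππ₃ (ComplexShape.up ℤ) (ComplexShape.up ℤ) (ComplexShape.up ℤ) ⋙ GfL A ⟶ DTen.tensor₃ A
    from DTen.βL A) ≫ (tensorH₃QIso A).inv

lemma exists_τR : ∃ τR : GfR A ⟶ tensorH₃Q A,
    Functor.whiskerLeft (ππ₃ (ComplexShape.up ℤ) (ComplexShape.up ℤ) (ComplexShape.up ℤ)) τR =
      βR₀ A :=
  (whiskerFF_ππ₃ (ComplexShape.up ℤ) (ComplexShape.up ℤ) (ComplexShape.up ℤ) (DR A) (GfR A)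
    (tensorH₃Q A)).2 (βR₀ A)

lemma exists_τL : ∃ τL : GfL A ⟶ tensorH₃Q A,
    Functor.whiskerLeft (ππ₃ (ComplexShape.up ℤ) (ComplexShape.up ℤ) (ComplexShape.up ℤ)) τL =
      βL₀ A :=
  (whiskerFF_ππ₃ (ComplexShape.up ℤ) (ComplexShape.up ℤ) (ComplexShape.up ℤ) (DR A) (GfL A)
    (tensorH₃Q A)).2 (βL₀ A)

/-- the descent of `βR` -/
noncomputable def τR : GfR A ⟶ tensorH₃Q A := (exists_τR A).choose

/-- the descent of `βL` -/
noncomputable def τL : GfL A ⟶ tensorH₃Q A := (exists_τL A).choose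

lemma τR_app (K L M : DRing.Cx A) :
    (τR A).app ((ππ₃ (ComplexShape.up ℤ) (ComplexShape.up ℤ) (ComplexShape.up ℤ)).obj
        (K, (L, M))) =
      (DTen.βR A).app (K, (L, M)) ≫ (tensorH₃QIso A).inv.app (K, (L, M)) :=
  congrArg (fun t => t.app (K, (L, M))) (exists_τR A).choose_spec

lemma τL_app (K L M : DRing.Cx A) :
    (τL A).app ((ππ₃ (ComplexShape.up ℤ) (ComplexShape.up ℤ) (ComplexShape.up ℤ)).obj
        (K, (L, M))) =
      (DTen.βL A).app (K, (L, M)) ≫ (tensorH₃QIso A).inv.app (K, (L, M)) :=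
  congrArg (fun t => t.app (K, (L, M))) (exists_τL A).choose_spec

lemma isIso_βR_app (K L M : DRing.Cx A) (hK : KF A K) (hL : KF A L) :
    IsIso ((DTen.βR A).app (K, (L, M))) := by
  haveI : IsIso ((DTen.ε A).app (L, M)) := isIso_ε_of_kf_left A L M hL
  haveI : IsIso ((DTen.ε A).app (K, L ⊗ M)) := isIso_ε_of_kf_left A K _ hK
  haveI : IsIso (Prod.mkHom (𝟙 (DerivedCategory.Q.obj K)) ((DTen.ε A).app (L, M))) :=
    (isIso_prod_iff (f := Prod.mkHom (𝟙 (DerivedCategory.Q.obj K))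
      ((DTen.ε A).app (L, M)))).2 ⟨inferInstanceAs (IsIso (𝟙 _)), inferInstance⟩
  show IsIso ((DTen.LTen₂ A).map (Prod.mkHom (𝟙 (DerivedCategory.Q.obj K))
    ((DTen.ε A).app (L, M))) ≫ (DTen.ε A).app (K, L ⊗ M))
  infer_instance

lemma isIso_βL_app (K L M : DRing.Cx A) (hK : KF A K) (hM : KF A M) :
    IsIso ((DTen.βL A).app (K, (L, M))) := by
  haveI : IsIso ((DTen.ε A).app (K, L)) := isIso_ε_of_kf_left A K L hK
  haveI : IsIso ((DTen.ε A).app (K ⊗ L, M)) := isIso_ε_of_kf_right A _ M hM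
  haveI : IsIso (Prod.mkHom ((DTen.ε A).app (K, L)) (𝟙 (DerivedCategory.Q.obj M))) :=
    (isIso_prod_iff (f := Prod.mkHom ((DTen.ε A).app (K, L))
      (𝟙 (DerivedCategory.Q.obj M)))).2 ⟨inferInstance, inferInstanceAs (IsIso (𝟙 _))⟩
  show IsIso ((DTen.LTen₂ A).map (Prod.mkHom ((DTen.ε A).app (K, L))
    (𝟙 (DerivedCategory.Q.obj M))) ≫ (DTen.ε A).app (K ⊗ L, M) ≫
      DerivedCategory.Q.map (α_ K L M).hom)
  infer_instance

/-- the class of triples of K-flat complexes -/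
def P₃ (X : KR A × (KR A × KR A)) : Prop := KF A X.1.as ∧ KF A X.2.1.as ∧ KF A X.2.2.as

omit [DTen.HasLTen A] in
lemma exists_res₃ (X : KR A × (KR A × KR A)) :
    ∃ (X' : KR A × (KR A × KR A)) (s : X' ⟶ X),
      WK₃ (ModuleCat.{u} A) (ModuleCat.{u} A) (ModuleCat.{u} A) s ∧ P₃ A X' :=
  ⟨((ρ A).obj X.1, ((ρ A).obj X.2.1, (ρ A).obj X.2.2)),
    (((πρ A).app X.1, ((πρ A).app X.2.1, (πρ A).app X.2.2)) :
      ((ρ A).obj X.1, ((ρ A).obj X.2.1, (ρ A).obj X.2.2)) ⟶ X),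
    ⟨mem_quasiIso_πρ X.1, mem_quasiIso_πρ X.2.1, mem_quasiIso_πρ X.2.2⟩,
    ⟨(ρ_prop A X.1).2, (ρ_prop A X.2.1).2, (ρ_prop A X.2.2).2⟩⟩

lemma resDataR : Groth.Agent.Lib.DerivedCmp.ResData
    (WK₃ (ModuleCat.{u} A) (ModuleCat.{u} A) (ModuleCat.{u} A)) (τR A) (P₃ A) where
  iso X hX := by
    show IsIso ((τR A).app ((ππ₃ (ComplexShape.up ℤ) (ComplexShape.up ℤ) (ComplexShape.up ℤ)).obj
      (X.1.as, (X.2.1.as, X.2.2.as))))
    rw [τR_app]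
    exact @IsIso.comp_isIso _ _ _ _ _ ((DTen.βR A).app (X.1.as, (X.2.1.as, X.2.2.as)))
      ((tensorH₃QIso A).inv.app (X.1.as, (X.2.1.as, X.2.2.as)))
      (isIso_βR_app A _ _ _ hX.1 hX.2.1) inferInstance
  res X := exists_res₃ A X

lemma resDataL : Groth.Agent.Lib.DerivedCmp.ResData
    (WK₃ (ModuleCat.{u} A) (ModuleCat.{u} A) (ModuleCat.{u} A)) (τL A) (P₃ A) where
  iso X hX := by
    show IsIso ((τL A).app ((ππ₃ (ComplexShape.up ℤ) (ComplexShape.up ℤ) (ComplexShape.up ℤ)).obj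
      (X.1.as, (X.2.1.as, X.2.2.as))))
    rw [τL_app]
    exact @IsIso.comp_isIso _ _ _ _ _ ((DTen.βL A).app (X.1.as, (X.2.1.as, X.2.2.as)))
      ((tensorH₃QIso A).inv.app (X.1.as, (X.2.1.as, X.2.2.as)))
      (isIso_βL_app A _ _ _ hX.1 hX.2.2) inferInstance
  res X := exists_res₃ A X

lemma isLeftDerivedFunctor_LTenR :
    (DTen.LTenR A).IsLeftDerivedFunctor (τR A)
      (WK₃ (ModuleCat.{u} A) (ModuleCat.{u} A) (ModuleCat.{u} A)) := by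
  have h2 := Groth.Agent.Lib.DerivedCmp.isLeftDerivedFunctor
    (QhQhQh (ModuleCat.{u} A) (ModuleCat.{u} A) (ModuleCat.{u} A))
    (WK₃ (ModuleCat.{u} A) (ModuleCat.{u} A) (ModuleCat.{u} A))
    (resDataR A) (DTen.LTenR A) (Iso.refl _)
  have h3 : (Iso.refl (QhQhQh (ModuleCat.{u} A) (ModuleCat.{u} A) (ModuleCat.{u} A) ⋙
      DTen.LTenR A)).hom ≫ τR A = τR A := Category.id_comp _
  rwa [h3] at h2

lemma isLeftDerivedFunctor_LTenL :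
    (DTen.LTenL A).IsLeftDerivedFunctor (τL A)
      (WK₃ (ModuleCat.{u} A) (ModuleCat.{u} A) (ModuleCat.{u} A)) := by
  have h2 := Groth.Agent.Lib.DerivedCmp.isLeftDerivedFunctor
    (QhQhQh (ModuleCat.{u} A) (ModuleCat.{u} A) (ModuleCat.{u} A))
    (WK₃ (ModuleCat.{u} A) (ModuleCat.{u} A) (ModuleCat.{u} A))
    (resDataL A) (DTen.LTenL A) (Iso.refl _)
  have h3 : (Iso.refl (QhQhQh (ModuleCat.{u} A) (ModuleCat.{u} A) (ModuleCat.{u} A) ⋙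
      DTen.LTenL A)).hom ≫ τL A = τL A := Category.id_comp _
  rwa [h3] at h2

variable [DTen.HasLTen₃ A]

/-- the counit of `LTen₃`, with target rewritten through the homotopy categories -/
noncomputable def ε₃₀ : QQQ (ModuleCat.{u} A) (ModuleCat.{u} A) (ModuleCat.{u} A) ⋙ DTen.LTen₃ A ⟶
    ππ₃ (ComplexShape.up ℤ) (ComplexShape.up ℤ) (ComplexShape.up ℤ) ⋙ tensorH₃Q A :=
  DTen.ε₃ A ≫ (tensorH₃QIso A).inv

instance isLeftDerivedFunctor_ε₃₀ :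
    (DTen.LTen₃ A).IsLeftDerivedFunctor (ε₃₀ A)
      (WC₃ (ModuleCat.{u} A) (ModuleCat.{u} A) (ModuleCat.{u} A)) := by
  have h : (DTen.LTen₃ A).IsLeftDerivedFunctor (DTen.ε₃ A) (DTen.qis₃ A) := inferInstance
  rw [Functor.isLeftDerivedFunctor_iff_isRightKanExtension] at h ⊢
  refine (Functor.isRightKanExtension_iff_of_iso₂ (DTen.ε₃ A) (ε₃₀ A) (tensorH₃QIso A).symm
    (Iso.refl _) ?_).1 h
  ext X
  simp [ε₃₀]

/-- **both associativity legs are isomorphisms** -/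
theorem isIso_assoc (X : DR A × (DR A × DR A)) :
    IsIso ((DTen.assocL A).app X) ∧ IsIso ((DTen.assocR A).app X) := by
  obtain ⟨α₃, hα₃, happ₃⟩ :=
    isLeftDerivedFunctor_Qh₃_of_Q₃ (tensorH₃Q A) (DTen.LTen₃ A) (ε₃₀ A)
  haveI := hα₃
  haveI := isLeftDerivedFunctor_LTenR A
  haveI := isLeftDerivedFunctor_LTenL A
  let W := WK₃ (ModuleCat.{u} A) (ModuleCat.{u} A) (ModuleCat.{u} A)
  let L := QhQhQh (ModuleCat.{u} A) (ModuleCat.{u} A) (ModuleCat.{u} A)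
  have haL : Functor.whiskerLeft L (DTen.assocL A) ≫ α₃ = τL A := by
    apply (whiskerFF_ππ₃ (ComplexShape.up ℤ) (ComplexShape.up ℤ) (ComplexShape.up ℤ)
      (DR A) _ _).1
    ext ⟨K, L', M⟩
    show (DTen.assocL A).app ((DTen.QQQ A).obj (K, (L', M))) ≫
        α₃.app ((ππ₃ (ComplexShape.up ℤ) (ComplexShape.up ℤ) (ComplexShape.up ℤ)).obj
          (K, (L', M))) =
      (τL A).app ((ππ₃ (ComplexShape.up ℤ) (ComplexShape.up ℤ) (ComplexShape.up ℤ)).obj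
        (K, (L', M)))
    rw [happ₃, τL_app, ← DTen.assocL_fac]
    show _ ≫ (DTen.ε₃ A).app (K, (L', M)) ≫ (tensorH₃QIso A).inv.app (K, (L', M)) = _
    rw [Category.assoc]
  have haR : Functor.whiskerLeft L (DTen.assocR A) ≫ α₃ = τR A := by
    apply (whiskerFF_ππ₃ (ComplexShape.up ℤ) (ComplexShape.up ℤ) (ComplexShape.up ℤ)
      (DR A) _ _).1
    ext ⟨K, L', M⟩
    show (DTen.assocR A).app ((DTen.QQQ A).obj (K, (L', M))) ≫
        α₃.app ((ππ₃ (ComplexShape.up ℤ) (ComplexShape.up ℤ) (ComplexShape.up ℤ)).obj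
          (K, (L', M))) =
      (τR A).app ((ππ₃ (ComplexShape.up ℤ) (ComplexShape.up ℤ) (ComplexShape.up ℤ)).obj
        (K, (L', M)))
    rw [happ₃, τR_app, ← DTen.assocR_fac]
    show _ ≫ (DTen.ε₃ A).app (K, (L', M)) ≫ (tensorH₃QIso A).inv.app (K, (L', M)) = _
    rw [Category.assoc]
  exact ⟨isIso_app_of_isLeftDerivedFunctor L W (DTen.LTenL A) (DTen.LTen₃ A) (τL A) α₃
      (DTen.assocL A) haL X,
    isIso_app_of_isLeftDerivedFunctor L W (DTen.LTenR A) (DTen.LTen₃ A) (τR A) α₃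
      (DTen.assocR A) haR X⟩

end Groth.Agent.Lib.LTen3
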