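import Mathlib
import Groth.Prelude.Def_DTen3
import Groth.Agent.Lib.LTen3_helper2
import Groth.Agent.S13576

/-!
# Derived base change is monoidal (helper1), part 7: the binders `HasLTen₃` and `IsSymMonoidal`
follow from `HasLTen` (K-flat resolutions): the jointly derived triple tensor product exists, and
the symmetry, unit and associativity maps of `D(A)` are isomorphisms.
-/

set_option autoImplicit false
universe u
open CategoryTheory Limits MonoidalCategory

namespace Groth.Agent.Lib.LBaseMonH1

open DTen DerivedCategory Groth.Agent.Lib.KFlatMod Groth.Agent.Lib.ProdLoc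
  Groth.Agent.Lib.LTen3 Groth.Agent.Lib.LTen2
attribute [local instance] HasDerivedCategory.standard

section Transfer

variable {C C' D H : Type*} [Category C] [Category C'] [Category D] [Category H]

/-- a right Kan extension along `Lh` gives a right Kan extension along `π ⋙ Lh` of the
precomposed functor, if whiskering by `π` is fully faithful -/
theorem isRightKanExtension_whisker_of_whiskerFF (π : C ⥤ C') (Lh : C' ⥤ D) (F' : C' ⥤ H)
    (LF : D ⥤ H) (hπ : WhiskerFF π H) (α' : Lh ⋙ LF ⟶ F') [LF.IsRightKanExtension α']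
    (α : (π ⋙ Lh) ⋙ LF ⟶ π ⋙ F') (hα : ∀ X, α.app X = α'.app (π.obj X)) :
    LF.IsRightKanExtension α := by
  have hβ : ∀ (G : D ⥤ H) (β : (π ⋙ Lh) ⋙ G ⟶ π ⋙ F'),
      ∃ β' : Lh ⋙ G ⟶ F', ∀ X, β'.app (π.obj X) = β.app X := by
    intro G β
    obtain ⟨β', hβ'⟩ := (hπ (Lh ⋙ G) F').2 ((Functor.associator _ _ _).inv ≫ β)
    refine ⟨β', fun X => ?_⟩
    have := congrArg (fun t => t.app X) hβ'
    simpa using this
  refine ⟨⟨Limits.IsTerminal.ofUniqueHom (fun E => CostructuredArrow.homMk
    (LF.liftOfIsRightKanExtension α' E.left (hβ E.left E.hom).choose) ?_) (fun E m => ?_)⟩⟩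
  · ext X
    have h := LF.liftOfIsRightKanExtension_fac_app α' E.left (hβ E.left E.hom).choose (π.obj X)
    have h2 := (hβ E.left E.hom).choose_spec X
    change (LF.liftOfIsRightKanExtension α' E.left _).app (Lh.obj (π.obj X)) ≫ α.app X =
      E.hom.app X
    rw [hα, h, h2]
  · apply CostructuredArrow.hom_ext
    apply LF.hom_ext_of_isRightKanExtension α'
    apply (hπ _ _).1
    ext X
    have h := LF.liftOfIsRightKanExtension_fac_app α' E.left (hβ E.left E.hom).choose (π.obj X)
    have h2 := (hβ E.left E.hom).choose_spec X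
    have hm := congrArg (fun t => t.app X) (CostructuredArrow.w m)
    replace hm : m.left.app (Lh.obj (π.obj X)) ≫ α.app X = E.hom.app X := hm
    change m.left.app (Lh.obj (π.obj X)) ≫ α'.app (π.obj X) =
      (LF.liftOfIsRightKanExtension α' E.left _).app (Lh.obj (π.obj X)) ≫ α'.app (π.obj X)
    rw [h, h2, ← hα, hm]

end Transfer

section Binders

variable (A : Type u) [CommRing A] [HasLTen A]

/-- **the jointly derived triple tensor product exists** -/
theorem hasLTen₃ : HasLTen₃ A := by
  haveI := isLeftDerivedFunctor_LTenR A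
  haveI : (LTenR A).IsRightKanExtension (τR A) :=
    Functor.IsLeftDerivedFunctor.isRightKanExtension (LTenR A) (τR A)
      (WK₃ (ModuleCat.{u} A) (ModuleCat.{u} A) (ModuleCat.{u} A))
  have h2 : (LTenR A).IsRightKanExtension
      (show (ππ₃ (ComplexShape.up ℤ) (ComplexShape.up ℤ) (ComplexShape.up ℤ) ⋙
          QhQhQh (ModuleCat.{u} A) (ModuleCat.{u} A) (ModuleCat.{u} A)) ⋙ LTenR A ⟶
        ππ₃ (ComplexShape.up ℤ) (ComplexShape.up ℤ) (ComplexShape.up ℤ) ⋙ tensorH₃Q A
        from βR₀ A) :=
    isRightKanExtension_whisker_of_whiskerFF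
      (ππ₃ (ComplexShape.up ℤ) (ComplexShape.up ℤ) (ComplexShape.up ℤ))
      (QhQhQh (ModuleCat.{u} A) (ModuleCat.{u} A) (ModuleCat.{u} A)) (tensorH₃Q A) (LTenR A)
      (whiskerFF_ππ₃ (ComplexShape.up ℤ) (ComplexShape.up ℤ) (ComplexShape.up ℤ) (Dual.D A))
      (τR A) _ (fun X => (congrArg (fun t => t.app X) (exists_τR A).choose_spec).symm)
  have h3 : (LTenR A).IsRightKanExtension (βR A) := by
    refine (Functor.isRightKanExtension_iff_of_iso₂
      (show DTen.QQQ A ⋙ LTenR A ⟶
        ππ₃ (ComplexShape.up ℤ) (ComplexShape.up ℤ) (ComplexShape.up ℤ) ⋙ tensorH₃Q A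
        from βR₀ A) (βR A) (tensorH₃QIso A) (Iso.refl _) ?_).1 h2
    ext X
    have e1 : (Functor.whiskerLeft (DTen.QQQ A) (Iso.refl (LTenR A)).hom ≫ βR A).app X =
        (βR A).app X := by simp
    have e2 : ((show DTen.QQQ A ⋙ LTenR A ⟶
        ππ₃ (ComplexShape.up ℤ) (ComplexShape.up ℤ) (ComplexShape.up ℤ) ⋙ tensorH₃Q A
        from βR₀ A) ≫ (tensorH₃QIso A).hom).app X = (βR A).app X := by
      show ((βR A).app X ≫ (tensorH₃QIso A).inv.app X) ≫ (tensorH₃QIso A).hom.app X = _
      rw [Category.assoc, Iso.inv_hom_id_app, Category.comp_id]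
    exact e1.trans e2.symm
  haveI : (LTenR A).IsLeftDerivedFunctor (βR A) (qis₃ A) := ⟨h3⟩
  exact Functor.HasLeftDerivedFunctor.mk' (LTenR A) (βR A)

omit [HasLTen A] in
/-- the unit complex is K-flat -/
lemma kf_unit : KF A (𝟙_ (DRing.Cx A)) := by
  apply kf_of_vanishesAbove _ 0
  · intro i hi
    exact HomologicalComplex.isZero_single_obj_X (ComplexShape.up ℤ) 0 _ i (by omega)
  · intro i
    by_cases h : i = 0
    · have e : (𝟙_ (DRing.Cx A)).X i ≅ 𝟙_ (ModuleCat.{u} A) :=
        HomologicalComplex.singleObjXIsoOfEq (ComplexShape.up ℤ) 0 _ i h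
      haveI : Module.Flat A (𝟙_ (ModuleCat.{u} A)) := inferInstanceAs (Module.Flat A A)
      exact Module.Flat.of_linearEquiv e.toLinearEquiv
    · haveI : Subsingleton ((𝟙_ (DRing.Cx A)).X i) :=
        ModuleCat.subsingleton_of_isZero
          (HomologicalComplex.isZero_single_obj_X (ComplexShape.up ℤ) 0 _ i h)
      infer_instance

lemma isIso_unitL_app (X : Dual.D A) : IsIso ((unitL A).app X) := by
  have e : Q.obj (Q.objPreimage X) ≅ X := Q.objObjPreimageIso X
  haveI : IsIso ((ε A).app (𝟙_ (DRing.Cx A), Q.objPreimage X)) :=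
    isIso_ε_of_kf_left A _ _ (kf_unit A)
  haveI : IsIso ((unitL A).app (Q.obj (Q.objPreimage X))) := by
    rw [unitL_app]
    infer_instance
  have hn := (unitL A).naturality e.hom
  haveI : IsIso (((LTen A).obj (DTen.unit A)).map e.hom ≫ (unitL A).app X) := by
    rw [hn]
    infer_instance
  exact IsIso.of_isIso_comp_left (((LTen A).obj (DTen.unit A)).map e.hom) _

lemma isIso_unitR_app (X : Dual.D A) : IsIso ((unitR A).app X) := by
  have e : Q.obj (Q.objPreimage X) ≅ X := Q.objObjPreimageIso X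
  haveI : IsIso ((ε A).app (Q.objPreimage X, 𝟙_ (DRing.Cx A))) :=
    isIso_ε_of_kf_right A _ _ (kf_unit A)
  haveI : IsIso ((unitR A).app (Q.obj (Q.objPreimage X))) := by
    rw [unitR_app]
    infer_instance
  have hn := (unitR A).naturality e.hom
  haveI : IsIso (((LTen A).flip.obj (DTen.unit A)).map e.hom ≫ (unitR A).app X) := by
    rw [hn]
    infer_instance
  exact IsIso.of_isIso_comp_left (((LTen A).flip.obj (DTen.unit A)).map e.hom) _

/-- **`D(A)` is symmetric monoidal: the five canonical maps are isomorphisms** -/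
theorem isSymMonoidal [HasLTen₃ A] : IsSymMonoidal A where
  isIso_symm := by
    haveI : ∀ X, IsIso ((DTen.symm A).app X) := fun X => Groth.Agent.S13576.result A X.1 X.2
    exact NatIso.isIso_of_isIso_app _
  isIso_unitL := by
    haveI : ∀ X, IsIso ((unitL A).app X) := fun X => isIso_unitL_app A X
    exact NatIso.isIso_of_isIso_app _
  isIso_unitR := by
    haveI : ∀ X, IsIso ((unitR A).app X) := fun X => isIso_unitR_app A X
    exact NatIso.isIso_of_isIso_app _
  isIso_assocL := by
    haveI : ∀ X, IsIso ((assocL A).app X) := fun X => (isIso_assoc A X).1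
    exact NatIso.isIso_of_isIso_app _
  isIso_assocR := by
    haveI : ∀ X, IsIso ((assocR A).app X) := fun X => (isIso_assoc A X).2
    exact NatIso.isIso_of_isIso_app _

end Binders

end Groth.Agent.Lib.LBaseMonH1
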