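import Mathlib
import Groth.Prelude.Def_DTen5
import Groth.Agent.Lib.LBaseMon2_helper1
import Groth.Agent.Lib.ExtKFlat_helper2

/-!
# Derived base change is monoidal (helper1), part 8: the projection formula on complexes

For an `R`-algebra `R'`, a complex `E` of `R'`-modules and a complex `Y` of `R`-modules, the map
`pf E Y : E|_R ⊗_R Y ⟶ (E ⊗_{R'} (R' ⊗_R Y))|_R` is an isomorphism of complexes, natural in `E`, and
associative (`pf_assoc`). Consequence: `t Y : R'|_R ⊗_R Y ≅ (R' ⊗_R Y)|_R` is compatible with the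
associator (`t_assoc`).
-/

set_option autoImplicit false
universe u
open CategoryTheory Limits MonoidalCategory

namespace Groth.Agent.Lib.LBaseMonH1

open DTen DerivedCategory Groth.Agent.Lib.ExtKFlat
attribute [local instance] HasDerivedCategory.standard

section Triple

variable {A : Type u} [CommRing A] (K₁ K₂ K₃ : DRing.Cx A)

/-- the inclusion of a summand of `(K₁ ⊗ K₂) ⊗ K₃` -/
noncomputable abbrev ι₃' (p q r n : ℤ) (h : p + q + r = n) :
    (K₁.X p ⊗ K₂.X q) ⊗ K₃.X r ⟶ ((K₁ ⊗ K₂) ⊗ K₃).X n :=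
  GradedObject.Monoidal.ιTensorObj₃' K₁.X K₂.X K₃.X p q r n h

/-- the inclusion of a summand of `K₁ ⊗ (K₂ ⊗ K₃)` -/
noncomputable abbrev ι₃ (p q r n : ℤ) (h : p + q + r = n) :
    K₁.X p ⊗ (K₂.X q ⊗ K₃.X r) ⟶ (K₁ ⊗ (K₂ ⊗ K₃)).X n :=
  GradedObject.Monoidal.ιTensorObj₃ K₁.X K₂.X K₃.X p q r n h

lemma ι₃'_eq (p q r n : ℤ) (h : p + q + r = n) (a : ℤ) (h' : p + q = a) :
    ι₃' K₁ K₂ K₃ p q r n h =
      (HomologicalComplex.ιTensorObj K₁ K₂ p q a h' ▷ K₃.X r) ≫
        HomologicalComplex.ιTensorObj (K₁ ⊗ K₂) K₃ a r n (by omega) :=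
  GradedObject.Monoidal.ιTensorObj₃'_eq K₁.X K₂.X K₃.X p q r n h a h'

lemma ι₃_eq (p q r n : ℤ) (h : p + q + r = n) (b : ℤ) (h' : q + r = b) :
    ι₃ K₁ K₂ K₃ p q r n h =
      (K₁.X p ◁ HomologicalComplex.ιTensorObj K₂ K₃ q r b h') ≫
        HomologicalComplex.ιTensorObj K₁ (K₂ ⊗ K₃) p b n (by omega) :=
  GradedObject.Monoidal.ιTensorObj₃_eq K₁.X K₂.X K₃.X p q r n h b h'

lemma ι₃'_assoc (p q r n : ℤ) (h : p + q + r = n) :
    ι₃' K₁ K₂ K₃ p q r n h ≫ (α_ K₁ K₂ K₃).hom.f n =
      (α_ (K₁.X p) (K₂.X q) (K₃.X r)).hom ≫ ι₃ K₁ K₂ K₃ p q r n h :=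
  GradedObject.Monoidal.ιTensorObj₃'_associator_hom K₁.X K₂.X K₃.X p q r n h

lemma cx₃'_ext {n : ℤ} {Z : ModuleCat.{u} A} (f g : ((K₁ ⊗ K₂) ⊗ K₃).X n ⟶ Z)
    (h : ∀ (p q r : ℤ) (hh : p + q + r = n),
      ι₃' K₁ K₂ K₃ p q r n hh ≫ f = ι₃' K₁ K₂ K₃ p q r n hh ≫ g) :
    f = g :=
  GradedObject.Monoidal.tensorObj₃'_ext (X₁ := K₁.X) (X₂ := K₂.X) (X₃ := K₃.X) f g h

@[reassoc]
lemma ι_whiskerRight {K₁' : DRing.Cx A} (f : K₁ ⟶ K₁') (p q n : ℤ) (h : p + q = n) :
    HomologicalComplex.ιTensorObj K₁ K₂ p q n h ≫ (f ▷ K₂).f n =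
      (f.f p ▷ K₂.X q) ≫ HomologicalComplex.ιTensorObj K₁' K₂ p q n h := by
  change HomologicalComplex.ιTensorObj K₁ K₂ p q n h ≫
    (HomologicalComplex.mapBifunctorMap f (𝟙 K₂) _ _).f n = _
  rw [HomologicalComplex.ι_mapBifunctorMap]
  simp

@[reassoc]
lemma ι_whiskerLeft {K₂' : DRing.Cx A} (g : K₂ ⟶ K₂') (p q n : ℤ) (h : p + q = n) :
    HomologicalComplex.ιTensorObj K₁ K₂ p q n h ≫ (K₁ ◁ g).f n =
      (K₁.X p ◁ g.f q) ≫ HomologicalComplex.ιTensorObj K₁ K₂' p q n h := by
  change HomologicalComplex.ιTensorObj K₁ K₂ p q n h ≫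
    (HomologicalComplex.mapBifunctorMap (𝟙 K₁) g _ _).f n = _
  rw [HomologicalComplex.ι_mapBifunctorMap]
  simp

end Triple

section PF

variable {R R' : Type u} [CommRing R] [CommRing R'] [Algebra R R']

/-- module-level projection map `E|_R ⊗_R N ⟶ (E ⊗_{R'} (R' ⊗_R N))|_R` -/
noncomputable def pfM (E : ModuleCat.{u} R') (N : ModuleCat.{u} R) :
    (resM (algebraMap R R')).obj E ⊗ N ⟶
      (resM (algebraMap R R')).obj (E ⊗ (extM (algebraMap R R')).obj N) :=
  ((resM (algebraMap R R')).obj E ◁ uM (algebraMap R R') N) ≫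
    resTen₀app (algebraMap R R') E ((extM (algebraMap R R')).obj N)

lemma pfM_eq (E : ModuleCat.{u} R') (N : ModuleCat.{u} R) : pfM E N = (cbIso E N).inv := by
  apply ModuleCat.MonoidalCategory.tensor_ext
  intro e n
  rfl

instance isIso_pfM (E : ModuleCat.{u} R') (N : ModuleCat.{u} R) : IsIso (pfM E N) := by
  rw [pfM_eq]
  infer_instance

lemma pfM_nat_left {E E' : ModuleCat.{u} R'} (f : E ⟶ E') (N : ModuleCat.{u} R) :
    ((resM (algebraMap R R')).map f ▷ N) ≫ pfM E' N =
      pfM E N ≫ (resM (algebraMap R R')).map (f ▷ (extM (algebraMap R R')).obj N) := by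
  rw [pfM_eq, pfM_eq]
  exact cbIso_inv_nat₁ f N

lemma pfM_nat_right (E : ModuleCat.{u} R') {N N' : ModuleCat.{u} R} (g : N ⟶ N') :
    ((resM (algebraMap R R')).obj E ◁ g) ≫ pfM E N' =
      pfM E N ≫ (resM (algebraMap R R')).map (E ◁ (extM (algebraMap R R')).map g) := by
  rw [pfM_eq, pfM_eq]
  exact cbIso_inv_nat₂ E g

set_option backward.isDefEq.respectTransparency false in
lemma pfM_assoc (E : ModuleCat.{u} R') (X K : ModuleCat.{u} R) :
    (pfM E X ▷ K) ≫ pfM (E ⊗ (extM (algebraMap R R')).obj X) K ≫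
        (resM (algebraMap R R')).map
          (α_ E ((extM (algebraMap R R')).obj X) ((extM (algebraMap R R')).obj K)).hom =
      (α_ ((resM (algebraMap R R')).obj E) X K).hom ≫ pfM E (X ⊗ K) ≫
        (resM (algebraMap R R')).map
          (E ◁ Functor.OplaxMonoidal.δ (extM (algebraMap R R')) X K) := by
  apply ModuleCat.MonoidalCategory.tensor_ext₃'
  intro e x k
  rfl

/-- complex-level projection map `E|_R ⊗_R Y ⟶ (E ⊗_{R'} (R' ⊗_R Y))|_R` -/
noncomputable def pf (E : DRing.Cx R') (Y : DRing.Cx R) :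
    ((resCx (algebraMap R R')).obj E ⊗ Y : DRing.Cx R) ⟶
      (resCx (algebraMap R R')).obj (E ⊗ (extCx (algebraMap R R')).obj Y) :=
  ((resCx (algebraMap R R')).obj E ◁ uCx (algebraMap R R') Y) ≫
    resTenCx (algebraMap R R') E ((extCx (algebraMap R R')).obj Y)

set_option backward.isDefEq.respectTransparency false in
@[reassoc]
lemma ι_pf (E : DRing.Cx R') (Y : DRing.Cx R) (p q n : ℤ) (h : p + q = n) :
    HomologicalComplex.ιTensorObj ((resCx (algebraMap R R')).obj E) Y p q n h ≫ (pf E Y).f n =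
      pfM (E.X p) (Y.X q) ≫ (resM (algebraMap R R')).map
        (HomologicalComplex.ιTensorObj E ((extCx (algebraMap R R')).obj Y) p q n h) := by
  unfold pf
  rw [HomologicalComplex.comp_f, ← Category.assoc, ι_whiskerLeft, Category.assoc]
  erw [ι_resTenCx (algebraMap R R') E ((extCx (algebraMap R R')).obj Y) p q n h]
  simp only [pfM, Category.assoc]
  rfl

instance isIso_pf (E : DRing.Cx R') (Y : DRing.Cx R) : IsIso (pf E Y) := by
  haveI : ∀ n, IsIso ((pf E Y).f n) := fun n => by
    let B₁ := (((curriedTensor (ModuleCat.{u} R)).mapBifunctorHomologicalComplex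
      (ComplexShape.up ℤ) (ComplexShape.up ℤ)).obj ((resCx (algebraMap R R')).obj E)).obj Y
    let B₂ := (((curriedTensor (ModuleCat.{u} R')).mapBifunctorHomologicalComplex
      (ComplexShape.up ℤ) (ComplexShape.up ℤ)).obj E).obj ((extCx (algebraMap R R')).obj Y)
    have hc₁ := B₁.toGradedObject.isColimitCofanMapObj
      (ComplexShape.π (ComplexShape.up ℤ) (ComplexShape.up ℤ) (ComplexShape.up ℤ)) n
    have hc₂ := isColimitCofanMkObjOfIsColimit (resM (algebraMap R R'))
      (B₂.toGradedObject.mapObjFun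
        (ComplexShape.π (ComplexShape.up ℤ) (ComplexShape.up ℤ) (ComplexShape.up ℤ)) n)
      (P := B₂.toGradedObject.mapObj
        (ComplexShape.π (ComplexShape.up ℤ) (ComplexShape.up ℤ) (ComplexShape.up ℤ)) n)
      (fun j => B₂.toGradedObject.ιMapObj
        (ComplexShape.π (ComplexShape.up ℤ) (ComplexShape.up ℤ) (ComplexShape.up ℤ)) j.1 n j.2)
      (B₂.toGradedObject.isColimitCofanMapObj
        (ComplexShape.π (ComplexShape.up ℤ) (ComplexShape.up ℤ) (ComplexShape.up ℤ)) n)
    exact isIso_of_cofans _ hc₁ _ hc₂ ((pf E Y).f n)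
      (fun j => @asIso _ _ _ _ (pfM (E.X j.1.1) (Y.X j.1.2)) (isIso_pfM _ _))
      (fun j => ι_pf E Y j.1.1 j.1.2 n j.2)
  exact HomologicalComplex.Hom.isIso_of_components _

lemma pf_nat_left {E E' : DRing.Cx R'} (f : E ⟶ E') (Y : DRing.Cx R) :
    ((resCx (algebraMap R R')).map f ▷ Y) ≫ pf E' Y =
      pf E Y ≫ (resCx (algebraMap R R')).map (f ▷ (extCx (algebraMap R R')).obj Y) := by
  unfold pf
  have h := resTenCx_naturality (algebraMap R R') f (𝟙 ((extCx (algebraMap R R')).obj Y))
  rw [CategoryTheory.Functor.map_id, MonoidalCategory.tensorHom_id,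
    MonoidalCategory.tensorHom_id] at h
  simp only [Category.assoc]
  rw [← MonoidalCategory.whisker_exchange_assoc, h]

set_option backward.isDefEq.respectTransparency false in
lemma pf_assoc (E : DRing.Cx R') (X K : DRing.Cx R) :
    (pf E X ▷ K) ≫ pf (E ⊗ (extCx (algebraMap R R')).obj X) K ≫
        (resCx (algebraMap R R')).map
          (α_ E ((extCx (algebraMap R R')).obj X) ((extCx (algebraMap R R')).obj K)).hom =
      (α_ ((resCx (algebraMap R R')).obj E) X K).hom ≫ pf E (X ⊗ K) ≫
        (resCx (algebraMap R R')).map (E ◁ theta (algebraMap R R') X K) := by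
  refine HomologicalComplex.hom_ext _ _ (fun n => ?_)
  apply cx₃'_ext
  intro p q r h
  have F1 := ι_whiskerRight ((resCx (algebraMap R R')).obj E ⊗ X) K (pf E X) (p + q) r n h
  have F2 := ι_pf E X p q (p + q) rfl
  have F3 := ι_pf (E ⊗ (extCx (algebraMap R R')).obj X) K (p + q) r n h
  have F4 : ((resM (algebraMap R R')).map
        (HomologicalComplex.ιTensorObj E ((extCx (algebraMap R R')).obj X) p q (p + q) rfl) ▷
          K.X r) ≫ pfM ((E ⊗ (extCx (algebraMap R R')).obj X).X (p + q)) (K.X r) =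
      pfM (E.X p ⊗ (extM (algebraMap R R')).obj (X.X q)) (K.X r) ≫
        (resM (algebraMap R R')).map
          (HomologicalComplex.ιTensorObj E ((extCx (algebraMap R R')).obj X) p q (p + q) rfl ▷
            (extM (algebraMap R R')).obj (K.X r)) :=
    pfM_nat_left
      (HomologicalComplex.ιTensorObj E ((extCx (algebraMap R R')).obj X) p q (p + q) rfl) (K.X r)
  have F5 := ι₃'_eq E ((extCx (algebraMap R R')).obj X) ((extCx (algebraMap R R')).obj K)
    p q r n h (p + q) rfl
  have F6 := ι₃'_assoc E ((extCx (algebraMap R R')).obj X) ((extCx (algebraMap R R')).obj K)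
    p q r n h
  have F56 : (HomologicalComplex.ιTensorObj E ((extCx (algebraMap R R')).obj X) p q (p + q) rfl ▷
        (extM (algebraMap R R')).obj (K.X r)) ≫
      HomologicalComplex.ιTensorObj (E ⊗ (extCx (algebraMap R R')).obj X)
        ((extCx (algebraMap R R')).obj K) (p + q) r n h ≫
      (α_ E ((extCx (algebraMap R R')).obj X) ((extCx (algebraMap R R')).obj K)).hom.f n =
      (α_ (E.X p) ((extM (algebraMap R R')).obj (X.X q))
        ((extM (algebraMap R R')).obj (K.X r))).hom ≫
        ι₃ E ((extCx (algebraMap R R')).obj X) ((extCx (algebraMap R R')).obj K) p q r n h := by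
    have h6 := F6
    rw [F5, Category.assoc] at h6
    exact h6
  have F56' : (resM (algebraMap R R')).map
        (HomologicalComplex.ιTensorObj E ((extCx (algebraMap R R')).obj X) p q (p + q) rfl ▷
          (extM (algebraMap R R')).obj (K.X r)) ≫
      (resM (algebraMap R R')).map
        (HomologicalComplex.ιTensorObj (E ⊗ (extCx (algebraMap R R')).obj X)
          ((extCx (algebraMap R R')).obj K) (p + q) r n h) ≫
      (resM (algebraMap R R')).map
        ((α_ E ((extCx (algebraMap R R')).obj X) ((extCx (algebraMap R R')).obj K)).hom.f n) =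
      (resM (algebraMap R R')).map
        (α_ (E.X p) ((extM (algebraMap R R')).obj (X.X q))
          ((extM (algebraMap R R')).obj (K.X r))).hom ≫
      (resM (algebraMap R R')).map
        (ι₃ E ((extCx (algebraMap R R')).obj X) ((extCx (algebraMap R R')).obj K) p q r n h) := by
    rw [← Functor.map_comp, ← Functor.map_comp, F56, Functor.map_comp]
  have G1 : ι₃' ((resCx (algebraMap R R')).obj E) X K p q r n h ≫
        (α_ ((resCx (algebraMap R R')).obj E) X K).hom.f n =
      (α_ ((resM (algebraMap R R')).obj (E.X p)) (X.X q) (K.X r)).hom ≫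
        ι₃ ((resCx (algebraMap R R')).obj E) X K p q r n h :=
    ι₃'_assoc ((resCx (algebraMap R R')).obj E) X K p q r n h
  have G1' : ι₃ ((resCx (algebraMap R R')).obj E) X K p q r n h =
      ((resM (algebraMap R R')).obj (E.X p) ◁
        HomologicalComplex.ιTensorObj X K q r (q + r) rfl) ≫
        HomologicalComplex.ιTensorObj ((resCx (algebraMap R R')).obj E) (X ⊗ K) p (q + r) n
          (by omega) :=
    ι₃_eq ((resCx (algebraMap R R')).obj E) X K p q r n h (q + r) rfl
  have G2 : HomologicalComplex.ιTensorObj ((resCx (algebraMap R R')).obj E) (X ⊗ K) p (q + r) n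
        (by omega) ≫ (pf E (X ⊗ K)).f n =
      pfM (E.X p) ((X ⊗ K).X (q + r)) ≫ (resM (algebraMap R R')).map
        (HomologicalComplex.ιTensorObj E ((extCx (algebraMap R R')).obj (X ⊗ K)) p (q + r) n
          (by omega)) :=
    ι_pf E (X ⊗ K) p (q + r) n (by omega)
  have G3 : ((resM (algebraMap R R')).obj (E.X p) ◁
        HomologicalComplex.ιTensorObj X K q r (q + r) rfl) ≫
        pfM (E.X p) ((X ⊗ K).X (q + r)) =
      pfM (E.X p) (X.X q ⊗ K.X r) ≫ (resM (algebraMap R R')).map
        (E.X p ◁ (extM (algebraMap R R')).map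
          (HomologicalComplex.ιTensorObj X K q r (q + r) rfl)) :=
    pfM_nat_right (E.X p) (HomologicalComplex.ιTensorObj X K q r (q + r) rfl)
  have G4 := ι_whiskerLeft E ((extCx (algebraMap R R')).obj (X ⊗ K))
    (theta (algebraMap R R') X K) p (q + r) n (by omega)
  have G5 := ext_ι_theta (algebraMap R R') X K q r (q + r) rfl
  have G6 := ι₃_eq E ((extCx (algebraMap R R')).obj X) ((extCx (algebraMap R R')).obj K)
    p q r n h (q + r) rfl
  have G456 : (E.X p ◁ (extM (algebraMap R R')).map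
        (HomologicalComplex.ιTensorObj X K q r (q + r) rfl)) ≫
      HomologicalComplex.ιTensorObj E ((extCx (algebraMap R R')).obj (X ⊗ K)) p (q + r) n
        (by omega) ≫ (E ◁ theta (algebraMap R R') X K).f n =
      (E.X p ◁ Functor.OplaxMonoidal.δ (extM (algebraMap R R')) (X.X q) (K.X r)) ≫
        ι₃ E ((extCx (algebraMap R R')).obj X) ((extCx (algebraMap R R')).obj K) p q r n h := by
    calc (E.X p ◁ (extM (algebraMap R R')).map
          (HomologicalComplex.ιTensorObj X K q r (q + r) rfl)) ≫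
        HomologicalComplex.ιTensorObj E ((extCx (algebraMap R R')).obj (X ⊗ K)) p (q + r) n
          (by omega) ≫ (E ◁ theta (algebraMap R R') X K).f n
        = (E.X p ◁ (extM (algebraMap R R')).map
            (HomologicalComplex.ιTensorObj X K q r (q + r) rfl)) ≫
          (E.X p ◁ (theta (algebraMap R R') X K).f (q + r)) ≫
          HomologicalComplex.ιTensorObj E
            ((extCx (algebraMap R R')).obj X ⊗ (extCx (algebraMap R R')).obj K) p (q + r) n
            (by omega) := by rw [G4]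
      _ = (E.X p ◁ ((extM (algebraMap R R')).map
            (HomologicalComplex.ιTensorObj X K q r (q + r) rfl) ≫
            (theta (algebraMap R R') X K).f (q + r))) ≫
          HomologicalComplex.ιTensorObj E
            ((extCx (algebraMap R R')).obj X ⊗ (extCx (algebraMap R R')).obj K) p (q + r) n
            (by omega) := by rw [whiskerLeft_comp, Category.assoc]
      _ = (E.X p ◁ (Functor.OplaxMonoidal.δ (extM (algebraMap R R')) (X.X q) (K.X r) ≫
            HomologicalComplex.ιTensorObj ((extCx (algebraMap R R')).obj X)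
              ((extCx (algebraMap R R')).obj K) q r (q + r) rfl)) ≫
          HomologicalComplex.ιTensorObj E
            ((extCx (algebraMap R R')).obj X ⊗ (extCx (algebraMap R R')).obj K) p (q + r) n
            (by omega) := by rw [G5]
      _ = (E.X p ◁ Functor.OplaxMonoidal.δ (extM (algebraMap R R')) (X.X q) (K.X r)) ≫
          (E.X p ◁ HomologicalComplex.ιTensorObj ((extCx (algebraMap R R')).obj X)
              ((extCx (algebraMap R R')).obj K) q r (q + r) rfl) ≫
          HomologicalComplex.ιTensorObj E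
            ((extCx (algebraMap R R')).obj X ⊗ (extCx (algebraMap R R')).obj K) p (q + r) n
            (by omega) := by rw [whiskerLeft_comp, Category.assoc]
      _ = _ := by rw [G6]
  have G456' : (resM (algebraMap R R')).map (E.X p ◁ (extM (algebraMap R R')).map
        (HomologicalComplex.ιTensorObj X K q r (q + r) rfl)) ≫
      (resM (algebraMap R R')).map
        (HomologicalComplex.ιTensorObj E ((extCx (algebraMap R R')).obj (X ⊗ K)) p (q + r) n
        (by omega)) ≫
      (resM (algebraMap R R')).map ((E ◁ theta (algebraMap R R') X K).f n) =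
      (resM (algebraMap R R')).map
        (E.X p ◁ Functor.OplaxMonoidal.δ (extM (algebraMap R R')) (X.X q) (K.X r)) ≫
      (resM (algebraMap R R')).map
        (ι₃ E ((extCx (algebraMap R R')).obj X) ((extCx (algebraMap R R')).obj K) p q r n h) := by
    rw [← Functor.map_comp, ← Functor.map_comp, G456, Functor.map_comp]
  have M := pfM_assoc (E.X p) (X.X q) (K.X r)
  have eα : ((resCx (algebraMap R R')).map
      (α_ E ((extCx (algebraMap R R')).obj X) ((extCx (algebraMap R R')).obj K)).hom).f n =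
      (resM (algebraMap R R')).map
        ((α_ E ((extCx (algebraMap R R')).obj X) ((extCx (algebraMap R R')).obj K)).hom.f n) := rfl
  have eθ : ((resCx (algebraMap R R')).map (E ◁ theta (algebraMap R R') X K)).f n =
      (resM (algebraMap R R')).map ((E ◁ theta (algebraMap R R') X K).f n) := rfl
  have hL : ι₃' ((resCx (algebraMap R R')).obj E) X K p q r n h ≫
      (pf E X ▷ K ≫ pf (E ⊗ (extCx (algebraMap R R')).obj X) K ≫
        (resCx (algebraMap R R')).map
          (α_ E ((extCx (algebraMap R R')).obj X) ((extCx (algebraMap R R')).obj K)).hom).f n =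
      ((pfM (E.X p) (X.X q) ▷ K.X r) ≫
        pfM (E.X p ⊗ (extM (algebraMap R R')).obj (X.X q)) (K.X r) ≫
        (resM (algebraMap R R')).map (α_ (E.X p) ((extM (algebraMap R R')).obj (X.X q))
          ((extM (algebraMap R R')).obj (K.X r))).hom) ≫
        (resM (algebraMap R R')).map
          (ι₃ E ((extCx (algebraMap R R')).obj X) ((extCx (algebraMap R R')).obj K) p q r n h) := by
    rw [ι₃'_eq _ _ _ p q r n h (p + q) rfl, HomologicalComplex.comp_f, HomologicalComplex.comp_f,
      eα]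
    simp only [Category.assoc]
    rw [reassoc_of% F1, ← comp_whiskerRight_assoc, F2, comp_whiskerRight_assoc,
      reassoc_of% F3, reassoc_of% F4, F56']
  have hR : ι₃' ((resCx (algebraMap R R')).obj E) X K p q r n h ≫
      ((α_ ((resCx (algebraMap R R')).obj E) X K).hom ≫ pf E (X ⊗ K) ≫
        (resCx (algebraMap R R')).map (E ◁ theta (algebraMap R R') X K)).f n =
      ((α_ ((resM (algebraMap R R')).obj (E.X p)) (X.X q) (K.X r)).hom ≫
        pfM (E.X p) (X.X q ⊗ K.X r) ≫
        (resM (algebraMap R R')).map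
          (E.X p ◁ Functor.OplaxMonoidal.δ (extM (algebraMap R R')) (X.X q) (K.X r))) ≫
        (resM (algebraMap R R')).map
          (ι₃ E ((extCx (algebraMap R R')).obj X) ((extCx (algebraMap R R')).obj K) p q r n h) := by
    rw [HomologicalComplex.comp_f, HomologicalComplex.comp_f, eθ, reassoc_of% G1, G1']
    simp only [Category.assoc]
    rw [reassoc_of% G2, reassoc_of% G3, G456']
  rw [hL, hR, M]

/-- the unit case of the projection isomorphism: `R'|_R ⊗_R Y ≅ (R' ⊗_R Y)|_R` -/
noncomputable def t (Y : DRing.Cx R) :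
    ((resCx (algebraMap R R')).obj (𝟙_ (DRing.Cx R')) ⊗ Y : DRing.Cx R) ⟶
      (resCx (algebraMap R R')).obj ((extCx (algebraMap R R')).obj Y) :=
  pf (𝟙_ (DRing.Cx R')) Y ≫
    (resCx (algebraMap R R')).map (λ_ ((extCx (algebraMap R R')).obj Y)).hom

instance isIso_t (Y : DRing.Cx R) : IsIso (t (R' := R') Y) := by
  unfold t
  infer_instance

lemma t_assoc (X K : DRing.Cx R) :
    (t (R' := R') X ▷ K) ≫ pf ((extCx (algebraMap R R')).obj X) K =
      (α_ ((resCx (algebraMap R R')).obj (𝟙_ (DRing.Cx R'))) X K).hom ≫ t (X ⊗ K) ≫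
        (resCx (algebraMap R R')).map (theta (algebraMap R R') X K) := by
  have h1 := pf_nat_left (λ_ ((extCx (algebraMap R R')).obj X)).hom K
  have h2 := pf_assoc (𝟙_ (DRing.Cx R')) X K
  have h3 : (λ_ ((extCx (algebraMap R R')).obj X)).hom ▷ (extCx (algebraMap R R')).obj K =
      (α_ (𝟙_ (DRing.Cx R')) ((extCx (algebraMap R R')).obj X)
        ((extCx (algebraMap R R')).obj K)).hom ≫
      (λ_ ((extCx (algebraMap R R')).obj X ⊗ (extCx (algebraMap R R')).obj K)).hom :=
    leftUnitor_whiskerRight _ _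
  have h4 : ((𝟙_ (DRing.Cx R')) ◁ theta (algebraMap R R') X K) ≫
      (λ_ ((extCx (algebraMap R R')).obj X ⊗ (extCx (algebraMap R R')).obj K)).hom =
      (λ_ ((extCx (algebraMap R R')).obj (X ⊗ K))).hom ≫ theta (algebraMap R R') X K :=
    leftUnitor_naturality _
  unfold t
  rw [comp_whiskerRight, Category.assoc, h1, h3, Functor.map_comp, reassoc_of% h2,
    ← Functor.map_comp, h4, Functor.map_comp]
  simp only [Category.assoc]

end PF

end Groth.Agent.Lib.LBaseMonH1
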