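import Mathlib
import Groth.Prelude.Def_DTen5
import Groth.Agent.Lib.LBaseMon6_helper1
import Groth.Agent.Lib.LBaseMon7_helper1
import Groth.Agent.Lib.LBaseMon8_helper1
import Groth.Agent.Lib.EvalTen_helper2
import Groth.Agent.Lib.TrivBC7_helper6

/-!
# Derived base change is monoidal (helper1), part 9: the derived projection formula and base change
for `RHom` when `R'` is perfect over `R`

* `tau Y : R'|_R ⊗^L_R Y ⟶ (Y ⊗^L_R R')|_R` (the projection formula map at the unit, followed by the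
  unit isomorphism) is a natural isomorphism.
* `star`: `tau` is compatible with the associator and the monoidal comparison `cmon` of derived base
  change.
* `main14265`: `DTen.bcRHom (algebraMap R R') K M` is an isomorphism if `R'` is a perfect `R`-module.
-/

set_option autoImplicit false
universe u
open CategoryTheory Limits MonoidalCategory

namespace Groth.Agent.Lib.LBaseMonH1

open DTen DerivedCategory Groth.Agent.Lib.KFlatMod
attribute [local instance] HasDerivedCategory.standard

section Assoc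

variable {A : Type u} [CommRing A] [HasLTen A]

/-- the left unit map with a clean type -/
noncomputable abbrev uL (Z : Dual.D A) : (LTen₂ A).obj (DTen.unit A, Z) ⟶ Z := (unitL A).app Z

lemma uL_nat {Z Z' : Dual.D A} (f : Z ⟶ Z') : tn (𝟙 (DTen.unit A)) f ≫ uL Z' = uL Z ≫ f :=
  (unitL A).naturality f

lemma uL_Q (L : DRing.Cx A) :
    uL (Q.obj L) = eps (𝟙_ (DRing.Cx A)) L ≫ Q.map (λ_ L).hom := unitL_app A L

variable [HasLTen₃ A] [IsSymMonoidal A]

/-- on images of complexes the associator intertwines the two plumbing maps -/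
lemma assoc_Q (A₀ B₀ C₀ : DRing.Cx A) :
    (associator (Q.obj A₀) (Q.obj B₀) (Q.obj C₀)).hom ≫ (βR A).app (A₀, (B₀, C₀)) =
      (βL A).app (A₀, (B₀, C₀)) := by
  rw [← assocR_fac, ← assocL_fac, ← Category.assoc]
  exact congrArg (· ≫ (ε₃ A).app (A₀, (B₀, C₀)))
    (associator_hom_assocR (Q.obj A₀) (Q.obj B₀) (Q.obj C₀))

lemma assoc_Q' (A₀ B₀ C₀ : DRing.Cx A) :
    (associator (Q.obj A₀) (Q.obj B₀) (Q.obj C₀)).hom ≫
        tn (𝟙 (Q.obj A₀)) (eps B₀ C₀) ≫ eps A₀ (B₀ ⊗ C₀) =
      tn (eps A₀ B₀) (𝟙 (Q.obj C₀)) ≫ eps (A₀ ⊗ B₀) C₀ ≫ Q.map (α_ A₀ B₀ C₀).hom :=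
  assoc_Q A₀ B₀ C₀

end Assoc

section PFD

variable {R R' : Type u} [CommRing R] [CommRing R'] [Algebra R R']

variable [HasLTen R] [HasLTen R'] [HasLBase (algebraMap R R')] [HasResTen (algebraMap R R')] [ResLegIso (algebraMap R R')]

instance isIso_cmon_inst (W K : Dual.D R) : IsIso (cmon (algebraMap R R') W K) := isIso_cmon (algebraMap R R') W K

/-- the projection formula map is natural -/
lemma projPF_nat {E E' : Dual.D R'} {K K' : Dual.D R} (e : E ⟶ E') (k : K ⟶ K') :
    tn ((DRing.restrictD (algebraMap R R')).map e) k ≫ projPF (algebraMap R R') E' K' =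
      projPF (algebraMap R R') E K ≫ (DRing.restrictD (algebraMap R R')).map (tn e ((LBase (algebraMap R R')).map k)) := by
  have h1 : k ≫ (baseAdj (algebraMap R R')).unit.app K' =
      (baseAdj (algebraMap R R')).unit.app K ≫ (DRing.restrictD (algebraMap R R')).map ((LBase (algebraMap R R')).map k) :=
    (baseAdj (algebraMap R R')).unit.naturality k
  have h2 := resPF_nat (algebraMap R R') e ((LBase (algebraMap R R')).map k)
  calc tn ((DRing.restrictD (algebraMap R R')).map e) k ≫ projPF (algebraMap R R') E' K'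
      = tn ((DRing.restrictD (algebraMap R R')).map e) k ≫
          tn (𝟙 ((DRing.restrictD (algebraMap R R')).obj E')) ((baseAdj (algebraMap R R')).unit.app K') ≫
            (resPF (algebraMap R R')).app (E', (LBase (algebraMap R R')).obj K') := rfl
    _ = tn (𝟙 ((DRing.restrictD (algebraMap R R')).obj E)) ((baseAdj (algebraMap R R')).unit.app K) ≫
          tn ((DRing.restrictD (algebraMap R R')).map e) ((DRing.restrictD (algebraMap R R')).map ((LBase (algebraMap R R')).map k)) ≫
            (resPF (algebraMap R R')).app (E', (LBase (algebraMap R R')).obj K') := by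
        rw [tn_comp_assoc, tn_comp_assoc, Category.comp_id, Category.id_comp, h1]
    _ = tn (𝟙 ((DRing.restrictD (algebraMap R R')).obj E)) ((baseAdj (algebraMap R R')).unit.app K) ≫
          (resPF (algebraMap R R')).app (E, (LBase (algebraMap R R')).obj K) ≫
            (DRing.restrictD (algebraMap R R')).map (tn e ((LBase (algebraMap R R')).map k)) := by rw [h2]
    _ = _ := (Category.assoc _ _ _).symm

/-- the projection formula map on images of complexes -/
lemma projPF_Q (E₀ : DRing.Cx R') (Y₀ : DRing.Cx R) :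
    projPF (algebraMap R R') (Q.obj E₀) (Q.obj Y₀) ≫
        (DRing.restrictD (algebraMap R R')).map (tn (𝟙 (Q.obj E₀)) (bC (algebraMap R R') Y₀) ≫ eps E₀ ((extCx (algebraMap R R')).obj Y₀)) =
      tn (rFh (algebraMap R R') E₀) (𝟙 (Q.obj Y₀)) ≫ eps ((resCx (algebraMap R R')).obj E₀) Y₀ ≫ Q.map (pf E₀ Y₀) ≫
        rFi (algebraMap R R') (E₀ ⊗ (extCx (algebraMap R R')).obj Y₀) := by
  have hA : projPF (algebraMap R R') (Q.obj E₀) (Q.obj Y₀) =
      tn (𝟙 ((DRing.restrictD (algebraMap R R')).obj (Q.obj E₀))) ((baseAdj (algebraMap R R')).unit.app (Q.obj Y₀)) ≫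
        (resPF (algebraMap R R')).app (Q.obj E₀, (LBase (algebraMap R R')).obj (Q.obj Y₀)) := rfl
  have h1 := resPF_nat (algebraMap R R') (𝟙 (Q.obj E₀)) (bC (algebraMap R R') Y₀)
  have h2 := resPF_eps (algebraMap R R') E₀ ((extCx (algebraMap R R')).obj Y₀)
  have h3 := unit_bC (algebraMap R R') Y₀
  have h4 := eps_nat (𝟙 ((resCx (algebraMap R R')).obj E₀)) (uCx (algebraMap R R') Y₀)
  have h5 : tn (rFh (algebraMap R R') E₀) (Q.map (uCx (algebraMap R R') Y₀)) =
      tn (rFh (algebraMap R R') E₀) (𝟙 (Q.obj Y₀)) ≫ tn (Q.map (𝟙 ((resCx (algebraMap R R')).obj E₀))) (Q.map (uCx (algebraMap R R') Y₀)) := by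
    rw [tn_comp, CategoryTheory.Functor.map_id, Category.comp_id, Category.id_comp]
  have h6 : Q.map (pf E₀ Y₀) =
      Q.map (𝟙 ((resCx (algebraMap R R')).obj E₀) ⊗ₘ uCx (algebraMap R R') Y₀) ≫
        Q.map (resTenCx (algebraMap R R') E₀ ((extCx (algebraMap R R')).obj Y₀)) := by
    rw [← Functor.map_comp, id_tensorHom]
    rfl
  rw [hA, Functor.map_comp]
  simp only [Category.assoc]
  rw [← reassoc_of% h1, h2, tn_comp_assoc, tn_comp_assoc, h3]
  simp only [Category.assoc, rFi_rFh, Category.comp_id, Category.id_comp,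
    CategoryTheory.Functor.map_id]
  rw [h5, Category.assoc, reassoc_of% h4, h6]
  simp only [Category.assoc]

/-- the projection formula isomorphism at the unit: `R'|_R ⊗^L_R Y ⟶ (Y ⊗^L_R R')|_R` -/
noncomputable def tau (Y : Dual.D R) :
    (LTen₂ R).obj ((DRing.restrictD (algebraMap R R')).obj (DTen.unit R'), Y) ⟶
      (DRing.restrictD (algebraMap R R')).obj ((LBase (algebraMap R R')).obj Y) :=
  projPF (algebraMap R R') (DTen.unit R') Y ≫ (DRing.restrictD (algebraMap R R')).map (uL ((LBase (algebraMap R R')).obj Y))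

lemma tau_nat {Y Y' : Dual.D R} (k : Y ⟶ Y') :
    tn (𝟙 ((DRing.restrictD (algebraMap R R')).obj (DTen.unit R'))) k ≫ tau Y' =
      tau Y ≫ (DRing.restrictD (algebraMap R R')).map ((LBase (algebraMap R R')).map k) := by
  have h1 := projPF_nat (𝟙 (DTen.unit R')) k
  have h2 := uL_nat ((LBase (algebraMap R R')).map k)
  rw [CategoryTheory.Functor.map_id] at h1
  unfold tau
  rw [← Category.assoc, h1, Category.assoc, ← Functor.map_comp, h2, Functor.map_comp,
    Category.assoc]

lemma tau_Q (Y₀ : DRing.Cx R) :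
    tau (Q.obj Y₀) ≫ (DRing.restrictD (algebraMap R R')).map (bC (algebraMap R R') Y₀) =
      tn (rFh (algebraMap R R') (𝟙_ (DRing.Cx R'))) (𝟙 (Q.obj Y₀)) ≫
        eps ((resCx (algebraMap R R')).obj (𝟙_ (DRing.Cx R'))) Y₀ ≫ Q.map (t Y₀) ≫
          rFi (algebraMap R R') ((extCx (algebraMap R R')).obj Y₀) := by
  have h1 := uL_nat (bC (algebraMap R R') Y₀)
  have h2 := uL_Q ((extCx (algebraMap R R')).obj Y₀)
  have h3 := projPF_Q (𝟙_ (DRing.Cx R')) Y₀
  have h4 := rFi_nat (algebraMap R R') (λ_ ((extCx (algebraMap R R')).obj Y₀)).hom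
  unfold tau t
  rw [Category.assoc, ← Functor.map_comp, ← h1, h2, ← Category.assoc (tn _ _), Functor.map_comp,
    ← Category.assoc (projPF _ _ _), h3]
  simp only [Category.assoc]
  rw [h4, Functor.map_comp]
  simp only [Category.assoc]

lemma isIso_tau_Q (Y₀ : DRing.Cx R) (hY : KF R Y₀) : IsIso (tau (R' := R') (Q.obj Y₀)) := by
  haveI : IsIso (bC (algebraMap R R') Y₀) := Groth.Agent.Lib.BaseCmp.isIso_baseCmp_of_kf (algebraMap R R') Y₀ hY
  haveI : IsIso (eps ((resCx (algebraMap R R')).obj (𝟙_ (DRing.Cx R'))) Y₀) :=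
    Groth.Agent.Lib.LTen2.isIso_ε_of_kf_right R _ _ hY
  haveI : IsIso (tn (rFh (algebraMap R R') (𝟙_ (DRing.Cx R'))) (𝟙 (Q.obj Y₀))) :=
    isIso_tn _ _ inferInstance inferInstance
  haveI : IsIso (tau (R' := R') (Q.obj Y₀) ≫ (DRing.restrictD (algebraMap R R')).map (bC (algebraMap R R') Y₀)) := by
    rw [tau_Q]
    infer_instance
  exact IsIso.of_isIso_comp_right _ ((DRing.restrictD (algebraMap R R')).map (bC (algebraMap R R') Y₀))

instance isIso_tau (Y : Dual.D R) : IsIso (tau (R' := R') Y) := by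
  obtain ⟨Y₀, hY, ⟨e⟩⟩ := exists_kf_iso Y
  haveI := isIso_tau_Q (R' := R') Y₀ hY
  have h := tau_nat (R' := R') e.hom
  haveI : IsIso (tn (𝟙 ((DRing.restrictD (algebraMap R R')).obj (DTen.unit R'))) e.hom) :=
    isIso_tn _ _ inferInstance inferInstance
  haveI : IsIso (tn (𝟙 ((DRing.restrictD (algebraMap R R')).obj (DTen.unit R'))) e.hom ≫ tau (R' := R') Y) := by
    rw [h]
    infer_instance
  exact IsIso.of_isIso_comp_left (tn (𝟙 ((DRing.restrictD (algebraMap R R')).obj (DTen.unit R'))) e.hom) _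


/-- `(X ⊗^L_R R')|_R ⊗^L_R K ⟶ ((X ⊗^L_R K) ⊗^L_R R')|_R`: the projection formula map followed by the
inverse of the monoidal comparison -/
noncomputable def sigma (X K : Dual.D R) :
    (LTen₂ R).obj ((DRing.restrictD (algebraMap R R')).obj ((LBase (algebraMap R R')).obj X), K) ⟶
      (DRing.restrictD (algebraMap R R')).obj ((LBase (algebraMap R R')).obj ((LTen₂ R).obj (X, K))) :=
  projPF (algebraMap R R') ((LBase (algebraMap R R')).obj X) K ≫ (DRing.restrictD (algebraMap R R')).map (inv (cmon (algebraMap R R') X K))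

lemma sigma_nat {X X' K K' : Dual.D R} (x : X ⟶ X') (k : K ⟶ K') :
    tn ((DRing.restrictD (algebraMap R R')).map ((LBase (algebraMap R R')).map x)) k ≫ sigma X' K' =
      sigma X K ≫ (DRing.restrictD (algebraMap R R')).map ((LBase (algebraMap R R')).map (tn x k)) := by
  have h1 := projPF_nat ((LBase (algebraMap R R')).map x) k
  have h2 := cmon_nat (algebraMap R R') x k
  have h3 : tn ((LBase (algebraMap R R')).map x) ((LBase (algebraMap R R')).map k) ≫ inv (cmon (algebraMap R R') X' K') =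
      inv (cmon (algebraMap R R') X K) ≫ (LBase (algebraMap R R')).map (tn x k) := by
    rw [IsIso.comp_inv_eq, Category.assoc, h2, IsIso.inv_hom_id_assoc]
  unfold sigma
  rw [← Category.assoc, h1, Category.assoc, ← Functor.map_comp, h3, Functor.map_comp,
    Category.assoc]

variable [HasLTen₃ R] [IsSymMonoidal R]

/-- the key compatibility, on K-flat representatives -/
lemma star₀ (X₀ K₀ : DRing.Cx R) (hX : KF R X₀) (hK : KF R K₀) :
    tn (tau (R' := R') (Q.obj X₀)) (𝟙 (Q.obj K₀)) ≫ sigma (Q.obj X₀) (Q.obj K₀) =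
      (associator ((DRing.restrictD (algebraMap R R')).obj (DTen.unit R')) (Q.obj X₀) (Q.obj K₀)).hom ≫
        tau ((LTen₂ R).obj (Q.obj X₀, Q.obj K₀)) := by
  -- the isomorphism `Z` used to compare both sides
  haveI i1 : IsIso (eps X₀ K₀) := Groth.Agent.Lib.LTen2.isIso_ε_of_kf_left R _ _ hX
  haveI i2 : IsIso (bC (algebraMap R R') (X₀ ⊗ K₀)) :=
    Groth.Agent.Lib.BaseCmp.isIso_baseCmp_of_kf (algebraMap R R') _
      (Groth.Agent.Lib.LTenMix3.kf_tensor X₀ K₀ hX hK)
  haveI i3 : IsIso ((DRing.restrictD (algebraMap R R')).map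
      ((LBase (algebraMap R R')).map (eps X₀ K₀) ≫ bC (algebraMap R R') (X₀ ⊗ K₀) ≫ Q.map (theta (algebraMap R R') X₀ K₀))) := inferInstance
  rw [← cancel_mono ((DRing.restrictD (algebraMap R R')).map
      ((LBase (algebraMap R R')).map (eps X₀ K₀) ≫ bC (algebraMap R R') (X₀ ⊗ K₀) ≫ Q.map (theta (algebraMap R R') X₀ K₀)))]
  -- the common value
  have hL : (tn (tau (R' := R') (Q.obj X₀)) (𝟙 (Q.obj K₀)) ≫ sigma (Q.obj X₀) (Q.obj K₀)) ≫
      (DRing.restrictD (algebraMap R R')).map
        ((LBase (algebraMap R R')).map (eps X₀ K₀) ≫ bC (algebraMap R R') (X₀ ⊗ K₀) ≫ Q.map (theta (algebraMap R R') X₀ K₀)) =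
      tn (tn (rFh (algebraMap R R') (𝟙_ (DRing.Cx R'))) (𝟙 (Q.obj X₀))) (𝟙 (Q.obj K₀)) ≫
        tn (eps ((resCx (algebraMap R R')).obj (𝟙_ (DRing.Cx R'))) X₀) (𝟙 (Q.obj K₀)) ≫
        eps ((resCx (algebraMap R R')).obj (𝟙_ (DRing.Cx R')) ⊗ X₀) K₀ ≫
        Q.map (α_ ((resCx (algebraMap R R')).obj (𝟙_ (DRing.Cx R'))) X₀ K₀).hom ≫
        Q.map (t (X₀ ⊗ K₀)) ≫ Q.map ((resCx (algebraMap R R')).map (theta (algebraMap R R') X₀ K₀)) ≫
        rFi (algebraMap R R') ((extCx (algebraMap R R')).obj X₀ ⊗ (extCx (algebraMap R R')).obj K₀) := by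
    have c1 : inv (cmon (algebraMap R R') (Q.obj X₀) (Q.obj K₀)) ≫
        ((LBase (algebraMap R R')).map (eps X₀ K₀) ≫ bC (algebraMap R R') (X₀ ⊗ K₀) ≫ Q.map (theta (algebraMap R R') X₀ K₀)) =
        tn (bC (algebraMap R R') X₀) (bC (algebraMap R R') K₀) ≫ eps ((extCx (algebraMap R R')).obj X₀) ((extCx (algebraMap R R')).obj K₀) := by
      rw [IsIso.inv_comp_eq]
      exact (cmon_Q (algebraMap R R') X₀ K₀).symm
    have c2 : tn (bC (algebraMap R R') X₀) (bC (algebraMap R R') K₀) =
        tn (bC (algebraMap R R') X₀) ((LBase (algebraMap R R')).map (𝟙 (Q.obj K₀))) ≫ tn (𝟙 (Q.obj ((extCx (algebraMap R R')).obj X₀))) (bC (algebraMap R R') K₀) := by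
      rw [tn_comp, CategoryTheory.Functor.map_id, Category.comp_id, Category.id_comp]
    have c3 := projPF_nat (bC (algebraMap R R') X₀) (𝟙 (Q.obj K₀))
    have c4 := projPF_Q ((extCx (algebraMap R R')).obj X₀) K₀
    have c5 := tau_Q (R' := R') X₀
    have c6 := eps_nat (t (R' := R') X₀) (𝟙 K₀)
    have c7 := t_assoc (R' := R') X₀ K₀
    -- step (i)-(iii): rewrite `sigma ≫ Z`
    have s1 : sigma (Q.obj X₀) (Q.obj K₀) ≫ (DRing.restrictD (algebraMap R R')).map
        ((LBase (algebraMap R R')).map (eps X₀ K₀) ≫ bC (algebraMap R R') (X₀ ⊗ K₀) ≫ Q.map (theta (algebraMap R R') X₀ K₀)) =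
        tn ((DRing.restrictD (algebraMap R R')).map (bC (algebraMap R R') X₀)) (𝟙 (Q.obj K₀)) ≫
          tn (rFh (algebraMap R R') ((extCx (algebraMap R R')).obj X₀)) (𝟙 (Q.obj K₀)) ≫
          eps ((resCx (algebraMap R R')).obj ((extCx (algebraMap R R')).obj X₀)) K₀ ≫ Q.map (pf ((extCx (algebraMap R R')).obj X₀) K₀) ≫
          rFi (algebraMap R R') ((extCx (algebraMap R R')).obj X₀ ⊗ (extCx (algebraMap R R')).obj K₀) := by
      calc sigma (Q.obj X₀) (Q.obj K₀) ≫ (DRing.restrictD (algebraMap R R')).map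
            ((LBase (algebraMap R R')).map (eps X₀ K₀) ≫ bC (algebraMap R R') (X₀ ⊗ K₀) ≫ Q.map (theta (algebraMap R R') X₀ K₀))
          = projPF (algebraMap R R') ((LBase (algebraMap R R')).obj (Q.obj X₀)) (Q.obj K₀) ≫ (DRing.restrictD (algebraMap R R')).map
              (inv (cmon (algebraMap R R') (Q.obj X₀) (Q.obj K₀)) ≫
                ((LBase (algebraMap R R')).map (eps X₀ K₀) ≫ bC (algebraMap R R') (X₀ ⊗ K₀) ≫ Q.map (theta (algebraMap R R') X₀ K₀))) := by
            unfold sigma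
            rw [Category.assoc, ← Functor.map_comp]
        _ = projPF (algebraMap R R') ((LBase (algebraMap R R')).obj (Q.obj X₀)) (Q.obj K₀) ≫ (DRing.restrictD (algebraMap R R')).map
              (tn (bC (algebraMap R R') X₀) ((LBase (algebraMap R R')).map (𝟙 (Q.obj K₀)))) ≫ (DRing.restrictD (algebraMap R R')).map
              (tn (𝟙 (Q.obj ((extCx (algebraMap R R')).obj X₀))) (bC (algebraMap R R') K₀) ≫
                eps ((extCx (algebraMap R R')).obj X₀) ((extCx (algebraMap R R')).obj K₀)) := by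
            rw [c1, c2, Category.assoc, Functor.map_comp]
        _ = tn ((DRing.restrictD (algebraMap R R')).map (bC (algebraMap R R') X₀)) (𝟙 (Q.obj K₀)) ≫
              projPF (algebraMap R R') (Q.obj ((extCx (algebraMap R R')).obj X₀)) (Q.obj K₀) ≫ (DRing.restrictD (algebraMap R R')).map
              (tn (𝟙 (Q.obj ((extCx (algebraMap R R')).obj X₀))) (bC (algebraMap R R') K₀) ≫
                eps ((extCx (algebraMap R R')).obj X₀) ((extCx (algebraMap R R')).obj K₀)) := by
            rw [← reassoc_of% c3]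
        _ = _ := by rw [c4]
    -- step (iv): the first factors
    have s2 : tn (tau (R' := R') (Q.obj X₀)) (𝟙 (Q.obj K₀)) ≫
        tn ((DRing.restrictD (algebraMap R R')).map (bC (algebraMap R R') X₀)) (𝟙 (Q.obj K₀)) ≫
          tn (rFh (algebraMap R R') ((extCx (algebraMap R R')).obj X₀)) (𝟙 (Q.obj K₀)) =
        tn (tn (rFh (algebraMap R R') (𝟙_ (DRing.Cx R'))) (𝟙 (Q.obj X₀))) (𝟙 (Q.obj K₀)) ≫
          tn (eps ((resCx (algebraMap R R')).obj (𝟙_ (DRing.Cx R'))) X₀) (𝟙 (Q.obj K₀)) ≫
          tn (Q.map (t (R' := R') X₀)) (Q.map (𝟙 K₀)) := by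
      rw [tn_comp_assoc, c5, tn_comp, tn_comp, tn_comp]
      simp only [Category.assoc, rFi_rFh, Category.comp_id, CategoryTheory.Functor.map_id]
    have s3 : Q.map (t (R' := R') X₀ ⊗ₘ 𝟙 K₀) ≫ Q.map (pf ((extCx (algebraMap R R')).obj X₀) K₀) =
        Q.map (α_ ((resCx (algebraMap R R')).obj (𝟙_ (DRing.Cx R'))) X₀ K₀).hom ≫
        Q.map (t (X₀ ⊗ K₀)) ≫ Q.map ((resCx (algebraMap R R')).map (theta (algebraMap R R') X₀ K₀)) := by
      rw [← Functor.map_comp, ← Functor.map_comp, ← Functor.map_comp, tensorHom_id, c7]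
    rw [Category.assoc, s1, reassoc_of% s2, reassoc_of% c6, reassoc_of% s3]
  have hR : ((associator ((DRing.restrictD (algebraMap R R')).obj (DTen.unit R')) (Q.obj X₀) (Q.obj K₀)).hom ≫
        tau ((LTen₂ R).obj (Q.obj X₀, Q.obj K₀))) ≫
      (DRing.restrictD (algebraMap R R')).map
        ((LBase (algebraMap R R')).map (eps X₀ K₀) ≫ bC (algebraMap R R') (X₀ ⊗ K₀) ≫ Q.map (theta (algebraMap R R') X₀ K₀)) =
      tn (tn (rFh (algebraMap R R') (𝟙_ (DRing.Cx R'))) (𝟙 (Q.obj X₀))) (𝟙 (Q.obj K₀)) ≫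
        tn (eps ((resCx (algebraMap R R')).obj (𝟙_ (DRing.Cx R'))) X₀) (𝟙 (Q.obj K₀)) ≫
        eps ((resCx (algebraMap R R')).obj (𝟙_ (DRing.Cx R')) ⊗ X₀) K₀ ≫
        Q.map (α_ ((resCx (algebraMap R R')).obj (𝟙_ (DRing.Cx R'))) X₀ K₀).hom ≫
        Q.map (t (X₀ ⊗ K₀)) ≫ Q.map ((resCx (algebraMap R R')).map (theta (algebraMap R R') X₀ K₀)) ≫
        rFi (algebraMap R R') ((extCx (algebraMap R R')).obj X₀ ⊗ (extCx (algebraMap R R')).obj K₀) := by
    have d1 := tau_nat (R' := R') (eps X₀ K₀)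
    have d2 := tau_Q (R' := R') (X₀ ⊗ K₀)
    have d3 := rFi_nat (algebraMap R R') (theta (algebraMap R R') X₀ K₀)
    have d4 : tn (𝟙 ((DRing.restrictD (algebraMap R R')).obj (DTen.unit R'))) (eps X₀ K₀) ≫
        tn (rFh (algebraMap R R') (𝟙_ (DRing.Cx R'))) (𝟙 (Q.obj (X₀ ⊗ K₀))) =
        tn (rFh (algebraMap R R') (𝟙_ (DRing.Cx R'))) (tn (𝟙 (Q.obj X₀)) (𝟙 (Q.obj K₀))) ≫
          tn (𝟙 (Q.obj ((resCx (algebraMap R R')).obj (𝟙_ (DRing.Cx R'))))) (eps X₀ K₀) := by
      rw [tn_comp, tn_comp, tn_id, Category.comp_id, Category.id_comp, Category.comp_id,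
        Category.id_comp]
    have d5 := Groth.Agent.Lib.EvalTen.associator_naturality (rFh (algebraMap R R') (𝟙_ (DRing.Cx R')))
      (𝟙 (Q.obj X₀)) (𝟙 (Q.obj K₀))
    have d6 := assoc_Q' ((resCx (algebraMap R R')).obj (𝟙_ (DRing.Cx R'))) X₀ K₀
    calc ((associator ((DRing.restrictD (algebraMap R R')).obj (DTen.unit R')) (Q.obj X₀) (Q.obj K₀)).hom ≫
          tau ((LTen₂ R).obj (Q.obj X₀, Q.obj K₀))) ≫
        (DRing.restrictD (algebraMap R R')).map
          ((LBase (algebraMap R R')).map (eps X₀ K₀) ≫ bC (algebraMap R R') (X₀ ⊗ K₀) ≫ Q.map (theta (algebraMap R R') X₀ K₀))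
        = (associator ((DRing.restrictD (algebraMap R R')).obj (DTen.unit R')) (Q.obj X₀) (Q.obj K₀)).hom ≫
            (tau ((LTen₂ R).obj (Q.obj X₀, Q.obj K₀)) ≫
              (DRing.restrictD (algebraMap R R')).map ((LBase (algebraMap R R')).map (eps X₀ K₀))) ≫
            (DRing.restrictD (algebraMap R R')).map (bC (algebraMap R R') (X₀ ⊗ K₀)) ≫
            (DRing.restrictD (algebraMap R R')).map (Q.map (theta (algebraMap R R') X₀ K₀)) := by
          rw [Functor.map_comp, Functor.map_comp]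
          simp only [Category.assoc]
      _ = (associator ((DRing.restrictD (algebraMap R R')).obj (DTen.unit R')) (Q.obj X₀) (Q.obj K₀)).hom ≫
            tn (𝟙 ((DRing.restrictD (algebraMap R R')).obj (DTen.unit R'))) (eps X₀ K₀) ≫
            (tau (Q.obj (X₀ ⊗ K₀)) ≫ (DRing.restrictD (algebraMap R R')).map (bC (algebraMap R R') (X₀ ⊗ K₀))) ≫
            (DRing.restrictD (algebraMap R R')).map (Q.map (theta (algebraMap R R') X₀ K₀)) := by
          rw [← d1]
          simp only [Category.assoc]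
      _ = (associator ((DRing.restrictD (algebraMap R R')).obj (DTen.unit R')) (Q.obj X₀) (Q.obj K₀)).hom ≫
            (tn (𝟙 ((DRing.restrictD (algebraMap R R')).obj (DTen.unit R'))) (eps X₀ K₀) ≫
              tn (rFh (algebraMap R R') (𝟙_ (DRing.Cx R'))) (𝟙 (Q.obj (X₀ ⊗ K₀)))) ≫
            eps ((resCx (algebraMap R R')).obj (𝟙_ (DRing.Cx R'))) (X₀ ⊗ K₀) ≫ Q.map (t (X₀ ⊗ K₀)) ≫
            Q.map ((resCx (algebraMap R R')).map (theta (algebraMap R R') X₀ K₀)) ≫
            rFi (algebraMap R R') ((extCx (algebraMap R R')).obj X₀ ⊗ (extCx (algebraMap R R')).obj K₀) := by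
          rw [d2]
          simp only [Category.assoc]
          rw [d3]
      _ = ((associator ((DRing.restrictD (algebraMap R R')).obj (DTen.unit R')) (Q.obj X₀) (Q.obj K₀)).hom ≫
              tn (rFh (algebraMap R R') (𝟙_ (DRing.Cx R'))) (tn (𝟙 (Q.obj X₀)) (𝟙 (Q.obj K₀)))) ≫
            tn (𝟙 (Q.obj ((resCx (algebraMap R R')).obj (𝟙_ (DRing.Cx R'))))) (eps X₀ K₀) ≫
            eps ((resCx (algebraMap R R')).obj (𝟙_ (DRing.Cx R'))) (X₀ ⊗ K₀) ≫ Q.map (t (X₀ ⊗ K₀)) ≫
            Q.map ((resCx (algebraMap R R')).map (theta (algebraMap R R') X₀ K₀)) ≫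
            rFi (algebraMap R R') ((extCx (algebraMap R R')).obj X₀ ⊗ (extCx (algebraMap R R')).obj K₀) := by
          rw [d4]
          simp only [Category.assoc]
      _ = tn (tn (rFh (algebraMap R R') (𝟙_ (DRing.Cx R'))) (𝟙 (Q.obj X₀))) (𝟙 (Q.obj K₀)) ≫
            ((associator (Q.obj ((resCx (algebraMap R R')).obj (𝟙_ (DRing.Cx R')))) (Q.obj X₀) (Q.obj K₀)).hom ≫
              tn (𝟙 (Q.obj ((resCx (algebraMap R R')).obj (𝟙_ (DRing.Cx R'))))) (eps X₀ K₀) ≫
              eps ((resCx (algebraMap R R')).obj (𝟙_ (DRing.Cx R'))) (X₀ ⊗ K₀)) ≫ Q.map (t (X₀ ⊗ K₀)) ≫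
            Q.map ((resCx (algebraMap R R')).map (theta (algebraMap R R') X₀ K₀)) ≫
            rFi (algebraMap R R') ((extCx (algebraMap R R')).obj X₀ ⊗ (extCx (algebraMap R R')).obj K₀) := by
          rw [← d5]
          simp only [Category.assoc]
      _ = _ := by
          rw [d6]
          simp only [Category.assoc]
  rw [hL, hR]

/-- **the key compatibility**: `tau` intertwines the associator with the monoidal comparison -/
lemma star (X K : Dual.D R) :
    tn (tau (R' := R') X) (𝟙 K) ≫ sigma X K =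
      (associator ((DRing.restrictD (algebraMap R R')).obj (DTen.unit R')) X K).hom ≫
        tau ((LTen₂ R).obj (X, K)) := by
  obtain ⟨X₀, hX, ⟨eX⟩⟩ := exists_kf_iso X
  obtain ⟨K₀, hK, ⟨eK⟩⟩ := exists_kf_iso K
  have h0 := star₀ (R' := R') X₀ K₀ hX hK
  have a1 := tau_nat (R' := R') eX.hom
  have a2 := sigma_nat (R' := R') eX.hom eK.hom
  have a3 := Groth.Agent.Lib.EvalTen.associator_naturality
    (𝟙 ((DRing.restrictD (algebraMap R R')).obj (DTen.unit R'))) eX.hom eK.hom
  have a4 := tau_nat (R' := R') (tn eX.hom eK.hom)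
  have hL : tn (tn (𝟙 ((DRing.restrictD (algebraMap R R')).obj (DTen.unit R'))) eX.hom) eK.hom ≫
      (tn (tau (R' := R') X) (𝟙 K) ≫ sigma X K) =
      (tn (tau (R' := R') (Q.obj X₀)) (𝟙 (Q.obj K₀)) ≫ sigma (Q.obj X₀) (Q.obj K₀)) ≫
        (DRing.restrictD (algebraMap R R')).map ((LBase (algebraMap R R')).map (tn eX.hom eK.hom)) := by
    calc tn (tn (𝟙 ((DRing.restrictD (algebraMap R R')).obj (DTen.unit R'))) eX.hom) eK.hom ≫
          (tn (tau (R' := R') X) (𝟙 K) ≫ sigma X K)
        = tn (tau (R' := R') (Q.obj X₀)) (𝟙 (Q.obj K₀)) ≫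
            tn ((DRing.restrictD (algebraMap R R')).map ((LBase (algebraMap R R')).map eX.hom)) eK.hom ≫ sigma X K := by
          rw [tn_comp_assoc, tn_comp_assoc, a1, Category.comp_id, Category.id_comp]
      _ = _ := by
          rw [a2, Category.assoc]
  have hR : tn (tn (𝟙 ((DRing.restrictD (algebraMap R R')).obj (DTen.unit R'))) eX.hom) eK.hom ≫
      ((associator ((DRing.restrictD (algebraMap R R')).obj (DTen.unit R')) X K).hom ≫
        tau ((LTen₂ R).obj (X, K))) =
      ((associator ((DRing.restrictD (algebraMap R R')).obj (DTen.unit R')) (Q.obj X₀) (Q.obj K₀)).hom ≫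
        tau ((LTen₂ R).obj (Q.obj X₀, Q.obj K₀))) ≫
        (DRing.restrictD (algebraMap R R')).map ((LBase (algebraMap R R')).map (tn eX.hom eK.hom)) := by
    rw [reassoc_of% a3, a4, Category.assoc]
  haveI : IsIso (tn (tn (𝟙 ((DRing.restrictD (algebraMap R R')).obj (DTen.unit R'))) eX.hom) eK.hom) :=
    isIso_tn _ _ (isIso_tn _ _ inferInstance inferInstance) inferInstance
  rw [← cancel_epi (tn (tn (𝟙 ((DRing.restrictD (algebraMap R R')).obj (DTen.unit R'))) eX.hom) eK.hom),
    hL, hR, h0]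

end PFD

section Main

variable {R R' : Type u} [CommRing R] [CommRing R'] [Algebra R R']
  [HasLTen R] [HasLTen R'] [HasLBase (algebraMap R R')] [HasResTen (algebraMap R R')] [ResLegIso (algebraMap R R')]

omit [HasLTen R'] [HasLBase (algebraMap R R')] [HasResTen (algebraMap R R')] [ResLegIso (algebraMap R R')] [HasLTen R] in
/-- `R'|_R` is perfect in `D(R)` if `R'` is a perfect `R`-module -/
lemma isPerfect_res_unit (hR' : DRing.IsPerfectModule R R') :
    DRing.IsPerfect R ((DRing.restrictD (algebraMap R R')).obj (DTen.unit R')) := by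
  obtain ⟨E, a, b, h1, h2, ⟨e⟩⟩ := hR'
  exact ⟨E, a, b, h1, h2,
    ⟨e ≪≫ (resUnitIso (R := R) (R' := R')).symm ≪≫
      ((resFactors (algebraMap R R')).app (𝟙_ (DRing.Cx R'))).symm⟩⟩

/-- the adjunct of a map out of `cmon` -/
lemma homEquiv_cmon_comp (T K : Dual.D R) {E Z : Dual.D R'} (g : (LBase (algebraMap R R')).obj T ⟶ E)
    (h : (LTen₂ R').obj (E, (LBase (algebraMap R R')).obj K) ⟶ Z) :
    (baseAdj (algebraMap R R')).homEquiv _ _ (cmon (algebraMap R R') T K ≫ tn g (𝟙 ((LBase (algebraMap R R')).obj K)) ≫ h) =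
      tn ((baseAdj (algebraMap R R')).homEquiv _ _ g) (𝟙 K) ≫ projPF (algebraMap R R') E K ≫ (DRing.restrictD (algebraMap R R')).map h := by
  have hx : (baseAdj (algebraMap R R')).homEquiv T _ g =
      (baseAdj (algebraMap R R')).unit.app T ≫ (DRing.restrictD (algebraMap R R')).map g := (baseAdj (algebraMap R R')).homEquiv_unit _ _ _
  have hn := resPF_nat (algebraMap R R') g (𝟙 ((LBase (algebraMap R R')).obj K))
  have hc : (baseAdj (algebraMap R R')).homEquiv _ _ (cmon (algebraMap R R') T K) = c₀ (algebraMap R R') T K := by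
    unfold cmon
    rw [Equiv.apply_symm_apply]
  have hP : projPF (algebraMap R R') E K =
      tn (𝟙 ((DRing.restrictD (algebraMap R R')).obj E)) ((baseAdj (algebraMap R R')).unit.app K) ≫
        (resPF (algebraMap R R')).app (E, (LBase (algebraMap R R')).obj K) := rfl
  rw [Adjunction.homEquiv_naturality_right, hc, hx]
  unfold c₀
  rw [hP, Functor.map_comp]
  simp only [Category.assoc]
  rw [← reassoc_of% hn, tn_comp_assoc, tn_comp_assoc, CategoryTheory.Functor.map_id]
  simp only [Category.comp_id, Category.id_comp]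
  erw [Category.comp_id]

variable [HasRHom R] [HasRHom R']

/-- **base change for `RHom` when `R'` is a perfect `R`-module** -/
theorem main14265 (K M : Dual.D R) (hR' : DRing.IsPerfectModule R R') :
    IsIso (bcRHom (algebraMap R R') K M) := by
  haveI : HasLTen₃ R := hasLTen₃ R
  haveI : IsSymMonoidal R := isSymMonoidal R
  have hP : DRing.IsPerfect R ((DRing.restrictD (algebraMap R R')).obj (DTen.unit R')) :=
    isPerfect_res_unit hR'
  haveI iE : IsIso (evalTen ((DRing.restrictD (algebraMap R R')).obj (DTen.unit R')) M K) :=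
    Groth.Agent.Lib.EvalTen.isIso_evalTen_of_isPerfect M K _ hP
  apply Groth.Agent.Lib.TrivBCH6.isIso_of_isIso_restrictD (algebraMap R R')
  apply isIso_of_yoneda_map_bijective
  intro T
  let B : (T ⟶ (DRing.restrictD (algebraMap R R')).obj
        ((RHomR R' ((LBase (algebraMap R R')).obj K)).obj ((LBase (algebraMap R R')).obj M))) →
      ((LTen₂ R).obj (T, K) ⟶ (DRing.restrictD (algebraMap R R')).obj ((LBase (algebraMap R R')).obj M)) := fun x =>
    (baseAdj (algebraMap R R')).homEquiv _ _ (cmon (algebraMap R R') T K ≫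
      (rhomHomEquiv ((LBase (algebraMap R R')).obj T) ((LBase (algebraMap R R')).obj K) ((LBase (algebraMap R R')).obj M)).symm
        (((baseAdj (algebraMap R R')).homEquiv T _).symm x))
  have hB : Function.Bijective B :=
    ((baseAdj (algebraMap R R')).homEquiv _ _).bijective.comp
      ((Iso.homFromEquiv (asIso (cmon (algebraMap R R') T K))).symm.bijective.comp
        ((rhomHomEquiv ((LBase (algebraMap R R')).obj T) ((LBase (algebraMap R R')).obj K)
          ((LBase (algebraMap R R')).obj M)).symm.bijective.comp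
          ((baseAdj (algebraMap R R')).homEquiv T _).symm.bijective))
  let C : (T ⟶ (DRing.restrictD (algebraMap R R')).obj ((LBase (algebraMap R R')).obj ((RHomR R K).obj M))) →
      ((LTen₂ R).obj (T, K) ⟶ (DRing.restrictD (algebraMap R R')).obj ((LBase (algebraMap R R')).obj M)) := fun s =>
    tn s (𝟙 K) ≫ sigma ((RHomR R K).obj M) K ≫
      (DRing.restrictD (algebraMap R R')).map ((LBase (algebraMap R R')).map (ev K M))
  have claimA : ∀ s, B (s ≫ (DRing.restrictD (algebraMap R R')).map (bcRHom (algebraMap R R') K M)) = C s := by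
    intro s
    obtain ⟨g, rfl⟩ : ∃ g, s = (baseAdj (algebraMap R R')).homEquiv T _ g :=
      ⟨((baseAdj (algebraMap R R')).homEquiv T _).symm s, (Equiv.apply_symm_apply _ _).symm⟩
    have e1 : ((baseAdj (algebraMap R R')).homEquiv T _).symm
        ((baseAdj (algebraMap R R')).homEquiv T _ g ≫ (DRing.restrictD (algebraMap R R')).map (bcRHom (algebraMap R R') K M)) =
        g ≫ bcRHom (algebraMap R R') K M := by
      rw [Adjunction.homEquiv_naturality_right_symm, Equiv.symm_apply_apply]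
    have e2 : (rhomHomEquiv ((LBase (algebraMap R R')).obj T) ((LBase (algebraMap R R')).obj K) ((LBase (algebraMap R R')).obj M)).symm
        (g ≫ bcRHom (algebraMap R R') K M) =
        tn g (𝟙 ((LBase (algebraMap R R')).obj K)) ≫ tn (bcRHom (algebraMap R R') K M) (𝟙 ((LBase (algebraMap R R')).obj K)) ≫
          ev ((LBase (algebraMap R R')).obj K) ((LBase (algebraMap R R')).obj M) := by
      rw [adjunct_eq', tn_comp_assoc, Category.comp_id]
    have e3 : tn (bcRHom (algebraMap R R') K M) (𝟙 ((LBase (algebraMap R R')).obj K)) ≫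
        ev ((LBase (algebraMap R R')).obj K) ((LBase (algebraMap R R')).obj M) =
        inv (cmon (algebraMap R R') ((RHomR R K).obj M) K) ≫ (LBase (algebraMap R R')).map (ev K M) := by
      rw [IsIso.eq_inv_comp]
      exact cmon_bcRHom_ev (algebraMap R R') K M
    show (baseAdj (algebraMap R R')).homEquiv _ _ (cmon (algebraMap R R') T K ≫
      (rhomHomEquiv ((LBase (algebraMap R R')).obj T) ((LBase (algebraMap R R')).obj K) ((LBase (algebraMap R R')).obj M)).symm
        (((baseAdj (algebraMap R R')).homEquiv T _).symm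
          ((baseAdj (algebraMap R R')).homEquiv T _ g ≫ (DRing.restrictD (algebraMap R R')).map (bcRHom (algebraMap R R') K M)))) = _
    rw [e1, e2, e3, homEquiv_cmon_comp, Functor.map_comp]
    show _ = tn _ (𝟙 K) ≫ (projPF (algebraMap R R') _ K ≫ (DRing.restrictD (algebraMap R R')).map (inv (cmon (algebraMap R R') _ K))) ≫ _
    simp only [Category.assoc]
  have hC : Function.Bijective C := by
    have hpre : Function.Bijective
        (fun s' : T ⟶ (LTen₂ R).obj ((DRing.restrictD (algebraMap R R')).obj (DTen.unit R'), (RHomR R K).obj M) =>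
          s' ≫ tau (R' := R') ((RHomR R K).obj M)) :=
      (Iso.homToEquiv (asIso (tau (R' := R') ((RHomR R K).obj M)))).bijective
    refine (Function.Bijective.of_comp_iff C hpre).1 ?_
    have key : C ∘ (fun s' : T ⟶ (LTen₂ R).obj
          ((DRing.restrictD (algebraMap R R')).obj (DTen.unit R'), (RHomR R K).obj M) =>
          s' ≫ tau (R' := R') ((RHomR R K).obj M)) =
        (fun y => y ≫ tau (R' := R') M) ∘
          ((rhomHomEquiv T K
            ((LTen₂ R).obj ((DRing.restrictD (algebraMap R R')).obj (DTen.unit R'), M))).symm ∘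
          (fun s' => s' ≫ evalTen ((DRing.restrictD (algebraMap R R')).obj (DTen.unit R')) M K)) := by
      funext s'
      have h1 : tn (s' ≫ tau (R' := R') ((RHomR R K).obj M)) (𝟙 K) =
          tn s' (𝟙 K) ≫ tn (tau (R' := R') ((RHomR R K).obj M)) (𝟙 K) := by
        rw [tn_comp, Category.comp_id]
      have h2 := star (R' := R') ((RHomR R K).obj M) K
      have h3 := tau_nat (R' := R') (ev K M)
      have h4 : (rhomHomEquiv T K
          ((LTen₂ R).obj ((DRing.restrictD (algebraMap R R')).obj (DTen.unit R'), M))).symm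
          (s' ≫ evalTen ((DRing.restrictD (algebraMap R R')).obj (DTen.unit R')) M K) =
          tn s' (𝟙 K) ≫ (associator ((DRing.restrictD (algebraMap R R')).obj (DTen.unit R'))
            ((RHomR R K).obj M) K).hom ≫
            tn (𝟙 ((DRing.restrictD (algebraMap R R')).obj (DTen.unit R'))) (ev K M) := by
        have hf := evalTen_fac ((DRing.restrictD (algebraMap R R')).obj (DTen.unit R')) M K
        rw [adjunct_eq', ← Category.comp_id (𝟙 K), ← tn_comp, Category.assoc]
        erw [hf]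
        rfl
      show tn (s' ≫ tau (R' := R') ((RHomR R K).obj M)) (𝟙 K) ≫
          sigma ((RHomR R K).obj M) K ≫ (DRing.restrictD (algebraMap R R')).map ((LBase (algebraMap R R')).map (ev K M)) =
        (rhomHomEquiv T K
          ((LTen₂ R).obj ((DRing.restrictD (algebraMap R R')).obj (DTen.unit R'), M))).symm
          (s' ≫ evalTen ((DRing.restrictD (algebraMap R R')).obj (DTen.unit R')) M K) ≫ tau (R' := R') M
      rw [h1, h4, Category.assoc, reassoc_of% h2, ← h3]
      simp only [Category.assoc]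
    rw [key]
    exact (Iso.homToEquiv (asIso (tau (R' := R') M))).bijective.comp
      ((rhomHomEquiv T K _).symm.bijective.comp
        (Iso.homToEquiv (asIso
          (evalTen ((DRing.restrictD (algebraMap R R')).obj (DTen.unit R')) M K))).bijective)
  have hcomp : B ∘ (fun s => s ≫ (DRing.restrictD (algebraMap R R')).map (bcRHom (algebraMap R R') K M)) = C :=
    funext claimA
  refine (Function.Bijective.of_comp_iff' hB _).1 ?_
  rw [hcomp]
  exact hC

end Main

end Groth.Agent.Lib.LBaseMonH1
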