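import Mathlib

/-!
# Extending a "θ-connection" `D : M → M` (additive, `D (a m) = θ a • m + a D m`) to a localization
(helper3)
-/

set_option autoImplicit false

namespace Groth.Agent.Lib.LCDerH3

universe u

variable {A : Type u} [CommRing A] (θ : Derivation ℤ A A)

/-- `N × N` with the twisted action `a • (x, y) = (a x, a y + θ a x)`. -/
@[ext] structure Tw (_θ : Derivation ℤ A A) (N : Type*) where
  /-- first component -/
  fst : N
  /-- second component -/
  snd : N

namespace Tw

variable {N : Type*} [AddCommGroup N] [Module A N]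

/-- the equivalence with the product. -/
def equivProd : Tw θ N ≃ N × N where
  toFun z := (z.fst, z.snd)
  invFun p := ⟨p.1, p.2⟩
  left_inv _ := rfl
  right_inv _ := rfl

instance : AddCommGroup (Tw θ N) := (equivProd θ).addCommGroup

lemma add_fst (z w : Tw θ N) : (z + w).fst = z.fst + w.fst := rfl

lemma add_snd (z w : Tw θ N) : (z + w).snd = z.snd + w.snd := rfl

lemma zero_fst : (0 : Tw θ N).fst = 0 := rfl

lemma zero_snd : (0 : Tw θ N).snd = 0 := rfl

instance : SMul A (Tw θ N) := ⟨fun a z => ⟨a • z.fst, a • z.snd + θ a • z.fst⟩⟩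

lemma smul_fst (a : A) (z : Tw θ N) : (a • z).fst = a • z.fst := rfl

lemma smul_snd (a : A) (z : Tw θ N) : (a • z).snd = a • z.snd + θ a • z.fst := rfl

instance : Module A (Tw θ N) where
  one_smul z := by
    apply Tw.ext
    · rw [smul_fst, one_smul]
    · rw [smul_snd, Derivation.map_one_eq_zero, one_smul, zero_smul, add_zero]
  mul_smul a b z := by
    apply Tw.ext
    · rw [smul_fst, smul_fst, smul_fst, mul_smul]
    · rw [smul_snd, smul_snd, smul_snd, smul_fst, Derivation.leibniz, smul_eq_mul, smul_eq_mul,
        mul_smul, smul_add, add_smul, mul_smul, mul_smul, smul_comm b (θ a) z.fst, add_assoc]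
  smul_zero a := by
    apply Tw.ext
    · rw [smul_fst, zero_fst, smul_zero]
    · rw [smul_snd, zero_snd, zero_fst, smul_zero, smul_zero, add_zero]
  smul_add a z w := by
    apply Tw.ext
    · rw [smul_fst, add_fst, add_fst, smul_fst, smul_fst, smul_add]
    · rw [smul_snd, add_snd, add_snd, add_fst, smul_snd, smul_snd, smul_add, smul_add]
      abel
  add_smul a b z := by
    apply Tw.ext
    · rw [smul_fst, add_fst, smul_fst, smul_fst, add_smul]
    · rw [smul_snd, add_snd, smul_snd, smul_snd, map_add, add_smul, add_smul]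
      abel
  zero_smul z := by
    apply Tw.ext
    · rw [smul_fst, zero_fst, zero_smul]
    · rw [smul_snd, zero_snd, map_zero, zero_smul, zero_smul, add_zero]

/-- first projection, linear. -/
def fstL : Tw θ N →ₗ[A] N where
  toFun z := z.fst
  map_add' _ _ := rfl
  map_smul' _ _ := rfl

/-- second projection, additive. -/
def sndA : Tw θ N →+ N where
  toFun z := z.snd
  map_zero' := rfl
  map_add' _ _ := rfl

/-- functoriality of the twisted module. -/
def map {N' : Type*} [AddCommGroup N'] [Module A N'] (g : N →ₗ[A] N') : Tw θ N →ₗ[A] Tw θ N' where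
  toFun z := ⟨g z.fst, g z.snd⟩
  map_add' z w := by
    apply Tw.ext
    · show g (z + w).fst = g z.fst + g w.fst
      rw [add_fst, map_add]
    · show g (z + w).snd = g z.snd + g w.snd
      rw [add_snd, map_add]
  map_smul' a z := by
    apply Tw.ext
    · show g (a • z).fst = a • g z.fst
      rw [smul_fst, map_smul]
    · show g (a • z).snd = a • g z.snd + θ a • g z.fst
      rw [smul_snd, map_add, map_smul, map_smul]

lemma map_fst {N' : Type*} [AddCommGroup N'] [Module A N'] (g : N →ₗ[A] N') (z : Tw θ N) :
    (map θ g z).fst = g z.fst := rfl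

lemma map_snd {N' : Type*} [AddCommGroup N'] [Module A N'] (g : N →ₗ[A] N') (z : Tw θ N) :
    (map θ g z).snd = g z.snd := rfl

lemma isUnit_smul (s : A) (hs : IsUnit (algebraMap A (Module.End A N) s)) :
    IsUnit (algebraMap A (Module.End A (Tw θ N)) s) := by
  rw [Module.End.isUnit_iff] at hs ⊢
  have hs' : Function.Bijective (fun x : N => s • x) := hs
  constructor
  · intro z w h
    have h' : s • z = s • w := h
    have h1 : s • z.fst = s • w.fst := congrArg Tw.fst h'
    have h2 : s • z.snd + θ s • z.fst = s • w.snd + θ s • w.fst := congrArg Tw.snd h'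
    have e1 : z.fst = w.fst := hs'.1 h1
    rw [e1, add_left_inj] at h2
    have e2 : z.snd = w.snd := hs'.1 h2
    exact Tw.ext e1 e2
  · intro w
    obtain ⟨x, hx⟩ := hs'.2 w.fst
    obtain ⟨y, hy⟩ := hs'.2 (w.snd - θ s • x)
    refine ⟨⟨x, y⟩, ?_⟩
    show s • (⟨x, y⟩ : Tw θ N) = w
    simp only at hx hy
    apply Tw.ext
    · rw [smul_fst, hx]
    · rw [smul_snd, hy, sub_add_cancel]

end Tw

section loc

variable (S : Submonoid A) {M : Type*} [AddCommGroup M] [Module A M]
  (D : M →+ M) (hD : ∀ (a : A) (m : M), D (a • m) = θ a • m + a • D m)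

/-- the linear map `M → Tw (M_S)`, `m ↦ (m/1, D m/1)`. -/
noncomputable def lam : M →ₗ[A] Tw θ (LocalizedModule S M) where
  toFun m := ⟨LocalizedModule.mkLinearMap S M m, LocalizedModule.mkLinearMap S M (D m)⟩
  map_add' m m' := by
    apply Tw.ext
    · show LocalizedModule.mkLinearMap S M (m + m') =
        LocalizedModule.mkLinearMap S M m + LocalizedModule.mkLinearMap S M m'
      rw [map_add]
    · show LocalizedModule.mkLinearMap S M (D (m + m')) =
        LocalizedModule.mkLinearMap S M (D m) + LocalizedModule.mkLinearMap S M (D m')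
      rw [map_add, map_add]
  map_smul' a m := by
    apply Tw.ext
    · show LocalizedModule.mkLinearMap S M (a • m) = a • LocalizedModule.mkLinearMap S M m
      rw [map_smul]
    · show LocalizedModule.mkLinearMap S M (D (a • m)) =
        a • LocalizedModule.mkLinearMap S M (D m) + θ a • LocalizedModule.mkLinearMap S M m
      rw [hD, map_add, map_smul, map_smul, add_comm]

lemma lam_fst (m : M) : (lam θ S D hD m).fst = LocalizedModule.mkLinearMap S M m := rfl

lemma lam_snd (m : M) : (lam θ S D hD m).snd = LocalizedModule.mkLinearMap S M (D m) := rfl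

/-- the lifted linear map `M_S → Tw (M_S)`. -/
noncomputable def Lam : LocalizedModule S M →ₗ[A] Tw θ (LocalizedModule S M) :=
  IsLocalizedModule.lift S (LocalizedModule.mkLinearMap S M) (lam θ S D hD)
    (fun s => Tw.isUnit_smul θ s
      (IsLocalizedModule.map_units (LocalizedModule.mkLinearMap S M) s))

lemma Lam_mk (m : M) :
    Lam θ S D hD (LocalizedModule.mkLinearMap S M m) = lam θ S D hD m :=
  IsLocalizedModule.lift_apply S _ _ _ m

lemma Lam_fst (z : LocalizedModule S M) : (Lam θ S D hD z).fst = z := by
  have : (Tw.fstL θ) ∘ₗ (Lam θ S D hD) = LinearMap.id := by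
    apply IsLocalizedModule.ext S (LocalizedModule.mkLinearMap S M)
      (IsLocalizedModule.map_units (LocalizedModule.mkLinearMap S M))
    apply LinearMap.ext
    intro m
    simp only [LinearMap.comp_apply, LinearMap.id_apply]
    rw [Lam_mk]
    rfl
  exact congrArg (fun g => g z) this

/-- the induced operator on the localization. -/
noncomputable def Dloc : LocalizedModule S M →+ LocalizedModule S M :=
  (Tw.sndA θ).comp (Lam θ S D hD).toAddMonoidHom

lemma Dloc_mk (m : M) :
    Dloc θ S D hD (LocalizedModule.mkLinearMap S M m) = LocalizedModule.mkLinearMap S M (D m) := by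
  show (Lam θ S D hD (LocalizedModule.mkLinearMap S M m)).snd = _
  rw [Lam_mk]
  rfl

lemma Dloc_leib (a : A) (z : LocalizedModule S M) :
    Dloc θ S D hD (a • z) = θ a • z + a • Dloc θ S D hD z := by
  show (Lam θ S D hD (a • z)).snd = θ a • z + a • (Lam θ S D hD z).snd
  rw [map_smul, Tw.smul_snd, Lam_fst, add_comm]

variable {M' : Type*} [AddCommGroup M'] [Module A M']
  (D' : M' →+ M') (hD' : ∀ (a : A) (m : M'), D' (a • m) = θ a • m + a • D' m)

lemma Dloc_map (g : M →ₗ[A] M') (hg : ∀ m, D' (g m) = g (D m)) (z : LocalizedModule S M) :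
    Dloc θ S D' hD' (IsLocalizedModule.map S (LocalizedModule.mkLinearMap S M)
      (LocalizedModule.mkLinearMap S M') g z) =
    IsLocalizedModule.map S (LocalizedModule.mkLinearMap S M)
      (LocalizedModule.mkLinearMap S M') g (Dloc θ S D hD z) := by
  have : (Lam θ S D' hD') ∘ₗ (IsLocalizedModule.map S (LocalizedModule.mkLinearMap S M)
      (LocalizedModule.mkLinearMap S M') g) =
      (Tw.map θ (IsLocalizedModule.map S (LocalizedModule.mkLinearMap S M)
      (LocalizedModule.mkLinearMap S M') g)) ∘ₗ (Lam θ S D hD) := by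
    apply IsLocalizedModule.ext S (LocalizedModule.mkLinearMap S M)
      (fun s => Tw.isUnit_smul θ s
        (IsLocalizedModule.map_units (LocalizedModule.mkLinearMap S M') s))
    apply LinearMap.ext
    intro m
    simp only [LinearMap.comp_apply]
    rw [IsLocalizedModule.map_apply, Lam_mk, Lam_mk]
    apply Tw.ext
    · rw [lam_fst, Tw.map_fst, lam_fst, IsLocalizedModule.map_apply]
    · rw [lam_snd, Tw.map_snd, lam_snd, IsLocalizedModule.map_apply, hg]
  have h2 := congrArg (fun g => (g z).snd) this
  exact h2

end loc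

end Groth.Agent.Lib.LCDerH3
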