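import Mathlib
import Groth.Prelude.Def_DerCA
import Groth.Agent.Lib.ExtCechFun_helper7
import Groth.Agent.Lib.LCDer1_helper3

/-!
# θ-connections on complexes of modules and on their cohomology (helper3)

A `TConn θ K` on a cochain complex `K` of `A`-modules is a family of additive operators `D^n` on
the terms with `D (a x) = θ a • x + a D x`, commuting with the differential.  They pass to
cohomology, to shifts, mapping cones, termwise localizations.
-/

set_option autoImplicit false

open CategoryTheory CategoryTheory.Limits CochainComplex HomComplex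

namespace Groth.Agent.Lib.LCDerH3

universe u

variable {A : Type u} [CommRing A] (θ : Derivation ℤ A A)

/-- a θ-connection on a complex. -/
structure TConn (K : DRing.Cx A) where
  /-- the operators -/
  D : ∀ n : ℤ, K.X n →+ K.X n
  leib : ∀ (n : ℤ) (a : A) (x : K.X n), D n (a • x) = θ a • x + a • D n x
  comm : ∀ (n m : ℤ) (x : K.X n), D m ((K.d n m).hom x) = (K.d n m).hom (D n x)

section conj

variable {M N : Type*} [AddCommGroup M] [Module A M] [AddCommGroup N] [Module A N]

/-- conjugating an operator by a linear equivalence. -/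
def conjA (e : M ≃ₗ[A] N) (D : N →+ N) : M →+ M :=
  (e.symm.toLinearMap.toAddMonoidHom).comp (D.comp e.toLinearMap.toAddMonoidHom)

lemma conjA_apply (e : M ≃ₗ[A] N) (D : N →+ N) (x : M) : conjA e D x = e.symm (D (e x)) := rfl

lemma conjA_leib (e : M ≃ₗ[A] N) (D : N →+ N)
    (hD : ∀ (a : A) (x : N), D (a • x) = θ a • x + a • D x) (a : A) (x : M) :
    conjA e D (a • x) = θ a • x + a • conjA e D x := by
  rw [conjA_apply, conjA_apply, map_smul, hD, map_add, map_smul, map_smul, e.symm_apply_apply]

end conj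

section homology

variable (S : ShortComplex (ModuleCat.{u} A)) (D₁ : S.X₁ →+ S.X₁) (D₂ : S.X₂ →+ S.X₂)
  (D₃ : S.X₃ →+ S.X₃)
  (h₂ : ∀ (a : A) (x : S.X₂), D₂ (a • x) = θ a • x + a • D₂ x)
  (hf : ∀ x : S.X₁, D₂ (S.f.hom x) = S.f.hom (D₁ x))
  (hg : ∀ x : S.X₂, D₃ (S.g.hom x) = S.g.hom (D₂ x))

/-- the operator on cycles. -/
def Dker : LinearMap.ker S.g.hom →+ LinearMap.ker S.g.hom where
  toFun x := ⟨D₂ x.1, by
    rw [LinearMap.mem_ker, ← hg, LinearMap.mem_ker.1 x.2, map_zero]⟩
  map_zero' := Subtype.ext (map_zero D₂)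
  map_add' x y := Subtype.ext (map_add D₂ x.1 y.1)

include hf in
lemma Dker_range :
    (LinearMap.range S.moduleCatToCycles).toAddSubgroup ≤
      (LinearMap.range S.moduleCatToCycles).toAddSubgroup.comap (Dker S D₂ D₃ hg) := by
  rintro _ ⟨y, rfl⟩
  exact ⟨D₁ y, Subtype.ext (hf y).symm⟩

/-- the operator on `ker / range`. -/
def DQ : (LinearMap.ker S.g.hom ⧸ LinearMap.range S.moduleCatToCycles) →+
    (LinearMap.ker S.g.hom ⧸ LinearMap.range S.moduleCatToCycles) :=
  QuotientAddGroup.map (LinearMap.range S.moduleCatToCycles).toAddSubgroup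
    (LinearMap.range S.moduleCatToCycles).toAddSubgroup (Dker S D₂ D₃ hg) (Dker_range S D₁ D₂ D₃ hf hg)

lemma DQ_mk (x : LinearMap.ker S.g.hom) :
    DQ S D₁ D₂ D₃ hf hg (Submodule.Quotient.mk x) = Submodule.Quotient.mk (Dker S D₂ D₃ hg x) :=
  rfl

include h₂ in
lemma DQ_leib (a : A) (q : LinearMap.ker S.g.hom ⧸ LinearMap.range S.moduleCatToCycles) :
    DQ S D₁ D₂ D₃ hf hg (a • q) = θ a • q + a • DQ S D₁ D₂ D₃ hf hg q := by
  induction q using Submodule.Quotient.induction_on with
  | H x =>
    rw [← Submodule.Quotient.mk_smul, DQ_mk, DQ_mk, ← Submodule.Quotient.mk_smul,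
      ← Submodule.Quotient.mk_smul, ← Submodule.Quotient.mk_add]
    congr 1
    apply Subtype.ext
    exact h₂ a x.1

/-- the operator on homology. -/
noncomputable def DH : S.homology →+ S.homology :=
  conjA (S.moduleCatHomologyIso.toLinearEquiv) (DQ S D₁ D₂ D₃ hf hg)

include h₂ in
lemma DH_leib (a : A) (ξ : S.homology) :
    DH S D₁ D₂ D₃ hf hg (a • ξ) = θ a • ξ + a • DH S D₁ D₂ D₃ hf hg ξ :=
  conjA_leib θ _ _ (DQ_leib θ S D₁ D₂ D₃ h₂ hf hg) a ξ

end homology

/-- A θ-connection on a complex induces an operator on each cohomology module. -/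
theorem TConn.exists_homology {K : DRing.Cx A} (T : TConn θ K) (n : ℤ) :
    ∃ D : K.homology n →+ K.homology n,
      ∀ (a : A) (ξ : K.homology n), D (a • ξ) = θ a • ξ + a • D ξ :=
  ⟨DH (K.sc n) (T.D _) (T.D n) (T.D _) (T.comm _ n) (T.comm n _),
    DH_leib θ (K.sc n) (T.D _) (T.D n) (T.D _) (T.leib n) (T.comm _ n) (T.comm n _)⟩

section shift

set_option backward.isDefEq.respectTransparency false in
/-- a θ-connection on the shift. -/
noncomputable def TConn.shift {K : DRing.Cx A} (T : TConn θ K) (a : ℤ) :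
    TConn θ ((CategoryTheory.shiftFunctor (DRing.Cx A) a).obj K) where
  D n := T.D (n + a)
  leib n b x := T.leib (n + a) b x
  comm n m x := by
    show T.D (m + a) ((a.negOnePow • K.d (n + a) (m + a)).hom x) =
      (a.negOnePow • K.d (n + a) (m + a)).hom (T.D (n + a) x)
    rw [Units.smul_def, ModuleCat.hom_zsmul, LinearMap.smul_apply, LinearMap.smul_apply, map_zsmul,
      T.comm]

end shift

section cone

variable {K L : DRing.Cx A} (φ : K ⟶ L) (TK : TConn θ K) (TL : TConn θ L)
  (hφ : ∀ (n : ℤ) (x : K.X n), TL.D n ((φ.f n).hom x) = (φ.f n).hom (TK.D n x))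

/-- the operator on the cone, in degree `n`. -/
noncomputable def coneD (n : ℤ) : (mappingCone φ).X n →+ (mappingCone φ).X n :=
  (((mappingCone.inl φ).v (n + 1) n (by omega)).hom.toAddMonoidHom.comp
      ((TK.D (n + 1)).comp ((mappingCone.fst φ).1.v n (n + 1) rfl).hom.toAddMonoidHom)) +
    (((mappingCone.inr φ).f n).hom.toAddMonoidHom.comp
      ((TL.D n).comp ((mappingCone.snd φ).v n n (add_zero n)).hom.toAddMonoidHom))

lemma coneD_apply (n : ℤ) (x : (mappingCone φ).X n) :
    coneD θ φ TK TL n x =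
      ((mappingCone.inl φ).v (n + 1) n (by omega)).hom
        (TK.D (n + 1) (((mappingCone.fst φ).1.v n (n + 1) rfl).hom x)) +
      ((mappingCone.inr φ).f n).hom (TL.D n (((mappingCone.snd φ).v n n (add_zero n)).hom x)) :=
  rfl

lemma coneD_fst (n m : ℤ) (h : n + 1 = m) (x : (mappingCone φ).X n) :
    ((mappingCone.fst φ).1.v n m h).hom (coneD θ φ TK TL n x) =
      TK.D m (((mappingCone.fst φ).1.v n m h).hom x) := by
  subst h
  rw [coneD_apply, map_add]
  have e1 := fun k => congrArg (fun g => g.hom k) (mappingCone.inl_v_fst_v φ (n + 1) n rfl)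
  have e2 := fun l => congrArg (fun g => g.hom l) (mappingCone.inr_f_fst_v φ n (n + 1) rfl)
  simp only [ModuleCat.hom_comp, LinearMap.comp_apply, ModuleCat.hom_id, LinearMap.id_apply,
    ModuleCat.hom_zero, LinearMap.zero_apply] at e1 e2
  rw [e1, e2, add_zero]

lemma coneD_snd (n : ℤ) (x : (mappingCone φ).X n) :
    ((mappingCone.snd φ).v n n (add_zero n)).hom (coneD θ φ TK TL n x) =
      TL.D n (((mappingCone.snd φ).v n n (add_zero n)).hom x) := by
  rw [coneD_apply, map_add]
  have e1 := fun k => congrArg (fun g => g.hom k) (mappingCone.inl_v_snd_v φ (n + 1) n (by omega))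
  have e2 := fun l => congrArg (fun g => g.hom l) (mappingCone.inr_f_snd_v φ n)
  simp only [ModuleCat.hom_comp, LinearMap.comp_apply, ModuleCat.hom_id, LinearMap.id_apply,
    ModuleCat.hom_zero, LinearMap.zero_apply] at e1 e2
  rw [e1, e2, zero_add]

lemma coneD_leib (n : ℤ) (a : A) (x : (mappingCone φ).X n) :
    coneD θ φ TK TL n (a • x) = θ a • x + a • coneD θ φ TK TL n x := by
  have e1 : ((mappingCone.fst φ).1.v n (n + 1) rfl).hom (a • x) =
      a • ((mappingCone.fst φ).1.v n (n + 1) rfl).hom x := LinearMap.map_smul _ _ _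
  have e2 : ((mappingCone.snd φ).v n n (add_zero n)).hom (a • x) =
      a • ((mappingCone.snd φ).v n n (add_zero n)).hom x := LinearMap.map_smul _ _ _
  have hx := ExtCechH7.cone_decomp φ n (n + 1) rfl x
  rw [coneD_apply, coneD_apply, e1, e2, TK.leib, TL.leib]
  obtain ⟨k, hk⟩ : ∃ k, k = ((mappingCone.fst φ).1.v n (n + 1) rfl).hom x := ⟨_, rfl⟩
  obtain ⟨l, hl⟩ : ∃ l, l = ((mappingCone.snd φ).v n n (add_zero n)).hom x := ⟨_, rfl⟩
  rw [← hk, ← hl] at hx ⊢
  have h3 : θ a • x = θ a • ((mappingCone.inl φ).v (n + 1) n (by omega)).hom k +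
      θ a • ((mappingCone.inr φ).f n).hom l := by
    conv_lhs => rw [hx, smul_add]
  rw [h3, map_add, map_add, LinearMap.map_smul, LinearMap.map_smul, LinearMap.map_smul,
    LinearMap.map_smul, smul_add]
  abel

include hφ in
lemma coneD_comm (n m : ℤ) (x : (mappingCone φ).X n) :
    coneD θ φ TK TL m (((mappingCone φ).d n m).hom x) =
      ((mappingCone φ).d n m).hom (coneD θ φ TK TL n x) := by
  by_cases h : n + 1 = m
  · subst h
    apply ExtCechH7.cone_ext φ (n + 1) (n + 1 + 1) rfl
    · rw [coneD_fst]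
      have e := fun y => congrArg (fun g => g.hom y)
        (mappingCone.d_fst_v φ n (n + 1) (n + 1 + 1) rfl rfl)
      simp only [ModuleCat.hom_comp, LinearMap.comp_apply, ModuleCat.hom_neg,
        LinearMap.neg_apply] at e
      rw [e, e, coneD_fst, map_neg, TK.comm]
    · rw [coneD_snd]
      have e := fun y => congrArg (fun g => g.hom y) (mappingCone.d_snd_v φ n (n + 1) rfl)
      simp only [ModuleCat.hom_comp, LinearMap.comp_apply, ModuleCat.hom_add,
        LinearMap.add_apply] at e
      rw [e, e, coneD_fst, coneD_snd, map_add, TL.comm, hφ]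
  · have h0 : (mappingCone φ).d n m = 0 := HomologicalComplex.shape _ _ _ h
    rw [h0]
    simp

/-- the θ-connection on the mapping cone. -/
noncomputable def TConn.cone : TConn θ (mappingCone φ) where
  D n := coneD θ φ TK TL n
  leib n a x := coneD_leib θ φ TK TL n a x
  comm n m x := coneD_comm θ φ TK TL hφ n m x

/-- the θ-connection on the mapping cocone. -/
noncomputable def TConn.cocone : TConn θ (mappingCocone φ) :=
  (TConn.cone θ φ TK TL hφ).shift θ (-1)

end cone

section single

variable (M : ModuleCat.{u} A) (DM : M →+ M)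
  (hDM : ∀ (a : A) (x : M), DM (a • x) = θ a • x + a • DM x)

/-- the θ-connection on a module placed in degree zero. -/
noncomputable def TConn.single :
    TConn θ ((HomologicalComplex.single (ModuleCat.{u} A) (ComplexShape.up ℤ) 0).obj M) where
  D n := if h : n = 0 then
      conjA (HomologicalComplex.singleObjXIsoOfEq (ComplexShape.up ℤ) 0 M n h).toLinearEquiv DM
    else 0
  leib n a x := by
    by_cases h : n = 0
    · rw [dif_pos h]
      exact conjA_leib θ _ DM hDM a x
    · have : Subsingleton
          (((HomologicalComplex.single (ModuleCat.{u} A) (ComplexShape.up ℤ) 0).obj M).X n) :=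
        ModuleCat.subsingleton_of_isZero
          (HomologicalComplex.isZero_single_obj_X (ComplexShape.up ℤ) 0 M n h)
      exact Subsingleton.elim _ _
  comm n m x := by
    rw [HomologicalComplex.single_obj_d]
    simp

end single

section loc

variable (S : Submonoid A) {K : DRing.Cx A} (T : TConn θ K)

/-- the θ-connection on the termwise localization. -/
noncomputable def TConn.loc : TConn θ ((DerCA.locCx S).obj K) where
  D n := Dloc θ S (T.D n) (T.leib n)
  leib n a x := Dloc_leib θ S (T.D n) (T.leib n) a x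
  comm n m x := Dloc_map θ S (T.D n) (T.leib n) (T.D m) (T.leib m) (K.d n m).hom (T.comm n m) x

lemma TConn.loc_unit (n : ℤ) (x : K.X n) :
    (TConn.loc θ S T).D n (((DerCA.locCxUnit S K).f n).hom x) =
      ((DerCA.locCxUnit S K).f n).hom (T.D n x) :=
  Dloc_mk θ S (T.D n) (T.leib n) x

end loc

/-- the θ-connection on the extended Čech complex of the ring. -/
noncomputable def tconnCech : (fs : List A) → TConn θ (DerCA.extCech (ModuleCat.of A A) fs)
  | [] => TConn.single θ (ModuleCat.of A A) (θ : A →ₗ[ℤ] A).toAddMonoidHom (by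
      intro a x
      show θ (a • x) = θ a • x + a • θ x
      rw [smul_eq_mul, Derivation.leibniz, smul_eq_mul, smul_eq_mul, smul_eq_mul, mul_comm x, add_comm])
  | f :: fs => TConn.cocone θ (DerCA.locCxUnit (Submonoid.powers f) _) (tconnCech fs)
      (TConn.loc θ (Submonoid.powers f) (tconnCech fs))
      (TConn.loc_unit θ (Submonoid.powers f) (tconnCech fs))

end Groth.Agent.Lib.LCDerH3
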