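import Mathlib
import Groth.Prelude.Def_DerCA
import Groth.Prelude.Def_Wider
import Groth.Agent.Lib.ExtCechFun_helper7
import Groth.Agent.Lib.LCDer2_helper3

/-!
# A derivation of a Noetherian ring acts on its local cohomology (helper3)
-/

set_option autoImplicit false

namespace Groth.Agent.Lib.LCDerH3

universe u

theorem main8939 (A : Type u) [CommRing A] [IsNoetherianRing A] (I : Ideal A)
    (θ : Derivation ℤ A A) (i : ℕ) :
    ∃ D : LocCoh.H I i A →+ LocCoh.H I i A,
      ∀ (a : A) (ξ : LocCoh.H I i A), D (a • ξ) = θ a • ξ + a • D ξ := by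
  classical
  obtain ⟨s, hs⟩ : I.FG := IsNoetherian.noetherian I
  have hI : Ideal.span {x | x ∈ s.toList} = I := by
    rw [← hs]
    congr 1
    ext x
    simp
  subst hI
  obtain ⟨e⟩ := ExtCechH7.mainEquiv s.toList i A
  obtain ⟨D, hD⟩ := (tconnCech θ s.toList).exists_homology θ (i : ℤ)
  exact ⟨conjA e.symm D, conjA_leib θ e.symm D hD⟩

end Groth.Agent.Lib.LCDerH3
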