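import Mathlib

/-!
# Gluing locally constant families of ring elements (helper3)

For a ring `R`, a locally constant function `χ : Spec R → R` glues to the unique element `r` with
`r = χ y` in `R_y` for every prime `y`; this defines a ring homomorphism
`glue : LocallyConstant (Spec R) R →+* R`.
-/

set_option autoImplicit false
set_option linter.all false
set_option maxHeartbeats 1600000

universe u

namespace Groth.Agent.Lib.ProfLocH3

section glue

variable {R : Type u} [CommRing R]

/-- `r` agrees with `χ y` in the local ring at `y`, for all `y`. -/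
def GlueRel (χ : LocallyConstant (PrimeSpectrum R) R) (r : R) : Prop :=
  ∀ y : PrimeSpectrum R, ∃ u : R, u ∉ y.asIdeal ∧ u * (r - χ y) = 0

theorem eq_zero_of_forall_exists_not_mem (r : R)
    (h : ∀ y : PrimeSpectrum R, ∃ u : R, u ∉ y.asIdeal ∧ u * r = 0) : r = 0 := by
  by_contra hr
  let N : Ideal R := LinearMap.ker (LinearMap.toSpanSingleton R R r)
  have hN : N ≠ ⊤ := by
    intro htop
    have h1 : (1 : R) ∈ N := htop ▸ Submodule.mem_top
    have : (1 : R) • r = 0 := h1
    rw [one_smul] at this
    exact hr this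
  obtain ⟨m, hm, hNm⟩ := Ideal.exists_le_maximal N hN
  obtain ⟨u, hu, hur⟩ := h ⟨m, hm.isPrime⟩
  exact hu (hNm (show u • r = 0 from hur))

theorem glueRel_unique {χ : LocallyConstant (PrimeSpectrum R) R} {r r' : R}
    (h : GlueRel χ r) (h' : GlueRel χ r') : r = r' := by
  rw [← sub_eq_zero]
  apply eq_zero_of_forall_exists_not_mem
  intro y
  obtain ⟨u, hu, hur⟩ := h y
  obtain ⟨u', hu', hur'⟩ := h' y
  refine ⟨u * u', fun hmem => (y.2.mem_or_mem hmem).elim hu hu', ?_⟩
  have : u * u' * (r - r') = u' * (u * (r - χ y)) - u * (u' * (r' - χ y)) := by ring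
  rw [this, hur, hur', mul_zero, mul_zero, sub_zero]

theorem glueRel_const (r : R) : GlueRel (LocallyConstant.const _ r) r := fun y =>
  ⟨1, fun h => y.2.ne_top ((Ideal.eq_top_iff_one _).2 h), by
    rw [LocallyConstant.const, LocallyConstant.coe_mk, Function.const_apply, sub_self, mul_zero]⟩

theorem glueRel_add {χ χ' : LocallyConstant (PrimeSpectrum R) R} {r r' : R}
    (h : GlueRel χ r) (h' : GlueRel χ' r') : GlueRel (χ + χ') (r + r') := by
  intro y
  obtain ⟨u, hu, hur⟩ := h y
  obtain ⟨u', hu', hur'⟩ := h' y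
  refine ⟨u * u', fun hmem => (y.2.mem_or_mem hmem).elim hu hu', ?_⟩
  have : u * u' * (r + r' - (χ + χ') y) = u' * (u * (r - χ y)) + u * (u' * (r' - χ' y)) := by
    rw [LocallyConstant.add_apply]; ring
  rw [this, hur, hur', mul_zero, mul_zero, add_zero]

theorem glueRel_mul {χ χ' : LocallyConstant (PrimeSpectrum R) R} {r r' : R}
    (h : GlueRel χ r) (h' : GlueRel χ' r') : GlueRel (χ * χ') (r * r') := by
  intro y
  obtain ⟨u, hu, hur⟩ := h y
  obtain ⟨u', hu', hur'⟩ := h' y
  refine ⟨u * u', fun hmem => (y.2.mem_or_mem hmem).elim hu hu', ?_⟩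
  have : u * u' * (r * r' - (χ * χ') y) =
      u' * r' * (u * (r - χ y)) + u * χ y * (u' * (r' - χ' y)) := by
    rw [LocallyConstant.mul_apply]; ring
  rw [this, hur, hur', mul_zero, mul_zero, add_zero]

theorem glueRel_exists (χ : LocallyConstant (PrimeSpectrum R) R) : ∃ r, GlueRel χ r := by
  classical
  have hcl : ∀ v : R, IsClopen {y | χ y = v} := fun v => χ.isLocallyConstant.isClopen_fiber v
  choose ε hε1 hε2 using fun v => PrimeSpectrum.exists_idempotent_basicOpen_eq_of_isClopen (hcl v)
  have hfin : (Set.range χ).Finite := χ.range_finite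
  refine ⟨∑ v ∈ hfin.toFinset, v * ε v, fun y => ⟨ε (χ y), ?_, ?_⟩⟩
  · have : y ∈ {y' | χ y' = χ y} := rfl
    rw [hε2 (χ y)] at this
    exact this
  · have horth : ∀ v, v ≠ χ y → ε v * ε (χ y) = 0 := by
      intro v hv
      have hid : IsIdempotentElem (ε v * ε (χ y)) := (hε1 v).mul (hε1 (χ y))
      apply PrimeSpectrum.basicOpen_injOn_isIdempotentElem hid IsIdempotentElem.zero
      rw [PrimeSpectrum.basicOpen_mul, PrimeSpectrum.basicOpen_zero]
      apply TopologicalSpace.Opens.ext
      rw [TopologicalSpace.Opens.coe_inf, ← hε2 v, ← hε2 (χ y)]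
      ext z
      simp only [Set.mem_inter_iff, Set.mem_setOf_eq, TopologicalSpace.Opens.coe_bot,
        Set.mem_empty_iff_false, iff_false, not_and]
      intro h1 h2
      exact hv (h1.symm.trans h2)
    rw [mul_sub, Finset.mul_sum, Finset.sum_eq_single (χ y)]
    · have := (hε1 (χ y)).eq
      rw [mul_left_comm, this, mul_comm, sub_self]
    · intro v _ hv
      rw [mul_left_comm, mul_comm (ε (χ y)), horth v hv, mul_zero]
    · intro hnot
      exact absurd (hfin.mem_toFinset.2 ⟨y, rfl⟩) hnot

/-- The glued element. -/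
noncomputable def glueVal (χ : LocallyConstant (PrimeSpectrum R) R) : R :=
  (glueRel_exists χ).choose

theorem glueRel_glueVal (χ : LocallyConstant (PrimeSpectrum R) R) : GlueRel χ (glueVal χ) :=
  (glueRel_exists χ).choose_spec

theorem glueVal_eq {χ : LocallyConstant (PrimeSpectrum R) R} {r : R} (h : GlueRel χ r) :
    glueVal χ = r := glueRel_unique (glueRel_glueVal χ) h

/-- The gluing ring homomorphism. -/
noncomputable def glue : LocallyConstant (PrimeSpectrum R) R →+* R where
  toFun := glueVal
  map_one' := glueVal_eq (glueRel_const 1)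
  map_mul' χ χ' := glueVal_eq (glueRel_mul (glueRel_glueVal χ) (glueRel_glueVal χ'))
  map_zero' := glueVal_eq (glueRel_const 0)
  map_add' χ χ' := glueVal_eq (glueRel_add (glueRel_glueVal χ) (glueRel_glueVal χ'))

theorem glue_spec (χ : LocallyConstant (PrimeSpectrum R) R) (y : PrimeSpectrum R) :
    ∃ u : R, u ∉ y.asIdeal ∧ u * (glue χ - χ y) = 0 := glueRel_glueVal χ y

theorem glue_const (r : R) : glue (LocallyConstant.const _ r) = r := glueVal_eq (glueRel_const r)

theorem glue_sub_mem (χ : LocallyConstant (PrimeSpectrum R) R) (y : PrimeSpectrum R) :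
    glue χ - χ y ∈ y.asIdeal := by
  obtain ⟨u, hu, h⟩ := glue_spec χ y
  have : u * (glue χ - χ y) ∈ y.asIdeal := h ▸ y.asIdeal.zero_mem
  exact (y.2.mem_or_mem this).resolve_left hu

theorem glue_mem_iff (χ : LocallyConstant (PrimeSpectrum R) R) (y : PrimeSpectrum R) :
    glue χ ∈ y.asIdeal ↔ χ y ∈ y.asIdeal := by
  have h := glue_sub_mem χ y
  constructor
  · intro h1
    have := y.asIdeal.sub_mem h1 h
    rwa [sub_sub_cancel] at this
  · intro h1
    have := y.asIdeal.add_mem h h1
    rwa [sub_add_cancel] at this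

theorem isUnit_glue (χ : LocallyConstant (PrimeSpectrum R) R)
    (h : ∀ y : PrimeSpectrum R, χ y ∉ y.asIdeal) : IsUnit (glue χ) := by
  by_contra hu
  obtain ⟨m, hm, hmem⟩ := exists_max_ideal_of_mem_nonunits hu
  exact h ⟨m, hm.isPrime⟩ ((glue_mem_iff χ ⟨m, hm.isPrime⟩).1 hmem)

end glue

section pull

variable {A : Type u} [CommRing A] {R : Type u} [CommRing R] [Algebra A R]
  {T : Type u} [TopologicalSpace T] (h : C(PrimeSpectrum R, T))

/-- Pull back a locally constant function along `h : Spec R → T` and push along `A → R`,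
then glue. -/
noncomputable def glueAlong : LocallyConstant T A →+* R :=
  glue.comp ((LocallyConstant.comapRingHom h).comp (LocallyConstant.mapRingHom (algebraMap A R)))

theorem glueAlong_spec (φ : LocallyConstant T A) (y : PrimeSpectrum R) :
    ∃ u : R, u ∉ y.asIdeal ∧ u * (glueAlong h φ - algebraMap A R (φ (h y))) = 0 :=
  glue_spec _ y

theorem glueAlong_const (a : A) :
    glueAlong h (LocallyConstant.const T a) = algebraMap A R a := by
  have : (LocallyConstant.comapRingHom h).comp (LocallyConstant.mapRingHom (algebraMap A R))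
      (LocallyConstant.const T a) = LocallyConstant.const _ (algebraMap A R a) := by
    ext y
    rfl
  show glue _ = _
  rw [this, glue_const]

theorem glueAlong_mem_iff (φ : LocallyConstant T A) (y : PrimeSpectrum R) :
    glueAlong h φ ∈ y.asIdeal ↔ algebraMap A R (φ (h y)) ∈ y.asIdeal :=
  glue_mem_iff _ y

theorem isUnit_glueAlong (φ : LocallyConstant T A)
    (hφ : ∀ y : PrimeSpectrum R, algebraMap A R (φ (h y)) ∉ y.asIdeal) :
    IsUnit (glueAlong h φ) :=
  isUnit_glue _ hφ

theorem glueAlong_eq_zero_iff (φ : LocallyConstant T A) :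
    glueAlong h φ = 0 ↔
      ∀ y : PrimeSpectrum R, ∃ u : R, u ∉ y.asIdeal ∧ u * algebraMap A R (φ (h y)) = 0 := by
  constructor
  · intro h0 y
    obtain ⟨u, hu, hh⟩ := glueAlong_spec h φ y
    rw [h0, zero_sub, mul_neg, neg_eq_zero] at hh
    exact ⟨u, hu, hh⟩
  · intro H
    apply eq_zero_of_forall_exists_not_mem
    intro y
    obtain ⟨u, hu, hh⟩ := glueAlong_spec h φ y
    obtain ⟨u', hu', hh'⟩ := H y
    refine ⟨u * u', fun hmem => (y.2.mem_or_mem hmem).elim hu hu', ?_⟩
    have : u * u' * glueAlong h φ =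
        u' * (u * (glueAlong h φ - algebraMap A R (φ (h y)))) +
          u * (u' * algebraMap A R (φ (h y))) := by ring
    rw [this, hh, hh', mul_zero, mul_zero, add_zero]

end pull

end Groth.Agent.Lib.ProfLocH3
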