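import Mathlib
import Groth.Prelude
import Groth.Agent.Lib.LCMod2_helper2

/-!
# Local cohomology sheaves of a quasi-coherent module for a locally closed subset with
quasi-compact open immersions are quasi-coherent (helper2)
-/

set_option autoImplicit false
universe u
open CategoryTheory CategoryTheory.Limits AlgebraicGeometry Opposite TopologicalSpace

namespace Groth.Agent.Lib.LCMod

open Groth.Agent.Lib.Cech Groth.Agent.Lib.RestrOpen

set_option backward.isDefEq.respectTransparency.types false in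
lemma mono_ι {X : TopCat.{u}} (U : Opens X) (A : CohTop.Ab X) : Mono (SectSupp.ι U A) :=
  inferInstanceAs (Mono (kernel.ι _))

section Compare

variable {Y : Scheme.{u}} (V₁ : Y.Opens) (W : (V₁ : Scheme.{u}).Opens)
variable (F : Y.Modules) (U : Opens Y.carrier)

/-- the preimage of `U` in the subspace `V₁` -/
abbrev preU : Opens (subT (X := Y.carrier) V₁) := (Opens.map (CohCx.incl V₁)).obj U

/-- the open `U ∩ W`, topological version -/
noncomputable abbrev O₂ : Opens Y.carrier := jj V₁ (preU V₁ U ⊓ Wt V₁ W)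

lemma O₂_le : O₂ V₁ W U ≤ jj V₁ (preU V₁ U) := jj_mono V₁ inf_le_left

lemma O₁_le_O₂ : O₁ V₁ W U ≤ O₂ V₁ W U := by
  rintro _ ⟨v, ⟨w, hw, rfl⟩, rfl⟩
  exact ⟨W.ι.base w, ⟨hw, w.2⟩, rfl⟩

lemma O₂_le_O₁ : O₂ V₁ W U ≤ O₁ V₁ W U := by
  rintro _ ⟨y, ⟨hyU, hyW⟩, rfl⟩
  exact ⟨y, ⟨⟨y, hyW⟩, hyU, rfl⟩, rfl⟩

/-- sections of `Γ_Z` on the abelian side: those restricting to zero on `U ∩ W` -/
lemma range_μ₂ (s : ((Pf V₁).obj F).obj.obj (op U)) :
    (∃ a, (((μ₂ V₁ W).app F).hom.app (op U)).hom a = s) ↔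
      res ((TY Y).obj F).obj (O₂_le V₁ W U) s = 0 := by
  constructor
  · rintro ⟨a, rfl⟩
    exact SectSupp.res_ι (Wt V₁ W) ((CohTop.restrFunctor V₁).obj ((TY Y).obj F)) (preU V₁ U) a
  · intro h
    exact SectSupp.exists_ι_eq (Wt V₁ W) ((CohTop.restrFunctor V₁).obj ((TY Y).obj F))
      (preU V₁ U) s h

/-- sections of `Γ_Z` on the module side: those killed by `G₂ F ⟶ G₃ F` -/
lemma range_μ₁ (s : ((TY Y).obj ((G₂ V₁).obj F)).obj.obj (op U)) :
    (∃ a, (((TY Y).map ((α V₁ W).app F)).hom.app (op U)).hom a = s) ↔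
      (((TY Y).map ((β V₁ W).app F)).hom.app (op U)).hom s = 0 := by
  have hk := KernelFork.mapIsLimit _
    (kernelIsKernel ((Scheme.Modules.restrictAdjunction W.ι).unit.app ((Res₁ V₁).obj F)))
    (Push₁ V₁ ⋙ TY Y)
  let S : ShortComplex (CohTop.Ab Y.carrier) :=
    ShortComplex.mk ((TY Y).map ((α V₁ W).app F)) ((TY Y).map ((β V₁ W).app F)) (by
      rw [← Functor.map_comp, ← NatTrans.comp_app, αβ]
      exact Functor.map_zero _ _ _)
  have hS : S.Exact := ShortComplex.exact_of_f_is_kernel S hk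
  have hm : Mono S.f := mono_of_isLimit_fork hk
  constructor
  · rintro ⟨a, rfl⟩
    exact app_comp_zero S U a
  · intro h
    exact TopCat.Sheaf.sections_exact_of_left_exact hS hm s h

lemma μ₁_app : (μ₁ V₁ W).app F = (TY Y).map ((α V₁ W).app F) := Category.comp_id _

set_option maxHeartbeats 4000000 in
/-- the two subsheaves of `(j₁)_* (F|_{V₁})` have the same sections -/
lemma same_range (s : ((Pf V₁).obj F).obj.obj (op U)) :
    (∃ a, (((μ₁ V₁ W).app F).hom.app (op U)).hom a = s) ↔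
      (∃ a, (((μ₂ V₁ W).app F).hom.app (op U)).hom a = s) := by
  rw [range_μ₂, μ₁_app]
  refine (range_μ₁ V₁ W F U s).trans ?_
  exact Iff.trans (iff_of_eq (congrArg (· = 0) (β_sections V₁ W F U s)))
    (res_eq_zero_iff ((TY Y).obj F).obj (O₁_le V₁ W U) (O₂_le V₁ W U) (O₁_le_O₂ V₁ W U)
      (O₂_le_O₁ V₁ W U) s)

/-- **The underlying abelian sheaf of `(j₁)_* Γ_Z(F|_{V₁})` is `Γ_Z` of the underlying abelian
sheaf, naturally in `F`.** -/
theorem nonempty_iso_G₁_Rr : Nonempty (G₁ V₁ W ⋙ TY Y ≅ Rr V₁ W) := by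
  haveI : ∀ F, Mono ((μ₂ V₁ W).app F) := fun F => by
    show Mono ((CohTop.push (CohCx.incl V₁)).map
      (SectSupp.ι (Wt V₁ W) ((CohTop.restrFunctor V₁).obj ((TY Y).obj F))))
    haveI : (CohTop.push (CohCx.incl (X := Y.carrier) V₁)).PreservesMonomorphisms :=
      inferInstance
    haveI : Mono (SectSupp.ι (Wt V₁ W) ((CohTop.restrFunctor V₁).obj ((TY Y).obj F))) :=
      mono_ι (Wt V₁ W) _
    exact (CohTop.push (CohCx.incl (X := Y.carrier) V₁)).map_mono _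
  refine nonempty_natIso_of_mono (μ₁ V₁ W) (μ₂ V₁ W) (fun F => ?_)
  haveI : Mono ((μ₁ V₁ W).app F) := by
    rw [μ₁_app]
    exact mono_of_isLimit_fork (KernelFork.mapIsLimit _
      (kernelIsKernel ((Scheme.Modules.restrictAdjunction W.ι).unit.app ((Res₁ V₁).obj F)))
      (Push₁ V₁ ⋙ TY Y))
  exact exists_iso_of_range _ _ (fun U s => same_range V₁ W F U s)

end Compare

section Main

attribute [local instance] HasDerivedCategory.standard

variable {Y : Scheme.{u}}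

lemma quasiCompact_comp_ι {V₂ V₁ : Y.Opens} (h : V₂ ≤ V₁) [QuasiCompact V₂.ι] :
    QuasiCompact ((V₁.ι ⁻¹ᵁ V₂).ι ≫ V₁.ι) := by
  have e : Set.range ((V₁.ι ⁻¹ᵁ V₂).ι ≫ V₁.ι) = Set.range V₂.ι := by
    ext x
    constructor
    · rintro ⟨w, rfl⟩
      rw [Scheme.Opens.range_ι]
      exact w.2
    · rintro ⟨v, rfl⟩
      exact ⟨⟨⟨v.1, h v.2⟩, v.2⟩, rfl⟩
  rw [← IsOpenImmersion.isoOfRangeEq_hom_fac _ _ e]
  infer_instance

/-- **Quasi-coherence of the local cohomology sheaves for a locally closed subset `V₁ ∖ V₂` with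
`V₁`, `V₂` retrocompact opens.** -/
theorem main {V₂ V₁ : Y.Opens} (h : V₂ ≤ V₁) [QuasiCompact V₁.ι] [QuasiCompact V₂.ι]
    (F : Y.Modules) [F.IsQuasicoherent] (n : ℕ) :
    ∃ M : Y.Modules, M.IsQuasicoherent ∧
      Nonempty ((TY Y).obj M ≅
        (SuppFam.HZshLC (X := Y.carrier) h n).obj ((TY Y).obj F)) := by
  haveI := RpushQC.enoughInjectives_modules Y
  haveI := RpushQC.enoughInjectives_modules (V₁ : Scheme.{u})
  haveI := RpushQC.enoughInjectives_modules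
    ((V₁.ι ⁻¹ᵁ V₂ : (V₁ : Scheme.{u}).Opens) : Scheme.{u})
  haveI := quasiCompact_comp_ι h
  refine ⟨((G₁ V₁ (V₁.ι ⁻¹ᵁ V₂)).rightDerived n).obj F, qc_R_G₁ V₁ (V₁.ι ⁻¹ᵁ V₂) F n, ?_⟩
  obtain ⟨e₀⟩ := nonempty_iso_G₁_Rr V₁ (V₁.ι ⁻¹ᵁ V₂)
  let e : G₁ V₁ (V₁.ι ⁻¹ᵁ V₂) ⋙ TY Y ≅ TY Y ⋙ SuppFam.sectSuppLC (X := Y.carrier) h := e₀
  haveI := Groth.Agent.Lib.ModSiteH8.toSheaf_preservesColimitsOfSize Y.ringCatSheaf
  haveI : PreservesFiniteColimits (TY Y) := ⟨fun _ _ _ => inferInstance⟩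
  obtain ⟨e₃⟩ := Bridge.comp_acyclic (TY Y) (SuppFam.sectSuppLC (X := Y.carrier) h)
    (fun I hI => by
      haveI := @ModFlasque.isFlasque_toSheaf_of_injective Y.carrier Y.ringCatSheaf I hI
      exact fun i hi => isZero_HZshLC_of_isFlasque _ h i hi)
    F (ModFree.acyclic_of_exact _ F) n
  exact ⟨(ModFree.rightDerivedCompExactIso (G₁ V₁ (V₁.ι ⁻¹ᵁ V₂)) (TY Y) F n).symm ≪≫
    (ExtDer.rightDerivedIso e n).app F ≪≫ e₃.symm⟩

end Main

end Groth.Agent.Lib.LCMod
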