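import Mathlib

namespace Groth.Agent.Lib.LCPoint

open Topology TopologicalSpace Set

universe u

theorem lc_image_of_open {Y : Type*} [TopologicalSpace Y] (U : Set Y) (hU : IsOpen U) (x : ↥U)
    (h : IsLocallyClosed ({x} : Set ↥U)) : IsLocallyClosed ({(x : Y)} : Set Y) := by
  obtain ⟨O, C, hO, hC, heq⟩ := h
  obtain ⟨O', hO', rfl⟩ := isOpen_induced_iff.mp hO
  obtain ⟨C', hC', rfl⟩ := isClosed_induced_iff.mp hC
  refine ⟨U ∩ O', C', hU.inter hO', hC', ?_⟩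
  ext y
  constructor
  · intro hy
    rw [Set.mem_singleton_iff] at hy
    subst hy
    have hx : x ∈ ({x} : Set ↥U) := rfl
    rw [heq] at hx
    exact ⟨⟨x.2, hx.1⟩, hx.2⟩
  · rintro ⟨⟨hyU, hyO⟩, hyC⟩
    have h1 : (⟨y, hyU⟩ : ↥U) ∈ ({x} : Set ↥U) := by
      rw [heq]; exact ⟨hyO, hyC⟩
    rw [Set.mem_singleton_iff] at h1
    rw [Set.mem_singleton_iff, ← h1]

theorem exists_lc_point {Y : Type*} [TopologicalSpace Y] [T0Space Y] [PrespectralSpace Y]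
    (s : Set Y) (hs : IsConstructible s) :
    s.Nonempty → ∃ x ∈ s, IsLocallyClosed ({x} : Set Y) := by
  induction s, hs using BooleanSubalgebra.closure_sdiff_sup_induction with
  | isSublattice =>
    exact ⟨fun s hs t ht ↦ ⟨hs.1.union ht.1, hs.2.union ht.2⟩,
      fun s hs t ht ↦ ⟨hs.1.inter ht.1, hs.2.inter_isOpen ht.2 ht.1⟩⟩
  | bot_mem => exact ⟨isOpen_empty, .empty⟩
  | top_mem => exact ⟨isOpen_univ, .univ⟩
  | sdiff V hV W hW =>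
    rintro ⟨y, hyV, hyW⟩
    obtain ⟨K, ⟨hKo, hKc⟩, hyK, -⟩ :=
      (PrespectralSpace.isTopologicalBasis (X := Y)).mem_nhds_iff.mp
        (Filter.univ_mem : (Set.univ : Set Y) ∈ 𝓝 y)
    have hZo : IsOpen (V ∩ K) := hV.1.inter hKo
    have hZc : IsCompact (V ∩ K) := hV.2 hKc hKo
    haveI : CompactSpace ↥(V ∩ K) := isCompact_iff_compactSpace.mp hZc
    have hScl : IsClosed ((Subtype.val : ↥(V ∩ K) → Y) ⁻¹' Wᶜ) :=
      (hW.1.isClosed_compl).preimage continuous_subtype_val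
    have hSne : ((Subtype.val : ↥(V ∩ K) → Y) ⁻¹' Wᶜ).Nonempty := ⟨⟨y, hyV, hyK⟩, hyW⟩
    obtain ⟨x, hxS, hxcl⟩ := hScl.exists_closed_singleton hSne
    exact ⟨x.1, ⟨x.2.1, hxS⟩, lc_image_of_open _ hZo x hxcl.isLocallyClosed⟩
  | sup s _ t _ hs' ht' =>
    rintro ⟨y, hy | hy⟩
    · obtain ⟨x, hx, hlc⟩ := hs' ⟨y, hy⟩
      exact ⟨x, Or.inl hx, hlc⟩
    · obtain ⟨x, hx, hlc⟩ := ht' ⟨y, hy⟩
      exact ⟨x, Or.inr hx, hlc⟩

open AlgebraicGeometry in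
theorem main (X : Scheme.{u}) (E : Set X)
    (hE : Topology.IsLocallyConstructible E) (hne : E.Nonempty) :
    ∃ x ∈ E, IsLocallyClosed ({x} : Set X) := by
  obtain ⟨x₀, hx₀⟩ := hne
  obtain ⟨U, hU, hUo, hUc⟩ := hE x₀
  haveI : PrespectralSpace ↥U := hUo.isOpenEmbedding_subtypeVal.prespectralSpace
  have hne' : ((Subtype.val : ↥U → X) ⁻¹' E).Nonempty := ⟨⟨x₀, mem_of_mem_nhds hU⟩, hx₀⟩
  obtain ⟨x, hxE, hlc⟩ := exists_lc_point _ hUc hne'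
  exact ⟨x.1, hxE, lc_image_of_open U hUo x hlc⟩

end Groth.Agent.Lib.LCPoint
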