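import Mathlib
import Groth.Agent.Lib.RlimCech5_helper1
import Groth.Agent.Lib.ExtCechFun_helper7
import Groth.Agent.Lib.InvComplete_helper3

/-!
# `H^0` of the limit of the tower of extended Čech complexes of `M/I^n M` (helper1)

* `Z0`, `cyc`, `toH`: degree-`0` cycles of a complex of modules and their classes;
* `eps0`: the degree-`0` part of `epsC : extCech N gs ⟶ N[0]`, its injectivity on cycles and its
  image (the `gs`-power torsion);
* `psi`: for `M` `I`-adically complete, the chain map `lim_n extCech (M/I^n M) gs ⟶ M[0]`,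
  with `cMap ≫ psi = epsC`;
* `psi0_ker`, `psi0_tors`, `exists_psi0_eq`: the kernel and the image of `psi` on degree `0` cycles.
-/

set_option autoImplicit false
universe u
open CategoryTheory CategoryTheory.Limits CategoryTheory.Pretriangulated DerivedCategory

attribute [local instance] HasDerivedCategory.standard

namespace Groth.Agent.Lib.RlimCechH1

open Groth.Agent.Lib.ExtCechH7 Groth.Agent.Lib.DerCompl Groth.Agent.Lib.LocFib

variable {A : Type u} [CommRing A]

/-! ### Degree `0` cycles -/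

section H0Cyc

/-- cycles in degree `0` as a submodule -/
abbrev Z0 (K : DRing.Cx A) : Submodule A (K.X 0) := LinearMap.ker (K.d 0 1).hom

/-- the comparison from the concrete cycles -/
noncomputable def cyc (K : DRing.Cx A) : ModuleCat.of A (Z0 K) ⟶ K.cycles 0 :=
  K.liftCycles (ModuleCat.ofHom (Z0 K).subtype) 1 (by simp) (by
    refine ModuleCat.hom_ext (LinearMap.ext fun z => ?_)
    exact z.2)

lemma cyc_i (K : DRing.Cx A) : cyc K ≫ K.iCycles 0 = ModuleCat.ofHom (Z0 K).subtype :=
  K.liftCycles_i _ _ _ _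

lemma iCycles_cyc (K : DRing.Cx A) (w : Z0 K) : (K.iCycles 0).hom ((cyc K).hom w) = w.1 :=
  congrArg (fun g => g.hom w) (cyc_i K)

lemma cyc_surjective (K : DRing.Cx A) : Function.Surjective (cyc K).hom := by
  intro c
  have hz : (K.d 0 1).hom ((K.iCycles 0).hom c) = 0 :=
    congrArg (fun g => g.hom c) (K.iCycles_d 0 1)
  refine ⟨⟨(K.iCycles 0).hom c, hz⟩, ?_⟩
  have hinj : Function.Injective (K.iCycles 0).hom :=
    (ModuleCat.mono_iff_injective _).1 inferInstance
  apply hinj
  exact iCycles_cyc K _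

/-- the class of a cycle -/
noncomputable def toH (K : DRing.Cx A) : Z0 K →ₗ[A] K.homology 0 :=
  (cyc K ≫ K.homologyπ 0).hom

lemma toH_apply (K : DRing.Cx A) (z : Z0 K) :
    toH K z = (K.homologyπ 0).hom ((cyc K).hom z) := rfl

lemma toH_surjective (K : DRing.Cx A) : Function.Surjective (toH K) := by
  have h2 : Function.Surjective (K.homologyπ 0).hom :=
    (ModuleCat.epi_iff_surjective _).1 inferInstance
  intro y
  obtain ⟨c, rfl⟩ := h2 y
  obtain ⟨z, rfl⟩ := cyc_surjective K c
  exact ⟨z, rfl⟩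

lemma toH_injective (K : DRing.Cx A) (hK : IsZero (K.X (-1))) : Function.Injective (toH K) := by
  haveI : IsIso (K.homologyπ 0) := K.isIso_homologyπ (-1) 0 (by simp) (hK.eq_of_src _ _)
  have h1 : Function.Injective (K.homologyπ 0).hom :=
    (ModuleCat.mono_iff_injective _).1 inferInstance
  have h2 : Function.Injective (cyc K).hom := by
    intro z z' h
    have h3 := congrArg (K.iCycles 0).hom h
    rw [iCycles_cyc, iCycles_cyc] at h3
    exact Subtype.ext h3
  intro z z' h
  exact h2 (h1 h)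

lemma homologyMap_toH {K L : DRing.Cx A} (φ : K ⟶ L) (z : Z0 K)
    (hz : (L.d 0 1).hom ((φ.f 0).hom z.1) = 0) :
    (HomologicalComplex.homologyMap φ 0).hom (toH K z) = toH L ⟨(φ.f 0).hom z.1, hz⟩ := by
  have hinj : Function.Injective (L.iCycles 0).hom :=
    (ModuleCat.mono_iff_injective _).1 inferInstance
  have h1 : (HomologicalComplex.cyclesMap φ 0).hom ((cyc K).hom z) =
      (cyc L).hom ⟨(φ.f 0).hom z.1, hz⟩ := by
    apply hinj
    rw [iCycles_cyc]
    have h2 := congrArg (fun g => g.hom ((cyc K).hom z)) (HomologicalComplex.cyclesMap_i φ 0)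
    exact h2.trans (congrArg (φ.f 0).hom (iCycles_cyc K z))
  have h3 := congrArg (fun g => g.hom ((cyc K).hom z))
    (HomologicalComplex.homologyπ_naturality φ 0)
  exact h3.trans (congrArg (L.homologyπ 0).hom h1)

lemma selfIso_toH (N : ModuleCat.{u} A)
    (z : Z0 ((HomologicalComplex.single (ModuleCat.{u} A) (ComplexShape.up ℤ) 0).obj N)) :
    (HomologicalComplex.singleObjHomologySelfIso (ComplexShape.up ℤ) 0 N).hom.hom (toH _ z) =
      (HomologicalComplex.singleObjXSelf (ComplexShape.up ℤ) 0 N).hom.hom z.1 := by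
  have h1 := HomologicalComplex.homologyπ_singleObjHomologySelfIso_hom (ComplexShape.up ℤ) 0 N
  rw [HomologicalComplex.singleObjCyclesSelfIso_hom] at h1
  have h2 := congrArg (fun g => g.hom ((cyc _).hom z)) h1
  exact h2.trans (congrArg (HomologicalComplex.singleObjXSelf (ComplexShape.up ℤ) 0 N).hom.hom
    (iCycles_cyc _ z))

end H0Cyc

/-! ### The degree `0` part of `epsC` -/

section Eps0

/-- the degree-`0` component of `epsC` -/
noncomputable def eps0 (N : ModuleCat.{u} A) (gs : List A) :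
    (DerCA.extCech N gs).X 0 →ₗ[A] N :=
  ((epsC N gs).f 0 ≫ (HomologicalComplex.singleObjXSelf (ComplexShape.up ℤ) 0 N).hom).hom

lemma eps0_naturality {N N' : ModuleCat.{u} A} (g : N ⟶ N') (gs : List A)
    (z : (DerCA.extCech N gs).X 0) :
    eps0 N' gs (((extCechMap g gs).f 0).hom z) = g.hom (eps0 N gs z) := by
  have h3 : ((HomologicalComplex.single (ModuleCat.{u} A) (ComplexShape.up ℤ) 0).map g).f 0 ≫
      (HomologicalComplex.singleObjXSelf (ComplexShape.up ℤ) 0 N').hom =
      (HomologicalComplex.singleObjXSelf (ComplexShape.up ℤ) 0 N).hom ≫ g := by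
    rw [HomologicalComplex.single_map_f_self, Category.assoc, Category.assoc, Iso.inv_hom_id,
      Category.comp_id]
  have h2 : (extCechMap g gs).f 0 ≫ (epsC N' gs).f 0 ≫
      (HomologicalComplex.singleObjXSelf (ComplexShape.up ℤ) 0 N').hom =
      (epsC N gs).f 0 ≫ (HomologicalComplex.singleObjXSelf (ComplexShape.up ℤ) 0 N).hom ≫ g := by
    rw [← Category.assoc, ← HomologicalComplex.comp_f, extCechMap_epsC,
      HomologicalComplex.comp_f, Category.assoc, h3]
  exact congrArg (fun t => t.hom z) h2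

lemma ιH_eq (N : ModuleCat.{u} A) : ∀ gs : List A,
    ιH gs N = (HomologicalComplex.homologyMap (epsC N gs) 0 ≫
      (HomologicalComplex.singleObjHomologySelfIso (ComplexShape.up ℤ) 0 N).hom).hom
  | [] => by
    show (HomologicalComplex.singleObjHomologySelfIso (ComplexShape.up ℤ) 0 N).hom.hom =
      (HomologicalComplex.homologyMap
        (𝟙 ((HomologicalComplex.single (ModuleCat.{u} A) (ComplexShape.up ℤ) 0).obj N)) 0 ≫
        (HomologicalComplex.singleObjHomologySelfIso (ComplexShape.up ℤ) 0 N).hom).hom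
    rw [HomologicalComplex.homologyMap_id, Category.id_comp]
  | f :: gs => by
    show (ιH gs N).comp (fstH (DerCA.locCxUnit (Submonoid.powers f) (DerCA.extCech N gs)) 0) =
      (HomologicalComplex.homologyMap (CochainComplex.mappingCocone.fst
        (DerCA.locCxUnit (Submonoid.powers f) (DerCA.extCech N gs)) ≫ epsC N gs) 0 ≫
        (HomologicalComplex.singleObjHomologySelfIso (ComplexShape.up ℤ) 0 N).hom).hom
    rw [ιH_eq N gs, HomologicalComplex.homologyMap_comp, Category.assoc]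
    rfl

lemma ιH_toH (N : ModuleCat.{u} A) (gs : List A) (z : Z0 (DerCA.extCech N gs)) :
    ιH gs N (toH _ z) = eps0 N gs z.1 := by
  rw [ιH_eq]
  have hz : (((HomologicalComplex.single (ModuleCat.{u} A) (ComplexShape.up ℤ) 0).obj N).d 0 1).hom
      (((epsC N gs).f 0).hom z.1) = 0 := by
    rw [HomologicalComplex.single_obj_d]
    rfl
  show (HomologicalComplex.singleObjHomologySelfIso (ComplexShape.up ℤ) 0 N).hom.hom
    ((HomologicalComplex.homologyMap (epsC N gs) 0).hom (toH _ z)) = _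
  rw [homologyMap_toH (epsC N gs) z hz, selfIso_toH]
  rfl

lemma isZero_extCech_neg (N : ModuleCat.{u} A) (gs : List A) :
    IsZero ((DerCA.extCech N gs).X (-1)) :=
  Groth.Agent.Lib.ExtCechOldH7.isZero_X N gs (-1) (Or.inl (by norm_num))

lemma eps0_ker (N : ModuleCat.{u} A) (gs : List A) (z : Z0 (DerCA.extCech N gs))
    (h : eps0 N gs z.1 = 0) : z = 0 := by
  have h1 : ιH gs N (toH _ z) = 0 := (ιH_toH N gs z).trans h
  have h2 : toH _ z = 0 := (H0_all' gs N).2.1 (h1.trans (map_zero _).symm)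
  exact toH_injective _ (isZero_extCech_neg N gs) (h2.trans (map_zero _).symm)

lemma eps0_tors (N : ModuleCat.{u} A) (gs : List A) (z : Z0 (DerCA.extCech N gs)) :
    ∀ g ∈ gs, ∃ k : ℕ, g ^ k • eps0 N gs z.1 = 0 := by
  rw [← ιH_toH]
  exact ((H0_all' gs N).2.2 _).1 ⟨_, rfl⟩

lemma exists_eps0_eq (N : ModuleCat.{u} A) (gs : List A) (m : N)
    (hm : ∀ g ∈ gs, ∃ k : ℕ, g ^ k • m = 0) :
    ∃ z : Z0 (DerCA.extCech N gs), eps0 N gs z.1 = m := by
  obtain ⟨y, hy⟩ := ((H0_all' gs N).2.2 m).2 hm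
  obtain ⟨z, rfl⟩ := toH_surjective _ y
  exact ⟨z, (ιH_toH N gs z).symm.trans hy⟩

end Eps0

/-! ### The map `lim_n extCech (M/I^n M) ⟶ M[0]` -/

section Psi

variable (I : Ideal A) (gs : List A) (M : Type u) [AddCommGroup M] [Module A M]

/-- compatible sequences in `∏ M/I^n M` -/
def cSub : Submodule A (∀ n, Nn I M n) where
  carrier := {x | ∀ n, (qn I M n).hom (x (n + 1)) = x n}
  add_mem' := by
    intro x y hx hy n
    show (qn I M n).hom (x (n + 1) + y (n + 1)) = x n + y n
    rw [map_add, hx n, hy n]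
  zero_mem' := fun n => map_zero _
  smul_mem' := by
    intro c x hx n
    show (qn I M n).hom (c • x (n + 1)) = c • x n
    rw [map_smul, hx n]

theorem exists_PsiM [IsAdicComplete I M] :
    ∃ Ψ : M ≃ₗ[A] cSub I M, ∀ (m : M) (n : ℕ), (Ψ m).1 n = (πn I M n).hom m := by
  obtain ⟨Ψ, hΨ⟩ := exists_equiv_adicCompletion I M (fun n => Nn I M n)
    (fun n => (qn I M n).hom) (fun n => (πn I M n).hom) (πn_surjective I M)
    (fun n => Submodule.ker_mkQ _) (fun n x => rfl) (cSub I M) (fun x => Iff.rfl)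
  let e : M ≃ₗ[A] AdicCompletion I M :=
    LinearEquiv.ofBijective (AdicCompletion.of I M) (AdicCompletion.of_bijective I M)
  exact ⟨e.trans Ψ, fun m n => hΨ m n⟩

/-- `M ≃ lim_n M/I^n M` -/
noncomputable def PsiM [IsAdicComplete I M] : M ≃ₗ[A] cSub I M := (exists_PsiM I M).choose

lemma PsiM_apply [IsAdicComplete I M] (m : M) (n : ℕ) :
    (PsiM I M m).1 n = (πn I M n).hom m := (exists_PsiM I M).choose_spec m n

lemma eq_of_πn_eq [IsAdicComplete I M] (m m' : M)
    (h : ∀ n, (πn I M n).hom m = (πn I M n).hom m') : m = m' := by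
  apply (PsiM I M).injective
  apply Subtype.ext
  funext n
  rw [PsiM_apply, PsiM_apply]
  exact h n

/-- the compatible sequence of `eps0`'s -/
noncomputable def epsLim : limSub (Xn I gs M) (τn I gs M) 0 →ₗ[A] cSub I M where
  toFun x := ⟨fun n => eps0 (Nn I M n) gs (x.1 n), fun n =>
    (eps0_naturality (qn I M n) gs (x.1 (n + 1))).symm.trans
      (congrArg (eps0 (Nn I M n) gs) (x.2 n))⟩
  map_add' _ _ := Subtype.ext (funext fun _ => map_add _ _ _)
  map_smul' _ _ := Subtype.ext (funext fun _ => map_smul _ _ _)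

lemma epsLim_apply (x : limSub (Xn I gs M) (τn I gs M) 0) (n : ℕ) :
    (epsLim I gs M x).1 n = eps0 (Nn I M n) gs (x.1 n) := rfl

/-- the degree-`0` part of `psi` -/
noncomputable def psi0 [IsAdicComplete I M] : limSub (Xn I gs M) (τn I gs M) 0 →ₗ[A] M :=
  (PsiM I M).symm.toLinearMap ∘ₗ epsLim I gs M

lemma πn_psi0 [IsAdicComplete I M] (x : limSub (Xn I gs M) (τn I gs M) 0) (n : ℕ) :
    (πn I M n).hom (psi0 I gs M x) = eps0 (Nn I M n) gs (x.1 n) := by
  rw [← PsiM_apply]
  show ((PsiM I M) ((PsiM I M).symm (epsLim I gs M x))).1 n = _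
  rw [LinearEquiv.apply_symm_apply]
  rfl

/-- `psi0` as a morphism of `ModuleCat` -/
noncomputable def psi0m [IsAdicComplete I M] :
    (limCx (Xn I gs M) (τn I gs M)).X 0 ⟶ ModuleCat.of A M :=
  ModuleCat.ofHom (psi0 I gs M)

lemma psi0m_apply [IsAdicComplete I M] (x : limSub (Xn I gs M) (τn I gs M) 0) :
    (psi0m I gs M).hom x = psi0 I gs M x := rfl

/-- the chain map `lim_n extCech (M/I^n M) gs ⟶ M[0]` -/
noncomputable def psi [IsAdicComplete I M] : limCx (Xn I gs M) (τn I gs M) ⟶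
    (HomologicalComplex.single (ModuleCat.{u} A) (ComplexShape.up ℤ) 0).obj (ModuleCat.of A M) :=
  HomologicalComplex.mkHomToSingle (psi0m I gs M) (fun i hi => by
    have hi' : i = -1 := by
      simp at hi
      omega
    subst hi'
    exact (isZero_limCx_X _ _ (-1) (fun n => isZero_extCech_neg _ gs)).eq_of_src _ _)

lemma psi_f0 [IsAdicComplete I M] : (psi I gs M).f 0 =
    psi0m I gs M ≫
      (HomologicalComplex.singleObjXSelf (ComplexShape.up ℤ) 0 (ModuleCat.of A M)).inv :=
  HomologicalComplex.mkHomToSingle_f _ _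

theorem cMap_psi [IsAdicComplete I M] :
    cMap I gs M ≫ psi I gs M = epsC (ModuleCat.of A M) gs := by
  apply HomologicalComplex.to_single_hom_ext
  rw [HomologicalComplex.comp_f, psi_f0]
  have key : (cMap I gs M).f 0 ≫ psi0m I gs M =
      (epsC (ModuleCat.of A M) gs).f 0 ≫
        (HomologicalComplex.singleObjXSelf (ComplexShape.up ℤ) 0 (ModuleCat.of A M)).hom := by
    refine ModuleCat.hom_ext (LinearMap.ext fun z => ?_)
    apply eq_of_πn_eq I M
    intro n
    show (πn I M n).hom (psi0 I gs M (((cMap I gs M).f 0).hom z)) =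
      (πn I M n).hom (eps0 (ModuleCat.of A M) gs z)
    rw [πn_psi0, cMap_f_apply, eps0_naturality]
  rw [← Category.assoc, key, Category.assoc, Iso.hom_inv_id, Category.comp_id]

/-! ### Cycles of the limit -/

lemma mem_Z0_lim_iff (X : ℕ → DRing.Cx A) (τ : ∀ n, X (n + 1) ⟶ X n) (x : limSub X τ 0) :
    x ∈ Z0 (limCx X τ) ↔ ∀ n, x.1 n ∈ Z0 (X n) := by
  constructor
  · intro h n
    have h1 : ((limCx X τ).d 0 1).hom x = 0 := h
    exact congrFun (congrArg Subtype.val h1) n
  · intro h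
    show ((limCx X τ).d 0 1).hom x = 0
    apply Subtype.ext
    funext n
    exact h n

theorem psi0_ker [IsAdicComplete I M] (z : Z0 (limCx (Xn I gs M) (τn I gs M)))
    (h : psi0 I gs M z.1 = 0) : z = 0 := by
  have hz := (mem_Z0_lim_iff _ _ z.1).1 z.2
  apply Subtype.ext
  apply Subtype.ext
  funext n
  have h1 : eps0 (Nn I M n) gs (z.1.1 n) = 0 := by
    rw [← πn_psi0, h, map_zero]
  have h2 := eps0_ker (Nn I M n) gs ⟨z.1.1 n, hz n⟩ h1
  exact congrArg Subtype.val h2

theorem psi0_tors [IsAdicComplete I M] (z : Z0 (limCx (Xn I gs M) (τn I gs M))) (n : ℕ) :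
    ∀ g ∈ gs, ∃ k : ℕ, g ^ k • (πn I M n).hom (psi0 I gs M z.1) = 0 := by
  have hz := (mem_Z0_lim_iff _ _ z.1).1 z.2
  rw [πn_psi0]
  exact eps0_tors (Nn I M n) gs ⟨z.1.1 n, hz n⟩

theorem exists_psi0_eq [IsAdicComplete I M] (m : M)
    (hm : ∀ n : ℕ, ∀ g ∈ gs, ∃ k : ℕ, g ^ k • (πn I M n).hom m = 0) :
    ∃ z : Z0 (limCx (Xn I gs M) (τn I gs M)), psi0 I gs M z.1 = m := by
  choose zf hzf using fun n => exists_eps0_eq (Nn I M n) gs ((πn I M n).hom m) (hm n)
  have hcompat : ∀ n, ((τn I gs M n).f 0).hom (zf (n + 1)).1 = (zf n).1 := by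
    intro n
    have hw : ((Xn I gs M n).d 0 1).hom (((τn I gs M n).f 0).hom (zf (n + 1)).1) = 0 := by
      have h1 := congrArg (fun t => t.hom (zf (n + 1)).1) ((τn I gs M n).comm 0 1)
      have h2 : ((Xn I gs M (n + 1)).d 0 1).hom (zf (n + 1)).1 = 0 := (zf (n + 1)).2
      refine h1.trans ?_
      show ((τn I gs M n).f 1).hom (((Xn I gs M (n + 1)).d 0 1).hom (zf (n + 1)).1) = 0
      rw [h2, map_zero]
    let w : Z0 (Xn I gs M n) := ⟨((τn I gs M n).f 0).hom (zf (n + 1)).1, hw⟩ - zf n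
    have hw0 : eps0 (Nn I M n) gs w.1 = 0 := by
      show eps0 (Nn I M n) gs (((τn I gs M n).f 0).hom (zf (n + 1)).1 - (zf n).1) = 0
      rw [map_sub, eps0_naturality, hzf, hzf]
      exact sub_self _
    have h3 := congrArg Subtype.val (eps0_ker (Nn I M n) gs w hw0)
    exact sub_eq_zero.1 h3
  let x : limSub (Xn I gs M) (τn I gs M) 0 := ⟨fun n => (zf n).1, hcompat⟩
  have hx : x ∈ Z0 (limCx (Xn I gs M) (τn I gs M)) :=
    (mem_Z0_lim_iff _ _ x).2 (fun n => (zf n).2)
  refine ⟨⟨x, hx⟩, ?_⟩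
  apply eq_of_πn_eq I M
  intro n
  rw [πn_psi0]
  exact hzf n

end Psi

end Groth.Agent.Lib.RlimCechH1
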