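import Mathlib
import Groth.Agent.Lib.RlimCech6_helper1
import Groth.Agent.S7048

/-!
# `H^0` of the derived completion of `RΓ_J(M)` over an adically complete Noetherian ring (helper1)

`main13497`: for `A` Noetherian and `I`-adically complete, `M` finite, the map on `H^0` induced by
the completion of `RΓ_J(M) ⟶ M` is injective with image the union of the `Γ_{J'}(M)`,
`J' ⊆ J`, `J ⊆ rad (J' + I)`.
-/

set_option autoImplicit false
universe u
open CategoryTheory CategoryTheory.Limits CategoryTheory.Pretriangulated DerivedCategory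

attribute [local instance] HasDerivedCategory.standard

namespace Groth.Agent.Lib.RlimCechH1

open Groth.Agent.Lib.ExtCechH7 Groth.Agent.Lib.DerCompl Groth.Agent.Lib.LocFib

variable {A : Type u} [CommRing A]

/-! ### The canonical isomorphism `H^0 (N[0]) ≅ N` made explicit -/

lemma sfchfi_hom_app (N : ModuleCat.{u} A) :
    (singleFunctorCompHomologyFunctorIso (ModuleCat.{u} A) 0).hom.app N =
      (homologyFunctorFactors (ModuleCat.{u} A) 0).hom.app
        ((HomologicalComplex.single (ModuleCat.{u} A) (ComplexShape.up ℤ) 0).obj N) ≫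
      (HomologicalComplex.singleObjHomologySelfIso (ComplexShape.up ℤ) 0 N).hom := by
  have h1 : ((SingleFunctors.evaluation (ModuleCat.{u} A) (DerivedCategory (ModuleCat.{u} A)) 0).map
      (singleFunctorsPostcompQIso (ModuleCat.{u} A)).hom).app N = 𝟙 _ := by
    show ((singleFunctorsPostcompQIso (ModuleCat.{u} A)).hom.hom 0).app N = 𝟙 _
    rw [singleFunctorsPostcompQIso_hom_hom]
    rfl
  dsimp [singleFunctorCompHomologyFunctorIso]
  erw [h1]
  erw [CategoryTheory.Functor.map_id, Category.id_comp, Category.id_comp]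

lemma H0_map_Q_sIso {K : DRing.Cx A} (N : ModuleCat.{u} A)
    (ψ : K ⟶ (HomologicalComplex.single (ModuleCat.{u} A) (ComplexShape.up ℤ) 0).obj N) :
    (homologyFunctor (ModuleCat.{u} A) 0).map (Q.map ψ ≫ (sIso N).hom) ≫
        (singleFunctorCompHomologyFunctorIso (ModuleCat.{u} A) 0).hom.app N =
      (homologyFunctorFactors (ModuleCat.{u} A) 0).hom.app K ≫
        HomologicalComplex.homologyMap ψ 0 ≫
        (HomologicalComplex.singleObjHomologySelfIso (ComplexShape.up ℤ) 0 N).hom := by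
  have hs : (homologyFunctor (ModuleCat.{u} A) 0).map (Q.map ψ ≫ (sIso N).hom) =
      (homologyFunctor (ModuleCat.{u} A) 0).map (Q.map ψ) := congrArg _ (Category.comp_id _)
  have hn : (homologyFunctor (ModuleCat.{u} A) 0).map (Q.map ψ) ≫
      (homologyFunctorFactors (ModuleCat.{u} A) 0).hom.app
        ((HomologicalComplex.single (ModuleCat.{u} A) (ComplexShape.up ℤ) 0).obj N) =
      (homologyFunctorFactors (ModuleCat.{u} A) 0).hom.app K ≫
        HomologicalComplex.homologyMap ψ 0 :=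
    (homologyFunctorFactors (ModuleCat.{u} A) 0).hom.naturality ψ
  calc (homologyFunctor (ModuleCat.{u} A) 0).map (Q.map ψ ≫ (sIso N).hom) ≫
        (singleFunctorCompHomologyFunctorIso (ModuleCat.{u} A) 0).hom.app N
      = (homologyFunctor (ModuleCat.{u} A) 0).map (Q.map ψ) ≫
          ((homologyFunctorFactors (ModuleCat.{u} A) 0).hom.app
            ((HomologicalComplex.single (ModuleCat.{u} A) (ComplexShape.up ℤ) 0).obj N) ≫
          (HomologicalComplex.singleObjHomologySelfIso (ComplexShape.up ℤ) 0 N).hom) := by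
        rw [hs, sfchfi_hom_app]
        rfl
    _ = ((homologyFunctor (ModuleCat.{u} A) 0).map (Q.map ψ) ≫
          (homologyFunctorFactors (ModuleCat.{u} A) 0).hom.app
            ((HomologicalComplex.single (ModuleCat.{u} A) (ComplexShape.up ℤ) 0).obj N)) ≫
          (HomologicalComplex.singleObjHomologySelfIso (ComplexShape.up ℤ) 0 N).hom :=
        (Category.assoc _ _ _).symm
    _ = ((homologyFunctorFactors (ModuleCat.{u} A) 0).hom.app K ≫
          HomologicalComplex.homologyMap ψ 0) ≫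
          (HomologicalComplex.singleObjHomologySelfIso (ComplexShape.up ℤ) 0 N).hom :=
        congrArg (fun t => t ≫
          (HomologicalComplex.singleObjHomologySelfIso (ComplexShape.up ℤ) 0 N).hom) hn
    _ = _ := Category.assoc _ _ _

/-! ### The algebra: Artin–Rees -/

section Alg

theorem tors_iff [IsNoetherianRing A] (I : Ideal A) (gs : List A) (M : Type u) [AddCommGroup M]
    [Module A M] [Module.Finite A M] (m : M) :
    (∀ n : ℕ, ∀ g ∈ gs, ∃ k : ℕ, g ^ k • (πn I M n).hom m = 0) ↔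
      ∃ J' : Ideal A, J' ≤ Ideal.span {x : A | x ∈ gs} ∧
        Ideal.span {x : A | x ∈ gs} ≤ (J' ⊔ I).radical ∧ m ∈ DRing.torsionSub J' M := by
  constructor
  · intro h
    obtain ⟨c, hc⟩ := Ideal.exists_pow_inf_eq_pow_smul I (Submodule.span A {m})
    have hAR : ∀ x : M, x ∈ (I ^ (c + 1) • ⊤ : Submodule A M) → x ∈ Submodule.span A {m} →
        ∃ y ∈ I, y • m = x := by
      intro x hx1 hx2
      have h1 : x ∈ (I ^ (c + 1) • ⊤ : Submodule A M) ⊓ Submodule.span A {m} := ⟨hx1, hx2⟩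
      rw [hc (c + 1) (Nat.le_succ c), Nat.add_sub_cancel_left, pow_one] at h1
      have h2 : x ∈ I • Submodule.span A {m} := Submodule.smul_mono le_rfl inf_le_right h1
      exact Submodule.mem_smul_span_singleton.1 h2
    have hg : ∀ g ∈ gs, ∃ k : ℕ, g ^ k ∈ Ideal.torsionOf A M m ⊔ I := by
      intro g hg
      obtain ⟨k, hk⟩ := h (c + 1) g hg
      have h1 : g ^ k • m ∈ (I ^ (c + 1) • ⊤ : Submodule A M) := by
        have h2 : (Submodule.mkQ (I ^ (c + 1) • ⊤ : Submodule A M)) (g ^ k • m) = 0 := by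
          rw [map_smul]
          exact hk
        exact (Submodule.Quotient.mk_eq_zero _).1 h2
      obtain ⟨y, hy, hym⟩ := hAR _ h1
        (Submodule.smul_mem _ _ (Submodule.mem_span_singleton_self m))
      refine ⟨k, ?_⟩
      have h3 : g ^ k - y ∈ Ideal.torsionOf A M m := by
        rw [Ideal.mem_torsionOf_iff, sub_smul, hym, sub_self]
      have h4 : g ^ k = (g ^ k - y) + y := by ring
      rw [h4]
      exact Submodule.add_mem_sup h3 hy
    refine ⟨Ideal.span {x : A | x ∈ gs} ⊓ Ideal.torsionOf A M m, inf_le_left, ?_,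
      ⟨1, fun a ha => ?_⟩⟩
    · rw [Ideal.span_le]
      intro g hg'
      obtain ⟨k, hk⟩ := hg g hg'
      obtain ⟨b, hb, y, hy, hby⟩ := Submodule.mem_sup.1 hk
      refine Ideal.mem_radical_iff.2 ⟨k + 1, ?_⟩
      rw [pow_succ', ← hby, mul_add]
      exact Submodule.add_mem_sup
        ⟨Ideal.mul_mem_right _ _ (Ideal.subset_span hg'), Ideal.mul_mem_left _ _ hb⟩
        (Ideal.mul_mem_left _ _ hy)
    · rw [pow_one] at ha
      exact (Ideal.mem_torsionOf_iff _ _).1 ha.2
  · rintro ⟨J', -, hrad, k, hk⟩ n g hg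
    obtain ⟨a, ha⟩ := Ideal.mem_radical_iff.1 (hrad (Ideal.subset_span hg))
    have h1 : (g ^ a) ^ (k + n) ∈ J' ^ k ⊔ I ^ n :=
      Ideal.sup_pow_add_le_pow_sup_pow (Ideal.pow_mem_pow ha (k + n))
    obtain ⟨b, hb, y, hy, hby⟩ := Submodule.mem_sup.1 h1
    refine ⟨a * (k + n), ?_⟩
    show g ^ (a * (k + n)) • (Submodule.mkQ (I ^ n • ⊤ : Submodule A M)) m = 0
    rw [← map_smul, pow_mul, ← hby, add_smul, hk b hb, zero_add]
    exact (Submodule.Quotient.mk_eq_zero _).2 (Submodule.smul_mem_smul hy Submodule.mem_top)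

end Alg

/-! ### The main theorem -/

section Main

variable [IsNoetherianRing A] (fs gs : List A)

set_option quotPrecheck false in
local notation "𝓘" => Ideal.span {x : A | x ∈ fs}
set_option quotPrecheck false in
local notation "𝓙" => Ideal.span {x : A | x ∈ gs}

omit [IsNoetherianRing A] in
theorem isDerivedComplete_Q_limCx_Xn (M : Type u) [AddCommGroup M] [Module A M] :
    DRing.IsDerivedComplete 𝓘 (Q.obj (limCx (Xn 𝓘 gs M) (τn 𝓘 gs M))) := by
  apply isDerivedComplete_Q_limCx 𝓘 (Xn 𝓘 gs M) (τn 𝓘 gs M) (τn_surjective 𝓘 gs M)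
  intro n
  apply isDerivedComplete_Q_extCech 𝓘 gs (Nn 𝓘 M n) n
  intro r hr x
  obtain ⟨m, rfl⟩ := Submodule.mkQ_surjective _ x
  show r • Submodule.Quotient.mk m = 0
  rw [← Submodule.Quotient.mk_smul, Submodule.Quotient.mk_eq_zero]
  exact Submodule.smul_mem_smul hr Submodule.mem_top

theorem main13497_list [IsAdicComplete 𝓘 A] [DRing.HasRgammaI 𝓙] [DRing.HasDerivedCompletion 𝓘]
    (M : Type u) [AddCommGroup M] [Module A M] [Module.Finite A M] :
    Function.Injective ((DerivedCategory.homologyFunctor (ModuleCat.{u} A) 0).map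
        ((ObjectProperty.ι (DRing.IsDerivedComplete 𝓘)).map ((DRing.derivedCompletion 𝓘).map
          ((DRing.RgammaIε 𝓙).app (Dual.inD A M))))).hom ∧
      Set.range ((DerivedCategory.homologyFunctor (ModuleCat.{u} A) 0).map
        ((ObjectProperty.ι (DRing.IsDerivedComplete 𝓘)).map ((DRing.derivedCompletion 𝓘).map
          ((DRing.RgammaIε 𝓙).app (Dual.inD A M))))).hom =
      (fun s : M => ((DerivedCategory.homologyFunctor (ModuleCat.{u} A) 0).map
          (DRing.toDerivedCompletion 𝓘 (Dual.inD A M))).hom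
        (((DerivedCategory.singleFunctorCompHomologyFunctorIso (ModuleCat.{u} A) 0).inv.app
          (ModuleCat.of A M)).hom s)) ''
        {s : M | ∃ J' : Ideal A, J' ≤ 𝓙 ∧ 𝓙 ≤ (J' ⊔ 𝓘).radical ∧ s ∈ DRing.torsionSub J' M} := by
  haveI : IsAdicComplete 𝓘 M := Groth.Agent.Lib.InvCompleteH3.isAdicComplete_of_finite 𝓘 M
  have hc := isDerivedComplete_Q_limCx_Xn fs gs M
  obtain ⟨u, hu_def⟩ : ∃ u : (DRing.RgammaI 𝓙).obj (Dual.inD A M) ⟶
      Q.obj (limCx (Xn 𝓘 gs M) (τn 𝓘 gs M)),
      u = (gammaIso gs (ModuleCat.of A M)).inv ≫ Q.map (cMap 𝓘 gs M) := ⟨_, rfl⟩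
  have hu : LEq 𝓘 u := by
    refine (leq_cMap fs gs M).of_comm u (gammaIso gs (ModuleCat.of A M)) (Iso.refl _) ?_
    show Q.map (cMap 𝓘 gs M) ≫ 𝟙 _ = (gammaIso gs (ModuleCat.of A M)).hom ≫ u
    rw [hu_def, Category.comp_id, Iso.hom_inv_id_assoc]
  obtain ⟨lam, hlam⟩ := exists_iso_of_universal (DRing.IsDerivedComplete 𝓘)
    (DRing.derivedCompletionAdj 𝓘) ((DRing.RgammaI 𝓙).obj (Dual.inD A M)) _ hc u hu
  have hM : DRing.IsDerivedComplete 𝓘 (Dual.inD A M) := Groth.Agent.S7048.result 𝓘 M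
  obtain ⟨e, he⟩ := exists_iso_of_universal (DRing.IsDerivedComplete 𝓘)
    (DRing.derivedCompletionAdj 𝓘) (Dual.inD A M) (Dual.inD A M) hM (𝟙 _) (fun E _ => by
      simp only [Category.id_comp]
      exact Function.bijective_id)
  have heM : DRing.toDerivedCompletion 𝓘 (Dual.inD A M) = e.inv := (Iso.comp_hom_eq_id e).1 he
  obtain ⟨φ, hφ⟩ : ∃ φ, φ = (ObjectProperty.ι (DRing.IsDerivedComplete 𝓘)).map
      ((DRing.derivedCompletion 𝓘).map ((DRing.RgammaIε 𝓙).app (Dual.inD A M))) := ⟨_, rfl⟩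
  rw [← hφ]
  have hnat : (DRing.derivedCompletionAdj 𝓘).unit.app ((DRing.RgammaI 𝓙).obj (Dual.inD A M)) ≫ φ =
      (DRing.RgammaIε 𝓙).app (Dual.inD A M) ≫ DRing.toDerivedCompletion 𝓘 (Dual.inD A M) := by
    rw [hφ]
    exact ((DRing.derivedCompletionAdj 𝓘).unit.naturality
      ((DRing.RgammaIε 𝓙).app (Dual.inD A M))).symm
  have h1 : Q.map (cMap 𝓘 gs M) ≫ (lam.inv ≫ φ ≫ e.hom) =
      Q.map (epsC (ModuleCat.of A M) gs) ≫ (sIso (ModuleCat.of A M)).hom := by
    have h1a : u ≫ lam.inv =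
        (DRing.derivedCompletionAdj 𝓘).unit.app ((DRing.RgammaI 𝓙).obj (Dual.inD A M)) := by
      rw [← hlam, Category.assoc, Iso.hom_inv_id, Category.comp_id]
    have h1b : u ≫ (lam.inv ≫ φ ≫ e.hom) = (DRing.RgammaIε 𝓙).app (Dual.inD A M) := by
      rw [← Category.assoc, h1a, ← Category.assoc, hnat, Category.assoc]
      have he' : DRing.toDerivedCompletion 𝓘 (Dual.inD A M) ≫ e.hom = 𝟙 _ := he
      rw [he']
      exact Category.comp_id _
    have h1c := gammaIso_eps gs (ModuleCat.of A M)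
    rw [← h1c]
    have h1d : (gammaIso gs (ModuleCat.of A M)).hom ≫ u = Q.map (cMap 𝓘 gs M) := by
      rw [hu_def, Iso.hom_inv_id_assoc]
    rw [← h1d, Category.assoc]
    exact congrArg (fun t => (gammaIso gs (ModuleCat.of A M)).hom ≫ t) h1b
  have h2 : Q.map (cMap 𝓘 gs M) ≫ (Q.map (psi 𝓘 gs M) ≫ (sIso (ModuleCat.of A M)).hom) =
      Q.map (epsC (ModuleCat.of A M) gs) ≫ (sIso (ModuleCat.of A M)).hom := by
    rw [← Category.assoc, ← Q.map_comp, cMap_psi]
  have h3 : lam.inv ≫ φ ≫ e.hom = Q.map (psi 𝓘 gs M) ≫ (sIso (ModuleCat.of A M)).hom :=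
    ((leq_cMap fs gs M) (Dual.inD A M) hM).1 (h1.trans h2.symm)
  have h4 : φ = lam.hom ≫ (Q.map (psi 𝓘 gs M) ≫ (sIso (ModuleCat.of A M)).hom) ≫
      DRing.toDerivedCompletion 𝓘 (Dual.inD A M) := by
    rw [← h3, heM]
    simp only [Category.assoc, Iso.hom_inv_id, Category.comp_id, Iso.hom_inv_id_assoc]
  -- passing to `H^0`
  obtain ⟨Θ, hΘ_def⟩ : ∃ Θ : (limCx (Xn 𝓘 gs M) (τn 𝓘 gs M)).homology 0 ⟶ ModuleCat.of A M,
      Θ = HomologicalComplex.homologyMap (psi 𝓘 gs M) 0 ≫
        (HomologicalComplex.singleObjHomologySelfIso (ComplexShape.up ℤ) 0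
          (ModuleCat.of A M)).hom := ⟨_, rfl⟩
  have h5 : (homologyFunctor (ModuleCat.{u} A) 0).map
      (Q.map (psi 𝓘 gs M) ≫ (sIso (ModuleCat.of A M)).hom) =
      ((homologyFunctorFactors (ModuleCat.{u} A) 0).hom.app (limCx (Xn 𝓘 gs M) (τn 𝓘 gs M)) ≫ Θ) ≫
        (singleFunctorCompHomologyFunctorIso (ModuleCat.{u} A) 0).inv.app (ModuleCat.of A M) := by
    have h5a := H0_map_Q_sIso (ModuleCat.of A M) (psi 𝓘 gs M)
    have h5c : (singleFunctorCompHomologyFunctorIso (ModuleCat.{u} A) 0).hom.app (ModuleCat.of A M) ≫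
        (singleFunctorCompHomologyFunctorIso (ModuleCat.{u} A) 0).inv.app (ModuleCat.of A M) =
        𝟙 _ := Iso.hom_inv_id_app _ _
    calc (homologyFunctor (ModuleCat.{u} A) 0).map
          (Q.map (psi 𝓘 gs M) ≫ (sIso (ModuleCat.of A M)).hom)
        = ((homologyFunctor (ModuleCat.{u} A) 0).map
            (Q.map (psi 𝓘 gs M) ≫ (sIso (ModuleCat.of A M)).hom) ≫
            (singleFunctorCompHomologyFunctorIso (ModuleCat.{u} A) 0).hom.app (ModuleCat.of A M)) ≫
          (singleFunctorCompHomologyFunctorIso (ModuleCat.{u} A) 0).inv.app (ModuleCat.of A M) := by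
          rw [Category.assoc, h5c]
          exact (Category.comp_id _).symm
      _ = ((homologyFunctorFactors (ModuleCat.{u} A) 0).hom.app
            (limCx (Xn 𝓘 gs M) (τn 𝓘 gs M)) ≫
            HomologicalComplex.homologyMap (psi 𝓘 gs M) 0 ≫
            (HomologicalComplex.singleObjHomologySelfIso (ComplexShape.up ℤ) 0
              (ModuleCat.of A M)).hom) ≫
          (singleFunctorCompHomologyFunctorIso (ModuleCat.{u} A) 0).inv.app (ModuleCat.of A M) := by
          rw [h5a]
      _ = _ := by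
          rw [hΘ_def]
          rfl
  let α : (homologyFunctor (ModuleCat.{u} A) 0).obj
      ((DRing.derivedCompletion 𝓘).obj ((DRing.RgammaI 𝓙).obj (Dual.inD A M))).obj ≅
      (limCx (Xn 𝓘 gs M) (τn 𝓘 gs M)).homology 0 :=
    (homologyFunctor (ModuleCat.{u} A) 0).mapIso lam ≪≫
      (homologyFunctorFactors (ModuleCat.{u} A) 0).app (limCx (Xn 𝓘 gs M) (τn 𝓘 gs M))
  have hfac : ∀ x, ((homologyFunctor (ModuleCat.{u} A) 0).map φ).hom x =
      ((homologyFunctor (ModuleCat.{u} A) 0).map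
          (DRing.toDerivedCompletion 𝓘 (Dual.inD A M))).hom
        (((singleFunctorCompHomologyFunctorIso (ModuleCat.{u} A) 0).inv.app
          (ModuleCat.of A M)).hom (Θ.hom (α.hom.hom x))) := by
    intro x
    have h6 : (homologyFunctor (ModuleCat.{u} A) 0).map φ =
        (homologyFunctor (ModuleCat.{u} A) 0).map lam.hom ≫
        (((homologyFunctorFactors (ModuleCat.{u} A) 0).hom.app
            (limCx (Xn 𝓘 gs M) (τn 𝓘 gs M)) ≫ Θ) ≫
          (singleFunctorCompHomologyFunctorIso (ModuleCat.{u} A) 0).inv.app (ModuleCat.of A M)) ≫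
        (homologyFunctor (ModuleCat.{u} A) 0).map
          (DRing.toDerivedCompletion 𝓘 (Dual.inD A M)) := by
      rw [h4, Functor.map_comp, Functor.map_comp, h5]
    exact congrArg (fun t => t.hom x) h6
  have hαinv : ∀ w, α.hom.hom (α.inv.hom w) = w := fun w =>
    congrArg (fun t => t.hom w) α.inv_hom_id
  have hαinj : Function.Injective α.hom.hom := by
    intro x x' h
    have h7 := congrArg α.inv.hom h
    have e1 : ∀ x, α.inv.hom (α.hom.hom x) = x := fun x =>
      congrArg (fun t => t.hom x) α.hom_inv_id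
    rwa [e1, e1] at h7
  -- the outer isomorphism
  let β : ModuleCat.of A M ≅ (homologyFunctor (ModuleCat.{u} A) 0).obj
      ((DRing.derivedCompletion 𝓘).obj (Dual.inD A M)).obj :=
    ((singleFunctorCompHomologyFunctorIso (ModuleCat.{u} A) 0).app (ModuleCat.of A M)).symm ≪≫
      (homologyFunctor (ModuleCat.{u} A) 0).mapIso e.symm
  have hβ : ∀ s : M, ((homologyFunctor (ModuleCat.{u} A) 0).map
        (DRing.toDerivedCompletion 𝓘 (Dual.inD A M))).hom
      (((singleFunctorCompHomologyFunctorIso (ModuleCat.{u} A) 0).inv.app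
        (ModuleCat.of A M)).hom s) = β.hom.hom s := by
    intro s
    rw [heM]
    rfl
  have hβinj : Function.Injective β.hom.hom := by
    intro x x' h
    have h7 := congrArg β.inv.hom h
    have e1 : ∀ x, β.inv.hom (β.hom.hom x) = x := fun x =>
      congrArg (fun t => t.hom x) β.hom_inv_id
    rwa [e1, e1] at h7
  -- `Θ` on classes of cycles
  have hΘ : ∀ z : Z0 (limCx (Xn 𝓘 gs M) (τn 𝓘 gs M)), Θ.hom (toH _ z) = psi0 𝓘 gs M z.1 := by
    intro z
    have hz : (((HomologicalComplex.single (ModuleCat.{u} A) (ComplexShape.up ℤ) 0).obj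
        (ModuleCat.of A M)).d 0 1).hom (((psi 𝓘 gs M).f 0).hom z.1) = 0 := by
      rw [HomologicalComplex.single_obj_d]
      rfl
    rw [hΘ_def]
    show (HomologicalComplex.singleObjHomologySelfIso (ComplexShape.up ℤ) 0
        (ModuleCat.of A M)).hom.hom
      ((HomologicalComplex.homologyMap (psi 𝓘 gs M) 0).hom (toH _ z)) = _
    rw [homologyMap_toH (psi 𝓘 gs M) z hz, selfIso_toH]
    have h8 := congrArg (fun t => t.hom z.1) (psi_f0 𝓘 gs M)
    refine (congrArg (HomologicalComplex.singleObjXSelf (ComplexShape.up ℤ) 0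
      (ModuleCat.of A M)).hom.hom h8).trans ?_
    exact congrArg (fun t => t.hom (psi0 𝓘 gs M z.1))
      (HomologicalComplex.singleObjXSelf (ComplexShape.up ℤ) 0 (ModuleCat.of A M)).inv_hom_id
  have hΘinj : Function.Injective Θ.hom := by
    intro w w' h
    obtain ⟨z, hz⟩ := toH_surjective _ (w - w')
    have h7 : psi0 𝓘 gs M z.1 = 0 := by
      rw [← hΘ, hz, map_sub, h, sub_self]
    have h8 := psi0_ker 𝓘 gs M z h7
    rw [h8, map_zero] at hz
    exact (sub_eq_zero.1 hz.symm)
  refine ⟨?_, ?_⟩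
  · intro x x' hxx
    rw [hfac, hfac, hβ, hβ] at hxx
    exact hαinj (hΘinj (hβinj hxx))
  · ext y
    constructor
    · rintro ⟨x, rfl⟩
      obtain ⟨z, hz⟩ := toH_surjective _ (α.hom.hom x)
      refine ⟨Θ.hom (α.hom.hom x), ?_, (hfac x).symm⟩
      rw [← hz, hΘ]
      exact (tors_iff 𝓘 gs M _).1 (fun n => psi0_tors 𝓘 gs M z n)
    · rintro ⟨s, hs, rfl⟩
      obtain ⟨z, hz⟩ := exists_psi0_eq 𝓘 gs M s ((tors_iff 𝓘 gs M s).2 hs)
      refine ⟨α.inv.hom (toH _ z), ?_⟩
      rw [hfac, hαinv, hΘ, hz]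

end Main

theorem main13497 [IsNoetherianRing A] (I J : Ideal A) [IsAdicComplete I A] [DRing.HasRgammaI J]
    [DRing.HasDerivedCompletion I] (M : Type u) [AddCommGroup M] [Module A M]
    [Module.Finite A M] :
    Function.Injective ((DerivedCategory.homologyFunctor (ModuleCat.{u} A) 0).map
        ((ObjectProperty.ι (DRing.IsDerivedComplete I)).map ((DRing.derivedCompletion I).map
          ((DRing.RgammaIε J).app (Dual.inD A M))))).hom ∧
      Set.range ((DerivedCategory.homologyFunctor (ModuleCat.{u} A) 0).map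
        ((ObjectProperty.ι (DRing.IsDerivedComplete I)).map ((DRing.derivedCompletion I).map
          ((DRing.RgammaIε J).app (Dual.inD A M))))).hom =
      (fun s : M => ((DerivedCategory.homologyFunctor (ModuleCat.{u} A) 0).map
          (DRing.toDerivedCompletion I (Dual.inD A M))).hom
        (((DerivedCategory.singleFunctorCompHomologyFunctorIso (ModuleCat.{u} A) 0).inv.app
          (ModuleCat.of A M)).hom s)) ''
        {s : M | ∃ J' : Ideal A, J' ≤ J ∧ J ≤ (J' ⊔ I).radical ∧ s ∈ DRing.torsionSub J' M} := by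
  obtain ⟨fs, hfs⟩ := exists_list_span I
  obtain ⟨gs, hgs⟩ := exists_list_span J
  subst hfs
  subst hgs
  exact main13497_list fs gs M

end Groth.Agent.Lib.RlimCechH1
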