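import Mathlib
import Groth.Agent.Lib.Ann5_helper1
import Groth.Agent.Lib.RlimCech7_helper1
import Groth.Agent.Lib.DerHom_helper5
import Groth.Agent.Lib.FlatGlue3_helper2

/-!
# Comparing `RΓ_J(M)` with its derived completion: derived-category tools (helper1)

* `BijAt I X i`: `H^i(X) ⟶ H^i(X^∧)` is bijective;
* `exists_completion_ladder`: the completion of a distinguished triangle, as a morphism of triangles;
* `bijective_hom₂`, `bijective_hom₁`: the five lemma / a chase in the homology ladder;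
* `KK gs N = Q (extCech N gs)`, `bijAt_mid_of_ses`, `bijAt_step_smul`, completeness and
  annihilation statements, `bijAt_zero` (degree `0`, from S13497).
-/

set_option autoImplicit false
universe u
open CategoryTheory CategoryTheory.Limits CategoryTheory.Pretriangulated DerivedCategory
open scoped Pointwise

attribute [local instance] HasDerivedCategory.standard

namespace Groth.Agent.Lib.LCcH1

open Groth.Agent.Lib.ExtCechH7 Groth.Agent.Lib.DerCompl Groth.Agent.Lib.LocFib
  Groth.Agent.Lib.RlimCechH1 Groth.Agent.Lib.AnnH1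

variable {A : Type u} [CommRing A]

/-- the homology functors -/
noncomputable abbrev Hn (A : Type u) [CommRing A] (n : ℤ) : Dual.D A ⥤ ModuleCat.{u} A :=
  homologyFunctor (ModuleCat.{u} A) n

lemma bijective_hom_of_isIso {X Y : ModuleCat.{u} A} (f : X ⟶ Y) [IsIso f] :
    Function.Bijective f.hom :=
  ConcreteCategory.bijective_of_isIso f

section Abstract

variable (I : Ideal A) [DRing.HasDerivedCompletion I]

/-- `H^i(X) ⟶ H^i(X^∧)` is bijective -/
def BijAt (X : Dual.D A) (i : ℤ) : Prop :=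
  Function.Bijective ((Hn A i).map (DRing.toDerivedCompletion I X)).hom

lemma bijAt_iff_of_fac {X Y : Dual.D A} (e : ((DRing.derivedCompletion I).obj X).obj ≅ Y)
    (φ : X ⟶ Y) (he : DRing.toDerivedCompletion I X ≫ e.hom = φ) (m : ℤ) :
    BijAt I X m ↔ Function.Bijective ((Hn A m).map φ).hom := by
  have hb := bijective_hom_of_isIso ((Hn A m).map e.hom)
  rw [← he, Functor.map_comp]
  exact (Function.Bijective.of_comp_iff' hb _).symm

lemma BijAt.of_iso {X Y : Dual.D A} (e : X ≅ Y) {i : ℤ} (h : BijAt I X i) : BijAt I Y i := by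
  have hnat : e.hom ≫ DRing.toDerivedCompletion I Y =
      DRing.toDerivedCompletion I X ≫ ((DRing.derivedCompletion I).map e.hom).hom :=
    (DRing.derivedCompletionAdj I).unit.naturality e.hom
  haveI : IsIso ((DRing.derivedCompletion I).map e.hom).hom :=
    inferInstanceAs (IsIso ((ObjectProperty.ι (DRing.IsDerivedComplete I)).map
      ((DRing.derivedCompletion I).map e.hom)))
  have h1 : (Hn A i).map e.hom ≫ (Hn A i).map (DRing.toDerivedCompletion I Y) =
      (Hn A i).map (DRing.toDerivedCompletion I X) ≫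
        (Hn A i).map ((DRing.derivedCompletion I).map e.hom).hom := by
    rw [← Functor.map_comp, ← Functor.map_comp, hnat]
  have hb1 := bijective_hom_of_isIso ((Hn A i).map e.hom)
  have hb2 := bijective_hom_of_isIso ((Hn A i).map ((DRing.derivedCompletion I).map e.hom).hom)
  have hcomp : ((Hn A i).map (DRing.toDerivedCompletion I Y)).hom ∘ ((Hn A i).map e.hom).hom =
      ((Hn A i).map ((DRing.derivedCompletion I).map e.hom).hom).hom ∘
        ((Hn A i).map (DRing.toDerivedCompletion I X)).hom :=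
    funext fun x => congrArg (fun t => t.hom x) h1
  have h3 : Function.Bijective (((Hn A i).map (DRing.toDerivedCompletion I Y)).hom ∘
      ((Hn A i).map e.hom).hom) := by
    rw [hcomp]
    exact hb2.comp h
  exact (Function.Bijective.of_comp_iff _ hb1).1 h3

lemma isIso_toDerivedCompletion (X : Dual.D A) (hX : DRing.IsDerivedComplete I X) :
    IsIso (DRing.toDerivedCompletion I X) := by
  obtain ⟨e, he⟩ := exists_iso_of_universal (DRing.IsDerivedComplete I)
    (DRing.derivedCompletionAdj I) X X hX (𝟙 _) (fun E _ => by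
      simp only [Category.id_comp]
      exact Function.bijective_id)
  have h : DRing.toDerivedCompletion I X = e.inv := (Iso.comp_hom_eq_id e).1 he
  rw [h]
  infer_instance

lemma BijAt.of_complete {X : Dual.D A} (hX : DRing.IsDerivedComplete I X) (i : ℤ) :
    BijAt I X i := by
  haveI := isIso_toDerivedCompletion I X hX
  exact bijective_hom_of_isIso _

lemma BijAt.of_isZero {X : Dual.D A} {i : ℤ} (hX : IsZero ((Hn A i).obj X))
    (hY : IsZero ((Hn A i).obj ((DRing.derivedCompletion I).obj X).obj)) : BijAt I X i := by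
  haveI := ModuleCat.subsingleton_of_isZero hX
  haveI := ModuleCat.subsingleton_of_isZero hY
  exact ⟨fun a b _ => Subsingleton.elim a b, fun y => ⟨0, Subsingleton.elim _ _⟩⟩


/-- **the derived completion of a distinguished triangle**, with the comparison morphism -/
theorem exists_completion_ladder (T : Triangle (Dual.D A)) (hT : T ∈ distTriang (Dual.D A)) :
    ∃ (M' : Dual.D A) (α' : ((DRing.derivedCompletion I).obj T.obj₂).obj ⟶ M')
      (β' : M' ⟶ (((DRing.derivedCompletion I).obj T.obj₁).obj)⟦(1 : ℤ)⟧)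
      (_ : Triangle.mk ((DRing.derivedCompletion I).map T.mor₁).hom α' β' ∈
        distTriang (Dual.D A))
      (Φ : T ⟶ Triangle.mk ((DRing.derivedCompletion I).map T.mor₁).hom α' β')
      (e₃ : ((DRing.derivedCompletion I).obj T.obj₃).obj ≅ M'),
      Φ.hom₁ = DRing.toDerivedCompletion I T.obj₁ ∧
      Φ.hom₂ = DRing.toDerivedCompletion I T.obj₂ ∧
      DRing.toDerivedCompletion I T.obj₃ ≫ e₃.hom = Φ.hom₃ := by
  obtain ⟨M', α', β', hT'⟩ :=
    distinguished_cocone_triangle ((DRing.derivedCompletion I).map T.mor₁).hom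
  have comm : T.mor₁ ≫ DRing.toDerivedCompletion I T.obj₂ =
      DRing.toDerivedCompletion I T.obj₁ ≫ ((DRing.derivedCompletion I).map T.mor₁).hom :=
    (DRing.derivedCompletionAdj I).unit.naturality T.mor₁
  obtain ⟨w, hw1, hw2⟩ := complete_distinguished_triangle_morphism T _ hT hT'
    (DRing.toDerivedCompletion I T.obj₁) (DRing.toDerivedCompletion I T.obj₂) comm
  have hM' : DRing.IsDerivedComplete I M' :=
    isDerivedComplete_of_distinguished I _ hT'
      ((DRing.derivedCompletion I).obj T.obj₁).property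
      ((DRing.derivedCompletion I).obj T.obj₂).property
  obtain ⟨e₃, he₃⟩ := exists_iso_of_universal (DRing.IsDerivedComplete I)
    (DRing.derivedCompletionAdj I) T.obj₃ M' hM' w (by
      intro E hE
      have hE1 : DRing.IsDerivedComplete I (E⟦(-1 : ℤ)⟧) := isDerivedComplete_shift I E hE (-1)
      exact bijective_precomp_of_triangles _ _ hT hT' (DRing.toDerivedCompletion I T.obj₁)
        (DRing.toDerivedCompletion I T.obj₂) w comm hw1 hw2 E
        (bijective_unit_precomp _ (DRing.derivedCompletionAdj I) T.obj₁ E hE).1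
        (bijective_unit_precomp _ (DRing.derivedCompletionAdj I) T.obj₂ E hE)
        (bijective_shift_precomp _ E
          (bijective_unit_precomp _ (DRing.derivedCompletionAdj I) T.obj₁ _ hE1))
        (bijective_shift_precomp _ E
          (bijective_unit_precomp _ (DRing.derivedCompletionAdj I) T.obj₂ _ hE1)).2)
  exact ⟨M', α', β', hT', Triangle.homMk T _ (DRing.toDerivedCompletion I T.obj₁)
    (DRing.toDerivedCompletion I T.obj₂) w comm hw1 hw2, e₃, rfl, rfl, he₃⟩

/-- the derived completion is `A`-linear on scalar endomorphisms -/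
lemma completion_map_smul_id (r : A) (X : Dual.D A) :
    ((DRing.derivedCompletion I).map (r • 𝟙 X)).hom =
      r • 𝟙 ((DRing.derivedCompletion I).obj X).obj := by
  apply (bijective_unit_precomp _ (DRing.derivedCompletionAdj I) X _
    ((DRing.derivedCompletion I).obj X).property).1
  show DRing.toDerivedCompletion I X ≫ ((DRing.derivedCompletion I).map (r • 𝟙 X)).hom =
    DRing.toDerivedCompletion I X ≫ (r • 𝟙 ((DRing.derivedCompletion I).obj X).obj)
  have hnat : (r • 𝟙 X) ≫ DRing.toDerivedCompletion I X =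
      DRing.toDerivedCompletion I X ≫ ((DRing.derivedCompletion I).map (r • 𝟙 X)).hom :=
    (DRing.derivedCompletionAdj I).unit.naturality (r • 𝟙 X)
  rw [← hnat, Linear.smul_comp, Linear.comp_smul, Category.id_comp, Category.comp_id]

end Abstract

/-! ### The homology ladder of a morphism of distinguished triangles -/

section Ladder

variable {T T' : Triangle (Dual.D A)}

lemma exact₂_fun (T : Triangle (Dual.D A)) (hT : T ∈ distTriang (Dual.D A)) (n : ℤ) :
    Function.Exact ((Hn A n).map T.mor₁).hom ((Hn A n).map T.mor₂).hom :=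
  (ShortComplex.ShortExact.moduleCat_exact_iff_function_exact _).1
    (HomologySequence.exact₂ T hT n)

lemma exact₃_fun (T : Triangle (Dual.D A)) (hT : T ∈ distTriang (Dual.D A)) (n₀ n₁ : ℤ)
    (h : n₀ + 1 = n₁) :
    Function.Exact ((Hn A n₀).map T.mor₂).hom (HomologySequence.δ T n₀ n₁ h).hom :=
  (ShortComplex.ShortExact.moduleCat_exact_iff_function_exact _).1
    (HomologySequence.exact₃ T hT n₀ n₁ h)

lemma exact₁_fun (T : Triangle (Dual.D A)) (hT : T ∈ distTriang (Dual.D A)) (n₀ n₁ : ℤ)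
    (h : n₀ + 1 = n₁) :
    Function.Exact (HomologySequence.δ T n₀ n₁ h).hom ((Hn A n₁).map T.mor₁).hom :=
  (ShortComplex.ShortExact.moduleCat_exact_iff_function_exact _).1
    (HomologySequence.exact₁ T hT n₀ n₁ h)

lemma comm₁_apply (Φ : T ⟶ T') (n : ℤ) (x : (Hn A n).obj T.obj₁) :
    ((Hn A n).map T'.mor₁).hom (((Hn A n).map Φ.hom₁).hom x) =
      ((Hn A n).map Φ.hom₂).hom (((Hn A n).map T.mor₁).hom x) := by
  have h : (Hn A n).map Φ.hom₁ ≫ (Hn A n).map T'.mor₁ =
      (Hn A n).map T.mor₁ ≫ (Hn A n).map Φ.hom₂ := by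
    rw [← Functor.map_comp, ← Functor.map_comp, Φ.comm₁]
  exact congrArg (fun t => t.hom x) h

lemma comm₂_apply (Φ : T ⟶ T') (n : ℤ) (x : (Hn A n).obj T.obj₂) :
    ((Hn A n).map T'.mor₂).hom (((Hn A n).map Φ.hom₂).hom x) =
      ((Hn A n).map Φ.hom₃).hom (((Hn A n).map T.mor₂).hom x) := by
  have h : (Hn A n).map Φ.hom₂ ≫ (Hn A n).map T'.mor₂ =
      (Hn A n).map T.mor₂ ≫ (Hn A n).map Φ.hom₃ := by
    rw [← Functor.map_comp, ← Functor.map_comp, Φ.comm₂]
  exact congrArg (fun t => t.hom x) h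

lemma δ_apply (Φ : T ⟶ T') (n₀ n₁ : ℤ) (h : n₀ + 1 = n₁) (x : (Hn A n₀).obj T.obj₃) :
    (HomologySequence.δ T' n₀ n₁ h).hom (((Hn A n₀).map Φ.hom₃).hom x) =
      ((Hn A n₁).map Φ.hom₁).hom ((HomologySequence.δ T n₀ n₁ h).hom x) := by
  have h1 : (Hn A n₀).map Φ.hom₃ ≫ HomologySequence.δ T' n₀ n₁ h =
      HomologySequence.δ T n₀ n₁ h ≫ (Hn A n₁).map Φ.hom₁ :=
    (homologyFunctor (ModuleCat.{u} A) 0).homologySequenceδ_naturality T T' Φ n₀ n₁ h
  exact congrArg (fun t => t.hom x) h1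

/-- the five lemma for the middle vertex -/
theorem bijective_hom₂ (hT : T ∈ distTriang (Dual.D A)) (hT' : T' ∈ distTriang (Dual.D A))
    (Φ : T ⟶ T') (n₀ n n₁ : ℤ) (h0 : n₀ + 1 = n) (h1 : n + 1 = n₁)
    (e3 : Function.Surjective ((Hn A n₀).map Φ.hom₃).hom)
    (b1 : Function.Bijective ((Hn A n).map Φ.hom₁).hom)
    (b3 : Function.Bijective ((Hn A n).map Φ.hom₃).hom)
    (m1 : Function.Injective ((Hn A n₁).map Φ.hom₁).hom) :
    Function.Bijective ((Hn A n).map Φ.hom₂).hom :=
  LinearMap.bijective_of_surjective_of_bijective_of_bijective_of_injective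
    (HomologySequence.δ T n₀ n h0).hom ((Hn A n).map T.mor₁).hom ((Hn A n).map T.mor₂).hom
    (HomologySequence.δ T n n₁ h1).hom
    (HomologySequence.δ T' n₀ n h0).hom ((Hn A n).map T'.mor₁).hom ((Hn A n).map T'.mor₂).hom
    (HomologySequence.δ T' n n₁ h1).hom
    ((Hn A n₀).map Φ.hom₃).hom ((Hn A n).map Φ.hom₁).hom ((Hn A n).map Φ.hom₂).hom
    ((Hn A n).map Φ.hom₃).hom ((Hn A n₁).map Φ.hom₁).hom
    (LinearMap.ext fun x => δ_apply Φ n₀ n h0 x)
    (LinearMap.ext fun x => comm₁_apply Φ n x)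
    (LinearMap.ext fun x => comm₂_apply Φ n x)
    (LinearMap.ext fun x => δ_apply Φ n n₁ h1 x)
    (exact₁_fun T hT n₀ n h0) (exact₂_fun T hT n) (exact₃_fun T hT n n₁ h1)
    (exact₁_fun T' hT' n₀ n h0) (exact₂_fun T' hT' n) (exact₃_fun T' hT' n n₁ h1)
    e3 b1 b3 m1

/-- the chase for the first vertex when `mor₁` vanishes on `H^{n₁}` -/
theorem bijective_hom₁ (hT : T ∈ distTriang (Dual.D A)) (hT' : T' ∈ distTriang (Dual.D A))
    (Φ : T ⟶ T') (n n₁ : ℤ) (h : n + 1 = n₁)
    (z : (Hn A n₁).map T.mor₁ = 0) (z' : (Hn A n₁).map T'.mor₁ = 0)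
    (e2 : Function.Surjective ((Hn A n).map Φ.hom₂).hom)
    (b3 : Function.Bijective ((Hn A n).map Φ.hom₃).hom) :
    Function.Bijective ((Hn A n₁).map Φ.hom₁).hom := by
  have hδs : ∀ x : (Hn A n₁).obj T.obj₁, ∃ y, (HomologySequence.δ T n n₁ h).hom y = x := by
    intro x
    apply (exact₁_fun T hT n n₁ h x).1
    rw [z]
    rfl
  have hδs' : ∀ x : (Hn A n₁).obj T'.obj₁, ∃ y, (HomologySequence.δ T' n n₁ h).hom y = x := by
    intro x
    apply (exact₁_fun T' hT' n n₁ h x).1
    rw [z']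
    rfl
  constructor
  · rw [injective_iff_map_eq_zero]
    intro x hx
    obtain ⟨y, rfl⟩ := hδs x
    have h1 : (HomologySequence.δ T' n n₁ h).hom (((Hn A n).map Φ.hom₃).hom y) = 0 := by
      rw [δ_apply Φ n n₁ h y, hx]
    obtain ⟨w', hw'⟩ := (exact₃_fun T' hT' n n₁ h _).1 h1
    obtain ⟨w, rfl⟩ := e2 w'
    rw [comm₂_apply Φ n w] at hw'
    have h2 : ((Hn A n).map T.mor₂).hom w = y := b3.1 hw'
    rw [← h2]
    exact (exact₃_fun T hT n n₁ h _).2 ⟨w, rfl⟩
  · intro x'
    obtain ⟨y', rfl⟩ := hδs' x'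
    obtain ⟨y, rfl⟩ := b3.2 y'
    exact ⟨(HomologySequence.δ T n n₁ h).hom y, (δ_apply Φ n n₁ h y).symm⟩

end Ladder

/-! ### The Čech model -/

/-- the Čech model of `RΓ_{(gs)}(N[0])` -/
noncomputable abbrev KK (gs : List A) (N : ModuleCat.{u} A) : Dual.D A :=
  Q.obj (DerCA.extCech N gs)

section Ses

variable (I : Ideal A) [DRing.HasDerivedCompletion I]

theorem bijAt_mid_of_ses (S : ShortComplex (ModuleCat.{u} A)) (hS : S.ShortExact) (gs : List A)
    (n₀ n n₁ : ℤ) (h0 : n₀ + 1 = n) (h1 : n + 1 = n₁)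
    (a : BijAt I (KK gs S.X₃) n₀) (b : BijAt I (KK gs S.X₁) n) (c : BijAt I (KK gs S.X₃) n)
    (d : BijAt I (KK gs S.X₁) n₁) : BijAt I (KK gs S.X₂) n := by
  have hS' := cechSC_shortExact S hS gs
  have hT := triangleOfSES_distinguished hS'
  obtain ⟨M', α', β', hT', Φ, e₃, h₁, h₂, h₃⟩ := exists_completion_ladder I _ hT
  have a' : Function.Bijective ((Hn A n₀).map Φ.hom₃).hom :=
    (bijAt_iff_of_fac I e₃ Φ.hom₃ h₃ n₀).1 a
  have c' : Function.Bijective ((Hn A n).map Φ.hom₃).hom :=
    (bijAt_iff_of_fac I e₃ Φ.hom₃ h₃ n).1 c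
  have b' : Function.Bijective ((Hn A n).map Φ.hom₁).hom := by
    rw [h₁]
    exact b
  have d' : Function.Bijective ((Hn A n₁).map Φ.hom₁).hom := by
    rw [h₁]
    exact d
  have key := bijective_hom₂ hT hT' Φ n₀ n n₁ h0 h1 a'.2 b' c' d'.1
  rw [h₂] at key
  exact key

theorem bijAt_step_of_ses (S : ShortComplex (ModuleCat.{u} A)) (hS : S.ShortExact) (gs : List A)
    (n n₁ : ℤ) (h : n + 1 = n₁)
    (z : (Hn A n₁).map (Q.map (extCechMap S.f gs)) = 0)
    (z' : (Hn A n₁).map ((DRing.derivedCompletion I).map (Q.map (extCechMap S.f gs))).hom = 0)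
    (b : BijAt I (KK gs S.X₂) n) (c : BijAt I (KK gs S.X₃) n) : BijAt I (KK gs S.X₁) n₁ := by
  have hS' := cechSC_shortExact S hS gs
  have hT := triangleOfSES_distinguished hS'
  obtain ⟨M', α', β', hT', Φ, e₃, h₁, h₂, h₃⟩ := exists_completion_ladder I _ hT
  have c' : Function.Bijective ((Hn A n).map Φ.hom₃).hom :=
    (bijAt_iff_of_fac I e₃ Φ.hom₃ h₃ n).1 c
  have b' : Function.Bijective ((Hn A n).map Φ.hom₂).hom := by
    rw [h₂]
    exact b
  have key := bijective_hom₁ hT hT' Φ n n₁ h z z' b'.2 c'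
  rw [h₁] at key
  exact key

omit [DRing.HasDerivedCompletion I] in
theorem isDerivedComplete_KK_of_ses (S : ShortComplex (ModuleCat.{u} A)) (hS : S.ShortExact)
    (gs : List A) (h1 : DRing.IsDerivedComplete I (KK gs S.X₁))
    (h3 : DRing.IsDerivedComplete I (KK gs S.X₃)) :
    DRing.IsDerivedComplete I (KK gs S.X₂) := by
  have hS' := cechSC_shortExact S hS gs
  have hT := inv_rot_of_distTriang _ (triangleOfSES_distinguished hS')
  exact isDerivedComplete_of_distinguished I _ hT (isDerivedComplete_shift I _ h3 (-1)) h1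

/-! ### Multiplication by a regular element -/

omit [DRing.HasDerivedCompletion I] in
lemma extCechMap_smul_id (gs : List A) (N : ModuleCat.{u} A) (r : A) :
    extCechMap (r • 𝟙 N) gs = r • 𝟙 (DerCA.extCech N gs) := by
  refine HomologicalComplex.hom_ext _ _ fun i => ?_
  have h2 : (r • 𝟙 (DerCA.extCech N gs)).f i = r • 𝟙 ((DerCA.extCech N gs).X i) := by
    rw [HomologicalComplex.smul_f_apply, HomologicalComplex.id_f]
  rw [h2, extCechMap_f_eq, MonoidalLinear.smul_whiskerRight, MonoidalCategory.id_whiskerRight,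
    Linear.smul_comp, Linear.comp_smul, Category.id_comp, Iso.hom_inv_id]

omit [DRing.HasDerivedCompletion I] in
lemma Hn_map_smul_id_eq_zero (X : Dual.D A) (r : A) (n : ℤ)
    (h : ∀ x : (Hn A n).obj X, r • x = 0) : (Hn A n).map (r • 𝟙 X) = 0 := by
  rw [Functor.map_smul, CategoryTheory.Functor.map_id]
  refine ModuleCat.hom_ext (LinearMap.ext fun x => ?_)
  exact h x

theorem bijAt_step_smul (gs : List A) (M : Type u) [AddCommGroup M] [Module A M] (r : A)
    (hr : IsSMulRegular M r) (n n₁ : ℤ) (h : n + 1 = n₁)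
    (k1 : ∀ x : (Hn A n₁).obj (KK gs (ModuleCat.of A M)), r • x = 0)
    (k2 : ∀ x : (Hn A n₁).obj
      ((DRing.derivedCompletion I).obj (KK gs (ModuleCat.of A M))).obj, r • x = 0)
    (b : BijAt I (KK gs (ModuleCat.of A M)) n)
    (c : BijAt I (KK gs (ModuleCat.of A (QuotSMulTop r M))) n) :
    BijAt I (KK gs (ModuleCat.of A M)) n₁ := by
  have hex : Function.Exact (r • (LinearMap.id : M →ₗ[A] M))
      (Submodule.mkQ (r • (⊤ : Submodule A M))) := by
    intro m
    rw [Submodule.mkQ_apply, Submodule.Quotient.mk_eq_zero]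
    constructor
    · intro hm
      obtain ⟨m', _, hm'⟩ := (Submodule.mem_smul_pointwise_iff_exists _ _ _).1 hm
      exact ⟨m', hm'⟩
    · rintro ⟨m', rfl⟩
      exact Submodule.smul_mem_pointwise_smul _ _ _ Submodule.mem_top
  have hS := Groth.Agent.DepthLib.shortComplexOf_shortExact (r • (LinearMap.id : M →ₗ[A] M))
    (Submodule.mkQ (r • (⊤ : Submodule A M))) (fun x y hxy => hr hxy)
    (Submodule.mkQ_surjective _) hex
  have hf : (Groth.Agent.DepthLib.shortComplexOf (r • (LinearMap.id : M →ₗ[A] M))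
      (Submodule.mkQ (r • (⊤ : Submodule A M))) hex).f = r • 𝟙 (ModuleCat.of A M) := rfl
  have hq : Q.map (extCechMap (r • 𝟙 (ModuleCat.of A M)) gs) =
      r • 𝟙 (KK gs (ModuleCat.of A M)) := by
    rw [extCechMap_smul_id, Functor.map_smul, CategoryTheory.Functor.map_id]
  have z : (Hn A n₁).map (Q.map (extCechMap (r • 𝟙 (ModuleCat.of A M)) gs)) = 0 := by
    rw [hq]
    exact Hn_map_smul_id_eq_zero _ r n₁ k1
  have z' : (Hn A n₁).map ((DRing.derivedCompletion I).map
      (Q.map (extCechMap (r • 𝟙 (ModuleCat.of A M)) gs))).hom = 0 := by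
    rw [hq, completion_map_smul_id]
    exact Hn_map_smul_id_eq_zero _ r n₁ k2
  exact bijAt_step_of_ses I _ hS gs n n₁ h z z' b c

end Ses

/-! ### Derived completeness of the Čech model for torsion modules -/

theorem isDerivedComplete_KK_of_torsion [IsNoetherianRing A] (I : Ideal A) [IsAdicComplete I A]
    (gs : List A) (N : Type u) [AddCommGroup N] [Module A N] [Module.Finite A N]
    (hN : LocCoh.IsPowerTorsion (Ideal.span {x : A | x ∈ gs}) N) :
    DRing.IsDerivedComplete I (KK gs (ModuleCat.of A N)) := by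
  haveI : DRing.HasRgammaI (Ideal.span {x : A | x ∈ gs}) := hasRgammaI' _
  haveI : IsAdicComplete I N := Groth.Agent.Lib.InvCompleteH3.isAdicComplete_of_finite I N
  have hc : DRing.IsDerivedComplete I (Dual.inD A N) := Groth.Agent.S7048.result I N
  haveI : IsIso ((DRing.RgammaIε (Ideal.span {x : A | x ∈ gs})).app (Dual.inD A N)) :=
    S1813_main _ _ (fun i => Groth.Agent.Lib.FlatGlue.isPowerTorsion_HD_inD _ N hN i)
  exact isDerivedComplete_of_iso I
    ((gammaIso gs (ModuleCat.of A N)) ≪≫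
      asIso ((DRing.RgammaIε (Ideal.span {x : A | x ∈ gs})).app (Dual.inD A N))).symm hc

/-! ### Vanishing in negative degrees -/

theorem isZero_H_completion_KK_neg [IsNoetherianRing A] (I : Ideal A)
    [DRing.HasDerivedCompletion I] (gs : List A) (M : Type u) [AddCommGroup M] [Module A M]
    [Module.Finite A M] (i : ℤ) (hi : i < 0) :
    IsZero ((Hn A i).obj ((DRing.derivedCompletion I).obj (KK gs (ModuleCat.of A M))).obj) := by
  obtain ⟨fs, hfs⟩ := exists_list_span I
  subst hfs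
  have hc := isDerivedComplete_Q_limCx_Xn fs gs M
  obtain ⟨lam, -⟩ := exists_iso_of_universal
    (DRing.IsDerivedComplete (Ideal.span {x : A | x ∈ fs}))
    (DRing.derivedCompletionAdj (Ideal.span {x : A | x ∈ fs})) (KK gs (ModuleCat.of A M)) _ hc
    (Q.map (cMap (Ideal.span {x : A | x ∈ fs}) gs M)) (leq_cMap fs gs M)
  have hX : IsZero ((limCx (Xn (Ideal.span {x : A | x ∈ fs}) gs M)
      (τn (Ideal.span {x : A | x ∈ fs}) gs M)).X i) :=
    isZero_limCx_X _ _ i (fun n => Groth.Agent.Lib.ExtCechOldH7.isZero_X _ gs i (Or.inl hi))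
  have hz : IsZero ((limCx (Xn (Ideal.span {x : A | x ∈ fs}) gs M)
      (τn (Ideal.span {x : A | x ∈ fs}) gs M)).homology i) :=
    ShortComplex.isZero_homology_of_isZero_X₂ _ hX
  have hz2 : IsZero ((homologyFunctor (ModuleCat.{u} A) i).obj
      (Q.obj (limCx (Xn (Ideal.span {x : A | x ∈ fs}) gs M)
        (τn (Ideal.span {x : A | x ∈ fs}) gs M)))) :=
    hz.of_iso ((homologyFunctorFactors (ModuleCat.{u} A) i).app _)
  exact hz2.of_iso ((homologyFunctor (ModuleCat.{u} A) i).mapIso lam)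

theorem bijAt_neg [IsNoetherianRing A] (I : Ideal A) [DRing.HasDerivedCompletion I]
    (gs : List A) (M : Type u) [AddCommGroup M] [Module A M] [Module.Finite A M] (i : ℤ)
    (hi : i < 0) : BijAt I (KK gs (ModuleCat.of A M)) i :=
  BijAt.of_isZero I
    ((Groth.Agent.Lib.ExtCechOldH7.S9264 gs _ i (Or.inl hi)).of_iso
      ((homologyFunctorFactors (ModuleCat.{u} A) i).app _))
    (isZero_H_completion_KK_neg I gs M i hi)

/-! ### Annihilation -/

lemma nonempty_HT_equiv_of_eq (T T' : Set (PrimeSpectrum A)) (h : T = T') (i : ℕ) (M : Type u)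
    [AddCommGroup M] [Module A M] : Nonempty (Dual2.HT T i M ≃ₗ[A] Dual2.HT T' i M) := by
  subst h
  exact ⟨LinearEquiv.refl _ _⟩

lemma nonempty_H_equiv_of_zeroLocus_eq [IsNoetherianRing A] (K K' : Ideal A)
    (h : PrimeSpectrum.zeroLocus (K : Set A) = PrimeSpectrum.zeroLocus (K' : Set A)) (i : ℕ)
    (M : Type u) [AddCommGroup M] [Module A M] :
    Nonempty (LocCoh.H K i M ≃ₗ[A] LocCoh.H K' i M) := by
  obtain ⟨E1⟩ := nonempty_HT_equiv_locCoh K i M
  obtain ⟨E2⟩ := nonempty_HT_equiv_locCoh K' i M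
  obtain ⟨E3⟩ := nonempty_HT_equiv_of_eq _ _ h i M
  exact ⟨(E1.symm.trans E3).trans E2⟩

lemma smul_H_KK_eq_zero [IsNoetherianRing A] (gs : List A) (hne : gs ≠ []) (M : Type u)
    [AddCommGroup M] [Module A M] (j : ℕ) (r : A)
    (hr : ∀ x : LocCoh.H (Ideal.span {x : A | x ∈ gs}) j M, r • x = 0)
    (x : (Hn A (j : ℤ)).obj (KK gs (ModuleCat.of A M))) : r • x = 0 := by
  obtain ⟨β⟩ := Groth.Agent.S11623.result A gs hne M j
  have β' : (DerCA.extCech (ModuleCat.of A M) gs).homology (j : ℤ) ≅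
      (localCohomology (Ideal.span {x : A | x ∈ gs}) j).obj (ModuleCat.of A M) := β
  apply eq_zero_of_iso_hom ((homologyFunctorFactors (ModuleCat.{u} A) (j : ℤ)).app _ ≪≫ β')
  rw [map_smul]
  exact hr _

theorem smul_H_completion_KK_eq_zero [IsNoetherianRing A] (I : Ideal A)
    [DRing.HasDerivedCompletion I] (gs : List A) (M : Type u) [AddCommGroup M] [Module A M]
    (d s : ℕ) (hcd : LocCoh.CdLE A I d) (K : Ideal A)
    (hK : ∀ q : PrimeSpectrum A, K ≤ q.asIdeal ↔
      I ≤ q.asIdeal ∧ Ideal.span {x : A | x ∈ gs} ≤ q.asIdeal)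
    (f : A) (hf : ∀ j : ℕ, j ≤ d + s → ∀ x : LocCoh.H K j M, f • x = 0) (i : ℤ) (hi : i ≤ s)
    (x : (Hn A i).obj ((DRing.derivedCompletion I).obj (KK gs (ModuleCat.of A M))).obj) :
    f ^ (d + s + 1) • x = 0 := by
  obtain ⟨fs, hfs, hI⟩ := exists_list_span_ne_nil I
  subst hI
  haveI : DRing.HasRgammaI (Ideal.span {x : A | x ∈ gs}) := hasRgammaI' _
  have hzl : PrimeSpectrum.zeroLocus ((Ideal.span {x : A | x ∈ fs ++ gs} : Ideal A) : Set A) =
      PrimeSpectrum.zeroLocus (K : Set A) := by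
    ext q
    rw [PrimeSpectrum.mem_zeroLocus, PrimeSpectrum.mem_zeroLocus, SetLike.coe_subset_coe,
      SetLike.coe_subset_coe, span_append_le_iff, hK]
  have hf' : ∀ j : ℕ, j ≤ d + s →
      ∀ y : LocCoh.H (Ideal.span {x : A | x ∈ fs ++ gs}) j M, f • y = 0 := by
    intro j hj y
    obtain ⟨E⟩ := nonempty_H_equiv_of_zeroLocus_eq _ K hzl j M
    apply E.injective
    rw [map_smul, map_zero]
    exact hf j hj _
  apply eq_zero_of_iso_hom ((Hn A i).mapIso
    ((ObjectProperty.ι (DRing.IsDerivedComplete (Ideal.span {x : A | x ∈ fs}))).mapIso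
      ((DRing.derivedCompletion (Ideal.span {x : A | x ∈ fs})).mapIso
        (gammaIso gs (ModuleCat.of A M)))))
  rw [map_smul]
  exact core fs gs hfs M d s hcd f hf' i hi _

/-! ### Transport to `RΓ_J` -/

lemma bijAt_RgammaI [IsNoetherianRing A] (I : Ideal A) [DRing.HasDerivedCompletion I]
    (gs : List A) [DRing.HasRgammaI (Ideal.span {x : A | x ∈ gs})] (M : Type u)
    [AddCommGroup M] [Module A M] (i : ℤ) (h : BijAt I (KK gs (ModuleCat.of A M)) i) :
    BijAt I ((DRing.RgammaI (Ideal.span {x : A | x ∈ gs})).obj (Dual.inD A M)) i :=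
  h.of_iso I (gammaIso gs (ModuleCat.of A M))


/-! ### Degree `0` -/

theorem H0_eps [IsNoetherianRing A] (gs : List A)
    [DRing.HasRgammaI (Ideal.span {x : A | x ∈ gs})] (N : ModuleCat.{u} A) :
    (∀ x x' : (Hn A 0).obj ((DRing.RgammaI (Ideal.span {x : A | x ∈ gs})).obj
        ((singleFunctor (ModuleCat.{u} A) 0).obj N)),
      ((Hn A 0).map ((DRing.RgammaIε (Ideal.span {x : A | x ∈ gs})).app
          ((singleFunctor (ModuleCat.{u} A) 0).obj N))).hom x =
        ((Hn A 0).map ((DRing.RgammaIε (Ideal.span {x : A | x ∈ gs})).app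
          ((singleFunctor (ModuleCat.{u} A) 0).obj N))).hom x' → x = x') ∧
    ∀ m : N, (∀ g ∈ gs, ∃ k : ℕ, g ^ k • m = 0) →
      ∃ x : (Hn A 0).obj ((DRing.RgammaI (Ideal.span {x : A | x ∈ gs})).obj
        ((singleFunctor (ModuleCat.{u} A) 0).obj N)),
        ((singleFunctorCompHomologyFunctorIso (ModuleCat.{u} A) 0).hom.app N).hom
          (((Hn A 0).map ((DRing.RgammaIε (Ideal.span {x : A | x ∈ gs})).app
            ((singleFunctor (ModuleCat.{u} A) 0).obj N))).hom x) = m := by
  obtain ⟨ε, hε⟩ : ∃ ε, ε = (DRing.RgammaIε (Ideal.span {x : A | x ∈ gs})).app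
      ((singleFunctor (ModuleCat.{u} A) 0).obj N) := ⟨_, rfl⟩
  rw [← hε]
  have hγ : (gammaIso gs N).hom ≫ ε = Q.map (epsC N gs) ≫ (sIso N).hom := by
    rw [hε]
    exact gammaIso_eps gs N
  have key : (Hn A 0).map (gammaIso gs N).hom ≫ (Hn A 0).map ε ≫
      (singleFunctorCompHomologyFunctorIso (ModuleCat.{u} A) 0).hom.app N =
      (homologyFunctorFactors (ModuleCat.{u} A) 0).hom.app (DerCA.extCech N gs) ≫
        HomologicalComplex.homologyMap (epsC N gs) 0 ≫
        (HomologicalComplex.singleObjHomologySelfIso (ComplexShape.up ℤ) 0 N).hom := by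
    rw [← Category.assoc, ← Functor.map_comp, hγ]
    exact H0_map_Q_sIso N (epsC N gs)
  have hkey : ∀ w : (Hn A 0).obj (KK gs N),
      ((singleFunctorCompHomologyFunctorIso (ModuleCat.{u} A) 0).hom.app N).hom
        (((Hn A 0).map ε).hom (((Hn A 0).map (gammaIso gs N).hom).hom w)) =
      ιH gs N (((homologyFunctorFactors (ModuleCat.{u} A) 0).hom.app (DerCA.extCech N gs)).hom w) := by
    intro w
    rw [ιH_eq]
    exact congrArg (fun t => t.hom w) key
  have hγ1 : ∀ x, ((Hn A 0).map (gammaIso gs N).hom).hom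
      (((Hn A 0).map (gammaIso gs N).inv).hom x) = x := by
    intro x
    have h1 : (Hn A 0).map (gammaIso gs N).inv ≫ (Hn A 0).map (gammaIso gs N).hom = 𝟙 _ := by
      rw [← Functor.map_comp, Iso.inv_hom_id, CategoryTheory.Functor.map_id]
    exact congrArg (fun t => t.hom x) h1
  have hFFinj : Function.Injective
      ((homologyFunctorFactors (ModuleCat.{u} A) 0).hom.app (DerCA.extCech N gs)).hom :=
    (bijective_hom_of_isIso _).1
  have hFFsurj : Function.Surjective
      ((homologyFunctorFactors (ModuleCat.{u} A) 0).hom.app (DerCA.extCech N gs)).hom :=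
    (bijective_hom_of_isIso _).2
  have hγinj : Function.Injective ((Hn A 0).map (gammaIso gs N).inv).hom :=
    (bijective_hom_of_isIso _).1
  refine ⟨fun x x' hxx => ?_, fun m hm => ?_⟩
  · apply hγinj
    apply hFFinj
    apply (H0_all' gs N).2.1
    rw [← hkey, ← hkey, hγ1, hγ1, hxx]
  · obtain ⟨y, hy⟩ := ((H0_all' gs N).2.2 m).2 hm
    obtain ⟨w, rfl⟩ := hFFsurj y
    exact ⟨((Hn A 0).map (gammaIso gs N).hom).hom w, (hkey w).trans hy⟩

theorem bijAt_zero [IsNoetherianRing A] (I : Ideal A) [IsAdicComplete I A]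
    [DRing.HasDerivedCompletion I] (gs : List A) (M : Type u) [AddCommGroup M] [Module A M]
    [Module.Finite A M]
    (htors : ∀ J' : Ideal A, J' ≤ Ideal.span {x : A | x ∈ gs} →
      Ideal.span {x : A | x ∈ gs} ≤ (J' ⊔ I).radical → ∀ s ∈ DRing.torsionSub J' M,
      ∀ g ∈ gs, ∃ k : ℕ, g ^ k • s = 0) :
    BijAt I (KK gs (ModuleCat.of A M)) 0 := by
  haveI : DRing.HasRgammaI (Ideal.span {x : A | x ∈ gs}) := hasRgammaI' _
  suffices hX : BijAt I ((DRing.RgammaI (Ideal.span {x : A | x ∈ gs})).obj (Dual.inD A M)) 0 from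
    hX.of_iso I (gammaIso gs (ModuleCat.of A M)).symm
  obtain ⟨hinj, hrange⟩ := main13497 I (Ideal.span {x : A | x ∈ gs}) M
  obtain ⟨ε, hε⟩ : ∃ ε, ε = (DRing.RgammaIε (Ideal.span {x : A | x ∈ gs})).app (Dual.inD A M) :=
    ⟨_, rfl⟩
  rw [← hε] at hinj hrange
  obtain ⟨ψ, hψ⟩ : ∃ ψ, ψ = (Hn A 0).map ((ObjectProperty.ι (DRing.IsDerivedComplete I)).map
      ((DRing.derivedCompletion I).map ε)) := ⟨_, rfl⟩
  have hinj' : Function.Injective ψ.hom := by rw [hψ]; exact hinj
  have hrange' : Set.range ψ.hom =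
      (fun s : M => ((Hn A 0).map (DRing.toDerivedCompletion I (Dual.inD A M))).hom
        (((singleFunctorCompHomologyFunctorIso (ModuleCat.{u} A) 0).inv.app
          (ModuleCat.of A M)).hom s)) ''
        {s : M | ∃ J' : Ideal A, J' ≤ Ideal.span {x : A | x ∈ gs} ∧
          Ideal.span {x : A | x ∈ gs} ≤ (J' ⊔ I).radical ∧ s ∈ DRing.torsionSub J' M} := by
    rw [hψ]
    exact hrange
  have hnat : DRing.toDerivedCompletion I
        ((DRing.RgammaI (Ideal.span {x : A | x ∈ gs})).obj (Dual.inD A M)) ≫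
      (ObjectProperty.ι (DRing.IsDerivedComplete I)).map ((DRing.derivedCompletion I).map ε) =
      ε ≫ DRing.toDerivedCompletion I (Dual.inD A M) :=
    ((DRing.derivedCompletionAdj I).unit.naturality ε).symm
  have hsq : ∀ x, ψ.hom (((Hn A 0).map (DRing.toDerivedCompletion I
      ((DRing.RgammaI (Ideal.span {x : A | x ∈ gs})).obj (Dual.inD A M)))).hom x) =
      ((Hn A 0).map (DRing.toDerivedCompletion I (Dual.inD A M))).hom
        (((Hn A 0).map ε).hom x) := by
    intro x
    have h1 : (Hn A 0).map (DRing.toDerivedCompletion I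
        ((DRing.RgammaI (Ideal.span {x : A | x ∈ gs})).obj (Dual.inD A M))) ≫ ψ =
        (Hn A 0).map ε ≫ (Hn A 0).map (DRing.toDerivedCompletion I (Dual.inD A M)) := by
      rw [hψ, ← Functor.map_comp, ← Functor.map_comp, hnat]
    exact congrArg (fun t => t.hom x) h1
  haveI : IsAdicComplete I M := Groth.Agent.Lib.InvCompleteH3.isAdicComplete_of_finite I M
  have hM : DRing.IsDerivedComplete I (Dual.inD A M) := Groth.Agent.S7048.result I M
  have hb : Function.Bijective
      ((Hn A 0).map (DRing.toDerivedCompletion I (Dual.inD A M))).hom :=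
    BijAt.of_complete I hM 0
  obtain ⟨he_inj, he_range⟩ := H0_eps gs (ModuleCat.of A M)
  have hσ : ∀ y, ((singleFunctorCompHomologyFunctorIso (ModuleCat.{u} A) 0).inv.app
      (ModuleCat.of A M)).hom (((singleFunctorCompHomologyFunctorIso (ModuleCat.{u} A) 0).hom.app
        (ModuleCat.of A M)).hom y) = y := by
    intro y
    exact congrArg (fun t => t.hom y)
      ((singleFunctorCompHomologyFunctorIso (ModuleCat.{u} A) 0).hom_inv_id_app (ModuleCat.of A M))
  constructor
  · intro x x' hxx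
    have h1 := congrArg ψ.hom hxx
    rw [hsq, hsq] at h1
    apply he_inj
    rw [← hε]
    exact hb.1 h1
  · intro y
    have hy : ψ.hom y ∈ Set.range ψ.hom := ⟨y, rfl⟩
    rw [hrange'] at hy
    obtain ⟨s, ⟨J', hJ'1, hJ'2, hs⟩, hβ⟩ := hy
    obtain ⟨x, hx⟩ := he_range s (htors J' hJ'1 hJ'2 s hs)
    refine ⟨x, ?_⟩
    apply hinj'
    rw [hsq, ← hβ]
    show ((Hn A 0).map (DRing.toDerivedCompletion I (Dual.inD A M))).hom _ =
      ((Hn A 0).map (DRing.toDerivedCompletion I (Dual.inD A M))).hom _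
    congr 1
    rw [← hx, hσ, hε]

end Groth.Agent.Lib.LCcH1
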