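import Mathlib
import Groth.Agent.Lib.Ann5_helper1
import Groth.Agent.Lib.NonVan4_helper7
import Groth.Agent.Lib.DepthSemi_helper6
import Groth.Agent.Lib.DepthSk_helper5
import Groth.Agent.Lib.DepthHom_helper5
import Groth.Agent.Lib.LocCohFin_helper7
import Groth.Agent.Lib.DepthAlongOpen_helper2

/-!
# Comparing `RΓ_J(M)` with its derived completion: the commutative algebra (helper1)
-/

set_option autoImplicit false
universe u
open CategoryTheory
open scoped Pointwise

attribute [local instance] HasDerivedCategory.standard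

namespace Groth.Agent.Lib.LCcH1

open Groth.Agent.Lib.AnnH1 IsLocalRing

variable {A : Type u} [CommRing A]

/-! ### Dimension -/

lemma dimBetween_eq (p q : PrimeSpectrum A) (hq : ∀ r : PrimeSpectrum A, r ≤ q) :
    Formal2.dimBetween A p.asIdeal q.asIdeal = ringKrullDim (A ⧸ p.asIdeal) := by
  rw [ringKrullDim_quotient]
  apply le_antisymm
  · refine (dimBetween_le_krullDim_Icc p q).trans ?_
    exact Order.krullDim_le_of_strictMono
      (fun r : Set.Icc p q => (⟨r.1, (PrimeSpectrum.mem_zeroLocus _ _).2 r.2.1⟩ :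
        PrimeSpectrum.zeroLocus (p.asIdeal : Set A)))
      (fun r r' h => h)
  · refine le_trans ?_ (krullDim_Icc_le_dimBetween p q)
    exact Order.krullDim_le_of_strictMono
      (fun r : PrimeSpectrum.zeroLocus (p.asIdeal : Set A) =>
        (⟨r.1, (PrimeSpectrum.mem_zeroLocus _ _).1 r.2, hq r.1⟩ : Set.Icc p q))
      (fun r r' h => h)

section Local

variable [IsLocalRing A]

lemma le_closedPoint (r : PrimeSpectrum A) : r ≤ closedPoint A :=
  IsLocalRing.le_maximalIdeal r.isPrime.ne_top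

lemma eq_closedPoint_of_le {q : PrimeSpectrum A} (h : maximalIdeal A ≤ q.asIdeal) :
    q = closedPoint A :=
  PrimeSpectrum.ext ((maximalIdeal.isMaximal A).eq_of_le q.isPrime.ne_top h).symm

lemma zeroLocus_max_inter (I : Ideal A) (hI : I ≤ maximalIdeal A) :
    PrimeSpectrum.zeroLocus ((maximalIdeal A : Ideal A) : Set A) ∩
      PrimeSpectrum.zeroLocus ((I : Ideal A) : Set A) = {closedPoint A} := by
  ext q
  constructor
  · rintro ⟨h1, -⟩
    exact eq_closedPoint_of_le ((PrimeSpectrum.mem_zeroLocus _ _).1 h1)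
  · intro hq
    rw [Set.mem_singleton_iff] at hq
    subst hq
    exact ⟨(PrimeSpectrum.mem_zeroLocus _ _).2 (le_refl (maximalIdeal A)),
      (PrimeSpectrum.mem_zeroLocus _ _).2 hI⟩

/-- the primes whose closure meets `V(I)` only in the closed point -/
def TT (A : Type u) [CommRing A] [IsLocalRing A] (I : Ideal A) : Set (PrimeSpectrum A) :=
  {p | ∀ q : PrimeSpectrum A, p ≤ q → I ≤ q.asIdeal → maximalIdeal A ≤ q.asIdeal}

lemma exists_of_not_mem_TT {I : Ideal A} {p : PrimeSpectrum A} (hp : p ∉ TT A I) :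
    ∃ r : PrimeSpectrum A, p ≤ r ∧ I ≤ r.asIdeal ∧ r.asIdeal ≠ maximalIdeal A := by
  by_contra hcon
  apply hp
  intro q h1 h2
  by_contra h3
  exact hcon ⟨q, h1, h2, fun h => h3 h.ge⟩

lemma not_mem_TT_of {I : Ideal A} {p : PrimeSpectrum A}
    (h : ∃ r : PrimeSpectrum A, p ≤ r ∧ I ≤ r.asIdeal ∧ r.asIdeal ≠ maximalIdeal A) :
    p ∉ TT A I := by
  obtain ⟨r, h1, h2, h3⟩ := h
  intro hp
  exact h3 (congrArg PrimeSpectrum.asIdeal (eq_closedPoint_of_le (hp r h1 h2)))

/-- `dim A/p ≤ cd(A, I)` when `V(p) ∩ V(I)` is the closed point -/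
lemma ringKrullDim_quotient_le_of_cdLE [IsNoetherianRing A] (I : Ideal A) (d : ℕ)
    (hcd : LocCoh.CdLE A I d) (hI : I ≤ maximalIdeal A) (p : PrimeSpectrum A)
    (hp : p ∈ TT A I) : ringKrullDim (A ⧸ p.asIdeal) ≤ ((d : ℕ∞) : WithBot ℕ∞) := by
  haveI := p.isPrime
  have hrad : (p.asIdeal ⊔ I).radical = maximalIdeal A := by
    rw [Ideal.radical_eq_sInf]
    apply le_antisymm
    · exact sInf_le ⟨sup_le (IsLocalRing.le_maximalIdeal p.isPrime.ne_top) hI,
        (maximalIdeal.isMaximal A).isPrime⟩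
    · refine le_sInf ?_
      rintro Q ⟨hQ, hQp⟩
      exact hp ⟨Q, hQp⟩ (le_sup_left.trans hQ) (le_sup_right.trans hQ)
  have hne_bot : ringKrullDim (A ⧸ p.asIdeal) ≠ ⊥ := by
    intro h
    have := ringKrullDim_nonneg_of_nontrivial (R := A ⧸ p.asIdeal)
    rw [h] at this
    exact absurd this (by simp)
  have hne_top : ringKrullDim (A ⧸ p.asIdeal) ≠ ⊤ :=
    ne_top_of_le_ne_top ringKrullDim_ne_top (ringKrullDim_quotient_le p.asIdeal)
  obtain ⟨t, ht⟩ := WithBot.ne_bot_iff_exists.1 hne_bot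
  have ht' : t ≠ ⊤ := by
    rintro rfl
    exact hne_top ht.symm
  obtain ⟨n, hn⟩ := ENat.ne_top_iff_exists.1 ht'
  rw [← ht, ← hn, WithBot.coe_le_coe]
  by_contra hcon
  have hdn : d < n := by
    rw [not_le] at hcon
    exact_mod_cast hcon
  have hd : ringKrullDim (A ⧸ p.asIdeal) = n := by
    rw [← ht, ← hn]
    rfl
  refine Groth.Agent.Lib.NonVan4H7.not_cdLE I p.asIdeal hrad n hd (by omega) ?_
  intro N _ _ i hi
  exact hcd N i (by omega)

/-- hypothesis (4) -/
def H4 (I : Ideal A) (d s : ℕ) (M : Type u) [AddCommGroup M] [Module A M] : Prop :=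
  ∀ p : PrimeSpectrum A, ¬ I ≤ p.asIdeal →
    (∃ r : PrimeSpectrum A, p ≤ r ∧ I ≤ r.asIdeal ∧ r.asIdeal ≠ maximalIdeal A) →
    (s : ℕ∞) ≤ dep M p ∨ (((d + s : ℕ) : ℕ∞) : WithBot ℕ∞) <
      ((dep M p : ℕ∞) : WithBot ℕ∞) + ringKrullDim (A ⧸ p.asIdeal)

theorem nonempty_ctx_local [IsNoetherianRing A] (hdc : ∃ ω : Dual.D A, Dual.IsDualizing A ω)
    (I : Ideal A) (hI : I ≤ maximalIdeal A) (d : ℕ) (hcd : LocCoh.CdLE A I d) (M : Type u)
    [AddCommGroup M] [Module A M] [Module.Finite A M] (s : ℕ) (h4 : H4 I d s M) :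
    Nonempty (Ctx M I (maximalIdeal A) s d (TT A I)) := by
  refine nonempty_ctx hdc I (maximalIdeal A) M s d (TT A I) (fun p => Iff.rfl) ?_ ?_
  · intro p hpI hpT
    refine ⟨closedPoint A, le_closedPoint p, le_refl (maximalIdeal A), hI, ?_⟩
    rw [dimBetween_eq p (closedPoint A) le_closedPoint]
    exact ringKrullDim_quotient_le_of_cdLE I d hcd hI p hpT
  · intro p hpI hpT q hpq hqm hqI
    have hq : ∀ r : PrimeSpectrum A, r ≤ q := by
      intro r
      rw [eq_closedPoint_of_le hqm]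
      exact le_closedPoint r
    rw [dimBetween_eq p q hq]
    exact h4 p hpI (exists_of_not_mem_TT hpT)

theorem exists_kill_m [IsNoetherianRing A] (hdc : ∃ ω : Dual.D A, Dual.IsDualizing A ω)
    (M : Type u) [AddCommGroup M] [Module A M] [Module.Finite A M] (p : PrimeSpectrum A)
    (hpm : p.asIdeal ≠ maximalIdeal A) (n : ℕ)
    (h3 : ((n : ℕ∞) : WithBot ℕ∞) < ((dep M p : ℕ∞) : WithBot ℕ∞) +
      ringKrullDim (A ⧸ p.asIdeal)) :
    ∃ f : A, f ∉ p.asIdeal ∧ ∀ j : ℕ, j ≤ n →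
      ∀ x : LocCoh.H (maximalIdeal A) j M, f • x = 0 := by
  have hp : ¬ maximalIdeal A ≤ p.asIdeal := fun h =>
    hpm ((maximalIdeal.isMaximal A).eq_of_le p.isPrime.ne_top h).symm
  refine Groth.Agent.S1765.result A hdc (maximalIdeal A) M p hp n ?_
  intro p' q hp' hq hp'q
  have hall : ∀ r : PrimeSpectrum A, r ≤ q := by
    intro r
    rw [eq_closedPoint_of_le hq]
    exact le_closedPoint r
  have h5 := Groth.Agent.S11650.result A M p'.asIdeal p.asIdeal hp'
  have h6 := height_add_dim_le p' p q hp' (hall p) hall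
  calc ((n : ℕ) : WithBot ℕ∞) = (((n : ℕ) : ℕ∞) : WithBot ℕ∞) := rfl
    _ < ((LocCoh.depth (Localization.AtPrime p.asIdeal)
        (LocalizedModule p.asIdeal.primeCompl M) : ℕ∞) : WithBot ℕ∞) +
        ringKrullDim (A ⧸ p.asIdeal) := h3
    _ ≤ ((LocCoh.depth (Localization.AtPrime p'.asIdeal)
        (LocalizedModule p'.asIdeal.primeCompl M) +
          (p.asIdeal.map (Ideal.Quotient.mk p'.asIdeal)).height : ℕ∞) : WithBot ℕ∞) +
        ringKrullDim (A ⧸ p.asIdeal) := add_le_add (WithBot.coe_le_coe.2 h5) le_rfl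
    _ = ((LocCoh.depth (Localization.AtPrime p'.asIdeal)
        (LocalizedModule p'.asIdeal.primeCompl M) : ℕ∞) : WithBot ℕ∞) +
        ((((p.asIdeal.map (Ideal.Quotient.mk p'.asIdeal)).height : ℕ∞) : WithBot ℕ∞) +
          ringKrullDim (A ⧸ p.asIdeal)) := by rw [WithBot.coe_add, add_assoc]
    _ ≤ ((LocCoh.depth (Localization.AtPrime p'.asIdeal)
        (LocalizedModule p'.asIdeal.primeCompl M) : ℕ∞) : WithBot ℕ∞) +
        Order.krullDim (Set.Icc p' q) := add_le_add le_rfl h6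

end Local


/-! ### Torsion submodules -/

section Torsion

variable [IsNoetherianRing A]

lemma exists_pow_kills_torsionSub (𝔟 : Ideal A) (M : Type u) [AddCommGroup M] [Module A M]
    [Module.Finite A M] : ∃ k : ℕ, ∀ a ∈ 𝔟 ^ k, ∀ x ∈ DRing.torsionSub 𝔟 M, a • x = 0 := by
  classical
  obtain ⟨S, hS⟩ := (IsNoetherian.noetherian (DRing.torsionSub 𝔟 M) : (DRing.torsionSub 𝔟 M).FG)
  have hS' : ∀ s ∈ S, ∃ n : ℕ, ∀ a ∈ 𝔟 ^ n, a • s = 0 := fun s hs => by
    have h1 : s ∈ DRing.torsionSub 𝔟 M := by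
      rw [← hS]
      exact Submodule.subset_span hs
    exact h1
  choose! k hk using hS'
  refine ⟨S.sup k, fun a ha x hx => ?_⟩
  rw [← hS] at hx
  refine Submodule.span_induction (p := fun x _ => a • x = 0) ?_ ?_ ?_ ?_ hx
  · intro s hs
    exact hk s hs a (Ideal.pow_le_pow_right (Finset.le_sup hs) ha)
  · exact smul_zero a
  · intro x y _ _ hx hy
    rw [smul_add, hx, hy, add_zero]
  · intro c x _ hx
    rw [smul_comm, hx, smul_zero]

theorem dep_quot_torsionSub (𝔟 : Ideal A) (M : Type u) [AddCommGroup M] [Module A M]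
    [Module.Finite A M] (p : PrimeSpectrum A) (hp : ¬ 𝔟 ≤ p.asIdeal) :
    dep (M ⧸ DRing.torsionSub 𝔟 M) p = dep M p := by
  haveI := p.isPrime
  obtain ⟨b, hb𝔟, hbp⟩ := Set.not_subset.1 hp
  obtain ⟨φ, hφ⟩ : ∃ φ : M →ₗ[A] LocalizedModule p.asIdeal.primeCompl (M ⧸ DRing.torsionSub 𝔟 M),
      φ = (LocalizedModule.mkLinearMap p.asIdeal.primeCompl (M ⧸ DRing.torsionSub 𝔟 M)).comp
        (DRing.torsionSub 𝔟 M).mkQ := ⟨_, rfl⟩
  haveI : IsLocalizedModule p.asIdeal.primeCompl φ := by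
    refine ⟨?_, ?_, ?_⟩
    · exact IsLocalizedModule.map_units
        (LocalizedModule.mkLinearMap p.asIdeal.primeCompl (M ⧸ DRing.torsionSub 𝔟 M))
    · intro y
      obtain ⟨⟨m', s⟩, hms⟩ := IsLocalizedModule.surj p.asIdeal.primeCompl
        (LocalizedModule.mkLinearMap p.asIdeal.primeCompl (M ⧸ DRing.torsionSub 𝔟 M)) y
      obtain ⟨m, rfl⟩ := Submodule.mkQ_surjective _ m'
      refine ⟨⟨m, s⟩, ?_⟩
      rw [hφ]
      exact hms
    · intro x₁ x₂ h
      rw [hφ] at h
      obtain ⟨c, hc⟩ := IsLocalizedModule.exists_of_eq (S := p.asIdeal.primeCompl)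
        (f := LocalizedModule.mkLinearMap p.asIdeal.primeCompl (M ⧸ DRing.torsionSub 𝔟 M)) h
      have hc' : (c : A) • (Submodule.Quotient.mk x₁ : M ⧸ DRing.torsionSub 𝔟 M) =
          (c : A) • (Submodule.Quotient.mk x₂ : M ⧸ DRing.torsionSub 𝔟 M) := hc
      have h1 : (c : A) • (x₁ - x₂) ∈ DRing.torsionSub 𝔟 M := by
        rw [← Submodule.Quotient.mk_eq_zero, Submodule.Quotient.mk_smul,
          Submodule.Quotient.mk_sub, smul_sub, sub_eq_zero]
        exact hc'
      obtain ⟨n, hn⟩ := h1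
      refine ⟨⟨b ^ n * c, p.asIdeal.primeCompl.mul_mem (pow_mem hbp n) c.2⟩, ?_⟩
      have h2 := hn (b ^ n) (Ideal.pow_mem_pow hb𝔟 n)
      show (b ^ n * (c : A)) • x₁ = (b ^ n * (c : A)) • x₂
      rw [← sub_eq_zero, ← smul_sub, mul_smul]
      exact h2
  exact Groth.Agent.Lib.DepthAlongOpen.depth_eq_of_isLocalizedModule A p.asIdeal
    (Localization.AtPrime p.asIdeal) M
    (LocalizedModule p.asIdeal.primeCompl (M ⧸ DRing.torsionSub 𝔟 M)) φ

lemma not_le_of_mem_associatedPrimes_quot (𝔟 : Ideal A) (M : Type u) [AddCommGroup M]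
    [Module A M] {p : Ideal A} (hp : p ∈ associatedPrimes A (M ⧸ DRing.torsionSub 𝔟 M)) :
    ¬ 𝔟 ≤ p := by
  intro hle
  obtain ⟨hprime, x, hx⟩ := isAssociatedPrime_iff.1 hp
  have hx0 : x ∈ DRing.torsionSub 𝔟 (M ⧸ DRing.torsionSub 𝔟 M) := by
    refine ⟨1, fun a ha => ?_⟩
    rw [pow_one] at ha
    have h1 : a ∈ (⊥ : Submodule A (M ⧸ DRing.torsionSub 𝔟 M)).colon {x} := hx ▸ hle ha
    exact (Submodule.mem_bot A).1 (Submodule.mem_colon_singleton.1 h1)
  rw [Groth.Agent.Lib.LocCohFinH7.torsionSub_quot_eq_bot, Submodule.mem_bot] at hx0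
  apply hprime.ne_top
  rw [Ideal.eq_top_iff_one, hx, Submodule.mem_colon_singleton, hx0, smul_zero]
  exact Submodule.zero_mem _

theorem torsionSub_le_of_ass (K K₀ : Ideal A) (M : Type u) [AddCommGroup M] [Module A M]
    [Module.Finite A M] (h : ∀ p ∈ associatedPrimes A M, K ≤ p → K₀ ≤ p) :
    DRing.torsionSub K M ≤ DRing.torsionSub K₀ M := by
  intro s hs
  obtain ⟨n, hn⟩ := hs
  have hle : K₀ ≤ (Ideal.torsionOf A M s).radical := by
    rw [← Ideal.sInf_minimalPrimes]
    refine le_sInf fun p hp => ?_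
    have hpass : p ∈ associatedPrimes A M := by
      have h1 : p ∈ associatedPrimes A (Submodule.span A {s}) := by
        apply Module.associatedPrimes.minimalPrimes_annihilator_subset_associatedPrimes
        have he : Module.annihilator A ↥(Submodule.span A {s}) = Ideal.torsionOf A M s :=
          Ideal.annihilator_span_singleton_eq_torsionOf s
        rw [he]
        exact hp
      exact associatedPrimes.subset_of_injective (Submodule.injective_subtype _) h1
    apply h p hpass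
    have h2 : K ^ n ≤ p := fun a ha => hp.1.2 ((Ideal.mem_torsionOf_iff s a).2 (hn a ha))
    exact hp.1.1.le_of_pow_le h2
  obtain ⟨k, hk⟩ := Ideal.exists_pow_le_of_le_radical_of_fg hle (IsNoetherian.noetherian K₀)
  exact ⟨k, fun a ha => (Ideal.mem_torsionOf_iff s a).1 (hk ha)⟩

/-! ### Regular elements -/

theorem exists_regular_mem (M : Type u) [AddCommGroup M] [Module A M] [Module.Finite A M]
    (𝔠 : Ideal A) (h : ∀ p ∈ associatedPrimes A M, ¬ 𝔠 ≤ p) :
    ∃ f ∈ 𝔠, IsSMulRegular M f := by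
  classical
  have hfin : (associatedPrimes A M).Finite := associatedPrimes.finite A M
  by_contra hcon
  have hsub : (𝔠 : Set A) ⊆ ⋃ p ∈ (hfin.toFinset : Set (Ideal A)), ((id p : Ideal A) : Set A) := by
    intro f hf
    have h1 : f ∈ {r : A | IsSMulRegular M r}ᶜ := fun hreg => hcon ⟨f, hf, hreg⟩
    rw [← biUnion_associatedPrimes_eq_compl_regular A M] at h1
    obtain ⟨p, hp, hfp⟩ := Set.mem_iUnion₂.1 h1
    exact Set.mem_iUnion₂.2 ⟨p, Finset.mem_coe.2 (hfin.mem_toFinset.2 hp), hfp⟩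
  obtain ⟨p, hp, hle⟩ := (Ideal.subset_union_prime (s := hfin.toFinset) (f := id) ⊥ ⊥
    (fun i hi _ _ => (hfin.mem_toFinset.1 hi).isPrime)).1 hsub
  exact h p (hfin.mem_toFinset.1 hp) hle

theorem dep_quotSMulTop (M : Type u) [AddCommGroup M] [Module A M] [Module.Finite A M] (r : A)
    (hr : IsSMulRegular M r) (p : PrimeSpectrum A) :
    (r ∈ p.asIdeal → dep M p = dep (QuotSMulTop r M) p + 1) ∧
      (r ∉ p.asIdeal → dep (QuotSMulTop r M) p = ⊤) := by
  haveI := p.isPrime
  constructor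
  · intro hrp
    exact Groth.Agent.Lib.DepthSemi_helper6.depth_localized_eq_add_one M r 1
      (fun m hm => by
        have h0 : m = 0 := hr (show r • m = r • (0 : M) by rw [hm, smul_zero])
        rw [h0, smul_zero]) p.asIdeal hrp
      (fun h1 => p.isPrime.ne_top ((Ideal.eq_top_iff_one _).2 h1))
  · intro hrp
    haveI : Subsingleton (LocalizedModule p.asIdeal.primeCompl (QuotSMulTop r M)) := by
      rw [LocalizedModule.subsingleton_iff]
      intro m
      refine ⟨r, hrp, ?_⟩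
      obtain ⟨m', rfl⟩ := Submodule.mkQ_surjective _ m
      rw [← map_smul, Submodule.mkQ_apply, Submodule.Quotient.mk_eq_zero]
      exact Submodule.smul_mem_pointwise_smul _ _ _ Submodule.mem_top
    haveI : IsNoetherianRing (Localization.AtPrime p.asIdeal) :=
      IsLocalization.isNoetherianRing p.asIdeal.primeCompl _ inferInstance
    unfold dep LocCoh.depth
    exact Groth.Agent.DepthLib.idealDepth_of_subsingleton _ _

end Torsion

/-! ### Arithmetic -/

lemma arith_step {x y : ℕ∞} {t : WithBot ℕ∞} {d s : ℕ} (hxy : x = y + 1)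
    (h : ((s + 1 : ℕ) : ℕ∞) ≤ x ∨ (((d + (s + 1) : ℕ) : ℕ∞) : WithBot ℕ∞) <
      ((x : ℕ∞) : WithBot ℕ∞) + t) :
    (s : ℕ∞) ≤ y ∨ (((d + s : ℕ) : ℕ∞) : WithBot ℕ∞) < ((y : ℕ∞) : WithBot ℕ∞) + t := by
  subst hxy
  rcases h with h | h
  · left
    induction y using ENat.recTopCoe with
    | top => exact le_top
    | coe n =>
      have h1 : s + 1 ≤ n + 1 := by exact_mod_cast h
      exact_mod_cast (by omega : s ≤ n)
  · right
    induction t using WithBot.recBotCoe with
    | bot =>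
      rw [WithBot.add_bot] at h
      exact absurd h (not_lt_bot)
    | coe t' =>
      rw [← WithBot.coe_add, WithBot.coe_lt_coe] at h ⊢
      induction y using ENat.recTopCoe with
      | top => rw [top_add]; exact ENat.natCast_lt_top _
      | coe n =>
        induction t' using ENat.recTopCoe with
        | top => rw [add_top]; exact ENat.natCast_lt_top _
        | coe m =>
          have h1 : d + (s + 1) < n + 1 + m := by exact_mod_cast h
          exact_mod_cast (by omega : d + s < n + m)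

end Groth.Agent.Lib.LCcH1
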