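import Mathlib
import Groth.Agent.Lib.LCc1_helper1
import Groth.Agent.Lib.LCc2_helper1

/-!
# Comparing `RΓ_J(M)` with its derived completion: the induction (helper1)
-/

set_option autoImplicit false
universe u
open CategoryTheory CategoryTheory.Limits CategoryTheory.Pretriangulated DerivedCategory
open scoped Pointwise

attribute [local instance] HasDerivedCategory.standard

namespace Groth.Agent.Lib.LCcH1

open Groth.Agent.Lib.ExtCechH7 Groth.Agent.Lib.DerCompl Groth.Agent.Lib.LocFib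
  Groth.Agent.Lib.RlimCechH1 Groth.Agent.Lib.AnnH1 IsLocalRing

variable {A : Type u} [CommRing A]

/-- completeness of the Čech model for a module killed by a power of `K * I`, `(gs) ⊆ K` -/
theorem complete_of_two_step [IsNoetherianRing A] (I : Ideal A) [IsAdicComplete I A] (gs : List A)
    (P : Type u) [AddCommGroup P] [Module A P] [Module.Finite A P] (K : Ideal A)
    (hK : Ideal.span {x : A | x ∈ gs} ≤ K) (k : ℕ)
    (hk : ∀ a ∈ (K * I) ^ k, ∀ x : P, a • x = 0) :
    DRing.IsDerivedComplete I (KK gs (ModuleCat.of A P)) := by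
  obtain ⟨Sub, hSub⟩ : ∃ Sub : Submodule A P, Sub = (I ^ k • ⊤ : Submodule A P) := ⟨_, rfl⟩
  have hS := Groth.Agent.DepthLib.shortComplexOf_shortExact Sub.subtype Sub.mkQ
    (Submodule.injective_subtype _) (Submodule.mkQ_surjective _) (LinearMap.exact_subtype_mkQ Sub)
  refine isDerivedComplete_KK_of_ses I _ hS gs ?_ ?_
  · apply isDerivedComplete_KK_of_torsion I gs ↥Sub
    rintro ⟨x, hx⟩
    refine ⟨k, fun a ha => ?_⟩
    apply Subtype.ext
    show a • x = 0
    rw [hSub] at hx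
    refine Submodule.smul_induction_on hx ?_ ?_
    · intro r hr n _
      rw [smul_smul]
      apply hk
      rw [mul_pow]
      exact Ideal.mul_mem_mul (Ideal.pow_right_mono hK k ha) hr
    · intro x y hx hy
      rw [smul_add, hx, hy, add_zero]
  · apply isDerivedComplete_Q_extCech I gs _ k
    intro r hr x
    obtain ⟨m, rfl⟩ := Submodule.mkQ_surjective Sub x
    show r • (Submodule.Quotient.mk m : P ⧸ Sub) = 0
    rw [← Submodule.Quotient.mk_smul, Submodule.Quotient.mk_eq_zero, hSub]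
    exact Submodule.smul_mem_smul hr Submodule.mem_top

section Main

variable [IsNoetherianRing A] [IsLocalRing A]

/-- the conclusion of the induction -/
def Concl (I : Ideal A) [DRing.HasDerivedCompletion I] (s : ℕ) (M : Type u) [AddCommGroup M]
    [Module A M] : Prop :=
  ∃ J₀ : Ideal A,
    PrimeSpectrum.zeroLocus ((J₀ : Ideal A) : Set A) ∩
      PrimeSpectrum.zeroLocus ((I : Ideal A) : Set A) = {closedPoint A} ∧
    ∀ gs : List A, gs ≠ [] → Ideal.span {x : A | x ∈ gs} ≤ J₀ →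
      PrimeSpectrum.zeroLocus ((Ideal.span {x : A | x ∈ gs} : Ideal A) : Set A) ∩
        PrimeSpectrum.zeroLocus ((I : Ideal A) : Set A) = {closedPoint A} →
      ∀ i : ℤ, i ≤ (s : ℤ) → BijAt I (KK gs (ModuleCat.of A M)) i

theorem step_torsionFree (I : Ideal A) [IsAdicComplete I A] (hI : I ≤ maximalIdeal A)
    (hdc : ∃ ω : Dual.D A, Dual.IsDualizing A ω) [DRing.HasDerivedCompletion I] (d : ℕ)
    (hcd : LocCoh.CdLE A I d) (s : ℕ)
    (ih : ∀ (N : Type u) [AddCommGroup N] [Module A N] [Module.Finite A N],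
      H4 I d s N → Concl I s N)
    (M : Type u) [AddCommGroup M] [Module A M] [Module.Finite A M] (h4 : H4 I d (s + 1) M)
    (J₁ : Ideal A) (hG : Good M I (maximalIdeal A) (s + 1) (TT A I) J₁)
    (hass : ∀ p ∈ associatedPrimes A M, ¬ J₁ * I ≤ p) :
    ∃ J₀' : Ideal A,
      PrimeSpectrum.zeroLocus ((J₀' : Ideal A) : Set A) ∩
        PrimeSpectrum.zeroLocus ((I : Ideal A) : Set A) = {closedPoint A} ∧
      ∀ gs : List A, gs ≠ [] → Ideal.span {x : A | x ∈ gs} ≤ J₁ →
        Ideal.span {x : A | x ∈ gs} ≤ J₀' →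
        PrimeSpectrum.zeroLocus ((Ideal.span {x : A | x ∈ gs} : Ideal A) : Set A) ∩
          PrimeSpectrum.zeroLocus ((I : Ideal A) : Set A) = {closedPoint A} →
        ∀ i : ℤ, i ≤ ((s + 1 : ℕ) : ℤ) → BijAt I (KK gs (ModuleCat.of A M)) i := by
  obtain ⟨c⟩ := nonempty_ctx_local hdc I hI d hcd M (s + 1) h4
  obtain ⟨n, hn⟩ := hG.ann c
  obtain ⟨𝔞, h𝔞⟩ : ∃ 𝔞 : Ideal A, ∀ f : A, f ∈ 𝔞 ↔ ∀ j : ℕ, j ≤ d + (s + 1) →
      ∀ x : LocCoh.H (maximalIdeal A) j M, f • x = 0 := by
    refine ⟨⨅ j : Fin (d + (s + 1) + 1),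
      Module.annihilator A (LocCoh.H (maximalIdeal A) (j : ℕ) M), fun f => ?_⟩
    rw [Submodule.mem_iInf]
    constructor
    · intro h j hj x
      exact Module.mem_annihilator.1 (h ⟨j, by omega⟩) x
    · intro h j
      exact Module.mem_annihilator.2 (fun x => h j (Nat.lt_succ_iff.1 j.2) x)
  have hnot : ∀ p ∈ associatedPrimes A M, ¬ ((J₁ * I) ^ n ⊓ 𝔞) ≤ p := by
    intro p hp hle
    have hprime : p.IsPrime := hp.isPrime
    have h𝔟p := hass p hp
    have hIp : ¬ I ≤ p := fun h => h𝔟p (Ideal.mul_le_right.trans h)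
    have hJp : ¬ J₁ ≤ p := fun h => h𝔟p (Ideal.mul_le_left.trans h)
    rcases (Ideal.IsPrime.inf_le hprime).1 hle with h | h
    · exact h𝔟p (hprime.le_of_pow_le h)
    · obtain ⟨P, hP⟩ : ∃ P : PrimeSpectrum A, P = ⟨p, hprime⟩ := ⟨_, rfl⟩
      have hPp : P.asIdeal = p := by rw [hP]
      have h0 : ¬ 1 ≤ dep M P := by
        subst hP
        exact (Groth.Agent.DepthLib.not_one_le_depth_localization_iff M p).2 hp
      have h1s : (1 : ℕ∞) ≤ ((s + 1 : ℕ) : ℕ∞) := by
        exact_mod_cast Nat.succ_le_succ (Nat.zero_le s)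
      have hIP : ¬ I ≤ P.asIdeal := by rw [hPp]; exact hIp
      have hJP : ¬ J₁ ≤ P.asIdeal := by rw [hPp]; exact hJp
      have hPT : P ∉ TT A I := fun hPT => h0 (h1s.trans (hG.hdepth P hPT hIP hJP).le)
      have hr := exists_of_not_mem_TT hPT
      have hpm : P.asIdeal ≠ maximalIdeal A := fun hh => hIP (hh ▸ hI)
      rcases h4 P hIP hr with h5 | h5
      · exact h0 (h1s.trans h5)
      · obtain ⟨f, hfp, hf⟩ := exists_kill_m hdc M P hpm (d + (s + 1)) h5
        apply hfp
        rw [hPp]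
        exact h ((h𝔞 f).2 hf)
  obtain ⟨f, hf, hreg⟩ := exists_regular_mem M ((J₁ * I) ^ n ⊓ 𝔞) hnot
  have hf𝔟 : f ∈ (J₁ * I) ^ n := hf.1
  have hf𝔞 := (h𝔞 f).1 hf.2
  obtain ⟨f', hf'⟩ : ∃ f' : A, f' = f ^ (d + (s + 1) + 1) := ⟨_, rfl⟩
  have hreg' : IsSMulRegular M f' := by rw [hf']; exact hreg.pow _
  have hf'𝔟 : f' ∈ (J₁ * I) ^ n := by
    rw [hf']
    exact Ideal.pow_mem_of_mem _ hf𝔟 _ (Nat.succ_pos _)
  have h4N : H4 I d s (QuotSMulTop f' M) := by
    intro p hpI hr
    obtain ⟨h1, h2⟩ := dep_quotSMulTop M f' hreg' p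
    by_cases hfp : f' ∈ p.asIdeal
    · exact arith_step (h1 hfp) (h4 p hpI hr)
    · left
      rw [h2 hfp]
      exact le_top
  obtain ⟨J₀', hJ₀'1, hJ₀'2⟩ := ih (QuotSMulTop f' M) h4N
  refine ⟨J₀', hJ₀'1, ?_⟩
  intro gs hne hle1 hle2 hint i hi
  have hint' : PrimeSpectrum.zeroLocus ((Ideal.span {x : A | x ∈ gs} : Ideal A) : Set A) ∩
      PrimeSpectrum.zeroLocus ((I : Ideal A) : Set A) =
      PrimeSpectrum.zeroLocus ((maximalIdeal A : Ideal A) : Set A) ∩
        PrimeSpectrum.zeroLocus ((I : Ideal A) : Set A) := by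
    rw [hint, zeroLocus_max_inter I hI]
  have k1 : ∀ j : ℤ, j ≤ ((s + 1 : ℕ) : ℤ) →
      ∀ x : (Hn A j).obj (KK gs (ModuleCat.of A M)), f' • x = 0 := by
    intro j hj x
    rcases lt_or_ge j 0 with hneg | hpos
    · have hz : IsZero ((Hn A j).obj (KK gs (ModuleCat.of A M))) :=
        (Groth.Agent.Lib.ExtCechOldH7.S9264 gs _ j (Or.inl hneg)).of_iso
          ((homologyFunctorFactors (ModuleCat.{u} A) j).app _)
      haveI := ModuleCat.subsingleton_of_isZero hz
      exact Subsingleton.elim _ _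
    · obtain ⟨m, rfl⟩ := Int.eq_ofNat_of_zero_le hpos
      have hm : m ≤ s + 1 := by exact_mod_cast hj
      apply smul_H_KK_eq_zero gs hne M m f'
      intro y
      obtain ⟨z, rfl⟩ := (hG.bijective c hle1 hint' m hm).2 y
      have e1 : f' • ((Dual2.HmapOfLE hle1 m).app (ModuleCat.of A M)).hom z =
          ((Dual2.HmapOfLE hle1 m).app (ModuleCat.of A M)).hom (f' • z) :=
        (map_smul _ f' z).symm
      rw [e1, hn f' hf'𝔟 m hm z, map_zero]
  have hKm : ∀ q : PrimeSpectrum A, maximalIdeal A ≤ q.asIdeal ↔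
      I ≤ q.asIdeal ∧ Ideal.span {x : A | x ∈ gs} ≤ q.asIdeal := by
    intro q
    constructor
    · intro h
      exact ⟨hI.trans h, (hle1.trans hG.le).trans h⟩
    · rintro ⟨h1, h2⟩
      have hmem : q ∈ PrimeSpectrum.zeroLocus
          ((Ideal.span {x : A | x ∈ gs} : Ideal A) : Set A) ∩
          PrimeSpectrum.zeroLocus ((I : Ideal A) : Set A) :=
        ⟨(PrimeSpectrum.mem_zeroLocus _ _).2 h2, (PrimeSpectrum.mem_zeroLocus _ _).2 h1⟩
      rw [hint, Set.mem_singleton_iff] at hmem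
      rw [hmem]
      exact le_refl _
  have k2 : ∀ j : ℤ, j ≤ ((s + 1 : ℕ) : ℤ) → ∀ x : (Hn A j).obj
      ((DRing.derivedCompletion I).obj (KK gs (ModuleCat.of A M))).obj, f' • x = 0 := by
    intro j hj x
    rw [hf']
    exact smul_H_completion_KK_eq_zero I gs M d (s + 1) hcd (maximalIdeal A) hKm f hf𝔞 j hj x
  have hall : ∀ k : ℕ, ∀ j : ℤ, j < (k : ℤ) → j ≤ ((s + 1 : ℕ) : ℤ) →
      BijAt I (KK gs (ModuleCat.of A M)) j := by
    intro k
    induction k with
    | zero =>
      intro j hj _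
      exact bijAt_neg I gs M j (by exact_mod_cast hj)
    | succ k ihk =>
      intro j hj hjs
      have hj' : j ≤ (k : ℤ) := by
        have : j < (k : ℤ) + 1 := by exact_mod_cast hj
        omega
      rcases lt_or_eq_of_le hj' with h | h
      · exact ihk j h hjs
      · subst h
        exact bijAt_step_smul I gs M f' hreg' ((k : ℤ) - 1) (k : ℤ) (by ring) (k1 _ hjs)
          (k2 _ hjs) (ihk _ (by omega) (by omega))
          (hJ₀'2 gs hne hle2 hint _ (by omega))
  exact hall (i.toNat + 1) i (by omega) hi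

theorem main_aux (I : Ideal A) [IsAdicComplete I A]
    (hdc : ∃ ω : Dual.D A, Dual.IsDualizing A ω) [DRing.HasDerivedCompletion I] (d : ℕ)
    (hcd : LocCoh.CdLE A I d) (s : ℕ) :
    ∀ (M : Type u) [AddCommGroup M] [Module A M] [Module.Finite A M],
      H4 I d s M → Concl I s M := by
  have hI : I ≤ maximalIdeal A := by
    have h1 := IsAdicComplete.le_jacobson_bot I (R := A)
    rwa [IsLocalRing.jacobson_eq_maximalIdeal ⊥ bot_ne_top] at h1
  induction s with
  | zero =>
    intro M _ _ _ h4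
    obtain ⟨c⟩ := nonempty_ctx_local hdc I hI d hcd M 0 h4
    obtain ⟨J₁, hG⟩ := c.exists_good
    refine ⟨J₁, ?_, ?_⟩
    · rw [hG.inter]
      exact zeroLocus_max_inter I hI
    · intro gs hne hle hint i hi
      rcases lt_or_eq_of_le hi with hlt | heq
      · exact bijAt_neg I gs M i (by exact_mod_cast hlt)
      · have hi0 : i = 0 := by exact_mod_cast heq
        subst hi0
        apply bijAt_zero I gs M
        intro J' hJ'1 hJ'2 x hx g hg
        have hsub : DRing.torsionSub J' M ≤ DRing.torsionSub J₁ M := by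
          apply torsionSub_le_of_ass J' J₁ M
          intro p hp hJ'p
          have hprime : p.IsPrime := hp.isPrime
          obtain ⟨P, hP⟩ : ∃ P : PrimeSpectrum A, P = ⟨p, hprime⟩ := ⟨_, rfl⟩
          have hPp : P.asIdeal = p := by rw [hP]
          have hPT : P ∈ TT A I := by
            intro q hPq hIq
            have h1 : J' ⊔ I ≤ q.asIdeal :=
              sup_le (fun a ha => hPq (show a ∈ P.asIdeal by rw [hPp]; exact hJ'p ha)) hIq
            have h2 : Ideal.span {x : A | x ∈ gs} ≤ q.asIdeal :=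
              hJ'2.trans ((Ideal.IsPrime.radical_le_iff q.isPrime).2 h1)
            have hmem : q ∈ PrimeSpectrum.zeroLocus
                ((Ideal.span {x : A | x ∈ gs} : Ideal A) : Set A) ∩
                PrimeSpectrum.zeroLocus ((I : Ideal A) : Set A) :=
              ⟨(PrimeSpectrum.mem_zeroLocus _ _).2 h2, (PrimeSpectrum.mem_zeroLocus _ _).2 hIq⟩
            rw [hint, Set.mem_singleton_iff] at hmem
            rw [hmem]
            exact le_refl _
          by_cases hIp : I ≤ p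
          · have hm : maximalIdeal A ≤ P.asIdeal := hPT P le_rfl (by rw [hPp]; exact hIp)
            rw [hPp] at hm
            exact hG.le.trans hm
          · by_contra hJ₁p
            have hlt := hG.hdepth P hPT (by rw [hPp]; exact hIp) (by rw [hPp]; exact hJ₁p)
            have h0 : ¬ 1 ≤ dep M P := by
              subst hP
              exact (Groth.Agent.DepthLib.not_one_le_depth_localization_iff M p).2 hp
            apply h0
            rw [Order.one_le_iff_pos]
            exact_mod_cast hlt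
        obtain ⟨k, hk⟩ := hsub hx
        exact ⟨k, hk (g ^ k) (Ideal.pow_mem_pow (hle (Ideal.subset_span hg)) k)⟩
  | succ s ih =>
    intro M _ _ _ h4
    obtain ⟨c⟩ := nonempty_ctx_local hdc I hI d hcd M (s + 1) h4
    obtain ⟨J₁, hG⟩ := c.exists_good
    have hdepeq : ∀ p : PrimeSpectrum A, ¬ I ≤ p.asIdeal → ¬ J₁ ≤ p.asIdeal →
        dep (M ⧸ DRing.torsionSub (J₁ * I) M) p = dep M p := by
      intro p h1 h2
      apply dep_quot_torsionSub
      intro hle
      rcases (Ideal.IsPrime.mul_le p.isPrime).1 hle with h | h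
      · exact h2 h
      · exact h1 h
    have h4'' : H4 I d (s + 1) (M ⧸ DRing.torsionSub (J₁ * I) M) := by
      intro p hpI hr
      have hpJ : ¬ J₁ ≤ p.asIdeal := fun hle => not_mem_TT_of hr (hG.subset_T c hle)
      rw [hdepeq p hpI hpJ]
      exact h4 p hpI hr
    have hG'' : Good (M ⧸ DRing.torsionSub (J₁ * I) M) I (maximalIdeal A) (s + 1) (TT A I) J₁ :=
      ⟨hG.le, hG.inter, fun p hpT hpI hpJ => by
        rw [hdepeq p hpI hpJ]
        exact hG.hdepth p hpT hpI hpJ⟩
    have hass : ∀ p ∈ associatedPrimes A (M ⧸ DRing.torsionSub (J₁ * I) M), ¬ J₁ * I ≤ p :=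
      fun p hp => not_le_of_mem_associatedPrimes_quot (J₁ * I) M hp
    obtain ⟨J₀', hJ₀'1, hJ₀'2⟩ := step_torsionFree I hI hdc d hcd s ih
      (M ⧸ DRing.torsionSub (J₁ * I) M) h4'' J₁ hG'' hass
    refine ⟨J₁ ⊓ J₀', ?_, ?_⟩
    · rw [PrimeSpectrum.zeroLocus_inf, Set.union_inter_distrib_right, hG.inter,
        zeroLocus_max_inter I hI, hJ₀'1, Set.union_self]
    · intro gs hne hle hint i hi
      have hle1 : Ideal.span {x : A | x ∈ gs} ≤ J₁ := hle.trans inf_le_left
      have hle2 : Ideal.span {x : A | x ∈ gs} ≤ J₀' := hle.trans inf_le_right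
      have hM'' : ∀ j : ℤ, j ≤ ((s + 1 : ℕ) : ℤ) →
          BijAt I (KK gs (ModuleCat.of A (M ⧸ DRing.torsionSub (J₁ * I) M))) j :=
        hJ₀'2 gs hne hle1 hle2 hint
      obtain ⟨k, hk⟩ := exists_pow_kills_torsionSub (J₁ * I) M
      have hcomp : DRing.IsDerivedComplete I
          (KK gs (ModuleCat.of A ↥(DRing.torsionSub (J₁ * I) M))) :=
        complete_of_two_step I gs ↥(DRing.torsionSub (J₁ * I) M) J₁ hle1 k
          (fun a ha x => Subtype.ext (hk a ha x.1 x.2))
      have hS := Groth.Agent.DepthLib.shortComplexOf_shortExact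
        (DRing.torsionSub (J₁ * I) M).subtype (DRing.torsionSub (J₁ * I) M).mkQ
        (Submodule.injective_subtype _) (Submodule.mkQ_surjective _)
        (LinearMap.exact_subtype_mkQ _)
      exact bijAt_mid_of_ses I _ hS gs (i - 1) i (i + 1) (by ring) rfl
        (hM'' (i - 1) (by omega)) (BijAt.of_complete I hcomp i) (hM'' i hi)
        (BijAt.of_complete I hcomp (i + 1))

end Main

/-- **S8795** -/
theorem main8795 (A : Type u) [CommRing A] [IsNoetherianRing A] [IsLocalRing A] (I : Ideal A)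
    [IsAdicComplete I A] (hdc : ∃ ω : Dual.D A, Dual.IsDualizing A ω)
    [DRing.HasDerivedCompletion I] (d : ℕ) (hcd : LocCoh.CdLE A I d) (M : Type u)
    [AddCommGroup M] [Module A M] [Module.Finite A M] (s : ℕ)
    (h4 : ∀ p : PrimeSpectrum A, ¬ I ≤ p.asIdeal →
      (∃ r : PrimeSpectrum A, p ≤ r ∧ I ≤ r.asIdeal ∧ r.asIdeal ≠ IsLocalRing.maximalIdeal A) →
      (s : ℕ∞) ≤ LocCoh.depth (Localization.AtPrime p.asIdeal)
        (LocalizedModule p.asIdeal.primeCompl M) ∨
      (((d + s : ℕ) : ℕ∞) : WithBot ℕ∞) <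
        ((LocCoh.depth (Localization.AtPrime p.asIdeal)
          (LocalizedModule p.asIdeal.primeCompl M) : ℕ∞) : WithBot ℕ∞) +
          ringKrullDim (A ⧸ p.asIdeal)) :
    ∃ J₀ : Ideal A, PrimeSpectrum.zeroLocus ((J₀ : Ideal A) : Set A) ∩
        PrimeSpectrum.zeroLocus ((I : Ideal A) : Set A) = {IsLocalRing.closedPoint A} ∧
      ∀ (J : Ideal A) [DRing.HasRgammaI J], J ≤ J₀ →
        PrimeSpectrum.zeroLocus ((J : Ideal A) : Set A) ∩
          PrimeSpectrum.zeroLocus ((I : Ideal A) : Set A) = {IsLocalRing.closedPoint A} →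
        ∀ i : ℤ, i ≤ s → Function.Bijective
          ((DerivedCategory.homologyFunctor (ModuleCat.{u} A) i).map
            (DRing.toDerivedCompletion I ((DRing.RgammaI J).obj (Dual.inD A M)))).hom := by
  obtain ⟨J₀, hJ₀, hmain⟩ := main_aux I hdc d hcd s M h4
  refine ⟨J₀, hJ₀, ?_⟩
  intro J _ hJ hint i hi
  obtain ⟨gs, hne, hgs⟩ := exists_list_span_ne_nil J
  subst hgs
  exact bijAt_RgammaI I gs M i (hmain gs hne hJ hint i hi)

end Groth.Agent.Lib.LCcH1
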