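import Mathlib
import Groth.Agent.Lib.LCc3_helper1
import Groth.Agent.Lib.FaltingsCM_helper6
import Groth.Agent.Lib.NonVan5_helper7

/-!
# Comparing `RΓ_J(M)` with its derived completion, general case: the commutative algebra (helper1)
-/

set_option autoImplicit false
universe u
open CategoryTheory CategoryTheory.Limits CategoryTheory.Pretriangulated DerivedCategory
open scoped Pointwise

attribute [local instance] HasDerivedCategory.standard

namespace Groth.Agent.Lib.LCdH1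

open Groth.Agent.Lib.ExtCechH7 Groth.Agent.Lib.DerCompl Groth.Agent.Lib.LocFib
  Groth.Agent.Lib.RlimCechH1 Groth.Agent.Lib.AnnH1 Groth.Agent.Lib.LCcH1 Groth.Agent.Lib.FaltT

variable {A : Type u} [CommRing A]

/-! ### Dimension functions -/

lemma exists_covBy_le (ν : PrimeSpectrum A → ℤ)
    (hmono : ∀ p q : PrimeSpectrum A, p < q → ν p < ν q) {p q : PrimeSpectrum A} (h : p < q) :
    ∃ r : PrimeSpectrum A, p ⋖ r ∧ r ≤ q := by
  classical
  have hex : ∃ n : ℕ, ∃ r : PrimeSpectrum A, p < r ∧ r ≤ q ∧ (ν r - ν p).toNat = n :=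
    ⟨_, q, h, le_rfl, rfl⟩
  obtain ⟨r, hpr, hrq, hr⟩ := Nat.find_spec hex
  refine ⟨r, ⟨hpr, fun r' h1 h2 => ?_⟩, hrq⟩
  have h3 := Nat.find_min' hex ⟨r', h1, h2.le.trans hrq, rfl⟩
  have h4 := hmono r' r h2
  have h5 := hmono p r' h1
  omega

lemma delta_lt_of_lt (ν : PrimeSpectrum A → ℤ)
    (hmono : ∀ p q : PrimeSpectrum A, p < q → ν p < ν q) (δ : PrimeSpectrum A → ℤ)
    (hδ : ∀ p q : PrimeSpectrum A, p ⋖ q → δ p = δ q + 1) :
    ∀ (n : ℕ) (p q : PrimeSpectrum A), p < q → (ν q - ν p).toNat ≤ n → δ q < δ p := by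
  intro n
  induction n with
  | zero =>
    intro p q hpq hn
    have := hmono p q hpq
    omega
  | succ n ih =>
    intro p q hpq hn
    obtain ⟨r, hpr, hrq⟩ := exists_covBy_le ν hmono hpq
    have h1 := hδ p r hpr
    rcases eq_or_lt_of_le hrq with h | h
    · rw [← h]
      omega
    · have h2 := hmono p r hpr.lt
      have h3 := hmono r q h
      have := ih r q h (by omega)
      omega

lemma krullDim_Icc_eq_delta [IsNoetherianRing A] (ν : PrimeSpectrum A → ℤ)
    (hmono : ∀ p q : PrimeSpectrum A, p < q → ν p < ν q) (δ : PrimeSpectrum A → ℤ)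
    (hδ : ∀ p q : PrimeSpectrum A, p ⋖ q → δ p = δ q + 1) (p q : PrimeSpectrum A) (hpq : p ≤ q) :
    Order.krullDim (Set.Icc p q) = ((((δ p - δ q).toNat : ℕ) : ℕ∞) : WithBot ℕ∞) := by
  have hmono' : ∀ p q : PrimeSpectrum A, p < q →
      (fun r : PrimeSpectrum A => - δ r) p < (fun r : PrimeSpectrum A => - δ r) q := by
    intro p q h
    have := delta_lt_of_lt ν hmono δ hδ _ p q h le_rfl
    show - δ p < - δ q
    omega
  have hcov' : ∀ p q : PrimeSpectrum A, p ⋖ q →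
      (fun r : PrimeSpectrum A => - δ r) q = (fun r : PrimeSpectrum A => - δ r) p + 1 := by
    intro p q h
    have := hδ p q h
    show - δ q = - δ p + 1
    omega
  have h1 := height_Ici_eq_sub (fun r : PrimeSpectrum A => - δ r) hmono' hcov' p
    (δ p - δ q).toNat q hpq (by
      show (- δ q - - δ p).toNat = (δ p - δ q).toNat
      congr 1
      ring)
  rw [krullDim_Icc_eq_height p q hpq, h1]

section Ctx

variable [IsNoetherianRing A] {M : Type u} [AddCommGroup M] [Module A M] [Module.Finite A M]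
  {I J : Ideal A} {s d : ℕ} {T : Set (PrimeSpectrum A)}

lemma D_eq_delta (c : Ctx M I J s d T) (δ : PrimeSpectrum A → ℤ)
    (hδ : ∀ p q : PrimeSpectrum A, p ⋖ q → δ p = δ q + 1) {p q : PrimeSpectrum A} (hpq : p ≤ q) :
    (((c.ν q - c.ν p).toNat : ℕ) : ℤ) = δ p - δ q := by
  have h1 := c.hdim p q hpq
  rw [krullDim_Icc_eq_delta c.ν c.hmono δ hδ p q hpq] at h1
  have h2 : (δ p - δ q).toNat = (c.ν q - c.ν p).toNat := by exact_mod_cast h1
  have h3 : δ q ≤ δ p := by
    rcases eq_or_lt_of_le hpq with h | h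
    · rw [h]
    · exact (delta_lt_of_lt c.ν c.hmono δ hδ _ p q h le_rfl).le
  omega

end Ctx

/-! ### Condition (3) is automatic -/

theorem exists_dimBetween_le [IsNoetherianRing A] (I : Ideal A)
    (hIjac : I ≤ Ideal.jacobson (⊥ : Ideal A)) (d : ℕ) (hcd : LocCoh.CdLE A I d)
    (p : PrimeSpectrum A) :
    ∃ q : PrimeSpectrum A, p ≤ q ∧ I ≤ q.asIdeal ∧
      Formal2.dimBetween A p.asIdeal q.asIdeal ≤ ((d : ℕ∞) : WithBot ℕ∞) := by
  haveI := p.isPrime
  have hne : p.asIdeal ⊔ I ≠ ⊤ := by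
    intro h
    obtain ⟨𝔪, h𝔪, hp𝔪⟩ := Ideal.exists_le_maximal p.asIdeal p.isPrime.ne_top
    have hI𝔪 : I ≤ 𝔪 := hIjac.trans (sInf_le ⟨bot_le, h𝔪⟩)
    exact h𝔪.ne_top (top_le_iff.1 (h ▸ sup_le hp𝔪 hI𝔪))
  obtain ⟨⟨Q, hQ⟩⟩ := Ideal.nonempty_minimalPrimes hne
  haveI hQprime : Q.IsPrime := hQ.1.1
  have hpQ : p.asIdeal ≤ Q := le_sup_left.trans hQ.1.2
  have hIQ : I ≤ Q := le_sup_right.trans hQ.1.2
  obtain ⟨q, hq⟩ : ∃ q : PrimeSpectrum A, q = ⟨Q, hQprime⟩ := ⟨_, rfl⟩
  have hqQ : q.asIdeal = Q := by rw [hq]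
  have hpq : p ≤ q := by
    show p.asIdeal ≤ q.asIdeal
    rw [hqQ]
    exact hpQ
  refine ⟨q, hpq, by rw [hqQ]; exact hIQ, ?_⟩
  have hsurj : Function.Surjective (Ideal.Quotient.mk p.asIdeal) := Ideal.Quotient.mk_surjective
  have hmin : Q.map (Ideal.Quotient.mk p.asIdeal) ∈
      (I.map (Ideal.Quotient.mk p.asIdeal)).minimalPrimes := by
    rw [Ideal.minimalPrimes_map_of_surjective hsurj]
    refine ⟨Q, ?_, rfl⟩
    rw [Ideal.mk_ker, sup_comm]
    exact hQ
  haveI : (Q.map (Ideal.Quotient.mk p.asIdeal)).IsPrime := hmin.1.1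
  have hfin : (Q.map (Ideal.Quotient.mk p.asIdeal)).height ≠ ⊤ :=
    Ideal.height_ne_top (Ideal.IsPrime.ne_top inferInstance)
  obtain ⟨h, hh⟩ := ENat.ne_top_iff_exists.1 hfin
  have hnv := Groth.Agent.Lib.NonVan5H7.nonvanishing_minimalPrime
    (I.map (Ideal.Quotient.mk p.asIdeal)) (Q.map (Ideal.Quotient.mk p.asIdeal)) hmin h hh.symm
  have hle : h ≤ d := by
    by_contra hlt
    rw [not_le] at hlt
    haveI hsub : Subsingleton (LocCoh.H I h (A ⧸ p.asIdeal)) := hcd (A ⧸ p.asIdeal) h hlt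
    obtain ⟨φ, -⟩ := Groth.Agent.Lib.LocCohBaseIndepH7.main (A ⧸ p.asIdeal) I h (A ⧸ p.asIdeal)
    haveI : Nontrivial (LocCoh.H (I.map (algebraMap A (A ⧸ p.asIdeal))) h (A ⧸ p.asIdeal)) := hnv
    haveI : Nontrivial (LocCoh.H I h (A ⧸ p.asIdeal)) := φ.symm.toEquiv.nontrivial
    exact false_of_nontrivial_of_subsingleton (LocCoh.H I h (A ⧸ p.asIdeal))
  refine (dimBetween_le_krullDim_Icc p q).trans ?_
  rw [krullDim_Icc_eq_height p q hpq, Groth.Agent.Lib.FaltingsCM_helper6.height_Ici_eq p q hpq,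
    hqQ, ← hh]
  exact_mod_cast hle

/-! ### The inductive hypothesis -/

section HH

variable [IsNoetherianRing A]

/-- the inductive hypothesis: condition `(*)` at the primes of small depth -/
def HH (I J : Ideal A) (d s : ℕ) (T : Set (PrimeSpectrum A)) (M : Type u) [AddCommGroup M]
    [Module A M] : Prop :=
  ∀ p : PrimeSpectrum A, ¬ I ≤ p.asIdeal → p ∉ T →
    (∃ q : PrimeSpectrum A, p ≤ q ∧ J ≤ q.asIdeal ∧ I ≤ q.asIdeal) → dep M p < (s : ℕ∞) →
    ∀ p' : PrimeSpectrum A, p' ≤ p → ∀ q : PrimeSpectrum A, p' ≤ q → J ≤ q.asIdeal →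
      I ≤ q.asIdeal →
      (((d + s : ℕ) : ℕ∞) : WithBot ℕ∞) <
        ((dep M p' : ℕ∞) : WithBot ℕ∞) + Order.krullDim (Set.Icc p' q)

theorem nonempty_ctx_general (hdc : ∃ ω : Dual.D A, Dual.IsDualizing A ω) (I J : Ideal A)
    (hIjac : I ≤ Ideal.jacobson (⊥ : Ideal A)) (d : ℕ) (hcd : LocCoh.CdLE A I d)
    (T : Set (PrimeSpectrum A))
    (hT : ∀ p : PrimeSpectrum A, p ∈ T ↔
      ∀ q : PrimeSpectrum A, p ≤ q → I ≤ q.asIdeal → J ≤ q.asIdeal)
    (M : Type u) [AddCommGroup M] [Module A M] [Module.Finite A M] (s : ℕ)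
    (hH : HH I J d s T M) : Nonempty (Ctx M I J s d T) := by
  refine nonempty_ctx hdc I J M s d T hT ?_ ?_
  · intro p hpI hpT
    obtain ⟨q, hpq, hIq, hd⟩ := exists_dimBetween_le I hIjac d hcd p
    exact ⟨q, hpq, (hT p).1 hpT q hpq hIq, hIq, hd⟩
  · intro p hpI hpT q hpq hqJ hqI
    by_cases hlt : dep M p < (s : ℕ∞)
    · right
      have h1 := hH p hpI hpT ⟨q, hpq, hqJ, hqI⟩ hlt p le_rfl q hpq hqJ hqI
      exact lt_of_lt_of_le h1 (add_le_add le_rfl (krullDim_Icc_le_dimBetween p q))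
    · left
      exact not_lt.1 hlt

theorem exists_kill_K (hdc : ∃ ω : Dual.D A, Dual.IsDualizing A ω) (K : Ideal A) (M : Type u)
    [AddCommGroup M] [Module A M] [Module.Finite A M] (p : PrimeSpectrum A)
    (hp : ¬ K ≤ p.asIdeal) (n : ℕ)
    (h : ∀ p' q : PrimeSpectrum A, p' ≤ p → K ≤ q.asIdeal → p' ≤ q →
      ((n : ℕ∞) : WithBot ℕ∞) < ((dep M p' : ℕ∞) : WithBot ℕ∞) + Order.krullDim (Set.Icc p' q)) :
    ∃ f : A, f ∉ p.asIdeal ∧ ∀ j : ℕ, j ≤ n → ∀ x : LocCoh.H K j M, f • x = 0 :=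
  Groth.Agent.S1765.result A hdc K M p hp n (fun p' q h1 h2 h3 => h p' q h1 h2 h3)

/-! ### Arithmetic -/

lemma enat_succ_lt {x : ℕ∞} {s : ℕ} (h : x < (s : ℕ∞)) : x + 1 < ((s + 1 : ℕ) : ℕ∞) := by
  obtain ⟨a, ha⟩ := ENat.ne_top_iff_exists.1 (ne_top_of_lt h)
  rw [← ha] at h ⊢
  have h1 : a < s := by exact_mod_cast h
  exact_mod_cast (by omega : a + 1 < s + 1)

lemma arith_step_lt {x y : ℕ∞} {t : WithBot ℕ∞} {d s : ℕ} (hxy : x = y + 1)
    (h : (((d + (s + 1) : ℕ) : ℕ∞) : WithBot ℕ∞) < ((x : ℕ∞) : WithBot ℕ∞) + t) :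
    (((d + s : ℕ) : ℕ∞) : WithBot ℕ∞) < ((y : ℕ∞) : WithBot ℕ∞) + t := by
  rcases arith_step (d := d) (s := s) hxy (Or.inr h) with h1 | h1
  · -- `s ≤ y`: then also use `h`
    subst hxy
    induction t using WithBot.recBotCoe with
    | bot =>
      rw [WithBot.add_bot] at h
      exact absurd h not_lt_bot
    | coe t' =>
      rw [← WithBot.coe_add, WithBot.coe_lt_coe] at h ⊢
      induction y using ENat.recTopCoe with
      | top => rw [top_add]; exact ENat.natCast_lt_top _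
      | coe n =>
        induction t' using ENat.recTopCoe with
        | top => rw [add_top]; exact ENat.natCast_lt_top _
        | coe m =>
          have h2 : d + (s + 1) < n + 1 + m := by exact_mod_cast h
          exact_mod_cast (by omega : d + s < n + m)
  · exact h1

lemma lt_top_add {n : ℕ} {t : WithBot ℕ∞} (ht : 0 ≤ t) :
    ((n : ℕ∞) : WithBot ℕ∞) < ((⊤ : ℕ∞) : WithBot ℕ∞) + t := by
  induction t using WithBot.recBotCoe with
  | bot => exact absurd ht (not_le.2 (WithBot.bot_lt_coe 0))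
  | coe t' =>
    rw [← WithBot.coe_add, WithBot.coe_lt_coe, top_add]
    exact ENat.natCast_lt_top n

/-! ### Associated primes of the torsion-free quotient -/

lemma associatedPrimes_quot_torsionSub_subset (𝔟 : Ideal A) (M : Type u) [AddCommGroup M]
    [Module A M] [Module.Finite A M] :
    associatedPrimes A (M ⧸ DRing.torsionSub 𝔟 M) ⊆ associatedPrimes A M := by
  intro p hp
  have hnle := not_le_of_mem_associatedPrimes_quot 𝔟 M hp
  obtain ⟨hprime, x, hx⟩ := isAssociatedPrime_iff.1 hp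
  obtain ⟨m, hm⟩ := Submodule.Quotient.mk_surjective _ x
  subst hm
  obtain ⟨k, hk⟩ := exists_pow_kills_torsionSub 𝔟 M
  have h1 : ¬ 𝔟 ^ k ≤ p := fun h => hnle (hprime.le_of_pow_le h)
  obtain ⟨b, hb, hbp⟩ := Set.not_subset.1 h1
  refine isAssociatedPrime_iff.2 ⟨hprime, b • m, ?_⟩
  ext a
  rw [Submodule.mem_colon_singleton, Submodule.mem_bot]
  constructor
  · intro ha
    have h2 : a • (Submodule.Quotient.mk m : M ⧸ DRing.torsionSub 𝔟 M) = 0 := by
      have h3 : a ∈ (⊥ : Submodule A (M ⧸ DRing.torsionSub 𝔟 M)).colon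
          {(Submodule.Quotient.mk m : M ⧸ DRing.torsionSub 𝔟 M)} := hx ▸ ha
      exact (Submodule.mem_bot A).1 (Submodule.mem_colon_singleton.1 h3)
    rw [← Submodule.Quotient.mk_smul, Submodule.Quotient.mk_eq_zero] at h2
    rw [smul_comm]
    exact hk b hb _ h2
  · intro ha
    have h2 : a * b ∈ p := by
      rw [hx, Submodule.mem_colon_singleton, Submodule.mem_bot, mul_smul,
        ← Submodule.Quotient.mk_smul, ← Submodule.Quotient.mk_smul, ha, Submodule.Quotient.mk_zero]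
    exact (hprime.mem_or_mem h2).resolve_right hbp

/-- the product of the associated primes whose closure misses `V(I) ∩ V(J)` -/
lemma exists_bad_ideal (I J : Ideal A) (M : Type u) [AddCommGroup M] [Module A M]
    [Module.Finite A M] :
    ∃ 𝔠 : Ideal A,
      (∀ p : PrimeSpectrum A, 𝔠 ≤ p.asIdeal → ∀ q : PrimeSpectrum A, p ≤ q → J ≤ q.asIdeal →
        I ≤ q.asIdeal → False) ∧
      (∀ p ∈ associatedPrimes A M,
        (∀ q : PrimeSpectrum A, p ≤ q.asIdeal → J ≤ q.asIdeal → I ≤ q.asIdeal → False) →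
        𝔠 ≤ p) := by
  classical
  have hfin : (associatedPrimes A M).Finite := associatedPrimes.finite A M
  obtain ⟨S, hS⟩ : ∃ S : Finset (Ideal A), ∀ p, p ∈ S ↔ p ∈ associatedPrimes A M ∧
      ∀ q : PrimeSpectrum A, p ≤ q.asIdeal → J ≤ q.asIdeal → I ≤ q.asIdeal → False :=
    ⟨hfin.toFinset.filter (fun p => ∀ q : PrimeSpectrum A, p ≤ q.asIdeal → J ≤ q.asIdeal →
      I ≤ q.asIdeal → False), fun p => by rw [Finset.mem_filter, Set.Finite.mem_toFinset]⟩
  refine ⟨∏ p ∈ S, p, ?_, ?_⟩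
  · intro p hle q hpq hJq hIq
    obtain ⟨pb, hpb, hpbp⟩ := (Ideal.IsPrime.prod_le p.isPrime).1 hle
    exact ((hS pb).1 hpb).2 q (hpbp.trans hpq) hJq hIq
  · intro p hp hbad
    exact Ideal.prod_le_inf.trans (Finset.inf_le ((hS p).2 ⟨hp, hbad⟩))

end HH

/-! ### Vanishing of the Čech model for modules supported away from `V(gs)` -/

open ZeroObject in
lemma isZero_of_forall_isZero_Hn (K : Dual.D A) (h : ∀ n : ℤ, IsZero ((Hn A n).obj K)) :
    IsZero K := by
  haveI : IsIso (0 : K ⟶ 0) := by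
    rw [DerivedCategory.isIso_iff]
    intro n
    exact isIso_of_source_target_iso_zero _ (h n).isoZero
      (((Hn A n).map_isZero (isZero_zero _)).isoZero)
  exact IsZero.of_iso (isZero_zero _) (asIso (0 : K ⟶ 0))

theorem isZero_KK_of_coprime [IsNoetherianRing A] (gs : List A) (N : Type u) [AddCommGroup N]
    [Module A N] (𝔡 : Ideal A) (h𝔡 : ∀ a ∈ 𝔡, ∀ x : N, a • x = 0)
    (hcop : 𝔡 ⊔ Ideal.span {x : A | x ∈ gs} = ⊤) : IsZero (KK gs (ModuleCat.of A N)) := by
  haveI : DRing.HasRgammaI (Ideal.span {x : A | x ∈ gs}) := hasRgammaI' _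
  obtain ⟨c, hc, j, hj, hcj⟩ := Submodule.mem_sup.1 ((Ideal.eq_top_iff_one _).1 hcop)
  apply isZero_of_forall_isZero_Hn
  intro n
  haveI : Subsingleton ((Hn A n).obj (KK gs (ModuleCat.of A N))) := by
    refine subsingleton_of_forall_eq 0 fun x => ?_
    have h1 : c • x = 0 := by
      have hz : c • 𝟙 (DerCA.extCech (ModuleCat.of A N) gs) = 0 :=
        smul_id_extCech_eq_zero gs (ModuleCat.of A N) c (h𝔡 c hc)
      have h2 : (Hn A n).map (c • 𝟙 (KK gs (ModuleCat.of A N))) = 0 := by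
        have h3 : c • 𝟙 (KK gs (ModuleCat.of A N)) =
            Q.map (c • 𝟙 (DerCA.extCech (ModuleCat.of A N) gs)) := by
          rw [Functor.map_smul, CategoryTheory.Functor.map_id]
        rw [h3, hz, Functor.map_zero, Functor.map_zero]
      rw [Functor.map_smul, CategoryTheory.Functor.map_id] at h2
      exact congrArg (fun t => t.hom x) h2
    obtain ⟨hpt, -⟩ := S1817_main (Ideal.span {x : A | x ∈ gs})
    have hpt' := hpt (Dual.inD A N) n
    obtain ⟨E⟩ : Nonempty ((Hn A n).obj (KK gs (ModuleCat.of A N)) ≃ₗ[A]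
        Dual.HD A ((DRing.RgammaI (Ideal.span {x : A | x ∈ gs})).obj (Dual.inD A N)) n) :=
      ⟨((Hn A n).mapIso (gammaIso gs (ModuleCat.of A N))).toLinearEquiv⟩
    obtain ⟨m, hm⟩ := hpt' (E x)
    have h2 : j ^ m • x = 0 := by
      apply E.injective
      rw [map_smul, map_zero]
      exact hm _ (Ideal.pow_mem_pow hj m)
    have h3 : ∀ m : ℕ, ∃ r : A, (c + j) ^ m = j ^ m + c * r := by
      intro m
      induction m with
      | zero => exact ⟨0, by ring⟩
      | succ m ih =>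
        obtain ⟨r, hr⟩ := ih
        exact ⟨j ^ m + (c + j) * r, by rw [pow_succ, hr]; ring⟩
    obtain ⟨r, hr⟩ := h3 m
    calc x = (c + j) ^ m • x := by rw [hcj, one_pow, one_smul]
      _ = j ^ m • x + r • (c • x) := by rw [hr, add_smul, mul_comm, mul_smul]
      _ = 0 := by rw [h2, h1, smul_zero, add_zero]
  exact ModuleCat.isZero_of_subsingleton _

lemma isDerivedComplete_of_isZero' (I : Ideal A) (X : Dual.D A) (hX : IsZero X) :
    DRing.IsDerivedComplete I X := by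
  intro f hf n
  exact ⟨fun a b => ((CategoryTheory.shiftFunctor (Dual.D A) n).map_isZero hX).eq_of_tgt a b⟩

/-- completeness of the Čech model for a module killed by a power of `K * I * 𝔠` -/
theorem complete_of_three_step [IsNoetherianRing A] (I : Ideal A) [IsAdicComplete I A]
    (gs : List A) (P : Type u) [AddCommGroup P] [Module A P] [Module.Finite A P] (K 𝔠 : Ideal A)
    (hK : Ideal.span {x : A | x ∈ gs} ≤ K)
    (hcop : 𝔠 ⊔ Ideal.span {x : A | x ∈ gs} = ⊤) (k : ℕ)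
    (hk : ∀ a ∈ (K * I * 𝔠) ^ k, ∀ x : P, a • x = 0) :
    DRing.IsDerivedComplete I (KK gs (ModuleCat.of A P)) := by
  obtain ⟨Sub, hSub⟩ : ∃ Sub : Submodule A P, Sub = (𝔠 ^ k • ⊤ : Submodule A P) := ⟨_, rfl⟩
  have hS := Groth.Agent.DepthLib.shortComplexOf_shortExact Sub.subtype Sub.mkQ
    (Submodule.injective_subtype _) (Submodule.mkQ_surjective _) (LinearMap.exact_subtype_mkQ Sub)
  refine isDerivedComplete_KK_of_ses I _ hS gs ?_ ?_
  · apply complete_of_two_step I gs ↥Sub K hK k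
    rintro a ha ⟨x, hx⟩
    apply Subtype.ext
    show a • x = 0
    rw [hSub] at hx
    refine Submodule.smul_induction_on hx ?_ ?_
    · intro r hr n _
      rw [smul_smul]
      apply hk
      rw [mul_pow]
      exact Ideal.mul_mem_mul ha hr
    · intro x y hx hy
      rw [smul_add, hx, hy, add_zero]
  · apply isDerivedComplete_of_isZero' I
    refine isZero_KK_of_coprime gs (P ⧸ Sub) (𝔠 ^ k) ?_ (Ideal.pow_sup_eq_top hcop)
    intro a ha x
    obtain ⟨m, rfl⟩ := Submodule.mkQ_surjective Sub x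
    show a • (Submodule.Quotient.mk m : P ⧸ Sub) = 0
    rw [← Submodule.Quotient.mk_smul, Submodule.Quotient.mk_eq_zero, hSub]
    exact Submodule.smul_mem_smul ha Submodule.mem_top

end Groth.Agent.Lib.LCdH1
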