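import Mathlib
import Groth.Agent.Lib.LCd1_helper1

/-!
# Comparing `RΓ_J(M)` with its derived completion, general case: the induction (helper1)
-/

set_option autoImplicit false
universe u
open CategoryTheory CategoryTheory.Limits CategoryTheory.Pretriangulated DerivedCategory
open scoped Pointwise

attribute [local instance] HasDerivedCategory.standard

namespace Groth.Agent.Lib.LCdH1

open Groth.Agent.Lib.ExtCechH7 Groth.Agent.Lib.DerCompl Groth.Agent.Lib.LocFib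
  Groth.Agent.Lib.RlimCechH1 Groth.Agent.Lib.AnnH1 Groth.Agent.Lib.LCcH1 Groth.Agent.Lib.FaltT

variable {A : Type u} [CommRing A] [IsNoetherianRing A]

/-- the conclusion of the induction -/
def ConclG (I J : Ideal A) [DRing.HasDerivedCompletion I] (s : ℕ) (M : Type u) [AddCommGroup M]
    [Module A M] : Prop :=
  ∃ J₀ : Ideal A, J₀ ≤ J ∧
    PrimeSpectrum.zeroLocus ((J₀ : Ideal A) : Set A) ∩
      PrimeSpectrum.zeroLocus ((I : Ideal A) : Set A) =
      PrimeSpectrum.zeroLocus ((J : Ideal A) : Set A) ∩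
        PrimeSpectrum.zeroLocus ((I : Ideal A) : Set A) ∧
    ∀ gs : List A, gs ≠ [] → Ideal.span {x : A | x ∈ gs} ≤ J₀ →
      PrimeSpectrum.zeroLocus ((Ideal.span {x : A | x ∈ gs} : Ideal A) : Set A) ∩
        PrimeSpectrum.zeroLocus ((I : Ideal A) : Set A) =
        PrimeSpectrum.zeroLocus ((J : Ideal A) : Set A) ∩
          PrimeSpectrum.zeroLocus ((I : Ideal A) : Set A) →
      ∀ i : ℤ, i ≤ (s : ℤ) → BijAt I (KK gs (ModuleCat.of A M)) i

theorem step_torsionFree_general (I J : Ideal A) [IsAdicComplete I A]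
    (hIjac : I ≤ Ideal.jacobson (⊥ : Ideal A))
    (hdc : ∃ ω : Dual.D A, Dual.IsDualizing A ω) [DRing.HasDerivedCompletion I] (d : ℕ)
    (hcd : LocCoh.CdLE A I d) (T : Set (PrimeSpectrum A))
    (hT : ∀ p : PrimeSpectrum A, p ∈ T ↔
      ∀ q : PrimeSpectrum A, p ≤ q → I ≤ q.asIdeal → J ≤ q.asIdeal) (s : ℕ)
    (ih : ∀ (N : Type u) [AddCommGroup N] [Module A N] [Module.Finite A N],
      HH I J d s T N → ConclG I J s N)
    (M : Type u) [AddCommGroup M] [Module A M] [Module.Finite A M] (hH : HH I J d (s + 1) T M)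
    (J₁ : Ideal A) (hG : Good M I J (s + 1) T J₁)
    (hass : ∀ p ∈ associatedPrimes A M, ¬ J₁ * I ≤ p ∧
      ∃ q : PrimeSpectrum A, p ≤ q.asIdeal ∧ J ≤ q.asIdeal ∧ I ≤ q.asIdeal) :
    ∃ J₀' : Ideal A, J₀' ≤ J ∧
      PrimeSpectrum.zeroLocus ((J₀' : Ideal A) : Set A) ∩
        PrimeSpectrum.zeroLocus ((I : Ideal A) : Set A) =
        PrimeSpectrum.zeroLocus ((J : Ideal A) : Set A) ∩
          PrimeSpectrum.zeroLocus ((I : Ideal A) : Set A) ∧
      ∀ gs : List A, gs ≠ [] → Ideal.span {x : A | x ∈ gs} ≤ J₁ →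
        Ideal.span {x : A | x ∈ gs} ≤ J₀' →
        PrimeSpectrum.zeroLocus ((Ideal.span {x : A | x ∈ gs} : Ideal A) : Set A) ∩
          PrimeSpectrum.zeroLocus ((I : Ideal A) : Set A) =
          PrimeSpectrum.zeroLocus ((J : Ideal A) : Set A) ∩
            PrimeSpectrum.zeroLocus ((I : Ideal A) : Set A) →
        ∀ i : ℤ, i ≤ ((s + 1 : ℕ) : ℤ) → BijAt I (KK gs (ModuleCat.of A M)) i := by
  obtain ⟨c⟩ := nonempty_ctx_general hdc I J hIjac d hcd T hT M (s + 1) hH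
  obtain ⟨n, hn⟩ := hG.ann c
  obtain ⟨𝔞, h𝔞⟩ : ∃ 𝔞 : Ideal A, ∀ f : A, f ∈ 𝔞 ↔ ∀ j : ℕ, j ≤ d + (s + 1) →
      ∀ x : LocCoh.H (I ⊔ J) j M, f • x = 0 := by
    refine ⟨⨅ j : Fin (d + (s + 1) + 1),
      Module.annihilator A (LocCoh.H (I ⊔ J) (j : ℕ) M), fun f => ?_⟩
    rw [Submodule.mem_iInf]
    constructor
    · intro h j hj x
      exact Module.mem_annihilator.1 (h ⟨j, by omega⟩) x
    · intro h j
      exact Module.mem_annihilator.2 (fun x => h j (Nat.lt_succ_iff.1 j.2) x)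
  have hnot : ∀ p ∈ associatedPrimes A M, ¬ ((J₁ * I) ^ n ⊓ 𝔞) ≤ p := by
    intro p hp hle
    have hprime : p.IsPrime := hp.isPrime
    obtain ⟨h𝔟p, q₀, hpq₀, hJq₀, hIq₀⟩ := hass p hp
    have hIp : ¬ I ≤ p := fun h => h𝔟p (Ideal.mul_le_right.trans h)
    have hJp : ¬ J₁ ≤ p := fun h => h𝔟p (Ideal.mul_le_left.trans h)
    rcases (Ideal.IsPrime.inf_le hprime).1 hle with h | h
    · exact h𝔟p (hprime.le_of_pow_le h)
    · obtain ⟨P, hP⟩ : ∃ P : PrimeSpectrum A, P = ⟨p, hprime⟩ := ⟨_, rfl⟩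
      have hPp : P.asIdeal = p := by rw [hP]
      have h0 : ¬ 1 ≤ dep M P := by
        subst hP
        exact (Groth.Agent.DepthLib.not_one_le_depth_localization_iff M p).2 hp
      have h1s : (1 : ℕ∞) ≤ ((s + 1 : ℕ) : ℕ∞) := by
        exact_mod_cast Nat.succ_le_succ (Nat.zero_le s)
      have hIP : ¬ I ≤ P.asIdeal := by rw [hPp]; exact hIp
      have hJP : ¬ J₁ ≤ P.asIdeal := by rw [hPp]; exact hJp
      have hPT : P ∉ T := fun hPT => h0 (h1s.trans (hG.hdepth P hPT hIP hJP).le)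
      have hlt0 : dep M P < ((s + 1 : ℕ) : ℕ∞) := lt_of_lt_of_le (not_le.1 h0) h1s
      have hPq₀ : P ≤ q₀ := by
        show P.asIdeal ≤ q₀.asIdeal
        rw [hPp]
        exact hpq₀
      have hstar := hH P hIP hPT ⟨q₀, hPq₀, hJq₀, hIq₀⟩ hlt0
      have hKP : ¬ I ⊔ J ≤ P.asIdeal := fun hh => hIP (le_sup_left.trans hh)
      obtain ⟨f, hfp, hf⟩ := exists_kill_K hdc (I ⊔ J) M P hKP (d + (s + 1))
        (fun p' q hp' hq hp'q =>
          hstar p' hp' q hp'q (le_sup_right.trans hq) (le_sup_left.trans hq))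
      apply hfp
      rw [hPp]
      exact h ((h𝔞 f).2 hf)
  obtain ⟨f, hf, hreg⟩ := exists_regular_mem M ((J₁ * I) ^ n ⊓ 𝔞) hnot
  have hf𝔟 : f ∈ (J₁ * I) ^ n := hf.1
  have hf𝔞 := (h𝔞 f).1 hf.2
  obtain ⟨f', hf'⟩ : ∃ f' : A, f' = f ^ (d + (s + 1) + 1) := ⟨_, rfl⟩
  have hreg' : IsSMulRegular M f' := by rw [hf']; exact hreg.pow _
  have hf'𝔟 : f' ∈ (J₁ * I) ^ n := by
    rw [hf']
    exact Ideal.pow_mem_of_mem _ hf𝔟 _ (Nat.succ_pos _)
  have hHN : HH I J d s T (QuotSMulTop f' M) := by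
    intro p hpI hpT hq hlt p' hp'p q hp'q hqJ hqI
    obtain ⟨h1, h2⟩ := dep_quotSMulTop M f' hreg' p
    have hfp : f' ∈ p.asIdeal := by
      by_contra hfp
      rw [h2 hfp] at hlt
      exact absurd hlt (not_lt.2 le_top)
    have hlt' : dep M p < ((s + 1 : ℕ) : ℕ∞) := by
      rw [h1 hfp]
      exact enat_succ_lt hlt
    have hstar := hH p hpI hpT hq hlt' p' hp'p q hp'q hqJ hqI
    obtain ⟨h1', h2'⟩ := dep_quotSMulTop M f' hreg' p'
    by_cases hfp' : f' ∈ p'.asIdeal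
    · exact arith_step_lt (h1' hfp') hstar
    · rw [h2' hfp']
      apply lt_top_add
      haveI : Nonempty (Set.Icc p' q) := ⟨⟨p', le_rfl, hp'q⟩⟩
      exact Order.krullDim_nonneg
  obtain ⟨J₀', hJ₀'le, hJ₀'1, hJ₀'2⟩ := ih (QuotSMulTop f' M) hHN
  refine ⟨J₀', hJ₀'le, hJ₀'1, ?_⟩
  intro gs hne hle1 hle2 hint i hi
  have k1 : ∀ j : ℤ, j ≤ ((s + 1 : ℕ) : ℤ) →
      ∀ x : (Hn A j).obj (KK gs (ModuleCat.of A M)), f' • x = 0 := by
    intro j hj x
    rcases lt_or_ge j 0 with hneg | hpos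
    · have hz : IsZero ((Hn A j).obj (KK gs (ModuleCat.of A M))) :=
        (Groth.Agent.Lib.ExtCechOldH7.S9264 gs _ j (Or.inl hneg)).of_iso
          ((homologyFunctorFactors (ModuleCat.{u} A) j).app _)
      haveI := ModuleCat.subsingleton_of_isZero hz
      exact Subsingleton.elim _ _
    · obtain ⟨m, rfl⟩ := Int.eq_ofNat_of_zero_le hpos
      have hm : m ≤ s + 1 := by exact_mod_cast hj
      apply smul_H_KK_eq_zero gs hne M m f'
      intro y
      obtain ⟨z, rfl⟩ := (hG.bijective c hle1 hint m hm).2 y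
      have e1 : f' • ((Dual2.HmapOfLE hle1 m).app (ModuleCat.of A M)).hom z =
          ((Dual2.HmapOfLE hle1 m).app (ModuleCat.of A M)).hom (f' • z) :=
        (map_smul _ f' z).symm
      rw [e1, hn f' hf'𝔟 m hm z, map_zero]
  have hKm : ∀ q : PrimeSpectrum A, I ⊔ J ≤ q.asIdeal ↔
      I ≤ q.asIdeal ∧ Ideal.span {x : A | x ∈ gs} ≤ q.asIdeal := by
    intro q
    constructor
    · intro h
      exact ⟨le_sup_left.trans h, (hle1.trans hG.le).trans (le_sup_right.trans h)⟩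
    · rintro ⟨h1, h2⟩
      have hmem : q ∈ PrimeSpectrum.zeroLocus
          ((Ideal.span {x : A | x ∈ gs} : Ideal A) : Set A) ∩
          PrimeSpectrum.zeroLocus ((I : Ideal A) : Set A) :=
        ⟨(PrimeSpectrum.mem_zeroLocus _ _).2 h2, (PrimeSpectrum.mem_zeroLocus _ _).2 h1⟩
      rw [hint] at hmem
      exact sup_le h1 ((PrimeSpectrum.mem_zeroLocus _ _).1 hmem.1)
  have k2 : ∀ j : ℤ, j ≤ ((s + 1 : ℕ) : ℤ) → ∀ x : (Hn A j).obj
      ((DRing.derivedCompletion I).obj (KK gs (ModuleCat.of A M))).obj, f' • x = 0 := by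
    intro j hj x
    rw [hf']
    exact smul_H_completion_KK_eq_zero I gs M d (s + 1) hcd (I ⊔ J) hKm f hf𝔞 j hj x
  have hall : ∀ k : ℕ, ∀ j : ℤ, j < (k : ℤ) → j ≤ ((s + 1 : ℕ) : ℤ) →
      BijAt I (KK gs (ModuleCat.of A M)) j := by
    intro k
    induction k with
    | zero =>
      intro j hj _
      exact bijAt_neg I gs M j (by exact_mod_cast hj)
    | succ k ihk =>
      intro j hj hjs
      have hj' : j ≤ (k : ℤ) := by
        have : j < (k : ℤ) + 1 := by exact_mod_cast hj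
        omega
      rcases lt_or_eq_of_le hj' with h | h
      · exact ihk j h hjs
      · subst h
        exact bijAt_step_smul I gs M f' hreg' ((k : ℤ) - 1) (k : ℤ) (by ring) (k1 _ hjs)
          (k2 _ hjs) (ihk _ (by omega) (by omega))
          (hJ₀'2 gs hne hle2 hint _ (by omega))
  exact hall (i.toNat + 1) i (by omega) hi

theorem main_aux_general (I J : Ideal A) [IsAdicComplete I A]
    (hdc : ∃ ω : Dual.D A, Dual.IsDualizing A ω) [DRing.HasDerivedCompletion I] (d : ℕ)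
    (hcd : LocCoh.CdLE A I d) (T : Set (PrimeSpectrum A))
    (hT : ∀ p : PrimeSpectrum A, p ∈ T ↔
      ∀ q : PrimeSpectrum A, p ≤ q → I ≤ q.asIdeal → J ≤ q.asIdeal) (s : ℕ) :
    ∀ (M : Type u) [AddCommGroup M] [Module A M] [Module.Finite A M],
      HH I J d s T M → ConclG I J s M := by
  have hIjac : I ≤ Ideal.jacobson (⊥ : Ideal A) := IsAdicComplete.le_jacobson_bot I (R := A)
  induction s with
  | zero =>
    intro M _ _ _ hH
    obtain ⟨c⟩ := nonempty_ctx_general hdc I J hIjac d hcd T hT M 0 hH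
    obtain ⟨J₁, hG⟩ := c.exists_good
    refine ⟨J₁, hG.le, hG.inter, ?_⟩
    intro gs hne hle hint i hi
    rcases lt_or_eq_of_le hi with hlt | heq
    · exact bijAt_neg I gs M i (by exact_mod_cast hlt)
    · have hi0 : i = 0 := by exact_mod_cast heq
      subst hi0
      apply bijAt_zero I gs M
      intro J' hJ'1 hJ'2 x hx g hg
      have hsub : DRing.torsionSub J' M ≤ DRing.torsionSub J₁ M := by
        apply torsionSub_le_of_ass J' J₁ M
        intro p hp hJ'p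
        have hprime : p.IsPrime := hp.isPrime
        obtain ⟨P, hP⟩ : ∃ P : PrimeSpectrum A, P = ⟨p, hprime⟩ := ⟨_, rfl⟩
        have hPp : P.asIdeal = p := by rw [hP]
        have hPT : P ∈ T := by
          rw [hT]
          intro q hPq hIq
          have h1 : J' ⊔ I ≤ q.asIdeal :=
            sup_le (fun a ha => hPq (show a ∈ P.asIdeal by rw [hPp]; exact hJ'p ha)) hIq
          have h2 : Ideal.span {x : A | x ∈ gs} ≤ q.asIdeal :=
            hJ'2.trans ((Ideal.IsPrime.radical_le_iff q.isPrime).2 h1)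
          have hmem : q ∈ PrimeSpectrum.zeroLocus
              ((Ideal.span {x : A | x ∈ gs} : Ideal A) : Set A) ∩
              PrimeSpectrum.zeroLocus ((I : Ideal A) : Set A) :=
            ⟨(PrimeSpectrum.mem_zeroLocus _ _).2 h2, (PrimeSpectrum.mem_zeroLocus _ _).2 hIq⟩
          rw [hint] at hmem
          exact (PrimeSpectrum.mem_zeroLocus _ _).1 hmem.1
        by_cases hIp : I ≤ p
        · have hJ : J ≤ P.asIdeal := (hT P).1 hPT P le_rfl (by rw [hPp]; exact hIp)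
          rw [hPp] at hJ
          exact hG.le.trans hJ
        · by_contra hJ₁p
          have hlt := hG.hdepth P hPT (by rw [hPp]; exact hIp) (by rw [hPp]; exact hJ₁p)
          have h0 : ¬ 1 ≤ dep M P := by
            subst hP
            exact (Groth.Agent.DepthLib.not_one_le_depth_localization_iff M p).2 hp
          apply h0
          rw [Order.one_le_iff_pos]
          exact_mod_cast hlt
      obtain ⟨k, hk⟩ := hsub hx
      exact ⟨k, hk (g ^ k) (Ideal.pow_mem_pow (hle (Ideal.subset_span hg)) k)⟩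
  | succ s ih =>
    intro M _ _ _ hH
    obtain ⟨c⟩ := nonempty_ctx_general hdc I J hIjac d hcd T hT M (s + 1) hH
    obtain ⟨J₁, hG⟩ := c.exists_good
    obtain ⟨𝔠, h𝔠1, h𝔠2⟩ := exists_bad_ideal I J M
    obtain ⟨𝔟, h𝔟⟩ : ∃ 𝔟 : Ideal A, 𝔟 = J₁ * I * 𝔠 := ⟨_, rfl⟩
    have hmax : ∀ p : PrimeSpectrum A, ∃ q : PrimeSpectrum A, p ≤ q ∧ I ≤ q.asIdeal := by
      intro p
      obtain ⟨𝔪, h𝔪, hp𝔪⟩ := Ideal.exists_le_maximal p.asIdeal p.isPrime.ne_top
      exact ⟨⟨𝔪, h𝔪.isPrime⟩, hp𝔪, hIjac.trans (sInf_le ⟨bot_le, h𝔪⟩)⟩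
    have hF : ∀ p : PrimeSpectrum A, ¬ I ≤ p.asIdeal → ¬ J₁ ≤ p.asIdeal →
        (∃ q : PrimeSpectrum A, p ≤ q ∧ J ≤ q.asIdeal ∧ I ≤ q.asIdeal) → ¬ 𝔟 ≤ p.asIdeal := by
      rintro p h1 h2 ⟨q, hpq, hJq, hIq⟩ hle
      rw [h𝔟] at hle
      rcases (Ideal.IsPrime.mul_le p.isPrime).1 hle with h | h
      · rcases (Ideal.IsPrime.mul_le p.isPrime).1 h with h' | h'
        · exact h2 h'
        · exact h1 h'
      · exact h𝔠1 p h q hpq hJq hIq
    have hdepeq : ∀ p : PrimeSpectrum A, ¬ 𝔟 ≤ p.asIdeal →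
        dep (M ⧸ DRing.torsionSub 𝔟 M) p = dep M p := fun p hp => dep_quot_torsionSub 𝔟 M p hp
    have hH'' : HH I J d (s + 1) T (M ⧸ DRing.torsionSub 𝔟 M) := by
      intro p hpI hpT hq hlt p' hp'p q hp'q hqJ hqI
      have hpJ₁ : ¬ J₁ ≤ p.asIdeal := fun hle => hpT (hG.subset_T c hle)
      have hnb : ¬ 𝔟 ≤ p.asIdeal := hF p hpI hpJ₁ hq
      have hnb' : ¬ 𝔟 ≤ p'.asIdeal := fun hle => hnb (hle.trans hp'p)
      rw [hdepeq p hnb] at hlt
      rw [hdepeq p' hnb']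
      exact hH p hpI hpT hq hlt p' hp'p q hp'q hqJ hqI
    have hG'' : Good (M ⧸ DRing.torsionSub 𝔟 M) I J (s + 1) T J₁ :=
      ⟨hG.le, hG.inter, fun p hpT hpI hpJ => by
        obtain ⟨q, hpq, hIq⟩ := hmax p
        have hJq : J ≤ q.asIdeal := (hT p).1 hpT q hpq hIq
        rw [hdepeq p (hF p hpI hpJ ⟨q, hpq, hJq, hIq⟩)]
        exact hG.hdepth p hpT hpI hpJ⟩
    have hass : ∀ p ∈ associatedPrimes A (M ⧸ DRing.torsionSub 𝔟 M), ¬ J₁ * I ≤ p ∧
        ∃ q : PrimeSpectrum A, p ≤ q.asIdeal ∧ J ≤ q.asIdeal ∧ I ≤ q.asIdeal := by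
      intro p hp
      have hnb := not_le_of_mem_associatedPrimes_quot 𝔟 M hp
      have hpM := associatedPrimes_quot_torsionSub_subset 𝔟 M hp
      constructor
      · intro hle
        apply hnb
        rw [h𝔟]
        exact Ideal.mul_le_left.trans hle
      · by_contra hno
        apply hnb
        rw [h𝔟]
        exact Ideal.mul_le_right.trans
          (h𝔠2 p hpM (fun q h1 h2 h3 => hno ⟨q, h1, h2, h3⟩))
    obtain ⟨J₀', hJ₀'le, hJ₀'1, hJ₀'2⟩ := step_torsionFree_general I J hIjac hdc d hcd T hT s ih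
      (M ⧸ DRing.torsionSub 𝔟 M) hH'' J₁ hG'' hass
    refine ⟨J₁ ⊓ J₀', inf_le_left.trans hG.le, ?_, ?_⟩
    · rw [PrimeSpectrum.zeroLocus_inf, Set.union_inter_distrib_right, hG.inter, hJ₀'1,
        Set.union_self]
    · intro gs hne hle hint i hi
      have hle1 : Ideal.span {x : A | x ∈ gs} ≤ J₁ := hle.trans inf_le_left
      have hle2 : Ideal.span {x : A | x ∈ gs} ≤ J₀' := hle.trans inf_le_right
      have hM'' : ∀ j : ℤ, j ≤ ((s + 1 : ℕ) : ℤ) →
          BijAt I (KK gs (ModuleCat.of A (M ⧸ DRing.torsionSub 𝔟 M))) j :=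
        hJ₀'2 gs hne hle1 hle2 hint
      have hcop : 𝔠 ⊔ Ideal.span {x : A | x ∈ gs} = ⊤ := by
        by_contra hne'
        obtain ⟨𝔪, h𝔪, hle𝔪⟩ := Ideal.exists_le_maximal _ hne'
        have hI𝔪 : I ≤ 𝔪 := hIjac.trans (sInf_le ⟨bot_le, h𝔪⟩)
        have hgs𝔪 : Ideal.span {x : A | x ∈ gs} ≤ 𝔪 := le_sup_right.trans hle𝔪
        have hmem : (⟨𝔪, h𝔪.isPrime⟩ : PrimeSpectrum A) ∈ PrimeSpectrum.zeroLocus
            ((Ideal.span {x : A | x ∈ gs} : Ideal A) : Set A) ∩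
            PrimeSpectrum.zeroLocus ((I : Ideal A) : Set A) :=
          ⟨(PrimeSpectrum.mem_zeroLocus _ _).2 hgs𝔪,
            (PrimeSpectrum.mem_zeroLocus _ _).2 hI𝔪⟩
        rw [hint] at hmem
        exact h𝔠1 ⟨𝔪, h𝔪.isPrime⟩ (le_sup_left.trans hle𝔪) ⟨𝔪, h𝔪.isPrime⟩ le_rfl
          ((PrimeSpectrum.mem_zeroLocus _ _).1 hmem.1) hI𝔪
      obtain ⟨k, hk⟩ := exists_pow_kills_torsionSub 𝔟 M
      have hcomp : DRing.IsDerivedComplete I
          (KK gs (ModuleCat.of A ↥(DRing.torsionSub 𝔟 M))) :=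
        complete_of_three_step I gs ↥(DRing.torsionSub 𝔟 M) J₁ 𝔠 hle1 hcop k
          (fun a ha x => Subtype.ext (hk a (by rw [h𝔟]; exact ha) x.1 x.2))
      have hS := Groth.Agent.DepthLib.shortComplexOf_shortExact
        (DRing.torsionSub 𝔟 M).subtype (DRing.torsionSub 𝔟 M).mkQ
        (Submodule.injective_subtype _) (Submodule.mkQ_surjective _)
        (LinearMap.exact_subtype_mkQ _)
      exact bijAt_mid_of_ses I _ hS gs (i - 1) i (i + 1) (by ring) rfl
        (hM'' (i - 1) (by omega)) (BijAt.of_complete I hcomp i) (hM'' i hi)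
        (BijAt.of_complete I hcomp (i + 1))

/-! ### From the hypotheses (4), (5) to the inductive hypothesis -/

theorem HH_of_h5 {I J : Ideal A} {M : Type u} [AddCommGroup M] [Module A M] [Module.Finite A M]
    {s d : ℕ} {T : Set (PrimeSpectrum A)} (c : Ctx M I J s d T) (δ : PrimeSpectrum A → ℤ)
    (hδ : ∀ p q : PrimeSpectrum A, p ⋖ q → δ p = δ q + 1)
    (h5 : ∀ p : PrimeSpectrum A, ¬ I ≤ p.asIdeal → p ∉ T →
      (∃ q : PrimeSpectrum A, p ≤ q ∧ J ≤ q.asIdeal ∧ I ≤ q.asIdeal) → dep M p < (s : ℕ∞) →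
      Module.supportDim (Localization.AtPrime p.asIdeal)
          (LocalizedModule p.asIdeal.primeCompl M) < ((s + 2 : ℕ) : WithBot ℕ∞) ∨
        (∀ q' : PrimeSpectrum A, J ≤ q'.asIdeal → I ≤ q'.asIdeal → (d : ℤ) + δ q' - 1 < δ p) ∨
        (∀ q : PrimeSpectrum A, p ≤ q → J ≤ q.asIdeal → I ≤ q.asIdeal →
          ∀ q₁ q₂ : PrimeSpectrum A, J ≤ q₁.asIdeal → I ≤ q₁.asIdeal → J ≤ q₂.asIdeal →
          I ≤ q₂.asIdeal → ∀ k : ℕ, (k : ℤ) = (d : ℤ) + s + (δ q₁ - δ q₂) - 2 →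
          ((k : ℕ∞) : WithBot ℕ∞) <
            ((dep M p : ℕ∞) : WithBot ℕ∞) + Formal2.dimBetween A p.asIdeal q.asIdeal)) :
    HH I J d s T M := by
  rintro p hpI hpT ⟨q₀, hpq₀, hJq₀, hIq₀⟩ hlt p' hp'p q hp'q hqJ hqI
  rw [c.hdim p' q hp'q, ← WithBot.coe_add, WithBot.coe_lt_coe]
  by_cases htop : dep M p' = ⊤
  · rw [htop, top_add]
    exact ENat.natCast_lt_top _
  have hp'I : ¬ I ≤ p'.asIdeal := fun h => hpI (h.trans hp'p)
  have hp'T : p' ∉ T := fun h => hpT (c.T_up h hp'p)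
  obtain ⟨a, ha⟩ := ENat.ne_top_iff_exists.1 (ne_top_of_lt hlt)
  have has : a < s := by
    rw [← ha] at hlt
    exact_mod_cast hlt
  have h4p : ∀ q' : PrimeSpectrum A, p ≤ q' → J ≤ q'.asIdeal → I ≤ q'.asIdeal →
      d + s < a + (c.ν q' - c.ν p).toNat := by
    intro q' hpq' hJ hI
    rcases c.h4 p hpI hpT q' hpq' hJ hI with h | h
    · rw [← ha] at h
      have : s ≤ a := by exact_mod_cast h
      omega
    · rw [← ha] at h
      exact_mod_cast h
  rcases c.h4 p' hp'I hp'T q hp'q hqJ hqI with h | h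
  swap
  · exact h
  suffices hD : d + 1 ≤ (c.ν q - c.ν p').toNat by
    calc ((d + s : ℕ) : ℕ∞) < ((s + (d + 1) : ℕ) : ℕ∞) := by
          exact_mod_cast (by omega : d + s < s + (d + 1))
      _ = (s : ℕ∞) + ((d + 1 : ℕ) : ℕ∞) := by rw [Nat.cast_add]
      _ ≤ dep M p' + (((c.ν q - c.ν p').toNat : ℕ) : ℕ∞) :=
          add_le_add h (by exact_mod_cast hD)
  have hν1 := c.nu_le hp'p
  have hν2 := c.nu_le hp'q
  by_cases hpq : p ≤ q
  · have h1 := h4p q hpq hqJ hqI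
    have hν3 := c.nu_le hpq
    omega
  · have hlt' : p' < p := lt_of_le_of_ne hp'p (fun hh => hpq (hh ▸ hp'q))
    have hpos := c.hmono p' p hlt'
    have e1 := D_eq_delta c δ hδ hp'q
    have e2 := D_eq_delta c δ hδ hp'p
    have e3 := D_eq_delta c δ hδ hpq₀
    have hν4 := c.nu_le hpq₀
    rcases h5 p hpI hpT ⟨q₀, hpq₀, hJq₀, hIq₀⟩ hlt with ha' | hb | hc
    · -- (a)
      by_cases hsupp : p' ∈ Module.support A M
      · have hann : Module.annihilator A M ≤ p'.asIdeal :=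
          Module.mem_support_iff_of_finite.1 hsupp
        haveI := p'.isPrime
        obtain ⟨P₀, hP₀, hP₀p'⟩ := Ideal.exists_minimalPrimes_le hann
        have hP₀ass : P₀ ∈ associatedPrimes A M :=
          Module.associatedPrimes.minimalPrimes_annihilator_subset_associatedPrimes A M hP₀
        haveI hP₀prime : P₀.IsPrime := hP₀.1.1
        obtain ⟨p₀, hp₀⟩ : ∃ p₀ : PrimeSpectrum A, p₀ = ⟨P₀, hP₀prime⟩ := ⟨_, rfl⟩
        have hp₀P : p₀.asIdeal = P₀ := by rw [hp₀]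
        have hp₀p' : p₀ ≤ p' := by
          show p₀.asIdeal ≤ p'.asIdeal
          rw [hp₀P]
          exact hP₀p'
        have h0 : ¬ 1 ≤ dep M p₀ := by
          subst hp₀
          exact (Groth.Agent.DepthLib.not_one_le_depth_localization_iff M P₀).2 hP₀ass
        have hp₀I : ¬ I ≤ p₀.asIdeal := fun hh => hp'I (hh.trans hp₀p')
        have hp₀T : p₀ ∉ T := fun hh => hp'T (c.T_up hh hp₀p')
        have hdep0 : dep M p₀ = 0 := by
          by_contra hne
          exact h0 (Order.one_le_iff_pos.2 (pos_iff_ne_zero.2 hne))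
        have h4' := c.h4 p₀ hp₀I hp₀T q (hp₀p'.trans hp'q) hqJ hqI
        rw [hdep0, zero_add] at h4'
        have h4'' : d + s < (c.ν q - c.ν p₀).toNat := by
          rcases h4' with h6 | h6
          · have : s ≤ 0 := by exact_mod_cast h6
            omega
          · exact_mod_cast h6
        have hp₀p : p₀ ≤ p := hp₀p'.trans hp'p
        haveI := p.isPrime
        haveI := p₀.isPrime
        have hsd : Order.krullDim (Set.Icc p₀ p) ≤
            Module.supportDim (Localization.AtPrime p.asIdeal)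
              (LocalizedModule p.asIdeal.primeCompl M) := by
          rw [krullDim_Icc_eq_height p₀ p hp₀p,
            Groth.Agent.Lib.FaltingsCM_helper6.height_Ici_eq p₀ p hp₀p]
          exact Groth.Agent.Lib.FaltingsCM_helper6.height_map_le_supportDim M p₀.asIdeal
            p.asIdeal (by rw [hp₀P]; exact hP₀.1.2) hp₀p
        have hsd' : (c.ν p - c.ν p₀).toNat < s + 2 := by
          have h7 := lt_of_le_of_lt hsd ha'
          rw [c.hdim p₀ p hp₀p] at h7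
          have h8 : ((((c.ν p - c.ν p₀).toNat : ℕ) : ℕ∞) : WithBot ℕ∞) <
              (((s + 2 : ℕ) : ℕ∞) : WithBot ℕ∞) := h7
          rw [WithBot.coe_lt_coe] at h8
          exact_mod_cast h8
        have hν5 := c.nu_le hp₀p'
        omega
      · exfalso
        apply htop
        haveI : Subsingleton (LocalizedModule p'.asIdeal.primeCompl M) :=
          not_nontrivial_iff_subsingleton.1 (fun hh => hsupp (Module.mem_support_iff.2 hh))
        haveI : IsNoetherianRing (Localization.AtPrime p'.asIdeal) :=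
          IsLocalization.isNoetherianRing p'.asIdeal.primeCompl _ inferInstance
        unfold dep LocCoh.depth
        exact Groth.Agent.DepthLib.idealDepth_of_subsingleton _ _
    · -- (b)
      have hb' := hb q hqJ hqI
      omega
    · -- (c)
      by_cases hz : 0 ≤ (d : ℤ) + s + (δ q - δ q₀) - 2
      · obtain ⟨k, hk⟩ : ∃ k : ℕ, (k : ℤ) = (d : ℤ) + s + (δ q - δ q₀) - 2 :=
          ⟨_, Int.toNat_of_nonneg hz⟩
        have h6 := hc q₀ hpq₀ hJq₀ hIq₀ q q₀ hqJ hqI hJq₀ hIq₀ k hk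
        have hdb : Formal2.dimBetween A p.asIdeal q₀.asIdeal = Order.krullDim (Set.Icc p q₀) :=
          le_antisymm (dimBetween_le_krullDim_Icc p q₀) (krullDim_Icc_le_dimBetween p q₀)
        rw [hdb, c.hdim p q₀ hpq₀, ← ha, ← WithBot.coe_add, WithBot.coe_lt_coe] at h6
        have h7 : k < a + (c.ν q₀ - c.ν p).toNat := by exact_mod_cast h6
        omega
      · omega

/-- **S8808** -/
theorem main8808 (A : Type u) [CommRing A] [IsNoetherianRing A] (I : Ideal A) [IsAdicComplete I A]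
    (hdc : ∃ ω : Dual.D A, Dual.IsDualizing A ω) [DRing.HasDerivedCompletion I] (J : Ideal A)
    (M : Type u) [AddCommGroup M] [Module A M] [Module.Finite A M] (s d : ℕ)
    (h3 : LocCoh.CdLE A I d) (T : Set (PrimeSpectrum A))
    (hT : ∀ p : PrimeSpectrum A, p ∈ T ↔
      ∀ q : PrimeSpectrum A, p ≤ q → I ≤ q.asIdeal → J ≤ q.asIdeal)
    (h4 : ∀ p : PrimeSpectrum A, ¬ I ≤ p.asIdeal → p ∉ T → ∀ q : PrimeSpectrum A, p ≤ q →
      J ≤ q.asIdeal → I ≤ q.asIdeal →
      (s : ℕ∞) ≤ LocCoh.depth (Localization.AtPrime p.asIdeal)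
        (LocalizedModule p.asIdeal.primeCompl M) ∨
      (((d + s : ℕ) : ℕ∞) : WithBot ℕ∞) <
        ((LocCoh.depth (Localization.AtPrime p.asIdeal)
          (LocalizedModule p.asIdeal.primeCompl M) : ℕ∞) : WithBot ℕ∞) +
          Formal2.dimBetween A p.asIdeal q.asIdeal)
    (δ : PrimeSpectrum A → ℤ) (hδ : ∀ p q : PrimeSpectrum A, p ⋖ q → δ p = δ q + 1)
    (h5 : ∀ p : PrimeSpectrum A, ¬ I ≤ p.asIdeal → p ∉ T →
      (∃ q : PrimeSpectrum A, p ≤ q ∧ J ≤ q.asIdeal ∧ I ≤ q.asIdeal) →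
      LocCoh.depth (Localization.AtPrime p.asIdeal)
        (LocalizedModule p.asIdeal.primeCompl M) < (s : ℕ∞) →
      Module.supportDim (Localization.AtPrime p.asIdeal)
          (LocalizedModule p.asIdeal.primeCompl M) < ((s + 2 : ℕ) : WithBot ℕ∞) ∨
        (∀ q' : PrimeSpectrum A, J ≤ q'.asIdeal → I ≤ q'.asIdeal → (d : ℤ) + δ q' - 1 < δ p) ∨
        (∀ q : PrimeSpectrum A, p ≤ q → J ≤ q.asIdeal → I ≤ q.asIdeal →
          ∀ q₁ q₂ : PrimeSpectrum A, J ≤ q₁.asIdeal → I ≤ q₁.asIdeal → J ≤ q₂.asIdeal →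
          I ≤ q₂.asIdeal → ∀ k : ℕ, (k : ℤ) = (d : ℤ) + s + (δ q₁ - δ q₂) - 2 →
          ((k : ℕ∞) : WithBot ℕ∞) <
            ((LocCoh.depth (Localization.AtPrime p.asIdeal)
              (LocalizedModule p.asIdeal.primeCompl M) : ℕ∞) : WithBot ℕ∞) +
              Formal2.dimBetween A p.asIdeal q.asIdeal)) :
    ∃ J₀ : Ideal A, J₀ ≤ J ∧
      PrimeSpectrum.zeroLocus ((J₀ : Ideal A) : Set A) ∩
        PrimeSpectrum.zeroLocus ((I : Ideal A) : Set A) =
        PrimeSpectrum.zeroLocus ((J : Ideal A) : Set A) ∩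
          PrimeSpectrum.zeroLocus ((I : Ideal A) : Set A) ∧
      ∀ (J' : Ideal A) [DRing.HasRgammaI J'], J' ≤ J₀ →
        PrimeSpectrum.zeroLocus ((J' : Ideal A) : Set A) ∩
          PrimeSpectrum.zeroLocus ((I : Ideal A) : Set A) =
          PrimeSpectrum.zeroLocus ((J : Ideal A) : Set A) ∩
            PrimeSpectrum.zeroLocus ((I : Ideal A) : Set A) →
        ∀ i : ℤ, i ≤ s → Function.Bijective
          ((DerivedCategory.homologyFunctor (ModuleCat.{u} A) i).map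
            (DRing.toDerivedCompletion I ((DRing.RgammaI J').obj (Dual.inD A M)))).hom := by
  have hIjac : I ≤ Ideal.jacobson (⊥ : Ideal A) := IsAdicComplete.le_jacobson_bot I (R := A)
  obtain ⟨c⟩ := nonempty_ctx hdc I J M s d T hT (fun p hpI hpT => by
    obtain ⟨q, hpq, hIq, hd⟩ := exists_dimBetween_le I hIjac d h3 p
    exact ⟨q, hpq, (hT p).1 hpT q hpq hIq, hIq, hd⟩) h4
  have hH : HH I J d s T M := HH_of_h5 c δ hδ h5
  obtain ⟨J₀, hJ₀le, hJ₀, hmain⟩ := main_aux_general I J hdc d h3 T hT s M hH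
  refine ⟨J₀, hJ₀le, hJ₀, ?_⟩
  intro J' _ hJ' hint i hi
  obtain ⟨gs, hne, hgs⟩ := exists_list_span_ne_nil J'
  subst hgs
  exact bijAt_RgammaI I gs M i (hmain gs hne hJ' hint i hi)

end Groth.Agent.Lib.LCdH1
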