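import Mathlib
import Groth.Prelude

set_option autoImplicit false
set_option linter.style.haveILetI false

universe u v

open CategoryTheory ArtFun ArtFun.Art

namespace Groth.Agent.Lib.LCondH4

variable {k : Type u} [Field k]

section
variable {B A P : Art k k} (f : B ⟶ A) (p₁ p₂ : P ⟶ B)

/-- The generating set of the ideal `K`. -/
abbrev KS : Set P := {z : P | p₁ z = p₂ z ∧ f (p₁ z) = 0}

/-- The equalizer of the two projections. -/
noncomputable def E : Subalgebra k P := AlgHom.equalizer p₁.toAlgHom p₂.toAlgHom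

/-- `z ↦ f (p₁ z)` on the equalizer. -/
noncomputable def g : ↥(E p₁ p₂) →ₐ[k] A := (f.toAlgHom.comp p₁.toAlgHom).comp (E p₁ p₂).val

lemma g_apply (z : ↥(E p₁ p₂)) : g f p₁ p₂ z = f (p₁ (z : P)) := rfl

lemma E_mem (z : ↥(E p₁ p₂)) : p₁ (z : P) = p₂ (z : P) :=
  (AlgHom.mem_equalizer p₁.toAlgHom p₂.toAlgHom (z : P)).1 z.2

lemma g_surjective (hf : Function.Surjective f)
    (hP : IsFibreProd p₁ p₂ (toBase B) (toBase B)) : Function.Surjective (g f p₁ p₂) := by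
  intro a
  obtain ⟨b, rfl⟩ := hf a
  obtain ⟨z, hz₁, hz₂⟩ := hP.surj b b rfl
  refine ⟨⟨z, (AlgHom.mem_equalizer p₁.toAlgHom p₂.toAlgHom z).2 (hz₁.trans hz₂.symm)⟩, ?_⟩
  show f (p₁ z) = f b
  rw [hz₁]

variable (hK : Ideal.span (KS f p₁ p₂) ≤ IsLocalRing.maximalIdeal P)

/-- `z ↦ z mod K` on the equalizer. -/
noncomputable def h : ↥(E p₁ p₂) →ₐ[k] (quot P (Ideal.span (KS f p₁ p₂)) hK) :=
  (quotMk P (Ideal.span (KS f p₁ p₂)) hK).toAlgHom.comp (E p₁ p₂).val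

lemma ker_le : RingHom.ker (g f p₁ p₂).toRingHom ≤ RingHom.ker (h f p₁ p₂ hK).toRingHom := by
  intro z hz
  rw [RingHom.mem_ker] at hz ⊢
  have hz' : f (p₁ (z : P)) = 0 := hz
  have hmem : (z : P) ∈ Ideal.span (KS f p₁ p₂) := Ideal.subset_span ⟨E_mem p₁ p₂ z, hz'⟩
  show Ideal.Quotient.mk (Ideal.span (KS f p₁ p₂)) (z : P) = 0
  exact Ideal.Quotient.eq_zero_iff_mem.2 hmem

/-- The section `A → P/K` induced by the diagonal. -/
noncomputable def s₀ (hf : Function.Surjective f) (hP : IsFibreProd p₁ p₂ (toBase B) (toBase B)) :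
    A →ₐ[k] (quot P (Ideal.span (KS f p₁ p₂)) hK) :=
  AlgHom.liftOfSurjective (g f p₁ p₂) (g_surjective f p₁ p₂ hf hP) (h f p₁ p₂ hK)
    (ker_le f p₁ p₂ hK)

lemma s₀_g (hf : Function.Surjective f) (hP : IsFibreProd p₁ p₂ (toBase B) (toBase B))
    (z : ↥(E p₁ p₂)) :
    s₀ f p₁ p₂ hK hf hP (g f p₁ p₂ z) = quotMk P (Ideal.span (KS f p₁ p₂)) hK (z : P) :=
  AlgHom.liftOfSurjective_apply (g f p₁ p₂) (g_surjective f p₁ p₂ hf hP) (h f p₁ p₂ hK)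
    (ker_le f p₁ p₂ hK) z

lemma s₀_res (hf : Function.Surjective f) (hP : IsFibreProd p₁ p₂ (toBase B) (toBase B)) :
    (quot P (Ideal.span (KS f p₁ p₂)) hK).res.comp (s₀ f p₁ p₂ hK hf hP) = A.res := by
  apply AlgHom.ext
  intro a
  obtain ⟨z, rfl⟩ := g_surjective f p₁ p₂ hf hP a
  show (quot P (Ideal.span (KS f p₁ p₂)) hK).res (s₀ f p₁ p₂ hK hf hP (g f p₁ p₂ z))
    = A.res (g f p₁ p₂ z)
  rw [s₀_g, g_apply]
  exact (Art.res_app (quotMk P (Ideal.span (KS f p₁ p₂)) hK) (z : P)).trans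
    ((Art.res_app p₁ (z : P)).symm.trans (Art.res_app f (p₁ (z : P))).symm)

/-- The section as a morphism. -/
noncomputable def s (hf : Function.Surjective f) (hP : IsFibreProd p₁ p₂ (toBase B) (toBase B)) :
    A ⟶ quot P (Ideal.span (KS f p₁ p₂)) hK :=
  ⟨s₀ f p₁ p₂ hK hf hP, s₀_res f p₁ p₂ hK hf hP⟩

end

theorem main (F : Art k k ⥤ Type v)
    (h2' : ∀ ⦃P A' A'' : Art k k⦄ (p' : P ⟶ A') (p'' : P ⟶ A'')
      (h : IsFibreProd p' p'' (toBase A') (toBase A'')), Function.Bijective (cmp F h))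
    {B A : Art k k} (f : B ⟶ A) (hf : Function.Surjective f)
    {P : Art k k} (p₁ p₂ : P ⟶ B) (hP : IsFibreProd p₁ p₂ (toBase B) (toBase B))
    {Q : Art k k} (q₁ q₂ : Q ⟶ A) (hQ : IsFibreProd q₁ q₂ (toBase A) (toBase A))
    (r : P ⟶ Q) (hr₁ : r ≫ q₁ = p₁ ≫ f) (hr₂ : r ≫ q₂ = p₂ ≫ f)
    (hK : Ideal.span (KS f p₁ p₂) ≤ IsLocalRing.maximalIdeal P)
    (hKr : Ideal.span (KS f p₁ p₂) ≤ RingHom.ker r.toAlgHom)
    (y : F.obj Q) (hy : F.map q₁ y = F.map q₂ y) :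
    ∃ z : F.obj (quot P (Ideal.span (KS f p₁ p₂)) hK), F.map (quotFactor hK r hKr) z = y := by
  have hs1 : s f p₁ p₂ hK hf hP ≫ quotFactor hK r hKr ≫ q₁ = 𝟙 A := by
    apply hom_ext
    apply AlgHom.ext
    intro a
    obtain ⟨z, rfl⟩ := g_surjective f p₁ p₂ hf hP a
    show q₁ (quotFactor hK r hKr (s₀ f p₁ p₂ hK hf hP (g f p₁ p₂ z))) = g f p₁ p₂ z
    rw [s₀_g]
    show q₁ (r (z : P)) = f (p₁ (z : P))
    exact congrArg (fun m : P ⟶ A => m.toAlgHom (z : P)) hr₁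
  have hs2 : s f p₁ p₂ hK hf hP ≫ quotFactor hK r hKr ≫ q₂ = 𝟙 A := by
    apply hom_ext
    apply AlgHom.ext
    intro a
    obtain ⟨z, rfl⟩ := g_surjective f p₁ p₂ hf hP a
    show q₂ (quotFactor hK r hKr (s₀ f p₁ p₂ hK hf hP (g f p₁ p₂ z))) = g f p₁ p₂ z
    rw [s₀_g]
    show q₂ (r (z : P)) = f (p₁ (z : P))
    rw [E_mem p₁ p₂ z]
    exact congrArg (fun m : P ⟶ A => m.toAlgHom (z : P)) hr₂
  refine ⟨F.map (s f p₁ p₂ hK hf hP) (F.map q₁ y), ?_⟩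
  have key : ∀ (q : Q ⟶ A), s f p₁ p₂ hK hf hP ≫ quotFactor hK r hKr ≫ q = 𝟙 A →
      F.map q (F.map (quotFactor hK r hKr) (F.map (s f p₁ p₂ hK hf hP) (F.map q₁ y)))
        = F.map q₁ y := by
    intro q hq
    have e1 := FunctorToTypes.map_comp_apply F (s f p₁ p₂ hK hf hP) (quotFactor hK r hKr ≫ q)
      (F.map q₁ y)
    have e2 := FunctorToTypes.map_comp_apply F (quotFactor hK r hKr) q
      (F.map (s f p₁ p₂ hK hf hP) (F.map q₁ y))
    refine (e2.symm.trans e1.symm).trans ?_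
    rw [hq]
    exact FunctorToTypes.map_id_apply F _
  apply (h2' q₁ q₂ hQ).1
  apply FibProd.ext
  · exact key q₁ hs1
  · exact (key q₂ hs2).trans hy

end Groth.Agent.Lib.LCondH4
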