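import Mathlib
import Groth.Agent.Lib.LGAz9_helper6

/-!
# Cancellation of an Azumaya tensor factor over LG-rings (helper6)
-/

namespace Groth.Agent.Lib.LGAzH6

open Module TensorProduct MulOpposite

universe u v w w₁

variable {R : Type u} [CommRing R]

theorem nonempty_algEquiv_of_tensor (hR : LGRing.IsLGRing R)
    (A : Type v) [Ring A] [Algebra R A] [IsAzumaya R A]
    (B : Type w) [Ring B] [Algebra R B] [IsAzumaya R B]
    (C : Type w₁) [Ring C] [Algebra R C] [IsAzumaya R C]
    (e : A ⊗[R] C ≃ₐ[R] B ⊗[R] C) : Nonempty (A ≃ₐ[R] B) := by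
  haveI : Module.Finite R A := IsAzumaya.toFinite
  haveI : Module.Projective R A := IsAzumaya.toProjective
  haveI : Module.Finite R B := IsAzumaya.toFinite
  haveI : Module.Projective R B := IsAzumaya.toProjective
  haveI : Module.Finite R C := IsAzumaya.toFinite
  haveI : Module.Projective R C := IsAzumaya.toProjective
  haveI : FaithfulSMul R C := IsAzumaya.toFaithfulSMul
  let c : C ⊗[R] Cᵐᵒᵖ ≃ₐ[R] Module.End R C :=
    AlgEquiv.ofBijective (AlgHom.mulLeftRight R C) IsAzumaya.bij
  let e' : A ⊗[R] Module.End R C ≃ₐ[R] B ⊗[R] Module.End R C :=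
    (Algebra.TensorProduct.congr (AlgEquiv.refl : A ≃ₐ[R] A) c.symm).trans
      ((Algebra.TensorProduct.assoc R R R A C Cᵐᵒᵖ).symm.trans
        ((Algebra.TensorProduct.congr e (AlgEquiv.refl : Cᵐᵒᵖ ≃ₐ[R] Cᵐᵒᵖ)).trans
          ((Algebra.TensorProduct.assoc R R R B C Cᵐᵒᵖ).trans
            (Algebra.TensorProduct.congr (AlgEquiv.refl : B ≃ₐ[R] B) c))))
  have hdeg : ∀ p : PrimeSpectrum R, rankAtStalk A p = rankAtStalk B p := by
    intro p
    have h1 := congrFun (Module.rankAtStalk_eq_of_equiv (R := R) e.toLinearEquiv) p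
    rw [Module.rankAtStalk_tensorProduct, Module.rankAtStalk_tensorProduct, Pi.mul_apply,
      Pi.mul_apply] at h1
    exact Nat.eq_of_mul_eq_mul_right (rankAtStalk_pos_of_faithful C p) h1
  exact nonempty_algEquiv_of_tensor_end hR A B hdeg C C e'

end Groth.Agent.Lib.LGAzH6
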