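import Mathlib
import Groth.Prelude.Def_W4c4lgringredgrpLG
import Groth.Agent.Lib.CAlgMisc9_helper1

set_option autoImplicit false
set_option maxSynthPendingDepth 3

open TensorProduct

namespace Groth.Agent.Lib.LGCancel

universe u v

/-- A quotient of an LG-ring by the ideal generated by a complementary idempotent is an LG-ring. -/
theorem lg_quot' {R : Type u} [CommRing R] (hR : LGRing.IsLGRing R) (e : R)
    (he : IsIdempotentElem e) (I : Ideal R) (hI : I = Ideal.span {1 - e}) :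
    LGRing.IsLGRing (R ⧸ I) := by
  intro n f hf
  have h1eI : (1 - e) ∈ I := by rw [hI]; exact Ideal.subset_span rfl
  have hmkI0 : Ideal.Quotient.mk I (1 - e) = 0 := Ideal.Quotient.eq_zero_iff_mem.mpr h1eI
  have hmkI1 : Ideal.Quotient.mk I e = 1 := by
    have h := hmkI0
    rw [map_sub, map_one, sub_eq_zero] at h
    exact h.symm
  obtain ⟨F, rfl⟩ := MvPolynomial.map_surjective (Ideal.Quotient.mk I)
    Ideal.Quotient.mk_surjective f
  have key : LGRing.RepresentsUnit (MvPolynomial.C e * F + MvPolynomial.C (1 - e)) R := by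
    apply hR
    intro m hm
    haveI := hm
    by_cases hem : e ∈ m
    · refine ⟨fun _ => 0, ?_⟩
      have h0 : algebraMap R (R ⧸ m) e = 0 := Ideal.Quotient.eq_zero_iff_mem.mpr hem
      have : MvPolynomial.aeval (fun _ : Fin n => (0 : R ⧸ m))
          (MvPolynomial.C e * F + MvPolynomial.C (1 - e)) = 1 := by
        rw [map_add, map_mul, MvPolynomial.aeval_C, MvPolynomial.aeval_C, map_sub, map_one, h0,
          zero_mul, zero_add, sub_zero]
      rw [this]
      exact isUnit_one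
    · have h1e : (1 - e) ∈ m := by
        have hprod : e * (1 - e) ∈ m := by
          rw [mul_sub, mul_one, he.eq, sub_self]; exact m.zero_mem
        exact (hm.isPrime.mem_or_mem hprod).resolve_left hem
      have hIm : I ≤ m := by rw [hI]; exact (Ideal.span_singleton_le_iff_mem m).mpr h1e
      have hker : RingHom.ker (Ideal.Quotient.mk I) ≤ m := by rw [Ideal.mk_ker]; exact hIm
      haveI hm' : (m.map (Ideal.Quotient.mk I)).IsMaximal :=
        Ideal.IsMaximal.map_of_surjective_of_ker_le Ideal.Quotient.mk_surjective hker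
      obtain ⟨s', hs'⟩ := hf (m.map (Ideal.Quotient.mk I))
      have hsurj : Function.Surjective ((Ideal.Quotient.mk (m.map (Ideal.Quotient.mk I))).comp
          (Ideal.Quotient.mk I)) :=
        (Ideal.Quotient.mk_surjective).comp Ideal.Quotient.mk_surjective
      choose s₀ hs₀ using fun i => hsurj (s' i)
      obtain rfl : s' = fun i => ((Ideal.Quotient.mk (m.map (Ideal.Quotient.mk I))).comp
          (Ideal.Quotient.mk I)) (s₀ i) := funext fun i => (hs₀ i).symm
      have h2 : MvPolynomial.aeval (fun i => ((Ideal.Quotient.mk (m.map (Ideal.Quotient.mk I))).comp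
          (Ideal.Quotient.mk I)) (s₀ i)) (MvPolynomial.map (Ideal.Quotient.mk I) F)
          = ((Ideal.Quotient.mk (m.map (Ideal.Quotient.mk I))).comp (Ideal.Quotient.mk I))
            (MvPolynomial.eval s₀ F) := by
        rw [MvPolynomial.aeval_def, MvPolynomial.eval₂_map, MvPolynomial.eval₂_comp,
          Ideal.Quotient.algebraMap_eq]
        rfl
      have h3 : MvPolynomial.eval s₀ F ∉ m := by
        intro hmem
        apply hs'.ne_zero
        rw [h2]
        exact Ideal.Quotient.eq_zero_iff_mem.mpr (Ideal.mem_map_of_mem _ hmem)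
      refine ⟨(Ideal.Quotient.mk m) ∘ s₀, ?_⟩
      have hmk1 : Ideal.Quotient.mk m e = 1 := by
        have h := Ideal.Quotient.eq_zero_iff_mem.mpr h1e
        rw [map_sub, map_one, sub_eq_zero] at h
        exact h.symm
      have h4 : MvPolynomial.aeval ((Ideal.Quotient.mk m) ∘ s₀)
          (MvPolynomial.C e * F + MvPolynomial.C (1 - e))
          = Ideal.Quotient.mk m (MvPolynomial.eval s₀ F) := by
        rw [MvPolynomial.aeval_def, Ideal.Quotient.algebraMap_eq, ← MvPolynomial.eval₂_comp,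
          map_add, map_mul, MvPolynomial.eval_C, MvPolynomial.eval_C, map_add, map_mul, hmk1,
          one_mul, Ideal.Quotient.eq_zero_iff_mem.mpr h1e, add_zero]
      rw [h4]
      have hne : Ideal.Quotient.mk m (MvPolynomial.eval s₀ F) ≠ 0 :=
        fun h0 => h3 (Ideal.Quotient.eq_zero_iff_mem.mp h0)
      obtain ⟨b, hb⟩ := ((Ideal.Quotient.maximal_ideal_iff_isField_quotient m).mp hm).mul_inv_cancel hne
      exact isUnit_iff_exists_inv.mpr ⟨b, hb⟩
  obtain ⟨s, hs⟩ := key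
  refine ⟨(Ideal.Quotient.mk I) ∘ s, ?_⟩
  have h5 : MvPolynomial.aeval ((Ideal.Quotient.mk I) ∘ s) (MvPolynomial.map (Ideal.Quotient.mk I) F)
      = Ideal.Quotient.mk I (MvPolynomial.aeval s (MvPolynomial.C e * F + MvPolynomial.C (1 - e))) := by
    rw [MvPolynomial.aeval_def, MvPolynomial.eval₂_map, MvPolynomial.aeval_def,
      Algebra.algebraMap_self, Algebra.algebraMap_self, RingHom.id_comp, MvPolynomial.eval₂_id,
      ← MvPolynomial.eval₂_comp, map_add, map_mul, MvPolynomial.eval_C, MvPolynomial.eval_C,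
      map_add, map_mul, hmkI1, one_mul, hmkI0, add_zero]
  rw [h5]
  exact hs.map _

theorem lg_quot {R : Type u} [CommRing R] (hR : LGRing.IsLGRing R) (e : R)
    (he : IsIdempotentElem e) : LGRing.IsLGRing (R ⧸ Ideal.span {1 - e}) :=
  lg_quot' hR e he _ rfl

theorem mk_one_surjective {R : Type u} [CommRing R] (I : Ideal R) (M : Type v) [AddCommGroup M]
    [Module R M] : Function.Surjective (TensorProduct.mk R (R ⧸ I) M 1) := by
  intro z
  induction z using TensorProduct.induction_on with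
  | zero => exact ⟨0, map_zero _⟩
  | tmul s m =>
    obtain ⟨r, rfl⟩ := Ideal.Quotient.mk_surjective s
    refine ⟨r • m, ?_⟩
    rw [TensorProduct.mk_apply, TensorProduct.tmul_smul, TensorProduct.smul_tmul']
    congr 1
    rw [Algebra.smul_def, mul_one]
    rfl
  | add x y hx hy =>
    obtain ⟨a, rfl⟩ := hx
    obtain ⟨b, rfl⟩ := hy
    exact ⟨a + b, map_add _ _ _⟩

theorem smul_eq_zero_of_one_tmul_eq_zero {R : Type u} [CommRing R] {M : Type v} [AddCommGroup M]
    [Module R M] (e : R) (he : IsIdempotentElem e) (x : M)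
    (hx : (1 : R ⧸ Ideal.span {1 - e}) ⊗ₜ[R] x = 0) : e • x = 0 := by
  have h1 : (Submodule.Quotient.mk x :
      M ⧸ ((Ideal.span {1 - e} : Ideal R) • (⊤ : Submodule R M))) = 0 := by
    rw [← TensorProduct.quotTensorEquivQuotSMul_mk_one_tmul, hx, map_zero]
  rw [Submodule.Quotient.mk_eq_zero, Submodule.ideal_span_singleton_smul] at h1
  obtain ⟨y, -, rfl⟩ := (Submodule.mem_smul_pointwise_iff_exists _ _ _).mp h1
  rw [smul_smul, mul_sub, mul_one, he.eq, sub_self, zero_smul]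

theorem piece {R : Type u} [CommRing R] (hR : LGRing.IsLGRing R) (M₁ M₂ : Type v)
    [AddCommGroup M₁] [Module R M₁] [Module.Finite R M₁] [Module.Projective R M₁]
    [AddCommGroup M₂] [Module R M₂] [Module.Finite R M₂] [Module.Projective R M₂]
    (e : R) (he : IsIdempotentElem e) (d : ℕ)
    (h₁ : ∀ p : PrimeSpectrum R, e ∉ p.asIdeal → Module.rankAtStalk M₁ p = d)
    (h₂ : ∀ p : PrimeSpectrum R, e ∉ p.asIdeal → Module.rankAtStalk M₂ p = d) :
    ∃ (φ : M₁ →ₗ[R] M₂) (ψ : M₂ →ₗ[R] M₁),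
      (∀ m, e • ψ (φ m) = e • m) ∧ (∀ n, e • φ (ψ n) = e • n) := by
  have hS : LGRing.IsLGRing (R ⧸ Ideal.span {1 - e}) := lg_quot hR e he
  have hcomap : ∀ p : PrimeSpectrum (R ⧸ Ideal.span {1 - e}),
      e ∉ (p.comap (algebraMap R (R ⧸ Ideal.span {1 - e}))).asIdeal := by
    intro p hmem
    have h1 : (1 - e) ∈ (p.comap (algebraMap R (R ⧸ Ideal.span {1 - e}))).asIdeal := by
      show algebraMap R (R ⧸ Ideal.span {1 - e}) (1 - e) ∈ p.asIdeal
      have h0 : algebraMap R (R ⧸ Ideal.span {1 - e}) (1 - e) = 0 :=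
        Ideal.Quotient.eq_zero_iff_mem.mpr (Ideal.subset_span rfl)
      rw [h0]; exact p.asIdeal.zero_mem
    have h2 : (1 : R) ∈ (p.comap (algebraMap R (R ⧸ Ideal.span {1 - e}))).asIdeal := by
      have h3 := Ideal.add_mem _ hmem h1
      rwa [add_sub_cancel] at h3
    exact (p.comap (algebraMap R (R ⧸ Ideal.span {1 - e}))).2.ne_top
      ((Ideal.eq_top_iff_one _).mpr h2)
  have hr₁ : ∀ p : PrimeSpectrum (R ⧸ Ideal.span {1 - e}),
      Module.rankAtStalk ((R ⧸ Ideal.span {1 - e}) ⊗[R] M₁) p = d := fun p => by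
    rw [Module.rankAtStalk_baseChange]; exact h₁ _ (hcomap p)
  have hr₂ : ∀ p : PrimeSpectrum (R ⧸ Ideal.span {1 - e}),
      Module.rankAtStalk ((R ⧸ Ideal.span {1 - e}) ⊗[R] M₂) p = d := fun p => by
    rw [Module.rankAtStalk_baseChange]; exact h₂ _ (hcomap p)
  haveI : Module.Free (R ⧸ Ideal.span {1 - e}) ((R ⧸ Ideal.span {1 - e}) ⊗[R] M₁) :=
    Groth.Agent.CAlgMisc9H1.free_of_const_rank hS d _ hr₁
  haveI : Module.Free (R ⧸ Ideal.span {1 - e}) ((R ⧸ Ideal.span {1 - e}) ⊗[R] M₂) :=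
    Groth.Agent.CAlgMisc9H1.free_of_const_rank hS d _ hr₂
  have hiso : Nonempty (((R ⧸ Ideal.span {1 - e}) ⊗[R] M₁) ≃ₗ[R ⧸ Ideal.span {1 - e}]
      ((R ⧸ Ideal.span {1 - e}) ⊗[R] M₂)) := by
    rcases subsingleton_or_nontrivial (R ⧸ Ideal.span {1 - e}) with hsub | hnt
    · haveI := Module.subsingleton (R ⧸ Ideal.span {1 - e}) ((R ⧸ Ideal.span {1 - e}) ⊗[R] M₁)
      haveI := Module.subsingleton (R ⧸ Ideal.span {1 - e}) ((R ⧸ Ideal.span {1 - e}) ⊗[R] M₂)
      exact ⟨LinearEquiv.ofSubsingleton _ _⟩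
    · obtain ⟨p⟩ : Nonempty (PrimeSpectrum (R ⧸ Ideal.span {1 - e})) := inferInstance
      apply FiniteDimensional.nonempty_linearEquiv_of_finrank_eq
      have e1 : Module.rankAtStalk ((R ⧸ Ideal.span {1 - e}) ⊗[R] M₁) p =
          Module.finrank (R ⧸ Ideal.span {1 - e}) ((R ⧸ Ideal.span {1 - e}) ⊗[R] M₁) := by
        rw [Module.rankAtStalk_eq_finrank_of_free]; simp
      have e2 : Module.rankAtStalk ((R ⧸ Ideal.span {1 - e}) ⊗[R] M₂) p =
          Module.finrank (R ⧸ Ideal.span {1 - e}) ((R ⧸ Ideal.span {1 - e}) ⊗[R] M₂) := by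
        rw [Module.rankAtStalk_eq_finrank_of_free]; simp
      rw [← e1, ← e2, hr₁ p, hr₂ p]
  obtain ⟨Θ⟩ := hiso
  obtain ⟨φ, hφ⟩ := Module.projective_lifting_property
    (TensorProduct.mk R (R ⧸ Ideal.span {1 - e}) M₂ 1)
    ((Θ.restrictScalars R).toLinearMap ∘ₗ (TensorProduct.mk R (R ⧸ Ideal.span {1 - e}) M₁ 1))
    (mk_one_surjective _ M₂)
  obtain ⟨ψ, hψ⟩ := Module.projective_lifting_property
    (TensorProduct.mk R (R ⧸ Ideal.span {1 - e}) M₁ 1)
    ((Θ.symm.restrictScalars R).toLinearMap ∘ₗ (TensorProduct.mk R (R ⧸ Ideal.span {1 - e}) M₂ 1))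
    (mk_one_surjective _ M₁)
  have hφ' : ∀ m : M₁, (1 : R ⧸ Ideal.span {1 - e}) ⊗ₜ[R] φ m = Θ (1 ⊗ₜ[R] m) := fun m =>
    LinearMap.congr_fun hφ m
  have hψ' : ∀ n : M₂, (1 : R ⧸ Ideal.span {1 - e}) ⊗ₜ[R] ψ n = Θ.symm (1 ⊗ₜ[R] n) := fun n =>
    LinearMap.congr_fun hψ n
  refine ⟨φ, ψ, fun m => ?_, fun n => ?_⟩
  · have h0 : (1 : R ⧸ Ideal.span {1 - e}) ⊗ₜ[R] (ψ (φ m) - m) = 0 := by
      rw [TensorProduct.tmul_sub, hψ', hφ', Θ.symm_apply_apply, sub_self]
    have h1 := smul_eq_zero_of_one_tmul_eq_zero e he _ h0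
    rw [smul_sub, sub_eq_zero] at h1
    exact h1
  · have h0 : (1 : R ⧸ Ideal.span {1 - e}) ⊗ₜ[R] (φ (ψ n) - n) = 0 := by
      rw [TensorProduct.tmul_sub, hφ', hψ', Θ.apply_symm_apply, sub_self]
    have h1 := smul_eq_zero_of_one_tmul_eq_zero e he _ h0
    rw [smul_sub, sub_eq_zero] at h1
    exact h1

theorem sum_smul_apply {R : Type u} [CommRing R] {A B : Type v} [AddCommGroup A] [Module R A]
    [AddCommGroup B] [Module R B] (e : ℕ → R) (he : ∀ d, IsIdempotentElem (e d))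
    (horth : ∀ d d', d ≠ d' → e d * e d' = 0) (D : ℕ) (f : ℕ → (A →ₗ[R] B)) (d : ℕ)
    (hd : d ∈ Finset.range (D + 1)) (x : A) :
    e d • (∑ d' ∈ Finset.range (D + 1), e d' • f d') x = e d • f d x := by
  rw [LinearMap.sum_apply, Finset.smul_sum, Finset.sum_eq_single d]
  · rw [LinearMap.smul_apply, smul_smul, (he d).eq]
  · intro d' _ hne
    rw [LinearMap.smul_apply, smul_smul, horth d d' (Ne.symm hne), zero_smul]
  · intro hnot; exact absurd hd hnot

theorem iso_of_rank_eq {R : Type u} [CommRing R] (hR : LGRing.IsLGRing R) (M₁ M₂ : Type v)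
    [AddCommGroup M₁] [Module R M₁] [Module.Finite R M₁] [Module.Projective R M₁]
    [AddCommGroup M₂] [Module R M₂] [Module.Finite R M₂] [Module.Projective R M₂]
    (h : ∀ p : PrimeSpectrum R, Module.rankAtStalk M₁ p = Module.rankAtStalk M₂ p) :
    Nonempty (M₁ ≃ₗ[R] M₂) := by
  haveI : Module.FinitePresentation R M₁ := Module.finitePresentation_of_projective R M₁
  have hlc : IsLocallyConstant (Module.rankAtStalk (R := R) M₁) :=
    Module.isLocallyConstant_rankAtStalk
  have hex : ∀ d : ℕ, ∃ e : R, IsIdempotentElem e ∧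
      {p : PrimeSpectrum R | Module.rankAtStalk M₁ p = d} =
        (PrimeSpectrum.basicOpen e : Set (PrimeSpectrum R)) :=
    fun d => PrimeSpectrum.isClopen_iff.mp (hlc.isClopen_fiber d)
  choose e he hU using hex
  have hmem : ∀ (d : ℕ) (p : PrimeSpectrum R),
      e d ∉ p.asIdeal ↔ Module.rankAtStalk M₁ p = d := by
    intro d p
    have h1 : p ∈ {p : PrimeSpectrum R | Module.rankAtStalk M₁ p = d} ↔
        p ∈ (PrimeSpectrum.basicOpen (e d) : Set (PrimeSpectrum R)) := by rw [hU d]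
    exact h1.symm
  obtain ⟨D, hD⟩ := hlc.range_finite.bddAbove
  have hD' : ∀ p, Module.rankAtStalk M₁ p ≤ D := fun p => hD ⟨p, rfl⟩
  have hnilzero : ∀ x : R, IsIdempotentElem x → IsNilpotent x → x = 0 := by
    intro x hx hn
    obtain ⟨n, hn⟩ := hn
    rw [← hx.pow_succ_eq n, pow_succ, hn, zero_mul]
  have horth : ∀ d d', d ≠ d' → e d * e d' = 0 := by
    intro d d' hdd
    apply hnilzero _ ((he d).mul (he d'))
    rw [nilpotent_iff_mem_prime]
    intro J hJ
    by_contra hnot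
    have h1 : e d ∉ J := fun h1 => hnot (J.mul_mem_right _ h1)
    have h2 : e d' ∉ J := fun h2 => hnot (J.mul_mem_left _ h2)
    have r1 := (hmem d ⟨J, hJ⟩).mp h1
    have r2 := (hmem d' ⟨J, hJ⟩).mp h2
    exact hdd (r1.symm.trans r2)
  obtain ⟨s, hs⟩ : ∃ s : R, s = ∑ d ∈ Finset.range (D + 1), e d := ⟨_, rfl⟩
  have hmul : ∀ d ∈ Finset.range (D + 1), e d * s = e d := by
    intro d hd
    rw [hs, Finset.mul_sum, Finset.sum_eq_single d]
    · exact (he d).eq
    · intro d' _ hne; exact horth d d' (Ne.symm hne)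
    · intro hnot; exact absurd hd hnot
  have hsid : IsIdempotentElem s := by
    show s * s = s
    calc s * s = (∑ d ∈ Finset.range (D + 1), e d) * s := by rw [← hs]
      _ = ∑ d ∈ Finset.range (D + 1), e d * s := Finset.sum_mul _ _ _
      _ = ∑ d ∈ Finset.range (D + 1), e d := Finset.sum_congr rfl hmul
      _ = s := hs.symm
  have hs1 : s = 1 := by
    have h0 : 1 - s = 0 := by
      apply hnilzero _ hsid.one_sub
      rw [nilpotent_iff_mem_prime]
      intro J hJ
      have hd₀ : Module.rankAtStalk M₁ ⟨J, hJ⟩ ∈ Finset.range (D + 1) :=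
        Finset.mem_range.mpr (Nat.lt_succ_of_le (hD' ⟨J, hJ⟩))
      have hnot : e (Module.rankAtStalk M₁ ⟨J, hJ⟩) ∉ J := (hmem _ ⟨J, hJ⟩).mpr rfl
      have hprod : e (Module.rankAtStalk M₁ ⟨J, hJ⟩) * (1 - s) ∈ J := by
        rw [mul_sub, mul_one, hmul _ hd₀, sub_self]; exact J.zero_mem
      exact (hJ.mem_or_mem hprod).resolve_left hnot
    exact (sub_eq_zero.mp h0).symm
  have hp : ∀ d, ∃ (φ : M₁ →ₗ[R] M₂) (ψ : M₂ →ₗ[R] M₁),
      (∀ m, e d • ψ (φ m) = e d • m) ∧ (∀ n, e d • φ (ψ n) = e d • n) := by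
    intro d
    apply piece hR M₁ M₂ (e d) (he d) d
    · intro p hp; exact (hmem d p).mp hp
    · intro p hp; rw [← h p]; exact (hmem d p).mp hp
  choose φ ψ hψφ hφψ using hp
  have hdec₁ : ∀ x : M₁, ∑ d ∈ Finset.range (D + 1), e d • x = x := by
    intro x; rw [← Finset.sum_smul, ← hs, hs1, one_smul]
  have hdec₂ : ∀ x : M₂, ∑ d ∈ Finset.range (D + 1), e d • x = x := by
    intro x; rw [← Finset.sum_smul, ← hs, hs1, one_smul]
  have hΨΦ : ∀ m : M₁, (∑ d ∈ Finset.range (D + 1), e d • ψ d)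
      ((∑ d ∈ Finset.range (D + 1), e d • φ d) m) = m := by
    intro m
    rw [← hdec₁ ((∑ d ∈ Finset.range (D + 1), e d • ψ d)
      ((∑ d ∈ Finset.range (D + 1), e d • φ d) m))]
    conv_rhs => rw [← hdec₁ m]
    refine Finset.sum_congr rfl fun d hd => ?_
    rw [sum_smul_apply e he horth D ψ d hd, ← (ψ d).map_smul,
      sum_smul_apply e he horth D φ d hd, (ψ d).map_smul, hψφ]
  have hΦΨ : ∀ n : M₂, (∑ d ∈ Finset.range (D + 1), e d • φ d)
      ((∑ d ∈ Finset.range (D + 1), e d • ψ d) n) = n := by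
    intro n
    rw [← hdec₂ ((∑ d ∈ Finset.range (D + 1), e d • φ d)
      ((∑ d ∈ Finset.range (D + 1), e d • ψ d) n))]
    conv_rhs => rw [← hdec₂ n]
    refine Finset.sum_congr rfl fun d hd => ?_
    rw [sum_smul_apply e he horth D φ d hd, ← (φ d).map_smul,
      sum_smul_apply e he horth D ψ d hd, (φ d).map_smul, hφψ]
  exact ⟨LinearEquiv.ofLinear (∑ d ∈ Finset.range (D + 1), e d • φ d)
    (∑ d ∈ Finset.range (D + 1), e d • ψ d) (LinearMap.ext hΦΨ) (LinearMap.ext hΨΦ)⟩

theorem main05 {R : Type u} [CommRing R] (hR : LGRing.IsLGRing R)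
    (M₁ M₂ : Type v) [AddCommGroup M₁] [Module R M₁] [Module.Finite R M₁] [Module.Projective R M₁]
    [AddCommGroup M₂] [Module R M₂] [Module.Finite R M₂] [Module.Projective R M₂] (n : ℕ)
    (hn : 0 < n) (e : (Fin n → M₁) ≃ₗ[R] (Fin n → M₂)) : Nonempty (M₁ ≃ₗ[R] M₂) := by
  apply iso_of_rank_eq hR
  intro p
  have h1 := congrFun (Module.rankAtStalk_eq_of_equiv e) p
  rw [Module.rankAtStalk_pi (fun _ : Fin n => M₁) p,
    Module.rankAtStalk_pi (fun _ : Fin n => M₂) p] at h1
  simp only [finsum_eq_sum_of_fintype, Finset.sum_const, Finset.card_univ, Fintype.card_fin,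
    smul_eq_mul] at h1
  exact Nat.eq_of_mul_eq_mul_left hn h1

theorem main06 {R : Type u} [CommRing R] (hR : LGRing.IsLGRing R) (M₁ M₂ N : Type v)
    [AddCommGroup M₁] [Module R M₁] [Module.Finite R M₁] [Module.Projective R M₁]
    [AddCommGroup M₂] [Module R M₂] [Module.Finite R M₂] [Module.Projective R M₂]
    [AddCommGroup N] [Module R N] [Module.Finite R N] [Module.Projective R N] [FaithfulSMul R N]
    (e : M₁ ⊗[R] N ≃ₗ[R] M₂ ⊗[R] N) : Nonempty (M₁ ≃ₗ[R] M₂) := by
  apply iso_of_rank_eq hR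
  intro p
  have h1 := congrFun (Module.rankAtStalk_eq_of_equiv e) p
  rw [Module.rankAtStalk_tensorProduct, Module.rankAtStalk_tensorProduct] at h1
  simp only [Pi.mul_apply] at h1
  have hN : 0 < Module.rankAtStalk N p := by
    rw [Module.rankAtStalk_pos_iff_mem_support, Module.support_eq_zeroLocus,
      Module.annihilator_eq_bot.mpr inferInstance]
    simp
  exact Nat.eq_of_mul_eq_mul_right hN h1

end Groth.Agent.Lib.LGCancel
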