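import Mathlib
import Groth.Prelude

set_option autoImplicit false
set_option linter.style.haveILetI false
set_option linter.unusedVariables false

universe u

open AlgebraicGeometry MvPolynomial

namespace Groth.Agent.Lib.LGPtsH4

/-- the auxiliary polynomial `Σ_j f_j(X) Y_j` -/
noncomputable def F {R : Type u} [CommRing R] {n : ℕ} (r : ℕ)
    (f : Fin r → MvPolynomial (Fin n) R) : MvPolynomial (Fin (n + r)) R :=
  ∑ j : Fin r, rename (Fin.castAdd r) (f j) * X (Fin.natAdd n j)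

theorem aeval_F {R : Type u} [CommRing R] {n : ℕ} {S : Type u} [CommRing S] [Algebra R S]
    (r : ℕ) (f : Fin r → MvPolynomial (Fin n) R) (s : Fin (n + r) → S) :
    aeval s (F r f) =
      ∑ j : Fin r, aeval (fun i => s (Fin.castAdd r i)) (f j) * s (Fin.natAdd n j) := by
  unfold F
  rw [_root_.map_sum]
  refine Finset.sum_congr rfl fun j _ => ?_
  rw [_root_.map_mul, aeval_X, aeval_rename]
  rfl

theorem mem_base_asIdeal {A B : Type u} [CommRing A] [CommRing B] (φ : A →+* B)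
    (q : PrimeSpectrum B) (g : A) :
    g ∈ ((Spec.map (CommRingCat.ofHom φ)).base q : PrimeSpectrum A).asIdeal ↔
      φ g ∈ q.asIdeal := Iff.rfl

theorem main {R : Type u} [CommRing R] (hR : LGRing.IsLGRing R)
    (n : ℕ) (U : (Spec (CommRingCat.of (MvPolynomial (Fin n) R))).Opens)
    (hU : IsCompact (U : Set ↥(Spec (CommRingCat.of (MvPolynomial (Fin n) R)))))
    (h : ∀ (m : Ideal R) [m.IsMaximal], ∃ x : Fin n → R ⧸ m,
      Set.range (Spec.map (CommRingCat.ofHom
        (MvPolynomial.eval₂Hom (Ideal.Quotient.mk m) x))).base ⊆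
        (U : Set ↥(Spec (CommRingCat.of (MvPolynomial (Fin n) R))))) :
    ∃ x : Fin n → R, Set.range (Spec.map (CommRingCat.ofHom (MvPolynomial.eval x))).base ⊆
      (U : Set ↥(Spec (CommRingCat.of (MvPolynomial (Fin n) R)))) := by
  classical
  obtain ⟨t, ht⟩ := (PrimeSpectrum.isCompact_isOpen_iff
      (s := ((U : Set ↥(Spec (CommRingCat.of (MvPolynomial (Fin n) R)))) :
        Set (PrimeSpectrum (MvPolynomial (Fin n) R))))).mp ⟨hU, U.isOpen⟩
  have hmemU : ∀ q : PrimeSpectrum (MvPolynomial (Fin n) R),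
      q ∈ ((U : Set ↥(Spec (CommRingCat.of (MvPolynomial (Fin n) R)))) :
        Set (PrimeSpectrum (MvPolynomial (Fin n) R))) ↔ ∃ f ∈ t, f ∉ q.asIdeal := by
    intro q
    constructor
    · intro hq
      by_contra hcon
      push_neg at hcon
      have hz : q ∈ PrimeSpectrum.zeroLocus (↑t : Set (MvPolynomial (Fin n) R)) :=
        (PrimeSpectrum.mem_zeroLocus q _).mpr (fun f hf => hcon f hf)
      exact (Set.ext_iff.mp ht q).mpr hq hz
    · rintro ⟨f, hf, hfq⟩
      refine (Set.ext_iff.mp ht q).mp ?_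
      intro hz
      exact hfq ((PrimeSpectrum.mem_zeroLocus q _).mp hz hf)
  obtain ⟨r, hr⟩ : ∃ r : ℕ, r = t.card := ⟨_, rfl⟩
  have e : ↥t ≃ Fin r := hr ▸ t.equivFin
  obtain ⟨f, hf⟩ : ∃ f : Fin r → MvPolynomial (Fin n) R, ∀ j, f j = ((e.symm j : ↥t) :
      MvPolynomial (Fin n) R) := ⟨fun j => ((e.symm j : ↥t) : MvPolynomial (Fin n) R), fun _ => rfl⟩
  have hloc : ∀ (m : Ideal R) [m.IsMaximal], LGRing.RepresentsUnit (F r f) (R ⧸ m) := by
    intro m hm
    obtain ⟨x₀, hx₀⟩ := h m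
    have hfield : IsField (R ⧸ m) := (Ideal.Quotient.maximal_ideal_iff_isField_quotient m).mp hm
    haveI : IsDomain (R ⧸ m) := hfield.isDomain
    obtain ⟨q₀, hq₀⟩ : ∃ q₀ : PrimeSpectrum (R ⧸ m), q₀.asIdeal = ⊥ :=
      ⟨⟨⊥, Ideal.bot_prime⟩, rfl⟩
    have hq : (Spec.map (CommRingCat.ofHom
        (MvPolynomial.eval₂Hom (Ideal.Quotient.mk m) x₀))).base q₀ ∈
        (U : Set ↥(Spec (CommRingCat.of (MvPolynomial (Fin n) R)))) := hx₀ ⟨q₀, rfl⟩
    obtain ⟨g, hgt, hgq⟩ := (hmemU _).mp hq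
    have hg0 : MvPolynomial.eval₂Hom (Ideal.Quotient.mk m) x₀ g ≠ 0 := by
      intro h0
      apply hgq
      rw [mem_base_asIdeal, hq₀, h0]
      exact Ideal.zero_mem _
    obtain ⟨b, hb⟩ := hfield.mul_inv_cancel hg0
    obtain ⟨j₀, hj₀⟩ : ∃ j₀ : Fin r, j₀ = e ⟨g, hgt⟩ := ⟨_, rfl⟩
    have hfj₀ : f j₀ = g := by
      rw [hf, hj₀, Equiv.symm_apply_apply]
    obtain ⟨y, hy⟩ : ∃ y : Fin r → R ⧸ m, ∀ j, y j = if j = j₀ then b else 0 :=
      ⟨fun j => if j = j₀ then b else 0, fun _ => rfl⟩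
    refine ⟨Fin.append x₀ y, ?_⟩
    rw [aeval_F]
    have hfun : (fun i => Fin.append x₀ y (Fin.castAdd r i)) = x₀ :=
      funext fun i => Fin.append_left x₀ y i
    have hae : aeval x₀ g = MvPolynomial.eval₂Hom (Ideal.Quotient.mk m) x₀ g := rfl
    have hsum : ∑ j : Fin r, aeval (fun i => Fin.append x₀ y (Fin.castAdd r i)) (f j) *
        Fin.append x₀ y (Fin.natAdd n j) = 1 := by
      rw [Finset.sum_eq_single j₀]
      · rw [Fin.append_right, hfun, hy j₀, if_pos rfl, hfj₀, hae]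
        exact hb
      · intro j _ hj
        rw [Fin.append_right, hy j, if_neg hj, mul_zero]
      · intro hh
        exact absurd (Finset.mem_univ _) hh
    rw [hsum]
    exact isUnit_one
  obtain ⟨s, hs⟩ := hR (n + r) (F r f) hloc
  refine ⟨fun i => s (Fin.castAdd r i), ?_⟩
  rintro _ ⟨(q : PrimeSpectrum R), rfl⟩
  apply (hmemU _).mpr
  by_contra hcon
  push_neg at hcon
  have hall : ∀ j, MvPolynomial.eval (fun i => s (Fin.castAdd r i)) (f j) ∈ q.asIdeal := by
    intro j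
    apply (mem_base_asIdeal (MvPolynomial.eval (fun i => s (Fin.castAdd r i))) q (f j)).mp
    apply hcon (f j)
    rw [hf]
    exact (e.symm j).2
  have hmem : aeval s (F r f) ∈ q.asIdeal := by
    rw [aeval_F]
    exact Ideal.sum_mem _ fun j _ => Ideal.mul_mem_right _ _ (hall j)
  exact q.isPrime.ne_top (Ideal.eq_top_of_isUnit_mem _ hmem hs)

end Groth.Agent.Lib.LGPtsH4
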