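import Mathlib
import Groth.Prelude
import Groth.Agent.Lib.LGPts_helper4

set_option autoImplicit false
set_option linter.style.haveILetI false
set_option linter.unusedVariables false

universe u

open AlgebraicGeometry MvPolynomial

namespace Groth.Agent.Lib.LGVectH4

section Spec

variable {A B C P : Type u} [CommRing A] [CommRing B] [CommRing C] [CommRing P]

theorem base_comp (φ : A →+* B) (ψ : B →+* C) (χ : A →+* C) (hχ : ∀ a, χ a = ψ (φ a))
    (q : ↥(Spec (CommRingCat.of C))) :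
    (Spec.map (CommRingCat.ofHom χ)).base q =
      (Spec.map (CommRingCat.ofHom φ)).base ((Spec.map (CommRingCat.ofHom ψ)).base q) := by
  refine PrimeSpectrum.ext (Ideal.ext fun a => ?_)
  show χ a ∈ (q : PrimeSpectrum C).asIdeal ↔ ψ (φ a) ∈ (q : PrimeSpectrum C).asIdeal
  rw [hχ]

theorem range_comp_subset (φ : A →+* B) (ψ : B →+* C) (χ : A →+* C) (hχ : ∀ a, χ a = ψ (φ a))
    (U : Set ↥(Spec (CommRingCat.of A)))
    (h : Set.range (Spec.map (CommRingCat.ofHom φ)).base ⊆ U) :
    Set.range (Spec.map (CommRingCat.ofHom χ)).base ⊆ U := by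
  rintro _ ⟨q, rfl⟩
  rw [base_comp φ ψ χ hχ q]
  exact h ⟨_, rfl⟩

theorem range_subset_preimage (α : A →+* P) (χ : P →+* C) (ψ : A →+* C)
    (hψ : ∀ a, ψ a = χ (α a)) (U : Set ↥(Spec (CommRingCat.of A))) :
    Set.range (Spec.map (CommRingCat.ofHom χ)).base ⊆
        (Spec.map (CommRingCat.ofHom α)).base ⁻¹' U ↔
      Set.range (Spec.map (CommRingCat.ofHom ψ)).base ⊆ U := by
  constructor
  · rintro h _ ⟨q, rfl⟩
    rw [base_comp α χ ψ hψ q]
    exact h ⟨q, rfl⟩
  · rintro h _ ⟨q, rfl⟩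
    show (Spec.map (CommRingCat.ofHom α)).base ((Spec.map (CommRingCat.ofHom χ)).base q) ∈ U
    rw [← base_comp α χ ψ hψ q]
    exact h ⟨q, rfl⟩

end Spec

section Data

variable {R : Type u} [CommRing R] {M : Type u} [AddCommGroup M] [Module R M] {n : ℕ}

theorem lift_restrict {A : Type u} [CommRing A] [Algebra R A]
    (F : SymmetricAlgebra R (Module.Dual R M) →ₐ[R] A) :
    SymmetricAlgebra.lift (F.toLinearMap ∘ₗ SymmetricAlgebra.ι R (Module.Dual R M)) = F := by
  apply SymmetricAlgebra.algHom_ext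
  rw [SymmetricAlgebra.lift_comp_ι]
  rfl

theorem key2 (mm : Fin n → M) (ℓ : Fin n → Module.Dual R M)
    (key1 : ∀ m : M, ∑ i, (ℓ i m) • mm i = m) (l : Module.Dual R M) :
    ∑ i, (l (mm i)) • ℓ i = l := by
  refine LinearMap.ext fun m => ?_
  rw [LinearMap.sum_apply]
  have h1 : l m = ∑ i, (ℓ i m) * l (mm i) := by
    conv_lhs => rw [← key1 m]
    rw [_root_.map_sum]
    refine Finset.sum_congr rfl fun i _ => ?_
    rw [_root_.map_smul, smul_eq_mul]
  rw [h1]
  refine Finset.sum_congr rfl fun i _ => ?_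
  rw [LinearMap.smul_apply, smul_eq_mul, mul_comm]

/-- the linear map `l ↦ Σ l(mm i) X_i` -/
noncomputable def αlin (mm : Fin n → M) : Module.Dual R M →ₗ[R] MvPolynomial (Fin n) R :=
  ∑ i, (LinearMap.toSpanSingleton R (MvPolynomial (Fin n) R) (X i)) ∘ₗ (LinearMap.applyₗ (mm i))

theorem αlin_apply (mm : Fin n → M) (l : Module.Dual R M) :
    αlin mm l = ∑ i, (l (mm i)) • (X i : MvPolynomial (Fin n) R) := by
  unfold αlin
  rw [LinearMap.sum_apply]
  rfl

noncomputable def α (mm : Fin n → M) :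
    SymmetricAlgebra R (Module.Dual R M) →ₐ[R] MvPolynomial (Fin n) R :=
  SymmetricAlgebra.lift (αlin mm)

noncomputable def β (ℓ : Fin n → Module.Dual R M) :
    MvPolynomial (Fin n) R →ₐ[R] SymmetricAlgebra R (Module.Dual R M) :=
  aeval (fun i => SymmetricAlgebra.ι R (Module.Dual R M) (ℓ i))

theorem beta_alpha_ι (mm : Fin n → M) (ℓ : Fin n → Module.Dual R M)
    (key1 : ∀ m : M, ∑ i, (ℓ i m) • mm i = m) (l : Module.Dual R M) :
    β ℓ (α mm (SymmetricAlgebra.ι R (Module.Dual R M) l)) =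
      SymmetricAlgebra.ι R (Module.Dual R M) l := by
  calc β ℓ (α mm (SymmetricAlgebra.ι R (Module.Dual R M) l))
      = β ℓ (∑ i, (l (mm i)) • (X i : MvPolynomial (Fin n) R)) := by
        unfold α
        rw [SymmetricAlgebra.lift_ι_apply, αlin_apply]
    _ = ∑ i, (l (mm i)) • SymmetricAlgebra.ι R (Module.Dual R M) (ℓ i) := by
        rw [_root_.map_sum]
        refine Finset.sum_congr rfl fun i _ => ?_
        rw [_root_.map_smul]
        unfold β
        rw [aeval_X]
    _ = SymmetricAlgebra.ι R (Module.Dual R M) (∑ i, (l (mm i)) • ℓ i) := by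
        rw [_root_.map_sum]
        refine Finset.sum_congr rfl fun i _ => ?_
        rw [_root_.map_smul]
    _ = SymmetricAlgebra.ι R (Module.Dual R M) l := by rw [key2 mm ℓ key1 l]

theorem beta_alpha (mm : Fin n → M) (ℓ : Fin n → Module.Dual R M)
    (key1 : ∀ m : M, ∑ i, (ℓ i m) • mm i = m) (s : SymmetricAlgebra R (Module.Dual R M)) :
    β ℓ (α mm s) = s := by
  have h : (β ℓ).comp (α mm) = AlgHom.id R (SymmetricAlgebra R (Module.Dual R M)) := by
    apply SymmetricAlgebra.algHom_ext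
    refine LinearMap.ext fun l => ?_
    exact beta_alpha_ι mm ℓ key1 l
  exact DFunLike.congr_fun h s

theorem exists_data (R : Type u) [CommRing R] (M : Type u) [AddCommGroup M] [Module R M]
    [Module.Finite R M] [Module.Projective R M] :
    ∃ (n : ℕ) (mm : Fin n → M) (ℓ : Fin n → Module.Dual R M),
      ∀ m : M, ∑ i, (ℓ i m) • mm i = m := by
  classical
  obtain ⟨n, f, g, -, -, hfg⟩ := Module.Finite.exists_comp_eq_id_of_projective R M
  refine ⟨n, fun i => f (fun j => if i = j then 1 else 0), fun i => (LinearMap.proj i) ∘ₗ g, ?_⟩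
  intro m
  have h1 := LinearMap.pi_apply_eq_sum_univ f (g m)
  have h2 : f (g m) = m := LinearMap.congr_fun hfg m
  exact h1.symm.trans h2

theorem eval₂Hom_eq {m : Ideal R} (ℓ : Fin n → Module.Dual R M)
    (φm : Module.Dual R M →ₗ[R] (R ⧸ m)) (p : MvPolynomial (Fin n) R) :
    MvPolynomial.eval₂Hom (Ideal.Quotient.mk m) (fun i => φm (ℓ i)) p =
      SymmetricAlgebra.lift φm (β ℓ p) := by
  have hE : MvPolynomial.eval₂Hom (Ideal.Quotient.mk m) (fun i => φm (ℓ i)) =
      (SymmetricAlgebra.lift φm).toRingHom.comp (β ℓ).toRingHom := by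
    apply MvPolynomial.ringHom_ext
    · intro r
      show MvPolynomial.eval₂Hom (Ideal.Quotient.mk m) (fun i => φm (ℓ i)) (C r) =
        SymmetricAlgebra.lift φm (β ℓ (C r))
      rw [eval₂Hom_C]
      unfold β
      rw [aeval_C, AlgHom.commutes]
      rfl
    · intro i
      show MvPolynomial.eval₂Hom (Ideal.Quotient.mk m) (fun i => φm (ℓ i)) (X i) =
        SymmetricAlgebra.lift φm (β ℓ (X i))
      rw [eval₂Hom_X']
      unfold β
      rw [aeval_X, SymmetricAlgebra.lift_ι_apply]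
  exact DFunLike.congr_fun hE p

end Data

theorem main600 {R : Type u} [CommRing R]
    (hR : LGRing.IsLGRing R) (M : Type u) [AddCommGroup M] [Module R M] [Module.Finite R M]
    [Module.Projective R M]
    (U : (Spec (CommRingCat.of (SymmetricAlgebra R (Module.Dual R M)))).Opens)
    (hU : IsCompact (U : Set ↥(Spec (CommRingCat.of (SymmetricAlgebra R (Module.Dual R M)))))) :
    (∃ φ : Module.Dual R M →ₗ[R] R,
      Set.range (Spec.map (CommRingCat.ofHom (SymmetricAlgebra.lift φ).toRingHom)).base ⊆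
        (U : Set ↥(Spec (CommRingCat.of (SymmetricAlgebra R (Module.Dual R M)))))) ↔
    ∀ (m : Ideal R) [m.IsMaximal], ∃ φ : Module.Dual R M →ₗ[R] (R ⧸ m),
      Set.range (Spec.map (CommRingCat.ofHom (SymmetricAlgebra.lift φ).toRingHom)).base ⊆
        (U : Set ↥(Spec (CommRingCat.of (SymmetricAlgebra R (Module.Dual R M))))) := by
  constructor
  · rintro ⟨φ, hφ⟩ m hm
    refine ⟨(Ideal.Quotient.mkₐ R m).toLinearMap ∘ₗ φ, ?_⟩
    have hl : SymmetricAlgebra.lift ((Ideal.Quotient.mkₐ R m).toLinearMap ∘ₗ φ) =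
        (Ideal.Quotient.mkₐ R m).comp (SymmetricAlgebra.lift φ) := by
      apply SymmetricAlgebra.algHom_ext
      rw [SymmetricAlgebra.lift_comp_ι]
      refine LinearMap.ext fun l => ?_
      show (Ideal.Quotient.mkₐ R m) (φ l) = (Ideal.Quotient.mkₐ R m)
        (SymmetricAlgebra.lift φ (SymmetricAlgebra.ι R _ l))
      rw [SymmetricAlgebra.lift_ι_apply]
    refine range_comp_subset (SymmetricAlgebra.lift φ).toRingHom (Ideal.Quotient.mk m) _ ?_ _ hφ
    intro a
    rw [hl]
    rfl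
  · intro hloc
    obtain ⟨n, mm, ℓ, key1⟩ := exists_data R M
    obtain ⟨U', hU'⟩ : ∃ U' : (Spec (CommRingCat.of (MvPolynomial (Fin n) R))).Opens,
        (U' : Set ↥(Spec (CommRingCat.of (MvPolynomial (Fin n) R)))) =
          (Spec.map (CommRingCat.ofHom (α mm).toRingHom)).base ⁻¹'
            (U : Set ↥(Spec (CommRingCat.of (SymmetricAlgebra R (Module.Dual R M))))) :=
      ⟨(Spec.map (CommRingCat.ofHom (α mm).toRingHom)) ⁻¹ᵁ U, rfl⟩
    have hU'c : IsCompact (U' : Set ↥(Spec (CommRingCat.of (MvPolynomial (Fin n) R)))) := by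
      rw [hU']
      exact QuasiCompact.isCompact_preimage
        (f := Spec.map (CommRingCat.ofHom (α mm).toRingHom)) _ U.isOpen hU
    have hloc' : ∀ (m : Ideal R) [m.IsMaximal], ∃ x : Fin n → R ⧸ m,
        Set.range (Spec.map (CommRingCat.ofHom
          (MvPolynomial.eval₂Hom (Ideal.Quotient.mk m) x))).base ⊆
          (U' : Set ↥(Spec (CommRingCat.of (MvPolynomial (Fin n) R)))) := by
      intro m hm
      obtain ⟨φm, hφm⟩ := hloc m
      refine ⟨fun i => φm (ℓ i), ?_⟩
      rw [hU']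
      refine (range_subset_preimage (α mm).toRingHom
        (MvPolynomial.eval₂Hom (Ideal.Quotient.mk m) (fun i => φm (ℓ i)))
        (SymmetricAlgebra.lift φm).toRingHom ?_ _).mpr hφm
      intro a
      show SymmetricAlgebra.lift φm a = MvPolynomial.eval₂Hom (Ideal.Quotient.mk m)
        (fun i => φm (ℓ i)) (α mm a)
      rw [eval₂Hom_eq ℓ φm (α mm a), beta_alpha mm ℓ key1 a]
    obtain ⟨x, hx⟩ := Groth.Agent.Lib.LGPtsH4.main hR n U' hU'c hloc'
    refine ⟨((aeval x : MvPolynomial (Fin n) R →ₐ[R] R).comp (α mm)).toLinearMap ∘ₗ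
      SymmetricAlgebra.ι R (Module.Dual R M), ?_⟩
    rw [lift_restrict]
    rw [hU'] at hx
    exact (range_subset_preimage (α mm).toRingHom (MvPolynomial.eval x)
      ((aeval x : MvPolynomial (Fin n) R →ₐ[R] R).comp (α mm)).toRingHom (fun a => rfl) _).mp hx

end Groth.Agent.Lib.LGVectH4
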