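import Mathlib
import Groth.Prelude
import Groth.Agent.Lib.LGVect_helper4

set_option autoImplicit false
set_option linter.style.haveILetI false
set_option linter.unusedVariables false

universe u

open AlgebraicGeometry MvPolynomial

namespace Groth.Agent.Lib.LGVectH4

section Fibre

variable {R : Type u} [CommRing R] (M : Type u) [AddCommGroup M] [Module R M] {n : ℕ}

/-- the ideal `m · Sym(M^∨)` -/
abbrev J (m : Ideal R) : Ideal (SymmetricAlgebra R (Module.Dual R M)) :=
  Ideal.map (algebraMap R (SymmetricAlgebra R (Module.Dual R M))) m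

variable {M}

theorem rho_alpha_mem (mm : Fin n → M) (m : Ideal R) :
    ∀ a ∈ J M m, ((MvPolynomial.map (Ideal.Quotient.mk m) :
      MvPolynomial (Fin n) R →+* MvPolynomial (Fin n) (R ⧸ m)).comp (α mm).toRingHom) a = 0 := by
  intro a ha
  have hle : J M m ≤ RingHom.ker ((MvPolynomial.map (Ideal.Quotient.mk m) :
      MvPolynomial (Fin n) R →+* MvPolynomial (Fin n) (R ⧸ m)).comp (α mm).toRingHom) := by
    rw [Ideal.map_le_iff_le_comap]
    intro r hr
    show MvPolynomial.map (Ideal.Quotient.mk m) (α mm (algebraMap R _ r)) = 0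
    rw [AlgHom.commutes, MvPolynomial.algebraMap_eq, MvPolynomial.map_C,
      Ideal.Quotient.eq_zero_iff_mem.mpr hr, C_0]
  exact hle ha

noncomputable def αbar (mm : Fin n → M) (m : Ideal R) :
    (SymmetricAlgebra R (Module.Dual R M) ⧸ J M m) →+* MvPolynomial (Fin n) (R ⧸ m) :=
  Ideal.Quotient.lift (J M m) ((MvPolynomial.map (Ideal.Quotient.mk m) :
      MvPolynomial (Fin n) R →+* MvPolynomial (Fin n) (R ⧸ m)).comp (α mm).toRingHom)
    (rho_alpha_mem mm m)

theorem αbar_mk (mm : Fin n → M) (m : Ideal R) (a : SymmetricAlgebra R (Module.Dual R M)) :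
    αbar mm m (Ideal.Quotient.mk (J M m) a) = MvPolynomial.map (Ideal.Quotient.mk m) (α mm a) :=
  rfl

variable (M) in
noncomputable def cκ (m : Ideal R) :
    (R ⧸ m) →+* (SymmetricAlgebra R (Module.Dual R M) ⧸ J M m) :=
  Ideal.Quotient.lift m ((Ideal.Quotient.mk (J M m)).comp
    (algebraMap R (SymmetricAlgebra R (Module.Dual R M))))
    (fun r hr => Ideal.Quotient.eq_zero_iff_mem.mpr (Ideal.mem_map_of_mem _ hr))

noncomputable def βbar (ℓ : Fin n → Module.Dual R M) (m : Ideal R) :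
    MvPolynomial (Fin n) (R ⧸ m) →+* (SymmetricAlgebra R (Module.Dual R M) ⧸ J M m) :=
  MvPolynomial.eval₂Hom (cκ M m)
    (fun i => Ideal.Quotient.mk (J M m) (SymmetricAlgebra.ι R (Module.Dual R M) (ℓ i)))

theorem βbar_ρ (ℓ : Fin n → Module.Dual R M) (m : Ideal R) (p : MvPolynomial (Fin n) R) :
    βbar ℓ m (MvPolynomial.map (Ideal.Quotient.mk m) p) =
      Ideal.Quotient.mk (J M m) (β ℓ p) := by
  have hE : (βbar ℓ m).comp (MvPolynomial.map (Ideal.Quotient.mk m) :
      MvPolynomial (Fin n) R →+* MvPolynomial (Fin n) (R ⧸ m)) =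
      (Ideal.Quotient.mk (J M m)).comp (β ℓ).toRingHom := by
    apply MvPolynomial.ringHom_ext
    · intro r
      show βbar ℓ m (MvPolynomial.map (Ideal.Quotient.mk m) (C r)) =
        Ideal.Quotient.mk (J M m) (β ℓ (C r))
      rw [MvPolynomial.map_C]
      unfold βbar β
      rw [eval₂Hom_C, aeval_C]
      rfl
    · intro i
      show βbar ℓ m (MvPolynomial.map (Ideal.Quotient.mk m) (X i)) =
        Ideal.Quotient.mk (J M m) (β ℓ (X i))
      rw [MvPolynomial.map_X]
      unfold βbar β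
      rw [eval₂Hom_X', aeval_X]
  exact DFunLike.congr_fun hE p

theorem βbar_αbar (mm : Fin n → M) (ℓ : Fin n → Module.Dual R M) (m : Ideal R)
    (key1 : ∀ x : M, ∑ i, (ℓ i x) • mm i = x)
    (s : SymmetricAlgebra R (Module.Dual R M) ⧸ J M m) :
    βbar ℓ m (αbar mm m s) = s := by
  obtain ⟨a, rfl⟩ := Ideal.Quotient.mk_surjective s
  rw [αbar_mk, βbar_ρ, beta_alpha mm ℓ key1 a]

end Fibre

theorem local_point {R : Type u} [CommRing R] (M : Type u) [AddCommGroup M] [Module R M]
    [Module.Finite R M] [Module.Projective R M]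
    (m : Ideal R) [hm : m.IsMaximal] (hinf : Infinite (R ⧸ m))
    (U : (Spec (CommRingCat.of (SymmetricAlgebra R (Module.Dual R M)))).Opens)
    (hdense : Dense ((Spec.map (CommRingCat.ofHom (Ideal.Quotient.mk
        (Ideal.map (algebraMap R (SymmetricAlgebra R (Module.Dual R M))) m)))).base ⁻¹'
          (U : Set ↥(Spec (CommRingCat.of (SymmetricAlgebra R (Module.Dual R M))))))) :
    ∃ φ : Module.Dual R M →ₗ[R] (R ⧸ m),
      Set.range (Spec.map (CommRingCat.ofHom (SymmetricAlgebra.lift φ).toRingHom)).base ⊆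
        (U : Set ↥(Spec (CommRingCat.of (SymmetricAlgebra R (Module.Dual R M))))) := by
  classical
  obtain ⟨n, mm, ℓ, key1⟩ := exists_data R M
  haveI : Infinite (R ⧸ m) := hinf
  have hfield : IsField (R ⧸ m) := (Ideal.Quotient.maximal_ideal_iff_isField_quotient m).mp hm
  haveI : Nontrivial (SymmetricAlgebra R (Module.Dual R M) ⧸ J M m) :=
    RingHom.domain_nontrivial (αbar mm m)
  haveI : Nonempty ↥(Spec (CommRingCat.of (SymmetricAlgebra R (Module.Dual R M) ⧸ J M m))) :=
    (inferInstance : Nonempty (PrimeSpectrum (SymmetricAlgebra R (Module.Dual R M) ⧸ J M m)))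
  obtain ⟨p, hp⟩ := hdense.nonempty
  obtain ⟨p', hp'⟩ : ∃ p' : ↥(Spec (CommRingCat.of (MvPolynomial (Fin n) (R ⧸ m)))),
      (Spec.map (CommRingCat.ofHom (αbar mm m))).base p' = p := by
    refine ⟨(Spec.map (CommRingCat.ofHom (βbar ℓ m))).base p, ?_⟩
    refine PrimeSpectrum.ext (Ideal.ext fun a => ?_)
    show βbar ℓ m (αbar mm m a) ∈ (p : PrimeSpectrum _).asIdeal ↔ a ∈ (p : PrimeSpectrum _).asIdeal
    rw [βbar_αbar mm ℓ m key1 a]
  have hVopen : IsOpen ((Spec.map (CommRingCat.ofHom (αbar mm m))).base ⁻¹'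
      ((Spec.map (CommRingCat.ofHom (Ideal.Quotient.mk (J M m)))).base ⁻¹'
        (U : Set ↥(Spec (CommRingCat.of (SymmetricAlgebra R (Module.Dual R M))))))) :=
    (U.isOpen.preimage (Spec.map (CommRingCat.ofHom (Ideal.Quotient.mk (J M m)))).continuous).preimage
      (Spec.map (CommRingCat.ofHom (αbar mm m))).continuous
  have hp'V : p' ∈ ((Spec.map (CommRingCat.ofHom (αbar mm m))).base ⁻¹'
      ((Spec.map (CommRingCat.ofHom (Ideal.Quotient.mk (J M m)))).base ⁻¹'
        (U : Set ↥(Spec (CommRingCat.of (SymmetricAlgebra R (Module.Dual R M))))))) := by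
    have h0 : (Spec.map (CommRingCat.ofHom (αbar mm m))).base p' ∈
        ((Spec.map (CommRingCat.ofHom (Ideal.Quotient.mk (J M m)))).base ⁻¹'
          (U : Set ↥(Spec (CommRingCat.of (SymmetricAlgebra R (Module.Dual R M)))))) := by
      rw [hp']
      exact hp
    exact h0
  obtain ⟨v, ⟨g, rfl⟩, hgp', hgV⟩ :=
    PrimeSpectrum.isTopologicalBasis_basic_opens.exists_subset_of_mem_open hp'V hVopen
  have hg0 : g ≠ 0 := by
    rintro rfl
    exact ((PrimeSpectrum.mem_basicOpen _ _).mp hgp') (Ideal.zero_mem _)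
  obtain ⟨x, hx⟩ : ∃ x : Fin n → R ⧸ m, MvPolynomial.eval x g ≠ 0 := by
    by_contra hcon
    push_neg at hcon
    exact hg0 (MvPolynomial.funext fun x => by rw [hcon x, _root_.map_zero])
  refine ⟨((aeval x : MvPolynomial (Fin n) R →ₐ[R] (R ⧸ m)).comp (α mm)).toLinearMap ∘ₗ
    SymmetricAlgebra.ι R (Module.Dual R M), ?_⟩
  rw [lift_restrict]
  rintro _ ⟨q, rfl⟩
  have hz : (Spec.map (CommRingCat.ofHom (MvPolynomial.eval x))).base q ∈
      (PrimeSpectrum.basicOpen g : Set (PrimeSpectrum (MvPolynomial (Fin n) (R ⧸ m)))) := by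
    refine (PrimeSpectrum.mem_basicOpen _ _).mpr ?_
    intro hmem
    have h1 : MvPolynomial.eval x g ∈ (q : PrimeSpectrum (R ⧸ m)).asIdeal := hmem
    obtain ⟨b, hb⟩ := hfield.mul_inv_cancel hx
    exact (q : PrimeSpectrum (R ⧸ m)).isPrime.ne_top
      (Ideal.eq_top_of_isUnit_mem _ h1 (IsUnit.of_mul_eq_one _ hb))
  have hzV := hgV hz
  have hfinal : (Spec.map (CommRingCat.ofHom
      ((aeval x : MvPolynomial (Fin n) R →ₐ[R] (R ⧸ m)).comp (α mm)).toRingHom)).base q =
      (Spec.map (CommRingCat.ofHom (Ideal.Quotient.mk (J M m)))).base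
        ((Spec.map (CommRingCat.ofHom (αbar mm m))).base
          ((Spec.map (CommRingCat.ofHom (MvPolynomial.eval x))).base q)) := by
    refine PrimeSpectrum.ext (Ideal.ext fun a => ?_)
    show (aeval x : MvPolynomial (Fin n) R →ₐ[R] (R ⧸ m)) (α mm a) ∈
        (q : PrimeSpectrum (R ⧸ m)).asIdeal ↔
      MvPolynomial.eval x (αbar mm m (Ideal.Quotient.mk (J M m) a)) ∈
        (q : PrimeSpectrum (R ⧸ m)).asIdeal
    rw [αbar_mk, MvPolynomial.eval_map]
    rfl
  rw [hfinal]
  exact hzV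

theorem main601 {R : Type u} [CommRing R]
    (hR : LGRing.IsLGRing R) (hinf : ∀ (m : Ideal R) [m.IsMaximal], Infinite (R ⧸ m))
    (M : Type u) [AddCommGroup M] [Module R M] [Module.Finite R M] [Module.Projective R M]
    (U : (Spec (CommRingCat.of (SymmetricAlgebra R (Module.Dual R M)))).Opens)
    (hU : IsCompact (U : Set ↥(Spec (CommRingCat.of (SymmetricAlgebra R (Module.Dual R M))))))
    (hdense : ∀ (m : Ideal R) [m.IsMaximal],
      Dense ((Spec.map (CommRingCat.ofHom (Ideal.Quotient.mk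
        (Ideal.map (algebraMap R (SymmetricAlgebra R (Module.Dual R M))) m)))).base ⁻¹'
          (U : Set ↥(Spec (CommRingCat.of (SymmetricAlgebra R (Module.Dual R M))))))) :
    ∃ φ : Module.Dual R M →ₗ[R] R,
      Set.range (Spec.map (CommRingCat.ofHom (SymmetricAlgebra.lift φ).toRingHom)).base ⊆
        (U : Set ↥(Spec (CommRingCat.of (SymmetricAlgebra R (Module.Dual R M))))) := by
  refine (main600 hR M U hU).mpr ?_
  intro m hm
  exact local_point M m (hinf m) U (hdense m)

end Groth.Agent.Lib.LGVectH4
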