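import Mathlib
import Groth.Statements.S18974

set_option autoImplicit false
universe u

namespace Groth.Agent.Lib.LNDSlice

open Polynomial

section general
variable {B : Type*} [CommRing B] [Algebra ℚ B]

lemma natCast_mul_eq_zero {n : ℕ} (hn : n ≠ 0) {z : B} (h : (n : B) * z = 0) : z = 0 := by
  have h1 : algebraMap ℚ B ((n:ℚ)⁻¹) * (n : B) = 1 := by
    rw [← map_natCast (algebraMap ℚ B) n, ← map_mul,
      inv_mul_cancel₀ (Nat.cast_ne_zero.mpr hn), map_one]
  calc z = (algebraMap ℚ B ((n:ℚ)⁻¹) * (n : B)) * z := by rw [h1, one_mul]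
    _ = algebraMap ℚ B ((n:ℚ)⁻¹) * ((n : B) * z) := by ring
    _ = 0 := by rw [h, mul_zero]
end general

/-- coefficient -/
noncomputable def cf (n : ℕ) : ℚ := (-1 : ℚ) ^ n * (n.factorial : ℚ)⁻¹

lemma cf_succ (n : ℕ) : cf (n+1) * ((n:ℚ)+1) = - cf n := by
  unfold cf
  have h2 : ((n:ℚ)+1) ≠ 0 := by positivity
  have := inv_mul_cancel₀ h2
  rw [Nat.factorial_succ]; push_cast
  rw [mul_inv]
  linear_combination ((-1:ℚ)^n * (-1) * (n.factorial:ℚ)⁻¹) * this

section main
variable {A : Type u} [CommRing A] [Algebra ℚ A] (D : Derivation ℚ A A)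

local notation "𝔇" => (D : A →ₗ[ℚ] A)

lemma It_succ (n : ℕ) (x : A) : (𝔇 ^ (n+1)) x = D ((𝔇 ^ n) x) := by
  rw [pow_succ']; rfl

lemma It_succ' (n : ℕ) (x : A) : (𝔇 ^ (n+1)) x = (𝔇 ^ n) (D x) := by
  rw [pow_succ]; rfl

lemma It_zero (x : A) : (𝔇 ^ 0) x = x := by
  rw [pow_zero]; rfl

lemma It_one (x : A) : (𝔇 ^ 1) x = D x := by
  rw [pow_one]; rfl

lemma It_eq_zero_of_le {N n : ℕ} {x : A} (h : (𝔇 ^ N) x = 0) (hn : N ≤ n) :
    (𝔇 ^ n) x = 0 := by
  obtain ⟨k, rfl⟩ := Nat.exists_eq_add_of_le hn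
  rw [add_comm, pow_add, Module.End.mul_apply, h, map_zero]

noncomputable def piN (a : A) (N : ℕ) (x : A) : A :=
  ∑ n ∈ Finset.range N, (cf n • ((𝔇 ^ n) x * a ^ n))

lemma piN_succ (a : A) (N : ℕ) (x : A) :
    piN D a (N+1) x = piN D a N x + cf N • ((𝔇 ^ N) x * a ^ N) :=
  Finset.sum_range_succ _ _

lemma piN_stable (a : A) {N N' : ℕ} {x : A} (hx : (𝔇 ^ N) x = 0) (hN : N ≤ N') :
    piN D a N' x = piN D a N x := by
  induction N', hN using Nat.le_induction with
  | base => rfl
  | succ m hm ih =>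
    rw [piN_succ, ih, It_eq_zero_of_le D hx hm, zero_mul, smul_zero, add_zero]

lemma D_piN_succ (a : A) (ha : D a = 1) (x : A) (N : ℕ) :
    D (piN D a (N+1) x) = cf N • ((𝔇 ^ (N+1)) x * a ^ N) := by
  induction N with
  | zero =>
    simp [piN, cf, It_zero, It_one]
  | succ N ih =>
    have key : algebraMap ℚ A (cf (N+1)) * ((N : A) + 1) = - algebraMap ℚ A (cf N) := by
      have := congrArg (algebraMap ℚ A) (cf_succ N)
      rw [map_mul, map_neg, map_add, map_natCast, map_one] at this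
      exact this
    rw [piN_succ, map_add, ih, Derivation.map_smul, Derivation.leibniz, Derivation.leibniz_pow, ha,
      ← It_succ]
    simp only [Nat.add_sub_cancel, smul_eq_mul, nsmul_eq_mul, mul_one]
    simp only [Algebra.smul_def]
    push_cast
    linear_combination ((𝔇 ^ (N+1)) x * a ^ N) * key

lemma piN_succ_sub_mem (a : A) (x : A) (N : ℕ) :
    piN D a (N+1) x - x ∈ Ideal.span ({a} : Set A) := by
  unfold piN
  rw [Finset.sum_range_succ']
  have h0 : cf 0 • ((𝔇 ^ 0) x * a ^ 0) = x := by simp [cf]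
  rw [h0, add_sub_cancel_right]
  refine Ideal.sum_mem _ (fun n _ => ?_)
  rw [Algebra.smul_def, pow_succ a, ← mul_assoc, ← mul_assoc]
  exact Ideal.mul_mem_left _ _ (Ideal.mem_span_singleton_self a)

lemma relR (a y : A) (ha : D a = 1) (h0 : D (a * y) = 0) (n : ℕ) :
    ((n : A) + 1) * (𝔇 ^ n) y = -(a * (𝔇 ^ (n+1)) y) := by
  induction n with
  | zero =>
    rw [Derivation.leibniz, ha] at h0
    simp only [smul_eq_mul, mul_one] at h0
    rw [It_zero, It_one]
    push_cast
    linear_combination h0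
  | succ n ih =>
    have h := congrArg D ih
    simp only [Derivation.leibniz, map_neg, ha, map_add, Derivation.map_natCast,
      Derivation.map_one_eq_zero, smul_eq_mul, add_zero, mul_zero, mul_one, ← It_succ D] at h
    push_cast
    linear_combination h

lemma ker_inter (a y : A) (ha : D a = 1) (h0 : D (a * y) = 0) (N : ℕ)
    (hN : (𝔇 ^ N) y = 0) : a * y = 0 := by
  have C : ∀ n : ℕ, (n.factorial : A) * (a * y) = (-1) ^ n * (a ^ (n+1) * (𝔇 ^ n) y) := by
    intro n
    induction n with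
    | zero => simp
    | succ n ih =>
      have R := relR D a y ha h0 n
      rw [Nat.factorial_succ]
      push_cast
      linear_combination ((n:A)+1) * ih + (-1) ^ n * a ^ (n+1) * R
  have h := C N
  rw [hN, mul_zero, mul_zero] at h
  exact natCast_mul_eq_zero (Nat.factorial_ne_zero N) h

variable (hnil : ∀ x : A, ∃ n : ℕ, ((D : A →ₗ[ℚ] A) ^ n) x = 0)

noncomputable def piFun (a x : A) : A := piN D a (Classical.choose (hnil x)) x

lemma piFun_eq (a x : A) {N : ℕ} (hN : (𝔇 ^ N) x = 0) :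
    piFun D hnil a x = piN D a N x := by
  have h0 := Classical.choose_spec (hnil x)
  unfold piFun
  exact (piN_stable D a h0 (le_max_left _ N)).symm.trans
    (piN_stable D a hN (le_max_right _ N))

lemma D_piFun (a : A) (ha : D a = 1) (x : A) : D (piFun D hnil a x) = 0 := by
  obtain ⟨N, hN⟩ := hnil x
  have hN1 : (𝔇 ^ (N+1)) x = 0 := It_eq_zero_of_le D hN (Nat.le_succ N)
  rw [piFun_eq D hnil a x hN1, D_piN_succ D a ha x N, hN1, zero_mul, smul_zero]

lemma piFun_sub_mem (a x : A) : piFun D hnil a x - x ∈ Ideal.span ({a} : Set A) := by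
  obtain ⟨N, hN⟩ := hnil x
  have hN1 : (𝔇 ^ (N+1)) x = 0 := It_eq_zero_of_le D hN (Nat.le_succ N)
  rw [piFun_eq D hnil a x hN1]
  exact piN_succ_sub_mem D a x N

lemma piFun_unique (a : A) (ha : D a = 1) (x c : A) (hc : D c = 0)
    (hmem : c - x ∈ Ideal.span ({a} : Set A)) : piFun D hnil a x = c := by
  have hw : piFun D hnil a x - c ∈ Ideal.span ({a} : Set A) := by
    have := Ideal.sub_mem _ (piFun_sub_mem D hnil a x) hmem
    convert this using 1
    ring
  obtain ⟨y, hy⟩ := Ideal.mem_span_singleton'.mp hw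
  obtain ⟨N, hN⟩ := hnil y
  have hD : D (a * y) = 0 := by
    rw [mul_comm, hy, map_sub, D_piFun D hnil a ha x, hc, sub_zero]
  have h := ker_inter D a y ha hD N hN
  rw [mul_comm, hy] at h
  exact sub_eq_zero.mp h

noncomputable def piHom (a : A) (ha : D a = 1) : A →+* A where
  toFun := piFun D hnil a
  map_one' := piFun_unique D hnil a ha 1 1 (Derivation.map_one_eq_zero D) (by simp)
  map_mul' x y := by
    apply piFun_unique D hnil a ha
    · rw [Derivation.leibniz, D_piFun D hnil a ha, D_piFun D hnil a ha, smul_zero, smul_zero,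
        add_zero]
    · have h1 := piFun_sub_mem D hnil a x
      have h2 := piFun_sub_mem D hnil a y
      have := Ideal.add_mem _ (Ideal.mul_mem_left _ (piFun D hnil a x) h2)
        (Ideal.mul_mem_left _ y h1)
      convert this using 1
      ring
  map_zero' := piFun_unique D hnil a ha 0 0 (map_zero D) (by simp)
  map_add' x y := by
    apply piFun_unique D hnil a ha
    · rw [map_add, D_piFun D hnil a ha, D_piFun D hnil a ha, add_zero]
    · have := Ideal.add_mem _ (piFun_sub_mem D hnil a x) (piFun_sub_mem D hnil a y)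
      convert this using 1
      ring

lemma piHom_self (a : A) (ha : D a = 1) : piHom D hnil a ha a = 0 :=
  piFun_unique D hnil a ha a 0 (map_zero D) (by
    rw [zero_sub, neg_mem_iff]; exact Ideal.mem_span_singleton_self a)

noncomputable def piBar (a : A) (ha : D a = 1) : (A ⧸ Ideal.span ({a} : Set A)) →+* A :=
  Ideal.Quotient.lift (Ideal.span ({a} : Set A)) (piHom D hnil a ha) (by
    intro x hx
    obtain ⟨y, rfl⟩ := Ideal.mem_span_singleton'.mp hx
    rw [map_mul, piHom_self, mul_zero])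

lemma piBar_mk (a : A) (ha : D a = 1) (x : A) :
    piBar D hnil a ha (Ideal.Quotient.mk _ x) = piFun D hnil a x :=
  Ideal.Quotient.lift_mk _ _ _

lemma mk_piBar (a : A) (ha : D a = 1) (b : A ⧸ Ideal.span ({a} : Set A)) :
    Ideal.Quotient.mk _ (piBar D hnil a ha b) = b := by
  obtain ⟨x, rfl⟩ := Ideal.Quotient.mk_surjective b
  rw [piBar_mk, Ideal.Quotient.eq]
  exact piFun_sub_mem D hnil a x

lemma D_piBar (a : A) (ha : D a = 1) (b : A ⧸ Ideal.span ({a} : Set A)) :
    D (piBar D hnil a ha b) = 0 := by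
  obtain ⟨x, rfl⟩ := Ideal.Quotient.mk_surjective b
  rw [piBar_mk]
  exact D_piFun D hnil a ha x

noncomputable def rho (a : A) (ha : D a = 1) :
    Polynomial (A ⧸ Ideal.span ({a} : Set A)) →+* A :=
  Polynomial.eval₂RingHom (piBar D hnil a ha) a

lemma rho_apply (a : A) (ha : D a = 1) (p : Polynomial (A ⧸ Ideal.span ({a} : Set A))) :
    rho D hnil a ha p = Polynomial.eval₂ (piBar D hnil a ha) a p := rfl

lemma rho_C (a : A) (ha : D a = 1) (b : A ⧸ Ideal.span ({a} : Set A)) :
    rho D hnil a ha (C b) = piBar D hnil a ha b := by rw [rho_apply, eval₂_C]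

lemma rho_X (a : A) (ha : D a = 1) : rho D hnil a ha X = a := by rw [rho_apply, eval₂_X]

lemma rho_monomial (a : A) (ha : D a = 1) (n : ℕ) (b : A ⧸ Ideal.span ({a} : Set A)) :
    rho D hnil a ha (monomial n b) = piBar D hnil a ha b * a ^ n := by
  rw [rho_apply, eval₂_monomial]

lemma D_rho (a : A) (ha : D a = 1) (p : Polynomial (A ⧸ Ideal.span ({a} : Set A))) :
    D (rho D hnil a ha p) = rho D hnil a ha (derivative p) := by
  induction p using Polynomial.induction_on' with
  | add p q hp hq => simp only [map_add, hp, hq]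
  | monomial n b =>
    rw [rho_monomial, derivative_monomial, rho_monomial, Derivation.leibniz,
      Derivation.leibniz_pow, ha, D_piBar D hnil a ha, map_mul, map_natCast]
    simp only [smul_eq_mul, nsmul_eq_mul, mul_one, smul_zero, add_zero, mul_zero]
    ring

noncomputable def TN (a : A) (N : ℕ) (x : A) : A :=
  ∑ n ∈ Finset.range N, ((n.factorial : ℚ)⁻¹ • (piFun D hnil a ((𝔇 ^ n) x) * a ^ n))

lemma D_TN_succ (a : A) (ha : D a = 1) (N : ℕ) (x : A) :
    D (TN D hnil a (N+1) x) = TN D hnil a N (D x) := by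
  unfold TN
  rw [Finset.sum_range_succ', map_add, map_sum]
  have h0 : D ((Nat.factorial 0 : ℚ)⁻¹ • (piFun D hnil a ((𝔇 ^ 0) x) * a ^ 0)) = 0 := by
    rw [Derivation.map_smul, pow_zero a, mul_one, D_piFun D hnil a ha, smul_zero]
  rw [h0, add_zero]
  refine Finset.sum_congr rfl (fun n _ => ?_)
  rw [Derivation.map_smul, Derivation.leibniz, Derivation.leibniz_pow, ha, D_piFun D hnil a ha, smul_zero,
    add_zero, It_succ' D n x]
  simp only [Nat.add_sub_cancel, smul_eq_mul, mul_one]
  rw [mul_smul_comm, ← Nat.cast_smul_eq_nsmul ℚ, smul_smul]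
  congr 1
  rw [Nat.factorial_succ]
  push_cast
  have h1 : (n.factorial : ℚ) ≠ 0 := Nat.cast_ne_zero.mpr (Nat.factorial_ne_zero n)
  have h2 : ((n:ℚ)+1) ≠ 0 := by positivity
  field_simp

lemma TN_succ_sub_mem (a x : A) (N : ℕ) :
    TN D hnil a (N+1) x - x ∈ Ideal.span ({a} : Set A) := by
  unfold TN
  rw [Finset.sum_range_succ']
  have h0 : (Nat.factorial 0 : ℚ)⁻¹ • (piFun D hnil a ((𝔇 ^ 0) x) * a ^ 0)
      = piFun D hnil a x := by
    rw [It_zero]; simp
  rw [h0, add_sub_assoc]
  refine Ideal.add_mem _ (Ideal.sum_mem _ (fun n _ => ?_)) (piFun_sub_mem D hnil a x)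
  rw [Algebra.smul_def, pow_succ a, ← mul_assoc, ← mul_assoc]
  exact Ideal.mul_mem_left _ _ (Ideal.mem_span_singleton_self a)

lemma taylor (a : A) (ha : D a = 1) :
    ∀ (N : ℕ) (x : A), (𝔇 ^ N) x = 0 → TN D hnil a N x = x := by
  intro N
  induction N with
  | zero =>
    intro x hx
    rw [It_zero] at hx
    subst hx
    simp [TN]
  | succ N ih =>
    intro x hx
    have hDx : (𝔇 ^ N) (D x) = 0 := by rw [← It_succ']; exact hx
    have hw : TN D hnil a (N+1) x - x ∈ Ideal.span ({a} : Set A) :=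
      TN_succ_sub_mem D hnil a x N
    obtain ⟨y, hy⟩ := Ideal.mem_span_singleton'.mp hw
    obtain ⟨M, hM⟩ := hnil y
    have hD : D (a * y) = 0 := by
      rw [mul_comm, hy, map_sub, D_TN_succ D hnil a ha, ih (D x) hDx, sub_self]
    have h := ker_inter D a y ha hD M hM
    rw [mul_comm, hy] at h
    exact sub_eq_zero.mp h

noncomputable def qN (a : A) (N : ℕ) (x : A) : Polynomial (A ⧸ Ideal.span ({a} : Set A)) :=
  ∑ n ∈ Finset.range N,
    ((n.factorial : ℚ)⁻¹ •
      Polynomial.C (Ideal.Quotient.mk (Ideal.span ({a} : Set A)) ((𝔇 ^ n) x))) * Polynomial.X ^ n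

lemma rho_qN (a : A) (ha : D a = 1) (N : ℕ) (x : A) :
    rho D hnil a ha (qN D a N x) = TN D hnil a N x := by
  unfold qN TN
  rw [map_sum]
  refine Finset.sum_congr rfl (fun n _ => ?_)
  rw [map_mul, map_pow, rho_X, map_rat_smul, rho_C, piBar_mk, smul_mul_assoc]

lemma rho_surjective (a : A) (ha : D a = 1) : Function.Surjective (rho D hnil a ha) := by
  intro x
  obtain ⟨N, hN⟩ := hnil x
  exact ⟨qN D a N x, by rw [rho_qN, taylor D hnil a ha N x hN]⟩

lemma rho_inj0 (a : A) (ha : D a = 1) (p : Polynomial (A ⧸ Ideal.span ({a} : Set A)))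
    (hdeg : p.natDegree ≤ 0) (hp : rho D hnil a ha p = 0) : p = 0 := by
  rw [Polynomial.eq_C_of_natDegree_le_zero hdeg] at hp ⊢
  rw [rho_C] at hp
  have h := mk_piBar D hnil a ha (p.coeff 0)
  rw [hp, map_zero] at h
  rw [← h, map_zero]

lemma rho_injective (a : A) (ha : D a = 1) : Function.Injective (rho D hnil a ha) := by
  refine (injective_iff_map_eq_zero _).mpr ?_
  have key : ∀ n : ℕ, ∀ p : Polynomial (A ⧸ Ideal.span ({a} : Set A)),
      p.natDegree ≤ n → rho D hnil a ha p = 0 → p = 0 := by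
    intro n
    induction n with
    | zero => intro p hdeg hp; exact rho_inj0 D hnil a ha p hdeg hp
    | succ n ih =>
      intro p hdeg hp
      have h1 : rho D hnil a ha (derivative p) = 0 := by
        rw [← D_rho D hnil a ha, hp, map_zero]
      have h2 : (derivative p).natDegree ≤ n := by
        have := Polynomial.natDegree_derivative_le p
        omega
      have h3 : derivative p = 0 := ih _ h2 h1
      apply rho_inj0 D hnil a ha p _ hp
      rw [Polynomial.natDegree_le_iff_coeff_eq_zero]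
      intro m hm
      obtain ⟨m', rfl⟩ : ∃ m', m = m' + 1 := ⟨m - 1, by omega⟩
      have h4 := Polynomial.coeff_derivative p m'
      rw [h3, coeff_zero] at h4
      have h5 : ((m'+1 : ℕ) : A ⧸ Ideal.span ({a} : Set A)) * p.coeff (m'+1) = 0 := by
        rw [mul_comm]; push_cast; exact h4.symm
      exact natCast_mul_eq_zero (Nat.succ_ne_zero m') h5
  intro p hp
  exact key p.natDegree p le_rfl hp

end main

theorem main (A : Type u) [CommRing A] [Algebra ℚ A] (D : Derivation ℚ A A)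
    (hnil : ∀ x : A, ∃ n : ℕ, ((D : A →ₗ[ℚ] A) ^ n) x = 0) (a : A) (ha : D a = 1) :
    ∃ χ : A ≃+* Polynomial (A ⧸ Ideal.span ({a} : Set A)),
      (∀ (x : A) (N : ℕ), ((D : A →ₗ[ℚ] A) ^ N) x = 0 →
        χ x = ∑ n ∈ Finset.range N,
          ((n.factorial : ℚ)⁻¹ • Polynomial.C (Ideal.Quotient.mk (Ideal.span ({a} : Set A)) (((D : A →ₗ[ℚ] A) ^ n) x))) *
            Polynomial.X ^ n) ∧
      χ.symm Polynomial.X = a ∧
      (∀ (x : A) (N : ℕ), ((D : A →ₗ[ℚ] A) ^ N) x = 0 →
        χ.symm (Polynomial.C (Ideal.Quotient.mk (Ideal.span ({a} : Set A)) x)) =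
          ∑ n ∈ Finset.range N, (((-1 : ℚ) ^ n * (n.factorial : ℚ)⁻¹) • ((((D : A →ₗ[ℚ] A) ^ n) x) * a ^ n))) ∧
      ∀ p : Polynomial (A ⧸ Ideal.span ({a} : Set A)), χ (D (χ.symm p)) = Polynomial.derivative p := by
  have hbij : Function.Bijective (rho D hnil a ha) :=
    ⟨rho_injective D hnil a ha, rho_surjective D hnil a ha⟩
  refine ⟨(RingEquiv.ofBijective (rho D hnil a ha) hbij).symm, ?_, ?_, ?_, ?_⟩
  · intro x N hN
    rw [RingEquiv.symm_apply_eq, RingEquiv.ofBijective_apply]
    have h := rho_qN D hnil a ha N x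
    rw [taylor D hnil a ha N x hN] at h
    exact h.symm
  · rw [RingEquiv.symm_symm, RingEquiv.ofBijective_apply]
    exact rho_X D hnil a ha
  · intro x N hN
    rw [RingEquiv.symm_symm, RingEquiv.ofBijective_apply, rho_C, piBar_mk,
      piFun_eq D hnil a x hN]
    rfl
  · intro p
    rw [RingEquiv.symm_symm, RingEquiv.ofBijective_apply, RingEquiv.symm_apply_eq,
      RingEquiv.ofBijective_apply]
    exact D_rho D hnil a ha p

end Groth.Agent.Lib.LNDSlice
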