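import Groth.Agent.Lib.AlgSpLocP7_helper7
import Mathlib.AlgebraicGeometry.Morphisms.UniversallyOpen
import Mathlib.AlgebraicGeometry.Morphisms.QuasiFinite
import Mathlib.AlgebraicGeometry.Fiber

/-!
# Locally quasi-finite descends along surjective base change; fpqc locality of `LocP` (helper7)
-/

set_option autoImplicit false
universe u
open CategoryTheory CategoryTheory.Limits AlgebraicGeometry Opposite MorphismProperty
open AlgSp Groth.Agent.Lib.AlgSpQC2_helper7 Groth.Agent.Lib.AlgSpPoints_helper7
  Groth.Agent.Lib.AlgSpQC_helper7 Groth.Agent.Lib.AlgSpDiag_helper7 Groth.Agent.Lib.AlgSpTop_helper7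
  Groth.Agent.Lib.AlgSpPullback_helper7 Groth.Agent.Lib.AlgSpSep_helper7
  Groth.Agent.Lib.AlgSpLocP_helper7 Groth.Agent.Lib.AlgSpUniv_helper7
  Groth.Agent.Lib.AlgSpFpqc_helper7 Groth.Agent.Lib.AlgSpFpqc2_helper7
  Groth.Agent.Lib.AlgSpDescent_helper7 Groth.Agent.Lib.AlgSpEtale_helper7
  Groth.Agent.Lib.AlgSpLocP2_helper7 Groth.Agent.Lib.AlgSpEpi_helper7
  Groth.Agent.Lib.SchSrcLocal_helper7 Groth.Agent.Lib.AlgSpLocP4_helper7
  Groth.Agent.Lib.AlgSpLocP5_helper7 Groth.Agent.Lib.AlgSpLocP6_helper7
  Groth.Agent.Lib.SchSrcLocal2_helper7 Groth.Agent.Lib.AlgSpLocP7_helper7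

namespace Groth.Agent.Lib.LQFDesc_helper7

variable {S : Scheme.{u}}

/-- If the base change of a morphism locally of finite type along `c` is locally quasi-finite, then the
fibre over every point in the image of `c` is locally quasi-finite. -/
theorem locallyQuasiFinite_fiber_of_baseChange {V Z W : Scheme.{u}} (f : V ⟶ Z) (c : W ⟶ Z)
    [LocallyOfFiniteType f] (h : LocallyQuasiFinite (pullback.snd f c)) (w : W) :
    LocallyQuasiFinite (f.fiberToSpecResidueField (c w)) := by
  let r := W.fromSpecResidueField w
  let ρ : Spec (W.residueField w) ⟶ Spec (Z.residueField (c w)) := Spec.map (c.residueFieldMap w)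
  have hρ : ρ ≫ Z.fromSpecResidueField (c w) = r ≫ c :=
    Scheme.Hom.SpecMap_residueFieldMap_fromSpecResidueField c w
  have sq1 : IsPullback (pullback.fst (pullback.snd f c) r ≫ pullback.fst f c)
      (pullback.snd (pullback.snd f c) r) f (r ≫ c) :=
    (IsPullback.of_hasPullback (pullback.snd f c) r).paste_horiz (IsPullback.of_hasPullback f c)
  rw [← hρ] at sq1
  have sq2 : IsPullback (f.fiberι (c w)) (f.fiberToSpecResidueField (c w)) f
      (Z.fromSpecResidueField (c w)) := IsPullback.of_hasPullback _ _
  let t : pullback (pullback.snd f c) r ⟶ f.fiber (c w) :=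
    sq2.lift (pullback.fst _ r ≫ pullback.fst f c) (pullback.snd _ r ≫ ρ)
      (by rw [Category.assoc _ ρ]; exact sq1.w)
  have sq3 : IsPullback t (pullback.snd (pullback.snd f c) r)
      (f.fiberToSpecResidueField (c w)) ρ := by
    refine IsPullback.of_right (h₁₂ := f.fiberι (c w)) (h₂₂ := Z.fromSpecResidueField (c w)) ?_
      (sq2.lift_snd _ _ _) sq2
    rw [sq2.lift_fst]
    exact sq1
  have hsub : Subsingleton ↥(Spec (W.residueField w)) :=
    show Subsingleton (PrimeSpectrum (W.residueField w)) from inferInstance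
  have hsub2 : Subsingleton ↥(Spec (Z.residueField (c w))) :=
    show Subsingleton (PrimeSpectrum (Z.residueField (c w))) from inferInstance
  have hne : Nonempty ↥(Spec (W.residueField w)) :=
    show Nonempty (PrimeSpectrum (W.residueField w)) from inferInstance
  have hUO : UniversallyOpen ρ := inferInstance
  have hS : Surjective ρ := ⟨fun x => ⟨Classical.choice hne, Subsingleton.elim _ _⟩⟩
  have htO : UniversallyOpen t := MorphismProperty.of_isPullback sq3.flip hUO
  have htS : Surjective t := MorphismProperty.of_isPullback sq3.flip hS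
  have hLQF' : LocallyQuasiFinite (pullback.snd (pullback.snd f c) r) := inferInstance
  have hd' : _root_.IsDiscrete (Set.univ : Set ↥(pullback (pullback.snd f c) r)) := by
    have h1 := (pullback.snd (pullback.snd f c) r).isDiscrete_preimage_singleton
      (Classical.choice hne)
    have h2 : (pullback.snd (pullback.snd f c) r) ⁻¹' {Classical.choice hne} = Set.univ :=
      Set.eq_univ_of_forall fun x => Subsingleton.elim _ _
    rwa [h2] at h1
  have hd : _root_.IsDiscrete (Set.univ : Set ↥(f.fiber (c w))) := by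
    apply isDiscrete_of_preimage_of_isOpenMap t.isOpenMap t.surjective
    rw [Set.preimage_univ]
    exact hd'
  have hlft : LocallyOfFiniteType (f.fiberToSpecResidueField (c w)) := by
    unfold Scheme.Hom.fiberToSpecResidueField
    exact MorphismProperty.pullback_snd (P := @LocallyOfFiniteType) _ _ inferInstance
  rw [locallyQuasiFinite_iff_isDiscrete_preimage_singleton]
  intro x
  exact hd.mono (Set.subset_univ _)

theorem descendsFlatCover_locallyQuasiFinite :
    DescendsFlatCover (@LocallyQuasiFinite ⊓ @LocallyOfFiniteType : MorphismProperty Scheme.{u}) := by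
  intro Z _ m W c hW hc hs V f h
  have hlft : LocallyOfFiniteType f :=
    descendsFlatCover_of_descendsAlong @LocallyOfFiniteType W c hW hc hs f (fun j => (h j).2)
  refine ⟨?_, hlft⟩
  refine LocallyQuasiFinite.of_fiberToSpecResidueField f fun z => ?_
  obtain ⟨j, w, rfl⟩ := hs z
  exact locallyQuasiFinite_fiber_of_baseChange f (c j) (h j).1 w

theorem isLocalOnBase_fpqc_locP_locallyQuasiFinite :
    IsLocalOnBase (IsFpqcCover (S := S)) (LocP (@LocallyQuasiFinite ⊓ @LocallyOfFiniteType)) :=
  locP_isLocalOnBase_fpqc _ etLocal_locallyQuasiFinite descendsFlatCover_locallyQuasiFinite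

theorem isLocalOnBase_fpqc_locP_quasiFinite :
    IsLocalOnBase (IsFpqcCover (S := S))
      (fun _ _ f => LocP (@LocallyQuasiFinite ⊓ @LocallyOfFiniteType) f ∧ IsQuasiCompactMor f) :=
  isLocalOnBase_and isLocalOnBase_fpqc_locP_locallyQuasiFinite isLocalOnBase_fpqc_isQuasiCompactMor

end Groth.Agent.Lib.LQFDesc_helper7
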