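import Mathlib
import Groth.Prelude.Def_W4stkremschemesLRS

/-!
# A closed embedding of schemes with locally surjective comorphism is a closed immersion of
locally ringed spaces (kernel locally generated by sections) (helper5): S9502.
APPEND-ONLY once landed.
-/

set_option autoImplicit false
universe u

namespace Groth.Agent.LRSClosedImm

open AlgebraicGeometry CategoryTheory TopologicalSpace Opposite

variable {X Y : Scheme.{u}} (f : X ⟶ Y)

/-- key: for `V` affine open in `Y` with `f⁻¹V` compact, at each `y' ∈ V` the kernel of the stalk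
map of `f.c` is generated by germs of the kernel of `f.app V`. -/
lemma ker_le_span {V : Y.Opens} (hV : IsAffineOpen V)
    (hc : IsCompact ((f ⁻¹ᵁ V : X.Opens) : Set X))
    (y' : Y) (hy' : y' ∈ V) (t : Y.presheaf.stalk y')
    (ht : (TopCat.Presheaf.stalkFunctor CommRingCat y').map f.c t = 0) :
    t ∈ Ideal.span (Set.range fun j : {s : Γ(Y, V) // f.app V s = 0} =>
      Y.presheaf.germ V y' hy' j.1) := by
  letI := Y.presheaf.algebra_section_stalk ⟨y', hy'⟩
  haveI := hV.isLocalization_stalk ⟨y', hy'⟩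
  obtain ⟨⟨a₀, g⟩, hag⟩ :=
    IsLocalization.surj (hV.primeIdealOf ⟨y', hy'⟩).asIdeal.primeCompl t
  have hgu : IsUnit (Y.presheaf.germ V y' hy' g.1) :=
    IsLocalization.map_units (Y.presheaf.stalk y') g
  have hag' : t * Y.presheaf.germ V y' hy' g.1 = Y.presheaf.germ V y' hy' a₀ := hag
  let φ : Y.presheaf.stalk y' →+* ((f.base _* X.presheaf).stalk y') :=
    ((TopCat.Presheaf.stalkFunctor CommRingCat y').map f.c).hom
  have hφt : φ t = 0 := ht
  have hφa : φ (Y.presheaf.germ V y' hy' a₀) = 0 := by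
    rw [← hag', map_mul, hφt, zero_mul]
  have h0 : (f.base _* X.presheaf).germ V y' hy' (f.app V a₀) =
      (f.base _* X.presheaf).germ V y' hy' 0 := by
    rw [map_zero]
    exact (TopCat.Presheaf.stalkFunctor_map_germ_apply V y' hy' f.c a₀).symm.trans hφa
  obtain ⟨W, hyW, iU, iV, hW⟩ := TopCat.Presheaf.germ_eq _ y' hy' hy' _ _ h0
  have hW' : X.presheaf.map ((Opens.map f.base).map iU).op (f.app V a₀) = 0 := by
    have h3 := hW
    rw [map_zero] at h3
    exact h3
  obtain ⟨g', hg'W, hyg'⟩ := hV.exists_basicOpen_le (V := W) ⟨y', hyW⟩ hy'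
  have hle : X.basicOpen (f.app V g') ≤ f ⁻¹ᵁ W := by
    rw [← Scheme.preimage_basicOpen]
    exact f.preimage_mono hg'W
  have H : X.presheaf.map (homOfLE (X.basicOpen_le (f.app V g'))).op (f.app V a₀) = 0 := by
    have e1 : X.presheaf.map (homOfLE hle).op
        (X.presheaf.map ((Opens.map f.base).map iU).op (f.app V a₀)) =
        X.presheaf.map (homOfLE (X.basicOpen_le (f.app V g'))).op (f.app V a₀) := by
      rw [← CommRingCat.comp_apply, ← Functor.map_comp]
      rfl
    rw [← e1, hW', map_zero]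
  obtain ⟨n, hn⟩ := exists_pow_mul_eq_zero_of_res_basicOpen_eq_zero_of_isCompact X hc
    (f.app V a₀) (f.app V g') H
  have hs : f.app V (g' ^ n * a₀) = 0 := by rw [map_mul, map_pow, hn]
  have hg'u : IsUnit (Y.presheaf.germ V y' hy' g') :=
    (Scheme.mem_basicOpen Y g' y' hy').mp hyg'
  have hmem : Y.presheaf.germ V y' hy' (g' ^ n * a₀) ∈
      Ideal.span (Set.range fun j : {s : Γ(Y, V) // f.app V s = 0} =>
        Y.presheaf.germ V y' hy' j.1) :=
    Ideal.subset_span ⟨⟨g' ^ n * a₀, hs⟩, rfl⟩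
  obtain ⟨u, hu⟩ := hgu
  obtain ⟨u', hu'⟩ := hg'u
  have ht2 : t = ↑u⁻¹ * (↑(u'⁻¹) ^ n * Y.presheaf.germ V y' hy' (g' ^ n * a₀)) := by
    rw [map_mul, map_pow, ← hu', ← mul_assoc ((↑(u'⁻¹) : Y.presheaf.stalk y') ^ n), ← mul_pow,
      Units.inv_mul, one_pow, one_mul, ← hag', ← hu, mul_comm t, ← mul_assoc, Units.inv_mul,
      one_mul]
  rw [ht2]
  exact Ideal.mul_mem_left _ _ (Ideal.mul_mem_left _ _ hmem)

theorem main9502 (h1 : Topology.IsClosedEmbedding f)
    (h2 : TopCat.Presheaf.IsLocallySurjective f.c) :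
    LRSImm.IsClosedImmersion f.toLRSHom := by
  refine ⟨h1, h2, ?_⟩
  intro y
  obtain ⟨_, ⟨V, hV, rfl⟩, hyV, -⟩ :=
    Y.isBasis_affineOpens.exists_subset_of_mem_open (Set.mem_univ y) isOpen_univ
  have hc : IsCompact ((f ⁻¹ᵁ V : X.Opens) : Set X) := h1.isCompact_preimage hV.isCompact
  refine ⟨V, hyV, {s : Γ(Y, V) // f.app V s = 0}, fun j => j.1, fun j => j.2, ?_⟩
  intro y' hy'
  apply le_antisymm
  · rw [Ideal.span_le]
    rintro _ ⟨j, rfl⟩
    show (TopCat.Presheaf.stalkFunctor CommRingCat y').map f.c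
      (Y.presheaf.germ V y' hy' j.1) = 0
    have hj : f.c.app (op V) j.1 = 0 := j.2
    have e := TopCat.Presheaf.stalkFunctor_map_germ_apply V y' hy' f.c j.1
    rw [hj, map_zero] at e
    exact e
  · intro t ht
    exact ker_le_span f hV hc y' hy' t (RingHom.mem_ker.mp ht)

end Groth.Agent.LRSClosedImm
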