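import Mathlib

/-! # A locally ringed space which is the disjoint union of two affine opens is affine (lead) -/

set_option autoImplicit false
set_option backward.isDefEq.respectTransparency false
set_option linter.unusedSimpArgs false
set_option linter.unusedVariables false
set_option linter.unusedSectionVars false
set_option linter.style.longLine false
set_option linter.style.haveILetI false
set_option linter.unnecessarySimpa false
set_option maxHeartbeats 1600000

universe u

open CategoryTheory CategoryTheory.Limits AlgebraicGeometry TopologicalSpace Opposite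

namespace Groth.Agent.Lib.LRSCompl

theorem main9511 (X : LocallyRingedSpace.{u}) (U V : Opens X.toTopCat) (hUV : IsCompl U V)
    (A B : CommRingCat.{u})
    (eU : X.restrict U.isOpenEmbedding ≅ (Spec A).toLocallyRingedSpace)
    (eV : X.restrict V.isOpenEmbedding ≅ (Spec B).toLocallyRingedSpace) :
    IsIso X.toΓSpec := by
  have hcov : ∀ x : X.toTopCat, x ∈ U ∨ x ∈ V := by
    intro x
    have h1 : x ∈ U ⊔ V := by
      rw [hUV.sup_eq_top]
      trivial
    exact h1
  let X' : Scheme.{u} :=
    { toLocallyRingedSpace := X
      local_affine := fun x => by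
        rcases hcov x with hx | hx
        · exact ⟨⟨U, hx⟩, A, ⟨eU⟩⟩
        · exact ⟨⟨V, hx⟩, B, ⟨eV⟩⟩ }
  let U' : X'.Opens := U
  let V' : X'.Opens := V
  let eU' : U'.toScheme ≅ Spec A :=
    Scheme.fullyFaithfulForgetToLocallyRingedSpace.preimageIso eU
  let eV' : V'.toScheme ≅ Spec B :=
    Scheme.fullyFaithfulForgetToLocallyRingedSpace.preimageIso eV
  haveI : IsAffine U'.toScheme := IsAffine.of_isIso eU'.hom
  haveI : IsAffine V'.toScheme := IsAffine.of_isIso eV'.hom
  have hc : IsCompl U'.ι.opensRange V'.ι.opensRange := by
    rw [Scheme.Opens.opensRange_ι, Scheme.Opens.opensRange_ι]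
    exact hUV
  obtain ⟨hcolim⟩ := nonempty_isColimit_binaryCofanMk_of_isCompl U'.ι V'.ι hc
  let e : U'.toScheme ⨿ V'.toScheme ≅ X' :=
    (colimit.isColimit _).coconePointUniqueUpToIso hcolim
  haveI : IsAffine X' := IsAffine.of_isIso e.inv
  have h1 : IsIso X'.toSpecΓ := inferInstance
  have h2 : IsIso (Scheme.forgetToLocallyRingedSpace.map X'.toSpecΓ) := inferInstance
  exact h2

end Groth.Agent.Lib.LRSCompl
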