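import Mathlib
import Groth.Prelude.Def_W4stkremschemesLRS

/-! # Closed immersions of locally ringed spaces into schemes: the kernel is quasi-coherent (lead)

For `i : Z ⟶ X` a closed immersion of locally ringed spaces (`LRSImm.IsClosedImmersion`) into a scheme,
`K i U = ker (Γ(X, U) → O_Z(i⁻¹ U))`.  Main results:
* `stalkMap_surjective`, `ker_stalkMap_eq`: stalk maps of `i` are surjective, with kernel the stalk kernel
  of the sheaf map;
* `exists_pow_mul_mem` (Lemma Q): for `U` affine, `f r : Γ(X, U)` with `r|_{D(f)} ∈ K (D(f))`, some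
  `f ^ N * r ∈ K U`;
* `ker_stalkMap_le`: the kernel of the stalk map at `z` is generated by the germs of `K U` (`U` affine);
* `exists_mem_K_of_notMem_range`: a point of an affine open `U` not in the image of `i` lies in `D(a)`
  for some `a ∈ K U`.
-/

set_option autoImplicit false
set_option maxHeartbeats 1600000
set_option linter.unusedVariables false
set_option linter.unusedSectionVars false
set_option linter.style.longLine false
set_option linter.unusedSimpArgs false
set_option linter.unnecessarySimpa false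

universe u

open CategoryTheory CategoryTheory.Limits AlgebraicGeometry TopologicalSpace Opposite

namespace Groth.Agent.Lib.LRSImmA

section General

variable {Z X : LocallyRingedSpace.{u}} (i : Z ⟶ X)

/-- the map induced by `i.c` on the stalks at a point of `X`. -/
noncomputable abbrev sMap (x : X.toTopCat) :
    X.presheaf.stalk x ⟶ (i.base _* Z.presheaf).stalk x :=
  (TopCat.Presheaf.stalkFunctor CommRingCat x).map i.c

theorem stalkMap_eq (z : Z.toTopCat) :
    i.stalkMap z = sMap i (i.base z) ≫ Z.presheaf.stalkPushforward CommRingCat i.base z := rfl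

theorem isIso_stalkPushforward (hi : Topology.IsInducing i.base) (z : Z.toTopCat) :
    IsIso (Z.presheaf.stalkPushforward CommRingCat i.base z) :=
  TopCat.Presheaf.stalkPushforward.stalkPushforward_iso_of_isInducing CommRingCat hi _ z

theorem stalkPushforward_injective (hi : Topology.IsInducing i.base) (z : Z.toTopCat) :
    Function.Injective (Z.presheaf.stalkPushforward CommRingCat i.base z) := by
  haveI := isIso_stalkPushforward i hi z
  exact ((ConcreteCategory.isIso_iff_bijective _).mp inferInstance).1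

theorem stalkPushforward_surjective (hi : Topology.IsInducing i.base) (z : Z.toTopCat) :
    Function.Surjective (Z.presheaf.stalkPushforward CommRingCat i.base z) := by
  haveI := isIso_stalkPushforward i hi z
  exact ((ConcreteCategory.isIso_iff_bijective _).mp inferInstance).2

theorem stalkMap_apply (z : Z.toTopCat) (x : X.presheaf.stalk (i.base z)) :
    i.stalkMap z x = Z.presheaf.stalkPushforward CommRingCat i.base z (sMap i (i.base z) x) := by
  rw [stalkMap_eq]
  rfl

theorem stalkMap_eq_zero_iff (hi : Topology.IsInducing i.base) (z : Z.toTopCat)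
    (x : X.presheaf.stalk (i.base z)) :
    i.stalkMap z x = 0 ↔ sMap i (i.base z) x = 0 := by
  rw [stalkMap_apply]
  constructor
  · intro h
    apply stalkPushforward_injective i hi z
    rw [h, map_zero]
  · intro h
    rw [h, map_zero]

theorem stalkMap_surjective (hi : LRSImm.IsClosedImmersion i) (z : Z.toTopCat) :
    Function.Surjective (i.stalkMap z) := by
  have h1 := (TopCat.Presheaf.locally_surjective_iff_surjective_on_stalks i.c).mp hi.2.1 (i.base z)
  intro y
  obtain ⟨y', hy'⟩ := stalkPushforward_surjective i hi.1.isInducing z y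
  obtain ⟨x, hx⟩ := h1 y'
  refine ⟨x, ?_⟩
  rw [stalkMap_apply]
  have hx' : sMap i (i.base z) x = y' := hx
  rw [hx', hy']

/-- sections of `O_Z` over an open not meeting the image vanish. -/
theorem subsingleton_of_disjoint (U : Opens X.toTopCat)
    (hU : ∀ z : Z.toTopCat, i.base z ∉ U) :
    Subsingleton (Z.presheaf.obj (op ((Opens.map i.base).obj U))) := by
  have h0 : (Opens.map i.base).obj U = ⊥ := by
    ext z
    simp only [Opens.map_coe, Set.mem_preimage, SetLike.mem_coe, Opens.coe_bot, Set.mem_empty_iff_false,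
      iff_false]
    exact hU z
  rw [h0]
  exact CommRingCat.subsingleton_of_isTerminal Z.sheaf.isTerminalOfEmpty

end General

section Sch

variable {Z : LocallyRingedSpace.{u}} {X : Scheme.{u}} (i : Z ⟶ X.toLocallyRingedSpace)

/-- restriction of functions -/
noncomputable abbrev rX {V W : X.Opens} (h : V ≤ W) : Γ(X, W) →+* Γ(X, V) :=
  (X.presheaf.map (homOfLE h).op).hom

theorem rX_rX {V W Y : X.Opens} (h₁ : V ≤ W) (h₂ : W ≤ Y) (r : Γ(X, Y)) :
    rX h₁ (rX h₂ r) = rX (h₁.trans h₂) r := by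
  change (X.presheaf.map (homOfLE h₂).op ≫ X.presheaf.map (homOfLE h₁).op) r = _
  rw [← X.presheaf.map_comp]
  rfl

/-- the kernel of `Γ(X, U) → O_Z(i⁻¹ U)`. -/
noncomputable def K (U : X.Opens) : Ideal Γ(X, U) := RingHom.ker (i.c.app (op U)).hom

theorem mem_K {U : X.Opens} (a : Γ(X, U)) : a ∈ K i U ↔ i.c.app (op U) a = 0 := Iff.rfl

theorem rX_mem_K {V W : X.Opens} (h : V ≤ W) {a : Γ(X, W)} (ha : a ∈ K i W) : rX h a ∈ K i V := by
  rw [mem_K] at ha ⊢
  have hn := i.c.naturality (homOfLE h).op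
  have h2 : i.c.app (op V) (X.presheaf.map (homOfLE h).op a) =
      (i.base _* Z.presheaf).map (homOfLE h).op (i.c.app (op W) a) := by
    rw [← ConcreteCategory.comp_apply, ← ConcreteCategory.comp_apply, hn]
  change i.c.app (op V) (X.presheaf.map (homOfLE h).op a) = 0
  rw [h2, ha, map_zero]

/-- membership in `K` is local. -/
theorem mem_K_of_locally {U : X.Opens} (a : Γ(X, U))
    (h : ∀ x ∈ U, ∃ (W : X.Opens) (hW : W ≤ U), x ∈ W ∧ rX hW a ∈ K i W) : a ∈ K i U := by
  rw [mem_K]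
  choose W hW hxW hmem using h
  let ι := {x : X // x ∈ U}
  let Wz : ι → Opens Z.toTopCat := fun x => (Opens.map i.base).obj (W x.1 x.2)
  let V : Opens Z.toTopCat := (Opens.map i.base).obj U
  have hle : ∀ x : ι, Wz x ≤ V := fun x => (Opens.map i.base).monotone (hW x.1 x.2)
  have hcov : V ≤ iSup Wz := by
    intro z hz
    have hz' : i.base z ∈ U := hz
    exact Opens.mem_iSup.mpr ⟨⟨i.base z, hz'⟩, hxW _ hz'⟩
  refine TopCat.Sheaf.eq_of_locally_eq' Z.sheaf Wz V (fun x => homOfLE (hle x)) hcov _ _ ?_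
  intro x
  have hm := hmem x.1 x.2
  rw [mem_K] at hm
  have hn := i.c.naturality (homOfLE (hW x.1 x.2)).op
  have h2 : i.c.app (op (W x.1 x.2)) (X.presheaf.map (homOfLE (hW x.1 x.2)).op a) =
      (i.base _* Z.presheaf).map (homOfLE (hW x.1 x.2)).op (i.c.app (op U) a) := by
    rw [← ConcreteCategory.comp_apply, ← ConcreteCategory.comp_apply, hn]
  have h3 : (i.base _* Z.presheaf).map (homOfLE (hW x.1 x.2)).op (i.c.app (op U) a) = 0 := by
    rw [← h2]
    exact hm
  refine Eq.trans ?_ (map_zero _).symm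
  exact h3

end Sch

section SpanGerm

variable {X : Scheme.{u}}

theorem germ_rX {V W : X.Opens} (h : V ≤ W) (x : X) (hx : x ∈ V) (a : Γ(X, W)) :
    X.presheaf.germ V x hx (rX h a) = X.presheaf.germ W x (h hx) a :=
  TopCat.Presheaf.germ_res_apply X.presheaf (homOfLE h) x hx a

/-- restriction of a span -/
theorem rX_mem_span {ι : Type*} {U V W : X.Opens} (hVU : V ≤ U) (hWV : W ≤ V) (s : ι → Γ(X, U))
    {b : Γ(X, V)} (hb : b ∈ Ideal.span (Set.range fun j => rX hVU (s j))) :
    rX hWV b ∈ Ideal.span (Set.range fun j => rX (hWV.trans hVU) (s j)) := by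
  have h1 : rX hWV b ∈ Ideal.map (rX hWV) (Ideal.span (Set.range fun j => rX hVU (s j))) :=
    Ideal.mem_map_of_mem _ hb
  rw [Ideal.map_span, ← Set.range_comp] at h1
  have h2 : (⇑(rX hWV) ∘ fun j => rX hVU (s j)) = fun j => rX (hWV.trans hVU) (s j) := by
    funext j
    exact rX_rX hWV hVU (s j)
  rw [h2] at h1
  exact h1

theorem map_span_rX {ι : Type*} {U V W : X.Opens} (hVU : V ≤ U) (hWV : W ≤ V) (s : ι → Γ(X, U)) :
    Ideal.map (rX hWV) (Ideal.span (Set.range fun j => rX hVU (s j))) =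
      Ideal.span (Set.range fun j => rX (hWV.trans hVU) (s j)) := by
  rw [Ideal.map_span, ← Set.range_comp]
  have h2 : (⇑(rX hWV) ∘ fun j => rX hVU (s j)) = fun j => rX (hWV.trans hVU) (s j) := by
    funext j
    exact rX_rX hWV hVU (s j)
  rw [h2]

/-- if the germ of `a` lies in the span of the germs of the `s j`, then this holds on a neighbourhood. -/
theorem exists_rX_mem_span_of_germ_mem {ι : Type*} {U : X.Opens} (s : ι → Γ(X, U)) (a : Γ(X, U))
    (x : X) (hx : x ∈ U)
    (h : X.presheaf.germ U x hx a ∈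
      Ideal.span (Set.range fun j => X.presheaf.germ U x hx (s j))) :
    ∃ (W : X.Opens) (hW : W ≤ U), x ∈ W ∧
      rX hW a ∈ Ideal.span (Set.range fun j => rX hW (s j)) := by
  have key : ∀ y ∈ Ideal.span (Set.range fun j => X.presheaf.germ U x hx (s j)),
      ∃ (W : X.Opens) (hW : W ≤ U) (hxW : x ∈ W) (b : Γ(X, W)),
        b ∈ Ideal.span (Set.range fun j => rX hW (s j)) ∧ X.presheaf.germ W x hxW b = y := by
    intro y hy
    induction hy using Submodule.span_induction with
    | mem y hy =>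
      obtain ⟨j, rfl⟩ := hy
      exact ⟨U, le_rfl, hx, rX le_rfl (s j), Ideal.subset_span ⟨j, rfl⟩, germ_rX le_rfl x hx (s j)⟩
    | zero => exact ⟨U, le_rfl, hx, 0, Ideal.zero_mem _, map_zero _⟩
    | add y₁ y₂ _ _ h₁ h₂ =>
      obtain ⟨W₁, hW₁, hx₁, b₁, hb₁, rfl⟩ := h₁
      obtain ⟨W₂, hW₂, hx₂, b₂, hb₂, rfl⟩ := h₂
      refine ⟨W₁ ⊓ W₂, inf_le_left.trans hW₁, ⟨hx₁, hx₂⟩,
        rX inf_le_left b₁ + rX inf_le_right b₂, ?_, ?_⟩
      · exact Ideal.add_mem _ (rX_mem_span hW₁ inf_le_left s hb₁)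
          (rX_mem_span hW₂ inf_le_right s hb₂)
      · rw [map_add, germ_rX, germ_rX]
    | smul c y _ h₁ =>
      obtain ⟨W₁, hW₁, hx₁, b₁, hb₁, rfl⟩ := h₁
      obtain ⟨V, hxV, γ, rfl⟩ := X.presheaf.exists_germ_eq c
      refine ⟨W₁ ⊓ V, inf_le_left.trans hW₁, ⟨hx₁, hxV⟩,
        rX inf_le_right γ * rX inf_le_left b₁, ?_, ?_⟩
      · exact Ideal.mul_mem_left _ _ (rX_mem_span hW₁ inf_le_left s hb₁)
      · rw [smul_eq_mul, map_mul, germ_rX, germ_rX]
  obtain ⟨W, hW, hxW, b, hb, hgerm⟩ := key _ h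
  obtain ⟨W', hxW', iU, iV, hab⟩ := X.presheaf.germ_eq x hxW hx b a hgerm
  have hU' : W' ≤ W := leOfHom iU
  have hV' : W' ≤ U := leOfHom iV
  have e1 : iU = homOfLE hU' := Subsingleton.elim _ _
  have e2 : iV = homOfLE hV' := Subsingleton.elim _ _
  rw [e1, e2] at hab
  refine ⟨W', hV', hxW', ?_⟩
  have h3 : rX hV' a = rX hU' b := hab.symm
  rw [h3]
  exact rX_mem_span hW hU' s hb

/-- localisation step: membership in the extension of an ideal to a basic open. -/
theorem exists_pow_mul_mem_of_rX_mem_map {W : X.Opens} (hW : IsAffineOpen W) (f a : Γ(X, W))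
    (J : Ideal Γ(X, W))
    (h1 : rX (X.basicOpen_le f) a ∈ J.map (rX (X.basicOpen_le f))) : ∃ N : ℕ, f ^ N * a ∈ J := by
  haveI := hW.isLocalization_basicOpen f
  have h1' : algebraMap Γ(X, W) Γ(X, X.basicOpen f) a ∈
      Ideal.map (algebraMap Γ(X, W) Γ(X, X.basicOpen f)) J := h1
  obtain ⟨⟨b, m⟩, hbm⟩ :=
    (IsLocalization.mem_map_algebraMap_iff (Submonoid.powers f) Γ(X, X.basicOpen f)).mp h1'
  obtain ⟨N, hN⟩ := m.2
  have h4 : algebraMap Γ(X, W) Γ(X, X.basicOpen f) (a * m.1) =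
      algebraMap Γ(X, W) Γ(X, X.basicOpen f) b.1 := by
    rw [map_mul]
    exact hbm
  obtain ⟨c, hc⟩ := (IsLocalization.eq_iff_exists (Submonoid.powers f) _).mp h4
  obtain ⟨N', hN'⟩ := c.2
  refine ⟨N' + N, ?_⟩
  have h5 : f ^ (N' + N) * a = c.1 * b.1 := by
    rw [← hc, pow_add]
    show f ^ N' * f ^ N * a = c.1 * (a * m.1)
    rw [show f ^ N' = c.1 from hN', show f ^ N = m.1 from hN]
    ring
  rw [h5]
  exact J.mul_mem_left _ b.2

/-- membership in an ideal of the ring of an affine open is local. -/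
theorem mem_of_locally_mem {U : X.Opens} (hU : IsAffineOpen U) (J : Ideal Γ(X, U)) (a : Γ(X, U))
    (h : ∀ x ∈ U, ∃ (W : X.Opens) (hW : W ≤ U), x ∈ W ∧ rX hW a ∈ J.map (rX hW)) : a ∈ J := by
  have key : ∀ x : U, ∃ f : Γ(X, U), x.1 ∈ X.basicOpen f ∧ ∃ N : ℕ, f ^ N * a ∈ J := by
    intro x
    obtain ⟨W, hW, hxW, hmem⟩ := h x.1 x.2
    obtain ⟨f, hfW, hxf⟩ := hU.exists_basicOpen_le (V := W) ⟨x.1, hxW⟩ x.2
    refine ⟨f, hxf, ?_⟩
    have hD : X.basicOpen f ≤ U := X.basicOpen_le f
    have h1 : rX hD a ∈ J.map (rX hD) := by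
      have h2 : rX hfW (rX hW a) ∈ (J.map (rX hW)).map (rX hfW) := Ideal.mem_map_of_mem _ hmem
      rw [rX_rX, Ideal.map_map] at h2
      have h3 : (rX hfW).comp (rX hW) = rX hD := RingHom.ext (fun r => rX_rX hfW hW r)
      rw [h3] at h2
      exact h2
    exact exists_pow_mul_mem_of_rX_mem_map hU f a J h1
  choose f hxf N hN using key
  apply Submodule.mem_of_span_eq_top_of_smul_pow_mem J (Set.range f) ?_ a ?_
  · rw [← hU.self_le_iSup_basicOpen_iff]
    intro x hx
    exact Opens.mem_iSup.mpr ⟨⟨f ⟨x, hx⟩, ⟨⟨x, hx⟩, rfl⟩⟩, hxf ⟨x, hx⟩⟩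
  · rintro ⟨_, ⟨x, rfl⟩⟩
    exact ⟨N x, hN x⟩

end SpanGerm

section Qcoh

variable {Z : LocallyRingedSpace.{u}} {X : Scheme.{u}} (i : Z ⟶ X.toLocallyRingedSpace)

theorem sMap_germ {U : X.Opens} (x : X) (hx : x ∈ U) (a : Γ(X, U)) :
    sMap i x (X.presheaf.germ U x hx a) =
      (i.base _* Z.presheaf).germ U x hx (i.c.app (op U) a) :=
  TopCat.Presheaf.stalkFunctor_map_germ_apply U x hx i.c a

/-- where the kernel is generated by sections `s j`, `K` of an affine open is their span. -/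
theorem K_eq_span_of_gen {U : X.Opens} {ι : Type*} (s : ι → Γ(X, U))
    (hs0 : ∀ j, i.c.app (op U) (s j) = 0)
    (hs : ∀ (x' : X) (hx' : x' ∈ U),
      Ideal.span (Set.range fun j => X.presheaf.germ U x' hx' (s j)) =
        RingHom.ker (sMap i x').hom)
    {W : X.Opens} (hW : IsAffineOpen W) (hWU : W ≤ U) :
    K i W = Ideal.span (Set.range fun j => rX hWU (s j)) := by
  apply le_antisymm
  · intro a ha
    apply mem_of_locally_mem hW _ a
    intro x hx
    have hg : X.presheaf.germ W x hx a ∈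
        Ideal.span (Set.range fun j => X.presheaf.germ W x hx (rX hWU (s j))) := by
      have e : (fun j => X.presheaf.germ W x hx (rX hWU (s j))) =
          fun j => X.presheaf.germ U x (hWU hx) (s j) := by
        funext j
        exact germ_rX hWU x hx (s j)
      rw [e, hs x (hWU hx), RingHom.mem_ker]
      have h1 := sMap_germ i x hx a
      rw [mem_K] at ha
      rw [ha, map_zero] at h1
      exact h1
    obtain ⟨W', hW', hxW', hmem⟩ :=
      exists_rX_mem_span_of_germ_mem (fun j => rX hWU (s j)) a x hx hg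
    refine ⟨W', hW', hxW', ?_⟩
    rw [Ideal.map_span, ← Set.range_comp]
    exact hmem
  · rw [Ideal.span_le]
    rintro _ ⟨j, rfl⟩
    exact rX_mem_K i hWU (hs0 j)

/-- **Lemma Q**: a function vanishing in `O_Z` over `D(f)` is killed by a power of `f`. -/
theorem exists_pow_mul_mem (hK : LRSImm.KerLocallyGenerated i) {U : X.Opens} (hU : IsAffineOpen U)
    (f r : Γ(X, U)) (h : rX (X.basicOpen_le f) r ∈ K i (X.basicOpen f)) :
    ∃ N : ℕ, f ^ N * r ∈ K i U := by
  have step1 : ∀ x ∈ U, ∃ g : Γ(X, U), x ∈ X.basicOpen g ∧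
      ∃ N : ℕ, rX (X.basicOpen_le g) (f ^ N * r) ∈ K i (X.basicOpen g) := by
    intro x hx
    obtain ⟨U₀, hxU₀, ι, s, hs0, hs⟩ := hK x
    obtain ⟨g, hgle, hxg⟩ := hU.exists_basicOpen_le (V := U ⊓ U₀) ⟨x, ⟨hx, hxU₀⟩⟩ hx
    refine ⟨g, hxg, ?_⟩
    have hW : IsAffineOpen (X.basicOpen g) := hU.basicOpen g
    have hWU : X.basicOpen g ≤ U := X.basicOpen_le g
    have hWU₀ : X.basicOpen g ≤ U₀ := hgle.trans inf_le_right
    set f' : Γ(X, X.basicOpen g) := rX hWU f with hf'
    set a : Γ(X, X.basicOpen g) := rX hWU r with ha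
    have hWf : IsAffineOpen (X.basicOpen f') := hW.basicOpen f'
    have hWfW : X.basicOpen f' ≤ X.basicOpen g := X.basicOpen_le f'
    have hWff : X.basicOpen f' ≤ X.basicOpen f := by
      have := X.basicOpen_res f (homOfLE hWU).op
      rw [hf']
      change X.basicOpen (X.presheaf.map (homOfLE hWU).op f) ≤ _
      rw [this]
      exact inf_le_right
    have e1 := K_eq_span_of_gen i s hs0 hs hW hWU₀
    have e2 := K_eq_span_of_gen i s hs0 hs hWf (hWfW.trans hWU₀)
    have h1 : rX hWfW a ∈ K i (X.basicOpen f') := by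
      have h2 := rX_mem_K i hWff h
      rw [rX_rX] at h2
      rw [ha, rX_rX]
      exact h2
    rw [e2, ← map_span_rX hWU₀ hWfW s, ← e1] at h1
    obtain ⟨N, hN⟩ := exists_pow_mul_mem_of_rX_mem_map hW f' a (K i (X.basicOpen g)) h1
    refine ⟨N, ?_⟩
    have e3 : rX hWU (f ^ N * r) = f' ^ N * a := by
      rw [map_mul, map_pow]
    rw [e3]
    exact hN
  let S : Set Γ(X, U) := {g | ∃ N : ℕ, rX (X.basicOpen_le g) (f ^ N * r) ∈ K i (X.basicOpen g)}
  have hS : Ideal.span S = ⊤ := by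
    rw [← hU.self_le_iSup_basicOpen_iff]
    intro x hx
    obtain ⟨g, hxg, hg⟩ := step1 x hx
    exact Opens.mem_iSup.mpr ⟨⟨g, hg⟩, hxg⟩
  obtain ⟨s', hs'S, hs'⟩ := (Ideal.span_eq_top_iff_finite S).mp hS
  have hs'' : ∀ g, g ∈ s' → ∃ N : ℕ, rX (X.basicOpen_le g) (f ^ N * r) ∈ K i (X.basicOpen g) :=
    fun g hg => hs'S hg
  choose! Nf hNf using hs''
  refine ⟨s'.sup Nf, ?_⟩
  apply mem_K_of_locally i
  intro x hx
  have hcov : U ≤ ⨆ g : (↑s' : Set Γ(X, U)), X.basicOpen g.1 :=
    hU.self_le_iSup_basicOpen_iff.mpr hs'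
  obtain ⟨⟨g, hg⟩, hxg⟩ := Opens.mem_iSup.mp (hcov hx)
  refine ⟨X.basicOpen g, X.basicOpen_le g, hxg, ?_⟩
  have hle : Nf g ≤ s'.sup Nf := Finset.le_sup (f := Nf) hg
  have e : f ^ (s'.sup Nf) * r = f ^ (s'.sup Nf - Nf g) * (f ^ Nf g * r) := by
    rw [← mul_assoc, ← pow_add, Nat.sub_add_cancel hle]
  rw [e, map_mul]
  exact Ideal.mul_mem_left _ _ (hNf g hg)

/-- the kernel of the stalk map at `z` is generated by germs of `K i U`, `U` an affine open. -/
theorem ker_stalkMap_le (hi : LRSImm.IsClosedImmersion i) {U : X.Opens} (hU : IsAffineOpen U)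
    (z : Z.toTopCat) (hz : i.base z ∈ U) (x : X.presheaf.stalk (i.base z))
    (hx : i.stalkMap z x = 0) :
    x ∈ Ideal.map (X.presheaf.germ U (i.base z) hz).hom (K i U) := by
  obtain ⟨V, hzV, s, rfl⟩ := X.presheaf.exists_germ_eq x
  have hzV' : z ∈ (Opens.map i.base).obj V := hzV
  have h1 : Z.presheaf.germ ((Opens.map i.base).obj V) z hzV' (i.c.app (op V) s) = 0 := by
    rw [← LocallyRingedSpace.stalkMap_germ_apply i V z hzV s]
    exact hx
  obtain ⟨W, hzW, iU, iV, hab⟩ := Z.presheaf.germ_eq z hzV' hzV' (i.c.app (op V) s) 0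
    (by rw [h1, map_zero])
  rw [map_zero] at hab
  obtain ⟨t, ht, htW⟩ := hi.1.isInducing.isOpen_iff.mp W.isOpen
  let V'' : X.Opens := ⟨t, ht⟩
  have hzV'' : i.base z ∈ V'' := by
    have : z ∈ (i.base ⁻¹' t) := by rw [htW]; exact hzW
    exact this
  obtain ⟨f, hfle, hzf⟩ := hU.exists_basicOpen_le (V := U ⊓ V ⊓ V'') ⟨i.base z, ⟨⟨hz, hzV⟩, hzV''⟩⟩ hz
  have hfV : X.basicOpen f ≤ V := hfle.trans (inf_le_left.trans inf_le_right)
  have hfV'' : X.basicOpen f ≤ V'' := hfle.trans inf_le_right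
  have hfU : X.basicOpen f ≤ U := X.basicOpen_le f
  -- s' = s restricted to D(f) lies in K
  have hs' : rX hfV s ∈ K i (X.basicOpen f) := by
    rw [mem_K]
    have hn := i.c.naturality (homOfLE hfV).op
    have h2 : i.c.app (op (X.basicOpen f)) (X.presheaf.map (homOfLE hfV).op s) =
        (i.base _* Z.presheaf).map (homOfLE hfV).op (i.c.app (op V) s) := by
      rw [← ConcreteCategory.comp_apply, ← ConcreteCategory.comp_apply, hn]
    change i.c.app (op (X.basicOpen f)) (X.presheaf.map (homOfLE hfV).op s) = 0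
    rw [h2]
    have hle1 : (Opens.map i.base).obj (X.basicOpen f) ≤ W := by
      intro y hy
      have hy' : i.base y ∈ V'' := hfV'' hy
      have : y ∈ i.base ⁻¹' t := hy'
      rw [htW] at this
      exact this
    have hle2 : W ≤ (Opens.map i.base).obj V := leOfHom iU
    have e1 : iU = homOfLE hle2 := Subsingleton.elim _ _
    rw [e1] at hab
    have h3 : (i.base _* Z.presheaf).map (homOfLE hfV).op (i.c.app (op V) s) =
        Z.presheaf.map (homOfLE hle1).op (Z.presheaf.map (homOfLE hle2).op (i.c.app (op V) s)) := by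
      have h4 : (i.base _* Z.presheaf).map (homOfLE hfV).op =
          Z.presheaf.map (homOfLE hle2).op ≫ Z.presheaf.map (homOfLE hle1).op := by
        rw [← Z.presheaf.map_comp]
        rfl
      rw [h4]
      rfl
    rw [h3, hab, map_zero]
  -- write s' as a fraction
  haveI := hU.isLocalization_basicOpen f
  obtain ⟨⟨r, m⟩, hrm⟩ := IsLocalization.surj (Submonoid.powers f) (rX hfV s)
  obtain ⟨n, hn⟩ := m.2
  have hrm' : rX hfV s * rX hfU (f ^ n) = rX hfU r := by
    have : (m : Γ(X, U)) = f ^ n := hn.symm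
    rw [← this]
    exact hrm
  have hrK : rX hfU r ∈ K i (X.basicOpen f) := by
    rw [← hrm']
    exact Ideal.mul_mem_right _ _ hs'
  obtain ⟨N, hN⟩ := exists_pow_mul_mem i hi.2.2 hU f r hrK
  -- in the stalk
  set γ := (X.presheaf.germ U (i.base z) hz).hom with hγ
  have hunit : IsUnit (γ f) := (X.mem_basicOpen f (i.base z) hz).mp hzf
  have hu2 : IsUnit (γ f ^ (n + N)) := hunit.pow _
  have hgs : X.presheaf.germ V (i.base z) hzV s =
      X.presheaf.germ (X.basicOpen f) (i.base z) hzf (rX hfV s) := (germ_rX hfV _ hzf s).symm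
  have hkey : γ f ^ (n + N) * X.presheaf.germ V (i.base z) hzV s = γ (f ^ N * r) := by
    rw [hgs]
    have e1 : γ f = X.presheaf.germ (X.basicOpen f) (i.base z) hzf (rX hfU f) :=
      (germ_rX hfU _ hzf f).symm
    have e2 : γ (f ^ N * r) =
        X.presheaf.germ (X.basicOpen f) (i.base z) hzf (rX hfU (f ^ N * r)) :=
      (germ_rX hfU _ hzf _).symm
    rw [e1, e2, ← map_pow, ← map_mul]
    congr 1
    rw [map_mul, ← hrm', map_pow, map_pow, pow_add]
    ring
  have hmem : γ f ^ (n + N) * X.presheaf.germ V (i.base z) hzV s ∈ Ideal.map γ (K i U) := by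
    rw [hkey]
    exact Ideal.mem_map_of_mem _ hN
  have := (Ideal.map γ (K i U)).mul_mem_left (↑hu2.unit⁻¹) hmem
  rwa [← mul_assoc, IsUnit.val_inv_mul, one_mul] at this

/-- a point of an affine open outside the image of `i` lies in `D(a)` for some `a ∈ K i U`. -/
theorem exists_mem_K_of_notMem_range (hi : LRSImm.IsClosedImmersion i) {U : X.Opens}
    (hU : IsAffineOpen U) (p : X) (hp : p ∈ U) (hpr : p ∉ Set.range i.base) :
    ∃ a ∈ K i U, p ∈ X.basicOpen a := by
  have hcl : IsClosed (Set.range i.base) := hi.1.isClosed_range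
  let C : X.Opens := ⟨(Set.range i.base)ᶜ, hcl.isOpen_compl⟩
  have hpC : p ∈ C := hpr
  obtain ⟨f, hfle, hpf⟩ := hU.exists_basicOpen_le (V := U ⊓ C) ⟨p, ⟨hp, hpC⟩⟩ hp
  have hsub : Subsingleton (Z.presheaf.obj (op ((Opens.map i.base).obj (X.basicOpen f)))) :=
    subsingleton_of_disjoint i (X.basicOpen f) (fun z hz => (hfle hz).2 ⟨z, rfl⟩)
  have h1 : rX (X.basicOpen_le f) (1 : Γ(X, U)) ∈ K i (X.basicOpen f) := by
    rw [mem_K]
    exact @Subsingleton.elim _ hsub _ _
  obtain ⟨N, hN⟩ := exists_pow_mul_mem i hi.2.2 hU f 1 h1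
  refine ⟨f ^ (N + 1), ?_, ?_⟩
  · have e : f ^ (N + 1) = f * (f ^ N * 1) := by ring
    rw [e]
    exact Ideal.mul_mem_left _ _ hN
  · rw [X.basicOpen_pow f (Nat.succ_pos N)]
    exact hpf

end Qcoh

end Groth.Agent.Lib.LRSImmA
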