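import Mathlib
import Groth.Agent.Lib.LRSImmA_lead

/-! # A closed immersion of a locally ringed space into `Spec R` is `Spec (R ⧸ I)` (lead) -/

set_option autoImplicit false
set_option maxHeartbeats 1600000
set_option linter.unusedVariables false
set_option linter.unusedSectionVars false
set_option linter.style.longLine false
set_option linter.unusedSimpArgs false
set_option linter.unnecessarySimpa false

universe u

open CategoryTheory CategoryTheory.Limits AlgebraicGeometry TopologicalSpace Opposite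

namespace Groth.Agent.Lib.LRSImmB

open Groth.Agent.Lib.LRSImmA

section Iso

variable {Z Y : LocallyRingedSpace.{u}} {X : Scheme.{u}} (g : Z ⟶ Y)
  (j : Y ⟶ X.toLocallyRingedSpace)

theorem isClosedEmbedding_base (hi : LRSImm.IsClosedImmersion (g ≫ j))
    (hj : Topology.IsClosedEmbedding j.base) : Topology.IsClosedEmbedding g.base := by
  have h1 : Topology.IsClosedEmbedding (⇑j.base ∘ ⇑g.base) := hi.1
  exact (Topology.IsClosedEmbedding.of_comp_iff hj).mp h1

theorem notMem_basicOpen_of_app_eq_zero (y : Y.toTopCat) (a : Γ(X, ⊤))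
    (ha : j.c.app (op ⊤) a = 0) : j.base y ∉ X.basicOpen a := by
  intro h
  have h1 : IsUnit (X.presheaf.germ ⊤ (j.base y) trivial a) :=
    (X.mem_basicOpen a (j.base y) trivial).mp h
  have h2 : IsUnit (j.stalkMap y (X.presheaf.germ ⊤ (j.base y) trivial a)) :=
    h1.map (j.stalkMap y).hom
  rw [LocallyRingedSpace.stalkMap_germ_apply j ⊤ y trivial a, ha, map_zero] at h2
  exact not_isUnit_zero h2

theorem base_surjective (hi : LRSImm.IsClosedImmersion (g ≫ j))
    (hj : Function.Injective j.base) (hX : IsAffineOpen (⊤ : X.Opens))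
    (hjK : ∀ a ∈ K (g ≫ j) ⊤, j.c.app (op ⊤) a = 0) : Function.Surjective g.base := by
  intro y
  by_contra hy
  have hnot : j.base y ∉ Set.range (g ≫ j).base := by
    rintro ⟨z, hz⟩
    apply hy
    refine ⟨z, hj ?_⟩
    exact hz
  obtain ⟨a, haK, hya⟩ := exists_mem_K_of_notMem_range (g ≫ j) hi hX (j.base y) trivial hnot
  exact notMem_basicOpen_of_app_eq_zero j y a (hjK a haK) hya

theorem stalkMap_comp_apply (z : Z.toTopCat) (x : X.presheaf.stalk (j.base (g.base z))) :
    (g ≫ j).stalkMap z x = g.stalkMap z (j.stalkMap (g.base z) x) :=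
  ConcreteCategory.congr_hom (LocallyRingedSpace.stalkMap_comp g j z) x

theorem stalkMap_bijective (hi : LRSImm.IsClosedImmersion (g ≫ j))
    (hX : IsAffineOpen (⊤ : X.Opens))
    (hjs : ∀ y, Function.Surjective (j.stalkMap y))
    (hjK : ∀ a ∈ K (g ≫ j) ⊤, j.c.app (op ⊤) a = 0) (z : Z.toTopCat) :
    Function.Bijective (g.stalkMap z) := by
  constructor
  · rw [injective_iff_map_eq_zero]
    intro y hy
    obtain ⟨x, rfl⟩ := hjs (g.base z) y
    have hx : (g ≫ j).stalkMap z x = 0 := (stalkMap_comp_apply g j z x).trans hy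
    have hmem := ker_stalkMap_le (g ≫ j) hi hX z trivial x hx
    have hle : Ideal.map (X.presheaf.germ ⊤ ((g ≫ j).base z) trivial).hom (K (g ≫ j) ⊤) ≤
        RingHom.ker (j.stalkMap (g.base z)).hom := by
      refine Ideal.map_le_iff_le_comap.mpr ?_
      intro a ha
      have h5 := LocallyRingedSpace.stalkMap_germ_apply j ⊤ (g.base z) trivial a
      rw [hjK a ha, map_zero] at h5
      change j.stalkMap (g.base z) (X.presheaf.germ ⊤ (j.base (g.base z)) trivial a) = 0
      exact h5
    exact hle hmem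
  · intro w
    obtain ⟨x, hx⟩ := stalkMap_surjective (g ≫ j) hi z w
    exact ⟨j.stalkMap (g.base z) x, (stalkMap_comp_apply g j z x).symm.trans hx⟩

theorem isIso_of_comp (hi : LRSImm.IsClosedImmersion (g ≫ j))
    (hj : Topology.IsClosedEmbedding j.base) (hX : IsAffineOpen (⊤ : X.Opens))
    (hjs : ∀ y, Function.Surjective (j.stalkMap y))
    (hjK : ∀ a ∈ K (g ≫ j) ⊤, j.c.app (op ⊤) a = 0) : IsIso g := by
  have hce := isClosedEmbedding_base g j hi hj
  have hsurj := base_surjective g j hi hj.injective hX hjK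
  have hoe : Topology.IsOpenEmbedding g.base :=
    ⟨hce.isEmbedding, by rw [hsurj.range_eq]; exact isOpen_univ⟩
  haveI : ∀ z : Z.toTopCat, IsIso (g.stalkMap z) := fun z =>
    (ConcreteCategory.isIso_iff_bijective _).mpr (stalkMap_bijective g j hi hX hjs hjK z)
  haveI : LocallyRingedSpace.IsOpenImmersion g :=
    LocallyRingedSpace.IsOpenImmersion.of_stalk_iso g hoe
  haveI : Epi g.base := (TopCat.epi_iff_surjective g.base).mpr hsurj
  exact LocallyRingedSpace.IsOpenImmersion.to_iso g

end Iso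

section SpecR

variable (R : Type u) [CommRing R] {Z : LocallyRingedSpace.{u}}
  (i : Z ⟶ (Spec (CommRingCat.of R)).toLocallyRingedSpace)

/-- `R → Γ(Z, O_Z)` -/
noncomputable def phi : CommRingCat.of R ⟶ LocallyRingedSpace.Γ.obj (op Z) :=
  (Scheme.ΓSpecIso (CommRingCat.of R)).inv ≫ i.c.app (op ⊤)

/-- `R ⧸ I → Γ(Z, O_Z)` -/
noncomputable def psi (I : Ideal R) (hI : I = RingHom.ker (phi R i).hom) :
    CommRingCat.of (R ⧸ I) ⟶ LocallyRingedSpace.Γ.obj (op Z) :=
  CommRingCat.ofHom (Ideal.Quotient.lift I (phi R i).hom (fun a ha => by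
    rw [hI] at ha
    exact ha))

/-- the morphism `Z → Spec (R ⧸ I)`. -/
noncomputable def gMap (I : Ideal R) (hI : I = RingHom.ker (phi R i).hom) :
    Z ⟶ (Spec (CommRingCat.of (R ⧸ I))).toLocallyRingedSpace :=
  ΓSpec.locallyRingedSpaceAdjunction.homEquiv Z (op (CommRingCat.of (R ⧸ I))) (psi R i I hI).op

theorem adj_symm_eq :
    (ΓSpec.locallyRingedSpaceAdjunction.homEquiv Z (op (CommRingCat.of R))).symm i =
      (phi R i).op := by
  rw [Adjunction.homEquiv_counit]
  rfl

theorem gMap_comp (I : Ideal R) (hI : I = RingHom.ker (phi R i).hom) :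
    gMap R i I hI ≫ (Spec.map (CommRingCat.ofHom (Ideal.Quotient.mk I))).toLRSHom = i := by
  have h2 : (psi R i I hI).op ≫ (CommRingCat.ofHom (Ideal.Quotient.mk I)).op = (phi R i).op := by
    rw [← op_comp]
    congr 1
  have h3 := ΓSpec.locallyRingedSpaceAdjunction.homEquiv_naturality_right (psi R i I hI).op
    (CommRingCat.ofHom (Ideal.Quotient.mk I)).op
  have h4 : (ΓSpec.locallyRingedSpaceAdjunction.homEquiv Z (op (CommRingCat.of R)))
      (phi R i).op = i := by
    rw [← adj_symm_eq, Equiv.apply_symm_apply]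
  refine Eq.trans ?_ h4
  refine Eq.trans h3.symm ?_
  exact congrArg _ h2

theorem app_eq_zero_of_mem_K (I : Ideal R) (hI : I = RingHom.ker (phi R i).hom)
    (a : Γ(Spec (CommRingCat.of R), ⊤)) (ha : a ∈ K i ⊤) :
    (Spec.map (CommRingCat.ofHom (Ideal.Quotient.mk I))).toLRSHom.c.app (op ⊤) a = 0 := by
  set r : R := (Scheme.ΓSpecIso (CommRingCat.of R)).hom a with hr
  have har : a = (Scheme.ΓSpecIso (CommRingCat.of R)).inv r := by
    rw [hr]
    exact (Iso.hom_inv_id_apply (Scheme.ΓSpecIso (CommRingCat.of R)) a).symm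
  have hrI : r ∈ I := by
    rw [hI, RingHom.mem_ker]
    change i.c.app (op ⊤) ((Scheme.ΓSpecIso (CommRingCat.of R)).inv r) = 0
    rw [← har]
    exact ha
  have hnat := Scheme.ΓSpecIso_inv_naturality (CommRingCat.ofHom (Ideal.Quotient.mk I))
  have h2 : (Spec.map (CommRingCat.ofHom (Ideal.Quotient.mk I))).appTop
      ((Scheme.ΓSpecIso (CommRingCat.of R)).inv r) =
      (Scheme.ΓSpecIso (CommRingCat.of (R ⧸ I))).inv ((Ideal.Quotient.mk I) r) :=
    (ConcreteCategory.congr_hom hnat r).symm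
  rw [har]
  change (Spec.map (CommRingCat.ofHom (Ideal.Quotient.mk I))).appTop
      ((Scheme.ΓSpecIso (CommRingCat.of R)).inv r) = 0
  rw [h2, Ideal.Quotient.eq_zero_iff_mem.mpr hrI, map_zero]

theorem main9506 (hi : LRSImm.IsClosedImmersion i)
    (I : Ideal R)
    (hI : I = RingHom.ker ((Scheme.ΓSpecIso (CommRingCat.of R)).inv ≫ i.c.app (op ⊤)).hom) :
    ∃ e : Z ≅ (Spec (CommRingCat.of (R ⧸ I))).toLocallyRingedSpace,
      e.hom ≫ (Spec.map (CommRingCat.ofHom (Ideal.Quotient.mk I))).toLRSHom = i := by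
  have hI' : I = RingHom.ker (phi R i).hom := hI
  have hcomp := gMap_comp R i I hI'
  have hsurjπ : Function.Surjective (CommRingCat.ofHom (Ideal.Quotient.mk I)) :=
    Ideal.Quotient.mk_surjective
  haveI : IsClosedImmersion (Spec.map (CommRingCat.ofHom (Ideal.Quotient.mk I))) :=
    IsClosedImmersion.spec_of_surjective _ hsurjπ
  have hi' : LRSImm.IsClosedImmersion
      (gMap R i I hI' ≫ (Spec.map (CommRingCat.ofHom (Ideal.Quotient.mk I))).toLRSHom) := by
    rw [hcomp]
    exact hi
  have hjK : ∀ a ∈ K (gMap R i I hI' ≫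
      (Spec.map (CommRingCat.ofHom (Ideal.Quotient.mk I))).toLRSHom) ⊤,
      (Spec.map (CommRingCat.ofHom (Ideal.Quotient.mk I))).toLRSHom.c.app (op ⊤) a = 0 := by
    rw [hcomp]
    exact fun a ha => app_eq_zero_of_mem_K R i I hI' a ha
  haveI : IsIso (gMap R i I hI') :=
    isIso_of_comp (gMap R i I hI')
      (Spec.map (CommRingCat.ofHom (Ideal.Quotient.mk I))).toLRSHom hi'
      (Spec.map (CommRingCat.ofHom (Ideal.Quotient.mk I))).isClosedEmbedding
      (isAffineOpen_top (Spec (CommRingCat.of R)))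
      (fun y => (Spec.map (CommRingCat.ofHom (Ideal.Quotient.mk I))).stalkMap_surjective y) hjK
  exact ⟨asIso (gMap R i I hI'), hcomp⟩

end SpecR

end Groth.Agent.Lib.LRSImmB
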