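import Mathlib
import Groth.Agent.Lib.LRSImmB_lead

/-! # A closed immersion of a locally ringed space into a scheme is a closed immersion of schemes (lead) -/

set_option autoImplicit false
set_option maxHeartbeats 1600000
set_option linter.unusedVariables false
set_option linter.unusedSectionVars false
set_option linter.style.longLine false
set_option linter.unusedSimpArgs false
set_option linter.unnecessarySimpa false
set_option linter.style.haveILetI false

universe u

open CategoryTheory CategoryTheory.Limits AlgebraicGeometry TopologicalSpace Opposite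

namespace Groth.Agent.Lib.LRSImmC

open Groth.Agent.Lib.LRSImmA Groth.Agent.Lib.LRSImmB

section Local

variable {Z Z' Y : LocallyRingedSpace.{u}} {X : Scheme.{u}} (i : Z ⟶ X.toLocallyRingedSpace)

/-- the properties of `ιZ ≫ i` (restriction of the closed immersion `i` to the preimage of an affine
open `V`) that are needed, stated for an arbitrary morphism so that they can be transported along an
equality of morphisms. -/
structure LocProp (V : X.Opens) (f : Z' ⟶ X.toLocallyRingedSpace) : Prop where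
  surj : ∀ z' : Z'.toTopCat, Function.Surjective (f.stalkMap z')
  ker : ∀ (z' : Z'.toTopCat) (hz : f.base z' ∈ V) (x : X.presheaf.stalk (f.base z')),
      f.stalkMap z' x = 0 → x ∈ Ideal.map (X.presheaf.germ V (f.base z') hz).hom (K i V)
  app : ∀ a ∈ K i V, f.c.app (op V) a = 0
  emb : Topology.IsEmbedding f.base
  range : (V : Set X) ∩ Set.range i.base ⊆ Set.range f.base

theorem locProp_comp (hi : LRSImm.IsClosedImmersion i) {V : X.Opens} (hV : IsAffineOpen V)
    (ιZ : Z' ⟶ Z) [H : LocallyRingedSpace.IsOpenImmersion ιZ]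
    (hr : Set.range ιZ.base = i.base ⁻¹' (V : Set X)) : LocProp i V (ιZ ≫ i) where
  surj := by
    intro z' w
    have hbij : Function.Bijective (ιZ.stalkMap z') :=
      (ConcreteCategory.isIso_iff_bijective _).mp inferInstance
    obtain ⟨w₀, rfl⟩ := hbij.2 w
    obtain ⟨x, rfl⟩ := stalkMap_surjective i hi (ιZ.base z') w₀
    exact ⟨x, stalkMap_comp_apply ιZ i z' x⟩
  ker := by
    intro z' hz x hx
    have hbij : Function.Bijective (ιZ.stalkMap z') :=
      (ConcreteCategory.isIso_iff_bijective _).mp inferInstance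
    have h1 : ιZ.stalkMap z' (i.stalkMap (ιZ.base z') x) = 0 :=
      (stalkMap_comp_apply ιZ i z' x).symm.trans hx
    have h2 : i.stalkMap (ιZ.base z') x = 0 := by
      apply hbij.1
      rw [h1, map_zero]
    exact ker_stalkMap_le i hi hV (ιZ.base z') hz x h2
  app := by
    intro a ha
    rw [mem_K] at ha
    have h1 : (ιZ ≫ i).c.app (op V) =
        i.c.app (op V) ≫ ιZ.c.app (op ((Opens.map i.base).obj V)) :=
      LocallyRingedSpace.comp_c_app ιZ i (op V)
    have h2 : (ιZ ≫ i).c.app (op V) a =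
        ιZ.c.app (op ((Opens.map i.base).obj V)) (i.c.app (op V) a) :=
      ConcreteCategory.congr_hom h1 a
    refine h2.trans ?_
    rw [ha, map_zero]
    rfl
  emb := by
    have h1 : Topology.IsEmbedding (⇑i.base ∘ ⇑ιZ.base) :=
      hi.1.isEmbedding.comp H.base_open.isEmbedding
    exact h1
  range := by
    rintro x ⟨hxV, z, rfl⟩
    have hz : z ∈ Set.range ιZ.base := by
      rw [hr]
      exact hxV
    obtain ⟨z', rfl⟩ := hz
    exact ⟨z', rfl⟩

theorem comp_c_app_apply (g : Z' ⟶ Y) (j : Y ⟶ X.toLocallyRingedSpace) (V : X.Opens)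
    (a : Γ(X, V)) :
    (g ≫ j).c.app (op V) a = g.c.app (op ((Opens.map j.base).obj V)) (j.c.app (op V) a) :=
  ConcreteCategory.congr_hom (LocallyRingedSpace.comp_c_app g j (op V)) a

theorem notMem_basicOpen_of_app_eq_zero' (j : Y ⟶ X.toLocallyRingedSpace) (y : Y.toTopCat)
    (V : X.Opens) (hy : j.base y ∈ V) (a : Γ(X, V)) (ha : j.c.app (op V) a = 0) :
    j.base y ∉ X.basicOpen a := by
  intro h
  have h1 : IsUnit (X.presheaf.germ V (j.base y) hy a) :=
    (X.mem_basicOpen a (j.base y) hy).mp h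
  have h2 : IsUnit (j.stalkMap y (X.presheaf.germ V (j.base y) hy a)) :=
    h1.map (j.stalkMap y).hom
  rw [LocallyRingedSpace.stalkMap_germ_apply j V y hy a, ha, map_zero] at h2
  exact not_isUnit_zero h2

theorem isIso_of_locProp (hi : LRSImm.IsClosedImmersion i) {V : X.Opens} (hV : IsAffineOpen V)
    (g : Z' ⟶ Y) (j : Y ⟶ X.toLocallyRingedSpace) (hP : LocProp i V (g ≫ j))
    (hj : Topology.IsEmbedding j.base) (hjV : ∀ y, j.base y ∈ V)
    (hjs : ∀ y, Function.Surjective (j.stalkMap y))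
    (hjK : ∀ a ∈ K i V, j.c.app (op V) a = 0) : IsIso g := by
  have hemb : Topology.IsEmbedding g.base := by
    have h1 : Topology.IsEmbedding (⇑j.base ∘ ⇑g.base) := hP.emb
    exact (Topology.IsEmbedding.of_comp_iff hj).mp h1
  have hsurj : Function.Surjective g.base := by
    intro y
    by_contra hy
    have hnot : j.base y ∉ Set.range (g ≫ j).base := by
      rintro ⟨z, hz⟩
      apply hy
      refine ⟨z, hj.injective ?_⟩
      exact hz
    have hnot' : j.base y ∉ Set.range i.base := fun h => hnot (hP.range ⟨hjV y, h⟩)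
    obtain ⟨a, haK, hya⟩ := exists_mem_K_of_notMem_range i hi hV (j.base y) (hjV y) hnot'
    exact notMem_basicOpen_of_app_eq_zero' j y V (hjV y) a (hjK a haK) hya
  have hoe : Topology.IsOpenEmbedding g.base :=
    ⟨hemb, by rw [hsurj.range_eq]; exact isOpen_univ⟩
  have hbij : ∀ z : Z'.toTopCat, Function.Bijective (g.stalkMap z) := by
    intro z
    constructor
    · rw [injective_iff_map_eq_zero]
      intro y hy
      obtain ⟨x, rfl⟩ := hjs (g.base z) y
      have hx : (g ≫ j).stalkMap z x = 0 := (stalkMap_comp_apply g j z x).trans hy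
      have hmem := hP.ker z (hjV (g.base z)) x hx
      have hle : Ideal.map (X.presheaf.germ V ((g ≫ j).base z) (hjV (g.base z))).hom (K i V) ≤
          RingHom.ker (j.stalkMap (g.base z)).hom := by
        refine Ideal.map_le_iff_le_comap.mpr ?_
        intro a ha
        have h5 := LocallyRingedSpace.stalkMap_germ_apply j V (g.base z) (hjV (g.base z)) a
        rw [hjK a ha, map_zero] at h5
        change j.stalkMap (g.base z)
          (X.presheaf.germ V (j.base (g.base z)) (hjV (g.base z)) a) = 0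
        exact h5
      exact hle hmem
    · intro w
      obtain ⟨x, hx⟩ := hP.surj z w
      exact ⟨j.stalkMap (g.base z) x, (stalkMap_comp_apply g j z x).symm.trans hx⟩
  haveI : ∀ z : Z'.toTopCat, IsIso (g.stalkMap z) := fun z =>
    (ConcreteCategory.isIso_iff_bijective _).mpr (hbij z)
  haveI : LocallyRingedSpace.IsOpenImmersion g :=
    LocallyRingedSpace.IsOpenImmersion.of_stalk_iso g hoe
  haveI : Epi g.base := (TopCat.epi_iff_surjective g.base).mpr hsurj
  exact LocallyRingedSpace.IsOpenImmersion.to_iso g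

end Local

section GInj

theorem map_homOfLE_injective {T : TopCat.{u}} (F : TopCat.Presheaf CommRingCat.{u} T)
    {U V : Opens T} (h : U ≤ V) (h' : V ≤ U) : Function.Injective (F.map (homOfLE h).op) := by
  have hUV : U = V := le_antisymm h h'
  subst hUV
  have h1 : F.map (homOfLE h).op = 𝟙 _ := by
    have h2 : (homOfLE h).op = 𝟙 (op U) :=
      congrArg Quiver.Hom.op (Subsingleton.elim (homOfLE h) (𝟙 U))
    rw [h2]
    exact F.map_id _
  rw [h1]
  exact fun a b hab => hab

variable (R : Type u) [CommRing R] {Z : LocallyRingedSpace.{u}}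
  (k : Z ⟶ (Spec (CommRingCat.of R)).toLocallyRingedSpace)

theorem gMap_app_top_injective (I : Ideal R) (hI : I = RingHom.ker (phi R k).hom)
    (t : Γ(Spec (CommRingCat.of (R ⧸ I)), ⊤))
    (ht : (gMap R k I hI).c.app (op ⊤) t = 0) : t = 0 := by
  obtain ⟨r', rfl⟩ : ∃ r' : R ⧸ I, (Scheme.ΓSpecIso (CommRingCat.of (R ⧸ I))).inv r' = t :=
    ⟨(Scheme.ΓSpecIso (CommRingCat.of (R ⧸ I))).hom t,
      Iso.hom_inv_id_apply (Scheme.ΓSpecIso (CommRingCat.of (R ⧸ I))) t⟩
  obtain ⟨r, rfl⟩ := Ideal.Quotient.mk_surjective r'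
  have key := ΓSpec.toOpen_comp_locallyRingedSpaceAdjunction_homEquiv_app (X := Z) (R := R ⧸ I)
    (psi R k I hI).op (op ⊤)
  have h1 := ConcreteCategory.congr_hom key (Ideal.Quotient.mk I r)
  have h2 : Z.presheaf.map (homOfLE (le_top : (Opens.map (gMap R k I hI).base).obj ⊤ ≤ ⊤)).op
      ((phi R k) r) = 0 := by
    refine Eq.trans ?_ ht
    exact h1.symm
  have h3 : (phi R k) r = 0 := by
    have hinj := map_homOfLE_injective Z.presheaf
      (le_top : (Opens.map (gMap R k I hI).base).obj ⊤ ≤ ⊤) (by intro x _; trivial)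
    apply hinj
    exact h2.trans (map_zero _).symm
  have h4 : r ∈ I := by
    rw [hI, RingHom.mem_ker]
    exact h3
  rw [Ideal.Quotient.eq_zero_iff_mem.mpr h4, map_zero]

theorem gMap_app_injective (I : Ideal R) (hI : I = RingHom.ker (phi R k).hom)
    (U : (Spec (CommRingCat.of (R ⧸ I))).Opens) (hU : U = ⊤)
    (t : Γ(Spec (CommRingCat.of (R ⧸ I)), U))
    (ht : (gMap R k I hI).c.app (op U) t = 0) : t = 0 := by
  subst hU
  exact gMap_app_top_injective R k I hI t ht

end GInj

section Main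

variable {X : Scheme.{u}} {Z : LocallyRingedSpace.{u}} (i : Z ⟶ X.toLocallyRingedSpace)

/-- the immersion `Spec (Γ(X, V) ⧸ I) → X`. -/
noncomputable def jS {V : X.Opens} (hV : IsAffineOpen V) (I : Ideal Γ(X, V)) :
    Spec (CommRingCat.of (Γ(X, V) ⧸ I)) ⟶ X :=
  Spec.map (CommRingCat.ofHom (Ideal.Quotient.mk I)) ≫ hV.fromSpec

theorem jS_toLRSHom {V : X.Opens} (hV : IsAffineOpen V) (I : Ideal Γ(X, V)) :
    (jS hV I).toLRSHom =
      (Spec.map (CommRingCat.ofHom (Ideal.Quotient.mk I))).toLRSHom ≫ hV.fromSpec.toLRSHom := rfl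

instance {V : X.Opens} (hV : IsAffineOpen V) (I : Ideal Γ(X, V)) : IsPreimmersion (jS hV I) := by
  unfold jS
  infer_instance

theorem jS_mem {V : X.Opens} (hV : IsAffineOpen V) (I : Ideal Γ(X, V))
    (y : (Spec (CommRingCat.of (Γ(X, V) ⧸ I))).toLocallyRingedSpace.toTopCat) :
    (jS hV I).toLRSHom.base y ∈ V := by
  have h3 : (jS hV I).toLRSHom.base y ∈ Set.range hV.fromSpec :=
    ⟨(Spec.map (CommRingCat.ofHom (Ideal.Quotient.mk I))).base y, rfl⟩
  rw [hV.range_fromSpec] at h3
  exact h3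

theorem isIso_gMap (hi : LRSImm.IsClosedImmersion i) {V : X.Opens} (hV : IsAffineOpen V)
    {Z' : LocallyRingedSpace.{u}} (ιZ : Z' ⟶ Z) [LocallyRingedSpace.IsOpenImmersion ιZ]
    (hr : Set.range ιZ.base = i.base ⁻¹' (V : Set X))
    (k : Z' ⟶ (Spec (CommRingCat.of Γ(X, V))).toLocallyRingedSpace)
    (hk : k ≫ hV.fromSpec.toLRSHom = ιZ ≫ i)
    (I : Ideal Γ(X, V)) (hI : I = RingHom.ker (phi Γ(X, V) k).hom) :
    IsIso (gMap Γ(X, V) k I hI) := by
  have hgk := gMap_comp Γ(X, V) k I hI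
  have hsq : gMap Γ(X, V) k I hI ≫ (jS hV I).toLRSHom = ιZ ≫ i := by
    rw [jS_toLRSHom, ← Category.assoc, hgk, hk]
  have hP : LocProp i V (gMap Γ(X, V) k I hI ≫ (jS hV I).toLRSHom) := by
    rw [hsq]
    exact locProp_comp i hi hV ιZ hr
  have hjK : ∀ a ∈ K i V, (jS hV I).toLRSHom.c.app (op V) a = 0 := by
    intro a ha
    have h1 := hP.app a ha
    have h2 := comp_c_app_apply (gMap Γ(X, V) k I hI) (jS hV I).toLRSHom V a
    have h3 : (Opens.map (jS hV I).toLRSHom.base).obj V = ⊤ := by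
      ext y
      simp only [Opens.map_coe, Set.mem_preimage, SetLike.mem_coe, Opens.coe_top, Set.mem_univ,
        iff_true]
      exact jS_mem hV I y
    exact gMap_app_injective Γ(X, V) k I hI _ h3 _ (h2.symm.trans h1)
  exact isIso_of_locProp i hi hV (gMap Γ(X, V) k I hI) (jS hV I).toLRSHom hP
    (jS hV I).isEmbedding (jS_mem hV I) (fun y => (jS hV I).stalkMap_surjective y) hjK

theorem exists_iso_Spec_of_openImm (hi : LRSImm.IsClosedImmersion i) {V : X.Opens}
    (hV : IsAffineOpen V) {Z' : LocallyRingedSpace.{u}} (ιZ : Z' ⟶ Z)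
    [LocallyRingedSpace.IsOpenImmersion ιZ]
    (hr : Set.range ιZ.base = i.base ⁻¹' (V : Set X)) :
    ∃ R : CommRingCat.{u}, Nonempty (Z' ≅ Spec.toLocallyRingedSpace.obj (op R)) := by
  have Hrange : Set.range (ιZ ≫ i).base ⊆ Set.range V.ι.toLRSHom.base := by
    have h1 : Set.range V.ι.toLRSHom.base = (V : Set X) := Scheme.Opens.range_ι V
    rw [h1]
    rintro _ ⟨y', rfl⟩
    have h2 : ιZ.base y' ∈ i.base ⁻¹' (V : Set X) := by
      rw [← hr]
      exact ⟨y', rfl⟩
    exact h2
  haveI : LocallyRingedSpace.IsOpenImmersion V.ι.toLRSHom :=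
    inferInstanceAs (IsOpenImmersion V.ι)
  obtain ⟨k₀, hk₀⟩ : ∃ k₀ : Z' ⟶ V.toScheme.toLocallyRingedSpace,
      k₀ ≫ V.ι.toLRSHom = ιZ ≫ i :=
    ⟨LocallyRingedSpace.IsOpenImmersion.lift V.ι.toLRSHom (ιZ ≫ i) Hrange,
      LocallyRingedSpace.IsOpenImmersion.lift_fac _ _ _⟩
  have h1 : hV.isoSpec.hom.toLRSHom ≫ hV.fromSpec.toLRSHom = V.ι.toLRSHom :=
    congrArg Scheme.Hom.toLRSHom hV.isoSpec_hom_fromSpec
  obtain ⟨k, hk⟩ : ∃ k : Z' ⟶ (Spec (CommRingCat.of Γ(X, V))).toLocallyRingedSpace,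
      k ≫ hV.fromSpec.toLRSHom = ιZ ≫ i :=
    ⟨k₀ ≫ hV.isoSpec.hom.toLRSHom, by rw [Category.assoc, h1, hk₀]⟩
  haveI := isIso_gMap i hi hV ιZ hr k hk (RingHom.ker (phi Γ(X, V) k).hom) rfl
  have e : Z' ≅ (Spec (CommRingCat.of
      (Γ(X, V) ⧸ RingHom.ker (phi Γ(X, V) k).hom))).toLocallyRingedSpace :=
    asIso (gMap Γ(X, V) k (RingHom.ker (phi Γ(X, V) k).hom) rfl)
  exact ⟨CommRingCat.of (Γ(X, V) ⧸ RingHom.ker (phi Γ(X, V) k).hom), ⟨e⟩⟩

theorem main9505 (hi : LRSImm.IsClosedImmersion i) :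
    ∃ (Z' : Scheme.{u}) (e : Z'.toLocallyRingedSpace ≅ Z),
      AlgebraicGeometry.IsClosedImmersion (Scheme.Hom.mk (e.hom ≫ i) : Z' ⟶ X) := by
  let Z' : Scheme.{u} :=
    { toLocallyRingedSpace := Z
      local_affine := fun z => by
        obtain ⟨_, ⟨V, hV, rfl⟩, hzV, -⟩ :=
          X.isBasis_affineOpens.exists_subset_of_mem_open (Set.mem_univ (i.base z)) isOpen_univ
        refine ⟨⟨(Opens.map i.base).obj V, hzV⟩, ?_⟩
        apply exists_iso_Spec_of_openImm i hi hV (Z.ofRestrict _)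
        ext y
        constructor
        · rintro ⟨y', rfl⟩
          exact y'.2
        · intro hy
          exact ⟨⟨y, hy⟩, rfl⟩ }
  have key : ∀ (f : Z ⟶ X.toLocallyRingedSpace), f = i →
      AlgebraicGeometry.IsClosedImmersion (Scheme.Hom.mk f : Z' ⟶ X) := by
    rintro f rfl
    rw [isClosedImmersion_iff]
    refine ⟨⟨fun z => ?_⟩, hi.1⟩
    exact stalkMap_surjective f hi z
  exact ⟨Z', Iso.refl _, key _ (Category.id_comp i)⟩

end Main

end Groth.Agent.Lib.LRSImmC
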