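import Mathlib

/-!
# Spreading out a uniformizer at a height one prime of a normal Noetherian domain (helper9)
-/

set_option autoImplicit false
universe u

namespace LVCorr9

theorem exists_mul_mem_of_mem_map {A : Type*} [CommRing A] [IsDomain A] (p : Ideal A) [p.IsPrime]
    (I : Ideal A) (x : A)
    (hx : algebraMap A (Localization.AtPrime p) x ∈
      Ideal.map (algebraMap A (Localization.AtPrime p)) I) :
    ∃ s : A, s ∉ p ∧ s * x ∈ I := by
  obtain ⟨⟨⟨i, hi⟩, ⟨s, hs⟩⟩, h⟩ :=
    (IsLocalization.mem_map_algebraMap_iff p.primeCompl (Localization.AtPrime p)).mp hx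
  refine ⟨s, hs, ?_⟩
  have hinj := IsLocalization.injective (Localization.AtPrime p) p.primeCompl_le_nonZeroDivisors
  have h' : algebraMap A (Localization.AtPrime p) x * algebraMap A (Localization.AtPrime p) s =
      algebraMap A (Localization.AtPrime p) i := h
  have : x * s = i := hinj (by rw [map_mul]; exact h')
  rw [mul_comm, this]
  exact hi

theorem main (A : Type u) [CommRing A] [IsDomain A] [IsNoetherianRing A] [IsIntegrallyClosed A]
    (z : A) (hz : (Ideal.span {z}).radical.IsPrime) :
    ∃ (w t : A) (r : ℕ), w ∉ (Ideal.span {z}).radical ∧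
      Ideal.span {algebraMap A (Localization.Away w) z} =
        Ideal.span {algebraMap A (Localization.Away w) t ^ r} ∧
      (Ideal.span {algebraMap A (Localization.Away w) t}).IsPrime := by
  classical
  by_cases hz0 : z = 0
  · subst hz0
    refine ⟨1, 0, 1, ?_, ?_, ?_⟩
    · intro h
      have h0 : (Ideal.span {(0 : A)}).radical = ⊥ := by
        rw [Ideal.span_singleton_eq_bot.mpr rfl]
        exact Ideal.radical_bot_of_isReduced
      rw [h0] at h
      exact one_ne_zero (Ideal.mem_bot.mp h)
    · rw [map_zero, pow_one]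
    · rw [map_zero, Ideal.span_singleton_eq_bot.mpr rfl]
      haveI : IsDomain (Localization.Away (1 : A)) :=
        IsLocalization.isDomain_localization (M := Submonoid.powers (1 : A))
          (powers_le_nonZeroDivisors_of_noZeroDivisors one_ne_zero)
      exact Ideal.isPrime_bot
  · set p := (Ideal.span {z}).radical with hp
    haveI := hz
    have hzp : z ∈ p := Ideal.le_radical (Ideal.mem_span_singleton_self z)
    have hmin : p ∈ (Ideal.span {z}).minimalPrimes :=
      ⟨⟨hz, Ideal.le_radical⟩, fun y hy _ => (hy.1.radical_le_iff).mpr hy.2⟩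
    have hht : p.height ≤ 1 := Ideal.height_le_one_of_isPrincipal_of_mem_minimalPrimes _ p hmin
    have hinj : Function.Injective (algebraMap A (Localization.AtPrime p)) :=
      IsLocalization.injective (Localization.AtPrime p) p.primeCompl_le_nonZeroDivisors
    have hmmap : Ideal.map (algebraMap A (Localization.AtPrime p)) p =
        IsLocalRing.maximalIdeal (Localization.AtPrime p) :=
      IsLocalization.AtPrime.map_eq_maximalIdeal p (Localization.AtPrime p)
    have hzm : algebraMap A (Localization.AtPrime p) z ∈
        IsLocalRing.maximalIdeal (Localization.AtPrime p) := by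
      rw [← hmmap]; exact Ideal.mem_map_of_mem _ hzp
    have hz1 : algebraMap A (Localization.AtPrime p) z ≠ 0 :=
      fun h => hz0 (hinj (by rw [h, map_zero]))
    have hm_ne : IsLocalRing.maximalIdeal (Localization.AtPrime p) ≠ ⊥ := fun h =>
      hz1 (by rw [h] at hzm; exact Ideal.mem_bot.mp hzm)
    have hnf : ¬ IsField (Localization.AtPrime p) :=
      fun h => hm_ne (IsLocalRing.isField_iff_maximalIdeal_eq.mp h)
    have hdim : Ring.KrullDimLE 1 (Localization.AtPrime p) := Ring.krullDimLE_iff.mpr (by
      rw [IsLocalization.AtPrime.ringKrullDim_eq_height p (Localization.AtPrime p)]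
      exact_mod_cast hht)
    have hmax : ∀ I : Ideal (Localization.AtPrime p), I ≠ ⊥ → I.IsPrime → I.IsMaximal :=
      Ring.krullDimLE_one_iff_of_isPrime_bot.mp hdim
    haveI : IsIntegrallyClosed (Localization.AtPrime p) :=
      isIntegrallyClosed_of_isLocalization (Localization.AtPrime p) p.primeCompl
        p.primeCompl_le_nonZeroDivisors
    have h4 : IsIntegrallyClosed (Localization.AtPrime p) ∧
        ∃! P : Ideal (Localization.AtPrime p), P ≠ ⊥ ∧ P.IsPrime :=
      ⟨inferInstance, IsLocalRing.maximalIdeal (Localization.AtPrime p), ⟨hm_ne, inferInstance⟩,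
          fun P hP => IsLocalRing.eq_maximalIdeal (hmax P hP.1 hP.2)⟩
    haveI : IsDiscreteValuationRing (Localization.AtPrime p) :=
      ((IsDiscreteValuationRing.TFAE (Localization.AtPrime p) hnf).out 3 0).mp h4
    obtain ⟨π, hπ⟩ := IsDiscreteValuationRing.exists_irreducible (Localization.AtPrime p)
    have hπm : IsLocalRing.maximalIdeal (Localization.AtPrime p) = Ideal.span {π} :=
      (IsDiscreteValuationRing.irreducible_iff_uniformizer π).mp hπ
    obtain ⟨t, s, hts⟩ := IsLocalization.exists_mk'_eq p.primeCompl π
    have hsu : IsUnit (algebraMap A (Localization.AtPrime p) (s : A)) :=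
      IsLocalization.map_units (Localization.AtPrime p) s
    have htπ : algebraMap A (Localization.AtPrime p) t =
        π * algebraMap A (Localization.AtPrime p) (s : A) := by
      rw [← hts]; exact (IsLocalization.mk'_spec (Localization.AtPrime p) t s).symm
    have htm : IsLocalRing.maximalIdeal (Localization.AtPrime p) =
        Ideal.span {algebraMap A (Localization.AtPrime p) t} := by
      rw [htπ, Ideal.span_singleton_mul_right_unit hsu]; exact hπm
    have htirr : Irreducible (algebraMap A (Localization.AtPrime p) t) :=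
      (IsDiscreteValuationRing.irreducible_iff_uniformizer _).mpr htm
    have htp : t ∈ p := (IsLocalization.AtPrime.to_map_mem_maximal_iff (Localization.AtPrime p) p t).mp
      (by rw [htm]; exact Ideal.mem_span_singleton_self _)
    obtain ⟨r, hr⟩ := IsDiscreteValuationRing.ideal_eq_span_pow_irreducible
      (s := Ideal.span {algebraMap A (Localization.AtPrime p) z})
      (by rwa [Ne, Ideal.span_singleton_eq_bot]) htirr
    have h1 : ∃ s1 : A, s1 ∉ p ∧ s1 * z ∈ Ideal.span {t ^ r} := by
      apply exists_mul_mem_of_mem_map p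
      rw [Ideal.map_span, Set.image_singleton, map_pow, ← hr]
      exact Ideal.mem_span_singleton_self _
    have h2 : ∃ s2 : A, s2 ∉ p ∧ s2 * t ^ r ∈ Ideal.span {z} := by
      apply exists_mul_mem_of_mem_map p
      rw [Ideal.map_span, Set.image_singleton, map_pow, hr]
      exact Ideal.mem_span_singleton_self _
    have h3 : ∀ x ∈ p, ∃ s : A, s ∉ p ∧ s * x ∈ Ideal.span {t} := by
      intro x hx
      apply exists_mul_mem_of_mem_map p
      rw [Ideal.map_span, Set.image_singleton, ← htm, ← hmmap]
      exact Ideal.mem_map_of_mem _ hx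
    obtain ⟨s1, hs1, hs1z⟩ := h1
    obtain ⟨s2, hs2, hs2t⟩ := h2
    choose! σ hσ using h3
    obtain ⟨S, hS⟩ := IsNoetherian.noetherian p
    have hS' : Ideal.span (S : Set A) = p := hS
    have hSp : ∀ x ∈ S, x ∈ p := fun x hx => by rw [← hS']; exact Ideal.subset_span hx
    have hw0 : (∏ x ∈ S, σ x) ∉ p := by
      intro h
      obtain ⟨x, hxS, hx⟩ := (hz.prod_mem_iff).mp h
      exact (hσ x (hSp x hxS)).1 hx
    have hw : s1 * s2 * (∏ x ∈ S, σ x) ∉ p := by
      intro h
      rcases hz.mem_or_mem h with h | h
      · rcases hz.mem_or_mem h with h | h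
        · exact hs1 h
        · exact hs2 h
      · exact hw0 h
    have hwu : IsUnit (algebraMap A (Localization.Away (s1 * s2 * (∏ x ∈ S, σ x)))
        (s1 * s2 * (∏ x ∈ S, σ x))) := IsLocalization.Away.algebraMap_isUnit _
    have hunit : ∀ s : A, s ∣ s1 * s2 * (∏ x ∈ S, σ x) →
        IsUnit (algebraMap A (Localization.Away (s1 * s2 * (∏ x ∈ S, σ x))) s) :=
      fun s hs => isUnit_of_dvd_unit ((algebraMap A _).map_dvd hs) hwu
    refine ⟨s1 * s2 * (∏ x ∈ S, σ x), t, r, hw, ?_, ?_⟩
    · apply le_antisymm
      · rw [Ideal.span_singleton_le_span_singleton]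
        obtain ⟨b, hb⟩ := Ideal.mem_span_singleton.mp hs1z
        have hu1 := hunit s1 (Dvd.intro (s2 * (∏ x ∈ S, σ x)) (by ring))
        have : algebraMap A (Localization.Away (s1 * s2 * (∏ x ∈ S, σ x))) t ^ r ∣
            algebraMap A (Localization.Away (s1 * s2 * (∏ x ∈ S, σ x))) s1 *
              algebraMap A (Localization.Away (s1 * s2 * (∏ x ∈ S, σ x))) z := by
          rw [← map_mul, hb, map_mul, map_pow]; exact dvd_mul_right _ _
        exact (hu1.dvd_mul_left).mp this
      · rw [Ideal.span_singleton_le_span_singleton]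
        obtain ⟨c, hc⟩ := Ideal.mem_span_singleton.mp hs2t
        have hu2 := hunit s2 (Dvd.intro (s1 * (∏ x ∈ S, σ x)) (by ring))
        have : algebraMap A (Localization.Away (s1 * s2 * (∏ x ∈ S, σ x))) z ∣
            algebraMap A (Localization.Away (s1 * s2 * (∏ x ∈ S, σ x))) s2 *
              algebraMap A (Localization.Away (s1 * s2 * (∏ x ∈ S, σ x))) t ^ r := by
          rw [← map_pow, ← map_mul, hc, map_mul]; exact dvd_mul_right _ _
        exact (hu2.dvd_mul_left).mp this
    · have hmapp : Ideal.span {algebraMap A (Localization.Away (s1 * s2 * (∏ x ∈ S, σ x))) t} =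
          Ideal.map (algebraMap A (Localization.Away (s1 * s2 * (∏ x ∈ S, σ x)))) p := by
        apply le_antisymm
        · rw [Ideal.span_singleton_le_iff_mem]; exact Ideal.mem_map_of_mem _ htp
        · rw [← hS', Ideal.map_span, Ideal.span_le]
          rintro _ ⟨x, hxS, rfl⟩
          have hx := hσ x (hSp x hxS)
          obtain ⟨y, hy⟩ := Ideal.mem_span_singleton.mp hx.2
          have hux := hunit (σ x)
            ((Finset.dvd_prod_of_mem σ hxS).trans (Dvd.intro_left (s1 * s2) rfl))
          have : algebraMap A (Localization.Away (s1 * s2 * (∏ x ∈ S, σ x))) t ∣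
              algebraMap A (Localization.Away (s1 * s2 * (∏ x ∈ S, σ x))) (σ x) *
                algebraMap A (Localization.Away (s1 * s2 * (∏ x ∈ S, σ x))) x := by
            rw [← map_mul, hy, map_mul]; exact dvd_mul_right _ _
          exact Ideal.mem_span_singleton.mpr ((hux.dvd_mul_left).mp this)
      rw [hmapp]
      exact IsLocalization.isPrime_of_isPrime_disjoint
        (Submonoid.powers (s1 * s2 * (∏ x ∈ S, σ x))) _ p hz (by
          rw [Set.disjoint_left]
          rintro _ ⟨n, rfl⟩ h
          exact hw (hz.mem_of_pow_mem n h))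

end LVCorr9
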