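import Groth.Agent.Lib.LabGraph_helper3

set_option autoImplicit false
set_option linter.unusedSectionVars false
universe u

namespace Groth.Agent.Lib.LabGraph2_helper3

open LabGraph Groth.Agent.Lib.LabGraph_helper3

variable {V E : Type u} [Fintype V] [Fintype E] [DecidableEq V] [DecidableEq E]

/-- the edge difference `x_e(φ) = φ(e.1) - φ(e.2)`. -/
def xd (ends : E → V × V) (φ : V → ℤ) (e : E) : ℤ := φ (ends e).1 - φ (ends e).2

lemma xd_add (ends : E → V × V) (φ ψ : V → ℤ) (e : E) :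
    xd ends (φ + ψ) e = xd ends φ e + xd ends ψ e := by
  unfold xd; simp only [Pi.add_apply]; ring

lemma xd_chi (ends : E → V × V) (Y : Finset V) (e : E) :
    xd ends (fun v => chi Y v) e = delta ends Y e := rfl

lemma sum_twist' (ends : E → V × V) (φ : V → ℤ) (Y : Finset V) :
    ∑ v ∈ Y, twist ends φ v = - ∑ e : E, delta ends Y e * xd ends φ e := sum_twist ends φ Y

lemma sum_twist_univ (ends : E → V × V) (φ : V → ℤ) : ∑ v : V, twist ends φ v = 0 := by
  rw [sum_twist]; simp [delta_univ]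

/-- pairing with a boundary. -/
lemma sum_mul_boundary (ends : E → V × V) (a : E → ℤ) (φ : V → ℤ) :
    ∑ v : V, φ v * boundary ends a v = - ∑ e : E, a e * xd ends φ e := by
  unfold boundary xd
  simp only [Finset.mul_sum]
  rw [Finset.sum_comm, ← Finset.sum_neg_distrib]
  refine Finset.sum_congr rfl fun e _ => ?_
  simp only [mul_sub, Finset.sum_sub_distrib, mul_ite, mul_zero, Finset.sum_ite_eq, Finset.mem_univ,
    if_true]
  ring

/-- boundaries form an additive subgroup. -/
def bdryHom (ends : E → V × V) : (E → ℤ) →+ (V → ℤ) where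
  toFun a := boundary ends a
  map_zero' := by ext v; simp [boundary]
  map_add' a b := by
    ext v
    simp only [boundary, Pi.add_apply]
    rw [← Finset.sum_add_distrib]
    refine Finset.sum_congr rfl fun e _ => ?_
    split_ifs <;> ring

lemma single_sub_mem_range (ends : E → V × V) (v₀ v : V)
    (h : Relation.ReflTransGen (Adj ends) v₀ v) :
    (Pi.single v 1 - Pi.single v₀ 1 : V → ℤ) ∈ (bdryHom ends).range := by
  induction h with
  | refl => rw [sub_self]; exact zero_mem _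
  | @tail u v _ hadj ih =>
    have key : (Pi.single v 1 - Pi.single u 1 : V → ℤ) ∈ (bdryHom ends).range := by
      obtain ⟨e, he | he⟩ := hadj
      · refine ⟨Pi.single e 1, ?_⟩
        ext x
        simp only [bdryHom, AddMonoidHom.coe_mk, ZeroHom.coe_mk, boundary, Pi.sub_apply]
        rw [Finset.sum_eq_single e]
        · simp [he, Pi.single_apply, eq_comm]
        · intro b _ hb; simp [hb]
        · intro h; exact absurd (Finset.mem_univ e) h
      · refine ⟨- Pi.single e 1, ?_⟩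
        ext x
        simp only [bdryHom, AddMonoidHom.coe_mk, ZeroHom.coe_mk, boundary, Pi.sub_apply]
        rw [Finset.sum_eq_single e]
        · simp [he, Pi.single_apply, eq_comm]
          split_ifs <;> ring
        · intro b _ hb; simp [hb]
        · intro h; exact absurd (Finset.mem_univ e) h
    have : (Pi.single v 1 - Pi.single v₀ 1 : V → ℤ) =
        (Pi.single v 1 - Pi.single u 1) + (Pi.single u 1 - Pi.single v₀ 1) := by abel
    rw [this]
    exact add_mem key ih

/-- In a connected graph every degree zero divisor is a boundary. -/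
lemma exists_boundary_eq (ends : E → V × V) (hc : Connected ends) (δ : V → ℤ)
    (hδ : ∑ v : V, δ v = 0) : ∃ a : E → ℤ, ∀ v, δ v = boundary ends a v := by
  obtain ⟨⟨v₀⟩, hconn⟩ := hc
  have h1 : δ = ∑ v : V, δ v • (Pi.single v 1 - Pi.single v₀ 1 : V → ℤ) := by
    ext x
    simp only [Finset.sum_apply, Pi.smul_apply, Pi.sub_apply, smul_eq_mul, mul_sub,
      Finset.sum_sub_distrib, Pi.single_apply, mul_ite, mul_one, mul_zero, Finset.sum_ite_eq,
      Finset.mem_univ, if_true]
    by_cases hx : x = v₀ <;> simp [hx, hδ]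
  have h2 : δ ∈ (bdryHom ends).range := by
    rw [h1]
    exact sum_mem fun v _ => zsmul_mem (single_sub_mem_range ends v₀ v (hconn v₀ v)) _
  obtain ⟨a, ha⟩ := h2
  exact ⟨a, fun v => by rw [← ha]; rfl⟩

/-- the energy functional. -/
def Jf (ends : E → V × V) (K : ℤ) (δ : V → ℤ) (φ : V → ℤ) : ℤ :=
  K * ∑ e : E, (xd ends φ e) ^ 2 - 2 * ∑ v : V, φ v * δ v

lemma Jf_add (ends : E → V × V) (K : ℤ) (δ : V → ℤ) (φ ψ : V → ℤ) :
    Jf ends K δ (φ + ψ) = Jf ends K δ φ + 2 * K * ∑ e : E, xd ends φ e * xd ends ψ e +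
      K * ∑ e : E, (xd ends ψ e) ^ 2 - 2 * ∑ v : V, ψ v * δ v := by
  unfold Jf
  have h1 : ∑ e : E, (xd ends (φ + ψ) e) ^ 2 = ∑ e : E, (xd ends φ e) ^ 2 +
      2 * ∑ e : E, xd ends φ e * xd ends ψ e + ∑ e : E, (xd ends ψ e) ^ 2 := by
    rw [Finset.mul_sum, ← Finset.sum_add_distrib, ← Finset.sum_add_distrib]
    exact Finset.sum_congr rfl fun e _ => by rw [xd_add]; ring
  have h2 : ∑ v : V, (φ + ψ) v * δ v = ∑ v : V, φ v * δ v + ∑ v : V, ψ v * δ v := by
    rw [← Finset.sum_add_distrib]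
    exact Finset.sum_congr rfl fun v _ => by simp only [Pi.add_apply]; ring
  rw [h1, h2]; ring

lemma Jf_lower (ends : E → V × V) (K : ℤ) (hK : 1 ≤ K) (a : E → ℤ) (φ : V → ℤ) :
    - ∑ e : E, (a e) ^ 2 ≤ Jf ends K (fun v => boundary ends a v) φ := by
  unfold Jf
  rw [sum_mul_boundary, Finset.mul_sum, ← Finset.sum_neg_distrib, mul_neg, Finset.mul_sum,
    sub_neg_eq_add, ← Finset.sum_add_distrib]
  refine Finset.sum_le_sum fun e _ => ?_
  nlinarith [sq_nonneg (xd ends φ e + a e), sq_nonneg (xd ends φ e)]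

/-- existence of a minimizer. -/
lemma exists_min_Jf (ends : E → V × V) (hc : Connected ends) (K : ℤ) (hK : 1 ≤ K) (δ : V → ℤ)
    (hδ : ∑ v : V, δ v = 0) : ∃ φ₀ : V → ℤ, ∀ φ : V → ℤ, Jf ends K δ φ₀ ≤ Jf ends K δ φ := by
  obtain ⟨a, ha⟩ := exists_boundary_eq ends hc δ hδ
  have hδ' : δ = fun v => boundary ends a v := funext ha
  obtain ⟨lb, ⟨φ₀, hφ₀⟩, hlb⟩ := Int.exists_least_of_bdd (P := fun z => ∃ φ, Jf ends K δ φ = z)
    ⟨- ∑ e : E, (a e) ^ 2, fun z ⟨φ, hφ⟩ => by rw [← hφ, hδ']; exact Jf_lower ends K hK a φ⟩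
    ⟨_, 0, rfl⟩
  exact ⟨φ₀, fun φ => by rw [hφ₀]; exact hlb _ ⟨φ, rfl⟩⟩

/-- The optimality condition of the minimizer. -/
lemma min_Jf_cond (ends : E → V × V) (K : ℤ) (δ : V → ℤ) (φ₀ : V → ℤ)
    (hmin : ∀ φ : V → ℤ, Jf ends K δ φ₀ ≤ Jf ends K δ φ) (Y : Finset V) :
    2 * |∑ v ∈ Y, δ v + K * ∑ v ∈ Y, twist ends φ₀ v| ≤ (cut ends Y : ℤ) * K := by
  have hsumchi : ∑ v : V, chi Y v * δ v = ∑ v ∈ Y, δ v := by
    unfold chi
    simp only [ite_mul, one_mul, zero_mul]
    rw [Finset.sum_ite_mem, Finset.univ_inter]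
  have hplus := hmin (φ₀ + fun v => chi Y v)
  have hminus := hmin (φ₀ + fun v => - chi Y v)
  rw [Jf_add] at hplus hminus
  have hxneg : ∀ e, xd ends (fun v => - chi Y v) e = - delta ends Y e := by
    intro e; unfold xd delta; ring
  simp only [xd_chi, hxneg] at hplus hminus
  have hsq : ∑ e : E, (delta ends Y e) ^ 2 = Bf ends Y Y := by
    unfold Bf; exact Finset.sum_congr rfl fun e _ => by ring
  have hsq' : ∑ e : E, (- delta ends Y e) ^ 2 = Bf ends Y Y := by
    unfold Bf; exact Finset.sum_congr rfl fun e _ => by ring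
  have hcross : ∑ e : E, xd ends φ₀ e * delta ends Y e = - ∑ v ∈ Y, twist ends φ₀ v := by
    rw [sum_twist', neg_neg]; exact Finset.sum_congr rfl fun e _ => by ring
  have hcross' : ∑ e : E, xd ends φ₀ e * - delta ends Y e = ∑ v ∈ Y, twist ends φ₀ v := by
    rw [sum_twist', ← Finset.sum_neg_distrib]; exact Finset.sum_congr rfl fun e _ => by ring
  have hneg : ∑ v : V, - chi Y v * δ v = - ∑ v ∈ Y, δ v := by
    rw [← hsumchi, ← Finset.sum_neg_distrib]; exact Finset.sum_congr rfl fun v _ => by ring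
  rw [hsq, hcross, hsumchi] at hplus
  rw [hsq', hcross', hneg] at hminus
  rw [cut_eq_Bf, ← abs_two, ← abs_mul, abs_le]
  constructor <;> nlinarith

end Groth.Agent.Lib.LabGraph2_helper3
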