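import Groth.Prelude.Def_W4c1nerontoraddGraph
import Groth.Prelude.Def_W4c4cptpiccptjacBI
import Mathlib.Tactic

set_option autoImplicit false
set_option linter.unusedSectionVars false
universe u

namespace Groth.Agent.Lib.LabGraph_helper3

open LabGraph

variable {V E : Type u} [Fintype V] [Fintype E] [DecidableEq V] [DecidableEq E]

/-- indicator of a finset as an integer. -/
def chi (Y : Finset V) (v : V) : ℤ := if v ∈ Y then 1 else 0

/-- `δ_e(Y) = χ_Y(e.1) - χ_Y(e.2)`. -/
def delta (ends : E → V × V) (Y : Finset V) (e : E) : ℤ := chi Y (ends e).1 - chi Y (ends e).2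

/-- the bilinear form `B(S,T) = Σ_e δ_e(S) δ_e(T)`. -/
def Bf (ends : E → V × V) (S T : Finset V) : ℤ := ∑ e : E, delta ends S e * delta ends T e

lemma Bf_comm (ends : E → V × V) (S T : Finset V) : Bf ends S T = Bf ends T S := by
  unfold Bf; exact Finset.sum_congr rfl fun e _ => mul_comm _ _

lemma chi_union {A B : Finset V} (h : Disjoint A B) (v : V) : chi (A ∪ B) v = chi A v + chi B v := by
  unfold chi
  by_cases hA : v ∈ A
  · have hB : v ∉ B := Finset.disjoint_left.mp h hA
    simp [hA, hB]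
  · by_cases hB : v ∈ B <;> simp [hA, hB]

lemma chi_sdiff {A Z : Finset V} (h : A ⊆ Z) (v : V) : chi (Z \ A) v = chi Z v - chi A v := by
  unfold chi
  by_cases hA : v ∈ A
  · have hZ : v ∈ Z := h hA
    simp [hA, hZ]
  · by_cases hZ : v ∈ Z <;> simp [hA, hZ]

lemma delta_union (ends : E → V × V) {A B : Finset V} (h : Disjoint A B) (e : E) :
    delta ends (A ∪ B) e = delta ends A e + delta ends B e := by
  unfold delta; rw [chi_union h, chi_union h]; ring

lemma delta_sdiff (ends : E → V × V) {A Z : Finset V} (h : A ⊆ Z) (e : E) :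
    delta ends (Z \ A) e = delta ends Z e - delta ends A e := by
  unfold delta; rw [chi_sdiff h, chi_sdiff h]; ring

lemma Bf_union_left (ends : E → V × V) {A B : Finset V} (h : Disjoint A B) (T : Finset V) :
    Bf ends (A ∪ B) T = Bf ends A T + Bf ends B T := by
  unfold Bf
  rw [← Finset.sum_add_distrib]
  exact Finset.sum_congr rfl fun e _ => by rw [delta_union ends h]; ring

lemma Bf_sdiff_left (ends : E → V × V) {A Z : Finset V} (h : A ⊆ Z) (T : Finset V) :
    Bf ends (Z \ A) T = Bf ends Z T - Bf ends A T := by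
  unfold Bf
  rw [← Finset.sum_sub_distrib]
  exact Finset.sum_congr rfl fun e _ => by rw [delta_sdiff ends h]; ring

lemma Bf_union_right (ends : E → V × V) {A B : Finset V} (h : Disjoint A B) (T : Finset V) :
    Bf ends T (A ∪ B) = Bf ends T A + Bf ends T B := by
  rw [Bf_comm, Bf_union_left ends h, Bf_comm ends A, Bf_comm ends B]

lemma Bf_sdiff_right (ends : E → V × V) {A Z : Finset V} (h : A ⊆ Z) (T : Finset V) :
    Bf ends T (Z \ A) = Bf ends T Z - Bf ends T A := by
  rw [Bf_comm, Bf_sdiff_left ends h, Bf_comm ends Z, Bf_comm ends A]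

/-- `cut Y = B(Y,Y)`. -/
lemma cut_eq_Bf (ends : E → V × V) (Y : Finset V) : (cut ends Y : ℤ) = Bf ends Y Y := by
  unfold cut Bf delta chi
  rw [Finset.card_filter]
  push_cast
  refine Finset.sum_congr rfl fun e _ => ?_
  by_cases h1 : (ends e).1 ∈ Y <;> by_cases h2 : (ends e).2 ∈ Y <;> simp [h1, h2]

/-- sign: for `A ⊆ S`, `δ_e(A) δ_e(S) ≥ 0`. -/
lemma Bf_nonneg_of_subset (ends : E → V × V) {A S : Finset V} (h : A ⊆ S) : 0 ≤ Bf ends A S := by
  unfold Bf
  refine Finset.sum_nonneg fun e _ => ?_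
  unfold delta chi
  by_cases h1 : (ends e).1 ∈ A <;> by_cases h2 : (ends e).2 ∈ A <;>
    by_cases h3 : (ends e).1 ∈ S <;> by_cases h4 : (ends e).2 ∈ S <;>
    simp [h1, h2, h3, h4] <;> first | exact absurd (h h1) h3 | exact absurd (h h2) h4

/-- sign: for disjoint `S`, `T`, `δ_e(S) δ_e(T) ≤ 0`. -/
lemma Bf_nonpos_of_disjoint (ends : E → V × V) {S T : Finset V} (h : Disjoint S T) : Bf ends S T ≤ 0 := by
  unfold Bf
  refine Finset.sum_nonpos fun e _ => ?_
  unfold delta chi
  by_cases h1 : (ends e).1 ∈ S <;> by_cases h2 : (ends e).2 ∈ S <;>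
    by_cases h3 : (ends e).1 ∈ T <;> by_cases h4 : (ends e).2 ∈ T <;>
    simp [h1, h2, h3, h4] <;>
    first | exact absurd h3 (Finset.disjoint_left.mp h h1) | exact absurd h4 (Finset.disjoint_left.mp h h2)

/-- sum of a twist over a vertex set. -/
lemma sum_twist (ends : E → V × V) (φ : V → ℤ) (Y : Finset V) :
    ∑ v ∈ Y, twist ends φ v = - ∑ e : E, delta ends Y e * (φ (ends e).1 - φ (ends e).2) := by
  unfold twist
  rw [Finset.sum_comm, ← Finset.sum_neg_distrib]
  refine Finset.sum_congr rfl fun e _ => ?_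
  rw [Finset.sum_add_distrib]
  have h1 : ∑ v ∈ Y, (if (ends e).1 = v then φ (ends e).2 - φ (ends e).1 else 0) =
      chi Y (ends e).1 * (φ (ends e).2 - φ (ends e).1) := by
    rw [Finset.sum_ite_eq]; unfold chi; split_ifs <;> simp
  have h2 : ∑ v ∈ Y, (if (ends e).2 = v then φ (ends e).1 - φ (ends e).2 else 0) =
      chi Y (ends e).2 * (φ (ends e).1 - φ (ends e).2) := by
    rw [Finset.sum_ite_eq]; unfold chi; split_ifs <;> simp
  rw [h1, h2]; unfold delta; ring

/-- sum over `Y` of the twist of the indicator of `Z` is `-B(Y,Z)`. -/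
lemma sum_twist_chi (ends : E → V × V) (Z Y : Finset V) :
    ∑ v ∈ Y, twist ends (fun u => if u ∈ Z then 1 else 0) v = - Bf ends Y Z := by
  rw [sum_twist]; rfl

lemma delta_univ (ends : E → V × V) (e : E) : delta ends (Finset.univ : Finset V) e = 0 := by
  unfold delta chi; simp

lemma Bf_univ_left (ends : E → V × V) (T : Finset V) : Bf ends Finset.univ T = 0 := by
  unfold Bf; simp [delta_univ]

/-- `canDeg univ = 2 genus - 2`. -/
lemma canDeg_univ (ends : E → V × V) (w : V → ℕ) :
    canDeg ends w Finset.univ = 2 * genus ends w - 2 := by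
  unfold canDeg genus
  have h : ∑ v : V, (endCount ends Finset.univ v : ℤ) = 2 * (Fintype.card E : ℤ) := by
    unfold endCount
    push_cast
    rw [Finset.sum_comm]
    have : ∀ e : E, ∑ v : V, (((if (ends e).1 = v then 1 else 0) : ℤ) + (if (ends e).2 = v then 1 else 0)) = 2 := by
      intro e
      rw [Finset.sum_add_distrib, Finset.sum_ite_eq, Finset.sum_ite_eq]
      simp
    rw [Finset.sum_congr rfl fun e _ => this e]
    simp [mul_comm]
  rw [Finset.sum_add_distrib, Finset.sum_sub_distrib, h, ← Finset.mul_sum]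
  simp
  ring

end Groth.Agent.Lib.LabGraph_helper3
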