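import Mathlib
import Groth.Prelude

set_option autoImplicit false
set_option linter.style.haveILetI false

universe u

open Finset

namespace Groth.Agent.Lib.LamDivH4

theorem nat_ineq (q : ℕ) : ∀ (e m j : ℕ), j + e = m + 1 →
    (q + 1) ^ (m + 1) ≤ (q + 1) ^ j + (q + 1) ^ m * q * e := by
  intro e
  induction e with
  | zero =>
    intro m j h
    have hj : j = m + 1 := by omega
    subst hj
    exact Nat.le_add_right _ _
  | succ e ih =>
    intro m j h
    cases m with
    | zero =>
      have hj : j = 0 := by omega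
      have he : e = 0 := by omega
      subst hj he
      simp
    | succ m' =>
      have IH := ih m' j (by omega)
      have h1 : (q + 1) ^ (m' + 1) = (q + 1) ^ m' * (q + 1) := pow_succ _ _
      have h2 : (q + 1) ^ (m' + 1 + 1) = (q + 1) ^ m' * (q + 1) * (q + 1) := by
        rw [pow_succ, pow_succ]
      rw [h2, h1]
      rw [h1] at IH
      generalize (q + 1) ^ m' = a at *
      generalize (q + 1) ^ j = P at *
      nlinarith [IH, Nat.zero_le (e * a * q * q)]

theorem nat_ineq' (p : ℕ) (hp : 1 ≤ p) (e m j : ℕ) (h : j + e = m + 1) :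
    p ^ (m + 1) ≤ p ^ j + p ^ m * (p - 1) * e := by
  obtain ⟨q, rfl⟩ : ∃ q, p = q + 1 := ⟨p - 1, by omega⟩
  simpa using nat_ineq q e m j h

theorem lam_dvd_choose {R : Type*} [CommRing R] (p n : ℕ) (hp : p.Prime) (lam : R)
    (hstar : lam ^ (p ^ n * (p - 1)) ∣ (p : R)) (k : ℕ) (hk0 : k ≠ 0) (hk : k ≤ p ^ (n + 1)) :
    lam ^ (p ^ (n + 1) - k) ∣ ((Nat.choose (p ^ (n + 1)) k : ℕ) : R) := by
  have hej := Nat.factorization_choose_prime_pow_add_factorization hp hk hk0
  have hpj : p ^ (k.factorization p) ∣ k := Nat.ordProj_dvd k p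
  have hjk : p ^ (k.factorization p) ≤ k := Nat.le_of_dvd (Nat.pos_of_ne_zero hk0) hpj
  have hpe : p ^ ((Nat.choose (p ^ (n + 1)) k).factorization p) ∣ Nat.choose (p ^ (n + 1)) k :=
    Nat.ordProj_dvd _ p
  have h1 : (p : R) ^ ((Nat.choose (p ^ (n + 1)) k).factorization p) ∣
      ((Nat.choose (p ^ (n + 1)) k : ℕ) : R) := by
    have := Nat.cast_dvd_cast (α := R) hpe
    simpa [Nat.cast_pow] using this
  have h2 : (lam ^ (p ^ n * (p - 1))) ^ ((Nat.choose (p ^ (n + 1)) k).factorization p) ∣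
      (p : R) ^ ((Nat.choose (p ^ (n + 1)) k).factorization p) :=
    pow_dvd_pow_of_dvd hstar _
  have h4 := nat_ineq' p hp.one_le ((Nat.choose (p ^ (n + 1)) k).factorization p) n
    (k.factorization p) (by omega)
  have h3 : lam ^ (p ^ (n + 1) - k) ∣
      (lam ^ (p ^ n * (p - 1))) ^ ((Nat.choose (p ^ (n + 1)) k).factorization p) := by
    rw [← pow_mul]
    apply pow_dvd_pow
    rw [Nat.sub_le_iff_le_add]
    calc p ^ (n + 1) ≤ p ^ (k.factorization p) +
          p ^ n * (p - 1) * (Nat.choose (p ^ (n + 1)) k).factorization p := h4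
      _ ≤ k + p ^ n * (p - 1) * (Nat.choose (p ^ (n + 1)) k).factorization p :=
          Nat.add_le_add_right hjk _
      _ = p ^ n * (p - 1) * (Nat.choose (p ^ (n + 1)) k).factorization p + k := Nat.add_comm _ _
  exact (h3.trans h2).trans h1

/-- abstract core: `L ≠ 0` in an integrally closed domain, `N ≥ 1`, with `L^(N-k) ∣ C(N,k)`. -/
theorem core (A : Type u) [CommRing A] [IsDomain A] [IsIntegrallyClosed A] (L : A) (hL : L ≠ 0)
    (N : ℕ) (hN : 1 ≤ N)
    (D : ∀ k : ℕ, k ≠ 0 → k ≤ N → L ^ (N - k) ∣ ((N.choose k : ℕ) : A)) (x : A) :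
    (L ^ N ∣ x ^ N - 1) ↔ (L ∣ x - 1) := by
  constructor
  · rintro ⟨a, ha⟩
    let K := FractionRing A
    let ι : A →+* K := algebraMap A K
    have hinj : Function.Injective ι := IsFractionRing.injective A K
    have hne : ι L ≠ 0 := fun h => hL (hinj (h.trans (map_zero ι).symm))
    have hc : ∀ k : ℕ, ∃ c : A, k ≠ 0 → k ≤ N → ((N.choose k : ℕ) : A) = L ^ (N - k) * c := by
      intro k
      by_cases h : k ≠ 0 ∧ k ≤ N
      · obtain ⟨c, hc⟩ := D k h.1 h.2
        exact ⟨c, fun _ _ => hc⟩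
      · exact ⟨0, fun h1 h2 => absurd ⟨h1, h2⟩ h⟩
    choose c hc using hc
    have hcN : c N = 1 := by
      have := hc N (by omega) le_rfl
      simpa using this.symm
    let g : ℕ → A := fun i => if i = 0 then -a else c i
    have hg0 : g 0 = -a := if_pos rfl
    have hgs : ∀ m : ℕ, g (m + 1) = c (m + 1) := fun m => if_neg (Nat.succ_ne_zero m)
    have hgN : g N = 1 := by
      have : N ≠ 0 := by omega
      show (if N = 0 then -a else c N) = 1
      rw [if_neg this, hcN]
    let y : K := ι (x - 1) * (ι L)⁻¹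
    have hLy : ι L * y = ι (x - 1) := by
      show ι L * (ι (x - 1) * (ι L)⁻¹) = ι (x - 1)
      rw [mul_comm, mul_assoc, inv_mul_cancel₀ hne, mul_one]
    have hx : ι L * y + 1 = ι x := by
      rw [hLy, map_sub, map_one]; ring
    have key : ι L ^ N * (∑ i ∈ range (N + 1), ι (g i) * y ^ i) = 0 := by
      rw [Finset.mul_sum, Finset.sum_range_succ']
      have e1 : ∀ m ∈ range N, ι L ^ N * (ι (g (m + 1)) * y ^ (m + 1)) =
          (ι L * y) ^ (m + 1) * 1 ^ (N - (m + 1)) * ((N.choose (m + 1) : ℕ) : K) := by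
        intro m hm
        have hm' : m + 1 ≤ N := by have := Finset.mem_range.mp hm; omega
        have hcm := hc (m + 1) (Nat.succ_ne_zero m) hm'
        have hcK : ((N.choose (m + 1) : ℕ) : K) = ι L ^ (N - (m + 1)) * ι (c (m + 1)) := by
          rw [← map_natCast ι (N.choose (m + 1)), hcm, map_mul, map_pow]
        have hpow : ι L ^ N = ι L ^ (m + 1) * ι L ^ (N - (m + 1)) := by
          rw [← pow_add]; congr 1; omega
        rw [hcK, hgs, hpow, mul_pow, one_pow]
        ring
      rw [Finset.sum_congr rfl e1]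
      have e2 : (ι L * y + 1) ^ N =
          ∑ m ∈ range N, (ι L * y) ^ (m + 1) * 1 ^ (N - (m + 1)) * ((N.choose (m + 1) : ℕ) : K)
            + 1 := by
        rw [add_pow, Finset.sum_range_succ']
        simp
      have e3 : ι x ^ N - 1 = ι L ^ N * ι a := by
        rw [← map_pow, ← map_pow, ← map_one ι, ← map_sub, ← map_mul, ha]
      have e4 : ∑ m ∈ range N, (ι L * y) ^ (m + 1) * 1 ^ (N - (m + 1)) *
          ((N.choose (m + 1) : ℕ) : K) = ι L ^ N * ι a := by
        rw [← e3, ← hx, e2]; ring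
      rw [e4, hg0, map_neg]
      ring
    have key2 : ∑ i ∈ range (N + 1), ι (g i) * y ^ i = 0 := by
      rcases mul_eq_zero.mp key with h | h
      · exact absurd h (pow_ne_zero N hne)
      · exact h
    have hint : IsIntegral A y := by
      refine ⟨Polynomial.X ^ N + ∑ i : Fin N, Polynomial.C (g i) * Polynomial.X ^ (i : ℕ),
        Polynomial.monic_X_pow_add (Polynomial.degree_sum_fin_lt _), ?_⟩
      rw [Polynomial.eval₂_add, Polynomial.eval₂_X_pow, Polynomial.eval₂_finset_sum]
      simp only [Polynomial.eval₂_mul, Polynomial.eval₂_C, Polynomial.eval₂_X_pow]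
      rw [Fin.sum_univ_eq_sum_range (fun i => (algebraMap A K) (g i) * y ^ i) N]
      rw [Finset.sum_range_succ, hgN, map_one, one_mul] at key2
      rw [add_comm]
      exact key2
    obtain ⟨y', hy'⟩ := IsIntegrallyClosed.algebraMap_eq_of_integral hint
    refine Dvd.intro y' ?_
    apply hinj
    rw [map_mul]
    show ι L * algebraMap A K y' = ι (x - 1)
    rw [hy']
    exact hLy
  · rintro ⟨y, hy⟩
    have hx : x = L * y + 1 := by rw [← hy]; ring
    have e2 : (L * y + 1) ^ N =
        ∑ m ∈ range N, (L * y) ^ (m + 1) * 1 ^ (N - (m + 1)) * ((N.choose (m + 1) : ℕ) : A)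
          + 1 := by
      rw [add_pow, Finset.sum_range_succ']
      simp
    rw [hx, e2, add_sub_cancel_right]
    apply Finset.dvd_sum
    intro m hm
    have hm' : m + 1 ≤ N := by have := Finset.mem_range.mp hm; omega
    obtain ⟨c, hc⟩ := D (m + 1) (Nat.succ_ne_zero m) hm'
    have hpow : L ^ N = L ^ (m + 1) * L ^ (N - (m + 1)) := by
      rw [← pow_add]; congr 1; omega
    refine ⟨y ^ (m + 1) * c, ?_⟩
    rw [hc, hpow, mul_pow, one_pow]
    ring

theorem main13158 (R : Type u) [CommRing R]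
    [IsDomain R] (p n : ℕ) [Fact p.Prime] (hn : 1 ≤ n)
    (lam : R) (hlam : lam ≠ 0)
    (hstar : lam ^ (p ^ (n - 1) * (p - 1)) ∣ (p : R))
    (A : Type u) [CommRing A] [IsDomain A] [IsIntegrallyClosed A] [Algebra R A]
    [Module.FaithfullyFlat R A]
    (x : Aˣ) :
    (algebraMap R A lam ^ p ^ n ∣ (x : A) ^ p ^ n - 1) ↔ (algebraMap R A lam ∣ (x : A) - 1) := by
  obtain ⟨n', rfl⟩ : ∃ n', n = n' + 1 := ⟨n - 1, by omega⟩
  simp only [Nat.add_sub_cancel] at hstar
  have hp : p.Prime := Fact.out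
  have hinj : Function.Injective (algebraMap R A) := FaithfulSMul.algebraMap_injective R A
  have hL : algebraMap R A lam ≠ 0 := fun h => hlam (hinj (h.trans (map_zero _).symm))
  have hstarA : (algebraMap R A lam) ^ (p ^ n' * (p - 1)) ∣ (p : A) := by
    have := map_dvd (algebraMap R A) hstar
    simpa [map_pow, map_natCast] using this
  exact core A (algebraMap R A lam) hL (p ^ (n' + 1)) (Nat.one_le_pow _ _ hp.pos)
    (fun k hk0 hk => lam_dvd_choose p n' hp (algebraMap R A lam) hstarA k hk0 hk) (x : A)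

end Groth.Agent.Lib.LamDivH4
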