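import Groth.Agent.Lib.LambdaRing_helper1
import Mathlib

/-!
# Adams operations and Newton's identities on pre-λ-rings (helper1)

APPEND-ONLY: do not change statements of landed lemmas.
-/

universe u

open PowerSeries Finset

namespace Groth.Agent.Lib.LambdaAdamsH1

open LambdaRing Groth.Agent.Lib.LambdaRingH1

section basic

variable {K : Type u} [CommRing K] [LambdaOps K]

theorem deriv_lamSeries (x : K) :
    PowerSeries.derivative K (lamSeries x) = logDerivSeries x * lamSeries x := by
  rw [logDerivSeries_eq, mul_assoc, lamSeries_neg_mul, mul_one]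

theorem neg_one_pow_mul_self (R : Type*) [CommRing R] (k : ℕ) : ((-1 : R) ^ k) * ((-1) ^ k) = 1 := by
  rw [← mul_pow]; simp

theorem coeff_logDerivSeries (x : K) (k : ℕ) :
    PowerSeries.coeff k (logDerivSeries x) = (-1) ^ k * adamsOp (k + 1) x := by
  rw [adamsOp_succ, ← mul_assoc, neg_one_pow_mul_self, one_mul]

/-- Newton's identity. -/
theorem newton (x : K) (n : ℕ) :
    ((n + 1 : ℕ) : K) * LambdaOps.lam (n + 1) x =
      ∑ i ∈ range (n + 1), (-1) ^ i * adamsOp (i + 1) x * LambdaOps.lam (n - i) x := by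
  have h := congrArg (PowerSeries.coeff n) (deriv_lamSeries x)
  rw [PowerSeries.coeff_derivative, PowerSeries.coeff_mul,
    Finset.Nat.sum_antidiagonal_eq_sum_range_succ_mk, coeff_lamSeries] at h
  simp only [coeff_logDerivSeries, coeff_lamSeries, Nat.succ_eq_add_one] at h
  rw [← h]; push_cast; ring

end basic

theorem isUnit_natCast_succ (K : Type u) [CommRing K] [Algebra ℚ K] (n : ℕ) :
    IsUnit (((n + 1 : ℕ) : K)) := by
  have : (((n + 1 : ℕ) : K)) = algebraMap ℚ K ((n + 1 : ℕ) : ℚ) := by simp
  rw [this]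
  exact IsUnit.map _ (isUnit_iff_ne_zero.mpr (by positivity))

theorem ode_unique {K : Type u} [CommRing K] [Algebra ℚ K] (P s t : PowerSeries K)
    (hs : PowerSeries.derivative K s = P * s) (ht : PowerSeries.derivative K t = P * t)
    (h0 : PowerSeries.constantCoeff s = PowerSeries.constantCoeff t) : s = t := by
  ext n
  induction n using Nat.strong_induction_on with
  | _ n ih =>
    rcases n with _ | n
    · simpa using h0
    · have h1 := congrArg (PowerSeries.coeff n) hs
      have h2 := congrArg (PowerSeries.coeff n) ht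
      rw [PowerSeries.coeff_derivative, PowerSeries.coeff_mul] at h1 h2
      have h3 : ∑ p ∈ antidiagonal n, coeff p.1 P * coeff p.2 s =
          ∑ p ∈ antidiagonal n, coeff p.1 P * coeff p.2 t := by
        refine Finset.sum_congr rfl fun p hp => ?_
        rw [ih p.2 (Finset.Nat.antidiagonal.snd_lt hp)]
      have h4 : coeff (n + 1) s * ((n : K) + 1) = coeff (n + 1) t * ((n : K) + 1) := by
        rw [h1, h2, h3]
      have hu : IsUnit ((n : K) + 1) := by
        have := isUnit_natCast_succ K n
        rwa [Nat.cast_add, Nat.cast_one] at this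
      exact hu.mul_left_injective h4

section hom

variable {K K' : Type u} [CommRing K] [CommRing K'] [LambdaOps K] [LambdaOps K']

theorem adams_comm_of_lambdaHom (f : K →+* K') (hf : IsLambdaHom f) :
    ∀ k, 1 ≤ k → ∀ x, f (adamsOp k x) = adamsOp k (f x) := by
  intro k
  induction k using Nat.strong_induction_on with
  | _ k ih =>
    intro hk x
    obtain ⟨n, rfl⟩ : ∃ n, k = n + 1 := ⟨k - 1, by omega⟩
    have hN := newton x n
    have hN' := newton (f x) n
    rw [Finset.sum_range_succ] at hN hN'
    have h1 := congrArg f hN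
    rw [map_mul, map_natCast, map_add, map_sum, hf] at h1
    have h2 : ∑ i ∈ range n, f ((-1) ^ i * adamsOp (i + 1) x * LambdaOps.lam (n - i) x) =
        ∑ i ∈ range n, (-1) ^ i * adamsOp (i + 1) (f x) * LambdaOps.lam (n - i) (f x) := by
      refine Finset.sum_congr rfl fun i hi => ?_
      have hi' := Finset.mem_range.mp hi
      rw [map_mul, map_mul, map_pow, map_neg, map_one, hf,
        ih (i + 1) (by omega) (by omega)]
    rw [h2, hN'] at h1
    have h3 := add_left_cancel h1
    rw [Nat.sub_self, LambdaOps.lam_zero, LambdaOps.lam_zero, mul_one, map_mul, map_mul, map_one,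
      mul_one, map_pow, map_neg, map_one] at h3
    have hu : IsUnit ((-1 : K') ^ n) := IsUnit.pow n isUnit_one.neg
    exact (hu.mul_right_injective h3).symm

theorem lambdaHom_of_adams_comm [Algebra ℚ K'] (f : K →+* K')
    (hf : ∀ k, 1 ≤ k → ∀ x, f (adamsOp k x) = adamsOp k (f x)) : IsLambdaHom f := by
  intro i
  induction i using Nat.strong_induction_on with
  | _ i ih =>
    intro x
    rcases i with _ | n
    · rw [LambdaOps.lam_zero, LambdaOps.lam_zero, map_one]
    · have hN := newton x n
      have hN' := newton (f x) n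
      have h1 := congrArg f hN
      rw [map_mul, map_natCast, map_sum] at h1
      have h2 : ∑ i ∈ range (n + 1), f ((-1) ^ i * adamsOp (i + 1) x * LambdaOps.lam (n - i) x) =
          ∑ i ∈ range (n + 1), (-1) ^ i * adamsOp (i + 1) (f x) * LambdaOps.lam (n - i) (f x) := by
        refine Finset.sum_congr rfl fun i hi => ?_
        rw [map_mul, map_mul, map_pow, map_neg, map_one, hf (i + 1) (by omega),
          ih (n - i) (by omega)]
      rw [h2, ← hN'] at h1
      exact (isUnit_natCast_succ K' n).mul_right_injective h1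

end hom

section exist

variable {K : Type u} [CommRing K] [Algebra ℚ K] (ψ : ℕ → K →+ K)

/-- the λ-operations defined from Adams operations by Newton's recursion -/
noncomputable def lamRec (x : K) : ℕ → K
  | 0 => 1
  | (n + 1) => ((n + 1 : ℚ)⁻¹) •
      ∑ i : Fin (n + 1), (-1) ^ (i : ℕ) * ψ (i + 1) x * lamRec x (n - i)
decreasing_by omega

theorem lamRec_zero (x : K) : lamRec ψ x 0 = 1 := by rw [lamRec]

theorem lamRec_succ (x : K) (n : ℕ) :
    lamRec ψ x (n + 1) = ((n + 1 : ℚ)⁻¹) •
      ∑ i ∈ range (n + 1), (-1) ^ i * ψ (i + 1) x * lamRec ψ x (n - i) := by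
  rw [lamRec, Fin.sum_univ_eq_sum_range
    (fun i => (-1) ^ i * ψ (i + 1) x * lamRec ψ x (n - i)) (n + 1)]

/-- generating series of `lamRec` -/
noncomputable def Lser (x : K) : PowerSeries K := PowerSeries.mk (lamRec ψ x)

/-- generating series of the signed Adams operations -/
noncomputable def Pser (x : K) : PowerSeries K :=
  PowerSeries.mk fun k => (-1) ^ k * ψ (k + 1) x

theorem deriv_Lser (x : K) :
    PowerSeries.derivative K (Lser ψ x) = Pser ψ x * Lser ψ x := by
  ext n
  rw [PowerSeries.coeff_derivative, PowerSeries.coeff_mul,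
    Finset.Nat.sum_antidiagonal_eq_sum_range_succ_mk]
  simp only [Lser, Pser, PowerSeries.coeff_mk, Nat.succ_eq_add_one]
  rw [lamRec_succ]
  have hn : ((n : K) + 1) = algebraMap ℚ K ((n : ℚ) + 1) := by simp
  rw [hn, mul_comm, ← Algebra.smul_def, smul_smul, mul_inv_cancel₀ (by positivity), one_smul]

theorem constantCoeff_Lser (x : K) : PowerSeries.constantCoeff (Lser ψ x) = 1 := by
  rw [← PowerSeries.coeff_zero_eq_constantCoeff_apply, Lser, PowerSeries.coeff_mk, lamRec_zero]

theorem Pser_add (x y : K) : Pser ψ (x + y) = Pser ψ x + Pser ψ y := by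
  ext k
  simp [Pser, mul_add]

theorem Lser_add (x y : K) : Lser ψ (x + y) = Lser ψ x * Lser ψ y := by
  apply ode_unique (Pser ψ (x + y))
  · exact deriv_Lser ψ (x + y)
  · rw [Derivation.leibniz, deriv_Lser, deriv_Lser, Pser_add]
    simp only [smul_eq_mul]
    ring
  · rw [map_mul, constantCoeff_Lser, constantCoeff_Lser, constantCoeff_Lser, mul_one]

/-- the pre-λ-structure with prescribed Adams operations -/
noncomputable def lamOps (hψ : ψ 1 = AddMonoidHom.id K) : LambdaOps K where
  lam n x := lamRec ψ x n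
  lam_zero x := lamRec_zero ψ x
  lam_one x := by
    rw [lamRec_succ]
    simp [lamRec_zero, hψ]
  lam_add k x y := by
    have h := congrArg (PowerSeries.coeff k) (Lser_add ψ x y)
    rw [PowerSeries.coeff_mul, Finset.Nat.sum_antidiagonal_eq_sum_range_succ_mk] at h
    simpa [Lser, PowerSeries.coeff_mk] using h

theorem adamsOp_lamOps (hψ : ψ 1 = AddMonoidHom.id K) (k : ℕ) (hk : 1 ≤ k) (x : K) :
    @adamsOp K _ (lamOps ψ hψ) k x = ψ k x := by
  let _inst := lamOps ψ hψ
  obtain ⟨n, rfl⟩ : ∃ n, k = n + 1 := ⟨k - 1, by omega⟩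
  have hL : lamSeries x = Lser ψ x := rfl
  have h1 : logDerivSeries x = Pser ψ x := by
    rw [logDerivSeries, hL, deriv_Lser, mul_assoc,
      PowerSeries.mul_invOfUnit _ _ (by rw [constantCoeff_Lser]; rfl), mul_one]
  rw [adamsOp_succ, h1, Pser, PowerSeries.coeff_mk, ← mul_assoc, neg_one_pow_mul_self, one_mul]

theorem lam_eq_lamRec [L : LambdaOps K] (hL : ∀ k, 1 ≤ k → ∀ x : K, adamsOp k x = ψ k x)
    (n : ℕ) (x : K) : LambdaOps.lam n x = lamRec ψ x n := by
  have h : lamSeries x = Lser ψ x := by
    apply ode_unique (Pser ψ x)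
    · rw [deriv_lamSeries]
      congr 1
      ext k
      rw [coeff_logDerivSeries, hL (k + 1) (by omega), Pser, PowerSeries.coeff_mk]
    · exact deriv_Lser ψ x
    · rw [constantCoeff_lamSeries, constantCoeff_Lser]
  have := congrArg (PowerSeries.coeff n) h
  rwa [coeff_lamSeries, Lser, PowerSeries.coeff_mk] at this

end exist

theorem lambdaOps_ext {K : Type u} [CommRing K] (L₁ L₂ : LambdaOps K)
    (h : ∀ n x, L₁.lam n x = L₂.lam n x) : L₁ = L₂ := by
  obtain ⟨l1, _, _, _⟩ := L₁
  obtain ⟨l2, _, _, _⟩ := L₂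
  have : l1 = l2 := funext fun n => funext fun x => h n x
  subst this
  rfl

end Groth.Agent.Lib.LambdaAdamsH1
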