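import Mathlib
import Groth.Agent.Lib.LambdaGammaAdams_helper1
import Groth.Agent.S3792
import Groth.Prelude.Def_W4bkmilneecrracsp2Inv

/-!
# λ-rings with involution: splitting computations (helper1)

APPEND-ONLY: do not change statements of landed lemmas.
-/

universe u

namespace Groth.Agent.Lib.LambdaInvH1

open LambdaRing Groth.Agent.Lib.LambdaRingH1 Groth.Agent.Lib.LambdaSplitH1
  Groth.Agent.Lib.LambdaGAH1

section Esymm
variable {R : Type u} [CommRing R]

theorem esymm_cons_succ (a : R) (s : Multiset R) (j : ℕ) :
    (a ::ₘ s).esymm (j + 1) = s.esymm (j + 1) + a * s.esymm j := by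
  unfold Multiset.esymm
  rw [Multiset.powersetCard_cons, Multiset.map_add, Multiset.sum_add, Multiset.map_map]
  congr 1
  rw [← Multiset.sum_map_mul_left]
  apply congrArg
  apply Multiset.map_congr rfl
  intro t _
  simp

theorem esymm_zero' (s : Multiset R) : s.esymm 0 = 1 := by
  simp [Multiset.esymm]

theorem esymm_eq_zero_of_lt (s : Multiset R) (j : ℕ) (h : Multiset.card s < j) :
    s.esymm j = 0 := by
  unfold Multiset.esymm
  rw [Multiset.powersetCard_eq_empty _ h]
  simp

theorem esymm_inv (g : R → R) (s : Multiset R) (hg : ∀ u ∈ s, g u * u = 1) :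
    ∀ i k : ℕ, i + k = Multiset.card s → s.esymm i = (s.map g).esymm k * s.prod := by
  induction s using Multiset.induction_on with
  | empty =>
    intro i k h
    have hi : i = 0 := by simp at h; omega
    have hk : k = 0 := by simp at h; omega
    subst hi; subst hk
    simp [esymm_zero']
  | cons a t ih =>
    have ih' := ih (fun u hu => hg u (Multiset.mem_cons_of_mem hu))
    have ha : g a * a = 1 := hg a (Multiset.mem_cons_self a t)
    intro i k h
    rw [Multiset.card_cons] at h
    rw [Multiset.map_cons, Multiset.prod_cons]
    rcases i with _ | i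
    · obtain rfl : k = Multiset.card t + 1 := by omega
      rw [esymm_zero', esymm_cons_succ,
        esymm_eq_zero_of_lt (t.map g) _ (by rw [Multiset.card_map]; omega), zero_add]
      have h0 := ih' 0 (Multiset.card t) (by omega)
      rw [esymm_zero'] at h0
      calc (1 : R) = (g a * a) * ((t.map g).esymm (Multiset.card t) * t.prod) := by
            rw [ha, one_mul, ← h0]
        _ = g a * (t.map g).esymm (Multiset.card t) * (a * t.prod) := by ring
    · rcases k with _ | k
      · obtain rfl : i = Multiset.card t := by omega
        rw [esymm_cons_succ, esymm_eq_zero_of_lt t _ (by omega), zero_add, esymm_zero', one_mul]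
        have h0 := ih' (Multiset.card t) 0 (by omega)
        rw [esymm_zero', one_mul] at h0
        rw [h0]
      · rw [esymm_cons_succ, esymm_cons_succ]
        have h1 := ih' i (k + 1) (by omega)
        have h2 := ih' (i + 1) k (by omega)
        rw [h1, h2]
        linear_combination ((t.map g).esymm k * t.prod) * (-ha)

theorem esymm_card (s : Multiset R) : s.esymm (Multiset.card s) = s.prod := by
  induction s using Multiset.induction_on with
  | empty => simp [esymm_zero']
  | cons a t ih =>
    rw [Multiset.card_cons, esymm_cons_succ, esymm_eq_zero_of_lt t _ (by omega), zero_add, ih,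
      Multiset.prod_cons]

end Esymm

section Lam
variable {K : Type u} [CommRing K] [LambdaOps K] (P : PosStructure K)

/-- `γ^k(Σ u - n) = e_k(u - 1)` for a multiset of `n` line elements -/
theorem gamma_lines (s : Multiset K) (hs : ∀ u ∈ s, P.IsLine u) (k : ℕ) :
    gamma k (s.sum - (Multiset.card s : K)) = (s.map (fun u => u - 1)).esymm k := by
  obtain ⟨l, rfl⟩ : ∃ l : List K, (l : Multiset K) = s := ⟨s.toList, Multiset.coe_toList s⟩
  have h1 : ∀ k : ℕ, 2 ≤ k → LambdaOps.lam k (1 : K) = 0 :=
    fun k hk => lam_line_eq_zero P (isLine_one P) k hk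
  have ht' : ∀ (i : Fin l.length) (j : ℕ), 2 ≤ j → LambdaOps.lam j (l.get i) = 0 :=
    fun i j hj => lam_line_eq_zero P (hs _ (Multiset.mem_coe.2 (List.get_mem l i))) j hj
  have hg := gamma_sum_eq_aeval h1 l.length l.get ht' k
  rw [MvPolynomial.aeval_esymm_eq_multiset_esymm] at hg
  have hl : Finset.univ.val.map (fun i : Fin l.length => l.get i - 1) =
      ((l : Multiset K).map (fun u => u - 1)) := by
    have e1 : (fun i : Fin l.length => l.get i - 1) = (fun u : K => u - 1) ∘ l.get := rfl
    rw [e1, ← Multiset.map_map, Fin.univ_val_map, List.ofFn_get]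
  rw [hl] at hg
  rw [← hg]
  congr 1
  rw [Finset.sum_sub_distrib, Multiset.sum_coe, Multiset.coe_card]
  simp [Fin.sum_univ_getElem]

end Lam

section Inv
variable {K : Type u} [CommRing K] [LambdaOps K] {P : PosStructure K} {inv : K → K}

theorem inv_zero (hV : IsInvolution P inv) : inv 0 = 0 := by
  have h := hV.map_add 0 0
  rw [add_zero] at h
  exact left_eq_add.mp h

theorem inv_multiset_sum (hV : IsInvolution P inv) (s : Multiset K) :
    inv s.sum = (s.map inv).sum := by
  induction s using Multiset.induction_on with
  | empty => simpa using inv_zero hV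
  | cons a t ih => rw [Multiset.sum_cons, hV.map_add, ih, Multiset.map_cons, Multiset.sum_cons]

end Inv

end Groth.Agent.Lib.LambdaInvH1
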