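import Mathlib
import Groth.Prelude.Def_LambdaSp
import Groth.Agent.Lib.LambdaInv_helper1

/-!
# Universal polynomials of λ-rings, part A (helper1): generating polynomials of multisets,
specialisation of variables to zero.  APPEND-ONLY once landed.
-/

set_option autoImplicit false
universe u

open MvPolynomial Finset

namespace Groth.Agent.Lib.LambdaUnivH1

open LambdaRing Groth.Agent.Lib.LambdaInvH1

section GenPoly

variable {R : Type u} [CommRing R]

/-- generating polynomial `∏ (1 + r X)` of a multiset -/
noncomputable def genPoly (M : Multiset R) : Polynomial R :=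
  (M.map fun r => (1 + Polynomial.C r * Polynomial.X : Polynomial R)).prod

theorem genPoly_zero : genPoly (0 : Multiset R) = 1 := by simp [genPoly]

theorem genPoly_cons (a : R) (M : Multiset R) :
    genPoly (a ::ₘ M) = (1 + Polynomial.C a * Polynomial.X) * genPoly M := by
  simp [genPoly]

theorem genPoly_add (M M' : Multiset R) : genPoly (M + M') = genPoly M * genPoly M' := by
  simp [genPoly]

theorem coeff_genPoly (M : Multiset R) (j : ℕ) : (genPoly M).coeff j = M.esymm j := by
  induction M using Multiset.induction_on generalizing j with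
  | empty =>
    rw [genPoly_zero]
    rcases j with _ | j
    · rw [esymm_zero', Polynomial.coeff_one_zero]
    · rw [Polynomial.coeff_one, if_neg (Nat.succ_ne_zero j),
        esymm_eq_zero_of_lt _ _ (by rw [Multiset.card_zero]; omega)]
  | cons a M ih =>
    rw [genPoly_cons, add_mul, one_mul, Polynomial.coeff_add, mul_assoc, Polynomial.coeff_C_mul]
    rcases j with _ | j
    · rw [ih, Polynomial.coeff_X_mul_zero, mul_zero, add_zero, esymm_zero', esymm_zero']
    · rw [ih, Polynomial.coeff_X_mul, ih, esymm_cons_succ]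

theorem genPoly_finset {ι : Type*} (s : Finset ι) (f : ι → R) :
    genPoly (s.val.map f) = ∏ i ∈ s, (1 + Polynomial.C (f i) * Polynomial.X) := by
  unfold genPoly
  rw [Multiset.map_map]
  rfl

theorem genPoly_map {S : Type u} [CommRing S] (φ : R →+* S) (M : Multiset R) :
    genPoly (M.map φ) = (genPoly M).map φ := by
  induction M using Multiset.induction_on with
  | empty => rw [Multiset.map_zero, genPoly_zero, genPoly_zero, Polynomial.map_one]
  | cons a M ih =>
    rw [Multiset.map_cons, genPoly_cons, genPoly_cons, ih, Polynomial.map_mul,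
      Polynomial.map_add, Polynomial.map_one, Polynomial.map_mul, Polynomial.map_C,
      Polynomial.map_X]

theorem esymm_map_ringHom {S : Type u} [CommRing S] (φ : R →+* S) (M : Multiset R) (j : ℕ) :
    (M.map φ).esymm j = φ (M.esymm j) := by
  rw [← coeff_genPoly, genPoly_map, Polynomial.coeff_map, coeff_genPoly]

theorem esymm_eq_of_genPoly_eq {M M' : Multiset R} (h : genPoly M = genPoly M') (j : ℕ) :
    M.esymm j = M'.esymm j := by
  rw [← coeff_genPoly, h, coeff_genPoly]

/-- `∏ (1 + f i z) = Σ e_j(f) z^j` -/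
theorem prod_one_add_mul {ι : Type*} (s : Finset ι) (f : ι → R) (z : R) :
    ∏ i ∈ s, (1 + f i * z) = ∑ j ∈ range (s.card + 1), (s.val.map f).esymm j * z ^ j := by
  classical
  rw [Finset.prod_one_add]
  rw [← Finset.sum_fiberwise_of_maps_to (g := Finset.card) (t := range (s.card + 1))]
  · refine Finset.sum_congr rfl fun j _ => ?_
    rw [Finset.esymm_map_val, Finset.sum_mul, Finset.powersetCard_eq_filter]
    refine Finset.sum_congr rfl fun t ht => ?_
    rw [Finset.prod_mul_distrib, Finset.prod_const, (Finset.mem_filter.1 ht).2]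
  · intro t ht
    rw [Finset.mem_range, Nat.lt_succ_iff]
    exact Finset.card_le_card (Finset.mem_powerset.1 ht)

end GenPoly

section Kill

variable {R : Type u} [CommRing R]

/-- zero extension does not change elementary symmetric functions -/
theorem esymm_addCases_zero {n m : ℕ} (f : Fin n → R) (k : ℕ) :
    ((univ : Finset (Fin (n + m))).val.map
      (Fin.addCases f (fun _ : Fin m => (0 : R)))).esymm k =
      ((univ : Finset (Fin n)).val.map f).esymm k := by
  apply esymm_eq_of_genPoly_eq
  rw [genPoly_finset, genPoly_finset, Fin.prod_univ_add]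
  simp

/-- killing the last `m` variables -/
noncomputable def kill (R : Type u) [CommRing R] (n m : ℕ) :
    MvPolynomial (Fin (n + m)) R →ₐ[R] MvPolynomial (Fin n) R :=
  aeval (Fin.addCases (fun a => (X a : MvPolynomial (Fin n) R)) (fun _ => 0))

theorem kill_esymm (n m k : ℕ) : kill R n m (esymm (Fin (n + m)) R k) = esymm (Fin n) R k := by
  unfold kill
  rw [aeval_esymm_eq_multiset_esymm, esymm_addCases_zero, esymm_eq_multiset_esymm]

/-- killing the last `m` variables in both families -/
noncomputable def kill2 (R : Type u) [CommRing R] (n m : ℕ) :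
    MvPolynomial (Fin (n + m) ⊕ Fin (n + m)) R →ₐ[R] MvPolynomial (Fin n ⊕ Fin n) R :=
  aeval (Sum.elim
    (Fin.addCases (fun a => (X (Sum.inl a) : MvPolynomial (Fin n ⊕ Fin n) R)) (fun _ => 0))
    (Fin.addCases (fun b => (X (Sum.inr b) : MvPolynomial (Fin n ⊕ Fin n) R)) (fun _ => 0)))

theorem rename_eq_aeval' {σ τ : Type*} (f : σ → τ) (p : MvPolynomial σ R) :
    rename f p = aeval (fun i => (X (f i) : MvPolynomial τ R)) p := by
  induction p using MvPolynomial.induction_on with
  | C a => simp
  | add p q hp hq => rw [map_add, map_add, hp, hq]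
  | mul_X p i hp => rw [map_mul, map_mul, hp, rename_X, aeval_X]

theorem kill2_inl_esymm (n m k : ℕ) :
    kill2 R n m (rename Sum.inl (esymm (Fin (n + m)) R k)) =
      rename Sum.inl (esymm (Fin n) R k) := by
  unfold kill2
  rw [aeval_rename, aeval_esymm_eq_multiset_esymm, rename_eq_aeval' (R := R) Sum.inl,
    aeval_esymm_eq_multiset_esymm]
  exact esymm_addCases_zero (R := MvPolynomial (Fin n ⊕ Fin n) R)
    (fun a => (X (Sum.inl a) : MvPolynomial (Fin n ⊕ Fin n) R)) k

theorem kill2_inr_esymm (n m k : ℕ) :
    kill2 R n m (rename Sum.inr (esymm (Fin (n + m)) R k)) =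
      rename Sum.inr (esymm (Fin n) R k) := by
  unfold kill2
  rw [aeval_rename, aeval_esymm_eq_multiset_esymm, rename_eq_aeval' (R := R) Sum.inr,
    aeval_esymm_eq_multiset_esymm]
  exact esymm_addCases_zero (R := MvPolynomial (Fin n ⊕ Fin n) R)
    (fun a => (X (Sum.inr a) : MvPolynomial (Fin n ⊕ Fin n) R)) k

end Kill

section KillGen

/-- the multiset of products `t_a u_b` -/
theorem esymm_prod_addCases_zero {R : Type u} [CommRing R] {n m : ℕ} (t u : Fin n → R) (k : ℕ) :
    ((univ : Finset (Fin (n + m) × Fin (n + m))).val.map fun ab =>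
      (Fin.addCases t (fun _ : Fin m => (0 : R)) ab.1) *
        (Fin.addCases u (fun _ : Fin m => (0 : R)) ab.2)).esymm k =
    ((univ : Finset (Fin n × Fin n)).val.map fun ab => t ab.1 * u ab.2).esymm k := by
  apply esymm_eq_of_genPoly_eq
  rw [genPoly_finset, genPoly_finset, ← Finset.univ_product_univ, ← Finset.univ_product_univ,
    Finset.prod_product, Finset.prod_product, Fin.prod_univ_add]
  have h1 : ∀ a : Fin n, ∏ b : Fin (n + m), (1 + Polynomial.C
      ((Fin.addCases t (fun _ : Fin m => (0 : R)) (Fin.castAdd m a)) *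
        (Fin.addCases u (fun _ : Fin m => (0 : R)) b)) * Polynomial.X) =
      ∏ b : Fin n, (1 + Polynomial.C (t a * u b) * (Polynomial.X : Polynomial R)) := by
    intro a
    rw [Fin.prod_univ_add]
    simp
  have h2 : ∀ a : Fin m, ∏ b : Fin (n + m), (1 + Polynomial.C
      ((Fin.addCases t (fun _ : Fin m => (0 : R)) (Fin.natAdd n a)) *
        (Fin.addCases u (fun _ : Fin m => (0 : R)) b)) * Polynomial.X) =
      (1 : Polynomial R) := by
    intro a
    simp
  rw [Finset.prod_congr rfl fun a _ => h1 a, Finset.prod_congr rfl fun a _ => h2 a,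
    Finset.prod_const_one, mul_one]

theorem kill2_mulGen (n m k : ℕ) : kill2 ℤ n m (mulGen (n + m) k) = mulGen n k := by
  unfold mulGen
  rw [← RingHom.coe_coe, ← esymm_map_ringHom, Multiset.map_map]
  have h : ((kill2 ℤ n m : MvPolynomial (Fin (n + m) ⊕ Fin (n + m)) ℤ →+*
      MvPolynomial (Fin n ⊕ Fin n) ℤ) ∘ fun ab : Fin (n + m) × Fin (n + m) =>
      (X (Sum.inl ab.1) * X (Sum.inr ab.2) : MvPolynomial (Fin (n + m) ⊕ Fin (n + m)) ℤ)) =
      fun ab => (Fin.addCases (fun a => (X (Sum.inl a) : MvPolynomial (Fin n ⊕ Fin n) ℤ))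
        (fun _ : Fin m => 0) ab.1) *
        (Fin.addCases (fun b => (X (Sum.inr b) : MvPolynomial (Fin n ⊕ Fin n) ℤ))
        (fun _ : Fin m => 0) ab.2) := by
    funext ab
    show kill2 ℤ n m (X (Sum.inl ab.1) * X (Sum.inr ab.2)) = _
    unfold kill2
    rw [map_mul, aeval_X, aeval_X]
    rfl
  rw [h]
  exact esymm_prod_addCases_zero _ _ k

/-- subsets version -/
theorem esymm_powerset_addCases_zero {R : Type u} [CommRing R] {n m : ℕ} (t : Fin n → R)
    (i k : ℕ) :
    (((univ : Finset (Fin (n + m))).powersetCard i).val.map fun s =>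
      ∏ a ∈ s, Fin.addCases t (fun _ : Fin m => (0 : R)) a).esymm k =
    (((univ : Finset (Fin n)).powersetCard i).val.map fun s => ∏ a ∈ s, t a).esymm k := by
  classical
  apply esymm_eq_of_genPoly_eq
  rw [genPoly_finset, genPoly_finset]
  have hmap : ((univ : Finset (Fin n)).powersetCard i).map
      (Finset.mapEmbedding (Fin.castAddEmb m)).toEmbedding ⊆
      (univ : Finset (Fin (n + m))).powersetCard i := by
    intro s hs
    rw [Finset.mem_map] at hs
    obtain ⟨s', hs', rfl⟩ := hs
    rw [Finset.mem_powersetCard] at hs' ⊢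
    refine ⟨Finset.subset_univ _, ?_⟩
    show (s'.map (Fin.castAddEmb m)).card = i
    rw [Finset.card_map]
    exact hs'.2
  rw [← Finset.prod_subset hmap, Finset.prod_map]
  · refine Finset.prod_congr rfl fun s _ => ?_
    congr 3
    show ∏ a ∈ s.map (Fin.castAddEmb m), (Fin.addCases t (fun _ : Fin m => (0 : R)) a : R) =
      ∏ a ∈ s, t a
    rw [Finset.prod_map]
    refine Finset.prod_congr rfl fun a _ => ?_
    show (Fin.addCases t (fun _ : Fin m => (0 : R)) (Fin.castAdd m a) : R) = t a
    rw [Fin.addCases_left]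
  · intro s hs hs'
    have hex : ∃ a ∈ s, ∃ b : Fin m, a = Fin.natAdd n b := by
      by_contra hcon
      push Not at hcon
      apply hs'
      have hrange : ∀ a ∈ s, a ∈ Set.range (Fin.castAddEmb m) := by
        intro a ha
        induction a using Fin.addCases with
        | left a => exact ⟨a, rfl⟩
        | right b => exact absurd rfl (hcon _ ha b)
      rw [Finset.mem_map]
      refine ⟨s.preimage (Fin.castAddEmb m) (Fin.castAddEmb m).injective.injOn, ?_, ?_⟩
      · rw [Finset.mem_powersetCard]
        refine ⟨Finset.subset_univ _, ?_⟩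
        rw [Finset.card_preimage, Finset.filter_true_of_mem hrange]
        exact (Finset.mem_powersetCard.1 hs).2
      · show (s.preimage (Fin.castAddEmb m) _).map (Fin.castAddEmb m) = s
        rw [Finset.map_eq_image, Finset.image_preimage, Finset.filter_true_of_mem hrange]
    obtain ⟨a, ha, b, rfl⟩ := hex
    rw [Finset.prod_eq_zero ha (Fin.addCases_right _), map_zero, zero_mul, add_zero]

theorem kill_compGen (n m i j : ℕ) : kill ℤ n m (compGen (n + m) i j) = compGen n i j := by
  unfold compGen
  rw [← RingHom.coe_coe, ← esymm_map_ringHom, Multiset.map_map]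
  have h : ((kill ℤ n m : MvPolynomial (Fin (n + m)) ℤ →+* MvPolynomial (Fin n) ℤ) ∘
      fun s : Finset (Fin (n + m)) => (∏ a ∈ s, X a : MvPolynomial (Fin (n + m)) ℤ)) =
      fun s => ∏ a ∈ s, Fin.addCases (fun a => (X a : MvPolynomial (Fin n) ℤ))
        (fun _ : Fin m => 0) a := by
    funext s
    show kill ℤ n m (∏ a ∈ s, X a) = _
    unfold kill
    rw [map_prod]
    refine Finset.prod_congr rfl fun a _ => ?_
    rw [aeval_X]
  rw [h]
  exact esymm_powerset_addCases_zero _ i j

end KillGen

end Groth.Agent.Lib.LambdaUnivH1
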