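import Mathlib
import Groth.Agent.Lib.LambdaUnivA_helper1

/-!
# Universal polynomials of λ-rings, part B (helper1): substitution of elementary symmetric
functions, injectivity, weights, existence of the universal polynomials.
APPEND-ONLY once landed.
-/

set_option autoImplicit false
universe u

open MvPolynomial Finset TensorProduct

namespace Groth.Agent.Lib.LambdaUnivH1

open LambdaRing Groth.Agent.Lib.LambdaInvH1 Groth.Agent.Lib.LambdaGAH1

section Sym

variable (R : Type u) [CommRing R]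

/-- level-`N` substitution of elementary symmetric functions in `n` variables -/
noncomputable def EN (N n : ℕ) : MvPolynomial (Fin n) R →ₐ[R] MvPolynomial (Fin N) R :=
  aeval (fun k : Fin n => esymm (Fin N) R (k.1 + 1))

/-- two-family version -/
noncomputable def EN2 (N n : ℕ) :
    MvPolynomial (Fin n ⊕ Fin n) R →ₐ[R] MvPolynomial (Fin N ⊕ Fin N) R :=
  aeval (Sum.elim (fun k : Fin n => rename Sum.inl (esymm (Fin N) R (k.1 + 1)))
    (fun k : Fin n => rename Sum.inr (esymm (Fin N) R (k.1 + 1))))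

theorem EN_injective {N n : ℕ} (h : n ≤ N) : Function.Injective (EN R N n) := by
  intro p q hpq
  apply esymmAlgHom_fin_injective R h
  apply Subtype.ext
  rw [esymmAlgHom_apply, esymmAlgHom_apply]
  exact hpq

theorem tensorEquivSum_tmul_one' (σ ι : Type*) (p : MvPolynomial σ R) :
    tensorEquivSum R σ ι R (p ⊗ₜ 1) = rename Sum.inl p := by
  have h : ((tensorEquivSum R σ ι R).toAlgHom.comp Algebra.TensorProduct.includeLeft) =
      rename Sum.inl := by
    apply MvPolynomial.algHom_ext
    intro i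
    simp
  exact AlgHom.congr_fun h p

theorem tensorEquivSum_one_tmul' (σ ι : Type*) (p : MvPolynomial ι R) :
    tensorEquivSum R σ ι R (1 ⊗ₜ p) = rename Sum.inr p := by
  have h : ((tensorEquivSum R σ ι R).toAlgHom.comp Algebra.TensorProduct.includeRight) =
      rename Sum.inr := by
    apply MvPolynomial.algHom_ext
    intro i
    simp
  exact AlgHom.congr_fun h p

theorem EN2_comm (N n : ℕ) :
    (EN2 R N n).comp (tensorEquivSum R (Fin n) (Fin n) R).toAlgHom =
      (tensorEquivSum R (Fin N) (Fin N) R).toAlgHom.comp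
        (Algebra.TensorProduct.map (EN R N n) (EN R N n)) := by
  apply Algebra.TensorProduct.ext
  · apply MvPolynomial.algHom_ext
    intro k
    simp only [AlgHom.comp_apply, AlgHom.coe_coe,
      Algebra.TensorProduct.includeLeft_apply, Algebra.TensorProduct.map_tmul,
      tensorEquivSum_X_tmul_one, map_one, tensorEquivSum_tmul_one']
    simp [EN2, EN]
    exact (tensorEquivSum_tmul_one' R _ _ _).symm
  · apply MvPolynomial.algHom_ext
    intro k
    simp only [AlgHom.comp_apply, AlgHom.coe_coe,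
      AlgHom.coe_restrictScalars',
      Algebra.TensorProduct.includeRight_apply, Algebra.TensorProduct.map_tmul,
      tensorEquivSum_one_tmul_X, map_one, tensorEquivSum_one_tmul']
    simp [EN2, EN]
    exact (tensorEquivSum_one_tmul' R _ _ _).symm

theorem EN2_injective {N n : ℕ} (h : n ≤ N) : Function.Injective (EN2 R N n) := by
  have hmap : Function.Injective (Algebra.TensorProduct.map (EN R N n) (EN R N n)) :=
    TensorProduct.map_injective_of_flat_flat (EN R N n).toLinearMap (EN R N n).toLinearMap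
      (EN_injective R h) (EN_injective R h)
  have hcomm := EN2_comm R N n
  intro p q hpq
  obtain ⟨p', rfl⟩ := (tensorEquivSum R (Fin n) (Fin n) R).surjective p
  obtain ⟨q', rfl⟩ := (tensorEquivSum R (Fin n) (Fin n) R).surjective q
  have h1 : EN2 R N n (tensorEquivSum R (Fin n) (Fin n) R p') =
      tensorEquivSum R (Fin N) (Fin N) R
        (Algebra.TensorProduct.map (EN R N n) (EN R N n) p') := AlgHom.congr_fun hcomm p'
  have h2 : EN2 R N n (tensorEquivSum R (Fin n) (Fin n) R q') =
      tensorEquivSum R (Fin N) (Fin N) R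
        (Algebra.TensorProduct.map (EN R N n) (EN R N n) q') := AlgHom.congr_fun hcomm q'
  rw [h1, h2] at hpq
  rw [hmap ((tensorEquivSum R (Fin N) (Fin N) R).injective hpq)]

end Sym

section Weights

/-- isobaric weights of the two families -/
def w2 (n : ℕ) : Fin n ⊕ Fin n → ℕ × ℕ :=
  Sum.elim (fun k => (k.1 + 1, 0)) (fun k => (0, k.1 + 1))

/-- bidegree -/
def b2 (N : ℕ) : Fin N ⊕ Fin N → ℕ × ℕ := Sum.elim (fun _ => (1, 0)) (fun _ => (0, 1))

theorem rename_inl_esymm_isWH (N r : ℕ) :
    IsWeightedHomogeneous (b2 N) (rename Sum.inl (esymm (Fin N) ℤ r)) ((r, 0) : ℕ × ℕ) := by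
  unfold esymm
  rw [map_sum]
  apply IsWeightedHomogeneous.sum
  intro A hA
  rw [map_prod]
  have h := IsWeightedHomogeneous.prod (w := b2 N) A
    (fun i => rename Sum.inl (X i : MvPolynomial (Fin N) ℤ)) (fun _ => ((1, 0) : ℕ × ℕ))
    (fun i _ => by rw [rename_X]; exact isWeightedHomogeneous_X ℤ (b2 N) (Sum.inl i))
  rw [Finset.sum_const, (Finset.mem_powersetCard.1 hA).2] at h
  have e : r • ((1, 0) : ℕ × ℕ) = (r, 0) := by simp
  rw [e] at h
  exact h

theorem rename_inr_esymm_isWH (N r : ℕ) :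
    IsWeightedHomogeneous (b2 N) (rename Sum.inr (esymm (Fin N) ℤ r)) ((0, r) : ℕ × ℕ) := by
  unfold esymm
  rw [map_sum]
  apply IsWeightedHomogeneous.sum
  intro A hA
  rw [map_prod]
  have h := IsWeightedHomogeneous.prod (w := b2 N) A
    (fun i => rename Sum.inr (X i : MvPolynomial (Fin N) ℤ)) (fun _ => ((0, 1) : ℕ × ℕ))
    (fun i _ => by rw [rename_X]; exact isWeightedHomogeneous_X ℤ (b2 N) (Sum.inr i))
  rw [Finset.sum_const, (Finset.mem_powersetCard.1 hA).2] at h
  have e : r • ((0, 1) : ℕ × ℕ) = (0, r) := by simp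
  rw [e] at h
  exact h

theorem EN2_monomial_isWH (N n : ℕ) (d : Fin n ⊕ Fin n →₀ ℕ) (c : ℤ) :
    IsWeightedHomogeneous (b2 N) (EN2 ℤ N n (monomial d c)) (Finsupp.weight (w2 n) d) := by
  unfold EN2
  rw [aeval_monomial, MvPolynomial.algebraMap_eq]
  apply IsWeightedHomogeneous.C_mul
  rw [Finsupp.prod, Finsupp.weight_apply, Finsupp.sum]
  apply IsWeightedHomogeneous.prod
  intro k _
  rcases k with k | k
  · exact (rename_inl_esymm_isWH N (k.1 + 1)).pow (d (Sum.inl k))
  · exact (rename_inr_esymm_isWH N (k.1 + 1)).pow (d (Sum.inr k))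

theorem whc_EN2 (N n : ℕ) (m : ℕ × ℕ) (Q : MvPolynomial (Fin n ⊕ Fin n) ℤ) :
    weightedHomogeneousComponent (b2 N) m (EN2 ℤ N n Q) =
      EN2 ℤ N n (weightedHomogeneousComponent (w2 n) m Q) := by
  induction Q using MvPolynomial.induction_on' with
  | monomial d c =>
    rw [weightedHomogeneousComponent_of_mem (EN2_monomial_isWH N n d c),
      weightedHomogeneousComponent_of_mem (isWeightedHomogeneous_monomial (w2 n) d c rfl)]
    split_ifs <;> simp
  | add p q hp hq => rw [map_add, map_add, hp, hq, map_add, map_add]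

theorem mulGen_isWH (N n : ℕ) :
    IsWeightedHomogeneous (b2 N) (mulGen N n) ((n, n) : ℕ × ℕ) := by
  unfold mulGen
  rw [Finset.esymm_map_val]
  apply IsWeightedHomogeneous.sum
  intro t ht
  have h := IsWeightedHomogeneous.prod (w := b2 N) t
    (fun ab : Fin N × Fin N =>
      (X (Sum.inl ab.1) * X (Sum.inr ab.2) : MvPolynomial (Fin N ⊕ Fin N) ℤ))
    (fun _ => ((1, 1) : ℕ × ℕ))
    (fun ab _ => by
      have := (isWeightedHomogeneous_X ℤ (b2 N) (Sum.inl ab.1)).mul
        (isWeightedHomogeneous_X ℤ (b2 N) (Sum.inr ab.2))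
      simpa [b2] using this)
  rw [Finset.sum_const, (Finset.mem_powersetCard.1 ht).2] at h
  have e : n • ((1, 1) : ℕ × ℕ) = (n, n) := by simp
  rw [e] at h
  exact h

theorem compGen_isHomogeneous (N i j : ℕ) : (compGen N i j).IsHomogeneous (i * j) := by
  unfold compGen
  rw [Finset.esymm_map_val]
  apply IsHomogeneous.sum
  intro t ht
  have h := IsHomogeneous.prod t
    (fun s : Finset (Fin N) => (∏ a ∈ s, X a : MvPolynomial (Fin N) ℤ)) (fun _ => i)
    (fun s hs => by
      have hs' : s ∈ powersetCard i univ := (Finset.mem_powersetCard.1 ht).1 hs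
      have h1 := IsHomogeneous.prod s (fun a => (X a : MvPolynomial (Fin N) ℤ)) (fun _ => 1)
        (fun a _ => isHomogeneous_X ℤ a)
      rw [Finset.sum_const, smul_eq_mul, mul_one, (Finset.mem_powersetCard.1 hs').2] at h1
      exact h1)
  rw [Finset.sum_const, smul_eq_mul, (Finset.mem_powersetCard.1 ht).2, mul_comm] at h
  exact h

theorem compGen_isSymmetric (N i j : ℕ) : (compGen N i j).IsSymmetric := by
  intro e
  unfold compGen
  rw [← RingHom.coe_coe, ← esymm_map_ringHom, Multiset.map_map]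
  congr 1
  have hS : ((univ : Finset (Fin N)).powersetCard i).map
      (Finset.mapEmbedding e.toEmbedding).toEmbedding = (univ : Finset (Fin N)).powersetCard i := by
    rw [← Finset.powersetCard_map, Finset.map_univ_equiv]
  conv_rhs => rw [← hS, Finset.map_val, Multiset.map_map]
  apply Multiset.map_congr rfl
  intro s _
  show rename e (∏ a ∈ s, X a) = ∏ a ∈ s.map e.toEmbedding, X a
  rw [map_prod, Finset.prod_map]
  refine Finset.prod_congr rfl fun a _ => ?_
  rw [rename_X]
  rfl

end Weights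

section ExistQ

theorem exists_Q_level (N i j : ℕ) : ∃ Q : MvPolynomial (Fin N) ℤ,
    TT N Q = compGen N i j ∧ IsWeightedHomogeneous (wt N) Q (i * j) := by
  obtain ⟨q, hq⟩ := (esymmAlgHom_fin_bijective ℤ N).2
    ⟨compGen N i j, compGen_isSymmetric N i j⟩
  have hq' : TT N q = compGen N i j := by
    unfold TT
    rw [← esymmAlgHom_apply, hq]
  refine ⟨weightedHomogeneousComponent (wt N) (i * j) q, ?_,
    weightedHomogeneousComponent_isWeightedHomogeneous _ _⟩
  rw [← hc_TT, hq', homogeneousComponent_of_mem (compGen_isHomogeneous N i j), if_pos rfl]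

end ExistQ

section ExistP

/-- coefficient ring `ℤ[W]` -/
abbrev RW (N : ℕ) := MvPolynomial (Fin N) ℤ

/-- `ℤ[W][T]` -/
abbrev SW (N : ℕ) := MvPolynomial (Fin N) (RW N)

/-- `w_0 = 1`, `w_{j+1} = W_j` -/
noncomputable def wv (N : ℕ) : ℕ → RW N
  | 0 => 1
  | (j + 1) => if h : j < N then X ⟨j, h⟩ else 0

/-- `Σ_j w_j T_a^j t^j` -/
noncomputable def Fa (N : ℕ) (a : Fin N) : Polynomial (SW N) :=
  ∑ j ∈ range (N + 1), Polynomial.C (C (wv N j) * X a ^ j) * Polynomial.X ^ j

/-- `∏_a Σ_j w_j T_a^j t^j` -/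
noncomputable def Gp (N : ℕ) : Polynomial (SW N) := ∏ a : Fin N, Fa N a

variable (N : ℕ)

theorem Gp_symm (e : Equiv.Perm (Fin N)) :
    (Gp N).map ((rename e : SW N →ₐ[RW N] SW N) : SW N →+* SW N) = Gp N := by
  unfold Gp
  rw [Polynomial.map_prod, ← Equiv.prod_comp e (fun a => Fa N a)]
  refine Finset.prod_congr rfl fun a _ => ?_
  unfold Fa
  rw [Polynomial.map_sum]
  refine Finset.sum_congr rfl fun j _ => ?_
  rw [Polynomial.map_mul, Polynomial.map_C, Polynomial.map_pow, Polynomial.map_X]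
  congr 2
  show rename e (C (wv N j) * X a ^ j) = C (wv N j) * X (e a) ^ j
  rw [map_mul, map_pow, rename_C, rename_X]

theorem coeff_Gp_symm (n : ℕ) : ((Gp N).coeff n).IsSymmetric := by
  intro e
  have h := congrArg (fun p => Polynomial.coeff p n) (Gp_symm N e)
  simp only [Polynomial.coeff_map] at h
  exact h

/-- `W_j ↦ e_{j+1}(U)` -/
noncomputable def thetaW (N : ℕ) : RW N →+* MvPolynomial (Fin N ⊕ Fin N) ℤ :=
  ((aeval (fun j : Fin N => rename Sum.inr (esymm (Fin N) ℤ (j.1 + 1))) :
    RW N →ₐ[ℤ] MvPolynomial (Fin N ⊕ Fin N) ℤ) : RW N →+* MvPolynomial (Fin N ⊕ Fin N) ℤ)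

/-- `W_j ↦ e_{j+1}(U)`, `T_a ↦ T_a` -/
noncomputable def theta (N : ℕ) : SW N →+* MvPolynomial (Fin N ⊕ Fin N) ℤ :=
  eval₂Hom (thetaW N) (fun a => X (Sum.inl a))

theorem thetaW_wv (j : ℕ) (hj : j ≤ N) :
    thetaW N (wv N j) = rename Sum.inr (esymm (Fin N) ℤ j) := by
  rcases j with _ | j
  · rw [wv, map_one, esymm_zero, map_one]
  · rw [wv, dif_pos (by omega)]
    show aeval _ (X _) = _
    rw [aeval_X]

theorem map_theta_Fa (a : Fin N) :
    (Fa N a).map (theta N) =
      ∏ b : Fin N, (1 + Polynomial.C (X (Sum.inl a) * X (Sum.inr b)) * Polynomial.X) := by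
  unfold Fa
  rw [Polynomial.map_sum]
  have h := prod_one_add_mul (R := Polynomial (MvPolynomial (Fin N ⊕ Fin N) ℤ))
    (univ : Finset (Fin N)) (fun b => Polynomial.C (X (Sum.inr b)))
    (Polynomial.C (X (Sum.inl a)) * Polynomial.X)
  rw [Finset.card_univ, Fintype.card_fin] at h
  have h' : ∏ b : Fin N, (1 + Polynomial.C (X (Sum.inl a) * X (Sum.inr b)) * Polynomial.X :
      Polynomial (MvPolynomial (Fin N ⊕ Fin N) ℤ)) =
      ∏ b : Fin N, (1 + Polynomial.C (X (Sum.inr b)) *
        (Polynomial.C (X (Sum.inl a)) * Polynomial.X)) := by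
    refine Finset.prod_congr rfl fun b _ => ?_
    rw [map_mul]
    ring
  rw [h', h]
  refine Finset.sum_congr rfl fun j hj => ?_
  rw [Polynomial.map_mul, Polynomial.map_C, Polynomial.map_pow, Polynomial.map_X]
  have hj' : j ≤ N := by
    rw [Finset.mem_range] at hj
    omega
  have e1 : theta N (C (wv N j) * X a ^ j) =
      rename Sum.inr (esymm (Fin N) ℤ j) * X (Sum.inl a) ^ j := by
    unfold theta
    rw [map_mul, map_pow, eval₂Hom_C, eval₂Hom_X', thetaW_wv N j hj']
  have e2 : ((univ : Finset (Fin N)).val.map fun b =>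
      (Polynomial.C (X (Sum.inr b)) : Polynomial (MvPolynomial (Fin N ⊕ Fin N) ℤ))).esymm j =
      Polynomial.C (rename Sum.inr (esymm (Fin N) ℤ j)) := by
    rw [rename_eq_aeval' (R := ℤ) Sum.inr, aeval_esymm_eq_multiset_esymm, ← esymm_map_ringHom,
      Multiset.map_map]
    rfl
  rw [e1, e2, map_mul, map_pow, mul_pow]
  ring

theorem coeff_map_theta_Gp (n : ℕ) : theta N ((Gp N).coeff n) = mulGen N n := by
  rw [← Polynomial.coeff_map]
  unfold Gp
  rw [Polynomial.map_prod, Finset.prod_congr rfl fun a _ => map_theta_Fa N a]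
  unfold mulGen
  rw [← coeff_genPoly, genPoly_finset, ← Finset.univ_product_univ, Finset.prod_product]

theorem exists_q (n : ℕ) : ∃ q : SW N,
    aeval (fun k : Fin N => esymm (Fin N) (RW N) (k.1 + 1)) q = (Gp N).coeff n := by
  obtain ⟨q, hq⟩ := (esymmAlgHom_fin_bijective (RW N) N).2
    ⟨(Gp N).coeff n, coeff_Gp_symm N n⟩
  refine ⟨q, ?_⟩
  rw [← esymmAlgHom_apply, hq]

/-- outer variables to the left family, inner variables to the right family -/
noncomputable def iterS (N : ℕ) : SW N →+* MvPolynomial (Fin N ⊕ Fin N) ℤ :=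
  eval₂Hom ((rename Sum.inr : RW N →ₐ[ℤ] MvPolynomial (Fin N ⊕ Fin N) ℤ) :
    RW N →+* MvPolynomial (Fin N ⊕ Fin N) ℤ) (fun k => X (Sum.inl k))

theorem theta_esymm (r : ℕ) :
    theta N (esymm (Fin N) (RW N) r) = rename Sum.inl (esymm (Fin N) ℤ r) := by
  unfold esymm
  rw [map_sum, map_sum]
  refine Finset.sum_congr rfl fun s _ => ?_
  rw [map_prod, map_prod]
  refine Finset.prod_congr rfl fun a _ => ?_
  rw [rename_X]
  unfold theta
  rw [eval₂Hom_X']

theorem EN2_iterS (q : SW N) :
    EN2 ℤ N N (iterS N q) =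
      theta N (aeval (fun k : Fin N => esymm (Fin N) (RW N) (k.1 + 1)) q) := by
  have h : ((EN2 ℤ N N : MvPolynomial (Fin N ⊕ Fin N) ℤ →+* MvPolynomial (Fin N ⊕ Fin N) ℤ).comp
      (iterS N)) = (theta N).comp
      ((aeval (fun k : Fin N => esymm (Fin N) (RW N) (k.1 + 1)) : SW N →ₐ[RW N] SW N) :
        SW N →+* SW N) := by
    apply MvPolynomial.ringHom_ext
    · intro r
      have h2 : (((EN2 ℤ N N : MvPolynomial (Fin N ⊕ Fin N) ℤ →+*
          MvPolynomial (Fin N ⊕ Fin N) ℤ).comp (iterS N)).comp C) = ((theta N).comp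
          ((aeval (fun k : Fin N => esymm (Fin N) (RW N) (k.1 + 1)) : SW N →ₐ[RW N] SW N) :
            SW N →+* SW N)).comp C := by
        apply MvPolynomial.ringHom_ext
        · intro m
          simp
        · intro j
          simp [iterS, theta, thetaW, EN2]
      exact RingHom.congr_fun h2 r
    · intro k
      show EN2 ℤ N N (iterS N (X k)) = theta N (aeval _ (X k))
      rw [aeval_X, theta_esymm]
      unfold iterS EN2
      rw [eval₂Hom_X', aeval_X]
      rfl
  exact RingHom.congr_fun h q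

theorem exists_P_level (N n : ℕ) : ∃ P : MvPolynomial (Fin N ⊕ Fin N) ℤ,
    EN2 ℤ N N P = mulGen N n ∧ IsWeightedHomogeneous (w2 N) P ((n, n) : ℕ × ℕ) := by
  obtain ⟨q, hq⟩ := exists_q N n
  refine ⟨weightedHomogeneousComponent (w2 N) (n, n) (iterS N q), ?_,
    weightedHomogeneousComponent_isWeightedHomogeneous _ _⟩
  rw [← whc_EN2, EN2_iterS, hq, coeff_map_theta_Gp,
    weightedHomogeneousComponent_eq_self (mulGen_isWH N n)]

end ExistP

end Groth.Agent.Lib.LambdaUnivH1
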