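import Mathlib
import Groth.Agent.Lib.LambdaUnivB_helper1

/-!
# Universal polynomials of λ-rings, part D (helper1): the defining identities hold for families
of any size; evaluated forms.  APPEND-ONLY once landed.
-/

set_option autoImplicit false
universe u v

open MvPolynomial Finset

namespace Groth.Agent.Lib.LambdaUnivH1

open LambdaRing Groth.Agent.Lib.LambdaInvH1 Groth.Agent.Lib.LambdaGAH1

theorem map_esymm_finset {F R S ι : Type*} [CommRing R] [CommRing S] [FunLike F R S]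
    [RingHomClass F R S] (φ : F) (s : Finset ι) (f : ι → R) (n : ℕ) :
    φ ((s.val.map f).esymm n) = (s.val.map (fun i => φ (f i))).esymm n := by
  rw [Finset.esymm_map_val, Finset.esymm_map_val, map_sum]
  refine Finset.sum_congr rfl fun t _ => ?_
  rw [map_prod]

section ExtQ

theorem vars_of_wt {M m w : ℕ} (Q' : MvPolynomial (Fin (M + m)) ℤ)
    (h2 : IsWeightedHomogeneous (wt (M + m)) Q' w) (hM : w ≤ M) :
    (Q'.vars : Set (Fin (M + m))) ⊆ Set.range (Fin.castAdd m) := by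
  intro v hv
  rw [Finset.mem_coe, mem_vars_iff_mem_support] at hv
  obtain ⟨d, hd, hvd⟩ := hv
  have hw : Finsupp.weight (wt (M + m)) d = w := h2 (mem_support_iff.1 hd)
  have hle : wt (M + m) v ≤ Finsupp.weight (wt (M + m)) d :=
    Finsupp.le_weight_of_ne_zero' _ (Finsupp.mem_support_iff.1 hvd)
  have hv' : v.1 < M := by
    have h3 : v.1 + 1 ≤ w := by
      rw [← hw]
      exact hle
    omega
  exact ⟨⟨v.1, hv'⟩, Fin.ext rfl⟩

theorem comp_ext_up (i j M m : ℕ) (Q : MvPolynomial (Fin M) ℤ) (hQ : TT M Q = compGen M i j)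
    (hM : i * j ≤ M) :
    aeval (fun k : Fin M => esymm (Fin (M + m)) ℤ (k.1 + 1)) Q = compGen (M + m) i j := by
  obtain ⟨Q', h1, h2⟩ := exists_Q_level (M + m) i j
  obtain ⟨Q'', hQ''⟩ := exists_rename_eq_of_vars_subset_range Q' (Fin.castAdd m)
    (Fin.castAdd_injective M m) (vars_of_wt Q' h2 hM)
  have hTT : ∀ q : MvPolynomial (Fin M) ℤ, TT (M + m) (rename (Fin.castAdd m) q) =
      aeval (fun k : Fin M => esymm (Fin (M + m)) ℤ (k.1 + 1)) q := by
    intro q
    unfold TT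
    rw [aeval_rename]
    rfl
  have hkill : ∀ q : MvPolynomial (Fin M) ℤ,
      kill ℤ M m (aeval (fun k : Fin M => esymm (Fin (M + m)) ℤ (k.1 + 1)) q) = TT M q := by
    intro q
    rw [comp_aeval_apply]
    unfold TT
    congr 2
    funext k
    exact kill_esymm M m (k.1 + 1)
  have h3 : TT M Q'' = compGen M i j := by
    rw [← hkill, ← hTT, hQ'', h1, kill_compGen]
  have h4 : Q'' = Q := TT_injective M (h3.trans hQ.symm)
  rw [← h4, ← hTT, hQ'', h1]

theorem comp_ext_down (i j M N m : ℕ) (hM : M = N + m) (Q : MvPolynomial (Fin M) ℤ)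
    (hQ : TT M Q = compGen M i j) :
    aeval (fun k : Fin M => esymm (Fin N) ℤ (k.1 + 1)) Q = compGen N i j := by
  subst hM
  have h := congrArg (kill ℤ N m) hQ
  rw [kill_compGen] at h
  rw [← h]
  unfold TT
  rw [comp_aeval_apply]
  congr 2
  funext k
  exact (kill_esymm N m (k.1 + 1)).symm

theorem compPoly_sym (i j : ℕ) (Q : MvPolynomial (Fin (i * j)) ℤ) (hQ : IsCompPoly i j Q)
    (N : ℕ) :
    aeval (fun k : Fin (i * j) => esymm (Fin N) ℤ (k.1 + 1)) Q = compGen N i j := by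
  rcases le_total (i * j) N with h | h
  · obtain ⟨m, rfl⟩ := Nat.exists_eq_add_of_le h
    exact comp_ext_up i j (i * j) m Q hQ.1 le_rfl
  · obtain ⟨m, hm⟩ := Nat.exists_eq_add_of_le h
    exact comp_ext_down i j (i * j) N m hm Q hQ.1

theorem compPoly_eval {A : Type*} [CommRing A] (i j : ℕ) (Q : MvPolynomial (Fin (i * j)) ℤ)
    (hQ : IsCompPoly i j Q) (N : ℕ) (t : Fin N → A) :
    aeval (fun k : Fin (i * j) => ((univ : Finset (Fin N)).val.map t).esymm (k.1 + 1)) Q =
      (((univ : Finset (Fin N)).powersetCard i).val.map fun s => ∏ a ∈ s, t a).esymm j := by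
  have h := congrArg (aeval t : MvPolynomial (Fin N) ℤ →ₐ[ℤ] A) (compPoly_sym i j Q hQ N)
  rw [comp_aeval_apply] at h
  have hl : (fun k : Fin (i * j) => aeval t (esymm (Fin N) ℤ (k.1 + 1))) =
      fun k : Fin (i * j) => ((univ : Finset (Fin N)).val.map t).esymm (k.1 + 1) := by
    funext k
    rw [aeval_esymm_eq_multiset_esymm]
  rw [hl] at h
  rw [h]
  unfold compGen
  rw [map_esymm_finset]
  congr 2
  funext s
  rw [map_prod]
  refine Finset.prod_congr rfl fun a _ => ?_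
  rw [aeval_X]

end ExtQ

section ExtP

theorem vars_of_w2 {M m n : ℕ} (P' : MvPolynomial (Fin (M + m) ⊕ Fin (M + m)) ℤ)
    (h2 : IsWeightedHomogeneous (w2 (M + m)) P' ((n, n) : ℕ × ℕ)) (hM : n ≤ M) :
    (P'.vars : Set (Fin (M + m) ⊕ Fin (M + m))) ⊆
      Set.range (Sum.map (Fin.castAdd m) (Fin.castAdd m)) := by
  intro v hv
  rw [Finset.mem_coe, mem_vars_iff_mem_support] at hv
  obtain ⟨d, hd, hvd⟩ := hv
  have hw : Finsupp.weight (w2 (M + m)) d = (n, n) := h2 (mem_support_iff.1 hd)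
  have hle : w2 (M + m) v ≤ Finsupp.weight (w2 (M + m)) d :=
    Finsupp.le_weight_of_ne_zero (fun s => Prod.le_def.2 ⟨Nat.zero_le _, Nat.zero_le _⟩)
      (Finsupp.mem_support_iff.1 hvd)
  rw [hw] at hle
  rcases v with v | v
  · have hv' : v.1 < M := by
      have h3 : v.1 + 1 ≤ n := (Prod.le_def.1 hle).1
      omega
    exact ⟨Sum.inl ⟨v.1, hv'⟩, congrArg Sum.inl (Fin.ext rfl)⟩
  · have hv' : v.1 < M := by
      have h3 : v.1 + 1 ≤ n := (Prod.le_def.1 hle).2
      omega
    exact ⟨Sum.inr ⟨v.1, hv'⟩, congrArg Sum.inr (Fin.ext rfl)⟩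

theorem mul_ext_up (n M m : ℕ) (P : MvPolynomial (Fin M ⊕ Fin M) ℤ)
    (hP : EN2 ℤ M M P = mulGen M n) (hM : n ≤ M) :
    EN2 ℤ (M + m) M P = mulGen (M + m) n := by
  obtain ⟨P', h1, h2⟩ := exists_P_level (M + m) n
  obtain ⟨P'', hP''⟩ := exists_rename_eq_of_vars_subset_range P'
    (Sum.map (Fin.castAdd m) (Fin.castAdd m))
    (Sum.map_injective.2 ⟨Fin.castAdd_injective M m, Fin.castAdd_injective M m⟩)
    (vars_of_w2 P' h2 hM)
  have hEN : ∀ q : MvPolynomial (Fin M ⊕ Fin M) ℤ,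
      EN2 ℤ (M + m) (M + m) (rename (Sum.map (Fin.castAdd m) (Fin.castAdd m)) q) =
        EN2 ℤ (M + m) M q := by
    intro q
    unfold EN2
    rw [aeval_rename]
    congr 2
    funext v
    rcases v with v | v <;> rfl
  have hkill : ∀ q : MvPolynomial (Fin M ⊕ Fin M) ℤ,
      kill2 ℤ M m (EN2 ℤ (M + m) M q) = EN2 ℤ M M q := by
    intro q
    unfold EN2
    rw [comp_aeval_apply]
    congr 2
    funext v
    rcases v with v | v
    · exact kill2_inl_esymm M m (v.1 + 1)
    · exact kill2_inr_esymm M m (v.1 + 1)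
  have h3 : EN2 ℤ M M P'' = mulGen M n := by
    rw [← hkill, ← hEN, hP'', h1, kill2_mulGen]
  have h4 : P'' = P := EN2_injective ℤ le_rfl (h3.trans hP.symm)
  rw [← h4, ← hEN, hP'', h1]

theorem mul_ext_down (n M N m : ℕ) (hM : M = N + m) (P : MvPolynomial (Fin M ⊕ Fin M) ℤ)
    (hP : EN2 ℤ M M P = mulGen M n) :
    EN2 ℤ N M P = mulGen N n := by
  subst hM
  have h := congrArg (kill2 ℤ N m) hP
  rw [kill2_mulGen] at h
  rw [← h]
  unfold EN2
  rw [comp_aeval_apply]
  congr 2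
  funext v
  rcases v with v | v
  · exact (kill2_inl_esymm N m (v.1 + 1)).symm
  · exact (kill2_inr_esymm N m (v.1 + 1)).symm

theorem mulPoly_sym (n : ℕ) (P : MvPolynomial (Fin n ⊕ Fin n) ℤ) (hP : IsMulPoly n P) (N : ℕ) :
    EN2 ℤ N n P = mulGen N n := by
  rcases le_total n N with h | h
  · obtain ⟨m, rfl⟩ := Nat.exists_eq_add_of_le h
    exact mul_ext_up n n m P hP.1 le_rfl
  · obtain ⟨m, hm⟩ := Nat.exists_eq_add_of_le h
    exact mul_ext_down n n N m hm P hP.1

theorem mulPoly_eval {A : Type*} [CommRing A] (n : ℕ) (P : MvPolynomial (Fin n ⊕ Fin n) ℤ)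
    (hP : IsMulPoly n P) (N : ℕ) (t u : Fin N → A) :
    aeval (Sum.elim (fun k : Fin n => ((univ : Finset (Fin N)).val.map t).esymm (k.1 + 1))
      (fun k : Fin n => ((univ : Finset (Fin N)).val.map u).esymm (k.1 + 1))) P =
      ((univ : Finset (Fin N × Fin N)).val.map fun ab => t ab.1 * u ab.2).esymm n := by
  have h := congrArg (aeval (Sum.elim t u) : MvPolynomial (Fin N ⊕ Fin N) ℤ →ₐ[ℤ] A)
    (mulPoly_sym n P hP N)
  unfold EN2 at h
  rw [comp_aeval_apply] at h
  have hl : (fun v : Fin n ⊕ Fin n => aeval (Sum.elim t u)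
      (Sum.elim (fun k : Fin n => rename Sum.inl (esymm (Fin N) ℤ (k.1 + 1)))
        (fun k : Fin n => rename Sum.inr (esymm (Fin N) ℤ (k.1 + 1))) v)) =
      Sum.elim (fun k : Fin n => ((univ : Finset (Fin N)).val.map t).esymm (k.1 + 1))
        (fun k : Fin n => ((univ : Finset (Fin N)).val.map u).esymm (k.1 + 1)) := by
    funext v
    rcases v with k | k
    · show aeval (Sum.elim t u) (rename Sum.inl (esymm (Fin N) ℤ (k.1 + 1))) = _
      rw [aeval_rename, aeval_esymm_eq_multiset_esymm]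
      rfl
    · show aeval (Sum.elim t u) (rename Sum.inr (esymm (Fin N) ℤ (k.1 + 1))) = _
      rw [aeval_rename, aeval_esymm_eq_multiset_esymm]
      rfl
  rw [hl] at h
  rw [h]
  unfold mulGen
  rw [map_esymm_finset]
  congr 2
  funext ab
  rw [map_mul, aeval_X, aeval_X]
  rfl

end ExtP

end Groth.Agent.Lib.LambdaUnivH1
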