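import Mathlib
import Groth.Agent.Lib.LambdaUnivD_helper1
import Groth.Agent.Lib.LambdaAdams_helper1

/-!
# Universal polynomials of λ-rings, part E (helper1): Newton's recursions as operations
on sequences, naturality, multiset forms.  APPEND-ONLY once landed.
-/

set_option autoImplicit false
universe u v

open MvPolynomial Finset

namespace Groth.Agent.Lib.LambdaUnivH1

open LambdaRing Groth.Agent.Lib.LambdaInvH1 Groth.Agent.Lib.LambdaGAH1
  Groth.Agent.Lib.LambdaAdamsH1

section PsiRec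

variable {A : Type*} [CommRing A]

/-- power sums from elementary symmetric functions by Newton's recursion -/
noncomputable def psiRec (L : ℕ → A) : ℕ → A
  | 0 => 0
  | (n + 1) => (-1) ^ n * (((n + 1 : ℕ) : A) * L (n + 1) -
      ∑ i : Fin n, (-1) ^ (i : ℕ) * psiRec L (i + 1) * L (n - i))
decreasing_by omega

theorem psiRec_zero (L : ℕ → A) : psiRec L 0 = 0 := by rw [psiRec]

theorem psiRec_succ (L : ℕ → A) (n : ℕ) :
    psiRec L (n + 1) = (-1) ^ n * (((n + 1 : ℕ) : A) * L (n + 1) -
      ∑ i ∈ range n, (-1) ^ i * psiRec L (i + 1) * L (n - i)) := by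
  rw [psiRec, Fin.sum_univ_eq_sum_range (fun i => (-1) ^ i * psiRec L (i + 1) * L (n - i)) n]

theorem psiRec_spec (L : ℕ → A) (hL0 : L 0 = 1) (n : ℕ) :
    ((n + 1 : ℕ) : A) * L (n + 1) =
      ∑ i ∈ range (n + 1), (-1) ^ i * psiRec L (i + 1) * L (n - i) := by
  rw [Finset.sum_range_succ, Nat.sub_self, hL0, mul_one, psiRec_succ, ← mul_assoc,
    neg_one_pow_mul_self, one_mul]
  ring

theorem psiRec_unique (L : ℕ → A) (hL0 : L 0 = 1) (p : ℕ → A)
    (hp : ∀ n, ((n + 1 : ℕ) : A) * L (n + 1) =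
      ∑ i ∈ range (n + 1), (-1) ^ i * p (i + 1) * L (n - i)) :
    ∀ k, 1 ≤ k → p k = psiRec L k := by
  intro k
  induction k using Nat.strong_induction_on with
  | _ k ih =>
    intro hk
    obtain ⟨n, rfl⟩ : ∃ n, k = n + 1 := ⟨k - 1, by omega⟩
    have h1 := hp n
    have h2 := psiRec_spec L hL0 n
    rw [h1, Finset.sum_range_succ, Finset.sum_range_succ, Nat.sub_self, hL0, mul_one,
      mul_one] at h2
    have h3 : ∑ i ∈ range n, (-1) ^ i * p (i + 1) * L (n - i) =
        ∑ i ∈ range n, (-1) ^ i * psiRec L (i + 1) * L (n - i) := by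
      refine Finset.sum_congr rfl fun i hi => ?_
      rw [ih (i + 1) (by rw [Finset.mem_range] at hi; omega) (by omega)]
    rw [h3] at h2
    have h4 : (-1 : A) ^ n * p (n + 1) = (-1) ^ n * psiRec L (n + 1) := add_left_cancel h2
    have h5 := congrArg (fun z => (-1 : A) ^ n * z) h4
    simp only [← mul_assoc, neg_one_pow_mul_self, one_mul] at h5
    exact h5

theorem map_psiRec {B : Type*} [CommRing B] (φ : A →+* B) (L : ℕ → A) (k : ℕ) :
    φ (psiRec L k) = psiRec (fun j => φ (L j)) k := by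
  induction k using Nat.strong_induction_on with
  | _ k ih =>
    rcases k with _ | n
    · rw [psiRec_zero, psiRec_zero, map_zero]
    · rw [psiRec_succ, psiRec_succ, map_mul, map_pow, map_neg, map_one, map_sub, map_mul,
        map_natCast, map_sum]
      congr 2
      refine Finset.sum_congr rfl fun i hi => ?_
      rw [map_mul, map_mul, map_pow, map_neg, map_one,
        ih (i + 1) (by rw [Finset.mem_range] at hi; omega)]

theorem psiRec_congr (L L' : ℕ → A) (h : ∀ j, L j = L' j) (k : ℕ) : psiRec L k = psiRec L' k := by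
  have : L = L' := funext h
  rw [this]

end PsiRec

section LamRecSeq

variable {A : Type*} [CommRing A] [Algebra ℚ A]

/-- elementary symmetric functions from power sums by Newton's recursion -/
noncomputable def lamRecSeq (p : ℕ → A) : ℕ → A
  | 0 => 1
  | (n + 1) => ((n + 1 : ℚ)⁻¹) •
      ∑ i : Fin (n + 1), (-1) ^ (i : ℕ) * p (i + 1) * lamRecSeq p (n - i)
decreasing_by omega

theorem lamRecSeq_zero (p : ℕ → A) : lamRecSeq p 0 = 1 := by rw [lamRecSeq]

theorem lamRecSeq_succ (p : ℕ → A) (n : ℕ) :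
    lamRecSeq p (n + 1) = ((n + 1 : ℚ)⁻¹) •
      ∑ i ∈ range (n + 1), (-1) ^ i * p (i + 1) * lamRecSeq p (n - i) := by
  rw [lamRecSeq, Fin.sum_univ_eq_sum_range
    (fun i => (-1) ^ i * p (i + 1) * lamRecSeq p (n - i)) (n + 1)]

theorem lamRecSeq_spec (p : ℕ → A) (n : ℕ) :
    ((n + 1 : ℕ) : A) * lamRecSeq p (n + 1) =
      ∑ i ∈ range (n + 1), (-1) ^ i * p (i + 1) * lamRecSeq p (n - i) := by
  rw [lamRecSeq_succ]
  have hn : (((n + 1 : ℕ) : A)) = algebraMap ℚ A ((n : ℚ) + 1) := by simp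
  rw [hn, ← Algebra.smul_def, smul_smul, mul_inv_cancel₀ (by positivity), one_smul]

theorem lamRecSeq_unique (p : ℕ → A) (l : ℕ → A) (h0 : l 0 = 1)
    (hl : ∀ n, ((n + 1 : ℕ) : A) * l (n + 1) =
      ∑ i ∈ range (n + 1), (-1) ^ i * p (i + 1) * l (n - i)) :
    ∀ n, l n = lamRecSeq p n := by
  intro n
  induction n using Nat.strong_induction_on with
  | _ n ih =>
    rcases n with _ | n
    · rw [h0, lamRecSeq_zero]
    · apply (isUnit_natCast_succ A n).mul_right_injective
      show ((n + 1 : ℕ) : A) * l (n + 1) = ((n + 1 : ℕ) : A) * lamRecSeq p (n + 1)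
      rw [hl, lamRecSeq_spec]
      refine Finset.sum_congr rfl fun i hi => ?_
      rw [ih (n - i) (by omega)]

theorem map_lamRecSeq {B : Type*} [CommRing B] [Algebra ℚ B] (φ : A →+* B) (p : ℕ → A) (n : ℕ) :
    φ (lamRecSeq p n) = lamRecSeq (fun k => φ (p k)) n := by
  refine lamRecSeq_unique (fun k => φ (p k)) (fun n => φ (lamRecSeq p n)) ?_ ?_ n
  · show φ (lamRecSeq p 0) = 1
    rw [lamRecSeq_zero, map_one]
  · intro n
    show ((n + 1 : ℕ) : B) * φ (lamRecSeq p (n + 1)) = _
    have h := congrArg φ (lamRecSeq_spec p n)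
    rw [map_mul, map_natCast, map_sum] at h
    rw [h]
    refine Finset.sum_congr rfl fun i _ => ?_
    rw [map_mul, map_mul, map_pow, map_neg, map_one]

theorem lamRecSeq_congr (p p' : ℕ → A) (h : ∀ k, 1 ≤ k → p k = p' k) (n : ℕ) :
    lamRecSeq p n = lamRecSeq p' n := by
  refine lamRecSeq_unique p' (lamRecSeq p) (lamRecSeq_zero p) ?_ n
  intro n
  rw [lamRecSeq_spec]
  refine Finset.sum_congr rfl fun i _ => ?_
  rw [h (i + 1) (by omega)]

end LamRecSeq

section Adams

variable {K : Type u} [CommRing K] [LambdaOps K]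

theorem adamsOp_eq_psiRec (x : K) (k : ℕ) (hk : 1 ≤ k) :
    adamsOp k x = psiRec (fun j => LambdaOps.lam j x) k :=
  psiRec_unique (fun j => LambdaOps.lam j x) (LambdaOps.lam_zero x) (fun k => adamsOp k x)
    (fun n => newton x n) k hk

theorem lam_eq_lamRecSeq [Algebra ℚ K] (x : K) (n : ℕ) :
    LambdaOps.lam n x = lamRecSeq (fun k => adamsOp k x) n :=
  lamRecSeq_unique (fun k => adamsOp k x) (fun n => LambdaOps.lam n x) (LambdaOps.lam_zero x)
    (fun n => newton x n) n

end Adams

section NewtonPoly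

theorem newton_range (σ : Type*) [Fintype σ] (R : Type*) [CommRing R] (n : ℕ) :
    ((n + 1 : ℕ) : MvPolynomial σ R) * esymm σ R (n + 1) =
      ∑ i ∈ range (n + 1), (-1) ^ i * psum σ R (i + 1) * esymm σ R (n - i) := by
  have h := mul_esymm_eq_sum σ R (n + 1)
  rw [Finset.sum_filter, Finset.Nat.sum_antidiagonal_eq_sum_range_succ_mk,
    Finset.sum_range_succ] at h
  rw [if_neg (lt_irrefl _), add_zero] at h
  rw [h, Finset.mul_sum, ← Finset.sum_range_reflect]
  refine Finset.sum_congr rfl fun i hi => ?_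
  have hi' : i ≤ n := by
    rw [Finset.mem_range] at hi
    omega
  have e1 : n + 1 - 1 - i = n - i := by omega
  have e2 : n + 1 - (n - i) = i + 1 := by omega
  rw [e1, if_pos (by omega), e2]
  have hs : ((-1 : MvPolynomial σ R)) ^ (n + 1 + 1) * (-1) ^ (n - i) = (-1) ^ i := by
    rw [← pow_add]
    have e3 : n + 1 + 1 + (n - i) = i + 2 * (n + 1 - i) := by omega
    rw [e3, pow_add, pow_mul, neg_one_sq, one_pow, mul_one]
  calc (-1 : MvPolynomial σ R) ^ (n + 1 + 1) *
        ((-1) ^ (n - i) * esymm σ R (n - i) * psum σ R (i + 1))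
      = ((-1) ^ (n + 1 + 1) * (-1) ^ (n - i)) * esymm σ R (n - i) * psum σ R (i + 1) := by
        ring
    _ = (-1) ^ i * psum σ R (i + 1) * esymm σ R (n - i) := by
        rw [hs]
        ring

theorem psum_eq_psiRec (σ : Type*) [Fintype σ] (R : Type*) [CommRing R] (k : ℕ) (hk : 1 ≤ k) :
    psum σ R k = psiRec (fun j => esymm σ R j) k :=
  psiRec_unique (fun j => esymm σ R j) (esymm_zero σ R) (fun k => psum σ R k)
    (fun n => newton_range σ R n) k hk

theorem esymm_eq_lamRecSeq (σ : Type*) [Fintype σ] (R : Type*) [CommRing R] [Algebra ℚ R]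
    (n : ℕ) : esymm σ R n = lamRecSeq (fun k => psum σ R k) n :=
  lamRecSeq_unique (fun k => psum σ R k) (fun n => esymm σ R n) (esymm_zero σ R)
    (fun n => newton_range σ R n) n

end NewtonPoly

section MultisetForms

variable {A : Type*} [CommRing A] {ι : Type*}

theorem univ_val_map_subtype (s : Finset ι) (f : ι → A) :
    ((univ : Finset s).val.map fun i : s => f i) = s.val.map f := by
  rw [Finset.univ_eq_attach, Finset.attach_val]
  exact Multiset.attach_map_val' s.val f

theorem psiRec_esymm_finset (s : Finset ι) (f : ι → A) (k : ℕ) (hk : 1 ≤ k) :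
    psiRec (fun j => (s.val.map f).esymm j) k = ∑ i ∈ s, f i ^ k := by
  let φ : MvPolynomial s ℤ →ₐ[ℤ] A := aeval (fun i : s => f i)
  have h1 : ∀ j, φ (esymm s ℤ j) = (s.val.map f).esymm j := fun j => by
    show aeval (fun i : s => f i) (esymm s ℤ j) = _
    rw [aeval_esymm_eq_multiset_esymm, univ_val_map_subtype]
  have h2 : φ (psum s ℤ k) = ∑ i ∈ s, f i ^ k := by
    show aeval (fun i : s => f i) (psum s ℤ k) = _
    unfold psum
    rw [map_sum, ← Finset.sum_coe_sort s (fun i => f i ^ k)]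
    refine Finset.sum_congr rfl fun i _ => ?_
    rw [map_pow, aeval_X]
  rw [← h2, psum_eq_psiRec s ℤ k hk, ← RingHom.coe_coe, map_psiRec]
  apply psiRec_congr
  intro j
  exact (h1 j).symm

theorem lamRecSeq_psum_finset [Algebra ℚ A] (s : Finset ι) (f : ι → A) (n : ℕ) :
    lamRecSeq (fun k => ∑ i ∈ s, f i ^ k) n = (s.val.map f).esymm n := by
  let φ : MvPolynomial s ℚ →ₐ[ℚ] A := aeval (fun i : s => f i)
  have h1 : φ (esymm s ℚ n) = (s.val.map f).esymm n := by
    show aeval (fun i : s => f i) (esymm s ℚ n) = _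
    rw [aeval_esymm_eq_multiset_esymm, univ_val_map_subtype]
  have h2 : ∀ k, φ (psum s ℚ k) = ∑ i ∈ s, f i ^ k := fun k => by
    show aeval (fun i : s => f i) (psum s ℚ k) = _
    unfold psum
    rw [map_sum, ← Finset.sum_coe_sort s (fun i => f i ^ k)]
    refine Finset.sum_congr rfl fun i _ => ?_
    rw [map_pow, aeval_X]
  rw [← h1, esymm_eq_lamRecSeq s ℚ n, ← RingHom.coe_coe, map_lamRecSeq]
  apply lamRecSeq_congr
  intro k _
  exact (h2 k).symm

end MultisetForms

end Groth.Agent.Lib.LambdaUnivH1
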