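import Mathlib
import Groth.Agent.Lib.LambdaUnivE_helper1

/-!
# Universal polynomials of λ-rings, part F (helper1): operations as polynomials, the
verification principle, Adams operations of special λ-rings.  APPEND-ONLY once landed.
-/

set_option autoImplicit false
universe u v

open MvPolynomial Finset

namespace Groth.Agent.Lib.LambdaUnivH1

open LambdaRing Groth.Agent.Lib.LambdaInvH1 Groth.Agent.Lib.LambdaGAH1
  Groth.Agent.Lib.LambdaAdamsH1 Groth.Agent.Lib.LambdaRingH1

section Ops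

variable (R : Type u) [CommRing R]

/-- `Lv 0 = 1`, `Lv (j+1) = X (ι j)` -/
noncomputable def Lv {σ : Type*} (ι : ℕ → σ) : ℕ → MvPolynomial σ R
  | 0 => 1
  | (j + 1) => X (ι j)

/-- prepend `1` to a sequence -/
def seq1 {A : Type*} [One A] (a : ℕ → A) : ℕ → A
  | 0 => 1
  | (j + 1) => a j

theorem aeval_Lv {σ : Type*} {A : Type*} [CommRing A] [Algebra R A] (ι : ℕ → σ) (g : σ → A)
    (j : ℕ) : aeval g (Lv R ι j) = seq1 (fun j => g (ι j)) j := by
  rcases j with _ | j
  · rw [Lv, seq1, map_one]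
  · rw [Lv, seq1, aeval_X]

theorem seq1_eq {A : Type*} [One A] (b : ℕ → A) (h0 : b 0 = 1) :
    seq1 (fun j => b (j + 1)) = b := by
  funext j
  rcases j with _ | j
  · rw [seq1, h0]
  · rw [seq1]

/-- symmetric realisation in `N` variables -/
noncomputable def symN (N : ℕ) : MvPolynomial ℕ R →ₐ[R] MvPolynomial (Fin N) R :=
  aeval (fun j => esymm (Fin N) R (j + 1))

/-- symmetric realisation in two families of `N` variables -/
noncomputable def sym2N (N : ℕ) :
    MvPolynomial (ℕ ⊕ ℕ) R →ₐ[R] MvPolynomial (Fin N ⊕ Fin N) R :=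
  aeval (Sum.elim (fun j => rename Sum.inl (esymm (Fin N) R (j + 1)))
    (fun j => rename Sum.inr (esymm (Fin N) R (j + 1))))

theorem symN_rename (N : ℕ) (q : MvPolynomial (Fin N) R) :
    symN R N (rename Fin.val q) = EN R N N q := by
  unfold symN EN
  rw [aeval_rename]
  rfl

theorem sym2N_rename (N n : ℕ) (q : MvPolynomial (Fin n ⊕ Fin n) R) :
    sym2N R N (rename (Sum.map Fin.val Fin.val) q) = EN2 R N n q := by
  unfold sym2N EN2
  rw [aeval_rename]
  congr 2
  funext v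
  rcases v with v | v <;> rfl

theorem symN_rename' (N n : ℕ) (q : MvPolynomial (Fin n) R) :
    symN R N (rename Fin.val q) = aeval (fun k : Fin n => esymm (Fin N) R (k.1 + 1)) q := by
  unfold symN
  rw [aeval_rename]
  rfl

theorem op_ext (f g : MvPolynomial ℕ R) (h : ∀ N, symN R N f = symN R N g) : f = g := by
  rw [← sub_eq_zero]
  set d := f - g with hd
  have hd0 : ∀ N, symN R N d = 0 := fun N => by rw [hd, map_sub, h N, sub_self]
  let N := d.vars.sup id + 1
  have hv : (d.vars : Set ℕ) ⊆ Set.range (Fin.val : Fin N → ℕ) := by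
    intro v hv
    have h1 : v ≤ d.vars.sup id := Finset.le_sup (f := id) (Finset.mem_coe.1 hv)
    exact ⟨⟨v, Nat.lt_succ_of_le h1⟩, rfl⟩
  obtain ⟨d', hd'⟩ := exists_rename_eq_of_vars_subset_range d (Fin.val : Fin N → ℕ)
    Fin.val_injective hv
  have h2 := hd0 N
  rw [← hd', symN_rename] at h2
  have h3 : d' = 0 := EN_injective R le_rfl (h2.trans (map_zero _).symm)
  rw [← hd', h3, map_zero]

theorem op2_ext (f g : MvPolynomial (ℕ ⊕ ℕ) R) (h : ∀ N, sym2N R N f = sym2N R N g) : f = g := by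
  rw [← sub_eq_zero]
  set d := f - g with hd
  have hd0 : ∀ N, sym2N R N d = 0 := fun N => by rw [hd, map_sub, h N, sub_self]
  let N := d.vars.sup (Sum.elim id id) + 1
  have hv : (d.vars : Set (ℕ ⊕ ℕ)) ⊆
      Set.range (Sum.map (Fin.val : Fin N → ℕ) (Fin.val : Fin N → ℕ)) := by
    intro v hv
    have h1 : Sum.elim id id v ≤ d.vars.sup (Sum.elim id id) :=
      Finset.le_sup (f := Sum.elim id id) (Finset.mem_coe.1 hv)
    rcases v with v | v
    · exact ⟨Sum.inl ⟨v, Nat.lt_succ_of_le h1⟩, rfl⟩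
    · exact ⟨Sum.inr ⟨v, Nat.lt_succ_of_le h1⟩, rfl⟩
  obtain ⟨d', hd'⟩ := exists_rename_eq_of_vars_subset_range d
    (Sum.map (Fin.val : Fin N → ℕ) (Fin.val : Fin N → ℕ))
    (Sum.map_injective.2 ⟨Fin.val_injective, Fin.val_injective⟩) hv
  have h2 := hd0 N
  rw [← hd', sym2N_rename] at h2
  have h3 : d' = 0 := EN2_injective R le_rfl (h2.trans (map_zero _).symm)
  rw [← hd', h3, map_zero]

theorem symN_Lv (N j : ℕ) :
    symN R N (Lv R id j) = ((univ : Finset (Fin N)).val.map fun a => (X a : MvPolynomial (Fin N) R)).esymm j := by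
  unfold symN
  rw [aeval_Lv, ← esymm_eq_multiset_esymm]
  rcases j with _ | j
  · rw [seq1, esymm_zero]
  · rw [seq1]
    rfl

theorem sym2N_Lv_inl (N j : ℕ) :
    sym2N R N (Lv R Sum.inl j) = ((univ : Finset (Fin N)).val.map
      fun a => (X (Sum.inl a) : MvPolynomial (Fin N ⊕ Fin N) R)).esymm j := by
  unfold sym2N
  rw [aeval_Lv]
  rcases j with _ | j
  · rw [seq1, esymm_zero']
  · rw [seq1]
    show rename Sum.inl (esymm (Fin N) R (j + 1)) = _
    rw [rename_eq_aeval' (R := R) Sum.inl, aeval_esymm_eq_multiset_esymm]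

theorem sym2N_Lv_inr (N j : ℕ) :
    sym2N R N (Lv R Sum.inr j) = ((univ : Finset (Fin N)).val.map
      fun a => (X (Sum.inr a) : MvPolynomial (Fin N ⊕ Fin N) R)).esymm j := by
  unfold sym2N
  rw [aeval_Lv]
  rcases j with _ | j
  · rw [seq1, esymm_zero']
  · rw [seq1]
    show rename Sum.inr (esymm (Fin N) R (j + 1)) = _
    rw [rename_eq_aeval' (R := R) Sum.inr, aeval_esymm_eq_multiset_esymm]

end Ops

section Ev

variable (R : Type u) [CommRing R] {K : Type v} [CommRing K] [LambdaOps K] [Algebra R K]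

/-- evaluation of an operation at an element -/
noncomputable def ev (x : K) : MvPolynomial ℕ R →ₐ[R] K :=
  aeval (fun j => LambdaOps.lam (j + 1) x)

/-- evaluation of a two-variable operation -/
noncomputable def ev2 (x y : K) : MvPolynomial (ℕ ⊕ ℕ) R →ₐ[R] K :=
  aeval (Sum.elim (fun j => LambdaOps.lam (j + 1) x) (fun j => LambdaOps.lam (j + 1) y))

theorem ev_Lv (x : K) (j : ℕ) : ev R x (Lv R id j) = LambdaOps.lam j x := by
  unfold ev
  rw [aeval_Lv]
  exact congrFun (seq1_eq (fun j => LambdaOps.lam j x) (LambdaOps.lam_zero x)) j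

theorem ev2_Lv_inl (x y : K) (j : ℕ) : ev2 R x y (Lv R Sum.inl j) = LambdaOps.lam j x := by
  unfold ev2
  rw [aeval_Lv]
  exact congrFun (seq1_eq (fun j => LambdaOps.lam j x) (LambdaOps.lam_zero x)) j

theorem ev2_Lv_inr (x y : K) (j : ℕ) : ev2 R x y (Lv R Sum.inr j) = LambdaOps.lam j y := by
  unfold ev2
  rw [aeval_Lv]
  exact congrFun (seq1_eq (fun j => LambdaOps.lam j y) (LambdaOps.lam_zero y)) j

end Ev

section Special

variable {K : Type v} [CommRing K] [LambdaOps K]

/-- chosen universal polynomials -/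
noncomputable def Pn (n : ℕ) : MvPolynomial (Fin n ⊕ Fin n) ℤ := (exists_P_level n n).choose

theorem isMulPoly_Pn (n : ℕ) : IsMulPoly n (Pn n) :=
  ⟨(exists_P_level n n).choose_spec.1, (exists_P_level n n).choose_spec.2⟩

/-- chosen universal polynomials -/
noncomputable def Qn (i j : ℕ) : MvPolynomial (Fin (i * j)) ℤ := (exists_Q_level (i * j) i j).choose

theorem isCompPoly_Qn (i j : ℕ) : IsCompPoly i j (Qn i j) :=
  ⟨(exists_Q_level (i * j) i j).choose_spec.1, (exists_Q_level (i * j) i j).choose_spec.2⟩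

/-- `P_n` as a two-variable operation -/
noncomputable def Ph (n : ℕ) : MvPolynomial (ℕ ⊕ ℕ) ℤ := rename (Sum.map Fin.val Fin.val) (Pn n)

/-- `Q_{i,j}` as an operation -/
noncomputable def Qh (i j : ℕ) : MvPolynomial ℕ ℤ := rename Fin.val (Qn i j)

theorem sym2N_Ph (N n : ℕ) : sym2N ℤ N (Ph n) = mulGen N n := by
  unfold Ph
  rw [sym2N_rename]
  exact mulPoly_sym n (Pn n) (isMulPoly_Pn n) N

theorem symN_Qh (N i j : ℕ) : symN ℤ N (Qh i j) = compGen N i j := by
  unfold Qh
  rw [symN_rename']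
  exact compPoly_sym i j (Qn i j) (isCompPoly_Qn i j) N

theorem lam_mul_ev2 (hK : IsSpecial K) (n : ℕ) (x y : K) :
    LambdaOps.lam n (x * y) = ev2 ℤ x y (Ph n) := by
  rw [hK.lam_mul n (Pn n) (isMulPoly_Pn n) x y]
  unfold ev2 Ph
  rw [aeval_rename]
  congr 2
  funext v
  rcases v with v | v <;> rfl

theorem lam_lam_ev (hK : IsSpecial K) (i j : ℕ) (x : K) :
    LambdaOps.lam j (LambdaOps.lam i x) = ev ℤ x (Qh i j) := by
  rw [hK.lam_lam i j (Qn i j) (isCompPoly_Qn i j) x]
  unfold ev Qh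
  rw [aeval_rename]
  rfl

/-- The Adams operations of a special λ-ring are multiplicative. -/
theorem adamsOp_mul (hK : IsSpecial K) (k : ℕ) (hk : 1 ≤ k) (x y : K) :
    adamsOp k (x * y) = adamsOp k x * adamsOp k y := by
  have hL : adamsOp k (x * y) = ev2 ℤ x y (psiRec Ph k) := by
    rw [adamsOp_eq_psiRec _ k hk, ← RingHom.coe_coe, map_psiRec]
    apply psiRec_congr
    intro j
    exact lam_mul_ev2 hK j x y
  have hx : adamsOp k x = ev2 ℤ x y (psiRec (Lv ℤ Sum.inl) k) := by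
    rw [adamsOp_eq_psiRec _ k hk, ← RingHom.coe_coe, map_psiRec]
    apply psiRec_congr
    intro j
    exact (ev2_Lv_inl ℤ x y j).symm
  have hy : adamsOp k y = ev2 ℤ x y (psiRec (Lv ℤ Sum.inr) k) := by
    rw [adamsOp_eq_psiRec _ k hk, ← RingHom.coe_coe, map_psiRec]
    apply psiRec_congr
    intro j
    exact (ev2_Lv_inr ℤ x y j).symm
  rw [hL, hx, hy, ← map_mul]
  congr 1
  apply op2_ext
  intro N
  rw [map_mul, ← RingHom.coe_coe, map_psiRec, map_psiRec, map_psiRec]
  have e1 : psiRec (fun j => (sym2N ℤ N : MvPolynomial (ℕ ⊕ ℕ) ℤ →+* _) (Ph j)) k =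
      ∑ ab : Fin N × Fin N, (X (Sum.inl ab.1) * X (Sum.inr ab.2) :
        MvPolynomial (Fin N ⊕ Fin N) ℤ) ^ k := by
    rw [← psiRec_esymm_finset (univ : Finset (Fin N × Fin N)) _ k hk]
    apply psiRec_congr
    intro j
    exact sym2N_Ph N j
  have e2 : psiRec (fun j => (sym2N ℤ N : MvPolynomial (ℕ ⊕ ℕ) ℤ →+* _) (Lv ℤ Sum.inl j)) k =
      ∑ a : Fin N, (X (Sum.inl a) : MvPolynomial (Fin N ⊕ Fin N) ℤ) ^ k := by
    rw [← psiRec_esymm_finset (univ : Finset (Fin N)) _ k hk]
    apply psiRec_congr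
    intro j
    exact sym2N_Lv_inl ℤ N j
  have e3 : psiRec (fun j => (sym2N ℤ N : MvPolynomial (ℕ ⊕ ℕ) ℤ →+* _) (Lv ℤ Sum.inr j)) k =
      ∑ a : Fin N, (X (Sum.inr a) : MvPolynomial (Fin N ⊕ Fin N) ℤ) ^ k := by
    rw [← psiRec_esymm_finset (univ : Finset (Fin N)) _ k hk]
    apply psiRec_congr
    intro j
    exact sym2N_Lv_inr ℤ N j
  rw [e1, e2, e3, Finset.sum_mul_sum, ← Finset.sum_product', Finset.univ_product_univ]
  refine Finset.sum_congr rfl fun ab _ => ?_
  rw [mul_pow]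

theorem adamsOp_of_line {u : K} (hu : ∀ j : ℕ, 2 ≤ j → LambdaOps.lam j u = 0) (k : ℕ)
    (hk : 1 ≤ k) : adamsOp k u = u ^ k := by
  rw [adamsOp_eq_psiRec _ k hk]
  have h := psiRec_esymm_finset (univ : Finset Unit) (fun _ => u) k hk
  rw [Finset.sum_const, Finset.card_univ, Fintype.card_unit, one_smul] at h
  rw [← h]
  apply psiRec_congr
  intro j
  have hs : ((univ : Finset Unit).val.map fun _ => u) = u ::ₘ 0 := by
    rw [Finset.univ_unique]
    rfl
  rw [hs]
  rcases j with _ | _ | j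
  · rw [LambdaOps.lam_zero, esymm_zero']
  · rw [LambdaOps.lam_one, esymm_cons_succ, esymm_zero', mul_one,
      esymm_eq_zero_of_lt _ _ (by simp), zero_add]
  · rw [hu (j + 1 + 1) (by omega), esymm_cons_succ,
      esymm_eq_zero_of_lt _ _ (by simp), esymm_eq_zero_of_lt _ _ (by simp), mul_zero, add_zero]

theorem adamsOp_one (hK : IsSpecial K) (k : ℕ) (hk : 1 ≤ k) : adamsOp k (1 : K) = 1 := by
  rw [adamsOp_of_line hK.lam_one_eq_zero k hk, one_pow]

theorem adamsOp_zero_arg (k : ℕ) : adamsOp k (0 : K) = 0 := by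
  have h := adamsOp_add k (0 : K) 0
  rw [add_zero] at h
  exact left_eq_add.mp h

/-- the Adams operation as a ring endomorphism -/
noncomputable def adamsRingHomSp (hK : IsSpecial K) (k : ℕ) (hk : 1 ≤ k) : K →+* K where
  toFun := adamsOp k
  map_one' := adamsOp_one hK k hk
  map_mul' := adamsOp_mul hK k hk
  map_zero' := adamsOp_zero_arg k
  map_add' := adamsOp_add k

theorem ringHom_aeval {σ : Type*} (Ψ : K →+* K) (g : σ → K) (f : MvPolynomial σ ℤ) :
    Ψ (aeval g f) = aeval (fun j => Ψ (g j)) f := by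
  have h := comp_aeval_apply (f := g) Ψ.toIntAlgHom f
  exact h

/-- `ψ^k ∘ ψ^k' = ψ^(k k')` in a special λ-ring -/
theorem adamsOp_adamsOp (hK : IsSpecial K) (k k' : ℕ) (hk : 1 ≤ k) (hk' : 1 ≤ k') (x : K) :
    adamsOp k (adamsOp k' x) = adamsOp (k * k') x := by
  have hkk : 1 ≤ k * k' := Nat.mul_pos hk hk'
  have hν : ∀ m, 1 ≤ m → adamsOp m x = ev ℤ x (psiRec (Lv ℤ id) m) := by
    intro m hm
    rw [adamsOp_eq_psiRec _ m hm, ← RingHom.coe_coe, map_psiRec]
    apply psiRec_congr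
    intro j
    exact (ev_Lv ℤ x j).symm
  have hlam : ∀ i, adamsOp k (LambdaOps.lam i x) = ev ℤ x (psiRec (Qh i) k) := by
    intro i
    rw [adamsOp_eq_psiRec _ k hk, ← RingHom.coe_coe, map_psiRec]
    apply psiRec_congr
    intro l
    exact lam_lam_ev hK i l x
  have h1 : adamsOp k (adamsOp k' x) =
      ev ℤ x (aeval (fun j => psiRec (Qh (j + 1)) k) (psiRec (Lv ℤ id) k')) := by
    rw [hν k' hk']
    show adamsRingHomSp hK k hk (ev ℤ x (psiRec (Lv ℤ id) k')) = _
    unfold ev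
    rw [ringHom_aeval, comp_aeval_apply]
    congr 2
    funext j
    exact hlam (j + 1)
  rw [h1, hν (k * k') hkk]
  congr 1
  apply op_ext
  intro N
  rw [comp_aeval_apply]
  have e1 : ∀ j, symN ℤ N (psiRec (Qh (j + 1)) k) =
      ((univ : Finset (Fin N)).val.map fun a => (X a : MvPolynomial (Fin N) ℤ) ^ k).esymm (j + 1) := by
    intro j
    rw [← RingHom.coe_coe, map_psiRec]
    have e : psiRec (fun l => (symN ℤ N : MvPolynomial ℕ ℤ →+* _) (Qh (j + 1) l)) k =
        ∑ s ∈ (univ : Finset (Fin N)).powersetCard (j + 1),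
          (∏ a ∈ s, (X a : MvPolynomial (Fin N) ℤ)) ^ k := by
      rw [← psiRec_esymm_finset ((univ : Finset (Fin N)).powersetCard (j + 1)) _ k hk]
      apply psiRec_congr
      intro l
      exact symN_Qh N (j + 1) l
    rw [e, Finset.esymm_map_val]
    refine Finset.sum_congr rfl fun s _ => ?_
    rw [Finset.prod_pow]
  have e2 : aeval (fun j => symN ℤ N (psiRec (Qh (j + 1)) k)) (psiRec (Lv ℤ id) k') =
      ∑ a : Fin N, ((X a : MvPolynomial (Fin N) ℤ) ^ k) ^ k' := by
    rw [← RingHom.coe_coe, map_psiRec,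
      ← psiRec_esymm_finset (univ : Finset (Fin N)) (fun a => (X a : MvPolynomial (Fin N) ℤ) ^ k)
        k' hk']
    apply psiRec_congr
    intro j
    show aeval (fun j => symN ℤ N (psiRec (Qh (j + 1)) k)) (Lv ℤ id j) = _
    rw [aeval_Lv]
    rcases j with _ | j
    · rw [seq1, esymm_zero']
    · rw [seq1]
      exact e1 j
  have e3 : symN ℤ N (psiRec (Lv ℤ id) (k * k')) =
      ∑ a : Fin N, (X a : MvPolynomial (Fin N) ℤ) ^ (k * k') := by
    rw [← RingHom.coe_coe, map_psiRec,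
      ← psiRec_esymm_finset (univ : Finset (Fin N)) _ (k * k') hkk]
    apply psiRec_congr
    intro j
    exact symN_Lv ℤ N j
  rw [e2, e3]
  refine Finset.sum_congr rfl fun a _ => ?_
  rw [pow_mul]

end Special

end Groth.Agent.Lib.LambdaUnivH1
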