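import Mathlib
import Groth.Agent.Lib.LambdaUnivF_helper1

/-!
# Universal polynomials of λ-rings, part G (helper1): a pre-λ-ring over `ℚ` whose Adams
operations are ring endomorphisms composing multiplicatively is special.
APPEND-ONLY once landed.
-/

set_option autoImplicit false
universe u v

open MvPolynomial Finset

namespace Groth.Agent.Lib.LambdaUnivH1

open LambdaRing Groth.Agent.Lib.LambdaInvH1 Groth.Agent.Lib.LambdaGAH1
  Groth.Agent.Lib.LambdaAdamsH1 Groth.Agent.Lib.LambdaRingH1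

section General

variable (R : Type u) [CommRing R] {K : Type v} [CommRing K] [LambdaOps K] [Algebra R K]

theorem adamsOp_eq_ev2_inl (x y : K) (k : ℕ) (hk : 1 ≤ k) :
    adamsOp k x = ev2 R x y (psiRec (Lv R Sum.inl) k) := by
  rw [adamsOp_eq_psiRec _ k hk, ← RingHom.coe_coe, map_psiRec]
  apply psiRec_congr
  intro j
  exact (ev2_Lv_inl R x y j).symm

theorem adamsOp_eq_ev2_inr (x y : K) (k : ℕ) (hk : 1 ≤ k) :
    adamsOp k y = ev2 R x y (psiRec (Lv R Sum.inr) k) := by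
  rw [adamsOp_eq_psiRec _ k hk, ← RingHom.coe_coe, map_psiRec]
  apply psiRec_congr
  intro j
  exact (ev2_Lv_inr R x y j).symm

theorem adamsOp_eq_ev (x : K) (m : ℕ) (hm : 1 ≤ m) :
    adamsOp m x = ev R x (psiRec (Lv R id) m) := by
  rw [adamsOp_eq_psiRec _ m hm, ← RingHom.coe_coe, map_psiRec]
  apply psiRec_congr
  intro j
  exact (ev_Lv R x j).symm

theorem sym2N_nuL (N k : ℕ) (hk : 1 ≤ k) :
    sym2N R N (psiRec (Lv R Sum.inl) k) =
      ∑ a : Fin N, (X (Sum.inl a) : MvPolynomial (Fin N ⊕ Fin N) R) ^ k := by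
  rw [← RingHom.coe_coe, map_psiRec, ← psiRec_esymm_finset (univ : Finset (Fin N)) _ k hk]
  apply psiRec_congr
  intro j
  exact sym2N_Lv_inl R N j

theorem sym2N_nuR (N k : ℕ) (hk : 1 ≤ k) :
    sym2N R N (psiRec (Lv R Sum.inr) k) =
      ∑ a : Fin N, (X (Sum.inr a) : MvPolynomial (Fin N ⊕ Fin N) R) ^ k := by
  rw [← RingHom.coe_coe, map_psiRec, ← psiRec_esymm_finset (univ : Finset (Fin N)) _ k hk]
  apply psiRec_congr
  intro j
  exact sym2N_Lv_inr R N j

theorem symN_nu (N m : ℕ) (hm : 1 ≤ m) :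
    symN R N (psiRec (Lv R id) m) = ∑ a : Fin N, (X a : MvPolynomial (Fin N) R) ^ m := by
  rw [← RingHom.coe_coe, map_psiRec, ← psiRec_esymm_finset (univ : Finset (Fin N)) _ m hm]
  apply psiRec_congr
  intro j
  exact symN_Lv R N j

end General

section QAlg

variable {K : Type v} [CommRing K] [LambdaOps K] [Algebra ℚ K]

theorem lam_one_of_adams (h1 : ∀ k : ℕ, 1 ≤ k → adamsOp k (1 : K) = 1) (n : ℕ) (hn : 2 ≤ n) :
    LambdaOps.lam n (1 : K) = 0 := by
  rw [lam_eq_lamRecSeq]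
  have e : lamRecSeq (fun k => adamsOp k (1 : K)) n =
      lamRecSeq (fun k => ∑ i ∈ (univ : Finset Unit), (fun _ => (1 : K)) i ^ k) n :=
    lamRecSeq_congr _ _ (fun k hk => by rw [h1 k hk]; simp) n
  rw [e, lamRecSeq_psum_finset]
  apply esymm_eq_zero_of_lt
  rw [Multiset.card_map]
  show (univ : Finset Unit).card < n
  rw [Finset.card_univ, Fintype.card_unit]
  omega

theorem lam_mul_of_adams
    (hmul : ∀ k : ℕ, 1 ≤ k → ∀ x y : K, adamsOp k (x * y) = adamsOp k x * adamsOp k y)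
    (n : ℕ) (P : MvPolynomial (Fin n ⊕ Fin n) ℤ) (hP : IsMulPoly n P) (x y : K) :
    LambdaOps.lam n (x * y) =
      aeval (Sum.elim (fun k : Fin n => LambdaOps.lam (k.1 + 1) x)
        (fun k : Fin n => LambdaOps.lam (k.1 + 1) y)) P := by
  set Pq : MvPolynomial (ℕ ⊕ ℕ) ℚ :=
    map (algebraMap ℤ ℚ) (rename (Sum.map Fin.val Fin.val) P) with hPq
  have hR : aeval (Sum.elim (fun k : Fin n => LambdaOps.lam (k.1 + 1) x)
      (fun k : Fin n => LambdaOps.lam (k.1 + 1) y)) P = ev2 ℚ x y Pq := by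
    rw [hPq]
    unfold ev2
    rw [aeval_map_algebraMap, aeval_rename]
    congr 2
    funext v
    rcases v with v | v <;> rfl
  have hL : LambdaOps.lam n (x * y) = ev2 ℚ x y
      (lamRecSeq (fun k => psiRec (Lv ℚ Sum.inl) k * psiRec (Lv ℚ Sum.inr) k) n) := by
    rw [lam_eq_lamRecSeq, ← RingHom.coe_coe, map_lamRecSeq]
    apply lamRecSeq_congr
    intro k hk
    rw [hmul k hk, adamsOp_eq_ev2_inl ℚ x y k hk, adamsOp_eq_ev2_inr ℚ x y k hk, ← map_mul]
    rfl
  rw [hL, hR]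
  congr 1
  apply op2_ext
  intro N
  have e1 : sym2N ℚ N (lamRecSeq
      (fun k => psiRec (Lv ℚ Sum.inl) k * psiRec (Lv ℚ Sum.inr) k) n) =
      ((univ : Finset (Fin N × Fin N)).val.map fun ab =>
        (X (Sum.inl ab.1) * X (Sum.inr ab.2) : MvPolynomial (Fin N ⊕ Fin N) ℚ)).esymm n := by
    rw [← RingHom.coe_coe, map_lamRecSeq, ← lamRecSeq_psum_finset]
    apply lamRecSeq_congr
    intro k hk
    show sym2N ℚ N (_ * _) = _
    rw [map_mul, sym2N_nuL ℚ N k hk, sym2N_nuR ℚ N k hk, Finset.sum_mul_sum,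
      ← Finset.sum_product', Finset.univ_product_univ]
    refine Finset.sum_congr rfl fun ab _ => ?_
    rw [mul_pow]
  rw [e1, hPq]
  unfold sym2N
  rw [aeval_map_algebraMap, aeval_rename]
  have h := mulPoly_eval (A := MvPolynomial (Fin N ⊕ Fin N) ℚ) n P hP N
    (fun a => X (Sum.inl a)) (fun b => X (Sum.inr b))
  rw [← h]
  congr 2
  funext v
  rcases v with v | v
  · show _ = rename Sum.inl (esymm (Fin N) ℚ (v.1 + 1))
    rw [rename_eq_aeval' (R := ℚ) Sum.inl, aeval_esymm_eq_multiset_esymm]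
    rfl
  · show _ = rename Sum.inr (esymm (Fin N) ℚ (v.1 + 1))
    rw [rename_eq_aeval' (R := ℚ) Sum.inr, aeval_esymm_eq_multiset_esymm]
    rfl

theorem lam_lam_of_adams (h1 : ∀ k : ℕ, 1 ≤ k → adamsOp k (1 : K) = 1)
    (hmul : ∀ k : ℕ, 1 ≤ k → ∀ x y : K, adamsOp k (x * y) = adamsOp k x * adamsOp k y)
    (hcomp : ∀ k k' : ℕ, 1 ≤ k → 1 ≤ k' → ∀ x : K,
      adamsOp k (adamsOp k' x) = adamsOp (k * k') x)
    (i j : ℕ) (Q : MvPolynomial (Fin (i * j)) ℤ) (hQ : IsCompPoly i j Q) (x : K) :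
    LambdaOps.lam j (LambdaOps.lam i x) =
      aeval (fun k : Fin (i * j) => LambdaOps.lam (k.1 + 1) x) Q := by
  set Qq : MvPolynomial ℕ ℚ := map (algebraMap ℤ ℚ) (rename Fin.val Q) with hQq
  have hR : aeval (fun k : Fin (i * j) => LambdaOps.lam (k.1 + 1) x) Q = ev ℚ x Qq := by
    rw [hQq]
    unfold ev
    rw [aeval_map_algebraMap, aeval_rename]
    rfl
  let Ψ : ∀ l : ℕ, 1 ≤ l → K →+* K := fun l hl =>
    { toFun := adamsOp l
      map_one' := h1 l hl
      map_mul' := hmul l hl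
      map_zero' := adamsOp_zero_arg l
      map_add' := adamsOp_add l }
  have hin : ∀ l : ℕ, 1 ≤ l → adamsOp l (LambdaOps.lam i x) =
      ev ℚ x (lamRecSeq (fun m => psiRec (Lv ℚ id) (l * m)) i) := by
    intro l hl
    rw [lam_eq_lamRecSeq x i]
    show Ψ l hl (lamRecSeq _ i) = _
    rw [map_lamRecSeq, ← RingHom.coe_coe (ev ℚ x), map_lamRecSeq]
    apply lamRecSeq_congr
    intro m hm
    show adamsOp l (adamsOp m x) = ev ℚ x (psiRec (Lv ℚ id) (l * m))
    rw [hcomp l m hl hm, adamsOp_eq_ev ℚ x (l * m) (Nat.mul_pos hl hm)]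
  have hL : LambdaOps.lam j (LambdaOps.lam i x) = ev ℚ x
      (lamRecSeq (fun l => lamRecSeq (fun m => psiRec (Lv ℚ id) (l * m)) i) j) := by
    rw [lam_eq_lamRecSeq (LambdaOps.lam i x) j, ← RingHom.coe_coe, map_lamRecSeq]
    apply lamRecSeq_congr
    intro l hl
    exact hin l hl
  rw [hL, hR]
  congr 1
  apply op_ext
  intro N
  have e1 : symN ℚ N (lamRecSeq (fun l => lamRecSeq (fun m => psiRec (Lv ℚ id) (l * m)) i) j) =
      (((univ : Finset (Fin N)).powersetCard i).val.map fun s =>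
        ∏ a ∈ s, (X a : MvPolynomial (Fin N) ℚ)).esymm j := by
    rw [← RingHom.coe_coe, map_lamRecSeq, ← lamRecSeq_psum_finset]
    apply lamRecSeq_congr
    intro l hl
    show symN ℚ N (lamRecSeq _ i) = _
    have e2 : symN ℚ N (lamRecSeq (fun m => psiRec (Lv ℚ id) (l * m)) i) =
        ((univ : Finset (Fin N)).val.map fun a => (X a : MvPolynomial (Fin N) ℚ) ^ l).esymm i := by
      rw [← RingHom.coe_coe, map_lamRecSeq, ← lamRecSeq_psum_finset]
      apply lamRecSeq_congr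
      intro m hm
      show symN ℚ N (psiRec (Lv ℚ id) (l * m)) = _
      rw [symN_nu ℚ N (l * m) (Nat.mul_pos hl hm)]
      refine Finset.sum_congr rfl fun a _ => ?_
      rw [pow_mul]
    rw [e2, Finset.esymm_map_val]
    refine Finset.sum_congr rfl fun s _ => ?_
    rw [Finset.prod_pow]
  rw [e1, hQq]
  unfold symN
  rw [aeval_map_algebraMap, aeval_rename]
  have h := compPoly_eval (A := MvPolynomial (Fin N) ℚ) i j Q hQ N (fun a => X a)
  rw [← h]
  congr 2
  funext v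
  show _ = esymm (Fin N) ℚ (v.1 + 1)
  rw [esymm_eq_multiset_esymm]

/-- A pre-λ-ring over `ℚ` whose Adams operations are unital, multiplicative and compose
multiplicatively is a special λ-ring. -/
theorem isSpecial_of_adams (h1 : ∀ k : ℕ, 1 ≤ k → adamsOp k (1 : K) = 1)
    (hmul : ∀ k : ℕ, 1 ≤ k → ∀ x y : K, adamsOp k (x * y) = adamsOp k x * adamsOp k y)
    (hcomp : ∀ k k' : ℕ, 1 ≤ k → 1 ≤ k' → ∀ x : K,
      adamsOp k (adamsOp k' x) = adamsOp (k * k') x) : IsSpecial K :=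
  ⟨lam_one_of_adams h1, lam_mul_of_adams hmul, lam_lam_of_adams h1 hmul hcomp⟩

end QAlg

end Groth.Agent.Lib.LambdaUnivH1
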