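import Mathlib
import Groth.Agent.Lib.LambdaUnivG_helper1

/-!
# Binomial rings are special λ-rings (helper1).  APPEND-ONLY once landed.
-/

set_option autoImplicit false
universe u v

open MvPolynomial Finset

namespace Groth.Agent.Lib.LambdaUnivH1

open LambdaRing Groth.Agent.Lib.LambdaAdamsH1 Groth.Agent.Lib.LambdaRingH1

attribute [local instance] BinomialRing.toIsAddTorsionFree

section Binom

theorem succ_mul_choose {K : Type*} [CommRing K] [BinomialRing K] (x : K) (n : ℕ) :
    ((n + 1 : ℕ) : K) * Ring.choose x (n + 1) = (x - (n : K)) * Ring.choose x n := by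
  have h1 := Ring.descPochhammer_eq_factorial_smul_choose x (n + 1)
  have h0 := Ring.descPochhammer_eq_factorial_smul_choose x n
  rw [descPochhammer_succ_right, Polynomial.smeval_mul, h0, Polynomial.smeval_sub,
    Polynomial.smeval_X, Polynomial.smeval_natCast, pow_one, pow_zero] at h1
  apply nsmul_right_injective (Nat.factorial_ne_zero n)
  show n.factorial • _ = n.factorial • _
  rw [Nat.factorial_succ] at h1
  simp only [nsmul_eq_mul] at h1 ⊢
  push_cast at h1 ⊢
  linear_combination -h1

theorem ringHom_aeval' {K K' : Type*} [CommRing K] [CommRing K'] {σ : Type*} (Ψ : K →+* K')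
    (g : σ → K) (f : MvPolynomial σ ℤ) :
    Ψ (aeval g f) = aeval (fun j => Ψ (g j)) f := by
  have h := comp_aeval_apply (f := g) Ψ.toIntAlgHom f
  exact h

variable {K : Type u} [CommRing K] [LambdaOps K] [BinomialRing K]

theorem binom_ode (hKb : IsBinomial K) (x : K) :
    (1 + PowerSeries.X) * PowerSeries.derivative K (lamSeries x) =
      PowerSeries.C x * lamSeries x := by
  ext n
  rw [add_mul, one_mul, map_add, PowerSeries.coeff_C_mul]
  rcases n with _ | m
  · rw [PowerSeries.coeff_zero_X_mul, add_zero, PowerSeries.coeff_derivative, coeff_lamSeries,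
      coeff_lamSeries, LambdaOps.lam_zero, LambdaOps.lam_one]
    simp
  · rw [PowerSeries.coeff_succ_X_mul, PowerSeries.coeff_derivative, PowerSeries.coeff_derivative,
      coeff_lamSeries, coeff_lamSeries, hKb, hKb]
    have h := succ_mul_choose x (m + 1)
    push_cast at h ⊢
    linear_combination h

theorem logDeriv_binom (hKb : IsBinomial K) (x : K) :
    (1 + PowerSeries.X) * logDerivSeries x = PowerSeries.C x := by
  have h := binom_ode hKb x
  rw [deriv_lamSeries] at h
  have hu : lamSeries x * lamSeries (-x) = 1 := lamSeries_mul_neg x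
  calc (1 + PowerSeries.X) * logDerivSeries x
      = (1 + PowerSeries.X) * logDerivSeries x * (lamSeries x * lamSeries (-x)) := by
        rw [hu, mul_one]
    _ = ((1 + PowerSeries.X) * (logDerivSeries x * lamSeries x)) * lamSeries (-x) := by ring
    _ = PowerSeries.C x * lamSeries x * lamSeries (-x) := by rw [h]
    _ = PowerSeries.C x := by rw [mul_assoc, hu, mul_one]

theorem adamsOp_binom (hKb : IsBinomial K) (k : ℕ) (hk : 1 ≤ k) (x : K) : adamsOp k x = x := by
  have h := logDeriv_binom hKb x
  have hc : ∀ n, PowerSeries.coeff n (logDerivSeries x) = (-1) ^ n * x := by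
    intro n
    induction n with
    | zero =>
      have h0 := congrArg (PowerSeries.coeff 0) h
      rw [add_mul, one_mul, map_add, PowerSeries.coeff_zero_X_mul, add_zero,
        PowerSeries.coeff_zero_C] at h0
      rw [h0, pow_zero, one_mul]
    | succ m ih =>
      have h1 := congrArg (PowerSeries.coeff (m + 1)) h
      rw [add_mul, one_mul, map_add, PowerSeries.coeff_succ_X_mul, ih, PowerSeries.coeff_C] at h1
      simp only [Nat.add_eq_zero_iff, one_ne_zero, and_false, if_false] at h1
      rw [pow_succ]
      linear_combination h1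
  obtain ⟨m, rfl⟩ : ∃ m, k = m + 1 := ⟨k - 1, by omega⟩
  rw [adamsOp_succ, hc, ← mul_assoc, neg_one_pow_mul_self, one_mul]

end Binom

section Main

theorem isSpecial_of_isBinomial {K : Type u} [CommRing K] [LambdaOps K] [BinomialRing K]
    (hKb : IsBinomial K) : IsSpecial K := by
  letI mq : Module ℚ≥0 (TensorProduct ℤ ℚ K) := Module.compHom _ NNRat.coeHom
  letI Lq : LambdaOps (TensorProduct ℤ ℚ K) := binomialLambdaOps _
  have hq : IsBinomial (TensorProduct ℤ ℚ K) := fun _ _ => rfl
  have hsp : IsSpecial (TensorProduct ℤ ℚ K) := isSpecial_of_adams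
    (fun k hk => adamsOp_binom hq k hk 1)
    (fun k hk x y => by
      rw [adamsOp_binom hq k hk, adamsOp_binom hq k hk, adamsOp_binom hq k hk])
    (fun k k' hk hk' x => by
      rw [adamsOp_binom hq k' hk', adamsOp_binom hq k hk,
        adamsOp_binom hq (k * k') (Nat.mul_pos hk hk')])
  let ι : K →+* TensorProduct ℤ ℚ K :=
    (Algebra.TensorProduct.includeRight : K →ₐ[ℤ] TensorProduct ℤ ℚ K).toRingHom
  have hι : Function.Injective ι :=
    Algebra.TensorProduct.includeRight_injective (R := ℤ) (A := ℚ) (B := K)
      (algebraMap ℤ ℚ).injective_int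
  have hlam : ∀ (n : ℕ) (x : K), ι (LambdaOps.lam n x) = LambdaOps.lam n (ι x) := by
    intro n x
    rw [hKb]
    exact Ring.map_choose ι x n
  refine ⟨?_, ?_, ?_⟩
  · intro n hn
    apply hι
    rw [hlam, map_one, map_zero]
    exact hsp.lam_one_eq_zero n hn
  · intro n P hP x y
    apply hι
    rw [hlam, map_mul, hsp.lam_mul n P hP, ringHom_aeval']
    congr 2
    funext j
    rcases j with j | j
    · exact (hlam _ _).symm
    · exact (hlam _ _).symm
  · intro i j Q hQ x
    apply hι
    rw [hlam, hlam, hsp.lam_lam i j Q hQ, ringHom_aeval']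
    congr 2
    funext j
    exact (hlam _ _).symm

end Main

end Groth.Agent.Lib.LambdaUnivH1
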