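import Mathlib
import Groth.Agent.Lib.LambdaUnivG_helper1
import Groth.Agent.Lib.LambdaGammaAdams_helper1

/-!
# Multi-variable natural operations on special λ-rings (helper1).  APPEND-ONLY once landed.

`Op σ = ℤ[X_(s,j)]`: the variable `X (s, j)` stands for the `(j+1)`-st λ- (or γ-) operation of the
`s`-th argument.  Closure of representable operations under `λ^n` and `γ^n`.
-/

set_option autoImplicit false
universe u v w

open MvPolynomial Finset

namespace Groth.Agent.Lib.LambdaOpsH1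

open LambdaRing Groth.Agent.Lib.LambdaUnivH1 Groth.Agent.Lib.LambdaRingH1
  Groth.Agent.Lib.LambdaAdamsH1

/-- ring of operations in arguments indexed by `σ` -/
abbrev Op (σ : Type*) := MvPolynomial (σ × ℕ) ℤ

section Basic

variable {σ : Type u} {A : Type v} [CommRing A] [LambdaOps A]

theorem gamma_succ (k : ℕ) (x : A) :
    gamma (k + 1) x = ∑ j ∈ range (k + 1), (k.choose j : A) * LambdaOps.lam (j + 1) x := by
  unfold gamma
  rw [if_neg (Nat.succ_ne_zero k), Finset.sum_range_succ']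
  simp

/-- evaluation in λ-coordinates -/
noncomputable def evL (x : σ → A) : Op σ →ₐ[ℤ] A :=
  aeval (fun p : σ × ℕ => LambdaOps.lam (p.2 + 1) (x p.1))

/-- evaluation in γ-coordinates -/
noncomputable def evG (x : σ → A) : Op σ →ₐ[ℤ] A :=
  aeval (fun p : σ × ℕ => gamma (p.2 + 1) (x p.1))

theorem evL_X (x : σ → A) (p : σ × ℕ) : evL x (X p) = LambdaOps.lam (p.2 + 1) (x p.1) := by
  unfold evL
  rw [aeval_X]

theorem evG_X (x : σ → A) (p : σ × ℕ) : evG x (X p) = gamma (p.2 + 1) (x p.1) := by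
  unfold evG
  rw [aeval_X]

/-- γ-coordinates to λ-coordinates -/
noncomputable def toLam : Op σ →ₐ[ℤ] Op σ :=
  aeval (fun p : σ × ℕ => ∑ j ∈ range (p.2 + 1), ((p.2.choose j : ℕ) : Op σ) * X (p.1, j))

theorem evG_eq (x : σ → A) (F : Op σ) : evG x F = evL x (toLam F) := by
  unfold toLam
  rw [comp_aeval_apply]
  unfold evG
  congr 2
  funext p
  rw [gamma_succ, map_sum]
  refine Finset.sum_congr rfl fun j _ => ?_
  rw [map_mul, map_natCast, evL_X]

/-- `λ^(k+1)` in γ-coordinates -/
noncomputable def lamPoly (s : σ) : ℕ → Op σ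
  | k => X (s, k) - ∑ j : Fin k, ((k.choose j : ℕ) : Op σ) * lamPoly s j
decreasing_by exact j.2

theorem lamPoly_eq (s : σ) (k : ℕ) :
    lamPoly s k = X (s, k) - ∑ j ∈ range k, ((k.choose j : ℕ) : Op σ) * lamPoly s j := by
  rw [lamPoly, Fin.sum_univ_eq_sum_range (fun j => ((k.choose j : ℕ) : Op σ) * lamPoly s j) k]

theorem evG_lamPoly (x : σ → A) (s : σ) (k : ℕ) :
    evG x (lamPoly s k) = LambdaOps.lam (k + 1) (x s) := by
  induction k using Nat.strong_induction_on with
  | _ k ih =>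
    rw [lamPoly_eq, map_sub, map_sum, evG_X, gamma_succ, Finset.sum_range_succ, Nat.choose_self,
      Nat.cast_one, one_mul]
    have h2 : ∑ j ∈ range k, evG x (((k.choose j : ℕ) : Op σ) * lamPoly s j) =
        ∑ j ∈ range k, (k.choose j : A) * LambdaOps.lam (j + 1) (x s) := by
      refine Finset.sum_congr rfl fun j hj => ?_
      rw [map_mul, map_natCast, ih j (Finset.mem_range.1 hj)]
    rw [h2]
    ring

/-- λ-coordinates to γ-coordinates -/
noncomputable def toGam : Op σ →ₐ[ℤ] Op σ := aeval (fun p : σ × ℕ => lamPoly p.1 p.2)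

theorem evL_eq (x : σ → A) (F : Op σ) : evL x F = evG x (toGam F) := by
  unfold toGam
  rw [comp_aeval_apply]
  unfold evL
  congr 2
  funext p
  exact (evG_lamPoly x p.1 p.2).symm

end Basic

section Rep

variable {σ : Type u}

/-- `λ^n ∘ F` is again given by operations, uniformly over special λ-rings in universe `v` -/
def Rep (σ : Type u) (F : Op σ) : Prop :=
  ∃ G : ℕ → Op σ, ∀ (A : Type v) [CommRing A] [LambdaOps A], IsSpecial A →
    ∀ (x : σ → A) (n : ℕ), LambdaOps.lam n (evL x F) = evL x (G n)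

theorem rep_zero : Rep.{u, v} σ (0 : Op σ) :=
  ⟨fun n => if n = 0 then 1 else 0, fun A _ _ _ x n => by
    rw [map_zero, lam_zero_right]
    by_cases h : n = 0
    · simp [h]
    · simp [h]⟩

theorem rep_one : Rep.{u, v} σ (1 : Op σ) :=
  ⟨fun n => if n ≤ 1 then 1 else 0, fun A _ _ hA x n => by
    rw [map_one]
    rcases n with _ | _ | n
    · rw [LambdaOps.lam_zero]; simp
    · rw [LambdaOps.lam_one]; simp
    · rw [hA.lam_one_eq_zero (n + 1 + 1) (by omega)]; simp⟩

theorem rep_neg_one : Rep.{u, v} σ (-1 : Op σ) :=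
  ⟨fun n => (-1) ^ n, fun A _ _ hA x n => by
    rw [map_neg, map_one, lam_neg_one hA.lam_one_eq_zero, map_pow, map_neg, map_one]⟩

theorem rep_add {F F' : Op σ} (h : Rep.{u, v} σ F) (h' : Rep.{u, v} σ F') :
    Rep.{u, v} σ (F + F') := by
  obtain ⟨G, hG⟩ := h
  obtain ⟨G', hG'⟩ := h'
  refine ⟨fun n => ∑ i ∈ range (n + 1), G i * G' (n - i), fun A _ _ hA x n => ?_⟩
  rw [map_add, LambdaOps.lam_add, map_sum]
  refine Finset.sum_congr rfl fun i _ => ?_
  rw [map_mul, hG A hA x i, hG' A hA x (n - i)]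

theorem rep_mul {F F' : Op σ} (h : Rep.{u, v} σ F) (h' : Rep.{u, v} σ F') :
    Rep.{u, v} σ (F * F') := by
  obtain ⟨G, hG⟩ := h
  obtain ⟨G', hG'⟩ := h'
  refine ⟨fun n => aeval (Sum.elim (fun j => G (j + 1)) (fun j => G' (j + 1))) (Ph n),
    fun A _ _ hA x n => ?_⟩
  rw [map_mul, lam_mul_ev2 hA n, comp_aeval_apply]
  unfold ev2
  congr 2
  funext q
  rcases q with j | j
  · exact hG A hA x (j + 1)
  · exact hG' A hA x (j + 1)

theorem rep_X (p : σ × ℕ) : Rep.{u, v} σ (X p : Op σ) := by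
  refine ⟨fun n => rename (fun k => (p.1, k)) (Qh (p.2 + 1) n), fun A _ _ hA x n => ?_⟩
  rw [evL_X, lam_lam_ev hA]
  unfold evL ev
  rw [aeval_rename]
  rfl

theorem rep_C (a : ℤ) : Rep.{u, v} σ (C a : Op σ) := by
  induction a using Int.induction_on with
  | zero => rw [map_zero]; exact rep_zero
  | succ i ih => rw [map_add, map_one]; exact rep_add ih rep_one
  | pred i ih => rw [sub_eq_add_neg, map_add, map_neg (C : ℤ →+* Op σ) 1, map_one]; exact rep_add ih rep_neg_one

theorem rep_all (F : Op σ) : Rep.{u, v} σ F := by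
  induction F using MvPolynomial.induction_on with
  | C a => exact rep_C a
  | add p q hp hq => exact rep_add hp hq
  | mul_X p i hp => exact rep_mul hp (rep_X i)

/-- `γ^i ∘ F` is again given by an operation (γ-coordinates) -/
theorem exists_gammaOp (F : Op σ) (i : ℕ) :
    ∃ G : Op σ, ∀ (A : Type v) [CommRing A] [LambdaOps A], IsSpecial A →
      ∀ x : σ → A, gamma i (evG x F) = evG x G := by
  obtain ⟨Gl, hG⟩ := rep_all.{u, v} (toLam F)
  refine ⟨if i = 0 then 1 else ∑ j ∈ range (i + 1),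
    (((i - 1).choose (j - 1) : ℕ) : Op σ) * (if j = 0 then 0 else toGam (Gl j)),
    fun A _ _ hA x => ?_⟩
  unfold gamma
  split_ifs with h0
  · rw [map_one]
  · rw [map_sum]
    refine Finset.sum_congr rfl fun j _ => ?_
    rw [map_mul, map_natCast]
    congr 1
    split_ifs with hj
    · rw [map_zero]
    · rw [evG_eq x F, hG A hA x j, evL_eq]

end Rep

end Groth.Agent.Lib.LambdaOpsH1
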