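import Mathlib
import Groth.Agent.Lib.LambdaOpsH_helper1

/-!
# The γ-operations on `ℚ[ℓ_v]` and the `ℓ`-adic filtration (helper1).  APPEND-ONLY once landed.

For a λ-structure on `ℚ[X_v]` in which all products of the `1 + X_v` are line elements:
`γ^n(f) ∈ 𝔪^(max n w)` for `f ∈ 𝔪^w`, and `γ^w(f) ≡ (-1)^(w-1) (w-1)! f` modulo `𝔪^(w+1)`.
-/

set_option autoImplicit false
universe u v w

open MvPolynomial Finset

namespace Groth.Agent.Lib.LambdaOpsH1

open LambdaRing Groth.Agent.Lib.LambdaUnivH1 Groth.Agent.Lib.LambdaRingH1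
  Groth.Agent.Lib.LambdaAdamsH1 Groth.Agent.Lib.LambdaGAH1

section GammaOps

variable {K : Type u} [CommRing K] [LambdaOps K]

theorem gamma_one (x : K) : gamma 1 x = x := by
  rw [gamma_succ 0 x]
  simp [LambdaOps.lam_one]

/-- the γ-operations as a second pre-λ-structure -/
def gammaOps (K : Type u) [CommRing K] [LambdaOps K] : LambdaOps K where
  lam := gamma
  lam_zero := gamma_zero_left
  lam_one := gamma_one
  lam_add := gamma_add

/-- Adams operations of the γ-structure -/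
noncomputable def gpsi (k : ℕ) (x : K) : K := @adamsOp K _ (gammaOps K) k x

theorem gpsi_add (k : ℕ) (x y : K) : gpsi k (x + y) = gpsi k x + gpsi k y :=
  @adamsOp_add K _ (gammaOps K) k x y

theorem gpsi_zero (k : ℕ) : gpsi k (0 : K) = 0 := @adamsOp_zero_arg K _ (gammaOps K) k

/-- `gpsi` as an additive map -/
noncomputable def gpsiHom (k : ℕ) : K →+ K where
  toFun := gpsi k
  map_zero' := gpsi_zero k
  map_add' := gpsi_add k

theorem gpsiHom_apply (k : ℕ) (x : K) : gpsiHom k x = gpsi k x := rfl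

theorem gpsi_newton (x : K) (n : ℕ) :
    ((n + 1 : ℕ) : K) * gamma (n + 1) x =
      ∑ i ∈ range (n + 1), (-1) ^ i * gpsi (i + 1) x * gamma (n - i) x :=
  @newton K _ (gammaOps K) x n

theorem gpsi_of_gamma_line {u : K} (hu : ∀ j : ℕ, 2 ≤ j → gamma j u = 0) (k : ℕ) (hk : 1 ≤ k) :
    gpsi k u = u ^ k :=
  @adamsOp_of_line K _ (gammaOps K) u hu k hk

theorem gamma_line_sub_one (h1 : ∀ k : ℕ, 2 ≤ k → LambdaOps.lam k (1 : K) = 0) {L : K}
    (hL : ∀ j : ℕ, 2 ≤ j → LambdaOps.lam j L = 0) (j : ℕ) (hj : 2 ≤ j) : gamma j (L - 1) = 0 := by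
  rw [← coeff_gammaSeries, gammaSeries_line_sub_one h1 hL, map_add, PowerSeries.coeff_one,
    if_neg (by omega), zero_add, PowerSeries.coeff_C_mul, PowerSeries.coeff_X, if_neg (by omega),
    mul_zero]

end GammaOps

section AltSum

theorem alt_sum_choose_pow (m : ℕ) :
    ∑ j ∈ range (m + 1), ((-1 : ℤ) ^ (j + m) * (m.choose j : ℤ)) * (j : ℤ) ^ m =
      (m.factorial : ℤ) := by
  have h1 := fwdDiff_iter_eq_sum_shift (1 : ℤ) (fun r : ℤ => r ^ m) m 0
  have h2 : (fwdDiff (1 : ℤ))^[m] (fun r : ℤ => r ^ m) = (m.factorial : ℤ → ℤ) :=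
    fwdDiff_iter_eq_factorial
  rw [h2] at h1
  have h3 : ((m.factorial : ℤ → ℤ)) 0 = (m.factorial : ℤ) := by simp
  rw [h3] at h1
  rw [h1]
  refine Finset.sum_congr rfl fun j hj => ?_
  have hj' : j ≤ m := by
    rw [Finset.mem_range] at hj
    omega
  have e : (-1 : ℤ) ^ (j + m) = (-1) ^ (m - j) := by
    have : j + m = (m - j) + 2 * j := by omega
    rw [this, pow_add, pow_mul, neg_one_sq, one_pow, mul_one]
  rw [e]
  simp

theorem max_add_le (a b w : ℕ) : max (a + b) w ≤ max a w + max b w :=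
  max_le (add_le_add (le_max_left _ _) (le_max_left _ _))
    (le_trans (le_max_right b w) (Nat.le_add_left _ _))

end AltSum

section Poly

variable {τ : Type u}

local notation "Ω" => MvPolynomial τ ℚ
local notation "𝔪" => idealOfVars τ ℚ

theorem X_mem_idealOfVars (v : τ) : (X v : Ω) ∈ 𝔪 := Ideal.subset_span ⟨v, rfl⟩

theorem prod_one_add_X_sub_one_mem {ι : Type*} (t : Finset ι) (v : ι → τ) :
    ∏ i ∈ t, ((1 : Ω) + X (v i)) - 1 ∈ 𝔪 := by
  classical
  induction t using Finset.induction_on with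
  | empty => simp
  | insert a t ha ih =>
    rw [Finset.prod_insert ha]
    have e : ((1 : Ω) + X (v a)) * ∏ i ∈ t, ((1 : Ω) + X (v i)) - 1 =
        (∏ i ∈ t, ((1 : Ω) + X (v i)) - 1) + X (v a) * ∏ i ∈ t, ((1 : Ω) + X (v i)) := by
      ring
    rw [e]
    exact Ideal.add_mem _ ih (Ideal.mul_mem_right _ _ (X_mem_idealOfVars (v a)))

theorem one_add_X_pow_sub_one_mem (v : τ) (j : ℕ) : ((1 : Ω) + X v) ^ j - 1 ∈ 𝔪 := by
  have h := prod_one_add_X_sub_one_mem (range j) (fun _ => v)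
  rwa [Finset.prod_const, Finset.card_range] at h

theorem mem_of_natCast_mul_mem {J : Ideal Ω} (n : ℕ) (hn : n ≠ 0) {g : Ω}
    (h : (n : Ω) * g ∈ J) : g ∈ J := by
  have e : g = ((n : ℚ)⁻¹) • ((n : Ω) * g) := by
    rw [Algebra.smul_def, ← mul_assoc, ← map_natCast (algebraMap ℚ Ω) n, ← map_mul,
      inv_mul_cancel₀ (Nat.cast_ne_zero.2 hn), map_one, one_mul]
  rw [e]
  exact Submodule.smul_of_tower_mem J _ h

theorem monomial_one_eq_prod (d : τ →₀ ℕ) :
    (monomial d (1 : ℚ) : Ω) =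
      ∏ x : (Σ a : {a // a ∈ d.support}, Fin (d a.1)), X (x.1.1) := by
  rw [Fintype.prod_sigma]
  simp only [Finset.prod_const, Finset.card_univ, Fintype.card_fin]
  rw [MvPolynomial.monomial_eq, C_1, one_mul, Finsupp.prod]
  exact (Finset.prod_coe_sort d.support (fun a => (X a : Ω) ^ d a)).symm

variable [LambdaOps (MvPolynomial τ ℚ)]

/-- all products of the `1 + X_v` are line elements, and `λ_t(1) = 1 + t` -/
structure LineHyp (τ : Type u) [LambdaOps (MvPolynomial τ ℚ)] : Prop where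
  one : ∀ k : ℕ, 2 ≤ k → LambdaOps.lam k (1 : MvPolynomial τ ℚ) = 0
  line : ∀ {ι : Type u} (t : Finset ι) (v : ι → τ) (j : ℕ), 2 ≤ j →
    LambdaOps.lam j (∏ i ∈ t, ((1 : MvPolynomial τ ℚ) + X (v i))) = 0

theorem gpsi_prod_X {ι : Type u} [Fintype ι] [Nonempty ι] (H : LineHyp τ) (v : ι → τ) (k : ℕ)
    (hk : 1 ≤ k) :
    gpsi k (∏ i, (X (v i) : Ω)) ∈ 𝔪 ^ k ∧
    gpsi k (∏ i, (X (v i) : Ω)) ∈ 𝔪 ^ (Fintype.card ι) ∧
    (k = Fintype.card ι →
      gpsi k (∏ i, (X (v i) : Ω)) - (k.factorial : Ω) * ∏ i, (X (v i) : Ω) ∈ 𝔪 ^ (k + 1)) := by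
  classical
  obtain ⟨Lt, hLt⟩ : ∃ Lt : Finset ι → Ω, Lt = fun t => ∏ i ∈ t, ((1 : Ω) + X (v i)) := ⟨_, rfl⟩
  obtain ⟨ε, hε⟩ : ∃ ε : Finset ι → Ω, ε = fun t => ∏ _i ∈ univ \ t, (-1 : Ω) := ⟨_, rfl⟩
  have hεint : ∀ t, ε t = ((∏ _i ∈ (univ : Finset ι) \ t, (-1 : ℤ) : ℤ) : Ω) := by
    intro t
    rw [hε]
    push_cast
    rfl
  have E0 : ∏ i, (X (v i) : Ω) = ∑ t ∈ (univ : Finset ι).powerset, Lt t * ε t := by
    have := Finset.prod_add (fun i => (1 : Ω) + X (v i)) (fun _ => (-1 : Ω)) univ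
    rw [hLt, hε]
    rw [← this]
    refine Finset.prod_congr rfl fun i _ => by ring
  have Sε : ∑ t ∈ (univ : Finset ι).powerset, ε t = 0 := by
    have := Finset.prod_add (fun _ : ι => (1 : Ω)) (fun _ => (-1 : Ω)) univ
    simp only [Finset.prod_const_one, one_mul] at this
    rw [hε, ← this]
    obtain ⟨i0⟩ := ‹Nonempty ι›
    exact Finset.prod_eq_zero (Finset.mem_univ i0) (by ring)
  have EP : ∀ j : ℕ, ∑ t ∈ (univ : Finset ι).powerset, Lt t ^ j * ε t =
      ∏ i, (((1 : Ω) + X (v i)) ^ j - 1) := by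
    intro j
    have := Finset.prod_add (fun i => ((1 : Ω) + X (v i)) ^ j) (fun _ => (-1 : Ω)) univ
    rw [show (∏ i, (((1 : Ω) + X (v i)) ^ j - 1)) = ∏ i, (((1 : Ω) + X (v i)) ^ j + -1) from
      Finset.prod_congr rfl fun i _ => by ring, this, hLt, hε]
    refine Finset.sum_congr rfl fun t _ => ?_
    simp only [Finset.prod_pow]
  have hgL : ∀ t, gpsi k (Lt t) = (Lt t - 1) ^ k + gpsi k 1 := by
    intro t
    have e : Lt t = (Lt t - 1) + 1 := by ring
    conv_lhs => rw [e]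
    have hline : ∀ j : ℕ, 2 ≤ j → gamma j (Lt t - 1) = 0 := by
      rw [hLt]
      exact gamma_line_sub_one H.one (H.line t v)
    rw [gpsi_add, gpsi_of_gamma_line hline k hk]
  have E1 : gpsi k (∏ i, (X (v i) : Ω)) =
      ∑ t ∈ (univ : Finset ι).powerset, (Lt t - 1) ^ k * ε t := by
    rw [E0, ← gpsiHom_apply, map_sum]
    have : ∀ t ∈ (univ : Finset ι).powerset,
        gpsiHom k (Lt t * ε t) = (Lt t - 1) ^ k * ε t + gpsi k 1 * ε t := by
      intro t _
      rw [hεint t, ← zsmul_eq_mul', map_zsmul, zsmul_eq_mul', gpsiHom_apply, hgL t, add_mul]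
    rw [Finset.sum_congr rfl this, Finset.sum_add_distrib, ← Finset.mul_sum, Sε, mul_zero,
      add_zero]
  have hk_mem : gpsi k (∏ i, (X (v i) : Ω)) ∈ 𝔪 ^ k := by
    rw [E1]
    refine Ideal.sum_mem _ fun t _ => Ideal.mul_mem_right _ _ (Ideal.pow_mem_pow ?_ k)
    rw [hLt]
    exact prod_one_add_X_sub_one_mem t v
  have E2 : gpsi k (∏ i, (X (v i) : Ω)) =
      ∑ j ∈ range (k + 1), ((-1) ^ (j + k) * (k.choose j : Ω)) *
        ∏ i, (((1 : Ω) + X (v i)) ^ j - 1) := by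
    rw [E1]
    have : ∀ t ∈ (univ : Finset ι).powerset, (Lt t - 1) ^ k * ε t =
        ∑ j ∈ range (k + 1), ((-1) ^ (j + k) * (k.choose j : Ω)) * (Lt t ^ j * ε t) := by
      intro t _
      rw [sub_pow, Finset.sum_mul]
      refine Finset.sum_congr rfl fun j _ => ?_
      rw [one_pow]
      ring
    rw [Finset.sum_congr rfl this, Finset.sum_comm]
    refine Finset.sum_congr rfl fun j _ => ?_
    rw [← Finset.mul_sum, EP j]
  have hP_mem : ∀ j : ℕ, ∏ i, (((1 : Ω) + X (v i)) ^ j - 1) ∈ 𝔪 ^ (Fintype.card ι) := by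
    intro j
    have := Ideal.prod_mem_prod (s := (univ : Finset ι)) (I := fun _ : ι => 𝔪)
      (x := fun i => ((1 : Ω) + X (v i)) ^ j - 1)
      (fun i _ => one_add_X_pow_sub_one_mem (v i) j)
    rwa [Finset.prod_const, Finset.card_univ] at this
  refine ⟨hk_mem, ?_, ?_⟩
  · rw [E2]
    exact Ideal.sum_mem _ fun j _ => Ideal.mul_mem_left _ _ (hP_mem j)
  · intro hkm
    have hPj : ∀ j : ℕ, ∏ i, (((1 : Ω) + X (v i)) ^ j - 1) -
        (j : Ω) ^ k * ∏ i, (X (v i) : Ω) ∈ 𝔪 ^ (k + 1) := by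
      intro j
      have h := (prod_sub_prod_mem 𝔪 (univ : Finset ι)
        (fun i => ((1 : Ω) + X (v i)) ^ j - 1) (fun i => (j : Ω) * X (v i))
        (fun i _ => one_add_X_pow_sub_one_mem (v i) j)
        (fun i _ => Ideal.mul_mem_left _ _ (X_mem_idealOfVars (v i)))
        (fun i _ => phi_mem 𝔪 (X (v i)) (X_mem_idealOfVars (v i)) j)).1
      rw [Finset.prod_mul_distrib, Finset.prod_const, Finset.card_univ, ← hkm] at h
      exact h
    rw [E2]
    have hid : ((∑ j ∈ range (k + 1),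
        ((-1 : ℤ) ^ (j + k) * (k.choose j : ℤ)) * (j : ℤ) ^ k : ℤ) : Ω) = (k.factorial : Ω) := by
      rw [alt_sum_choose_pow]
      simp
    have e : ∑ j ∈ range (k + 1), ((-1) ^ (j + k) * (k.choose j : Ω)) *
          ∏ i, (((1 : Ω) + X (v i)) ^ j - 1) - (k.factorial : Ω) * ∏ i, (X (v i) : Ω) =
        ∑ j ∈ range (k + 1), ((-1) ^ (j + k) * (k.choose j : Ω)) *
          (∏ i, (((1 : Ω) + X (v i)) ^ j - 1) - (j : Ω) ^ k * ∏ i, (X (v i) : Ω)) := by
      rw [← hid]
      push_cast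
      rw [Finset.sum_mul, ← Finset.sum_sub_distrib]
      refine Finset.sum_congr rfl fun j _ => by ring
    rw [e]
    exact Ideal.sum_mem _ fun j _ => Ideal.mul_mem_left _ _ (hPj j)

theorem gpsi_mem (H : LineHyp τ) (f : Ω) (w : ℕ) (hw : 1 ≤ w) (hf : f ∈ 𝔪 ^ w) (k : ℕ)
    (hk : 1 ≤ k) :
    gpsi k f ∈ 𝔪 ^ (max k w) ∧ (k = w → gpsi k f - (w.factorial : Ω) * f ∈ 𝔪 ^ (w + 1)) := by
  classical
  have hsupp := (mem_pow_idealOfVars_iff w f).1 hf
  have hmono : ∀ d ∈ f.support, gpsi k (monomial d (coeff d f)) ∈ 𝔪 ^ (max k w) ∧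
      (k = w → gpsi k (monomial d (coeff d f)) -
        (w.factorial : Ω) * monomial d (coeff d f) ∈ 𝔪 ^ (w + 1)) := by
    intro d hd
    have hdw : w ≤ d.degree := hsupp d hd
    have hcard : Fintype.card (Σ a : {a // a ∈ d.support}, Fin (d a.1)) = d.degree := by
      rw [Fintype.card_sigma]
      simp only [Fintype.card_fin]
      rw [Finset.sum_coe_sort d.support (fun a => d a)]
      rfl
    haveI : Nonempty (Σ a : {a // a ∈ d.support}, Fin (d a.1)) :=
      Fintype.card_pos_iff.1 (by omega)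
    have hμ := monomial_one_eq_prod d
    obtain ⟨m1, m2, m3⟩ := gpsi_prod_X H
      (fun x : (Σ a : {a // a ∈ d.support}, Fin (d a.1)) => x.1.1) k hk
    rw [← hμ] at m1 m2 m3
    rw [hcard] at m2 m3
    have hμmem : (monomial d (1 : ℚ) : Ω) ∈ 𝔪 ^ d.degree :=
      (monomial_mem_pow_idealOfVars_iff d.degree d one_ne_zero).2 le_rfl
    have hsm : (monomial d (coeff d f) : Ω) = (coeff d f) • (monomial d (1 : ℚ) : Ω) := by
      rw [smul_monomial, smul_eq_mul, mul_one]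
    have hg : gpsi k (monomial d (coeff d f)) = (coeff d f) • gpsi k (monomial d (1 : ℚ)) := by
      rw [hsm]
      exact map_rat_smul (gpsiHom k) _ _
    constructor
    · rw [hg]
      apply Submodule.smul_of_tower_mem
      rcases le_total k w with h | h
      · rw [max_eq_right h]
        exact Ideal.pow_le_pow_right hdw m2
      · rw [max_eq_left h]
        exact m1
    · intro hkw
      rw [hg, hsm, mul_smul_comm, ← smul_sub]
      apply Submodule.smul_of_tower_mem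
      rcases Nat.lt_or_ge w d.degree with h | h
      · exact Ideal.sub_mem _ (Ideal.pow_le_pow_right h m2)
          (Ideal.mul_mem_left _ _ (Ideal.pow_le_pow_right h hμmem))
      · have hkd : k = d.degree := by omega
        have := m3 hkd
        rw [← hkw]
        exact this
  have hsum : gpsi k f = ∑ d ∈ f.support, gpsi k (monomial d (coeff d f)) := by
    conv_lhs => rw [f.as_sum]
    exact map_sum (gpsiHom k) _ _
  constructor
  · rw [hsum]
    exact Ideal.sum_mem _ fun d hd => (hmono d hd).1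
  · intro hkw
    have : gpsi k f - (w.factorial : Ω) * f = ∑ d ∈ f.support,
        (gpsi k (monomial d (coeff d f)) - (w.factorial : Ω) * monomial d (coeff d f)) := by
      rw [Finset.sum_sub_distrib, ← hsum, ← Finset.mul_sum, ← f.as_sum]
    rw [this]
    exact Ideal.sum_mem _ fun d hd => (hmono d hd).2 hkw

/-- `γ^n(𝔪^w) ⊆ 𝔪^(max n w)` -/
theorem gamma_mem_pow (H : LineHyp τ) (f : Ω) (w : ℕ) (hw : 1 ≤ w) (hf : f ∈ 𝔪 ^ w) :
    ∀ n : ℕ, 1 ≤ n → gamma n f ∈ 𝔪 ^ (max n w) := by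
  intro n
  induction n using Nat.strong_induction_on with
  | _ n ih =>
    intro hn
    obtain ⟨n', rfl⟩ : ∃ n', n = n' + 1 := ⟨n - 1, by omega⟩
    apply mem_of_natCast_mul_mem (n' + 1) (Nat.succ_ne_zero n')
    rw [gpsi_newton]
    refine Ideal.sum_mem _ fun i hi => ?_
    rw [Finset.mem_range] at hi
    have hg := (gpsi_mem H f w hw hf (i + 1) (by omega)).1
    rw [mul_assoc]
    apply Ideal.mul_mem_left
    by_cases h0 : n' - i = 0
    · rw [h0, gamma_zero_left, mul_one]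
      have : i = n' := by omega
      subst this
      exact hg
    · have h2 := ih (n' - i) (by omega) (by omega)
      have h3 := Ideal.mul_mem_mul hg h2
      rw [← pow_add] at h3
      refine Ideal.pow_le_pow_right ?_ h3
      have := max_add_le (i + 1) (n' - i) w
      have e : i + 1 + (n' - i) = n' + 1 := by omega
      rw [e] at this
      exact this

/-- `γ^w(f) ≡ (-1)^(w-1) (w-1)! f` modulo `𝔪^(w+1)` for `f ∈ 𝔪^w` -/
theorem gamma_leading (H : LineHyp τ) (f : Ω) (w : ℕ) (hw : 1 ≤ w) (hf : f ∈ 𝔪 ^ w) :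
    gamma w f - (((-1) ^ (w - 1) * ((w - 1).factorial : ℤ) : ℤ) : Ω) * f ∈ 𝔪 ^ (w + 1) := by
  obtain ⟨n', rfl⟩ : ∃ n', w = n' + 1 := ⟨w - 1, by omega⟩
  apply mem_of_natCast_mul_mem (n' + 1) (Nat.succ_ne_zero n')
  have hN := gpsi_newton f n'
  rw [Finset.sum_range_succ, Nat.sub_self, gamma_zero_left, mul_one] at hN
  have hlead := (gpsi_mem H f (n' + 1) hw hf (n' + 1) (by omega)).2 rfl
  have hrest : ∑ i ∈ range n', (-1) ^ i * gpsi (i + 1) f * gamma (n' - i) f ∈
      𝔪 ^ (n' + 1 + 1) := by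
    refine Ideal.sum_mem _ fun i hi => ?_
    rw [Finset.mem_range] at hi
    have hg := (gpsi_mem H f (n' + 1) hw hf (i + 1) (by omega)).1
    have h2 := gamma_mem_pow H f (n' + 1) hw hf (n' - i) (by omega)
    rw [mul_assoc]
    apply Ideal.mul_mem_left
    have h3 := Ideal.mul_mem_mul hg h2
    rw [← pow_add] at h3
    refine Ideal.pow_le_pow_right ?_ h3
    have a1 : n' + 1 ≤ max (i + 1) (n' + 1) := le_max_right _ _
    have a2 : n' + 1 ≤ max (n' - i) (n' + 1) := le_max_right _ _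
    omega
  have e : ((n' + 1 : ℕ) : Ω) * (gamma (n' + 1) f -
      (((-1) ^ (n' + 1 - 1) * ((n' + 1 - 1).factorial : ℤ) : ℤ) : Ω) * f) =
      ∑ i ∈ range n', (-1) ^ i * gpsi (i + 1) f * gamma (n' - i) f +
        (-1) ^ n' * (gpsi (n' + 1) f - ((n' + 1).factorial : Ω) * f) := by
    rw [mul_sub, hN, Nat.add_sub_cancel, Nat.factorial_succ]
    push_cast
    ring
  rw [e]
  exact Ideal.add_mem _ hrest (Ideal.mul_mem_left _ _ hlead)

end Poly

end Groth.Agent.Lib.LambdaOpsH1
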