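import Mathlib
import Groth.Agent.Lib.LambdaUnivG_helper1

/-!
# Special λ-ring structures on polynomial rings over ℚ (helper1).  APPEND-ONLY once landed.

`polyLam τ e`: the λ-structure on `ℚ[X_v]` whose Adams operations are the algebra maps
`X_v ↦ (e + X_v)^k - e`, so that the `e + X_v` are line elements.
-/

set_option autoImplicit false
universe u v w

open MvPolynomial Finset

namespace Groth.Agent.Lib.LambdaOpsH1

open LambdaRing Groth.Agent.Lib.LambdaUnivH1 Groth.Agent.Lib.LambdaRingH1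
  Groth.Agent.Lib.LambdaAdamsH1 Groth.Agent.Lib.LambdaInvH1

section PolyLam

variable (τ : Type u) (e : ℚ)

/-- the Adams operations as algebra maps -/
noncomputable def polyPsiAlg (k : ℕ) : MvPolynomial τ ℚ →ₐ[ℚ] MvPolynomial τ ℚ :=
  aeval (fun v => (C e + X v) ^ k - C e)

theorem polyPsiAlg_X (k : ℕ) (v : τ) : polyPsiAlg τ e k (X v) = (C e + X v) ^ k - C e := by
  unfold polyPsiAlg
  rw [aeval_X]

theorem polyPsiAlg_C (k : ℕ) (q : ℚ) : polyPsiAlg τ e k (C q) = C q := by
  rw [← MvPolynomial.algebraMap_eq, AlgHom.commutes]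

theorem polyPsiAlg_line (k : ℕ) (v : τ) : polyPsiAlg τ e k (C e + X v) = (C e + X v) ^ k := by
  rw [map_add, polyPsiAlg_X, polyPsiAlg_C]
  ring

/-- the Adams operations as additive maps -/
noncomputable def polyPsi (k : ℕ) : MvPolynomial τ ℚ →+ MvPolynomial τ ℚ :=
  ((polyPsiAlg τ e k : MvPolynomial τ ℚ →+* MvPolynomial τ ℚ) :
    MvPolynomial τ ℚ →+ MvPolynomial τ ℚ)

theorem polyPsi_apply (k : ℕ) (f : MvPolynomial τ ℚ) : polyPsi τ e k f = polyPsiAlg τ e k f := rfl

theorem polyPsi_one : polyPsi τ e 1 = AddMonoidHom.id _ := by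
  refine AddMonoidHom.ext fun f => ?_
  show polyPsiAlg τ e 1 f = f
  have : polyPsiAlg τ e 1 = AlgHom.id ℚ _ := by
    apply MvPolynomial.algHom_ext
    intro v
    rw [polyPsiAlg_X, pow_one, add_sub_cancel_left, AlgHom.id_apply]
  rw [this, AlgHom.id_apply]

/-- the λ-structure on `ℚ[X_v]` with line elements `e + X_v` -/
noncomputable def polyLam : LambdaOps (MvPolynomial τ ℚ) :=
  lamOps (polyPsi τ e) (polyPsi_one τ e)

theorem polyLam_adams (k : ℕ) (hk : 1 ≤ k) (f : MvPolynomial τ ℚ) :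
    @adamsOp _ _ (polyLam τ e) k f = polyPsiAlg τ e k f :=
  adamsOp_lamOps (polyPsi τ e) (polyPsi_one τ e) k hk f

theorem polyPsiAlg_comp (k k' : ℕ) (f : MvPolynomial τ ℚ) :
    polyPsiAlg τ e k (polyPsiAlg τ e k' f) = polyPsiAlg τ e (k * k') f := by
  have : (polyPsiAlg τ e k).comp (polyPsiAlg τ e k') = polyPsiAlg τ e (k * k') := by
    apply MvPolynomial.algHom_ext
    intro v
    rw [AlgHom.comp_apply, polyPsiAlg_X, map_sub, map_pow, polyPsiAlg_line, polyPsiAlg_C,
      polyPsiAlg_X, ← pow_mul]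
  exact AlgHom.congr_fun this f

theorem polyLam_special : @IsSpecial (MvPolynomial τ ℚ) _ (polyLam τ e) := by
  refine @isSpecial_of_adams _ _ (polyLam τ e) _ ?_ ?_ ?_
  · intro k hk
    rw [polyLam_adams τ e k hk, map_one]
  · intro k hk x y
    rw [polyLam_adams τ e k hk, polyLam_adams τ e k hk, polyLam_adams τ e k hk, map_mul]
  · intro k k' hk hk' x
    rw [polyLam_adams τ e k' hk', polyLam_adams τ e k hk,
      polyLam_adams τ e (k * k') (Nat.mul_pos hk hk'), polyPsiAlg_comp]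

end PolyLam

section Lines

/-- over a ℚ-algebra, an element with `ψ^k u = u^k` for all `k` is a line element -/
theorem lam_eq_zero_of_adams_pow {K : Type u} [CommRing K] [LambdaOps K] [Algebra ℚ K] (u : K)
    (h : ∀ k : ℕ, 1 ≤ k → adamsOp k u = u ^ k) (j : ℕ) (hj : 2 ≤ j) :
    LambdaOps.lam j u = 0 := by
  rw [lam_eq_lamRecSeq u j,
    lamRecSeq_congr _ (fun k => ∑ i ∈ ({()} : Finset Unit), (fun _ => u) i ^ k)
      (fun k hk => by rw [h k hk, Finset.sum_singleton]) j,
    lamRecSeq_psum_finset]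
  apply esymm_eq_zero_of_lt
  simp only [Finset.singleton_val, Multiset.map_singleton, Multiset.card_singleton]
  omega

variable (τ : Type u) (e : ℚ)

theorem polyLam_line {ι : Type*} (t : Finset ι) (v : ι → τ) (j : ℕ) (hj : 2 ≤ j) :
    @LambdaOps.lam _ _ (polyLam τ e) j (∏ i ∈ t, (C e + X (v i))) = 0 := by
  refine @lam_eq_zero_of_adams_pow _ _ (polyLam τ e) _ _ (fun k hk => ?_) j hj
  rw [polyLam_adams τ e k hk, map_prod, ← Finset.prod_pow]
  exact Finset.prod_congr rfl fun i _ => polyPsiAlg_line τ e k (v i)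

end Lines

end Groth.Agent.Lib.LambdaOpsH1
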