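import Mathlib
import Groth.Agent.Lib.LambdaOpsH_helper1

/-!
# Weight filtrations and the symmetric realisation of multi-variable operations (helper1).
APPEND-ONLY once landed.
-/

set_option autoImplicit false
universe u v w

open MvPolynomial Finset
open scoped Pointwise

namespace Groth.Agent.Lib.LambdaOpsH1

open LambdaRing

section WtIdeal

variable {τ : Type*} (R : Type*) [CommRing R]

open Classical in
/-- polynomials all of whose monomials have weight at least `r` -/
def wtIdeal (w : τ → ℕ) (r : ℕ) : Ideal (MvPolynomial τ R) where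
  carrier := {p | ∀ d ∈ p.support, r ≤ Finsupp.weight w d}
  zero_mem' := by
    intro d hd
    simp at hd
  add_mem' := by
    intro p q hp hq d hd
    rcases Finset.mem_union.1 (MvPolynomial.support_add hd) with h | h
    · exact hp d h
    · exact hq d h
  smul_mem' := by
    intro c p hp d hd
    rw [smul_eq_mul] at hd
    obtain ⟨a, _, b, hb, rfl⟩ := Finset.mem_add.1 (MvPolynomial.support_mul c p hd)
    rw [map_add]
    exact le_trans (hp b hb) (Nat.le_add_left _ _)

variable {R}

theorem mem_wtIdeal {w : τ → ℕ} {r : ℕ} {p : MvPolynomial τ R} :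
    p ∈ wtIdeal R w r ↔ ∀ d ∈ p.support, r ≤ Finsupp.weight w d := Iff.rfl

theorem wtIdeal_anti (w : τ → ℕ) {a b : ℕ} (h : a ≤ b) : wtIdeal R w b ≤ wtIdeal R w a :=
  fun _ hp d hd => le_trans h (hp d hd)

theorem mul_mem_wtIdeal {w : τ → ℕ} {a b : ℕ} {p q : MvPolynomial τ R}
    (hp : p ∈ wtIdeal R w a) (hq : q ∈ wtIdeal R w b) : p * q ∈ wtIdeal R w (a + b) := by
  classical
  intro d hd
  obtain ⟨x, hx, y, hy, rfl⟩ := Finset.mem_add.1 (MvPolynomial.support_mul p q hd)
  rw [map_add]
  exact add_le_add (hp x hx) (hq y hy)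

theorem monomial_mem_wtIdeal (w : τ → ℕ) (d : τ →₀ ℕ) (c : R) :
    monomial d c ∈ wtIdeal R w (Finsupp.weight w d) := by
  classical
  intro d' hd'
  have := MvPolynomial.support_monomial_subset hd'
  rw [Finset.mem_singleton] at this
  rw [this]

theorem X_mem_wtIdeal (w : τ → ℕ) (v : τ) : (X v : MvPolynomial τ R) ∈ wtIdeal R w (w v) := by
  have h := monomial_mem_wtIdeal (R := R) w (Finsupp.single v 1) 1
  rw [Finsupp.weight_single, one_smul] at h
  exact h

theorem wtIdeal_zero (w : τ → ℕ) : wtIdeal R w 0 = ⊤ :=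
  Ideal.eq_top_iff_one _ |>.2 (fun _ _ => Nat.zero_le _)

/-- a multiplicative decreasing filtration by ideals -/
structure IsFilt {S : Type*} [CommRing S] (J : ℕ → Ideal S) : Prop where
  zero : J 0 = ⊤
  mul : ∀ a b x y, x ∈ J a → y ∈ J b → x * y ∈ J (a + b)
  anti : ∀ a b, a ≤ b → J b ≤ J a

theorem IsFilt.pow_mem {S : Type*} [CommRing S] {J : ℕ → Ideal S} (hJ : IsFilt J) {a : ℕ} {x : S}
    (hx : x ∈ J a) (n : ℕ) : x ^ n ∈ J (n * a) := by
  induction n with
  | zero => rw [zero_mul, hJ.zero]; exact Submodule.mem_top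
  | succ n ih =>
    rw [pow_succ, Nat.succ_mul]
    exact hJ.mul _ _ _ _ ih hx

theorem IsFilt.prod_mem {S : Type*} [CommRing S] {J : ℕ → Ideal S} (hJ : IsFilt J) {ι : Type*}
    (s : Finset ι) (f : ι → S) (a : ι → ℕ) (h : ∀ i ∈ s, f i ∈ J (a i)) :
    ∏ i ∈ s, f i ∈ J (∑ i ∈ s, a i) := by
  classical
  induction s using Finset.induction_on with
  | empty => rw [Finset.prod_empty, Finset.sum_empty, hJ.zero]; exact Submodule.mem_top
  | insert i s hi ih =>
    rw [Finset.prod_insert hi, Finset.sum_insert hi]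
    exact hJ.mul _ _ _ _ (h i (Finset.mem_insert_self i s))
      (ih fun k hk => h k (Finset.mem_insert_of_mem hk))

theorem IsFilt.aeval_mem {S : Type*} [CommRing S] [Algebra R S] {J : ℕ → Ideal S} (hJ : IsFilt J)
    (w : τ → ℕ) (g : τ → S) (hg : ∀ v, g v ∈ J (w v)) (r : ℕ) (p : MvPolynomial τ R)
    (hp : p ∈ wtIdeal R w r) : aeval g p ∈ J r := by
  have hsum := p.as_sum
  rw [hsum, map_sum]
  refine Ideal.sum_mem _ fun d hd => ?_
  rw [aeval_monomial]
  apply Ideal.mul_mem_left
  apply hJ.anti _ _ (hp d hd)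
  rw [Finsupp.weight_apply]
  unfold Finsupp.prod Finsupp.sum
  apply hJ.prod_mem
  intro v _
  show g v ^ d v ∈ J (d v * w v)
  exact hJ.pow_mem (hg v) (d v)

theorem isFilt_wtIdeal (w : τ → ℕ) : IsFilt (fun r => wtIdeal R w r) where
  zero := wtIdeal_zero w
  mul := fun _ _ _ _ hx hy => mul_mem_wtIdeal hx hy
  anti := fun _ _ h => wtIdeal_anti w h

theorem isFilt_idealOfVars : IsFilt (fun r => idealOfVars τ R ^ r) where
  zero := by simp
  mul := fun a b x y hx hy => by
    rw [pow_add]
    exact Ideal.mul_mem_mul hx hy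
  anti := fun _ _ h => Ideal.pow_le_pow_right h

end WtIdeal

section Roots

theorem exists_roots (N : ℕ) (y : ℕ → ℂ) :
    ∃ r : Fin N → ℂ, ∀ j, j < N → ((univ : Finset (Fin N)).val.map r).esymm (j + 1) = y j := by
  classical
  obtain ⟨c, hc⟩ : ∃ c : Fin N → ℂ,
      c = fun k : Fin N => (-1) ^ (N - (k : ℕ)) * y (N - (k : ℕ) - 1) := ⟨_, rfl⟩
  obtain ⟨p, hp⟩ : ∃ p : Polynomial ℂ,
      p = ∑ k : Fin N, Polynomial.C (c k) * Polynomial.X ^ (k : ℕ) := ⟨_, rfl⟩
  have hpdeg : p.degree < (N : WithBot ℕ) := by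
    rw [hp]
    exact Polynomial.degree_sum_fin_lt c
  obtain ⟨f, hf⟩ : ∃ f : Polynomial ℂ, f = Polynomial.X ^ N + p := ⟨_, rfl⟩
  have hmonic : f.Monic := by
    rw [hf]
    exact Polynomial.monic_X_pow_add hpdeg
  have hdeg : f.degree = (N : WithBot ℕ) := by
    rw [hf, Polynomial.degree_add_eq_left_of_degree_lt
      (by rw [Polynomial.degree_X_pow]; exact hpdeg), Polynomial.degree_X_pow]
  have hnat : f.natDegree = N := Polynomial.natDegree_eq_of_degree_eq_some hdeg
  have hcard : Multiset.card f.roots = f.natDegree := IsAlgClosed.card_roots_eq_natDegree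
  have hcoeff : ∀ k : Fin N, f.coeff k = c k := by
    intro k
    rw [hf, Polynomial.coeff_add, Polynomial.coeff_X_pow,
      if_neg (by have := k.2; omega), zero_add, hp, Polynomial.finsetSum_coeff]
    rw [Finset.sum_eq_single k]
    · rw [Polynomial.coeff_C_mul_X_pow, if_pos rfl]
    · intro b _ hb
      rw [Polynomial.coeff_C_mul_X_pow, if_neg]
      intro h
      exact hb (Fin.ext h).symm
    · intro h
      exact absurd (Finset.mem_univ k) h
  obtain ⟨l, hl⟩ : ∃ l : List ℂ, (l : Multiset ℂ) = f.roots := Quot.exists_rep f.roots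
  have hlen : l.length = N := by
    have := congrArg Multiset.card hl
    rw [Multiset.coe_card] at this
    omega
  have hmap : (univ : Finset (Fin N)).val.map (fun a => l.get (Fin.cast hlen.symm a)) =
      f.roots := by
    rw [← hl, Fin.univ_val_map]
    congr 1
    exact (List.ofFn_congr hlen l.get).symm.trans (List.ofFn_get l)
  refine ⟨fun a => l.get (Fin.cast hlen.symm a), fun j hj => ?_⟩
  rw [hmap]
  have hk : N - 1 - j < N := by omega
  have h1 := Polynomial.coeff_eq_esymm_roots_of_card hcard (k := N - 1 - j)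
    (by rw [hnat]; omega)
  have h2 : f.coeff (N - 1 - j) =
      (-1) ^ (N - (N - 1 - j)) * y (N - (N - 1 - j) - 1) := by
    have := hcoeff ⟨N - 1 - j, hk⟩
    rw [hc] at this
    exact this
  rw [hmonic.leadingCoeff, one_mul, hnat] at h1
  have e1 : N - (N - 1 - j) = j + 1 := by omega
  rw [e1] at h1 h2
  have e2 : j + 1 - 1 = j := by omega
  rw [e2] at h2
  have h3 : (-1 : ℂ) ^ (j + 1) * f.roots.esymm (j + 1) = (-1) ^ (j + 1) * y j :=
    h1.symm.trans h2
  exact mul_left_cancel₀ (pow_ne_zero _ (neg_ne_zero.2 one_ne_zero)) h3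

end Roots

section Real

variable {σ : Type*} {τ : Type*} {N : ℕ} (fam : σ → Fin N → τ)

/-- the weight of the variable `X (s, j)`: it stands for a `(j+1)`-st operation -/
def wγ : σ × ℕ → ℕ := fun p => p.2 + 1

/-- elementary symmetric polynomial of the `s`-th family -/
noncomputable def esymmFam (s : σ) (k : ℕ) : MvPolynomial τ ℚ :=
  ∑ t ∈ (univ : Finset (Fin N)).powersetCard k, ∏ a ∈ t, X (fam s a)

/-- the symmetric realisation -/
noncomputable def real : Op σ →ₐ[ℤ] MvPolynomial τ ℚ :=
  aeval (fun p : σ × ℕ => esymmFam fam p.1 (p.2 + 1))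

theorem esymmFam_isHomogeneous (s : σ) (k : ℕ) : (esymmFam fam s k).IsHomogeneous k := by
  unfold esymmFam
  apply IsHomogeneous.sum
  intro t ht
  rw [Finset.mem_powersetCard] at ht
  have h := IsHomogeneous.prod t (fun a => (X (fam s a) : MvPolynomial τ ℚ)) (fun _ => 1)
    (fun a _ => isHomogeneous_X ℚ (fam s a))
  rw [Finset.sum_const, smul_eq_mul, mul_one, ht.2] at h
  exact h

theorem mem_pow_idealOfVars_of_isHomogeneous {p : MvPolynomial τ ℚ} {k : ℕ}
    (h : p.IsHomogeneous k) : p ∈ idealOfVars τ ℚ ^ k := by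
  rw [mem_pow_idealOfVars_iff]
  intro d hd
  rw [Finsupp.degree_eq_weight_one]
  exact (h (mem_support_iff.1 hd)).ge

theorem esymmFam_mem (s : σ) (k : ℕ) : esymmFam fam s k ∈ idealOfVars τ ℚ ^ k :=
  mem_pow_idealOfVars_of_isHomogeneous (esymmFam_isHomogeneous fam s k)

theorem real_mem {F : Op σ} {r : ℕ} (hF : F ∈ wtIdeal ℤ (wγ (σ := σ)) r) :
    real fam F ∈ idealOfVars τ ℚ ^ r :=
  isFilt_idealOfVars.aeval_mem (wγ (σ := σ)) _ (fun p => esymmFam_mem fam p.1 (p.2 + 1)) r F hF

theorem real_monomial_isHomogeneous (d : σ × ℕ →₀ ℕ) (c : ℤ) :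
    (real fam (monomial d c)).IsHomogeneous (Finsupp.weight (wγ (σ := σ)) d) := by
  unfold real
  rw [aeval_monomial]
  have hc : (algebraMap ℤ (MvPolynomial τ ℚ)) c = C (c : ℚ) := by
    rw [eq_intCast (algebraMap ℤ (MvPolynomial τ ℚ)) c, map_intCast]
  rw [hc]
  apply IsHomogeneous.C_mul
  rw [Finsupp.prod, Finsupp.weight_apply, Finsupp.sum]
  apply IsHomogeneous.prod
  intro p _
  have h2 := (esymmFam_isHomogeneous fam p.1 (p.2 + 1)).pow (d p)
  rw [smul_eq_mul, mul_comm]
  exact h2

theorem hc_real (n : ℕ) (Q : Op σ) :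
    homogeneousComponent n (real fam Q) =
      real fam (weightedHomogeneousComponent (wγ (σ := σ)) n Q) := by
  induction Q using MvPolynomial.induction_on' with
  | monomial d c =>
    rw [homogeneousComponent_of_mem (real_monomial_isHomogeneous fam d c),
      weightedHomogeneousComponent_of_mem
        (isWeightedHomogeneous_monomial (wγ (σ := σ)) d c rfl)]
    split_ifs <;> simp
  | add p q hp hq => rw [map_add, map_add, hp, hq, map_add, map_add]

theorem ringHom_aevalZ {K K' : Type*} [CommRing K] [CommRing K'] {ι : Type*} (Ψ : K →+* K')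
    (g : ι → K) (f : MvPolynomial ι ℤ) :
    Ψ (aeval g f) = aeval (fun j => Ψ (g j)) f := by
  have h := comp_aeval_apply (f := g) Ψ.toIntAlgHom f
  exact h

/-- injectivity of the realisation on operations of level `< N` -/
theorem real_eq_zero_imp (hfam : Function.Injective (fun p : σ × Fin N => fam p.1 p.2))
    (G : Op σ) (hv : ∀ p ∈ G.vars, p.2 < N) (h0 : real fam G = 0) : G = 0 := by
  classical
  have key : ∀ y : σ × ℕ → ℂ, aeval y G = 0 := by
    intro y
    choose r hr using fun s : σ => exists_roots N (fun j => y (s, j))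
    let ρ : τ → ℂ := fun v =>
      if h : ∃ p : σ × Fin N, fam p.1 p.2 = v then r h.choose.1 h.choose.2 else 0
    have hρ : ∀ s a, ρ (fam s a) = r s a := by
      intro s a
      have hex : ∃ p : σ × Fin N, fam p.1 p.2 = fam s a := ⟨(s, a), rfl⟩
      have h2 : hex.choose = (s, a) := hfam hex.choose_spec
      simp only [ρ, dif_pos hex]
      rw [h2]
    let φ : MvPolynomial τ ℚ →+* ℂ := eval₂Hom (algebraMap ℚ ℂ) ρ
    have h1 : φ (real fam G) =
        aeval (fun p : σ × ℕ => φ (esymmFam fam p.1 (p.2 + 1))) G := by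
      unfold real
      exact ringHom_aevalZ φ _ G
    rw [h0, map_zero] at h1
    rw [h1, aeval_eq_eval₂Hom, aeval_eq_eval₂Hom]
    refine eval₂Hom_congr' rfl (fun p hp _ => ?_) rfl
    have hp2 := hv p hp
    have h3 : φ (esymmFam fam p.1 (p.2 + 1)) =
        ((univ : Finset (Fin N)).val.map (r p.1)).esymm (p.2 + 1) := by
      unfold esymmFam
      rw [map_sum, Finset.esymm_map_val]
      refine Finset.sum_congr rfl fun t _ => ?_
      rw [map_prod]
      refine Finset.prod_congr rfl fun a _ => ?_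
      show eval₂Hom (algebraMap ℚ ℂ) ρ (X (fam p.1 a)) = r p.1 a
      rw [eval₂Hom_X', hρ]
    rw [h3, hr p.1 p.2 hp2]
  have hmap : MvPolynomial.map (Int.castRingHom ℂ) G = 0 := by
    apply MvPolynomial.funext
    intro y
    rw [eval_map, map_zero]
    have := key y
    rw [aeval_def, algebraMap_int_eq] at this
    exact this
  exact MvPolynomial.map_injective (Int.castRingHom ℂ) Int.cast_injective
    (by rw [hmap, map_zero])

/-- weights can be read off from the degrees of the realisation -/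
theorem wt_of_real (hfam : Function.Injective (fun p : σ × Fin N => fam p.1 p.2))
    (G : Op σ) (hv : ∀ p ∈ G.vars, p.2 < N) (r : ℕ)
    (h : real fam G ∈ idealOfVars τ ℚ ^ r) : G ∈ wtIdeal ℤ (wγ (σ := σ)) r := by
  intro d hd
  by_contra hlt
  push Not at hlt
  rw [mem_pow_idealOfVars_iff] at h
  have h1 : homogeneousComponent (Finsupp.weight (wγ (σ := σ)) d) (real fam G) = 0 := by
    ext d'
    rw [coeff_homogeneousComponent, coeff_zero]
    split_ifs with hdeg
    · by_contra hne
      have := h d' (mem_support_iff.2 hne)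
      omega
    · rfl
  rw [hc_real] at h1
  have hvars : ∀ p ∈ (weightedHomogeneousComponent (wγ (σ := σ))
      (Finsupp.weight (wγ (σ := σ)) d) G).vars, p.2 < N := by
    intro p hp
    apply hv
    rw [mem_vars_iff_mem_support] at hp ⊢
    obtain ⟨d', hd', hpd'⟩ := hp
    refine ⟨d', ?_, hpd'⟩
    rw [mem_support_iff, coeff_weightedHomogeneousComponent] at hd'
    rw [mem_support_iff]
    intro h0
    apply hd'
    rw [h0]
    simp
  have h2 := real_eq_zero_imp fam hfam _ hvars h1
  have h3 := congrArg (coeff d) h2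
  rw [coeff_weightedHomogeneousComponent, if_pos rfl, coeff_zero] at h3
  exact (mem_support_iff.1 hd) h3

end Real

end Groth.Agent.Lib.LambdaOpsH1
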