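import Mathlib
import Groth.Agent.Lib.LambdaPolyH_helper1
import Groth.Agent.Lib.LambdaRealH_helper1
import Groth.Agent.Lib.LambdaDegH_helper1

/-!
# Weights of `γ^i` of an operation (helper1).  APPEND-ONLY once landed.

For an operation `F` in γ-coordinates all of whose monomials have weight `≥ w ≥ 1`, the operation
`γ^i ∘ F` is given by a polynomial all of whose monomials have weight `≥ max i w`, and
`γ^w ∘ F ≡ (-1)^(w-1) (w-1)! F` modulo weight `≥ w + 1`.
-/

set_option autoImplicit false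
universe u v w

open MvPolynomial Finset

namespace Groth.Agent.Lib.LambdaOpsH1

open LambdaRing Groth.Agent.Lib.LambdaUnivH1 Groth.Agent.Lib.LambdaRingH1
  Groth.Agent.Lib.LambdaAdamsH1 Groth.Agent.Lib.LambdaGAH1

section Core

variable {σ : Type}

/-- the families of variables of the realisation ring in universe `v` -/
def famU (N : ℕ) : σ → Fin N → ULift.{v} (σ × Fin N) := fun s a => ULift.up (s, a)

theorem famU_injective (N : ℕ) :
    Function.Injective (fun p : σ × Fin N => famU.{v} N p.1 p.2) := by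
  intro p q h
  obtain ⟨p1, p2⟩ := p
  obtain ⟨q1, q2⟩ := q
  have h2 : (p1, p2) = (q1, q2) := ULift.up_injective h
  exact h2

theorem lineHyp_polyLam (τ : Type u) : @LineHyp τ (polyLam τ 1) := by
  refine @LineHyp.mk τ (polyLam τ 1) (@IsSpecial.lam_one_eq_zero _ _ (polyLam τ 1) (polyLam_special τ 1)) ?_
  intro ι t v j hj
  have := polyLam_line τ 1 t v j hj
  rw [C_1] at this
  exact this

theorem algHom_C_int {B : Type*} [CommRing B] [Algebra ℤ B] (φ : Op σ →ₐ[ℤ] B) (κ : ℤ) :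
    φ (C κ) = (κ : B) := by
  rw [← MvPolynomial.algebraMap_eq, AlgHom.commutes, eq_intCast]

theorem evG_xs_eq_real (N : ℕ) (F : Op σ) :
    @evG σ (MvPolynomial (ULift.{v} (σ × Fin N)) ℚ) _ (polyLam _ 1)
      (fun s => ∑ a : Fin N, X (famU.{v} N s a)) F = real (famU.{v} N) F := by
  classical
  unfold evG real
  congr 2
  funext p
  have hy : ∀ a ∈ (univ : Finset (Fin N)), ∀ j : ℕ, 2 ≤ j →
      @LambdaOps.lam _ _ (polyLam (ULift.{v} (σ × Fin N)) 1) j
        ((1 : MvPolynomial (ULift.{v} (σ × Fin N)) ℚ) + X (famU.{v} N p.1 a)) = 0 := by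
    intro a _ j hj
    have := polyLam_line (ULift.{v} (σ × Fin N)) 1 ({a} : Finset (Fin N))
      (fun a => famU.{v} N p.1 a) j hj
    rw [Finset.prod_singleton, C_1] at this
    exact this
  have h := @gamma_sum_line_sub_one _ _ (polyLam (ULift.{v} (σ × Fin N)) 1)
    (@IsSpecial.lam_one_eq_zero _ _ (polyLam (ULift.{v} (σ × Fin N)) 1) (polyLam_special _ 1))
    (Fin N) _ univ
    (fun a => (1 : MvPolynomial (ULift.{v} (σ × Fin N)) ℚ) + X (famU.{v} N p.1 a)) hy (p.2 + 1)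
  simp only [add_sub_cancel_left] at h
  exact h

/-- weights of `γ^i ∘ F` -/
theorem core (F : Op σ) (w : ℕ) (hw : 1 ≤ w) (hF : F ∈ wtIdeal ℤ (wγ (σ := σ)) w) (i : ℕ)
    (hi : 1 ≤ i) :
    ∃ G : Op σ, G ∈ wtIdeal ℤ (wγ (σ := σ)) (max i w) ∧
      ∀ (A : Type v) [CommRing A] [LambdaOps A], IsSpecial A →
        ∀ x : σ → A, gamma i (evG x F) = evG x G := by
  classical
  obtain ⟨G, hG⟩ := exists_gammaOp.{0, v} F i
  refine ⟨G, ?_, hG⟩
  obtain ⟨N, hN⟩ : ∃ N : ℕ, ∀ p ∈ G.vars, p.2 < N :=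
    ⟨G.vars.sup Prod.snd + 1, fun p hp =>
      Nat.lt_succ_of_le (Finset.le_sup (f := Prod.snd) hp)⟩
  apply wt_of_real (famU.{v} N) (famU_injective N) G hN
  have h1 := @hG (MvPolynomial (ULift.{v} (σ × Fin N)) ℚ) _ (polyLam _ 1) (polyLam_special _ 1)
    (fun s => ∑ a : Fin N, X (famU.{v} N s a))
  rw [evG_xs_eq_real, evG_xs_eq_real] at h1
  rw [← h1]
  exact @gamma_mem_pow _ (polyLam _ 1) (lineHyp_polyLam _) (real (famU.{v} N) F) w hw
    (real_mem (famU.{v} N) hF) i hi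

/-- the leading term of `γ^w ∘ F` -/
theorem core_leading (F : Op σ) (w : ℕ) (hw : 1 ≤ w) (hF : F ∈ wtIdeal ℤ (wγ (σ := σ)) w) :
    ∃ G' : Op σ, G' ∈ wtIdeal ℤ (wγ (σ := σ)) (w + 1) ∧
      ∀ (A : Type v) [CommRing A] [LambdaOps A], IsSpecial A →
        ∀ x : σ → A, gamma w (evG x F) =
          (((-1) ^ (w - 1) * ((w - 1).factorial : ℤ) : ℤ) : A) * evG x F + evG x G' := by
  classical
  obtain ⟨G, hG⟩ := exists_gammaOp.{0, v} F w
  obtain ⟨κ, hκ⟩ : ∃ κ : ℤ, κ = (-1) ^ (w - 1) * ((w - 1).factorial : ℤ) := ⟨_, rfl⟩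
  rw [← hκ]
  refine ⟨G - C κ * F, ?_, fun A _ _ hA x => ?_⟩
  · obtain ⟨N, hN⟩ : ∃ N : ℕ, ∀ p ∈ (G - C κ * F).vars, p.2 < N :=
      ⟨(G - C κ * F).vars.sup Prod.snd + 1, fun p hp =>
        Nat.lt_succ_of_le (Finset.le_sup (f := Prod.snd) hp)⟩
    apply wt_of_real (famU.{v} N) (famU_injective N) _ hN
    have h1 := @hG (MvPolynomial (ULift.{v} (σ × Fin N)) ℚ) _ (polyLam _ 1)
      (polyLam_special _ 1) (fun s => ∑ a : Fin N, X (famU.{v} N s a))
    rw [evG_xs_eq_real, evG_xs_eq_real] at h1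
    rw [map_sub, map_mul, algHom_C_int (real (famU.{v} N)) κ, ← h1, hκ]
    exact @gamma_leading _ (polyLam _ 1) (lineHyp_polyLam _) (real (famU.{v} N) F) w hw
      (real_mem (famU.{v} N) hF)
  · rw [map_sub, map_mul, algHom_C_int, hG A hA x]
    ring

end Core

end Groth.Agent.Lib.LambdaOpsH1
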