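import Mathlib
import Groth.Agent.Lib.LambdaOpsH_helper1

/-!
# Scalars from a binomial ring in a special λ-ring (helper1).  APPEND-ONLY once landed.

`γ_t(c y) = Σ_k C(c,k) (γ_t(y) - 1)^k` for `c` in a binomial ring `K` mapping to the special
λ-ring `A` by a λ-map.
-/

set_option autoImplicit false
universe u v w

open MvPolynomial Finset

namespace Groth.Agent.Lib.LambdaOpsH1

open LambdaRing Groth.Agent.Lib.LambdaUnivH1 Groth.Agent.Lib.LambdaRingH1
  Groth.Agent.Lib.LambdaAdamsH1 Groth.Agent.Lib.LambdaGAH1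

section BP

variable {K : Type u} [CommRing K] [BinomialRing K] {A : Type v} [CommRing A] [Algebra K A]

theorem choose_mul_choose (c : K) (k j : ℕ) :
    Ring.choose c k * Ring.choose c j =
      ∑ i ∈ range (j + 1),
        ((k.choose (j - i) * (k + i).choose k : ℕ) : K) * Ring.choose c (k + i) := by
  have h1 : Ring.choose c j =
      ∑ ij ∈ antidiagonal j, Ring.choose (c - k) ij.1 * Ring.choose (k : K) ij.2 := by
    have := Ring.add_choose_eq (r := c - (k : K)) (s := (k : K)) j (Commute.all _ _)
    rwa [sub_add_cancel] at this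
  rw [h1, Finset.Nat.sum_antidiagonal_eq_sum_range_succ_mk, Finset.mul_sum]
  refine Finset.sum_congr rfl fun i _ => ?_
  rw [Ring.choose_natCast]
  have h2 := Ring.choose_smul_choose c (n := k + i) (k := k) (Nat.le_add_right k i)
  rw [Nat.add_sub_cancel_left] at h2
  rw [← mul_assoc, ← h2, nsmul_eq_mul]
  push_cast
  ring

/-- binomial-polynomial functions `K → A` -/
def IsBP (φ : K → A) : Prop :=
  ∃ m : ℕ →₀ A, ∀ c : K, φ c = m.sum fun k a => Ring.choose c k • a

theorem IsBP.congr {φ ψ : K → A} (h : IsBP ψ) (e : ∀ c, φ c = ψ c) : IsBP φ := by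
  obtain ⟨m, hm⟩ := h
  exact ⟨m, fun c => (e c).trans (hm c)⟩

theorem isBP_single (k : ℕ) (a : A) : IsBP (fun c : K => Ring.choose c k • a) :=
  ⟨Finsupp.single k a, fun c => by
    beta_reduce
    rw [Finsupp.sum_single_index (h := fun k a => Ring.choose c k • a) (smul_zero _)]⟩

theorem isBP_zero : IsBP (fun _ : K => (0 : A)) :=
  ⟨0, fun c => by
    beta_reduce
    rw [Finsupp.sum_zero_index]⟩

theorem IsBP.add {φ ψ : K → A} (h : IsBP φ) (h' : IsBP ψ) : IsBP (fun c => φ c + ψ c) := by
  obtain ⟨m, hm⟩ := h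
  obtain ⟨m', hm'⟩ := h'
  refine ⟨m + m', fun c => ?_⟩
  beta_reduce
  rw [hm, hm', Finsupp.sum_add_index' (h := fun k a => Ring.choose c k • a) (fun k => smul_zero _)
    (fun k a b => smul_add _ a b)]

theorem isBP_sum {ι : Type*} (s : Finset ι) (φ : ι → K → A) (h : ∀ i ∈ s, IsBP (φ i)) :
    IsBP (fun c => ∑ i ∈ s, φ i c) := by
  classical
  induction s using Finset.induction_on with
  | empty => exact isBP_zero.congr (fun c => by beta_reduce; rw [Finset.sum_empty])
  | insert a s ha ih =>
    refine ((h a (Finset.mem_insert_self a s)).add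
      (ih fun i hi => h i (Finset.mem_insert_of_mem hi))).congr fun c => ?_
    beta_reduce
    rw [Finset.sum_insert ha]

theorem isBP_const (a : A) : IsBP (fun _ : K => a) :=
  (isBP_single 0 a).congr fun c => by beta_reduce; rw [Ring.choose_zero_right, one_smul]

theorem IsBP.mul_const {φ : K → A} (h : IsBP φ) (a : A) : IsBP (fun c => φ c * a) := by
  obtain ⟨m, hm⟩ := h
  refine (isBP_sum m.support (fun k c => Ring.choose c k • (m k * a))
    (fun k _ => isBP_single k _)).congr fun c => ?_
  beta_reduce
  rw [hm, Finsupp.sum, Finset.sum_mul]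
  refine Finset.sum_congr rfl fun k _ => ?_
  rw [smul_mul_assoc]

theorem IsBP.choose_smul {φ : K → A} (h : IsBP φ) (j : ℕ) :
    IsBP (fun c => Ring.choose c j • φ c) := by
  obtain ⟨m, hm⟩ := h
  refine (isBP_sum m.support (fun k c => ∑ i ∈ range (j + 1),
    Ring.choose c (k + i) • (((k.choose (j - i) * (k + i).choose k : ℕ) : A) * m k))
    (fun k _ => isBP_sum _ _ (fun i _ => isBP_single _ _))).congr fun c => ?_
  beta_reduce
  rw [hm, Finsupp.sum, Finset.smul_sum]
  refine Finset.sum_congr rfl fun k _ => ?_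
  rw [smul_smul, mul_comm, choose_mul_choose, Finset.sum_smul]
  refine Finset.sum_congr rfl fun i _ => ?_
  rw [mul_comm, mul_smul, Nat.cast_smul_eq_nsmul, nsmul_eq_mul]

theorem IsBP.eq_zero_of_nat {φ : K → A} (h : IsBP φ) (h0 : ∀ n : ℕ, φ (n : K) = 0) (c : K) :
    φ c = 0 := by
  obtain ⟨m, hm⟩ := h
  have hmz : ∀ k, m k = 0 := by
    intro k
    induction k using Nat.strong_induction_on with
    | _ k ih =>
      have h1 := h0 k
      rw [hm, Finsupp.sum] at h1
      by_cases hk : k ∈ m.support
      · rw [Finset.sum_eq_single k] at h1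
        · rwa [Ring.choose_natCast, Nat.choose_self, Nat.cast_one, one_smul] at h1
        · intro b _ hb
          rcases Nat.lt_or_gt_of_ne hb with h | h
          · rw [ih b h, smul_zero]
          · rw [Ring.choose_natCast, Nat.choose_eq_zero_of_lt h, Nat.cast_zero, zero_smul]
        · intro h
          exact absurd hk h
      · exact Finsupp.notMem_support_iff.1 hk
  rw [hm, Finsupp.sum]
  exact Finset.sum_eq_zero fun k _ => by rw [hmz k, smul_zero]

theorem IsBP.ext_of_nat {φ ψ : K → A} (h : IsBP φ) (h' : IsBP ψ)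
    (hn : ∀ n : ℕ, φ (n : K) = ψ (n : K)) (c : K) : φ c = ψ c := by
  have := (h.add (h'.mul_const (-1))).eq_zero_of_nat (fun n => by beta_reduce; rw [hn n]; ring) c
  beta_reduce at this
  linear_combination this

theorem isBP_aeval (g : ℕ → A) (P : MvPolynomial (ℕ ⊕ ℕ) ℤ) :
    IsBP (fun c : K =>
      aeval (Sum.elim (fun i => algebraMap K A (Ring.choose c (i + 1))) g) P) := by
  induction P using MvPolynomial.induction_on with
  | C a => exact (isBP_const (algebraMap ℤ A a)).congr fun c => by beta_reduce; rw [aeval_C]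
  | add p q hp hq => exact (hp.add hq).congr fun c => by beta_reduce; rw [map_add]
  | mul_X p i hp =>
    rcases i with i | i
    · refine (hp.choose_smul (i + 1)).congr fun c => ?_
      beta_reduce
      rw [map_mul, aeval_X, Sum.elim_inl, Algebra.smul_def, mul_comm]
    · refine (hp.mul_const (g i)).congr fun c => ?_
      beta_reduce
      rw [map_mul, aeval_X, Sum.elim_inr]

end BP

section SC

variable {K : Type u} [CommRing K] [BinomialRing K] {A : Type v} [CommRing A] [LambdaOps A]
  [Algebra K A]

theorem isBP_lam_mul (hA : IsSpecial A)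
    (hlam : ∀ (n : ℕ) (c : K),
      algebraMap K A (Ring.choose c n) = LambdaOps.lam n (algebraMap K A c))
    (y : A) (n : ℕ) : IsBP (fun c : K => LambdaOps.lam n (algebraMap K A c * y)) := by
  refine (isBP_aeval (fun i => LambdaOps.lam (i + 1) y) (Ph n)).congr fun c => ?_
  beta_reduce
  rw [lam_mul_ev2 hA]
  unfold ev2
  congr 2
  funext q
  rcases q with i | i
  · exact (hlam (i + 1) c).symm
  · rfl

theorem isBP_gamma_mul (hA : IsSpecial A)
    (hlam : ∀ (n : ℕ) (c : K),
      algebraMap K A (Ring.choose c n) = LambdaOps.lam n (algebraMap K A c))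
    (y : A) (n : ℕ) : IsBP (fun c : K => gamma n (algebraMap K A c * y)) := by
  unfold gamma
  by_cases h0 : n = 0
  · simp only [h0, if_true]
    exact isBP_const 1
  · simp only [h0, if_false]
    refine isBP_sum _ _ fun j _ => ?_
    by_cases hj : j = 0
    · simp only [hj, if_true, mul_zero]
      exact isBP_zero
    · simp only [hj, if_false]
      exact ((isBP_lam_mul hA hlam y j).mul_const _).congr fun c => mul_comm _ _

theorem gammaSeries_nsmul (N : ℕ) (y : A) : gammaSeries (N • y) = gammaSeries y ^ N := by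
  induction N with
  | zero => rw [zero_smul, gammaSeries_zero, pow_zero]
  | succ N ih => rw [succ_nsmul, gammaSeries_add, ih, pow_succ]

theorem coeff_pow_eq_zero_of_lt {R : Type*} [CommRing R] (u : PowerSeries R)
    (hu : PowerSeries.constantCoeff u = 0) {n k : ℕ} (h : n < k) :
    PowerSeries.coeff n (u ^ k) = 0 := by
  have h1 : (PowerSeries.X : PowerSeries R) ^ k ∣ u ^ k :=
    pow_dvd_pow_of_dvd (PowerSeries.X_dvd_iff.2 hu) k
  exact PowerSeries.X_pow_dvd_iff.1 h1 n h

theorem constantCoeff_gammaSeries_sub_one (y : A) :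
    PowerSeries.constantCoeff (gammaSeries y - 1) = 0 := by
  rw [map_sub, map_one, ← PowerSeries.coeff_zero_eq_constantCoeff_apply, coeff_gammaSeries,
    gamma_zero_left, sub_self]

theorem gamma_natCast_mul (N : ℕ) (y : A) (n : ℕ) :
    gamma n ((N : A) * y) = ∑ k ∈ range (n + 1),
      (N.choose k : A) * PowerSeries.coeff n ((gammaSeries y - 1) ^ k) := by
  have hu := constantCoeff_gammaSeries_sub_one y
  rw [← nsmul_eq_mul, ← coeff_gammaSeries, gammaSeries_nsmul]
  have e : gammaSeries y ^ N =
      ∑ k ∈ range (N + 1), (gammaSeries y - 1) ^ k * (N.choose k : PowerSeries A) := by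
    have := add_pow (gammaSeries y - 1) 1 N
    rw [sub_add_cancel] at this
    rw [this]
    refine Finset.sum_congr rfl fun k _ => ?_
    rw [one_pow, mul_one]
  rw [e, map_sum]
  have hterm : ∀ k, PowerSeries.coeff n
      ((gammaSeries y - 1) ^ k * (N.choose k : PowerSeries A)) =
      (N.choose k : A) * PowerSeries.coeff n ((gammaSeries y - 1) ^ k) := by
    intro k
    rw [mul_comm, ← map_natCast (PowerSeries.C : A →+* PowerSeries A), PowerSeries.coeff_C_mul]
  simp only [hterm]
  have s1 : ∑ k ∈ range (N + 1),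
      (N.choose k : A) * PowerSeries.coeff n ((gammaSeries y - 1) ^ k) =
      ∑ k ∈ range (N + n + 1),
        (N.choose k : A) * PowerSeries.coeff n ((gammaSeries y - 1) ^ k) := by
    apply Finset.sum_subset (Finset.range_subset_range.2 (by omega))
    intro k _ hk
    rw [Finset.mem_range] at hk
    rw [Nat.choose_eq_zero_of_lt (by omega), Nat.cast_zero, zero_mul]
  have s2 : ∑ k ∈ range (n + 1),
      (N.choose k : A) * PowerSeries.coeff n ((gammaSeries y - 1) ^ k) =
      ∑ k ∈ range (N + n + 1),
        (N.choose k : A) * PowerSeries.coeff n ((gammaSeries y - 1) ^ k) := by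
    apply Finset.sum_subset (Finset.range_subset_range.2 (by omega))
    intro k _ hk
    rw [Finset.mem_range] at hk
    rw [coeff_pow_eq_zero_of_lt _ hu (by omega), mul_zero]
  rw [s1, s2]

/-- the scalar formula: `γ_t(c y) = (γ_t(y))^c` as a binomial series -/
theorem gamma_scalar (hA : IsSpecial A)
    (hlam : ∀ (n : ℕ) (c : K),
      algebraMap K A (Ring.choose c n) = LambdaOps.lam n (algebraMap K A c))
    (c : K) (y : A) (n : ℕ) :
    gamma n (algebraMap K A c * y) = ∑ k ∈ range (n + 1),
      Ring.choose c k • PowerSeries.coeff n ((gammaSeries y - 1) ^ k) := by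
  refine IsBP.ext_of_nat (isBP_gamma_mul hA hlam y n)
    (isBP_sum _ _ fun k _ => isBP_single k _) (fun N => ?_) c
  beta_reduce
  rw [map_natCast, gamma_natCast_mul]
  refine Finset.sum_congr rfl fun k _ => ?_
  rw [Ring.choose_natCast, Nat.cast_smul_eq_nsmul, nsmul_eq_mul]

end SC

end Groth.Agent.Lib.LambdaOpsH1
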