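import Mathlib
import Groth.Agent.Lib.LambdaCoreH_helper1
import Groth.Agent.Lib.LambdaScalH_helper1

/-!
# The γ-filtration of an augmented λ-algebra over a binomial ring (helper1).
APPEND-ONLY once landed.
-/

set_option autoImplicit false
universe u v w

open MvPolynomial Finset
open scoped Pointwise

namespace Groth.Agent.Lib.LambdaOpsH1

open LambdaRing Groth.Agent.Lib.LambdaUnivH1 Groth.Agent.Lib.LambdaRingH1
  Groth.Agent.Lib.LambdaAdamsH1 Groth.Agent.Lib.LambdaGAH1

section FilBasic

variable {K : Type u} [CommRing K] {A : Type v} [CommRing A] [LambdaOps A] (ε : A →+* K)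

/-- generators of the γ-filtration -/
def GenSet (n : ℕ) : Set A :=
  {y | ∃ l : List (ℕ × A), (∀ p ∈ l, ε p.2 = 0) ∧ n ≤ (l.map Prod.fst).sum ∧
    y = (l.map fun p => gamma p.1 p.2).prod}

theorem gammaFil_eq_span (n : ℕ) : gammaFil ε n = Ideal.span (GenSet ε n) := rfl

theorem genSet_subset_gammaFil (n : ℕ) : GenSet ε n ⊆ gammaFil ε n := Ideal.subset_span

theorem gammaFil_anti {a b : ℕ} (h : a ≤ b) : gammaFil ε b ≤ gammaFil ε a := by
  apply Ideal.span_mono
  rintro y ⟨l, hl, hs, rfl⟩
  exact ⟨l, hl, le_trans h hs, rfl⟩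

theorem gammaFil_zero : gammaFil ε 0 = ⊤ := by
  rw [Ideal.eq_top_iff_one]
  exact genSet_subset_gammaFil ε 0 ⟨[], by simp, by simp, by simp⟩

theorem gammaFil_mul {a b : ℕ} {x y : A} (hx : x ∈ gammaFil ε a) (hy : y ∈ gammaFil ε b) :
    x * y ∈ gammaFil ε (a + b) := by
  have h : gammaFil ε a * gammaFil ε b ≤ gammaFil ε (a + b) := by
    rw [gammaFil_eq_span, gammaFil_eq_span, Ideal.span_mul_span', Ideal.span_le]
    intro z hz
    obtain ⟨s, ⟨l, hl, hs, rfl⟩, t, ⟨l', hl', hs', rfl⟩, rfl⟩ := Set.mem_mul.1 hz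
    refine genSet_subset_gammaFil ε (a + b) ⟨l ++ l', ?_, ?_, ?_⟩
    · intro p hp
      rcases List.mem_append.1 hp with h | h
      · exact hl p h
      · exact hl' p h
    · rw [List.map_append, List.sum_append]
      omega
    · rw [List.map_append, List.prod_append]
  exact h (Ideal.mul_mem_mul hx hy)

theorem isFilt_gammaFil : IsFilt (fun n => gammaFil ε n) where
  zero := gammaFil_zero ε
  mul := fun _ _ _ _ hx hy => gammaFil_mul ε hx hy
  anti := fun _ _ h => gammaFil_anti ε h

theorem gamma_mem_gammaFil (x : A) (hx : ε x = 0) (i : ℕ) : gamma i x ∈ gammaFil ε i :=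
  genSet_subset_gammaFil ε i ⟨[(i, x)], by simp [hx], by simp, by simp⟩

theorem evG_mem_gammaFil {σ : Type*} (x : σ → A) (hx : ∀ s, ε (x s) = 0) {r : ℕ} {F : Op σ}
    (hF : F ∈ wtIdeal ℤ (wγ (σ := σ)) r) : evG x F ∈ gammaFil ε r :=
  (isFilt_gammaFil ε).aeval_mem (wγ (σ := σ)) _
    (fun p => gamma_mem_gammaFil ε (x p.1) (hx p.1) (p.2 + 1)) r F hF

/-- the variable standing for `γ^j` of the `s`-th argument (`1` for `j = 0`) -/
noncomputable def Yv {σ : Type*} (s : σ) : ℕ → Op σ
  | 0 => 1
  | (j + 1) => X (s, j)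

theorem evG_Yv {σ : Type*} (x : σ → A) (s : σ) (j : ℕ) : evG x (Yv s j) = gamma j (x s) := by
  rcases j with _ | j
  · rw [Yv, map_one, gamma_zero_left]
  · rw [Yv, evG_X]

theorem Yv_mem {σ : Type*} (s : σ) (j : ℕ) : Yv s j ∈ wtIdeal ℤ (wγ (σ := σ)) j := by
  rcases j with _ | j
  · rw [wtIdeal_zero]
    exact Submodule.mem_top
  · exact X_mem_wtIdeal (wγ (σ := σ)) (s, j)

theorem ofFn_get_map {α β : Type*} (l : List α) (g : α → β) :
    List.ofFn (fun i : Fin l.length => g (l.get i)) = l.map g := by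
  have := List.map_ofFn (f := l.get) (g := g)
  rw [List.ofFn_get] at this
  exact this.symm

/-- the operation of a generator -/
noncomputable def genOp (l : List (ℕ × A)) : Op (Fin l.length) :=
  ∏ i : Fin l.length, Yv i (l.get i).1

theorem genOp_mem (l : List (ℕ × A)) :
    genOp l ∈ wtIdeal ℤ (wγ (σ := Fin l.length)) (l.map Prod.fst).sum := by
  have h := (isFilt_wtIdeal (R := ℤ) (wγ (σ := Fin l.length))).prod_mem univ
    (fun i => Yv i (l.get i).1) (fun i => (l.get i).1) (fun i _ => Yv_mem i _)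
  have e : ∑ i : Fin l.length, (l.get i).1 = (l.map Prod.fst).sum := by
    rw [← List.sum_ofFn, ofFn_get_map l Prod.fst]
  rw [e] at h
  exact h

theorem evG_genOp (l : List (ℕ × A)) :
    evG (fun i : Fin l.length => (l.get i).2) (genOp l) =
      (l.map fun p => gamma p.1 p.2).prod := by
  unfold genOp
  rw [map_prod]
  simp only [evG_Yv]
  rw [← List.prod_ofFn, ofFn_get_map l (fun p => gamma p.1 p.2)]

theorem coeff_pow_mem_filt {S : Type*} [CommRing S] {J : ℕ → Ideal S} (hJ : IsFilt J) (n : ℕ)
    (u : PowerSeries S) (h0 : PowerSeries.coeff 0 u = 0)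
    (hu : ∀ j, 1 ≤ j → PowerSeries.coeff j u ∈ J (max j n)) :
    ∀ k, 1 ≤ k → ∀ i, PowerSeries.coeff i (u ^ k) ∈ J (max i n) := by
  intro k hk
  induction k, hk using Nat.le_induction with
  | base =>
    intro i
    rw [pow_one]
    rcases Nat.eq_zero_or_pos i with rfl | hi
    · rw [h0]
      exact Ideal.zero_mem _
    · exact hu i hi
  | succ k hk ih =>
    intro i
    rw [pow_succ, PowerSeries.coeff_mul]
    refine Ideal.sum_mem _ fun ab hab => ?_
    rw [Finset.HasAntidiagonal.mem_antidiagonal] at hab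
    rcases Nat.eq_zero_or_pos ab.2 with hb | hb
    · rw [hb, h0, mul_zero]
      exact Ideal.zero_mem _
    · have h1 := hJ.mul _ _ _ _ (ih ab.1) (hu ab.2 hb)
      refine hJ.anti _ _ ?_ h1
      rw [← hab]
      exact max_add_le ab.1 ab.2 n

theorem gamma_zero_arg {i : ℕ} (hi : 1 ≤ i) : gamma i (0 : A) = 0 := by
  rw [← coeff_gammaSeries, gammaSeries_zero, PowerSeries.coeff_one, if_neg (by omega)]

end FilBasic

section Aug

variable {K : Type u} [CommRing K] {A : Type v} [CommRing A] [LambdaOps A] [Algebra K A]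
  (ε : A →ₐ[K] K)

/-- scalar multiples of the generators -/
def ScalGen (n : ℕ) : Set A :=
  {z | ∃ (c : K) (y : A), y ∈ GenSet (ε : A →+* K) n ∧ z = algebraMap K A c * y}

theorem aug_sub (a : A) : (ε : A →+* K) (a - algebraMap K A (ε a)) = 0 := by
  have h : ε (algebraMap K A (ε a)) = ε a := by
    rw [ε.commutes]
    rfl
  show ε (a - algebraMap K A (ε a)) = 0
  rw [map_sub, h, sub_self]

theorem mem_closure_of_mem_gammaFil (n : ℕ) {z : A} (hz : z ∈ gammaFil (ε : A →+* K) n) :
    z ∈ AddSubgroup.closure (ScalGen ε n) := by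
  rw [gammaFil_eq_span] at hz
  induction hz using Submodule.span_induction with
  | mem y hy =>
    exact AddSubgroup.subset_closure ⟨1, y, hy, by rw [map_one, one_mul]⟩
  | zero => exact AddSubgroup.zero_mem _
  | add a b _ _ ha hb => exact AddSubgroup.add_mem _ ha hb
  | smul a z hzs hz =>
    rw [smul_eq_mul]
    clear hzs
    induction hz using AddSubgroup.closure_induction with
    | mem z hz =>
      obtain ⟨c, y, hy, rfl⟩ := hz
      obtain ⟨l, hl, hs, rfl⟩ := hy
      have e : a * (algebraMap K A c * (l.map fun p => gamma p.1 p.2).prod) =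
          algebraMap K A (c * ε a) * (l.map fun p => gamma p.1 p.2).prod +
          algebraMap K A c *
            (((1, a - algebraMap K A (ε a)) :: l).map fun p => gamma p.1 p.2).prod := by
        rw [List.map_cons, List.prod_cons, gamma_one, map_mul]
        ring
      rw [e]
      refine AddSubgroup.add_mem _
        (AddSubgroup.subset_closure ⟨c * ε a, _, ⟨l, hl, hs, rfl⟩, rfl⟩)
        (AddSubgroup.subset_closure
          ⟨c, _, ⟨(1, a - algebraMap K A (ε a)) :: l, ?_, ?_, rfl⟩, rfl⟩)
      · intro p hp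
        rcases List.mem_cons.1 hp with h | h
        · rw [h]
          exact aug_sub ε a
        · exact hl p h
      · rw [List.map_cons, List.sum_cons]
        omega
    | zero =>
      rw [mul_zero]
      exact AddSubgroup.zero_mem _
    | add x y _ _ hx hy =>
      rw [mul_add]
      exact AddSubgroup.add_mem _ hx hy
    | neg x _ hx =>
      rw [mul_neg]
      exact AddSubgroup.neg_mem _ hx

end Aug

section Claim

variable {K : Type u} [CommRing K] [BinomialRing K] {A : Type v} [CommRing A] [LambdaOps A]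
  [Algebra K A] (ε : A →ₐ[K] K) (hA : IsSpecial A)
  (hlam : ∀ (n : ℕ) (c : K),
    algebraMap K A (Ring.choose c n) = LambdaOps.lam n (algebraMap K A c))

include hA in
theorem gamma_gen_mem {n : ℕ} (hn : 1 ≤ n) {y : A} (hy : y ∈ GenSet (ε : A →+* K) n) (i : ℕ)
    (hi : 1 ≤ i) : gamma i y ∈ gammaFil (ε : A →+* K) (max i n) := by
  obtain ⟨l, hl, hs, rfl⟩ := hy
  have hW : 1 ≤ (l.map Prod.fst).sum := le_trans hn hs
  obtain ⟨G, hGw, hG⟩ := core.{v} (genOp l) _ hW (genOp_mem l) i hi
  rw [← evG_genOp l, hG A hA]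
  refine gammaFil_anti _ ?_
    (evG_mem_gammaFil _ _ (fun s => hl _ (List.get_mem l s)) hGw)
  exact max_le_max le_rfl hs

include hA hlam in
/-- `γ^i(Fil^n) ⊆ Fil^(max i n)` for `i, n ≥ 1` -/
theorem gamma_mem_of_mem_gammaFil {n : ℕ} (hn : 1 ≤ n) {z : A}
    (hz : z ∈ gammaFil (ε : A →+* K) n) :
    ∀ i, 1 ≤ i → gamma i z ∈ gammaFil (ε : A →+* K) (max i n) := by
  have hcl := mem_closure_of_mem_gammaFil ε n hz
  clear hz
  induction hcl using AddSubgroup.closure_induction with
  | mem z hz =>
    obtain ⟨c, y, hy, rfl⟩ := hz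
    intro i hi
    rw [gamma_scalar hA hlam]
    refine Ideal.sum_mem _ fun k _ => ?_
    rw [Algebra.smul_def]
    apply Ideal.mul_mem_left
    rcases Nat.eq_zero_or_pos k with rfl | hk
    · rw [pow_zero, PowerSeries.coeff_one, if_neg (by omega)]
      exact Ideal.zero_mem _
    · apply coeff_pow_mem_filt (isFilt_gammaFil _) n _ ?_ ?_ k hk i
      · rw [PowerSeries.coeff_zero_eq_constantCoeff_apply]
        exact constantCoeff_gammaSeries_sub_one y
      · intro j hj
        rw [map_sub, coeff_gammaSeries, PowerSeries.coeff_one, if_neg (by omega), sub_zero]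
        exact gamma_gen_mem ε hA hn hy j hj
  | zero =>
    intro i hi
    rw [gamma_zero_arg hi]
    exact Ideal.zero_mem _
  | add a b _ _ ha hb =>
    intro i hi
    rw [gamma_add]
    refine Ideal.sum_mem _ fun j hj => ?_
    rw [Finset.mem_range] at hj
    rcases Nat.eq_zero_or_pos j with rfl | hj0
    · rw [gamma_zero_left, one_mul, Nat.sub_zero]
      exact hb i hi
    · rcases Nat.eq_zero_or_pos (i - j) with hij | hij
      · rw [hij, gamma_zero_left, mul_one]
        have : j = i := by omega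
        rw [this]
        exact ha i hi
      · have h1 := gammaFil_mul _ (ha j hj0) (hb (i - j) hij)
        refine gammaFil_anti _ ?_ h1
        have := max_add_le j (i - j) n
        have e : j + (i - j) = i := by omega
        rw [e] at this
        exact this
  | neg a _ ha =>
    intro i
    induction i using Nat.strong_induction_on with
    | _ i ih =>
      intro hi
      obtain ⟨r, rfl⟩ : ∃ r, i = r + 1 := ⟨i - 1, by omega⟩
      rw [gamma_neg_rec]
      apply Submodule.neg_mem
      refine Ideal.sum_mem _ fun a' ha' => ?_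
      rw [Finset.mem_range] at ha'
      rcases Nat.eq_zero_or_pos (r - a') with h0 | h0
      · rw [h0, gamma_zero_left, mul_one]
        have : a' = r := by omega
        rw [this]
        exact ha (r + 1) hi
      · have h1 := gammaFil_mul _ (ha (a' + 1) (by omega)) (ih (r - a') (by omega) h0)
        refine gammaFil_anti _ ?_ h1
        have := max_add_le (a' + 1) (r - a') n
        have e : a' + 1 + (r - a') = r + 1 := by omega
        rw [e] at this
        exact this

include hA hlam in
/-- `γ^m(z) ≡ (-1)^(m-1) (m-1)! z` modulo `Fil^(m+1)` for `z ∈ Fil^m` -/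
theorem gamma_leading_mem {m : ℕ} (hm : 1 ≤ m) {z : A} (hz : z ∈ gammaFil (ε : A →+* K) m) :
    gamma m z - (-1 : A) ^ (m - 1) * ((m - 1).factorial : A) * z ∈
      gammaFil (ε : A →+* K) (m + 1) := by
  obtain ⟨κ, hκ⟩ : ∃ κ : A, κ = (-1 : A) ^ (m - 1) * ((m - 1).factorial : A) := ⟨_, rfl⟩
  rw [← hκ]
  have hcl := mem_closure_of_mem_gammaFil ε m hz
  clear hz
  suffices h : z ∈ gammaFil (ε : A →+* K) m ∧
      gamma m z - κ * z ∈ gammaFil (ε : A →+* K) (m + 1) from h.2
  induction hcl using AddSubgroup.closure_induction with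
  | mem z hz =>
    obtain ⟨c, y, hy, rfl⟩ := hz
    have hyF : y ∈ gammaFil (ε : A →+* K) m := genSet_subset_gammaFil _ m hy
    refine ⟨Ideal.mul_mem_left _ _ hyF, ?_⟩
    have hu0 := constantCoeff_gammaSeries_sub_one y
    have hcoeff : ∀ j, 1 ≤ j → PowerSeries.coeff j (gammaSeries y - 1) = gamma j y := by
      intro j hj
      rw [map_sub, coeff_gammaSeries, PowerSeries.coeff_one, if_neg (by omega), sub_zero]
    have hyj : ∀ j, 1 ≤ j →
        PowerSeries.coeff j (gammaSeries y - 1) ∈ gammaFil (ε : A →+* K) (max j m) := by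
      intro j hj
      rw [hcoeff j hj]
      exact gamma_gen_mem ε hA hm hy j hj
    have hy_lead : gamma m y - κ * y ∈ gammaFil (ε : A →+* K) (m + 1) := by
      obtain ⟨l, hl, hs, rfl⟩ := hy
      rcases Nat.eq_or_lt_of_le hs with hW | hW
      · obtain ⟨G', hG'w, hG'⟩ := core_leading.{v} (genOp l) m hm
          (by rw [hW]; exact genOp_mem l)
        have h1 := hG' A hA (fun i : Fin l.length => (l.get i).2)
        rw [evG_genOp] at h1
        have e : gamma m (l.map fun p => gamma p.1 p.2).prod -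
            κ * (l.map fun p => gamma p.1 p.2).prod =
            evG (fun i : Fin l.length => (l.get i).2) G' := by
          rw [h1, hκ]
          push_cast
          ring
        rw [e]
        exact evG_mem_gammaFil _ _ (fun s => hl _ (List.get_mem l s)) hG'w
      · have hy' : (l.map fun p => gamma p.1 p.2).prod ∈ GenSet (ε : A →+* K) (m + 1) :=
          ⟨l, hl, hW, rfl⟩
        have h1 := gamma_gen_mem ε hA (by omega : 1 ≤ m + 1) hy' m hm
        exact Ideal.sub_mem _ (gammaFil_anti _ (le_max_right _ _) h1)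
          (Ideal.mul_mem_left _ _ (genSet_subset_gammaFil _ _ hy'))
    obtain ⟨m', rfl⟩ : ∃ m', m = m' + 1 := ⟨m - 1, by omega⟩
    rw [gamma_scalar hA hlam, Finset.sum_range_succ', Finset.sum_range_succ']
    have hf0 : Ring.choose c 0 •
        PowerSeries.coeff (m' + 1) ((gammaSeries y - 1) ^ 0) = 0 := by
      rw [pow_zero, PowerSeries.coeff_one, if_neg (by omega), smul_zero]
    have hf1 : Ring.choose c (0 + 1) •
        PowerSeries.coeff (m' + 1) ((gammaSeries y - 1) ^ (0 + 1)) =
        algebraMap K A c * gamma (m' + 1) y := by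
      rw [zero_add, pow_one, Ring.choose_one_right, hcoeff _ (by omega), Algebra.smul_def]
    rw [hf0, hf1, add_zero]
    have hrest : ∑ k ∈ range m', Ring.choose c (k + 1 + 1) •
        PowerSeries.coeff (m' + 1) ((gammaSeries y - 1) ^ (k + 1 + 1)) ∈
        gammaFil (ε : A →+* K) (m' + 1 + 1) := by
      refine Ideal.sum_mem _ fun k _ => ?_
      rw [Algebra.smul_def]
      apply Ideal.mul_mem_left
      rw [pow_succ, PowerSeries.coeff_mul]
      refine Ideal.sum_mem _ fun ab hab => ?_
      rw [Finset.HasAntidiagonal.mem_antidiagonal] at hab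
      rcases Nat.eq_zero_or_pos ab.2 with hb | hb
      · rw [hb, PowerSeries.coeff_zero_eq_constantCoeff_apply, hu0, mul_zero]
        exact Ideal.zero_mem _
      rcases Nat.eq_zero_or_pos ab.1 with ha | ha
      · rw [ha, coeff_pow_eq_zero_of_lt _ hu0 (by omega), zero_mul]
        exact Ideal.zero_mem _
      have h1 := coeff_pow_mem_filt (isFilt_gammaFil (ε : A →+* K)) (m' + 1) _
        (by rw [PowerSeries.coeff_zero_eq_constantCoeff_apply]; exact hu0) hyj (k + 1)
        (by omega) ab.1
      have h2 := gammaFil_mul _ h1 (hyj ab.2 hb)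
      refine gammaFil_anti _ ?_ h2
      have a1 : m' + 1 ≤ max ab.1 (m' + 1) := le_max_right _ _
      have a2 : m' + 1 ≤ max ab.2 (m' + 1) := le_max_right _ _
      omega
    have e : ∑ k ∈ range m', Ring.choose c (k + 1 + 1) •
          PowerSeries.coeff (m' + 1) ((gammaSeries y - 1) ^ (k + 1 + 1)) +
          algebraMap K A c * gamma (m' + 1) y - κ * (algebraMap K A c * y) =
        ∑ k ∈ range m', Ring.choose c (k + 1 + 1) •
          PowerSeries.coeff (m' + 1) ((gammaSeries y - 1) ^ (k + 1 + 1)) +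
          algebraMap K A c * (gamma (m' + 1) y - κ * y) := by
      ring
    rw [e]
    exact Ideal.add_mem _ hrest (Ideal.mul_mem_left _ _ hy_lead)
  | zero =>
    refine ⟨Ideal.zero_mem _, ?_⟩
    rw [gamma_zero_arg hm, mul_zero, sub_zero]
    exact Ideal.zero_mem _
  | add a b _ _ ha hb =>
    refine ⟨Ideal.add_mem _ ha.1 hb.1, ?_⟩
    have h1a := gamma_mem_of_mem_gammaFil ε hA hlam hm ha.1
    have h1b := gamma_mem_of_mem_gammaFil ε hA hlam hm hb.1
    obtain ⟨m', rfl⟩ : ∃ m', m = m' + 1 := ⟨m - 1, by omega⟩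
    rw [gamma_add, Finset.sum_range_succ, Finset.sum_range_succ', gamma_zero_left, one_mul,
      Nat.sub_zero, Nat.sub_self, gamma_zero_left, mul_one]
    have hcross : ∑ j ∈ range m', gamma (j + 1) a * gamma (m' + 1 - (j + 1)) b ∈
        gammaFil (ε : A →+* K) (m' + 1 + 1) := by
      refine Ideal.sum_mem _ fun j hj => ?_
      rw [Finset.mem_range] at hj
      have h1 := h1a (j + 1) (by omega)
      have h2 := h1b (m' + 1 - (j + 1)) (by omega)
      refine gammaFil_anti _ ?_ (gammaFil_mul _ h1 h2)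
      have a1 : m' + 1 ≤ max (j + 1) (m' + 1) := le_max_right _ _
      have a2 : m' + 1 ≤ max (m' + 1 - (j + 1)) (m' + 1) := le_max_right _ _
      omega
    have e : ∑ j ∈ range m', gamma (j + 1) a * gamma (m' + 1 - (j + 1)) b +
          gamma (m' + 1) b + gamma (m' + 1) a - κ * (a + b) =
        ∑ j ∈ range m', gamma (j + 1) a * gamma (m' + 1 - (j + 1)) b +
          (gamma (m' + 1) a - κ * a) + (gamma (m' + 1) b - κ * b) := by
      ring
    rw [e]
    exact Ideal.add_mem _ (Ideal.add_mem _ hcross ha.2) hb.2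
  | neg a _ ha =>
    have hna : -a ∈ gammaFil (ε : A →+* K) m := Submodule.neg_mem _ ha.1
    refine ⟨hna, ?_⟩
    have h1a := gamma_mem_of_mem_gammaFil ε hA hlam hm ha.1
    have h1b := gamma_mem_of_mem_gammaFil ε hA hlam hm hna
    obtain ⟨m', rfl⟩ : ∃ m', m = m' + 1 := ⟨m - 1, by omega⟩
    have h0 := gamma_add (m' + 1) a (-a)
    rw [add_neg_cancel, gamma_zero_arg hm, Finset.sum_range_succ, Finset.sum_range_succ',
      gamma_zero_left, one_mul, Nat.sub_zero, Nat.sub_self, gamma_zero_left, mul_one] at h0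
    have hcross : ∑ j ∈ range m', gamma (j + 1) a * gamma (m' + 1 - (j + 1)) (-a) ∈
        gammaFil (ε : A →+* K) (m' + 1 + 1) := by
      refine Ideal.sum_mem _ fun j hj => ?_
      rw [Finset.mem_range] at hj
      have h1 := h1a (j + 1) (by omega)
      have h2 := h1b (m' + 1 - (j + 1)) (by omega)
      refine gammaFil_anti _ ?_ (gammaFil_mul _ h1 h2)
      have a1 : m' + 1 ≤ max (j + 1) (m' + 1) := le_max_right _ _
      have a2 : m' + 1 ≤ max (m' + 1 - (j + 1)) (m' + 1) := le_max_right _ _
      omega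
    have e : gamma (m' + 1) (-a) - κ * (-a) =
        -(∑ j ∈ range m', gamma (j + 1) a * gamma (m' + 1 - (j + 1)) (-a)) -
          (gamma (m' + 1) a - κ * a) := by
      linear_combination (-1 : A) * h0
    rw [e]
    exact Ideal.sub_mem _ (Submodule.neg_mem _ hcross) ha.2

end Claim

end Groth.Agent.Lib.LambdaOpsH1
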