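import Mathlib
import Groth.Agent.Lib.LambdaFilH_helper1

/-!
# γ-filtrations of free and truncated free augmented λ-algebras (helper1).
APPEND-ONLY once landed.
-/

set_option autoImplicit false
universe u v w

open MvPolynomial Finset
open scoped Pointwise

namespace Groth.Agent.Lib.LambdaOpsH1

open LambdaRing Groth.Agent.Lib.LambdaUnivH1 Groth.Agent.Lib.LambdaRingH1
  Groth.Agent.Lib.LambdaAdamsH1 Groth.Agent.Lib.LambdaGAH1

section General

variable {A : Type v} [CommRing A] [LambdaOps A]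

/-- additive closure step for `γ^i` into a filtration -/
theorem gamma_closure_mem {J : ℕ → Ideal A} (hJ : IsFilt J) (n : ℕ) (T : Set A)
    (hT : ∀ t ∈ T, ∀ i, 1 ≤ i → gamma i t ∈ J (max i n)) {z : A}
    (hz : z ∈ AddSubgroup.closure T) : ∀ i, 1 ≤ i → gamma i z ∈ J (max i n) := by
  induction hz using AddSubgroup.closure_induction with
  | mem z hz => exact hT z hz
  | zero =>
    intro i hi
    rw [gamma_zero_arg hi]
    exact Ideal.zero_mem _
  | add a b _ _ ha hb =>
    intro i hi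
    rw [gamma_add]
    refine Ideal.sum_mem _ fun j hj => ?_
    rw [Finset.mem_range] at hj
    rcases Nat.eq_zero_or_pos j with rfl | hj0
    · rw [gamma_zero_left, one_mul, Nat.sub_zero]
      exact hb i hi
    · rcases Nat.eq_zero_or_pos (i - j) with hij | hij
      · rw [hij, gamma_zero_left, mul_one]
        have : j = i := by omega
        rw [this]
        exact ha i hi
      · have h1 := hJ.mul _ _ _ _ (ha j hj0) (hb (i - j) hij)
        refine hJ.anti _ _ ?_ h1
        have := max_add_le j (i - j) n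
        have e : j + (i - j) = i := by omega
        rw [e] at this
        exact this
  | neg a _ ha =>
    intro i
    induction i using Nat.strong_induction_on with
    | _ i ih =>
      intro hi
      obtain ⟨r, rfl⟩ : ∃ r, i = r + 1 := ⟨i - 1, by omega⟩
      rw [gamma_neg_rec]
      apply Submodule.neg_mem
      refine Ideal.sum_mem _ fun a' ha' => ?_
      rw [Finset.mem_range] at ha'
      rcases Nat.eq_zero_or_pos (r - a') with h0 | h0
      · rw [h0, gamma_zero_left, mul_one]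
        have : a' = r := by omega
        rw [this]
        exact ha (r + 1) hi
      · have h1 := hJ.mul _ _ _ _ (ha (a' + 1) (by omega)) (ih (r - a') (by omega) h0)
        refine hJ.anti _ _ ?_ h1
        have := max_add_le (a' + 1) (r - a') n
        have e : a' + 1 + (r - a') = r + 1 := by omega
        rw [e] at this
        exact this

theorem gamma_scalar_mem {K : Type u} [CommRing K] [BinomialRing K] [Algebra K A]
    (hA : IsSpecial A)
    (hlam : ∀ (n : ℕ) (c : K),
      algebraMap K A (Ring.choose c n) = LambdaOps.lam n (algebraMap K A c))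
    {J : ℕ → Ideal A} (hJ : IsFilt J) (n : ℕ) (y : A)
    (hy : ∀ j, 1 ≤ j → gamma j y ∈ J (max j n)) (c : K) :
    ∀ i, 1 ≤ i → gamma i (algebraMap K A c * y) ∈ J (max i n) := by
  intro i hi
  rw [gamma_scalar hA hlam]
  refine Ideal.sum_mem _ fun k _ => ?_
  rw [Algebra.smul_def]
  apply Ideal.mul_mem_left
  rcases Nat.eq_zero_or_pos k with rfl | hk
  · rw [pow_zero, PowerSeries.coeff_one, if_neg (by omega)]
    exact Ideal.zero_mem _
  · apply coeff_pow_mem_filt hJ n _ ?_ ?_ k hk i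
    · rw [PowerSeries.coeff_zero_eq_constantCoeff_apply]
      exact constantCoeff_gammaSeries_sub_one y
    · intro j hj
      rw [map_sub, coeff_gammaSeries, PowerSeries.coeff_one, if_neg (by omega), sub_zero]
      exact hy j hj

theorem map_gamma' {A' : Type w} [CommRing A'] [LambdaOps A'] (f : A →+* A')
    (hf : ∀ (n : ℕ) (a : A), f (LambdaOps.lam n a) = LambdaOps.lam n (f a)) (k : ℕ) (x : A) :
    f (gamma k x) = gamma k (f x) := by
  unfold gamma
  split_ifs with h
  · exact map_one f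
  · rw [map_sum]
    refine Finset.sum_congr rfl fun i _ => ?_
    rw [map_mul, map_natCast]
    split_ifs
    · rw [map_zero]
    · rw [hf i x]

theorem list_prod_mem_filt {J : ℕ → Ideal A} (hJ : IsFilt J) (l : List (ℕ × A))
    (h : ∀ p ∈ l, gamma p.1 p.2 ∈ J p.1) :
    (l.map fun p => gamma p.1 p.2).prod ∈ J (l.map Prod.fst).sum := by
  induction l with
  | nil =>
    simp only [List.map_nil, List.prod_nil, List.sum_nil]
    rw [hJ.zero]
    exact Submodule.mem_top
  | cons p l ih =>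
    simp only [List.map_cons, List.prod_cons, List.sum_cons]
    exact hJ.mul _ _ _ _ (h p List.mem_cons_self)
      (ih fun q hq => h q (List.mem_cons_of_mem _ hq))

theorem gammaFil_le_of_gamma_mem {K : Type u} [CommRing K] (ε : A →+* K) {J : ℕ → Ideal A}
    (hJ : IsFilt J) (h : ∀ z, ε z = 0 → ∀ i, 1 ≤ i → gamma i z ∈ J i) (k : ℕ) :
    gammaFil ε k ≤ J k := by
  rw [gammaFil_eq_span, Ideal.span_le]
  rintro y ⟨l, hl, hs, rfl⟩
  refine hJ.anti _ _ hs (list_prod_mem_filt hJ l fun p hp => ?_)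
  rcases Nat.eq_zero_or_pos p.1 with h0 | h0
  · rw [h0, gamma_zero_left, hJ.zero]
    exact Submodule.mem_top
  · exact h p.2 (hl p hp) p.1 h0

/-- the operation `∏ γ^(ν a + 1)(x_s)^(d a)` -/
noncomputable def monoOp {σ : Type*} (s : σ) {ι : Type*} (ν : ι → ℕ) (d : ι →₀ ℕ) : Op σ :=
  d.prod fun a k => X (s, ν a) ^ k

theorem evG_monoOp {σ : Type*} (s : σ) {ι : Type*} (ν : ι → ℕ) (d : ι →₀ ℕ) (x : σ → A) :
    evG x (monoOp s ν d) = d.prod fun a k => gamma (ν a + 1) (x s) ^ k := by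
  unfold monoOp Finsupp.prod
  rw [map_prod]
  refine Finset.prod_congr rfl fun a _ => ?_
  rw [map_pow, evG_X]

theorem monoOp_mem {σ : Type*} (s : σ) {ι : Type*} (ν : ι → ℕ) (d : ι →₀ ℕ) :
    monoOp s ν d ∈ wtIdeal ℤ (wγ (σ := σ)) (d.sum fun a k => k * (ν a + 1)) := by
  unfold monoOp Finsupp.prod Finsupp.sum
  apply (isFilt_wtIdeal (R := ℤ) (wγ (σ := σ))).prod_mem
  intro a _
  exact (isFilt_wtIdeal (R := ℤ) (wγ (σ := σ))).pow_mem
    (X_mem_wtIdeal (wγ (σ := σ)) (s, ν a)) (d a)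

theorem monoOp_weight_pos {ι : Type*} (ν : ι → ℕ) (d : ι →₀ ℕ) (hd : d ≠ 0) :
    1 ≤ d.sum fun a k => k * (ν a + 1) := by
  obtain ⟨a, ha⟩ := Finsupp.support_nonempty_iff.2 hd
  unfold Finsupp.sum
  have h1 : d a * (ν a + 1) ≤ ∑ a ∈ d.support, d a * (ν a + 1) :=
    Finset.single_le_sum (f := fun a => d a * (ν a + 1)) (fun _ _ => Nat.zero_le _) ha
  have h2 : 1 ≤ d a := Nat.one_le_iff_ne_zero.2 (Finsupp.mem_support_iff.1 ha)
  have h3 : 1 ≤ d a * (ν a + 1) := Nat.mul_pos h2 (Nat.succ_pos _)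
  exact le_trans h3 h1

theorem gamma_mono_mem (hA : IsSpecial A) {J : ℕ → Ideal A} (hJ : IsFilt J) (x : A)
    (hxJ : ∀ j : ℕ, gamma (j + 1) x ∈ J (j + 1)) {ι : Type*} (ν : ι → ℕ) (d : ι →₀ ℕ)
    (hd : d ≠ 0) :
    ∀ j, 1 ≤ j → gamma j (d.prod fun a k => gamma (ν a + 1) x ^ k) ∈ J (max j 0) := by
  intro j hj
  obtain ⟨G, hGw, hG⟩ := core.{v} (monoOp () ν d) _ (monoOp_weight_pos ν d hd)
    (monoOp_mem () ν d) j hj
  have h1 := hG A hA (fun _ : Unit => x)
  rw [evG_monoOp] at h1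
  rw [h1]
  refine hJ.anti _ _ (max_le_max (le_refl j) (Nat.zero_le (d.sum fun a k => k * (ν a + 1)))) ?_
  exact hJ.aeval_mem (wγ (σ := Unit)) _ (fun p => hxJ p.2) _ G hGw

end General

section TruncFree

variable {K : Type u} [CommRing K] [LambdaOps K] [BinomialRing K] {B : Type v} [CommRing B]
  [LambdaOps B] [Algebra K B]

/-- the ideal of monomials of weight `≥ k` in `γ^1 x, …, γ^n x` -/
def monoIdeal (n : ℕ) (x : B) (k : ℕ) : Ideal B :=
  Ideal.span {m : B | ∃ e : Fin n → ℕ, k ≤ ∑ j : Fin n, ((j : ℕ) + 1) * e j ∧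
    m = ∏ j : Fin n, gamma ((j : ℕ) + 1) x ^ e j}

theorem isFilt_monoIdeal (n : ℕ) (x : B) : IsFilt (monoIdeal n x) where
  zero := by
    rw [Ideal.eq_top_iff_one]
    unfold monoIdeal
    exact Ideal.subset_span ⟨fun _ => 0, by simp, by simp⟩
  mul := by
    intro a b y z hy hz
    have h : monoIdeal n x a * monoIdeal n x b ≤ monoIdeal n x (a + b) := by
      unfold monoIdeal
      rw [Ideal.span_mul_span', Ideal.span_le]
      intro t ht
      obtain ⟨s, ⟨e, he, rfl⟩, s', ⟨e', he', rfl⟩, rfl⟩ := Set.mem_mul.1 ht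
      refine Ideal.subset_span ⟨fun j => e j + e' j, ?_, ?_⟩
      · simp only [mul_add, Finset.sum_add_distrib]
        omega
      · simp only [pow_add, Finset.prod_mul_distrib]
    exact h (Ideal.mul_mem_mul hy hz)
  anti := by
    intro a b hab
    apply Ideal.span_mono
    rintro m ⟨e, he, rfl⟩
    exact ⟨e, le_trans hab he, rfl⟩

theorem gamma_mem_monoIdeal (n : ℕ) (x : B) (hγ : ∀ k : ℕ, n < k → gamma k x = 0) (j : ℕ) :
    gamma (j + 1) x ∈ monoIdeal n x (j + 1) := by
  classical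
  by_cases h : j < n
  · refine Ideal.subset_span ⟨Pi.single ⟨j, h⟩ 1, ?_, ?_⟩
    · rw [Finset.sum_eq_single (⟨j, h⟩ : Fin n)]
      · simp
      · intro b _ hb
        rw [Pi.single_eq_of_ne hb, mul_zero]
      · intro hh
        exact absurd (Finset.mem_univ _) hh
    · rw [Finset.prod_eq_single (⟨j, h⟩ : Fin n)]
      · simp
      · intro b _ hb
        rw [Pi.single_eq_of_ne hb, pow_zero]
      · intro hh
        exact absurd (Finset.mem_univ _) hh
  · rw [hγ (j + 1) (by omega)]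
    exact Ideal.zero_mem _

theorem gamma_mem_monoIdeal_of_aug (ε : B →ₐ[K] K) (hB : IsSpecial B)
    (hlam : ∀ (n : ℕ) (c : K),
      algebraMap K B (Ring.choose c n) = LambdaOps.lam n (algebraMap K B c))
    (hεlam : ∀ (n : ℕ) (a : B), ε (LambdaOps.lam n a) = LambdaOps.lam n (ε a))
    (n : ℕ) (x : B) (hx : ε x = 0) (hγ : ∀ k : ℕ, n < k → gamma k x = 0)
    (hgen : Algebra.adjoin K (Set.range fun j : Fin n => gamma ((j : ℕ) + 1) x) = ⊤)
    (z : B) (hz : ε z = 0) : ∀ i, 1 ≤ i → gamma i z ∈ monoIdeal n x i := by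
  have hεg : ∀ j : Fin n, ε (gamma ((j : ℕ) + 1) x) = 0 := by
    intro j
    have := map_gamma' (ε : B →+* K) hεlam ((j : ℕ) + 1) x
    show (ε : B →+* K) _ = 0
    rw [this]
    show gamma _ (ε x) = 0
    rw [hx, gamma_zero_arg (by omega)]
  have hzmem : z ∈ Algebra.adjoin K (Set.range fun j : Fin n => gamma ((j : ℕ) + 1) x) := by
    rw [hgen]
    exact Algebra.mem_top
  rw [Algebra.adjoin_range_eq_range_aeval] at hzmem
  obtain ⟨Q, rfl⟩ := hzmem
  have hc : constantCoeff Q = 0 := by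
    have h1 := comp_aeval_apply (f := fun j : Fin n => gamma ((j : ℕ) + 1) x) ε Q
    have h2 : ε ((aeval fun j : Fin n => gamma ((j : ℕ) + 1) x) Q) = 0 := hz
    rw [h2] at h1
    simp only [hεg] at h1
    rw [aeval_zero'] at h1
    exact h1.symm
  obtain ⟨T, hT⟩ : ∃ T : Set B, T = {t | ∃ (c : K) (d : Fin n →₀ ℕ), d ≠ 0 ∧
      t = algebraMap K B c * d.prod fun a k => gamma ((a : ℕ) + 1) x ^ k} := ⟨_, rfl⟩
  have hzT : (aeval fun j : Fin n => gamma ((j : ℕ) + 1) x) Q ∈ AddSubgroup.closure T := by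
    have hsum := Q.as_sum
    rw [hsum, map_sum]
    refine AddSubgroup.sum_mem _ fun d hd => ?_
    rw [aeval_monomial]
    apply AddSubgroup.subset_closure
    rw [hT]
    refine ⟨coeff d Q, d, ?_, rfl⟩
    rintro rfl
    rw [mem_support_iff] at hd
    apply hd
    rw [← constantCoeff_eq]
    exact hc
  intro i hi
  have := gamma_closure_mem (isFilt_monoIdeal n x) 0 T ?_ hzT i hi
  · rwa [max_eq_left (Nat.zero_le _)] at this
  · rw [hT]
    rintro t ⟨c, d, hd, rfl⟩
    exact gamma_scalar_mem hB hlam (isFilt_monoIdeal n x) 0 _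
      (gamma_mono_mem hB (isFilt_monoIdeal n x) x (gamma_mem_monoIdeal n x hγ)
        (fun a : Fin n => (a : ℕ)) d hd) c

theorem gammaFil_eq_monoIdeal (ε : B →ₐ[K] K) (hB : IsSpecial B)
    (hlam : ∀ (n : ℕ) (c : K),
      algebraMap K B (Ring.choose c n) = LambdaOps.lam n (algebraMap K B c))
    (hεlam : ∀ (n : ℕ) (a : B), ε (LambdaOps.lam n a) = LambdaOps.lam n (ε a))
    (n : ℕ) (x : B) (hx : ε x = 0) (hγ : ∀ k : ℕ, n < k → gamma k x = 0)
    (hgen : Algebra.adjoin K (Set.range fun j : Fin n => gamma ((j : ℕ) + 1) x) = ⊤) (k : ℕ) :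
    gammaFil (ε : B →+* K) k = monoIdeal n x k := by
  apply le_antisymm
  · exact gammaFil_le_of_gamma_mem _ (isFilt_monoIdeal n x)
      (fun z hz => gamma_mem_monoIdeal_of_aug ε hB hlam hεlam n x hx hγ hgen z hz) k
  · unfold monoIdeal
    rw [Ideal.span_le]
    rintro m ⟨e, he, rfl⟩
    have h := (isFilt_gammaFil (ε : B →+* K)).prod_mem univ
      (fun j : Fin n => gamma ((j : ℕ) + 1) x ^ e j) (fun j => e j * ((j : ℕ) + 1))
      (fun j _ => (isFilt_gammaFil (ε : B →+* K)).pow_mem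
        (gamma_mem_gammaFil (ε : B →+* K) x hx _) (e j))
    refine gammaFil_anti _ ?_ h
    calc k ≤ ∑ j : Fin n, ((j : ℕ) + 1) * e j := he
      _ = ∑ j : Fin n, e j * ((j : ℕ) + 1) := Finset.sum_congr rfl fun j _ => mul_comm _ _

end TruncFree

end Groth.Agent.Lib.LambdaOpsH1
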