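import Mathlib
import Groth.Agent.Lib.LambdaFil2H_helper1

/-!
# γ-filtration of the free λ-ring on one generator over an augmented λ-algebra (helper1).
APPEND-ONLY once landed.
-/

set_option autoImplicit false
universe u v w

open MvPolynomial Finset
open scoped Pointwise

namespace Groth.Agent.Lib.LambdaOpsH1

open LambdaRing Groth.Agent.Lib.LambdaUnivH1 Groth.Agent.Lib.LambdaRingH1
  Groth.Agent.Lib.LambdaAdamsH1 Groth.Agent.Lib.LambdaGAH1

section FreeOver

variable {K : Type u} [CommRing K] [LambdaOps K] [BinomialRing K]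
  {A : Type v} [CommRing A] [LambdaOps A] [Algebra K A]
  {B : Type w} [CommRing B] [LambdaOps B] [Algebra K B] [Algebra A B] [IsScalarTower K A B]

/-- the candidate filtration of `B = A[γ^1 x, γ^2 x, …]` -/
def NIdeal (εA : A →+* K) (x : B) (k : ℕ) : Ideal B :=
  Ideal.span {b : B | ∃ (e : ℕ →₀ ℕ) (a : A),
    a ∈ gammaFil εA (k - e.sum fun j n => (j + 1) * n) ∧
    b = algebraMap A B a * e.prod fun j n => gamma (j + 1) x ^ n}

theorem wsum_add (e e' : ℕ →₀ ℕ) :
    ((e + e').sum fun j n => (j + 1) * n) =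
      (e.sum fun j n => (j + 1) * n) + (e'.sum fun j n => (j + 1) * n) :=
  Finsupp.sum_add_index' (h := fun j n => (j + 1) * n) (fun j => mul_zero _)
    (fun j a b => mul_add _ _ _)

theorem wprod_add (x : B) (e e' : ℕ →₀ ℕ) :
    ((e + e').prod fun j n => gamma (j + 1) x ^ n) =
      (e.prod fun j n => gamma (j + 1) x ^ n) * (e'.prod fun j n => gamma (j + 1) x ^ n) :=
  Finsupp.prod_add_index' (h := fun j n => gamma (j + 1) x ^ n) (fun j => pow_zero _)
    (fun j a b => pow_add _ _ _)

theorem isFilt_NIdeal (εA : A →+* K) (x : B) : IsFilt (NIdeal εA x) where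
  zero := by
    rw [Ideal.eq_top_iff_one]
    refine Ideal.subset_span ⟨0, 1, ?_, ?_⟩
    · rw [Nat.zero_sub, gammaFil_zero]
      exact Submodule.mem_top
    · rw [map_one, Finsupp.prod_zero_index, one_mul]
  mul := by
    intro p q y z hy hz
    have h : NIdeal εA x p * NIdeal εA x q ≤ NIdeal εA x (p + q) := by
      unfold NIdeal
      rw [Ideal.span_mul_span', Ideal.span_le]
      intro t ht
      obtain ⟨s, ⟨e, a, ha, rfl⟩, s', ⟨e', a', ha', rfl⟩, rfl⟩ := Set.mem_mul.1 ht
      refine Ideal.subset_span ⟨e + e', a * a', ?_, ?_⟩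
      · rw [wsum_add]
        refine gammaFil_anti εA ?_ (gammaFil_mul εA ha ha')
        omega
      · rw [wprod_add, map_mul]
        ring
    exact h (Ideal.mul_mem_mul hy hz)
  anti := by
    intro p q hpq
    apply Ideal.span_mono
    rintro m ⟨e, a, ha, rfl⟩
    exact ⟨e, a, gammaFil_anti εA (Nat.sub_le_sub_right hpq _) ha, rfl⟩

theorem gamma_mem_NIdeal (εA : A →+* K) (x : B) (j : ℕ) :
    gamma (j + 1) x ∈ NIdeal εA x (j + 1) := by
  refine Ideal.subset_span ⟨Finsupp.single j 1, 1, ?_, ?_⟩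
  · rw [Finsupp.sum_single_index (h := fun j n => (j + 1) * n) (mul_zero _), mul_one,
      Nat.sub_self, gammaFil_zero]
    exact Submodule.mem_top
  · rw [map_one, one_mul,
      Finsupp.prod_single_index (h := fun j n => gamma (j + 1) x ^ n) (pow_zero _), pow_one]

theorem algebraMap_mem_NIdeal (εA : A →+* K) (x : B) {r : ℕ} {a : A} (ha : a ∈ gammaFil εA r) :
    algebraMap A B a ∈ NIdeal εA x r := by
  refine Ideal.subset_span ⟨0, a, ?_, ?_⟩
  · rw [Finsupp.sum_zero_index, Nat.sub_zero]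
    exact ha
  · rw [Finsupp.prod_zero_index, mul_one]

theorem algebraMap_mem_gammaFil (εA : A →+* K) (εB : B →+* K)
    (hAB : ∀ (n : ℕ) (a : A),
      algebraMap A B (LambdaOps.lam n a) = LambdaOps.lam n (algebraMap A B a))
    (hεAB : ∀ a : A, εB (algebraMap A B a) = εA a) {r : ℕ} {a : A} (ha : a ∈ gammaFil εA r) :
    algebraMap A B a ∈ gammaFil εB r := by
  have hlist : ∀ l : List (ℕ × A), (∀ p ∈ l, εA p.2 = 0) →
      algebraMap A B (l.map fun p => gamma p.1 p.2).prod ∈ gammaFil εB (l.map Prod.fst).sum := by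
    intro l
    induction l with
    | nil =>
      intro _
      simp only [List.map_nil, List.prod_nil, List.sum_nil]
      rw [gammaFil_zero]
      exact Submodule.mem_top
    | cons p l ih =>
      intro h
      simp only [List.map_cons, List.prod_cons, List.sum_cons]
      rw [map_mul]
      refine gammaFil_mul εB ?_ (ih fun q hq => h q (List.mem_cons_of_mem _ hq))
      rw [map_gamma' (algebraMap A B) hAB]
      apply gamma_mem_gammaFil
      rw [hεAB]
      exact h p List.mem_cons_self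
  rw [gammaFil_eq_span] at ha
  induction ha using Submodule.span_induction with
  | mem y hy =>
    obtain ⟨l, hl, hs, rfl⟩ := hy
    exact gammaFil_anti εB hs (hlist l hl)
  | zero =>
    rw [map_zero]
    exact Ideal.zero_mem _
  | add y z _ _ hy hz =>
    rw [map_add]
    exact Ideal.add_mem _ hy hz
  | smul c y _ hy =>
    rw [smul_eq_mul, map_mul]
    exact Ideal.mul_mem_left _ _ hy

theorem gamma_mem_NIdeal_of_aug (εA : A →ₐ[K] K) (εB : B →ₐ[K] K) (hB : IsSpecial B)
    (hlamB : ∀ (n : ℕ) (c : K),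
      algebraMap K B (Ring.choose c n) = LambdaOps.lam n (algebraMap K B c))
    (hAB : ∀ (n : ℕ) (a : A),
      algebraMap A B (LambdaOps.lam n a) = LambdaOps.lam n (algebraMap A B a))
    (hεBlam : ∀ (n : ℕ) (b : B), εB (LambdaOps.lam n b) = LambdaOps.lam n (εB b))
    (hεAB : ∀ a : A, εB (algebraMap A B a) = εA a)
    (x : B) (hx : εB x = 0)
    (hgen : Algebra.adjoin A (Set.range fun j : ℕ => gamma (j + 1) x) = ⊤)
    (z : B) (hz : εB z = 0) :
    ∀ i, 1 ≤ i → gamma i z ∈ NIdeal (εA : A →+* K) x i := by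
  classical
  have hJ := isFilt_NIdeal (εA : A →+* K) x
  have hεg : ∀ j : ℕ, εB (gamma (j + 1) x) = 0 := by
    intro j
    have := map_gamma' (εB : B →+* K) hεBlam (j + 1) x
    show (εB : B →+* K) _ = 0
    rw [this]
    show gamma _ (εB x) = 0
    rw [hx, gamma_zero_arg (by omega)]
  have hμ : ∀ d : ℕ →₀ ℕ, d ≠ 0 → εB (d.prod fun j k => gamma (j + 1) x ^ k) = 0 := by
    intro d hd
    obtain ⟨j, hj⟩ := Finsupp.support_nonempty_iff.2 hd
    unfold Finsupp.prod
    rw [map_prod]
    apply Finset.prod_eq_zero hj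
    rw [map_pow, hεg, zero_pow (Finsupp.mem_support_iff.1 hj)]
  have hzmem : z ∈ Algebra.adjoin A (Set.range fun j : ℕ => gamma (j + 1) x) := by
    rw [hgen]
    exact Algebra.mem_top
  rw [Algebra.adjoin_range_eq_range_aeval] at hzmem
  obtain ⟨Q, rfl⟩ := hzmem
  have hexp : (aeval fun j : ℕ => gamma (j + 1) x) Q =
      ∑ d ∈ Q.support, algebraMap A B (coeff d Q) * d.prod fun j k => gamma (j + 1) x ^ k := by
    conv_lhs => rw [Q.as_sum]
    rw [map_sum]
    refine Finset.sum_congr rfl fun d _ => ?_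
    rw [aeval_monomial]
  have hc : εA (coeff 0 Q) = 0 := by
    have h1 : εB ((aeval fun j : ℕ => gamma (j + 1) x) Q) = εA (coeff 0 Q) := by
      rw [hexp, map_sum, Finset.sum_eq_single (0 : ℕ →₀ ℕ)]
      · rw [Finsupp.prod_zero_index, mul_one, hεAB]
      · intro d _ hd
        rw [map_mul, hμ d hd, mul_zero]
      · intro h0
        rw [MvPolynomial.notMem_support_iff.1 h0, map_zero, zero_mul, map_zero]
    rw [← h1]
    exact hz
  obtain ⟨T, hT⟩ : ∃ T : Set B, T = {t | (∃ a : A, εA a = 0 ∧ t = algebraMap A B a) ∨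
      (∃ (c : K) (d : ℕ →₀ ℕ), d ≠ 0 ∧
        t = algebraMap K B c * d.prod fun j k => gamma (j + 1) x ^ k) ∨
      (∃ (a : A) (d : ℕ →₀ ℕ), εA a = 0 ∧ d ≠ 0 ∧
        t = algebraMap A B a * d.prod fun j k => gamma (j + 1) x ^ k)} := ⟨_, rfl⟩
  have hzT : (aeval fun j : ℕ => gamma (j + 1) x) Q ∈ AddSubgroup.closure T := by
    rw [hexp]
    refine AddSubgroup.sum_mem _ fun d _ => ?_
    by_cases hd : d = 0
    · apply AddSubgroup.subset_closure
      rw [hT]
      refine Or.inl ⟨coeff 0 Q, hc, ?_⟩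
      rw [hd, Finsupp.prod_zero_index, mul_one]
    · have hsplit : algebraMap A B (coeff d Q) * (d.prod fun j k => gamma (j + 1) x ^ k) =
          algebraMap K B (εA (coeff d Q)) * (d.prod fun j k => gamma (j + 1) x ^ k) +
          algebraMap A B (coeff d Q - algebraMap K A (εA (coeff d Q))) *
            (d.prod fun j k => gamma (j + 1) x ^ k) := by
        rw [IsScalarTower.algebraMap_apply K A B, map_sub]
        ring
      rw [hsplit]
      apply AddSubgroup.add_mem
      · apply AddSubgroup.subset_closure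
        rw [hT]
        exact Or.inr (Or.inl ⟨_, d, hd, rfl⟩)
      · apply AddSubgroup.subset_closure
        rw [hT]
        exact Or.inr (Or.inr ⟨_, d, aug_sub εA _, hd, rfl⟩)
  have hxJ : ∀ j : ℕ, gamma (j + 1) x ∈ NIdeal (εA : A →+* K) x (j + 1) :=
    gamma_mem_NIdeal (εA : A →+* K) x
  have halg : ∀ (a : A), εA a = 0 → ∀ i : ℕ,
      gamma i (algebraMap A B a) ∈ NIdeal (εA : A →+* K) x i := by
    intro a ha i
    rw [← map_gamma' (algebraMap A B) hAB]
    exact algebraMap_mem_NIdeal _ x (gamma_mem_gammaFil (εA : A →+* K) a ha i)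
  intro i hi
  have := gamma_closure_mem hJ 0 T ?_ hzT i hi
  · rwa [max_eq_left (Nat.zero_le _)] at this
  · rw [hT]
    rintro t (⟨a, ha, rfl⟩ | ⟨c, d, hd, rfl⟩ | ⟨a, d, ha, hd, rfl⟩)
    · intro j _
      rw [max_eq_left (Nat.zero_le _)]
      exact halg a ha j
    · exact gamma_scalar_mem hB hlamB hJ 0 _
        (gamma_mono_mem hB hJ x hxJ (fun a : ℕ => a) d hd) c
    · intro j hj
      have hF : (X ((false, 0) : Bool × ℕ) : Op Bool) * monoOp true (fun a : ℕ => a) d ∈
          wtIdeal ℤ (wγ (σ := Bool)) (1 + d.sum fun a k => k * (a + 1)) :=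
        mul_mem_wtIdeal (X_mem_wtIdeal (wγ (σ := Bool)) ((false, 0) : Bool × ℕ))
          (monoOp_mem true (fun a : ℕ => a) d)
      obtain ⟨G, hGw, hG⟩ := core.{w} _ _ (Nat.le_add_right 1 _) hF j hj
      have h1 := hG B hB (fun b : Bool => cond b x (algebraMap A B a))
      rw [map_mul, evG_X, evG_monoOp] at h1
      simp only [cond_false, cond_true, zero_add] at h1
      rw [gamma_one] at h1
      rw [h1]
      refine hJ.anti (max j 0) (max j (1 + d.sum fun a k => k * (a + 1)))
        (max_le_max (le_refl j) (Nat.zero_le _)) ?_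
      refine hJ.aeval_mem (wγ (σ := Bool)) _ (fun p => ?_) _ G hGw
      rcases p with ⟨b, m⟩
      cases b
      · exact halg a ha (m + 1)
      · exact hxJ m

theorem gammaFil_eq_NIdeal (εA : A →ₐ[K] K) (εB : B →ₐ[K] K) (hB : IsSpecial B)
    (hlamB : ∀ (n : ℕ) (c : K),
      algebraMap K B (Ring.choose c n) = LambdaOps.lam n (algebraMap K B c))
    (hAB : ∀ (n : ℕ) (a : A),
      algebraMap A B (LambdaOps.lam n a) = LambdaOps.lam n (algebraMap A B a))
    (hεBlam : ∀ (n : ℕ) (b : B), εB (LambdaOps.lam n b) = LambdaOps.lam n (εB b))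
    (hεAB : ∀ a : A, εB (algebraMap A B a) = εA a)
    (x : B) (hx : εB x = 0)
    (hgen : Algebra.adjoin A (Set.range fun j : ℕ => gamma (j + 1) x) = ⊤) (k : ℕ) :
    gammaFil (εB : B →+* K) k = NIdeal (εA : A →+* K) x k := by
  apply le_antisymm
  · exact gammaFil_le_of_gamma_mem _ (isFilt_NIdeal (εA : A →+* K) x)
      (fun z hz => gamma_mem_NIdeal_of_aug εA εB hB hlamB hAB hεBlam hεAB x hx hgen z hz) k
  · unfold NIdeal
    rw [Ideal.span_le]
    rintro m ⟨e, a, ha, rfl⟩
    have h1 : algebraMap A B a ∈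
        gammaFil (εB : B →+* K) (k - e.sum fun j n => (j + 1) * n) :=
      algebraMap_mem_gammaFil (εA : A →+* K) (εB : B →+* K) hAB hεAB ha
    have h2 : (e.prod fun j n => gamma (j + 1) x ^ n) ∈
        gammaFil (εB : B →+* K) (e.sum fun j n => (j + 1) * n) := by
      have h := (isFilt_gammaFil (εB : B →+* K)).prod_mem e.support
        (fun j : ℕ => gamma (j + 1) x ^ e j) (fun j => e j * (j + 1))
        (fun j _ => (isFilt_gammaFil (εB : B →+* K)).pow_mem
          (gamma_mem_gammaFil (εB : B →+* K) x hx _) (e j))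
      have e1 : (e.sum fun j n => (j + 1) * n) = ∑ j ∈ e.support, e j * (j + 1) :=
        Finset.sum_congr rfl fun j _ => mul_comm _ _
      rw [e1]
      exact h
    refine gammaFil_anti _ ?_ (gammaFil_mul _ h1 h2)
    omega

end FreeOver

end Groth.Agent.Lib.LambdaOpsH1
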