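import Mathlib

set_option autoImplicit false
set_option maxHeartbeats 1000000

namespace Groth.Agent.Lib.LambdaJH1

open Algebra

universe u v

section
variable {k : Type u} [Field k] {K : Type v} [Field K] [Algebra k K]
variable (lam : K)

/-- power sums of the six conjugates of `lam` under the anharmonic group -/
def P (n : ℕ) : K :=
  lam ^ n + (lam⁻¹) ^ n + (1 - lam) ^ n + (1 - lam⁻¹) ^ n + ((1 - lam)⁻¹) ^ n
    + ((1 - lam⁻¹)⁻¹) ^ n

def jp : K := (lam ^ 2 - lam + 1) ^ 3 / (lam ^ 2 * (lam - 1) ^ 2)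

def Rel (j ρ : K) : Prop :=
  ρ ^ 6 = 3 * ρ ^ 5 - (6 - j) * ρ ^ 4 - (2 * j - 7) * ρ ^ 3 - (6 - j) * ρ ^ 2 + 3 * ρ - 1

lemma rel_pow {j ρ : K} (h : Rel j ρ) (n : ℕ) :
    ρ ^ (n + 6) = 3 * ρ ^ (n + 5) - (6 - j) * ρ ^ (n + 4) - (2 * j - 7) * ρ ^ (n + 3)
      - (6 - j) * ρ ^ (n + 2) + 3 * ρ ^ (n + 1) - ρ ^ n := by
  unfold Rel at h
  rw [pow_add, h]; ring

variable {lam}

lemma one_sub_inv_ne (h0 : lam ≠ 0) (h1 : lam - 1 ≠ 0) : 1 - lam⁻¹ ≠ 0 := by
  intro h
  apply h1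
  have : lam * (1 - lam⁻¹) = 0 := by rw [h, mul_zero]
  rw [mul_sub, mul_one, mul_inv_cancel₀ h0] at this
  exact this

lemma r4_eq (h0 : lam ≠ 0) : 1 - lam⁻¹ = (lam - 1) / lam := by
  field_simp

lemma r5_eq (h1 : lam - 1 ≠ 0) : (1 - lam)⁻¹ = -1 / (lam - 1) := by
  have h1' : 1 - lam ≠ 0 := fun h => h1 (by linear_combination -h)
  field_simp
  ring

lemma r6_eq (h0 : lam ≠ 0) (h1 : lam - 1 ≠ 0) : (1 - lam⁻¹)⁻¹ = lam / (lam - 1) := by
  rw [r4_eq h0, inv_div]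

lemma rel1 (h0 : lam ≠ 0) (h1 : lam - 1 ≠ 0) : Rel (jp lam) lam := by
  unfold Rel jp; field_simp; ring

lemma rel2 (h0 : lam ≠ 0) (h1 : lam - 1 ≠ 0) : Rel (jp lam) lam⁻¹ := by
  unfold Rel jp; field_simp; ring

lemma rel3 (h0 : lam ≠ 0) (h1 : lam - 1 ≠ 0) : Rel (jp lam) (1 - lam) := by
  unfold Rel jp; field_simp; ring

lemma rel4 (h0 : lam ≠ 0) (h1 : lam - 1 ≠ 0) : Rel (jp lam) (1 - lam⁻¹) := by
  rw [r4_eq h0]
  unfold Rel jp; field_simp; ring

lemma rel5 (h0 : lam ≠ 0) (h1 : lam - 1 ≠ 0) : Rel (jp lam) ((1 - lam)⁻¹) := by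
  rw [r5_eq h1]
  unfold Rel jp; field_simp; ring

lemma rel6 (h0 : lam ≠ 0) (h1 : lam - 1 ≠ 0) : Rel (jp lam) ((1 - lam⁻¹)⁻¹) := by
  rw [r6_eq h0 h1]
  unfold Rel jp; field_simp; ring

lemma P_rec (h0 : lam ≠ 0) (h1 : lam - 1 ≠ 0) (n : ℕ) :
    P lam (n + 6) = 3 * P lam (n + 5) - (6 - jp lam) * P lam (n + 4)
      - (2 * jp lam - 7) * P lam (n + 3) - (6 - jp lam) * P lam (n + 2) + 3 * P lam (n + 1)
      - P lam n := by
  unfold P
  linear_combination rel_pow (rel1 h0 h1) n + rel_pow (rel2 h0 h1) n + rel_pow (rel3 h0 h1) n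
    + rel_pow (rel4 h0 h1) n + rel_pow (rel5 h0 h1) n + rel_pow (rel6 h0 h1) n

lemma P0 : P lam 0 = 6 := by unfold P; norm_num

lemma P1 (h0 : lam ≠ 0) (h1 : lam - 1 ≠ 0) : P lam 1 = 3 := by
  unfold P
  rw [r6_eq h0 h1, r4_eq h0, r5_eq h1]
  field_simp; ring

lemma P2 (h0 : lam ≠ 0) (h1 : lam - 1 ≠ 0) : P lam 2 = 2 * jp lam - 3 := by
  unfold P
  rw [r6_eq h0 h1, r4_eq h0, r5_eq h1]
  unfold jp
  field_simp; ring

lemma P3 (h0 : lam ≠ 0) (h1 : lam - 1 ≠ 0) : P lam 3 = 3 * jp lam - 6 := by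
  unfold P
  rw [r6_eq h0 h1, r4_eq h0, r5_eq h1]
  unfold jp
  field_simp; ring

lemma P4 (h0 : lam ≠ 0) (h1 : lam - 1 ≠ 0) :
    P lam 4 = 2 * jp lam ^ 2 - 8 * jp lam - 3 := by
  unfold P
  rw [r6_eq h0 h1, r4_eq h0, r5_eq h1]
  unfold jp
  field_simp; ring

lemma P5 (h0 : lam ≠ 0) (h1 : lam - 1 ≠ 0) :
    P lam 5 = 5 * jp lam ^ 2 - 25 * jp lam + 3 := by
  unfold P
  rw [r6_eq h0 h1, r4_eq h0, r5_eq h1]
  unfold jp
  field_simp; ring

lemma P_mem (J : Subalgebra k K) (hj : jp lam ∈ J) (h0 : lam ≠ 0) (h1 : lam - 1 ≠ 0) :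
    ∀ n, P lam n ∈ J := by
  have hnum : ∀ n : ℕ, (n : K) ∈ J := fun n => natCast_mem J n
  have c2 : (2 : K) ∈ J := by exact_mod_cast hnum 2
  have c3 : (3 : K) ∈ J := by exact_mod_cast hnum 3
  have c5 : (5 : K) ∈ J := by exact_mod_cast hnum 5
  have c6 : (6 : K) ∈ J := by exact_mod_cast hnum 6
  have c7 : (7 : K) ∈ J := by exact_mod_cast hnum 7
  have c8 : (8 : K) ∈ J := by exact_mod_cast hnum 8
  have c25 : (25 : K) ∈ J := by exact_mod_cast hnum 25
  intro n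
  induction n using Nat.strong_induction_on with
  | _ n ih =>
    match n, ih with
    | 0, _ => rw [P0]; exact c6
    | 1, _ => rw [P1 h0 h1]; exact c3
    | 2, _ => rw [P2 h0 h1]; exact sub_mem (mul_mem c2 hj) c3
    | 3, _ => rw [P3 h0 h1]; exact sub_mem (mul_mem c3 hj) c6
    | 4, _ =>
      rw [P4 h0 h1]
      exact sub_mem (sub_mem (mul_mem c2 (pow_mem hj 2)) (mul_mem c8 hj)) c3
    | 5, _ =>
      rw [P5 h0 h1]
      exact add_mem (sub_mem (mul_mem c5 (pow_mem hj 2)) (mul_mem c25 hj)) c3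
    | (m + 6), ih =>
      rw [P_rec h0 h1]
      have i0 := ih m (by omega)
      have i1 := ih (m + 1) (by omega)
      have i2 := ih (m + 2) (by omega)
      have i3 := ih (m + 3) (by omega)
      have i4 := ih (m + 4) (by omega)
      have i5 := ih (m + 5) (by omega)
      exact sub_mem (add_mem (sub_mem (sub_mem (sub_mem (mul_mem c3 i5)
        (mul_mem (sub_mem c6 hj) i4)) (mul_mem (sub_mem (mul_mem c2 hj) c7) i3))
        (mul_mem (sub_mem c6 hj) i2)) (mul_mem c3 i1)) i0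

/-- the basic spanning set -/
def S0 (lam : K) : Set K :=
  (Set.range (fun n : ℕ => lam ^ n) ∪ Set.range (fun n : ℕ => (lam⁻¹) ^ n))
    ∪ Set.range (fun n : ℕ => ((lam - 1)⁻¹) ^ n)

lemma M1 (h1 : lam - 1 ≠ 0) (a : ℕ) :
    ∀ m : ℕ, lam ^ a * ((lam - 1)⁻¹) ^ m ∈ Submodule.span k (S0 lam) := by
  have hlv : lam * (lam - 1)⁻¹ = 1 + (lam - 1)⁻¹ := by field_simp; ring
  induction a with
  | zero =>
    intro m
    rw [pow_zero, one_mul]
    exact Submodule.subset_span (Or.inr ⟨m, rfl⟩)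
  | succ a ih =>
    intro m
    cases m with
    | zero =>
      rw [pow_zero, mul_one]
      exact Submodule.subset_span (Or.inl (Or.inl ⟨a + 1, rfl⟩))
    | succ m =>
      have e : lam ^ (a + 1) * ((lam - 1)⁻¹) ^ (m + 1)
          = lam ^ a * ((lam - 1)⁻¹) ^ m + lam ^ a * ((lam - 1)⁻¹) ^ (m + 1) := by
        rw [pow_succ, pow_succ]
        linear_combination (lam ^ a * ((lam - 1)⁻¹) ^ m) * hlv
      rw [e]
      exact add_mem (ih m) (ih (m + 1))

lemma M2 (h0 : lam ≠ 0) (h1 : lam - 1 ≠ 0) (a : ℕ) :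
    ∀ m : ℕ, (lam⁻¹) ^ a * ((lam - 1)⁻¹) ^ m ∈ Submodule.span k (S0 lam) := by
  have hmv : lam⁻¹ * (lam - 1)⁻¹ = (lam - 1)⁻¹ - lam⁻¹ := by field_simp; ring
  induction a with
  | zero =>
    intro m
    rw [pow_zero, one_mul]
    exact Submodule.subset_span (Or.inr ⟨m, rfl⟩)
  | succ a ih =>
    intro m
    induction m with
    | zero =>
      rw [pow_zero, mul_one]
      exact Submodule.subset_span (Or.inl (Or.inr ⟨a + 1, rfl⟩))
    | succ m ihm =>
      have e : (lam⁻¹) ^ (a + 1) * ((lam - 1)⁻¹) ^ (m + 1)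
          = (lam⁻¹) ^ a * ((lam - 1)⁻¹) ^ (m + 1) - (lam⁻¹) ^ (a + 1) * ((lam - 1)⁻¹) ^ m := by
        rw [pow_succ, pow_succ]
        linear_combination ((lam⁻¹) ^ a * ((lam - 1)⁻¹) ^ m) * hmv
      rw [e]
      exact sub_mem (ih (m + 1)) ihm

lemma M3 (h0 : lam ≠ 0) (h1 : lam - 1 ≠ 0) (b : ℕ) :
    ∀ a m : ℕ, lam ^ a * (lam⁻¹) ^ b * ((lam - 1)⁻¹) ^ m ∈ Submodule.span k (S0 lam) := by
  induction b with
  | zero =>
    intro a m
    rw [pow_zero, mul_one]
    exact M1 h1 a m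
  | succ b ih =>
    intro a m
    cases a with
    | zero =>
      rw [pow_zero, one_mul]
      exact M2 h0 h1 (b + 1) m
    | succ a =>
      have e : lam ^ (a + 1) * (lam⁻¹) ^ (b + 1) * ((lam - 1)⁻¹) ^ m
          = lam ^ a * (lam⁻¹) ^ b * ((lam - 1)⁻¹) ^ m := by
        rw [pow_succ, pow_succ]
        have : lam * lam⁻¹ = 1 := mul_inv_cancel₀ h0
        linear_combination (lam ^ a * (lam⁻¹) ^ b * ((lam - 1)⁻¹) ^ m) * this
      rw [e]
      exact ih a m

lemma adjoin_le_span (h0 : lam ≠ 0) (h1 : lam - 1 ≠ 0) (x : K)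
    (hx : x ∈ Algebra.adjoin k ({lam, lam⁻¹, (lam - 1)⁻¹} : Set K)) :
    x ∈ Submodule.span k (S0 lam) := by
  rw [← Subalgebra.mem_toSubmodule, Algebra.adjoin_eq_span] at hx
  refine Submodule.span_le.2 ?_ hx
  have key : ∀ y ∈ Submonoid.closure ({lam, lam⁻¹, (lam - 1)⁻¹} : Set K),
      ∃ a b c : ℕ, y = lam ^ a * (lam⁻¹) ^ b * ((lam - 1)⁻¹) ^ c := by
    intro y hy'
    induction hy' using Submonoid.closure_induction with
    | mem z hz =>
      rcases hz with rfl | rfl | rfl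
      · exact ⟨1, 0, 0, by simp⟩
      · exact ⟨0, 1, 0, by simp⟩
      · exact ⟨0, 0, 1, by simp⟩
    | one => exact ⟨0, 0, 0, by simp⟩
    | mul z w _ _ hz hw =>
      obtain ⟨a, b, c, rfl⟩ := hz
      obtain ⟨a', b', c', rfl⟩ := hw
      exact ⟨a + a', b + b', c + c', by ring⟩
  intro y hy
  have := key y hy
  obtain ⟨a, b, c, rfl⟩ := this
  exact M3 h0 h1 b a c

theorem main_general (lam : K) (h2 : (2 : k) ≠ 0) (h3 : (3 : k) ≠ 0) (h0 : lam ≠ 0)
    (h1 : lam - 1 ≠ 0)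
    (σ τ : K →ₐ[k] K) (hσ : σ lam = lam⁻¹) (hτ : τ lam = 1 - lam) (b : K) :
    (b ∈ Algebra.adjoin k ({lam, lam⁻¹, (lam - 1)⁻¹} : Set K) ∧ σ b = b ∧ τ b = b) ↔
      b ∈ Algebra.adjoin k
        ({(256 : K) * (lam ^ 2 - lam + 1) ^ 3 / (lam ^ 2 * (lam - 1) ^ 2)} : Set K) := by
  set j : K := (256 : K) * (lam ^ 2 - lam + 1) ^ 3 / (lam ^ 2 * (lam - 1) ^ 2) with hjdef
  set B := Algebra.adjoin k ({lam, lam⁻¹, (lam - 1)⁻¹} : Set K) with hB
  set J := Algebra.adjoin k ({j} : Set K) with hJ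
  have h1' : 1 - lam ≠ 0 := fun h => h1 (by linear_combination -h)
  have h4 : 1 - lam⁻¹ ≠ 0 := one_sub_inv_ne h0 h1
  have h256k : (256 : k) ≠ 0 := by
    have : (256 : k) = 2 ^ 8 := by norm_num
    rw [this]; exact pow_ne_zero _ h2
  have h256 : (256 : K) ≠ 0 := by
    have h := (map_ne_zero (algebraMap k K)).2 h256k
    rw [map_ofNat] at h
    exact h
  have h6k : (6 : k) ≠ 0 := by
    have : (6 : k) = 2 * 3 := by norm_num
    rw [this]; exact mul_ne_zero h2 h3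
  have h6 : (6 : K) ≠ 0 := by
    have h := (map_ne_zero (algebraMap k K)).2 h6k
    rw [map_ofNat] at h
    exact h
  constructor
  · rintro ⟨hbB, hσb, hτb⟩
    have hjp : jp lam ∈ J := by
      have : jp lam = (256 : k)⁻¹ • j := by
        rw [Algebra.smul_def, map_inv₀, map_ofNat]
        unfold jp
        rw [hjdef]
        field_simp
      rw [this]
      exact J.smul_mem (subset_adjoin (Set.mem_singleton j)) _
    have hP := P_mem J hjp h0 h1
    let T : K →ₗ[k] K := LinearMap.id + σ.toLinearMap + τ.toLinearMap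
      + (σ.comp τ).toLinearMap + (τ.comp σ).toLinearMap + ((σ.comp τ).comp σ).toLinearMap
    have hT : ∀ x, T x = x + σ x + τ x + σ (τ x) + τ (σ x) + σ (τ (σ x)) := fun x => rfl
    have hW : Submodule.span k (S0 lam) ≤ (Subalgebra.toSubmodule J).comap T := by
      refine Submodule.span_le.2 ?_
      rintro x ((⟨n, rfl⟩ | ⟨n, rfl⟩) | ⟨n, rfl⟩)
      · have e : T (lam ^ n) = P lam n := by
          rw [hT]
          simp only [map_pow, hσ, hτ, map_inv₀, map_sub, map_one]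
          rfl
        show T (lam ^ n) ∈ J
        rw [e]; exact hP n
      · have e : T ((lam⁻¹) ^ n) = P lam n := by
          rw [hT]
          simp only [map_pow, hσ, hτ, map_inv₀, map_sub, map_one, inv_inv]
          unfold P
          ring
        show T ((lam⁻¹) ^ n) ∈ J
        rw [e]; exact hP n
      · have a1 : (lam - 1)⁻¹ = -((1 - lam)⁻¹) := by
          rw [← neg_sub 1 lam, inv_neg]
        have a2 : (lam⁻¹ - 1)⁻¹ = -((1 - lam⁻¹)⁻¹) := by
          rw [← neg_sub 1 lam⁻¹, inv_neg]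
        have a3 : (1 - lam - 1)⁻¹ = -(lam⁻¹) := by
          rw [show (1 - lam - 1 : K) = -lam by ring, inv_neg]
        have a4 : (1 - lam⁻¹ - 1)⁻¹ = -lam := by
          rw [show (1 - lam⁻¹ - 1 : K) = -lam⁻¹ by ring, inv_neg, inv_inv]
        have a5 : ((1 - lam)⁻¹ - 1)⁻¹ = -(1 - lam⁻¹) := by
          rw [inv_eq_iff_eq_inv]
          rw [← neg_inv, r4_eq h0, inv_div]
          field_simp
          ring
        have a6 : ((1 - lam⁻¹)⁻¹ - 1)⁻¹ = -(1 - lam) := by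
          rw [inv_eq_iff_eq_inv]
          rw [r6_eq h0 h1, ← neg_inv]
          field_simp
          ring
        have e : T (((lam - 1)⁻¹) ^ n) = (-1) ^ n * P lam n := by
          rw [hT]
          simp only [map_pow, hσ, hτ, map_inv₀, map_sub, map_one]
          rw [a2, a3, a4, a5, a6, a1]
          have np : ∀ a : K, (-a) ^ n = (-1) ^ n * a ^ n := fun a => neg_pow a n
          rw [np ((1 - lam)⁻¹), np ((1 - lam⁻¹)⁻¹), np lam⁻¹, np lam, np (1 - lam⁻¹), np (1 - lam)]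
          unfold P
          ring
        show T (((lam - 1)⁻¹) ^ n) ∈ J
        rw [e]
        exact mul_mem (pow_mem (neg_mem (one_mem J)) n) (hP n)
    have key := hW (adjoin_le_span (k := k) h0 h1 b hbB)
    have key' : T b ∈ J := key
    rw [hT] at key'
    simp only [hσb, hτb] at key'
    have e : b = (6 : k)⁻¹ • (b + b + b + b + b + b) := by
      rw [Algebra.smul_def, map_inv₀, map_ofNat]
      field_simp
      ring
    rw [e]
    exact J.smul_mem key' _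
  · intro hb
    have hl : lam ∈ B := subset_adjoin (by simp)
    have hm : lam⁻¹ ∈ B := subset_adjoin (by simp)
    have hn : (lam - 1)⁻¹ ∈ B := subset_adjoin (by simp)
    have hjB : j ∈ B := by
      have e : j = 256 * (lam ^ 2 - lam + 1) ^ 3 * (lam⁻¹ ^ 2 * (lam - 1)⁻¹ ^ 2) := by
        rw [hjdef]; field_simp
      rw [e]
      have c256 : (256 : K) ∈ B := by exact_mod_cast natCast_mem B 256
      exact mul_mem (mul_mem c256 (pow_mem (add_mem (sub_mem (pow_mem hl 2) hl) (one_mem _)) 3))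
        (mul_mem (pow_mem hm 2) (pow_mem hn 2))
    have hσj : σ j = j := by
      rw [hjdef]
      simp only [map_div₀, map_mul, map_pow, map_sub, map_add, map_one, hσ, map_ofNat]
      field_simp
      ring
    have hτj : τ j = j := by
      rw [hjdef]
      simp only [map_div₀, map_mul, map_pow, map_sub, map_add, map_one, hτ, map_ofNat]
      have : (1 - lam - 1 : K) = -lam := by ring
      rw [this]
      field_simp
      ring
    induction hb using Algebra.adjoin_induction with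
    | mem x hx =>
      rw [Set.mem_singleton_iff] at hx
      subst hx
      exact ⟨hjB, hσj, hτj⟩
    | algebraMap r => exact ⟨Subalgebra.algebraMap_mem _ r, σ.commutes r, τ.commutes r⟩
    | add x y _ _ hx hy =>
      exact ⟨add_mem hx.1 hy.1, by rw [map_add, hx.2.1, hy.2.1], by rw [map_add, hx.2.2, hy.2.2]⟩
    | mul x y _ _ hx hy =>
      exact ⟨mul_mem hx.1 hy.1, by rw [map_mul, hx.2.1, hy.2.1], by rw [map_mul, hx.2.2, hy.2.2]⟩

end

theorem main11470 (k : Type u) [Field k] [IsAlgClosed k]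
    (h2 : (2 : k) ≠ 0) (h3 : (3 : k) ≠ 0)
    (σ τ : RatFunc k ≃ₐ[k] RatFunc k) (hσ : σ RatFunc.X = (RatFunc.X : RatFunc k)⁻¹)
    (hτ : τ RatFunc.X = 1 - (RatFunc.X : RatFunc k)) (b : RatFunc k) :
    (b ∈ Algebra.adjoin k ({RatFunc.X, (RatFunc.X : RatFunc k)⁻¹, ((RatFunc.X : RatFunc k) - 1)⁻¹} : Set (RatFunc k)) ∧
        σ b = b ∧ τ b = b) ↔
      b ∈ Algebra.adjoin k ({(256 : RatFunc k) * ((RatFunc.X : RatFunc k) ^ 2 - RatFunc.X + 1) ^ 3 /
        ((RatFunc.X : RatFunc k) ^ 2 * ((RatFunc.X : RatFunc k) - 1) ^ 2)} : Set (RatFunc k)) := by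
  have h0 : (RatFunc.X : RatFunc k) ≠ 0 := RatFunc.X_ne_zero
  have h1 : (RatFunc.X : RatFunc k) - 1 ≠ 0 := by
    intro h
    have h' : algebraMap (Polynomial k) (RatFunc k) (Polynomial.X - Polynomial.C 1) = 0 := by
      rw [map_sub, RatFunc.algebraMap_X, map_one, map_one]; exact h
    have := (map_eq_zero_iff _ (RatFunc.algebraMap_injective k)).1 h'
    exact Polynomial.X_sub_C_ne_zero (1 : k) this
  exact main_general (RatFunc.X) h2 h3 h0 h1 σ.toAlgHom τ.toAlgHom hσ hτ b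

end Groth.Agent.Lib.LambdaJH1
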