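import Groth.Agent.Lib.LambdaGammaAdams_helper1
import Mathlib.RingTheory.PowerSeries.Log

/-!
# `log (u)` for a line element is an eigenvector of `ψ^j` (helper1)

APPEND-ONLY: do not change statements of landed lemmas.
-/

universe u

open Finset TensorProduct

namespace Groth.Agent.Lib.LambdaLogH1

section PS
open PowerSeries

theorem one_add_X_mul_deriv_log : (1 + X : ℚ⟦X⟧) * d⁄dX ℚ (log ℚ) = 1 := by
  ext n
  rw [deriv_log, add_mul, one_mul, map_add]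
  cases n with
  | zero => simp
  | succ n =>
    rw [coeff_succ_X_mul, coeff_mk, coeff_mk, coeff_one, if_neg (Nat.succ_ne_zero n)]
    simp [pow_succ]

theorem subst_one' {g : ℚ⟦X⟧} (hg : HasSubst g) : (1 : ℚ⟦X⟧).subst g = 1 := by
  rw [← coe_substAlgHom hg, map_one]

theorem log_subst_pow (j : ℕ) :
    (log ℚ).subst ((1 + X : ℚ⟦X⟧) ^ j - 1) = (j : ℚ⟦X⟧) * log ℚ := by
  have hg : HasSubst ((1 + X : ℚ⟦X⟧) ^ j - 1) :=
    HasSubst.of_constantCoeff_zero' (by simp)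
  apply derivative.ext
  · rw [derivative_subst hg]
    have h1 := one_add_X_mul_deriv_log
    have h2 : (d⁄dX ℚ (log ℚ)).subst ((1 + X : ℚ⟦X⟧) ^ j - 1) * (1 + X) ^ j = 1 := by
      have := congrArg (subst ((1 + X : ℚ⟦X⟧) ^ j - 1)) h1
      rw [subst_mul hg, subst_add hg, subst_X hg, subst_one' hg,
        add_sub_cancel] at this
      rw [mul_comm]; exact this
    have h3 : d⁄dX ℚ ((1 + X : ℚ⟦X⟧) ^ j - 1) = (j : ℚ⟦X⟧) * (1 + X) ^ (j - 1) := by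
      rw [map_sub, derivative_pow, map_add, Derivation.map_one_eq_zero, derivative_X, zero_add,
        mul_one, sub_zero]
    have h4 : d⁄dX ℚ ((j : ℚ⟦X⟧) * log ℚ) = (j : ℚ⟦X⟧) * d⁄dX ℚ (log ℚ) := by
      rw [Derivation.leibniz, Derivation.map_natCast, smul_zero, add_zero, smul_eq_mul]
    rw [h3, h4]
    rcases j with _ | k
    · simp
    · set D := d⁄dX ℚ (log ℚ) with hD
      set A := D.subst ((1 + X : ℚ⟦X⟧) ^ (k + 1) - 1) with hA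
      have hk : D ^ k * (1 + X) ^ k = 1 := by
        rw [← mul_pow, mul_comm, h1, one_pow]
      have hk1 : (1 + X : ℚ⟦X⟧) ^ (k + 1) * D ^ (k + 1) = 1 := by
        rw [← mul_pow, h1, one_pow]
      have hAD : A = D ^ (k + 1) := by
        calc A = A * ((1 + X : ℚ⟦X⟧) ^ (k + 1) * D ^ (k + 1)) := by rw [hk1, mul_one]
          _ = (A * (1 + X) ^ (k + 1)) * D ^ (k + 1) := by ring
          _ = D ^ (k + 1) := by rw [h2, one_mul]
      rw [Nat.add_sub_cancel]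
      linear_combination (((k + 1 : ℕ) : ℚ⟦X⟧) * (1 + X) ^ k) * hAD +
        (((k + 1 : ℕ) : ℚ⟦X⟧) * D) * hk
  · have e1 : constantCoeff ((log ℚ).subst ((1 + X : ℚ⟦X⟧) ^ j - 1)) = 0 := by
      rw [← logOf_eq]
      exact constantCoeff_logOf (by simp)
    rw [e1, map_mul, constantCoeff_log, mul_zero]

/-- the polynomial `Σ_{n ≤ d} (-1)^n/(n+1) X^(n+1)` -/
noncomputable def logPoly (d : ℕ) : Polynomial ℚ :=
  ∑ n ∈ range (d + 1), Polynomial.C ((-1 : ℚ) ^ n / ((n : ℚ) + 1)) * Polynomial.X ^ (n + 1)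

theorem coeff_logPoly_zero (d : ℕ) : (logPoly d).coeff 0 = 0 := by
  rw [logPoly, Polynomial.finsetSum_coeff]
  refine Finset.sum_eq_zero (fun n _ => ?_)
  rw [Polynomial.coeff_C_mul_X_pow, if_neg (by omega)]

theorem coeff_logPoly_succ (d k : ℕ) (hk : k < d + 1) :
    (logPoly d).coeff (k + 1) = (-1 : ℚ) ^ k / ((k : ℚ) + 1) := by
  rw [logPoly, Polynomial.finsetSum_coeff]
  rw [Finset.sum_eq_single k]
  · rw [Polynomial.coeff_C_mul_X_pow, if_pos rfl]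
  · intro b _ hb
    rw [Polynomial.coeff_C_mul_X_pow, if_neg (by omega)]
  · intro h
    exact absurd (Finset.mem_range.mpr hk) h

theorem X_pow_dvd_log_sub (d : ℕ) :
    (X : ℚ⟦X⟧) ^ (d + 2) ∣ log ℚ - ((logPoly d : Polynomial ℚ) : ℚ⟦X⟧) := by
  rw [X_pow_dvd_iff]
  intro m hm
  rw [map_sub, Polynomial.coeff_coe, sub_eq_zero]
  rcases m with _ | k
  · rw [coeff_logPoly_zero]; simp
  · rw [coeff_logPoly_succ d k (by omega), coeff_log, if_neg (Nat.succ_ne_zero k)]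
    simp [pow_succ]

theorem coe_comp (T gp : Polynomial ℚ) (h0 : gp.coeff 0 = 0) :
    ((T.comp gp : Polynomial ℚ) : ℚ⟦X⟧) = (T : ℚ⟦X⟧).subst (gp : ℚ⟦X⟧) := by
  have hg : HasSubst (gp : ℚ⟦X⟧) :=
    HasSubst.of_constantCoeff_zero' (by
      rw [← coeff_zero_eq_constantCoeff_apply, Polynomial.coeff_coe, h0])
  rw [subst_coe hg]
  induction T using Polynomial.induction_on' with
  | add p q hp hq => rw [Polynomial.add_comp, Polynomial.coe_add, hp, hq, map_add]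
  | monomial n a =>
    rw [← Polynomial.C_mul_X_pow_eq_monomial, Polynomial.mul_comp, Polynomial.C_comp,
      Polynomial.X_pow_comp, Polynomial.coe_mul, Polynomial.coe_pow, Polynomial.coe_C, map_mul,
      map_pow, Polynomial.aeval_C, Polynomial.aeval_X]
    rfl

/-- the polynomial `(1+X)^j - 1` -/
noncomputable def powPoly (j : ℕ) : Polynomial ℚ := (1 + Polynomial.X) ^ j - 1

theorem coeff_powPoly_zero (j : ℕ) : (powPoly j).coeff 0 = 0 := by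
  rw [Polynomial.coeff_zero_eq_eval_zero, powPoly]
  simp

theorem coe_powPoly (j : ℕ) : ((powPoly j : Polynomial ℚ) : ℚ⟦X⟧) = (1 + X : ℚ⟦X⟧) ^ j - 1 := by
  rw [powPoly, Polynomial.coe_sub, Polynomial.coe_pow, Polynomial.coe_add, Polynomial.coe_one,
    Polynomial.coe_X]

theorem X_pow_dvd_comp_sub (d j : ℕ) :
    (Polynomial.X : Polynomial ℚ) ^ (d + 1) ∣
      (logPoly d).comp (powPoly j) - Polynomial.C (j : ℚ) * logPoly d := by
  rw [Polynomial.X_pow_dvd_iff]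
  intro m hm
  rw [← Polynomial.coeff_coe, Polynomial.coe_sub, Polynomial.coe_mul, Polynomial.coe_C,
    coe_comp _ _ (coeff_powPoly_zero j), coe_powPoly]
  have hg : HasSubst ((1 + X : ℚ⟦X⟧) ^ j - 1) :=
    HasSubst.of_constantCoeff_zero' (by simp)
  obtain ⟨r, hr⟩ := X_pow_dvd_log_sub d
  have hT : ((logPoly d : Polynomial ℚ) : ℚ⟦X⟧) = log ℚ - X ^ (d + 2) * r := by
    rw [← hr]; ring
  obtain ⟨g', hg'⟩ : (X : ℚ⟦X⟧) ∣ (1 + X : ℚ⟦X⟧) ^ j - 1 := by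
    rw [X_dvd_iff]; simp
  have hsub : ((logPoly d : Polynomial ℚ) : ℚ⟦X⟧).subst ((1 + X : ℚ⟦X⟧) ^ j - 1) =
      (j : ℚ⟦X⟧) * log ℚ - X ^ (d + 2) * (g' ^ (d + 2) * r.subst ((1 + X : ℚ⟦X⟧) ^ j - 1)) := by
    have hp : ((1 + X : ℚ⟦X⟧) ^ j - 1) ^ (d + 2) = X ^ (d + 2) * g' ^ (d + 2) := by
      rw [hg', mul_pow]
    rw [hT, subst_sub hg, subst_mul hg, subst_pow hg, subst_X hg, log_subst_pow, hp]
    ring
  have hjC : (C (j : ℚ) : ℚ⟦X⟧) = (j : ℚ⟦X⟧) := by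
    rw [map_natCast]
  have hdvd : (X : ℚ⟦X⟧) ^ (d + 1) ∣
      ((logPoly d : Polynomial ℚ) : ℚ⟦X⟧).subst ((1 + X : ℚ⟦X⟧) ^ j - 1) -
        C (j : ℚ) * ((logPoly d : Polynomial ℚ) : ℚ⟦X⟧) := by
    refine ⟨X * ((j : ℚ⟦X⟧) * r - g' ^ (d + 2) * r.subst ((1 + X : ℚ⟦X⟧) ^ j - 1)), ?_⟩
    rw [hsub, hT, hjC]
    ring
  exact (X_pow_dvd_iff.mp hdvd) m hm

end PS

section Ring

variable {A : Type*} [CommRing A] [Algebra ℚ A]

theorem aeval_logPoly (d : ℕ) (y : A) :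
    Polynomial.aeval y (logPoly d) =
      ∑ n ∈ range (d + 1), ((-1 : ℚ) ^ n / ((n : ℚ) + 1)) • y ^ (n + 1) := by
  rw [logPoly, map_sum]
  refine Finset.sum_congr rfl (fun n _ => ?_)
  rw [map_mul, map_pow, Polynomial.aeval_C, Polynomial.aeval_X, Algebra.smul_def]

theorem aeval_powPoly (j : ℕ) (y : A) :
    Polynomial.aeval y (powPoly j) = (1 + y) ^ j - 1 := by
  rw [powPoly, map_sub, map_pow, map_add, map_one, Polynomial.aeval_X]

/-- `log((1+y)^j) = j log(1+y)` for `y^(d+1) = 0`. -/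
theorem log_pow_nilpotent (d j : ℕ) (y : A) (hy : y ^ (d + 1) = 0) :
    (∑ n ∈ range (d + 1), ((-1 : ℚ) ^ n / ((n : ℚ) + 1)) • ((1 + y) ^ j - 1) ^ (n + 1)) =
      (j : ℚ) • ∑ n ∈ range (d + 1), ((-1 : ℚ) ^ n / ((n : ℚ) + 1)) • y ^ (n + 1) := by
  rw [← aeval_logPoly, ← aeval_logPoly, ← aeval_powPoly j y, ← Polynomial.aeval_comp]
  obtain ⟨q, hq⟩ := X_pow_dvd_comp_sub d j
  have h := congrArg (Polynomial.aeval y) hq
  rw [map_sub, map_mul, map_mul, map_pow, Polynomial.aeval_X, hy, zero_mul, Polynomial.aeval_C,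
    sub_eq_zero] at h
  rw [h, Algebra.smul_def]

end Ring

section Lam
open LambdaRing Groth.Agent.Lib.LambdaRingH1 Groth.Agent.Lib.LambdaSplitH1 Groth.Agent.Lib.LambdaGAH1

variable {K : Type u} [CommRing K] [LambdaOps K] (P : PosStructure K)

theorem sub_one_mem_filt_one {u : K} (hu : P.IsLine u) : u - 1 ∈ gammaFiltration P 1 := by
  have haug : P.aug (u - 1) = 0 := by rw [map_sub, hu.2, map_one, sub_self]
  have := gamma_mem P 1 (u - 1) haug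
  rwa [Groth.Agent.S3291.gamma_one_arg] at this

omit [LambdaOps K] in
theorem tmul_eq_smul (c : ℚ) (y : K) : c ⊗ₜ[ℤ] y = c • ((1 : ℚ) ⊗ₜ[ℤ] y) := by
  rw [TensorProduct.smul_tmul', smul_eq_mul, mul_one]

omit [LambdaOps K] in
theorem one_tmul_pow (y : K) (n : ℕ) : ((1 : ℚ) ⊗ₜ[ℤ] y) ^ n = (1 : ℚ) ⊗ₜ[ℤ] (y ^ n) := by
  rw [Algebra.TensorProduct.tmul_pow, one_pow]

/-- S8132 -/
theorem log_line_eigen (hK : HasSplitting K P) (d : ℕ)
    (hd : gammaFiltration P (d + 1) = ⊥)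
    (j : ℕ) (Ψ : ℚ ⊗[ℤ] K →ₗ[ℚ] ℚ ⊗[ℤ] K)
    (hΨ : ∀ x : K, Ψ (1 ⊗ₜ[ℤ] x) = 1 ⊗ₜ[ℤ] adams P j x)
    (u : K) (hu : P.IsLine u) :
    (∑ n ∈ range (d + 1), ((-1 : ℚ) ^ n / ((n : ℚ) + 1)) ⊗ₜ[ℤ] ((u - 1) ^ (n + 1))) ∈
        Module.End.eigenspace Ψ (j : ℚ) ∧
      (∑ n ∈ range (d + 1), ((-1 : ℚ) ^ n / ((n : ℚ) + 1)) ⊗ₜ[ℤ] ((u - 1) ^ (n + 1))) - (1 : ℚ) ⊗ₜ[ℤ] (u - 1) ∈
        Submodule.span ℚ ((fun x : K => (1 : ℚ) ⊗ₜ[ℤ] x) '' (gammaFiltration P 2 : Set K)) := by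
  have hx1 := sub_one_mem_filt_one P hu
  have hxpow : ∀ n : ℕ, (u - 1) ^ n ∈ gammaFiltration P n := by
    intro n
    have := pow_mem_filt P hx1 n
    rwa [mul_one] at this
  have hnil : (u - 1) ^ (d + 1) = 0 := by
    have := hxpow (d + 1)
    rw [hd] at this
    exact AddSubgroup.mem_bot.mp this
  set y : ℚ ⊗[ℤ] K := (1 : ℚ) ⊗ₜ[ℤ] (u - 1) with hy
  have hynil : y ^ (d + 1) = 0 := by
    rw [hy, one_tmul_pow, hnil, TensorProduct.tmul_zero]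
  have hL : (∑ n ∈ range (d + 1), ((-1 : ℚ) ^ n / ((n : ℚ) + 1)) ⊗ₜ[ℤ] ((u - 1) ^ (n + 1))) =
      ∑ n ∈ range (d + 1), ((-1 : ℚ) ^ n / ((n : ℚ) + 1)) • y ^ (n + 1) := by
    refine Finset.sum_congr rfl (fun n _ => ?_)
    rw [tmul_eq_smul, hy, one_tmul_pow]
  have hadams : ∀ n : ℕ, adams P j ((u - 1) ^ n) = (u ^ j - 1) ^ n := by
    intro n
    have := map_pow (adamsRingHom P hK j) (u - 1) n
    rw [adamsRingHom_apply, adamsRingHom_apply] at this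
    rw [this]
    have h2 := map_sub (adamsRingHom P hK j) u 1
    rw [map_one, adamsRingHom_apply, adamsRingHom_apply, adams_line P hu] at h2
    rw [h2]
  have hone : (1 : ℚ ⊗[ℤ] K) = (1 : ℚ) ⊗ₜ[ℤ] (1 : K) := Algebra.TensorProduct.one_def
  have hy1 : (1 : ℚ ⊗[ℤ] K) + y = (1 : ℚ) ⊗ₜ[ℤ] u := by
    rw [hy, hone, ← TensorProduct.tmul_add, add_sub_cancel]
  have hyj : ((1 : ℚ ⊗[ℤ] K) + y) ^ j - 1 = (1 : ℚ) ⊗ₜ[ℤ] (u ^ j - 1) := by
    rw [hy1, one_tmul_pow, hone, ← TensorProduct.tmul_sub]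
  have hΨL : Ψ (∑ n ∈ range (d + 1), ((-1 : ℚ) ^ n / ((n : ℚ) + 1)) ⊗ₜ[ℤ] ((u - 1) ^ (n + 1))) =
      ∑ n ∈ range (d + 1), ((-1 : ℚ) ^ n / ((n : ℚ) + 1)) • (((1 : ℚ ⊗[ℤ] K) + y) ^ j - 1) ^ (n + 1) := by
    rw [map_sum]
    refine Finset.sum_congr rfl (fun n _ => ?_)
    rw [tmul_eq_smul, map_smul, hΨ, hadams, hyj, one_tmul_pow]
  constructor
  · rw [Module.End.mem_eigenspace_iff, hΨL, hL]
    exact log_pow_nilpotent d j y hynil
  · rw [Finset.sum_range_succ']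
    have h0 : ((-1 : ℚ) ^ 0 / (((0 : ℕ) : ℚ) + 1)) ⊗ₜ[ℤ] ((u - 1) ^ (0 + 1)) = (1 : ℚ) ⊗ₜ[ℤ] (u - 1) := by
      simp
    rw [h0, add_sub_cancel_right]
    refine Submodule.sum_mem _ (fun n _ => ?_)
    rw [tmul_eq_smul]
    refine Submodule.smul_mem _ _ (Submodule.subset_span ⟨(u - 1) ^ (n + 1 + 1), ?_, rfl⟩)
    exact filt_mono P (by omega) (hxpow (n + 1 + 1))

end Lam

end Groth.Agent.Lib.LambdaLogH1
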