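import Mathlib
import Groth.Agent.Lib.LambdaFil3H_helper1

/-!
# Truncated operations: the ideal of operations vanishing on elements of bounded γ-dimension
(helper1).  APPEND-ONLY once landed.
-/

set_option autoImplicit false
universe u v w

open MvPolynomial Finset

namespace Groth.Agent.Lib.LambdaOpsH1

open LambdaRing Groth.Agent.Lib.LambdaUnivH1 Groth.Agent.Lib.LambdaRingH1
  Groth.Agent.Lib.LambdaAdamsH1 Groth.Agent.Lib.LambdaGAH1

section NU

variable {σ : Type} (m : σ → ℕ)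

/-- variables of the non-uniform realisation ring -/
abbrev VarV : Type v := ULift.{v} (Σ s : σ, Fin (m s))

/-- the `a`-th variable of the `s`-th family -/
def famV (s : σ) (a : Fin (m s)) : VarV.{v} m := ULift.up ⟨s, a⟩

/-- elementary symmetric polynomials of the `s`-th family -/
noncomputable def esymmV (s : σ) (k : ℕ) : MvPolynomial (VarV.{v} m) ℚ :=
  ∑ t ∈ (univ : Finset (Fin (m s))).powersetCard k, ∏ a ∈ t, X (famV.{v} m s a)

/-- the generic element with `m s` lines -/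
noncomputable def xsV (s : σ) : MvPolynomial (VarV.{v} m) ℚ :=
  ∑ a : Fin (m s), X (famV.{v} m s a)

theorem gamma_xsV (s : σ) (k : ℕ) :
    @gamma _ _ (polyLam (VarV.{v} m) 1) k (xsV.{v} m s) = esymmV.{v} m s k := by
  classical
  have hy : ∀ a ∈ (univ : Finset (Fin (m s))), ∀ j : ℕ, 2 ≤ j →
      @LambdaOps.lam _ _ (polyLam (VarV.{v} m) 1) j
        ((1 : MvPolynomial (VarV.{v} m) ℚ) + X (famV.{v} m s a)) = 0 := by
    intro a _ j hj
    have := polyLam_line (VarV.{v} m) 1 ({a} : Finset (Fin (m s)))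
      (fun a => famV.{v} m s a) j hj
    rw [Finset.prod_singleton, C_1] at this
    exact this
  have h := @gamma_sum_line_sub_one _ _ (polyLam (VarV.{v} m) 1)
    (@IsSpecial.lam_one_eq_zero _ _ (polyLam (VarV.{v} m) 1) (polyLam_special _ 1))
    (Fin (m s)) _ univ
    (fun a => (1 : MvPolynomial (VarV.{v} m) ℚ) + X (famV.{v} m s a)) hy k
  simp only [add_sub_cancel_left] at h
  exact h

theorem gamma_xsV_eq_zero (s : σ) (k : ℕ) (hk : m s < k) :
    @gamma _ _ (polyLam (VarV.{v} m) 1) k (xsV.{v} m s) = 0 := by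
  rw [gamma_xsV]
  unfold esymmV
  rw [Finset.powersetCard_eq_empty.2 (by rw [Finset.card_univ, Fintype.card_fin]; exact hk)]
  exact Finset.sum_empty

theorem evG_xsV_eq_zero_imp (G : Op σ) (hv : ∀ p ∈ G.vars, p.2 < m p.1)
    (h0 : @evG σ _ _ (polyLam (VarV.{v} m) 1) (xsV.{v} m) G = 0) : G = 0 := by
  classical
  have hev : @evG σ _ _ (polyLam (VarV.{v} m) 1) (xsV.{v} m) G =
      aeval (fun p : σ × ℕ => esymmV.{v} m p.1 (p.2 + 1)) G := by
    unfold evG
    congr 2
    funext p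
    exact gamma_xsV m p.1 (p.2 + 1)
  rw [hev] at h0
  have key : ∀ y : σ × ℕ → ℂ, aeval y G = 0 := by
    intro y
    choose r hr using fun s : σ => exists_roots (m s) (fun j => y (s, j))
    let ρ : VarV.{v} m → ℂ := fun t => r t.down.1 t.down.2
    let φ : MvPolynomial (VarV.{v} m) ℚ →+* ℂ := eval₂Hom (algebraMap ℚ ℂ) ρ
    have h1 := ringHom_aevalZ φ (fun p : σ × ℕ => esymmV.{v} m p.1 (p.2 + 1)) G
    have h1' : (aeval fun j : σ × ℕ => φ (esymmV.{v} m j.1 (j.2 + 1))) G = 0 :=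
      h1.symm.trans ((congrArg φ h0).trans (map_zero φ))
    rw [← h1', aeval_eq_eval₂Hom, aeval_eq_eval₂Hom]
    refine eval₂Hom_congr' rfl (fun p hp _ => ?_) rfl
    have hp2 := hv p hp
    have h3 : φ (esymmV.{v} m p.1 (p.2 + 1)) =
        ((univ : Finset (Fin (m p.1))).val.map (r p.1)).esymm (p.2 + 1) := by
      unfold esymmV
      rw [map_sum, Finset.esymm_map_val]
      refine Finset.sum_congr rfl fun t _ => ?_
      rw [map_prod]
      refine Finset.prod_congr rfl fun a _ => ?_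
      show eval₂Hom (algebraMap ℚ ℂ) ρ (X (famV.{v} m p.1 a)) = r p.1 a
      rw [eval₂Hom_X']
      rfl
    rw [h3, hr p.1 p.2 hp2]
  have hmap : MvPolynomial.map (Int.castRingHom ℂ) G = 0 := by
    apply MvPolynomial.funext
    intro y
    rw [eval_map, map_zero]
    have := key y
    rw [aeval_def, algebraMap_int_eq] at this
    exact this
  exact MvPolynomial.map_injective (Int.castRingHom ℂ) Int.cast_injective
    (by rw [hmap, map_zero])

end NU

section Trunc

variable {σ : Type*}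

/-- the variables `γ^(j+1)(x_{s₀})` with `j ≥ D` -/
def truncSet (s₀ : σ) (D : ℕ) : Set (σ × ℕ) := {p | p.1 = s₀ ∧ D ≤ p.2}

/-- the ideal of operations vanishing when `γ^j(x_{s₀}) = 0` for all `j > D` -/
noncomputable def truncIdeal (s₀ : σ) (D : ℕ) : Ideal (Op σ) :=
  Ideal.span ((X : σ × ℕ → Op σ) '' truncSet s₀ D)

open Classical in
/-- setting the variables of `truncSet` to zero -/
noncomputable def truncHom (s₀ : σ) (D : ℕ) : Op σ →ₐ[ℤ] Op σ :=
  aeval (fun p : σ × ℕ => if p ∈ truncSet s₀ D then (0 : Op σ) else X p)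

theorem X_mem_truncIdeal (s₀ : σ) (D : ℕ) {j : ℕ} (hj : D ≤ j) :
    (X (s₀, j) : Op σ) ∈ truncIdeal s₀ D :=
  Ideal.subset_span ⟨(s₀, j), ⟨rfl, hj⟩, rfl⟩

theorem truncIdeal_anti (s₀ : σ) {D D' : ℕ} (h : D ≤ D') :
    truncIdeal s₀ D' ≤ truncIdeal s₀ D := by
  apply Ideal.span_mono
  rintro _ ⟨p, ⟨hp1, hp2⟩, rfl⟩
  exact ⟨p, ⟨hp1, le_trans h hp2⟩, rfl⟩

theorem sub_truncHom_mem (s₀ : σ) (D : ℕ) (G : Op σ) :
    G - truncHom s₀ D G ∈ truncIdeal s₀ D := by
  classical
  induction G using MvPolynomial.induction_on with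
  | C a =>
    have : truncHom s₀ D (C a) = C a := by
      unfold truncHom
      rw [aeval_C, MvPolynomial.algebraMap_eq]
    rw [this, sub_self]
    exact Ideal.zero_mem _
  | add p q hp hq =>
    rw [map_add]
    have e : p + q - (truncHom s₀ D p + truncHom s₀ D q) =
        (p - truncHom s₀ D p) + (q - truncHom s₀ D q) := by ring
    rw [e]
    exact Ideal.add_mem _ hp hq
  | mul_X p v hp =>
    rw [map_mul]
    have e : p * X v - truncHom s₀ D p * truncHom s₀ D (X v) =
        (p - truncHom s₀ D p) * X v + truncHom s₀ D p * (X v - truncHom s₀ D (X v)) := by ring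
    rw [e]
    refine Ideal.add_mem _ (Ideal.mul_mem_right _ _ hp) (Ideal.mul_mem_left _ _ ?_)
    unfold truncHom
    rw [aeval_X]
    split_ifs with h
    · rw [sub_zero]
      exact Ideal.subset_span ⟨v, h, rfl⟩
    · rw [sub_self]
      exact Ideal.zero_mem _

theorem vars_truncHom (s₀ : σ) (D : ℕ) (G : Op σ) {p : σ × ℕ}
    (hp : p ∈ (truncHom s₀ D G).vars) : p ∈ G.vars ∧ p ∉ truncSet s₀ D := by
  classical
  unfold truncHom at hp
  have h := MvPolynomial.vars_bind₁ _ G hp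
  rw [Finset.mem_biUnion] at h
  obtain ⟨q, hq, hpq⟩ := h
  split_ifs at hpq with hq2
  · rw [vars_0] at hpq
    exact absurd hpq (Finset.notMem_empty _)
  · rw [vars_X, Finset.mem_singleton] at hpq
    subst hpq
    exact ⟨hq, hq2⟩

variable {A : Type v} [CommRing A] [LambdaOps A]

theorem evG_eq_zero_of_mem_truncIdeal (s₀ : σ) (D : ℕ) (x : σ → A)
    (hx : ∀ j, D ≤ j → gamma (j + 1) (x s₀) = 0) {G : Op σ} (hG : G ∈ truncIdeal s₀ D) :
    evG x G = 0 := by
  unfold truncIdeal at hG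
  induction hG using Submodule.span_induction with
  | mem y hy =>
    obtain ⟨p, ⟨hp1, hp2⟩, rfl⟩ := hy
    rw [evG_X, hp1]
    exact hx p.2 hp2
  | zero => exact map_zero _
  | add y z _ _ hy hz => rw [map_add, hy, hz, add_zero]
  | smul c y _ hy => rw [smul_eq_mul, map_mul, hy, mul_zero]

theorem evG_truncHom (s₀ : σ) (D : ℕ) (x : σ → A)
    (hx : ∀ j, D ≤ j → gamma (j + 1) (x s₀) = 0) (G : Op σ) :
    evG x (truncHom s₀ D G) = evG x G := by
  have h := evG_eq_zero_of_mem_truncIdeal s₀ D x hx (sub_truncHom_mem s₀ D G)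
  rw [map_sub, sub_eq_zero] at h
  exact h.symm

theorem evG_mem_span_of_mem_truncIdeal (s₀ : σ) (d : ℕ) (hd : 1 ≤ d) (x : σ → A)
    (hx : ∀ j, d ≤ j → gamma (j + 1) (x s₀) = 0) {G : Op σ}
    (hG : G ∈ truncIdeal s₀ (d - 1)) :
    evG x G ∈ Ideal.span {gamma d (x s₀)} := by
  unfold truncIdeal at hG
  induction hG using Submodule.span_induction with
  | mem y hy =>
    obtain ⟨p, ⟨hp1, hp2⟩, rfl⟩ := hy
    rw [evG_X, hp1]
    rcases Nat.eq_or_lt_of_le hp2 with h | h
    · have e : p.2 + 1 = d := by omega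
      rw [e]
      exact Ideal.subset_span rfl
    · rw [hx p.2 (by omega)]
      exact Ideal.zero_mem _
  | zero =>
    rw [map_zero]
    exact Ideal.zero_mem _
  | add y z _ _ hy hz =>
    rw [map_add]
    exact Ideal.add_mem _ hy hz
  | smul c y _ hy =>
    rw [smul_eq_mul, map_mul]
    exact Ideal.mul_mem_left _ _ hy

/-- splitting off the variable `γ^d(x_{s₀})` with control of weights -/
theorem split_trunc (G : Op σ) (s₀ : σ) (d : ℕ) (hd : 1 ≤ d) (w : ℕ)
    (hG1 : G ∈ truncIdeal s₀ (d - 1)) (hG2 : G ∈ wtIdeal ℤ (wγ (σ := σ)) w) :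
    ∃ H ∈ wtIdeal ℤ (wγ (σ := σ)) (w - d), G - X (s₀, d - 1) * H ∈ truncIdeal s₀ d := by
  classical
  obtain ⟨p₀, hp₀⟩ : ∃ p₀ : σ × ℕ, p₀ = (s₀, d - 1) := ⟨_, rfl⟩
  rw [← hp₀]
  have hsplit : ∀ n : σ × ℕ →₀ ℕ, n p₀ ≠ 0 → n = Finsupp.single p₀ 1 + (n - Finsupp.single p₀ 1) := by
    intro n hn
    ext a
    rw [Finsupp.add_apply, Finsupp.tsub_apply, Finsupp.single_apply]
    split_ifs with h
    · subst h
      omega
    · omega
  refine ⟨∑ n ∈ G.support.filter (fun n => n p₀ ≠ 0),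
    monomial (n - Finsupp.single p₀ 1) (coeff n G), ?_, ?_⟩
  · refine Ideal.sum_mem _ fun n hn => ?_
    rw [Finset.mem_filter] at hn
    refine wtIdeal_anti (wγ (σ := σ)) ?_ (monomial_mem_wtIdeal (wγ (σ := σ)) _ _)
    have h1 := hG2 n hn.1
    have h2 := congrArg (Finsupp.weight (wγ (σ := σ))) (hsplit n hn.2)
    rw [map_add, Finsupp.weight_single, one_smul] at h2
    have h3 : wγ p₀ = d := by
      rw [hp₀]
      show d - 1 + 1 = d
      omega
    rw [h3] at h2
    omega
  · have hG : G = ∑ n ∈ G.support.filter (fun n => n p₀ ≠ 0), monomial n (coeff n G) +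
        ∑ n ∈ G.support.filter (fun n => ¬ n p₀ ≠ 0), monomial n (coeff n G) := by
      rw [Finset.sum_filter_add_sum_filter_not]
      exact G.as_sum
    have hXH : X p₀ * ∑ n ∈ G.support.filter (fun n => n p₀ ≠ 0),
        monomial (n - Finsupp.single p₀ 1) (coeff n G) =
        ∑ n ∈ G.support.filter (fun n => n p₀ ≠ 0), monomial n (coeff n G) := by
      rw [Finset.mul_sum]
      refine Finset.sum_congr rfl fun n hn => ?_
      rw [Finset.mem_filter] at hn
      rw [X, monomial_mul, one_mul, ← hsplit n hn.2]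
    rw [hXH]
    have e : G - ∑ n ∈ G.support.filter (fun n => n p₀ ≠ 0), monomial n (coeff n G) =
        ∑ n ∈ G.support.filter (fun n => ¬ n p₀ ≠ 0), monomial n (coeff n G) :=
      sub_eq_of_eq_add' hG
    rw [e]
    refine Ideal.sum_mem _ fun n hn => ?_
    rw [Finset.mem_filter, not_not] at hn
    unfold truncIdeal at hG1 ⊢
    rw [mem_ideal_span_X_image] at hG1 ⊢
    intro n' hn'
    have hnn : n' = n := Finset.mem_singleton.1 (MvPolynomial.support_monomial_subset hn')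
    rw [hnn]
    obtain ⟨q, ⟨hq1, hq2⟩, hq3⟩ := hG1 n hn.1
    refine ⟨q, ⟨hq1, ?_⟩, hq3⟩
    rcases Nat.eq_or_lt_of_le hq2 with h | h
    · exfalso
      apply hq3
      have : q = p₀ := by
        rw [hp₀]
        exact Prod.ext hq1 h.symm
      rw [this]
      exact hn.2
    · omega

end Trunc

section TruncMain

variable {σ : Type}

/-- an operation vanishing on all tuples whose `s₀`-th entry has γ-dimension `≤ D` lies in the
truncation ideal -/
theorem mem_truncIdeal_of_vanish (G : Op σ) (s₀ : σ) (D : ℕ)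
    (h : ∀ (A : Type v) [CommRing A] [LambdaOps A], IsSpecial A → ∀ x : σ → A,
      (∀ j, D ≤ j → gamma (j + 1) (x s₀) = 0) → evG x G = 0) :
    G ∈ truncIdeal s₀ D := by
  classical
  suffices h0 : truncHom s₀ D G = 0 by
    have := sub_truncHom_mem s₀ D G
    rw [h0, sub_zero] at this
    exact this
  obtain ⟨M, hM⟩ : ∃ M : ℕ, ∀ p ∈ (truncHom s₀ D G).vars, p.2 < M :=
    ⟨(truncHom s₀ D G).vars.sup Prod.snd + 1, fun p hp =>
      Nat.lt_succ_of_le (Finset.le_sup (f := Prod.snd) hp)⟩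
  obtain ⟨m, hm⟩ : ∃ m : σ → ℕ, m = fun s => if s = s₀ then D else M := ⟨_, rfl⟩
  have hm0 : m s₀ = D := by rw [hm]; exact if_pos rfl
  apply evG_xsV_eq_zero_imp.{v} m
  · intro p hp
    have h2 := (vars_truncHom s₀ D G hp).2
    by_cases hps : p.1 = s₀
    · rw [hps, hm0]
      by_contra hlt
      exact h2 ⟨hps, by omega⟩
    · have : m p.1 = M := by rw [hm]; exact if_neg hps
      rw [this]
      exact hM p hp
  · have hx : ∀ j, D ≤ j →
        @gamma _ _ (polyLam (VarV.{v} m) 1) (j + 1) (xsV.{v} m s₀) = 0 := by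
      intro j hj
      exact gamma_xsV_eq_zero m s₀ (j + 1) (by rw [hm0]; omega)
    have h1 := @evG_truncHom σ (MvPolynomial (VarV.{v} m) ℚ) _ (polyLam (VarV.{v} m) 1) s₀ D
      (xsV.{v} m) hx G
    rw [h1]
    exact @h (MvPolynomial (VarV.{v} m) ℚ) _ (polyLam (VarV.{v} m) 1)
      (polyLam_special _ 1) (xsV.{v} m) hx

/-- the truncation ideal is stable under the operations `γ^i`, `i ≥ 1` -/
theorem gammaOp_mem_truncIdeal (F G : Op σ) (s₀ : σ) (D : ℕ) (hF : F ∈ truncIdeal s₀ D) (i : ℕ)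
    (hi : 1 ≤ i)
    (hG : ∀ (A : Type v) [CommRing A] [LambdaOps A], IsSpecial A → ∀ x : σ → A,
      gamma i (evG x F) = evG x G) :
    G ∈ truncIdeal s₀ D := by
  apply mem_truncIdeal_of_vanish.{v}
  intro A _ _ hA x hx
  rw [← hG A hA x, evG_eq_zero_of_mem_truncIdeal s₀ D x hx hF, gamma_zero_arg hi]

end TruncMain

section RankD

variable {K : Type u} [CommRing K] [LambdaOps K]

omit [LambdaOps K] in
theorem coeff_one_sub_X_pow (m : ℕ) :
    (∀ n, m < n → PowerSeries.coeff n ((1 - PowerSeries.X : PowerSeries K) ^ m) = 0) ∧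
      PowerSeries.coeff m ((1 - PowerSeries.X : PowerSeries K) ^ m) = (-1) ^ m := by
  induction m with
  | zero =>
    refine ⟨fun n hn => ?_, ?_⟩
    · rw [pow_zero, PowerSeries.coeff_one, if_neg (by omega)]
    · rw [pow_zero, pow_zero, PowerSeries.coeff_one, if_pos rfl]
  | succ m ih =>
    have e : (1 - PowerSeries.X : PowerSeries K) ^ (m + 1) =
        (1 - PowerSeries.X) ^ m - (1 - PowerSeries.X) ^ m * PowerSeries.X := by
      rw [pow_succ]
      ring
    refine ⟨fun n hn => ?_, ?_⟩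
    · obtain ⟨n', rfl⟩ : ∃ n', n = n' + 1 := ⟨n - 1, by omega⟩
      rw [e, map_sub, PowerSeries.coeff_succ_mul_X, ih.1 (n' + 1) (by omega), ih.1 n' (by omega),
        sub_zero]
    · rw [e, map_sub, PowerSeries.coeff_succ_mul_X, ih.1 (m + 1) (by omega), ih.2, pow_succ]
      ring

theorem gammaSeries_one (h1 : ∀ k : ℕ, 2 ≤ k → LambdaOps.lam k (1 : K) = 0) :
    gammaSeries (1 : K) = PowerSeries.mk 1 := by
  rw [gammaSeries_of_line h1, map_one, one_mul, one_add_tOverOneSub]

theorem gammaSeries_natCast (h1 : ∀ k : ℕ, 2 ≤ k → LambdaOps.lam k (1 : K) = 0) (d : ℕ) :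
    gammaSeries ((d : ℕ) : K) = PowerSeries.mk 1 ^ d := by
  induction d with
  | zero => rw [Nat.cast_zero, gammaSeries_zero, pow_zero]
  | succ d ih => rw [Nat.cast_succ, gammaSeries_add, ih, gammaSeries_one h1, pow_succ]

theorem gammaSeries_sub_natCast (h1 : ∀ k : ℕ, 2 ≤ k → LambdaOps.lam k (1 : K) = 0) (N : K)
    (d : ℕ) :
    gammaSeries (N - (d : K)) = gammaSeries N * (1 - PowerSeries.X) ^ d := by
  have h2 : gammaSeries (N - (d : K)) * PowerSeries.mk 1 ^ d = gammaSeries N := by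
    rw [← gammaSeries_natCast h1, ← gammaSeries_add, sub_add_cancel]
  have h3 : (PowerSeries.mk 1 : PowerSeries K) ^ d * (1 - PowerSeries.X) ^ d = 1 := by
    rw [← mul_pow, PowerSeries.mk_one_mul_one_sub_eq_one, one_pow]
  rw [← h2, mul_assoc, h3, mul_one]

theorem tOverOneSub_mul : tOverOneSub K * (1 - PowerSeries.X) = PowerSeries.X := by
  rw [tOverOneSub, mul_assoc, PowerSeries.mk_one_mul_one_sub_eq_one, mul_one]

theorem gammaSeries_of_rank (N : K) (d : ℕ) (hN : ∀ i : ℕ, d < i → LambdaOps.lam i N = 0) :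
    gammaSeries N = ∑ i ∈ range (d + 1), PowerSeries.C (LambdaOps.lam i N) * tOverOneSub K ^ i := by
  have hl : lamSeries N =
      ∑ i ∈ range (d + 1), PowerSeries.C (LambdaOps.lam i N) * PowerSeries.X ^ i := by
    ext k
    rw [coeff_lamSeries, map_sum]
    simp only [PowerSeries.coeff_C_mul_X_pow]
    by_cases hk : k < d + 1
    · rw [Finset.sum_eq_single k]
      · rw [if_pos rfl]
      · intro b _ hb
        rw [if_neg (fun h => hb h.symm)]
      · intro h
        exact absurd (Finset.mem_range.2 hk) h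
    · rw [hN k (by omega)]
      symm
      apply Finset.sum_eq_zero
      intro b hb
      rw [Finset.mem_range] at hb
      rw [if_neg (by omega)]
  rw [gammaSeries_eq_subst, hl, ← PowerSeries.coe_substAlgHom hasSubst_tOverOneSub, map_sum]
  refine Finset.sum_congr rfl fun i _ => ?_
  rw [map_mul, map_pow, PowerSeries.coe_substAlgHom hasSubst_tOverOneSub,
    PowerSeries.subst_X hasSubst_tOverOneSub]
  congr 1
  exact PowerSeries.subst_C _

theorem gammaSeries_rank_sub (h1 : ∀ k : ℕ, 2 ≤ k → LambdaOps.lam k (1 : K) = 0) (N : K) (d : ℕ)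
    (hN : ∀ i : ℕ, d < i → LambdaOps.lam i N = 0) :
    gammaSeries (N - (d : K)) = ∑ i ∈ range (d + 1),
      PowerSeries.C (LambdaOps.lam i N) * (PowerSeries.X ^ i * (1 - PowerSeries.X) ^ (d - i)) := by
  rw [gammaSeries_sub_natCast h1, gammaSeries_of_rank N d hN, Finset.sum_mul]
  refine Finset.sum_congr rfl fun i hi => ?_
  rw [Finset.mem_range] at hi
  have hτ : tOverOneSub K ^ i * (1 - PowerSeries.X) ^ i = PowerSeries.X ^ i := by
    rw [← mul_pow, tOverOneSub_mul]
  have e' : (1 - PowerSeries.X : PowerSeries K) ^ d =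
      (1 - PowerSeries.X) ^ i * (1 - PowerSeries.X) ^ (d - i) := by
    rw [← pow_add]
    congr 1
    omega
  rw [e', ← hτ]
  ring

theorem gamma_rank_sub_eq_zero (h1 : ∀ k : ℕ, 2 ≤ k → LambdaOps.lam k (1 : K) = 0) (N : K) (d : ℕ)
    (hN : ∀ i : ℕ, d < i → LambdaOps.lam i N = 0) (k : ℕ) (hk : d < k) :
    gamma k (N - (d : K)) = 0 := by
  rw [← coeff_gammaSeries, gammaSeries_rank_sub h1 N d hN, map_sum]
  apply Finset.sum_eq_zero
  intro i hi
  rw [Finset.mem_range] at hi
  rw [PowerSeries.coeff_C_mul, PowerSeries.coeff_X_pow_mul', if_pos (by omega),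
    (coeff_one_sub_X_pow (d - i)).1 (k - i) (by omega), mul_zero]

theorem gamma_rank_sub_top (h1 : ∀ k : ℕ, 2 ≤ k → LambdaOps.lam k (1 : K) = 0) (N : K) (d : ℕ)
    (hN : ∀ i : ℕ, d < i → LambdaOps.lam i N = 0) :
    gamma d (N - (d : K)) =
      (-1) ^ d * ∑ i ∈ range (d + 1), (-1 : K) ^ i * LambdaOps.lam i N := by
  rw [← coeff_gammaSeries, gammaSeries_rank_sub h1 N d hN, map_sum, Finset.mul_sum]
  refine Finset.sum_congr rfl fun i hi => ?_
  rw [Finset.mem_range] at hi
  rw [PowerSeries.coeff_C_mul, PowerSeries.coeff_X_pow_mul', if_pos (by omega),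
    (coeff_one_sub_X_pow (d - i)).2]
  have e : (-1 : K) ^ d = (-1) ^ (d - i) * (-1) ^ i := by
    rw [← pow_add]
    congr 1
    omega
  have e2 : (-1 : K) ^ i * (-1) ^ i = 1 := by
    rw [← mul_pow]
    simp
  rw [e]
  linear_combination (-(LambdaOps.lam i N * (-1 : K) ^ (d - i))) * e2

/-- the ideal generated by `γ^d(N₀)` is stable under all `γ^i`, `i ≥ 1`, when `γ^j(N₀) = 0` for
`j > d` -/
theorem gamma_mul_top_mem (hK : IsSpecial K) (d : ℕ) (hd : 1 ≤ d) (N₀ : K)
    (hN₀ : ∀ j, d ≤ j → gamma (j + 1) N₀ = 0) (x : K) (i : ℕ) (hi : 1 ≤ i) :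
    gamma i (x * gamma d N₀) ∈ Ideal.span {gamma d N₀} := by
  obtain ⟨F, hF⟩ : ∃ F : Op Bool, F = X (false, 0) * X (true, d - 1) := ⟨_, rfl⟩
  have hFt : F ∈ truncIdeal true (d - 1) := by
    rw [hF]
    exact Ideal.mul_mem_left _ _ (X_mem_truncIdeal true (d - 1) le_rfl)
  obtain ⟨G, hG⟩ := exists_gammaOp.{0, u} F i
  have hGt : G ∈ truncIdeal true (d - 1) := gammaOp_mem_truncIdeal.{u} F G true (d - 1) hFt i hi hG
  have h1 := hG K hK (fun b : Bool => cond b N₀ x)
  have h2 : evG (fun b : Bool => cond b N₀ x) F = x * gamma d N₀ := by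
    rw [hF, map_mul, evG_X, evG_X]
    simp only [cond_false, cond_true, zero_add]
    rw [gamma_one]
    have e : d - 1 + 1 = d := by omega
    rw [e]
  rw [h2] at h1
  rw [h1]
  exact evG_mem_span_of_mem_truncIdeal true d hd (fun b : Bool => cond b N₀ x) hN₀ hGt

theorem lam_mem_of_gamma_mem (I : Ideal K) (z : K) (h : ∀ i, 1 ≤ i → gamma i z ∈ I) :
    ∀ p, 1 ≤ p → LambdaOps.lam p z ∈ I := by
  intro p
  induction p using Nat.strong_induction_on with
  | _ p ih =>
    intro hp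
    obtain ⟨k, rfl⟩ : ∃ k, p = k + 1 := ⟨p - 1, by omega⟩
    have h1 := h (k + 1) hp
    rw [gamma_succ, Finset.sum_range_succ, Nat.choose_self, Nat.cast_one, one_mul] at h1
    have h2 : ∑ j ∈ range k, (k.choose j : K) * LambdaOps.lam (j + 1) z ∈ I := by
      refine Ideal.sum_mem _ fun j hj => ?_
      rw [Finset.mem_range] at hj
      exact Ideal.mul_mem_left _ _ (ih (j + 1) (by omega) (by omega))
    have := Ideal.sub_mem _ h1 h2
    rwa [add_sub_cancel_left] at this

/-- `λ_{-1}(N)` divides `λ^p(x λ_{-1}(N))` for `N` of rank `≤ d` -/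
theorem lamNegOne_dvd (hK : IsSpecial K) (d : ℕ) (N : K)
    (hN : ∀ i : ℕ, d < i → LambdaOps.lam i N = 0) (p : ℕ) (hp : 1 ≤ p) (x : K) :
    (∑ i ∈ range (d + 1), (-1 : K) ^ i * LambdaOps.lam i N) ∣
      LambdaOps.lam p (x * ∑ i ∈ range (d + 1), (-1 : K) ^ i * LambdaOps.lam i N) := by
  rcases Nat.eq_zero_or_pos d with rfl | hd
  · have : (∑ i ∈ range (0 + 1), (-1 : K) ^ i * LambdaOps.lam i N) = 1 := by
      simp [LambdaOps.lam_zero]
    rw [this]
    exact one_dvd _
  · obtain ⟨u, hu⟩ : ∃ u : K, u = ∑ i ∈ range (d + 1), (-1 : K) ^ i * LambdaOps.lam i N :=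
      ⟨_, rfl⟩
    rw [← hu]
    have hv := gamma_rank_sub_top hK.lam_one_eq_zero N d hN
    rw [← hu] at hv
    have e2 : (-1 : K) ^ d * (-1) ^ d = 1 := by
      rw [← mul_pow]
      simp
    have hu2 : u = (-1) ^ d * gamma d (N - (d : K)) := by
      rw [hv, ← mul_assoc, e2, one_mul]
    have hmem : ∀ i, 1 ≤ i → gamma i (x * u) ∈ Ideal.span {gamma d (N - (d : K))} := by
      intro i hi
      have e : x * u = (x * (-1) ^ d) * gamma d (N - (d : K)) := by
        rw [hu2]
        ring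
      rw [e]
      exact gamma_mul_top_mem hK d hd _
        (fun j hj => gamma_rank_sub_eq_zero hK.lam_one_eq_zero N d hN (j + 1) (by omega)) _ i hi
    have h3 := lam_mem_of_gamma_mem _ (x * u) hmem p hp
    rw [Ideal.mem_span_singleton] at h3
    exact dvd_trans (Dvd.intro_left ((-1) ^ d) hv.symm) h3

end RankD

end Groth.Agent.Lib.LambdaOpsH1
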