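import Mathlib
import Groth.Agent.Lib.LambdaTruncH_helper1

/-!
# The quotient `γ^p(x λ_{-1}(N)) / λ_{-1}(N)` and the γ-filtration (helper1).
APPEND-ONLY once landed.
-/

set_option autoImplicit false
universe u v w

open MvPolynomial Finset

namespace Groth.Agent.Lib.LambdaOpsH1

open LambdaRing Groth.Agent.Lib.LambdaUnivH1 Groth.Agent.Lib.LambdaRingH1
  Groth.Agent.Lib.LambdaAdamsH1 Groth.Agent.Lib.LambdaGAH1

section Abstract

variable {K : Type u} [CommRing K] [BinomialRing K] {A : Type v} [CommRing A] [LambdaOps A]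
  [Algebra K A]

/-- leading term of `γ^m` on the additive closure of scalar multiples of a set on which it is
known, for an abstract filtration -/
theorem gamma_leading_closure (hA : IsSpecial A)
    (hlam : ∀ (n : ℕ) (c : K),
      algebraMap K A (Ring.choose c n) = LambdaOps.lam n (algebraMap K A c))
    {J : ℕ → Ideal A} (hJ : IsFilt J) {m : ℕ} (hm : 1 ≤ m) (κ : A) (T₁ : Set A)
    (hT1 : ∀ t ∈ T₁, ∀ j, 1 ≤ j → gamma j t ∈ J (max j m))
    (hT2 : ∀ t ∈ T₁, gamma m t - κ * t ∈ J (m + 1))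
    {z : A} (hz : z ∈ AddSubgroup.closure
      {t : A | ∃ (c : K) (y : A), y ∈ T₁ ∧ t = algebraMap K A c * y}) :
    gamma m z - κ * z ∈ J (m + 1) := by
  have hP : ∀ z' ∈ AddSubgroup.closure
      {t : A | ∃ (c : K) (y : A), y ∈ T₁ ∧ t = algebraMap K A c * y},
      ∀ j, 1 ≤ j → gamma j z' ∈ J (max j m) := by
    intro z' hz'
    refine gamma_closure_mem hJ m _ ?_ hz'
    rintro t ⟨c, y, hy, rfl⟩
    exact gamma_scalar_mem hA hlam hJ m y (hT1 y hy) c
  induction hz using AddSubgroup.closure_induction with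
  | mem z hz =>
    obtain ⟨c, y, hy, rfl⟩ := hz
    have hu0 := constantCoeff_gammaSeries_sub_one y
    have hcoeff : ∀ j, 1 ≤ j → PowerSeries.coeff j (gammaSeries y - 1) = gamma j y := by
      intro j hj
      rw [map_sub, coeff_gammaSeries, PowerSeries.coeff_one, if_neg (by omega), sub_zero]
    have hyj : ∀ j, 1 ≤ j → PowerSeries.coeff j (gammaSeries y - 1) ∈ J (max j m) := by
      intro j hj
      rw [hcoeff j hj]
      exact hT1 y hy j hj
    have hy_lead := hT2 y hy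
    obtain ⟨m', rfl⟩ : ∃ m', m = m' + 1 := ⟨m - 1, by omega⟩
    rw [gamma_scalar hA hlam, Finset.sum_range_succ', Finset.sum_range_succ']
    have hf0 : Ring.choose c 0 •
        PowerSeries.coeff (m' + 1) ((gammaSeries y - 1) ^ 0) = 0 := by
      rw [pow_zero, PowerSeries.coeff_one, if_neg (by omega), smul_zero]
    have hf1 : Ring.choose c (0 + 1) •
        PowerSeries.coeff (m' + 1) ((gammaSeries y - 1) ^ (0 + 1)) =
        algebraMap K A c * gamma (m' + 1) y := by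
      rw [zero_add, pow_one, Ring.choose_one_right, hcoeff _ (by omega), Algebra.smul_def]
    rw [hf0, hf1, add_zero]
    have hrest : ∑ k ∈ range m', Ring.choose c (k + 1 + 1) •
        PowerSeries.coeff (m' + 1) ((gammaSeries y - 1) ^ (k + 1 + 1)) ∈ J (m' + 1 + 1) := by
      refine Ideal.sum_mem _ fun k _ => ?_
      rw [Algebra.smul_def]
      apply Ideal.mul_mem_left
      rw [pow_succ, PowerSeries.coeff_mul]
      refine Ideal.sum_mem _ fun ab hab => ?_
      rw [Finset.HasAntidiagonal.mem_antidiagonal] at hab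
      rcases Nat.eq_zero_or_pos ab.2 with hb | hb
      · rw [hb, PowerSeries.coeff_zero_eq_constantCoeff_apply, hu0, mul_zero]
        exact Ideal.zero_mem _
      rcases Nat.eq_zero_or_pos ab.1 with ha | ha
      · rw [ha, coeff_pow_eq_zero_of_lt _ hu0 (by omega), zero_mul]
        exact Ideal.zero_mem _
      have h1 := coeff_pow_mem_filt hJ (m' + 1) _
        (by rw [PowerSeries.coeff_zero_eq_constantCoeff_apply]; exact hu0) hyj (k + 1)
        (by omega) ab.1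
      have h2 := hJ.mul _ _ _ _ h1 (hyj ab.2 hb)
      refine hJ.anti _ _ ?_ h2
      have a1 : m' + 1 ≤ max ab.1 (m' + 1) := le_max_right _ _
      have a2 : m' + 1 ≤ max ab.2 (m' + 1) := le_max_right _ _
      omega
    have e : ∑ k ∈ range m', Ring.choose c (k + 1 + 1) •
          PowerSeries.coeff (m' + 1) ((gammaSeries y - 1) ^ (k + 1 + 1)) +
          algebraMap K A c * gamma (m' + 1) y - κ * (algebraMap K A c * y) =
        ∑ k ∈ range m', Ring.choose c (k + 1 + 1) •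
          PowerSeries.coeff (m' + 1) ((gammaSeries y - 1) ^ (k + 1 + 1)) +
          algebraMap K A c * (gamma (m' + 1) y - κ * y) := by
      ring
    rw [e]
    exact Ideal.add_mem _ hrest (Ideal.mul_mem_left _ _ hy_lead)
  | zero =>
    rw [gamma_zero_arg hm, mul_zero, sub_zero]
    exact Ideal.zero_mem _
  | add a b hamem hbmem ha hb =>
    have h1a := hP a hamem
    have h1b := hP b hbmem
    obtain ⟨m', rfl⟩ : ∃ m', m = m' + 1 := ⟨m - 1, by omega⟩
    rw [gamma_add, Finset.sum_range_succ, Finset.sum_range_succ', gamma_zero_left, one_mul,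
      Nat.sub_zero, Nat.sub_self, gamma_zero_left, mul_one]
    have hcross : ∑ j ∈ range m', gamma (j + 1) a * gamma (m' + 1 - (j + 1)) b ∈
        J (m' + 1 + 1) := by
      refine Ideal.sum_mem _ fun j hj => ?_
      rw [Finset.mem_range] at hj
      have h1 := h1a (j + 1) (by omega)
      have h2 := h1b (m' + 1 - (j + 1)) (by omega)
      refine hJ.anti _ _ ?_ (hJ.mul _ _ _ _ h1 h2)
      have a1 : m' + 1 ≤ max (j + 1) (m' + 1) := le_max_right _ _
      have a2 : m' + 1 ≤ max (m' + 1 - (j + 1)) (m' + 1) := le_max_right _ _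
      omega
    have e : ∑ j ∈ range m', gamma (j + 1) a * gamma (m' + 1 - (j + 1)) b +
          gamma (m' + 1) b + gamma (m' + 1) a - κ * (a + b) =
        ∑ j ∈ range m', gamma (j + 1) a * gamma (m' + 1 - (j + 1)) b +
          (gamma (m' + 1) a - κ * a) + (gamma (m' + 1) b - κ * b) := by
      ring
    rw [e]
    exact Ideal.add_mem _ (Ideal.add_mem _ hcross ha) hb
  | neg a hamem ha =>
    have h1a := hP a hamem
    have h1b := hP (-a) (AddSubgroup.neg_mem _ hamem)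
    obtain ⟨m', rfl⟩ : ∃ m', m = m' + 1 := ⟨m - 1, by omega⟩
    have h0 := gamma_add (m' + 1) a (-a)
    rw [add_neg_cancel, gamma_zero_arg hm, Finset.sum_range_succ, Finset.sum_range_succ',
      gamma_zero_left, one_mul, Nat.sub_zero, Nat.sub_self, gamma_zero_left, mul_one] at h0
    have hcross : ∑ j ∈ range m', gamma (j + 1) a * gamma (m' + 1 - (j + 1)) (-a) ∈
        J (m' + 1 + 1) := by
      refine Ideal.sum_mem _ fun j hj => ?_
      rw [Finset.mem_range] at hj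
      have h1 := h1a (j + 1) (by omega)
      have h2 := h1b (m' + 1 - (j + 1)) (by omega)
      refine hJ.anti _ _ ?_ (hJ.mul _ _ _ _ h1 h2)
      have a1 : m' + 1 ≤ max (j + 1) (m' + 1) := le_max_right _ _
      have a2 : m' + 1 ≤ max (m' + 1 - (j + 1)) (m' + 1) := le_max_right _ _
      omega
    have e : gamma (m' + 1) (-a) - κ * (-a) =
        -(∑ j ∈ range m', gamma (j + 1) a * gamma (m' + 1 - (j + 1)) (-a)) -
          (gamma (m' + 1) a - κ * a) := by
      linear_combination (-1 : A) * h0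
    rw [e]
    exact Ideal.sub_mem _ (Submodule.neg_mem _ hcross) ha

end Abstract

section VFil

variable {K : Type u} [CommRing K] {A : Type v} [CommRing A] [LambdaOps A] (ε : A →+* K)

/-- the filtration `v · Fil^(k-d)`, all of `A` for `k = 0` -/
noncomputable def vFil (v : A) (d : ℕ) (k : ℕ) : Ideal A :=
  if k = 0 then ⊤ else Ideal.span {v} * gammaFil ε (k - d)

theorem vFil_of_pos (v : A) (d : ℕ) {k : ℕ} (hk : 1 ≤ k) :
    vFil ε v d k = Ideal.span {v} * gammaFil ε (k - d) := if_neg (by omega)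

theorem isFilt_vFil (v : A) (d : ℕ) (hv : v ∈ gammaFil ε d) : IsFilt (vFil ε v d) where
  zero := if_pos rfl
  mul := by
    intro a b x y hx hy
    rcases Nat.eq_zero_or_pos a with rfl | ha
    · rw [zero_add]
      exact Ideal.mul_mem_left _ _ hy
    rcases Nat.eq_zero_or_pos b with rfl | hb
    · rw [add_zero]
      exact Ideal.mul_mem_right _ _ hx
    rw [vFil_of_pos ε v d ha] at hx
    rw [vFil_of_pos ε v d hb] at hy
    rw [vFil_of_pos ε v d (by omega : 1 ≤ a + b)]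
    obtain ⟨x', hx', rfl⟩ := Ideal.mem_span_singleton_mul.1 hx
    obtain ⟨y', hy', rfl⟩ := Ideal.mem_span_singleton_mul.1 hy
    refine Ideal.mem_span_singleton_mul.2 ⟨x' * (v * y'), ?_, by ring⟩
    refine gammaFil_anti ε ?_ (gammaFil_mul ε hx' (gammaFil_mul ε hv hy'))
    omega
  anti := by
    intro a b hab
    rcases Nat.eq_zero_or_pos a with rfl | ha
    · rw [show vFil ε v d 0 = ⊤ from if_pos rfl]
      exact le_top
    rw [vFil_of_pos ε v d ha, vFil_of_pos ε v d (by omega : 1 ≤ b)]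
    exact Ideal.mul_mono_right (gammaFil_anti ε (Nat.sub_le_sub_right hab d))

variable {σ : Type}

theorem evG_mem_vFil (s₀ : σ) (d : ℕ) (hd : 1 ≤ d) (x : σ → A) (hxε : ∀ s, ε (x s) = 0)
    (hx : ∀ j, d ≤ j → gamma (j + 1) (x s₀) = 0) {r : ℕ} (hr : 1 ≤ r) {G : Op σ}
    (hG1 : G ∈ truncIdeal s₀ (d - 1)) (hG2 : G ∈ wtIdeal ℤ (wγ (σ := σ)) r) :
    evG x G ∈ vFil ε (gamma d (x s₀)) d r := by
  obtain ⟨H, hH, hGH⟩ := split_trunc G s₀ d hd r hG1 hG2
  have h0 := evG_eq_zero_of_mem_truncIdeal s₀ d x hx hGH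
  rw [map_sub, sub_eq_zero, map_mul, evG_X] at h0
  have e : d - 1 + 1 = d := by omega
  rw [h0, vFil_of_pos ε _ d hr]
  show gamma (d - 1 + 1) (x s₀) * evG x H ∈ _
  rw [e]
  exact Ideal.mem_span_singleton_mul.2 ⟨_, evG_mem_gammaFil ε x hxε hH, rfl⟩

theorem gamma_evG_mem_vFil (hA : IsSpecial A) (s₀ : σ) (d : ℕ) (hd : 1 ≤ d) (x : σ → A)
    (hxε : ∀ s, ε (x s) = 0) (hx : ∀ j, d ≤ j → gamma (j + 1) (x s₀) = 0) {w : ℕ} (hw : 1 ≤ w)
    {F : Op σ} (hF1 : F ∈ truncIdeal s₀ (d - 1)) (hF2 : F ∈ wtIdeal ℤ (wγ (σ := σ)) w) (i : ℕ)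
    (hi : 1 ≤ i) :
    gamma i (evG x F) ∈ vFil ε (gamma d (x s₀)) d (max i w) := by
  obtain ⟨G, hGw, hG⟩ := core.{v} F w hw hF2 i hi
  have hGt := gammaOp_mem_truncIdeal.{v} F G s₀ (d - 1) hF1 i hi hG
  rw [hG A hA x]
  exact evG_mem_vFil ε s₀ d hd x hxε hx (le_trans hi (le_max_left _ _)) hGt hGw

theorem gamma_evG_leading_mem_vFil (hA : IsSpecial A) (s₀ : σ) (d : ℕ) (hd : 1 ≤ d) (x : σ → A)
    (hxε : ∀ s, ε (x s) = 0) (hx : ∀ j, d ≤ j → gamma (j + 1) (x s₀) = 0) {w : ℕ} (hw : 1 ≤ w)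
    {F : Op σ} (hF1 : F ∈ truncIdeal s₀ (d - 1)) (hF2 : F ∈ wtIdeal ℤ (wγ (σ := σ)) w) :
    gamma w (evG x F) - (-1 : A) ^ (w - 1) * ((w - 1).factorial : A) * evG x F ∈
      vFil ε (gamma d (x s₀)) d (w + 1) := by
  obtain ⟨G', hG'w, hG'⟩ := core_leading.{v} F w hw hF2
  have hG't : G' ∈ truncIdeal s₀ (d - 1) := by
    apply mem_truncIdeal_of_vanish.{v}
    intro B _ _ hB xB hxB
    have h1 := hG' B hB xB
    rw [evG_eq_zero_of_mem_truncIdeal s₀ (d - 1) xB hxB hF1, gamma_zero_arg hw, mul_zero,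
      zero_add] at h1
    exact h1.symm
  have h1 := hG' A hA x
  have e : gamma w (evG x F) - (-1 : A) ^ (w - 1) * ((w - 1).factorial : A) * evG x F =
      evG x G' := by
    rw [h1]
    push_cast
    ring
  rw [e]
  exact evG_mem_vFil ε s₀ d hd x hxε hx (by omega) hG't hG'w

end VFil

section Rank

variable {K : Type u} [CommRing K] [BinomialRing K] {A : Type v} [CommRing A] [LambdaOps A]
  [Algebra K A]

theorem gamma_mul_top_mem_vFil (ε : A →ₐ[K] K) (hA : IsSpecial A)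
    (hlam : ∀ (n : ℕ) (c : K),
      algebraMap K A (Ring.choose c n) = LambdaOps.lam n (algebraMap K A c))
    (d : ℕ) (hd : 1 ≤ d) (N₀ : A) (hεN₀ : ε N₀ = 0)
    (hN₀ : ∀ j, d ≤ j → gamma (j + 1) N₀ = 0) (x : A) (i : ℕ) (hi : 1 ≤ i) :
    gamma i (x * gamma d N₀) ∈ vFil (ε : A →+* K) (gamma d N₀) d i := by
  have hv : gamma d N₀ ∈ gammaFil (ε : A →+* K) d :=
    gamma_mem_gammaFil (ε : A →+* K) N₀ hεN₀ d
  have hJ := isFilt_vFil (ε : A →+* K) (gamma d N₀) d hv
  have e1 : d - 1 + 1 = d := by omega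
  obtain ⟨T, hT⟩ : ∃ T : Set A, T = {t | (∃ c : K, t = algebraMap K A c * gamma d N₀) ∨
      (∃ x₀ : A, ε x₀ = 0 ∧ t = x₀ * gamma d N₀)} := ⟨_, rfl⟩
  have hzT : x * gamma d N₀ ∈ AddSubgroup.closure T := by
    have hsplit : x * gamma d N₀ = algebraMap K A (ε x) * gamma d N₀ +
        (x - algebraMap K A (ε x)) * gamma d N₀ := by ring
    rw [hsplit]
    apply AddSubgroup.add_mem
    · apply AddSubgroup.subset_closure
      rw [hT]
      exact Or.inl ⟨_, rfl⟩
    · apply AddSubgroup.subset_closure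
      rw [hT]
      exact Or.inr ⟨_, aug_sub ε x, rfl⟩
  have hgen : ∀ x₀ : A, ε x₀ = 0 → ∀ j, 1 ≤ j →
      gamma j (x₀ * gamma d N₀) ∈ vFil (ε : A →+* K) (gamma d N₀) d (max j 0) := by
    intro x₀ hx₀ j hj
    obtain ⟨F, hF⟩ : ∃ F : Op Bool, F = X (false, 0) * X (true, d - 1) := ⟨_, rfl⟩
    have hF1 : F ∈ truncIdeal true (d - 1) := by
      rw [hF]
      exact Ideal.mul_mem_left _ _ (X_mem_truncIdeal true (d - 1) le_rfl)
    have hF2 : F ∈ wtIdeal ℤ (wγ (σ := Bool)) 1 := by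
      rw [hF]
      exact Ideal.mul_mem_right _ _ (X_mem_wtIdeal (wγ (σ := Bool)) ((false, 0) : Bool × ℕ))
    have h2 : evG (fun b : Bool => cond b N₀ x₀) F = x₀ * gamma d N₀ := by
      rw [hF, map_mul, evG_X, evG_X]
      simp only [cond_false, cond_true, zero_add]
      rw [gamma_one, e1]
    have h3 := gamma_evG_mem_vFil (ε : A →+* K) hA true d hd (fun b : Bool => cond b N₀ x₀)
      (fun b => by cases b <;> simp [hx₀, hεN₀]) hN₀ le_rfl hF1 hF2 j hj
    rw [h2] at h3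
    exact hJ.anti _ _ (max_le_max (le_refl j) (Nat.zero_le 1)) h3
  have hvv : ∀ j, 1 ≤ j → gamma j (gamma d N₀) ∈
      vFil (ε : A →+* K) (gamma d N₀) d (max j 0) := by
    intro j hj
    obtain ⟨F, hF⟩ : ∃ F : Op Bool, F = X (true, d - 1) := ⟨_, rfl⟩
    have hF1 : F ∈ truncIdeal true (d - 1) := by
      rw [hF]
      exact X_mem_truncIdeal true (d - 1) le_rfl
    have hF2 : F ∈ wtIdeal ℤ (wγ (σ := Bool)) 1 := by
      rw [hF]
      exact wtIdeal_anti (wγ (σ := Bool)) (Nat.le_add_left 1 (d - 1))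
        (X_mem_wtIdeal (wγ (σ := Bool)) ((true, d - 1) : Bool × ℕ))
    have h2 : evG (fun b : Bool => cond b N₀ (0 : A)) F = gamma d N₀ := by
      rw [hF, evG_X]
      simp only [cond_true]
      rw [e1]
    have h3 := gamma_evG_mem_vFil (ε : A →+* K) hA true d hd
      (fun b : Bool => cond b N₀ (0 : A))
      (fun b => by cases b <;> simp [hεN₀]) hN₀ le_rfl hF1 hF2 j hj
    rw [h2] at h3
    exact hJ.anti _ _ (max_le_max (le_refl j) (Nat.zero_le 1)) h3
  have := gamma_closure_mem hJ 0 T ?_ hzT i hi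
  · rwa [max_eq_left (Nat.zero_le _)] at this
  · rw [hT]
    rintro t (⟨c, rfl⟩ | ⟨x₀, hx₀, rfl⟩)
    · exact gamma_scalar_mem hA hlam hJ 0 _ hvv c
    · exact hgen x₀ hx₀

theorem rank_setup (ε : A →ₐ[K] K) (hA : IsSpecial A) (d : ℕ) (N : A)
    (hN : ∀ k : ℕ, d < k → LambdaOps.lam k N = 0) (hNε : ε N = (d : K)) :
    ε (N - (d : A)) = 0 ∧ (∀ j, d ≤ j → gamma (j + 1) (N - (d : A)) = 0) ∧
      gamma d (N - (d : A)) =
        (-1) ^ d * ∑ j ∈ range (d + 1), (-1 : A) ^ j * LambdaOps.lam j N :=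
  ⟨by rw [map_sub, hNε, map_natCast, sub_self],
   fun j hj => gamma_rank_sub_eq_zero hA.lam_one_eq_zero N d hN (j + 1) (by omega),
   gamma_rank_sub_top hA.lam_one_eq_zero N d hN⟩

/-- the quotient `γ^p(x λ_{-1}(N)) / λ_{-1}(N)` lies in `Fil^(p-d)` -/
theorem rank_quot_mem (ε : A →ₐ[K] K) (hA : IsSpecial A)
    (hlam : ∀ (n : ℕ) (c : K),
      algebraMap K A (Ring.choose c n) = LambdaOps.lam n (algebraMap K A c))
    (d : ℕ) (hd : 1 ≤ d) (N : A) (hN : ∀ k : ℕ, d < k → LambdaOps.lam k N = 0)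
    (hNε : ε N = (d : K))
    (hnzd : (∑ j ∈ range (d + 1), (-1 : A) ^ j * LambdaOps.lam j N) ∈ nonZeroDivisors A)
    (p : ℕ) (hp : 1 ≤ p) (x y : A)
    (hy : y * (∑ j ∈ range (d + 1), (-1 : A) ^ j * LambdaOps.lam j N) =
      gamma p (x * (∑ j ∈ range (d + 1), (-1 : A) ^ j * LambdaOps.lam j N))) :
    y ∈ gammaFil (ε : A →+* K) (p - d) := by
  obtain ⟨hεN₀, hN₀, hv⟩ := rank_setup ε hA d N hN hNε
  obtain ⟨u, hu⟩ : ∃ u : A, u = ∑ j ∈ range (d + 1), (-1 : A) ^ j * LambdaOps.lam j N :=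
    ⟨_, rfl⟩
  rw [← hu] at hv hy hnzd
  obtain ⟨v, hvdef⟩ : ∃ v : A, v = gamma d (N - (d : A)) := ⟨_, rfl⟩
  rw [← hvdef] at hv
  have e2 : (-1 : A) ^ d * (-1) ^ d = 1 := by
    rw [← mul_pow]
    simp
  have hu2 : u = (-1) ^ d * v := by
    rw [hv, ← mul_assoc, e2, one_mul]
  have h1 := gamma_mul_top_mem_vFil ε hA hlam d hd (N - (d : A)) hεN₀ hN₀ (x * (-1) ^ d) p hp
  rw [← hvdef] at h1
  have e : x * (-1) ^ d * v = x * u := by
    rw [hu2]
    ring
  rw [e, ← hy, vFil_of_pos _ _ _ hp] at h1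
  obtain ⟨y', hy', hvy⟩ := Ideal.mem_span_singleton_mul.1 h1
  have h0 : (y - (-1) ^ d * y') * u = 0 := by
    linear_combination (-1 : A) * hvy + y' * hv
  have h3 := (mul_right_mem_nonZeroDivisors_eq_zero_iff hnzd).1 h0
  rw [sub_eq_zero] at h3
  rw [h3]
  exact Ideal.mul_mem_left _ _ hy'

/-- the operation `∏ γ^{i_k}(x_k) · γ^d(N₀)` -/
noncomputable def genOpV (l : List (ℕ × A)) (d : ℕ) : Op (Option (Fin l.length)) :=
  (∏ i : Fin l.length, Yv (some i) (l.get i).1) * X (none, d - 1)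

/-- its arguments -/
def genArg (l : List (ℕ × A)) (N₀ : A) : Option (Fin l.length) → A :=
  fun o => o.elim N₀ (fun i => (l.get i).2)

theorem evG_genOpV (l : List (ℕ × A)) (d : ℕ) (hd : 1 ≤ d) (N₀ : A) :
    evG (genArg l N₀) (genOpV l d) = (l.map fun p => gamma p.1 p.2).prod * gamma d N₀ := by
  unfold genOpV
  rw [map_mul, map_prod, evG_X]
  simp only [evG_Yv]
  show (∏ i : Fin l.length, gamma (l.get i).1 (l.get i).2) * gamma (d - 1 + 1) N₀ = _
  rw [← List.prod_ofFn, ofFn_get_map l (fun p => gamma p.1 p.2), Nat.sub_add_cancel hd]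

theorem genOpV_mem_wt (l : List (ℕ × A)) (d : ℕ) :
    genOpV l d ∈ wtIdeal ℤ (wγ (σ := Option (Fin l.length)))
      ((l.map Prod.fst).sum + (d - 1 + 1)) := by
  have h := (isFilt_wtIdeal (R := ℤ) (wγ (σ := Option (Fin l.length)))).prod_mem univ
    (fun i : Fin l.length => Yv (some i) (l.get i).1) (fun i => (l.get i).1)
    (fun i _ => Yv_mem (some i) _)
  have e : ∑ i : Fin l.length, (l.get i).1 = (l.map Prod.fst).sum := by
    rw [← List.sum_ofFn, ofFn_get_map l Prod.fst]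
  rw [e] at h
  exact mul_mem_wtIdeal h
    (X_mem_wtIdeal (wγ (σ := Option (Fin l.length))) ((none, d - 1) : Option (Fin l.length) × ℕ))

theorem genOpV_mem_trunc (l : List (ℕ × A)) (d : ℕ) :
    genOpV l d ∈ truncIdeal (none : Option (Fin l.length)) (d - 1) :=
  Ideal.mul_mem_left _ _ (X_mem_truncIdeal none (d - 1) le_rfl)

theorem gen_top_mem (ε : A →ₐ[K] K) (hA : IsSpecial A) (d : ℕ) (hd : 1 ≤ d) (N₀ : A)
    (hεN₀ : ε N₀ = 0) (hN₀ : ∀ j, d ≤ j → gamma (j + 1) N₀ = 0) (i : ℕ) (l : List (ℕ × A))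
    (hl : ∀ p ∈ l, (ε : A →+* K) p.2 = 0) (hs : i ≤ (l.map Prod.fst).sum) :
    (∀ j, 1 ≤ j → gamma j ((l.map fun p => gamma p.1 p.2).prod * gamma d N₀) ∈
      vFil (ε : A →+* K) (gamma d N₀) d (max j (d + i))) ∧
    gamma (d + i) ((l.map fun p => gamma p.1 p.2).prod * gamma d N₀) -
      (-1 : A) ^ (d + i - 1) * ((d + i - 1).factorial : A) *
        ((l.map fun p => gamma p.1 p.2).prod * gamma d N₀) ∈
      vFil (ε : A →+* K) (gamma d N₀) d (d + i + 1) := by
  have hm : 1 ≤ d + i := by omega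
  have hxε : ∀ o, (ε : A →+* K) (genArg l N₀ o) = 0 := by
    intro o
    cases o with
    | none => exact hεN₀
    | some k => exact hl _ (List.get_mem l k)
  have hFw := genOpV_mem_wt l d
  have hF1 := genOpV_mem_trunc l d
  have heval := evG_genOpV l d hd N₀
  have hFm : genOpV l d ∈ wtIdeal ℤ (wγ (σ := Option (Fin l.length))) (d + i) :=
    wtIdeal_anti (wγ (σ := Option (Fin l.length))) (by omega) hFw
  have hv : gamma d N₀ ∈ gammaFil (ε : A →+* K) d :=
    gamma_mem_gammaFil (ε : A →+* K) N₀ hεN₀ d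
  have hJ := isFilt_vFil (ε : A →+* K) (gamma d N₀) d hv
  constructor
  · intro j hj
    have h3 := gamma_evG_mem_vFil (ε : A →+* K) hA none d hd (genArg l N₀) hxε hN₀ hm hF1 hFm j hj
    rw [heval] at h3
    exact h3
  · rcases Nat.eq_or_lt_of_le hs with hW | hW
    · have h3 := gamma_evG_leading_mem_vFil (ε : A →+* K) hA none d hd (genArg l N₀) hxε hN₀ hm
        hF1 hFm
      rw [heval] at h3
      exact h3
    · have hFm1 : genOpV l d ∈ wtIdeal ℤ (wγ (σ := Option (Fin l.length))) (d + i + 1) :=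
        wtIdeal_anti (wγ (σ := Option (Fin l.length))) (by omega) hFw
      have h3 := gamma_evG_mem_vFil (ε : A →+* K) hA none d hd (genArg l N₀) hxε hN₀
        (by omega : 1 ≤ d + i + 1) hF1 hFm1 (d + i) hm
      have h4 := evG_mem_vFil (ε : A →+* K) none d hd (genArg l N₀) hxε hN₀
        (by omega : 1 ≤ d + i + 1) hF1 hFm1
      rw [heval] at h3 h4
      exact Ideal.sub_mem _ (hJ.anti _ _ (le_max_right _ _) h3) (Ideal.mul_mem_left _ _ h4)

/-- leading term of the quotient `γ^(d+i)(x λ_{-1}(N)) / λ_{-1}(N)` for `x ∈ Fil^i` -/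
theorem rank_quot_leading (ε : A →ₐ[K] K) (hA : IsSpecial A)
    (hlam : ∀ (n : ℕ) (c : K),
      algebraMap K A (Ring.choose c n) = LambdaOps.lam n (algebraMap K A c))
    (d : ℕ) (hd : 1 ≤ d) (N : A) (hN : ∀ k : ℕ, d < k → LambdaOps.lam k N = 0)
    (hNε : ε N = (d : K))
    (hnzd : (∑ j ∈ range (d + 1), (-1 : A) ^ j * LambdaOps.lam j N) ∈ nonZeroDivisors A)
    (i : ℕ) (x : A) (hx : x ∈ gammaFil (ε : A →+* K) i) (y : A)
    (hy : y * (∑ j ∈ range (d + 1), (-1 : A) ^ j * LambdaOps.lam j N) =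
      gamma (d + i) (x * (∑ j ∈ range (d + 1), (-1 : A) ^ j * LambdaOps.lam j N))) :
    y - (-1 : A) ^ (d + i - 1) * ((d + i - 1).factorial : A) * x ∈
      gammaFil (ε : A →+* K) (i + 1) := by
  obtain ⟨hεN₀, hN₀, hv⟩ := rank_setup ε hA d N hN hNε
  obtain ⟨u, hu⟩ : ∃ u : A, u = ∑ j ∈ range (d + 1), (-1 : A) ^ j * LambdaOps.lam j N :=
    ⟨_, rfl⟩
  rw [← hu] at hv hy hnzd
  obtain ⟨N₀, hN₀def⟩ : ∃ N₀ : A, N₀ = N - (d : A) := ⟨_, rfl⟩
  rw [← hN₀def] at hεN₀ hN₀ hv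
  obtain ⟨κ, hκ⟩ : ∃ κ : A, κ = (-1 : A) ^ (d + i - 1) * ((d + i - 1).factorial : A) :=
    ⟨_, rfl⟩
  rw [← hκ]
  have e2 : (-1 : A) ^ d * (-1) ^ d = 1 := by
    rw [← mul_pow]
    simp
  have hm : 1 ≤ d + i := by omega
  have hvmem : gamma d N₀ ∈ gammaFil (ε : A →+* K) d :=
    gamma_mem_gammaFil (ε : A →+* K) N₀ hεN₀ d
  have hJ := isFilt_vFil (ε : A →+* K) (gamma d N₀) d hvmem
  obtain ⟨T₁, hT₁⟩ : ∃ T₁ : Set A,
      T₁ = {t | ∃ g ∈ GenSet (ε : A →+* K) i, t = g * gamma d N₀} := ⟨_, rfl⟩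
  have hT1 : ∀ t ∈ T₁, ∀ j, 1 ≤ j →
      gamma j t ∈ vFil (ε : A →+* K) (gamma d N₀) d (max j (d + i)) := by
    rw [hT₁]
    rintro t ⟨g, ⟨l, hl, hs, rfl⟩, rfl⟩
    exact (gen_top_mem ε hA d hd N₀ hεN₀ hN₀ i l hl hs).1
  have hT2 : ∀ t ∈ T₁, gamma (d + i) t - κ * t ∈
      vFil (ε : A →+* K) (gamma d N₀) d (d + i + 1) := by
    rw [hT₁, hκ]
    rintro t ⟨g, ⟨l, hl, hs, rfl⟩, rfl⟩
    exact (gen_top_mem ε hA d hd N₀ hεN₀ hN₀ i l hl hs).2
  have hx' : (-1 : A) ^ d * x ∈ gammaFil (ε : A →+* K) i := Ideal.mul_mem_left _ _ hx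
  have hcl := mem_closure_of_mem_gammaFil ε i hx'
  have hzgen : ∀ z ∈ AddSubgroup.closure (ScalGen ε i), z * gamma d N₀ ∈ AddSubgroup.closure
      {t : A | ∃ (c : K) (y : A), y ∈ T₁ ∧ t = algebraMap K A c * y} := by
    intro z hzc
    induction hzc using AddSubgroup.closure_induction with
    | mem z hz =>
      obtain ⟨c, g, hg, rfl⟩ := hz
      apply AddSubgroup.subset_closure
      refine ⟨c, g * gamma d N₀, ?_, mul_assoc _ _ _⟩
      rw [hT₁]
      exact ⟨g, hg, rfl⟩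
    | zero =>
      rw [zero_mul]
      exact AddSubgroup.zero_mem _
    | add a b _ _ ha hb =>
      rw [add_mul]
      exact AddSubgroup.add_mem _ ha hb
    | neg a _ ha =>
      rw [neg_mul]
      exact AddSubgroup.neg_mem _ ha
  have hz := hzgen _ hcl
  have h := gamma_leading_closure hA hlam hJ hm κ T₁ hT1 hT2 hz
  have e : (-1 : A) ^ d * x * gamma d N₀ = x * u := by
    rw [hv]
    linear_combination (x * u) * e2
  rw [e, ← hy, vFil_of_pos _ _ _ (by omega : 1 ≤ d + i + 1)] at h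
  obtain ⟨r, hr, hvr⟩ := Ideal.mem_span_singleton_mul.1 h
  have e3 : d + i + 1 - d = i + 1 := by omega
  rw [e3] at hr
  have h0 : (y - κ * x - (-1) ^ d * r) * u = 0 := by
    linear_combination (-1 : A) * hvr + r * hv
  have h3 := (mul_right_mem_nonZeroDivisors_eq_zero_iff hnzd).1 h0
  rw [sub_eq_zero] at h3
  rw [h3]
  exact Ideal.mul_mem_left _ _ hr

end Rank

end Groth.Agent.Lib.LambdaOpsH1
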