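import Mathlib

/-!
# Elements of a pointwise left Kan extension of a presheaf of types; finite products (helper3)
-/

set_option autoImplicit false
set_option linter.all false
set_option maxHeartbeats 1600000

open CategoryTheory Limits Opposite

namespace Groth.Agent.Lib.LanProdH3

universe w v₁ v₂ u₁ u₂

variable {C : Type u₁} [Category.{v₁} C] {D : Type u₂} [Category.{v₂} D] (G : C ⥤ D)
  (F : Cᵒᵖ ⥤ Type w) (E : G.op.LeftExtension F)

/-- The element of the Kan extension at `W` attached to `a : W ⟶ G V` and `s ∈ F(V)`. -/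
def mkElt {W : D} (V : C) (a : W ⟶ G.obj V) (s : F.obj (op V)) : E.right.obj (op W) :=
  E.right.map a.op (E.hom.app (op V) s)

variable {G F E}

theorem map_mkElt {W W' : D} (h : W' ⟶ W) (V : C) (a : W ⟶ G.obj V) (s : F.obj (op V)) :
    E.right.map h.op (mkElt G F E V a s) = mkElt G F E V (h ≫ a) s := by
  unfold mkElt
  rw [op_comp, Functor.map_comp_apply]

theorem mkElt_comp {W : D} {V V' : C} (φ : V' ⟶ V) (a' : W ⟶ G.obj V') (s : F.obj (op V)) :
    mkElt G F E V (a' ≫ G.map φ) s = mkElt G F E V' a' (F.map φ.op s) := by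
  unfold mkElt
  rw [op_comp, Functor.map_comp_apply]
  congr 1
  exact (NatTrans.naturality_apply E.hom φ.op s).symm

theorem exists_mkElt (hE : E.IsPointwiseLeftKanExtension) {W : D} (x : E.right.obj (op W)) :
    ∃ (V : C) (a : W ⟶ G.obj V) (s : F.obj (op V)), x = mkElt G F E V a s := by
  obtain ⟨g, y, hy⟩ := Types.jointly_surjective_of_isColimit (hE (op W)) x
  exact ⟨g.left.unop, g.hom.unop, y, hy.symm⟩

theorem mkElt_eq (hE : E.IsPointwiseLeftKanExtension) {W : D} [IsCofiltered (StructuredArrow W G)]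
    {V V' : C} (a : W ⟶ G.obj V) (s : F.obj (op V)) (a' : W ⟶ G.obj V') (s' : F.obj (op V'))
    (h : mkElt G F E V a s = mkElt G F E V' a' s') :
    ∃ (V'' : C) (a'' : W ⟶ G.obj V'') (φ : V'' ⟶ V) (φ' : V'' ⟶ V'),
      a'' ≫ G.map φ = a ∧ a'' ≫ G.map φ' = a' ∧ F.map φ.op s = F.map φ'.op s' := by
  haveI : IsFiltered (CostructuredArrow G.op (op W)) :=
    IsFiltered.of_equivalence (structuredArrowOpEquivalence G W)
  let i : CostructuredArrow G.op (op W) := CostructuredArrow.mk (Y := op V) a.op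
  let j : CostructuredArrow G.op (op W) := CostructuredArrow.mk (Y := op V') a'.op
  have h' : (E.coconeAt (op W)).ι.app i s = (E.coconeAt (op W)).ι.app j s' := h
  rw [Types.FilteredColimit.isColimit_eq_iff _ (hE (op W))] at h'
  obtain ⟨k, p, q, hpq⟩ := h'
  refine ⟨k.left.unop, k.hom.unop, p.left.unop, q.left.unop, ?_, ?_, hpq⟩
  · have := CostructuredArrow.w p
    exact congrArg Quiver.Hom.unop this
  · have := CostructuredArrow.w q
    exact congrArg Quiver.Hom.unop this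

/-- If `W` is a finite coproduct of the `Wk`, the source category has "coproducts" turned into
products by `F`, then the pointwise left Kan extension turns `W = ∐ Wk` into a product. -/
theorem existsUnique_of_coprod (hE : E.IsPointwiseLeftKanExtension) {ι : Type*}
    {W : D} (Wk : ι → D) (i : ∀ k, Wk k ⟶ W) (hc : IsColimit (Cofan.mk W i))
    [∀ k, IsCofiltered (StructuredArrow (Wk k) G)]
    (H1 : ∀ (V : ι → C), ∃ (V' : C) (j : ∀ k, V k ⟶ V'),
      (∀ x : ∀ k, F.obj (op (V k)), ∃! t : F.obj (op V'), ∀ k, F.map (j k).op t = x k) ∧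
      (∀ (T : C) (φ : ∀ k, V k ⟶ T), ∃ ψ : V' ⟶ T, ∀ k, j k ≫ ψ = φ k))
    (x : ∀ k, E.right.obj (op (Wk k))) :
    ∃! t : E.right.obj (op W), ∀ k, E.right.map (i k).op t = x k := by
  have hex : ∃ t : E.right.obj (op W), ∀ k, E.right.map (i k).op t = x k := by
    choose V b s hx using fun k => exists_mkElt hE (x k)
    obtain ⟨V', j, h1a, -⟩ := H1 V
    obtain ⟨s0, hs0, -⟩ := h1a s
    let b0 : W ⟶ G.obj V' := Cofan.IsColimit.desc hc (fun k => b k ≫ G.map (j k))
    have hb0 : ∀ k, i k ≫ b0 = b k ≫ G.map (j k) := fun k => Cofan.IsColimit.fac hc _ k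
    refine ⟨mkElt G F E V' b0 s0, fun k => ?_⟩
    rw [map_mkElt, hb0, mkElt_comp, hs0, ← hx]
  obtain ⟨t, ht⟩ := hex
  refine ⟨t, ht, ?_⟩
  intro t' ht'
  obtain ⟨V, a, s, rfl⟩ := exists_mkElt hE t
  obtain ⟨V', a', s', rfl⟩ := exists_mkElt hE t'
  have hk : ∀ k, mkElt G F E V' (i k ≫ a') s' = mkElt G F E V (i k ≫ a) s := by
    intro k
    rw [← map_mkElt, ← map_mkElt, ht, ht']
  choose Vk bk φ φ' h1 h2 h3 using fun k => mkElt_eq hE _ _ _ _ (hk k)
  obtain ⟨V'', j, h1a, h1b⟩ := H1 Vk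
  obtain ⟨ψ, hψ⟩ := h1b V' φ
  obtain ⟨ψ', hψ'⟩ := h1b V φ'
  let b0 : W ⟶ G.obj V'' := Cofan.IsColimit.desc hc (fun k => bk k ≫ G.map (j k))
  have hb0 : ∀ k, i k ≫ b0 = bk k ≫ G.map (j k) := fun k => Cofan.IsColimit.fac hc _ k
  have e1 : b0 ≫ G.map ψ = a' := by
    apply Cofan.IsColimit.hom_ext hc
    intro k
    show i k ≫ b0 ≫ G.map ψ = i k ≫ a'
    rw [← Category.assoc, hb0, Category.assoc, ← G.map_comp, hψ, h1]
  have e2 : b0 ≫ G.map ψ' = a := by
    apply Cofan.IsColimit.hom_ext hc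
    intro k
    show i k ≫ b0 ≫ G.map ψ' = i k ≫ a
    rw [← Category.assoc, hb0, Category.assoc, ← G.map_comp, hψ', h2]
  have e3 : F.map ψ.op s' = F.map ψ'.op s := by
    obtain ⟨t0, -, huniq⟩ := h1a (fun k => F.map (φ k).op s')
    rw [huniq (F.map ψ.op s') ?_, huniq (F.map ψ'.op s) ?_]
    · intro k
      rw [← Functor.map_comp_apply, ← op_comp, hψ', ← h3]
    · intro k
      rw [← Functor.map_comp_apply, ← op_comp, hψ]
  rw [← e1, ← e2, mkElt_comp, mkElt_comp, e3]

end Groth.Agent.Lib.LanProdH3
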