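import Mathlib
import Groth.Prelude.Def_PBC
import Groth.Prelude.Def_ProEtS
import Groth.Agent.Lib.WCSite2_helper3

/-!
# Sheafification does not change sections over weakly contractible affines (helper3)
-/

set_option autoImplicit false
set_option linter.all false
set_option maxHeartbeats 1600000
universe u

open AlgebraicGeometry CategoryTheory Limits Opposite TopologicalSpace

namespace Groth.Agent.Lib.WCSiteH3

/-- A finite decomposition of an object `W` of the pro-étale site into pairwise disjoint opens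
exhibits `W` as a coproduct. -/
theorem nonempty_isColimit_cofan {X : Scheme.{u}} (W : X.ProEt) {n : ℕ}
    (Wk : Fin n → W.left.Opens)
    (hdisj : Pairwise (fun k l => Disjoint (Wk k : Set ↥W.left) (Wk l)))
    (hcov : (⋃ k, (Wk k : Set ↥W.left)) = Set.univ) :
    Nonempty (IsColimit (Cofan.mk W (fun k => (MorphismProperty.Over.homMk (Wk k).ι :
      Scheme.ProEt.mk ((Wk k).ι ≫ W.hom) ⟶ W)))) := by
  obtain ⟨hc⟩ := nonempty_isColimit_cofanMk_of (fun k => (Wk k).ι)
    (by
      rw [eq_top_iff]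
      intro x _
      have hx : x ∈ ⋃ k, (Wk k : Set ↥W.left) := by rw [hcov]; trivial
      obtain ⟨k, hk⟩ := Set.mem_iUnion.mp hx
      simp only [Scheme.Opens.opensRange_ι]
      exact Opens.mem_iSup.mpr ⟨k, hk⟩)
    (by
      intro k k' hkk'
      simp only [Function.onFun, Scheme.Opens.opensRange_ι]
      rw [disjoint_iff]
      ext x
      simp only [Opens.coe_inf, Opens.coe_bot, Set.mem_inter_iff, Set.mem_empty_iff_false,
        iff_false, not_and]
      intro hx hx'
      exact Set.disjoint_left.mp (hdisj hkk') hx hx')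
  refine ⟨mkCofanColimit _ (fun s => MorphismProperty.Over.homMk
    (Cofan.IsColimit.desc hc (fun k => (s.inj k).left)) ?_) ?_ ?_⟩
  · apply Cofan.IsColimit.hom_ext hc
    intro k
    show (Wk k).ι ≫ Cofan.IsColimit.desc hc (fun k => (s.inj k).left) ≫ s.pt.hom =
      (Wk k).ι ≫ W.hom
    rw [← Category.assoc]
    have : (Wk k).ι ≫ Cofan.IsColimit.desc hc (fun k => (s.inj k).left) = (s.inj k).left :=
      Cofan.IsColimit.fac hc _ k
    rw [this]
    exact CategoryTheory.Over.w (s.inj k).hom
  · intro s k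
    apply MorphismProperty.Over.Hom.ext
    exact Cofan.IsColimit.fac hc _ k
  · intro s m hm
    apply MorphismProperty.Over.Hom.ext
    apply Cofan.IsColimit.hom_ext hc
    intro k
    show (Wk k).ι ≫ m.left = (Wk k).ι ≫ Cofan.IsColimit.desc hc (fun k => (s.inj k).left)
    have h2 : (Wk k).ι ≫ Cofan.IsColimit.desc hc (fun k => (s.inj k).left) = (s.inj k).left :=
      Cofan.IsColimit.fac hc _ k
    rw [h2]
    exact congrArg (fun m => m.left) (hm k)

/-- A presheaf preserving finite products turns a finite clopen decomposition into a product. -/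
theorem existsUnique_of_preservesFiniteProducts {X : Scheme.{u}} (F : X.ProEtᵒᵖ ⥤ Type (u + 1))
    [PreservesFiniteProducts F] (W : X.ProEt) {n : ℕ} (Wk : Fin n → W.left.Opens)
    (hdisj : Pairwise (fun k l => Disjoint (Wk k : Set ↥W.left) (Wk l)))
    (hcov : (⋃ k, (Wk k : Set ↥W.left)) = Set.univ)
    (x : ∀ k, F.obj (op (Scheme.ProEt.mk ((Wk k).ι ≫ W.hom)))) :
    ∃! t : F.obj (op W), ∀ k, F.map (MorphismProperty.Over.homMk (Wk k).ι :
      Scheme.ProEt.mk ((Wk k).ι ≫ W.hom) ⟶ W).op t = x k := by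
  obtain ⟨hc⟩ := nonempty_isColimit_cofan W Wk hdisj hcov
  have hl := Cofan.IsColimit.op hc
  have hl' := isLimitOfPreserves F hl
  have key := (Types.isLimit_iff _).mp ⟨hl'⟩ (fun j => x j.as) (by
    intro j j' f
    obtain ⟨j⟩ := j
    obtain ⟨j'⟩ := j'
    have hjj' : j = j' := Discrete.eq_of_hom f
    subst hjj'
    have hf : f = 𝟙 _ := Subsingleton.elim _ _
    rw [hf]
    simp)
  obtain ⟨t, ht, huniq⟩ := key
  refine ⟨t, fun k => ht ⟨k⟩, fun t' ht' => huniq t' fun j => ?_⟩
  obtain ⟨j⟩ := j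
  exact ht' j

/-- The covering data attached to a finite clopen decomposition. -/
theorem cover_data {X : Scheme.{u}} (W : X.ProEt) {n : ℕ} (Wk : Fin n → W.left.Opens)
    (hdisj : Pairwise (fun k l => Disjoint (Wk k : Set ↥W.left) (Wk l)))
    (hcov : (⋃ k, (Wk k : Set ↥W.left)) = Set.univ) :
    (∀ k, IsOpenImmersion (MorphismProperty.Over.homMk (Wk k).ι :
      Scheme.ProEt.mk ((Wk k).ι ≫ W.hom) ⟶ W).left) ∧
    (Pairwise fun k l => Disjoint
      (Set.range (MorphismProperty.Over.homMk (Wk k).ι :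
        Scheme.ProEt.mk ((Wk k).ι ≫ W.hom) ⟶ W).left)
      (Set.range (MorphismProperty.Over.homMk (Wk l).ι :
        Scheme.ProEt.mk ((Wk l).ι ≫ W.hom) ⟶ W).left)) ∧
    (∀ x : W.left, ∃ k, x ∈ Set.range (MorphismProperty.Over.homMk (Wk k).ι :
        Scheme.ProEt.mk ((Wk k).ι ≫ W.hom) ⟶ W).left) := by
  refine ⟨fun k => inferInstanceAs (IsOpenImmersion (Wk k).ι), ?_, ?_⟩
  · intro k l hkl
    have := hdisj hkl
    show Disjoint (Set.range (Wk k).ι) (Set.range (Wk l).ι)
    rwa [Scheme.Opens.range_ι, Scheme.Opens.range_ι]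
  · intro x
    have hx : x ∈ ⋃ k, (Wk k : Set ↥W.left) := by rw [hcov]; trivial
    obtain ⟨k, hk⟩ := Set.mem_iUnion.mp hx
    refine ⟨k, ?_⟩
    show x ∈ Set.range (Wk k).ι
    rwa [Scheme.Opens.range_ι]

theorem main0725 {X : Scheme.{u}} (F : X.ProEtᵒᵖ ⥤ Type (u + 1))
    [PreservesFiniteProducts F] (W : X.ProEt) [IsAffine W.left] (hW : ProEtS.IsWC W) :
    Function.Bijective ((toSheafify (Scheme.ProEt.topology X) F).app (op W)) := by
  have hA := isWContractible_of_isWC W hW
  constructor
  · intro s t hst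
    have hR := Presheaf.equalizerSieve_mem (Scheme.ProEt.topology X)
      (toSheafify (Scheme.ProEt.topology X) F) (X := op W) s t hst
    obtain ⟨n, Wk, -, hdisj, hcov, hWk⟩ := exists_clopen_refinement W hA _ hR
    obtain ⟨t0, -, huniq⟩ := existsUnique_of_preservesFiniteProducts F W Wk hdisj hcov
      (fun k => F.map (MorphismProperty.Over.homMk (Wk k).ι :
        Scheme.ProEt.mk ((Wk k).ι ≫ W.hom) ⟶ W).op s)
    rw [huniq s (fun k => rfl), huniq t (fun k => (hWk k).symm)]
  · intro t
    have hR := Presheaf.imageSieve_mem (Scheme.ProEt.topology X)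
      (toSheafify (Scheme.ProEt.topology X) F) (U := op W) t
    obtain ⟨n, Wk, -, hdisj, hcov, hWk⟩ := exists_clopen_refinement W hA _ hR
    choose sk hsk using hWk
    obtain ⟨s, hs, -⟩ := existsUnique_of_preservesFiniteProducts F W Wk hdisj hcov sk
    refine ⟨s, ?_⟩
    let G : Sheaf (Scheme.ProEt.topology X) (Type (u + 1)) :=
      (presheafToSheaf (Scheme.ProEt.topology X) (Type (u + 1))).obj F
    obtain ⟨hopen, hdisj', hcov'⟩ := cover_data W Wk hdisj hcov
    haveI : ∀ k, WeaklyEtale ((Wk k).ι ≫ W.hom) := fun k => inferInstance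
    obtain ⟨t0, -, huniq⟩ := existsUnique_glue G
      (fun k => Scheme.ProEt.mk ((Wk k).ι ≫ W.hom))
      (fun k => MorphismProperty.Over.homMk (Wk k).ι) hopen hdisj' hcov'
      (fun k => G.obj.map (MorphismProperty.Over.homMk (Wk k).ι :
        Scheme.ProEt.mk ((Wk k).ι ≫ W.hom) ⟶ W).op t)
    have h1 := huniq ((toSheafify (Scheme.ProEt.topology X) F).app (op W) s) ?_
    · have h2 := huniq t (fun _ => rfl)
      exact h1.trans h2.symm
    · intro k
      have hnat := ConcreteCategory.congr_hom ((toSheafify (Scheme.ProEt.topology X) F).naturality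
        (MorphismProperty.Over.homMk (Wk k).ι :
          Scheme.ProEt.mk ((Wk k).ι ≫ W.hom) ⟶ W).op) s
      dsimp at hnat
      refine Eq.trans ?_ (hsk k)
      rw [← hs k]
      exact hnat.symm

end Groth.Agent.Lib.WCSiteH3
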