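import Mathlib
import Groth.Prelude.Def_ProEtS
import Groth.Agent.Lib.WCSite5_helper3
import Groth.Agent.Lib.LanProd1_helper3

/-!
# The left Kan extension along base change of pro-étale sites on weakly contractible objects
(helper3)
-/

set_option autoImplicit false
set_option linter.all false
set_option maxHeartbeats 1600000
universe u

open AlgebraicGeometry CategoryTheory Limits Opposite TopologicalSpace

namespace Groth.Agent.Lib.LanProdH3

open Groth.Agent.Lib.WCSiteH3

/-- Base change of pro-étale sites is representably flat. -/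
theorem representablyFlat_bcP {X Y : Scheme.{u}} (f : X ⟶ Y) :
    RepresentablyFlat (ProEtS.bcP f) := by
  haveI : PreservesFiniteLimits (ProEtS.bcP f) := by
    have h : PreservesFiniteLimits (ProEtS.bcP f ⋙ Scheme.ProEt.forget X) := by
      let e : ProEtS.bcP f ⋙ Scheme.ProEt.forget X ≅ Scheme.ProEt.forget Y ⋙ Over.pullback f :=
        MorphismProperty.Over.pullbackCompForgetIso (P := @WeaklyEtale) (Q := ⊤) f
      exact preservesFiniteLimits_of_natIso e.symm
    exact preservesFiniteLimits_of_reflects_of_preserves (ProEtS.bcP f) (Scheme.ProEt.forget X)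
  exact flat_of_preservesFiniteLimits _

/-- Small coproducts in the pro-étale site. -/
theorem exists_coprod {Y : Scheme.{u}} {ι : Type*} [Small.{u} ι] (V : ι → Y.ProEt) :
    ∃ (V' : Y.ProEt) (j : ∀ k, V k ⟶ V'),
      (∀ k, IsOpenImmersion (j k).left) ∧
      (Pairwise fun k l => Disjoint (Set.range (j k).left) (Set.range (j l).left)) ∧
      (∀ x : V'.left, ∃ k, x ∈ Set.range (j k).left) ∧
      (∀ (T : Y.ProEt) (φ : ∀ k, V k ⟶ T), ∃ ψ : V' ⟶ T, ∀ k, j k ≫ ψ = φ k) := by
  haveI hwe : ∀ k, WeaklyEtale (V k).hom := fun k => (V k).prop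
  let Gm : (∐ fun k => (V k).left) ⟶ Y := Sigma.desc fun k => (V k).hom
  haveI : WeaklyEtale Gm := IsZariskiLocalAtSource.sigmaDesc (P := @WeaklyEtale) hwe
  have hj : ∀ k, Sigma.ι (fun k => (V k).left) k ≫ Gm = (V k).hom := by
    intro k
    simp only [Gm, Sigma.ι_desc]
  let j : ∀ k, V k ⟶ Scheme.ProEt.mk Gm := fun k =>
    MorphismProperty.Over.homMk (Sigma.ι (fun k => (V k).left) k) (hj k)
  refine ⟨Scheme.ProEt.mk Gm, j, fun k => ?_, ?_, ?_, ?_⟩
  · exact inferInstanceAs (IsOpenImmersion (Sigma.ι (fun k => (V k).left) k))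
  · intro k k' hkk'
    have h := disjoint_opensRange_sigmaι (fun k => (V k).left) k k' hkk'
    rw [Set.disjoint_left]
    intro x hx hx'
    have hx2 : x ∈ ((Sigma.ι (fun k => (V k).left) k).opensRange ⊓
      (Sigma.ι (fun k => (V k).left) k').opensRange : (∐ fun k => (V k).left).Opens) :=
      ⟨hx, hx'⟩
    rw [disjoint_iff.mp h] at hx2
    exact hx2
  · intro x
    obtain ⟨k, y, hy⟩ := (sigmaOpenCover (fun k => (V k).left)).exists_eq x
    exact ⟨k, y, hy⟩
  · intro T φ
    have hψ : (Sigma.desc fun k => (φ k).left) ≫ T.hom = Gm := by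
      apply Sigma.hom_ext
      intro k
      rw [← Category.assoc, Sigma.ι_desc, hj k]
      exact MorphismProperty.Over.w (φ k)
    refine ⟨MorphismProperty.Over.homMk (Sigma.desc fun k => (φ k).left) hψ, fun k => ?_⟩
    apply MorphismProperty.Over.Hom.ext
    show Sigma.ι (fun k => (V k).left) k ≫ Sigma.desc (fun k => (φ k).left) = (φ k).left
    rw [Sigma.ι_desc]

/-- The Kan extension presheaf along base change turns finite clopen decompositions into
products. -/
theorem existsUnique_lan {X Y : Scheme.{u}} (f : X ⟶ Y)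
    (F : Sheaf (Scheme.ProEt.topology Y) (Type (u + 1))) (W : X.ProEt) {n : ℕ}
    (Wk : Fin n → W.left.Opens)
    (hdisj : Pairwise (fun k l => Disjoint (Wk k : Set ↥W.left) (Wk l)))
    (hcov : (⋃ k, (Wk k : Set ↥W.left)) = Set.univ)
    (x : ∀ k, ((ProEtS.bcP f).op.lan.obj F.obj).obj (op (Scheme.ProEt.mk ((Wk k).ι ≫ W.hom)))) :
    ∃! t : ((ProEtS.bcP f).op.lan.obj F.obj).obj (op W),
      ∀ k, ((ProEtS.bcP f).op.lan.obj F.obj).map (MorphismProperty.Over.homMk (Wk k).ι :
        Scheme.ProEt.mk ((Wk k).ι ≫ W.hom) ⟶ W).op t = x k := by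
  obtain ⟨hc⟩ := nonempty_isColimit_cofan W Wk hdisj hcov
  haveI := representablyFlat_bcP f
  haveI : ∀ k, IsCofiltered (StructuredArrow (Scheme.ProEt.mk ((Wk k).ι ≫ W.hom))
    (ProEtS.bcP f)) := fun k => RepresentablyFlat.cofiltered _
  refine existsUnique_of_coprod (G := ProEtS.bcP f) (F := F.obj)
    (E := Functor.LeftExtension.mk _ ((ProEtS.bcP f).op.leftKanExtensionUnit F.obj))
    (Functor.isPointwiseLeftKanExtensionLeftKanExtensionUnit _ _)
    (fun k => Scheme.ProEt.mk ((Wk k).ι ≫ W.hom))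
    (fun k => MorphismProperty.Over.homMk (Wk k).ι) hc ?_ x
  intro V
  obtain ⟨V', j, hopen, hdisj', hcov', huniv⟩ := exists_coprod V
  exact ⟨V', j, fun x => existsUnique_glue F V j hopen hdisj' hcov' x, huniv⟩

/-- Variant of S0725 where the product property is only required for finite clopen
decompositions of the given object. -/
theorem bijective_toSheafify_of_prod {X : Scheme.{u}} (F : X.ProEtᵒᵖ ⥤ Type (u + 1))
    (W : X.ProEt) [IsAffine W.left] (hW : ProEtS.IsWC W)
    (hprod : ∀ {n : ℕ} (Wk : Fin n → W.left.Opens),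
      Pairwise (fun k l => Disjoint (Wk k : Set ↥W.left) (Wk l)) →
      (⋃ k, (Wk k : Set ↥W.left)) = Set.univ →
      ∀ x : ∀ k, F.obj (op (Scheme.ProEt.mk ((Wk k).ι ≫ W.hom))),
        ∃! t : F.obj (op W), ∀ k, F.map (MorphismProperty.Over.homMk (Wk k).ι :
          Scheme.ProEt.mk ((Wk k).ι ≫ W.hom) ⟶ W).op t = x k) :
    Function.Bijective ((toSheafify (Scheme.ProEt.topology X) F).app (op W)) := by
  have hA := isWContractible_of_isWC W hW
  constructor
  · intro s t hst
    have hR := Presheaf.equalizerSieve_mem (Scheme.ProEt.topology X)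
      (toSheafify (Scheme.ProEt.topology X) F) (X := op W) s t hst
    obtain ⟨n, Wk, -, hdisj, hcov, hWk⟩ := exists_clopen_refinement W hA _ hR
    obtain ⟨t0, -, huniq⟩ := hprod Wk hdisj hcov
      (fun k => F.map (MorphismProperty.Over.homMk (Wk k).ι :
        Scheme.ProEt.mk ((Wk k).ι ≫ W.hom) ⟶ W).op s)
    rw [huniq s (fun k => rfl), huniq t (fun k => (hWk k).symm)]
  · intro t
    have hR := Presheaf.imageSieve_mem (Scheme.ProEt.topology X)
      (toSheafify (Scheme.ProEt.topology X) F) (U := op W) t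
    obtain ⟨n, Wk, -, hdisj, hcov, hWk⟩ := exists_clopen_refinement W hA _ hR
    choose sk hsk using hWk
    obtain ⟨s, hs, -⟩ := hprod Wk hdisj hcov sk
    refine ⟨s, ?_⟩
    let G : Sheaf (Scheme.ProEt.topology X) (Type (u + 1)) :=
      (presheafToSheaf (Scheme.ProEt.topology X) (Type (u + 1))).obj F
    obtain ⟨hopen, hdisj', hcov'⟩ := cover_data W Wk hdisj hcov
    haveI : ∀ k, WeaklyEtale ((Wk k).ι ≫ W.hom) := fun k => inferInstance
    obtain ⟨t0, -, huniq⟩ := existsUnique_glue G
      (fun k => Scheme.ProEt.mk ((Wk k).ι ≫ W.hom))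
      (fun k => MorphismProperty.Over.homMk (Wk k).ι) hopen hdisj' hcov'
      (fun k => G.obj.map (MorphismProperty.Over.homMk (Wk k).ι :
        Scheme.ProEt.mk ((Wk k).ι ≫ W.hom) ⟶ W).op t)
    have h1 := huniq ((toSheafify (Scheme.ProEt.topology X) F).app (op W) s) ?_
    · have h2 := huniq t (fun _ => rfl)
      exact h1.trans h2.symm
    · intro k
      have hnat := ConcreteCategory.congr_hom ((toSheafify (Scheme.ProEt.topology X) F).naturality
        (MorphismProperty.Over.homMk (Wk k).ι :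
          Scheme.ProEt.mk ((Wk k).ι ≫ W.hom) ⟶ W).op) s
      dsimp at hnat
      refine Eq.trans ?_ (hsk k)
      rw [← hs k]
      exact hnat.symm

theorem main7285 {X Y : Scheme.{u}} (f : X ⟶ Y) [ProEtS.PCont f]
    (F : Sheaf (Scheme.ProEt.topology Y) (Type (u + 1))) (W : X.ProEt) [IsAffine W.left]
    (hW : ProEtS.IsWC W) :
    Function.Bijective
      ((toSheafify (Scheme.ProEt.topology X) ((ProEtS.bcP f).op.lan.obj F.obj)).app (op W)) :=
  bijective_toSheafify_of_prod _ W hW
    (fun Wk hdisj hcov x => existsUnique_lan f F W Wk hdisj hcov x)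

end Groth.Agent.Lib.LanProdH3
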