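import Mathlib

set_option autoImplicit false

/-! Left Kan extension `u_!` on presheaves of sets along a faithful functor `u` all of whose slice
functors `C/X ⥤ C'/uX` are fully faithful: the unit is a monomorphism and its naturality squares
are cartesian. -/

namespace Groth.Agent.Lib.LanSliceH8
open CategoryTheory CategoryTheory.Limits Opposite
universe u

variable {C : Type u} [SmallCategory C] {C' : Type u} [SmallCategory C'] (u : C ⥤ C')

/-- the unit `H ⟶ u^* u_! H`, with clean types -/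
noncomputable def eta (H : Cᵒᵖ ⥤ Type u) : H ⟶ u.op ⋙ u.op.lan.obj H := u.op.lanUnit.app H

lemma eta_naturality_apply (H : Cᵒᵖ ⥤ Type u) {X Y : C} (g : Y ⟶ X) (x : H.obj (op X)) :
    (eta u H).app (op Y) (H.map g.op x) =
      (u.op.lan.obj H).map (u.map g).op ((eta u H).app (op X) x) :=
  NatTrans.naturality_apply (eta u H) g.op x

lemma eta_lan_map_apply {H K : Cᵒᵖ ⥤ Type u} (α : H ⟶ K) (W : Cᵒᵖ) (x : H.obj W) :
    (u.op.lan.map α).app (u.op.obj W) ((eta u H).app W x) = (eta u K).app W (α.app W x) := by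
  have h := u.op.lanUnit.naturality α
  have h2 := congrArg (fun φ => (φ.app W) x) h
  exact h2.symm

/-- the pointwise colimit cocone computing `(u_! H)(X')` -/
noncomputable def coc (H : Cᵒᵖ ⥤ Type u) (X' : C'ᵒᵖ) :
    Cocone (CostructuredArrow.proj u.op X' ⋙ H) :=
  (Functor.LeftExtension.mk _ (u.op.leftKanExtensionUnit H)).coconeAt X'

noncomputable def cocIsColimit (H : Cᵒᵖ ⥤ Type u) (X' : C'ᵒᵖ) : IsColimit (coc u H X') :=
  Functor.isPointwiseLeftKanExtensionLeftKanExtensionUnit u.op H X'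

lemma coc_ι_apply (H : Cᵒᵖ ⥤ Type u) (X' : C'ᵒᵖ) (j : CostructuredArrow u.op X')
    (x : H.obj j.left) :
    (coc u H X').ι.app j x = (u.op.lan.obj H).map j.hom ((eta u H).app j.left x) := rfl

lemma lan_map_coc_ι_apply {H K : Cᵒᵖ ⥤ Type u} (α : H ⟶ K) (X' : C'ᵒᵖ)
    (j : CostructuredArrow u.op X') (x : H.obj j.left) :
    (u.op.lan.map α).app X' ((coc u H X').ι.app j x) = (coc u K X').ι.app j (α.app j.left x) := by
  rw [coc_ι_apply, coc_ι_apply, ← eta_lan_map_apply]
  exact NatTrans.naturality_apply (u.op.lan.map α) j.hom ((eta u H).app j.left x)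

section slice
variable [u.Faithful] (hu : ∀ X : C, (Over.post (X := X) u).Full)
variable (H : Cᵒᵖ ⥤ Type u) (Y : C)

open Classical in
/-- the legs of the retraction cocone -/
noncomputable def leg (j : CostructuredArrow u.op (op (u.obj Y))) :
    H.obj j.left → Option (H.obj (op Y)) := fun x =>
  if h : ∃ g : Y ⟶ j.left.unop, u.map g = j.hom.unop then some (H.map h.choose.op x) else none

lemma leg_eq_some (j : CostructuredArrow u.op (op (u.obj Y))) (x : H.obj j.left)
    (g : Y ⟶ j.left.unop) (hg : u.map g = j.hom.unop) : leg u H Y j x = some (H.map g.op x) := by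
  have h : ∃ g : Y ⟶ j.left.unop, u.map g = j.hom.unop := ⟨g, hg⟩
  unfold leg
  rw [dif_pos h]
  have : h.choose = g := u.map_injective (h.choose_spec.trans hg.symm)
  rw [this]

lemma leg_eq_none (j : CostructuredArrow u.op (op (u.obj Y))) (x : H.obj j.left)
    (h : ¬ ∃ g : Y ⟶ j.left.unop, u.map g = j.hom.unop) : leg u H Y j x = none := by
  unfold leg
  rw [dif_neg h]

include hu in
lemma leg_naturality {j₁ j₂ : CostructuredArrow u.op (op (u.obj Y))} (m : j₁ ⟶ j₂)
    (x : H.obj j₁.left) : leg u H Y j₂ (H.map m.left x) = leg u H Y j₁ x := by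
  have hw : j₂.hom.unop ≫ u.map m.left.unop = j₁.hom.unop := by
    have := CostructuredArrow.w m
    exact congrArg Quiver.Hom.unop this
  by_cases h2 : ∃ g : Y ⟶ j₂.left.unop, u.map g = j₂.hom.unop
  · obtain ⟨g₂, hg₂⟩ := h2
    have hg₁ : u.map (g₂ ≫ m.left.unop) = j₁.hom.unop := by
      rw [u.map_comp, hg₂, hw]
    rw [leg_eq_some u H Y j₂ _ g₂ hg₂, leg_eq_some u H Y j₁ _ (g₂ ≫ m.left.unop) hg₁]
    congr 1
    have e : H.map (g₂ ≫ m.left.unop).op = H.map m.left ≫ H.map g₂.op := by
      rw [← H.map_comp]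
      rfl
    rw [e]
    rfl
  · by_cases h1 : ∃ g : Y ⟶ j₁.left.unop, u.map g = j₁.hom.unop
    · exfalso
      obtain ⟨g₁, hg₁⟩ := h1
      haveI := hu j₁.left.unop
      let φ' : (Over.post u).obj (Over.mk g₁) ⟶ (Over.post u).obj (Over.mk m.left.unop) :=
        Over.homMk j₂.hom.unop (by
          show j₂.hom.unop ≫ u.map m.left.unop = u.map g₁
          rw [hw, hg₁])
      obtain ⟨φ, hφ⟩ := (Over.post (X := j₁.left.unop) u).map_surjective φ'
      exact h2 ⟨φ.left, congrArg (fun ψ => ψ.left) hφ⟩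
    · rw [leg_eq_none u H Y j₂ _ h2, leg_eq_none u H Y j₁ _ h1]

/-- the retraction cocone -/
noncomputable def retrCocone : Cocone (CostructuredArrow.proj u.op (op (u.obj Y)) ⋙ H) where
  pt := Option (H.obj (op Y))
  ι :=
    { app := fun j => ↾(leg u H Y j)
      naturality := by
        intro j₁ j₂ m
        ext x
        exact leg_naturality u hu H Y m x }

/-- the retraction `(u_! H)(uY) ⟶ Option (H Y)` -/
noncomputable def retr : (u.op.lan.obj H).obj (op (u.obj Y)) ⟶ Option (H.obj (op Y)) :=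
  (cocIsColimit u H (op (u.obj Y))).desc (retrCocone u hu H Y)

lemma retr_coc_ι (j : CostructuredArrow u.op (op (u.obj Y))) (x : H.obj j.left) :
    retr u hu H Y ((coc u H (op (u.obj Y))).ι.app j x) = leg u H Y j x := by
  have := (cocIsColimit u H (op (u.obj Y))).fac (retrCocone u hu H Y) j
  exact congrArg (fun φ => φ x) this

/-- the index of the unit -/
def j0 : CostructuredArrow u.op (op (u.obj Y)) := CostructuredArrow.mk (Y := op Y) (𝟙 _)

lemma coc_ι_j0 (x : H.obj (op Y)) :
    (coc u H (op (u.obj Y))).ι.app (j0 u Y) x = (eta u H).app (op Y) x := by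
  rw [coc_ι_apply]
  show (u.op.lan.obj H).map (𝟙 _) _ = _
  rw [CategoryTheory.Functor.map_id]
  rfl

lemma retr_eta (x : H.obj (op Y)) : retr u hu H Y ((eta u H).app (op Y) x) = some x := by
  rw [← coc_ι_j0, retr_coc_ι, leg_eq_some u H Y (j0 u Y) x (𝟙 Y) (u.map_id Y)]
  congr 1
  show H.map (𝟙 (op Y)) x = x
  rw [CategoryTheory.Functor.map_id]
  rfl

include hu in
lemma eta_injective : Function.Injective ((eta u H).app (op Y)) := by
  intro x x' h
  have := congrArg (retr u hu H Y) h
  rw [retr_eta, retr_eta] at this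
  exact Option.some.inj this

include hu in
lemma exists_of_lan_map_eq {K : Cᵒᵖ ⥤ Type u} (α : H ⟶ K)
    (ξ : (u.op.lan.obj H).obj (op (u.obj Y))) (k : K.obj (op Y))
    (hξ : (u.op.lan.map α).app (op (u.obj Y)) ξ = (eta u K).app (op Y) k) :
    ∃ h : H.obj (op Y), (eta u H).app (op Y) h = ξ ∧ α.app (op Y) h = k := by
  obtain ⟨j, x, hx⟩ := Types.jointly_surjective_of_isColimit (cocIsColimit u H (op (u.obj Y))) ξ
  have h1 : leg u K Y j (α.app j.left x) = some k := by
    rw [← retr_coc_ι u hu K Y, ← lan_map_coc_ι_apply, hx, hξ, retr_eta]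
  by_cases hg : ∃ g : Y ⟶ j.left.unop, u.map g = j.hom.unop
  · obtain ⟨g, hg⟩ := hg
    rw [leg_eq_some u K Y j _ g hg] at h1
    have h1' : K.map g.op (α.app j.left x) = k := Option.some.inj h1
    refine ⟨H.map g.op x, ?_, ?_⟩
    · rw [← hx, coc_ι_apply]
      have := eta_naturality_apply u H g x
      rw [this, hg]
      rfl
    · rw [← h1']
      exact NatTrans.naturality_apply α g.op x
  · rw [leg_eq_none u K Y j _ hg] at h1
    exact absurd h1 (by simp)

end slice

end Groth.Agent.Lib.LanSliceH8
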