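import Mathlib
import Groth.Prelude.Def_GSzH1

/-!
# Locally constant cocycles of the absolute Galois group of a finite field (helper1)
-/

set_option autoImplicit false
set_option maxHeartbeats 1000000

universe u v

namespace Groth.Agent.Lib.LangCocycleH1

open GpH1

section

variable (k : Type u) [Field k] [Finite k]

/-- the absolute Galois group. -/
abbrev Gam (k : Type u) [Field k] := (AlgebraicClosure k ≃ₐ[k] AlgebraicClosure k)

lemma pi_pow_apply (π : Gam k) (hπ : ∀ x : AlgebraicClosure k, π x = x ^ Nat.card k) (m : ℕ) (x : AlgebraicClosure k) :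
    (π ^ m) x = x ^ (Nat.card k ^ m) := by
  induction m generalizing x with
  | zero => simp
  | succ m ih => rw [pow_succ, AlgEquiv.mul_apply, hπ, ih, ← pow_mul, pow_succ, mul_comm]

lemma pow_card_pow_finrank (E : IntermediateField k (AlgebraicClosure k)) [FiniteDimensional k E] (x : AlgebraicClosure k)
    (hx : x ∈ E) : x ^ (Nat.card k ^ Module.finrank k E) = x := by
  haveI : Finite E := Module.finite_of_finite k
  haveI : Fintype E := Fintype.ofFinite E
  have h := FiniteField.pow_card (⟨x, hx⟩ : E)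
  rw [Fintype.card_eq_nat_card, Module.natCard_eq_pow_finrank (K := k)] at h
  have h2 := congrArg (fun y : E => (y : AlgebraicClosure k)) h
  simpa using h2

lemma exists_pow_eq_on (π : Gam k) (hπ : ∀ x : AlgebraicClosure k, π x = x ^ Nat.card k)
    (E : IntermediateField k (AlgebraicClosure k)) [FiniteDimensional k E] (σ : Gam k) :
    ∃ m : ℕ, ∀ x ∈ E, σ x = (π ^ m) x := by
  haveI : Finite E := Module.finite_of_finite k
  haveI : Fintype k := Fintype.ofFinite k
  obtain ⟨n, hn⟩ :=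
    (FiniteField.bijective_frobeniusAlgEquivOfAlgebraic_pow k E).2 (σ.restrictNormal E)
  have hn' : FiniteField.frobeniusAlgEquivOfAlgebraic k E ^ n.1 = σ.restrictNormal E := hn
  refine ⟨n.1, fun x hx => ?_⟩
  have h1 := AlgEquiv.restrictNormal_commutes σ E ⟨x, hx⟩
  have h2 : σ.restrictNormal E ⟨x, hx⟩ = (⟨x, hx⟩ : E) ^ (Fintype.card k ^ n.1) := by
    rw [← hn', AlgEquiv.coe_pow, FiniteField.coe_frobeniusAlgEquivOfAlgebraic_iterate]
  have h3 : σ x = ((σ.restrictNormal E ⟨x, hx⟩ : E) : AlgebraicClosure k) := h1.symm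
  rw [h3, h2, pi_pow_apply k π hπ, Nat.card_eq_fintype_card]
  rfl

lemma exists_pow_mem_of_isOpen (π : Gam k) (hπ : ∀ x : AlgebraicClosure k, π x = x ^ Nat.card k)
    (V : Set (Gam k)) (hV : IsOpen V) (σ : Gam k) (hσ : σ ∈ V) : ∃ m : ℕ, π ^ m ∈ V := by
  have h1 : (fun τ : Gam k => σ * τ) ⁻¹' V ∈ nhds (1 : Gam k) := by
    apply IsOpen.mem_nhds (hV.preimage (continuous_const_mul σ))
    show σ * 1 ∈ V
    rwa [mul_one]
  obtain ⟨E, hE, hsub⟩ := (krullTopology_mem_nhds_one_iff k (AlgebraicClosure k) _).mp h1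
  haveI := hE
  obtain ⟨m, hm⟩ := exists_pow_eq_on k π hπ E σ
  refine ⟨m, ?_⟩
  have h2 : σ⁻¹ * π ^ m ∈ E.fixingSubgroup := by
    rw [IntermediateField.mem_fixingSubgroup_iff]
    intro x hx
    rw [AlgEquiv.mul_apply, ← hm x hx, ← AlgEquiv.mul_apply, inv_mul_cancel, AlgEquiv.one_apply]
  have h3 : σ * (σ⁻¹ * π ^ m) ∈ V := hsub h2
  have h4 : σ * (σ⁻¹ * π ^ m) = π ^ m := by group
  rw [← h4]; exact h3

variable {A : Type v} [Group A] [MulDistribMulAction (Gam k) A]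

lemma cocycle_one (z : Gam k → A) (hz : IsOneCocycle z) : z 1 = 1 := by
  have h := hz 1 1
  rw [mul_one, one_smul] at h
  calc z 1 = (z 1)⁻¹ * (z 1 * z 1) := by group
    _ = (z 1)⁻¹ * z 1 := by rw [← h]
    _ = 1 := inv_mul_cancel _

lemma cocycle_pow_eq (π : Gam k) (z z' : Gam k → A) (hz : IsOneCocycle z) (hz' : IsOneCocycle z')
    (h : z π = z' π) (m : ℕ) : z (π ^ m) = z' (π ^ m) := by
  induction m with
  | zero => rw [pow_zero, cocycle_one k z hz, cocycle_one k z' hz']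
  | succ m ih => rw [pow_succ, hz, hz', ih, h]

lemma eq_of_apply_pi_eq (π : Gam k) (hπ : ∀ x : AlgebraicClosure k, π x = x ^ Nat.card k) (z z' : Gam k → A)
    (hz : IsOneCocycle z) (hz' : IsOneCocycle z') (hlc : IsLocallyConstant z)
    (hlc' : IsLocallyConstant z') (h : z π = z' π) : z = z' := by
  funext σ
  have hV : IsOpen ({τ | z τ = z σ} ∩ {τ | z' τ = z' σ}) :=
    (hlc.isOpen_fiber _).inter (hlc'.isOpen_fiber _)
  obtain ⟨m, hm⟩ := exists_pow_mem_of_isOpen k π hπ _ hV σ ⟨rfl, rfl⟩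
  have h1 : z (π ^ m) = z σ := hm.1
  have h2 : z' (π ^ m) = z' σ := hm.2
  rw [← h1, ← h2, cocycle_pow_eq k π z z' hz hz' h m]

/-- the norm sequence `a · π(a) ⋯ π^{m-1}(a)`. -/
noncomputable def Nseq (π : Gam k) (a : A) : ℕ → A
  | 0 => 1
  | m + 1 => Nseq π a m * (π ^ m) • a

lemma Nseq_mem (π : Gam k) (a : A) (H : Subgroup A) (hst : ∀ (σ : Gam k) (x : A), x ∈ H → σ • x ∈ H)
    (ha : a ∈ H) : ∀ m, Nseq k π a m ∈ H
  | 0 => H.one_mem
  | m + 1 => H.mul_mem (Nseq_mem π a H hst ha m) (hst _ _ ha)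

lemma Nseq_add (π : Gam k) (a : A) (m : ℕ) :
    ∀ m', Nseq k π a (m + m') = Nseq k π a m * (π ^ m) • Nseq k π a m'
  | 0 => by
    show Nseq k π a m = Nseq k π a m * (π ^ m) • (1 : A)
    rw [smul_one, mul_one]
  | m' + 1 => by
    show Nseq k π a (m + m') * (π ^ (m + m')) • a =
      Nseq k π a m * (π ^ m) • (Nseq k π a m' * (π ^ m') • a)
    rw [Nseq_add π a m m', smul_mul', ← mul_smul, ← pow_add, mul_assoc]

lemma pow_mul_smul_eq (π : Gam k) (H : Subgroup A) (d : ℕ) (hd : ∀ h ∈ H, (π ^ d) • h = h) :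
    ∀ j : ℕ, ∀ h ∈ H, (π ^ (j * d)) • h = h
  | 0 => fun h _ => by rw [zero_mul, pow_zero, one_smul]
  | j + 1 => fun h hh => by
    rw [Nat.succ_mul, pow_add, mul_smul, hd h hh, pow_mul_smul_eq π H d hd j h hh]

lemma Nseq_mul (π : Gam k) (a : A) (H : Subgroup A) (d : ℕ) (hd : ∀ h ∈ H, (π ^ d) • h = h)
    (hb : Nseq k π a d ∈ H) : ∀ j : ℕ, Nseq k π a (j * d) = (Nseq k π a d) ^ j
  | 0 => by rw [zero_mul, pow_zero]; rfl
  | j + 1 => by
    rw [Nat.succ_mul, Nseq_add, Nseq_mul π a H d hd hb j, pow_mul_smul_eq k π H d hd j _ hb,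
      pow_succ]

lemma Nseq_periodic (π : Gam k) (a : A) (H : Subgroup A) (M : ℕ)
    (hM : ∀ h ∈ H, (π ^ M) • h = h) (hN : Nseq k π a M = 1) (hmem : ∀ m, Nseq k π a m ∈ H) :
    ∀ j m : ℕ, Nseq k π a (j * M + m) = Nseq k π a m
  | 0, m => by rw [zero_mul, zero_add]
  | j + 1, m => by
    have e : (j + 1) * M + m = M + (j * M + m) := by ring
    rw [e, Nseq_add, hN, one_mul, hM _ (hmem _), Nseq_periodic π a H M hM hN hmem j m]

/-- existence of a locally constant cocycle with prescribed value at the Frobenius. -/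
theorem exists_cocycle (π : Gam k) (hπ : ∀ x : AlgebraicClosure k, π x = x ^ Nat.card k)
    (hcont : ∀ a : A, IsOpen {σ : Gam k | σ • a = a}) (a : A) (H : Subgroup A)
    (hHfin : (H : Set A).Finite) (haH : a ∈ H)
    (hst : ∀ (σ : Gam k) (x : A), x ∈ H → σ • x ∈ H) :
    ∃ z : Gam k → A, IsOneCocycle z ∧ IsLocallyConstant z ∧ z π = a := by
  classical
  have hopen : IsOpen (⋂ x ∈ (H : Set A), {σ : Gam k | σ • x = x}) :=
    hHfin.isOpen_biInter (fun x _ => hcont x)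
  have h1mem : (1 : Gam k) ∈ ⋂ x ∈ (H : Set A), {σ : Gam k | σ • x = x} := by
    simp only [Set.mem_iInter, Set.mem_setOf_eq]
    intro x _; exact one_smul _ x
  obtain ⟨E, hEfd, hEsub⟩ := (krullTopology_mem_nhds_one_iff k (AlgebraicClosure k) _).mp (hopen.mem_nhds h1mem)
  haveI := hEfd
  have hEtriv : ∀ σ ∈ E.fixingSubgroup, ∀ x ∈ H, σ • x = x := by
    intro σ hσ x hx
    have h0 := hEsub hσ
    simp only [Set.mem_iInter, Set.mem_setOf_eq] at h0
    exact h0 x hx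
  obtain ⟨d, hd⟩ : ∃ d, d = Module.finrank k E := ⟨_, rfl⟩
  have hd0 : 0 < d := by rw [hd]; exact Module.finrank_pos
  have hπd : π ^ d ∈ E.fixingSubgroup := by
    rw [IntermediateField.mem_fixingSubgroup_iff]
    intro x hx
    rw [pi_pow_apply k π hπ, hd, pow_card_pow_finrank k E x hx]
  have hdtriv : ∀ h ∈ H, (π ^ d) • h = h := fun h hh => hEtriv _ hπd h hh
  have hNmem := Nseq_mem k π a H hst haH
  -- the element b and its order
  haveI : Finite H := hHfin.to_subtype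
  obtain ⟨o, ho⟩ : ∃ o, o = orderOf (⟨Nseq k π a d, hNmem d⟩ : H) := ⟨_, rfl⟩
  have ho0 : 0 < o := by rw [ho]; exact orderOf_pos _
  have hbo : (Nseq k π a d) ^ o = 1 := by
    have h0 := pow_orderOf_eq_one (⟨Nseq k π a d, hNmem d⟩ : H)
    rw [← ho] at h0
    have h2 := congrArg (fun y : H => (y : A)) h0
    simpa using h2
  obtain ⟨M, hMdef⟩ : ∃ M, M = o * d := ⟨_, rfl⟩
  have hM0 : 0 < M := by rw [hMdef]; exact Nat.mul_pos ho0 hd0
  have hMtriv : ∀ h ∈ H, (π ^ M) • h = h := by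
    rw [hMdef]; exact pow_mul_smul_eq k π H d hdtriv o
  have hNM : Nseq k π a M = 1 := by
    rw [hMdef, Nseq_mul k π a H d hdtriv (hNmem d) o, hbo]
  have hper := Nseq_periodic k π a H M hMtriv hNM hNmem
  -- the extension of degree M
  obtain ⟨p, hp⟩ := CharP.exists k
  haveI := hp
  haveI : Fact p.Prime := ⟨CharP.char_is_prime k p⟩
  haveI : NeZero M := ⟨hM0.ne'⟩
  obtain ⟨φ⟩ : Nonempty (FiniteField.Extension k p M →ₐ[k] AlgebraicClosure k) := ⟨IsAlgClosed.lift⟩
  haveI : Finite φ.fieldRange :=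
    Finite.of_surjective
      (fun y : FiniteField.Extension k p M =>
        (⟨φ y, AlgHom.mem_fieldRange.mpr ⟨y, rfl⟩⟩ : φ.fieldRange)) (by
      rintro ⟨x, hx⟩
      obtain ⟨y, rfl⟩ := AlgHom.mem_fieldRange.mp hx
      exact ⟨y, rfl⟩)
  haveI : FiniteDimensional k φ.fieldRange := Module.Finite.of_finite
  obtain ⟨E'', hE''⟩ : ∃ F : IntermediateField k (AlgebraicClosure k), F = E ⊔ φ.fieldRange := ⟨_, rfl⟩
  haveI : FiniteDimensional k E'' := by rw [hE'']; infer_instance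
  have hEle : E ≤ E'' := by rw [hE'']; exact le_sup_left
  have hE'le : φ.fieldRange ≤ E'' := by rw [hE'']; exact le_sup_right
  have hC1 : ∀ r : ℕ, (∀ x ∈ E'', (π ^ r) x = x) → M ∣ r := by
    intro r hr
    haveI : Fintype k := Fintype.ofFinite k
    have h0 := FiniteField.orderOf_frobeniusAlgEquivOfAlgebraic k (FiniteField.Extension k p M)
    rw [FiniteField.finrank_extension] at h0
    rw [← h0]
    apply orderOf_dvd_of_pow_eq_one
    ext y
    rw [AlgEquiv.coe_pow, FiniteField.coe_frobeniusAlgEquivOfAlgebraic_iterate, AlgEquiv.one_apply]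
    apply φ.toRingHom.injective
    show φ (y ^ (Fintype.card k ^ r)) = φ y
    rw [map_pow, ← Nat.card_eq_fintype_card, ← pi_pow_apply k π hπ]
    exact hr _ (hE'le (AlgHom.mem_fieldRange.mpr ⟨y, rfl⟩))
  -- E'' is stable under π^m
  have hstab : ∀ (m : ℕ) (x : AlgebraicClosure k), x ∈ E'' → (π ^ m) x ∈ E'' := by
    intro m x hx
    rw [pi_pow_apply k π hπ]; exact pow_mem hx _
  -- well-definedness
  have key' : ∀ m s : ℕ, (∀ x ∈ E'', (π ^ (m + s)) x = (π ^ m) x) →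
      Nseq k π a (m + s) = Nseq k π a m := by
    intro m s h
    have hs : M ∣ s := by
      apply hC1
      intro x hx
      have h0 := h x hx
      rw [pow_add, AlgEquiv.mul_apply] at h0
      exact (π ^ m).injective h0
    obtain ⟨j, rfl⟩ := hs
    rw [add_comm, mul_comm, hper]
  have key : ∀ m r : ℕ, (∀ x ∈ E'', (π ^ m) x = (π ^ r) x) →
      Nseq k π a m = Nseq k π a r := by
    intro m r h
    rcases le_total m r with hmr | hmr
    · obtain ⟨s, rfl⟩ := Nat.exists_eq_add_of_le hmr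
      exact (key' m s (fun x hx => (h x hx).symm)).symm
    · obtain ⟨s, rfl⟩ := Nat.exists_eq_add_of_le hmr
      exact key' r s h
  have hact : ∀ (σ : Gam k) (m : ℕ), (∀ x ∈ E'', σ x = (π ^ m) x) → ∀ h ∈ H, σ • h = (π ^ m) • h := by
    intro σ m hσ h hh
    have hτ : (π ^ m)⁻¹ * σ ∈ E.fixingSubgroup := by
      rw [IntermediateField.mem_fixingSubgroup_iff]
      intro x hx
      rw [AlgEquiv.mul_apply, hσ x (hEle hx), ← AlgEquiv.mul_apply, inv_mul_cancel,
        AlgEquiv.one_apply]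
    have h0 := hEtriv _ hτ h hh
    rw [mul_smul] at h0
    exact inv_smul_eq_iff.mp h0
  choose mm hmm using fun σ : Gam k => exists_pow_eq_on k π hπ E'' σ
  refine ⟨fun σ => Nseq k π a (mm σ), ?_, ?_, ?_⟩
  · -- cocycle
    intro σ τ
    show Nseq k π a (mm (σ * τ)) = Nseq k π a (mm σ) * σ • Nseq k π a (mm τ)
    have h1 : ∀ x ∈ E'', (π ^ mm (σ * τ)) x = (π ^ (mm σ + mm τ)) x := by
      intro x hx
      rw [← hmm (σ * τ) x hx, AlgEquiv.mul_apply, hmm τ x hx, hmm σ _ (hstab _ _ hx), pow_add,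
        AlgEquiv.mul_apply]
    rw [key _ _ h1, Nseq_add, hact σ (mm σ) (hmm σ) _ (hNmem _)]
  · -- locally constant
    rw [IsLocallyConstant.iff_exists_open]
    intro σ
    refine ⟨(fun τ : Gam k => σ⁻¹ * τ) ⁻¹' (E''.fixingSubgroup : Set (Gam k)),
      (E''.fixingSubgroup_isOpen).preimage (continuous_const_mul σ⁻¹), ?_, ?_⟩
    · show σ⁻¹ * σ ∈ E''.fixingSubgroup
      rw [inv_mul_cancel]; exact Subgroup.one_mem _
    · intro σ' hσ'
      have h0 : σ⁻¹ * σ' ∈ E''.fixingSubgroup := hσ'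
      rw [IntermediateField.mem_fixingSubgroup_iff] at h0
      show Nseq k π a (mm σ') = Nseq k π a (mm σ)
      apply key
      intro x hx
      rw [← hmm σ' x hx, ← hmm σ x hx]
      have h2 := h0 x hx
      rw [AlgEquiv.mul_apply] at h2
      have h3 := congrArg σ h2
      rw [← AlgEquiv.mul_apply, mul_inv_cancel, AlgEquiv.one_apply] at h3
      exact h3
  · -- value at π
    show Nseq k π a (mm π) = a
    have h1 : ∀ x ∈ E'', (π ^ mm π) x = (π ^ 1) x := by
      intro x hx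
      rw [← hmm π x hx, pow_one]
    rw [key _ _ h1]
    show Nseq k π a 0 * (π ^ 0) • a = a
    rw [pow_zero, one_smul]
    show (1 : A) * a = a
    rw [one_mul]

theorem main14195 (π : AlgebraicClosure k ≃ₐ[k] AlgebraicClosure k)
    (hπ : ∀ x : AlgebraicClosure k, π x = x ^ Nat.card k)
    (A : Type v) [Group A] [MulDistribMulAction (AlgebraicClosure k ≃ₐ[k] AlgebraicClosure k) A]
    (hcont : ∀ a : A, IsOpen {σ : AlgebraicClosure k ≃ₐ[k] AlgebraicClosure k | σ • a = a})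
    (hfin : ∀ a : A, ∃ H : Subgroup A, (H : Set A).Finite ∧ a ∈ H ∧
      ∀ (σ : AlgebraicClosure k ≃ₐ[k] AlgebraicClosure k) (x : A), x ∈ H → σ • x ∈ H) :
    Function.Bijective
        (fun z : GpH1.OneCocycleLC (AlgebraicClosure k ≃ₐ[k] AlgebraicClosure k) A => z.1 π) ∧
      ∀ z z' : GpH1.OneCocycleLC (AlgebraicClosure k ≃ₐ[k] AlgebraicClosure k) A,
        z.cl = z'.cl ↔ ∃ g : A, z'.1 π = g * z.1 π * (π • g)⁻¹ := by
  refine ⟨⟨?_, ?_⟩, ?_⟩
  · intro z z' h
    have h' : z.1.1 π = z'.1.1 π := h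
    have hfun := eq_of_apply_pi_eq k π hπ z.1.1 z'.1.1 z.1.2 z'.1.2 z.2 z'.2 h'
    exact Subtype.ext (Subtype.ext hfun)
  · intro a
    obtain ⟨H, hHfin, haH, hst⟩ := hfin a
    obtain ⟨z, hz, hlc, hza⟩ := exists_cocycle k π hπ hcont a H hHfin haH hst
    exact ⟨⟨⟨z, hz⟩, hlc⟩, hza⟩
  · intro z z'
    rw [OneCocycleLC.cl_eq_cl_iff]
    constructor
    · rintro ⟨c, hc⟩
      refine ⟨c, ?_⟩
      have h0 : z.1.1 π = c⁻¹ * z'.1.1 π * π • c := hc π
      show z'.1.1 π = c * z.1.1 π * (π • c)⁻¹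
      rw [h0]; group
    · rintro ⟨g, hg⟩
      have hg' : z'.1.1 π = g * z.1.1 π * (π • g)⁻¹ := hg
      refine ⟨g, ?_⟩
      have hz'' : IsOneCocycle (fun σ => g⁻¹ * z'.1.1 σ * σ • g) := by
        intro σ τ
        show g⁻¹ * z'.1.1 (σ * τ) * (σ * τ) • g =
          g⁻¹ * z'.1.1 σ * σ • g * σ • (g⁻¹ * z'.1.1 τ * τ • g)
        rw [z'.1.2 σ τ, smul_mul', smul_mul', smul_inv', mul_smul]
        group
      have hlc'' : IsLocallyConstant (fun σ => g⁻¹ * z'.1.1 σ * σ • g) := by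
        rw [IsLocallyConstant.iff_exists_open]
        intro σ
        refine ⟨{τ | z'.1.1 τ = z'.1.1 σ} ∩ (fun τ : Gam k => σ⁻¹ * τ) ⁻¹' {ρ | ρ • g = g},
          (z'.2.isOpen_fiber _).inter ((hcont g).preimage (continuous_const_mul σ⁻¹)), ⟨rfl, ?_⟩, ?_⟩
        · show (σ⁻¹ * σ) • g = g
          rw [inv_mul_cancel, one_smul]
        · rintro τ ⟨h1, h2⟩
          have h1' : z'.1.1 τ = z'.1.1 σ := h1
          have h2' : (σ⁻¹ * τ) • g = g := h2
          rw [mul_smul] at h2'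
          have h3 : τ • g = σ • g := inv_smul_eq_iff.mp h2'
          show g⁻¹ * z'.1.1 τ * τ • g = g⁻¹ * z'.1.1 σ * σ • g
          rw [h1', h3]
      have hval : (fun σ => g⁻¹ * z'.1.1 σ * σ • g) π = z.1.1 π := by
        show g⁻¹ * z'.1.1 π * π • g = z.1.1 π
        rw [hg']; group
      have hfun := eq_of_apply_pi_eq k π hπ _ z.1.1 hz'' z.1.2 hlc'' z.2 hval
      intro σ
      exact (congrFun hfun σ).symm

end

end Groth.Agent.Lib.LangCocycleH1
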