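import Mathlib

/-!
# Lang twist on conjugacy classes of fixed points (helper1)
-/

set_option autoImplicit false

namespace Groth.Agent.Lib.LangTwistH1

universe u

theorem main8625 {G : Type u} [Group G] (F : G →* G)
    (hL : Function.Surjective fun g : G => F g * g⁻¹) :
    (∀ g : G, F (F g * g⁻¹) = F g * g⁻¹ → F (g⁻¹ * F g) = g⁻¹ * F g) ∧
    ∃ φ : ConjClasses ↥(F.eqLocus (MonoidHom.id G)) → ConjClasses ↥(F.eqLocus (MonoidHom.id G)),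
      Function.Bijective φ ∧
      ∀ (g : G) (h : F (F g * g⁻¹) = F g * g⁻¹) (h' : F (g⁻¹ * F g) = g⁻¹ * F g),
        φ (ConjClasses.mk (⟨F g * g⁻¹, h⟩ : ↥(F.eqLocus (MonoidHom.id G)))) =
          ConjClasses.mk (⟨g⁻¹ * F g, h'⟩ : ↥(F.eqLocus (MonoidHom.id G))) := by
  classical
  have hi : ∀ g : G, F (F g * g⁻¹) = F g * g⁻¹ → F (g⁻¹ * F g) = g⁻¹ * F g := by
    intro g h
    rw [map_mul, map_inv] at h ⊢
    have hFF : F (F g) = F g * g⁻¹ * F g := by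
      calc F (F g) = (F (F g) * (F g)⁻¹) * F g := by group
        _ = _ := by rw [h]
    rw [hFF]; group
  have hi' : ∀ g : G, F (g⁻¹ * F g) = g⁻¹ * F g → F (F g * g⁻¹) = F g * g⁻¹ := by
    intro g h
    rw [map_mul, map_inv] at h ⊢
    have hFF : F (F g) = F g * g⁻¹ * F g := by
      calc F (F g) = F g * ((F g)⁻¹ * F (F g)) := by group
        _ = _ := by rw [h]; group
    rw [hFF]; group
  refine ⟨hi, ?_⟩
  have hK1 : ∀ (g h : G) (hg : F (F g * g⁻¹) = F g * g⁻¹) (hh : F (F h * h⁻¹) = F h * h⁻¹)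
      (hg' : F (g⁻¹ * F g) = g⁻¹ * F g) (hh' : F (h⁻¹ * F h) = h⁻¹ * F h),
      IsConj (⟨F g * g⁻¹, hg⟩ : ↥(F.eqLocus (MonoidHom.id G))) ⟨F h * h⁻¹, hh⟩ →
        IsConj (⟨g⁻¹ * F g, hg'⟩ : ↥(F.eqLocus (MonoidHom.id G))) ⟨h⁻¹ * F h, hh'⟩ := by
    intro g h hg hh hg' hh' hconj
    rw [isConj_iff] at hconj ⊢
    obtain ⟨⟨c, hc⟩, hcab⟩ := hconj
    have hc' : F c = c := hc
    have hb : c * (F g * g⁻¹) * c⁻¹ = F h * h⁻¹ := congrArg Subtype.val hcab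
    have hFh : F h = c * F g * g⁻¹ * c⁻¹ * h := by
      calc F h = (F h * h⁻¹) * h := by group
        _ = (c * (F g * g⁻¹) * c⁻¹) * h := by rw [hb]
        _ = _ := by group
    have hw : F (h⁻¹ * c * g) = h⁻¹ * c * g := by
      rw [map_mul, map_mul, map_inv, hc', hFh]; group
    refine ⟨⟨h⁻¹ * c * g, hw⟩, Subtype.ext ?_⟩
    show h⁻¹ * c * g * (g⁻¹ * F g) * (h⁻¹ * c * g)⁻¹ = h⁻¹ * F h
    rw [hFh]; group
  have hK2 : ∀ (g h : G) (hg : F (F g * g⁻¹) = F g * g⁻¹) (hh : F (F h * h⁻¹) = F h * h⁻¹)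
      (hg' : F (g⁻¹ * F g) = g⁻¹ * F g) (hh' : F (h⁻¹ * F h) = h⁻¹ * F h),
      IsConj (⟨g⁻¹ * F g, hg'⟩ : ↥(F.eqLocus (MonoidHom.id G))) ⟨h⁻¹ * F h, hh'⟩ →
        IsConj (⟨F g * g⁻¹, hg⟩ : ↥(F.eqLocus (MonoidHom.id G))) ⟨F h * h⁻¹, hh⟩ := by
    intro g h hg hh hg' hh' hconj
    rw [isConj_iff] at hconj ⊢
    obtain ⟨⟨w, hw⟩, hwab⟩ := hconj
    have hw' : F w = w := hw
    have hb : w * (g⁻¹ * F g) * w⁻¹ = h⁻¹ * F h := congrArg Subtype.val hwab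
    have hFh : F h = h * w * g⁻¹ * F g * w⁻¹ := by
      calc F h = h * (h⁻¹ * F h) := by group
        _ = h * (w * (g⁻¹ * F g) * w⁻¹) := by rw [hb]
        _ = _ := by group
    have hc : F (h * w * g⁻¹) = h * w * g⁻¹ := by
      rw [map_mul, map_mul, map_inv, hw', hFh]; group
    refine ⟨⟨h * w * g⁻¹, hc⟩, Subtype.ext ?_⟩
    show h * w * g⁻¹ * (F g * g⁻¹) * (h * w * g⁻¹)⁻¹ = F h * h⁻¹
    rw [hFh]; group
  choose γ hγ using hL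
  have hγ' : ∀ a : G, F (γ a) * (γ a)⁻¹ = a := hγ
  have hga : ∀ a : ↥(F.eqLocus (MonoidHom.id G)),
      F (F (γ a) * (γ a)⁻¹) = F (γ a) * (γ a)⁻¹ := by
    intro a
    rw [hγ' a]; exact a.2
  have hea : ∀ a : ↥(F.eqLocus (MonoidHom.id G)),
      (⟨F (γ a) * (γ a)⁻¹, hga a⟩ : ↥(F.eqLocus (MonoidHom.id G))) = a :=
    fun a => Subtype.ext (hγ' a)
  let ψ : ↥(F.eqLocus (MonoidHom.id G)) → ↥(F.eqLocus (MonoidHom.id G)) :=
    fun a => ⟨(γ a)⁻¹ * F (γ a), hi (γ a) (hga a)⟩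
  have hwd : ∀ a b : ↥(F.eqLocus (MonoidHom.id G)), IsConj a b → IsConj (ψ a) (ψ b) := by
    intro a b hab
    apply hK1 (γ a) (γ b) (hga a) (hga b)
    rw [hea a, hea b]
    exact hab
  let φ : ConjClasses ↥(F.eqLocus (MonoidHom.id G)) → ConjClasses ↥(F.eqLocus (MonoidHom.id G)) :=
    Quotient.lift (fun a => ConjClasses.mk (ψ a))
      (fun a b hab => ConjClasses.mk_eq_mk_iff_isConj.2 (hwd a b hab))
  have hφmk : ∀ a, φ (ConjClasses.mk a) = ConjClasses.mk (ψ a) := fun _ => rfl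
  have hform : ∀ (g : G) (h : F (F g * g⁻¹) = F g * g⁻¹) (h' : F (g⁻¹ * F g) = g⁻¹ * F g),
      φ (ConjClasses.mk (⟨F g * g⁻¹, h⟩ : ↥(F.eqLocus (MonoidHom.id G)))) =
        ConjClasses.mk (⟨g⁻¹ * F g, h'⟩ : ↥(F.eqLocus (MonoidHom.id G))) := by
    intro g h h'
    rw [hφmk, ConjClasses.mk_eq_mk_iff_isConj]
    apply hK1 (γ (F g * g⁻¹)) g (hga ⟨F g * g⁻¹, h⟩) h
    rw [hea ⟨F g * g⁻¹, h⟩]
  refine ⟨φ, ⟨?_, ?_⟩, hform⟩
  · intro x y hxy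
    obtain ⟨a, rfl⟩ := ConjClasses.mk_surjective x
    obtain ⟨b, rfl⟩ := ConjClasses.mk_surjective y
    rw [hφmk, hφmk, ConjClasses.mk_eq_mk_iff_isConj] at hxy
    rw [ConjClasses.mk_eq_mk_iff_isConj]
    have h1 := hK2 (γ a) (γ b) (hga a) (hga b) (hi _ (hga a)) (hi _ (hga b)) hxy
    rw [hea a, hea b] at h1
    exact h1
  · intro y
    obtain ⟨b, rfl⟩ := ConjClasses.mk_surjective y
    obtain ⟨g, hg⟩ : ∃ g : G, g⁻¹ * F g = (b : G) := by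
      refine ⟨(γ ((b : G)⁻¹))⁻¹, ?_⟩
      have h1 := hγ' ((b : G)⁻¹)
      rw [map_inv, inv_inv]
      calc γ ((b : G)⁻¹) * (F (γ ((b : G)⁻¹)))⁻¹ = (F (γ ((b : G)⁻¹)) * (γ ((b : G)⁻¹))⁻¹)⁻¹ := by
            group
        _ = _ := by rw [h1, inv_inv]
    have h' : F (g⁻¹ * F g) = g⁻¹ * F g := by rw [hg]; exact b.2
    refine ⟨ConjClasses.mk ⟨F g * g⁻¹, hi' g h'⟩, ?_⟩
    rw [hform g (hi' g h') h']
    congr 1
    exact Subtype.ext hg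

end Groth.Agent.Lib.LangTwistH1
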