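import Mathlib

/-!
# ℓ-torsion of the cokernel of a Laplacian-like integer matrix (helper9, S2172)
-/

set_option autoImplicit false

namespace Groth.Agent.LapTors9

open Finset

section FieldPart

variable {F : Type*} [Field F] {n : ℕ}

theorem sum_pairs (G : Fin n → Fin n → F) (i : Fin n) :
    ∑ a, ∑ b, (if a < b then G a b * ((if i = a then 1 else 0) - (if i = b then 1 else 0)) else 0) =
      ∑ j, (if i < j then G i j else 0) - ∑ j, (if j < i then G j i else 0) := by
  have h1 : ∀ a b, (if a < b then G a b * ((if i = a then (1 : F) else 0) -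
      (if i = b then 1 else 0)) else 0) =
      (if i = a then (if a < b then G a b else 0) else 0) -
        (if i = b then (if a < b then G a b else 0) else 0) := by
    intro a b
    split_ifs <;> simp
  simp only [h1, Finset.sum_sub_distrib]
  congr 1
  · rw [Finset.sum_comm]
    refine Finset.sum_congr rfl (fun b _ => ?_)
    rw [Finset.sum_ite_eq]
    simp
  · refine Finset.sum_congr rfl (fun a _ => ?_)
    rw [Finset.sum_ite_eq]
    simp

theorem finrank_ker_le (Ab : Matrix (Fin n) (Fin n) F) (hsymm : ∀ i j, Ab i j = Ab j i)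
    (mb : Fin n → F) (hm : ∀ i, mb i ≠ 0) (hAm : Ab.mulVec mb = 0)
    (E : Finset (Fin n × Fin n)) (hE1 : ∀ p ∈ E, p.1 < p.2)
    (hE2 : ∀ i j, i < j → (i, j) ∉ E → Ab i j = 0) (hE3 : ∀ p ∈ E, Ab p.1 p.2 ≠ 0)
    (hconn : ∀ I : Finset (Fin n), I.Nonempty → I ≠ univ → ∃ i ∈ I, ∃ j ∉ I, Ab i j ≠ 0) :
    Module.finrank F (LinearMap.ker Ab.mulVecLin) + n ≤ E.card + 2 := by
  classical
  have hconst : ∀ q : Fin n → F, (∀ p ∈ E, q p.1 = q p.2) → ∀ i j, q i = q j := by
    intro q hq
    have key : ∀ i₀ i, q i = q i₀ := by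
      intro i₀
      by_contra hcon
      push Not at hcon
      obtain ⟨i₁, hi₁⟩ := hcon
      set I := univ.filter (fun i => q i = q i₀) with hI
      have hIne : I.Nonempty := ⟨i₀, by simp [hI]⟩
      have hIuniv : I ≠ univ := by
        intro h
        have : i₁ ∈ I := h ▸ mem_univ i₁
        simp only [hI, mem_filter, mem_univ, true_and] at this
        exact hi₁ this
      obtain ⟨i, hiI, j, hjI, hij⟩ := hconn I hIne hIuniv
      have hqi : q i = q i₀ := by simpa [hI] using hiI
      have hqj : q j ≠ q i₀ := by simpa [hI] using hjI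
      rcases lt_trichotomy i j with h | h | h
      · have hmem : (i, j) ∈ E := by
          by_contra hnot; exact hij (hE2 i j h hnot)
        have := hq _ hmem
        exact hqj (this.symm.trans hqi)
      · subst h; exact hqj hqi
      · have hmem : (j, i) ∈ E := by
          by_contra hnot; exact hij ((hsymm i j).trans (hE2 j i h hnot))
        have := hq _ hmem
        exact hqj (this.trans hqi)
    intro i j; rw [key j i]
  let cw : Fin n → Fin n → F := fun a b => mb a * Ab a b * mb b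
  have hcw_symm : ∀ a b, cw a b = cw b a := fun a b => by
    simp only [cw, hsymm a b]; ring
  have hcw_ne : ∀ p ∈ E, cw p.1 p.2 ≠ 0 := fun p hp =>
    mul_ne_zero (mul_ne_zero (hm _) (hE3 p hp)) (hm _)
  let N : Matrix (Fin n) E F := Matrix.of fun i e =>
    cw e.1.1 e.1.2 * ((if i = e.1.1 then 1 else 0) - (if i = e.1.2 then 1 else 0))
  have hNt : ∀ q : Fin n → F, N.transpose.mulVec q = 0 → ∀ p ∈ E, q p.1 = q p.2 := by
    intro q hq p hp
    have := congrFun hq ⟨p, hp⟩
    simp only [Matrix.mulVec, dotProduct, Matrix.transpose_apply, N, Matrix.of_apply,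
      Pi.zero_apply] at this
    have h2 : ∑ i, cw p.1 p.2 * ((if i = p.1 then 1 else 0) - (if i = p.2 then 1 else 0)) * q i =
        cw p.1 p.2 * (q p.1 - q p.2) := by
      simp only [mul_assoc, ← Finset.mul_sum, sub_mul, Finset.sum_sub_distrib, ite_mul, one_mul,
        zero_mul, Finset.sum_ite_eq', mem_univ, if_true]
    rw [h2] at this
    have := (mul_eq_zero.1 this).resolve_left (hcw_ne p hp)
    exact sub_eq_zero.1 this
  have hker1 : Module.finrank F (LinearMap.ker N.transpose.mulVecLin) ≤ 1 := by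
    have hle : LinearMap.ker N.transpose.mulVecLin ≤
        Submodule.span F {fun _ : Fin n => (1 : F)} := by
      intro q hq
      have hq' : N.transpose.mulVec q = 0 := hq
      have hc := hconst q (hNt q hq')
      rcases isEmpty_or_nonempty (Fin n) with hn | ⟨⟨i₀⟩⟩
      · have : q = 0 := Subsingleton.elim _ _
        rw [this]; exact Submodule.zero_mem _
      · rw [Submodule.mem_span_singleton]
        exact ⟨q i₀, by ext i; simp [hc i i₀]⟩
    calc _ ≤ Module.finrank F (Submodule.span F {fun _ : Fin n => (1 : F)}) :=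
          Submodule.finrank_mono hle
      _ ≤ 1 := by
        refine (finrank_span_le_card _).trans ?_
        simp
  have hrankN : n ≤ N.rank + 1 := by
    have h1 := LinearMap.finrank_range_add_finrank_ker N.transpose.mulVecLin
    rw [Module.finrank_fintype_fun_eq_card, Fintype.card_fin] at h1
    have h2 : N.transpose.rank = N.rank := Matrix.rank_transpose N
    have h3 : N.transpose.rank = Module.finrank F (LinearMap.range N.transpose.mulVecLin) := rfl
    omega
  have hkerN : Module.finrank F (LinearMap.ker N.mulVecLin) + N.rank = E.card := by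
    have h1 := LinearMap.finrank_range_add_finrank_ker N.mulVecLin
    rw [Module.finrank_fintype_fun_eq_card, Fintype.card_coe] at h1
    have h3 : N.rank = Module.finrank F (LinearMap.range N.mulVecLin) := rfl
    omega
  let Θ₀ : (Fin n → F) →ₗ[F] (E → F) :=
    LinearMap.pi fun e => (mb e.1.1)⁻¹ • LinearMap.proj e.1.1 - (mb e.1.2)⁻¹ • LinearMap.proj e.1.2
  have hΘ₀ : ∀ (x : Fin n → F) (e : E), Θ₀ x e = x e.1.1 / mb e.1.1 - x e.1.2 / mb e.1.2 := by
    intro x e; simp [Θ₀, div_eq_inv_mul]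
  let Θ : LinearMap.ker Ab.mulVecLin →ₗ[F] (E → F) :=
    Θ₀.comp (LinearMap.ker Ab.mulVecLin).subtype
  have hrange : LinearMap.range Θ ≤ LinearMap.ker N.mulVecLin := by
    rintro _ ⟨⟨x, hx⟩, rfl⟩
    rw [LinearMap.mem_ker, Matrix.mulVecLin_apply]
    have hx' : Ab.mulVec x = 0 := hx
    ext i
    set q : Fin n → F := fun j => x j / mb j with hq
    have hz : ∀ e : E, Θ ⟨x, hx⟩ e = q e.1.1 - q e.1.2 := fun e => hΘ₀ x e
    simp only [Matrix.mulVec, dotProduct, Pi.zero_apply, hz, N, Matrix.of_apply]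
    let g : Fin n × Fin n → F := fun p => (cw p.1 p.2 * (q p.1 - q p.2)) *
      ((if i = p.1 then 1 else 0) - (if i = p.2 then 1 else 0))
    have step1 : ∑ e : E, cw e.1.1 e.1.2 * ((if i = e.1.1 then 1 else 0) -
        (if i = e.1.2 then 1 else 0)) * (q e.1.1 - q e.1.2) = ∑ p ∈ E, g p := by
      calc _ = ∑ e : E, g e.1 := Finset.sum_congr rfl (fun e _ => by simp only [g]; ring)
        _ = ∑ p ∈ E, g p := Finset.sum_coe_sort E g
    have hsub : E ⊆ univ.filter (fun p : Fin n × Fin n => p.1 < p.2) := fun p hp => by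
      simp [hE1 p hp]
    have hz0 : ∀ p ∈ univ.filter (fun p : Fin n × Fin n => p.1 < p.2), p ∉ E → g p = 0 := by
      intro p hp hpE
      have hlt : p.1 < p.2 := (Finset.mem_filter.1 hp).2
      have h0 : Ab p.1 p.2 = 0 := hE2 p.1 p.2 hlt hpE
      simp only [g, cw, h0]; ring
    have step2 : ∑ p ∈ E, g p = ∑ a, ∑ b, (if a < b then (cw a b * (q a - q b)) *
        ((if i = a then 1 else 0) - (if i = b then 1 else 0)) else 0) := by
      rw [Finset.sum_subset hsub hz0, Finset.sum_filter, Fintype.sum_prod_type]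
    have step4 : ∑ j, (if i < j then cw i j * (q i - q j) else 0) -
        ∑ j, (if j < i then cw j i * (q j - q i) else 0) = ∑ j, cw i j * (q i - q j) := by
      rw [← Finset.sum_sub_distrib]
      refine Finset.sum_congr rfl (fun j _ => ?_)
      rcases lt_trichotomy i j with h | h | h
      · rw [if_pos h, if_neg (not_lt.2 h.le), sub_zero]
      · subst h; simp
      · rw [if_neg (not_lt.2 h.le), if_pos h, hcw_symm j i]; ring
    have step5 : ∑ j, cw i j * (q i - q j) = 0 := by
      have h1 : ∑ j, cw i j = 0 := by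
        have := congrFun hAm i
        simp only [Matrix.mulVec, dotProduct, Pi.zero_apply] at this
        calc ∑ j, cw i j = mb i * ∑ j, Ab i j * mb j := by
              rw [Finset.mul_sum]
              exact Finset.sum_congr rfl (fun j _ => by simp only [cw]; ring)
          _ = 0 := by rw [this, mul_zero]
      have h2 : ∑ j, cw i j * q j = 0 := by
        have := congrFun hx' i
        simp only [Matrix.mulVec, dotProduct, Pi.zero_apply] at this
        calc ∑ j, cw i j * q j = mb i * ∑ j, Ab i j * x j := by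
              rw [Finset.mul_sum]
              refine Finset.sum_congr rfl (fun j _ => ?_)
              have := hm j
              simp only [cw, hq]; field_simp
          _ = 0 := by rw [this, mul_zero]
      simp only [mul_sub, Finset.sum_sub_distrib]
      rw [← Finset.sum_mul, h1, zero_mul, h2, sub_zero]
    rw [step1, step2, sum_pairs, step4, step5]
  have hkerΘ : Module.finrank F (LinearMap.ker Θ) ≤ 1 := by
    have hle : (LinearMap.ker Θ).map (LinearMap.ker Ab.mulVecLin).subtype ≤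
        Submodule.span F {mb} := by
      rintro _ ⟨⟨x, hx⟩, hxΘ, rfl⟩
      have hxΘ' : Θ ⟨x, hx⟩ = 0 := hxΘ
      set q : Fin n → F := fun j => x j / mb j with hq
      have hedge : ∀ p ∈ E, q p.1 = q p.2 := by
        intro p hp
        have h1 := congrFun hxΘ' ⟨p, hp⟩
        have h2 : Θ ⟨x, hx⟩ ⟨p, hp⟩ = q p.1 - q p.2 := hΘ₀ x ⟨p, hp⟩
        rw [h2] at h1
        exact sub_eq_zero.1 h1
      have hc := hconst q hedge
      rcases isEmpty_or_nonempty (Fin n) with hn | ⟨⟨i₀⟩⟩
      · have : x = 0 := Subsingleton.elim _ _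
        simp [this]
      · rw [Submodule.coe_subtype, Submodule.mem_span_singleton]
        refine ⟨q i₀, ?_⟩
        ext i
        have h3 := hc i i₀
        simp only [Pi.smul_apply, smul_eq_mul]
        rw [← h3]
        have := hm i
        simp only [hq]; field_simp
    calc Module.finrank F (LinearMap.ker Θ)
        = Module.finrank F ((LinearMap.ker Θ).map (LinearMap.ker Ab.mulVecLin).subtype) :=
          (Submodule.finrank_map_subtype_eq _ _).symm
      _ ≤ Module.finrank F (Submodule.span F {mb}) := Submodule.finrank_mono hle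
      _ ≤ 1 := by
        refine (finrank_span_le_card _).trans ?_
        simp
  have hsum := LinearMap.finrank_range_add_finrank_ker Θ
  have hr : Module.finrank F (LinearMap.range Θ) ≤ Module.finrank F (LinearMap.ker N.mulVecLin) :=
    Submodule.finrank_mono hrange
  omega

end FieldPart

theorem main {n : ℕ} (A : Matrix (Fin n) (Fin n) ℤ) (m : Fin n → ℤ) (hsymm : A.IsSymm)
    (hA : ∀ i j, i ≠ j → 0 ≤ A i j) (hm : ∀ i, 0 < m i) (hAm : A.mulVec m = 0)
    (hconn : ∀ I : Finset (Fin n), I.Nonempty → I ≠ univ → ∃ i ∈ I, ∃ j ∉ I, A i j ≠ 0)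
    (ℓ : ℕ) (hℓ : ℓ.Prime) (hℓA : ∀ i j, A i j ≠ 0 → ¬ ((ℓ : ℤ) ∣ A i j))
    (hℓm : ∀ i, ¬ ((ℓ : ℤ) ∣ m i)) :
    Nat.card (Submodule.torsionBy ℤ ((Fin n → ℤ) ⧸ LinearMap.range (Matrix.mulVecLin A)) (ℓ : ℤ))
      ≤ ℓ ^ ((univ.filter fun p : Fin n × Fin n => p.1 < p.2 ∧ 0 < A p.1 p.2).card + 1 - n) := by
  classical
  haveI : Fact ℓ.Prime := ⟨hℓ⟩
  rcases Nat.eq_zero_or_pos n with hn | hn
  · subst hn
    have hsub : Subsingleton (Submodule.torsionBy ℤ
        ((Fin 0 → ℤ) ⧸ LinearMap.range (Matrix.mulVecLin A)) (ℓ : ℤ)) := by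
      constructor
      intro a b
      apply Subtype.ext
      obtain ⟨x, hx⟩ := Submodule.Quotient.mk_surjective _ a.1
      obtain ⟨y, hy⟩ := Submodule.Quotient.mk_surjective _ b.1
      rw [← hx, ← hy, Subsingleton.elim x y]
    exact (Finite.card_le_one_iff_subsingleton.2 hsub).trans (Nat.one_le_pow _ _ hℓ.pos)
  let i₀ : Fin n := ⟨0, hn⟩
  let Ab : Matrix (Fin n) (Fin n) (ZMod ℓ) := A.map (Int.cast)
  let mb : Fin n → ZMod ℓ := fun i => (m i : ZMod ℓ)
  set E := univ.filter fun p : Fin n × Fin n => p.1 < p.2 ∧ 0 < A p.1 p.2 with hE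
  have hcast_ne : ∀ a : ℤ, ¬ ((ℓ : ℤ) ∣ a) → (a : ZMod ℓ) ≠ 0 := fun a ha h0 =>
    ha ((ZMod.intCast_zmod_eq_zero_iff_dvd a ℓ).1 h0)
  have hmulVec : ∀ y : Fin n → ℤ, Ab.mulVec (fun i => (y i : ZMod ℓ)) =
      fun i => ((A.mulVec y i : ℤ) : ZMod ℓ) := by
    intro y; ext i
    simp [Matrix.mulVec, dotProduct, Ab]
  have hmb0 : Ab.mulVec mb = 0 := by
    show Ab.mulVec (fun i => (m i : ZMod ℓ)) = 0
    rw [hmulVec, hAm]; ext i; simp
  have hdim : Module.finrank (ZMod ℓ) (LinearMap.ker Ab.mulVecLin) + n ≤ E.card + 2 := by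
    refine finrank_ker_le Ab (fun i j => ?_) mb (fun i => hcast_ne _ (hℓm i)) hmb0 E
      (fun p hp => (Finset.mem_filter.1 hp).2.1) (fun i j hij hnot => ?_) (fun p hp => ?_)
      (fun I hI hI' => ?_)
    · simp only [Ab, Matrix.map_apply]; rw [hsymm.apply i j]
    · have h1 : ¬ (0 < A i j) := fun h => hnot (Finset.mem_filter.2 ⟨mem_univ _, hij, h⟩)
      have h2 := hA i j (ne_of_lt hij)
      have h3 : A i j = 0 := by omega
      simp [Ab, h3]
    · have h1 : 0 < A p.1 p.2 := (Finset.mem_filter.1 hp).2.2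
      exact hcast_ne _ (hℓA _ _ (ne_of_gt h1))
    · obtain ⟨i, hi, j, hj, hij⟩ := hconn I hI hI'
      exact ⟨i, hi, j, hj, hcast_ne _ (hℓA i j hij)⟩
  set K := LinearMap.ker Ab.mulVecLin with hK
  have hex : ∀ t : Submodule.torsionBy ℤ ((Fin n → ℤ) ⧸ LinearMap.range (Matrix.mulVecLin A))
      (ℓ : ℤ), ∃ x y : Fin n → ℤ,
      (Submodule.Quotient.mk x : (Fin n → ℤ) ⧸ LinearMap.range (Matrix.mulVecLin A)) = t.1 ∧
        A.mulVec y = (ℓ : ℤ) • x := by
    intro t
    obtain ⟨x, hx⟩ := Submodule.Quotient.mk_surjective _ t.1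
    have ht : (ℓ : ℤ) • t.1 = 0 := (Submodule.mem_torsionBy_iff _ _).1 t.2
    rw [← hx, ← Submodule.Quotient.mk_smul, Submodule.Quotient.mk_eq_zero] at ht
    obtain ⟨y, hy⟩ := ht
    exact ⟨x, y, hx, hy⟩
  choose xf yf hxf hyf using hex
  have hyK : ∀ t, (fun i => ((yf t i : ℤ) : ZMod ℓ)) ∈ K := by
    intro t
    rw [hK, LinearMap.mem_ker, Matrix.mulVecLin_apply, hmulVec, hyf t]
    ext i; simp
  have hmK : mb ∈ K := by
    rw [hK, LinearMap.mem_ker, Matrix.mulVecLin_apply]; exact hmb0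
  let ι : (Submodule.torsionBy ℤ ((Fin n → ℤ) ⧸ LinearMap.range (Matrix.mulVecLin A)) (ℓ : ℤ)) ×
      ZMod ℓ → K := fun tc =>
    ⟨(fun i => ((yf tc.1 i : ℤ) : ZMod ℓ)) + tc.2 • mb,
      K.add_mem (hyK tc.1) (K.smul_mem _ hmK)⟩
  have hinj : Function.Injective ι := by
    rintro ⟨t₁, c₁⟩ ⟨t₂, c₂⟩ h
    have h' : (fun i => ((yf t₁ i : ℤ) : ZMod ℓ)) + c₁ • mb =
        (fun i => ((yf t₂ i : ℤ) : ZMod ℓ)) + c₂ • mb := congrArg Subtype.val h
    obtain ⟨k₁, rfl⟩ := ZMod.intCast_surjective c₁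
    obtain ⟨k₂, rfl⟩ := ZMod.intCast_surjective c₂
    have hdiv : ∀ i, (ℓ : ℤ) ∣ yf t₁ i + k₁ * m i - yf t₂ i - k₂ * m i := by
      intro i
      rw [← ZMod.intCast_zmod_eq_zero_iff_dvd]
      have := congrFun h' i
      simp only [Pi.add_apply, Pi.smul_apply, smul_eq_mul, mb] at this
      push_cast
      linear_combination this
    choose z hz using hdiv
    have hAv : A.mulVec (fun i => yf t₁ i + k₁ * m i - yf t₂ i - k₂ * m i) =
        (ℓ : ℤ) • (xf t₁ - xf t₂) := by
      have e : (fun i => yf t₁ i + k₁ * m i - yf t₂ i - k₂ * m i) =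
          yf t₁ + k₁ • m - yf t₂ - k₂ • m := by ext i; simp
      rw [e, Matrix.mulVec_sub, Matrix.mulVec_sub, Matrix.mulVec_add, Matrix.mulVec_smul,
        Matrix.mulVec_smul, hAm, hyf, hyf]
      simp only [smul_zero, add_zero, sub_zero, smul_sub]
    have hAz : A.mulVec (fun i => yf t₁ i + k₁ * m i - yf t₂ i - k₂ * m i) =
        (ℓ : ℤ) • A.mulVec z := by
      have e : (fun i => yf t₁ i + k₁ * m i - yf t₂ i - k₂ * m i) = (ℓ : ℤ) • z := by
        ext i; rw [hz i]; simp
      rw [e, Matrix.mulVec_smul]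
    have hxz : xf t₁ - xf t₂ = A.mulVec z := by
      have h3 := hAv.symm.trans hAz
      have hℓ0 : (ℓ : ℤ) ≠ 0 := by exact_mod_cast hℓ.ne_zero
      exact smul_right_injective _ hℓ0 h3
    have ht : t₁ = t₂ := by
      apply Subtype.ext
      rw [← hxf t₁, ← hxf t₂, Submodule.Quotient.eq]
      exact ⟨z, hxz.symm⟩
    subst ht
    have hc : ((k₁ : ZMod ℓ) - k₂) * mb i₀ = 0 := by
      have := congrFun h' i₀
      simp only [Pi.add_apply, Pi.smul_apply, smul_eq_mul] at this
      linear_combination this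
    have hc' := (mul_eq_zero.1 hc).resolve_right (hcast_ne _ (hℓm i₀))
    rw [sub_eq_zero.1 hc']
  have hcard := Nat.card_le_card_of_injective ι hinj
  have hK' : Nat.card K = ℓ ^ Module.finrank (ZMod ℓ) K := by
    rw [Module.natCard_eq_pow_finrank (K := ZMod ℓ) (V := K), Nat.card_zmod]
  rw [Nat.card_prod, Nat.card_zmod, hK'] at hcard
  rcases Nat.eq_zero_or_pos (Module.finrank (ZMod ℓ) K) with hd | hd
  · rw [hd, pow_zero] at hcard
    have h2 := hℓ.two_le
    have : Nat.card (Submodule.torsionBy ℤ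
        ((Fin n → ℤ) ⧸ LinearMap.range (Matrix.mulVecLin A)) (ℓ : ℤ)) = 0 := by
      nlinarith
    rw [this]; exact Nat.zero_le _
  · have hle : Module.finrank (ZMod ℓ) K ≤ (E.card + 1 - n) + 1 := by omega
    have h1 : ℓ ^ Module.finrank (ZMod ℓ) K ≤ ℓ ^ (E.card + 1 - n) * ℓ := by
      rw [← pow_succ]; exact Nat.pow_le_pow_right hℓ.pos hle
    exact Nat.le_of_mul_le_mul_right (hcard.trans h1) hℓ.pos

end Groth.Agent.LapTors9
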