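import Mathlib

set_option autoImplicit false
set_option maxSynthPendingDepth 3

open Finset Equiv

namespace Groth.Agent.Lib.LaplacePerm

variable {k : Type*} [CommRing k]

/-- The block permutation of `Fin (p + r)` attached to permutations of the two blocks. -/
def blockPerm {p r : ℕ} (σ : Perm (Fin p)) (τ : Perm (Fin r)) : Perm (Fin (p + r)) :=
  finSumFinEquiv.permCongr (Equiv.Perm.sumCongr σ τ)

theorem blockPerm_castAdd {p r : ℕ} (σ : Perm (Fin p)) (τ : Perm (Fin r)) (i : Fin p) :
    blockPerm σ τ (Fin.castAdd r i) = Fin.castAdd r (σ i) := by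
  simp [blockPerm, Equiv.permCongr_apply]

theorem blockPerm_natAdd {p r : ℕ} (σ : Perm (Fin p)) (τ : Perm (Fin r)) (j : Fin r) :
    blockPerm σ τ (Fin.natAdd p j) = Fin.natAdd p (τ j) := by
  simp [blockPerm, Equiv.permCongr_apply]

theorem sign_blockPerm {p r : ℕ} (σ : Perm (Fin p)) (τ : Perm (Fin r)) :
    Perm.sign (blockPerm σ τ) = Perm.sign σ * Perm.sign τ := by
  rw [blockPerm, Equiv.Perm.sign_permCongr, Equiv.Perm.sign_sumCongr]

theorem append_comp_blockPerm {p r : ℕ} {α : Type*} (u : Fin p → α) (v : Fin r → α)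
    (σ : Perm (Fin p)) (τ : Perm (Fin r)) :
    Fin.append (u ∘ σ) (v ∘ τ) = Fin.append u v ∘ blockPerm σ τ := by
  funext l
  induction l using Fin.addCases with
  | left i => simp only [Fin.append_left, Function.comp_apply, blockPerm_castAdd]
  | right j => simp only [Fin.append_right, Function.comp_apply, blockPerm_natAdd]

theorem eps_mul_self {n : ℕ} (σ : Perm (Fin n)) :
    (((Perm.sign σ : ℤˣ) : ℤ) : k) * (((Perm.sign σ : ℤˣ) : ℤ) : k) = 1 := by
  rw [← Int.cast_mul, ← Units.val_mul, Int.units_mul_self, Units.val_one, Int.cast_one]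

theorem sum_eq_det {n : ℕ} (M : Matrix (Fin n) (Fin n) k) (c : Fin n → Fin n) :
    ∑ π : Perm (Fin n), (((Perm.sign π : ℤˣ) : ℤ) : k) * ∏ l, M (c l) (π l)
      = (M.submatrix c id).det := by
  rw [← Matrix.det_transpose, Matrix.det_apply']
  rfl

/-- The summand. -/
def T {p r : ℕ} (M : Matrix (Fin (p + r)) (Fin (p + r)) k) (a : Fin p → Fin (p + r))
    (b : Fin r → Fin (p + r)) (σ : Perm (Fin p)) (τ : Perm (Fin r)) (π : Perm (Fin (p + r))) : k :=
  ((((Perm.sign σ : ℤˣ) : ℤ) : k) * (((Perm.sign τ : ℤˣ) : ℤ) : k)) *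
    ((((Perm.sign π : ℤˣ) : ℤ) : k) * ∏ l, M (Fin.append (a ∘ σ) (b ∘ τ) l) (π l))

theorem sum_G {p r : ℕ} (M : Matrix (Fin (p + r)) (Fin (p + r)) k) (a : Fin p → Fin (p + r))
    (b : Fin r → Fin (p + r)) :
    ∑ π : Perm (Fin (p + r)), (((Perm.sign π : ℤˣ) : ℤ) : k) *
      (M.submatrix a (fun j => π (Fin.castAdd r j))).det *
      (M.submatrix b (fun j => π (Fin.natAdd p j))).det
    = ((p.factorial * r.factorial : ℕ) : k) * (M.submatrix (Fin.append a b) id).det := by
  have hterm : ∀ π : Perm (Fin (p + r)), (((Perm.sign π : ℤˣ) : ℤ) : k) *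
      (M.submatrix a (fun j => π (Fin.castAdd r j))).det *
      (M.submatrix b (fun j => π (Fin.natAdd p j))).det
      = ∑ σ : Perm (Fin p), ∑ τ : Perm (Fin r), T M a b σ τ π := by
    intro π
    rw [Matrix.det_apply', Matrix.det_apply', mul_assoc, Finset.sum_mul_sum, Finset.mul_sum]
    refine Finset.sum_congr rfl fun σ _ => ?_
    rw [Finset.mul_sum]
    refine Finset.sum_congr rfl fun τ _ => ?_
    unfold T
    rw [Fin.prod_univ_add]
    simp only [Fin.append_left, Fin.append_right, Matrix.submatrix_apply, Function.comp_apply]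
    ring
  have hinner : ∀ (σ : Perm (Fin p)) (τ : Perm (Fin r)),
      ∑ π : Perm (Fin (p + r)), T M a b σ τ π = (M.submatrix (Fin.append a b) id).det := by
    intro σ τ
    unfold T
    rw [← Finset.mul_sum, sum_eq_det, append_comp_blockPerm]
    have hsub : M.submatrix (Fin.append a b ∘ blockPerm σ τ) id
        = (M.submatrix (Fin.append a b) id).submatrix (blockPerm σ τ) id := rfl
    rw [hsub, Matrix.det_permute, sign_blockPerm, Units.val_mul, Int.cast_mul]
    calc (((Perm.sign σ : ℤˣ) : ℤ) : k) * (((Perm.sign τ : ℤˣ) : ℤ) : k) *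
        ((((Perm.sign σ : ℤˣ) : ℤ) : k) * (((Perm.sign τ : ℤˣ) : ℤ) : k) *
          (M.submatrix (Fin.append a b) id).det)
        = ((((Perm.sign σ : ℤˣ) : ℤ) : k) * (((Perm.sign σ : ℤˣ) : ℤ) : k)) *
          ((((Perm.sign τ : ℤˣ) : ℤ) : k) * (((Perm.sign τ : ℤˣ) : ℤ) : k)) *
          (M.submatrix (Fin.append a b) id).det := by ring
      _ = (M.submatrix (Fin.append a b) id).det := by
          rw [eps_mul_self, eps_mul_self, one_mul, one_mul]
  calc ∑ π : Perm (Fin (p + r)), (((Perm.sign π : ℤˣ) : ℤ) : k) *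
      (M.submatrix a (fun j => π (Fin.castAdd r j))).det *
      (M.submatrix b (fun j => π (Fin.natAdd p j))).det
      = ∑ π : Perm (Fin (p + r)), ∑ σ : Perm (Fin p), ∑ τ : Perm (Fin r), T M a b σ τ π :=
        Finset.sum_congr rfl (fun π _ => hterm π)
    _ = ∑ σ : Perm (Fin p), ∑ π : Perm (Fin (p + r)), ∑ τ : Perm (Fin r), T M a b σ τ π :=
        Finset.sum_comm
    _ = ∑ σ : Perm (Fin p), ∑ τ : Perm (Fin r), ∑ π : Perm (Fin (p + r)), T M a b σ τ π :=
        Finset.sum_congr rfl (fun σ _ => Finset.sum_comm)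
    _ = ∑ _σ : Perm (Fin p), ∑ _τ : Perm (Fin r), (M.submatrix (Fin.append a b) id).det :=
        Finset.sum_congr rfl (fun σ _ => Finset.sum_congr rfl (fun τ _ => hinner σ τ))
    _ = ((p.factorial * r.factorial : ℕ) : k) * (M.submatrix (Fin.append a b) id).det := by
        simp only [Finset.sum_const, Finset.card_univ, Fintype.card_perm, Fintype.card_fin,
          nsmul_eq_mul]
        push_cast
        ring

theorem castAdd_lt_natAdd {p r : ℕ} (i : Fin p) (j : Fin r) : Fin.castAdd r i < Fin.natAdd p j := by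
  have h1 := i.isLt
  simp only [Fin.lt_def, Fin.coe_castAdd, Fin.coe_natAdd]
  omega

theorem castAdd_lt_castAdd {p r : ℕ} (i i' : Fin p) :
    Fin.castAdd r i < Fin.castAdd r i' ↔ i < i' := by
  simp only [Fin.lt_def, Fin.coe_castAdd]

theorem natAdd_lt_natAdd {p r : ℕ} (j j' : Fin r) :
    Fin.natAdd p j < Fin.natAdd p j' ↔ j < j' := by
  simp only [Fin.lt_def, Fin.coe_natAdd]
  omega

theorem det_append {p r : ℕ} (M : Matrix (Fin (p + r)) (Fin (p + r)) k)
    (A : Finset (Fin (p + r))) (hA : A.card = p) (B : Finset (Fin (p + r))) (hB : B.card = r) :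
    (M.submatrix (Fin.append (A.orderEmbOfFin hA) (B.orderEmbOfFin hB)) id).det =
    if B = Aᶜ then (-1 : k) ^ ((A ×ˢ Aᶜ).filter (fun ab => ab.2 < ab.1)).card * M.det else 0 := by
  by_cases hBA : B = Aᶜ
  · subst hBA
    rw [if_pos rfl]
    have haA : ∀ i, A.orderEmbOfFin hA i ∈ A := fun i => Finset.orderEmbOfFin_mem A hA i
    have hbA : ∀ j, (Aᶜ).orderEmbOfFin hB j ∉ A := fun j =>
      Finset.mem_compl.mp (Finset.orderEmbOfFin_mem (Aᶜ) hB j)
    have hinj : Function.Injective
        (Fin.append (A.orderEmbOfFin hA) ((Aᶜ).orderEmbOfFin hB) : Fin (p + r) → Fin (p + r)) := by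
      intro l l' h
      induction l using Fin.addCases with
      | left i =>
        induction l' using Fin.addCases with
        | left i' =>
          rw [Fin.append_left, Fin.append_left] at h
          rw [(A.orderEmbOfFin hA).injective h]
        | right j' =>
          rw [Fin.append_left, Fin.append_right] at h
          exact absurd (h ▸ haA i) (hbA j')
      | right j =>
        induction l' using Fin.addCases with
        | left i' =>
          rw [Fin.append_right, Fin.append_left] at h
          exact absurd (h ▸ haA i') (hbA j)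
        | right j' =>
          rw [Fin.append_right, Fin.append_right] at h
          rw [((Aᶜ).orderEmbOfFin hB).injective h]
    obtain ⟨ε₀, hε₀⟩ : ∃ ε₀ : Perm (Fin (p + r)), ∀ l, ε₀ l =
        Fin.append (A.orderEmbOfFin hA) ((Aᶜ).orderEmbOfFin hB) l :=
      ⟨Equiv.ofBijective _ ⟨hinj, Finite.injective_iff_surjective.mp hinj⟩, fun l => rfl⟩
    have hsub : M.submatrix (Fin.append (A.orderEmbOfFin hA) ((Aᶜ).orderEmbOfFin hB)) id
        = M.submatrix ε₀ id := by
      ext i j
      rw [Matrix.submatrix_apply, Matrix.submatrix_apply, hε₀]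
    rw [hsub, Matrix.det_permute]
    congr 1
    -- the sign
    have hL : ∀ i : Fin p, ε₀ (Fin.castAdd r i) = A.orderEmbOfFin hA i := fun i => by
      rw [hε₀, Fin.append_left]
    have hR : ∀ j : Fin r, ε₀ (Fin.natAdd p j) = (Aᶜ).orderEmbOfFin hB j := fun j => by
      rw [hε₀, Fin.append_right]
    have hcard : ((Finset.univ.sigma (fun i : Fin (p + r) => Finset.Ioi i)).filter
        (fun x => ¬ ε₀ x.1 < ε₀ x.2)).card
        = ((A ×ˢ Aᶜ).filter (fun ab => ab.2 < ab.1)).card := by
      refine Finset.card_bij (fun x _ => (ε₀ x.1, ε₀ x.2)) ?_ ?_ ?_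
      · rintro ⟨l, l'⟩ hx
        rw [Finset.mem_filter, Finset.mem_sigma, Finset.mem_Ioi] at hx
        obtain ⟨⟨-, hlt⟩, hnot⟩ := hx
        simp only at hlt hnot
        induction l using Fin.addCases with
        | left i =>
          induction l' using Fin.addCases with
          | left i' =>
            exfalso
            apply hnot
            rw [hL, hL, (A.orderEmbOfFin hA).lt_iff_lt]
            exact (castAdd_lt_castAdd i i').mp hlt
          | right j' =>
            rw [Finset.mem_filter, Finset.mem_product]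
            simp only
            rw [hL, hR] at hnot ⊢
            refine ⟨⟨haA i, Finset.mem_compl.mpr (hbA j')⟩, ?_⟩
            rcases lt_trichotomy (A.orderEmbOfFin hA i) ((Aᶜ).orderEmbOfFin hB j') with h1 | h1 | h1
            · exact absurd h1 hnot
            · exact absurd (h1 ▸ haA i) (hbA j')
            · exact h1
        | right j =>
          induction l' using Fin.addCases with
          | left i' =>
            exfalso
            exact absurd hlt (not_lt.mpr (le_of_lt (castAdd_lt_natAdd i' j)))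
          | right j' =>
            exfalso
            apply hnot
            rw [hR, hR, ((Aᶜ).orderEmbOfFin hB).lt_iff_lt]
            exact (natAdd_lt_natAdd j j').mp hlt
      · rintro ⟨l₁, l₁'⟩ _ ⟨l₂, l₂'⟩ _ h
        simp only [Prod.mk.injEq] at h
        have e1 := ε₀.injective h.1
        have e2 := ε₀.injective h.2
        subst e1; subst e2; rfl
      · rintro ⟨x, y⟩ hxy
        rw [Finset.mem_filter, Finset.mem_product] at hxy
        obtain ⟨⟨hx, hy⟩, hlt⟩ := hxy
        simp only at hx hy hlt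
        obtain ⟨i, hi⟩ : ∃ i, A.orderEmbOfFin hA i = x := by
          have hrange := Finset.range_orderEmbOfFin A hA
          have hx' : x ∈ Set.range (A.orderEmbOfFin hA) := by rw [hrange]; exact hx
          exact hx'
        obtain ⟨j, hj⟩ : ∃ j, (Aᶜ).orderEmbOfFin hB j = y := by
          have hrange := Finset.range_orderEmbOfFin (Aᶜ) hB
          have hy' : y ∈ Set.range ((Aᶜ).orderEmbOfFin hB) := by rw [hrange]; exact hy
          exact hy'
        refine ⟨⟨Fin.castAdd r i, Fin.natAdd p j⟩, ?_, ?_⟩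
        · rw [Finset.mem_filter, Finset.mem_sigma, Finset.mem_Ioi]
          refine ⟨⟨Finset.mem_univ _, castAdd_lt_natAdd i j⟩, ?_⟩
          simp only
          rw [hL, hR, hi, hj]
          exact not_lt.mpr (le_of_lt hlt)
        · simp only
          rw [hL, hR, hi, hj]
    have hsign : Perm.sign ε₀ = (-1 : ℤˣ) ^ ((A ×ˢ Aᶜ).filter (fun ab => ab.2 < ab.1)).card := by
      rw [Equiv.Perm.sign_eq_prod_prod_Ioi, Finset.prod_sigma', Finset.prod_ite,
        Finset.prod_const_one, one_mul, Finset.prod_const, hcard]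
    rw [hsign]
    simp
  · rw [if_neg hBA]
    have hnd : ¬ Disjoint A B := by
      intro hd
      apply hBA
      have hsub : B ⊆ Aᶜ := fun x hx =>
        Finset.mem_compl.mpr (fun hxA => Finset.disjoint_left.mp hd hxA hx)
      refine Finset.eq_of_subset_of_card_le hsub ?_
      rw [Finset.card_compl, Fintype.card_fin, hA, hB]
      omega
    obtain ⟨x, hxA, hxB⟩ := Finset.not_disjoint_iff.mp hnd
    obtain ⟨i, hi⟩ : ∃ i, A.orderEmbOfFin hA i = x := by
      have hrange := Finset.range_orderEmbOfFin A hA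
      have hx' : x ∈ Set.range (A.orderEmbOfFin hA) := by rw [hrange]; exact hxA
      exact hx'
    obtain ⟨j, hj⟩ : ∃ j, B.orderEmbOfFin hB j = x := by
      have hrange := Finset.range_orderEmbOfFin B hB
      have hx' : x ∈ Set.range (B.orderEmbOfFin hB) := by rw [hrange]; exact hxB
      exact hx'
    apply Matrix.det_zero_of_row_eq (i := Fin.castAdd r i) (j := Fin.natAdd p j)
    · exact ne_of_lt (castAdd_lt_natAdd i j)
    · funext col
      rw [Matrix.submatrix_apply, Matrix.submatrix_apply, Fin.append_left, Fin.append_right, hi, hj]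

theorem main (p r : ℕ) (M : Matrix (Fin (p + r)) (Fin (p + r)) k)
    (A : Finset (Fin (p + r))) (hA : A.card = p) (B : Finset (Fin (p + r))) (hB : B.card = r) :
    ∑ π : Equiv.Perm (Fin (p + r)), (((Equiv.Perm.sign π : ℤˣ) : ℤ) : k) *
      ((M * π.permMatrix k).submatrix (A.orderEmbOfFin hA) (Fin.castAdd r)).det *
      ((M * π.permMatrix k).submatrix (B.orderEmbOfFin hB) (Fin.natAdd p)).det =
    if B = Aᶜ then ((p.factorial * r.factorial : ℕ) : k) *
      (-1 : k) ^ ((A ×ˢ Aᶜ).filter (fun ab => ab.2 < ab.1)).card * M.det else 0 := by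
  have h1 : ∀ π : Perm (Fin (p + r)), M * π.permMatrix k = M.submatrix id π.symm :=
    fun π => PEquiv.mul_toMatrix_toPEquiv M π
  have hstep : ∑ π : Equiv.Perm (Fin (p + r)), (((Equiv.Perm.sign π : ℤˣ) : ℤ) : k) *
      ((M * π.permMatrix k).submatrix (A.orderEmbOfFin hA) (Fin.castAdd r)).det *
      ((M * π.permMatrix k).submatrix (B.orderEmbOfFin hB) (Fin.natAdd p)).det
      = ∑ π : Perm (Fin (p + r)), (((Perm.sign π : ℤˣ) : ℤ) : k) *
      (M.submatrix (A.orderEmbOfFin hA) (fun j => π (Fin.castAdd r j))).det *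
      (M.submatrix (B.orderEmbOfFin hB) (fun j => π (Fin.natAdd p j))).det := by
    refine Fintype.sum_equiv (Equiv.inv (Perm (Fin (p + r)))) _ _ (fun π => ?_)
    rw [h1 π, Equiv.inv_apply, Equiv.Perm.sign_inv]
    rfl
  rw [hstep, sum_G, det_append]
  split_ifs with h
  · ring
  · rw [mul_zero]

end Groth.Agent.Lib.LaplacePerm
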