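import Mathlib

/-!
# Largest open on which a source-local property holds (helper6)
-/

set_option autoImplicit false

namespace Groth.Agent.Lib.LargestOpen

open AlgebraicGeometry CategoryTheory CategoryTheory.Limits MorphismProperty

universe u

theorem exists_largest_open (Q : MorphismProperty Scheme.{u}) [Q.IsStableUnderBaseChange]
    [Q.IsStableUnderComposition]
    (hQi : ∀ {A B : Scheme.{u}} (j : A ⟶ B) [IsOpenImmersion j], Q j)
    (hQo : ∀ {A B : Scheme.{u}} (g : A ⟶ B), Q g → IsOpenMap g)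
    (P : MorphismProperty Scheme.{u}) [P.IsLocalAtSource (Scheme.precoverage Q)]
    {X Y : Scheme.{u}} (f : X ⟶ Y) :
    ∃ W : X.Opens, (P (W.ι ≫ f) ∧ ∀ W' : X.Opens, P (W'.ι ≫ f) → W' ≤ W) ∧
      ∀ (X' : Scheme.{u}) (g : X' ⟶ X) (_ : Q g) (V : X'.Opens),
        (P (V.ι ≫ g ≫ f) ∧ ∀ V' : X'.Opens, P (V'.ι ≫ g ≫ f) → V' ≤ V) → V = g ⁻¹ᵁ W := by
  classical
  have key : ∀ (T : Set X.Opens), (∀ W' ∈ T, P (W'.ι ≫ f)) → P ((sSup T).ι ≫ f) := by
    intro T hT
    apply IsLocalAtSource.of_forall_comp (K := Scheme.precoverage Q)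
      (R := Presieve.ofArrows (fun W' : T => (W'.1 : Scheme.{u}))
        (fun W' : T => X.homOfLE (le_sSup W'.2)))
    · rw [Scheme.ofArrows_mem_precoverage_iff]
      refine ⟨?_, fun i => hQi _⟩
      intro x
      obtain ⟨W', hW', hx⟩ := TopologicalSpace.Opens.mem_sSup.1 x.2
      refine ⟨⟨W', hW'⟩, ⟨x.1, hx⟩, ?_⟩
      apply (sSup T).ι.isOpenEmbedding.injective
      rw [← Scheme.Hom.comp_apply, Scheme.homOfLE_ι]
      rfl
    · rintro U g ⟨W'⟩
      rw [← Category.assoc, Scheme.homOfLE_ι]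
      exact hT _ W'.2
  refine ⟨sSup {W' : X.Opens | P (W'.ι ≫ f)}, ⟨key _ (fun _ h => h), fun W' h => le_sSup h⟩, ?_⟩
  intro X' g hg V ⟨hV, hVmax⟩
  apply le_antisymm
  · let W₁ : X.Opens := ⟨g '' (V : Set X'), hQo g hg _ V.2⟩
    have hW₁ : P (W₁.ι ≫ f) := by
      apply IsLocalAtSource.of_forall_comp (K := Scheme.precoverage Q)
        (R := Presieve.singleton (pullback.snd (V.ι ≫ g) W₁.ι))
      · rw [Scheme.singleton_mem_precoverage_iff]
        refine ⟨?_, Q.pullback_snd _ _ (Q.comp_mem _ _ (hQi V.ι) hg)⟩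
        intro w
        obtain ⟨v, hv, hvw⟩ := w.2
        obtain ⟨z, -, hz⟩ := Scheme.Pullback.exists_preimage_pullback (f := V.ι ≫ g) (g := W₁.ι)
          (⟨v, hv⟩ : V) w (by rw [Scheme.Hom.comp_apply]; exact hvw)
        exact ⟨z, hz⟩
      · rintro U g' ⟨⟩
        rw [← Category.assoc, ← pullback.condition, Category.assoc, Category.assoc]
        apply IsLocalAtSource.comp (K := Scheme.precoverage Q)
          (R := Presieve.singleton (pullback.fst (V.ι ≫ g) W₁.ι)) ?_ _ ⟨⟩ hV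
        rw [Scheme.singleton_mem_precoverage_iff]
        refine ⟨?_, Q.pullback_fst _ _ (hQi W₁.ι)⟩
        intro v
        obtain ⟨z, hz, -⟩ := Scheme.Pullback.exists_preimage_pullback (f := V.ι ≫ g) (g := W₁.ι)
          v (⟨g v.1, v.1, v.2, rfl⟩ : W₁) (by rw [Scheme.Hom.comp_apply]; rfl)
        exact ⟨z, hz⟩
    have hW₁le : W₁ ≤ sSup {W' : X.Opens | P (W'.ι ≫ f)} := le_sSup hW₁
    intro v hv
    exact hW₁le ⟨v, hv, rfl⟩
  · apply hVmax
    have hP := key _ (fun _ (h : _ ∈ {W' : X.Opens | P (W'.ι ≫ f)}) => h)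
    set W := sSup {W' : X.Opens | P (W'.ι ≫ f)} with hW
    have e : (g ⁻¹ᵁ W).ι ≫ g ≫ f = (g ∣_ W) ≫ W.ι ≫ f := by
      rw [← Category.assoc, ← morphismRestrict_ι, Category.assoc]
    rw [e]
    apply IsLocalAtSource.comp (K := Scheme.precoverage Q)
      (R := Presieve.ofArrows
        (fun i : Unit ⊕ Unit => Sum.elim (fun _ => ((g ⁻¹ᵁ W : X'.Opens) : Scheme.{u}))
          (fun _ => (W : Scheme.{u})) i)
        (fun i => match i with
          | Sum.inl _ => g ∣_ W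
          | Sum.inr _ => 𝟙 _)) ?_ _ (Presieve.ofArrows.mk (Sum.inl ())) hP
    rw [Scheme.ofArrows_mem_precoverage_iff]
    refine ⟨fun x => ⟨Sum.inr (), x, rfl⟩, ?_⟩
    rintro (_ | _)
    · exact Q.of_isPullback (isPullback_morphismRestrict g W).flip hg
    · exact hQi (𝟙 (W : Scheme.{u}))

end Groth.Agent.Lib.LargestOpen
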