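import Mathlib
import Groth.Agent.Lib.CoprodQC2_helper7
import Groth.Agent.Lib.ExtQC4_helper7

/-!
# The largest quasi-coherent submodule (helper7)

For a quasi-coherent module `F` on the small étale site of an algebraic space and a submodule
`G ⟶ F`, the image of the sum of all quasi-coherent submodules of `G` is quasi-coherent and every
morphism from a quasi-coherent module to `G` factors uniquely through it.
-/

set_option backward.isDefEq.respectTransparency false
set_option backward.isDefEq.respectTransparency.types false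
set_option linter.style.haveILetI false
set_option linter.unusedSectionVars false
set_option linter.unusedVariables false
set_option autoImplicit false
set_option maxHeartbeats 1600000
set_option maxSynthPendingDepth 3

universe u v

open CategoryTheory Limits Opposite AlgebraicGeometry AlgSp TensorProduct

namespace Groth.Agent.Lib.QCEtH7

open Groth.Agent.Lib.WeakAssEtH7 Groth.Agent.Lib.IdealEtBH7 Groth.Agent.Lib.EtPostcomp_helper7
  Groth.Agent.Lib.EtStalkPt_helper7

variable {S : Scheme.{u}} {X : Sp S}

section Factor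

/-- a monomorphism whose sectionwise image is contained in that of another one factors through
it -/
theorem exists_factor_of_range_le {H₁ H₂ F : ModEt X} (m₁ : H₁ ⟶ F) (m₂ : H₂ ⟶ F) [Mono m₂]
    (h : ∀ (E : EtOver X) (x : Sec H₁ E), ∃ y : Sec H₂ E, secLin m₂ E y = secLin m₁ E x) :
    ∃ l : H₁ ⟶ H₂, l ≫ m₂ = m₁ := by
  have h0 : m₁ ≫ cokernel.π m₂ = 0 := by
    apply SheafOfModules.hom_ext
    apply PresheafOfModules.hom_ext
    intro U
    apply ModuleCat.hom_ext
    apply LinearMap.ext
    intro x
    obtain ⟨E, rfl⟩ : ∃ E, U = op E := ⟨U.unop, rfl⟩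
    obtain ⟨y, hy⟩ := h E x
    show secLin (cokernel.π m₂) E (secLin m₁ E x) = 0
    rw [← hy]
    exact secLin_cokernel_condition m₂ E y
  exact ⟨Abelian.monoLift m₂ m₁ h0, Abelian.monoLift_comp m₂ m₁ h0⟩

end Factor

section Image

variable (hX : IsAlgSpace X) {F G : ModEt X} [hF : F.IsQuasicoherent]

include hX hF in
/-- the image of a morphism from a quasi-coherent module to a submodule of a quasi-coherent module
is quasi-coherent -/
theorem isQuasicoherent_image (ι : G ⟶ F) [Mono ι] {H : ModEt X} [hH : H.IsQuasicoherent]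
    (φ : H ⟶ G) : (Abelian.image φ).IsQuasicoherent := by
  haveI h1 : (kernel (φ ≫ ι)).IsQuasicoherent := isQuasicoherent_kernel (φ ≫ ι) hX
  haveI h2 : (kernel φ).IsQuasicoherent := isQuasicoherent_of_iso (kernelCompMono φ ι) h1
  have h3 : (cokernel (kernel.ι φ)).IsQuasicoherent := isQuasicoherent_cokernel (kernel.ι φ) hX
  exact isQuasicoherent_of_iso (Abelian.coimageIsoImage φ) h3

end Image

section Largest

variable (hX : IsAlgSpace X) {F G : ModEt X} [hF : F.IsQuasicoherent] (ι : G ⟶ F) [hι : Mono ι]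

/-- the quasi-coherent submodules of `G`, recorded through their sectionwise images in `F` -/
def QCSub : Type (u + 1) :=
  {N : ∀ E : EtOver X, Set (Sec F E) // ∃ (H : ModEt X) (n : H ⟶ G), Mono n ∧
    H.IsQuasicoherent ∧ ∀ E, N E = Set.range (secLin (n ≫ ι) E)}

variable {ι}

noncomputable def QCSub.obj (b : QCSub ι) : ModEt X := b.2.choose

noncomputable def QCSub.hom (b : QCSub ι) : b.obj ⟶ G := b.2.choose_spec.choose

instance QCSub.mono_hom (b : QCSub ι) : Mono b.hom := b.2.choose_spec.choose_spec.1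

theorem QCSub.qc (b : QCSub ι) : b.obj.IsQuasicoherent := b.2.choose_spec.choose_spec.2.1

theorem QCSub.range_eq (b : QCSub ι) (E : EtOver X) :
    b.1 E = Set.range (secLin (b.hom ≫ ι) E) := b.2.choose_spec.choose_spec.2.2 E

variable (ι)

/-- the sum of all quasi-coherent submodules, mapping to `G` -/
noncomputable def sumQC : ∐ (fun b : QCSub ι => b.obj) ⟶ G :=
  Sigma.desc (fun b : QCSub ι => b.hom)

include hX hF hι in
/-- **the largest quasi-coherent submodule** -/
theorem exists_largest_qc :
    ∃ (G' : ModEt X) (κ : G' ⟶ G), Mono κ ∧ G'.IsQuasicoherent ∧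
      ∀ H : ModEt X, H.IsQuasicoherent → Function.Bijective (fun φ : H ⟶ G' => φ ≫ κ) := by
  haveI hsum : (∐ (fun b : QCSub ι => b.obj)).IsQuasicoherent :=
    Big.isQuasicoherent_coprod (fun b : QCSub ι => b.obj) hX (fun b => b.qc)
  refine ⟨Abelian.image (sumQC ι), Abelian.image.ι (sumQC ι), inferInstance,
    isQuasicoherent_image hX ι (sumQC ι), ?_⟩
  intro H hH
  haveI := hH
  constructor
  · intro φ₁ φ₂ h
    exact (cancel_mono (Abelian.image.ι (sumQC ι))).1 h
  · intro φ
    -- the image of `φ` is a quasi-coherent submodule of `G`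
    have hqc : (Abelian.image φ).IsQuasicoherent := isQuasicoherent_image hX ι φ
    obtain ⟨b, hb⟩ : ∃ b : QCSub ι,
        b.1 = fun E => Set.range (secLin (Abelian.image.ι φ ≫ ι) E) :=
      ⟨⟨fun E => Set.range (secLin (Abelian.image.ι φ ≫ ι) E),
        ⟨Abelian.image φ, Abelian.image.ι φ, inferInstance, hqc, fun E => rfl⟩⟩, rfl⟩
    haveI : Mono (b.hom ≫ ι) := mono_comp _ _
    obtain ⟨l, hl⟩ := exists_factor_of_range_le (Abelian.image.ι φ ≫ ι) (b.hom ≫ ι) (by
      intro E x
      have h1 : secLin (Abelian.image.ι φ ≫ ι) E x ∈ b.1 E := by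
        rw [hb]
        exact ⟨x, rfl⟩
      rw [b.range_eq E] at h1
      exact h1)
    have hl' : l ≫ b.hom = Abelian.image.ι φ := by
      apply (cancel_mono ι).1
      rw [Category.assoc]
      exact hl
    refine ⟨Abelian.factorThruImage φ ≫ l ≫ Sigma.ι (fun b : QCSub ι => b.obj) b ≫
      Abelian.factorThruImage (sumQC ι), ?_⟩
    show (Abelian.factorThruImage φ ≫ l ≫ Sigma.ι (fun b : QCSub ι => b.obj) b ≫
      Abelian.factorThruImage (sumQC ι)) ≫ Abelian.image.ι (sumQC ι) = φ
    have h1 : Sigma.ι (fun b : QCSub ι => b.obj) b ≫ sumQC ι = b.hom :=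
      Sigma.ι_desc (fun b : QCSub ι => b.hom) b
    have h2 : Abelian.factorThruImage (sumQC ι) ≫ Abelian.image.ι (sumQC ι) = sumQC ι :=
      Abelian.image.fac (sumQC ι)
    have h3 : Abelian.factorThruImage φ ≫ Abelian.image.ι φ = φ := Abelian.image.fac φ
    calc (Abelian.factorThruImage φ ≫ l ≫ Sigma.ι (fun b : QCSub ι => b.obj) b ≫
          Abelian.factorThruImage (sumQC ι)) ≫ Abelian.image.ι (sumQC ι)
        = Abelian.factorThruImage φ ≫ l ≫ Sigma.ι (fun b : QCSub ι => b.obj) b ≫
          (Abelian.factorThruImage (sumQC ι) ≫ Abelian.image.ι (sumQC ι)) := by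
          simp only [Category.assoc]
      _ = Abelian.factorThruImage φ ≫ l ≫ b.hom :=
          congrArg (fun z => Abelian.factorThruImage φ ≫ l ≫ z)
            ((congrArg (fun w => Sigma.ι (fun b : QCSub ι => b.obj) b ≫ w) h2).trans h1)
      _ = φ := (congrArg (fun z => Abelian.factorThruImage φ ≫ z) hl').trans h3

end Largest

section Main

variable {S' : Scheme.{u}}

/-- **S9992** -/
theorem main9992 (X : AlgSp.Space S') (F G : AlgSp.ModEt X.obj)
    [F.IsQuasicoherent] (ι : G ⟶ F) [Mono ι] :
    ∃ (G' : AlgSp.ModEt X.obj) (κ : G' ⟶ G), Mono κ ∧ G'.IsQuasicoherent ∧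
      ∀ H : AlgSp.ModEt X.obj, H.IsQuasicoherent →
        Function.Bijective (fun φ : H ⟶ G' => φ ≫ κ) :=
  exists_largest_qc X.property ι

end Main

end Groth.Agent.Lib.QCEtH7
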