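import Mathlib
set_option maxSynthPendingDepth 3

namespace Groth.Agent.Lib.LatFin

theorem main (n : ℕ)
    (N : Set (EuclideanSpace ℝ (Fin n))) (hN : IsClosed N)
    (hcone : ∀ x ∈ N, ∀ r : ℝ, 0 ≤ r → r • x ∈ N)
    (f : EuclideanSpace ℝ (Fin n) → ℝ) (hf : ContinuousOn f N)
    (hpos : ∀ x ∈ N, x ≠ 0 → 0 < f x)
    (hhom : ∀ x ∈ N, ∀ r : ℝ, 0 ≤ r → f (r • x) = r * f x)
    (Λ : Submodule ℤ (EuclideanSpace ℝ (Fin n))) [DiscreteTopology Λ] (c : ℝ) :
    ({x : EuclideanSpace ℝ (Fin n) | x ∈ N ∧ f x ≤ c} ∩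
      (Λ : Set (EuclideanSpace ℝ (Fin n)))).Finite := by
  classical
  have hScompact : IsCompact (N ∩ Metric.sphere (0 : EuclideanSpace ℝ (Fin n)) 1) :=
    (isCompact_sphere 0 1).inter_left hN
  have hunit : ∀ x : EuclideanSpace ℝ (Fin n), x ∈ N → x ≠ 0 →
      ‖x‖⁻¹ • x ∈ N ∩ Metric.sphere (0 : EuclideanSpace ℝ (Fin n)) 1 := by
    intro x hxN hx0
    have hnorm : 0 < ‖x‖ := norm_pos_iff.mpr hx0
    refine ⟨hcone x hxN _ (inv_nonneg.mpr hnorm.le), ?_⟩
    rw [mem_sphere_zero_iff_norm, norm_smul, norm_inv, norm_norm, inv_mul_cancel₀ hnorm.ne']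
  have hbdd : Bornology.IsBounded {x : EuclideanSpace ℝ (Fin n) | x ∈ N ∧ f x ≤ c} := by
    by_cases hS : (N ∩ Metric.sphere (0 : EuclideanSpace ℝ (Fin n)) 1).Nonempty
    · obtain ⟨z, hzS, hzmin⟩ := hScompact.exists_isMinOn hS (hf.mono Set.inter_subset_left)
      have hz0 : z ≠ 0 := by
        intro h
        have := hzS.2
        rw [mem_sphere_zero_iff_norm, h, norm_zero] at this
        exact zero_ne_one this
      have hδ : 0 < f z := hpos z hzS.1 hz0
      refine (Metric.isBounded_closedBall (x := (0 : EuclideanSpace ℝ (Fin n)))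
        (r := max 0 (c / f z))).subset ?_
      rintro x ⟨hxN, hxc⟩
      rw [mem_closedBall_zero_iff]
      by_cases hx0 : x = 0
      · rw [hx0, norm_zero]; exact le_max_left _ _
      · have hnorm : 0 < ‖x‖ := norm_pos_iff.mpr hx0
        have h1 : f z ≤ f (‖x‖⁻¹ • x) := hzmin (hunit x hxN hx0)
        rw [hhom x hxN _ (inv_nonneg.mpr hnorm.le)] at h1
        have h2 : f z * ‖x‖ ≤ f x := by
          have := mul_le_mul_of_nonneg_right h1 hnorm.le
          rwa [mul_comm (‖x‖⁻¹) (f x), mul_assoc, inv_mul_cancel₀ hnorm.ne', mul_one] at this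
        have h3 : ‖x‖ ≤ c / f z := by
          rw [le_div_iff₀ hδ]; linarith [mul_comm (f z) ‖x‖]
        exact le_max_of_le_right h3
    · refine (Metric.isBounded_closedBall (x := (0 : EuclideanSpace ℝ (Fin n)))
        (r := 0)).subset ?_
      rintro x ⟨hxN, -⟩
      by_contra hx
      have hx0 : x ≠ 0 := by
        rintro rfl
        exact hx (Metric.mem_closedBall_self le_rfl)
      exact hS ⟨‖x‖⁻¹ • x, hunit x hxN hx0⟩
  have H : IsClosed (X := EuclideanSpace ℝ (Fin n)) Λ :=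
    @AddSubgroup.isClosed_of_discrete _ _ _ _ _ Λ.toAddSubgroup
      (inferInstanceAs (DiscreteTopology Λ))
  exact Metric.finite_isBounded_inter_isClosed DiscreteTopology.isDiscrete hbdd H

end Groth.Agent.Lib.LatFin
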