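import Mathlib

/-!
# Kernels of surjections onto `X`-power-torsion modules which are projective over the base (helper3)

Setting: `R → S`, `X ∈ S`, every element of `S` is an `R[X]`-combination of `1` and elements of
`X^M S` (e.g. `S = R⟦X⟧`).  If `Q` is an `S`-module killed by `X^M` which is finite projective over
`R`, then the kernel of any surjection from a finite projective `S`-module onto `Q` is finite
projective over `S`.
-/

set_option autoImplicit false

open TensorProduct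

namespace Groth.Agent.Lib.LatProjH3

universe u v w

variable (R : Type u) (S : Type v) [CommRing R] [CommRing S] [Algebra R S] (X : S)
  (Q : Type w) [AddCommGroup Q] [Module R Q] [Module S Q] [IsScalarTower R S Q]

/-- The multiplication map `S ⊗ Q → Q`. -/
noncomputable def mulMap : S ⊗[R] Q →ₗ[S] Q :=
  LinearMap.liftBaseChange S (LinearMap.id : Q →ₗ[R] Q)

@[simp] theorem mulMap_tmul (s : S) (q : Q) : mulMap R S Q (s ⊗ₜ q) = s • q := rfl

/-- `X` acting on `Q`, as an `R`-linear map. -/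
noncomputable def xQ : Q →ₗ[R] Q := (LinearMap.lsmul S Q X).restrictScalars R

@[simp] theorem xQ_apply (q : Q) : xQ R S X Q q = X • q := rfl

/-- `1 ⊗ X`. -/
noncomputable def bQ : Module.End S (S ⊗[R] Q) := LinearMap.baseChange S (xQ R S X Q)

/-- `X ⊗ 1`. -/
noncomputable def aQ : Module.End S (S ⊗[R] Q) := algebraMap S (Module.End S (S ⊗[R] Q)) X

/-- `X ⊗ 1 - 1 ⊗ X`. -/
noncomputable def tQ : Module.End S (S ⊗[R] Q) := aQ R S X Q - bQ R S X Q

/-- The cofactor. -/
noncomputable def uQ (M : ℕ) : Module.End S (S ⊗[R] Q) :=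
  ∑ i ∈ Finset.range M, aQ R S X Q ^ i * bQ R S X Q ^ (M - 1 - i)

theorem bQ_pow_tmul (k : ℕ) (s : S) (q : Q) :
    (bQ R S X Q ^ k) (s ⊗ₜ q) = s ⊗ₜ (X ^ k • q) := by
  induction k generalizing q with
  | zero => simp
  | succ k ih =>
    rw [pow_succ, Module.End.mul_apply, bQ, LinearMap.baseChange_tmul, xQ_apply]
    have := ih (X • q)
    rw [bQ] at this
    rw [this, pow_succ, mul_smul]

theorem aQ_pow_apply (k : ℕ) (y : S ⊗[R] Q) : (aQ R S X Q ^ k) y = X ^ k • y := by
  rw [aQ, ← map_pow, Module.algebraMap_end_apply]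

theorem commute_aQ_bQ : Commute (aQ R S X Q) (bQ R S X Q) :=
  Algebra.commutes X (bQ R S X Q)

variable {R S X Q}

theorem bQ_pow_eq_zero {M : ℕ} (hX : ∀ q : Q, X ^ M • q = 0) : bQ R S X Q ^ M = 0 := by
  apply LinearMap.ext
  intro y
  induction y using TensorProduct.induction_on with
  | zero => simp
  | tmul s q => rw [bQ_pow_tmul, hX, tmul_zero, LinearMap.zero_apply]
  | add y z hy hz => rw [map_add, hy, hz]; simp

theorem tQ_mul_uQ {M : ℕ} (hX : ∀ q : Q, X ^ M • q = 0) (y : S ⊗[R] Q) :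
    tQ R S X Q (uQ R S X Q M y) = X ^ M • y := by
  have h := @Commute.mul_geom_sum₂ (Module.End S (S ⊗[R] Q)) _ _ _ (commute_aQ_bQ R S X Q) M
  have h3 : tQ R S X Q * uQ R S X Q M = aQ R S X Q ^ M := by
    rw [tQ, uQ, h, bQ_pow_eq_zero hX]
    exact sub_zero (aQ R S X Q ^ M)
  have h2 := congrArg (fun φ : Module.End S (S ⊗[R] Q) => φ y) h3
  simp only [Module.End.mul_apply] at h2
  rw [aQ_pow_apply] at h2
  exact h2

theorem uQ_mul_tQ {M : ℕ} (hX : ∀ q : Q, X ^ M • q = 0) (y : S ⊗[R] Q) :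
    uQ R S X Q M (tQ R S X Q y) = X ^ M • y := by
  have h := @Commute.geom_sum₂_mul (Module.End S (S ⊗[R] Q)) _ _ _ (commute_aQ_bQ R S X Q) M
  have h3 : uQ R S X Q M * tQ R S X Q = aQ R S X Q ^ M := by
    rw [tQ, uQ, h, bQ_pow_eq_zero hX]
    exact sub_zero (aQ R S X Q ^ M)
  have h2 := congrArg (fun φ : Module.End S (S ⊗[R] Q) => φ y) h3
  simp only [Module.End.mul_apply] at h2
  rw [aQ_pow_apply] at h2
  exact h2

theorem tQ_tmul (s : S) (q : Q) :
    tQ R S X Q (s ⊗ₜ q) = (X * s) ⊗ₜ[R] q - s ⊗ₜ[R] (X • q) := by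
  rw [tQ, LinearMap.sub_apply, aQ, Module.algebraMap_end_apply, bQ, LinearMap.baseChange_tmul,
    xQ_apply, TensorProduct.smul_tmul', smul_eq_mul]

theorem mulMap_tQ (y : S ⊗[R] Q) : mulMap R S Q (tQ R S X Q y) = 0 := by
  induction y using TensorProduct.induction_on with
  | zero => simp
  | tmul s q =>
    rw [tQ_tmul, map_sub, mulMap_tmul, mulMap_tmul, mul_smul, smul_comm, sub_self]
  | add y z hy hz => rw [map_add, map_add, hy, hz, add_zero]

theorem tQ_injective [Module.Flat S (S ⊗[R] Q)] {M : ℕ} (hX : ∀ q : Q, X ^ M • q = 0)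
    (hreg : X ^ M ∈ nonZeroDivisors S) : Function.Injective (tQ R S X Q) := by
  rw [injective_iff_map_eq_zero]
  intro y hy
  have h1 : X ^ M • y = 0 := by rw [← uQ_mul_tQ hX, hy, map_zero]
  have h2 := Module.Flat.isSMulRegular_of_nonZeroDivisors (M := S ⊗[R] Q) hreg
  exact h2 (show X ^ M • y = X ^ M • (0 : S ⊗[R] Q) by rw [h1, smul_zero])

theorem sub_mem_range_tQ {M : ℕ} (hX : ∀ q : Q, X ^ M • q = 0)
    (hS : ∀ P : S → Prop, (∀ r : R, P (algebraMap R S r)) → (∀ s, P s → P (X * s)) →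
      (∀ s t, P s → P t → P (s + t)) → (∀ s, P (X ^ M * s)) → ∀ s, P s)
    (y : S ⊗[R] Q) :
    y - (1 : S) ⊗ₜ[R] mulMap R S Q y ∈ LinearMap.range (tQ R S X Q) := by
  induction y using TensorProduct.induction_on with
  | zero => simp
  | add y z hy hz =>
    have : y + z - (1 : S) ⊗ₜ[R] mulMap R S Q (y + z) =
        (y - (1 : S) ⊗ₜ[R] mulMap R S Q y) + (z - (1 : S) ⊗ₜ[R] mulMap R S Q z) := by
      rw [map_add, tmul_add]; abel
    rw [this]
    exact add_mem hy hz
  | tmul s q =>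
    rw [mulMap_tmul]
    revert q
    refine hS (fun s => ∀ q : Q, s ⊗ₜ[R] q - (1 : S) ⊗ₜ[R] (s • q) ∈
      LinearMap.range (tQ R S X Q)) ?_ ?_ ?_ ?_ s
    · intro r q
      rw [algebraMap_smul, Algebra.algebraMap_eq_smul_one, TensorProduct.smul_tmul, sub_self]
      exact zero_mem _
    · intro s hs q
      have : (X * s) ⊗ₜ[R] q - (1 : S) ⊗ₜ[R] ((X * s) • q) =
          tQ R S X Q (s ⊗ₜ q) + (s ⊗ₜ[R] (X • q) - (1 : S) ⊗ₜ[R] (s • (X • q))) := by
        rw [tQ_tmul, mul_smul, smul_comm X s q]; abel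
      rw [this]
      exact add_mem ⟨_, rfl⟩ (hs _)
    · intro s t hs ht q
      have : (s + t) ⊗ₜ[R] q - (1 : S) ⊗ₜ[R] ((s + t) • q) =
          (s ⊗ₜ[R] q - (1 : S) ⊗ₜ[R] (s • q)) + (t ⊗ₜ[R] q - (1 : S) ⊗ₜ[R] (t • q)) := by
        rw [add_tmul, add_smul, tmul_add]; abel
      rw [this]
      exact add_mem (hs q) (ht q)
    · intro s q
      rw [mul_smul, hX, tmul_zero, sub_zero]
      refine ⟨uQ R S X Q M (s ⊗ₜ q), ?_⟩
      rw [tQ_mul_uQ hX, TensorProduct.smul_tmul', smul_eq_mul]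

theorem ker_mulMap_eq_range_tQ {M : ℕ} (hX : ∀ q : Q, X ^ M • q = 0)
    (hS : ∀ P : S → Prop, (∀ r : R, P (algebraMap R S r)) → (∀ s, P s → P (X * s)) →
      (∀ s t, P s → P t → P (s + t)) → (∀ s, P (X ^ M * s)) → ∀ s, P s) :
    LinearMap.ker (mulMap R S Q) = LinearMap.range (tQ R S X Q) := by
  apply le_antisymm
  · intro y hy
    have h := sub_mem_range_tQ hX hS y
    rw [LinearMap.mem_ker.mp hy, tmul_zero, sub_zero] at h
    exact h
  · rintro _ ⟨y, rfl⟩
    exact LinearMap.mem_ker.mpr (mulMap_tQ y)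

theorem mulMap_surjective : Function.Surjective (mulMap R S Q) := fun q =>
  ⟨(1 : S) ⊗ₜ q, by rw [mulMap_tmul, one_smul]⟩

/-- Main abstract result. -/
theorem ker_finite_projective {M : ℕ} (hX : ∀ q : Q, X ^ M • q = 0)
    (hreg : X ^ M ∈ nonZeroDivisors S)
    (hS : ∀ P : S → Prop, (∀ r : R, P (algebraMap R S r)) → (∀ s, P s → P (X * s)) →
      (∀ s t, P s → P t → P (s + t)) → (∀ s, P (X ^ M * s)) → ∀ s, P s)
    [Module.Projective R Q] [Module.Finite R Q]
    {F : Type*} [AddCommGroup F] [Module S F] [Module.Projective S F] [Module.Finite S F]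
    (π : F →ₗ[S] Q) (hπ : Function.Surjective π) :
    Module.Finite S (LinearMap.ker π) ∧ Module.Projective S (LinearMap.ker π) := by
  haveI : Module.Projective S (S ⊗[R] Q) := inferInstance
  haveI : Module.Finite S (S ⊗[R] Q) := inferInstance
  -- the kernel of `μ`
  have hK := ker_mulMap_eq_range_tQ (R := R) (S := S) (X := X) (Q := Q) hX hS
  let e : (S ⊗[R] Q) ≃ₗ[S] LinearMap.ker (mulMap R S Q) :=
    (LinearEquiv.ofInjective (tQ R S X Q) (tQ_injective hX hreg)).trans
      (LinearEquiv.ofEq _ _ hK.symm)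
  haveI : Module.Projective S (LinearMap.ker (mulMap R S Q)) := Module.Projective.of_equiv e
  haveI : Module.Finite S (LinearMap.ker (mulMap R S Q)) := Module.Finite.equiv e
  -- lifts
  obtain ⟨g, hg⟩ := Module.projective_lifting_property (mulMap R S Q) π mulMap_surjective
  obtain ⟨σ, hσ⟩ := Module.projective_lifting_property π (mulMap R S Q) hπ
  have hg' : ∀ v, mulMap R S Q (g v) = π v := fun v => LinearMap.congr_fun hg v
  have hσ' : ∀ y, π (σ y) = mulMap R S Q y := fun y => LinearMap.congr_fun hσ y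
  -- the retraction
  let α : LinearMap.ker π →ₗ[S] F × LinearMap.ker (mulMap R S Q) :=
    LinearMap.prod (LinearMap.ker π).subtype
      (LinearMap.codRestrict _ (-(g ∘ₗ (LinearMap.ker π).subtype)) (by
        intro l
        rw [LinearMap.mem_ker, LinearMap.neg_apply, map_neg, LinearMap.comp_apply, hg']
        simp))
  let β : F × LinearMap.ker (mulMap R S Q) →ₗ[S] LinearMap.ker π :=
    LinearMap.codRestrict _
      (LinearMap.fst S F _ - σ ∘ₗ (g ∘ₗ LinearMap.fst S F _ +
        (LinearMap.ker (mulMap R S Q)).subtype ∘ₗ LinearMap.snd S F _)) (by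
        rintro ⟨v, k⟩
        rw [LinearMap.mem_ker]
        simp only [LinearMap.sub_apply, LinearMap.fst_apply, LinearMap.comp_apply,
          LinearMap.add_apply, LinearMap.snd_apply, Submodule.subtype_apply, map_sub, hσ', map_add,
          hg']
        rw [LinearMap.mem_ker.mp k.2]
        simp)
  have hβα : β ∘ₗ α = LinearMap.id := by
    apply LinearMap.ext
    intro l
    apply Subtype.ext
    simp [α, β]
  have hβsurj : Function.Surjective β := fun l => ⟨α l, LinearMap.congr_fun hβα l⟩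
  exact ⟨Module.Finite.of_surjective β hβsurj, Module.Projective.of_split α β hβα⟩

end Groth.Agent.Lib.LatProjH3
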