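import Mathlib
import Groth.Agent.Lib.LatProj_helper3

/-!
# Lattices in `R⟦X⟧ⁿ` (helper3)

`X^M R⟦X⟧ⁿ ⊆ Λ ⊆ R⟦X⟧ⁿ`: `Λ` is finite projective over `R⟦X⟧` iff `R⟦X⟧ⁿ/Λ` is projective
over `R`.
-/

set_option autoImplicit false

open PowerSeries

namespace Groth.Agent.Lib.LatProjH3

universe u

variable {R : Type u} [CommRing R]

theorem powerSeries_closure (M : ℕ) (P : R⟦X⟧ → Prop) (h1 : ∀ r : R, P (algebraMap R R⟦X⟧ r))
    (h2 : ∀ s, P s → P (X * s)) (h3 : ∀ s t, P s → P t → P (s + t))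
    (h4 : ∀ s, P ((X : R⟦X⟧) ^ M * s)) : ∀ s, P s := by
  intro s
  rw [eq_X_pow_mul_shift_add_trunc M s]
  apply h3 _ _ (h4 _)
  have : ∀ p : Polynomial R, P (p : R⟦X⟧) := by
    intro p
    induction p using Polynomial.induction_on with
    | C a => rw [Polynomial.coe_C]; exact h1 a
    | add p q hp hq => rw [Polynomial.coe_add]; exact h3 _ _ hp hq
    | monomial n a h =>
      have : ((Polynomial.C a * Polynomial.X ^ (n + 1) : Polynomial R) : R⟦X⟧) =
          X * ((Polynomial.C a * Polynomial.X ^ n : Polynomial R) : R⟦X⟧) := by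
        simp only [Polynomial.coe_mul, Polynomial.coe_pow, Polynomial.coe_X, Polynomial.coe_C]
        ring
      rw [this]
      exact h2 _ h
  exact this _

theorem X_pow_mem_nonZeroDivisors (M : ℕ) : (X : R⟦X⟧) ^ M ∈ nonZeroDivisors R⟦X⟧ := by
  rw [mem_nonZeroDivisors_iff_right]
  intro z hz
  apply mul_X_pow_cancel (k := M)
  rw [hz, zero_mul]

variable (n M : ℕ)

/-- Truncation of coefficients. -/
noncomputable def tau : (Fin n → R⟦X⟧) →ₗ[R] (Fin n → Fin M → R) where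
  toFun v c j := coeff (j : ℕ) (v c)
  map_add' v w := by ext c j; simp
  map_smul' r v := by ext c j; simp

@[simp] theorem tau_apply (v : Fin n → R⟦X⟧) (c : Fin n) (j : Fin M) :
    tau n M v c j = coeff (j : ℕ) (v c) := rfl

/-- Polynomial section of `tau`. -/
noncomputable def sig : (Fin n → Fin M → R) →ₗ[R] (Fin n → R⟦X⟧) where
  toFun w c := PowerSeries.mk (fun d => if h : d < M then w c ⟨d, h⟩ else 0)
  map_add' v w := by
    ext c d
    simp only [Pi.add_apply, coeff_mk, map_add]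
    split_ifs <;> simp
  map_smul' r v := by
    ext c d
    simp only [Pi.smul_apply, smul_eq_mul, coeff_mk, RingHom.id_apply, coeff_smul]
    split_ifs <;> simp

theorem tau_sig (w : Fin n → Fin M → R) : tau n M (sig n M w) = w := by
  ext c j
  simp [sig, j.2]

theorem exists_sub_sig_tau (v : Fin n → R⟦X⟧) :
    ∃ u : Fin n → R⟦X⟧, v - sig n M (tau n M v) = (X : R⟦X⟧) ^ M • u := by
  have h : ∀ c, (X : R⟦X⟧) ^ M ∣ (v c - sig n M (tau n M v) c) := by
    intro c
    rw [X_pow_dvd_iff]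
    intro d hd
    simp [sig, hd]
  choose u hu using h
  exact ⟨u, funext fun c => by simpa using hu c⟩

theorem tau_X_pow_smul (u : Fin n → R⟦X⟧) : tau n M ((X : R⟦X⟧) ^ M • u) = 0 := by
  ext c j
  simp only [tau_apply, Pi.smul_apply, smul_eq_mul, coeff_X_pow_mul', Pi.zero_apply]
  rw [if_neg (not_le.mpr j.2)]

theorem tau_smul (s : R⟦X⟧) (v : Fin n → R⟦X⟧) :
    tau n M (s • v) = ∑ j : Fin M, coeff (j : ℕ) s • tau n M ((X : R⟦X⟧) ^ (j : ℕ) • v) := by
  ext c d
  simp only [tau_apply, Pi.smul_apply, smul_eq_mul, Finset.sum_apply, coeff_X_pow_mul']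
  rw [coeff_mul, Finset.Nat.sum_antidiagonal_eq_sum_range_succ_mk,
    Fin.sum_univ_eq_sum_range (fun j => coeff j s * if j ≤ (d : ℕ) then coeff ((d : ℕ) - j) (v c) else 0) M]
  have hsub : Finset.range ((d : ℕ) + 1) ⊆ Finset.range M := by
    intro j hj
    rw [Finset.mem_range] at hj ⊢
    have := d.2
    omega
  rw [← Finset.sum_subset hsub]
  · apply Finset.sum_congr rfl
    intro j hj
    rw [Finset.mem_range] at hj
    rw [if_pos (by omega)]
  · intro j _ hj
    rw [Finset.mem_range] at hj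
    rw [if_neg (by omega), mul_zero]

variable {n M} (Λ : Submodule R⟦X⟧ (Fin n → R⟦X⟧))
  (hΛ : ∀ v : Fin n → R⟦X⟧, ((X : R⟦X⟧) ^ M) • v ∈ Λ)

/-- The induced surjection from the truncated free module onto the quotient. -/
noncomputable def rho : (Fin n → Fin M → R) →ₗ[R] ((Fin n → R⟦X⟧) ⧸ Λ) :=
  (Λ.mkQ.restrictScalars R) ∘ₗ sig n M

include hΛ in
theorem rho_tau (v : Fin n → R⟦X⟧) : rho (M := M) Λ (tau n M v) = Λ.mkQ v := by
  obtain ⟨u, hu⟩ := exists_sub_sig_tau n M v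
  show Λ.mkQ (sig n M (tau n M v)) = Λ.mkQ v
  symm
  rw [← sub_eq_zero, ← map_sub, hu]
  exact (Submodule.Quotient.mk_eq_zero Λ).mpr (hΛ u)

include hΛ in
theorem rho_surjective : Function.Surjective (rho (M := M) Λ) := by
  intro q
  obtain ⟨v, rfl⟩ := Λ.mkQ_surjective q
  exact ⟨tau n M v, rho_tau Λ hΛ v⟩

include hΛ in
theorem X_pow_smul_quot (q : (Fin n → R⟦X⟧) ⧸ Λ) : (X : R⟦X⟧) ^ M • q = 0 := by
  obtain ⟨v, rfl⟩ := Λ.mkQ_surjective q
  rw [← map_smul]
  exact (Submodule.Quotient.mk_eq_zero Λ).mpr (hΛ v)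

include hΛ in
/-- (⇐) -/
theorem finite_projective_of_quot_projective
    (hQ : Module.Projective R ((Fin n → R⟦X⟧) ⧸ Λ)) :
    Module.Finite R⟦X⟧ Λ ∧ Module.Projective R⟦X⟧ Λ := by
  haveI : Module.Finite R ((Fin n → R⟦X⟧) ⧸ Λ) :=
    Module.Finite.of_surjective (rho (M := M) Λ) (rho_surjective Λ hΛ)
  obtain ⟨h1, h2⟩ := ker_finite_projective (R := R) (S := R⟦X⟧) (X := X) (M := M)
    (Q := (Fin n → R⟦X⟧) ⧸ Λ) (X_pow_smul_quot Λ hΛ) (X_pow_mem_nonZeroDivisors M)
    (powerSeries_closure M) Λ.mkQ Λ.mkQ_surjective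
  have e : LinearMap.ker Λ.mkQ ≃ₗ[R⟦X⟧] Λ := LinearEquiv.ofEq _ _ Λ.ker_mkQ
  exact ⟨Module.Finite.equiv e, Module.Projective.of_equiv e⟩

include hΛ in
theorem ker_rho_fg (hfg : Λ.FG) : (LinearMap.ker (rho (M := M) Λ)).FG := by
  classical
  obtain ⟨G, hG⟩ := hfg
  let T : Set (Fin n → Fin M → R) :=
    (fun p : (Fin n → R⟦X⟧) × ℕ => tau n M ((X : R⟦X⟧) ^ p.2 • p.1)) '' ((G : Set _) ×ˢ (Finset.range M : Set ℕ))
  have hT : T.Finite := (G.finite_toSet.prod (Finset.range M).finite_toSet).image _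
  have key : ∀ l ∈ Submodule.span R⟦X⟧ (G : Set (Fin n → R⟦X⟧)), ∀ s : R⟦X⟧,
      tau n M (s • l) ∈ Submodule.span R T := by
    intro l hl
    induction hl using Submodule.span_induction with
    | mem g hg =>
      intro s
      rw [tau_smul]
      refine Submodule.sum_mem _ fun j _ => Submodule.smul_mem _ _ (Submodule.subset_span ?_)
      exact ⟨(g, (j : ℕ)), ⟨hg, by simp⟩, rfl⟩
    | zero => intro s; simp
    | add x y _ _ hx hy =>
      intro s
      rw [smul_add, map_add]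
      exact add_mem (hx s) (hy s)
    | smul a x _ hx =>
      intro s
      rw [smul_smul]
      exact hx _
  have heq : LinearMap.ker (rho (M := M) Λ) = Submodule.span R T := by
    apply le_antisymm
    · intro w hw
      have h1 : sig n M w ∈ Λ := by
        rw [← Submodule.Quotient.mk_eq_zero]
        exact hw
      rw [← hG] at h1
      have := key _ h1 1
      rwa [one_smul, tau_sig] at this
    · rw [Submodule.span_le]
      rintro _ ⟨⟨g, j⟩, ⟨hg, -⟩, rfl⟩
      rw [SetLike.mem_coe, LinearMap.mem_ker, rho_tau Λ hΛ]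
      refine (Submodule.Quotient.mk_eq_zero Λ).mpr (Λ.smul_mem _ ?_)
      rw [← hG]
      exact Submodule.subset_span hg
  rw [heq]
  exact Submodule.fg_span hT

/-- the shift -/
noncomputable def shiftM (M : ℕ) (p : R⟦X⟧) : R⟦X⟧ := PowerSeries.mk fun d => coeff (d + M) p

include hΛ in
theorem exists_decomp (hproj : Module.Projective R⟦X⟧ Λ) {l : ℕ} (f : Fin l → R)
    (v : Fin l → (Fin n → R⟦X⟧)) (hv : ∑ i, f i • v i ∈ Λ) :
    ∃ lam : Fin l → (Fin n → R⟦X⟧), (∀ i, lam i ∈ Λ) ∧ ∑ i, f i • v i = ∑ i, f i • lam i := by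
  classical
  obtain ⟨s, hs⟩ := Module.projective_def'.mp hproj
  let l₀ : Λ := ⟨∑ i, f i • v i, hv⟩
  let w : Fin l → Λ := fun i => ⟨(X : R⟦X⟧) ^ M • v i, hΛ _⟩
  have h1 : (X : R⟦X⟧) ^ M • l₀ = ∑ i, (C (f i) : R⟦X⟧) • w i := by
    apply Subtype.ext
    simp only [l₀, w, Submodule.coe_smul, Submodule.coe_sum, Finset.smul_sum]
    apply Finset.sum_congr rfl
    intro i _
    rw [← algebraMap_eq, algebraMap_smul, smul_comm]
  have h2 : ∀ z : Λ, s l₀ z = ∑ i, (C (f i) : R⟦X⟧) * shiftM M (s (w i) z) := by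
    intro z
    have h3 := congrArg (fun t : Λ →₀ R⟦X⟧ => t z) (congrArg s h1)
    simp only [map_smul, map_sum, Finsupp.smul_apply, Finsupp.coe_finset_sum, Finset.sum_apply,
      smul_eq_mul] at h3
    ext d
    have h4 := congrArg (coeff (d + M)) h3
    rw [coeff_X_pow_mul] at h4
    rw [h4, map_sum, map_sum]
    apply Finset.sum_congr rfl
    intro i _
    rw [coeff_C_mul, coeff_C_mul, shiftM, coeff_mk]
  refine ⟨fun i => ∑ z ∈ (s l₀).support, shiftM M (s (w i) z) • (z : Fin n → R⟦X⟧), ?_, ?_⟩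
  · intro i
    exact Submodule.sum_mem _ fun z _ => Λ.smul_mem _ z.2
  · have h5 : (l₀ : Fin n → R⟦X⟧) = ∑ z ∈ (s l₀).support, (s l₀ z) • (z : Fin n → R⟦X⟧) := by
      have := LinearMap.congr_fun hs l₀
      simp only [LinearMap.comp_apply, LinearMap.id_apply, Finsupp.linearCombination_apply,
        Finsupp.sum, id] at this
      conv_lhs => rw [← this]
      simp
    show (l₀ : Fin n → R⟦X⟧) = _
    rw [h5]
    simp_rw [Finset.smul_sum]
    rw [Finset.sum_comm]
    apply Finset.sum_congr rfl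
    intro z _
    rw [h2 z, Finset.sum_smul]
    apply Finset.sum_congr rfl
    intro i _
    rw [mul_smul, ← algebraMap_eq, algebraMap_smul]

include hΛ in
theorem quot_flat (hproj : Module.Projective R⟦X⟧ Λ) :
    Module.Flat R ((Fin n → R⟦X⟧) ⧸ Λ) := by
  apply Module.Flat.of_forall_isTrivialRelation
  intro l f x hfx
  choose v hv using fun i => Λ.mkQ_surjective (x i)
  have hmem : ∑ i, f i • v i ∈ Λ := by
    rw [← Submodule.Quotient.mk_eq_zero, ← Submodule.mkQ_apply, map_sum]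
    rw [← hfx]
    apply Finset.sum_congr rfl
    intro i _
    rw [← hv i]
    exact (Λ.mkQ.restrictScalars R).map_smul (f i) (v i)
  obtain ⟨lam, hlam, heq⟩ := exists_decomp Λ hΛ hproj f v hmem
  have hw : ∑ i, f i • tau n M (v i - lam i) = 0 := by
    simp_rw [← map_smul]
    rw [← map_sum]
    have : ∑ i, f i • (v i - lam i) = 0 := by
      simp_rw [smul_sub]
      rw [Finset.sum_sub_distrib, heq, sub_self]
    rw [this, map_zero]
  obtain ⟨k, a, y, h1, h2⟩ := Module.Flat.isTrivialRelation_of_sum_smul_eq_zero hw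
  refine ⟨k, a, fun j => rho (M := M) Λ (y j), ?_, h2⟩
  intro i
  have h3 : x i = rho (M := M) Λ (tau n M (v i - lam i)) := by
    rw [rho_tau Λ hΛ, map_sub, hv i]
    have : Λ.mkQ (lam i) = 0 := (Submodule.Quotient.mk_eq_zero Λ).mpr (hlam i)
    rw [this, sub_zero]
  have h1' : tau n M (v i - lam i) = ∑ j, a i j • y j := h1 i
  rw [h3, h1', map_sum]
  simp_rw [map_smul]

include hΛ in
/-- (⇒) -/
theorem quot_projective_of_finite_projective (hfin : Module.Finite R⟦X⟧ Λ)
    (hproj : Module.Projective R⟦X⟧ Λ) : Module.Projective R ((Fin n → R⟦X⟧) ⧸ Λ) := by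
  haveI := quot_flat Λ hΛ hproj
  haveI : Module.FinitePresentation R ((Fin n → R⟦X⟧) ⧸ Λ) :=
    Module.finitePresentation_of_surjective (rho (M := M) Λ) (rho_surjective Λ hΛ)
      (ker_rho_fg Λ hΛ (Module.Finite.iff_fg.mp hfin))
  exact Module.Flat.projective_of_finitePresentation

end Groth.Agent.Lib.LatProjH3
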