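import Mathlib

/-!
# Isomorphisms of lattices between `O^n` and `Õ^n` are given by matrices over `Õ` (S15010)
-/

universe u

namespace Groth.Agent.Lib.LatticeIso

open Matrix

variable {O : Type u} [CommRing O] [IsDomain O] {K : Type u} [Field K] [Algebra O K]
  [IsFractionRing O K]

lemma single_mem (n : ℕ) (M : Submodule O (Fin n → K))
    (hM1 : Submodule.pi Set.univ (fun _ : Fin n => (1 : Submodule O K)) ≤ M) (j : Fin n) :
    (Pi.single j (1 : K) : Fin n → K) ∈ M := by
  apply hM1
  rw [Submodule.mem_pi]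
  intro i _
  rw [Submodule.mem_one]
  by_cases h : i = j
  · subst h; exact ⟨1, by simp⟩
  · exact ⟨0, by simp [Pi.single_apply, h]⟩

lemma exists_matrix (n : ℕ) (M N : Submodule O (Fin n → K))
    (hM1 : Submodule.pi Set.univ (fun _ : Fin n => (1 : Submodule O K)) ≤ M)
    (hN2 : N ≤ Submodule.pi Set.univ
      (fun _ : Fin n => (Subalgebra.toSubmodule (integralClosure O K))))
    (ψ : ↥M →ₗ[O] ↥N) :
    ∃ A : Matrix (Fin n) (Fin n) ↥(integralClosure O K), ∀ x : ↥M,
      ((ψ x : ↥N) : Fin n → K)
        = (A.map (algebraMap ↥(integralClosure O K) K)).mulVec (x : Fin n → K) := by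
  classical
  have he : ∀ j : Fin n, (Pi.single j (1 : K) : Fin n → K) ∈ M := single_mem n M hM1
  have hcol : ∀ i j : Fin n, ((ψ ⟨_, he j⟩ : ↥N) : Fin n → K) i ∈ integralClosure O K := by
    intro i j
    have := hN2 (ψ ⟨_, he j⟩).2
    rw [Submodule.mem_pi] at this
    exact this i trivial
  let A : Matrix (Fin n) (Fin n) ↥(integralClosure O K) := fun i j => ⟨_, hcol i j⟩
  refine ⟨A, ?_⟩
  let AK : Matrix (Fin n) (Fin n) K := fun i j => ((ψ ⟨_, he j⟩ : ↥N) : Fin n → K) i
  have hAK : A.map (algebraMap ↥(integralClosure O K) K) = AK := rfl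
  rw [hAK]
  -- step 1: integral vectors
  have h1 : ∀ (x : ↥M) (c : Fin n → O), (∀ j, (x : Fin n → K) j = algebraMap O K (c j)) →
      ((ψ x : ↥N) : Fin n → K) = AK.mulVec (x : Fin n → K) := by
    intro x c hc
    have hx : x = ∑ j, c j • (⟨_, he j⟩ : ↥M) := by
      apply Subtype.ext
      rw [AddSubmonoidClass.coe_finset_sum]
      funext i
      simp only [Submodule.coe_smul, Finset.sum_apply, Pi.smul_apply, Pi.single_apply]
      rw [Finset.sum_eq_single i]
      · simp [hc i, Algebra.smul_def]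
      · intro j _ hji
        simp [hji.symm]
      · simp
    have hψx : ψ x = ∑ j, c j • ψ ⟨_, he j⟩ := by
      conv_lhs => rw [hx]
      rw [map_sum]
      simp only [map_smul]
    funext i
    rw [hψx, AddSubmonoidClass.coe_finset_sum]
    simp only [Submodule.coe_smul, Finset.sum_apply, Pi.smul_apply, Matrix.mulVec, dotProduct]
    apply Finset.sum_congr rfl
    intro j _
    rw [hc j, Algebra.smul_def, mul_comm]
  intro x
  obtain ⟨b, hb⟩ := IsLocalization.exist_integer_multiples (nonZeroDivisors O)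
    (Finset.univ : Finset (Fin n)) (fun j => (x : Fin n → K) j)
  choose c hc using fun j => hb j (Finset.mem_univ j)
  have hb0 : algebraMap O K (b : O) ≠ 0 :=
    IsFractionRing.to_map_ne_zero_of_mem_nonZeroDivisors b.2
  have h2 := h1 ((b : O) • x) c (fun j => by
    rw [Submodule.coe_smul, Pi.smul_apply, hc j])
  rw [map_smul, Submodule.coe_smul, Submodule.coe_smul, Matrix.mulVec_smul] at h2
  funext i
  have h3 := congrFun h2 i
  rw [Pi.smul_apply, Pi.smul_apply, Algebra.smul_def, Algebra.smul_def] at h3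
  exact mul_left_cancel₀ hb0 h3

theorem main (O : Type u) [CommRing O] [IsDomain O] [IsNoetherianRing O] [IsLocalRing O] (hdim : ringKrullDim O = 1) [IsAlgClosed (IsLocalRing.ResidueField O)] (K : Type u) [Field K] [Algebra O K] [IsFractionRing O K] (hfin : Module.Finite O ↥(integralClosure O K)) (n : ℕ) (M N : Submodule O (Fin n → K)) (hM1 : Submodule.pi Set.univ (fun _ : Fin n => (1 : Submodule O K)) ≤ M) (hM2 : M ≤ Submodule.pi Set.univ (fun _ : Fin n => (Subalgebra.toSubmodule (integralClosure O K)))) (hN1 : Submodule.pi Set.univ (fun _ : Fin n => (1 : Submodule O K)) ≤ N) (hN2 : N ≤ Submodule.pi Set.univ (fun _ : Fin n => (Subalgebra.toSubmodule (integralClosure O K)))) (φ : ↥M ≃ₗ[O] ↥N) : ∃ A : Matrix (Fin n) (Fin n) ↥(integralClosure O K), IsUnit A ∧ ∀ x : ↥M, ((φ x : ↥N) : Fin n → K) = (A.map (algebraMap ↥(integralClosure O K) K)).mulVec (x : Fin n → K) := by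
  classical
  obtain ⟨A, hA⟩ := exists_matrix n M N hM1 hN2 φ.toLinearMap
  obtain ⟨B, hB⟩ := exists_matrix n N M hN1 hM2 φ.symm.toLinearMap
  refine ⟨A, ?_, hA⟩
  have hAB : A * B = 1 := by
    apply Matrix.map_injective (f := algebraMap ↥(integralClosure O K) K) Subtype.val_injective
    show (A * B).map (algebraMap ↥(integralClosure O K) K)
      = (1 : Matrix (Fin n) (Fin n) ↥(integralClosure O K)).map (algebraMap ↥(integralClosure O K) K)
    rw [Matrix.map_mul, Matrix.map_one _ (map_zero _) (map_one _)]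
    ext i j
    have hej : (Pi.single j (1 : K) : Fin n → K) ∈ N := single_mem n N hN1 j
    have h1 := hB ⟨_, hej⟩
    have h2 := hA (φ.symm ⟨_, hej⟩)
    simp only [LinearEquiv.coe_coe, LinearEquiv.apply_symm_apply] at h1 h2
    rw [h1, Matrix.mulVec_mulVec, Matrix.mulVec_single_one] at h2
    have h3 := congrFun h2 i
    have h4 : (A.map (algebraMap ↥(integralClosure O K) K)
        * B.map (algebraMap ↥(integralClosure O K) K)).col j i
        = (A.map (algebraMap ↥(integralClosure O K) K)
        * B.map (algebraMap ↥(integralClosure O K) K)) i j := rfl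
    rw [Matrix.one_apply, ← h4, ← h3, Pi.single_apply]
  exact ⟨⟨A, B, hAB, mul_eq_one_comm.mp hAB⟩, rfl⟩

end Groth.Agent.Lib.LatticeIso
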