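import Mathlib

/-! Orthogonal splitting of positive-definite integral lattices (lead). -/

namespace Groth.Agent.Lib.LatticeSplit

open Matrix

variable {ι κ₁ κ₂ : Type} [Fintype ι] [Fintype κ₁] [Fintype κ₂]

section form1
variable {κ : Type} [Fintype κ] (S : Matrix κ κ ℤ)

theorem form_symm (hS : S.IsSymm) (s t : κ → ℤ) : s ⬝ᵥ S *ᵥ t = t ⬝ᵥ S *ᵥ s := by
  rw [dotProduct_mulVec, ← mulVec_transpose, hS.eq, dotProduct_comm]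

theorem form_nonneg (hpos : ∀ y : κ → ℤ, y ≠ 0 → 0 < y ⬝ᵥ S *ᵥ y) (s : κ → ℤ) :
    0 ≤ s ⬝ᵥ S *ᵥ s := by
  by_cases hs : s = 0
  · rw [hs, mulVec_zero, dotProduct_zero]
  · exact (hpos s hs).le

theorem form_eq_zero (hpos : ∀ y : κ → ℤ, y ≠ 0 → 0 < y ⬝ᵥ S *ᵥ y) (s : κ → ℤ)
    (h : s ⬝ᵥ S *ᵥ s = 0) : s = 0 := by
  by_contra hs
  have := hpos s hs
  omega

end form1

section form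
variable (Ψ₁ : Matrix κ₁ κ₁ ℤ) (Ψ₂ : Matrix κ₂ κ₂ ℤ)

/-- the block form. -/
def β (u v : κ₁ ⊕ κ₂ → ℤ) : ℤ := u ⬝ᵥ (fromBlocks Ψ₁ 0 0 Ψ₂) *ᵥ v

theorem β_eq (u v : κ₁ ⊕ κ₂ → ℤ) :
    β Ψ₁ Ψ₂ u v =
      (u ∘ Sum.inl) ⬝ᵥ Ψ₁ *ᵥ (v ∘ Sum.inl) + (u ∘ Sum.inr) ⬝ᵥ Ψ₂ *ᵥ (v ∘ Sum.inr) := by
  unfold β
  rw [fromBlocks_mulVec, zero_mulVec, zero_mulVec, add_zero, zero_add]
  have hu : u = Sum.elim (u ∘ Sum.inl) (u ∘ Sum.inr) := (Sum.elim_comp_inl_inr u).symm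
  calc u ⬝ᵥ Sum.elim (Ψ₁ *ᵥ (v ∘ Sum.inl)) (Ψ₂ *ᵥ (v ∘ Sum.inr))
      = Sum.elim (u ∘ Sum.inl) (u ∘ Sum.inr) ⬝ᵥ
          Sum.elim (Ψ₁ *ᵥ (v ∘ Sum.inl)) (Ψ₂ *ᵥ (v ∘ Sum.inr)) := by rw [← hu]
    _ = _ := sumElim_dotProduct_sumElim _ _ _ _

theorem β_symm (h₁ : Ψ₁.IsSymm) (h₂ : Ψ₂.IsSymm) (u v : κ₁ ⊕ κ₂ → ℤ) :
    β Ψ₁ Ψ₂ u v = β Ψ₁ Ψ₂ v u := by
  rw [β_eq, β_eq, form_symm Ψ₁ h₁ (u ∘ Sum.inl), form_symm Ψ₂ h₂ (u ∘ Sum.inr)]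

theorem β_add_left (u u' v : κ₁ ⊕ κ₂ → ℤ) :
    β Ψ₁ Ψ₂ (u + u') v = β Ψ₁ Ψ₂ u v + β Ψ₁ Ψ₂ u' v := by
  unfold β
  rw [add_dotProduct]

theorem β_add_right (u v v' : κ₁ ⊕ κ₂ → ℤ) :
    β Ψ₁ Ψ₂ u (v + v') = β Ψ₁ Ψ₂ u v + β Ψ₁ Ψ₂ u v' := by
  unfold β
  rw [mulVec_add, dotProduct_add]

theorem β_neg_right (u v : κ₁ ⊕ κ₂ → ℤ) : β Ψ₁ Ψ₂ u (-v) = - β Ψ₁ Ψ₂ u v := by
  unfold β
  rw [mulVec_neg, dotProduct_neg]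

theorem β_zero_right (u : κ₁ ⊕ κ₂ → ℤ) : β Ψ₁ Ψ₂ u 0 = 0 := by
  unfold β
  rw [mulVec_zero, dotProduct_zero]

theorem β_self_nonneg (hp₁ : ∀ y : κ₁ → ℤ, y ≠ 0 → 0 < y ⬝ᵥ Ψ₁ *ᵥ y)
    (hp₂ : ∀ y : κ₂ → ℤ, y ≠ 0 → 0 < y ⬝ᵥ Ψ₂ *ᵥ y) (u : κ₁ ⊕ κ₂ → ℤ) :
    0 ≤ β Ψ₁ Ψ₂ u u := by
  rw [β_eq]
  exact add_nonneg (form_nonneg Ψ₁ hp₁ _) (form_nonneg Ψ₂ hp₂ _)

theorem β_self_eq_zero (hp₁ : ∀ y : κ₁ → ℤ, y ≠ 0 → 0 < y ⬝ᵥ Ψ₁ *ᵥ y)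
    (hp₂ : ∀ y : κ₂ → ℤ, y ≠ 0 → 0 < y ⬝ᵥ Ψ₂ *ᵥ y) (u : κ₁ ⊕ κ₂ → ℤ)
    (h : β Ψ₁ Ψ₂ u u = 0) : u = 0 := by
  rw [β_eq] at h
  have h1 := form_nonneg Ψ₁ hp₁ (u ∘ Sum.inl)
  have h2 := form_nonneg Ψ₂ hp₂ (u ∘ Sum.inr)
  have e1 : u ∘ Sum.inl = 0 := form_eq_zero Ψ₁ hp₁ _ (by omega)
  have e2 : u ∘ Sum.inr = 0 := form_eq_zero Ψ₂ hp₂ _ (by omega)
  rw [← Sum.elim_comp_inl_inr u, e1, e2]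
  funext i
  cases i <;> rfl

end form

section main
variable (P : Matrix κ₁ ι ℤ) (Q : Matrix κ₂ ι ℤ) (Ψ₁ : Matrix κ₁ κ₁ ℤ) (Ψ₂ : Matrix κ₂ κ₂ ℤ)

local notation "𝔸" => Matrix.fromRows P Q
local notation "ℙ" => Matrix.fromBlocks Ψ₁ 0 0 Ψ₂

theorem β_mulVec_left (t : ι → ℤ) (w : κ₁ ⊕ κ₂ → ℤ) :
    β Ψ₁ Ψ₂ (𝔸 *ᵥ t) w = t ⬝ᵥ (𝔸ᵀ * ℙ) *ᵥ w := by
  unfold β
  rw [← mulVec_mulVec, dotProduct_mulVec t, vecMul_transpose]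

theorem bijective_of_range_eq
    (hP : Function.Surjective P.mulVec) (hQ : Function.Surjective Q.mulVec)
    (hA : Function.Injective (Matrix.fromRows P Q).mulVec)
    (hΨ₁ : Ψ₁.IsSymm) (hΨ₂ : Ψ₂.IsSymm)
    (hΨ₁pos : ∀ y : κ₁ → ℤ, y ≠ 0 → 0 < y ⬝ᵥ Ψ₁.mulVec y)
    (hΨ₂pos : ∀ y : κ₂ → ℤ, y ≠ 0 → 0 < y ⬝ᵥ Ψ₂.mulVec y)
    (himage : LinearMap.range
        ((Matrix.fromRows P Q).transpose * Matrix.fromBlocks Ψ₁ 0 0 Ψ₂).mulVecLin =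
      LinearMap.range ((Matrix.fromRows P Q).transpose * Matrix.fromBlocks Ψ₁ 0 0 Ψ₂ *
        Matrix.fromRows P Q).mulVecLin) :
    Function.Bijective (Matrix.fromRows P Q).mulVec := by
  refine ⟨hA, ?_⟩
  have hdec : ∀ y : κ₁ ⊕ κ₂ → ℤ, ∃ x : ι → ℤ, ∃ w : κ₁ ⊕ κ₂ → ℤ,
      y = 𝔸 *ᵥ x + w ∧ (𝔸ᵀ * ℙ) *ᵥ w = 0 := by
    intro y
    have h1 : (𝔸ᵀ * ℙ).mulVecLin y ∈ LinearMap.range (𝔸ᵀ * ℙ * 𝔸).mulVecLin := by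
      rw [← himage]
      exact LinearMap.mem_range_self _ y
    obtain ⟨x, hx⟩ := h1
    refine ⟨x, y - 𝔸 *ᵥ x, by abel, ?_⟩
    rw [Matrix.mulVecLin_apply, Matrix.mulVecLin_apply] at hx
    rw [mulVec_sub, mulVec_mulVec, hx, sub_self]
  have horth : ∀ (w : κ₁ ⊕ κ₂ → ℤ), (𝔸ᵀ * ℙ) *ᵥ w = 0 → ∀ t : ι → ℤ,
      β Ψ₁ Ψ₂ (𝔸 *ᵥ t) w = 0 := by
    intro w hw t
    rw [β_mulVec_left, hw, dotProduct_zero]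
  have hAL : ∀ t : ι → ℤ, (𝔸ᵀ * ℙ) *ᵥ (𝔸 *ᵥ t) = 0 → 𝔸 *ᵥ t = 0 := by
    intro t ht
    exact β_self_eq_zero Ψ₁ Ψ₂ hΨ₁pos hΨ₂pos _ (horth _ ht t)
  by_contra hsurj
  have hex0 : ∃ w : κ₁ ⊕ κ₂ → ℤ, (𝔸ᵀ * ℙ) *ᵥ w = 0 ∧ w ≠ 0 := by
    by_contra hcon
    apply hsurj
    intro y
    obtain ⟨x, w, hy, hw⟩ := hdec y
    refine ⟨x, ?_⟩
    have hw0 : w = 0 := by
      by_contra hw0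
      exact hcon ⟨w, hw, hw0⟩
    rw [hy, hw0, add_zero]
  have hex : ∃ m : ℕ, ∃ w : κ₁ ⊕ κ₂ → ℤ, (𝔸ᵀ * ℙ) *ᵥ w = 0 ∧ w ≠ 0 ∧
      (β Ψ₁ Ψ₂ w w).toNat = m := by
    obtain ⟨w, hw, hw0⟩ := hex0
    exact ⟨_, w, hw, hw0, rfl⟩
  classical
  obtain ⟨x, hxL, hx0, hxm⟩ := Nat.find_spec hex
  have hmin : ∀ w : κ₁ ⊕ κ₂ → ℤ, (𝔸ᵀ * ℙ) *ᵥ w = 0 → w ≠ 0 →
      β Ψ₁ Ψ₂ x x ≤ β Ψ₁ Ψ₂ w w := by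
    intro w hw hw0
    have h1 : Nat.find hex ≤ (β Ψ₁ Ψ₂ w w).toNat := Nat.find_min' hex ⟨w, hw, hw0, rfl⟩
    have h2 := β_self_nonneg Ψ₁ Ψ₂ hΨ₁pos hΨ₂pos w
    have h3 := β_self_nonneg Ψ₁ Ψ₂ hΨ₁pos hΨ₂pos x
    omega
  have hxpos : 0 < β Ψ₁ Ψ₂ x x := by
    have h3 := β_self_nonneg Ψ₁ Ψ₂ hΨ₁pos hΨ₂pos x
    rcases h3.lt_or_eq with h | h
    · exact h
    · exact absurd (β_self_eq_zero Ψ₁ Ψ₂ hΨ₁pos hΨ₂pos x h.symm) hx0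
  obtain ⟨y, hy⟩ : ∃ y : κ₁ ⊕ κ₂ → ℤ, y = Sum.elim (x ∘ Sum.inl) (0 : κ₂ → ℤ) := ⟨_, rfl⟩
  obtain ⟨z, hz⟩ : ∃ z : κ₁ ⊕ κ₂ → ℤ, z = Sum.elim (0 : κ₁ → ℤ) (x ∘ Sum.inr) := ⟨_, rfl⟩
  have hyz : y + z = x := by
    rw [hy, hz]
    funext i
    cases i <;> simp
  have hβyz : β Ψ₁ Ψ₂ y z = 0 := by
    rw [β_eq, hy, hz, Sum.elim_comp_inl, Sum.elim_comp_inr, Sum.elim_comp_inl,
      Sum.elim_comp_inr, mulVec_zero, dotProduct_zero, zero_dotProduct, add_zero]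
  obtain ⟨a, y', hya, hy'⟩ := hdec y
  obtain ⟨c, z', hzc, hz'⟩ := hdec z
  have hac : 𝔸 *ᵥ (a + c) = 0 := by
    apply hAL
    have e : 𝔸 *ᵥ (a + c) = x - y' - z' := by
      rw [mulVec_add, ← hyz, hya, hzc]
      abel
    rw [e, mulVec_sub, mulVec_sub, hxL, hy', hz', sub_zero, sub_zero]
  have hAc : 𝔸 *ᵥ c = - (𝔸 *ᵥ a) := by
    rw [mulVec_add] at hac
    exact (neg_eq_of_add_eq_zero_right hac).symm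
  have hxy'z' : x = y' + z' := by
    rw [← hyz, hya, hzc, hAc]
    abel
  have hN : β Ψ₁ Ψ₂ y' z' = β Ψ₁ Ψ₂ (𝔸 *ᵥ a) (𝔸 *ᵥ a) := by
    have h0 := hβyz
    rw [hya, hzc, β_add_left, β_add_right, β_add_right, horth z' hz' a,
      β_symm Ψ₁ Ψ₂ hΨ₁ hΨ₂ y' (𝔸 *ᵥ c), horth y' hy' c, hAc, β_neg_right] at h0
    linarith
  have hxx : β Ψ₁ Ψ₂ x x = β Ψ₁ Ψ₂ y' y' + β Ψ₁ Ψ₂ z' z' +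
      2 * β Ψ₁ Ψ₂ (𝔸 *ᵥ a) (𝔸 *ᵥ a) := by
    rw [hxy'z', β_add_left, β_add_right, β_add_right, β_symm Ψ₁ Ψ₂ hΨ₁ hΨ₂ z' y', hN]
    ring
  have hNnn := β_self_nonneg Ψ₁ Ψ₂ hΨ₁pos hΨ₂pos (𝔸 *ᵥ a)
  by_cases hy0 : y' = 0
  · have hN0 : β Ψ₁ Ψ₂ (𝔸 *ᵥ a) (𝔸 *ᵥ a) = 0 := by
      rw [← hN, hy0, β_symm Ψ₁ Ψ₂ hΨ₁ hΨ₂, β_zero_right]
    have hAa : 𝔸 *ᵥ a = 0 := β_self_eq_zero Ψ₁ Ψ₂ hΨ₁pos hΨ₂pos _ hN0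
    have hy00 : y = 0 := by rw [hya, hAa, hy0, add_zero]
    have hxl : x ∘ Sum.inl = 0 := by
      have h6 : y ∘ Sum.inl = x ∘ Sum.inl := by rw [hy, Sum.elim_comp_inl]
      rw [← h6, hy00]
      rfl
    obtain ⟨t, ht⟩ := hQ (x ∘ Sum.inr)
    have h5 := horth x hxL t
    rw [β_eq, fromRows_mulVec, Sum.elim_comp_inl, Sum.elim_comp_inr, hxl, mulVec_zero,
      dotProduct_zero, zero_add, ht] at h5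
    have hxr : x ∘ Sum.inr = 0 := form_eq_zero Ψ₂ hΨ₂pos _ h5
    apply hx0
    rw [← Sum.elim_comp_inl_inr x, hxl, hxr]
    funext i
    cases i <;> rfl
  · by_cases hz0 : z' = 0
    · have hN0 : β Ψ₁ Ψ₂ (𝔸 *ᵥ a) (𝔸 *ᵥ a) = 0 := by
        rw [← hN, hz0, β_zero_right]
      have hAa : 𝔸 *ᵥ a = 0 := β_self_eq_zero Ψ₁ Ψ₂ hΨ₁pos hΨ₂pos _ hN0
      have hz00 : z = 0 := by rw [hzc, hAc, hAa, hz0, neg_zero, add_zero]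
      have hxr : x ∘ Sum.inr = 0 := by
        have h6 : z ∘ Sum.inr = x ∘ Sum.inr := by rw [hz, Sum.elim_comp_inr]
        rw [← h6, hz00]
        rfl
      obtain ⟨t, ht⟩ := hP (x ∘ Sum.inl)
      have h5 := horth x hxL t
      rw [β_eq, fromRows_mulVec, Sum.elim_comp_inl, Sum.elim_comp_inr, hxr, mulVec_zero,
        dotProduct_zero, add_zero, ht] at h5
      have hxl : x ∘ Sum.inl = 0 := form_eq_zero Ψ₁ hΨ₁pos _ h5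
      apply hx0
      rw [← Sum.elim_comp_inl_inr x, hxl, hxr]
      funext i
      cases i <;> rfl
    · have h7 := hmin y' hy' hy0
      have h8 := hmin z' hz' hz0
      linarith

end main

end Groth.Agent.Lib.LatticeSplit
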