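import Mathlib

namespace Groth.Agent.Lib.LatticeTri

open Finset

theorem harith (m n s : ℕ) (hm : 0 < m) (hn : 0 < n) (h : 2 * s + 2 = (m + 1) * (n + 1)) :
    s = (m - 1) * (n - 1) / 2 + (m + n - 1) := by
  obtain ⟨m', rfl⟩ : ∃ m', m = m' + 1 := ⟨m - 1, by omega⟩
  obtain ⟨n', rfl⟩ : ∃ n', n = n' + 1 := ⟨n - 1, by omega⟩
  have e : (m' + 1 + 1) * (n' + 1 + 1) = m' * n' + 2 * m' + 2 * n' + 4 := by ring
  rw [e] at h
  simp only [Nat.add_sub_cancel]
  omega

theorem main (m n : ℕ) (hm : 0 < m) (hn : 0 < n) (hmn : Nat.Coprime m n) :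
    ((Finset.range (m + n + 1) ×ˢ Finset.range (m + 1)).filter
      (fun ij : ℕ × ℕ => ij.1 ≤ ij.2 + n ∧ ij.2 * (m + n) < ij.1 * m)).card
      = (m - 1) * (n - 1) / 2 + (m + n - 1) := by
  apply harith m n _ hm hn
  obtain ⟨P, hP⟩ : ∃ P : Finset (ℕ × ℕ), P =
      (Finset.range (m + n + 1) ×ˢ Finset.range (m + 1)).filter
        (fun ij : ℕ × ℕ => ij.2 ≤ ij.1 ∧ ij.1 ≤ ij.2 + n) := ⟨_, rfl⟩
  have memP : ∀ i j, (i, j) ∈ P ↔ (i ≤ m + n ∧ j ≤ m) ∧ j ≤ i ∧ i ≤ j + n := by
    intro i j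
    rw [hP, Finset.mem_filter, Finset.mem_product, Finset.mem_range, Finset.mem_range]
    simp only []
    omega
  -- S is the part of P below the diagonal
  have hS : (Finset.range (m + n + 1) ×ˢ Finset.range (m + 1)).filter
      (fun ij : ℕ × ℕ => ij.1 ≤ ij.2 + n ∧ ij.2 * (m + n) < ij.1 * m) =
      P.filter (fun ij : ℕ × ℕ => ij.2 * (m + n) < ij.1 * m) := by
    ext ⟨i, j⟩
    rw [Finset.mem_filter, Finset.mem_filter, memP, Finset.mem_product, Finset.mem_range,
      Finset.mem_range]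
    simp only []
    constructor
    · rintro ⟨⟨hu1, hu2⟩, h1, h2⟩
      refine ⟨⟨⟨by omega, by omega⟩, ?_, h1⟩, h2⟩
      by_contra hc
      push_neg at hc
      have h3 : (i + 1) * m ≤ j * m := Nat.mul_le_mul_right m hc
      nlinarith
    · rintro ⟨⟨⟨hu1, hu2⟩, h0, h1⟩, h2⟩
      exact ⟨⟨by omega, by omega⟩, h1, h2⟩
  rw [hS]
  -- involution
  have hinv : (P.filter (fun ij : ℕ × ℕ => ij.2 * (m + n) < ij.1 * m)).card =
      (P.filter (fun ij : ℕ × ℕ => ij.1 * m < ij.2 * (m + n))).card := by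
    refine Finset.card_bij' (fun ij _ => (m + n - ij.1, m - ij.2))
      (fun ij _ => (m + n - ij.1, m - ij.2)) ?_ ?_ ?_ ?_
    · rintro ⟨i, j⟩ h
      rw [Finset.mem_filter, memP] at h
      simp only [] at h
      obtain ⟨⟨⟨h1, h2⟩, h3, h4⟩, h5⟩ := h
      simp only []
      rw [Finset.mem_filter, memP]
      refine ⟨⟨⟨by omega, by omega⟩, by omega, by omega⟩, ?_⟩
      simp only []
      obtain ⟨i', hi'⟩ : ∃ i', i + i' = m + n := ⟨m + n - i, by omega⟩
      obtain ⟨j', hj'⟩ : ∃ j', j + j' = m := ⟨m - j, by omega⟩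
      have e1 : m + n - i = i' := by omega
      have e2 : m - j = j' := by omega
      rw [e1, e2]
      have e3 : (i + i') * m = (j + j') * (m + n) := by rw [hi', hj']; ring
      nlinarith [e3, h5]
    · rintro ⟨i, j⟩ h
      rw [Finset.mem_filter, memP] at h
      simp only [] at h
      obtain ⟨⟨⟨h1, h2⟩, h3, h4⟩, h5⟩ := h
      simp only []
      rw [Finset.mem_filter, memP]
      refine ⟨⟨⟨by omega, by omega⟩, by omega, by omega⟩, ?_⟩
      simp only []
      obtain ⟨i', hi'⟩ : ∃ i', i + i' = m + n := ⟨m + n - i, by omega⟩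
      obtain ⟨j', hj'⟩ : ∃ j', j + j' = m := ⟨m - j, by omega⟩
      have e1 : m + n - i = i' := by omega
      have e2 : m - j = j' := by omega
      rw [e1, e2]
      have e3 : (i + i') * m = (j + j') * (m + n) := by rw [hi', hj']; ring
      nlinarith [e3, h5]
    · rintro ⟨i, j⟩ h
      rw [Finset.mem_filter, memP] at h
      obtain ⟨⟨⟨h1, h2⟩, h3, h4⟩, h5⟩ := h
      simp only [Prod.mk.injEq]
      exact ⟨by omega, by omega⟩
    · rintro ⟨i, j⟩ h
      rw [Finset.mem_filter, memP] at h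
      obtain ⟨⟨⟨h1, h2⟩, h3, h4⟩, h5⟩ := h
      simp only [Prod.mk.injEq]
      exact ⟨by omega, by omega⟩
  -- the diagonal
  have hD : P.filter (fun ij : ℕ × ℕ => ¬ ij.2 * (m + n) < ij.1 * m ∧ ¬ ij.1 * m < ij.2 * (m + n)) =
      {((0 : ℕ), (0 : ℕ)), (m + n, m)} := by
    ext ⟨i, j⟩
    rw [Finset.mem_filter, memP, Finset.mem_insert, Finset.mem_singleton]
    simp only [Prod.mk.injEq]
    constructor
    · rintro ⟨⟨⟨h1, h2⟩, h3, h4⟩, h5, h6⟩
      have heq : j * (m + n) = i * m := by omega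
      have hdvd : m ∣ j * n := by
        have h7 : m ∣ j * m + j * n := ⟨i, by rw [← mul_add, heq]; ring⟩
        exact (Nat.dvd_add_right (Dvd.intro_left j rfl)).mp h7
      have hmj : m ∣ j := hmn.dvd_of_dvd_mul_right hdvd
      rcases Nat.eq_zero_or_pos j with hj0 | hjpos
      · left
        subst hj0
        refine ⟨?_, rfl⟩
        have : i * m = 0 * m := by rw [← heq]; ring
        exact Nat.eq_of_mul_eq_mul_right hm this
      · right
        have hjm : j = m := Nat.le_antisymm h2 (Nat.le_of_dvd hjpos hmj)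
        subst hjm
        refine ⟨?_, rfl⟩
        have : i * j = (j + n) * j := by rw [← heq]; ring
        exact Nat.eq_of_mul_eq_mul_right hm this
    · rintro (⟨hi, hj⟩ | ⟨hi, hj⟩)
      · rw [hi, hj]
        refine ⟨⟨⟨by omega, by omega⟩, by omega, by omega⟩, ?_, ?_⟩ <;> simp
      · rw [hi, hj]
        have e : m * (m + n) = (m + n) * m := Nat.mul_comm _ _
        refine ⟨⟨⟨by omega, by omega⟩, by omega, by omega⟩, ?_, ?_⟩ <;> omega
  have hDcard : (P.filter (fun ij : ℕ × ℕ =>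
      ¬ ij.2 * (m + n) < ij.1 * m ∧ ¬ ij.1 * m < ij.2 * (m + n))).card = 2 := by
    rw [hD]
    apply Finset.card_pair
    intro h
    rw [Prod.mk.injEq] at h
    omega
  -- cardinality of P
  have hPcard : P.card = (m + 1) * (n + 1) := by
    have : P.card = (Finset.range (m + 1) ×ˢ Finset.range (n + 1)).card := by
      refine Finset.card_bij' (fun ij _ => (ij.2, ij.1 - ij.2)) (fun ja _ => (ja.2 + ja.1, ja.1))
        ?_ ?_ ?_ ?_
      · rintro ⟨i, j⟩ h
        rw [memP] at h
        obtain ⟨⟨h1, h2⟩, h3, h4⟩ := h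
        rw [Finset.mem_product, Finset.mem_range, Finset.mem_range]
        simp only []
        exact ⟨by omega, by omega⟩
      · rintro ⟨j, a⟩ h
        rw [Finset.mem_product, Finset.mem_range, Finset.mem_range] at h
        simp only [] at h
        simp only []
        rw [memP]
        exact ⟨⟨by omega, by omega⟩, by omega, by omega⟩
      · rintro ⟨i, j⟩ h
        rw [memP] at h
        obtain ⟨⟨h1, h2⟩, h3, h4⟩ := h
        simp only [Prod.mk.injEq]
        exact ⟨by omega, trivial⟩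
      · rintro ⟨j, a⟩ h
        simp only [Prod.mk.injEq]
        exact ⟨trivial, by omega⟩
    rw [this, Finset.card_product, Finset.card_range, Finset.card_range]
  -- partition
  have h₁ := Finset.card_filter_add_card_filter_not (s := P)
    (fun ij : ℕ × ℕ => ij.2 * (m + n) < ij.1 * m)
  have h₂ := Finset.card_filter_add_card_filter_not
    (s := P.filter (fun ij : ℕ × ℕ => ¬ ij.2 * (m + n) < ij.1 * m))
    (fun ij : ℕ × ℕ => ij.1 * m < ij.2 * (m + n))
  rw [Finset.filter_filter, Finset.filter_filter] at h₂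
  have h₃ : P.filter (fun ij : ℕ × ℕ => ¬ ij.2 * (m + n) < ij.1 * m ∧ ij.1 * m < ij.2 * (m + n)) =
      P.filter (fun ij : ℕ × ℕ => ij.1 * m < ij.2 * (m + n)) := by
    apply Finset.filter_congr
    intro ij _
    constructor
    · intro h; exact h.2
    · intro h; exact ⟨by omega, h⟩
  rw [h₃, hDcard] at h₂
  omega

end Groth.Agent.Lib.LatticeTri
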