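import Mathlib

set_option autoImplicit false
set_option linter.unusedVariables false
set_option linter.unusedTactic false
set_option linter.unreachableTactic false
set_option linter.unusedSectionVars false
set_option linter.style.haveILetI false
set_option maxHeartbeats 800000

open Module

namespace Groth.Agent.Lib.LatticeWtH4

/-! ### Step 1: a basis adapted to the vector `d` -/

theorem gcd_dvd_apply {r : ℕ} (ψ : (Fin r → ℤ) →ₗ[ℤ] ℤ) (w : Fin r → ℤ) :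
    Finset.univ.gcd w ∣ ψ w := by
  rw [LinearMap.pi_apply_eq_sum_univ ψ w]
  refine Finset.dvd_sum (fun i _ => ?_)
  rw [smul_eq_mul]
  exact Dvd.dvd.mul_right (Finset.gcd_dvd (Finset.mem_univ i)) _

theorem gcd_basis_eq_one {r : ℕ} (bM : Basis (Fin r) ℤ (Fin r → ℤ)) (j : Fin r) :
    Finset.univ.gcd (bM j) = 1 := by
  have h2 : bM.coord j (bM j) = 1 := by
    rw [Basis.coord_apply, Basis.repr_self, Finsupp.single_eq_same]
  have hd : Finset.univ.gcd (bM j) ∣ 1 := by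
    have := gcd_dvd_apply (bM.coord j) (bM j)
    rwa [h2] at this
  rw [← Finset.normalize_gcd]
  exact normalize_eq_one.mpr (isUnit_of_dvd_one hd)

theorem exists_adapted_basis {r : ℕ} (hr : 0 < r) (d : Fin r → ℤ) :
    ∃ (bas : Basis (Fin r) ℤ (Fin r → ℤ)) (i₀ : Fin r),
      d = (Finset.univ.gcd d) • bas i₀ := by
  by_cases hd : d = 0
  · refine ⟨Pi.basisFun ℤ (Fin r), ⟨0, hr⟩, ?_⟩
    have h0 : Finset.univ.gcd d = 0 := by
      rw [Finset.gcd_eq_zero_iff]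
      intro x _
      rw [hd]; rfl
    rw [h0, zero_smul]
    exact hd
  · obtain ⟨n, snf⟩ := Submodule.smithNormalForm (Pi.basisFun ℤ (Fin r)) (Submodule.span ℤ {d})
    have hn : n = 1 := by
      have e := LinearEquiv.toSpanNonzeroSingleton ℤ (Fin r → ℤ) d hd
      have h1 : Module.finrank ℤ (Submodule.span ℤ {d}) = 1 := by
        rw [← e.finrank_eq]; exact Module.finrank_self ℤ
      have h2 := Module.finrank_eq_card_basis snf.bN
      rw [h1, Fintype.card_fin] at h2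
      exact h2.symm
    subst hn
    have hdmem : d ∈ Submodule.span ℤ {d} := Submodule.mem_span_singleton_self d
    obtain ⟨c, hc⟩ : ∃ c : ℤ, d = c • snf.bM (snf.f 0) := by
      have h3 := snf.bN.sum_repr ⟨d, hdmem⟩
      rw [Fin.sum_univ_one] at h3
      have h4 : ((snf.bN.repr ⟨d, hdmem⟩ 0 • snf.bN 0 : Submodule.span ℤ {d}) : Fin r → ℤ) = d :=
        congrArg Subtype.val h3
      rw [Submodule.coe_smul, snf.snf 0] at h4
      exact ⟨snf.bN.repr ⟨d, hdmem⟩ 0 * snf.a 0, by rw [mul_smul]; exact h4.symm⟩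
    have hw1 : Finset.univ.gcd (snf.bM (snf.f 0)) = 1 := gcd_basis_eq_one snf.bM (snf.f 0)
    have hD : Finset.univ.gcd d = |c| := by
      have h5 : d = fun i => c * snf.bM (snf.f 0) i :=
        hc.trans (funext fun i => rfl)
      have h6 : Finset.univ.gcd d = Finset.univ.gcd (fun i => c * snf.bM (snf.f 0) i) :=
        congrArg (fun e => Finset.univ.gcd e) h5
      rw [h6, Finset.gcd_mul_left, hw1, mul_one, Int.abs_eq_normalize]
    rcases abs_choice c with h | h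
    · exact ⟨snf.bM, snf.f 0, by rw [hD, h]; exact hc⟩
    · refine ⟨snf.bM.unitsSMul (fun _ => -1), snf.f 0, ?_⟩
      rw [hD, h, Basis.unitsSMul_apply, Units.smul_def]
      have h7 : (-c) • (((-1 : ℤˣ) : ℤ)) • snf.bM (snf.f 0) = c • snf.bM (snf.f 0) := by
        simp
      rw [h7]
      exact hc

/-! ### Step 2: computation in an adapted basis -/

abbrev LL (m : ℕ) := Fin (m + 1) → ℤ

/-- reduction modulo `δ` of linear forms -/
noncomputable def Lam (δ : ℕ) (m : ℕ) : (LL m →ₗ[ℤ] ℤ) →+ (LL m →+ ZMod δ) where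
  toFun ℓ := (Int.castAddHom (ZMod δ)).comp ℓ.toAddMonoidHom
  map_zero' := AddMonoidHom.ext fun x => by simp
  map_add' a b := AddMonoidHom.ext fun x => by simp

theorem Lam_apply {δ m : ℕ} (ℓ : LL m →ₗ[ℤ] ℤ) (x : LL m) :
    Lam δ m ℓ x = ((ℓ x : ℤ) : ZMod δ) := rfl

theorem zsmul_Lam_apply {δ m : ℕ} (Y : ℤ) (ℓ : LL m →ₗ[ℤ] ℤ) (x : LL m) :
    (Y • Lam δ m ℓ) x = ((Y * ℓ x : ℤ) : ZMod δ) := by
  show Y • (Lam δ m ℓ x) = _
  rw [Lam_apply, zsmul_eq_mul, Int.cast_mul]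

theorem smul_coord_apply {m : ℕ} (bas : Basis (Fin (m + 1)) ℤ (LL m)) (n : ℤ) (i : Fin (m + 1))
    (x : LL m) : (n • bas.coord i) x = n * bas.coord i x := by
  rw [LinearMap.smul_apply, smul_eq_mul]

theorem coord_self {m : ℕ} (bas : Basis (Fin (m + 1)) ℤ (LL m)) (i : Fin (m + 1)) :
    bas.coord i (bas i) = 1 := by
  rw [Basis.coord_apply, Basis.repr_self, Finsupp.single_eq_same]

theorem coord_ne {m : ℕ} (bas : Basis (Fin (m + 1)) ℤ (LL m)) {i j : Fin (m + 1)} (h : i ≠ j) :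
    bas.coord i (bas j) = 0 := by
  rw [Basis.coord_apply, Basis.repr_self, Finsupp.single_eq_of_ne]
  first | exact h | exact fun h' => h h'.symm | exact h.symm

theorem expand {δ m : ℕ} (bas : Basis (Fin (m + 1)) ℤ (LL m)) (φ : LL m →+ ZMod δ) (x : LL m) :
    φ x = ∑ i, (bas.coord i x) • φ (bas i) := by
  conv_lhs => rw [← bas.sum_repr x]
  rw [map_sum]
  refine Finset.sum_congr rfl (fun i _ => ?_)
  rw [map_zsmul]
  rfl

theorem hom_ext_basis {δ m : ℕ} (bas : Basis (Fin (m + 1)) ℤ (LL m)) (φ ψ : LL m →+ ZMod δ)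
    (h : ∀ i, φ (bas i) = ψ (bas i)) : φ = ψ :=
  AddMonoidHom.ext fun x => by
    rw [expand bas φ x, expand bas ψ x]
    exact Finset.sum_congr rfl (fun i _ => by rw [h i])

def pfun {m : ℕ} (i₀ : Fin (m + 1)) (p₁ p₂ : ℕ) : Fin (m + 1) → ℕ :=
  fun i => if i = i₀ then p₁ else p₂

theorem pfun_same {m : ℕ} (i₀ : Fin (m + 1)) (p₁ p₂ : ℕ) : pfun i₀ p₁ p₂ i₀ = p₁ := if_pos rfl

theorem pfun_ne {m : ℕ} {i₀ i : Fin (m + 1)} (p₁ p₂ : ℕ) (h : i ≠ i₀) : pfun i₀ p₁ p₂ i = p₂ :=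
  if_neg h

def Good {δ m : ℕ} (bas : Basis (Fin (m + 1)) ℤ (LL m)) (p : Fin (m + 1) → ℕ)
    (φ : LL m →+ ZMod δ) : Prop :=
  ∀ i, ∃ k : ℤ, φ (bas i) = (((p i : ℤ) * k : ℤ) : ZMod δ)

noncomputable def Psi {δ m : ℕ} (bas : Basis (Fin (m + 1)) ℤ (LL m)) (i₀ : Fin (m + 1))
    {p₁ p₂ : ℕ} (h₁ : p₁ ∣ δ) (h₂ : p₂ ∣ δ) :
    (LL m →+ ZMod δ) →+ ZMod p₁ × (Fin m → ZMod p₂) where
  toFun φ := (ZMod.castHom h₁ (ZMod p₁) (φ (bas i₀)),
    fun k => ZMod.castHom h₂ (ZMod p₂) (φ (bas (i₀.succAbove k))))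
  map_zero' := by
    refine Prod.ext ?_ (funext fun k => ?_)
    · show ZMod.castHom h₁ (ZMod p₁) ((0 : LL m →+ ZMod δ) (bas i₀)) = 0
      rw [AddMonoidHom.zero_apply, map_zero]
    · show ZMod.castHom h₂ (ZMod p₂) ((0 : LL m →+ ZMod δ) (bas (i₀.succAbove k))) = 0
      rw [AddMonoidHom.zero_apply, map_zero]
  map_add' a b := by
    refine Prod.ext ?_ (funext fun k => ?_)
    · show ZMod.castHom h₁ (ZMod p₁) ((a + b) (bas i₀)) =
        ZMod.castHom h₁ (ZMod p₁) (a (bas i₀)) + ZMod.castHom h₁ (ZMod p₁) (b (bas i₀))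
      rw [AddMonoidHom.add_apply, map_add]
    · show ZMod.castHom h₂ (ZMod p₂) ((a + b) (bas (i₀.succAbove k))) =
        ZMod.castHom h₂ (ZMod p₂) (a (bas (i₀.succAbove k))) +
          ZMod.castHom h₂ (ZMod p₂) (b (bas (i₀.succAbove k)))
      rw [AddMonoidHom.add_apply, map_add]

theorem Psi_fst {δ m : ℕ} (bas : Basis (Fin (m + 1)) ℤ (LL m)) (i₀ : Fin (m + 1))
    {p₁ p₂ : ℕ} (h₁ : p₁ ∣ δ) (h₂ : p₂ ∣ δ) (φ : LL m →+ ZMod δ) :
    (Psi bas i₀ h₁ h₂ φ).1 = ZMod.castHom h₁ (ZMod p₁) (φ (bas i₀)) := rfl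

theorem Psi_snd {δ m : ℕ} (bas : Basis (Fin (m + 1)) ℤ (LL m)) (i₀ : Fin (m + 1))
    {p₁ p₂ : ℕ} (h₁ : p₁ ∣ δ) (h₂ : p₂ ∣ δ) (φ : LL m →+ ZMod δ) (k : Fin m) :
    (Psi bas i₀ h₁ h₂ φ).2 k = ZMod.castHom h₂ (ZMod p₂) (φ (bas (i₀.succAbove k))) := rfl

theorem mem_ker_Psi_iff {δ m : ℕ} (bas : Basis (Fin (m + 1)) ℤ (LL m)) (i₀ : Fin (m + 1))
    {p₁ p₂ : ℕ} (h₁ : p₁ ∣ δ) (h₂ : p₂ ∣ δ) (φ : LL m →+ ZMod δ) :
    φ ∈ (Psi bas i₀ h₁ h₂).ker ↔ Good bas (pfun i₀ p₁ p₂) φ := by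
  rw [AddMonoidHom.mem_ker]
  constructor
  · intro h i
    obtain ⟨a, ha⟩ := ZMod.intCast_surjective (φ (bas i))
    by_cases hi : i = i₀
    · have h1 : (Psi bas i₀ h₁ h₂ φ).1 = 0 := by rw [h]; rfl
      rw [Psi_fst, ← hi, ← ha, map_intCast] at h1
      obtain ⟨k, hk⟩ := (CharP.intCast_eq_zero_iff (ZMod p₁) p₁ a).mp h1
      refine ⟨k, ?_⟩
      rw [hi, pfun_same, ← hi, ← ha, hk]
    · obtain ⟨k', hk'⟩ := Fin.exists_succAbove_eq hi
      have h1 : (Psi bas i₀ h₁ h₂ φ).2 k' = 0 := by rw [h]; rfl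
      rw [Psi_snd, hk', ← ha, map_intCast] at h1
      obtain ⟨k, hk⟩ := (CharP.intCast_eq_zero_iff (ZMod p₂) p₂ a).mp h1
      refine ⟨k, ?_⟩
      rw [pfun_ne p₁ p₂ hi, ← ha, hk]
  · intro h
    refine Prod.ext ?_ (funext fun k' => ?_)
    · obtain ⟨k, hk⟩ := h i₀
      rw [pfun_same] at hk
      show ZMod.castHom h₁ (ZMod p₁) (φ (bas i₀)) = 0
      rw [hk, map_intCast]
      exact (CharP.intCast_eq_zero_iff (ZMod p₁) p₁ _).mpr (dvd_mul_right _ _)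
    · obtain ⟨k, hk⟩ := h (i₀.succAbove k')
      rw [pfun_ne p₁ p₂ (Fin.succAbove_ne i₀ k')] at hk
      show ZMod.castHom h₂ (ZMod p₂) (φ (bas (i₀.succAbove k'))) = 0
      rw [hk, map_intCast]
      exact (CharP.intCast_eq_zero_iff (ZMod p₂) p₂ _).mpr (dvd_mul_right _ _)

theorem Psi_surjective {δ m : ℕ} (bas : Basis (Fin (m + 1)) ℤ (LL m)) (i₀ : Fin (m + 1))
    {p₁ p₂ : ℕ} (h₁ : p₁ ∣ δ) (h₂ : p₂ ∣ δ) :
    Function.Surjective (Psi (δ := δ) bas i₀ h₁ h₂) := by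
  rintro ⟨y, z⟩
  obtain ⟨a, ha⟩ := ZMod.intCast_surjective y
  choose az haz using fun k => ZMod.intCast_surjective (z k)
  refine ⟨Lam δ m (bas.constr ℤ (@Fin.insertNth m (fun _ => ℤ) i₀ a az)), ?_⟩
  refine Prod.ext ?_ (funext fun k => ?_)
  · show ZMod.castHom h₁ (ZMod p₁)
      (Lam δ m (bas.constr ℤ (@Fin.insertNth m (fun _ => ℤ) i₀ a az)) (bas i₀)) = y
    rw [Lam_apply, Basis.constr_basis, Fin.insertNth_apply_same, map_intCast, ha]
  · show ZMod.castHom h₂ (ZMod p₂)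
      (Lam δ m (bas.constr ℤ (@Fin.insertNth m (fun _ => ℤ) i₀ a az)) (bas (i₀.succAbove k))) = z k
    rw [Lam_apply, Basis.constr_basis, Fin.insertNth_apply_succAbove, map_intCast, haz]

/-! ### the generators -/

def gens (δ : ℕ) (g : ℤ) {r : ℕ} (d : Fin r → ℤ) : Set ((Fin r → ℤ) →+ ZMod δ) :=
  {φ | ∃ b : LinearMap.BilinForm ℤ (Fin r → ℤ), b.IsSymm ∧
      ∀ x, φ x = ((b d x + (1 - g) * b x x : ℤ) : ZMod δ)}

theorem dvd_parity {δ : ℕ} {g : ℤ} (hδ : (δ : ℤ) ∣ 2 * (g - 1)) (t : ℤ) :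
    (δ : ℤ) ∣ (1 - g) * (t * (t - 1)) := by
  obtain ⟨k, hk⟩ := Int.even_mul_pred_self t
  obtain ⟨e, he⟩ := hδ
  refine ⟨-(e * k), ?_⟩
  rw [hk]
  linear_combination (-k) * he

theorem dvd_two {δ : ℕ} {g : ℤ} (hδ : (δ : ℤ) ∣ 2 * (g - 1)) (s : ℤ) :
    (δ : ℤ) ∣ (1 - g) * (2 * s) := by
  obtain ⟨e, he⟩ := hδ
  exact ⟨-(e * s), by linear_combination (-s) * he⟩

abbrev P1 (δ : ℕ) (g D : ℤ) : ℕ := Int.gcd (δ : ℤ) (D + 1 - g)
abbrev P2 (δ : ℕ) (g D : ℤ) : ℕ := Int.gcd (δ : ℤ) ((Int.gcd (g - 1) D : ℕ) : ℤ)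

section Adapted

variable {δ m : ℕ} {g D : ℤ} (hδ : (δ : ℤ) ∣ 2 * (g - 1))
  (bas : Basis (Fin (m + 1)) ℤ (LL m)) (i₀ : Fin (m + 1)) (d : LL m) (hd : d = D • bas i₀)

include hd in
theorem coord_d_same : bas.coord i₀ d = D := by
  rw [hd, map_smul, coord_self, smul_eq_mul, mul_one]

include hd in
theorem coord_d_ne {j : Fin (m + 1)} (hj : j ≠ i₀) : bas.coord j d = 0 := by
  rw [hd, map_smul, coord_ne bas hj, smul_eq_mul, mul_zero]

include hδ hd in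
theorem gen1_mem : Lam δ m ((D + 1 - g) • bas.coord i₀) ∈ gens δ g d := by
  refine ⟨LinearMap.BilinForm.linMulLin (bas.coord i₀) (bas.coord i₀), ⟨fun x y => ?_⟩, fun x => ?_⟩
  · rw [LinearMap.BilinForm.linMulLin_apply, LinearMap.BilinForm.linMulLin_apply, mul_comm]
  · rw [Lam_apply, smul_coord_apply, LinearMap.BilinForm.linMulLin_apply,
      LinearMap.BilinForm.linMulLin_apply, coord_d_same bas i₀ d hd]
    apply (ZMod.intCast_eq_intCast_iff_dvd_sub _ _ δ).mpr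
    have h := dvd_parity hδ (bas.coord i₀ x)
    have e : D * bas.coord i₀ x + (1 - g) * (bas.coord i₀ x * bas.coord i₀ x) -
        (D + 1 - g) * bas.coord i₀ x = (1 - g) * (bas.coord i₀ x * (bas.coord i₀ x - 1)) := by
      ring
    rw [e]; exact h

include hδ hd in
theorem gen2a_mem {j : Fin (m + 1)} (hj : j ≠ i₀) :
    Lam δ m ((1 - g) • bas.coord j) ∈ gens δ g d := by
  refine ⟨LinearMap.BilinForm.linMulLin (bas.coord j) (bas.coord j), ⟨fun x y => ?_⟩, fun x => ?_⟩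
  · rw [LinearMap.BilinForm.linMulLin_apply, LinearMap.BilinForm.linMulLin_apply, mul_comm]
  · rw [Lam_apply, smul_coord_apply, LinearMap.BilinForm.linMulLin_apply,
      LinearMap.BilinForm.linMulLin_apply, coord_d_ne bas i₀ d hd hj]
    apply (ZMod.intCast_eq_intCast_iff_dvd_sub _ _ δ).mpr
    have h := dvd_parity hδ (bas.coord j x)
    have e : 0 * bas.coord j x + (1 - g) * (bas.coord j x * bas.coord j x) -
        (1 - g) * bas.coord j x = (1 - g) * (bas.coord j x * (bas.coord j x - 1)) := by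
      ring
    rw [e]; exact h

include hδ hd in
theorem gen2b_mem {j : Fin (m + 1)} (hj : j ≠ i₀) :
    Lam δ m (D • bas.coord j) ∈ gens δ g d := by
  refine ⟨LinearMap.BilinForm.linMulLin (bas.coord i₀) (bas.coord j) +
    LinearMap.BilinForm.linMulLin (bas.coord j) (bas.coord i₀), ⟨fun x y => ?_⟩, fun x => ?_⟩
  · rw [LinearMap.add_apply, LinearMap.add_apply, LinearMap.add_apply, LinearMap.add_apply,
      LinearMap.BilinForm.linMulLin_apply, LinearMap.BilinForm.linMulLin_apply,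
      LinearMap.BilinForm.linMulLin_apply, LinearMap.BilinForm.linMulLin_apply]
    ring
  · rw [Lam_apply, smul_coord_apply, LinearMap.add_apply, LinearMap.add_apply, LinearMap.add_apply,
      LinearMap.add_apply,
      LinearMap.BilinForm.linMulLin_apply, LinearMap.BilinForm.linMulLin_apply,
      LinearMap.BilinForm.linMulLin_apply, LinearMap.BilinForm.linMulLin_apply,
      coord_d_ne bas i₀ d hd hj, coord_d_same bas i₀ d hd]
    apply (ZMod.intCast_eq_intCast_iff_dvd_sub _ _ δ).mpr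
    have h := dvd_two hδ (bas.coord i₀ x * bas.coord j x)
    have e : D * bas.coord j x + 0 * bas.coord i₀ x +
        (1 - g) * (bas.coord i₀ x * bas.coord j x + bas.coord j x * bas.coord i₀ x) -
        D * bas.coord j x = (1 - g) * (2 * (bas.coord i₀ x * bas.coord j x)) := by
      ring
    rw [e]; exact h

include hδ hd in
theorem base1_mem :
    Lam δ m (((P1 δ g D : ℕ) : ℤ) • bas.coord i₀) ∈ AddSubgroup.closure (gens δ g d) := by
  have hb := Int.gcd_eq_gcd_ab (δ : ℤ) (D + 1 - g)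
  have e : Lam δ m (((P1 δ g D : ℕ) : ℤ) • bas.coord i₀) =
      (Int.gcdB (δ : ℤ) (D + 1 - g)) • Lam δ m ((D + 1 - g) • bas.coord i₀) := by
    refine AddMonoidHom.ext fun x => ?_
    rw [zsmul_Lam_apply, Lam_apply, smul_coord_apply, smul_coord_apply]
    apply (ZMod.intCast_eq_intCast_iff_dvd_sub _ _ δ).mpr
    refine ⟨-(Int.gcdA (δ : ℤ) (D + 1 - g) * bas.coord i₀ x), ?_⟩
    linear_combination (-(bas.coord i₀ x)) * hb
  rw [e]
  exact AddSubgroup.zsmul_mem _ (AddSubgroup.subset_closure (gen1_mem hδ bas i₀ d hd)) _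

include hδ hd in
theorem base2_mem {j : Fin (m + 1)} (hj : j ≠ i₀) :
    Lam δ m (((P2 δ g D : ℕ) : ℤ) • bas.coord j) ∈ AddSubgroup.closure (gens δ g d) := by
  have hb1 := Int.gcd_eq_gcd_ab (δ : ℤ) ((Int.gcd (g - 1) D : ℕ) : ℤ)
  have hb2 := Int.gcd_eq_gcd_ab (g - 1) D
  have e : Lam δ m (((P2 δ g D : ℕ) : ℤ) • bas.coord j) =
      (-(Int.gcdB (δ : ℤ) ((Int.gcd (g - 1) D : ℕ) : ℤ) * Int.gcdA (g - 1) D)) •
          Lam δ m ((1 - g) • bas.coord j) +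
        (Int.gcdB (δ : ℤ) ((Int.gcd (g - 1) D : ℕ) : ℤ) * Int.gcdB (g - 1) D) •
          Lam δ m (D • bas.coord j) := by
    refine AddMonoidHom.ext fun x => ?_
    rw [AddMonoidHom.add_apply, zsmul_Lam_apply, zsmul_Lam_apply, Lam_apply, smul_coord_apply,
      smul_coord_apply, smul_coord_apply, ← Int.cast_add]
    apply (ZMod.intCast_eq_intCast_iff_dvd_sub _ _ δ).mpr
    refine ⟨-(Int.gcdA (δ : ℤ) ((Int.gcd (g - 1) D : ℕ) : ℤ) * bas.coord j x), ?_⟩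
    linear_combination (-(bas.coord j x)) * hb1 +
      (-(bas.coord j x * Int.gcdB (δ : ℤ) ((Int.gcd (g - 1) D : ℕ) : ℤ))) * hb2
  rw [e]
  exact AddSubgroup.add_mem _
    (AddSubgroup.zsmul_mem _ (AddSubgroup.subset_closure (gen2a_mem hδ bas i₀ d hd hj)) _)
    (AddSubgroup.zsmul_mem _ (AddSubgroup.subset_closure (gen2b_mem hδ bas i₀ d hd hj)) _)

include hδ hd in
theorem base_mem (i : Fin (m + 1)) :
    Lam δ m (((pfun i₀ (P1 δ g D) (P2 δ g D) i : ℕ) : ℤ) • bas.coord i) ∈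
      AddSubgroup.closure (gens δ g d) := by
  by_cases hi : i = i₀
  · rw [hi, pfun_same]
    exact base1_mem hδ bas i₀ d hd
  · rw [pfun_ne _ _ hi]
    exact base2_mem hδ bas i₀ d hd hi

include hδ hd in
theorem mem_of_good (φ : LL m →+ ZMod δ)
    (h : Good bas (pfun i₀ (P1 δ g D) (P2 δ g D)) φ) :
    φ ∈ AddSubgroup.closure (gens δ g d) := by
  choose k hk using h
  have hφ : φ = ∑ i, k i • Lam δ m (((pfun i₀ (P1 δ g D) (P2 δ g D) i : ℕ) : ℤ) • bas.coord i) := by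
    refine AddMonoidHom.ext fun x => ?_
    rw [expand bas φ x, AddMonoidHom.finsetSum_apply]
    refine Finset.sum_congr rfl (fun i _ => ?_)
    rw [zsmul_Lam_apply, hk i, zsmul_eq_mul, ← Int.cast_mul, smul_coord_apply]
    congr 1
    ring
  rw [hφ]
  exact AddSubgroup.sum_mem _ (fun i _ => AddSubgroup.zsmul_mem _ (base_mem hδ bas i₀ d hd i) (k i))

include hd in
theorem good_of_mem_gens (φ : LL m →+ ZMod δ) (hφ : φ ∈ gens δ g d) :
    Good bas (pfun i₀ (P1 δ g D) (P2 δ g D)) φ := by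
  obtain ⟨b, hb, hφx⟩ := hφ
  intro i
  have e1 : b d (bas i) = D * b (bas i₀) (bas i) := by
    rw [hd, LinearMap.map_smul₂, smul_eq_mul]
  by_cases hi : i = i₀
  · obtain ⟨q, hq⟩ : ((P1 δ g D : ℕ) : ℤ) ∣ D + 1 - g := Int.gcd_dvd_right _ _
    refine ⟨q * b (bas i) (bas i), ?_⟩
    rw [hφx, e1, hi, pfun_same]
    congr 1
    linear_combination (b (bas i₀) (bas i₀)) * hq
  · obtain ⟨q0, hq0⟩ : ((P2 δ g D : ℕ) : ℤ) ∣ ((Int.gcd (g - 1) D : ℕ) : ℤ) := Int.gcd_dvd_right _ _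
    obtain ⟨q1, hq1⟩ : ((Int.gcd (g - 1) D : ℕ) : ℤ) ∣ g - 1 := Int.gcd_dvd_left _ _
    obtain ⟨q2, hq2⟩ : ((Int.gcd (g - 1) D : ℕ) : ℤ) ∣ D := Int.gcd_dvd_right _ _
    refine ⟨q0 * q2 * b (bas i₀) (bas i) - q0 * q1 * b (bas i) (bas i), ?_⟩
    rw [hφx, e1, pfun_ne _ _ hi]
    congr 1
    linear_combination (b (bas i₀) (bas i)) * hq2 +
      (b (bas i₀) (bas i) * q2 - b (bas i) (bas i) * q1) * hq0 - (b (bas i) (bas i)) * hq1

theorem P1_dvd (δ : ℕ) (g D : ℤ) : P1 δ g D ∣ δ :=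
  Int.natCast_dvd_natCast.mp (Int.gcd_dvd_left _ _)

theorem P2_dvd (δ : ℕ) (g D : ℤ) : P2 δ g D ∣ δ :=
  Int.natCast_dvd_natCast.mp (Int.gcd_dvd_left _ _)

include hδ hd in
theorem closure_eq_ker :
    AddSubgroup.closure (gens δ g d) = (Psi bas i₀ (P1_dvd δ g D) (P2_dvd δ g D)).ker := by
  apply le_antisymm
  · rw [AddSubgroup.closure_le]
    intro φ hφ
    exact (mem_ker_Psi_iff bas i₀ _ _ φ).mpr (good_of_mem_gens bas i₀ d hd φ hφ)
  · intro φ hφ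
    exact mem_of_good hδ bas i₀ d hd φ ((mem_ker_Psi_iff bas i₀ _ _ φ).mp hφ)

/-- precomposition with the endomorphism scaling the basis by `p` -/
noncomputable def Mhom (δ : ℕ) (bas : Basis (Fin (m + 1)) ℤ (LL m)) (p : Fin (m + 1) → ℕ) :
    (LL m →+ ZMod δ) →+ (LL m →+ ZMod δ) where
  toFun φ := φ.comp (bas.constr ℤ (fun i => (p i : ℤ) • bas i)).toAddMonoidHom
  map_zero' := AddMonoidHom.ext fun _ => rfl
  map_add' _ _ := AddMonoidHom.ext fun _ => rfl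

theorem Mhom_basis (p : Fin (m + 1) → ℕ) (φ : LL m →+ ZMod δ) (i : Fin (m + 1)) :
    Mhom δ bas p φ (bas i) = (p i : ℤ) • φ (bas i) := by
  show φ (bas.constr ℤ (fun i => (p i : ℤ) • bas i) (bas i)) = _
  rw [Basis.constr_basis, map_zsmul]

include hδ hd in
theorem closure_eq_range :
    AddSubgroup.closure (gens δ g d) =
      (Mhom δ bas (pfun i₀ (P1 δ g D) (P2 δ g D))).range := by
  apply le_antisymm
  · intro φ hφ
    have hg : Good bas (pfun i₀ (P1 δ g D) (P2 δ g D)) φ := by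
      rw [closure_eq_ker hδ bas i₀ d hd] at hφ
      exact (mem_ker_Psi_iff bas i₀ _ _ φ).mp hφ
    choose k hk using hg
    refine ⟨Lam δ m (bas.constr ℤ k), ?_⟩
    apply hom_ext_basis bas
    intro i
    rw [Mhom_basis, Lam_apply, Basis.constr_basis, hk i, zsmul_eq_mul, Int.cast_mul]
  · rintro φ ⟨ψ, rfl⟩
    apply mem_of_good hδ bas i₀ d hd
    intro i
    obtain ⟨a, ha⟩ := ZMod.intCast_surjective (ψ (bas i))
    exact ⟨a, by rw [Mhom_basis, ← ha, zsmul_eq_mul, Int.cast_mul]⟩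

theorem ker_Mhom_eq (hδ0 : 0 < δ) {p₁ p₂ : ℕ} (h₁ : p₁ ∣ δ) (h₂ : p₂ ∣ δ) :
    (Mhom δ bas (pfun i₀ p₁ p₂)).ker =
      (Psi bas i₀ (Nat.div_dvd_of_dvd h₁) (Nat.div_dvd_of_dvd h₂)).ker := by
  have hpq : ∀ i, ((pfun i₀ p₁ p₂ i : ℕ) : ℤ) * ((pfun i₀ (δ / p₁) (δ / p₂) i : ℕ) : ℤ) = (δ : ℤ) := by
    intro i
    by_cases hi : i = i₀
    · rw [hi, pfun_same, pfun_same]
      exact_mod_cast Nat.mul_div_cancel' h₁
    · rw [pfun_ne _ _ hi, pfun_ne _ _ hi]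
      exact_mod_cast Nat.mul_div_cancel' h₂
  ext φ
  rw [mem_ker_Psi_iff, AddMonoidHom.mem_ker]
  constructor
  · intro h i
    have h1 : Mhom δ bas (pfun i₀ p₁ p₂) φ (bas i) = 0 := by rw [h]; rfl
    rw [Mhom_basis] at h1
    obtain ⟨a, ha⟩ := ZMod.intCast_surjective (φ (bas i))
    rw [← ha, zsmul_eq_mul, ← Int.cast_mul] at h1
    have h2 : (δ : ℤ) ∣ ((pfun i₀ p₁ p₂ i : ℕ) : ℤ) * a :=
      (CharP.intCast_eq_zero_iff (ZMod δ) δ _).mp h1
    rw [← hpq i] at h2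
    have hp0 : ((pfun i₀ p₁ p₂ i : ℕ) : ℤ) ≠ 0 := by
      intro h0
      have h3 := hpq i
      rw [h0, zero_mul] at h3
      have : δ = 0 := by exact_mod_cast h3.symm
      omega
    obtain ⟨k, hk⟩ := (mul_dvd_mul_iff_left hp0).mp h2
    exact ⟨k, by rw [← ha, hk]⟩
  · intro h
    apply hom_ext_basis bas
    intro i
    obtain ⟨k, hk⟩ := h i
    rw [Mhom_basis, hk, AddMonoidHom.zero_apply, zsmul_eq_mul, ← Int.cast_mul, ← mul_assoc, hpq i]
    exact (CharP.intCast_eq_zero_iff (ZMod δ) δ _).mpr (dvd_mul_right _ _)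

end Adapted

/-! ### Main theorems -/

theorem main330
    (r : ℕ) (hr : 0 < r) (δ : ℕ) (g : ℤ) (hδ : (δ : ℤ) ∣ 2 * (g - 1))
    (d : Fin r → ℤ) :
    Nonempty ((((Fin r → ℤ) →+ ZMod δ) ⧸ AddSubgroup.closure
      {φ : (Fin r → ℤ) →+ ZMod δ | ∃ b : LinearMap.BilinForm ℤ (Fin r → ℤ), b.IsSymm ∧
      ∀ x, φ x = ((b d x + (1 - g) * b x x : ℤ) : ZMod δ)}) ≃+
      (ZMod (Int.gcd δ (Finset.univ.gcd d + 1 - g)) ×
        (Fin (r - 1) → ZMod (Int.gcd δ (Int.gcd (g - 1) (Finset.univ.gcd d)))))) := by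
  cases r with
  | zero => exact absurd hr (lt_irrefl 0)
  | succ m =>
    obtain ⟨bas, i₀, hd⟩ := exists_adapted_basis hr d
    have hker := closure_eq_ker hδ bas i₀ d hd
    exact ⟨(QuotientAddGroup.quotientAddEquivOfEq hker).trans
      (QuotientAddGroup.quotientKerEquivOfSurjective _
        (Psi_surjective bas i₀ (P1_dvd δ g _) (P2_dvd δ g _)))⟩

theorem main331
    (r : ℕ) (hr : 0 < r) (δ : ℕ) (hδ0 : 0 < δ) (g : ℤ) (hδ : (δ : ℤ) ∣ 2 * (g - 1))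
    (d : Fin r → ℤ) :
    Nonempty (AddSubgroup.closure
      {φ : (Fin r → ℤ) →+ ZMod δ | ∃ b : LinearMap.BilinForm ℤ (Fin r → ℤ), b.IsSymm ∧
      ∀ x, φ x = ((b d x + (1 - g) * b x x : ℤ) : ZMod δ)} ≃+
      (ZMod (δ / Int.gcd δ (Finset.univ.gcd d + 1 - g)) ×
        (Fin (r - 1) → ZMod (δ / Int.gcd δ (Int.gcd (g - 1) (Finset.univ.gcd d)))))) := by
  cases r with
  | zero => exact absurd hr (lt_irrefl 0)
  | succ m =>
    obtain ⟨bas, i₀, hd⟩ := exists_adapted_basis hr d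
    have hrange := closure_eq_range hδ bas i₀ d hd
    have hkers := ker_Mhom_eq bas i₀ hδ0 (P1_dvd δ g (Finset.univ.gcd d)) (P2_dvd δ g (Finset.univ.gcd d))
    exact ⟨(AddEquiv.addSubgroupCongr hrange).trans
      ((QuotientAddGroup.quotientKerEquivRange _).symm.trans
        ((QuotientAddGroup.quotientAddEquivOfEq hkers).trans
          (QuotientAddGroup.quotientKerEquivOfSurjective _
            (Psi_surjective bas i₀ (Nat.div_dvd_of_dvd (P1_dvd δ g _))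
              (Nat.div_dvd_of_dvd (P2_dvd δ g _))))))⟩

end Groth.Agent.Lib.LatticeWtH4
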