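import Mathlib

/-!
# Lattice lemmas (helper6): saturated sublattices split, Gram/adjugate finite-index lemma
-/

namespace Groth.Agent.Lib.Lattice_helper6

variable {L : Type*} [AddCommGroup L] [Module.Finite ℤ L] [Module.Free ℤ L]

/-- a saturated submodule of a finite free `ℤ`-module is a direct summand: there is a retraction -/
theorem exists_retraction (N : Submodule ℤ L)
    (hsat : ∀ (c : ℤ) (x : L), c ≠ 0 → c • x ∈ N → x ∈ N) :
    ∃ p : L →ₗ[ℤ] N, ∀ n : N, p (n : L) = n := by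
  haveI : Module.IsTorsionFree ℤ (L ⧸ N) := Module.IsTorsionFree.of_smul_eq_zero (by
    intro r m hrm
    obtain ⟨x, rfl⟩ := Submodule.Quotient.mk_surjective N m
    by_cases hr : r = 0
    · exact Or.inl hr
    · right
      rw [← Submodule.Quotient.mk_smul, Submodule.Quotient.mk_eq_zero] at hrm
      exact (Submodule.Quotient.mk_eq_zero N).2 (hsat r x hr hrm))
  haveI : Module.Free ℤ (L ⧸ N) := Module.free_of_finite_type_torsion_free'
  obtain ⟨s, hs⟩ := Module.projective_lifting_property N.mkQ LinearMap.id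
    (Submodule.mkQ_surjective N)
  obtain ⟨q, hq⟩ : ∃ q : L →ₗ[ℤ] L, ∀ x, q x = x - s (N.mkQ x) :=
    ⟨LinearMap.id - s ∘ₗ N.mkQ, fun x => rfl⟩
  have hpN : ∀ x : L, q x ∈ N := by
    intro x
    have h2 : N.mkQ (s (N.mkQ x)) = N.mkQ x := LinearMap.congr_fun hs (N.mkQ x)
    have h1 : N.mkQ (q x) = 0 := by
      rw [hq, map_sub, h2, sub_self]
    exact (Submodule.Quotient.mk_eq_zero N).1 h1
  refine ⟨q.codRestrict N hpN, fun n => ?_⟩
  apply Subtype.ext
  have h0 : N.mkQ (n : L) = 0 := (Submodule.Quotient.mk_eq_zero N).2 n.2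
  rw [LinearMap.codRestrict_apply, hq, h0, map_zero, sub_zero]

/-- functionals on a saturated submodule extend -/
theorem exists_extension (N : Submodule ℤ L)
    (hsat : ∀ (c : ℤ) (x : L), c ≠ 0 → c • x ∈ N → x ∈ N) (ψ : Module.Dual ℤ N) :
    ∃ φ : Module.Dual ℤ L, φ ∘ₗ N.subtype = ψ := by
  obtain ⟨p, hp⟩ := exists_retraction N hsat
  refine ⟨ψ ∘ₗ p, ?_⟩
  ext n
  simp only [LinearMap.comp_apply, Submodule.subtype_apply, hp]

/-- Gram/adjugate lemma: for a positive definite form, every functional on a submodule `A` has a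
nonzero multiple represented by an element of `A`. -/
theorem exists_smul_eq (B : LinearMap.BilinForm ℤ L) (hpos : ∀ x, x ≠ 0 → 0 < B x x)
    (A : Submodule ℤ L) (ψ : Module.Dual ℤ A) :
    ∃ c : ℤ, c ≠ 0 ∧ ∃ a ∈ A, ∀ n : A, c * ψ n = B (n : L) a := by
  classical
  haveI : IsNoetherian ℤ L := isNoetherian_of_isNoetherianRing_of_finite ℤ L
  haveI : Module.Finite ℤ A := Module.IsNoetherian.finite ℤ A
  haveI : Module.Free ℤ A := inferInstance
  obtain ⟨ι, hfin, ⟨bs⟩⟩ : ∃ (ι : Type _) (_ : Fintype ι), Nonempty (Module.Basis ι ℤ A) :=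
    ⟨_, Module.Free.ChooseBasisIndex.fintype ℤ A, ⟨Module.Free.chooseBasis ℤ A⟩⟩
  haveI := hfin
  obtain ⟨Gm, hGm⟩ : ∃ Gm : Matrix ι ι ℤ, ∀ i j, Gm i j = B (bs i : L) (bs j : L) :=
    ⟨Matrix.of fun i j => B (bs i : L) (bs j : L), fun i j => rfl⟩
  have hGv : ∀ (v : ι → ℤ) (i : ι),
      B (bs i : L) ((∑ j, v j • bs j : A) : L) = (Gm.mulVec v) i := by
    intro v i
    rw [Submodule.coe_sum, map_sum]
    simp only [Matrix.mulVec, dotProduct, hGm]
    apply Finset.sum_congr rfl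
    intro j _
    rw [Submodule.coe_smul, map_smul, smul_eq_mul, mul_comm]
  have hortho : ∀ (a : A) (y : L), (∀ i, B (bs i : L) y = 0) → B (a : L) y = 0 := by
    intro a y hy
    have e : (a : L) = ∑ i, bs.repr a i • (bs i : L) := by
      have h := congrArg (fun z : A => (z : L)) (bs.sum_repr a)
      simp only [Submodule.coe_sum, Submodule.coe_smul] at h
      exact h.symm
    rw [e, map_sum, LinearMap.sum_apply]
    apply Finset.sum_eq_zero
    intro i _
    rw [map_smul, LinearMap.smul_apply, hy i, smul_zero]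
  have hdet : Gm.det ≠ 0 := by
    intro h0
    obtain ⟨v, hv0, hv⟩ := Matrix.exists_mulVec_eq_zero_iff.2 h0
    have h1 : ∀ i, B (bs i : L) ((∑ j, v j • bs j : A) : L) = 0 := fun i => by
      rw [hGv v i, hv]; rfl
    have h2 : B ((∑ j, v j • bs j : A) : L) ((∑ j, v j • bs j : A) : L) = 0 := hortho _ _ h1
    have h3 : ((∑ j, v j • bs j : A) : L) = 0 := by
      by_contra hne
      have h4 := hpos _ hne
      rw [h2] at h4
      exact lt_irrefl _ h4
    have h4 : (∑ j, v j • bs j : A) = 0 := Subtype.ext h3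
    have h5 := Fintype.linearIndependent_iff.1 bs.linearIndependent v h4
    exact hv0 (funext h5)
  refine ⟨Gm.det, hdet, ?_⟩
  obtain ⟨v, hv⟩ : ∃ v : ι → ℤ, v = Gm.adjugate.mulVec (fun i => ψ (bs i)) := ⟨_, rfl⟩
  refine ⟨((∑ j, v j • bs j : A) : L), Submodule.coe_mem _, ?_⟩
  have hbasis : ∀ i, Gm.det * ψ (bs i) = B (bs i : L) ((∑ j, v j • bs j : A) : L) := by
    intro i
    rw [hGv v i, hv, Matrix.mulVec_mulVec, Matrix.mul_adjugate, Matrix.smul_mulVec,
      Matrix.one_mulVec]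
    rfl
  have hlin : Gm.det • ψ = (B.flip ((∑ j, v j • bs j : A) : L)) ∘ₗ A.subtype := by
    apply bs.ext
    intro i
    rw [LinearMap.smul_apply, smul_eq_mul, hbasis i]
    rfl
  intro n
  have h := LinearMap.congr_fun hlin n
  rw [LinearMap.smul_apply, smul_eq_mul] at h
  rw [h]
  rfl

end Groth.Agent.Lib.Lattice_helper6
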