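import Mathlib

/-!
# Approximation of matrices along a "dense" ring map, and descent of projective modules (helper1)

An `ApproxData L L'` for an algebra `L → L'` is an exhaustive multiplicative `ℤ`-filtration `F` of
`L'` by additive subgroups such that `L` is dense in `L'`, elements `1 - z` with `z ∈ F 1` are units
of `L'`, and elements `1 - y` of `L` with image of `y` in `F 1` are units of `L`
(e.g. `L = A[1/t]`, `L' = Â[1/t]`, `F k = t^k Â`).  In this situation: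
* finitely generated projective `L`-modules which become isomorphic over `L'` are isomorphic;
* every stably free `L'`-module is the base change of a stably free `L`-module.
-/

set_option autoImplicit false
set_option maxHeartbeats 1000000
universe u v w

open TensorProduct

namespace Groth.Agent.Lib.LaurApproxH1

/-- approximation data for an algebra `L → L'` -/
structure ApproxData (L : Type u) (L' : Type v) [CommRing L] [CommRing L'] [Algebra L L'] where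
  /-- the filtration -/
  F : ℤ → AddSubgroup L'
  anti : ∀ {j k : ℤ}, j ≤ k → F k ≤ F j
  mul_mem : ∀ {j k : ℤ} {x y : L'}, x ∈ F j → y ∈ F k → x * y ∈ F (j + k)
  one_mem : (1 : L') ∈ F 0
  exists_mem : ∀ x : L', ∃ k : ℤ, x ∈ F k
  dense : ∀ (x : L') (c : ℤ), ∃ y : L, x - algebraMap L L' y ∈ F c
  unit_of_small : ∀ y : L, algebraMap L L' y ∈ F 1 → IsUnit (1 - y)
  unit_of_small' : ∀ z : L', z ∈ F 1 → IsUnit (1 - z)

namespace ApproxData

variable {L : Type u} {L' : Type v} [CommRing L] [CommRing L'] [Algebra L L'] (D : ApproxData L L')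

section Small

variable {m n p : Type*}

/-- all entries lie in `F k` -/
def Small (k : ℤ) (A : Matrix m n L') : Prop := ∀ i j, A i j ∈ D.F k

variable {D}

theorem Small.mono {j k : ℤ} (h : j ≤ k) {A : Matrix m n L'} (hA : D.Small k A) : D.Small j A :=
  fun i l => D.anti h (hA i l)

theorem Small.add {k : ℤ} {A B : Matrix m n L'} (hA : D.Small k A) (hB : D.Small k B) :
    D.Small k (A + B) :=
  fun i l => (D.F k).add_mem (hA i l) (hB i l)

theorem Small.sub {k : ℤ} {A B : Matrix m n L'} (hA : D.Small k A) (hB : D.Small k B) :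
    D.Small k (A - B) :=
  fun i l => (D.F k).sub_mem (hA i l) (hB i l)

theorem Small.mul [Fintype n] {j k : ℤ} {A : Matrix m n L'} {B : Matrix n p L'}
    (hA : D.Small j A) (hB : D.Small k B) : D.Small (j + k) (A * B) := by
  intro i l
  rw [Matrix.mul_apply]
  exact sum_mem fun x _ => D.mul_mem (hA i x) (hB x l)

variable (D)

theorem exists_nat_mem (x : L') : ∃ c : ℕ, x ∈ D.F (-(c : ℤ)) := by
  obtain ⟨k, hk⟩ := D.exists_mem x
  refine ⟨(-k).toNat, D.anti ?_ hk⟩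
  have := Int.self_le_toNat (-k)
  omega

theorem exists_small [Finite m] [Finite n] (A : Matrix m n L') :
    ∃ c : ℕ, D.Small (-(c : ℤ)) A := by
  classical
  cases nonempty_fintype m
  cases nonempty_fintype n
  choose c hc using fun ij : m × n => D.exists_nat_mem (A ij.1 ij.2)
  refine ⟨∑ ij, c ij, fun i j => D.anti ?_ (hc (i, j))⟩
  have h : c (i, j) ≤ ∑ ij, c ij :=
    Finset.single_le_sum (f := c) (fun _ _ => Nat.zero_le _) (Finset.mem_univ (i, j))
  exact neg_le_neg (by exact_mod_cast h)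

theorem exists_approx (A : Matrix m n L') (c : ℤ) :
    ∃ A₀ : Matrix m n L, D.Small c (A - A₀.map (algebraMap L L')) := by
  choose f hf using fun ij : m × n => D.dense (A ij.1 ij.2) c
  exact ⟨fun i j => f (i, j), fun i j => hf (i, j)⟩

end Small

section Units

variable {n : Type*} [Fintype n] [DecidableEq n]

/-- the subring `F 0` -/
def O : Subring L' where
  carrier := D.F 0
  mul_mem' := fun {x y} hx hy => by
    have h := D.mul_mem (j := 0) (k := 0) hx hy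
    rw [zero_add] at h
    exact h
  one_mem' := D.one_mem
  add_mem' := fun hx hy => (D.F 0).add_mem hx hy
  zero_mem' := (D.F 0).zero_mem
  neg_mem' := fun hx => (D.F 0).neg_mem hx

/-- the ideal `F 1` of `F 0` -/
def I : Ideal D.O where
  carrier := {x | (x : L') ∈ D.F 1}
  add_mem' := fun hx hy => (D.F 1).add_mem hx hy
  zero_mem' := (D.F 1).zero_mem
  smul_mem' := fun c x hx => by
    have hc : (c : L') ∈ D.F 0 := c.2
    have h := D.mul_mem (j := 0) (k := 1) hc hx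
    rw [zero_add] at h
    exact h

theorem det_one_sub_of_small (Z : Matrix n n L') (hZ : D.Small 1 Z) :
    ∃ z ∈ D.F 1, (1 - Z).det = 1 - z := by
  have h01 : (0 : ℤ) ≤ 1 := by norm_num
  obtain ⟨Zt, hZt⟩ : ∃ Zt : Matrix n n D.O, ∀ i j, ((Zt i j : D.O) : L') = Z i j :=
    ⟨fun i j => ⟨Z i j, D.anti h01 (hZ i j)⟩, fun _ _ => rfl⟩
  have hmap : (Ideal.Quotient.mk D.I).mapMatrix Zt = 0 := by
    ext i j
    rw [RingHom.mapMatrix_apply, Matrix.map_apply, Matrix.zero_apply,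
      Ideal.Quotient.eq_zero_iff_mem]
    show ((Zt i j : D.O) : L') ∈ D.F 1
    rw [hZt]
    exact hZ i j
  have h1 : Ideal.Quotient.mk D.I ((1 - Zt).det) = 1 := by
    rw [RingHom.map_det, map_sub, map_one, hmap, sub_zero, Matrix.det_one]
  have h2 : 1 - (1 - Zt).det ∈ D.I := by
    rw [← Ideal.Quotient.eq_zero_iff_mem, map_sub, map_one, h1, sub_self]
  have h3 : D.O.subtype.mapMatrix (1 - Zt) = 1 - Z := by
    rw [map_sub, map_one]
    congr 1
    ext i j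
    exact hZt i j
  refine ⟨((1 - (1 - Zt).det : D.O) : L'), h2, ?_⟩
  have h4 := RingHom.map_det D.O.subtype (1 - Zt)
  rw [h3] at h4
  rw [← h4]
  show ((1 - Zt).det : L') = 1 - ((1 - (1 - Zt).det : D.O) : L')
  push_cast
  ring

theorem isUnit_one_sub_of_small' (Z : Matrix n n L') (hZ : D.Small 1 Z) : IsUnit (1 - Z) := by
  obtain ⟨z, hz, hdet⟩ := D.det_one_sub_of_small Z hZ
  rw [Matrix.isUnit_iff_isUnit_det, hdet]
  exact D.unit_of_small' z hz

theorem isUnit_one_sub_of_small (Y : Matrix n n L)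
    (hY : D.Small 1 ((algebraMap L L').mapMatrix Y)) : IsUnit (1 - Y) := by
  obtain ⟨z, hz, hdet⟩ := D.det_one_sub_of_small _ hY
  rw [Matrix.isUnit_iff_isUnit_det]
  have h1 : algebraMap L L' ((1 - Y).det) = 1 - z := by
    rw [RingHom.map_det, map_sub, map_one, hdet]
  have h2 : (1 - Y).det = 1 - (1 - (1 - Y).det) := by ring
  rw [h2]
  apply D.unit_of_small
  rw [map_sub, map_one, h1, sub_sub_cancel]
  exact hz

end Units

section Core

theorem key_identity {S : Type*} [Ring S] (a b P Q dP dQ : S) (hbb : b * b = b)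
    (h1 : Q * P = a) (h3 : b * P = P) (h4 : P * a = P) (h5 : a * Q = Q) (h6 : Q * b = Q) :
    a - (a * (Q - dQ) * b) * (b * (P - dP) * a) =
      Q * dP * a + a * dQ * P - a * dQ * b * dP * a := by
  have e1 : (a * (Q - dQ) * b) * (b * (P - dP) * a) =
      a * (Q - dQ) * (b * b) * (P - dP) * a := by noncomm_ring
  rw [e1, hbb]
  have e2 : a * (Q - dQ) * b * (P - dP) * a =
      a * Q * b * P * a - a * Q * b * dP * a - a * dQ * b * P * a + a * dQ * b * dP * a := by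
    noncomm_ring
  have e3 : a * dQ * b * P * a = a * dQ * P := by
    rw [mul_assoc (a * dQ) b P, h3, mul_assoc (a * dQ) P a, h4]
  have e4 : a * Q * b * P * a = a := by
    rw [h5, h6, mul_assoc Q P a, h4, h1]
  have e5 : a * Q * b * dP * a = Q * dP * a := by
    rw [h5, h6]
  rw [e2, e3, e4, e5]
  abel

variable {k : Type*} [Fintype k] [DecidableEq k]

include D in
/-- the matrix form of descent of isomorphisms -/
theorem core (EM EN : Matrix k k L) (hEM : EM * EM = EM) (hEN : EN * EN = EN)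
    (Φ Ψ : Matrix k k L')
    (h1 : Ψ * Φ = (algebraMap L L').mapMatrix EM) (h2 : Φ * Ψ = (algebraMap L L').mapMatrix EN)
    (h3 : (algebraMap L L').mapMatrix EN * Φ = Φ) (h4 : Φ * (algebraMap L L').mapMatrix EM = Φ)
    (h5 : (algebraMap L L').mapMatrix EM * Ψ = Ψ) (h6 : Ψ * (algebraMap L L').mapMatrix EN = Ψ) :
    ∃ A B : Matrix k k L, B * A = EM ∧ A * B = EN ∧ B * EN = B ∧ A * EM = A := by
  obtain ⟨μ, hμ⟩ : ∃ μ : Matrix k k L →+* Matrix k k L', μ = (algebraMap L L').mapMatrix :=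
    ⟨_, rfl⟩
  rw [← hμ] at h1 h2 h3 h4 h5 h6
  obtain ⟨a, ha⟩ : ∃ a, a = μ EM := ⟨_, rfl⟩
  obtain ⟨b, hb⟩ : ∃ b, b = μ EN := ⟨_, rfl⟩
  rw [← ha] at h1 h4 h5
  rw [← hb] at h2 h3 h6
  have haa : a * a = a := by rw [ha, ← map_mul, hEM]
  have hbb : b * b = b := by rw [hb, ← map_mul, hEN]
  obtain ⟨c1, hc1⟩ := D.exists_small a
  obtain ⟨c2, hc2⟩ := D.exists_small b
  obtain ⟨c3, hc3⟩ := D.exists_small Φ
  obtain ⟨c4, hc4⟩ := D.exists_small Ψ
  obtain ⟨c₀, hc₀⟩ : ∃ c₀ : ℕ, c₀ = c1 + c2 + c3 + c4 := ⟨_, rfl⟩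
  have ha' : D.Small (-(c₀ : ℤ)) a := hc1.mono (by rw [hc₀]; push_cast; omega)
  have hb' : D.Small (-(c₀ : ℤ)) b := hc2.mono (by rw [hc₀]; push_cast; omega)
  have hΦ' : D.Small (-(c₀ : ℤ)) Φ := hc3.mono (by rw [hc₀]; push_cast; omega)
  have hΨ' : D.Small (-(c₀ : ℤ)) Ψ := hc4.mono (by rw [hc₀]; push_cast; omega)
  obtain ⟨Φ₀, hΦ₀⟩ := D.exists_approx Φ (2 * c₀ + 1)
  obtain ⟨Ψ₀, hΨ₀⟩ := D.exists_approx Ψ (2 * c₀ + 1)
  obtain ⟨dP, hdP⟩ : ∃ dP, dP = Φ - μ Φ₀ := ⟨_, rfl⟩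
  obtain ⟨dQ, hdQ⟩ : ∃ dQ, dQ = Ψ - μ Ψ₀ := ⟨_, rfl⟩
  have hdPs : D.Small (2 * c₀ + 1) dP := by rw [hdP, hμ]; exact hΦ₀
  have hdQs : D.Small (2 * c₀ + 1) dQ := by rw [hdQ, hμ]; exact hΨ₀
  have hP₀ : μ Φ₀ = Φ - dP := by rw [hdP, sub_sub_cancel]
  have hQ₀ : μ Ψ₀ = Ψ - dQ := by rw [hdQ, sub_sub_cancel]
  obtain ⟨A₁, hA₁⟩ : ∃ A₁, A₁ = EN * Φ₀ * EM := ⟨_, rfl⟩
  obtain ⟨B₁, hB₁⟩ : ∃ B₁, B₁ = EM * Ψ₀ * EN := ⟨_, rfl⟩
  have hμA : μ A₁ = b * (Φ - dP) * a := by rw [hA₁, map_mul, map_mul, hP₀, ← ha, ← hb]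
  have hμB : μ B₁ = a * (Ψ - dQ) * b := by rw [hB₁, map_mul, map_mul, hQ₀, ← ha, ← hb]
  obtain ⟨YM, hYMdef⟩ : ∃ YM, YM = EM - B₁ * A₁ := ⟨_, rfl⟩
  obtain ⟨YN, hYNdef⟩ : ∃ YN, YN = EN - A₁ * B₁ := ⟨_, rfl⟩
  have hYM : D.Small 1 ((algebraMap L L').mapMatrix YM) := by
    rw [← hμ, hYMdef, map_sub, map_mul, hμA, hμB, ← ha,
      key_identity a b Φ Ψ dP dQ hbb h1 h3 h4 h5 h6]
    have t1 : D.Small 1 (Ψ * dP * a) := ((hΨ'.mul hdPs).mul ha').mono (by omega)
    have t2 : D.Small 1 (a * dQ * Φ) := ((ha'.mul hdQs).mul hΦ').mono (by omega)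
    have t3 : D.Small 1 (a * dQ * b * dP * a) :=
      ((((ha'.mul hdQs).mul hb').mul hdPs).mul ha').mono (by omega)
    exact (t1.add t2).sub t3
  have hYN : D.Small 1 ((algebraMap L L').mapMatrix YN) := by
    rw [← hμ, hYNdef, map_sub, map_mul, hμA, hμB, ← hb,
      key_identity b a Ψ Φ dQ dP haa h2 h5 h6 h3 h4]
    have t1 : D.Small 1 (Φ * dQ * b) := ((hΦ'.mul hdQs).mul hb').mono (by omega)
    have t2 : D.Small 1 (b * dP * Ψ) := ((hb'.mul hdPs).mul hΨ').mono (by omega)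
    have t3 : D.Small 1 (b * dP * a * dQ * b) :=
      ((((hb'.mul hdPs).mul ha').mul hdQs).mul hb').mono (by omega)
    exact (t1.add t2).sub t3
  obtain ⟨uM, huM⟩ := D.isUnit_one_sub_of_small YM hYM
  obtain ⟨uN, huN⟩ := D.isUnit_one_sub_of_small YN hYN
  obtain ⟨WM, hWM⟩ : ∃ WM : Matrix k k L, WM = ↑uM⁻¹ := ⟨_, rfl⟩
  obtain ⟨WN, hWN⟩ : ∃ WN : Matrix k k L, WN = ↑uN⁻¹ := ⟨_, rfl⟩
  have hW1 : WM * (1 - YM) = 1 := by rw [← huM, hWM]; exact uM.inv_mul
  have hW2N : (1 - YN) * WN = 1 := by rw [← huN, hWN]; exact uN.mul_inv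
  have hEB : EM * B₁ = B₁ := by rw [hB₁, ← mul_assoc, ← mul_assoc, hEM]
  have hAE : A₁ * EM = A₁ := by rw [hA₁, mul_assoc, hEM]
  have hBE : B₁ * EN = B₁ := by rw [hB₁, mul_assoc, hEN]
  have hEA : EN * A₁ = A₁ := by rw [hA₁, ← mul_assoc, ← mul_assoc, hEN]
  have hYE : YM * EM = YM := by rw [hYMdef, sub_mul, hEM, mul_assoc, hAE]
  have hEYN : EN * YN = YN := by rw [hYNdef, mul_sub, hEN, ← mul_assoc, hEA]
  have hBA : B₁ * A₁ = (1 - YM) * EM := by
    rw [sub_mul, one_mul, hYE, hYMdef, sub_sub_cancel]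
  have hAB : A₁ * B₁ = EN * (1 - YN) := by
    rw [mul_sub, mul_one, hEYN, hYNdef, sub_sub_cancel]
  have hBl : WM * B₁ * A₁ = EM := by
    rw [mul_assoc, hBA, ← mul_assoc, hW1, one_mul]
  have hBr : A₁ * (B₁ * WN) = EN := by
    rw [← mul_assoc, hAB, mul_assoc, hW2N, mul_one]
  have hBlE : WM * B₁ * EN = WM * B₁ := by rw [mul_assoc, hBE]
  have hEBr : EM * (B₁ * WN) = B₁ * WN := by rw [← mul_assoc, hEB]
  have hBlBr : WM * B₁ = B₁ * WN := by
    calc WM * B₁ = WM * B₁ * EN := hBlE.symm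
      _ = WM * B₁ * (A₁ * (B₁ * WN)) := by rw [hBr]
      _ = (WM * B₁ * A₁) * (B₁ * WN) := by rw [mul_assoc (WM * B₁) A₁]
      _ = EM * (B₁ * WN) := by rw [hBl]
      _ = B₁ * WN := hEBr
  refine ⟨A₁, WM * B₁, hBl, ?_, hBlE, hAE⟩
  rw [hBlBr]
  exact hBr

end Core

end ApproxData

end Groth.Agent.Lib.LaurApproxH1
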