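import Groth.Agent.Lib.LaurApprox1_helper1

/-!
# Descent of projective modules along a dense ring map (helper1)
-/

set_option autoImplicit false
set_option maxHeartbeats 1000000
universe u v w

open TensorProduct Matrix

namespace Groth.Agent.Lib.LaurApproxH1

namespace ApproxData

variable {L : Type u} {L' : Type v} [CommRing L] [CommRing L'] [Algebra L L'] (D : ApproxData L L')

section IsoDescent

include D in
/-- finitely generated projective `L`-modules which become isomorphic over `L'` are isomorphic -/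
theorem nonempty_equiv_of_baseChange (M : Type*) (N : Type*) [AddCommGroup M] [Module L M]
    [Module.Finite L M] [Module.Projective L M] [AddCommGroup N] [Module L N] [Module.Finite L N]
    [Module.Projective L N] (ψ : L' ⊗[L] M ≃ₗ[L'] L' ⊗[L] N) : Nonempty (M ≃ₗ[L] N) := by
  classical
  obtain ⟨m, πM0, hπM0⟩ := Module.Finite.exists_fin' L M
  obtain ⟨n, πN0, hπN0⟩ := Module.Finite.exists_fin' L N
  obtain ⟨πM, hπMdef⟩ : ∃ πM : (Fin (m + n) → L) →ₗ[L] M,
      πM = πM0 ∘ₗ LinearMap.funLeft L L (Fin.castAdd n) := ⟨_, rfl⟩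
  obtain ⟨πN, hπNdef⟩ : ∃ πN : (Fin (m + n) → L) →ₗ[L] N,
      πN = πN0 ∘ₗ LinearMap.funLeft L L (Fin.natAdd m) := ⟨_, rfl⟩
  have hπM : Function.Surjective πM := by
    rw [hπMdef]
    exact hπM0.comp (LinearMap.funLeft_surjective_of_injective L L _ (Fin.castAdd_injective m n))
  have hπN : Function.Surjective πN := by
    rw [hπNdef]
    exact hπN0.comp (LinearMap.funLeft_surjective_of_injective L L _ (Fin.natAdd_injective n m))
  obtain ⟨ιM, hιM⟩ := Module.projective_lifting_property πM LinearMap.id hπM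
  obtain ⟨ιN, hιN⟩ := Module.projective_lifting_property πN LinearMap.id hπN
  have hπιM : ∀ x, πM (ιM x) = x := fun x => LinearMap.congr_fun hιM x
  have hπιN : ∀ x, πN (ιN x) = x := fun x => LinearMap.congr_fun hιN x
  obtain ⟨EM, hEMdef⟩ : ∃ EM : Matrix (Fin (m + n)) (Fin (m + n)) L,
      EM = LinearMap.toMatrix' (ιM ∘ₗ πM) := ⟨_, rfl⟩
  obtain ⟨EN, hENdef⟩ : ∃ EN : Matrix (Fin (m + n)) (Fin (m + n)) L,
      EN = LinearMap.toMatrix' (ιN ∘ₗ πN) := ⟨_, rfl⟩
  have hEMlin : ∀ v, Matrix.toLin' EM v = ιM (πM v) := by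
    intro v
    rw [hEMdef, Matrix.toLin'_toMatrix']
    rfl
  have hENlin : ∀ v, Matrix.toLin' EN v = ιN (πN v) := by
    intro v
    rw [hENdef, Matrix.toLin'_toMatrix']
    rfl
  have hEM : EM * EM = EM := by
    rw [hEMdef, ← LinearMap.toMatrix'_comp]
    congr 1
    apply LinearMap.ext
    intro v
    simp only [LinearMap.comp_apply, hπιM]
  have hEN : EN * EN = EN := by
    rw [hENdef, ← LinearMap.toMatrix'_comp]
    congr 1
    apply LinearMap.ext
    intro v
    simp only [LinearMap.comp_apply, hπιN]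
  -- base change
  obtain ⟨bk, hbk⟩ : ∃ bk : Module.Basis (Fin (m + n)) L' (L' ⊗[L] (Fin (m + n) → L)),
      bk = Algebra.TensorProduct.basis L' (Pi.basisFun L (Fin (m + n))) := ⟨_, rfl⟩
  have hM' : ∀ y, πM.baseChange L' (ιM.baseChange L' y) = y := by
    intro y
    rw [← LinearMap.comp_apply, ← LinearMap.baseChange_comp, hιM, LinearMap.baseChange_id,
      LinearMap.id_apply]
  have hN' : ∀ y, πN.baseChange L' (ιN.baseChange L' y) = y := by
    intro y
    rw [← LinearMap.comp_apply, ← LinearMap.baseChange_comp, hιN, LinearMap.baseChange_id,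
      LinearMap.id_apply]
  have hcM : ∀ x, (ιM ∘ₗ πM).baseChange L' x = ιM.baseChange L' (πM.baseChange L' x) := by
    intro x
    rw [LinearMap.baseChange_comp]
    rfl
  have hcN : ∀ x, (ιN ∘ₗ πN).baseChange L' x = ιN.baseChange L' (πN.baseChange L' x) := by
    intro x
    rw [LinearMap.baseChange_comp]
    rfl
  obtain ⟨Φl, hΦl⟩ : ∃ Φl : L' ⊗[L] (Fin (m + n) → L) →ₗ[L'] L' ⊗[L] (Fin (m + n) → L),
      Φl = ιN.baseChange L' ∘ₗ ψ.toLinearMap ∘ₗ πM.baseChange L' := ⟨_, rfl⟩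
  obtain ⟨Ψl, hΨl⟩ : ∃ Ψl : L' ⊗[L] (Fin (m + n) → L) →ₗ[L'] L' ⊗[L] (Fin (m + n) → L),
      Ψl = ιM.baseChange L' ∘ₗ ψ.symm.toLinearMap ∘ₗ πN.baseChange L' := ⟨_, rfl⟩
  have hΦapp : ∀ x, Φl x = ιN.baseChange L' (ψ (πM.baseChange L' x)) := by
    intro x
    rw [hΦl]
    rfl
  have hΨapp : ∀ x, Ψl x = ιM.baseChange L' (ψ.symm (πN.baseChange L' x)) := by
    intro x
    rw [hΨl]
    rfl
  have hmatM : LinearMap.toMatrix bk bk ((ιM ∘ₗ πM).baseChange L') =
      (algebraMap L L').mapMatrix EM := by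
    rw [hbk, LinearMap.toMatrix_baseChange, LinearMap.toMatrix_eq_toMatrix', hEMdef]
    rfl
  have hmatN : LinearMap.toMatrix bk bk ((ιN ∘ₗ πN).baseChange L') =
      (algebraMap L L').mapMatrix EN := by
    rw [hbk, LinearMap.toMatrix_baseChange, LinearMap.toMatrix_eq_toMatrix', hENdef]
    rfl
  have h1 : LinearMap.toMatrix bk bk Ψl * LinearMap.toMatrix bk bk Φl =
      (algebraMap L L').mapMatrix EM := by
    have e : Ψl ∘ₗ Φl = (ιM ∘ₗ πM).baseChange L' := by
      apply LinearMap.ext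
      intro x
      rw [LinearMap.comp_apply, hΦapp, hΨapp, hN', LinearEquiv.symm_apply_apply, hcM]
    rw [← LinearMap.toMatrix_comp, ← hmatM, e]
  have h2 : LinearMap.toMatrix bk bk Φl * LinearMap.toMatrix bk bk Ψl =
      (algebraMap L L').mapMatrix EN := by
    have e : Φl ∘ₗ Ψl = (ιN ∘ₗ πN).baseChange L' := by
      apply LinearMap.ext
      intro x
      rw [LinearMap.comp_apply, hΦapp, hΨapp, hM', LinearEquiv.apply_symm_apply, hcN]
    rw [← LinearMap.toMatrix_comp, ← hmatN, e]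
  have h3 : (algebraMap L L').mapMatrix EN * LinearMap.toMatrix bk bk Φl =
      LinearMap.toMatrix bk bk Φl := by
    have e : (ιN ∘ₗ πN).baseChange L' ∘ₗ Φl = Φl := by
      apply LinearMap.ext
      intro x
      rw [LinearMap.comp_apply, hcN, hΦapp, hN']
    rw [← hmatN, ← LinearMap.toMatrix_comp, e]
  have h4 : LinearMap.toMatrix bk bk Φl * (algebraMap L L').mapMatrix EM =
      LinearMap.toMatrix bk bk Φl := by
    have e : Φl ∘ₗ (ιM ∘ₗ πM).baseChange L' = Φl := by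
      apply LinearMap.ext
      intro x
      rw [LinearMap.comp_apply, hcM, hΦapp, hΦapp, hM']
    rw [← hmatM, ← LinearMap.toMatrix_comp, e]
  have h5 : (algebraMap L L').mapMatrix EM * LinearMap.toMatrix bk bk Ψl =
      LinearMap.toMatrix bk bk Ψl := by
    have e : (ιM ∘ₗ πM).baseChange L' ∘ₗ Ψl = Ψl := by
      apply LinearMap.ext
      intro x
      rw [LinearMap.comp_apply, hcM, hΨapp, hM']
    rw [← hmatM, ← LinearMap.toMatrix_comp, e]
  have h6 : LinearMap.toMatrix bk bk Ψl * (algebraMap L L').mapMatrix EN =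
      LinearMap.toMatrix bk bk Ψl := by
    have e : Ψl ∘ₗ (ιN ∘ₗ πN).baseChange L' = Ψl := by
      apply LinearMap.ext
      intro x
      rw [LinearMap.comp_apply, hcN, hΨapp, hΨapp, hN']
    rw [← hmatN, ← LinearMap.toMatrix_comp, e]
  obtain ⟨A, B, hBA, hAB, hBE, hAE⟩ := D.core EM EN hEM hEN _ _ h1 h2 h3 h4 h5 h6
  obtain ⟨f, hf⟩ : ∃ f : M →ₗ[L] N, f = πN ∘ₗ Matrix.toLin' A ∘ₗ ιM := ⟨_, rfl⟩
  obtain ⟨g, hg⟩ : ∃ g : N →ₗ[L] M, g = πM ∘ₗ Matrix.toLin' B ∘ₗ ιN := ⟨_, rfl⟩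
  have hfapp : ∀ x, f x = πN (Matrix.toLin' A (ιM x)) := by
    intro x
    rw [hf]
    rfl
  have hgapp : ∀ x, g x = πM (Matrix.toLin' B (ιN x)) := by
    intro x
    rw [hg]
    rfl
  have hgf : ∀ x, g (f x) = x := by
    intro x
    rw [hgapp, hfapp, ← hENlin, ← Matrix.toLin'_mul_apply, hBE, ← Matrix.toLin'_mul_apply, hBA,
      hEMlin, hπιM, hπιM]
  have hfg : ∀ x, f (g x) = x := by
    intro x
    rw [hgapp, hfapp, ← hEMlin, ← Matrix.toLin'_mul_apply, hAE, ← Matrix.toLin'_mul_apply, hAB,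
      hENlin, hπιN, hπιN]
  exact ⟨LinearEquiv.ofLinear f g (LinearMap.ext hfg) (LinearMap.ext hgf)⟩

end IsoDescent

section BaseChangeRange

/-- base change of matrices acting on standard free modules -/
theorem piSR_baseChange {m n : ℕ} (A : Matrix (Fin n) (Fin m) L) (y : L' ⊗[L] (Fin m → L)) :
    TensorProduct.piScalarRight L L' L' (Fin n) ((Matrix.toLin' A).baseChange L' y) =
      Matrix.toLin' (A.map (algebraMap L L')) (TensorProduct.piScalarRight L L' L' (Fin m) y) := by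
  induction y using TensorProduct.induction_on with
  | zero => simp
  | add x y hx hy => simp only [map_add, hx, hy]
  | tmul l x =>
    rw [LinearMap.baseChange_tmul, TensorProduct.piScalarRight_apply,
      TensorProduct.piScalarRightHom_tmul, TensorProduct.piScalarRight_apply,
      TensorProduct.piScalarRightHom_tmul]
    ext j
    simp only [Matrix.toLin'_apply, Matrix.mulVec, dotProduct, Matrix.map_apply,
      Algebra.smul_def, map_sum, Finset.sum_mul, map_mul, mul_assoc]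

/-- the base change of the image of an idempotent matrix is the image of the base-changed matrix -/
theorem nonempty_baseChange_range_equiv {b : ℕ} (E : Matrix (Fin b) (Fin b) L) (hE : E * E = E) :
    Nonempty (L' ⊗[L] (LinearMap.range (Matrix.toLin' E)) ≃ₗ[L']
      LinearMap.range (Matrix.toLin' (E.map (algebraMap L L')))) := by
  classical
  obtain ⟨P, hP⟩ : ∃ P : Submodule L (Fin b → L), P = LinearMap.range (Matrix.toLin' E) :=
    ⟨_, rfl⟩
  rw [← hP]
  have hmemP : ∀ x : P, Matrix.toLin' E (x : Fin b → L) = x := by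
    intro x
    have hx : (x : Fin b → L) ∈ LinearMap.range (Matrix.toLin' E) := by
      rw [← hP]
      exact x.2
    obtain ⟨y, hy⟩ := hx
    rw [← hy, ← Matrix.toLin'_mul_apply, hE]
  have hEP : ∀ v, Matrix.toLin' E v ∈ P := by
    intro v
    rw [hP]
    exact ⟨v, rfl⟩
  obtain ⟨ρ, hρ⟩ : ∃ ρ : (Fin b → L) →ₗ[L] P, ρ = LinearMap.codRestrict P (Matrix.toLin' E) hEP :=
    ⟨_, rfl⟩
  have h1 : ρ ∘ₗ P.subtype = LinearMap.id := by
    apply LinearMap.ext
    intro x
    apply Subtype.ext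
    rw [hρ]
    exact hmemP x
  have h2 : P.subtype ∘ₗ ρ = Matrix.toLin' E := by
    rw [hρ]
    rfl
  have h3 : Matrix.toLin' E ∘ₗ P.subtype = P.subtype := by
    apply LinearMap.ext
    intro x
    exact hmemP x
  obtain ⟨T, hT⟩ : ∃ T : L' ⊗[L] P →ₗ[L'] (Fin b → L'),
      T = (TensorProduct.piScalarRight L L' L' (Fin b)).toLinearMap ∘ₗ P.subtype.baseChange L' :=
    ⟨_, rfl⟩
  have hTapp : ∀ z, T z = TensorProduct.piScalarRight L L' L' (Fin b) (P.subtype.baseChange L' z) := by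
    intro z
    rw [hT]
    rfl
  have hinj : Function.Injective T := by
    have hi : Function.Injective (P.subtype.baseChange L') := by
      apply Function.LeftInverse.injective (g := ρ.baseChange L')
      intro z
      rw [← LinearMap.comp_apply, ← LinearMap.baseChange_comp, h1, LinearMap.baseChange_id,
        LinearMap.id_apply]
    intro z z' hzz
    rw [hTapp, hTapp] at hzz
    exact hi ((TensorProduct.piScalarRight L L' L' (Fin b)).injective hzz)
  have hrange : LinearMap.range T = LinearMap.range (Matrix.toLin' (E.map (algebraMap L L'))) := by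
    apply le_antisymm
    · rintro _ ⟨z, rfl⟩
      refine ⟨TensorProduct.piScalarRight L L' L' (Fin b) (P.subtype.baseChange L' z), ?_⟩
      rw [← piSR_baseChange, hTapp, ← LinearMap.comp_apply ((Matrix.toLin' E).baseChange L'),
        ← LinearMap.baseChange_comp, h3]
    · rintro _ ⟨w, rfl⟩
      refine ⟨ρ.baseChange L' ((TensorProduct.piScalarRight L L' L' (Fin b)).symm w), ?_⟩
      rw [hTapp, ← LinearMap.comp_apply (P.subtype.baseChange L'), ← LinearMap.baseChange_comp, h2,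
        piSR_baseChange, LinearEquiv.apply_symm_apply]
  exact ⟨(LinearEquiv.ofInjective T hinj).trans (LinearEquiv.ofEq _ _ hrange)⟩

end BaseChangeRange

section StablyFree

include D in
/-- every stably free `L'`-module is the base change of a stably free `L`-module -/
theorem exists_descent_of_stablyFree (M' : Type w) [AddCommGroup M'] [Module L' M'] (a b : ℕ)
    (ε : (M' × (Fin a → L')) ≃ₗ[L'] (Fin b → L')) :
    ∃ P : Submodule L (Fin b → L), Nonempty ((P × (Fin a → L)) ≃ₗ[L] (Fin b → L)) ∧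
      Nonempty (L' ⊗[L] P ≃ₗ[L'] M') := by
  classical
  obtain ⟨φ, hφ⟩ : ∃ φ : L →+* L', φ = algebraMap L L' := ⟨_, rfl⟩
  obtain ⟨U, hU⟩ : ∃ U : (Fin b → L') →ₗ[L'] (Fin a → L'),
      U = LinearMap.snd L' M' (Fin a → L') ∘ₗ ε.symm.toLinearMap := ⟨_, rfl⟩
  obtain ⟨V, hV⟩ : ∃ V : (Fin a → L') →ₗ[L'] (Fin b → L'),
      V = ε.toLinearMap ∘ₗ LinearMap.inr L' M' (Fin a → L') := ⟨_, rfl⟩
  have hUapp : ∀ z, U z = (ε.symm z).2 := by
    intro z
    rw [hU]
    rfl
  have hVapp : ∀ y, V y = ε (0, y) := by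
    intro y
    rw [hV]
    rfl
  have hUV : U ∘ₗ V = LinearMap.id := by
    apply LinearMap.ext
    intro y
    rw [LinearMap.comp_apply, hUapp, hVapp, LinearEquiv.symm_apply_apply, LinearMap.id_apply]
  obtain ⟨Um, hUm⟩ : ∃ Um : Matrix (Fin a) (Fin b) L', Um = LinearMap.toMatrix' U := ⟨_, rfl⟩
  obtain ⟨Vm, hVm⟩ : ∃ Vm : Matrix (Fin b) (Fin a) L', Vm = LinearMap.toMatrix' V := ⟨_, rfl⟩
  have hUmv : ∀ z, Um *ᵥ z = (ε.symm z).2 := by
    intro z
    rw [← hUapp, hUm, ← Matrix.toLin'_apply, Matrix.toLin'_toMatrix']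
  have hUVm : Um * Vm = 1 := by
    rw [hUm, hVm, ← LinearMap.toMatrix'_comp, hUV, LinearMap.toMatrix'_id]
  obtain ⟨c1, hc1⟩ := D.exists_small Um
  obtain ⟨c2, hc2⟩ := D.exists_small Vm
  obtain ⟨c₀, hc₀⟩ : ∃ c₀ : ℕ, c₀ = c1 + c2 := ⟨_, rfl⟩
  have hUs : D.Small (-(c₀ : ℤ)) Um := hc1.mono (by rw [hc₀]; push_cast; omega)
  have hVs : D.Small (-(c₀ : ℤ)) Vm := hc2.mono (by rw [hc₀]; push_cast; omega)
  obtain ⟨U₀, hU₀⟩ := D.exists_approx Um (c₀ + 1)
  obtain ⟨V₀, hV₀⟩ := D.exists_approx Vm (c₀ + 1)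
  rw [← hφ] at hU₀ hV₀
  obtain ⟨dU, hdU⟩ : ∃ dU, dU = Um - U₀.map φ := ⟨_, rfl⟩
  obtain ⟨dV, hdV⟩ : ∃ dV, dV = Vm - V₀.map φ := ⟨_, rfl⟩
  rw [← hdU] at hU₀
  rw [← hdV] at hV₀
  have hU₀' : U₀.map φ = Um - dU := by rw [hdU, sub_sub_cancel]
  have hV₀' : V₀.map φ = Vm - dV := by rw [hdV, sub_sub_cancel]
  have hY : D.Small 1 ((algebraMap L L').mapMatrix (1 - U₀ * V₀)) := by
    have e : (algebraMap L L').mapMatrix (1 - U₀ * V₀) = Um * dV + dU * Vm - dU * dV := by
      rw [map_sub, map_one, RingHom.mapMatrix_apply, ← hφ, Matrix.map_mul, hU₀', hV₀',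
        Matrix.sub_mul, Matrix.mul_sub, Matrix.mul_sub, hUVm]
      abel
    rw [e]
    have t1 : D.Small 1 (Um * dV) := (hUs.mul hV₀).mono (by omega)
    have t2 : D.Small 1 (dU * Vm) := (hU₀.mul hVs).mono (by omega)
    have t3 : D.Small 1 (dU * dV) := (hU₀.mul hV₀).mono (by omega)
    exact (t1.add t2).sub t3
  obtain ⟨u, hu⟩ := D.isUnit_one_sub_of_small (1 - U₀ * V₀) hY
  rw [sub_sub_cancel] at hu
  obtain ⟨W, hW⟩ : ∃ W : Matrix (Fin a) (Fin a) L, W = ↑u⁻¹ := ⟨_, rfl⟩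
  have hUVW : U₀ * V₀ * W = 1 := by rw [← hu, hW]; exact u.mul_inv
  obtain ⟨V₁, hV₁⟩ : ∃ V₁, V₁ = V₀ * W := ⟨_, rfl⟩
  have hUV₁ : U₀ * V₁ = 1 := by rw [hV₁, ← Matrix.mul_assoc, hUVW]
  obtain ⟨E₀, hE₀⟩ : ∃ E₀ : Matrix (Fin b) (Fin b) L, E₀ = 1 - V₁ * U₀ := ⟨_, rfl⟩
  have hUE : U₀ * E₀ = 0 := by
    rw [hE₀, Matrix.mul_sub, Matrix.mul_one, ← Matrix.mul_assoc, hUV₁, Matrix.one_mul, sub_self]
  have hEV : E₀ * V₁ = 0 := by
    rw [hE₀, Matrix.sub_mul, Matrix.one_mul, Matrix.mul_assoc, hUV₁, Matrix.mul_one, sub_self]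
  have hEE : E₀ * E₀ = E₀ := by
    have h : E₀ * (1 - V₁ * U₀) = E₀ := by
      rw [Matrix.mul_sub, Matrix.mul_one, ← Matrix.mul_assoc, hEV, Matrix.zero_mul, sub_zero]
    rw [← hE₀] at h
    exact h
  have hEsum : E₀ + V₁ * U₀ = 1 := by rw [hE₀, sub_add_cancel]
  obtain ⟨P, hP⟩ : ∃ P : Submodule L (Fin b → L), P = LinearMap.range (Matrix.toLin' E₀) :=
    ⟨_, rfl⟩
  have hEP : ∀ v, Matrix.toLin' E₀ v ∈ P := by
    intro v
    rw [hP]
    exact ⟨v, rfl⟩
  have hPE : ∀ x : P, E₀ *ᵥ (x : Fin b → L) = x := by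
    intro x
    have hx : (x : Fin b → L) ∈ LinearMap.range (Matrix.toLin' E₀) := by
      rw [← hP]
      exact x.2
    obtain ⟨y, hy⟩ := hx
    rw [← hy, Matrix.toLin'_apply, Matrix.mulVec_mulVec, hEE]
  have hPU : ∀ x : P, U₀ *ᵥ (x : Fin b → L) = 0 := by
    intro x
    rw [← hPE x, Matrix.mulVec_mulVec, hUE, Matrix.zero_mulVec]
  refine ⟨P, ?_, ?_⟩
  · obtain ⟨fwd, hfwd⟩ : ∃ fwd : (P × (Fin a → L)) →ₗ[L] (Fin b → L),
        fwd = P.subtype.coprod (Matrix.toLin' V₁) := ⟨_, rfl⟩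
    obtain ⟨bwd, hbwd⟩ : ∃ bwd : (Fin b → L) →ₗ[L] (P × (Fin a → L)),
        bwd = (LinearMap.codRestrict P (Matrix.toLin' E₀) hEP).prod (Matrix.toLin' U₀) := ⟨_, rfl⟩
    have hfwdapp : ∀ x y, fwd (x, y) = (x : Fin b → L) + V₁ *ᵥ y := by
      intro x y
      rw [hfwd, LinearMap.coprod_apply, Matrix.toLin'_apply]
      rfl
    have hbwd1 : ∀ z, ((bwd z).1 : Fin b → L) = E₀ *ᵥ z := by
      intro z
      rw [hbwd, ← Matrix.toLin'_apply]
      rfl
    have hbwd2 : ∀ z, (bwd z).2 = U₀ *ᵥ z := by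
      intro z
      rw [hbwd, ← Matrix.toLin'_apply]
      rfl
    refine ⟨LinearEquiv.ofLinear fwd bwd ?_ ?_⟩
    · apply LinearMap.ext
      intro z
      rw [LinearMap.comp_apply, LinearMap.id_apply]
      have h : bwd z = ((bwd z).1, (bwd z).2) := rfl
      rw [h, hfwdapp, hbwd1, hbwd2, Matrix.mulVec_mulVec, ← Matrix.add_mulVec, hEsum,
        Matrix.one_mulVec]
    · apply LinearMap.ext
      intro p
      obtain ⟨x, y⟩ := p
      rw [LinearMap.comp_apply, LinearMap.id_apply]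
      apply Prod.ext
      · apply Subtype.ext
        rw [hbwd1, hfwdapp, Matrix.mulVec_add, hPE, Matrix.mulVec_mulVec, hEV, Matrix.zero_mulVec,
          add_zero]
      · rw [hbwd2, hfwdapp, Matrix.mulVec_add, hPU, Matrix.mulVec_mulVec, hUV₁, Matrix.one_mulVec,
          zero_add]
  · obtain ⟨e1⟩ := nonempty_baseChange_range_equiv (L' := L') E₀ hEE
    rw [← hP, ← hφ] at e1
    -- second step
    have hG : D.Small 1 (Vm * dU) := (hVs.mul hU₀).mono (by omega)
    obtain ⟨g, hg⟩ := D.isUnit_one_sub_of_small' (Vm * dU) hG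
    obtain ⟨Gi, hGi⟩ : ∃ Gi : Matrix (Fin b) (Fin b) L', Gi = ↑g⁻¹ := ⟨_, rfl⟩
    obtain ⟨G, hGdef⟩ : ∃ G : Matrix (Fin b) (Fin b) L', G = ↑g := ⟨_, rfl⟩
    rw [← hGdef] at hg
    have hGGi : G * Gi = 1 := by rw [hGdef, hGi]; exact g.mul_inv
    have hGiG : Gi * G = 1 := by rw [hGdef, hGi]; exact g.inv_mul
    have hUG : Um * G = U₀.map φ := by
      rw [hg, Matrix.mul_sub, Matrix.mul_one, ← Matrix.mul_assoc, hUVm, Matrix.one_mul, hU₀']
    obtain ⟨E', hE'⟩ : ∃ E' : Matrix (Fin b) (Fin b) L', E' = E₀.map φ := ⟨_, rfl⟩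
    rw [← hE'] at e1
    have hE'eq : E' + V₁.map φ * U₀.map φ = 1 := by
      rw [hE', ← Matrix.map_mul, ← Matrix.map_add _ (map_add φ), hEsum, Matrix.map_one _ (map_zero φ) (map_one φ)]
    have hUE' : U₀.map φ * E' = 0 := by
      rw [hE', ← Matrix.map_mul, hUE, Matrix.map_zero _ (map_zero φ)]
    have hmem1 : ∀ v : LinearMap.range (Matrix.toLin' E'), U₀.map φ *ᵥ (v : Fin b → L') = 0 := by
      intro v
      obtain ⟨w, hw⟩ := v.2
      rw [← hw, Matrix.toLin'_apply, Matrix.mulVec_mulVec, hUE', Matrix.zero_mulVec]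
    have hmem2 : ∀ v : Fin b → L', U₀.map φ *ᵥ v = 0 → v ∈ LinearMap.range (Matrix.toLin' E') := by
      intro v hv
      refine ⟨v, ?_⟩
      have h := congrArg (fun X => X *ᵥ v) hE'eq
      simp only [Matrix.add_mulVec, Matrix.one_mulVec, ← Matrix.mulVec_mulVec, hv,
        Matrix.mulVec_zero, add_zero] at h
      rw [Matrix.toLin'_apply]
      exact h
    have hα : ∀ x : M', Matrix.toLin' Gi (ε (x, 0)) ∈ LinearMap.range (Matrix.toLin' E') := by
      intro x
      apply hmem2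
      rw [Matrix.toLin'_apply, ← hUG, ← Matrix.mulVec_mulVec, Matrix.mulVec_mulVec _ G Gi, hGGi,
        Matrix.one_mulVec, hUmv, LinearEquiv.symm_apply_apply]
    obtain ⟨α, hαdef⟩ : ∃ α : M' →ₗ[L'] LinearMap.range (Matrix.toLin' E'),
        α = LinearMap.codRestrict _ (Matrix.toLin' Gi ∘ₗ ε.toLinearMap ∘ₗ
          LinearMap.inl L' M' (Fin a → L')) hα := ⟨_, rfl⟩
    obtain ⟨β, hβdef⟩ : ∃ β : LinearMap.range (Matrix.toLin' E') →ₗ[L'] M',
        β = LinearMap.fst L' M' (Fin a → L') ∘ₗ ε.symm.toLinearMap ∘ₗ Matrix.toLin' G ∘ₗ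
          (LinearMap.range (Matrix.toLin' E')).subtype := ⟨_, rfl⟩
    have hαapp : ∀ x, ((α x : LinearMap.range (Matrix.toLin' E')) : Fin b → L') =
        Gi *ᵥ ε (x, 0) := by
      intro x
      rw [hαdef, ← Matrix.toLin'_apply]
      rfl
    have hβapp : ∀ v, β v = (ε.symm (G *ᵥ (v : Fin b → L'))).1 := by
      intro v
      rw [hβdef, ← Matrix.toLin'_apply]
      rfl
    have e2 : LinearMap.range (Matrix.toLin' E') ≃ₗ[L'] M' := by
      refine LinearEquiv.ofLinear β α ?_ ?_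
      · apply LinearMap.ext
        intro x
        rw [LinearMap.comp_apply, LinearMap.id_apply, hβapp, hαapp, Matrix.mulVec_mulVec, hGGi,
          Matrix.one_mulVec, LinearEquiv.symm_apply_apply]
      · apply LinearMap.ext
        intro v
        rw [LinearMap.comp_apply, LinearMap.id_apply]
        apply Subtype.ext
        rw [hαapp, hβapp]
        have h2 : (ε.symm (G *ᵥ (v : Fin b → L'))).2 = 0 := by
          rw [← hUmv, Matrix.mulVec_mulVec, hUG]
          exact hmem1 v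
        have h3 : ((ε.symm (G *ᵥ (v : Fin b → L'))).1, (0 : Fin a → L')) =
            ε.symm (G *ᵥ (v : Fin b → L')) := by
          apply Prod.ext
          · rfl
          · exact h2.symm
        rw [h3, LinearEquiv.apply_symm_apply, Matrix.mulVec_mulVec, hGiG, Matrix.one_mulVec]
    exact ⟨e1.trans e2⟩

end StablyFree

end ApproxData

end Groth.Agent.Lib.LaurApproxH1
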