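import Groth.Agent.Lib.LaurApprox2_helper1

/-!
# `R[t]_{1+tR[t]}[1/t] → R((t))`: approximation data, and descent of projective modules (helper1)
-/

set_option autoImplicit false
set_option maxHeartbeats 1000000
universe u v w

open TensorProduct Polynomial

namespace Groth.Agent.Lib.LaurApproxH1

section Laurent

variable (R : Type u) [CommRing R]

/-- `t^k` -/
noncomputable def tpow (k : ℤ) : LaurentSeries R := HahnSeries.single k (1 : R)

theorem tpow_add (j k : ℤ) : tpow R j * tpow R k = tpow R (j + k) := by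
  rw [tpow, tpow, HahnSeries.single_mul_single, one_mul]
  rfl

theorem tpow_zero : tpow R 0 = 1 := rfl

theorem tpow_natCast (n : ℕ) :
    tpow R (n : ℤ) = HahnSeries.ofPowerSeries ℤ R (PowerSeries.X ^ n) :=
  (HahnSeries.ofPowerSeries_X_pow n).symm

/-- the filtration `t^k R[[t]]` of `R((t))` -/
noncomputable def G (k : ℤ) : AddSubgroup (LaurentSeries R) where
  carrier := {x | ∃ g : PowerSeries R, tpow R k * HahnSeries.ofPowerSeries ℤ R g = x}
  add_mem' := by
    rintro _ _ ⟨g, rfl⟩ ⟨h, rfl⟩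
    exact ⟨g + h, by rw [map_add, mul_add]⟩
  zero_mem' := ⟨0, by rw [map_zero, mul_zero]⟩
  neg_mem' := by
    rintro _ ⟨g, rfl⟩
    exact ⟨-g, by rw [map_neg, mul_neg]⟩

theorem mem_G {k : ℤ} {x : LaurentSeries R} :
    x ∈ G R k ↔ ∃ g : PowerSeries R, tpow R k * HahnSeries.ofPowerSeries ℤ R g = x := Iff.rfl

theorem G_anti {j k : ℤ} (h : j ≤ k) : G R k ≤ G R j := by
  rintro _ ⟨g, rfl⟩
  obtain ⟨n, hn⟩ := Int.eq_ofNat_of_zero_le (sub_nonneg.mpr h)
  have hjk : j + (n : ℤ) = k := by omega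
  refine ⟨PowerSeries.X ^ n * g, ?_⟩
  rw [map_mul, ← tpow_natCast, ← mul_assoc, tpow_add, hjk]

theorem G_mul {j k : ℤ} {x y : LaurentSeries R} (hx : x ∈ G R j) (hy : y ∈ G R k) :
    x * y ∈ G R (j + k) := by
  obtain ⟨g, rfl⟩ := hx
  obtain ⟨h, rfl⟩ := hy
  refine ⟨g * h, ?_⟩
  rw [map_mul, ← tpow_add]
  ring

theorem one_mem_G : (1 : LaurentSeries R) ∈ G R 0 :=
  ⟨1, by rw [map_one, mul_one, tpow_zero]⟩

theorem exists_mem_G (x : LaurentSeries R) : ∃ k, x ∈ G R k :=
  ⟨x.order, x.powerSeriesPart, LaurentSeries.single_order_mul_powerSeriesPart x⟩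

theorem exists_nat_mem_G (x : LaurentSeries R) : ∃ (n : ℕ) (g : PowerSeries R),
    tpow R (-(n : ℤ)) * HahnSeries.ofPowerSeries ℤ R g = x := by
  obtain ⟨k, hk⟩ := exists_mem_G R x
  have h := G_anti R (j := -((-k).toNat : ℤ)) (k := k)
    (by have := Int.self_le_toNat (-k); omega) hk
  exact ⟨(-k).toNat, h⟩

theorem isUnit_one_sub_of_mem_G {z : LaurentSeries R} (hz : z ∈ G R 1) : IsUnit (1 - z) := by
  obtain ⟨g, rfl⟩ := hz
  have h1 : tpow R 1 = HahnSeries.ofPowerSeries ℤ R PowerSeries.X :=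
    HahnSeries.ofPowerSeries_X.symm
  have h2 : (1 : LaurentSeries R) - tpow R 1 * HahnSeries.ofPowerSeries ℤ R g =
      HahnSeries.ofPowerSeries ℤ R (1 - PowerSeries.X * g) := by
    rw [map_sub, map_one, map_mul, h1]
  rw [h2]
  apply IsUnit.map
  rw [PowerSeries.isUnit_iff_constantCoeff]
  simp

end Laurent

section Loc

variable {R : Type u} [CommRing R]

theorem exists_eq_X_pow_mul {s : R[X]}
    (hs : s ∈ Submonoid.closure ({f : R[X] | f.coeff 0 = 1} ∪ {X})) :
    ∃ (k : ℕ) (u : R[X]), u.coeff 0 = 1 ∧ s = X ^ k * u := by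
  induction hs using Submonoid.closure_induction with
  | mem x hx =>
    rcases hx with hx | hx
    · exact ⟨0, x, hx, by rw [pow_zero, one_mul]⟩
    · rw [Set.mem_singleton_iff] at hx
      exact ⟨1, 1, by simp, by rw [hx, pow_one, mul_one]⟩
  | one => exact ⟨0, 1, by simp, by simp⟩
  | mul x y _ _ hx hy =>
    obtain ⟨j, u, hu, rfl⟩ := hx
    obtain ⟨k, v, hv, rfl⟩ := hy
    exact ⟨j + k, u * v, by rw [Polynomial.mul_coeff_zero, hu, hv, one_mul], by ring⟩

variable (L : Type u) [CommRing L] [Algebra R[X] L]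
  [IsLocalization (Submonoid.closure ({f : R[X] | f.coeff 0 = 1} ∪ {X})) L]
  (L' : Type u) [CommRing L'] [Algebra L L'] (e : L' ≃+* LaurentSeries R)
  (he : ∀ p : R[X], e (algebraMap L L' (algebraMap R[X] L p)) =
    HahnSeries.ofPowerSeries ℤ R (Polynomial.coeToPowerSeries.ringHom p))

include he in
theorem he' (p : R[X]) : e (algebraMap L L' (algebraMap R[X] L p)) =
    HahnSeries.ofPowerSeries ℤ R (p : PowerSeries R) := by
  rw [he, Polynomial.coeToPowerSeries.ringHom_apply]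

include he in
theorem dense_aux (x : L') (c : ℤ) : ∃ y : L, e (x - algebraMap L L' y) ∈ G R c := by
  obtain ⟨n₀, g, hg⟩ := exists_nat_mem_G R (e x)
  obtain ⟨n, hn⟩ : ∃ n : ℕ, n = (c + n₀).toNat := ⟨_, rfl⟩
  obtain ⟨g', hg'⟩ : PowerSeries.X ^ n ∣ g - ((PowerSeries.trunc n g : R[X]) : PowerSeries R) := by
    rw [PowerSeries.X_pow_dvd_iff]
    intro m hm
    rw [map_sub, Polynomial.coeff_coe, PowerSeries.coeff_trunc, if_pos hm, sub_self]
  have hX1 : (X : R[X]) ∈ Submonoid.closure ({f : R[X] | f.coeff 0 = 1} ∪ {X}) :=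
    Submonoid.subset_closure (Set.mem_union_right _ rfl)
  have hXS : (X : R[X]) ^ n₀ ∈ Submonoid.closure ({f : R[X] | f.coeff 0 = 1} ∪ {X}) :=
    pow_mem hX1 n₀
  obtain ⟨y, hydef⟩ : ∃ y : L, y = IsLocalization.mk' L (PowerSeries.trunc n g)
      (⟨X ^ n₀, hXS⟩ : Submonoid.closure ({f : R[X] | f.coeff 0 = 1} ∪ {X})) := ⟨_, rfl⟩
  refine ⟨y, ?_⟩
  have hy : e (algebraMap L L' y) * tpow R n₀ =
      HahnSeries.ofPowerSeries ℤ R ((PowerSeries.trunc n g : R[X]) : PowerSeries R) := by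
    have h := IsLocalization.mk'_spec L (PowerSeries.trunc n g)
      (⟨X ^ n₀, hXS⟩ : Submonoid.closure ({f : R[X] | f.coeff 0 = 1} ∪ {X}))
    rw [← hydef] at h
    have h2 := congrArg (fun z => e (algebraMap L L' z)) h
    simp only [] at h2
    rw [map_mul (algebraMap L L'), map_mul e, he' L L' e he (X ^ n₀),
      he' L L' e he (PowerSeries.trunc n g), Polynomial.coe_pow, Polynomial.coe_X,
      ← tpow_natCast] at h2
    exact h2
  have hy' : e (algebraMap L L' y) = tpow R (-(n₀ : ℤ)) *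
      HahnSeries.ofPowerSeries ℤ R ((PowerSeries.trunc n g : R[X]) : PowerSeries R) := by
    rw [← hy, mul_comm (e _), ← mul_assoc, tpow_add, neg_add_cancel, tpow_zero, one_mul]
  rw [map_sub, ← hg, hy', ← mul_sub, ← map_sub, hg', map_mul, ← tpow_natCast, ← mul_assoc,
    tpow_add]
  refine G_anti R ?_ ⟨g', rfl⟩
  have := Int.self_le_toNat (c + n₀)
  omega

include he in
theorem unit_aux (y : L) (hy : e (algebraMap L L' y) ∈ G R 1) : IsUnit (1 - y) := by
  obtain ⟨p, ⟨s, hs⟩, rfl⟩ := IsLocalization.exists_mk'_eq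
    (Submonoid.closure ({f : R[X] | f.coeff 0 = 1} ∪ {X})) y
  obtain ⟨k, u, hu, rfl⟩ := exists_eq_X_pow_mul hs
  obtain ⟨g, hg⟩ := hy
  have h1 := IsLocalization.mk'_spec L p
    (⟨X ^ k * u, hs⟩ : Submonoid.closure ({f : R[X] | f.coeff 0 = 1} ∪ {X}))
  have h2 := congrArg (fun z => e (algebraMap L L' z)) h1
  simp only [] at h2
  rw [map_mul (algebraMap L L'), map_mul e, he' L L' e he (X ^ k * u), he' L L' e he p, ← hg,
    Polynomial.coe_mul, Polynomial.coe_pow, Polynomial.coe_X] at h2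
  have h3 : (p : PowerSeries R) = PowerSeries.X ^ (k + 1) * (g * (u : PowerSeries R)) := by
    apply HahnSeries.ofPowerSeries_injective (Γ := ℤ)
    rw [← h2, map_mul, map_mul, map_mul, ← tpow_natCast, ← tpow_natCast]
    have h4 : tpow R ((k + 1 : ℕ) : ℤ) = tpow R 1 * tpow R (k : ℤ) := by
      rw [tpow_add]
      congr 1
      push_cast
      ring
    rw [h4]
    ring
  have h5 : X ^ (k + 1) ∣ p := by
    rw [Polynomial.X_pow_dvd_iff]
    intro d hd
    have h6 := congrArg (PowerSeries.coeff d) h3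
    rw [Polynomial.coeff_coe] at h6
    rw [h6]
    exact (PowerSeries.X_pow_dvd_iff.mp ⟨_, rfl⟩) d hd
  obtain ⟨p', rfl⟩ := h5
  have h7 : (1 - IsLocalization.mk' L (X ^ (k + 1) * p')
      (⟨X ^ k * u, hs⟩ : Submonoid.closure ({f : R[X] | f.coeff 0 = 1} ∪ {X}))) *
      algebraMap R[X] L (X ^ k * u) = algebraMap R[X] L (X ^ k * (u - X * p')) := by
    rw [sub_mul, one_mul, h1, ← map_sub]
    congr 1
    ring
  have h8 : X ^ k * (u - X * p') ∈ Submonoid.closure ({f : R[X] | f.coeff 0 = 1} ∪ {X}) := by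
    have hX1 : (X : R[X]) ∈ Submonoid.closure ({f : R[X] | f.coeff 0 = 1} ∪ {X}) :=
      Submonoid.subset_closure (Set.mem_union_right _ rfl)
    apply mul_mem (pow_mem hX1 k)
    apply Submonoid.subset_closure
    apply Set.mem_union_left
    show (u - X * p').coeff 0 = 1
    rw [Polynomial.coeff_sub, hu, Polynomial.mul_coeff_zero, Polynomial.coeff_X_zero, zero_mul,
      sub_zero]
  have h9 : IsUnit (algebraMap R[X] L (X ^ k * (u - X * p'))) :=
    IsLocalization.map_units L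
      (⟨_, h8⟩ : Submonoid.closure ({f : R[X] | f.coeff 0 = 1} ∪ {X}))
  rw [← h7] at h9
  exact isUnit_of_mul_isUnit_left h9

/-- the approximation data of `R[t]_{1+tR[t]}[1/t] → R((t))` -/
noncomputable def approxData : ApproxData L L' where
  F := fun k => (G R k).comap e.toRingHom.toAddMonoidHom
  anti := fun h => AddSubgroup.comap_mono (G_anti R h)
  mul_mem := fun {j k x y} hx hy => by
    show e (x * y) ∈ G R (j + k)
    rw [map_mul]
    exact G_mul R hx hy
  one_mem := by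
    show e 1 ∈ G R 0
    rw [map_one]
    exact one_mem_G R
  exists_mem := fun x => exists_mem_G R (e x)
  dense := fun x c => dense_aux L L' e he x c
  unit_of_small := fun y hy => unit_aux L L' e he y hy
  unit_of_small' := fun z hz => by
    have h : IsUnit (1 - e z) := isUnit_one_sub_of_mem_G R hz
    have h2 : 1 - z = e.symm (1 - e z) := by
      rw [map_sub, map_one, RingEquiv.symm_apply_apply]
    rw [h2]
    exact h.map e.symm

include he in
theorem main15759 :
    (∀ (M N : Type u) [AddCommGroup M] [Module L M] [Module.Finite L M] [Module.Projective L M]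
        [AddCommGroup N] [Module L N] [Module.Finite L N] [Module.Projective L N],
        Nonempty (L' ⊗[L] M ≃ₗ[L'] L' ⊗[L] N) → Nonempty (M ≃ₗ[L] N)) ∧
    (∀ (M' : Type u) [AddCommGroup M'] [Module L' M'] [Module.Finite L' M'],
        (∃ n m : ℕ, Nonempty ((M' × (Fin n → L')) ≃ₗ[L'] (Fin m → L'))) →
        ∃ (M : Type u) (_ : AddCommGroup M) (_ : Module L M), Module.Finite L M ∧
          (∃ n m : ℕ, Nonempty ((M × (Fin n → L)) ≃ₗ[L] (Fin m → L))) ∧
          Nonempty (L' ⊗[L] M ≃ₗ[L'] M')) := by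
  have D := approxData L L' e he
  constructor
  · intro M N _ _ _ _ _ _ _ _ hψ
    obtain ⟨ψ⟩ := hψ
    exact D.nonempty_equiv_of_baseChange M N ψ
  · intro M' _ _ _ h
    obtain ⟨a, b, ⟨ε⟩⟩ := h
    obtain ⟨P, ⟨e1⟩, ⟨e2⟩⟩ := D.exists_descent_of_stablyFree M' a b ε
    refine ⟨P, inferInstance, inferInstance, ?_, ⟨a, b, ⟨e1⟩⟩, ⟨e2⟩⟩
    refine Module.Finite.of_surjective
      (LinearMap.fst L P (Fin a → L) ∘ₗ e1.symm.toLinearMap) ?_
    intro x
    exact ⟨e1 (x, 0), by rw [LinearMap.comp_apply, LinearEquiv.coe_coe,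
      LinearEquiv.symm_apply_apply]; rfl⟩

end Loc

end Groth.Agent.Lib.LaurApproxH1
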