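import Groth.Agent.Lib.LaurApprox3_helper1

/-!
# `R(s) → R((t))`, `s ↦ t⁻¹`: approximation data for the localization at monic polynomials (helper1)
-/

set_option autoImplicit false
set_option maxHeartbeats 1000000
universe u v w

open TensorProduct Polynomial

namespace Groth.Agent.Lib.LaurApproxH1

section MonicLoc

variable (R : Type u) [CommRing R]

/-- the submonoid of monic polynomials -/
def Mon : Submonoid R[X] where
  carrier := {f | f.Monic}
  mul_mem' := fun ha hb => Polynomial.Monic.mul ha hb
  one_mem' := Polynomial.monic_one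

theorem mem_Mon (f : R[X]) : f ∈ Mon R ↔ f.Monic := Iff.rfl

/-- `q(s) ↦ q(1/t)` -/
noncomputable def invEval : R[X] →+* LaurentSeries R :=
  Polynomial.eval₂RingHom (HahnSeries.C) (HahnSeries.single (-1 : ℤ) (1 : R))

theorem invEval_X : invEval R X = tpow R (-1) := by
  simp [invEval, tpow]

theorem invEval_C (a : R) : invEval R (C a) = HahnSeries.C a := by
  simp [invEval]

theorem tpow_neg_one_pow (n : ℕ) : tpow R (-1) ^ n = tpow R (-(n : ℤ)) := by
  induction n with
  | zero => simp [tpow_zero]
  | succ n ih =>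
    rw [pow_succ, ih, tpow_add]
    congr 1
    push_cast
    ring

theorem single_eq (k : ℤ) (a : R) :
    (HahnSeries.single k a : LaurentSeries R) = HahnSeries.C a * tpow R k := by
  rw [tpow, HahnSeries.C_apply, HahnSeries.single_mul_single, zero_add, mul_one]

theorem invEval_monomial (i : ℕ) (a : R) :
    invEval R (monomial i a) = HahnSeries.single (-(i : ℤ)) a := by
  rw [← C_mul_X_pow_eq_monomial, map_mul, invEval_C, map_pow, invEval_X, tpow_neg_one_pow,
    single_eq]

theorem ofPS_coe_monomial (i : ℕ) (a : R) :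
    HahnSeries.ofPowerSeries ℤ R ((monomial i a : R[X]) : PowerSeries R) =
      HahnSeries.single (i : ℤ) a := by
  rw [← C_mul_X_pow_eq_monomial, Polynomial.coe_mul, Polynomial.coe_C, Polynomial.coe_pow,
    Polynomial.coe_X, map_mul, HahnSeries.ofPowerSeries_C, ← tpow_natCast, single_eq]

theorem coeff_invEval (q : R[X]) (i : ℕ) : (invEval R q).coeff (-(i : ℤ)) = q.coeff i := by
  induction q using Polynomial.induction_on' with
  | add p q hp hq => rw [map_add, HahnSeries.coeff_add, hp, hq, Polynomial.coeff_add]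
  | monomial n a =>
    rw [invEval_monomial, HahnSeries.coeff_single, Polynomial.coeff_monomial]
    by_cases h : n = i
    · rw [if_pos h, if_pos (by rw [h])]
    · rw [if_neg h, if_neg (by omega)]

theorem coeff_eq_zero_of_mem_G {k : ℤ} {x : LaurentSeries R} (hx : x ∈ G R k) {j : ℤ}
    (hj : j < k) : x.coeff j = 0 := by
  obtain ⟨g, rfl⟩ := hx
  have h1 : j = (j - k) + k := by ring
  rw [h1, tpow, HahnSeries.coeff_single_mul_add, one_mul, HahnSeries.ofPowerSeries_apply,
    HahnSeries.embDomain_of_notMem_range]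
  intro h
  simp only [Set.mem_range, Nat.castOrderEmbedding_apply] at h
  obtain ⟨m, hm⟩ := h
  omega

/-- the reversed polynomial of degree `≤ m` -/
noncomputable def rev (m : ℕ) (q : R[X]) : R[X] :=
  ∑ i ∈ Finset.range (m + 1), monomial (m - i) (q.coeff i)

theorem invEval_eq_rev (m : ℕ) (q : R[X]) (hq : q.natDegree ≤ m) :
    invEval R q = tpow R (-(m : ℤ)) *
      HahnSeries.ofPowerSeries ℤ R ((rev R m q : R[X]) : PowerSeries R) := by
  conv_lhs => rw [Polynomial.as_sum_range' q (m + 1) (Nat.lt_succ_of_le hq)]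
  rw [map_sum, rev, ← Polynomial.coeToPowerSeries.ringHom_apply, map_sum, map_sum,
    Finset.mul_sum]
  apply Finset.sum_congr rfl
  intro i hi
  rw [Finset.mem_range] at hi
  rw [invEval_monomial, Polynomial.coeToPowerSeries.ringHom_apply, ofPS_coe_monomial, tpow,
    HahnSeries.single_mul_single, one_mul]
  congr 1
  have : i ≤ m := by omega
  rw [Nat.cast_sub this]
  ring

theorem rev_coeff_zero (m : ℕ) (q : R[X]) : (rev R m q).coeff 0 = q.coeff m := by
  rw [rev, Polynomial.finset_sum_coeff]
  rw [Finset.sum_eq_single m]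
  · rw [Nat.sub_self, Polynomial.coeff_monomial, if_pos rfl]
  · intro i hi him
    rw [Finset.mem_range] at hi
    rw [Polynomial.coeff_monomial, if_neg (by omega)]
  · intro h
    exact absurd (Finset.mem_range.mpr (Nat.lt_succ_self m)) h

theorem invEval_mem_G (m : ℕ) (q : R[X]) (hq : q.natDegree ≤ m) :
    invEval R q ∈ G R (-(m : ℤ)) :=
  ⟨_, (invEval_eq_rev R m q hq).symm⟩

theorem isUnit_invEval_of_monic (f : R[X]) (hf : f.Monic) : IsUnit (invEval R f) := by
  rw [invEval_eq_rev R f.natDegree f le_rfl]
  apply IsUnit.mul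
  · rw [isUnit_iff_exists_inv]
    exact ⟨tpow R (f.natDegree : ℤ), by rw [tpow_add, neg_add_cancel, tpow_zero]⟩
  · apply IsUnit.map
    rw [PowerSeries.isUnit_iff_constantCoeff, ← PowerSeries.coeff_zero_eq_constantCoeff_apply,
      Polynomial.coeff_coe, rev_coeff_zero, hf.coeff_natDegree]
    exact isUnit_one

theorem trunc_eq_sum (m : ℕ) (g : PowerSeries R) :
    PowerSeries.trunc m g = ∑ i ∈ Finset.range m, monomial i (PowerSeries.coeff i g) := by
  ext j
  rw [PowerSeries.coeff_trunc, Polynomial.finset_sum_coeff]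
  simp only [Polynomial.coeff_monomial, Finset.sum_ite_eq', Finset.mem_range]

/-- the polynomial in `s` with `q(1/t) = t^{-m} * (g truncated at m)` -/
noncomputable def revTrunc (m : ℕ) (g : PowerSeries R) : R[X] :=
  ∑ i ∈ Finset.range m, monomial (m - i) (PowerSeries.coeff i g)

theorem invEval_revTrunc (m : ℕ) (g : PowerSeries R) :
    invEval R (revTrunc R m g) = tpow R (-(m : ℤ)) *
      HahnSeries.ofPowerSeries ℤ R ((PowerSeries.trunc m g : R[X]) : PowerSeries R) := by
  rw [trunc_eq_sum, revTrunc, map_sum, ← Polynomial.coeToPowerSeries.ringHom_apply, map_sum,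
    map_sum, Finset.mul_sum]
  apply Finset.sum_congr rfl
  intro i hi
  rw [Finset.mem_range] at hi
  rw [invEval_monomial, Polynomial.coeToPowerSeries.ringHom_apply, ofPS_coe_monomial, tpow,
    HahnSeries.single_mul_single, one_mul]
  congr 1
  have : i ≤ m := by omega
  rw [Nat.cast_sub this]
  ring

variable {R}
variable (At : Type u) [CommRing At] [Algebra R[X] At] [IsLocalization (Mon R) At]
  (L' : Type u) [CommRing L'] [Algebra At L'] (e : L' ≃+* LaurentSeries R)
  (he : ∀ q : R[X], e (algebraMap At L' (algebraMap R[X] At q)) = invEval R q)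

include he in
theorem dense_mon (x : L') (c : ℤ) : ∃ y : At, e (x - algebraMap At L' y) ∈ G R c := by
  obtain ⟨n₀, g, hg⟩ := exists_nat_mem_G R (e x)
  obtain ⟨n, hn⟩ : ∃ n : ℕ, n = (c + n₀).toNat := ⟨_, rfl⟩
  obtain ⟨g', hg'⟩ : PowerSeries.X ^ n ∣ g - ((PowerSeries.trunc n g : R[X]) : PowerSeries R) := by
    rw [PowerSeries.X_pow_dvd_iff]
    intro m hm
    rw [map_sub, Polynomial.coeff_coe, PowerSeries.coeff_trunc, if_pos hm, sub_self]
  have hXS : (X : R[X]) ^ n ∈ Mon R := Polynomial.monic_X_pow n
  obtain ⟨y, hydef⟩ : ∃ y : At, y = IsLocalization.mk' At (X ^ n₀ * revTrunc R n g)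
      (⟨X ^ n, hXS⟩ : Mon R) := ⟨_, rfl⟩
  refine ⟨y, ?_⟩
  have hy : e (algebraMap At L' y) * tpow R (-(n : ℤ)) = tpow R (-(n₀ : ℤ)) * (tpow R (-(n : ℤ)) *
      HahnSeries.ofPowerSeries ℤ R ((PowerSeries.trunc n g : R[X]) : PowerSeries R)) := by
    have h := IsLocalization.mk'_spec At (X ^ n₀ * revTrunc R n g) (⟨X ^ n, hXS⟩ : Mon R)
    rw [← hydef] at h
    have h2 := congrArg (fun z => e (algebraMap At L' z)) h
    simp only [] at h2
    rw [map_mul (algebraMap At L'), map_mul e, he (X ^ n), he (X ^ n₀ * revTrunc R n g), map_mul,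
      map_pow, map_pow, invEval_X, tpow_neg_one_pow, tpow_neg_one_pow, invEval_revTrunc] at h2
    exact h2
  have hy' : e (algebraMap At L' y) = tpow R (-(n₀ : ℤ)) *
      HahnSeries.ofPowerSeries ℤ R ((PowerSeries.trunc n g : R[X]) : PowerSeries R) := by
    have h3 : e (algebraMap At L' y) = e (algebraMap At L' y) * tpow R (-(n : ℤ)) * tpow R n := by
      rw [mul_assoc, tpow_add, neg_add_cancel, tpow_zero, mul_one]
    rw [h3, hy]
    have h4 : tpow R (-(n : ℤ)) * tpow R (n : ℤ) = 1 := by
      rw [tpow_add, neg_add_cancel, tpow_zero]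
    calc tpow R (-(n₀ : ℤ)) * (tpow R (-(n : ℤ)) *
          HahnSeries.ofPowerSeries ℤ R ((PowerSeries.trunc n g : R[X]) : PowerSeries R)) * tpow R n
        = tpow R (-(n₀ : ℤ)) *
          HahnSeries.ofPowerSeries ℤ R ((PowerSeries.trunc n g : R[X]) : PowerSeries R) *
            (tpow R (-(n : ℤ)) * tpow R (n : ℤ)) := by ring
      _ = _ := by rw [h4, mul_one]
  rw [map_sub, ← hg, hy', ← mul_sub, ← map_sub, hg', map_mul, ← tpow_natCast, ← mul_assoc,
    tpow_add]
  refine G_anti R ?_ ⟨g', rfl⟩
  have := Int.self_le_toNat (c + n₀)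
  omega

include he in
theorem unit_mon (y : At) (hy : e (algebraMap At L' y) ∈ G R 1) : IsUnit (1 - y) := by
  rcases subsingleton_or_nontrivial R with hR | hR
  · haveI : Subsingleton At := by
      have h01 : (0 : At) = 1 := by
        rw [← map_zero (algebraMap R[X] At), ← map_one (algebraMap R[X] At)]
        congr 1
        exact Subsingleton.elim _ _
      exact subsingleton_of_zero_eq_one h01
    exact isUnit_of_subsingleton _
  obtain ⟨q, ⟨f, hf⟩, rfl⟩ := IsLocalization.exists_mk'_eq (Mon R) y
  have hfm : f.Monic := hf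
  have h1 := IsLocalization.mk'_spec At q (⟨f, hf⟩ : Mon R)
  have h2 := congrArg (fun z => e (algebraMap At L' z)) h1
  simp only [] at h2
  rw [map_mul (algebraMap At L'), map_mul e, he f, he q] at h2
  have h3 : invEval R q ∈ G R (1 + -(f.natDegree : ℤ)) := by
    rw [← h2]
    exact G_mul R hy (invEval_mem_G R f.natDegree f le_rfl)
  have h4 : q.degree < f.degree := by
    rw [Polynomial.degree_eq_natDegree hfm.ne_zero, Polynomial.degree_lt_iff_coeff_zero]
    intro m hm
    rw [← coeff_invEval]
    exact coeff_eq_zero_of_mem_G R h3 (by omega)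
  have h5 : (f - q).Monic := hfm.sub_of_left h4
  have h6 : (1 - IsLocalization.mk' At q (⟨f, hf⟩ : Mon R)) * algebraMap R[X] At f =
      algebraMap R[X] At (f - q) := by
    rw [sub_mul, one_mul, h1, map_sub]
  have h7 : IsUnit (algebraMap R[X] At (f - q)) :=
    IsLocalization.map_units At (⟨f - q, h5⟩ : Mon R)
  rw [← h6] at h7
  exact isUnit_of_mul_isUnit_left h7

/-- the approximation data of `R(s) → R((t))` -/
noncomputable def approxDataMon : ApproxData At L' where
  F := fun k => (G R k).comap e.toRingHom.toAddMonoidHom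
  anti := fun h => AddSubgroup.comap_mono (G_anti R h)
  mul_mem := fun {j k x y} hx hy => by
    show e (x * y) ∈ G R (j + k)
    rw [map_mul]
    exact G_mul R hx hy
  one_mem := by
    show e 1 ∈ G R 0
    rw [map_one]
    exact one_mem_G R
  exists_mem := fun x => exists_mem_G R (e x)
  dense := fun x c => dense_mon At L' e he x c
  unit_of_small := fun y hy => unit_mon At L' e he y hy
  unit_of_small' := fun z hz => by
    have h : IsUnit (1 - e z) := isUnit_one_sub_of_mem_G R hz
    have h2 : 1 - z = e.symm (1 - e z) := by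
      rw [map_sub, map_one, RingEquiv.symm_apply_apply]
    rw [h2]
    exact h.map e.symm

end MonicLoc

section Main

variable (R : Type u) [CommRing R]

/-- non-isomorphic finite projective `R`-modules stay non-isomorphic over `R((t))`, given the
same over `R(s)` -/
theorem main15754 (L : Type u) [CommRing L] [Algebra R L] (eL : L ≃ₐ[R] LaurentSeries R)
    (M N : Type u) [AddCommGroup M] [Module R M] [Module.Finite R M] [Module.Projective R M]
    [AddCommGroup N] [Module R N] [Module.Finite R N] [Module.Projective R N]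
    (e : L ⊗[R] M ≃ₗ[L] L ⊗[R] N)
    (H : ∀ (At : Type u) [CommRing At] [Algebra R[X] At] [IsLocalization (Mon R) At]
      [Algebra R At] [IsScalarTower R R[X] At],
      Nonempty ((At ⊗[R] M) ≃ₗ[At] (At ⊗[R] N)) → Nonempty (M ≃ₗ[R] N)) :
    Nonempty (M ≃ₗ[R] N) := by
  have hunits : ∀ f : Mon R, IsUnit ((eL.symm.toRingEquiv.toRingHom.comp (invEval R)) f) := by
    intro f
    exact (isUnit_invEval_of_monic R f.1 f.2).map eL.symm.toRingEquiv.toRingHom
  letI algL : Algebra (Localization (Mon R)) L :=
    (IsLocalization.lift (M := Mon R) (S := Localization (Mon R)) hunits).toAlgebra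
  have halg : ∀ z : Localization (Mon R), algebraMap (Localization (Mon R)) L z =
      IsLocalization.lift (M := Mon R) (S := Localization (Mon R)) hunits z := fun z => rfl
  have he : ∀ q : R[X], eL.toRingEquiv (algebraMap (Localization (Mon R)) L
      (algebraMap R[X] (Localization (Mon R)) q)) = invEval R q := by
    intro q
    rw [halg, IsLocalization.lift_eq]
    show eL (eL.symm (invEval R q)) = invEval R q
    rw [AlgEquiv.apply_symm_apply]
  have hst : ∀ r : R, algebraMap R L r =
      algebraMap (Localization (Mon R)) L (algebraMap R (Localization (Mon R)) r) := by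
    intro r
    rw [IsScalarTower.algebraMap_apply R R[X] (Localization (Mon R)), halg,
      IsLocalization.lift_eq]
    show algebraMap R L r = eL.symm (invEval R (C r))
    have hC : (HahnSeries.C r : LaurentSeries R) = algebraMap R (LaurentSeries R) r := by
      rw [HahnSeries.algebraMap_apply', ← HahnSeries.ofPowerSeries_C]
      rfl
    rw [invEval_C, hC]
    exact (eL.symm.commutes r).symm
  haveI : IsScalarTower R (Localization (Mon R)) L := IsScalarTower.of_algebraMap_eq hst
  have D := approxDataMon (Localization (Mon R)) L eL.toRingEquiv he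
  obtain ⟨ψ⟩ : Nonempty (L ⊗[Localization (Mon R)] (Localization (Mon R) ⊗[R] M) ≃ₗ[L]
      L ⊗[Localization (Mon R)] (Localization (Mon R) ⊗[R] N)) :=
    ⟨(TensorProduct.AlgebraTensorModule.cancelBaseChange R (Localization (Mon R)) L L M).trans
      (e.trans
        (TensorProduct.AlgebraTensorModule.cancelBaseChange R (Localization (Mon R)) L L N).symm)⟩
  have h1 := D.nonempty_equiv_of_baseChange (Localization (Mon R) ⊗[R] M)
    (Localization (Mon R) ⊗[R] N) ψ
  exact H (Localization (Mon R)) h1

end Main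

end Groth.Agent.Lib.LaurApproxH1
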