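import Mathlib

set_option autoImplicit false
universe u
open Finset PowerSeries

namespace Groth.Agent.Lib.LaurIdem

variable {R : Type u} [CommRing R]

theorem exc (I : Ideal R) (f : ℕ × ℕ → R) (A T : Finset (ℕ × ℕ)) (hT : T ⊆ A)
    (hI : ∀ p ∈ A, p ∉ T → f p ∈ I) : ∑ p ∈ A, f p - ∑ p ∈ T, f p ∈ I := by
  rw [← Finset.sum_sdiff hT, add_sub_cancel_right]
  exact I.sum_mem fun p hp => hI p (Finset.mem_sdiff.1 hp).1 (Finset.mem_sdiff.1 hp).2

section seq
variable (c : ℕ → R) (N : ℕ)
  (hc : ∀ n, ∑ p ∈ antidiagonal n, c p.1 * c p.2 = if N ≤ n then c (n - N) else 0)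
include hc

theorem low_nil : ∀ i, i < N → c i ∈ nilradical R := by
  intro i
  induction i using Nat.strong_induction_on with
  | _ i ih =>
    intro hi
    have h1 : (∑ p ∈ antidiagonal (i + i), c p.1 * c p.2)
        - ∑ p ∈ ({(i, i)} : Finset (ℕ × ℕ)), c p.1 * c p.2 ∈ nilradical R :=
      exc (nilradical R) (fun p => c p.1 * c p.2) _ _
        (Finset.singleton_subset_iff.2 (Finset.HasAntidiagonal.mem_antidiagonal.2 rfl)) (by
        intro p hp hpT
        rw [Finset.HasAntidiagonal.mem_antidiagonal] at hp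
        rw [Finset.mem_singleton] at hpT
        have : p.1 < i ∨ p.2 < i := by
          by_contra hcon
          push_neg at hcon
          exact hpT (Prod.ext (show p.1 = i by omega) (show p.2 = i by omega))
        rcases this with h | h
        · exact Ideal.mul_mem_right _ _ (ih _ h (h.trans hi))
        · exact Ideal.mul_mem_left _ _ (ih _ h (h.trans hi)))
    rw [hc, Finset.sum_singleton] at h1
    have h2 : (if N ≤ i + i then c (i + i - N) else 0) ∈ nilradical R := by
      split_ifs with h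
      · exact ih _ (by omega) (by omega)
      · exact Ideal.zero_mem _
    have h3 : c i * c i ∈ nilradical R := by
      have := Ideal.sub_mem _ h2 h1
      rwa [sub_sub_cancel] at this
    rw [mem_nilradical] at h3 ⊢
    rw [← pow_two] at h3
    exact h3.of_pow

theorem mid (J : Ideal R) (hJ : ∀ i, i < N → c i ∈ J) : c N - c N * c N ∈ J := by
  have h1 : (∑ p ∈ antidiagonal (N + N), c p.1 * c p.2)
      - ∑ p ∈ ({(N, N)} : Finset (ℕ × ℕ)), c p.1 * c p.2 ∈ J :=
    exc J (fun p => c p.1 * c p.2) _ _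
      (Finset.singleton_subset_iff.2 (Finset.HasAntidiagonal.mem_antidiagonal.2 rfl)) (by
      intro p hp hpT
      rw [Finset.HasAntidiagonal.mem_antidiagonal] at hp
      rw [Finset.mem_singleton] at hpT
      have : p.1 < N ∨ p.2 < N := by
        by_contra hcon
        push_neg at hcon
        exact hpT (Prod.ext (show p.1 = N by omega) (show p.2 = N by omega))
      rcases this with h | h
      · exact Ideal.mul_mem_right _ _ (hJ _ h)
      · exact Ideal.mul_mem_left _ _ (hJ _ h))
  rw [hc, Finset.sum_singleton, if_pos (Nat.le_add_right N N), Nat.add_sub_cancel] at h1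
  exact h1

theorem high (J : Ideal R) (hJ : ∀ i, i < N → c i ∈ J) : ∀ i, N < i → c i ∈ J := by
  have hmid := mid c N hc J hJ
  intro i
  induction i using Nat.strong_induction_on with
  | _ i ih =>
    intro hi
    have hne : ((N, i) : ℕ × ℕ) ≠ (i, N) := by
      intro h
      have := congrArg Prod.fst h
      simp only at this
      omega
    have h1 : (∑ p ∈ antidiagonal (N + i), c p.1 * c p.2)
        - ∑ p ∈ ({(N, i), (i, N)} : Finset (ℕ × ℕ)), c p.1 * c p.2 ∈ J :=
      exc J (fun p => c p.1 * c p.2) _ _ (by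
        intro p hp
        simp only [Finset.mem_insert, Finset.mem_singleton] at hp
        rcases hp with rfl | rfl
        · exact Finset.HasAntidiagonal.mem_antidiagonal.2 rfl
        · exact Finset.HasAntidiagonal.mem_antidiagonal.2 (Nat.add_comm i N)) (by
        intro p hp hpT
        rw [Finset.HasAntidiagonal.mem_antidiagonal] at hp
        simp only [Finset.mem_insert, Finset.mem_singleton, not_or] at hpT
        by_cases h : p.1 < N
        · exact Ideal.mul_mem_right _ _ (hJ _ h)
        by_cases h' : p.2 < N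
        · exact Ideal.mul_mem_left _ _ (hJ _ h')
        have h1N : p.1 ≠ N := fun e =>
          hpT.1 (Prod.ext (show p.1 = N from e) (show p.2 = i by omega))
        have h2N : p.2 ≠ N := fun e =>
          hpT.2 (Prod.ext (show p.1 = i by omega) (show p.2 = N from e))
        exact Ideal.mul_mem_right _ _ (ih _ (by omega) (by omega)))
    rw [hc, Finset.sum_pair hne, if_pos (Nat.le_add_right N i), Nat.add_sub_cancel_left] at h1
    have e : c i = (1 - 2 * c N) * (c i - (c N * c i + c i * c N))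
        + 4 * (c N - c N * c N) * c i := by ring
    rw [e]
    exact J.add_mem (J.mul_mem_left _ h1) (J.mul_mem_right _ (J.mul_mem_left _ hmid))

end seq

theorem coeffs_mul (I I' : Ideal R) (x y : R⟦X⟧) (hx : ∀ i, coeff i x ∈ I)
    (hy : ∀ i, coeff i y ∈ I') : ∀ i, coeff i (x * y) ∈ I * I' := by
  intro i
  rw [coeff_mul]
  exact Ideal.sum_mem _ fun p _ => Ideal.mul_mem_mul (hx _) (hy _)

theorem coeffs_pow (I : Ideal R) (x : R⟦X⟧) (hx : ∀ i, coeff i x ∈ I) (k : ℕ) :
    ∀ i, coeff i (x ^ k) ∈ I ^ k := by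
  induction k with
  | zero => intro i; simp
  | succ k ih =>
    rw [pow_succ, pow_succ]
    exact coeffs_mul _ _ _ _ ih hx

theorem core (a : R⟦X⟧) (N : ℕ) (h : a * a = X ^ N * a) :
    ∃ r : R, IsIdempotentElem r ∧ IsNilpotent (a - C r * X ^ N) := by
  classical
  obtain ⟨c, hcdef⟩ : ∃ c : ℕ → R, ∀ i, c i = coeff i a := ⟨_, fun _ => rfl⟩
  have hc : ∀ n, ∑ p ∈ antidiagonal n, c p.1 * c p.2 = if N ≤ n then c (n - N) else 0 := by
    intro n
    have := congrArg (coeff n) h
    rw [coeff_mul, coeff_X_pow_mul'] at this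
    simp only [hcdef]
    exact this
  obtain ⟨J, hJdef⟩ : ∃ J : Ideal R, J = Ideal.span ((Finset.range N).image c : Set R) :=
    ⟨_, rfl⟩
  have hJ : ∀ i, i < N → c i ∈ J := fun i hi => by
    rw [hJdef]
    exact Ideal.subset_span
      (Finset.mem_coe.2 (Finset.mem_image.2 ⟨i, Finset.mem_range.2 hi, rfl⟩))
  have hJle : J ≤ nilradical R := by
    rw [hJdef, Ideal.span_le]
    intro x hx
    obtain ⟨i, hi, rfl⟩ := Finset.mem_image.1 (Finset.mem_coe.1 hx)
    exact low_nil c N hc i (Finset.mem_range.1 hi)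
  have hfg : J.FG := ⟨(Finset.range N).image c, hJdef.symm⟩
  obtain ⟨k, hk⟩ := (Ideal.FG.isNilpotent_iff_le_nilradical hfg).2 hJle
  have hmid := mid c N hc J hJ
  have hhigh := high c N hc J hJ
  obtain ⟨r, hr, hr'⟩ := exists_isIdempotentElem_eq_of_ker_isNilpotent (Ideal.Quotient.mk J)
    (fun x hx => by
      rw [Ideal.mk_ker] at hx
      exact mem_nilradical.1 (hJle hx))
    (Ideal.Quotient.mk J (c N)) ⟨c N, rfl⟩ (by
      show Ideal.Quotient.mk J (c N) * Ideal.Quotient.mk J (c N) = Ideal.Quotient.mk J (c N)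
      rw [← map_mul, Ideal.Quotient.eq]
      have := J.neg_mem hmid
      rwa [neg_sub] at this)
  have hrN : c N - r ∈ J := by
    have h1 := Ideal.Quotient.eq.1 hr'
    have h2 := J.neg_mem h1
    rwa [neg_sub] at h2
  refine ⟨r, hr, k, ?_⟩
  have hd : ∀ i, coeff i (a - C r * X ^ N) ∈ J := by
    intro i
    rw [map_sub, coeff_C_mul_X_pow, ← hcdef]
    rcases lt_trichotomy i N with hi | hi | hi
    · rw [if_neg (by omega), sub_zero]; exact hJ i hi
    · subst hi; rw [if_pos rfl]; exact hrN
    · rw [if_neg (by omega), sub_zero]; exact hhigh i hi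
  ext i
  have := coeffs_pow J _ hd k i
  rw [hk] at this
  simpa using this

theorem main (R : Type u) [CommRing R] (e : LaurentSeries R) (he : IsIdempotentElem e) :
    ∃! r : R, IsIdempotentElem r ∧ HahnSeries.C r = e := by
  obtain ⟨φ, hφ⟩ : ∃ φ : PowerSeries R →+* LaurentSeries R,
      φ = algebraMap (PowerSeries R) (LaurentSeries R) := ⟨_, rfl⟩
  have hinj : Function.Injective φ := by
    rw [hφ, LaurentSeries.coe_algebraMap]
    exact HahnSeries.ofPowerSeries_injective
  obtain ⟨x, hea⟩ :=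
    IsLocalization.surj (Submonoid.powers (PowerSeries.X : PowerSeries R)) e
  obtain ⟨N, hN⟩ := (Submonoid.mem_powers_iff _ _).1 x.2.2
  have hea' : e * φ (PowerSeries.X ^ N) = φ x.1 := by
    rw [hN, hφ]; exact hea
  have hu : IsUnit (φ (PowerSeries.X ^ N)) := by
    rw [hN, hφ]; exact IsLocalization.map_units (LaurentSeries R) x.2
  have haa : x.1 * x.1 = PowerSeries.X ^ N * x.1 := by
    apply hinj
    rw [map_mul, map_mul, ← hea']
    calc e * φ (X ^ N) * (e * φ (X ^ N)) = (e * e) * φ (X ^ N) * φ (X ^ N) := by ring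
      _ = e * φ (X ^ N) * φ (X ^ N) := by rw [he.eq]
      _ = φ (X ^ N) * (e * φ (X ^ N)) := by ring
  obtain ⟨r, hr, k, hk⟩ := core x.1 N haa
  have hCr : φ (PowerSeries.C r) = HahnSeries.C r := by
    rw [hφ, LaurentSeries.coe_algebraMap, HahnSeries.ofPowerSeries_C]
  have hd : (e - HahnSeries.C r) * φ (PowerSeries.X ^ N)
      = φ (x.1 - PowerSeries.C r * PowerSeries.X ^ N) := by
    rw [map_sub, map_mul, hCr, sub_mul, hea']
  have hnil : IsNilpotent (e - HahnSeries.C r) := by
    refine ⟨k, ?_⟩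
    have h0 : ((e - HahnSeries.C r) * φ (PowerSeries.X ^ N)) ^ k = 0 := by
      rw [hd, ← map_pow, hk, map_zero]
    rw [mul_pow] at h0
    exact (hu.pow k).mul_left_eq_zero.1 h0
  have hCidem : IsIdempotentElem (HahnSeries.C r : LaurentSeries R) := by
    show HahnSeries.C r * HahnSeries.C r = HahnSeries.C r
    rw [← map_mul, hr.eq]
  have heq : e = HahnSeries.C r := eq_of_isNilpotent_sub_of_isIdempotentElem he hCidem hnil
  refine ⟨r, ⟨hr, heq.symm⟩, ?_⟩
  rintro r' ⟨_, hr'⟩
  exact HahnSeries.C_injective (hr'.trans heq)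

end Groth.Agent.Lib.LaurIdem
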