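import Mathlib

/-!
# Laurent1 (helper6): coefficient ideals in additive monoid algebras, monomial units over
domains, and the base-change identity `comapDomain ∘ mapDomain = mapDomain ∘ comapDomain`
for cartesian squares of index sets.
-/

set_option autoImplicit false
universe u v w

open AddMonoidAlgebra

namespace Groth.Agent.Lib.LaurentH6

section KL

variable {A : Type u} [CommRing A]

/-- The ideal of `A[G]` of elements all of whose coefficients lie in `I`. -/
noncomputable def KL (I : Ideal A) (G : Type v) [AddCommMonoid G] :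
    Ideal (AddMonoidAlgebra A G) :=
  RingHom.ker (mapRingHom G (Ideal.Quotient.mk I))

variable {G : Type v} [AddCommMonoid G] {H : Type w} [AddCommMonoid H]

theorem mem_KL {I : Ideal A} {x : AddMonoidAlgebra A G} :
    x ∈ KL I G ↔ ∀ m, x.coeff m ∈ I := by
  rw [KL, RingHom.mem_ker, ← coeff_eq_zero]
  constructor
  · intro h m
    have := DFunLike.congr_fun h m
    rw [coeff_mapRingHom] at this
    exact Ideal.Quotient.eq_zero_iff_mem.mp this
  · intro h
    ext m
    rw [coeff_mapRingHom]
    exact Ideal.Quotient.eq_zero_iff_mem.mpr (h m)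

theorem KL_mono {I J : Ideal A} (h : I ≤ J) : KL I G ≤ KL J G := by
  intro x hx
  rw [mem_KL] at hx ⊢
  exact fun m => h (hx m)

theorem eq_zero_of_mem_KL_bot {x : AddMonoidAlgebra A G} (hx : x ∈ KL (⊥ : Ideal A) G) :
    x = 0 := by
  rw [mem_KL] at hx
  rw [← coeff_eq_zero]
  ext m
  simpa using hx m

theorem single_mem_KL {I : Ideal A} (m : G) {r : A} (hr : r ∈ I) :
    (single m r : AddMonoidAlgebra A G) ∈ KL I G := by
  classical
  rw [mem_KL]
  intro m'
  rw [coeff_single, Finsupp.single_apply]
  split_ifs
  · exact hr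
  · exact I.zero_mem

theorem mul_mem_KL_mul {I J : Ideal A} {x y : AddMonoidAlgebra A G} (hx : x ∈ KL I G)
    (hy : y ∈ KL J G) : x * y ∈ KL (I * J) G := by
  rw [mul_def]
  rw [mem_KL] at hx hy
  refine Ideal.sum_mem _ fun a _ => Ideal.sum_mem _ fun b _ => ?_
  exact single_mem_KL _ (Ideal.mul_mem_mul (hx a) (hy b))

theorem pow_mem_KL_pow {I : Ideal A} {x : AddMonoidAlgebra A G} (hx : x ∈ KL I G) (n : ℕ) :
    x ^ n ∈ KL (I ^ n) G := by
  induction n with
  | zero =>
    rw [mem_KL]
    intro m
    simp
  | succ n ih =>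
    rw [pow_succ, pow_succ]
    exact mul_mem_KL_mul ih hx

theorem isNilpotent_of_mem_KL {I : Ideal A} {n : ℕ} (hI : I ^ n = ⊥)
    {x : AddMonoidAlgebra A G} (hx : x ∈ KL I G) : IsNilpotent x := by
  refine ⟨n, eq_zero_of_mem_KL_bot ?_⟩
  rw [← hI]
  exact pow_mem_KL_pow hx n

theorem map_mem_KL {I : Ideal A} (f : G →+ H) {x : AddMonoidAlgebra A G} (hx : x ∈ KL I G) :
    mapDomainRingHom A f x ∈ KL I H := by
  rw [KL, RingHom.mem_ker] at hx ⊢
  have := RingHom.congr_fun (mapRingHom_comp_mapDomainRingHom (Ideal.Quotient.mk I) f) x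
  rw [RingHom.comp_apply, RingHom.comp_apply] at this
  rw [this, hx, map_zero]

theorem comap_mem_KL {I : Ideal A} (f : G → H) (hf : Function.Injective f)
    {x : AddMonoidAlgebra A H} (hx : x ∈ KL I H) : comapDomain f hf x ∈ KL I G := by
  rw [mem_KL] at hx ⊢
  intro m
  rw [coeff_comapDomain, Finsupp.comapDomain_apply]
  exact hx _

end KL

section Cartesian

variable {A : Type u} [Semiring A] {P X Y Z : Type*}

theorem comapDomain_single_of_notMem_range {f : X → Z} (hf : Function.Injective f) {z : Z}
    (hz : z ∉ Set.range f) (r : A) :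
    comapDomain f hf (single z r : AddMonoidAlgebra A Z) = 0 := by
  classical
  ext x
  rw [coeff_comapDomain, Finsupp.comapDomain_apply, coeff_single, Finsupp.single_apply]
  rw [if_neg]
  · simp
  · intro h
    exact hz ⟨x, h.symm⟩

/-- base change for a cartesian square of index sets -/
theorem comapDomain_mapDomain_of_cartesian (p : P → X) (hp : Function.Injective p) (q : P → Y)
    (f : X → Z) (g : Y → Z) (hg : Function.Injective g) (comm : ∀ c, f (p c) = g (q c))
    (cart : ∀ x y, f x = g y → ∃ c, p c = x ∧ q c = y) (ν : AddMonoidAlgebra A X) :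
    comapDomain g hg (mapDomain f ν) = mapDomain q (comapDomain p hp ν) := by
  induction ν using AddMonoidAlgebra.induction_linear with
  | zero => simp
  | add x y hx hy => rw [mapDomain_add, comapDomain_add, hx, hy, comapDomain_add, mapDomain_add]
  | single x r =>
    rw [mapDomain_single]
    by_cases hx : x ∈ Set.range p
    · obtain ⟨c, rfl⟩ := hx
      rw [comm c, comapDomain_single_map, comapDomain_single_map, mapDomain_single]
    · rw [comapDomain_single_of_notMem_range hp hx]
      rw [comapDomain_single_of_notMem_range hg, mapDomain_zero]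
      rintro ⟨y, hy⟩
      obtain ⟨c, hc, -⟩ := cart x y hy.symm
      exact hx ⟨c, hc⟩

end Cartesian

section Monomial

variable {D : Type u} [CommRing D] [IsDomain D] {G : Type v} [AddCommGroup G] [TwoUniqueSums G]

/-- over a domain, a unit of `D[G]` (with `G` having two unique sums) is a monomial -/
theorem exists_single_of_mul_eq_one {x y : AddMonoidAlgebra D G} (h : x * y = 1) :
    ∃ (m : G) (c : D), x = single m c := by
  classical
  have hx0 : x ≠ 0 := by
    rintro rfl
    rw [zero_mul] at h
    exact zero_ne_one h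
  have hy0 : y ≠ 0 := by
    rintro rfl
    rw [mul_zero] at h
    exact zero_ne_one h
  have hxs : x.coeff.support.Nonempty := by
    rw [Finsupp.support_nonempty_iff]
    simpa using hx0
  have hys : y.coeff.support.Nonempty := by
    rw [Finsupp.support_nonempty_iff]
    simpa using hy0
  have hcard : ¬ 1 < x.coeff.support.card * y.coeff.support.card := by
    intro hlt
    obtain ⟨p1, hp1, p2, hp2, hne, hu1, hu2⟩ := TwoUniqueSums.uniqueAdd_of_one_lt_card hlt
    rw [Finset.mem_product] at hp1 hp2
    have key : ∀ p : G × G, p.1 ∈ x.coeff.support → p.2 ∈ y.coeff.support →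
        UniqueAdd x.coeff.support y.coeff.support p.1 p.2 → p.1 + p.2 = 0 := by
      intro p h1 h2 hu
      have hc := coeff_mul_add_of_uniqueAdd hu
      rw [h, one_def, coeff_single, Finsupp.single_apply] at hc
      by_contra hne0
      rw [if_neg (fun h0 => hne0 h0.symm)] at hc
      rw [Finsupp.mem_support_iff] at h1 h2
      exact mul_ne_zero h1 h2 hc.symm
    have e1 := key p1 hp1.1 hp1.2 hu1
    have e2 := key p2 hp2.1 hp2.2 hu2
    have := hu1 hp2.1 hp2.2 (e2.trans e1.symm)
    exact hne (Prod.ext this.1.symm this.2.symm)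
  have hx1 : x.coeff.support.card = 1 := by
    have h1 := Finset.card_pos.mpr hxs
    have h2 := Finset.card_pos.mpr hys
    rw [not_lt] at hcard
    rcases Nat.eq_or_lt_of_le h1 with h | h
    · exact h.symm
    · exfalso
      have : 2 ≤ x.coeff.support.card * y.coeff.support.card :=
        le_trans (by omega) (Nat.mul_le_mul h h2)
      omega
  obtain ⟨m, -, hm⟩ := Finsupp.card_support_eq_one.mp hx1
  refine ⟨m, x.coeff m, ?_⟩
  rw [← coeff_inj, coeff_single]
  exact hm

end Monomial

end Groth.Agent.Lib.LaurentH6
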