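import Mathlib
import Groth.Agent.Lib.Laurent1_helper6

/-!
# Laurent2 (helper6): the cosimplicial ring of Laurent polynomial rings in low degrees:
coface maps, cosimplicial identities, the coboundary / cocycle maps on unit groups and the
"one-step" nilpotent approximation lemma.
-/

set_option autoImplicit false
universe u

open AddMonoidAlgebra

namespace Groth.Agent.Lib.LaurentH6

/-- the additive map attached to an integer matrix -/
abbrev mh {m n : ℕ} (M : Matrix (Fin n) (Fin m) ℤ) : (Fin m → ℤ) →+ (Fin n → ℤ) :=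
  (Matrix.mulVecLin M).toAddMonoidHom

abbrev P0 : Matrix (Fin 3) (Fin 2) ℤ := !![0, 0; 1, 0; 0, 1]
abbrev P1 : Matrix (Fin 3) (Fin 2) ℤ := !![1, 0; 1, 0; 0, 1]
abbrev P2 : Matrix (Fin 3) (Fin 2) ℤ := !![1, 0; 0, 1; 0, 1]
abbrev P3 : Matrix (Fin 3) (Fin 2) ℤ := !![1, 0; 0, 1; 0, 0]
abbrev D0 : Matrix (Fin 2) (Fin 1) ℤ := !![0; 1]
abbrev D1 : Matrix (Fin 2) (Fin 1) ℤ := !![1; 1]
abbrev D2 : Matrix (Fin 2) (Fin 1) ℤ := !![1; 0]

theorem mh_P0 (v : Fin 2 → ℤ) : mh P0 v = ![0, v 0, v 1] := by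
  ext i; fin_cases i <;> simp [mh, Matrix.mulVec, dotProduct, Fin.sum_univ_succ]
theorem mh_P1 (v : Fin 2 → ℤ) : mh P1 v = ![v 0, v 0, v 1] := by
  ext i; fin_cases i <;> simp [mh, Matrix.mulVec, dotProduct, Fin.sum_univ_succ]
theorem mh_P2 (v : Fin 2 → ℤ) : mh P2 v = ![v 0, v 1, v 1] := by
  ext i; fin_cases i <;> simp [mh, Matrix.mulVec, dotProduct, Fin.sum_univ_succ]
theorem mh_P3 (v : Fin 2 → ℤ) : mh P3 v = ![v 0, v 1, 0] := by
  ext i; fin_cases i <;> simp [mh, Matrix.mulVec, dotProduct, Fin.sum_univ_succ]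
theorem mh_D0 (c : Fin 1 → ℤ) : mh D0 c = ![0, c 0] := by
  ext i; fin_cases i <;> simp [mh, Matrix.mulVec, dotProduct]
theorem mh_D1 (c : Fin 1 → ℤ) : mh D1 c = ![c 0, c 0] := by
  ext i; fin_cases i <;> simp [mh, Matrix.mulVec, dotProduct]
theorem mh_D2 (c : Fin 1 → ℤ) : mh D2 c = ![c 0, 0] := by
  ext i; fin_cases i <;> simp [mh, Matrix.mulVec, dotProduct]

theorem inj_P0 : Function.Injective (mh P0) := by
  intro v w h
  rw [mh_P0, mh_P0] at h
  ext i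
  fin_cases i
  · simpa using congrFun h 1
  · simpa using congrFun h 2

theorem inj_D0 : Function.Injective (mh D0) := by
  intro v w h
  rw [mh_D0, mh_D0] at h
  ext i
  fin_cases i
  simpa using congrFun h 1

/-! ### cosimplicial identities -/

theorem cs1 (c : Fin 1 → ℤ) : mh P0 (mh D0 c) = mh P1 (mh D0 c) := by
  simp [mh_P0, mh_P1, mh_D0]
theorem cs2 (c : Fin 1 → ℤ) : mh P0 (mh D1 c) = mh P2 (mh D0 c) := by
  simp [mh_P0, mh_P2, mh_D0, mh_D1]
theorem cs3 (c : Fin 1 → ℤ) : mh P0 (mh D2 c) = mh P3 (mh D0 c) := by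
  simp [mh_P0, mh_P3, mh_D0, mh_D2]
theorem cs4 (c : Fin 1 → ℤ) : mh P1 (mh D1 c) = mh P2 (mh D1 c) := by
  simp [mh_P1, mh_P2, mh_D1]
theorem cs5 (c : Fin 1 → ℤ) : mh P1 (mh D2 c) = mh P3 (mh D1 c) := by
  simp [mh_P1, mh_P3, mh_D1, mh_D2]
theorem cs6 (c : Fin 1 → ℤ) : mh P2 (mh D2 c) = mh P3 (mh D2 c) := by
  simp [mh_P2, mh_P3, mh_D2]

variable (A : Type u) [CommRing A]

/-- the ring hom `A[ℤ^m] → A[ℤ^n]` induced by an integer matrix -/
noncomputable abbrev rh {m n : ℕ} (M : Matrix (Fin n) (Fin m) ℤ) :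
    AddMonoidAlgebra A (Fin m → ℤ) →+* AddMonoidAlgebra A (Fin n → ℤ) :=
  mapDomainRingHom A (mh M)

variable {A}

theorem rh_rh_eq {l m n : ℕ} (M M' : Matrix (Fin n) (Fin m) ℤ) (N N' : Matrix (Fin m) (Fin l) ℤ)
    (h : ∀ c, mh M (mh N c) = mh M' (mh N' c)) (x : AddMonoidAlgebra A (Fin l → ℤ)) :
    rh A M (rh A N x) = rh A M' (rh A N' x) := by
  have h1 : (mh M).comp (mh N) = (mh M').comp (mh N') := AddMonoidHom.ext h
  have h2 := congrArg (mapDomainRingHom A) h1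
  rw [mapDomainRingHom_comp, mapDomainRingHom_comp] at h2
  exact RingHom.congr_fun h2 x

theorem rh_single {m n : ℕ} (M : Matrix (Fin n) (Fin m) ℤ) (v : Fin m → ℤ) (r : A) :
    rh A M (single v r) = single (mh M v) r := by
  rw [mapDomainRingHom_apply, mapDomain_single]

section GroupIdentities

variable {G : Type*} [CommGroup G]

theorem grp_coc_cob (a b c d e f : G) :
    (a * b⁻¹ * c) * (a * d⁻¹ * e)⁻¹ * (b * d⁻¹ * f) * (c * e⁻¹ * f)⁻¹ = 1 := by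
  have key : ∀ a b c d e f : Additive G,
      (a + -b + c) + -(a + -d + e) + (b + -d + f) + -(c + -e + f) = 0 := by
    intro a b c d e f; abel
  exact key (Additive.ofMul a) (Additive.ofMul b) (Additive.ofMul c) (Additive.ofMul d)
    (Additive.ofMul e) (Additive.ofMul f)

theorem grp_coc_iff (a b c d : G) : a * b⁻¹ * c * d⁻¹ = 1 ↔ a * c = b * d := by
  have key : ∀ a b c d : Additive G, a + -b + c + -d = 0 ↔ a + c = b + d := by
    intro a b c d
    constructor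
    · intro h
      have : a + c = (a + -b + c + -d) + (b + d) := by abel
      rw [this, h, zero_add]
    · intro h
      have : a + -b + c + -d = (a + c) - (b + d) := by abel
      rw [this, h, sub_self]
  exact key (Additive.ofMul a) (Additive.ofMul b) (Additive.ofMul c) (Additive.ofMul d)

theorem grp_cob_iff (x a b c : G) : x = a * b⁻¹ * c ↔ x * b = a * c := by
  have key : ∀ x a b c : Additive G, x = a + -b + c ↔ x + b = a + c := by
    intro x a b c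
    constructor
    · rintro rfl
      abel
    · intro h
      have : x = (x + b) - b := by abel
      rw [this, h]; abel
  exact key (Additive.ofMul x) (Additive.ofMul a) (Additive.ofMul b) (Additive.ofMul c)

end GroupIdentities

variable {A : Type u} [CommRing A]

/-- the map on unit groups induced by a matrix -/
noncomputable abbrev U {m n : ℕ} (M : Matrix (Fin n) (Fin m) ℤ) :
    (AddMonoidAlgebra A (Fin m → ℤ))ˣ →* (AddMonoidAlgebra A (Fin n → ℤ))ˣ :=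
  Units.map (rh A M).toMonoidHom

theorem U_coe {m n : ℕ} (M : Matrix (Fin n) (Fin m) ℤ) (x : (AddMonoidAlgebra A (Fin m → ℤ))ˣ) :
    ((U M x : (AddMonoidAlgebra A (Fin n → ℤ))ˣ) : AddMonoidAlgebra A (Fin n → ℤ)) =
      rh A M (x : AddMonoidAlgebra A (Fin m → ℤ)) := rfl

theorem U_U_eq {l m n : ℕ} (M M' : Matrix (Fin n) (Fin m) ℤ) (N N' : Matrix (Fin m) (Fin l) ℤ)
    (h : ∀ c, mh M (mh N c) = mh M' (mh N' c)) (x : (AddMonoidAlgebra A (Fin l → ℤ))ˣ) :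
    U M (U N x) = U M' (U N' x) := by
  apply Units.ext
  rw [U_coe, U_coe, U_coe, U_coe]
  exact rh_rh_eq M M' N N' h _

/-- the coboundary `A[ℤ¹]ˣ → A[ℤ²]ˣ` -/
noncomputable def cobU : (AddMonoidAlgebra A (Fin 1 → ℤ))ˣ →* (AddMonoidAlgebra A (Fin 2 → ℤ))ˣ :=
  U D0 * (U D1)⁻¹ * U D2

/-- the coboundary `A[ℤ²]ˣ → A[ℤ³]ˣ` -/
noncomputable def cocU : (AddMonoidAlgebra A (Fin 2 → ℤ))ˣ →* (AddMonoidAlgebra A (Fin 3 → ℤ))ˣ :=
  U P0 * (U P1)⁻¹ * U P2 * (U P3)⁻¹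

theorem cobU_apply (η : (AddMonoidAlgebra A (Fin 1 → ℤ))ˣ) :
    cobU η = U D0 η * (U D1 η)⁻¹ * U D2 η := rfl

theorem cocU_apply (ξ : (AddMonoidAlgebra A (Fin 2 → ℤ))ˣ) :
    cocU ξ = U P0 ξ * (U P1 ξ)⁻¹ * U P2 ξ * (U P3 ξ)⁻¹ := rfl

theorem cocU_cobU (η : (AddMonoidAlgebra A (Fin 1 → ℤ))ˣ) : cocU (cobU η) = 1 := by
  rw [cocU_apply, cobU_apply]
  simp only [map_mul, map_inv]
  rw [← U_U_eq P0 P1 D0 D0 cs1, ← U_U_eq P0 P2 D1 D0 cs2, ← U_U_eq P0 P3 D2 D0 cs3,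
    ← U_U_eq P1 P2 D1 D1 cs4, ← U_U_eq P1 P3 D2 D1 cs5, ← U_U_eq P2 P3 D2 D2 cs6]
  exact grp_coc_cob _ _ _ _ _ _



/-- `σ`: restriction of coefficients along `d₀ : ℤ¹ → ℤ²` -/
noncomputable def sig : AddMonoidAlgebra A (Fin 2 → ℤ) →+ AddMonoidAlgebra A (Fin 1 → ℤ) :=
  comapDomainAddMonoidHom (mh D0) inj_D0

/-- `τ`: restriction of coefficients along `∂₀ : ℤ² → ℤ³` -/
noncomputable def tau : AddMonoidAlgebra A (Fin 3 → ℤ) →+ AddMonoidAlgebra A (Fin 2 → ℤ) :=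
  comapDomainAddMonoidHom (mh P0) inj_P0

theorem sig_apply (x : AddMonoidAlgebra A (Fin 2 → ℤ)) :
    sig x = comapDomain (mh D0) inj_D0 x := rfl

theorem tau_apply (x : AddMonoidAlgebra A (Fin 3 → ℤ)) :
    tau x = comapDomain (mh P0) inj_P0 x := rfl

theorem tau_P0 (ν : AddMonoidAlgebra A (Fin 2 → ℤ)) : tau (rh A P0 ν) = ν := by
  rw [tau_apply, mapDomainRingHom_apply]
  have := comapDomain_mapDomain_of_cartesian (A := A) (id : (Fin 2 → ℤ) → (Fin 2 → ℤ))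
    Function.injective_id id (mh P0) (mh P0) inj_P0 (fun _ => rfl)
    (fun x y h => ⟨x, rfl, inj_P0 h⟩) ν
  rw [this]
  ext m
  simp [mapDomain, comapDomain]

theorem tau_P1 (ν : AddMonoidAlgebra A (Fin 2 → ℤ)) : tau (rh A P1 ν) = rh A D0 (sig ν) := by
  rw [tau_apply, sig_apply, mapDomainRingHom_apply, mapDomainRingHom_apply]
  refine comapDomain_mapDomain_of_cartesian (mh D0) inj_D0 (mh D0) (mh P1) (mh P0) inj_P0
    (fun c => (cs1 c).symm) ?_ ν
  intro v w h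
  rw [mh_P1, mh_P0] at h
  have h0 : v 0 = 0 := by simpa using congrFun h 0
  have h1 : v 0 = w 0 := by simpa using congrFun h 1
  have h2 : v 1 = w 1 := by simpa using congrFun h 2
  refine ⟨![v 1], ?_, ?_⟩
  · rw [mh_D0]; ext i; fin_cases i <;> simp [h0]
  · rw [mh_D0]; ext i; fin_cases i <;> simp [← h1, h0, h2]

theorem tau_P2 (ν : AddMonoidAlgebra A (Fin 2 → ℤ)) : tau (rh A P2 ν) = rh A D1 (sig ν) := by
  rw [tau_apply, sig_apply, mapDomainRingHom_apply, mapDomainRingHom_apply]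
  refine comapDomain_mapDomain_of_cartesian (mh D0) inj_D0 (mh D1) (mh P2) (mh P0) inj_P0
    (fun c => (cs2 c).symm) ?_ ν
  intro v w h
  rw [mh_P2, mh_P0] at h
  have h0 : v 0 = 0 := by simpa using congrFun h 0
  have h1 : v 1 = w 0 := by simpa using congrFun h 1
  have h2 : v 1 = w 1 := by simpa using congrFun h 2
  refine ⟨![v 1], ?_, ?_⟩
  · rw [mh_D0]; ext i; fin_cases i <;> simp [h0]
  · rw [mh_D1]; ext i; fin_cases i <;> simp [← h1, ← h2]

theorem tau_P3 (ν : AddMonoidAlgebra A (Fin 2 → ℤ)) : tau (rh A P3 ν) = rh A D2 (sig ν) := by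
  rw [tau_apply, sig_apply, mapDomainRingHom_apply, mapDomainRingHom_apply]
  refine comapDomain_mapDomain_of_cartesian (mh D0) inj_D0 (mh D2) (mh P3) (mh P0) inj_P0
    (fun c => (cs3 c).symm) ?_ ν
  intro v w h
  rw [mh_P3, mh_P0] at h
  have h0 : v 0 = 0 := by simpa using congrFun h 0
  have h1 : v 1 = w 0 := by simpa using congrFun h 1
  have h2 : 0 = w 1 := by simpa using congrFun h 2
  refine ⟨![v 1], ?_, ?_⟩
  · rw [mh_D0]; ext i; fin_cases i <;> simp [h0]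
  · rw [mh_D2]; ext i; fin_cases i <;> simp [← h1, ← h2]


theorem step_ring {I : Ideal A} {ν : AddMonoidAlgebra A (Fin 2 → ℤ)} (hν : ν ∈ KL I (Fin 2 → ℤ))
    (hcoc : rh A P0 (1 + ν) * rh A P2 (1 + ν) = rh A P1 (1 + ν) * rh A P3 (1 + ν)) :
    (1 + ν) * rh A D1 (1 + sig ν) - rh A D0 (1 + sig ν) * rh A D2 (1 + sig ν) ∈
      KL (I * I) (Fin 2 → ℤ) := by
  have hs : sig ν ∈ KL I (Fin 1 → ℤ) := by
    rw [sig_apply]
    exact comap_mem_KL _ inj_D0 hν
  have ha : rh A D0 (sig ν) ∈ KL I (Fin 2 → ℤ) := map_mem_KL _ hs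
  have hb : rh A D1 (sig ν) ∈ KL I (Fin 2 → ℤ) := map_mem_KL _ hs
  have hc : rh A D2 (sig ν) ∈ KL I (Fin 2 → ℤ) := map_mem_KL _ hs
  have h0 : rh A P0 ν ∈ KL I (Fin 3 → ℤ) := map_mem_KL _ hν
  have h1 : rh A P1 ν ∈ KL I (Fin 3 → ℤ) := map_mem_KL _ hν
  have h2 : rh A P2 ν ∈ KL I (Fin 3 → ℤ) := map_mem_KL _ hν
  have h3 : rh A P3 ν ∈ KL I (Fin 3 → ℤ) := map_mem_KL _ hν
  have hE : rh A P0 ν - rh A P1 ν + rh A P2 ν - rh A P3 ν =
      rh A P1 ν * rh A P3 ν - rh A P0 ν * rh A P2 ν := by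
    simp only [map_add, map_one] at hcoc
    linear_combination hcoc
  have hE' : rh A P0 ν - rh A P1 ν + rh A P2 ν - rh A P3 ν ∈ KL (I * I) (Fin 3 → ℤ) := by
    rw [hE]
    exact sub_mem (mul_mem_KL_mul h1 h3) (mul_mem_KL_mul h0 h2)
  have hT : tau (rh A P0 ν - rh A P1 ν + rh A P2 ν - rh A P3 ν) =
      ν - rh A D0 (sig ν) + rh A D1 (sig ν) - rh A D2 (sig ν) := by
    rw [map_sub, map_add, map_sub, tau_P0, tau_P1, tau_P2, tau_P3]
  have hTE : ν - rh A D0 (sig ν) + rh A D1 (sig ν) - rh A D2 (sig ν) ∈ KL (I * I) (Fin 2 → ℤ) := by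
    rw [← hT, tau_apply]
    exact comap_mem_KL _ inj_P0 hE'
  have hfin : (1 + ν) * rh A D1 (1 + sig ν) - rh A D0 (1 + sig ν) * rh A D2 (1 + sig ν) =
      (ν - rh A D0 (sig ν) + rh A D1 (sig ν) - rh A D2 (sig ν)) + ν * rh A D1 (sig ν) -
        rh A D0 (sig ν) * rh A D2 (sig ν) := by
    simp only [map_add, map_one]
    ring
  rw [hfin]
  exact sub_mem (add_mem hTE (mul_mem_KL_mul hν hb)) (mul_mem_KL_mul ha hc)


end Groth.Agent.Lib.LaurentH6
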