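import Mathlib
import Groth.Agent.Lib.Laurent2_helper6

/-!
# Laurent3 (helper6): vanishing of `H²` of the unit complex of the cosimplicial ring of Laurent
polynomial rings `A[ℤ^p]`: every unit 2-cocycle is a coboundary.
-/

set_option autoImplicit false
universe u

open AddMonoidAlgebra

namespace Groth.Agent.Lib.LaurentH6

variable {A : Type u} [CommRing A]

theorem grp_step {G : Type*} [CommGroup G] (x a b c : G) :
    x * (a * b⁻¹ * c)⁻¹ = x * b * (a * c)⁻¹ := by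
  have key : ∀ x a b c : Additive G, x + -(a + -b + c) = x + b + -(a + c) := by
    intro x a b c; abel
  exact key (Additive.ofMul x) (Additive.ofMul a) (Additive.ofMul b) (Additive.ofMul c)

/-- ring-level form of the cocycle condition -/
theorem coc_ring {ξ : (AddMonoidAlgebra A (Fin 2 → ℤ))ˣ} (hcoc : cocU ξ = 1) :
    rh A P0 (ξ : AddMonoidAlgebra A (Fin 2 → ℤ)) * rh A P2 (ξ : AddMonoidAlgebra A (Fin 2 → ℤ)) =
      rh A P1 (ξ : AddMonoidAlgebra A (Fin 2 → ℤ)) * rh A P3 (ξ : AddMonoidAlgebra A (Fin 2 → ℤ)) := by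
  rw [cocU_apply, grp_coc_iff] at hcoc
  have := congrArg Units.val hcoc
  rwa [Units.val_mul, Units.val_mul, U_coe, U_coe, U_coe, U_coe] at this

theorem step_units {I : Ideal A} {n : ℕ} (hI : I ^ n = ⊥)
    (ξ : (AddMonoidAlgebra A (Fin 2 → ℤ))ˣ) (hcoc : cocU ξ = 1)
    (hξ : (ξ : AddMonoidAlgebra A (Fin 2 → ℤ)) - 1 ∈ KL I (Fin 2 → ℤ)) :
    ∃ η : (AddMonoidAlgebra A (Fin 1 → ℤ))ˣ,
      ((ξ * (cobU η)⁻¹ : (AddMonoidAlgebra A (Fin 2 → ℤ))ˣ) : AddMonoidAlgebra A (Fin 2 → ℤ)) - 1 ∈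
        KL (I * I) (Fin 2 → ℤ) := by
  set ν : AddMonoidAlgebra A (Fin 2 → ℤ) := (ξ : AddMonoidAlgebra A (Fin 2 → ℤ)) - 1 with hνdef
  have hx : (ξ : AddMonoidAlgebra A (Fin 2 → ℤ)) = 1 + ν := by rw [hνdef]; ring
  have hcr := coc_ring hcoc
  rw [hx] at hcr
  have hs : sig ν ∈ KL I (Fin 1 → ℤ) := by
    rw [sig_apply]
    exact comap_mem_KL _ inj_D0 hξ
  have hnil : IsNilpotent (sig ν) := isNilpotent_of_mem_KL hI hs
  have hu : IsUnit (1 + sig ν) := hnil.isUnit_one_add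
  have hstep := step_ring hξ hcr
  refine ⟨hu.unit, ?_⟩
  rw [cobU_apply, grp_step]
  rw [Units.val_mul, Units.val_mul, U_coe]
  have hw : ((U D0 hu.unit * U D2 hu.unit : (AddMonoidAlgebra A (Fin 2 → ℤ))ˣ) :
      AddMonoidAlgebra A (Fin 2 → ℤ)) = rh A D0 (1 + sig ν) * rh A D2 (1 + sig ν) := by
    rw [Units.val_mul, U_coe, U_coe, IsUnit.unit_spec]
  have hfin : (ξ : AddMonoidAlgebra A (Fin 2 → ℤ)) * rh A D1 ((hu.unit : (AddMonoidAlgebra A (Fin 1 → ℤ))ˣ) : AddMonoidAlgebra A (Fin 1 → ℤ)) *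
      (((U D0 hu.unit * U D2 hu.unit)⁻¹ : (AddMonoidAlgebra A (Fin 2 → ℤ))ˣ) :
        AddMonoidAlgebra A (Fin 2 → ℤ)) - 1 =
      ((1 + ν) * rh A D1 (1 + sig ν) - rh A D0 (1 + sig ν) * rh A D2 (1 + sig ν)) *
      (((U D0 hu.unit * U D2 hu.unit)⁻¹ : (AddMonoidAlgebra A (Fin 2 → ℤ))ˣ) :
        AddMonoidAlgebra A (Fin 2 → ℤ)) := by
    rw [sub_mul, ← hw, Units.mul_inv, IsUnit.unit_spec, hx]
  rw [hfin]
  exact Ideal.mul_mem_right _ _ hstep

/-- over a domain, a 2-cocycle unit is a nonzero constant -/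
theorem domain_case {D : Type u} [CommRing D] [IsDomain D]
    (x y : AddMonoidAlgebra D (Fin 2 → ℤ)) (hxy : x * y = 1)
    (hcoc : rh D P0 x * rh D P2 x = rh D P1 x * rh D P3 x) :
    ∃ c : D, c ≠ 0 ∧ x = single 0 c := by
  obtain ⟨m, c, rfl⟩ := exists_single_of_mul_eq_one hxy
  have hc : c ≠ 0 := by
    rintro rfl
    rw [single_zero, zero_mul] at hxy
    exact zero_ne_one hxy
  refine ⟨c, hc, ?_⟩
  rw [rh_single, rh_single, rh_single, rh_single, single_mul_single, single_mul_single,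
    single_left_inj (mul_ne_zero hc hc), mh_P0, mh_P1, mh_P2, mh_P3] at hcoc
  have h0 : m 0 = 0 := by
    have := congrFun hcoc 0
    simpa using this
  have h1 : m 1 = 0 := by
    have := congrFun hcoc 2
    simpa using this
  have : m = 0 := by
    ext i; fin_cases i
    · exact h0
    · exact h1
  rw [this]

theorem coeff_prime (ξ ζ : AddMonoidAlgebra A (Fin 2 → ℤ)) (hξζ : ξ * ζ = 1)
    (hcoc : rh A P0 ξ * rh A P2 ξ = rh A P1 ξ * rh A P3 ξ) (p : Ideal A) [p.IsPrime] :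
    ξ.coeff 0 ∉ p ∧ ∀ m, m ≠ 0 → ξ.coeff m ∈ p := by
  classical
  have hcomm : ∀ (M : Matrix (Fin 3) (Fin 2) ℤ) (x : AddMonoidAlgebra A (Fin 2 → ℤ)),
      rh (A ⧸ p) M (mapRingHom (Fin 2 → ℤ) (Ideal.Quotient.mk p) x) =
        mapRingHom (Fin 3 → ℤ) (Ideal.Quotient.mk p) (rh A M x) := by
    intro M x
    have := RingHom.congr_fun (mapRingHom_comp_mapDomainRingHom (Ideal.Quotient.mk p) (mh M)) x
    rw [RingHom.comp_apply, RingHom.comp_apply] at this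
    exact this.symm
  have h1 : mapRingHom (Fin 2 → ℤ) (Ideal.Quotient.mk p) ξ *
      mapRingHom (Fin 2 → ℤ) (Ideal.Quotient.mk p) ζ = 1 := by
    rw [← map_mul, hξζ, map_one]
  have h2 := congrArg (mapRingHom (Fin 3 → ℤ) (Ideal.Quotient.mk p)) hcoc
  rw [map_mul, map_mul, ← hcomm, ← hcomm, ← hcomm, ← hcomm] at h2
  obtain ⟨c, hc, hcx⟩ := domain_case _ _ h1 h2
  have hm : ∀ m, Ideal.Quotient.mk p (ξ.coeff m) = if (0 : Fin 2 → ℤ) = m then c else 0 := by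
    intro m
    rw [← coeff_mapRingHom, hcx, coeff_single, Finsupp.single_apply]
  constructor
  · intro h
    have := hm 0
    rw [if_pos rfl, Ideal.Quotient.eq_zero_iff_mem.mpr h] at this
    exact hc this.symm
  · intro m hm0
    have := hm m
    rw [if_neg (fun h => hm0 h.symm)] at this
    exact Ideal.Quotient.eq_zero_iff_mem.mp this

theorem coeff_zero_isUnit (ξ ζ : AddMonoidAlgebra A (Fin 2 → ℤ)) (hξζ : ξ * ζ = 1)
    (hcoc : rh A P0 ξ * rh A P2 ξ = rh A P1 ξ * rh A P3 ξ) : IsUnit (ξ.coeff 0) := by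
  by_contra h
  obtain ⟨M, hM, hmem⟩ := exists_max_ideal_of_mem_nonunits (mem_nonunits_iff.mpr h)
  have := hM.isPrime
  exact (coeff_prime ξ ζ hξζ hcoc M).1 hmem

theorem coeff_isNilpotent (ξ ζ : AddMonoidAlgebra A (Fin 2 → ℤ)) (hξζ : ξ * ζ = 1)
    (hcoc : rh A P0 ξ * rh A P2 ξ = rh A P1 ξ * rh A P3 ξ) (m : Fin 2 → ℤ) (hm : m ≠ 0) :
    IsNilpotent (ξ.coeff m) := by
  rw [nilpotent_iff_mem_prime]
  intro J hJ
  exact (coeff_prime ξ ζ hξζ hcoc J).2 m hm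

/-- constants as units -/
noncomputable def constU (n : ℕ) : Aˣ →* (AddMonoidAlgebra A (Fin n → ℤ))ˣ :=
  Units.map (singleZeroRingHom (R := A) (M := Fin n → ℤ)).toMonoidHom

theorem constU_coe (n : ℕ) (u : Aˣ) :
    ((constU n u : (AddMonoidAlgebra A (Fin n → ℤ))ˣ) : AddMonoidAlgebra A (Fin n → ℤ)) =
      single 0 (u : A) := rfl

theorem U_constU {m n : ℕ} (M : Matrix (Fin n) (Fin m) ℤ) (u : Aˣ) :
    U M (constU m u) = constU n u := by
  apply Units.ext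
  rw [U_coe, constU_coe, constU_coe, rh_single, map_zero]

theorem cobU_constU (u : Aˣ) : cobU (constU 1 u) = constU 2 u := by
  rw [cobU_apply, U_constU, U_constU, U_constU, mul_inv_cancel, one_mul]

theorem cocU_constU (u : Aˣ) : cocU (constU 2 u) = 1 := by
  rw [← cobU_constU, cocU_cobU]

theorem induction_main (N : Ideal A) (K : ℕ) (hK : N ^ K = ⊥) :
    ∀ j k : ℕ, 1 ≤ k → K ≤ k + j → ∀ ξ : (AddMonoidAlgebra A (Fin 2 → ℤ))ˣ, cocU ξ = 1 →
      (ξ : AddMonoidAlgebra A (Fin 2 → ℤ)) - 1 ∈ KL (N ^ k) (Fin 2 → ℤ) →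
      ∃ η : (AddMonoidAlgebra A (Fin 1 → ℤ))ˣ, ξ = cobU η := by
  intro j
  induction j with
  | zero =>
    intro k hk hKk ξ hcoc hξ
    have hle : N ^ k ≤ ⊥ := by
      rw [← hK]
      exact Ideal.pow_le_pow_right (by omega)
    have h0 := eq_zero_of_mem_KL_bot (KL_mono hle hξ)
    refine ⟨1, ?_⟩
    rw [map_one]
    apply Units.ext
    rw [Units.val_one]
    exact sub_eq_zero.mp h0
  | succ j ih =>
    intro k hk hKk ξ hcoc hξ
    have hnil : (N ^ k) ^ K = ⊥ := by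
      rw [← pow_mul, mul_comm, pow_mul, hK, Ideal.bot_pow (by omega)]
    obtain ⟨η₁, hη₁⟩ := step_units hnil ξ hcoc hξ
    have hcoc' : cocU (ξ * (cobU η₁)⁻¹) = 1 := by
      rw [map_mul, map_inv, hcoc, cocU_cobU, inv_one, one_mul]
    rw [← pow_add] at hη₁
    obtain ⟨η₂, hη₂⟩ := ih (k + k) (by omega) (by omega) _ hcoc' hη₁
    refine ⟨η₂ * η₁, ?_⟩
    rw [map_mul, ← hη₂, inv_mul_cancel_right]

theorem main (ξ : (AddMonoidAlgebra A (Fin 2 → ℤ))ˣ) (hcoc : cocU ξ = 1) :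
    ∃ η : (AddMonoidAlgebra A (Fin 1 → ℤ))ˣ, ξ = cobU η := by
  classical
  have hcr := coc_ring hcoc
  have hmul : (ξ : AddMonoidAlgebra A (Fin 2 → ℤ)) * ((ξ⁻¹ : (AddMonoidAlgebra A (Fin 2 → ℤ))ˣ) :
      AddMonoidAlgebra A (Fin 2 → ℤ)) = 1 := Units.mul_inv ξ
  have hu0 := coeff_zero_isUnit _ _ hmul hcr
  have hnil := coeff_isNilpotent _ _ hmul hcr
  set u : Aˣ := hu0.unit with hudef
  have hucoe : (u : A) = (ξ : AddMonoidAlgebra A (Fin 2 → ℤ)).coeff 0 := IsUnit.unit_spec hu0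
  set ξ' : (AddMonoidAlgebra A (Fin 2 → ℤ))ˣ := ξ * (constU 2 u)⁻¹ with hξ'def
  have hcoc' : cocU ξ' = 1 := by
    rw [hξ'def, map_mul, map_inv, hcoc, cocU_constU, inv_one, one_mul]
  have hξ'coe : (ξ' : AddMonoidAlgebra A (Fin 2 → ℤ)) =
      (ξ : AddMonoidAlgebra A (Fin 2 → ℤ)) * single 0 ((u⁻¹ : Aˣ) : A) := by
    rw [hξ'def, ← map_inv, Units.val_mul, constU_coe]
  have hcoeff : ∀ m, (ξ' : AddMonoidAlgebra A (Fin 2 → ℤ)).coeff m =
      (ξ : AddMonoidAlgebra A (Fin 2 → ℤ)).coeff m * ((u⁻¹ : Aˣ) : A) := by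
    intro m
    rw [hξ'coe, coeff_mul_single_zero]
  set ν : AddMonoidAlgebra A (Fin 2 → ℤ) := (ξ' : AddMonoidAlgebra A (Fin 2 → ℤ)) - 1 with hνdef
  have hνnil : ∀ m, IsNilpotent (ν.coeff m) := by
    intro m
    by_cases hm : m = 0
    · subst hm
      have : ν.coeff 0 = 0 := by
        rw [hνdef, coeff_sub, Finsupp.sub_apply, hcoeff, ← hucoe, Units.mul_inv, coeff_one_zero,
          sub_self]
      rw [this]
      exact IsNilpotent.zero
    · have : ν.coeff m = (ξ : AddMonoidAlgebra A (Fin 2 → ℤ)).coeff m * ((u⁻¹ : Aˣ) : A) := by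
        rw [hνdef, coeff_sub, Finsupp.sub_apply, hcoeff, one_def, coeff_single,
          Finsupp.single_apply, if_neg (fun h => hm h.symm), sub_zero]
      rw [this]
      exact (Commute.all _ _).isNilpotent_mul_right (hnil m hm)
  set N : Ideal A := Ideal.span ((ν.coeff.support.image ν.coeff : Finset A) : Set A) with hNdef
  have hNfg : N.FG := ⟨_, rfl⟩
  have hNle : N ≤ (⊥ : Ideal A).radical := by
    rw [hNdef, Ideal.span_le]
    intro a ha
    rw [Finset.mem_coe, Finset.mem_image] at ha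
    obtain ⟨m, -, rfl⟩ := ha
    exact (hνnil m)
  obtain ⟨K, hK⟩ := Ideal.exists_pow_le_of_le_radical_of_fg hNle hNfg
  have hK' : N ^ K = ⊥ := le_bot_iff.mp hK
  have hνN : ν ∈ KL (N ^ 1) (Fin 2 → ℤ) := by
    rw [pow_one, mem_KL]
    intro m
    by_cases hm : m ∈ ν.coeff.support
    · exact Ideal.subset_span (Finset.mem_coe.mpr (Finset.mem_image_of_mem _ hm))
    · rw [Finsupp.notMem_support_iff.mp hm]
      exact N.zero_mem
  obtain ⟨η, hη⟩ := induction_main N K hK' K 1 le_rfl (by omega) ξ' hcoc' hνN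
  refine ⟨η * constU 1 u, ?_⟩
  rw [map_mul, ← hη, cobU_constU, hξ'def, inv_mul_cancel_right]

/-- the statement in the form of milestone S13793 -/
theorem laurent_final (A : Type u) [CommRing A] (ξ : (AddMonoidAlgebra A (Fin 2 → ℤ))ˣ)
    (hξ : Units.map (AddMonoidAlgebra.mapDomainRingHom A
          (Matrix.mulVecLin (!![0, 0; 1, 0; 0, 1] : Matrix (Fin 3) (Fin 2) ℤ)).toAddMonoidHom).toMonoidHom ξ *
        (Units.map (AddMonoidAlgebra.mapDomainRingHom A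
          (Matrix.mulVecLin (!![1, 0; 1, 0; 0, 1] : Matrix (Fin 3) (Fin 2) ℤ)).toAddMonoidHom).toMonoidHom ξ)⁻¹ *
        Units.map (AddMonoidAlgebra.mapDomainRingHom A
          (Matrix.mulVecLin (!![1, 0; 0, 1; 0, 1] : Matrix (Fin 3) (Fin 2) ℤ)).toAddMonoidHom).toMonoidHom ξ *
        (Units.map (AddMonoidAlgebra.mapDomainRingHom A
          (Matrix.mulVecLin (!![1, 0; 0, 1; 0, 0] : Matrix (Fin 3) (Fin 2) ℤ)).toAddMonoidHom).toMonoidHom ξ)⁻¹ = 1) :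
    ∃ η : (AddMonoidAlgebra A (Fin 1 → ℤ))ˣ,
      ξ = Units.map (AddMonoidAlgebra.mapDomainRingHom A
          (Matrix.mulVecLin (!![0; 1] : Matrix (Fin 2) (Fin 1) ℤ)).toAddMonoidHom).toMonoidHom η *
        (Units.map (AddMonoidAlgebra.mapDomainRingHom A
          (Matrix.mulVecLin (!![1; 1] : Matrix (Fin 2) (Fin 1) ℤ)).toAddMonoidHom).toMonoidHom η)⁻¹ *
        Units.map (AddMonoidAlgebra.mapDomainRingHom A
          (Matrix.mulVecLin (!![1; 0] : Matrix (Fin 2) (Fin 1) ℤ)).toAddMonoidHom).toMonoidHom η :=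
  main ξ hξ

end Groth.Agent.Lib.LaurentH6
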