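import Mathlib
import Groth.Statements.S19633

set_option autoImplicit false
universe u

namespace Groth.Agent.Lib.LaurentDR

open LaurentPolynomial exteriorPower

variable (k : Type u) [Field k]

/-- the standard basis -/
noncomputable def bas : Module.Basis ℤ k (LaurentPolynomial k) := AddMonoidAlgebra.basis ℤ k

lemma bas_apply (n : ℤ) : bas k n = (T n : LaurentPolynomial k) := rfl

noncomputable def dTlin : LaurentPolynomial k →ₗ[k] LaurentPolynomial k :=
  (bas k).constr k (fun n : ℤ => (n : k) • (T (n - 1) : LaurentPolynomial k))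

lemma dTlin_T (n : ℤ) : dTlin k (T n) = (n : k) • (T (n - 1) : LaurentPolynomial k) := by
  rw [← bas_apply, dTlin, Module.Basis.constr_basis]

lemma dTlin_smul_T (a : k) (n : ℤ) :
    dTlin k (a • T n) = (a * n) • (T (n - 1) : LaurentPolynomial k) := by
  rw [map_smul, dTlin_T, smul_smul]

lemma T_mul_T (n m : ℤ) : (T n : LaurentPolynomial k) * T m = T (n + m) := (T_add n m).symm

lemma leibniz_mono (a c : k) (n m : ℤ) :
    dTlin k ((a • T n) * (c • T m)) =
      (a • T n) * dTlin k (c • T m) + (c • T m) * dTlin k (a • T n) := by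
  rw [smul_mul_smul_comm, T_mul_T, dTlin_smul_T, dTlin_smul_T, dTlin_smul_T,
    smul_mul_smul_comm, smul_mul_smul_comm, T_mul_T, T_mul_T]
  have e1 : n + (m - 1) = n + m - 1 := by ring
  have e2 : m + (n - 1) = n + m - 1 := by ring
  rw [e1, e2, ← add_smul]
  congr 1
  push_cast
  ring

lemma leibniz (f g : LaurentPolynomial k) :
    dTlin k (f * g) = f * dTlin k g + g * dTlin k f := by
  induction f using LaurentPolynomial.induction_on' with
  | add p q hp hq =>
    simp only [add_mul, map_add, hp, hq]; ring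
  | C_mul_T n a =>
    induction g using LaurentPolynomial.induction_on' with
    | add p q hp hq =>
      simp only [mul_add, map_add, hp, hq]; ring
    | C_mul_T m c =>
      rw [← smul_eq_C_mul, ← smul_eq_C_mul]
      exact leibniz_mono k a c n m

noncomputable def dT : Derivation k (LaurentPolynomial k) (LaurentPolynomial k) :=
  Derivation.mk' (dTlin k) (fun a b => by rw [leibniz]; simp only [smul_eq_mul])

lemma dT_apply (f : LaurentPolynomial k) : dT k f = dTlin k f := rfl

lemma der_eq_zero {M : Type*} [AddCommGroup M] [Module k M] [Module (LaurentPolynomial k) M]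
    (E : Derivation k (LaurentPolynomial k) M) (h : E (T 1) = 0) (f : LaurentPolynomial k) :
    E f = 0 := by
  have hnat : ∀ m : ℕ, E (T (m : ℤ)) = 0 := by
    intro m
    induction m with
    | zero => rw [Nat.cast_zero, T_zero]; exact E.map_one_eq_zero
    | succ m ih =>
      have : (T ((m + 1 : ℕ) : ℤ) : LaurentPolynomial k) = T (m : ℤ) * T 1 := by
        rw [← T_add, Nat.cast_succ]
      rw [this, Derivation.leibniz, h, ih, smul_zero, smul_zero, add_zero]
  have hneg : ∀ m : ℕ, E (T (-(m : ℤ))) = 0 := by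
    intro m
    have h1 : (T (-(m : ℤ)) : LaurentPolynomial k) * T (m : ℤ) = 1 := by
      rw [← T_add, neg_add_cancel, T_zero]
    have h2 : E (T (-(m : ℤ)) * T (m : ℤ)) = 0 := by rw [h1]; exact E.map_one_eq_zero
    rw [Derivation.leibniz, hnat m, smul_zero, zero_add] at h2
    have h3 : (T (-(m : ℤ)) : LaurentPolynomial k) •
        ((T (m : ℤ) : LaurentPolynomial k) • E (T (-(m : ℤ)))) = 0 := by rw [h2, smul_zero]
    rwa [smul_smul, h1, one_smul] at h3
  have hT : ∀ n : ℤ, E (T n) = 0 := by
    intro n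
    obtain ⟨m, rfl | rfl⟩ := Int.eq_nat_or_neg n
    · exact hnat m
    · exact hneg m
  induction f using LaurentPolynomial.induction_on' with
  | add p q hp hq => rw [map_add, hp, hq, add_zero]
  | C_mul_T n a => rw [← smul_eq_C_mul, Derivation.map_smul, hT, smul_zero]

lemma D_eq (f : LaurentPolynomial k) :
    KaehlerDifferential.D k (LaurentPolynomial k) f =
      dT k f • KaehlerDifferential.D k (LaurentPolynomial k) (T 1) := by
  have key := der_eq_zero k (KaehlerDifferential.D k (LaurentPolynomial k) -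
    (LinearMap.toSpanSingleton (LaurentPolynomial k) _
      (KaehlerDifferential.D k (LaurentPolynomial k) (T 1))).compDer (dT k)) ?_ f
  · have key' : KaehlerDifferential.D k (LaurentPolynomial k) f -
        dT k f • KaehlerDifferential.D k (LaurentPolynomial k) (T 1) = 0 := key
    exact sub_eq_zero.mp key'
  · show KaehlerDifferential.D k (LaurentPolynomial k) (T 1) -
        dT k (T 1) • KaehlerDifferential.D k (LaurentPolynomial k) (T 1) = 0
    rw [dT_apply, dTlin_T, Int.cast_one, one_smul, sub_self, T_zero, one_smul, sub_self]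

lemma cyclic (ω : Ω[LaurentPolynomial k⁄k]) :
    ∃ g : LaurentPolynomial k, ω = g • KaehlerDifferential.D k (LaurentPolynomial k) (T 1) := by
  have hω : ω ∈ Submodule.span (LaurentPolynomial k)
      (Set.range (KaehlerDifferential.D k (LaurentPolynomial k))) := by
    rw [KaehlerDifferential.span_range_derivation]; trivial
  induction hω using Submodule.span_induction with
  | mem x hx => obtain ⟨f, rfl⟩ := hx; exact ⟨dT k f, D_eq k f⟩
  | zero => exact ⟨0, (zero_smul _ _).symm⟩
  | add x y _ _ hx hy =>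
    obtain ⟨g, rfl⟩ := hx; obtain ⟨g', rfl⟩ := hy; exact ⟨g + g', (add_smul _ _ _).symm⟩
  | smul a x _ hx => obtain ⟨g, rfl⟩ := hx; exact ⟨a * g, by rw [smul_smul]⟩

lemma ext_zero (i : ℕ)
    (x : ↥(⋀[LaurentPolynomial k]^(i + 2) (Ω[LaurentPolynomial k⁄k]))) : x = 0 := by
  have hx : x ∈ Submodule.span (LaurentPolynomial k)
      (Set.range (ιMulti (LaurentPolynomial k) (i + 2) (M := Ω[LaurentPolynomial k⁄k]))) := by
    rw [exteriorPower.ιMulti_span]; trivial
  induction hx using Submodule.span_induction with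
  | mem y hy =>
    obtain ⟨v, rfl⟩ := hy
    choose g hg using fun j => cyclic k (v j)
    have hv : v = fun j => g j • KaehlerDifferential.D k (LaurentPolynomial k) (T 1) := funext hg
    rw [hv, (ιMulti (LaurentPolynomial k) (i + 2)).map_smul_univ g
      (fun _ => KaehlerDifferential.D k (LaurentPolynomial k) (T 1)),
      (ιMulti (LaurentPolynomial k) (i + 2)).map_eq_zero_of_eq
        (fun _ => KaehlerDifferential.D k (LaurentPolynomial k) (T 1))
        (i := 0) (j := 1) rfl Fin.zero_ne_one, smul_zero]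
  | zero => rfl
  | add x y _ _ hx hy => rw [hx, hy, add_zero]
  | smul a x _ hx => rw [hx, smul_zero]

lemma zero_form (x : ↥(⋀[LaurentPolynomial k]^0 (Ω[LaurentPolynomial k⁄k]))) :
    ∃ b₀ : LaurentPolynomial k,
      x = DeRham.gen (KaehlerDifferential.D k (LaurentPolynomial k)) 0 b₀ Fin.elim0 := by
  refine ⟨zeroEquiv (LaurentPolynomial k) _ x, ?_⟩
  apply (zeroEquiv (LaurentPolynomial k) (Ω[LaurentPolynomial k⁄k])).injective
  rw [DeRham.gen, map_smul, zeroEquiv_ιMulti, smul_eq_mul, mul_one]

lemma coord_T (m : ℤ) : (bas k).coord (-1) (T m : LaurentPolynomial k) = if m = -1 then 1 else 0 := by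
  rw [← bas_apply, Module.Basis.coord_apply, Module.Basis.repr_self, Finsupp.single_apply]

lemma coord_dT (f : LaurentPolynomial k) : (bas k).coord (-1) (dTlin k f) = 0 := by
  induction f using LaurentPolynomial.induction_on' with
  | add p q hp hq => rw [map_add, map_add, hp, hq, add_zero]
  | C_mul_T n a =>
    rw [← smul_eq_C_mul, dTlin_smul_T, map_smul, coord_T]
    by_cases h : n - 1 = -1
    · have hn : n = 0 := by omega
      rw [hn]; simp
    · rw [if_neg h, smul_zero]

lemma antider [CharZero k] (g : LaurentPolynomial k) :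
    ∃ (h : LaurentPolynomial k) (c : k), g = dTlin k h + c • (T (-1) : LaurentPolynomial k) := by
  induction g using LaurentPolynomial.induction_on' with
  | add p q hp hq =>
    obtain ⟨h, c, rfl⟩ := hp
    obtain ⟨h', c', rfl⟩ := hq
    exact ⟨h + h', c + c', by rw [map_add, add_smul]; abel⟩
  | C_mul_T n a =>
    rw [← smul_eq_C_mul]
    by_cases hn : n = -1
    · exact ⟨0, a, by rw [hn, map_zero, zero_add]⟩
    · have hn' : ((n + 1 : ℤ) : k) ≠ 0 := by
        rw [Int.cast_ne_zero]; omega
      refine ⟨(a / ((n + 1 : ℤ) : k)) • T (n + 1), 0, ?_⟩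
      rw [dTlin_smul_T, zero_smul, add_zero, div_mul_cancel₀ _ hn', add_sub_cancel_right]

theorem main [CharZero k]
    (d : ∀ p : ℕ, ↥(⋀[LaurentPolynomial k]^p (Ω[LaurentPolynomial k⁄k])) →ₗ[k]
      ↥(⋀[LaurentPolynomial k]^(p + 1) (Ω[LaurentPolynomial k⁄k])))
    (hd : DeRham.IsDiff (KaehlerDifferential.D k (LaurentPolynomial k)) d) :
    DeRham.cocycles d 1 = ⊤ ∧
    IsCompl (DeRham.coboundaries d 1)
      (Submodule.span k {DeRham.gen (KaehlerDifferential.D k (LaurentPolynomial k)) 1
        (LaurentPolynomial.T (-1)) (fun _ => LaurentPolynomial.T 1)}) ∧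
    DeRham.gen (KaehlerDifferential.D k (LaurentPolynomial k)) 1
        (LaurentPolynomial.T (-1)) (fun _ => LaurentPolynomial.T 1) ∉ DeRham.coboundaries d 1 ∧
    ∀ i : ℕ, DeRham.cocycles d (i + 2) ≤ DeRham.coboundaries d (i + 2) := by
  set ω0 := DeRham.gen (KaehlerDifferential.D k (LaurentPolynomial k)) 1
        (LaurentPolynomial.T (-1)) (fun _ => LaurentPolynomial.T 1) with hω0
  have hcob : DeRham.coboundaries d 1 = LinearMap.range (d 0) := rfl
  have hone_ω0 : oneEquiv (LaurentPolynomial k) (Ω[LaurentPolynomial k⁄k]) ω0 =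
      (T (-1) : LaurentPolynomial k) • KaehlerDifferential.D k (LaurentPolynomial k) (T 1) := by
    rw [hω0, DeRham.gen, map_smul, oneEquiv_ιMulti]
  have hexact : ∀ b₀ : LaurentPolynomial k,
      oneEquiv (LaurentPolynomial k) (Ω[LaurentPolynomial k⁄k])
        (d 0 (DeRham.gen (KaehlerDifferential.D k (LaurentPolynomial k)) 0 b₀ Fin.elim0)) =
      KaehlerDifferential.D k (LaurentPolynomial k) b₀ := by
    intro b₀
    have e1 := hd.1 0 b₀ Fin.elim0
    have e2 : oneEquiv (LaurentPolynomial k) (Ω[LaurentPolynomial k⁄k])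
        (ιMulti (LaurentPolynomial k) 1
          (Fin.cons (KaehlerDifferential.D k (LaurentPolynomial k) b₀)
          (fun i : Fin 0 => KaehlerDifferential.D k (LaurentPolynomial k) (Fin.elim0 i)))) =
        KaehlerDifferential.D k (LaurentPolynomial k) b₀ :=
      (oneEquiv_ιMulti _).trans (Fin.cons_zero _ _)
    rw [e1]; exact e2
  have hrange : ∀ y ∈ LinearMap.range (d 0), ∃ b₀ : LaurentPolynomial k,
      oneEquiv (LaurentPolynomial k) (Ω[LaurentPolynomial k⁄k]) y =
        KaehlerDifferential.D k (LaurentPolynomial k) b₀ := by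
    rintro y ⟨x, rfl⟩
    obtain ⟨b₀, rfl⟩ := zero_form k x
    exact ⟨b₀, hexact b₀⟩
  let ρ : Ω[LaurentPolynomial k⁄k] →ₗ[LaurentPolynomial k] LaurentPolynomial k :=
    (dT k).liftKaehlerDifferential
  have hρD : ∀ f, ρ (KaehlerDifferential.D k (LaurentPolynomial k) f) = dTlin k f := fun f =>
    (dT k).liftKaehlerDifferential_comp_D f
  have hres_exact : ∀ y ∈ LinearMap.range (d 0),
      (bas k).coord (-1) (ρ (oneEquiv (LaurentPolynomial k) (Ω[LaurentPolynomial k⁄k]) y)) = 0 := by
    intro y hy
    obtain ⟨b₀, hb₀⟩ := hrange y hy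
    rw [hb₀, hρD, coord_dT]
  have hρω0 : ρ (oneEquiv (LaurentPolynomial k) (Ω[LaurentPolynomial k⁄k]) ω0) = T (-1) := by
    rw [hone_ω0, map_smul, hρD, dTlin_T, Int.cast_one, one_smul, sub_self, T_zero, smul_eq_mul,
      mul_one]
  have hsmul : ∀ (c : k) (y : ↥(⋀[LaurentPolynomial k]^1 (Ω[LaurentPolynomial k⁄k]))),
      oneEquiv (LaurentPolynomial k) (Ω[LaurentPolynomial k⁄k]) (c • y) =
        c • oneEquiv (LaurentPolynomial k) (Ω[LaurentPolynomial k⁄k]) y := by
    intro c y
    rw [← algebraMap_smul (LaurentPolynomial k) c y, map_smul, algebraMap_smul]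
  have hres_smul : ∀ c : k, (bas k).coord (-1)
      (ρ (oneEquiv (LaurentPolynomial k) (Ω[LaurentPolynomial k⁄k]) (c • ω0))) = c := by
    intro c
    rw [hsmul, ← algebraMap_smul (LaurentPolynomial k) c, map_smul, hρω0, algebraMap_smul,
      map_smul, coord_T, if_pos rfl, smul_eq_mul, mul_one]
  refine ⟨?_, ⟨?_, ?_⟩, ?_, ?_⟩
  · rw [eq_top_iff]
    intro x _
    show d 1 x = 0
    exact ext_zero k 0 (d 1 x)
  · rw [Submodule.disjoint_def]
    intro x hx1 hx2
    rw [hcob] at hx1
    obtain ⟨c, rfl⟩ := Submodule.mem_span_singleton.mp hx2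
    have h0 := hres_exact _ hx1
    rw [hres_smul] at h0
    rw [h0, zero_smul]
  · rw [codisjoint_iff, eq_top_iff]
    intro y _
    obtain ⟨g, hg⟩ := cyclic k (oneEquiv (LaurentPolynomial k) (Ω[LaurentPolynomial k⁄k]) y)
    obtain ⟨h, c, hhc⟩ := antider k g
    have hy1 : d 0 (DeRham.gen (KaehlerDifferential.D k (LaurentPolynomial k)) 0 h Fin.elim0) ∈
        DeRham.coboundaries d 1 := by
      rw [hcob]; exact LinearMap.mem_range_self _ _
    have hy : y = d 0 (DeRham.gen (KaehlerDifferential.D k (LaurentPolynomial k)) 0 h Fin.elim0)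
        + c • ω0 := by
      apply (oneEquiv (LaurentPolynomial k) (Ω[LaurentPolynomial k⁄k])).injective
      rw [map_add, hexact, hsmul, hone_ω0, hg, hhc, add_smul, D_eq k h, dT_apply, smul_assoc]
    rw [hy]
    exact Submodule.add_mem_sup hy1
      (Submodule.smul_mem _ c (Submodule.mem_span_singleton_self _))
  · intro hmem
    rw [hcob] at hmem
    have h0 := hres_exact _ hmem
    have h1 := hres_smul 1
    rw [one_smul] at h1
    rw [h1] at h0
    exact one_ne_zero h0
  · intro i x _
    rw [ext_zero k i x]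
    exact Submodule.zero_mem _

end Groth.Agent.Lib.LaurentDR
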