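import Mathlib
set_option maxSynthPendingDepth 3

namespace Groth.Agent.Lib.LaurentSq

open Polynomial

theorem sqrt_powerSeries {k : Type*} [Field k] [IsAlgClosed k] (h2 : (2 : k) ≠ 0)
    (u : PowerSeries k) (hu : PowerSeries.constantCoeff u ≠ 0) :
    ∃ a : PowerSeries k, a * a = u := by
  obtain ⟨c, hc⟩ := IsAlgClosed.exists_pow_nat_eq (PowerSeries.constantCoeff u) (n := 2)
    (by norm_num)
  have hc0 : c ≠ 0 := by
    rintro rfl
    apply hu
    rw [← hc]; ring
  have hH : HenselianRing (PowerSeries k) (Ideal.span {PowerSeries.X}) := inferInstance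
  have hmem : (X ^ 2 - C u : (PowerSeries k)[X]).eval (PowerSeries.C c) ∈
      Ideal.span {(PowerSeries.X : PowerSeries k)} := by
    rw [Ideal.mem_span_singleton, PowerSeries.X_dvd_iff]
    simp [hc]
  have hder : (derivative (X ^ 2 - C u : (PowerSeries k)[X])).eval (PowerSeries.C c) =
      2 * PowerSeries.C c := by
    simp
    exact Or.inl one_add_one_eq_two
  have hunit : IsUnit (2 * PowerSeries.C c : PowerSeries k) := by
    rw [PowerSeries.isUnit_iff_constantCoeff]
    have : PowerSeries.constantCoeff (2 * PowerSeries.C c : PowerSeries k) = 2 * c := by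
      rw [map_mul, PowerSeries.constantCoeff_C, map_ofNat]
    rw [this]
    exact isUnit_iff_ne_zero.mpr (mul_ne_zero h2 hc0)
  obtain ⟨a, ha, -⟩ := hH.is_henselian (X ^ 2 - C u) (monic_X_pow_sub_C u (by norm_num))
    (PowerSeries.C c) hmem (by rw [hder]; exact hunit.map _)
  refine ⟨a, ?_⟩
  have h := ha
  simp only [IsRoot, eval_sub, eval_pow, eval_X, eval_C, sub_eq_zero] at h
  rw [← h]; ring

theorem main {k : Type*} [Field k] [IsAlgClosed k] (h2 : (2 : k) ≠ 0)
    (f : LaurentSeries k) (hf : f ≠ 0) : IsSquare f ↔ Even f.order := by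
  constructor
  · rintro ⟨g, rfl⟩
    have hg : g ≠ 0 := by rintro rfl; simp at hf
    refine ⟨g.order, ?_⟩
    apply HahnSeries.order_mul_of_ne_zero
    exact mul_ne_zero (HahnSeries.leadingCoeff_ne_zero.mpr hg)
      (HahnSeries.leadingCoeff_ne_zero.mpr hg)
  · rintro ⟨m, hm⟩
    have hu : PowerSeries.constantCoeff (LaurentSeries.powerSeriesPart f) ≠ 0 := by
      rw [← PowerSeries.coeff_zero_eq_constantCoeff_apply, LaurentSeries.powerSeriesPart_coeff]
      simpa using HahnSeries.coeff_order_eq_zero.not.mpr hf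
    obtain ⟨a, ha⟩ := sqrt_powerSeries h2 _ hu
    refine ⟨HahnSeries.single m 1 * HahnSeries.ofPowerSeries ℤ k a, ?_⟩
    have h1 := LaurentSeries.single_order_mul_powerSeriesPart f
    rw [← ha, hm] at h1
    rw [← h1]
    have hs : (HahnSeries.single (m + m) (1 : k) : LaurentSeries k) =
        HahnSeries.single m 1 * HahnSeries.single m 1 := by
      rw [HahnSeries.single_mul_single, mul_one]
    rw [hs, map_mul]
    ring

end Groth.Agent.Lib.LaurentSq
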