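import Mathlib

set_option autoImplicit false
set_option linter.style.haveILetI false
set_option linter.unusedVariables false
set_option linter.unusedSectionVars false
set_option maxHeartbeats 800000

universe u

namespace Groth.Agent.Lib.LaurentSubfieldH4

/-- Elements of the compositum `φ(k₀)·F'` are `F'`-combinations of a finite spanning family,
when every `p`-th power lies in `F'`. -/
theorem key {k₀ K₀ : Type*} [Field k₀] [Field K₀] (φ : k₀ →+* K₀) (p : ℕ) (hp : 0 < p)
    (k' : Subfield k₀) (F' : Subfield K₀) (hkF : ∀ κ ∈ k', φ κ ∈ F') (hpow : ∀ y : K₀, y ^ p ∈ F')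
    (m : ℕ) (b : Fin m → k₀)
    (hb : ∀ x : k₀, ∃ c : Fin m → k₀, (∀ i, c i ∈ k') ∧ x = ∑ i, c i * b i)
    (c : K₀) (hc : c ∈ Subfield.closure (Set.range φ ∪ Set.range fun y : K₀ => y ^ p)) :
    ∃ a : Fin m → K₀, (∀ i, a i ∈ F') ∧ c = ∑ i, a i * φ (b i) := by
  classical
  let M : Set K₀ := {c | ∃ a : Fin m → K₀, (∀ i, a i ∈ F') ∧ c = ∑ i, a i * φ (b i)}
  have hzero : (0 : K₀) ∈ M := ⟨fun _ => 0, fun _ => F'.zero_mem, by simp⟩
  have hadd : ∀ x y, x ∈ M → y ∈ M → x + y ∈ M := by
    rintro x y ⟨a, ha, rfl⟩ ⟨a', ha', rfl⟩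
    exact ⟨fun i => a i + a' i, fun i => F'.add_mem (ha i) (ha' i), by
      rw [← Finset.sum_add_distrib]; exact Finset.sum_congr rfl (fun i _ => (add_mul _ _ _).symm)⟩
  have hneg : ∀ x, x ∈ M → -x ∈ M := by
    rintro x ⟨a, ha, rfl⟩
    exact ⟨fun i => - a i, fun i => F'.neg_mem (ha i), by
      rw [← Finset.sum_neg_distrib]; exact Finset.sum_congr rfl (fun i _ => (neg_mul _ _).symm)⟩
  have hsmul : ∀ t x, t ∈ F' → x ∈ M → t * x ∈ M := by
    rintro t x ht ⟨a, ha, rfl⟩
    exact ⟨fun i => t * a i, fun i => F'.mul_mem ht (ha i), by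
      rw [Finset.mul_sum]; exact Finset.sum_congr rfl (fun i _ => (mul_assoc _ _ _).symm)⟩
  have hsum : ∀ (s : Finset (Fin m)) (g : Fin m → K₀), (∀ i, g i ∈ M) → ∑ i ∈ s, g i ∈ M := by
    intro s g hg
    induction s using Finset.induction_on with
    | empty => simpa using hzero
    | insert i s hi ih => rw [Finset.sum_insert hi]; exact hadd _ _ (hg i) ih
  have hφ : ∀ x : k₀, φ x ∈ M := by
    intro x
    obtain ⟨c, hc, hx⟩ := hb x
    refine ⟨fun i => φ (c i), fun i => hkF _ (hc i), ?_⟩
    rw [hx, map_sum]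
    exact Finset.sum_congr rfl (fun i _ => map_mul φ _ _)
  have hone : (1 : K₀) ∈ M := by simpa using hφ 1
  have hmul : ∀ x y, x ∈ M → y ∈ M → x * y ∈ M := by
    rintro x y ⟨a, ha, rfl⟩ ⟨a', ha', rfl⟩
    rw [Finset.sum_mul_sum]
    refine hsum _ _ (fun i => hsum _ _ (fun j => ?_))
    have h1 : a i * φ (b i) * (a' j * φ (b j)) = (a i * a' j) * φ (b i * b j) := by
      rw [map_mul]; ring
    rw [h1]
    exact hsmul _ _ (F'.mul_mem (ha i) (ha' j)) (hφ _)
  have hpowM : ∀ x, x ∈ M → ∀ n : ℕ, x ^ n ∈ M := by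
    intro x hx n
    induction n with
    | zero => rw [pow_zero]; exact hone
    | succ n ih => rw [pow_succ]; exact hmul _ _ ih hx
  have hinv : ∀ x, x ∈ M → x⁻¹ ∈ M := by
    intro x hx
    by_cases h0 : x = 0
    · rw [h0, inv_zero]; exact hzero
    · have h1 : x⁻¹ = (x ^ p)⁻¹ * x ^ (p - 1) := by
        have h2 : x ^ p = x ^ (p - 1) * x := by rw [← pow_succ, Nat.sub_add_cancel hp]
        rw [h2, mul_inv, mul_comm ((x ^ (p - 1))⁻¹) x⁻¹, mul_assoc,
          inv_mul_cancel₀ (pow_ne_zero _ h0), mul_one]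
      rw [h1]
      exact hsmul _ _ (F'.inv_mem (hpow x)) (hpowM x hx _)
  let Msub : Subfield K₀ :=
    { carrier := M
      mul_mem' := fun {x y} hx hy => hmul x y hx hy
      one_mem' := hone
      add_mem' := fun {x y} hx hy => hadd x y hx hy
      zero_mem' := hzero
      neg_mem' := fun {x} hx => hneg x hx
      inv_mem' := fun x hx => hinv x hx }
  have hle : Subfield.closure (Set.range φ ∪ Set.range fun y : K₀ => y ^ p) ≤ Msub := by
    rw [Subfield.closure_le]
    rintro x (⟨y, rfl⟩ | ⟨y, rfl⟩)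
    · exact hφ y
    · show y ^ p ∈ M
      have h3 := hsmul (y ^ p) 1 (hpow y) hone
      rwa [mul_one] at h3
  exact hle hc

theorem main4561 (p : ℕ) [Fact p.Prime] {k₀ K₀ : Type u} [Field k₀] [Field K₀] [Algebra k₀ K₀]
    [CharP k₀ p]
    (hfin : Module.Finite (Subfield.closure (Set.range fun x : k₀ => x ^ p)) k₀) (r : ℕ) :
    Subfield.closure (algebraMap (MvPowerSeries (Fin r) K₀) (FractionRing (MvPowerSeries (Fin r) K₀)) ''
        {f | ∀ n, MvPowerSeries.coeff n f ∈
          Subfield.closure (Set.range (algebraMap k₀ K₀) ∪ Set.range fun y : K₀ => y ^ p)}) =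
      Subfield.closure
        (Set.range (algebraMap k₀ (FractionRing (MvPowerSeries (Fin r) K₀))) ∪
          (Subfield.closure (algebraMap (MvPowerSeries (Fin r) K₀) (FractionRing (MvPowerSeries (Fin r) K₀)) ''
            {f | ∀ n, MvPowerSeries.coeff n f ∈ Subfield.closure (Set.range fun y : K₀ => y ^ p)}) :
            Set (FractionRing (MvPowerSeries (Fin r) K₀)))) := by
  classical
  have hp : 0 < p := (Fact.out : p.Prime).pos
  obtain ⟨m, b, hbspan⟩ := Module.Finite.exists_fin
    (R := ↥(Subfield.closure (Set.range fun x : k₀ => x ^ p))) (M := k₀)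
  have hb : ∀ x : k₀, ∃ c : Fin m → k₀,
      (∀ i, c i ∈ Subfield.closure (Set.range fun x : k₀ => x ^ p)) ∧ x = ∑ i, c i * b i := by
    intro x
    have hx : x ∈ Submodule.span (↥(Subfield.closure (Set.range fun x : k₀ => x ^ p)))
        (Set.range b) := by rw [hbspan]; trivial
    obtain ⟨c, hc⟩ := (Submodule.mem_span_range_iff_exists_fun _).mp hx
    refine ⟨fun i => (c i : k₀), fun i => (c i).2, ?_⟩
    rw [← hc]
    exact Finset.sum_congr rfl (fun i _ => rfl)
  have hpow : ∀ y : K₀, y ^ p ∈ Subfield.closure (Set.range fun y : K₀ => y ^ p) :=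
    fun y => Subfield.subset_closure ⟨y, rfl⟩
  have hkF : ∀ κ ∈ Subfield.closure (Set.range fun x : k₀ => x ^ p),
      algebraMap k₀ K₀ κ ∈ Subfield.closure (Set.range fun y : K₀ => y ^ p) := by
    have h1 : Subfield.closure (Set.range fun x : k₀ => x ^ p) ≤
        (Subfield.closure (Set.range fun y : K₀ => y ^ p)).comap (algebraMap k₀ K₀) := by
      rw [Subfield.closure_le]
      rintro _ ⟨x, rfl⟩
      show algebraMap k₀ K₀ (x ^ p) ∈ Subfield.closure (Set.range fun y : K₀ => y ^ p)
      rw [map_pow]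
      exact Subfield.subset_closure ⟨_, rfl⟩
    exact fun κ hκ => h1 hκ
  have halg : ∀ y : k₀, algebraMap k₀ (FractionRing (MvPowerSeries (Fin r) K₀)) y =
      algebraMap (MvPowerSeries (Fin r) K₀) (FractionRing (MvPowerSeries (Fin r) K₀))
        (MvPowerSeries.C (algebraMap k₀ K₀ y)) := by
    intro y
    rw [IsScalarTower.algebraMap_apply k₀ (MvPowerSeries (Fin r) K₀)
      (FractionRing (MvPowerSeries (Fin r) K₀)), MvPowerSeries.algebraMap_apply]
  apply le_antisymm
  · rw [Subfield.closure_le]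
    rintro _ ⟨f, hf, rfl⟩
    choose a ha1 ha2 using fun n => key (algebraMap k₀ K₀) p hp
      (Subfield.closure (Set.range fun x : k₀ => x ^ p))
      (Subfield.closure (Set.range fun y : K₀ => y ^ p)) hkF hpow m b hb
      (MvPowerSeries.coeff n f) (hf n)
    obtain ⟨g, hg⟩ : ∃ g : Fin m → MvPowerSeries (Fin r) K₀,
        ∀ i n, MvPowerSeries.coeff n (g i) = a n i := ⟨fun i n => a n i, fun i n => rfl⟩
    have hfdecomp : f = ∑ i, MvPowerSeries.C (algebraMap k₀ K₀ (b i)) * g i := by
      ext n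
      rw [map_sum, ha2 n]
      refine Finset.sum_congr rfl (fun i _ => ?_)
      rw [MvPowerSeries.coeff_C_mul, hg i n, mul_comm]
    rw [hfdecomp, map_sum]
    refine Subfield.sum_mem _ (fun i _ => ?_)
    rw [map_mul]
    refine Subfield.mul_mem _ ?_ ?_
    · apply Subfield.subset_closure
      left
      exact ⟨b i, halg (b i)⟩
    · apply Subfield.subset_closure
      right
      apply Subfield.subset_closure
      exact ⟨g i, fun n => by rw [hg i n]; exact ha1 n i, rfl⟩
  · rw [Subfield.closure_le]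
    rintro x (⟨y, rfl⟩ | hx)
    · apply Subfield.subset_closure
      refine ⟨MvPowerSeries.C (algebraMap k₀ K₀ y), ?_, (halg y).symm⟩
      intro n
      rw [MvPowerSeries.coeff_C]
      split_ifs
      · exact Subfield.subset_closure (Or.inl ⟨y, rfl⟩)
      · exact Subfield.zero_mem _
    · have hF'L : Subfield.closure (Set.range fun y : K₀ => y ^ p) ≤
          Subfield.closure (Set.range (algebraMap k₀ K₀) ∪ Set.range fun y : K₀ => y ^ p) :=
        Subfield.closure_mono Set.subset_union_right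
      have hmono := Subfield.closure_mono (Set.image_mono (f := algebraMap (MvPowerSeries (Fin r) K₀)
          (FractionRing (MvPowerSeries (Fin r) K₀)))
        (fun (f : MvPowerSeries (Fin r) K₀)
          (hf : f ∈ {f | ∀ n, MvPowerSeries.coeff n f ∈
            Subfield.closure (Set.range fun y : K₀ => y ^ p)}) =>
          (show f ∈ {f | ∀ n, MvPowerSeries.coeff n f ∈
            Subfield.closure (Set.range (algebraMap k₀ K₀) ∪ Set.range fun y : K₀ => y ^ p)} from
            fun n => hF'L (hf n))))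
      exact hmono hx

end Groth.Agent.Lib.LaurentSubfieldH4
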