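import Mathlib

namespace Groth.Agent.Lib.LaurentUnit

universe u

set_option linter.deprecated false

theorem key (R : Type u) [CommRing R] (F G : LaurentSeries R) (hFG : F * G = 1) (P : Ideal R)
    (hP : P.IsPrime) :
    ∃ n : ℤ, F.coeff n ∉ P ∧ (∀ i < n, F.coeff i ∈ P) ∧ (∀ j < -n, G.coeff j ∈ P) ∧
      F.coeff n * G.coeff (-n) - 1 ∈ P := by
  classical
  have hone0 : (F * G).coeff 0 = 1 := by
    rw [hFG, HahnSeries.coeff_one, if_pos rfl]
  have honene : ∀ k : ℤ, k ≠ 0 → (F * G).coeff k = 0 := by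
    intro k hk; rw [hFG, HahnSeries.coeff_one, if_neg hk]
  let A : Set ℤ := {i | F.coeff i ∉ P}
  let B : Set ℤ := {j | G.coeff j ∉ P}
  have hA : A.IsWF := F.isWF_support.mono (fun i hi => by
    rw [HahnSeries.mem_support]; intro h; exact hi (h ▸ P.zero_mem))
  have hB : B.IsWF := G.isWF_support.mono (fun i hi => by
    rw [HahnSeries.mem_support]; intro h; exact hi (h ▸ P.zero_mem))
  have hAne : A.Nonempty := by
    by_contra hne
    rw [Set.not_nonempty_iff_eq_empty] at hne
    have hall : ∀ i, F.coeff i ∈ P := fun i => by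
      by_contra h; exact (Set.eq_empty_iff_forall_notMem.mp hne i) h
    have h1 : (F * G).coeff 0 ∈ P := by
      rw [HahnSeries.coeff_mul]
      exact P.sum_mem (fun ij _ => P.mul_mem_right _ (hall _))
    rw [hone0] at h1
    exact hP.ne_top ((Ideal.eq_top_iff_one _).mpr h1)
  have hBne : B.Nonempty := by
    by_contra hne
    rw [Set.not_nonempty_iff_eq_empty] at hne
    have hall : ∀ i, G.coeff i ∈ P := fun i => by
      by_contra h; exact (Set.eq_empty_iff_forall_notMem.mp hne i) h
    have h1 : (F * G).coeff 0 ∈ P := by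
      rw [HahnSeries.coeff_mul]
      exact P.sum_mem (fun ij _ => P.mul_mem_left _ (hall _))
    rw [hone0] at h1
    exact hP.ne_top ((Ideal.eq_top_iff_one _).mpr h1)
  obtain ⟨n, hnA, hnmin⟩ : ∃ n, n ∈ A ∧ ∀ i ∈ A, ¬ i < n :=
    ⟨hA.min hAne, hA.min_mem hAne, fun i hi => hA.not_lt_min hAne hi⟩
  obtain ⟨m, hmB, hmmin⟩ : ∃ m, m ∈ B ∧ ∀ i ∈ B, ¬ i < m :=
    ⟨hB.min hBne, hB.min_mem hBne, fun i hi => hB.not_lt_min hBne hi⟩
  have hn : F.coeff n ∉ P := hnA
  have hm : G.coeff m ∉ P := hmB
  have hn' : ∀ i < n, F.coeff i ∈ P := fun i hi => by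
    by_contra h; exact hnmin i h hi
  have hm' : ∀ j < m, G.coeff j ∈ P := fun j hj => by
    by_contra h; exact hmmin j h hj
  have hsum : (F * G).coeff (n + m) - F.coeff n * G.coeff m ∈ P := by
    rw [HahnSeries.coeff_mul]
    have hmem : ((n, m) : ℤ × ℤ) ∈
        Finset.antidiagonal F.isPWO_support G.isPWO_support (n + m) := by
      rw [Finset.mem_addAntidiagonal]
      refine ⟨?_, ?_, rfl⟩
      · rw [HahnSeries.mem_support]; intro h; exact hn (h ▸ P.zero_mem)
      · rw [HahnSeries.mem_support]; intro h; exact hm (h ▸ P.zero_mem)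
    rw [← Finset.add_sum_erase _ _ hmem, add_sub_cancel_left]
    refine P.sum_mem (fun ij hij => ?_)
    rw [Finset.mem_erase, Finset.mem_addAntidiagonal] at hij
    obtain ⟨hne, -, -, hadd⟩ := hij
    by_cases h1 : ij.1 < n
    · exact P.mul_mem_right _ (hn' _ h1)
    · have h2 : ij.2 < m := by
        by_contra h2
        exact hne (Prod.ext (show ij.1 = n by omega) (show ij.2 = m by omega))
      exact P.mul_mem_left _ (hm' _ h2)
  have hnm : n + m = 0 := by
    by_contra h
    rw [honene _ h, zero_sub, neg_mem_iff] at hsum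
    rcases hP.mem_or_mem hsum with h | h
    exacts [hn h, hm h]
  have hm_eq : m = -n := by omega
  refine ⟨n, hn, hn', ?_, ?_⟩
  · intro j hj; exact hm' j (hm_eq ▸ hj)
  · rw [hnm, hone0] at hsum
    rw [← hm_eq]
    have := P.neg_mem hsum
    rwa [neg_sub] at this

theorem uniq_aux (R : Type u) [CommRing R] [Nontrivial R] (k k' : ℤ) (V V' : (PowerSeries R)ˣ)
    (hle : k ≤ k')
    (h : HahnSeries.single k (1 : R) * HahnSeries.ofPowerSeries ℤ R (V : PowerSeries R) =
      HahnSeries.single k' (1 : R) * HahnSeries.ofPowerSeries ℤ R (V' : PowerSeries R)) :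
    k = k' ∧ V = V' := by
  obtain ⟨d, rfl⟩ : ∃ d : ℕ, k' = k + d := ⟨(k' - k).toNat, by omega⟩
  have h1 : HahnSeries.single (k + (d : ℤ)) (1 : R) =
      HahnSeries.single k (1 : R) * HahnSeries.single (d : ℤ) (1 : R) := by
    rw [HahnSeries.single_mul_single, one_mul]
  rw [h1, mul_assoc] at h
  have hunit : IsUnit (HahnSeries.single k (1 : R) : LaurentSeries R) := by
    refine ⟨⟨HahnSeries.single k (1 : R), HahnSeries.single (-k) (1 : R), ?_, ?_⟩, rfl⟩
    · rw [HahnSeries.single_mul_single, add_neg_cancel, one_mul]; rfl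
    · rw [HahnSeries.single_mul_single, neg_add_cancel, one_mul]; rfl
  have h3 := hunit.mul_left_cancel h
  rw [← HahnSeries.ofPowerSeries_X_pow, ← map_mul] at h3
  have h4 := HahnSeries.ofPowerSeries_injective h3
  have hd : d = 0 := by
    by_contra hd
    have h5 := congrArg PowerSeries.constantCoeff h4
    rw [map_mul, map_pow, PowerSeries.constantCoeff_X, zero_pow hd, zero_mul] at h5
    have hVu : IsUnit (PowerSeries.constantCoeff (V : PowerSeries R)) :=
      PowerSeries.isUnit_iff_constantCoeff.mp V.isUnit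
    rw [h5] at hVu
    exact not_isUnit_zero hVu
  subst hd
  refine ⟨by simp, Units.ext ?_⟩
  rw [h4, pow_zero, one_mul]

theorem main (R : Type u) [CommRing R] [IsReduced R] [Nontrivial R]
    (hconn : ∀ e : R, IsIdempotentElem e → e = 0 ∨ e = 1) (f : (LaurentSeries R)ˣ) :
    ∃! p : ℤ × (PowerSeries R)ˣ,
      (f : LaurentSeries R) = HahnSeries.single p.1 (1 : R) *
        HahnSeries.ofPowerSeries ℤ R (p.2 : PowerSeries R) := by
  classical
  obtain ⟨F, hF⟩ : ∃ F : LaurentSeries R, F = (f : LaurentSeries R) := ⟨_, rfl⟩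
  obtain ⟨G, hG⟩ : ∃ G : LaurentSeries R, G = ((f⁻¹ : (LaurentSeries R)ˣ) : LaurentSeries R) :=
    ⟨_, rfl⟩
  have hFG : F * G = 1 := by rw [hF, hG]; exact f.mul_inv
  rw [← hF]
  let e : ℤ → R := fun i => F.coeff i * G.coeff (-i)
  have he : ∀ (P : Ideal R) (n : ℤ), (F.coeff n ∉ P ∧ (∀ i < n, F.coeff i ∈ P) ∧
      (∀ j < -n, G.coeff j ∈ P) ∧ F.coeff n * G.coeff (-n) - 1 ∈ P) →
      ∀ i, i ≠ n → e i ∈ P := by
    intro P n ⟨_, h1, h2, _⟩ i hi
    rcases lt_or_gt_of_ne hi with h | h
    · exact P.mul_mem_right _ (h1 i h)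
    · exact P.mul_mem_left _ (h2 (-i) (by omega))
  have hidem : ∀ i, IsIdempotentElem (e i) := by
    intro i
    have hnil : IsNilpotent (e i * (e i - 1)) := by
      rw [nilpotent_iff_mem_prime]
      intro P hP
      obtain ⟨n, hn⟩ := key R F G hFG P hP
      by_cases hi : i = n
      · subst hi; exact P.mul_mem_left _ hn.2.2.2
      · exact P.mul_mem_right _ (he P n hn i hi)
    have h0 := hnil.eq_zero
    unfold IsIdempotentElem
    linear_combination h0
  obtain ⟨M, hM⟩ := Ideal.exists_maximal R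
  obtain ⟨n₀, hn₀⟩ := key R F G hFG M hM.isPrime
  have hen₀ : e n₀ = 1 := by
    rcases hconn _ (hidem n₀) with h | h
    · exfalso
      have h1 : e n₀ - 1 ∈ M := hn₀.2.2.2
      rw [h, zero_sub, neg_mem_iff] at h1
      exact hM.ne_top ((Ideal.eq_top_iff_one _).mpr h1)
    · exact h
  have hunit : IsUnit (F.coeff n₀) :=
    ⟨⟨F.coeff n₀, G.coeff (-n₀), hen₀, by rw [mul_comm]; exact hen₀⟩, rfl⟩
  have hzero : ∀ i < n₀, F.coeff i = 0 := by
    intro i hi
    apply IsNilpotent.eq_zero
    rw [nilpotent_iff_mem_prime]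
    intro P hP
    obtain ⟨n, hn⟩ := key R F G hFG P hP
    have hnn : n = n₀ := by
      by_contra hne
      have : e n₀ ∈ P := he P n hn n₀ (Ne.symm hne)
      rw [hen₀] at this
      exact hP.ne_top ((Ideal.eq_top_iff_one _).mpr this)
    exact hn.2.1 i (hnn ▸ hi)
  have hFne : F ≠ 0 := by
    intro h
    have := hunit
    rw [h, HahnSeries.coeff_zero] at this
    exact not_isUnit_zero this
  have hord : F.order = n₀ := by
    apply le_antisymm
    · exact HahnSeries.order_le_of_coeff_ne_zero hunit.ne_zero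
    · by_contra hlt
      push_neg at hlt
      exact hFne (HahnSeries.coeff_order_eq_zero.mp (hzero _ hlt))
  have hcu : IsUnit (PowerSeries.constantCoeff F.powerSeriesPart) := by
    rw [← PowerSeries.coeff_zero_eq_constantCoeff_apply, LaurentSeries.powerSeriesPart_coeff, hord]
    simpa using hunit
  have hU : IsUnit F.powerSeriesPart := PowerSeries.isUnit_iff_constantCoeff.mpr hcu
  have hmain : F = HahnSeries.single F.order (1 : R) *
      HahnSeries.ofPowerSeries ℤ R F.powerSeriesPart :=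
    (LaurentSeries.single_order_mul_powerSeriesPart F).symm
  refine ⟨(F.order, hU.unit), ?_, ?_⟩
  · exact hmain
  · rintro ⟨k, V⟩ hq
    have hq2 : F = HahnSeries.single k (1 : R) *
        HahnSeries.ofPowerSeries ℤ R (V : PowerSeries R) := hq
    rcases le_total F.order k with hle | hle
    · obtain ⟨h1, h2⟩ := uniq_aux R F.order k hU.unit V hle (hmain.symm.trans hq2)
      exact Prod.ext h1.symm h2.symm
    · obtain ⟨h1, h2⟩ := uniq_aux R k F.order V hU.unit hle (hq2.symm.trans hmain)
      exact Prod.ext h1 h2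

end Groth.Agent.Lib.LaurentUnit
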