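import Mathlib

/-!
# Lazard's theorem: flat modules are directed colimits of finite free modules
-/

set_option autoImplicit false
open CategoryTheory CategoryTheory.Limits

namespace Groth.Agent.Lib.LazardH3

universe u

section Backward

variable {R : Type u} [CommRing R]

theorem flat_colimit {J : Type u} [Preorder J] [IsDirected J (· ≤ ·)] [Nonempty J]
    (F : J ⥤ ModuleCat.{u} R) (hF : ∀ j, Module.Flat R (F.obj j)) :
    Module.Flat R (colimit F : ModuleCat.{u} R) := by
  rw [Module.Flat.iff_forall_isTrivialRelation]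
  intro l f x hx
  have hrep : ∀ i, ∃ (j : J) (y : F.obj j), colimit.ι F j y = x i :=
    fun i => Concrete.colimit_exists_rep F (x i)
  choose js ys hys using hrep
  obtain ⟨j, hj⟩ := Finite.exists_le js
  let y' : Fin l → F.obj j := fun i => F.map (homOfLE (hj i)) (ys i)
  have hy' : ∀ i, colimit.ι F j (y' i) = x i := by
    intro i
    rw [← hys i]
    exact ConcreteCategory.congr_hom (colimit.w F (homOfLE (hj i))) (ys i)
  have h0 : colimit.ι F j (∑ i, f i • y' i) = colimit.ι F j 0 := by
    rw [map_sum, map_zero]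
    simp only [map_smul, hy']
    exact hx
  obtain ⟨k, g1, g2, hk⟩ := (Concrete.colimit_rep_eq_iff_exists F _ _).mp h0
  have hk' : ∑ i, f i • (F.map g1 (y' i)) = 0 := by
    rw [map_sum, map_zero] at hk
    simpa only [map_smul] using hk
  obtain ⟨m, a, z, hz1, hz2⟩ := (Module.Flat.iff_forall_isTrivialRelation.mp (hF k)) hk'
  refine ⟨m, a, fun t => colimit.ι F k (z t), ?_, hz2⟩
  intro i
  rw [← hy' i]
  have h1 : colimit.ι F j (y' i) = colimit.ι F k (F.map g1 (y' i)) :=
    (ConcreteCategory.congr_hom (colimit.w F g1) (y' i)).symm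
  have hz := hz1 i
  dsimp only at hz
  rw [h1, hz, map_sum]
  simp only [map_smul]

end Backward

section Forward

variable (R : Type u) [CommRing R] (M : Type u) [AddCommGroup M] [Module R M]

/-- Objects: finite free modules `R^n` with a map to `M`. -/
structure Obj where
  n : ℕ
  x : (Fin n →₀ R) →ₗ[R] M

variable {R M}

/-- Morphisms: linear maps over `M`. -/
@[ext] structure Hom' (A B : Obj R M) where
  a : (Fin A.n →₀ R) →ₗ[R] (Fin B.n →₀ R)
  comm : B.x ∘ₗ a = A.x

noncomputable instance : SmallCategory (Obj R M) where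
  Hom A B := Hom' A B
  id A := ⟨LinearMap.id, LinearMap.comp_id _⟩
  comp f g := ⟨g.a ∘ₗ f.a, by rw [← LinearMap.comp_assoc, g.comm, f.comm]⟩
  id_comp f := Hom'.ext (LinearMap.comp_id _)
  comp_id f := Hom'.ext (LinearMap.id_comp _)
  assoc f g h := Hom'.ext (LinearMap.comp_assoc _ _ _).symm

@[simp] lemma comp_a {A B C : Obj R M} (f : A ⟶ B) (g : B ⟶ C) : (f ≫ g).a = g.a ∘ₗ f.a := rfl

@[simp] lemma id_a (A : Obj R M) : Hom'.a (𝟙 A) = LinearMap.id := rfl

instance [Module.Flat R M] : IsFiltered (Obj R M) where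
  cocone_objs A B := by
    let v : Fin (A.n + B.n) → M := Fin.append (fun i => A.x (Finsupp.single i 1))
      (fun i => B.x (Finsupp.single i 1))
    refine ⟨⟨A.n + B.n, Finsupp.linearCombination R v⟩,
      ⟨Finsupp.lmapDomain R R (Fin.castAdd B.n), ?_⟩,
      ⟨Finsupp.lmapDomain R R (Fin.natAdd A.n), ?_⟩, trivial⟩
    · apply Finsupp.lhom_ext'
      intro i
      apply LinearMap.ext_ring
      simp [v]
    · apply Finsupp.lhom_ext'
      intro i
      apply LinearMap.ext_ring
      simp [v]
  cocone_maps {A B} f g := by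
    have h : B.x ∘ₗ (f.a - g.a) = 0 := by
      rw [LinearMap.comp_sub, f.comm, g.comm, sub_self]
    obtain ⟨k, a, y, hya, ha⟩ := Module.Flat.exists_factorization_of_comp_eq_zero_of_free h
    refine ⟨⟨k, y⟩, ⟨a, hya.symm⟩, ?_⟩
    apply Hom'.ext
    change a ∘ₗ f.a = a ∘ₗ g.a
    refine LinearMap.ext fun v => ?_
    have := LinearMap.congr_fun ha v
    simp only [LinearMap.comp_apply, LinearMap.sub_apply, map_sub, LinearMap.zero_apply] at this
    exact sub_eq_zero.mp this
  nonempty := ⟨⟨0, 0⟩⟩

variable (R M)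

/-- The forgetful diagram of finite free modules. -/
noncomputable def G : Obj R M ⥤ ModuleCat.{u} R where
  obj A := ModuleCat.of R (Fin A.n →₀ R)
  map f := ModuleCat.ofHom f.a
  map_id A := rfl
  map_comp f g := rfl

/-- The tautological cocone with point `M`. -/
noncomputable def cocone : Cocone (G R M) where
  pt := ModuleCat.of R M
  ι :=
    { app := fun A => ModuleCat.ofHom A.x
      naturality := fun A B f => by
        apply ModuleCat.hom_ext
        change B.x ∘ₗ f.a = LinearMap.id ∘ₗ A.x
        rw [f.comm, LinearMap.id_comp] }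

/-- For flat `M` the tautological cocone is a colimit. -/
noncomputable def isColimit [Module.Flat R M] : IsColimit (cocone R M) := by
  apply isColimitOfReflects (forget (ModuleCat.{u} R))
  apply Types.FilteredColimit.isColimitOf'
  · intro m
    refine ⟨⟨1, Finsupp.linearCombination R (fun _ => (show M from m))⟩,
      (Finsupp.single 0 1 : Fin 1 →₀ R), ?_⟩
    change (show M from m) = Finsupp.linearCombination R (fun _ => (show M from m))
      (Finsupp.single 0 1)
    simp
  · intro A v w h
    have h' : A.x ((show Fin A.n →₀ R from v) - (show Fin A.n →₀ R from w)) = 0 := by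
      rw [map_sub, sub_eq_zero]
      exact h
    obtain ⟨k, a, y, hya, ha⟩ := Module.Flat.exists_factorization_of_apply_eq_zero_of_free h'
    refine ⟨⟨k, y⟩, ⟨a, hya.symm⟩, ?_⟩
    change a (show Fin A.n →₀ R from v) = a (show Fin A.n →₀ R from w)
    rw [map_sub, sub_eq_zero] at ha
    exact ha

theorem lazard_forward [Module.Flat R M] :
    ∃ (J : Type u) (_ : Preorder J) (_ : IsDirected J (fun a b => a ≤ b)) (_ : Nonempty J)
        (F : J ⥤ ModuleCat.{u} R), (∀ j, Module.Finite R (F.obj j) ∧ Module.Free R (F.obj j)) ∧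
        Nonempty (Limits.colimit F ≅ ModuleCat.of R M) := by
  obtain ⟨α, hpo, hdir, hne, F', hF'⟩ := IsFiltered.exists_directed (Obj R M)
  refine ⟨α, hpo.toPreorder, hdir, hne, F' ⋙ G R M, ?_, ⟨?_⟩⟩
  · intro j
    exact ⟨inferInstanceAs (Module.Finite R (Fin (F'.obj j).n →₀ R)),
      inferInstanceAs (Module.Free R (Fin (F'.obj j).n →₀ R))⟩
  · exact (Functor.Final.colimitIso F' (G R M)) ≪≫
      (colimit.isColimit (G R M)).coconePointUniqueUpToIso (isColimit R M)

end Forward

end Groth.Agent.Lib.LazardH3
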