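import Mathlib
import Groth.Prelude
import Groth.Agent.Lib.UnivThickKaehler_lead

/-!
# Transitivity of universal first order thickenings, ring level (helper7)

For `A → B → C` with universal first order thickenings `B' → B` (over `A`), `C' → C` (over `A`),
`C'' → C` (over `B`) and the canonical maps `m : B' → C'`, `n : C' → C''`: the map `n` is
surjective with kernel generated by `m (ker (B' → B))`.
APPEND-ONLY once landed.
-/

set_option autoImplicit false
set_option linter.style.haveILetI false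

universe u

namespace Groth.Agent.Lib.UnivThickTransH7

open Groth.Agent.Lib.UnivThickKaehler

section Ring

/-- A universal first order thickening lifts along every square zero surjection. -/
theorem exists_lift {R S S' : Type u} [CommRing R] [CommRing S] [CommRing S'] [Algebra R S]
    [Algebra R S'] {π : S' →ₐ[R] S} (h : OmegaSh.IsUnivThickeningRing R S S' π)
    {T : Type u} [CommRing T] [Algebra R T] (p : T →ₐ[R] S) (hp : Function.Surjective p)
    (hk : ∀ x y : T, p x = 0 → p y = 0 → x * y = 0) :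
    ∃ φ : S' →ₐ[R] T, ∀ x, p (φ x) = π x := by
  obtain ⟨-, -, huniv⟩ := h
  have hI : (RingHom.ker p) ^ 2 = ⊥ := by
    rw [pow_two, eq_bot_iff, Ideal.mul_le]
    intro x hx y hy
    rw [Ideal.mem_bot]
    exact hk x y ((RingHom.mem_ker).mp hx) ((RingHom.mem_ker).mp hy)
  obtain ⟨φ, hφ, -⟩ := huniv T (RingHom.ker p) hI
    (Ideal.quotientKerAlgEquivOfSurjective hp).symm.toAlgHom
  refine ⟨φ, fun x => ?_⟩
  have h1 : (Ideal.Quotient.mk (RingHom.ker p)) (φ x) =
      (Ideal.quotientKerAlgEquivOfSurjective hp).symm (π x) := DFunLike.congr_fun hφ x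
  have h2 : (Ideal.quotientKerAlgEquivOfSurjective hp)
      ((Ideal.Quotient.mk (RingHom.ker p)) (φ x)) = π x := by
    rw [h1, AlgEquiv.apply_symm_apply]
  exact h2

theorem ring_main {A B B' C C' C'' : Type u} [CommRing A] [CommRing B] [CommRing B'] [CommRing C]
    [CommRing C'] [CommRing C''] [Algebra A B] [Algebra A B'] [Algebra A C] [Algebra A C']
    [Algebra B C] [Algebra B C'']
    {πB : B' →ₐ[A] B} (hB : OmegaSh.IsUnivThickeningRing A B B' πB)
    {πC : C' →ₐ[A] C} (hC : OmegaSh.IsUnivThickeningRing A C C' πC)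
    {πC'' : C'' →ₐ[B] C} (hC'' : OmegaSh.IsUnivThickeningRing B C C'' πC'')
    (m : B' →+* C') (n : C' →+* C'')
    (hmA : ∀ a, m (algebraMap A B' a) = algebraMap A C' a)
    (hm : ∀ x, πC (m x) = algebraMap B C (πB x))
    (hn : ∀ x, πC'' (n x) = πC x)
    (hnm : ∀ x, n (m x) = algebraMap B C'' (πB x)) :
    Function.Surjective n ∧
      ∀ x, n x = 0 → x ∈ Ideal.map m (RingHom.ker πB.toRingHom) := by
  obtain ⟨J, hJ⟩ : ∃ J : Ideal C', J = Ideal.map m (RingHom.ker πB.toRingHom) := ⟨_, rfl⟩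
  have hJn : ∀ x ∈ J, n x = 0 := by
    intro x hx
    rw [hJ] at hx
    have hle : Ideal.map m (RingHom.ker πB.toRingHom) ≤ RingHom.ker n := by
      rw [Ideal.map_le_iff_le_comap]
      intro y hy
      rw [Ideal.mem_comap, RingHom.mem_ker, hnm]
      have hy' : πB y = 0 := (RingHom.mem_ker).mp hy
      rw [hy', map_zero]
    exact (RingHom.mem_ker).mp (hle hx)
  have hJπ : ∀ x ∈ J, πC x = 0 := by
    intro x hx
    rw [hJ] at hx
    have hle : Ideal.map m (RingHom.ker πB.toRingHom) ≤ RingHom.ker πC.toRingHom := by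
      rw [Ideal.map_le_iff_le_comap]
      intro y hy
      rw [Ideal.mem_comap, RingHom.mem_ker]
      show πC (m y) = 0
      have hy' : πB y = 0 := (RingHom.mem_ker).mp hy
      rw [hm, hy', map_zero]
    exact (RingHom.mem_ker).mp (hle hx)
  -- the quotient `E = C' / J`
  let q : C' →ₐ[A] C' ⧸ J := Ideal.Quotient.mkₐ A J
  have hq : Function.Surjective q := Ideal.Quotient.mkₐ_surjective A J
  have hq0 : ∀ x, q x = 0 → x ∈ J := fun x hx => Ideal.Quotient.eq_zero_iff_mem.mp hx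
  let mA : B' →ₐ[A] C' := { m with commutes' := fun a => hmA a }
  have hmA' : ∀ x, mA x = m x := fun _ => rfl
  have H : RingHom.ker πB.toRingHom ≤ RingHom.ker (q.comp mA).toRingHom := by
    intro x hx
    rw [RingHom.mem_ker]
    show Ideal.Quotient.mk J (m x) = 0
    rw [Ideal.Quotient.eq_zero_iff_mem, hJ]
    exact Ideal.mem_map_of_mem m hx
  let ρ : B →ₐ[A] C' ⧸ J := AlgHom.liftOfSurjective πB hB.1 (q.comp mA) H
  have hρ : ∀ x, ρ (πB x) = q (m x) :=
    fun x => AlgHom.liftOfSurjective_apply πB hB.1 (q.comp mA) H x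
  letI algBE : Algebra B (C' ⧸ J) := ρ.toRingHom.toAlgebra
  have halg : ∀ b, algebraMap B (C' ⧸ J) b = ρ b := fun b => rfl
  let πE₀ : C' ⧸ J →+* C := Ideal.Quotient.lift J πC.toRingHom hJπ
  have hπE₀ : ∀ x, πE₀ (q x) = πC x := fun x => Ideal.Quotient.lift_mk J πC.toRingHom hJπ
  let πE : C' ⧸ J →ₐ[B] C :=
    { πE₀ with
      commutes' := fun b => by
        obtain ⟨b', rfl⟩ := hB.1 b
        show πE₀ (algebraMap B (C' ⧸ J) (πB b')) = algebraMap B C (πB b')
        rw [halg, hρ, hπE₀, hm] }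
  have hπE : ∀ x, πE (q x) = πC x := hπE₀
  have hπEsurj : Function.Surjective πE := by
    intro c
    obtain ⟨c', rfl⟩ := hC.1 c
    exact ⟨q c', hπE c'⟩
  have hC2 : ∀ x y : C', πC x = 0 → πC y = 0 → x * y = 0 := by
    intro x y hx hy
    have h1 : x * y ∈ RingHom.ker πC.toRingHom ^ 2 := by
      rw [pow_two]
      exact Ideal.mul_mem_mul ((RingHom.mem_ker).mpr hx) ((RingHom.mem_ker).mpr hy)
    rw [hC.2.1] at h1
    exact (Ideal.mem_bot).mp h1
  have hkE : ∀ x y : C' ⧸ J, πE x = 0 → πE y = 0 → x * y = 0 := by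
    intro x y hx hy
    obtain ⟨x', rfl⟩ := hq x
    obtain ⟨y', rfl⟩ := hq y
    rw [hπE] at hx hy
    rw [← map_mul, hC2 x' y' hx hy, map_zero]
  obtain ⟨φ, hφ⟩ := exists_lift hC'' πE hπEsurj hkE
  let ψ : C' ⧸ J →+* C'' := Ideal.Quotient.lift J n hJn
  have hψ : ∀ x, ψ (q x) = n x := fun x => Ideal.Quotient.lift_mk J n hJn
  have hNE : (RingHom.ker πE.toRingHom) ^ 2 = ⊥ := by
    rw [pow_two, eq_bot_iff, Ideal.mul_le]
    intro x hx y hy
    rw [Ideal.mem_bot]
    exact hkE x y ((RingHom.mem_ker).mp hx) ((RingHom.mem_ker).mp hy)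
  have hnA : ∀ a, n (algebraMap A C' a) = algebraMap B C'' (algebraMap A B a) := by
    intro a
    rw [← hmA, hnm, πB.commutes]
  -- `φ ∘ n = q`
  let g₂ : C' →ₐ[A] C' ⧸ J :=
    { (φ.toRingHom.comp n) with
      commutes' := fun a => by
        show φ (n (algebraMap A C' a)) = algebraMap A (C' ⧸ J) a
        rw [hnA, φ.commutes, halg, ρ.commutes] }
  have hg₂ : ∀ x, g₂ x = φ (n x) := fun _ => rfl
  have hc : q = g₂ := by
    refine eq_of_univ πC hC.1 hC.2.2 (RingHom.ker πE.toRingHom) hNE q g₂ ?_ ?_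
    · intro x hx
      exact (RingHom.mem_ker).mpr ((hπE x).trans hx)
    · intro x
      rw [RingHom.mem_ker]
      show πE (q x - g₂ x) = 0
      rw [map_sub, hg₂, hπE, hφ, hn, sub_self]
  have hstar : ∀ x, φ (n x) = q x := fun x => (DFunLike.congr_fun hc x).symm
  -- `ψ ∘ φ = id`
  let g₃ : C'' →ₐ[B] C'' :=
    { (ψ.comp φ.toRingHom) with
      commutes' := fun b => by
        obtain ⟨b', rfl⟩ := hB.1 b
        show ψ (φ (algebraMap B C'' (πB b'))) = algebraMap B C'' (πB b')
        rw [φ.commutes, halg, hρ, hψ, hnm] }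
  have hg₃ : ∀ x, g₃ x = ψ (φ x) := fun _ => rfl
  have hd : AlgHom.id B C'' = g₃ := by
    refine eq_of_univ πC'' hC''.1 hC''.2.2 (RingHom.ker πC''.toRingHom) hC''.2.1
      (AlgHom.id B C'') g₃ ?_ ?_
    · intro x hx
      exact (RingHom.mem_ker).mpr hx
    · intro x
      rw [RingHom.mem_ker]
      show πC'' (x - g₃ x) = 0
      obtain ⟨y, hy⟩ := hq (φ x)
      rw [map_sub, hg₃, ← hy, hψ, hn, ← hπE, hy, hφ, sub_self]
  have hss : ∀ x, ψ (φ x) = x := fun x => (DFunLike.congr_fun hd x).symm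
  refine ⟨fun x => ?_, fun x hx => ?_⟩
  · obtain ⟨y, hy⟩ := hq (φ x)
    exact ⟨y, by rw [← hψ, hy, hss]⟩
  · have h1 : q x = 0 := by rw [← hstar, hx, map_zero]
    rw [← hJ]
    exact hq0 x h1

end Ring

end Groth.Agent.Lib.UnivThickTransH7
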