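import Mathlib
import Groth.Prelude
import Groth.Agent.Lib.UnivThickTrans1_helper7
import Groth.Agent.Lib.RegSecIso_helper7

/-!
# The conormal / conormal / differentials sequence of a formally smooth morphism: ring level
(helper7)

For `AY → AX` formally smooth, `AX → C`, universal first order thickenings `A → C` (over `AX`)
and `R → C` (over `AY`) and the canonical `κ : R → A`: `κ` has a retraction `ρ` compatible with
the projections to `C`.  Consequences for `I = ker (A → C)` and `C ⊗_A Ω_{A/R}`.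
APPEND-ONLY once landed.
-/

set_option autoImplicit false
set_option linter.style.haveILetI false

universe u

namespace Groth.Agent.Lib.OmegaSplitH7

open Groth.Agent.Lib.UnivThickKaehler Groth.Agent.Lib.UnivThickTransH7 TensorProduct

section Ring

/-- The canonical map between universal thickenings has a retraction when `AY → AX` is formally
smooth. -/
theorem ring9786 {AY AX C A R : Type u} [CommRing AY] [CommRing AX] [CommRing C] [CommRing A]
    [CommRing R] [Algebra AY AX] [Algebra.FormallySmooth AY AX]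
    [Algebra AX A] [Algebra AX C] [Algebra AY R] [Algebra AY C]
    {π' : A →ₐ[AX] C} (hA : OmegaSh.IsUnivThickeningRing AX C A π')
    {π'' : R →ₐ[AY] C} (hR : OmegaSh.IsUnivThickeningRing AY C R π'')
    (hYXC : ∀ y : AY, algebraMap AX C (algebraMap AY AX y) = algebraMap AY C y)
    (κ : R →+* A) (hκπ : ∀ r, π' (κ r) = π'' r)
    (hκY : ∀ y : AY, κ (algebraMap AY R y) = algebraMap AX A (algebraMap AY AX y)) :
    ∃ ρ : A →+* R, (∀ r, ρ (κ r) = r) ∧ ∀ x, π'' (ρ x) = π' x := by
  obtain ⟨hRs, hRk, hRu⟩ := hR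
  let f : AX →ₐ[AY] C := { algebraMap AX C with commutes' := hYXC }
  have hf : ∀ x, f x = algebraMap AX C x := fun _ => rfl
  let lam : AX →ₐ[AY] R := Algebra.FormallySmooth.liftOfSurjective f π'' hRs ⟨2, hRk⟩
  have hlam : ∀ x, π'' (lam x) = algebraMap AX C x := fun x =>
    (Algebra.FormallySmooth.liftOfSurjective_apply f π'' hRs ⟨2, hRk⟩ x).trans (hf x)
  letI algXR : Algebra AX R := lam.toRingHom.toAlgebra
  have halg : ∀ x, algebraMap AX R x = lam x := fun _ => rfl
  let πX : R →ₐ[AX] C :=
    { π''.toRingHom with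
      commutes' := fun x => by
        show π'' (algebraMap AX R x) = algebraMap AX C x
        rw [halg, hlam] }
  have hπX : ∀ x, πX x = π'' x := fun _ => rfl
  have hπXs : Function.Surjective πX := by
    intro c
    obtain ⟨r, hr⟩ := hRs c
    exact ⟨r, (hπX r).trans hr⟩
  have hk : ∀ x y : R, πX x = 0 → πX y = 0 → x * y = 0 := by
    intro x y hx hy
    have hx' : π'' x = 0 := (hπX x).symm.trans hx
    have hy' : π'' y = 0 := (hπX y).symm.trans hy
    have h1 : x * y ∈ RingHom.ker π''.toRingHom ^ 2 := by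
      rw [pow_two]
      exact Ideal.mul_mem_mul ((RingHom.mem_ker).mpr hx') ((RingHom.mem_ker).mpr hy')
    rw [hRk] at h1
    exact (Ideal.mem_bot).mp h1
  obtain ⟨φ, hφ⟩ := exists_lift hA πX hπXs hk
  have hφ' : ∀ x, π'' (φ x) = π' x := fun x => (hπX (φ x)).symm.trans (hφ x)
  let g₂ : R →ₐ[AY] R :=
    { (φ.toRingHom.comp κ) with
      commutes' := fun y => by
        show φ (κ (algebraMap AY R y)) = algebraMap AY R y
        rw [hκY, φ.commutes, halg, lam.commutes] }
  have hg₂ : ∀ x, g₂ x = φ (κ x) := fun _ => rfl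
  have h12 : AlgHom.id AY R = g₂ := by
    refine eq_of_univ π'' hRs hRu (RingHom.ker π''.toRingHom) hRk (AlgHom.id AY R) g₂ ?_ ?_
    · intro x hx
      exact (RingHom.mem_ker).mpr hx
    · intro x
      rw [RingHom.mem_ker]
      show π'' (x - g₂ x) = 0
      rw [map_sub, hg₂, hφ', hκπ, sub_self]
  refine ⟨φ.toRingHom, fun r => ?_, fun x => hφ' x⟩
  exact ((hg₂ r).symm.trans (DFunLike.congr_fun h12 r).symm)

/-- Consequences of a retraction `ρ` of `R → A` compatible with a square zero surjection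
`A → C`: the kernel of `I → C ⊗_A Ω_{A/R}` consists of elements coming from `R`, and this map is
surjective. -/
theorem ring_split {R A C : Type u} [CommRing R] [CommRing A] [CommRing C] [Algebra R A]
    [Algebra A C] (hsurj : Function.Surjective (algebraMap A C))
    (hI : RingHom.ker (algebraMap A C) ^ 2 = ⊥) (ρ : A →+* R)
    (hρκ : ∀ r, ρ (algebraMap R A r) = r)
    (hρπ : ∀ x, algebraMap A C (algebraMap R A (ρ x)) = algebraMap A C x) :
    (∀ x : RingHom.ker (algebraMap A C),
        KaehlerDifferential.kerCotangentToTensor R A C (Ideal.toCotangent _ x) = 0 →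
          (x : A) = algebraMap R A (ρ x)) ∧
      Function.Surjective (KaehlerDifferential.kerCotangentToTensor R A C) := by
  have hN : ∀ x : A, x - algebraMap R A (ρ x) ∈ RingHom.ker (algebraMap A C) := by
    intro x
    rw [RingHom.mem_ker, map_sub, hρπ, sub_self]
  have hsq : ∀ x y : A, x ∈ RingHom.ker (algebraMap A C) → y ∈ RingHom.ker (algebraMap A C) →
      x * y = 0 := by
    intro x y hx hy
    have h1 : x * y ∈ RingHom.ker (algebraMap A C) ^ 2 := by
      rw [pow_two]
      exact Ideal.mul_mem_mul hx hy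
    rw [hI] at h1
    exact (Ideal.mem_bot).mp h1
  let D₀ : A →ₗ[R] A :=
    { toFun := fun x => x - algebraMap R A (ρ x)
      map_add' := fun x y => by
        show (x + y) - algebraMap R A (ρ (x + y)) =
          (x - algebraMap R A (ρ x)) + (y - algebraMap R A (ρ y))
        rw [map_add, map_add]
        ring
      map_smul' := fun r x => by
        show r • x - algebraMap R A (ρ (r • x)) = r • (x - algebraMap R A (ρ x))
        rw [Algebra.smul_def, Algebra.smul_def, map_mul, hρκ, map_mul]
        ring }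
  let D' : Derivation R A A := Derivation.mk' D₀ (fun x y => by
    show x * y - algebraMap R A (ρ (x * y)) =
      x • (y - algebraMap R A (ρ y)) + y • (x - algebraMap R A (ρ x))
    have h0 := hsq _ _ (hN x) (hN y)
    rw [smul_eq_mul, smul_eq_mul, map_mul, map_mul]
    linear_combination (-1 : A) * h0)
  have hD' : ∀ x, D' x = x - algebraMap R A (ρ x) := fun _ => rfl
  let L : Ω[A⁄R] →ₗ[A] A := D'.liftKaehlerDifferential
  have hL : ∀ x, L (KaehlerDifferential.D R A x) = x - algebraMap R A (ρ x) := fun x =>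
    (Derivation.liftKaehlerDifferential_comp_D D' x).trans (hD' x)
  have hLmem : ∀ ω : Ω[A⁄R], L ω ∈ RingHom.ker (algebraMap A C) := by
    intro ω
    have hω : ω ∈ Submodule.span A (Set.range (KaehlerDifferential.D R A)) := by
      rw [KaehlerDifferential.span_range_derivation]
      trivial
    refine Submodule.span_induction ?_ ?_ ?_ ?_ hω
    · rintro _ ⟨x, rfl⟩
      rw [hL]
      exact hN x
    · rw [map_zero]
      exact Ideal.zero_mem _
    · intro x y _ _ hx hy
      rw [map_add]
      exact Ideal.add_mem _ hx hy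
    · intro a x _ hx
      rw [map_smul, smul_eq_mul]
      exact Ideal.mul_mem_left _ a hx
  refine ⟨fun x hx => ?_, ?_⟩
  · have h1 : (TensorProduct.mk A C Ω[A⁄R] 1) (KaehlerDifferential.D R A (x : A)) = 0 := hx
    have h2 : KaehlerDifferential.D R A (x : A) ∈
        RingHom.ker (algebraMap A C) • (⊤ : Submodule A Ω[A⁄R]) :=
      Groth.Agent.Lib.RegSecIsoH7.mem_ker_smul_top_of_isBaseChange hsurj
        (TensorProduct.mk A C Ω[A⁄R] 1) (TensorProduct.isBaseChange A Ω[A⁄R] C) _ h1
    have h3 : ∀ ω ∈ RingHom.ker (algebraMap A C) • (⊤ : Submodule A Ω[A⁄R]), L ω = 0 := by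
      intro ω hω
      refine Submodule.smul_induction_on hω ?_ ?_
      · intro r hr n _
        rw [map_smul, smul_eq_mul]
        exact hsq r (L n) hr (hLmem n)
      · intro a b ha hb
        rw [map_add, ha, hb, add_zero]
    have h4 := h3 _ h2
    rw [hL] at h4
    exact sub_eq_zero.mp h4
  · intro t
    induction t using TensorProduct.induction_on with
    | zero => exact ⟨0, map_zero _⟩
    | tmul c ω =>
      have hω : ω ∈ Submodule.span A (Set.range (KaehlerDifferential.D R A)) := by
        rw [KaehlerDifferential.span_range_derivation]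
        trivial
      revert c
      refine Submodule.span_induction
        (p := fun ω _ => ∀ c : C, ∃ m, KaehlerDifferential.kerCotangentToTensor R A C m =
          c ⊗ₜ[A] ω) ?_ ?_ ?_ ?_ hω
      · rintro _ ⟨x, rfl⟩ c
        obtain ⟨c', rfl⟩ := hsurj c
        refine ⟨c' • Ideal.toCotangent _ ⟨x - algebraMap R A (ρ x), hN x⟩, ?_⟩
        rw [map_smul, KaehlerDifferential.kerCotangentToTensor_toCotangent]
        show c' • ((1 : C) ⊗ₜ[A] KaehlerDifferential.D R A (x - algebraMap R A (ρ x))) = _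
        rw [map_sub, Derivation.map_algebraMap, sub_zero, TensorProduct.smul_tmul',
          Algebra.smul_def, mul_one]
      · intro c
        exact ⟨0, by rw [map_zero, TensorProduct.tmul_zero]⟩
      · intro x y _ _ hx hy c
        obtain ⟨m₁, h₁⟩ := hx c
        obtain ⟨m₂, h₂⟩ := hy c
        exact ⟨m₁ + m₂, by rw [map_add, h₁, h₂, TensorProduct.tmul_add]⟩
      · intro a x _ hx c
        obtain ⟨m, hm⟩ := hx (a • c)
        refine ⟨m, ?_⟩
        rw [hm, TensorProduct.smul_tmul]
    | add x y hx hy =>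
      obtain ⟨m₁, h₁⟩ := hx
      obtain ⟨m₂, h₂⟩ := hy
      exact ⟨m₁ + m₂, by rw [map_add, h₁, h₂]⟩

/-- Abstract construction of a retraction from base change data. -/
theorem exists_retraction {A R C : Type u} [CommRing A] [CommRing R] [CommRing C] [Algebra A C]
    (ρ : A →+* R) (π'' : R →+* C) (hπρ : ∀ a, π'' (ρ a) = algebraMap A C a)
    {N₁ M₁ N₂ T : Type u} [AddCommGroup N₁] [Module A N₁] [AddCommGroup M₁] [Module C M₁]
    [Module A M₁] [IsScalarTower A C M₁] (c₁ : N₁ →ₗ[A] M₁) (hbc : IsBaseChange C c₁)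
    (ι₁ : N₁ →+ A) (hι₁ : ∀ (a : A) (n : N₁), ι₁ (a • n) = a * ι₁ n)
    [AddCommGroup N₂] [Module R N₂] (ι₂ : N₂ →+ R)
    (hι₂ : ∀ (r : R) (n : N₂), ι₂ (r • n) = r * ι₂ n) (hinj : Function.Injective ι₂)
    [AddCommGroup T] [Module C T] (c₂ : N₂ →+ T)
    (hc₂ : ∀ (r : R) (n : N₂), c₂ (r • n) = π'' r • c₂ n)
    (H : ∀ n₁, ∃ n₂, ι₂ n₂ = ρ (ι₁ n₁)) :
    ∃ R₀ : M₁ →ₗ[C] T, ∀ n₁ n₂, ι₂ n₂ = ρ (ι₁ n₁) → R₀ (c₁ n₁) = c₂ n₂ := by
  classical
  choose σ hσ using H
  have hσu : ∀ n₁ n₂, ι₂ n₂ = ρ (ι₁ n₁) → n₂ = σ n₁ :=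
    fun n₁ n₂ h => hinj (h.trans (hσ n₁).symm)
  letI mAT : Module A T := Module.compHom T (algebraMap A C)
  haveI tw : IsScalarTower A C T := IsScalarTower.of_algebraMap_smul fun _ _ => rfl
  let g₀ : N₁ →ₗ[A] T :=
    { toFun := fun n => c₂ (σ n)
      map_add' := fun x y => by
        have h : σ x + σ y = σ (x + y) :=
          hσu (x + y) (σ x + σ y) (by rw [map_add, map_add, map_add, hσ, hσ])
        show c₂ (σ (x + y)) = c₂ (σ x) + c₂ (σ y)
        rw [← h, map_add]
      map_smul' := fun a x => by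
        have h : ρ a • σ x = σ (a • x) :=
          hσu (a • x) (ρ a • σ x) (by rw [hι₂, hσ, hι₁, map_mul])
        show c₂ (σ (a • x)) = algebraMap A C a • c₂ (σ x)
        rw [← h, hc₂, hπρ] }
  have hg₀ : ∀ n, g₀ n = c₂ (σ n) := fun _ => rfl
  refine ⟨hbc.lift g₀, fun n₁ n₂ h => ?_⟩
  rw [hbc.lift_eq, hg₀, hσu n₁ n₂ h]

end Ring

end Groth.Agent.Lib.OmegaSplitH7
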