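import Mathlib
import Groth.Prelude
import Groth.Agent.Lib.OmegaSplit1_helper7
import Groth.Agent.Lib.ConormTrans4_helper7

/-!
# The conormal module of a formally unramified local complete intersection: ring level (helper7)

`AY → AP` formally smooth, `AP → C` surjective with kernel generated by an `H_1`-regular sequence,
`R → C` the universal first order thickening of `C` over `AY`: then `ker (R → C)` is a finite
projective `C`-module (stated for a module `M` in semilinear bijection with the kernel).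
APPEND-ONLY once landed.
-/

set_option autoImplicit false
set_option linter.style.haveILetI false

universe u

namespace Groth.Agent.Lib.LciConormH7

open Groth.Agent.Lib.UnivThickKaehler Groth.Agent.Lib.UnivThickTransH7
open Groth.Agent.Lib.OmegaSplitH7

section Ring

/-- For a surjection `AP → C` with kernel `K`, the quotient `AP / K²` is the universal first
order thickening of `C` over `AP`. -/
theorem isUnivThickeningRing_quot_sq {AP C : Type u} [CommRing AP] [CommRing C] [Algebra AP C]
    (hsurj : Function.Surjective (algebraMap AP C)) :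
    ∃ π' : (AP ⧸ RingHom.ker (algebraMap AP C) ^ 2) →ₐ[AP] C,
      (∀ p, π' (algebraMap AP (AP ⧸ RingHom.ker (algebraMap AP C) ^ 2) p) = algebraMap AP C p) ∧
      OmegaSh.IsUnivThickeningRing AP C (AP ⧸ RingHom.ker (algebraMap AP C) ^ 2) π' := by
  have hle : ∀ a : AP, a ∈ RingHom.ker (algebraMap AP C) ^ 2 → (Algebra.ofId AP C) a = 0 := by
    intro a ha
    have h1 : a ∈ RingHom.ker (algebraMap AP C) := Ideal.pow_le_self two_ne_zero ha
    exact (RingHom.mem_ker).mp h1
  let π' : (AP ⧸ RingHom.ker (algebraMap AP C) ^ 2) →ₐ[AP] C :=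
    Ideal.Quotient.liftₐ (RingHom.ker (algebraMap AP C) ^ 2) (Algebra.ofId AP C) hle
  have hπ' : ∀ p, π' (algebraMap AP (AP ⧸ RingHom.ker (algebraMap AP C) ^ 2) p) =
      algebraMap AP C p := fun p => π'.commutes p
  have hmk : ∀ x : AP ⧸ RingHom.ker (algebraMap AP C) ^ 2,
      ∃ p, algebraMap AP (AP ⧸ RingHom.ker (algebraMap AP C) ^ 2) p = x := fun x => by
    obtain ⟨p, hp⟩ := Ideal.Quotient.mk_surjective x
    exact ⟨p, hp⟩
  have hzero : ∀ p : AP, p ∈ RingHom.ker (algebraMap AP C) ^ 2 →
      algebraMap AP (AP ⧸ RingHom.ker (algebraMap AP C) ^ 2) p = 0 := fun p hp =>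
    Ideal.Quotient.eq_zero_iff_mem.mpr hp
  refine ⟨π', hπ', ?_, ?_, ?_⟩
  · intro c
    obtain ⟨p, rfl⟩ := hsurj c
    exact ⟨_, hπ' p⟩
  · have hmul : RingHom.ker π'.toRingHom * RingHom.ker π'.toRingHom = ⊥ := by
      rw [eq_bot_iff, Ideal.mul_le]
      intro x hx y hy
      rw [Ideal.mem_bot]
      obtain ⟨p, rfl⟩ := hmk x
      obtain ⟨q, rfl⟩ := hmk y
      have hp : p ∈ RingHom.ker (algebraMap AP C) := by
        rw [RingHom.mem_ker, ← hπ' p]
        exact (RingHom.mem_ker).mp hx
      have hq : q ∈ RingHom.ker (algebraMap AP C) := by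
        rw [RingHom.mem_ker, ← hπ' q]
        exact (RingHom.mem_ker).mp hy
      rw [← map_mul]
      apply hzero
      exact (pow_two (RingHom.ker (algebraMap AP C))).symm ▸ Ideal.mul_mem_mul hp hq
    exact (pow_two _).trans hmul
  · intro D _ _ N hN a
    have hKN : Ideal.map (algebraMap AP D) (RingHom.ker (algebraMap AP C)) ≤ N := by
      rw [Ideal.map_le_iff_le_comap]
      intro k hk
      rw [Ideal.mem_comap]
      apply Ideal.Quotient.eq_zero_iff_mem.mp
      have h1 : Ideal.Quotient.mk N (algebraMap AP D k) = algebraMap AP (D ⧸ N) k := rfl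
      rw [h1, ← a.commutes, (RingHom.mem_ker).mp hk, map_zero]
    have hle' : ∀ x : AP, x ∈ RingHom.ker (algebraMap AP C) ^ 2 →
        (Algebra.ofId AP D) x = 0 := by
      intro x hx
      have h1 : algebraMap AP D x ∈
          Ideal.map (algebraMap AP D) (RingHom.ker (algebraMap AP C) ^ 2) :=
        Ideal.mem_map_of_mem _ hx
      rw [Ideal.map_pow] at h1
      have h2 := Ideal.pow_right_mono hKN 2 h1
      rw [hN] at h2
      exact (Ideal.mem_bot).mp h2
    let a' : (AP ⧸ RingHom.ker (algebraMap AP C) ^ 2) →ₐ[AP] D :=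
      Ideal.Quotient.liftₐ (RingHom.ker (algebraMap AP C) ^ 2) (Algebra.ofId AP D) hle'
    refine ⟨a', ?_, ?_⟩
    · apply AlgHom.ext
      intro x
      obtain ⟨p, rfl⟩ := hmk x
      show Ideal.Quotient.mk N (a' (algebraMap AP _ p)) = a (π' (algebraMap AP _ p))
      rw [a'.commutes, hπ', a.commutes]
      rfl
    · intro a'' _
      apply AlgHom.ext
      intro x
      obtain ⟨p, rfl⟩ := hmk x
      rw [a''.commutes, a'.commutes]

/-- Abstract form: the kernel of the universal thickening of `C` over `AY` is a retract of the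
free module on an `H_1`-regular generating sequence of the kernel of `AP → C`, for `AY → AP`
formally smooth. -/
theorem finite_projective_of_lci' {AY AP C R A : Type u} [CommRing AY] [CommRing AP] [CommRing C]
    [CommRing R] [CommRing A] [Algebra AY AP] [Algebra.FormallySmooth AY AP] [Algebra AP C]
    [Algebra AY C] [Algebra AY R] [Algebra AP A]
    (hYPC : ∀ y : AY, algebraMap AP C (algebraMap AY AP y) = algebraMap AY C y)
    (rs : List AP) (hrs : CAlgX.IsH1Regular rs.get)
    (hK : RingHom.ker (algebraMap AP C) = Ideal.ofList rs)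
    {π' : A →ₐ[AP] C} (hA : OmegaSh.IsUnivThickeningRing AP C A π')
    (hAsurj : Function.Surjective (algebraMap AP A))
    (hAker : ∀ p : AP, algebraMap AP A p = 0 →
      p ∈ RingHom.ker (algebraMap AP C) * RingHom.ker (algebraMap AP C))
    {π'' : R →ₐ[AY] C} (hR : OmegaSh.IsUnivThickeningRing AY C R π'')
    {N M : Type u} [AddCommGroup N] [Module R N] [AddCommGroup M] [Module C M]
    (ι₂ : N →+ R) (hι₂ : ∀ (r : R) (n : N), ι₂ (r • n) = r * ι₂ n)
    (hinj : Function.Injective ι₂) (hmem : ∀ n, π'' (ι₂ n) = 0)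
    (hex : ∀ j : R, π'' j = 0 → ∃ n, ι₂ n = j)
    (c : N →+ M) (hc : ∀ (r : R) (n : N), c (r • n) = π'' r • c n)
    (hcb : Function.Bijective c) :
    Module.Finite C M ∧ Module.Projective C M := by
  classical
  letI algYA : Algebra AY A := ((algebraMap AP A).comp (algebraMap AY AP)).toAlgebra
  have halgYA : ∀ y, algebraMap AY A y = algebraMap AP A (algebraMap AY AP y) := fun _ => rfl
  let p : A →ₐ[AY] C :=
    { π'.toRingHom with
      commutes' := fun y => by
        show π' (algebraMap AY A y) = algebraMap AY C y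
        rw [halgYA, π'.commutes, hYPC] }
  have hp : ∀ x, p x = π' x := fun _ => rfl
  have hAs : Function.Surjective π' := hA.1
  have hAk : RingHom.ker π'.toRingHom ^ 2 = ⊥ := hA.2.1
  have hps : Function.Surjective p := by
    intro c₀
    obtain ⟨x, hx⟩ := hAs c₀
    exact ⟨x, (hp x).trans hx⟩
  have hpk : ∀ x y : A, p x = 0 → p y = 0 → x * y = 0 := by
    intro x y hx hy
    have hx' : π' x = 0 := (hp x).symm.trans hx
    have hy' : π' y = 0 := (hp y).symm.trans hy
    have h1 : x * y ∈ RingHom.ker π'.toRingHom ^ 2 := by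
      rw [pow_two]
      exact Ideal.mul_mem_mul ((RingHom.mem_ker).mpr hx') ((RingHom.mem_ker).mpr hy')
    rw [hAk] at h1
    exact (Ideal.mem_bot).mp h1
  obtain ⟨κ, hκ⟩ := exists_lift hR p hps hpk
  have hκπ : ∀ r, π' (κ.toRingHom r) = π'' r := fun r => (hp _).symm.trans (hκ r)
  have hκY : ∀ y : AY, κ.toRingHom (algebraMap AY R y) =
      algebraMap AP A (algebraMap AY AP y) := fun y => (κ.commutes y).trans (halgYA y)
  obtain ⟨ρ, hρ1, hρ2⟩ := ring9786 hA hR hYPC κ.toRingHom hκπ hκY
  have hκπ' : ∀ r, π' (κ r) = π'' r := hκπ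
  have hρ1' : ∀ r, ρ (κ r) = r := hρ1
  -- generators
  have hKs : RingHom.ker (algebraMap AP C) = Ideal.span (Set.range rs.get) :=
    hK.trans (Groth.Agent.Lib.ConormTransH7.ofList_eq_span_range rs)
  have hπ'alg : ∀ q : AP, π' (algebraMap AP A q) = algebraMap AP C q := fun q => π'.commutes q
  have hrsK : ∀ l, algebraMap AP C (rs.get l) = 0 := by
    intro l
    have h1 : rs.get l ∈ RingHom.ker (algebraMap AP C) := by
      rw [hKs]
      exact Ideal.subset_span ⟨l, rfl⟩
    exact (RingHom.mem_ker).mp h1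
  have hρJ : ∀ l, π'' (ρ (algebraMap AP A (rs.get l))) = 0 := fun l => by
    rw [hρ2, hπ'alg, hrsK]
  choose t ht using fun l => hex (ρ (algebraMap AP A (rs.get l))) (hρJ l)
  let β' : (Fin rs.length → C) →ₗ[C] M := Fintype.linearCombination C (fun l => c (t l))
  have hβ' : ∀ γ : Fin rs.length → C, β' γ = ∑ l, γ l • c (t l) := fun γ =>
    Fintype.linearCombination_apply C (fun l => c (t l)) γ
  -- coordinates
  have hcoordex : ∀ n : N, ∃ B : Fin rs.length → AP,
      κ (ι₂ n) = algebraMap AP A (∑ l, B l * rs.get l) := by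
    intro n
    obtain ⟨p₀, hp₀⟩ := hAsurj (κ (ι₂ n))
    have h0 : algebraMap AP C p₀ = 0 := by
      rw [← hπ'alg, hp₀, hκπ', hmem]
    have hp₀K : p₀ ∈ Ideal.span (Set.range rs.get) := by
      rw [← hKs]
      exact (RingHom.mem_ker).mpr h0
    obtain ⟨B, hB⟩ := Ideal.mem_span_range_iff_exists_fun.mp hp₀K
    exact ⟨B, by rw [hB]; exact hp₀.symm⟩
  choose B hB using hcoordex
  have huniq : ∀ (b₁ b₂ : Fin rs.length → AP),
      algebraMap AP A (∑ l, b₁ l * rs.get l) = algebraMap AP A (∑ l, b₂ l * rs.get l) →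
        ∀ l, algebraMap AP C (b₁ l) = algebraMap AP C (b₂ l) := by
    intro b₁ b₂ h l
    have e1 : ∑ l, (b₁ l - b₂ l) * rs.get l = ∑ l, b₁ l * rs.get l - ∑ l, b₂ l * rs.get l := by
      rw [← Finset.sum_sub_distrib]
      exact Finset.sum_congr rfl (fun l _ => sub_mul _ _ _)
    have h1 : algebraMap AP A (∑ l, (b₁ l - b₂ l) * rs.get l) = 0 := by
      rw [e1, map_sub, h, sub_self]
    have h2 := hAker _ h1
    rw [hKs] at h2
    have h3 := Groth.Agent.Lib.ConormTrans3H7.coeff_mem_of_sum_mem_sq rs.get hrs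
      (fun l => b₁ l - b₂ l) h2 l
    rw [← hKs] at h3
    have h4 : algebraMap AP C (b₁ l - b₂ l) = 0 := (RingHom.mem_ker).mp h3
    rw [map_sub] at h4
    exact sub_eq_zero.mp h4
  -- the coordinate map on `N`
  have hα₀add : ∀ (n n' : N) (l : Fin rs.length),
      algebraMap AP C (B (n + n') l) = algebraMap AP C (B n l) + algebraMap AP C (B n' l) := by
    intro n n' l
    have h1 := huniq (B (n + n')) (fun l => B n l + B n' l) (by
      have e1 : ∑ l, (B n l + B n' l) * rs.get l =
          ∑ l, B n l * rs.get l + ∑ l, B n' l * rs.get l := by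
        rw [← Finset.sum_add_distrib]
        exact Finset.sum_congr rfl (fun l _ => add_mul _ _ _)
      rw [e1, map_add, ← hB, ← hB, ← hB, map_add, map_add]) l
    rw [h1, map_add]
  have hα₀smul : ∀ (r : R) (n : N) (l : Fin rs.length),
      algebraMap AP C (B (r • n) l) = π'' r * algebraMap AP C (B n l) := by
    intro r n l
    obtain ⟨q, hq⟩ := hAsurj (κ r)
    have hq' : algebraMap AP C q = π'' r := by rw [← hπ'alg, hq, hκπ']
    have h1 := huniq (B (r • n)) (fun l => q * B n l) (by
      have e1 : ∑ l, (q * B n l) * rs.get l = q * ∑ l, B n l * rs.get l := by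
        rw [Finset.mul_sum]
        exact Finset.sum_congr rfl (fun l _ => mul_assoc _ _ _)
      rw [e1, map_mul, ← hB, ← hB, hι₂, map_mul, hq]) l
    rw [h1, map_mul, hq']
  -- the inverse of `c`
  obtain ⟨e, he⟩ : ∃ e : M → N, ∀ m, c (e m) = m :=
    ⟨Function.surjInv hcb.2, Function.surjInv_eq hcb.2⟩
  have headd : ∀ m m', e (m + m') = e m + e m' := by
    intro m m'
    apply hcb.1
    rw [map_add, he, he, he]
  have hesmul : ∀ (r : R) (m : M), e (π'' r • m) = r • e m := by
    intro r m
    apply hcb.1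
    rw [hc, he, he]
  let α : M →ₗ[C] (Fin rs.length → C) :=
    { toFun := fun m l => algebraMap AP C (B (e m) l)
      map_add' := fun m m' => by
        funext l
        show algebraMap AP C (B (e (m + m')) l) =
          algebraMap AP C (B (e m) l) + algebraMap AP C (B (e m') l)
        rw [headd, hα₀add]
      map_smul' := fun γ m => by
        obtain ⟨r, rfl⟩ := hR.1 γ
        funext l
        show algebraMap AP C (B (e (π'' r • m)) l) = π'' r * algebraMap AP C (B (e m) l)
        rw [hesmul, hα₀smul] }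
  have hα : ∀ m l, α m l = algebraMap AP C (B (e m) l) := fun _ _ => rfl
  have hβα : ∀ m, β' (α m) = m := by
    intro m
    have h1 : ∀ l, α m l • c (t l) = c (ρ (algebraMap AP A (B (e m) l)) • t l) := by
      intro l
      rw [hc, hρ2, hπ'alg, hα]
    have h2 : ι₂ (∑ l, ρ (algebraMap AP A (B (e m) l)) • t l) = ι₂ (e m) := by
      rw [map_sum]
      have h3 : ∀ l, ι₂ (ρ (algebraMap AP A (B (e m) l)) • t l) =
          ρ (algebraMap AP A (B (e m) l * rs.get l)) := by
        intro l
        rw [hι₂, ht, ← map_mul, ← map_mul]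
      rw [Finset.sum_congr rfl (fun l _ => h3 l), ← map_sum, ← map_sum, ← hB, hρ1']
    have h4 : ∑ l, ρ (algebraMap AP A (B (e m) l)) • t l = e m := hinj h2
    rw [hβ', Finset.sum_congr rfl (fun l _ => h1 l), ← map_sum, h4, he]
  refine ⟨Module.Finite.of_surjective β' (fun m => ⟨α m, hβα m⟩), ?_⟩
  exact Module.Projective.of_split α β' (LinearMap.ext hβα)

/-- The kernel of the universal thickening of `C` over `AY` is finite projective when
`AY → AP` is formally smooth and `AP → C` is surjective with `H_1`-regular kernel. -/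
theorem finite_projective_of_lci {AY AP C R : Type u} [CommRing AY] [CommRing AP] [CommRing C]
    [CommRing R] [Algebra AY AP] [Algebra.FormallySmooth AY AP] [Algebra AP C]
    [Algebra AY C] [Algebra AY R]
    (hYPC : ∀ y : AY, algebraMap AP C (algebraMap AY AP y) = algebraMap AY C y)
    (hsurj : Function.Surjective (algebraMap AP C))
    (rs : List AP) (hrs : CAlgX.IsH1Regular rs.get)
    (hK : RingHom.ker (algebraMap AP C) = Ideal.ofList rs)
    {π'' : R →ₐ[AY] C} (hR : OmegaSh.IsUnivThickeningRing AY C R π'')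
    {N M : Type u} [AddCommGroup N] [Module R N] [AddCommGroup M] [Module C M]
    (ι₂ : N →+ R) (hι₂ : ∀ (r : R) (n : N), ι₂ (r • n) = r * ι₂ n)
    (hinj : Function.Injective ι₂) (hmem : ∀ n, π'' (ι₂ n) = 0)
    (hex : ∀ j : R, π'' j = 0 → ∃ n, ι₂ n = j)
    (c : N →+ M) (hc : ∀ (r : R) (n : N), c (r • n) = π'' r • c n)
    (hcb : Function.Bijective c) :
    Module.Finite C M ∧ Module.Projective C M := by
  obtain ⟨π', hπ', hA⟩ := isUnivThickeningRing_quot_sq (AP := AP) (C := C) hsurj
  refine finite_projective_of_lci' hYPC rs hrs hK hA ?_ ?_ hR ι₂ hι₂ hinj hmem hex c hc hcb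
  · intro x
    obtain ⟨p, hp⟩ := Ideal.Quotient.mk_surjective x
    exact ⟨p, hp⟩
  · intro p hp
    have h1 : p ∈ RingHom.ker (algebraMap AP C) ^ 2 := Ideal.Quotient.eq_zero_iff_mem.mp hp
    rw [pow_two] at h1
    exact h1

end Ring

end Groth.Agent.Lib.LciConormH7
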