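import Mathlib
import Groth.Prelude
import Groth.Agent.Lib.UnivThickTrans1_helper7
import Groth.Agent.Lib.UnivThickRing_helper7
import Groth.Agent.Lib.ConormTrans2_helper7
import Groth.Agent.Lib.ThickAff6_helper6

/-!
# Transitivity of conormal sheaves of universal first order thickenings (helper7)

For formally unramified `Z → Y → X` the sequence `i^* C_{Y/X} → C_{Z/X} → C_{Z/Y} → 0` of conormal
sheaves of the universal first order thickenings is exact. Globalises `ring_main`.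
APPEND-ONLY once landed.
-/

set_option autoImplicit false
set_option linter.style.haveILetI false

universe u

open CategoryTheory CategoryTheory.Limits AlgebraicGeometry Opposite TopologicalSpace
open QcqsLoc QCohExtn

namespace Groth.Agent.Lib.UnivThickTransH7

open PBH8 Groth.Agent.Lib.RegSecIsoH7 Groth.Agent.Lib.ConormSeqH4 Groth.Agent.Lib.OmegaCompat2H4
open Groth.Agent.Lib.ConormDiffH4 Groth.Agent.Lib.OmegaAffH4 Groth.Agent.Lib.ConormTransH7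

section AppLE

theorem appLE_triangle {P Q S : Scheme.{u}} (f : P ⟶ Q) (g : Q ⟶ S) (k : P ⟶ S)
    (h : f ≫ g = k) {US : S.Opens} {UQ : Q.Opens} {UP : P.Opens} (e₁ : UQ ≤ g ⁻¹ᵁ US)
    (e₂ : UP ≤ f ⁻¹ᵁ UQ) (e₃ : UP ≤ k ⁻¹ᵁ US) (x : Γ(S, US)) :
    (f.appLE UQ UP e₂).hom ((g.appLE US UQ e₁).hom x) = (k.appLE US UP e₃).hom x := by
  have c1 := Scheme.Hom.appLE_comp_appLE f g US UQ UP e₁ e₂
  exact congrArg (fun k => k.hom x) (c1.trans (OmegaSh.appLE_congr_hom h _ e₃))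

theorem appLE_square {P Q R S : Scheme.{u}} (f₁ : P ⟶ Q) (g₁ : Q ⟶ S) (f₂ : P ⟶ R) (g₂ : R ⟶ S)
    (h : f₁ ≫ g₁ = f₂ ≫ g₂) {US : S.Opens} {UQ : Q.Opens} {UR : R.Opens} {UP : P.Opens}
    (e₁ : UQ ≤ g₁ ⁻¹ᵁ US) (e₂ : UP ≤ f₁ ⁻¹ᵁ UQ) (e₃ : UR ≤ g₂ ⁻¹ᵁ US) (e₄ : UP ≤ f₂ ⁻¹ᵁ UR)
    (x : Γ(S, US)) :
    (f₁.appLE UQ UP e₂).hom ((g₁.appLE US UQ e₁).hom x) =
      (f₂.appLE UR UP e₄).hom ((g₂.appLE US UR e₃).hom x) := by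
  have c1 := Scheme.Hom.appLE_comp_appLE f₁ g₁ US UQ UP e₁ e₂
  have c2 := Scheme.Hom.appLE_comp_appLE f₂ g₂ US UR UP e₃ e₄
  exact congrArg (fun k => k.hom x)
    (c1.trans ((OmegaSh.appLE_congr_hom h _ _).trans c2.symm))

end AppLE

section RingUniv

open Groth.Agent.Lib.UnivThickRingH7

/-- The ring-level universal thickening over compatible affine opens. -/
theorem ringUniv {Z Z' X : Scheme.{u}} {h : Z ⟶ X} {i : Z ⟶ Z'} {h' : Z' ⟶ X}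
    (hu : OmegaSh.IsUnivThickening h i h') {U' : Z'.Opens} (hU' : IsAffineOpen U')
    {V : X.Opens} (hV : IsAffineOpen V) (e' : U' ≤ h' ⁻¹ᵁ V) (W : Z.Opens) (hW : W = i ⁻¹ᵁ U')
    (e : W ≤ h ⁻¹ᵁ V) :
    letI := (h.appLE V W e).hom.toAlgebra
    letI := (h'.appLE V U' e').hom.toAlgebra
    ∃ π : Γ(Z', U') →ₐ[Γ(X, V)] Γ(Z, W),
      (∀ x, π x = (i.appLE U' W (le_of_eq hW)).hom x) ∧
        OmegaSh.IsUnivThickeningRing Γ(X, V) Γ(Z, W) Γ(Z', U') π := by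
  subst hW
  haveI : IsClosedImmersion i := hu.1.1.1
  have hU : IsAffineOpen (i ⁻¹ᵁ U') := hU'.preimage i
  letI a5 : Algebra Γ(X, V) Γ(Z, i ⁻¹ᵁ U') := (h.appLE V (i ⁻¹ᵁ U') e).hom.toAlgebra
  letI a3 : Algebra Γ(X, V) Γ(Z', U') := (h'.appLE V U' e').hom.toAlgebra
  letI a4 : Algebra Γ(Z', U') Γ(Z, i ⁻¹ᵁ U') :=
    (i.appLE U' (i ⁻¹ᵁ U') (le_refl _)).hom.toAlgebra
  have hcomp : i ≫ h' = h := hu.2.1
  have comm2 : ∀ r : Γ(X, V), (h.appLE V (i ⁻¹ᵁ U') e).hom r =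
      (i.appLE U' (i ⁻¹ᵁ U') (le_refl _)).hom ((h'.appLE V U' e').hom r) :=
    fun r => (appLE_triangle i h' h hcomp e' (le_refl _) e r).symm
  haveI t2 : IsScalarTower Γ(X, V) Γ(Z', U') Γ(Z, i ⁻¹ᵁ U') :=
    IsScalarTower.of_algebraMap_eq (fun r => comm2 r)
  have happ : i.appLE U' (i ⁻¹ᵁ U') (le_refl _) = i.app U' := i.appLE_eq_app
  have hsurj : Function.Surjective (algebraMap Γ(Z', U') Γ(Z, i ⁻¹ᵁ U')) := by
    show Function.Surjective (i.appLE U' (i ⁻¹ᵁ U') (le_refl _)).hom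
    rw [happ]
    exact i.app_surjective U' hU'
  have hker : RingHom.ker (algebraMap Γ(Z', U') Γ(Z, i ⁻¹ᵁ U')) ^ 2 = ⊥ := by
    have hk0 : (i.ker * i.ker).ideal ⟨U', hU'⟩ = ⊥ := by
      rw [hu.1.2]
      rfl
    rw [Scheme.IdealSheafData.ideal_mul, Pi.mul_apply, Scheme.Hom.ker_apply] at hk0
    show RingHom.ker (i.appLE U' (i ⁻¹ᵁ U') (le_refl _)).hom ^ 2 = ⊥
    rw [happ, pow_two]
    exact hk0
  have huS := isUnivThickening_Spec_of_affine hu hU' hU hV e' e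
  have huR : OmegaSh.IsUnivThickeningRing Γ(X, V) Γ(Z, i ⁻¹ᵁ U') Γ(Z', U')
      (IsScalarTower.toAlgHom Γ(X, V) Γ(Z', U') Γ(Z, i ⁻¹ᵁ U')) :=
    isUnivThickeningRing_of_Spec hsurj hker huS
  exact ⟨IsScalarTower.toAlgHom Γ(X, V) Γ(Z', U') Γ(Z, i ⁻¹ᵁ U'), fun x => rfl, huR⟩

end RingUniv

section Thick

variable {Z T : Scheme.{u}} (t : Z ⟶ T) [IsClosedImmersion t]

/-- For a first order thickening, the class map from the ideal to the conormal sheaf is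
injective on sections over affine opens. -/
theorem cY_injective_of_fot (ht : t.ker * t.ker = ⊥) {T' : T.Opens} (hT' : IsAffineOpen T')
    (s : Γ(ClSub.idealMod t.ker, T')) (hs : cY t T' s = 0) : s = 0 := by
  haveI qc1 : (ClSub.idealMod t.ker).IsQuasicoherent := isQuasicoherent_idealMod _
  have h1 := cUV_eq_zero t (ClSub.idealMod t.ker) hT' s hs
  have h2 := (mem_smul_top_iff t.ker hT' _ s).mp h1
  have h3 : t.ker.ideal ⟨T', hT'⟩ * t.ker.ideal ⟨T', hT'⟩ = ⊥ := by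
    have hk0 : (t.ker * t.ker).ideal ⟨T', hT'⟩ = ⊥ := by
      rw [ht]
      rfl
    rw [Scheme.IdealSheafData.ideal_mul, Pi.mul_apply] at hk0
    exact hk0
  rw [h3, Ideal.mem_bot] at h2
  apply TensH8.idealModι_injective t.ker T'
  have h4 : OmegaSh.idealSect t.ker T' s = OmegaSh.idealSect t.ker T' 0 := by
    rw [h2, map_zero]
  exact h4

end Thick

section Formulas

variable {Z Y Z' Y' Z'' : Scheme.{u}}

theorem psi2F (i'' : Z ⟶ Z'') (n : Z'' ⟶ Z') [IsClosedImmersion i'']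
    [IsClosedImmersion (i'' ≫ n)]
    (ψ₂ : (Scheme.Modules.pullback (𝟙 Z)).obj (Omega.conormal (i'' ≫ n)) ⟶ Omega.conormal i'')
    (hψ₂ : OmegaSh.IsConormalMap i'' (i'' ≫ n) n (𝟙 Z) ψ₂)
    (W' : Z'.Opens) (s' : Γ(ClSub.idealMod (i'' ≫ n).ker, W'))
    (s : Γ(ClSub.idealMod i''.ker, n ⁻¹ᵁ W'))
    (hc : OmegaSh.idealSect i''.ker (n ⁻¹ᵁ W') s =
      (n.app W').hom (OmegaSh.idealSect (i'' ≫ n).ker W' s')) :
    ψ₂.app ((i'' ≫ n) ⁻¹ᵁ W') (OmegaSh.pullSect (𝟙 Z) (Omega.conormal (i'' ≫ n))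
      ((i'' ≫ n) ⁻¹ᵁ W') (cY (i'' ≫ n) W' s')) = cJ i'' (n ⁻¹ᵁ W') s := by
  have h := psi_formula n i'' (i'' ≫ n) ψ₂ hψ₂ s' s hc (le_refl _)
  have e1 : cY (i'' ≫ n) W' s' = OmegaSh.conormalSect (i'' ≫ n) W' s' :=
    cUV_rfl (i'' ≫ n) _ W' s'
  rw [e1]
  exact h

theorem psi1F (i : Z ⟶ Y) (i' : Z ⟶ Z') (j : Y ⟶ Y') (m : Z' ⟶ Y') [IsClosedImmersion i']
    [IsClosedImmersion j]
    (ψ₁ : (Scheme.Modules.pullback i).obj (Omega.conormal j) ⟶ Omega.conormal i')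
    (hψ₁ : OmegaSh.IsConormalMap i' j m i ψ₁)
    {V' : Y'.Opens} {W' : Z'.Opens} (hW'V' : W' ≤ m ⁻¹ᵁ V')
    (hWV : i' ⁻¹ᵁ W' ≤ i ⁻¹ᵁ (j ⁻¹ᵁ V'))
    (s' : Γ(ClSub.idealMod j.ker, V')) (s : Γ(ClSub.idealMod i'.ker, m ⁻¹ᵁ V'))
    (hc : OmegaSh.idealSect i'.ker (m ⁻¹ᵁ V') s =
      (m.app V').hom (OmegaSh.idealSect j.ker V' s')) :
    ψ₁.app (i' ⁻¹ᵁ W') (cUV i (Omega.conormal j) hWV (cY j V' s')) =
      cY i' W' ((ClSub.idealMod i'.ker).presheaf.map (homOfLE hW'V').op s) := by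
  have h₂ : i' ⁻¹ᵁ W' ≤ i' ⁻¹ᵁ (m ⁻¹ᵁ V') := i'.preimage_mono hW'V'
  have h := hψ₁.2 V' s' s hc (i' ⁻¹ᵁ W') hWV h₂
  have e1 : cY j V' s' = OmegaSh.conormalSect j V' s' := cUV_rfl j _ V' s'
  have l1 : ψ₁.app (i' ⁻¹ᵁ W') (cUV i (Omega.conormal j) hWV (cY j V' s')) =
      (Omega.conormal i').presheaf.map (homOfLE hWV).op
        (ψ₁.app (i ⁻¹ᵁ (j ⁻¹ᵁ V')) (OmegaSh.pullSect i (Omega.conormal j) (j ⁻¹ᵁ V')
          (OmegaSh.conormalSect j V' s'))) := by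
    rw [e1]
    exact QCohCrit.app_naturality ψ₁ (homOfLE hWV) _
  have l2 : cY i' W' ((ClSub.idealMod i'.ker).presheaf.map (homOfLE hW'V').op s) =
      (Omega.conormal i').presheaf.map (homOfLE h₂).op
        (OmegaSh.conormalSect i' (m ⁻¹ᵁ V') s) :=
    cUV_src_res i' (ClSub.idealMod i'.ker) hW'V' (le_refl _) s
  exact l1.trans (h.trans l2.symm)

end Formulas

section Geom

variable {Z Y X Z' Y' Z'' : Scheme.{u}} (i : Z ⟶ Y) (b : Y ⟶ X)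
  (i'' : Z ⟶ Z'') (n : Z'' ⟶ Z') (c : Z' ⟶ X) (j : Y ⟶ Y') (d : Y' ⟶ X) (m : Z' ⟶ Y')
  (e : Z'' ⟶ Y)

set_option maxHeartbeats 6400000 in
theorem sections9784
    (hZ' : OmegaSh.IsUnivThickening (i ≫ b) (i'' ≫ n) c)
    (hY' : OmegaSh.IsUnivThickening b j d)
    (hm₁ : (i'' ≫ n) ≫ m = i ≫ j) (hm₂ : m ≫ d = c)
    (hZ'' : OmegaSh.IsUnivThickening i i'' e)
    (hnm : n ≫ m = e ≫ j)
    (ψ₁ : (Scheme.Modules.pullback i).obj (Omega.conormal j) ⟶ Omega.conormal (i'' ≫ n))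
    (hψ₁ : OmegaSh.IsConormalMap (i'' ≫ n) j m i ψ₁)
    (ψ₂ : (Scheme.Modules.pullback (𝟙 Z)).obj (Omega.conormal (i'' ≫ n)) ⟶ Omega.conormal i'')
    (hψ₂ : OmegaSh.IsConormalMap i'' (i'' ≫ n) n (𝟙 Z) ψ₂)
    {W' : Z'.Opens} {V' : Y'.Opens} {U : X.Opens} (hW' : IsAffineOpen W')
    (hV' : IsAffineOpen V') (hU : IsAffineOpen U) (hW'V' : W' ≤ m ⁻¹ᵁ V')
    (hV'U : V' ≤ d ⁻¹ᵁ U) :
    (∀ y : Γ(Omega.conormal i'', (i'' ≫ n) ⁻¹ᵁ W'),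
        ∃ y₁, ψ₂.app ((i'' ≫ n) ⁻¹ᵁ W') y₁ = y) ∧
      (∀ x, ψ₂.app ((i'' ≫ n) ⁻¹ᵁ W')
        (((Scheme.Modules.pullback (𝟙 Z)).map ψ₁).app ((i'' ≫ n) ⁻¹ᵁ W') x) = 0) ∧
      (∀ y₁, ψ₂.app ((i'' ≫ n) ⁻¹ᵁ W') y₁ = 0 →
        ∃ x, ((Scheme.Modules.pullback (𝟙 Z)).map ψ₁).app ((i'' ≫ n) ⁻¹ᵁ W') x = y₁) := by
  haveI ci' : IsClosedImmersion (i'' ≫ n) := hZ'.1.1.1
  haveI cj : IsClosedImmersion j := hY'.1.1.1
  haveI ci'' : IsClosedImmersion i'' := hZ''.1.1.1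
  haveI si'' : Surjective i'' := hZ''.1.1.2
  have hjd : j ≫ d = b := hY'.2.1
  have hi'c : (i'' ≫ n) ≫ c = i ≫ b := hZ'.2.1
  -- affineness
  have hW : IsAffineOpen ((i'' ≫ n) ⁻¹ᵁ W') := hW'.preimage (i'' ≫ n)
  have hV : IsAffineOpen (j ⁻¹ᵁ V') := hV'.preimage j
  have hW'' : IsAffineOpen (n ⁻¹ᵁ W') :=
    Groth.Agent.Lib.ThickAffH6.isAffineOpen_of_thickening i'' (n ⁻¹ᵁ W') hW
  -- inclusions
  have eB : j ⁻¹ᵁ V' ≤ b ⁻¹ᵁ U := by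
    intro z hz
    have h1 : d (j z) ∈ U := hV'U hz
    have h2 : d (j z) = b z := congrArg (fun k : Y ⟶ X => k z) hjd
    show b z ∈ U
    rw [← h2]
    exact h1
  have eC' : W' ≤ c ⁻¹ᵁ U := by
    intro z hz
    have h1 : d (m z) ∈ U := hV'U (hW'V' hz)
    have h2 : d (m z) = c z := congrArg (fun k : Z' ⟶ X => k z) hm₂
    show c z ∈ U
    rw [← h2]
    exact h1
  have eC : (i'' ≫ n) ⁻¹ᵁ W' ≤ (i ≫ b) ⁻¹ᵁ U := by
    intro z hz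
    have h1 : c ((i'' ≫ n) z) ∈ U := eC' hz
    have h2 : c ((i'' ≫ n) z) = (i ≫ b) z := congrArg (fun k : Z ⟶ X => k z) hi'c
    show (i ≫ b) z ∈ U
    rw [← h2]
    exact h1
  have eiC : (i'' ≫ n) ⁻¹ᵁ W' ≤ i ⁻¹ᵁ (j ⁻¹ᵁ V') := by
    intro z hz
    have h1 : m ((i'' ≫ n) z) ∈ V' := hW'V' hz
    have h2 : m ((i'' ≫ n) z) = j (i z) := congrArg (fun k : Z ⟶ Y' => k z) hm₁
    show j (i z) ∈ V'
    rw [← h2]
    exact h1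
  have eC'' : n ⁻¹ᵁ W' ≤ e ⁻¹ᵁ (j ⁻¹ᵁ V') := by
    intro z hz
    have h1 : m (n z) ∈ V' := hW'V' hz
    have h2 : m (n z) = j (e z) := congrArg (fun k : Z'' ⟶ Y' => k z) hnm
    show j (e z) ∈ V'
    rw [← h2]
    exact h1
  -- rings
  letI aAB : Algebra Γ(X, U) Γ(Y, j ⁻¹ᵁ V') := (b.appLE U (j ⁻¹ᵁ V') eB).hom.toAlgebra
  letI aAB' : Algebra Γ(X, U) Γ(Y', V') := (d.appLE U V' hV'U).hom.toAlgebra
  letI aAC : Algebra Γ(X, U) Γ(Z, (i'' ≫ n) ⁻¹ᵁ W') :=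
    ((i ≫ b).appLE U ((i'' ≫ n) ⁻¹ᵁ W') eC).hom.toAlgebra
  letI aAC' : Algebra Γ(X, U) Γ(Z', W') := (c.appLE U W' eC').hom.toAlgebra
  letI aBC : Algebra Γ(Y, j ⁻¹ᵁ V') Γ(Z, (i'' ≫ n) ⁻¹ᵁ W') :=
    (i.appLE (j ⁻¹ᵁ V') ((i'' ≫ n) ⁻¹ᵁ W') eiC).hom.toAlgebra
  letI aBC'' : Algebra Γ(Y, j ⁻¹ᵁ V') Γ(Z'', n ⁻¹ᵁ W') :=
    (e.appLE (j ⁻¹ᵁ V') (n ⁻¹ᵁ W') eC'').hom.toAlgebra
  obtain ⟨πB, hπB, hB⟩ := ringUniv hY' hV' hU hV'U (j ⁻¹ᵁ V') rfl eB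
  obtain ⟨πC, hπC, hC⟩ := ringUniv hZ' hW' hU eC' ((i'' ≫ n) ⁻¹ᵁ W') rfl eC
  obtain ⟨πC'', hπC'', hC''⟩ := ringUniv hZ'' hW'' hV eC'' ((i'' ≫ n) ⁻¹ᵁ W') rfl eiC
  have hπB' : ∀ x, πB x = (j.app V').hom x := fun x =>
    (hπB x).trans (congrArg (fun k => k.hom x) (Scheme.Hom.app_eq_appLE j)).symm
  have hπC' : ∀ x, πC x = ((i'' ≫ n).app W').hom x := fun x =>
    (hπC x).trans (congrArg (fun k => k.hom x) (Scheme.Hom.app_eq_appLE (i'' ≫ n))).symm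
  have hπC''' : ∀ x, πC'' x = (i''.app (n ⁻¹ᵁ W')).hom x := fun x =>
    (hπC'' x).trans (congrArg (fun k => k.hom x) (Scheme.Hom.app_eq_appLE i'')).symm
  have happn : ∀ x : Γ(Z', W'), (n.app W').hom x = (n.appLE W' (n ⁻¹ᵁ W') (le_refl _)).hom x :=
    fun x => congrArg (fun k => k.hom x) (Scheme.Hom.app_eq_appLE n)
  have hmA : ∀ a : Γ(X, U), (m.appLE V' W' hW'V').hom (algebraMap Γ(X, U) Γ(Y', V') a) =
      algebraMap Γ(X, U) Γ(Z', W') a := fun a => appLE_triangle m d c hm₂ hV'U hW'V' eC' a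
  have hm : ∀ x : Γ(Y', V'), πC ((m.appLE V' W' hW'V').hom x) =
      algebraMap Γ(Y, j ⁻¹ᵁ V') Γ(Z, (i'' ≫ n) ⁻¹ᵁ W') (πB x) := fun x =>
    (hπC _).trans ((appLE_square (i'' ≫ n) m i j hm₁ hW'V' (le_of_eq rfl) (le_of_eq rfl) eiC x).trans
      (congrArg (algebraMap Γ(Y, j ⁻¹ᵁ V') Γ(Z, (i'' ≫ n) ⁻¹ᵁ W')) (hπB x)).symm)
  have hn : ∀ x : Γ(Z', W'), πC'' ((n.app W').hom x) = πC x := fun x =>
    (hπC''' _).trans ((comp_app_apply n i'' W' x).symm.trans (hπC' x).symm)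
  have hnm' : ∀ x : Γ(Y', V'), (n.app W').hom ((m.appLE V' W' hW'V').hom x) =
      algebraMap Γ(Y, j ⁻¹ᵁ V') Γ(Z'', n ⁻¹ᵁ W') (πB x) := fun x =>
    (happn _).trans ((appLE_square n m e j hnm hW'V' (le_refl _) (le_of_eq rfl) eC'' x).trans
      (congrArg (algebraMap Γ(Y, j ⁻¹ᵁ V') Γ(Z'', n ⁻¹ᵁ W')) (hπB x)).symm)
  obtain ⟨hnsurj, hnker⟩ := ring_main hB hC hC'' (m.appLE V' W' hW'V').hom (n.app W').hom
    hmA hm hn hnm'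
  obtain ⟨J, hJ⟩ : ∃ J : Ideal Γ(Z', W'),
      J = Ideal.map (m.appLE V' W' hW'V').hom (RingHom.ker πB.toRingHom) := ⟨_, rfl⟩
  rw [← hJ] at hnker
  have hJn : ∀ a ∈ J, (n.app W').hom a = 0 := by
    intro a ha
    rw [hJ] at ha
    have hle : Ideal.map (m.appLE V' W' hW'V').hom (RingHom.ker πB.toRingHom) ≤
        RingHom.ker (n.app W').hom := by
      rw [Ideal.map_le_iff_le_comap]
      intro y hy
      rw [Ideal.mem_comap, RingHom.mem_ker, hnm']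
      have hy' : πB y = 0 := (RingHom.mem_ker).mp hy
      rw [hy', map_zero]
    exact (RingHom.mem_ker).mp (hle ha)
  have hmemJ : ∀ x' : Γ(Y', V'), (j.app V').hom x' = 0 → (m.appLE V' W' hW'V').hom x' ∈ J := by
    intro x' hx'
    rw [hJ]
    exact Ideal.mem_map_of_mem _ ((RingHom.mem_ker).mpr ((hπB' x').trans hx'))
  -- quasi-coherence
  haveI qc1 : (ClSub.idealMod j.ker).IsQuasicoherent := isQuasicoherent_idealMod _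
  haveI qc2 : (Omega.conormal j).IsQuasicoherent := by
    unfold Omega.conormal
    infer_instance
  -- the basic computation of `ψ₁`
  have K0 : ∀ s' : Γ(ClSub.idealMod j.ker, V'),
      ∃ s₁ : Γ(ClSub.idealMod (i'' ≫ n).ker, W'),
        ψ₁.app ((i'' ≫ n) ⁻¹ᵁ W') (cUV i (Omega.conormal j) eiC (cY j V' s')) =
          cY (i'' ≫ n) W' s₁ ∧
        OmegaSh.idealSect (i'' ≫ n).ker W' s₁ =
          (m.appLE V' W' hW'V').hom (OmegaSh.idealSect j.ker V' s') := by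
    intro s'
    have hx' : (j.app V').hom (OmegaSh.idealSect j.ker V' s') = 0 :=
      (mem_I_iff j hV' _).mp (TensH8.idealModι_mem j.ker hV' s')
    have hx'' : ((i ≫ j).app V').hom (OmegaSh.idealSect j.ker V' s') = 0 := by
      have h0 : (i.app (j ⁻¹ᵁ V')).hom ((j.app V').hom (OmegaSh.idealSect j.ker V' s')) = 0 := by
        rw [hx', map_zero]
      exact (comp_app_apply j i V' _).trans h0
    obtain ⟨s, hs⟩ := exists_ideal_section_comp m (i'' ≫ n) (i ≫ j) hm₁ _ hx''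
    refine ⟨(ClSub.idealMod (i'' ≫ n).ker).presheaf.map (homOfLE hW'V').op s,
      psi1F i (i'' ≫ n) j m ψ₁ hψ₁ hW'V' eiC s' s hs, ?_⟩
    rw [idealSect_res (i'' ≫ n).ker hW'V' s, hs]
    rfl
  have hKC' : ∀ s₁ : Γ(ClSub.idealMod (i'' ≫ n).ker, W'),
      ((i'' ≫ n).app W').hom (OmegaSh.idealSect (i'' ≫ n).ker W' s₁) = 0 := fun s₁ =>
    (mem_I_iff (i'' ≫ n) hW' _).mp (TensH8.idealModι_mem (i'' ≫ n).ker hW' s₁)
  have hinj : ∀ s₁ s₂ : Γ(ClSub.idealMod (i'' ≫ n).ker, W'),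
      OmegaSh.idealSect (i'' ≫ n).ker W' s₁ = OmegaSh.idealSect (i'' ≫ n).ker W' s₂ →
        s₁ = s₂ := fun s₁ s₂ h => TensH8.idealModι_injective (i'' ≫ n).ker W' h
  have hsmul : ∀ (r : Γ(Z', W')) (s₁ : Γ(ClSub.idealMod (i'' ≫ n).ker, W')),
      OmegaSh.idealSect (i'' ≫ n).ker W' (r • s₁) =
        r * OmegaSh.idealSect (i'' ≫ n).ker W' s₁ := fun r s₁ =>
    TensH8.idealModι_smul (i'' ≫ n).ker r s₁
  -- (G1) the image of `ψ₁` consists of classes of elements of `J`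
  have G1 : ∀ x : Γ((Scheme.Modules.pullback i).obj (Omega.conormal j), (i'' ≫ n) ⁻¹ᵁ W'),
      ∃ s₁ : Γ(ClSub.idealMod (i'' ≫ n).ker, W'),
        ψ₁.app ((i'' ≫ n) ⁻¹ᵁ W') x = cY (i'' ≫ n) W' s₁ ∧
          OmegaSh.idealSect (i'' ≫ n).ker W' s₁ ∈ J := by
    intro x
    letI mA : Module Γ(Y, j ⁻¹ᵁ V')
        Γ((Scheme.Modules.pullback i).obj (Omega.conormal j), (i'' ≫ n) ⁻¹ᵁ W') :=
      Module.compHom _ (i.appLE (j ⁻¹ᵁ V') ((i'' ≫ n) ⁻¹ᵁ W') eiC).hom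
    haveI tA : IsScalarTower Γ(Y, j ⁻¹ᵁ V') Γ(Z, (i'' ≫ n) ⁻¹ᵁ W')
        Γ((Scheme.Modules.pullback i).obj (Omega.conormal j), (i'' ≫ n) ⁻¹ᵁ W') :=
      IsScalarTower.of_algebraMap_smul fun _ _ => rfl
    have hbc := PBH8.isBaseChange_cUV i (Omega.conormal j) eiC hW hV
    refine hbc.inductionOn x
      (fun x => ∃ s₁ : Γ(ClSub.idealMod (i'' ≫ n).ker, W'),
        ψ₁.app ((i'' ≫ n) ⁻¹ᵁ W') x = cY (i'' ≫ n) W' s₁ ∧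
          OmegaSh.idealSect (i'' ≫ n).ker W' s₁ ∈ J) ?_ ?_ ?_ ?_
    · refine ⟨0, ?_, ?_⟩
      · have h1 : ψ₁.app ((i'' ≫ n) ⁻¹ᵁ W') 0 = 0 := map_zero (ψ₁.app ((i'' ≫ n) ⁻¹ᵁ W')).hom
        have h2 : cY (i'' ≫ n) W' 0 = 0 := cUV_zero (i'' ≫ n) _ _
        rw [h1, h2]
      · rw [map_zero]
        exact Ideal.zero_mem J
    · intro y
      obtain ⟨s', rfl⟩ := cY_surj j hV' y
      obtain ⟨s₁, h1, h2⟩ := K0 s'
      refine ⟨s₁, h1, ?_⟩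
      rw [h2]
      exact hmemJ _ ((mem_I_iff j hV' _).mp (TensH8.idealModι_mem j.ker hV' s'))
    · rintro r x ⟨s₁, h1, h2⟩
      obtain ⟨r', hr'⟩ := (i'' ≫ n).app_surjective W' hW' r
      have hr'' : ((i'' ≫ n).app W').hom r' = r := hr'
      refine ⟨r' • s₁, ?_, ?_⟩
      · rw [Scheme.Modules.Hom.app_smul, h1, cY_smul, hr'']
      · rw [hsmul]
        exact Ideal.mul_mem_left J r' h2
    · rintro x₁ x₂ ⟨s₁, h1, h2⟩ ⟨s₂, h3, h4⟩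
      refine ⟨s₁ + s₂, ?_, ?_⟩
      · have h5 : ψ₁.app ((i'' ≫ n) ⁻¹ᵁ W') (x₁ + x₂) =
            ψ₁.app ((i'' ≫ n) ⁻¹ᵁ W') x₁ + ψ₁.app ((i'' ≫ n) ⁻¹ᵁ W') x₂ :=
          map_add (ψ₁.app ((i'' ≫ n) ⁻¹ᵁ W')).hom x₁ x₂
        rw [h5, h1, h3, cY_add]
      · rw [map_add]
        exact Ideal.add_mem J h2 h4
  -- (G2) classes of elements of `J` are in the image of `ψ₁`
  have G2 : ∀ a ∈ J, ∀ s₁ : Γ(ClSub.idealMod (i'' ≫ n).ker, W'),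
      OmegaSh.idealSect (i'' ≫ n).ker W' s₁ = a →
        ∃ x, ψ₁.app ((i'' ≫ n) ⁻¹ᵁ W') x = cY (i'' ≫ n) W' s₁ := by
    intro a ha
    rw [hJ] at ha
    have key : a ∈ (i'' ≫ n).ker.ideal ⟨W', hW'⟩ ∧
        ∀ s₁ : Γ(ClSub.idealMod (i'' ≫ n).ker, W'),
          OmegaSh.idealSect (i'' ≫ n).ker W' s₁ = a →
            ∃ x, ψ₁.app ((i'' ≫ n) ⁻¹ᵁ W') x = cY (i'' ≫ n) W' s₁ := by
      refine Submodule.span_induction
        (p := fun a _ => a ∈ (i'' ≫ n).ker.ideal ⟨W', hW'⟩ ∧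
          ∀ s₁ : Γ(ClSub.idealMod (i'' ≫ n).ker, W'),
            OmegaSh.idealSect (i'' ≫ n).ker W' s₁ = a →
              ∃ x, ψ₁.app ((i'' ≫ n) ⁻¹ᵁ W') x = cY (i'' ≫ n) W' s₁) ?_ ?_ ?_ ?_ ha
      · rintro _ ⟨x', hx'K, rfl⟩
        have hx'0 : (j.app V').hom x' = 0 :=
          (hπB' x').symm.trans ((RingHom.mem_ker).mp hx'K)
        obtain ⟨s', hs'⟩ := TensH8.exists_idealMod_section j.ker hV' x'
          ((mem_I_iff j hV' x').mpr hx'0)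
        have hs'' : OmegaSh.idealSect j.ker V' s' = x' := hs'
        obtain ⟨t₁, h1, h2⟩ := K0 s'
        rw [hs''] at h2
        refine ⟨?_, ?_⟩
        · have h3 := TensH8.idealModι_mem (i'' ≫ n).ker hW' t₁
          have h4 : OmegaSh.idealSect (i'' ≫ n).ker W' t₁ ∈ (i'' ≫ n).ker.ideal ⟨W', hW'⟩ := h3
          rw [h2] at h4
          exact h4
        · intro s₁ hs₁
          have h5 : s₁ = t₁ := hinj s₁ t₁ (hs₁.trans h2.symm)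
          rw [h5]
          exact ⟨_, h1⟩
      · refine ⟨Ideal.zero_mem _, ?_⟩
        intro s₁ hs₁
        have h5 : s₁ = 0 := hinj s₁ 0 (by rw [hs₁, map_zero])
        refine ⟨0, ?_⟩
        have h1 : ψ₁.app ((i'' ≫ n) ⁻¹ᵁ W') 0 = 0 := map_zero (ψ₁.app ((i'' ≫ n) ⁻¹ᵁ W')).hom
        have h2 : cY (i'' ≫ n) W' 0 = 0 := cUV_zero (i'' ≫ n) _ _
        rw [h5, h1, h2]
      · rintro a₁ a₂ _ _ ⟨ha₁, P₁⟩ ⟨ha₂, P₂⟩
        refine ⟨Ideal.add_mem _ ha₁ ha₂, ?_⟩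
        intro s₁ hs₁
        obtain ⟨t₁, ht₁⟩ := TensH8.exists_idealMod_section (i'' ≫ n).ker hW' a₁ ha₁
        obtain ⟨t₂, ht₂⟩ := TensH8.exists_idealMod_section (i'' ≫ n).ker hW' a₂ ha₂
        have ht₁' : OmegaSh.idealSect (i'' ≫ n).ker W' t₁ = a₁ := ht₁
        have ht₂' : OmegaSh.idealSect (i'' ≫ n).ker W' t₂ = a₂ := ht₂
        obtain ⟨x₁, hx₁⟩ := P₁ t₁ ht₁'
        obtain ⟨x₂, hx₂⟩ := P₂ t₂ ht₂'
        have h5 : s₁ = t₁ + t₂ := hinj s₁ (t₁ + t₂) (by rw [hs₁, map_add, ht₁', ht₂'])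
        refine ⟨x₁ + x₂, ?_⟩
        have h6 : ψ₁.app ((i'' ≫ n) ⁻¹ᵁ W') (x₁ + x₂) =
            ψ₁.app ((i'' ≫ n) ⁻¹ᵁ W') x₁ + ψ₁.app ((i'' ≫ n) ⁻¹ᵁ W') x₂ :=
          map_add (ψ₁.app ((i'' ≫ n) ⁻¹ᵁ W')).hom x₁ x₂
        rw [h6, hx₁, hx₂, h5, cY_add]
      · rintro r a₁ _ ⟨ha₁, P₁⟩
        refine ⟨Ideal.mul_mem_left _ r ha₁, ?_⟩
        intro s₁ hs₁
        obtain ⟨t₁, ht₁⟩ := TensH8.exists_idealMod_section (i'' ≫ n).ker hW' a₁ ha₁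
        have ht₁' : OmegaSh.idealSect (i'' ≫ n).ker W' t₁ = a₁ := ht₁
        obtain ⟨x₁, hx₁⟩ := P₁ t₁ ht₁'
        have h5 : s₁ = r • t₁ := hinj s₁ (r • t₁) (by rw [hs₁, hsmul, ht₁']; rfl)
        refine ⟨((i'' ≫ n).app W').hom r • x₁, ?_⟩
        rw [Scheme.Modules.Hom.app_smul, hx₁, h5, cY_smul]
    exact key.2
  -- naturality of `pullSect (𝟙 Z)`
  have nat : ∀ x : Γ((Scheme.Modules.pullback i).obj (Omega.conormal j), (i'' ≫ n) ⁻¹ᵁ W'),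
      ((Scheme.Modules.pullback (𝟙 Z)).map ψ₁).app ((i'' ≫ n) ⁻¹ᵁ W')
        (OmegaSh.pullSect (𝟙 Z) ((Scheme.Modules.pullback i).obj (Omega.conormal j))
          ((i'' ≫ n) ⁻¹ᵁ W') x) =
      OmegaSh.pullSect (𝟙 Z) (Omega.conormal (i'' ≫ n)) ((i'' ≫ n) ⁻¹ᵁ W')
        (ψ₁.app ((i'' ≫ n) ⁻¹ᵁ W') x) := by
    intro x
    have h1 := PBH8.cUV_naturality (𝟙 Z) ψ₁ (le_refl ((𝟙 Z) ⁻¹ᵁ ((i'' ≫ n) ⁻¹ᵁ W'))) x
    rw [cUV_rfl, cUV_rfl] at h1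
    exact h1
  refine ⟨?_, ?_, ?_⟩
  · -- surjectivity of `ψ₂`
    intro y
    obtain ⟨s, rfl⟩ := cJ_surj i'' hW'' y
    have hκ := TensH8.idealModι_mem i''.ker hW'' s
    obtain ⟨k, hk⟩ := hnsurj (OmegaSh.idealSect i''.ker (n ⁻¹ᵁ W') s)
    have hkK : k ∈ (i'' ≫ n).ker.ideal ⟨W', hW'⟩ := by
      rw [mem_I_iff (i'' ≫ n) hW', comp_app_apply n i'' W' k, hk]
      exact (mem_I_iff i'' hW'' _).mp hκ
    obtain ⟨s', hs'⟩ := TensH8.exists_idealMod_section (i'' ≫ n).ker hW' k hkK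
    have hs'' : OmegaSh.idealSect (i'' ≫ n).ker W' s' = k := hs'
    refine ⟨OmegaSh.pullSect (𝟙 Z) (Omega.conormal (i'' ≫ n)) ((i'' ≫ n) ⁻¹ᵁ W')
      (cY (i'' ≫ n) W' s'), ?_⟩
    refine psi2F i'' n ψ₂ hψ₂ W' s' s ?_
    rw [hs'']
    exact hk.symm
  · -- the composite vanishes
    intro xt
    obtain ⟨x, rfl⟩ := (pullSect_id_bijective
      ((Scheme.Modules.pullback i).obj (Omega.conormal j)) ((i'' ≫ n) ⁻¹ᵁ W')).2 xt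
    obtain ⟨s₁, h1, h2⟩ := G1 x
    rw [nat x, h1]
    have hc : OmegaSh.idealSect i''.ker (n ⁻¹ᵁ W') 0 =
        (n.app W').hom (OmegaSh.idealSect (i'' ≫ n).ker W' s₁) := by
      rw [map_zero, hJn _ h2]
    rw [psi2F i'' n ψ₂ hψ₂ W' s₁ 0 hc]
    exact cJ_zero i'' _
  · -- exactness
    intro y₁ hy₁
    obtain ⟨y, rfl⟩ := (pullSect_id_bijective
      (Omega.conormal (i'' ≫ n)) ((i'' ≫ n) ⁻¹ᵁ W')).2 y₁
    obtain ⟨s', rfl⟩ := cY_surj (i'' ≫ n) hW' y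
    have hmem : (n.app W').hom (OmegaSh.idealSect (i'' ≫ n).ker W' s') ∈
        i''.ker.ideal ⟨n ⁻¹ᵁ W', hW''⟩ := by
      rw [mem_I_iff i'' hW'', ← comp_app_apply n i'' W' _]
      exact hKC' s'
    obtain ⟨s, hs⟩ := TensH8.exists_idealMod_section i''.ker hW'' _ hmem
    have hs' : OmegaSh.idealSect i''.ker (n ⁻¹ᵁ W') s =
        (n.app W').hom (OmegaSh.idealSect (i'' ≫ n).ker W' s') := hs
    rw [psi2F i'' n ψ₂ hψ₂ W' s' s hs'] at hy₁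
    have hs0 : s = 0 := cY_injective_of_fot i'' hZ''.1.2 hW'' s hy₁
    have hn0 : (n.app W').hom (OmegaSh.idealSect (i'' ≫ n).ker W' s') = 0 := by
      rw [← hs', hs0, map_zero]
    obtain ⟨x, hx⟩ := G2 _ (hnker _ hn0) s' rfl
    refine ⟨OmegaSh.pullSect (𝟙 Z) ((Scheme.Modules.pullback i).obj (Omega.conormal j))
      ((i'' ≫ n) ⁻¹ᵁ W') x, ?_⟩
    rw [nat x, hx]

theorem main9784 (i' : Z ⟶ Z')
    (hZ' : OmegaSh.IsUnivThickening (i ≫ b) i' c)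
    (hY' : OmegaSh.IsUnivThickening b j d)
    (hm₁ : i' ≫ m = i ≫ j) (hm₂ : m ≫ d = c)
    (hZ'' : OmegaSh.IsUnivThickening i i'' e)
    (hn₁ : i'' ≫ n = i') (hn₂ : n ≫ c = e ≫ b)
    (ψ₁ : (Scheme.Modules.pullback i).obj (Omega.conormal j) ⟶ Omega.conormal i')
    (hψ₁ : OmegaSh.IsConormalMap i' j m i ψ₁)
    (ψ₂ : (Scheme.Modules.pullback (𝟙 Z)).obj (Omega.conormal i') ⟶ Omega.conormal i'')
    (hψ₂ : OmegaSh.IsConormalMap i'' i' n (𝟙 Z) ψ₂) :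
    ∃ w : (Scheme.Modules.pullback (𝟙 Z)).map ψ₁ ≫ ψ₂ = 0,
      (ShortComplex.mk _ _ w).Exact ∧ Epi ψ₂ := by
  subst hn₁
  have hnm : n ≫ m = e ≫ j := by
    have hw : i'' ≫ (e ≫ b) = i ≫ b := by rw [← Category.assoc, hZ''.2.1]
    obtain ⟨a', -, hau⟩ := hY'.2.2 Z Z'' i'' (e ≫ b) i hZ''.1 hw
    have h1 : n ≫ m = a' := hau _ ⟨by rw [← Category.assoc]; exact hm₁,
      by rw [Category.assoc, hm₂, hn₂]⟩
    have h2 : e ≫ j = a' := hau _ ⟨by rw [← Category.assoc, hZ''.2.1],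
      by rw [Category.assoc, hY'.2.1]⟩
    rw [h1, h2]
  let P : Z.Opens → Prop := fun W => ∃ (W' : Z'.Opens) (V' : Y'.Opens) (U : X.Opens),
    IsAffineOpen W' ∧ IsAffineOpen V' ∧ IsAffineOpen U ∧ W' ≤ m ⁻¹ᵁ V' ∧ V' ≤ d ⁻¹ᵁ U ∧
      W = (i'' ≫ n) ⁻¹ᵁ W'
  have hP : ∀ (O : Z.Opens) (z : Z), z ∈ O → ∃ W : Z.Opens, P W ∧ z ∈ W ∧ W ≤ O := by
    intro O z hz
    obtain ⟨O', hO'⟩ :=
      Groth.Agent.Lib.UnivThickSch1_helper7.exists_opens_preimage_eq (i'' ≫ n) hZ'.1 O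
    obtain ⟨_, ⟨U, hU : IsAffineOpen U, rfl⟩, hzU, -⟩ :=
      X.isBasis_affineOpens.exists_subset_of_mem_open
        (Set.mem_univ (d (m ((i'' ≫ n) z)))) isOpen_univ
    have hzU' : m ((i'' ≫ n) z) ∈ d ⁻¹ᵁ U := hzU
    obtain ⟨_, ⟨V', hV' : IsAffineOpen V', rfl⟩, hzV', hV'le⟩ :=
      Y'.isBasis_affineOpens.exists_subset_of_mem_open hzU' (d ⁻¹ᵁ U).isOpen
    have hzO' : (i'' ≫ n) z ∈ O' ⊓ m ⁻¹ᵁ V' := by
      refine ⟨?_, hzV'⟩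
      rw [← hO'] at hz
      exact hz
    obtain ⟨_, ⟨W', hW' : IsAffineOpen W', rfl⟩, hzW', hW'le⟩ :=
      Z'.isBasis_affineOpens.exists_subset_of_mem_open hzO' (O' ⊓ m ⁻¹ᵁ V').isOpen
    refine ⟨(i'' ≫ n) ⁻¹ᵁ W', ⟨W', V', U, hW', hV', hU, fun x hx => (hW'le hx).2, hV'le, rfl⟩,
      hzW', ?_⟩
    intro x hx
    rw [← hO']
    exact (hW'le hx).1
  have hsec : ∀ W, P W →
      (∀ y : Γ(Omega.conormal i'', W), ∃ y₁, ψ₂.app W y₁ = y) ∧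
      (∀ x, ψ₂.app W (((Scheme.Modules.pullback (𝟙 Z)).map ψ₁).app W x) = 0) ∧
      (∀ y₁, ψ₂.app W y₁ = 0 → ∃ x, ((Scheme.Modules.pullback (𝟙 Z)).map ψ₁).app W x = y₁) := by
    rintro W ⟨W', V', U, hW', hV', hU, h1, h2, rfl⟩
    exact sections9784 i b i'' n c j d m e hZ' hY' hm₁ hm₂ hZ'' hnm ψ₁ hψ₁ ψ₂ hψ₂ hW' hV' hU h1 h2
  have w : (Scheme.Modules.pullback (𝟙 Z)).map ψ₁ ≫ ψ₂ = 0 :=
    hom_eq_zero_of_basis P hP _ (fun W hW s => (hsec W hW).2.1 s)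
  refine ⟨w, exact_of_basis P hP _ _ w (fun W hW y hy => (hsec W hW).2.2 y hy), ?_⟩
  exact epi_of_surjective_basis ψ₂ P hP (fun W hW => (hsec W hW).1)

end Geom

end Groth.Agent.Lib.UnivThickTransH7
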