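import Mathlib
import Groth.Prelude
import Groth.Agent.Lib.LciConorm1_helper7
import Groth.Agent.Lib.UnivThickTrans2_helper7
import Groth.Agent.Lib.UnivThickSch1_helper7
import Groth.Agent.Lib.OmegaFSmooth_helper4
import Groth.Agent.Lib.FSmoothIff_helper7
import Groth.Agent.Lib.FLF8_helper8
import Groth.Agent.Lib.RegKindFlat_helper2

/-!
# The conormal sheaf of a formally unramified local complete intersection morphism is finite
locally free (helper7)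

`f : X → Y` Koszul at every point and formally unramified, `(i : X → X', h')` its universal first
order thickening: then `C_{X/X'}` is finite locally free.
APPEND-ONLY once landed.
-/

set_option autoImplicit false
set_option linter.style.haveILetI false

universe u

open CategoryTheory CategoryTheory.Limits AlgebraicGeometry Opposite TopologicalSpace
open QcqsLoc QCohExtn

namespace Groth.Agent.Lib.LciConormH7

open PBH8 Groth.Agent.Lib.ConormSeqH4 Groth.Agent.Lib.OmegaCompat2H4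
open Groth.Agent.Lib.ConormDiffH4 Groth.Agent.Lib.OmegaAffH4 Groth.Agent.Lib.ConormTransH7
open Groth.Agent.Lib.UnivThickTransH7 FLFH8

section Criterion

/-- A quasi-coherent module whose sections over an affine open neighbourhood of every point are
finite projective is finite locally free. -/
theorem finLocFree_of_local_finite_projective {X : Scheme.{u}} (F : X.Modules)
    [F.IsQuasicoherent]
    (H : ∀ x : X, ∃ O : X.Opens, IsAffineOpen O ∧ x ∈ O ∧ Module.Finite Γ(X, O) Γ(F, O) ∧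
      Module.Projective Γ(X, O) Γ(F, O)) : FlatMod.IsFinLocFree F := by
  choose O hOa hxO hfin hproj using H
  have hcov : ⨆ x, O x = ⊤ := eq_top_iff.mpr (fun x _ => Opens.mem_iSup.mpr ⟨x, hxO x⟩)
  haveI : SheafOfModules.IsFinitePresentation (R := X.ringCatSheaf) F :=
    QCohFP2.isFinitePresentation_of_sections_cover F O hOa hcov (fun x => by
      haveI := hfin x
      haveI := hproj x
      exact Module.finitePresentation_of_projective _ _)
  intro x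
  haveI := hfin x
  haveI := hproj x
  haveI : Module.Flat Γ(X, O x) Γ(F, O x) := inferInstance
  haveI : Module.Flat (X.presheaf.stalk x) (F.presheaf.stalk x) :=
    flat_stalk_of_flat_sections F (hOa x) (hxO x)
  haveI : Module.Finite (X.presheaf.stalk x) (F.presheaf.stalk x) := finite_stalk F x
  exact exists_free_nhd F x Module.free_of_flat_of_isLocalRing

end Criterion

section Loc

set_option backward.isDefEq.respectTransparency false in
/-- `f` is surjective on sections over the affine opens inside an open over which it is a closed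
immersion (local copy of helper9's `BirCurve.app_surjective_of_le`, to keep the import closure
small). -/
theorem app_surjective_of_le' {X X' : Scheme.{u}} (f : X' ⟶ X) (U : X.Opens)
    [IsClosedImmersion (f ∣_ U)] {V : X.Opens} (hV : V ≤ U)
    (hVa : IsAffineOpen V) : Function.Surjective (f.app V).hom := by
  obtain ⟨W, rfl⟩ : ∃ W : U.toScheme.Opens, V = U.ι ''ᵁ W :=
    ⟨U.ι ⁻¹ᵁ V, by
      rw [Scheme.Hom.image_preimage_eq_opensRange_inf, Scheme.Opens.opensRange_ι]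
      exact (inf_eq_right.mpr hV).symm⟩
  have hW : IsAffineOpen W := by
    have := hVa.preimage_of_isOpenImmersion U.ι
    rw [Scheme.Hom.preimage_image_eq] at this
    exact this (by rw [Scheme.Opens.opensRange_ι]; exact hV)
  have h1 := morphismRestrict_app f U W
  have hs : Function.Surjective ((f ∣_ U).app W).hom := (f ∣_ U).app_surjective W hW
  rw [h1] at hs
  intro y
  let b := X'.presheaf.map (eqToHom (image_morphismRestrict_preimage f U W)).op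
  haveI : IsIso b := by
    show IsIso (X'.presheaf.map (eqToHom _).op)
    rw [eqToHom_op, eqToHom_map]
    infer_instance
  obtain ⟨a, ha⟩ := hs (b.hom y)
  refine ⟨a, ?_⟩
  have hinj : Function.Injective b.hom := (ConcreteCategory.bijective_of_isIso b).1
  apply hinj
  exact ha

/-- The kernel of a localized ring map is the extension of the kernel. -/
theorem ker_loc {A B A' B' : Type*} [CommRing A] [CommRing B] [CommRing A'] [CommRing B']
    (φ : A →+* B) (ρ : A →+* A') (σ : B →+* B') (φ' : A' →+* B')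
    (hcomm : ∀ x, φ' (ρ x) = σ (φ x)) (a : A) (hu : IsUnit (ρ a))
    (hlocA : ∀ z : A', ∃ (y : A) (n : ℕ), z * ρ a ^ n = ρ y)
    (hlocB : ∀ y : B, σ y = 0 → ∃ n : ℕ, φ a ^ n * y = 0) :
    RingHom.ker φ' = Ideal.map ρ (RingHom.ker φ) := by
  apply le_antisymm
  · intro z hz
    obtain ⟨y, n, hy⟩ := hlocA z
    have h1 : σ (φ y) = 0 := by
      rw [← hcomm, ← hy, map_mul, (RingHom.mem_ker).mp hz, zero_mul]
    obtain ⟨m, hm⟩ := hlocB _ h1
    have h2 : a ^ m * y ∈ RingHom.ker φ := by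
      rw [RingHom.mem_ker, map_mul, map_pow]
      exact hm
    have h3 : ρ (a ^ m * y) ∈ Ideal.map ρ (RingHom.ker φ) := Ideal.mem_map_of_mem ρ h2
    have h4 : ρ (a ^ m * y) = z * ρ a ^ (n + m) := by
      rw [map_mul, map_pow, ← hy, pow_add]
      ring
    rw [h4] at h3
    exact (Ideal.mul_unit_mem_iff_mem _ (hu.pow (n + m))).mp h3
  · rw [Ideal.map_le_iff_le_comap]
    intro x hx
    rw [Ideal.mem_comap, RingHom.mem_ker, hcomm, (RingHom.mem_ker).mp hx, map_zero]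

variable {X Y : Scheme.{u}} (f : Y ⟶ X)

/-- The kernel of `f^#` over a basic open of an affine open `W` (with affine preimage) is
generated by the kernel over `W`. -/
theorem ker_app_basicOpen {W : X.Opens} (hW : IsAffineOpen W) (hV : IsAffineOpen (f ⁻¹ᵁ W))
    (a : Γ(X, W)) :
    RingHom.ker (f.app (X.basicOpen a)).hom =
      Ideal.map (X.presheaf.map (homOfLE (X.basicOpen_le a)).op).hom
        (RingHom.ker (f.app W).hom) := by
  have hpre : f ⁻¹ᵁ X.basicOpen a = Y.basicOpen ((f.app W).hom a) :=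
    Scheme.preimage_basicOpen f a
  let ι : f ⁻¹ᵁ X.basicOpen a ⟶ f ⁻¹ᵁ W :=
    (Opens.map f.base).map (homOfLE (X.basicOpen_le a))
  letI alg : Algebra Γ(Y, f ⁻¹ᵁ W) Γ(Y, f ⁻¹ᵁ X.basicOpen a) :=
    (Y.presheaf.map ι.op).hom.toAlgebra
  haveI hloc : IsLocalization.Away ((f.app W).hom a) Γ(Y, f ⁻¹ᵁ X.basicOpen a) :=
    hV.isLocalization_of_eq_basicOpen ((f.app W).hom a) ι hpre
  letI algX : Algebra Γ(X, W) Γ(X, X.basicOpen a) :=
    (X.presheaf.map (homOfLE (X.basicOpen_le a)).op).hom.toAlgebra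
  haveI hlocX : IsLocalization.Away a Γ(X, X.basicOpen a) := hW.isLocalization_basicOpen a
  have hnat : ∀ x : Γ(X, W), (f.app (X.basicOpen a)).hom
      ((X.presheaf.map (homOfLE (X.basicOpen_le a)).op).hom x) =
      (Y.presheaf.map ι.op).hom ((f.app W).hom x) := by
    intro x
    have h := f.naturality (homOfLE (X.basicOpen_le a)).op
    exact congrArg (fun k => k.hom x) h
  have hu : IsUnit ((X.presheaf.map (homOfLE (X.basicOpen_le a)).op).hom a) :=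
    X.toRingedSpace.isUnit_res_basicOpen a
  refine ker_loc (f.app W).hom (X.presheaf.map (homOfLE (X.basicOpen_le a)).op).hom
    (Y.presheaf.map ι.op).hom (f.app (X.basicOpen a)).hom hnat a hu (fun z => ?_) (fun y hy => ?_)
  · obtain ⟨n, y, hy⟩ := IsLocalization.Away.surj a z
    exact ⟨y, n, hy⟩
  · have hy' : algebraMap Γ(Y, f ⁻¹ᵁ W) Γ(Y, f ⁻¹ᵁ X.basicOpen a) y = 0 := hy
    obtain ⟨⟨_, m, rfl⟩, hm⟩ :=
      (IsLocalization.map_eq_zero_iff (Submonoid.powers ((f.app W).hom a))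
        Γ(Y, f ⁻¹ᵁ X.basicOpen a) y).mp hy'
    exact ⟨m, hm⟩

end Loc

section Thick

variable {Z T' : Scheme.{u}} (t : Z ⟶ T') [IsClosedImmersion t]

theorem appLE_eq_zero_iff {T₀ : T'.Opens} (hT₀ : IsAffineOpen T₀) (O : Z.Opens)
    (hO : O = t ⁻¹ᵁ T₀) (x : Γ(T', T₀)) :
    (t.appLE T₀ O (le_of_eq hO)).hom x = 0 ↔ x ∈ t.ker.ideal ⟨T₀, hT₀⟩ := by
  subst hO
  have happ : t.appLE T₀ (t ⁻¹ᵁ T₀) (le_of_eq rfl) = t.app T₀ := t.appLE_eq_app
  rw [mem_I_iff t hT₀, happ]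

/-- For a first order thickening the class map from sections of the ideal over an affine open to
sections of the conormal sheaf is bijective. -/
theorem cUV_bijective_of_fot (ht : t.ker * t.ker = ⊥) {T₀ : T'.Opens} (hT₀ : IsAffineOpen T₀)
    (O : Z.Opens) (hO : O = t ⁻¹ᵁ T₀) :
    Function.Bijective (PBH8.cUV t (ClSub.idealMod t.ker) (le_of_eq hO)) := by
  subst hO
  refine ⟨?_, fun y => cY_surj t hT₀ y⟩
  intro s₁ s₂ h
  have h1 : cY t T₀ (s₁ - s₂) = 0 := by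
    have h2 := cUV_sub t (ClSub.idealMod t.ker) (le_refl (t ⁻¹ᵁ T₀)) s₁ s₂
    have h3 : PBH8.cUV t (ClSub.idealMod t.ker) (le_refl (t ⁻¹ᵁ T₀)) s₁ =
        PBH8.cUV t (ClSub.idealMod t.ker) (le_refl (t ⁻¹ᵁ T₀)) s₂ := h
    rw [h3, sub_self] at h2
    exact h2
  exact sub_eq_zero.mp (cY_injective_of_fot t ht hT₀ _ h1)

end Thick

section Sections

set_option maxHeartbeats 6400000 in
theorem sec9772 {X Y X' P : Scheme.{u}} (f : X ⟶ Y) (i : X ⟶ X') (h' : X' ⟶ Y)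
    (hu : OmegaSh.IsUnivThickening f i h') (U : X.Opens) (ι : (U : Scheme.{u}) ⟶ P) (π : P ⟶ Y)
    (hπ : MoreMor.IsFormallySmoothHom π) (hfac : ι ≫ π = U.ι ≫ f)
    {V : P.Opens} (hV : IsAffineOpen V) {T : Y.Opens} (hT : IsAffineOpen T) (hVT : V ≤ π ⁻¹ᵁ T)
    (hιV : IsAffineOpen (ι ⁻¹ᵁ V)) (hsV : Function.Surjective (ι.app V).hom)
    (rs : List Γ(P, V)) (hrs : CAlgX.IsH1Regular rs.get)
    (hK : RingHom.ker (ι.app V).hom = Ideal.ofList rs) :
    Module.Finite Γ(X, U.ι ''ᵁ (ι ⁻¹ᵁ V)) Γ(Omega.conormal i, U.ι ''ᵁ (ι ⁻¹ᵁ V)) ∧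
      Module.Projective Γ(X, U.ι ''ᵁ (ι ⁻¹ᵁ V)) Γ(Omega.conormal i, U.ι ''ᵁ (ι ⁻¹ᵁ V)) := by
  haveI ci : IsClosedImmersion i := hu.1.1.1
  haveI si : Surjective i := hu.1.1.2
  have hif : i ≫ h' = f := hu.2.1
  have hO : IsAffineOpen (U.ι ''ᵁ (ι ⁻¹ᵁ V)) := hιV.image_of_isOpenImmersion U.ι
  obtain ⟨W'', hW''eq⟩ :=
    Groth.Agent.Lib.UnivThickSch1_helper7.exists_opens_preimage_eq i hu.1 (U.ι ''ᵁ (ι ⁻¹ᵁ V))
  have hW'' : IsAffineOpen W'' := by
    refine Groth.Agent.Lib.ThickAffH6.isAffineOpen_of_thickening i W'' ?_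
    rw [hW''eq]
    exact hO
  have hfx : ∀ u : (U : Scheme.{u}), u ∈ ι ⁻¹ᵁ V → f (U.ι u) ∈ T := by
    intro u hu'
    have h1 : (ι ≫ π) u = (U.ι ≫ f) u := by rw [hfac]
    have h2 : π (ι u) ∈ T := hVT hu'
    have h3 : f (U.ι u) = π (ι u) := h1.symm
    rw [h3]
    exact h2
  have eOT : U.ι ''ᵁ (ι ⁻¹ᵁ V) ≤ f ⁻¹ᵁ T := by
    rintro _ ⟨u, hu', rfl⟩
    exact hfx u hu'
  have hW''T : W'' ≤ h' ⁻¹ᵁ T := by
    intro w hw
    obtain ⟨x₀, rfl⟩ := i.surjective w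
    have h1 : x₀ ∈ i ⁻¹ᵁ W'' := hw
    rw [hW''eq] at h1
    have h2 : f x₀ ∈ T := eOT h1
    have h3 : h' (i x₀) = f x₀ := congrArg (fun q : X ⟶ Y => q x₀) hif
    show h' (i x₀) ∈ T
    rw [h3]
    exact h2
  have hOle : U.ι ''ᵁ (ι ⁻¹ᵁ V) ≤ i ⁻¹ᵁ W'' := le_of_eq hW''eq.symm
  -- rings
  letI aYP : Algebra Γ(Y, T) Γ(P, V) := (π.appLE T V hVT).hom.toAlgebra
  haveI fs : Algebra.FormallySmooth Γ(Y, T) Γ(P, V) :=
    Groth.Agent.Lib.OmegaFSmoothH4.formallySmooth_appLE π hπ hV hT hVT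
  letI aYC : Algebra Γ(Y, T) Γ(X, U.ι ''ᵁ (ι ⁻¹ᵁ V)) :=
    (f.appLE T (U.ι ''ᵁ (ι ⁻¹ᵁ V)) eOT).hom.toAlgebra
  letI aYR : Algebra Γ(Y, T) Γ(X', W'') := (h'.appLE T W'' hW''T).hom.toAlgebra
  obtain ⟨π'', hπ'', hR⟩ := ringUniv hu hW'' hT hW''T (U.ι ''ᵁ (ι ⁻¹ᵁ V)) hW''eq.symm eOT
  let φ : Γ(P, V) →+* Γ(X, U.ι ''ᵁ (ι ⁻¹ᵁ V)) := (ι.app V).hom
  letI aPC : Algebra Γ(P, V) Γ(X, U.ι ''ᵁ (ι ⁻¹ᵁ V)) := φ.toAlgebra
  have e4 : ι ⁻¹ᵁ V ≤ U.ι ⁻¹ᵁ (U.ι ''ᵁ (ι ⁻¹ᵁ V)) :=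
    le_of_eq (Scheme.Hom.preimage_image_eq U.ι (ι ⁻¹ᵁ V)).symm
  have hUι : ∀ c₀ : Γ(X, U.ι ''ᵁ (ι ⁻¹ᵁ V)),
      (U.ι.appLE (U.ι ''ᵁ (ι ⁻¹ᵁ V)) (ι ⁻¹ᵁ V) e4).hom c₀ = c₀ := by
    intro c₀
    have h1 := U.ι_appLE (U.ι ''ᵁ (ι ⁻¹ᵁ V)) (ι ⁻¹ᵁ V) e4
    have h2 : (X.presheaf.map (homOfLE (le_refl (U.ι ''ᵁ (ι ⁻¹ᵁ V)))).op).hom c₀ = c₀ := by
      have h0 : (homOfLE (le_refl (U.ι ''ᵁ (ι ⁻¹ᵁ V)))).op = 𝟙 (op (U.ι ''ᵁ (ι ⁻¹ᵁ V))) := rfl
      rw [h0, CategoryTheory.Functor.map_id]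
      rfl
    exact (congrArg (fun q => q.hom c₀) h1).trans h2
  have hYPC : ∀ y : Γ(Y, T), algebraMap Γ(P, V) Γ(X, U.ι ''ᵁ (ι ⁻¹ᵁ V))
      (algebraMap Γ(Y, T) Γ(P, V) y) = algebraMap Γ(Y, T) Γ(X, U.ι ''ᵁ (ι ⁻¹ᵁ V)) y := by
    intro y
    have sq := appLE_square ι π U.ι f hfac hVT (le_refl (ι ⁻¹ᵁ V)) eOT e4 y
    have hιapp : ι.appLE V (ι ⁻¹ᵁ V) (le_refl _) = ι.app V := ι.appLE_eq_app
    have h1 : (ι.app V).hom ((π.appLE T V hVT).hom y) =
        (ι.appLE V (ι ⁻¹ᵁ V) (le_refl _)).hom ((π.appLE T V hVT).hom y) :=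
      (congrArg (fun q => q.hom ((π.appLE T V hVT).hom y)) hιapp).symm
    exact h1.trans (sq.trans (hUι _))
  have hsurj : Function.Surjective (algebraMap Γ(P, V) Γ(X, U.ι ''ᵁ (ι ⁻¹ᵁ V))) := hsV
  have hK' : RingHom.ker (algebraMap Γ(P, V) Γ(X, U.ι ''ᵁ (ι ⁻¹ᵁ V))) = Ideal.ofList rs := hK
  -- the module data
  let c : Γ(ClSub.idealMod i.ker, W'') →+ Γ(Omega.conormal i, U.ι ''ᵁ (ι ⁻¹ᵁ V)) :=
    AddMonoidHom.mk' (fun n => PBH8.cUV i (ClSub.idealMod i.ker) hOle n)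
      (PBH8.cUV_add i (ClSub.idealMod i.ker) hOle)
  have hc : ∀ (r : Γ(X', W'')) (n : Γ(ClSub.idealMod i.ker, W'')),
      c (r • n) = π'' r • c n := by
    intro r n
    have h1 := PBH8.cUV_smul i (ClSub.idealMod i.ker) hOle r n
    have h2 : π'' r = (i.appLE W'' (U.ι ''ᵁ (ι ⁻¹ᵁ V)) hOle).hom r := hπ'' r
    rw [h2]
    exact h1
  have hcb : Function.Bijective c :=
    cUV_bijective_of_fot i hu.1.2 hW'' (U.ι ''ᵁ (ι ⁻¹ᵁ V)) hW''eq.symm
  have hmem : ∀ n : Γ(ClSub.idealMod i.ker, W''), π'' (OmegaSh.idealSect i.ker W'' n) = 0 := by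
    intro n
    rw [hπ'']
    exact (appLE_eq_zero_iff i hW'' _ hW''eq.symm _).mpr (TensH8.idealModι_mem i.ker hW'' n)
  have hex : ∀ j : Γ(X', W''), π'' j = 0 →
      ∃ n : Γ(ClSub.idealMod i.ker, W''), OmegaSh.idealSect i.ker W'' n = j := by
    intro j hj
    rw [hπ''] at hj
    exact TensH8.exists_idealMod_section i.ker hW'' j
      ((appLE_eq_zero_iff i hW'' _ hW''eq.symm j).mp hj)
  exact finite_projective_of_lci hYPC hsurj rs hrs hK' hR
    (OmegaSh.idealSect i.ker W'') (fun r n => TensH8.idealModι_smul i.ker r n)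
    (fun s t h => TensH8.idealModι_injective i.ker W'' h) hmem hex c hc hcb

end Sections

section Main

set_option maxHeartbeats 6400000 in
theorem main9772 {X Y X' : Scheme.{u}} (f : X ⟶ Y)
    (hf : ∀ x : X, Synt.IsKoszulAt f x) [FormallyUnramified f] (i : X ⟶ X') (h' : X' ⟶ Y)
    (hu : OmegaSh.IsUnivThickening f i h') : FlatMod.IsFinLocFree (Omega.conormal i) := by
  haveI ci : IsClosedImmersion i := hu.1.1.1
  haveI qc1 : (ClSub.idealMod i.ker).IsQuasicoherent := isQuasicoherent_idealMod _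
  haveI qc2 : (Omega.conormal i).IsQuasicoherent := by
    unfold Omega.conormal
    infer_instance
  refine finLocFree_of_local_finite_projective _ (fun x => ?_)
  obtain ⟨U, P, ι, π, hxU, -, hι, hsm, hfac⟩ := hf x
  haveI := hι.1
  haveI := hsm
  obtain ⟨V₀, hzV₀, hcl, rs₀, hrs₀, hker₀⟩ := hι.2 ⟨x, hxU⟩
  haveI := hcl
  have hrs₀' : LCI.IsKoszulRegularSeq Γ(P, V₀.1) rs₀ := hrs₀
  obtain ⟨_, ⟨T, hT : IsAffineOpen T, rfl⟩, hzT, -⟩ :=
    Y.isBasis_affineOpens.exists_subset_of_mem_open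
      (Set.mem_univ (π (ι ⟨x, hxU⟩))) isOpen_univ
  have hzT' : ι ⟨x, hxU⟩ ∈ π ⁻¹ᵁ T := hzT
  obtain ⟨g, hgle, hzg⟩ := V₀.2.exists_basicOpen_le (V := π ⁻¹ᵁ T) ⟨ι ⟨x, hxU⟩, hzT'⟩ hzV₀
  have hV : IsAffineOpen (P.basicOpen g) := V₀.2.basicOpen g
  have hV₀pre : IsAffineOpen (ι ⁻¹ᵁ V₀.1) := by
    haveI : IsAffine (V₀.1 : Scheme.{u}) := V₀.2
    exact (IsClosedImmersion.isAffine_surjective_of_isAffine (ι ∣_ V₀.1)).1
  have hs₀ : Function.Surjective (ι.app V₀.1).hom :=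
    app_surjective_of_le' ι V₀.1 (le_refl _) V₀.2
  obtain ⟨hιV, hsV⟩ := Groth.Agent.Lib.ConormTrans3H7.good_basicOpen ι hV₀pre hs₀ g
  have hkerV := ker_app_basicOpen ι V₀.2 hV₀pre g
  have hrs : CAlgX.IsH1Regular
      (rs₀.map (P.presheaf.map (homOfLE (P.basicOpen_le g)).op).hom).get :=
    Groth.Agent.Lib.RegKindFlat.h1_map_of_flat _
      (Groth.Agent.Lib.ConormTransH7.flat_res V₀.2 g) rs₀
      (Groth.Agent.Lib.KoszulLow.h1_of_koszulRegular rs₀ hrs₀')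
  have hK : RingHom.ker (ι.app (P.basicOpen g)).hom =
      Ideal.ofList (rs₀.map (P.presheaf.map (homOfLE (P.basicOpen_le g)).op).hom) := by
    rw [hkerV, hker₀, Ideal.map_ofList]
  have key := sec9772 f i h' hu U ι π (Groth.Agent.Lib.FSmoothIffH7.fs_of_smooth π) hfac hV hT
    hgle hιV hsV _ hrs hK
  exact ⟨U.ι ''ᵁ (ι ⁻¹ᵁ P.basicOpen g), hιV.image_of_isOpenImmersion U.ι,
    ⟨⟨x, hxU⟩, hzg, rfl⟩, key.1, key.2⟩

end Main

end Groth.Agent.Lib.LciConormH7
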