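import Mathlib
import Groth.Prelude.Def_ArtFun4
import Groth.Agent.Lib.LciDef1_helper3
import Groth.Agent.Lib.LciDef2_helper3
import Groth.Agent.Lib.DefRingL1_helper3

/-!
# The deformation functor of an affine local complete intersection is smooth (helper3)
-/

set_option autoImplicit false
set_option linter.unusedSectionVars false
set_option linter.style.haveILetI false

universe u

open CategoryTheory CategoryTheory.Limits AlgebraicGeometry

namespace Groth.Agent.Lib.LciDefH3

open Groth.Agent.Lib.DefRingLH3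

theorem main12310 (Λ k : Type u) [CommRing Λ] [Field k] [Algebra Λ k]
    (A₀ : Type u) [CommRing A₀] [Algebra k A₀] (hA : LCI.IsLCI k A₀) :
    ArtFun.IsSmoothFunctor (ArtFun.defFunctor (Λ := Λ) (Spec (CommRingCat.of A₀))
      (Spec.map (CommRingCat.ofHom (algebraMap k A₀)))) := by
  obtain ⟨ι, σ, P, hT2⟩ := exists_presentation_T2 k A₀ hA
  intro A' A p hp c
  obtain ⟨ξ, rfl⟩ := Quotient.exists_rep c
  obtain ⟨E, _, γ, α, hflat, hα, hker, hcomp, ⟨iso⟩⟩ := exists_ofRing ξ
  have hkerα : RingHom.ker α = (RingHom.ker A.res.toRingHom).map γ := by rw [hker, ker_res]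
  obtain ⟨E', _, γ', α', π, hflat', hα', hkerα', hcomp', hπγ, hπs, hkerπ, hαπ⟩ :=
    exists_lift_of_surjective P hT2 A'.res.toRingHom A'.res_surjective A.res.toRingHom
      p.toAlgHom.toRingHom (fun a => ArtFun.Art.res_app p a) hp E γ α hflat hα hkerα hcomp
  have hkerα'' : RingHom.ker α' = (IsLocalRing.maximalIdeal A').map γ' := by
    rw [hkerα', ker_res]
  let ξ' := ofRing A' E' γ' α' hflat' hα' hkerα'' hcomp'
  obtain ⟨iso'⟩ := baseChange_ofRing p E' γ' α' hflat' hα' hkerα'' hcomp' E γ α hflat hα hker hcomp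
    hp π hπγ hπs hkerπ hαπ
  refine ⟨ξ'.cl, ?_⟩
  rw [ArtFun.defFunctor_map_cl]
  exact Quotient.sound ⟨iso'.trans iso.symm⟩

end Groth.Agent.Lib.LciDefH3
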