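import Mathlib
import Groth.Prelude
import Groth.Agent.Lib.UnivThickTrans1_helper7
import Groth.Agent.Lib.ConormTrans1_helper7
import Groth.Agent.Lib.IndSmLift1_helper8

/-!
# Left exactness of the conormal sequence of universal thickenings for lci maps, ring level
(helper7)

For `A → B → C` with universal first order thickenings `B' → B`, `C' → C` over `A`, the canonical
map `m : B' → C'`, and `B → C` a local complete intersection in the sense that `C = P₀ / (rs)` with
`P₀` standard smooth over `B` and `rs` an `H_1`-regular sequence: the induced map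
`ker (B' → B) ⊗_B C → ker (C' → C)` is injective (`injective_of_lci`, stated for abstract module
data).  The proof lifts `P₀` to a standard smooth `B'`-algebra `P'` and tests against the first
order thickening `P' / K'^2` of `C`.
APPEND-ONLY once landed.
-/

set_option autoImplicit false
set_option linter.style.haveILetI false

universe u

open TensorProduct

namespace Groth.Agent.Lib.LciSESH7

section Lift

/-- A standard smooth algebra lifts along a surjective ring map (helper8's lemma, repackaged). -/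
theorem exists_lift_of_surjective {R S P₀ : Type u} [CommRing R] [CommRing S] [CommRing P₀]
    [Algebra S P₀] [Algebra.IsStandardSmooth S P₀] (π : R →+* S) (hπ : Function.Surjective π) :
    ∃ (P' : Type u) (_ : CommRing P') (_ : Algebra R P') (θ : P' →+* P₀),
      Algebra.IsStandardSmooth R P' ∧ Function.Surjective θ ∧
      (∀ x, θ (algebraMap R P' x) = algebraMap S P₀ (π x)) ∧
      RingHom.ker θ ≤ (RingHom.ker π).map (algebraMap R P') := by
  let e : R ⧸ RingHom.ker π ≃+* S := RingHom.quotientKerEquivOfSurjective hπ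
  letI a1 : Algebra (R ⧸ RingHom.ker π) P₀ := ((algebraMap S P₀).comp e.toRingHom).toAlgebra
  letI a2 : Algebra R P₀ := ((algebraMap S P₀).comp π).toAlgebra
  haveI t : IsScalarTower R (R ⧸ RingHom.ker π) P₀ :=
    IsScalarTower.of_algebraMap_eq (fun x => by
      show algebraMap S P₀ (π x) = algebraMap S P₀ (e (Ideal.Quotient.mk _ x))
      rw [RingHom.quotientKerEquivOfSurjective_apply_mk])
  haveI ss : Algebra.IsStandardSmooth (R ⧸ RingHom.ker π) P₀ := by
    have h0 : (algebraMap S P₀).IsStandardSmooth :=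
      RingHom.isStandardSmooth_algebraMap.mpr inferInstance
    exact RingHom.isStandardSmooth_respectsIso.2 (algebraMap S P₀) e h0
  obtain ⟨P', i1, i2, θ, h1, h2, h3⟩ :=
    IndSmLiftH8.exists_lift_standardSmooth (RingHom.ker π) P₀
  exact ⟨P', i1, i2, θ.toRingHom, h1, h2, fun x => θ.commutes x, h3⟩

/-- Uniqueness of lifts out of a universal first order thickening. -/
theorem lift_unique {R S S' : Type u} [CommRing R] [CommRing S] [CommRing S'] [Algebra R S]
    [Algebra R S'] {π : S' →ₐ[R] S} (h : OmegaSh.IsUnivThickeningRing R S S' π)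
    {T C : Type u} [CommRing T] [Algebra R T] [CommRing C] [Algebra R C]
    (p : T →ₐ[R] C) (hk : ∀ x y : T, p x = 0 → p y = 0 → x * y = 0)
    (a₁ a₂ : S' →ₐ[R] T) (h12 : ∀ x, p (a₁ x) = p (a₂ x))
    (hfac : ∀ x, π x = 0 → p (a₁ x) = 0) : a₁ = a₂ := by
  obtain ⟨hsurj, -, huniv⟩ := h
  have hI : (RingHom.ker p) ^ 2 = ⊥ := by
    rw [pow_two, eq_bot_iff, Ideal.mul_le]
    intro x hx y hy
    rw [Ideal.mem_bot]
    exact hk x y ((RingHom.mem_ker).mp hx) ((RingHom.mem_ker).mp hy)
  let q : T →ₐ[R] T ⧸ RingHom.ker p := Ideal.Quotient.mkₐ R (RingHom.ker p)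
  have H : RingHom.ker π.toRingHom ≤ RingHom.ker (q.comp a₁).toRingHom := by
    intro x hx
    rw [RingHom.mem_ker]
    show Ideal.Quotient.mk (RingHom.ker p) (a₁ x) = 0
    rw [Ideal.Quotient.eq_zero_iff_mem, RingHom.mem_ker]
    exact hfac x ((RingHom.mem_ker).mp hx)
  let a : S →ₐ[R] T ⧸ RingHom.ker p := AlgHom.liftOfSurjective π hsurj (q.comp a₁) H
  have ha : ∀ x, a (π x) = q (a₁ x) :=
    fun x => AlgHom.liftOfSurjective_apply π hsurj (q.comp a₁) H x
  obtain ⟨a', -, hau⟩ := huniv T (RingHom.ker p) hI a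
  have e1 : a₁ = a' := hau a₁ (AlgHom.ext fun x => (ha x).symm)
  have e2 : a₂ = a' := hau a₂ (AlgHom.ext fun x => by
    show Ideal.Quotient.mk (RingHom.ker p) (a₂ x) = a (π x)
    rw [ha]
    show Ideal.Quotient.mk (RingHom.ker p) (a₂ x) = Ideal.Quotient.mk (RingHom.ker p) (a₁ x)
    rw [Ideal.Quotient.eq, RingHom.mem_ker, map_sub, h12, sub_self])
  rw [e1, e2]

end Lift

section Main

set_option maxHeartbeats 3200000 in
/-- Injectivity of `ker (B' → B) ⊗_B C → ker (C' → C)` for a local complete intersection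
`B → C`, for abstract module data. -/
theorem injective_of_lci {A B B' C C' P₀ : Type u} [CommRing A] [CommRing B] [CommRing B']
    [CommRing C] [CommRing C'] [CommRing P₀]
    [Algebra A B] [Algebra A B'] [Algebra A C] [Algebra A C'] [Algebra B C] [Algebra B P₀]
    [Algebra.IsStandardSmooth B P₀]
    (hABC : ∀ a : A, algebraMap B C (algebraMap A B a) = algebraMap A C a)
    {πB : B' →ₐ[A] B} (hB : OmegaSh.IsUnivThickeningRing A B B' πB)
    {πC : C' →ₐ[A] C} (hC : OmegaSh.IsUnivThickeningRing A C C' πC)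
    (m : B' →+* C') (hmA : ∀ a, m (algebraMap A B' a) = algebraMap A C' a)
    (hm : ∀ x, πC (m x) = algebraMap B C (πB x))
    (φ : P₀ →+* C) (hφ : Function.Surjective φ)
    (hφB : ∀ y : B, φ (algebraMap B P₀ y) = algebraMap B C y)
    (rs : List P₀) (hrs : CAlgX.IsH1Regular rs.get) (hK : RingHom.ker φ = Ideal.ofList rs)
    {MB N MC L : Type u} [AddCommGroup MB] [Module B' MB] [AddCommGroup N] [Module C N]
    [AddCommGroup MC] [Module C' MC] [AddCommGroup L] [Module C L]
    (ιB : MB →+ B') (hιB : ∀ (r : B') (n : MB), ιB (r • n) = r * ιB n)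
    (hιBinj : Function.Injective ιB) (hιBmem : ∀ n, πB (ιB n) = 0)
    (hιBex : ∀ x : B', πB x = 0 → ∃ n, ιB n = x)
    (g : MB →+ N) (hg : ∀ (r : B') (n : MB), g (r • n) = algebraMap B C (πB r) • g n)
    (hspan : ∀ ν : N, ν ∈ Submodule.span C (Set.range g))
    (ιC : MC →+ C') (hιC : ∀ (r : C') (n : MC), ιC (r • n) = r * ιC n)
    (cC : MC →+ L) (hcC : ∀ (r : C') (n : MC), cC (r • n) = πC r • cC n)
    (hcCinj : Function.Injective cC)
    (ψ : N →+ L) (hψ : ∀ (c : C) (ν : N), ψ (c • ν) = c • ψ ν)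
    (hform : ∀ s' : MB, ∃ s₁ : MC, ψ (g s') = cC s₁ ∧ ιC s₁ = m (ιB s')) :
    ∀ ν : N, ψ ν = 0 → ν = 0 := by
  classical
  -- the lift of `P₀` to `B'`
  obtain ⟨P', _, _, θ, hss, hθsurj, hθB, hθker⟩ :=
    exists_lift_of_surjective (P₀ := P₀) πB.toRingHom hB.1
  haveI := hss
  haveI hflat : Module.Flat B' P' := inferInstance
  let θc : P' →+* C := φ.comp θ
  have hθc : ∀ p, θc p = φ (θ p) := fun _ => rfl
  have hθcsurj : Function.Surjective θc := hφ.comp hθsurj
  have hθcB : ∀ x : B', θc (algebraMap B' P' x) = algebraMap B C (πB x) := fun x => by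
    rw [hθc, hθB]
    exact hφB _
  have hIker : RingHom.ker θ = (RingHom.ker πB.toRingHom).map (algebraMap B' P') := by
    refine le_antisymm hθker ?_
    rw [Ideal.map_le_iff_le_comap]
    intro x hx
    rw [Ideal.mem_comap, RingHom.mem_ker, hθB]
    have h0 : πB.toRingHom x = 0 := (RingHom.mem_ker).mp hx
    rw [h0, map_zero]
  have hKc : RingHom.ker θc = (Ideal.span (Set.range rs.get)).comap θ := by
    rw [← Groth.Agent.Lib.ConormTransH7.ofList_eq_span_range, ← hK]
    exact (RingHom.comap_ker φ θ).symm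
  -- the tensor product and the maps `α`, `β`
  letI modN : Module B' N := Module.compHom N ((algebraMap B C).comp πB.toRingHom)
  have hsmulN : ∀ (r : B') (ν : N), r • ν = algebraMap B C (πB r) • ν := fun _ _ => rfl
  let ιBl : MB →ₗ[B'] B' :=
    { toFun := ιB
      map_add' := map_add ιB
      map_smul' := fun r n => by
        rw [RingHom.id_apply, smul_eq_mul]
        exact hιB r n }
  let α : MB ⊗[B'] P' →ₗ[B'] P' :=
    (TensorProduct.lid B' P').toLinearMap ∘ₗ (LinearMap.rTensor P' ιBl)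
  have hα : Function.Injective α :=
    (TensorProduct.lid B' P').injective.comp
      (Module.Flat.rTensor_preserves_injective_linearMap ιBl hιBinj)
  have hαt : ∀ (n : MB) (p : P'), α (n ⊗ₜ[B'] p) = algebraMap B' P' (ιB n) * p := fun n p => by
    show (TensorProduct.lid B' P') ((LinearMap.rTensor P' ιBl) (n ⊗ₜ[B'] p)) = _
    rw [LinearMap.rTensor_tmul, TensorProduct.lid_tmul, Algebra.smul_def]
    rfl
  let β : MB ⊗[B'] P' →ₗ[B'] N :=
    TensorProduct.lift (LinearMap.mk₂ B' (fun (n : MB) (p : P') => θc p • g n)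
      (fun n₁ n₂ p => by
        show θc p • g (n₁ + n₂) = θc p • g n₁ + θc p • g n₂
        rw [map_add, smul_add])
      (fun r n p => by
        show θc p • g (r • n) = r • (θc p • g n)
        rw [hg, hsmulN]
        exact smul_comm _ _ _)
      (fun n p₁ p₂ => by
        show θc (p₁ + p₂) • g n = θc p₁ • g n + θc p₂ • g n
        rw [map_add, add_smul])
      (fun r n p => by
        show θc (r • p) • g n = r • (θc p • g n)
        rw [Algebra.smul_def, map_mul, hθcB, mul_smul, hsmulN]))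
  have hβt : ∀ (n : MB) (p : P'), β (n ⊗ₜ[B'] p) = θc p • g n :=
    fun n p => TensorProduct.lift.tmul n p
  let star : P' → (MB ⊗[B'] P' →ₗ[B'] MB ⊗[B'] P') :=
    fun κ => LinearMap.lTensor MB (LinearMap.mulLeft B' κ)
  have hstar_t : ∀ (κ : P') (n : MB) (p : P'), star κ (n ⊗ₜ[B'] p) = n ⊗ₜ[B'] (κ * p) :=
    fun κ n p => LinearMap.lTensor_tmul _ _ _ _
  have hαstar : ∀ (κ : P') (η : MB ⊗[B'] P'), α (star κ η) = κ * α η := by
    intro κ η
    induction η using TensorProduct.induction_on with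
    | zero => simp only [map_zero, mul_zero]
    | tmul n p =>
      rw [hstar_t, hαt, hαt]
      ring
    | add x y hx hy => simp only [map_add, hx, hy, mul_add]
  have hβstar : ∀ (κ : P') (η : MB ⊗[B'] P'), β (star κ η) = θc κ • β η := by
    intro κ η
    induction η using TensorProduct.induction_on with
    | zero => simp only [map_zero, smul_zero]
    | tmul n p => rw [hstar_t, hβt, hβt, map_mul, mul_smul]
    | add x y hx hy => simp only [map_add, hx, hy, smul_add]
  -- the test thickening `P' / K'^2`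
  letI algAP : Algebra A P' := ((algebraMap B' P').comp (algebraMap A B')).toAlgebra
  haveI towAP : IsScalarTower A B' P' := IsScalarTower.of_algebraMap_eq (fun _ => rfl)
  let Kc : Ideal P' := RingHom.ker θc
  let θcA : P' →ₐ[A] C :=
    { θc with
      commutes' := fun a => by
        show θc (algebraMap B' P' (algebraMap A B' a)) = algebraMap A C a
        rw [hθcB, πB.commutes, hABC] }
  have hθcA : ∀ p, θcA p = θc p := fun _ => rfl
  have hKK : ∀ a ∈ Kc * Kc, θcA a = 0 := fun a ha =>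
    (RingHom.mem_ker).mp (Ideal.mul_le_right ha)
  let pT : (P' ⧸ (Kc * Kc)) →ₐ[A] C := Ideal.Quotient.liftₐ (Kc * Kc) θcA hKK
  have hpT : ∀ x : P', pT (Ideal.Quotient.mk (Kc * Kc) x) = θc x := fun x => rfl
  have hpTsurj : Function.Surjective pT := fun c => by
    obtain ⟨x, hx⟩ := hθcsurj c
    exact ⟨Ideal.Quotient.mk _ x, (hpT x).trans hx⟩
  have hkT : ∀ x y : P' ⧸ (Kc * Kc), pT x = 0 → pT y = 0 → x * y = 0 := by
    intro x y hx hy
    obtain ⟨x', rfl⟩ := Ideal.Quotient.mk_surjective x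
    obtain ⟨y', rfl⟩ := Ideal.Quotient.mk_surjective y
    rw [hpT] at hx hy
    rw [← map_mul, Ideal.Quotient.eq_zero_iff_mem]
    exact Ideal.mul_mem_mul ((RingHom.mem_ker).mpr hx) ((RingHom.mem_ker).mpr hy)
  obtain ⟨uu, huu⟩ := Groth.Agent.Lib.UnivThickTransH7.exists_lift hC pT hpTsurj hkT
  let mA : B' →ₐ[A] C' := { m with commutes' := fun a => hmA a }
  let τ : B' →ₐ[A] P' ⧸ (Kc * Kc) :=
    (Ideal.Quotient.mkₐ A (Kc * Kc)).comp (IsScalarTower.toAlgHom A B' P')
  have hτ : ∀ x : B', τ x = Ideal.Quotient.mk (Kc * Kc) (algebraMap B' P' x) := fun _ => rfl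
  have hum : uu.comp mA = τ := by
    refine lift_unique hB pT hkT (uu.comp mA) τ (fun x => ?_) (fun x hx => ?_)
    · show pT (uu (m x)) = pT (τ x)
      rw [huu, hm, hτ, hpT, hθcB]
    · show pT (uu (m x)) = 0
      rw [huu, hm, hx, map_zero]
  have hum' : ∀ x : B', uu (m x) = Ideal.Quotient.mk (Kc * Kc) (algebraMap B' P' x) :=
    fun x => (AlgHom.congr_fun hum x).trans (hτ x)
  -- the key relation
  have claim : ∀ η : MB ⊗[B'] P', ∃ s : MC, cC s = ψ (β η) ∧
      uu (ιC s) = Ideal.Quotient.mk (Kc * Kc) (α η) := by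
    intro η
    induction η using TensorProduct.induction_on with
    | zero => exact ⟨0, by simp only [map_zero], by simp only [map_zero]⟩
    | tmul n p =>
      obtain ⟨s₁, hs₁, hs₁'⟩ := hform n
      obtain ⟨c', hc'⟩ := hC.1 (θc p)
      refine ⟨c' • s₁, ?_, ?_⟩
      · rw [hcC, hc', hβt, hψ, hs₁]
      · rw [hιC, map_mul, hs₁', hum', hαt, map_mul]
        have h1 : pT (uu c' - Ideal.Quotient.mk (Kc * Kc) p) = 0 := by
          rw [map_sub, huu, hc', hpT, sub_self]
        have h2 : pT (Ideal.Quotient.mk (Kc * Kc) (algebraMap B' P' (ιB n))) = 0 := by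
          rw [hpT, hθcB, hιBmem, map_zero]
        have h3 := hkT _ _ h1 h2
        rw [sub_mul, sub_eq_zero] at h3
        rw [h3]
        exact mul_comm _ _
    | add x y hx hy =>
      obtain ⟨s₁, h1, h2⟩ := hx
      obtain ⟨s₂, h3, h4⟩ := hy
      exact ⟨s₁ + s₂, by simp only [map_add, h1, h3], by simp only [map_add, h2, h4]⟩
  -- surjectivity of `β`
  have hβsurj : ∀ ν : N, ∃ η, β η = ν := by
    intro ν
    refine Submodule.span_induction (p := fun ν _ => ∃ η, β η = ν) ?_ ?_ ?_ ?_ (hspan ν)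
    · rintro _ ⟨n, rfl⟩
      exact ⟨n ⊗ₜ[B'] 1, by rw [hβt, map_one, one_smul]⟩
    · exact ⟨0, map_zero β⟩
    · rintro x y _ _ ⟨η₁, rfl⟩ ⟨η₂, rfl⟩
      exact ⟨η₁ + η₂, map_add β η₁ η₂⟩
    · rintro c x _ ⟨η, rfl⟩
      obtain ⟨p, rfl⟩ := hθcsurj c
      exact ⟨star p η, hβstar p η⟩
  -- the image of `α`
  have hαmem : ∀ η, α η ∈ RingHom.ker θ := by
    intro η
    induction η using TensorProduct.induction_on with
    | zero =>
      rw [map_zero]
      exact Ideal.zero_mem _
    | tmul n p =>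
      rw [hαt, hIker]
      exact Ideal.mul_mem_right _ _
        (Ideal.mem_map_of_mem _ ((RingHom.mem_ker).mpr (hιBmem n)))
    | add x y hx hy =>
      rw [map_add]
      exact Ideal.add_mem _ hx hy
  have hαex : ∀ y ∈ RingHom.ker θ, ∃ η, α η = y := by
    intro y hy
    rw [hIker] at hy
    refine Submodule.span_induction (p := fun y _ => ∃ η, α η = y) ?_ ?_ ?_ ?_ hy
    · rintro _ ⟨x, hx, rfl⟩
      obtain ⟨n, hn⟩ := hιBex x ((RingHom.mem_ker).mp hx)
      exact ⟨n ⊗ₜ[B'] 1, by rw [hαt, hn, mul_one]⟩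
    · exact ⟨0, map_zero α⟩
    · rintro x y _ _ ⟨η₁, rfl⟩ ⟨η₂, rfl⟩
      exact ⟨η₁ + η₂, map_add α η₁ η₂⟩
    · rintro p x _ ⟨η, rfl⟩
      exact ⟨star p η, by rw [hαstar, smul_eq_mul]⟩
  -- conclusion
  intro ν hν
  obtain ⟨η, rfl⟩ := hβsurj ν
  obtain ⟨s, hs1, hs2⟩ := claim η
  have hs0 : s = 0 := hcCinj (by rw [hs1, hν, map_zero])
  have hmem2 : α η ∈ Kc * Kc := by
    rw [← Ideal.Quotient.eq_zero_iff_mem, ← hs2, hs0, map_zero, map_zero]
  have hmem3 : α η ∈ RingHom.ker θ * Kc :=
    Groth.Agent.Lib.ConormTransH7.inf_sq_le_mul θ hθsurj rs.get hrs (RingHom.ker θ) Kc rfl hKc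
      (α η) (hαmem η) hmem2
  obtain ⟨η', hη'1, hη'2⟩ : ∃ η', α η' = α η ∧ β η' = 0 := by
    refine Submodule.mul_induction_on (C := fun y => ∃ η', α η' = y ∧ β η' = 0) hmem3 ?_ ?_
    · intro y₁ hy₁ κ hκ
      obtain ⟨η₁, rfl⟩ := hαex y₁ hy₁
      refine ⟨star κ η₁, ?_, ?_⟩
      · rw [hαstar]
        exact mul_comm _ _
      · rw [hβstar, (RingHom.mem_ker).mp hκ, zero_smul]
    · rintro x y ⟨η₁, rfl, h1⟩ ⟨η₂, rfl, h2⟩
      exact ⟨η₁ + η₂, map_add α η₁ η₂, by rw [map_add, h1, h2, add_zero]⟩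
  have hηη : η' = η := hα hη'1
  rw [← hηη, hη'2]

end Main

end Groth.Agent.Lib.LciSESH7
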