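import Mathlib
import Groth.Prelude
import Groth.Agent.Lib.LciSES1_helper7
import Groth.Agent.Lib.LciConorm2_helper7
import Groth.Agent.Lib.UnivThickTrans2_helper7

/-!
# Left exactness of the conormal sequence of universal thickenings for lci morphisms (helper7)

`main9785`: for formally unramified `Z → Y → X` with `Z → Y` Koszul at every point, the sequence
`0 → i^* C_{Y/X} → C_{Z/X} → C_{Z/Y} → 0` of conormal sheaves of universal first order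
thickenings is short exact.
APPEND-ONLY once landed.
-/

set_option autoImplicit false
set_option linter.style.haveILetI false

universe u

open CategoryTheory CategoryTheory.Limits AlgebraicGeometry Opposite TopologicalSpace
open QcqsLoc QCohExtn

namespace Groth.Agent.Lib.LciSESH7

open PBH8 Groth.Agent.Lib.ConormSeqH4 Groth.Agent.Lib.OmegaCompat2H4
open Groth.Agent.Lib.ConormDiffH4 Groth.Agent.Lib.OmegaAffH4 Groth.Agent.Lib.ConormTransH7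
open Groth.Agent.Lib.UnivThickTransH7 Groth.Agent.Lib.LciConormH7

section Chart

variable {U' P : Scheme.{u}}

/-- A good chart for an immersion `ι`: an affine open `V` of the target with affine preimage over
which `ι` is surjective on sections with kernel generated by the `H_1`-regular sequence `rs`. -/
structure Chart (ι : U' ⟶ P) (V : P.Opens) (rs : List Γ(P, V)) : Prop where
  aff : IsAffineOpen V
  preAff : IsAffineOpen (ι ⁻¹ᵁ V)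
  surj : Function.Surjective (ι.app V).hom
  h1 : CAlgX.IsH1Regular rs.get
  ker : RingHom.ker (ι.app V).hom = Ideal.ofList rs

theorem Chart.basicOpen {ι : U' ⟶ P} {V : P.Opens} {rs : List Γ(P, V)} (h : Chart ι V rs)
    (g : Γ(P, V)) :
    Chart ι (P.basicOpen g)
      (rs.map (P.presheaf.map (homOfLE (P.basicOpen_le g)).op).hom) := by
  obtain ⟨h1, h2⟩ := Groth.Agent.Lib.ConormTrans3H7.good_basicOpen ι h.preAff h.surj g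
  refine ⟨h.aff.basicOpen g, h1, h2, ?_, ?_⟩
  · exact Groth.Agent.Lib.RegKindFlat.h1_map_of_flat _
      (Groth.Agent.Lib.ConormTransH7.flat_res h.aff g) rs h.h1
  · rw [ker_app_basicOpen ι h.aff h.preAff g, h.ker, Ideal.map_ofList]

/-- Compatibility of the chart map with the structure maps from the base. -/
theorem chart_compat {Z Y : Scheme.{u}} (i : Z ⟶ Y) (U : Z.Opens)
    (ι : (U : Scheme.{u}) ⟶ P) (π : P ⟶ Y) (hfac : ι ≫ π = U.ι ≫ i) {V : P.Opens}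
    {T : Y.Opens} (hVT : V ≤ π ⁻¹ᵁ T) (eOT : U.ι ''ᵁ (ι ⁻¹ᵁ V) ≤ i ⁻¹ᵁ T) (y : Γ(Y, T)) :
    ((ι.app V).hom ((π.appLE T V hVT).hom y) : Γ(Z, U.ι ''ᵁ (ι ⁻¹ᵁ V))) =
      (i.appLE T (U.ι ''ᵁ (ι ⁻¹ᵁ V)) eOT).hom y := by
  have e4 : ι ⁻¹ᵁ V ≤ U.ι ⁻¹ᵁ (U.ι ''ᵁ (ι ⁻¹ᵁ V)) :=
    le_of_eq (Scheme.Hom.preimage_image_eq U.ι (ι ⁻¹ᵁ V)).symm
  have hUι : ∀ c₀ : Γ(Z, U.ι ''ᵁ (ι ⁻¹ᵁ V)),
      (U.ι.appLE (U.ι ''ᵁ (ι ⁻¹ᵁ V)) (ι ⁻¹ᵁ V) e4).hom c₀ = c₀ := by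
    intro c₀
    have h1 := U.ι_appLE (U.ι ''ᵁ (ι ⁻¹ᵁ V)) (ι ⁻¹ᵁ V) e4
    have h2 : (Z.presheaf.map (homOfLE (le_refl (U.ι ''ᵁ (ι ⁻¹ᵁ V)))).op).hom c₀ = c₀ := by
      have h0 : (homOfLE (le_refl (U.ι ''ᵁ (ι ⁻¹ᵁ V)))).op = 𝟙 (op (U.ι ''ᵁ (ι ⁻¹ᵁ V))) := rfl
      rw [h0, CategoryTheory.Functor.map_id]
      rfl
    exact (congrArg (fun q => q.hom c₀) h1).trans h2
  have sq := appLE_square ι π U.ι i hfac hVT (le_refl (ι ⁻¹ᵁ V)) eOT e4 y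
  have hιapp : ι.appLE V (ι ⁻¹ᵁ V) (le_refl _) = ι.app V := ι.appLE_eq_app
  have h1 : (ι.app V).hom ((π.appLE T V hVT).hom y) =
      (ι.appLE V (ι ⁻¹ᵁ V) (le_refl _)).hom ((π.appLE T V hVT).hom y) :=
    (congrArg (fun q => q.hom ((π.appLE T V hVT).hom y)) hιapp).symm
  exact h1.trans (sq.trans (hUι _))

end Chart

section PullId

/-- Injectivity of `(𝟙)^* ψ` on sections follows from injectivity of `ψ` on sections. -/
theorem injective_pullback_id_map {Z : Scheme.{u}} {F G : Z.Modules} (ψ : F ⟶ G) (O : Z.Opens)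
    (h : ∀ x : Γ(F, O), ψ.app O x = 0 → x = 0) :
    Function.Injective (((Scheme.Modules.pullback (𝟙 Z)).map ψ).app O) := by
  have nat : ∀ x : Γ(F, O),
      ((Scheme.Modules.pullback (𝟙 Z)).map ψ).app O (OmegaSh.pullSect (𝟙 Z) F O x) =
      OmegaSh.pullSect (𝟙 Z) G O (ψ.app O x) := by
    intro x
    have h1 := PBH8.cUV_naturality (𝟙 Z) ψ (le_refl ((𝟙 Z) ⁻¹ᵁ O)) x
    rw [cUV_rfl, cUV_rfl] at h1
    exact h1
  intro xt₁ xt₂ hxt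
  obtain ⟨x₁, rfl⟩ := (pullSect_id_bijective F O).2 xt₁
  obtain ⟨x₂, rfl⟩ := (pullSect_id_bijective F O).2 xt₂
  have hxt' : OmegaSh.pullSect (𝟙 Z) G O (ψ.app O x₁) =
      OmegaSh.pullSect (𝟙 Z) G O (ψ.app O x₂) := (nat x₁).symm.trans (hxt.trans (nat x₂))
  have h1 : ψ.app O x₁ = ψ.app O x₂ := (pullSect_id_bijective G O).1 hxt'
  have h2 : ψ.app O (x₁ - x₂) = 0 :=
    (map_sub (ψ.app O).hom x₁ x₂).trans (sub_eq_zero.mpr h1)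
  have h3 : x₁ = x₂ := sub_eq_zero.mp (h (x₁ - x₂) h2)
  rw [h3]

end PullId

section Sections

variable {Z Y X Z' Y' : Scheme.{u}} (i : Z ⟶ Y) (b : Y ⟶ X) (i' : Z ⟶ Z') (c : Z' ⟶ X)
  (j : Y ⟶ Y') (d : Y' ⟶ X) (m : Z' ⟶ Y')

set_option maxHeartbeats 6400000 in
theorem sec9785
    (hZ' : OmegaSh.IsUnivThickening (i ≫ b) i' c)
    (hY' : OmegaSh.IsUnivThickening b j d)
    (hm₁ : i' ≫ m = i ≫ j) (hm₂ : m ≫ d = c)
    (ψ₁ : (Scheme.Modules.pullback i).obj (Omega.conormal j) ⟶ Omega.conormal i')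
    (hψ₁ : OmegaSh.IsConormalMap i' j m i ψ₁)
    {W' : Z'.Opens} {V' : Y'.Opens} {U : X.Opens} (hW' : IsAffineOpen W')
    (hV' : IsAffineOpen V') (hU : IsAffineOpen U) (hW'V' : W' ≤ m ⁻¹ᵁ V')
    (hV'U : V' ≤ d ⁻¹ᵁ U)
    (eiC : i' ⁻¹ᵁ W' ≤ i ⁻¹ᵁ (j ⁻¹ᵁ V'))
    {P₀ : Type u} [CommRing P₀] [Algebra Γ(Y, j ⁻¹ᵁ V') P₀]
    [Algebra.IsStandardSmooth Γ(Y, j ⁻¹ᵁ V') P₀]
    (φ : P₀ →+* Γ(Z, i' ⁻¹ᵁ W')) (hφ : Function.Surjective φ)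
    (hφB : ∀ y : Γ(Y, j ⁻¹ᵁ V'), φ (algebraMap Γ(Y, j ⁻¹ᵁ V') P₀ y) =
      (i.appLE (j ⁻¹ᵁ V') (i' ⁻¹ᵁ W') eiC).hom y)
    (rs : List P₀) (hrs : CAlgX.IsH1Regular rs.get) (hK : RingHom.ker φ = Ideal.ofList rs) :
    ∀ x : Γ((Scheme.Modules.pullback i).obj (Omega.conormal j), i' ⁻¹ᵁ W'),
      ψ₁.app (i' ⁻¹ᵁ W') x = 0 → x = 0 := by
  haveI ci' : IsClosedImmersion i' := hZ'.1.1.1
  haveI cj : IsClosedImmersion j := hY'.1.1.1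
  have hjd : j ≫ d = b := hY'.2.1
  have hi'c : i' ≫ c = i ≫ b := hZ'.2.1
  -- affineness
  have hW : IsAffineOpen (i' ⁻¹ᵁ W') := hW'.preimage i'
  have hV : IsAffineOpen (j ⁻¹ᵁ V') := hV'.preimage j
  -- inclusions
  have eB : j ⁻¹ᵁ V' ≤ b ⁻¹ᵁ U := by
    intro z hz
    have h1 : d (j z) ∈ U := hV'U hz
    have h2 : d (j z) = b z := congrArg (fun k : Y ⟶ X => k z) hjd
    show b z ∈ U
    rw [← h2]
    exact h1
  have eC' : W' ≤ c ⁻¹ᵁ U := by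
    intro z hz
    have h1 : d (m z) ∈ U := hV'U (hW'V' hz)
    have h2 : d (m z) = c z := congrArg (fun k : Z' ⟶ X => k z) hm₂
    show c z ∈ U
    rw [← h2]
    exact h1
  have eC : i' ⁻¹ᵁ W' ≤ (i ≫ b) ⁻¹ᵁ U := by
    intro z hz
    have h1 : c (i' z) ∈ U := eC' hz
    have h2 : c (i' z) = (i ≫ b) z := congrArg (fun k : Z ⟶ X => k z) hi'c
    show (i ≫ b) z ∈ U
    rw [← h2]
    exact h1
  -- rings
  letI aAB : Algebra Γ(X, U) Γ(Y, j ⁻¹ᵁ V') := (b.appLE U (j ⁻¹ᵁ V') eB).hom.toAlgebra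
  letI aAB' : Algebra Γ(X, U) Γ(Y', V') := (d.appLE U V' hV'U).hom.toAlgebra
  letI aAC : Algebra Γ(X, U) Γ(Z, i' ⁻¹ᵁ W') :=
    ((i ≫ b).appLE U (i' ⁻¹ᵁ W') eC).hom.toAlgebra
  letI aAC' : Algebra Γ(X, U) Γ(Z', W') := (c.appLE U W' eC').hom.toAlgebra
  letI aBC : Algebra Γ(Y, j ⁻¹ᵁ V') Γ(Z, i' ⁻¹ᵁ W') :=
    (i.appLE (j ⁻¹ᵁ V') (i' ⁻¹ᵁ W') eiC).hom.toAlgebra
  obtain ⟨πB, hπB, hB⟩ := ringUniv hY' hV' hU hV'U (j ⁻¹ᵁ V') rfl eB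
  obtain ⟨πC, hπC, hC⟩ := ringUniv hZ' hW' hU eC' (i' ⁻¹ᵁ W') rfl eC
  have hπB' : ∀ x, πB x = (j.app V').hom x := fun x =>
    (hπB x).trans (congrArg (fun k => k.hom x) (Scheme.Hom.app_eq_appLE j)).symm
  have hπC' : ∀ x, πC x = (i'.app W').hom x := fun x =>
    (hπC x).trans (congrArg (fun k => k.hom x) (Scheme.Hom.app_eq_appLE i')).symm
  have hmA : ∀ a : Γ(X, U), (m.appLE V' W' hW'V').hom (algebraMap Γ(X, U) Γ(Y', V') a) =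
      algebraMap Γ(X, U) Γ(Z', W') a := fun a => appLE_triangle m d c hm₂ hV'U hW'V' eC' a
  have hm : ∀ x : Γ(Y', V'), πC ((m.appLE V' W' hW'V').hom x) =
      algebraMap Γ(Y, j ⁻¹ᵁ V') Γ(Z, i' ⁻¹ᵁ W') (πB x) := fun x =>
    (hπC _).trans ((appLE_square i' m i j hm₁ hW'V' (le_of_eq rfl) (le_of_eq rfl) eiC x).trans
      (congrArg (algebraMap Γ(Y, j ⁻¹ᵁ V') Γ(Z, i' ⁻¹ᵁ W')) (hπB x)).symm)
  have hABC : ∀ a : Γ(X, U), algebraMap Γ(Y, j ⁻¹ᵁ V') Γ(Z, i' ⁻¹ᵁ W')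
      (algebraMap Γ(X, U) Γ(Y, j ⁻¹ᵁ V') a) = algebraMap Γ(X, U) Γ(Z, i' ⁻¹ᵁ W') a :=
    fun a => appLE_triangle i b (i ≫ b) rfl eB eiC eC a
  -- quasi-coherence
  haveI qc1 : (ClSub.idealMod j.ker).IsQuasicoherent := isQuasicoherent_idealMod _
  haveI qc2 : (Omega.conormal j).IsQuasicoherent := by
    unfold Omega.conormal
    infer_instance
  -- the basic computation of `ψ₁`
  have K0 : ∀ s' : Γ(ClSub.idealMod j.ker, V'),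
      ∃ s₁ : Γ(ClSub.idealMod i'.ker, W'),
        ψ₁.app (i' ⁻¹ᵁ W') (cUV i (Omega.conormal j) eiC (cY j V' s')) =
          cY i' W' s₁ ∧
        OmegaSh.idealSect i'.ker W' s₁ =
          (m.appLE V' W' hW'V').hom (OmegaSh.idealSect j.ker V' s') := by
    intro s'
    have hx' : (j.app V').hom (OmegaSh.idealSect j.ker V' s') = 0 :=
      (mem_I_iff j hV' _).mp (TensH8.idealModι_mem j.ker hV' s')
    have hx'' : ((i ≫ j).app V').hom (OmegaSh.idealSect j.ker V' s') = 0 := by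
      have h0 : (i.app (j ⁻¹ᵁ V')).hom ((j.app V').hom (OmegaSh.idealSect j.ker V' s')) = 0 := by
        rw [hx', map_zero]
      exact (comp_app_apply j i V' _).trans h0
    obtain ⟨s, hs⟩ := exists_ideal_section_comp m i' (i ≫ j) hm₁ _ hx''
    refine ⟨(ClSub.idealMod i'.ker).presheaf.map (homOfLE hW'V').op s,
      psi1F i i' j m ψ₁ hψ₁ hW'V' eiC s' s hs, ?_⟩
    rw [idealSect_res i'.ker hW'V' s, hs]
    rfl
  -- the module data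
  have hιBmem : ∀ n : Γ(ClSub.idealMod j.ker, V'), πB (OmegaSh.idealSect j.ker V' n) = 0 :=
    fun n => (hπB' _).trans ((mem_I_iff j hV' _).mp (TensH8.idealModι_mem j.ker hV' n))
  have hιBex : ∀ x : Γ(Y', V'), πB x = 0 →
      ∃ n : Γ(ClSub.idealMod j.ker, V'), OmegaSh.idealSect j.ker V' n = x := by
    intro x hx
    exact TensH8.exists_idealMod_section j.ker hV' x
      ((mem_I_iff j hV' x).mpr ((hπB' x).symm.trans hx))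
  let g : Γ(ClSub.idealMod j.ker, V') →+
      Γ((Scheme.Modules.pullback i).obj (Omega.conormal j), i' ⁻¹ᵁ W') :=
    AddMonoidHom.mk' (fun s' => cUV i (Omega.conormal j) eiC (cY j V' s'))
      (fun s t => by
        rw [cY_add]
        exact PBH8.cUV_add i (Omega.conormal j) eiC _ _)
  have hg : ∀ (r : Γ(Y', V')) (n : Γ(ClSub.idealMod j.ker, V')),
      g (r • n) = algebraMap Γ(Y, j ⁻¹ᵁ V') Γ(Z, i' ⁻¹ᵁ W') (πB r) • g n := by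
    intro r n
    have h1 : cY j V' (r • n) = (j.app V').hom r • cY j V' n := cY_smul j V' r n
    have h2 := PBH8.cUV_smul i (Omega.conormal j) eiC ((j.app V').hom r) (cY j V' n)
    show cUV i (Omega.conormal j) eiC (cY j V' (r • n)) = _
    rw [h1, hπB' r]
    exact h2
  have hspan : ∀ ν : Γ((Scheme.Modules.pullback i).obj (Omega.conormal j), i' ⁻¹ᵁ W'),
      ν ∈ Submodule.span Γ(Z, i' ⁻¹ᵁ W') (Set.range g) := by
    intro ν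
    letI mA : Module Γ(Y, j ⁻¹ᵁ V')
        Γ((Scheme.Modules.pullback i).obj (Omega.conormal j), i' ⁻¹ᵁ W') :=
      Module.compHom _ (i.appLE (j ⁻¹ᵁ V') (i' ⁻¹ᵁ W') eiC).hom
    haveI tA : IsScalarTower Γ(Y, j ⁻¹ᵁ V') Γ(Z, i' ⁻¹ᵁ W')
        Γ((Scheme.Modules.pullback i).obj (Omega.conormal j), i' ⁻¹ᵁ W') :=
      IsScalarTower.of_algebraMap_smul fun _ _ => rfl
    have hbc := PBH8.isBaseChange_cUV i (Omega.conormal j) eiC hW hV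
    refine hbc.inductionOn ν
      (fun ν => ν ∈ Submodule.span Γ(Z, i' ⁻¹ᵁ W') (Set.range g)) ?_ ?_ ?_ ?_
    · exact Submodule.zero_mem _
    · intro y
      obtain ⟨s', rfl⟩ := cY_surj j hV' y
      exact Submodule.subset_span ⟨s', rfl⟩
    · intro r x hx
      exact Submodule.smul_mem _ r hx
    · intro x₁ x₂ h1 h2
      exact Submodule.add_mem _ h1 h2
  let cC : Γ(ClSub.idealMod i'.ker, W') →+ Γ(Omega.conormal i', i' ⁻¹ᵁ W') :=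
    AddMonoidHom.mk' (fun s => cY i' W' s) (cY_add i' W')
  have hcC : ∀ (r : Γ(Z', W')) (s : Γ(ClSub.idealMod i'.ker, W')),
      cC (r • s) = πC r • cC s := by
    intro r s
    show cY i' W' (r • s) = πC r • cY i' W' s
    rw [hπC' r]
    exact cY_smul i' W' r s
  have hcCinj : Function.Injective cC :=
    (cUV_bijective_of_fot i' hZ'.1.2 hW' (i' ⁻¹ᵁ W') rfl).1
  let ψ : Γ((Scheme.Modules.pullback i).obj (Omega.conormal j), i' ⁻¹ᵁ W') →+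
      Γ(Omega.conormal i', i' ⁻¹ᵁ W') :=
    AddMonoidHom.mk' (fun x => ψ₁.app (i' ⁻¹ᵁ W') x)
      (fun x y => map_add (ψ₁.app (i' ⁻¹ᵁ W')).hom x y)
  have hψ : ∀ (c₀ : Γ(Z, i' ⁻¹ᵁ W'))
      (ν : Γ((Scheme.Modules.pullback i).obj (Omega.conormal j), i' ⁻¹ᵁ W')),
      ψ (c₀ • ν) = c₀ • ψ ν := fun c₀ ν => Scheme.Modules.Hom.app_smul ψ₁ c₀ ν
  exact injective_of_lci (A := Γ(X, U)) hABC hB hC (m.appLE V' W' hW'V').hom hmA hm φ hφ hφB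
    rs hrs hK
    (OmegaSh.idealSect j.ker V') (fun r n => TensH8.idealModι_smul j.ker r n)
    (fun s t h => TensH8.idealModι_injective j.ker V' h) hιBmem hιBex g hg hspan
    (OmegaSh.idealSect i'.ker W') (fun r n => TensH8.idealModι_smul i'.ker r n)
    cC hcC hcCinj ψ hψ K0

/-- Variant of `sec9785` with the opens of `Y` and `Z` as variables. -/
theorem sec9785'
    (hZ' : OmegaSh.IsUnivThickening (i ≫ b) i' c)
    (hY' : OmegaSh.IsUnivThickening b j d)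
    (hm₁ : i' ≫ m = i ≫ j) (hm₂ : m ≫ d = c)
    (ψ₁ : (Scheme.Modules.pullback i).obj (Omega.conormal j) ⟶ Omega.conormal i')
    (hψ₁ : OmegaSh.IsConormalMap i' j m i ψ₁)
    {W' : Z'.Opens} {V' : Y'.Opens} {U : X.Opens} (hW' : IsAffineOpen W')
    (hV' : IsAffineOpen V') (hU : IsAffineOpen U) (hW'V' : W' ≤ m ⁻¹ᵁ V')
    (hV'U : V' ≤ d ⁻¹ᵁ U)
    (T : Y.Opens) (hT : T = j ⁻¹ᵁ V') (O : Z.Opens) (hO : O = i' ⁻¹ᵁ W')
    (eiC : O ≤ i ⁻¹ᵁ T)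
    {P₀ : Type u} [CommRing P₀] [Algebra Γ(Y, T) P₀] [Algebra.IsStandardSmooth Γ(Y, T) P₀]
    (φ : P₀ →+* Γ(Z, O)) (hφ : Function.Surjective φ)
    (hφB : ∀ y : Γ(Y, T), φ (algebraMap Γ(Y, T) P₀ y) = (i.appLE T O eiC).hom y)
    (rs : List P₀) (hrs : CAlgX.IsH1Regular rs.get) (hK : RingHom.ker φ = Ideal.ofList rs) :
    ∀ x : Γ((Scheme.Modules.pullback i).obj (Omega.conormal j), O),
      ψ₁.app O x = 0 → x = 0 := by
  subst hT hO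
  exact sec9785 i b i' c j d m hZ' hY' hm₁ hm₂ ψ₁ hψ₁ hW' hV' hU hW'V' hV'U eiC φ hφ hφB
    rs hrs hK

end Sections

section Main

variable {Z Y X Z' Y' Z'' : Scheme.{u}} (i : Z ⟶ Y) (b : Y ⟶ X)

set_option maxHeartbeats 6400000 in
/-- For every point and every open neighbourhood there is a smaller open neighbourhood on which
`ψ₁` is injective on sections. -/
theorem exists_injective_nhd
    (i' : Z ⟶ Z') (c : Z' ⟶ X) (hZ' : OmegaSh.IsUnivThickening (i ≫ b) i' c)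
    (j : Y ⟶ Y') (d : Y' ⟶ X) (hY' : OmegaSh.IsUnivThickening b j d)
    (m : Z' ⟶ Y') (hm₁ : i' ≫ m = i ≫ j) (hm₂ : m ≫ d = c)
    (ψ₁ : (Scheme.Modules.pullback i).obj (Omega.conormal j) ⟶ Omega.conormal i')
    (hψ₁ : OmegaSh.IsConormalMap i' j m i ψ₁)
    (z : Z) (hlci : Synt.IsKoszulAt i z) (O₀ : Z.Opens) (hz : z ∈ O₀) :
    ∃ O : Z.Opens, (∀ x : Γ((Scheme.Modules.pullback i).obj (Omega.conormal j), O),
      ψ₁.app O x = 0 → x = 0) ∧ z ∈ O ∧ O ≤ O₀ := by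
  haveI cj : IsClosedImmersion j := hY'.1.1.1
  haveI ci' : IsClosedImmersion i' := hZ'.1.1.1
  haveI sj : Surjective j := hY'.1.1.2
  haveI si' : Surjective i' := hZ'.1.1.2
  obtain ⟨U, P, ι, π, hzU, -, hι, hsm, hfac⟩ := hlci
  haveI := hι.1
  haveI := hsm
  obtain ⟨V₀, hzV₀, hcl, rs₀, hrs₀, hker₀⟩ := hι.2 ⟨z, hzU⟩
  haveI := hcl
  have hrs₀' : LCI.IsKoszulRegularSeq Γ(P, V₀.1) rs₀ := hrs₀
  have hV₀pre : IsAffineOpen (ι ⁻¹ᵁ V₀.1) := by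
    haveI : IsAffine (V₀.1 : Scheme.{u}) := V₀.2
    exact (IsClosedImmersion.isAffine_surjective_of_isAffine (ι ∣_ V₀.1)).1
  have ch₀ : Chart ι V₀.1 rs₀ :=
    ⟨V₀.2, hV₀pre, app_surjective_of_le' ι V₀.1 (le_refl _) V₀.2,
      Groth.Agent.Lib.KoszulLow.h1_of_koszulRegular rs₀ hrs₀', hker₀⟩
  -- an open of `P` inducing `O₀`
  obtain ⟨Q, hQ⟩ : ∃ Q : P.Opens, ι ⁻¹ᵁ Q = U.ι ⁻¹ᵁ O₀ := by
    obtain ⟨t, ht, hteq⟩ := ι.isEmbedding.isInducing.isOpen_iff.mp (U.ι ⁻¹ᵁ O₀).isOpen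
    exact ⟨⟨t, ht⟩, Opens.ext hteq⟩
  have hzQ : ι ⟨z, hzU⟩ ∈ Q := by
    have h1 : (⟨z, hzU⟩ : (U : Scheme.{u})) ∈ U.ι ⁻¹ᵁ O₀ := hz
    rw [← hQ] at h1
    exact h1
  obtain ⟨g₀, hg₀le, hzg₀⟩ := V₀.2.exists_basicOpen_le (V := Q) ⟨ι ⟨z, hzU⟩, hzQ⟩ hzV₀
  have ch₁ := ch₀.basicOpen g₀
  -- opens of `X` and `Y`
  obtain ⟨_, ⟨Ux, hUx : IsAffineOpen Ux, rfl⟩, hzUx, -⟩ :=
    X.isBasis_affineOpens.exists_subset_of_mem_open (Set.mem_univ (b (i z))) isOpen_univ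
  have hzUx' : i z ∈ b ⁻¹ᵁ Ux := hzUx
  obtain ⟨_, ⟨T₁, hT₁ : IsAffineOpen T₁, rfl⟩, hzT₁, hT₁le⟩ :=
    Y.isBasis_affineOpens.exists_subset_of_mem_open hzUx' (b ⁻¹ᵁ Ux).isOpen
  have hπz : π (ι ⟨z, hzU⟩) = i z := by
    have h1 : (ι ≫ π) ⟨z, hzU⟩ = (U.ι ≫ i) ⟨z, hzU⟩ := by rw [hfac]
    exact h1
  have hfx₁ : π (ι ⟨z, hzU⟩) ∈ T₁ := by
    rw [hπz]
    exact hzT₁
  -- a standard smooth chart
  obtain ⟨U₂, hU₂, V₂, hV₂, hzV₂, e₂, hstd₂⟩ := Smooth.exists_isStandardSmooth π (ι ⟨z, hzU⟩)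
  obtain ⟨r, s, hzs, ers, hstd⟩ : ∃ (r : Γ(Y, T₁)) (s : Γ(P, P.basicOpen g₀))
      (_ : ι ⟨z, hzU⟩ ∈ P.basicOpen s) (e : P.basicOpen s ≤ π ⁻¹ᵁ Y.basicOpen r),
      (π.appLE (Y.basicOpen r) (P.basicOpen s) e).hom.IsStandardSmooth :=
    exists_basicOpen_le_appLE_of_appLE_of_isAffine
      RingHom.isStandardSmooth_stableUnderCompositionWithLocalizationAway.right
      RingHom.isStandardSmooth_localizationPreserves.away
      (ι ⟨z, hzU⟩) ⟨T₁, hT₁⟩ ⟨U₂, hU₂⟩ ⟨P.basicOpen g₀, ch₁.aff⟩ ⟨V₂, hV₂⟩ hzg₀ hzV₂ e₂ hstd₂ hfx₁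
  have ch₂ := ch₁.basicOpen s
  have hT : IsAffineOpen (Y.basicOpen r) := hT₁.basicOpen r
  -- the opens of the thickenings
  obtain ⟨V', hV'eq⟩ :=
    Groth.Agent.Lib.UnivThickSch1_helper7.exists_opens_preimage_eq j hY'.1 (Y.basicOpen r)
  have hV' : IsAffineOpen V' := by
    refine Groth.Agent.Lib.ThickAffH6.isAffineOpen_of_thickening j V' ?_
    rw [hV'eq]
    exact hT
  have hV'Ux : V' ≤ d ⁻¹ᵁ Ux := by
    intro y' hy'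
    obtain ⟨y, rfl⟩ := j.surjective y'
    have h1 : y ∈ j ⁻¹ᵁ V' := hy'
    rw [hV'eq] at h1
    have h2 : y ∈ b ⁻¹ᵁ Ux := hT₁le ((Y.basicOpen_le r) h1)
    have h3 : d (j y) = b y := congrArg (fun q : Y ⟶ X => q y) hY'.2.1
    show d (j y) ∈ Ux
    rw [h3]
    exact h2
  have hOaff : IsAffineOpen (U.ι ''ᵁ (ι ⁻¹ᵁ P.basicOpen s)) :=
    ch₂.preAff.image_of_isOpenImmersion U.ι
  obtain ⟨W', hW'eq⟩ :=
    Groth.Agent.Lib.UnivThickSch1_helper7.exists_opens_preimage_eq i' hZ'.1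
      (U.ι ''ᵁ (ι ⁻¹ᵁ P.basicOpen s))
  have hW' : IsAffineOpen W' := by
    refine Groth.Agent.Lib.ThickAffH6.isAffineOpen_of_thickening i' W' ?_
    rw [hW'eq]
    exact hOaff
  have hOT : U.ι ''ᵁ (ι ⁻¹ᵁ P.basicOpen s) ≤ i ⁻¹ᵁ Y.basicOpen r := by
    rintro _ ⟨u, hu', rfl⟩
    have h1 : (ι ≫ π) u = (U.ι ≫ i) u := by rw [hfac]
    have h2 : π (ι u) ∈ Y.basicOpen r := ers hu'
    have h3 : i (U.ι u) = π (ι u) := h1.symm
    show i (U.ι u) ∈ Y.basicOpen r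
    rw [h3]
    exact h2
  have hW'V' : W' ≤ m ⁻¹ᵁ V' := by
    intro w hw
    obtain ⟨z₀, rfl⟩ := i'.surjective w
    have h1 : z₀ ∈ i' ⁻¹ᵁ W' := hw
    rw [hW'eq] at h1
    have h2 : i z₀ ∈ Y.basicOpen r := hOT h1
    rw [← hV'eq] at h2
    have h3 : m (i' z₀) = j (i z₀) := congrArg (fun q : Z ⟶ Y' => q z₀) hm₁
    show m (i' z₀) ∈ V'
    rw [h3]
    exact h2
  -- the ring data
  letI aYP : Algebra Γ(Y, Y.basicOpen r) Γ(P, P.basicOpen s) :=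
    (π.appLE (Y.basicOpen r) (P.basicOpen s) ers).hom.toAlgebra
  haveI hss : Algebra.IsStandardSmooth Γ(Y, Y.basicOpen r) Γ(P, P.basicOpen s) := hstd
  let φ : Γ(P, P.basicOpen s) →+* Γ(Z, U.ι ''ᵁ (ι ⁻¹ᵁ P.basicOpen s)) :=
    (ι.app (P.basicOpen s)).hom
  have hφsurj : Function.Surjective φ := ch₂.surj
  have hφB : ∀ y : Γ(Y, Y.basicOpen r),
      φ (algebraMap Γ(Y, Y.basicOpen r) Γ(P, P.basicOpen s) y) =
        (i.appLE (Y.basicOpen r) (U.ι ''ᵁ (ι ⁻¹ᵁ P.basicOpen s)) hOT).hom y :=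
    fun y => chart_compat i U ι π hfac ers hOT y
  have hKφ : RingHom.ker φ = Ideal.ofList _ := ch₂.ker
  have key := sec9785' i b i' c j d m hZ' hY' hm₁ hm₂ ψ₁ hψ₁ hW' hV' hUx hW'V' hV'Ux
    (Y.basicOpen r) hV'eq.symm (U.ι ''ᵁ (ι ⁻¹ᵁ P.basicOpen s)) hW'eq.symm hOT
    φ hφsurj hφB _ ch₂.h1 hKφ
  refine ⟨U.ι ''ᵁ (ι ⁻¹ᵁ P.basicOpen s), key, ⟨⟨z, hzU⟩, hzs, rfl⟩, ?_⟩
  rintro _ ⟨u, hu', rfl⟩
  have h1 : ι u ∈ P.basicOpen g₀ := (P.basicOpen_le s) hu'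
  have h2 : u ∈ ι ⁻¹ᵁ Q := hg₀le h1
  rw [hQ] at h2
  exact h2

theorem main9785
    (i' : Z ⟶ Z') (c : Z' ⟶ X) (hZ' : OmegaSh.IsUnivThickening (i ≫ b) i' c)
    (j : Y ⟶ Y') (d : Y' ⟶ X) (hY' : OmegaSh.IsUnivThickening b j d)
    (m : Z' ⟶ Y') (hm₁ : i' ≫ m = i ≫ j) (hm₂ : m ≫ d = c)
    (i'' : Z ⟶ Z'') (e : Z'' ⟶ Y) (hZ'' : OmegaSh.IsUnivThickening i i'' e)
    (n : Z'' ⟶ Z') (hn₁ : i'' ≫ n = i') (hn₂ : n ≫ c = e ≫ b)
    (ψ₁ : (Scheme.Modules.pullback i).obj (Omega.conormal j) ⟶ Omega.conormal i')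
    (hψ₁ : OmegaSh.IsConormalMap i' j m i ψ₁)
    (ψ₂ : (Scheme.Modules.pullback (𝟙 Z)).obj (Omega.conormal i') ⟶ Omega.conormal i'')
    (hψ₂ : OmegaSh.IsConormalMap i'' i' n (𝟙 Z) ψ₂)
    (hlci : ∀ z : Z, Synt.IsKoszulAt i z) :
    ∃ w : (Scheme.Modules.pullback (𝟙 Z)).map ψ₁ ≫ ψ₂ = 0,
      (ShortComplex.mk _ _ w).ShortExact := by
  obtain ⟨w, hex, hepi⟩ :=
    main9784 i b i'' n c j d m e i' hZ' hY' hm₁ hm₂ hZ'' hn₁ hn₂ ψ₁ hψ₁ ψ₂ hψ₂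
  refine ⟨w, ?_⟩
  have hmono : Mono ((Scheme.Modules.pullback (𝟙 Z)).map ψ₁) := by
    refine mono_of_injective_basis _
      (fun W => Function.Injective (((Scheme.Modules.pullback (𝟙 Z)).map ψ₁).app W)) ?_
      (fun W hW => hW)
    intro O₀ z hz
    obtain ⟨O, hO, hzO, hOle⟩ :=
      exists_injective_nhd i b i' c hZ' j d hY' m hm₁ hm₂ ψ₁ hψ₁ z (hlci z) O₀ hz
    exact ⟨O, injective_pullback_id_map ψ₁ O hO, hzO, hOle⟩
  exact ShortComplex.ShortExact.mk' hex hmono hepi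

end Main

end Groth.Agent.Lib.LciSESH7
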