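import Mathlib
import Groth.Prelude.Def_WeilCoh
import Groth.Agent.Lib.FrobDeg3_helper9

/-! Lefschetz fixed-point count for Frobenius (helper9), part 1: sections, germs and the
multiplicity-one computation. APPEND-ONLY once landed. -/

set_option linter.unusedSectionVars false
set_option linter.style.haveILetI false

universe u

open CategoryTheory CategoryTheory.Limits AlgebraicGeometry

namespace Groth.Agent.LefFix9

open Groth.Agent.FrobDeg9

section AppLE

lemma appLE_congr_hom {X Y : Scheme.{u}} {f g : X ⟶ Y} (h : f = g) (U : Y.Opens) (V : X.Opens)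
    (e : V ≤ f ⁻¹ᵁ U) : f.appLE U V e = g.appLE U V (h ▸ e) := by
  subst h; rfl

lemma id_appLE' {X : Scheme.{u}} (U V : X.Opens) (e : V ≤ (𝟙 X : X ⟶ X) ⁻¹ᵁ U) :
    (𝟙 X : X ⟶ X).appLE U V e = X.presheaf.map (homOfLE (show V ≤ U from e)).op := by
  simp only [Scheme.Hom.appLE, Scheme.Hom.id_app]
  exact Category.id_comp _

/-- A section vanishing after pull-back along `j` has germ in the prime ideal of `j η`. -/
lemma germ_mem_ker_specMap {Y P : Scheme.{u}} (j : Y ⟶ P) (η : Y) (x : P) (h : j η ⤳ x)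
    (W : P.Opens) (hx : x ∈ W) (t : Γ(P, W)) (ht : (j.app W).hom t = 0) :
    (P.presheaf.germ W x hx).hom t ∈ RingHom.ker (Cyc.specMap x (j η) h) := by
  rw [RingHom.mem_ker]
  unfold Cyc.specMap
  have hW : j η ∈ W := h.mem_open W.2 hx
  have h1 : (P.presheaf.stalkSpecializes h).hom ((P.presheaf.germ W x hx).hom t) =
      (P.presheaf.germ W (j η) hW).hom t := by
    rw [← CommRingCat.comp_apply, TopCat.Presheaf.germ_stalkSpecializes]
  rw [CommRingCat.hom_comp, RingHom.comp_apply, h1]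
  apply (j.residueFieldMap η).hom.injective
  rw [map_zero, ← CommRingCat.comp_apply, Scheme.residue_residueFieldMap,
    CommRingCat.comp_apply, Scheme.Hom.germ_stalkMap_apply, ht, map_zero, map_zero]

end AppLE

section Mult

variable {k₀ : Type u} [Field k₀] [Finite k₀] {k : Type u} [Field k] [IsAlgClosed k]
  [Algebra k₀ k]
  {X Y P : Scheme.{u}} (f : X ⟶ Spec (CommRingCat.of k₀)) (g : Y ⟶ Spec (CommRingCat.of k))
  (π : Y ⟶ X) (hπ : IsPullback π g f (Spec.map (CommRingCat.ofHom (algebraMap k₀ k))))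
  (p E : ℕ) [Fact p.Prime] [CharP k p] (hE : 0 < E)
  (GX : X ⟶ X) (hleG : ∀ U : X.Opens, U ≤ GX ⁻¹ᵁ U)
  (hGapp : ∀ (U : X.Opens) (s : Γ(X, U)), (GX.appLE U U (hleG U)).hom s = s ^ p ^ E)
  (G : Y ⟶ Y) (hGg : G ≫ g = g) (hG : G ≫ π = π ≫ GX)
  (pp qq : P ⟶ Y) (dd jj : Y ⟶ P)
  (hdp : dd ≫ pp = 𝟙 Y) (hdq : dd ≫ qq = 𝟙 Y) (hjp : jj ≫ pp = 𝟙 Y) (hjq : jj ≫ qq = G)
  (t : Spec (CommRingCat.of k) ⟶ Y) (ht : t ≫ g = 𝟙 _) (htG : t ≫ G = t)
  (c : Spec (CommRingCat.of k))
  (U : X.Opens) (hU : IsAffineOpen U) (hxU : π (t c) ∈ U)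

/-- The open `p⁻¹ V ∩ q⁻¹ V` of the product. -/
noncomputable abbrev WP (V : Y.Opens) : P.Opens := pp ⁻¹ᵁ V ⊓ qq ⁻¹ᵁ V

include hdp hdq in
lemma le_dd_WP (V : Y.Opens) : V ≤ dd ⁻¹ᵁ WP pp qq V := by
  intro y hy
  have h1 : (dd ≫ pp) y = y := by rw [hdp]; rfl
  have h2 : (dd ≫ qq) y = y := by rw [hdq]; rfl
  refine ⟨?_, ?_⟩
  · show pp (dd y) ∈ V
    rw [show pp (dd y) = y from h1]; exact hy
  · show qq (dd y) ∈ V
    rw [show qq (dd y) = y from h2]; exact hy

include hjp in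
lemma jj_WP_le (V : Y.Opens) : jj ⁻¹ᵁ WP pp qq V ≤ V := by
  intro y hy
  have h1 : (jj ≫ pp) y = y := by rw [hjp]; rfl
  have h3 : pp (jj y) ∈ V := hy.1
  rwa [show pp (jj y) = y from h1] at h3

include hjq in
lemma jj_WP_le' (V : Y.Opens) : jj ⁻¹ᵁ WP pp qq V ≤ G ⁻¹ᵁ V := by
  intro y hy
  have h1 : (jj ≫ qq) y = G y := by rw [hjq]
  have h3 : qq (jj y) ∈ V := hy.2
  rwa [show qq (jj y) = G y from h1] at h3

/-- The section `q^* s - p^* (Φ s)` of the product. -/
noncomputable def tsec (V : Y.Opens) (hV : V ≤ G ⁻¹ᵁ V) (s : Γ(Y, V)) : Γ(P, WP pp qq V) :=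
  (qq.appLE V (WP pp qq V) inf_le_right).hom s -
    (pp.appLE V (WP pp qq V) inf_le_left).hom ((G.appLE V V hV).hom s)

include hjp hjq in
lemma jj_tsec (V : Y.Opens) (hV : V ≤ G ⁻¹ᵁ V) (s : Γ(Y, V)) :
    (jj.app (WP pp qq V)).hom (tsec G pp qq V hV s) = 0 := by
  have h1 : qq.appLE V (WP pp qq V) inf_le_right ≫ jj.app (WP pp qq V) =
      G.appLE V (jj ⁻¹ᵁ WP pp qq V) (jj_WP_le' G pp qq jj hjq V) := by
    rw [Scheme.Hom.app_eq_appLE, Scheme.Hom.appLE_comp_appLE, appLE_congr_hom hjq]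
  have h2 : pp.appLE V (WP pp qq V) inf_le_left ≫ jj.app (WP pp qq V) =
      Y.presheaf.map (homOfLE (jj_WP_le pp qq jj hjp V)).op := by
    rw [Scheme.Hom.app_eq_appLE, Scheme.Hom.appLE_comp_appLE, appLE_congr_hom hjp, id_appLE']
  have h3 : G.appLE V V hV ≫ Y.presheaf.map (homOfLE (jj_WP_le pp qq jj hjp V)).op =
      G.appLE V (jj ⁻¹ᵁ WP pp qq V) (jj_WP_le' G pp qq jj hjq V) :=
    Scheme.Hom.appLE_map _ _ _
  unfold tsec
  rw [map_sub, sub_eq_zero]
  calc (jj.app (WP pp qq V)).hom ((qq.appLE V (WP pp qq V) inf_le_right).hom s)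
      = (qq.appLE V (WP pp qq V) inf_le_right ≫ jj.app (WP pp qq V)).hom s := rfl
    _ = (G.appLE V V hV ≫ Y.presheaf.map (homOfLE (jj_WP_le pp qq jj hjp V)).op).hom s := by
        rw [h1, h3]
    _ = (G.appLE V V hV ≫ pp.appLE V (WP pp qq V) inf_le_left ≫ jj.app (WP pp qq V)).hom s := by
        rw [h2]
    _ = _ := rfl

include hdp hdq in
lemma dd_tsec (V : Y.Opens) (hV : V ≤ G ⁻¹ᵁ V) (s : Γ(Y, V)) :
    (dd.appLE (WP pp qq V) V (le_dd_WP pp qq dd hdp hdq V)).hom (tsec G pp qq V hV s) =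
      s - (G.appLE V V hV).hom s := by
  have h1 : qq.appLE V (WP pp qq V) inf_le_right ≫
      dd.appLE (WP pp qq V) V (le_dd_WP pp qq dd hdp hdq V) = 𝟙 _ := by
    rw [Scheme.Hom.appLE_comp_appLE, appLE_congr_hom hdq, id_appLE']
    exact Y.presheaf.map_id _
  have h2 : pp.appLE V (WP pp qq V) inf_le_left ≫
      dd.appLE (WP pp qq V) V (le_dd_WP pp qq dd hdp hdq V) = 𝟙 _ := by
    rw [Scheme.Hom.appLE_comp_appLE, appLE_congr_hom hdp, id_appLE']
    exact Y.presheaf.map_id _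
  unfold tsec
  rw [map_sub]
  congr 1
  · exact congrArg (fun φ : Γ(Y, V) ⟶ Γ(Y, V) => φ.hom s) h1
  · exact congrArg (fun φ : Γ(Y, V) ⟶ Γ(Y, V) => φ.hom ((G.appLE V V hV).hom s)) h2

include hdp hdq hjp hjq in
lemma germ_sub_mem (V : Y.Opens) (hV : V ≤ G ⁻¹ᵁ V) (w : Y) (hw : w ∈ V) (η : Y)
    (h : jj η ⤳ dd w) (s : Γ(Y, V)) :
    (Y.presheaf.germ V w hw).hom (s - (G.appLE V V hV).hom s) ∈
      Ideal.map (dd.stalkMap w).hom (RingHom.ker (Cyc.specMap (dd w) (jj η) h)) := by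
  have hW : dd w ∈ WP pp qq V := le_dd_WP pp qq dd hdp hdq V hw
  have h1 := germ_mem_ker_specMap jj η (dd w) h (WP pp qq V) hW (tsec G pp qq V hV s)
    (jj_tsec G pp qq jj hjp hjq V hV s)
  have h2 := Ideal.mem_map_of_mem (dd.stalkMap w).hom h1
  rw [← dd_tsec G pp qq dd hdp hdq V hV s]
  convert h2 using 1
  rw [Scheme.Hom.germ_stalkMap_apply, Scheme.Hom.appLE, CommRingCat.comp_apply,
    TopCat.Presheaf.germ_res_apply]

section Ev

lemma top_le_preimage (V : Y.Opens) (hw : t c ∈ V) :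
    (⊤ : (Spec (CommRingCat.of k)).Opens) ≤ t ⁻¹ᵁ V := by
  intro c' _
  haveI : Subsingleton ↥(Spec (CommRingCat.of k)) :=
    inferInstanceAs (Subsingleton (PrimeSpectrum k))
  show t c' ∈ V
  rw [Subsingleton.elim c' c]
  exact hw

/-- Evaluation at the `k`-point `t`. -/
noncomputable def ev (V : Y.Opens) (hw : t c ∈ V) : Γ(Y, V) ⟶ Γ(Spec (CommRingCat.of k), ⊤) :=
  t.appLE V ⊤ (top_le_preimage t c V hw)

include ht in
lemma inr_ev (V : Y.Opens) (hw : t c ∈ V) (hgV : V ≤ g ⁻¹ᵁ ⊤) :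
    g.appLE ⊤ V hgV ≫ ev t c V hw = 𝟙 _ := by
  unfold ev
  rw [Scheme.Hom.appLE_comp_appLE, appLE_congr_hom ht, id_appLE']
  exact (Spec (CommRingCat.of k)).presheaf.map_id _

include htG in
lemma frob_ev (V : Y.Opens) (hw : t c ∈ V) (hV : V ≤ G ⁻¹ᵁ V) :
    G.appLE V V hV ≫ ev t c V hw = ev t c V hw := by
  unfold ev
  rw [Scheme.Hom.appLE_comp_appLE, appLE_congr_hom htG]

lemma germ_ev (V : Y.Opens) (hw : t c ∈ V) (s : Γ(Y, V)) :
    ((Spec (CommRingCat.of k)).presheaf.germ ⊤ c trivial).hom ((ev t c V hw).hom s) =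
      (t.stalkMap c).hom ((Y.presheaf.germ V (t c) hw).hom s) := by
  unfold ev
  rw [Scheme.Hom.germ_stalkMap_apply, Scheme.Hom.appLE, CommRingCat.comp_apply,
    TopCat.Presheaf.germ_res_apply]

lemma ev_eq_zero_iff (V : Y.Opens) (hw : t c ∈ V) (s : Γ(Y, V)) :
    (ev t c V hw).hom s = 0 ↔
      (Y.presheaf.germ V (t c) hw).hom s ∈ IsLocalRing.maximalIdeal (Y.presheaf.stalk (t c)) := by
  constructor
  · intro h0
    have h1 := germ_ev t c V hw s
    rw [h0, map_zero] at h1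
    rw [IsLocalRing.mem_maximalIdeal, mem_nonunits_iff]
    intro hu
    have h2 := hu.map (t.stalkMap c).hom
    rw [← h1] at h2
    exact not_isUnit_zero h2
  · intro hm
    by_contra hne
    let e : Γ(Spec (CommRingCat.of k), ⊤) ≃+* k :=
      (Scheme.ΓSpecIso (CommRingCat.of k)).commRingCatIsoToRingEquiv
    have hu : IsUnit ((ev t c V hw).hom s) := by
      have h3 : e ((ev t c V hw).hom s) ≠ 0 := fun h => hne (by simpa using h)
      have h4 : IsUnit (e ((ev t c V hw).hom s)) := isUnit_iff_ne_zero.mpr h3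
      simpa using h4.map e.symm
    have h5 := hu.map ((Spec (CommRingCat.of k)).presheaf.germ ⊤ c trivial).hom
    rw [germ_ev] at h5
    have h6 : IsUnit ((Y.presheaf.germ V (t c) hw).hom s) :=
      isUnit_of_map_unit (t.stalkMap c).hom _ h5
    rw [IsLocalRing.mem_maximalIdeal, mem_nonunits_iff] at hm
    exact hm h6

end Ev

section Gen

include hπ ht hU in
/-- The kernel of evaluation at a `k`-point is generated by the `r - r(w)`. -/
lemma sub_inr_ev_mem (hw : t c ∈ UY g π U) (s : Γ(Y, UY g π U)) :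
    s - (g.appLE ⊤ (UY g π U) (by intro y hy; exact hy.2)).hom ((ev t c (UY g π U) hw).hom s) ∈
      Ideal.span (Set.range fun r : Γ(X, U) =>
        (π.appLE U (UY g π U) (by intro y hy; exact hy.1)).hom r -
          (g.appLE ⊤ (UY g π U) (by intro y hy; exact hy.2)).hom
            ((ev t c (UY g π U) hw).hom
              ((π.appLE U (UY g π U) (by intro y hy; exact hy.1)).hom r))) := by
  have hPO := isPushout_UY f g π hπ U hU
  set inl := π.appLE U (UY g π U) (by intro y hy; exact hy.1) with hinl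
  set inr := g.appLE ⊤ (UY g π U) (by intro y hy; exact hy.2) with hinr
  set I₀ : Ideal Γ(Y, UY g π U) := Ideal.span (Set.range fun r : Γ(X, U) =>
    inl.hom r - inr.hom ((ev t c (UY g π U) hw).hom (inl.hom r))) with hI₀
  let m1 : Γ(Y, UY g π U) ⟶ CommRingCat.of (Γ(Y, UY g π U) ⧸ I₀) :=
    CommRingCat.ofHom (Ideal.Quotient.mk I₀)
  let m2 : Γ(Y, UY g π U) ⟶ CommRingCat.of (Γ(Y, UY g π U) ⧸ I₀) :=
    ev t c (UY g π U) hw ≫ inr ≫ m1
  have hE1 : inr ≫ ev t c (UY g π U) hw = 𝟙 _ := inr_ev g t ht c (UY g π U) hw _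
  have h12 : m1 = m2 := by
    apply hPO.hom_ext
    · ext r
      show Ideal.Quotient.mk I₀ (inl.hom r) =
        Ideal.Quotient.mk I₀ (inr.hom ((ev t c (UY g π U) hw).hom (inl.hom r)))
      rw [Ideal.Quotient.eq]
      exact Ideal.subset_span ⟨r, rfl⟩
    · show inr ≫ m1 = inr ≫ ev t c (UY g π U) hw ≫ inr ≫ m1
      rw [← Category.assoc inr, hE1, Category.id_comp]
  have h := congrArg
    (fun φ : Γ(Y, UY g π U) ⟶ CommRingCat.of (Γ(Y, UY g π U) ⧸ I₀) => φ.hom s) h12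
  have h' : Ideal.Quotient.mk I₀ s =
      Ideal.Quotient.mk I₀ (inr.hom ((ev t c (UY g π U) hw).hom s)) := h
  rwa [Ideal.Quotient.eq] at h'

end Gen

section Main

include hπ hE hGapp hGg hG hdp hdq hjp hjq ht htG hU in
/-- At a Frobenius-fixed `k`-point the ideal of the graph generates the maximal ideal. -/
theorem maximalIdeal_le_map (hw : t c ∈ UY g π U) (η : Y) (h : jj η ⤳ dd (t c)) :
    IsLocalRing.maximalIdeal (Y.presheaf.stalk (t c)) ≤
      Ideal.map (dd.stalkMap (t c)).hom (RingHom.ker (Cyc.specMap (dd (t c)) (jj η) h)) := by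
  have hVG := UY_le g π GX hleG G hG U
  have hV : IsAffineOpen (UY g π U) := isAffineOpen_UY f g π hπ U hU
  set inl := π.appLE U (UY g π U) (by intro y hy; exact hy.1) with hinl
  set inr := g.appLE ⊤ (UY g π U) (by intro y hy; exact hy.2) with hinr
  set Φ := G.appLE (UY g π U) (UY g π U) hVG with hΦ
  set J := Ideal.map (dd.stalkMap (t c)).hom
    (RingHom.ker (Cyc.specMap (dd (t c)) (jj η) h)) with hJ
  have hnt : Nontrivial Γ(Y, UY g π U) := (ev t c _ hw).hom.domain_nontrivial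
  haveI : CharP Γ(Y, UY g π U) p :=
    charP_of_injective_ringHom
      (f := ((Scheme.ΓSpecIso (CommRingCat.of k)).inv ≫ inr).hom) (RingHom.injective _) p
  have hE1 : inr ≫ ev t c (UY g π U) hw = 𝟙 _ := inr_ev g t ht c (UY g π U) hw _
  have hE2 : Φ ≫ ev t c (UY g π U) hw = ev t c (UY g π U) hw :=
    frob_ev G t htG c (UY g π U) hw hVG
  have hl : inl ≫ Φ = GX.appLE U U (hleG U) ≫ inl := by
    rw [hinl, hΦ, Scheme.Hom.appLE_comp_appLE, Scheme.Hom.appLE_comp_appLE,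
      appLE_congr_hom hG]
  have hr : inr ≫ Φ = inr := by
    rw [hinr, hΦ, Scheme.Hom.appLE_comp_appLE, appLE_congr_hom hGg]
  have hgen : ∀ r : Γ(X, U),
      (Y.presheaf.germ (UY g π U) (t c) hw).hom
        (inl.hom r - inr.hom ((ev t c (UY g π U) hw).hom (inl.hom r))) ∈ J := by
    intro r
    have hΦl : Φ.hom (inl.hom r) = (inl.hom r) ^ p ^ E := by
      have := congrArg (fun φ : Γ(X, U) ⟶ Γ(Y, UY g π U) => φ.hom r) hl
      simp only [CommRingCat.comp_apply] at this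
      rw [this, hGapp, map_pow]
    have hΦr : ∀ a, Φ.hom (inr.hom a) = inr.hom a := fun a =>
      congrArg (fun φ : Γ(Spec (CommRingCat.of k), ⊤) ⟶ Γ(Y, UY g π U) => φ.hom a) hr
    have hlam : ((ev t c (UY g π U) hw).hom (inl.hom r)) ^ p ^ E =
        (ev t c (UY g π U) hw).hom (inl.hom r) := by
      have h2 : (ev t c (UY g π U) hw).hom (Φ.hom (inl.hom r)) =
          (ev t c (UY g π U) hw).hom (inl.hom r) :=
        congrArg (fun φ : Γ(Y, UY g π U) ⟶ Γ(Spec (CommRingCat.of k), ⊤) =>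
          φ.hom (inl.hom r)) hE2
      rw [hΦl, map_pow] at h2
      exact h2
    have hΦy : Φ.hom (inl.hom r - inr.hom ((ev t c (UY g π U) hw).hom (inl.hom r))) =
        (inl.hom r - inr.hom ((ev t c (UY g π U) hw).hom (inl.hom r))) ^ p ^ E := by
      rw [map_sub, hΦl, hΦr, sub_pow_char_pow]
      congr 1
      rw [← map_pow inr.hom, hlam]
    have hy0 : (ev t c (UY g π U) hw).hom
        (inl.hom r - inr.hom ((ev t c (UY g π U) hw).hom (inl.hom r))) = 0 := by
      rw [map_sub]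
      have := congrArg (fun φ : Γ(Spec (CommRingCat.of k), ⊤) ⟶ Γ(Spec (CommRingCat.of k), ⊤) =>
        φ.hom ((ev t c (UY g π U) hw).hom (inl.hom r))) hE1
      simp only [CommRingCat.comp_apply] at this
      rw [this]
      simp
    have hym := (ev_eq_zero_iff t c (UY g π U) hw _).1 hy0
    have hmem := germ_sub_mem G pp qq dd jj hdp hdq hjp hjq (UY g π U) hVG (t c) hw η h
      (inl.hom r - inr.hom ((ev t c (UY g π U) hw).hom (inl.hom r)))
    rw [hΦy, map_sub, map_pow] at hmem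
    generalize (Y.presheaf.germ (UY g π U) (t c) hw).hom
      (inl.hom r - inr.hom ((ev t c (UY g π U) hw).hom (inl.hom r))) = u at hym hmem ⊢
    have hQ : p ^ E = (p ^ E - 1) + 1 := by
      have : 1 ≤ p ^ E := Nat.one_le_pow _ _ (Fact.out : p.Prime).pos
      omega
    have hQ1 : p ^ E - 1 ≠ 0 := by
      have : 2 ≤ p ^ E := by
        calc 2 ≤ p := (Fact.out : p.Prime).two_le
          _ = p ^ 1 := (pow_one p).symm
          _ ≤ p ^ E := Nat.pow_le_pow_right (Fact.out : p.Prime).pos hE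
      omega
    have hfac : u - u ^ p ^ E = u * (1 - u ^ (p ^ E - 1)) := by
      conv_lhs => rw [hQ]
      ring
    have hunit : IsUnit (1 - u ^ (p ^ E - 1)) := by
      apply IsLocalRing.isUnit_one_sub_self_of_mem_nonunits
      exact Ideal.pow_mem_of_mem _ hym _ (Nat.pos_of_ne_zero hQ1)
    rw [hfac] at hmem
    exact (Ideal.mul_unit_mem_iff_mem J hunit).1 hmem
  letI := Y.presheaf.algebra_section_stalk ⟨t c, hw⟩
  haveI := hV.isLocalization_stalk ⟨t c, hw⟩
  rw [← IsLocalization.AtPrime.map_eq_maximalIdeal (hV.primeIdealOf ⟨t c, hw⟩).asIdeal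
    (Y.presheaf.stalk (t c)), Ideal.map_le_iff_le_comap]
  intro s hs
  have hs' : (Y.presheaf.germ (UY g π U) (t c) hw).hom s ∈
      IsLocalRing.maximalIdeal (Y.presheaf.stalk (t c)) :=
    (IsLocalization.AtPrime.to_map_mem_maximal_iff (Y.presheaf.stalk (t c))
      (hV.primeIdealOf ⟨t c, hw⟩).asIdeal s).2 hs
  have hev := (ev_eq_zero_iff t c (UY g π U) hw s).2 hs'
  have hmem := sub_inr_ev_mem f g π hπ t ht c U hU hw s
  rw [hev, map_zero, sub_zero] at hmem
  have hle : Ideal.span (Set.range fun r : Γ(X, U) =>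
      inl.hom r - inr.hom ((ev t c (UY g π U) hw).hom (inl.hom r))) ≤
      Ideal.comap (Y.presheaf.germ (UY g π U) (t c) hw).hom J :=
    Ideal.span_le.2 (by rintro _ ⟨r, rfl⟩; exact hgen r)
  exact hle hmem

end Main

end Mult

section PreimMult

/-- Multiplicity one from the ideal-theoretic statement. -/
theorem preimMult_eq_one_of_le {Y P : Scheme.{u}} (f : Y ⟶ P) (ξ : P) (w : Y)
    (h : f w ∈ closure ({ξ} : Set P))
    (hle : IsLocalRing.maximalIdeal (Y.presheaf.stalk w) ≤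
      Ideal.map (f.stalkMap w).hom
        (RingHom.ker (Cyc.specMap (f w) ξ (specializes_iff_mem_closure.mpr h)))) :
    WeilCoh.preimMult f ξ w h = 1 := by
  unfold WeilCoh.preimMult
  have hker : RingHom.ker (Cyc.specMap (f w) ξ (specializes_iff_mem_closure.mpr h)) ≤
      IsLocalRing.maximalIdeal (P.presheaf.stalk (f w)) :=
    IsLocalRing.le_maximalIdeal (RingHom.ker_ne_top _)
  have hmap : Ideal.map (f.stalkMap w).hom
      (RingHom.ker (Cyc.specMap (f w) ξ (specializes_iff_mem_closure.mpr h))) =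
      IsLocalRing.maximalIdeal (Y.presheaf.stalk w) := by
    refine le_antisymm ?_ hle
    rw [Ideal.map_le_iff_le_comap]
    intro a ha
    have h1 := hker ha
    rw [Ideal.mem_comap, IsLocalRing.mem_maximalIdeal, mem_nonunits_iff]
    rw [IsLocalRing.mem_maximalIdeal, mem_nonunits_iff] at h1
    intro hu
    exact h1 (isUnit_of_map_unit (f.stalkMap w).hom a hu)
  rw [hmap]
  haveI : IsSimpleModule (Y.presheaf.stalk w)
      (Y.presheaf.stalk w ⧸ IsLocalRing.maximalIdeal (Y.presheaf.stalk w)) :=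
    isSimpleModule_iff_isCoatom.mpr
      (Ideal.isMaximal_def.mp (IsLocalRing.maximalIdeal.isMaximal _))
  rw [Module.length_eq_one]
  rfl

end PreimMult

end Groth.Agent.LefFix9
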