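import Mathlib
import Groth.Prelude.Def_SgaExt
import Groth.Prelude.Def_W4c1zetahwZeta
import Groth.Agent.Lib.ZetaFin_helper4

set_option autoImplicit false
set_option linter.style.haveILetI false
set_option linter.unusedSectionVars false

universe u

open CategoryTheory CategoryTheory.Limits AlgebraicGeometry

namespace Groth.Agent.Lib.PtCountEqH4

local notation:max "sm[" k ", " K "]" => Spec.map (CommRingCat.ofHom (algebraMap k K))

/-! ### combinatorics -/

theorem card_sigma_eq {α : Type u} (H : α → Type u) (d : α → ℕ) (r : ℕ) (hr : r ≠ 0)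
    (hfin : ∀ e, 1 ≤ e → {x | d x = e}.Finite)
    (hH : ∀ x, Nat.card (H x) = if d x ∣ r then d x else 0)
    (hHfin : ∀ x, Finite (H x)) :
    Nat.card (Σ x, H x) = ∑ e ∈ r.divisors, e * Nat.card {x // d x = e} := by
  classical
  have hmem : ∀ x, Nonempty (H x) → d x ∈ r.divisors := by
    intro x hne
    rw [Nat.mem_divisors]
    refine ⟨?_, hr⟩
    by_contra hnd
    have h0 := hH x
    rw [if_neg hnd] at h0
    haveI := hHfin x
    exact (Nat.card_pos (α := H x)).ne' h0
  let toF : (Σ x, H x) → Σ e : ↥r.divisors, Σ x : {x // d x = e.1}, H x.1 :=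
    fun p => ⟨⟨d p.1, hmem p.1 ⟨p.2⟩⟩, ⟨⟨p.1, rfl⟩, p.2⟩⟩
  let invF : (Σ e : ↥r.divisors, Σ x : {x // d x = e.1}, H x.1) → Σ x, H x :=
    fun q => ⟨q.2.1.1, q.2.2⟩
  have hR : ∀ (e : ℕ) (he : e ∈ r.divisors) (x : α) (hx : d x = e) (h : H x),
      toF (invF ⟨⟨e, he⟩, ⟨x, hx⟩, h⟩) = ⟨⟨e, he⟩, ⟨x, hx⟩, h⟩ := by
    intro e he x hx h
    subst hx
    rfl
  let E : (Σ x, H x) ≃ Σ e : ↥r.divisors, Σ x : {x // d x = e.1}, H x.1 :=
    ⟨toF, invF, fun p => rfl, fun ⟨⟨e, he⟩, ⟨x, hx⟩, h⟩ => hR e he x hx h⟩
  haveI : ∀ e : ↥r.divisors, Finite {x // d x = e.1} := fun e =>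
    (hfin e.1 (Nat.pos_of_mem_divisors e.2)).to_subtype
  haveI : ∀ (e : ↥r.divisors) (x : {x // d x = e.1}), Finite (H x.1) := fun e x => hHfin x.1
  haveI : ∀ e : ↥r.divisors, Finite (Σ x : {x // d x = e.1}, H x.1) := fun e => inferInstance
  rw [Nat.card_congr E, Nat.card_sigma]
  refine Eq.trans ?_ (Finset.sum_coe_sort r.divisors (fun e => e * Nat.card {x // d x = e}))
  refine Finset.sum_congr rfl fun e _ => ?_
  letI : Fintype {x // d x = e.1} := Fintype.ofFinite _
  have hx : ∀ x : {x // d x = e.1}, Nat.card (H x.1) = e.1 := by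
    intro x
    rw [hH x.1, x.2, if_pos (Nat.dvd_of_mem_divisors e.2)]
  calc Nat.card (Σ x : {x // d x = e.1}, H x.1)
      = ∑ x : {x // d x = e.1}, Nat.card (H x.1) := Nat.card_sigma
    _ = ∑ _x : {x // d x = e.1}, e.1 := Finset.sum_congr rfl (fun x _ => hx x)
    _ = e.1 * Nat.card {x // d x = e.1} := by
        rw [Finset.sum_const, Finset.card_univ, smul_eq_mul, Nat.card_eq_fintype_card, mul_comm]

/-! ### residue fields over `Spec k` -/

theorem card_residueField_of_prime {K : Type*} [Field K] (I : Ideal K) [I.IsPrime] :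
    Nat.card I.ResidueField = Nat.card K := by
  have hbot : I = ⊥ := Ideal.eq_bot_of_prime I
  haveI : I.IsMaximal := by rw [hbot]; exact Ideal.bot_isMaximal
  have hbij : Function.Bijective (algebraMap K I.ResidueField) :=
    ⟨(algebraMap K I.ResidueField).injective, Ideal.algebraMap_residueField_surjective I⟩
  exact (Nat.card_congr (Equiv.ofBijective _ hbij)).symm

theorem card_residueField_spec {k : Type u} [Field k] (s : Spec (CommRingCat.of k)) :
    Nat.card ((Spec (CommRingCat.of k)).residueField s) = Nat.card k := by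
  haveI : s.asIdeal.IsPrime := s.isPrime
  exact (Nat.card_congr
    (Scheme.Spec.residueFieldIso (CommRingCat.of k) s).commRingCatIsoToRingEquiv.toEquiv).trans
    (card_residueField_of_prime (K := k) s.asIdeal)

section AB

variable {k : Type u} [Field k] {X : Scheme.{u}} (f : X ⟶ Spec (CommRingCat.of k))

/-- `k → κ(s)` for a point `s` of `Spec k`. -/
noncomputable def alpha (k : Type u) [Field k] (s : ↥(Spec (CommRingCat.of k))) :
    CommRingCat.of k ⟶ (Spec (CommRingCat.of k)).residueField s :=
  Spec.preimage ((Spec (CommRingCat.of k)).fromSpecResidueField s)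

theorem map_alpha (s : ↥(Spec (CommRingCat.of k))) :
    Spec.map (alpha k s) = (Spec (CommRingCat.of k)).fromSpecResidueField s :=
  Spec.map_preimage _

/-- `k → κ(x)` for a point `x` of a `k`-scheme. -/
noncomputable def beta (x : X) : CommRingCat.of k ⟶ X.residueField x :=
  Spec.preimage (X.fromSpecResidueField x ≫ f)

theorem map_beta (x : X) : Spec.map (beta f x) = X.fromSpecResidueField x ≫ f :=
  Spec.map_preimage _

theorem beta_eq (x : X) : beta f x = alpha k (f.base x) ≫ f.residueFieldMap x := by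
  apply Spec.map_injective
  rw [map_beta, Spec.map_comp, map_alpha]
  exact (Scheme.Hom.SpecMap_residueFieldMap_fromSpecResidueField f x).symm

theorem alpha_bijective [Finite k] (s : ↥(Spec (CommRingCat.of k))) :
    Function.Bijective (alpha k s).hom := by
  haveI := Groth.Agent.Lib.ZetaFinH4.finite_residueField_spec s
  refine Function.Injective.bijective_of_nat_card_le (alpha k s).hom.injective ?_
  rw [card_residueField_spec]

theorem residueDegree_eq_finrank [Finite k] (x : X) :
    EGA4loc.residueDegree f x =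
      @Module.finrank k (X.residueField x) _ _ (beta f x).hom.toAlgebra.toModule := by
  letI a0 : Algebra k (X.residueField x) := (beta f x).hom.toAlgebra
  letI a1 : Algebra ((Spec (CommRingCat.of k)).residueField (f.base x)) (X.residueField x) :=
    (f.residueFieldMap x).hom.toAlgebra
  show Module.finrank ((Spec (CommRingCat.of k)).residueField (f.base x)) (X.residueField x) =
    Module.finrank k (X.residueField x)
  symm
  refine Algebra.finrank_eq_of_equiv_equiv
    (RingEquiv.ofBijective (alpha k (f.base x)).hom (alpha_bijective (f.base x)))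
    (RingEquiv.refl _) ?_
  refine RingHom.ext fun a => ?_
  exact (congrArg (fun t : CommRingCat.of k ⟶ X.residueField x => t.hom a) (beta_eq f x)).symm

theorem isClosed_of_residueDegree_pos [Finite k] [LocallyOfFiniteType f] (x : X)
    (hx : 1 ≤ EGA4loc.residueDegree f x) : IsClosed ({x} : Set X) := by
  haveI : JacobsonSpace X := LocallyOfFiniteType.jacobsonSpace f
  letI a0 : Algebra k (X.residueField x) := (beta f x).hom.toAlgebra
  have hfr : 1 ≤ Module.finrank k (X.residueField x) := by
    rw [← residueDegree_eq_finrank f x]; exact hx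
  haveI : Module.Finite k (X.residueField x) := Module.finite_of_finrank_pos hfr
  have hft : (beta f x).hom.FiniteType :=
    (inferInstance : Algebra.FiniteType k (X.residueField x))
  have h1 : LocallyOfFiniteType (Spec.map (beta f x)) :=
    (HasRingHomProperty.Spec_iff (P := @LocallyOfFiniteType)).mpr hft
  rw [map_beta] at h1
  haveI := h1
  haveI : LocallyOfFiniteType (X.fromSpecResidueField x) :=
    locallyOfFiniteType_of_comp (X.fromSpecResidueField x) f
  exact isClosed_singleton_iff_locallyOfFiniteType.mpr inferInstance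

end AB

/-! ### points with values in `k'` -/

section Pts

variable {k : Type u} [Field k] {X : Scheme.{u}} (f : X ⟶ Spec (CommRingCat.of k))
  (k' : Type u) [Field k'] [Algebra k k']

/-- `k`-homomorphisms `κ(x) → k'`. -/
abbrev Hx (x : X) : Type u :=
  {φ : X.residueField x ⟶ CommRingCat.of k' //
    beta f x ≫ φ = CommRingCat.ofHom (algebraMap k k')}

theorem symm_comp_iff (s : Σ x : X, (X.residueField x ⟶ CommRingCat.of k')) :
    (Scheme.SpecToEquivOfField k' X).symm s ≫ f = sm[k, k'] ↔
      beta f s.1 ≫ s.2 = CommRingCat.ofHom (algebraMap k k') := by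
  have h0 : (Scheme.SpecToEquivOfField k' X).symm s ≫ f = Spec.map (beta f s.1 ≫ s.2) := by
    rw [Spec.map_comp, map_beta]
    show (Spec.map s.2 ≫ X.fromSpecResidueField s.1) ≫ f = _
    rw [Category.assoc]
  rw [h0]
  exact ⟨fun h => Spec.map_injective h, fun h => by rw [h]⟩

/-- pairs `(x, φ)` with `φ` a `k`-homomorphism. -/
abbrev Ptot : Type u :=
  {s : Σ x : X, (X.residueField x ⟶ CommRingCat.of k') //
    beta f s.1 ≫ s.2 = CommRingCat.ofHom (algebraMap k k')}

noncomputable def ptsEquiv1 :
    {g : Spec (CommRingCat.of k') ⟶ X // g ≫ f = sm[k, k']} ≃ Ptot f k' :=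
  (Scheme.SpecToEquivOfField k' X).subtypeEquiv
    (fun g => by
      rw [← symm_comp_iff f k' ((Scheme.SpecToEquivOfField k' X) g), Equiv.symm_apply_apply])

def ptsEquiv2 : Ptot f k' ≃ Σ x : X, Hx f k' x where
  toFun := fun ⟨⟨x, φ⟩, h⟩ => ⟨x, ⟨φ, h⟩⟩
  invFun := fun ⟨x, ⟨φ, h⟩⟩ => ⟨⟨x, φ⟩, h⟩
  left_inv := fun ⟨⟨_, _⟩, _⟩ => rfl
  right_inv := fun ⟨_, ⟨_, _⟩⟩ => rfl

noncomputable def ptsEquiv :
    {g : Spec (CommRingCat.of k') ⟶ X // g ≫ f = sm[k, k']} ≃ Σ x : X, Hx f k' x :=
  (ptsEquiv1 f k').trans (ptsEquiv2 f k')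

noncomputable def hxEquiv (x : X) :
    Hx f k' x ≃ @AlgHom k (X.residueField x) k' _ _ _ (beta f x).hom.toAlgebra _ :=
  letI a0 : Algebra k (X.residueField x) := (beta f x).hom.toAlgebra
  { toFun := fun φ =>
      ({ φ.1.hom with
        commutes' := fun a =>
          congrArg (fun t : CommRingCat.of k ⟶ CommRingCat.of k' => t.hom a) φ.2 } :
        X.residueField x →ₐ[k] k')
    invFun := fun ψ => ⟨CommRingCat.ofHom ψ.toRingHom,
      CommRingCat.hom_ext (RingHom.ext fun a => ψ.commutes a)⟩
    left_inv := fun _ => rfl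
    right_inv := fun _ => rfl }

theorem card_Hx [Finite k] [Finite k'] (x : X) :
    Finite (Hx f k' x) ∧ Nat.card (Hx f k' x) =
      if EGA4loc.residueDegree f x ∣ Module.finrank k k' then EGA4loc.residueDegree f x else 0 := by
  letI a0 : Algebra k (X.residueField x) := (beta f x).hom.toAlgebra
  have hd : EGA4loc.residueDegree f x = Module.finrank k (X.residueField x) :=
    residueDegree_eq_finrank f x
  have hcard : Nat.card (Hx f k' x) = Nat.card (X.residueField x →ₐ[k] k') :=
    Nat.card_congr (hxEquiv f k' x)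
  by_cases h : EGA4loc.residueDegree f x ∣ Module.finrank k k'
  · rw [if_pos h]
    have h' : Module.finrank k (X.residueField x) ∣ Module.finrank k k' := hd ▸ h
    have h1 : Nat.card (X.residueField x →ₐ[k] k') = Module.finrank k (X.residueField x) :=
      FiniteField.natCard_algHom_of_finrank_dvd h'
    have h2 : Nat.card (Hx f k' x) = EGA4loc.residueDegree f x := by rw [hcard, h1, hd]
    refine ⟨Nat.finite_of_card_ne_zero ?_, h2⟩
    rw [h2]
    intro h0
    rw [h0, zero_dvd_iff] at h
    exact (Module.finrank_pos (R := k) (M := k')).ne' h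
  · rw [if_neg h]
    have h' : ¬ Module.finrank k (X.residueField x) ∣ Module.finrank k k' := hd ▸ h
    haveI : IsEmpty (X.residueField x →ₐ[k] k') :=
      not_nonempty_iff.mp (fun hne => h' (FiniteField.nonempty_algHom_iff_finrank_dvd.mp hne))
    haveI : IsEmpty (Hx f k' x) := (hxEquiv f k' x).isEmpty
    exact ⟨inferInstance, Nat.card_of_isEmpty⟩

end Pts

theorem main13050 {k : Type u} [Field k] [Finite k] {X : Scheme.{u}}
    (f : X ⟶ Spec (CommRingCat.of k)) [LocallyOfFiniteType f] [QuasiCompact f]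
    (k' : Type u) [Field k'] [Algebra k k'] [Finite k'] :
    SgaExt.pointCount f k' = Zeta.nPts f (Module.finrank k k') := by
  have hr : Module.finrank k k' ≠ 0 := (Module.finrank_pos (R := k) (M := k')).ne'
  have h1 : SgaExt.pointCount f k' = Nat.card (Σ x : X, Hx f k' x) :=
    Nat.card_congr (ptsEquiv f k')
  have h2 := card_sigma_eq (fun x : X => Hx f k' x) (fun x => EGA4loc.residueDegree f x)
    (Module.finrank k k') hr (fun e he => Groth.Agent.Lib.ZetaFinH4.finite_deg_pts f e he)
    (fun x => (card_Hx f k' x).2) (fun x => (card_Hx f k' x).1)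
  rw [h1, h2]
  refine Finset.sum_congr rfl fun e he => ?_
  have he1 : 1 ≤ e := Nat.pos_of_mem_divisors he
  congr 1
  exact Nat.card_congr (Equiv.subtypeEquivRight fun x =>
    ⟨fun h => ⟨isClosed_of_residueDegree_pos f x (h ▸ he1), h⟩, fun h => h.2⟩)

end Groth.Agent.Lib.PtCountEqH4
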