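import Mathlib
import Groth.Prelude.Def_WeilCoh
import Groth.Agent.Lib.LefFix1_helper9
import Groth.Agent.Lib.PtCountEq_helper4
import Groth.Agent.Lib.FrobFixFin_helper4

/-! Lefschetz fixed-point count for Frobenius (helper9), part 2: rational points of the base
change fixed by Frobenius. APPEND-ONLY once landed. -/

set_option linter.unusedSectionVars false
set_option linter.style.haveILetI false

universe u

open CategoryTheory CategoryTheory.Limits AlgebraicGeometry

namespace Groth.Agent.LefFix9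

open Groth.Agent.Lib.PtCountEqH4 Groth.Agent.Lib.FrobFixH4 Groth.Agent.Lib.FrobFixFinH4

section KPt

variable {k₀ : Type u} [Field k₀] {k : Type u} [Field k] [Algebra k₀ k]
  {X Y : Scheme.{u}} (f : X ⟶ Spec (CommRingCat.of k₀)) (g : Y ⟶ Spec (CommRingCat.of k))
  (π : Y ⟶ X) (hπ : IsPullback π g f (Spec.map (CommRingCat.ofHom (algebraMap k₀ k))))
  (k' : Type u) [Field k'] [Algebra k₀ k'] [Algebra k' k] [IsScalarTower k₀ k' k]

/-- The `k`-point of the base change attached to a `k'`-point of `X`. -/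
noncomputable def kpt (γ : Spec (CommRingCat.of k') ⟶ X)
    (hγ : γ ≫ f = Spec.map (CommRingCat.ofHom (algebraMap k₀ k'))) :
    Spec (CommRingCat.of k) ⟶ Y :=
  hπ.lift (Spec.map (CommRingCat.ofHom (algebraMap k' k)) ≫ γ) (𝟙 _) (by
    rw [Category.assoc, hγ, Category.id_comp, ← Spec.map_comp, ← CommRingCat.ofHom_comp,
      ← IsScalarTower.algebraMap_eq])

lemma kpt_π (γ : Spec (CommRingCat.of k') ⟶ X)
    (hγ : γ ≫ f = Spec.map (CommRingCat.ofHom (algebraMap k₀ k'))) :
    kpt f g π hπ k' γ hγ ≫ π = Spec.map (CommRingCat.ofHom (algebraMap k' k)) ≫ γ :=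
  hπ.lift_fst _ _ _

lemma kpt_g (γ : Spec (CommRingCat.of k') ⟶ X)
    (hγ : γ ≫ f = Spec.map (CommRingCat.ofHom (algebraMap k₀ k'))) :
    kpt f g π hπ k' γ hγ ≫ g = 𝟙 _ :=
  hπ.lift_snd _ _ _

section Fixed

variable (Q : ℕ) (GX : X ⟶ X) (hleG : ∀ U : X.Opens, U ≤ GX ⁻¹ᵁ U)
  (hGapp : ∀ (U : X.Opens) (s : Γ(X, U)), (GX.appLE U U (hleG U)).hom s = s ^ Q)
  (G : Y ⟶ Y) (hGg : G ≫ g = g) (hG : G ≫ π = π ≫ GX)

include hGapp in
/-- A point with values in a field fixed by the `Q`-th power is fixed by the `Q`-Frobenius. -/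
lemma comp_frob_of_pow_eq (γ : Spec (CommRingCat.of k') ⟶ X) (hk' : ∀ b : k', b ^ Q = b) :
    γ ≫ GX = γ := by
  let c' : Spec (CommRingCat.of k') := IsLocalRing.closedPoint k'
  obtain ⟨U, hU, hxU, -⟩ := (TopologicalSpace.Opens.isBasis_iff_nbhd.mp X.isBasis_affineOpens)
    (show γ c' ∈ (⊤ : X.Opens) from trivial)
  have hrange : Set.range γ ⊆ (U : Set X) := by
    rintro _ ⟨c'', rfl⟩
    haveI : Subsingleton ↥(Spec (CommRingCat.of k')) :=
      inferInstanceAs (Subsingleton (PrimeSpectrum k'))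
    rw [Subsingleton.elim c'' c']
    exact hxU
  have h1 := frob_nat' GX Q hleG hGapp k' (RingHom.id k') (fun x => (hk' x).symm) γ U hU hrange
  rw [h1]
  have h2 : CommRingCat.ofHom (RingHom.id k') = 𝟙 (CommRingCat.of k') := rfl
  rw [h2, Spec.map_id, Category.id_comp]

include hGapp hGg hG in
lemma kpt_fixed (γ : Spec (CommRingCat.of k') ⟶ X)
    (hγ : γ ≫ f = Spec.map (CommRingCat.ofHom (algebraMap k₀ k'))) (hk' : ∀ b : k', b ^ Q = b) :
    kpt f g π hπ k' γ hγ ≫ G = kpt f g π hπ k' γ hγ := by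
  apply hπ.hom_ext
  · rw [Category.assoc, hG, ← Category.assoc, kpt_π, Category.assoc,
      comp_frob_of_pow_eq k' Q GX hleG hGapp γ hk']
  · rw [Category.assoc, hGg]

end Fixed

section FixedSet

variable {P : Scheme.{u}} (pp qq : P ⟶ Y) (hP : IsPullback pp qq g g) (dd jj : Y ⟶ P)
  (G : Y ⟶ Y)
  (hdp : dd ≫ pp = 𝟙 Y) (hdq : dd ≫ qq = 𝟙 Y) (hjp : jj ≫ pp = 𝟙 Y) (hjq : jj ≫ qq = G)

include hP hdp hdq hjp hjq in
lemma comp_dd_eq_comp_jj {T : Scheme.{u}} (t : T ⟶ Y) (htG : t ≫ G = t) : t ≫ dd = t ≫ jj := by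
  apply hP.hom_ext
  · rw [Category.assoc, Category.assoc, hdp, hjp]
  · rw [Category.assoc, Category.assoc, hdq, hjq, Category.comp_id, htG]

include hP hdp hdq hjp hjq in
lemma dd_apply_eq_jj_apply {T : Scheme.{u}} (t : T ⟶ Y) (htG : t ≫ G = t) (c : T) :
    dd (t c) = jj (t c) :=
  congrArg (fun φ : T ⟶ P => φ c) (comp_dd_eq_comp_jj g pp qq hP dd jj G hdp hdq hjp hjq t htG)

variable (p E : ℕ) [Fact p.Prime] [CharP k p]
  (GX : X ⟶ X) (hleG : ∀ U : X.Opens, U ≤ GX ⁻¹ᵁ U)
  (hGapp : ∀ (U : X.Opens) (s : Γ(X, U)), (GX.appLE U U (hleG U)).hom s = s ^ p ^ E)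
  (hG : G ≫ π = π ≫ GX)

include g hGapp hG hdp hdq hjp hjq in
/-- At a point of the fixed locus, the residue field downstairs is fixed by the `Q`-th power. -/
lemma pow_eq_of_mem_range (w : Y) (hw : dd w ∈ Set.range jj) (a : X.residueField (π w)) :
    a ^ p ^ E = a := by
  obtain ⟨y, hy⟩ := hw
  obtain ⟨z, -, hz2⟩ := Scheme.Pullback.exists_preimage_pullback (f := jj) (g := dd) y w hy
  subst hz2
  have hcond := pullback.condition (f := jj) (g := dd)
  have hfs : pullback.fst jj dd = pullback.snd jj dd := by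
    have := congrArg (fun φ => φ ≫ pp) hcond
    simpa only [Category.assoc, hjp, hdp, Category.comp_id] using this
  have hsG : pullback.snd jj dd ≫ G = pullback.snd jj dd := by
    have := congrArg (fun φ => φ ≫ qq) hcond
    simp only [Category.assoc, hjq, hdq, Category.comp_id] at this
    rw [← hfs, this, hfs]
  let βz : CommRingCat.of k ⟶ (pullback jj dd).residueField z := beta (pullback.snd jj dd ≫ g) z
  haveI : CharP ((pullback jj dd).residueField z) p :=
    charP_of_injective_ringHom βz.hom.injective p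
  haveI : ExpChar ((pullback jj dd).residueField z) p := ExpChar.prime Fact.out
  have hfix : ((pullback jj dd).fromSpecResidueField z ≫ (pullback.snd jj dd ≫ π)) ≫ GX =
      (pullback jj dd).fromSpecResidueField z ≫ (pullback.snd jj dd ≫ π) := by
    rw [Category.assoc, Category.assoc, ← hG, ← Category.assoc (pullback.snd jj dd), hsG]
  exact pow_eq_of_comp_frob GX (p ^ E) hleG hGapp (pullback.snd jj dd ≫ π) z
    (iterateFrobenius ((pullback jj dd).residueField z) p E)
    (fun x => iterateFrobenius_def ..) hfix a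

end FixedSet

end KPt

section Roots

/-- In a field, the solutions of `u ^ Q = u` all come from a finite subfield with `Q`
elements. -/
lemma mem_range_of_pow_eq {L : Type*} [Field L] {k' : Type*} [Field k'] [Finite k']
    (θ : k' →+* L) (Q : ℕ) (hcard : Nat.card k' = Q) (u : L) (hu : u ^ Q = u) :
    u ∈ Set.range θ := by
  classical
  letI : Fintype k' := Fintype.ofFinite k'
  have hQ' : Fintype.card k' = Q := by rw [← Nat.card_eq_fintype_card, hcard]
  have hQ1 : 1 < Q := hQ' ▸ Fintype.one_lt_card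
  have hne : (Polynomial.X ^ Q - Polynomial.X : Polynomial L) ≠ 0 :=
    FiniteField.X_pow_card_sub_X_ne_zero L hQ1
  have hdeg : (Polynomial.X ^ Q - Polynomial.X : Polynomial L).natDegree = Q :=
    FiniteField.X_pow_card_sub_X_natDegree_eq L hQ1
  let S : Finset L := Finset.univ.image θ
  have hScard : S.card = Q := by
    rw [Finset.card_image_of_injective _ θ.injective, Finset.card_univ, hQ']
  have hsub : S ⊆ (Polynomial.X ^ Q - Polynomial.X : Polynomial L).roots.toFinset := by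
    intro v hv
    obtain ⟨b, -, rfl⟩ := Finset.mem_image.mp hv
    rw [Multiset.mem_toFinset, Polynomial.mem_roots hne, Polynomial.IsRoot.def]
    simp only [Polynomial.eval_sub, Polynomial.eval_pow, Polynomial.eval_X]
    rw [← map_pow, ← hQ', FiniteField.pow_card, sub_self]
  have hle : (Polynomial.X ^ Q - Polynomial.X : Polynomial L).roots.toFinset.card ≤ S.card := by
    rw [hScard]
    calc _ ≤ Multiset.card (Polynomial.X ^ Q - Polynomial.X : Polynomial L).roots :=
          Multiset.toFinset_card_le _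
      _ ≤ (Polynomial.X ^ Q - Polynomial.X : Polynomial L).natDegree := Polynomial.card_roots' _
      _ = Q := hdeg
  have heq := Finset.eq_of_subset_of_card_le hsub hle
  have hu' : u ∈ (Polynomial.X ^ Q - Polynomial.X : Polynomial L).roots.toFinset := by
    rw [Multiset.mem_toFinset, Polynomial.mem_roots hne, Polynomial.IsRoot.def]
    simp only [Polynomial.eval_sub, Polynomial.eval_pow, Polynomial.eval_X]
    rw [hu, sub_self]
  rw [← heq] at hu'
  obtain ⟨b, -, hb⟩ := Finset.mem_image.mp hu'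
  exact ⟨b, hb⟩

lemma exists_factor {A B L : Type*} [CommRing A] [Field B] [CommRing L] [Nontrivial L]
    (ρ : A →+* L) (θ : B →+* L) (h : ∀ a, ρ a ∈ Set.range θ) :
    ∃ φ : A →+* B, θ.comp φ = ρ := by
  have hbij : Function.Bijective θ.rangeRestrict :=
    ⟨fun a b hab => θ.injective (congrArg Subtype.val hab), θ.rangeRestrict_surjective⟩
  let e : B ≃+* θ.range := RingEquiv.ofBijective θ.rangeRestrict hbij
  refine ⟨e.symm.toRingHom.comp (ρ.codRestrict θ.range (fun a => by
    obtain ⟨b, hb⟩ := h a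
    exact ⟨b, hb⟩)), ?_⟩
  ext a
  show θ (e.symm _) = ρ a
  have h1 : ∀ y : θ.range, θ (e.symm y) = (y : L) := by
    intro y
    have : e (e.symm y) = y := e.apply_symm_apply y
    exact congrArg Subtype.val this
  rw [h1]
  rfl

end Roots

section Surj

variable {k₀ : Type u} [Field k₀] {k : Type u} [Field k] [Algebra k₀ k]
  {X Y : Scheme.{u}} (f : X ⟶ Spec (CommRingCat.of k₀)) (g : Y ⟶ Spec (CommRingCat.of k))
  (π : Y ⟶ X) (hπ : IsPullback π g f (Spec.map (CommRingCat.ofHom (algebraMap k₀ k))))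
  (k' : Type u) [Field k'] [Algebra k₀ k'] [Algebra k' k] [IsScalarTower k₀ k' k] [Finite k']

/-- A point of the base change over a point whose residue field is fixed by the `Q`-th power
is the `k`-point attached to a point with values in the field with `Q` elements. -/
theorem exists_kpt_eq (Q : ℕ) (hcard : Nat.card k' = Q) (w : Y)
    (hw : ∀ a : X.residueField (π w), a ^ Q = a) :
    ∃ (γ : Spec (CommRingCat.of k') ⟶ X)
      (hγ : γ ≫ f = Spec.map (CommRingCat.ofHom (algebraMap k₀ k'))),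
      kpt f g π hπ k' γ hγ (IsLocalRing.closedPoint k) = w := by
  let ρ : X.residueField (π w) ⟶ Y.residueField w := π.residueFieldMap w
  let βw : CommRingCat.of k ⟶ Y.residueField w := beta g w
  let θ : k' →+* Y.residueField w := βw.hom.comp (algebraMap k' k)
  obtain ⟨φ', hφ'⟩ := exists_factor ρ.hom θ
    (fun a => mem_range_of_pow_eq θ Q hcard _ (by rw [← map_pow, hw]))
  let φ : X.residueField (π w) ⟶ CommRingCat.of k' := CommRingCat.ofHom φ'
  have hφ : φ ≫ CommRingCat.ofHom (algebraMap k' k) ≫ βw = ρ := by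
    ext a
    exact RingHom.congr_fun hφ' a
  have hsq : beta f (π w) ≫ ρ = CommRingCat.ofHom (algebraMap k₀ k) ≫ βw := by
    apply Spec.map_injective
    rw [Spec.map_comp, Spec.map_comp, map_beta, map_beta, ← Category.assoc,
      Scheme.Hom.SpecMap_residueFieldMap_fromSpecResidueField, Category.assoc, hπ.w,
      Category.assoc]
  have hγ : (Spec.map φ ≫ X.fromSpecResidueField (π w)) ≫ f =
      Spec.map (CommRingCat.ofHom (algebraMap k₀ k')) := by
    rw [Category.assoc, ← map_beta, ← Spec.map_comp]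
    congr 1
    ext c
    apply θ.injective
    show θ (φ' ((beta f (π w)).hom c)) = θ (algebraMap k₀ k' c)
    have h1 : θ (φ' ((beta f (π w)).hom c)) = ρ.hom ((beta f (π w)).hom c) :=
      RingHom.congr_fun hφ' _
    have h2 : ρ.hom ((beta f (π w)).hom c) = βw.hom (algebraMap k₀ k c) :=
      congrArg (fun ψ : CommRingCat.of k₀ ⟶ Y.residueField w => ψ.hom c) hsq
    rw [h1, h2]
    show _ = βw.hom (algebraMap k' k (algebraMap k₀ k' c))
    rw [← IsScalarTower.algebraMap_apply]
  refine ⟨Spec.map φ ≫ X.fromSpecResidueField (π w), hγ, ?_⟩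
  have hfac : Y.fromSpecResidueField w =
      Spec.map βw ≫ kpt f g π hπ k' (Spec.map φ ≫ X.fromSpecResidueField (π w)) hγ := by
    apply hπ.hom_ext
    · rw [Category.assoc, kpt_π, ← Category.assoc, ← Category.assoc, ← Spec.map_comp,
        ← Spec.map_comp, hφ]
      exact (Scheme.Hom.SpecMap_residueFieldMap_fromSpecResidueField π w).symm
    · rw [Category.assoc, kpt_g, Category.comp_id]
      exact (map_beta g w).symm
  have hne : Nonempty ↥(Spec (Y.residueField w)) := inferInstance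
  obtain ⟨s0⟩ := hne
  have h3 := congrArg (fun ψ : Spec (Y.residueField w) ⟶ Y => ψ s0) hfac
  simp only [Scheme.fromSpecResidueField_apply] at h3
  refine Eq.trans ?_ h3.symm
  haveI : Subsingleton ↥(Spec (CommRingCat.of k)) :=
    inferInstanceAs (Subsingleton (PrimeSpectrum k))
  show kpt f g π hπ k' (Spec.map φ ≫ X.fromSpecResidueField (π w)) hγ (IsLocalRing.closedPoint k) =
    kpt f g π hπ k' (Spec.map φ ≫ X.fromSpecResidueField (π w)) hγ ((Spec.map βw) s0)
  exact congrArg _ (Subsingleton.elim _ _)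

end Surj

section Inj

/-- Points with values in a field are determined after enlarging the field. -/
lemma specMap_comp_cancel {X : Scheme.{u}} {k' k : Type u} [Field k'] [Field k] (i : k' →+* k)
    (γ γ' : Spec (CommRingCat.of k') ⟶ X)
    (h : Spec.map (CommRingCat.ofHom i) ≫ γ = Spec.map (CommRingCat.ofHom i) ≫ γ') : γ = γ' := by
  apply (Scheme.SpecToEquivOfField k' X).injective
  have hγ : ∀ δ : Spec (CommRingCat.of k') ⟶ X,
      Spec.map (CommRingCat.ofHom i) ≫ δ =
        (Scheme.SpecToEquivOfField k X).symm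
          ⟨(Scheme.SpecToEquivOfField k' X δ).1,
            (Scheme.SpecToEquivOfField k' X δ).2 ≫ CommRingCat.ofHom i⟩ := by
    intro δ
    conv_lhs => rw [← (Scheme.SpecToEquivOfField k' X).symm_apply_apply δ]
    show Spec.map (CommRingCat.ofHom i) ≫ Spec.map _ ≫ X.fromSpecResidueField _ =
      Spec.map _ ≫ X.fromSpecResidueField _
    rw [Spec.map_comp, Category.assoc]
  rw [hγ γ, hγ γ'] at h
  have h2 := (Scheme.SpecToEquivOfField k X).symm.injective h
  rw [Scheme.SpecToEquivOfField_eq_iff] at h2 ⊢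
  obtain ⟨e, he⟩ := h2
  refine ⟨e, ?_⟩
  haveI : Mono (CommRingCat.ofHom i) :=
    ConcreteCategory.mono_of_injective (CommRingCat.ofHom i) i.injective
  rw [← cancel_mono (CommRingCat.ofHom i), Category.assoc]
  exact he

variable {k₀ : Type u} [Field k₀] {k : Type u} [Field k] [IsAlgClosed k] [Algebra k₀ k]
  {X Y : Scheme.{u}} (f : X ⟶ Spec (CommRingCat.of k₀)) (g : Y ⟶ Spec (CommRingCat.of k))
  [LocallyOfFiniteType g]
  (π : Y ⟶ X) (hπ : IsPullback π g f (Spec.map (CommRingCat.ofHom (algebraMap k₀ k))))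
  (k' : Type u) [Field k'] [Algebra k₀ k'] [Algebra k' k] [IsScalarTower k₀ k' k]

theorem kpt_injective (γ γ' : Spec (CommRingCat.of k') ⟶ X)
    (hγ : γ ≫ f = Spec.map (CommRingCat.ofHom (algebraMap k₀ k')))
    (hγ' : γ' ≫ f = Spec.map (CommRingCat.ofHom (algebraMap k₀ k')))
    (h : kpt f g π hπ k' γ hγ (IsLocalRing.closedPoint k) =
      kpt f g π hπ k' γ' hγ' (IsLocalRing.closedPoint k)) : γ = γ' := by
  have ht : kpt f g π hπ k' γ hγ = kpt f g π hπ k' γ' hγ' :=
    ext_of_apply_closedPoint_eq g (kpt_g f g π hπ k' γ hγ) (kpt_g f g π hπ k' γ' hγ') h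
  have h1 : Spec.map (CommRingCat.ofHom (algebraMap k' k)) ≫ γ =
      Spec.map (CommRingCat.ofHom (algebraMap k' k)) ≫ γ' := by
    rw [← kpt_π f g π hπ k' γ hγ, ← kpt_π f g π hπ k' γ' hγ', ht]
  exact specMap_comp_cancel (algebraMap k' k) γ γ' h1

end Inj

section Count

variable {k₀ : Type u} [Field k₀] {k : Type u} [Field k] [IsAlgClosed k] [Algebra k₀ k]
  {X Y P : Scheme.{u}} (f : X ⟶ Spec (CommRingCat.of k₀)) (g : Y ⟶ Spec (CommRingCat.of k))
  [LocallyOfFiniteType g]
  (π : Y ⟶ X) (hπ : IsPullback π g f (Spec.map (CommRingCat.ofHom (algebraMap k₀ k))))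
  (k' : Type u) [Field k'] [Algebra k₀ k'] [Algebra k' k] [IsScalarTower k₀ k' k] [Finite k']
  (pp qq : P ⟶ Y) (hP : IsPullback pp qq g g) (dd jj : Y ⟶ P) (G : Y ⟶ Y)
  (hdp : dd ≫ pp = 𝟙 Y) (hdq : dd ≫ qq = 𝟙 Y) (hjp : jj ≫ pp = 𝟙 Y) (hjq : jj ≫ qq = G)
  (p E : ℕ) [Fact p.Prime] [CharP k p] (hcard : Nat.card k' = p ^ E)
  (GX : X ⟶ X) (hleG : ∀ U : X.Opens, U ≤ GX ⁻¹ᵁ U)
  (hGapp : ∀ (U : X.Opens) (s : Γ(X, U)), (GX.appLE U U (hleG U)).hom s = s ^ p ^ E)
  (hGg : G ≫ g = g) (hG : G ≫ π = π ≫ GX)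

include hcard in
lemma pow_card_eq' (b : k') : b ^ p ^ E = b := by
  letI : Fintype k' := Fintype.ofFinite k'
  rw [← hcard, Nat.card_eq_fintype_card]
  exact FiniteField.pow_card b

include hP hdp hdq hjp hjq hcard hGapp hGg hG in
lemma kpt_mem_fixed (γ : Spec (CommRingCat.of k') ⟶ X)
    (hγ : γ ≫ f = Spec.map (CommRingCat.ofHom (algebraMap k₀ k'))) :
    dd (kpt f g π hπ k' γ hγ (IsLocalRing.closedPoint k)) ∈ Set.range jj :=
  ⟨_, (dd_apply_eq_jj_apply g pp qq hP dd jj G hdp hdq hjp hjq _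
    (kpt_fixed f g π hπ k' (p ^ E) GX hleG hGapp G hGg hG γ hγ (pow_card_eq' k' p E hcard)) _).symm⟩

include hπ hP hdp hdq hjp hjq hcard hGapp hGg hG in
/-- Every point of the fixed locus is a Frobenius-fixed `k`-point. -/
theorem exists_fixed_kpt (w : Y) (hw : dd w ∈ Set.range jj) :
    ∃ t : Spec (CommRingCat.of k) ⟶ Y, t ≫ g = 𝟙 _ ∧ t ≫ G = t ∧
      t (IsLocalRing.closedPoint k) = w := by
  obtain ⟨γ, hγ, h⟩ := exists_kpt_eq f g π hπ k' (p ^ E) hcard w
    (pow_eq_of_mem_range g π pp qq dd jj G hdp hdq hjp hjq p E GX hleG hGapp hG w hw)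
  exact ⟨kpt f g π hπ k' γ hγ, kpt_g f g π hπ k' γ hγ,
    kpt_fixed f g π hπ k' (p ^ E) GX hleG hGapp G hGg hG γ hγ (pow_card_eq' k' p E hcard), h⟩

include hπ hP hdp hdq hjp hjq hcard hGapp hGg hG in
/-- The fixed locus of Frobenius is in bijection with the points with values in `k'`. -/
theorem card_fixed_eq :
    Nat.card {w : Y // dd w ∈ Set.range jj} = SgaExt.pointCount f k' := by
  unfold SgaExt.pointCount
  symm
  let Ψ : {γ : Spec (CommRingCat.of k') ⟶ X //
      γ ≫ f = Spec.map (CommRingCat.ofHom (algebraMap k₀ k'))} →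
      {w : Y // dd w ∈ Set.range jj} := fun γ =>
    ⟨kpt f g π hπ k' γ.1 γ.2 (IsLocalRing.closedPoint k),
      kpt_mem_fixed f g π hπ k' pp qq hP dd jj G hdp hdq hjp hjq p E hcard GX hleG hGapp hGg hG
        γ.1 γ.2⟩
  refine Nat.card_congr (Equiv.ofBijective Ψ ⟨?_, ?_⟩)
  · intro γ γ' h
    exact Subtype.ext (kpt_injective f g π hπ k' γ.1 γ'.1 γ.2 γ'.2 (congrArg Subtype.val h))
  · rintro ⟨w, hw⟩
    obtain ⟨γ, hγ, h⟩ := exists_kpt_eq f g π hπ k' (p ^ E) hcard w
      (pow_eq_of_mem_range g π pp qq dd jj G hdp hdq hjp hjq p E GX hleG hGapp hG w hw)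
    exact ⟨⟨γ, hγ⟩, Subtype.ext h⟩

end Count

end Groth.Agent.LefFix9
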