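import Mathlib
import Groth.Prelude.Def_WeilCoh
import Groth.Agent.Lib.FrobDeg4_helper9
import Groth.Agent.Lib.FrobLinAlg_helper9
import Groth.Agent.Lib.WeilCohG8_helper9

/-! Weil cohomology: the functional equation, part 1 (helper9): Frobenius multiplies the trace by
`q ^ dim`; determinant and characteristic polynomial identities (S15454, S15455).
APPEND-ONLY once landed. -/

universe u v w

open CategoryTheory CategoryTheory.Limits AlgebraicGeometry Polynomial

namespace Groth.Agent.WCF9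

open WeilCoh Groth.Agent.FrobDeg9

section FE

variable {k₀ : Type u} [Field k₀] [Finite k₀] {k : Type u} [Field k] [IsAlgClosed k]
  [Algebra k₀ k] {K : Type v} [Field K]
  (T : WeilCoh.TheoryOn.{u, v, w} k (IsVar k) K)
  {X : Scheme.{u}} (f : X ⟶ Spec (CommRingCat.of k₀))
  (FX : X ⟶ X) (hFb : FX.base = 𝟙 _) (hle : ∀ U : X.Opens, U ≤ FX ⁻¹ᵁ U)
  (hFapp : ∀ (U : X.Opens) (s : Γ(X, U)), (FX.appLE U U (hle U)).hom s = s ^ Nat.card k₀)
  (Xb : WeilCoh.Var k) (π : Xb.obj.left ⟶ X)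
  (hπ : IsPullback π Xb.obj.hom f (Spec.map (CommRingCat.ofHom (algebraMap k₀ k))))
  (F : Xb ⟶ Xb) (hF : WeilCoh.sm F ≫ π = π ≫ FX)

include hFb hFapp hπ hF in
/-- Frobenius multiplies the trace by `q ^ dim`. -/
theorem tr_pull_frobenius (c : T.H Xb) :
    T.tr Xb (T.pull F c) = (Nat.card k₀ : K) ^ WeilCoh.dim Xb.obj.left * T.tr Xb c := by
  haveI : IrreducibleSpace ↥Xb.obj.left := Xb.property.2.2
  obtain ⟨hdeg, hfix⟩ := residueDegree_frobenius f FX hFb hle hFapp Xb π hπ F hF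
  have h := cl_push_all T F (genericPoint ↥Xb.obj.left) c
  rw [hfix, cl_genericPoint, one_mul, one_mul, hdeg] at h
  rw [h]
  push_cast
  rfl

include hFb hFapp hπ hF in
theorem pairing_pull_frobenius (i j : ℤ) (a : T.gr Xb i) (b : T.gr Xb j) :
    pairing K (T.gr Xb i) (T.gr Xb j) (T.tr Xb) (T.pullDeg F i a) (T.pullDeg F j b) =
      (Nat.card k₀ : K) ^ WeilCoh.dim Xb.obj.left *
        pairing K (T.gr Xb i) (T.gr Xb j) (T.tr Xb) a b := by
  change T.tr Xb (T.pull F a.1 * T.pull F b.1) = _ * T.tr Xb (a.1 * b.1)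
  rw [← map_mul]
  exact tr_pull_frobenius T f FX hFb hle hFapp Xb π hπ F hF _

include hFb hFapp hπ hF in
theorem s15454 (i : ℤ) :
    LinearMap.det (T.pullDeg F (2 * (WeilCoh.dim Xb.obj.left : ℤ) - i)) *
        LinearMap.det (T.pullDeg F i) =
      (Nat.card k₀ : K) ^ (WeilCoh.dim Xb.obj.left * Module.finrank K ↥(T.gr Xb i)) := by
  haveI := T.duality Xb i (2 * (WeilCoh.dim Xb.obj.left : ℤ) - i) (by ring)
  have h := (Groth.Agent.FrobLA9.adjoint_identities
    (pairing K (T.gr Xb i) (T.gr Xb (2 * (WeilCoh.dim Xb.obj.left : ℤ) - i)) (T.tr Xb))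
    (T.pullDeg F i) (T.pullDeg F (2 * (WeilCoh.dim Xb.obj.left : ℤ) - i))
    ((Nat.card k₀ : K) ^ WeilCoh.dim Xb.obj.left)
    (pairing_pull_frobenius T f FX hFb hle hFapp Xb π hπ F hF _ _)).1
  rw [h, pow_mul]

include hFb hFapp hπ hF in
theorem s15455 (i : ℤ) :
    LinearMap.det (T.pullDeg F i) •
        (LinearMap.charpoly (T.pullDeg F (2 * (WeilCoh.dim Xb.obj.left : ℤ) - i))).reverse =
      (-1 : Polynomial K) ^ Module.finrank K ↥(T.gr Xb i) *
        (LinearMap.charpoly (T.pullDeg F i)).comp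
          (Polynomial.C ((Nat.card k₀ : K) ^ WeilCoh.dim Xb.obj.left) * Polynomial.X) := by
  haveI := T.duality Xb i (2 * (WeilCoh.dim Xb.obj.left : ℤ) - i) (by ring)
  exact (Groth.Agent.FrobLA9.adjoint_identities
    (pairing K (T.gr Xb i) (T.gr Xb (2 * (WeilCoh.dim Xb.obj.left : ℤ) - i)) (T.tr Xb))
    (T.pullDeg F i) (T.pullDeg F (2 * (WeilCoh.dim Xb.obj.left : ℤ) - i))
    ((Nat.card k₀ : K) ^ WeilCoh.dim Xb.obj.left)
    (pairing_pull_frobenius T f FX hFb hle hFapp Xb π hπ F hF _ _)).2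

end FE

end Groth.Agent.WCF9
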