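import Mathlib
import Groth.Prelude.Def_WeilCoh
import Groth.Agent.Lib.WeilCohFE1_helper9
import Groth.Agent.Lib.FrobLinAlg2_helper9

/-! Weil cohomology: the functional equation, part 2 (helper9): S15456.
APPEND-ONLY once landed. -/

universe u v w

open CategoryTheory CategoryTheory.Limits AlgebraicGeometry Polynomial

namespace Groth.Agent.WCF9

open WeilCoh Groth.Agent.FrobDeg9

section Betti

variable {k : Type u} [Field k] {K : Type v} [Field K]
  (T : WeilCoh.TheoryOn.{u, v, w} k (IsVar k) K) (Xb : WeilCoh.Var k)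

/-- Poincaré duality: Betti numbers in complementary degrees agree. -/
lemma finrank_gr_symm (i j : ℤ) (hij : i + j = 2 * (WeilCoh.dim Xb.obj.left : ℤ)) :
    Module.finrank K (T.gr Xb i) = Module.finrank K (T.gr Xb j) := by
  haveI := T.duality Xb i j hij
  exact Module.finrank_of_isPerfPair (pairing K (T.gr Xb i) (T.gr Xb j) (T.tr Xb))

/-- The middle Betti number of an odd-dimensional variety is even. -/
lemma even_finrank_middle [CharZero K] (hn : Odd (WeilCoh.dim Xb.obj.left)) :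
    Even (Module.finrank K (T.gr Xb (WeilCoh.dim Xb.obj.left : ℤ))) := by
  set n := WeilCoh.dim Xb.obj.left with hn'
  haveI := T.duality Xb (n : ℤ) (n : ℤ) (by ring)
  haveI : NeZero (2 : K) := ⟨two_ne_zero⟩
  refine Groth.Agent.FrobLA9.even_finrank_of_skew
    (pairing K (T.gr Xb (n : ℤ)) (T.gr Xb (n : ℤ)) (T.tr Xb))
    (LinearMap.IsPerfPair.bijective_left _).injective
    (LinearMap.IsPerfPair.bijective_right _).injective ?_
  intro a b
  change T.tr Xb (a.1 * b.1) = - T.tr Xb (b.1 * a.1)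
  rw [T.gradedComm Xb (n : ℤ) (n : ℤ) a.1 b.1 a.2 b.2, map_smul, smul_eq_mul, Int.natAbs_natCast,
    (hn.mul hn).neg_one_pow, neg_one_mul]

end Betti

section FE2

variable {k₀ : Type u} [Field k₀] [Finite k₀] {k : Type u} [Field k] [IsAlgClosed k]
  [Algebra k₀ k] {K : Type v} [Field K] [CharZero K]
  (T : WeilCoh.TheoryOn.{u, v, w} k (IsVar k) K)
  {X : Scheme.{u}} (f : X ⟶ Spec (CommRingCat.of k₀))
  (FX : X ⟶ X) (hFb : FX.base = 𝟙 _) (hle : ∀ U : X.Opens, U ≤ FX ⁻¹ᵁ U)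
  (hFapp : ∀ (U : X.Opens) (s : Γ(X, U)), (FX.appLE U U (hle U)).hom s = s ^ Nat.card k₀)
  (Xb : WeilCoh.Var k) (π : Xb.obj.left ⟶ X)
  (hπ : IsPullback π Xb.obj.hom f (Spec.map (CommRingCat.ofHom (algebraMap k₀ k))))
  (F : Xb ⟶ Xb) (hF : WeilCoh.sm F ≫ π = π ≫ FX)

include hFb hFapp hπ hF in
theorem s15456 :
    ∃ ε : K, (ε = 1 ∨ ε = -1) ∧
      Polynomial.aeval ((RatFunc.X : RatFunc K)⁻¹ *
            RatFunc.C ((Nat.card k₀ : K) ^ WeilCoh.dim Xb.obj.left)⁻¹)
          (∏ i ∈ Finset.range (WeilCoh.dim Xb.obj.left),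
            (LinearMap.charpoly (T.pullDeg F ((2 * i + 1 : ℕ) : ℤ))).reverse) /
        Polynomial.aeval ((RatFunc.X : RatFunc K)⁻¹ *
            RatFunc.C ((Nat.card k₀ : K) ^ WeilCoh.dim Xb.obj.left)⁻¹)
          (∏ i ∈ Finset.range (WeilCoh.dim Xb.obj.left + 1),
            (LinearMap.charpoly (T.pullDeg F ((2 * i : ℕ) : ℤ))).reverse) =
      RatFunc.C ε * RatFunc.C (Nat.card k₀ : K) ^ ((WeilCoh.dim Xb.obj.left : ℤ) *
          (∑ i ∈ Finset.range (2 * WeilCoh.dim Xb.obj.left + 1),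
            (-1 : ℤ) ^ i * (Module.finrank K ↥(T.gr Xb (i : ℤ)) : ℤ)) / 2) *
        (RatFunc.X : RatFunc K) ^ (∑ i ∈ Finset.range (2 * WeilCoh.dim Xb.obj.left + 1),
            (-1 : ℤ) ^ i * (Module.finrank K ↥(T.gr Xb (i : ℤ)) : ℤ)) *
        (algebraMap (Polynomial K) (RatFunc K)
          (∏ i ∈ Finset.range (WeilCoh.dim Xb.obj.left),
            (LinearMap.charpoly (T.pullDeg F ((2 * i + 1 : ℕ) : ℤ))).reverse) /
         algebraMap (Polynomial K) (RatFunc K)
          (∏ i ∈ Finset.range (WeilCoh.dim Xb.obj.left + 1),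
            (LinearMap.charpoly (T.pullDeg F ((2 * i : ℕ) : ℤ))).reverse)) := by
  set n := WeilCoh.dim Xb.obj.left with hn
  have hq : (Nat.card k₀ : K) ≠ 0 := by
    have : Nat.card k₀ ≠ 0 := Nat.card_ne_zero.2 ⟨⟨0⟩, inferInstance⟩
    exact_mod_cast this
  have hcast : ∀ i : ℕ, i ≤ 2 * n → (2 * (n : ℤ) - (i : ℤ)) = ((2 * n - i : ℕ) : ℤ) := by
    intro i hi
    omega
  exact Groth.Agent.FrobLA9.zeta_fe_abstract n (Nat.card k₀ : K) hq
    (fun i : ℕ => LinearMap.charpoly (T.pullDeg F ((i : ℕ) : ℤ)))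
    (fun i : ℕ => LinearMap.det (T.pullDeg F ((i : ℕ) : ℤ)))
    (fun i : ℕ => Module.finrank K ↥(T.gr Xb (i : ℤ)))
    (fun i _ => LinearMap.charpoly_natDegree _)
    (fun i hi => by
      have h := s15455 T f FX hFb hle hFapp Xb π hπ F hF (i : ℤ)
      rw [hcast i hi, Polynomial.smul_eq_C_mul] at h
      exact h)
    (fun i hi => by
      have h := s15454 T f FX hFb hle hFapp Xb π hπ F hF (i : ℤ)
      rw [hcast i hi] at h
      exact h)
    (Groth.Agent.FrobLA9.even_mul_alt_sum n _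
      (fun i hi => by
        have := finrank_gr_symm T Xb (((2 * n - i : ℕ) : ℤ)) (i : ℤ) (by
          rw [← hcast i hi]; ring)
        exact this)
      (fun hodd => even_finrank_middle T Xb hodd))

end FE2

end Groth.Agent.WCF9
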