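import Mathlib
import Groth.Prelude.Def_WeilCoh
import Groth.Agent.Lib.LefFix2_helper9
import Groth.Agent.Lib.WeilCohFE2_helper9

/-! Lefschetz fixed-point count for Frobenius (helper9), part 3: the intersection number of a
graph with the diagonal when they meet transversally in closed points.
APPEND-ONLY once landed. -/

set_option linter.unusedSectionVars false
set_option linter.style.haveILetI false

universe u v w

open CategoryTheory CategoryTheory.Limits AlgebraicGeometry

namespace Groth.Agent.LefFix9

open WeilCoh Groth.Agent.WCF9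

section Inter

variable {k : Type u} [Field k] [IsAlgClosed k] {K : Type v} [Field K]
  (T : WeilCoh.TheoryOn.{u, v, w} k (IsVar k) K)

lemma pdim_eq_zero_of_isClosed (X : Scheme.{u}) (x : X) (hx : IsClosed ({x} : Set X)) :
    pdim X x = 0 := by
  unfold pdim
  rw [hx.closure_eq]
  apply natDim_eq_zero_of_le
  haveI : Subsingleton ↥({x} : Set X) := (Set.subsingleton_coe _).2 Set.subsingleton_singleton
  exact topologicalKrullDim_zero_of_discreteTopology _

/-- The intersection number of a graph with the diagonal, when they meet transversally in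
closed points, is the number of these points. -/
theorem tr_graph_diag_eq_card (Xb Pb : Var k) [IrreducibleSpace ↥Xb.obj.left]
    (p q : Pb ⟶ Xb) (hP : IsProd p q)
    (j d : Xb ⟶ Pb) (hjp : j ≫ p = 𝟙 Xb) (hdp : d ≫ p = 𝟙 Xb)
    (hS : ∀ w : Xb.obj.left, sm d w ∈ Set.range (sm j) → IsClosed ({w} : Set Xb.obj.left) ∧
      ∀ h, preimMult (sm d) (sm j (genericPoint ↥Xb.obj.left)) w h = 1) :
    T.tr Pb (T.cl Pb (sm j (genericPoint ↥Xb.obj.left)) *
        T.cl Pb (sm d (genericPoint ↥Xb.obj.left))) =
      (Nat.card {w : Xb.obj.left // sm d w ∈ Set.range (sm j)} : K) := by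
  set η := genericPoint ↥Xb.obj.left with hη
  haveI := isClosedImmersion_section p q hP j hjp
  -- the closure of the graph point
  have hcl : closure ({sm j η} : Set Pb.obj.left) = Set.range (sm j) := by
    rw [← Set.image_singleton, (sm j).isClosedEmbedding.closure_image_eq, hη,
      genericPoint_closure, Set.image_univ]
  have hSmem : ∀ w : Xb.obj.left,
      w ∈ (sm d) ⁻¹' closure ({sm j η} : Set Pb.obj.left) ↔ sm d w ∈ Set.range (sm j) := by
    intro w
    rw [Set.mem_preimage, hcl]
  have hcomp : ∀ w : Xb.obj.left,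
      IsCompPt ((sm d) ⁻¹' closure ({sm j η} : Set Pb.obj.left)) w ↔
        sm d w ∈ Set.range (sm j) := by
    intro w
    constructor
    · intro hw
      exact (hSmem w).1 hw.1
    · intro hw
      refine ⟨(hSmem w).2 hw, fun w' hw' hsp => ?_⟩
      have hc := (hS w' ((hSmem w').1 hw')).1
      have h1 : w ∈ closure ({w'} : Set Xb.obj.left) := specializes_iff_mem_closure.1 hsp
      rw [hc.closure_eq] at h1
      exact h1.symm
  -- dimensions
  have hd := dim_prod T p q hP
  have hpd : pdim Pb.obj.left (sm j η) = dim Xb.obj.left := by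
    rw [pdim_section p q hP j hjp]
    exact natDim_closure_genericPoint _
  -- the pull-back formula
  have hpull := T.cl_pull d (sm j η) (by
    intro w hw
    rw [pdim_eq_zero_of_isClosed _ w (hS w ((hcomp w).1 hw)).1, hpd, hd]
    push_cast
    ring) (Or.inr fun w hw => (hS w ((hcomp w).1 hw)).2 _)
  have hpull' : T.pull d (T.cl Pb (sm j η)) =
      ∑ᶠ w : {w : Xb.obj.left //
        IsCompPt ((sm d) ⁻¹' closure ({sm j η} : Set Pb.obj.left)) w}, T.cl Xb w.1 := by
    rw [hpull]
    refine finsum_congr fun w => ?_
    rw [(hS w.1 ((hcomp w.1).1 w.2)).2 _, Nat.cast_one, one_smul]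
  -- the trace
  have htr : T.tr Xb (T.pull d (T.cl Pb (sm j η))) =
      (Nat.card {w : Xb.obj.left //
        IsCompPt ((sm d) ⁻¹' closure ({sm j η} : Set Pb.obj.left)) w} : K) := by
    rw [hpull']
    have htr1 : ∀ w : {w : Xb.obj.left //
        IsCompPt ((sm d) ⁻¹' closure ({sm j η} : Set Pb.obj.left)) w},
        T.tr Xb (T.cl Xb w.1) = 1 :=
      fun w => tr_cl_closedPoint T Xb w.1 (hS w.1 ((hcomp w.1).1 w.2)).1
    by_cases hfin : Finite {w : Xb.obj.left //
        IsCompPt ((sm d) ⁻¹' closure ({sm j η} : Set Pb.obj.left)) w}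
    · haveI := hfin
      letI := Fintype.ofFinite {w : Xb.obj.left //
        IsCompPt ((sm d) ⁻¹' closure ({sm j η} : Set Pb.obj.left)) w}
      rw [finsum_eq_sum_of_fintype, map_sum, Finset.sum_congr rfl (fun w _ => htr1 w),
        Finset.sum_const, Finset.card_univ, Nat.card_eq_fintype_card, nsmul_eq_mul, mul_one]
    · rw [not_finite_iff_infinite] at hfin
      haveI := hfin
      rw [Nat.card_eq_zero_of_infinite, Nat.cast_zero, finsum_of_infinite_support, map_zero]
      have hsupp : Function.support (fun w : {w : Xb.obj.left //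
          IsCompPt ((sm d) ⁻¹' closure ({sm j η} : Set Pb.obj.left)) w} => T.cl Xb w.1) =
          Set.univ := by
        ext w
        simp only [Function.mem_support, Set.mem_univ, iff_true]
        intro h0
        have := htr1 w
        rw [h0, map_zero] at this
        exact zero_ne_one this
      rw [hsupp]
      exact Set.infinite_univ
  -- conclusion
  have h1 := tr_section T p q hP d hdp η (T.cl Pb (sm j η))
  rw [cl_genericPoint, one_mul] at h1
  rw [comm_of_even T Pb _ _ (T.cl_mem Pb (sm j η)), h1, htr]
  congr 1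
  exact Nat.card_congr (Equiv.subtypeEquivRight hcomp)

end Inter

end Groth.Agent.LefFix9
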