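import Mathlib
import Groth.Prelude.Def_SgaExt
import Groth.Prelude.Def_W4c1zetahwZeta
import Groth.Agent.Lib.PtCountEq_helper4

set_option autoImplicit false
set_option linter.style.haveILetI false
set_option linter.unusedSectionVars false

universe u

open CategoryTheory CategoryTheory.Limits AlgebraicGeometry

namespace Groth.Agent.Lib.ZetaAffLineH4

local notation:max "sm[" k ", " K "]" => Spec.map (CommRingCat.ofHom (algebraMap k K))

section PS
open PowerSeries

theorem derivative_rescale (a : ℚ) (W : PowerSeries ℚ) :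
    derivative ℚ (rescale a W) = C a * rescale a (derivative ℚ W) := by
  ext n
  rw [coeff_derivative, coeff_rescale, coeff_C_mul, coeff_rescale, coeff_derivative]
  ring

theorem rescale_exp_subst (a : ℚ) {L : PowerSeries ℚ} (hL : constantCoeff L = 0) :
    rescale a (subst L (exp ℚ)) = subst (rescale a L) (exp ℚ) := by
  have hL' : constantCoeff (rescale a L) = 0 := by
    rw [← coeff_zero_eq_constantCoeff_apply, coeff_rescale, coeff_zero_eq_constantCoeff_apply, hL,
      mul_zero]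
  refine Groth.Agent.ZetaPS.ode_unique (D := derivative ℚ (rescale a L)) ?_
    (Groth.Agent.ZetaPS.derivative_exp_subst hL') ?_
  · rw [derivative_rescale, Groth.Agent.ZetaPS.derivative_exp_subst hL, map_mul,
      derivative_rescale]
    ring
  · rw [Groth.Agent.ZetaPS.constantCoeff_exp_subst hL', ← coeff_zero_eq_constantCoeff_apply,
      coeff_rescale, coeff_zero_eq_constantCoeff_apply,
      Groth.Agent.ZetaPS.constantCoeff_exp_subst hL, pow_zero, one_mul]

end PS

theorem exists_ext (k : Type u) [Field k] [Finite k] (m : ℕ) (hm : 0 < m) :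
    ∃ (k' : Type u) (_ : Field k') (_ : Algebra k k') (_ : Finite k'),
      Module.finrank k k' = m := by
  obtain ⟨p, hp⟩ := CharP.exists k
  haveI := hp
  haveI : Fact p.Prime := ⟨CharP.char_is_prime k p⟩
  haveI : NeZero m := ⟨hm.ne'⟩
  refine ⟨ULift.{u} (FiniteField.Extension k p m), inferInstance, inferInstance, inferInstance, ?_⟩
  exact (LinearEquiv.finrank_eq ULift.moduleEquiv).trans (FiniteField.finrank_extension k p m)

section Pts

variable {k : Type u} [Field k] {X : Scheme.{u}} (f : X ⟶ Spec (CommRingCat.of k))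
  (k' : Type u) [Field k'] [Algebra k k']

/-- morphisms to affine space. -/
noncomputable def affEquiv (n : Type u) (T : Scheme.{u}) :
    (T ⟶ 𝔸(n; X)) ≃ (T ⟶ X) × (n → Γ(T, ⊤)) where
  toFun h := (h ≫ 𝔸(n; X) ↘ X, fun i => h.appTop (AffineSpace.coord X i))
  invFun gv := AffineSpace.homOfVector gv.1 gv.2
  left_inv h := AffineSpace.hom_ext (AffineSpace.homOfVector_over _ _)
    (fun i => AffineSpace.homOfVector_appTop_coord _ _ i)
  right_inv gv := Prod.ext (AffineSpace.homOfVector_over gv.1 gv.2)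
    (funext fun i => AffineSpace.homOfVector_appTop_coord gv.1 gv.2 i)

theorem pointCount_affLine :
    SgaExt.pointCount ((𝔸(PUnit.{u + 1}; X) ↘ X) ≫ f) k' =
      SgaExt.pointCount f k' * Nat.card k' := by
  let E1 : {h : Spec (CommRingCat.of k') ⟶ 𝔸(PUnit.{u + 1}; X) //
        h ≫ ((𝔸(PUnit.{u + 1}; X) ↘ X) ≫ f) = sm[k, k']} ≃
      {gv : (Spec (CommRingCat.of k') ⟶ X) ×
        (PUnit.{u + 1} → Γ(Spec (CommRingCat.of k'), ⊤)) // gv.1 ≫ f = sm[k, k']} :=
    (affEquiv PUnit.{u + 1} (Spec (CommRingCat.of k'))).subtypeEquiv (fun h => by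
      show h ≫ ((𝔸(PUnit.{u + 1}; X) ↘ X) ≫ f) = _ ↔ (h ≫ 𝔸(PUnit.{u + 1}; X) ↘ X) ≫ f = _
      rw [Category.assoc])
  let E2 : {gv : (Spec (CommRingCat.of k') ⟶ X) ×
        (PUnit.{u + 1} → Γ(Spec (CommRingCat.of k'), ⊤)) // gv.1 ≫ f = sm[k, k']} ≃
      {g : Spec (CommRingCat.of k') ⟶ X // g ≫ f = sm[k, k']} ×
        (PUnit.{u + 1} → Γ(Spec (CommRingCat.of k'), ⊤)) :=
    { toFun := fun ⟨⟨g, v⟩, h⟩ => (⟨g, h⟩, v)
      invFun := fun ⟨⟨g, h⟩, v⟩ => ⟨⟨g, v⟩, h⟩
      left_inv := fun ⟨⟨_, _⟩, _⟩ => rfl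
      right_inv := fun ⟨⟨_, _⟩, _⟩ => rfl }
  let E3 : (PUnit.{u + 1} → Γ(Spec (CommRingCat.of k'), ⊤)) ≃ k' :=
    (Equiv.funUnique PUnit.{u + 1} _).trans
      (Scheme.ΓSpecIso (CommRingCat.of k')).commRingCatIsoToRingEquiv.toEquiv
  calc SgaExt.pointCount ((𝔸(PUnit.{u + 1}; X) ↘ X) ≫ f) k'
      = Nat.card {h : Spec (CommRingCat.of k') ⟶ 𝔸(PUnit.{u + 1}; X) //
        h ≫ ((𝔸(PUnit.{u + 1}; X) ↘ X) ≫ f) = sm[k, k']} := rfl
    _ = Nat.card ({g : Spec (CommRingCat.of k') ⟶ X // g ≫ f = sm[k, k']} ×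
        (PUnit.{u + 1} → Γ(Spec (CommRingCat.of k'), ⊤))) := Nat.card_congr (E1.trans E2)
    _ = Nat.card {g : Spec (CommRingCat.of k') ⟶ X // g ≫ f = sm[k, k']} *
        Nat.card (PUnit.{u + 1} → Γ(Spec (CommRingCat.of k'), ⊤)) := Nat.card_prod _ _
    _ = SgaExt.pointCount f k' * Nat.card k' := by rw [Nat.card_congr E3]; rfl

theorem nPts_affLine_aux [Finite k] [LocallyOfFiniteType f] [QuasiCompact f] [Finite k'] :
    Zeta.nPts ((𝔸(PUnit.{u + 1}; X) ↘ X) ≫ f) (Module.finrank k k') =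
      Zeta.nPts f (Module.finrank k k') * Nat.card k ^ Module.finrank k k' := by
  rw [← Groth.Agent.Lib.PtCountEqH4.main13050 ((𝔸(PUnit.{u + 1}; X) ↘ X) ≫ f) k',
    ← Groth.Agent.Lib.PtCountEqH4.main13050 f k', pointCount_affLine f k',
    Module.natCard_eq_pow_finrank (K := k) (V := k')]

theorem nPts_affLine [Finite k] [LocallyOfFiniteType f] [QuasiCompact f] (m : ℕ) :
    Zeta.nPts ((𝔸(PUnit.{u + 1}; X) ↘ X) ≫ f) m = Zeta.nPts f m * Nat.card k ^ m := by
  rcases Nat.eq_zero_or_pos m with rfl | hm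
  · simp [Zeta.nPts]
  obtain ⟨k', hF, hA, hFin, rfl⟩ := exists_ext k m hm
  letI : Field k' := hF
  letI : Algebra k k' := hA
  haveI : Finite k' := hFin
  exact nPts_affLine_aux f k'

theorem logZeta_affLine [Finite k] [LocallyOfFiniteType f] [QuasiCompact f] :
    Zeta.logZeta ((𝔸(PUnit.{u + 1}; X) ↘ X) ≫ f) =
      PowerSeries.rescale (Nat.card k : ℚ) (Zeta.logZeta f) := by
  ext m
  rw [PowerSeries.coeff_rescale]
  simp only [Zeta.logZeta, PowerSeries.coeff_mk]
  rw [nPts_affLine f m]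
  push_cast
  ring

theorem main14455 [Finite k] [LocallyOfFiniteType f] [QuasiCompact f] :
    Zeta.zetaFun ((𝔸(PUnit.{u + 1}; X) ↘ X) ≫ f) =
      PowerSeries.rescale (Nat.card k : ℚ) (Zeta.zetaFun f) := by
  unfold Zeta.zetaFun
  rw [logZeta_affLine f,
    rescale_exp_subst _ (Groth.Agent.Lib.ZetaFinH4.constantCoeff_logZeta f)]

end Pts

end Groth.Agent.Lib.ZetaAffLineH4
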