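import Mathlib
import Groth.Prelude.Def_WeilCoh
import Groth.Agent.Lib.LefFix3_helper9
import Groth.Agent.Lib.ZetaAffLine_helper4

/-! Lefschetz fixed-point count for Frobenius (helper9), part 4: the iterates of Frobenius and
the number of fixed points. APPEND-ONLY once landed. -/

set_option linter.unusedSectionVars false
set_option linter.style.haveILetI false

universe u v w

open CategoryTheory CategoryTheory.Limits AlgebraicGeometry

namespace Groth.Agent.LefFix9

open WeilCoh Groth.Agent.WCF9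

section Iter

variable {X : Scheme.{u}} (FX : X ⟶ X)

/-- Iterates of an endomorphism of a scheme. -/
noncomputable def frobIter : ℕ → (X ⟶ X)
  | 0 => 𝟙 X
  | n + 1 => FX ≫ frobIter n

variable (hle : ∀ U : X.Opens, U ≤ FX ⁻¹ᵁ U)

include hle in
lemma frobIter_le (m : ℕ) (U : X.Opens) : U ≤ (frobIter FX m) ⁻¹ᵁ U := by
  induction m with
  | zero => exact le_rfl
  | succ n ih =>
    intro x hx
    show (frobIter FX n) (FX x) ∈ U
    exact ih (hle U hx)

variable (Q : ℕ)
  (hFapp : ∀ (U : X.Opens) (s : Γ(X, U)), (FX.appLE U U (hle U)).hom s = s ^ Q)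

include hFapp in
lemma frobIter_appLE (m : ℕ) (U : X.Opens) (s : Γ(X, U)) :
    ((frobIter FX m).appLE U U (frobIter_le FX hle m U)).hom s = s ^ Q ^ m := by
  induction m with
  | zero =>
    rw [pow_zero, pow_one]
    have h1 : (frobIter FX 0).appLE U U (frobIter_le FX hle 0 U) = 𝟙 _ := by
      show (𝟙 X : X ⟶ X).appLE U U _ = 𝟙 _
      rw [id_appLE']
      exact X.presheaf.map_id _
    rw [h1]
    rfl
  | succ n ih =>
    have h1 : (frobIter FX (n + 1)).appLE U U (frobIter_le FX hle (n + 1) U) =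
        (frobIter FX n).appLE U U (frobIter_le FX hle n U) ≫ FX.appLE U U (hle U) := by
      rw [Scheme.Hom.appLE_comp_appLE]
      rfl
    rw [h1, CommRingCat.comp_apply, ih, hFapp, ← pow_mul, ← pow_succ]

end Iter

section Count

variable {k₀ : Type u} [Field k₀] [Finite k₀] {k : Type u} [Field k] [IsAlgClosed k]
  [Algebra k₀ k] {K : Type v} [Field K]
  (T : WeilCoh.TheoryOn.{u, v, w} k (IsVar k) K)
  {X : Scheme.{u}} (f : X ⟶ Spec (CommRingCat.of k₀)) [LocallyOfFiniteType f] [QuasiCompact f]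
  (FX : X ⟶ X) (hle : ∀ U : X.Opens, U ≤ FX ⁻¹ᵁ U)
  (hFapp : ∀ (U : X.Opens) (s : Γ(X, U)), (FX.appLE U U (hle U)).hom s = s ^ Nat.card k₀)
  (Xb : WeilCoh.Var k) (π : Xb.obj.left ⟶ X)
  (hπ : IsPullback π Xb.obj.hom f (Spec.map (CommRingCat.ofHom (algebraMap k₀ k))))
  (F : Xb ⟶ Xb) (hF : WeilCoh.sm F ≫ π = π ≫ FX)
  (Pb : WeilCoh.Var k) (p q : Pb ⟶ Xb) (hP : WeilCoh.IsProd p q)

include hF in
lemma sm_iter_π (m : ℕ) : sm (iter F m) ≫ π = π ≫ frobIter FX m := by
  induction m with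
  | zero =>
    show sm (𝟙 Xb) ≫ π = π ≫ 𝟙 X
    rw [Category.comp_id]
    exact Category.id_comp _
  | succ n ih =>
    show (sm F ≫ sm (iter F n)) ≫ π = π ≫ FX ≫ frobIter FX n
    rw [Category.assoc, ih, ← Category.assoc, hF, Category.assoc]

include hFapp hπ hF hP in
/-- The number of fixed points of the `m`-th iterate of Frobenius, as an intersection number. -/
theorem tr_graph_frobenius_eq_nPts [IrreducibleSpace ↥Xb.obj.left] (m : ℕ) (hm : 0 < m)
    (j d : Xb ⟶ Pb) (hjp : j ≫ p = 𝟙 Xb) (hjq : j ≫ q = iter F m)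
    (hdp : d ≫ p = 𝟙 Xb) (hdq : d ≫ q = 𝟙 Xb) :
    T.tr Pb (T.cl Pb (sm j (genericPoint ↥Xb.obj.left)) *
        T.cl Pb (sm d (genericPoint ↥Xb.obj.left))) = (Zeta.nPts f m : K) := by
  classical
  haveI : Smooth Xb.obj.hom := Xb.property.1
  haveI : LocallyOfFiniteType Xb.obj.hom := inferInstance
  -- characteristic
  obtain ⟨pc, hp⟩ := CharP.exists k₀
  letI : Fintype k₀ := Fintype.ofFinite k₀
  obtain ⟨e, hpp, hcard⟩ := FiniteField.card k₀ pc
  haveI : Fact pc.Prime := ⟨hpp⟩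
  haveI : CharP k pc := charP_of_injective_algebraMap (algebraMap k₀ k).injective pc
  have hq : Nat.card k₀ = pc ^ (e : ℕ) := by rw [Nat.card_eq_fintype_card, hcard]
  have hE : 0 < (e : ℕ) * m := Nat.mul_pos e.pos hm
  -- the field with `q ^ m` elements inside `k`
  obtain ⟨k', _, _, _, hk'⟩ := Groth.Agent.Lib.ZetaAffLineH4.exists_ext k₀ m hm
  haveI : Module.Finite k₀ k' := Module.Finite.of_finite
  haveI : Algebra.IsAlgebraic k₀ k' := Algebra.IsAlgebraic.of_finite k₀ k'
  let ι : k' →ₐ[k₀] k := IsAlgClosed.lift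
  letI : Algebra k' k := ι.toRingHom.toAlgebra
  haveI : IsScalarTower k₀ k' k := IsScalarTower.of_algebraMap_eq fun c => (ι.commutes c).symm
  have hcard' : Nat.card k' = pc ^ ((e : ℕ) * m) := by
    rw [Module.natCard_eq_pow_finrank (K := k₀) (V := k'), hk', hq, pow_mul]
  -- the Frobenius data
  have hGapp : ∀ (U : X.Opens) (s : Γ(X, U)),
      ((frobIter FX m).appLE U U (frobIter_le FX hle m U)).hom s = s ^ pc ^ ((e : ℕ) * m) := by
    intro U s
    rw [frobIter_appLE FX hle (Nat.card k₀) hFapp m U s, hq, pow_mul]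
  have hGg : sm (iter F m) ≫ Xb.obj.hom = Xb.obj.hom := Over.w (iter F m).hom
  have hG := sm_iter_π FX Xb π F hF m
  have hdp' : sm d ≫ sm p = 𝟙 _ := congrArg sm hdp
  have hdq' : sm d ≫ sm q = 𝟙 _ := congrArg sm hdq
  have hjp' : sm j ≫ sm p = 𝟙 _ := congrArg sm hjp
  have hjq' : sm j ≫ sm q = sm (iter F m) := congrArg sm hjq
  haveI := isClosedImmersion_section p q hP j hjp
  have hcl : closure ({sm j (genericPoint ↥Xb.obj.left)} : Set Pb.obj.left) =
      Set.range (sm j) := by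
    rw [← Set.image_singleton, (sm j).isClosedEmbedding.closure_image_eq,
      genericPoint_closure, Set.image_univ]
  rw [tr_graph_diag_eq_card T Xb Pb p q hP j d hjp hdp ?_,
    card_fixed_eq f Xb.obj.hom π hπ k' (sm p) (sm q) hP (sm d) (sm j) (sm (iter F m))
      hdp' hdq' hjp' hjq' pc ((e : ℕ) * m) hcard' (frobIter FX m) (frobIter_le FX hle m) hGapp
      hGg hG,
    Groth.Agent.Lib.PtCountEqH4.main13050 f k', hk']
  intro w hw
  obtain ⟨t, ht, htG, rfl⟩ := exists_fixed_kpt f Xb.obj.hom π hπ k' (sm p) (sm q) hP (sm d)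
    (sm j) (sm (iter F m)) hdp' hdq' hjp' hjq' pc ((e : ℕ) * m) hcard' (frobIter FX m)
    (frobIter_le FX hle m) hGapp hGg hG w hw
  refine ⟨?_, fun h => ?_⟩
  · exact (pointEquivClosedPoint Xb.obj.hom ⟨t, ht⟩).2
  · obtain ⟨U, hU, hxU, -⟩ := (TopologicalSpace.Opens.isBasis_iff_nbhd.mp X.isBasis_affineOpens)
      (show π (t (IsLocalRing.closedPoint k)) ∈ (⊤ : X.Opens) from trivial)
    apply preimMult_eq_one_of_le
    exact maximalIdeal_le_map f Xb.obj.hom π hπ pc ((e : ℕ) * m) hE (frobIter FX m)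
      (frobIter_le FX hle m) hGapp (sm (iter F m)) hGg hG (sm p) (sm q) (sm d) (sm j)
      hdp' hdq' hjp' hjq' t ht htG (IsLocalRing.closedPoint k) U hU ⟨hxU, trivial⟩
      (genericPoint ↥Xb.obj.left) (specializes_iff_mem_closure.mpr h)

end Count

end Groth.Agent.LefFix9
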