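import Mathlib
import Groth.Prelude.Def_SgaExt
import Groth.Prelude.Def_W4c1zetahwZeta
import Groth.Agent.Lib.PtCountEq_helper4
import Groth.Agent.Lib.ZetaFin_helper4
import Groth.Agent.Lib.ZetaAffLine_helper4

set_option autoImplicit false
set_option linter.style.haveILetI false
set_option linter.unusedSectionVars false

universe u

open CategoryTheory CategoryTheory.Limits AlgebraicGeometry

namespace Groth.Agent.Lib.ZetaBCH4

local notation:max "sm[" k ", " K "]" => Spec.map (CommRingCat.ofHom (algebraMap k K))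

/-! ### power series over a characteristic zero field -/

section PS
open PowerSeries

variable {K : Type*} [Field K] [CharZero K]

theorem coeff_succ_of_ode {W D : PowerSeries K} (hW : derivative K W = W * D) (j : ℕ) :
    coeff (j + 1) W * ((j : K) + 1) =
      ∑ x ∈ Finset.HasAntidiagonal.antidiagonal j, coeff x.1 W * coeff x.2 D := by
  rw [← coeff_mul, ← hW, coeff_derivative]

theorem ode_unique {W₁ W₂ D : PowerSeries K} (h₁ : derivative K W₁ = W₁ * D)
    (h₂ : derivative K W₂ = W₂ * D) (h0 : constantCoeff W₁ = constantCoeff W₂) : W₁ = W₂ := by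
  ext n
  induction n using Nat.strong_induction_on with
  | _ n ih =>
    cases n with
    | zero => simpa using h0
    | succ j =>
      have e1 := coeff_succ_of_ode h₁ j
      have e2 := coeff_succ_of_ode h₂ j
      have : ∑ x ∈ Finset.HasAntidiagonal.antidiagonal j, coeff x.1 W₁ * coeff x.2 D =
          ∑ x ∈ Finset.HasAntidiagonal.antidiagonal j, coeff x.1 W₂ * coeff x.2 D := by
        apply Finset.sum_congr rfl
        intro x hx
        rw [ih x.1 (by have := Finset.HasAntidiagonal.mem_antidiagonal.mp hx; omega)]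
      rw [this, ← e2] at e1
      have hne : ((j : K) + 1) ≠ 0 := Nat.cast_add_one_ne_zero j
      exact mul_right_cancel₀ hne e1

theorem derivative_rescale (a : K) (W : PowerSeries K) :
    derivative K (rescale a W) = C a * rescale a (derivative K W) := by
  ext n
  rw [coeff_derivative, coeff_rescale, coeff_C_mul, coeff_rescale, coeff_derivative]
  ring

variable [Algebra ℚ K]

theorem derivative_exp_subst {L : PowerSeries K} (hL : constantCoeff L = 0) :
    derivative K (subst L (exp K)) = subst L (exp K) * derivative K L := by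
  rw [derivative_subst (HasSubst.of_constantCoeff_zero' hL), derivative_exp]

theorem constantCoeff_exp_subst {L : PowerSeries K} (hL : constantCoeff L = 0) :
    constantCoeff (subst L (exp K)) = 1 := by
  have hs := HasSubst.of_constantCoeff_zero' hL
  have h1 : subst L (exp K) = 1 + subst L (exp K - 1) := by
    have h2 : subst L (1 : PowerSeries K) = 1 := by rw [← coe_substAlgHom hs, map_one]
    rw [subst_sub hs, h2]; ring
  rw [h1, map_add, map_one]
  have : constantCoeff (subst L (exp K - 1)) = 0 :=
    constantCoeff_subst_eq_zero hL _ (by simp [constantCoeff_exp])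
  rw [this, add_zero]

theorem exp_subst_add {L1 L2 : PowerSeries K} (h1 : constantCoeff L1 = 0)
    (h2 : constantCoeff L2 = 0) :
    subst (L1 + L2) (exp K) = subst L1 (exp K) * subst L2 (exp K) := by
  have h12 : constantCoeff (L1 + L2) = 0 := by rw [map_add, h1, h2, add_zero]
  refine ode_unique (D := derivative K (L1 + L2)) (derivative_exp_subst h12) ?_ ?_
  · rw [Derivation.leibniz, derivative_exp_subst h1, derivative_exp_subst h2, map_add]
    simp only [smul_eq_mul]
    ring
  · rw [map_mul, constantCoeff_exp_subst h12, constantCoeff_exp_subst h1,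
      constantCoeff_exp_subst h2, mul_one]

theorem exp_subst_zero : subst (0 : PowerSeries K) (exp K) = 1 := by
  have h0 : constantCoeff (0 : PowerSeries K) = 0 := map_zero _
  refine ode_unique (D := 0) ?_ ?_ ?_
  · rw [derivative_exp_subst h0, map_zero]
  · rw [mul_zero]; exact derivative_one
  · rw [constantCoeff_exp_subst h0, map_one]

theorem exp_subst_sum {ι : Type*} (s : Finset ι) (L : ι → PowerSeries K)
    (hL : ∀ i, constantCoeff (L i) = 0) :
    subst (∑ i ∈ s, L i) (exp K) = ∏ i ∈ s, subst (L i) (exp K) := by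
  classical
  induction s using Finset.induction_on with
  | empty => rw [Finset.sum_empty, Finset.prod_empty]; exact exp_subst_zero
  | insert j s hj ih =>
    have hs : constantCoeff (∑ i ∈ s, L i) = 0 := by
      rw [map_sum]; exact Finset.sum_eq_zero fun i _ => hL i
    rw [Finset.sum_insert hj, Finset.prod_insert hj, exp_subst_add (hL j) hs, ih]

theorem rescale_exp_subst (a : K) {L : PowerSeries K} (hL : constantCoeff L = 0) :
    rescale a (subst L (exp K)) = subst (rescale a L) (exp K) := by
  have hL' : constantCoeff (rescale a L) = 0 := by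
    rw [← coeff_zero_eq_constantCoeff_apply, coeff_rescale, coeff_zero_eq_constantCoeff_apply, hL,
      mul_zero]
  refine ode_unique (D := derivative K (rescale a L)) ?_ (derivative_exp_subst hL') ?_
  · rw [derivative_rescale, derivative_exp_subst hL, map_mul, derivative_rescale]
    ring
  · rw [constantCoeff_exp_subst hL', ← coeff_zero_eq_constantCoeff_apply,
      coeff_rescale, coeff_zero_eq_constantCoeff_apply, constantCoeff_exp_subst hL, pow_zero,
      one_mul]

theorem subst_X_pow_exp_subst {r : ℕ} (hr : r ≠ 0) {L : PowerSeries K}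
    (hL : constantCoeff L = 0) :
    subst (X ^ r : PowerSeries K) (subst L (exp K)) =
      subst (subst (X ^ r : PowerSeries K) L) (exp K) :=
  subst_comp_subst_apply (HasSubst.of_constantCoeff_zero' hL) (HasSubst.X_pow hr) (exp K)

theorem map_exp_subst (φ : ℚ →+* K) {L : PowerSeries ℚ} (hL : constantCoeff L = 0) :
    map φ (subst L (exp ℚ)) = subst (map φ L) (exp K) := by
  have h := map_subst (HasSubst.of_constantCoeff_zero' hL) (h := φ) (exp ℚ)
  rw [map_exp] at h
  exact h

theorem constantCoeff_map_eq_zero (φ : ℚ →+* K) {L : PowerSeries ℚ} (hL : constantCoeff L = 0) :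
    constantCoeff (map φ L) = 0 := by
  rw [← coeff_zero_eq_constantCoeff_apply, coeff_map, coeff_zero_eq_constantCoeff_apply, hL,
    map_zero]

theorem ps_main (φ : ℚ →+* K) (L L' : PowerSeries ℚ) (hL : constantCoeff L = 0)
    (hL' : constantCoeff L' = 0) (r : ℕ) (hr : r ≠ 0) (ξ : K)
    (hlog : subst (X ^ r : PowerSeries K) (map φ L') =
      ∑ i ∈ Finset.range r, rescale (ξ ^ i) (map φ L)) :
    subst ((X : PowerSeries K) ^ r) (map φ (subst L' (exp ℚ))) =
      ∏ i ∈ Finset.range r, rescale (ξ ^ i) (map φ (subst L (exp ℚ))) := by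
  have hLc := constantCoeff_map_eq_zero φ hL
  have hLc' := constantCoeff_map_eq_zero φ hL'
  rw [map_exp_subst φ hL', map_exp_subst φ hL, subst_X_pow_exp_subst hr hLc', hlog,
    exp_subst_sum]
  · refine Finset.prod_congr rfl fun i _ => ?_
    rw [rescale_exp_subst _ hLc]
  · intro i
    rw [← coeff_zero_eq_constantCoeff_apply, coeff_rescale, coeff_zero_eq_constantCoeff_apply,
      hLc, mul_zero]

theorem root_sum {ξ : K} {r : ℕ} (hξ : IsPrimitiveRoot ξ r) (n : ℕ) :
    ∑ i ∈ Finset.range r, (ξ ^ i) ^ n = if r ∣ n then (r : K) else 0 := by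
  have h1 : ∀ i, (ξ ^ i) ^ n = (ξ ^ n) ^ i := fun i => by rw [← pow_mul, ← pow_mul, mul_comm]
  simp only [h1]
  split_ifs with h
  · have h2 : ξ ^ n = 1 := (hξ.pow_eq_one_iff_dvd n).mpr h
    rw [h2]
    simp
  · have hne : ξ ^ n ≠ 1 := fun h1 => h ((hξ.pow_eq_one_iff_dvd n).mp h1)
    have h2 : (ξ ^ n - 1) * ∑ i ∈ Finset.range r, (ξ ^ n) ^ i = 0 := by
      rw [mul_geom_sum, ← pow_mul, mul_comm, pow_mul, hξ.pow_eq_one, one_pow, sub_self]
    exact (mul_eq_zero.mp h2).resolve_left (sub_ne_zero.mpr hne)

theorem log_identity (φ : ℚ →+* K) (N N' : ℕ → ℕ) (r : ℕ) (hr : 0 < r)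
    (hN : ∀ m, 0 < m → N' m = N (r * m)) (ξ : K) (hξ : IsPrimitiveRoot ξ r) :
    subst (X ^ r : PowerSeries K) (map φ (PowerSeries.mk fun m => (N' m : ℚ) / m)) =
      ∑ i ∈ Finset.range r,
        rescale (ξ ^ i) (map φ (PowerSeries.mk fun m => (N m : ℚ) / m)) := by
  have hc : ∀ (M : ℕ → ℕ) (j : ℕ),
      coeff j (map φ (PowerSeries.mk fun m => (M m : ℚ) / m)) = (M j : K) / j := by
    intro M j
    rw [coeff_map, coeff_mk, map_div₀, map_natCast, map_natCast]
  ext n
  rw [coeff_subst_X_pow hr.ne', map_sum]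
  have hR : ∀ i ∈ Finset.range r,
      coeff n (rescale (ξ ^ i) (map φ (PowerSeries.mk fun m => (N m : ℚ) / m))) =
        (ξ ^ i) ^ n * ((N n : K) / n) := by
    intro i _
    rw [coeff_rescale, hc]
  rw [Finset.sum_congr rfl hR, ← Finset.sum_mul, root_sum hξ n]
  split_ifs with h
  · obtain ⟨j, rfl⟩ := h
    rw [Nat.mul_div_cancel_left j hr, hc, Algebra.algebraMap_self_apply]
    rcases Nat.eq_zero_or_pos j with rfl | hj
    · simp
    · rw [hN j hj]
      have hj0 : (j : K) ≠ 0 := Nat.cast_ne_zero.mpr hj.ne'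
      have hr0 : (r : K) ≠ 0 := Nat.cast_ne_zero.mpr hr.ne'
      push_cast
      field_simp
  · rw [zero_mul]

end PS

/-! ### points of the base change -/

section Pts

variable {k : Type u} [Field k] {X : Scheme.{u}} (f : X ⟶ Spec (CommRingCat.of k))
  (k' : Type u) [Field k'] [Algebra k k']

theorem pointCount_baseChange (k'' : Type u) [Field k''] [Algebra k' k''] [Algebra k k'']
    [IsScalarTower k k' k''] :
    SgaExt.pointCount (pullback.snd f sm[k, k']) k'' = SgaExt.pointCount f k'' := by
  have hcomp : sm[k', k''] ≫ sm[k, k'] = sm[k, k''] := by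
    rw [IsScalarTower.algebraMap_eq k k' k'', CommRingCat.ofHom_comp, Spec.map_comp]
  unfold SgaExt.pointCount
  refine Nat.card_congr ?_
  exact
  { toFun := fun g => ⟨g.1 ≫ pullback.fst f sm[k, k'], by
      rw [Category.assoc, pullback.condition, ← Category.assoc, g.2, hcomp]⟩
    invFun := fun h => ⟨pullback.lift h.1 sm[k', k''] (by rw [h.2, hcomp]),
      pullback.lift_snd _ _ _⟩
    left_inv := fun g => Subtype.ext (pullback.hom_ext (pullback.lift_fst _ _ _)
      ((pullback.lift_snd _ _ _).trans g.2.symm))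
    right_inv := fun h => Subtype.ext (pullback.lift_fst _ _ _) }

theorem nPts_baseChange [Finite k] [LocallyOfFiniteType f] [QuasiCompact f] [Finite k'] (m : ℕ)
    (hm : 0 < m) :
    Zeta.nPts (pullback.snd f sm[k, k']) m = Zeta.nPts f (Module.finrank k k' * m) := by
  obtain ⟨k'', hF, hA, hFin, hk''⟩ := Groth.Agent.Lib.ZetaAffLineH4.exists_ext k' m hm
  letI : Field k'' := hF
  letI : Algebra k' k'' := hA
  haveI : Finite k'' := hFin
  letI : Algebra k k'' := ((algebraMap k' k'').comp (algebraMap k k')).toAlgebra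
  haveI : IsScalarTower k k' k'' := IsScalarTower.of_algebraMap_eq fun x => rfl
  have h1 := Groth.Agent.Lib.PtCountEqH4.main13050 (pullback.snd f sm[k, k']) k''
  have h2 := Groth.Agent.Lib.PtCountEqH4.main13050 f k''
  rw [hk''] at h1
  rw [← Module.finrank_mul_finrank k k' k'', hk''] at h2
  rw [← h1, ← h2, pointCount_baseChange]

end Pts

theorem main13054 {k : Type u} [Field k] [Finite k]
    {X : Scheme.{u}} (f : X ⟶ Spec (CommRingCat.of k)) [LocallyOfFiniteType f] [QuasiCompact f]
    (k' : Type u) [Field k'] [Algebra k k'] [Finite k'] (ξ : ℂ)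
    (hξ : IsPrimitiveRoot ξ (Module.finrank k k')) :
    PowerSeries.subst ((PowerSeries.X : PowerSeries ℂ) ^ Module.finrank k k')
        (PowerSeries.map (algebraMap ℚ ℂ) (Zeta.zetaFun
          (pullback.snd f (Spec.map (CommRingCat.ofHom (algebraMap k k')))))) =
      ∏ i ∈ Finset.range (Module.finrank k k'),
        PowerSeries.rescale (ξ ^ i) (PowerSeries.map (algebraMap ℚ ℂ) (Zeta.zetaFun f)) := by
  have hr : 0 < Module.finrank k k' := Module.finrank_pos
  unfold Zeta.zetaFun
  refine ps_main (algebraMap ℚ ℂ) _ _ (Groth.Agent.Lib.ZetaFinH4.constantCoeff_logZeta f)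
    (Groth.Agent.Lib.ZetaFinH4.constantCoeff_logZeta _) _ hr.ne' ξ ?_
  exact log_identity (algebraMap ℚ ℂ) (Zeta.nPts f) (Zeta.nPts (pullback.snd f sm[k, k'])) _ hr
    (fun m hm => nPts_baseChange f k' m hm) ξ hξ

end Groth.Agent.Lib.ZetaBCH4
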