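import Mathlib
import Groth.Agent.Lib.CharpolyRevExp_helper1
import Groth.Agent.Lib.ZetaBC_helper4
import Groth.Agent.Lib.FrobLinAlg2_helper9

/-! Lefschetz fixed-point count for Frobenius (helper9), part 5: power series algebra:
the zeta function from the traces of the iterates. APPEND-ONLY once landed. -/

set_option linter.unusedSectionVars false
set_option linter.style.haveILetI false

universe u v

open PowerSeries

namespace Groth.Agent.LefFix9

section PS

variable {K : Type u} [Field K] [CharZero K]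

/-- `det (1 - t φ) = exp (- ∑ tr (φ ^ m) t ^ m / m)` for an endomorphism. -/
theorem charpoly_reverse_eq_exp {V : Type v} [AddCommGroup V] [Module K V] [Module.Finite K V]
    (φ : V →ₗ[K] V) :
    (((LinearMap.charpoly φ).reverse : Polynomial K) : PowerSeries K) =
      PowerSeries.subst (PowerSeries.mk fun m : ℕ => -(LinearMap.trace K V (φ ^ m)) / (m : K))
        (PowerSeries.exp K) := by
  classical
  let b := Module.finBasis K V
  have h1 : (LinearMap.toMatrix b b φ).charpoly = φ.charpoly := LinearMap.charpoly_toMatrix φ b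
  rw [← h1, Matrix.reverse_charpoly, Groth.Agent.Lib.CharpolyRevExp.main]
  congr 2
  funext m
  rw [LinearMap.trace_eq_matrix_trace K b, LinearMap.toMatrix_pow]

lemma constantCoeff_mk_div {R : Type*} [DivisionRing R] (a : ℕ → R) :
    constantCoeff (PowerSeries.mk fun m : ℕ => a m / (m : R)) = 0 := by
  rw [← coeff_zero_eq_constantCoeff_apply, coeff_mk, Nat.cast_zero, div_zero]

/-- The zeta function from the alternating sums of traces of iterates. -/
theorem zeta_mul_prod_eq (n : ℕ) (V : ℕ → Type v) [∀ j, AddCommGroup (V j)]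
    [∀ j, Module K (V j)] [∀ j, Module.Finite K (V j)] (φ : ∀ j, V j →ₗ[K] V j) (N : ℕ → ℕ)
    (hN : ∀ m, 0 < m → (N m : K) =
      ∑ j ∈ Finset.range (2 * n + 1), (-1 : K) ^ j * LinearMap.trace K (V j) (φ j ^ m)) :
    PowerSeries.map (algebraMap ℚ K)
        (PowerSeries.subst (PowerSeries.mk fun m : ℕ => (N m : ℚ) / (m : ℚ)) (PowerSeries.exp ℚ)) *
      (∏ i ∈ Finset.range (n + 1),
        (((LinearMap.charpoly (φ (2 * i))).reverse : Polynomial K) : PowerSeries K)) =
      ∏ i ∈ Finset.range n,
        (((LinearMap.charpoly (φ (2 * i + 1))).reverse : Polynomial K) : PowerSeries K) := by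
  set A : ℕ → PowerSeries K := fun j =>
    PowerSeries.mk fun m : ℕ => -(LinearMap.trace K (V j) (φ j ^ m)) / (m : K) with hA
  have hA0 : ∀ j, constantCoeff (A j) = 0 := fun j => constantCoeff_mk_div _
  have hL0 : constantCoeff (PowerSeries.mk fun m : ℕ => (N m : ℚ) / (m : ℚ)) = 0 :=
    constantCoeff_mk_div _
  have hrev : ∀ j, (((LinearMap.charpoly (φ j)).reverse : Polynomial K) : PowerSeries K) =
      PowerSeries.subst (A j) (PowerSeries.exp K) := fun j => charpoly_reverse_eq_exp (φ j)
  simp only [hrev]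
  rw [Groth.Agent.Lib.ZetaBCH4.map_exp_subst (algebraMap ℚ K) hL0,
    ← Groth.Agent.Lib.ZetaBCH4.exp_subst_sum _ (fun i => A (2 * i)) (fun i => hA0 _),
    ← Groth.Agent.Lib.ZetaBCH4.exp_subst_sum _ (fun i => A (2 * i + 1)) (fun i => hA0 _),
    ← Groth.Agent.Lib.ZetaBCH4.exp_subst_add
      (Groth.Agent.Lib.ZetaBCH4.constantCoeff_map_eq_zero (algebraMap ℚ K) hL0)
      (by rw [map_sum]; exact Finset.sum_eq_zero fun i _ => hA0 _)]
  congr 1
  ext m
  rw [map_add, map_sum, map_sum, coeff_map, coeff_mk]
  simp only [hA, coeff_mk]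
  rcases Nat.eq_zero_or_pos m with rfl | hm
  · simp
  · have hm' : (m : K) ≠ 0 := Nat.cast_ne_zero.mpr hm.ne'
    rw [map_div₀, map_natCast, map_natCast, hN m hm,
      Groth.Agent.FrobLA9.sum_range_even_odd]
    simp only [pow_mul, pow_succ, mul_neg, mul_one, neg_mul,
      Finset.sum_neg_distrib, neg_div]
    rw [← Finset.sum_div, ← Finset.sum_div]
    field_simp
    simp only [one_pow, one_mul]
    ring

end PS

end Groth.Agent.LefFix9
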