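import Mathlib
import Groth.Prelude.Def_WeilCoh
import Groth.Agent.Lib.LefFix4_helper9
import Groth.Agent.Lib.LefFix5_helper9
import Groth.Agent.S13058

/-! Lefschetz fixed-point count for Frobenius (helper9), part 6: the zeta function of a variety
over a finite field from a Weil cohomology theory (S15452, S15453).
APPEND-ONLY once landed. -/

set_option linter.unusedSectionVars false
set_option linter.style.haveILetI false

universe u v w

open CategoryTheory CategoryTheory.Limits AlgebraicGeometry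

namespace Groth.Agent.LefFix9

open WeilCoh Groth.Agent.WCF9

section Final

variable {k₀ : Type u} [Field k₀] [Finite k₀] {k : Type u} [Field k] [IsAlgClosed k]
  [Algebra k₀ k] {K : Type v} [Field K] [CharZero K]
  (T : WeilCoh.TheoryOn.{u, v, w} k (IsVar k) K)
  {X : Scheme.{u}} (f : X ⟶ Spec (CommRingCat.of k₀)) [LocallyOfFiniteType f] [QuasiCompact f]
  (FX : X ⟶ X) (hle : ∀ U : X.Opens, U ≤ FX ⁻¹ᵁ U)
  (hFapp : ∀ (U : X.Opens) (s : Γ(X, U)), (FX.appLE U U (hle U)).hom s = s ^ Nat.card k₀)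
  (Xb : WeilCoh.Var k) (π : Xb.obj.left ⟶ X)
  (hπ : IsPullback π Xb.obj.hom f (Spec.map (CommRingCat.ofHom (algebraMap k₀ k))))
  (F : Xb ⟶ Xb) (hF : WeilCoh.sm F ≫ π = π ≫ FX)
  (Pb : WeilCoh.Var k) (p q : Pb ⟶ Xb) (hP : WeilCoh.IsProd p q)

lemma pullDeg_iter (m : ℕ) (i : ℤ) : T.pullDeg (iter F m) i = (T.pullDeg F i) ^ m := by
  ext b
  exact pull_iter T F m i b

include hFapp hπ hF hP in
/-- The Lefschetz trace formula for the iterates of Frobenius. -/
theorem nPts_eq_alternating_trace (m : ℕ) (hm : 0 < m) :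
    (Zeta.nPts f m : K) =
      ∑ j ∈ Finset.range (2 * WeilCoh.dim Xb.obj.left + 1),
        (-1 : K) ^ j * LinearMap.trace K ↥(T.gr Xb (j : ℤ)) ((T.pullDeg F (j : ℤ)) ^ m) := by
  haveI : IrreducibleSpace ↥Xb.obj.left := Xb.property.2.2
  obtain ⟨d, hdp, hdq⟩ := exists_lift p q hP (𝟙 Xb) (𝟙 Xb)
  obtain ⟨j, hjp, hjq⟩ := exists_lift p q hP (𝟙 Xb) (iter F m)
  rw [← tr_graph_frobenius_eq_nPts T f FX hle hFapp Xb π hπ F hF Pb p q hP m hm j d hjp hjq
    hdp hdq, s15450 T (iter F m) p q hP j d hjp hjq hdp hdq]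
  refine Finset.sum_congr rfl fun i _ => ?_
  rw [pullDeg_iter]

include hFapp hπ hF hP in
theorem s15452 :
    PowerSeries.map (algebraMap ℚ K) (Zeta.zetaFun f) *
        (∏ i ∈ Finset.range (WeilCoh.dim Xb.obj.left + 1),
          ((LinearMap.charpoly (T.pullDeg F ((2 * i : ℕ) : ℤ))).reverse : PowerSeries K)) =
      ∏ i ∈ Finset.range (WeilCoh.dim Xb.obj.left),
        ((LinearMap.charpoly (T.pullDeg F ((2 * i + 1 : ℕ) : ℤ))).reverse : PowerSeries K) :=
  zeta_mul_prod_eq (WeilCoh.dim Xb.obj.left) (fun j : ℕ => ↥(T.gr Xb (j : ℤ)))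
    (fun j : ℕ => T.pullDeg F (j : ℤ)) (Zeta.nPts f)
    (nPts_eq_alternating_trace T f FX hle hFapp Xb π hπ F hF Pb p q hP)

include T hFapp hπ hF hP in
theorem s15453 :
    ∃ P Q : Polynomial ℚ, Q ≠ 0 ∧
      Zeta.zetaFun f * (Q : PowerSeries ℚ) = (P : PowerSeries ℚ) := by
  rw [← Groth.Agent.S13058.result (L := ℚ) (L' := K) (Zeta.zetaFun f)]
  refine ⟨∏ i ∈ Finset.range (WeilCoh.dim Xb.obj.left),
      (LinearMap.charpoly (T.pullDeg F ((2 * i + 1 : ℕ) : ℤ))).reverse,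
    ∏ i ∈ Finset.range (WeilCoh.dim Xb.obj.left + 1),
      (LinearMap.charpoly (T.pullDeg F ((2 * i : ℕ) : ℤ))).reverse, ?_, ?_⟩
  · rw [Finset.prod_ne_zero_iff]
    intro i _
    rw [Ne, Polynomial.reverse_eq_zero]
    exact (LinearMap.charpoly_monic _).ne_zero
  · have h := s15452 T f FX hle hFapp Xb π hπ F hF Pb p q hP
    rw [← Polynomial.coeToPowerSeries.ringHom_apply, ← Polynomial.coeToPowerSeries.ringHom_apply,
      map_prod, map_prod]
    exact h

end Final

end Groth.Agent.LefFix9
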