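import Mathlib
import Groth.Prelude.Def_CAlgX
import Groth.Agent.Lib.QuasiReg_helper5
import Groth.Agent.Lib.H1QReg_helper1

/-!
# Appending an `H_1`-regular sequence (mod `(f)`) to a quasi-regular sequence `f` (helper3)
-/

set_option autoImplicit false
universe u
open MvPolynomial Groth.Agent.QuasiReg Groth.Agent.Lib.H1QRegH1

namespace Groth.Agent.Lib.QRAppendH3

section Lift

variable {A' : Type u} {B' : Type u} [CommRing A'] [CommRing B'] {c : ℕ}

theorem lift_triv (ρ : A' →+* B') (hρ : Function.Surjective ρ) (F : Fin c → A')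
    (b : Fin c → A')
    (hb : (fun j => ρ (b j)) ∈ Submodule.span B' (trivSet (fun j => ρ (F j)))) :
    ∃ t ∈ Submodule.span A' (trivSet F), ∀ j, b j - t j ∈ RingHom.ker ρ := by
  classical
  letI : Algebra A' B' := ρ.toAlgebra
  let Φ : (Fin c → A') →ₗ[A'] (Fin c → B') := (Algebra.linearMap A' B').compLeft (Fin c)
  have hΦ : ∀ b m, Φ b m = ρ (b m) := fun b m => rfl
  have hsurj : Function.Surjective (algebraMap A' B') := hρ
  have hb' : Φ b ∈ Submodule.span B' (trivSet (fun j => ρ (F j))) := hb
  rw [← Submodule.restrictScalars_mem A', Submodule.restrictScalars_span A' B' hsurj] at hb'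
  have hS : trivSet (fun j => ρ (F j)) = Φ '' trivSet F := by
    have hcomp : ∀ i j : Fin c, Φ (Pi.single i (F j) - Pi.single j (F i))
        = Pi.single i (ρ (F j)) - Pi.single j (ρ (F i)) := by
      intro i j
      funext m
      rw [hΦ]
      simp only [Pi.sub_apply, Pi.single_apply, map_sub]
      split_ifs <;> simp
    ext v
    constructor
    · rintro ⟨i, j, rfl⟩
      exact ⟨_, ⟨i, j, rfl⟩, hcomp i j⟩
    · rintro ⟨_, ⟨i, j, rfl⟩, rfl⟩
      exact ⟨i, j, hcomp i j⟩
  rw [hS, ← Submodule.map_span] at hb'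
  obtain ⟨t, ht, hteq⟩ := hb'
  refine ⟨t, ht, fun j => ?_⟩
  rw [RingHom.mem_ker, map_sub, ← hΦ, ← hΦ, hteq, sub_self]

end Lift

section Main

variable {A : Type u} [CommRing A] {n m : ℕ} (f : Fin n → A) (g : Fin m → A)

/-- the pairing of a vector with `g`. -/
def dot (a : Fin m → A) : A := ∑ j, a j * g j

theorem dot_add (a b : Fin m → A) : dot g (a + b) = dot g a + dot g b := by
  simp only [dot, Pi.add_apply, add_mul, Finset.sum_add_distrib]

theorem dot_smul (r : A) (a : Fin m → A) : dot g (r • a) = r * dot g a := by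
  simp only [dot, Pi.smul_apply, smul_eq_mul, mul_assoc, Finset.mul_sum]

theorem dot_triv (t : Fin m → A) (ht : t ∈ Submodule.span A (trivSet g)) : dot g t = 0 := by
  classical
  induction ht using Submodule.span_induction with
  | mem t ht =>
    obtain ⟨i, j, rfl⟩ := ht
    simp only [dot, Pi.sub_apply, Pi.single_apply, sub_mul, ite_mul, zero_mul,
      Finset.sum_sub_distrib, Finset.sum_ite_eq', Finset.mem_univ, if_true]
    ring
  | zero => simp [dot]
  | add a b _ _ ha hb => rw [dot_add, ha, hb, add_zero]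
  | smul r a _ ha => rw [dot_smul, ha, mul_zero]

variable (hf : QR f)
  (hg : CAlgX.IsH1Regular (fun j => Ideal.Quotient.mk (Ideal.span (Set.range f)) (g j)))

include hg in
theorem h1_base (a : Fin m → A) (ha : dot g a ∈ Ideal.span (Set.range f)) :
    ∃ t ∈ Submodule.span A (trivSet g), ∀ j, a j - t j ∈ Ideal.span (Set.range f) := by
  set I := Ideal.span (Set.range f) with hI
  have h1 : ∑ j, (Ideal.Quotient.mk I (a j)) * (Ideal.Quotient.mk I (g j)) = 0 := by
    rw [← Ideal.Quotient.eq_zero_iff_mem.mpr ha, dot, map_sum]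
    simp only [map_mul]
  have h2 := hg _ h1
  obtain ⟨t, ht, htj⟩ := lift_triv (Ideal.Quotient.mk I) Ideal.Quotient.mk_surjective g a h2
  refine ⟨t, ht, fun j => ?_⟩
  have := htj j
  rwa [Ideal.mk_ker] at this

include hf hg in
theorem h1_pow : ∀ (d : ℕ) (a : Fin m → A), dot g a ∈ Ideal.span (Set.range f) ^ (d + 1) →
    ∃ t ∈ Submodule.span A (trivSet g), ∀ j, a j - t j ∈ Ideal.span (Set.range f) ^ (d + 1) := by
  classical
  set I := Ideal.span (Set.range f) with hI
  intro d
  induction d with
  | zero =>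
    intro a ha
    rw [zero_add, pow_one] at ha ⊢
    exact h1_base f g hg a ha
  | succ d ih =>
    intro a ha
    obtain ⟨t, ht, hu⟩ := ih a (Ideal.pow_le_pow_right (Nat.le_succ _) ha)
    set u : Fin m → A := fun j => a j - t j with hu_def
    have hdotu : dot g u ∈ I ^ (d + 1 + 1) := by
      have : dot g u = dot g a - dot g t := by
        simp only [dot, hu_def, sub_mul, Finset.sum_sub_distrib]
      rw [this, dot_triv g t ht, sub_zero]
      exact ha
    -- homogeneous representatives
    have hU : ∀ j, ∃ U : MvPolynomial (Fin n) A, U.IsHomogeneous (d + 1) ∧ eval f U = u j :=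
      fun j => (Ideal.mem_span_pow_iff_exists_isHomogeneous f (u j)).mp (hu j)
    choose U hUh hUe using hU
    let V : MvPolynomial (Fin n) A := ∑ j, C (g j) * U j
    have hVh : V.IsHomogeneous (d + 1) :=
      IsHomogeneous.sum _ _ _ fun j _ => (hUh j).C_mul _
    have hVe : eval f V ∈ I ^ (d + 1 + 1) := by
      have : eval f V = dot g u := by
        simp only [V, map_sum, map_mul, eval_C, hUe, dot, mul_comm]
      rw [this]
      exact hdotu
    have hVc : ∀ α, V.coeff α ∈ I := hf (d + 1) V hVh hVe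
    have hVc' : ∀ α, dot g (fun j => (U j).coeff α) ∈ I := by
      intro α
      have : dot g (fun j => (U j).coeff α) = V.coeff α := by
        simp only [V, dot, coeff_sum, coeff_C_mul]
        exact Finset.sum_congr rfl fun j _ => mul_comm _ _
      rw [this]
      exact hVc α
    have hbase : ∀ α, ∃ tα ∈ Submodule.span A (trivSet g),
        ∀ j, (U j).coeff α - tα j ∈ I := fun α => h1_base f g hg _ (hVc' α)
    choose T hT hTj using hbase
    let S : Finset (Fin n →₀ ℕ) := Finset.univ.biUnion fun j => (U j).support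
    have hSdeg : ∀ α ∈ S, α.degree = d + 1 := by
      intro α hα
      obtain ⟨j, -, hj⟩ := Finset.mem_biUnion.mp hα
      rw [Finsupp.degree_apply]
      exact ((hUh j).degree_eq_sum_deg_support hj).symm
    have hUsum : ∀ j, u j = ∑ α ∈ S, (U j).coeff α * α.prod fun i e => f i ^ e := by
      intro j
      rw [← hUe j]
      conv_lhs => rw [(U j).as_sum, map_sum]
      simp only [eval_monomial]
      apply Finset.sum_subset (Finset.subset_biUnion_of_mem (fun j => (U j).support) (Finset.mem_univ j))
      intro α _ hα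
      rw [notMem_support_iff.mp hα, zero_mul]
    let t' : Fin m → A := ∑ α ∈ S, (α.prod fun i e => f i ^ e) • T α
    have ht' : t' ∈ Submodule.span A (trivSet g) :=
      Submodule.sum_mem _ fun α _ => Submodule.smul_mem _ _ (hT α)
    refine ⟨t + t', Submodule.add_mem _ ht ht', fun j => ?_⟩
    have e1 : a j - (t + t') j = u j - t' j := by
      simp only [hu_def, Pi.add_apply]; ring
    have e2 : u j - t' j = ∑ α ∈ S, ((U j).coeff α - T α j) * α.prod fun i e => f i ^ e := by
      rw [hUsum j]
      simp only [t', Finset.sum_apply, Pi.smul_apply, smul_eq_mul, sub_mul,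
        Finset.sum_sub_distrib]
      congr 1
      exact Finset.sum_congr rfl fun α _ => mul_comm _ _
    rw [e1, e2]
    refine Ideal.sum_mem _ fun α hα => ?_
    rw [pow_succ']
    refine Ideal.mul_mem_mul (hTj α j) ?_
    rw [← hSdeg α hα]
    exact prod_pow_mem f α

include hf hg in
theorem inf_pow_le (k : ℕ) :
    Ideal.span (Set.range g) ⊓ Ideal.span (Set.range f) ^ (k + 1)
      ≤ Ideal.span (Set.range g) * Ideal.span (Set.range f) ^ (k + 1) := by
  rintro x ⟨hxG, hxI⟩
  obtain ⟨a, ha⟩ := Ideal.mem_span_range_iff_exists_fun.mp hxG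
  have hdot : dot g a = x := ha
  obtain ⟨t, ht, hu⟩ := h1_pow f g hf hg k a (by rw [hdot]; exact hxI)
  have : x = ∑ j, (a j - t j) * g j := by
    have h1 : dot g (fun j => a j - t j) = dot g a - dot g t := by
      simp only [dot, sub_mul, Finset.sum_sub_distrib]
    rw [← hdot, ← sub_zero (dot g a), ← dot_triv g t ht, ← h1]
    rfl
  rw [this]
  refine Ideal.sum_mem _ fun j _ => ?_
  rw [mul_comm (Ideal.span (Set.range g))]
  exact Ideal.mul_mem_mul (hu j) (Ideal.subset_span ⟨j, rfl⟩)

include hf hg in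
theorem h1_quot (k : ℕ) :
    CAlgX.IsH1Regular
      (fun j => Ideal.Quotient.mk (Ideal.span (Set.range f) ^ (k + 1)) (g j)) := by
  classical
  set I := Ideal.span (Set.range f) with hI
  intro abar habar
  choose a ha using fun j => Ideal.Quotient.mk_surjective (abar j)
  have hdot : dot g a ∈ I ^ (k + 1) := by
    rw [← Ideal.Quotient.eq_zero_iff_mem, dot, map_sum, ← habar]
    refine Finset.sum_congr rfl fun j _ => ?_
    rw [map_mul, ha]
  obtain ⟨t, ht, hu⟩ := h1_pow f g hf hg k a hdot
  have hab : abar = fun j => Ideal.Quotient.mk (I ^ (k + 1)) (t j) := by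
    funext j
    rw [← ha j]
    exact Ideal.Quotient.eq.mpr (hu j)
  rw [hab]
  -- push `t` forward
  clear hab hu hdot ha habar
  induction ht using Submodule.span_induction with
  | mem t ht =>
    obtain ⟨i, j, rfl⟩ := ht
    apply Submodule.subset_span
    refine ⟨i, j, ?_⟩
    funext l
    simp only [Pi.sub_apply, Pi.single_apply, map_sub]
    split_ifs <;> simp
  | zero =>
    have : (fun j => Ideal.Quotient.mk (I ^ (k + 1)) ((0 : Fin m → A) j)) = 0 := by
      funext j; simp
    rw [this]; exact Submodule.zero_mem _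
  | add a b _ _ ha hb =>
    have : (fun j => Ideal.Quotient.mk (I ^ (k + 1)) ((a + b) j))
        = (fun j => Ideal.Quotient.mk (I ^ (k + 1)) (a j))
          + (fun j => Ideal.Quotient.mk (I ^ (k + 1)) (b j)) := by
      funext j; simp
    rw [this]; exact Submodule.add_mem _ ha hb
  | smul r a _ ha =>
    have : (fun j => Ideal.Quotient.mk (I ^ (k + 1)) ((r • a) j))
        = (Ideal.Quotient.mk (I ^ (k + 1)) r) • (fun j => Ideal.Quotient.mk (I ^ (k + 1)) (a j)) := by
      funext j; simp
    rw [this]; exact Submodule.smul_mem _ _ ha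


/-- the sharp binomial bound -/
theorem sup_pow_le_sharp (I G : Ideal A) : ∀ (N n m : ℕ), n + m = N →
    (I ⊔ G) ^ (N + 1) ≤ I ^ (n + 1) ⊔ G ^ (m + 1) := by
  intro N
  induction N with
  | zero =>
    intro n m hnm
    obtain ⟨rfl, rfl⟩ : n = 0 ∧ m = 0 := by omega
    simp
  | succ N ih =>
    intro n m hnm
    rw [pow_succ' (I ⊔ G) (N + 1), Ideal.sup_mul]
    refine sup_le ?_ ?_
    · rcases n with _ | n'
      · refine le_trans Ideal.mul_le_left ?_
        rw [zero_add, pow_one]
        exact le_sup_left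
      · have h1 := ih n' m (by omega)
        refine le_trans (Ideal.mul_mono_right h1) ?_
        rw [Ideal.mul_sup]
        refine sup_le_sup ?_ Ideal.mul_le_right
        rw [← pow_succ']
    · rcases m with _ | m'
      · refine le_trans Ideal.mul_le_left ?_
        rw [zero_add, pow_one]
        exact le_sup_right
      · have h1 := ih n m' (by omega)
        refine le_trans (Ideal.mul_mono_right h1) ?_
        rw [Ideal.mul_sup]
        refine sup_le_sup Ideal.mul_le_right ?_
        rw [← pow_succ']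

theorem exists_hom_of_mem_mul_pow (J' : Ideal A) (k : ℕ) (y : A)
    (hy : y ∈ J' * Ideal.span (Set.range f) ^ k) :
    ∃ Q : MvPolynomial (Fin n) A, Q.IsHomogeneous k ∧ (∀ α, Q.coeff α ∈ J') ∧ eval f Q = y := by
  refine Submodule.mul_induction_on hy ?_ ?_
  · intro a ha b hb
    obtain ⟨B, hB, rfl⟩ := (Ideal.mem_span_pow_iff_exists_isHomogeneous f b).1 hb
    refine ⟨C a * B, hB.C_mul a, fun α => ?_, ?_⟩
    · rw [coeff_C_mul]; exact Ideal.mul_mem_right _ _ ha
    · rw [map_mul, eval_C]
  · rintro a b ⟨Q, hQ, hQc, rfl⟩ ⟨Q', hQ', hQc', rfl⟩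
    exact ⟨Q + Q', hQ.add hQ', fun α => by rw [coeff_add]; exact Ideal.add_mem _ (hQc α) (hQc' α),
      map_add _ _ _⟩

include hf hg in
theorem mem_J_mul_pow (k : ℕ) (c : A) (hc1 : c ∈ Ideal.span (Set.range f) ^ k)
    (hc2 : c ∈ Ideal.span (Set.range g) ⊔ Ideal.span (Set.range f) ^ (k + 1)) :
    c ∈ (Ideal.span (Set.range f) ⊔ Ideal.span (Set.range g)) * Ideal.span (Set.range f) ^ k := by
  set I := Ideal.span (Set.range f) with hI
  set G := Ideal.span (Set.range g) with hG
  obtain ⟨γ, hγ, ι, hι, rfl⟩ := Submodule.mem_sup.mp hc2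
  rcases k with _ | k'
  · rw [pow_zero, Ideal.one_eq_top, Ideal.mul_top]
    rw [zero_add, pow_one] at hι
    exact Ideal.add_mem _ (Ideal.mem_sup_right hγ) (Ideal.mem_sup_left hι)
  · have hι' : ι ∈ I ^ (k' + 1) := Ideal.pow_le_pow_right (Nat.le_succ _) hι
    have hγ' : γ ∈ I ^ (k' + 1) := by
      have := Ideal.sub_mem _ hc1 hι'
      rwa [add_sub_cancel_right] at this
    have h1 : γ ∈ G * I ^ (k' + 1) := inf_pow_le f g hf hg k' ⟨hγ, hγ'⟩
    refine Ideal.add_mem _ (Ideal.mul_mono_left le_sup_right h1) ?_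
    rw [pow_succ' I (k' + 1)] at hι
    exact Ideal.mul_mono_left le_sup_left hι

/-- monomial value -/
def mon {ι : Type*} (f : ι → A) (α : ι →₀ ℕ) : A := α.prod fun i e => f i ^ e

noncomputable abbrev E (n m : ℕ) : (Fin n ⊕ Fin m →₀ ℕ) ≃ (Fin n →₀ ℕ) × (Fin m →₀ ℕ) :=
  Finsupp.sumFinsuppEquivProdFinsupp

theorem mon_sum (δ : Fin n ⊕ Fin m →₀ ℕ) :
    mon (Sum.elim f g) δ = mon f (E n m δ).1 * mon g (E n m δ).2 := by
  simp only [mon]
  rw [Finsupp.prod_fintype _ _ (fun _ => pow_zero _),
    Finsupp.prod_fintype _ _ (fun _ => pow_zero _),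
    Finsupp.prod_fintype _ _ (fun _ => pow_zero _), Fintype.prod_sum_type]
  simp only [Sum.elim_inl, Sum.elim_inr, E, Finsupp.fst_sumFinsuppEquivProdFinsupp,
    Finsupp.snd_sumFinsuppEquivProdFinsupp]

theorem deg_sum (δ : Fin n ⊕ Fin m →₀ ℕ) :
    δ.degree = (E n m δ).1.degree + (E n m δ).2.degree := by
  simp only [Finsupp.degree_eq_sum, Fintype.sum_sum_type, E,
    Finsupp.fst_sumFinsuppEquivProdFinsupp, Finsupp.snd_sumFinsuppEquivProdFinsupp]

theorem mon_mem (f : Fin n → A) (α : Fin n →₀ ℕ) :
    mon f α ∈ Ideal.span (Set.range f) ^ α.degree := prod_pow_mem f α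

include hf hg in
theorem qr_sumElim : QR (Sum.elim f g) := by
  classical
  set I := Ideal.span (Set.range f) with hI
  set G := Ideal.span (Set.range g) with hG
  have hJ : Ideal.span (Set.range (Sum.elim f g)) = I ⊔ G := by
    rw [Set.Sum.elim_range, Ideal.span_union]
  intro d P hP hPe
  rw [hJ] at hPe ⊢
  set J := I ⊔ G with hJdef
  have hIJ : I ≤ J := le_sup_left
  have hGJ : G ≤ J := le_sup_right
  have hdegS : ∀ δ ∈ P.support, (E n m δ).1.degree + (E n m δ).2.degree = d := by
    intro δ hδ
    rw [← deg_sum, Finsupp.degree_apply]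
    exact (hP.degree_eq_sum_deg_support hδ).symm
  have hev : eval (Sum.elim f g) P = ∑ δ ∈ P.support, P.coeff δ * mon (Sum.elim f g) δ := by
    conv_lhs => rw [P.as_sum, map_sum]
    simp only [eval_monomial]
    rfl
  have claim : ∀ k, ∀ δ, (E n m δ).1.degree < k → P.coeff δ ∈ J := by
    intro k
    induction k with
    | zero => intro δ hδ; exact absurd hδ (Nat.not_lt_zero _)
    | succ k ih =>
      intro δ₀ hδ₀
      rcases Nat.lt_succ_iff_lt_or_eq.mp hδ₀ with hlt | heq
      · exact ih δ₀ hlt
      by_cases hδ₀S : δ₀ ∈ P.support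
      swap
      · rw [notMem_support_iff.mp hδ₀S]; exact Submodule.zero_mem _
      have hkd : k ≤ d := by
        have := hdegS δ₀ hδ₀S
        omega
      obtain ⟨e, rfl⟩ : ∃ e, d = k + e := ⟨d - k, by omega⟩
      -- the degree-k part
      set Sk := P.support.filter (fun δ => (E n m δ).1.degree = k) with hSk
      set y : A := ∑ δ ∈ Sk, P.coeff δ * mon (Sum.elim f g) δ with hy
      have hTle : J ^ (k + e + 1) ≤ I ^ (k + 1) ⊔ G ^ (e + 1) :=
        sup_pow_le_sharp I G (k + e) k e rfl
      have hyT : y ∈ I ^ (k + 1) ⊔ G ^ (e + 1) := by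
        have hsplit := Finset.sum_filter_add_sum_filter_not P.support
          (fun δ => (E n m δ).1.degree = k) (fun δ => P.coeff δ * mon (Sum.elim f g) δ)
        have hyeq : y = eval (Sum.elim f g) P
            - ∑ δ ∈ P.support.filter (fun δ => ¬ (E n m δ).1.degree = k),
                P.coeff δ * mon (Sum.elim f g) δ := by
          rw [hev, ← hsplit]; ring
        rw [hyeq]
        refine Ideal.sub_mem _ (hTle hPe) (Ideal.sum_mem _ fun δ hδ => ?_)
        obtain ⟨hδS, hδk⟩ := Finset.mem_filter.mp hδ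
        have hmf := mon_mem f (E n m δ).1
        have hmg := mon_mem g (E n m δ).2
        rw [mon_sum]
        rcases lt_or_gt_of_ne hδk with hlt | hgt
        · -- coefficient in J
          refine hTle ?_
          have h1 : mon f (E n m δ).1 * mon g (E n m δ).2 ∈ J ^ (k + e) := by
            rw [← hdegS δ hδS, pow_add]
            exact Ideal.mul_mem_mul (Ideal.pow_right_mono hIJ _ hmf)
              (Ideal.pow_right_mono hGJ _ hmg)
          rw [pow_succ' J (k + e)]
          exact Ideal.mul_mem_mul (ih δ hlt) h1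
        · refine Ideal.mem_sup_left ?_
          have h1 : mon f (E n m δ).1 ∈ I ^ (k + 1) := Ideal.pow_le_pow_right hgt hmf
          rw [← mul_assoc]
          exact Ideal.mul_mem_right _ _ (Ideal.mul_mem_left _ _ h1)
      -- pass to the quotient
      set π := Ideal.Quotient.mk (I ^ (k + 1)) with hπ
      set g₁ : Fin m → A ⧸ I ^ (k + 1) := fun j => π (g j) with hg₁
      have hqr : QR g₁ := main2103 g₁ (h1_quot f g hf hg k)
      have hmapG : Ideal.map π G = Ideal.span (Set.range g₁) := by
        rw [hG, Ideal.map_span, ← Set.range_comp]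
        rfl
      have hmon₁ : ∀ β : Fin m →₀ ℕ, mon g₁ β = π (mon g β) := by
        intro β
        simp only [mon, Finsupp.prod, map_prod, map_pow, hg₁]
      set R : MvPolynomial (Fin m) (A ⧸ I ^ (k + 1)) :=
        ∑ δ ∈ Sk, monomial (E n m δ).2 (π (P.coeff δ * mon f (E n m δ).1)) with hR
      have hRh : R.IsHomogeneous e := by
        refine IsHomogeneous.sum _ _ _ fun δ hδ => isHomogeneous_monomial _ ?_
        obtain ⟨hδS, hδk⟩ := Finset.mem_filter.mp hδ
        have := hdegS δ hδS
        omega
      have hRe : eval g₁ R = π y := by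
        rw [hR, map_sum, hy, map_sum]
        refine Finset.sum_congr rfl fun δ _ => ?_
        rw [eval_monomial]
        change _ * mon g₁ _ = _
        rw [hmon₁, ← map_mul, mon_sum, mul_assoc]
      have hRe' : eval g₁ R ∈ Ideal.span (Set.range g₁) ^ (e + 1) := by
        rw [hRe, ← hmapG, ← Ideal.map_pow]
        obtain ⟨ι, hι, γ, hγ, hιγ⟩ := Submodule.mem_sup.mp hyT
        have : π y = π γ := by
          rw [← hιγ, map_add, Ideal.Quotient.eq_zero_iff_mem.mpr hι, zero_add]
        rw [this]
        exact Ideal.mem_map_of_mem _ hγ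
      have hcoef := hqr e R hRh hRe'
      -- the coefficient at β₀
      set α₀ := (E n m δ₀).1 with hα₀
      set β₀ := (E n m δ₀).2 with hβ₀
      set T := Sk.filter (fun δ => (E n m δ).2 = β₀) with hT
      set c : A := ∑ δ ∈ T, P.coeff δ * mon f (E n m δ).1 with hc
      have hRc : R.coeff β₀ = π c := by
        have h1 : ∑ δ ∈ T, π (P.coeff δ * mon f (E n m δ).1)
            = ∑ δ ∈ Sk, if (E n m δ).2 = β₀ then π (P.coeff δ * mon f (E n m δ).1) else 0 :=
          Finset.sum_filter _ _
        rw [hR, coeff_sum, hc, map_sum, h1]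
        refine Finset.sum_congr rfl fun δ _ => ?_
        rw [coeff_monomial]
      have hc1 : c ∈ I ^ k := by
        refine Ideal.sum_mem _ fun δ hδ => Ideal.mul_mem_left _ _ ?_
        have hδk : (E n m δ).1.degree = k :=
          (Finset.mem_filter.mp (Finset.mem_filter.mp hδ).1).2
        rw [← hδk]
        exact mon_mem f _
      have hc2 : c ∈ G ⊔ I ^ (k + 1) := by
        have h1 := hcoef β₀
        rw [hRc, ← hmapG] at h1
        exact mem_sup_of_mk_mem_map _ _ _ h1
      have hcJ : c ∈ J * I ^ k := mem_J_mul_pow f g hf hg k c hc1 hc2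
      obtain ⟨Q', hQ'h, hQ'c, hQ'e⟩ := exists_hom_of_mem_mul_pow f J k c hcJ
      set Q : MvPolynomial (Fin n) A := ∑ δ ∈ T, monomial (E n m δ).1 (P.coeff δ) with hQ
      have hQh : Q.IsHomogeneous k := by
        refine IsHomogeneous.sum _ _ _ fun δ hδ => isHomogeneous_monomial _ ?_
        exact (Finset.mem_filter.mp (Finset.mem_filter.mp hδ).1).2
      have hQe : eval f Q = c := by
        rw [hQ, map_sum, hc]
        refine Finset.sum_congr rfl fun δ _ => ?_
        rw [eval_monomial]
        rfl
      have hz := hf.zForm k (Q - Q') (hQh.sub hQ'h)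
        (by rw [map_sub, hQe, hQ'e, sub_self]) α₀
      have hδ₀T : δ₀ ∈ T := by
        rw [hT, hSk]
        exact Finset.mem_filter.mpr ⟨Finset.mem_filter.mpr ⟨hδ₀S, heq⟩, rfl⟩
      have hQc : Q.coeff α₀ = P.coeff δ₀ := by
        rw [hQ, coeff_sum]
        rw [Finset.sum_eq_single δ₀]
        · rw [coeff_monomial, if_pos rfl]
        · intro δ hδ hne
          rw [coeff_monomial, if_neg]
          intro h1
          have h2 : (E n m δ).2 = β₀ := (Finset.mem_filter.mp hδ).2
          exact hne ((E n m).injective (Prod.ext h1 h2))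
        · intro h; exact absurd hδ₀T h
      have : P.coeff δ₀ = (Q - Q').coeff α₀ + Q'.coeff α₀ := by
        rw [coeff_sub, hQc]; ring
      rw [this]
      exact Ideal.add_mem _ (hIJ hz) (hQ'c α₀)
  intro δ
  exact claim _ δ (Nat.lt_succ_self _)

include hf hg in
theorem main : CAlgX.IsQuasiRegular (Fin.append f g) := by
  have h1 : QR (Sum.elim f g ∘ finSumFinEquiv.symm) :=
    qr_comp_equiv finSumFinEquiv.symm (Sum.elim f g) (qr_sumElim f g hf hg)
  have h2 : Sum.elim f g ∘ finSumFinEquiv.symm = Fin.append f g := by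
    funext i
    induction i using Fin.addCases with
    | left i => simp [Fin.append_left]
    | right i => simp [Fin.append_right]
  rw [h2] at h1
  exact h1

end Main

end Groth.Agent.Lib.QRAppendH3
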