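import Mathlib
import Groth.Prelude.Def_CAlgX
import Groth.Agent.Lib.QRAppend_helper3
import Groth.Agent.Lib.Flat23_helper8

/-!
# Base change of a quasi-regular sequence with flat quotient (helper3)
-/

set_option autoImplicit false
universe u
open MvPolynomial TensorProduct Groth.Agent.QuasiReg

namespace Groth.Agent.Lib.QRBaseChangeH3

open Groth.Agent.Lib.QRAppendH3 (mon mon_mem)

theorem flat_finsupp {A : Type*} [CommRing A] (ι : Type*) (M : Type*) [AddCommGroup M] [Module A M]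
    [Module.Flat A M] : Module.Flat A (ι →₀ M) := by
  classical exact Module.Flat.of_linearEquiv (finsuppLEquivDirectSum A M ι)

section

variable {A B : Type u} [CommRing A] [CommRing B] [Algebra A B] {r : ℕ} (f : Fin r → B)

/-- index type of monomials of degree `n` -/
abbrev Idx (r n : ℕ) := {α : Fin r →₀ ℕ // α.degree = n}

/-- multiplication by the monomial `f^γ` followed by reduction mod `J^(n+1)` -/
noncomputable def mulMon (n : ℕ) (γ : Fin r →₀ ℕ) :
    B →ₗ[B] B ⧸ (Ideal.span (Set.range f)) ^ (n + 1) :=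
  (Submodule.mkQ ((Ideal.span (Set.range f)) ^ (n + 1))) ∘ₗ (LinearMap.mulLeft B (mon f γ))

theorem mulMon_apply (n : ℕ) (γ : Fin r →₀ ℕ) (b : B) :
    mulMon f n γ b = Ideal.Quotient.mk ((Ideal.span (Set.range f)) ^ (n + 1)) (mon f γ * b) := rfl

/-- `ψ_α : B/J → B/J^(n+1)`, `[b] ↦ [f^α b]`, for `|α| = n`. -/
noncomputable def psi (n : ℕ) (α : Idx r n) :
    (B ⧸ Ideal.span (Set.range f)) →ₗ[B] B ⧸ (Ideal.span (Set.range f)) ^ (n + 1) :=
  Submodule.liftQ _ (mulMon f n α.1) (by
    intro j hj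
    rw [LinearMap.mem_ker, mulMon_apply, Ideal.Quotient.eq_zero_iff_mem, pow_succ]
    exact Ideal.mul_mem_mul (by
      have := mon_mem f α.1
      rwa [α.2] at this) hj)

theorem psi_mk (n : ℕ) (α : Idx r n) (b : B) :
    psi f n α (Ideal.Quotient.mk _ b)
      = Ideal.Quotient.mk ((Ideal.span (Set.range f)) ^ (n + 1)) (mon f α.1 * b) := rfl

/-- `Ψ_n : (B/J)^{(monomials of degree n)} → B/J^(n+1)`. -/
noncomputable def Psi (n : ℕ) :
    (Idx r n →₀ B ⧸ Ideal.span (Set.range f)) →ₗ[B] B ⧸ (Ideal.span (Set.range f)) ^ (n + 1) :=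
  Finsupp.lsum B (psi f n)

theorem Psi_single (n : ℕ) (α : Idx r n) (x : B ⧸ Ideal.span (Set.range f)) :
    Psi f n (Finsupp.single α x) = psi f n α x := Finsupp.lsum_single _ _ _ _

/-- the projection `B/J^(n+1) → B/J^n`. -/
noncomputable def pr (n : ℕ) :
    (B ⧸ (Ideal.span (Set.range f)) ^ (n + 1)) →ₗ[B] B ⧸ (Ideal.span (Set.range f)) ^ n :=
  Submodule.mapQ _ _ LinearMap.id (Ideal.pow_le_pow_right (Nat.le_succ n))

theorem pr_mk (n : ℕ) (b : B) :
    pr f n (Ideal.Quotient.mk _ b) = Ideal.Quotient.mk ((Ideal.span (Set.range f)) ^ n) b := rfl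

theorem pr_surjective (n : ℕ) : Function.Surjective (pr f n) := by
  intro y
  obtain ⟨b, rfl⟩ := Ideal.Quotient.mk_surjective y
  exact ⟨Ideal.Quotient.mk _ b, rfl⟩

theorem Psi_injective (hq : QR f) (n : ℕ) : Function.Injective (Psi f n) := by
  classical
  rw [injective_iff_map_eq_zero]
  intro v hv
  obtain ⟨w, rfl⟩ := Finsupp.mapRange_surjective
    (Ideal.Quotient.mk (Ideal.span (Set.range f))) (map_zero _)
    Ideal.Quotient.mk_surjective v
  set P : MvPolynomial (Fin r) B := ∑ α ∈ w.support, monomial α.1 (w α) with hP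
  have hPh : P.IsHomogeneous n :=
    IsHomogeneous.sum _ _ _ fun α _ => isHomogeneous_monomial _ α.2
  have hPe : eval f P = ∑ α ∈ w.support, mon f α.1 * w α := by
    rw [hP, map_sum]
    refine Finset.sum_congr rfl fun α _ => ?_
    rw [eval_monomial, mul_comm]
    rfl
  have hPsi : Psi f n (Finsupp.mapRange (Ideal.Quotient.mk (Ideal.span (Set.range f)))
      (map_zero _) w)
      = Ideal.Quotient.mk ((Ideal.span (Set.range f)) ^ (n + 1))
        (∑ α ∈ w.support, mon f α.1 * w α) := by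
    rw [Psi, Finsupp.lsum_apply, Finsupp.sum_mapRange_index (fun a => map_zero _), Finsupp.sum,
      map_sum]
    rfl
  rw [hPsi, Ideal.Quotient.eq_zero_iff_mem, ← hPe] at hv
  have hc := hq n P hPh hv
  ext α
  rw [Finsupp.mapRange_apply, Finsupp.zero_apply, Ideal.Quotient.eq_zero_iff_mem]
  by_cases hα : α ∈ w.support
  · have h1 : P.coeff α.1 = w α := by
      rw [hP, coeff_sum, Finset.sum_eq_single α]
      · rw [coeff_monomial, if_pos rfl]
      · intro α' _ hne
        rw [coeff_monomial, if_neg]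
        exact fun h => hne (Subtype.ext h)
      · intro h; exact absurd hα h
    rw [← h1]
    exact hc α.1
  · rw [Finsupp.notMem_support_iff.mp hα]
    exact Submodule.zero_mem _

theorem exact_Psi_pr (n : ℕ) : Function.Exact (Psi f n) (pr f n) := by
  classical
  intro y
  constructor
  · intro hy
    obtain ⟨b, rfl⟩ := Ideal.Quotient.mk_surjective y
    have hb : b ∈ (Ideal.span (Set.range f)) ^ n := by
      rwa [pr_mk, Ideal.Quotient.eq_zero_iff_mem] at hy
    obtain ⟨Q, hQ, rfl⟩ := (Ideal.mem_span_pow_iff_exists_isHomogeneous f b).mp hb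
    have hdeg : ∀ β ∈ Q.support, β.degree = n := by
      intro β hβ
      rw [Finsupp.degree_apply]
      exact (hQ.degree_eq_sum_deg_support hβ).symm
    let v : Idx r n →₀ B ⧸ Ideal.span (Set.range f) := ∑ β ∈ Q.support.attach,
      Finsupp.single ⟨β.1, hdeg β.1 β.2⟩
        (Ideal.Quotient.mk (Ideal.span (Set.range f)) (Q.coeff β.1))
    refine ⟨v, ?_⟩
    simp only [v, map_sum, Psi_single, psi_mk]
    rw [← map_sum (Ideal.Quotient.mk ((Ideal.span (Set.range f)) ^ (n + 1)))]
    congr 1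
    rw [Finset.sum_attach Q.support (fun β => mon f β * Q.coeff β)]
    conv_rhs => rw [Q.as_sum, map_sum]
    refine Finset.sum_congr rfl fun β _ => ?_
    rw [eval_monomial, mul_comm]
    rfl
  · rintro ⟨v, rfl⟩
    induction v using Finsupp.induction_linear with
    | zero => simp
    | add v₁ v₂ h₁ h₂ => rw [map_add, map_add, h₁, h₂, add_zero]
    | single α x =>
      obtain ⟨b, rfl⟩ := Ideal.Quotient.mk_surjective x
      rw [Psi_single, psi_mk, pr_mk, Ideal.Quotient.eq_zero_iff_mem]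
      refine Ideal.mul_mem_right _ _ ?_
      have := mon_mem f α.1
      rwa [α.2] at this

theorem flat_quot (hq : QR f) [Module.Flat A (B ⧸ Ideal.span (Set.range f))] :
    ∀ n : ℕ, Module.Flat A (B ⧸ (Ideal.span (Set.range f)) ^ n) := by
  intro n
  induction n with
  | zero =>
    haveI : Subsingleton (B ⧸ (Ideal.span (Set.range f)) ^ 0) := by
      rw [pow_zero, Ideal.one_eq_top]
      exact Ideal.Quotient.subsingleton_iff.mpr rfl
    infer_instance
  | succ n ih =>
    haveI := ih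
    haveI : Module.Flat A (Idx r n →₀ B ⧸ Ideal.span (Set.range f)) := flat_finsupp _ _
    exact (Flat23H8.flat_iff_of_exact_of_flat ((Psi f n).restrictScalars A)
      ((pr f n).restrictScalars A) (Psi_injective f hq n) (pr_surjective f n)
      (exact_Psi_pr f n)).mpr inferInstance

theorem mon_includeRight (A' : Type u) [CommRing A'] [Algebra A A'] (γ : Fin r →₀ ℕ) :
    mon (fun i => ((1 : A') ⊗ₜ[A] f i : A' ⊗[A] B)) γ = (1 : A') ⊗ₜ[A] mon f γ := by
  have h1 : ∀ b : B, ((1 : A') ⊗ₜ[A] b : A' ⊗[A] B)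
      = (Algebra.TensorProduct.includeRight : B →ₐ[A] A' ⊗[A] B) b := fun b => rfl
  simp only [mon, Finsupp.prod, h1, map_prod, map_pow]

theorem lTensor_mem_span (A' : Type u) [CommRing A'] [Algebra A A']
    (z : A' ⊗[A] (Ideal.span (Set.range f) : Ideal B)) :
    (((Submodule.subtype (Ideal.span (Set.range f))).restrictScalars A).lTensor A') z
      ∈ Ideal.span (Set.range fun i => ((1 : A') ⊗ₜ[A] f i : A' ⊗[A] B)) := by
  induction z using TensorProduct.induction_on with
  | zero => rw [map_zero]; exact Submodule.zero_mem _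
  | add x y hx hy => rw [map_add]; exact Submodule.add_mem _ hx hy
  | tmul a j =>
    rw [LinearMap.lTensor_tmul]
    obtain ⟨j, hj⟩ := j
    obtain ⟨c, rfl⟩ := Ideal.mem_span_range_iff_exists_fun.mp hj
    change a ⊗ₜ[A] (∑ i, c i * f i) ∈ _
    rw [TensorProduct.tmul_sum]
    refine Ideal.sum_mem _ fun i _ => ?_
    have : a ⊗ₜ[A] (c i * f i) = (a ⊗ₜ[A] c i) * ((1 : A') ⊗ₜ[A] f i) := by
      rw [Algebra.TensorProduct.tmul_mul_tmul, mul_one]
    rw [this]
    exact Ideal.mul_mem_left _ _ (Ideal.subset_span ⟨i, rfl⟩)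

theorem main (A' : Type u) [CommRing A'] [Algebra A A'] (hq : QR f)
    [Module.Flat A (B ⧸ Ideal.span (Set.range f))] :
    QR (fun i => ((1 : A') ⊗ₜ[A] f i : A' ⊗[A] B)) := by
  classical
  apply ZForm.qr
  intro n P' hP' hev β
  set J := Ideal.span (Set.range f) with hJ
  by_cases hβ : β.degree = n
  swap
  · rw [hP'.coeff_eq_zero hβ]
    exact Submodule.zero_mem _
  by_cases hβs : β ∈ P'.support
  swap
  · rw [notMem_support_iff.mp hβs]
    exact Submodule.zero_mem _
  -- A-linear maps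
  let πJ : B →ₗ[A] B ⧸ J := (Submodule.mkQ J).restrictScalars A
  let iJ : J →ₗ[A] B := (Submodule.subtype J).restrictScalars A
  let πn : B →ₗ[A] B ⧸ J ^ (n + 1) := (Submodule.mkQ (J ^ (n + 1))).restrictScalars A
  let ΨA : (Idx r n →₀ B ⧸ J) →ₗ[A] B ⧸ J ^ (n + 1) := (Psi f n).restrictScalars A
  let pA : (B ⧸ J ^ (n + 1)) →ₗ[A] B ⧸ J ^ n := (pr f n).restrictScalars A
  haveI := flat_quot (A := A) f hq n
  have hΨinj : Function.Injective (ΨA.lTensor A') :=
    Flat23H8.lTensor_injective_of_flat_cokernel ΨA pA (Psi_injective f hq n)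
      (pr_surjective f n) (exact_Psi_pr f n) A'
  let s : (Fin r →₀ ℕ) → ((B ⧸ J) →ₗ[A] (Idx r n →₀ B ⧸ J)) := fun γ =>
    if h : γ.degree = n then Finsupp.lsingle ⟨γ, h⟩ else 0
  let mA : (Fin r →₀ ℕ) → (B →ₗ[A] B ⧸ J ^ (n + 1)) := fun γ =>
    (mulMon f n γ).restrictScalars A
  have hdeg : ∀ γ ∈ P'.support, γ.degree = n := by
    intro γ hγ
    rw [Finsupp.degree_apply]
    exact (hP'.degree_eq_sum_deg_support hγ).symm
  have hfac : ∀ γ ∈ P'.support, ΨA ∘ₗ s γ ∘ₗ πJ = mA γ := by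
    intro γ hγ
    ext b
    simp only [s, dif_pos (hdeg γ hγ), LinearMap.comp_apply]
    change Psi f n (Finsupp.single ⟨γ, hdeg γ hγ⟩ (Ideal.Quotient.mk J b)) = mulMon f n γ b
    rw [Psi_single, psi_mk, mulMon_apply]
  have hmul : ∀ (γ : Fin r →₀ ℕ) (c : A' ⊗[A] B),
      (mA γ).lTensor A' c = πn.lTensor A' (c * ((1 : A') ⊗ₜ[A] mon f γ)) := by
    intro γ c
    induction c using TensorProduct.induction_on with
    | zero => simp
    | add x y hx hy => rw [map_add, add_mul, map_add, hx, hy]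
    | tmul a b =>
      rw [Algebra.TensorProduct.tmul_mul_tmul, mul_one, LinearMap.lTensor_tmul,
        LinearMap.lTensor_tmul]
      congr 1
      change mulMon f n γ b = Ideal.Quotient.mk _ (b * mon f γ)
      rw [mulMon_apply, mul_comm]
  let w : A' ⊗[A] (Idx r n →₀ B ⧸ J) :=
    ∑ γ ∈ P'.support, ((s γ ∘ₗ πJ).lTensor A') (P'.coeff γ)
  have hevsum : eval (fun i => ((1 : A') ⊗ₜ[A] f i : A' ⊗[A] B)) P'
      = ∑ γ ∈ P'.support, P'.coeff γ * ((1 : A') ⊗ₜ[A] mon f γ) := by
    conv_lhs => rw [P'.as_sum, map_sum]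
    refine Finset.sum_congr rfl fun γ _ => ?_
    rw [eval_monomial, ← mon_includeRight f A' γ]
    rfl
  have hw : ΨA.lTensor A' w = 0 := by
    simp only [w, map_sum]
    have h1 : ∀ γ ∈ P'.support, (ΨA.lTensor A') (((s γ ∘ₗ πJ).lTensor A') (P'.coeff γ))
        = πn.lTensor A' (P'.coeff γ * ((1 : A') ⊗ₜ[A] mon f γ)) := by
      intro γ hγ
      rw [← LinearMap.lTensor_comp_apply, hfac γ hγ, hmul]
    rw [Finset.sum_congr rfl h1, ← map_sum, ← hevsum, hev, map_zero]
  have hw0 : w = 0 := hΨinj (by rw [hw, map_zero])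
  have hβ0 : (πJ.lTensor A') (P'.coeff β) = 0 := by
    have h1 := congrArg ((Finsupp.lapply (⟨β, hβ⟩ : Idx r n) :
      (Idx r n →₀ B ⧸ J) →ₗ[A] B ⧸ J).lTensor A') hw0
    simp only [w] at h1
    rw [map_zero, map_sum, Finset.sum_eq_single β] at h1
    · rw [← LinearMap.lTensor_comp_apply] at h1
      have h2 : (Finsupp.lapply (⟨β, hβ⟩ : Idx r n) : (Idx r n →₀ B ⧸ J) →ₗ[A] B ⧸ J)
          ∘ₗ s β ∘ₗ πJ = πJ := by
        simp only [s, dif_pos hβ]
        rw [← LinearMap.comp_assoc, Finsupp.lapply_comp_lsingle_same, LinearMap.id_comp]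
      rwa [h2] at h1
    · intro γ hγ hne
      rw [← LinearMap.lTensor_comp_apply]
      have h2 : (Finsupp.lapply (⟨β, hβ⟩ : Idx r n) : (Idx r n →₀ B ⧸ J) →ₗ[A] B ⧸ J)
          ∘ₗ s γ ∘ₗ πJ = 0 := by
        simp only [s, dif_pos (hdeg γ hγ)]
        rw [← LinearMap.comp_assoc, Finsupp.lapply_comp_lsingle_of_ne, LinearMap.zero_comp]
        exact fun h => hne (congrArg Subtype.val h).symm
      rw [h2, LinearMap.lTensor_zero, LinearMap.zero_apply]
    · intro h; exact absurd hβs h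
  have hex : Function.Exact (iJ.lTensor A') (πJ.lTensor A') :=
    lTensor_exact A' (LinearMap.exact_subtype_mkQ J) (Submodule.mkQ_surjective J)
  obtain ⟨z, hz⟩ := (hex _).mp hβ0
  rw [← hz]
  exact lTensor_mem_span f A' z

end

end Groth.Agent.Lib.QRBaseChangeH3
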