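import Mathlib
import Groth.Prelude
import Groth.Agent.Lib.QRBaseChange_helper3
import Groth.Agent.Lib.QuasiReg_helper5
import Groth.Agent.Lib.Depth_helper5
import Groth.Agent.Lib.DepthHom_helper5
import Groth.Agent.Lib.DepthRingChange_helper5
import Groth.Agent.Lib.SerreNormal_helper5

/-!
# Depth of `R / J^n` for `J` generated by a quasi-regular sequence (helper6)
-/

set_option autoImplicit false
universe u

namespace Groth.Agent.Lib.LefQuot

open Groth.Agent.Lib.QRBaseChangeH3 Groth.Agent.DepthLib Groth.Agent.QuasiReg IsLocalRing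
open RingTheory.Sequence

section pow

variable {R : Type u} [CommRing R] [IsNoetherianRing R] (𝔞 : Ideal R) {r : ℕ} (f : Fin r → R)

instance finite_Idx (n : ℕ) : Finite (Idx r n) :=
  (Finsupp.finite_of_degree_eq (σ := Fin r) n).to_subtype

/-- depth of a finitely supported power -/
theorem le_idealDepth_finsupp (ι : Type) [Finite ι] (N : Type u) [AddCommGroup N] [Module R N]
    [Module.Finite R N] (k : ℕ) (hk : (k : ℕ∞) ≤ LocCoh.idealDepth 𝔞 N) :
    (k : ℕ∞) ≤ LocCoh.idealDepth 𝔞 (ι →₀ N) := by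
  classical
  haveI := Fintype.ofFinite ι
  let e1 : (ι →₀ N) ≃ₗ[R] (ι → N) := Finsupp.linearEquivFunOnFinite R N ι
  let e2 : (ι → N) ≃ₗ[R] (Fin (Fintype.card ι) → N) :=
    LinearEquiv.funCongrLeft R N (Fintype.equivFin ι).symm
  rw [idealDepth_congr 𝔞 _ (e1.trans e2)]
  exact le_idealDepth_pi 𝔞 N k hk _

/-- depth of `R/J^n` is at least `k` when the depth of `R/J` is, for `J` generated by a
quasi-regular sequence -/
theorem le_idealDepth_quot_pow (hq : QR f) (k : ℕ)
    (hk : (k : ℕ∞) ≤ LocCoh.idealDepth 𝔞 (R ⧸ Ideal.span (Set.range f))) (n : ℕ) :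
    (k : ℕ∞) ≤ LocCoh.idealDepth 𝔞 (R ⧸ (Ideal.span (Set.range f)) ^ n) := by
  induction n with
  | zero =>
    haveI : Subsingleton (R ⧸ (Ideal.span (Set.range f)) ^ 0) := by
      rw [pow_zero, Ideal.one_eq_top]
      exact Ideal.Quotient.subsingleton_iff.2 rfl
    rw [idealDepth_of_subsingleton]
    exact le_top
  | succ n ih =>
    have h1 := (depth_ses 𝔞 (Idx r n →₀ R ⧸ Ideal.span (Set.range f))
      (R ⧸ (Ideal.span (Set.range f)) ^ (n + 1)) (R ⧸ (Ideal.span (Set.range f)) ^ n)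
      (Psi f n) (pr f n) (Psi_injective f hq n) (pr_surjective f n) (exact_Psi_pr f n)).1
    refine le_trans (le_min ?_ ih) h1
    exact le_idealDepth_finsupp 𝔞 (Idx r n) (R ⧸ Ideal.span (Set.range f)) k hk

end pow


theorem wb_cancel (d : WithBot ℕ∞) (c : ℕ)
    (h : (2 : WithBot ℕ∞) + (c : WithBot ℕ∞) ≤ d + (c : WithBot ℕ∞)) : (2 : WithBot ℕ∞) ≤ d := by
  induction d using WithBot.recBotCoe with
  | bot =>
    rw [WithBot.bot_add] at h
    exact absurd h (by
      rw [le_bot_iff]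
      exact WithBot.coe_ne_bot (a := ((2 + c : ℕ) : ℕ∞)) |> fun h' => by
        intro h''
        apply h'
        rw [← h'']
        push_cast
        rfl)
  | coe e =>
    have h' : ((2 + c : ℕ∞) : WithBot ℕ∞) ≤ ((e + c : ℕ∞) : WithBot ℕ∞) := by
      push_cast
      exact h
    rw [WithBot.coe_le_coe] at h'
    have h'' : (2 : ℕ∞) ≤ e := (ENat.add_le_add_iff_right (ENat.coe_ne_top c)).1 h'
    have h3 : ((2 : ℕ∞) : WithBot ℕ∞) ≤ (e : WithBot ℕ∞) := WithBot.coe_le_coe.mpr h''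
    exact h3

section loc

variable (R : Type u) [CommRing R] [IsNoetherianRing R] [IsLocalRing R]

theorem isLocalRing_quot' (I : Ideal R) (hI : I ≠ ⊤) : IsLocalRing (R ⧸ I) := by
  haveI : Nontrivial (R ⧸ I) := Ideal.Quotient.nontrivial_iff.2 hI
  exact IsLocalRing.of_surjective' (Ideal.Quotient.mk I) Ideal.Quotient.mk_surjective

/-- depth of a quotient of a local ring over itself, computed over the ring -/
theorem depth_quot_self (I : Ideal R) [IsLocalRing (R ⧸ I)] :
    LocCoh.depth (R ⧸ I) (R ⧸ I) = LocCoh.depth R (R ⧸ I) := by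
  haveI : IsLocalHom (algebraMap R (R ⧸ I)) :=
    IsLocalHom.of_surjective _ Ideal.Quotient.mk_surjective
  exact (depth_eq_of_isLocalHom R (R ⧸ I) (R ⧸ I)).symm

theorem two_le_depth_quot_pow (rs : List R) (hrs : IsRegular R rs)
    [IsDomain (R ⧸ Ideal.ofList rs)] [IsIntegrallyClosed (R ⧸ Ideal.ofList rs)]
    (hdim : (2 : WithBot ℕ∞) + (rs.length : WithBot ℕ∞) ≤ ringKrullDim R) (n : ℕ)
    [IsLocalRing (R ⧸ (Ideal.ofList rs) ^ n)] :
    (2 : ℕ∞) ≤ LocCoh.depth (R ⧸ (Ideal.ofList rs) ^ n) (R ⧸ (Ideal.ofList rs) ^ n) := by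
  have hne : Ideal.ofList rs ≠ ⊤ := by
    intro h
    apply hrs.top_ne_smul
    rw [h]
    simp
  haveI := isLocalRing_quot' R _ hne
  have hd := ringKrullDim_add_length_eq_ringKrullDim_of_isRegular rs hrs
  have h2 : (2 : WithBot ℕ∞) ≤ ringKrullDim (R ⧸ Ideal.ofList rs) := by
    rw [← hd] at hdim
    exact wb_cancel _ _ hdim
  have h3 := Groth.Agent.SerreLib.min_two_dim_le_depth (R ⧸ Ideal.ofList rs)
  rw [min_eq_left h2] at h3
  have h4 : (2 : ℕ∞) ≤ LocCoh.depth (R ⧸ Ideal.ofList rs) (R ⧸ Ideal.ofList rs) := by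
    have h3' : ((2 : ℕ∞) : WithBot ℕ∞) ≤
        ((LocCoh.depth (R ⧸ Ideal.ofList rs) (R ⧸ Ideal.ofList rs) : ℕ∞) : WithBot ℕ∞) := h3
    exact WithBot.coe_le_coe.mp h3'
  rw [depth_quot_self] at h4
  set f : Fin rs.length → R := rs.get with hf
  have hof : List.ofFn f = rs := List.ofFn_get rs
  have hq : QR f := (isQuasiRegular_iff f).1
    (isQuasiRegular_of_isWeaklyRegular f (by rw [hof]; exact hrs.toIsWeaklyRegular))
  have hsp : Ideal.span (Set.range f) = Ideal.ofList rs := by rw [hf, Set.range_list_get]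
  rw [depth_quot_self]
  unfold LocCoh.depth at h4 ⊢
  rw [← hsp] at h4 ⊢
  exact le_idealDepth_quot_pow (maximalIdeal R) f hq 2 h4 n

end loc

end Groth.Agent.Lib.LefQuot
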