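import Mathlib
import Groth.Prelude
import Groth.Agent.Lib.LefQuot1_helper6
import Groth.Agent.Lib.HartogsRing_helper5

/-!
# Hartogs for `Spec (A / p^m)` where `p` is generated by a regular sequence with normal quotient
(helper6)
-/

set_option autoImplicit false
universe u

open CategoryTheory AlgebraicGeometry

namespace Groth.Agent.Lib.LefQuot

open Groth.Agent.DepthLib IsLocalRing RingTheory.Sequence

section glob

variable (A : Type u) [CommRing A] [IsDomain A] [IsIntegrallyClosed A] [IsNoetherianRing A]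

theorem two_le_height_of_not_regular (P : Ideal A) [P.IsPrime]
    (h : ¬ IsRegularLocalRing (Localization.AtPrime P)) : (2 : ℕ∞) ≤ P.height := by
  by_contra hlt
  rw [not_le] at hlt
  have hle : P.height ≤ 1 := by
    apply Order.le_of_lt_add_one
    rw [one_add_one_eq_two]
    exact hlt
  haveI : IsIntegrallyClosed (Localization.AtPrime P) :=
    isIntegrallyClosed_of_isLocalization _ P.primeCompl P.primeCompl_le_nonZeroDivisors
  apply h
  apply Groth.Agent.SerreLib.regular_of_normal_of_dim_le_one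
  rw [IsLocalization.AtPrime.ringKrullDim_eq_height P]
  have : ((P.height : ℕ∞) : WithBot ℕ∞) ≤ ((1 : ℕ∞) : WithBot ℕ∞) := WithBot.coe_le_coe.mpr hle
  exact this

theorem two_le_height_of_nonreg (J : Ideal A)
    (hJ : ∀ x : PrimeSpectrum A, J ≤ x.asIdeal → x ∉ EGA4.regLocus A) : (2 : ℕ∞) ≤ J.height := by
  rw [Ideal.height_eq_inf_minimalPrimes]
  refine le_iInf₂ fun P hP => ?_
  haveI := hP.1.1
  exact two_le_height_of_not_regular A P (hJ ⟨P, hP.1.1⟩ hP.1.2)

omit [IsDomain A] [IsIntegrallyClosed A] in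
theorem length_le_height (rs : List A) (hrs : IsRegular A rs) (p : Ideal A) [p.IsPrime]
    (hp : Ideal.ofList rs = p) : (rs.length : ℕ∞) ≤ p.height := by
  have hmem : ∀ r ∈ rs, r ∈ p := by
    intro r hr
    rw [← hp]
    exact Ideal.subset_span hr
  have hreg := hrs.toIsWeaklyRegular.isRegular_of_isLocalization_of_mem (Localization.AtPrime p) p hmem
  have hd := ringKrullDim_add_length_eq_ringKrullDim_of_isRegular _ hreg
  rw [IsLocalization.AtPrime.ringKrullDim_eq_height p (Localization.AtPrime p), List.length_map] at hd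
  have hne : Ideal.ofList (rs.map (algebraMap A (Localization.AtPrime p))) ≠ ⊤ := by
    intro h
    apply hreg.top_ne_smul
    rw [h]
    simp
  haveI : Nontrivial (Localization.AtPrime p ⧸
      Ideal.ofList (rs.map (algebraMap A (Localization.AtPrime p)))) :=
    Ideal.Quotient.nontrivial_iff.2 hne
  have h0 : (0 : WithBot ℕ∞) ≤ ringKrullDim (Localization.AtPrime p ⧸
      Ideal.ofList (rs.map (algebraMap A (Localization.AtPrime p)))) := ringKrullDim_nonneg_of_nontrivial
  have h1 : ((rs.length : ℕ∞) : WithBot ℕ∞) ≤ ((p.height : ℕ∞) : WithBot ℕ∞) := by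
    rw [← hd]
    calc ((rs.length : ℕ∞) : WithBot ℕ∞) = 0 + ((rs.length : ℕ) : WithBot ℕ∞) := by
          rw [zero_add]; rfl
      _ ≤ _ := add_le_add_left h0 _
  exact WithBot.coe_le_coe.mp h1

end glob

section glob2

variable (A : Type u) [CommRing A] [IsDomain A] [IsIntegrallyClosed A] [IsNoetherianRing A]
  (J : Ideal A) (hJ : ∀ x : PrimeSpectrum A, J ≤ x.asIdeal → x ∉ EGA4.regLocus A)
  (p : Ideal A) [p.IsPrime] (rs : List A) (hrs : IsRegular A rs) (hp : Ideal.ofList rs = p)
  [IsIntegrallyClosed (A ⧸ p)] (hht : p.height + J.height ≤ (p ⊔ J).height)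

include hJ hrs hp hht in
theorem dim_loc_ge (x : Ideal A) [x.IsPrime] (hpx : p ≤ x) (hJx : J ≤ x) :
    (2 : WithBot ℕ∞) + (rs.length : WithBot ℕ∞) ≤ ringKrullDim (Localization.AtPrime x) := by
  rw [IsLocalization.AtPrime.ringKrullDim_eq_height x (Localization.AtPrime x)]
  have h1 := length_le_height A rs hrs p hp
  have h2 := two_le_height_of_nonreg A J hJ
  have h3 : (p ⊔ J).height ≤ x.height := Ideal.height_mono (sup_le hpx hJx)
  have h4 : (2 : ℕ∞) + (rs.length : ℕ∞) ≤ x.height := by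
    calc (2 : ℕ∞) + (rs.length : ℕ∞) ≤ J.height + p.height := add_le_add h2 h1
      _ = p.height + J.height := add_comm _ _
      _ ≤ _ := hht.trans h3
  have h5 : (((2 : ℕ∞) + (rs.length : ℕ∞) : ℕ∞) : WithBot ℕ∞) ≤ ((x.height : ℕ∞) : WithBot ℕ∞) :=
    WithBot.coe_le_coe.mpr h4
  rw [WithBot.coe_add] at h5
  exact h5

omit [IsIntegrallyClosed A] [IsNoetherianRing A] in
theorem normal_quot (x : Ideal A) [x.IsPrime] (hpx : p ≤ x)
    (I : Ideal (Localization.AtPrime x))
    (hI : I = p.map (algebraMap A (Localization.AtPrime x))) :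
    IsDomain (Localization.AtPrime x ⧸ I) ∧ IsIntegrallyClosed (Localization.AtPrime x ⧸ I) := by
  subst hI
  have hM : Algebra.algebraMapSubmonoid (A ⧸ p) x.primeCompl ≤ nonZeroDivisors (A ⧸ p) := by
    rintro _ ⟨a, ha, rfl⟩
    apply mem_nonZeroDivisors_of_ne_zero
    intro h0
    apply ha
    apply hpx
    exact Ideal.Quotient.eq_zero_iff_mem.1 h0
  haveI hdom : IsDomain (Localization.AtPrime x ⧸ p.map (algebraMap A (Localization.AtPrime x))) :=
    IsLocalization.isDomain_of_le_nonZeroDivisors _ hM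
  exact ⟨hdom, isIntegrallyClosed_of_isLocalization _ _ hM⟩

theorem depth_quot_congr (R : Type u) [CommRing R] {I I' : Ideal R} (h : I = I')
    [IsLocalRing (R ⧸ I)] [IsLocalRing (R ⧸ I')] :
    LocCoh.depth (R ⧸ I) (R ⧸ I) = LocCoh.depth (R ⧸ I') (R ⧸ I') := by
  subst h
  rfl

include hJ hrs hp hht in
theorem two_le_depth_loc_quot_pow (x : Ideal A) [x.IsPrime] (hpx : p ≤ x) (hJx : J ≤ x) (m : ℕ)
    [IsLocalRing (Localization.AtPrime x ⧸ (p ^ m).map (algebraMap A (Localization.AtPrime x)))] :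
    (2 : ℕ∞) ≤ LocCoh.depth
      (Localization.AtPrime x ⧸ (p ^ m).map (algebraMap A (Localization.AtPrime x)))
      (Localization.AtPrime x ⧸ (p ^ m).map (algebraMap A (Localization.AtPrime x))) := by
  have hmem : ∀ r ∈ rs, r ∈ x := by
    intro r hr
    apply hpx
    rw [← hp]
    exact Ideal.subset_span hr
  have hreg := hrs.toIsWeaklyRegular.isRegular_of_isLocalization_of_mem (Localization.AtPrime x) x hmem
  have hI : Ideal.ofList (rs.map (algebraMap A (Localization.AtPrime x))) =
      p.map (algebraMap A (Localization.AtPrime x)) := by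
    rw [← Ideal.map_ofList, hp]
  obtain ⟨hdom, hic⟩ := normal_quot A p x hpx _ hI
  have hdim := dim_loc_ge A J hJ p rs hrs hp hht x hpx hJx
  have hpow : (Ideal.ofList (rs.map (algebraMap A (Localization.AtPrime x)))) ^ m =
      (p ^ m).map (algebraMap A (Localization.AtPrime x)) := by
    rw [hI, Ideal.map_pow]
  haveI : IsLocalRing (Localization.AtPrime x ⧸
      (Ideal.ofList (rs.map (algebraMap A (Localization.AtPrime x)))) ^ m) := by
    rw [hpow]
    infer_instance
  rw [← depth_quot_congr _ hpow]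
  refine two_le_depth_quot_pow (Localization.AtPrime x) _ hreg ?_ m
  rw [List.length_map]
  exact hdim

end glob2

section main

theorem main16668 (A : Type u) [CommRing A] [IsDomain A] [IsIntegrallyClosed A]
    [IsNoetherianRing A]
    (J : Ideal A) (hJ : ∀ x : PrimeSpectrum A, J ≤ x.asIdeal ↔ x ∉ EGA4.regLocus A)
    (p : Ideal A) [p.IsPrime] (rs : List A) (hrs : IsRegular A rs)
    (hp : Ideal.ofList rs = p) (hnorm : IsIntegrallyClosed (A ⧸ p))
    (hht : p.height + J.height ≤ (p ⊔ J).height)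
    (U : (Spec (CommRingCat.of A)).Opens)
    (hUreg : ∀ x : PrimeSpectrum A, p ≤ x.asIdeal → x ∈ EGA4.regLocus A → x ∈ U.1)
    (m : ℕ) (hm : 1 ≤ m) :
    Function.Bijective ((Spec (CommRingCat.of (A ⧸ p ^ m))).presheaf.map
      (homOfLE (le_top : Spec.map (CommRingCat.ofHom (Ideal.Quotient.mk (p ^ m))) ⁻¹ᵁ U ≤ ⊤)).op).hom := by
  refine Groth.Agent.HartogsRing.bijective_res (X := Spec (CommRingCat.of (A ⧸ p ^ m)))
    (Spec.map (CommRingCat.ofHom (Ideal.Quotient.mk (p ^ m))) ⁻¹ᵁ U) ?_ ⊤ le_top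
  intro y hy
  set q : Ideal (A ⧸ p ^ m) := (show PrimeSpectrum (A ⧸ p ^ m) from y).asIdeal with hq
  set x : Ideal A := q.comap (Ideal.Quotient.mk (p ^ m)) with hx
  haveI : x.IsPrime := Ideal.comap_isPrime _ _
  have hyU : (⟨x, inferInstance⟩ : PrimeSpectrum A) ∉ U.1 := by
    intro h
    apply hy
    exact h
  have hpx : p ≤ x := by
    intro a ha
    have h1 : a ^ m ∈ x := by
      show Ideal.Quotient.mk (p ^ m) (a ^ m) ∈ q
      rw [Ideal.Quotient.eq_zero_iff_mem.2 (Ideal.pow_mem_pow ha m)]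
      exact q.zero_mem
    exact Ideal.IsPrime.mem_of_pow_mem inferInstance m h1
  have hJx : J ≤ x := by
    rw [show x = (⟨x, inferInstance⟩ : PrimeSpectrum A).asIdeal from rfl, hJ]
    intro hreg
    exact hyU (hUreg _ hpx hreg)
  set R := Localization.AtPrime x with hR
  have hne : (p ^ m).map (algebraMap A R) ≠ ⊤ := by
    intro h
    have h1 : (p ^ m).map (algebraMap A R) ≤ maximalIdeal R := by
      rw [← Localization.AtPrime.map_eq_maximalIdeal]
      apply Ideal.map_mono
      intro a ha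
      exact hpx (Ideal.pow_le_self (by omega) ha)
    rw [h] at h1
    exact (IsLocalRing.maximalIdeal.isMaximal R).ne_top (top_le_iff.1 h1)
  haveI : IsLocalRing (R ⧸ (p ^ m).map (algebraMap A R)) := isLocalRing_quot' R _ hne
  have hdepth := two_le_depth_loc_quot_pow A J (fun z hz => (hJ z).1 hz) p rs hrs hp hht x hpx hJx m
  -- identify with the stalk
  have hM : Algebra.algebraMapSubmonoid (A ⧸ p ^ m) x.primeCompl = q.primeCompl := by
    ext b
    constructor
    · rintro ⟨a, ha, rfl⟩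
      exact ha
    · intro hb
      obtain ⟨a, rfl⟩ := Ideal.Quotient.mk_surjective b
      exact ⟨a, hb, rfl⟩
  haveI hloc : IsLocalization q.primeCompl (R ⧸ (p ^ m).map (algebraMap A R)) := by
    rw [← hM]
    infer_instance
  letI : Algebra (A ⧸ p ^ m) ↑((Spec (CommRingCat.of (A ⧸ p ^ m))).presheaf.stalk y) :=
    StructureSheaf.stalkAlgebra (A ⧸ p ^ m) y
  haveI : IsLocalization.AtPrime (↑((Spec (CommRingCat.of (A ⧸ p ^ m))).presheaf.stalk y)) q :=
    StructureSheaf.IsLocalization.to_stalk (A ⧸ p ^ m) y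
  let e : (R ⧸ (p ^ m).map (algebraMap A R)) ≃+*
      ↑((Spec (CommRingCat.of (A ⧸ p ^ m))).presheaf.stalk y) :=
    (IsLocalization.algEquiv q.primeCompl (R ⧸ (p ^ m).map (algebraMap A R))
      (↑((Spec (CommRingCat.of (A ⧸ p ^ m))).presheaf.stalk y))).toRingEquiv
  haveI : IsNoetherianRing ↑((Spec (CommRingCat.of (A ⧸ p ^ m))).presheaf.stalk y) :=
    isNoetherianRing_of_ringEquiv _ e
  rw [← Groth.Agent.SerreLib.depth_eq_of_ringEquiv _ _ e]
  exact hdepth

end main

end Groth.Agent.Lib.LefQuot
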