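import Mathlib

/-!
# Left invertibility of maps `u : M → N` with `N` projective (EGA 0_IV 19.1)
-/

namespace Groth.Agent.Lib.LeftInvH1

open TensorProduct

section basic

variable {A : Type*} [CommRing A] {M N : Type*} [AddCommGroup M] [Module A M]
  [AddCommGroup N] [Module A N]

/-- An endomorphism congruent to the identity modulo `J M` is bijective when `J` is nilpotent. -/
theorem bijective_of_nilpotent (J : Ideal A) (hJ : IsNilpotent J) (φ : M →ₗ[A] M)
    (hφ : ∀ x, φ x - x ∈ (J • ⊤ : Submodule A M)) : Function.Bijective φ := by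
  obtain ⟨n, hn⟩ := hJ
  set δ : Module.End A M := φ - LinearMap.id with hδ
  have hstep : ∀ k : ℕ, ∀ y ∈ (J ^ k • ⊤ : Submodule A M),
      δ y ∈ (J ^ (k + 1) • ⊤ : Submodule A M) := by
    intro k y hy
    refine Submodule.smul_induction_on hy ?_ ?_
    · intro a ha m _
      rw [map_smul]
      have hm : δ m ∈ (J • ⊤ : Submodule A M) := by
        simpa [hδ] using hφ m
      rw [pow_succ, Submodule.mul_smul]
      exact Submodule.smul_mem_smul ha hm
    · intro y z hy hz
      rw [map_add]
      exact add_mem hy hz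
  have h1 : ∀ k : ℕ, ∀ x, (δ ^ k) x ∈ (J ^ k • ⊤ : Submodule A M) := by
    intro k
    induction k with
    | zero => intro x; simp
    | succ k ih =>
      intro x
      have e : (δ ^ (k + 1)) x = δ ((δ ^ k) x) := by
        rw [pow_succ' δ k]; rfl
      rw [e]
      exact hstep k _ (ih x)
  have hnil : δ ^ n = 0 := by
    ext x
    have := h1 n x
    rw [hn] at this
    simpa using this
  have hu : IsUnit (δ + 1) := IsNilpotent.isUnit_add_one ⟨n, hnil⟩
  have hφ1 : δ + 1 = φ := by
    rw [hδ]; ext x; simp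
  rw [hφ1] at hu
  exact (Module.End.isUnit_iff _).mp hu

/-- An endomorphism of a finite module congruent to the identity modulo `J M` with `J` in the
Jacobson radical is bijective. -/
theorem bijective_of_le_jacobson [Module.Finite A M] (J : Ideal A)
    (hJ : J ≤ (⊥ : Ideal A).jacobson) (φ : M →ₗ[A] M)
    (hφ : ∀ x, φ x - x ∈ (J • ⊤ : Submodule A M)) : Function.Bijective φ := by
  have hsurj : Function.Surjective φ := by
    rw [← LinearMap.range_eq_top, ← top_le_iff]
    refine Submodule.le_of_le_smul_of_le_jacobson_bot Module.Finite.fg_top hJ ?_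
    intro x _
    have hx : x = φ x - (φ x - x) := by abel
    rw [hx]
    exact sub_mem (Submodule.mem_sup_left ⟨x, rfl⟩) (Submodule.mem_sup_right (hφ x))
  exact ⟨OrzechProperty.injective_of_surjective_endomorphism φ hsurj, hsurj⟩

/-- EGA 0_IV 19.1.?: lifting left invertibility from `M/JM`. -/
theorem exists_leftInverse_of_mod [Module.Projective A N] (u : M →ₗ[A] N) (J : Ideal A)
    (hJ : IsNilpotent J ∨ (J ≤ (⊥ : Ideal A).jacobson ∧ Module.Finite A M))
    (v : N →ₗ[A] M ⧸ (J • ⊤ : Submodule A M))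
    (hv : v ∘ₗ u = (J • ⊤ : Submodule A M).mkQ) :
    ∃ w : N →ₗ[A] M, w ∘ₗ u = LinearMap.id := by
  obtain ⟨w₀, hw₀⟩ := Module.projective_lifting_property (J • ⊤ : Submodule A M).mkQ v
    (Submodule.mkQ_surjective _)
  have hφ' : ∀ x, (w₀ ∘ₗ u) x - x ∈ (J • ⊤ : Submodule A M) := by
    intro x
    have h1 : (J • ⊤ : Submodule A M).mkQ (w₀ (u x)) = v (u x) := LinearMap.congr_fun hw₀ (u x)
    have h2 : v (u x) = (J • ⊤ : Submodule A M).mkQ x := LinearMap.congr_fun hv x
    have h3 : (J • ⊤ : Submodule A M).mkQ ((w₀ ∘ₗ u) x - x) = 0 := by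
      rw [map_sub, LinearMap.comp_apply, h1, h2, sub_self]
    exact (Submodule.Quotient.mk_eq_zero _).mp h3
  have hbij : Function.Bijective (w₀ ∘ₗ u) := by
    rcases hJ with hJ | ⟨hJ, hfin⟩
    · exact bijective_of_nilpotent J hJ _ hφ'
    · exact bijective_of_le_jacobson J hJ _ hφ'
  let e := LinearEquiv.ofBijective (w₀ ∘ₗ u) hbij
  refine ⟨e.symm.toLinearMap ∘ₗ w₀, ?_⟩
  ext x
  exact e.symm_apply_apply x

/-- A map from a finite module to a projective module factors through a finite free module. -/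
theorem exists_factor_finite_free [Module.Finite A M] [Module.Projective A N] (u : M →ₗ[A] N) :
    ∃ (n : ℕ) (π : N →ₗ[A] (Fin n → A)) (j : (Fin n → A) →ₗ[A] N), j ∘ₗ π ∘ₗ u = u := by
  classical
  obtain ⟨s, hs⟩ := (Module.projective_def' (R := A) (P := N)).mp inferInstance
  obtain ⟨m, x, hx⟩ := Module.Finite.exists_fin (R := A) (M := M)
  let F : Finset N := Finset.univ.biUnion fun i => (s (u (x i))).support
  let π₀ : N →ₗ[A] (F → A) := LinearMap.pi fun f => (Finsupp.lapply (f : N)) ∘ₗ s
  let j₀ : (F → A) →ₗ[A] N := Fintype.linearCombination A (fun f : F => (f : N))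
  have key : j₀ ∘ₗ π₀ ∘ₗ u = u := by
    apply LinearMap.ext_on_range hx
    intro i
    have hsub : (s (u (x i))).support ⊆ F :=
      Finset.subset_biUnion_of_mem (fun i => (s (u (x i))).support) (Finset.mem_univ i)
    have h1 : (j₀ ∘ₗ π₀ ∘ₗ u) (x i) = ∑ f : F, s (u (x i)) (f : N) • (f : N) := by
      simp [j₀, π₀, Fintype.linearCombination_apply]
    rw [h1, Finset.sum_coe_sort F (fun f => s (u (x i)) f • f)]
    have h2 : ∑ f ∈ F, s (u (x i)) f • f = ∑ f ∈ (s (u (x i))).support, s (u (x i)) f • f :=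
      (Finset.sum_subset hsub (by
        intro f _ hf
        rw [Finsupp.notMem_support_iff.mp hf, zero_smul])).symm
    rw [h2]
    have := LinearMap.congr_fun hs (u (x i))
    simpa [Finsupp.linearCombination_apply, Finsupp.sum] using this
  obtain ⟨E⟩ : Nonempty ((Fin F.card → A) ≃ₗ[A] (F → A)) :=
    ⟨LinearEquiv.funCongrLeft A A F.equivFin⟩
  refine ⟨F.card, E.symm.toLinearMap ∘ₗ π₀, j₀ ∘ₗ E.toLinearMap, ?_⟩
  have : (j₀ ∘ₗ E.toLinearMap) ∘ₗ (E.symm.toLinearMap ∘ₗ π₀) ∘ₗ u = j₀ ∘ₗ π₀ ∘ₗ u := by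
    ext y
    simp
  rw [this, key]

/-- Left invertibility can be tested after the finite free factorisation. -/
theorem leftInverse_iff_of_factor {L : Type*} [AddCommGroup L] [Module A L] (u : M →ₗ[A] N)
    (π : N →ₗ[A] L) (j : L →ₗ[A] N) (hj : j ∘ₗ π ∘ₗ u = u) :
    (∃ w : N →ₗ[A] M, w ∘ₗ u = LinearMap.id) ↔
      ∃ w' : L →ₗ[A] M, w' ∘ₗ (π ∘ₗ u) = LinearMap.id := by
  constructor
  · rintro ⟨w, hw⟩
    refine ⟨w ∘ₗ j, ?_⟩
    rw [LinearMap.comp_assoc, hj, hw]
  · rintro ⟨w', hw'⟩
    exact ⟨w' ∘ₗ π, by rw [LinearMap.comp_assoc]; exact hw'⟩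

theorem lTensor_injective_iff_of_factor {L : Type*} [AddCommGroup L] [Module A L]
    (K : Type*) [AddCommGroup K] [Module A K] (u : M →ₗ[A] N)
    (π : N →ₗ[A] L) (j : L →ₗ[A] N) (hj : j ∘ₗ π ∘ₗ u = u) :
    Function.Injective (u.lTensor K) ↔ Function.Injective ((π ∘ₗ u).lTensor K) := by
  constructor
  · intro h
    have h1 : (j.lTensor K) ∘ₗ ((π ∘ₗ u).lTensor K) = u.lTensor K := by
      rw [← LinearMap.lTensor_comp, hj]
    apply Function.Injective.of_comp (f := j.lTensor K)
    rw [← LinearMap.coe_comp, h1]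
    exact h
  · intro h
    rw [LinearMap.lTensor_comp, LinearMap.coe_comp] at h
    exact Function.Injective.of_comp h

/-- Over a local ring: `u : M → N` (`M` finite, `N` projective) is left invertible iff
`k ⊗ u` is injective. -/
theorem exists_leftInverse_iff_lTensor_injective [IsLocalRing A] [Module.Finite A M]
    [Module.Projective A N] (u : M →ₗ[A] N) :
    (∃ w : N →ₗ[A] M, w ∘ₗ u = LinearMap.id) ↔
      Function.Injective (u.lTensor (IsLocalRing.ResidueField A)) := by
  obtain ⟨n, π, j, hj⟩ := exists_factor_finite_free u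
  rw [leftInverse_iff_of_factor u π j hj,
    lTensor_injective_iff_of_factor (IsLocalRing.ResidueField A) u π j hj]
  exact IsLocalRing.split_injective_iff_lTensor_residueField_injective (π ∘ₗ u)

/-- Key lemma: a left inverse "after localization" gives a left inverse up to an element of `S`. -/
theorem exists_smul_of_isLocalizedModule [Module.Finite A M] [Module.Projective A N]
    (S : Submonoid A) {M' : Type*} [AddCommGroup M'] [Module A M'] (f : M →ₗ[A] M')
    [IsLocalizedModule S f] (u : M →ₗ[A] N) (g : N →ₗ[A] M') (hg : g ∘ₗ u = f) :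
    ∃ a ∈ S, ∃ w : N →ₗ[A] M, w ∘ₗ u = a • LinearMap.id := by
  obtain ⟨n, π, j, hj⟩ := exists_factor_finite_free u
  obtain ⟨w₀, s, hw₀⟩ :=
    Module.FinitePresentation.exists_lift_of_isLocalizedModule S f (g ∘ₗ j)
  have h1 : f ∘ₗ (w₀ ∘ₗ π ∘ₗ u) = f ∘ₗ ((s : A) • LinearMap.id) := by
    ext y
    have e1 : f (w₀ (π (u y))) = s • g (j (π (u y))) := by
      have := LinearMap.congr_fun hw₀ (π (u y))
      simpa using this
    have e2 : j (π (u y)) = u y := LinearMap.congr_fun hj y
    have e3 : g (u y) = f y := LinearMap.congr_fun hg y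
    simp only [LinearMap.comp_apply, LinearMap.smul_apply, LinearMap.id_apply, map_smul]
    rw [e1, e2, e3, Submonoid.smul_def]
  obtain ⟨t, ht⟩ := Module.Finite.exists_smul_of_comp_eq_of_isLocalizedModule S f _ _ h1
  refine ⟨(t : A) * (s : A), S.mul_mem t.2 s.2, (t : A) • (w₀ ∘ₗ π), ?_⟩
  ext y
  have := LinearMap.congr_fun ht y
  simp only [LinearMap.smul_apply, LinearMap.comp_apply, LinearMap.id_apply,
    Submonoid.smul_def] at this
  simp only [LinearMap.smul_apply, LinearMap.comp_apply, LinearMap.id_apply, mul_smul]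
  exact this

/-- From a left inverse up to `a ∈ S` to a left inverse of the localized map. -/
theorem exists_leftInverse_localizedModule (S : Submonoid A) (u : M →ₗ[A] N) (a : A)
    (ha : a ∈ S) (w : N →ₗ[A] M) (hw : w ∘ₗ u = a • LinearMap.id) :
    ∃ w' : LocalizedModule S N →ₗ[A] LocalizedModule S M,
      w' ∘ₗ (LocalizedModule.map S u).restrictScalars A = LinearMap.id := by
  refine ⟨LocalizedModule.divBy (⟨a, ha⟩ : S) ∘ₗ (LocalizedModule.map S w).restrictScalars A, ?_⟩
  refine LinearMap.ext fun z => ?_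
  induction z using LocalizedModule.induction_on with
  | h x t =>
    have h1 : w (u x) = a • x := by simpa using LinearMap.congr_fun hw x
    simp only [LinearMap.comp_apply, LinearMap.id_apply, LinearMap.restrictScalars_apply,
      LocalizedModule.map_mk, h1]
    have h2 : LocalizedModule.mk (a • x) t =
        algebraMap A (Module.End A (LocalizedModule S M)) ((⟨a, ha⟩ : S) : A)
          (LocalizedModule.mk x t) := by
      rw [Module.algebraMap_end_apply, LocalizedModule.smul'_mk]
    rw [h2]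
    exact LocalizedModule.divBy_mul_by ⟨a, ha⟩ _

/-- From a left inverse of the localized map to a left inverse up to an element of `S`. -/
theorem exists_smul_of_leftInverse_localizedModule [Module.Finite A M] [Module.Projective A N]
    (S : Submonoid A) (u : M →ₗ[A] N)
    (w' : LocalizedModule S N →ₗ[A] LocalizedModule S M)
    (hw' : w' ∘ₗ (LocalizedModule.map S u).restrictScalars A = LinearMap.id) :
    ∃ a ∈ S, ∃ w : N →ₗ[A] M, w ∘ₗ u = a • LinearMap.id := by
  refine exists_smul_of_isLocalizedModule S (LocalizedModule.mkLinearMap S M) u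
    (w' ∘ₗ LocalizedModule.mkLinearMap S N) ?_
  ext x
  have := LinearMap.congr_fun hw' (LocalizedModule.mkLinearMap S M x)
  simp only [LinearMap.comp_apply, LinearMap.restrictScalars_apply,
    LocalizedModule.mkLinearMap_apply, LocalizedModule.map_mk, LinearMap.id_apply] at this
  simpa [LocalizedModule.mkLinearMap_apply] using this

/-- Local-global principle for left invertibility. -/
theorem exists_leftInverse_of_forall_maximal (u : M →ₗ[A] N)
    (h : ∀ (m : Ideal A) [m.IsMaximal], ∃ a ∉ m, ∃ w : N →ₗ[A] M, w ∘ₗ u = a • LinearMap.id) :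
    ∃ w : N →ₗ[A] M, w ∘ₗ u = LinearMap.id := by
  let I : Ideal A :=
    { carrier := {a | ∃ w : N →ₗ[A] M, w ∘ₗ u = a • LinearMap.id}
      add_mem' := by
        rintro a b ⟨w₁, h₁⟩ ⟨w₂, h₂⟩
        exact ⟨w₁ + w₂, by rw [LinearMap.add_comp, h₁, h₂, add_smul]⟩
      zero_mem' := ⟨0, by rw [LinearMap.zero_comp, zero_smul]⟩
      smul_mem' := by
        rintro c a ⟨w, hw⟩
        exact ⟨c • w, by rw [LinearMap.smul_comp, hw, smul_eq_mul, mul_smul]⟩ }
  by_contra hcon
  have hI : I ≠ ⊤ := by
    intro hI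
    have h1 : (1 : A) ∈ I := by rw [hI]; trivial
    obtain ⟨w, hw⟩ := h1
    exact hcon ⟨w, by rw [hw, one_smul]⟩
  obtain ⟨m, hm, hIm⟩ := Ideal.exists_le_maximal I hI
  obtain ⟨a, ha, w, hw⟩ := h m
  exact ha (hIm ⟨w, hw⟩)

/-- `(e) ⟹ (b)`. -/
theorem lTensor_residueField_injective_of_smul (p : Ideal A) [p.IsPrime] (u : M →ₗ[A] N) (a : A)
    (ha : a ∉ p) (w : N →ₗ[A] M) (hw : w ∘ₗ u = a • LinearMap.id) :
    Function.Injective (u.lTensor p.ResidueField) := by
  have h1 : w.lTensor p.ResidueField ∘ₗ u.lTensor p.ResidueField = a • LinearMap.id := by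
    rw [← LinearMap.lTensor_comp, hw, LinearMap.lTensor_smul, LinearMap.lTensor_id]
  have ha' : algebraMap A p.ResidueField a ≠ 0 := by
    rwa [Ne, Ideal.algebraMap_residueField_eq_zero]
  intro z₁ z₂ h
  have h2 : a • z₁ = a • z₂ := by
    have e1 := LinearMap.congr_fun h1 z₁
    have e2 := LinearMap.congr_fun h1 z₂
    simp only [LinearMap.comp_apply, LinearMap.smul_apply, LinearMap.id_apply] at e1 e2
    rw [← e1, ← e2, h]
  rw [← algebraMap_smul p.ResidueField a z₁, ← algebraMap_smul p.ResidueField a z₂] at h2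
  exact smul_right_injective _ ha' h2

/-- `(b) ⟹ (e)`. -/
theorem exists_smul_of_lTensor_residueField_injective [Module.Finite A M] [Module.Projective A N]
    (p : Ideal A) [p.IsPrime] (u : M →ₗ[A] N)
    (h : Function.Injective (u.lTensor p.ResidueField)) :
    ∃ a ∉ p, ∃ w : N →ₗ[A] M, w ∘ₗ u = a • LinearMap.id := by
  obtain ⟨n, π, j, hj⟩ := exists_factor_finite_free u
  have h' : Function.Injective ((π ∘ₗ u).lTensor p.ResidueField) :=
    (lTensor_injective_iff_of_factor p.ResidueField u π j hj).mp h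
  let R := Localization.AtPrime p
  let l : R ⊗[A] M →ₗ[R] R ⊗[A] (Fin n → A) := (π ∘ₗ u).baseChange R
  let eM := TensorProduct.AlgebraTensorModule.cancelBaseChange A R p.ResidueField p.ResidueField M
  let eL := TensorProduct.AlgebraTensorModule.cancelBaseChange A R p.ResidueField p.ResidueField
    (Fin n → A)
  have hnat : ∀ z, eL (l.lTensor p.ResidueField z) = (π ∘ₗ u).lTensor p.ResidueField (eM z) := by
    intro z
    induction z using TensorProduct.induction_on with
    | zero => simp
    | tmul c y =>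
      induction y using TensorProduct.induction_on with
      | zero => simp
      | tmul r m => simp [l, eL, eM]
      | add y₁ y₂ h₁ h₂ => simp only [TensorProduct.tmul_add, map_add, h₁, h₂]
    | add z₁ z₂ h₁ h₂ => simp only [map_add, h₁, h₂]
  have hl : Function.Injective (l.lTensor (IsLocalRing.ResidueField R)) := by
    intro z₁ z₂ hz
    have := congrArg eL hz
    rw [hnat, hnat] at this
    exact eM.injective (h' this)
  obtain ⟨l', hl'⟩ := (IsLocalRing.split_injective_iff_lTensor_residueField_injective l).mpr hl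
  have : IsLocalizedModule p.primeCompl (TensorProduct.mk A R M 1) :=
    (isLocalizedModule_iff_isBaseChange p.primeCompl R _).mpr (TensorProduct.isBaseChange A M R)
  obtain ⟨a, ha, w, hw⟩ := exists_smul_of_isLocalizedModule p.primeCompl
    (TensorProduct.mk A R M 1) u
    ((l'.restrictScalars A) ∘ₗ (TensorProduct.mk A R (Fin n → A) 1) ∘ₗ π) (by
      ext x
      have := LinearMap.congr_fun hl' (1 ⊗ₜ x)
      simpa [l] using this)
  exact ⟨a, ha, w, hw⟩

/-- The locus where `(e)` holds is open. -/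
theorem isOpen_setOf_exists_smul (u : M →ₗ[A] N) :
    IsOpen {p : PrimeSpectrum A |
      ∃ a ∉ p.asIdeal, ∃ w : N →ₗ[A] M, w ∘ₗ u = a • LinearMap.id} := by
  rw [isOpen_iff_forall_mem_open]
  rintro p ⟨a, ha, w, hw⟩
  refine ⟨(PrimeSpectrum.basicOpen a : Set (PrimeSpectrum A)), ?_,
    (PrimeSpectrum.basicOpen a).isOpen, ha⟩
  intro q hq
  exact ⟨a, hq, w, hw⟩

/-- Faithfully flat descent of membership in the range of a linear map. -/
theorem mem_range_of_tmul_mem_range {A' : Type*} [CommRing A'] [Algebra A A']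
    [Module.FaithfullyFlat A A']
    {Q₁ Q₂ : Type*} [AddCommGroup Q₁] [Module A Q₁] [AddCommGroup Q₂] [Module A Q₂]
    (Φ : Q₁ →ₗ[A] Q₂) (z : Q₂) (ω : A' ⊗[A] Q₁) (hω : Φ.lTensor A' ω = 1 ⊗ₜ z) :
    z ∈ LinearMap.range Φ := by
  have hq : (LinearMap.range Φ).mkQ ∘ₗ Φ = 0 := LinearMap.range_mkQ_comp Φ
  have h1 : (LinearMap.range Φ).mkQ.lTensor A' (1 ⊗ₜ z) = 0 := by
    rw [← hω, ← LinearMap.comp_apply, ← LinearMap.lTensor_comp, hq, LinearMap.lTensor_zero,
      LinearMap.zero_apply]
  have h2 : TensorProduct.mk A A' _ 1 ((LinearMap.range Φ).mkQ z) = 0 := by simpa using h1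
  have h3 : (LinearMap.range Φ).mkQ z = 0 := by
    apply Module.FaithfullyFlat.tensorProduct_mk_injective (A := A) (B := A') _
    rw [h2, map_zero]
  exact (Submodule.Quotient.mk_eq_zero _).mp h3

/-- Faithfully flat descent of left invertibility. -/
theorem exists_leftInverse_of_baseChange [Module.Finite A M] [Module.Projective A N]
    (u : M →ₗ[A] N) (A' : Type*) [CommRing A'] [Algebra A A'] [Module.FaithfullyFlat A A']
    (w' : A' ⊗[A] N →ₗ[A'] A' ⊗[A] M) (hw' : w' ∘ₗ u.baseChange A' = LinearMap.id) :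
    ∃ w : N →ₗ[A] M, w ∘ₗ u = LinearMap.id := by
  classical
  obtain ⟨n, π, j, hj⟩ := exists_factor_finite_free u
  obtain ⟨m, x, hx⟩ := Module.Finite.exists_fin (R := A) (M := M)
  let c : Fin m → Fin n → A := fun k i => π (u (x k)) i
  let Φ : (Fin n → M) →ₗ[A] (Fin m → M) :=
    LinearMap.pi fun k => ∑ i, c k i • LinearMap.proj i
  have hΦapp : ∀ (y : Fin n → M) (k : Fin m), Φ y k = ∑ i, c k i • y i := by
    intro y k
    simp [Φ, LinearMap.sum_apply]
  suffices h : x ∈ LinearMap.range Φ by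
    obtain ⟨y, hy⟩ := h
    refine ⟨Fintype.linearCombination A y ∘ₗ π, ?_⟩
    apply LinearMap.ext_on_range hx
    intro k
    have := congr_fun hy k
    rw [hΦapp] at this
    simp only [LinearMap.comp_apply, Fintype.linearCombination_apply, LinearMap.id_apply]
    exact this
  let e₁ := TensorProduct.piRight A A A' (fun _ : Fin n => M)
  let e₂ := TensorProduct.piRight A A A' (fun _ : Fin m => M)
  have hΦ : ∀ ω : A' ⊗[A] (Fin n → M), ∀ k, e₂ (Φ.lTensor A' ω) k = ∑ i, c k i • e₁ ω i := by
    intro ω k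
    induction ω using TensorProduct.induction_on with
    | zero => simp
    | tmul a f =>
      simp only [LinearMap.lTensor_tmul, e₁, e₂, TensorProduct.piRight_apply,
        TensorProduct.piRightHom_tmul, hΦapp]
      rw [TensorProduct.tmul_sum]
      simp only [TensorProduct.tmul_smul]
    | add ω₁ ω₂ h₁ h₂ =>
      simp only [map_add, Pi.add_apply, h₁, h₂, smul_add, Finset.sum_add_distrib]
  let y' : Fin n → A' ⊗[A] M := fun i => w' (1 ⊗ₜ j (Pi.single i 1))
  have hy' : ∀ k, ∑ i, c k i • y' i = 1 ⊗ₜ x k := by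
    intro k
    have h1 : w' (1 ⊗ₜ j (∑ i, c k i • Pi.single i 1)) = ∑ i, c k i • y' i := by
      rw [map_sum, TensorProduct.tmul_sum, map_sum]
      refine Finset.sum_congr rfl fun i _ => ?_
      rw [map_smul, TensorProduct.tmul_smul, LinearMap.map_smul_of_tower]
    have h2 : ∑ i, c k i • (Pi.single i 1 : Fin n → A) = π (u (x k)) := by
      ext i'
      simp [c, Pi.single_apply, Finset.sum_apply]
    rw [← h1, h2]
    have h3 : j (π (u (x k))) = u (x k) := LinearMap.congr_fun hj (x k)
    rw [h3]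
    have h4 := LinearMap.congr_fun hw' (1 ⊗ₜ x k)
    simpa using h4
  apply mem_range_of_tmul_mem_range (A' := A') Φ x (e₁.symm y')
  apply e₂.injective
  funext k
  rw [hΦ, LinearEquiv.apply_symm_apply, hy']
  simp [e₂]

end basic

end Groth.Agent.Lib.LeftInvH1
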