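import Mathlib
import Groth.Prelude
import Groth.Agent.Lib.LenSep_helper8
import Groth.Agent.Lib.CohDev6_helper8

/-!
# Length formula for a flat base change, in terms of the base change of the reduced subscheme
(helper8)  APPEND-ONLY once landed.
-/

set_option autoImplicit false
set_option linter.all false
set_option maxHeartbeats 1600000
set_option backward.isDefEq.respectTransparency false
set_option backward.isDefEq.respectTransparency.types false
set_option backward.defeqAttrib.useBackward true

universe u

open CategoryTheory AlgebraicGeometry TopologicalSpace Opposite TensorProduct IsLocalRing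
open CategoryTheory.Limits

namespace Groth.Agent.Lib.LenRedH8

open Groth.Agent.Lib.LenSepH8

section ring

theorem length_self_of_surjective {B C : Type u} [CommRing B] [CommRing C] (φ : B →+* C)
    (hφ : Function.Surjective φ) :
    Module.length C C = Module.length B (B ⧸ RingHom.ker φ) := by
  letI := φ.toAlgebra
  have hπ : Function.Surjective (algebraMap B C) := hφ
  rw [← Module.length_eq_of_surjective (M := C) hπ]
  have hk : RingHom.ker (Algebra.ofId B C) = RingHom.ker φ := by
    ext r
    rw [RingHom.mem_ker, RingHom.mem_ker]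
    rfl
  let e₁ : (B ⧸ RingHom.ker (Algebra.ofId B C)) ≃ₐ[B] C :=
    Ideal.quotientKerAlgEquivOfSurjective (f := Algebra.ofId B C) hπ
  rw [← e₁.toLinearEquiv.length_eq, hk]

theorem length_self_of_bijective {B C : Type u} [CommRing B] [CommRing C] (φ : B →+* C)
    (hφ : Function.Bijective φ) :
    Module.length C C = Module.length B B := by
  rw [length_self_of_surjective φ hφ.2]
  have hk : RingHom.ker φ = ⊥ := (RingHom.injective_iff_ker_eq_bot φ).1 hφ.1
  rw [hk]
  exact (Submodule.quotEquivOfEqBot (⊥ : Ideal B) rfl).length_eq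

end ring

section sch

variable {Z X R Y : Scheme.{u}} {j : Z ⟶ X} {q : Z ⟶ R} {p : X ⟶ Y} {ι : R ⟶ Y}

/-- the map on fibres induced by a pullback square. -/
noncomputable def fibreMap (h : IsPullback j q p ι) (w : R) : q.fiber w ⟶ p.fiber (ι w) :=
  pullback.map _ _ _ _ j (Spec.map (ι.residueFieldMap w)) ι h.w.symm (by simp)

theorem fibreMap_fiberι (h : IsPullback j q p ι) (w : R) :
    fibreMap h w ≫ p.fiberι (ι w) = q.fiberι w ≫ j := by
  unfold fibreMap Scheme.Hom.fiberι
  exact pullback.lift_fst _ _ _

theorem isIso_fibreMap (h : IsPullback j q p ι) (w : R) [IsIso (ι.residueFieldMap w)] :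
    IsIso (fibreMap h w) := by
  have h1 := isPullback_fiberToSpecResidueField_of_isPullback h w
  exact h1.isIso_fst_of_isIso

theorem core (h : IsPullback j q p ι) [Flat p] (w : R) [IsIso (ι.residueFieldMap w)]
    (hfield : maximalIdeal (R.presheaf.stalk w) = ⊥) (t : ↥(q.fiber w)) :
    Module.length (X.presheaf.stalk ((p.fiberι (ι w)) ((fibreMap h w) t)))
        (X.presheaf.stalk ((p.fiberι (ι w)) ((fibreMap h w) t))) =
      Module.length (Y.presheaf.stalk (p ((p.fiberι (ι w)) ((fibreMap h w) t))))
          (Y.presheaf.stalk (p ((p.fiberι (ι w)) ((fibreMap h w) t)))) *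
        Module.length (Z.presheaf.stalk ((q.fiberι w) t)) (Z.presheaf.stalk ((q.fiberι w) t)) := by
  haveI := isIso_fibreMap h w
  set t₂ := (fibreMap h w) t with ht₂
  set x := (p.fiberι (ι w)) t₂ with hx
  -- step 1: length formula
  letI := (p.stalkMap x).hom.toAlgebra
  haveI : Module.Flat (Y.presheaf.stalk (p x)) (X.presheaf.stalk x) := Flat.stalkMap p x
  haveI : IsLocalHom (algebraMap (Y.presheaf.stalk (p x)) (X.presheaf.stalk x)) :=
    (inferInstance : IsLocalHom (p.stalkMap x).hom)
  have h1 := IsLocalRing.length_baseChange (Y.presheaf.stalk (p x)) (X.presheaf.stalk x)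
    (Y.presheaf.stalk (p x))
  have h2 : Module.length (X.presheaf.stalk x)
      ((X.presheaf.stalk x) ⊗[Y.presheaf.stalk (p x)] (Y.presheaf.stalk (p x))) =
      Module.length (X.presheaf.stalk x) (X.presheaf.stalk x) :=
    (TensorProduct.AlgebraTensorModule.rid (Y.presheaf.stalk (p x)) (X.presheaf.stalk x)
      (X.presheaf.stalk x)).length_eq
  rw [← h2, h1]
  congr 1
  -- step 2: the fibre of p
  obtain ⟨hsurj, hker⟩ := Groth.Agent.FibStalkKer.main9501 p (ι w) t₂
  have h3 := length_self_of_surjective ((p.fiberι (ι w)).stalkMap t₂).hom hsurj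
  rw [hker] at h3
  -- step 3: the fibre of q
  obtain ⟨hsurj', hker'⟩ := Groth.Agent.FibStalkKer.main9501 q w t
  have hker'' : RingHom.ker ((q.fiberι w).stalkMap t).hom = ⊥ := by
    rw [hker']
    have hw : q ((q.fiberι w) t) = w := by
      have := (q.range_fiberι w).le ⟨t, rfl⟩
      exact this
    have key : ∀ (w₂ : R) (hw₂ : w₂ = w),
        maximalIdeal (R.presheaf.stalk w₂) = ⊥ := by
      intro w₂ hw₂
      subst hw₂
      exact hfield
    rw [key _ hw, Ideal.map_bot]
  have h4 := length_self_of_bijective ((q.fiberι w).stalkMap t).hom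
    ⟨(RingHom.injective_iff_ker_eq_bot _).2 hker'', hsurj'⟩
  -- step 4: the iso of fibres
  have h5 := length_self_of_bijective ((fibreMap h w).stalkMap t).hom
    ((ConcreteCategory.isIso_iff_bijective ((fibreMap h w).stalkMap t)).1 inferInstance)
  rw [← h4, h5, h3]
  rfl

end sch

section main

theorem isIso_residueFieldMap_of_isClosedImmersion {R Y : Scheme.{u}} (ι : R ⟶ Y)
    [IsClosedImmersion ι] (w : R) : IsIso (ι.residueFieldMap w) := by
  rw [ConcreteCategory.isIso_iff_bijective]
  refine ⟨RingHom.injective _, ?_⟩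
  have hs : Function.Surjective (ι.stalkMap w).hom := ι.stalkMap_surjective w
  intro b
  obtain ⟨b', rfl⟩ := IsLocalRing.residue_surjective b
  obtain ⟨a, rfl⟩ := hs b'
  exact ⟨IsLocalRing.residue _ a, rfl⟩

theorem main_general {X' S' S'' R : Scheme.{u}} (g' : X' ⟶ S') (s : S'' ⟶ S') [Flat s]
    (ι : R ⟶ X') [IsClosedImmersion ι] [IsReduced R]
    (x'' : ↥(pullback g' s)) (hx'' : ∀ z : ↥(pullback g' s), z ⤳ x'' → z = x'')
    (z'' : ↥(pullback (ι ≫ g') s))
    (hz'' : pullback.map (ι ≫ g') s g' s ι (𝟙 _) (𝟙 _)
        (Category.comp_id _) ((Category.comp_id _).trans (Category.id_comp _).symm) z'' = x'') :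
    Module.length ((pullback g' s).presheaf.stalk x'') ((pullback g' s).presheaf.stalk x'') =
      Module.length (X'.presheaf.stalk (pullback.fst g' s x''))
          (X'.presheaf.stalk (pullback.fst g' s x'')) *
        Module.length ((pullback (ι ≫ g') s).presheaf.stalk z'')
          ((pullback (ι ≫ g') s).presheaf.stalk z'') := by
  set j := pullback.map (ι ≫ g') s g' s ι (𝟙 _) (𝟙 _)
        (Category.comp_id _) ((Category.comp_id _).trans (Category.id_comp _).symm) with hj
  set p := pullback.fst g' s with hp
  set q := pullback.fst (ι ≫ g') s with hq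
  have hjp : j ≫ p = q ≫ ι := by
    rw [hj, hp, hq]
    exact pullback.lift_fst _ _ _
  have hjs : j ≫ pullback.snd g' s = pullback.snd (ι ≫ g') s := by
    rw [hj]
    rw [pullback.map]
    rw [pullback.lift_snd, Category.comp_id]
  have h : IsPullback j q p ι := by
    refine IsPullback.of_right ?_ hjp (IsPullback.of_hasPullback g' s).flip
    rw [hjs]
    exact (IsPullback.of_hasPullback (ι ≫ g') s).flip
  haveI : Flat p := by rw [hp]; infer_instance
  set w := q z'' with hw
  obtain ⟨t, ht⟩ : ∃ t : ↥(q.fiber w), (q.fiberι w) t = z'' := by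
    have h1 : z'' ∈ Set.range (q.fiberι w) := by
      rw [q.range_fiberι]
      rfl
    exact h1
  haveI := isIso_residueFieldMap_of_isClosedImmersion ι w
  have hpx : ∀ y : X', y ⤳ p x'' → y = p x'' := by
    intro y hy
    obtain ⟨z, hz, hzy⟩ := (Flat.generalizingMap p) hy
    rw [← hzy, hx'' z hz]
  have hwmax : ∀ z : R, z ⤳ w → z = w := by
    intro z hz
    apply ι.isEmbedding.injective
    have h1 : ι w = p x'' := by
      rw [← hz'', hw, ← Scheme.Hom.comp_apply, ← Scheme.Hom.comp_apply, hjp]
    rw [h1]
    apply hpx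
    rw [← h1]
    exact hz.map ι.continuous
  have hfield : maximalIdeal (R.presheaf.stalk w) = ⊥ :=
    maximalIdeal_eq_bot_of_unique_prime (prime_unique_of_no_generization w hwmax)
  have hxx : (p.fiberι (ι w)) ((fibreMap h w) t) = x'' := by
    rw [← Scheme.Hom.comp_apply, fibreMap_fiberι, Scheme.Hom.comp_apply, ht, hz'']
  have key : ∀ (x : ↥(pullback g' s)) (z : ↥(pullback (ι ≫ g') s)),
      (p.fiberι (ι w)) ((fibreMap h w) t) = x → (q.fiberι w) t = z →
      Module.length ((pullback g' s).presheaf.stalk x) ((pullback g' s).presheaf.stalk x) =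
      Module.length (X'.presheaf.stalk (p x)) (X'.presheaf.stalk (p x)) *
        Module.length ((pullback (ι ≫ g') s).presheaf.stalk z)
          ((pullback (ι ≫ g') s).presheaf.stalk z) := by
    rintro x z rfl rfl
    exact core h w hfield t
  exact key x'' z'' hxx ht

theorem main4686 {k k' k'' : Type u} [Field k] [Field k'] [Field k''] [Algebra k k']
    [Algebra k' k''] {X : Scheme.{u}} (f : X ⟶ Spec (CommRingCat.of k))
    (x'' : ↥(FBase.bc (FBase.bcStr f k') k''))
    (hx'' : ∀ z : ↥(FBase.bc (FBase.bcStr f k') k''), z ⤳ x'' → z = x'')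
    (z'' : ↥(FBase.bc ((FBase.bc f k').nilradical.subschemeι ≫ FBase.bcStr f k') k''))
    (hz'' : pullback.map ((FBase.bc f k').nilradical.subschemeι ≫ FBase.bcStr f k')
        (Spec.map (CommRingCat.ofHom (algebraMap k' k''))) (FBase.bcStr f k')
        (Spec.map (CommRingCat.ofHom (algebraMap k' k''))) (FBase.bc f k').nilradical.subschemeι (𝟙 _) (𝟙 _)
        (Category.comp_id _) ((Category.comp_id _).trans (Category.id_comp _).symm) z'' = x'') :
    Module.length ((FBase.bc (FBase.bcStr f k') k'').presheaf.stalk x'') ((FBase.bc (FBase.bcStr f k') k'').presheaf.stalk x'') =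
      Module.length ((FBase.bc f k').presheaf.stalk (FBase.bcπ (FBase.bcStr f k') k'' x''))
          ((FBase.bc f k').presheaf.stalk (FBase.bcπ (FBase.bcStr f k') k'' x'')) *
        Module.length ((FBase.bc ((FBase.bc f k').nilradical.subschemeι ≫ FBase.bcStr f k') k'').presheaf.stalk z'')
          ((FBase.bc ((FBase.bc f k').nilradical.subschemeι ≫ FBase.bcStr f k') k'').presheaf.stalk z'') := by
  haveI : Flat (Spec.map (CommRingCat.ofHom (algebraMap k' k''))) := by
    rw [Flat.SpecMap_iff]
    exact (RingHom.flat_algebraMap_iff).2 inferInstance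
  haveI : IsReduced (FBase.bc f k').nilradical.subscheme := by
    rw [← Scheme.IdealSheafData.vanishingIdeal_top]
    exact CohDevH8.isReduced_subscheme_vanishingIdeal ⊤
  exact main_general (FBase.bcStr f k') (Spec.map (CommRingCat.ofHom (algebraMap k' k'')))
    (FBase.bc f k').nilradical.subschemeι x'' hx'' z'' hz''

end main

end Groth.Agent.Lib.LenRedH8
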