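import Mathlib
import Groth.Prelude.Def_CohTop
import Groth.Agent.Lib.Leray_helper9

/-!
# The other degenerate case of the Leray spectral sequence

If the higher direct images `R^q f_* F` are all acyclic for global sections on `Y`, then
`H^q(X, F) ≃ Γ(Y, R^q f_* F)`.

The abstract statement: for a cochain complex `L` in an abelian category and an object `K`, if all
`L.X n` and all `L.homology n` are `K`-acyclic (`Ext^{p+1}(K, -) = 0`), then
`Hom(K, -)` commutes with the cohomology of `L`.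
-/

universe w u

open CategoryTheory CategoryTheory.Limits Opposite TopologicalSpace

namespace LerayAcyc

section Abstract

variable {𝒜 : Type*} [Category 𝒜] [Abelian 𝒜] [HasExt.{w} 𝒜] (K : 𝒜)

/-- `K`-acyclic objects. -/
def Acy (G : 𝒜) : Prop := ∀ (p : ℕ) (ξ : Abelian.Ext.{w} K G (p + 1)), ξ = 0

variable {K}

theorem Acy.of_iso {G G' : 𝒜} (e : G ≅ G') (h : Acy K G) : Acy K G' := by
  intro p ξ
  have h1 : ξ.comp (Abelian.Ext.mk₀ e.inv) (add_zero _) = 0 := h p _
  have h2 := Abelian.Ext.comp_assoc_of_third_deg_zero ξ (Abelian.Ext.mk₀ e.inv)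
    (Abelian.Ext.mk₀ e.hom) (add_zero _)
  rw [h1, Abelian.Ext.zero_comp, Abelian.Ext.mk₀_comp_mk₀, e.inv_hom_id,
    Abelian.Ext.comp_mk₀_id] at h2
  exact h2.symm

theorem acy_X₃ {S : ShortComplex 𝒜} (hS : S.ShortExact) (h1 : Acy K S.X₁) (h2 : Acy K S.X₂) :
    Acy K S.X₃ := by
  intro p ξ
  obtain ⟨x₂, hx₂⟩ := Abelian.Ext.covariant_sequence_exact₃ K hS ξ rfl (h1 (p + 1) _)
  rw [← hx₂, h2 p x₂, Abelian.Ext.zero_comp]

theorem acy_X₂ {S : ShortComplex 𝒜} (hS : S.ShortExact) (h1 : Acy K S.X₁) (h3 : Acy K S.X₃) :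
    Acy K S.X₂ := by
  intro p ξ
  obtain ⟨x₁, hx₁⟩ := Abelian.Ext.covariant_sequence_exact₂ K hS ξ (h3 p _)
  rw [← hx₁, h1 p x₁, Abelian.Ext.zero_comp]

theorem lift_of_acy {S : ShortComplex 𝒜} (hS : S.ShortExact) (h1 : Acy K S.X₁) (c : K ⟶ S.X₃) :
    ∃ b : K ⟶ S.X₂, b ≫ S.g = c := by
  obtain ⟨x₂, hx₂⟩ := Abelian.Ext.covariant_sequence_exact₃ K hS (Abelian.Ext.mk₀ c)
    (zero_add 1) (h1 0 _)
  obtain ⟨b, rfl⟩ := (Abelian.Ext.mk₀_bijective _ _).2 x₂
  rw [Abelian.Ext.mk₀_comp_mk₀] at hx₂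
  exact ⟨b, (Abelian.Ext.mk₀_bijective _ _).1 hx₂⟩

variable (L : CochainComplex 𝒜 ℕ)

/-- `0 → B^n → Z^n → H^n → 0`. -/
noncomputable abbrev SBZ (n : ℕ) : ShortComplex 𝒜 :=
  ShortComplex.mk (kernel.ι (L.homologyπ n)) (L.homologyπ n) (kernel.condition _)

theorem SBZ_shortExact (n : ℕ) : (SBZ L n).ShortExact :=
  ShortComplex.ShortExact.mk' (ShortComplex.exact_kernel (L.homologyπ n))
    (inferInstanceAs (Mono (kernel.ι (L.homologyπ n)))) (inferInstanceAs (Epi (L.homologyπ n)))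

/-- The map `X^n ⟶ B^{n+1}`. -/
noncomputable def beta (n : ℕ) : L.X n ⟶ kernel (L.homologyπ (n + 1)) :=
  kernel.lift (L.homologyπ (n + 1)) (L.toCycles n (n + 1)) (L.toCycles_comp_homologyπ n (n + 1))

theorem beta_ι (n : ℕ) : beta L n ≫ kernel.ι (L.homologyπ (n + 1)) = L.toCycles n (n + 1) :=
  kernel.lift_ι _ _ _

theorem epi_beta (n : ℕ) : Epi (beta L n) := by
  have hex : (ShortComplex.mk (L.toCycles n (n + 1)) (L.homologyπ (n + 1))
      (L.toCycles_comp_homologyπ n (n + 1))).Exact :=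
    ShortComplex.exact_of_g_is_cokernel _ (L.homologyIsCokernel n (n + 1) (by simp))
  exact (ShortComplex.exact_iff_epi_kernel_lift _).mp hex

theorem iCycles_beta (n : ℕ) : L.iCycles n ≫ beta L n = 0 := by
  rw [← cancel_mono (kernel.ι (L.homologyπ (n + 1))), ← cancel_mono (L.iCycles (n + 1)),
    Category.assoc, Category.assoc, zero_comp, zero_comp]
  rw [← Category.assoc (beta L n), beta_ι, L.toCycles_i, L.iCycles_d]

/-- `0 → Z^n → X^n → B^{n+1} → 0`. -/
noncomputable abbrev SZX (n : ℕ) : ShortComplex 𝒜 :=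
  ShortComplex.mk (L.iCycles n) (beta L n) (iCycles_beta L n)

theorem SZX_shortExact (n : ℕ) : (SZX L n).ShortExact := by
  have hex : (ShortComplex.mk (L.iCycles n) (L.d n (n + 1)) (L.iCycles_d n (n + 1))).Exact :=
    ShortComplex.exact_of_f_is_kernel _ (L.cyclesIsKernel n (n + 1) (by simp))
  let φ : SZX L n ⟶ ShortComplex.mk (L.iCycles n) (L.d n (n + 1)) (L.iCycles_d n (n + 1)) :=
    { τ₁ := 𝟙 _
      τ₂ := 𝟙 _
      τ₃ := kernel.ι (L.homologyπ (n + 1)) ≫ L.iCycles (n + 1)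
      comm₁₂ := by simp
      comm₂₃ := by
        show 𝟙 _ ≫ L.d n (n + 1) = beta L n ≫ kernel.ι (L.homologyπ (n + 1)) ≫ L.iCycles (n + 1)
        rw [← Category.assoc, beta_ι, L.toCycles_i, Category.id_comp] }
  haveI : Epi φ.τ₁ := inferInstanceAs (Epi (𝟙 _))
  haveI : IsIso φ.τ₂ := inferInstanceAs (IsIso (𝟙 _))
  haveI : Mono φ.τ₃ := inferInstanceAs (Mono (kernel.ι (L.homologyπ (n + 1)) ≫ L.iCycles (n + 1)))
  have hex' : (SZX L n).Exact := (ShortComplex.exact_iff_of_epi_of_isIso_of_mono φ).mpr hex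
  exact ShortComplex.ShortExact.mk' hex' (inferInstanceAs (Mono (L.iCycles n))) (epi_beta L n)

variable {L}

theorem acy_cycles (hX : ∀ n, Acy K (L.X n)) (hH : ∀ n, Acy K (L.homology n)) :
    ∀ n, Acy K (L.cycles n)
  | 0 => (hH 0).of_iso L.isoHomologyπ₀.symm
  | n + 1 => acy_X₂ (SBZ_shortExact L (n + 1))
      (acy_X₃ (SZX_shortExact L n) (acy_cycles hX hH n) (hX n)) (hH (n + 1))

theorem acy_boundaries (hX : ∀ n, Acy K (L.X n)) (hH : ∀ n, Acy K (L.homology n)) (n : ℕ) :
    Acy K (kernel (L.homologyπ (n + 1))) :=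
  acy_X₃ (SZX_shortExact L n) (acy_cycles hX hH n) (hX n)

variable (K L)

/-- Cocycles `K ⟶ L^n`. -/
def cocycL (n : ℕ) : AddSubgroup (K ⟶ L.X n) where
  carrier := {a | a ≫ L.d n (n + 1) = 0}
  zero_mem' := zero_comp
  add_mem' := by
    intro a b ha hb
    show (a + b) ≫ _ = 0
    rw [Preadditive.add_comp, ha, hb, add_zero]
  neg_mem' := by
    intro a ha
    show (-a) ≫ _ = 0
    rw [Preadditive.neg_comp, ha, neg_zero]

/-- The class of a cocycle in `Hom(K, H^n(L))`. -/
noncomputable def clsHom (n : ℕ) : cocycL K L n →+ (K ⟶ L.homology n) :=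
  AddMonoidHom.mk' (fun a => L.liftCycles a.1 (n + 1) (by simp) a.2 ≫ L.homologyπ n) (by
    intro a b
    rw [← Preadditive.add_comp]
    congr 1
    rw [← cancel_mono (L.iCycles n), Preadditive.add_comp, L.liftCycles_i, L.liftCycles_i,
      L.liftCycles_i]
    rfl)

variable {K L}

theorem clsHom_surjective (hX : ∀ n, Acy K (L.X n)) (hH : ∀ n, Acy K (L.homology n)) (n : ℕ) :
    Function.Surjective (clsHom K L (n + 1)) := by
  intro c
  obtain ⟨b, hb⟩ := lift_of_acy (SBZ_shortExact L (n + 1)) (acy_boundaries hX hH n) c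
  have hb' : b ≫ L.homologyπ (n + 1) = c := hb
  refine ⟨⟨b ≫ L.iCycles (n + 1), ?_⟩, ?_⟩
  · show (b ≫ L.iCycles (n + 1)) ≫ L.d (n + 1) (n + 1 + 1) = 0
    rw [Category.assoc, L.iCycles_d, comp_zero]
  · show L.liftCycles (b ≫ L.iCycles (n + 1)) (n + 1 + 1) _ _ ≫ L.homologyπ (n + 1) = c
    have e : L.liftCycles (b ≫ L.iCycles (n + 1)) (n + 1 + 1) (by simp)
        (by rw [Category.assoc, L.iCycles_d, comp_zero]) = b := by
      rw [← cancel_mono (L.iCycles (n + 1)), L.liftCycles_i]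
    rw [e, hb']

theorem clsHom_eq_zero_iff (hX : ∀ n, Acy K (L.X n)) (hH : ∀ n, Acy K (L.homology n)) (n : ℕ)
    (a : cocycL K L (n + 1)) :
    clsHom K L (n + 1) a = 0 ↔ ∃ t : K ⟶ L.X n, t ≫ L.d n (n + 1) = a.1 := by
  constructor
  · intro h
    have h' : L.liftCycles a.1 (n + 1 + 1) (by simp) a.2 ≫ L.homologyπ (n + 1) = 0 := h
    obtain ⟨t, ht⟩ := lift_of_acy (SZX_shortExact L n) (acy_cycles hX hH n)
      (kernel.lift (L.homologyπ (n + 1)) _ h')
    have ht' : t ≫ beta L n = kernel.lift (L.homologyπ (n + 1)) _ h' := ht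
    refine ⟨t, ?_⟩
    have e1 : t ≫ L.d n (n + 1) = (t ≫ beta L n) ≫ kernel.ι (L.homologyπ (n + 1)) ≫
        L.iCycles (n + 1) := by
      rw [Category.assoc, ← Category.assoc (beta L n), beta_ι, L.toCycles_i]
    rw [e1, ht', ← Category.assoc, kernel.lift_ι, L.liftCycles_i]
  · rintro ⟨t, ht⟩
    exact L.liftCycles_homologyπ_eq_zero_of_boundary a.1 (n + 1 + 1) (by simp) t ht.symm

end Abstract

section Top

variable {X Y : TopCat.{u}}

open Leray

/-- Postcomposition with an isomorphism, additively. -/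
def postAddEquiv {𝒜 : Type*} [Category 𝒜] [Preadditive 𝒜] (K : 𝒜) {G G' : 𝒜} (e : G ≅ G') :
    (K ⟶ G) ≃+ (K ⟶ G') where
  toFun c := c ≫ e.hom
  invFun c := c ≫ e.inv
  left_inv c := by simp
  right_inv c := by simp
  map_add' a b := by
    show (a + b) ≫ e.hom = a ≫ e.hom + b ≫ e.hom
    rw [Preadditive.add_comp]

/-- **Degenerate Leray, second form.** -/
theorem nonempty_H_addEquiv_sections (f : X ⟶ Y) (F : CohTop.Ab X)
    (h : ∀ p q : ℕ, Subsingleton (CohTop.H ((CohTop.Rpush f q).obj F) (p + 1))) (q : ℕ) :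
    Nonempty (CohTop.H F q ≃+ ((CohTop.Rpush f q).obj F).obj.obj (op ⊤)) := by
  cases q with
  | zero =>
    have e0 : (CohTop.Rpush f 0).obj F ≅ (CohTop.push f).obj F :=
      (CohTop.push f).rightDerivedZeroIsoSelf.app F
    exact ⟨(Sheaf.H.equiv₀ F isTerminalTop).trans
      ((constAddEquiv ((CohTop.push f).obj F)).symm.trans
        ((postAddEquiv (KK Y) e0.symm).trans (constAddEquiv ((CohTop.Rpush f 0).obj F))))⟩
  | succ n =>
    let R := injectiveResolution F
    let L := ((CohTop.push f).mapHomologicalComplex (ComplexShape.up ℕ)).obj R.cocomplex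
    have eq : ∀ q, (CohTop.Rpush f q).obj F ≅ L.homology q :=
      fun q => R.isoRightDerivedObj (CohTop.push f) q
    have hX : ∀ m, Acy (KK Y) (L.X m) := by
      intro m p ξ
      haveI : Injective (L.X m) := injective_push f (R.cocomplex.X m) (R.injective m)
      exact Abelian.Ext.eq_zero_of_injective ξ
    have hH : ∀ m, Acy (KK Y) (L.homology m) := by
      intro m
      refine Acy.of_iso (eq m) ?_
      intro p ξ
      haveI := h p m
      exact Subsingleton.elim _ _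
    -- transport of cocycles
    have hτ : ∀ a : KK X ⟶ R.cocomplex.X (n + 1),
        a ∈ cocyc (KK X) R (n + 1) ↔ theta f _ a ∈ cocycL (KK Y) L (n + 1) := by
      intro a
      have e1 : theta f _ a ≫ L.d (n + 1) (n + 1 + 1) =
          theta f _ (a ≫ R.cocomplex.d (n + 1) (n + 1 + 1)) := (theta_comp f a _).symm
      constructor
      · intro ha
        show theta f _ a ≫ L.d (n + 1) (n + 1 + 1) = 0
        rw [e1, (mem_cocyc R (n + 1) a).mp ha]
        exact map_zero _
      · intro ha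
        have ha' : theta f _ a ≫ L.d (n + 1) (n + 1 + 1) = 0 := ha
        rw [e1] at ha'
        exact (mem_cocyc R (n + 1) a).mpr
          ((theta f _).injective (ha'.trans (map_zero _).symm))
    let τ : cocyc (KK X) R (n + 1) →+ cocycL (KK Y) L (n + 1) :=
      AddMonoidHom.mk' (fun a => ⟨theta f _ a.1, (hτ a.1).mp a.2⟩)
        (fun a b => Subtype.ext (map_add (theta f _) a.1 b.1))
    have hτs : Function.Surjective τ := by
      rintro ⟨b, hb⟩
      refine ⟨⟨(theta f _).symm b, (hτ _).mpr ?_⟩, Subtype.ext (AddEquiv.apply_symm_apply _ b)⟩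
      rw [AddEquiv.apply_symm_apply]
      exact hb
    obtain ⟨e⟩ := nonempty_addEquiv_of_surj (extHom (KK X) R (n + 1))
      ((clsHom (KK Y) L (n + 1)).comp τ) (extHom_surjective (KK X) R (n + 1))
      ((clsHom_surjective hX hH n).comp hτs) (by
        intro a
        rw [extHom_eq_zero_iff]
        show _ ↔ clsHom (KK Y) L (n + 1) (τ a) = 0
        rw [clsHom_eq_zero_iff hX hH]
        constructor
        · rintro ⟨g, hg⟩
          refine ⟨theta f _ g, ?_⟩
          show theta f _ g ≫ (CohTop.push f).map (R.cocomplex.d n (n + 1)) = theta f _ a.1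
          rw [← theta_comp, hg]
        · rintro ⟨t, ht⟩
          refine ⟨(theta f _).symm t, (theta f _).injective ?_⟩
          rw [theta_comp, AddEquiv.apply_symm_apply]
          exact ht)
    exact ⟨e.trans ((postAddEquiv (KK Y) (eq (n + 1)).symm).trans
      (constAddEquiv ((CohTop.Rpush f (n + 1)).obj F)))⟩

end Top

end LerayAcyc
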