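import Mathlib

set_option autoImplicit false
set_option maxHeartbeats 400000
open Polynomial

namespace Groth.Agent.Lib.LexDiff

theorem L1 (a : ℚ) (F : ℚ[X]) (m : ℕ) (hF : F.natDegree ≤ m + 1) :
    (F - F.comp (X - C a)).coeff m = a * ((m : ℚ) + 1) * F.coeff (m + 1) := by
  have hcomp : F.comp (X - C a) = taylor (-a) F := by
    rw [taylor_apply, map_neg, sub_eq_add_neg]
  rw [coeff_sub, hcomp, taylor_coeff]
  have hdeg : (hasseDeriv m F).natDegree < 2 := by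
    have := natDegree_hasseDeriv_le F m
    omega
  rw [eval_eq_sum_range' hdeg, Finset.sum_range_succ, Finset.sum_range_one, hasseDeriv_coeff,
    hasseDeriv_coeff, zero_add, Nat.choose_self, Nat.add_comm 1 m, Nat.choose_succ_self_right]
  push_cast
  ring

theorem lexT {ℓ : ℕ} (x y x' y' : Fin ℓ → ℚ)
    (hstar : ∀ j : Fin ℓ, (∀ i : Fin ℓ, i < j → x i = y i) → x' j - y' j = x j - y j) :
    toLex x ≤ toLex y ↔ toLex x' ≤ toLex y' := by
  have hE : ∀ n, (∀ i : Fin ℓ, i.val < n → x i = y i) ↔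
      (∀ i : Fin ℓ, i.val < n → x' i = y' i) := by
    intro n
    induction n with
    | zero => simp
    | succ n ih =>
      constructor
      · intro h i hi
        have hlow : ∀ i' : Fin ℓ, i' < i → x i' = y i' := fun i' hi' =>
          h i' (by have := Fin.lt_def.mp hi'; omega)
        have h1 := hstar i hlow
        have h2 := h i hi
        linarith
      · intro h i hi
        have hn : ∀ i : Fin ℓ, i.val < n → x i = y i :=
          ih.mpr (fun i hi => h i (by omega))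
        have hlow : ∀ i' : Fin ℓ, i' < i → x i' = y i' := fun i' hi' =>
          hn i' (by have := Fin.lt_def.mp hi'; omega)
        have h1 := hstar i hlow
        have h2 := h i hi
        linarith
  have hlt : ∀ u v : Fin ℓ → ℚ, toLex u < toLex v ↔
      ∃ i : Fin ℓ, (∀ j : Fin ℓ, j < i → u j = v j) ∧ u i < v i := fun u v => Iff.rfl
  rw [le_iff_eq_or_lt, le_iff_eq_or_lt]
  constructor
  · rintro (heq | h)
    on_goal 2 => obtain ⟨i, hi, hlti⟩ := (hlt _ _).mp h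
    · left
      have hxy : x = y := toLex.injective heq
      have h1 : ∀ i : Fin ℓ, i.val < ℓ → x' i = y' i :=
        (hE ℓ).mp (fun i _ => congrFun hxy i)
      exact congrArg toLex (funext fun i => h1 i i.isLt)
    · right
      refine (hlt _ _).mpr ⟨i, ?_, ?_⟩
      · intro j hj
        exact (hE i.val).mp (fun i' hi' => hi i' (Fin.lt_def.mpr hi')) j (Fin.lt_def.mp hj)
      · have h1 := hstar i hi
        linarith
  · rintro (heq | h)
    on_goal 2 => obtain ⟨i, hi, hlti⟩ := (hlt _ _).mp h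
    · left
      have hxy : x' = y' := toLex.injective heq
      have h1 : ∀ i : Fin ℓ, i.val < ℓ → x i = y i :=
        (hE ℓ).mpr (fun i _ => congrFun hxy i)
      exact congrArg toLex (funext fun i => h1 i i.isLt)
    · right
      have hlow : ∀ j : Fin ℓ, j < i → x j = y j := fun j hj =>
        (hE i.val).mpr (fun i' hi' => hi i' (Fin.lt_def.mpr hi')) j (Fin.lt_def.mp hj)
      refine (hlt _ _).mpr ⟨i, hlow, ?_⟩
      have h1 := hstar i hlow
      linarith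

noncomputable def rr (d : ℕ) (P : ℚ[X]) (i : ℕ) : ℚ :=
  P.coeff (d - 1 - i) * (Nat.factorial (d - 1 - i) : ℚ) / (P.coeff d * (Nat.factorial d : ℚ))

noncomputable def ss (d : ℕ) (a : ℚ) (P : ℚ[X]) (i : ℕ) : ℚ :=
  (P - P.comp (X - C a)).coeff (d - 1 - 1 - i) * (Nat.factorial (d - 1 - 1 - i) : ℚ) /
    ((P - P.comp (X - C a)).coeff (d - 1) * (Nat.factorial (d - 1) : ℚ))

theorem ss_eq (d : ℕ) (hd1 : 1 ≤ d) (a : ℚ) (P : ℚ[X]) (hP : P.natDegree = d) (i : ℕ) :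
    ss d a P i = (P.coeff d * (Nat.factorial d : ℚ))⁻¹ *
      (P - P.comp (X - C a)).coeff (d - 1 - 1 - i) * (Nat.factorial (d - 1 - 1 - i) : ℚ) / a := by
  have hPΔ : (P - P.comp (X - C a)).coeff (d - 1) = a * (d : ℚ) * P.coeff d := by
    have h := L1 a P (d - 1) (by omega)
    rw [Nat.sub_add_cancel hd1] at h
    rw [h]
    have : ((d - 1 : ℕ) : ℚ) + 1 = (d : ℚ) := by
      have h2 : ((d - 1 + 1 : ℕ) : ℚ) = (d : ℚ) := by rw [Nat.sub_add_cancel hd1]
      push_cast at h2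
      exact h2
    rw [this]
  have hfd : (Nat.factorial d : ℚ) = (d : ℚ) * (Nat.factorial (d - 1) : ℚ) := by
    have := Nat.mul_factorial_pred (Nat.pos_iff_ne_zero.mp hd1)
    rw [← this]; push_cast; ring
  unfold ss
  rw [hPΔ, hfd]
  simp only [div_eq_mul_inv, mul_inv]
  ring

theorem hstar (d ℓ : ℕ) (hℓ : ℓ + 1 ≤ d) (a : ℚ) (ha : a ≠ 0)
    (P Q : ℚ[X]) (hP : P.natDegree = d) (hQ : Q.natDegree = d) (hP0 : P ≠ 0) (hQ0 : Q ≠ 0)
    (j : Fin ℓ) (hlow : ∀ i : Fin ℓ, i < j → rr d P i = rr d Q i) :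
    ss d a P j - ss d a Q j = rr d P j - rr d Q j := by
  have hd1 : 1 ≤ d := by omega
  have hjl := j.isLt
  have hPd : P.coeff d ≠ 0 := by
    rw [← hP, coeff_natDegree]; exact leadingCoeff_ne_zero.mpr hP0
  have hQd : Q.coeff d ≠ 0 := by
    rw [← hQ, coeff_natDegree]; exact leadingCoeff_ne_zero.mpr hQ0
  have hfac : ∀ n : ℕ, ((Nat.factorial n : ℕ) : ℚ) ≠ 0 := fun n =>
    Nat.cast_ne_zero.mpr (Nat.factorial_ne_zero n)
  obtain ⟨α, hα⟩ : ∃ α : ℚ, α = P.coeff d * (Nat.factorial d : ℚ) := ⟨_, rfl⟩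
  obtain ⟨β, hβ⟩ : ∃ β : ℚ, β = Q.coeff d * (Nat.factorial d : ℚ) := ⟨_, rfl⟩
  obtain ⟨D, hD⟩ : ∃ D : ℚ[X], D = C α⁻¹ * P - C β⁻¹ * Q := ⟨_, rfl⟩
  have hDc : ∀ n, D.coeff n = α⁻¹ * P.coeff n - β⁻¹ * Q.coeff n := fun n => by
    rw [hD, coeff_sub, coeff_C_mul, coeff_C_mul]
  have hΔD : D - D.comp (X - C a) =
      C α⁻¹ * (P - P.comp (X - C a)) - C β⁻¹ * (Q - Q.comp (X - C a)) := by
    rw [hD]
    simp only [sub_comp, mul_comp, C_comp]
    ring
  have hrr : ∀ i : ℕ, rr d P i - rr d Q i =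
      D.coeff (d - 1 - i) * (Nat.factorial (d - 1 - i) : ℚ) := by
    intro i
    rw [hDc]; unfold rr; rw [← hα, ← hβ]
    simp only [div_eq_mul_inv]
    ring
  have e1 : α⁻¹ * P.coeff d = ((Nat.factorial d : ℚ))⁻¹ := by
    rw [hα, mul_inv, mul_comm (P.coeff d)⁻¹, mul_assoc, inv_mul_cancel₀ hPd, mul_one]
  have e2 : β⁻¹ * Q.coeff d = ((Nat.factorial d : ℚ))⁻¹ := by
    rw [hβ, mul_inv, mul_comm (Q.coeff d)⁻¹, mul_assoc, inv_mul_cancel₀ hQd, mul_one]
  have hDdeg : D.natDegree ≤ (d - 1 - 1 - (j : ℕ)) + 1 := by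
    rw [natDegree_le_iff_coeff_eq_zero]
    intro n hn
    rcases lt_trichotomy n d with h | h | h
    · have hi : d - 1 - n < ℓ := by omega
      have h1 := hlow ⟨d - 1 - n, hi⟩ (Fin.lt_def.mpr (by show d - 1 - n < (j : ℕ); omega))
      have h2 := hrr (d - 1 - n)
      have h3 : d - 1 - (d - 1 - n) = n := by omega
      rw [h3] at h2
      have h4 : D.coeff n * (Nat.factorial n : ℚ) = 0 := by
        rw [← h2]; exact sub_eq_zero.mpr h1
      exact (mul_eq_zero.mp h4).resolve_right (hfac n)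
    · rw [h, hDc, e1, e2, sub_self]
    · rw [hDc, coeff_eq_zero_of_natDegree_lt (by omega), coeff_eq_zero_of_natDegree_lt (by omega)]
      ring
  have hL := L1 a D (d - 1 - 1 - (j : ℕ)) hDdeg
  have hm1 : d - 1 - 1 - (j : ℕ) + 1 = d - 1 - (j : ℕ) := by omega
  have h5 : α⁻¹ * (P - P.comp (X - C a)).coeff (d - 1 - 1 - (j : ℕ)) -
      β⁻¹ * (Q - Q.comp (X - C a)).coeff (d - 1 - 1 - (j : ℕ)) =
      (D - D.comp (X - C a)).coeff (d - 1 - 1 - (j : ℕ)) := by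
    simp only [hΔD, coeff_sub, coeff_C_mul]
  rw [ss_eq d hd1 a P hP, ss_eq d hd1 a Q hQ, ← hα, ← hβ, hrr (j : ℕ), ← hm1, Nat.factorial_succ]
  have h6 : α⁻¹ * (P - P.comp (X - C a)).coeff (d - 1 - 1 - (j : ℕ)) *
      (Nat.factorial (d - 1 - 1 - (j : ℕ)) : ℚ) / a -
      β⁻¹ * (Q - Q.comp (X - C a)).coeff (d - 1 - 1 - (j : ℕ)) *
      (Nat.factorial (d - 1 - 1 - (j : ℕ)) : ℚ) / a =
      (D - D.comp (X - C a)).coeff (d - 1 - 1 - (j : ℕ)) *
        (Nat.factorial (d - 1 - 1 - (j : ℕ)) : ℚ) / a := by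
    rw [← h5]; ring
  rw [h6, hL]
  push_cast
  field_simp

theorem main (d ℓ : ℕ) (hℓ : ℓ + 1 ≤ d) (a : ℚ) (ha : a ≠ 0)
    (P Q : ℚ[X]) (hP : P.natDegree = d) (hQ : Q.natDegree = d) (hP0 : P ≠ 0) (hQ0 : Q ≠ 0) :
    toLex (fun j : Fin ℓ => rr d P j) ≤ toLex (fun j : Fin ℓ => rr d Q j) ↔
      toLex (fun j : Fin ℓ => ss d a P j) ≤ toLex (fun j : Fin ℓ => ss d a Q j) :=
  lexT _ _ _ _ (fun j hlow => hstar d ℓ hℓ a ha P Q hP hQ hP0 hQ0 j hlow)

end Groth.Agent.Lib.LexDiff
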