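import Mathlib
import Groth.Prelude.Def_SGA4a
import Groth.Agent.S6127

set_option autoImplicit false

/-! A category admitting a fully faithful functor to a presheaf category on a small category, with
a left exact left adjoint, is a topos. -/

namespace Groth.Agent.Lib.LexReflH8
open CategoryTheory CategoryTheory.Limits

universe v u

/-- equal object properties give equivalent full subcategories -/
def fullSubEquivOfEq {A : Type*} [Category A] {P Q : ObjectProperty A} (h : P = Q) :
    P.FullSubcategory ≌ Q.FullSubcategory := by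
  subst h
  exact CategoryTheory.Equivalence.refl

theorem isTopos_of_lex_reflective {C' : Type u} [SmallCategory C'] {S : Type v} [Category.{u} S]
    (i : S ⥤ (C'ᵒᵖ ⥤ Type u)) [i.Full] [i.Faithful] (a' : (C'ᵒᵖ ⥤ Type u) ⥤ S) (adj : a' ⊣ i)
    [PreservesFiniteLimits a'] : SGA4.IsTopos S := by
  haveI : i.toEssImage.IsEquivalence := { }
  let e : S ≌ i.essImage.FullSubcategory := i.toEssImage.asEquivalence
  have eι : e.inverse ⋙ i ≅ i.essImage.ι :=
    Functor.isoWhiskerLeft e.inverse (i.toEssImageCompι).symm ≪≫
      (Functor.associator _ _ _).symm ≪≫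
      Functor.isoWhiskerRight e.counitIso i.essImage.ι ≪≫ Functor.leftUnitor _
  let adjP : a' ⋙ e.functor ⊣ i.essImage.ι := (adj.comp e.toAdjunction).ofNatIsoRight eι
  letI : Reflective i.essImage.ι := { L := a' ⋙ e.functor, adj := adjP }
  haveI : PreservesFiniteLimits (reflector i.essImage.ι) :=
    (inferInstance : PreservesFiniteLimits (a' ⋙ e.functor))
  obtain ⟨J, _, hJ⟩ := Groth.Agent.S6127.result i.essImage
  have hPQ : i.essImage = Presheaf.IsSheaf J (A := Type u) :=
    funext fun F => propext ((hJ F).trans (isSheaf_iff_isSheaf_of_type J F).symm)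
  exact ⟨C', inferInstance, J, ⟨e.trans (fullSubEquivOfEq hPQ)⟩⟩

end Groth.Agent.Lib.LexReflH8
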