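import Mathlib

/-!
# A weight representing the lexicographic order on exponent vectors with entries `≤ 2` (helper9)
APPEND-ONLY once landed.
-/

set_option autoImplicit false

namespace Groth.Agent.LexWt9

open Finset

variable {σ : Type*} [Fintype σ] [LinearOrder σ]

/-- the number of elements above `x` -/
def pos (x : σ) : ℕ := (univ.filter fun y : σ => x < y).card

lemma pos_lt {x y : σ} (h : x < y) : pos y < pos x := by
  unfold pos
  apply Finset.card_lt_card
  rw [Finset.ssubset_iff_of_subset]
  · refine ⟨y, ?_, ?_⟩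
    · exact Finset.mem_filter.2 ⟨mem_univ _, h⟩
    · intro hy
      exact lt_irrefl y (Finset.mem_filter.1 hy).2
  · intro z hz
    exact Finset.mem_filter.2 ⟨mem_univ _, lt_trans h (Finset.mem_filter.1 hz).2⟩

lemma pos_injective : Function.Injective (pos : σ → ℕ) := by
  intro x y hxy
  rcases lt_trichotomy x y with h | h | h
  · exact absurd hxy (ne_of_gt (pos_lt h))
  · exact h
  · exact absurd hxy (ne_of_lt (pos_lt h))

/-- the weight of a variable -/
def om (x : σ) : ℕ := 3 ^ pos x

/-- the weight of an exponent vector -/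
def wgt (e : σ →₀ ℕ) : ℕ := ∑ x, e x * om x

lemma wgt_add (e e' : σ →₀ ℕ) : wgt (e + e') = wgt e + wgt e' := by
  unfold wgt
  rw [← Finset.sum_add_distrib]
  apply Finset.sum_congr rfl
  intro x _
  rw [Finsupp.add_apply, add_mul]

lemma geom_bound (m : ℕ) : 2 * ∑ k ∈ Finset.range m, 3 ^ k + 1 = 3 ^ m := by
  induction m with
  | zero => simp
  | succ m ih =>
    rw [Finset.sum_range_succ, pow_succ]
    omega

lemma sum_above_lt (e : σ →₀ ℕ) (he : ∀ x, e x ≤ 2) (x₀ : σ) :
    ∑ x ∈ univ.filter (fun y : σ => x₀ < y), e x * om x < om x₀ := by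
  have h1 : ∑ x ∈ univ.filter (fun y : σ => x₀ < y), e x * om x ≤
      ∑ x ∈ univ.filter (fun y : σ => x₀ < y), 2 * 3 ^ pos x := by
    apply Finset.sum_le_sum
    intro x _
    exact Nat.mul_le_mul_right _ (he x)
  have h2 : ∑ x ∈ univ.filter (fun y : σ => x₀ < y), 2 * 3 ^ pos x =
      ∑ k ∈ (univ.filter (fun y : σ => x₀ < y)).image pos, 2 * 3 ^ k := by
    rw [Finset.sum_image (fun a _ b _ h => pos_injective h)]
  have h3 : ∑ k ∈ (univ.filter (fun y : σ => x₀ < y)).image pos, 2 * 3 ^ k ≤
      ∑ k ∈ Finset.range (pos x₀), 2 * 3 ^ k := by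
    apply Finset.sum_le_sum_of_subset
    intro k hk
    obtain ⟨x, hx, rfl⟩ := Finset.mem_image.1 hk
    exact Finset.mem_range.2 (pos_lt (Finset.mem_filter.1 hx).2)
  have h4 := geom_bound (pos x₀)
  rw [Finset.mul_sum] at h4
  unfold om at h1 ⊢
  omega

/-- the weight is strictly monotone for the lexicographic order on vectors with entries `≤ 2` -/
theorem wgt_lt_of_lex (e e' : σ →₀ ℕ) (he : ∀ x, e x ≤ 2)
    (h : toLex e < toLex e') : wgt e < wgt e' := by
  obtain ⟨x₀, heq, hlt⟩ := Finsupp.Lex.lt_iff.1 h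
  have heq' : ∀ x, x < x₀ → e x = e' x := heq
  have hlt' : e x₀ < e' x₀ := hlt
  have hsplit : ∀ f : σ →₀ ℕ, wgt f = ∑ x ∈ univ.filter (fun y : σ => y < x₀), f x * om x +
      (f x₀ * om x₀ + ∑ x ∈ univ.filter (fun y : σ => x₀ < y), f x * om x) := by
    intro f
    unfold wgt
    rw [← Finset.sum_filter_add_sum_filter_not univ (fun y : σ => y < x₀)]
    congr 1
    have h1 : univ.filter (fun y : σ => ¬ y < x₀) =
        insert x₀ (univ.filter (fun y : σ => x₀ < y)) := by
      ext y
      simp only [Finset.mem_filter, Finset.mem_univ, true_and, Finset.mem_insert, not_lt]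
      constructor
      · intro hy
        rcases eq_or_lt_of_le hy with h | h
        · left
          exact h.symm
        · right
          exact h
      · rintro (h | h)
        · rw [h]
        · exact h.le
    rw [h1, Finset.sum_insert]
    intro hmem
    exact lt_irrefl _ (Finset.mem_filter.1 hmem).2
  rw [hsplit e, hsplit e']
  have h1 : ∑ x ∈ univ.filter (fun y : σ => y < x₀), e x * om x =
      ∑ x ∈ univ.filter (fun y : σ => y < x₀), e' x * om x := by
    apply Finset.sum_congr rfl
    intro x hx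
    rw [heq' x (Finset.mem_filter.1 hx).2]
  have h2 := sum_above_lt e he x₀
  have h3 : (e x₀ + 1) * om x₀ ≤ e' x₀ * om x₀ := Nat.mul_le_mul_right _ hlt'
  rw [h1, add_mul, one_mul] at *
  omega

end Groth.Agent.LexWt9
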