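import Mathlib.AlgebraicGeometry.AffineTransitionLimit
import Mathlib.AlgebraicGeometry.Morphisms.FinitePresentation
import Mathlib.RingTheory.FinitePresentation
import Mathlib.Algebra.Category.Ring.FilteredColimits

/-!
# Finite presentation from the lifting property along directed colimits (helper7)

* `finitePresentation_of_lifting`: a ring map `R ⟶ A` such that every `R`-map from `A` to a directed
  colimit of `R`-algebras factors through a stage is of finite presentation.
* `locallyOfFinitePresentation_of_lifting`: the scheme version (S9208).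
-/

set_option autoImplicit false
set_option linter.style.haveILetI false

universe u

open CategoryTheory CategoryTheory.Limits AlgebraicGeometry Opposite

namespace Groth.Agent.Lib.LfpLiftH7

/-- Recognition of filtered colimits of commutative rings on elements. -/
noncomputable def isColimitCommRingOf {J : Type u} [SmallCategory J] [IsFiltered J]
    {F : J ⥤ CommRingCat.{u}} (t : Cocone F)
    (hsurj : ∀ x : t.pt, ∃ (i : J) (xi : F.obj i), x = t.ι.app i xi)
    (hinj : ∀ (i j : J) (xi : F.obj i) (xj : F.obj j), t.ι.app i xi = t.ι.app j xj →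
      ∃ (k : J) (f : i ⟶ k) (g : j ⟶ k), F.map f xi = F.map g xj) : IsColimit t := by
  haveI : ReflectsColimit F (forget CommRingCat.{u}) :=
    reflectsColimit_of_reflectsIsomorphisms F (forget CommRingCat.{u})
  apply isColimitOfReflects (forget CommRingCat.{u})
  exact Types.FilteredColimit.isColimitOf _ _ hsurj hinj

/-- A retract of a finitely presented algebra is finitely presented. -/
theorem finitePresentation_of_retract {R B A : Type u} [CommRing R] [CommRing B] [CommRing A]
    [Algebra R B] [Algebra R A] [Algebra.FinitePresentation R B]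
    (ι : B →ₐ[R] A) (ψ : A →ₐ[R] B) (h : ∀ a, ι (ψ a) = a) : Algebra.FinitePresentation R A := by
  classical
  obtain ⟨s, hs⟩ := (inferInstance : Algebra.FiniteType R B).out
  set Jd : Ideal B := Ideal.span ((fun b => b - ψ (ι b)) '' (s : Set B)) with hJd
  have key : ∀ b : B, b - ψ (ι b) ∈ Jd := by
    intro b
    have hb : b ∈ Algebra.adjoin R (s : Set B) := by rw [hs]; trivial
    induction hb using Algebra.adjoin_induction with
    | mem x hx => exact Ideal.subset_span ⟨x, hx, rfl⟩
    | algebraMap r => simp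
    | add a b _ _ ha hb =>
      have : a + b - ψ (ι (a + b)) = (a - ψ (ι a)) + (b - ψ (ι b)) := by
        rw [map_add, map_add]; ring
      rw [this]; exact Jd.add_mem ha hb
    | mul a b _ _ ha hb =>
      have : a * b - ψ (ι (a * b)) = a * (b - ψ (ι b)) + ψ (ι b) * (a - ψ (ι a)) := by
        rw [map_mul, map_mul]; ring
      rw [this]; exact Jd.add_mem (Jd.mul_mem_left _ hb) (Jd.mul_mem_left _ ha)
  have hker : RingHom.ker ι.toRingHom = Jd := by
    apply le_antisymm
    · intro b hb
      have hb' : ι b = 0 := by simpa using hb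
      have := key b
      rwa [hb', map_zero, sub_zero] at this
    · rw [hJd, Ideal.span_le]
      rintro _ ⟨x, _, rfl⟩
      simp [RingHom.mem_ker, h]
  refine Algebra.FinitePresentation.of_surjective (f := ι) (fun a => ⟨ψ a, h a⟩) ?_
  rw [hker]
  exact Submodule.fg_span (s.finite_toSet.image _)

section Adjoin

variable (R A : Type u) [CommRing R] [CommRing A] [Algebra R A]

/-- The directed system of finitely generated subalgebras. -/
noncomputable def adjF : Finset A ⥤ CommRingCat.{u} where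
  obj s := CommRingCat.of (Algebra.adjoin R (s : Set A))
  map {s t} h := CommRingCat.ofHom
    (Subalgebra.inclusion (Algebra.adjoin_mono (Finset.coe_subset.mpr (leOfHom h)))).toRingHom
  map_id _ := by ext; rfl
  map_comp _ _ := by ext; rfl

noncomputable def adjα : (Functor.const (Finset A)).obj (CommRingCat.of R) ⟶ adjF R A where
  app s := CommRingCat.ofHom (algebraMap R (Algebra.adjoin R (s : Set A)))
  naturality _ _ _ := by ext; rfl

noncomputable def adjCocone : Cocone (adjF R A) where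
  pt := CommRingCat.of A
  ι := { app := fun s => CommRingCat.ofHom (Algebra.adjoin R (s : Set A)).val.toRingHom
         naturality := fun _ _ _ => by ext; rfl }

noncomputable def adjIsColimit : IsColimit (adjCocone R A) := by
  classical
  refine isColimitCommRingOf _ ?_ ?_
  · intro (x : A)
    exact ⟨{x}, ⟨x, Algebra.subset_adjoin (by simp)⟩, rfl⟩
  · intro s t xs xt hx
    refine ⟨s ∪ t, homOfLE Finset.subset_union_left, homOfLE Finset.subset_union_right, ?_⟩
    exact Subtype.ext hx

end Adjoin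

section Quot

variable {R A : Type u} [CommRing R] [CommRing A] [Algebra R A] {n : ℕ}
  (π : MvPolynomial (Fin n) R →ₐ[R] A)

/-- Finitely generated ideals inside the kernel of `π`. -/
abbrev KerFG : Type u :=
  {I : Ideal (MvPolynomial (Fin n) R) // I.FG ∧ I ≤ RingHom.ker π.toRingHom}

instance : IsDirected (KerFG π) (· ≤ ·) :=
  ⟨fun I I' => ⟨⟨I.1 ⊔ I'.1, Submodule.FG.sup I.2.1 I'.2.1, sup_le I.2.2 I'.2.2⟩,
    (show I.1 ≤ I.1 ⊔ I'.1 from le_sup_left), (show I'.1 ≤ I.1 ⊔ I'.1 from le_sup_right)⟩⟩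

instance : Nonempty (KerFG π) := ⟨⟨⊥, Submodule.fg_bot, bot_le⟩⟩

noncomputable def quotF : KerFG π ⥤ CommRingCat.{u} where
  obj I := CommRingCat.of (MvPolynomial (Fin n) R ⧸ I.1)
  map {I I'} h := CommRingCat.ofHom (Ideal.Quotient.factor (show I.1 ≤ I'.1 from leOfHom h))
  map_id I := CommRingCat.hom_ext (RingHom.ext fun x => by
    obtain ⟨p, rfl⟩ := Ideal.Quotient.mk_surjective (I := I.1) x; rfl)
  map_comp {I _ _} _ _ := CommRingCat.hom_ext (RingHom.ext fun x => by
    obtain ⟨p, rfl⟩ := Ideal.Quotient.mk_surjective (I := I.1) x; rfl)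

noncomputable def quotα : (Functor.const (KerFG π)).obj (CommRingCat.of R) ⟶ quotF π where
  app I := CommRingCat.ofHom (algebraMap R (MvPolynomial (Fin n) R ⧸ I.1))
  naturality _ _ _ := by ext; rfl

noncomputable def quotCocone : Cocone (quotF π) where
  pt := CommRingCat.of A
  ι := { app := fun I => CommRingCat.ofHom (Ideal.Quotient.lift I.1 π.toRingHom
            (fun p hp => RingHom.mem_ker.mp (I.2.2 hp)))
         naturality := fun I _ _ => CommRingCat.hom_ext (RingHom.ext fun x => by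
            obtain ⟨p, rfl⟩ := Ideal.Quotient.mk_surjective (I := I.1) x; rfl) }

noncomputable def quotIsColimit (hπ : Function.Surjective π) : IsColimit (quotCocone π) := by
  classical
  refine isColimitCommRingOf _ ?_ ?_
  · intro (a : A)
    obtain ⟨p, rfl⟩ := hπ a
    exact ⟨⟨⊥, Submodule.fg_bot, bot_le⟩, Ideal.Quotient.mk _ p, rfl⟩
  · intro I I' x x' hx
    obtain ⟨p, rfl⟩ := Ideal.Quotient.mk_surjective (I := I.1) x
    obtain ⟨q, rfl⟩ := Ideal.Quotient.mk_surjective (I := I'.1) x'
    have hpq : π p = π q := hx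
    have hmem : p - q ∈ RingHom.ker π.toRingHom := by
      rw [RingHom.mem_ker]
      show π (p - q) = 0
      rw [map_sub, hpq, sub_self]
    let K : KerFG π := ⟨I.1 ⊔ I'.1 ⊔ Ideal.span {p - q},
      Submodule.FG.sup (Submodule.FG.sup I.2.1 I'.2.1) (Submodule.fg_span_singleton _),
      sup_le (sup_le I.2.2 I'.2.2) ((Ideal.span_singleton_le_iff_mem _).mpr hmem)⟩
    refine ⟨K, homOfLE (show I.1 ≤ K.1 from le_sup_of_le_left le_sup_left),
      homOfLE (show I'.1 ≤ K.1 from le_sup_of_le_left le_sup_right), ?_⟩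
    show Ideal.Quotient.mk K.1 p = Ideal.Quotient.mk K.1 q
    rw [Ideal.Quotient.eq]
    exact Ideal.mem_sup_right (Ideal.subset_span rfl)

end Quot

/-- Unbundled form of the ring lemma. -/
theorem finitePresentation_of_lifting' (R A : Type u) [CommRing R] [CommRing A] [Algebra R A]
    (hLP : ∀ (J : Type u) [Preorder J] [IsDirected J (· ≤ ·)] [Nonempty J]
      (F : J ⥤ CommRingCat.{u}) (α : (Functor.const J).obj (CommRingCat.of R) ⟶ F)
      (cF : Cocone F) (_ : IsColimit cF) (j₀ : J) (φ : CommRingCat.of A ⟶ cF.pt),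
      CommRingCat.ofHom (algebraMap R A) ≫ φ = α.app j₀ ≫ cF.ι.app j₀ →
      ∃ (j : J) (ψ : CommRingCat.of A ⟶ F.obj j),
        CommRingCat.ofHom (algebraMap R A) ≫ ψ = α.app j ∧ ψ ≫ cF.ι.app j = φ) :
    Algebra.FinitePresentation R A := by
  classical
  have hft : Algebra.FiniteType R A := by
    obtain ⟨s, ψ, h1, h2⟩ := hLP (Finset A) (adjF R A) (adjα R A) (adjCocone R A)
      (adjIsColimit R A) ∅ (𝟙 _) (by ext; rfl)
    refine ⟨⟨s, ?_⟩⟩
    rw [eq_top_iff]
    intro a _
    let y : Algebra.adjoin R (s : Set A) := ψ.hom a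
    have ha : (y : A) = a := congr($(h2).hom a)
    rw [← ha]
    exact y.2
  obtain ⟨n, π, hπ⟩ := Algebra.FiniteType.iff_quotient_mvPolynomial''.mp hft
  obtain ⟨I, ψ, h1, h2⟩ := hLP (KerFG π) (quotF π) (quotα π) (quotCocone π)
    (quotIsColimit π hπ) ⟨⊥, Submodule.fg_bot, bot_le⟩ (𝟙 _)
    (CommRingCat.hom_ext (RingHom.ext fun x => (π.commutes x).symm))
  haveI : Algebra.FinitePresentation R (MvPolynomial (Fin n) R ⧸ I.1) :=
    Algebra.FinitePresentation.quotient I.2.1
  let ιa : (MvPolynomial (Fin n) R ⧸ I.1) →ₐ[R] A :=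
    Ideal.Quotient.liftₐ I.1 π (fun p hp => RingHom.mem_ker.mp (I.2.2 hp))
  let ψr : A →+* (MvPolynomial (Fin n) R ⧸ I.1) := ψ.hom
  let ψa : A →ₐ[R] (MvPolynomial (Fin n) R ⧸ I.1) :=
    { ψr with commutes' := fun r => congr($(h1).hom r) }
  refine finitePresentation_of_retract ιa ψa (fun a => ?_)
  exact congr($(h2).hom a)

/-- **Ring lemma**: a ring map with the lifting property along directed colimits is of finite
presentation. -/
theorem finitePresentation_of_lifting {R A : CommRingCat.{u}} (φ₀ : R ⟶ A)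
    (hLP : ∀ (J : Type u) [Preorder J] [IsDirected J (· ≤ ·)] [Nonempty J]
      (F : J ⥤ CommRingCat.{u}) (α : (Functor.const J).obj R ⟶ F)
      (cF : Cocone F) (_ : IsColimit cF) (j₀ : J) (φ : A ⟶ cF.pt),
      φ₀ ≫ φ = α.app j₀ ≫ cF.ι.app j₀ →
      ∃ (j : J) (ψ : A ⟶ F.obj j), φ₀ ≫ ψ = α.app j ∧ ψ ≫ cF.ι.app j = φ) :
    φ₀.hom.FinitePresentation := by
  letI : Algebra R A := φ₀.hom.toAlgebra
  exact finitePresentation_of_lifting' R A
    (fun J _ _ _ F α cF hcF j₀ φ hφ => hLP J F α cF hcF j₀ φ hφ)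

set_option backward.isDefEq.respectTransparency false in
/-- **S9208**: a morphism of schemes with the lifting property along directed limits of affine
schemes is locally of finite presentation. -/
theorem locallyOfFinitePresentation_of_lifting {X S : Scheme.{u}} (f : X ⟶ S)
    (h : ∀ (J : Type u) [Preorder J] [IsDirected J (· ≤ ·)] [Nonempty J] (D : Jᵒᵖ ⥤ Scheme.{u})
      (t : D ⟶ (Functor.const Jᵒᵖ).obj S) (c : Limits.Cone D) (_ : Limits.IsLimit c),
      (∀ j, IsAffine (D.obj j)) → ∀ (j₀ : Jᵒᵖ) (g : c.pt ⟶ X), g ≫ f = c.π.app j₀ ≫ t.app j₀ →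
        ∃ (j : Jᵒᵖ) (gj : D.obj j ⟶ X), gj ≫ f = t.app j ∧ c.π.app j ≫ gj = g) :
    LocallyOfFinitePresentation f := by
  rw [HasRingHomProperty.iff_appLE (P := @LocallyOfFinitePresentation)]
  intro U V e
  apply finitePresentation_of_lifting
  intro J _ _ _ F α cF hcF j₀ φ hφ
  have hnat : ∀ {j j' : J} (i : j' ⟶ j), α.app j = α.app j' ≫ F.map i := by
    intro j j' i
    have := α.naturality i
    simpa using this
  let t : F.op ⋙ Scheme.Spec ⟶ (Functor.const Jᵒᵖ).obj S :=
    { app := fun j => Spec.map (α.app j.unop) ≫ U.2.fromSpec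
      naturality := fun j j' i => by
        show Spec.map (F.map i.unop) ≫ Spec.map (α.app j'.unop) ≫ U.2.fromSpec =
          (Spec.map (α.app j.unop) ≫ U.2.fromSpec) ≫ 𝟙 S
        rw [Category.comp_id, hnat i.unop, Spec.map_comp, Category.assoc] }
  have haff : ∀ j, IsAffine ((F.op ⋙ Scheme.Spec).obj j) := fun j => by
    show IsAffine (Spec (F.obj j.unop)); infer_instance
  have hg : (Spec.map φ ≫ V.2.fromSpec) ≫ f =
      Spec.map (cF.ι.app j₀) ≫ Spec.map (α.app j₀) ≫ U.2.fromSpec := by
    rw [Category.assoc, ← IsAffineOpen.SpecMap_appLE_fromSpec f U.2 V.2 e,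
      ← Spec.map_comp_assoc, hφ, Spec.map_comp_assoc]
  obtain ⟨j, gj, hgj1, hgj2⟩ := h J (F.op ⋙ Scheme.Spec) t (Scheme.Spec.mapCone cF.op)
    (isLimitOfPreserves Scheme.Spec hcF.op) haff (op j₀) (Spec.map φ ≫ V.2.fromSpec) hg
  -- shrink so that the map lands in `V`
  have hW : (Scheme.Spec.mapCone cF.op).π.app j ⁻¹ᵁ (gj ⁻¹ᵁ V.1) = ⊤ := by
    rw [← Scheme.Hom.comp_preimage, hgj2, Scheme.Hom.comp_preimage,
      IsAffineOpen.fromSpec_preimage_self, Scheme.Hom.preimage_top]
  haveI : ∀ j, IsAffine ((F.op ⋙ Scheme.Spec).obj j) := haff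
  obtain ⟨k, a, hk⟩ := exists_map_eq_top (F.op ⋙ Scheme.Spec) (Scheme.Spec.mapCone cF.op)
    (isLimitOfPreserves Scheme.Spec hcF.op) (gj ⁻¹ᵁ V.1) hW
  have H : Set.range ((F.op ⋙ Scheme.Spec).map a ≫ gj) ⊆ Set.range V.2.fromSpec := by
    rw [V.2.range_fromSpec]
    rintro _ ⟨x, rfl⟩
    have hx : x ∈ ((F.op ⋙ Scheme.Spec).map a ⁻¹ᵁ (gj ⁻¹ᵁ V.1)) := by rw [hk]; trivial
    exact hx
  let l : Spec (F.obj k.unop) ⟶ Spec Γ(X, V.1) :=
    IsOpenImmersion.lift V.2.fromSpec ((F.op ⋙ Scheme.Spec).map a ≫ gj) H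
  have hl : l ≫ V.2.fromSpec = (F.op ⋙ Scheme.Spec).map a ≫ gj :=
    IsOpenImmersion.lift_fac _ _ _
  refine ⟨k.unop, Spec.preimage l, ?_, ?_⟩
  · apply Spec.map_injective
    rw [Spec.map_comp, Spec.map_preimage, ← cancel_mono U.2.fromSpec, Category.assoc,
      IsAffineOpen.SpecMap_appLE_fromSpec f U.2 V.2 e, reassoc_of% hl, hgj1]
    exact (t.naturality a).trans (Category.comp_id _)
  · apply Spec.map_injective
    rw [Spec.map_comp, Spec.map_preimage, ← cancel_mono V.2.fromSpec, Category.assoc, hl]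
    have := (Scheme.Spec.mapCone cF.op).w a
    rw [← hgj2, ← this, Category.assoc]
    rfl

end Groth.Agent.Lib.LfpLiftH7
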