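import Groth.Agent.Lib.LimTower5_helper7
import Groth.Agent.Lib.ImmDescent_helper7

/-!
# Immersions into a limit of affine schemes are eventually immersions into the stages (helper7)

Scheme level input for S10010.

* `isImmersion_of_forall_exists_isClosedImmersion_restrict`: a morphism which restricts to a closed
  immersion over opens covering its image is an immersion.
* `exists_isClosedImmersion_restrict`: closed immersion at a finite stage over (the preimages of)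
  one affine open of a stage.
* `exists_isImmersion_of_lft`: an immersion from a quasi-compact scheme, locally of finite type
  over the base, into a cofiltered limit of affine schemes is an immersion into the small stages.
* `isImmersion_of_etale_chart`: immersions descend along an étale map covering the image.
-/

set_option autoImplicit false
set_option linter.style.haveILetI false

universe u

open CategoryTheory CategoryTheory.Limits AlgebraicGeometry Opposite Topology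

namespace Groth.Agent.Lib.SchLimTowerH7

/-! ### Gluing closed immersions over opens covering the image -/

set_option backward.isDefEq.respectTransparency false in
theorem isImmersion_of_forall_exists_isClosedImmersion_restrict {X Y : Scheme.{u}} (f : X ⟶ Y)
    (h : ∀ x : X, ∃ U : Y.Opens, f x ∈ U ∧ IsClosedImmersion (f ∣_ U)) : IsImmersion f := by
  choose U hU hcl using h
  let O : Y.Opens := ⨆ x, U x
  have hO : f ⁻¹ᵁ O = ⊤ := by
    rw [eq_top_iff]
    intro x _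
    exact TopologicalSpace.Opens.mem_iSup.2 ⟨x, hU x⟩
  have hcov : ⨆ x, (O.ι ⁻¹ᵁ U x) = ⊤ := by
    rw [eq_top_iff]
    rintro ⟨y, hy⟩ _
    obtain ⟨x, hx⟩ := TopologicalSpace.Opens.mem_iSup.1 hy
    exact TopologicalSpace.Opens.mem_iSup.2 ⟨x, hx⟩
  haveI hclO : IsClosedImmersion (f ∣_ O) := by
    refine (IsZariskiLocalAtTarget.iff_of_iSup_eq_top (P := @IsClosedImmersion) _ hcov).2
      fun x => ?_
    have himg : O.ι ''ᵁ (O.ι ⁻¹ᵁ U x) = U x := by
      rw [Scheme.Hom.image_preimage_eq_opensRange_inf, Scheme.Opens.opensRange_ι]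
      exact inf_eq_right.2 (le_iSup U x)
    exact (MorphismProperty.arrow_mk_iso_iff @IsClosedImmersion
      (morphismRestrictRestrict f O (O.ι ⁻¹ᵁ U x) ≪≫ morphismRestrictEq f himg)).2 (hcl x)
  have h1 : IsImmersion ((f ⁻¹ᵁ O).ι ≫ f) := by
    rw [← morphismRestrict_ι]
    infer_instance
  haveI h2 : IsIso (f ⁻¹ᵁ O).ι :=
    isIso_of_isOpenImmersion_of_opensRange_eq_top _ (by rw [Scheme.Opens.opensRange_ι, hO])
  exact (MorphismProperty.cancel_left_of_respectsIso @IsImmersion (f ⁻¹ᵁ O).ι f).1 h1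

/-! ### Closed immersion at a finite stage over one affine open -/

set_option backward.isDefEq.respectTransparency false in
theorem exists_isClosedImmersion_restrict {J : Type u} [SmallCategory J] [IsCofiltered J]
    (F : J ⥤ Scheme.{u}) [∀ j, IsAffine (F.obj j)] {Z : Scheme.{u}} [IsAffine Z]
    (q : ∀ j, F.obj j ⟶ Z) (cF : Cone F) (hcF : IsLimit cF) [IsAffine cF.pt] (w : cF.pt ⟶ Z)
    (hw : ∀ j, cF.π.app j ≫ q j = w) {V : Scheme.{u}} (v : V ⟶ cF.pt)
    [IsImmersion v] [LocallyOfFiniteType (v ≫ w)]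
    (i : J) (D : (F.obj i).Opens) (hD : IsAffineOpen D)
    (hDc : cF.π.app i ⁻¹ᵁ D ≤ v.coborderRange) :
    ∃ k₀ : Over i, ∀ (k : Over i) (_ : k ⟶ k₀),
      IsClosedImmersion ((v ≫ cF.π.app k.left) ∣_ (F.map k.hom ⁻¹ᵁ D)) := by
  haveI : ∀ j, IsAffine (((Functor.const J).obj cF.pt).obj j) := fun _ => ‹IsAffine cF.pt›
  have hWaff : IsAffineOpen (cF.π.app i ⁻¹ᵁ D) := hD.preimage (cF.π.app i)
  haveI himm : IsImmersion (v ∣_ (cF.π.app i ⁻¹ᵁ D)) :=
    IsZariskiLocalAtTarget.restrict (P := @IsImmersion) inferInstance _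
  haveI hci : IsClosedImmersion (v ∣_ (cF.π.app i ⁻¹ᵁ D)) := by
    refine IsClosedImmersion.of_isPreimmersion _ ?_
    rw [morphismRestrict_base, Set.range_restrictPreimage]
    have hsub : ((cF.π.app i ⁻¹ᵁ D : cF.pt.Opens) : Set cF.pt) ⊆ coborder (Set.range v) := hDc
    exact IsClosed.preimage (continuous_inclusion hsub)
      (isClosed_preimage_val_coborder (s := Set.range v))
  haveI : IsAffine ((cF.π.app i ⁻¹ᵁ D : cF.pt.Opens) : Scheme.{u}) := hWaff
  haveI : IsAffine ((v ⁻¹ᵁ (cF.π.app i ⁻¹ᵁ D) : V.Opens) : Scheme.{u}) :=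
    isAffine_of_isAffineHom (v ∣_ (cF.π.app i ⁻¹ᵁ D))
  haveI : ∀ k : Over i, IsAffine ((opensDiagram F i D).obj k) :=
    fun k => hD.preimage (F.map k.hom)
  haveI : IsAffine (opensCone F cF i D).pt := hWaff
  let v' : ((v ⁻¹ᵁ (cF.π.app i ⁻¹ᵁ D) : V.Opens) : Scheme.{u}) ⟶ (opensCone F cF i D).pt :=
    v ∣_ (cF.π.app i ⁻¹ᵁ D)
  let w' : (opensCone F cF i D).pt ⟶ Z := (cF.π.app i ⁻¹ᵁ D).ι ≫ w
  haveI : IsClosedImmersion v' := hci
  haveI : LocallyOfFiniteType (v' ≫ w') := by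
    have e : v' ≫ w' = (v ⁻¹ᵁ (cF.π.app i ⁻¹ᵁ D)).ι ≫ (v ≫ w) := by
      show (v ∣_ (cF.π.app i ⁻¹ᵁ D)) ≫ ((cF.π.app i ⁻¹ᵁ D).ι ≫ w) = _
      rw [← Category.assoc, morphismRestrict_ι, Category.assoc]
    rw [e]
    infer_instance
  obtain ⟨k₀, hk₀⟩ := Groth.Agent.Lib.LimTowerH7.exists_isClosedImmersion_of_lft
    (opensDiagram F i D) (fun k => (F.map k.hom ⁻¹ᵁ D).ι ≫ q k.left) (opensCone F cF i D)
    (isLimitOpensCone F cF hcF i D) w'
    (fun k => by
      show (cF.π.app k.left).resLE _ _ _ ≫ (F.map k.hom ⁻¹ᵁ D).ι ≫ q k.left =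
        (cF.π.app i ⁻¹ᵁ D).ι ≫ w
      rw [Scheme.Hom.resLE_comp_ι_assoc, hw])
    v'
  refine ⟨k₀, fun k φ => ?_⟩
  have e' : cF.π.app i ⁻¹ᵁ D ≤ cF.π.app k.left ⁻¹ᵁ (F.map k.hom ⁻¹ᵁ D) :=
    le_of_eq (by rw [← Scheme.Hom.comp_preimage, cF.w])
  have h1 : IsClosedImmersion ((v ∣_ (cF.π.app i ⁻¹ᵁ D)) ≫
      (cF.π.app k.left).resLE (F.map k.hom ⁻¹ᵁ D) (cF.π.app i ⁻¹ᵁ D) e') := hk₀ k φ
  rw [← Scheme.Hom.resLE_eq_morphismRestrict, Scheme.Hom.resLE_comp_resLE] at h1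
  have key : ∀ (V' : V.Opens) (_ : V' = (v ≫ cF.π.app k.left) ⁻¹ᵁ (F.map k.hom ⁻¹ᵁ D))
      (e : V' ≤ (v ≫ cF.π.app k.left) ⁻¹ᵁ (F.map k.hom ⁻¹ᵁ D)),
      IsClosedImmersion ((v ≫ cF.π.app k.left).resLE (F.map k.hom ⁻¹ᵁ D) V' e) →
      IsClosedImmersion ((v ≫ cF.π.app k.left) ∣_ (F.map k.hom ⁻¹ᵁ D)) := by
    rintro _ rfl e h
    rwa [Scheme.Hom.resLE_eq_morphismRestrict] at h
  refine key _ ?_ _ h1
  rw [Scheme.Hom.comp_preimage v,
    ← Scheme.Hom.comp_preimage (cF.π.app k.left) (F.map k.hom) D, cF.w]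

/-! ### Immersion at a finite stage -/

set_option backward.isDefEq.respectTransparency false in
theorem exists_isImmersion_of_lft {J : Type u} [SmallCategory J] [IsCofiltered J]
    (F : J ⥤ Scheme.{u}) [∀ j, IsAffine (F.obj j)] {Z : Scheme.{u}} [IsAffine Z]
    (q : ∀ j, F.obj j ⟶ Z) (cF : Cone F) (hcF : IsLimit cF) [IsAffine cF.pt] (w : cF.pt ⟶ Z)
    (hw : ∀ j, cF.π.app j ≫ q j = w) {V : Scheme.{u}} [CompactSpace V] (v : V ⟶ cF.pt)
    [IsImmersion v] [LocallyOfFiniteType (v ≫ w)] :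
    ∃ j₀ : J, ∀ (j : J) (_ : j ⟶ j₀), IsImmersion (v ≫ cF.π.app j) := by
  classical
  have key : ∀ x : V, ∃ (i : J) (D : (F.obj i).Opens) (k₀ : Over i),
      v x ∈ cF.π.app i ⁻¹ᵁ D ∧ ∀ (k : Over i) (_ : k ⟶ k₀),
        IsClosedImmersion ((v ≫ cF.π.app k.left) ∣_ (F.map k.hom ⁻¹ᵁ D)) := by
    intro x
    have hmem : v x ∈ v.coborderRange := subset_coborder (Set.mem_range_self x)
    obtain ⟨_, ⟨i, D, hD, rfl⟩, hxD, hle⟩ := TopologicalSpace.Opens.isBasis_iff_nbhd.mp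
      (isBasis_preimage_isAffineOpen F cF hcF) hmem
    obtain ⟨k₀, hk₀⟩ := exists_isClosedImmersion_restrict F q cF hcF w hw v i D hD hle
    exact ⟨i, D, k₀, hxD, hk₀⟩
  choose i D k₀ hx hcl using key
  obtain ⟨s, hs⟩ := isCompact_univ.elim_finite_subcover
    (fun x => ((v ⁻¹ᵁ (cF.π.app (i x) ⁻¹ᵁ D x) : V.Opens) : Set V))
    (fun x => (v ⁻¹ᵁ (cF.π.app (i x) ⁻¹ᵁ D x)).2)
    (fun y _ => Set.mem_iUnion.2 ⟨y, hx y⟩)
  obtain ⟨j₀, hj₀⟩ := IsCofiltered.inf_objs_exists (s.image fun x => (k₀ x).left)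
  refine ⟨j₀, fun j φ => ?_⟩
  apply isImmersion_of_forall_exists_isClosedImmersion_restrict
  intro y
  obtain ⟨x, hxs, hyx⟩ : ∃ x ∈ s, v y ∈ cF.π.app (i x) ⁻¹ᵁ D x := by
    have h0 := hs (Set.mem_univ y)
    simp only [Set.mem_iUnion, exists_prop] at h0
    exact h0
  obtain ⟨ψ⟩ := hj₀ (Finset.mem_image_of_mem (fun x => (k₀ x).left) hxs)
  let k : Over (i x) := Over.mk ((φ ≫ ψ) ≫ (k₀ x).hom)
  let θ : k ⟶ k₀ x := Over.homMk (φ ≫ ψ) rfl
  refine ⟨F.map k.hom ⁻¹ᵁ D x, ?_, hcl x k θ⟩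
  have hop : (v ≫ cF.π.app j) ⁻¹ᵁ (F.map k.hom ⁻¹ᵁ D x) = v ⁻¹ᵁ (cF.π.app (i x) ⁻¹ᵁ D x) := by
    rw [Scheme.Hom.comp_preimage v,
      ← Scheme.Hom.comp_preimage (cF.π.app j) (F.map k.hom) (D x), cF.w]
  have hmem : y ∈ (v ≫ cF.π.app j) ⁻¹ᵁ (F.map k.hom ⁻¹ᵁ D x) := by
    rw [hop]
    exact hyx
  exact hmem

/-! ### Descent of immersions along an étale map covering the image -/

set_option backward.isDefEq.respectTransparency false in
theorem isImmersion_of_etale_chart {X Y Y' P : Scheme.{u}} {f : X ⟶ Y} {π : Y' ⟶ Y}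
    {fst : P ⟶ X} {f' : P ⟶ Y'} (sq : IsPullback fst f' f π) [Etale π]
    (hr : Set.range f ⊆ Set.range π) [IsImmersion f'] : IsImmersion f := by
  have hopen : IsOpenMap π := π.isOpenMap
  let O : Y.Opens := ⟨Set.range π, hopen.isOpen_range⟩
  have hsub : Set.range f ⊆ Set.range O.ι := by
    rw [Scheme.Opens.range_ι]
    exact hr
  let f₀ : X ⟶ O := IsOpenImmersion.lift O.ι f hsub
  have hf₀ : f₀ ≫ O.ι = f := IsOpenImmersion.lift_fac _ _ _
  suffices IsImmersion f₀ by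
    rw [← hf₀]
    infer_instance
  let π' := pullback.snd π O.ι
  have hπ' : (@Surjective ⊓ @Flat ⊓ @LocallyOfFinitePresentation :
      MorphismProperty Scheme.{u}) π' := by
    refine ⟨⟨?_, ?_⟩, ?_⟩
    · refine ⟨fun o => ?_⟩
      obtain ⟨y', hy'⟩ : O.ι o ∈ Set.range π := o.2
      obtain ⟨z, -, hz⟩ := Scheme.Pullback.exists_preimage_pullback y' o hy'
      exact ⟨z, hz⟩
    · exact MorphismProperty.pullback_snd (P := @Flat) _ _ inferInstance
    · exact MorphismProperty.pullback_snd (P := @LocallyOfFinitePresentation) _ _ inferInstance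
  haveI := Groth.Agent.Lib.ImmDescent_helper7.isImmersion_descends_fppf.{u}
  apply MorphismProperty.of_pullback_fst_of_descendsAlong (P := @IsImmersion)
    (Q := @Surjective ⊓ @Flat ⊓ @LocallyOfFinitePresentation) (f := π') (g := f₀) hπ'
  have h1 : IsImmersion (pullback.fst π (f₀ ≫ O.ι)) := by
    rw [hf₀]
    have e : pullback.fst π f = sq.flip.isoPullback.inv ≫ f' := by
      rw [Iso.eq_inv_comp, IsPullback.isoPullback_hom_fst]
    rw [e]
    infer_instance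
  have himm : IsImmersion (pullback.fst π' f₀ ≫ pullback.fst π O.ι) := by
    rw [← pullbackLeftPullbackSndIso_hom_fst]
    infer_instance
  exact IsImmersion.of_comp _ (pullback.fst π O.ι)

end Groth.Agent.Lib.SchLimTowerH7
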