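import Groth.Agent.Lib.LimSepB_helper7
import Groth.Agent.Lib.LimImmA_helper7

/-!
# Immersions into a limit of algebraic spaces are eventually immersions into the stages (helper7)

`main10010`.
-/

set_option autoImplicit false
set_option linter.style.haveILetI false

universe u

open CategoryTheory CategoryTheory.Limits AlgebraicGeometry Opposite Topology
open AlgSp Groth.Agent.Lib.AlgSpPullback_helper7 Groth.Agent.Lib.AlgSpQC_helper7
  Groth.Agent.Lib.AlgSpPoints_helper7 Groth.Agent.Lib.AlgSpQC2_helper7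
  Groth.Agent.Lib.MonicGsectH6 Groth.Agent.Lib.AlgSpSep_helper7
  Groth.Agent.Lib.AlgSpDiag_helper7 Groth.Agent.Lib.AlgSpProper_helper7
  Groth.Agent.Lib.AlgSpEpi_helper7 Groth.Agent.Lib.AlgSpFormal5_helper7
  Groth.Agent.Lib.AlgSpIso_helper7
  Groth.Agent.Lib.SchLimTowerH7
  Groth.Agent.Lib.AlgSpLocP_helper7 Groth.Agent.Lib.AlgSpAffineMorH7 Groth.Agent.Lib.AffDescH7
  Groth.Agent.Lib.AlgSpFpqc3_helper7 Groth.Agent.Lib.AlgSpLocP4_helper7
  Groth.Agent.Lib.AlgSpDescent_helper7 Groth.Agent.Lib.AlgSpDescent2_helper7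

namespace Groth.Agent.Lib.LimTowerH7

variable {S : Scheme.{u}}

set_option backward.isDefEq.respectTransparency false in
/-- Descent of immersions along an étale chart of the target which covers the image. -/
theorem repWith_isImmersion_of_chart {F G : Sp S} (f : F ⟶ G) (hf : Representable f)
    {U V : Over S} (q : (yon S).obj U ⟶ G) (hqe : RepWith @Etale q)
    (hrange : Set.range (Points.map f) ⊆ Set.range (Points.ofPt q))
    (fst : (yon S).obj V ⟶ F) (g : V ⟶ U) (sq : IsPullback fst ((yon S).map g) f q)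
    (hg : IsImmersion g.left) : RepWith @IsImmersion f := by
  refine ⟨hf, fun T W c fstW w sqW => ?_⟩
  let T' := hqe.rep.pullback c
  let π : T' ⟶ T := hqe.rep.snd c
  let t : T' ⟶ U := hqe.rep.fst' c
  have sqT : IsPullback ((yon S).map t) ((yon S).map π) q c := hqe.rep.isPullback' c
  have hπe : Etale π.left := hqe.property_snd c
  have sqA := isPullback_restrict sqW π
  have sqB := isPullback_restrict sq t
  rw [← sqT.w] at sqA
  have h1 : IsImmersion (pullback.snd g t).left := by
    have := ((IsPullback.of_hasPullback g t).map (Over.forget S))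
    exact MorphismProperty.of_isPullback (P := @IsImmersion) this hg
  have h2 : IsImmersion (pullback.snd w π).left :=
    (property_iff_of_isPullback @IsImmersion sqA sqB).2 h1
  have sqS : IsPullback (pullback.fst w π).left (pullback.snd w π).left w.left π.left :=
    (IsPullback.of_hasPullback w π).map (Over.forget S)
  have hr : Set.range w.left ⊆ Set.range π.left := by
    rintro _ ⟨x, rfl⟩
    obtain ⟨u, hu⟩ := hrange ⟨Points.ofPt fstW x, rfl⟩
    have h3 : Points.ofPt q u = Points.ofPt c (w.left x) := by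
      rw [hu, Points.map_ofPt, sqW.w, ofPt_comp]
    obtain ⟨z, -, hz⟩ := exists_ofPt_eq_of_isPullback sqT u (w.left x) h3
    exact ⟨z, hz⟩
  haveI := hπe
  haveI := h2
  exact isImmersion_of_etale_chart sqS hr

set_option backward.isDefEq.respectTransparency false in
/-- **Immersion at a finite stage.** -/
theorem main10010 [QuasiSeparatedSpace ↥S] {I : Type u} [SmallCategory I] [IsCofiltered I]
    (B : Sp S) (hB : IsAlgSpace B) (D : I ⥤ Sp S) (hD : ∀ i, IsAlgSpace (D.obj i))
    (t : D ⟶ (Functor.const I).obj B)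
    (hDa : ∀ (i j : I) (φ : i ⟶ j), IsAffineMor (D.map φ))
    (c : Cone D) (hc : IsLimit c)
    (hqs : ∀ i, IsQuasiSeparatedSp (D.obj i))
    {Y : Sp S} (hY : IsAlgSpace Y) (hYqc : IsQuasiCompactSp Y) (y : Y ⟶ c.pt)
    (hy : RepWith @IsImmersion y) (i₁ : I)
    (hYB : LocP @LocallyOfFiniteType (y ≫ c.π.app i₁ ≫ t.app i₁)) :
    ∃ i₀ : I, ∀ (i : I) (_ : i ⟶ i₀), RepWith @IsImmersion (y ≫ c.π.app i) := by
  have hπaffm : ∀ i, IsAffineMor (c.π.app i) := (main10004 D hD hDa c hc).2
  have hπrep : ∀ i, (yon S).relativelyRepresentable (c.π.app i) := fun i =>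
    (repWith_isAffineHom_of_isAffineMor _ (hπaffm i)).rep
  have hyrep : ∀ i, (yon S).relativelyRepresentable (y ≫ c.π.app i) := fun i =>
    MorphismProperty.comp_mem _ _ _ hy.rep (hπrep i)
  -- (1) an affine étale chart of `X_{i₁}` covering the image of `Y`
  haveI : CompactSpace (Points Y) := compactSpace_of_isQuasiCompactSp hYqc
  have hK : IsCompact (Set.range (Points.map (y ≫ c.π.app i₁))) :=
    isCompact_range (Points.continuous_map (y ≫ c.π.app i₁))
  obtain ⟨V₀, r, hre, hVc, hKr⟩ := exists_compact_chart (hD i₁) _ hK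
  haveI : CompactSpace ↥V₀.left := hVc
  obtain ⟨W₀, q₀, hq₀s, hq₀e, hW₀⟩ :=
    Scheme.exists_hom_isAffine_of_isZariskiLocalAtSource @Etale V₀.left
  obtain ⟨Z, g, hZ, hge, hKg⟩ : ∃ (Z : Over S) (g : (yon S).obj Z ⟶ D.obj i₁),
      IsAffine Z.left ∧ RepWith @Etale g ∧
      Set.range (Points.map (y ≫ c.π.app i₁)) ⊆ Set.range (Points.ofPt g) := by
    let Z : Over S := Over.mk (q₀ ≫ V₀.hom)
    let jW : Z ⟶ V₀ := Over.homMk q₀ rfl
    refine ⟨Z, (yon S).map jW ≫ r, hW₀,
      repWith_comp @Etale ((repWith_yon_map_iff @Etale jW).2 hq₀e) hre, ?_⟩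
    intro z hz
    obtain ⟨x, rfl⟩ := hKr hz
    obtain ⟨w', rfl⟩ := hq₀s.surj x
    exact ⟨w', ofPt_comp jW r w'⟩
  haveI : IsAffine Z.left := hZ
  -- (2) the tower
  obtain ⟨E, p, q, cE, fst, w, sq, hp, hq, hEaff, hqaff, ⟨hcE⟩, ⟨hl⟩, hπaff, hw, hfst, pb,
    hwaff⟩ := exists_tower D hDa c hc i₁ g
  have hEa : ∀ j, IsAffine (E.obj j).left := fun j => by
    haveI := hqaff j
    exact isAffine_of_isAffineHom (q j).left
  haveI : ∀ j, IsAffine ((E ⋙ Over.forget S).obj j) := hEa
  haveI hWa : IsAffine cE.pt.left := by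
    haveI := hwaff
    exact isAffine_of_isAffineHom w.left
  haveI : IsAffine ((Over.forget S).mapCone cE).pt := hWa
  -- (3) the base change of `y`
  let V : Over S := hy.rep.pullback fst
  let v : V ⟶ cE.pt := hy.rep.snd fst
  let fstV : (yon S).obj V ⟶ Y := hy.rep.fst fst
  have sqV : IsPullback fstV ((yon S).map v) y fst := hy.rep.isPullback fst
  haveI hvimm : IsImmersion v.left := hy.property _ _ _ sqV
  have sqBig : IsPullback fstV ((yon S).map (v ≫ w)) (y ≫ c.π.app i₁) g := by
    rw [(yon S).map_comp]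
    exact sqV.paste_vert pb
  -- quasi-compactness of `V`
  haveI hVqc : CompactSpace ↥V.left := by
    have hgqc : IsQuasiCompactMor g :=
      isQuasiCompactMor_of_isQuasiCompactSp_of_isQuasiSeparatedSp (IsAlgSpace.yon_obj Z) g
        (isQuasiCompactSp_yon Z) (hqs i₁)
    exact compactSpace_of_isQuasiCompactSp_yon V
      (hgqc hY hYqc (y ≫ c.π.app i₁) ((yon S).map (v ≫ w)) fstV sqBig.flip)
  -- finite type
  have h' : LocP @LocallyOfFiniteType ((y ≫ c.π.app i₁) ≫ t.app i₁) := by
    rw [Category.assoc]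
    exact hYB
  have hlocP : LocP @LocallyOfFiniteType (y ≫ c.π.app i₁) :=
    Groth.Agent.Lib.AlgSpUnramLocusH7.locP_lft_of_comp hB _ _ h'
  have hlft : RepWith @LocallyOfFiniteType (y ≫ c.π.app i₁) :=
    Groth.Agent.Lib.AlgSpProper_helper7.repWith_of_locP @LocallyOfFiniteType
      (descendsEtale_of_descendsAlong _) (hD i₁) _ (hyrep i₁) hlocP
  haveI : LocallyOfFiniteType (v.left ≫ w.left) := hlft.property _ _ _ sqBig
  -- (4) the scheme level statement
  obtain ⟨j₀, hj₀⟩ := exists_isImmersion_of_lft (E ⋙ Over.forget S)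
    (fun j => (q j).left) ((Over.forget S).mapCone cE) hl w.left
    (fun j => by
      show (cE.π.app j).left ≫ (q j).left = w.left
      rw [← Over.comp_left, hw j])
    v.left
  refine ⟨j₀.left, fun i ψ => ?_⟩
  let j : Over i₁ := Over.mk (ψ ≫ j₀.hom)
  let φ : j ⟶ j₀ := Over.homMk ψ rfl
  have himm : IsImmersion (v.left ≫ (cE.π.app j).left) := hj₀ j φ
  have sqL := isPullback_stage D c i₁ g p q cE fst w sq hw hfst pb j
  have hpe : RepWith @Etale (p j) := repWith_fst_of_isPullback _ (sq j) hge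
  have sqJ : IsPullback fstV ((yon S).map (v ≫ cE.π.app j)) (y ≫ c.π.app j.left) (p j) := by
    rw [(yon S).map_comp]
    exact sqV.paste_vert sqL
  -- the image of `Y` lies in the image of the chart
  have hrange : Set.range (Points.map (y ≫ c.π.app j.left)) ⊆
      Set.range (Points.ofPt (p j)) := by
    rintro _ ⟨x, rfl⟩
    obtain ⟨z, hz⟩ := hKg ⟨x, rfl⟩
    have h1 : Points.map (D.map j.hom) (Points.map (y ≫ c.π.app j.left) x) =
        Points.map g (Points.ofScheme Z z) := by
      rw [← Points.map_comp, Category.assoc, c.w, ← Points.ofPt_eq_map_ofScheme]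
      exact hz.symm
    obtain ⟨e, he, -⟩ := exists_of_isPullback (sq j) _ _ h1
    obtain ⟨e', rfl⟩ := ofScheme_surjective (E.obj j) e
    exact ⟨e', by rw [Points.ofPt_eq_map_ofScheme]; exact he⟩
  exact repWith_isImmersion_of_chart (y ≫ c.π.app i) (hyrep i) (p j) hpe hrange fstV
    (v ≫ cE.π.app j) sqJ himm

end Groth.Agent.Lib.LimTowerH7
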