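import Groth.Agent.Lib.LfpLift1_helper7
import Groth.Agent.Lib.LimImmB_helper7

/-!
# Locally finitely presented morphisms of algebraic spaces from the lifting property (helper7)

`main10031`: a morphism of algebraic spaces with the lifting property along cofiltered limits of
affine schemes is locally of finite presentation (chartwise).
-/

set_option autoImplicit false
set_option linter.style.haveILetI false

universe u

open CategoryTheory CategoryTheory.Limits AlgebraicGeometry Opposite Topology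
open AlgSp Groth.Agent.Lib.AlgSpPullback_helper7 Groth.Agent.Lib.AlgSpQC_helper7
  Groth.Agent.Lib.AlgSpPoints_helper7 Groth.Agent.Lib.AlgSpQC2_helper7
  Groth.Agent.Lib.MonicGsectH6 Groth.Agent.Lib.AlgSpSep_helper7
  Groth.Agent.Lib.AlgSpDiag_helper7 Groth.Agent.Lib.AlgSpProper_helper7
  Groth.Agent.Lib.AlgSpEpi_helper7 Groth.Agent.Lib.AlgSpFormal5_helper7
  Groth.Agent.Lib.AlgSpIso_helper7
  Groth.Agent.Lib.SchLimTowerH7
  Groth.Agent.Lib.AlgSpLocP_helper7 Groth.Agent.Lib.AlgSpAffineMorH7 Groth.Agent.Lib.AffDescH7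
  Groth.Agent.Lib.AlgSpFpqc3_helper7 Groth.Agent.Lib.AlgSpLocP4_helper7
  Groth.Agent.Lib.AlgSpDescent_helper7 Groth.Agent.Lib.AlgSpDescent2_helper7

namespace Groth.Agent.Lib.LfpLiftH7

variable {S : Scheme.{u}}

/-! ### Scheme level: descending a section over a stage -/

theorem lfp_of_etale {X Y : Scheme.{u}} (f : X ⟶ Y) [Etale f] : LocallyOfFinitePresentation f :=
  inferInstance

/-- The structure maps of the tower restricted to the stages above `j₁`. -/
def overStageT {I : Type u} [SmallCategory I] (D : I ⥤ Scheme.{u}) (j₁ : I) :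
    Over.forget j₁ ⋙ D ⟶ (Functor.const (Over j₁)).obj (D.obj j₁) where
  app k := D.map k.hom
  naturality k k' m := by
    show D.map m.left ≫ D.map k'.hom = D.map k.hom ≫ 𝟙 _
    rw [Category.comp_id, ← D.map_comp, Over.w m]

set_option backward.isDefEq.respectTransparency false in
theorem exists_section_descent {I : Type u} [SmallCategory I] [IsCofiltered I] (D : I ⥤ Scheme.{u})
    (c : Cone D) (hc : IsLimit c) (haff : ∀ i, IsAffine (D.obj i)) {j₁ : I} {W : Scheme.{u}}
    (π₁ : W ⟶ D.obj j₁) [LocallyOfFinitePresentation π₁] (s : c.pt ⟶ W)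
    (hs : s ≫ π₁ = c.π.app j₁) :
    ∃ (k : I) (φ : k ⟶ j₁) (σ : D.obj k ⟶ W), c.π.app k ≫ σ = s ∧ σ ≫ π₁ = D.map φ := by
  have hcK : IsLimit (c.whisker (Over.forget j₁)) :=
    (Functor.Initial.isLimitWhiskerEquiv (Over.forget j₁) c).symm hc
  haveI : ∀ k : Over j₁, IsAffine ((Over.forget j₁ ⋙ D).obj k) := fun k => haff k.left
  obtain ⟨k, σ, h1, h2⟩ := Scheme.exists_π_app_comp_eq_of_locallyOfFinitePresentation
    (Over.forget j₁ ⋙ D) (overStageT D j₁) π₁ (c.whisker (Over.forget j₁)) hcK s (by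
      ext k
      show c.π.app k.left ≫ D.map k.hom = s ≫ π₁
      rw [hs, c.w])
  exact ⟨k.left, k.hom, σ, h1, h2⟩

theorem cone_comp_const {I : Type u} [SmallCategory I] [IsCofiltered I] {D : I ⥤ Scheme.{u}}
    {X : Scheme.{u}} (s : D ⟶ (Functor.const I).obj X) (c : Cone D) (i j : I) :
    c.π.app i ≫ s.app i = c.π.app j ≫ s.app j := by
  have key : ∀ {k l : I} (a : k ⟶ l), c.π.app l ≫ s.app l = c.π.app k ≫ s.app k := by
    intro k l a
    rw [← c.w a, Category.assoc]
    congr 1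
    exact (s.naturality a).trans (Category.comp_id _)
  rw [key (IsCofiltered.minToLeft i j), key (IsCofiltered.minToRight i j)]

/-! ### Uniqueness up to refinement for maps to an étale chart -/

/-- The structure maps of the restricted tower to `V` through a stage `k` map. -/
def overT {I : Type u} [SmallCategory I] (D : I ⥤ Over S) {k : I} {V : Over S} (m : D.obj k ⟶ V) :
    Over.forget k ⋙ D ⋙ Over.forget S ⟶ (Functor.const (Over k)).obj V.left where
  app κ := (D.map κ.hom).left ≫ m.left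
  naturality κ κ' e := by
    show (D.map e.left).left ≫ (D.map κ'.hom).left ≫ m.left =
      ((D.map κ.hom).left ≫ m.left) ≫ 𝟙 _
    rw [Category.comp_id, ← Category.assoc]
    congr 1
    rw [← Over.comp_left, ← D.map_comp, Over.w e]

set_option backward.isDefEq.respectTransparency false in
theorem exists_map_comp_eq_of_repWith_etale {I : Type u} [SmallCategory I] [IsCofiltered I]
    (D : I ⥤ Over S) (c : Cone D) (hc : IsLimit ((Over.forget S).mapCone c))
    (haff : ∀ i, IsAffine (D.obj i).left)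
    {V : Over S} {Y : Sp S} (b : (yon S).obj V ⟶ Y) (hb : RepWith @Etale b)
    {k : I} (m₁ m₂ : D.obj k ⟶ V) (h1 : (yon S).map m₁ ≫ b = (yon S).map m₂ ≫ b)
    (h2 : c.π.app k ≫ m₁ = c.π.app k ≫ m₂) :
    ∃ (k' : I) (φ : k' ⟶ k), D.map φ ≫ m₁ = D.map φ ≫ m₂ := by
  have sqR : IsPullback ((yon S).map (hb.rep.fst' b)) ((yon S).map (hb.rep.snd b)) b b :=
    hb.rep.isPullback' b
  haveI hpr₂ : Etale (hb.rep.snd b).left := hb.property_snd b
  obtain ⟨aR, haR1, haR2⟩ : ∃ aR : D.obj k ⟶ hb.rep.pullback b,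
      aR ≫ hb.rep.fst' b = m₁ ∧ aR ≫ hb.rep.snd b = m₂ := by
    refine ⟨(yon S).preimage (sqR.lift ((yon S).map m₁) ((yon S).map m₂) h1), ?_, ?_⟩
    · apply (yon S).map_injective
      rw [Functor.map_comp, Functor.map_preimage, IsPullback.lift_fst]
    · apply (yon S).map_injective
      rw [Functor.map_comp, Functor.map_preimage, IsPullback.lift_snd]
  obtain ⟨bR, hbR1, hbR2⟩ : ∃ bR : D.obj k ⟶ hb.rep.pullback b,
      bR ≫ hb.rep.fst' b = m₂ ∧ bR ≫ hb.rep.snd b = m₂ := by
    refine ⟨(yon S).preimage (sqR.lift ((yon S).map m₂) ((yon S).map m₂) rfl), ?_, ?_⟩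
    · apply (yon S).map_injective
      rw [Functor.map_comp, Functor.map_preimage, IsPullback.lift_fst]
    · apply (yon S).map_injective
      rw [Functor.map_comp, Functor.map_preimage, IsPullback.lift_snd]
  have hab : c.π.app k ≫ aR = c.π.app k ≫ bR := by
    apply (yon S).map_injective
    apply sqR.hom_ext
    · rw [← Functor.map_comp, ← Functor.map_comp, Category.assoc, Category.assoc, haR1, hbR1, h2]
    · rw [← Functor.map_comp, ← Functor.map_comp, Category.assoc, Category.assoc, haR2, hbR2]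
  have hcK : IsLimit (((Over.forget S).mapCone c).whisker (Over.forget k)) :=
    (Functor.Initial.isLimitWhiskerEquiv (Over.forget k) _).symm hc
  haveI : ∀ κ : Over k, IsAffine ((Over.forget k ⋙ D ⋙ Over.forget S).obj κ) :=
    fun κ => haff κ.left
  haveI : ∀ κ : Over k, IsAffine ((Over.forget k ⋙ (D ⋙ Over.forget S)).obj κ) :=
    fun κ => haff κ.left
  have e1 : m₁.left = aR.left ≫ (hb.rep.fst' b).left := by rw [← Over.comp_left, haR1]
  have e2 : m₂.left = bR.left ≫ (hb.rep.fst' b).left := by rw [← Over.comp_left, hbR1]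
  have e3 : m₂.left = aR.left ≫ (hb.rep.snd b).left := by rw [← Over.comp_left, haR2]
  have e4 : m₂.left = bR.left ≫ (hb.rep.snd b).left := by rw [← Over.comp_left, hbR2]
  obtain ⟨κ, φ, hκ⟩ := Scheme.exists_hom_comp_eq_comp_of_locallyOfFiniteType
    (Over.forget k ⋙ D ⋙ Over.forget S) (overT D m₂) (hb.rep.snd b).left _ hcK
    (i := Over.mk (𝟙 k)) aR.left bR.left
    (by
      show (D.map (𝟙 k)).left ≫ m₂.left = aR.left ≫ (hb.rep.snd b).left
      rw [D.map_id, Over.id_left, Category.id_comp, e3])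
    (by
      show (D.map (𝟙 k)).left ≫ m₂.left = bR.left ≫ (hb.rep.snd b).left
      rw [D.map_id, Over.id_left, Category.id_comp, e4])
    (by
      show (c.π.app k).left ≫ aR.left = (c.π.app k).left ≫ bR.left
      rw [← Over.comp_left, ← Over.comp_left, hab])
  refine ⟨κ.left, κ.hom, ?_⟩
  have hφ : φ.left = κ.hom := by
    have := Over.w φ
    simpa using this
  have hκ' : (D.map κ.hom).left ≫ aR.left = (D.map κ.hom).left ≫ bR.left := by
    rw [← hφ]; exact hκ
  apply Over.OverMorphism.ext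
  show (D.map κ.hom).left ≫ m₁.left = (D.map κ.hom).left ≫ m₂.left
  rw [e1, e2, reassoc_of% hκ']

/-! ### The transfer -/

set_option backward.isDefEq.respectTransparency false in
theorem exists_lift_of_LP {X Y : Sp S} (f : X ⟶ Y)
    (hLP : ∀ ⦃I : Type u⦄ [SmallCategory I] [IsCofiltered I] (D : I ⥤ Over S) (c : Cone D),
      IsLimit ((Over.forget S).mapCone c) → (∀ i, IsAffine (D.obj i).left) → IsAffine c.pt.left →
      ∀ (x : (yon S).obj c.pt ⟶ X) (i : I) (y : (yon S).obj (D.obj i) ⟶ Y),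
        x ≫ f = (yon S).map (c.π.app i) ≫ y →
        ∃ (i' : I) (φ : i' ⟶ i) (x' : (yon S).obj (D.obj i') ⟶ X),
          (yon S).map (c.π.app i') ≫ x' = x ∧ x' ≫ f = (yon S).map (D.map φ) ≫ y)
    {U V : Over S} (a : (yon S).obj U ⟶ X) (b : (yon S).obj V ⟶ Y) (hUV : U ⟶ V)
    (ha : RepWith @Etale a) (hb : RepWith @Etale b) (comm : a ≫ f = (yon S).map hUV ≫ b)
    {I : Type u} [SmallCategory I] [IsCofiltered I] (D : I ⥤ Over S) (c : Cone D)
    (hc : IsLimit ((Over.forget S).mapCone c)) (haff : ∀ i, IsAffine (D.obj i).left)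
    (j₀ : I) (t₀ : D.obj j₀ ⟶ V) (g : c.pt ⟶ U) (hg : g ≫ hUV = c.π.app j₀ ≫ t₀) :
    ∃ (j : I) (φ : j ⟶ j₀) (gj : D.obj j ⟶ U),
      gj ≫ hUV = D.map φ ≫ t₀ ∧ c.π.app j ≫ gj = g := by
  haveI : ∀ i, IsAffine ((D ⋙ Over.forget S).obj i) := haff
  have hcaff : IsAffine c.pt.left := Scheme.isAffine_of_isLimit _ hc
  -- Step 1: lift the point to a stage
  obtain ⟨j₁, φ₁, x', hx1, hx2⟩ := hLP D c hc haff hcaff ((yon S).map g ≫ a) j₀
    ((yon S).map t₀ ≫ b) (by
      rw [Category.assoc, comm, ← Functor.map_comp_assoc, hg, Functor.map_comp_assoc])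
  -- Step 2: the étale chart over the stage and its section over the limit
  have sqW : IsPullback ((yon S).map (ha.rep.fst' x')) ((yon S).map (ha.rep.snd x')) a x' :=
    ha.rep.isPullback' x'
  haveI hπ₁ : Etale (ha.rep.snd x').left := ha.property_snd x'
  haveI hπ₁' : LocallyOfFinitePresentation (ha.rep.snd x').left := lfp_of_etale _
  obtain ⟨s, hs1, hs2⟩ : ∃ s : c.pt ⟶ ha.rep.pullback x',
      s ≫ ha.rep.fst' x' = g ∧ s ≫ ha.rep.snd x' = c.π.app j₁ := by
    refine ⟨(yon S).preimage (sqW.lift ((yon S).map g) ((yon S).map (c.π.app j₁)) hx1.symm),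
      ?_, ?_⟩
    · apply (yon S).map_injective
      rw [Functor.map_comp, Functor.map_preimage, IsPullback.lift_fst]
    · apply (yon S).map_injective
      rw [Functor.map_comp, Functor.map_preimage, IsPullback.lift_snd]
  -- Step 3: descend the section
  obtain ⟨k, φ₂, σ, hσ1, hσ2⟩ := exists_section_descent (D ⋙ Over.forget S)
    ((Over.forget S).mapCone c) hc haff (j₁ := j₁) (ha.rep.snd x').left s.left (by
      show s.left ≫ (ha.rep.snd x').left = (c.π.app j₁).left
      rw [← Over.comp_left, hs2])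
  obtain ⟨σ', hσ'⟩ : ∃ σ' : D.obj k ⟶ ha.rep.pullback x', σ'.left = σ := by
    refine ⟨Over.homMk σ ?_, rfl⟩
    have w1 := Over.w (ha.rep.snd x')
    have w2 := Over.w (D.map φ₂)
    rw [← w1, ← Category.assoc]
    have : σ ≫ (ha.rep.snd x').left = (D.map φ₂).left := hσ2
    rw [this, w2]
  have hσ'1 : c.π.app k ≫ σ' = s := by
    apply Over.OverMorphism.ext
    show (c.π.app k).left ≫ σ'.left = s.left
    rw [hσ']; exact hσ1
  have hσ'2 : σ' ≫ ha.rep.snd x' = D.map φ₂ := by
    apply Over.OverMorphism.ext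
    show σ'.left ≫ (ha.rep.snd x').left = (D.map φ₂).left
    rw [hσ']; exact hσ2
  -- Step 4: the two maps to `V` agree after `b` and over the limit
  have h1 : (yon S).map (σ' ≫ ha.rep.fst' x' ≫ hUV) ≫ b =
      (yon S).map (D.map (φ₂ ≫ φ₁) ≫ t₀) ≫ b := by
    rw [Functor.map_comp, Functor.map_comp, Category.assoc, Category.assoc, ← comm,
      ← Category.assoc ((yon S).map (ha.rep.fst' x')), sqW.w, Category.assoc, hx2,
      ← Functor.map_comp_assoc, ← Functor.map_comp_assoc, ← Functor.map_comp_assoc, hσ'2,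
      ← D.map_comp]
  have h2 : c.π.app k ≫ (σ' ≫ ha.rep.fst' x' ≫ hUV) = c.π.app k ≫ (D.map (φ₂ ≫ φ₁) ≫ t₀) := by
    rw [← Category.assoc, hσ'1, ← Category.assoc, hs1, hg, ← Category.assoc, c.w]
  obtain ⟨k', φ₃, hk'⟩ := exists_map_comp_eq_of_repWith_etale D c hc haff b hb _ _ h1 h2
  refine ⟨k', φ₃ ≫ φ₂ ≫ φ₁, D.map φ₃ ≫ σ' ≫ ha.rep.fst' x', ?_, ?_⟩
  · rw [Category.assoc, Category.assoc, hk', ← Category.assoc, ← D.map_comp]
  · rw [← Category.assoc, c.w, ← Category.assoc, hσ'1, hs1]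

set_option backward.isDefEq.respectTransparency false in
/-- **S10031**. -/
theorem main10031 (S : Scheme.{u}) {X Y : AlgSp.Space S} (f : X ⟶ Y)
    (h : ∀ ⦃I : Type u⦄ [SmallCategory I] [IsCofiltered I] (D : I ⥤ Over S) (c : Cone D),
      IsLimit ((Over.forget S).mapCone c) → (∀ i, IsAffine (D.obj i).left) → IsAffine c.pt.left →
      ∀ (x : (AlgSp.yon S).obj c.pt ⟶ X.obj) (i : I) (y : (AlgSp.yon S).obj (D.obj i) ⟶ Y.obj),
        x ≫ f.hom = (AlgSp.yon S).map (c.π.app i) ≫ y →
        ∃ (i' : I) (φ : i' ⟶ i) (x' : (AlgSp.yon S).obj (D.obj i') ⟶ X.obj),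
          (AlgSp.yon S).map (c.π.app i') ≫ x' = x ∧
            x' ≫ f.hom = (AlgSp.yon S).map (D.map φ) ≫ y) :
    AlgSp.LocP @LocallyOfFinitePresentation f.hom := by
  intro U V a b hUV ha hb comm
  apply locallyOfFinitePresentation_of_lifting
  intro J _ _ _ D t c hc haff j₀ g hg
  have hw : hUV.left ≫ V.hom = U.hom := Over.w hUV
  have hp : ∀ j, c.π.app j ≫ (t ≫ (Functor.const Jᵒᵖ).map V.hom).app j = g ≫ U.hom := by
    intro j
    rw [cone_comp_const (t ≫ (Functor.const Jᵒᵖ).map V.hom) c j j₀]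
    show c.π.app j₀ ≫ t.app j₀ ≫ V.hom = g ≫ U.hom
    rw [← hw, reassoc_of% hg]
  obtain ⟨j, φ, gj, h1, h2⟩ := exists_lift_of_LP f.hom h a b hUV ha hb comm
    (Over.lift D (t ≫ (Functor.const Jᵒᵖ).map V.hom))
    (Over.liftCone D (t ≫ (Functor.const Jᵒᵖ).map V.hom) c (g ≫ U.hom) hp)
    hc haff j₀ (Over.homMk (t.app j₀) rfl) (Over.homMk g rfl) (by
      apply Over.OverMorphism.ext
      exact hg)
  refine ⟨j, gj.left, ?_, ?_⟩
  · have := congrArg (fun m => m.left) h1
    refine (this : gj.left ≫ hUV.left = D.map φ ≫ t.app j₀).trans ?_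
    exact (t.naturality φ).trans (Category.comp_id _)
  · exact congrArg (fun m => m.left) h2

end Groth.Agent.Lib.LfpLiftH7
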