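import Groth.Agent.Lib.LfpLift1_helper7
import Mathlib.CategoryTheory.Limits.Constructions.Over.Connected

/-!
# Finite presentation from preservation of colimits of affine systems over affine opens (helper7)

`main4778`.
-/

set_option autoImplicit false
set_option linter.style.haveILetI false

universe u

open CategoryTheory CategoryTheory.Limits AlgebraicGeometry Opposite

namespace Groth.Agent.Lib.LfpLiftH7

set_option backward.isDefEq.respectTransparency false in
/-- Variant of `locallyOfFinitePresentation_of_lifting` where only systems over an affine open of the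
base are tested. -/
theorem locallyOfFinitePresentation_of_lifting_affineOpen {X S : Scheme.{u}} (f : X ⟶ S)
    (h : ∀ (U : S.Opens), IsAffineOpen U →
      ∀ (J : Type u) [Preorder J] [IsDirected J (· ≤ ·)] [Nonempty J] (D : Jᵒᵖ ⥤ Scheme.{u})
      (t : D ⟶ (Functor.const Jᵒᵖ).obj (U : Scheme.{u})) (c : Limits.Cone D) (_ : Limits.IsLimit c),
      (∀ j, IsAffine (D.obj j)) → ∀ (j₀ : Jᵒᵖ) (g : c.pt ⟶ X),
        g ≫ f = c.π.app j₀ ≫ t.app j₀ ≫ U.ι →
        ∃ (j : Jᵒᵖ) (gj : D.obj j ⟶ X), gj ≫ f = t.app j ≫ U.ι ∧ c.π.app j ≫ gj = g) :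
    LocallyOfFinitePresentation f := by
  rw [HasRingHomProperty.iff_appLE (P := @LocallyOfFinitePresentation)]
  intro U V e
  apply finitePresentation_of_lifting
  intro J _ _ _ F α cF hcF j₀ φ hφ
  have hfs : U.2.fromSpec = U.2.isoSpec.inv ≫ U.1.ι := rfl
  have hnat : ∀ {j j' : J} (i : j' ⟶ j), α.app j = α.app j' ≫ F.map i := by
    intro j j' i
    have := α.naturality i
    simpa using this
  let t : F.op ⋙ Scheme.Spec ⟶ (Functor.const Jᵒᵖ).obj (U.1 : Scheme.{u}) :=
    { app := fun j => Spec.map (α.app j.unop) ≫ U.2.isoSpec.inv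
      naturality := fun j j' i => by
        show Spec.map (F.map i.unop) ≫ Spec.map (α.app j'.unop) ≫ U.2.isoSpec.inv =
          (Spec.map (α.app j.unop) ≫ U.2.isoSpec.inv) ≫ 𝟙 _
        rw [Category.comp_id, hnat i.unop, Spec.map_comp, Category.assoc] }
  have ht : ∀ j, t.app j ≫ U.1.ι = Spec.map (α.app j.unop) ≫ U.2.fromSpec := by
    intro j
    rw [hfs]
    exact Category.assoc _ _ _
  have haff : ∀ j, IsAffine ((F.op ⋙ Scheme.Spec).obj j) := fun j => by
    show IsAffine (Spec (F.obj j.unop)); infer_instance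
  have hg : (Spec.map φ ≫ V.2.fromSpec) ≫ f =
      Spec.map (cF.ι.app j₀) ≫ t.app (op j₀) ≫ U.1.ι := by
    rw [ht, Category.assoc, ← IsAffineOpen.SpecMap_appLE_fromSpec f U.2 V.2 e,
      ← Spec.map_comp_assoc, hφ, Spec.map_comp_assoc]
  obtain ⟨j, gj, hgj1, hgj2⟩ := h U.1 U.2 J (F.op ⋙ Scheme.Spec) t (Scheme.Spec.mapCone cF.op)
    (isLimitOfPreserves Scheme.Spec hcF.op) haff (op j₀) (Spec.map φ ≫ V.2.fromSpec) hg
  -- shrink so that the map lands in `V`
  have hW : (Scheme.Spec.mapCone cF.op).π.app j ⁻¹ᵁ (gj ⁻¹ᵁ V.1) = ⊤ := by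
    rw [← Scheme.Hom.comp_preimage, hgj2, Scheme.Hom.comp_preimage,
      IsAffineOpen.fromSpec_preimage_self, Scheme.Hom.preimage_top]
  haveI : ∀ j, IsAffine ((F.op ⋙ Scheme.Spec).obj j) := haff
  obtain ⟨k, a, hk⟩ := exists_map_eq_top (F.op ⋙ Scheme.Spec) (Scheme.Spec.mapCone cF.op)
    (isLimitOfPreserves Scheme.Spec hcF.op) (gj ⁻¹ᵁ V.1) hW
  have H : Set.range ((F.op ⋙ Scheme.Spec).map a ≫ gj) ⊆ Set.range V.2.fromSpec := by
    rw [V.2.range_fromSpec]
    rintro _ ⟨x, rfl⟩
    have hx : x ∈ ((F.op ⋙ Scheme.Spec).map a ⁻¹ᵁ (gj ⁻¹ᵁ V.1)) := by rw [hk]; trivial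
    exact hx
  let l : Spec (F.obj k.unop) ⟶ Spec Γ(X, V.1) :=
    IsOpenImmersion.lift V.2.fromSpec ((F.op ⋙ Scheme.Spec).map a ≫ gj) H
  have hl : l ≫ V.2.fromSpec = (F.op ⋙ Scheme.Spec).map a ≫ gj :=
    IsOpenImmersion.lift_fac _ _ _
  refine ⟨k.unop, Spec.preimage l, ?_, ?_⟩
  · apply Spec.map_injective
    rw [Spec.map_comp, Spec.map_preimage, ← cancel_mono U.2.fromSpec, Category.assoc,
      IsAffineOpen.SpecMap_appLE_fromSpec f U.2 V.2 e, reassoc_of% hl, hgj1, ← ht k,
      ← Category.assoc]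
    congr 1
    exact (t.naturality a).trans (Category.comp_id _)
  · apply Spec.map_injective
    rw [Spec.map_comp, Spec.map_preimage, ← cancel_mono V.2.fromSpec, Category.assoc, hl]
    have := (Scheme.Spec.mapCone cF.op).w a
    rw [← hgj2, ← this, Category.assoc]
    rfl

theorem cone_comp_const' {I : Type u} [SmallCategory I] [IsCofiltered I] {D : I ⥤ Scheme.{u}}
    {X : Scheme.{u}} (s : D ⟶ (Functor.const I).obj X) (c : Cone D) (i j : I) :
    c.π.app i ≫ s.app i = c.π.app j ≫ s.app j := by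
  have key : ∀ {k l : I} (a : k ⟶ l), c.π.app l ≫ s.app l = c.π.app k ≫ s.app k := by
    intro k l a
    rw [← c.w a, Category.assoc]
    congr 1
    exact (s.naturality a).trans (Category.comp_id _)
  rw [key (IsCofiltered.minToLeft i j), key (IsCofiltered.minToRight i j)]

set_option backward.isDefEq.respectTransparency false in
/-- **S4778**. -/
theorem main4778 {X S : Scheme.{u}} (f : X ⟶ S)
    (h : ∀ (U : S.Opens), IsAffineOpen U →
      ∀ (J : Type u) [Preorder J] [IsDirected J (· ≤ ·)] [Nonempty J]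
        (Z : Jᵒᵖ ⥤ Over (U : Scheme.{u})),
      (∀ j, IsAffine (Z.obj j).left) →
      Limits.PreservesColimit (Z ⋙ Over.map U.ι).op (yoneda.obj (Over.mk f))) :
    LocallyOfFinitePresentation f := by
  apply locallyOfFinitePresentation_of_lifting_affineOpen
  intro U hU J _ _ _ D t c hc haff j₀ g hg
  haveI := h U hU J (Over.lift D t) haff
  haveI : IsConnected Jᵒᵖ := IsCofiltered.isConnected _
  have hp : ∀ j, c.π.app j ≫ (t ≫ (Functor.const Jᵒᵖ).map U.ι).app j = g ≫ f := by
    intro j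
    rw [cone_comp_const' (t ≫ (Functor.const Jᵒᵖ).map U.ι) c j j₀, hg]
    rfl
  let cK : Cone (Over.lift D t ⋙ Over.map U.ι) :=
    { pt := Over.mk (g ≫ f)
      π := { app := fun j => Over.homMk (c.π.app j) (hp j)
             naturality := fun j j' i => by
               apply Over.OverMorphism.ext
               show 𝟙 _ ≫ c.π.app j' = c.π.app j ≫ D.map i
               rw [Category.id_comp, c.w] } }
  have hl : IsLimit ((Over.forget S).mapCone cK) := hc
  have hcK : IsLimit cK := isLimitOfReflects (Over.forget S) hl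
  have hcol := isColimitOfPreserves (yoneda.obj (Over.mk f)) hcK.op
  obtain ⟨j, y, hy⟩ := Types.jointly_surjective_of_isColimit hcol
    (Over.homMk g rfl : cK.pt ⟶ Over.mk f)
  have hy' : cK.π.app j.unop ≫ y = Over.homMk g rfl := hy
  refine ⟨j.unop, y.left, ?_, ?_⟩
  · exact Over.w y
  · exact congrArg (fun m => m.left) hy'

end Groth.Agent.Lib.LfpLiftH7
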