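import Groth.Agent.Lib.LimAff3_helper7
import Groth.Agent.Lib.AffDesc5_helper7

/-!
# Affine morphisms descend to a finite stage of a limit of algebraic spaces (helper7)

`main10017`, `main10060`.
-/

set_option autoImplicit false
set_option linter.style.haveILetI false

universe u

open CategoryTheory CategoryTheory.Limits AlgebraicGeometry Opposite Topology
open AlgSp Groth.Agent.Lib.AlgSpPullback_helper7 Groth.Agent.Lib.AlgSpQC_helper7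
  Groth.Agent.Lib.AlgSpPoints_helper7 Groth.Agent.Lib.AlgSpQC2_helper7
  Groth.Agent.Lib.MonicGsectH6 Groth.Agent.Lib.AlgSpSep_helper7
  Groth.Agent.Lib.AlgSpDiag_helper7 Groth.Agent.Lib.AlgSpProper_helper7
  Groth.Agent.Lib.AlgSpEpi_helper7 Groth.Agent.Lib.AlgSpFormal5_helper7
  Groth.Agent.Lib.AlgSpIso_helper7
  Groth.Agent.Lib.SchLimTowerH7
  Groth.Agent.Lib.AlgSpLocP_helper7 Groth.Agent.Lib.AlgSpAffineMorH7 Groth.Agent.Lib.AffDescH7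
  Groth.Agent.Lib.AlgSpFpqc3_helper7

namespace Groth.Agent.Lib.LimTowerH7

variable {S : Scheme.{u}}

/-- The version of `exists_affine_stage` for all later stages. -/
theorem exists_affine_stage' [QuasiSeparatedSpace ↥S] {I : Type u} [SmallCategory I]
    [IsCofiltered I] (D : I ⥤ Sp S) (hD : ∀ i, IsAlgSpace (D.obj i))
    (hDa : ∀ (i j : I) (φ : i ⟶ j), IsAffineMor (D.map φ))
    (c : Cone D) (hc : IsLimit c) (i₀ : I)
    (P₀ : Space S) (β₀ : P₀.obj ⟶ D.obj i₀)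
    (hP₀qc : IsQuasiCompactSp P₀.obj) (hP₀qs : IsQuasiSeparatedSp P₀.obj)
    {Z₀ : Over S} (hZ₀ : IsAffine Z₀.left) (z₀ : P₀.obj ⟶ (yon S).obj Z₀)
    {P : Sp S} {pP : P ⟶ P₀.obj} {qP : P ⟶ c.pt} (hP : IsPullback pP qP β₀ (c.π.app i₀))
    {T : Over S} (hT : IsAffine T.left) (eT : (yon S).obj T ≅ P) :
    ∃ (i : I) (φ : i ⟶ i₀), ∀ (i' : I) (ψ : i' ⟶ i) (Pi : Sp S) (pi : Pi ⟶ P₀.obj)
      (qi : Pi ⟶ D.obj i'), IsPullback pi qi β₀ (D.map (ψ ≫ φ)) →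
      ∃ T' : Over S, IsAffine T'.left ∧ Nonempty ((yon S).obj T' ≅ Pi) := by
  obtain ⟨i, φ, h⟩ := exists_affine_stage D hD hDa c hc i₀ P₀ β₀ hP₀qc hP₀qs hZ₀ z₀ hP hT eT
  refine ⟨i, φ, ?_⟩
  intro i' ψ Pi pi qi hPi
  have h₁ := IsPullback.of_hasPullback β₀ (D.map φ)
  obtain ⟨T₁, hT₁, ⟨e⟩⟩ := h _ _ _ h₁
  obtain ⟨pi₁, -, hPi₁⟩ := exists_isPullback_trans h₁ (D.map ψ) (by rw [← D.map_comp]) hPi
  obtain ⟨W, iW, fstW, sqW, hW⟩ := hDa _ _ ψ hT₁ (e.hom ≫ pullback.snd β₀ (D.map φ))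
  have sq2 : IsPullback ((yon S).map iW ≫ e.hom) fstW (pullback.snd β₀ (D.map φ))
      (D.map ψ) := by
    refine IsPullback.of_iso sqW.flip (Iso.refl _) e (Iso.refl _) (Iso.refl _) ?_ ?_ ?_ ?_ <;>
      simp
  exact ⟨W, hW, ⟨sq2.isoIsPullback _ _ hPi₁⟩⟩

/-- The cube of base changes: the base change of `P₀ = X₀ ×_{Y₀} V₀` to `B'` is the fibre
product of `X` and `W = V₀ ×_{B₀} B'` over `Y'`. -/
theorem isPullback_cube {X₀ Y₀ V₀ P₀ B₀ B' Y' X W : Sp S} {f₀ : X₀ ⟶ Y₀} {v : V₀ ⟶ Y₀}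
    {pr₁ : P₀ ⟶ X₀} {pr₂ : P₀ ⟶ V₀} (hP₀ : IsPullback pr₁ pr₂ f₀ v) {b₀ : Y₀ ⟶ B₀}
    {m : B' ⟶ B₀} {pY : Y' ⟶ Y₀} {qY : Y' ⟶ B'} (hY : IsPullback pY qY b₀ m) {f : X ⟶ Y'}
    {pX : X ⟶ X₀} (hX : IsPullback pX f f₀ pY) {fstW : W ⟶ B'} {iW : W ⟶ V₀}
    (hW : IsPullback fstW iW m (v ≫ b₀)) :
    ∃ vW : W ⟶ Y', vW ≫ pY = iW ≫ v ∧ vW ≫ qY = fstW ∧ IsPullback vW iW pY v ∧
      ∀ {T : Sp S} {fstT : T ⟶ X} {tT : T ⟶ W}, IsPullback fstT tT f vW →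
        ∃ pP : T ⟶ P₀, pP ≫ pr₁ = fstT ≫ pX ∧ pP ≫ pr₂ = tT ≫ iW ∧
          IsPullback pP (tT ≫ fstW) (pr₂ ≫ v ≫ b₀) m := by
  obtain ⟨vW, h1, h2⟩ : ∃ vW : W ⟶ Y', vW ≫ pY = iW ≫ v ∧ vW ≫ qY = fstW :=
    ⟨hY.lift (iW ≫ v) fstW (by rw [Category.assoc, ← hW.w]), hY.lift_fst _ _ _,
      hY.lift_snd _ _ _⟩
  have sqC : IsPullback vW iW pY v := by
    have big : IsPullback (vW ≫ qY) iW m (v ≫ b₀) := by
      rw [h2]
      exact hW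
    exact IsPullback.of_right big h1 hY.flip
  refine ⟨vW, h1, h2, sqC, ?_⟩
  intro T fstT tT hT
  have hc2 : (fstT ≫ pX) ≫ f₀ = (tT ≫ iW) ≫ v := by
    simp only [Category.assoc]
    rw [hX.w, ← Category.assoc fstT, hT.w, Category.assoc, h1]
  obtain ⟨pP, hp1, hp2⟩ : ∃ pP : T ⟶ P₀, pP ≫ pr₁ = fstT ≫ pX ∧ pP ≫ pr₂ = tT ≫ iW :=
    ⟨hP₀.lift _ _ hc2, hP₀.lift_fst _ _ _, hP₀.lift_snd _ _ _⟩
  refine ⟨pP, hp1, hp2, ?_⟩
  have big : IsPullback tT (pP ≫ pr₁) (iW ≫ v) f₀ := by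
    rw [hp1, ← h1]
    exact hT.flip.paste_vert hX.flip
  have left : IsPullback tT pP iW pr₂ := IsPullback.of_bot big hp2.symm hP₀.flip
  exact (left.paste_horiz hW).flip

/-- A morphism of algebraic spaces whose base change to an affine étale chart of the target is an
affine scheme is affine. -/
theorem isAffineMor_of_affine_chart [QuasiSeparatedSpace ↥S] {X Y : Sp S} (hX : IsAlgSpace X)
    (hY : IsAlgSpace Y) (hYqs : IsQuasiSeparatedSp Y) (f : X ⟶ Y) {W : Over S}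
    (hW : IsAffine W.left) (v : (yon S).obj W ⟶ Y) (hve : RepWith @Etale v)
    (hvs : RepWith @Surjective v) {P : Sp S} {prX : P ⟶ X} {prW : P ⟶ (yon S).obj W}
    (sq : IsPullback prX prW f v) {T' : Over S} (hT' : IsAffine T'.left)
    (e : (yon S).obj T' ≅ P) : IsAffineMor f := by
  haveI := hW
  haveI := hT'
  have hPalg : IsAlgSpace P := IsAlgSpace.of_iso (IsAlgSpace.yon_obj T') e
  have hflat : LocP @Flat v := locP_of_repWith @Flat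
    (fun _ _ g hg => by haveI : Etale g := hg; infer_instance) v
    (repWith_mono (fun _ _ g (hg : Etale g) => (inferInstance : Flat g)) hve)
  have hqc : IsQuasiCompactMor v :=
    isQuasiCompactMor_of_isQuasiCompactSp_of_isQuasiSeparatedSp (IsAlgSpace.yon_obj W) v
      (isQuasiCompactSp_yon W) hYqs
  have hs : IsSurjectiveMor v := isSurjectiveMor_of_repWith v hvs
  have hcov := isFpqcCover_single (IsAlgSpace.yon_obj W) hY v hflat hqc hs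
  refine (isLocalOnBase_fpqc_isAffineMor (fun _ : PUnit.{u + 1} => (yon S).obj W) (fun _ => v) hY
    (fun _ => IsAlgSpace.yon_obj W) hcov f hX (fun _ => P) (fun _ => prW) (fun _ => prX)
    (fun _ => hPalg) (fun _ => sq)).2 (fun _ => ?_)
  obtain ⟨m, hm⟩ := (yon S).map_surjective (e.hom ≫ prW)
  haveI : MorphismProperty.ContainsIdentities @IsAffineHom.{u} :=
    (inferInstance : MorphismProperty.IsMultiplicative @IsAffineHom).toContainsIdentities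
  haveI : MorphismProperty.RespectsIso @IsAffineHom.{u} :=
    MorphismProperty.IsStableUnderBaseChange.respectsIso
  have h1 : RepWith @IsAffineHom prW := by
    have h2 : prW = e.inv ≫ (yon S).map m := by rw [hm, Iso.inv_hom_id_assoc]
    rw [h2]
    exact repWith_comp @IsAffineHom (repWith_of_isIso @IsAffineHom e.inv)
      ((repWith_yon_map_iff @IsAffineHom m).2 inferInstance)
  exact isAffineMor_of_repWith prW h1

/-! ### S10017 -/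

theorem main10017 [QuasiSeparatedSpace ↥S] {I : Type u} [SmallCategory I] [IsCofiltered I]
    (D : I ⥤ Sp S) (hD : ∀ i, IsAlgSpace (D.obj i))
    (hDa : ∀ (i j : I) (φ : i ⟶ j), IsAffineMor (D.map φ))
    (c : Cone D) (hc : IsLimit c) (i₀ : I)
    (X₀ Y₀ : Space S) (f₀ : X₀.obj ⟶ Y₀.obj) (b₀ : Y₀.obj ⟶ D.obj i₀)
    (hXqc : IsQuasiCompactSp X₀.obj) (hXqs : IsQuasiSeparatedSp X₀.obj)
    (hYqc : IsQuasiCompactSp Y₀.obj) (hYqs : IsQuasiSeparatedSp Y₀.obj)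
    (X Y : Sp S) (f : X ⟶ Y) (pY : Y ⟶ Y₀.obj) (qY : Y ⟶ c.pt)
    (hY : IsPullback pY qY b₀ (c.π.app i₀)) (pX : X ⟶ X₀.obj) (hX : IsPullback pX f f₀ pY)
    (hf : IsAffineMor f) :
    ∃ (i : I) (φ : i ⟶ i₀), ∀ (Xi Yi : Sp S) (fi : Xi ⟶ Yi) (pYi : Yi ⟶ Y₀.obj)
      (qYi : Yi ⟶ D.obj i) (_ : IsPullback pYi qYi b₀ (D.map φ)) (pXi : Xi ⟶ X₀.obj)
      (_ : IsPullback pXi fi f₀ pYi), IsAffineMor fi := by
  obtain ⟨V₀, v, hV₀, hve, hvs⟩ := exists_affine_atlas hYqc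
  haveI := hV₀
  obtain ⟨P₀, pr₁, pr₂, hP₀⟩ : ∃ (P₀ : Sp S) (pr₁ : P₀ ⟶ X₀.obj)
      (pr₂ : P₀ ⟶ (yon S).obj V₀), IsPullback pr₁ pr₂ f₀ v :=
    ⟨_, _, _, IsPullback.of_hasPullback f₀ v⟩
  have hP₀alg : IsAlgSpace P₀ :=
    isAlgSpace_of_isPullback Y₀.property.diag X₀.property (IsAlgSpace.yon_obj V₀) hP₀
  have hVqs : IsQuasiSeparatedSp ((yon S).obj V₀) :=
    (repWith_diag_iff_diagonal_terminal_from _ _).2
      (isQuasiSeparatedMor_from_yon_affine (terminal.from _))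
  obtain ⟨hP₀qc, hP₀qs⟩ := qcqs_of_isPullback X₀.property (IsAlgSpace.yon_obj V₀) hP₀ hXqc hXqs
    hYqs (isQuasiCompactSp_yon V₀) hVqs
  -- the limit
  have haff := (main10004 D hD hDa c hc).2 i₀
  obtain ⟨W, iW, fstW, sqW, hW⟩ := haff hV₀ (v ≫ b₀)
  obtain ⟨vW, hvW1, hvW2, sqC, hcube⟩ := isPullback_cube hP₀ hY hX sqW
  obtain ⟨T, tT, fstT, sqT, hT⟩ := hf hW vW
  obtain ⟨pP, -, -, hP⟩ := hcube sqT
  obtain ⟨i, φ, h⟩ := exists_affine_stage D hD hDa c hc i₀ ⟨P₀, hP₀alg⟩ (pr₂ ≫ v ≫ b₀) hP₀qc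
    hP₀qs hV₀ pr₂ hP hT (Iso.refl _)
  refine ⟨i, φ, ?_⟩
  intro Xi Yi fi pYi qYi hYi pXi hXi
  have hYialg : IsAlgSpace Yi := isAlgSpace_of_isPullback (hD i₀).diag Y₀.property (hD i) hYi
  have hXialg : IsAlgSpace Xi :=
    isAlgSpace_of_isPullback Y₀.property.diag X₀.property hYialg hXi
  obtain ⟨-, hYiqs⟩ := qcqs_of_repWith_isAffineHom pYi
    (repWith_fst_of_isPullback _ hYi (repWith_isAffineHom_of_isAffineMor _ (hDa _ _ φ)))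
    hYqc hYqs
  obtain ⟨Wi, iWi, fstWi, sqWi, hWi⟩ := hDa _ _ φ hV₀ (v ≫ b₀)
  obtain ⟨vWi, -, -, sqCi, hcubei⟩ := isPullback_cube hP₀ hYi hXi sqWi
  have sqTi := IsPullback.of_hasPullback fi vWi
  obtain ⟨pPi, -, -, hPi⟩ := hcubei sqTi
  obtain ⟨T', hT', ⟨e⟩⟩ := h _ _ _ hPi
  exact isAffineMor_of_affine_chart hXialg hYialg hYiqs fi hWi vWi
    (repWith_fst_of_isPullback _ sqCi hve) (repWith_fst_of_isPullback _ sqCi hvs) sqTi hT' e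

/-! ### S10060 -/

theorem main10060 [QuasiSeparatedSpace ↥S] {I : Type u} [SmallCategory I] [IsCofiltered I]
    (Y : Space S) (D : I ⥤ Sp S) (hD : ∀ i, IsAlgSpace (D.obj i))
    (t : D ⟶ (Functor.const I).obj Y.obj)
    (hDa : ∀ (i j : I) (φ : i ⟶ j), IsAffineMor (D.map φ))
    (c : Cone D) (hc : IsLimit c) (g : c.pt ⟶ Y.obj) (hg : ∀ i, c.π.app i ≫ t.app i = g)
    (hqc : ∀ i, IsQuasiCompactSp (D.obj i)) (hqs : ∀ i, IsQuasiSeparatedSp (D.obj i))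
    (hYqc : IsQuasiCompactSp Y.obj) (hYqs : IsQuasiSeparatedSp Y.obj) (hX : IsAffineMor g) :
    ∃ i₀ : I, ∀ (i : I) (_ : i ⟶ i₀), IsAffineMor (t.app i) := by
  obtain ⟨i₀'⟩ := IsCofiltered.nonempty (C := I)
  obtain ⟨V₀, v, hV₀, hve, hvs⟩ := exists_affine_atlas hYqc
  haveI := hV₀
  obtain ⟨P₀, pr₁, pr₂, hP₀⟩ : ∃ (P₀ : Sp S) (pr₁ : P₀ ⟶ D.obj i₀')
      (pr₂ : P₀ ⟶ (yon S).obj V₀), IsPullback pr₁ pr₂ (t.app i₀') v :=
    ⟨_, _, _, IsPullback.of_hasPullback (t.app i₀') v⟩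
  have hP₀alg : IsAlgSpace P₀ :=
    isAlgSpace_of_isPullback Y.property.diag (hD i₀') (IsAlgSpace.yon_obj V₀) hP₀
  have hVqs : IsQuasiSeparatedSp ((yon S).obj V₀) :=
    (repWith_diag_iff_diagonal_terminal_from _ _).2
      (isQuasiSeparatedMor_from_yon_affine (terminal.from _))
  obtain ⟨hP₀qc, hP₀qs⟩ := qcqs_of_isPullback (hD i₀') (IsAlgSpace.yon_obj V₀) hP₀ (hqc i₀')
    (hqs i₀') hYqs (isQuasiCompactSp_yon V₀) hVqs
  obtain ⟨T, tT, fstT, sqT, hT⟩ := hX hV₀ v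
  obtain ⟨pP, hpP1, hpP2⟩ : ∃ pP : (yon S).obj T ⟶ P₀,
      pP ≫ pr₁ = fstT ≫ c.π.app i₀' ∧ pP ≫ pr₂ = (yon S).map tT :=
    ⟨hP₀.lift (fstT ≫ c.π.app i₀') ((yon S).map tT) (by rw [Category.assoc, hg, sqT.w]),
      hP₀.lift_fst _ _ _, hP₀.lift_snd _ _ _⟩
  have hP : IsPullback pP fstT pr₁ (c.π.app i₀') := by
    have big : IsPullback (pP ≫ pr₂) fstT v (c.π.app i₀' ≫ t.app i₀') := by
      rw [hpP2, hg]
      exact sqT.flip
    exact IsPullback.of_right big hpP1 hP₀.flip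
  obtain ⟨i₁, φ₁, h⟩ := exists_affine_stage' D hD hDa c hc i₀' ⟨P₀, hP₀alg⟩ pr₁ hP₀qc hP₀qs hV₀
    pr₂ hP hT (Iso.refl _)
  refine ⟨i₁, fun i ψ => ?_⟩
  have hnat : D.map (ψ ≫ φ₁) ≫ t.app i₀' = t.app i := by
    exact (t.naturality (ψ ≫ φ₁)).trans (Category.comp_id _)
  have sqi := IsPullback.of_hasPullback (t.app i) v
  obtain ⟨pi, hpi1, hpi2⟩ : ∃ pi : pullback (t.app i) v ⟶ P₀,
      pi ≫ pr₁ = pullback.fst (t.app i) v ≫ D.map (ψ ≫ φ₁) ∧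
      pi ≫ pr₂ = pullback.snd (t.app i) v :=
    ⟨hP₀.lift (pullback.fst (t.app i) v ≫ D.map (ψ ≫ φ₁)) (pullback.snd (t.app i) v)
      (by rw [Category.assoc, hnat, pullback.condition]), hP₀.lift_fst _ _ _,
      hP₀.lift_snd _ _ _⟩
  have hPi : IsPullback pi (pullback.fst (t.app i) v) pr₁ (D.map (ψ ≫ φ₁)) := by
    have big : IsPullback (pi ≫ pr₂) (pullback.fst (t.app i) v) v
        (D.map (ψ ≫ φ₁) ≫ t.app i₀') := by
      rw [hpi2, hnat]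
      exact sqi.flip
    exact IsPullback.of_right big hpi1 hP₀.flip
  obtain ⟨T', hT', ⟨e⟩⟩ := h i ψ _ _ _ hPi
  exact isAffineMor_of_affine_chart (hD i) Y.property hYqs (t.app i) hV₀ v hve hvs sqi hT' e

end Groth.Agent.Lib.LimTowerH7
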