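import Groth.Agent.Lib.ShDesc1_helper7
import Groth.Agent.Lib.ShDesc2_helper7
import Groth.Agent.Lib.AffDesc8_helper7

/-!
# Descent along epimorphisms of fppf sheaves, part 3: quasi-affine descent (helper7)

`exists_rep_of_quasiAffine_pullback`: an fppf sheaf over an affine scheme `Z` whose base change
along an fppf morphism of affine schemes `Z' ⟶ Z` is a quasi-affine scheme is representable.
-/

set_option autoImplicit false
set_option linter.style.haveILetI false
universe u
open CategoryTheory CategoryTheory.Limits AlgebraicGeometry Opposite TensorProduct MorphismProperty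
open AlgSp Groth.Agent.Lib.AlgSpQC2_helper7 Groth.Agent.Lib.AlgSpPoints_helper7
  Groth.Agent.Lib.AlgSpQC_helper7 Groth.Agent.Lib.AlgSpPullback_helper7
  Groth.Agent.Lib.AlgSpLocP_helper7 Groth.Agent.Lib.AlgSpFpqc3_helper7
  Groth.Agent.Lib.AlgSpIso_helper7 Groth.Agent.Lib.AlgSpAffine_helper7
  Groth.Agent.Lib.AffDescH7 Groth.Agent.Lib.AlgSpEpi_helper7

namespace Groth.Agent.Lib.ShDescH7

section General

variable {C : Type*} [Category C]

/-- The kernel pair of a base change of `c` is the base change of the kernel pair of `c`. -/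
theorem exists_kernelPair_of_isPullback {P Q X Y : C} {q : X ⟶ P} {v : X ⟶ Y} {f : P ⟶ Q}
    {c : Y ⟶ Q} (sq : IsPullback q v f c) {Y₂ X₂ : C} {pr₁ pr₂ : Y₂ ⟶ Y}
    (sqY : IsPullback pr₁ pr₂ c c) {k₁ : X₂ ⟶ X} {m : X₂ ⟶ Y₂} (sqX : IsPullback k₁ m v pr₁) :
    ∃ k₂ : X₂ ⟶ X, k₂ ≫ v = m ≫ pr₂ ∧ IsPullback k₁ k₂ q q := by
  have big : IsPullback k₁ (m ≫ pr₂) (v ≫ c) c := sqX.paste_vert sqY
  have w : (k₁ ≫ q) ≫ f = (m ≫ pr₂) ≫ c := by
    rw [Category.assoc, sq.w]
    exact big.w
  refine ⟨sq.lift _ _ w, sq.lift_snd _ _ w, ?_⟩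
  have big' : IsPullback (sq.lift _ _ w ≫ v) k₁ c (q ≫ f) := by
    rw [sq.lift_snd, sq.w]
    exact big.flip
  exact (IsPullback.of_right big' (sq.lift_fst _ _ w) sq.flip).flip

/-- The kernel pair of a composite `cV ≫ q` from the kernel pair of `q`. -/
theorem isPullback_kernelPair_comp {P X X₂ C' K₁ K : C} {q : X ⟶ P} {k₁ k₂ : X₂ ⟶ X}
    (kp : IsPullback k₁ k₂ q q) {cV : C' ⟶ X} {a₁ : K₁ ⟶ C'} {a₂ : K₁ ⟶ X₂}
    (sqA : IsPullback a₁ a₂ cV k₁) {b₁ : K ⟶ K₁} {b₂ : K ⟶ C'}
    (sqB : IsPullback b₁ b₂ (a₂ ≫ k₂) cV) :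
    IsPullback (b₁ ≫ a₁) b₂ (cV ≫ q) (cV ≫ q) :=
  sqB.paste_horiz (sqA.paste_vert kp)

end General

variable {S : Scheme.{u}}

set_option backward.isDefEq.respectTransparency false in
theorem exists_affine_etale_cover (X : Scheme.{u}) [CompactSpace X] :
    ∃ (Y : Scheme.{u}) (p : Y ⟶ X), Surjective p ∧ Etale p ∧ IsAffine Y :=
  Scheme.exists_hom_isAffine_of_isZariskiLocalAtSource @Etale X

/-- The kernel pair of an affine chart of a sheaf which is fppf locally a separated scheme is an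
affine scheme. -/
theorem exists_affine_kernelPair {Z Z' : Over S} (c : Z' ⟶ Z) (hZ : IsAffine Z.left)
    (hZ' : IsAffine Z'.left) {P : Sp S} (f : P ⟶ (yon S).obj Z) {V' : Over S}
    (hV' : V'.left.IsSeparated) (q : (yon S).obj V' ⟶ P) (v' : V' ⟶ Z')
    (sq : IsPullback q ((yon S).map v') f ((yon S).map c))
    {Y : Over S} (hY : IsAffine Y.left) (cV : Y ⟶ V') :
    ∃ (W : Over S) (t₀ i : W ⟶ Y), IsAffine W.left ∧
      IsPullback ((yon S).map t₀) ((yon S).map i) ((yon S).map cV ≫ q)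
        ((yon S).map cV ≫ q) := by
  haveI := hZ
  haveI := hZ'
  haveI := hV'
  haveI := hY
  have sqY := IsPullback.of_hasPullback c c
  have sqX := IsPullback.of_hasPullback v' (pullback.fst c c)
  obtain ⟨k₂y, -, kp⟩ := exists_kernelPair_of_isPullback sq (sqY.map (yon S)) (sqX.map (yon S))
  obtain ⟨k₂, rfl⟩ := (yon S).map_surjective k₂y
  have sqA := IsPullback.of_hasPullback cV (pullback.fst v' (pullback.fst c c))
  have sqB := IsPullback.of_hasPullback
    (pullback.snd cV (pullback.fst v' (pullback.fst c c)) ≫ k₂) cV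
  have sqB' := sqB.map (yon S)
  rw [Functor.map_comp] at sqB'
  have key := isPullback_kernelPair_comp kp (sqA.map (yon S)) sqB'
  refine ⟨pullback (pullback.snd cV (pullback.fst v' (pullback.fst c c)) ≫ k₂) cV,
    pullback.fst _ _ ≫ pullback.fst cV _, pullback.snd _ _, ?_, ?_⟩
  · have hc : IsAffineHom c.left := inferInstance
    have sqYs : IsPullback (pullback.fst c c).left (pullback.snd c c).left c.left c.left :=
      sqY.map (Over.forget S)
    have hpr₁ : IsAffineHom (pullback.fst c c).left :=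
      MorphismProperty.of_isPullback (P := @IsAffineHom) sqYs.flip hc
    have sqXs : IsPullback (pullback.fst v' (pullback.fst c c)).left
        (pullback.snd v' (pullback.fst c c)).left v'.left (pullback.fst c c).left :=
      sqX.map (Over.forget S)
    have hk₁ : IsAffineHom (pullback.fst v' (pullback.fst c c)).left :=
      MorphismProperty.of_isPullback (P := @IsAffineHom) sqXs.flip hpr₁
    have sqAs : IsPullback (pullback.fst cV (pullback.fst v' (pullback.fst c c))).left
        (pullback.snd cV (pullback.fst v' (pullback.fst c c))).left cV.left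
        (pullback.fst v' (pullback.fst c c)).left := sqA.map (Over.forget S)
    haveI := hk₁
    haveI hK₁ : IsAffine (pullback cV (pullback.fst v' (pullback.fst c c))).left :=
      IsAffine.of_isPullback sqAs
    have hcV : IsAffineHom cV.left := by
      haveI : IsAffineHom (cV.left ≫ v'.left) := inferInstance
      exact IsAffineHom.of_comp cV.left v'.left
    have sqBs : IsPullback
        (pullback.fst (pullback.snd cV (pullback.fst v' (pullback.fst c c)) ≫ k₂) cV).left
        (pullback.snd (pullback.snd cV (pullback.fst v' (pullback.fst c c)) ≫ k₂) cV).left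
        (pullback.snd cV (pullback.fst v' (pullback.fst c c)) ≫ k₂).left cV.left :=
      sqB.map (Over.forget S)
    haveI := hcV
    exact IsAffine.of_isPullback sqBs
  · rw [Functor.map_comp]
    exact key

variable {A : Type u} [CommRing A] (zs : Spec (CommRingCat.of A) ⟶ S)

/-- An affine kernel pair of an affine chart, in `Spec` form. -/
theorem exists_spA_kernelPair' {X : Sp S} (f : X ⟶ (yon S).obj (Over.mk zs))
    {C : Type u} [CommRing C] [Algebra A C]
    (p : (yon S).obj (SpA zs C) ⟶ X) (hpf : p ≫ f = (yon S).map (SpA.str zs C))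
    (W : Over S) (t₀ i : W ⟶ SpA zs C) (hW : IsAffine W.left)
    (kpW : IsPullback ((yon S).map t₀) ((yon S).map i) p p) :
    ∃ (D : Type u) (_ : CommRing D) (_ : Algebra A D) (σ τ : C →ₐ[A] D),
      IsPullback ((yon S).map (SpA.map zs σ)) ((yon S).map (SpA.map zs τ)) p p := by
  obtain ⟨D, iD, aD, eD, heD⟩ := SpA.exists_iso zs hW (i ≫ SpA.str zs C)
  have hs_str : (eD.hom ≫ i) ≫ SpA.str zs C = SpA.str zs D := by
    rw [Category.assoc, heD]
  have ht_str : (eD.hom ≫ t₀) ≫ SpA.str zs C = SpA.str zs D := by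
    apply (yon S).map_injective
    calc (yon S).map ((eD.hom ≫ t₀) ≫ SpA.str zs C)
        = (yon S).map eD.hom ≫ ((yon S).map t₀ ≫ p) ≫ f := by
          rw [Functor.map_comp, Functor.map_comp, ← hpf]
          simp only [Category.assoc]
      _ = (yon S).map eD.hom ≫ ((yon S).map i ≫ p) ≫ f := by rw [kpW.w]
      _ = (yon S).map (SpA.str zs D) := by
          rw [← heD, Functor.map_comp, Functor.map_comp, ← hpf]
          simp only [Category.assoc]
  obtain ⟨τ', hτ'⟩ := SpA.exists_map zs _ hs_str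
  obtain ⟨σ', hσ'⟩ := SpA.exists_map zs _ ht_str
  refine ⟨D, iD, aD, σ', τ', ?_⟩
  refine IsPullback.of_iso kpW ((yon S).mapIso eD).symm (Iso.refl _) (Iso.refl _) (Iso.refl _)
    ?_ ?_ (by simp) (by simp)
  · rw [← hσ']
    simp
  · rw [← hτ']
    simp

set_option maxHeartbeats 1600000 in
/-- **Quasi-affine fppf descent for sheaves.** -/
theorem exists_rep_of_quasiAffine_pullback {Z Z' : Over S} (c : Z' ⟶ Z) (hZ : IsAffine Z.left)
    (hZ' : IsAffine Z'.left) (hs : Surjective c.left) (hfl : Flat c.left)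
    (hfp : LocallyOfFinitePresentation c.left) {P : Sp S} (f : P ⟶ (yon S).obj Z)
    {V' : Over S} (hV' : V'.left.IsQuasiAffine) (q : (yon S).obj V' ⟶ P) (v' : V' ⟶ Z')
    (sq : IsPullback q ((yon S).map v') f ((yon S).map c)) :
    ∃ V : Over S, Nonempty (P ≅ (yon S).obj V) := by
  haveI := hZ
  haveI := hZ'
  haveI := hV'
  let A : Type u := Γ(Z.left, ⊤)
  let zs : Spec (CommRingCat.of A) ⟶ S := Z.left.isoSpec.inv ≫ Z.hom
  let eZ : Over.mk zs ≅ Z := Over.isoMk Z.left.isoSpec.symm rfl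
  obtain ⟨B, iB, aB, eB, heB⟩ := SpA.exists_iso zs hZ' (c ≫ eZ.inv)
  obtain ⟨f₁, hf₁⟩ : ∃ f₁ : P ⟶ (yon S).obj (Over.mk zs), f₁ = f ≫ (yon S).map eZ.inv :=
    ⟨_, rfl⟩
  have sq₁ : IsPullback q ((yon S).map (v' ≫ eB.inv)) f₁ ((yon S).map (SpA.str zs B)) := by
    refine IsPullback.of_iso sq (Iso.refl _) (Iso.refl _) ((yon S).mapIso eB).symm
      ((yon S).mapIso eZ).symm ?_ ?_ ?_ ?_
    · simp
    · simp
    · simp [hf₁]
    · rw [← heB]
      simp
  have hleft : (SpA.str zs B).left = eB.hom.left ≫ c.left ≫ eZ.inv.left := by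
    rw [← heB]
    rfl
  haveI : IsIso eB.hom.left := inferInstanceAs (IsIso ((Over.forget S).map eB.hom))
  haveI : IsIso eZ.inv.left := inferInstanceAs (IsIso ((Over.forget S).map eZ.inv))
  have hsB : Surjective (Spec.map (CommRingCat.ofHom (algebraMap A B))) := by
    show Surjective (SpA.str zs B).left
    rw [hleft]
    haveI := hs
    infer_instance
  have hfB : Flat (Spec.map (CommRingCat.ofHom (algebraMap A B))) := by
    show Flat (SpA.str zs B).left
    rw [hleft]
    haveI := hfl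
    infer_instance
  have hpB : LocallyOfFinitePresentation (Spec.map (CommRingCat.ofHom (algebraMap A B))) := by
    show LocallyOfFinitePresentation (SpA.str zs B).left
    rw [hleft]
    haveI := hfp
    infer_instance
  haveI : Module.Flat A B :=
    RingHom.flat_algebraMap_iff.1 ((HasRingHomProperty.Spec_iff (P := @Flat)).1 hfB)
  -- the chart
  obtain ⟨Y₀, q₀, hq₀s, hq₀e, hY₀⟩ := exists_affine_etale_cover V'.left
  let U₁ : Over S := Over.mk (q₀ ≫ V'.hom)
  let jq : U₁ ⟶ V' := Over.homMk q₀ rfl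
  obtain ⟨C, iC, aC, eC, heC⟩ :=
    SpA.exists_iso zs (T := U₁) hY₀ (jq ≫ v' ≫ eB.inv ≫ SpA.str zs B)
  haveI : IsIso eC.hom.left := inferInstanceAs (IsIso ((Over.forget S).map eC.hom))
  obtain ⟨cV, hcV⟩ : ∃ cV : SpA zs C ⟶ V', cV = eC.hom ≫ jq := ⟨_, rfl⟩
  have hcVl : cV.left = eC.hom.left ≫ q₀ := by
    rw [hcV]
    rfl
  have hcVe : Etale cV.left := by
    rw [hcVl]
    haveI := hq₀e
    infer_instance
  have hcVs : Surjective cV.left := by
    rw [hcVl]
    haveI := hq₀s
    infer_instance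
  have hcVfl : Flat cV.left := by
    haveI := hcVe
    infer_instance
  have hcVfp : LocallyOfFinitePresentation cV.left := by
    haveI := hcVe
    infer_instance
  obtain ⟨p, hp⟩ : ∃ p : (yon S).obj (SpA zs C) ⟶ P, p = (yon S).map cV ≫ q := ⟨_, rfl⟩
  have hpf : p ≫ f₁ = (yon S).map (SpA.str zs C) := by
    rw [hp, Category.assoc, sq₁.w, ← Functor.map_comp, ← Functor.map_comp, ← heC, hcV]
    simp only [Category.assoc]
  have hqfl : RepWith @Flat q :=
    repWith_fst_of_isPullback _ sq ((repWith_yon_map_iff @Flat c).2 hfl)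
  have hqs : RepWith @Surjective q :=
    repWith_fst_of_isPullback _ sq ((repWith_yon_map_iff @Surjective c).2 hs)
  have hpfl : RepWith @Flat p := by
    rw [hp]
    exact repWith_comp @Flat ((repWith_yon_map_iff @Flat cV).2 hcVfl) hqfl
  have hps : RepWith @Surjective p := by
    rw [hp]
    exact repWith_comp @Surjective ((repWith_yon_map_iff @Surjective cV).2 hcVs) hqs
  haveI : Epi ((yon S).map c) := epi_yon_map c hs hfl hfp
  haveI : Epi q := epi_fst_of_isPullback sq
  haveI : Epi ((yon S).map cV) := epi_yon_map cV hcVs hcVfl hcVfp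
  have hepi : Epi p := by
    rw [hp]
    infer_instance
  -- the kernel pair
  obtain ⟨W, t₀, i, hW, kpW⟩ := exists_affine_kernelPair c hZ hZ' f inferInstance q v' sq
    (SpA.isAffine zs C) cV
  rw [← hp] at kpW
  obtain ⟨D, iD, aD, σ', τ', kp⟩ := exists_spA_kernelPair' zs f₁ p hpf W t₀ i hW kpW
  obtain ⟨φ, hφf, hΓ⟩ := coreΓ' zs σ' τ' f₁ p hpf hpfl hps hepi kp
  obtain ⟨ψ₀, sqψ, hiso⟩ := hΓ B V' (v' ≫ eB.inv) q sq₁
  have hopen : IsOpenImmersion ψ₀.left := isOpenImmersion_of_isIso_appTop ψ₀.left hiso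
  have sqSch : IsPullback
      (SpA.map zs (Algebra.TensorProduct.includeLeft :
        B →ₐ[A] B ⊗[A] (AlgHom.equalizer σ' τ'))).left
      (SpA.map zs (Algebra.TensorProduct.includeRight :
        (AlgHom.equalizer σ' τ') →ₐ[A] B ⊗[A] (AlgHom.equalizer σ' τ'))).left
      (SpA.str zs B).left (SpA.str zs (AlgHom.equalizer σ' τ')).left :=
    ((SpA.isPullback zs B (AlgHom.equalizer σ' τ')).map (Over.forget S)).flip
  have hc₀s : Surjective (SpA.map zs (Algebra.TensorProduct.includeRight :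
      (AlgHom.equalizer σ' τ') →ₐ[A] B ⊗[A] (AlgHom.equalizer σ' τ'))).left :=
    MorphismProperty.of_isPullback (P := @Surjective) sqSch hsB
  have hc₀fl : Flat (SpA.map zs (Algebra.TensorProduct.includeRight :
      (AlgHom.equalizer σ' τ') →ₐ[A] B ⊗[A] (AlgHom.equalizer σ' τ'))).left :=
    MorphismProperty.of_isPullback (P := @Flat) sqSch hfB
  have hc₀fp : LocallyOfFinitePresentation (SpA.map zs (Algebra.TensorProduct.includeRight :
      (AlgHom.equalizer σ' τ') →ₐ[A] B ⊗[A] (AlgHom.equalizer σ' τ'))).left :=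
    MorphismProperty.of_isPullback (P := @LocallyOfFinitePresentation) sqSch hpB
  obtain ⟨O, j, e, -, -⟩ := exists_iso_yon_of_openImmersion_pullback φ
    (SpA.map zs (Algebra.TensorProduct.includeRight :
      (AlgHom.equalizer σ' τ') →ₐ[A] B ⊗[A] (AlgHom.equalizer σ' τ'))) hc₀s hc₀fl hc₀fp ψ₀ hopen q sqψ
  exact ⟨O, ⟨e⟩⟩

end Groth.Agent.Lib.ShDescH7
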