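import Groth.Agent.Lib.LfpLift2_helper7
import Groth.Agent.Lib.AlgSpLocP9_helper7
import Groth.Agent.Lib.LimAff4_helper7
import Groth.Agent.Lib.ShDesc3_helper7

/-!
# Locally finitely presented morphisms of algebraic spaces are limit preserving: tools (helper7)

* `repWith_lfp_diagonal`: the diagonal of a morphism locally of finite presentation is
  representable and locally of finite presentation.
* `inj_of_locP_lfp`: two points over a stage of an affine tower which agree over the limit (and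
  over the target) agree at a later stage.
* `surj_of_repWith_lfp`: points of the limit descend to a stage, for representable morphisms.
* `exists_affine_etale_refinement`, `exists_cover_stage`, `exists_tower_over`: étale covers of the
  limit of an affine tower descend to a stage; base change of an affine tower.
-/

set_option autoImplicit false
set_option linter.style.haveILetI false

universe u

open CategoryTheory CategoryTheory.Limits AlgebraicGeometry Opposite Topology
open AlgSp Groth.Agent.Lib.AlgSpPullback_helper7 Groth.Agent.Lib.AlgSpQC_helper7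
  Groth.Agent.Lib.AlgSpPoints_helper7 Groth.Agent.Lib.AlgSpQC2_helper7
  Groth.Agent.Lib.AlgSpSep_helper7
  Groth.Agent.Lib.AlgSpDiag_helper7 Groth.Agent.Lib.AlgSpProper_helper7
  Groth.Agent.Lib.AlgSpEpi_helper7 Groth.Agent.Lib.AlgSpFormal5_helper7
  Groth.Agent.Lib.AlgSpIso_helper7
  Groth.Agent.Lib.AlgSpLocP_helper7 Groth.Agent.Lib.AlgSpAffineMorH7
  Groth.Agent.Lib.AlgSpLocP4_helper7 Groth.Agent.Lib.AlgSpLocP7_helper7
  Groth.Agent.Lib.AlgSpDescent_helper7 Groth.Agent.Lib.AlgSpDescent2_helper7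

namespace Groth.Agent.Lib.LfpLiftH7

variable {S : Scheme.{u}}

/-! ### The diagonal -/

theorem repWith_lfp_diagonal {X Y : Sp S} (hX : IsAlgSpace X) (hY : IsAlgSpace Y) (f : X ⟶ Y)
    (hf : LocP @LocallyOfFinitePresentation f) :
    RepWith @LocallyOfFinitePresentation (pullback.diagonal f) := by
  have hrep : Representable (pullback.diagonal f) := (diagonal_properties hX f).1.rep
  have sq := IsPullback.of_hasPullback f f
  have hP : IsAlgSpace (pullback f f) := isAlgSpace_of_isPullback hY.diag hX hX sq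
  have hlft : LocP @LocallyOfFiniteType f := fun U V a b h ha hb comm => by
    have := hf a b h ha hb comm
    exact (inferInstance : LocallyOfFiniteType h.left)
  have h1 : LocP @LocallyOfFiniteType (pullback.snd f f) :=
    locP_baseChange etLocal_locallyOfFiniteType hX hY hX f f _ _ sq hlft
  haveI : MorphismProperty.ContainsIdentities (@LocallyOfFinitePresentation.{u}) :=
    ⟨fun X => (inferInstance : LocallyOfFinitePresentation (𝟙 X))⟩
  have h2 : LocP @LocallyOfFinitePresentation (pullback.diagonal f ≫ pullback.snd f f) := by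
    rw [pullback.diagonal_snd]
    exact locP_of_repWith _ (fun _ _ g (hg : Etale g) => lfp_of_etale g) (𝟙 X)
      (repWith_of_isIso _ (𝟙 X))
  have h3 := Groth.Agent.Lib.AlgSpLocP9_helper7.locP_lfp_of_comp hX (pullback.diagonal f)
    (pullback.snd f f) h2 h1
  exact repWith_of_locP _ (descendsEtale_of_descendsAlong _) hP (pullback.diagonal f) hrep h3

/-! ### Small helpers -/

theorem exists_over_lift {A B W : Over S} (π : W ⟶ B) (m : A ⟶ B) (σ : A.left ⟶ W.left)
    (h : σ ≫ π.left = m.left) : ∃ σ' : A ⟶ W, σ'.left = σ ∧ σ' ≫ π = m := by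
  refine ⟨Over.homMk σ ?_, rfl, ?_⟩
  · rw [← Over.w π, ← Category.assoc, h, Over.w]
  · apply Over.OverMorphism.ext
    exact h

theorem props_of_isPullback_over {P A B C : Over S} {a : P ⟶ A} {b : P ⟶ B} {c : A ⟶ C}
    {d : B ⟶ C} (sq : IsPullback a b c d) (hde : Etale d.left) (hds : Surjective d.left) :
    Etale a.left ∧ Surjective a.left ∧ Epi ((yon S).map a) := by
  have sqs : IsPullback b.left a.left d.left c.left := (sq.map (Over.forget S)).flip
  have h1 : Etale a.left := MorphismProperty.of_isPullback (P := @Etale) sqs hde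
  have h2 : Surjective a.left := MorphismProperty.of_isPullback (P := @Surjective) sqs hds
  haveI := h1
  exact ⟨h1, h2, epi_yon_map a h2 inferInstance (lfp_of_etale _)⟩

/-! ### Injectivity -/

set_option backward.isDefEq.respectTransparency false in
theorem inj_of_locP_lfp {X Y : Sp S} (hX : IsAlgSpace X) (hY : IsAlgSpace Y) (f : X ⟶ Y)
    (hf : LocP @LocallyOfFinitePresentation f)
    {I : Type u} [SmallCategory I] [IsCofiltered I] (D : I ⥤ Over S) (c : Cone D)
    (hc : IsLimit ((Over.forget S).mapCone c)) (haff : ∀ i, IsAffine (D.obj i).left)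
    (i : I) (ξ₁ ξ₂ : (yon S).obj (D.obj i) ⟶ X) (h1 : ξ₁ ≫ f = ξ₂ ≫ f)
    (h2 : (yon S).map (c.π.app i) ≫ ξ₁ = (yon S).map (c.π.app i) ≫ ξ₂) :
    ∃ (k : I) (φ : k ⟶ i), (yon S).map (D.map φ) ≫ ξ₁ = (yon S).map (D.map φ) ≫ ξ₂ := by
  have hΔ := repWith_lfp_diagonal hX hY f hf
  obtain ⟨ζ, hζ1, hζ2⟩ : ∃ ζ : (yon S).obj (D.obj i) ⟶ pullback f f,
      ζ ≫ pullback.fst f f = ξ₁ ∧ ζ ≫ pullback.snd f f = ξ₂ :=
    ⟨pullback.lift ξ₁ ξ₂ h1, pullback.lift_fst _ _ _, pullback.lift_snd _ _ _⟩
  have sqE : IsPullback (hΔ.rep.fst ζ) ((yon S).map (hΔ.rep.snd ζ)) (pullback.diagonal f) ζ :=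
    hΔ.rep.isPullback ζ
  haveI : LocallyOfFinitePresentation (hΔ.rep.snd ζ).left := hΔ.property_snd ζ
  have hcond : ((yon S).map (c.π.app i) ≫ ξ₁) ≫ pullback.diagonal f =
      (yon S).map (c.π.app i) ≫ ζ := by
    apply pullback.hom_ext
    · rw [Category.assoc, Category.assoc, Category.assoc, pullback.diagonal_fst, Category.comp_id,
        hζ1]
    · rw [Category.assoc, Category.assoc, Category.assoc, pullback.diagonal_snd, Category.comp_id,
        hζ2, h2]
  obtain ⟨s, hs⟩ : ∃ s : c.pt ⟶ hΔ.rep.pullback ζ, s ≫ hΔ.rep.snd ζ = c.π.app i := by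
    refine ⟨(yon S).preimage (sqE.lift _ _ hcond), ?_⟩
    apply (yon S).map_injective
    rw [Functor.map_comp, Functor.map_preimage, IsPullback.lift_snd]
  obtain ⟨k, φ, σ, -, hσ2⟩ := exists_section_descent (D ⋙ Over.forget S)
    ((Over.forget S).mapCone c) hc haff (j₁ := i) (hΔ.rep.snd ζ).left s.left (by
      show s.left ≫ (hΔ.rep.snd ζ).left = (c.π.app i).left
      rw [← Over.comp_left, hs])
  obtain ⟨σ', -, hσ'⟩ := exists_over_lift (hΔ.rep.snd ζ) (D.map φ) σ hσ2
  refine ⟨k, φ, ?_⟩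
  have key : (yon S).map (D.map φ) ≫ ζ =
      ((yon S).map σ' ≫ hΔ.rep.fst ζ) ≫ pullback.diagonal f := by
    rw [← hσ', Functor.map_comp, Category.assoc, Category.assoc, sqE.w]
  have e1 : (yon S).map (D.map φ) ≫ ξ₁ = (yon S).map σ' ≫ hΔ.rep.fst ζ := by
    rw [← hζ1, ← Category.assoc, key, Category.assoc, pullback.diagonal_fst, Category.comp_id]
  have e2 : (yon S).map (D.map φ) ≫ ξ₂ = (yon S).map σ' ≫ hΔ.rep.fst ζ := by
    rw [← hζ2, ← Category.assoc, key, Category.assoc, pullback.diagonal_snd, Category.comp_id]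
  rw [e1, e2]

/-! ### Surjectivity for representable morphisms -/

set_option backward.isDefEq.respectTransparency false in
theorem surj_of_repWith_lfp {U : Over S} {Y : Sp S} (g : (yon S).obj U ⟶ Y)
    (hg : RepWith @LocallyOfFinitePresentation g)
    {I : Type u} [SmallCategory I] [IsCofiltered I] (D : I ⥤ Over S) (c : Cone D)
    (hc : IsLimit ((Over.forget S).mapCone c)) (haff : ∀ i, IsAffine (D.obj i).left)
    (ξ : c.pt ⟶ U) (i₀ : I) (y₀ : (yon S).obj (D.obj i₀) ⟶ Y)
    (hξ : (yon S).map ξ ≫ g = (yon S).map (c.π.app i₀) ≫ y₀) :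
    ∃ (k : I) (φ : k ⟶ i₀) (ξ' : D.obj k ⟶ U), c.π.app k ≫ ξ' = ξ ∧
      (yon S).map ξ' ≫ g = (yon S).map (D.map φ) ≫ y₀ := by
  have sqP : IsPullback ((yon S).map (hg.rep.fst' y₀)) ((yon S).map (hg.rep.snd y₀)) g y₀ :=
    hg.rep.isPullback' y₀
  haveI : LocallyOfFinitePresentation (hg.rep.snd y₀).left := hg.property_snd y₀
  obtain ⟨s, hs1, hs2⟩ : ∃ s : c.pt ⟶ hg.rep.pullback y₀,
      s ≫ hg.rep.fst' y₀ = ξ ∧ s ≫ hg.rep.snd y₀ = c.π.app i₀ := by
    refine ⟨(yon S).preimage (sqP.lift _ _ hξ), ?_, ?_⟩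
    · apply (yon S).map_injective
      rw [Functor.map_comp, Functor.map_preimage, IsPullback.lift_fst]
    · apply (yon S).map_injective
      rw [Functor.map_comp, Functor.map_preimage, IsPullback.lift_snd]
  obtain ⟨k, φ, σ, hσ1, hσ2⟩ := exists_section_descent (D ⋙ Over.forget S)
    ((Over.forget S).mapCone c) hc haff (j₁ := i₀) (hg.rep.snd y₀).left s.left (by
      show s.left ≫ (hg.rep.snd y₀).left = (c.π.app i₀).left
      rw [← Over.comp_left, hs2])
  obtain ⟨σ', hσ'l, hσ'⟩ := exists_over_lift (hg.rep.snd y₀) (D.map φ) σ hσ2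
  have hσ'c : c.π.app k ≫ σ' = s := by
    apply Over.OverMorphism.ext
    show (c.π.app k).left ≫ σ'.left = s.left
    rw [hσ'l]
    exact hσ1
  refine ⟨k, φ, σ' ≫ hg.rep.fst' y₀, ?_, ?_⟩
  · rw [← Category.assoc, hσ'c, hs1]
  · rw [Functor.map_comp, Category.assoc, sqP.w, ← Category.assoc, ← Functor.map_comp, hσ']

/-! ### Refinement and descent of étale covers -/

set_option backward.isDefEq.respectTransparency false in
theorem exists_affine_etale_refinement {T W : Over S} [IsAffine T.left] (w : W ⟶ T)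
    [Etale w.left] [hs : Surjective w.left] :
    ∃ (A : Over S) (a : A ⟶ W), IsAffine A.left ∧ Etale (a ≫ w).left ∧
      Surjective (a ≫ w).left := by
  obtain ⟨Vo, hVc, hVimg⟩ : ∃ Vo : W.left.Opens, IsCompact (Vo : Set ↥W.left) ∧
      w.left '' (Vo : Set ↥W.left) = Set.univ :=
    w.left.isOpenMap.exists_opens_image_eq_of_prespectralSpace
      w.left.continuous (fun t _ => hs.surj t) isOpen_univ isCompact_univ
  haveI : CompactSpace ↥Vo.toScheme := isCompact_iff_compactSpace.1 hVc
  obtain ⟨Y, r, hrs, hre, hY⟩ := Groth.Agent.Lib.ShDescH7.exists_affine_etale_cover Vo.toScheme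
  haveI := hre
  refine ⟨Over.mk (r ≫ Vo.ι ≫ W.hom), Over.homMk (r ≫ Vo.ι) (by simp), hY, ?_, ?_⟩
  · show Etale ((r ≫ Vo.ι) ≫ w.left)
    infer_instance
  · refine ⟨fun t => ?_⟩
    have ht : t ∈ w.left '' (Vo : Set ↥W.left) := by
      rw [hVimg]
      exact Set.mem_univ t
    obtain ⟨v, hv, rfl⟩ := ht
    obtain ⟨y, hy⟩ := hrs.surj ⟨v, hv⟩
    refine ⟨y, ?_⟩
    show w.left (Vo.ι (r y)) = w.left v
    rw [hy]
    rfl

set_option backward.isDefEq.respectTransparency false in
theorem exists_cover_stage {I : Type u} [SmallCategory I] [IsCofiltered I] (D : I ⥤ Over S)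
    (c : Cone D) (hc : IsLimit ((Over.forget S).mapCone c))
    (haff : ∀ i, IsAffine (D.obj i).left) (i₀ : I)
    {A : Over S} [IsAffine A.left] (u : A ⟶ c.pt) [Etale u.left] [Surjective u.left] :
    ∃ (k : I) (_ : k ⟶ i₀) (Ak : Over S) (cv : Ak ⟶ D.obj k) (ak : A ⟶ Ak),
      IsAffine Ak.left ∧ Etale cv.left ∧ Surjective cv.left ∧
      IsPullback ak u cv (c.π.app k) := by
  haveI : ∀ i, IsAffine ((D ⋙ Over.forget S).obj i) := haff
  haveI hcaff : IsAffine c.pt.left := Scheme.isAffine_of_isLimit _ hc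
  obtain ⟨X', E', hX', hE', e, a₀, θ, z, he, hes, hz, sq⟩ :=
    Groth.Agent.Lib.SchLimTowerH7.exists_model_surj u.left
  haveI := hX'
  haveI := hE'
  haveI := he
  haveI := hes
  haveI := hz
  haveI : IsAffine (D.obj i₀).left := haff i₀
  obtain ⟨Z, Z', s, cZ, tZ, ζU, hZ, hZ', hs, hcZe, hcZs, hts, sqZ⟩ :=
    Groth.Agent.Lib.LimTowerH7.exists_model_package e z (c.π.app i₀) u a₀ θ sq
  haveI := hs
  obtain ⟨k, φ, σ, hσ1, hσ2⟩ := exists_section_descent (D ⋙ Over.forget S)
    ((Over.forget S).mapCone c) hc haff (j₁ := i₀) s.left tZ.left (by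
      show tZ.left ≫ s.left = (c.π.app i₀).left
      rw [← Over.comp_left, hts])
  obtain ⟨σ', hσ'l, -⟩ := exists_over_lift s (D.map φ) σ hσ2
  have hσ'c : c.π.app k ≫ σ' = tZ := by
    apply Over.OverMorphism.ext
    show (c.π.app k).left ≫ σ'.left = tZ.left
    rw [hσ'l]
    exact hσ1
  have sqA := IsPullback.of_hasPullback cZ σ'
  have sqAs : IsPullback (pullback.fst cZ σ').left (pullback.snd cZ σ').left cZ.left σ'.left :=
    sqA.map (Over.forget S)
  obtain ⟨ak, hak1, hak2⟩ : ∃ ak : A ⟶ pullback cZ σ',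
      ak ≫ pullback.fst cZ σ' = ζU ∧ ak ≫ pullback.snd cZ σ' = u ≫ c.π.app k :=
    ⟨pullback.lift ζU (u ≫ c.π.app k) (by rw [Category.assoc, hσ'c, sqZ.w]),
      pullback.lift_fst _ _ _, pullback.lift_snd _ _ _⟩
  refine ⟨k, φ, pullback cZ σ', pullback.snd cZ σ', ak, ?_, ?_, ?_, ?_⟩
  · haveI := hZ'
    haveI := hZ
    haveI : IsAffine (D.obj k).left := haff k
    exact IsAffine.of_isPullback sqAs
  · exact MorphismProperty.of_isPullback (P := @Etale) sqAs hcZe
  · exact MorphismProperty.of_isPullback (P := @Surjective) sqAs hcZs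
  · have big : IsPullback (ak ≫ pullback.fst cZ σ') u cZ (c.π.app k ≫ σ') := by
      rw [hak1, hσ'c]
      exact sqZ
    exact IsPullback.of_right big hak2 sqA

/-! ### Base change of an affine tower -/

set_option backward.isDefEq.respectTransparency false in
theorem exists_tower_over {I : Type u} [SmallCategory I] [IsCofiltered I] (D : I ⥤ Over S)
    (c : Cone D) (hc : IsLimit ((Over.forget S).mapCone c))
    (haff : ∀ i, IsAffine (D.obj i).left) (k : I)
    {Z : Over S} [IsAffine Z.left] (g : Z ⟶ D.obj k) :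
    ∃ (E : Over k ⥤ Over S) (p : ∀ j, E.obj j ⟶ D.obj j.left) (q : ∀ j, E.obj j ⟶ Z)
      (cE : Cone E) (fst : cE.pt ⟶ c.pt) (w : cE.pt ⟶ Z),
      (∀ j, IsPullback (p j) (q j) (D.map j.hom) g) ∧
      (∀ (j j' : Over k) (φ : j ⟶ j'), E.map φ ≫ p j' = p j ≫ D.map φ.left) ∧
      (∀ (j j' : Over k) (φ : j ⟶ j'), E.map φ ≫ q j' = q j) ∧
      Nonempty (IsLimit ((Over.forget S).mapCone cE)) ∧
      (∀ j, IsAffine (E.obj j).left) ∧
      (∀ j, cE.π.app j ≫ q j = w) ∧
      (∀ j, fst ≫ c.π.app j.left = cE.π.app j ≫ p j) ∧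
      IsPullback fst w (c.π.app k) g := by
  haveI : IsConnected I := IsCofiltered.isConnected I
  have hcO : IsLimit c := isLimitOfReflects (Over.forget S) hc
  have hcY : IsLimit ((yon S).mapCone c) := isLimitOfPreserves (yon S) hcO
  have hDa : ∀ (i j : I) (φ : i ⟶ j), IsAffineMor ((D ⋙ yon S).map φ) := fun i j φ => by
    haveI : IsAffine (D.obj i).left := haff i
    haveI : IsAffine (D.obj j).left := haff j
    exact isAffineMor_yon_map (D.map φ)
  obtain ⟨E, p, q, cE, fst, w, sq, hp, hq, -, hqaff, -, ⟨hl⟩, -, hw, hfst, pb, -⟩ :=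
    Groth.Agent.Lib.LimTowerH7.exists_tower (D ⋙ yon S) hDa ((yon S).mapCone c) hcY k
      ((yon S).map g)
  refine ⟨E, fun j => (yon S).preimage (p j), q, cE, (yon S).preimage fst, w, ?_, ?_, hq,
    ⟨hl⟩, ?_, hw, ?_, ?_⟩
  · intro j
    refine IsPullback.of_map (yon S) ?_ ?_
    · apply (yon S).map_injective
      rw [Functor.map_comp, Functor.map_comp, Functor.map_preimage]
      exact (sq j).w
    · rw [Functor.map_preimage]
      exact sq j
  · intro j j' φ
    apply (yon S).map_injective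
    rw [Functor.map_comp, Functor.map_comp, Functor.map_preimage, Functor.map_preimage]
    exact hp j j' φ
  · intro j
    haveI := hqaff j
    exact isAffine_of_isAffineHom (q j).left
  · intro j
    apply (yon S).map_injective
    rw [Functor.map_comp, Functor.map_comp, Functor.map_preimage, Functor.map_preimage]
    exact hfst j
  · refine IsPullback.of_map (yon S) ?_ ?_
    · apply (yon S).map_injective
      rw [Functor.map_comp, Functor.map_comp, Functor.map_preimage]
      exact pb.w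
    · rw [Functor.map_preimage]
      exact pb

end Groth.Agent.Lib.LfpLiftH7
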