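import Groth.Agent.Lib.LfpLift4_helper7

/-!
# Locally finitely presented morphisms of algebraic spaces are limit preserving: surjectivity
(helper7)

`surj_of_locP_lfp`: a point of `X` over the limit of an affine tower, lying over a point of `Y`
over a stage, descends to a later stage.
-/

set_option autoImplicit false
set_option linter.style.haveILetI false

universe u

open CategoryTheory CategoryTheory.Limits AlgebraicGeometry Opposite Topology
open AlgSp Groth.Agent.Lib.AlgSpPullback_helper7 Groth.Agent.Lib.AlgSpQC_helper7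
  Groth.Agent.Lib.AlgSpPoints_helper7 Groth.Agent.Lib.AlgSpQC2_helper7
  Groth.Agent.Lib.AlgSpSep_helper7
  Groth.Agent.Lib.AlgSpDiag_helper7 Groth.Agent.Lib.AlgSpProper_helper7
  Groth.Agent.Lib.AlgSpEpi_helper7 Groth.Agent.Lib.AlgSpFormal5_helper7
  Groth.Agent.Lib.AlgSpIso_helper7
  Groth.Agent.Lib.AlgSpLocP_helper7 Groth.Agent.Lib.AlgSpAffineMorH7
  Groth.Agent.Lib.AlgSpLocP4_helper7 Groth.Agent.Lib.AlgSpLocP7_helper7
  Groth.Agent.Lib.AlgSpDescent_helper7 Groth.Agent.Lib.AlgSpDescent2_helper7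

namespace Groth.Agent.Lib.LfpLiftH7

variable {S : Scheme.{u}}

/-- The two projections from the base change of the tower along the kernel pair of a cover to the
base change along the cover. -/
theorem exists_tower_projections {I : Type u} [SmallCategory I] (D : I ⥤ Over S) {k : I}
    {Ak : Over S} (cv : Ak ⟶ D.obj k)
    {E : Over k ⥤ Over S} (pE : ∀ j, E.obj j ⟶ D.obj j.left) (qE : ∀ j, E.obj j ⟶ Ak)
    (sqE : ∀ j, IsPullback (pE j) (qE j) (D.map j.hom) cv)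
    {EB : Over k ⥤ Over S} (pB : ∀ j, EB.obj j ⟶ D.obj j.left)
    (qB : ∀ j, EB.obj j ⟶ pullback cv cv)
    (sqB : ∀ j, IsPullback (pB j) (qB j) (D.map j.hom) (pullback.fst cv cv ≫ cv)) :
    ∃ (π₁ π₂ : ∀ j, EB.obj j ⟶ E.obj j),
      (∀ j, π₁ j ≫ pE j = pB j) ∧ (∀ j, π₁ j ≫ qE j = qB j ≫ pullback.fst cv cv) ∧
      (∀ j, π₂ j ≫ pE j = pB j) ∧ (∀ j, π₂ j ≫ qE j = qB j ≫ pullback.snd cv cv) := by
  have c1 : ∀ j, pB j ≫ D.map j.hom = (qB j ≫ pullback.fst cv cv) ≫ cv := fun j => by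
    rw [Category.assoc]
    exact (sqB j).w
  have c2 : ∀ j, pB j ≫ D.map j.hom = (qB j ≫ pullback.snd cv cv) ≫ cv := fun j => by
    rw [Category.assoc, ← pullback.condition]
    exact (sqB j).w
  exact ⟨fun j => (sqE j).lift _ _ (c1 j), fun j => (sqE j).lift _ _ (c2 j),
    fun j => (sqE j).lift_fst _ _ _, fun j => (sqE j).lift_snd _ _ _,
    fun j => (sqE j).lift_fst _ _ _, fun j => (sqE j).lift_snd _ _ _⟩

set_option backward.isDefEq.respectTransparency false in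
theorem surj_of_locP_lfp {X Y : Sp S} (hX : IsAlgSpace X) (hY : IsAlgSpace Y) (f : X ⟶ Y)
    (hf : LocP @LocallyOfFinitePresentation f)
    {I : Type u} [SmallCategory I] [IsCofiltered I] (D : I ⥤ Over S) (c : Cone D)
    (hc : IsLimit ((Over.forget S).mapCone c)) (haff : ∀ i, IsAffine (D.obj i).left)
    (ξ : (yon S).obj c.pt ⟶ X) (i₀ : I) (y₀ : (yon S).obj (D.obj i₀) ⟶ Y)
    (hξ : ξ ≫ f = (yon S).map (c.π.app i₀) ≫ y₀) :
    ∃ (k : I) (φ : k ⟶ i₀) (ξ' : (yon S).obj (D.obj k) ⟶ X),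
      (yon S).map (c.π.app k) ≫ ξ' = ξ ∧ ξ' ≫ f = (yon S).map (D.map φ) ≫ y₀ := by
  haveI : ∀ i, IsAffine ((D ⋙ Over.forget S).obj i) := haff
  haveI hcaff : IsAffine c.pt.left := Scheme.isAffine_of_isLimit _ hc
  -- Step 1: an étale chart of `X` and its pullback to the limit
  obtain ⟨U, p, hpe, hps⟩ := hX.atlas
  obtain ⟨W, uW, w, sqW, hwe, hws⟩ : ∃ (W : Over S) (uW : W ⟶ U) (w : W ⟶ c.pt),
      IsPullback ((yon S).map uW) ((yon S).map w) p ξ ∧ Etale w.left ∧ Surjective w.left :=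
    ⟨_, hpe.rep.fst' ξ, hpe.rep.snd ξ, hpe.rep.isPullback' ξ, hpe.property_snd ξ,
      hps.property _ _ _ (hpe.rep.isPullback ξ)⟩
  haveI := hwe
  haveI := hws
  -- Step 2: affine refinement
  obtain ⟨A, a, hA, hue, hus⟩ := exists_affine_etale_refinement w
  haveI := hA
  haveI := hue
  haveI := hus
  have huA : (yon S).map (a ≫ uW) ≫ p = (yon S).map (a ≫ w) ≫ ξ := by
    rw [Functor.map_comp, Functor.map_comp, Category.assoc, Category.assoc, sqW.w]
  -- Step 3: the cover descends to a stage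
  obtain ⟨k, φ₀, Ak, cv, ak, hAk, hcve, hcvs, sqA⟩ := exists_cover_stage D c hc haff i₀ (a ≫ w)
  haveI := hAk
  -- Step 4: the base change of the tower along the cover
  obtain ⟨E, pE, qE, cE, fstE, wE, sqE, hpE, hqE, ⟨hlE⟩, hEaff, hwE, hfstE, pbE⟩ :=
    exists_tower_over D c hc haff k cv
  obtain ⟨l, -, hl2⟩ : ∃ l : cE.pt ⟶ A, l ≫ ak = wE ∧ l ≫ (a ≫ w) = fstE :=
    ⟨sqA.lift wE fstE pbE.w.symm, sqA.lift_fst _ _ _, sqA.lift_snd _ _ _⟩
  have hu' : (yon S).map (l ≫ a ≫ uW) ≫ p = (yon S).map fstE ≫ ξ := by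
    rw [Functor.map_comp, Category.assoc, huA, ← Category.assoc, ← Functor.map_comp, hl2]
  -- Step 5: the lift to the chart descends to a stage of the new tower
  have hg : RepWith @LocallyOfFinitePresentation (p ≫ f) := by
    have hrep : Representable (p ≫ f) := Functor.relativelyRepresentable.of_diag hY.diag _
    refine repWith_of_locP _ (descendsEtale_of_descendsAlong _) hY (p ≫ f) hrep ?_
    intro U' V' a' b' h' ha' hb' comm'
    exact hf (a' ≫ p) b' h' (repWith_comp _ ha' hpe) hb' (by rw [Category.assoc]; exact comm')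
  have e1 : cE.π.app (Over.mk (𝟙 k)) ≫ pE (Over.mk (𝟙 k)) ≫ D.map φ₀ = fstE ≫ c.π.app i₀ := by
    rw [← Category.assoc, ← hfstE (Over.mk (𝟙 k)), Category.assoc]
    congr 1
    exact c.w φ₀
  obtain ⟨j₂, ψ, u₂, hu₂1, hu₂2⟩ := surj_of_repWith_lfp (p ≫ f) hg E cE hlE hEaff
    (l ≫ a ≫ uW) (Over.mk (𝟙 k)) ((yon S).map (pE (Over.mk (𝟙 k)) ≫ D.map φ₀) ≫ y₀) (by
      rw [← Category.assoc, hu', Category.assoc, hξ, ← Category.assoc, ← Category.assoc,
        ← Functor.map_comp, ← Functor.map_comp, e1])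
  -- the point of `X` over the stage `j₂` of the new tower
  have F1 : (yon S).map (cE.π.app j₂) ≫ (yon S).map u₂ ≫ p = (yon S).map fstE ≫ ξ := by
    rw [← Category.assoc, ← Functor.map_comp, hu₂1, hu']
  have F2 : ((yon S).map u₂ ≫ p) ≫ f =
      (yon S).map (pE j₂ ≫ D.map (ψ.left ≫ φ₀)) ≫ y₀ := by
    rw [Category.assoc, hu₂2, ← Category.assoc, ← Functor.map_comp, ← Category.assoc, hpE j₂ _ ψ,
      Category.assoc, ← D.map_comp]
  -- Step 6: the base change of the tower along the kernel pair of the cover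
  have sqKs : IsPullback (pullback.fst cv cv).left (pullback.snd cv cv).left cv.left cv.left :=
    (IsPullback.of_hasPullback cv cv).map (Over.forget S)
  haveI hBaff0 : IsAffine (pullback cv cv).left := by
    haveI : IsAffine (D.obj k).left := haff k
    exact IsAffine.of_isPullback sqKs
  obtain ⟨EB, pB, qB, cEB, fstB, wB, sqB, hpB, hqB, ⟨hlB⟩, hBaff, hwB, hfstB, pbB⟩ :=
    exists_tower_over D c hc haff k (pullback.fst cv cv ≫ cv)
  obtain ⟨π₁, π₂, hπ1p, hπ1q, hπ2p, hπ2q⟩ := exists_tower_projections D cv pE qE sqE pB qB sqB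
  have hπ1n : ∀ (j j' : Over k) (φ : j ⟶ j'), EB.map φ ≫ π₁ j' = π₁ j ≫ E.map φ := by
    intro j j' φ
    apply (sqE j').hom_ext
    · rw [Category.assoc, Category.assoc, hπ1p, hpB, hpE, ← Category.assoc, hπ1p]
    · rw [Category.assoc, Category.assoc, hπ1q, hqE, hπ1q, ← Category.assoc, hqB]
  have hπ2n : ∀ (j j' : Over k) (φ : j ⟶ j'), EB.map φ ≫ π₂ j' = π₂ j ≫ E.map φ := by
    intro j j' φ
    apply (sqE j').hom_ext
    · rw [Category.assoc, Category.assoc, hπ2p, hpB, hpE, ← Category.assoc, hπ2p]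
    · rw [Category.assoc, Category.assoc, hπ2q, hqE, hπ2q, ← Category.assoc, hqB]
  -- the projections on the limits
  obtain ⟨P₁, hP1a, hP1b⟩ : ∃ P₁ : cEB.pt ⟶ cE.pt,
      P₁ ≫ fstE = fstB ∧ P₁ ≫ wE = wB ≫ pullback.fst cv cv :=
    ⟨pbE.lift fstB (wB ≫ pullback.fst cv cv) (by rw [Category.assoc]; exact pbB.w),
      pbE.lift_fst _ _ _, pbE.lift_snd _ _ _⟩
  obtain ⟨P₂, hP2a, hP2b⟩ : ∃ P₂ : cEB.pt ⟶ cE.pt,
      P₂ ≫ fstE = fstB ∧ P₂ ≫ wE = wB ≫ pullback.snd cv cv :=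
    ⟨pbE.lift fstB (wB ≫ pullback.snd cv cv)
      (by rw [Category.assoc, ← pullback.condition]; exact pbB.w),
      pbE.lift_fst _ _ _, pbE.lift_snd _ _ _⟩
  have hP1 : ∀ j, P₁ ≫ cE.π.app j = cEB.π.app j ≫ π₁ j := by
    intro j
    apply (sqE j).hom_ext
    · rw [Category.assoc, Category.assoc, ← hfstE, ← Category.assoc, hP1a, hπ1p, hfstB]
    · rw [Category.assoc, Category.assoc, hwE, hP1b, hπ1q, ← Category.assoc, hwB]
  have hP2 : ∀ j, P₂ ≫ cE.π.app j = cEB.π.app j ≫ π₂ j := by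
    intro j
    apply (sqE j).hom_ext
    · rw [Category.assoc, Category.assoc, ← hfstE, ← Category.assoc, hP2a, hπ2p, hfstB]
    · rw [Category.assoc, Category.assoc, hwE, hP2b, hπ2q, ← Category.assoc, hwB]
  -- Step 7: the two pullbacks of the point agree at a later stage
  have hζf : ∀ (π : EB.obj j₂ ⟶ E.obj j₂), π ≫ pE j₂ = pB j₂ →
      ((yon S).map π ≫ (yon S).map u₂ ≫ p) ≫ f =
        (yon S).map (pB j₂ ≫ D.map (ψ.left ≫ φ₀)) ≫ y₀ := by
    intro π hπ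
    rw [Category.assoc, F2, ← Category.assoc, ← Functor.map_comp, ← Category.assoc, hπ]
  have hζc : ∀ (π : EB.obj j₂ ⟶ E.obj j₂) (P : cEB.pt ⟶ cE.pt),
      P ≫ cE.π.app j₂ = cEB.π.app j₂ ≫ π → P ≫ fstE = fstB →
      (yon S).map (cEB.π.app j₂) ≫ (yon S).map π ≫ (yon S).map u₂ ≫ p =
        (yon S).map fstB ≫ ξ := by
    intro π P h1 h2
    rw [← Category.assoc, ← Functor.map_comp, ← h1, Functor.map_comp, Category.assoc, F1,
      ← Category.assoc, ← Functor.map_comp, h2]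
  obtain ⟨j₃, φ₃, hj₃⟩ := inj_of_locP_lfp hX hY f hf EB cEB hlB hBaff j₂
    ((yon S).map (π₁ j₂) ≫ (yon S).map u₂ ≫ p) ((yon S).map (π₂ j₂) ≫ (yon S).map u₂ ≫ p)
    ((hζf _ (hπ1p j₂)).trans (hζf _ (hπ2p j₂)).symm)
    ((hζc _ P₁ (hP1 j₂) hP1a).trans (hζc _ P₂ (hP2 j₂) hP2a).symm)
  -- Step 8: descent along the cover at the stage `j₃`
  obtain ⟨hcv₃e, hcv₃s, hcv₃epi⟩ := props_of_isPullback_over (sqE j₃) hcve hcvs
  haveI := hcv₃epi
  haveI : EffectiveEpi ((yon S).map (pE j₃)) := effectiveEpi_of_epi _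
  have hdesc : ∀ {Q : Sp S} (g₁ g₂ : Q ⟶ (yon S).obj (E.obj j₃)),
      g₁ ≫ (yon S).map (pE j₃) = g₂ ≫ (yon S).map (pE j₃) →
      g₁ ≫ (yon S).map (E.map φ₃) ≫ (yon S).map u₂ ≫ p =
        g₂ ≫ (yon S).map (E.map φ₃) ≫ (yon S).map u₂ ≫ p := by
    intro Q g₁ g₂ hg12
    apply hom_ext_yon
    intro T' t
    obtain ⟨x', hx'⟩ := (yon S).map_surjective (t ≫ g₁)
    obtain ⟨y', hy'⟩ := (yon S).map_surjective (t ≫ g₂)
    have hxy : x' ≫ pE j₃ = y' ≫ pE j₃ := by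
      apply (yon S).map_injective
      rw [Functor.map_comp, Functor.map_comp, hx', hy', Category.assoc, Category.assoc, hg12]
    have hq : (x' ≫ qE j₃) ≫ cv = (y' ≫ qE j₃) ≫ cv := by
      rw [Category.assoc, Category.assoc, ← (sqE j₃).w, ← Category.assoc, ← Category.assoc, hxy]
    obtain ⟨κ, hκ1, hκ2⟩ : ∃ κ : T' ⟶ pullback cv cv,
        κ ≫ pullback.fst cv cv = x' ≫ qE j₃ ∧ κ ≫ pullback.snd cv cv = y' ≫ qE j₃ :=
      ⟨pullback.lift _ _ hq, pullback.lift_fst _ _ _, pullback.lift_snd _ _ _⟩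
    obtain ⟨β, hβ1, hβ2⟩ : ∃ β : T' ⟶ EB.obj j₃, β ≫ pB j₃ = x' ≫ pE j₃ ∧ β ≫ qB j₃ = κ :=
      ⟨(sqB j₃).lift (x' ≫ pE j₃) κ (by
          rw [Category.assoc, (sqE j₃).w, ← Category.assoc κ, hκ1, Category.assoc]),
        (sqB j₃).lift_fst _ _ _, (sqB j₃).lift_snd _ _ _⟩
    have hβx : β ≫ π₁ j₃ = x' := by
      apply (sqE j₃).hom_ext
      · rw [Category.assoc, hπ1p, hβ1]
      · rw [Category.assoc, hπ1q, ← Category.assoc, hβ2, hκ1]
    have hβy : β ≫ π₂ j₃ = y' := by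
      apply (sqE j₃).hom_ext
      · rw [Category.assoc, hπ2p, hβ1, hxy]
      · rw [Category.assoc, hπ2q, ← Category.assoc, hβ2, hκ2]
    have e3 : (yon S).map (β ≫ EB.map φ₃) ≫ (yon S).map (π₁ j₂) ≫ (yon S).map u₂ ≫ p =
        (yon S).map (β ≫ EB.map φ₃) ≫ (yon S).map (π₂ j₂) ≫ (yon S).map u₂ ≫ p := by
      rw [Functor.map_comp, Category.assoc, Category.assoc, hj₃]
    have hL : t ≫ g₁ ≫ (yon S).map (E.map φ₃) ≫ (yon S).map u₂ ≫ p =
        (yon S).map (β ≫ EB.map φ₃) ≫ (yon S).map (π₁ j₂) ≫ (yon S).map u₂ ≫ p := by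
      calc t ≫ g₁ ≫ (yon S).map (E.map φ₃) ≫ (yon S).map u₂ ≫ p
          = (yon S).map x' ≫ (yon S).map (E.map φ₃) ≫ (yon S).map u₂ ≫ p := by
            rw [hx', Category.assoc]
        _ = (yon S).map (x' ≫ E.map φ₃) ≫ (yon S).map u₂ ≫ p := by
            rw [Functor.map_comp, Category.assoc]
        _ = (yon S).map ((β ≫ EB.map φ₃) ≫ π₁ j₂) ≫ (yon S).map u₂ ≫ p := by
            rw [← hβx, Category.assoc, ← hπ1n]
            simp only [Category.assoc]
        _ = _ := by rw [Functor.map_comp, Category.assoc]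
    have hR : t ≫ g₂ ≫ (yon S).map (E.map φ₃) ≫ (yon S).map u₂ ≫ p =
        (yon S).map (β ≫ EB.map φ₃) ≫ (yon S).map (π₂ j₂) ≫ (yon S).map u₂ ≫ p := by
      calc t ≫ g₂ ≫ (yon S).map (E.map φ₃) ≫ (yon S).map u₂ ≫ p
          = (yon S).map y' ≫ (yon S).map (E.map φ₃) ≫ (yon S).map u₂ ≫ p := by
            rw [hy', Category.assoc]
        _ = (yon S).map (y' ≫ E.map φ₃) ≫ (yon S).map u₂ ≫ p := by
            rw [Functor.map_comp, Category.assoc]
        _ = (yon S).map ((β ≫ EB.map φ₃) ≫ π₂ j₂) ≫ (yon S).map u₂ ≫ p := by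
            rw [← hβy, Category.assoc, ← hπ2n]
            simp only [Category.assoc]
        _ = _ := by rw [Functor.map_comp, Category.assoc]
    exact hL.trans (e3.trans hR.symm)
  have hfac : (yon S).map (pE j₃) ≫ EffectiveEpi.desc ((yon S).map (pE j₃)) _ hdesc =
      (yon S).map (E.map φ₃) ≫ (yon S).map u₂ ≫ p := EffectiveEpi.fac _ _ hdesc
  -- Step 9: the descended point
  obtain ⟨-, -, hfstEepi⟩ := props_of_isPullback_over pbE hcve hcvs
  haveI := hfstEepi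
  refine ⟨j₃.left, φ₃.left ≫ ψ.left ≫ φ₀,
    EffectiveEpi.desc ((yon S).map (pE j₃)) _ hdesc, ?_, ?_⟩
  · rw [← cancel_epi ((yon S).map fstE), ← Category.assoc, ← Functor.map_comp, hfstE j₃,
      Functor.map_comp, Category.assoc, hfac, ← Category.assoc, ← Functor.map_comp, cE.w, F1]
  · rw [← cancel_epi ((yon S).map (pE j₃)), ← Category.assoc, hfac, Category.assoc,
      Category.assoc, ← Category.assoc ((yon S).map u₂), F2, ← Category.assoc,
      ← Functor.map_comp, ← Category.assoc, hpE j₃ _ φ₃, Category.assoc, ← D.map_comp,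
      Functor.map_comp, Category.assoc]

end Groth.Agent.Lib.LfpLiftH7
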