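import Groth.Agent.Lib.LfpLift5_helper7

/-!
# Locally of finite presentation iff relatively limit preserving (helper7)

`main10024`.
-/

set_option autoImplicit false
set_option linter.style.haveILetI false

universe u

open CategoryTheory CategoryTheory.Limits AlgebraicGeometry Opposite Topology
open AlgSp Groth.Agent.Lib.AlgSpPullback_helper7 Groth.Agent.Lib.AlgSpQC_helper7
  Groth.Agent.Lib.AlgSpPoints_helper7 Groth.Agent.Lib.AlgSpQC2_helper7
  Groth.Agent.Lib.AlgSpOpenSub_helper7

namespace Groth.Agent.Lib.LfpLiftH7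

variable {S : Scheme.{u}}

/-- Membership in the fibre functor in terms of morphisms of sheaves. -/
theorem fiber_mem_iff {X Y : Sp S} (f : X ⟶ Y) {T T' : Over S} (g : T' ⟶ T)
    (y : Y.obj.obj (op T)) (x : X.obj.obj (op T')) :
    f.hom.app _ x = Y.obj.map g.op y ↔ yE.symm x ≫ f = (yon S).map g ≫ yE.symm y := by
  constructor
  · intro h
    apply yE.injective
    rw [yE_comp, Equiv.apply_symm_apply, yE_symm_map, Equiv.apply_symm_apply, h]
  · intro h
    have := congrArg yE h
    rwa [yE_comp, Equiv.apply_symm_apply, yE_symm_map, Equiv.apply_symm_apply] at this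

set_option backward.isDefEq.respectTransparency false in
/-- **Locally of finite presentation implies relatively limit preserving.** -/
theorem isRelLimitPreserving_of_locP_lfp {X Y : Sp S} (hX : IsAlgSpace X) (hY : IsAlgSpace Y)
    (f : X ⟶ Y) (hf : LocP @LocallyOfFinitePresentation f) : IsRelLimitPreserving f.hom := by
  intro T y I _ _ D c hc haff hcaff
  have hcE : IsLimit ((Over.forget S).mapCone ((Over.map T.hom).mapCone c)) := hc
  have haffE : ∀ i, IsAffine ((D ⋙ Over.map T.hom).obj i).left := haff
  refine ⟨Types.FilteredColimit.isColimitOf' _ _ ?_ ?_⟩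
  · -- surjectivity
    intro x
    have hξ0 : yE.symm x.1 ≫ f = (yon S).map (overHom T c.pt) ≫ yE.symm y :=
      (fiber_mem_iff f (overHom T c.pt) y x.1).1 x.2
    obtain ⟨i₀⟩ := IsCofiltered.nonempty (C := I)
    have hξ : yE.symm x.1 ≫ f = (yon S).map (((Over.map T.hom).mapCone c).π.app i₀) ≫
        (yon S).map (overHom T (D.obj i₀)) ≫ yE.symm y := by
      rw [hξ0, ← Category.assoc, ← Functor.map_comp]
      congr 2
      exact (map_comp_overHom T (c.π.app i₀)).symm
    obtain ⟨k, φ, ξ', h1, h2⟩ := surj_of_locP_lfp hX hY f hf (D ⋙ Over.map T.hom)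
      ((Over.map T.hom).mapCone c) hcE haffE (yE.symm x.1) i₀ _ hξ
    have hmem : f.hom.app _ (yE ξ') = Y.obj.map (overHom T (D.obj k)).op y :=
      (fiber_mem_iff f (overHom T (D.obj k)) y (yE ξ')).2 (by
        rw [Equiv.symm_apply_apply, h2, ← Category.assoc, ← Functor.map_comp]
        congr 2
        exact map_comp_overHom T (D.map φ))
    refine ⟨op k, ⟨yE ξ', hmem⟩, ?_⟩
    apply Subtype.ext
    show x.1 = X.obj.map ((Over.map T.hom).map (c.π.app k)).op (yE ξ')
    have e1 := yE_symm_map ((Over.map T.hom).map (c.π.app k)) (yE ξ')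
    rw [Equiv.symm_apply_apply] at e1
    have e2 : yE.symm x.1 = yE.symm (X.obj.map ((Over.map T.hom).map (c.π.app k)).op (yE ξ')) :=
      h1.symm.trans e1
    exact yE.symm.injective e2
  · -- injectivity
    intro i x₁ x₂ hx
    have h1 : yE.symm x₁.1 ≫ f = yE.symm x₂.1 ≫ f :=
      ((fiber_mem_iff f (overHom T (D.obj i.unop)) y x₁.1).1 x₁.2).trans
        ((fiber_mem_iff f (overHom T (D.obj i.unop)) y x₂.1).1 x₂.2).symm
    have hx' : X.obj.map ((Over.map T.hom).map (c.π.app i.unop)).op x₁.1 =
        X.obj.map ((Over.map T.hom).map (c.π.app i.unop)).op x₂.1 := congrArg Subtype.val hx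
    have h2 : (yon S).map (((Over.map T.hom).mapCone c).π.app i.unop) ≫ yE.symm x₁.1 =
        (yon S).map (((Over.map T.hom).mapCone c).π.app i.unop) ≫ yE.symm x₂.1 := by
      show (yon S).map ((Over.map T.hom).map (c.π.app i.unop)) ≫ yE.symm x₁.1 =
        (yon S).map ((Over.map T.hom).map (c.π.app i.unop)) ≫ yE.symm x₂.1
      rw [yE_symm_map, yE_symm_map, hx']
    obtain ⟨k, φ, hk⟩ := inj_of_locP_lfp hX hY f hf (D ⋙ Over.map T.hom)
      ((Over.map T.hom).mapCone c) hcE haffE i.unop _ _ h1 h2
    refine ⟨op k, φ.op, ?_⟩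
    apply Subtype.ext
    show X.obj.map ((Over.map T.hom).map (D.map φ)).op x₁.1 =
      X.obj.map ((Over.map T.hom).map (D.map φ)).op x₂.1
    have hk' : (yon S).map ((Over.map T.hom).map (D.map φ)) ≫ yE.symm x₁.1 =
        (yon S).map ((Over.map T.hom).map (D.map φ)) ≫ yE.symm x₂.1 := hk
    rw [yE_symm_map, yE_symm_map] at hk'
    exact yE.symm.injective hk'

/-! ### The converse -/

/-- The comparison isomorphism between `A`, viewed over `S` through `m : A ⟶ T`, and `A`. -/
def viaIso {A T : Over S} (m : A ⟶ T) : (Over.map T.hom).obj (Over.mk m.left) ≅ A :=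
  Over.isoMk (Iso.refl _) (by simp)

theorem viaIso_hom_comp {A T : Over S} (m : A ⟶ T) :
    (viaIso m).hom ≫ m = overHom T (Over.mk m.left) := by
  apply Over.OverMorphism.ext
  simp [viaIso]

theorem viaIso_naturality {A A' T : Over S} (m : A ⟶ T) (m' : A' ⟶ T) (g : A ⟶ A')
    (g' : Over.mk m.left ⟶ Over.mk m'.left) (hg' : g'.left = g.left) :
    (Over.map T.hom).map g' ≫ (viaIso m').hom = (viaIso m).hom ≫ g := by
  apply Over.OverMorphism.ext
  simp [viaIso, hg']

section tower

variable {I : Type u} [SmallCategory I] (D : I ⥤ Over S) (c : Cone D) (i : I)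

/-- The tower over `D.obj i` indexed by `Over i`. -/
def towerOver : Over i ⥤ Over (D.obj i).left where
  obj κ := Over.mk (D.map κ.hom).left
  map {κ κ'} g := Over.homMk (D.map g.left).left (by
    show (D.map g.left).left ≫ (D.map κ'.hom).left = (D.map κ.hom).left
    rw [← Over.comp_left, ← D.map_comp, Over.w g])
  map_id κ := by
    apply Over.OverMorphism.ext
    simp
  map_comp g g' := by
    apply Over.OverMorphism.ext
    simp

/-- The legs of the cone over `towerOver`. -/
def towerOverLeg (κ : Over i) :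
    (Over.mk (c.π.app i).left : Over (D.obj i).left) ⟶ Over.mk (D.map κ.hom).left :=
  Over.homMk (c.π.app κ.left).left (by
    show (c.π.app κ.left).left ≫ (D.map κ.hom).left = (c.π.app i).left
    rw [← Over.comp_left, c.w])

@[simp]
theorem towerOverLeg_left (κ : Over i) : (towerOverLeg D c i κ).left = (c.π.app κ.left).left := rfl

/-- The cone over `towerOver`. -/
def towerOverCone : Cone (towerOver D i) where
  pt := Over.mk (c.π.app i).left
  π :=
    { app := fun κ => towerOverLeg D c i κ
      naturality := fun κ κ' g => by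
        apply Over.OverMorphism.ext
        show 𝟙 _ ≫ (c.π.app κ'.left).left = (c.π.app κ.left).left ≫ (D.map g.left).left
        rw [Category.id_comp, ← Over.comp_left, c.w] }

set_option backward.isDefEq.respectTransparency false in
/-- The cone over `towerOver` is a limit cone of schemes. -/
noncomputable def towerOverConeIsLimit [IsCofiltered I] (hc : IsLimit ((Over.forget S).mapCone c)) :
    IsLimit ((Over.forget (D.obj i).left).mapCone (towerOverCone D c i)) :=
  (Functor.Initial.isLimitWhiskerEquiv (Over.forget i) ((Over.forget S).mapCone c)).symm hc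

end tower

set_option backward.isDefEq.respectTransparency false in
/-- **Relatively limit preserving implies locally of finite presentation.** -/
theorem locP_lfp_of_isRelLimitPreserving (S : Scheme.{u}) {X Y : AlgSp.Space S} (f : X ⟶ Y)
    (h : IsRelLimitPreserving f.hom.hom) : LocP @LocallyOfFinitePresentation f.hom := by
  apply main10031 S f
  intro I _ _ D c hc haff hcaff x i y hxy
  obtain ⟨hcol⟩ := h (D.obj i) (yE y) (towerOver D i) (towerOverCone D c i)
    (towerOverConeIsLimit D c i hc) (fun κ => haff κ.left) hcaff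
  have hz : f.hom.hom.app _ (yE ((yon S).map (viaIso (c.π.app i)).hom ≫ x)) =
      Y.obj.obj.map (overHom (D.obj i) (Over.mk (c.π.app i).left)).op (yE y) :=
    (fiber_mem_iff f.hom (overHom (D.obj i) (Over.mk (c.π.app i).left)) (yE y) _).2 (by
      rw [Equiv.symm_apply_apply, Equiv.symm_apply_apply, Category.assoc, hxy, ← Category.assoc,
        ← Functor.map_comp, viaIso_hom_comp])
  obtain ⟨⟨κ⟩, zκ, hzκ⟩ := Types.jointly_surjective_of_isColimit hcol
    (⟨yE ((yon S).map (viaIso (c.π.app i)).hom ≫ x), hz⟩ :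
      (fiberFun f.hom.hom (D.obj i) (yE y)).obj (op (towerOverCone D c i).pt))
  obtain ⟨zv, hzv⟩ : ∃ zv : X.obj.obj.obj
      (op ((Over.map (D.obj i).hom).obj (Over.mk (D.map κ.hom).left))), zv = zκ.1 := ⟨_, rfl⟩
  have hmemκ : f.hom.hom.app _ zv =
      Y.obj.obj.map (overHom (D.obj i) (Over.mk (D.map κ.hom).left)).op (yE y) := by
    rw [hzv]
    exact zκ.2
  have hval : X.obj.obj.map ((Over.map (D.obj i).hom).map (towerOverLeg D c i κ)).op zv =
      yE ((yon S).map (viaIso (c.π.app i)).hom ≫ x) := by
    rw [hzv]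
    exact congrArg Subtype.val hzκ
  have nat := viaIso_naturality (c.π.app i) (D.map κ.hom) (c.π.app κ.left)
    (towerOverLeg D c i κ) rfl
  have nat' : c.π.app κ.left ≫ (viaIso (D.map κ.hom)).inv =
      (viaIso (c.π.app i)).inv ≫ (Over.map (D.obj i).hom).map (towerOverLeg D c i κ) := by
    rw [Iso.comp_inv_eq, Category.assoc, nat, Iso.inv_hom_id_assoc]
  refine ⟨κ.left, κ.hom, (yon S).map (viaIso (D.map κ.hom)).inv ≫ yE.symm zv, ?_, ?_⟩
  · calc (yon S).map (c.π.app κ.left) ≫ (yon S).map (viaIso (D.map κ.hom)).inv ≫ yE.symm zv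
        = (yon S).map (c.π.app κ.left ≫ (viaIso (D.map κ.hom)).inv) ≫ yE.symm zv := by
          rw [Functor.map_comp, Category.assoc]
      _ = (yon S).map (viaIso (c.π.app i)).inv ≫
          (yon S).map ((Over.map (D.obj i).hom).map (towerOverLeg D c i κ)) ≫ yE.symm zv := by
          rw [nat', Functor.map_comp, Category.assoc]
      _ = (yon S).map (viaIso (c.π.app i)).inv ≫ yE.symm
          (X.obj.obj.map ((Over.map (D.obj i).hom).map (towerOverLeg D c i κ)).op zv) := by
          rw [yE_symm_map]
      _ = (yon S).map (viaIso (c.π.app i)).inv ≫ (yon S).map (viaIso (c.π.app i)).hom ≫ x := by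
          rw [hval, Equiv.symm_apply_apply]
      _ = x := by
          rw [← Category.assoc, ← Functor.map_comp, Iso.inv_hom_id,
            CategoryTheory.Functor.map_id, Category.id_comp]
  · have e := (fiber_mem_iff f.hom (overHom (D.obj i) (Over.mk (D.map κ.hom).left)) (yE y) zv).1
      hmemκ
    calc ((yon S).map (viaIso (D.map κ.hom)).inv ≫ yE.symm zv) ≫ f.hom
        = (yon S).map (viaIso (D.map κ.hom)).inv ≫
            (yon S).map ((viaIso (D.map κ.hom)).hom ≫ D.map κ.hom) ≫ y := by
          rw [Category.assoc, e, Equiv.symm_apply_apply, viaIso_hom_comp]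
      _ = (yon S).map (D.map κ.hom) ≫ y := by
          rw [← Category.assoc, ← Functor.map_comp, Iso.inv_hom_id_assoc]

/-- **S10024**. -/
theorem main10024 (S : Scheme.{u}) {X Y : AlgSp.Space S} (f : X ⟶ Y) :
    LocP @LocallyOfFinitePresentation f.hom ↔ IsRelLimitPreserving f.hom.hom :=
  ⟨fun h => isRelLimitPreserving_of_locP_lfp X.property Y.property f.hom h,
    fun h => locP_lfp_of_isRelLimitPreserving S f h⟩

end Groth.Agent.Lib.LfpLiftH7
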