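import Mathlib
import Groth.Agent.Lib.FinEtCover_helper8

/-!
# Generic multisections of finite type algebras over a domain (helper3)
APPEND-ONLY once landed.

Ring-level core for S8544: for a domain `A` and a finite type `A`-algebra `C`, after inverting
a single nonzero element `g` of `A` either `C[1/g] = 0` or there are a finite étale free
`A_g`-algebra `B'`, a finite free radicial `B'`-algebra `B''` and an `A`-algebra map `C → B''`.
-/

set_option autoImplicit false
set_option linter.all false
set_option maxHeartbeats 1600000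

universe u
open Polynomial

namespace Groth.Agent.Lib.LfpSectH3

section Radicial

/-- Field-valued points of a subalgebra spanned by `p`-power radical elements are determined by
their restriction to the base. -/
theorem eq_of_pow_mem {E L : Type*} [CommRing E] [Field L] [Algebra E L] (p : ℕ) [ExpChar L p]
    (B : Subalgebra E L) {ι : Type*} (m : ι → L)
    (hB : Subalgebra.toSubmodule B = Submodule.span E (Set.range m))
    (hm : ∀ i, ∃ n, m i ^ p ^ n ∈ (algebraMap E L).range)
    (F : Type*) [Field F] (ψ₁ ψ₂ : B →+* F)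
    (h : ψ₁.comp (algebraMap E B) = ψ₂.comp (algebraMap E B)) : ψ₁ = ψ₂ := by
  have hmem : ∀ i, m i ∈ B := fun i => by
    have : m i ∈ Subalgebra.toSubmodule B := by
      rw [hB]; exact Submodule.subset_span ⟨i, rfl⟩
    exact this
  have hE : ∀ e : E, ψ₁ (algebraMap E B e) = ψ₂ (algebraMap E B e) := fun e => congr($h e)
  have hgen : ∀ i, ψ₁ ⟨m i, hmem i⟩ = ψ₂ ⟨m i, hmem i⟩ := by
    intro i
    obtain ⟨n, e, he⟩ := hm i
    have he' : algebraMap E B e = (⟨m i, hmem i⟩ : B) ^ p ^ n := Subtype.ext he
    have h1 : ψ₁ ⟨m i, hmem i⟩ ^ p ^ n = ψ₂ ⟨m i, hmem i⟩ ^ p ^ n := by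
      rw [← map_pow, ← map_pow, ← he', hE]
    cases ‹ExpChar L p› with
    | zero => simpa using h1
    | prime hp =>
      have hpL : ((p : ℕ) : L) = 0 := CharP.cast_eq_zero L p
      have hpB : ((p : ℕ) : B) = 0 := Subtype.ext (by simpa using hpL)
      have hpF : ((p : ℕ) : F) = 0 := by
        have := congrArg ψ₁ hpB
        simpa using this
      haveI : CharP F p := ringChar.of_eq (CharP.ringChar_of_prime_eq_zero hp hpF)
      haveI : ExpChar F p := ExpChar.prime hp
      exact iterateFrobenius_inj F p n (by simpa [iterateFrobenius_def] using h1)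
  refine RingHom.ext fun x => ?_
  obtain ⟨x, hx⟩ := x
  have hx' : x ∈ Submodule.span E (Set.range m) := by rw [← hB]; exact hx
  induction hx' using Submodule.span_induction with
  | mem y hy =>
    obtain ⟨i, rfl⟩ := hy
    exact hgen i
  | zero =>
    have : (⟨0, hx⟩ : B) = 0 := rfl
    rw [this, map_zero, map_zero]
  | add y z hy hz ihy ihz =>
    have hy' : y ∈ B := by
      have : y ∈ Subalgebra.toSubmodule B := by rw [hB]; exact hy
      exact this
    have hz' : z ∈ B := by
      have : z ∈ Subalgebra.toSubmodule B := by rw [hB]; exact hz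
      exact this
    have : (⟨y + z, hx⟩ : B) = ⟨y, hy'⟩ + ⟨z, hz'⟩ := rfl
    rw [this, map_add, map_add, ihy hy', ihz hz']
  | smul a y hy ihy =>
    have hy' : y ∈ B := by
      have : y ∈ Subalgebra.toSubmodule B := by rw [hB]; exact hy
      exact this
    have : (⟨a • y, hx⟩ : B) = algebraMap E B a * ⟨y, hy'⟩ := by
      apply Subtype.ext
      simp [Algebra.smul_def]
    rw [this, map_mul, map_mul, hE, ihy hy']

end Radicial

section Core

/-- From a basis of a purely inseparable extension `L/K'` whose structure constants (and `p`-power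
constants) come from a subring `E` of `K'`, the `E`-span of the basis is a finite free radicial
`E`-subalgebra of `L`. -/
theorem exists_radicial_free {E K' L : Type u} [CommRing E] [Field K'] [Field L] [Algebra K' L]
    (ev : E →+* K') (hinj : Function.Injective ev)
    {ι : Type*} [Finite ι] (m : Module.Basis ι K' L) (p : ℕ) [ExpChar L p]
    (hmul : ∀ i j k, m.repr (m i * m j) k ∈ ev.range)
    (hone : ∀ k, m.repr 1 k ∈ ev.range)
    (hpow : ∀ i, ∃ n, ∃ z ∈ ev.range, algebraMap K' L z = m i ^ p ^ n) :
    ∃ (B : Type u) (_ : CommRing B) (_ : Algebra E B) (ιB : B →+* L),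
      Function.Injective ιB ∧ (∀ e, ιB (algebraMap E B e) = algebraMap K' L (ev e)) ∧
      Module.Finite E B ∧ Module.Free E B ∧
      (∀ (F : Type u) [Field F] (ψ₁ ψ₂ : B →+* F),
        ψ₁.comp (algebraMap E B) = ψ₂.comp (algebraMap E B) → ψ₁ = ψ₂) ∧
      (∀ x : L, (∀ k, m.repr x k ∈ ev.range) → x ∈ ιB.range) := by
  classical
  letI algEK : Algebra E K' := ev.toAlgebra
  letI algEL : Algebra E L := ((algebraMap K' L).comp ev).toAlgebra
  haveI tower : IsScalarTower E K' L := IsScalarTower.of_algebraMap_eq (fun _ => rfl)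
  haveI : Fintype ι := Fintype.ofFinite ι
  obtain ⟨M, hM⟩ : ∃ M : Submodule E L, M = Submodule.span E (Set.range m) := ⟨_, rfl⟩
  have key : ∀ x : L, (∀ k, m.repr x k ∈ ev.range) → x ∈ M := by
    intro x hx
    rw [← m.sum_repr x]
    refine Submodule.sum_mem _ (fun k _ => ?_)
    obtain ⟨e, he⟩ := hx k
    have : m.repr x k • m k = e • m k := by
      rw [← he]
      exact algebraMap_smul K' e (m k)
    rw [this, hM]
    exact Submodule.smul_mem _ _ (Submodule.subset_span ⟨k, rfl⟩)
  have h1 : (1 : L) ∈ M := key 1 hone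
  have hMM : M * M ≤ M := by
    rw [hM, Submodule.span_mul_span, Submodule.span_le]
    rintro _ ⟨_, ⟨i, rfl⟩, _, ⟨j, rfl⟩, rfl⟩
    rw [← hM]
    exact key _ (hmul i j)
  have hmul' : ∀ x y : L, x ∈ M → y ∈ M → x * y ∈ M := fun x y hx hy =>
    hMM (Submodule.mul_mem_mul hx hy)
  obtain ⟨B, hB⟩ : ∃ B : Subalgebra E L, Subalgebra.toSubmodule B = M :=
    ⟨M.toSubalgebra h1 hmul', Submodule.toSubalgebra_toSubmodule M h1 hmul'⟩
  have hli : LinearIndependent E m := by
    refine LinearIndependent.restrict_scalars (R := E) (K := K') ?_ m.linearIndependent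
    intro a b hab
    apply hinj
    have hab' : algebraMap E K' a = algebraMap E K' b := by
      simpa [Algebra.smul_def] using hab
    exact hab'
  refine ⟨B, inferInstance, inferInstance, B.val.toRingHom, Subtype.val_injective,
    fun e => rfl, ?_, ?_, ?_, ?_⟩
  · have hfg : (Subalgebra.toSubmodule B).FG := by
      rw [hB, hM]
      exact Submodule.fg_span (Set.finite_range m)
    exact Module.Finite.iff_fg.mpr hfg
  · have hfree : Module.Free E (Submodule.span E (Set.range m)) :=
      Module.Free.of_basis (Module.Basis.span hli)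
    have e : (Submodule.span E (Set.range m)) ≃ₗ[E] Subalgebra.toSubmodule B :=
      LinearEquiv.ofEq _ _ (by rw [hB, hM])
    exact Module.Free.of_equiv e
  · intro F _ ψ₁ ψ₂ h
    refine eq_of_pow_mem p B m (by rw [hB, hM]) ?_ F ψ₁ ψ₂ h
    intro i
    obtain ⟨n, z, ⟨e, rfl⟩, hz⟩ := hpow i
    exact ⟨n, e, hz⟩
  · intro x hx
    have : x ∈ Subalgebra.toSubmodule B := by rw [hB]; exact key x hx
    exact ⟨⟨x, this⟩, rfl⟩

end Core

section Residue

open TensorProduct

/-- A finite type algebra over a domain either dies after inverting a nonzero element, or has a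
point with values in a finite extension of the fraction field. -/
theorem exists_finite_residue (A : Type u) [CommRing A] [IsDomain A] (C : Type u) [CommRing C]
    [Algebra A C] [Algebra.FiniteType A C] :
    (∃ g : A, g ≠ 0 ∧ algebraMap A C g = 0) ∨
    ∃ (L : Type u) (_ : Field L) (_ : Algebra (FractionRing A) L) (_ : Algebra A L)
      (_ : IsScalarTower A (FractionRing A) L) (φ : C →ₐ[A] L),
      Module.Finite (FractionRing A) L := by
  by_cases hT : Subsingleton (FractionRing A ⊗[A] C)
  · left
    have h0 : TensorProduct.mk A (FractionRing A) C 1 (1 : C) = 0 := Subsingleton.elim _ _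
    obtain ⟨c, hc⟩ := (IsLocalizedModule.eq_zero_iff (nonZeroDivisors A)
      (TensorProduct.mk A (FractionRing A) C 1)).mp h0
    refine ⟨c, nonZeroDivisors.ne_zero c.2, ?_⟩
    rw [Algebra.algebraMap_eq_smul_one]
    exact hc
  · right
    rw [not_subsingleton_iff_nontrivial] at hT
    obtain ⟨m, hm⟩ := Ideal.exists_maximal (FractionRing A ⊗[A] C)
    letI : Field ((FractionRing A ⊗[A] C) ⧸ m) := Ideal.Quotient.field m
    haveI : Algebra.FiniteType (FractionRing A) ((FractionRing A ⊗[A] C) ⧸ m) :=
      Algebra.FiniteType.of_surjective (Ideal.Quotient.mkₐ (FractionRing A) m)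
        (Ideal.Quotient.mkₐ_surjective _ m)
    refine ⟨(FractionRing A ⊗[A] C) ⧸ m, inferInstance, inferInstance, inferInstance,
      inferInstance, (Ideal.Quotient.mkₐ A m).comp Algebra.TensorProduct.includeRight, ?_⟩
    exact finite_of_finite_type_of_isJacobsonRing _ _

end Residue

section Lifts

open FinEtCoverH8

theorem exists_away_lifts_finset {A k : Type u} [CommRing A] [Field k] [Algebra A k]
    (hk : Ratios A k) (S : Finset k[X]) :
    ∃ d : A, algebraMap A k d ≠ 0 ∧ ∀ (R : Type u) [CommRing R] [Algebra A R] [Algebra R k]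
      [IsScalarTower A R k], IsUnit (algebraMap A R d) →
        ∀ q ∈ S, q ∈ lifts (algebraMap R k) := by
  classical
  induction S using Finset.induction_on with
  | empty => exact ⟨1, by simp, fun R _ _ _ _ _ q hq => absurd hq (Finset.notMem_empty q)⟩
  | insert q₀ S hq₀ ih =>
    obtain ⟨d, hd, hS⟩ := ih
    obtain ⟨d₀, hd₀, hq⟩ := exists_away_lifts hk q₀
    refine ⟨d₀ * d, by rw [map_mul]; exact mul_ne_zero hd₀ hd, ?_⟩
    intro R _ _ _ _ hu q hqS
    rw [map_mul] at hu
    rcases Finset.mem_insert.mp hqS with rfl | hqS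
    · exact hq R (isUnit_of_mul_isUnit_left hu)
    · exact hS R (isUnit_of_mul_isUnit_right hu) q hqS

theorem exists_ringHom_lift {C B L : Type*} [CommRing C] [CommRing B] [CommRing L]
    (ιB : B →+* L) (hinj : Function.Injective ιB) (φ : C →+* L)
    (hφ : ∀ c, φ c ∈ ιB.range) : ∃ s : C →+* B, ιB.comp s = φ := by
  choose s hs using hφ
  refine ⟨{ toFun := s
            map_one' := hinj (by rw [hs, map_one, map_one])
            map_mul' := fun x y => hinj (by rw [hs, map_mul, map_mul, hs, hs])
            map_zero' := hinj (by rw [hs, map_zero, map_zero])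
            map_add' := fun x y => hinj (by rw [hs, map_add, map_add, hs, hs]) }, ?_⟩
  ext c
  exact hs c

end Lifts

end Groth.Agent.Lib.LfpSectH3
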