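import Mathlib
import Groth.Agent.Lib.LfpSect1_helper3

/-!
# Generic multisections of finite type algebras over a domain, assembly (helper3)
APPEND-ONLY once landed.
-/

set_option autoImplicit false
set_option linter.all false
set_option maxHeartbeats 1600000

universe u
open Polynomial

namespace Groth.Agent.Lib.LfpSectH3

open FinEtCoverH8

section Inj

variable {R k L : Type u} [CommRing R] [Field k] [Field L] [Algebra R k] [Algebra k L]
  [Algebra R L] [IsScalarTower R k L]

/-- the evaluation map `R[X]/(P) → L` is injective when `R → k` is. -/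
theorem evalHom_injective [Algebra.IsIntegral k L] (P : R[X]) (θ : L)
    (hPθ : P.map (algebraMap R k) = minpoly k θ) (hP : P.Monic)
    (hinj : Function.Injective (algebraMap R k)) :
    Function.Injective (evalHom P θ hPθ) := by
  rw [injective_iff_map_eq_zero]
  intro x hx
  obtain ⟨Q, rfl⟩ := AdjoinRoot.mk_surjective x
  have hint : IsIntegral k θ := Algebra.IsIntegral.isIntegral θ
  haveI : Nontrivial R := (algebraMap R k).domain_nontrivial
  have hmod : AdjoinRoot.mk P Q = AdjoinRoot.mk P (Q %ₘ P) := by
    conv_lhs => rw [← modByMonic_add_div Q P]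
    rw [map_add, map_mul, AdjoinRoot.mk_self, zero_mul, add_zero]
  rw [hmod] at hx ⊢
  rw [evalHom_mk] at hx
  have hdeg : ((Q %ₘ P).map (algebraMap R k)).degree < (minpoly k θ).degree := by
    rw [← hPθ, hP.degree_map]
    exact lt_of_le_of_lt degree_map_le (degree_modByMonic_lt Q hP)
  have h0 : (Q %ₘ P).map (algebraMap R k) = 0 := by
    by_contra hne
    exact absurd (minpoly.degree_le_of_ne_zero k θ hne hx) (not_le.mpr hdeg)
  have h1 : Q %ₘ P = 0 := Polynomial.map_injective _ hinj (by rw [h0, Polynomial.map_zero])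
  rw [h1, map_zero]

end Inj

section Main

theorem exists_generic_piece_aux (A : Type u) [CommRing A] [IsDomain A] (C : Type u) [CommRing C]
    [Algebra A C] [Algebra.FiniteType A C] (h : A) (hh : h ≠ 0)
    (K K' L : Type u) [Field K] [Field K'] [Field L] [Algebra A K] [IsFractionRing A K]
    [Algebra K K'] [Algebra K' L] [Algebra K L] [IsScalarTower K K' L]
    [Algebra A L] [IsScalarTower A K L]
    [FiniteDimensional K K'] [Algebra.IsSeparable K K'] [FiniteDimensional K' L]
    [IsPurelyInseparable K' L] (φ : C →ₐ[A] L) :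
    ∃ g : A, g ≠ 0 ∧ h ∣ g ∧
       ∃ (B' B'' : Type u) (_ : CommRing B') (_ : CommRing B'')
         (_ : Algebra (Localization.Away g) B') (_ : Algebra B' B'') (s : C →+* B''),
         Module.Finite (Localization.Away g) B' ∧ Module.Free (Localization.Away g) B' ∧
         Nontrivial B' ∧ Algebra.Etale (Localization.Away g) B' ∧
         Module.Finite B' B'' ∧ Module.Free B' B'' ∧ Nontrivial B'' ∧
         (∀ (F : Type u) [Field F] (ψ₁ ψ₂ : B'' →+* F),
            ψ₁.comp (algebraMap B' B'') = ψ₂.comp (algebraMap B' B'') → ψ₁ = ψ₂) ∧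
         ∀ a : A, s (algebraMap A C a) = algebraMap B' B''
           (algebraMap (Localization.Away g) B' (algebraMap A (Localization.Away g) a)) := by
  classical
  have hk : Ratios A K := by
    intro c
    obtain ⟨a, d, hd, rfl⟩ := IsFractionRing.div_surjective (A := A) c
    have hd0 : algebraMap A K d ≠ 0 :=
      IsFractionRing.to_map_ne_zero_of_mem_nonZeroDivisors hd
    exact ⟨a, d, hd0, div_mul_cancel₀ _ hd0⟩
  obtain ⟨α, hα⟩ := Field.exists_primitive_element K K'
  have hint : IsIntegral K α := Algebra.IsIntegral.isIntegral α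
  have hsurj : ∀ c : K', ∃ Q : K[X], aeval α Q = c := by
    intro c
    have hc : c ∈ Algebra.adjoin K {α} := by
      rw [← IntermediateField.adjoin_simple_toSubalgebra_of_isAlgebraic hint.isAlgebraic, hα]
      trivial
    rw [Algebra.adjoin_singleton_eq_range_aeval] at hc
    exact hc
  choose Q hQ using hsurj
  obtain ⟨u, v, huv⟩ : ∃ u v : K[X], u * minpoly K α + v * derivative (minpoly K α) = 1 :=
    Algebra.IsSeparable.isSeparable K α
  obtain ⟨m, -⟩ : ∃ m : Module.Basis (Fin (Module.finrank K' L)) K' L, True :=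
    ⟨Module.finBasis K' L, trivial⟩
  obtain ⟨p, hp⟩ : ∃ p, ExpChar L p := ⟨ringExpChar L, inferInstance⟩
  haveI := hp
  haveI : ExpChar K' p := (algebraMap K' L).expChar (algebraMap K' L).injective p
  have hpow : ∀ i, ∃ n : ℕ, ∃ z : K', algebraMap K' L z = m i ^ p ^ n := by
    intro i
    obtain ⟨n, z, hz⟩ := IsPurelyInseparable.pow_mem K' p (m i)
    exact ⟨n, z, hz⟩
  choose n z hz using hpow
  obtain ⟨s₀, hs₀⟩ := (Algebra.FiniteType.out : (⊤ : Subalgebra A C).FG)
  obtain ⟨F, hF1, hF2, hF3, hF4⟩ : ∃ F : Finset K',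
      (∀ i j k, m.repr (m i * m j) k ∈ F) ∧ (∀ k, m.repr 1 k ∈ F) ∧ (∀ i, z i ∈ F) ∧
      (∀ x ∈ s₀, ∀ k, m.repr (φ x) k ∈ F) := by
    refine ⟨(Finset.univ.image (fun t : Fin (Module.finrank K' L) ×
        Fin (Module.finrank K' L) × Fin (Module.finrank K' L) => m.repr (m t.1 * m t.2.1) t.2.2)) ∪
      (Finset.univ.image (fun k => m.repr 1 k)) ∪ (Finset.univ.image z) ∪
      ((s₀ ×ˢ Finset.univ).image (fun t => m.repr (φ t.1) t.2)), ?_, ?_, ?_, ?_⟩
    · intro i j k
      simp only [Finset.mem_union, Finset.mem_image, Finset.mem_univ, true_and]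
      exact Or.inl (Or.inl (Or.inl ⟨(i, j, k), rfl⟩))
    · intro k
      simp only [Finset.mem_union, Finset.mem_image, Finset.mem_univ, true_and]
      exact Or.inl (Or.inl (Or.inr ⟨k, rfl⟩))
    · intro i
      simp only [Finset.mem_union, Finset.mem_image, Finset.mem_univ, true_and]
      exact Or.inl (Or.inr ⟨i, rfl⟩)
    · intro x hx k
      simp only [Finset.mem_union, Finset.mem_image, Finset.mem_univ, true_and,
        Finset.mem_product, and_true]
      exact Or.inr ⟨(x, k), hx, rfl⟩
  obtain ⟨S, hS1, hS2, hS3, hS4⟩ : ∃ S : Finset K[X], minpoly K α ∈ S ∧ u ∈ S ∧ v ∈ S ∧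
      ∀ c ∈ F, Q c ∈ S := by
    refine ⟨insert (minpoly K α) (insert u (insert v (F.image Q))), ?_, ?_, ?_, ?_⟩
    · exact Finset.mem_insert_self _ _
    · exact Finset.mem_insert_of_mem (Finset.mem_insert_self _ _)
    · exact Finset.mem_insert_of_mem (Finset.mem_insert_of_mem (Finset.mem_insert_self _ _))
    · intro c hc
      exact Finset.mem_insert_of_mem (Finset.mem_insert_of_mem (Finset.mem_insert_of_mem
        (Finset.mem_image_of_mem Q hc)))
  obtain ⟨d, hd, hS⟩ := exists_away_lifts_finset hk S
  have hd0 : d ≠ 0 := fun h0 => hd (by rw [h0, map_zero])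
  obtain ⟨g, hg⟩ : ∃ g, g = h * d := ⟨_, rfl⟩
  have hg0 : g ≠ 0 := hg ▸ mul_ne_zero hh hd0
  refine ⟨g, hg0, hg ▸ dvd_mul_right h d, ?_⟩
  have hinjAK : Function.Injective (algebraMap A K) := IsFractionRing.injective A K
  have hgK : IsUnit (algebraMap A K g) :=
    ((map_ne_zero_iff _ hinjAK).mpr hg0).isUnit
  letI algRK : Algebra (Localization.Away g) K := (IsLocalization.Away.lift g hgK).toAlgebra
  haveI towARK : IsScalarTower A (Localization.Away g) K :=
    IsScalarTower.of_algebraMap_eq (fun a => (IsLocalization.Away.lift_eq g hgK a).symm)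
  have hinjAR : Function.Injective (algebraMap A (Localization.Away g)) :=
    IsLocalization.injective (Localization.Away g)
      (powers_le_nonZeroDivisors_of_noZeroDivisors hg0)
  have hinjRK : Function.Injective (algebraMap (Localization.Away g) K) := by
    show Function.Injective (IsLocalization.Away.lift g hgK)
    unfold IsLocalization.Away.lift
    rw [IsLocalization.lift_injective_iff]
    intro x y
    rw [hinjAR.eq_iff, hinjAK.eq_iff]
  have hu_g : IsUnit (algebraMap A (Localization.Away g) g) :=
    IsLocalization.Away.algebraMap_isUnit g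
  have hu_d : IsUnit (algebraMap A (Localization.Away g) d) :=
    isUnit_of_dvd_unit (map_dvd _ ⟨h, by rw [hg, mul_comm]⟩) hu_g
  have hlifts := hS (Localization.Away g) hu_d
  obtain ⟨P, hP, -, hmon⟩ := lifts_and_natDegree_eq_and_monic (hlifts _ hS1) (minpoly.monic hint)
  obtain ⟨u', hu'⟩ := (mem_lifts _).mp (hlifts u hS2)
  obtain ⟨v', hv'⟩ := (mem_lifts _).mp (hlifts v hS3)
  have hcop : IsCoprime P (derivative P) := by
    refine ⟨u', v', ?_⟩
    apply Polynomial.map_injective _ hinjRK
    rw [Polynomial.map_add, Polynomial.map_mul, Polynomial.map_mul, hu', hv', ← derivative_map,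
      hP, Polynomial.map_one]
    exact huv
  letI algRK' : Algebra (Localization.Away g) K' :=
    ((algebraMap K K').comp (algebraMap (Localization.Away g) K)).toAlgebra
  haveI towRKK' : IsScalarTower (Localization.Away g) K K' :=
    IsScalarTower.of_algebraMap_eq (fun _ => rfl)
  have hPα : P.map (algebraMap (Localization.Away g) K) = minpoly K α := hP
  have hevinj := evalHom_injective P α hPα hmon hinjRK
  have hrange : ∀ c ∈ F, c ∈ ((evalHom P α hPα : AdjoinRoot P →ₐ[Localization.Away g] K') :
      AdjoinRoot P →+* K').range := by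
    intro c hc
    obtain ⟨Q', hQ'⟩ := (mem_lifts _).mp (hlifts (Q c) (hS4 c hc))
    refine ⟨AdjoinRoot.mk P Q', ?_⟩
    show evalHom P α hPα (AdjoinRoot.mk P Q') = c
    rw [evalHom_mk, hQ', hQ]
  obtain ⟨B, _, _, ιB, hιinj, hιE, hBfin, hBfree, hBrad, hBmem⟩ :=
    exists_radicial_free ((evalHom P α hPα : AdjoinRoot P →ₐ[Localization.Away g] K') :
      AdjoinRoot P →+* K') hevinj m p (fun i j k => hrange _ (hF1 i j k))
      (fun k => hrange _ (hF2 k)) (fun i => ⟨n i, z i, hrange _ (hF3 i), hz i⟩)
  have hcompat : ∀ a : A, ιB (algebraMap (AdjoinRoot P) B (algebraMap (Localization.Away g)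
      (AdjoinRoot P) (algebraMap A (Localization.Away g) a))) = algebraMap A L a := by
    intro a
    rw [hιE]
    have h1 : ((evalHom P α hPα : AdjoinRoot P →ₐ[Localization.Away g] K') :
        AdjoinRoot P →+* K') (algebraMap (Localization.Away g) (AdjoinRoot P)
          (algebraMap A (Localization.Away g) a)) =
        algebraMap K K' (algebraMap A K a) := by
      show evalHom P α hPα (algebraMap (Localization.Away g) (AdjoinRoot P)
          (algebraMap A (Localization.Away g) a)) = _
      rw [AlgHom.commutes]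
      show algebraMap K K' (algebraMap (Localization.Away g) K
        (algebraMap A (Localization.Away g) a)) = _
      rw [← IsScalarTower.algebraMap_apply A (Localization.Away g) K]
    rw [h1, ← IsScalarTower.algebraMap_apply K K' L, ← IsScalarTower.algebraMap_apply A K L]
  have hφrange : ∀ c : C, (φ : C →+* L) c ∈ ιB.range := by
    intro c
    have hc : c ∈ Algebra.adjoin A (s₀ : Set C) := by rw [hs₀]; trivial
    induction hc using Algebra.adjoin_induction with
    | mem x hx => exact hBmem _ (fun k => hrange _ (hF4 x hx k))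
    | algebraMap a =>
      refine ⟨_, (hcompat a).trans ?_⟩
      exact (φ.commutes a).symm
    | add x y _ _ hx hy =>
      rw [map_add]; exact ιB.range.add_mem hx hy
    | mul x y _ _ hx hy =>
      rw [map_mul]; exact ιB.range.mul_mem hx hy
  obtain ⟨s, hs⟩ := exists_ringHom_lift ιB hιinj (φ : C →+* L) hφrange
  refine ⟨AdjoinRoot P, B, inferInstance, inferInstance, inferInstance, inferInstance, s,
    hmon.finite_adjoinRoot, hmon.free_adjoinRoot,
    ((evalHom P α hPα : AdjoinRoot P →ₐ[Localization.Away g] K') :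
      AdjoinRoot P →+* K').domain_nontrivial,
    etale_adjoinRoot P hmon hcop, hBfin, hBfree, ιB.domain_nontrivial, hBrad, ?_⟩
  intro a
  apply hιinj
  rw [hcompat a]
  have := congr($hs (algebraMap A C a))
  rw [RingHom.comp_apply] at this
  rw [this]
  exact φ.commutes a

end Main

section Wrapper

/-- **Generic multisection.** For a domain `A`, a finite type `A`-algebra `C` and `h ≠ 0`, there is
a nonzero multiple `g` of `h` such that either `g` dies in `C`, or over `A_g` there are a finite
free étale algebra `B'`, a finite free radicial `B'`-algebra `B''` and an `A`-algebra map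
`C → B''`. -/
theorem exists_generic_piece (A : Type u) [CommRing A] [IsDomain A] (C : Type u) [CommRing C]
    [Algebra A C] [Algebra.FiniteType A C] (h : A) (hh : h ≠ 0) :
    ∃ g : A, g ≠ 0 ∧ h ∣ g ∧
      ((algebraMap A C g = 0) ∨
       ∃ (B' B'' : Type u) (_ : CommRing B') (_ : CommRing B'')
         (_ : Algebra (Localization.Away g) B') (_ : Algebra B' B'') (s : C →+* B''),
         Module.Finite (Localization.Away g) B' ∧ Module.Free (Localization.Away g) B' ∧
         Nontrivial B' ∧ Algebra.Etale (Localization.Away g) B' ∧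
         Module.Finite B' B'' ∧ Module.Free B' B'' ∧ Nontrivial B'' ∧
         (∀ (F : Type u) [Field F] (ψ₁ ψ₂ : B'' →+* F),
            ψ₁.comp (algebraMap B' B'') = ψ₂.comp (algebraMap B' B'') → ψ₁ = ψ₂) ∧
         ∀ a : A, s (algebraMap A C a) = algebraMap B' B''
           (algebraMap (Localization.Away g) B' (algebraMap A (Localization.Away g) a))) := by
  rcases exists_finite_residue A C with ⟨g₀, hg₀, hg₀C⟩ | ⟨L, _, _, _, _, φ, hfin⟩
  · exact ⟨h * g₀, mul_ne_zero hh hg₀, dvd_mul_right h g₀,
      Or.inl (by rw [map_mul, hg₀C, mul_zero])⟩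
  · haveI := hfin
    haveI : Algebra.IsAlgebraic (FractionRing A) L := Algebra.IsAlgebraic.of_finite _ _
    obtain ⟨g, hg0, hdvd, hdata⟩ := exists_generic_piece_aux A C h hh (FractionRing A)
      (separableClosure (FractionRing A) L) L φ
    exact ⟨g, hg0, hdvd, Or.inr hdata⟩

end Wrapper

end Groth.Agent.Lib.LfpSectH3
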