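import Mathlib
import Groth.Agent.Lib.UnivHomeo2_helper6

/-!
# Multisection partitions: definitions and formal properties (helper3)
APPEND-ONLY once landed.
-/

set_option autoImplicit false
set_option linter.all false
set_option maxHeartbeats 1600000

universe u
open CategoryTheory CategoryTheory.Limits AlgebraicGeometry

namespace Groth.Agent.Lib.LfpSectH3

variable {X Y : Scheme.{u}}

/-- A finite étale surjective cover followed by a finite flat finitely presented radicial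
surjective cover of the piece `T`, mapping to `X` over `Y`. -/
def HasMultisection (f : X ⟶ Y) {T : Scheme.{u}} (e : T ⟶ Y) : Prop :=
  ∃ (T' T'' : Scheme.{u}) (hh : T' ⟶ T) (gg : T'' ⟶ T') (s : T'' ⟶ X),
    (IsFinite hh ∧ Surjective hh ∧ Etale hh) ∧
    (IsFinite gg ∧ Surjective gg ∧ Flat gg ∧ LocallyOfFinitePresentation gg ∧
      UniversallyInjective gg) ∧
    s ≫ f = gg ≫ hh ≫ e

/-- quasi-compact immersion of finite presentation. -/
def IsFPImm {T : Scheme.{u}} (e : T ⟶ Y) : Prop :=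
  IsImmersion e ∧ LocallyOfFinitePresentation e ∧ QuasiCompact e

def GoodPiece (f : X ⟶ Y) {T : Scheme.{u}} (e : T ⟶ Y) : Prop :=
  IsFPImm e ∧ (Disjoint (Set.range e) (Set.range f) ∨ HasMultisection f e)

def GoodPart (f : X ⟶ Y) (Z : Set Y) : Prop :=
  ∃ (ι : Type) (_ : Finite ι) (T : ι → Scheme.{u}) (e : ∀ i, T i ⟶ Y),
    (∀ i, GoodPiece f (e i)) ∧
    Pairwise (fun i j => Disjoint (Set.range (e i)) (Set.range (e j))) ∧
    (⋃ i, Set.range (e i)) = Z

theorem GoodPart.empty (f : X ⟶ Y) : GoodPart f ∅ := by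
  refine ⟨PEmpty, inferInstance, fun i => i.elim, fun i => i.elim, fun i => i.elim,
    fun i => i.elim, ?_⟩
  exact Set.iUnion_of_empty _

theorem GoodPart.single (f : X ⟶ Y) {T : Scheme.{u}} (e : T ⟶ Y) (h : GoodPiece f e) :
    GoodPart f (Set.range e) := by
  refine ⟨Unit, inferInstance, fun _ => T, fun _ => e, fun _ => h, ?_, ?_⟩
  · intro i j hij
    exact absurd (Subsingleton.elim i j) hij
  · exact Set.iUnion_const _

/-- finite disjoint unions of partitions -/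
theorem GoodPart.iUnion (f : X ⟶ Y) {κ : Type} [Finite κ] (Z : κ → Set Y)
    (hZ : Pairwise (fun k l => Disjoint (Z k) (Z l))) (h : ∀ k, GoodPart f (Z k)) :
    GoodPart f (⋃ k, Z k) := by
  choose ι hι T e h1 h2 h3 using h
  haveI := hι
  refine ⟨Σ k, ι k, inferInstance, fun a => T a.1 a.2, fun a => e a.1 a.2, fun a => h1 a.1 a.2,
    ?_, ?_⟩
  · rintro ⟨k, i⟩ ⟨l, j⟩ hne
    by_cases hkl : k = l
    · subst hkl
      exact h2 k (fun hij => hne (by change i = j at hij; rw [hij]))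
    · refine (hZ hkl).mono ?_ ?_
      · rw [← h3 k]; exact Set.subset_iUnion (fun i => Set.range (e k i)) i
      · rw [← h3 l]; exact Set.subset_iUnion (fun j => Set.range (e l j)) j
  · ext y
    simp only [Set.mem_iUnion]
    constructor
    · rintro ⟨⟨k, i⟩, hy⟩
      exact ⟨k, by rw [← h3 k]; exact Set.mem_iUnion.mpr ⟨i, hy⟩⟩
    · rintro ⟨k, hy⟩
      rw [← h3 k] at hy
      obtain ⟨i, hi⟩ := Set.mem_iUnion.mp hy
      exact ⟨⟨k, i⟩, hi⟩

theorem GoodPart.union (f : X ⟶ Y) {Z₁ Z₂ : Set Y} (h₁ : GoodPart f Z₁) (h₂ : GoodPart f Z₂)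
    (hd : Disjoint Z₁ Z₂) : GoodPart f (Z₁ ∪ Z₂) := by
  have := GoodPart.iUnion f (κ := Bool) (fun b => cond b Z₁ Z₂) ?_ ?_
  · convert this using 1
    ext y
    simp only [Set.mem_union, Set.mem_iUnion, Bool.exists_bool, cond_false, cond_true]
    tauto
  · rintro (_ | _) (_ | _) hne
    · exact absurd rfl hne
    · exact hd.symm
    · exact hd
    · exact absurd rfl hne
  · rintro (_ | _)
    · exact h₂
    · exact h₁

theorem GoodPart.toFin (f : X ⟶ Y) {Z : Set Y} (h : GoodPart f Z) :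
    ∃ (n : ℕ) (T : Fin n → Scheme.{u}) (e : ∀ i, T i ⟶ Y),
      (∀ i, GoodPiece f (e i)) ∧
      Pairwise (fun i j => Disjoint (Set.range (e i)) (Set.range (e j))) ∧
      (⋃ i, Set.range (e i)) = Z := by
  obtain ⟨ι, hι, T, g, h1, h3, h4⟩ := h
  obtain ⟨n, ⟨e⟩⟩ := Finite.exists_equiv_fin ι
  refine ⟨n, fun k => T (e.symm k), fun k => g (e.symm k), fun k => h1 _, ?_, ?_⟩
  · intro k k' hne
    exact h3 (fun h => hne (e.symm.injective h))
  · rw [← h4]
    ext x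
    simp only [Set.mem_iUnion]
    constructor
    · rintro ⟨k, hx⟩
      exact ⟨e.symm k, hx⟩
    · rintro ⟨i, hx⟩
      obtain ⟨k, hk⟩ : ∃ k, e.symm k = i := ⟨e i, e.symm_apply_apply i⟩
      subst hk
      exact ⟨k, hx⟩

/-! ## Functoriality in `X` -/

theorem GoodPiece.map {X₂ : Scheme.{u}} {f : X ⟶ Y} (t : X ⟶ X₂) [Surjective t] (f₂ : X₂ ⟶ Y)
    (ht : t ≫ f₂ = f) {T : Scheme.{u}} {e : T ⟶ Y} (h : GoodPiece f e) : GoodPiece f₂ e := by
  refine ⟨h.1, ?_⟩
  rcases h.2 with hd | ⟨T', T'', hh, gg, s, h1, h2, h3⟩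
  · left
    have : Set.range f₂ = Set.range f := by
      rw [← ht]
      ext y
      constructor
      · rintro ⟨x₂, rfl⟩
        obtain ⟨x, rfl⟩ := t.surjective x₂
        exact ⟨x, rfl⟩
      · rintro ⟨x, rfl⟩
        exact ⟨t x, rfl⟩
    rw [this]; exact hd
  · right
    exact ⟨T', T'', hh, gg, s ≫ t, h1, h2, by rw [Category.assoc, ht, h3]⟩

theorem GoodPart.map {X₂ : Scheme.{u}} {f : X ⟶ Y} (t : X ⟶ X₂) [Surjective t] (f₂ : X₂ ⟶ Y)
    (ht : t ≫ f₂ = f) {Z : Set Y} (h : GoodPart f Z) : GoodPart f₂ Z := by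
  obtain ⟨ι, hι, T, e, h1, h2, h3⟩ := h
  exact ⟨ι, hι, T, e, fun i => (h1 i).map t f₂ ht, h2, h3⟩

/-! ## Base change -/

theorem IsFPImm.pullback_snd {Y' T : Scheme.{u}} {e : T ⟶ Y} (h : IsFPImm e) (b : Y' ⟶ Y) :
    IsFPImm (pullback.snd e b) := by
  obtain ⟨h1, h2, h3⟩ := h
  exact ⟨inferInstance, MorphismProperty.pullback_snd _ _ h2,
    MorphismProperty.pullback_snd _ _ h3⟩

theorem HasMultisection.pullback {Y' T : Scheme.{u}} {f : X ⟶ Y} {e : T ⟶ Y}
    (h : HasMultisection f e) (b : Y' ⟶ Y) :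
    HasMultisection (pullback.snd f b) (pullback.snd e b) := by
  obtain ⟨T', T'', hh, gg, s, ⟨h1, h2, h3⟩, ⟨k1, k2, k3, k4, k5⟩, hs⟩ := h
  refine ⟨Limits.pullback hh (pullback.fst e b), Limits.pullback gg (pullback.fst hh (pullback.fst e b)),
    pullback.snd hh (pullback.fst e b), pullback.snd gg (pullback.fst hh (pullback.fst e b)),
    pullback.lift (pullback.fst _ _ ≫ s)
      (pullback.snd _ _ ≫ pullback.snd _ _ ≫ pullback.snd e b) ?_,
    ⟨MorphismProperty.pullback_snd _ _ h1, MorphismProperty.pullback_snd _ _ h2,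
      MorphismProperty.pullback_snd _ _ h3⟩,
    ⟨MorphismProperty.pullback_snd _ _ k1, MorphismProperty.pullback_snd _ _ k2,
      MorphismProperty.pullback_snd _ _ k3, MorphismProperty.pullback_snd _ _ k4,
      MorphismProperty.pullback_snd _ _ k5⟩, ?_⟩
  · rw [Category.assoc, hs, Category.assoc, Category.assoc, ← pullback.condition,
      ← pullback.condition_assoc, pullback.condition_assoc]
  · rw [pullback.lift_snd]

theorem GoodPiece.pullback {Y' T : Scheme.{u}} {f : X ⟶ Y} {e : T ⟶ Y}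
    (h : GoodPiece f e) (b : Y' ⟶ Y) :
    GoodPiece (pullback.snd f b) (pullback.snd e b) := by
  refine ⟨h.1.pullback_snd b, ?_⟩
  rcases h.2 with hd | hm
  · left
    rw [Scheme.Pullback.range_snd, Scheme.Pullback.range_snd]
    exact hd.preimage _
  · right
    exact hm.pullback b

theorem GoodPart.pullback {Y' : Scheme.{u}} {f : X ⟶ Y} {Z : Set Y} (h : GoodPart f Z)
    (b : Y' ⟶ Y) : GoodPart (pullback.snd f b) (b ⁻¹' Z) := by
  obtain ⟨ι, hι, T, e, h1, h2, h3⟩ := h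
  refine ⟨ι, hι, fun i => Limits.pullback (e i) b, fun i => pullback.snd (e i) b,
    fun i => (h1 i).pullback b, ?_, ?_⟩
  · intro i j hij
    rw [Scheme.Pullback.range_snd, Scheme.Pullback.range_snd]
    exact (h2 hij).preimage _
  · rw [← h3, Set.preimage_iUnion]
    exact Set.iUnion_congr (fun i => Scheme.Pullback.range_snd _ _)

/-! ## Pieces of a piece -/

theorem IsFPImm.comp {Y₁ T : Scheme.{u}} {e : T ⟶ Y₁} {e₀ : Y₁ ⟶ Y} (h : IsFPImm e)
    (h₀ : IsFPImm e₀) : IsFPImm (e ≫ e₀) := by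
  obtain ⟨h1, h2, h3⟩ := h
  obtain ⟨k1, k2, k3⟩ := h₀
  exact ⟨inferInstance, inferInstance, inferInstance⟩

theorem GoodPiece.comp {Y₁ T : Scheme.{u}} {f : X ⟶ Y} {e₀ : Y₁ ⟶ Y} (h₀ : IsFPImm e₀)
    {e : T ⟶ Y₁} (h : GoodPiece (pullback.snd f e₀) e) : GoodPiece f (e ≫ e₀) := by
  refine ⟨h.1.comp h₀, ?_⟩
  rcases h.2 with hd | ⟨T', T'', hh, gg, s, h1, h2, h3⟩
  · left
    rw [Scheme.Pullback.range_snd] at hd
    rw [Set.disjoint_left] at hd ⊢
    rintro _ ⟨t, rfl⟩ hy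
    exact hd ⟨t, rfl⟩ hy
  · right
    refine ⟨T', T'', hh, gg, s ≫ pullback.fst f e₀, h1, h2, ?_⟩
    rw [Category.assoc, pullback.condition, ← Category.assoc, h3]
    simp only [Category.assoc]

theorem GoodPart.comp {Y₁ : Scheme.{u}} {f : X ⟶ Y} {e₀ : Y₁ ⟶ Y} (h₀ : IsFPImm e₀)
    {Z : Set Y₁} (h : GoodPart (pullback.snd f e₀) Z) : GoodPart f (e₀ '' Z) := by
  obtain ⟨ι, hι, T, e, h1, h2, h3⟩ := h
  haveI : IsImmersion e₀ := h₀.1
  have hinj : Function.Injective e₀ := e₀.isEmbedding.injective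
  refine ⟨ι, hι, T, fun i => e i ≫ e₀, fun i => (h1 i).comp h₀, ?_, ?_⟩
  · intro i j hij
    have hr : ∀ i, Set.range (e i ≫ e₀) = e₀ '' Set.range (e i) := by
      intro i
      ext y
      constructor
      · rintro ⟨t, rfl⟩
        exact ⟨e i t, ⟨t, rfl⟩, rfl⟩
      · rintro ⟨_, ⟨t, rfl⟩, rfl⟩
        exact ⟨t, rfl⟩
    rw [hr i, hr j]
    exact (Set.disjoint_image_iff hinj).mpr (h2 hij)
  · rw [← h3, Set.image_iUnion]
    refine Set.iUnion_congr (fun i => ?_)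
    ext y
    constructor
    · rintro ⟨t, rfl⟩
      exact ⟨e i t, ⟨t, rfl⟩, rfl⟩
    · rintro ⟨_, ⟨t, rfl⟩, rfl⟩
      exact ⟨t, rfl⟩

/-! ## Functoriality in `X`, general form -/

theorem GoodPiece.map' {X₂ : Scheme.{u}} {f : X ⟶ Y} (t : X ⟶ X₂) (f₂ : X₂ ⟶ Y)
    (ht : t ≫ f₂ = f) (hr : Set.range f₂ ⊆ Set.range f) {T : Scheme.{u}} {e : T ⟶ Y}
    (h : GoodPiece f e) : GoodPiece f₂ e := by
  refine ⟨h.1, ?_⟩
  rcases h.2 with hd | ⟨T', T'', hh, gg, s, h1, h2, h3⟩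
  · left
    exact hd.mono_right hr
  · right
    exact ⟨T', T'', hh, gg, s ≫ t, h1, h2, by rw [Category.assoc, ht, h3]⟩

theorem GoodPart.map' {X₂ : Scheme.{u}} {f : X ⟶ Y} (t : X ⟶ X₂) (f₂ : X₂ ⟶ Y)
    (ht : t ≫ f₂ = f) (hr : Set.range f₂ ⊆ Set.range f) {Z : Set Y} (h : GoodPart f Z) :
    GoodPart f₂ Z := by
  obtain ⟨ι, hι, T, e, h1, h2, h3⟩ := h
  exact ⟨ι, hι, T, e, fun i => (h1 i).map' t f₂ ht hr, h2, h3⟩

end Groth.Agent.Lib.LfpSectH3
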