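import Mathlib
import Groth.Agent.Lib.LfpSect2_helper3
import Groth.Agent.Lib.LfpSect3_helper3

/-!
# Multisection partitions over a Noetherian affine base (helper3)
APPEND-ONLY once landed.
-/

set_option autoImplicit false
set_option linter.all false
set_option maxHeartbeats 1600000

universe u
open CategoryTheory CategoryTheory.Limits AlgebraicGeometry

namespace Groth.Agent.Lib.LfpSectH3

section Translate

/-- ring-level multisection data gives scheme-level multisection data -/
theorem hasMultisection_of_ring {A₀ C₀ R B' B'' : Type u} [CommRing A₀] [CommRing C₀]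
    [CommRing R] [CommRing B'] [CommRing B'']
    [Algebra A₀ C₀] [Algebra A₀ R] [Algebra R B'] [Algebra B' B''] (s : C₀ →+* B'')
    [Module.Finite R B'] [Module.Free R B'] [Nontrivial B'] [Algebra.Etale R B']
    [Module.Finite B' B''] [Module.Free B' B''] [Nontrivial B'']
    (hrad : ∀ (F : Type u) [Field F] (ψ₁ ψ₂ : B'' →+* F),
      ψ₁.comp (algebraMap B' B'') = ψ₂.comp (algebraMap B' B'') → ψ₁ = ψ₂)
    (hs : ∀ a : A₀, s (algebraMap A₀ C₀ a) =
      algebraMap B' B'' (algebraMap R B' (algebraMap A₀ R a))) :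
    HasMultisection (Spec.map (CommRingCat.ofHom (algebraMap A₀ C₀)))
      (Spec.map (CommRingCat.ofHom (algebraMap A₀ R))) := by
  refine ⟨Spec (.of B'), Spec (.of B''), Spec.map (CommRingCat.ofHom (algebraMap R B')),
    Spec.map (CommRingCat.ofHom (algebraMap B' B'')), Spec.map (CommRingCat.ofHom s),
    ⟨?_, ?_, ?_⟩, ⟨?_, ?_, ?_, ?_, ?_⟩, ?_⟩
  · exact (IsFinite.SpecMap_iff _).mpr (RingHom.finite_algebraMap.mpr inferInstance)
  · exact ⟨PrimeSpectrum.comap_surjective_of_faithfullyFlat (A := R) (B := B')⟩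
  · exact (HasRingHomProperty.Spec_iff (P := @Etale)).mpr
      (RingHom.etale_algebraMap.mpr inferInstance)
  · exact (IsFinite.SpecMap_iff _).mpr (RingHom.finite_algebraMap.mpr inferInstance)
  · exact ⟨PrimeSpectrum.comap_surjective_of_faithfullyFlat (A := B') (B := B'')⟩
  · exact (HasRingHomProperty.Spec_iff (P := @Flat)).mpr
      (RingHom.flat_algebraMap_iff.mpr inferInstance)
  · haveI : Module.FinitePresentation B' B'' := Module.finitePresentation_of_projective B' B''
    exact (HasRingHomProperty.Spec_iff (P := @LocallyOfFinitePresentation)).mpr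
      (RingHom.finitePresentation_algebraMap.mpr inferInstance)
  · exact Groth.Agent.Lib.UnivHomeo.universallyInjective_SpecMap_of _ hrad
  · rw [← Spec.map_comp, ← Spec.map_comp, ← Spec.map_comp]
    congr 1
    ext a
    exact hs a

end Translate

section Range

theorem range_specMap_away_quotient {A₀ : Type u} [CommRing A₀] (I : Ideal A₀) (gt : A₀)
    (g : A₀ ⧸ I) (hg : Ideal.Quotient.mk I gt = g) :
    Set.range (Spec.map (CommRingCat.ofHom (algebraMap A₀ (Localization.Away g)))) =
      {q : PrimeSpectrum A₀ | I ≤ q.asIdeal ∧ gt ∉ q.asIdeal} := by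
  have hcomp : algebraMap A₀ (Localization.Away g) =
      (algebraMap (A₀ ⧸ I) (Localization.Away g)).comp (Ideal.Quotient.mk I) :=
    IsScalarTower.algebraMap_eq A₀ (A₀ ⧸ I) (Localization.Away g)
  ext q
  constructor
  · rintro ⟨z, rfl⟩
    show I ≤ Ideal.comap (algebraMap A₀ (Localization.Away g)) z.asIdeal ∧
      gt ∉ Ideal.comap (algebraMap A₀ (Localization.Away g)) z.asIdeal
    constructor
    · intro a ha
      rw [Ideal.mem_comap, hcomp, RingHom.comp_apply, Ideal.Quotient.eq_zero_iff_mem.mpr ha,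
        map_zero]
      exact Ideal.zero_mem _
    · intro hmem
      rw [Ideal.mem_comap, hcomp, RingHom.comp_apply, hg] at hmem
      exact z.2.ne_top (Ideal.eq_top_of_isUnit_mem _ hmem
        (IsLocalization.Away.algebraMap_isUnit g))
  · rintro ⟨hI, hgt⟩
    have hker : RingHom.ker (Ideal.Quotient.mk I) ≤ q.asIdeal := by
      rw [Ideal.mk_ker]; exact hI
    let y : PrimeSpectrum (A₀ ⧸ I) := ⟨q.asIdeal.map (Ideal.Quotient.mk I),
      Ideal.map_isPrime_of_surjective Ideal.Quotient.mk_surjective hker⟩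
    have hcm : Ideal.comap (Ideal.Quotient.mk I) y.asIdeal = q.asIdeal := by
      show Ideal.comap (Ideal.Quotient.mk I) (q.asIdeal.map (Ideal.Quotient.mk I)) = q.asIdeal
      rw [Ideal.comap_map_of_surjective' _ Ideal.Quotient.mk_surjective]
      exact sup_eq_left.mpr ((Ideal.comap_mono bot_le).trans hker)
    have hy : y ∈ Set.range (PrimeSpectrum.comap (algebraMap (A₀ ⧸ I) (Localization.Away g))) := by
      rw [PrimeSpectrum.localization_away_comap_range (Localization.Away g) g]
      show g ∉ y.asIdeal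
      intro hmem
      apply hgt
      rw [← hcm, Ideal.mem_comap, hg]
      exact hmem
    obtain ⟨z, hz⟩ := hy
    refine ⟨z, ?_⟩
    apply PrimeSpectrum.ext
    show Ideal.comap (algebraMap A₀ (Localization.Away g)) z.asIdeal = q.asIdeal
    rw [hcomp, ← Ideal.comap_comap, ← hcm]
    congr 1
    exact congrArg PrimeSpectrum.asIdeal hz

end Range

section Noeth

variable (A₀ : Type u) [CommRing A₀] [IsNoetherianRing A₀] (C₀ : Type u) [CommRing C₀]
  [Algebra A₀ C₀] [Algebra.FiniteType A₀ C₀]

/-- an element avoiding a minimal prime but lying in all the other ones -/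
theorem exists_mem_other_minimalPrimes (J p : Ideal A₀) (hp : p ∈ J.minimalPrimes) :
    ∃ h : A₀, h ∉ p ∧ ∀ q ∈ J.minimalPrimes, q ≠ p → h ∈ q := by
  classical
  have hfin := Ideal.finite_minimalPrimes_of_isNoetherianRing A₀ J
  haveI hpp : p.IsPrime := hp.1.1
  have hnot : ¬ (hfin.toFinset.erase p).inf id ≤ p := by
    intro hle
    obtain ⟨q, hq, hqp⟩ := (Ideal.IsPrime.inf_le' hpp).mp hle
    rw [Finset.mem_erase, Set.Finite.mem_toFinset] at hq
    have : p ≤ q := hp.2 ⟨hq.2.1.1, hq.2.1.2⟩ hqp
    exact hq.1 (le_antisymm hqp this)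
  obtain ⟨h, hI, hp'⟩ := SetLike.not_le_iff_exists.mp hnot
  refine ⟨h, hp', fun q hq hne => ?_⟩
  have hle : (hfin.toFinset.erase p).inf id ≤ q :=
    Finset.inf_le (f := id) (Finset.mem_erase.mpr ⟨hne, hfin.mem_toFinset.mpr hq⟩)
  exact hle hI

theorem goodPart_zeroLocus (J : Ideal A₀) :
    GoodPart (Spec.map (CommRingCat.ofHom (algebraMap A₀ C₀)))
      (PrimeSpectrum.zeroLocus (J : Set A₀)) := by
  refine IsNoetherian.induction (P := fun J : Ideal A₀ =>
    GoodPart (Spec.map (CommRingCat.ofHom (algebraMap A₀ C₀)))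
      (PrimeSpectrum.zeroLocus (J : Set A₀))) ?_ J
  intro J IH
  by_cases hJ : J = ⊤
  · have : PrimeSpectrum.zeroLocus (J : Set A₀) = ∅ := by
      rw [hJ]; exact PrimeSpectrum.zeroLocus_empty_of_one_mem (Submodule.mem_top)
    rw [this]
    exact GoodPart.empty _
  obtain ⟨M, hM, hJM⟩ := Ideal.exists_le_maximal J hJ
  haveI := hM.isPrime
  obtain ⟨p, hp, hpM⟩ := Ideal.exists_minimalPrimes_le hJM
  haveI hpp : p.IsPrime := hp.1.1
  have hJp : J ≤ p := hp.1.2
  obtain ⟨h, hhp, hhq⟩ := exists_mem_other_minimalPrimes A₀ J p hp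
  have hbar : Ideal.Quotient.mk p h ≠ 0 := fun h0 => hhp (Ideal.Quotient.eq_zero_iff_mem.mp h0)
  haveI : Algebra.FiniteType (A₀ ⧸ p) (C₀ ⧸ p.map (algebraMap A₀ C₀)) :=
    Algebra.FiniteType.of_restrictScalars_finiteType A₀ (A₀ ⧸ p) _
  obtain ⟨g, hg0, hdvd, halt⟩ := Groth.Agent.Lib.LfpSectH3.exists_generic_piece (A₀ ⧸ p)
    (C₀ ⧸ p.map (algebraMap A₀ C₀)) (Ideal.Quotient.mk p h) hbar
  obtain ⟨c', hc'⟩ := hdvd
  obtain ⟨c, rfl⟩ := Ideal.Quotient.mk_surjective c'
  obtain ⟨gt, hgt⟩ : ∃ gt : A₀, gt = h * c := ⟨_, rfl⟩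
  have hgtg : Ideal.Quotient.mk p gt = g := by rw [hgt, map_mul, hc']
  have hgtp : gt ∉ p := fun hmem => hg0 (by rw [← hgtg]; exact Ideal.Quotient.eq_zero_iff_mem.mpr hmem)
  have hrange := range_specMap_away_quotient p gt g hgtg
  -- the piece
  have hpiece : GoodPiece (Spec.map (CommRingCat.ofHom (algebraMap A₀ C₀)))
      (Spec.map (CommRingCat.ofHom (algebraMap A₀ (Localization.Away g)))) := by
    refine ⟨⟨?_, ?_, inferInstance⟩, ?_⟩
    · have hcomp : CommRingCat.ofHom (algebraMap A₀ (Localization.Away g)) =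
          CommRingCat.ofHom (Ideal.Quotient.mk p) ≫
            CommRingCat.ofHom (algebraMap (A₀ ⧸ p) (Localization.Away g)) := by
        ext a
        exact IsScalarTower.algebraMap_apply A₀ (A₀ ⧸ p) (Localization.Away g) a
      rw [hcomp, Spec.map_comp]
      haveI : IsClosedImmersion (Spec.map (CommRingCat.ofHom (Ideal.Quotient.mk p))) :=
        IsClosedImmersion.spec_of_surjective _ Ideal.Quotient.mk_surjective
      infer_instance
    · haveI : Algebra.FiniteType A₀ (Localization.Away g) :=
        Algebra.FiniteType.trans (inferInstance : Algebra.FiniteType A₀ (A₀ ⧸ p)) inferInstance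
      haveI : Algebra.FinitePresentation A₀ (Localization.Away g) :=
        Algebra.FinitePresentation.of_finiteType.mp inferInstance
      exact (HasRingHomProperty.Spec_iff (P := @LocallyOfFinitePresentation)).mpr
        (RingHom.finitePresentation_algebraMap.mpr inferInstance)
    · rcases halt with h0 | ⟨B', B'', _, _, _, _, s, h1, h2, h3, h4, h5, h6, h7, h8, h9⟩
      · left
        rw [Set.disjoint_left]
        rintro q hq ⟨y, rfl⟩
        rw [hrange] at hq
        obtain ⟨hpq, hgq⟩ := hq
        apply hgq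
        show gt ∈ Ideal.comap (algebraMap A₀ C₀) y.asIdeal
        rw [Ideal.mem_comap]
        have hmem : algebraMap A₀ C₀ gt ∈ p.map (algebraMap A₀ C₀) := by
          rw [← Ideal.Quotient.eq_zero_iff_mem]
          rw [← hgtg] at h0
          exact h0
        have hle : p.map (algebraMap A₀ C₀) ≤ y.asIdeal := by
          rw [Ideal.map_le_iff_le_comap]
          exact hpq
        exact hle hmem
      · right
        haveI := h1; haveI := h2; haveI := h3; haveI := h4; haveI := h5; haveI := h6
        haveI := h7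
        refine hasMultisection_of_ring (s.comp (Ideal.Quotient.mk (p.map (algebraMap A₀ C₀))))
          h8 ?_
        intro a
        have := h9 (Ideal.Quotient.mk p a)
        rw [IsScalarTower.algebraMap_apply A₀ (A₀ ⧸ p) (Localization.Away g) a]
        exact this
  -- the remainder
  have hlt : J < J ⊔ Ideal.span {gt} := by
    refine SetLike.lt_iff_le_and_exists.mpr ⟨le_sup_left, gt,
      Ideal.mem_sup_right (Ideal.mem_span_singleton_self gt), fun hmem => hgtp (hJp hmem)⟩
  have hrem := IH _ hlt
  have hdisj : Disjoint (Set.range (Spec.map (CommRingCat.ofHom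
      (algebraMap A₀ (Localization.Away g)))))
      (PrimeSpectrum.zeroLocus ((J ⊔ Ideal.span {gt} : Ideal A₀) : Set A₀)) := by
    rw [Set.disjoint_left]
    intro q hq hq'
    rw [hrange] at hq
    apply hq.2
    exact hq' (Ideal.mem_sup_right (Ideal.mem_span_singleton_self gt))
  have hunion : PrimeSpectrum.zeroLocus (J : Set A₀) =
      Set.range (Spec.map (CommRingCat.ofHom (algebraMap A₀ (Localization.Away g)))) ∪
        PrimeSpectrum.zeroLocus ((J ⊔ Ideal.span {gt} : Ideal A₀) : Set A₀) := by
    rw [hrange]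
    ext q
    simp only [Set.mem_union, Set.mem_setOf_eq, PrimeSpectrum.mem_zeroLocus, SetLike.coe_subset_coe]
    constructor
    · intro hJq
      by_cases hgq : gt ∈ q.asIdeal
      · right
        exact sup_le hJq ((Ideal.span_singleton_le_iff_mem _).mpr hgq)
      · left
        refine ⟨?_, hgq⟩
        haveI := q.2
        obtain ⟨q₀, hq₀, hq₀q⟩ := Ideal.exists_minimalPrimes_le hJq
        by_cases hq₀p : q₀ = p
        · rw [← hq₀p]; exact hq₀q
        · exfalso
          apply hgq
          rw [hgt]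
          exact Ideal.mul_mem_right _ _ (hq₀q (hhq q₀ hq₀ hq₀p))
    · rintro (⟨hpq, -⟩ | hle)
      · exact hJp.trans hpq
      · exact le_sup_left.trans hle
  rw [hunion]
  exact GoodPart.union _ (GoodPart.single _ _ hpiece) hrem hdisj

/-- **Multisection partition over a Noetherian affine base.** -/
theorem goodPart_noetherian :
    GoodPart (Spec.map (CommRingCat.ofHom (algebraMap A₀ C₀))) Set.univ := by
  have := goodPart_zeroLocus A₀ C₀ ⊥
  have h0 : PrimeSpectrum.zeroLocus ((⊥ : Ideal A₀) : Set A₀) = Set.univ := by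
    simp
  rw [h0] at this
  exact this

end Noeth

end Groth.Agent.Lib.LfpSectH3
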