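import Mathlib
import Groth.Agent.Lib.LfpSect4_helper3

/-!
# Multisection partitions: reduction to the Noetherian affine case and assembly (helper3)
APPEND-ONLY once landed.
-/

set_option autoImplicit false
set_option linter.all false
set_option maxHeartbeats 1600000

universe u
open CategoryTheory CategoryTheory.Limits AlgebraicGeometry TensorProduct

namespace Groth.Agent.Lib.LfpSectH3

section Affine

/-- **Affine base, finitely presented algebra**: descend to the ℤ-subalgebra generated by the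
coefficients of a presentation and pull the partition back. -/
theorem goodPart_affine (A C : Type u) [CommRing A] [CommRing C] [Algebra A C]
    [Algebra.FinitePresentation A C] :
    GoodPart (Spec.map (CommRingCat.ofHom (algebraMap A C))) Set.univ := by
  obtain ⟨n, m, ⟨P⟩⟩ := Algebra.Presentation.exists_presentation_fin A C
  haveI : IsNoetherianRing P.Core := Algebra.FiniteType.isNoetherianRing ℤ P.Core
  have h0 := goodPart_noetherian P.Core (P.ModelOfHasCoeffs P.Core)
  have h1 := h0.pullback (Spec.map (CommRingCat.ofHom (algebraMap P.Core A)))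
  rw [Set.preimage_univ] at h1
  obtain ⟨e₁, he₁⟩ : ∃ e₁ : A ⊗[P.Core] P.ModelOfHasCoeffs P.Core ≃ₐ[A] C, True :=
    ⟨P.tensorModelOfHasCoeffsEquiv P.Core, trivial⟩
  obtain ⟨φ, hφbij, hφ⟩ : ∃ φ : C →+* (P.ModelOfHasCoeffs P.Core ⊗[P.Core] A),
      Function.Bijective φ ∧ ∀ a : A, φ (algebraMap A C a) = 1 ⊗ₜ a := by
    refine ⟨((Algebra.TensorProduct.comm P.Core A (P.ModelOfHasCoeffs P.Core)) :
        A ⊗[P.Core] P.ModelOfHasCoeffs P.Core →+* _).comp
        (e₁.symm : C →+* A ⊗[P.Core] P.ModelOfHasCoeffs P.Core), ?_, ?_⟩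
    · exact (Algebra.TensorProduct.comm P.Core A (P.ModelOfHasCoeffs P.Core)).bijective.comp
        e₁.symm.bijective
    · intro a
      show (Algebra.TensorProduct.comm P.Core A (P.ModelOfHasCoeffs P.Core))
        (e₁.symm (algebraMap A C a)) = _
      rw [AlgEquiv.commutes, Algebra.TensorProduct.algebraMap_apply]
      simp
  obtain ⟨ψ, hψ⟩ : ∃ ψ : CommRingCat.of C ⟶
      CommRingCat.of (P.ModelOfHasCoeffs P.Core ⊗[P.Core] A), ψ.hom = φ :=
    ⟨CommRingCat.ofHom φ, rfl⟩
  let t : pullback (Spec.map (CommRingCat.ofHom (algebraMap P.Core (P.ModelOfHasCoeffs P.Core))))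
      (Spec.map (CommRingCat.ofHom (algebraMap P.Core A))) ⟶ Spec (.of C) :=
    (pullbackSpecIso P.Core (P.ModelOfHasCoeffs P.Core) A).hom ≫ Spec.map ψ
  have ht : t ≫ Spec.map (CommRingCat.ofHom (algebraMap A C)) = pullback.snd _ _ := by
    rw [← pullbackSpecIso_hom_snd]
    show (_ ≫ _) ≫ _ = _
    rw [Category.assoc, ← Spec.map_comp]
    congr 2
    ext a
    show ψ.hom (algebraMap A C a) = _
    rw [hψ]
    exact hφ a
  haveI : IsIso (Spec.map ψ) := by
    haveI : IsIso ψ :=
      (ConcreteCategory.isIso_iff_bijective _).mpr (by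
        show Function.Bijective ψ.hom
        rw [hψ]; exact hφbij)
    infer_instance
  haveI : IsIso t := by
    show IsIso (_ ≫ _)
    infer_instance
  exact h1.map t _ ht

end Affine

section Cover

open Topology

/-- (copied from lead's `EtCons3_lead`) a constructible cover of a spectral space has a finite
subcover. -/
theorem exists_finite_subcover_of_isConstructible' {X : Type*} [TopologicalSpace X]
    [CompactSpace X] [QuasiSober X]
    [PrespectralSpace X] [QuasiSeparatedSpace X] {ι : Type*} (C : ι → Set X)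
    (hC : ∀ i, Topology.IsConstructible (C i)) (hcov : (⋃ i, C i) = Set.univ) :
    ∃ t : Finset ι, (⋃ i ∈ t, C i) = Set.univ := by
  have hopen : ∀ s : Set X, Topology.IsConstructible s →
      IsOpen (WithTopology.ofTopology (t := constructibleTopology X) ⁻¹' s) := by
    intro s hs
    suffices h : IsOpen (WithTopology.ofTopology (t := constructibleTopology X) ⁻¹' s) ∧
        IsOpen (WithTopology.ofTopology (t := constructibleTopology X) ⁻¹' sᶜ) from h.1
    induction hs using Topology.IsConstructible.empty_union_induction with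
    | open_retrocompact U hUo hUc =>
      constructor
      · rw [WithConstructibleTopology.isOpen_iff]
        exact hUc.isCompact.isOpen_constructibleTopology_of_isOpen hUo
      · rw [WithConstructibleTopology.isOpen_iff]
        exact IsCompact.isOpen_constructibleTopology_of_isClosed (s := Uᶜ)
          (by rw [compl_compl]; exact hUc.isCompact) hUo.isClosed_compl
    | union s hs t ht h1 h2 =>
      constructor
      · rw [Set.preimage_union]
        exact h1.1.union h2.1
      · rw [Set.compl_union, Set.preimage_inter]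
        exact h1.2.inter h2.2
    | compl s hs h1 =>
      exact ⟨h1.2, by rw [compl_compl]; exact h1.1⟩
  obtain ⟨t, ht⟩ := (isCompact_univ (X := WithConstructibleTopology X)).elim_finite_subcover
    (fun i => WithTopology.ofTopology (t := constructibleTopology X) ⁻¹' C i)
    (fun i => hopen _ (hC i)) (by
      intro x _
      have : WithTopology.ofTopology x ∈ ⋃ i, C i := hcov ▸ Set.mem_univ _
      obtain ⟨i, hi⟩ := Set.mem_iUnion.mp this
      exact Set.mem_iUnion.mpr ⟨i, hi⟩)
  refine ⟨t, Set.eq_univ_of_forall fun x => ?_⟩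
  have := ht (Set.mem_univ (WithTopology.toTopology _ x))
  obtain ⟨i, hi, hx⟩ := Set.mem_iUnion₂.mp this
  exact Set.mem_iUnion₂.mpr ⟨i, hi, hx⟩

/-- a surjective morphism locally of finite presentation onto an affine scheme is dominated by an
affine scheme of finite presentation which is still surjective. -/
theorem exists_affine_surjective {X Y : Scheme.{u}} [IsAffine Y] (f : X ⟶ Y) [Surjective f]
    [LocallyOfFinitePresentation f] :
    ∃ (X' : Scheme.{u}) (_ : IsAffine X') (σ : X' ⟶ X),
      LocallyOfFinitePresentation (σ ≫ f) ∧ Surjective (σ ≫ f) := by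
  classical
  have hC : ∀ i : X.affineCover.I₀,
      Topology.IsConstructible (Set.range (X.affineCover.f i ≫ f)) := by
    intro i
    have := (X.affineCover.f i ≫ f).isConstructible_image (s := Set.univ)
      Topology.IsConstructible.univ
    rwa [Set.image_univ] at this
  have hcov : (⋃ i : X.affineCover.I₀, Set.range (X.affineCover.f i ≫ f)) = Set.univ := by
    refine Set.eq_univ_of_forall fun y => ?_
    obtain ⟨x, rfl⟩ := f.surjective y
    obtain ⟨i, u, rfl⟩ := X.affineCover.exists_eq x
    exact Set.mem_iUnion.mpr ⟨i, u, rfl⟩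
  obtain ⟨t, ht⟩ := exists_finite_subcover_of_isConstructible' _ hC hcov
  refine ⟨∐ fun i : t => X.affineCover.X i, inferInstance,
    Sigma.desc (fun i : t => X.affineCover.f i), ?_, ?_⟩
  · rw [IsZariskiLocalAtSource.iff_of_openCover (P := @LocallyOfFinitePresentation)
      (sigmaOpenCover (fun i : t => X.affineCover.X i))]
    intro i
    show LocallyOfFinitePresentation (Sigma.ι _ i ≫ Sigma.desc _ ≫ f)
    rw [Sigma.ι_desc_assoc]
    infer_instance
  · refine ⟨fun y => ?_⟩
    have hy : y ∈ ⋃ i ∈ t, Set.range (X.affineCover.f i ≫ f) := ht ▸ Set.mem_univ y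
    obtain ⟨i, hi, u, rfl⟩ := Set.mem_iUnion₂.mp hy
    refine ⟨Sigma.ι (fun i : t => X.affineCover.X i) ⟨i, hi⟩ u, ?_⟩
    rw [← Scheme.Hom.comp_apply, Sigma.ι_desc_assoc]

end Cover

section SpecBase

/-- **Affine base `Spec P`, arbitrary source.** -/
theorem goodPart_of_spec (P : CommRingCat.{u}) {X : Scheme.{u}} (f : X ⟶ Spec P) [Surjective f]
    [LocallyOfFinitePresentation f] : GoodPart f Set.univ := by
  obtain ⟨X', hX', σ, hfp, hsurj⟩ := exists_affine_surjective f
  haveI := hX'
  haveI := hfp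
  haveI := hsurj
  have hρfp : ((σ ≫ f).appTop).hom.FinitePresentation :=
    (HasRingHomProperty.iff_of_isAffine (P := @LocallyOfFinitePresentation)).1 inferInstance
  obtain ⟨ψ, hψ⟩ : ∃ ψ : P ⟶ Γ(X', ⊤), ψ = (Scheme.ΓSpecIso P).inv ≫ (σ ≫ f).appTop :=
    ⟨_, rfl⟩
  have hψfp : ψ.hom.FinitePresentation := by
    rw [hψ]
    exact (RingHom.finitePresentation_respectsIso.cancel_left_isIso (Scheme.ΓSpecIso P).inv
      _).2 hρfp
  have hι : X'.isoSpec.inv ≫ (σ ≫ f) = Spec.map ψ := by
    rw [hψ, ← Scheme.isoSpec_inv_naturality, Scheme.isoSpec_Spec_inv, Spec.map_comp]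
  letI algPR : Algebra P Γ(X', ⊤) := ψ.hom.toAlgebra
  haveI : Algebra.FinitePresentation P Γ(X', ⊤) := hψfp
  have h0 := goodPart_affine P Γ(X', ⊤)
  have hψ' : CommRingCat.ofHom (algebraMap P Γ(X', ⊤)) = ψ := rfl
  rw [hψ'] at h0
  refine h0.map' (X'.isoSpec.inv ≫ σ) f (by rw [Category.assoc]; exact hι) ?_
  intro y _
  rw [← hι]
  obtain ⟨x, rfl⟩ := (σ ≫ f).surjective y
  exact ⟨X'.isoSpec.hom x, by
    rw [← Scheme.Hom.comp_apply, Iso.hom_inv_id_assoc]⟩

end SpecBase

section Qcqs

/-- the difference of an affine open and a quasi-compact open carries a finitely presented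
affine locally closed subscheme structure. -/
theorem exists_piece_diff {Y : Scheme.{u}} [QuasiSeparatedSpace Y] (S : Y.Opens)
    (hS : IsCompact (S : Set Y)) (U : Y.affineOpens) :
    ∃ (P : CommRingCat.{u}) (e₀ : Spec P ⟶ Y), IsFPImm e₀ ∧
      Set.range e₀ = (U.1 : Set Y) \ (S : Set Y) := by
  have hU : IsAffineOpen U.1 := U.2
  have hrj : Set.range hU.fromSpec = (U.1 : Set Y) := hU.range_fromSpec
  have hK : IsCompact (hU.fromSpec ⁻¹' (S : Set Y)) ∧ IsOpen (hU.fromSpec ⁻¹' (S : Set Y)) := by
    refine ⟨?_, S.isOpen.preimage hU.fromSpec.continuous⟩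
    have h1 : IsCompact ((U.1 : Set Y) ∩ (S : Set Y)) :=
      QuasiSeparatedSpace.inter_isCompact _ _ U.1.isOpen hU.isCompact S.isOpen hS
    have h2 : hU.fromSpec ⁻¹' (S : Set Y) = hU.fromSpec ⁻¹' ((U.1 : Set Y) ∩ (S : Set Y)) := by
      ext x
      simp only [Set.mem_preimage, Set.mem_inter_iff, iff_and_self]
      intro _
      rw [← hrj]
      exact ⟨x, rfl⟩
    rw [h2]
    refine (hU.fromSpec.isOpenEmbedding.isInducing.isCompact_preimage_iff ?_).mpr h1
    rw [hrj]
    exact Set.inter_subset_left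
  obtain ⟨t, ht⟩ := PrimeSpectrum.isCompact_isOpen_iff.mp hK
  obtain ⟨π, hπ⟩ : ∃ π : Γ(Y, U.1) ⟶ CommRingCat.of (Γ(Y, U.1) ⧸ Ideal.span (t : Set Γ(Y, U.1))),
      π = CommRingCat.ofHom (Ideal.Quotient.mk _) := ⟨_, rfl⟩
  have hπsurj : Function.Surjective π.hom := by
    rw [hπ]; exact Ideal.Quotient.mk_surjective
  have hπker : RingHom.ker π.hom = Ideal.span (t : Set Γ(Y, U.1)) := by
    rw [hπ]; exact Ideal.mk_ker
  haveI : IsClosedImmersion (Spec.map π) := IsClosedImmersion.spec_of_surjective _ hπsurj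
  haveI : LocallyOfFinitePresentation (Spec.map π) := by
    rw [HasRingHomProperty.Spec_iff (P := @LocallyOfFinitePresentation)]
    refine RingHom.FinitePresentation.of_surjective _ hπsurj ?_
    rw [hπker]
    exact ⟨t, rfl⟩
  refine ⟨_, Spec.map π ≫ hU.fromSpec, ⟨inferInstance, inferInstance, inferInstance⟩, ?_⟩
  have hrπ : Set.range (Spec.map π) = (hU.fromSpec ⁻¹' (S : Set Y))ᶜ := by
    have h1 : Set.range (Spec.map π) = PrimeSpectrum.zeroLocus (t : Set Γ(Y, U.1)) := by
      have := range_comap_of_surjective _ π.hom hπsurj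
      rw [hπker, PrimeSpectrum.zeroLocus_span] at this
      exact this
    ext x
    have hx2 := Set.ext_iff.mp ht x
    constructor
    · intro hx hmem
      have hx' : x ∈ PrimeSpectrum.zeroLocus (t : Set Γ(Y, U.1)) := h1 ▸ hx
      exact (hx2.mpr hmem) hx'
    · intro hx
      rw [h1]
      by_contra hnot
      exact hx (hx2.mp hnot)
  have hcomp : Set.range (Spec.map π ≫ hU.fromSpec) = hU.fromSpec '' Set.range (Spec.map π) := by
    ext y
    constructor
    · rintro ⟨x, rfl⟩
      exact ⟨Spec.map π x, ⟨x, rfl⟩, rfl⟩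
    · rintro ⟨_, ⟨x, rfl⟩, rfl⟩
      exact ⟨x, rfl⟩
  rw [hcomp, hrπ, Set.image_compl_preimage, hrj]

theorem goodPart_opens {X Y : Scheme.{u}} (f : X ⟶ Y) [Surjective f]
    [LocallyOfFinitePresentation f] [QuasiSeparatedSpace Y] (S : Y.Opens)
    (hS : IsCompact (S : Set Y)) : GoodPart f (S : Set Y) := by
  refine compact_open_induction_on (P := fun S : Y.Opens => GoodPart f (S : Set Y)) S hS ?_ ?_
  · show GoodPart f ((⊥ : Y.Opens) : Set Y)
    rw [TopologicalSpace.Opens.coe_bot]
    exact GoodPart.empty f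
  · intro S hS U hgood
    obtain ⟨P, e₀, hFP, hr⟩ := exists_piece_diff S hS U
    have h0 := goodPart_of_spec P (pullback.snd f e₀)
    have h1 := h0.comp hFP
    rw [Set.image_univ, hr] at h1
    have hunion : ((S ⊔ U.1 : Y.Opens) : Set Y) = (S : Set Y) ∪ ((U.1 : Set Y) \ (S : Set Y)) := by
      rw [TopologicalSpace.Opens.coe_sup, Set.union_diff_self]
    show GoodPart f ((S ⊔ U.1 : Y.Opens) : Set Y)
    rw [hunion]
    exact GoodPart.union f hgood h1 Set.disjoint_sdiff_right

end Qcqs

section Final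

theorem hasMultisection_of_isEmpty {X Y T : Scheme.{u}} (f : X ⟶ Y) (e : T ⟶ Y) [IsEmpty T] :
    HasMultisection f e := by
  refine ⟨T, T, 𝟙 T, 𝟙 T, (isInitialOfIsEmpty (X := T)).to X,
    ⟨inferInstance, inferInstance, inferInstance⟩,
    ⟨inferInstance, inferInstance, inferInstance, inferInstance, inferInstance⟩, ?_⟩
  exact (isInitialOfIsEmpty (X := T)).hom_ext _ _

/-- **S8544**. -/
theorem main8544 {X Y : Scheme.{u}} (f : X ⟶ Y) [Surjective f]
    [LocallyOfFinitePresentation f] [CompactSpace Y] [QuasiSeparatedSpace Y] :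
    ∃ (m : ℕ) (T T' T'' : Fin m → Scheme.{u}) (e : ∀ i, T i ⟶ Y) (hh : ∀ i, T' i ⟶ T i)
      (gg : ∀ i, T'' i ⟶ T' i) (s : ∀ i, T'' i ⟶ X),
      (∀ i, IsImmersion (e i) ∧ LocallyOfFinitePresentation (e i) ∧ QuasiCompact (e i)) ∧
      Pairwise (fun i j => Disjoint (Set.range (e i).base) (Set.range (e j).base)) ∧
      (⋃ i, Set.range (e i).base) = Set.univ ∧
      (∀ i, IsFinite (hh i) ∧ Surjective (hh i) ∧ Etale (hh i)) ∧
      (∀ i, IsFinite (gg i) ∧ Surjective (gg i) ∧ Flat (gg i) ∧
        LocallyOfFinitePresentation (gg i) ∧ UniversallyInjective (gg i)) ∧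
      ∀ i, s i ≫ f = gg i ≫ hh i ≫ e i := by
  have h0 := goodPart_opens f ⊤ (by
    rw [TopologicalSpace.Opens.coe_top]; exact isCompact_univ)
  rw [TopologicalSpace.Opens.coe_top] at h0
  obtain ⟨m, T, e, hpiece, hdisj, hcov⟩ := h0.toFin
  have hms : ∀ i, HasMultisection f (e i) := by
    intro i
    rcases (hpiece i).2 with hd | hm
    · have hempty : IsEmpty (T i) := by
        refine ⟨fun t => ?_⟩
        exact Set.disjoint_left.mp hd ⟨t, rfl⟩ (f.surjective _)
      exact hasMultisection_of_isEmpty f (e i)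
    · exact hm
  choose T' T'' hh gg s h1 h2 h3 using hms
  exact ⟨m, T, T', T'', e, hh, gg, s, fun i => (hpiece i).1, hdisj, hcov, h1, h2, h3⟩

end Final

end Groth.Agent.Lib.LfpSectH3
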