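import Groth.Agent.Lib.LftFieldPts_helper7
import Groth.Agent.Lib.FibreLocNoeth_helper7
import Groth.Agent.Lib.AlgSpFibEmb_helper6
import Groth.Agent.Lib.AlgSpDecent5_helper6
import Groth.Agent.Lib.FibLoc_helper8

/-!
# Fibres of morphisms locally of finite type: discreteness and quasi-finiteness (helper7)

S10444 (fibre conditions) and S10445 (conditions at a point of a fibre).
-/

set_option autoImplicit false
set_option linter.style.haveILetI false
universe u
open CategoryTheory CategoryTheory.Limits AlgebraicGeometry Opposite MorphismProperty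
open AlgSp Groth.Agent.Lib.AlgSpQC2_helper7 Groth.Agent.Lib.AlgSpPoints_helper7
  Groth.Agent.Lib.AlgSpQC_helper7 Groth.Agent.Lib.AlgSpDiag_helper7 Groth.Agent.Lib.AlgSpTop_helper7
  Groth.Agent.Lib.AlgSpPullback_helper7 Groth.Agent.Lib.AlgSpSep_helper7
  Groth.Agent.Lib.AlgSpLocP_helper7 Groth.Agent.Lib.AlgSpUniv_helper7
  Groth.Agent.Lib.AlgSpFpqc_helper7 Groth.Agent.Lib.AlgSpFpqc2_helper7
  Groth.Agent.Lib.AlgSpDescent_helper7 Groth.Agent.Lib.AlgSpEtale_helper7
  Groth.Agent.Lib.AlgSpLocP2_helper7 Groth.Agent.Lib.AlgSpEpi_helper7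
  Groth.Agent.Lib.SchSrcLocal_helper7 Groth.Agent.Lib.AlgSpLocP4_helper7
  Groth.Agent.Lib.LqfDiscreteFibresH7 Groth.Agent.Lib.LftFieldPtsH7
  Groth.Agent.Lib.FibreLocNoethH7

namespace Groth.Agent.Lib.LftFieldPts2H7

variable {S : Scheme.{u}}

/-! ## Topology -/

theorem discreteTopology_of_isOpenMap_surjective {A B : Type*} [TopologicalSpace A]
    [TopologicalSpace B] [DiscreteTopology A] {g : A → B} (ho : IsOpenMap g)
    (hs : Function.Surjective g) : DiscreteTopology B := by
  rw [discreteTopology_iff_isOpen_singleton]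
  intro b
  obtain ⟨a, rfl⟩ := hs b
  rw [← Set.image_singleton]
  exact ho _ (isOpen_discrete _)

theorem homeo_closed_nogen_iff {A B : Type*} [TopologicalSpace A] [TopologicalSpace B]
    (e : A ≃ₜ B) (a : A) :
    (IsClosed ({a} : Set A) ∧ ∀ a', a' ⤳ a → a' = a) ↔
      (IsClosed ({e a} : Set B) ∧ ∀ b', b' ⤳ e a → b' = e a) := by
  have h1 : IsClosed ({e a} : Set B) ↔ IsClosed ({a} : Set A) := by
    rw [← Set.image_singleton, e.isClosed_image]
  rw [h1]
  refine and_congr_right fun _ => ⟨fun H b' hb' => ?_, fun H a' ha' => ?_⟩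
  · have : e.symm b' ⤳ a := by
      rw [← e.isInducing.specializes_iff]
      simpa using hb'
    rw [← H _ this, e.apply_symm_apply]
  · have : e a' ⤳ e a := e.isInducing.specializes_iff.mpr ha'
    exact e.injective (H _ this)

/-! ## Schemes -/

theorem quasiFiniteAt_of_isOpen_singleton_fiber {X Y : Scheme.{u}} (f : X ⟶ Y)
    [LocallyOfFiniteType f] (x : X) (y : Y) (hx : f x = y) (e : ↥(f.fiber y))
    (he : f.fiberι y e = x) (hopen : IsOpen ({e} : Set ↥(f.fiber y))) : f.QuasiFiniteAt x := by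
  subst hx
  rw [Scheme.Hom.quasiFiniteAt_iff_isOpen_singleton_asFiber]
  have : e = f.asFiber x :=
    (f.fiberι (f x)).isEmbedding.injective (by rw [he, Scheme.Hom.fiberι_asFiber])
  rwa [← this]

/-- Quasi-finiteness at a point descends along base change (from an isolated point). -/
theorem quasiFiniteAt_of_isPullback {P X Y Z : Scheme.{u}} {fst : P ⟶ X} {snd : P ⟶ Y}
    {f : X ⟶ Z} {g : Y ⟶ Z} (sq : IsPullback fst snd f g) [LocallyOfFiniteType f] (p : P)
    (hp : IsOpen ({p} : Set P)) : f.QuasiFiniteAt (fst p) := by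
  obtain ⟨φ, hφ, hφ2⟩ : ∃ φ : snd.fiber (snd p) ⟶ f.fiber (g (snd p)),
      IsPullback φ (snd.fiberToSpecResidueField (snd p))
        (f.fiberToSpecResidueField (g (snd p))) (Spec.map (g.residueFieldMap (snd p))) ∧
      φ ≫ f.fiberι (g (snd p)) = snd.fiberι (snd p) ≫ fst :=
    ⟨_, isPullback_fiberToSpecResidueField_of_isPullback sq (snd p), pullback.lift_fst _ _ _⟩
  haveI : Subsingleton ↥(Spec (Z.residueField (g (snd p)))) :=
    inferInstanceAs (Subsingleton (PrimeSpectrum (Z.residueField (g (snd p)))))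
  haveI : UniversallyOpen (Spec.map (g.residueFieldMap (snd p))) := inferInstance
  haveI : UniversallyOpen φ :=
    MorphismProperty.of_isPullback (P := @UniversallyOpen) hφ.flip inferInstance
  have h1 : IsOpen ({snd.asFiber p} : Set ↥(snd.fiber (snd p))) := by
    have : ({snd.asFiber p} : Set ↥(snd.fiber (snd p))) = (snd.fiberι (snd p)) ⁻¹' {p} := by
      ext e
      simp only [Set.mem_singleton_iff, Set.mem_preimage]
      constructor
      · rintro rfl
        exact snd.fiberι_asFiber p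
      · intro h
        exact (snd.fiberι (snd p)).isEmbedding.injective (by rw [h, snd.fiberι_asFiber])
    rw [this]
    exact hp.preimage (snd.fiberι (snd p)).continuous
  have h2 : IsOpen ({φ (snd.asFiber p)} : Set ↥(f.fiber (g (snd p)))) := by
    have := φ.isOpenMap _ h1
    rwa [Set.image_singleton] at this
  have h3 : f.fiberι (g (snd p)) (φ (snd.asFiber p)) = fst p := by
    rw [← Scheme.Hom.comp_apply, hφ2, Scheme.Hom.comp_apply, snd.fiberι_asFiber]
  have h4 : f (fst p) = g (snd p) := by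
    rw [← Scheme.Hom.comp_apply, sq.w, Scheme.Hom.comp_apply]
  exact quasiFiniteAt_of_isOpen_singleton_fiber f (fst p) (g (snd p)) h4 _ h3 h2

theorem exists_opens_lqf_of_quasiFiniteAt {X Y : Scheme.{u}} (f : X ⟶ Y)
    [LocallyOfFiniteType f] (x : X) (hx : f.QuasiFiniteAt x) :
    ∃ W : X.Opens, x ∈ W ∧ LocallyQuasiFinite (W.ι ≫ f) ∧ LocallyOfFiniteType (W.ι ≫ f) := by
  refine ⟨f.quasiFiniteLocus, hx, ?_, inferInstance⟩
  rw [← Scheme.Hom.quasiFiniteLocus_eq_top_iff, Scheme.Hom.quasiFiniteLocus_comp]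
  exact Scheme.Opens.ι_preimage_self _

/-! ## Points of fibres -/

theorem map_toHom_eq {F : Sp S} (r : FieldPt F) (z : Points ((yon S).obj r.pt)) :
    Points.map r.toHom z = Points.mk r := by
  obtain ⟨s, rfl⟩ := (Points.schemeEquiv r.pt).surjective z
  change Points.map r.toHom (Points.ofScheme r.pt s) = _
  rw [← Points.ofPt_eq_map_ofScheme, Points.ofPt_toHom]

section Fibre

variable {X Y : Sp S} {f : X ⟶ Y} {r : FieldPt Y} {Xk : Sp S} {fst : Xk ⟶ X}
  {snd : Xk ⟶ (yon S).obj r.pt}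

theorem map_f_fst (hsq : IsPullback fst snd f r.toHom) (xt : Points Xk) :
    Points.map f (Points.map fst xt) = Points.mk r := by
  rw [← Points.map_comp, hsq.w, Points.map_comp, map_toHom_eq]

theorem exists_fibre_pt (hsq : IsPullback fst snd f r.toHom) (x : Points X)
    (hx : Points.map f x = Points.mk r) : ∃ xt : Points Xk, Points.map fst xt = x := by
  obtain ⟨z, hz, -⟩ := exists_of_isPullback hsq x
    (Points.ofScheme r.pt (IsLocalRing.closedPoint r.K)) (by rw [hx, map_toHom_eq])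
  exact ⟨z, hz⟩

end Fibre

/-! ## Discreteness and field extensions -/

theorem locP_lqf_of_discrete {P : Sp S} {k : Type u} [Field k]
    {str : Spec (CommRingCat.of k) ⟶ S} (q : P ⟶ (yon S).obj (Over.mk str))
    (hq : LocP @LocallyOfFiniteType q) [DiscreteTopology (Points P)] :
    LocP ((@LocallyQuasiFinite : MorphismProperty Scheme.{u}) ⊓ @LocallyOfFiniteType) q := by
  intro U V a b h hae hbe comm
  haveI hlft : LocallyOfFiniteType h.left := hq a b h hae hbe comm
  refine ⟨?_, hlft⟩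
  obtain ⟨π, hπ⟩ := exists_lft_chart q hq a hae
  haveI := hπ
  haveI : DiscreteTopology U.left := discrete_of_etale_to_discrete π a hae
  rw [locallyQuasiFinite_iff_isDiscrete_preimage_singleton]
  intro v
  exact isDiscrete_iff_discreteTopology.mpr inferInstance

theorem discrete_bc {P : Sp S} (hP : IsAlgSpace P) {k : Type u} [Field k]
    {str : Spec (CommRingCat.of k) ⟶ S} (q : P ⟶ (yon S).obj (Over.mk str))
    (hq : LocP @LocallyOfFiniteType q) {k' : Type u} [Field k']
    {str' : Spec (CommRingCat.of k') ⟶ S} (m : Over.mk str' ⟶ Over.mk str) {P' : Sp S}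
    {g : P' ⟶ P} {q' : P' ⟶ (yon S).obj (Over.mk str')}
    (sq : IsPullback g q' q ((yon S).map m)) [DiscreteTopology (Points P)] :
    DiscreteTopology (Points P') :=
  discrete_fibres_of_lqf hP (IsAlgSpace.yon_obj _) q (locP_lqf_of_discrete q hq) k' str'
    ((yon S).map m) P' g q' sq

theorem isOpenMap_surjective_bc {P P' : Sp S} {k k' : Type u} [Field k] [Field k']
    {str : Spec (CommRingCat.of k) ⟶ S} {str' : Spec (CommRingCat.of k') ⟶ S}
    (m : Over.mk str' ⟶ Over.mk str) {q : P ⟶ (yon S).obj (Over.mk str)} {g : P' ⟶ P}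
    {q' : P' ⟶ (yon S).obj (Over.mk str')} (sq : IsPullback g q' q ((yon S).map m)) :
    IsOpenMap (Points.map g) ∧ Function.Surjective (Points.map g) := by
  obtain ⟨-, h2, h3⟩ := field_mor_props (K := k') (L := k) m.left
  have hs : RepWith @Surjective ((yon S).map m) := (repWith_yon_map_iff @Surjective m).2 h2
  have ho : RepWith @UniversallyOpen ((yon S).map m) :=
    (repWith_yon_map_iff @UniversallyOpen m).2 h3
  exact ⟨isOpenMap_map_of_repWith g (repWith_fst_of_isPullback _ sq ho),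
    isSurjectiveMor_of_repWith g (repWith_fst_of_isPullback _ sq hs)⟩

/-- Isolated points via a chart whose pullback is discrete. -/
theorem isOpen_singleton_of_chart_pullback {X₁ X₂ Y₁ : Sp S} (hY₁ : IsAlgSpace Y₁) {W' : Over S}
    (a' : (yon S).obj W' ⟶ X₁) (ha' : RepWith @Etale a') (g : X₂ ⟶ X₁) (q₁ : X₁ ⟶ Y₁)
    {k : Type u} [Field k] {str : Spec (CommRingCat.of k) ⟶ S}
    (y : (yon S).obj (Over.mk str) ⟶ Y₁) (q₂ : X₂ ⟶ (yon S).obj (Over.mk str))
    (sq : IsPullback g q₂ q₁ y)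
    (hlqf : LocP ((@LocallyQuasiFinite : MorphismProperty Scheme.{u}) ⊓ @LocallyOfFiniteType)
      (a' ≫ q₁))
    (xt : Points X₂) (w : W'.left) (hw : Points.ofPt a' w = Points.map g xt) :
    IsOpen ({xt} : Set (Points X₂)) := by
  have sq0 := IsPullback.of_hasPullback a' g
  have sq'' : IsPullback (pullback.fst a' g) (pullback.snd a' g ≫ q₂) (a' ≫ q₁) y :=
    (sq0.flip.paste_horiz sq.flip).flip
  haveI : DiscreteTopology (Points (pullback a' g)) :=
    discrete_fibres_of_lqf (IsAlgSpace.yon_obj W') hY₁ (a' ≫ q₁) hlqf k str y _ _ _ sq''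
  have hpe : RepWith @Etale (pullback.snd a' g) := repWith_snd_of_isPullback _ sq0 ha'
  have hopen := isOpenMap_map_of_repWith _ (repWith_universallyOpen_of_etale hpe)
  obtain ⟨z, -, hz2⟩ := exists_of_isPullback sq0 (Points.ofScheme W' w) xt (by
    rw [← Points.ofPt_eq_map_ofScheme]; exact hw)
  have := hopen _ (isOpen_discrete ({z} : Set (Points (pullback a' g))))
  rwa [Set.image_singleton, hz2] at this

/-- Isolated points stay isolated after a field extension. -/
theorem isOpen_singleton_bc {P : Sp S} (hP : IsAlgSpace P) {k : Type u} [Field k]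
    {str : Spec (CommRingCat.of k) ⟶ S} (q : P ⟶ (yon S).obj (Over.mk str))
    (hq : LocP @LocallyOfFiniteType q) {k' : Type u} [Field k']
    {str' : Spec (CommRingCat.of k') ⟶ S} (m : Over.mk str' ⟶ Over.mk str) {P' : Sp S}
    {g : P' ⟶ P} {q' : P' ⟶ (yon S).obj (Over.mk str')}
    (sq : IsPullback g q' q ((yon S).map m)) (x₀ : Points P)
    (hx₀ : IsOpen ({x₀} : Set (Points P))) (xt : Points P') (hxt : Points.map g xt = x₀) :
    IsOpen ({xt} : Set (Points P')) := by
  obtain ⟨U₀, c₀, hc₀e, hc₀s⟩ := hP.atlas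
  obtain ⟨u₀, hu₀⟩ := ofPt_surjective c₀ hc₀s x₀
  obtain ⟨π, hπ⟩ := exists_lft_chart q hq c₀ hc₀e
  haveI := hπ
  have hZ : IsOpen (Points.ofPt c₀ ⁻¹' {x₀}) := hx₀.preimage (Points.continuous_ofPt c₀)
  have hu₀o : IsOpen ({u₀} : Set U₀.left) :=
    isOpen_singleton_of_mem_open_fibre π c₀ hc₀e x₀ hZ u₀ hu₀
  let N : U₀.left.Opens := ⟨{u₀}, hu₀o⟩
  let W₀ : Over S := Over.mk (N.ι ≫ U₀.hom)
  let j : W₀ ⟶ U₀ := Over.homMk N.ι rfl
  have hje : RepWith @Etale ((yon S).map j) :=
    (repWith_yon_map_iff @Etale j).2 (inferInstance : Etale N.ι)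
  have hc' : RepWith @Etale ((yon S).map j ≫ c₀) := repWith_comp _ hje hc₀e
  obtain ⟨g₀, hg₀⟩ := (yon S).map_surjective (((yon S).map j ≫ c₀) ≫ q)
  haveI hlft : LocallyOfFiniteType g₀.left :=
    hq _ (𝟙 _) g₀ hc' (repWith_id _ (Over.mk str)) (by rw [hg₀, Category.comp_id])
  haveI : Subsingleton ↥(N : Scheme) := ⟨fun a b => N.ι.isOpenEmbedding.injective (by
    have ha : N.ι a ∈ Set.range N.ι := Set.mem_range_self a
    have hb : N.ι b ∈ Set.range N.ι := Set.mem_range_self b
    rw [Scheme.Opens.range_ι] at ha hb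
    exact (show N.ι a = u₀ from ha).trans (show N.ι b = u₀ from hb).symm)⟩
  haveI : Subsingleton ↥W₀.left := (inferInstance : Subsingleton ↥(N : Scheme))
  have hlqf0 : LocallyQuasiFinite g₀.left := by
    rw [locallyQuasiFinite_iff_isDiscrete_preimage_singleton]
    intro v
    exact (Set.subsingleton_of_subsingleton).isDiscrete
  have hlqf : LocP ((@LocallyQuasiFinite : MorphismProperty Scheme.{u}) ⊓ @LocallyOfFiniteType)
      (((yon S).map j ≫ c₀) ≫ q) := by
    rw [← hg₀]
    exact locP_of_one_chart etLocal_lqf _ (𝟙 _) (𝟙 _) g₀ (repWith_id _ W₀) (repWith_id _ W₀)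
      (repWith_id _ (Over.mk str)) (by rw [Category.id_comp, Category.comp_id]) ⟨hlqf0, hlft⟩
  obtain ⟨w, hw⟩ : ∃ w : ↥(N : Scheme), N.ι w = u₀ := by
    have : u₀ ∈ Set.range N.ι := by
      rw [Scheme.Opens.range_ι]
      exact Set.mem_singleton u₀
    exact this
  have hw' : j.left w = u₀ := hw
  exact isOpen_singleton_of_chart_pullback (IsAlgSpace.yon_obj _) _ hc' g q ((yon S).map m) q' sq
    hlqf xt w (by rw [ofPt_comp, hw', hu₀, hxt])

/-! ## Quasi-finiteness at a point and isolated points of the fibre -/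

section QF

variable {X Y : Sp S}

theorem isOpen_singleton_of_hasAtMor (hY : IsAlgSpace Y) (f : X ⟶ Y) (r : FieldPt Y)
    {Xk : Sp S} (fst : Xk ⟶ X) (snd : Xk ⟶ (yon S).obj r.pt)
    (hsq : IsPullback fst snd f r.toHom) (xt : Points Xk)
    (h : HasAtMor (fun U _ h u => ∃ W : U.Opens, u ∈ W ∧ LocallyQuasiFinite (W.ι ≫ h) ∧
      LocallyOfFiniteType (W.ι ≫ h)) f (Points.map fst xt)) :
    IsOpen ({xt} : Set (Points Xk)) := by
  obtain ⟨U, V, a, b, h, u, hae, hbe, comm, hu, W, huW, hlqf, hlft⟩ := h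
  let W' : Over S := Over.mk (W.ι ≫ U.hom)
  let j : W' ⟶ U := Over.homMk W.ι rfl
  have hje : RepWith @Etale ((yon S).map j) :=
    (repWith_yon_map_iff @Etale j).2 (inferInstance : Etale W.ι)
  have ha' : RepWith @Etale ((yon S).map j ≫ a) := repWith_comp _ hje hae
  have comm' : 𝟙 _ ≫ (((yon S).map j ≫ a) ≫ f) = (yon S).map (j ≫ h) ≫ b := by
    rw [Category.id_comp, Category.assoc, comm, Functor.map_comp, Category.assoc]
  have hP : ((@LocallyQuasiFinite : MorphismProperty Scheme.{u}) ⊓ @LocallyOfFiniteType)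
      (j ≫ h).left := ⟨hlqf, hlft⟩
  have hloc : LocP ((@LocallyQuasiFinite : MorphismProperty Scheme.{u}) ⊓ @LocallyOfFiniteType)
      (((yon S).map j ≫ a) ≫ f) :=
    locP_of_one_chart etLocal_lqf _ (𝟙 _) b (j ≫ h) (repWith_id _ W') (repWith_id _ W') hbe
      comm' hP
  obtain ⟨w, hw⟩ : ∃ w : ↥(W : Scheme), W.ι w = u := by
    have : u ∈ Set.range W.ι := by
      rw [Scheme.Opens.range_ι]
      exact huW
    exact this
  have hw' : j.left w = u := hw
  exact isOpen_singleton_of_chart_pullback hY _ ha' fst f r.toHom snd hsq hloc xt w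
    (by rw [ofPt_comp, hw', hu])

theorem hasAtMor_of_isOpen_singleton (hX : IsAlgSpace X) (hY : IsAlgSpace Y) (f : X ⟶ Y)
    (hf : LocP @LocallyOfFiniteType f) (r : FieldPt Y)
    {Xk : Sp S} (fst : Xk ⟶ X) (snd : Xk ⟶ (yon S).obj r.pt)
    (hsq : IsPullback fst snd f r.toHom) (xt : Points Xk)
    (hxt : IsOpen ({xt} : Set (Points Xk))) :
    HasAtMor (fun U _ h u => ∃ W : U.Opens, u ∈ W ∧ LocallyQuasiFinite (W.ι ≫ h) ∧
      LocallyOfFiniteType (W.ι ≫ h)) f (Points.map fst xt) := by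
  obtain ⟨V, b, hbe, hbs⟩ := hY.atlas
  have sqXV := IsPullback.of_hasPullback f b
  have hXV : IsAlgSpace (pullback f b) :=
    isAlgSpace_of_isPullback hY.diag hX (IsAlgSpace.yon_obj V) sqXV
  obtain ⟨U, a₀, ha₀e, ha₀s⟩ := hXV.atlas
  have hae : RepWith @Etale (a₀ ≫ pullback.fst f b) :=
    repWith_comp _ ha₀e (repWith_fst_of_isPullback _ sqXV hbe)
  have has : RepWith @Surjective (a₀ ≫ pullback.fst f b) :=
    repWith_comp _ ha₀s (repWith_fst_of_isPullback _ sqXV hbs)
  obtain ⟨h, hh⟩ := (yon S).map_surjective (a₀ ≫ pullback.snd f b)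
  have comm : (a₀ ≫ pullback.fst f b) ≫ f = (yon S).map h ≫ b := by
    rw [hh, Category.assoc, Category.assoc, pullback.condition]
  generalize a₀ ≫ pullback.fst f b = a at hae has comm
  haveI hlft : LocallyOfFiniteType h.left := hf a b h hae hbe comm
  obtain ⟨u, hu⟩ := ofPt_surjective a has (Points.map fst xt)
  -- the fibre of the target chart
  have sqV : IsPullback ((yon S).map (hbe.rep.fst' r.toHom)) ((yon S).map (hbe.rep.snd r.toHom))
      b r.toHom := hbe.rep.isPullback' r.toHom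
  generalize hbe.rep.fst' r.toHom = tk at sqV
  generalize hbe.rep.snd r.toHom = sk at sqV
  -- the fibre of the source chart
  have sqO := IsPullback.of_hasPullback h tk
  have sqY := sqO.map (yon S)
  have sqL : IsPullback (pullback.fst h tk).left (pullback.snd h tk).left h.left tk.left :=
    sqO.map (Over.forget S)
  have hw : ((yon S).map (pullback.fst h tk) ≫ a) ≫ f =
      (yon S).map (pullback.snd h tk ≫ sk) ≫ r.toHom := by
    rw [Category.assoc, comm, ← Category.assoc, sqY.w, Category.assoc, sqV.w, Functor.map_comp,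
      Category.assoc]
  obtain ⟨c', hc1, hc2⟩ : ∃ c' : (yon S).obj (pullback h tk) ⟶ Xk,
      c' ≫ fst = (yon S).map (pullback.fst h tk) ≫ a ∧
      c' ≫ snd = (yon S).map (pullback.snd h tk ≫ sk) :=
    ⟨hsq.lift _ _ hw, hsq.lift_fst _ _ _, hsq.lift_snd _ _ _⟩
  have big : IsPullback ((yon S).map (pullback.snd h tk) ≫ (yon S).map sk)
      ((yon S).map (pullback.fst h tk)) r.toHom ((yon S).map h ≫ b) :=
    sqY.flip.paste_horiz sqV.flip
  have sqC : IsPullback c' ((yon S).map (pullback.fst h tk)) fst a := by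
    refine IsPullback.of_right ?_ hc1 hsq.flip
    rw [hc2, comm, Functor.map_comp]
    exact big
  have hc'e : RepWith @Etale c' := repWith_fst_of_isPullback _ sqC hae
  obtain ⟨uk, huk1, huk2⟩ :=
    Groth.Agent.Lib.AlgSpEmbed_helper6.exists_of_isPullback_chart sqC xt u hu.symm
  have hsl : LocP @LocallyOfFiniteType snd :=
    locP_baseChange etLocal_locallyOfFiniteType hX hY (IsAlgSpace.yon_obj _) f r.toHom fst snd
      hsq hf
  obtain ⟨π, hπ⟩ := exists_lft_chart snd hsl c' hc'e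
  haveI := hπ
  have huko : IsOpen ({uk} : Set (pullback h tk).left) :=
    isOpen_singleton_of_mem_open_fibre π c' hc'e xt
      (hxt.preimage (Points.continuous_ofPt c')) uk huk1
  have hqf : h.left.QuasiFiniteAt ((pullback.fst h tk).left uk) :=
    quasiFiniteAt_of_isPullback sqL uk huko
  rw [huk2] at hqf
  obtain ⟨W, huW, h1, h2⟩ := exists_opens_lqf_of_quasiFiniteAt h.left u hqf
  exact ⟨U, V, a, b, h, u, hae, hbe, comm, hu, W, huW, h1, h2⟩

end QF

/-! ## The fibre over a monomorphic point -/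

theorem exists_mono_fibre {X Y : Sp S} (hX : IsAlgSpace X) (hY : IsAlgSpace Y) (f : X ⟶ Y)
    (r : FieldPt Y) {Xk : Sp S} (fst : Xk ⟶ X) (snd : Xk ⟶ (yon S).obj r.pt)
    (hsq : IsPullback fst snd f r.toHom) (hdY : IsDecent Y) :
    ∃ (r₀ : FieldPt Y) (c : r.pt ⟶ r₀.pt) (γ : Xk ⟶ pullback f r₀.toHom)
      (e : Points (pullback f r₀.toHom) ≃ₜ ↥(Points.map f ⁻¹' {Points.mk r})),
      IsPullback γ snd (pullback.snd f r₀.toHom) ((yon S).map c) ∧
      (∀ z, ((e z : ↥(Points.map f ⁻¹' {Points.mk r})) : Points X) =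
        Points.map (pullback.fst f r₀.toHom) z) ∧
      γ ≫ pullback.fst f r₀.toHom = fst := by
  obtain ⟨r₀, hr₀, hm, hqc⟩ := hdY (Points.mk r)
  haveI := hm
  obtain ⟨c, hc⟩ := exists_factor_of_mono hY r r₀ hr₀.symm
  have sq₀ := IsPullback.of_hasPullback f r₀.toHom
  obtain ⟨hemb, hrange⟩ :=
    Groth.Agent.Lib.AlgSpFibEmb_helper6.isEmbedding_fibre hX hY f r₀ hm hqc _ _ sq₀
  rw [hr₀] at hrange
  have hw : fst ≫ f = (snd ≫ (yon S).map c) ≫ r₀.toHom := by
    rw [Category.assoc, hc]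
    exact hsq.w
  obtain ⟨γ, hγ1, hγ2⟩ : ∃ γ : Xk ⟶ pullback f r₀.toHom,
      γ ≫ pullback.fst f r₀.toHom = fst ∧ γ ≫ pullback.snd f r₀.toHom = snd ≫ (yon S).map c :=
    ⟨sq₀.lift fst (snd ≫ (yon S).map c) hw, sq₀.lift_fst _ _ _, sq₀.lift_snd _ _ _⟩
  have sqγ : IsPullback γ snd (pullback.snd f r₀.toHom) ((yon S).map c) := by
    refine IsPullback.of_right ?_ hγ2 sq₀
    rw [hγ1, hc]
    exact hsq
  exact ⟨r₀, c, γ, hemb.toHomeomorph.trans (Homeomorph.setCongr hrange), sqγ, fun z => rfl, hγ1⟩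

end Groth.Agent.Lib.LftFieldPts2H7
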