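import Groth.Agent.Lib.LftFieldPts2_helper7

/-!
# S10444 and S10445 (helper7)
-/

set_option autoImplicit false
set_option linter.style.haveILetI false
universe u
open CategoryTheory CategoryTheory.Limits AlgebraicGeometry Opposite MorphismProperty
open AlgSp Groth.Agent.Lib.AlgSpQC2_helper7 Groth.Agent.Lib.AlgSpPoints_helper7
  Groth.Agent.Lib.AlgSpQC_helper7 Groth.Agent.Lib.AlgSpDiag_helper7 Groth.Agent.Lib.AlgSpTop_helper7
  Groth.Agent.Lib.AlgSpPullback_helper7 Groth.Agent.Lib.AlgSpSep_helper7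
  Groth.Agent.Lib.AlgSpLocP_helper7 Groth.Agent.Lib.AlgSpUniv_helper7
  Groth.Agent.Lib.AlgSpFpqc_helper7 Groth.Agent.Lib.AlgSpFpqc2_helper7
  Groth.Agent.Lib.AlgSpDescent_helper7 Groth.Agent.Lib.AlgSpEtale_helper7
  Groth.Agent.Lib.AlgSpLocP2_helper7 Groth.Agent.Lib.AlgSpEpi_helper7
  Groth.Agent.Lib.SchSrcLocal_helper7 Groth.Agent.Lib.AlgSpLocP4_helper7
  Groth.Agent.Lib.LqfDiscreteFibresH7 Groth.Agent.Lib.LftFieldPtsH7
  Groth.Agent.Lib.FibreLocNoethH7 Groth.Agent.Lib.LftFieldPts2H7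

namespace Groth.Agent.Lib.LftFieldPts3H7

theorem isOpen_singleton_homeo {A B : Type*} [TopologicalSpace A] [TopologicalSpace B]
    (e : A ≃ₜ B) (a : A) : IsOpen ({e a} : Set B) ↔ IsOpen ({a} : Set A) := by
  have : ({e a} : Set B) = e '' {a} := (Set.image_singleton).symm
  rw [this, e.isOpen_image]

theorem isOpen_iff_closed_nogen {S : Scheme.{u}} {P : Sp S} (hP : IsAlgSpace P) {k : Type u}
    [Field k] {str : Spec (CommRingCat.of k) ⟶ S} (q : P ⟶ (yon S).obj (Over.mk str))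
    (hq : LocP @LocallyOfFiniteType q) (x : Points P) :
    IsOpen ({x} : Set (Points P)) ↔
      (IsClosed ({x} : Set (Points P)) ∧ ∀ x' : Points P, x' ⤳ x → x' = x) :=
  ⟨fun h => ⟨isClosed_singleton_of_isOpen q hq hP x h, fun x' hx' =>
      Set.mem_singleton_iff.mp (hx'.mem_open h (Set.mem_singleton x))⟩,
    fun h => isOpen_singleton_of_isLocallyClosed q hq hP x h.1.isLocallyClosed h.2⟩

theorem main10444 {S : Scheme.{u}} {X Y : AlgSp.Space S} (f : X ⟶ Y)
    (hf : AlgSp.LocP @LocallyOfFiniteType f.hom) (r : AlgSp.FieldPt Y.obj)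
    (hy : AlgSp.Points.mk r ∈ Set.range (AlgSp.Points.map f.hom)) (Xk : AlgSp.Space S) (fst : Xk ⟶ X)
    (snd : Xk.obj ⟶ (AlgSp.yon S).obj r.pt) (hsq : IsPullback fst.hom snd f.hom r.toHom) :
    (DiscreteTopology (AlgSp.Points Xk.obj) ↔ AlgSp.dim Xk.obj = 0) ∧
    (AlgSp.dim Xk.obj = 0 ↔
      ∀ x : AlgSp.Points X.obj, AlgSp.Points.map f.hom x = AlgSp.Points.mk r → AlgSp.HasAtMor (fun U _ h u => ∃ W : U.Opens, u ∈ W ∧ LocallyQuasiFinite (W.ι ≫ h) ∧ LocallyOfFiniteType (W.ι ≫ h)) f.hom x) ∧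
    (DiscreteTopology (AlgSp.Points Xk.obj) → topologicalKrullDim (AlgSp.Points Xk.obj) = 0) ∧
    (AlgSp.IsDecent Xk.obj → topologicalKrullDim (AlgSp.Points Xk.obj) = 0 →
      DiscreteTopology (AlgSp.Points Xk.obj)) ∧
    (AlgSp.IsDecent Xk.obj → Finite (AlgSp.Points Xk.obj) → DiscreteTopology (AlgSp.Points Xk.obj)) ∧
    (Finite (AlgSp.Points Xk.obj) → (AlgSp.Points.map f.hom ⁻¹' {AlgSp.Points.mk r}).Finite) ∧
    (DiscreteTopology ↥(AlgSp.Points.map f.hom ⁻¹' {AlgSp.Points.mk r}) → topologicalKrullDim ↥(AlgSp.Points.map f.hom ⁻¹' {AlgSp.Points.mk r}) = 0) ∧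
    (AlgSp.IsDecent Y.obj → (DiscreteTopology ↥(AlgSp.Points.map f.hom ⁻¹' {AlgSp.Points.mk r}) ↔ DiscreteTopology (AlgSp.Points Xk.obj))) ∧
    (AlgSp.IsDecent Y.obj → AlgSp.IsDecent X.obj →
      (topologicalKrullDim ↥(AlgSp.Points.map f.hom ⁻¹' {AlgSp.Points.mk r}) = 0 → DiscreteTopology ↥(AlgSp.Points.map f.hom ⁻¹' {AlgSp.Points.mk r})) ∧
        ((AlgSp.Points.map f.hom ⁻¹' {AlgSp.Points.mk r}).Finite → DiscreteTopology ↥(AlgSp.Points.map f.hom ⁻¹' {AlgSp.Points.mk r}))) := by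
  have hXk : IsAlgSpace Xk.obj := Xk.property
  have hsl : LocP @LocallyOfFiniteType snd :=
    locP_baseChange etLocal_locallyOfFiniteType X.property Y.property (IsAlgSpace.yon_obj _)
      f.hom r.toHom fst.hom snd hsq hf
  obtain ⟨x₁, hx₁⟩ := hy
  have hfib : ∀ x, Points.map f.hom x = Points.mk r →
      ∃ xt : Points Xk.obj, Points.map fst.hom xt = x := fun x hx => exists_fibre_pt hsq x hx
  obtain ⟨xt₁, hxt₁⟩ := hfib x₁ hx₁
  haveI : Nonempty (Points Xk.obj) := ⟨xt₁⟩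
  have hover : ∀ xt : Points Xk.obj,
      Points.map f.hom (Points.map fst.hom xt) = Points.mk r := fun xt => map_f_fst hsq xt
  have h1 : DiscreteTopology (Points Xk.obj) ↔ AlgSp.dim Xk.obj = 0 :=
    ⟨fun h => by
      haveI := h
      exact le_antisymm (dim_le_zero_of_discrete snd hsl) (zero_le_dim hXk),
     fun h => discrete_of_dim_le_zero snd hsl hXk h.le⟩
  refine ⟨h1, ⟨fun hdim x hx => ?_, fun H => ?_⟩, ?_, ?_, ?_, ?_, ?_, ?_, ?_⟩
  · haveI := h1.mpr hdim
    obtain ⟨xt, rfl⟩ := hfib x hx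
    exact hasAtMor_of_isOpen_singleton X.property Y.property f.hom hf r fst.hom snd hsq xt
      (isOpen_discrete _)
  · apply h1.mp
    rw [discreteTopology_iff_isOpen_singleton]
    intro xt
    exact isOpen_singleton_of_hasAtMor Y.property f.hom r fst.hom snd hsq xt (H _ (hover xt))
  · intro h
    haveI := h
    exact le_antisymm (topologicalKrullDim_zero_of_discreteTopology _) (topDim_nonneg _)
  · intro hd h
    exact discrete_of_topDim_le_zero snd hsl hXk hd h.le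
  · intro hd h
    haveI := h
    exact discrete_of_finite snd hsl hXk hd
  · intro h
    haveI := h
    refine (Set.finite_range (Points.map fst.hom)).subset ?_
    intro x hx
    obtain ⟨xt, hxt⟩ := hfib x hx
    exact ⟨xt, hxt⟩
  · intro h
    haveI := h
    haveI : Nonempty ↥(Points.map f.hom ⁻¹' {Points.mk r}) := ⟨⟨x₁, hx₁⟩⟩
    exact le_antisymm (topologicalKrullDim_zero_of_discreteTopology _) (topDim_nonneg _)
  · intro hdY
    obtain ⟨r₀, c, γ, e, sqγ, he, hγ1⟩ :=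
      exists_mono_fibre X.property Y.property f.hom r fst.hom snd hsq hdY
    have sq₀ := IsPullback.of_hasPullback f.hom r₀.toHom
    have hX₀ : IsAlgSpace (pullback f.hom r₀.toHom) :=
      isAlgSpace_of_isPullback Y.property.diag X.property (IsAlgSpace.yon_obj _) sq₀
    have hs₀ : LocP @LocallyOfFiniteType (pullback.snd f.hom r₀.toHom) :=
      locP_baseChange etLocal_locallyOfFiniteType X.property Y.property (IsAlgSpace.yon_obj _)
        f.hom r₀.toHom _ _ sq₀ hf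
    constructor
    · intro hF
      haveI := hF
      haveI : DiscreteTopology (Points (pullback f.hom r₀.toHom)) := e.symm.discreteTopology
      exact discrete_bc hX₀ _ hs₀ c sqγ
    · intro hk
      haveI := hk
      obtain ⟨ho, hs⟩ := isOpenMap_surjective_bc c sqγ
      haveI : DiscreteTopology (Points (pullback f.hom r₀.toHom)) :=
        discreteTopology_of_isOpenMap_surjective ho hs
      exact e.discreteTopology
  · intro hdY hdX
    obtain ⟨r₀, c, γ, e, sqγ, he, hγ1⟩ :=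
      exists_mono_fibre X.property Y.property f.hom r fst.hom snd hsq hdY
    have sq₀ := IsPullback.of_hasPullback f.hom r₀.toHom
    have hX₀ : IsAlgSpace (pullback f.hom r₀.toHom) :=
      isAlgSpace_of_isPullback Y.property.diag X.property (IsAlgSpace.yon_obj _) sq₀
    have hs₀ : LocP @LocallyOfFiniteType (pullback.snd f.hom r₀.toHom) :=
      locP_baseChange etLocal_locallyOfFiniteType X.property Y.property (IsAlgSpace.yon_obj _)
        f.hom r₀.toHom _ _ sq₀ hf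
    have hd₀ : IsDecent (pullback f.hom r₀.toHom) :=
      Groth.Agent.Lib.AlgSpDecent4_helper6.isDecent_of_isPullback Y.property.diag sq₀ hdX
        (Groth.Agent.Lib.AlgSpDecent5_helper6.isDecent_yon r₀.pt)
    constructor
    · intro h
      have h' : topologicalKrullDim (Points (pullback f.hom r₀.toHom)) ≤ 0 := by
        rw [IsHomeomorph.topologicalKrullDim_eq e e.isHomeomorph]
        exact h.le
      haveI := discrete_of_topDim_le_zero _ hs₀ hX₀ hd₀ h'
      exact e.discreteTopology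
    · intro h
      haveI : Finite ↥(Points.map f.hom ⁻¹' {Points.mk r}) := h.to_subtype
      haveI : Finite (Points (pullback f.hom r₀.toHom)) := Finite.of_equiv _ e.symm.toEquiv
      haveI := discrete_of_finite _ hs₀ hX₀ hd₀
      exact e.discreteTopology

theorem main10445 {S : Scheme.{u}} {X Y : AlgSp.Space S} (f : X ⟶ Y)
    (hf : AlgSp.LocP @LocallyOfFiniteType f.hom) (r : AlgSp.FieldPt Y.obj) (Xk : AlgSp.Space S) (fst : Xk ⟶ X)
    (snd : Xk.obj ⟶ (AlgSp.yon S).obj r.pt) (hsq : IsPullback fst.hom snd f.hom r.toHom)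
    (x : AlgSp.Points X.obj) (hx : x ∈ (AlgSp.Points.map f.hom ⁻¹' {AlgSp.Points.mk r})) (xt : AlgSp.Points Xk.obj)
    (hxt : AlgSp.Points.map fst.hom xt = x) :
    ((IsOpen ({xt} : Set (AlgSp.Points Xk.obj)) ↔
      IsClosed ({xt} : Set (AlgSp.Points Xk.obj)) ∧ ∀ x' : AlgSp.Points Xk.obj, x' ⤳ xt → x' = xt) ∧
    (IsOpen ({xt} : Set (AlgSp.Points Xk.obj)) ↔ AlgSp.HasAt (fun U u => FlatMor.localDim ↥U u = 0) Xk.obj xt) ∧
    (AlgSp.HasAt (fun U u => FlatMor.localDim ↥U u = 0) Xk.obj xt ↔ AlgSp.HasAtMor (fun U _ h u => ∃ W : U.Opens, u ∈ W ∧ LocallyQuasiFinite (W.ι ≫ h) ∧ LocallyOfFiniteType (W.ι ≫ h)) f.hom x) ∧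
    (AlgSp.IsDecent Xk.obj →
      (FlatMor.localDim (AlgSp.Points Xk.obj) xt = 0 ↔ IsOpen ({xt} : Set (AlgSp.Points Xk.obj)))) ∧
    (AlgSp.IsDecent Y.obj →
      (IsOpen ({(⟨x, hx⟩ : ↥(AlgSp.Points.map f.hom ⁻¹' {AlgSp.Points.mk r}))} : Set ↥(AlgSp.Points.map f.hom ⁻¹' {AlgSp.Points.mk r})) ↔ IsOpen ({xt} : Set (AlgSp.Points Xk.obj))) ∧
      ((IsClosed ({(⟨x, hx⟩ : ↥(AlgSp.Points.map f.hom ⁻¹' {AlgSp.Points.mk r}))} : Set ↥(AlgSp.Points.map f.hom ⁻¹' {AlgSp.Points.mk r})) ∧ ∀ x' : ↥(AlgSp.Points.map f.hom ⁻¹' {AlgSp.Points.mk r}), x' ⤳ (⟨x, hx⟩ : ↥(AlgSp.Points.map f.hom ⁻¹' {AlgSp.Points.mk r})) → x' = (⟨x, hx⟩ : ↥(AlgSp.Points.map f.hom ⁻¹' {AlgSp.Points.mk r}))) ↔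
        IsClosed ({xt} : Set (AlgSp.Points Xk.obj)) ∧ ∀ x' : AlgSp.Points Xk.obj, x' ⤳ xt → x' = xt)) ∧
    (AlgSp.IsDecent Y.obj → AlgSp.IsDecent X.obj →
      (FlatMor.localDim ↥(AlgSp.Points.map f.hom ⁻¹' {AlgSp.Points.mk r}) (⟨x, hx⟩ : ↥(AlgSp.Points.map f.hom ⁻¹' {AlgSp.Points.mk r})) = 0 ↔ IsOpen ({(⟨x, hx⟩ : ↥(AlgSp.Points.map f.hom ⁻¹' {AlgSp.Points.mk r}))} : Set ↥(AlgSp.Points.map f.hom ⁻¹' {AlgSp.Points.mk r}))))) := by
  subst hxt
  have hXk : IsAlgSpace Xk.obj := Xk.property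
  have hsl : LocP @LocallyOfFiniteType snd :=
    locP_baseChange etLocal_locallyOfFiniteType X.property Y.property (IsAlgSpace.yon_obj _)
      f.hom r.toHom fst.hom snd hsq hf
  have hA := isOpen_iff_closed_nogen hXk snd hsl xt
  have hB := hasAt_localDim_zero_iff snd hsl hXk xt
  refine ⟨hA, hB, ⟨fun h => hasAtMor_of_isOpen_singleton X.property Y.property f.hom hf r fst.hom
      snd hsq xt (hB.mpr h), fun h => hB.mp (isOpen_singleton_of_hasAtMor Y.property f.hom r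
      fst.hom snd hsq xt h)⟩,
    fun hd => localDim_points_eq_zero_iff snd hsl hXk hd xt, ?_, ?_⟩
  · intro hdY
    obtain ⟨r₀, c, γ, e, sqγ, he, hγ1⟩ :=
      exists_mono_fibre X.property Y.property f.hom r fst.hom snd hsq hdY
    have sq₀ := IsPullback.of_hasPullback f.hom r₀.toHom
    have hX₀ : IsAlgSpace (pullback f.hom r₀.toHom) :=
      isAlgSpace_of_isPullback Y.property.diag X.property (IsAlgSpace.yon_obj _) sq₀
    have hs₀ : LocP @LocallyOfFiniteType (pullback.snd f.hom r₀.toHom) :=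
      locP_baseChange etLocal_locallyOfFiniteType X.property Y.property (IsAlgSpace.yon_obj _)
        f.hom r₀.toHom _ _ sq₀ hf
    have hex : e (Points.map γ xt) = ⟨Points.map fst.hom xt, hx⟩ :=
      Subtype.ext (by rw [he, ← Points.map_comp, hγ1])
    have hopen₀ : IsOpen ({Points.map γ xt} : Set (Points (pullback f.hom r₀.toHom))) ↔
        IsOpen ({xt} : Set (Points Xk.obj)) :=
      ⟨fun h => isOpen_singleton_bc hX₀ _ hs₀ c sqγ _ h xt rfl, fun h => by
        have := (isOpenMap_surjective_bc c sqγ).1 _ h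
        rwa [Set.image_singleton] at this⟩
    have hF : IsOpen ({e (Points.map γ xt)} : Set ↥(Points.map f.hom ⁻¹' {Points.mk r})) ↔
        IsOpen ({Points.map γ xt} : Set (Points (pullback f.hom r₀.toHom))) :=
      isOpen_singleton_homeo e _
    rw [← hex]
    refine ⟨hF.trans hopen₀, ?_⟩
    exact (homeo_closed_nogen_iff e (Points.map γ xt)).symm.trans
      ((isOpen_iff_closed_nogen hX₀ _ hs₀ _).symm.trans (hopen₀.trans hA))
  · intro hdY hdX
    obtain ⟨r₀, c, γ, e, sqγ, he, hγ1⟩ :=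
      exists_mono_fibre X.property Y.property f.hom r fst.hom snd hsq hdY
    have sq₀ := IsPullback.of_hasPullback f.hom r₀.toHom
    have hX₀ : IsAlgSpace (pullback f.hom r₀.toHom) :=
      isAlgSpace_of_isPullback Y.property.diag X.property (IsAlgSpace.yon_obj _) sq₀
    have hs₀ : LocP @LocallyOfFiniteType (pullback.snd f.hom r₀.toHom) :=
      locP_baseChange etLocal_locallyOfFiniteType X.property Y.property (IsAlgSpace.yon_obj _)
        f.hom r₀.toHom _ _ sq₀ hf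
    have hd₀ : IsDecent (pullback f.hom r₀.toHom) :=
      Groth.Agent.Lib.AlgSpDecent4_helper6.isDecent_of_isPullback Y.property.diag sq₀ hdX
        (Groth.Agent.Lib.AlgSpDecent5_helper6.isDecent_yon r₀.pt)
    have hex : e (Points.map γ xt) = ⟨Points.map fst.hom xt, hx⟩ :=
      Subtype.ext (by rw [he, ← Points.map_comp, hγ1])
    rw [← hex, Groth.Agent.FibLocH8.localDim_homeomorph e (Points.map γ xt),
      isOpen_singleton_homeo e]
    exact localDim_points_eq_zero_iff _ hs₀ hX₀ hd₀ _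

end Groth.Agent.Lib.LftFieldPts3H7
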