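import Mathlib
import Groth.Agent.Lib.Liaison_helper9

/-!
# Lengths of annihilators in zero-dimensional Gorenstein local rings (helper9)

In a zero-dimensional Gorenstein local ring `A`, `K ↦ ann K` is an order anti-automorphism of the
lattice of ideals; hence `ℓ(A/ann K) = ℓ(K)` and `ℓ(A/ann K) + ℓ(A/K) = ℓ(A)`.
APPEND-ONLY once landed.
-/

set_option autoImplicit false
set_option maxHeartbeats 400000
set_option linter.style.haveILetI false
universe u

namespace Groth.Agent.LiaisonDeg9

open IsLocalRing

section Ann

variable (A : Type u) [CommRing A]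

/-- the annihilator of an ideal, as a colon ideal -/
def annI (K : Ideal A) : Ideal A := (⊥ : Ideal A).colon (K : Set A)

variable {A}

theorem mem_annI {K : Ideal A} {a : A} : a ∈ annI A K ↔ ∀ x ∈ K, a * x = 0 := by
  unfold annI
  rw [Submodule.mem_colon]
  simp only [SetLike.mem_coe, smul_eq_mul, Submodule.mem_bot]

theorem annI_antitone {K K' : Ideal A} (h : K ≤ K') : annI A K' ≤ annI A K := by
  intro a ha
  rw [mem_annI] at ha ⊢
  exact fun x hx => ha x (h hx)

theorem le_annI_annI (K : Ideal A) : K ≤ annI A (annI A K) := by
  intro x hx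
  rw [mem_annI]
  intro a ha
  rw [mem_annI] at ha
  rw [mul_comm]
  exact ha x hx

end Ann

section Gor

variable (A : Type u) [CommRing A] [IsLocalRing A] [IsNoetherianRing A]

theorem annI_annI (h0 : ringKrullDim A = 0) (hG : LocCoh.IsGorensteinLocalRing A) (K : Ideal A) :
    annI A (annI A K) = K := by
  apply le_antisymm _ (le_annI_annI K)
  intro x hx
  apply Groth.Agent.Liaison9.mem_of_double_ann A h0 hG K x
  intro a ha
  rw [mem_annI] at hx
  rw [mul_comm]
  apply hx
  rw [mem_annI]
  exact ha

/-- the annihilator as an order anti-automorphism -/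
noncomputable def annIso (h0 : ringKrullDim A = 0) (hG : LocCoh.IsGorensteinLocalRing A) :
    Ideal A ≃o (Ideal A)ᵒᵈ where
  toFun K := OrderDual.toDual (annI A K)
  invFun L := annI A (OrderDual.ofDual L)
  left_inv K := annI_annI A h0 hG K
  right_inv L := by
    change OrderDual.toDual (annI A (annI A (OrderDual.ofDual L))) = L
    rw [annI_annI A h0 hG]
    rfl
  map_rel_iff' := by
    intro K K'
    change annI A K' ≤ annI A K ↔ K ≤ K'
    constructor
    · intro h
      have := annI_antitone h
      rwa [annI_annI A h0 hG, annI_annI A h0 hG] at this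
    · exact annI_antitone

theorem coheight_annI (h0 : ringKrullDim A = 0) (hG : LocCoh.IsGorensteinLocalRing A)
    (K : Ideal A) : Order.coheight (annI A K) = Order.height K := by
  have h := Order.height_orderIso (annIso A h0 hG) K
  rw [← h]
  rfl

/-- **length duality** -/
theorem length_quot_annI_add (h0 : ringKrullDim A = 0) (hG : LocCoh.IsGorensteinLocalRing A)
    (K : Ideal A) :
    Module.length A (A ⧸ annI A K) + Module.length A (A ⧸ K) = Module.length A A := by
  rw [Module.length_quotient, coheight_annI A h0 hG K, ← Module.length_submodule]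
  exact (Module.length_eq_add_of_exact K.subtype K.mkQ K.injective_subtype
    K.mkQ_surjective (LinearMap.exact_subtype_mkQ K)).symm

end Gor

end Groth.Agent.LiaisonDeg9
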