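import Mathlib
import Groth.Agent.Lib.LiaisonDeg1_helper9
import Groth.Agent.Lib.HilbDeg1_helper9

/-!
# Multiplicities of linked ideals at the minimal primes of a Gorenstein ideal (helper9)

For `P` minimal over `𝔠` with `R/𝔠` Gorenstein and `𝔠 ≤ I`:
`ℓ((R/(𝔠 : I))_P) + ℓ((R/I)_P) = ℓ((R/𝔠)_P)`.
APPEND-ONLY once landed.
-/

set_option autoImplicit false
set_option maxHeartbeats 400000
set_option linter.style.haveILetI false
universe u

namespace Groth.Agent.LiaisonDeg9

open IsLocalRing Groth.Agent.HilbDeg9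

section Transfer

variable (R : Type u) [CommRing R] [IsNoetherianRing R] (P : Ideal R) [hPp : P.IsPrime]

/-- the length of `(R/𝔞)_P` over `R_P` as the length of `R_P/𝔞R_P` -/
theorem lenAt_eq_length_quot (𝔞 : Ideal R) :
    lenAt P 𝔞 = Module.length (Localization.AtPrime P)
      (Localization.AtPrime P ⧸ 𝔞.map (algebraMap R (Localization.AtPrime P))) := by
  set S := Localization.AtPrime P with hS
  let e₀ : (S ⧸ 𝔞.localized' S P.primeCompl (Algebra.linearMap R S)) ≃ₗ[R]
      LocalizedModule P.primeCompl (R ⧸ 𝔞) :=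
    IsLocalizedModule.linearEquiv P.primeCompl
      (𝔞.toLocalizedQuotient' S P.primeCompl (Algebra.linearMap R S))
      (LocalizedModule.mkLinearMap P.primeCompl (R ⧸ 𝔞))
  let e₁ : (S ⧸ 𝔞.localized' S P.primeCompl (Algebra.linearMap R S)) ≃ₗ[S]
      LocalizedModule P.primeCompl (R ⧸ 𝔞) :=
    LinearEquiv.extendScalarsOfIsLocalization P.primeCompl S e₀
  have h𝔞' : 𝔞.localized' S P.primeCompl (Algebra.linearMap R S) = 𝔞.map (algebraMap R S) :=
    Ideal.localized'_eq_map S P.primeCompl 𝔞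
  let e₂ : (S ⧸ 𝔞.map (algebraMap R S)) ≃ₗ[S] LocalizedModule P.primeCompl (R ⧸ 𝔞) :=
    (Submodule.quotEquivOfEq _ _ h𝔞'.symm).trans e₁
  unfold lenAt
  exact e₂.length_eq.symm

/-- passing to the quotient by `𝔠R_P` -/
theorem lenAt_eq_length_quot_quot (𝔠 𝔞 : Ideal R) (h : 𝔠 ≤ 𝔞) :
    lenAt P 𝔞 = Module.length
      (Localization.AtPrime P ⧸ 𝔠.map (algebraMap R (Localization.AtPrime P)))
      ((Localization.AtPrime P ⧸ 𝔠.map (algebraMap R (Localization.AtPrime P))) ⧸
        (𝔞.map (algebraMap R (Localization.AtPrime P))).map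
          (Ideal.Quotient.mk (𝔠.map (algebraMap R (Localization.AtPrime P))))) := by
  set S := Localization.AtPrime P with hS
  set 𝔠S := 𝔠.map (algebraMap R S) with h𝔠S
  set 𝔞S := 𝔞.map (algebraMap R S) with h𝔞S
  have hle : 𝔠S ≤ 𝔞S := Ideal.map_mono h
  rw [lenAt_eq_length_quot R P 𝔞]
  have e := (DoubleQuot.quotQuotEquivQuotOfLEₐ S hle).toLinearEquiv
  rw [← e.length_eq]
  refine @Module.length_eq_of_surjective (S ⧸ 𝔠S) _ _ _ _ S _ _ _ ?_ Ideal.Quotient.mk_surjective
  refine ⟨fun x a m => ?_⟩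
  obtain ⟨b, rfl⟩ := Submodule.Quotient.mk_surjective _ m
  change Submodule.Quotient.mk ((x • a) • b) = Submodule.Quotient.mk (x • (a • b))
  rw [smul_assoc]

end Transfer

end Groth.Agent.LiaisonDeg9

namespace Groth.Agent.LiaisonDeg9

open IsLocalRing Groth.Agent.HilbDeg9

section Linked

variable (R : Type u) [CommRing R] [IsNoetherianRing R] (P : Ideal R) [hPp : P.IsPrime]

/-- the annihilator of the image of `I` in `R_P/𝔠R_P` is the image of `𝔠 : I` -/
theorem annI_image (𝔠 I : Ideal R) :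
    annI (Localization.AtPrime P ⧸ 𝔠.map (algebraMap R (Localization.AtPrime P)))
      ((I.map (algebraMap R (Localization.AtPrime P))).map
        (Ideal.Quotient.mk (𝔠.map (algebraMap R (Localization.AtPrime P))))) =
    ((𝔠.colon (I : Set R)).map (algebraMap R (Localization.AtPrime P))).map
        (Ideal.Quotient.mk (𝔠.map (algebraMap R (Localization.AtPrime P)))) := by
  set S := Localization.AtPrime P with hS
  set 𝔠S := 𝔠.map (algebraMap R S) with h𝔠S
  set J := 𝔠.colon (I : Set R) with hJ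
  set π := Ideal.Quotient.mk 𝔠S with hπ
  apply le_antisymm
  · intro a ha
    rw [mem_annI] at ha
    obtain ⟨s, rfl⟩ := Ideal.Quotient.mk_surjective a
    obtain ⟨r, u, rfl⟩ := IsLocalization.exists_mk'_eq P.primeCompl s
    have h1 : ∀ j ∈ I, algebraMap R S (r * j) ∈ 𝔠S := by
      intro j hj
      have h2 := ha (π (algebraMap R S j))
        (Ideal.mem_map_of_mem _ (Ideal.mem_map_of_mem _ hj))
      rw [← map_mul, Ideal.Quotient.eq_zero_iff_mem] at h2
      have h3 : algebraMap R S (r * j) =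
          algebraMap R S u * (IsLocalization.mk' S r u * algebraMap R S j) := by
        rw [← mul_assoc, IsLocalization.mk'_spec', map_mul]
      rw [h3]
      exact 𝔠S.mul_mem_left _ h2
    obtain ⟨v, hv, hvr⟩ := Groth.Agent.Liaison9.exists_mul_mem_colon P.primeCompl S 𝔠 I r h1
    apply Ideal.mem_map_of_mem
    have h4 : IsLocalization.mk' S r u =
        IsLocalization.mk' S 1 (⟨v, hv⟩ * u) * algebraMap R S (v * r) := by
      rw [IsLocalization.mk'_eq_iff_eq_mul]
      have h5 := IsLocalization.mk'_spec S (1 : R) (⟨v, hv⟩ * u : P.primeCompl)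
      simp only [map_mul, Submonoid.coe_mul, map_one] at h5 ⊢
      linear_combination (-(algebraMap R S r)) * h5
    rw [h4]
    exact Ideal.mul_mem_left _ _ (Ideal.mem_map_of_mem _ hvr)
  · intro a ha
    rw [mem_annI]
    intro x hx
    have h1 : a * x ∈ ((J.map (algebraMap R S)).map π) * ((I.map (algebraMap R S)).map π) :=
      Ideal.mul_mem_mul ha hx
    rw [← Ideal.map_mul, ← Ideal.map_mul] at h1
    have h2 : J * I ≤ 𝔠 := by
      rw [Ideal.mul_le]
      intro j hj i hi
      rw [hJ, Submodule.mem_colon] at hj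
      exact hj i hi
    have h3 : ((J * I).map (algebraMap R S)).map π ≤ ⊥ := by
      refine le_trans (Ideal.map_mono (Ideal.map_mono h2)) ?_
      rw [hπ, Ideal.map_quotient_self]
    exact (Submodule.mem_bot _).1 (h3 h1)

/-- **the multiplicities of linked ideals add up** -/
theorem lenAt_linked (𝔠 I : Ideal R) [hG : LocCoh.IsGorensteinRing (R ⧸ 𝔠)]
    (hP : P ∈ 𝔠.minimalPrimes) (h𝔠I : 𝔠 ≤ I) :
    lenAt P (𝔠.colon (I : Set R)) + lenAt P I = lenAt P 𝔠 := by
  set S := Localization.AtPrime P with hS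
  set 𝔠S := 𝔠.map (algebraMap R S) with h𝔠S
  obtain ⟨hGA, h0⟩ := Groth.Agent.Liaison9.gor_quot_localization R 𝔠 P hP
  haveI : IsLocalRing (S ⧸ 𝔠S) := hGA.toIsLocalRing
  haveI : IsNoetherianRing (S ⧸ 𝔠S) := hGA.toIsNoetherian
  have h𝔠J : 𝔠 ≤ 𝔠.colon (I : Set R) := by
    intro a ha
    rw [Submodule.mem_colon]
    intro i _
    exact 𝔠.mul_mem_right _ ha
  rw [lenAt_eq_length_quot_quot R P 𝔠 _ h𝔠J, lenAt_eq_length_quot_quot R P 𝔠 I h𝔠I,
    lenAt_eq_length_quot_quot R P 𝔠 𝔠 le_rfl, ← annI_image R P 𝔠 I]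
  rw [length_quot_annI_add (S ⧸ 𝔠S) h0 hGA]
  have hbot : (𝔠.map (algebraMap R S)).map (Ideal.Quotient.mk 𝔠S) = ⊥ := by
    rw [← h𝔠S, Ideal.map_quotient_self]
  rw [hbot]
  exact (Submodule.quotEquivOfEqBot (⊥ : Ideal (S ⧸ 𝔠S)) rfl).length_eq.symm

end Linked

end Groth.Agent.LiaisonDeg9
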