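import Mathlib
import Groth.Agent.Lib.LiaisonDeg2_helper9
import Groth.Agent.Lib.HilbDeg4_helper9
import Groth.Agent.Lib.DimFT3_helper8
import Groth.Agent.Lib.GrHB2_helper1

/-!
# The degree of a linked ideal (helper9)

`deg (𝔠 : I) = deg 𝔠 - deg I` for homogeneous ideals `𝔠 ≤ I` of the same height in a polynomial
ring, `R/𝔠` Gorenstein.
APPEND-ONLY once landed.
-/

set_option autoImplicit false
set_option maxHeartbeats 400000
set_option linter.style.haveILetI false
universe u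

namespace Groth.Agent.LiaisonDeg9

open Groth.Agent.HilbSection Groth.Agent.ProjDeg9 Groth.Agent.HilbDim9 Groth.Agent.HilbDeg9

attribute [local instance] MvPolynomial.gradedAlgebra

section Conv

variable (k : Type u) [Field k] (N : ℕ)

local notation "SS" => MvPolynomial (Fin N) k

/-- the pieces of the two gradings agree -/
theorem stdGr_natCast (j : ℕ) :
    GrSyz.stdGr k (Fin N) (j : ℤ) = MvPolynomial.homogeneousSubmodule (Fin N) k j := by
  ext x
  rw [MvPolynomial.mem_homogeneousSubmodule]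
  exact ⟨fun h => Groth.Agent.Lib.GrHBH1.isHomogeneous_of_mem_stdGr k (Fin N) h,
    fun h => Groth.Agent.Lib.GrHB2H1.mem_stdGr_of_isHomogeneous k (Fin N) h⟩

/-- homogeneity for the two gradings -/
theorem isHomogeneous_of_stdGr (I : Ideal (MvPolynomial (Fin N) k))
    (hI : I.IsHomogeneous (GrSyz.stdGr k (Fin N))) :
    I.IsHomogeneous (MvPolynomial.homogeneousSubmodule (Fin N) k) := by
  intro i x hx
  have h1 : ((DirectSum.decompose (MvPolynomial.homogeneousSubmodule (Fin N) k) x i :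
      MvPolynomial.homogeneousSubmodule (Fin N) k i) : SS) =
      MvPolynomial.homogeneousComponent i x := MvPolynomial.decomposition.decompose'_apply x i
  rw [h1, Groth.Agent.Lib.GrHB2H1.hc_eq_decompose k (Fin N) x i]
  exact hI (i : ℤ) hx

/-- the Hilbert function as the dimension of the image of the forms of degree `j` -/
theorem finrank_map_mk (𝔞 : Ideal (MvPolynomial (Fin N) k)) (j : ℕ) :
    Module.finrank k ↥(Submodule.map (Ideal.Quotient.mkₐ k 𝔞).toLinearMap
      (GrSyz.stdGr k (Fin N) (j : ℤ))) = hf k N 𝔞 j := by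
  rw [stdGr_natCast]
  set V := MvPolynomial.homogeneousSubmodule (Fin N) k j with hV
  set f := (Ideal.Quotient.mkₐ k 𝔞).toLinearMap with hf
  set f' := f.domRestrict V with hf'
  have hrange : LinearMap.range f' = V.map f := LinearMap.range_domRestrict _ _
  have h1 := LinearMap.finrank_range_add_finrank_ker f'
  have hker : LinearMap.ker f' = Submodule.comap V.subtype (piece k N 𝔞 j) := by
    ext ⟨x, hx⟩
    rw [LinearMap.mem_ker, Submodule.mem_comap, Submodule.subtype_apply, mem_piece]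
    simp only [hf', hf, LinearMap.domRestrict_apply, AlgHom.toLinearMap_apply,
      Ideal.Quotient.mkₐ_eq_mk, Ideal.Quotient.eq_zero_iff_mem]
    exact ⟨fun h => ⟨h, (MvPolynomial.mem_homogeneousSubmodule _ _).1 hx⟩, fun h => h.1⟩
  have h2 : Module.finrank k ↥(LinearMap.ker f') = Module.finrank k ↥(piece k N 𝔞 j) := by
    have h4 : V ⊓ piece k N 𝔞 j = piece k N 𝔞 j := inf_eq_right.2 inf_le_right
    rw [hker, (Submodule.equivSubtypeMap V (Submodule.comap V.subtype (piece k N 𝔞 j))).finrank_eq,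
      Submodule.map_comap_subtype, h4]
  rw [hrange, h2] at h1
  have h3 := hf_add k N 𝔞 j
  rw [← hV] at h3
  omega

end Conv

end Groth.Agent.LiaisonDeg9

namespace Groth.Agent.LiaisonDeg9

open Groth.Agent.HilbSection Groth.Agent.ProjDeg9 Groth.Agent.HilbDim9 Groth.Agent.HilbDeg9

attribute [local instance] MvPolynomial.gradedAlgebra

section Main

variable (k : Type u) [Field k] (N : ℕ)

local notation "SS" => MvPolynomial (Fin N) k

/-- `height q + dim S/q = N` for the primes of a polynomial ring -/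
theorem height_add_dim_prime (q : Ideal (MvPolynomial (Fin N) k)) [q.IsPrime] :
    ∃ r : ℕ, ringKrullDim (MvPolynomial (Fin N) k ⧸ q) = (r : WithBot ℕ∞) ∧
      q.height + (r : ℕ∞) = (N : ℕ∞) := by
  obtain ⟨n', -, hn', hdimS, -⟩ := Groth.Agent.DimFTH8.exists_dim_eq k SS
  have hdimS' : ringKrullDim SS = (N : WithBot ℕ∞) := by
    rw [MvPolynomial.ringKrullDim_of_isNoetherianRing, ringKrullDim_eq_zero_of_field]
    simp
  have hnN : n' = N := by
    rw [hdimS] at hdimS'
    exact_mod_cast hdimS'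
  obtain ⟨r, hr, hsum⟩ := Groth.Agent.DimFT3H8.height_add_trdeg_quotient N k SS
    (by rw [hn', hnN]) q
  haveI : Algebra.FiniteType k (SS ⧸ q) :=
    Algebra.FiniteType.of_surjective (Ideal.Quotient.mkₐ k q) (Ideal.Quotient.mkₐ_surjective k q)
  obtain ⟨r', -, hr', hdimq, -⟩ := Groth.Agent.DimFTH8.exists_dim_eq k (SS ⧸ q)
  have hrr : r' = r := by
    have : ((r' : ℕ) : Cardinal) = ((r : ℕ) : Cardinal) := by rw [← hr', hr]
    exact_mod_cast this
  refine ⟨r, by rw [hdimq, hrr], ?_⟩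
  exact hsum

/-- colon ideals of homogeneous ideals are homogeneous -/
theorem colon_isHomogeneous' (𝔠 I : Ideal (MvPolynomial (Fin N) k))
    (h𝔠 : 𝔠.IsHomogeneous (MvPolynomial.homogeneousSubmodule (Fin N) k))
    (hI : I.IsHomogeneous (MvPolynomial.homogeneousSubmodule (Fin N) k)) :
    (𝔠.colon (I : Set (MvPolynomial (Fin N) k))).IsHomogeneous
      (MvPolynomial.homogeneousSubmodule (Fin N) k) := by
  intro i x hx
  rw [Submodule.mem_colon]
  intro y hy
  rw [← MvPolynomial.sum_homogeneousComponent y, Finset.smul_sum]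
  apply Ideal.sum_mem
  intro j _
  have hyj : MvPolynomial.homogeneousComponent j y ∈ I :=
    MvPolynomial.homogeneousComponent_mem_of_mem hI hy j
  have hx' : x ∈ 𝔠.colon ({MvPolynomial.homogeneousComponent j y} : Set SS) := by
    rw [Submodule.mem_colon_singleton]
    rw [Submodule.mem_colon] at hx
    exact hx _ hyj
  have h1 := colon_isHomogeneous k N 𝔠 h𝔠 (MvPolynomial.homogeneousComponent j y) j
    (MvPolynomial.homogeneousComponent_isHomogeneous j y) i hx'
  rw [Submodule.mem_colon_singleton] at h1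
  exact h1

/-- a polynomial agreeing eventually with a function of lower order growth has no term of degree
`t` -/
theorem coeff_eq_zero_of_bddZ (R : Polynomial ℚ) (t : ℕ) (u : ℕ → ℤ) (hu : BddZ t u) (M : ℕ)
    (hReval : ∀ m : ℕ, M ≤ m → R.eval (m : ℚ) = ((u m : ℤ) : ℚ)) : R.coeff t = 0 := by
  obtain ⟨C, m₀, hC⟩ := hu
  rcases Nat.eq_zero_or_pos t with h0 | hpos
  · have hR0 : R = 0 := by
      apply eq_zero_of_eventually (max M (max m₀ (C + 1)))
      intro m hm
      have hm1 : M ≤ m := le_trans (le_max_left _ _) hm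
      have hm2 : m₀ ≤ m := le_trans (le_trans (le_max_left _ _) (le_max_right _ _)) hm
      have hm3 : C + 1 ≤ m := le_trans (le_trans (le_max_right _ _) (le_max_right _ _)) hm
      have h1 : (u m).natAbs * m ≤ C * m ^ t := hC m hm2
      rw [h0, pow_zero, mul_one] at h1
      rw [hReval m hm1]
      have h2 : (u m).natAbs = 0 := by
        by_contra hne
        have h3 : 1 ≤ (u m).natAbs := Nat.one_le_iff_ne_zero.2 hne
        have h4 : m ≤ (u m).natAbs * m := Nat.le_mul_of_pos_left _ h3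
        omega
      rw [Int.natAbs_eq_zero.1 h2]
      simp
    rw [hR0]
    simp
  · obtain ⟨s, hs⟩ : ∃ s, t = s + 1 := ⟨t - 1, by omega⟩
    have hle : R.natDegree ≤ s := by
      apply natDegree_le_of_abs_growth R s (C : ℚ) (max M (max m₀ 1))
      intro m hm
      have hm1 : M ≤ m := le_trans (le_max_left _ _) hm
      have hm2 : m₀ ≤ m := le_trans (le_trans (le_max_left _ _) (le_max_right _ _)) hm
      have hm3 : 1 ≤ m := le_trans (le_trans (le_max_right _ _) (le_max_right _ _)) hm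
      have h1 : (u m).natAbs * m ≤ C * m ^ t := hC m hm2
      rw [hs, pow_succ, ← mul_assoc] at h1
      have h2 : (u m).natAbs ≤ C * m ^ s := Nat.le_of_mul_le_mul_right h1 (by omega)
      rw [hReval m hm1, ← Int.cast_abs, ← Nat.cast_natAbs]
      exact_mod_cast h2
    exact Polynomial.coeff_eq_zero_of_natDegree_lt (by omega)

end Main

end Groth.Agent.LiaisonDeg9

namespace Groth.Agent.LiaisonDeg9

open Groth.Agent.HilbSection Groth.Agent.ProjDeg9 Groth.Agent.HilbDim9 Groth.Agent.HilbDeg9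

attribute [local instance] MvPolynomial.gradedAlgebra

section Liaison

variable (k : Type u) [Field k] (N : ℕ)

local notation "SS" => MvPolynomial (Fin N) k

/-- **S18873**, in terms of Hilbert functions -/
theorem liaison_degree (c : ℕ) (hcN : c ≤ N) (𝔠 I : Ideal (MvPolynomial (Fin N) k))
    (h𝔠 : 𝔠.IsHomogeneous (MvPolynomial.homogeneousSubmodule (Fin N) k))
    (hI : I.IsHomogeneous (MvPolynomial.homogeneousSubmodule (Fin N) k))
    [hG : LocCoh.IsGorensteinRing (MvPolynomial (Fin N) k ⧸ 𝔠)] (h𝔠c : 𝔠.height = c)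
    (h𝔠I : 𝔠 ≤ I) (t : ℕ) (ht : t + 1 = N - c) (p𝔠 pI pJ : Polynomial ℚ)
    (hp𝔠 : ∃ j₀ : ℕ, ∀ j : ℕ, j₀ ≤ j → (hf k N 𝔠 j : ℚ) = p𝔠.eval (j : ℚ))
    (hpI : ∃ j₀ : ℕ, ∀ j : ℕ, j₀ ≤ j → (hf k N I j : ℚ) = pI.eval (j : ℚ))
    (hpJ : ∃ j₀ : ℕ, ∀ j : ℕ, j₀ ≤ j →
      (hf k N (𝔠.colon (I : Set (MvPolynomial (Fin N) k))) j : ℚ) = pJ.eval (j : ℚ)) :
    pJ.coeff t = p𝔠.coeff t - pI.coeff t := by
  classical
  set J := 𝔠.colon (I : Set SS) with hJ
  have hJh : J.IsHomogeneous (MvPolynomial.homogeneousSubmodule (Fin N) k) :=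
    colon_isHomogeneous' k N 𝔠 I h𝔠 hI
  have h𝔠J : 𝔠 ≤ J := by
    intro a ha
    rw [hJ, Submodule.mem_colon]
    intro i _
    exact 𝔠.mul_mem_right _ ha
  -- the dimension of `S/𝔠`
  have hdim𝔠 : ringKrullDim (SS ⧸ 𝔠) ≤ ((t + 1 : ℕ) : WithBot ℕ∞) := by
    apply Groth.Agent.Link9.ringKrullDim_quot_le_of_forall_prime
    intro q hq h𝔠q
    obtain ⟨r, hr, hsum⟩ := height_add_dim_prime k N q
    have h1 : 𝔠.height ≤ q.height := Ideal.height_mono h𝔠q
    rw [h𝔠c] at h1
    have h2 : (c : ℕ∞) + (r : ℕ∞) ≤ (N : ℕ∞) := by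
      rw [← hsum]
      gcongr
    have h3 : c + r ≤ N := by exact_mod_cast h2
    rw [hr]
    have h4 : r ≤ t + 1 := by omega
    exact_mod_cast h4
  have hdimI : ringKrullDim (SS ⧸ I) ≤ ((t + 1 : ℕ) : WithBot ℕ∞) :=
    le_trans (ringKrullDim_le_of_surjective (Ideal.Quotient.factor h𝔠I)
      (Ideal.Quotient.factor_surjective h𝔠I)) hdim𝔠
  have hdimJ : ringKrullDim (SS ⧸ J) ≤ ((t + 1 : ℕ) : WithBot ℕ∞) :=
    le_trans (ringKrullDim_le_of_surjective (Ideal.Quotient.factor h𝔠J)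
      (Ideal.Quotient.factor_surjective h𝔠J)) hdim𝔠
  -- the top-dimensional minimal primes of `𝔠`
  set F : Finset (Ideal SS) :=
    (Ideal.finite_minimalPrimes_of_isNoetherianRing SS 𝔠).toFinset.filter
      (fun p => ringKrullDim (SS ⧸ p) = ((t + 1 : ℕ) : WithBot ℕ∞)) with hF
  have hFmem : ∀ p ∈ F, p ∈ 𝔠.minimalPrimes ∧
      ringKrullDim (SS ⧸ p) = ((t + 1 : ℕ) : WithBot ℕ∞) := by
    intro p hp
    rw [hF, Finset.mem_filter, Set.Finite.mem_toFinset] at hp
    exact hp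
  have hFp : ∀ p ∈ F, p.IsPrime := fun p hp => (hFmem p hp).1.1.1
  have hFh : ∀ p ∈ F, p.IsHomogeneous (MvPolynomial.homogeneousSubmodule (Fin N) k) :=
    fun p hp => Groth.Agent.Link9.isHomogeneous_of_mem_minimalPrimes 𝔠 h𝔠 p (hFmem p hp).1
  have hFd : ∀ p ∈ F, ringKrullDim (SS ⧸ p) = ((t + 1 : ℕ) : WithBot ℕ∞) :=
    fun p hp => (hFmem p hp).2
  have hcov : ∀ q : Ideal SS, q.IsPrime → 𝔠 ≤ q →
      ringKrullDim (SS ⧸ q) = ((t + 1 : ℕ) : WithBot ℕ∞) → q ∈ F := by
    intro q hq h𝔠q hdq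
    have hmin : q ∈ 𝔠.minimalPrimes := by
      refine ⟨⟨hq, h𝔠q⟩, ?_⟩
      rintro q' ⟨hq', h𝔠q'⟩ hle
      haveI := hq
      haveI := hq'
      have h1 : ringKrullDim (SS ⧸ q) ≤ ringKrullDim (SS ⧸ q') :=
        ringKrullDim_le_of_surjective (Ideal.Quotient.factor hle)
          (Ideal.Quotient.factor_surjective hle)
      have h2 : ringKrullDim (SS ⧸ q') ≤ ringKrullDim (SS ⧸ 𝔠) :=
        ringKrullDim_le_of_surjective (Ideal.Quotient.factor h𝔠q')
          (Ideal.Quotient.factor_surjective h𝔠q')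
      have h3 : ringKrullDim (SS ⧸ q') = ringKrullDim (SS ⧸ q) :=
        le_antisymm (by rw [hdq]; exact le_trans h2 hdim𝔠) h1
      have h4 := Groth.Agent.DepthLib.eq_of_le_of_ringKrullDim_quotient_eq q' q hle h3
        (by rw [hdq]; exact WithBot.coe_lt_coe.2 (ENat.coe_lt_top _))
      rw [h4]
    rw [hF, Finset.mem_filter, Set.Finite.mem_toFinset]
    exact ⟨hmin, hdq⟩
  obtain ⟨f𝔠, b𝔠⟩ := key k N t F hFp hFh hFd 𝔠 h𝔠 hdim𝔠 hcov
  obtain ⟨fI, bI⟩ := key k N t F hFp hFh hFd I hI hdimI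
    (fun q hq hle hdq => hcov q hq (le_trans h𝔠I hle) hdq)
  obtain ⟨fJ, bJ⟩ := key k N t F hFp hFh hFd J hJh hdimJ
    (fun q hq hle hdq => hcov q hq (le_trans h𝔠J hle) hdq)
  -- the multiplicities add up
  have hadd : ∀ p ∈ F, ((lenT p J).toNat : ℤ) + ((lenT p I).toNat : ℤ) =
      ((lenT p 𝔠).toNat : ℤ) := by
    intro p hp
    haveI := hFp p hp
    have h1 : lenT p J + lenT p I = lenT p 𝔠 := by
      rw [lenT_eq, lenT_eq, lenT_eq]
      exact lenAt_linked SS p 𝔠 I (hFmem p hp).1 h𝔠I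
    rw [← h1, ENat.toNat_add (fJ p hp) (fI p hp)]
    push_cast
    rfl
  set u : ℕ → ℤ := fun m => (hf k N J m : ℤ) + (hf k N I m : ℤ) - (hf k N 𝔠 m : ℤ) with hu
  have hB : BddZ t u := by
    refine ((bJ.add bI).sub b𝔠).congr 0 (fun m _ => ?_)
    have hsum : ∑ p ∈ F, ((lenT p 𝔠).toNat : ℤ) * (hf k N p m : ℤ) =
        ∑ p ∈ F, ((lenT p J).toNat : ℤ) * (hf k N p m : ℤ) +
        ∑ p ∈ F, ((lenT p I).toNat : ℤ) * (hf k N p m : ℤ) := by
      rw [← Finset.sum_add_distrib]
      apply Finset.sum_congr rfl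
      intro p hp
      rw [← hadd p hp]
      ring
    rw [hu, hsum]
    ring
  obtain ⟨m₁, h₁⟩ := hp𝔠
  obtain ⟨m₂, h₂⟩ := hpI
  obtain ⟨m₃, h₃⟩ := hpJ
  have hcoeff := coeff_eq_zero_of_bddZ (pJ + pI - p𝔠) t u hB (max m₁ (max m₂ m₃)) (by
    intro m hm
    have hm1 : m₁ ≤ m := le_trans (le_max_left _ _) hm
    have hm2 : m₂ ≤ m := le_trans (le_trans (le_max_left _ _) (le_max_right _ _)) hm
    have hm3 : m₃ ≤ m := le_trans (le_trans (le_max_right _ _) (le_max_right _ _)) hm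
    rw [Polynomial.eval_sub, Polynomial.eval_add, ← h₁ m hm1, ← h₂ m hm2, ← h₃ m hm3, hu]
    push_cast
    ring)
  rw [Polynomial.coeff_sub, Polynomial.coeff_add] at hcoeff
  linarith

end Liaison

end Groth.Agent.LiaisonDeg9
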