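import Mathlib

/-!
# Abstract commutative algebra for the Lie3Mod primality proof (helper4)

* `mem_span2/3/4` : explicit membership in ideals spanned by 2, 3, 4 elements.
* `eq_ker_of_loc` : an ideal `J` equals the kernel of a map to a domain, given a colon
  condition `I : x ≤ J`, `J ⊓ 𝔩 ≤ I` with `x ∈ 𝔩`, and an elimination property.
* `colon1`, `colon2`, `inter2`, `colon3` : the syzygy computations.
-/

namespace Groth.Agent.Lib.Lie3AbsH4

open Ideal

section span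
variable {D : Type*} [CommRing D]

lemma mem_span2 {x p q : D} : x ∈ span ({p, q} : Set D) ↔ ∃ s t, x = s * p + t * q := by
  rw [Ideal.mem_span_pair]
  constructor
  · rintro ⟨s, t, h⟩; exact ⟨s, t, h.symm⟩
  · rintro ⟨s, t, h⟩; exact ⟨s, t, h.symm⟩

lemma mem_span3 {x p q r : D} :
    x ∈ span ({p, q, r} : Set D) ↔ ∃ s t k, x = s * p + t * q + k * r := by
  rw [Ideal.mem_span_insert]
  constructor
  · rintro ⟨s, z, hz, rfl⟩
    obtain ⟨t, k, rfl⟩ := mem_span2.mp hz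
    exact ⟨s, t, k, by ring⟩
  · rintro ⟨s, t, k, rfl⟩
    exact ⟨s, t * q + k * r, mem_span2.mpr ⟨t, k, rfl⟩, by ring⟩

lemma mem_span4 {x p q r m : D} :
    x ∈ span ({p, q, r, m} : Set D) ↔ ∃ s t k l, x = s * p + t * q + k * r + l * m := by
  rw [Ideal.mem_span_insert]
  constructor
  · rintro ⟨s, z, hz, rfl⟩
    obtain ⟨t, k, l, rfl⟩ := mem_span3.mp hz
    exact ⟨s, t, k, l, by ring⟩
  · rintro ⟨s, t, k, l, rfl⟩
    exact ⟨s, t * q + k * r + l * m, mem_span3.mpr ⟨t, k, l, rfl⟩, by ring⟩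

end span

/-- The localisation principle: `J` is the kernel of `φ` (hence prime when the target is a
domain). -/
theorem eq_ker_of_loc {D T : Type*} [CommRing D] [CommRing T] [IsDomain T]
    (I J 𝔩 : Ideal D) (x : D) (φ : D →+* T)
    (hIJ : I ≤ J) (hx𝔩 : x ∈ 𝔩) (hinter : J ⊓ 𝔩 ≤ I)
    (hcolon : ∀ F, x * F ∈ I → F ∈ J)
    (hker : I ≤ RingHom.ker φ) (hφx : φ x ≠ 0)
    (helim : ∀ F, φ F = 0 → ∃ N : ℕ, x ^ N * F ∈ I) :
    J = RingHom.ker φ := by
  have hJcolon : ∀ F, x * F ∈ J → F ∈ J := fun F hF =>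
    hcolon F (hinter ⟨hF, Ideal.mul_mem_right _ _ hx𝔩⟩)
  have hpow : ∀ (N : ℕ) (F : D), x ^ N * F ∈ J → F ∈ J := by
    intro N
    induction N with
    | zero => intro F hF; simpa using hF
    | succ n ih =>
      intro F hF
      apply ih
      apply hJcolon
      have e : x * (x ^ n * F) = x ^ (n + 1) * F := by ring
      rw [e]; exact hF
  apply le_antisymm
  · intro F hF
    rw [RingHom.mem_ker]
    have h1 : x * F ∈ RingHom.ker φ :=
      hker (hinter ⟨Ideal.mul_mem_left _ _ hF, Ideal.mul_mem_right _ _ hx𝔩⟩)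
    rw [RingHom.mem_ker, map_mul] at h1
    exact (mul_eq_zero.mp h1).resolve_left hφx
  · intro F hF
    obtain ⟨N, hN⟩ := helim F (RingHom.mem_ker.mp hF)
    exact hpow N F (hIJ hN)

/-- Level 1 colon computation. -/
theorem colon1 {D : Type*} [CommRing D] (u v w g i : D)
    (hp1 : (span ({u} : Set D)).IsPrime) (hp2 : (span ({u, v} : Set D)).IsPrime)
    (hv : v ∉ span ({u} : Set D)) (hi : i ∉ span ({u, v} : Set D))
    (hw : w ∉ span ({u, v} : Set D)) :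
    ∀ F, v * F ∈ span ({u, -(g * v) + i * w} : Set D) →
      F ∈ span ({u, -(g * v) + i * w} : Set D) := by
  intro F hF
  obtain ⟨B0, B1, h⟩ := mem_span2.mp hF
  have h1 : B1 * (i * w) ∈ span ({u, v} : Set D) :=
    mem_span2.mpr ⟨-B0, F + B1 * g, by linear_combination -h⟩
  have h2 : B1 ∈ span ({u, v} : Set D) := by
    rcases hp2.mem_or_mem h1 with h2 | h2
    · exact h2
    · rcases hp2.mem_or_mem h2 with h3 | h3
      · exact absurd h3 hi
      · exact absurd h3 hw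
  obtain ⟨p, q, hB1⟩ := mem_span2.mp h2
  have h3 : v * (F - q * (-(g * v) + i * w)) ∈ span ({u} : Set D) :=
    mem_span_singleton'.mpr ⟨B0 + p * (-(g * v) + i * w),
      by linear_combination -h - (-(g * v) + i * w) * hB1⟩
  have h4 : F - q * (-(g * v) + i * w) ∈ span ({u} : Set D) :=
    (hp1.mem_or_mem h3).resolve_left hv
  obtain ⟨t, ht⟩ := mem_span_singleton'.mp h4
  exact mem_span2.mpr ⟨t, q, by linear_combination -ht⟩

/-- Level 2 colon computation. -/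
theorem colon2 {D : Type*} [CommRing D] (u v w b g h i : D)
    (hp1 : (span ({u} : Set D)).IsPrime) (hp2 : (span ({u, v} : Set D)).IsPrime)
    (hp3 : (span ({u, v, i} : Set D)).IsPrime)
    (hv : v ∉ span ({u} : Set D)) (hi : i ∉ span ({u, v} : Set D))
    (hw : w ∉ span ({u, v} : Set D)) (hb : b ∉ span ({u, v, i} : Set D)) :
    ∀ F, v * F ∈ span ({u, -(g * v) + i * w, -(h * v) + b * w} : Set D) →
      F ∈ span ({u, -(g * v) + i * w, -(h * v) + b * w, h * i - g * b} : Set D) := by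
  intro F hF
  obtain ⟨B0, A1, A2, hh⟩ := mem_span3.mp hF
  have h1 : (A1 * i + A2 * b) * w ∈ span ({u, v} : Set D) :=
    mem_span2.mpr ⟨-B0, F + A1 * g + A2 * h, by linear_combination -hh⟩
  have h2 : A1 * i + A2 * b ∈ span ({u, v} : Set D) :=
    (hp2.mem_or_mem h1).resolve_right hw
  obtain ⟨p0, q0, h2'⟩ := mem_span2.mp h2
  have h3 : A2 * b ∈ span ({u, v, i} : Set D) :=
    mem_span3.mpr ⟨p0, q0, -A1, by linear_combination h2'⟩
  have h4 : A2 ∈ span ({u, v, i} : Set D) := (hp3.mem_or_mem h3).resolve_right hb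
  obtain ⟨p, q, r, hA2⟩ := mem_span3.mp h4
  have h5 : (A1 + r * b) * i ∈ span ({u, v} : Set D) :=
    mem_span2.mpr ⟨p0 - p * b, q0 - q * b, by linear_combination h2' - b * hA2⟩
  have h6 : A1 + r * b ∈ span ({u, v} : Set D) := (hp2.mem_or_mem h5).resolve_right hi
  obtain ⟨p', q', hA1⟩ := mem_span2.mp h6
  have h7 : v * (F + r * (h * i - g * b) - q' * (-(g * v) + i * w) - q * (-(h * v) + b * w)) ∈
      span ({u} : Set D) :=
    mem_span_singleton'.mpr ⟨B0 + p' * (-(g * v) + i * w) + p * (-(h * v) + b * w),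
      by linear_combination -hh - (-(g * v) + i * w) * hA1 - (-(h * v) + b * w) * hA2⟩
  have h8 : F + r * (h * i - g * b) - q' * (-(g * v) + i * w) - q * (-(h * v) + b * w) ∈
      span ({u} : Set D) := (hp1.mem_or_mem h7).resolve_left hv
  obtain ⟨t, ht⟩ := mem_span_singleton'.mp h8
  exact mem_span4.mpr ⟨t, q', q, -r, by linear_combination -ht⟩

/-- Level 2 intersection. -/
theorem inter2 {D : Type*} [CommRing D] (u v w b g h i : D)
    (hp4 : (span ({u, v, w} : Set D)).IsPrime)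
    (hm : h * i - g * b ∉ span ({u, v, w} : Set D)) :
    span ({u, -(g * v) + i * w, -(h * v) + b * w, h * i - g * b} : Set D) ⊓
        span ({u, v, w} : Set D) ≤
      span ({u, -(g * v) + i * w, -(h * v) + b * w} : Set D) := by
  rintro x ⟨hxJ, hxL⟩
  obtain ⟨t, s1, s2, r, rfl⟩ := mem_span4.mp hxJ
  have h2 : t * u + s1 * (-(g * v) + i * w) + s2 * (-(h * v) + b * w) ∈
      span ({u, v, w} : Set D) :=
    mem_span3.mpr ⟨t, -(s1 * g) - s2 * h, s1 * i + s2 * b, by ring⟩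
  have h1 : r * (h * i - g * b) ∈ span ({u, v, w} : Set D) := by
    have h3 := sub_mem hxL h2
    have e : t * u + s1 * (-(g * v) + i * w) + s2 * (-(h * v) + b * w) + r * (h * i - g * b) -
        (t * u + s1 * (-(g * v) + i * w) + s2 * (-(h * v) + b * w)) = r * (h * i - g * b) := by
      ring
    rwa [e] at h3
  have h4 : r ∈ span ({u, v, w} : Set D) := (hp4.mem_or_mem h1).resolve_right hm
  obtain ⟨r1, r2, r3, hr⟩ := mem_span3.mp h4
  exact mem_span3.mpr ⟨t + r1 * (h * i - g * b), s1 + r2 * b + r3 * h, s2 - r2 * i - r3 * g,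
    by linear_combination (h * i - g * b) * hr⟩

/-- Level 3 colon computation, in abstract form. -/
theorem colon3 {D : Type*} [CommRing D] [IsDomain D]
    (u Q1 Q2 Q3 Qb1 Qb2 Qb3 m12 Δ M1 M2 M3 α1 α2 : D)
    (hu : u ≠ 0)
    (hQ1 : Q1 = M1 * u + Qb1) (hQ2 : Q2 = M2 * u + Qb2) (hQ3 : Q3 = M3 * u + Qb3)
    (hdet : α1 * Q1 + α2 * Q2 + m12 * Q3 = Δ * u)
    (hp1 : (span ({u} : Set D)).IsPrime) (hq1 : Qb1 ∉ span ({u} : Set D))
    (hI1 : (span ({u, Qb1} : Set D)).IsPrime) (hq2 : Qb2 ∉ span ({u, Qb1} : Set D))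
    (hJ2 : (span ({u, Qb1, Qb2, m12} : Set D)).IsPrime)
    (hq3 : Qb3 ∉ span ({u, Qb1, Qb2, m12} : Set D)) :
    ∀ F, u * F ∈ span ({Q1, Q2, Q3} : Set D) → F ∈ span ({Q1, Q2, Q3, Δ} : Set D) := by
  intro F hF
  obtain ⟨A1, A2, A3, hh⟩ := mem_span3.mp hF
  -- Step A
  have hA : A3 * Qb3 ∈ span ({u, Qb1, Qb2, m12} : Set D) :=
    mem_span4.mpr ⟨F - A1 * M1 - A2 * M2 - A3 * M3, -A1, -A2, 0,
      by linear_combination -hh - A1 * hQ1 - A2 * hQ2 - A3 * hQ3⟩
  have hB : A3 ∈ span ({u, Qb1, Qb2, m12} : Set D) := (hJ2.mem_or_mem hA).resolve_right hq3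
  obtain ⟨t, s1, s2, lam, hA3⟩ := mem_span4.mp hB
  -- Step C
  obtain ⟨t', ht'⟩ : ∃ x, x = t - s1 * M1 - s2 * M2 := ⟨_, rfl⟩
  obtain ⟨A1', hA1'⟩ : ∃ x, x = A1 + s1 * Q3 - lam * α1 := ⟨_, rfl⟩
  obtain ⟨A2', hA2'⟩ : ∃ x, x = A2 + s2 * Q3 - lam * α2 := ⟨_, rfl⟩
  obtain ⟨F2, hF2⟩ : ∃ x, x = F - t' * Q3 - lam * Δ := ⟨_, rfl⟩
  have hF2' : u * F2 = A1' * Q1 + A2' * Q2 := by
    rw [hF2, hA1', hA2', ht']
    linear_combination hh + lam * hdet + Q3 * hA3 - Q3 * s1 * hQ1 - Q3 * s2 * hQ2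
  -- Step D1
  have hD1 : A2' * Qb2 ∈ span ({u, Qb1} : Set D) :=
    mem_span2.mpr ⟨F2 - A1' * M1 - A2' * M2, -A1',
      by linear_combination -hF2' - A1' * hQ1 - A2' * hQ2⟩
  have hD2 : A2' ∈ span ({u, Qb1} : Set D) := (hI1.mem_or_mem hD1).resolve_right hq2
  obtain ⟨t2, r, hA2''⟩ := mem_span2.mp hD2
  obtain ⟨t2', ht2'⟩ : ∃ x, x = t2 - r * M1 := ⟨_, rfl⟩
  obtain ⟨A1'', hA1''⟩ : ∃ x, x = A1' + r * Q2 := ⟨_, rfl⟩
  obtain ⟨F3, hF3⟩ : ∃ x, x = F2 - t2' * Q2 := ⟨_, rfl⟩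
  have hF3' : u * F3 = A1'' * Q1 := by
    rw [hF3, hA1'', ht2']
    linear_combination hF2' + Q2 * hA2'' - Q2 * r * hQ1
  -- Step D3
  have hD3 : A1'' * Qb1 ∈ span ({u} : Set D) :=
    mem_span_singleton'.mpr ⟨F3 - A1'' * M1, by linear_combination hF3' + A1'' * hQ1⟩
  have hD4 : A1'' ∈ span ({u} : Set D) := (hp1.mem_or_mem hD3).resolve_right hq1
  obtain ⟨t1, ht1⟩ := mem_span_singleton'.mp hD4
  have hF3'' : F3 = t1 * Q1 := by
    apply mul_left_cancel₀ hu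
    rw [hF3', ← ht1]; ring
  refine mem_span4.mpr ⟨t1, t2', t', lam, ?_⟩
  have e1 : F = F2 + t' * Q3 + lam * Δ := by rw [hF2]; ring
  have e2 : F2 = F3 + t2' * Q2 := by rw [hF3]; ring
  rw [e1, e2, hF3'']

end Groth.Agent.Lib.Lie3AbsH4
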