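import Mathlib
import Groth.Prelude.Def_W4c1bouilletffgsL3
import Groth.Agent.Lib.McCoy_helper8

/-!
# The Jacobi ideal of three-dimensional Lie algebras: `I = J ∩ L`, `(I : J) = L` (helper9)
-/

open MvPolynomial

namespace Lie3Mod9

open Lie3Mod

variable (A : Type*) [CommRing A]

lemma Q1_eq : Q1 A = vh * L1 A - vg * L2 A + vi * L3 A := by
  simp only [Q1, L1, L2, L3]; ring

lemma Q2_eq : Q2 A = -ve * L1 A - vh * L2 A + vb * L3 A := by
  simp only [Q2, L1, L2, L3]; ring

lemma Q3_eq : Q3 A = -vf * L1 A - vi * L2 A + vc * L3 A := by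
  simp only [Q3, L1, L2, L3]; ring

lemma det_L1 : detM A * L1 A =
    (-(vh * vc) + vb * vi) * Q1 A + (vg * vc - vi ^ 2) * Q2 A + (-(vg * vb) + vi * vh) * Q3 A := by
  simp only [detM, Q1, Q2, Q3, L1]; ring

lemma det_L2 : detM A * L2 A =
    (ve * vc - vb * vf) * Q1 A + (vh * vc + vi * vf) * Q2 A + (-(vh * vb + vi * ve)) * Q3 A := by
  simp only [detM, Q1, Q2, Q3, L2]; ring

lemma det_L3 : detM A * L3 A =
    (ve * vi - vh * vf) * Q1 A + (vh * vi + vg * vf) * Q2 A + (-(vh ^ 2) - vg * ve) * Q3 A := by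
  simp only [detM, Q1, Q2, Q3, L3]; ring

lemma Q1_mem_I : Q1 A ∈ idI A := Ideal.subset_span (by simp)
lemma Q2_mem_I : Q2 A ∈ idI A := Ideal.subset_span (by simp)
lemma Q3_mem_I : Q3 A ∈ idI A := Ideal.subset_span (by simp)
lemma L1_mem_L : L1 A ∈ idL A := Ideal.subset_span (by simp)
lemma L2_mem_L : L2 A ∈ idL A := Ideal.subset_span (by simp)
lemma L3_mem_L : L3 A ∈ idL A := Ideal.subset_span (by simp)

lemma idI_le_idL : idI A ≤ idL A := by
  rw [idI, Ideal.span_le]
  intro x hx
  simp only [Set.mem_insert_iff, Set.mem_singleton_iff] at hx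
  rcases hx with rfl | rfl | rfl
  · rw [Q1_eq]
    exact add_mem (sub_mem (Ideal.mul_mem_left _ _ (L1_mem_L A)) (Ideal.mul_mem_left _ _ (L2_mem_L A)))
      (Ideal.mul_mem_left _ _ (L3_mem_L A))
  · rw [Q2_eq]
    exact add_mem (sub_mem (Ideal.mul_mem_left _ _ (L1_mem_L A)) (Ideal.mul_mem_left _ _ (L2_mem_L A)))
      (Ideal.mul_mem_left _ _ (L3_mem_L A))
  · rw [Q3_eq]
    exact add_mem (sub_mem (Ideal.mul_mem_left _ _ (L1_mem_L A)) (Ideal.mul_mem_left _ _ (L2_mem_L A)))
      (Ideal.mul_mem_left _ _ (L3_mem_L A))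

lemma det_mul_mem (x : D A) (hx : x ∈ idL A) : detM A * x ∈ idI A := by
  have hcomb : ∀ p q r : D A, p * Q1 A + q * Q2 A + r * Q3 A ∈ idI A := fun p q r =>
    add_mem (add_mem (Ideal.mul_mem_left _ _ (Q1_mem_I A)) (Ideal.mul_mem_left _ _ (Q2_mem_I A)))
      (Ideal.mul_mem_left _ _ (Q3_mem_I A))
  rw [idL] at hx
  induction hx using Submodule.span_induction with
  | mem y hy =>
    simp only [Set.mem_insert_iff, Set.mem_singleton_iff] at hy
    rcases hy with rfl | rfl | rfl
    · rw [det_L1]; exact hcomb _ _ _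
    · rw [det_L2]; exact hcomb _ _ _
    · rw [det_L3]; exact hcomb _ _ _
  | zero => simp
  | add y z _ _ hy hz => rw [mul_add]; exact add_mem hy hz
  | smul a y _ hy =>
    rw [smul_eq_mul, mul_left_comm]; exact Ideal.mul_mem_left _ _ hy

lemma idJ_eq : idJ A = idI A ⊔ Ideal.span {detM A} := by
  rw [idJ, idI, ← Ideal.span_union]
  congr 1
  ext x
  simp only [Set.mem_insert_iff, Set.mem_singleton_iff, Set.union_singleton]
  tauto

/-- the substitution `a ↦ i, b ↦ -f, d ↦ -h`. -/
noncomputable def π : D A →ₐ[A] D A :=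
  aeval (fun j : Fin 9 => if j = 0 then (X 8 : D A) else if j = 1 then -X 5 else
    if j = 3 then -X 7 else X j)

lemma π_L (x : D A) (hx : x ∈ idL A) : π A x = 0 := by
  have : idL A ≤ RingHom.ker (π A).toRingHom := by
    rw [idL, Ideal.span_le]
    intro y hy
    simp only [Set.mem_insert_iff, Set.mem_singleton_iff] at hy
    rw [SetLike.mem_coe, RingHom.mem_ker]
    rcases hy with rfl | rfl | rfl
    · simp [π, L1, va, vi]
    · simp [π, L2, vb, vf]
    · simp [π, L3, vd, vh]
  exact this hx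

lemma sub_π_mem (p : D A) : p - π A p ∈ idL A := by
  have h : (Ideal.Quotient.mkₐ A (idL A)).comp (π A) = Ideal.Quotient.mkₐ A (idL A) := by
    apply MvPolynomial.algHom_ext
    intro j
    simp only [AlgHom.comp_apply, π, aeval_X, Ideal.Quotient.mkₐ_eq_mk]
    rw [eq_comm, Ideal.Quotient.eq]
    fin_cases j
    · simpa [L1, va, vi] using L1_mem_L A
    · simpa [L2, vb, vf] using L2_mem_L A
    · simp
    · simpa [L3, vd, vh] using L3_mem_L A
    · simp
    · simp
    · simp
    · simp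
    · simp
  have := congrArg (fun f => f p) h
  simp only [AlgHom.comp_apply, Ideal.Quotient.mkₐ_eq_mk] at this
  rw [← Ideal.Quotient.eq, this]

lemma π_det_mem : π A (detM A) ∈ nonZeroDivisors (D A) := by
  apply Groth.Agent.Lib.McCoyH8.mem_nonZeroDivisors_of_smul
  intro r hr
  let x : Fin 9 → A := fun j => if j = 4 ∨ j = 8 then 1 else 0
  have h1 := congrArg (MvPolynomial.eval x) hr
  have h2 : MvPolynomial.eval x (π A (detM A)) = 1 := by
    simp [π, detM, va, vb, vc, vd, ve, vf, vg, vh, vi, x, aeval_X]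
  rw [smul_eval, h2, mul_one, map_zero] at h1
  exact h1

lemma mem_L_of_mul_det (x : D A) (hx : x * detM A ∈ idL A) : x ∈ idL A := by
  have h1 := π_L A _ hx
  rw [map_mul] at h1
  have h2 : π A x = 0 := (π_det_mem A).2 _ h1
  have h3 := sub_π_mem A x
  rwa [h2, sub_zero] at h3

theorem inter_eq : idI A = idJ A ⊓ idL A := by
  apply le_antisymm
  · refine le_inf ?_ (idI_le_idL A)
    rw [idJ_eq]; exact le_sup_left
  · rintro x ⟨hxJ, hxL⟩
    rw [SetLike.mem_coe, idJ_eq, Submodule.mem_sup] at hxJ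
    obtain ⟨q, hq, y, hy, rfl⟩ := hxJ
    obtain ⟨r, rfl⟩ := Ideal.mem_span_singleton'.mp hy
    have h1 : r * detM A ∈ idL A := by
      have := sub_mem hxL (idI_le_idL A hq)
      simpa using this
    have h2 := mem_L_of_mul_det A r h1
    refine add_mem hq ?_
    rw [mul_comm]; exact det_mul_mem A r h2

theorem colon_J_eq : (idI A).colon (idJ A : Set (D A)) = idL A := by
  ext x
  rw [Submodule.mem_colon]
  constructor
  · intro h
    have h1 := h (detM A) (by
      rw [SetLike.mem_coe, idJ_eq]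
      exact (le_sup_right : Ideal.span {detM A} ≤ _) (Ideal.mem_span_singleton_self _))
    rw [smul_eq_mul] at h1
    exact mem_L_of_mul_det A x (idI_le_idL A h1)
  · intro hx p hp
    rw [SetLike.mem_coe, idJ_eq, Submodule.mem_sup] at hp
    obtain ⟨q, hq, y, hy, rfl⟩ := hp
    obtain ⟨r, rfl⟩ := Ideal.mem_span_singleton'.mp hy
    rw [smul_eq_mul, mul_add]
    refine add_mem (Ideal.mul_mem_left _ _ hq) ?_
    have : x * (r * detM A) = r * (detM A * x) := by ring
    rw [this]
    exact Ideal.mul_mem_left _ _ (det_mul_mem A x hx)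

end Lie3Mod9
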