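import Mathlib
import Groth.Prelude.Def_W4c1bouilletffgsL3
import Groth.Agent.Lib.Lie3Abs_helper4
import Groth.Agent.Lib.Lie3Mod_helper9

/-!
# Primality of the ideal `J = (Q1, Q2, Q3, det M)` of the Lie3Mod prelude (helper4)

Over a domain `R`, `J` is the kernel of an explicit homomorphism to the fraction field of the
polynomial ring, obtained by solving the Jacobi equations after inverting `a - i`.
-/

namespace Groth.Agent.Lib.Lie3H4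

open MvPolynomial Lie3Mod Ideal Groth.Agent.Lib.Lie3AbsH4

section generic
variable {R : Type*} [CommRing R] {σ : Type*}

lemma sub_subst_mem (ε : MvPolynomial σ R →ₐ[R] MvPolynomial σ R)
    (𝔞 : Ideal (MvPolynomial σ R)) (h : ∀ j, X j - ε (X j) ∈ 𝔞) (p : MvPolynomial σ R) :
    p - ε p ∈ 𝔞 := by
  have h' : (Ideal.Quotient.mkₐ R 𝔞).comp ε = Ideal.Quotient.mkₐ R 𝔞 := by
    apply MvPolynomial.algHom_ext
    intro j
    simp only [AlgHom.comp_apply, Ideal.Quotient.mkₐ_eq_mk]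
    rw [eq_comm, Ideal.Quotient.eq]
    exact h j
  have := congrArg (fun f => f p) h'
  simp only [AlgHom.comp_apply, Ideal.Quotient.mkₐ_eq_mk] at this
  rw [← Ideal.Quotient.eq, this]

lemma eq_ker_subst (ε : MvPolynomial σ R →ₐ[R] MvPolynomial σ R)
    (𝔞 : Ideal (MvPolynomial σ R)) (h0 : ∀ x ∈ 𝔞, ε x = 0) (h : ∀ j, X j - ε (X j) ∈ 𝔞) :
    𝔞 = RingHom.ker (ε : MvPolynomial σ R →+* MvPolynomial σ R) := by
  apply le_antisymm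
  · intro x hx
    rw [RingHom.mem_ker]
    exact h0 x hx
  · intro p hp
    have h1 := sub_subst_mem ε 𝔞 h p
    have h2 : ε p = 0 := hp
    rwa [h2, sub_zero] at h1

lemma isPrime_of_subst [IsDomain R] (ε : MvPolynomial σ R →ₐ[R] MvPolynomial σ R)
    (𝔞 : Ideal (MvPolynomial σ R)) (h0 : ∀ x ∈ 𝔞, ε x = 0) (h : ∀ j, X j - ε (X j) ∈ 𝔞) :
    𝔞.IsPrime := by
  rw [eq_ker_subst ε 𝔞 h0 h]
  exact RingHom.ker_isPrime _

lemma ne_zero_of_eval (p : MvPolynomial σ R) (pt : σ → R) (h : eval pt p ≠ 0) : p ≠ 0 :=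
  fun hp => h (by rw [hp, map_zero])

lemma not_mem_of_subst (ε : MvPolynomial σ R →ₐ[R] MvPolynomial σ R)
    (𝔞 : Ideal (MvPolynomial σ R)) (h0 : ∀ x ∈ 𝔞, ε x = 0) (x : MvPolynomial σ R)
    (pt : σ → R) (h : eval pt (ε x) ≠ 0) : x ∉ 𝔞 :=
  fun hx => h (by rw [h0 x hx, map_zero])

theorem elim_all {K : Type*} [CommRing K] (I : Ideal (MvPolynomial σ R)) (x : MvPolynomial σ R)
    (φ ι : MvPolynomial σ R →+* K)
    (hC : ∀ r, φ (C r) = ι (C r)) (hx : φ x = ι x)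
    (hX : ∀ j, ∃ N : ℕ, ∃ G, φ G = ι G ∧ x ^ N * X j - G ∈ I) :
    ∀ F, ∃ N : ℕ, ∃ G, φ G = ι G ∧ x ^ N * F - G ∈ I := by
  intro F
  induction F using MvPolynomial.induction_on with
  | C r => exact ⟨0, C r, hC r, by simp⟩
  | add p q hp hq =>
    obtain ⟨N1, G1, h1, h1'⟩ := hp
    obtain ⟨N2, G2, h2, h2'⟩ := hq
    refine ⟨N1 + N2, x ^ N2 * G1 + x ^ N1 * G2, ?_, ?_⟩
    · simp only [map_add, map_mul, map_pow, h1, h2, hx]
    · have e : x ^ (N1 + N2) * (p + q) - (x ^ N2 * G1 + x ^ N1 * G2) =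
          x ^ N2 * (x ^ N1 * p - G1) + x ^ N1 * (x ^ N2 * q - G2) := by ring
      rw [e]
      exact add_mem (Ideal.mul_mem_left _ _ h1') (Ideal.mul_mem_left _ _ h2')
  | mul_X p j hp =>
    obtain ⟨N1, G1, h1, h1'⟩ := hp
    obtain ⟨N2, G2, h2, h2'⟩ := hX j
    refine ⟨N1 + N2, G1 * G2, ?_, ?_⟩
    · simp only [map_mul, h1, h2]
    · have e : x ^ (N1 + N2) * (p * X j) - G1 * G2 =
          (x ^ N1 * p) * (x ^ N2 * X j - G2) + G2 * (x ^ N1 * p - G1) := by ring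
      rw [e]
      exact add_mem (Ideal.mul_mem_left _ _ h2') (Ideal.mul_mem_left _ _ h1')

theorem elim_ker {K : Type*} [CommRing K] (I : Ideal (MvPolynomial σ R)) (x : MvPolynomial σ R)
    (φ ι : MvPolynomial σ R →+* K) (hι : Function.Injective ι) (hI : I ≤ RingHom.ker φ)
    (hC : ∀ r, φ (C r) = ι (C r)) (hx : φ x = ι x)
    (hX : ∀ j, ∃ N : ℕ, ∃ G, φ G = ι G ∧ x ^ N * X j - G ∈ I) :
    ∀ F, φ F = 0 → ∃ N : ℕ, x ^ N * F ∈ I := by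
  intro F hF
  obtain ⟨N, G, hG, hG'⟩ := elim_all I x φ ι hC hx hX F
  refine ⟨N, ?_⟩
  have h1 : φ (x ^ N * F - G) = 0 := RingHom.mem_ker.mp (hI hG')
  have h2 : φ G = 0 := by
    rw [map_sub, map_mul, hF, mul_zero, zero_sub, neg_eq_zero] at h1
    exact h1
  have h3 : G = 0 := by
    apply hι
    rw [← hG, h2, map_zero]
  rwa [h3, sub_zero] at hG'

lemma fixed_case {K : Type*} [CommRing K] (I : Ideal (MvPolynomial σ R)) (x : MvPolynomial σ R)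
    (φ ι : MvPolynomial σ R →+* K) (j : σ) (h : φ (X j) = ι (X j)) :
    ∃ N : ℕ, ∃ G, φ G = ι G ∧ x ^ N * X j - G ∈ I :=
  ⟨0, X j, h, by simp⟩

end generic

section concrete

variable (R : Type*) [CommRing R] [IsDomain R]

/-- the fraction field of the polynomial ring -/
noncomputable abbrev KK := FractionRing (D R)

local notation "ι" => algebraMap (D R) (KK R)
local notation "𝐮" => ((va : D R) - vi)
local notation "𝐯" => ((vb : D R) + vf)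
local notation "𝐰" => ((vd : D R) + vh)
local notation "𝐪₁" => (-((vg : D R) * ((vb : D R) + vf)) + vi * ((vd : D R) + vh))
local notation "𝐪₂" => (-((vh : D R) * ((vb : D R) + vf)) + vb * ((vd : D R) + vh))
local notation "𝐪₃" => (-((vi : D R) * ((vb : D R) + vf)) + vc * ((vd : D R) + vh))
local notation "𝐦" => ((vh : D R) * vi - vg * vb)

lemma ι_inj : Function.Injective (algebraMap (D R) (KK R)) :=
  IsFractionRing.injective (D R) (KK R)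

/-! ### The primes generated by linear forms -/

noncomputable def ε1 : D R →ₐ[R] D R := aeval ![(vi : D R), vb, vc, vd, ve, vf, vg, vh, vi]
noncomputable def ε2 : D R →ₐ[R] D R := aeval ![(vi : D R), -vf, vc, vd, ve, vf, vg, vh, vi]
noncomputable def ε3 : D R →ₐ[R] D R := aeval ![(0 : D R), -vf, vc, vd, ve, vf, vg, vh, 0]
noncomputable def ε4 : D R →ₐ[R] D R := aeval ![(vi : D R), -vf, vc, -vh, ve, vf, vg, vh, vi]

lemma P1_zero : ∀ x ∈ span ({𝐮} : Set (D R)), ε1 R x = 0 := by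
  intro x hx
  obtain ⟨t, rfl⟩ := mem_span_singleton'.mp hx
  simp [ε1, va, vi]

lemma P2_zero : ∀ x ∈ span ({𝐮, 𝐯} : Set (D R)), ε2 R x = 0 := by
  intro x hx
  obtain ⟨s, t, rfl⟩ := mem_span2.mp hx
  simp [ε2, va, vi, vb, vf]

lemma P3_zero : ∀ x ∈ span ({𝐮, 𝐯, vi} : Set (D R)), ε3 R x = 0 := by
  intro x hx
  obtain ⟨s, t, k, rfl⟩ := mem_span3.mp hx
  simp [ε3, va, vi, vb, vf]

lemma P4_zero : ∀ x ∈ span ({𝐮, 𝐯, 𝐰} : Set (D R)), ε4 R x = 0 := by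
  intro x hx
  obtain ⟨s, t, k, rfl⟩ := mem_span3.mp hx
  simp [ε4, va, vi, vb, vf, vd, vh]

lemma P1_sub : ∀ j : Fin 9, (X j : D R) - ε1 R (X j) ∈ span ({𝐮} : Set (D R)) := by
  intro j
  fin_cases j
  · exact mem_span_singleton'.mpr ⟨1, by simp [ε1, va, vi]⟩
  all_goals simp [ε1, va, vb, vc, vd, ve, vf, vg, vh, vi]

lemma P2_sub : ∀ j : Fin 9, (X j : D R) - ε2 R (X j) ∈ span ({𝐮, 𝐯} : Set (D R)) := by
  intro j
  fin_cases j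
  · exact mem_span2.mpr ⟨1, 0, by simp [ε2, va, vi]⟩
  · exact mem_span2.mpr ⟨0, 1, by simp [ε2, vb, vf]⟩
  all_goals simp [ε2, va, vb, vc, vd, ve, vf, vg, vh, vi]

lemma P3_sub : ∀ j : Fin 9, (X j : D R) - ε3 R (X j) ∈ span ({𝐮, 𝐯, vi} : Set (D R)) := by
  intro j
  fin_cases j
  · exact mem_span3.mpr ⟨1, 0, 1, by simp [ε3, va, vi]⟩
  · exact mem_span3.mpr ⟨0, 1, 0, by simp [ε3, vb, vf]⟩
  · simp [ε3, va, vb, vc, vd, ve, vf, vg, vh, vi]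
  · simp [ε3, va, vb, vc, vd, ve, vf, vg, vh, vi]
  · simp [ε3, va, vb, vc, vd, ve, vf, vg, vh, vi]
  · simp [ε3, va, vb, vc, vd, ve, vf, vg, vh, vi]
  · simp [ε3, va, vb, vc, vd, ve, vf, vg, vh, vi]
  · simp [ε3, va, vb, vc, vd, ve, vf, vg, vh, vi]
  · exact mem_span3.mpr ⟨0, 0, 1, by simp [ε3, vi]⟩

lemma P4_sub : ∀ j : Fin 9, (X j : D R) - ε4 R (X j) ∈ span ({𝐮, 𝐯, 𝐰} : Set (D R)) := by
  intro j
  fin_cases j
  · exact mem_span3.mpr ⟨1, 0, 0, by simp [ε4, va, vi]⟩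
  · exact mem_span3.mpr ⟨0, 1, 0, by simp [ε4, vb, vf]⟩
  · simp [ε4, va, vb, vc, vd, ve, vf, vg, vh, vi]
  · exact mem_span3.mpr ⟨0, 0, 1, by simp [ε4, vd, vh]⟩
  all_goals simp [ε4, va, vb, vc, vd, ve, vf, vg, vh, vi]

lemma P1_prime : (span ({𝐮} : Set (D R))).IsPrime :=
  isPrime_of_subst (ε1 R) _ (P1_zero R) (P1_sub R)
lemma P2_prime : (span ({𝐮, 𝐯} : Set (D R))).IsPrime :=
  isPrime_of_subst (ε2 R) _ (P2_zero R) (P2_sub R)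
lemma P3_prime : (span ({𝐮, 𝐯, vi} : Set (D R))).IsPrime :=
  isPrime_of_subst (ε3 R) _ (P3_zero R) (P3_sub R)
lemma P4_prime : (span ({𝐮, 𝐯, 𝐰} : Set (D R))).IsPrime :=
  isPrime_of_subst (ε4 R) _ (P4_zero R) (P4_sub R)

lemma v_not_mem_P1 : 𝐯 ∉ span ({𝐮} : Set (D R)) :=
  not_mem_of_subst (ε1 R) _ (P1_zero R) _ ![0, 1, 0, 0, 0, 0, 0, 0, 0]
    (by simp [ε1, vb, vf])

lemma i_not_mem_P2 : (vi : D R) ∉ span ({𝐮, 𝐯} : Set (D R)) :=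
  not_mem_of_subst (ε2 R) _ (P2_zero R) _ ![0, 0, 0, 0, 0, 0, 0, 0, 1]
    (by simp [ε2, vi])

lemma w_not_mem_P2 : 𝐰 ∉ span ({𝐮, 𝐯} : Set (D R)) :=
  not_mem_of_subst (ε2 R) _ (P2_zero R) _ ![0, 0, 0, 1, 0, 0, 0, 0, 0]
    (by simp [ε2, vd, vh])

lemma b_not_mem_P3 : (vb : D R) ∉ span ({𝐮, 𝐯, vi} : Set (D R)) :=
  not_mem_of_subst (ε3 R) _ (P3_zero R) _ ![0, 0, 0, 0, 0, 1, 0, 0, 0]
    (by simp [ε3, vb])

lemma m_not_mem_P4 : 𝐦 ∉ span ({𝐮, 𝐯, 𝐰} : Set (D R)) :=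
  not_mem_of_subst (ε4 R) _ (P4_zero R) _ ![0, 0, 0, 0, 0, 0, 0, 1, 1]
    (by simp [ε4, vh, vi, vg, vb])

lemma q1_not_mem_P1 : 𝐪₁ ∉ span ({𝐮} : Set (D R)) :=
  not_mem_of_subst (ε1 R) _ (P1_zero R) _ ![0, 0, 0, 1, 0, 0, 0, 0, 1]
    (by simp [ε1, vg, vb, vf, vi, vd, vh])

lemma u_ne : 𝐮 ≠ 0 :=
  ne_zero_of_eval _ ![1, 0, 0, 0, 0, 0, 0, 0, 0] (by simp [va, vi])
lemma v_ne : 𝐯 ≠ 0 :=
  ne_zero_of_eval _ ![0, 1, 0, 0, 0, 0, 0, 0, 0] (by simp [vb, vf])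
lemma q2_ne : 𝐪₂ ≠ 0 :=
  ne_zero_of_eval _ ![0, 1, 0, 1, 0, 0, 0, 0, 0] (by simp [vh, vb, vf, vd])
lemma q3_ne : 𝐪₃ ≠ 0 :=
  ne_zero_of_eval _ ![0, 0, 1, 1, 0, 0, 0, 0, 0] (by simp [vi, vb, vf, vc, vd, vh])

lemma ιV_ne : ι (X 1) + ι (X 5) ≠ 0 := by
  rw [← map_add]
  intro h
  exact v_ne R (ι_inj R (h.trans (map_zero _).symm))

lemma ιU_ne : ι (X 0) - ι (X 8) ≠ 0 := by
  rw [← map_sub]
  intro h
  exact u_ne R (ι_inj R (h.trans (map_zero _).symm))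

/-! ### Level 1 -/

noncomputable def vals1 : Fin 9 → KK R :=
  ![ι (X 8), ι (X 1), ι (X 2), ι (X 3), ι (X 4), ι (X 5),
    ι (X 8) * (ι (X 3) + ι (X 7)) / (ι (X 1) + ι (X 5)), ι (X 7), ι (X 8)]

noncomputable def φ1 : D R →+* KK R := ((aeval (vals1 R) : D R →ₐ[R] KK R) : D R →+* KK R)

lemma φ1_X (j : Fin 9) : φ1 R (X j) = vals1 R j := by simp [φ1]

lemma φ1_C (r : R) : φ1 R (C r) = ι (C r) := by
  show (aeval (vals1 R) : D R →ₐ[R] KK R) (C r) = _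
  rw [← MvPolynomial.algebraMap_eq, AlgHom.commutes, ← IsScalarTower.algebraMap_apply]

lemma φ1_v : φ1 R 𝐯 = ι 𝐯 := by
  simp [φ1_X, vals1, vb, vf]

lemma I1_le_ker : span ({𝐮, 𝐪₁} : Set (D R)) ≤ RingHom.ker (φ1 R) := by
  have hV := ιV_ne R
  intro x hx
  obtain ⟨s, t, rfl⟩ := mem_span2.mp hx
  rw [RingHom.mem_ker]
  have h1 : φ1 R 𝐮 = 0 := by simp [φ1_X, vals1, va, vi]
  have h2 : φ1 R 𝐪₁ = 0 := by
    simp only [map_add, map_neg, map_mul, φ1_X, vals1, va, vb, vc, vd, ve, vf, vg, vh, vi]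
    simp
    field_simp
    ring
  rw [map_add, map_mul, map_mul, h1, h2]
  simp

lemma hX1 : ∀ j : Fin 9, ∃ N : ℕ, ∃ G : D R, φ1 R G = ι G ∧
    𝐯 ^ N * X j - G ∈ span ({𝐮, 𝐪₁} : Set (D R)) := by
  intro j
  fin_cases j
  · refine ⟨0, vi, by simp [φ1_X, vals1, vi], ?_⟩
    exact mem_span2.mpr ⟨1, 0, by simp [va, vi]⟩
  · exact fixed_case _ _ _ _ _ (by simp [φ1_X, vals1])
  · exact fixed_case _ _ _ _ _ (by simp [φ1_X, vals1])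
  · exact fixed_case _ _ _ _ _ (by simp [φ1_X, vals1])
  · exact fixed_case _ _ _ _ _ (by simp [φ1_X, vals1])
  · exact fixed_case _ _ _ _ _ (by simp [φ1_X, vals1])
  · refine ⟨1, vi * 𝐰, by simp [φ1_X, vals1, vi, vd, vh], ?_⟩
    exact mem_span2.mpr ⟨0, -1, by simp [vg, vb, vf, vi, vd, vh]; ring⟩
  · exact fixed_case _ _ _ _ _ (by simp [φ1_X, vals1])
  · exact fixed_case _ _ _ _ _ (by simp [φ1_X, vals1])

theorem I1_eq_ker : span ({𝐮, 𝐪₁} : Set (D R)) = RingHom.ker (φ1 R) := by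
  refine eq_ker_of_loc (span ({𝐮, 𝐪₁} : Set (D R))) (span ({𝐮, 𝐪₁} : Set (D R))) ⊤ 𝐯 (φ1 R)
    le_rfl Submodule.mem_top inf_le_left ?_ (I1_le_ker R) ?_ ?_
  · exact colon1 𝐮 𝐯 𝐰 vg vi (P1_prime R) (P2_prime R) (v_not_mem_P1 R) (i_not_mem_P2 R)
      (w_not_mem_P2 R)
  · rw [φ1_v]
    intro h
    exact v_ne R (ι_inj R (h.trans (map_zero _).symm))
  · exact elim_ker _ _ (φ1 R) (algebraMap (D R) (KK R)) (ι_inj R) (I1_le_ker R) (φ1_C R)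
      (φ1_v R) (hX1 R)

lemma I1_prime : (span ({𝐮, 𝐪₁} : Set (D R))).IsPrime := by
  rw [I1_eq_ker]; exact RingHom.ker_isPrime _

lemma q2_not_mem_I1 : 𝐪₂ ∉ span ({𝐮, 𝐪₁} : Set (D R)) := by
  rw [I1_eq_ker, RingHom.mem_ker]
  have h : φ1 R 𝐪₂ = ι 𝐪₂ := by simp [φ1_X, vals1, vh, vb, vf, vd]
  rw [h]
  intro h'
  exact q2_ne R (ι_inj R (h'.trans (map_zero _).symm))

/-! ### Level 2 -/

noncomputable def vals2 : Fin 9 → KK R :=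
  ![ι (X 8), ι (X 1), ι (X 2),
    (ι (X 3) + ι (X 7)) - ι (X 1) * (ι (X 3) + ι (X 7)) / (ι (X 1) + ι (X 5)),
    ι (X 4), ι (X 5),
    ι (X 8) * (ι (X 3) + ι (X 7)) / (ι (X 1) + ι (X 5)),
    ι (X 1) * (ι (X 3) + ι (X 7)) / (ι (X 1) + ι (X 5)), ι (X 8)]

noncomputable def φ2 : D R →+* KK R := ((aeval (vals2 R) : D R →ₐ[R] KK R) : D R →+* KK R)

lemma φ2_X (j : Fin 9) : φ2 R (X j) = vals2 R j := by simp [φ2]

lemma φ2_C (r : R) : φ2 R (C r) = ι (C r) := by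
  show (aeval (vals2 R) : D R →ₐ[R] KK R) (C r) = _
  rw [← MvPolynomial.algebraMap_eq, AlgHom.commutes, ← IsScalarTower.algebraMap_apply]

lemma φ2_v : φ2 R 𝐯 = ι 𝐯 := by
  simp [φ2_X, vals2, vb, vf]

lemma φ2_w : φ2 R 𝐰 = ι 𝐰 := by
  simp [φ2_X, vals2, vd, vh]

lemma I2_le_ker : span ({𝐮, 𝐪₁, 𝐪₂} : Set (D R)) ≤ RingHom.ker (φ2 R) := by
  have hV := ιV_ne R
  intro x hx
  obtain ⟨s, t, k, rfl⟩ := mem_span3.mp hx
  rw [RingHom.mem_ker]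
  have h1 : φ2 R 𝐮 = 0 := by simp [φ2_X, vals2, va, vi]
  have h2 : φ2 R 𝐪₁ = 0 := by
    simp only [map_add, map_neg, map_mul, φ2_X, vals2, va, vb, vc, vd, ve, vf, vg, vh, vi]
    simp
    field_simp
    ring
  have h3 : φ2 R 𝐪₂ = 0 := by
    simp only [map_add, map_neg, map_mul, φ2_X, vals2, va, vb, vc, vd, ve, vf, vg, vh, vi]
    simp
    field_simp
    ring
  rw [map_add, map_add, map_mul, map_mul, map_mul, h1, h2, h3]
  simp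

lemma hX2 : ∀ j : Fin 9, ∃ N : ℕ, ∃ G : D R, φ2 R G = ι G ∧
    𝐯 ^ N * X j - G ∈ span ({𝐮, 𝐪₁, 𝐪₂} : Set (D R)) := by
  intro j
  fin_cases j
  · refine ⟨0, vi, by simp [φ2_X, vals2, vi], ?_⟩
    exact mem_span3.mpr ⟨1, 0, 0, by simp [va, vi]⟩
  · exact fixed_case _ _ _ _ _ (by simp [φ2_X, vals2])
  · exact fixed_case _ _ _ _ _ (by simp [φ2_X, vals2])
  · refine ⟨1, 𝐯 * 𝐰 - vb * 𝐰, ?_, ?_⟩
    · rw [map_sub, map_mul, map_mul, φ2_v, φ2_w]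
      simp [φ2_X, vals2, vb]
    · exact mem_span3.mpr ⟨0, 0, 1, by simp [vg, vb, vf, vi, vd, vh]; ring⟩
  · exact fixed_case _ _ _ _ _ (by simp [φ2_X, vals2])
  · exact fixed_case _ _ _ _ _ (by simp [φ2_X, vals2])
  · refine ⟨1, vi * 𝐰, ?_, ?_⟩
    · rw [map_mul, map_mul, φ2_w]
      simp [φ2_X, vals2, vi]
    · exact mem_span3.mpr ⟨0, -1, 0, by simp [vg, vb, vf, vi, vd, vh]; ring⟩
  · refine ⟨1, vb * 𝐰, ?_, ?_⟩
    · rw [map_mul, map_mul, φ2_w]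
      simp [φ2_X, vals2, vb]
    · exact mem_span3.mpr ⟨0, 0, -1, by simp [vg, vb, vf, vi, vd, vh]; ring⟩
  · exact fixed_case _ _ _ _ _ (by simp [φ2_X, vals2])

theorem J2_eq_ker : span ({𝐮, 𝐪₁, 𝐪₂, 𝐦} : Set (D R)) = RingHom.ker (φ2 R) := by
  refine eq_ker_of_loc (span ({𝐮, 𝐪₁, 𝐪₂} : Set (D R))) (span ({𝐮, 𝐪₁, 𝐪₂, 𝐦} : Set (D R)))
    (span ({𝐮, 𝐯, 𝐰} : Set (D R))) 𝐯 (φ2 R) ?_ ?_ ?_ ?_ (I2_le_ker R) ?_ ?_
  · intro x hx
    obtain ⟨s, t, k, rfl⟩ := mem_span3.mp hx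
    exact mem_span4.mpr ⟨s, t, k, 0, by ring⟩
  · exact mem_span3.mpr ⟨0, 1, 0, by ring⟩
  · exact inter2 𝐮 𝐯 𝐰 vb vg vh vi (P4_prime R) (m_not_mem_P4 R)
  · exact colon2 𝐮 𝐯 𝐰 vb vg vh vi (P1_prime R) (P2_prime R) (P3_prime R) (v_not_mem_P1 R)
      (i_not_mem_P2 R) (w_not_mem_P2 R) (b_not_mem_P3 R)
  · rw [φ2_v]
    intro h
    exact v_ne R (ι_inj R (h.trans (map_zero _).symm))
  · exact elim_ker _ _ (φ2 R) (algebraMap (D R) (KK R)) (ι_inj R) (I2_le_ker R) (φ2_C R)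
      (φ2_v R) (hX2 R)

lemma J2_prime : (span ({𝐮, 𝐪₁, 𝐪₂, 𝐦} : Set (D R))).IsPrime := by
  rw [J2_eq_ker]; exact RingHom.ker_isPrime _

lemma q3_not_mem_J2 : 𝐪₃ ∉ span ({𝐮, 𝐪₁, 𝐪₂, 𝐦} : Set (D R)) := by
  rw [J2_eq_ker, RingHom.mem_ker]
  have h : φ2 R 𝐪₃ = ι 𝐪₃ := by
    rw [map_add, map_neg, map_mul, map_mul, φ2_v, φ2_w]
    simp [φ2_X, vals2, vi, vc]
  rw [h]
  intro h'
  exact q3_ne R (ι_inj R (h'.trans (map_zero _).symm))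

/-! ### Level 3 -/

noncomputable def H3 : KK R :=
  (ι (X 6) * (ι (X 1) + ι (X 5)) - ι (X 8) * (ι (X 3) + ι (X 7))) / (ι (X 0) - ι (X 8))

noncomputable def B3 : KK R :=
  ((ι (X 0) - ι (X 8)) * (ι (X 1) + ι (X 5)) + ι (X 8) * (ι (X 1) + ι (X 5)) -
    ι (X 2) * (ι (X 3) + ι (X 7))) / (ι (X 0) - ι (X 8))

noncomputable def E3 : KK R :=
  (B3 R * (ι (X 3) + ι (X 7)) - H3 R * (ι (X 1) + ι (X 5))) / (ι (X 0) - ι (X 8))

noncomputable def vals3 : Fin 9 → KK R :=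
  ![ι (X 0), B3 R, ι (X 2), (ι (X 3) + ι (X 7)) - H3 R, E3 R, (ι (X 1) + ι (X 5)) - B3 R,
    ι (X 6), H3 R, ι (X 8)]

noncomputable def φ3 : D R →+* KK R := ((aeval (vals3 R) : D R →ₐ[R] KK R) : D R →+* KK R)

lemma φ3_X (j : Fin 9) : φ3 R (X j) = vals3 R j := by simp [φ3]

lemma φ3_C (r : R) : φ3 R (C r) = ι (C r) := by
  show (aeval (vals3 R) : D R →ₐ[R] KK R) (C r) = _
  rw [← MvPolynomial.algebraMap_eq, AlgHom.commutes, ← IsScalarTower.algebraMap_apply]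

lemma φ3_u : φ3 R 𝐮 = ι 𝐮 := by
  simp [φ3_X, vals3, va, vi]

lemma φ3_v : φ3 R 𝐯 = ι 𝐯 := by
  simp [φ3_X, vals3, vb, vf]

lemma φ3_w : φ3 R 𝐰 = ι 𝐰 := by
  simp [φ3_X, vals3, vd, vh]

lemma φ3_Q1 : φ3 R (Q1 R) = 0 := by
  have hU := ιU_ne R
  simp only [Q1, map_add, map_sub, map_neg, map_mul, φ3_X, vals3, va, vb, vc, vd, ve, vf, vg,
    vh, vi]
  simp
  simp only [H3, B3, E3]
  field_simp
  ring

lemma φ3_Q2 : φ3 R (Q2 R) = 0 := by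
  have hU := ιU_ne R
  simp only [Q2, map_add, map_sub, map_neg, map_mul, φ3_X, vals3, va, vb, vc, vd, ve, vf, vg,
    vh, vi]
  simp
  simp only [H3, B3, E3]
  field_simp
  ring

lemma φ3_Q3 : φ3 R (Q3 R) = 0 := by
  have hU := ιU_ne R
  simp only [Q3, map_add, map_sub, map_neg, map_mul, φ3_X, vals3, va, vb, vc, vd, ve, vf, vg,
    vh, vi]
  simp
  simp only [H3, B3, E3]
  field_simp
  ring

lemma I3_le_ker : idI R ≤ RingHom.ker (φ3 R) := by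
  rw [idI, Ideal.span_le]
  intro x hx
  simp only [Set.mem_insert_iff, Set.mem_singleton_iff] at hx
  rw [SetLike.mem_coe, RingHom.mem_ker]
  rcases hx with rfl | rfl | rfl
  · exact φ3_Q1 R
  · exact φ3_Q2 R
  · exact φ3_Q3 R

lemma hX3 : ∀ j : Fin 9, ∃ N : ℕ, ∃ G : D R, φ3 R G = ι G ∧
    𝐮 ^ N * X j - G ∈ span ({Q1 R, Q2 R, Q3 R} : Set (D R)) := by
  intro j
  fin_cases j
  · exact fixed_case _ _ _ _ _ (by simp [φ3_X, vals3])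
  · refine ⟨1, 𝐮 * 𝐯 + vi * 𝐯 - vc * 𝐰, ?_, ?_⟩
    · rw [map_sub, map_add, map_mul, map_mul, map_mul, φ3_u, φ3_v, φ3_w]
      simp [φ3_X, vals3, vi, vc]
    · exact mem_span3.mpr ⟨0, 0, 1, by
        simp [Q3, va, vb, vc, vd, ve, vf, vg, vh, vi]; ring⟩
  · exact fixed_case _ _ _ _ _ (by simp [φ3_X, vals3])
  · refine ⟨1, 𝐮 * 𝐰 - vg * 𝐯 + vi * 𝐰, ?_, ?_⟩
    · rw [map_add, map_sub, map_mul, map_mul, map_mul, φ3_u, φ3_v, φ3_w]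
      simp [φ3_X, vals3, vi, vg]
    · exact mem_span3.mpr ⟨-1, 0, 0, by
        simp [Q1, va, vb, vc, vd, ve, vf, vg, vh, vi]; ring⟩
  · refine ⟨2, -((vg * 𝐯 - vi * 𝐰) * 𝐯) + (𝐮 * 𝐯 + vi * 𝐯 - vc * 𝐰) * 𝐰, ?_, ?_⟩
    · simp only [map_add, map_sub, map_neg, map_mul, φ3_u, φ3_v, φ3_w]
      simp [φ3_X, vals3, vi, vg, vc]
    · exact mem_span3.mpr ⟨-𝐯, -𝐮, 𝐰, by
        simp [Q1, Q2, Q3, va, vb, vc, vd, ve, vf, vg, vh, vi]; ring⟩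
  · refine ⟨1, -(vi * 𝐯) + vc * 𝐰, ?_, ?_⟩
    · rw [map_add, map_neg, map_mul, map_mul, φ3_v, φ3_w]
      simp [φ3_X, vals3, vi, vc]
    · exact mem_span3.mpr ⟨0, 0, -1, by
        simp [Q3, va, vb, vc, vd, ve, vf, vg, vh, vi]; ring⟩
  · exact fixed_case _ _ _ _ _ (by simp [φ3_X, vals3])
  · refine ⟨1, vg * 𝐯 - vi * 𝐰, ?_, ?_⟩
    · rw [map_sub, map_mul, map_mul, φ3_v, φ3_w]
      simp [φ3_X, vals3, vi, vg]
    · exact mem_span3.mpr ⟨1, 0, 0, by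
        simp [Q1, va, vb, vc, vd, ve, vf, vg, vh, vi]; ring⟩
  · exact fixed_case _ _ _ _ _ (by simp [φ3_X, vals3])

lemma colon3_conc : ∀ F : D R, L1 R * F ∈ idI R → F ∈ idJ R := by
  have key := colon3 (D := D R) 𝐮 (Q1 R) (Q2 R) (Q3 R) 𝐪₁ 𝐪₂ 𝐪₃ 𝐦 (detM R)
    vh (-ve) (-vf) (vb * vi - vh * vc) (vg * vc - vi ^ 2) (u_ne R)
    (by simp only [Q1]; ring) (by simp only [Q2]; ring) (by simp only [Q3]; ring)
    (by simp only [Q1, Q2, Q3, detM]; ring)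
    (P1_prime R) (q1_not_mem_P1 R) (I1_prime R) (q2_not_mem_I1 R) (J2_prime R)
    (q3_not_mem_J2 R)
  intro F hF
  exact key F hF

theorem idJ_eq_ker : idJ R = RingHom.ker (φ3 R) := by
  refine eq_ker_of_loc (idI R) (idJ R) (idL R) (L1 R) (φ3 R) ?_ (Lie3Mod9.L1_mem_L R)
    (Lie3Mod9.inter_eq R).ge (colon3_conc R) (I3_le_ker R) ?_ ?_
  · rw [Lie3Mod9.idJ_eq]; exact le_sup_left
  · have h : φ3 R (L1 R) = ι 𝐮 := φ3_u R
    rw [h]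
    intro h'
    exact u_ne R (ι_inj R (h'.trans (map_zero _).symm))
  · have := elim_ker (span ({Q1 R, Q2 R, Q3 R} : Set (D R))) 𝐮 (φ3 R)
      (algebraMap (D R) (KK R)) (ι_inj R) (I3_le_ker R) (φ3_C R) (φ3_u R) (hX3 R)
    exact this

theorem idJ_isPrime : (idJ R).IsPrime := by
  rw [idJ_eq_ker]; exact RingHom.ker_isPrime _

lemma L1_not_mem_idJ : L1 R ∉ idJ R := by
  rw [idJ_eq_ker, RingHom.mem_ker]
  have h : φ3 R (L1 R) = ι 𝐮 := φ3_u R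
  rw [h]
  intro h'
  exact u_ne R (ι_inj R (h'.trans (map_zero _).symm))

lemma idI_le_idJ : idI R ≤ idJ R := by
  rw [Lie3Mod9.idJ_eq]; exact le_sup_left

theorem idJ_mem_minimalPrimes : idJ R ∈ (idI R).minimalPrimes := by
  refine ⟨⟨idJ_isPrime R, idI_le_idJ R⟩, ?_⟩
  rintro q ⟨hqp, hIq⟩ hqJ
  have hL1 : L1 R ∉ q := fun h => L1_not_mem_idJ R (hqJ h)
  rw [Lie3Mod9.idJ_eq]
  apply sup_le hIq
  rw [Ideal.span_le]
  intro x hx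
  rw [Set.mem_singleton_iff] at hx
  subst hx
  exact (hqp.mem_or_mem (hIq (Lie3Mod9.det_mul_mem R _ (Lie3Mod9.L1_mem_L R)))).resolve_right hL1

lemma idL_isPrime : (idL R).IsPrime := P4_prime R

end concrete

/-! ### Flatness over the integers -/

lemma flat_int_quotient {S : Type*} [CommRing S] (I : Ideal S)
    (h : ∀ (n : ℤ) (p : S), n ≠ 0 → (n : S) * p ∈ I → p ∈ I) : Module.Flat ℤ (S ⧸ I) := by
  rw [Module.Flat.flat_iff_torsion_eq_bot_of_isBezout, eq_bot_iff]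
  intro x hx
  rw [Submodule.mem_torsion_iff] at hx
  obtain ⟨⟨n, hn⟩, hnx⟩ := hx
  rw [Submodule.mem_bot]
  obtain ⟨p, rfl⟩ := Ideal.Quotient.mk_surjective x
  have hn0 : n ≠ 0 := nonZeroDivisors.ne_zero hn
  have h1 : (n : S) * p ∈ I := by
    rw [← Ideal.Quotient.eq_zero_iff_mem, map_mul, map_intCast]
    have h2 : (n : ℤ) • (Ideal.Quotient.mk I p) = 0 := hnx
    rwa [zsmul_eq_mul] at h2
  exact Ideal.Quotient.eq_zero_iff_mem.mpr (h n p hn0 h1)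

lemma intCast_not_mem_idJ (n : ℤ) (hn : n ≠ 0) : ((n : ℤ) : D ℤ) ∉ idJ ℤ := by
  rw [idJ_eq_ker, RingHom.mem_ker, map_intCast]
  intro h
  have h2 : (algebraMap (D ℤ) (KK ℤ)) ((n : ℤ) : D ℤ) = 0 := by rw [map_intCast]; exact h
  have h3 := ι_inj ℤ (h2.trans (map_zero _).symm)
  exact hn (by exact_mod_cast h3)

lemma intCast_not_mem_idL (n : ℤ) (hn : n ≠ 0) : ((n : ℤ) : D ℤ) ∉ idL ℤ := by
  intro h
  have h1 := P4_zero ℤ _ h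
  rw [map_intCast] at h1
  exact hn (by exact_mod_cast h1)

theorem flat_J : Module.Flat ℤ (D ℤ ⧸ idJ ℤ) := by
  apply flat_int_quotient
  intro n p hn h
  exact ((idJ_isPrime ℤ).mem_or_mem h).resolve_left (intCast_not_mem_idJ n hn)

theorem flat_I : Module.Flat ℤ (D ℤ ⧸ idI ℤ) := by
  apply flat_int_quotient
  intro n p hn h
  rw [Lie3Mod9.inter_eq] at h ⊢
  exact ⟨((idJ_isPrime ℤ).mem_or_mem h.1).resolve_left (intCast_not_mem_idJ n hn),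
    ((idL_isPrime ℤ).mem_or_mem h.2).resolve_left (intCast_not_mem_idL n hn)⟩

theorem radical_I : (idI ℤ).IsRadical := by
  rw [Lie3Mod9.inter_eq]
  exact (idJ_isPrime ℤ).isRadical.inf (idL_isPrime ℤ).isRadical

end Groth.Agent.Lib.Lie3H4
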