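import Mathlib
import Groth.Agent.Lib.Lie3Conc_helper4
import Groth.Agent.Lib.Regular_helper5

/-!
# `(I : L) = J` for the Lie3Mod ideals over a regular ring (helper4)

Reduction to the domain case by localising the base ring at its maximal ideals.
-/

namespace Groth.Agent.Lib.Lie3ColonH4

open MvPolynomial Lie3Mod Ideal Groth.Agent.Lib.Lie3AbsH4

attribute [local instance] MvPolynomial.algebraMvPolynomial

universe u

section maps
variable {A : Type*} [CommRing A] {S : Type*} [CommRing S] (f : A →+* S)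

lemma map_Q1 : MvPolynomial.map f (Q1 A) = Q1 S := by
  simp [Q1, va, vb, vc, vd, ve, vf, vg, vh, vi]
lemma map_Q2 : MvPolynomial.map f (Q2 A) = Q2 S := by
  simp [Q2, va, vb, vc, vd, ve, vf, vg, vh, vi]
lemma map_Q3 : MvPolynomial.map f (Q3 A) = Q3 S := by
  simp [Q3, va, vb, vc, vd, ve, vf, vg, vh, vi]
lemma map_detM : MvPolynomial.map f (detM A) = detM S := by
  simp [detM, va, vb, vc, vd, ve, vf, vg, vh, vi]
lemma map_L1 : MvPolynomial.map f (L1 A) = L1 S := by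
  simp [L1, va, vi]

end maps

theorem mem_idJ_of_L1_mul (A : Type u) [CommRing A] [IsRegularRing A] (x : D A)
    (hx : L1 A * x ∈ idI A) : x ∈ idJ A := by
  by_contra hxJ
  let 𝔞 : Ideal A := Ideal.comap (C : A →+* D A) ((idJ A).colon ({x} : Set (D A)))
  have h𝔞 : ∀ s, s ∈ 𝔞 ↔ C s * x ∈ idJ A := by
    intro s
    simp only [𝔞, Ideal.mem_comap, Submodule.mem_colon_singleton, smul_eq_mul]
  have hne : 𝔞 ≠ ⊤ := by
    intro h
    have h1 : (1 : A) ∈ 𝔞 := by rw [h]; trivial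
    rw [h𝔞] at h1
    simp only [C_1, one_mul] at h1
    exact hxJ h1
  obtain ⟨𝔪, h𝔪, hle⟩ := Ideal.exists_le_maximal 𝔞 hne
  haveI : 𝔪.IsPrime := h𝔪.isPrime
  haveI : IsDomain (Localization.AtPrime 𝔪) :=
    Groth.Agent.RegularLib.isDomain (Localization.AtPrime 𝔪)
  set ψ : D A →+* D (Localization.AtPrime 𝔪) :=
    MvPolynomial.map (algebraMap A (Localization.AtPrime 𝔪)) with hψ
  have h1 : L1 (Localization.AtPrime 𝔪) * ψ x ∈ idI (Localization.AtPrime 𝔪) := by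
    obtain ⟨p1, p2, p3, hp⟩ :=
      mem_span3.mp (show L1 A * x ∈ span ({Q1 A, Q2 A, Q3 A} : Set (D A)) from hx)
    have h2 := congrArg ψ hp
    rw [map_mul, map_add, map_add, map_mul, map_mul, map_mul] at h2
    rw [hψ] at h2
    rw [map_L1, map_Q1, map_Q2, map_Q3] at h2
    rw [hψ, h2]
    exact mem_span3.mpr ⟨_, _, _, rfl⟩
  have h2 := Groth.Agent.Lib.Lie3H4.colon3_conc (Localization.AtPrime 𝔪) _ h1
  obtain ⟨c1, c2, c3, c4, hc⟩ := mem_span4.mp
    (show ψ x ∈ span ({Q1 (Localization.AtPrime 𝔪), Q2 (Localization.AtPrime 𝔪),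
      Q3 (Localization.AtPrime 𝔪), detM (Localization.AtPrime 𝔪)} :
        Set (D (Localization.AtPrime 𝔪))) from h2)
  have hsurj : ∀ c : D (Localization.AtPrime 𝔪), ∃ (y : D A) (s : A), s ∈ 𝔪.primeCompl ∧
      c * ψ (C s) = ψ y := by
    intro c
    obtain ⟨⟨y, ⟨m, hm⟩⟩, h⟩ :=
      IsLocalization.surj (Submonoid.map (C : A →+* D A) 𝔪.primeCompl) c
    obtain ⟨s, hs, rfl⟩ := hm
    exact ⟨y, s, hs, h⟩
  obtain ⟨y1, s1, hs1, e1⟩ := hsurj c1
  obtain ⟨y2, s2, hs2, e2⟩ := hsurj c2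
  obtain ⟨y3, s3, hs3, e3⟩ := hsurj c3
  obtain ⟨y4, s4, hs4, e4⟩ := hsurj c4
  obtain ⟨z, hz⟩ : ∃ z, z = y1 * (C s2 * C s3 * C s4) * Q1 A + y2 * (C s1 * C s3 * C s4) * Q2 A +
      y3 * (C s1 * C s2 * C s4) * Q3 A + y4 * (C s1 * C s2 * C s3) * detM A := ⟨_, rfl⟩
  have hzJ : z ∈ idJ A := by
    rw [hz]
    exact mem_span4.mpr ⟨_, _, _, _, rfl⟩
  have e : ψ (C s1 * C s2 * C s3 * C s4 * x - z) = 0 := by
    rw [map_sub, map_mul, hc, hz]
    simp only [map_add, map_mul]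
    rw [← e1, ← e2, ← e3, ← e4]
    rw [hψ, map_Q1, map_Q2, map_Q3, map_detM]
    ring
  have e' : algebraMap (D A) (D (Localization.AtPrime 𝔪))
      (C s1 * C s2 * C s3 * C s4 * x - z) = 0 := e
  obtain ⟨⟨m, hm⟩, hm0⟩ := (IsLocalization.map_eq_zero_iff
    (Submonoid.map (C : A →+* D A) 𝔪.primeCompl) (D (Localization.AtPrime 𝔪)) _).mp e'
  obtain ⟨t, ht, rfl⟩ := hm
  have hm0' : C t * (C s1 * C s2 * C s3 * C s4 * x - z) = 0 := hm0
  have hmem : C (t * (s1 * s2 * s3 * s4)) * x ∈ idJ A := by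
    have e3 : C (t * (s1 * s2 * s3 * s4)) * x = C t * z := by
      simp only [map_mul]
      linear_combination hm0'
    rw [e3]
    exact Ideal.mul_mem_left _ _ hzJ
  have hin : t * (s1 * s2 * s3 * s4) ∈ 𝔪 := hle ((h𝔞 _).mpr hmem)
  exact (𝔪.primeCompl.mul_mem ht (mul_mem (mul_mem (mul_mem hs1 hs2) hs3) hs4)) hin

theorem colon_L_eq (A : Type u) [CommRing A] [IsRegularRing A] :
    (idI A).colon (idL A : Set (D A)) = idJ A := by
  ext x
  rw [Submodule.mem_colon]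
  constructor
  · intro h
    have h1 := h (L1 A) (Lie3Mod9.L1_mem_L A)
    rw [smul_eq_mul, mul_comm] at h1
    exact mem_idJ_of_L1_mul A x h1
  · intro hx p hp
    have h1 : p ∈ (idI A).colon (idJ A : Set (D A)) := by
      rw [Lie3Mod9.colon_J_eq]; exact hp
    rw [Submodule.mem_colon] at h1
    have h2 := h1 x hx
    rw [smul_eq_mul] at h2 ⊢
    rw [mul_comm]; exact h2

end Groth.Agent.Lib.Lie3ColonH4
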