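import Mathlib
import Groth.Prelude.Def_W4c1bouilletffgsL3

set_option autoImplicit false
set_option maxHeartbeats 1000000
set_option maxSynthPendingDepth 4

namespace Groth.Agent.Lib.Lie3RegH1

open Polynomial

universe u

section general
variable {S : Type*} [CommRing S]

/-- `x` is a nonzerodivisor modulo the ideal `I`. -/
def Reg (I : Ideal S) (x : S) : Prop := ∀ p, x * p ∈ I → p ∈ I

lemma Reg.neg {I : Ideal S} {x : S} (h : Reg I x) : Reg I (-x) := by
  intro p hp
  apply h
  have : x * p = -((-x) * p) := by ring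
  rw [this]
  exact I.neg_mem hp

lemma Reg.constC {I : Ideal S} {v : S} (h : Reg I v) :
    Reg (I.map (C : S →+* S[X])) (C v) := by
  intro p hp
  rw [Ideal.mem_map_C_iff] at hp ⊢
  intro n
  apply h
  have := hp n
  rwa [coeff_C_mul] at this

lemma Reg.linC {I : Ideal S} {u : S} (γ : S) (h : Reg I u) :
    Reg (I.map (C : S →+* S[X])) (C u * X + C γ) := by
  intro p hp
  rw [Ideal.mem_map_C_iff] at hp ⊢
  have key : ∀ n, u * p.coeff n + γ * p.coeff (n + 1) ∈ I := by
    intro n
    have := hp (n + 1)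
    have e : ((C u * X + C γ) * p).coeff (n + 1) = u * p.coeff n + γ * p.coeff (n + 1) := by
      rw [add_mul, mul_assoc, coeff_add, coeff_C_mul, coeff_C_mul, coeff_X_mul]
    rwa [e] at this
  have main : ∀ k n, p.natDegree + 1 ≤ n + k → p.coeff n ∈ I := by
    intro k
    induction k with
    | zero =>
      intro n hn
      rw [coeff_eq_zero_of_natDegree_lt (by omega)]
      exact I.zero_mem
    | succ k ih =>
      intro n hn
      have h1 : p.coeff (n + 1) ∈ I := ih (n + 1) (by omega)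
      apply h
      have h2 := key n
      have : u * p.coeff n = (u * p.coeff n + γ * p.coeff (n + 1)) - γ * p.coeff (n + 1) := by
        ring
      rw [this]
      exact I.sub_mem h2 (I.mul_mem_left _ h1)
  intro n
  exact main (p.natDegree + 1) n (by omega)

lemma Reg.swap {I : Ideal S} {x y : S} (hx : Reg I x) (hy : Reg (I ⊔ Ideal.span {x}) y) :
    Reg (I ⊔ Ideal.span {y}) x := by
  intro p hp
  obtain ⟨i, hi, z, hz, hiz⟩ := Submodule.mem_sup.mp hp
  obtain ⟨q, rfl⟩ := Ideal.mem_span_singleton'.mp hz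
  have h1 : y * q ∈ I ⊔ Ideal.span {x} := by
    have : y * q = x * p - i := by rw [← hiz]; ring
    rw [this]
    exact Ideal.sub_mem _
      (Ideal.mem_sup_right (Ideal.mul_mem_right _ _ (Ideal.mem_span_singleton_self x)))
      (Ideal.mem_sup_left hi)
  obtain ⟨i', hi', z', hz', hq⟩ := Submodule.mem_sup.mp (hy q h1)
  obtain ⟨q', rfl⟩ := Ideal.mem_span_singleton'.mp hz'
  have h2 : p - q' * y ∈ I := by
    apply hx
    have : x * (p - q' * y) = i + i' * y := by
      linear_combination -hiz - y * hq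
    rw [this]
    exact I.add_mem hi (I.mul_mem_right _ hi')
  have : p = (p - q' * y) + q' * y := by ring
  rw [this]
  exact Ideal.add_mem _ (Ideal.mem_sup_left h2)
    (Ideal.mem_sup_right (Ideal.mul_mem_left _ _ (Ideal.mem_span_singleton_self y)))

lemma xreg {σ R : Type*} [CommRing R] (s : Set σ) (j : σ) (hj : j ∉ s) :
    Reg (Ideal.span ((MvPolynomial.X : σ → MvPolynomial σ R) '' s)) (MvPolynomial.X j) := by
  classical
  intro p hp
  rw [MvPolynomial.mem_ideal_span_X_image] at hp ⊢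
  intro m hm
  have hm' : Finsupp.single j 1 + m ∈ (MvPolynomial.X j * p).support := by
    rw [MvPolynomial.mem_support_iff, MvPolynomial.coeff_X_mul]
    exact MvPolynomial.mem_support_iff.mp hm
  obtain ⟨i, his, hi⟩ := hp _ hm'
  refine ⟨i, his, ?_⟩
  have hij : i ≠ j := fun h => hj (h ▸ his)
  rw [Finsupp.add_apply, Finsupp.single_apply, if_neg (Ne.symm hij), zero_add] at hi
  exact hi

lemma xreg0 {σ R : Type*} [CommRing R] (j : σ) :
    Reg (⊥ : Ideal (MvPolynomial σ R)) (MvPolynomial.X j) := by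
  have := xreg (R := R) (∅ : Set σ) j (by simp)
  rwa [Set.image_empty, Ideal.span_empty] at this

lemma xreg1 {σ R : Type*} [CommRing R] (k j : σ) (hk : j ≠ k) :
    Reg (Ideal.span {(MvPolynomial.X k : MvPolynomial σ R)}) (MvPolynomial.X j) := by
  have := xreg (R := R) ({k} : Set σ) j (by simpa using hk)
  rwa [Set.image_singleton] at this

lemma xreg2 {σ R : Type*} [CommRing R] (k l j : σ) (hk : j ≠ k) (hl : j ≠ l) :
    Reg (Ideal.span {(MvPolynomial.X k : MvPolynomial σ R)} ⊔ Ideal.span {MvPolynomial.X l})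
      (MvPolynomial.X j) := by
  have := xreg (R := R) ({k, l} : Set σ) j (by simp [hk, hl])
  rwa [Set.image_pair, Ideal.span_insert] at this

lemma Reg.transfer {D T : Type*} [CommRing D] [CommRing T] (φ : D →+* T) (ψ : T →+* D)
    (hψφ : ∀ x, ψ (φ x) = x) (I : Ideal D) (x : D) (h : Reg (I.map φ) (φ x)) : Reg I x := by
  intro p hp
  have h1 : φ p ∈ I.map φ := by
    apply h
    rw [← map_mul]
    exact Ideal.mem_map_of_mem φ hp
  have h2 : ψ (φ p) ∈ (I.map φ).map ψ := Ideal.mem_map_of_mem ψ h1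
  rw [hψφ, Ideal.map_map] at h2
  have : ψ.comp φ = RingHom.id D := RingHom.ext hψφ
  rwa [this, Ideal.map_id] at h2

lemma smul_top_eq (I : Ideal S) : (I • (⊤ : Submodule S S) : Submodule S S) = I := by
  simp

lemma isRegular3 (x y z : S) (h1 : Reg ⊥ x) (h2 : Reg (Ideal.span {x}) y)
    (h3 : Reg (Ideal.span {x} ⊔ Ideal.span {y}) z)
    (h4 : Ideal.span {x} ⊔ (Ideal.span {y} ⊔ Ideal.span {z}) ≠ ⊤) :
    RingTheory.Sequence.IsRegular S [x, y, z] := by
  refine ⟨⟨fun i hi => ?_⟩, ?_⟩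
  · match i, hi with
    | 0, _ =>
      change IsSMulRegular (S ⧸ (Ideal.ofList ([] : List S) • ⊤ : Submodule S S)) x
      rw [isSMulRegular_quotient_iff_mem_of_smul_mem, smul_top_eq, Ideal.ofList_nil]
      exact h1
    | 1, _ =>
      change IsSMulRegular (S ⧸ (Ideal.ofList [x] • ⊤ : Submodule S S)) y
      rw [isSMulRegular_quotient_iff_mem_of_smul_mem, smul_top_eq, Ideal.ofList_singleton]
      exact h2
    | 2, _ =>
      change IsSMulRegular (S ⧸ (Ideal.ofList [x, y] • ⊤ : Submodule S S)) z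
      rw [isSMulRegular_quotient_iff_mem_of_smul_mem, smul_top_eq, Ideal.ofList_cons,
        Ideal.ofList_singleton]
      exact h3
    | (n + 3), h => exact absurd h (by simp)
  · rw [smul_top_eq, Ideal.ofList_cons, Ideal.ofList_cons, Ideal.ofList_singleton]
    exact fun h => h4 h.symm

lemma mapC_span {R : Type*} [CommRing R] (x : R) :
    (Ideal.span {x}).map (C : R →+* R[X]) = Ideal.span {C x} := by
  rw [Ideal.map_span, Set.image_singleton]

end general

section specific
variable (A : Type u) [CommRing A]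

open Lie3Mod

local notation "T0A" => MvPolynomial (Fin 6) A
local notation "T1A" => Polynomial (MvPolynomial (Fin 6) A)
local notation "T2A" => Polynomial (Polynomial (MvPolynomial (Fin 6) A))
local notation "T3A" => Polynomial (Polynomial (Polynomial (MvPolynomial (Fin 6) A)))

noncomputable def c3 : T0A →+* T3A :=
  (C : T2A →+* T3A).comp ((C : T1A →+* T2A).comp (C : T0A →+* T1A))

noncomputable def vv : Fin 9 → T3A :=
  ![c3 A (MvPolynomial.X 0), c3 A (MvPolynomial.X 1), X, c3 A (MvPolynomial.X 2), C X,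
    c3 A (MvPolynomial.X 3) - c3 A (MvPolynomial.X 1), C (C X),
    c3 A (MvPolynomial.X 4) - c3 A (MvPolynomial.X 2),
    c3 A (MvPolynomial.X 5) + c3 A (MvPolynomial.X 0)]

noncomputable def φ : D A →+* T3A :=
  MvPolynomial.eval₂Hom ((c3 A).comp MvPolynomial.C) (vv A)

noncomputable def ww : Fin 6 → D A :=
  ![va, vb, vd, vf + vb, vh + vd, vi - va]

noncomputable def ψ0 : T0A →+* D A := MvPolynomial.eval₂Hom MvPolynomial.C (ww A)

noncomputable def ψ : T3A →+* D A :=
  eval₂RingHom (eval₂RingHom (eval₂RingHom (ψ0 A) vg) ve) vc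

lemma ψ_c3 (t : T0A) : ψ A (c3 A t) = ψ0 A t := by
  simp [ψ, c3]

lemma ψ_X : ψ A X = vc := by
  simp [ψ]

lemma ψ_CX : ψ A (C X) = ve := by
  simp [ψ]

lemma ψ_CCX : ψ A (C (C X)) = vg := by
  simp [ψ]

lemma ψ0_X (k : Fin 6) : ψ0 A (MvPolynomial.X k) = ww A k := by
  simp [ψ0]

lemma ψφ (x : D A) : ψ A (φ A x) = x := by
  have : (ψ A).comp (φ A) = RingHom.id (D A) := by
    apply MvPolynomial.ringHom_ext
    · intro r
      simp [φ, ψ_c3, ψ0]
    · intro j
      fin_cases j <;> simp [φ, vv, ψ_c3, ψ_X, ψ_CX, ψ_CCX, ψ0_X, ww]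
  exact RingHom.congr_fun this x

noncomputable def q1 : T1A :=
  C (-(MvPolynomial.X 3)) * X +
    C (MvPolynomial.X 0 * MvPolynomial.X 4 + MvPolynomial.X 2 * MvPolynomial.X 5)

noncomputable def q2 : T2A :=
  C (C (MvPolynomial.X 5)) * X +
    C (C (-(MvPolynomial.X 3) * MvPolynomial.X 4 + MvPolynomial.X 3 * MvPolynomial.X 2 +
      MvPolynomial.X 1 * MvPolynomial.X 4))

noncomputable def q3 : T3A :=
  C (C (C (MvPolynomial.X 4))) * X +
    C (C (C (-(MvPolynomial.X 0 * MvPolynomial.X 3) - MvPolynomial.X 1 * MvPolynomial.X 5)))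

lemma φ_Q1 : φ A (Q1 A) = C (C (q1 A)) := by
  simp [Q1, q1, φ, vv, c3]
  ring

lemma φ_Q2 : φ A (Q2 A) = C (q2 A) := by
  simp [Q2, q2, φ, vv, c3]
  ring

lemma φ_Q3 : φ A (Q3 A) = q3 A := by
  simp [Q3, q3, φ, vv, c3]
  ring

lemma φ_L1 : φ A (L1 A) = -(C (C (C (MvPolynomial.X 5 : MvPolynomial (Fin 6) A)))) := by
  simp [L1, φ, vv, c3]

lemma φ_L2 : φ A (L2 A) = C (C (C (MvPolynomial.X 3))) := by
  simp [L2, φ, vv, c3]

lemma φ_L3 : φ A (L3 A) = C (C (C (MvPolynomial.X 4))) := by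
  simp [L3, φ, vv, c3]

lemma regA_h : Reg (Ideal.span {q1 A}) (C (MvPolynomial.X 4)) := by
  have h1 : Reg (⊥ : Ideal T1A) (C (MvPolynomial.X 4)) := by
    have := (xreg0 (R := A) (4 : Fin 6)).constC
    rwa [Ideal.map_bot] at this
  have h2 : Reg ((⊥ : Ideal T1A) ⊔ Ideal.span {C (MvPolynomial.X 4)}) (q1 A) := by
    have := ((xreg1 (R := A) (4 : Fin 6) 3 (by decide)).neg).linC
      (MvPolynomial.X 0 * MvPolynomial.X 4 + MvPolynomial.X 2 * MvPolynomial.X 5)
    rw [mapC_span] at this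
    rw [bot_sup_eq]
    exact this
  have := h1.swap h2
  rwa [bot_sup_eq] at this

lemma regA_i : Reg (Ideal.span {q1 A}) (C (MvPolynomial.X 5)) := by
  have h1 : Reg (⊥ : Ideal T1A) (C (MvPolynomial.X 5)) := by
    have := (xreg0 (R := A) (5 : Fin 6)).constC
    rwa [Ideal.map_bot] at this
  have h2 : Reg ((⊥ : Ideal T1A) ⊔ Ideal.span {C (MvPolynomial.X 5)}) (q1 A) := by
    have := ((xreg1 (R := A) (5 : Fin 6) 3 (by decide)).neg).linC
      (MvPolynomial.X 0 * MvPolynomial.X 4 + MvPolynomial.X 2 * MvPolynomial.X 5)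
    rw [mapC_span] at this
    rw [bot_sup_eq]
    exact this
  have := h1.swap h2
  rwa [bot_sup_eq] at this

lemma regB : Reg (Ideal.span {q1 A} ⊔ Ideal.span {C (MvPolynomial.X 4)})
    (C (MvPolynomial.X 5)) := by
  have h1 : Reg (Ideal.span {(C (MvPolynomial.X 4) : T1A)}) (C (MvPolynomial.X 5)) := by
    have := (xreg1 (R := A) (4 : Fin 6) 5 (by decide)).constC
    rwa [mapC_span] at this
  have h2 : Reg (Ideal.span {(C (MvPolynomial.X 4) : T1A)} ⊔
      Ideal.span {C (MvPolynomial.X 5)}) (q1 A) := by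
    have := ((xreg2 (R := A) (4 : Fin 6) 5 3 (by decide) (by decide)).neg).linC
      (MvPolynomial.X 0 * MvPolynomial.X 4 + MvPolynomial.X 2 * MvPolynomial.X 5)
    rw [Ideal.map_sup, mapC_span, mapC_span] at this
    exact this
  have := h1.swap h2
  rwa [sup_comm] at this

lemma regC : Reg ((Ideal.span {q1 A}).map (C : T1A →+* T2A) ⊔ Ideal.span {q2 A})
    (C (C (MvPolynomial.X 4))) := by
  have h1 : Reg ((Ideal.span {q1 A}).map (C : T1A →+* T2A)) (C (C (MvPolynomial.X 4))) :=
    (regA_h A).constC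
  have h2 : Reg ((Ideal.span {q1 A}).map (C : T1A →+* T2A) ⊔
      Ideal.span {C (C (MvPolynomial.X 4))}) (q2 A) := by
    have := (regB A).linC (C (-(MvPolynomial.X 3) * MvPolynomial.X 4 +
      MvPolynomial.X 3 * MvPolynomial.X 2 + MvPolynomial.X 1 * MvPolynomial.X 4))
    rw [Ideal.map_sup, mapC_span (C (MvPolynomial.X 4) : T1A)] at this
    exact this
  exact h1.swap h2

lemma reg1 : Reg (⊥ : Ideal T3A) (C (C (q1 A))) := by
  have h0 : Reg (⊥ : Ideal T1A) (q1 A) := by
    have := ((xreg0 (R := A) (3 : Fin 6)).neg).linC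
      (MvPolynomial.X 0 * MvPolynomial.X 4 + MvPolynomial.X 2 * MvPolynomial.X 5)
    rwa [Ideal.map_bot] at this
  have h1 := h0.constC
  rw [Ideal.map_bot] at h1
  have h2 := h1.constC
  rwa [Ideal.map_bot] at h2

lemma reg2 : Reg (Ideal.span {(C (C (q1 A)) : T3A)}) (C (q2 A)) := by
  have h0 : Reg ((Ideal.span {q1 A}).map (C : T1A →+* T2A)) (q2 A) :=
    (regA_i A).linC (C (-(MvPolynomial.X 3) * MvPolynomial.X 4 +
      MvPolynomial.X 3 * MvPolynomial.X 2 + MvPolynomial.X 1 * MvPolynomial.X 4))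
  have h1 := h0.constC
  rwa [mapC_span, mapC_span] at h1

lemma reg3 : Reg (Ideal.span {(C (C (q1 A)) : T3A)} ⊔ Ideal.span {C (q2 A)}) (q3 A) := by
  have := (regC A).linC
    (C (C (-(MvPolynomial.X 0 * MvPolynomial.X 3) - MvPolynomial.X 1 * MvPolynomial.X 5)))
  rw [Ideal.map_sup, mapC_span, mapC_span, mapC_span] at this
  exact this

lemma regL1 : Reg (⊥ : Ideal T3A) (-(C (C (C (MvPolynomial.X 5 : MvPolynomial (Fin 6) A))))) := by
  have h0 := (xreg0 (R := A) (5 : Fin 6)).constC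
  rw [Ideal.map_bot] at h0
  have h1 := h0.constC
  rw [Ideal.map_bot] at h1
  have h2 := h1.constC
  rw [Ideal.map_bot] at h2
  exact h2.neg

lemma regL2 : Reg (Ideal.span {-(C (C (C (MvPolynomial.X 5 : MvPolynomial (Fin 6) A))))})
    (C (C (C (MvPolynomial.X 3)))) := by
  have h0 := (((xreg1 (R := A) (5 : Fin 6) 3 (by decide)).constC).constC).constC
  rw [mapC_span, mapC_span, mapC_span] at h0
  rwa [Ideal.span_singleton_neg]

lemma regL3 : Reg (Ideal.span {-(C (C (C (MvPolynomial.X 5 : MvPolynomial (Fin 6) A))))} ⊔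
    Ideal.span {C (C (C (MvPolynomial.X 3)))}) (C (C (C (MvPolynomial.X 4)))) := by
  have h0 := (((xreg2 (R := A) (5 : Fin 6) 3 4 (by decide) (by decide)).constC).constC).constC
  rw [Ideal.map_sup, Ideal.map_sup, Ideal.map_sup, mapC_span, mapC_span, mapC_span, mapC_span,
    mapC_span, mapC_span] at h0
  rwa [Ideal.span_singleton_neg]

lemma ne_top_of_constantCoeff [Nontrivial A] (x y z : D A)
    (hx : MvPolynomial.constantCoeff x = 0) (hy : MvPolynomial.constantCoeff y = 0)
    (hz : MvPolynomial.constantCoeff z = 0) :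
    Ideal.span {x} ⊔ (Ideal.span {y} ⊔ Ideal.span {z}) ≠ ⊤ := by
  intro h
  have hle : Ideal.span {x} ⊔ (Ideal.span {y} ⊔ Ideal.span {z}) ≤
      RingHom.ker (MvPolynomial.constantCoeff : D A →+* A) := by
    simp only [sup_le_iff, Ideal.span_singleton_le_iff_mem, RingHom.mem_ker]
    exact ⟨hx, hy, hz⟩
  rw [h] at hle
  have : (1 : D A) ∈ RingHom.ker (MvPolynomial.constantCoeff : D A →+* A) :=
    hle Submodule.mem_top
  rw [RingHom.mem_ker, map_one] at this
  exact one_ne_zero this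

theorem main [Nontrivial A] :
    RingTheory.Sequence.IsRegular (D A) [L1 A, L2 A, L3 A] ∧
      RingTheory.Sequence.IsRegular (D A) [Q1 A, Q2 A, Q3 A] := by
  constructor
  · apply isRegular3
    · apply Reg.transfer (φ A) (ψ A) (ψφ A)
      rw [Ideal.map_bot, φ_L1]
      exact regL1 A
    · apply Reg.transfer (φ A) (ψ A) (ψφ A)
      rw [Ideal.map_span, Set.image_singleton, φ_L1, φ_L2]
      exact regL2 A
    · apply Reg.transfer (φ A) (ψ A) (ψφ A)
      rw [Ideal.map_sup, Ideal.map_span, Ideal.map_span, Set.image_singleton,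
        Set.image_singleton, φ_L1, φ_L2, φ_L3]
      exact regL3 A
    · apply ne_top_of_constantCoeff <;> simp [L1, L2, L3]
  · apply isRegular3
    · apply Reg.transfer (φ A) (ψ A) (ψφ A)
      rw [Ideal.map_bot, φ_Q1]
      exact reg1 A
    · apply Reg.transfer (φ A) (ψ A) (ψφ A)
      rw [Ideal.map_span, Set.image_singleton, φ_Q1, φ_Q2]
      exact reg2 A
    · apply Reg.transfer (φ A) (ψ A) (ψφ A)
      rw [Ideal.map_sup, Ideal.map_span, Ideal.map_span, Set.image_singleton,
        Set.image_singleton, φ_Q1, φ_Q2, φ_Q3]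
      exact reg3 A
    · apply ne_top_of_constantCoeff <;> simp [Q1, Q2, Q3]

end specific

end Groth.Agent.Lib.Lie3RegH1
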