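import Mathlib
import Groth.Prelude.Def_W4c1bouilletffgsL3
import Groth.Agent.Lib.DimFT_helper8
import Groth.Agent.Lib.Regular_helper5

/-!
# A smooth rational point of the Jacobi scheme of 3-dimensional Lie algebras (helper3)

* `regular_quot`: in a regular local ring of dimension `n`, if `m = (s, T)` with
  `|s| ≤ a`, `|T| ≤ b`, `a + b ≤ n` then `R/(s)` is regular local of dimension `b`.
* `main`: `(D/J)_P` is regular local of dimension `6` at the point `(0,1,0,0,0,t,0,0,0)`.
-/

set_option autoImplicit false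
universe u

namespace Groth.Agent.Lib.Lie3RegH3

open IsLocalRing

theorem regular_quot (R : Type u) [CommRing R] [IsRegularLocalRing R] (s T : Finset R)
    (n a b : ℕ) (hdim : ringKrullDim R = (n : WithBot ℕ∞)) (hs : s.card ≤ a) (hT : T.card ≤ b)
    (hab : a + b ≤ n)
    (hspan : Ideal.span ((s : Set R) ∪ T) = maximalIdeal R) :
    ∃ (_ : IsRegularLocalRing (R ⧸ Ideal.span (s : Set R))),
      ringKrullDim (R ⧸ Ideal.span (s : Set R)) = (b : WithBot ℕ∞) := by
  classical
  have hsm : (s : Set R) ⊆ maximalIdeal R := by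
    intro x hx
    rw [← hspan]
    exact Ideal.subset_span (Or.inl hx)
  have hne : Ideal.span (s : Set R) ≠ ⊤ := by
    intro h
    have : (⊤ : Ideal R) ≤ maximalIdeal R := h ▸ Ideal.span_le.mpr hsm
    exact (maximalIdeal.isMaximal R).ne_top (top_le_iff.mp this)
  haveI : Nontrivial (R ⧸ Ideal.span (s : Set R)) := Ideal.Quotient.nontrivial_iff.mpr hne
  haveI : IsLocalRing (R ⧸ Ideal.span (s : Set R)) :=
    IsLocalRing.of_surjective' (Ideal.Quotient.mk _) Ideal.Quotient.mk_surjective
  have hm' : maximalIdeal (R ⧸ Ideal.span (s : Set R)) =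
      Ideal.span ((Ideal.Quotient.mk (Ideal.span (s : Set R))) '' (T : Set R)) := by
    rw [← IsLocalRing.map_maximalIdeal_of_surjective (Ideal.Quotient.mk (Ideal.span (s : Set R)))
      Ideal.Quotient.mk_surjective, ← hspan, Ideal.map_span, Set.image_union]
    apply le_antisymm
    · rw [Ideal.span_le]
      rintro x (⟨y, hy, rfl⟩ | hx)
      · have : Ideal.Quotient.mk (Ideal.span (s : Set R)) y = 0 :=
          Ideal.Quotient.eq_zero_iff_mem.mpr (Ideal.subset_span hy)
        rw [this]
        exact zero_mem _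
      · exact Ideal.subset_span hx
    · exact Ideal.span_mono Set.subset_union_right
  have h1 : (maximalIdeal (R ⧸ Ideal.span (s : Set R))).spanFinrank ≤ T.card := by
    rw [hm']
    calc _ ≤ ((Ideal.Quotient.mk (Ideal.span (s : Set R))) '' (T : Set R)).ncard :=
          Submodule.spanFinrank_span_le_ncard_of_finite (T.finite_toSet.image _)
      _ ≤ (T : Set R).ncard := Set.ncard_image_le T.finite_toSet
      _ = T.card := Set.ncard_coe_finset T
  have h2 : ringKrullDim (R ⧸ Ideal.span (s : Set R)) ≤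
      (maximalIdeal (R ⧸ Ideal.span (s : Set R))).spanFinrank :=
    ringKrullDim_le_spanFinrank_maximalIdeal _
  have h3 : ringKrullDim R ≤ ringKrullDim (R ⧸ Ideal.span (s : Set R)) + s.card := by
    apply ringKrullDim_le_ringKrullDim_quotient_add_card
    rwa [IsLocalRing.ringJacobson_eq_maximalIdeal]
  obtain ⟨d, hd, hde⟩ :=
    Groth.Agent.RegularLib.exists_nat_eq_of_le ringKrullDim_nonneg_of_nontrivial h2
  rw [hd, hdim] at h3
  have h3' : n ≤ d + s.card := by exact_mod_cast h3
  have hdb : d = b := by omega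
  refine ⟨IsRegularLocalRing.of_spanFinrank_maximalIdeal_le _ ?_, ?_⟩
  · rw [hd]
    have : (maximalIdeal (R ⧸ Ideal.span (s : Set R))).spanFinrank ≤ d := by omega
    exact_mod_cast this
  · rw [hd, hdb]

section lie
open MvPolynomial Lie3Mod

variable (k : Type u) [Field k] (t : k)

/-- the point `(0,1,0,0,0,t,0,0,0)`. -/
noncomputable def pt : Fin 9 → k := ![0, 1, 0, 0, 0, t, 0, 0, 0]

/-- evaluation at the point. -/
noncomputable def ev : D k →+* k := MvPolynomial.eval (pt k t)

/-- the maximal ideal of the point. -/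
noncomputable def m0 : Ideal (D k) :=
  Ideal.span ({X 0, X 1 - 1, X 2, X 3, X 4, X 5 - C t, X 6, X 7, X 8} : Set (D k))

lemma m0_le_ker : m0 k t ≤ RingHom.ker (ev k t) := by
  rw [m0, Ideal.span_le]
  intro x hx
  simp only [Set.mem_insert_iff, Set.mem_singleton_iff] at hx
  rw [SetLike.mem_coe, RingHom.mem_ker]
  rcases hx with rfl | rfl | rfl | rfl | rfl | rfl | rfl | rfl | rfl <;> simp [ev, pt]

lemma X_sub_mem (i : Fin 9) : (X i : D k) - C (pt k t i) ∈ m0 k t := by
  have h0 : (X 0 : D k) ∈ m0 k t := Ideal.subset_span (by simp)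
  have h1 : (X 1 - 1 : D k) ∈ m0 k t := Ideal.subset_span (by simp)
  have h2 : (X 2 : D k) ∈ m0 k t := Ideal.subset_span (by simp)
  have h3 : (X 3 : D k) ∈ m0 k t := Ideal.subset_span (by simp)
  have h4 : (X 4 : D k) ∈ m0 k t := Ideal.subset_span (by simp)
  have h5 : (X 5 - C t : D k) ∈ m0 k t := Ideal.subset_span (by simp)
  have h6 : (X 6 : D k) ∈ m0 k t := Ideal.subset_span (by simp)
  have h7 : (X 7 : D k) ∈ m0 k t := Ideal.subset_span (by simp)
  have h8 : (X 8 : D k) ∈ m0 k t := Ideal.subset_span (by simp)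
  fin_cases i
  · simpa [pt] using h0
  · simpa [pt] using h1
  · simpa [pt] using h2
  · simpa [pt] using h3
  · simpa [pt] using h4
  · simpa [pt] using h5
  · simpa [pt] using h6
  · simpa [pt] using h7
  · simpa [pt] using h8

lemma sub_C_mem (f : D k) : f - C (ev k t f) ∈ m0 k t := by
  induction f using MvPolynomial.induction_on with
  | C a => simp [ev]
  | add p q hp hq =>
    have : p + q - C (ev k t (p + q)) = (p - C (ev k t p)) + (q - C (ev k t q)) := by
      rw [map_add, map_add]; ring
    rw [this]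
    exact add_mem hp hq
  | mul_X p i hp =>
    have h : ev k t (X i) = pt k t i := by simp [ev]
    have : p * X i - C (ev k t (p * X i)) =
        (p - C (ev k t p)) * X i + C (ev k t p) * (X i - C (pt k t i)) := by
      rw [map_mul, map_mul, h]; ring
    rw [this]
    exact add_mem (Ideal.mul_mem_right _ _ hp) (Ideal.mul_mem_left _ _ (X_sub_mem k t i))

lemma m0_eq_ker : m0 k t = RingHom.ker (ev k t) := by
  refine le_antisymm (m0_le_ker k t) ?_
  intro f hf
  have := sub_C_mem k t f
  rw [RingHom.mem_ker] at hf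
  rwa [hf, map_zero, sub_zero] at this

instance m0_isMaximal : (m0 k t).IsMaximal := by
  rw [m0_eq_ker]
  exact RingHom.ker_isMaximal_of_surjective _ (fun a => ⟨C a, by simp [ev]⟩)

lemma not_mem_m0 {u : D k} (hu : ev k t u ≠ 0) : u ∉ m0 k t :=
  fun h => hu (m0_le_ker k t h)

lemma idJ_le_m0 : idJ k ≤ m0 k t := by
  rw [m0_eq_ker, idJ, Ideal.span_le]
  intro x hx
  simp only [Set.mem_insert_iff, Set.mem_singleton_iff] at hx
  rw [SetLike.mem_coe, RingHom.mem_ker]
  rcases hx with rfl | rfl | rfl | rfl <;> simp [ev, pt, Q1, Q2, Q3, detM]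

example : IsRegularLocalRing (Localization.AtPrime (m0 k t)) := inferInstance

lemma dim_loc : ringKrullDim (Localization.AtPrime (m0 k t)) = ((9 : ℕ) : WithBot ℕ∞) := by
  rw [IsLocalization.AtPrime.ringKrullDim_eq_height (m0 k t),
    Groth.Agent.DimFTH8.height_of_isMaximal_mvPolynomial k 9 (m0 k t)]
  rfl


local notation "Rl" => Localization.AtPrime (m0 k t)
local notation "ι" => algebraMap (D k) (Localization.AtPrime (m0 k t))

lemma isUnit_of_ev_ne {u : D k} (hu : ev k t u ≠ 0) : IsUnit (ι u) :=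
  IsLocalization.map_units Rl (⟨u, not_mem_m0 k t hu⟩ : (m0 k t).primeCompl)

lemma mem_of_mul_mem (N : Ideal Rl) {u x : D k} (hu : ev k t u ≠ 0)
    (h : ι (u * x) ∈ N) : ι x ∈ N := by
  rw [map_mul] at h
  exact (Ideal.unit_mul_mem_iff_mem N (isUnit_of_ev_ne k t hu)).mp h

/-- the generators: three relations and six coordinates. -/
def G (W : D k) : Set (D k) :=
  {W, Q2 k, Q3 k, X 0, X 1 - 1, X 2, X 4, X 5 - C t, X 7}

/-- the ideal generated by them in the localization. -/
noncomputable def N (W : D k) : Ideal Rl := Ideal.map ι (Ideal.span (G k t W))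

lemma gen_mem (W : D k) {y : D k} (hy : y ∈ G k t W) : y ∈ Ideal.span (G k t W) :=
  Ideal.subset_span hy

lemma X3_mem (W : D k) : ι (X 3) ∈ N k t W := by
  apply mem_of_mul_mem k t (N k t W) (u := X 1) (by simp [ev, pt])
  apply Ideal.mem_map_of_mem
  have : (X 1 * X 3 : D k) = Q2 k + (-X 8 + X 0) * X 4 + X 5 * X 7 := by
    simp only [Q2]; ring
  rw [this]
  refine add_mem (add_mem (gen_mem k t W (by simp [G])) ?_) ?_
  · exact Ideal.mul_mem_left _ _ (gen_mem k t W (by simp [G]))
  · exact Ideal.mul_mem_left _ _ (gen_mem k t W (by simp [G]))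

lemma X8_mem (W : D k) : ι (X 8) ∈ N k t W := by
  apply mem_of_mul_mem k t (N k t W) (u := X 1) (by simp [ev, pt])
  apply Ideal.mem_map_of_mem
  have : (X 1 * X 8 : D k) = (X 7 + X 3) * X 2 + (-X 5) * X 0 + (-1) * Q3 k := by
    simp only [Q3]; ring
  rw [this]
  refine add_mem (add_mem ?_ ?_) ?_
  · exact Ideal.mul_mem_left _ _ (gen_mem k t W (by simp [G]))
  · exact Ideal.mul_mem_left _ _ (gen_mem k t W (by simp [G]))
  · exact Ideal.mul_mem_left _ _ (gen_mem k t W (by simp [G]))

theorem core (W : D k) (hW : W ∈ idJ k) (h1 : ι (X 6) ∈ N k t W)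
    (h2 : ∀ y ∈ ({Q1 k, Q2 k, Q3 k, detM k} : Set (D k)),
      ι y ∈ Ideal.map ι (Ideal.span ({W, Q2 k, Q3 k} : Set (D k)))) :
    IsRegularLocalRing (Rl ⧸ (idJ k).map ι) ∧
      ringKrullDim (Rl ⧸ (idJ k).map ι) = 6 := by
  classical
  set s : Finset Rl := {ι W, ι (Q2 k), ι (Q3 k)} with hs
  set T : Finset Rl := {ι (X 0), ι (X 1 - 1), ι (X 2), ι (X 4), ι (X 5 - C t), ι (X 7)} with hT
  have hQ2 : Q2 k ∈ idJ k := Ideal.subset_span (by simp)
  have hQ3 : Q3 k ∈ idJ k := Ideal.subset_span (by simp)
  have hs' : (s : Set Rl) = ι '' ({W, Q2 k, Q3 k} : Set (D k)) := by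
    simp only [hs, Finset.coe_insert, Finset.coe_singleton, Set.image_insert_eq,
      Set.image_singleton]
  have hN : Ideal.span ((s : Set Rl) ∪ T) = N k t W := by
    simp only [N, G, Ideal.map_span, hs, hT, Finset.coe_insert, Finset.coe_singleton,
      Set.image_insert_eq, Set.image_singleton, Set.insert_union, Set.singleton_union]
  have hJ : (idJ k).map ι = Ideal.span (s : Set Rl) := by
    apply le_antisymm
    · rw [idJ, Ideal.map_span, Ideal.span_le]
      rintro _ ⟨y, hy, rfl⟩
      have := h2 y hy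
      rwa [Ideal.map_span, ← hs'] at this
    · rw [hs', ← Ideal.map_span]
      apply Ideal.map_mono
      rw [Ideal.span_le]
      intro x hx
      simp only [Set.mem_insert_iff, Set.mem_singleton_iff] at hx
      rcases hx with rfl | rfl | rfl
      · exact hW
      · exact hQ2
      · exact hQ3
  have hmax : Ideal.span ((s : Set Rl) ∪ T) = maximalIdeal Rl := by
    rw [hN, ← Localization.AtPrime.map_eq_maximalIdeal]
    apply le_antisymm
    · apply Ideal.map_mono
      rw [Ideal.span_le]
      intro x hx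
      simp only [G, Set.mem_insert_iff, Set.mem_singleton_iff] at hx
      rcases hx with rfl | rfl | rfl | rfl | rfl | rfl | rfl | rfl | rfl
      · exact idJ_le_m0 k t hW
      · exact idJ_le_m0 k t hQ2
      · exact idJ_le_m0 k t hQ3
      all_goals exact Ideal.subset_span (by simp)
    · rw [Ideal.map_le_iff_le_comap]
      refine (Ideal.span_le (I := Ideal.comap ι (N k t W))).mpr ?_
      intro y hy
      show ι y ∈ N k t W
      simp only [Set.mem_insert_iff, Set.mem_singleton_iff] at hy
      rcases hy with rfl | rfl | rfl | rfl | rfl | rfl | rfl | rfl | rfl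
      · exact Ideal.mem_map_of_mem _ (gen_mem k t W (by simp [G]))
      · exact Ideal.mem_map_of_mem _ (gen_mem k t W (by simp [G]))
      · exact Ideal.mem_map_of_mem _ (gen_mem k t W (by simp [G]))
      · exact X3_mem k t W
      · exact Ideal.mem_map_of_mem _ (gen_mem k t W (by simp [G]))
      · exact Ideal.mem_map_of_mem _ (gen_mem k t W (by simp [G]))
      · exact h1
      · exact Ideal.mem_map_of_mem _ (gen_mem k t W (by simp [G]))
      · exact X8_mem k t W
  obtain ⟨hreg, hd⟩ := regular_quot Rl s T 9 3 6 (dim_loc k t) Finset.card_le_three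
    Finset.card_le_six (by norm_num) hmax
  rw [hJ]
  refine ⟨hreg, ?_⟩
  rw [hd]
  rfl

theorem core_all : IsRegularLocalRing (Rl ⧸ (idJ k).map ι) ∧
      ringKrullDim (Rl ⧸ (idJ k).map ι) = 6 := by
  have hL2 : (X 1 + X 5 : D k) * detM k =
      (X 4 * X 2 - X 1 * X 5) * Q1 k + (X 7 * X 2 + X 8 * X 5) * Q2 k
        + (-(X 7 * X 1 + X 8 * X 4)) * Q3 k := by
    simp only [detM, Q1, Q2, Q3]; ring
  by_cases ht : t = -1
  · -- `W = detM`
    have hu : ev k t (X 1 * X 5 - X 4 * X 2) ≠ 0 := by
      simp [ev, pt, ht]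
    have hu' : ev k t (X 4 * X 2 - X 1 * X 5) ≠ 0 := by
      simp [ev, pt, ht]
    apply core k t (detM k) (Ideal.subset_span (by simp))
    · apply mem_of_mul_mem k t _ hu
      apply Ideal.mem_map_of_mem
      have : ((X 1 * X 5 - X 4 * X 2) * X 6 : D k) =
          detM k + (X 7 ^ 2) * X 2 + (-X 8 ^ 2) * X 4 + (-(X 1 * X 8) + X 8 * X 5) * X 7 := by
        simp only [detM]; ring
      rw [this]
      refine add_mem (add_mem (add_mem (gen_mem k t _ (by simp [G])) ?_) ?_) ?_
      · exact Ideal.mul_mem_left _ _ (gen_mem k t _ (by simp [G]))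
      · exact Ideal.mul_mem_left _ _ (gen_mem k t _ (by simp [G]))
      · exact Ideal.mul_mem_left _ _ (gen_mem k t _ (by simp [G]))
    · intro y hy
      simp only [Set.mem_insert_iff, Set.mem_singleton_iff] at hy
      rcases hy with rfl | rfl | rfl | rfl
      · apply mem_of_mul_mem k t _ hu'
        apply Ideal.mem_map_of_mem
        have : ((X 4 * X 2 - X 1 * X 5) * Q1 k : D k) =
            (X 1 + X 5) * detM k + (-(X 7 * X 2 + X 8 * X 5)) * Q2 k
              + (X 7 * X 1 + X 8 * X 4) * Q3 k := by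
          rw [hL2]; ring
        rw [this]
        refine add_mem (add_mem ?_ ?_) ?_
        · exact Ideal.mul_mem_left _ _ (Ideal.subset_span (by simp))
        · exact Ideal.mul_mem_left _ _ (Ideal.subset_span (by simp))
        · exact Ideal.mul_mem_left _ _ (Ideal.subset_span (by simp))
      · exact Ideal.mem_map_of_mem _ (Ideal.subset_span (by simp))
      · exact Ideal.mem_map_of_mem _ (Ideal.subset_span (by simp))
      · exact Ideal.mem_map_of_mem _ (Ideal.subset_span (by simp))
  · -- `W = Q1`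
    have hu : ev k t (X 1 + X 5) ≠ 0 := by
      simp only [ev, pt, map_add, eval_X]
      intro h
      apply ht
      have : (1 : k) + t = 0 := by simpa using h
      linear_combination this
    apply core k t (Q1 k) (Ideal.subset_span (by simp))
    · apply mem_of_mul_mem k t _ hu
      have : ((X 1 + X 5) * X 6 : D k) = (X 7 * X 0 + (-1) * Q1 k) + X 3 * X 8 := by
        simp only [Q1]; ring
      rw [this, map_add, map_mul (ι) (X 3) (X 8)]
      refine add_mem ?_ (Ideal.mul_mem_left _ _ (X8_mem k t _))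
      apply Ideal.mem_map_of_mem
      refine add_mem ?_ ?_
      · exact Ideal.mul_mem_left _ _ (gen_mem k t _ (by simp [G]))
      · exact Ideal.mul_mem_left _ _ (gen_mem k t _ (by simp [G]))
    · intro y hy
      simp only [Set.mem_insert_iff, Set.mem_singleton_iff] at hy
      rcases hy with rfl | rfl | rfl | rfl
      · exact Ideal.mem_map_of_mem _ (Ideal.subset_span (by simp))
      · exact Ideal.mem_map_of_mem _ (Ideal.subset_span (by simp))
      · exact Ideal.mem_map_of_mem _ (Ideal.subset_span (by simp))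
      · apply mem_of_mul_mem k t _ hu
        apply Ideal.mem_map_of_mem
        rw [hL2]
        refine add_mem (add_mem ?_ ?_) ?_
        · exact Ideal.mul_mem_left _ _ (Ideal.subset_span (by simp))
        · exact Ideal.mul_mem_left _ _ (Ideal.subset_span (by simp))
        · exact Ideal.mul_mem_left _ _ (Ideal.subset_span (by simp))

theorem main (P : Ideal (D k ⧸ idJ k)) [P.IsPrime]
    (hP : P = Ideal.map (Ideal.Quotient.mk (idJ k)) (m0 k t)) :
    IsRegularLocalRing (Localization.AtPrime P) ∧ ringKrullDim (Localization.AtPrime P) = 6 := by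
  have hcomap : P.comap (Ideal.Quotient.mk (idJ k)) = m0 k t := by
    rw [hP, Ideal.comap_map_of_surjective _ Ideal.Quotient.mk_surjective]
    have : Ideal.comap (Ideal.Quotient.mk (idJ k)) ⊥ = idJ k := by
      rw [← RingHom.ker_eq_comap_bot, Ideal.mk_ker]
    rw [this]
    exact sup_eq_left.mpr (idJ_le_m0 k t)
  have hsub : Algebra.algebraMapSubmonoid (D k ⧸ idJ k) (m0 k t).primeCompl = P.primeCompl := by
    ext x
    constructor
    · rintro ⟨y, hy, rfl⟩
      intro hx
      apply hy
      rw [← hcomap]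
      exact hx
    · intro hx
      obtain ⟨y, rfl⟩ := Ideal.Quotient.mk_surjective x
      refine ⟨y, ?_, rfl⟩
      intro hy
      apply hx
      rw [← hcomap] at hy
      exact hy
  haveI : IsLocalization.AtPrime (Rl ⧸ (idJ k).map ι) P := by
    show IsLocalization P.primeCompl _
    rw [← hsub]
    infer_instance
  let e : Localization.AtPrime P ≃ₐ[D k ⧸ idJ k] (Rl ⧸ (idJ k).map ι) :=
    IsLocalization.algEquiv P.primeCompl (Localization.AtPrime P) (Rl ⧸ (idJ k).map ι)
  obtain ⟨hreg, hd⟩ := core_all k t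
  refine ⟨@IsRegularLocalRing.of_ringEquiv (Rl ⧸ (idJ k).map ι) _ hreg
    (Localization.AtPrime P) _ e.symm.toRingEquiv, ?_⟩
  have := @ringKrullDim_eq_of_ringEquiv (Localization.AtPrime P) (Rl ⧸ (idJ k).map ι) _ _
    e.toRingEquiv
  rw [this, hd]

end lie

end Groth.Agent.Lib.Lie3RegH3
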