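import Mathlib

namespace Groth.Agent.Lib.LieAutR3

universe u v

variable {A : Type u} [CommRing A] {L : Type v} [LieRing L] [LieAlgebra A L]
  (bs : Module.Basis (Fin 3) A L)

lemma expand (w : L) : w = bs.repr w 0 • bs 0 + bs.repr w 1 • bs 1 + bs.repr w 2 • bs 2 := by
  conv_lhs => rw [← bs.sum_repr w]
  rw [Fin.sum_univ_three]

lemma coords {a0 a1 a2 b0 b1 b2 : A}
    (h : a0 • bs 0 + a1 • bs 1 + a2 • bs 2 = b0 • bs 0 + b1 • bs 1 + b2 • bs 2) :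
    a0 = b0 ∧ a1 = b1 ∧ a2 = b2 := by
  have key : ∀ c : Fin 3 → A, bs.equivFun.symm c = c 0 • bs 0 + c 1 • bs 1 + c 2 • bs 2 := by
    intro c; rw [Module.Basis.equivFun_symm_apply, Fin.sum_univ_three]
  have h' : bs.equivFun.symm ![a0, a1, a2] = bs.equivFun.symm ![b0, b1, b2] := by
    rw [key, key]; exact h
  have h'' := bs.equivFun.symm.injective h'
  refine ⟨?_, ?_, ?_⟩
  · simpa using congrFun h'' 0
  · simpa using congrFun h'' 1
  · simpa using congrFun h'' 2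

lemma bracket (hxy : ⁅bs 0, bs 1⁆ = bs 1) (hxz : ⁅bs 0, bs 2⁆ = bs 1 + bs 2)
    (hyz : ⁅bs 1, bs 2⁆ = 0) (u0 u1 u2 v0 v1 v2 : A) :
    ⁅u0 • bs 0 + u1 • bs 1 + u2 • bs 2, v0 • bs 0 + v1 • bs 1 + v2 • bs 2⁆ =
      (0 : A) • bs 0 + (u0 * v1 - u1 * v0 + u0 * v2 - u2 * v0) • bs 1 +
        (u0 * v2 - u2 * v0) • bs 2 := by
  have hyx : ⁅bs 1, bs 0⁆ = -bs 1 := by rw [← lie_skew, hxy]
  have hzx : ⁅bs 2, bs 0⁆ = -(bs 1 + bs 2) := by rw [← lie_skew, hxz]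
  have hzy : ⁅bs 2, bs 1⁆ = 0 := by rw [← lie_skew, hyz, neg_zero]
  simp only [add_lie, lie_add, smul_lie, lie_smul, lie_self, hxy, hxz, hyz, hyx, hzx, hzy]
  module

lemma shape (hxy : ⁅bs 0, bs 1⁆ = bs 1) (hxz : ⁅bs 0, bs 2⁆ = bs 1 + bs 2)
    (hyz : ⁅bs 1, bs 2⁆ = 0) (φ : L ≃ₗ⁅A⁆ L) :
    ∃ a b c p r q s : A, φ (bs 0) = a • bs 0 + b • bs 1 + c • bs 2 ∧
      φ (bs 1) = (0 : A) • bs 0 + p • bs 1 + r • bs 2 ∧
      φ (bs 2) = (0 : A) • bs 0 + q • bs 1 + s • bs 2 ∧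
      p = a * (p + r) ∧ r = a * r ∧ p + q = a * (q + s) ∧ r + s = a * s := by
  obtain ⟨a, b, c, hX⟩ : ∃ a b c : A, φ (bs 0) = a • bs 0 + b • bs 1 + c • bs 2 :=
    ⟨_, _, _, expand bs _⟩
  obtain ⟨Y0, Y1, Y2, hY⟩ : ∃ a b c : A, φ (bs 1) = a • bs 0 + b • bs 1 + c • bs 2 :=
    ⟨_, _, _, expand bs _⟩
  obtain ⟨Z0, Z1, Z2, hZ⟩ : ∃ a b c : A, φ (bs 2) = a • bs 0 + b • bs 1 + c • bs 2 :=
    ⟨_, _, _, expand bs _⟩
  have h1 : φ (bs 1) = ⁅φ (bs 0), φ (bs 1)⁆ := by rw [← LieEquiv.map_lie, hxy]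
  rw [hX, hY, bracket bs hxy hxz hyz] at h1
  obtain ⟨e0, e1, e2⟩ := coords bs h1
  have h2 : φ (bs 1) + φ (bs 2) = ⁅φ (bs 0), φ (bs 2)⁆ := by
    rw [← LieEquiv.map_lie, hxz, map_add]
  rw [hX, hY, hZ, bracket bs hxy hxz hyz] at h2
  have h2' : (Y0 + Z0) • bs 0 + (Y1 + Z1) • bs 1 + (Y2 + Z2) • bs 2 =
      (0 : A) • bs 0 + (a * Z1 - b * Z0 + a * Z2 - c * Z0) • bs 1 + (a * Z2 - c * Z0) • bs 2 := by
    rw [← h2]; module
  obtain ⟨f0, f1, f2⟩ := coords bs h2'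
  have hZ0 : Z0 = 0 := by rw [e0, zero_add] at f0; exact f0
  rw [e0] at e1 e2
  rw [hZ0] at f1 f2
  refine ⟨a, b, c, Y1, Y2, Z1, Z2, hX, ?_, ?_, ?_, ?_, ?_, ?_⟩
  · rw [hY, e0]
  · rw [hZ, hZ0]
  · linear_combination e1
  · linear_combination e2
  · linear_combination f1
  · linear_combination f2

theorem main (h2 : IsUnit (2 : A)) (hxy : ⁅bs 0, bs 1⁆ = bs 1)
    (hxz : ⁅bs 0, bs 2⁆ = bs 1 + bs 2) (hyz : ⁅bs 1, bs 2⁆ = 0) (φ : L ≃ₗ⁅A⁆ L) :
    ∃ b c h i : A, IsUnit i ∧ φ (bs 0) = bs 0 + b • bs 1 + c • bs 2 ∧ φ (bs 1) = i • bs 1 ∧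
      φ (bs 2) = h • bs 1 + i • bs 2 := by
  obtain ⟨a, b, c, p, r, q, s, hX, hY, hZ, E1, E2, E3, E4⟩ := shape bs hxy hxz hyz φ
  obtain ⟨a', b', c', p', r', q', s', hX', hY', hZ', -, -, -, -⟩ := shape bs hxy hxz hyz φ.symm
  have hx1 : φ (φ.symm (bs 0)) = bs 0 := φ.apply_symm_apply (bs 0)
  rw [hX', map_add, map_add, map_smul, map_smul, map_smul, hX, hY, hZ] at hx1
  have hx2 : (a' * a) • bs 0 + (a' * b + b' * p + c' * q) • bs 1 +
      (a' * c + b' * r + c' * s) • bs 2 = (1 : A) • bs 0 + (0 : A) • bs 1 + (0 : A) • bs 2 := by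
    refine Eq.trans ?_ (Eq.trans hx1 ?_)
    · module
    · module
  obtain ⟨haa, -, -⟩ := coords bs hx2
  have hy1 : φ (φ.symm (bs 1)) = bs 1 := φ.apply_symm_apply (bs 1)
  rw [hY', map_add, map_add, map_smul, map_smul, map_smul, hX, hY, hZ] at hy1
  have hy2 : (0 : A) • bs 0 + (p' * p + r' * q) • bs 1 + (p' * r + r' * s) • bs 2 =
      (0 : A) • bs 0 + (1 : A) • bs 1 + (0 : A) • bs 2 := by
    refine Eq.trans ?_ (Eq.trans hy1 ?_)
    · module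
    · module
  obtain ⟨-, F1, F2⟩ := coords bs hy2
  have hz1 : φ (φ.symm (bs 2)) = bs 2 := φ.apply_symm_apply (bs 2)
  rw [hZ', map_add, map_add, map_smul, map_smul, map_smul, hX, hY, hZ] at hz1
  have hz2 : (0 : A) • bs 0 + (q' * p + s' * q) • bs 1 + (q' * r + s' * s) • bs 2 =
      (0 : A) • bs 0 + (0 : A) • bs 1 + (1 : A) • bs 2 := by
    refine Eq.trans ?_ (Eq.trans hz1 ?_)
    · module
    · module
  obtain ⟨-, F3, F4⟩ := coords bs hz2
  have hDD : (p * s - q * r) * (p' * s' - q' * r') = 1 := by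
    linear_combination (q' * r + s' * s) * F1 + F4 - (q' * p + s' * q) * F2
  obtain ⟨u, hu⟩ := h2.exists_right_inv
  have R1 : (a - 1) * r = 0 := by linear_combination -E2
  have R2 : (a - 1) * s = r := by linear_combination -E4
  have R3 : (a - 1) * p = -(a * r) := by linear_combination -E1
  have R4 : (a - 1) * q = p - a * s := by linear_combination -E3
  have R5D : (a - 1) * (a - 1) * (p * s - q * r) = 0 := by
    linear_combination ((a - 1) * s) * R3 - (a * s + (a - 1) * q) * R1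
  have R5 : (a - 1) * (a - 1) = 0 := by
    linear_combination (p' * s' - q' * r') * R5D - ((a - 1) * (a - 1)) * hDD
  have h2ar : 2 * a * r = 0 := by
    linear_combination R3 - a * R2 + (a - 1) * R4 - q * R5
  have hr0 : r = 0 := by
    linear_combination (u * a') * h2ar - r * (a' * a) * hu - r * haa
  have heD : (a - 1) * (p * s - q * r) = 0 := by
    linear_combination s * R3 + (-(a * s) - (a - 1) * q) * hr0
  have he0 : a - 1 = 0 := by
    linear_combination (p' * s' - q' * r') * heD - (a - 1) * hDD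
  have ha : a = 1 := by linear_combination he0
  have hps : p = s := by linear_combination E3 + (q + s) * ha
  have hunit : p * (p * (p' * s' - q' * r')) = 1 := by
    linear_combination hDD + (p * (p' * s' - q' * r')) * hps + (q * (p' * s' - q' * r')) * hr0
  refine ⟨b, c, q, p, isUnit_iff_exists_inv.mpr ⟨_, hunit⟩, ?_, ?_, ?_⟩
  · rw [hX, ha, one_smul]
  · rw [hY, hr0, zero_smul, zero_smul, zero_add, add_zero]
  · rw [hZ, ← hps, zero_smul, zero_add]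

end Groth.Agent.Lib.LieAutR3
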