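import Mathlib
import Groth.Agent.Lib.LieAutR3_lead

namespace Groth.Agent.Lib.LieAutL3

open Groth.Agent.Lib.LieAutR3

universe u v

section ring

lemma hDD_of {R : Type*} [CommRing R] {p r q s p' r' q' s' : R}
    (F1 : p' * p + r' * q = 1) (F2 : p' * r + r' * s = 0)
    (F4 : q' * r + s' * s = 1) : (p * s - q * r) * (p' * s' - q' * r') = 1 := by
  linear_combination (q' * r + s' * s) * F1 + F4 - (q' * p + s' * q) * F2

lemma caseA {R : Type*} [CommRing R] {t wt w1 w2 a b c p r Z0 q s p' r' Z0' q' s' : R}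
    (ht : t * wt = 1) (h1 : (t - 1) * w1 = 1) (h2 : (t * t - 1) * w2 = 1)
    (S1 : p = a * p) (S2 : r = t * (a * r)) (S3 : t * Z0 = 0) (S4 : t * q = a * q - b * Z0)
    (S3' : t * Z0' = 0)
    (Gy1 : p' * p + r' * q = 1) (Gy2 : p' * r + r' * s = 0)
    (Gz2 : Z0' * c + q' * r + s' * s = 1) :
    a = 1 ∧ r = 0 ∧ Z0 = 0 ∧ q = 0 ∧ (∃ x, p * x = 1) ∧ (∃ x, s * x = 1) := by
  have hZ0 : Z0 = 0 := by linear_combination wt * S3 - Z0 * ht
  have hZ0' : Z0' = 0 := by linear_combination wt * S3' - Z0' * ht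
  have F4 : q' * r + s' * s = 1 := by linear_combination Gz2 - c * hZ0'
  have hDD := hDD_of Gy1 Gy2 F4
  have hG : (t * t - 1) * (q * r) = 0 := by
    linear_combination (-q) * S2 + (t * r) * S4 - (t * r * b) * hZ0
  have hqr : q * r = 0 := by linear_combination w2 * hG - (q * r) * h2
  have heD : (a - 1) * (p * s - q * r) = 0 := by linear_combination (-s) * S1 - (a - 1) * hqr
  have he0 : a - 1 = 0 := by linear_combination (p' * s' - q' * r') * heD - (a - 1) * hDD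
  have hr1 : (t - 1) * r = 0 := by linear_combination -S2 - (t * r) * he0
  have hr0 : r = 0 := by linear_combination w1 * hr1 - r * h1
  have hq1 : (t - 1) * q = 0 := by linear_combination S4 + q * he0 - b * hZ0
  have hq0 : q = 0 := by linear_combination w1 * hq1 - q * h1
  have hps : p * s * (p' * s' - q' * r') = 1 := by
    linear_combination hDD + (r * (p' * s' - q' * r')) * hq0
  exact ⟨by linear_combination he0, hr0, hZ0, hq0,
    ⟨s * (p' * s' - q' * r'), by linear_combination hps⟩,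
    ⟨p * (p' * s' - q' * r'), by linear_combination hps⟩⟩

lemma caseB {R : Type*} [CommRing R] {t a b c p r Z0 q s a' p' r' Z0' q' s' : R} (ht0 : t = 0)
    (S1 : p = a * p) (S2 : r = t * (a * r)) (S4 : t * q = a * q - b * Z0) (S6 : p * Z0 = 0)
    (S2' : r' = t * (a' * r')) (S6' : p' * Z0' = 0)
    (Gy1 : p' * p + r' * q = 1) (Gz2 : Z0' * c + q' * r + s' * s = 1) :
    a = 1 ∧ r = 0 ∧ Z0 = 0 ∧ q = 0 ∧ (∃ x, p * x = 1) ∧ (∃ x, s * x = 1) := by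
  have hr0 : r = 0 := by linear_combination S2 + (a * r) * ht0
  have hr0' : r' = 0 := by linear_combination S2' + (a' * r') * ht0
  have hpp : p' * p = 1 := by linear_combination Gy1 - q * hr0'
  have hZ0 : Z0 = 0 := by linear_combination p' * S6 - Z0 * hpp
  have hZ0' : Z0' = 0 := by linear_combination p * S6' - Z0' * hpp
  have he0 : a - 1 = 0 := by linear_combination (-p') * S1 - (a - 1) * hpp
  have hq0 : q = 0 := by linear_combination -S4 + q * ht0 - q * he0 + b * hZ0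
  have hss : s' * s = 1 := by linear_combination Gz2 - c * hZ0' - q' * hr0
  exact ⟨by linear_combination he0, hr0, hZ0, hq0, ⟨p', by linear_combination hpp⟩,
    ⟨s', by linear_combination hss⟩⟩

lemma caseC {R : Type*} [CommRing R] {t a b c p r Z0 q s p' r' Z0' q' s' : R} (ht1 : t = 1)
    (S1 : p = a * p) (S3 : t * Z0 = 0) (S4 : t * q = a * q - b * Z0) (S3' : t * Z0' = 0)
    (Gy1 : p' * p + r' * q = 1) (Gy2 : p' * r + r' * s = 0)
    (Gz2 : Z0' * c + q' * r + s' * s = 1) :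
    a = 1 ∧ Z0 = 0 ∧ ∃ x, (p * s - r * q) * x = 1 := by
  have hZ0 : Z0 = 0 := by linear_combination S3 - Z0 * ht1
  have hZ0' : Z0' = 0 := by linear_combination S3' - Z0' * ht1
  have F4 : q' * r + s' * s = 1 := by linear_combination Gz2 - c * hZ0'
  have hDD := hDD_of Gy1 Gy2 F4
  have hq1 : (a - 1) * q = 0 := by linear_combination -S4 + q * ht1 + b * hZ0
  have heD : (a - 1) * (p * s - q * r) = 0 := by linear_combination (-s) * S1 - r * hq1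
  have he0 : a - 1 = 0 := by linear_combination (p' * s' - q' * r') * heD - (a - 1) * hDD
  exact ⟨by linear_combination he0, hZ0, ⟨p' * s' - q' * r', by linear_combination hDD⟩⟩

end ring

variable {A : Type u} [CommRing A] {L : Type v} [LieRing L] [LieAlgebra A L]
  (bs : Module.Basis (Fin 3) A L)

lemma bracket (t : A) (hxy : ⁅bs 0, bs 1⁆ = bs 1) (hxz : ⁅bs 0, bs 2⁆ = t • bs 2)
    (hyz : ⁅bs 1, bs 2⁆ = 0) (u0 u1 u2 v0 v1 v2 : A) :
    ⁅u0 • bs 0 + u1 • bs 1 + u2 • bs 2, v0 • bs 0 + v1 • bs 1 + v2 • bs 2⁆ =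
      (0 : A) • bs 0 + (u0 * v1 - u1 * v0) • bs 1 + (t * (u0 * v2 - u2 * v0)) • bs 2 := by
  have hyx : ⁅bs 1, bs 0⁆ = -bs 1 := by rw [← lie_skew, hxy]
  have hzx : ⁅bs 2, bs 0⁆ = -(t • bs 2) := by rw [← lie_skew, hxz]
  have hzy : ⁅bs 2, bs 1⁆ = 0 := by rw [← lie_skew, hyz, neg_zero]
  simp only [add_lie, lie_add, smul_lie, lie_smul, lie_self, hxy, hxz, hyz, hyx, hzx, hzy]
  module

lemma shape (t : A) (hxy : ⁅bs 0, bs 1⁆ = bs 1) (hxz : ⁅bs 0, bs 2⁆ = t • bs 2)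
    (hyz : ⁅bs 1, bs 2⁆ = 0) (φ : L ≃ₗ⁅A⁆ L) :
    ∃ a b c p r Z0 q s : A, φ (bs 0) = a • bs 0 + b • bs 1 + c • bs 2 ∧
      φ (bs 1) = (0 : A) • bs 0 + p • bs 1 + r • bs 2 ∧
      φ (bs 2) = Z0 • bs 0 + q • bs 1 + s • bs 2 ∧
      p = a * p ∧ r = t * (a * r) ∧ t * Z0 = 0 ∧ t * q = a * q - b * Z0 ∧ p * Z0 = 0 := by
  obtain ⟨a, b, c, hX⟩ : ∃ a b c : A, φ (bs 0) = a • bs 0 + b • bs 1 + c • bs 2 :=
    ⟨_, _, _, expand bs _⟩
  obtain ⟨Y0, Y1, Y2, hY⟩ : ∃ a b c : A, φ (bs 1) = a • bs 0 + b • bs 1 + c • bs 2 :=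
    ⟨_, _, _, expand bs _⟩
  obtain ⟨Z0, Z1, Z2, hZ⟩ : ∃ a b c : A, φ (bs 2) = a • bs 0 + b • bs 1 + c • bs 2 :=
    ⟨_, _, _, expand bs _⟩
  have h1 : φ (bs 1) = ⁅φ (bs 0), φ (bs 1)⁆ := by rw [← LieEquiv.map_lie, hxy]
  rw [hX, hY, bracket bs t hxy hxz hyz] at h1
  obtain ⟨e0, e1, e2⟩ := coords bs h1
  have h2 : t • φ (bs 2) = ⁅φ (bs 0), φ (bs 2)⁆ := by
    rw [← LieEquiv.map_lie, hxz, map_smul]
  rw [hX, hZ, bracket bs t hxy hxz hyz] at h2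
  have h2' : (t * Z0) • bs 0 + (t * Z1) • bs 1 + (t * Z2) • bs 2 =
      (0 : A) • bs 0 + (a * Z1 - b * Z0) • bs 1 + (t * (a * Z2 - c * Z0)) • bs 2 := by
    rw [← h2]; module
  obtain ⟨f0, f1, -⟩ := coords bs h2'
  have h3 : ⁅φ (bs 1), φ (bs 2)⁆ = 0 := by rw [← LieEquiv.map_lie, hyz, map_zero]
  rw [hY, hZ, bracket bs t hxy hxz hyz] at h3
  have h3' : (0 : A) • bs 0 + (Y0 * Z1 - Y1 * Z0) • bs 1 + (t * (Y0 * Z2 - Y2 * Z0)) • bs 2 =
      (0 : A) • bs 0 + (0 : A) • bs 1 + (0 : A) • bs 2 := by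
    rw [h3]; module
  obtain ⟨-, g1, -⟩ := coords bs h3'
  rw [e0] at e1 e2 g1
  refine ⟨a, b, c, Y1, Y2, Z0, Z1, Z2, hX, ?_, hZ, ?_, ?_, ?_, f1, ?_⟩
  · rw [hY, e0]
  · linear_combination e1
  · linear_combination e2
  · linear_combination f0
  · linear_combination -g1

lemma data (t : A) (hxy : ⁅bs 0, bs 1⁆ = bs 1) (hxz : ⁅bs 0, bs 2⁆ = t • bs 2)
    (hyz : ⁅bs 1, bs 2⁆ = 0) (φ : L ≃ₗ⁅A⁆ L) :
    ∃ a b c p r Z0 q s a' b' c' p' r' Z0' q' s' : A,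
      φ (bs 0) = a • bs 0 + b • bs 1 + c • bs 2 ∧
      φ (bs 1) = (0 : A) • bs 0 + p • bs 1 + r • bs 2 ∧
      φ (bs 2) = Z0 • bs 0 + q • bs 1 + s • bs 2 ∧
      (p = a * p ∧ r = t * (a * r) ∧ t * Z0 = 0 ∧ t * q = a * q - b * Z0 ∧ p * Z0 = 0) ∧
      (r' = t * (a' * r') ∧ t * Z0' = 0 ∧ p' * Z0' = 0) ∧
      (a' * a + c' * Z0 = 1 ∧ p' * p + r' * q = 1 ∧ p' * r + r' * s = 0 ∧
        Z0' * b + q' * p + s' * q = 0 ∧ Z0' * c + q' * r + s' * s = 1) := by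
  obtain ⟨a, b, c, p, r, Z0, q, s, hX, hY, hZ, S1, S2, S3, S4, S6⟩ := shape bs t hxy hxz hyz φ
  obtain ⟨a', b', c', p', r', Z0', q', s', hX', hY', hZ', -, S2', S3', -, S6'⟩ :=
    shape bs t hxy hxz hyz φ.symm
  have hx1 : φ (φ.symm (bs 0)) = bs 0 := φ.apply_symm_apply (bs 0)
  rw [hX', map_add, map_add, map_smul, map_smul, map_smul, hX, hY, hZ] at hx1
  have hx2 : (a' * a + c' * Z0) • bs 0 + (a' * b + b' * p + c' * q) • bs 1 +
      (a' * c + b' * r + c' * s) • bs 2 = (1 : A) • bs 0 + (0 : A) • bs 1 + (0 : A) • bs 2 := by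
    refine Eq.trans ?_ (Eq.trans hx1 ?_)
    · module
    · module
  obtain ⟨Gx0, -, -⟩ := coords bs hx2
  have hy1 : φ (φ.symm (bs 1)) = bs 1 := φ.apply_symm_apply (bs 1)
  rw [hY', map_add, map_add, map_smul, map_smul, map_smul, hX, hY, hZ] at hy1
  have hy2 : (r' * Z0) • bs 0 + (p' * p + r' * q) • bs 1 + (p' * r + r' * s) • bs 2 =
      (0 : A) • bs 0 + (1 : A) • bs 1 + (0 : A) • bs 2 := by
    refine Eq.trans ?_ (Eq.trans hy1 ?_)
    · module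
    · module
  obtain ⟨-, Gy1, Gy2⟩ := coords bs hy2
  have hz1 : φ (φ.symm (bs 2)) = bs 2 := φ.apply_symm_apply (bs 2)
  rw [hZ', map_add, map_add, map_smul, map_smul, map_smul, hX, hY, hZ] at hz1
  have hz2 : (Z0' * a + s' * Z0) • bs 0 + (Z0' * b + q' * p + s' * q) • bs 1 +
      (Z0' * c + q' * r + s' * s) • bs 2 = (0 : A) • bs 0 + (0 : A) • bs 1 + (1 : A) • bs 2 := by
    refine Eq.trans ?_ (Eq.trans hz1 ?_)
    · module
    · module
  obtain ⟨-, Gz1, Gz2⟩ := coords bs hz2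
  exact ⟨a, b, c, p, r, Z0, q, s, a', b', c', p', r', Z0', q', s', hX, hY, hZ,
    ⟨S1, S2, S3, S4, S6⟩, ⟨S2', S3', S6'⟩, ⟨Gx0, Gy1, Gy2, Gz1, Gz2⟩⟩

theorem main (K : Type*) [Field K] (α : K) [Algebra K A]
    (hxy : ⁅bs 0, bs 1⁆ = bs 1) (hxz : ⁅bs 0, bs 2⁆ = algebraMap K A α • bs 2)
    (hyz : ⁅bs 1, bs 2⁆ = 0) (φ : L ≃ₗ⁅A⁆ L) :
    (α ^ 2 ≠ 1 → ∃ b c e i : A, IsUnit e ∧ IsUnit i ∧
        φ (bs 0) = bs 0 + b • bs 1 + c • bs 2 ∧ φ (bs 1) = e • bs 1 ∧ φ (bs 2) = i • bs 2) ∧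
    (α = 1 → ∃ b c e f h i : A, IsUnit (e * i - f * h) ∧
        φ (bs 0) = bs 0 + b • bs 1 + c • bs 2 ∧
        φ (bs 1) = e • bs 1 + f • bs 2 ∧ φ (bs 2) = h • bs 1 + i • bs 2) := by
  obtain ⟨a, b, c, p, r, Z0, q, s, a', b', c', p', r', Z0', q', s', hX, hY, hZ,
    ⟨S1, S2, S3, S4, S6⟩, ⟨S2', S3', S6'⟩, ⟨Gx0, Gy1, Gy2, Gz1, Gz2⟩⟩ :=
    data bs (algebraMap K A α) hxy hxz hyz φ
  constructor
  · intro hα
    have key : a = 1 ∧ r = 0 ∧ Z0 = 0 ∧ q = 0 ∧ (∃ x, p * x = 1) ∧ (∃ x, s * x = 1) := by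
      by_cases h0 : α = 0
      · exact caseB (by rw [h0, map_zero]) S1 S2 S4 S6 S2' S6' Gy1 Gz2
      · have hα1 : α - 1 ≠ 0 := by
          intro h; apply hα
          have h' : α = 1 := sub_eq_zero.mp h
          rw [h', one_pow]
        have hα2 : α * α - 1 ≠ 0 := by
          intro h; apply hα; rw [pow_two]; exact sub_eq_zero.mp h
        have e0 : algebraMap K A α * algebraMap K A α⁻¹ = 1 := by
          rw [← map_mul, mul_inv_cancel₀ h0, map_one]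
        have e1 : (algebraMap K A α - 1) * algebraMap K A (α - 1)⁻¹ = 1 := by
          rw [← map_one (algebraMap K A), ← map_sub, ← map_mul, mul_inv_cancel₀ hα1]
        have e2 : (algebraMap K A α * algebraMap K A α - 1) * algebraMap K A (α * α - 1)⁻¹
            = 1 := by
          rw [← map_one (algebraMap K A), ← map_mul, ← map_sub, ← map_mul,
            mul_inv_cancel₀ hα2]
        exact caseA e0 e1 e2 S1 S2 S3 S4 S3' Gy1 Gy2 Gz2
    obtain ⟨ha, hr0, hZ0, hq0, ⟨pi, hpi⟩, ⟨si, hsi⟩⟩ := key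
    refine ⟨b, c, p, s, isUnit_iff_exists_inv.mpr ⟨pi, hpi⟩,
      isUnit_iff_exists_inv.mpr ⟨si, hsi⟩, ?_, ?_, ?_⟩
    · rw [hX, ha, one_smul]
    · rw [hY, hr0, zero_smul, zero_smul, zero_add, add_zero]
    · rw [hZ, hZ0, hq0, zero_smul, zero_smul, zero_add, zero_add]
  · intro hα
    obtain ⟨ha, hZ0, ⟨di, hdi⟩⟩ :=
      caseC (by rw [hα, map_one]) S1 S3 S4 S3' Gy1 Gy2 Gz2
    refine ⟨b, c, p, r, q, s, isUnit_iff_exists_inv.mpr ⟨di, hdi⟩, ?_, ?_, ?_⟩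
    · rw [hX, ha, one_smul]
    · rw [hY, zero_smul, zero_add]
    · rw [hZ, hZ0, zero_smul, zero_add]

end Groth.Agent.Lib.LieAutL3
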