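import Groth.Statements.S8358
import Mathlib

/-! # Lie(D(M))(Spec B) = Hom(M, B) (lead) -/

set_option linter.unusedSimpArgs false
set_option linter.unusedVariables false
set_option linter.unusedSectionVars false
set_option linter.style.longLine false
set_option linter.style.haveILetI false
set_option maxHeartbeats 800000

universe u

open CategoryTheory CategoryTheory.Limits MonoidalCategory CartesianMonoidalCategory MonObj GrpObj
  AlgebraicGeometry Opposite

namespace Groth.Agent.Lib.LieDiag

variable (R : Type u) [CommRing R] (M : Type) [AddCommGroup M] (B : Type u) [CommRing B]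
  [Algebra R B]

/-- The group isomorphism from dual-number points of `D(M)` to convolution algebra homs. -/
noncomputable def Psi :
    (LieS.dpt B (Spec.map (CommRingCat.ofHom (algebraMap R B))) ⟶ Red.diag R M) ≃*
      WithConv (MonoidAlgebra R (Multiplicative M) →ₐ[R] DualNumber B) where
  toFun v := Spec.mapMulEquiv.symm ((LieS.dptIso (R := R) B).inv ≫ v)
  invFun φ := (LieS.dptIso (R := R) B).hom ≫ Spec.mapMulEquiv φ
  left_inv v := by simp
  right_inv φ := by simp
  map_mul' v w := by rw [MonObj.comp_mul, map_mul]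

theorem Psi_apply (v : LieS.dpt B (Spec.map (CommRingCat.ofHom (algebraMap R B))) ⟶ Red.diag R M) :
    Psi R M B v = Spec.mapMulEquiv.symm ((LieS.dptIso (R := R) B).inv ≫ v) := rfl

theorem Psi_symm_apply (φ : WithConv (MonoidAlgebra R (Multiplicative M) →ₐ[R] DualNumber B)) :
    (Psi R M B).symm φ = (LieS.dptIso (R := R) B).hom ≫ Spec.mapMulEquiv φ := rfl

theorem mapMulEquiv_left {R S T : Type u} [CommRing R] [CommRing S] [CommRing T] [Bialgebra R S]
    [Algebra R T] (φ : WithConv (S →ₐ[R] T)) :
    (Spec.mapMulEquiv φ).left = Spec.map (CommRingCat.ofHom φ.ofConv.toRingHom) := rfl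

/-- Underlying scheme morphism of a dual-number point, with explicit affine source and target. -/
noncomputable def leftS
    (v : LieS.dpt B (Spec.map (CommRingCat.ofHom (algebraMap R B))) ⟶ Red.diag R M) :
    Spec (CommRingCat.of (DualNumber B)) ⟶
      Spec (CommRingCat.of (MonoidAlgebra R (Multiplicative M))) := v.left

/-- Underlying scheme morphism of a `B`-point, with explicit affine source and target. -/
noncomputable def leftP
    (u : LieS.pt B (Spec.map (CommRingCat.ofHom (algebraMap R B))) ⟶ Red.diag R M) :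
    Spec (CommRingCat.of B) ⟶
      Spec (CommRingCat.of (MonoidAlgebra R (Multiplicative M))) := u.left

theorem leftP_ext
    (u u' : LieS.pt B (Spec.map (CommRingCat.ofHom (algebraMap R B))) ⟶ Red.diag R M)
    (h : leftP R M B u = leftP R M B u') : u = u' := Over.OverMorphism.ext h

theorem inv_comp_left (v : LieS.dpt B (Spec.map (CommRingCat.ofHom (algebraMap R B))) ⟶ Red.diag R M) :
    ((LieS.dptIso (R := R) B).inv ≫ v).left =
      𝟙 (Spec (CommRingCat.of (DualNumber B))) ≫ leftS R M B v := rfl

theorem hom_comp_left (φ : WithConv (MonoidAlgebra R (Multiplicative M) →ₐ[R] DualNumber B)) :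
    leftS R M B ((LieS.dptIso (R := R) B).hom ≫ Spec.mapMulEquiv φ) =
      𝟙 (Spec (CommRingCat.of (DualNumber B))) ≫
        Spec.map (CommRingCat.ofHom φ.ofConv.toRingHom) := rfl

theorem zeroSec_comp_left
    (w : LieS.dpt B (Spec.map (CommRingCat.ofHom (algebraMap R B))) ⟶ Red.diag R M) :
    leftP R M B (LieS.zeroSec B (Spec.map (CommRingCat.ofHom (algebraMap R B))) ≫ w) =
      Spec.map (CommRingCat.ofHom (TrivSqZeroExt.fstHom B B B).toRingHom) ≫ leftS R M B w := rfl

theorem scale_comp_left (b : B)
    (w : LieS.dpt B (Spec.map (CommRingCat.ofHom (algebraMap R B))) ⟶ Red.diag R M) :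
    leftS R M B (LieS.scale B (Spec.map (CommRingCat.ofHom (algebraMap R B))) b ≫ w) =
      Spec.map (CommRingCat.ofHom (LieS.scaleHom b)) ≫ leftS R M B w := rfl

theorem Psi_left (v : LieS.dpt B (Spec.map (CommRingCat.ofHom (algebraMap R B))) ⟶ Red.diag R M) :
    Spec.map (CommRingCat.ofHom (Psi R M B v).ofConv.toRingHom) = leftS R M B v := by
  have h : (Spec.mapMulEquiv (Spec.mapMulEquiv.symm ((LieS.dptIso (R := R) B).inv ≫ v))).left =
      ((LieS.dptIso (R := R) B).inv ≫ v).left :=
    congrArg (fun u => u.left)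
      (Spec.mapMulEquiv.apply_symm_apply ((LieS.dptIso (R := R) B).inv ≫ v))
  rw [mapMulEquiv_left] at h
  rw [Psi_apply]
  exact h.trans ((inv_comp_left R M B v).trans (Category.id_comp _))

theorem Psi_symm_left (φ : WithConv (MonoidAlgebra R (Multiplicative M) →ₐ[R] DualNumber B)) :
    leftS R M B ((Psi R M B).symm φ) = Spec.map (CommRingCat.ofHom φ.ofConv.toRingHom) := by
  rw [Psi_symm_apply]
  exact (hom_comp_left R M B φ).trans (Category.id_comp _)

theorem ringHom_of_left_eq {A T : Type u} [CommRing A] [CommRing T] (a b : A →+* T)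
    (h : Spec.map (CommRingCat.ofHom a) = Spec.map (CommRingCat.ofHom b)) : a = b := by
  have := Spec.map_injective h
  exact congrArg CommRingCat.Hom.hom this

theorem one_left :
    leftP R M B 1 =
      Spec.map (CommRingCat.ofHom ((Algebra.ofId R B).comp
        (Bialgebra.counitAlgHom R (MonoidAlgebra R (Multiplicative M)))).toRingHom) := by
  have h : (Spec.mapMulEquiv (R := R) (S := MonoidAlgebra R (Multiplicative M)) (T := B) 1).left =
      (1 : (Spec (CommRingCat.of B)).asOver (Spec (CommRingCat.of R)) ⟶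
        (Spec (CommRingCat.of (MonoidAlgebra R (Multiplicative M)))).asOver
          (Spec (CommRingCat.of R))).left :=
    congrArg (fun u => u.left)
      (map_one (Spec.mapMulEquiv (R := R) (S := MonoidAlgebra R (Multiplicative M)) (T := B)))
  rw [mapMulEquiv_left, AlgHom.convOne_def, WithConv.ofConv_toConv] at h
  exact h.symm

theorem fst_of_mem_Lie
    (v : LieS.dpt B (Spec.map (CommRingCat.ofHom (algebraMap R B))) ⟶ Red.diag R M)
    (hv : v ∈ LieS.LieR (Red.diag R M) B) (x : Multiplicative M) :
    TrivSqZeroExt.fst ((Psi R M B v).ofConv (MonoidAlgebra.single x 1)) = 1 := by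
  have h1 : LieS.zeroSec B _ ≫ v = 1 := (LieS.mem_Lie_iff _ B _ v).1 hv
  have h2 := congrArg (leftP R M B) h1
  rw [zeroSec_comp_left, one_left, ← Psi_left R M B v, LieS.specMap_comp] at h2
  have h4 := ringHom_of_left_eq _ _ h2
  have h5 := congrArg (fun r => r (MonoidAlgebra.single x 1)) h4
  simpa using h5

theorem conv_single {T : Type u} [CommRing T] [Algebra R T]
    (f g : WithConv (MonoidAlgebra R (Multiplicative M) →ₐ[R] T)) (x : Multiplicative M) :
    (f * g).ofConv (MonoidAlgebra.single x 1) =
      f.ofConv (MonoidAlgebra.single x 1) * g.ofConv (MonoidAlgebra.single x 1) := by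
  rw [AlgHom.convMul_def, WithConv.ofConv_toConv]
  simp only [AlgHom.coe_comp, Function.comp_apply, Bialgebra.comulAlgHom_apply]
  rw [(MonoidAlgebra.isGroupLikeElem_single_one x).comul_eq_tmul_self]
  simp

/-- The `ε`-coefficient function of a dual-number point. -/
noncomputable def hFun
    (v : LieS.dpt B (Spec.map (CommRingCat.ofHom (algebraMap R B))) ⟶ Red.diag R M) (m : M) : B :=
  TrivSqZeroExt.snd (((Spec.mapMulEquiv.symm ((LieS.dptIso B).inv ≫ v)).ofConv :
    MonoidAlgebra R (Multiplicative M) →ₐ[R] DualNumber B)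
    (MonoidAlgebra.single (Multiplicative.ofAdd m) 1))

theorem hFun_def
    (v : LieS.dpt B (Spec.map (CommRingCat.ofHom (algebraMap R B))) ⟶ Red.diag R M) (m : M) :
    hFun R M B v m = TrivSqZeroExt.snd (((Spec.mapMulEquiv.symm ((LieS.dptIso B).inv ≫ v)).ofConv :
      MonoidAlgebra R (Multiplicative M) →ₐ[R] DualNumber B)
      (MonoidAlgebra.single (Multiplicative.ofAdd m) 1)) := rfl

theorem hFun_eq
    (v : LieS.dpt B (Spec.map (CommRingCat.ofHom (algebraMap R B))) ⟶ Red.diag R M) (m : M) :
    hFun R M B v m =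
      TrivSqZeroExt.snd ((Psi R M B v).ofConv (MonoidAlgebra.single (Multiplicative.ofAdd m) 1)) := by
  rw [Psi_apply, hFun_def]

theorem hFun_zero
    (v : LieS.dpt B (Spec.map (CommRingCat.ofHom (algebraMap R B))) ⟶ Red.diag R M) :
    hFun R M B v 0 = 0 := by
  rw [hFun_eq]
  have : (MonoidAlgebra.single (Multiplicative.ofAdd (0 : M)) (1 : R)) = 1 := by
    rw [ofAdd_zero]; rfl
  rw [this, map_one]
  simp

theorem hFun_add
    (v : LieS.dpt B (Spec.map (CommRingCat.ofHom (algebraMap R B))) ⟶ Red.diag R M)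
    (hv : v ∈ LieS.LieR (Red.diag R M) B) (m m' : M) :
    hFun R M B v (m + m') = hFun R M B v m + hFun R M B v m' := by
  rw [hFun_eq, hFun_eq, hFun_eq]
  have hs : (MonoidAlgebra.single (Multiplicative.ofAdd (m + m')) (1 : R)) =
      MonoidAlgebra.single (Multiplicative.ofAdd m) 1 *
        MonoidAlgebra.single (Multiplicative.ofAdd m') 1 := by
    rw [MonoidAlgebra.single_mul_single, ofAdd_add, _root_.one_mul]
  rw [hs, map_mul, DualNumber.snd_mul, fst_of_mem_Lie R M B v hv, fst_of_mem_Lie R M B v hv,
    _root_.one_mul, _root_.mul_one, add_comm]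

theorem hFun_mul
    (v w : LieS.dpt B (Spec.map (CommRingCat.ofHom (algebraMap R B))) ⟶ Red.diag R M)
    (hv : v ∈ LieS.LieR (Red.diag R M) B) (hw : w ∈ LieS.LieR (Red.diag R M) B) (m : M) :
    hFun R M B (v * w) m = hFun R M B v m + hFun R M B w m := by
  rw [hFun_eq, hFun_eq, hFun_eq, map_mul, conv_single, DualNumber.snd_mul,
    fst_of_mem_Lie R M B v hv, fst_of_mem_Lie R M B w hw, _root_.one_mul, _root_.mul_one, add_comm]

theorem Psi_scale (b : B)
    (v : LieS.dpt B (Spec.map (CommRingCat.ofHom (algebraMap R B))) ⟶ Red.diag R M)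
    (a : MonoidAlgebra R (Multiplicative M)) :
    (Psi R M B (LieS.scale B _ b ≫ v)).ofConv a = LieS.scaleHom b ((Psi R M B v).ofConv a) := by
  have h1 : Spec.map (CommRingCat.ofHom (Psi R M B (LieS.scale B _ b ≫ v)).ofConv.toRingHom) =
      Spec.map (CommRingCat.ofHom ((LieS.scaleHom b).comp (Psi R M B v).ofConv.toRingHom)) := by
    rw [Psi_left, scale_comp_left, ← Psi_left R M B v, LieS.specMap_comp]
  have h2 := ringHom_of_left_eq _ _ h1
  exact congrArg (fun r => r a) h2

theorem snd_scaleHom (b : B) (x : DualNumber B) :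
    TrivSqZeroExt.snd (LieS.scaleHom b x) = b * TrivSqZeroExt.snd x := by
  simp [LieS.scaleHom, LieS.dualHom_apply, TrivSqZeroExt.algebraMap_eq_inl']
  try ring

theorem hFun_scale (b : B)
    (v : LieS.dpt B (Spec.map (CommRingCat.ofHom (algebraMap R B))) ⟶ Red.diag R M) (m : M) :
    hFun R M B (LieS.scale B _ b ≫ v) m = b * hFun R M B v m := by
  rw [hFun_eq, hFun_eq, Psi_scale, snd_scaleHom]

theorem hFun_inj
    (v w : LieS.dpt B (Spec.map (CommRingCat.ofHom (algebraMap R B))) ⟶ Red.diag R M)
    (hv : v ∈ LieS.LieR (Red.diag R M) B) (hw : w ∈ LieS.LieR (Red.diag R M) B)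
    (h : ∀ m, hFun R M B v m = hFun R M B w m) : v = w := by
  apply (Psi R M B).injective
  apply WithConv.ofConv_injective
  apply (MonoidAlgebra.lift R (DualNumber B) (Multiplicative M)).symm.injective
  refine MonoidHom.ext fun x => ?_
  simp only [MonoidAlgebra.lift_symm_apply]
  apply TrivSqZeroExt.ext
  · rw [fst_of_mem_Lie R M B v hv, fst_of_mem_Lie R M B w hw]
  · have h1 := h (Multiplicative.toAdd x)
    rw [hFun_eq, hFun_eq, ofAdd_toAdd] at h1
    exact h1

theorem hFun_surj (h : M →+ B) :
    ∃ v : LieS.dpt B (Spec.map (CommRingCat.ofHom (algebraMap R B))) ⟶ Red.diag R M,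
      v ∈ LieS.LieR (Red.diag R M) B ∧ ∀ m, hFun R M B v m = h m := by
  let χ : Multiplicative M →* DualNumber B :=
    { toFun := fun x => TrivSqZeroExt.inl 1 + TrivSqZeroExt.inr (h (Multiplicative.toAdd x))
      map_one' := by simp
      map_mul' := fun x y => by
        apply TrivSqZeroExt.ext
        · simp
        · simp [add_comm] }
  have hχ : ∀ x, χ x = TrivSqZeroExt.inl 1 + TrivSqZeroExt.inr (h (Multiplicative.toAdd x)) :=
    fun x => rfl
  obtain ⟨φ, hφdef⟩ : ∃ φ : MonoidAlgebra R (Multiplicative M) →ₐ[R] DualNumber B,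
      φ = MonoidAlgebra.lift R (DualNumber B) (Multiplicative M) χ := ⟨_, rfl⟩
  have hφ : ∀ x, φ (MonoidAlgebra.single x 1) =
      TrivSqZeroExt.inl 1 + TrivSqZeroExt.inr (h (Multiplicative.toAdd x)) := by
    intro x
    rw [hφdef, MonoidAlgebra.lift_single, one_smul, hχ]
  have key : (TrivSqZeroExt.fstHom R B B).comp φ =
      (Algebra.ofId R B).comp (Bialgebra.counitAlgHom R (MonoidAlgebra R (Multiplicative M))) := by
    apply (MonoidAlgebra.lift R B (Multiplicative M)).symm.injective
    refine MonoidHom.ext fun x => ?_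
    simp only [MonoidAlgebra.lift_symm_apply, AlgHom.comp_apply]
    rw [hφ]
    simp
  refine ⟨(Psi R M B).symm (WithConv.toConv φ), ?_, ?_⟩
  · rw [LieS.mem_Lie_iff]
    have hr : (TrivSqZeroExt.fstHom B B B).toRingHom.comp φ.toRingHom =
        ((Algebra.ofId R B).comp
          (Bialgebra.counitAlgHom R (MonoidAlgebra R (Multiplicative M)))).toRingHom := by
      refine RingHom.ext fun a => ?_
      have := congrArg (fun f => f a) key
      simpa using this
    apply leftP_ext
    rw [zeroSec_comp_left, Psi_symm_left, LieS.specMap_comp, WithConv.ofConv_toConv, hr, one_left]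
  · intro m
    rw [hFun_eq, MulEquiv.apply_symm_apply, WithConv.ofConv_toConv, hφ]
    simp

theorem main :
    ∃ e : LieS.LieR (Red.diag R M) B ≃* Multiplicative (M →+ B),
      (∀ (v : LieS.LieR (Red.diag R M) B) (m : M),
        Multiplicative.toAdd (e v) m =
          TrivSqZeroExt.snd (((Spec.mapMulEquiv.symm ((LieS.dptIso B).inv ≫ v.1)).ofConv :
            MonoidAlgebra R (Multiplicative M) →ₐ[R] DualNumber B)
            (MonoidAlgebra.single (Multiplicative.ofAdd m) 1))) ∧
      ∀ (b : B) (v : LieS.LieR (Red.diag R M) B),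
        e (b • v) = Multiplicative.ofAdd (b • Multiplicative.toAdd (e v)) := by
  let hA : LieS.LieR (Red.diag R M) B → (M →+ B) := fun v =>
    { toFun := hFun R M B v.1
      map_zero' := hFun_zero R M B v.1
      map_add' := hFun_add R M B v.1 v.2 }
  have hA_apply : ∀ v m, hA v m = hFun R M B v.1 m := fun v m => rfl
  let f : LieS.LieR (Red.diag R M) B →* Multiplicative (M →+ B) :=
    MonoidHom.mk' (fun v => Multiplicative.ofAdd (hA v)) (fun v w => by
      show Multiplicative.ofAdd (hA (v * w)) = Multiplicative.ofAdd (hA v) * Multiplicative.ofAdd (hA w)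
      rw [← ofAdd_add]
      congr 1
      refine AddMonoidHom.ext fun m => ?_
      rw [AddMonoidHom.add_apply, hA_apply, hA_apply, hA_apply]
      exact hFun_mul R M B v.1 w.1 v.2 w.2 m)
  have hf : ∀ v, f v = Multiplicative.ofAdd (hA v) := fun v => rfl
  have hbij : Function.Bijective f := by
    constructor
    · intro v w hvw
      apply Subtype.ext
      apply hFun_inj R M B v.1 w.1 v.2 w.2
      intro m
      rw [hf, hf] at hvw
      have h1 : hA v = hA w := Multiplicative.ofAdd.injective hvw
      rw [← hA_apply, ← hA_apply, h1]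
    · intro t
      obtain ⟨v, hv, hvm⟩ := hFun_surj R M B (Multiplicative.toAdd t)
      refine ⟨⟨v, hv⟩, ?_⟩
      rw [hf, ← ofAdd_toAdd t]
      congr 1
      refine AddMonoidHom.ext fun m => ?_
      rw [hA_apply]
      exact hvm m
  refine ⟨MulEquiv.ofBijective f hbij, fun v m => hFun_def R M B v.1 m, fun b v => ?_⟩
  show Multiplicative.ofAdd (hA (b • v)) = Multiplicative.ofAdd (b • hA v)
  congr 1
  refine AddMonoidHom.ext fun m => ?_
  rw [AddMonoidHom.smul_apply, hA_apply, hA_apply, LieS.smul_val, hFun_scale, smul_eq_mul]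

end Groth.Agent.Lib.LieDiag
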