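import Mathlib
import Groth.Agent.Lib.LieAutL3_lead

namespace Groth.Agent.Lib.LieL3Family

open Groth.Agent.Lib.LieAutR3 Groth.Agent.Lib.LieAutL3

universe u v w

variable {k : Type u} [Field k] {L : Type v} [LieRing L] [LieAlgebra k L]
  (b : Module.Basis (Fin 3) k L)
  {L' : Type w} [LieRing L'] [LieAlgebra k L'] (b' : Module.Basis (Fin 3) k L')

def mkLieEquiv (e : L ≃ₗ[k] L') (h : ∀ u v, e ⁅u, v⁆ = ⁅e u, e v⁆) : L ≃ₗ⁅k⁆ L' :=
  { e with map_lie' := fun {u v} => h u v }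

lemma forward (t t' : k) (ht : t ≠ 0)
    (h01 : ⁅b 0, b 1⁆ = b 1) (h02 : ⁅b 0, b 2⁆ = t • b 2)
    (h01' : ⁅b' 0, b' 1⁆ = b' 1) (h02' : ⁅b' 0, b' 2⁆ = t' • b' 2) (h12' : ⁅b' 1, b' 2⁆ = 0)
    (φ : L ≃ₗ⁅k⁆ L') : t' = t ∨ t' = t⁻¹ := by
  obtain ⟨a, bb, c, hX⟩ : ∃ a bb c : k, φ (b 0) = a • b' 0 + bb • b' 1 + c • b' 2 :=
    ⟨_, _, _, expand b' _⟩
  obtain ⟨Y0, Y1, Y2, hY⟩ : ∃ a bb c : k, φ (b 1) = a • b' 0 + bb • b' 1 + c • b' 2 :=
    ⟨_, _, _, expand b' _⟩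
  obtain ⟨Z0, Z1, Z2, hZ⟩ : ∃ a bb c : k, φ (b 2) = a • b' 0 + bb • b' 1 + c • b' 2 :=
    ⟨_, _, _, expand b' _⟩
  have h1 : φ (b 1) = ⁅φ (b 0), φ (b 1)⁆ := by rw [← LieEquiv.map_lie, h01]
  rw [hX, hY, bracket b' t' h01' h02' h12'] at h1
  obtain ⟨e0, e1, e2⟩ := coords b' h1
  have h2 : t • φ (b 2) = ⁅φ (b 0), φ (b 2)⁆ := by rw [← LieEquiv.map_lie, h02, map_smul]
  rw [hX, hZ, bracket b' t' h01' h02' h12'] at h2
  have h2' : (t * Z0) • b' 0 + (t * Z1) • b' 1 + (t * Z2) • b' 2 =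
      (0 : k) • b' 0 + (a * Z1 - bb * Z0) • b' 1 + (t' * (a * Z2 - c * Z0)) • b' 2 := by
    rw [← h2]; module
  obtain ⟨f0, f1, f2⟩ := coords b' h2'
  have hZ0 : Z0 = 0 := by
    rcases mul_eq_zero.mp f0 with h | h
    · exact absurd h ht
    · exact h
  rw [e0] at e1 e2
  rw [hZ0] at f1 f2
  have hdet : Y1 * Z2 - Z1 * Y2 ≠ 0 := by
    intro hd
    have hw : φ ((0 : k) • b 0 + Z2 • b 1 + (-Y2) • b 2) = 0 := by
      rw [map_add, map_add, map_smul, map_smul, map_smul, hX, hY, hZ, e0, hZ0]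
      trans ((Y1 * Z2 - Z1 * Y2) • b' 1)
      · module
      · rw [hd, zero_smul]
    have hw' : (0 : k) • b 0 + Z2 • b 1 + (-Y2) • b 2 =
        (0 : k) • b 0 + (0 : k) • b 1 + (0 : k) • b 2 := by
      have h' : φ ((0 : k) • b 0 + Z2 • b 1 + (-Y2) • b 2) = φ 0 := by rw [hw, map_zero]
      rw [EquivLike.injective φ h']; module
    obtain ⟨-, -, hY2⟩ := coords b hw'
    have hw2 : φ ((0 : k) • b 0 + Z1 • b 1 + (-Y1) • b 2) = 0 := by
      rw [map_add, map_add, map_smul, map_smul, map_smul, hX, hY, hZ, e0, hZ0]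
      trans ((-(Y1 * Z2 - Z1 * Y2)) • b' 2)
      · module
      · rw [hd, neg_zero, zero_smul]
    have hw2' : (0 : k) • b 0 + Z1 • b 1 + (-Y1) • b 2 =
        (0 : k) • b 0 + (0 : k) • b 1 + (0 : k) • b 2 := by
      have h' : φ ((0 : k) • b 0 + Z1 • b 1 + (-Y1) • b 2) = φ 0 := by rw [hw2, map_zero]
      rw [EquivLike.injective φ h']; module
    obtain ⟨-, -, hY1⟩ := coords b hw2'
    have hy0 : φ (b 1) = 0 := by
      rw [hY, e0, neg_eq_zero.mp hY1, neg_eq_zero.mp hY2]; simp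
    exact b.ne_zero 1 (EquivLike.injective φ (by rw [hy0, map_zero]))
  have hcases : (Y1 ≠ 0 ∧ Z2 ≠ 0) ∨ (Z1 ≠ 0 ∧ Y2 ≠ 0) := by
    by_contra hcon
    push_neg at hcon
    apply hdet
    obtain ⟨hc1, hc2⟩ := hcon
    have hA : Y1 * Z2 = 0 := by
      by_cases h : Y1 = 0
      · rw [h, zero_mul]
      · rw [hc1 h, mul_zero]
    have hB : Z1 * Y2 = 0 := by
      by_cases h : Z1 = 0
      · rw [h, zero_mul]
      · rw [hc2 h, mul_zero]
    rw [hA, hB, sub_zero]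
  rcases hcases with ⟨hY1, hZ2⟩ | ⟨hZ1, hY2⟩
  · left
    have ha : a = 1 := by
      have h3 : Y1 * (1 - a) = 0 := by linear_combination e1
      rcases mul_eq_zero.mp h3 with h | h
      · exact absurd h hY1
      · linear_combination -h
    have h4 : Z2 * (t - t') = 0 := by rw [ha] at f2; linear_combination f2
    rcases mul_eq_zero.mp h4 with h | h
    · exact absurd h hZ2
    · linear_combination -h
  · right
    have ha : a = t := by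
      have h3 : Z1 * (t - a) = 0 := by linear_combination f1
      rcases mul_eq_zero.mp h3 with h | h
      · exact absurd h hZ1
      · linear_combination -h
    have h4 : Y2 * (1 - t' * t) = 0 := by rw [ha] at e2; linear_combination e2
    rcases mul_eq_zero.mp h4 with h | h
    · exact absurd h hY2
    · exact eq_inv_of_mul_eq_one_left (by linear_combination -h)

lemma backward_eq (t : k)
    (h01 : ⁅b 0, b 1⁆ = b 1) (h02 : ⁅b 0, b 2⁆ = t • b 2) (h12 : ⁅b 1, b 2⁆ = 0)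
    (h01' : ⁅b' 0, b' 1⁆ = b' 1) (h02' : ⁅b' 0, b' 2⁆ = t • b' 2) (h12' : ⁅b' 1, b' 2⁆ = 0) :
    Nonempty (L ≃ₗ⁅k⁆ L') := by
  let e : L ≃ₗ[k] L' := b.equiv b' (Equiv.refl _)
  have he : ∀ i, e (b i) = b' i := fun i => by simp [e]
  refine ⟨mkLieEquiv e ?_⟩
  intro u v
  obtain ⟨u0, u1, u2, rfl⟩ : ∃ u0 u1 u2 : k, u = u0 • b 0 + u1 • b 1 + u2 • b 2 :=
    ⟨_, _, _, expand b u⟩
  obtain ⟨v0, v1, v2, rfl⟩ : ∃ v0 v1 v2 : k, v = v0 • b 0 + v1 • b 1 + v2 • b 2 :=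
    ⟨_, _, _, expand b v⟩
  rw [bracket b t h01 h02 h12]
  simp only [map_add, map_smul, he]
  rw [bracket b' t h01' h02' h12']

lemma backward_inv (t t' : k) (htt : t' * t = 1)
    (h01 : ⁅b 0, b 1⁆ = b 1) (h02 : ⁅b 0, b 2⁆ = t • b 2) (h12 : ⁅b 1, b 2⁆ = 0)
    (h01' : ⁅b' 0, b' 1⁆ = b' 1) (h02' : ⁅b' 0, b' 2⁆ = t' • b' 2) (h12' : ⁅b' 1, b' 2⁆ = 0) :
    Nonempty (L ≃ₗ⁅k⁆ L') := by
  let f : L →ₗ[k] L' := b.constr k ![t • b' 0, b' 2, b' 1]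
  let g : L' →ₗ[k] L := b'.constr k ![t' • b 0, b 2, b 1]
  have hf0 : f (b 0) = t • b' 0 := by simp [f]
  have hf1 : f (b 1) = b' 2 := by simp [f]
  have hf2 : f (b 2) = b' 1 := by simp [f]
  have hg0 : g (b' 0) = t' • b 0 := by simp [g]
  have hg1 : g (b' 1) = b 2 := by simp [g]
  have hg2 : g (b' 2) = b 1 := by simp [g]
  have hfg : f ∘ₗ g = LinearMap.id := by
    apply b'.ext
    intro i
    match i with
    | 0 => rw [LinearMap.comp_apply, hg0, map_smul, hf0, smul_smul, htt, one_smul,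
        LinearMap.id_apply]
    | 1 => rw [LinearMap.comp_apply, hg1, hf2, LinearMap.id_apply]
    | 2 => rw [LinearMap.comp_apply, hg2, hf1, LinearMap.id_apply]
  have hgf : g ∘ₗ f = LinearMap.id := by
    apply b.ext
    intro i
    match i with
    | 0 => rw [LinearMap.comp_apply, hf0, map_smul, hg0, smul_smul, mul_comm, htt, one_smul,
        LinearMap.id_apply]
    | 1 => rw [LinearMap.comp_apply, hf1, hg2, LinearMap.id_apply]
    | 2 => rw [LinearMap.comp_apply, hf2, hg1, LinearMap.id_apply]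
  let e : L ≃ₗ[k] L' := LinearEquiv.ofLinear f g hfg hgf
  have key : ∀ w0 w1 w2 : k, e (w0 • b 0 + w1 • b 1 + w2 • b 2) =
      (w0 * t) • b' 0 + w2 • b' 1 + w1 • b' 2 := by
    intro w0 w1 w2
    show f _ = _
    rw [map_add, map_add, map_smul, map_smul, map_smul, hf0, hf1, hf2]
    module
  refine ⟨mkLieEquiv e ?_⟩
  intro u v
  obtain ⟨u0, u1, u2, rfl⟩ : ∃ u0 u1 u2 : k, u = u0 • b 0 + u1 • b 1 + u2 • b 2 :=
    ⟨_, _, _, expand b u⟩
  obtain ⟨v0, v1, v2, rfl⟩ : ∃ v0 v1 v2 : k, v = v0 • b 0 + v1 • b 1 + v2 • b 2 :=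
    ⟨_, _, _, expand b v⟩
  rw [bracket b t h01 h02 h12, key, key, key, bracket b' t' h01' h02' h12']
  rw [← sub_eq_zero]
  trans (((1 - t' * t) * (u0 * v1 - u1 * v0)) • b' 2)
  · module
  · rw [htt, sub_self, zero_mul, zero_smul]

theorem main (t t' : k) (ht : t ≠ 0)
    (h01 : ⁅b 0, b 1⁆ = b 1) (h02 : ⁅b 0, b 2⁆ = t • b 2) (h12 : ⁅b 1, b 2⁆ = 0)
    (h01' : ⁅b' 0, b' 1⁆ = b' 1) (h02' : ⁅b' 0, b' 2⁆ = t' • b' 2) (h12' : ⁅b' 1, b' 2⁆ = 0) :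
    Nonempty (L ≃ₗ⁅k⁆ L') ↔ (t' = t ∨ t' = t⁻¹) := by
  constructor
  · rintro ⟨φ⟩
    exact forward b b' t t' ht h01 h02 h01' h02' h12' φ
  · rintro (h | h)
    · rw [h] at h02'
      exact backward_eq b b' t h01 h02 h12 h01' h02' h12'
    · exact backward_inv b b' t t' (by rw [h, inv_mul_cancel₀ ht]) h01 h02 h12 h01' h02' h12'

end Groth.Agent.Lib.LieL3Family
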