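import Mathlib
import Groth.Agent.Lib.LieAutR3_lead

namespace Groth.Agent.Lib.LieNoIsoLaurent

open Groth.Agent.Lib.LieAutR3

lemma bracketF {R : Type*} [CommRing R] {F : Type*} [LieRing F] [LieAlgebra R F]
    (bF : Module.Basis (Fin 3) R F) (T : R)
    (h01 : ⁅bF 0, bF 1⁆ = bF 2) (h02 : ⁅bF 0, bF 2⁆ = T • bF 1) (h12 : ⁅bF 1, bF 2⁆ = 0)
    (u0 u1 u2 v0 v1 v2 : R) :
    ⁅u0 • bF 0 + u1 • bF 1 + u2 • bF 2, v0 • bF 0 + v1 • bF 1 + v2 • bF 2⁆ =
      (0 : R) • bF 0 + (T * (u0 * v2 - u2 * v0)) • bF 1 + (u0 * v1 - u1 * v0) • bF 2 := by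
  have h10 : ⁅bF 1, bF 0⁆ = -bF 2 := by rw [← lie_skew, h01]
  have h20 : ⁅bF 2, bF 0⁆ = -(T • bF 1) := by rw [← lie_skew, h02]
  have h21 : ⁅bF 2, bF 1⁆ = 0 := by rw [← lie_skew, h12, neg_zero]
  simp only [add_lie, lie_add, smul_lie, lie_smul, lie_self, h01, h02, h12, h10, h20, h21]
  module

theorem main (k : Type*) [Field k]
    {F : Type*} [LieRing F] [LieAlgebra (LaurentSeries k) F]
    (bF : Module.Basis (Fin 3) (LaurentSeries k) F)
    (hF01 : ⁅bF 0, bF 1⁆ = bF 2)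
    (hF02 : ⁅bF 0, bF 2⁆ = (HahnSeries.single 1 (1 : k) : LaurentSeries k) • bF 1)
    (hF12 : ⁅bF 1, bF 2⁆ = 0)
    {L : Type*} [LieRing L] [LieAlgebra (LaurentSeries k) L]
    (bL : Module.Basis (Fin 3) (LaurentSeries k) L)
    (hL01 : ⁅bL 0, bL 1⁆ = bL 1) :
    IsEmpty (L ≃ₗ⁅LaurentSeries k⁆ F) := by
  refine ⟨fun ψ => ?_⟩
  obtain ⟨a, b, c, hX⟩ : ∃ a b c : LaurentSeries k,
      ψ (bL 0) = a • bF 0 + b • bF 1 + c • bF 2 := ⟨_, _, _, expand bF _⟩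
  obtain ⟨Y0, Y1, Y2, hY⟩ : ∃ a b c : LaurentSeries k,
      ψ (bL 1) = a • bF 0 + b • bF 1 + c • bF 2 := ⟨_, _, _, expand bF _⟩
  have h1 : ψ (bL 1) = ⁅ψ (bL 0), ψ (bL 1)⁆ := by rw [← LieEquiv.map_lie, hL01]
  rw [hX, hY, bracketF bF _ hF01 hF02 hF12] at h1
  obtain ⟨e0, e1, e2⟩ := coords bF h1
  rw [e0] at e1 e2
  have hY1 : Y1 * (1 - (HahnSeries.single 1 (1 : k) : LaurentSeries k) * (a * a)) = 0 := by
    linear_combination e1 + ((HahnSeries.single 1 (1 : k) : LaurentSeries k) * a) * e2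
  rcases mul_eq_zero.mp hY1 with h | h
  · have hY2 : Y2 = 0 := by rw [h] at e2; linear_combination e2
    have h0 : ψ (bL 1) = 0 := by rw [hY, e0, h, hY2]; simp
    have h0' : bL 1 = 0 := by
      have h' : ψ (bL 1) = ψ 0 := by rw [h0, map_zero]
      exact EquivLike.injective ψ h'
    exact bL.ne_zero 1 h0'
  · have hT : (HahnSeries.single 1 (1 : k) : LaurentSeries k) * (a * a) = 1 := by
      linear_combination -h
    have ha : a ≠ 0 := by rintro rfl; simp at hT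
    have hT0 : (HahnSeries.single 1 (1 : k) : LaurentSeries k) ≠ 0 :=
      HahnSeries.single_ne_zero one_ne_zero
    have h2 := congrArg HahnSeries.order hT
    rw [HahnSeries.order_mul hT0 (mul_ne_zero ha ha), HahnSeries.order_mul ha ha,
      HahnSeries.order_one, HahnSeries.order_single one_ne_zero] at h2
    omega

end Groth.Agent.Lib.LieNoIsoLaurent
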