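import Mathlib
import Groth.Prelude.Def_LieS

/-!
# Helpers for the Lie algebra functor of a group scheme (helper1)

* `spec_hom_ext`: a family of ring maps `R → Aᵢ`, jointly injective and jointly surjective on
  spectra, gives a jointly epimorphic family `Spec Aᵢ → Spec R` in the category of schemes.
* `mulMap_cancel`: the coordinate-multiplying map is an epimorphism towards schemes.
* `scale_add`: for a monoid scheme `X` over `S`, on the kernel of `X(T[ε]) → X(T)` rescaling is
  additive: `(a • v) * (b • v) = (a + b) • v`.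
-/

universe u

open CategoryTheory Limits AlgebraicGeometry MonObj

namespace Groth.Agent.Lib.LieSH1

theorem spec_hom_ext {J : Type*} {R : Type u} [CommRing R] {A : J → Type u} [∀ i, CommRing (A i)]
    (φ : ∀ i, R →+* A i)
    (hsurj : ∀ p : PrimeSpectrum R, ∃ i, ∃ q : PrimeSpectrum (A i), PrimeSpectrum.comap (φ i) q = p)
    (hinj : ∀ x : R, (∀ i, φ i x = 0) → x = 0)
    {Z : Scheme.{u}} (g g' : Spec (CommRingCat.of R) ⟶ Z)
    (h : ∀ i, Spec.map (CommRingCat.ofHom (φ i)) ≫ g = Spec.map (CommRingCat.ofHom (φ i)) ≫ g') :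
    g = g' := by
  have hImm : IsImmersion (equalizer.ι g g') := inferInstance
  let l : ∀ i, Spec (CommRingCat.of (A i)) ⟶ equalizer g g' :=
    fun i => equalizer.lift (Spec.map (CommRingCat.ofHom (φ i))) (h i)
  have hl : ∀ i, l i ≫ equalizer.ι g g' = Spec.map (CommRingCat.ofHom (φ i)) :=
    fun i => equalizer.lift_ι _ _
  have hsurj' : Set.range (equalizer.ι g g') = Set.univ := by
    rw [Set.eq_univ_iff_forall]
    intro p
    obtain ⟨i, q, hq⟩ := hsurj p
    let q' : ↥(Spec (CommRingCat.of (A i))) := q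
    refine ⟨(l i) q', ?_⟩
    have h1 : (l i ≫ equalizer.ι g g') q' = p := by rw [hl]; exact hq
    rwa [Scheme.Hom.comp_apply] at h1
  have hCl : IsClosedImmersion (equalizer.ι g g') :=
    .of_isPreimmersion _ (by rw [hsurj']; exact isClosed_univ)
  obtain ⟨I, ε, hε⟩ := IsClosedImmersion.Spec_iff.mp hCl
  have hI : I = ⊥ := by
    refine le_bot_iff.mp fun x hx => ?_
    rw [Ideal.mem_bot]
    apply hinj
    intro i
    obtain ⟨ψ, hψ⟩ := Spec.map_surjective (l i ≫ ε.hom)
    have h1 : Spec.map ψ ≫ Spec.map (CommRingCat.ofHom (Ideal.Quotient.mk I)) =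
        Spec.map (CommRingCat.ofHom (φ i)) := by
      rw [hψ, Category.assoc, ← hε, hl]
    rw [← Spec.map_comp] at h1
    have h2 := Spec.map_injective h1
    have h3 : ψ.hom (Ideal.Quotient.mk I x) = φ i x := by
      have := congrArg (fun k => k.hom x) h2
      simpa using this
    rw [← h3, Ideal.Quotient.eq_zero_iff_mem.mpr hx, map_zero]
  subst hI
  have hiso : IsIso (CommRingCat.ofHom (Ideal.Quotient.mk (⊥ : Ideal R))) := by
    rw [ConcreteCategory.isIso_iff_bijective]
    refine ⟨?_, Ideal.Quotient.mk_surjective⟩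
    intro x y hxy
    have : Ideal.Quotient.mk (⊥ : Ideal R) x = Ideal.Quotient.mk (⊥ : Ideal R) y := hxy
    rw [Ideal.Quotient.eq, Ideal.mem_bot, sub_eq_zero] at this
    exact this
  have hepi : Epi (equalizer.ι g g') := by
    rw [hε]
    infer_instance
  exact (cancel_epi (equalizer.ι g g')).1 (equalizer.condition g g')

theorem tsze_mem_prime_iff {R M : Type*} [CommRing R] [AddCommGroup M] [Module R M] [Module Rᵐᵒᵖ M]
    [IsCentralScalar R M] (p : Ideal (TrivSqZeroExt R M)) [hp : p.IsPrime] (x : TrivSqZeroExt R M) :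
    x ∈ p ↔ (TrivSqZeroExt.inl x.fst : TrivSqZeroExt R M) ∈ p := by
  have hx : TrivSqZeroExt.inl x.fst + TrivSqZeroExt.inr x.snd = x :=
    TrivSqZeroExt.inl_fst_add_inr_snd_eq x
  have hn : (TrivSqZeroExt.inr x.snd : TrivSqZeroExt R M) ∈ p := by
    apply hp.mem_of_pow_mem 2
    rw [pow_two, TrivSqZeroExt.inr_mul_inr]
    exact p.zero_mem
  constructor
  · intro h
    have h2 : x - TrivSqZeroExt.inr x.snd = TrivSqZeroExt.inl x.fst := by
      rw [sub_eq_iff_eq_add]; exact hx.symm
    rw [← h2]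
    exact p.sub_mem h hn
  · intro h
    rw [← hx]
    exact p.add_mem h hn

/-- If `ρ ∘ φ = inl ∘ fst` on a trivial square-zero extension `E`, then `Spec φ` is surjective. -/
theorem tsze_comap_surjective {R M C : Type*} [CommRing R] [AddCommGroup M] [Module R M]
    [Module Rᵐᵒᵖ M] [IsCentralScalar R M] [CommRing C] (φ : TrivSqZeroExt R M →+* C)
    (ρ : C →+* TrivSqZeroExt R M) (h : ∀ x, ρ (φ x) = TrivSqZeroExt.inl x.fst)
    (p : PrimeSpectrum (TrivSqZeroExt R M)) : ∃ q : PrimeSpectrum C, PrimeSpectrum.comap φ q = p := by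
  refine ⟨PrimeSpectrum.comap ρ p, ?_⟩
  apply PrimeSpectrum.ext
  ext x
  have := p.isPrime
  rw [PrimeSpectrum.comap_asIdeal, PrimeSpectrum.comap_asIdeal, Ideal.mem_comap, Ideal.mem_comap, h,
    ← tsze_mem_prime_iff]


section LieS

variable {S : Scheme.{u}} (B : Type u) [CommRing B] (f : Spec (CommRingCat.of B) ⟶ S)

theorem fst_mulHom (x : DualNumber B) :
    (LieS.mulHom B x).fst = TrivSqZeroExt.inl x.fst := by
  simp [LieS.mulHom, LieS.toD2, TrivSqZeroExt.algebraMap_eq_inl']

theorem snd_snd_mulHom (x : DualNumber B) :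
    (LieS.mulHom B x).snd.snd = x.snd := by
  simp [LieS.mulHom, LieS.toD2, TrivSqZeroExt.algebraMap_eq_inl']

theorem mulHom_injective : Function.Injective (LieS.mulHom B) := by
  rw [injective_iff_map_eq_zero]
  intro x hx
  apply TrivSqZeroExt.ext
  · have h1 := fst_mulHom B x
    rw [hx] at h1
    have h2 := congrArg TrivSqZeroExt.fst h1
    simpa using h2.symm
  · have h1 := snd_snd_mulHom B x
    rw [hx] at h1
    simpa using h1.symm

/-- The coordinate-multiplying map `I_T ×_T I'_T ⟶ I_T` is an epimorphism (towards schemes). -/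
theorem mulMap_cancel {X : Over S} (a b : LieS.dpt B f ⟶ X)
    (h : LieS.mulMap B f ≫ a = LieS.mulMap B f ≫ b) : a = b := by
  apply Over.OverMorphism.ext
  obtain ⟨m, hm⟩ : ∃ m : Spec (CommRingCat.of (LieS.D2 B)) ⟶ Spec (CommRingCat.of (DualNumber B)),
      m = Spec.map (CommRingCat.ofHom (LieS.mulHom B)) := ⟨_, rfl⟩
  have hl : m = (LieS.mulMap B f).left := hm
  obtain ⟨a', ha'⟩ : ∃ a' : Spec (CommRingCat.of (DualNumber B)) ⟶ X.left, a' = a.left := ⟨_, rfl⟩
  obtain ⟨b', hb'⟩ : ∃ b' : Spec (CommRingCat.of (DualNumber B)) ⟶ X.left, b' = b.left := ⟨_, rfl⟩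
  have h1 : m ≫ a' = m ≫ b' := by
    have h2 : (LieS.mulMap B f ≫ a).left = (LieS.mulMap B f ≫ b).left := by rw [h]
    rw [Over.comp_left, Over.comp_left, ← hl] at h2
    rw [ha', hb']
    exact h2
  rw [hm] at h1
  show a.left = b.left
  rw [← ha', ← hb']
  have key := @spec_hom_ext Unit (DualNumber B) _ (fun _ => LieS.D2 B) _ (fun _ => LieS.mulHom B)
  have hs : ∀ p : PrimeSpectrum (DualNumber B), ∃ (_ : Unit) (q : PrimeSpectrum (LieS.D2 B)),
      PrimeSpectrum.comap (LieS.mulHom B) q = p := by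
    intro p
    have hρ : ∀ x : DualNumber B,
        (TrivSqZeroExt.fstHom (DualNumber B) (DualNumber B) (DualNumber B)).toRingHom
          (LieS.mulHom B x) = TrivSqZeroExt.inl x.fst := fun x => fst_mulHom B x
    obtain ⟨q, hq⟩ := tsze_comap_surjective (R := B) (M := B) (C := LieS.D2 B) (LieS.mulHom B)
      (TrivSqZeroExt.fstHom (DualNumber B) (DualNumber B) (DualNumber B)).toRingHom hρ p
    exact ⟨(), q, hq⟩
  have hi : ∀ x : DualNumber B, (∀ _ : Unit, LieS.mulHom B x = 0) → x = 0 := by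
    intro x hx
    exact mulHom_injective B ((hx ()).trans (map_zero _).symm)
  exact key hs hi a' b' (fun _ => h1)

/-- Morphisms over `S` between spectra of `B`-algebras induced by ring maps. -/
noncomputable def ovMap {C C' : Type u} [CommRing C] [CommRing C'] (a : B →+* C) (a' : B →+* C') (θ : C →+* C')
    (h : θ.comp a = a') :
    (Over.mk (Spec.map (CommRingCat.ofHom a') ≫ f) : Over S) ⟶
      Over.mk (Spec.map (CommRingCat.ofHom a) ≫ f) :=
  Over.homMk (Spec.map (CommRingCat.ofHom θ)) (by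
    change Spec.map _ ≫ Spec.map _ ≫ f = Spec.map _ ≫ f
    rw [← Category.assoc, LieS.specMap_comp, h])

/-- `B[ε₁, ε₂]/(ε₁, ε₂)²`. -/
abbrev A2 (B : Type u) [CommRing B] : Type u := TrivSqZeroExt B (B × B)

/-- `Spec B[ε₁, ε₂]/(ε₁, ε₂)²` over `S`. -/
noncomputable abbrev a2pt : Over S := Over.mk (Spec.map (CommRingCat.ofHom (algebraMap B (A2 B))) ≫ f)

theorem inr_sq (m : B × B) : (TrivSqZeroExt.inr m : A2 B) * TrivSqZeroExt.inr m = 0 :=
  TrivSqZeroExt.inr_mul_inr _ _ _

/-- `ε ↦ m₁ε₁ + m₂ε₂`. -/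
noncomputable def tau (m : B × B) : a2pt B f ⟶ LieS.dpt B f :=
  ovMap B f (algebraMap B (DualNumber B)) (algebraMap B (A2 B))
    (LieS.dualHom (algebraMap B (A2 B)) (TrivSqZeroExt.inr m) (inr_sq B m))
    (LieS.dualHom_comp_algebraMap _ _ _)

/-- `εᵢ ↦ L(eᵢ) ε`. -/
noncomputable def sig (L : B × B →ₗ[B] B) : LieS.dpt B f ⟶ a2pt B f :=
  ovMap B f (algebraMap B (A2 B)) (algebraMap B (DualNumber B)) (TrivSqZeroExt.map L).toRingHom
    (RingHom.ext fun x => (TrivSqZeroExt.map L).commutes x)

theorem map_comp_dualHom (L : B × B →ₗ[B] B) (m : B × B) :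
    (TrivSqZeroExt.map L).toRingHom.comp
      (LieS.dualHom (algebraMap B (A2 B)) (TrivSqZeroExt.inr m) (inr_sq B m)) =
      LieS.scaleHom (L m) := by
  apply RingHom.ext
  intro x
  apply TrivSqZeroExt.ext <;> simp [LieS.scaleHom, TrivSqZeroExt.algebraMap_eq_inl', mul_comm]

theorem sig_tau (L : B × B →ₗ[B] B) (m : B × B) :
    sig B f L ≫ tau B f m = LieS.scale B f (L m) := by
  apply Over.OverMorphism.ext
  change Spec.map _ ≫ Spec.map _ = Spec.map _
  rw [LieS.specMap_comp, map_comp_dualHom]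

theorem scaleHom_zero :
    LieS.scaleHom (0 : B) =
      (algebraMap B (DualNumber B)).comp (TrivSqZeroExt.fstHom B B B).toRingHom := by
  apply RingHom.ext
  intro x
  apply TrivSqZeroExt.ext <;> simp [LieS.scaleHom, TrivSqZeroExt.algebraMap_eq_inl']

theorem scaleHom_one : LieS.scaleHom (1 : B) = RingHom.id (DualNumber B) := by
  apply RingHom.ext
  intro x
  apply TrivSqZeroExt.ext <;> simp [LieS.scaleHom, TrivSqZeroExt.algebraMap_eq_inl']

theorem scale_zero : LieS.scale B f 0 = LieS.proj B f ≫ LieS.zeroSec B f := by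
  apply Over.OverMorphism.ext
  change Spec.map _ = Spec.map _ ≫ Spec.map _
  rw [LieS.specMap_comp, scaleHom_zero]

theorem scale_one : LieS.scale B f 1 = 𝟙 _ := by
  apply Over.OverMorphism.ext
  change Spec.map _ = 𝟙 _
  rw [scaleHom_one, CommRingCat.ofHom_id]
  erw [Spec.map_id]

theorem scale_zero_comp {X : Over S} [MonObj X] (v : LieS.dpt B f ⟶ X)
    (hv : LieS.zeroSec B f ≫ v = 1) : LieS.scale B f 0 ≫ v = 1 := by
  rw [scale_zero, Category.assoc, hv, MonObj.comp_one]

/-- Rescaling is additive on the kernel of `X(T[ε]) → X(T)`, for a monoid scheme `X`. -/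
theorem scale_mul_scale {X : Over S} [MonObj X] (v : LieS.dpt B f ⟶ X)
    (hv : LieS.zeroSec B f ≫ v = 1) (a b : B) :
    (LieS.scale B f a ≫ v) * (LieS.scale B f b ≫ v) = LieS.scale B f (a + b) ≫ v := by
  have h0 : LieS.scale B f 0 ≫ v = 1 := scale_zero_comp B f v hv
  obtain ⟨u, hu⟩ : ∃ u : a2pt B f ⟶ X, u = (tau B f (a, 0) ≫ v) * (tau B f (0, b) ≫ v) := ⟨_, rfl⟩
  obtain ⟨u', hu'⟩ : ∃ u' : a2pt B f ⟶ X, u' = tau B f (a, b) ≫ v := ⟨_, rfl⟩
  have key : ∀ L : B × B →ₗ[B] B, sig B f L ≫ u =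
      (LieS.scale B f (L (a, 0)) ≫ v) * (LieS.scale B f (L (0, b)) ≫ v) := by
    intro L
    rw [hu, MonObj.comp_mul, ← Category.assoc, ← Category.assoc, sig_tau, sig_tau]
  have key' : ∀ L : B × B →ₗ[B] B, sig B f L ≫ u' = LieS.scale B f (L (a, b)) ≫ v := by
    intro L
    rw [hu', ← Category.assoc, sig_tau]
  have e1 : sig B f (LinearMap.fst B B B) ≫ u = sig B f (LinearMap.fst B B B) ≫ u' := by
    rw [key, key']
    simp only [LinearMap.fst_apply]
    rw [h0, _root_.mul_one]
  have e2 : sig B f (LinearMap.snd B B B) ≫ u = sig B f (LinearMap.snd B B B) ≫ u' := by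
    rw [key, key']
    simp only [LinearMap.snd_apply]
    rw [h0, _root_.one_mul]
  have huu : u = u' := by
    apply Over.OverMorphism.ext
    refine spec_hom_ext (J := Bool) (A := fun _ => DualNumber B)
      (fun i => cond i (TrivSqZeroExt.map (LinearMap.fst B B B)).toRingHom
        (TrivSqZeroExt.map (LinearMap.snd B B B)).toRingHom) ?_ ?_ u.left u'.left ?_
    · intro p
      obtain ⟨q, hq⟩ := tsze_comap_surjective (TrivSqZeroExt.map (LinearMap.fst B B B)).toRingHom
        ((TrivSqZeroExt.inlHom B (B × B)).comp (TrivSqZeroExt.fstHom B B B).toRingHom)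
        (fun x => by simp) p
      exact ⟨true, q, hq⟩
    · intro x hx
      have h1 := hx true
      have h2 := hx false
      simp only [cond_true, cond_false] at h1 h2
      apply TrivSqZeroExt.ext
      · have := congrArg TrivSqZeroExt.fst h1
        simpa using this
      · apply Prod.ext
        · have := congrArg TrivSqZeroExt.snd h1
          simpa using this
        · have := congrArg TrivSqZeroExt.snd h2
          simpa using this
    · intro i
      cases i
      · have h2 : (sig B f (LinearMap.snd B B B) ≫ u).left =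
            (sig B f (LinearMap.snd B B B) ≫ u').left := by rw [e2]
        rw [Over.comp_left, Over.comp_left] at h2
        exact h2
      · have h2 : (sig B f (LinearMap.fst B B B) ≫ u).left =
            (sig B f (LinearMap.fst B B B) ≫ u').left := by rw [e1]
        rw [Over.comp_left, Over.comp_left] at h2
        exact h2
  have e3 : sig B f (LinearMap.coprod LinearMap.id LinearMap.id) ≫ u =
      sig B f (LinearMap.coprod LinearMap.id LinearMap.id) ≫ u' := by rw [huu]
  rw [key, key'] at e3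
  simpa only [LinearMap.coprod_apply, LinearMap.id_apply, add_zero, zero_add] using e3

end LieS

end Groth.Agent.Lib.LieSH1
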