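import Mathlib
import Groth.Agent.Lib.FSNilp_helper3

/-!
# Lifting automorphisms of infinitesimal deformations along small extensions (helper3)

`A` local Artinian with residue field `k`, `t ∈ 𝔪_A` with `𝔪_A t = 0`, `B` flat over `A` with
formally smooth closed fibre.  Then `B` is formally smooth over `A`, hence every `A`-algebra
automorphism of `B/tB` lifts to an `A`-algebra endomorphism of `B`, which is an automorphism
since `(tB)² = 0`.
APPEND-ONLY once landed.
-/

set_option autoImplicit false

namespace Groth.Agent.Lib.LiftAutH3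

open IsLocalRing

universe u

section Unip

variable {A B : Type*} [CommRing A] [CommRing B] [Algebra A B]

/-- An `A`-algebra endomorphism congruent to the identity modulo a square-zero principal ideal
`(t)` with `t` from `A` is bijective. -/
theorem bijective_of_congr (t : A) (ht : t * t = 0) (φ : B →ₐ[A] B)
    (h : ∀ b, ∃ c, φ b - b = algebraMap A B t * c) : Function.Bijective φ := by
  have hδ : ∀ b c, φ b - b = algebraMap A B t * c → φ (φ b - b) = φ b - b := by
    intro b c hc
    obtain ⟨c', hc'⟩ := h c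
    rw [hc, map_mul, φ.commutes]
    have h1 : φ c = c + algebraMap A B t * c' := by rw [← hc']; ring
    rw [h1, mul_add, ← mul_assoc, ← map_mul, ht, map_zero, zero_mul, add_zero]
  have key : ∀ b, φ (2 * b - φ b) = b := by
    intro b
    obtain ⟨c, hc⟩ := h b
    have h1 := hδ b c hc
    rw [map_sub] at h1
    have h2 : φ (2 * b - φ b) = 2 * φ b - φ (φ b) := by
      rw [map_sub, map_mul, map_ofNat]
    rw [h2]
    linear_combination (-1 : B) * h1
  constructor
  · intro x y hxy
    have hx := key x
    have hy := key y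
    have h1 : φ (2 * x - φ x) = φ (2 * y - φ y) → x = y := by
      intro h2
      rw [hx, hy] at h2
      exact h2
    -- `φ x = φ y` gives `x - y` fixed by the argument below
    obtain ⟨c, hc⟩ := h (x - y)
    have h3 : φ (x - y) = 0 := by rw [map_sub, hxy, sub_self]
    have h4 : x - y = - (algebraMap A B t * c) := by
      rw [h3, zero_sub] at hc
      rw [← hc, neg_neg]
    have h5 : φ (x - y) = x - y := by
      obtain ⟨c', hc'⟩ := h c
      have h6 : φ c = c + algebraMap A B t * c' := by rw [← hc']; ring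
      rw [h4, map_neg, map_mul, φ.commutes, h6, mul_add, ← mul_assoc, ← map_mul, ht, map_zero,
        zero_mul, add_zero]
    rw [h3] at h5
    exact sub_eq_zero.1 h5.symm
  · intro y
    exact ⟨2 * y - φ y, key y⟩

end Unip

section Main

variable {k : Type u} [Field k]
  {A : Type u} [CommRing A] [Algebra k A] [IsLocalRing A] [IsArtinianRing A]
  {B : Type u} [CommRing B] [Algebra A B] [Module.Flat A B] [Algebra k B] [IsScalarTower k A B]

theorem formallySmooth_of_fibre
    (hres : ∀ a : A, ∃ c : k, a - algebraMap k A c ∈ maximalIdeal A)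
    (hsm : Algebra.FormallySmooth k (B ⧸ (maximalIdeal A).map (algebraMap A B))) :
    Algebra.FormallySmooth A B := by
  haveI := hsm
  haveI : IsScalarTower k (A ⧸ maximalIdeal A) (B ⧸ (maximalIdeal A).map (algebraMap A B)) := by
    apply IsScalarTower.of_algebraMap_eq
    intro c
    show Ideal.Quotient.mk _ (algebraMap k B c) = _
    rw [IsScalarTower.algebraMap_apply k A B]
    rfl
  have hsurj : Function.Surjective (Algebra.ofId k (A ⧸ maximalIdeal A)) := by
    intro x
    obtain ⟨a, rfl⟩ := Ideal.Quotient.mk_surjective x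
    obtain ⟨c, hc⟩ := hres a
    refine ⟨c, ?_⟩
    show Ideal.Quotient.mk (maximalIdeal A) (algebraMap k A c) = Ideal.Quotient.mk _ a
    rw [eq_comm, Ideal.Quotient.eq]
    exact hc
  haveI : Algebra.FormallyUnramified k (A ⧸ maximalIdeal A) :=
    Algebra.FormallyUnramified.of_surjective (Algebra.ofId k (A ⧸ maximalIdeal A)) hsurj
  haveI h1 : Algebra.FormallySmooth (A ⧸ maximalIdeal A)
      (B ⧸ (maximalIdeal A).map (algebraMap A B)) :=
    Algebra.FormallySmooth.of_restrictScalars k _ _
  obtain ⟨n, hn⟩ : IsNilpotent (maximalIdeal A) := by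
    have h2 := IsArtinianRing.isNilpotent_jacobson_bot (R := A)
    rwa [IsLocalRing.jacobson_eq_maximalIdeal ⊥ bot_ne_top] at h2
  have h3 : (algebraMap A B).FormallySmooth := by
    refine FSNilpH3.formallySmooth_of_flat_of_nilpotent n (algebraMap A B)
      (Ideal.Quotient.mk (maximalIdeal A))
      (Ideal.Quotient.mk ((maximalIdeal A).map (algebraMap A B)))
      (algebraMap (A ⧸ maximalIdeal A) (B ⧸ (maximalIdeal A).map (algebraMap A B)))
      ?_ Ideal.Quotient.mk_surjective Ideal.Quotient.mk_surjective ?_ ?_ ?_ ?_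
    · exact RingHom.flat_algebraMap_iff.2 inferInstance
    · ext a
      rfl
    · rw [Ideal.mk_ker]
      exact hn
    · rw [Ideal.mk_ker, Ideal.mk_ker]
    · exact RingHom.formallySmooth_algebraMap.2 h1
  exact RingHom.formallySmooth_algebraMap.1 h3

theorem main11280
    (hres : ∀ a : A, ∃ c : k, a - algebraMap k A c ∈ maximalIdeal A)
    (t : A) (ht : t ∈ maximalIdeal A)
    (htm : ∀ a ∈ maximalIdeal A, a * t = 0)
    (hsm : Algebra.FormallySmooth k (B ⧸ (maximalIdeal A).map (algebraMap A B)))
    (σ : (B ⧸ Ideal.span {algebraMap A B t}) ≃ₐ[A] (B ⧸ Ideal.span {algebraMap A B t})) :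
    ∃ τ : B ≃ₐ[A] B, ∀ b : B,
      Ideal.Quotient.mk (Ideal.span {algebraMap A B t}) (τ b) =
        σ (Ideal.Quotient.mk (Ideal.span {algebraMap A B t}) b) := by
  haveI : Algebra.FormallySmooth A B := formallySmooth_of_fibre hres hsm
  have htt : t * t = 0 := htm t ht
  have hI2 : (Ideal.span {algebraMap A B t}) ^ 2 = ⊥ := by
    rw [Ideal.span_singleton_pow, pow_two, ← map_mul, htt, map_zero, Ideal.span_singleton_eq_bot]
  obtain ⟨τ₀, hτ₀⟩ := Algebra.FormallySmooth.exists_lift (Ideal.span {algebraMap A B t})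
    ⟨2, hI2⟩ (σ.toAlgHom.comp (Ideal.Quotient.mkₐ A (Ideal.span {algebraMap A B t})))
  obtain ⟨τ₁, hτ₁⟩ := Algebra.FormallySmooth.exists_lift (Ideal.span {algebraMap A B t})
    ⟨2, hI2⟩ (σ.symm.toAlgHom.comp (Ideal.Quotient.mkₐ A (Ideal.span {algebraMap A B t})))
  have h0 : ∀ b, Ideal.Quotient.mk (Ideal.span {algebraMap A B t}) (τ₀ b) =
      σ (Ideal.Quotient.mk _ b) := fun b => AlgHom.congr_fun hτ₀ b
  have h1 : ∀ b, Ideal.Quotient.mk (Ideal.span {algebraMap A B t}) (τ₁ b) =
      σ.symm (Ideal.Quotient.mk _ b) := fun b => AlgHom.congr_fun hτ₁ b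
  have h10 : Function.Bijective (τ₁.comp τ₀) := by
    refine bijective_of_congr t htt _ (fun b => ?_)
    have h2 : (τ₁.comp τ₀) b - b ∈ Ideal.span {algebraMap A B t} := by
      rw [← Ideal.Quotient.eq]
      show Ideal.Quotient.mk _ (τ₁ (τ₀ b)) = _
      rw [h1, h0, AlgEquiv.symm_apply_apply]
    exact Ideal.mem_span_singleton'.1 h2 |>.imp fun c hc => by rw [← hc, mul_comm]
  have h01 : Function.Bijective (τ₀.comp τ₁) := by
    refine bijective_of_congr t htt _ (fun b => ?_)
    have h2 : (τ₀.comp τ₁) b - b ∈ Ideal.span {algebraMap A B t} := by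
      rw [← Ideal.Quotient.eq]
      show Ideal.Quotient.mk _ (τ₀ (τ₁ b)) = _
      rw [h0, h1, AlgEquiv.apply_symm_apply]
    exact Ideal.mem_span_singleton'.1 h2 |>.imp fun c hc => by rw [← hc, mul_comm]
  have hinj : Function.Injective τ₀ := by
    have h2 : Function.Injective (τ₁ ∘ τ₀) := h10.1
    exact Function.Injective.of_comp h2
  have hsurj : Function.Surjective τ₀ := by
    have h2 : Function.Surjective (τ₀ ∘ τ₁) := h01.2
    exact Function.Surjective.of_comp h2
  exact ⟨AlgEquiv.ofBijective τ₀ ⟨hinj, hsurj⟩, h0⟩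

end Main

end Groth.Agent.Lib.LiftAutH3
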