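import Mathlib

/-!
# Closed immersions via lifting along spectra of injective ring maps (helper9)
-/

set_option autoImplicit false
set_option backward.isDefEq.respectTransparency false

universe u

open CategoryTheory CategoryTheory.Limits AlgebraicGeometry

namespace Groth.Agent.Lib.LiftClosedImm

/-- The lifting property of a morphism against spectra of injective ring maps. -/
def HasLift {X Y : Scheme.{u}} (f : X ⟶ Y) : Prop :=
  ∀ (A B : Type u) [CommRing A] [CommRing B] (φ : A →+* B), Function.Injective φ →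
    ∀ (a : Spec (CommRingCat.of B) ⟶ X) (b : Spec (CommRingCat.of A) ⟶ Y),
      Spec.map (CommRingCat.ofHom φ) ≫ b = a ≫ f →
        ∃ l : Spec (CommRingCat.of A) ⟶ X, Spec.map (CommRingCat.ofHom φ) ≫ l = a ∧ l ≫ f = b

theorem hasLift_of_isClosedImmersion {X Y : Scheme.{u}} (f : X ⟶ Y) [IsClosedImmersion f] :
    HasLift f := by
  intro A B _ _ φ hφ a b hsq
  have h1 : (Spec.map (CommRingCat.ofHom φ)).ker = ⊥ := by
    rw [Scheme.ker_of_isAffine]
    have : RingHom.ker (Spec.map (CommRingCat.ofHom φ)).appTop.hom = ⊥ := by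
      rw [RingHom.ker_eq_bot_iff_eq_zero]
      intro x hx
      have h2 := congr($(Scheme.ΓSpecIso_naturality (CommRingCat.ofHom φ)).hom x)
      simp only [CommRingCat.hom_comp, RingHom.comp_apply] at h2
      rw [hx, map_zero] at h2
      have h3 : (Scheme.ΓSpecIso (CommRingCat.of A)).hom.hom x = 0 := hφ (by rw [map_zero]; exact h2.symm)
      exact (ConcreteCategory.bijective_of_isIso (Scheme.ΓSpecIso (CommRingCat.of A)).hom).1
        (by rw [map_zero]; exact h3)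
    rw [this]
    ext U
    simp
  have hker : f.ker ≤ b.ker := by
    calc f.ker ≤ (a ≫ f).ker := a.le_ker_comp f
      _ = (Spec.map (CommRingCat.ofHom φ) ≫ b).ker := by rw [hsq]
      _ = (Spec.map (CommRingCat.ofHom φ)).ker.map b := (Scheme.IdealSheafData.map_ker _ _).symm
      _ = b.ker := by rw [h1, Scheme.IdealSheafData.map_bot]
  refine ⟨IsClosedImmersion.lift f b hker, ?_, IsClosedImmersion.lift_fac f b hker⟩
  rw [← cancel_mono f, Category.assoc, IsClosedImmersion.lift_fac, hsq]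

/-- The coproduct of the members of an open cover maps onto the scheme with trivial kernel. -/
theorem ker_sigmaDesc_eq_bot {X : Scheme.{u}} (𝒰 : X.OpenCover) :
    (Sigma.desc 𝒰.f : (∐ 𝒰.X) ⟶ X).ker = ⊥ := by
  rw [← le_bot_iff, Scheme.IdealSheafData.le_def]
  intro U s hs
  have h1 := (Sigma.desc 𝒰.f : (∐ 𝒰.X) ⟶ X).ideal_ker_le U hs
  rw [RingHom.mem_ker] at h1
  have h2 : s = 0 := by
    apply Scheme.zero_of_zero_cover s 𝒰
    intro i
    have h3 : 𝒰.f i = Sigma.ι 𝒰.X i ≫ Sigma.desc 𝒰.f := (Sigma.ι_desc _ _).symm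
    rw [h3, Scheme.Hom.comp_app, CommRingCat.comp_apply, h1, map_zero]
  rw [h2]
  exact Submodule.zero_mem _

theorem surjective_sigmaDesc {X : Scheme.{u}} (𝒰 : X.OpenCover) :
    Function.Surjective (Sigma.desc 𝒰.f : (∐ 𝒰.X) ⟶ X) := by
  intro x
  obtain ⟨y, hy⟩ := 𝒰.covers x
  refine ⟨Sigma.ι 𝒰.X (𝒰.idx x) y, ?_⟩
  rw [← Scheme.Hom.comp_apply, Sigma.ι_desc]
  exact hy

theorem isClosedImmersion_of_hasLift_of_isAffine {X Y : Scheme.{u}} [IsAffine Y] (f : X ⟶ Y)
    [QuasiCompact f] (H : HasLift f) : IsClosedImmersion f := by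
  haveI : CompactSpace X := QuasiCompact.compactSpace_of_compactSpace f
  let 𝒰 := X.affineCover.finiteSubcover
  haveI : ∀ i, IsAffine (𝒰.X i) := fun i => by
    dsimp [𝒰]; infer_instance
  let Z : Scheme.{u} := ∐ 𝒰.X
  let a₀ : Z ⟶ X := Sigma.desc 𝒰.f
  haveI : IsAffine Z := by dsimp [Z]; infer_instance
  let ψ : Γ(Y, ⊤) ⟶ Γ(Z, ⊤) := (a₀ ≫ f).appTop
  let J : Ideal Γ(Y, ⊤) := RingHom.ker ψ.hom
  let φ : (Γ(Y, ⊤) ⧸ J) →+* Γ(Z, ⊤) := RingHom.kerLift ψ.hom
  have hφ : Function.Injective φ := RingHom.kerLift_injective ψ.hom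
  let a : Spec (CommRingCat.of Γ(Z, ⊤)) ⟶ X := Z.isoSpec.inv ≫ a₀
  let b : Spec (CommRingCat.of (Γ(Y, ⊤) ⧸ J)) ⟶ Y :=
    Spec.map (CommRingCat.ofHom (Ideal.Quotient.mk J)) ≫ Y.isoSpec.inv
  have hsq : Spec.map (CommRingCat.ofHom φ) ≫ b = a ≫ f := by
    have h1 : CommRingCat.ofHom (Ideal.Quotient.mk J) ≫ CommRingCat.ofHom φ = ψ := by
      ext x
      exact RingHom.kerLift_mk ψ.hom x
    simp only [b, a]
    rw [← Category.assoc, ← Spec.map_comp, h1, Category.assoc]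
    exact Scheme.isoSpec_inv_naturality (a₀ ≫ f)
  obtain ⟨l, hl1, hl2⟩ := H _ _ φ hφ a b hsq
  haveI : IsClosedImmersion (Spec.map (CommRingCat.ofHom (Ideal.Quotient.mk J))) :=
    IsClosedImmersion.spec_of_surjective _ Ideal.Quotient.mk_surjective
  haveI hb : IsClosedImmersion b := by dsimp [b]; infer_instance
  haveI : IsImmersion (l ≫ f) := by rw [hl2]; infer_instance
  haveI : IsImmersion l := IsImmersion.of_comp l f
  have hsurj : Function.Surjective l := by
    intro x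
    obtain ⟨z, hz⟩ := surjective_sigmaDesc 𝒰 x
    refine ⟨Spec.map (CommRingCat.ofHom φ) (Z.isoSpec.hom z), ?_⟩
    rw [← Scheme.Hom.comp_apply, hl1]
    have h4 := Scheme.Hom.comp_apply Z.isoSpec.hom (Z.isoSpec.inv ≫ a₀) z
    rw [Iso.hom_inv_id_assoc] at h4
    exact h4.symm.trans hz
  haveI : IsClosedImmersion l :=
    .of_isPreimmersion l (by rw [hsurj.range_eq]; exact isClosed_univ)
  haveI : IsIso l := by
    rw [IsClosedImmersion.isIso_iff_ker_eq_bot, ← le_bot_iff]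
    calc l.ker ≤ (Spec.map (CommRingCat.ofHom φ) ≫ l).ker := Scheme.Hom.le_ker_comp _ l
      _ = a.ker := by rw [hl1]
      _ = a₀.ker := Scheme.Hom.ker_comp_of_isIso _ _
      _ = ⊥ := ker_sigmaDesc_eq_bot 𝒰
  have hf : f = inv l ≫ b := by rw [IsIso.eq_inv_comp, hl2]
  rw [hf]
  infer_instance

theorem hasLift_morphismRestrict {X Y : Scheme.{u}} (f : X ⟶ Y) (H : HasLift f) (V : Y.Opens) :
    HasLift (f ∣_ V) := by
  intro A B _ _ φ hφ a' b' hsq
  have hsq' : Spec.map (CommRingCat.ofHom φ) ≫ (b' ≫ V.ι) = (a' ≫ (f ⁻¹ᵁ V).ι) ≫ f := by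
    rw [← Category.assoc, hsq, Category.assoc, Category.assoc, morphismRestrict_ι]
  obtain ⟨l, hl1, hl2⟩ := H A B φ hφ (a' ≫ (f ⁻¹ᵁ V).ι) (b' ≫ V.ι) hsq'
  have hrange : Set.range l ⊆ Set.range (f ⁻¹ᵁ V).ι := by
    rintro _ ⟨z, rfl⟩
    rw [Scheme.Opens.range_ι]
    show f (l z) ∈ V
    rw [← Scheme.Hom.comp_apply, hl2, Scheme.Hom.comp_apply]
    exact (b' z).2
  refine ⟨IsOpenImmersion.lift (f ⁻¹ᵁ V).ι l hrange, ?_, ?_⟩
  · rw [← cancel_mono (f ⁻¹ᵁ V).ι, Category.assoc, IsOpenImmersion.lift_fac, hl1]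
  · rw [← cancel_mono V.ι, Category.assoc, morphismRestrict_ι, IsOpenImmersion.lift_fac_assoc, hl2]

theorem isClosedImmersion_of_hasLift {X Y : Scheme.{u}} (f : X ⟶ Y)
    [QuasiCompact f] (H : HasLift f) : IsClosedImmersion f := by
  rw [IsZariskiLocalAtTarget.iff_of_iSup_eq_top (P := @IsClosedImmersion)
    (fun V : Y.affineOpens => V.1) (iSup_affineOpens_eq_top Y)]
  intro V
  haveI : IsAffine ↑V.1 := V.2
  exact isClosedImmersion_of_hasLift_of_isAffine (f ∣_ V.1) (hasLift_morphismRestrict f H V.1)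

end Groth.Agent.Lib.LiftClosedImm
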