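import Mathlib

set_option autoImplicit false
universe u
open IsLocalRing TensorProduct KaehlerDifferential

namespace Groth.Agent.Lib.LiftCritH8

section Core

variable {R P : Type u} [CommRing R] [CommRing P] [Algebra R P] [IsLocalRing P]

/-- Key derivation lemma: let `K ≤ L ≤ 𝔪` be ideals with `𝔪 L ≤ K`.  If the projection `P → P/K`
can be corrected, modulo the image of `L`, to an `R`-algebra map killing `𝔞`, then every `x ∈ 𝔞`
with `dx ∈ 𝔪 Ω` lies in `K`. -/
theorem mem_of_lift (𝔞 K L : Ideal P) (hLm : L ≤ maximalIdeal P)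
    (hmL : maximalIdeal P * L ≤ K)
    (g' : P →ₐ[R] P ⧸ K)
    (hg1 : ∀ x ∈ 𝔞, g' x = 0)
    (hg2 : ∀ x, Ideal.Quotient.mk K x - g' x ∈ L.map (Ideal.Quotient.mk K))
    (x : P) (hx : x ∈ 𝔞) (hD : D R P x ∈ maximalIdeal P • (⊤ : Submodule P Ω[P⁄R])) :
    x ∈ K := by
  let π : P →ₐ[R] P ⧸ K := Ideal.Quotient.mkₐ R K
  let J : Ideal (P ⧸ K) := L.map (Ideal.Quotient.mk K)
  have hb : ∀ m ∈ maximalIdeal P, ∀ j ∈ J, Ideal.Quotient.mk K m * j = 0 := by
    intro m hm j hj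
    obtain ⟨y, hy, rfl⟩ := (Ideal.mem_map_iff_of_surjective _ Ideal.Quotient.mk_surjective).mp hj
    rw [← map_mul, Ideal.Quotient.eq_zero_iff_mem]
    exact hmL (Ideal.mul_mem_mul hm hy)
  have hc : ∀ i ∈ J, ∀ j ∈ J, i * j = 0 := by
    intro i hi j hj
    obtain ⟨y, hy, rfl⟩ := (Ideal.mem_map_iff_of_surjective _ Ideal.Quotient.mk_surjective).mp hi
    exact hb y (hLm hy) j hj
  have hδJ : ∀ y, π y - g' y ∈ J := hg2
  let D' : Derivation R P (P ⧸ K) := Derivation.mk' (π.toLinearMap - g'.toLinearMap) (by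
    intro a b
    have h0 := hc _ (hδJ a) _ (hδJ b)
    change π (a * b) - g' (a * b) = a • (π b - g' b) + b • (π a - g' a)
    rw [Algebra.smul_def, Algebra.smul_def, map_mul, map_mul]
    change π a * π b - g' a * g' b = π a * (π b - g' b) + π b * (π a - g' a)
    linear_combination (-1 : P ⧸ K) * h0)
  have hD' : ∀ y, D' y = π y - g' y := fun y => rfl
  let Lm : Ω[P⁄R] →ₗ[P] (P ⧸ K) := D'.liftKaehlerDifferential
  have hLm1 : ∀ y, Lm (D R P y) = π y - g' y := fun y =>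
    (Derivation.liftKaehlerDifferential_comp_D D' y).trans (hD' y)
  have hLJ : ∀ w, Lm w ∈ J := by
    intro w
    have hw : w ∈ Submodule.span P (Set.range (D R P)) := by
      rw [KaehlerDifferential.span_range_derivation]; exact Submodule.mem_top
    induction hw using Submodule.span_induction with
    | mem z hz =>
      obtain ⟨y, rfl⟩ := hz
      rw [hLm1]; exact hδJ y
    | zero => rw [map_zero]; exact Ideal.zero_mem _
    | add a b _ _ ha hb => rw [map_add]; exact Ideal.add_mem _ ha hb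
    | smul r a _ ha =>
      rw [map_smul, Algebra.smul_def]
      exact Ideal.mul_mem_left _ _ ha
  have hL0 : ∀ w ∈ maximalIdeal P • (⊤ : Submodule P Ω[P⁄R]), Lm w = 0 := by
    intro w hw
    refine Submodule.smul_induction_on hw ?_ ?_
    · intro m hm w _
      rw [map_smul, Algebra.smul_def]
      exact hb m hm _ (hLJ w)
    · intro a b ha hb
      rw [map_add, ha, hb, add_zero]
  have h1 := hL0 _ hD
  rw [hLm1, hg1 x hx, sub_zero] at h1
  exact Ideal.Quotient.eq_zero_iff_mem.mp h1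

/-- Krull intersection step. -/
theorem mem_mul_of_forall_mem_sup_pow [IsNoetherianRing P] (𝔟 : Ideal P) (x : P)
    (h : ∀ N : ℕ, x ∈ 𝔟 ⊔ maximalIdeal P ^ (N + 1)) : x ∈ 𝔟 := by
  have hK := Ideal.iInf_pow_smul_eq_bot_of_isLocalRing (R := P) (M := P ⧸ 𝔟)
    (maximalIdeal P) (maximalIdeal.isMaximal P).ne_top
  have hmem : (Ideal.Quotient.mk 𝔟 x : P ⧸ 𝔟) ∈
      (⨅ i : ℕ, maximalIdeal P ^ i • ⊤ : Submodule P (P ⧸ 𝔟)) := by
    rw [Submodule.mem_iInf]
    intro i
    rcases i with _ | i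
    · rw [pow_zero, Ideal.one_eq_top, Submodule.top_smul]; exact Submodule.mem_top
    · obtain ⟨a, ha, b, hb, rfl⟩ := Submodule.mem_sup.mp (h i)
      rw [map_add, Ideal.Quotient.eq_zero_iff_mem.mpr ha, zero_add]
      have : (Ideal.Quotient.mk 𝔟 b : P ⧸ 𝔟) = b • (1 : P ⧸ 𝔟) := by
        rw [Algebra.smul_def, mul_one]; rfl
      rw [this]
      exact Submodule.smul_mem_smul hb Submodule.mem_top
  rw [hK, Submodule.mem_bot] at hmem
  exact Ideal.Quotient.eq_zero_iff_mem.mp hmem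

/-- **Core criterion.** Let `P` be a Noetherian local `R`-algebra, formally smooth over `R` with
finite free differentials, and `𝔞 ≤ 𝔪` an ideal.  If for every `N` the projection
`P → P/(𝔪𝔞 + 𝔪^{N+1})` can be corrected modulo the image of `𝔞 + 𝔪^{N+1}` to an `R`-algebra map
killing `𝔞`, then `P/𝔞` is formally smooth over `R`. -/
theorem formallySmooth_quotient_of_forall_lift [IsNoetherianRing P] [Algebra.FormallySmooth R P]
    [Module.Free P Ω[P⁄R]] [Module.Finite P Ω[P⁄R]] (𝔞 : Ideal P) (h𝔞 : 𝔞 ≤ maximalIdeal P)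
    (H : ∀ N : ℕ, ∃ g' : P →ₐ[R] P ⧸ (maximalIdeal P * 𝔞 ⊔ maximalIdeal P ^ (N + 1)),
      (∀ x ∈ 𝔞, g' x = 0) ∧
      ∀ x, Ideal.Quotient.mk (maximalIdeal P * 𝔞 ⊔ maximalIdeal P ^ (N + 1)) x - g' x ∈
        (𝔞 ⊔ maximalIdeal P ^ (N + 1)).map
          (Ideal.Quotient.mk (maximalIdeal P * 𝔞 ⊔ maximalIdeal P ^ (N + 1)))) :
    Algebra.FormallySmooth R (P ⧸ 𝔞) := by
  classical
  have key : ∀ x ∈ 𝔞, D R P x ∈ maximalIdeal P • (⊤ : Submodule P Ω[P⁄R]) →
      x ∈ maximalIdeal P * 𝔞 := by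
    intro x hx hD
    apply mem_mul_of_forall_mem_sup_pow
    intro N
    obtain ⟨g', hg1, hg2⟩ := H N
    refine mem_of_lift 𝔞 _ (𝔞 ⊔ maximalIdeal P ^ (N + 1))
      (sup_le h𝔞 (Ideal.pow_le_self (Nat.succ_ne_zero N))) ?_ g' hg1 hg2 x hx hD
    rw [Ideal.mul_sup]
    exact sup_le_sup le_rfl Ideal.mul_le_right
  haveI : Nontrivial (P ⧸ 𝔞) := Ideal.Quotient.nontrivial_iff.mpr
    (fun h => (maximalIdeal.isMaximal P).ne_top (top_le_iff.mp (h ▸ h𝔞)))
  haveI : IsLocalRing (P ⧸ 𝔞) := IsLocalRing.of_surjective' (Ideal.Quotient.mk 𝔞)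
    Ideal.Quotient.mk_surjective
  let fTk : P ⧸ 𝔞 →+* ResidueField P := Ideal.Quotient.lift 𝔞 (residue P)
    (fun a ha => (residue_eq_zero_iff a).mpr (h𝔞 ha))
  letI algTk : Algebra (P ⧸ 𝔞) (ResidueField P) := fTk.toAlgebra
  haveI : IsScalarTower P (P ⧸ 𝔞) (ResidueField P) := by
    refine ⟨fun x y z => ?_⟩
    obtain ⟨y', rfl⟩ := Ideal.Quotient.mk_surjective y
    change fTk (Ideal.Quotient.mk 𝔞 (x * y')) * z =
      residue P x * (fTk (Ideal.Quotient.mk 𝔞 y') * z)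
    rw [Ideal.Quotient.lift_mk, Ideal.Quotient.lift_mk, ← mul_assoc]
    congr 1
  have hs1 : Function.Surjective (algebraMap P (P ⧸ 𝔞)) := Ideal.Quotient.mk_surjective
  have hker : RingHom.ker (algebraMap P (P ⧸ 𝔞)) = 𝔞 := Ideal.mk_ker
  have hs2 : (RingHom.ker (algebraMap P (P ⧸ 𝔞))).FG := by
    rw [hker]
    exact IsNoetherian.noetherian 𝔞
  refine (Algebra.FormallySmooth.iff_injective_cotangentComplexBaseChange (R := R) (S := P ⧸ 𝔞) P
    (ResidueField P) hs1 hs2 ?_).mpr ?_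
  · intro x hx
    obtain ⟨y, rfl⟩ := Ideal.Quotient.mk_surjective x
    rw [RingHom.mem_ker]
    change fTk (Ideal.Quotient.mk 𝔞 y) = 0
    rw [Ideal.Quotient.lift_mk, residue_eq_zero_iff]
    by_contra hy
    have hyu : IsUnit y := by
      by_contra hnu
      exact hy ((mem_maximalIdeal _).mpr hnu)
    exact (mem_nonunits_iff.mp ((mem_maximalIdeal _).mp hx)) (hyu.map (Ideal.Quotient.mk 𝔞))
  rw [injective_iff_map_eq_zero]
  intro z hz
  obtain ⟨y, rfl⟩ := TensorProduct.mk_surjective P ↥(RingHom.ker (algebraMap P (P ⧸ 𝔞)))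
    (ResidueField P) IsLocalRing.residue_surjective z
  rw [TensorProduct.mk_apply] at hz ⊢
  rw [cotangentComplexBaseChange_tmul, one_smul, kerToTensor_apply] at hz
  have hy𝔞 : (y : P) ∈ 𝔞 := hker.le y.2
  have hD : D R P (y : P) ∈ maximalIdeal P • (⊤ : Submodule P Ω[P⁄R]) := by
    have h2 := (LinearEquiv.map_eq_zero_iff
      (TensorProduct.quotTensorEquivQuotSMul Ω[P⁄R] (maximalIdeal P))).mpr hz
    erw [TensorProduct.quotTensorEquivQuotSMul_mk_one_tmul] at h2
    exact (Submodule.Quotient.mk_eq_zero _).mp h2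
  have hy2 : (y : P) ∈ maximalIdeal P • RingHom.ker (algebraMap P (P ⧸ 𝔞)) := by
    have h3 := key _ hy𝔞 hD
    rw [← Ideal.smul_eq_mul] at h3
    exact smul_mono_right (maximalIdeal P) hker.ge h3
  rw [← Submodule.mem_smul_top_iff] at hy2
  refine Submodule.smul_induction_on hy2 ?_ ?_
  · intro m hm w _
    have : algebraMap P (ResidueField P) m = 0 := (residue_eq_zero_iff m).mpr hm
    rw [TensorProduct.tmul_smul, TensorProduct.smul_tmul', Algebra.smul_def, mul_one, this,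
      TensorProduct.zero_tmul]
  · intro a b ha hb
    rw [TensorProduct.tmul_add, ha, hb, add_zero]

end Core

end Groth.Agent.Lib.LiftCritH8
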