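import Mathlib
import Groth.Agent.Lib.LiftCrit1_helper8

set_option autoImplicit false
universe u
open IsLocalRing TensorProduct KaehlerDifferential

namespace Groth.Agent.Lib.LiftCritH8

section Abstract

variable {R P T : Type u} [CommRing R] [CommRing P] [CommRing T] [Algebra R P] [Algebra R T]
  [IsLocalRing P]

/-- Abstract form of the core criterion: `T` is a quotient of `P` via `φ`. -/
theorem formallySmooth_of_forall_lift [IsNoetherianRing P] [Algebra.FormallySmooth R P]
    [Module.Free P Ω[P⁄R]] [Module.Finite P Ω[P⁄R]] [Nontrivial T]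
    (φ : P →ₐ[R] T) (hφ : Function.Surjective φ)
    (H : ∀ N : ℕ, ∃ g : T →ₐ[R] P ⧸ (maximalIdeal P * RingHom.ker φ ⊔ maximalIdeal P ^ (N + 1)),
      ∀ x, Ideal.Quotient.mk (maximalIdeal P * RingHom.ker φ ⊔ maximalIdeal P ^ (N + 1)) x
          - g (φ x) ∈
        (RingHom.ker φ ⊔ maximalIdeal P ^ (N + 1)).map
          (Ideal.Quotient.mk (maximalIdeal P * RingHom.ker φ ⊔ maximalIdeal P ^ (N + 1)))) :
    Algebra.FormallySmooth R T := by
  have h𝔞 : RingHom.ker φ ≤ maximalIdeal P := by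
    apply IsLocalRing.le_maximalIdeal
    intro h
    have h1 : (1 : P) ∈ RingHom.ker φ := h ▸ Submodule.mem_top
    rw [RingHom.mem_ker, map_one] at h1
    exact one_ne_zero h1
  haveI : Algebra.FormallySmooth R (P ⧸ RingHom.ker φ) := by
    apply formallySmooth_quotient_of_forall_lift _ h𝔞
    intro N
    obtain ⟨g, hg⟩ := H N
    refine ⟨g.comp φ, ?_, hg⟩
    intro x hx
    change g (φ x) = 0
    rw [(RingHom.mem_ker).mp hx, map_zero]
  exact Algebra.FormallySmooth.of_equiv (Ideal.quotientKerAlgEquivOfSurjective hφ)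

end Abstract

section Artinian

variable {P : Type u} [CommRing P] [IsLocalRing P]

theorem isLocalRing_quotient (K : Ideal P) (hK : K ≤ maximalIdeal P) : IsLocalRing (P ⧸ K) := by
  haveI : Nontrivial (P ⧸ K) := Ideal.Quotient.nontrivial_iff.mpr
    (fun h => (maximalIdeal.isMaximal P).ne_top (top_le_iff.mp (h ▸ hK)))
  exact IsLocalRing.of_surjective' (Ideal.Quotient.mk K) Ideal.Quotient.mk_surjective

theorem maximalIdeal_quotient_le (K : Ideal P) [IsLocalRing (P ⧸ K)] :
    maximalIdeal (P ⧸ K) ≤ (maximalIdeal P).map (Ideal.Quotient.mk K) := by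
  intro x hx
  obtain ⟨y, rfl⟩ := Ideal.Quotient.mk_surjective x
  apply Ideal.mem_map_of_mem
  rw [mem_maximalIdeal, mem_nonunits_iff]
  intro hy
  exact (mem_nonunits_iff.mp ((mem_maximalIdeal _).mp hx)) (hy.map (Ideal.Quotient.mk K))

theorem isArtinianRing_quotient [IsNoetherianRing P] (K : Ideal P) [IsLocalRing (P ⧸ K)] (N : ℕ)
    (hN : maximalIdeal P ^ (N + 1) ≤ K) : IsArtinianRing (P ⧸ K) := by
  rw [isArtinianRing_iff_isNilpotent_maximalIdeal]
  refine ⟨N + 1, ?_⟩
  rw [Ideal.zero_eq_bot, eq_bot_iff]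
  refine (Ideal.pow_right_mono (maximalIdeal_quotient_le K) (N + 1)).trans ?_
  rw [← Ideal.map_pow]
  refine (Ideal.map_mono hN).trans ?_
  rw [Ideal.map_quotient_self]

end Artinian

section Small

/-- The small-extension lifting property at the prime `q` (as in S2060). -/
def SmallLiftAt (R : Type u) {S : Type u} [CommRing R] [CommRing S] [Algebra R S]
    (q : Ideal S) : Prop :=
  ∀ (B' B : Type u) [CommRing B'] [CommRing B] [IsLocalRing B'] [IsLocalRing B]
    [IsArtinianRing B'] [IsArtinianRing B] [Algebra R B'] [Algebra R B] (π : B' →ₐ[R] B),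
    Function.Surjective π →
    (∃ t : B', RingHom.ker π.toRingHom = Ideal.span {t} ∧
      ∀ a ∈ IsLocalRing.maximalIdeal B', a * t = 0) →
    ∀ g : S →ₐ[R] B, (IsLocalRing.maximalIdeal B).comap g = q →
      ∃ g' : S →ₐ[R] B', π.comp g' = g

theorem comap_maximalIdeal_of_surjective {B' B : Type u} [CommRing B'] [CommRing B]
    [IsLocalRing B'] [IsLocalRing B] (π : B' →+* B) (hπ : Function.Surjective π) :
    (maximalIdeal B).comap π = maximalIdeal B' := by
  haveI : ((maximalIdeal B).comap π).IsMaximal :=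
    Ideal.comap_isMaximal_of_surjective π hπ
  exact IsLocalRing.eq_maximalIdeal inferInstance

theorem exists_lift_of_smallLiftAt {R S : Type u} [CommRing R] [CommRing S] [Algebra R S]
    (q : Ideal S) (H : SmallLiftAt R q) (n : ℕ) :
    ∀ (B' B : Type u) [CommRing B'] [CommRing B] [IsLocalRing B'] [IsLocalRing B]
      [IsArtinianRing B'] [IsArtinianRing B] [Algebra R B'] [Algebra R B] (π : B' →ₐ[R] B),
      Function.Surjective π → ∀ t : Fin n → B',
      RingHom.ker π.toRingHom = Ideal.span (Set.range t) →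
      (∀ a ∈ maximalIdeal B', ∀ j ∈ RingHom.ker π.toRingHom, a * j = 0) →
      ∀ g : S →ₐ[R] B, (maximalIdeal B).comap g = q → ∃ g' : S →ₐ[R] B', π.comp g' = g := by
  induction n with
  | zero =>
    intro B' B _ _ _ _ _ _ _ _ π hπ t hker hkill g hg
    refine H B' B π hπ ⟨0, ?_, fun a _ => mul_zero a⟩ g hg
    rw [hker, Ideal.span_singleton_zero, Ideal.span_eq_bot]
    rintro x ⟨i, rfl⟩
    exact i.elim0
  | succ n ih =>
    intro B' B _ _ _ _ _ _ _ _ π hπ t hker hkill g hg
    let t₀ : B' := t 0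
    let J₀ : Ideal B' := Ideal.span {t₀}
    have ht₀ : t₀ ∈ RingHom.ker π.toRingHom := by
      rw [hker]; exact Ideal.subset_span ⟨0, rfl⟩
    have hJ₀ker : J₀ ≤ RingHom.ker π.toRingHom := by
      rw [Ideal.span_le, Set.singleton_subset_iff]; exact ht₀
    have hkerne : RingHom.ker π.toRingHom ≠ ⊤ := by
      intro h
      have h1 : (1 : B') ∈ RingHom.ker π.toRingHom := h ▸ Submodule.mem_top
      rw [RingHom.mem_ker, map_one] at h1
      exact one_ne_zero h1
    have hJ₀ : J₀ ≤ maximalIdeal B' := (hJ₀ker.trans (IsLocalRing.le_maximalIdeal hkerne))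
    haveI : IsLocalRing (B' ⧸ J₀) := isLocalRing_quotient J₀ hJ₀
    let π'' : (B' ⧸ J₀) →ₐ[R] B := Ideal.Quotient.liftₐ J₀ π (fun a ha => hJ₀ker ha)
    have hπ''mk : ∀ b : B', π'' (Ideal.Quotient.mk J₀ b) = π b := fun b => rfl
    have hπ'' : Function.Surjective π'' := by
      intro b
      obtain ⟨b', rfl⟩ := hπ b
      exact ⟨Ideal.Quotient.mk J₀ b', hπ''mk b'⟩
    let t'' : Fin n → B' ⧸ J₀ := fun i => Ideal.Quotient.mk J₀ (t i.succ)
    have hker'' : RingHom.ker π''.toRingHom = Ideal.span (Set.range t'') := by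
      apply le_antisymm
      · intro x hx
        obtain ⟨y, rfl⟩ := Ideal.Quotient.mk_surjective x
        have hy : y ∈ Ideal.span (Set.range t) := by
          rw [← hker]; exact hx
        have h2 : Ideal.Quotient.mk J₀ y ∈ (Ideal.span (Set.range t)).map (Ideal.Quotient.mk J₀) :=
          Ideal.mem_map_of_mem _ hy
        rw [Ideal.map_span] at h2
        refine (Ideal.span_le.mpr ?_) h2
        rintro _ ⟨_, ⟨i, rfl⟩, rfl⟩
        refine Fin.cases ?_ (fun j => ?_) i
        · have : Ideal.Quotient.mk J₀ (t 0) = 0 :=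
            Ideal.Quotient.eq_zero_iff_mem.mpr (Ideal.subset_span rfl)
          rw [this]; exact Ideal.zero_mem _
        · exact Ideal.subset_span ⟨j, rfl⟩
      · rw [Ideal.span_le]
        rintro _ ⟨i, rfl⟩
        change π'' (Ideal.Quotient.mk J₀ (t i.succ)) = 0
        rw [hπ''mk]
        have : t i.succ ∈ RingHom.ker π.toRingHom := by
          rw [hker]; exact Ideal.subset_span ⟨i.succ, rfl⟩
        exact this
    have hkill'' : ∀ a ∈ maximalIdeal (B' ⧸ J₀), ∀ j ∈ RingHom.ker π''.toRingHom, a * j = 0 := by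
      intro a ha j hj
      obtain ⟨a', rfl⟩ := Ideal.Quotient.mk_surjective a
      obtain ⟨j', rfl⟩ := Ideal.Quotient.mk_surjective j
      have ha' : a' ∈ maximalIdeal B' := by
        rw [mem_maximalIdeal, mem_nonunits_iff]
        intro hu
        exact (mem_nonunits_iff.mp ((mem_maximalIdeal _).mp ha)) (hu.map (Ideal.Quotient.mk J₀))
      have hj' : j' ∈ RingHom.ker π.toRingHom := hj
      rw [← map_mul, hkill a' ha' j' hj', map_zero]
    have hcomap'' : (maximalIdeal B).comap π''.toRingHom = maximalIdeal (B' ⧸ J₀) :=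
      comap_maximalIdeal_of_surjective π''.toRingHom hπ''
    obtain ⟨g₁, hg₁⟩ := ih (B' ⧸ J₀) B π'' hπ'' t'' hker'' hkill'' g hg
    have hg₁q : (maximalIdeal (B' ⧸ J₀)).comap g₁ = q := by
      rw [← hg, ← hcomap'', ← hg₁]
      rfl
    obtain ⟨g', hg'⟩ := H B' (B' ⧸ J₀) (Ideal.Quotient.mkₐ R J₀)
      (Ideal.Quotient.mkₐ_surjective R J₀) ⟨t₀, Ideal.mk_ker, fun a ha =>
        hkill a ha t₀ ht₀⟩ g₁ hg₁q
    refine ⟨g', ?_⟩
    ext s
    have h1 : Ideal.Quotient.mk J₀ (g' s) = g₁ s := AlgHom.congr_fun hg' s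
    have h2 : π'' (g₁ s) = g s := AlgHom.congr_fun hg₁ s
    change π (g' s) = g s
    rw [← hπ''mk, h1, h2]

end Small

end Groth.Agent.Lib.LiftCritH8
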