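import Mathlib
import Groth.Agent.Lib.LiftCrit2_helper8

set_option autoImplicit false
universe u
open IsLocalRing TensorProduct KaehlerDifferential

namespace Groth.Agent.Lib.LiftCritH8

section Forward

variable {R S : Type u} [CommRing R] [CommRing S] [Algebra R S]

/-- A map to a local ring with `comap 𝔪 = q` sends the complement of `q` to units. -/
theorem isUnit_of_comap_eq {B : Type u} [CommRing B] [IsLocalRing B] (g : S →+* B) (q : Ideal S)
    (hg : (maximalIdeal B).comap g = q) (y : S) (hy : y ∉ q) : IsUnit (g y) := by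
  by_contra hnu
  apply hy
  rw [← hg, Ideal.mem_comap, mem_maximalIdeal, mem_nonunits_iff]
  exact hnu

theorem smallLiftAt_of_isSmoothAt (q : Ideal S) [q.IsPrime] [Algebra.IsSmoothAt R q] :
    SmallLiftAt R q := by
  intro B' B _ _ _ _ _ _ _ _ π hπ ht g hg
  obtain ⟨t, hker, hkill⟩ := ht
  have hunit : ∀ y : q.primeCompl, IsUnit (g y) := fun y =>
    isUnit_of_comap_eq g.toRingHom q hg y y.2
  let gt : Localization.AtPrime q →ₐ[R] B := IsLocalization.liftAlgHom (M := q.primeCompl) hunit
  have hgt : ∀ s : S, gt (algebraMap S (Localization.AtPrime q) s) = g s := fun s =>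
    IsLocalization.lift_eq _ s
  have htm : t ∈ maximalIdeal B' := by
    rw [mem_maximalIdeal, mem_nonunits_iff]
    intro hu
    have h1 : (1 : B') ∈ RingHom.ker π.toRingHom := by
      rw [hker, Ideal.mem_span_singleton]
      exact hu.dvd
    rw [RingHom.mem_ker, map_one] at h1
    exact one_ne_zero h1
  have hnil : IsNilpotent (RingHom.ker (π : B' →+* B)) := by
    refine ⟨2, ?_⟩
    change RingHom.ker π.toRingHom ^ 2 = 0
    rw [hker, Ideal.span_singleton_pow, pow_two, hkill t htm, Ideal.span_singleton_zero]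
    rfl
  let l : Localization.AtPrime q →ₐ[R] B' :=
    Algebra.FormallySmooth.liftOfSurjective gt π hπ hnil
  refine ⟨l.comp (IsScalarTower.toAlgHom R S (Localization.AtPrime q)), ?_⟩
  ext s
  change π (l (algebraMap S (Localization.AtPrime q) s)) = g s
  rw [Algebra.FormallySmooth.liftOfSurjective_apply, hgt]

end Forward

section Backward

variable {R S : Type u} [CommRing R] [CommRing S] [Algebra R S]

/-- The localization of a surjection `f : A → S` at a prime `q` of `S`, as an algebra map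
`A_{f⁻¹ q} → S_q`. -/
noncomputable def locMap {A : Type u} [CommRing A] [Algebra R A] (f : A →ₐ[R] S) (q : Ideal S)
    [q.IsPrime] : Localization.AtPrime (q.comap f) →ₐ[R] Localization.AtPrime q :=
  IsLocalization.liftAlgHom (M := (q.comap f).primeCompl)
    (f := (IsScalarTower.toAlgHom R S (Localization.AtPrime q)).comp f)
    (fun y => IsLocalization.map_units (Localization.AtPrime q)
      (⟨f y, y.2⟩ : q.primeCompl))

theorem locMap_algebraMap {A : Type u} [CommRing A] [Algebra R A] (f : A →ₐ[R] S) (q : Ideal S)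
    [q.IsPrime] (a : A) :
    locMap f q (algebraMap A (Localization.AtPrime (q.comap f)) a) =
      algebraMap S (Localization.AtPrime q) (f a) :=
  IsLocalization.lift_eq _ a

theorem locMap_surjective {A : Type u} [CommRing A] [Algebra R A] (f : A →ₐ[R] S)
    (hf : Function.Surjective f) (q : Ideal S) [q.IsPrime] :
    Function.Surjective (locMap f q) := by
  intro z
  obtain ⟨s, y, rfl⟩ := IsLocalization.exists_mk'_eq q.primeCompl z
  obtain ⟨a, rfl⟩ := hf s
  obtain ⟨b, hb⟩ := hf y.1
  have hbq : b ∈ (q.comap f).primeCompl := by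
    change f b ∉ q
    rw [hb]; exact y.2
  refine ⟨IsLocalization.mk' (Localization.AtPrime (q.comap f)) a ⟨b, hbq⟩, ?_⟩
  have hu : IsUnit (algebraMap S (Localization.AtPrime q) y.1) :=
    IsLocalization.map_units _ y
  apply hu.mul_left_injective
  change locMap f q _ * _ = _ * _
  rw [IsLocalization.mk'_spec, ← hb, ← locMap_algebraMap f q b, ← map_mul,
    IsLocalization.mk'_spec, locMap_algebraMap]

theorem exists_lift_loc {P T : Type u} [CommRing P] [CommRing T] [Algebra R P] [Algebra R T]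
    [Algebra S T] [IsScalarTower R S T] [IsLocalRing P] [IsNoetherianRing P]
    (q : Ideal S) [q.IsPrime] [IsLocalization.AtPrime T q] (H : SmallLiftAt R q)
    (φ : P →ₐ[R] T) (hφ : Function.Surjective φ) (N : ℕ) :
    ∃ g : T →ₐ[R] P ⧸ (maximalIdeal P * RingHom.ker φ ⊔ maximalIdeal P ^ (N + 1)),
      ∀ x, Ideal.Quotient.mk (maximalIdeal P * RingHom.ker φ ⊔ maximalIdeal P ^ (N + 1)) x
          - g (φ x) ∈
        (RingHom.ker φ ⊔ maximalIdeal P ^ (N + 1)).map
          (Ideal.Quotient.mk (maximalIdeal P * RingHom.ker φ ⊔ maximalIdeal P ^ (N + 1))) := by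
  classical
  haveI : IsLocalRing T := IsLocalization.AtPrime.isLocalRing T q
  have h𝔞 : RingHom.ker φ ≤ maximalIdeal P := by
    apply IsLocalRing.le_maximalIdeal
    intro h
    have h1 : (1 : P) ∈ RingHom.ker φ := h ▸ Submodule.mem_top
    rw [RingHom.mem_ker, map_one] at h1
    exact one_ne_zero h1
  let 𝔞 : Ideal P := RingHom.ker φ
  let K : Ideal P := maximalIdeal P * 𝔞 ⊔ maximalIdeal P ^ (N + 1)
  let L : Ideal P := 𝔞 ⊔ maximalIdeal P ^ (N + 1)
  have hLm : L ≤ maximalIdeal P := sup_le h𝔞 (Ideal.pow_le_self (Nat.succ_ne_zero N))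
  have hKL : K ≤ L := sup_le_sup (Ideal.mul_le_right) le_rfl
  have hmL : maximalIdeal P * L ≤ K := by
    change maximalIdeal P * (𝔞 ⊔ maximalIdeal P ^ (N + 1)) ≤ _
    rw [Ideal.mul_sup]
    exact sup_le_sup le_rfl Ideal.mul_le_right
  haveI : IsLocalRing (P ⧸ K) := isLocalRing_quotient K (hKL.trans hLm)
  haveI : IsArtinianRing (P ⧸ K) := isArtinianRing_quotient K N le_sup_right
  let J : Ideal (P ⧸ K) := L.map (Ideal.Quotient.mk K)
  have hJm : J ≤ maximalIdeal (P ⧸ K) := by
    rw [Ideal.map_le_iff_le_comap]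
    intro x hx
    rw [Ideal.mem_comap, mem_maximalIdeal, mem_nonunits_iff]
    intro hu
    have hxm : x ∈ maximalIdeal P := hLm hx
    have : IsUnit x := by
      have := (IsLocalHom.of_surjective (Ideal.Quotient.mk K) Ideal.Quotient.mk_surjective).map_nonunit x hu
      exact this
    exact (mem_nonunits_iff.mp ((mem_maximalIdeal _).mp hxm)) this
  haveI : IsLocalRing ((P ⧸ K) ⧸ J) := isLocalRing_quotient J hJm
  -- the map `ψ : T → (P/K)/J`
  let e := Ideal.quotientKerAlgEquivOfSurjective hφ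
  let ψ₀ : (P ⧸ RingHom.ker φ) →ₐ[R] (P ⧸ K) ⧸ J :=
    Ideal.Quotient.liftₐ (RingHom.ker φ) ((Ideal.Quotient.mkₐ R J).comp (Ideal.Quotient.mkₐ R K))
      (fun a ha => by
        change Ideal.Quotient.mk J (Ideal.Quotient.mk K a) = 0
        rw [Ideal.Quotient.eq_zero_iff_mem]
        exact Ideal.mem_map_of_mem _ (Ideal.mem_sup_left ha))
  let ψ : T →ₐ[R] (P ⧸ K) ⧸ J := ψ₀.comp e.symm.toAlgHom
  have hψφ : ∀ x : P, ψ (φ x) = Ideal.Quotient.mk J (Ideal.Quotient.mk K x) := by
    intro x
    have h1 : e.symm (φ x) = Ideal.Quotient.mk (RingHom.ker φ) x := by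
      rw [AlgEquiv.symm_apply_eq]
      rfl
    change ψ₀ (e.symm (φ x)) = _
    rw [h1]
    rfl
  have hψsurj : Function.Surjective ψ := by
    intro b
    obtain ⟨b', rfl⟩ := Ideal.Quotient.mk_surjective b
    obtain ⟨x, rfl⟩ := Ideal.Quotient.mk_surjective b'
    exact ⟨φ x, hψφ x⟩
  let g₀ : S →ₐ[R] (P ⧸ K) ⧸ J := ψ.comp (IsScalarTower.toAlgHom R S T)
  have hg₀ : (maximalIdeal ((P ⧸ K) ⧸ J)).comap g₀ = q := by
    have h1 : (maximalIdeal ((P ⧸ K) ⧸ J)).comap ψ.toRingHom = maximalIdeal T :=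
      comap_maximalIdeal_of_surjective ψ.toRingHom hψsurj
    have h2 : (maximalIdeal T).comap (algebraMap S T) = q :=
      by have := IsLocalization.AtPrime.under_maximalIdeal T q; rwa [Ideal.under_def] at this
    rw [← h2, ← h1]
    rfl
  -- the small-extension lifting
  have hJfg : J.FG := IsNoetherian.noetherian J
  obtain ⟨m, t, ht⟩ := (Submodule.fg_iff_exists_fin_generating_family).mp hJfg
  have hkerπ : RingHom.ker (Ideal.Quotient.mkₐ R J).toRingHom = J := Ideal.mk_ker
  have hkill : ∀ a ∈ maximalIdeal (P ⧸ K), ∀ j ∈ RingHom.ker (Ideal.Quotient.mkₐ R J).toRingHom,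
      a * j = 0 := by
    intro a ha j hj
    rw [hkerπ] at hj
    obtain ⟨a', ha', rfl⟩ := (Ideal.mem_map_iff_of_surjective _ Ideal.Quotient.mk_surjective).mp
      (maximalIdeal_quotient_le K ha)
    obtain ⟨y, hy, rfl⟩ := (Ideal.mem_map_iff_of_surjective _ Ideal.Quotient.mk_surjective).mp hj
    rw [← map_mul, Ideal.Quotient.eq_zero_iff_mem]
    exact hmL (Ideal.mul_mem_mul ha' hy)
  obtain ⟨g₁, hg₁⟩ := exists_lift_of_smallLiftAt q H m (P ⧸ K) ((P ⧸ K) ⧸ J)
    (Ideal.Quotient.mkₐ R J) (Ideal.Quotient.mkₐ_surjective R J) t (hkerπ.trans ht.symm) hkill g₀ hg₀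
  have hg₁' : ∀ s : S, Ideal.Quotient.mk J (g₁ s) = g₀ s := fun s => AlgHom.congr_fun hg₁ s
  -- extend to `T`
  have hunit : ∀ y : q.primeCompl, IsUnit (g₁ y) := by
    intro y
    have h1 : IsUnit (g₀ y) := isUnit_of_comap_eq g₀.toRingHom q hg₀ y y.2
    rw [← hg₁'] at h1
    haveI := IsLocalHom.of_surjective (Ideal.Quotient.mk J) Ideal.Quotient.mk_surjective
    exact isUnit_of_map_unit (Ideal.Quotient.mk J) _ h1
  let g : T →ₐ[R] P ⧸ K := IsLocalization.liftAlgHom (M := q.primeCompl) hunit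
  have hg : ∀ s : S, g (algebraMap S T s) = g₁ s := fun s => IsLocalization.lift_eq _ s
  have hcomp : (Ideal.Quotient.mk J).comp g.toRingHom = ψ.toRingHom := by
    apply IsLocalization.ringHom_ext q.primeCompl
    ext s
    change Ideal.Quotient.mk J (g (algebraMap S T s)) = ψ (algebraMap S T s)
    rw [hg, hg₁']
    rfl
  refine ⟨g, fun x => ?_⟩
  rw [← Ideal.Quotient.eq_zero_iff_mem, map_sub, sub_eq_zero]
  have h3 : Ideal.Quotient.mk J (g (φ x)) = ψ (φ x) := RingHom.congr_fun hcomp (φ x)
  rw [h3, hψφ]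

theorem isSmoothAt_of_smallLiftAt [IsNoetherianRing R] [Algebra.FiniteType R S] (q : Ideal S)
    [q.IsPrime] (H : SmallLiftAt R q) : Algebra.IsSmoothAt R q := by
  classical
  obtain ⟨n, f, hf⟩ := Algebra.FiniteType.iff_quotient_mvPolynomial''.mp
    (inferInstance : Algebra.FiniteType R S)
  let A := MvPolynomial (Fin n) R
  let 𝔮 : Ideal A := q.comap f
  haveI : 𝔮.IsPrime := Ideal.comap_isPrime _ _
  let P := Localization.AtPrime 𝔮
  let T := Localization.AtPrime q
  haveI : IsNoetherianRing P := IsLocalization.isNoetherianRing 𝔮.primeCompl P inferInstance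
  haveI : Algebra.EssFiniteType A P := .of_isLocalization _ 𝔮.primeCompl
  haveI : Algebra.EssFiniteType R P := .comp _ A _
  haveI : Algebra.FormallySmooth A P := Algebra.FormallySmooth.of_isLocalization 𝔮.primeCompl
  haveI : Algebra.FormallySmooth R P := Algebra.FormallySmooth.comp R A P
  haveI : Module.Finite P Ω[P⁄R] := inferInstance
  haveI : Module.Projective P Ω[P⁄R] := inferInstance
  haveI : Module.Free P Ω[P⁄R] := Module.free_of_flat_of_isLocalRing
  let φ : P →ₐ[R] T := locMap f q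
  have hφ : Function.Surjective φ := locMap_surjective f hf q
  change Algebra.FormallySmooth R T
  apply formallySmooth_of_forall_lift φ hφ
  intro N
  exact exists_lift_loc q H φ hφ N

theorem main2060 {R S : Type u} [CommRing R] [IsNoetherianRing R]
    [CommRing S] [Algebra R S] [Algebra.FiniteType R S] (q : Ideal S) [q.IsPrime] :
    Algebra.IsSmoothAt R q ↔
      ∀ (B' B : Type u) [CommRing B'] [CommRing B] [IsLocalRing B'] [IsLocalRing B]
        [IsArtinianRing B'] [IsArtinianRing B] [Algebra R B'] [Algebra R B] (π : B' →ₐ[R] B),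
        Function.Surjective π →
        (∃ t : B', RingHom.ker π.toRingHom = Ideal.span {t} ∧
          ∀ a ∈ IsLocalRing.maximalIdeal B', a * t = 0) →
        ∀ g : S →ₐ[R] B, (IsLocalRing.maximalIdeal B).comap g = q →
          ∃ g' : S →ₐ[R] B', π.comp g' = g := by
  constructor
  · intro h
    haveI : Algebra.IsSmoothAt R q := h
    exact smallLiftAt_of_isSmoothAt q
  · intro H
    exact isSmoothAt_of_smallLiftAt q H

end Backward

end Groth.Agent.Lib.LiftCritH8
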