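import Mathlib

set_option autoImplicit false
set_option linter.unusedVariables false
set_option linter.unusedTactic false
set_option linter.unreachableTactic false
set_option linter.unusedSectionVars false
set_option linter.style.haveILetI false
set_option linter.deprecated false
set_option maxHeartbeats 1000000

universe u

/-!
# Spans of `p`-th powers in finite étale algebras (characteristic `p`)

If `B` is a finite étale algebra over a ring `A` in which `p = 0` (with `p` prime), then `B` is
spanned as an `A`-module by the `p`-th powers of its elements.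
-/

namespace Groth.Agent.Lib.PSpanH4

open scoped TensorProduct

variable (p : ℕ)

theorem add_pow_p [hp : Fact p.Prime] {S : Type*} [CommRing S] (hS : (p : S) = 0) (x y : S) :
    (x + y) ^ p = x ^ p + y ^ p := by
  rw [add_pow_prime_eq hp.out x y, hS]
  ring

theorem sum_pow_p [hp : Fact p.Prime] {S : Type*} [CommRing S] (hS : (p : S) = 0) {ι : Type*}
    (s : Finset ι) (f : ι → S) : (∑ i ∈ s, f i) ^ p = ∑ i ∈ s, f i ^ p := by
  classical
  refine Finset.induction_on s ?_ ?_
  · rw [Finset.sum_empty, Finset.sum_empty, zero_pow hp.out.ne_zero]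
  · intro a s ha ih
    rw [Finset.sum_insert ha, Finset.sum_insert ha, add_pow_p p hS, ih]

/-- The `A`-span of the `p`-th powers of elements of `B`. -/
def PSpan (A B : Type*) [CommRing A] [CommRing B] [Algebra A B] : Submodule A B :=
  Submodule.span A (Set.range (fun b : B => b ^ p))

theorem pow_mem_PSpan (A : Type*) {B : Type*} [CommRing A] [CommRing B] [Algebra A B] (b : B) :
    b ^ p ∈ PSpan p A B :=
  Submodule.subset_span ⟨b, rfl⟩

theorem map_mem_PSpan {A B B' : Type*} [CommRing A] [CommRing B] [CommRing B'] [Algebra A B]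
    [Algebra A B'] (f : B →ₐ[A] B') {b : B} (hb : b ∈ PSpan p A B) : f b ∈ PSpan p A B' := by
  refine Submodule.span_induction (p := fun x _ => f x ∈ PSpan p A B') ?_ ?_ ?_ ?_ hb
  · rintro _ ⟨y, rfl⟩
    show f (y ^ p) ∈ PSpan p A B'
    rw [map_pow]
    exact pow_mem_PSpan p A (f y)
  · show f 0 ∈ PSpan p A B'
    rw [map_zero]
    exact Submodule.zero_mem _
  · intro x y _ _ hx hy
    show f (x + y) ∈ PSpan p A B'
    rw [map_add]
    exact Submodule.add_mem _ hx hy
  · intro a x _ hx
    show f (a • x) ∈ PSpan p A B'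
    rw [map_smul]
    exact Submodule.smul_mem _ a hx

/-- A separable algebraic field extension in characteristic `p` is spanned by `p`-th powers. -/
theorem field_factor [hp : Fact p.Prime] (K L : Type*) [Field K] [Field L] [Algebra K L]
    [CharP K p] [Algebra.IsSeparable K L] : PSpan p K L = ⊤ := by
  haveI : ExpChar K p := ExpChar.prime hp.out
  have h0 : Submodule.span K (Set.range (fun x : L => x)) = ⊤ := by
    rw [Set.range_id']
    exact Submodule.span_univ
  have h1 := Field.span_map_pow_expChar_pow_eq_top_of_isSeparable (F := K) (E := L) p 1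
    (v := fun x : L => x) h0
  simp only [pow_one] at h1
  exact h1

/-- A product of algebras each spanned by `p`-th powers is spanned by `p`-th powers. -/
theorem pi_case [hp : Fact p.Prime] (K : Type*) [CommRing K] {I : Type*} [Finite I]
    (Ai : I → Type*) [∀ i, CommRing (Ai i)] [∀ i, Algebra K (Ai i)]
    (h : ∀ i, PSpan p K (Ai i) = ⊤) : PSpan p K (Π i, Ai i) = ⊤ := by
  classical
  cases nonempty_fintype I
  rw [eq_top_iff]
  intro y _
  have hy : y = ∑ i, Pi.single i (y i) := (Finset.univ_sum_single y).symm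
  rw [hy]
  refine Submodule.sum_mem _ (fun i _ => ?_)
  have hz : y i ∈ PSpan p K (Ai i) := by
    rw [h i]
    exact Submodule.mem_top
  refine Submodule.span_induction
    (p := fun z _ => (Pi.single i z : Π i, Ai i) ∈ PSpan p K (Π i, Ai i)) ?_ ?_ ?_ ?_ hz
  · rintro _ ⟨x, rfl⟩
    have hx : (Pi.single i (x ^ p) : Π i, Ai i) = (Pi.single i x) ^ p := by
      funext j
      rw [Pi.pow_apply]
      by_cases hj : j = i
      · subst hj
        rw [Pi.single_eq_same, Pi.single_eq_same]
      · rw [Pi.single_eq_of_ne hj, Pi.single_eq_of_ne hj, zero_pow hp.out.ne_zero]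
    show (Pi.single i (x ^ p) : Π i, Ai i) ∈ PSpan p K (Π i, Ai i)
    rw [hx]
    exact pow_mem_PSpan p K _
  · show (Pi.single i (0 : Ai i) : Π i, Ai i) ∈ PSpan p K (Π i, Ai i)
    rw [Pi.single_zero]
    exact Submodule.zero_mem _
  · intro a b _ _ ha hb
    show (Pi.single i (a + b) : Π i, Ai i) ∈ PSpan p K (Π i, Ai i)
    rw [Pi.single_add]
    exact Submodule.add_mem _ ha hb
  · intro c a _ ha
    show (Pi.single i (c • a) : Π i, Ai i) ∈ PSpan p K (Π i, Ai i)
    rw [Pi.single_smul]
    exact Submodule.smul_mem _ c ha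

/-- The field case: a finite étale algebra over a field of characteristic `p` is spanned by
`p`-th powers. -/
theorem field_case [hp : Fact p.Prime] (K E : Type u) [Field K] [CommRing E] [Algebra K E]
    (hK : (p : K) = 0) [Algebra.Etale K E] : PSpan p K E = ⊤ := by
  haveI : CharP K p := (CharP.charP_iff_prime_eq_zero hp.out).mpr hK
  obtain ⟨I, _, Ai, _, _, e, hsep⟩ :=
    (Algebra.Etale.iff_exists_algEquiv_prod K E).mp inferInstance
  have hfac : ∀ i, PSpan p K (Ai i) = ⊤ := by
    intro i
    haveI := (hsep i).2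
    exact field_factor p K (Ai i)
  have hprod : PSpan p K (Π i, Ai i) = ⊤ := pi_case p K Ai hfac
  rw [eq_top_iff]
  intro b _
  have h1 : e b ∈ PSpan p K (Π i, Ai i) := by
    rw [hprod]
    exact Submodule.mem_top
  have h2 := map_mem_PSpan p (e.symm.toAlgHom) h1
  have h3 : (e.symm.toAlgHom) (e b) = b := e.symm_apply_apply b
  rw [h3] at h2
  exact h2

/-- The fibrewise statement. -/
theorem fibre_top [hp : Fact p.Prime] (A B : Type u) [CommRing A] [CommRing B] [Algebra A B]
    (hA : (p : A) = 0) [Algebra.Etale A B] (m : Ideal A) [hm : m.IsMaximal] :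
    PSpan p A B ⊔ m • (⊤ : Submodule A B) = ⊤ := by
  letI : Field (A ⧸ m) := Ideal.Quotient.field m
  have hK : (p : A ⧸ m) = 0 := by
    have h := map_natCast (Ideal.Quotient.mk m) p
    rw [hA, map_zero] at h
    exact h.symm
  have hE : PSpan p (A ⧸ m) ((A ⧸ m) ⊗[A] B) = ⊤ := field_case p (A ⧸ m) ((A ⧸ m) ⊗[A] B) hK
  have hsurj : Function.Surjective (TensorProduct.mk A (A ⧸ m) B 1) :=
    TensorProduct.mk_surjective (R := A) (S := A ⧸ m) (M := B) Ideal.Quotient.mk_surjective
  let θ := TensorProduct.quotTensorEquivQuotSMul B m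
  let T : Submodule A B := PSpan p A B ⊔ m • (⊤ : Submodule A B)
  let Tbar : Submodule A (B ⧸ (m • (⊤ : Submodule A B))) :=
    Submodule.map (m • (⊤ : Submodule A B)).mkQ T
  have key : ∀ z : (A ⧸ m) ⊗[A] B, z ∈ PSpan p (A ⧸ m) ((A ⧸ m) ⊗[A] B) → θ z ∈ Tbar := by
    intro z hz
    refine Submodule.span_induction (p := fun z _ => θ z ∈ Tbar) ?_ ?_ ?_ ?_ hz
    · rintro _ ⟨y, rfl⟩
      obtain ⟨b₀, rfl⟩ := hsurj y
      show θ (((1 : A ⧸ m) ⊗ₜ[A] b₀) ^ p) ∈ Tbar
      rw [Algebra.TensorProduct.tmul_pow, one_pow]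
      have h1 : θ ((1 : A ⧸ m) ⊗ₜ[A] (b₀ ^ p)) = Submodule.Quotient.mk (b₀ ^ p) :=
        TensorProduct.quotTensorEquivQuotSMul_mk_one_tmul m (b₀ ^ p)
      rw [h1]
      exact Submodule.mem_map_of_mem (f := (m • (⊤ : Submodule A B)).mkQ)
        (Submodule.mem_sup_left (pow_mem_PSpan p A b₀))
    · show θ 0 ∈ Tbar
      rw [map_zero]
      exact Submodule.zero_mem _
    · intro x y _ _ hx hy
      show θ (x + y) ∈ Tbar
      rw [map_add]
      exact Submodule.add_mem _ hx hy
    · intro c x _ hx
      obtain ⟨a, rfl⟩ := Ideal.Quotient.mk_surjective c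
      show θ (Ideal.Quotient.mk m a • x) ∈ Tbar
      have h1 : Ideal.Quotient.mk m a • x = a • x := by
        rw [← Ideal.Quotient.algebraMap_eq, algebraMap_smul]
      rw [h1, map_smul]
      exact Submodule.smul_mem _ a hx
  rw [eq_top_iff]
  intro b _
  have h1 : θ ((1 : A ⧸ m) ⊗ₜ[A] b) ∈ Tbar := key _ (by rw [hE]; exact Submodule.mem_top)
  have h2 : θ ((1 : A ⧸ m) ⊗ₜ[A] b) = Submodule.Quotient.mk b :=
    TensorProduct.quotTensorEquivQuotSMul_mk_one_tmul m b
  rw [h2] at h1
  have h3 : b ∈ Submodule.comap (m • (⊤ : Submodule A B)).mkQ Tbar := h1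
  rw [Submodule.comap_map_mkQ] at h3
  -- h3 : b ∈ m • ⊤ ⊔ T
  have h4 : m • (⊤ : Submodule A B) ⊔ T ≤ T := sup_le le_sup_right le_rfl
  exact h4 h3

/-- **Main result**: a finite étale algebra over a ring with `p = 0` is spanned by `p`-th powers. -/
theorem pspan_eq_top [hp : Fact p.Prime] (A B : Type u) [CommRing A] [CommRing B] [Algebra A B]
    (hA : (p : A) = 0) [Module.Finite A B] [Algebra.Etale A B] : PSpan p A B = ⊤ := by
  by_contra hne
  let M : Submodule A B := PSpan p A B
  let J : Ideal A := Module.annihilator A (B ⧸ M)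
  have hJ : J ≠ ⊤ := by
    intro h
    apply hne
    rw [eq_top_iff]
    intro b _
    have h1 : (1 : A) ∈ J := by rw [h]; exact Submodule.mem_top
    have h2 : (1 : A) • (M.mkQ b) = 0 := Module.mem_annihilator.mp h1 (M.mkQ b)
    rw [one_smul] at h2
    exact (Submodule.Quotient.mk_eq_zero M).mp h2
  obtain ⟨m, hm, hJm⟩ := Ideal.exists_le_maximal J hJ
  haveI := hm
  have hfib := fibre_top p A B hA m
  have hfg : (⊤ : Submodule A (B ⧸ M)).FG := Module.Finite.fg_top
  have hle : (⊤ : Submodule A (B ⧸ M)) ≤ m • (⊤ : Submodule A (B ⧸ M)) := by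
    intro x _
    obtain ⟨b, rfl⟩ := M.mkQ_surjective x
    have hb : b ∈ M ⊔ m • (⊤ : Submodule A B) := by
      rw [hfib]
      exact Submodule.mem_top
    obtain ⟨y, hy, z, hz, rfl⟩ := Submodule.mem_sup.mp hb
    have h1 : M.mkQ (y + z) = M.mkQ z := by
      rw [map_add]
      have : M.mkQ y = 0 := (Submodule.Quotient.mk_eq_zero M).mpr hy
      rw [this, zero_add]
    rw [h1]
    have hz' : M.mkQ z ∈ Submodule.map M.mkQ (m • (⊤ : Submodule A B)) :=
      Submodule.mem_map_of_mem hz
    rw [Submodule.map_smul''] at hz'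
    exact Submodule.smul_mono le_rfl le_top hz'
  obtain ⟨r, hr1, hr2⟩ :=
    Submodule.exists_sub_one_mem_and_smul_eq_zero_of_fg_of_le_smul m ⊤ hfg hle
  have hrJ : r ∈ J := Module.mem_annihilator.mpr (fun x => hr2 x Submodule.mem_top)
  have h1 : (1 : A) ∈ m := by
    have h := m.sub_mem (hJm hrJ) hr1
    rw [sub_sub_cancel] at h
    exact h
  exact hm.ne_top ((Ideal.eq_top_iff_one m).mpr h1)

end Groth.Agent.Lib.PSpanH4
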