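import Mathlib
import Groth.Agent.Lib.PSpan_helper4
import Groth.Agent.Lib.FrobAlg_helper4

set_option autoImplicit false
set_option linter.unusedVariables false
set_option linter.unusedTactic false
set_option linter.unreachableTactic false
set_option linter.unusedSectionVars false
set_option linter.style.haveILetI false
set_option linter.deprecated false
set_option maxHeartbeats 1000000

universe u

/-!
# Lifting finite étale algebras along a surjection in characteristic `p`
-/

namespace Groth.Agent.Lib.LiftFEtH4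

open scoped TensorProduct
open Groth.Agent.Lib

/-- The block matrix trick: from `β^(p) = Φ β` and `β = Ψ β^(p)` we get an invertible matrix `c`
with `γ^(p) = c γ` for `γ = (β, 0)`. -/
theorem matrix_trick (p : ℕ) (hp0 : p ≠ 0) (R S : Type*) [CommRing R] [CommRing S] [Algebra R S]
    (N : ℕ) (Φ Ψ : Matrix (Fin N) (Fin N) R) (β : Fin N → S)
    (h1 : ∀ k, β k ^ p = ∑ j, algebraMap R S (Φ k j) * β j)
    (h2 : ∀ k, β k = ∑ j, algebraMap R S (Ψ k j) * β j ^ p) :
    IsUnit (Matrix.fromBlocks Φ 1 (Ψ * Φ - 1) Ψ).det ∧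
      ∀ i, (Sum.elim β (0 : Fin N → S) i) ^ p
        = ∑ l, algebraMap R S ((Matrix.fromBlocks Φ 1 (Ψ * Φ - 1) Ψ) i l)
            * Sum.elim β (0 : Fin N → S) l := by
  constructor
  · have hmul : Matrix.fromBlocks Φ 1 (Ψ * Φ - 1) Ψ * Matrix.fromBlocks Ψ (-1) (1 - Φ * Ψ) Φ
        = 1 := by
      rw [Matrix.fromBlocks_multiply, ← Matrix.fromBlocks_one]
      congr 1
      · rw [Matrix.one_mul, add_sub_cancel]
      · rw [Matrix.mul_neg, Matrix.mul_one, Matrix.one_mul, neg_add_cancel]
      · rw [Matrix.sub_mul, Matrix.one_mul, Matrix.mul_sub, Matrix.mul_one, Matrix.mul_assoc]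
        abel
      · rw [Matrix.mul_neg, Matrix.mul_one, neg_sub, sub_add_cancel]
    exact Matrix.isUnit_det_of_right_inverse hmul
  · have e1 : ∀ k, ∑ j, algebraMap R S ((Ψ * Φ) k j) * β j = β k := by
      intro k
      calc ∑ j, algebraMap R S ((Ψ * Φ) k j) * β j
          = ∑ j, ∑ l, algebraMap R S (Ψ k l) * (algebraMap R S (Φ l j) * β j) := by
            refine Finset.sum_congr rfl (fun j _ => ?_)
            rw [Matrix.mul_apply, map_sum, Finset.sum_mul]
            refine Finset.sum_congr rfl (fun l _ => ?_)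
            rw [map_mul, mul_assoc]
        _ = ∑ l, ∑ j, algebraMap R S (Ψ k l) * (algebraMap R S (Φ l j) * β j) :=
            Finset.sum_comm
        _ = ∑ l, algebraMap R S (Ψ k l) * β l ^ p := by
            refine Finset.sum_congr rfl (fun l _ => ?_)
            rw [← Finset.mul_sum, ← h1 l]
        _ = β k := (h2 k).symm
    have e2 : ∀ k, ∑ j, algebraMap R S ((1 : Matrix (Fin N) (Fin N) R) k j) * β j = β k := by
      intro k
      rw [Finset.sum_eq_single k]
      · rw [Matrix.one_apply_eq, map_one, one_mul]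
      · intro j _ hj
        rw [Matrix.one_apply_ne hj.symm, map_zero, zero_mul]
      · intro h
        exact absurd (Finset.mem_univ k) h
    intro i
    rw [Fintype.sum_sum_type]
    rcases i with k | k
    · have s1 : ∑ j, algebraMap R S ((Matrix.fromBlocks Φ 1 (Ψ * Φ - 1) Ψ) (Sum.inl k) (Sum.inl j))
          * Sum.elim β (0 : Fin N → S) (Sum.inl j) = ∑ j, algebraMap R S (Φ k j) * β j := rfl
      have s2 : ∑ j, algebraMap R S ((Matrix.fromBlocks Φ 1 (Ψ * Φ - 1) Ψ) (Sum.inl k) (Sum.inr j))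
          * Sum.elim β (0 : Fin N → S) (Sum.inr j) = 0 := by
        refine Finset.sum_eq_zero (fun j _ => ?_)
        show _ * (0 : S) = 0
        rw [mul_zero]
      rw [s1, s2, add_zero]
      exact h1 k
    · have s1 : ∑ j, algebraMap R S ((Matrix.fromBlocks Φ 1 (Ψ * Φ - 1) Ψ) (Sum.inr k) (Sum.inl j))
          * Sum.elim β (0 : Fin N → S) (Sum.inl j)
          = ∑ j, (algebraMap R S ((Ψ * Φ) k j) * β j
              - algebraMap R S ((1 : Matrix (Fin N) (Fin N) R) k j) * β j) := by
        refine Finset.sum_congr rfl (fun j _ => ?_)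
        show algebraMap R S ((Ψ * Φ - 1) k j) * β j = _
        rw [Matrix.sub_apply, map_sub, sub_mul]
      have s2 : ∑ j, algebraMap R S ((Matrix.fromBlocks Φ 1 (Ψ * Φ - 1) Ψ) (Sum.inr k) (Sum.inr j))
          * Sum.elim β (0 : Fin N → S) (Sum.inr j) = 0 := by
        refine Finset.sum_eq_zero (fun j _ => ?_)
        show _ * (0 : S) = 0
        rw [mul_zero]
      rw [s1, s2, Finset.sum_sub_distrib, e1, e2, sub_self, add_zero]
      show (0 : S) ^ p = 0
      exact zero_pow hp0

/-- **S0282**: lifting a finite étale algebra along a surjection in characteristic `p`. -/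
theorem main0282 (p : ℕ) [hp : Fact p.Prime] (R A B : Type u)
    [CommRing R] [CommRing A] [CommRing B] [CharP R p] [Algebra R A]
    (hRA : Function.Surjective (algebraMap R A)) [Algebra A B] [Module.Finite A B]
    [Algebra.Etale A B] :
    ∃ (C : Type u) (_ : CommRing C) (_ : Algebra R C), Module.Finite R C ∧ Algebra.Etale R C ∧
      ∃ ψ : A ⊗[R] C →ₐ[A] B, Function.Surjective ψ := by
  classical
  have hpR : (p : R) = 0 := CharP.cast_eq_zero R p
  have hpA : (p : A) = 0 := by
    rw [← map_natCast (algebraMap R A) p, hpR, map_zero]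
  have hpB : (p : B) = 0 := by
    rw [← map_natCast (algebraMap A B) p, hpA, map_zero]
  letI algRB : Algebra R B := ((algebraMap A B).comp (algebraMap R A)).toAlgebra
  haveI : IsScalarTower R A B := IsScalarTower.of_algebraMap_eq (fun _ => rfl)
  obtain ⟨N, β, hβ⟩ := Module.Finite.exists_fin (R := A) (M := B)
  have hPS : PSpanH4.PSpan p A B = ⊤ := PSpanH4.pspan_eq_top p A B hpA
  have hβp : Submodule.span A (Set.range (fun j => β j ^ p)) = ⊤ := by
    rw [eq_top_iff, ← hPS]
    refine Submodule.span_le.mpr ?_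
    rintro _ ⟨b, rfl⟩
    have hb : b ∈ Submodule.span A (Set.range β) := by
      rw [hβ]
      exact Submodule.mem_top
    obtain ⟨a, rfl⟩ := (Submodule.mem_span_range_iff_exists_fun A).mp hb
    show (∑ j, a j • β j) ^ p ∈ Submodule.span A (Set.range (fun j => β j ^ p))
    rw [PSpanH4.sum_pow_p p hpB]
    refine Submodule.sum_mem _ (fun j _ => ?_)
    rw [smul_pow]
    exact Submodule.smul_mem _ _ (Submodule.subset_span ⟨j, rfl⟩)
  have hφ : ∀ k, ∃ c : Fin N → A, ∑ j, c j • β j = β k ^ p := fun k =>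
    (Submodule.mem_span_range_iff_exists_fun A).mp (by rw [hβ]; exact Submodule.mem_top)
  have hψ : ∀ k, ∃ c : Fin N → A, ∑ j, c j • β j ^ p = β k := fun k =>
    (Submodule.mem_span_range_iff_exists_fun A).mp (by rw [hβp]; exact Submodule.mem_top)
  choose φ hφ using hφ
  choose ψ hψ using hψ
  choose lift hlift using hRA
  let Φ : Matrix (Fin N) (Fin N) R := Matrix.of (fun k j => lift (φ k j))
  let Ψ : Matrix (Fin N) (Fin N) R := Matrix.of (fun k j => lift (ψ k j))
  have h1 : ∀ k, β k ^ p = ∑ j, algebraMap R B (Φ k j) * β j := by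
    intro k
    rw [← hφ k]
    refine Finset.sum_congr rfl (fun j _ => ?_)
    rw [Algebra.smul_def]
    show algebraMap A B (φ k j) * β j = algebraMap A B (algebraMap R A (lift (φ k j))) * β j
    rw [hlift]
  have h2 : ∀ k, β k = ∑ j, algebraMap R B (Ψ k j) * β j ^ p := by
    intro k
    conv_lhs => rw [← hψ k]
    refine Finset.sum_congr rfl (fun j _ => ?_)
    rw [Algebra.smul_def]
    show algebraMap A B (ψ k j) * β j ^ p
      = algebraMap A B (algebraMap R A (lift (ψ k j))) * β j ^ p
    rw [hlift]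
  obtain ⟨hcu, hγ⟩ := matrix_trick p hp.out.ne_zero R B N Φ Ψ β h1 h2
  obtain ⟨C, _, _, hfin, het, huniv⟩ := FrobAlgH4.exists_frobAlg p hp.out.two_le R hpR
    (Fin N ⊕ Fin N) (Matrix.fromBlocks Φ 1 (Ψ * Φ - 1) Ψ) hcu
  obtain ⟨f, x, hx⟩ := huniv B (Sum.elim β (0 : Fin N → B)) hγ
  refine ⟨C, inferInstance, inferInstance, hfin, het, ?_⟩
  let Ψm : A ⊗[R] C →ₐ[A] B :=
    Algebra.TensorProduct.lift (Algebra.ofId A B) f (fun _ _ => Commute.all _ _)
  refine ⟨Ψm, ?_⟩
  intro b
  have hb : b ∈ Submodule.span A (Set.range β) := by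
    rw [hβ]
    exact Submodule.mem_top
  have hle : Submodule.span A (Set.range β) ≤ LinearMap.range Ψm.toLinearMap := by
    refine Submodule.span_le.mpr ?_
    rintro _ ⟨j, rfl⟩
    refine ⟨(1 : A) ⊗ₜ[R] x (Sum.inl j), ?_⟩
    show Ψm ((1 : A) ⊗ₜ[R] x (Sum.inl j)) = β j
    rw [Algebra.TensorProduct.lift_tmul, map_one, one_mul, hx]
    rfl
  obtain ⟨y, hy⟩ := LinearMap.mem_range.mp (hle hb)
  exact ⟨y, hy⟩

end Groth.Agent.Lib.LiftFEtH4
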