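import Groth.Agent.Lib.SchLimEtale_helper7
import Mathlib.AlgebraicGeometry.Morphisms.UniversallyOpen
import Mathlib.AlgebraicGeometry.PullbackCarrier
import Mathlib.RingTheory.FinitePresentation

/-!
# Surjective étale covers of affine schemes have surjective finitely presented models (helper7)
-/

set_option autoImplicit false
set_option linter.style.haveILetI false
set_option linter.unusedSectionVars false

universe u

open CategoryTheory CategoryTheory.Limits AlgebraicGeometry TensorProduct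

namespace Groth.Agent.Lib.SchLimTowerH7

set_option backward.isDefEq.respectTransparency false in
set_option maxHeartbeats 800000 in
/-- A surjective étale morphism of affine schemes is the base change of a surjective étale
morphism between affine schemes of finite presentation over `ℤ`. -/
theorem exists_model_surj {A B : Scheme.{u}} [IsAffine A] [IsAffine B] (u : A ⟶ B) [Etale u]
    [Surjective u] :
    ∃ (X' E' : Scheme.{u}) (_ : IsAffine X') (_ : IsAffine E') (e : E' ⟶ X') (a : B ⟶ X')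
      (θ : A ⟶ E') (z : X' ⟶ Spec (CommRingCat.of (ULift.{u} ℤ))),
      Etale e ∧ Surjective e ∧ LocallyOfFinitePresentation z ∧ IsPullback θ u e a := by
  obtain ⟨X', E', hX', hE', e, a, θ, z, he, hfe, hfz, sq⟩ :=
    exists_model (P := @Etale) modelHyp_etale u inferInstance
  haveI := hX'
  haveI := hE'
  haveI : Etale e := he
  haveI := hfz
  -- the range of `e` is a finite union of basic opens
  have hopen : IsOpen (Set.range e) := e.isOpenMap.isOpen_range
  have hcomp : IsCompact (Set.range e) := isCompact_range e.continuous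
  obtain ⟨s, hsfin, hs⟩ :=
    (isCompact_and_isOpen_iff_finite_and_eq_biUnion_basicOpen (X := X')).1 ⟨hcomp, hopen⟩
  haveI : Fintype s := hsfin.fintype
  -- the pulled back functions generate the unit ideal of `Γ(B)`
  have hcov : ⨆ f : (Set.range fun i : s => a.appTop i.1), B.basicOpen (f : Γ(B, ⊤)) = ⊤ := by
    rw [eq_top_iff]
    rintro b -
    obtain ⟨x, rfl⟩ := u.surjective b
    have h1 : a (u x) ∈ Set.range e :=
      ⟨θ x, by rw [← Scheme.Hom.comp_apply, ← Scheme.Hom.comp_apply, sq.w]⟩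
    rw [hs] at h1
    obtain ⟨i, hi, hxi⟩ := Set.mem_iUnion₂.1 h1
    refine TopologicalSpace.Opens.mem_iSup.2 ⟨⟨a.appTop i, ⟨⟨i, hi⟩, rfl⟩⟩, ?_⟩
    rw [← Scheme.preimage_basicOpen_top]
    exact hxi
  have hspan : Ideal.span (Set.range fun i : s => a.appTop i.1) = ⊤ :=
    (isAffineOpen_top B).iSup_basicOpen_eq_self_iff.1 hcov
  obtain ⟨cf, hcf⟩ := Ideal.mem_span_range_iff_exists_fun.1
    (hspan ▸ Submodule.mem_top : (1 : Γ(B, ⊤)) ∈ Ideal.span (Set.range fun i : s => a.appTop i.1))
  -- the universal ring where the functions generate the unit ideal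
  let F : MvPolynomial s Γ(X', ⊤) :=
    ∑ i : s, MvPolynomial.X i * MvPolynomial.C i.1 - 1
  let R₁ : Type u := MvPolynomial s Γ(X', ⊤) ⧸ Ideal.span {F}
  haveI : Algebra.FinitePresentation Γ(X', ⊤) R₁ :=
    Algebra.FinitePresentation.quotient ⟨{F}, by rw [Finset.coe_singleton]⟩
  have hφfp : (algebraMap Γ(X', ⊤) R₁).FinitePresentation :=
    RingHom.finitePresentation_algebraMap.2 inferInstance
  let φc : Γ(X', ⊤) ⟶ CommRingCat.of R₁ := CommRingCat.ofHom (algebraMap Γ(X', ⊤) R₁)
  have hF0 : (MvPolynomial.eval₂Hom a.appTop.hom cf) F = 0 := by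
    simp only [F, map_sub, map_sum, map_mul, MvPolynomial.eval₂Hom_X', MvPolynomial.eval₂Hom_C,
      map_one]
    rw [sub_eq_zero, ← hcf]
  let ψ : R₁ →+* Γ(B, ⊤) :=
    Ideal.Quotient.lift (Ideal.span {F}) (MvPolynomial.eval₂Hom a.appTop.hom cf) (by
      intro x hx
      obtain ⟨y, rfl⟩ := Ideal.mem_span_singleton'.1 hx
      rw [map_mul, hF0, mul_zero])
  let ψc : CommRingCat.of R₁ ⟶ Γ(B, ⊤) := CommRingCat.ofHom ψ
  have hφψ : φc ≫ ψc = a.appTop := by
    ext r
    show ψ (algebraMap Γ(X', ⊤) R₁ r) = a.appTop r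
    have : algebraMap Γ(X', ⊤) R₁ r = Ideal.Quotient.mk _ (MvPolynomial.C r) := rfl
    rw [this]
    show (MvPolynomial.eval₂Hom a.appTop.hom cf) (MvPolynomial.C r) = _
    rw [MvPolynomial.eval₂Hom_C]
  let X'' : Scheme.{u} := Spec (CommRingCat.of R₁)
  let π : X'' ⟶ X' := Spec.map φc ≫ X'.isoSpec.inv
  let a'' : B ⟶ X'' := B.isoSpec.hom ≫ Spec.map ψc
  have haπ : a'' ≫ π = a := by
    show (B.isoSpec.hom ≫ Spec.map ψc) ≫ Spec.map φc ≫ X'.isoSpec.inv = a
    rw [Category.assoc, ← Category.assoc (Spec.map ψc), ← Spec.map_comp, hφψ,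
      Scheme.isoSpec_inv_naturality, Iso.hom_inv_id_assoc]
  -- `π` lands in the range of `e`
  have hρ : π.appTop ≫ (Scheme.ΓSpecIso (CommRingCat.of R₁)).hom = φc := by
    have h1 : X'.isoSpec.inv.appTop ≫ (Scheme.ΓSpecIso Γ(X', ⊤)).hom = 𝟙 _ := by
      rw [← Scheme.toSpecΓ_appTop, ← Scheme.Hom.comp_appTop]
      have h2 : X'.toSpecΓ ≫ X'.isoSpec.inv = 𝟙 _ := X'.isoSpec.hom_inv_id
      rw [h2]
      rfl
    show (Spec.map φc ≫ X'.isoSpec.inv).appTop ≫ _ = φc
    rw [Scheme.Hom.comp_appTop, Category.assoc, Scheme.ΓSpecIso_naturality, ← Category.assoc, h1,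
      Category.id_comp]
  have hspan'' : Ideal.span (Set.range fun i : s => π.appTop i.1) = ⊤ := by
    rw [Ideal.eq_top_iff_one]
    let κ := Scheme.ΓSpecIso (CommRingCat.of R₁)
    have hκ : ∀ r : Γ(X', ⊤), κ.hom (π.appTop r) = algebraMap Γ(X', ⊤) R₁ r := fun r =>
      congrArg (fun k : Γ(X', ⊤) ⟶ CommRingCat.of R₁ => k r) hρ
    have hone : (1 : Γ(X'', ⊤)) =
        ∑ i : s, κ.inv (Ideal.Quotient.mk (Ideal.span {F}) (MvPolynomial.X i)) * π.appTop i.1 := by
      have hinj : Function.Injective κ.hom :=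
        (ConcreteCategory.bijective_of_isIso κ.hom).1
      apply hinj
      rw [map_one, map_sum]
      have h3 : ∀ i : s, κ.hom (κ.inv (Ideal.Quotient.mk (Ideal.span {F}) (MvPolynomial.X i)) *
          π.appTop i.1) = Ideal.Quotient.mk (Ideal.span {F})
            (MvPolynomial.X i * MvPolynomial.C i.1) := by
        intro i
        rw [map_mul, hκ, map_mul]
        congr 1
        exact congrArg (fun k : CommRingCat.of R₁ ⟶ CommRingCat.of R₁ =>
          k (Ideal.Quotient.mk (Ideal.span {F}) (MvPolynomial.X i))) κ.inv_hom_id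
      rw [Finset.sum_congr rfl (fun i _ => h3 i), ← map_sum]
      symm
      rw [← sub_eq_zero, ← map_one (Ideal.Quotient.mk (Ideal.span {F})), ← map_sub]
      exact Ideal.Quotient.eq_zero_iff_mem.2 (Ideal.subset_span (Set.mem_singleton F))
    rw [hone]
    exact Ideal.sum_mem _ fun i _ => Ideal.mul_mem_left _ _ (Ideal.subset_span ⟨i, rfl⟩)
  have hcov'' : ⨆ f : (Set.range fun i : s => π.appTop i.1), X''.basicOpen (f : Γ(X'', ⊤)) = ⊤ :=
    (isAffineOpen_top X'').iSup_basicOpen_eq_self_iff.2 hspan''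
  have hπrange : ∀ x'' : X'', π x'' ∈ Set.range e := by
    intro x''
    have hx : x'' ∈ (⊤ : X''.Opens) := trivial
    rw [← hcov''] at hx
    obtain ⟨⟨f, ⟨i, rfl⟩⟩, hf⟩ := TopologicalSpace.Opens.mem_iSup.1 hx
    rw [hs]
    refine Set.mem_iUnion₂.2 ⟨i.1, i.2, ?_⟩
    have hf' : x'' ∈ π ⁻¹ᵁ X'.basicOpen i.1 := by
      rw [Scheme.preimage_basicOpen_top]
      exact hf
    exact hf'
  -- the base-changed model
  let e'' : pullback e π ⟶ X'' := pullback.snd e π
  have hsurj : Surjective e'' := by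
    refine ⟨fun x'' => ?_⟩
    obtain ⟨y, hy⟩ := hπrange x''
    obtain ⟨w, -, hw⟩ := Scheme.Pullback.exists_preimage_pullback (f := e) (g := π) y x'' hy
    exact ⟨w, hw⟩
  have hθ : θ ≫ e = (u ≫ a'') ≫ π := by
    rw [Category.assoc, haπ, sq.w]
  let θ'' : A ⟶ pullback e π := pullback.lift θ (u ≫ a'') hθ
  have sq'' : IsPullback θ'' u e'' a'' := by
    have big : IsPullback (θ'' ≫ pullback.fst e π) u e (a'' ≫ π) := by
      rw [haπ, pullback.lift_fst]
      exact sq
    exact IsPullback.of_right big (pullback.lift_snd _ _ _) (IsPullback.of_hasPullback e π)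
  refine ⟨X'', pullback e π, inferInstance, inferInstance, e'', a'', θ'', π ≫ z,
    inferInstance, hsurj, ?_, sq''⟩
  haveI : LocallyOfFinitePresentation (Spec.map φc) :=
    (HasRingHomProperty.Spec_iff (P := @LocallyOfFinitePresentation)).2 hφfp
  show LocallyOfFinitePresentation ((Spec.map φc ≫ X'.isoSpec.inv) ≫ z)
  infer_instance

end Groth.Agent.Lib.SchLimTowerH7
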