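import Groth.Agent.Lib.LimTower13_helper7
import Groth.Agent.Lib.LimAff1_helper7
import Groth.Agent.Lib.AffDesc3_helper7

/-!
# Affineness at a finite stage of a limit of algebraic spaces, part 1: auxiliary lemmas (helper7)
-/

set_option autoImplicit false
set_option linter.style.haveILetI false

universe u

open CategoryTheory CategoryTheory.Limits AlgebraicGeometry Opposite Topology
open AlgSp Groth.Agent.Lib.AlgSpPullback_helper7 Groth.Agent.Lib.AlgSpQC_helper7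
  Groth.Agent.Lib.AlgSpPoints_helper7 Groth.Agent.Lib.AlgSpQC2_helper7
  Groth.Agent.Lib.MonicGsectH6 Groth.Agent.Lib.AlgSpSep_helper7
  Groth.Agent.Lib.AlgSpDiag_helper7 Groth.Agent.Lib.AlgSpProper_helper7
  Groth.Agent.Lib.AlgSpEpi_helper7 Groth.Agent.Lib.AlgSpFormal5_helper7
  Groth.Agent.Lib.AlgSpIso_helper7
  Groth.Agent.Lib.SchLimTowerH7

namespace Groth.Agent.Lib.LimTowerH7

variable {S : Scheme.{u}}

/-- The source of a representable affine morphism to a quasi-compact quasi-separated sheaf is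
quasi-compact and quasi-separated. -/
theorem qcqs_of_repWith_isAffineHom {X Y : Sp S} (f : X ⟶ Y) (hf : RepWith @IsAffineHom f)
    (hYc : IsQuasiCompactSp Y) (hYs : IsQuasiSeparatedSp Y) :
    IsQuasiCompactSp X ∧ IsQuasiSeparatedSp X := by
  constructor
  · exact isQuasiCompactSp_of_repWith_quasiCompact f
      (repWith_mono (fun _ _ g (hg : IsAffineHom g) => (inferInstance : QuasiCompact g)) hf) hYc
  · have h1 : IsQuasiSeparatedMor f := (isQuasiSeparatedMor_iff_of_representable f hf.rep).2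
      (repWith_mono (fun _ _ g (hg : IsAffineHom g) => (inferInstance : QuasiSeparated g)) hf)
    have h3 := isQuasiSeparatedMor_comp f _ h1 (isQuasiSeparatedMor_terminal_from hYs)
    rw [terminal.comp_from] at h3
    exact (repWith_diag_iff_diagonal_terminal_from _ X).2 h3

/-- Transitivity of base change: a base change along `ℓ₁ ≫ m₁` is a base change of the base
change along `m₁`. -/
theorem exists_isPullback_trans {P₀ B₀ B₁ P₁ L P : Sp S} {β₀ : P₀ ⟶ B₀} {m₁ : B₁ ⟶ B₀}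
    {p₁ : P₁ ⟶ P₀} {πB : P₁ ⟶ B₁} (h₁ : IsPullback p₁ πB β₀ m₁) {ℓ₀ : L ⟶ B₀} (ℓ₁ : L ⟶ B₁)
    (hℓ : ℓ₁ ≫ m₁ = ℓ₀) {pP : P ⟶ P₀} {qP : P ⟶ L} (hP : IsPullback pP qP β₀ ℓ₀) :
    ∃ pP₁ : P ⟶ P₁, pP₁ ≫ p₁ = pP ∧ IsPullback pP₁ qP πB ℓ₁ := by
  have hc : pP ≫ β₀ = (qP ≫ ℓ₁) ≫ m₁ := by
    rw [Category.assoc, hℓ, hP.w]
  obtain ⟨pP₁, h1, h2⟩ : ∃ pP₁ : P ⟶ P₁, pP₁ ≫ p₁ = pP ∧ pP₁ ≫ πB = qP ≫ ℓ₁ :=
    ⟨h₁.lift _ _ hc, h₁.lift_fst _ _ _, h₁.lift_snd _ _ _⟩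
  refine ⟨pP₁, h1, ?_⟩
  have big : IsPullback (pP₁ ≫ p₁) qP β₀ (ℓ₁ ≫ m₁) := by
    rw [h1, hℓ]
    exact hP
  exact IsPullback.of_right big h2 h₁

/-! ### Spreading out the equalizing property of a chart map -/

set_option backward.isDefEq.respectTransparency false in
set_option maxHeartbeats 1600000 in
/-- If a map `ζ` from an affine étale chart `U₁` of `P₁` (over the stage `i₁`) to a scheme locally
of finite type over `Z₀` identifies all pairs of points with the same image in `P₁` which lift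
to the limit, then it identifies all such pairs which lift to some later stage. -/
theorem exists_stage_equalizes [QuasiSeparatedSpace ↥S] {I : Type u} [SmallCategory I]
    [IsCofiltered I] (D : I ⥤ Sp S)
    (hDa : ∀ (i j : I) (φ : i ⟶ j), IsAffineMor (D.map φ))
    (c : Cone D) (hc : IsLimit c) (i₁ : I)
    {P₁ : Sp S} (hP₁qs : IsQuasiSeparatedSp P₁) (πB : P₁ ⟶ D.obj i₁)
    {U₁ : Over S} (hU₁ : IsAffine U₁.left) (b₁ : (yon S).obj U₁ ⟶ P₁) (hbe : RepWith @Etale b₁)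
    {Z Z₀ : Over S} (s : Z ⟶ Z₀) [LocallyOfFiniteType s.left] (ζ : U₁ ⟶ Z)
    (z₁ : P₁ ⟶ (yon S).obj Z₀) (hz₁ : b₁ ≫ z₁ = (yon S).map (ζ ≫ s))
    (hlim : ∀ (T' : Over S) (x y : T' ⟶ U₁) (γ : (yon S).obj T' ⟶ c.pt),
      (yon S).map x ≫ b₁ = (yon S).map y ≫ b₁ →
      (yon S).map x ≫ b₁ ≫ πB = γ ≫ c.π.app i₁ → x ≫ ζ = y ≫ ζ) :
    ∃ (k : I) (κ : k ⟶ i₁), ∀ (T' : Over S) (x y : T' ⟶ U₁) (β : (yon S).obj T' ⟶ D.obj k),
      (yon S).map x ≫ b₁ = (yon S).map y ≫ b₁ →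
      (yon S).map x ≫ b₁ ≫ πB = β ≫ D.map κ → x ≫ ζ = y ≫ ζ := by
  haveI := hU₁
  have hb₁qcm : IsQuasiCompactMor b₁ :=
    isQuasiCompactMor_of_isQuasiCompactSp_of_isQuasiSeparatedSp (IsAlgSpace.yon_obj U₁) b₁
      (isQuasiCompactSp_yon U₁) hP₁qs
  have hbqc : RepWith @QuasiCompact b₁ :=
    repWith_quasiCompact_of_isQuasiCompactMor b₁ hbe.rep hb₁qcm
  obtain ⟨R, r₁, r₂, hsqR⟩ : ∃ (R : Over S) (r₁ r₂ : R ⟶ U₁),
      IsPullback ((yon S).map r₁) ((yon S).map r₂) b₁ b₁ := ⟨_, _, _, hbe.rep.isPullback' b₁⟩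
  haveI hr₂qc : QuasiCompact r₂.left := hbqc.property b₁ _ _ hsqR
  haveI : CompactSpace ↥R.left := QuasiCompact.compactSpace_of_compactSpace r₂.left
  obtain ⟨E, p, q, cE, fst, w, sq, hp, hq, hEaff, hqaff, ⟨hcEl⟩, ⟨hl⟩, hπaff, hw, hfst, pb,
    hwaff⟩ := exists_tower D hDa c hc i₁ ((yon S).map r₁ ≫ b₁ ≫ πB)
  haveI : ∀ {j k : Over i₁} (φ : j ⟶ k), IsAffineHom ((E ⋙ Over.forget S).map φ) :=
    fun φ => hEaff _ _ φ
  haveI hEc : ∀ j : Over i₁, CompactSpace ↥((E ⋙ Over.forget S).obj j) := fun j => by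
    haveI : IsAffineHom (q j).left := hqaff j
    exact QuasiCompact.compactSpace_of_compactSpace (q j).left
  have hrs : r₁ ≫ ζ ≫ s = r₂ ≫ ζ ≫ s := by
    apply (yon S).map_injective
    have e1 : (yon S).map (r₁ ≫ ζ ≫ s) = (yon S).map r₁ ≫ b₁ ≫ z₁ := by
      rw [Functor.map_comp, hz₁]
    have e2 : (yon S).map (r₂ ≫ ζ ≫ s) = (yon S).map r₂ ≫ b₁ ≫ z₁ := by
      rw [Functor.map_comp, hz₁]
    rw [e1, e2, ← Category.assoc, ← Category.assoc, hsqR.w]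
  let t : (E ⋙ Over.forget S) ⟶ (Functor.const (Over i₁)).obj Z₀.left :=
    { app := fun j => (q j ≫ r₁ ≫ ζ ≫ s).left
      naturality := fun j k φ => by
        change (E.map φ ≫ q k ≫ r₁ ≫ ζ ≫ s).left = (q j ≫ r₁ ≫ ζ ≫ s).left ≫ 𝟙 _
        rw [Category.comp_id, ← Category.assoc, hq j k φ] }
  let k₀ : Over i₁ := Over.mk (𝟙 i₁)
  obtain ⟨a, hadef⟩ : ∃ a : (E ⋙ Over.forget S).obj k₀ ⟶ Z.left, a = (q k₀ ≫ r₁ ≫ ζ).left :=
    ⟨_, rfl⟩
  obtain ⟨b, hbdef⟩ : ∃ b : (E ⋙ Over.forget S).obj k₀ ⟶ Z.left, b = (q k₀ ≫ r₂ ≫ ζ).left :=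
    ⟨_, rfl⟩
  have ha : t.app k₀ = a ≫ s.left := by
    rw [hadef]
    show (q k₀ ≫ r₁ ≫ ζ ≫ s).left = ((q k₀ ≫ r₁ ≫ ζ) ≫ s).left
    simp only [Category.assoc]
  have hb : t.app k₀ = b ≫ s.left := by
    rw [hbdef]
    show (q k₀ ≫ r₁ ≫ ζ ≫ s).left = ((q k₀ ≫ r₂ ≫ ζ) ≫ s).left
    rw [hrs]
    simp only [Category.assoc]
  have hwζ : (w ≫ r₁) ≫ ζ = (w ≫ r₂) ≫ ζ := by
    refine hlim cE.pt (w ≫ r₁) (w ≫ r₂) fst ?_ ?_
    · rw [Functor.map_comp, Functor.map_comp, Category.assoc, Category.assoc, hsqR.w]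
    · rw [pb.w, Functor.map_comp, Category.assoc]
  have hab : ((Over.forget S).mapCone cE).π.app k₀ ≫ a =
      ((Over.forget S).mapCone cE).π.app k₀ ≫ b := by
    rw [hadef, hbdef]
    show (cE.π.app k₀ ≫ q k₀ ≫ r₁ ≫ ζ).left = (cE.π.app k₀ ≫ q k₀ ≫ r₂ ≫ ζ).left
    rw [← Category.assoc, ← Category.assoc (cE.π.app k₀), hw k₀, ← Category.assoc,
      ← Category.assoc w, hwζ]
  obtain ⟨k, hk, hkeq⟩ := Scheme.exists_hom_comp_eq_comp_of_locallyOfFiniteType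
    (E ⋙ Over.forget S) t s.left ((Over.forget S).mapCone cE) hl a b ha hb hab
  refine ⟨k.left, k.hom, ?_⟩
  intro T' x y β hxy hβ
  obtain ⟨ρ, hρ⟩ := (yon S).map_surjective (hsqR.lift _ _ hxy)
  have hρ1 : ρ ≫ r₁ = x := by
    apply (yon S).map_injective
    rw [Functor.map_comp, hρ, hsqR.lift_fst]
  have hρ2 : ρ ≫ r₂ = y := by
    apply (yon S).map_injective
    rw [Functor.map_comp, hρ, hsqR.lift_snd]
  have hcε : β ≫ D.map k.hom = (yon S).map ρ ≫ (yon S).map r₁ ≫ b₁ ≫ πB := by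
    rw [← hβ, ← hρ1, Functor.map_comp, Category.assoc]
  obtain ⟨ε, hε⟩ := (yon S).map_surjective ((sq k).lift β ((yon S).map ρ) hcε)
  have hεq : ε ≫ q k = ρ := by
    apply (yon S).map_injective
    rw [Functor.map_comp, hε, (sq k).lift_snd]
  have hqk : E.map hk ≫ q k₀ = q k := hq k k₀ hk
  have key : E.map hk ≫ q k₀ ≫ r₁ ≫ ζ = E.map hk ≫ q k₀ ≫ r₂ ≫ ζ := by
    ext
    rw [hadef, hbdef] at hkeq
    exact hkeq
  calc x ≫ ζ = ε ≫ (E.map hk ≫ q k₀ ≫ r₁ ≫ ζ) := by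
        rw [← hρ1, ← hεq, ← hqk]
        simp only [Category.assoc]
    _ = ε ≫ (E.map hk ≫ q k₀ ≫ r₂ ≫ ζ) := by rw [key]
    _ = y ≫ ζ := by
        rw [← hρ2, ← hεq, ← hqk]
        simp only [Category.assoc]

/-! ### Descending a chart map to a later stage -/

/-- If the chart map `ζ` identifies the pairs of points with the same image in `P₁` that lift to
the stage `Bk`, then it descends to the base change `Pk` of `P₁`. -/
theorem exists_desc_stage {P₁ Pk B₁ Bk : Sp S} {πB : P₁ ⟶ B₁} {κ : Bk ⟶ B₁} {pk : Pk ⟶ P₁}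
    {qk : Pk ⟶ Bk} (hPk : IsPullback pk qk πB κ) {U₁ Uk : Over S} {b₁ : (yon S).obj U₁ ⟶ P₁}
    (hbe : RepWith @Etale b₁) (hbs : RepWith @Surjective b₁)
    {bk : (yon S).obj Uk ⟶ Pk} {μ : Uk ⟶ U₁} (sqk : IsPullback bk ((yon S).map μ) pk b₁)
    {Z : Over S} (ζ : U₁ ⟶ Z)
    (heq : ∀ (T' : Over S) (x y : T' ⟶ U₁) (β : (yon S).obj T' ⟶ Bk),
      (yon S).map x ≫ b₁ = (yon S).map y ≫ b₁ →
      (yon S).map x ≫ b₁ ≫ πB = β ≫ κ → x ≫ ζ = y ≫ ζ) :
    ∃ fk : Pk ⟶ (yon S).obj Z, bk ≫ fk = (yon S).map (μ ≫ ζ) := by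
  have hbke : RepWith @Etale bk := repWith_fst_of_isPullback _ sqk hbe
  have hbks : RepWith @Surjective bk := repWith_fst_of_isPullback _ sqk hbs
  haveI : Epi bk := epi_of_atlas bk hbke hbks
  haveI : EffectiveEpi bk := effectiveEpi_of_epi bk
  have hdesc : ∀ {W : Sp S} (g₁ g₂ : W ⟶ (yon S).obj Uk), g₁ ≫ bk = g₂ ≫ bk →
      g₁ ≫ (yon S).map (μ ≫ ζ) = g₂ ≫ (yon S).map (μ ≫ ζ) := by
    intro W g₁ g₂ hg
    apply hom_ext_yon
    intro T' t
    obtain ⟨x', hx'⟩ := (yon S).map_surjective (t ≫ g₁)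
    obtain ⟨y', hy'⟩ := (yon S).map_surjective (t ≫ g₂)
    have hxy : (yon S).map x' ≫ bk = (yon S).map y' ≫ bk := by
      rw [hx', hy', Category.assoc, Category.assoc, hg]
    have h1 : (yon S).map (x' ≫ μ) ≫ b₁ = (yon S).map (y' ≫ μ) ≫ b₁ := by
      rw [Functor.map_comp, Functor.map_comp, Category.assoc, Category.assoc, ← sqk.w,
        ← Category.assoc, ← Category.assoc, hxy]
    have h2 : (yon S).map (x' ≫ μ) ≫ b₁ ≫ πB = ((yon S).map x' ≫ bk ≫ qk) ≫ κ := by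
      rw [Functor.map_comp, Category.assoc, ← Category.assoc ((yon S).map μ), ← sqk.w]
      simp only [Category.assoc]
      rw [hPk.w]
    have h3 := heq T' (x' ≫ μ) (y' ≫ μ) _ h1 h2
    rw [← Category.assoc, ← Category.assoc, ← hx', ← hy', ← Functor.map_comp, ← Functor.map_comp,
      ← Category.assoc, ← Category.assoc, h3]
  exact ⟨EffectiveEpi.desc bk _ hdesc, EffectiveEpi.fac bk _ hdesc⟩

/-! ### The fibre product with the model cover and its base changes -/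

section QSquares

variable {Z Z' : Over S} (cZ : Z' ⟶ Z) {Pk Bk : Sp S} (fk : Pk ⟶ (yon S).obj Z) (qk : Pk ⟶ Bk)
  {Uk : Over S} (bk : (yon S).obj Uk ⟶ Pk) (ζk : Uk ⟶ Z')
  (hk : bk ≫ fk = (yon S).map (ζk ≫ cZ))

/-- the chart map to the fibre product `Pk ×_Z Z'` -/
noncomputable def qLift : (yon S).obj Uk ⟶ pullback fk ((yon S).map cZ) :=
  pullback.lift bk ((yon S).map ζk) (by rw [hk, Functor.map_comp])

theorem qLift_fst : qLift cZ fk bk ζk hk ≫ pullback.fst fk ((yon S).map cZ) = bk :=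
  pullback.lift_fst _ _ _

theorem qLift_snd : qLift cZ fk bk ζk hk ≫ pullback.snd fk ((yon S).map cZ) = (yon S).map ζk :=
  pullback.lift_snd _ _ _

variable {B' P' : Sp S} {γ : B' ⟶ Bk} {pP' : P' ⟶ Pk} {qP' : P' ⟶ B'}
  (hP' : IsPullback pP' qP' qk γ) {U' : Over S} {b' : (yon S).obj U' ⟶ P'} {μ' : U' ⟶ Uk}
  (sq' : IsPullback b' ((yon S).map μ') pP' bk)

/-- the comparison of the fibre products -/
noncomputable def qMap (pP' : P' ⟶ Pk) :
    pullback (pP' ≫ fk) ((yon S).map cZ) ⟶ pullback fk ((yon S).map cZ) :=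
  pullback.lift (pullback.fst _ _ ≫ pP') (pullback.snd _ _) (by
    rw [Category.assoc, pullback.condition])

theorem qMap_isPullback₀ :
    IsPullback (qMap cZ fk pP') (pullback.fst (pP' ≫ fk) ((yon S).map cZ))
      (pullback.fst fk ((yon S).map cZ)) pP' := by
  have right : IsPullback (pullback.snd fk ((yon S).map cZ)) (pullback.fst fk ((yon S).map cZ))
      ((yon S).map cZ) fk := (IsPullback.of_hasPullback fk ((yon S).map cZ)).flip
  have big : IsPullback (qMap cZ fk pP' ≫ pullback.snd fk ((yon S).map cZ))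
      (pullback.fst (pP' ≫ fk) ((yon S).map cZ)) ((yon S).map cZ) (pP' ≫ fk) := by
    have e : qMap cZ fk pP' ≫ pullback.snd fk ((yon S).map cZ) =
        pullback.snd (pP' ≫ fk) ((yon S).map cZ) := pullback.lift_snd _ _ _
    rw [e]
    exact (IsPullback.of_hasPullback (pP' ≫ fk) ((yon S).map cZ)).flip
  exact IsPullback.of_right big (pullback.lift_fst _ _ _) right

include hP' in
theorem qMap_isPullback :
    IsPullback (qMap cZ fk pP') (pullback.fst (pP' ≫ fk) ((yon S).map cZ) ≫ qP')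
      (pullback.fst fk ((yon S).map cZ) ≫ qk) γ :=
  (qMap_isPullback₀ cZ fk).paste_vert hP'

include sq' in
theorem qLift_isPullback (hk' : b' ≫ pP' ≫ fk = (yon S).map ((μ' ≫ ζk) ≫ cZ)) :
    IsPullback ((yon S).map μ') (qLift cZ (pP' ≫ fk) b' (μ' ≫ ζk) hk')
      (qLift cZ fk bk ζk hk) (qMap cZ fk pP') := by
  have comm : qLift cZ (pP' ≫ fk) b' (μ' ≫ ζk) hk' ≫ qMap cZ fk pP' =
      (yon S).map μ' ≫ qLift cZ fk bk ζk hk := by
    apply pullback.hom_ext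
    · rw [Category.assoc, Category.assoc, qLift_fst]
      have e : qMap cZ fk pP' ≫ pullback.fst fk ((yon S).map cZ) =
          pullback.fst (pP' ≫ fk) ((yon S).map cZ) ≫ pP' := pullback.lift_fst _ _ _
      rw [e, ← Category.assoc, qLift_fst, sq'.w]
    · rw [Category.assoc, Category.assoc, qLift_snd]
      have e : qMap cZ fk pP' ≫ pullback.snd fk ((yon S).map cZ) =
          pullback.snd (pP' ≫ fk) ((yon S).map cZ) := pullback.lift_snd _ _ _
      rw [e, qLift_snd, Functor.map_comp]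
  have big : IsPullback (qLift cZ (pP' ≫ fk) b' (μ' ≫ ζk) hk' ≫
      pullback.fst (pP' ≫ fk) ((yon S).map cZ)) ((yon S).map μ') pP'
      (qLift cZ fk bk ζk hk ≫ pullback.fst fk ((yon S).map cZ)) := by
    rw [qLift_fst, qLift_fst]
    exact sq'
  exact (IsPullback.of_right big comm (qMap_isPullback₀ cZ fk).flip).flip

end QSquares

end Groth.Agent.Lib.LimTowerH7
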