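import Groth.Agent.Lib.LimAff2_helper7

/-!
# Affineness at a finite stage of a limit of algebraic spaces, part 2: the main lemma (helper7)
-/

set_option autoImplicit false
set_option linter.style.haveILetI false

universe u

open CategoryTheory CategoryTheory.Limits AlgebraicGeometry Opposite Topology
open AlgSp Groth.Agent.Lib.AlgSpPullback_helper7 Groth.Agent.Lib.AlgSpQC_helper7
  Groth.Agent.Lib.AlgSpPoints_helper7 Groth.Agent.Lib.AlgSpQC2_helper7
  Groth.Agent.Lib.MonicGsectH6 Groth.Agent.Lib.AlgSpSep_helper7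
  Groth.Agent.Lib.AlgSpDiag_helper7 Groth.Agent.Lib.AlgSpProper_helper7
  Groth.Agent.Lib.AlgSpEpi_helper7 Groth.Agent.Lib.AlgSpFormal5_helper7
  Groth.Agent.Lib.AlgSpIso_helper7
  Groth.Agent.Lib.SchLimTowerH7
  Groth.Agent.Lib.AlgSpLocP_helper7 Groth.Agent.Lib.AlgSpAffineMorH7 Groth.Agent.Lib.AffDescH7

namespace Groth.Agent.Lib.LimTowerH7

variable {S : Scheme.{u}}

/-- Packaging a finitely presented model of an étale cover as schemes over `S`. -/
theorem exists_model_package {X' E' : Scheme.{u}} [IsAffine X'] [IsAffine E'] (e : E' ⟶ X')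
    [Etale e] [Surjective e] (z : X' ⟶ Spec (CommRingCat.of (ULift.{u} ℤ)))
    [LocallyOfFinitePresentation z] {Z₀ T A : Over S} [IsAffine Z₀.left] (tT₀ : T ⟶ Z₀)
    (u : A ⟶ T) (a : T.left ⟶ X') (θ : A.left ⟶ E') (sq : IsPullback θ u.left e a) :
    ∃ (Z Z' : Over S) (s : Z ⟶ Z₀) (cZ : Z' ⟶ Z) (tZ : T ⟶ Z) (ζU : A ⟶ Z'),
      IsAffine Z.left ∧ IsAffine Z'.left ∧ LocallyOfFinitePresentation s.left ∧ Etale cZ.left ∧
      Surjective cZ.left ∧ tZ ≫ s = tT₀ ∧ IsPullback ζU u cZ tZ := by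
  obtain ⟨term, -⟩ : ∃ term : Z₀.left ⟶ Spec (CommRingCat.of (ULift.{u} ℤ)), True :=
    ⟨specULiftZIsTerminal.from Z₀.left, trivial⟩
  have hterm : a ≫ z = tT₀.left ≫ term := specULiftZIsTerminal.hom_ext _ _
  obtain ⟨tl, htl1, htl2⟩ : ∃ tl : T.left ⟶ pullback z term,
      tl ≫ pullback.fst z term = a ∧ tl ≫ pullback.snd z term = tT₀.left :=
    ⟨pullback.lift a tT₀.left hterm, pullback.lift_fst _ _ _, pullback.lift_snd _ _ _⟩
  obtain ⟨ζl, hζ1, hζ2⟩ : ∃ ζl : A.left ⟶ pullback e (pullback.fst z term),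
      ζl ≫ pullback.fst e (pullback.fst z term) = θ ∧
      ζl ≫ pullback.snd e (pullback.fst z term) = u.left ≫ tl :=
    ⟨pullback.lift θ (u.left ≫ tl) (by rw [Category.assoc, htl1, sq.w]),
      pullback.lift_fst _ _ _, pullback.lift_snd _ _ _⟩
  have sqS : IsPullback ζl u.left (pullback.snd e (pullback.fst z term)) tl := by
    have big : IsPullback (ζl ≫ pullback.fst e (pullback.fst z term)) u.left e
        (tl ≫ pullback.fst z term) := by
      rw [hζ1, htl1]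
      exact sq
    exact IsPullback.of_right big hζ2 (IsPullback.of_hasPullback e (pullback.fst z term))
  refine ⟨Over.mk (pullback.snd z term ≫ Z₀.hom),
    Over.mk (pullback.snd e (pullback.fst z term) ≫ pullback.snd z term ≫ Z₀.hom),
    Over.homMk (pullback.snd z term) rfl, Over.homMk (pullback.snd e (pullback.fst z term)) rfl,
    Over.homMk tl ?_, Over.homMk ζl ?_, ?_, ?_, ?_, ?_, ?_, ?_, ?_⟩
  · show tl ≫ pullback.snd z term ≫ Z₀.hom = T.hom
    rw [← Category.assoc, htl2, Over.w]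
  · show ζl ≫ pullback.snd e (pullback.fst z term) ≫ pullback.snd z term ≫ Z₀.hom = A.hom
    rw [← Category.assoc, hζ2, Category.assoc, ← Category.assoc tl, htl2, Over.w, Over.w]
  · show IsAffine (pullback z term)
    infer_instance
  · show IsAffine (pullback e (pullback.fst z term))
    infer_instance
  · show LocallyOfFinitePresentation (pullback.snd z term)
    infer_instance
  · show Etale (pullback.snd e (pullback.fst z term))
    infer_instance
  · show Surjective (pullback.snd e (pullback.fst z term))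
    infer_instance
  · ext
    exact htl2
  · refine IsPullback.of_map (Over.forget S) ?_ sqS
    ext
    exact hζ2

/-- The transition squares of the tower are pullbacks. -/
theorem tower_transition {I : Type u} [SmallCategory I] (D : I ⥤ Sp S) {i : I} {Z : Over S}
    (g : (yon S).obj Z ⟶ D.obj i) {E : Over i ⥤ Over S}
    (p : ∀ j, (yon S).obj (E.obj j) ⟶ D.obj j.left) (q : ∀ j, E.obj j ⟶ Z)
    (sq : ∀ j, IsPullback (p j) ((yon S).map (q j)) (D.map j.hom) g)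
    (hp : ∀ (j k : Over i) (φ : j ⟶ k), (yon S).map (E.map φ) ≫ p k = p j ≫ D.map φ.left)
    (hq : ∀ (j k : Over i) (φ : j ⟶ k), E.map φ ≫ q k = q j) {j k : Over i} (φ : j ⟶ k) :
    IsPullback (p j) ((yon S).map (E.map φ)) (D.map φ.left) (p k) := by
  have outer : IsPullback ((yon S).map (E.map φ) ≫ (yon S).map (q k)) (p j) g
      (D.map φ.left ≫ D.map k.hom) := by
    rw [← (yon S).map_comp, hq j k φ, ← D.map_comp, Over.w φ]
    exact (sq j).flip
  exact (IsPullback.of_right outer (hp j k φ) (sq k).flip).flip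

set_option backward.isDefEq.respectTransparency false in
set_option maxHeartbeats 1600000 in
/-- From a stage with a map to the model whose base change to the limit is the model cover,
a later stage is affine. -/
theorem affine_of_stage_model [QuasiSeparatedSpace ↥S] {I : Type u} [SmallCategory I]
    [IsCofiltered I] (D : I ⥤ Sp S) (hD : ∀ i, IsAlgSpace (D.obj i))
    (hDa : ∀ (i j : I) (φ : i ⟶ j), IsAffineMor (D.map φ))
    (c : Cone D) (hc : IsLimit c) (k : I)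
    (Pk : Space S) (qk : Pk.obj ⟶ D.obj k)
    (hPkqc : IsQuasiCompactSp Pk.obj) (hPkqs : IsQuasiSeparatedSp Pk.obj)
    {Z Z' : Over S} (hZ : IsAffine Z.left) (hZ' : IsAffine Z'.left) (cZ : Z' ⟶ Z)
    (hce : Etale cZ.left) (hcs : Surjective cZ.left)
    (fk : Pk.obj ⟶ (yon S).obj Z) {Uk : Over S} (hUk : IsAffine Uk.left)
    (bk : (yon S).obj Uk ⟶ Pk.obj) (hbke : RepWith @Etale bk)
    (ζk : Uk ⟶ Z') (hk : bk ≫ fk = (yon S).map (ζk ≫ cZ))
    {P : Sp S} {pPk : P ⟶ Pk.obj} {qP : P ⟶ c.pt} (hPk : IsPullback pPk qP qk (c.π.app k))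
    {A : Over S} {bP : (yon S).obj A ⟶ P} {μ : A ⟶ Uk}
    (sqA : IsPullback bP ((yon S).map μ) pPk bk)
    (hlim : IsPullback ((yon S).map (μ ≫ ζk)) bP ((yon S).map cZ) (pPk ≫ fk)) :
    ∃ (l : I) (φ : l ⟶ k), ∀ (Pl : Sp S) (pl : Pl ⟶ Pk.obj) (ql : Pl ⟶ D.obj l),
      IsPullback pl ql qk (D.map φ) →
      ∃ T' : Over S, IsAffine T'.left ∧ Nonempty ((yon S).obj T' ≅ Pl) := by
  haveI := hZ
  haveI := hZ'
  haveI := hUk
  haveI := hce
  haveI := hcs
  have hcZe : RepWith @Etale ((yon S).map cZ) := (repWith_yon_map_iff @Etale cZ).2 hce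
  have hcZa : RepWith @IsAffineHom ((yon S).map cZ) :=
    (repWith_yon_map_iff @IsAffineHom cZ).2 inferInstance
  have sqQ := IsPullback.of_hasPullback fk ((yon S).map cZ)
  have hQalg : IsAlgSpace (pullback fk ((yon S).map cZ)) :=
    isAlgSpace_of_isPullback (IsAlgSpace.yon_obj Z).diag Pk.property (IsAlgSpace.yon_obj Z') sqQ
  have hfste : RepWith @Etale (pullback.fst fk ((yon S).map cZ)) :=
    repWith_fst_of_isPullback _ sqQ hcZe
  have hfsta : RepWith @IsAffineHom (pullback.fst fk ((yon S).map cZ)) :=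
    repWith_fst_of_isPullback _ sqQ hcZa
  obtain ⟨hQqc, hQqs⟩ := qcqs_of_repWith_isAffineHom _ hfsta hPkqc hPkqs
  have hf₀e : RepWith @Etale (qLift cZ fk bk ζk hk) :=
    repWith_etale_of_comp _ (pullback.fst fk ((yon S).map cZ))
      (by rw [qLift_fst]; exact hbke) hfste
  have hf₀ : LocP @LocallyOfFinitePresentation (qLift cZ fk bk ζk hk) :=
    locP_of_repWith @LocallyOfFinitePresentation
      (fun _ _ g hg => by haveI : Etale g := hg; infer_instance) _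
      (repWith_mono (fun _ _ g (hg : Etale g) =>
        (inferInstance : LocallyOfFinitePresentation g)) hf₀e)
  have hUqc : IsQuasiCompactSp ((yon S).obj Uk) := isQuasiCompactSp_yon Uk
  have hUqs : IsQuasiSeparatedSp ((yon S).obj Uk) :=
    (repWith_diag_iff_diagonal_terminal_from _ _).2
      (isQuasiSeparatedMor_from_yon_affine (terminal.from _))
  have hk' : bP ≫ pPk ≫ fk = (yon S).map ((μ ≫ ζk) ≫ cZ) := by
    rw [Functor.map_comp]
    exact hlim.w.symm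
  haveI hiso : IsIso (qLift cZ (pPk ≫ fk) bP (μ ≫ ζk) hk') := by
    have e : qLift cZ (pPk ≫ fk) bP (μ ≫ ζk) hk' = hlim.flip.isoPullback.hom := by
      apply pullback.hom_ext
      · rw [qLift_fst, IsPullback.isoPullback_hom_fst]
      · rw [qLift_snd, IsPullback.isoPullback_hom_snd]
    rw [e]
    infer_instance
  obtain ⟨l, φ, hl⟩ := main10021 D hD hDa c hc k ⟨(yon S).obj Uk, IsAlgSpace.yon_obj Uk⟩
    ⟨pullback fk ((yon S).map cZ), hQalg⟩ (qLift cZ fk bk ζk hk)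
    (pullback.fst fk ((yon S).map cZ) ≫ qk) hUqc hUqs hQqc hQqs ((yon S).obj A)
    (pullback (pPk ≫ fk) ((yon S).map cZ)) (qLift cZ (pPk ≫ fk) bP (μ ≫ ζk) hk')
    (qMap cZ fk pPk) (pullback.fst (pPk ≫ fk) ((yon S).map cZ) ≫ qP)
    (qMap_isPullback cZ fk qk hPk) ((yon S).map μ) (qLift_isPullback cZ fk bk ζk hk sqA hk') hf₀
  refine ⟨l, φ, ?_⟩
  intro Pl pl ql hPl
  have hPlalg : IsAlgSpace Pl := isAlgSpace_of_isPullback (hD k).diag Pk.property (hD l) hPl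
  have hpla : IsAffineMor pl := isAffineMor_of_repWith pl
    (repWith_fst_of_isPullback _ hPl (repWith_isAffineHom_of_isAffineMor _ (hDa _ _ φ)))
  obtain ⟨Ul, μl, bl, sql, hUl⟩ := hpla hUk bk
  have hkl : bl ≫ pl ≫ fk = (yon S).map ((μl ≫ ζk) ≫ cZ) := by
    rw [← Category.assoc, sql.w, Category.assoc, hk, ← Functor.map_comp, Category.assoc]
  haveI : IsIso (qLift cZ (pl ≫ fk) bl (μl ≫ ζk) hkl) :=
    hl ((yon S).obj Ul) (pullback (pl ≫ fk) ((yon S).map cZ))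
      (qLift cZ (pl ≫ fk) bl (μl ≫ ζk) hkl) (qMap cZ fk pl)
      (pullback.fst (pl ≫ fk) ((yon S).map cZ) ≫ ql) (qMap_isPullback cZ fk qk hPl)
      ((yon S).map μl) (qLift_isPullback cZ fk bk ζk hk sql hkl)
  have sqd : IsPullback bl ((yon S).map (μl ≫ ζk)) (pl ≫ fk) ((yon S).map cZ) :=
    IsPullback.of_iso_pullback ⟨by rw [hkl, Functor.map_comp]⟩
      (asIso (qLift cZ (pl ≫ fk) bl (μl ≫ ζk) hkl))
      (qLift_fst cZ (pl ≫ fk) bl (μl ≫ ζk) hkl) (qLift_snd cZ (pl ≫ fk) bl (μl ≫ ζk) hkl)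
  exact affine_descent cZ hZ hZ' hcs inferInstance hPlalg (pl ≫ fk) hUl bl (μl ≫ ζk) sqd

set_option backward.isDefEq.respectTransparency false in
set_option maxHeartbeats 3200000 in
/-- **Affineness at a finite stage.** If the base change to the limit of a quasi-compact
quasi-separated algebraic space `P₀` over the stage `i₀`, mapping to an affine scheme `Z₀`, is an
affine scheme, then so are its base changes to all stages after some stage. -/
theorem exists_affine_stage [QuasiSeparatedSpace ↥S] {I : Type u} [SmallCategory I]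
    [IsCofiltered I] (D : I ⥤ Sp S) (hD : ∀ i, IsAlgSpace (D.obj i))
    (hDa : ∀ (i j : I) (φ : i ⟶ j), IsAffineMor (D.map φ))
    (c : Cone D) (hc : IsLimit c) (i₀ : I)
    (P₀ : Space S) (β₀ : P₀.obj ⟶ D.obj i₀)
    (hP₀qc : IsQuasiCompactSp P₀.obj) (hP₀qs : IsQuasiSeparatedSp P₀.obj)
    {Z₀ : Over S} (hZ₀ : IsAffine Z₀.left) (z₀ : P₀.obj ⟶ (yon S).obj Z₀)
    {P : Sp S} {pP : P ⟶ P₀.obj} {qP : P ⟶ c.pt} (hP : IsPullback pP qP β₀ (c.π.app i₀))
    {T : Over S} (hT : IsAffine T.left) (eT : (yon S).obj T ≅ P) :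
    ∃ (i : I) (φ : i ⟶ i₀), ∀ (Pi : Sp S) (pi : Pi ⟶ P₀.obj) (qi : Pi ⟶ D.obj i),
      IsPullback pi qi β₀ (D.map φ) →
      ∃ T' : Over S, IsAffine T'.left ∧ Nonempty ((yon S).obj T' ≅ Pi) := by
  haveI := hZ₀
  haveI := hT
  -- (1) an affine atlas of `P₀`
  obtain ⟨U₀, b, hU₀, hbe, hbs⟩ := exists_affine_atlas hP₀qc
  haveI := hU₀
  -- (2) its tower
  obtain ⟨E, p, q, cE, fst, w, sq, hp, hq, hEaff, hqaff, ⟨hcEl⟩, ⟨hl⟩, hπaff, hw, hfst, pb,
    hwaff⟩ := exists_tower D hDa c hc i₀ (b ≫ β₀)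
  haveI : ∀ {j k : Over i₀} (φ : j ⟶ k), IsAffineHom ((E ⋙ Over.forget S).map φ) :=
    fun φ => hEaff _ _ φ
  have hEa' : ∀ j : Over i₀, IsAffine (E.obj j).left := fun j => by
    haveI : IsAffineHom (q j).left := hqaff j
    exact isAffine_of_isAffineHom (q j).left
  haveI hEa : ∀ j : Over i₀, IsAffine ((E ⋙ Over.forget S).obj j) := hEa'
  haveI hAaff : IsAffine cE.pt.left := by
    haveI := hwaff
    exact isAffine_of_isAffineHom w.left
  -- (3) the chart of the limit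
  obtain ⟨bP, hbP1, hbP2⟩ : ∃ bP : (yon S).obj cE.pt ⟶ P, bP ≫ pP = (yon S).map w ≫ b ∧
      bP ≫ qP = fst :=
    ⟨hP.lift ((yon S).map w ≫ b) fst (by rw [Category.assoc, pb.w]), hP.lift_fst _ _ _,
      hP.lift_snd _ _ _⟩
  have sqbP : IsPullback bP ((yon S).map w) pP b := by
    have big : IsPullback (bP ≫ qP) ((yon S).map w) (c.π.app i₀) (b ≫ β₀) := by
      rw [hbP2]
      exact pb
    exact IsPullback.of_right big hbP1 hP.flip
  have hbPe : RepWith @Etale bP := repWith_fst_of_isPullback _ sqbP hbe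
  have hbPs : RepWith @Surjective bP := repWith_fst_of_isPullback _ sqbP hbs
  haveI : Epi bP := epi_of_atlas bP hbPe hbPs
  -- (4) the cover `u` of `T`
  obtain ⟨u, hu⟩ := (yon S).map_surjective (bP ≫ eT.inv)
  haveI hue : Etale u.left := (repWith_yon_map_iff @Etale u).1 (by
    rw [hu]
    exact repWith_comp @Etale hbPe (repWith_of_isIso @Etale eT.inv))
  haveI hus : Surjective u.left := (repWith_yon_map_iff @Surjective u).1 (by
    rw [hu]
    exact repWith_comp @Surjective hbPs (repWith_of_isIso @Surjective eT.inv))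
  -- (5) the model
  obtain ⟨X', E', hX', hE', e, a, θ, z, he, hes, hz, sqM⟩ := exists_model_surj u.left
  haveI := hX'
  haveI := hE'
  haveI := he
  haveI := hes
  haveI := hz
  -- (6) the model over `S`
  obtain ⟨tT₀, htT₀⟩ := (yon S).map_surjective (eT.hom ≫ pP ≫ z₀)
  obtain ⟨Z, Z', s, cZ, tZ, ζU, hZ, hZ', hs, hce, hcs, htZ, sqZ⟩ :=
    exists_model_package e z tT₀ u a θ sqM
  haveI := hZ
  haveI := hZ'
  haveI := hs
  haveI := hce
  haveI := hcs
  -- (7) spreading out `ζU`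
  obtain ⟨ν₀, hν₀⟩ := (yon S).map_surjective (b ≫ z₀)
  have hζs : ζU ≫ cZ ≫ s = w ≫ ν₀ := by
    apply (yon S).map_injective
    rw [← Category.assoc, sqZ.w, Category.assoc, htZ, Functor.map_comp, Functor.map_comp, hu,
      htT₀, hν₀]
    simp only [Category.assoc, Iso.inv_hom_id_assoc]
    rw [← Category.assoc, hbP1, Category.assoc]
  let t : (E ⋙ Over.forget S) ⟶ (Functor.const (Over i₀)).obj Z₀.left :=
    { app := fun j => (q j ≫ ν₀).left
      naturality := fun j k φ => by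
        change (E.map φ ≫ q k ≫ ν₀).left = (q j ≫ ν₀).left ≫ 𝟙 _
        rw [Category.comp_id, ← Category.assoc, hq j k φ] }
  have ha : ((Over.forget S).mapCone cE).π ≫ t =
      (Functor.const _).map (ζU.left ≫ (cZ ≫ s).left) := by
    ext j
    change (cE.π.app j ≫ q j ≫ ν₀).left = (ζU ≫ cZ ≫ s).left
    rw [← Category.assoc, hw j, hζs]
  haveI : LocallyOfFinitePresentation (cZ ≫ s).left := by
    show LocallyOfFinitePresentation (cZ.left ≫ s.left)
    infer_instance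
  obtain ⟨j₁, g₁, hg1, hg2⟩ := Scheme.exists_π_app_comp_eq_of_locallyOfFinitePresentation
    (E ⋙ Over.forget S) t (cZ ≫ s).left ((Over.forget S).mapCone cE) hl ζU.left ha
  have hg2' : g₁ ≫ (cZ ≫ s).left = (q j₁ ≫ ν₀).left := hg2
  have hg1' : (cE.π.app j₁).left ≫ g₁ = ζU.left := hg1
  have hgZ : g₁ ≫ Z'.hom = (E.obj j₁).hom := by
    rw [← Over.w (cZ ≫ s), ← Category.assoc, hg2']
    exact Over.w (q j₁ ≫ ν₀)
  obtain ⟨ζ₁, hζ₁⟩ : ∃ ζ₁ : E.obj j₁ ⟶ Z', ζ₁.left = g₁ := ⟨Over.homMk g₁ hgZ, rfl⟩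
  have hζ₁U : cE.π.app j₁ ≫ ζ₁ = ζU := by
    ext
    change (cE.π.app j₁).left ≫ ζ₁.left = ζU.left
    rw [hζ₁, hg1']
  have hζ₁s : ζ₁ ≫ cZ ≫ s = q j₁ ≫ ν₀ := by
    ext
    change ζ₁.left ≫ (cZ ≫ s).left = (q j₁ ≫ ν₀).left
    rw [hζ₁, hg2']
  -- (8) the stage `j₁`
  obtain ⟨P₁, p₁, πB₁, h₁⟩ : ∃ (P₁ : Sp S) (p₁ : P₁ ⟶ P₀.obj) (πB₁ : P₁ ⟶ D.obj j₁.left),
      IsPullback p₁ πB₁ β₀ (D.map j₁.hom) :=
    ⟨_, _, _, IsPullback.of_hasPullback β₀ (D.map j₁.hom)⟩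
  have hP₁alg : IsAlgSpace P₁ :=
    isAlgSpace_of_isPullback (hD i₀).diag P₀.property (hD j₁.left) h₁
  obtain ⟨hP₁qc, hP₁qs⟩ := qcqs_of_repWith_isAffineHom p₁
    (repWith_fst_of_isPullback _ h₁ (repWith_isAffineHom_of_isAffineMor _ (hDa _ _ j₁.hom)))
    hP₀qc hP₀qs
  obtain ⟨b₁, hb₁1, hb₁2⟩ : ∃ b₁ : (yon S).obj (E.obj j₁) ⟶ P₁,
      b₁ ≫ p₁ = (yon S).map (q j₁) ≫ b ∧ b₁ ≫ πB₁ = p j₁ :=
    ⟨h₁.lift ((yon S).map (q j₁) ≫ b) (p j₁) (by rw [Category.assoc, (sq j₁).w]),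
      h₁.lift_fst _ _ _, h₁.lift_snd _ _ _⟩
  have sqb₁ : IsPullback b₁ ((yon S).map (q j₁)) p₁ b := by
    have big : IsPullback (b₁ ≫ πB₁) ((yon S).map (q j₁)) (D.map j₁.hom) (b ≫ β₀) := by
      rw [hb₁2]
      exact sq j₁
    exact IsPullback.of_right big hb₁1 h₁.flip
  have hb₁e : RepWith @Etale b₁ := repWith_fst_of_isPullback _ sqb₁ hbe
  have hb₁s : RepWith @Surjective b₁ := repWith_fst_of_isPullback _ sqb₁ hbs
  -- (9) the hypotheses of the equalizing lemma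
  have hz₁ : b₁ ≫ p₁ ≫ z₀ = (yon S).map ((ζ₁ ≫ cZ) ≫ s) := by
    rw [Category.assoc, hζ₁s, Functor.map_comp, hν₀, ← Category.assoc, hb₁1, Category.assoc]
  have hstage₁ := isPullback_stage D c i₀ (b ≫ β₀) p q cE fst w sq hw hfst pb j₁
  have e1 : ∀ {T' : Over S} (v' : T' ⟶ cE.pt),
      (yon S).map v' ≫ bP ≫ pP = (yon S).map (v' ≫ cE.π.app j₁) ≫ b₁ ≫ p₁ := by
    intro T' v'
    rw [hbP1, hb₁1, ← hw j₁]
    simp only [Functor.map_comp, Category.assoc]
  have hlim : ∀ (T' : Over S) (x y : T' ⟶ E.obj j₁) (γ : (yon S).obj T' ⟶ c.pt),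
      (yon S).map x ≫ b₁ = (yon S).map y ≫ b₁ →
      (yon S).map x ≫ b₁ ≫ πB₁ = γ ≫ c.π.app j₁.left →
      x ≫ (ζ₁ ≫ cZ) = y ≫ (ζ₁ ≫ cZ) := by
    intro T' x y γ hxy hγ
    have hγx : γ ≫ c.π.app j₁.left = (yon S).map x ≫ p j₁ := by rw [← hγ, hb₁2]
    have hγy : γ ≫ c.π.app j₁.left = (yon S).map y ≫ p j₁ := by
      rw [← hγ, ← Category.assoc, hxy, Category.assoc, hb₁2]
    obtain ⟨x', hx'⟩ := (yon S).map_surjective (hstage₁.lift γ ((yon S).map x) hγx)
    obtain ⟨y', hy'⟩ := (yon S).map_surjective (hstage₁.lift γ ((yon S).map y) hγy)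
    have hx1 : (yon S).map x' ≫ fst = γ := by rw [hx', hstage₁.lift_fst]
    have hx2 : x' ≫ cE.π.app j₁ = x := by
      apply (yon S).map_injective
      rw [Functor.map_comp, hx', hstage₁.lift_snd]
    have hy1 : (yon S).map y' ≫ fst = γ := by rw [hy', hstage₁.lift_fst]
    have hy2 : y' ≫ cE.π.app j₁ = y := by
      apply (yon S).map_injective
      rw [Functor.map_comp, hy', hstage₁.lift_snd]
    have hbPxy : (yon S).map x' ≫ bP = (yon S).map y' ≫ bP := by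
      apply hP.hom_ext
      · rw [Category.assoc, Category.assoc, e1 x', e1 y', hx2, hy2, ← Category.assoc, hxy,
          Category.assoc]
      · rw [Category.assoc, Category.assoc, hbP2, hx1, hy1]
    have hxyu : x' ≫ u = y' ≫ u := by
      apply (yon S).map_injective
      rw [Functor.map_comp, Functor.map_comp, hu, ← Category.assoc, hbPxy, Category.assoc]
    calc x ≫ ζ₁ ≫ cZ = x' ≫ (cE.π.app j₁ ≫ ζ₁) ≫ cZ := by
          rw [← hx2]
          simp only [Category.assoc]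
      _ = x' ≫ u ≫ tZ := by rw [hζ₁U, sqZ.w]
      _ = y' ≫ u ≫ tZ := by rw [← Category.assoc, hxyu, Category.assoc]
      _ = y' ≫ (cE.π.app j₁ ≫ ζ₁) ≫ cZ := by rw [hζ₁U, sqZ.w]
      _ = y ≫ ζ₁ ≫ cZ := by
          rw [← hy2]
          simp only [Category.assoc]
  -- (10) the equalizing stage
  obtain ⟨k, κ, heq⟩ := exists_stage_equalizes D hDa c hc j₁.left hP₁qs πB₁ (hEa' j₁) b₁ hb₁e s
    (ζ₁ ≫ cZ) (p₁ ≫ z₀) hz₁ hlim
  -- (11) the stage `k`
  obtain ⟨Pk, pk, qk, hPk⟩ : ∃ (Pk : Sp S) (pk : Pk ⟶ P₁) (qk : Pk ⟶ D.obj k),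
      IsPullback pk qk πB₁ (D.map κ) := ⟨_, _, _, IsPullback.of_hasPullback πB₁ (D.map κ)⟩
  have hPkalg : IsAlgSpace Pk := isAlgSpace_of_isPullback (hD j₁.left).diag hP₁alg (hD k) hPk
  obtain ⟨hPkqc, hPkqs⟩ := qcqs_of_repWith_isAffineHom pk
    (repWith_fst_of_isPullback _ hPk (repWith_isAffineHom_of_isAffineMor _ (hDa _ _ κ)))
    hP₁qc hP₁qs
  obtain ⟨Uk, pk', μ, ξ, hUkaff, sqμ, hξ, hstagek⟩ : ∃ (Uk : Over S)
      (pk' : (yon S).obj Uk ⟶ D.obj k) (μ : Uk ⟶ E.obj j₁) (ξ : cE.pt ⟶ Uk),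
      IsAffine Uk.left ∧ IsPullback pk' ((yon S).map μ) (D.map κ) (p j₁) ∧
      ξ ≫ μ = cE.π.app j₁ ∧ IsPullback fst ((yon S).map ξ) (c.π.app k) pk' :=
    ⟨E.obj (Over.mk (κ ≫ j₁.hom)), p (Over.mk (κ ≫ j₁.hom)),
      E.map (Over.homMk κ rfl : Over.mk (κ ≫ j₁.hom) ⟶ j₁), cE.π.app (Over.mk (κ ≫ j₁.hom)),
      hEa' _, tower_transition D (b ≫ β₀) p q sq hp hq _, cE.w _,
      isPullback_stage D c i₀ (b ≫ β₀) p q cE fst w sq hw hfst pb _⟩
  obtain ⟨bk, hbk1, hbk2⟩ : ∃ bk : (yon S).obj Uk ⟶ Pk,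
      bk ≫ pk = (yon S).map μ ≫ b₁ ∧ bk ≫ qk = pk' :=
    ⟨hPk.lift ((yon S).map μ ≫ b₁) pk' (by rw [Category.assoc, hb₁2, sqμ.w]),
      hPk.lift_fst _ _ _, hPk.lift_snd _ _ _⟩
  have sqk : IsPullback bk ((yon S).map μ) pk b₁ := by
    have big : IsPullback (bk ≫ qk) ((yon S).map μ) (D.map κ) (b₁ ≫ πB₁) := by
      rw [hbk2, hb₁2]
      exact sqμ
    exact IsPullback.of_right big hbk1 hPk.flip
  have hbke : RepWith @Etale bk := repWith_fst_of_isPullback _ sqk hb₁e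
  -- (12) the descended map
  obtain ⟨fk, hfk⟩ := exists_desc_stage hPk hb₁e hb₁s sqk (ζ₁ ≫ cZ) heq
  have hk : bk ≫ fk = (yon S).map ((μ ≫ ζ₁) ≫ cZ) := by rw [hfk, Category.assoc]
  -- (13) the limit over the stage `k`
  obtain ⟨pP₁, hpP₁, hPP₁⟩ := exists_isPullback_trans h₁ (c.π.app j₁.left) (c.w j₁.hom) hP
  obtain ⟨pPk, hpPk, hPPk⟩ := exists_isPullback_trans hPk (c.π.app k) (c.w κ) hPP₁
  have hbPP₁ : bP ≫ pP₁ = (yon S).map (cE.π.app j₁) ≫ b₁ := by
    apply h₁.hom_ext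
    · rw [Category.assoc, Category.assoc, hpP₁, hbP1, hb₁1, ← hw j₁, Functor.map_comp,
        Category.assoc]
    · rw [Category.assoc, Category.assoc, hPP₁.w, ← Category.assoc bP, hbP2, hb₁2, hfst j₁]
  have hbPPk : bP ≫ pPk = (yon S).map ξ ≫ bk := by
    apply hPk.hom_ext
    · rw [Category.assoc, Category.assoc, hpPk, hbPP₁, hbk1, ← Category.assoc,
        ← Functor.map_comp, hξ]
    · rw [Category.assoc, Category.assoc, hPPk.w, ← Category.assoc bP, hbP2, hbk2, hstagek.w]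
  have sqA : IsPullback bP ((yon S).map ξ) pPk bk := by
    have big : IsPullback (bP ≫ qP) ((yon S).map ξ) (c.π.app k) (bk ≫ qk) := by
      rw [hbP2, hbk2]
      exact hstagek
    exact IsPullback.of_right big hbPPk hPPk.flip
  have hfP : pPk ≫ fk = eT.inv ≫ (yon S).map tZ := by
    rw [← cancel_epi bP, ← Category.assoc, hbPPk, Category.assoc, hk, ← Functor.map_comp,
      ← Category.assoc bP, ← hu, ← Functor.map_comp, ← sqZ.w, ← hζ₁U, ← hξ]
    simp only [Category.assoc]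
  have hlimsq : IsPullback ((yon S).map (ξ ≫ μ ≫ ζ₁)) bP ((yon S).map cZ) (pPk ≫ fk) := by
    have e2 : ξ ≫ μ ≫ ζ₁ = ζU := by rw [← Category.assoc, hξ, hζ₁U]
    rw [e2, hfP]
    refine IsPullback.of_iso (sqZ.map (yon S)) (Iso.refl _) (Iso.refl _) eT (Iso.refl _)
      ?_ ?_ ?_ ?_
    · simp
    · rw [hu]
      simp
    · simp
    · simp
  -- (14) conclusion
  obtain ⟨l, φ, hl'⟩ := affine_of_stage_model D hD hDa c hc k ⟨Pk, hPkalg⟩ qk hPkqc hPkqs hZ hZ'
    cZ hce hcs fk hUkaff bk hbke (μ ≫ ζ₁) hk hPPk sqA hlimsq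
  refine ⟨l, φ ≫ κ ≫ j₁.hom, ?_⟩
  intro Pi pi qi hPi
  obtain ⟨pi₁, -, hPi₁⟩ := exists_isPullback_trans h₁ (D.map (φ ≫ κ))
    (by rw [← D.map_comp, Category.assoc]) hPi
  obtain ⟨pik, -, hPik⟩ := exists_isPullback_trans hPk (D.map φ) (by rw [← D.map_comp]) hPi₁
  exact hl' Pi pik qi hPik

end Groth.Agent.Lib.LimTowerH7
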