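import Mathlib
import Groth.Agent.Lib.LimConstr_helper9

/-!
# Irreducibility and connectedness through cofiltered limits of schemes (helper9)
-/

set_option autoImplicit false
set_option backward.isDefEq.respectTransparency false
universe u
open CategoryTheory CategoryTheory.Limits AlgebraicGeometry Topology TopologicalSpace

namespace Groth.Agent.Lib.LimConn
open Groth.Agent.Lib.LimConstr

variable {I : Type u} [SmallCategory I] [IsCofiltered I] (D : I ⥤ Scheme.{u}) (c : Cone D)
  (hc : IsLimit c) [hA : ∀ (i j : I) (f : i ⟶ j), IsAffineHom (D.map f)]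

include hc in
/-- Two compact opens of the limit descend to a common stage over a given index. -/
theorem exists_two_opens (i₀ : I) (U V : c.pt.Opens) (hU : IsCompact (U : Set c.pt))
    (hV : IsCompact (V : Set c.pt)) :
    ∃ (k : I) (_ : k ⟶ i₀) (A B : (D.obj k).Opens), IsCompact (A : Set (D.obj k)) ∧
      IsCompact (B : Set (D.obj k)) ∧ (c.π.app k) ⁻¹' (A : Set (D.obj k)) = (U : Set c.pt) ∧
      (c.π.app k) ⁻¹' (B : Set (D.obj k)) = (V : Set c.pt) := by
  haveI hA' : ∀ {i j : I} (f : i ⟶ j), IsAffineHom (D.map f) := fun f => inferInstance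
  obtain ⟨j₁, U₁, hU₁, e₁⟩ := exists_preimage_eq D c hc U hU
  obtain ⟨j₂, V₂, hV₂, e₂⟩ := exists_preimage_eq D c hc V hV
  have h1 : (c.π.app j₁) ⁻¹' (U₁ : Set _) = (U : Set c.pt) :=
    congrArg (fun W : c.pt.Opens => (W : Set c.pt)) e₁
  have h2 : (c.π.app j₂) ⁻¹' (V₂ : Set _) = (V : Set c.pt) :=
    congrArg (fun W : c.pt.Opens => (W : Set c.pt)) e₂
  let k₁ := IsCofiltered.min j₁ j₂
  let k := IsCofiltered.min k₁ i₀
  let a : k ⟶ j₁ := IsCofiltered.minToLeft k₁ i₀ ≫ IsCofiltered.minToLeft j₁ j₂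
  let b : k ⟶ j₂ := IsCofiltered.minToLeft k₁ i₀ ≫ IsCofiltered.minToRight j₁ j₂
  refine ⟨k, IsCofiltered.minToRight k₁ i₀, D.map a ⁻¹ᵁ U₁, D.map b ⁻¹ᵁ V₂,
    QuasiCompact.isCompact_preimage (f := D.map a) _ U₁.2 hU₁,
    QuasiCompact.isCompact_preimage (f := D.map b) _ V₂.2 hV₂, ?_, ?_⟩
  · exact (preimage_π_preimage_map D c a _).trans h1
  · exact (preimage_π_preimage_map D c b _).trans h2

omit [IsCofiltered I] hA in
theorem not_preconnected_of_split {k j : I} (τ : j ⟶ k) (A B : (D.obj k).Opens) (s : Set c.pt)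
    (hs0 : s.Nonempty) (hs1 : s ≠ Set.univ) (eA : (c.π.app k) ⁻¹' (A : Set (D.obj k)) = s)
    (h1 : (D.map τ) ⁻¹' ((A : Set (D.obj k)) ∩ B) = ∅)
    (h2 : (D.map τ) ⁻¹' ((A : Set (D.obj k)) ∪ B) = Set.univ) : ¬ PreconnectedSpace (D.obj j) := by
  intro hp
  have hAo : IsOpen ((D.map τ) ⁻¹' (A : Set (D.obj k))) := A.isOpen.preimage (D.map τ).continuous
  have hBo : IsOpen ((D.map τ) ⁻¹' (B : Set (D.obj k))) := B.isOpen.preimage (D.map τ).continuous
  have hcompl : (D.map τ) ⁻¹' (A : Set (D.obj k)) = ((D.map τ) ⁻¹' (B : Set (D.obj k)))ᶜ := by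
    rw [Set.preimage_inter] at h1
    rw [Set.preimage_union] at h2
    exact eq_compl_iff_isCompl.mpr
      ⟨Set.disjoint_iff_inter_eq_empty.mpr h1, codisjoint_iff.mpr h2⟩
  have hAc : IsClosed ((D.map τ) ⁻¹' (A : Set (D.obj k))) := by
    rw [hcompl]
    exact hBo.isClosed_compl
  have hs : (c.π.app j) ⁻¹' ((D.map τ) ⁻¹' (A : Set (D.obj k))) = s :=
    (preimage_π_preimage_map D c τ _).trans eA
  rcases isClopen_iff.mp (⟨hAc, hAo⟩ : IsClopen ((D.map τ) ⁻¹' (A : Set (D.obj k)))) with h | h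
  · rw [h, Set.preimage_empty] at hs
    exact hs0.ne_empty hs.symm
  · rw [h, Set.preimage_univ] at hs
    exact hs1 hs.symm

include hc in
/-- If the limit is empty, some stage over a given compact stage is empty. -/
theorem exists_isEmpty_of_isEmpty (i : I) [CompactSpace (D.obj i)] (h : IsEmpty c.pt) :
    ∃ (j : I) (_ : j ⟶ i), IsEmpty (D.obj j) := by
  obtain ⟨j, φ, hj⟩ := LimSurjH7.exists_preimage_eq_empty D c hc i (Z := Set.univ)
    IsConstructible.univ (by ext x; exact (h.false x).elim)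
  rw [Set.preimage_univ] at hj
  exact ⟨j, φ, Set.univ_eq_empty_iff.mp hj⟩

include hc in
/-- S4768. -/
theorem exists_not_preconnected (i₀ : I) [CompactSpace (D.obj i₀)]
    [QuasiSeparatedSpace (D.obj i₀)] (h : ¬ PreconnectedSpace c.pt) :
    ∃ (i : I) (_ : i ⟶ i₀), ∀ (j : I) (_ : j ⟶ i), ¬ PreconnectedSpace (D.obj j) := by
  haveI := compactSpace_pt D c hc i₀
  rw [preconnectedSpace_iff_clopen] at h
  push Not at h
  obtain ⟨s, hs, hs0, hs1⟩ := h
  obtain ⟨k, d, A, B, hAc, hBc, eA, eB⟩ := exists_two_opens D c hc i₀ ⟨s, hs.2⟩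
    ⟨sᶜ, hs.1.isOpen_compl⟩ hs.1.isCompact hs.2.isClosed_compl.isCompact
  haveI : CompactSpace (D.obj k) := QuasiCompact.compactSpace_of_compactSpace (D.map d)
  haveI : QuasiSeparatedSpace (D.obj k) := quasiSeparatedSpace_of_quasiSeparated (D.map d)
  have hAcons : IsConstructible (A : Set (D.obj k)) := hAc.isConstructible A.2
  have hBcons : IsConstructible (B : Set (D.obj k)) := hBc.isConstructible B.2
  have e1 : (c.π.app k) ⁻¹' ((A : Set (D.obj k)) ∩ B) = (c.π.app k) ⁻¹' ∅ := by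
    rw [Set.preimage_inter, eA, eB, Set.preimage_empty]
    exact Set.inter_compl_self s
  have e2 : (c.π.app k) ⁻¹' ((A : Set (D.obj k)) ∪ B) = (c.π.app k) ⁻¹' Set.univ := by
    rw [Set.preimage_union, eA, eB, Set.preimage_univ]
    exact Set.union_compl_self s
  obtain ⟨l₁, ψ₁, h₁⟩ := exists_preimage_eq_of_preimage_eq D c hc k (hAcons.inter hBcons)
    IsConstructible.empty e1
  obtain ⟨l₂, ψ₂, h₂⟩ := exists_preimage_eq_of_preimage_eq D c hc k (hAcons.union hBcons)
    IsConstructible.univ e2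
  obtain ⟨m, a, b, hab⟩ := IsCofiltered.cospan ψ₁ ψ₂
  refine ⟨m, (a ≫ ψ₁) ≫ d, fun j σ => ?_⟩
  refine not_preconnected_of_split D c (σ ≫ a ≫ ψ₁) A B s hs0 hs1 eA ?_ ?_
  · rw [← Category.assoc, preimage_map_comp, h₁, Set.preimage_empty, Set.preimage_empty]
  · rw [hab, ← Category.assoc, preimage_map_comp, h₂, Set.preimage_univ, Set.preimage_univ]

include hc in
/-- S4767. -/
theorem exists_not_irreducible (i₀ : I) [CompactSpace (D.obj i₀)]
    [QuasiSeparatedSpace (D.obj i₀)] [NoetherianSpace c.pt] (h : ¬ IrreducibleSpace c.pt) :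
    ∃ (i : I) (_ : i ⟶ i₀), ∀ (j : I) (_ : j ⟶ i), ¬ IrreducibleSpace (D.obj j) := by
  by_cases hne : Nonempty c.pt
  · have hnp : ¬ PreirreducibleSpace c.pt := fun hp => h { toPreirreducibleSpace := hp, toNonempty := hne }
    have : ∃ u v : Set c.pt, IsOpen u ∧ IsOpen v ∧ u.Nonempty ∧ v.Nonempty ∧ u ∩ v = ∅ := by
      by_contra hcon
      push Not at hcon
      exact hnp (PreirreducibleSpace.of_forall_nonempty_inter fun U V hU hV hUn hVn =>
        hcon U V hU hV hUn hVn)
    obtain ⟨u, v, hu, hv, hun, hvn, huv⟩ := this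
    obtain ⟨k, d, A, B, hAc, hBc, eA, eB⟩ := exists_two_opens D c hc i₀ ⟨u, hu⟩ ⟨v, hv⟩
      (NoetherianSpace.isCompact u) (NoetherianSpace.isCompact v)
    haveI : CompactSpace (D.obj k) := QuasiCompact.compactSpace_of_compactSpace (D.map d)
    haveI : QuasiSeparatedSpace (D.obj k) := quasiSeparatedSpace_of_quasiSeparated (D.map d)
    have hAcons : IsConstructible (A : Set (D.obj k)) := hAc.isConstructible A.2
    have hBcons : IsConstructible (B : Set (D.obj k)) := hBc.isConstructible B.2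
    have e1 : (c.π.app k) ⁻¹' ((A : Set (D.obj k)) ∩ B) = (c.π.app k) ⁻¹' ∅ := by
      rw [Set.preimage_inter, eA, eB, Set.preimage_empty]
      exact huv
    obtain ⟨l, ψ, hl⟩ := exists_preimage_eq_of_preimage_eq D c hc k (hAcons.inter hBcons)
      IsConstructible.empty e1
    refine ⟨l, ψ ≫ d, fun j σ hirr => ?_⟩
    have hAj : ((D.map (σ ≫ ψ)) ⁻¹' (A : Set (D.obj k))).Nonempty := by
      obtain ⟨x, hx⟩ := hun
      have : x ∈ (c.π.app j) ⁻¹' ((D.map (σ ≫ ψ)) ⁻¹' (A : Set (D.obj k))) := by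
        rw [preimage_π_preimage_map, eA]; exact hx
      exact ⟨_, this⟩
    have hBj : ((D.map (σ ≫ ψ)) ⁻¹' (B : Set (D.obj k))).Nonempty := by
      obtain ⟨x, hx⟩ := hvn
      have : x ∈ (c.π.app j) ⁻¹' ((D.map (σ ≫ ψ)) ⁻¹' (B : Set (D.obj k))) := by
        rw [preimage_π_preimage_map, eB]; exact hx
      exact ⟨_, this⟩
    have hne' := nonempty_preirreducible_inter (A.isOpen.preimage (D.map (σ ≫ ψ)).continuous)
      (B.isOpen.preimage (D.map (σ ≫ ψ)).continuous) hAj hBj
    rw [← Set.preimage_inter, preimage_map_comp, hl, Set.preimage_empty, Set.preimage_empty] at hne'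
    exact Set.not_nonempty_empty hne'
  · rw [not_nonempty_iff] at hne
    obtain ⟨j, φ, hj⟩ := exists_isEmpty_of_isEmpty D c hc i₀ hne
    refine ⟨j, φ, fun n σ hirr => ?_⟩
    haveI : IsEmpty (D.obj n) := Function.isEmpty (D.map σ)
    exact (not_isEmpty_of_nonempty (D.obj n)) inferInstance

include hc in
/-- With dominant transition maps, the projections are dominant. -/
theorem denseRange_π (hd : ∀ (i j : I) (φ : i ⟶ j), IsDominant (D.map φ)) (i : I) :
    DenseRange (c.π.app i) := by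
  haveI hA' : ∀ {i j : I} (f : i ⟶ j), IsAffineHom (D.map f) := fun f => inferInstance
  rw [DenseRange, dense_iff_inter_open]
  rintro U hU ⟨x, hxU⟩
  obtain ⟨_, ⟨V, hV : IsAffineOpen V, rfl⟩, hxV, hVU⟩ :=
    (D.obj i).isBasis_affineOpens.exists_subset_of_mem_open hxU hU
  haveI : ∀ j : Over i, CompactSpace ((opensDiagram D i V).obj j) := fun j =>
    haveI : IsAffine ((opensDiagram D i V).obj j) := hV.preimage (D.map _)
    inferInstance
  haveI : ∀ j : Over i, Nonempty ((opensDiagram D i V).obj j) := fun j => by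
    obtain ⟨y, hy⟩ := (hd _ _ j.hom).denseRange.exists_mem_open V.2 ⟨x, hxV⟩
    exact ⟨⟨y, hy⟩⟩
  obtain ⟨⟨y, hy⟩⟩ := Scheme.nonempty_of_isLimit (opensDiagram D i V) (opensCone D c i V)
    (isLimitOpensCone D c hc i V)
  exact ⟨c.π.app i y, hVU hy, y, rfl⟩

include hc in
/-- S4771. -/
theorem irreducibleSpace_iff (i₀ : I) [CompactSpace (D.obj i₀)]
    (hd : ∀ (i j : I) (φ : i ⟶ j), IsDominant (D.map φ)) :
    IrreducibleSpace c.pt ↔
      ∃ (i : I) (_ : i ⟶ i₀), ∀ (j : I) (_ : j ⟶ i), IrreducibleSpace (D.obj j) := by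
  haveI hA' : ∀ {i j : I} (f : i ⟶ j), IsAffineHom (D.map f) := fun f => inferInstance
  constructor
  · intro h
    refine ⟨i₀, 𝟙 _, fun j _ => ?_⟩
    rw [irreducibleSpace_def]
    have h1 := ((IrreducibleSpace.isIrreducible_univ c.pt).image (c.π.app j)
      (c.π.app j).continuous.continuousOn).closure
    rw [Set.image_univ, (denseRange_π D c hc hd j).closure_range] at h1
    exact h1
  · rintro ⟨i, d, hirr⟩
    haveI : CompactSpace (D.obj i) := QuasiCompact.compactSpace_of_compactSpace (D.map d)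
    have hne : Nonempty c.pt := by
      by_contra hne
      rw [not_nonempty_iff] at hne
      obtain ⟨j, φ, hj⟩ := exists_isEmpty_of_isEmpty D c hc i hne
      haveI := hirr j φ
      exact (not_isEmpty_of_nonempty (D.obj j)) hj
    haveI : PreirreducibleSpace c.pt := by
      refine PreirreducibleSpace.of_forall_nonempty_inter fun u v hu hv hun hvn => ?_
      obtain ⟨x, hxu⟩ := hun
      obtain ⟨y, hyv⟩ := hvn
      have hb : ∀ (U : Opens c.pt) (x : c.pt), x ∈ U →
          ∃ U' ∈ {x : Opens c.pt | ∃ (i : I) (V : (D.obj i).Opens) (_ : IsAffineOpen V),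
            c.π.app i ⁻¹ᵁ V = x}, x ∈ U' ∧ U' ≤ U :=
        fun U x hx => Opens.isBasis_iff_nbhd.mp (isBasis_preimage_isAffineOpen D c hc) hx
      obtain ⟨_, ⟨j₁, A₁, -, rfl⟩, hxA, hAu⟩ := hb ⟨u, hu⟩ x hxu
      obtain ⟨_, ⟨j₂, A₂, -, rfl⟩, hyA, hAv⟩ := hb ⟨v, hv⟩ y hyv
      let k₁ := IsCofiltered.min j₁ j₂
      let k := IsCofiltered.min k₁ i
      let a : k ⟶ j₁ := IsCofiltered.minToLeft k₁ i ≫ IsCofiltered.minToLeft j₁ j₂
      let b : k ⟶ j₂ := IsCofiltered.minToLeft k₁ i ≫ IsCofiltered.minToRight j₁ j₂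
      haveI := hirr k (IsCofiltered.minToRight k₁ i)
      have hx' : c.π.app k x ∈ (D.map a) ⁻¹' (A₁ : Set (D.obj j₁)) := by
        show (D.map a) (c.π.app k x) ∈ A₁
        rw [map_π_apply]; exact hxA
      have hy' : c.π.app k y ∈ (D.map b) ⁻¹' (A₂ : Set (D.obj j₂)) := by
        show (D.map b) (c.π.app k y) ∈ A₂
        rw [map_π_apply]; exact hyA
      have hne' := nonempty_preirreducible_inter (A₁.isOpen.preimage (D.map a).continuous)
        (A₂.isOpen.preimage (D.map b).continuous) ⟨_, hx'⟩ ⟨_, hy'⟩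
      obtain ⟨z, hz⟩ := (denseRange_π D c hc hd k).exists_mem_open
        ((A₁.isOpen.preimage (D.map a).continuous).inter (A₂.isOpen.preimage (D.map b).continuous)) hne'
      refine ⟨z, hAu ?_, hAv ?_⟩
      · show c.π.app j₁ z ∈ A₁
        rw [← map_π_apply D c a]; exact hz.1
      · show c.π.app j₂ z ∈ A₂
        rw [← map_π_apply D c b]; exact hz.2
    exact { toNonempty := hne }

include hc in
/-- S4772. -/
theorem connectedSpace_iff (i₀ : I) [CompactSpace (D.obj i₀)]
    (hd : ∀ (i j : I) (φ : i ⟶ j), IsDominant (D.map φ)) :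
    ConnectedSpace c.pt ↔
      ∃ (i : I) (_ : i ⟶ i₀), ∀ (j : I) (_ : j ⟶ i), ConnectedSpace (D.obj j) := by
  haveI hA' : ∀ {i j : I} (f : i ⟶ j), IsAffineHom (D.map f) := fun f => inferInstance
  constructor
  · intro h
    refine ⟨i₀, 𝟙 _, fun j _ => ?_⟩
    haveI := h
    haveI : PreconnectedSpace (D.obj j) :=
      DenseRange.preconnectedSpace (α := c.pt) (denseRange_π D c hc hd j)
        (c.π.app j).continuous
    exact { toNonempty := ⟨c.π.app j (Classical.arbitrary c.pt)⟩ }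
  · rintro ⟨i, d, hconn⟩
    haveI : CompactSpace (D.obj i) := QuasiCompact.compactSpace_of_compactSpace (D.map d)
    haveI := compactSpace_pt D c hc i₀
    have hne : Nonempty c.pt := by
      by_contra hne
      rw [not_nonempty_iff] at hne
      obtain ⟨j, φ, hj⟩ := exists_isEmpty_of_isEmpty D c hc i hne
      haveI := hconn j φ
      exact (not_isEmpty_of_nonempty (D.obj j)) hj
    haveI : PreconnectedSpace c.pt := by
      by_contra h
      rw [preconnectedSpace_iff_clopen] at h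
      push Not at h
      obtain ⟨s, hs, hs0, hs1⟩ := h
      obtain ⟨k, e, A, B, hAc, hBc, eA, eB⟩ := exists_two_opens D c hc i ⟨s, hs.2⟩
        ⟨sᶜ, hs.1.isOpen_compl⟩ hs.1.isCompact hs.2.isClosed_compl.isCompact
      haveI : CompactSpace (D.obj k) := QuasiCompact.compactSpace_of_compactSpace (D.map e)
      replace eA : (c.π.app k) ⁻¹' (A : Set (D.obj k)) = s := eA
      replace eB : (c.π.app k) ⁻¹' (B : Set (D.obj k)) = sᶜ := eB
      have hAB : (A : Set (D.obj k)) ∩ B = ∅ := by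
        by_contra hne'
        obtain ⟨z, hz⟩ := (denseRange_π D c hc hd k).exists_mem_open (A.isOpen.inter B.isOpen)
          (Set.nonempty_iff_ne_empty.mpr hne')
        have h1 : z ∈ s := by rw [← eA]; exact hz.1
        have h2 : z ∈ sᶜ := by
          have : z ∈ (c.π.app k) ⁻¹' (B : Set (D.obj k)) := hz.2
          rw [eB] at this; exact this
        exact h2 h1
      have H : c.π.app k ⁻¹ᵁ (⊤ : (D.obj k).Opens) ≤ c.π.app k ⁻¹ᵁ (A ⊔ B) := by
        intro z _
        show c.π.app k z ∈ (A : Set (D.obj k)) ∪ B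
        by_cases hz : z ∈ s
        · left
          have : z ∈ (c.π.app k) ⁻¹' (A : Set (D.obj k)) := by rw [eA]; exact hz
          exact this
        · right
          have : z ∈ (c.π.app k) ⁻¹' (B : Set (D.obj k)) := by rw [eB]; exact hz
          exact this
      obtain ⟨l, ψ, hl⟩ := exists_map_preimage_le_map_preimage D c hc
        (U := (⊤ : (D.obj k).Opens)) (V := A ⊔ B) (by simpa using isCompact_univ) H
      haveI := hconn l (ψ ≫ e)
      refine not_preconnected_of_split D c ψ A B s hs0 hs1 eA ?_ ?_ inferInstance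
      · rw [hAB, Set.preimage_empty]
      · rw [Set.eq_univ_iff_forall]
        intro z
        exact hl (Set.mem_univ z)
    exact { toNonempty := hne }

end Groth.Agent.Lib.LimConn
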