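import Mathlib
import Groth.Agent.Lib.LimConn_helper9
import Groth.Agent.Lib.NoethLocConn_helper7

/-!
# Irreducible / connected components through cofiltered limits of schemes (helper9)
-/

set_option autoImplicit false
set_option backward.isDefEq.respectTransparency false
universe u
open CategoryTheory CategoryTheory.Limits AlgebraicGeometry Topology TopologicalSpace

namespace Groth.Agent.Lib.LimComp
open Groth.Agent.Lib.LimConstr Groth.Agent.Lib.LimConn

theorem bijOn_closure_image_irreducibleComponents {S T : Type*} [TopologicalSpace S]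
    [TopologicalSpace T] (f : S → T) (hf : Continuous f) (hd : DenseRange f)
    (hfin : (irreducibleComponents S).Finite)
    (hne : ∀ Y ∈ irreducibleComponents S, ∀ Y' ∈ irreducibleComponents S, Y ≠ Y' →
      ¬ closure (f '' Y) ⊆ closure (f '' Y')) :
    Set.BijOn (fun Y : Set S => closure (f '' Y)) (irreducibleComponents S)
      (irreducibleComponents T) := by
  have hirr : ∀ Y ∈ irreducibleComponents S, IsIrreducible (closure (f '' Y)) :=
    fun Y hY => (hY.1.image f hf.continuousOn).closure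
  have huniv : (⋃ Y ∈ irreducibleComponents S, closure (f '' Y)) = Set.univ := by
    rw [← hfin.closure_biUnion, ← Set.image_iUnion₂, ← Set.sUnion_eq_biUnion,
      sUnion_irreducibleComponents, Set.image_univ]
    exact hd.closure_range
  have hcover : ∀ Z : Set T, IsIrreducible Z →
      ∃ Y ∈ irreducibleComponents S, Z ⊆ closure (f '' Y) := by
    intro Z hZ
    classical
    obtain ⟨z, hz, hZz⟩ := isIrreducible_iff_sUnion_isClosed.mp hZ
      (hfin.toFinset.image (fun Y => closure (f '' Y)))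
      (by
        intro z hz
        obtain ⟨Y, -, rfl⟩ := Finset.mem_image.mp hz
        exact isClosed_closure)
      (by
        intro x _
        have hx : x ∈ ⋃ Y ∈ irreducibleComponents S, closure (f '' Y) := by
          rw [huniv]; trivial
        obtain ⟨Y, hY, hxY⟩ := Set.mem_iUnion₂.mp hx
        exact Set.mem_sUnion.mpr ⟨closure (f '' Y), Finset.mem_coe.mpr
          (Finset.mem_image.mpr ⟨Y, hfin.mem_toFinset.mpr hY, rfl⟩), hxY⟩)
    obtain ⟨Y, hY, rfl⟩ := Finset.mem_image.mp hz
    exact ⟨Y, hfin.mem_toFinset.mp hY, hZz⟩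
  refine ⟨?_, ?_, ?_⟩
  · intro Y hY
    refine ⟨hirr Y hY, fun Z hZ hYZ => ?_⟩
    obtain ⟨Y', hY', hZY'⟩ := hcover Z hZ
    have hYY' : Y = Y' := by
      by_contra hne'
      exact hne Y hY Y' hY' hne' (hYZ.trans hZY')
    subst hYY'
    exact hZY'
  · intro Y hY Y' hY' heq
    by_contra hne'
    exact hne Y hY Y' hY' hne' (le_of_eq heq)
  · intro Z hZ
    obtain ⟨Y, hY, hZY⟩ := hcover Z hZ.1
    exact ⟨Y, hY, Set.Subset.antisymm (hZ.2 (hirr Y hY) hZY) hZY⟩

theorem bijOn_closure_image_connectedComponents {S T : Type*} [TopologicalSpace S]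
    [TopologicalSpace T] (f : S → T) (hf : Continuous f) (hd : DenseRange f)
    (A : Set S → Set T)
    (hAo : ∀ C ∈ Set.range (connectedComponent : S → Set S), IsOpen (A C))
    (hAp : ∀ C ∈ Set.range (connectedComponent : S → Set S), f ⁻¹' (A C) = C)
    (hcov : ∀ y : T, ∃ C ∈ Set.range (connectedComponent : S → Set S), y ∈ A C) :
    Set.BijOn (fun C : Set S => closure (f '' C)) (Set.range (connectedComponent : S → Set S))
      (Set.range (connectedComponent : T → Set T)) := by
  have hdisj : ∀ C ∈ Set.range (connectedComponent : S → Set S),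
      ∀ C' ∈ Set.range (connectedComponent : S → Set S), (A C ∩ A C').Nonempty → C = C' := by
    intro C hC C' hC' hne
    obtain ⟨x, hx⟩ := hd.exists_mem_open ((hAo C hC).inter (hAo C' hC')) hne
    have h1 : x ∈ C := by rw [← hAp C hC]; exact hx.1
    have h2 : x ∈ C' := by rw [← hAp C' hC']; exact hx.2
    obtain ⟨a, rfl⟩ := hC
    obtain ⟨b, rfl⟩ := hC'
    rw [connectedComponent_eq h1, connectedComponent_eq h2]
  have hAc : ∀ C ∈ Set.range (connectedComponent : S → Set S), IsClosed (A C) := by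
    intro C hC
    rw [← isOpen_compl_iff]
    have e : (A C)ᶜ = ⋃ C' ∈ {C' | C' ∈ Set.range (connectedComponent : S → Set S) ∧ C' ≠ C},
        A C' := by
      ext y
      constructor
      · intro hy
        obtain ⟨C', hC', hyC'⟩ := hcov y
        exact Set.mem_iUnion₂.mpr ⟨C', ⟨hC', fun h => hy (h ▸ hyC')⟩, hyC'⟩
      · intro hy
        obtain ⟨C', ⟨hC', hne⟩, hyC'⟩ := Set.mem_iUnion₂.mp hy
        intro hyC
        exact hne (hdisj C' hC' C hC ⟨y, hyC', hyC⟩)
    rw [e]
    exact isOpen_biUnion fun C' hC' => hAo C' hC'.1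
  have hcl : ∀ C ∈ Set.range (connectedComponent : S → Set S), closure (f '' C) = A C := by
    intro C hC
    apply Set.Subset.antisymm
    · refine (hAc C hC).closure_subset_iff.mpr ?_
      rintro _ ⟨x, hx, rfl⟩
      have : x ∈ f ⁻¹' (A C) := by rw [hAp C hC]; exact hx
      exact this
    · intro y hy
      rw [mem_closure_iff]
      intro W hW hyW
      obtain ⟨x, hxW, hxA⟩ := hd.exists_mem_open (hW.inter (hAo C hC)) ⟨y, hyW, hy⟩
      refine ⟨f x, hxW, x, ?_, rfl⟩
      rw [← hAp C hC]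
      exact hxA
  have hconn : ∀ C ∈ Set.range (connectedComponent : S → Set S), ∀ y ∈ A C,
      connectedComponent y = A C := by
    intro C hC y hy
    have hCconn : IsConnected C := by
      obtain ⟨a, rfl⟩ := hC
      exact isConnected_connectedComponent
    have hAconn : IsConnected (A C) := by
      rw [← hcl C hC]
      exact (hCconn.image f hf.continuousOn).closure
    exact Set.Subset.antisymm (IsClopen.connectedComponent_subset ⟨hAc C hC, hAo C hC⟩ hy)
      (hAconn.isPreconnected.subset_connectedComponent hy)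
  refine ⟨?_, ?_, ?_⟩
  · intro C hC
    obtain ⟨x, hx⟩ : C.Nonempty := by
      obtain ⟨a, rfl⟩ := hC
      exact ⟨a, mem_connectedComponent⟩
    have hfx : f x ∈ A C := by
      have : x ∈ f ⁻¹' (A C) := by rw [hAp C hC]; exact hx
      exact this
    refine ⟨f x, ?_⟩
    show connectedComponent (f x) = closure (f '' C)
    rw [hconn C hC (f x) hfx, hcl C hC]
  · intro C hC C' hC' heq
    have heq' : closure (f '' C) = closure (f '' C') := heq
    rw [hcl C hC, hcl C' hC'] at heq'
    rw [← hAp C hC, ← hAp C' hC', heq']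
  · rintro Z ⟨y, rfl⟩
    obtain ⟨C, hC, hyC⟩ := hcov y
    refine ⟨C, hC, ?_⟩
    show closure (f '' C) = connectedComponent y
    rw [hcl C hC, hconn C hC y hyC]

variable {I : Type u} [SmallCategory I] [IsCofiltered I] (D : I ⥤ Scheme.{u}) (c : Cone D)
  (hc : IsLimit c) [hA : ∀ (i j : I) (f : i ⟶ j), IsAffineHom (D.map f)]

include hc in
/-- S4769. -/
theorem exists_bijOn_irreducibleComponents (i₀ : I) [NoetherianSpace c.pt]
    (hd : ∀ (i j : I) (φ : i ⟶ j), IsDominant (D.map φ)) :
    ∃ (i : I) (_ : i ⟶ i₀), ∀ (j : I) (_ : j ⟶ i),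
      Set.BijOn (fun Y : Set c.pt => closure ((c.π.app j) '' Y))
        (irreducibleComponents c.pt) (irreducibleComponents (D.obj j)) := by
  classical
  haveI hA' : ∀ {i j : I} (f : i ⟶ j), IsAffineHom (D.map f) := fun f => inferInstance
  have hfin : (irreducibleComponents c.pt).Finite := NoetherianSpace.finite_irreducibleComponents
  have hb : ∀ (U : Opens c.pt) (x : c.pt), x ∈ U →
      ∃ U' ∈ {x : Opens c.pt | ∃ (i : I) (V : (D.obj i).Opens) (_ : IsAffineOpen V),
        c.π.app i ⁻¹ᵁ V = x}, x ∈ U' ∧ U' ≤ U :=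
    fun U x hx => Opens.isBasis_iff_nbhd.mp (isBasis_preimage_isAffineOpen D c hc) hx
  have hpair : ∀ p : Set c.pt × Set c.pt, ∃ k : I,
      (p.1 ∈ irreducibleComponents c.pt → p.2 ∈ irreducibleComponents c.pt → p.1 ≠ p.2 →
        ∀ (j : I) (_ : j ⟶ k),
          ¬ closure ((c.π.app j) '' p.1) ⊆ closure ((c.π.app j) '' p.2)) := by
    rintro ⟨Y, Y'⟩
    by_cases hcond : Y ∈ irreducibleComponents c.pt ∧ Y' ∈ irreducibleComponents c.pt ∧ Y ≠ Y'
    · obtain ⟨hY, hY', hne⟩ := hcond
      have hns : ¬ Y ⊆ Y' := fun hsub => hne (Set.Subset.antisymm hsub (hY.2 hY'.1 hsub))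
      obtain ⟨η, hηY, hηY'⟩ := Set.not_subset.mp hns
      have hopen : IsOpen (Y'ᶜ) := (isClosed_of_mem_irreducibleComponents Y' hY').isOpen_compl
      obtain ⟨_, ⟨k, V, -, rfl⟩, hηV, hVY'⟩ := hb ⟨Y'ᶜ, hopen⟩ η hηY'
      refine ⟨k, fun _ _ _ j ψ hsub => ?_⟩
      have h1 : c.π.app j η ∈ closure ((c.π.app j) '' Y') :=
        hsub (subset_closure ⟨η, hηY, rfl⟩)
      rw [mem_closure_iff] at h1
      obtain ⟨_, hzW, ⟨z, hzY', rfl⟩⟩ := h1 ((D.map ψ) ⁻¹' (V : Set (D.obj k)))
        (V.isOpen.preimage (D.map ψ).continuous) (by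
          show (D.map ψ) (c.π.app j η) ∈ V
          rw [map_π_apply]
          exact hηV)
      have hz : z ∈ (c.π.app k ⁻¹ᵁ V : Opens c.pt) := by
        show c.π.app k z ∈ V
        rw [← map_π_apply D c ψ]
        exact hzW
      exact hVY' hz hzY'
    · exact ⟨i₀, fun h1 h2 h3 => (hcond ⟨h1, h2, h3⟩).elim⟩
  choose k hk using hpair
  have hPfin : ((irreducibleComponents c.pt) ×ˢ (irreducibleComponents c.pt)).Finite :=
    hfin.prod hfin
  obtain ⟨i, hi⟩ := IsCofiltered.inf_objs_exists (insert i₀ (hPfin.toFinset.image k))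
  refine ⟨i, (hi (Finset.mem_insert_self _ _)).some, fun j ρ => ?_⟩
  refine bijOn_closure_image_irreducibleComponents (c.π.app j) (c.π.app j).continuous
    (denseRange_π D c hc hd j) hfin ?_
  intro Y hY Y' hY' hne
  have hmem : k (Y, Y') ∈ insert i₀ (hPfin.toFinset.image k) :=
    Finset.mem_insert_of_mem (Finset.mem_image_of_mem k (hPfin.mem_toFinset.mpr ⟨hY, hY'⟩))
  exact hk (Y, Y') hY hY' hne j (ρ ≫ (hi hmem).some)

include hc in
/-- S4770. -/
theorem exists_bijOn_connectedComponents (i₀ : I) [CompactSpace (D.obj i₀)]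
    [NoetherianSpace c.pt] (hd : ∀ (i j : I) (φ : i ⟶ j), IsDominant (D.map φ)) :
    ∃ (i : I) (_ : i ⟶ i₀), ∀ (j : I) (_ : j ⟶ i),
      Set.BijOn (fun C : Set c.pt => closure ((c.π.app j) '' C))
        (Set.range (connectedComponent : c.pt → Set c.pt))
        (Set.range (connectedComponent : D.obj j → Set (D.obj j))) := by
  classical
  haveI hA' : ∀ {i j : I} (f : i ⟶ j), IsAffineHom (D.map f) := fun f => inferInstance
  haveI : LocallyConnectedSpace c.pt :=
    NoethLocConnH7.locallyConnectedSpace c.pt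
      (fun x => ⟨Set.univ, Filter.univ_mem, noetherian_univ_iff.mpr inferInstance⟩)
  have hfin : (Set.range (connectedComponent : c.pt → Set c.pt)).Finite := by
    obtain ⟨t, ht⟩ := isCompact_univ.elim_finite_subcover
      (fun x : c.pt => connectedComponent x) (fun x => isOpen_connectedComponent)
      (fun x _ => Set.mem_iUnion.mpr ⟨x, mem_connectedComponent⟩)
    refine (t.finite_toSet.image connectedComponent).subset ?_
    rintro _ ⟨a, rfl⟩
    obtain ⟨x, hx, hax⟩ := Set.mem_iUnion₂.mp (ht (Set.mem_univ a))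
    exact ⟨x, hx, connectedComponent_eq hax⟩
  have hstage : ∀ C : Set c.pt, ∃ (k : I) (A : (D.obj k).Opens),
      C ∈ Set.range (connectedComponent : c.pt → Set c.pt) →
        (c.π.app k) ⁻¹' (A : Set (D.obj k)) = C := by
    intro C
    by_cases hC : C ∈ Set.range (connectedComponent : c.pt → Set c.pt)
    · have hCo : IsOpen C := by
        obtain ⟨a, rfl⟩ := hC
        exact isOpen_connectedComponent
      obtain ⟨k, A, -, e⟩ := exists_preimage_eq D c hc ⟨C, hCo⟩ (NoetherianSpace.isCompact C)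
      exact ⟨k, A, fun _ => congrArg (fun W : c.pt.Opens => (W : Set c.pt)) e⟩
    · exact ⟨i₀, ⊥, fun h => (hC h).elim⟩
  choose k A hkA using hstage
  obtain ⟨i₁, hi₁⟩ := IsCofiltered.inf_objs_exists (insert i₀ (hfin.toFinset.image k))
  have d₁ : i₁ ⟶ i₀ := (hi₁ (Finset.mem_insert_self _ _)).some
  have hm : ∀ C : Set c.pt, C ∈ Set.range (connectedComponent : c.pt → Set c.pt) →
      Nonempty (i₁ ⟶ k C) := fun C hC =>
    hi₁ (Finset.mem_insert_of_mem (Finset.mem_image_of_mem k (hfin.mem_toFinset.mpr hC)))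
  let B : Set c.pt → Set (D.obj i₁) := fun C =>
    if hC : C ∈ Set.range (connectedComponent : c.pt → Set c.pt) then
      (D.map (hm C hC).some) ⁻¹' (A C : Set (D.obj (k C))) else ∅
  have hBo : ∀ C, IsOpen (B C) := by
    intro C
    by_cases hC : C ∈ Set.range (connectedComponent : c.pt → Set c.pt)
    · simp only [B, dif_pos hC]
      exact (A C).isOpen.preimage (D.map _).continuous
    · simp only [B, dif_neg hC]
      exact isOpen_empty
  have hBp : ∀ C ∈ Set.range (connectedComponent : c.pt → Set c.pt),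
      (c.π.app i₁) ⁻¹' (B C) = C := by
    intro C hC
    simp only [B, dif_pos hC]
    rw [preimage_π_preimage_map]
    exact hkA C hC
  haveI : CompactSpace (D.obj i₁) := QuasiCompact.compactSpace_of_compactSpace (D.map d₁)
  let U : (D.obj i₁).Opens :=
    ⟨⋃ C ∈ Set.range (connectedComponent : c.pt → Set c.pt), B C,
      isOpen_biUnion fun C _ => hBo C⟩
  have H : c.π.app i₁ ⁻¹ᵁ (⊤ : (D.obj i₁).Opens) ≤ c.π.app i₁ ⁻¹ᵁ U := by
    intro z _
    show c.π.app i₁ z ∈ ⋃ C ∈ Set.range (connectedComponent : c.pt → Set c.pt), B C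
    refine Set.mem_iUnion₂.mpr ⟨connectedComponent z, ⟨z, rfl⟩, ?_⟩
    have : z ∈ (c.π.app i₁) ⁻¹' (B (connectedComponent z)) := by
      rw [hBp _ ⟨z, rfl⟩]
      exact mem_connectedComponent
    exact this
  obtain ⟨l, ψ, hl⟩ := exists_map_preimage_le_map_preimage D c hc
    (U := (⊤ : (D.obj i₁).Opens)) (V := U) (by simpa using isCompact_univ) H
  refine ⟨l, ψ ≫ d₁, fun j ρ => ?_⟩
  refine bijOn_closure_image_connectedComponents (c.π.app j) (c.π.app j).continuous
    (denseRange_π D c hc hd j) (fun C => (D.map (ρ ≫ ψ)) ⁻¹' (B C)) ?_ ?_ ?_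
  · intro C _
    exact (hBo C).preimage (D.map (ρ ≫ ψ)).continuous
  · intro C hC
    rw [preimage_π_preimage_map]
    exact hBp C hC
  · intro y
    have hy : (D.map ρ) y ∈ D.map ψ ⁻¹ᵁ U := hl (Set.mem_univ _)
    have hy' : (D.map ψ) ((D.map ρ) y) ∈
        ⋃ C ∈ Set.range (connectedComponent : c.pt → Set c.pt), B C := hy
    obtain ⟨C, hC, hyC⟩ := Set.mem_iUnion₂.mp hy'
    refine ⟨C, hC, ?_⟩
    show (D.map (ρ ≫ ψ)) y ∈ B C
    rw [D.map_comp, Scheme.Hom.comp_apply]
    exact hyC

end Groth.Agent.Lib.LimComp
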