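import Mathlib
import Groth.Agent.Lib.LimComp_helper9

/-!
# Components through cofiltered limits with embedding transition maps (helper9)
-/

set_option autoImplicit false
set_option backward.isDefEq.respectTransparency false
universe u
open CategoryTheory CategoryTheory.Limits AlgebraicGeometry Topology TopologicalSpace

namespace Groth.Agent.Lib.LimComp2
open Groth.Agent.Lib.LimConstr Groth.Agent.Lib.LimConn Groth.Agent.Lib.LimComp

variable {I : Type u} [SmallCategory I] [IsCofiltered I] (D : I ⥤ Scheme.{u}) (c : Cone D)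
  (hc : IsLimit c) [hA : ∀ (i j : I) (f : i ⟶ j), IsAffineHom (D.map f)]

include hc in
theorem exists_denseRange_of_isEmbedding (i₀ : I) [NoetherianSpace (D.obj i₀)]
    (he : ∀ (i j : I) (φ : i ⟶ j), IsEmbedding (D.map φ)) :
    ∃ (μ₀ : I) (_ : μ₀ ⟶ i₀), ∀ (μ : I) (_ : μ ⟶ μ₀), DenseRange (c.π.app μ) := by
  classical
  let G : Over i₀ → Closeds (D.obj i₀) := fun μ =>
    ⟨closure (Set.range (D.map μ.hom)), isClosed_closure⟩
  obtain ⟨_, ⟨μ₀, rfl⟩, hmin⟩ := wellFounded_lt.has_min (Set.range G)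
    ⟨_, ⟨Over.mk (𝟙 i₀), rfl⟩⟩
  have hG : ∀ (μ : I) (ψ : μ ⟶ μ₀.left), G (Over.mk (ψ ≫ μ₀.hom)) = G μ₀ := by
    intro μ ψ
    have hle : G (Over.mk (ψ ≫ μ₀.hom)) ≤ G μ₀ := by
      show closure _ ⊆ closure _
      apply closure_mono
      rintro _ ⟨z, rfl⟩
      refine ⟨D.map ψ z, ?_⟩
      show (D.map μ₀.hom) (D.map ψ z) = (D.map (ψ ≫ μ₀.hom)) z
      rw [D.map_comp, Scheme.Hom.comp_apply]
    exact (eq_or_lt_of_le hle).resolve_right (hmin _ ⟨_, rfl⟩)
  refine ⟨μ₀.left, μ₀.hom, fun μ ψ => ?_⟩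
  haveI : NoetherianSpace (D.obj μ) := (he _ _ (ψ ≫ μ₀.hom)).isInducing.noetherianSpace
  by_contra hnd
  obtain ⟨W, hWo, hWne, hWdisj⟩ : ∃ W : Set (D.obj μ), IsOpen W ∧ W.Nonempty ∧
      (c.π.app μ) ⁻¹' W = ∅ := by
    refine ⟨(closure (Set.range (c.π.app μ)))ᶜ, isClosed_closure.isOpen_compl, ?_, ?_⟩
    · rw [Set.nonempty_compl]
      intro h
      exact hnd (dense_iff_closure_eq.mpr h)
    · ext z
      simp only [Set.mem_preimage, Set.mem_compl_iff, Set.mem_empty_iff_false, iff_false, not_not]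
      exact subset_closure ⟨z, rfl⟩
  have hWc : IsConstructible W :=
    IsRetrocompact.isConstructible hWo (fun U _ _ => NoetherianSpace.isCompact _)
  obtain ⟨ν, φ, hφ⟩ := LimSurjH7.exists_preimage_eq_empty D c hc μ hWc hWdisj
  obtain ⟨W', hW'o, rfl⟩ := (he _ _ (ψ ≫ μ₀.hom)).isInducing.isOpen_iff.mp hWo
  obtain ⟨w, hw⟩ := hWne
  have h1 : D.map (ψ ≫ μ₀.hom) w ∈ (G (Over.mk (ψ ≫ μ₀.hom)) : Set _) :=
    subset_closure ⟨w, rfl⟩
  have h2 := hG μ ψ
  have h3 := hG ν (φ ≫ ψ)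
  rw [h2, ← h3] at h1
  have h4 : closure (Set.range (D.map ((φ ≫ ψ) ≫ μ₀.hom))) ⊆ W'ᶜ := by
    apply hW'o.isClosed_compl.closure_subset_iff.mpr
    rintro _ ⟨z, rfl⟩ hz
    have hz' : z ∈ (D.map (φ ≫ (ψ ≫ μ₀.hom))) ⁻¹' W' := by
      show D.map (φ ≫ (ψ ≫ μ₀.hom)) z ∈ W'
      rw [← Category.assoc]
      exact hz
    rw [preimage_map_comp, hφ] at hz'
    exact hz'
  exact h4 h1 hw

attribute [local instance] CategoryTheory.isConnected_of_hasTerminal

include hc in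
/-- S4841. -/
theorem exists_bijOn_irreducibleComponents_of_isEmbedding (i₀ : I)
    [NoetherianSpace (D.obj i₀)] [NoetherianSpace c.pt]
    (he : ∀ (i j : I) (φ : i ⟶ j), IsEmbedding (D.map φ)) :
    ∃ (i : I) (_ : i ⟶ i₀), ∀ (j : I) (_ : j ⟶ i),
      Set.BijOn (fun Y : Set c.pt => closure ((c.π.app j) '' Y))
        (irreducibleComponents c.pt) (irreducibleComponents (D.obj j)) := by
  obtain ⟨μ₀, d₀, hdense⟩ := exists_denseRange_of_isEmbedding D c hc i₀ he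
  let E : Over μ₀ ⥤ Scheme.{u} := Over.forget μ₀ ⋙ D
  let cE : Cone E := c.whisker (Over.forget μ₀)
  have hcE : IsLimit cE := (Functor.Initial.isLimitWhiskerEquiv (Over.forget μ₀) c).symm hc
  haveI : ∀ (i j : Over μ₀) (f : i ⟶ j), IsAffineHom (E.map f) := fun i j f => hA _ _ f.left
  have hd : ∀ (i j : Over μ₀) (φ : i ⟶ j), IsDominant (E.map φ) := by
    intro i j φ
    refine ⟨?_⟩
    refine (hdense j.left j.hom).mono ?_
    rintro _ ⟨z, rfl⟩
    exact ⟨c.π.app i.left z, map_π_apply D c φ.left z⟩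
  haveI : NoetherianSpace cE.pt := ‹NoetherianSpace c.pt›
  obtain ⟨i, _, hi⟩ := exists_bijOn_irreducibleComponents E cE hcE (Over.mk (𝟙 μ₀)) hd
  refine ⟨i.left, i.hom ≫ d₀, fun j ρ => ?_⟩
  exact hi (Over.mk (ρ ≫ i.hom)) (Over.homMk ρ)

include hc in
/-- S4842. -/
theorem exists_bijOn_connectedComponents_of_isEmbedding (i₀ : I)
    [NoetherianSpace (D.obj i₀)] [NoetherianSpace c.pt]
    (he : ∀ (i j : I) (φ : i ⟶ j), IsEmbedding (D.map φ)) :
    ∃ (i : I) (_ : i ⟶ i₀), ∀ (j : I) (_ : j ⟶ i),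
      Set.BijOn (fun C : Set c.pt => closure ((c.π.app j) '' C))
        (Set.range (connectedComponent : c.pt → Set c.pt))
        (Set.range (connectedComponent : D.obj j → Set (D.obj j))) := by
  obtain ⟨μ₀, d₀, hdense⟩ := exists_denseRange_of_isEmbedding D c hc i₀ he
  let E : Over μ₀ ⥤ Scheme.{u} := Over.forget μ₀ ⋙ D
  let cE : Cone E := c.whisker (Over.forget μ₀)
  have hcE : IsLimit cE := (Functor.Initial.isLimitWhiskerEquiv (Over.forget μ₀) c).symm hc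
  haveI : ∀ (i j : Over μ₀) (f : i ⟶ j), IsAffineHom (E.map f) := fun i j f => hA _ _ f.left
  have hd : ∀ (i j : Over μ₀) (φ : i ⟶ j), IsDominant (E.map φ) := by
    intro i j φ
    refine ⟨?_⟩
    refine (hdense j.left j.hom).mono ?_
    rintro _ ⟨z, rfl⟩
    exact ⟨c.π.app i.left z, map_π_apply D c φ.left z⟩
  haveI : NoetherianSpace cE.pt := ‹NoetherianSpace c.pt›
  haveI : NoetherianSpace (D.obj μ₀) := (he _ _ d₀).isInducing.noetherianSpace
  haveI : CompactSpace (E.obj (Over.mk (𝟙 μ₀))) :=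
    inferInstanceAs (CompactSpace (D.obj μ₀))
  obtain ⟨i, _, hi⟩ := exists_bijOn_connectedComponents E cE hcE (Over.mk (𝟙 μ₀)) hd
  refine ⟨i.left, i.hom ≫ d₀, fun j ρ => ?_⟩
  exact hi (Over.mk (ρ ≫ i.hom)) (Over.homMk ρ)

end Groth.Agent.Lib.LimComp2
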