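import Mathlib
import Groth.Prelude

/-!
# Descent of finitely presented modules over a filtered colimit of rings (helper2)

`exists_fp_descent`: if every element of `Rinf` comes from a stage of a cofiltered system of rings
`R j` (with compatible maps `σ j : R j → Rinf`), then every finitely presented `Rinf`-module is
the base change of a finitely presented module over some stage.
APPEND-ONLY once landed.
-/

set_option autoImplicit false
set_option maxHeartbeats 1000000
set_option linter.style.haveILetI false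
set_option linter.unusedSectionVars false
set_option linter.unusedVariables false
universe u

open CategoryTheory

namespace Groth.Agent.Lib.LimDescRing

variable {J : Type*} [Category J] [IsCofiltered J] (R : J → Type u) [∀ j, CommRing (R j)]
  (Rinf : Type u) [CommRing Rinf] (σ : ∀ j, R j →+* Rinf)
  (τ : ∀ {k j : J}, (k ⟶ j) → (R j →+* R k))

/-- Finitely many elements of the colimit lift to a common stage. -/
theorem exists_common_lift (hστ : ∀ {k j : J} (f : k ⟶ j) (t : R j), σ k (τ f t) = σ j t)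
    (hsurj : ∀ r : Rinf, ∃ (j : J) (t : R j), σ j t = r) (T : Finset Rinf) :
    ∃ (j : J) (ℓ : Rinf → R j), ∀ r ∈ T, σ j (ℓ r) = r := by
  classical
  choose jr tr htr using hsurj
  obtain ⟨j, hj⟩ := IsCofiltered.inf_objs_exists (T.image jr)
  have hg : ∀ r ∈ T, Nonempty (j ⟶ jr r) :=
    fun r hr => hj (Finset.mem_image.mpr ⟨r, hr, rfl⟩)
  refine ⟨j, fun r => if hr : r ∈ T then τ (hg r hr).some (tr r) else 0, fun r hr => ?_⟩
  dsimp only
  rw [dif_pos hr, hστ, htr]

/-- **Descent of finitely presented modules to a stage.** -/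
theorem exists_fp_descent (hστ : ∀ {k j : J} (f : k ⟶ j) (t : R j), σ k (τ f t) = σ j t)
    (hsurj : ∀ r : Rinf, ∃ (j : J) (t : R j), σ j t = r)
    (M : Type u) [AddCommGroup M] [Module Rinf M] [Module.FinitePresentation Rinf M] :
    ∃ (j : J) (N : Type u) (_ : AddCommGroup N) (_ : Module (R j) N),
      Module.FinitePresentation (R j) N ∧
      letI := (σ j).toAlgebra
      letI : Module (R j) M := Module.compHom M (σ j)
      haveI : IsScalarTower (R j) Rinf M := IsScalarTower.of_algebraMap_smul fun _ _ => rfl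
      ∃ f : N →ₗ[R j] M, IsBaseChange Rinf f := by
  classical
  obtain ⟨n, K, e, S, hS⟩ := Module.FinitePresentation.exists_fin Rinf M
  obtain ⟨j, ℓ, hℓ⟩ := exists_common_lift R Rinf σ τ hστ hsurj
    (S.biUnion (fun v => Finset.univ.image v))
  have hℓ' : ∀ v ∈ S, ∀ i, σ j (ℓ (v i)) = v i := fun v hv i =>
    hℓ _ (Finset.mem_biUnion.mpr ⟨v, hv, Finset.mem_image.mpr ⟨i, Finset.mem_univ _, rfl⟩⟩)
  letI := (σ j).toAlgebra
  letI : Module (R j) M := Module.compHom M (σ j)
  haveI : IsScalarTower (R j) Rinf M := IsScalarTower.of_algebraMap_smul fun _ _ => rfl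
  obtain ⟨W, hW⟩ : ∃ W : Finset (Fin n → R j), W = S.image (fun v i => ℓ (v i)) := ⟨_, rfl⟩
  obtain ⟨Kj, hKj⟩ : ∃ Kj : Submodule (R j) (Fin n → R j),
      Kj = Submodule.span (R j) (W : Set (Fin n → R j)) := ⟨_, rfl⟩
  refine ⟨j, (Fin n → R j) ⧸ Kj, inferInstance, inferInstance, ?_, ?_⟩
  · refine Module.finitePresentation_of_surjective Kj.mkQ (Submodule.mkQ_surjective _) ?_
    rw [Submodule.ker_mkQ, hKj]
    exact ⟨W, rfl⟩
  · -- the comparison map
    obtain ⟨P, hP⟩ : ∃ P : (Fin n → R j) →ₗ[R j] (Fin n → Rinf), ∀ x i, P x i = σ j (x i) :=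
      ⟨(Algebra.linearMap (R j) Rinf).compLeft (Fin n), fun x i => rfl⟩
    obtain ⟨q, hq⟩ : ∃ q : (Fin n → Rinf) →ₗ[Rinf] M, ∀ x, q x = e.symm (K.mkQ x) :=
      ⟨e.symm.toLinearMap ∘ₗ K.mkQ, fun x => rfl⟩
    obtain ⟨g₀, hg₀⟩ : ∃ g₀ : (Fin n → R j) →ₗ[R j] M, ∀ x, g₀ x = q (P x) :=
      ⟨(q.restrictScalars (R j)) ∘ₗ P, fun x => rfl⟩
    have hPw : ∀ v ∈ S, P (fun i => ℓ (v i)) = v := by
      intro v hv
      funext i
      rw [hP, hℓ' v hv i]
    have hvK : ∀ v ∈ S, v ∈ K := by
      intro v hv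
      rw [← hS]
      exact Submodule.subset_span hv
    have hKj_le : Kj ≤ LinearMap.ker g₀ := by
      rw [hKj]
      refine Submodule.span_le.mpr (fun w hw => ?_)
      rw [hW] at hw
      obtain ⟨v, hv, rfl⟩ := Finset.mem_image.mp hw
      show g₀ (fun i => ℓ (v i)) = 0
      rw [hg₀, hPw v hv, hq]
      have : K.mkQ v = 0 := (Submodule.Quotient.mk_eq_zero K).mpr (hvK v hv)
      rw [this, map_zero]
    refine ⟨Kj.liftQ g₀ hKj_le, ?_⟩
    refine IsBaseChange.of_lift_unique _ (fun Q _ _ _ _ g => ?_)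
    letI : AddCommGroup Q := Module.addCommMonoidToAddCommGroup Rinf
    obtain ⟨y, hy⟩ : ∃ y : Fin n → Q,
        ∀ i, y i = g (Kj.mkQ (fun l => if i = l then 1 else 0)) := ⟨_, fun _ => rfl⟩
    obtain ⟨H, hH⟩ : ∃ H : (Fin n → Rinf) →ₗ[Rinf] Q, ∀ x, H x = ∑ i, x i • y i :=
      ⟨Fintype.linearCombination Rinf y, fun x => Fintype.linearCombination_apply Rinf y x⟩
    have key : ∀ x : Fin n → R j, H (P x) = g (Kj.mkQ x) := by
      intro x
      have h1 := LinearMap.pi_apply_eq_sum_univ (g ∘ₗ Kj.mkQ) x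
      rw [LinearMap.comp_apply] at h1
      rw [h1, hH]
      refine Finset.sum_congr rfl (fun i _ => ?_)
      rw [hP, hy, LinearMap.comp_apply]
      exact algebraMap_smul Rinf (x i) _
    have hHK : K ≤ LinearMap.ker H := by
      rw [← hS]
      refine Submodule.span_le.mpr (fun v hv => ?_)
      show H v = 0
      rw [← hPw v hv, key]
      have hw : (fun i => ℓ (v i)) ∈ Kj := by
        rw [hKj]
        refine Submodule.subset_span ?_
        rw [hW]
        exact Finset.mem_coe.mpr (Finset.mem_image.mpr ⟨v, hv, rfl⟩)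
      have : Kj.mkQ (fun i => ℓ (v i)) = 0 := (Submodule.Quotient.mk_eq_zero Kj).mpr hw
      rw [this, map_zero]
    have hδ : ∀ i : Fin n, P (fun l => if i = l then 1 else 0) =
        (fun l => if i = l then (1 : Rinf) else 0) := by
      intro i
      funext l
      rw [hP]
      by_cases h : i = l
      · rw [if_pos h, if_pos h, map_one]
      · rw [if_neg h, if_neg h, map_zero]
    refine ⟨(K.liftQ H hHK) ∘ₗ e.toLinearMap, ?_, ?_⟩
    · apply Submodule.linearMap_qext
      apply LinearMap.ext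
      intro x
      show K.liftQ H hHK (e (Kj.liftQ g₀ hKj_le (Kj.mkQ x))) = g (Kj.mkQ x)
      rw [Submodule.mkQ_apply, Submodule.liftQ_apply, hg₀, hq, LinearEquiv.apply_symm_apply,
        Submodule.mkQ_apply, Submodule.liftQ_apply, key]
      rfl
    · intro g'' hg''
      have hg2 : ∀ x : Fin n → R j, g'' (q (P x)) = g (Kj.mkQ x) := by
        intro x
        have h1 := LinearMap.congr_fun hg'' (Kj.mkQ x)
        rw [← h1]
        show g'' (q (P x)) = g'' (Kj.liftQ g₀ hKj_le (Kj.mkQ x))
        rw [Submodule.mkQ_apply, Submodule.liftQ_apply, hg₀]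
      have hL : g'' ∘ₗ q = H := by
        apply LinearMap.ext
        intro x
        rw [LinearMap.pi_apply_eq_sum_univ (g'' ∘ₗ q) x, LinearMap.pi_apply_eq_sum_univ H x]
        refine Finset.sum_congr rfl (fun i _ => ?_)
        rw [LinearMap.comp_apply, ← hδ i, hg2, key]
      apply LinearMap.ext
      intro m
      obtain ⟨z, rfl⟩ := e.symm.surjective m
      obtain ⟨x, rfl⟩ := K.mkQ_surjective z
      show g'' (e.symm (K.mkQ x)) = K.liftQ H hHK (e (e.symm (K.mkQ x)))
      rw [LinearEquiv.apply_symm_apply, Submodule.mkQ_apply, Submodule.liftQ_apply, ← hL,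
        LinearMap.comp_apply, hq]
      rfl

end Groth.Agent.Lib.LimDescRing
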