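import Groth.Agent.Lib.LimOpenHom2_helper2
import Groth.Agent.Lib.LimDescRing_helper2
import Groth.Agent.Lib.QCohFP2_helper9

/-!
# Descent of finitely presented modules over a limit of schemes: the affine case (helper2)

* `exists_module_of_affine`: a module over the ring of an affine open `U` of a quasi-separated
  scheme is the module of sections over `U` of a quasi-coherent module on the whole scheme;
* `exists_affine_descent`: over the preimage of an affine open `V` of the base stage, a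
  quasi-coherent module with finitely presented sections is (stalkwise) the pullback of a
  quasi-coherent module at a stage, finitely presented near the preimage of `V`.
APPEND-ONLY once landed.
-/

set_option autoImplicit false
set_option maxHeartbeats 1000000
set_option linter.style.haveILetI false
set_option linter.unusedSectionVars false
set_option linter.unusedVariables false
universe u

open CategoryTheory CategoryTheory.Limits AlgebraicGeometry TopologicalSpace Opposite TensorProduct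
open HomLinH8 RefHullH8 QcqsLoc SecOrdH8 QCohExtn
open Groth.Agent.Lib.LimMod Groth.Agent.Lib.StalkFam Groth.Agent.Lib.LimOH

namespace Groth.Agent.Lib.LimDescAff

section General

variable {X : Scheme.{u}}

/-- The family of stalk maps of a linear equivalence of sections over an affine open is
stalkwise bijective. -/
theorem linSec_bijective (A B : X.Modules) [A.IsQuasicoherent] [B.IsQuasicoherent]
    {U : X.Opens} (hU : IsAffineOpen U) (ψ : Γ(A, U) ≃ₗ[Γ(X, U)] Γ(B, U)) (y : U) :
    Function.Bijective ((linSec A B hU ψ.toLinearMap).1 y) := by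
  obtain ⟨y, hy⟩ := y
  have h1 : ((linSec B A hU ψ.symm.toLinearMap).1 ⟨y, hy⟩).comp
      ((linSec A B hU ψ.toLinearMap).1 ⟨y, hy⟩) = LinearMap.id := by
    apply LinearMap.ext_on_range (span_germ_univ A hU hy)
    intro x
    rw [LinearMap.comp_apply, LinearMap.id_apply, linSec_germ, linSec_germ]
    exact congrArg _ (ψ.symm_apply_apply x)
  have h2 : ((linSec A B hU ψ.toLinearMap).1 ⟨y, hy⟩).comp
      ((linSec B A hU ψ.symm.toLinearMap).1 ⟨y, hy⟩) = LinearMap.id := by
    apply LinearMap.ext_on_range (span_germ_univ B hU hy)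
    intro x
    rw [LinearMap.comp_apply, LinearMap.id_apply, linSec_germ, linSec_germ]
    exact congrArg _ (ψ.apply_symm_apply x)
  exact Function.bijective_iff_has_inverse.mpr
    ⟨(linSec B A hU ψ.symm.toLinearMap).1 ⟨y, hy⟩, fun a => LinearMap.congr_fun h1 a,
      fun b => LinearMap.congr_fun h2 b⟩

/-- A module over the ring of functions of an affine open is the module of sections of a
quasi-coherent module on the whole (quasi-separated) scheme. -/
theorem exists_module_of_affine [QuasiSeparatedSpace X] {U : X.Opens} (hU : IsAffineOpen U)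
    (N : Type u) [AddCommGroup N] [Module Γ(X, U) N] :
    ∃ (G : X.Modules) (_ : G.IsQuasicoherent), Nonempty (N ≃ₗ[Γ(X, U)] Γ(G, U)) := by
  obtain ⟨N', hN'⟩ : ∃ N' : ModuleCat.{u} Γ(X, U), N' = ModuleCat.of Γ(X, U) N := ⟨_, rfl⟩
  obtain ⟨G, hGdef⟩ : ∃ G : X.Modules,
      G = (Scheme.Modules.pushforward hU.fromSpec).obj (tilde N') := ⟨_, rfl⟩
  have hG : G.IsQuasicoherent := by
    rw [hGdef]
    exact QcqsLoc.isQuasicoherent_pushforward_qcqs hU.fromSpec (tilde N')
  have ε : G.restrict hU.fromSpec ≅ tilde N' := by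
    rw [hGdef]
    exact asIso ((Scheme.Modules.restrictAdjunction hU.fromSpec).counit.app (tilde N'))
  let i1 := tilde.isoTop N'
  let i2 : (modulesSpecToSheaf.obj (tilde N')).presheaf.obj (op ⊤) ≅
      (modulesSpecToSheaf.obj (G.restrict hU.fromSpec)).presheaf.obj (op ⊤) :=
    ((sheafSections _ _).obj (op ⊤)).mapIso (modulesSpecToSheaf.mapIso ε.symm)
  have e0 : N ≃ₗ[Γ(X, U)] N' := by
    rw [hN']
  exact ⟨G, hG, ⟨e0 ≪≫ₗ (i1 ≪≫ i2).toLinearEquiv ≪≫ₗ QCohFP.secSpecEquiv hU G⟩⟩

end General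

section Desc

variable {I : Type u} [SmallCategory I] [IsCofiltered I] (D : I ⥤ Scheme.{u}) (c : Cone D)
  (hc : IsLimit c) [∀ (i j : I) (f : i ⟶ j), IsAffineHom (D.map f)] (i₀ : I)

include hc in
/-- **The affine case of the descent of finitely presented modules.** -/
theorem exists_affine_descent [QuasiSeparatedSpace (D.obj i₀)] {V : (D.obj i₀).Opens}
    (hV : IsAffineOpen V) (F : c.pt.Modules) [F.IsQuasicoherent]
    (hF : Module.FinitePresentation Γ(c.pt, Uinf D c i₀ V) Γ(F, Uinf D c i₀ V)) :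
    ∃ (j : Over i₀) (G : (D.obj j.left).Modules) (_ : G.IsQuasicoherent)
      (l : Γ(RefHull.homSh ((Scheme.Modules.pullback (c.π.app j.left)).obj G) F,
        Uinf D c i₀ V)),
      (∀ x ∈ Uj D i₀ V j, FPAt G x) ∧ ∀ s, Function.Bijective (l.1 s) := by
  haveI hA' : ∀ {i j : I} (f : i ⟶ j), IsAffineHom (D.map f) := fun f => inferInstance
  haveI := isAffineHom_π_app D c hc i₀
  have hUinf : IsAffineOpen (Uinf D c i₀ V) := hV.preimage (c.π.app i₀)
  haveI := hF
  obtain ⟨j, N, iN1, iN2, hNfp, hex⟩ := Groth.Agent.Lib.LimDescRing.exists_fp_descent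
    (J := Over i₀) (fun j : Over i₀ => Γ(D.obj j.left, Uj D i₀ V j)) Γ(c.pt, Uinf D c i₀ V)
    (fun j => (sg D c i₀ V j).hom) (fun {k j} f => (tr D i₀ V f).hom)
    (fun {k j} f t => congrArg (fun φ => φ.hom t) (tr_sg D c i₀ V f))
    (fun r => exists_sg_eq D c i₀ V hc hV r) Γ(F, Uinf D c i₀ V)
  letI := iN1
  letI := iN2
  haveI := hNfp
  have hUj : IsAffineOpen (Uj D i₀ V j) := hV.preimage (D.map j.hom)
  haveI : QuasiSeparatedSpace (D.obj j.left) :=
    quasiSeparatedSpace_of_quasiSeparated (D.map j.hom)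
  obtain ⟨G, hG, ⟨eN⟩⟩ := exists_module_of_affine hUj N
  haveI := hG
  letI : Algebra Γ(D.obj j.left, Uj D i₀ V j) Γ(c.pt, Uinf D c i₀ V) :=
    (sg D c i₀ V j).hom.toAlgebra
  letI : Module Γ(D.obj j.left, Uj D i₀ V j) Γ(F, Uinf D c i₀ V) :=
    Module.compHom _ (sg D c i₀ V j).hom
  haveI : IsScalarTower Γ(D.obj j.left, Uj D i₀ V j) Γ(c.pt, Uinf D c i₀ V)
      Γ(F, Uinf D c i₀ V) := IsScalarTower.of_algebraMap_smul fun _ _ => rfl
  letI : Module Γ(D.obj j.left, Uj D i₀ V j)
      Γ((Scheme.Modules.pullback (c.π.app j.left)).obj G, Uinf D c i₀ V) :=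
    Module.compHom _ (sg D c i₀ V j).hom
  haveI : IsScalarTower Γ(D.obj j.left, Uj D i₀ V j) Γ(c.pt, Uinf D c i₀ V)
      Γ((Scheme.Modules.pullback (c.π.app j.left)).obj G, Uinf D c i₀ V) :=
    IsScalarTower.of_algebraMap_smul fun _ _ => rfl
  obtain ⟨f, hf⟩ := hex
  have hbc₁ := PBH8.isBaseChange_cUV (X := c.pt) (c.π.app j.left) G (Uinf_le D c i₀ V j) hUinf hUj
  obtain ⟨ψ⟩ : Nonempty (Γ((Scheme.Modules.pullback (c.π.app j.left)).obj G, Uinf D c i₀ V) ≃ₗ[
      Γ(c.pt, Uinf D c i₀ V)] Γ(F, Uinf D c i₀ V)) :=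
    ⟨hbc₁.equiv.symm ≪≫ₗ
      (TensorProduct.AlgebraTensorModule.congr
        (LinearEquiv.refl Γ(c.pt, Uinf D c i₀ V) Γ(c.pt, Uinf D c i₀ V)) eN.symm) ≪≫ₗ hf.equiv⟩
  refine ⟨j, G, hG, linSec _ F hUinf ψ.toLinearMap, fun x hx => ?_, fun s => ?_⟩
  · exact ⟨Uj D i₀ V j, hUj, hx, Module.FinitePresentation.of_equiv eN⟩
  · exact linSec_bijective _ F hUinf ψ s

end Desc

end Groth.Agent.Lib.LimDescAff
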