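import Mathlib
import Groth.Agent.Lib.LimDescFP3_helper7

/-!
# Coverings of a cofiltered limit descend to a stage (helper7)

`exists_descend_cover`: a jointly surjective family of finitely presented open morphisms with a
property `P` that spreads out (étale, flat, ...) over `lim D` descends to a finite such family over
some stage.
-/

set_option autoImplicit false
set_option linter.style.haveILetI false
universe u
open CategoryTheory CategoryTheory.Limits AlgebraicGeometry Topology TopologicalSpace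

namespace Groth.Agent.Lib.LimDescFPH7
open Groth.Agent.Lib.LimIsoStageH7

theorem exists_descend_cover {P : MorphismProperty Scheme.{u}} [P.RespectsIso]
    [P.IsStableUnderBaseChange] (hP : DescendsProp P)
    (hopen : ∀ {X Y : Scheme.{u}} (f : X ⟶ Y), P f → LocallyOfFinitePresentation f → IsOpenMap f)
    {I : Type u} [SmallCategory I] [IsCofiltered I] (D : I ⥤ Scheme.{u}) (c : Cone D)
    (hc : IsLimit c) [∀ (i j : I) (t : i ⟶ j), IsAffineHom (D.map t)] (i₀ : I)
    [CompactSpace (D.obj i₀)] [QuasiSeparatedSpace (D.obj i₀)] {ι : Type u}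
    (U : ι → Scheme.{u}) (u : ∀ a, U a ⟶ c.pt) (hPu : ∀ a, P (u a))
    [∀ a, LocallyOfFinitePresentation (u a)] [∀ a, QuasiCompact (u a)]
    [∀ a, QuasiSeparated (u a)]
    (hcov : ∀ x : c.pt, ∃ (a : ι) (y : U a), (u a).base y = x) :
    ∃ (i : I) (n : ℕ) (V : Fin n → Scheme.{u}) (v : ∀ j, V j ⟶ D.obj i) (a : Fin n → ι)
      (e : ∀ j, U (a j) ⟶ V j),
      (∀ j, P (v j) ∧ LocallyOfFinitePresentation (v j) ∧ QuasiCompact (v j) ∧
        QuasiSeparated (v j)) ∧
      (∀ x : D.obj i, ∃ (j : Fin n) (y : V j), (v j).base y = x) ∧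
      ∀ j, IsPullback (e j) (u (a j)) (v j) (c.π.app i) := by
  classical
  haveI hA' : ∀ {i j : I} (f : i ⟶ j), IsAffineHom (D.map f) := fun f => inferInstance
  haveI : CompactSpace c.pt := LimConstr.compactSpace_pt D c hc i₀
  have hopen' : ∀ a, IsOpen (Set.range (u a)) := fun a =>
    (hopen (u a) (hPu a) inferInstance).isOpen_range
  have hcov' : (Set.univ : Set c.pt) ⊆ ⋃ a, Set.range (u a) := by
    intro x _
    obtain ⟨a, y, hy⟩ := hcov x
    exact Set.mem_iUnion.mpr ⟨a, y, hy⟩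
  obtain ⟨t, ht⟩ := isCompact_univ.elim_finite_subcover (fun a => Set.range (u a)) hopen' hcov'
  choose j φ V v q hlfp hqc hqs hPv hpb using fun a : ι =>
    exists_descend_with hP D c hc i₀ (u a) (hPu a)
  obtain ⟨k, fk⟩ := IsCofiltered.inf_objs_exists (insert i₀ (t.image j))
  have φ₀ : k ⟶ i₀ := (fk (Finset.mem_insert_self _ _)).some
  have ψ : ∀ a : t, k ⟶ j a.1 := fun a =>
    (fk (Finset.mem_insert_of_mem (Finset.mem_image_of_mem j a.2))).some
  haveI : CompactSpace (D.obj k) := QuasiCompact.compactSpace_of_compactSpace (D.map φ₀)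
  haveI : QuasiSeparatedSpace (D.obj k) := quasiSeparatedSpace_of_quasiSeparated (D.map φ₀)
  haveI := hlfp
  haveI := hqc
  haveI := hqs
  -- the family at the stage `k`
  have hw : ∀ a : t, q a.1 ≫ v a.1 = (u a.1 ≫ c.π.app k) ≫ D.map (ψ a) := by
    intro a
    rw [Category.assoc, c.w (ψ a)]
    exact (hpb a.1).w
  have hpb' : ∀ a : t, IsPullback (pullback.lift (q a.1) (u a.1 ≫ c.π.app k) (hw a)) (u a.1)
      (pullback.snd (v a.1) (D.map (ψ a))) (c.π.app k) := fun a =>
    isPullback_stage D c (ψ a) (v a.1) (q a.1) (u a.1) (hpb a.1) _ (pullback.lift_fst _ _ _)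
      (pullback.lift_snd _ _ _)
  have hPv' : ∀ a : t, P (pullback.snd (v a.1) (D.map (ψ a))) := fun a =>
    P.pullback_snd _ _ (hPv a.1)
  haveI : ∀ a : t, CompactSpace ↥(pullback (v a.1) (D.map (ψ a))) := fun a =>
    QuasiCompact.compactSpace_of_compactSpace (pullback.snd (v a.1) (D.map (ψ a)))
  have hWo : ∀ a : t, IsOpen (Set.range (pullback.snd (v a.1) (D.map (ψ a)))) := fun a =>
    (hopen _ (hPv' a) inferInstance).isOpen_range
  have hWc : ∀ a : t, IsCompact (Set.range (pullback.snd (v a.1) (D.map (ψ a)))) := fun a =>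
    isCompact_range (pullback.snd (v a.1) (D.map (ψ a))).continuous
  have hZ : IsConstructible ((⋃ a : t, Set.range (pullback.snd (v a.1) (D.map (ψ a))))ᶜ) :=
    ((isCompact_iUnion hWc).isConstructible (isOpen_iUnion hWo)).compl
  have hempty : (c.π.app k) ⁻¹'
      ((⋃ a : t, Set.range (pullback.snd (v a.1) (D.map (ψ a))))ᶜ) = ∅ := by
    rw [Set.preimage_compl, Set.compl_empty_iff, Set.eq_univ_iff_forall]
    intro x
    obtain ⟨a, ha, y, rfl⟩ := Set.mem_iUnion₂.mp (ht (Set.mem_univ x))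
    refine Set.mem_iUnion.mpr ⟨⟨a, ha⟩, pullback.lift (q a) (u a ≫ c.π.app k) (hw ⟨a, ha⟩) y, ?_⟩
    rw [← Scheme.Hom.comp_apply, (hpb' ⟨a, ha⟩).w, Scheme.Hom.comp_apply]
  obtain ⟨l, θ, hl⟩ := LimSurjH7.exists_preimage_eq_empty D c hc k hZ hempty
  -- the family at the stage `l`
  have hw2 : ∀ a : t, pullback.lift (q a.1) (u a.1 ≫ c.π.app k) (hw a) ≫
      pullback.snd (v a.1) (D.map (ψ a)) = (u a.1 ≫ c.π.app l) ≫ D.map θ := by
    intro a
    rw [Category.assoc, c.w θ]
    exact (hpb' a).w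
  have hpb'' : ∀ a : t, IsPullback (pullback.lift (pullback.lift (q a.1) (u a.1 ≫ c.π.app k) (hw a))
      (u a.1 ≫ c.π.app l) (hw2 a)) (u a.1)
      (pullback.snd (pullback.snd (v a.1) (D.map (ψ a))) (D.map θ)) (c.π.app l) := fun a =>
    isPullback_stage D c θ (pullback.snd (v a.1) (D.map (ψ a))) _ (u a.1) (hpb' a) _
      (pullback.lift_fst _ _ _) (pullback.lift_snd _ _ _)
  have hcovl : ∀ x : D.obj l, ∃ (a : t)
      (z : ↥(pullback (pullback.snd (v a.1) (D.map (ψ a))) (D.map θ))),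
      (pullback.snd (pullback.snd (v a.1) (D.map (ψ a))) (D.map θ)).base z = x := by
    intro x
    have hx : D.map θ x ∈ ⋃ a : t, Set.range (pullback.snd (v a.1) (D.map (ψ a))) := by
      by_contra hx
      have : x ∈ (D.map θ) ⁻¹'
          ((⋃ a : t, Set.range (pullback.snd (v a.1) (D.map (ψ a))))ᶜ) := hx
      rw [hl] at this
      exact this
    obtain ⟨a, y, hy⟩ := Set.mem_iUnion.mp hx
    obtain ⟨z, -, hz⟩ := Scheme.Pullback.exists_preimage_pullback (f := pullback.snd (v a.1)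
      (D.map (ψ a))) (g := D.map θ) y x hy
    exact ⟨a, z, hz⟩
  refine ⟨l, t.card,
    fun m => pullback (pullback.snd (v (t.equivFin.symm m).1) (D.map (ψ (t.equivFin.symm m))))
      (D.map θ),
    fun m => pullback.snd _ _, fun m => (t.equivFin.symm m).1,
    fun m => pullback.lift (pullback.lift (q (t.equivFin.symm m).1)
      (u (t.equivFin.symm m).1 ≫ c.π.app k) (hw (t.equivFin.symm m)))
      (u (t.equivFin.symm m).1 ≫ c.π.app l) (hw2 (t.equivFin.symm m)), ?_, ?_, ?_⟩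
  · intro m
    exact ⟨P.pullback_snd _ _ (hPv' _), inferInstance, inferInstance, inferInstance⟩
  · intro x
    obtain ⟨a, z, hz⟩ := hcovl x
    obtain ⟨m, rfl⟩ : ∃ m, t.equivFin.symm m = a := ⟨t.equivFin a, Equiv.symm_apply_apply _ _⟩
    exact ⟨m, z, hz⟩
  · intro m
    exact hpb'' (t.equivFin.symm m)

theorem main20011 {I : Type u} [SmallCategory I] [IsCofiltered I]
    (D : I ⥤ Scheme.{u}) (c : Cone D) (hc : IsLimit c)
    [∀ (i j : I) (t : i ⟶ j), IsAffineHom (D.map t)] (i₀ : I) [CompactSpace (D.obj i₀)]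
    [QuasiSeparatedSpace (D.obj i₀)] {ι : Type u} (U : ι → Scheme.{u}) (u : ∀ a, U a ⟶ c.pt)
    [∀ a, Etale (u a)] [∀ a, QuasiCompact (u a)] [∀ a, QuasiSeparated (u a)]
    (hcov : ∀ x : c.pt, ∃ (a : ι) (y : U a), (u a).base y = x) :
    ∃ (i : I) (n : ℕ) (V : Fin n → Scheme.{u}) (v : ∀ j, V j ⟶ D.obj i) (a : Fin n → ι)
      (e : ∀ j, U (a j) ⟶ V j),
      (∀ j, Etale (v j) ∧ QuasiCompact (v j) ∧ QuasiSeparated (v j)) ∧
      (∀ x : D.obj i, ∃ (j : Fin n) (y : V j), (v j).base y = x) ∧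
      ∀ j, IsPullback (e j) (u (a j)) (v j) (c.π.app i) := by
  obtain ⟨i, n, V, v, a, e, h1, h2, h3⟩ := exists_descend_cover descendsProp_etale
    (fun f hf _ => by
      haveI : Etale f := hf
      exact f.isOpenMap) D c hc i₀ U u (fun a => (inferInstance : Etale (u a))) hcov
  exact ⟨i, n, V, v, a, e, fun j => ⟨(h1 j).1, (h1 j).2.2.1, (h1 j).2.2.2⟩, h2, h3⟩

theorem main18756 {I : Type u} [SmallCategory I] [IsCofiltered I]
    (D : I ⥤ Scheme.{u}) (c : Cone D) (hc : IsLimit c)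
    [∀ (i j : I) (t : i ⟶ j), IsAffineHom (D.map t)] (i₀ : I) [CompactSpace (D.obj i₀)]
    [QuasiSeparatedSpace (D.obj i₀)] {ι : Type u} (U : ι → Scheme.{u}) (u : ∀ a, U a ⟶ c.pt)
    [∀ a, Flat (u a)] [∀ a, LocallyOfFinitePresentation (u a)] [∀ a, QuasiCompact (u a)]
    [∀ a, QuasiSeparated (u a)] (hcov : ∀ x : c.pt, ∃ (a : ι) (y : U a), (u a).base y = x) :
    ∃ (i : I) (n : ℕ) (V : Fin n → Scheme.{u}) (v : ∀ j, V j ⟶ D.obj i) (a : Fin n → ι)
      (e : ∀ j, U (a j) ⟶ V j),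
      (∀ j, Flat (v j) ∧ LocallyOfFinitePresentation (v j) ∧ QuasiCompact (v j) ∧
        QuasiSeparated (v j)) ∧
      (∀ x : D.obj i, ∃ (j : Fin n) (y : V j), (v j).base y = x) ∧
      ∀ j, IsPullback (e j) (u (a j)) (v j) (c.π.app i) :=
  exists_descend_cover descendsProp_flat
    (fun f hf hlfp => by
      haveI : Flat f := hf
      haveI := hlfp
      exact f.isOpenMap) D c hc i₀ U u (fun a => (inferInstance : Flat (u a))) hcov

end Groth.Agent.Lib.LimDescFPH7
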