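import Mathlib
import Groth.Prelude
import Groth.Agent.Lib.NApxG_helper7
import Groth.Agent.Lib.LimDescFP2_helper7

/-!
# Finite type morphisms to a limit embed into a base change from a stage (helper7)
-/

set_option autoImplicit false
set_option linter.style.haveILetI false
universe u
open CategoryTheory CategoryTheory.Limits AlgebraicGeometry TopologicalSpace Opposite

namespace Groth.Agent.Lib.LimFTStageH7

/-- **S9214** (no Noetherian hypothesis needed: qcqs stages suffice). -/
theorem main9214 {I : Type u} [SmallCategory I] [IsCofiltered I]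
    (D : I ⥤ Scheme.{u}) (c : Limits.Cone D) (hc : Limits.IsLimit c)
    [∀ (i j : I) (f : i ⟶ j), IsAffineHom (D.map f)] [∀ i, CompactSpace (D.obj i)]
    [∀ i, QuasiSeparatedSpace (D.obj i)]
    {X : Scheme.{u}} (a : X ⟶ c.pt) [QuasiSeparated a] [QuasiCompact a] [LocallyOfFiniteType a] :
    ∃ (i : I) (W : Scheme.{u}) (w : W ⟶ D.obj i) (b : X ⟶ W) (hb : a ≫ c.π.app i = b ≫ w),
      LocallyOfFiniteType w ∧ QuasiCompact w ∧ IsClosedImmersion (pullback.lift a b hb) := by
  obtain ⟨i₀⟩ := IsCofiltered.nonempty (C := I)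
  haveI : CompactSpace c.pt := LimConstr.compactSpace_pt D c hc i₀
  haveI : QuasiSeparatedSpace c.pt := LimConstr.quasiSeparatedSpace_pt D c hc i₀
  haveI : CompactSpace X := QuasiCompact.compactSpace_of_compactSpace a
  haveI : QuasiSeparatedSpace X := quasiSeparatedSpace_of_quasiSeparated a
  obtain ⟨X', f', j, h1, h2, h3, h4, h5, -, -⟩ := Groth.Agent.Lib.NApxG_helper7.closedImmersion_fp a
  haveI := h1
  haveI := h2
  haveI := h3
  haveI := h4
  obtain ⟨i, W, w, g, hw1, hw2, hw3, sq⟩ := Groth.Agent.Lib.LimDescFPH7.main591 hc X' f'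
  haveI := hw1
  have hb : a ≫ c.π.app i = (j ≫ g) ≫ w := by
    rw [← h5, Category.assoc, Category.assoc, sq.w]
  refine ⟨i, W, w, j ≫ g, hb, inferInstance, hw2, ?_⟩
  have e : pullback.lift a (j ≫ g) hb = j ≫ sq.flip.isoPullback.hom := by
    apply pullback.hom_ext
    · rw [pullback.lift_fst, Category.assoc, IsPullback.isoPullback_hom_fst, h5]
    · rw [pullback.lift_snd, Category.assoc, IsPullback.isoPullback_hom_snd]
  rw [e]
  infer_instance

end Groth.Agent.Lib.LimFTStageH7
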