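import Groth.Agent.Lib.LimAff1_helper7
import Mathlib.AlgebraicGeometry.Morphisms.Finite
import Mathlib.AlgebraicGeometry.Morphisms.Integral
import Mathlib.AlgebraicGeometry.Morphisms.ClosedImmersion
import Mathlib.AlgebraicGeometry.Morphisms.FiniteType

/-!
# Finiteness at a finite stage of a tower of affine schemes (helper7)
-/

set_option autoImplicit false
set_option linter.style.haveILetI false
set_option linter.unusedSectionVars false

universe u

open CategoryTheory CategoryTheory.Limits AlgebraicGeometry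

namespace Groth.Agent.Lib.SchLimTowerH7

/-! ### Ring lemmas -/

/-- If `A` is generated over `R` by elements whose images in `B` are integral over `R`, and `B`
is integral over `A`, then `B` is integral over `R`. -/
theorem isIntegral_comp_of_adjoin {R A B : Type u} [CommRing R] [CommRing A] [CommRing B]
    (f : R →+* A) (g : A →+* B) (hg : g.IsIntegral) (s : Set A)
    (hs : @Algebra.adjoin R A _ _ f.toAlgebra s = ⊤)
    (h : ∀ a ∈ s, (g.comp f).IsIntegralElem (g a)) : (g.comp f).IsIntegral := by
  have hA : ∀ a : A, (g.comp f).IsIntegralElem (g a) := by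
    letI := f.toAlgebra
    intro a
    have ha : a ∈ Algebra.adjoin R s := by
      rw [hs]
      exact Algebra.mem_top
    induction ha using Algebra.adjoin_induction with
    | mem x hx => exact h x hx
    | algebraMap r => exact (g.comp f).isIntegralElem_map
    | add x y _ _ hx hy =>
      rw [map_add]
      exact RingHom.IsIntegralElem.add (g.comp f) hx hy
    | mul x y _ _ hx hy =>
      rw [map_mul]
      exact RingHom.IsIntegralElem.mul (g.comp f) hx hy
  let f' : R →+* g.range := (g.comp f).codRestrict g.range (fun r => ⟨f r, rfl⟩)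
  have hf' : f'.IsIntegral := by
    rintro ⟨_, a, rfl⟩
    obtain ⟨p, hp, hp0⟩ := hA a
    refine ⟨p, hp, ?_⟩
    apply Subtype.val_injective
    have e := Polynomial.hom_eval₂ p f' g.range.subtype ⟨g a, a, rfl⟩
    exact e.trans hp0
  have hι : g.range.subtype.IsIntegral := by
    have h1 : (g.range.subtype.comp g.rangeRestrict).IsIntegral := by
      have e : g.range.subtype.comp g.rangeRestrict = g := by
        ext
        rfl
      rw [e]
      exact hg
    exact RingHom.IsIntegral.tower_top _ _ h1
  have h2 := RingHom.IsIntegral.trans f' g.range.subtype hf' hι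
  have e : g.range.subtype.comp f' = g.comp f := by
    ext
    rfl
  rw [e] at h2
  exact h2

/-- If `A` is generated over `R` by elements whose images in `B` come from `R`, and `A ⟶ B` is
surjective, then `R ⟶ B` is surjective. -/
theorem surjective_comp_of_adjoin {R A B : Type u} [CommRing R] [CommRing A] [CommRing B]
    (f : R →+* A) (g : A →+* B) (hg : Function.Surjective g) (s : Set A)
    (hs : @Algebra.adjoin R A _ _ f.toAlgebra s = ⊤)
    (h : ∀ a ∈ s, g a ∈ (g.comp f).range) : Function.Surjective (g.comp f) := by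
  have hA : ∀ a : A, g a ∈ (g.comp f).range := by
    letI := f.toAlgebra
    intro a
    have ha : a ∈ Algebra.adjoin R s := by
      rw [hs]
      exact Algebra.mem_top
    induction ha using Algebra.adjoin_induction with
    | mem x hx => exact h x hx
    | algebraMap r => exact ⟨r, rfl⟩
    | add x y _ _ hx hy =>
      rw [map_add]
      exact Subring.add_mem _ hx hy
    | mul x y _ _ hx hy =>
      rw [map_mul]
      exact Subring.mul_mem _ hx hy
  intro b
  obtain ⟨a, rfl⟩ := hg b
  exact hA a

/-! ### Vanishing of finitely many sections at a common stage -/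

theorem exists_map_appTop_eq_zero_finset {J : Type u} [SmallCategory J] [IsCofiltered J]
    (E : J ⥤ Scheme.{u}) [∀ {j k : J} (φ : j ⟶ k), IsAffineHom (E.map φ)] (cE : Cone E)
    (hcE : IsLimit cE) (j₁ : J) [CompactSpace (E.obj j₁)] (s : Finset Γ(E.obj j₁, ⊤))
    (hs : ∀ b ∈ s, (cE.π.app j₁).appTop b = 0) :
    ∃ (j₂ : J) (φ : j₂ ⟶ j₁), ∀ b ∈ s, (E.map φ).appTop b = 0 := by
  classical
  induction s using Finset.induction_on with
  | empty => exact ⟨j₁, 𝟙 _, fun b hb => absurd hb (Finset.notMem_empty b)⟩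
  | insert b s hb ih =>
    obtain ⟨j₂, φ₂, h₂⟩ := ih (fun b' hb' => hs b' (Finset.mem_insert_of_mem hb'))
    obtain ⟨j₃, φ₃, h₃⟩ := exists_appTop_map_eq_zero_of_isLimit E cE hcE b
      (hs b (Finset.mem_insert_self b s))
    obtain ⟨j₄, α, β, hαβ⟩ := IsCofiltered.cospan φ₂ φ₃
    refine ⟨j₄, α ≫ φ₂, fun b' hb' => ?_⟩
    rcases Finset.mem_insert.1 hb' with rfl | hb'
    · rw [hαβ, Functor.map_comp, Scheme.Hom.comp_appTop, CommRingCat.comp_apply, h₃, map_zero]
    · rw [Functor.map_comp, Scheme.Hom.comp_appTop, CommRingCat.comp_apply, h₂ b' hb', map_zero]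

/-! ### Finiteness at a finite stage: towers with finite transition maps -/

set_option backward.isDefEq.respectTransparency false in
/-- A tower of affine schemes, locally of finite type over an affine scheme `V`, with finite
transition maps, whose limit is integral over `V`, is eventually finite over `V`. -/
theorem exists_isFinite_stage {J : Type u} [SmallCategory J] [IsCofiltered J]
    (E : J ⥤ Scheme.{u}) (hEf : ∀ {j k : J} (φ : j ⟶ k), IsFinite (E.map φ))
    (hEa : ∀ j, IsAffine (E.obj j)) {V : Scheme.{u}} [IsAffine V]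
    (q : E ⟶ (Functor.const J).obj V) (hq : ∀ j, LocallyOfFiniteType (q.app j))
    (cE : Cone E) (hcE : IsLimit cE) (w : cE.pt ⟶ V) (hw : ∀ j, cE.π.app j ≫ q.app j = w)
    [IsIntegralHom w] : ∃ j₀ : J, ∀ (j : J) (_ : j ⟶ j₀), IsFinite (q.app j) := by
  haveI := hEa
  haveI : ∀ j, IsAffine (((Functor.const J).obj V).obj j) := fun _ => ‹IsAffine V›
  haveI : ∀ {j k : J} (φ : j ⟶ k), IsAffineHom (E.map φ) := fun φ => by
    haveI := hEf φ
    infer_instance
  have hnat : ∀ {j k : J} (φ : j ⟶ k), E.map φ ≫ q.app k = q.app j := fun φ =>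
    (q.naturality φ).trans (Category.comp_id _)
  obtain ⟨j₁⟩ := IsCofiltered.nonempty (C := J)
  haveI := hq j₁
  have hft : RingHom.FiniteType (q.app j₁).appTop.hom :=
    (HasRingHomProperty.iff_of_isAffine (P := @LocallyOfFiniteType)).1 (hq j₁)
  obtain ⟨⟨s, hs⟩⟩ := hft
  have hwint : RingHom.IsIntegral w.appTop.hom :=
    ((HasAffineProperty.iff_of_isAffine (P := @IsIntegralHom)).1 inferInstance).2
  have hwtop : w.appTop = (q.app j₁).appTop ≫ (cE.π.app j₁).appTop := by
    rw [← Scheme.Hom.comp_appTop, hw j₁]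
  have hex : ∀ a : Γ(E.obj j₁, ⊤), ∃ p : Polynomial Γ(V, ⊤), p.Monic ∧
      (cE.π.app j₁).appTop (Polynomial.eval₂ (q.app j₁).appTop.hom a p) = 0 := by
    intro a
    obtain ⟨p, hp, hp0⟩ := hwint ((cE.π.app j₁).appTop a)
    refine ⟨p, hp, ?_⟩
    have e := Polynomial.hom_eval₂ p (q.app j₁).appTop.hom (cE.π.app j₁).appTop.hom a
    refine e.trans ?_
    rw [hwtop] at hp0
    exact hp0
  choose p hpm hp0 using hex
  classical
  obtain ⟨j₂, φ, hφ⟩ := exists_map_appTop_eq_zero_finset E cE hcE j₁
    (s.image fun a => Polynomial.eval₂ (q.app j₁).appTop.hom a (p a)) (by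
      intro b hb
      obtain ⟨a, -, rfl⟩ := Finset.mem_image.1 hb
      exact hp0 a)
  have hcomp : (q.app j₂).appTop.hom = (E.map φ).appTop.hom.comp (q.app j₁).appTop.hom := by
    rw [← hnat φ, Scheme.Hom.comp_appTop]
    rfl
  have hgint : RingHom.IsIntegral (E.map φ).appTop.hom := by
    haveI := hEf φ
    exact RingHom.Finite.to_isIntegral
      ((HasAffineProperty.iff_of_isAffine (P := @IsFinite)).1 inferInstance).2
  have hint : RingHom.IsIntegral (q.app j₂).appTop.hom := by
    rw [hcomp]
    refine isIntegral_comp_of_adjoin _ _ hgint (↑s) hs (fun a ha => ?_)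
    refine ⟨p a, hpm a, ?_⟩
    rw [← Polynomial.hom_eval₂]
    exact hφ _ (Finset.mem_image_of_mem _ ha)
  haveI : IsIntegralHom (q.app j₂) :=
    (HasAffineProperty.iff_of_isAffine (P := @IsIntegralHom)).2 ⟨hEa j₂, hint⟩
  haveI := hq j₂
  haveI : IsFinite (q.app j₂) :=
    (IsFinite.iff_isIntegralHom_and_locallyOfFiniteType _).2 ⟨inferInstance, inferInstance⟩
  refine ⟨j₂, fun j ψ => ?_⟩
  haveI := hEf ψ
  rw [← hnat ψ]
  infer_instance

/-! ### Closed immersions at a finite stage: towers with closed immersions as transition maps -/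

set_option backward.isDefEq.respectTransparency false in
/-- A tower of affine schemes, locally of finite type over an affine scheme `V`, with closed
immersions as transition maps, whose limit is a closed subscheme of `V`, eventually consists of
closed subschemes of `V`. -/
theorem exists_isClosedImmersion_stage {J : Type u} [SmallCategory J] [IsCofiltered J]
    (E : J ⥤ Scheme.{u}) (hEc : ∀ {j k : J} (φ : j ⟶ k), IsClosedImmersion (E.map φ))
    (hEa : ∀ j, IsAffine (E.obj j)) {V : Scheme.{u}} [IsAffine V]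
    (q : E ⟶ (Functor.const J).obj V) (hq : ∀ j, LocallyOfFiniteType (q.app j))
    (cE : Cone E) (hcE : IsLimit cE) (w : cE.pt ⟶ V) (hw : ∀ j, cE.π.app j ≫ q.app j = w)
    [IsClosedImmersion w] : ∃ j₀ : J, ∀ (j : J) (_ : j ⟶ j₀), IsClosedImmersion (q.app j) := by
  haveI := hEa
  haveI : ∀ j, IsAffine (((Functor.const J).obj V).obj j) := fun _ => ‹IsAffine V›
  haveI : ∀ {j k : J} (φ : j ⟶ k), IsAffineHom (E.map φ) := fun φ => by
    haveI := hEc φ
    infer_instance
  have hnat : ∀ {j k : J} (φ : j ⟶ k), E.map φ ≫ q.app k = q.app j := fun φ =>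
    (q.naturality φ).trans (Category.comp_id _)
  obtain ⟨j₁⟩ := IsCofiltered.nonempty (C := J)
  haveI := hq j₁
  have hft : RingHom.FiniteType (q.app j₁).appTop.hom :=
    (HasRingHomProperty.iff_of_isAffine (P := @LocallyOfFiniteType)).1 (hq j₁)
  obtain ⟨⟨s, hs⟩⟩ := hft
  have hwsurj : Function.Surjective w.appTop :=
    ((HasAffineProperty.iff_of_isAffine (P := @IsClosedImmersion)).1 inferInstance).2
  have hwtop : w.appTop = (q.app j₁).appTop ≫ (cE.π.app j₁).appTop := by
    rw [← Scheme.Hom.comp_appTop, hw j₁]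
  have hex : ∀ a : Γ(E.obj j₁, ⊤), ∃ r : Γ(V, ⊤),
      (cE.π.app j₁).appTop (a - (q.app j₁).appTop r) = 0 := by
    intro a
    obtain ⟨r, hr⟩ := hwsurj ((cE.π.app j₁).appTop a)
    refine ⟨r, ?_⟩
    have e : (cE.π.app j₁).appTop ((q.app j₁).appTop r) = w.appTop r := by
      rw [hwtop]
      rfl
    rw [map_sub, e, hr, sub_self]
  choose r hr using hex
  classical
  obtain ⟨j₂, φ, hφ⟩ := exists_map_appTop_eq_zero_finset E cE hcE j₁
    (s.image fun a => a - (q.app j₁).appTop (r a)) (by
      intro b hb
      obtain ⟨a, -, rfl⟩ := Finset.mem_image.1 hb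
      exact hr a)
  have hcomp : (q.app j₂).appTop.hom = (E.map φ).appTop.hom.comp (q.app j₁).appTop.hom := by
    rw [← hnat φ, Scheme.Hom.comp_appTop]
    rfl
  have hgsurj : Function.Surjective (E.map φ).appTop.hom := by
    haveI := hEc φ
    exact ((HasAffineProperty.iff_of_isAffine (P := @IsClosedImmersion)).1 inferInstance).2
  have hsurj : Function.Surjective (q.app j₂).appTop.hom := by
    rw [hcomp]
    refine surjective_comp_of_adjoin _ _ hgsurj (↑s) hs (fun a ha => ?_)
    refine ⟨r a, ?_⟩
    have h0 := hφ _ (Finset.mem_image_of_mem _ ha)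
    rw [map_sub, sub_eq_zero] at h0
    exact h0.symm
  haveI : IsClosedImmersion (q.app j₂) :=
    (HasAffineProperty.iff_of_isAffine (P := @IsClosedImmersion)).2 ⟨hEa j₂, hsurj⟩
  refine ⟨j₂, fun j ψ => ?_⟩
  haveI := hEc ψ
  rw [← hnat ψ]
  infer_instance

end Groth.Agent.Lib.SchLimTowerH7
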