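import Groth.Agent.Lib.LimAff4_helper7
import Groth.Agent.Lib.LimFin1_helper7

/-!
# Finite morphisms and closed immersions at a finite stage of a tower of algebraic spaces (helper7)

`main10061`, `main10062`.
-/

set_option autoImplicit false
set_option linter.style.haveILetI false

universe u

open CategoryTheory CategoryTheory.Limits AlgebraicGeometry Opposite Topology
open AlgSp Groth.Agent.Lib.AlgSpPullback_helper7 Groth.Agent.Lib.AlgSpQC_helper7
  Groth.Agent.Lib.AlgSpPoints_helper7 Groth.Agent.Lib.AlgSpQC2_helper7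
  Groth.Agent.Lib.MonicGsectH6 Groth.Agent.Lib.AlgSpSep_helper7
  Groth.Agent.Lib.AlgSpDiag_helper7 Groth.Agent.Lib.AlgSpProper_helper7
  Groth.Agent.Lib.AlgSpEpi_helper7 Groth.Agent.Lib.AlgSpFormal5_helper7
  Groth.Agent.Lib.AlgSpIso_helper7
  Groth.Agent.Lib.SchLimTowerH7
  Groth.Agent.Lib.AlgSpLocP_helper7 Groth.Agent.Lib.AlgSpAffineMorH7 Groth.Agent.Lib.AffDescH7
  Groth.Agent.Lib.AlgSpFpqc3_helper7

namespace Groth.Agent.Lib.LimTowerH7

variable {S : Scheme.{u}}

/-- A property which is fpqc local on the base holds for a morphism as soon as it holds for its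
base change to an affine étale chart of the target. -/
theorem of_affine_chart [QuasiSeparatedSpace ↥S] {P : MorphismProperty (Sp S)}
    (hP : IsLocalOnBase (IsFpqcCover (S := S)) P) {X Y : Sp S} (hX : IsAlgSpace X)
    (hY : IsAlgSpace Y) (hYqs : IsQuasiSeparatedSp Y) (f : X ⟶ Y) {W : Over S}
    (hW : IsAffine W.left) (v : (yon S).obj W ⟶ Y) (hve : RepWith @Etale v)
    (hvs : RepWith @Surjective v) {Q : Sp S} (hQ : IsAlgSpace Q) {prX : Q ⟶ X}
    {prW : Q ⟶ (yon S).obj W} (sq : IsPullback prX prW f v) (h : P prW) : P f := by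
  haveI := hW
  have hflat : LocP @Flat v := locP_of_repWith @Flat
    (fun _ _ g hg => by haveI : Etale g := hg; infer_instance) v
    (repWith_mono (fun _ _ g (hg : Etale g) => (inferInstance : Flat g)) hve)
  have hqc : IsQuasiCompactMor v :=
    isQuasiCompactMor_of_isQuasiCompactSp_of_isQuasiSeparatedSp (IsAlgSpace.yon_obj W) v
      (isQuasiCompactSp_yon W) hYqs
  have hs : IsSurjectiveMor v := isSurjectiveMor_of_repWith v hvs
  have hcov := isFpqcCover_single (IsAlgSpace.yon_obj W) hY v hflat hqc hs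
  exact (hP (fun _ : PUnit.{u + 1} => (yon S).obj W) (fun _ => v) hY
    (fun _ => IsAlgSpace.yon_obj W) hcov f hX (fun _ => Q) (fun _ => prW) (fun _ => prX)
    (fun _ => hQ) (fun _ => sq)).2 (fun _ => h)

/-- The tower of base changes to a chart of the base, for a system of algebraic spaces over an
algebraic space `Y` whose structure maps are eventually affine. -/
theorem exists_tower_over {I : Type u} [SmallCategory I] [IsCofiltered I] (D : I ⥤ Sp S)
    {Y : Sp S} (t : D ⟶ (Functor.const I).obj Y)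
    (hDa : ∀ (i j : I) (φ : i ⟶ j), IsAffineMor (D.map φ)) (c : Cone D) (hc : IsLimit c)
    (g : c.pt ⟶ Y) (hg : ∀ i, c.π.app i ≫ t.app i = g) (i₁ : I)
    (hta : ∀ (i : I) (_ : i ⟶ i₁), IsAffineMor (t.app i)) {V₀ : Over S}
    (v : (yon S).obj V₀ ⟶ Y) :
    ∃ (E : Over i₁ ⥤ Over S) (p : ∀ j, (yon S).obj (E.obj j) ⟶ D.obj j.left)
      (q : ∀ j, E.obj j ⟶ V₀) (cE : Cone E) (fst : (yon S).obj cE.pt ⟶ c.pt) (w : cE.pt ⟶ V₀),
      (∀ j, IsPullback (p j) ((yon S).map (q j)) (t.app j.left) v) ∧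
      (∀ (j k : Over i₁) (φ : j ⟶ k), (yon S).map (E.map φ) ≫ p k = p j ≫ D.map φ.left) ∧
      (∀ (j k : Over i₁) (φ : j ⟶ k), E.map φ ≫ q k = q j) ∧
      (∀ (j k : Over i₁) (φ : j ⟶ k),
        IsPullback (p j) ((yon S).map (E.map φ)) (D.map φ.left) (p k)) ∧
      (∀ j, IsAffineHom (q j).left) ∧
      Nonempty (IsLimit ((Over.forget S).mapCone cE)) ∧
      (∀ j, cE.π.app j ≫ q j = w) ∧
      IsPullback fst ((yon S).map w) g v := by
  let τ : (Over.forget i₁ ⋙ D) ⟶ (Functor.const (Over i₁)).obj Y :=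
    { app := fun j => t.app j.left
      naturality := fun j k φ => t.naturality φ.left }
  let cY : Cone ((Functor.const (Over i₁)).obj Y) := { pt := Y, π := 𝟙 _ }
  have hA : ∀ j : Over i₁, RepWith @IsAffineHom (t.app j.left) := fun j =>
    repWith_isAffineHom_of_isAffineMor _ (hta j.left j.hom)
  have hτ : ∀ j : Over i₁, (yon S).relativelyRepresentable (τ.app j) := fun j => (hA j).rep
  let E : Over i₁ ⥤ Over S := tower τ hτ cY v
  let p : ∀ j, (yon S).obj (E.obj j) ⟶ D.obj j.left := fun j => tP τ hτ cY v j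
  let q : ∀ j, E.obj j ⟶ V₀ := fun j => tQ τ hτ cY v j
  have sq' : ∀ j, IsPullback (p j) ((yon S).map (q j)) (τ.app j) (v ≫ cY.π.app j) :=
    fun j => t_sq τ hτ cY v j
  have hvc : ∀ j : Over i₁, v ≫ cY.π.app j = v := fun j => Category.comp_id v
  have sq : ∀ j, IsPullback (p j) ((yon S).map (q j)) (t.app j.left) v := fun j => by
    have := sq' j
    rw [hvc j] at this
    exact this
  have hp : ∀ (j k : Over i₁) (φ : j ⟶ k),
      (yon S).map (E.map φ) ≫ p k = p j ≫ D.map φ.left := fun j k φ => tMap_p τ hτ cY v φ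
  have hq : ∀ (j k : Over i₁) (φ : j ⟶ k), E.map φ ≫ q k = q j :=
    fun j k φ => tMap_q τ hτ cY v φ
  have hnat : ∀ (j k : Over i₁) (φ : j ⟶ k), D.map φ.left ≫ t.app k.left = t.app j.left :=
    fun j k φ => (t.naturality φ.left).trans (Category.comp_id _)
  have htrans : ∀ (j k : Over i₁) (φ : j ⟶ k),
      IsPullback (p j) ((yon S).map (E.map φ)) (D.map φ.left) (p k) := fun j k φ => by
    have outer : IsPullback ((yon S).map (E.map φ) ≫ (yon S).map (q k)) (p j) v
        (D.map φ.left ≫ t.app k.left) := by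
      rw [← (yon S).map_comp, hq j k φ, hnat j k φ]
      exact (sq j).flip
    exact (IsPullback.of_right outer (hp j k φ) (sq k).flip).flip
  have hqaff : ∀ j, IsAffineHom (q j).left := fun j => (hA j).property _ _ _ (sq j)
  have hEaff : ∀ (j k : Over i₁) (φ : j ⟶ k), IsAffineHom (E.map φ).left := fun j k φ =>
    (repWith_isAffineHom_of_isAffineMor _ (hDa _ _ φ.left)).property _ _ _ (htrans j k φ)
  obtain ⟨cE, ⟨hcE⟩, ⟨hl⟩, hπaff⟩ := exists_limit_over E hEaff
  let j₀ : Over i₁ := Over.mk (𝟙 i₁)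
  let toJ₀ : ∀ j : Over i₁, j ⟶ j₀ := fun j => Over.homMk j.hom (by simp [j₀])
  let w : cE.pt ⟶ V₀ := cE.π.app j₀ ≫ q j₀
  have hw : ∀ j, cE.π.app j ≫ q j = w := fun j => by
    rw [← hq j j₀ (toJ₀ j), ← Category.assoc, cE.w]
  have hcX : IsLimit (c.whisker (Over.forget i₁)) :=
    (Functor.Initial.isLimitWhiskerEquiv (Over.forget i₁) c).symm hc
  obtain ⟨fst, hfst, pb⟩ := isPullback_limit τ (c.whisker (Over.forget i₁)) hcX cY
    (fun a b h => (Category.comp_id a).symm.trans ((h j₀).trans (Category.comp_id b)))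
    g
    (fun j => by
      show g ≫ 𝟙 _ = c.π.app j.left ≫ t.app j.left
      rw [Category.comp_id, hg])
    v E p q sq' hp hq cE hcE w hw j₀
  exact ⟨E, p, q, cE, fst, w, sq, hp, hq, htrans, hqaff, ⟨hl⟩, hw, pb⟩

/-! ### S10061 -/

set_option backward.isDefEq.respectTransparency false in
theorem main10061 [QuasiSeparatedSpace ↥S] {I : Type u} [SmallCategory I] [IsCofiltered I]
    (Y : Space S) (D : I ⥤ Sp S) (hD : ∀ i, IsAlgSpace (D.obj i))
    (t : D ⟶ (Functor.const I).obj Y.obj)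
    (hDf : ∀ (i j : I) (φ : i ⟶ j), IsFiniteMor (D.map φ))
    (c : Cone D) (hc : IsLimit c) (g : c.pt ⟶ Y.obj) (hg : ∀ i, c.π.app i ≫ t.app i = g)
    (hqc : ∀ i, IsQuasiCompactSp (D.obj i)) (hqs : ∀ i, IsQuasiSeparatedSp (D.obj i))
    (hYqc : IsQuasiCompactSp Y.obj) (hYqs : IsQuasiSeparatedSp Y.obj)
    (hft : ∀ i, LocP @LocallyOfFiniteType (t.app i)) (hX : IsIntegralMor g) :
    ∃ i₀ : I, ∀ (i : I) (_ : i ⟶ i₀), IsFiniteMor (t.app i) := by
  have hDa : ∀ (i j : I) (φ : i ⟶ j), IsAffineMor (D.map φ) := fun i j φ Z hZ a => by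
    obtain ⟨W, m, fst, sq, hW, -⟩ := hDf i j φ hZ a
    exact ⟨W, m, fst, sq, hW⟩
  have hga : IsAffineMor g := fun Z hZ a => by
    obtain ⟨W, m, fst, sq, hW, -⟩ := hX hZ a
    exact ⟨W, m, fst, sq, hW⟩
  obtain ⟨i₁, hta⟩ := main10060 Y D hD t hDa c hc g hg hqc hqs hYqc hYqs hga
  obtain ⟨V₀, v, hV₀, hve, hvs⟩ := exists_affine_atlas hYqc
  haveI := hV₀
  obtain ⟨E, p, q, cE, fst, w, sq, hp, hq, htrans, hqaff, ⟨hl⟩, hw, pb⟩ :=
    exists_tower_over D t hDa c hc g hg i₁ hta v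
  have hDfr : ∀ (i j : I) (φ : i ⟶ j), RepWith @IsFinite (D.map φ) := fun i j φ =>
    (affRep_iff_repWith @IsFinite (fun _ _ g hg => by haveI : IsFinite g := hg; infer_instance)
      (D.map φ)).1 (hDf i j φ)
  have hXr : RepWith @IsIntegralHom g :=
    (affRep_iff_repWith @IsIntegralHom
      (fun _ _ g hg => by haveI : IsIntegralHom g := hg; infer_instance) g).1 hX
  have hEf : ∀ {j k : Over i₁} (φ : j ⟶ k), IsFinite ((E ⋙ Over.forget S).map φ) :=
    fun {j k} φ => (hDfr _ _ φ.left).property _ _ _ (htrans j k φ)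
  have hEa : ∀ j : Over i₁, IsAffine ((E ⋙ Over.forget S).obj j) := fun j => by
    haveI : IsAffineHom (q j).left := hqaff j
    exact isAffine_of_isAffineHom (q j).left
  let q' : (E ⋙ Over.forget S) ⟶ (Functor.const (Over i₁)).obj V₀.left :=
    { app := fun j => (q j).left
      naturality := fun j k φ => by
        change (E.map φ ≫ q k).left = (q j).left ≫ 𝟙 _
        rw [Category.comp_id, hq j k φ] }
  have hq'ft : ∀ j, LocallyOfFiniteType (q'.app j) := fun j =>
    hft j.left (p j) v (q j) (repWith_fst_of_isPullback _ (sq j) hve) hve (sq j).w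
  haveI : IsIntegralHom w.left := hXr.property _ _ _ pb
  obtain ⟨j₀, hj₀⟩ := exists_isFinite_stage (E ⋙ Over.forget S) hEf hEa q' hq'ft
    ((Over.forget S).mapCone cE) hl w.left (fun j => by
      change (cE.π.app j ≫ q j).left = w.left
      rw [hw j])
  refine ⟨j₀.left, fun i ψ => ?_⟩
  have hfin : IsFinite (q (Over.mk (ψ ≫ j₀.hom))).left :=
    hj₀ (Over.mk (ψ ≫ j₀.hom)) (Over.homMk ψ rfl)
  refine of_affine_chart isLocalOnBase_fpqc_isFiniteMor (hD i) Y.property hYqs (t.app i) hV₀ v hve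
    hvs (IsAlgSpace.yon_obj (E.obj (Over.mk (ψ ≫ j₀.hom)))) (sq (Over.mk (ψ ≫ j₀.hom))) ?_
  exact (affRep_iff_repWith @IsFinite
    (fun _ _ g hg => by haveI : IsFinite g := hg; infer_instance) _).2
    ((repWith_yon_map_iff @IsFinite _).2 hfin)

/-! ### S10062 -/

set_option backward.isDefEq.respectTransparency false in
theorem main10062 [QuasiSeparatedSpace ↥S] {I : Type u} [SmallCategory I] [IsCofiltered I]
    (Y : Space S) (D : I ⥤ Sp S) (hD : ∀ i, IsAlgSpace (D.obj i))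
    (t : D ⟶ (Functor.const I).obj Y.obj)
    (hDc : ∀ (i j : I) (φ : i ⟶ j), RepWith @IsClosedImmersion (D.map φ))
    (c : Cone D) (hc : IsLimit c) (g : c.pt ⟶ Y.obj) (hg : ∀ i, c.π.app i ≫ t.app i = g)
    (hqc : ∀ i, IsQuasiCompactSp (D.obj i)) (hqs : ∀ i, IsQuasiSeparatedSp (D.obj i))
    (hYqc : IsQuasiCompactSp Y.obj) (hYqs : IsQuasiSeparatedSp Y.obj)
    (hft : ∀ i, LocP @LocallyOfFiniteType (t.app i)) (hX : RepWith @IsClosedImmersion g) :
    ∃ i₀ : I, ∀ (i : I) (_ : i ⟶ i₀), RepWith @IsClosedImmersion (t.app i) := by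
  have hle : ∀ ⦃A B : Scheme.{u}⦄ (m : A ⟶ B), IsClosedImmersion m → IsAffineHom m :=
    fun _ _ m hm => by haveI : IsClosedImmersion m := hm; infer_instance
  have hDa : ∀ (i j : I) (φ : i ⟶ j), IsAffineMor (D.map φ) := fun i j φ =>
    isAffineMor_of_repWith _ (repWith_mono hle (hDc i j φ))
  have hga : IsAffineMor g := isAffineMor_of_repWith _ (repWith_mono hle hX)
  obtain ⟨i₁, hta⟩ := main10060 Y D hD t hDa c hc g hg hqc hqs hYqc hYqs hga
  obtain ⟨V₀, v, hV₀, hve, hvs⟩ := exists_affine_atlas hYqc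
  haveI := hV₀
  obtain ⟨E, p, q, cE, fst, w, sq, hp, hq, htrans, hqaff, ⟨hl⟩, hw, pb⟩ :=
    exists_tower_over D t hDa c hc g hg i₁ hta v
  have hEc : ∀ {j k : Over i₁} (φ : j ⟶ k), IsClosedImmersion ((E ⋙ Over.forget S).map φ) :=
    fun {j k} φ => (hDc _ _ φ.left).property _ _ _ (htrans j k φ)
  have hEa : ∀ j : Over i₁, IsAffine ((E ⋙ Over.forget S).obj j) := fun j => by
    haveI : IsAffineHom (q j).left := hqaff j
    exact isAffine_of_isAffineHom (q j).left
  let q' : (E ⋙ Over.forget S) ⟶ (Functor.const (Over i₁)).obj V₀.left :=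
    { app := fun j => (q j).left
      naturality := fun j k φ => by
        change (E.map φ ≫ q k).left = (q j).left ≫ 𝟙 _
        rw [Category.comp_id, hq j k φ] }
  have hq'ft : ∀ j, LocallyOfFiniteType (q'.app j) := fun j =>
    hft j.left (p j) v (q j) (repWith_fst_of_isPullback _ (sq j) hve) hve (sq j).w
  haveI : IsClosedImmersion w.left := hX.property _ _ _ pb
  obtain ⟨j₀, hj₀⟩ := exists_isClosedImmersion_stage (E ⋙ Over.forget S) hEc hEa q' hq'ft
    ((Over.forget S).mapCone cE) hl w.left (fun j => by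
      change (cE.π.app j ≫ q j).left = w.left
      rw [hw j])
  refine ⟨j₀.left, fun i ψ => ?_⟩
  have hcl : IsClosedImmersion (q (Over.mk (ψ ≫ j₀.hom))).left :=
    hj₀ (Over.mk (ψ ≫ j₀.hom)) (Over.homMk ψ rfl)
  exact of_affine_chart isLocalOnBase_fpqc_repWith_isClosedImmersion (hD i) Y.property hYqs
    (t.app i) hV₀ v hve hvs (IsAlgSpace.yon_obj (E.obj (Over.mk (ψ ≫ j₀.hom))))
    (sq (Over.mk (ψ ≫ j₀.hom))) ((repWith_yon_map_iff @IsClosedImmersion _).2 hcl)

end Groth.Agent.Lib.LimTowerH7
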