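import Groth.Agent.Lib.LimFin1_helper7
import Mathlib.AlgebraicGeometry.Morphisms.Affine

/-!
# Finiteness at a finite stage: base changes of a morphism along a tower of affine schemes (helper7)
-/

set_option autoImplicit false
set_option linter.style.haveILetI false
set_option linter.unusedSectionVars false

universe u

open CategoryTheory CategoryTheory.Limits AlgebraicGeometry

namespace Groth.Agent.Lib.SchLimTowerH7

/-! ### Ring lemmas -/

/-- Lifting a monic polynomial along a ring homomorphism whose range contains its coefficients. -/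
theorem exists_monic_map_eq {R S : Type u} [CommRing R] [CommRing S] (f : R →+* S)
    (P : Polynomial S) (hP : P.Monic) (h : ∀ n, P.coeff n ∈ Set.range f) :
    ∃ Q : Polynomial R, Q.Monic ∧ Q.map f = P := by
  choose c hc using h
  refine ⟨Polynomial.X ^ P.natDegree +
    ∑ i ∈ Finset.range P.natDegree, Polynomial.C (c i) * Polynomial.X ^ i, ?_, ?_⟩
  · apply Polynomial.monic_X_pow_add
    rw [← Fin.sum_univ_eq_sum_range (fun i => Polynomial.C (c i) * Polynomial.X ^ i) P.natDegree]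
    exact Polynomial.degree_sum_fin_lt _
  · rw [Polynomial.map_add, Polynomial.map_pow, Polynomial.map_X, Polynomial.map_sum]
    conv_rhs => rw [hP.as_sum]
    congr 1
    refine Finset.sum_congr rfl (fun i _ => ?_)
    rw [Polynomial.map_mul, Polynomial.map_C, Polynomial.map_pow, Polynomial.map_X, hc]

/-- In a pushout of commutative rings, generators of one leg generate the pushout over the other
leg. -/
theorem adjoin_eq_top_of_isPushout {R₀ R A₀ P : CommRingCat.{u}} {f : R₀ ⟶ R} {g : R₀ ⟶ A₀}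
    {inl : R ⟶ P} {inr : A₀ ⟶ P} (h : IsPushout f g inl inr) (s : Set A₀)
    (hs : @Algebra.adjoin R₀ A₀ _ _ g.hom.toAlgebra s = ⊤) :
    @Algebra.adjoin R P _ _ inl.hom.toAlgebra (inr.hom '' s) = ⊤ := by
  letI := inl.hom.toAlgebra
  obtain ⟨P', hP'⟩ : ∃ P' : Subalgebra R P, P' = Algebra.adjoin R (inr.hom '' s) := ⟨_, rfl⟩
  rw [← hP']
  have hA : ∀ a : A₀, inr.hom a ∈ P' := by
    letI := g.hom.toAlgebra
    intro a
    have ha : a ∈ Algebra.adjoin R₀ s := by
      rw [hs]
      exact Algebra.mem_top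
    induction ha using Algebra.adjoin_induction with
    | mem x hx =>
      rw [hP']
      exact Algebra.subset_adjoin ⟨x, hx, rfl⟩
    | algebraMap r =>
      have e : inr.hom (g.hom r) = inl.hom (f.hom r) :=
        (congrArg (fun m : R₀ ⟶ P => m.hom r) h.w).symm
      show inr.hom (g.hom r) ∈ P'
      rw [e]
      exact Subalgebra.algebraMap_mem P' (f.hom r)
    | add x y _ _ hx hy =>
      rw [map_add]
      exact Subalgebra.add_mem _ hx hy
    | mul x y _ _ hx hy =>
      rw [map_mul]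
      exact Subalgebra.mul_mem _ hx hy
  let inl' : R ⟶ CommRingCat.of P' := CommRingCat.ofHom (algebraMap R P')
  let inr' : A₀ ⟶ CommRingCat.of P' :=
    CommRingCat.ofHom (inr.hom.codRestrict P'.toSubring hA)
  let ι : CommRingCat.of P' ⟶ P := CommRingCat.ofHom P'.toSubring.subtype
  have hw : f ≫ inl' = g ≫ inr' := by
    ext r
    exact congrArg (fun m : R₀ ⟶ P => m.hom r) h.w
  have h1 : inl' ≫ ι = inl := by
    ext
    rfl
  have h2 : inr' ≫ ι = inr := by
    ext
    rfl
  have hσ : h.desc inl' inr' hw ≫ ι = 𝟙 P := by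
    apply h.hom_ext
    · rw [← Category.assoc, h.inl_desc, h1, Category.comp_id]
    · rw [← Category.assoc, h.inr_desc, h2, Category.comp_id]
  rw [eq_top_iff]
  intro x _
  have e : ι.hom ((h.desc inl' inr' hw).hom x) = x :=
    congrArg (fun m : P ⟶ P => m.hom x) hσ
  rw [← e]
  exact ((h.desc inl' inr' hw).hom x).2

/-! ### Sections of the limit come from a common stage -/

theorem exists_mem_range_appTop_finset {J : Type u} [SmallCategory J] [IsCofiltered J]
    (E : J ⥤ Scheme.{u}) [∀ {j k : J} (φ : j ⟶ k), IsAffineHom (E.map φ)]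
    [∀ j, CompactSpace (E.obj j)] [∀ j, QuasiSeparatedSpace (E.obj j)] (cE : Cone E)
    (hcE : IsLimit cE) (j₁ : J) (T : Finset Γ(cE.pt, ⊤)) :
    ∃ (j : J) (_ : j ⟶ j₁), ∀ x ∈ T, x ∈ Set.range (cE.π.app j).appTop := by
  classical
  induction T using Finset.induction_on with
  | empty => exact ⟨j₁, 𝟙 _, fun x hx => absurd hx (Finset.notMem_empty x)⟩
  | insert x T hx ih =>
    obtain ⟨j₂, φ₂, h₂⟩ := ih
    obtain ⟨j₃, y, hy⟩ := exists_appTop_π_eq_of_isLimit E cE hcE x
    have hmono : ∀ {j k : J} (γ : j ⟶ k) (z : Γ(cE.pt, ⊤)),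
        z ∈ Set.range (cE.π.app k).appTop → z ∈ Set.range (cE.π.app j).appTop := by
      rintro j k γ _ ⟨y', rfl⟩
      refine ⟨(E.map γ).appTop y', ?_⟩
      rw [← CommRingCat.comp_apply, ← Scheme.Hom.comp_appTop, cE.w]
    refine ⟨IsCofiltered.min j₂ j₃, IsCofiltered.minToLeft j₂ j₃ ≫ φ₂, fun z hz => ?_⟩
    rcases Finset.mem_insert.1 hz with rfl | hz
    · exact hmono (IsCofiltered.minToRight j₂ j₃) _ ⟨y, hy.symm⟩
    · exact hmono (IsCofiltered.minToLeft j₂ j₃) _ (h₂ z hz)

/-! ### Finiteness at a finite stage: base changes along a tower -/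

set_option backward.isDefEq.respectTransparency false in
set_option maxHeartbeats 800000 in
/-- Let `h₀ : U₀ ⟶ V₀` be a morphism of finite type of affine schemes, `EV` a tower of affine
schemes over `V₀` and `EU` its base change along `h₀`. If the map of limits is finite, then the
base change is finite at some stage. -/
theorem exists_isFinite_stage₂ {J : Type u} [SmallCategory J] [IsCofiltered J]
    (EU EV : J ⥤ Scheme.{u}) (hUa : ∀ j, IsAffine (EU.obj j)) (hVa : ∀ j, IsAffine (EV.obj j))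
    (η : EU ⟶ EV) {U₀ V₀ : Scheme.{u}} [IsAffine U₀] [IsAffine V₀] (h₀ : U₀ ⟶ V₀)
    [LocallyOfFiniteType h₀] (qU : ∀ j, EU.obj j ⟶ U₀) (qV : ∀ j, EV.obj j ⟶ V₀)
    (hqU : ∀ {j k : J} (φ : j ⟶ k), EU.map φ ≫ qU k = qU j)
    (sq : ∀ j, IsPullback (η.app j) (qU j) (qV j) h₀)
    (cU : Cone EU) (hcU : IsLimit cU) (cV : Cone EV) (hcV : IsLimit cV) (η' : cU.pt ⟶ cV.pt)
    (hη' : ∀ j, η' ≫ cV.π.app j = cU.π.app j ≫ η.app j) [IsFinite η'] :
    ∃ j₀ : J, IsFinite (η.app j₀) := by
  haveI := hUa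
  haveI := hVa
  haveI : ∀ {j k : J} (φ : j ⟶ k), IsAffineHom (EU.map φ) := fun φ => inferInstance
  haveI : ∀ {j k : J} (φ : j ⟶ k), IsAffineHom (EV.map φ) := fun φ => inferInstance
  have hft : RingHom.FiniteType h₀.appTop.hom :=
    (HasRingHomProperty.iff_of_isAffine (P := @LocallyOfFiniteType)).1 inferInstance
  obtain ⟨⟨s₀, hs₀⟩⟩ := hft
  obtain ⟨j₁⟩ := IsCofiltered.nonempty (C := J)
  haveI : IsAffineHom (cV.π.app j₁) := isAffineHom_π_app EV cV hcV j₁
  haveI : IsAffine cV.pt := isAffine_of_isAffineHom (cV.π.app j₁)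
  have hint : RingHom.IsIntegral η'.appTop.hom := RingHom.Finite.to_isIntegral
    ((HasAffineProperty.iff_of_isAffine (P := @IsFinite)).1 inferInstance).2
  obtain ⟨wU, hwU⟩ : ∃ wU : cU.pt ⟶ U₀, wU = cU.π.app j₁ ≫ qU j₁ := ⟨_, rfl⟩
  have hwU' : ∀ {j : J} (φ : j ⟶ j₁), cU.π.app j ≫ qU j = wU := fun {j} φ => by
    rw [hwU, ← hqU φ, ← Category.assoc, cU.w]
  have hex : ∀ a : Γ(U₀, ⊤), ∃ P : Polynomial Γ(cV.pt, ⊤), P.Monic ∧
      Polynomial.eval₂ η'.appTop.hom (wU.appTop a) P = 0 := fun a => hint (wU.appTop a)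
  choose P hPm hP0 using hex
  classical
  obtain ⟨j₂, φ₂, hj₂⟩ := exists_mem_range_appTop_finset EV cV hcV j₁
    (s₀.biUnion fun a => (P a).coeffs)
  have hQ : ∀ a ∈ s₀, ∃ Q : Polynomial Γ(EV.obj j₂, ⊤),
      Q.Monic ∧ Q.map (cV.π.app j₂).appTop.hom = P a := by
    intro a ha
    refine exists_monic_map_eq _ (P a) (hPm a) (fun n => ?_)
    by_cases h0 : (P a).coeff n = 0
    · rw [h0]
      exact ⟨0, map_zero _⟩
    · exact hj₂ _ (Finset.mem_biUnion.2 ⟨a, ha, Polynomial.coeff_mem_coeffs h0⟩)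
  choose! Q hQm hQmap using hQ
  have hcomm₂ : (η.app j₂).appTop ≫ (cU.π.app j₂).appTop =
      (cV.π.app j₂).appTop ≫ η'.appTop := by
    rw [← Scheme.Hom.comp_appTop, ← Scheme.Hom.comp_appTop, hη' j₂]
  have hb : ∀ a ∈ s₀, (cU.π.app j₂).appTop
      (Polynomial.eval₂ (η.app j₂).appTop.hom ((qU j₂).appTop a) (Q a)) = 0 := by
    intro a ha
    have e1 := Polynomial.hom_eval₂ (Q a) (η.app j₂).appTop.hom (cU.π.app j₂).appTop.hom
      ((qU j₂).appTop a)
    refine e1.trans ?_
    have e2 : (cU.π.app j₂).appTop.hom.comp (η.app j₂).appTop.hom =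
        η'.appTop.hom.comp (cV.π.app j₂).appTop.hom := congrArg CommRingCat.Hom.hom hcomm₂
    have e3 : (cU.π.app j₂).appTop.hom ((qU j₂).appTop a) = wU.appTop a := by
      rw [← hwU' φ₂, Scheme.Hom.comp_appTop]
      rfl
    rw [e2, e3, ← Polynomial.eval₂_map, hQmap a ha]
    exact hP0 a
  obtain ⟨j₃, φ₃, hj₃⟩ := exists_map_appTop_eq_zero_finset EU cU hcU j₂
    (s₀.image fun a => Polynomial.eval₂ (η.app j₂).appTop.hom ((qU j₂).appTop a) (Q a)) (by
      intro b hb'
      obtain ⟨a, ha, rfl⟩ := Finset.mem_image.1 hb'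
      exact hb a ha)
  refine ⟨j₃, ?_⟩
  have hnat₃ : (η.app j₂).appTop ≫ (EU.map φ₃).appTop =
      (EV.map φ₃).appTop ≫ (η.app j₃).appTop := by
    rw [← Scheme.Hom.comp_appTop, ← Scheme.Hom.comp_appTop, η.naturality φ₃]
  have hgen : ∀ a ∈ s₀, (η.app j₃).appTop.hom.IsIntegralElem ((qU j₃).appTop a) := by
    intro a ha
    refine ⟨(Q a).map (EV.map φ₃).appTop.hom, (hQm a ha).map _, ?_⟩
    rw [Polynomial.eval₂_map]
    have e2 : (η.app j₃).appTop.hom.comp (EV.map φ₃).appTop.hom =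
        (EU.map φ₃).appTop.hom.comp (η.app j₂).appTop.hom :=
      (congrArg CommRingCat.Hom.hom hnat₃).symm
    have e3 : (qU j₃).appTop a = (EU.map φ₃).appTop.hom ((qU j₂).appTop a) := by
      rw [← hqU φ₃, Scheme.Hom.comp_appTop]
      rfl
    rw [e2, e3, ← Polynomial.hom_eval₂]
    exact hj₃ _ (Finset.mem_image_of_mem _ ha)
  have hpo := isPushout_appTop_of_isPullback (sq j₃)
  have htop := adjoin_eq_top_of_isPushout hpo (↑s₀) hs₀
  have hint₃ : RingHom.IsIntegral (η.app j₃).appTop.hom := by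
    have h1 := isIntegral_comp_of_adjoin (η.app j₃).appTop.hom (RingHom.id _)
      (RingHom.isIntegral_of_surjective _ Function.surjective_id) _ htop (by
        rintro _ ⟨a, ha, rfl⟩
        rw [RingHom.id_comp]
        exact hgen a ha)
    rw [RingHom.id_comp] at h1
    exact h1
  haveI : IsIntegralHom (η.app j₃) :=
    (HasAffineProperty.iff_of_isAffine (P := @IsIntegralHom)).2 ⟨hUa j₃, hint₃⟩
  haveI : LocallyOfFiniteType (η.app j₃) :=
    MorphismProperty.of_isPullback (P := @LocallyOfFiniteType) (sq j₃).flip inferInstance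
  exact (IsFinite.iff_isIntegralHom_and_locallyOfFiniteType _).2 ⟨inferInstance, inferInstance⟩

end Groth.Agent.Lib.SchLimTowerH7
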