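import Groth.Agent.Lib.LimFin2_helper7
import Groth.Agent.Lib.LimFin3_helper7
import Groth.Agent.Lib.SchImage_helper7

/-!
# Finite morphisms and closed immersions descend to a finite stage of a limit (helper7)

`main10018`, `main10019`.
-/

set_option autoImplicit false
set_option linter.style.haveILetI false

universe u

open CategoryTheory CategoryTheory.Limits AlgebraicGeometry Opposite Topology
open AlgSp Groth.Agent.Lib.AlgSpPullback_helper7 Groth.Agent.Lib.AlgSpQC_helper7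
  Groth.Agent.Lib.AlgSpPoints_helper7 Groth.Agent.Lib.AlgSpQC2_helper7
  Groth.Agent.Lib.MonicGsectH6 Groth.Agent.Lib.AlgSpSep_helper7
  Groth.Agent.Lib.AlgSpDiag_helper7 Groth.Agent.Lib.AlgSpProper_helper7
  Groth.Agent.Lib.AlgSpEpi_helper7 Groth.Agent.Lib.AlgSpFormal5_helper7
  Groth.Agent.Lib.AlgSpIso_helper7
  Groth.Agent.Lib.SchLimTowerH7
  Groth.Agent.Lib.AlgSpLocP_helper7 Groth.Agent.Lib.AlgSpAffineMorH7 Groth.Agent.Lib.AffDescH7
  Groth.Agent.Lib.AlgSpFpqc3_helper7 Groth.Agent.Lib.AlgSpLocP4_helper7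

namespace Groth.Agent.Lib.LimTowerH7

variable {S : Scheme.{u}}

/-- The base change of a tower of schemes over `V₀` along `h₀ : U₀ ⟶ V₀`, with its limit. -/
theorem exists_tower_baseChange {J : Type u} [SmallCategory J] [IsCofiltered J]
    (EV : J ⥤ Over S) (hEVaff : ∀ (j k : J) (φ : j ⟶ k), IsAffineHom (EV.map φ).left)
    {V₀ U₀ : Over S} (qV : ∀ j, EV.obj j ⟶ V₀)
    (hqV : ∀ (j k : J) (φ : j ⟶ k), EV.map φ ≫ qV k = qV j)
    (cEV : Cone EV) (hcEV : IsLimit cEV) (wV : cEV.pt ⟶ V₀)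
    (hwV : ∀ j, cEV.π.app j ≫ qV j = wV) (h₀ : U₀ ⟶ V₀) :
    ∃ (EU : J ⥤ Over S) (η : EU ⟶ EV) (qU : ∀ j, EU.obj j ⟶ U₀) (cEU : Cone EU)
      (η' : cEU.pt ⟶ cEV.pt) (wU : cEU.pt ⟶ U₀),
      (∀ j, IsPullback (η.app j) (qU j) (qV j) h₀) ∧
      (∀ (j k : J) (φ : j ⟶ k), EU.map φ ≫ qU k = qU j) ∧
      Nonempty (IsLimit ((Over.forget S).mapCone cEU)) ∧
      (∀ j, η' ≫ cEV.π.app j = cEU.π.app j ≫ η.app j) ∧
      (∀ j, cEU.π.app j ≫ qU j = wU) ∧ IsPullback η' wU wV h₀ := by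
  let τ' : (EV ⋙ yon S) ⟶ (Functor.const J).obj ((yon S).obj V₀) :=
    { app := fun j => (yon S).map (qV j)
      naturality := fun j k φ => by
        change (yon S).map (EV.map φ) ≫ (yon S).map (qV k) = (yon S).map (qV j) ≫ 𝟙 _
        rw [Category.comp_id, ← Functor.map_comp, hqV j k φ] }
  let cY' : Cone ((Functor.const J).obj ((yon S).obj V₀)) :=
    { pt := (yon S).obj V₀, π := 𝟙 _ }
  have hτ' : ∀ j : J, (yon S).relativelyRepresentable (τ'.app j) :=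
    fun j => representable_yon_map (qV j)
  let EU : J ⥤ Over S := tower τ' hτ' cY' ((yon S).map h₀)
  let tp : ∀ j, (yon S).obj (EU.obj j) ⟶ (yon S).obj (EV.obj j) :=
    fun j => tP τ' hτ' cY' ((yon S).map h₀) j
  let qU : ∀ j, EU.obj j ⟶ U₀ := fun j => tQ τ' hτ' cY' ((yon S).map h₀) j
  have sq' : ∀ j, IsPullback (tp j) ((yon S).map (qU j)) (τ'.app j)
      ((yon S).map h₀ ≫ cY'.π.app j) := fun j => t_sq τ' hτ' cY' _ j
  have htp : ∀ (j k : J) (φ : j ⟶ k),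
      (yon S).map (EU.map φ) ≫ tp k = tp j ≫ (EV ⋙ yon S).map φ :=
    fun j k φ => tMap_p τ' hτ' cY' _ φ
  have hqU : ∀ (j k : J) (φ : j ⟶ k), EU.map φ ≫ qU k = qU j :=
    fun j k φ => tMap_q τ' hτ' cY' _ φ
  let η : EU ⟶ EV :=
    { app := fun j => (yon S).preimage (tp j)
      naturality := fun j k φ => by
        apply (yon S).map_injective
        rw [Functor.map_comp, Functor.map_comp, Functor.map_preimage, Functor.map_preimage]
        exact htp j k φ }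
  have hη : ∀ j, (yon S).map (η.app j) = tp j := fun j => (yon S).map_preimage _
  have sqY : ∀ j, IsPullback ((yon S).map (η.app j)) ((yon S).map (qU j))
      ((yon S).map (qV j)) ((yon S).map h₀) := fun j => by
    have h1 := sq' j
    have e : (yon S).map h₀ ≫ cY'.π.app j = (yon S).map h₀ := Category.comp_id _
    rw [e] at h1
    rw [hη j]
    exact h1
  have sqY' : ∀ j, IsPullback (tp j) ((yon S).map (qU j)) ((yon S).map (qV j))
      ((yon S).map h₀) := fun j => by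
    have h1 := sqY j
    rw [hη j] at h1
    exact h1
  have sqO : ∀ j, IsPullback (η.app j) (qU j) (qV j) h₀ := fun j =>
    IsPullback.of_map (yon S) (by
      apply (yon S).map_injective
      rw [Functor.map_comp, Functor.map_comp]
      exact (sqY j).w) (sqY j)
  have htrans : ∀ (j k : J) (φ : j ⟶ k), IsPullback (tp j) ((yon S).map (EU.map φ))
      ((yon S).map (EV.map φ)) (tp k) := fun j k φ => by
    have outer : IsPullback ((yon S).map (EU.map φ) ≫ (yon S).map (qU k)) (tp j)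
        ((yon S).map h₀) ((yon S).map (EV.map φ) ≫ (yon S).map (qV k)) := by
      rw [← Functor.map_comp, hqU j k φ, ← Functor.map_comp, hqV j k φ]
      exact (sqY' j).flip
    exact (IsPullback.of_right outer (htp j k φ) (sqY' k).flip).flip
  have hEUaff : ∀ (j k : J) (φ : j ⟶ k), IsAffineHom (EU.map φ).left := fun j k φ =>
    ((repWith_yon_map_iff @IsAffineHom (EV.map φ)).2 (hEVaff j k φ)).property _ _ _
      (htrans j k φ)
  obtain ⟨cEU, ⟨hcEU⟩, ⟨hlU⟩, -⟩ := exists_limit_over EU hEUaff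
  obtain ⟨j₀⟩ := IsCofiltered.nonempty (C := J)
  let wU : cEU.pt ⟶ U₀ := cEU.π.app j₀ ≫ qU j₀
  have hwU : ∀ j, cEU.π.app j ≫ qU j = wU := fun j => by
    have e1 : cEU.π.app (IsCofiltered.min j j₀) ≫ qU (IsCofiltered.min j j₀) =
        cEU.π.app j ≫ qU j := by
      rw [← hqU _ _ (IsCofiltered.minToLeft j j₀), ← Category.assoc, cEU.w]
    have e2 : cEU.π.app (IsCofiltered.min j j₀) ≫ qU (IsCofiltered.min j j₀) =
        cEU.π.app j₀ ≫ qU j₀ := by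
      rw [← hqU _ _ (IsCofiltered.minToRight j j₀), ← Category.assoc, cEU.w]
    exact e1.symm.trans e2
  obtain ⟨fst', hfst', pb'⟩ := isPullback_limit τ' ((yon S).mapCone cEV)
    (isLimitOfPreserves (yon S) hcEV) cY'
    (fun a b h => (Category.comp_id a).symm.trans ((h j₀).trans (Category.comp_id b)))
    ((yon S).map wV)
    (fun j => by
      show (yon S).map wV ≫ 𝟙 _ = (yon S).map (cEV.π.app j) ≫ (yon S).map (qV j)
      rw [Category.comp_id, ← Functor.map_comp, hwV j])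
    ((yon S).map h₀) EU tp qU sq' htp hqU cEU hcEU wU hwU j₀
  refine ⟨EU, η, qU, cEU, (yon S).preimage fst', wU, sqO, hqU, ⟨hlU⟩, fun j => ?_, hwU, ?_⟩
  · apply (yon S).map_injective
    rw [Functor.map_comp, Functor.map_comp, Functor.map_preimage, hη j]
    exact hfst' j
  · refine IsPullback.of_map (yon S) ?_ ?_
    · apply (yon S).map_injective
      rw [Functor.map_comp, Functor.map_comp, Functor.map_preimage]
      exact pb'.w
    · rw [Functor.map_preimage]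
      exact pb'

/-- The cube of base changes, second form. -/
theorem isPullback_cube' {X₀ Y₀ V₀ U₀ Y' X W T : Sp S} {f₀ : X₀ ⟶ Y₀} {v : V₀ ⟶ Y₀}
    {u : U₀ ⟶ X₀} {h₀ : U₀ ⟶ V₀} (hU₀ : IsPullback u h₀ f₀ v) {pY : Y' ⟶ Y₀} {f : X ⟶ Y'}
    {pX : X ⟶ X₀} (hX : IsPullback pX f f₀ pY) {vW : W ⟶ Y'} {iW : W ⟶ V₀}
    (sqC : IsPullback vW iW pY v) {ηW : T ⟶ W} {tU : T ⟶ U₀}
    (sq1 : IsPullback ηW tU iW h₀) :
    ∃ a : T ⟶ X, a ≫ pX = tU ≫ u ∧ IsPullback a ηW f vW := by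
  have big : IsPullback (tU ≫ u) ηW f₀ (iW ≫ v) := sq1.flip.paste_horiz hU₀
  exact exists_isPullback_trans hX vW sqC.w big

/-- A finite monomorphism is a closed immersion. -/
theorem repWith_isClosedImmersion_of_isFinite_of_mono {F G : Sp S} (f : F ⟶ G)
    (hf : RepWith @IsFinite f) [Mono f] : RepWith @IsClosedImmersion f := by
  refine ⟨hf.rep, fun T V g fst snd sq => ?_⟩
  have hfin : IsFinite snd.left := hf.property g fst snd sq
  haveI : Mono ((yon S).map snd) := mono_snd_of_isPullback sq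
  haveI : Mono snd := (yon S).mono_of_mono_map inferInstance
  haveI : Mono snd.left := inferInstance
  exact (IsClosedImmersion.iff_isFinite_and_mono _).2 ⟨hfin, inferInstance⟩

/-! ### S10018 -/

set_option backward.isDefEq.respectTransparency false in
set_option maxHeartbeats 1600000 in
/-- The case of an affine morphism `f₀`. -/
theorem main10018_affine [QuasiSeparatedSpace ↥S] {I : Type u} [SmallCategory I]
    [IsCofiltered I] (D : I ⥤ Sp S) (hD : ∀ i, IsAlgSpace (D.obj i))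
    (hDa : ∀ (i j : I) (φ : i ⟶ j), IsAffineMor (D.map φ))
    (c : Cone D) (hc : IsLimit c) (i₀ : I)
    (X₀ Y₀ : Space S) (f₀ : X₀.obj ⟶ Y₀.obj) (b₀ : Y₀.obj ⟶ D.obj i₀)
    (hYqc : IsQuasiCompactSp Y₀.obj) (hYqs : IsQuasiSeparatedSp Y₀.obj)
    (X Y : Sp S) (f : X ⟶ Y) (pY : Y ⟶ Y₀.obj) (qY : Y ⟶ c.pt)
    (hY : IsPullback pY qY b₀ (c.π.app i₀)) (pX : X ⟶ X₀.obj) (hX : IsPullback pX f f₀ pY)
    (hf : IsFiniteMor f) (hf₀ : LocP @LocallyOfFiniteType f₀) (hf₀a : IsAffineMor f₀) :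
    ∃ (i : I) (φ : i ⟶ i₀), ∀ (Xi Yi : Sp S) (fi : Xi ⟶ Yi) (pYi : Yi ⟶ Y₀.obj)
      (qYi : Yi ⟶ D.obj i) (_ : IsPullback pYi qYi b₀ (D.map φ)) (pXi : Xi ⟶ X₀.obj)
      (_ : IsPullback pXi fi f₀ pYi), IsFiniteMor fi := by
  obtain ⟨V₀, v, hV₀, hve, hvs⟩ := exists_affine_atlas hYqc
  haveI := hV₀
  obtain ⟨U₀, h₀, u, hU₀, hU₀aff⟩ := hf₀a hV₀ v
  haveI := hU₀aff
  haveI : LocallyOfFiniteType h₀.left :=
    hf₀ u v h₀ (repWith_fst_of_isPullback _ hU₀ hve) hve hU₀.w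
  obtain ⟨EV, pV, qV, cEV, fstV, wV, sqV, hpV, hqV, hEVaff, hqVaff, ⟨hcEV⟩, ⟨hlV⟩, hπVaff, hwV,
    hfstV, pbV, hwVaff⟩ := exists_tower D hDa c hc i₀ (v ≫ b₀)
  obtain ⟨EU, η, qU, cEU, η', wU, sqO, hqU, ⟨hlU⟩, hη', hwU, pbO⟩ :=
    exists_tower_baseChange EV hEVaff qV hqV cEV hcEV wV hwV h₀
  have hEVa : ∀ j : Over i₀, IsAffine ((EV ⋙ Over.forget S).obj j) := fun j => by
    haveI : IsAffineHom (qV j).left := hqVaff j
    exact isAffine_of_isAffineHom (qV j).left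
  have sqSch : ∀ j, IsPullback (η.app j).left (qU j).left (qV j).left h₀.left :=
    fun j => (sqO j).map (Over.forget S)
  have hEUa : ∀ j : Over i₀, IsAffine ((EU ⋙ Over.forget S).obj j) := fun j => by
    haveI : IsAffine (EV.obj j).left := hEVa j
    exact IsAffine.of_isPullback (sqSch j)
  -- finiteness of the limit map
  obtain ⟨vW, -, -, sqC, -⟩ := isPullback_cube hU₀ hY hX pbV
  obtain ⟨a, -, sqa⟩ := isPullback_cube' hU₀ hX sqC (pbO.map (yon S))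
  have hfr : RepWith @IsFinite f :=
    (affRep_iff_repWith @IsFinite (fun _ _ g hg => by haveI : IsFinite g := hg; infer_instance)
      f).1 hf
  haveI : IsFinite η'.left := hfr.property _ _ _ sqa
  obtain ⟨j₀, hj₀⟩ := exists_isFinite_stage₂ (EU ⋙ Over.forget S) (EV ⋙ Over.forget S) hEUa hEVa
    (Functor.whiskerRight η (Over.forget S)) h₀.left (fun j => (qU j).left)
    (fun j => (qV j).left)
    (fun {j k} φ => by
      change (EU.map φ ≫ qU k).left = (qU j).left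
      rw [hqU j k φ])
    sqSch ((Over.forget S).mapCone cEU) hlU ((Over.forget S).mapCone cEV) hlV η'.left
    (fun j => by
      change (η' ≫ cEV.π.app j).left = (cEU.π.app j ≫ η.app j).left
      rw [hη' j])
  refine ⟨j₀.left, j₀.hom, ?_⟩
  intro Xi Yi fi pYi qYi hYi pXi hXi
  have hYialg : IsAlgSpace Yi :=
    isAlgSpace_of_isPullback (hD i₀).diag Y₀.property (hD j₀.left) hYi
  have hXialg : IsAlgSpace Xi :=
    isAlgSpace_of_isPullback Y₀.property.diag X₀.property hYialg hXi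
  obtain ⟨-, hYiqs⟩ := qcqs_of_repWith_isAffineHom pYi
    (repWith_fst_of_isPullback _ hYi (repWith_isAffineHom_of_isAffineMor _ (hDa _ _ j₀.hom)))
    hYqc hYqs
  obtain ⟨vWi, -, -, sqCi, -⟩ := isPullback_cube hU₀ hYi hXi (sqV j₀)
  obtain ⟨ai, -, sqai⟩ := isPullback_cube' hU₀ hXi sqCi ((sqO j₀).map (yon S))
  refine of_affine_chart isLocalOnBase_fpqc_isFiniteMor hXialg hYialg hYiqs fi (hEVa j₀) vWi
    (repWith_fst_of_isPullback _ sqCi hve) (repWith_fst_of_isPullback _ sqCi hvs)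
    (IsAlgSpace.yon_obj (EU.obj j₀)) sqai ?_
  exact (affRep_iff_repWith @IsFinite
    (fun _ _ g hg => by haveI : IsFinite g := hg; infer_instance) _).2
    ((repWith_yon_map_iff @IsFinite _).2 hj₀)

set_option backward.isDefEq.respectTransparency false in
theorem main10018 [QuasiSeparatedSpace ↥S] {I : Type u} [SmallCategory I] [IsCofiltered I]
    (D : I ⥤ Sp S) (hD : ∀ i, IsAlgSpace (D.obj i))
    (hDa : ∀ (i j : I) (φ : i ⟶ j), IsAffineMor (D.map φ))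
    (c : Cone D) (hc : IsLimit c) (i₀ : I)
    (X₀ Y₀ : Space S) (f₀ : X₀.obj ⟶ Y₀.obj) (b₀ : Y₀.obj ⟶ D.obj i₀)
    (hXqc : IsQuasiCompactSp X₀.obj) (hXqs : IsQuasiSeparatedSp X₀.obj)
    (hYqc : IsQuasiCompactSp Y₀.obj) (hYqs : IsQuasiSeparatedSp Y₀.obj)
    (X Y : Sp S) (f : X ⟶ Y) (pY : Y ⟶ Y₀.obj) (qY : Y ⟶ c.pt)
    (hY : IsPullback pY qY b₀ (c.π.app i₀)) (pX : X ⟶ X₀.obj) (hX : IsPullback pX f f₀ pY)
    (hf : IsFiniteMor f) (hf₀ : LocP @LocallyOfFiniteType f₀) :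
    ∃ (i : I) (φ : i ⟶ i₀), ∀ (Xi Yi : Sp S) (fi : Xi ⟶ Yi) (pYi : Yi ⟶ Y₀.obj)
      (qYi : Yi ⟶ D.obj i) (_ : IsPullback pYi qYi b₀ (D.map φ)) (pXi : Xi ⟶ X₀.obj)
      (_ : IsPullback pXi fi f₀ pYi), IsFiniteMor fi := by
  have hfa : IsAffineMor f := fun Z hZ a => by
    obtain ⟨W, m, fst, sq, hW, -⟩ := hf hZ a
    exact ⟨W, m, fst, sq, hW⟩
  obtain ⟨i₁, φ₁, h₁⟩ := main10017 D hD hDa c hc i₀ X₀ Y₀ f₀ b₀ hXqc hXqs hYqc hYqs X Y f pY qY
    hY pX hX hfa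
  obtain ⟨Y₁, pY₁, b₁, sqY₁⟩ : ∃ (Y₁ : Sp S) (pY₁ : Y₁ ⟶ Y₀.obj) (b₁ : Y₁ ⟶ D.obj i₁),
      IsPullback pY₁ b₁ b₀ (D.map φ₁) := ⟨_, _, _, IsPullback.of_hasPullback b₀ (D.map φ₁)⟩
  obtain ⟨X₁, pX₁, f₁, sqX₁⟩ : ∃ (X₁ : Sp S) (pX₁ : X₁ ⟶ X₀.obj) (f₁ : X₁ ⟶ Y₁),
      IsPullback pX₁ f₁ f₀ pY₁ := ⟨_, _, _, IsPullback.of_hasPullback f₀ pY₁⟩
  have hf₁a : IsAffineMor f₁ := h₁ X₁ Y₁ f₁ pY₁ b₁ sqY₁ pX₁ sqX₁
  have hY₁alg : IsAlgSpace Y₁ := isAlgSpace_of_isPullback (hD i₀).diag Y₀.property (hD i₁) sqY₁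
  have hX₁alg : IsAlgSpace X₁ :=
    isAlgSpace_of_isPullback Y₀.property.diag X₀.property hY₁alg sqX₁
  obtain ⟨hY₁qc, hY₁qs⟩ := qcqs_of_repWith_isAffineHom pY₁
    (repWith_fst_of_isPullback _ sqY₁ (repWith_isAffineHom_of_isAffineMor _ (hDa _ _ φ₁)))
    hYqc hYqs
  have hf₁ : LocP @LocallyOfFiniteType f₁ :=
    locP_baseChange etLocal_locallyOfFiniteType X₀.property Y₀.property hY₁alg f₀ pY₁ pX₁ f₁
      sqX₁ hf₀
  obtain ⟨pY', hpY', hY'⟩ := exists_isPullback_trans sqY₁ (c.π.app i₁) (c.w φ₁) hY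
  obtain ⟨pX', -, hX'⟩ := exists_isPullback_trans sqX₁ pY' hpY' hX
  obtain ⟨i, φ₂, h₂⟩ := main10018_affine D hD hDa c hc i₁ ⟨X₁, hX₁alg⟩ ⟨Y₁, hY₁alg⟩ f₁ b₁ hY₁qc
    hY₁qs X Y f pY' qY hY' pX' hX' hf hf₁ hf₁a
  refine ⟨i, φ₂ ≫ φ₁, ?_⟩
  intro Xi Yi fi pYi qYi hYi pXi hXi
  obtain ⟨pYi', hpYi', hYi'⟩ := exists_isPullback_trans sqY₁ (D.map φ₂)
    (by rw [← D.map_comp]) hYi
  obtain ⟨pXi', -, hXi'⟩ := exists_isPullback_trans sqX₁ pYi' hpYi' hXi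
  exact h₂ Xi Yi fi pYi' qYi hYi' pXi' hXi'

/-! ### S10019 -/

set_option backward.isDefEq.respectTransparency false in
theorem main10019 [QuasiSeparatedSpace ↥S] {I : Type u} [SmallCategory I] [IsCofiltered I]
    (D : I ⥤ Sp S) (hD : ∀ i, IsAlgSpace (D.obj i))
    (hDa : ∀ (i j : I) (φ : i ⟶ j), IsAffineMor (D.map φ))
    (c : Cone D) (hc : IsLimit c) (i₀ : I)
    (X₀ Y₀ : Space S) (f₀ : X₀.obj ⟶ Y₀.obj) (b₀ : Y₀.obj ⟶ D.obj i₀)
    (hXqc : IsQuasiCompactSp X₀.obj) (hXqs : IsQuasiSeparatedSp X₀.obj)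
    (hYqc : IsQuasiCompactSp Y₀.obj) (hYqs : IsQuasiSeparatedSp Y₀.obj)
    (X Y : Sp S) (f : X ⟶ Y) (pY : Y ⟶ Y₀.obj) (qY : Y ⟶ c.pt)
    (hY : IsPullback pY qY b₀ (c.π.app i₀)) (pX : X ⟶ X₀.obj) (hX : IsPullback pX f f₀ pY)
    (hf : RepWith @IsClosedImmersion f) (hf₀ : LocP @LocallyOfFiniteType f₀) :
    ∃ (i : I) (φ : i ⟶ i₀), ∀ (Xi Yi : Sp S) (fi : Xi ⟶ Yi) (pYi : Yi ⟶ Y₀.obj)
      (qYi : Yi ⟶ D.obj i) (_ : IsPullback pYi qYi b₀ (D.map φ)) (pXi : Xi ⟶ X₀.obj)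
      (_ : IsPullback pXi fi f₀ pYi), RepWith @IsClosedImmersion fi := by
  have hfinaff : ∀ ⦃A B : Scheme.{u}⦄ (g : A ⟶ B), IsFinite g → IsAffineHom g :=
    fun _ _ g hg => by haveI : IsFinite g := hg; infer_instance
  have hffin : IsFiniteMor f := (affRep_iff_repWith @IsFinite hfinaff f).2
    (repWith_mono (fun _ _ g hg => by haveI : IsClosedImmersion g := hg; infer_instance) hf)
  haveI : Mono f := Groth.Agent.Lib.SchImageH7.mono_of_closedImmersion f hf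
  obtain ⟨i₁, φ₁, h₁⟩ := main10018 D hD hDa c hc i₀ X₀ Y₀ f₀ b₀ hXqc hXqs hYqc hYqs X Y f pY qY
    hY pX hX hffin hf₀
  obtain ⟨i₂, φ₂, h₂⟩ := main10022 D hDa c hc i₀ X₀ Y₀ f₀ b₀ hXqc hXqs hYqc hYqs X Y f pY qY hY
    pX hX hf₀
  obtain ⟨i, α, β, hαβ⟩ := IsCofiltered.cospan φ₁ φ₂
  refine ⟨i, α ≫ φ₁, ?_⟩
  intro Xi Yi fi pYi qYi hYi pXi hXi
  obtain ⟨X₁, Y₁, f₁, pY₁, qY₁, hY₁, pX₁, hX₁, g', g, sq⟩ :=
    exists_later_stage_square D f₀ b₀ φ₁ α hYi hXi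
  have hfinr : RepWith @IsFinite fi := repWith_snd_of_isPullback _ sq
    ((affRep_iff_repWith @IsFinite hfinaff f₁).1 (h₁ X₁ Y₁ f₁ pY₁ qY₁ hY₁ pX₁ hX₁))
  have hYi₂ : IsPullback pYi qYi b₀ (D.map (β ≫ φ₂)) := by
    rw [← hαβ]
    exact hYi
  obtain ⟨X₂, Y₂, f₂, pY₂, qY₂, hY₂, pX₂, hX₂, g₂', g₂, sq₂⟩ :=
    exists_later_stage_square D f₀ b₀ φ₂ β hYi₂ hXi
  haveI : Mono f₂ := h₂ X₂ Y₂ f₂ pY₂ qY₂ hY₂ pX₂ hX₂
  haveI : Mono fi := mono_snd_of_isPullback sq₂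
  exact repWith_isClosedImmersion_of_isFinite_of_mono fi hfinr

end Groth.Agent.Lib.LimTowerH7
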