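import Mathlib
import Groth.Prelude
import Groth.Agent.Lib.LimFlatDesc_helper7

/-!
# Finite locally free of degree `d` descends to a stage of a cofiltered limit (helper7)
-/

set_option autoImplicit false
set_option linter.style.haveILetI false
set_option backward.isDefEq.respectTransparency false
universe u v
open CategoryTheory CategoryTheory.Limits AlgebraicGeometry

namespace Groth.Agent.Lib.LimFinRankH7

open Groth.Agent.Lib.LimBaseChangeH7 Groth.Agent.Lib.LimIsoH7 Groth.Agent.Lib.LimSrcH7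
  Groth.Agent.Lib.LimAlgH7 Groth.Agent.Lib.LimFlatDescH7 Groth.Agent.Lib.LimDescendH7

/-- `Mor2.IsFinLocFreeOfDeg d` as a morphism property. -/
def FLF (d : ℕ) : MorphismProperty Scheme.{u} := fun _ _ f => Mor2.IsFinLocFreeOfDeg d f

lemma flf_of_isPullback (d : ℕ) {P X Y Z : Scheme.{u}} {fst : P ⟶ X} {snd : P ⟶ Y} {f : X ⟶ Z}
    {g : Y ⟶ Z} (sq : IsPullback fst snd f g) (hf : Mor2.IsFinLocFree f)
    (hr : ∀ y : Y, f.finrank (g y) = d) : FLF d snd := by
  obtain ⟨h1, h2, h3⟩ := hf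
  haveI := h1
  haveI := h2
  haveI := h3
  refine ⟨⟨MorphismProperty.of_isPullback (P := @IsFinite) sq h1,
    MorphismProperty.of_isPullback (P := @Flat) sq h2,
    MorphismProperty.of_isPullback (P := @LocallyOfFinitePresentation) sq h3⟩, fun y => ?_⟩
  rw [Scheme.Hom.finrank_of_isPullback fst snd f g sq y]
  exact hr y

instance (d : ℕ) : (FLF.{u} d).IsStableUnderBaseChange where
  of_isPullback {X Y Y' S f g f' g'} sq hg :=
    flf_of_isPullback d sq hg.1 (fun y => hg.2 _)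

instance (d : ℕ) : (FLF.{u} d).RespectsIso :=
  MorphismProperty.IsStableUnderBaseChange.respectsIso

instance (d : ℕ) : IsZariskiLocalAtTarget (FLF.{u} d) := by
  refine IsZariskiLocalAtTarget.mk' (fun f U hf => ?_) (fun {X Y} f ι U hU h => ?_)
  · exact MorphismProperty.of_isPullback (P := FLF d) (isPullback_morphismRestrict f U).flip hf
  · haveI : IsFinite f :=
      IsZariskiLocalAtTarget.of_iSup_eq_top U hU (fun i => (h i).1.1)
    haveI : Flat f :=
      IsZariskiLocalAtTarget.of_iSup_eq_top U hU (fun i => (h i).1.2.1)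
    haveI : LocallyOfFinitePresentation f :=
      IsZariskiLocalAtTarget.of_iSup_eq_top U hU (fun i => (h i).1.2.2)
    refine ⟨⟨inferInstance, inferInstance, inferInstance⟩, fun y => ?_⟩
    have hy : y ∈ (⊤ : Y.Opens) := trivial
    rw [← hU] at hy
    obtain ⟨i, hi⟩ := TopologicalSpace.Opens.mem_iSup.mp hy
    have e := Scheme.Hom.finrank_of_isPullback (f ⁻¹ᵁ U i).ι (f ∣_ U i) f (U i).ι
      (isPullback_morphismRestrict f (U i)).flip ⟨y, hi⟩
    have e' : f.finrank y = (f ∣_ U i).finrank ⟨y, hi⟩ := e.symm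
    rw [e']
    exact (h i).2 _

theorem affineStage_flf (d : ℕ) :
    AffineStage (FLF.{u} d)
      (fun f => LocallyOfFinitePresentation f ∧ QuasiCompact f ∧ QuasiSeparated f) := by
  intro J _ _ E cE hcE _ j₀ _ X₀ f₀ hf₀ hP
  obtain ⟨hlfp, hqc, hqs⟩ := hf₀
  haveI := hlfp
  haveI := hqc
  haveI := hqs
  obtain ⟨⟨hfin, hflat, -⟩, hrank⟩ := hP
  have hXpb := IsPullback.of_hasPullback f₀ (cE.π.app j₀)
  -- Step 1: finite at a stage
  obtain ⟨j₁, φ₁, hfin₁⟩ := affineStage_isFinite E cE hcE j₀ f₀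
    ⟨inferInstance, inferInstance, inferInstance⟩ hfin
  haveI := hfin₁
  haveI : IsAffine (E.obj j₁) := isAffine_of_isAffineHom (E.map φ₁)
  haveI : IsAffine (pullback f₀ (E.map φ₁)) :=
    isAffine_of_isAffineHom (pullback.snd f₀ (E.map φ₁))
  -- Step 2: flat at a stage
  have hP₁ : Flat (pullback.snd (pullback.snd f₀ (E.map φ₁)) (cE.π.app j₁)) := by
    rw [snd_snd_iff (P := @Flat), cE.w]
    exact hflat
  obtain ⟨j₂, φ₂, hj₂⟩ := affAffStage_flat E cE hcE j₁ (pullback.snd f₀ (E.map φ₁))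
    inferInstance hP₁
  rw [snd_snd_iff (P := @Flat), ← E.map_comp] at hj₂
  have hfin₂ : IsFinite (pullback.snd f₀ (E.map (φ₂ ≫ φ₁))) := by
    rw [E.map_comp]
    exact snd_comp (P := @IsFinite) f₀ (E.map φ₁) (E.map φ₂) hfin₁
  haveI := hj₂
  haveI := hfin₂
  -- Step 3: the rank
  have sqk : IsPullback ((bcCone cE hXpb).π.app (Over.mk (φ₂ ≫ φ₁)))
      (pullback.snd f₀ (cE.π.app j₀)) (pullback.snd f₀ (E.map (φ₂ ≫ φ₁))) (cE.π.app j₂) :=
    isPullback_bcCone_π cE hXpb (Over.mk (φ₂ ≫ φ₁))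
  have hrk : ∀ y : cE.pt, (pullback.snd f₀ (E.map (φ₂ ≫ φ₁))).finrank (cE.π.app j₂ y) = d := by
    intro y
    have := Scheme.Hom.finrank_of_isPullback _ _ _ _ sqk y
    exact this.symm.trans (hrank y)
  let V : (E.obj j₂).Opens :=
    ⟨{y | (pullback.snd f₀ (E.map (φ₂ ≫ φ₁))).finrank y = d},
      (Scheme.Hom.isLocallyConstant_finrank (pullback.snd f₀ (E.map (φ₂ ≫ φ₁)))).isOpen_fiber d⟩
  have hV : cE.π.app j₂ ⁻¹ᵁ V = ⊤ := by
    rw [eq_top_iff]
    intro y _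
    exact hrk y
  haveI : IsAffine (E.obj j₂) := isAffine_of_isAffineHom (E.map (φ₂ ≫ φ₁))
  haveI : ∀ {i j : Over j₂} (f : i ⟶ j), IsAffineHom ((Over.forget j₂ ⋙ E).map f) :=
    fun f => inferInstanceAs (IsAffineHom (E.map f.left))
  haveI : ∀ m : Over j₂, CompactSpace ((Over.forget j₂ ⋙ E).obj m) := fun m => by
    haveI : IsAffine (E.obj m.left) := isAffine_of_isAffineHom (E.map m.hom)
    exact inferInstanceAs (CompactSpace (E.obj m.left))
  have hlim : IsLimit (cE.whisker (Over.forget j₂)) :=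
    (Functor.Initial.isLimitWhiskerEquiv (Over.forget j₂) cE).symm hcE
  obtain ⟨m, fmi, hm⟩ := exists_map_eq_top (Over.forget j₂ ⋙ E) (cE.whisker (Over.forget j₂))
    hlim (i := Over.mk (𝟙 j₂)) V hV
  have hfm : fmi.left = m.hom := by
    have := Over.w fmi
    simpa using this
  have hm' : E.map m.hom ⁻¹ᵁ V = ⊤ := by
    rw [← hfm]
    exact hm
  -- Step 4: the final stage
  refine ⟨m.left, m.hom ≫ φ₂ ≫ φ₁, ?_⟩
  let g : Over.mk (m.hom ≫ φ₂ ≫ φ₁) ⟶ Over.mk (φ₂ ≫ φ₁) := Over.homMk m.hom rfl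
  have sq : IsPullback ((bcDiagram E j₀ f₀).map g) (pullback.snd f₀ (E.map (m.hom ≫ φ₂ ≫ φ₁)))
      (pullback.snd f₀ (E.map (φ₂ ≫ φ₁))) (E.map m.hom) := isPullback_map E j₀ f₀ g
  refine flf_of_isPullback d sq ⟨hfin₂, hj₂, inferInstance⟩ (fun y => ?_)
  exact hm'.ge (Set.mem_univ y)

/-- **S9197**. -/
theorem main9197 {I : Type u} [SmallCategory I] [IsCofiltered I]
    (D : I ⥤ Scheme.{u}) (c : Limits.Cone D) (hc : Limits.IsLimit c)
    [∀ (i j : I) (f : i ⟶ j), IsAffineHom (D.map f)] (i₀ : I)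
    {X₀ Y₀ : Scheme.{u}} (f₀ : X₀ ⟶ Y₀) (g₀ : Y₀ ⟶ D.obj i₀)
    [CompactSpace X₀] [QuasiSeparatedSpace X₀] [CompactSpace Y₀] [QuasiSeparatedSpace Y₀]
    [LocallyOfFinitePresentation f₀] (d : ℕ)
    {X Y : Scheme.{u}} (f : X ⟶ Y) (g : Y ⟶ c.pt) (qY : Y ⟶ Y₀) (qX : X ⟶ X₀)
    (hY : IsPullback qY g g₀ (c.π.app i₀)) (hX : IsPullback qX f f₀ qY)
    (hf : Mor2.IsFinLocFreeOfDeg d f) :
    ∃ (i : I) (φ : i ⟶ i₀) (Xi Yi : Scheme.{u}) (fi : Xi ⟶ Yi) (gi : Yi ⟶ D.obj i) (pY : Yi ⟶ Y₀)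
      (pX : Xi ⟶ X₀), IsPullback pY gi g₀ (D.map φ) ∧ IsPullback pX fi f₀ pY ∧
        Mor2.IsFinLocFreeOfDeg d fi :=
  exists_descend (P := FLF d)
    (H := fun f => LocallyOfFinitePresentation f ∧ QuasiCompact f ∧ QuasiSeparated f)
    (affineStage_flf d)
    (fun f g h => by
      obtain ⟨h1, h2, h3⟩ := h
      exact ⟨inferInstance, inferInstance, inferInstance⟩)
    D c hc i₀ f₀ g₀ ⟨inferInstance, inferInstance, inferInstance⟩ f g qY qX hY hX hf

end Groth.Agent.Lib.LimFinRankH7
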