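import Groth.Agent.Lib.LimModAlg2_helper2
import Groth.Agent.Lib.FlatDesc11_helper8

/-!
# Flatness over a filtered colimit of rings descends to a stage (helper2)

Category-indexed version (for `IsColimSys`) of helper8's `FlatDescH8.exists_stage_flat`:
* `exists_lift_fp`: a finitely presented algebra mapping to the colimit lifts to a stage;
* `exists_stage_flat_sys`: if `Rinf ⊗ M₀` is flat over `Rinf` (with `M₀` finitely presented over a
  finitely presented `R₀`-algebra), then `R k ⊗ M₀` is flat over `R k` for all small enough `k`.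
APPEND-ONLY once landed.
-/

set_option autoImplicit false
set_option maxHeartbeats 1000000
set_option linter.style.haveILetI false
set_option linter.unusedSectionVars false
set_option linter.unusedVariables false
universe u

open CategoryTheory TensorProduct

namespace Groth.Agent.Lib.LimMod

section AlgFlat

variable {J : Type u} [SmallCategory J] [IsCofiltered J] {R₀ : Type u} [CommRing R₀]
  {R : J → Type u} [∀ j, CommRing (R j)] [∀ j, Algebra R₀ (R j)]
  {tr : ∀ {k j : J}, (k ⟶ j) → (R j →ₐ[R₀] R k)}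
  {Rinf : Type u} [CommRing Rinf] [Algebra R₀ Rinf] {sg : ∀ j, R j →ₐ[R₀] Rinf}
  (h : IsColimSys R tr Rinf sg)

include h in
/-- **Lifting lemma**: a finitely presented algebra mapping to the colimit lifts to a stage. -/
theorem exists_lift_fp {A₁ A' : Type u} [CommRing A₁] [CommRing A'] [Algebra A₁ A']
    [Algebra.FinitePresentation A₁ A'] (a : A₁ →+* R₀) (ψ : A' →+* Rinf)
    (hψ : ∀ x, ψ (algebraMap A₁ A' x) = algebraMap R₀ Rinf (a x)) :
    ∃ (k : J) (φ : A' →+* R k), (∀ x, sg k (φ x) = ψ x) ∧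
      ∀ x, φ (algebraMap A₁ A' x) = algebraMap R₀ (R k) (a x) := by
  classical
  obtain ⟨n, F, hF, s, hs⟩ := (inferInstance : Algebra.FinitePresentation A₁ A').out
  choose idx x hx using fun i : Fin n => h.surj (ψ (F (MvPolynomial.X i)))
  obtain ⟨j, hj⟩ := IsCofiltered.inf_objs_exists (Finset.univ.image idx)
  have hm : ∀ i : Fin n, Nonempty (j ⟶ idx i) := fun i =>
    hj (Finset.mem_image.mpr ⟨i, Finset.mem_univ i, rfl⟩)
  choose m _ using fun i => (⟨(hm i).some, trivial⟩ : ∃ _ : j ⟶ idx i, True)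
  obtain ⟨Ej, hEj⟩ : ∃ Ej : MvPolynomial (Fin n) A₁ →+* R j,
      Ej = MvPolynomial.eval₂Hom ((algebraMap R₀ (R j)).comp a) (fun i => tr (m i) (x i)) :=
    ⟨_, rfl⟩
  have hEC : ∀ c : A₁, Ej (MvPolynomial.C c) = algebraMap R₀ (R j) (a c) := by
    intro c
    rw [hEj, MvPolynomial.coe_eval₂Hom, MvPolynomial.eval₂_C]
    rfl
  have hEX : ∀ i : Fin n, Ej (MvPolynomial.X i) = tr (m i) (x i) := by
    intro i
    rw [hEj, MvPolynomial.coe_eval₂Hom, MvPolynomial.eval₂_X]
  have hsgE : ∀ p : MvPolynomial (Fin n) A₁, sg j (Ej p) = ψ (F p) := by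
    have h1 : ((sg j).toRingHom.comp Ej) = ψ.comp F.toRingHom := by
      apply MvPolynomial.ringHom_ext
      · intro c
        change sg j (Ej (MvPolynomial.C c)) = ψ (F (MvPolynomial.C c))
        rw [hEC, AlgHom.commutes, ← MvPolynomial.algebraMap_eq, AlgHom.commutes, hψ]
      · intro i
        change sg j (Ej (MvPolynomial.X i)) = ψ (F (MvPolynomial.X i))
        rw [hEX, h.sg_tr, hx]
    intro p
    exact congrArg (fun φ => φ p) h1
  have hFs : ∀ p ∈ s, F p = 0 := by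
    intro p hp
    have : p ∈ RingHom.ker F.toRingHom := by
      rw [← hs]
      exact Ideal.subset_span hp
    exact this
  obtain ⟨k, f, hk⟩ := exists_kill_finset h j (s.image Ej) (by
    intro t ht
    obtain ⟨p, hp, rfl⟩ := Finset.mem_image.mp ht
    rw [hsgE, hFs p hp, map_zero])
  obtain ⟨Ek, hEk⟩ : ∃ Ek : MvPolynomial (Fin n) A₁ →+* R k, Ek = (tr f).toRingHom.comp Ej :=
    ⟨_, rfl⟩
  have hEk' : ∀ p, Ek p = tr f (Ej p) := fun p => by rw [hEk]; rfl
  have hker : RingHom.ker F.toRingHom ≤ RingHom.ker Ek := by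
    rw [← hs, Ideal.span_le]
    intro p hp
    rw [SetLike.mem_coe, RingHom.mem_ker, hEk']
    exact hk _ (Finset.mem_image.mpr ⟨p, hp, rfl⟩)
  refine ⟨k, F.toRingHom.liftOfSurjective hF ⟨Ek, hker⟩, fun z => ?_, fun c => ?_⟩
  · obtain ⟨p, rfl⟩ := hF z
    have e1 : (F.toRingHom.liftOfSurjective hF ⟨Ek, hker⟩) (F p) = Ek p :=
      RingHom.liftOfSurjective_comp_apply F.toRingHom hF ⟨Ek, hker⟩ p
    rw [e1, hEk', h.sg_tr, hsgE]
  · have e0 : algebraMap A₁ A' c = F (MvPolynomial.C c) := by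
      rw [← MvPolynomial.algebraMap_eq, AlgHom.commutes]
    have e1 : (F.toRingHom.liftOfSurjective hF ⟨Ek, hker⟩) (F (MvPolynomial.C c)) =
        Ek (MvPolynomial.C c) :=
      RingHom.liftOfSurjective_comp_apply F.toRingHom hF ⟨Ek, hker⟩ (MvPolynomial.C c)
    rw [e0, e1, hEk', hEC, AlgHom.commutes]

include h in
/-- **Flatness descends to a stage of a filtered colimit of rings.** -/
theorem exists_stage_flat_sys {C₀ : Type u} [CommRing C₀] [Algebra R₀ C₀]
    [Algebra.FinitePresentation R₀ C₀]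
    (M₀ : Type u) [AddCommGroup M₀] [Module C₀ M₀] [Module R₀ M₀] [IsScalarTower R₀ C₀ M₀]
    [Module.FinitePresentation C₀ M₀] (hfl : Module.Flat Rinf (Rinf ⊗[R₀] M₀)) :
    ∃ k : J, ∀ (k' : J) (g : k' ⟶ k), Module.Flat (R k') (R k' ⊗[R₀] M₀) := by
  obtain ⟨A₁, _, _, _, _, B₁, _, _, _, _, M₁, _, _, _, _, f, hft, -, hfp, hfin, hpush, hbc⟩ :=
    FlatDescH8.exists_model R₀ C₀ M₀
  letI : Module A₁ M₁ := Module.compHom M₁ (algebraMap A₁ B₁)
  haveI : IsScalarTower A₁ B₁ M₁ :=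
    ⟨fun a x y => by
      show (a • x) • y = algebraMap A₁ B₁ a • (x • y)
      rw [Algebra.smul_def, mul_smul]⟩
  obtain ⟨e₀, -⟩ : ∃ e₀ : R₀ ⊗[A₁] M₁ ≃ₗ[R₀] M₀, True := ⟨FlatDescH8.modelEquiv hbc, trivial⟩
  haveI : IsNoetherianRing A₁ := Algebra.FiniteType.isNoetherianRing ℤ A₁
  letI : Algebra A₁ Rinf := ((algebraMap R₀ Rinf).comp (algebraMap A₁ R₀)).toAlgebra
  haveI : IsScalarTower A₁ R₀ Rinf := IsScalarTower.of_algebraMap_eq (fun _ => rfl)
  haveI : Module.Flat Rinf (Rinf ⊗[A₁] M₁) :=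
    Module.Flat.of_linearEquiv (FlatDescH8.trEquiv e₀ Rinf).symm
  obtain ⟨A', hA', hflat⟩ :=
    FlatDescH8.exists_fg_subalgebra_flat' (A₁ := A₁) (B₁ := B₁) M₁ Rinf
  haveI : Algebra.FiniteType A₁ A' := (Subalgebra.fg_iff_finiteType A').mp hA'
  haveI : Algebra.FinitePresentation A₁ A' := Algebra.FinitePresentation.of_finiteType.mp
    inferInstance
  obtain ⟨k, φ, hφ1, hφ2⟩ := exists_lift_fp h (algebraMap A₁ R₀) A'.val.toRingHom
    (fun x => rfl)
  refine ⟨k, fun k' g => ?_⟩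
  letI : Algebra A₁ (R k') := ((algebraMap R₀ (R k')).comp (algebraMap A₁ R₀)).toAlgebra
  haveI : IsScalarTower A₁ R₀ (R k') := IsScalarTower.of_algebraMap_eq (fun _ => rfl)
  letI : Algebra A' (R k') := ((tr g).toRingHom.comp φ).toAlgebra
  haveI : IsScalarTower A₁ A' (R k') := IsScalarTower.of_algebraMap_eq (fun x => by
    show algebraMap R₀ (R k') (algebraMap A₁ R₀ x) = tr g (φ (algebraMap A₁ A' x))
    rw [hφ2, AlgHom.commutes])
  haveI : Module.Flat (R k') (R k' ⊗[A'] (A' ⊗[A₁] M₁)) := inferInstance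
  haveI : Module.Flat (R k') (R k' ⊗[A₁] M₁) := Module.Flat.of_linearEquiv
    (AlgebraTensorModule.cancelBaseChange A₁ A' (R k') (R k') M₁).symm
  exact Module.Flat.of_linearEquiv (FlatDescH8.trEquiv e₀ (R k'))

end AlgFlat

end Groth.Agent.Lib.LimMod
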