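import Groth.Agent.Lib.LimFlatAlg_helper2
import Groth.Agent.Lib.LimModSys_helper2
import Groth.Agent.Lib.FlatBC3_helper8
import Groth.Agent.Lib.QCohFP2_helper9

/-!
# Flatness of a module over the base, over a limit of schemes, descends to a stage (helper2)

* `flat_sections_pullback_iff`: in a pullback square, flatness of the sections of the pulled-back
  module over the ring of the new base, in terms of the tensor product;
* `chart_flat`, `exists_stage_flatOver`: EGA IV 11.2.6 for a base which is a limit.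
APPEND-ONLY once landed.
-/

set_option autoImplicit false
set_option maxHeartbeats 1000000
set_option linter.style.haveILetI false
set_option linter.unusedSectionVars false
set_option linter.unusedVariables false
universe u

open CategoryTheory CategoryTheory.Limits AlgebraicGeometry TopologicalSpace Opposite TensorProduct

namespace Groth.Agent.Lib.LimMod

section BC

variable {X S X' S' : Scheme.{u}} {f : X ⟶ S} {f' : X' ⟶ S'} {g' : X' ⟶ X} {g : S' ⟶ S}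
  (hc : IsPullback g' f' f g)

include hc in
/-- Sections of a pulled-back module over the affine open `g'⁻¹U ∩ f'⁻¹W'` of a fibre product:
flatness over `Γ(S', W')` is flatness of the tensor product `Γ(S', W') ⊗ Γ(F, U)`. -/
theorem flat_sections_pullback_iff (F : X.Modules) [F.IsQuasicoherent]
    {W : S.Opens} {U : X.Opens} {W' : S'.Opens} (hW : IsAffineOpen W)
    (hU : IsAffineOpen U) (hW' : IsAffineOpen W') (hUW : U ≤ f ⁻¹ᵁ W) (hW'W : W' ≤ g ⁻¹ᵁ W) :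
    letI := (g.appLE W W' hW'W).hom.toAlgebra
    letI : Module Γ(S, W) Γ(F, U) := Module.compHom _ (f.appLE W U hUW).hom
    @Module.Flat Γ(S', W') Γ((Scheme.Modules.pullback g').obj F, g' ⁻¹ᵁ U ⊓ f' ⁻¹ᵁ W') _ _
        (Module.compHom _ (f'.appLE W' (g' ⁻¹ᵁ U ⊓ f' ⁻¹ᵁ W') inf_le_right).hom) ↔
      Module.Flat Γ(S', W') (Γ(S', W') ⊗[Γ(S, W)] Γ(F, U)) := by
  obtain ⟨hU', hpo⟩ := FlatBC2H8.affine_pushout hc hW hU hW' hUW hW'W
  set U' : X'.Opens := g' ⁻¹ᵁ U ⊓ f' ⁻¹ᵁ W' with hU'def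
  have hU'U : U' ≤ g' ⁻¹ᵁ U := inf_le_left
  have hU'W' : U' ≤ f' ⁻¹ᵁ W' := inf_le_right
  letI algAB : Algebra Γ(S, W) Γ(X, U) := (f.appLE W U hUW).hom.toAlgebra
  letI algAA' : Algebra Γ(S, W) Γ(S', W') := (g.appLE W W' hW'W).hom.toAlgebra
  letI algBB' : Algebra Γ(X, U) Γ(X', U') := (g'.appLE U U' hU'U).hom.toAlgebra
  letI algA'B' : Algebra Γ(S', W') Γ(X', U') := (f'.appLE W' U' hU'W').hom.toAlgebra
  letI algAB' : Algebra Γ(S, W) Γ(X', U') :=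
    ((g'.appLE U U' hU'U).hom.comp (f.appLE W U hUW).hom).toAlgebra
  haveI : IsScalarTower Γ(S, W) Γ(X, U) Γ(X', U') := IsScalarTower.of_algebraMap_eq' rfl
  haveI : IsScalarTower Γ(S, W) Γ(S', W') Γ(X', U') := by
    refine IsScalarTower.of_algebraMap_eq' ?_
    change (g'.appLE U U' hU'U).hom.comp (f.appLE W U hUW).hom =
      (f'.appLE W' U' hU'W').hom.comp (g.appLE W W' hW'W).hom
    rw [← CommRingCat.hom_comp, ← CommRingCat.hom_comp]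
    congr 1
    exact hpo.w
  haveI : Algebra.IsPushout Γ(S, W) Γ(S', W') Γ(X, U) Γ(X', U') := by
    apply Algebra.IsPushout.symm
    exact CommRingCat.isPushout_iff_isPushout.mp hpo
  set F' := (Scheme.Modules.pullback g').obj F with hF'
  letI mAM : Module Γ(S, W) Γ(F, U) := Module.compHom _ (f.appLE W U hUW).hom
  haveI : IsScalarTower Γ(S, W) Γ(X, U) Γ(F, U) :=
    IsScalarTower.of_algebraMap_smul fun _ _ => rfl
  letI mBM' : Module Γ(X, U) Γ(F', U') := Module.compHom _ (g'.appLE U U' hU'U).hom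
  haveI : IsScalarTower Γ(X, U) Γ(X', U') Γ(F', U') :=
    IsScalarTower.of_algebraMap_smul fun _ _ => rfl
  letI mA'M' : Module Γ(S', W') Γ(F', U') := Module.compHom _ (f'.appLE W' U' hU'W').hom
  haveI : IsScalarTower Γ(S', W') Γ(X', U') Γ(F', U') :=
    IsScalarTower.of_algebraMap_smul fun _ _ => rfl
  have bc := PBH8.isBaseChange_cUV g' F hU'U hU' hU
  obtain ⟨e, -⟩ : ∃ e : Γ(S', W') ⊗[Γ(S, W)] Γ(F, U) ≃ₗ[Γ(S', W')] Γ(F', U'), True :=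
    ⟨(Algebra.IsPushout.cancelBaseChange Γ(S, W) Γ(S', W') Γ(X, U) Γ(X', U') Γ(F, U)).symm ≪≫ₗ
      bc.equiv.restrictScalars Γ(S', W'), trivial⟩
  exact (Module.Flat.equiv_iff e).symm

end BC

section Lim

variable {I : Type u} [SmallCategory I] [IsCofiltered I] (D : I ⥤ Scheme.{u}) (c : Cone D)
  (hc : IsLimit c) [∀ (i j : I) (f : i ⟶ j), IsAffineHom (D.map f)] (i₀ : I)

attribute [local instance] algR algRinf

include hc in
/-- Chart version of the descent of flatness over the base. -/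
theorem chart_flat {W₀ : (D.obj i₀).Opens} (hW₀ : IsAffineOpen W₀) {X₀ : Scheme.{u}}
    (f₀ : X₀ ⟶ D.obj i₀) [LocallyOfFinitePresentation f₀] (F₀ : X₀.Modules) [F₀.IsQuasicoherent]
    [SheafOfModules.IsFinitePresentation (R := X₀.ringCatSheaf) F₀]
    {U₀ : X₀.Opens} (hU₀ : IsAffineOpen U₀) (e : U₀ ≤ f₀ ⁻¹ᵁ W₀)
    {X : Scheme.{u}} (qX : X ⟶ X₀) (f : X ⟶ c.pt) (hX : IsPullback qX f f₀ (c.π.app i₀))
    (hfl : FlatMod.IsFlatOver f ((Scheme.Modules.pullback qX).obj F₀)) :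
    ∃ k : Over i₀, ∀ (k' : Over i₀) (g : k' ⟶ k) {Xk : Scheme.{u}} (p : Xk ⟶ X₀)
      (fk : Xk ⟶ D.obj k'.left) (hk : IsPullback p fk f₀ (D.map k'.hom)),
      @Module.Flat Γ(D.obj k'.left, Uj D i₀ W₀ k')
        Γ((Scheme.Modules.pullback p).obj F₀, p ⁻¹ᵁ U₀ ⊓ fk ⁻¹ᵁ Uj D i₀ W₀ k') _ _
        (Module.compHom _ (fk.appLE (Uj D i₀ W₀ k') (p ⁻¹ᵁ U₀ ⊓ fk ⁻¹ᵁ Uj D i₀ W₀ k')
          inf_le_right).hom) := by
  haveI hA' : ∀ {i j : I} (f : i ⟶ j), IsAffineHom (D.map f) := fun f => inferInstance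
  haveI := isAffineHom_π_app D c hc i₀
  have hWinf : IsAffineOpen (Uinf D c i₀ W₀) := hW₀.preimage (c.π.app i₀)
  have hsys := isColimSys D c i₀ W₀ hc hW₀
  letI algC : Algebra Γ(D.obj i₀, W₀) Γ(X₀, U₀) := (f₀.appLE W₀ U₀ e).hom.toAlgebra
  letI modM : Module Γ(D.obj i₀, W₀) Γ(F₀, U₀) := Module.compHom _ (f₀.appLE W₀ U₀ e).hom
  haveI : IsScalarTower Γ(D.obj i₀, W₀) Γ(X₀, U₀) Γ(F₀, U₀) :=
    IsScalarTower.of_algebraMap_smul fun _ _ => rfl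
  haveI : Algebra.FinitePresentation Γ(D.obj i₀, W₀) Γ(X₀, U₀) :=
    Scheme.Hom.finitePresentation_appLE f₀ hW₀ hU₀ e
  haveI : Module.FinitePresentation Γ(X₀, U₀) Γ(F₀, U₀) :=
    QCohFP2.finitePresentation_of_isFinitePresentation F₀ hU₀
  obtain ⟨hUaff, -⟩ := FlatBC2H8.affine_pushout hX hW₀ hU₀ hWinf e le_rfl
  have h1 := FlatSecH8.flat_sections_of_flat_stalks f ((Scheme.Modules.pullback qX).obj F₀)
    hUaff (inf_le_right : qX ⁻¹ᵁ U₀ ⊓ f ⁻¹ᵁ Uinf D c i₀ W₀ ≤ f ⁻¹ᵁ Uinf D c i₀ W₀)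
    (fun x hxU => (FlatSecH8.isFlatOverAt_iff_flat_stalk f _ hWinf inf_le_right hxU).mp (hfl x))
  have h2 := (flat_sections_pullback_iff hX F₀ hW₀ hU₀ hWinf e le_rfl).mp h1
  obtain ⟨k, hk⟩ := exists_stage_flat_sys hsys (C₀ := Γ(X₀, U₀)) Γ(F₀, U₀) h2
  refine ⟨k, fun k' g Xk p fk hk' => ?_⟩
  exact (flat_sections_pullback_iff hk' F₀ hW₀ hU₀ (hW₀.preimage (D.map k'.hom)) e le_rfl).mpr
    (hk k' g)

include hc in
/-- **EGA IV 11.2.6 over a limit**: if the base change of `F₀` to the limit is flat over the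
limit, then the base change to a stage is flat over the stage. -/
theorem exists_stage_flatOver [CompactSpace (D.obj i₀)] {X₀ : Scheme.{u}}
    (f₀ : X₀ ⟶ D.obj i₀) [LocallyOfFinitePresentation f₀] [QuasiCompact f₀]
    (F₀ : X₀.Modules) [F₀.IsQuasicoherent]
    [SheafOfModules.IsFinitePresentation (R := X₀.ringCatSheaf) F₀]
    {X : Scheme.{u}} (qX : X ⟶ X₀) (f : X ⟶ c.pt) (hX : IsPullback qX f f₀ (c.π.app i₀))
    (hfl : FlatMod.IsFlatOver f ((Scheme.Modules.pullback qX).obj F₀)) :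
    ∃ k : Over i₀, ∀ (k' : Over i₀) (g : k' ⟶ k) {Xk : Scheme.{u}} (p : Xk ⟶ X₀)
      (fk : Xk ⟶ D.obj k'.left) (hk : IsPullback p fk f₀ (D.map k'.hom)),
      FlatMod.IsFlatOver fk ((Scheme.Modules.pullback p).obj F₀) := by
  classical
  haveI hA' : ∀ {i j : I} (f : i ⟶ j), IsAffineHom (D.map f) := fun f => inferInstance
  haveI : Nonempty (Over i₀) := ⟨Over.mk (𝟙 i₀)⟩
  haveI : CompactSpace X₀ := QuasiCompact.compactSpace_of_compactSpace f₀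
  -- the basis of affine opens mapping into an affine open
  set B : Set X₀.Opens := {U₀ | IsAffineOpen U₀ ∧ ∃ W₀ : (D.obj i₀).Opens, IsAffineOpen W₀ ∧
    U₀ ≤ f₀ ⁻¹ᵁ W₀} with hB
  have hBasis : Opens.IsBasis B := by
    rw [Opens.isBasis_iff_nbhd]
    intro O x hxO
    obtain ⟨W₀, hW₀, hxW₀, -⟩ := Opens.isBasis_iff_nbhd.mp (D.obj i₀).isBasis_affineOpens
      (Opens.mem_top (f₀ x))
    obtain ⟨U₀, hU₀, hxU₀, hU₀le⟩ := Opens.isBasis_iff_nbhd.mp X₀.isBasis_affineOpens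
      (show x ∈ O ⊓ f₀ ⁻¹ᵁ W₀ from ⟨hxO, hxW₀⟩)
    exact ⟨U₀, ⟨hU₀, W₀, hW₀, hU₀le.trans inf_le_right⟩, hxU₀, hU₀le.trans inf_le_left⟩
  obtain ⟨Us, hUsB, hUsfin, hUs⟩ :=
    hBasis.exists_finite_of_isCompact (U := (⊤ : X₀.Opens)) isCompact_univ
  have hP : ∀ U₀ : X₀.Opens, U₀ ∈ B → ∃ W₀ : (D.obj i₀).Opens, IsAffineOpen W₀ ∧
      ∃ e : U₀ ≤ f₀ ⁻¹ᵁ W₀, ∃ k : Over i₀, ∀ (k' : Over i₀) (g : k' ⟶ k) {Xk : Scheme.{u}}
      (p : Xk ⟶ X₀) (fk : Xk ⟶ D.obj k'.left) (hk : IsPullback p fk f₀ (D.map k'.hom)),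
      @Module.Flat Γ(D.obj k'.left, Uj D i₀ W₀ k')
        Γ((Scheme.Modules.pullback p).obj F₀, p ⁻¹ᵁ U₀ ⊓ fk ⁻¹ᵁ Uj D i₀ W₀ k') _ _
        (Module.compHom _ (fk.appLE (Uj D i₀ W₀ k') (p ⁻¹ᵁ U₀ ⊓ fk ⁻¹ᵁ Uj D i₀ W₀ k')
          inf_le_right).hom) := by
    rintro U₀ ⟨hU₀, W₀, hW₀, e⟩
    exact ⟨W₀, hW₀, e, chart_flat D c hc i₀ hW₀ f₀ F₀ hU₀ e qX f hX hfl⟩
  choose! WU hWU eU kU hkU using hP
  obtain ⟨k, hk⟩ := IsCofiltered.inf_objs_exists (hUsfin.toFinset.image kU)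
  refine ⟨k, fun k' g Xk p fk hk' x => ?_⟩
  have hx : p x ∈ (⊤ : X₀.Opens) := trivial
  rw [hUs] at hx
  obtain ⟨U₀, hU₀, hxU₀⟩ := Opens.mem_sSup.mp hx
  obtain ⟨g'⟩ := hk (Finset.mem_image.mpr ⟨U₀, hUsfin.mem_toFinset.mpr hU₀, rfl⟩)
  have hU₀B := hUsB hU₀
  have hflat := hkU U₀ hU₀B k' (g ≫ g') p fk hk'
  have hWk : IsAffineOpen (Uj D i₀ (WU U₀) k') := (hWU U₀ hU₀B).preimage (D.map k'.hom)
  obtain ⟨hUaff, -⟩ := FlatBC2H8.affine_pushout hk' (hWU U₀ hU₀B) hU₀B.1 hWk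
    (eU U₀ hU₀B) le_rfl
  have hxU : x ∈ p ⁻¹ᵁ U₀ ⊓ fk ⁻¹ᵁ Uj D i₀ (WU U₀) k' := by
    refine ⟨hxU₀, ?_⟩
    change (D.map k'.hom) (fk x) ∈ WU U₀
    have e1 : (D.map k'.hom) (fk x) = f₀ (p x) := by
      rw [← Scheme.Hom.comp_apply, ← Scheme.Hom.comp_apply, hk'.w]
    rw [e1]
    exact eU U₀ hU₀B hxU₀
  rw [FlatSecH8.isFlatOverAt_iff_flat_stalk fk _ hWk inf_le_right hxU]
  exact FlatSecH8.flat_stalk_of_flat_sections fk _ hUaff inf_le_right hxU hflat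

end Lim

end Groth.Agent.Lib.LimMod
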