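import Groth.Agent.Lib.LimFlatGeo_helper2
import Groth.Agent.Lib.LimBaseChange_helper7
import Groth.Agent.Lib.AlgSpLocP9_helper7
import Groth.Agent.Lib.Desc5_helper8

/-!
# EGA IV 11.2.6 (scheme form, S4849): flatness of `F` over `Y` at the limit iff at a stage (helper2)
APPEND-ONLY once landed.
-/

set_option autoImplicit false
set_option maxHeartbeats 1000000
set_option linter.style.haveILetI false
set_option linter.unusedSectionVars false
set_option linter.unusedVariables false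
universe u

open CategoryTheory CategoryTheory.Limits AlgebraicGeometry TopologicalSpace Opposite TensorProduct

namespace Groth.Agent.Lib.LimMod

open Groth.Agent.Lib.LimBaseChangeH7 in
theorem main4849 {I : Type u} [SmallCategory I] [IsCofiltered I]
    (D : I ⥤ Scheme.{u}) (c : Limits.Cone D) (hc : Limits.IsLimit c)
    [∀ (i j : I) (φ : i ⟶ j), IsAffineHom (D.map φ)] (i₀ : I) [CompactSpace (D.obj i₀)]
    {X₀ Y₀ : Scheme.{u}} (f₀ : X₀ ⟶ Y₀) (g₀ : Y₀ ⟶ D.obj i₀)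
    [LocallyOfFinitePresentation g₀] [QuasiCompact g₀] [QuasiSeparated g₀]
    [LocallyOfFinitePresentation (f₀ ≫ g₀)] [QuasiCompact (f₀ ≫ g₀)] [QuasiSeparated (f₀ ≫ g₀)]
    (F₀ : X₀.Modules) [Coh.IsQCoh F₀] (hF₀ : CohB1.IsFP F₀)
    {X Y : Scheme.{u}} (f : X ⟶ Y) (g : Y ⟶ c.pt) (qY : Y ⟶ Y₀) (qX : X ⟶ X₀)
    (hY : IsPullback qY g g₀ (c.π.app i₀)) (hX : IsPullback qX f f₀ qY) :
    FlatMod.IsFlatOver f ((Scheme.Modules.pullback qX).obj F₀) ↔
      ∃ (i : I) (φ : i ⟶ i₀) (Xi Yi : Scheme.{u}) (fi : Xi ⟶ Yi) (gi : Yi ⟶ D.obj i)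
        (pY : Yi ⟶ Y₀) (pX : Xi ⟶ X₀),
        IsPullback pY gi g₀ (D.map φ) ∧ IsPullback pX fi f₀ pY ∧
          FlatMod.IsFlatOver fi ((Scheme.Modules.pullback pX).obj F₀) := by
  haveI := hF₀
  haveI : F₀.IsQuasicoherent := ‹Coh.IsQCoh F₀›
  constructor
  · intro hfl
    haveI : LocallyOfFinitePresentation f₀ :=
      Groth.Agent.Lib.AlgSpLocP9_helper7.locallyOfFinitePresentation_of_comp f₀ g₀
    haveI : QuasiCompact f₀ := QuasiCompact.of_comp f₀ g₀
    haveI : CompactSpace Y₀ := QuasiCompact.compactSpace_of_compactSpace g₀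
    -- the base-changed system
    obtain ⟨j₀, hj₀⟩ : ∃ j₀ : Over i₀, j₀ = Over.mk (𝟙 i₀) := ⟨_, rfl⟩
    haveI : IsIso (D.map j₀.hom) := by
      rw [hj₀]
      change IsIso (D.map (𝟙 i₀))
      infer_instance
    obtain ⟨e₀, he₀⟩ : ∃ e₀ : (bcDiagram D i₀ g₀).obj j₀ ⟶ Y₀,
        e₀ = pullback.fst g₀ (D.map j₀.hom) := ⟨_, rfl⟩
    haveI he : IsIso e₀ := by
      rw [he₀]
      exact MorphismProperty.pullback_fst (P := MorphismProperty.isomorphisms Scheme.{u}) g₀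
        (D.map j₀.hom) ((MorphismProperty.isomorphisms.iff _).mpr inferInstance)
    have hcone0 : (bcCone c hY).π.app j₀ ≫ e₀ = qY := by
      rw [he₀]
      exact bcCone_π_fst c hY j₀
    have hcone : qY ≫ inv e₀ = (bcCone c hY).π.app j₀ :=
      (IsIso.comp_inv_eq e₀).mpr hcone0.symm
    have hX' : IsPullback qX f (f₀ ≫ inv e₀) ((bcCone c hY).π.app j₀) := by
      refine IsPullback.of_iso hX (Iso.refl _) (Iso.refl _) (Iso.refl _)
        (asIso e₀).symm ?_ ?_ ?_ ?_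
      · simp
      · simp
      · simp
      · simpa using hcone0.symm
    haveI : CompactSpace ((bcDiagram D i₀ g₀).obj j₀) := inferInstance
    obtain ⟨k, hk⟩ := exists_stage_flatOver (bcDiagram D i₀ g₀) (bcCone c hY)
      (isLimitBcCone c hY hc) j₀ (f₀ ≫ inv e₀) F₀ qX f hX' hfl
    have hk1 := hk k (𝟙 k) (pullback.fst _ _) (pullback.snd _ _)
      (IsPullback.of_hasPullback (f₀ ≫ inv e₀) ((bcDiagram D i₀ g₀).map k.hom))
    refine ⟨k.left.left, k.left.hom, _, _, _, pullback.snd g₀ (D.map k.left.hom),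
      pullback.fst g₀ (D.map k.left.hom), _, IsPullback.of_hasPullback _ _, ?_, hk1⟩
    have hmap : (bcDiagram D i₀ g₀).map k.hom ≫ e₀ = pullback.fst g₀ (D.map k.left.hom) := by
      rw [he₀]
      exact bcDiagram_map_fst D i₀ g₀ k.hom
    refine IsPullback.of_iso (IsPullback.of_hasPullback
      (f₀ ≫ inv e₀) ((bcDiagram D i₀ g₀).map k.hom))
      (Iso.refl _) (Iso.refl _) (Iso.refl _) (asIso e₀) ?_ ?_ ?_ ?_
    · simp
    · simp
    · simp
    · simpa using hmap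
  · rintro ⟨i, φ, Xi, Yi, fi, gi, pY, pX, hYi, hXi, hfli⟩
    obtain ⟨v, hv⟩ : ∃ v : Y ⟶ Yi, v ≫ pY = qY ∧ v ≫ gi = g ≫ c.π.app i := by
      have hw : qY ≫ g₀ = (g ≫ c.π.app i) ≫ D.map φ := by
        rw [hY.w, Category.assoc, c.w]
      exact ⟨hYi.lift qY (g ≫ c.π.app i) hw, hYi.lift_fst _ _ hw, hYi.lift_snd _ _ hw⟩
    obtain ⟨w, hw⟩ : ∃ w : X ⟶ Xi, w ≫ pX = qX ∧ w ≫ fi = f ≫ v := by
      have hw' : qX ≫ f₀ = (f ≫ v) ≫ pY := by
        rw [hX.w, Category.assoc, hv.1]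
      exact ⟨hXi.lift qX (f ≫ v) hw', hXi.lift_fst _ _ hw', hXi.lift_snd _ _ hw'⟩
    have hsq : IsPullback w f fi v := by
      refine IsPullback.of_right ?_ hw.2 hXi
      rw [hw.1, hv.1]
      exact hX
    intro x
    have h1 := FlatBC2H8.isFlatOverAt_pullback hsq ((Scheme.Modules.pullback pX).obj F₀) x
      (hfli (w x))
    have e : (Scheme.Modules.pullback w).obj ((Scheme.Modules.pullback pX).obj F₀) ≅
        (Scheme.Modules.pullback qX).obj F₀ :=
      (Scheme.Modules.pullbackComp w pX).app F₀ ≪≫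
        (Scheme.Modules.pullbackCongr hw.1).app F₀
    exact DescH8.isFlatOverAt_of_iso f e x h1

end Groth.Agent.Lib.LimMod
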