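import Mathlib
import Groth.Prelude
import Groth.Agent.Lib.LimAmp6_helper6
import Groth.Agent.Lib.Tens29_helper8

/-!
# Generation of an invertible module by its sections over an open (helper6)
APPEND-ONLY once landed.

* `IsGenOn L V`: every point of `V` has a section of `L` over `V` generating `L` near it.
* `isGenOn_congr`, `isGenOn_pullback`, `isGenOn_restrict_iff`.
* `isGenOn_of_epi_counit`, `epi_counit_of_isGenOn`: relation with the counit `f^* f_* L ⟶ L`.
-/

set_option autoImplicit false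
set_option linter.all false

namespace Groth.Agent.Lib.LimGGH6

open AlgebraicGeometry CategoryTheory CategoryTheory.Limits TopologicalSpace Opposite
open QcqsLoc GenLocH8 FLFH8 QCohExtn TensH8 PBH8

universe u

section Basic

variable {X : Scheme.{u}}

/-- `L` is generated over the open `V` by its sections over `V`. -/
def IsGenOn (L : X.Modules) (V : X.Opens) : Prop :=
  ∀ x ∈ V, ∃ (σ : Γ(L, V)) (O : X.Opens), x ∈ O ∧ O ≤ V ∧ HasLocus (Frame.self L) σ O

/-- frame-relative form of `IsGenOn` -/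
def IsGenOnF {L M : X.Modules} {N : ℕ} (Φ : Frame L M N) (V : X.Opens) : Prop :=
  ∀ x ∈ V, ∃ (σ : Γ(M, V)) (O : X.Opens), x ∈ O ∧ O ≤ V ∧ HasLocus Φ σ O

theorem hasLocus_self_iff {L M : X.Modules} (hL : PicF.IsInvertible L) {N : ℕ} (Φ : Frame L M N)
    {V : X.Opens} (σ : Γ(M, V)) {O : X.Opens} (hO : O ≤ V) :
    HasLocus Φ σ O ↔ HasLocus (Frame.self M) σ O := by
  have key : ∀ O' : X.Opens, HasLocus (Frame.self M) σ O' → HasLocus Φ σ O' := by
    intro O' h W hW e he
    rw [h W hW (Φ.φ W e) (Φ.isGen he)]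
    congr 1
  constructor
  · intro h
    obtain ⟨O', hO', h'⟩ := exists_hasLocus (Frame.self M) σ
    have := HasLocus.unique hL Φ σ h (key O' h') hO hO'
    rw [this]
    exact h'
  · exact key O

theorem isGenOnF_iff {L M : X.Modules} (hL : PicF.IsInvertible L) {N : ℕ} (Φ : Frame L M N)
    (V : X.Opens) : IsGenOnF Φ V ↔ IsGenOn M V := by
  constructor
  · intro h x hx
    obtain ⟨σ, O, hxO, hOV, hloc⟩ := h x hx
    exact ⟨σ, O, hxO, hOV, (hasLocus_self_iff hL Φ σ hOV).mp hloc⟩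
  · intro h x hx
    obtain ⟨σ, O, hxO, hOV, hloc⟩ := h x hx
    exact ⟨σ, O, hxO, hOV, (hasLocus_self_iff hL Φ σ hOV).mpr hloc⟩

theorem IsGenOnF.change {L M M' : X.Modules} (hL : PicF.IsInvertible L) {N : ℕ} (Φ : Frame L M N)
    (Ψ : Frame L M' N) {V : X.Opens} (h : IsGenOnF Φ V) : IsGenOnF Ψ V := by
  intro x hx
  obtain ⟨σ, O, hxO, hOV, hloc⟩ := h x hx
  obtain ⟨σ', hσ'⟩ := hloc.change_frame hL Φ Ψ σ
  exact ⟨σ', O, hxO, hOV, hσ'⟩

theorem isGenOn_congr {M M' : X.Modules} (α : M ≅ M') (hM : PicF.IsInvertible M) (V : X.Opens)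
    (h : IsGenOn M V) : IsGenOn M' V := by
  have h1 : IsGenOnF (Frame.self M) V := h
  exact (isGenOnF_iff hM (Frame.ofIso α) V).mp (h1.change hM (Frame.self M) (Frame.ofIso α))

theorem isGenOn_pullback {Z S : Scheme.{u}} (u : Z ⟶ S) {L : S.Modules} (hL : PicF.IsInvertible L)
    {V : S.Opens} (h : IsGenOn L V) : IsGenOn ((Scheme.Modules.pullback u).obj L) (u ⁻¹ᵁ V) := by
  intro z hz
  obtain ⟨σ, O, hxO, hOV, hloc⟩ := h (u z) hz
  have h1 := hasLocus_pullback u hL (Frame.self L) σ hloc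
  have hle : u ⁻¹ᵁ O ≤ u ⁻¹ᵁ V := fun _ hw => hOV hw
  exact ⟨_, u ⁻¹ᵁ O, hxO, hle,
    (hasLocus_self_iff (isInvertible_pullback u hL) ((Frame.self L).pullback u hL) _ hle).mp h1⟩

theorem isGenOn_restrict_iff {U : Scheme.{u}} (j : U ⟶ X) [IsOpenImmersion j] {L : X.Modules}
    (hL : PicF.IsInvertible L) (V' : U.Opens) :
    IsGenOn (L.restrict j) V' ↔ IsGenOn L (j ''ᵁ V') := by
  have hL' := isInvertible_restrict j hL
  constructor
  · intro h
    rintro _ ⟨y, hy, rfl⟩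
    obtain ⟨σ', O', hyO', hO'V', hloc⟩ := h y hy
    have hloc' := (hasLocus_self_iff hL' ((Frame.self L).restrict j) σ' hO'V').mpr hloc
    exact ⟨σ', j ''ᵁ O', ⟨y, hyO', rfl⟩, (j.image_le_image_iff _ _).mpr hO'V',
      (hasLocus_restrict_iff j (Frame.self L) σ' O').mp hloc'⟩
  · intro h y hy
    obtain ⟨σ, O, hxO, hOV, hloc⟩ := h (j y) ⟨y, hy, rfl⟩
    obtain ⟨O', hO'V', rfl⟩ := exists_eq_image j hOV
    have hloc' := (hasLocus_restrict_iff j (Frame.self L) σ O').mpr hloc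
    refine ⟨_, O', ?_, hO'V',
      (hasLocus_self_iff hL' ((Frame.self L).restrict j) _ hO'V').mp hloc'⟩
    obtain ⟨y', hy', hyy'⟩ := hxO
    have : y' = y := j.isOpenEmbedding.injective hyy'
    exact this ▸ hy'

theorem isGenOn_top_restrict_iff {U : Scheme.{u}} (j : U ⟶ X) [IsOpenImmersion j] {L : X.Modules}
    (hL : PicF.IsInvertible L) : IsGenOn (L.restrict j) ⊤ ↔ IsGenOn L j.opensRange := by
  rw [isGenOn_restrict_iff j hL, Scheme.Hom.image_top_eq_opensRange]

theorem isGenOn_top_restrict_ι_iff {L : X.Modules} (hL : PicF.IsInvertible L) (V : X.Opens) :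
    IsGenOn (L.restrict V.ι) ⊤ ↔ IsGenOn L V := by
  rw [isGenOn_top_restrict_iff V.ι hL, Scheme.Opens.opensRange_ι]

end Basic

section Counit

variable {X Y : Scheme.{u}} (f : X ⟶ Y)

/-- If the counit `f^* f_* M ⟶ M` is an epimorphism, `M` is generated over the preimage of every
affine open of the base. -/
theorem isGenOn_of_epi_counit [QuasiCompact f] [QuasiSeparated f] {M : X.Modules}
    (hM : PicF.IsInvertible M)
    (hepi : Epi ((Scheme.Modules.pullbackPushforwardAdjunction f).counit.app M))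
    {V : Y.Opens} (hV : IsAffineOpen V) : IsGenOn M (f ⁻¹ᵁ V) := by
  intro x hx
  obtain ⟨y, W', hW', hxW', hgen⟩ := exists_section_isGen_of_epi_counit f hM hepi hV hx
  obtain ⟨O, hO, hloc⟩ := exists_hasLocus (Frame.self M) y
  refine ⟨y, O, ?_, hO, hloc⟩
  have h1 := hloc W' hW' (rF M hW' y) hgen
  have h2 : (Frame.self M).coefOf y W' hW' (rF M hW' y) hgen = 1 := by
    symm
    apply Frame.coefOf_unique
    rw [one_smul]
    rfl
  rw [h2, Scheme.basicOpen_of_isUnit _ isUnit_one] at h1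
  have : x ∈ O ⊓ W' := by
    rw [h1]
    exact hxW'
  exact this.1

/-- If `T` is generated over the preimages of a family of opens covering the base, the counit
`f^* f_* T ⟶ T` is an epimorphism. -/
theorem epi_counit_of_isGenOn {T : X.Modules} (hT : PicF.IsInvertible T)
    (h : ∀ y : Y, ∃ V : Y.Opens, y ∈ V ∧ IsGenOn T (f ⁻¹ᵁ V)) :
    Epi ((Scheme.Modules.pullbackPushforwardAdjunction f).counit.app T) := by
  apply epi_counit_of_span f T
  intro x
  obtain ⟨V, hxV, hV⟩ := h (f x)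
  refine ⟨V, hxV, fun W hW z hxW => ?_⟩
  obtain ⟨σ, O, hxO, hOV, hloc⟩ := hV x hxV
  obtain ⟨W1, -, hxW1, hW1le, e, he⟩ := exists_isGen_le hT x (W ⊓ O) ⟨hxW, hxO⟩
  have hW1W : W1 ≤ W := hW1le.trans inf_le_left
  have hW1V : W1 ≤ f ⁻¹ᵁ V := hW1W.trans hW
  have h1 := hloc W1 hW1V e he
  obtain ⟨c, hc⟩ : ∃ c : Γ(X, W1), c = (Frame.self T).coefOf σ W1 hW1V e he := ⟨_, rfl⟩
  rw [← hc] at h1
  have hspec : rF T hW1V σ = c • e := by
    rw [hc]
    exact (Frame.self T).coefOf_spec σ W1 hW1V e he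
  have hxc : x ∈ X.basicOpen c := by
    rw [← h1]
    exact ⟨hxO, hxW1⟩
  have hle : X.basicOpen c ≤ W1 := X.basicOpen_le c
  refine ⟨X.basicOpen c, hle.trans hW1W, hxc, ?_⟩
  have hunit : IsUnit (rX hle c) := X.toRingedSpace.isUnit_res_basicOpen c
  obtain ⟨v, hv⟩ := hunit
  obtain ⟨d, hd⟩ := (he.res hle).exists_coef (rF T (hle.trans hW1W) z)
  have hσ : rF T (hle.trans hW1V) σ = rX hle c • rF T hle e := by
    have := congrArg (rF T hle) hspec
    rwa [rF_rF, rF_smul] at this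
  have he' : rF T hle e = (↑v⁻¹ : Γ(X, X.basicOpen c)) • rF T (hle.trans hW1V) σ := by
    rw [hσ, smul_smul]
    have : (↑v⁻¹ : Γ(X, X.basicOpen c)) * rX hle c = 1 := by
      rw [← hv, Units.inv_mul]
    rw [this, one_smul]
  rw [hd, he', smul_smul]
  apply Submodule.smul_mem
  apply Submodule.subset_span
  exact ⟨σ, rfl⟩

end Counit

end Groth.Agent.Lib.LimGGH6
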