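import Mathlib
import Groth.Prelude
import Groth.Agent.Lib.LimGG1_helper6

/-!
# Global generation descends to a stage of a cofiltered limit (helper6)
APPEND-ONLY once landed.

`exists_isGenOn_top_stage`: for a cofiltered limit `S = lim S_i` of quasi-compact quasi-separated
schemes with affine transition maps and an invertible module `L₀` on a stage `S_{i₀}` whose pullback
to `S` is generated by its global sections, the pullback of `L₀` to some stage is generated by its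
global sections.
-/

set_option autoImplicit false
set_option linter.all false

namespace Groth.Agent.Lib.LimGGH6

open AlgebraicGeometry CategoryTheory CategoryTheory.Limits TopologicalSpace Opposite
open QcqsLoc GenLocH8 FLFH8 QCohExtn TensH8 PBH8
open Groth.Agent.Lib.LimAmpH6

universe u

/-- **Global generation from coefficient families**: if coefficient families of weight one
satisfying the relations cut out opens covering the scheme, the module is generated by its global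
sections. -/
theorem isGenOn_top_of_fams {T : Scheme.{u}} {L : T.Modules} (𝒯 : Triv L) {K : Type*}
    (b : ∀ (k : K) a, Γ(T, 𝒯.U a)) (hb : ∀ k, 𝒯.Rel 1 (b k))
    (hcov : ∀ x : T, ∃ k, x ∈ 𝒯.locus (b k)) : IsGenOn L ⊤ := by
  intro x _
  obtain ⟨k, hk⟩ := hcov x
  obtain ⟨σ, O, hloc, hO⟩ := 𝒯.exists_section_of_rel (Frame.self L) (b k) (hb k)
  have hOeq := 𝒯.eq_locus (b k) hO
  exact ⟨σ, O, hOeq ▸ hk, le_top, hloc⟩

section Main

variable {I : Type u} [Category.{u} I] [IsCofiltered I] (D : I ⥤ Scheme.{u}) (c : Cone D)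
  (hc : IsLimit c) [∀ {i j : I} (f : i ⟶ j), IsAffineHom (D.map f)]

include hc in
theorem exists_isGenOn_top_stage [∀ i, CompactSpace (D.obj i)] [∀ i, QuasiSeparatedSpace (D.obj i)]
    (i₀ : I) (L₀ : (D.obj i₀).Modules) (hL₀ : PicF.IsInvertible L₀)
    (h : IsGenOn ((Scheme.Modules.pullback (c.π.app i₀)).obj L₀) ⊤) :
    ∃ (i : I) (φ : i ⟶ i₀), IsGenOn ((Scheme.Modules.pullback (D.map φ)).obj L₀) ⊤ := by
  classical
  obtain ⟨𝒯, hfin, hU⟩ := exists_triv hL₀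
  haveI := hfin
  haveI : IsAffineHom (c.π.app i₀) := isAffineHom_π_app D c hc i₀
  haveI : CompactSpace c.pt := QuasiCompact.compactSpace_of_compactSpace (c.π.app i₀)
  obtain ⟨p, hp⟩ : ∃ p : c.pt ⟶ D.obj i₀, p = c.π.app i₀ := ⟨_, rfl⟩
  rw [← hp] at h
  have hLS : PicF.IsInvertible ((Scheme.Modules.pullback p).obj L₀) := isInvertible_pullback p hL₀
  -- step 1: finitely many sections with loci covering the limit
  have hamp' : ∀ x : c.pt, ∃ (σ : Γ((Scheme.Modules.pullback p).obj L₀, ⊤)) (O : c.pt.Opens),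
      x ∈ O ∧ O ≤ ⊤ ∧ HasLocus (Frame.self ((Scheme.Modules.pullback p).obj L₀)) σ O :=
    fun x => h x trivial
  choose σ O hxO hOle hloc using hamp'
  obtain ⟨t, ht⟩ := CompactSpace.elim_nhds_subcover (fun x => (O x : Set c.pt))
    (fun x => (O x).isOpen.mem_nhds (hxO x))
  let K : Type u := {x : c.pt // x ∈ t}
  have hKcov : ∀ x : c.pt, ∃ k : K, x ∈ O k.1 := by
    intro x
    have hx : x ∈ ⋃ y ∈ t, (O y : Set c.pt) := ht ▸ Set.mem_univ x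
    obtain ⟨y, hy, hxy⟩ := Set.mem_iUnion₂.mp hx
    exact ⟨⟨y, hy⟩, hxy⟩
  have hfam := fun k : K => (𝒯.pullback hL₀ hU p).exists_fam_of_section
    (Frame.self ((Scheme.Modules.pullback p).obj L₀)) (σ k.1) (hloc k.1)
  choose β hβrel hβloc using hfam
  have hOeq : ∀ k : K, O k.1 = (𝒯.pullback hL₀ hU p).locus (β k) :=
    fun k => (𝒯.pullback hL₀ hU p).eq_locus (β k) (hβloc k)
  -- step 2: descend the coefficients to a stage
  subst hp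
  obtain ⟨j₁, φ₁, s, hs⟩ := exists_sections_stage D c hc i₀ (M := K × 𝒯.A)
    (fun m => 𝒯.U m.2) (fun m => hU m.2) (fun m => β m.1 m.2)
  let b₁ : ∀ (k : K) (a : 𝒯.A), Γ(D.obj j₁, D.map φ₁ ⁻¹ᵁ 𝒯.U a) := fun k a => s (k, a)
  have hpull : ∀ k : K, pull 𝒯 (c.π.app j₁) (D.map φ₁) (c.π.app i₀) (c.w φ₁) (b₁ k) = β k :=
    fun k => funext fun a => hs (k, a)
  have hrelS : ∀ k : K, (𝒯.pullback hL₀ hU (c.π.app i₀)).Rel 1
      (pull 𝒯 (c.π.app j₁) (D.map φ₁) (c.π.app i₀) (c.w φ₁) (b₁ k)) := by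
    intro k
    rw [hpull k]
    exact hβrel k
  -- step 3: the relations hold eventually
  have hQc : ∀ a a' : 𝒯.A,
      IsCompact ((D.map φ₁ ⁻¹ᵁ 𝒯.U a ⊓ D.map φ₁ ⁻¹ᵁ 𝒯.U a' : (D.obj j₁).Opens) : Set (D.obj j₁)) :=
    fun a a' => QuasiSeparatedSpace.inter_isCompact _ _ (D.map φ₁ ⁻¹ᵁ 𝒯.U a).isOpen
      ((hU a).preimage (D.map φ₁)).isCompact (D.map φ₁ ⁻¹ᵁ 𝒯.U a').isOpen
      ((hU a').preimage (D.map φ₁)).isCompact
  have hQeq : ∀ a a' : 𝒯.A, c.π.app i₀ ⁻¹ᵁ 𝒯.U a ⊓ c.π.app i₀ ⁻¹ᵁ 𝒯.U a' =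
      c.π.app j₁ ⁻¹ᵁ (D.map φ₁ ⁻¹ᵁ 𝒯.U a ⊓ D.map φ₁ ⁻¹ᵁ 𝒯.U a') := by
    intro a a'
    rw [← c.w φ₁]
    rfl
  have hrelEv : Ev (fun j (ψ : j ⟶ j₁) => ∀ m : K × 𝒯.A × 𝒯.A,
      (D.map ψ).app (D.map φ₁ ⁻¹ᵁ 𝒯.U m.2.1 ⊓ D.map φ₁ ⁻¹ᵁ 𝒯.U m.2.2)
          (relL 𝒯 (D.map φ₁) (b₁ m.1) m.2.1 m.2.2) =
        (D.map ψ).app (D.map φ₁ ⁻¹ᵁ 𝒯.U m.2.1 ⊓ D.map φ₁ ⁻¹ᵁ 𝒯.U m.2.2)
          (relR 𝒯 (D.map φ₁) 1 (b₁ m.1) m.2.1 m.2.2)) := by
    apply Ev.forall_finite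
    rintro ⟨k, a, a'⟩
    apply ev_app_eq D c hc j₁ _ (hQc a a')
    exact app_eq_of_appLE_eq (c.π.app j₁) (hQeq a a')
      (appLE_eq_of_rel_pull 𝒯 hL₀ hU (c.π.app j₁) (D.map φ₁) (c.π.app i₀) (c.w φ₁) 1
        (b₁ k) (hrelS k) a a')
  -- step 4: the loci
  let 𝒯₁ := 𝒯.pullback hL₀ hU (D.map φ₁)
  have hO₁pre : ∀ k : K, c.π.app j₁ ⁻¹ᵁ 𝒯₁.locus (b₁ k) = O k.1 := by
    intro k
    rw [hOeq k, ← hpull k]
    exact (locus_pull 𝒯 hL₀ hU (c.π.app j₁) (D.map φ₁) (c.π.app i₀) (c.w φ₁) (b₁ k)).symm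
  have hcovEv : Ev (fun j (ψ : j ⟶ j₁) => D.map ψ ⁻¹ᵁ (⨆ k : K, 𝒯₁.locus (b₁ k)) = ⊤) := by
    apply ev_preimage_eq_top D c hc j₁
    rw [Scheme.Hom.preimage_iSup, eq_top_iff]
    intro x _
    obtain ⟨k, hk⟩ := hKcov x
    exact Opens.mem_iSup.mpr ⟨k, (hO₁pre k).symm ▸ hk⟩
  -- step 5: a stage where everything holds
  obtain ⟨j, ψ, hrelj, hcovj⟩ := (hrelEv.and hcovEv).exists
  have hq : D.map ψ ≫ D.map φ₁ = D.map (ψ ≫ φ₁) := (D.map_comp ψ φ₁).symm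
  refine ⟨j, ψ ≫ φ₁, ?_⟩
  refine isGenOn_top_of_fams (𝒯.pullback hL₀ hU (D.map (ψ ≫ φ₁)))
    (fun k : K => pull 𝒯 (D.map ψ) (D.map φ₁) (D.map (ψ ≫ φ₁)) hq (b₁ k)) (fun k => ?_)
    (fun x => ?_)
  · exact rel_pull_of_appLE_eq 𝒯 hL₀ hU (D.map ψ) (D.map φ₁) (D.map (ψ ≫ φ₁)) hq 1 (b₁ k)
      (fun a a' => appLE_eq_of_app_eq (D.map ψ) _ (hrelj (k, a, a')))
  · have hx : x ∈ D.map ψ ⁻¹ᵁ (⨆ k : K, 𝒯₁.locus (b₁ k)) := hcovj ▸ Opens.mem_top x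
    rw [Scheme.Hom.preimage_iSup] at hx
    obtain ⟨k, hk⟩ := Opens.mem_iSup.mp hx
    refine ⟨k, ?_⟩
    rw [locus_pull 𝒯 hL₀ hU (D.map ψ) (D.map φ₁) (D.map (ψ ≫ φ₁)) hq (b₁ k)]
    exact hk

include hc in
/-- variant of `exists_isGenOn_top_stage` for a module on a scheme under the whole diagram. -/
theorem exists_isGenOn_top_stage' [∀ j, CompactSpace (D.obj j)] [∀ j, QuasiSeparatedSpace (D.obj j)]
    {T₀ : Scheme.{u}} (τ : ∀ j, D.obj j ⟶ T₀)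
    (hτ : ∀ {j j' : I} (f : j ⟶ j'), D.map f ≫ τ j' = τ j)
    (L₀ : T₀.Modules) (hL₀ : PicF.IsInvertible L₀) (j₀ : I)
    (h : IsGenOn ((Scheme.Modules.pullback (c.π.app j₀ ≫ τ j₀)).obj L₀) ⊤) :
    ∃ j : I, IsGenOn ((Scheme.Modules.pullback (τ j)).obj L₀) ⊤ := by
  have hL₁ : PicF.IsInvertible ((Scheme.Modules.pullback (τ j₀)).obj L₀) :=
    isInvertible_pullback (τ j₀) hL₀
  have h' : IsGenOn ((Scheme.Modules.pullback (c.π.app j₀)).obj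
      ((Scheme.Modules.pullback (τ j₀)).obj L₀)) ⊤ :=
    isGenOn_congr (pullbackCompIso (c.π.app j₀) (τ j₀) _ rfl L₀).symm
      (isInvertible_pullback _ hL₀) ⊤ h
  obtain ⟨j, φ, hj⟩ := exists_isGenOn_top_stage D c hc j₀ _ hL₁ h'
  exact ⟨j, isGenOn_congr (pullbackCompIso (D.map φ) (τ j₀) (τ j) (hτ φ) L₀)
    (isInvertible_pullback _ hL₁) ⊤ hj⟩

end Main

end Groth.Agent.Lib.LimGGH6
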