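import Mathlib
import Groth.Prelude
import Groth.Agent.Lib.LimGG2_helper6

/-!
# Relative generation by sections descends from a cofiltered limit to a stage (helper6)
APPEND-ONLY once landed.

* `exists_isGenOn_stage`: generation over a quasi-compact quasi-separated open descends from the
  base change to the limit to the base change to a stage.
* `main17426`: if the counit `f^* f_* L ⟶ L` is an epimorphism at the limit, it is an epimorphism
  for all base changes to all sufficiently late stages.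
-/

set_option autoImplicit false
set_option linter.all false

namespace Groth.Agent.Lib.LimGGH6

open AlgebraicGeometry CategoryTheory CategoryTheory.Limits TopologicalSpace Opposite
open QcqsLoc GenLocH8 FLFH8 QCohExtn TensH8 PBH8
open Groth.Agent.Lib.LimAmpH6
open Groth.Agent.Lib.LimBaseChangeH7

universe u

/-- generation over the preimage of an open is inherited along a factorisation -/
theorem isGenOn_of_comp {A B C : Scheme.{u}} (u : A ⟶ B) (p : B ⟶ C) (q : A ⟶ C) (h : u ≫ p = q)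
    (L₀ : C.Modules) (hL₀ : PicF.IsInvertible L₀) (Ω : C.Opens)
    (hB : IsGenOn ((Scheme.Modules.pullback p).obj L₀) (p ⁻¹ᵁ Ω)) :
    IsGenOn ((Scheme.Modules.pullback q).obj L₀) (q ⁻¹ᵁ Ω) := by
  have h1 := isGenOn_pullback u (isInvertible_pullback p hL₀) hB
  have h2 := isGenOn_congr (pullbackCompIso u p q h L₀)
    (isInvertible_pullback u (isInvertible_pullback p hL₀)) _ h1
  rwa [← Scheme.Hom.comp_preimage, h] at h2

section Core

variable {I : Type u} [SmallCategory I] [IsCofiltered I] (D : I ⥤ Scheme.{u}) (c : Cone D)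
  (hc : IsLimit c) [∀ (i j : I) (f : i ⟶ j), IsAffineHom (D.map f)]

include hc in
/-- **Generation by sections over a quasi-compact quasi-separated open descends from the base
change to the limit to the base change to a stage.** -/
theorem exists_isGenOn_stage (i₀ : I) {X₀ : Scheme.{u}} (h₀ : X₀ ⟶ D.obj i₀) (Ω : X₀.Opens)
    (hΩc : IsCompact (Ω : Set X₀)) (hΩqs : IsQuasiSeparated (Ω : Set X₀))
    (L₀ : X₀.Modules) (hL₀ : PicF.IsInvertible L₀) {X : Scheme.{u}} (qX : X ⟶ X₀) (pS : X ⟶ c.pt)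
    (hX : IsPullback qX pS h₀ (c.π.app i₀))
    (h : IsGenOn ((Scheme.Modules.pullback qX).obj L₀) (qX ⁻¹ᵁ Ω)) :
    ∃ (j : I) (φ : j ⟶ i₀),
      IsGenOn ((Scheme.Modules.pullback (pullback.fst h₀ (D.map φ))).obj L₀)
        (pullback.fst h₀ (D.map φ) ⁻¹ᵁ Ω) := by
  haveI : CompactSpace Ω.toScheme := isCompact_iff_compactSpace.mp hΩc
  haveI : QuasiSeparatedSpace Ω.toScheme :=
    (isQuasiSeparated_iff_quasiSeparatedSpace _ Ω.2).mp hΩqs
  have hsq : IsPullback (qX.resLE Ω (qX ⁻¹ᵁ Ω) le_rfl) (qX ⁻¹ᵁ Ω).ι Ω.ι qX :=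
    IsOpenImmersion.isPullback _ _ _ _ (by simp) (by simp)
  have hX' := hsq.paste_vert hX
  -- the diagram
  let D' := bcDiagram D i₀ (Ω.ι ≫ h₀)
  let c' := bcCone c hX'
  have hc' := isLimitBcCone c hX' hc
  let τ : ∀ j : Over i₀, D'.obj j ⟶ X₀ := fun j => pullback.fst (Ω.ι ≫ h₀) (D.map j.hom) ≫ Ω.ι
  have hτ : ∀ {j j' : Over i₀} (f : j ⟶ j'), D'.map f ≫ τ j' = τ j := by
    intro j j' f
    show (bcDiagram D i₀ (Ω.ι ≫ h₀)).map f ≫ pullback.fst (Ω.ι ≫ h₀) (D.map j'.hom) ≫ Ω.ι =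
      pullback.fst (Ω.ι ≫ h₀) (D.map j.hom) ≫ Ω.ι
    rw [← Category.assoc, bcDiagram_map_fst]
    rfl
  have hcomp : (qX ⁻¹ᵁ Ω).ι ≫ qX = c'.π.app (Over.mk (𝟙 i₀)) ≫ τ (Over.mk (𝟙 i₀)) := by
    show (qX ⁻¹ᵁ Ω).ι ≫ qX = (bcCone c hX').π.app (Over.mk (𝟙 i₀)) ≫
      pullback.fst (Ω.ι ≫ h₀) (D.map (𝟙 i₀)) ≫ Ω.ι
    rw [← Category.assoc]
    erw [bcCone_π_fst]
    simp
  have hinv := isInvertible_pullback qX hL₀
  have hgen : IsGenOn ((Scheme.Modules.pullback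
      (c'.π.app (Over.mk (𝟙 i₀)) ≫ τ (Over.mk (𝟙 i₀)))).obj L₀) ⊤ := by
    have h1 := (isGenOn_top_restrict_ι_iff hinv (qX ⁻¹ᵁ Ω)).mpr h
    exact isGenOn_congr (restrictPullbackIso' (qX ⁻¹ᵁ Ω).ι qX _ hcomp L₀)
      (isInvertible_restrict _ hinv) ⊤ h1
  obtain ⟨j, hj⟩ := exists_isGenOn_top_stage' D' c' hc' τ hτ L₀ hL₀ (Over.mk (𝟙 i₀)) hgen
  refine ⟨j.left, j.hom, ?_⟩
  have h2 : IsGenOn (((Scheme.Modules.pullback (pullback.fst h₀ (D.map j.hom))).obj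
      L₀).restrict (bcOpen h₀ (D.map j.hom) Ω)) ⊤ :=
    isGenOn_congr (restrictPullbackIso' (bcOpen h₀ (D.map j.hom) Ω)
      (pullback.fst h₀ (D.map j.hom)) (τ j) (bcOpen_fst _ _ _) L₀).symm
      (isInvertible_pullback _ hL₀) ⊤ hj
  rw [isGenOn_top_restrict_iff _ (isInvertible_pullback _ hL₀), bcOpen_opensRange] at h2
  exact h2

include hc in
/-- **Relative generation by sections descends from the limit to all sufficiently late stages.** -/
theorem main17426 (i₀ : I) [CompactSpace (D.obj i₀)]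
    {X₀ Y₀ : Scheme.{u}} (f₀ : X₀ ⟶ Y₀) (g₀ : Y₀ ⟶ D.obj i₀)
    [QuasiCompact g₀] [QuasiSeparated g₀] [QuasiCompact (f₀ ≫ g₀)] [QuasiSeparated (f₀ ≫ g₀)]
    (L₀ : X₀.Modules) (hL₀ : PicF.IsInvertible L₀)
    {X Y : Scheme.{u}} (f : X ⟶ Y) (g : Y ⟶ c.pt) (qY : Y ⟶ Y₀) (qX : X ⟶ X₀)
    (hY : IsPullback qY g g₀ (c.π.app i₀)) (hX : IsPullback qX f f₀ qY)
    (hgen : Epi ((Scheme.Modules.pullbackPushforwardAdjunction f).counit.app
      ((Scheme.Modules.pullback qX).obj L₀))) :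
    ∃ (j : I) (φ : j ⟶ i₀), ∀ (k : I) (ψ : k ⟶ j) (Xk Yk : Scheme.{u}) (fk : Xk ⟶ Yk)
      (gk : Yk ⟶ D.obj k) (pY : Yk ⟶ Y₀) (pX : Xk ⟶ X₀),
      IsPullback pY gk g₀ (D.map (ψ ≫ φ)) → IsPullback pX fk f₀ pY →
        Epi ((Scheme.Modules.pullbackPushforwardAdjunction fk).counit.app
          ((Scheme.Modules.pullback pX).obj L₀)) := by
  classical
  haveI : QuasiCompact f₀ := QuasiCompact.of_comp f₀ g₀
  haveI : QuasiSeparated f₀ := QuasiSeparated.of_comp f₀ g₀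
  haveI : CompactSpace Y₀ := QuasiCompact.compactSpace_of_compactSpace g₀
  haveI : IsAffineHom (c.π.app i₀) := isAffineHom_π_app D c hc i₀
  haveI : IsAffineHom qY := MorphismProperty.of_isPullback (P := @IsAffineHom) hY.flip inferInstance
  haveI : QuasiCompact f := MorphismProperty.of_isPullback (P := @QuasiCompact) hX inferInstance
  haveI : QuasiSeparated f :=
    MorphismProperty.of_isPullback (P := @QuasiSeparated) hX inferInstance
  -- a finite affine cover of `Y₀`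
  have hcov := fun y : Y₀ => exists_isAffineOpen_mem_and_subset (x := y) (U := ⊤) trivial
  choose V hV hyV _ using hcov
  obtain ⟨t, ht⟩ := CompactSpace.elim_nhds_subcover (fun y => (V y : Set Y₀))
    (fun y => (V y).isOpen.mem_nhds (hyV y))
  let M : Type u := {y : Y₀ // y ∈ t}
  have hMcov : ∀ y : Y₀, ∃ m : M, y ∈ V m.1 := by
    intro y
    have hy : y ∈ ⋃ z ∈ t, (V z : Set Y₀) := ht ▸ Set.mem_univ y
    obtain ⟨z, hz, hyz⟩ := Set.mem_iUnion₂.mp hy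
    exact ⟨⟨z, hz⟩, hyz⟩
  let Ω : M → X₀.Opens := fun m => f₀ ⁻¹ᵁ V m.1
  have hΩc : ∀ m, IsCompact (Ω m : Set X₀) := fun m =>
    QuasiCompact.isCompact_preimage (f := f₀) _ (V m.1).isOpen (hV m.1).isCompact
  have hΩqs : ∀ m, IsQuasiSeparated (Ω m : Set X₀) := fun m =>
    f₀.isQuasiSeparated_preimage (hV m.1).isQuasiSeparated
  have hinv := isInvertible_pullback qX hL₀
  have hXS : IsPullback qX (f ≫ g) (f₀ ≫ g₀) (c.π.app i₀) := hX.paste_vert hY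
  -- generation over the pieces at the limit
  have hlim : ∀ m : M, IsGenOn ((Scheme.Modules.pullback qX).obj L₀) (qX ⁻¹ᵁ Ω m) := by
    intro m
    have h1 := isGenOn_of_epi_counit f hinv hgen ((hV m.1).preimage qY)
    have e : f ⁻¹ᵁ (qY ⁻¹ᵁ V m.1) = qX ⁻¹ᵁ Ω m := by
      show f ⁻¹ᵁ (qY ⁻¹ᵁ V m.1) = qX ⁻¹ᵁ (f₀ ⁻¹ᵁ V m.1)
      rw [← Scheme.Hom.comp_preimage, ← Scheme.Hom.comp_preimage, hX.w]
    rwa [e] at h1
  -- a common stage
  have hev : Ev (fun j (φ : j ⟶ i₀) => ∀ m : M,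
      IsGenOn ((Scheme.Modules.pullback (pullback.fst (f₀ ≫ g₀) (D.map φ))).obj L₀)
        (pullback.fst (f₀ ≫ g₀) (D.map φ) ⁻¹ᵁ Ω m)) := by
    apply Ev.forall_finite
    intro m
    apply Ev.of_stable
    · intro j φ j' ψ hj
      let α : Over.mk (ψ ≫ φ) ⟶ Over.mk φ := Over.homMk ψ rfl
      exact isGenOn_of_comp ((bcDiagram D i₀ (f₀ ≫ g₀)).map α) _ _
        (bcDiagram_map_fst D i₀ (f₀ ≫ g₀) α) L₀ hL₀ (Ω m) hj
    · exact exists_isGenOn_stage D c hc i₀ (f₀ ≫ g₀) (Ω m) (hΩc m) (hΩqs m) L₀ hL₀ qX (f ≫ g)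
        hXS (hlim m)
  obtain ⟨j, φ, hj⟩ := hev.exists
  refine ⟨j, φ, fun k ψ Xk Yk fk gk pY pX hYk hXk => ?_⟩
  have hw : pX ≫ f₀ ≫ g₀ = (fk ≫ gk ≫ D.map ψ) ≫ D.map φ := by
    rw [← Category.assoc, hXk.w, Category.assoc, hYk.w, D.map_comp]
    simp only [Category.assoc]
  let u : Xk ⟶ pullback (f₀ ≫ g₀) (D.map φ) := pullback.lift pX (fk ≫ gk ≫ D.map ψ) hw
  have hu : u ≫ pullback.fst (f₀ ≫ g₀) (D.map φ) = pX := pullback.lift_fst _ _ _
  apply epi_counit_of_isGenOn fk (isInvertible_pullback pX hL₀)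
  intro y
  obtain ⟨m, hm⟩ := hMcov (pY.base y)
  refine ⟨pY ⁻¹ᵁ V m.1, hm, ?_⟩
  have h1 := isGenOn_of_comp u _ pX hu L₀ hL₀ (Ω m) (hj m)
  have e : fk ⁻¹ᵁ (pY ⁻¹ᵁ V m.1) = pX ⁻¹ᵁ Ω m := by
    show fk ⁻¹ᵁ (pY ⁻¹ᵁ V m.1) = pX ⁻¹ᵁ (f₀ ⁻¹ᵁ V m.1)
    rw [← Scheme.Hom.comp_preimage, ← Scheme.Hom.comp_preimage, hXk.w]
  rw [e]
  exact h1

end Core

end Groth.Agent.Lib.LimGGH6
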