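import Groth.Agent.Lib.LimHomMain_helper2
import Groth.Agent.Lib.Fpqc1_helper8

/-!
# EGA IV 8.5.2.5 (S4790): isomorphy of finitely presented modules over a limit descends (helper2)
APPEND-ONLY once landed.
-/

set_option autoImplicit false
set_option maxHeartbeats 1000000
set_option linter.style.haveILetI false
set_option linter.unusedSectionVars false
set_option linter.unusedVariables false
universe u

open CategoryTheory CategoryTheory.Limits AlgebraicGeometry TopologicalSpace Opposite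

namespace Groth.Agent.Lib.LimMod

theorem main4790 {I : Type u} [SmallCategory I] [IsCofiltered I]
    (D : I ⥤ Scheme.{u}) (c : Limits.Cone D) (hc : Limits.IsLimit c)
    [∀ (i j : I) (f : i ⟶ j), IsAffineHom (D.map f)] (i₀ : I) [CompactSpace (D.obj i₀)]
    [QuasiSeparatedSpace (D.obj i₀)] (F₀ G₀ : (D.obj i₀).Modules)
    [Coh.IsQCoh F₀] (hF₀fp : CohB1.IsFP F₀)
    [Coh.IsQCoh G₀] (hG₀fp : CohB1.IsFP G₀) :
    Nonempty ((Scheme.Modules.pullback (c.π.app i₀)).obj F₀ ≅
        (Scheme.Modules.pullback (c.π.app i₀)).obj G₀) ↔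
      ∃ (j : I) (φ : j ⟶ i₀),
        Nonempty ((Scheme.Modules.pullback (D.map φ)).obj F₀ ≅
          (Scheme.Modules.pullback (D.map φ)).obj G₀) := by
  haveI := hF₀fp
  haveI := hG₀fp
  haveI : F₀.IsQuasicoherent := ‹Coh.IsQCoh F₀›
  haveI : G₀.IsQuasicoherent := ‹Coh.IsQCoh G₀›
  constructor
  · rintro ⟨θ⟩
    obtain ⟨k, hk, e⟩ := exists_hom_lift D c hc i₀ F₀ G₀ θ.hom
    haveI hiso : IsIso ((Scheme.Modules.pullback (c.π.app k.left)).map hk) := by
      have e2 : (Scheme.Modules.pullback (c.π.app k.left)).map hk =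
          (DescH8.pbIso (c.π.app k.left) (D.map k.hom) (c.π.app i₀) (c.w k.hom)).hom.app F₀ ≫
            θ.hom ≫
            (DescH8.pbIso (c.π.app k.left) (D.map k.hom) (c.π.app i₀) (c.w k.hom)).inv.app G₀ := by
        rw [← e]
        simp
      rw [e2]
      infer_instance
    haveI : CompactSpace (D.obj k.left) :=
      QuasiCompact.compactSpace_of_compactSpace (D.map k.hom)
    haveI : SheafOfModules.IsFiniteType (R := (D.obj k.left).ringCatSheaf)
        ((Scheme.Modules.pullback (D.map k.hom)).obj F₀) :=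
      FpqcH8.isFiniteType_pullback (D.map k.hom) F₀
    haveI : SheafOfModules.IsFinitePresentation (R := (D.obj k.left).ringCatSheaf)
        ((Scheme.Modules.pullback (D.map k.hom)).obj G₀) :=
      FpqcH8.isFP_pullback (D.map k.hom) G₀
    obtain ⟨k', hk'⟩ := eventually_isIso D c hc k.left hk
    haveI := hk' k' (𝟙 k')
    have w : D.map k'.hom ≫ D.map k.hom = D.map (k'.hom ≫ k.hom) := (D.map_comp _ _).symm
    exact ⟨k'.left, k'.hom ≫ k.hom,
      ⟨((DescH8.pbIso (D.map k'.hom) (D.map k.hom) (D.map (k'.hom ≫ k.hom)) w).app F₀).symm ≪≫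
        asIso ((Scheme.Modules.pullback (D.map k'.hom)).map hk) ≪≫
        (DescH8.pbIso (D.map k'.hom) (D.map k.hom) (D.map (k'.hom ≫ k.hom)) w).app G₀⟩⟩
  · rintro ⟨j, φ, ⟨θ⟩⟩
    exact ⟨((DescH8.pbIso (c.π.app j) (D.map φ) (c.π.app i₀) (c.w φ)).app F₀).symm ≪≫
      (Scheme.Modules.pullback (c.π.app j)).mapIso θ ≪≫
      (DescH8.pbIso (c.π.app j) (D.map φ) (c.π.app i₀) (c.w φ)).app G₀⟩

end Groth.Agent.Lib.LimMod
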