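import Groth.Agent.Lib.LimModSys_helper2
import Groth.Agent.Lib.PB9_helper8
import Groth.Agent.Lib.FLF8_helper8
import Groth.Agent.Lib.Fpqc1_helper8
import Groth.Agent.Lib.Desc4_helper8

/-!
# EGA IV 8.5.2 / 8.5.5: module properties over a limit of schemes come from a stage (helper2)

`D : I ⥤ Scheme` cofiltered with affine transition maps, `c` a limit cone, `i₀` a quasi-compact
stage.  For quasi-coherent modules on `D.obj i₀` (with suitable finiteness) equality of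
homomorphisms, surjectivity, bijectivity, local freeness (of rank `n`) of the pullbacks to the
limit hold iff they hold at a stage.
APPEND-ONLY once landed.
-/

set_option autoImplicit false
set_option maxHeartbeats 1000000
set_option linter.style.haveILetI false
set_option linter.unusedSectionVars false
set_option linter.unusedVariables false
universe u

open CategoryTheory CategoryTheory.Limits AlgebraicGeometry TopologicalSpace Opposite TensorProduct

namespace Groth.Agent.Lib.LimMod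

section Main1

variable {I : Type u} [SmallCategory I] [IsCofiltered I] (D : I ⥤ Scheme.{u}) (c : Cone D)
  (hc : IsLimit c) [∀ (i j : I) (f : i ⟶ j), IsAffineHom (D.map f)]
  (i₀ : I) [CompactSpace (D.obj i₀)]

section Hom

variable {F₀ G₀ : (D.obj i₀).Modules} [F₀.IsQuasicoherent] [G₀.IsQuasicoherent]

include hc in
/-- Equality of the pullbacks to the limit implies equality at all sufficiently small stages. -/
theorem eventually_eq [SheafOfModules.IsFiniteType (R := (D.obj i₀).ringCatSheaf) F₀]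
    (φ₀ ψ₀ : F₀ ⟶ G₀)
    (H : (Scheme.Modules.pullback (c.π.app i₀)).map φ₀ =
      (Scheme.Modules.pullback (c.π.app i₀)).map ψ₀) :
    ∃ k : Over i₀, ∀ (k' : Over i₀) (g : k' ⟶ k),
      (Scheme.Modules.pullback (D.map k'.hom)).map φ₀ =
        (Scheme.Modules.pullback (D.map k'.hom)).map ψ₀ := by
  obtain ⟨k, hk⟩ := exists_common_stage D i₀
    (fun U₀ k' => ∀ s : Γ((Scheme.Modules.pullback (D.map k'.hom)).obj F₀, Uj D i₀ U₀ k'),
      ((Scheme.Modules.pullback (D.map k'.hom)).map φ₀).app (Uj D i₀ U₀ k') s =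
        ((Scheme.Modules.pullback (D.map k'.hom)).map ψ₀).app (Uj D i₀ U₀ k') s)
    (fun U₀ hU₀ => chart_eq D c i₀ U₀ hc hU₀ φ₀ ψ₀ H)
  refine ⟨k, fun k' g => hom_eq_of_affine_cover _ _ (fun x => ?_)⟩
  obtain ⟨U₀, hU₀, hx, hP⟩ := hk k' g x
  exact ⟨Uj D i₀ U₀ k', hU₀.preimage (D.map k'.hom), hx, hP⟩

include hc in
/-- Surjectivity of the pullback to the limit implies surjectivity at all sufficiently small
stages. -/
theorem eventually_epi [SheafOfModules.IsFiniteType (R := (D.obj i₀).ringCatSheaf) G₀]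
    (f₀ : F₀ ⟶ G₀) [Epi ((Scheme.Modules.pullback (c.π.app i₀)).map f₀)] :
    ∃ k : Over i₀, ∀ (k' : Over i₀) (g : k' ⟶ k),
      Epi ((Scheme.Modules.pullback (D.map k'.hom)).map f₀) := by
  obtain ⟨k, hk⟩ := exists_common_stage D i₀
    (fun U₀ k' => Function.Surjective
      (((Scheme.Modules.pullback (D.map k'.hom)).map f₀).app (Uj D i₀ U₀ k')))
    (fun U₀ hU₀ => chart_epi D c i₀ U₀ hc hU₀ f₀)
  refine ⟨k, fun k' g => epi_of_affine_cover _ (fun x => ?_)⟩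
  obtain ⟨U₀, hU₀, hx, hP⟩ := hk k' g x
  exact ⟨Uj D i₀ U₀ k', hU₀.preimage (D.map k'.hom), hx, hP⟩

include hc in
/-- Bijectivity of the pullback to the limit implies bijectivity at all sufficiently small
stages. -/
theorem eventually_isIso [SheafOfModules.IsFiniteType (R := (D.obj i₀).ringCatSheaf) F₀]
    [SheafOfModules.IsFinitePresentation (R := (D.obj i₀).ringCatSheaf) G₀]
    (f₀ : F₀ ⟶ G₀) [IsIso ((Scheme.Modules.pullback (c.π.app i₀)).map f₀)] :
    ∃ k : Over i₀, ∀ (k' : Over i₀) (g : k' ⟶ k),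
      IsIso ((Scheme.Modules.pullback (D.map k'.hom)).map f₀) := by
  obtain ⟨k, hk⟩ := exists_common_stage D i₀
    (fun U₀ k' => Function.Bijective
      (((Scheme.Modules.pullback (D.map k'.hom)).map f₀).app (Uj D i₀ U₀ k')))
    (fun U₀ hU₀ => chart_iso D c i₀ U₀ hc hU₀ f₀)
  refine ⟨k, fun k' g => isIso_of_affine_cover _ (fun x => ?_)⟩
  obtain ⟨U₀, hU₀, hx, hP⟩ := hk k' g x
  exact ⟨Uj D i₀ U₀ k', hU₀.preimage (D.map k'.hom), hx, hP⟩

end Hom

section Transfer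

variable {F₀ G₀ : (D.obj i₀).Modules}

omit [IsCofiltered I] [∀ (i j : I) (f : i ⟶ j), IsAffineHom (D.map f)]
  [CompactSpace (D.obj i₀)] in
theorem eq_of_stage (φ₀ ψ₀ : F₀ ⟶ G₀) {j : I} (φ : j ⟶ i₀)
    (H : (Scheme.Modules.pullback (D.map φ)).map φ₀ =
      (Scheme.Modules.pullback (D.map φ)).map ψ₀) :
    (Scheme.Modules.pullback (c.π.app i₀)).map φ₀ =
      (Scheme.Modules.pullback (c.π.app i₀)).map ψ₀ := by
  rw [DescH8.pb_map_eq (c.π.app j) (D.map φ) (c.π.app i₀) (c.w φ) φ₀,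
    DescH8.pb_map_eq (c.π.app j) (D.map φ) (c.π.app i₀) (c.w φ) ψ₀, H]

omit [IsCofiltered I] [∀ (i j : I) (f : i ⟶ j), IsAffineHom (D.map f)]
  [CompactSpace (D.obj i₀)] in
theorem epi_of_stage (f₀ : F₀ ⟶ G₀) {j : I} (φ : j ⟶ i₀)
    [Epi ((Scheme.Modules.pullback (D.map φ)).map f₀)] :
    Epi ((Scheme.Modules.pullback (c.π.app i₀)).map f₀) :=
  (DescH8.epi_pb_iff (c.π.app j) (D.map φ) (c.π.app i₀) (c.w φ) f₀).mpr inferInstance

omit [IsCofiltered I] [∀ (i j : I) (f : i ⟶ j), IsAffineHom (D.map f)]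
  [CompactSpace (D.obj i₀)] in
theorem isIso_of_stage (f₀ : F₀ ⟶ G₀) {j : I} (φ : j ⟶ i₀)
    [IsIso ((Scheme.Modules.pullback (D.map φ)).map f₀)] :
    IsIso ((Scheme.Modules.pullback (c.π.app i₀)).map f₀) :=
  (DescH8.isIso_pb_iff (c.π.app j) (D.map φ) (c.π.app i₀) (c.w φ) f₀).mpr inferInstance

end Transfer

end Main1

/-- **EGA IV 8.5.2 (i), injectivity of `colim Hom(F_λ, G_λ) → Hom(F, G)`.** -/
theorem main4797 {I : Type u} [SmallCategory I] [IsCofiltered I]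
    (D : I ⥤ Scheme.{u}) (c : Limits.Cone D) (hc : Limits.IsLimit c)
    [∀ (i j : I) (f : i ⟶ j), IsAffineHom (D.map f)] (i₀ : I) [CompactSpace (D.obj i₀)]
    {F₀ G₀ : (D.obj i₀).Modules} [Coh.IsQCoh F₀] (hF₀ft : CohB1.IsFT F₀) [Coh.IsQCoh G₀]
    (φ₀ ψ₀ : F₀ ⟶ G₀) :
    (Scheme.Modules.pullback (c.π.app i₀)).map φ₀ = (Scheme.Modules.pullback (c.π.app i₀)).map ψ₀ ↔
      ∃ (j : I) (φ : j ⟶ i₀),
        (Scheme.Modules.pullback (D.map φ)).map φ₀ = (Scheme.Modules.pullback (D.map φ)).map ψ₀ := by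
  haveI := hF₀ft
  constructor
  · intro H
    obtain ⟨k, hk⟩ := eventually_eq D c hc i₀ φ₀ ψ₀ H
    exact ⟨k.left, k.hom, hk k (𝟙 k)⟩
  · rintro ⟨j, φ, H⟩
    exact eq_of_stage D c i₀ φ₀ ψ₀ φ H

/-- **EGA IV 8.5.2, surjectivity of a homomorphism.** -/
theorem main4793 {I : Type u} [SmallCategory I] [IsCofiltered I]
    (D : I ⥤ Scheme.{u}) (c : Limits.Cone D) (hc : Limits.IsLimit c)
    [∀ (i j : I) (f : i ⟶ j), IsAffineHom (D.map f)] (i₀ : I) [CompactSpace (D.obj i₀)]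
    {F₀ G₀ : (D.obj i₀).Modules} [Coh.IsQCoh F₀]
    [Coh.IsQCoh G₀] (hG₀ft : CohB1.IsFT G₀) (f₀ : F₀ ⟶ G₀) :
    Epi ((Scheme.Modules.pullback (c.π.app i₀)).map f₀) ↔
      ∃ (j : I) (φ : j ⟶ i₀), Epi ((Scheme.Modules.pullback (D.map φ)).map f₀) := by
  haveI := hG₀ft
  constructor
  · intro H
    obtain ⟨k, hk⟩ := eventually_epi D c hc i₀ f₀
    exact ⟨k.left, k.hom, hk k (𝟙 k)⟩
  · rintro ⟨j, φ, H⟩
    exact epi_of_stage D c i₀ f₀ φ

/-- **EGA IV 8.5.2 (i) for isomorphisms.** -/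
theorem main4789 {I : Type u} [SmallCategory I] [IsCofiltered I]
    (D : I ⥤ Scheme.{u}) (c : Limits.Cone D) (hc : Limits.IsLimit c)
    [∀ (i j : I) (f : i ⟶ j), IsAffineHom (D.map f)] (i₀ : I) [CompactSpace (D.obj i₀)]
    {F₀ G₀ : (D.obj i₀).Modules} [Coh.IsQCoh F₀] (hF₀ft : CohB1.IsFT F₀)
    [Coh.IsQCoh G₀] (hG₀fp : CohB1.IsFP G₀) (f₀ : F₀ ⟶ G₀) :
    IsIso ((Scheme.Modules.pullback (c.π.app i₀)).map f₀) ↔
      ∃ (j : I) (φ : j ⟶ i₀), IsIso ((Scheme.Modules.pullback (D.map φ)).map f₀) := by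
  haveI := hF₀ft
  haveI := hG₀fp
  constructor
  · intro H
    obtain ⟨k, hk⟩ := eventually_isIso D c hc i₀ f₀
    exact ⟨k.left, k.hom, hk k (𝟙 k)⟩
  · rintro ⟨j, φ, H⟩
    exact isIso_of_stage D c i₀ f₀ φ

end Groth.Agent.Lib.LimMod
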