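import Groth.Agent.Lib.LimHomTr_helper2
import Groth.Agent.Lib.LimModMain1_helper2

/-!
# EGA IV 8.5.2 (i), surjectivity: homomorphisms over a limit of schemes come from a stage (helper2)

`exists_hom_lift`: over a cofiltered limit `S = lim S_i` with affine transition maps and a
quasi-compact quasi-separated stage `S_{i₀}`, every homomorphism `π^*F₀ ⟶ π^*G₀` (`F₀` of finite
presentation, `G₀` quasi-coherent) is induced by a homomorphism at a stage.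
APPEND-ONLY once landed.
-/

set_option autoImplicit false
set_option maxHeartbeats 1000000
set_option linter.style.haveILetI false
set_option linter.unusedSectionVars false
set_option linter.unusedVariables false
universe u

open CategoryTheory CategoryTheory.Limits AlgebraicGeometry TopologicalSpace Opposite TensorProduct

namespace Groth.Agent.Lib.LimMod

/-- A finite conjunction of eventually true properties is eventually true. -/
theorem eventually_forall_finite {J : Type*} [Category J] [IsCofiltered J] {α : Type*}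
    {T : Set α} (hT : T.Finite) {P : α → J → Prop}
    (hP : ∀ t ∈ T, ∃ κ : J, ∀ (κ' : J) (γ : κ' ⟶ κ), P t κ') :
    ∃ κ : J, ∀ (κ' : J) (γ : κ' ⟶ κ), ∀ t ∈ T, P t κ' := by
  classical
  haveI : Nonempty J := IsCofiltered.nonempty
  choose! kt hkt using hP
  obtain ⟨κ, hκ⟩ := IsCofiltered.inf_objs_exists (hT.toFinset.image kt)
  refine ⟨κ, fun κ' γ t ht => ?_⟩
  obtain ⟨g⟩ := hκ (Finset.mem_image.mpr ⟨t, hT.mem_toFinset.mpr ht, rfl⟩)
  exact hkt t ht κ' (γ ≫ g)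

/-- A finite family of affine charts of a quasi-compact quasi-separated scheme: a finite affine
cover together with finite affine covers of the pairwise intersections. -/
theorem exists_chart_family (X : Scheme.{u}) [CompactSpace X] [QuasiSeparatedSpace X] :
    ∃ (𝒱 Us : Set X.Opens), 𝒱.Finite ∧ (∀ V ∈ 𝒱, IsAffineOpen V) ∧ Us ⊆ 𝒱 ∧
      (∀ x : X, ∃ U ∈ Us, x ∈ U) ∧
      (∀ U ∈ Us, ∀ U' ∈ Us, ∀ x : X, x ∈ U → x ∈ U' → ∃ O ∈ 𝒱, x ∈ O ∧ O ≤ U ∧ O ≤ U') := by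
  classical
  obtain ⟨Us, hUsB, hUsfin, hUs⟩ :=
    (Scheme.isBasis_affineOpens X).exists_finite_of_isCompact (U := (⊤ : X.Opens))
      isCompact_univ
  have hUsaff : ∀ U ∈ Us, IsAffineOpen U := fun U hU => hUsB hU
  have hpair : ∀ U U' : X.Opens, U ∈ Us → U' ∈ Us → ∃ Os : Set X.Opens,
      Os ⊆ X.affineOpens ∧ Os.Finite ∧ U ⊓ U' = sSup Os := by
    intro U U' hU hU'
    have hcomp : IsCompact ((U ⊓ U' : X.Opens) : Set X) :=
      QuasiSeparatedSpace.inter_isCompact U.1 U'.1 U.2 (hUsaff U hU).isCompact U'.2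
        (hUsaff U' hU').isCompact
    exact (Scheme.isBasis_affineOpens X).exists_finite_of_isCompact hcomp
  choose! Os hOsB hOsfin hOs using hpair
  refine ⟨Us ∪ ⋃ U ∈ Us, ⋃ U' ∈ Us, Os U U', Us, ?_, ?_, Set.subset_union_left, ?_, ?_⟩
  · exact hUsfin.union (hUsfin.biUnion fun U hU => hUsfin.biUnion fun U' hU' =>
      hOsfin U U' hU hU')
  · rintro V (hV | hV)
    · exact hUsaff V hV
    · simp only [Set.mem_iUnion] at hV
      obtain ⟨U, hU, U', hU', hV⟩ := hV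
      exact hOsB U U' hU hU' hV
  · intro x
    have hx : x ∈ (⊤ : X.Opens) := trivial
    rw [hUs] at hx
    obtain ⟨U, hU, hxU⟩ := Opens.mem_sSup.mp hx
    exact ⟨U, hU, hxU⟩
  · intro U hU U' hU' x hx hx'
    have hxx : x ∈ U ⊓ U' := ⟨hx, hx'⟩
    rw [hOs U U' hU hU'] at hxx
    obtain ⟨O, hO, hxO⟩ := Opens.mem_sSup.mp hxx
    have hle : O ≤ U ⊓ U' := by
      rw [hOs U U' hU hU']
      exact le_sSup hO
    refine ⟨O, Or.inr ?_, hxO, hle.trans inf_le_left, hle.trans inf_le_right⟩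
    simp only [Set.mem_iUnion]
    exact ⟨U, hU, U', hU', hO⟩

section Main

open QcqsLoc

variable {I : Type u} [SmallCategory I] [IsCofiltered I] (D : I ⥤ Scheme.{u}) (c : Cone D)
  (hc : IsLimit c) [∀ (i j : I) (f : i ⟶ j), IsAffineHom (D.map f)] (i₀ : I)
  (F₀ G₀ : (D.obj i₀).Modules)
  (h : (Scheme.Modules.pullback (c.π.app i₀)).obj F₀ ⟶
    (Scheme.Modules.pullback (c.π.app i₀)).obj G₀)

omit [IsCofiltered I] [∀ (i j : I) (f : i ⟶ j), IsAffineHom (D.map f)] in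
theorem Uj_mono {O U : (D.obj i₀).Opens} (hOU : O ≤ U) (k : Over i₀) :
    Uj D i₀ O k ≤ Uj D i₀ U k := fun x hx => hOU hx

omit [IsCofiltered I] [∀ (i j : I) (f : i ⟶ j), IsAffineHom (D.map f)] in
theorem Uinf_mono {O U : (D.obj i₀).Opens} (hOU : O ≤ U) :
    Uinf D c i₀ O ≤ Uinf D c i₀ U := fun x hx => hOU hx

omit [IsCofiltered I] [∀ (i j : I) (f : i ⟶ j), IsAffineHom (D.map f)] in
/-- Restriction commutes with the structure maps of the chart rings. -/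
theorem rh_res {O U : (D.obj i₀).Opens} (hOU : O ≤ U) (k : Over i₀) (r : Γ(D.obj i₀, U)) :
    rh D i₀ O k (rX hOU r) = rX (Uj_mono D i₀ hOU k) (rh D i₀ U k r) := by
  have e1 := Scheme.Hom.map_appLE (D.map k.hom)
    (le_refl (Uj D i₀ O k) : Uj D i₀ O k ≤ (D.map k.hom) ⁻¹ᵁ O) (homOfLE hOU).op
  have e2 := Scheme.Hom.appLE_map (D.map k.hom)
    (le_refl (Uj D i₀ U k) : Uj D i₀ U k ≤ (D.map k.hom) ⁻¹ᵁ U)
    (homOfLE (Uj_mono D i₀ hOU k)).op
  exact congrArg (fun φ => φ.hom r) (e1.trans e2.symm)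

/-- The semilinear map `m ↦ h(cUV m)` on a chart. -/
noncomputable def betaS (V₀ : (D.obj i₀).Opens) :
    Γ(F₀, V₀) →+ Γ((Scheme.Modules.pullback (c.π.app i₀)).obj G₀, Uinf D c i₀ V₀) :=
  AddMonoidHom.mk' (fun m => h.app (Uinf D c i₀ V₀) (PBH8.cUV (c.π.app i₀) F₀ (le_refl _) m))
    (fun x y => by rw [PBH8.cUV_add, map_add])

omit [IsCofiltered I] [∀ (i j : I) (f : i ⟶ j), IsAffineHom (D.map f)] in
theorem betaS_apply (V₀ : (D.obj i₀).Opens) (m : Γ(F₀, V₀)) :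
    betaS D c i₀ F₀ G₀ h V₀ m =
      h.app (Uinf D c i₀ V₀) (PBH8.cUV (c.π.app i₀) F₀ (le_refl _) m) := rfl

omit [IsCofiltered I] [∀ (i j : I) (f : i ⟶ j), IsAffineHom (D.map f)] in
theorem betaS_smul (V₀ : (D.obj i₀).Opens) (r : Γ(D.obj i₀, V₀)) (m : Γ(F₀, V₀)) :
    betaS D c i₀ F₀ G₀ h V₀ (r • m) = (rhinf D c i₀ V₀ r) • betaS D c i₀ F₀ G₀ h V₀ m := by
  rw [betaS_apply, betaS_apply, PBH8.cUV_smul, Scheme.Modules.Hom.app_smul]

omit [IsCofiltered I] [∀ (i j : I) (f : i ⟶ j), IsAffineHom (D.map f)] in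
theorem betaS_res {O U : (D.obj i₀).Opens} (hOU : O ≤ U) (m : Γ(F₀, U)) :
    betaS D c i₀ F₀ G₀ h O (rF F₀ hOU m) =
      rF ((Scheme.Modules.pullback (c.π.app i₀)).obj G₀) (Uinf_mono D c i₀ hOU)
        (betaS D c i₀ F₀ G₀ h U m) := by
  rw [betaS_apply, betaS_apply]
  have e := cUV_res_base (c.π.app i₀) F₀ (le_refl (Uinf D c i₀ U)) (le_refl (Uinf D c i₀ O))
    (Uinf_mono D c i₀ hOU) hOU m
  have e' : PBH8.cUV (c.π.app i₀) F₀ (le_refl (Uinf D c i₀ O)) (rF F₀ hOU m) =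
      ((Scheme.Modules.pullback (c.π.app i₀)).obj F₀).presheaf.map
        (homOfLE (Uinf_mono D c i₀ hOU)).op
        (PBH8.cUV (c.π.app i₀) F₀ (le_refl (Uinf D c i₀ U)) m) := e
  rw [e']
  exact QCohCrit.app_naturality h (homOfLE (Uinf_mono D c i₀ hOU)) _

omit [IsCofiltered I] [∀ (i j : I) (f : i ⟶ j), IsAffineHom (D.map f)] in
theorem tauS_res {O U : (D.obj i₀).Opens} (hOU : O ≤ U) (k : Over i₀)
    (x : Γ((Scheme.Modules.pullback (D.map k.hom)).obj G₀, Uj D i₀ U k)) :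
    tauS D c i₀ O G₀ k (rF _ (Uj_mono D i₀ hOU k) x) =
      rF ((Scheme.Modules.pullback (c.π.app i₀)).obj G₀) (Uinf_mono D c i₀ hOU)
        (tauS D c i₀ U G₀ k x) :=
  trSec_res (c.π.app k.left) (D.map k.hom) (c.π.app i₀) (c.w k.hom) G₀ (Uinf_le D c i₀ U k)
    (Uinf_le D c i₀ O k) (Uinf_mono D c i₀ hOU) (Uj_mono D i₀ hOU k) x

omit [IsCofiltered I] [∀ (i j : I) (f : i ⟶ j), IsAffineHom (D.map f)] in
theorem TrS_res {O U : (D.obj i₀).Opens} (hOU : O ≤ U) {k j : Over i₀} (g : k ⟶ j)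
    (x : Γ((Scheme.Modules.pullback (D.map j.hom)).obj G₀, Uj D i₀ U j)) :
    TrS D i₀ O G₀ g (rF _ (Uj_mono D i₀ hOU j) x) =
      rF ((Scheme.Modules.pullback (D.map k.hom)).obj G₀) (Uj_mono D i₀ hOU k)
        (TrS D i₀ U G₀ g x) :=
  trSec_res (D.map g.left) (D.map j.hom) (D.map k.hom) (over_w D i₀ g) G₀ (Uj_le D i₀ U g)
    (Uj_le D i₀ O g) (Uj_mono D i₀ hOU k) (Uj_mono D i₀ hOU j) x

omit [IsCofiltered I] [∀ (i j : I) (f : i ⟶ j), IsAffineHom (D.map f)] in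
/-- The compatibility defect of two chart lifts dies in the limit. -/
theorem tauS_defect {O U : (D.obj i₀).Opens} (hOU : O ≤ U) (k : Over i₀)
    (bO : Γ(F₀, O) →+ Γ((Scheme.Modules.pullback (D.map k.hom)).obj G₀, Uj D i₀ O k))
    (bU : Γ(F₀, U) →+ Γ((Scheme.Modules.pullback (D.map k.hom)).obj G₀, Uj D i₀ U k))
    (hbO : ∀ m, tauS D c i₀ O G₀ k (bO m) = betaS D c i₀ F₀ G₀ h O m)
    (hbU : ∀ m, tauS D c i₀ U G₀ k (bU m) = betaS D c i₀ F₀ G₀ h U m) (m : Γ(F₀, U)) :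
    tauS D c i₀ O G₀ k (bO (rF F₀ hOU m) - rF _ (Uj_mono D i₀ hOU k) (bU m)) = 0 := by
  rw [tauS_sub, hbO, tauS_res D c i₀ G₀ hOU k, hbU, betaS_res D c i₀ F₀ G₀ h hOU, sub_self]

include hc in
/-- **EGA IV 8.5.2 (i), surjectivity.** -/
theorem exists_hom_lift [CompactSpace (D.obj i₀)] [QuasiSeparatedSpace (D.obj i₀)]
    [F₀.IsQuasicoherent] [SheafOfModules.IsFinitePresentation (R := (D.obj i₀).ringCatSheaf) F₀]
    [G₀.IsQuasicoherent] :
    ∃ (k : Over i₀) (hk : (Scheme.Modules.pullback (D.map k.hom)).obj F₀ ⟶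
        (Scheme.Modules.pullback (D.map k.hom)).obj G₀),
      (DescH8.pbIso (c.π.app k.left) (D.map k.hom) (c.π.app i₀) (c.w k.hom)).inv.app F₀ ≫
        (Scheme.Modules.pullback (c.π.app k.left)).map hk ≫
          (DescH8.pbIso (c.π.app k.left) (D.map k.hom) (c.π.app i₀) (c.w k.hom)).hom.app G₀ =
        h := by
  classical
  haveI hA' : ∀ {i j : I} (f : i ⟶ j), IsAffineHom (D.map f) := fun f => inferInstance
  haveI := isAffineHom_π_app D c hc i₀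
  haveI : Nonempty (Over i₀) := ⟨Over.mk (𝟙 i₀)⟩
  obtain ⟨𝒱, Us, h𝒱fin, h𝒱aff, hUs𝒱, hUscov, hUsref⟩ := exists_chart_family (D.obj i₀)
  -- Step 1: common lifts at a stage `k₁`
  have hP : ∀ V : (D.obj i₀).Opens, V ∈ 𝒱 → ∃ k : Over i₀, ∀ (k' : Over i₀) (g : k' ⟶ k),
      ∃ b : Γ(F₀, V) →+ Γ((Scheme.Modules.pullback (D.map k'.hom)).obj G₀, Uj D i₀ V k'),
        (∀ (r : Γ(D.obj i₀, V)) (m : Γ(F₀, V)), b (r • m) = (rh D i₀ V k' r) • b m) ∧
          ∀ m, tauS D c i₀ V G₀ k' (b m) = betaS D c i₀ F₀ G₀ h V m :=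
    fun V hV => eventually_lift_sec D c i₀ V G₀ hc (h𝒱aff V hV) F₀ (betaS D c i₀ F₀ G₀ h V)
      (betaS_smul D c i₀ F₀ G₀ h V)
  choose! kV hkV using hP
  obtain ⟨k₁, hk₁⟩ := IsCofiltered.inf_objs_exists (h𝒱fin.toFinset.image kV)
  have hb1 : ∀ V : (D.obj i₀).Opens, V ∈ 𝒱 →
      ∃ b : Γ(F₀, V) →+ Γ((Scheme.Modules.pullback (D.map k₁.hom)).obj G₀, Uj D i₀ V k₁),
        (∀ (r : Γ(D.obj i₀, V)) (m : Γ(F₀, V)), b (r • m) = (rh D i₀ V k₁ r) • b m) ∧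
          ∀ m, tauS D c i₀ V G₀ k₁ (b m) = betaS D c i₀ F₀ G₀ h V m := by
    intro V hV
    obtain ⟨g⟩ := hk₁ (Finset.mem_image.mpr ⟨V, h𝒱fin.mem_toFinset.mpr hV, rfl⟩)
    exact hkV V hV k₁ g
  choose! b1 hb1s hb1l using hb1
  -- Step 2: finite generating sets
  have hS : ∀ U : (D.obj i₀).Opens, U ∈ 𝒱 → ∃ S : Finset Γ(F₀, U),
      Submodule.span Γ(D.obj i₀, U) (S : Set Γ(F₀, U)) = ⊤ := by
    intro U hU
    haveI : Module.FinitePresentation Γ(D.obj i₀, U) Γ(F₀, U) :=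
      QCohFP2.finitePresentation_of_isFinitePresentation F₀ (h𝒱aff U hU)
    exact Module.Finite.fg_top
  choose! S hS using hS
  -- Step 3: the compatibility defects die at a later stage
  have hkill : ∃ κ : Over k₁, ∀ (κ' : Over k₁) (γ : κ' ⟶ κ), ∀ O ∈ 𝒱, ∀ U ∈ 𝒱,
      ∀ hOU : O ≤ U, ∀ m ∈ (S U : Set Γ(F₀, U)),
      TrS D i₀ O G₀ κ'.hom (b1 O (rF F₀ hOU m) - rF _ (Uj_mono D i₀ hOU k₁) (b1 U m)) = 0 := by
    refine eventually_forall_finite (P := fun O (κ' : Over k₁) => ∀ U ∈ 𝒱,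
      ∀ hOU : O ≤ U, ∀ m ∈ (S U : Set Γ(F₀, U)),
      TrS D i₀ O G₀ κ'.hom (b1 O (rF F₀ hOU m) - rF _ (Uj_mono D i₀ hOU k₁) (b1 U m)) = 0)
      h𝒱fin (fun O hO => ?_)
    refine eventually_forall_finite (P := fun U (κ' : Over k₁) =>
      ∀ hOU : O ≤ U, ∀ m ∈ (S U : Set Γ(F₀, U)),
      TrS D i₀ O G₀ κ'.hom (b1 O (rF F₀ hOU m) - rF _ (Uj_mono D i₀ hOU k₁) (b1 U m)) = 0)
      h𝒱fin (fun U hU => ?_)
    by_cases hOU : O ≤ U
    · obtain ⟨κ, hκ⟩ := eventually_forall_finite (P := fun m (κ' : Over k₁) =>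
        TrS D i₀ O G₀ κ'.hom (b1 O (rF F₀ hOU m) - rF _ (Uj_mono D i₀ hOU k₁) (b1 U m)) = 0)
        (S U).finite_toSet (fun m hm =>
          eventually_TrS_eq_zero D c i₀ O G₀ hc (h𝒱aff O hO) k₁ _
            (tauS_defect D c i₀ F₀ G₀ h hOU k₁ (b1 O) (b1 U) (hb1l O hO) (hb1l U hU) m))
      exact ⟨κ, fun κ' γ _ m hm => hκ κ' γ m hm⟩
    · exact ⟨Over.mk (𝟙 k₁), fun κ' γ hOU' => absurd hOU' hOU⟩
  obtain ⟨κ, hκ⟩ := hkill
  -- Step 4: transported lifts at the stage `κ.left`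
  obtain ⟨b2, hb2⟩ : ∃ b2 : ∀ V : (D.obj i₀).Opens,
      Γ(F₀, V) →+ Γ((Scheme.Modules.pullback (D.map κ.left.hom)).obj G₀, Uj D i₀ V κ.left),
      ∀ V m, b2 V m = TrS D i₀ V G₀ κ.hom (b1 V m) :=
    ⟨fun V => AddMonoidHom.mk' (fun m => TrS D i₀ V G₀ κ.hom (b1 V m))
      (fun x y => by rw [map_add, TrS_add]), fun V m => rfl⟩
  have hb2s : ∀ V ∈ 𝒱, ∀ (r : Γ(D.obj i₀, V)) (m : Γ(F₀, V)),
      b2 V (r • m) = (rh D i₀ V κ.left r) • b2 V m := by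
    intro V hV r m
    rw [hb2, hb2, hb1s V hV, TrS_smul]
    have e : (tr D i₀ V κ.hom) ((rh D i₀ V k₁) r) = (rh D i₀ V κ.left) r :=
      congrArg (fun φ => φ.hom r) (rh_tr D i₀ V κ.hom)
    rw [e]
  have hb2l : ∀ V ∈ 𝒱, ∀ m, tauS D c i₀ V G₀ κ.left (b2 V m) = betaS D c i₀ F₀ G₀ h V m := by
    intro V hV m
    rw [hb2, tauS_TrS D c i₀ V G₀ hc (h𝒱aff V hV), hb1l V hV]
  have hb2c : ∀ O ∈ 𝒱, ∀ U ∈ 𝒱, ∀ hOU : O ≤ U, ∀ m : Γ(F₀, U),
      b2 O (rF F₀ hOU m) = rF _ (Uj_mono D i₀ hOU κ.left) (b2 U m) := by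
    intro O hO U hU hOU m
    have hgen : ∀ m ∈ (S U : Set Γ(F₀, U)),
        b2 O (rF F₀ hOU m) = rF _ (Uj_mono D i₀ hOU κ.left) (b2 U m) := by
      intro m hm
      have h0 := hκ κ (𝟙 κ) O hO U hU hOU m hm
      rw [TrS_sub, sub_eq_zero, TrS_res D i₀ G₀ hOU κ.hom] at h0
      rw [hb2, hb2]
      exact h0
    have hm : m ∈ Submodule.span Γ(D.obj i₀, U) (S U : Set Γ(F₀, U)) := by
      rw [hS U hU]
      trivial
    refine Submodule.span_induction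
      (p := fun m _ => b2 O (rF F₀ hOU m) = rF _ (Uj_mono D i₀ hOU κ.left) (b2 U m))
      ?_ ?_ ?_ ?_ hm
    · exact fun m hm => hgen m hm
    · rw [map_zero, map_zero, map_zero, map_zero]
    · intro x y _ _ hx hy
      rw [map_add, map_add, map_add, map_add, hx, hy]
    · intro r x _ hx
      rw [rF_smul, hb2s O hO, hx, hb2s U hU, rF_smul, rh_res]
  -- Step 5: the linear maps on the charts
  have hψ : ∀ V : (D.obj i₀).Opens, V ∈ 𝒱 →
      ∃ ψ : Γ((Scheme.Modules.pullback (D.map κ.left.hom)).obj F₀, Uj D i₀ V κ.left) →ₗ[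
        Γ(D.obj κ.left.left, Uj D i₀ V κ.left)]
        Γ((Scheme.Modules.pullback (D.map κ.left.hom)).obj G₀, Uj D i₀ V κ.left),
        ∀ m, ψ (PBH8.cUV (D.map κ.left.hom) F₀ (le_refl _) m) = b2 V m :=
    fun V hV => exists_lin_of_semilinear (D.map κ.left.hom) (le_refl _)
      ((h𝒱aff V hV).preimage (D.map κ.left.hom)) (h𝒱aff V hV) F₀ _ (b2 V) (hb2s V hV)
  choose! ψ hψ using hψ
  have hψc : ∀ O ∈ 𝒱, ∀ U ∈ 𝒱, ∀ hOU : O ≤ U, ∀ x,
      ψ O (rF ((Scheme.Modules.pullback (D.map κ.left.hom)).obj F₀)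
        (Uj_mono D i₀ hOU κ.left) x) =
      rF ((Scheme.Modules.pullback (D.map κ.left.hom)).obj G₀) (Uj_mono D i₀ hOU κ.left)
        (ψ U x) := by
    intro O hO U hU hOU
    exact compat_of_gen (D.map κ.left.hom) (le_refl _) (le_refl _) (Uj_mono D i₀ hOU κ.left) hOU
      ((h𝒱aff U hU).preimage (D.map κ.left.hom)) (h𝒱aff U hU) F₀ _ (ψ U) (ψ O)
      (fun m => by rw [hψ O hO, hψ U hU, hb2c O hO U hU hOU m])
  -- Step 6: glue
  obtain ⟨hk, hhk⟩ := exists_hom_of_charts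
    ((Scheme.Modules.pullback (D.map κ.left.hom)).obj F₀)
    ((Scheme.Modules.pullback (D.map κ.left.hom)).obj G₀)
    (ι := {V : (D.obj i₀).Opens // V ∈ 𝒱}) (fun V => Uj D i₀ V.1 κ.left)
    (fun V => (h𝒱aff V.1 V.2).preimage (D.map κ.left.hom)) (fun V => ψ V.1)
    (fun V => V.1 ∈ Us)
    (fun x => by
      obtain ⟨U, hU, hx⟩ := hUscov ((D.map κ.left.hom) x)
      exact ⟨⟨U, hUs𝒱 hU⟩, hU, hx⟩)
    (fun V V' hV hV' x hx hx' => by
      obtain ⟨O, hO, hxO, hOV, hOV'⟩ := hUsref V.1 hV V'.1 hV' _ hx hx'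
      exact ⟨⟨O, hO⟩, hxO, Uj_mono D i₀ hOV κ.left, Uj_mono D i₀ hOV' κ.left,
        hψc O hO V.1 V.2 hOV, hψc O hO V'.1 V'.2 hOV'⟩)
  -- Step 7: verification
  refine ⟨κ.left, hk, ?_⟩
  apply hom_eq_of_affine_cover
  intro x
  obtain ⟨U, hU, hxU⟩ := hUscov ((c.π.app i₀) x)
  have hU𝒱 : U ∈ 𝒱 := hUs𝒱 hU
  have hUaff := h𝒱aff U hU𝒱
  refine ⟨Uinf D c i₀ U, hUaff.preimage (c.π.app i₀), hxU, fun s => ?_⟩
  have hs := (PBH8.span_cUV (c.π.app i₀) F₀ (hUaff.preimage (c.π.app i₀)) hUaff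
    (le_refl (Uinf D c i₀ U))).ge (Submodule.mem_top (x := s))
  refine Submodule.span_induction
    (p := fun s _ =>
      ((DescH8.pbIso (c.π.app κ.left.left) (D.map κ.left.hom) (c.π.app i₀)
          (c.w κ.left.hom)).inv.app F₀ ≫
        (Scheme.Modules.pullback (c.π.app κ.left.left)).map hk ≫
          (DescH8.pbIso (c.π.app κ.left.left) (D.map κ.left.hom) (c.π.app i₀)
            (c.w κ.left.hom)).hom.app G₀).app (Uinf D c i₀ U) s =
        h.app (Uinf D c i₀ U) s) ?_ ?_ ?_ ?_ hs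
  · rintro _ ⟨m, rfl⟩
    rw [conj_app_cUV (c.π.app κ.left.left) (D.map κ.left.hom) (c.π.app i₀) (c.w κ.left.hom) F₀ hk
      (Uinf_le D c i₀ U κ.left) (le_refl _) (le_refl _) m]
    have e1 : hk.app (Uj D i₀ U κ.left) (PBH8.cUV (D.map κ.left.hom) F₀ (le_refl _) m) =
        b2 U m := by
      rw [← hψ U hU𝒱 m]
      exact hhk ⟨U, hU𝒱⟩ hU _
    rw [e1]
    exact hb2l U hU𝒱 m
  · rw [map_zero, map_zero]
  · intro x y _ _ hx hy
    rw [map_add, map_add, hx, hy]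
  · intro r x _ hx
    rw [Scheme.Modules.Hom.app_smul, Scheme.Modules.Hom.app_smul, hx]

end Main

theorem main4811 {I : Type u} [SmallCategory I] [IsCofiltered I]
    (D : I ⥤ Scheme.{u}) (c : Limits.Cone D) (hc : Limits.IsLimit c)
    [∀ (i j : I) (f : i ⟶ j), IsAffineHom (D.map f)] (i₀ : I)
    [CompactSpace (D.obj i₀)] [QuasiSeparatedSpace (D.obj i₀)]
    (F₀ G₀ : (D.obj i₀).Modules) [Coh.IsQCoh F₀] (hF₀ : CohB1.IsFP F₀) [Coh.IsQCoh G₀]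
    (h : (Scheme.Modules.pullback (c.π.app i₀)).obj F₀ ⟶
      (Scheme.Modules.pullback (c.π.app i₀)).obj G₀) :
    ∃ (j : I) (φ : j ⟶ i₀) (hj : (Scheme.Modules.pullback (D.map φ)).obj F₀ ⟶
        (Scheme.Modules.pullback (D.map φ)).obj G₀),
      ((Scheme.Modules.pullbackComp (c.π.app j) (D.map φ) ≪≫
          Scheme.Modules.pullbackCongr (c.w φ)).app F₀).inv ≫
        (Scheme.Modules.pullback (c.π.app j)).map hj ≫
          ((Scheme.Modules.pullbackComp (c.π.app j) (D.map φ) ≪≫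
            Scheme.Modules.pullbackCongr (c.w φ)).app G₀).hom = h := by
  haveI := hF₀
  haveI : F₀.IsQuasicoherent := ‹Coh.IsQCoh F₀›
  haveI : G₀.IsQuasicoherent := ‹Coh.IsQCoh G₀›
  obtain ⟨k, hk, e⟩ := exists_hom_lift D c hc i₀ F₀ G₀ h
  exact ⟨k.left, k.hom, hk, e⟩

end Groth.Agent.Lib.LimMod
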