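import Groth.Agent.Lib.LimImmB_helper7
import Groth.Agent.Lib.AlgSpProdChart_helper7
import Groth.Agent.Lib.AlgSpAffineMor_helper7

/-!
# Immersions of affine schemes into affine spaces over a locally separated algebraic space (helper7)

`main10042`: for `X` quasi-separated and locally separated, `U` affine and `f : U ⟶ X` locally of
finite type, there is an immersion `U ⟶ X × 𝐀^n` over `X`.
-/

set_option autoImplicit false
set_option linter.style.haveILetI false

universe u

open CategoryTheory CategoryTheory.Limits AlgebraicGeometry Opposite Topology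
open AlgSp Groth.Agent.Lib.AlgSpPullback_helper7 Groth.Agent.Lib.AlgSpQC_helper7
  Groth.Agent.Lib.AlgSpPoints_helper7 Groth.Agent.Lib.AlgSpQC2_helper7
  Groth.Agent.Lib.AlgSpSep_helper7 Groth.Agent.Lib.AlgSpProper_helper7
  Groth.Agent.Lib.AlgSpAffineMorH7 Groth.Agent.Lib.AlgSpProdChartH7

namespace Groth.Agent.Lib.LimTowerH7

/-! ### Two pullback squares in a category with binary products -/

section General

universe v w
variable {C : Type w} [Category.{v} C] [HasBinaryProducts C]

/-- `X ⨯ B'` is the pullback of `X ⨯ B ⟶ B` along `b : B' ⟶ B`. -/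
theorem isPullback_prod_map_right (X : C) {B B' : C} (b : B' ⟶ B) :
    IsPullback (prod.snd : X ⨯ B' ⟶ B') (prod.map (𝟙 X) b) b (prod.snd : X ⨯ B ⟶ B) := by
  have w : (prod.snd : X ⨯ B' ⟶ B') ≫ b = prod.map (𝟙 X) b ≫ (prod.snd : X ⨯ B ⟶ B) := by
    rw [prod.map_snd]
  refine ⟨⟨w⟩, ⟨PullbackCone.IsLimit.mk w (fun s => prod.lift (s.snd ≫ prod.fst) s.fst) ?_ ?_ ?_⟩⟩
  · intro s
    rw [prod.lift_snd]
  · intro s
    apply prod.hom_ext
    · rw [Category.assoc, prod.map_fst, prod.lift_fst_assoc, Category.comp_id]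
    · rw [Category.assoc, prod.map_snd, prod.lift_snd_assoc, s.condition]
  · intro s m h1 h2
    apply prod.hom_ext
    · rw [prod.lift_fst, ← h2, Category.assoc, prod.map_fst, Category.comp_id]
    · rw [prod.lift_snd, h1]

/-- The graph of `f` is a base change of the diagonal. -/
theorem isPullback_graph {A X : C} (f : A ⟶ X) :
    IsPullback f (prod.lift f (𝟙 A)) (diag X) (prod.map (𝟙 X) f) := by
  have w : f ≫ diag X = prod.lift f (𝟙 A) ≫ prod.map (𝟙 X) f := by
    apply prod.hom_ext <;> simp
  refine ⟨⟨w⟩, ⟨PullbackCone.IsLimit.mk w (fun s => s.snd ≫ prod.snd) ?_ ?_ ?_⟩⟩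
  · intro s
    have h := s.condition =≫ prod.snd
    simp only [Category.assoc, prod.lift_snd, prod.map_snd, Category.comp_id] at h
    rw [Category.assoc]
    exact h.symm
  · intro s
    have h1 := s.condition =≫ prod.fst
    simp only [Category.assoc, prod.lift_fst, prod.map_fst, Category.comp_id] at h1
    have h2 := s.condition =≫ prod.snd
    simp only [Category.assoc, prod.lift_snd, prod.map_snd, Category.comp_id] at h2
    apply prod.hom_ext
    · rw [Category.assoc, prod.lift_fst, Category.assoc, ← h2, h1]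
    · rw [Category.assoc, prod.lift_snd, Category.comp_id]
  · intro s m h1 h2
    rw [← h2, Category.assoc, prod.lift_snd, Category.comp_id]

set_option backward.isDefEq.respectTransparency false in
/-- `X ⨯ -` preserves connected limits (no universe restriction on the index category). -/
noncomputable def isLimitProdMapCone {J : Type*} [Category J] [IsConnected J] (X : C) {K : J ⥤ C}
    {c : Cone K} (l : IsLimit c) : IsLimit ((prod.functor.obj X).mapCone c) := by
  have hnat : ∀ (s : Cone (K ⋙ prod.functor.obj X)) {j j' : J} (φ : j ⟶ j'),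
      s.π.app j' = s.π.app j ≫ prod.map (𝟙 X) (K.map φ) := fun s j j' φ => by
    have := s.π.naturality φ
    simp only [Functor.const_obj_obj, Functor.const_obj_map, Category.id_comp] at this
    exact this
  let fc : Cone (K ⋙ prod.functor.obj X) → Cone K := fun s =>
    { pt := s.pt
      π :=
        { app := fun j => s.π.app j ≫ prod.snd
          naturality := fun j j' φ => by
            simp only [Functor.const_obj_obj, Functor.const_obj_map, Category.id_comp]
            rw [hnat s φ, Category.assoc, prod.map_snd, Category.assoc] } }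
  have hfst : ∀ (s : Cone (K ⋙ prod.functor.obj X)) (j j' : J),
      s.π.app j ≫ prod.fst = s.π.app j' ≫ prod.fst := fun s j j' => by
    let α : (Functor.const J).obj s.pt ⟶ (Functor.const J).obj X :=
      { app := fun j => s.π.app j ≫ prod.fst
        naturality := fun j j' φ => by
          simp only [Functor.const_obj_obj, Functor.const_obj_map, Category.id_comp,
            Category.comp_id]
          rw [hnat s φ, Category.assoc, prod.map_fst, Category.comp_id] }
    exact nat_trans_from_is_connected α j j'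
  refine
    { lift := fun s => prod.lift (s.π.app (Classical.arbitrary J) ≫ prod.fst) (l.lift (fc s))
      fac := fun s j => ?_
      uniq := fun s m h => ?_ }
  · show prod.lift _ _ ≫ prod.map (𝟙 X) (c.π.app j) = s.π.app j
    apply prod.hom_ext
    · rw [Category.assoc, prod.map_fst, Category.comp_id, prod.lift_fst]
      exact hfst s _ _
    · rw [Category.assoc, prod.map_snd, prod.lift_snd_assoc]
      exact l.fac (fc s) j
  · apply prod.hom_ext
    · rw [prod.lift_fst, ← h (Classical.arbitrary J)]
      show m ≫ prod.fst = (m ≫ prod.map (𝟙 X) (c.π.app _)) ≫ prod.fst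
      rw [Category.assoc, prod.map_fst, Category.comp_id]
    · rw [prod.lift_snd]
      apply l.uniq (fc s)
      intro j
      show (m ≫ prod.snd) ≫ c.π.app j = s.π.app j ≫ prod.snd
      rw [← h j]
      show _ = (m ≫ prod.map (𝟙 X) (c.π.app j)) ≫ prod.snd
      rw [Category.assoc, Category.assoc, prod.map_snd]

end General

variable {S : Scheme.{u}}

/-! ### Affine spaces -/

theorem homOfVector_reindex {n m : Type u} (i : m → n) {X : Scheme.{u}} (f : X ⟶ S)
    (v : n → Γ(X, ⊤)) :
    AffineSpace.homOfVector f v ≫ AffineSpace.reindex i S = AffineSpace.homOfVector f (v ∘ i) := by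
  apply AffineSpace.hom_ext
  · rw [Category.assoc, AffineSpace.reindex_over, AffineSpace.homOfVector_over,
      AffineSpace.homOfVector_over]
  · intro j
    rw [Scheme.Hom.comp_appTop, CommRingCat.comp_apply, AffineSpace.reindex_appTop_coord,
      AffineSpace.homOfVector_appTop_coord, AffineSpace.homOfVector_appTop_coord]
    rfl

theorem reindex_comp' {n₁ n₂ n₃ : Type u} (i : n₁ → n₂) (j : n₂ → n₃) (S : Scheme.{u}) :
    AffineSpace.reindex (j ∘ i) S = AffineSpace.reindex j S ≫ AffineSpace.reindex i S := by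
  show AffineSpace.homOfVector _ (AffineSpace.coord S ∘ (j ∘ i)) =
    AffineSpace.homOfVector _ (AffineSpace.coord S ∘ j) ≫ AffineSpace.reindex i S
  rw [homOfVector_reindex]
  rfl

theorem isIso_reindex_equiv {n m : Type u} (e : m ≃ n) (S : Scheme.{u}) :
    IsIso (AffineSpace.reindex e S) := by
  refine ⟨AffineSpace.reindex e.symm S, ?_, ?_⟩
  · rw [← reindex_comp']
    have : (e : m → n) ∘ (e.symm : n → m) = id := funext e.apply_symm_apply
    rw [this, AffineSpace.reindex_id]
  · rw [← reindex_comp']
    have : (e.symm : n → m) ∘ (e : m → n) = id := funext e.symm_apply_apply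
    rw [this, AffineSpace.reindex_id]

/-- The inclusion of finite subsets, on the subtypes. -/
def finsetIncl {A : Type u} {s s' : Finset A} (h : s' ≤ s) : ↥s' → ↥s := fun x => ⟨x.1, h x.2⟩

theorem reindex_finsetIncl_id {A : Type u} (s : Finset A) (h : s ≤ s) (S : Scheme.{u}) :
    AffineSpace.reindex (finsetIncl h) S = 𝟙 _ :=
  AffineSpace.reindex_id S

theorem reindex_finsetIncl_comp {A : Type u} {s s' s'' : Finset A} (h : s' ≤ s) (h' : s'' ≤ s')
    (h'' : s'' ≤ s) (S : Scheme.{u}) :
    AffineSpace.reindex (finsetIncl h'') S =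
      AffineSpace.reindex (finsetIncl h) S ≫ AffineSpace.reindex (finsetIncl h') S :=
  reindex_comp' (finsetIncl h') (finsetIncl h) S

theorem homOfVector_finsetIncl {A : Type u} {s s' : Finset A} (h : s' ≤ s) {X : Scheme.{u}}
    (f : X ⟶ S) (v : A → Γ(X, ⊤)) :
    AffineSpace.homOfVector f (fun t : ↥s => v t.1) ≫ AffineSpace.reindex (finsetIncl h) S =
      AffineSpace.homOfVector f (fun t : ↥s' => v t.1) :=
  homOfVector_reindex (finsetIncl h) f _

/-- The tower of finite dimensional affine spaces over `S` on the finite subsets of `A`. -/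
noncomputable def affTower (S : Scheme.{u}) (A : Type u) : (Finset A)ᵒᵖ ⥤ Over S where
  obj s := Over.mk (𝔸(↥s.unop; S) ↘ S)
  map φ := Over.homMk (AffineSpace.reindex (finsetIncl (leOfHom φ.unop)) S)
    (AffineSpace.reindex_over _ S)
  map_id _ := Over.OverMorphism.ext (reindex_finsetIncl_id _ _ S)
  map_comp _ _ := Over.OverMorphism.ext (reindex_finsetIncl_comp _ _ _ S)

theorem affTower_map_left (A : Type u) {s s' : (Finset A)ᵒᵖ} (φ : s ⟶ s') :
    ((affTower S A).map φ).left = AffineSpace.reindex (finsetIncl (leOfHom φ.unop)) S := rfl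

theorem isAffineHom_affTower_map (A : Type u) {s s' : (Finset A)ᵒᵖ} (φ : s ⟶ s') :
    IsAffineHom ((affTower S A).map φ).left := by
  show IsAffineHom (AffineSpace.reindex (finsetIncl (leOfHom φ.unop)) S)
  haveI : IsAffineHom (AffineSpace.reindex (finsetIncl (leOfHom φ.unop)) S ≫
      𝔸(↥s'.unop; S) ↘ S) := by
    rw [AffineSpace.reindex_over]
    infer_instance
  exact IsAffineHom.of_comp _ (𝔸(↥s'.unop; S) ↘ S)

/-- The cone over the affine tower defined by a family of functions. -/
noncomputable def affCone (S : Scheme.{u}) (A : Type u) (X : Over S) (v : A → Γ(X.left, ⊤)) :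
    Cone (affTower S A) where
  pt := X
  π :=
    { app := fun s => Over.homMk (AffineSpace.homOfVector X.hom (fun t : ↥s.unop => v t.1))
        (AffineSpace.homOfVector_over _ _)
      naturality := fun s s' φ => by
        apply Over.OverMorphism.ext
        refine (Category.id_comp _).trans ?_
        exact (homOfVector_finsetIncl (leOfHom φ.unop) X.hom v).symm }

theorem affCone_π_left (A : Type u) (X : Over S) (v : A → Γ(X.left, ⊤)) (s : (Finset A)ᵒᵖ) :
    ((affCone S A X v).π.app s).left =
      AffineSpace.homOfVector X.hom (fun t : ↥s.unop => v t.1) := rfl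

set_option backward.isDefEq.respectTransparency false in
/-- An affine scheme whose ring of functions is generated by the `v t` is immersed in the limit of
the tower of affine spaces. -/
theorem isImmersion_of_affCone {A : Type u} (U : Over S) [IsAffine U.left]
    (v : A → Γ(U.left, ⊤)) (hv : Function.Surjective v) (c : Cone (affTower S A))
    (a : U ⟶ c.pt) (ha : ∀ s, a ≫ c.π.app s = (affCone S A U v).π.app s) :
    IsImmersion a.left := by
  have key : ∀ t : A, ∃ πt : c.pt.left ⟶ 𝔸(↥({t} : Finset A); S),
      a.left ≫ πt = AffineSpace.homOfVector U.hom (fun t' : ↥({t} : Finset A) => v t'.1) :=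
    fun t => ⟨(c.π.app (op {t})).left, congrArg Over.Hom.left (ha (op {t}))⟩
  choose πt hπt using key
  let g' : c.pt.left ⟶ Spec (CommRingCat.of (MvPolynomial A (ULift ℤ))) :=
    (AffineSpace.toSpecMvPolyIntEquiv A).symm (fun t =>
      (πt t).appTop (AffineSpace.coord S (⟨t, Finset.mem_singleton_self t⟩ : ↥({t} : Finset A))))
  have hcomp : a.left ≫ g' = (AffineSpace.toSpecMvPolyIntEquiv A).symm v := by
    apply (AffineSpace.toSpecMvPolyIntEquiv A).injective
    funext t
    rw [AffineSpace.toSpecMvPolyIntEquiv_comp, Equiv.apply_symm_apply, Equiv.apply_symm_apply]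
    rw [← CommRingCat.comp_apply, ← Scheme.Hom.comp_appTop, hπt]
    exact AffineSpace.homOfVector_appTop_coord _ _ _
  haveI : IsClosedImmersion ((AffineSpace.toSpecMvPolyIntEquiv A).symm v :
      U.left ⟶ Spec (CommRingCat.of (MvPolynomial A (ULift ℤ)))) := by
    rw [AffineSpace.toSpecMvPolyIntEquiv_symm_apply]
    refine MorphismProperty.comp_mem @IsClosedImmersion _ _ inferInstance
      (IsClosedImmersion.spec_of_surjective _ ?_)
    intro x
    obtain ⟨t, rfl⟩ := hv x
    exact ⟨MvPolynomial.X t, by simp⟩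
  haveI : IsImmersion (a.left ≫ g') := by
    rw [hcomp]
    infer_instance
  exact IsImmersion.of_comp a.left g'

/-! ### Quasi-separatedness of products -/

theorem isQuasiSeparatedSp_prod {X : Sp S} (hX : IsQuasiSeparatedSp X) (Y : Over S)
    (hY : QuasiSeparated Y.hom) : IsQuasiSeparatedSp (X ⨯ (yon S).obj Y) := by
  have hYs : IsQuasiSeparatedSp ((yon S).obj Y) :=
    (repWith_diag_yon_iff @QuasiCompact Y).2 hY.quasiCompact_diagonal
  have sq : IsPullback (prod.fst : X ⨯ (yon S).obj Y ⟶ X) prod.snd (terminal.from X)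
      (terminal.from ((yon S).obj Y)) := IsPullback.of_hasBinaryProduct' _ _
  have h1 : IsQuasiSeparatedMor (terminal.from X) := isQuasiSeparatedMor_terminal_from hX
  have h2 : IsQuasiSeparatedMor (prod.snd : X ⨯ (yon S).obj Y ⟶ (yon S).obj Y) :=
    isQuasiSeparatedMor_of_isPullback sq h1
  have h3 := isQuasiSeparatedMor_comp _ _ h2 (isQuasiSeparatedMor_terminal_from hYs)
  rw [terminal.comp_from] at h3
  exact (repWith_diag_iff_diagonal_terminal_from _ _).2 h3

/-! ### The product of an algebraic space with a tower of schemes -/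

section ProdTower

variable {J : Type u} [SmallCategory J]

/-- `X × T_j`. -/
noncomputable def prodTower (X : Sp S) (T : J ⥤ Over S) : J ⥤ Sp S :=
  (T ⋙ yon S) ⋙ prod.functor.obj X

noncomputable def prodCone (X : Sp S) {T : J ⥤ Over S} (cT : Cone T) : Cone (prodTower X T) :=
  (prod.functor.obj X).mapCone ((yon S).mapCone cT)

noncomputable def prodTowerFst (X : Sp S) (T : J ⥤ Over S) :
    prodTower X T ⟶ (Functor.const J).obj X where
  app := fun s => (prod.fst : X ⨯ (yon S).obj (T.obj s) ⟶ X)
  naturality := fun s s' φ => by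
    show prod.map (𝟙 X) ((yon S).map (T.map φ)) ≫ prod.fst = prod.fst ≫ 𝟙 X
    rw [prod.map_fst]

theorem prodTower_map (X : Sp S) (T : J ⥤ Over S) {s s' : J} (φ : s ⟶ s') :
    (prodTower X T).map φ = prod.map (𝟙 X) ((yon S).map (T.map φ)) := rfl

theorem prodCone_π_app (X : Sp S) {T : J ⥤ Over S} (cT : Cone T) (s : J) :
    (prodCone X cT).π.app s = prod.map (𝟙 X) ((yon S).map (cT.π.app s)) := rfl

theorem prodTowerFst_app (X : Sp S) (T : J ⥤ Over S) (s : J) :
    (prodTowerFst X T).app s = (prod.fst : X ⨯ (yon S).obj (T.obj s) ⟶ X) := rfl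

noncomputable def isLimitProdCone [IsCofiltered J] (X : Sp S) {T : J ⥤ Over S} {cT : Cone T}
    (hcT : IsLimit cT) : IsLimit (prodCone X cT) := by
  haveI : IsConnected J := IsCofiltered.isConnected _
  exact isLimitProdMapCone X (isLimitOfPreserves (yon S) hcT)

end ProdTower

/-! ### S10042 -/

set_option backward.isDefEq.respectTransparency false in
theorem exists_immersion_affineSpace_aux [QuasiSeparatedSpace ↥S] (X : Sp S) (hX : IsAlgSpace X)
    (hqs : IsQuasiSeparatedSp X) (hls : IsLocallySeparatedSp X)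
    (U : Over S) (hU : IsAffine U.left) (f : (yon S).obj U ⟶ X)
    (hf : LocP @LocallyOfFiniteType f) (A : Type u) (v : A → Γ(U.left, ⊤))
    (hv : Function.Surjective v) :
    ∃ (n : ℕ) (i : (yon S).obj U ⟶
        X ⨯ (yon S).obj (Over.mk (𝔸(ULift.{u} (Fin n); S) ↘ S))),
      i ≫ prod.fst = f ∧ RepWith @IsImmersion i := by
  classical
  haveI := hU
  have hAffaff : ∀ (j k : (Finset A)ᵒᵖ) (φ : j ⟶ k),
      IsAffineHom ((affTower S A).map φ).left :=
    fun j k φ => isAffineHom_affTower_map A φ
  obtain ⟨cAff, ⟨hcAff⟩, -, -⟩ := exists_limit_over (affTower S A) hAffaff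
  obtain ⟨a, ha⟩ : ∃ a : U ⟶ cAff.pt, ∀ s, a ≫ cAff.π.app s = (affCone S A U v).π.app s :=
    ⟨hcAff.lift (affCone S A U v), fun s => hcAff.fac (affCone S A U v) s⟩
  have haimm : IsImmersion a.left := isImmersion_of_affCone U v hv cAff a ha
  -- the system `X × 𝔸^s`
  have hD : ∀ s, IsAlgSpace ((prodTower X (affTower S A)).obj s) :=
    fun s => isAlgSpace_prod hX ((affTower S A).obj s)
  have hDa : ∀ (s s' : (Finset A)ᵒᵖ) (φ : s ⟶ s'),
      IsAffineMor ((prodTower X (affTower S A)).map φ) := fun s s' φ => by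
    haveI := hAffaff s s' φ
    rw [prodTower_map]
    exact isAffineMor_of_isPullback
      (isPullback_prod_map_right X ((yon S).map ((affTower S A).map φ)))
      (isAffineMor_yon_map ((affTower S A).map φ))
  have hDqs : ∀ s, IsQuasiSeparatedSp ((prodTower X (affTower S A)).obj s) := fun s =>
    isQuasiSeparatedSp_prod hqs ((affTower S A).obj s)
      (by show QuasiSeparated (𝔸(↥s.unop; S) ↘ S); infer_instance)
  -- the immersion into the limit
  obtain ⟨y, hy1, hy2⟩ : ∃ y : (yon S).obj U ⟶ X ⨯ (yon S).obj cAff.pt,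
      y = prod.lift f ((yon S).map a) ∧ RepWith @IsImmersion y := by
    refine ⟨prod.lift f ((yon S).map a), rfl, ?_⟩
    have e : prod.lift f (𝟙 ((yon S).obj U)) ≫ prod.map (𝟙 X) ((yon S).map a) =
        prod.lift f ((yon S).map a) := by
      rw [prod.lift_map, Category.comp_id, Category.id_comp]
    have h1 : RepWith @IsImmersion (prod.lift f (𝟙 ((yon S).obj U))) :=
      repWith_snd_of_isPullback _ (isPullback_graph f) hls
    have h2 : RepWith @IsImmersion (prod.map (𝟙 X) ((yon S).map a)) :=
      repWith_snd_of_isPullback _ (isPullback_prod_map_right X ((yon S).map a))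
        ((repWith_yon_map_iff @IsImmersion a).2 haimm)
    have h3 := repWith_comp @IsImmersion h1 h2
    rw [e] at h3
    exact h3
  have hcomp : ∀ s, y ≫ (prodCone X cAff).π.app s ≫ (prodTowerFst X (affTower S A)).app s = f :=
    fun s => by
      have e1 : (prodCone X cAff).π.app s ≫ (prodTowerFst X (affTower S A)).app s =
          (prod.fst : X ⨯ (yon S).obj cAff.pt ⟶ X) :=
        (prod.map_fst (𝟙 X) ((yon S).map (cAff.π.app s))).trans (Category.comp_id _)
      rw [e1, hy1]
      exact prod.lift_fst _ _
  have hYB : LocP @LocallyOfFiniteType (y ≫ (prodCone X cAff).π.app (op ∅) ≫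
      (prodTowerFst X (affTower S A)).app (op ∅)) := by
    rw [hcomp]
    exact hf
  obtain ⟨i₀, hi₀⟩ := main10010 X hX (prodTower X (affTower S A)) hD
    (prodTowerFst X (affTower S A)) hDa (prodCone X cAff) (isLimitProdCone X hcAff) hDqs
    (IsAlgSpace.yon_obj U) (isQuasiCompactSp_yon U) y hy2 (op ∅) hYB
  have h0 : RepWith @IsImmersion (y ≫ (prodCone X cAff).π.app i₀) := hi₀ i₀ (𝟙 _)
  -- reindexing
  let e : ULift.{u} (Fin i₀.unop.card) ≃ ↥i₀.unop := Equiv.ulift.trans i₀.unop.equivFin.symm
  haveI hiso : IsIso (AffineSpace.reindex e S) := isIso_reindex_equiv e S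
  let ρ : (affTower S A).obj i₀ ⟶ Over.mk (𝔸(ULift.{u} (Fin i₀.unop.card); S) ↘ S) :=
    Over.homMk (AffineSpace.reindex e S) (AffineSpace.reindex_over _ S)
  have hρ : RepWith @IsImmersion (prod.map (𝟙 X) ((yon S).map ρ)) :=
    repWith_snd_of_isPullback _ (isPullback_prod_map_right X ((yon S).map ρ))
      ((repWith_yon_map_iff @IsImmersion ρ).2
        (by show IsImmersion (AffineSpace.reindex e S); infer_instance))
  refine ⟨i₀.unop.card, (y ≫ (prodCone X cAff).π.app i₀) ≫ prod.map (𝟙 X) ((yon S).map ρ), ?_,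
    repWith_comp @IsImmersion h0 hρ⟩
  rw [Category.assoc, Category.assoc, prod.map_fst, Category.comp_id]
  exact hcomp i₀

theorem main10042 [QuasiSeparatedSpace ↥S] (X : Sp S) (hX : IsAlgSpace X)
    (hqs : IsQuasiSeparatedSp X) (hls : IsLocallySeparatedSp X)
    (U : Over S) (hU : IsAffine U.left) (f : (yon S).obj U ⟶ X)
    (hf : LocP @LocallyOfFiniteType f) :
    ∃ (n : ℕ) (i : (yon S).obj U ⟶
        X ⨯ (yon S).obj (Over.mk (𝔸(ULift.{u} (Fin n); S) ↘ S))),
      i ≫ prod.fst = f ∧ RepWith @IsImmersion i :=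
  exists_immersion_affineSpace_aux X hX hqs hls U hU f hf Γ(U.left, ⊤) id
    Function.surjective_id

end Groth.Agent.Lib.LimTowerH7
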