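import Mathlib

/-!
# Helpers on sections for limit arguments (helper7)
-/

set_option autoImplicit false
set_option backward.isDefEq.respectTransparency false
universe u
open CategoryTheory CategoryTheory.Limits AlgebraicGeometry

namespace Groth.Agent.Lib.LimSectionsH7

theorem surjective_app_of_eq {X Y : Scheme.{u}} {f g : X ⟶ Y} (h : f = g) (U : Y.Opens)
    (hf : Function.Surjective (f.app U)) : Function.Surjective (g.app U) := by
  subst h; exact hf

theorem surjective_app_of_opens_eq {X Y : Scheme.{u}} (f : X ⟶ Y) {U V : Y.Opens} (h : U = V)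
    (hf : Function.Surjective (f.app U)) : Function.Surjective (f.app V) := by
  subst h; exact hf

theorem comp_app_apply {X Y Z : Scheme.{u}} (f : X ⟶ Y) (g : Y ⟶ Z) (U : Z.Opens) (z : Γ(Z, U)) :
    (f ≫ g).app U z = f.app (g ⁻¹ᵁ U) (g.app U z) := by
  rw [Scheme.Hom.comp_app]
  rfl

theorem surjective_comp_app {X Y Z : Scheme.{u}} (f : X ⟶ Y) (g : Y ⟶ Z) (U : Z.Opens)
    (hg : Function.Surjective (g.app U)) (hf : Function.Surjective (f.app (g ⁻¹ᵁ U))) :
    Function.Surjective ((f ≫ g).app U) := by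
  intro z
  obtain ⟨y, hy⟩ := hf z
  obtain ⟨x, hx⟩ := hg y
  exact ⟨x, by rw [comp_app_apply, hx, hy]⟩

/-- An affine morphism which is surjective on sections over an affine open cover of the target is
a closed immersion. -/
theorem isClosedImmersion_of_surjective_app {X Y : Scheme.{u}} (f : X ⟶ Y) [IsAffineHom f]
    (H : ∀ y : Y, ∃ U : Y.Opens, y ∈ U ∧ IsAffineOpen U ∧ Function.Surjective (f.app U)) :
    IsClosedImmersion f := by
  choose U hyU hU hfU using H
  rw [HasAffineProperty.iff_of_iSup_eq_top (P := @IsClosedImmersion) (fun y => ⟨U y, hU y⟩)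
    (top_le_iff.mp (fun x _ => by simpa using ⟨x, hyU x⟩))]
  intro y
  refine ⟨(hU y).preimage f, ?_⟩
  rw [morphismRestrict_appTop]
  have h1 : Function.Surjective (f.app ((U y).ι ''ᵁ ⊤)) :=
    surjective_app_of_opens_eq f (U y).ι_image_top.symm (hfU y)
  intro z
  obtain ⟨w, hw⟩ := (ConcreteCategory.bijective_of_isIso
    (X.presheaf.map (eqToHom (image_morphismRestrict_preimage f (U y) ⊤)).op)).2 z
  obtain ⟨v, hv⟩ := h1 w
  refine ⟨v, ?_⟩
  rw [CommRingCat.comp_apply]
  exact (congrArg _ hv).trans hw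

end Groth.Agent.Lib.LimSectionsH7
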