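import Mathlib
import Groth.Agent.S0594

/-!
# Structure maps of a limit with closed-immersion transitions are eventually immersions (helper7)
-/

set_option autoImplicit false
set_option linter.style.haveILetI false
universe u
open CategoryTheory CategoryTheory.Limits AlgebraicGeometry

namespace Groth.Agent.Lib.LimImmStructH7

set_option backward.isDefEq.respectTransparency false in
theorem main9201 {I : Type u} [SmallCategory I] [IsCofiltered I] (S : Scheme.{u})
    [QuasiSeparatedSpace S]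
    (D : I ⥤ Scheme.{u}) (t : D ⟶ (Functor.const I).obj S) (c : Limits.Cone D)
    (hc : Limits.IsLimit c)
    [∀ (i j : I) (a : i ⟶ j), IsClosedImmersion (D.map a)]
    [∀ i, CompactSpace (D.obj i)] [∀ i, QuasiSeparatedSpace (D.obj i)]
    [∀ i, LocallyOfFiniteType (t.app i)] (i₀ : I)
    [IsImmersion (c.π.app i₀ ≫ t.app i₀)] :
    ∃ i₁ : I, ∀ (i : I) (_ : i ⟶ i₁), IsImmersion (t.app i) := by
  classical
  haveI : ∀ (i j : I) (f : i ⟶ j), IsAffineHom (D.map f) := fun _ _ _ => inferInstance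
  have hnat : ∀ {i j : I} (a : i ⟶ j), D.map a ≫ t.app j = t.app i := fun {i j} a => by
    have h := t.naturality a
    simp only [Functor.const_obj_obj, Functor.const_obj_map, Category.comp_id] at h
    exact h
  -- the open `U` in which the limit is closed
  obtain ⟨U, l, hl, hlcl⟩ : ∃ (U : S.Opens) (l : c.pt ⟶ U),
      l ≫ U.ι = c.π.app i₀ ≫ t.app i₀ ∧ IsClosedImmersion l :=
    ⟨(c.π.app i₀ ≫ t.app i₀).coborderRange, (c.π.app i₀ ≫ t.app i₀).liftCoborder,
      Scheme.Hom.liftCoborder_ι _, inferInstance⟩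
  have hU : c.π.app i₀ ⁻¹ᵁ (t.app i₀ ⁻¹ᵁ U) = ⊤ := by
    rw [← Scheme.Hom.comp_preimage, ← hl, Scheme.Hom.comp_preimage, Scheme.Opens.ι_preimage_self]
    rfl
  obtain ⟨j, fj, hj⟩ := exists_map_eq_top D c hc (t.app i₀ ⁻¹ᵁ U) hU
  have hjU : t.app j ⁻¹ᵁ U = ⊤ := by
    rw [← hnat fj, Scheme.Hom.comp_preimage]; exact hj
  -- a quasi-compact open `W ≤ U` containing the image of `D.obj j`
  have hcov : ∀ x : D.obj j, ∃ V : S.Opens, IsAffineOpen V ∧ t.app j x ∈ V ∧ V ≤ U := fun x => by
    have hx : t.app j x ∈ U := hjU.ge (Set.mem_univ x)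
    obtain ⟨_, ⟨(V : S.Opens), hV, rfl⟩, hxV, hVU⟩ :=
      S.isBasis_affineOpens.exists_subset_of_mem_open hx U.isOpen
    exact ⟨V, hV, hxV, hVU⟩
  choose V hVaff hxV hVU using hcov
  obtain ⟨s, hs⟩ := isCompact_univ.elim_finite_subcover
    (fun x => ((t.app j) ⁻¹ᵁ (V x) : Set (D.obj j)))
    (fun x => ((t.app j) ⁻¹ᵁ (V x)).isOpen) (fun x _ => Set.mem_iUnion.mpr ⟨x, hxV x⟩)
  let W : S.Opens := ⟨⋃ x ∈ s, (V x : Set S), isOpen_biUnion fun x _ => (V x).isOpen⟩
  have hWc : IsCompact (W : Set S) := s.isCompact_biUnion fun x _ => (hVaff x).isCompact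
  have hWU : W ≤ U := fun y hy => by
    obtain ⟨x, hx⟩ := Set.mem_iUnion.mp hy
    obtain ⟨-, hyx⟩ := Set.mem_iUnion.mp hx
    exact hVU x hyx
  have hjW : ∀ x : D.obj j, t.app j x ∈ W := fun x => by
    obtain ⟨y, hy⟩ := Set.mem_iUnion.mp (hs (Set.mem_univ x))
    obtain ⟨hys, hxy⟩ := Set.mem_iUnion.mp hy
    exact Set.mem_iUnion.mpr ⟨y, Set.mem_iUnion.mpr ⟨hys, hxy⟩⟩
  haveI : CompactSpace W := isCompact_iff_compactSpace.mp hWc
  haveI : QuasiSeparatedSpace W := quasiSeparatedSpace_of_quasiSeparated W.ι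
  -- reindex along `Over j`
  have hcK : IsLimit (c.whisker (Over.forget j)) :=
    (Functor.Initial.isLimitWhiskerEquiv (Over.forget j) c).symm hc
  have hrange : ∀ k : Over j, Set.range (t.app k.left) ⊆ Set.range W.ι := by
    intro k
    rintro _ ⟨x, rfl⟩
    rw [Scheme.Opens.range_ι]
    have : t.app k.left x = t.app j (D.map k.hom x) := by
      rw [← hnat k.hom]; rfl
    rw [this]
    exact hjW _
  let t'app : ∀ k : Over j, D.obj k.left ⟶ W := fun k =>
    IsOpenImmersion.lift W.ι (t.app k.left) (hrange k)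
  have ht' : ∀ k, t'app k ≫ W.ι = t.app k.left := fun k => IsOpenImmersion.lift_fac _ _ _
  let t' : (Over.forget j ⋙ D) ⟶ (Functor.const (Over j)).obj (W : Scheme.{u}) :=
    { app := t'app
      naturality := fun k k' m => by
        show D.map m.left ≫ t'app k' = t'app k ≫ 𝟙 _
        rw [Category.comp_id, ← cancel_mono W.ι, Category.assoc, ht', ht', hnat] }
  haveI : ∀ (a b : Over j) (f : a ⟶ b), IsClosedImmersion ((Over.forget j ⋙ D).map f) :=
    fun a b f => by
      show IsClosedImmersion (D.map f.left)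
      infer_instance
  haveI : ∀ k : Over j, CompactSpace ((Over.forget j ⋙ D).obj k) := fun k => by
    show CompactSpace (D.obj k.left)
    infer_instance
  haveI : ∀ k : Over j, QuasiSeparatedSpace ((Over.forget j ⋙ D).obj k) := fun k => by
    show QuasiSeparatedSpace (D.obj k.left)
    infer_instance
  haveI : ∀ k : Over j, LocallyOfFiniteType (t'.app k) := fun k => by
    show LocallyOfFiniteType (t'app k)
    haveI : LocallyOfFiniteType (t'app k ≫ W.ι) := by rw [ht']; infer_instance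
    exact locallyOfFiniteType_of_comp (t'app k) W.ι
  haveI : IsClosedImmersion ((c.whisker (Over.forget j)).π.app (Over.mk (𝟙 j)) ≫
      t'.app (Over.mk (𝟙 j))) := by
    show IsClosedImmersion (c.π.app j ≫ t'app (Over.mk (𝟙 j)))
    have hg : (c.π.app j ≫ t'app (Over.mk (𝟙 j))) ≫ S.homOfLE hWU = l := by
      rw [← cancel_mono U.ι, Category.assoc, Category.assoc, Scheme.homOfLE_ι, ht', hl]
      show c.π.app j ≫ t.app j = c.π.app i₀ ≫ t.app i₀
      rw [← c.w fj, Category.assoc, hnat]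
    haveI : IsClosedImmersion ((c.π.app j ≫ t'app (Over.mk (𝟙 j))) ≫ S.homOfLE hWU) := by
      rw [hg]; exact hlcl
    exact IsClosedImmersion.of_comp _ (S.homOfLE hWU)
  obtain ⟨k, hk⟩ := Groth.Agent.S0594.result (W : Scheme.{u}) (Over.forget j ⋙ D) t'
    (c.whisker (Over.forget j)) hcK (Over.mk (𝟙 j))
  refine ⟨k.left, fun i φ => ?_⟩
  have hti : t.app i = D.map φ ≫ t'app k ≫ W.ι := by rw [ht', hnat]
  rw [hti]
  haveI : IsClosedImmersion (t'app k) := hk
  infer_instance

end Groth.Agent.Lib.LimImmStructH7
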