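import Groth.Agent.Lib.LimFlatPt_helper2
import Groth.Agent.Lib.StalkInj_helper6
import Groth.Agent.Lib.KerFP_helper6
import Groth.Agent.S4851

/-!
# Injectivity with flat cokernel over a limit of schemes: chart level (helper2)

* `stk_comp`, `stk_injective_of_iso`: stalk maps of compositions / isomorphic arrows.
* `apOver`: the map on sections over an affine chart, linear over the ring of the base chart.
* `app_injective_pullback_iff`: dictionary, in a pullback square, between injectivity of the pulled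
  back morphism on the sections of the chart of the fibre product and injectivity of the base change
  of the linear map on sections.
* `exists_lTensor_ker_of_flat`, `exists_stage_injective_sys`: algebra; if `u₀ : M₀ → N₀` has
  `R₀`-flat cokernel and becomes injective over the colimit, it is injective over a stage.
* `chart_inj`: chart version for a limit of schemes.
APPEND-ONLY once landed.
-/

set_option autoImplicit false
set_option maxHeartbeats 1000000
set_option linter.style.haveILetI false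
set_option linter.unusedSectionVars false
set_option linter.unusedVariables false
universe u

open CategoryTheory CategoryTheory.Limits AlgebraicGeometry TopologicalSpace Opposite TensorProduct

namespace Groth.Agent.Lib.LimMod

section Stalk

variable {X : Scheme.{u}}

theorem stk_comp {F G H : X.Modules} (u : F ⟶ G) (v : G ⟶ H) (x : X) (t : F.presheaf.stalk x) :
    DescH8.stk (u ≫ v) x t = DescH8.stk v x (DescH8.stk u x t) := by
  have h1 : DescH8.stk (u ≫ v) x = DescH8.stk u x ≫ DescH8.stk v x := by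
    show (TopCat.Presheaf.stalkFunctor Ab x).map ((Scheme.Modules.toPresheaf X).map (u ≫ v)) = _
    rw [Functor.map_comp, Functor.map_comp]
    rfl
  rw [h1]
  rfl

/-- Injectivity of the stalk map is invariant under isomorphisms of arrows. -/
theorem stk_injective_of_iso {F G F' G' : X.Modules} (u : F ⟶ G) (u' : F' ⟶ G') (eF : F ≅ F')
    (eG : G ≅ G') (w : u ≫ eG.hom = eF.hom ≫ u') (x : X)
    (h : Function.Injective (DescH8.stk u x)) : Function.Injective (DescH8.stk u' x) := by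
  have h1 : ∀ t, DescH8.stk u' x (DescH8.stk eF.hom x t) = DescH8.stk eG.hom x (DescH8.stk u x t) := by
    intro t
    rw [← stk_comp, ← stk_comp, w]
  have hF := DescH8.stk_bijective_of_isIso eF.hom x
  have hG := DescH8.stk_bijective_of_isIso eG.hom x
  intro a b hab
  obtain ⟨a₀, rfl⟩ := hF.2 a
  obtain ⟨b₀, rfl⟩ := hF.2 b
  rw [h1, h1] at hab
  rw [h (hG.1 hab)]

theorem stk_injective_iff_of_iso {F G F' G' : X.Modules} (u : F ⟶ G) (u' : F' ⟶ G') (eF : F ≅ F')
    (eG : G ≅ G') (w : u ≫ eG.hom = eF.hom ≫ u') (x : X) :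
    Function.Injective (DescH8.stk u x) ↔ Function.Injective (DescH8.stk u' x) := by
  refine ⟨stk_injective_of_iso u u' eF eG w x, stk_injective_of_iso u' u eF.symm eG.symm ?_ x⟩
  rw [Iso.symm_hom, Iso.symm_hom, Iso.comp_inv_eq, Category.assoc, w, Iso.inv_hom_id_assoc]

/-- Injectivity on sections from injectivity on the stalks of the points of the open. -/
theorem app_injective_of_stk {F G : X.Modules} (u : F ⟶ G) (U : X.Opens)
    (h : ∀ x ∈ U, Function.Injective (DescH8.stk u x)) : Function.Injective (u.app U) := by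
  let F' : TopCat.Sheaf Ab X := ⟨F.presheaf, F.isSheaf⟩
  exact TopCat.Presheaf.app_injective_of_stalkFunctor_map_injective (F := F') u.mapPresheaf U
    (fun x hx => h x hx)

/-- Injectivity on the stalks at the points of an affine open from injectivity on sections. -/
theorem stk_injective_of_app {F G : X.Modules} [F.IsQuasicoherent] [G.IsQuasicoherent] (u : F ⟶ G)
    {U : X.Opens} (hU : IsAffineOpen U) (h : Function.Injective (u.app U)) {x : X} (hx : x ∈ U) :
    Function.Injective (DescH8.stk u x) := by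
  show Function.Injective (Groth.Agent.IsoCrit.stalkAdd u x)
  apply Groth.Agent.Lib.StalkInjH6.injective_stalkAdd_of_forall u hU hx
  intro m hm
  refine ⟨1, Submonoid.one_mem _, ?_⟩
  rw [one_smul]
  apply h
  rw [hm, map_zero]

end Stalk

section BC

variable {X S X' S' : Scheme.{u}} {f : X ⟶ S} {f' : X' ⟶ S'} {g' : X' ⟶ X} {g : S' ⟶ S}

/-- The map on sections over `U`, as a linear map over the ring of an open of the base. -/
noncomputable def apOver (f : X ⟶ S) {F G : X.Modules} (φ : F ⟶ G) {W : S.Opens} {U : X.Opens}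
    (hUW : U ≤ f ⁻¹ᵁ W) :
    @LinearMap Γ(S, W) Γ(S, W) _ _ (RingHom.id _) Γ(F, U) Γ(G, U) _ _
      (Module.compHom _ (f.appLE W U hUW).hom) (Module.compHom _ (f.appLE W U hUW).hom) :=
  letI : Module Γ(S, W) Γ(F, U) := Module.compHom _ (f.appLE W U hUW).hom
  letI : Module Γ(S, W) Γ(G, U) := Module.compHom _ (f.appLE W U hUW).hom
  { toFun := fun m => φ.app U m
    map_add' := fun a b => map_add _ a b
    map_smul' := fun r m => Scheme.Modules.Hom.app_smul φ ((f.appLE W U hUW).hom r) m }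

theorem apOver_apply (f : X ⟶ S) {F G : X.Modules} (φ : F ⟶ G) {W : S.Opens} {U : X.Opens}
    (hUW : U ≤ f ⁻¹ᵁ W) (m : Γ(F, U)) : apOver f φ hUW m = φ.app U m := rfl

variable (hc : IsPullback g' f' f g)

include hc in
/-- **Dictionary for injectivity in a pullback square**: on the affine chart `g'⁻¹U ∩ f'⁻¹W'` of the
fibre product, the pulled back morphism is injective on sections iff the base change of the map on
sections along `Γ(S, W) → Γ(S', W')` is injective. -/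
theorem app_injective_pullback_iff {F G : X.Modules} [F.IsQuasicoherent] [G.IsQuasicoherent]
    (φ : F ⟶ G) {W : S.Opens} {U : X.Opens} {W' : S'.Opens} (hW : IsAffineOpen W)
    (hU : IsAffineOpen U) (hW' : IsAffineOpen W') (hUW : U ≤ f ⁻¹ᵁ W) (hW'W : W' ≤ g ⁻¹ᵁ W) :
    letI := (g.appLE W W' hW'W).hom.toAlgebra
    letI : Module Γ(S, W) Γ(F, U) := Module.compHom _ (f.appLE W U hUW).hom
    letI : Module Γ(S, W) Γ(G, U) := Module.compHom _ (f.appLE W U hUW).hom
    Function.Injective (((Scheme.Modules.pullback g').map φ).app (g' ⁻¹ᵁ U ⊓ f' ⁻¹ᵁ W')) ↔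
      Function.Injective ((apOver f φ hUW).lTensor Γ(S', W')) := by
  obtain ⟨hU', hpo⟩ := FlatBC2H8.affine_pushout hc hW hU hW' hUW hW'W
  set U' : X'.Opens := g' ⁻¹ᵁ U ⊓ f' ⁻¹ᵁ W' with hU'def
  have hU'U : U' ≤ g' ⁻¹ᵁ U := inf_le_left
  have hU'W' : U' ≤ f' ⁻¹ᵁ W' := inf_le_right
  letI algAB : Algebra Γ(S, W) Γ(X, U) := (f.appLE W U hUW).hom.toAlgebra
  letI algAA' : Algebra Γ(S, W) Γ(S', W') := (g.appLE W W' hW'W).hom.toAlgebra
  letI algBB' : Algebra Γ(X, U) Γ(X', U') := (g'.appLE U U' hU'U).hom.toAlgebra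
  letI algA'B' : Algebra Γ(S', W') Γ(X', U') := (f'.appLE W' U' hU'W').hom.toAlgebra
  letI algAB' : Algebra Γ(S, W) Γ(X', U') :=
    ((g'.appLE U U' hU'U).hom.comp (f.appLE W U hUW).hom).toAlgebra
  haveI : IsScalarTower Γ(S, W) Γ(X, U) Γ(X', U') := IsScalarTower.of_algebraMap_eq' rfl
  haveI : IsScalarTower Γ(S, W) Γ(S', W') Γ(X', U') := by
    refine IsScalarTower.of_algebraMap_eq' ?_
    change (g'.appLE U U' hU'U).hom.comp (f.appLE W U hUW).hom =
      (f'.appLE W' U' hU'W').hom.comp (g.appLE W W' hW'W).hom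
    rw [← CommRingCat.hom_comp, ← CommRingCat.hom_comp]
    congr 1
    exact hpo.w
  haveI : Algebra.IsPushout Γ(S, W) Γ(S', W') Γ(X, U) Γ(X', U') := by
    apply Algebra.IsPushout.symm
    exact CommRingCat.isPushout_iff_isPushout.mp hpo
  set F' := (Scheme.Modules.pullback g').obj F with hF'
  set G' := (Scheme.Modules.pullback g').obj G with hG'
  letI mAM : Module Γ(S, W) Γ(F, U) := Module.compHom _ (f.appLE W U hUW).hom
  haveI : IsScalarTower Γ(S, W) Γ(X, U) Γ(F, U) :=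
    IsScalarTower.of_algebraMap_smul fun _ _ => rfl
  letI mAN : Module Γ(S, W) Γ(G, U) := Module.compHom _ (f.appLE W U hUW).hom
  haveI : IsScalarTower Γ(S, W) Γ(X, U) Γ(G, U) :=
    IsScalarTower.of_algebraMap_smul fun _ _ => rfl
  letI mBM' : Module Γ(X, U) Γ(F', U') := Module.compHom _ (g'.appLE U U' hU'U).hom
  haveI : IsScalarTower Γ(X, U) Γ(X', U') Γ(F', U') :=
    IsScalarTower.of_algebraMap_smul fun _ _ => rfl
  letI mA'M' : Module Γ(S', W') Γ(F', U') := Module.compHom _ (f'.appLE W' U' hU'W').hom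
  haveI : IsScalarTower Γ(S', W') Γ(X', U') Γ(F', U') :=
    IsScalarTower.of_algebraMap_smul fun _ _ => rfl
  letI mBN' : Module Γ(X, U) Γ(G', U') := Module.compHom _ (g'.appLE U U' hU'U).hom
  haveI : IsScalarTower Γ(X, U) Γ(X', U') Γ(G', U') :=
    IsScalarTower.of_algebraMap_smul fun _ _ => rfl
  letI mA'N' : Module Γ(S', W') Γ(G', U') := Module.compHom _ (f'.appLE W' U' hU'W').hom
  haveI : IsScalarTower Γ(S', W') Γ(X', U') Γ(G', U') :=
    IsScalarTower.of_algebraMap_smul fun _ _ => rfl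
  have bcF := PBH8.isBaseChange_cUV g' F hU'U hU' hU
  have bcG := PBH8.isBaseChange_cUV g' G hU'U hU' hU
  obtain ⟨eF, heF⟩ : ∃ e : Γ(S', W') ⊗[Γ(S, W)] Γ(F, U) ≃ₗ[Γ(S', W')] Γ(F', U'),
      ∀ (a : Γ(S', W')) (m : Γ(F, U)), e (a ⊗ₜ m) = a • PBH8.cUV g' F hU'U m := by
    refine ⟨(Algebra.IsPushout.cancelBaseChange Γ(S, W) Γ(S', W') Γ(X, U) Γ(X', U')
      Γ(F, U)).symm ≪≫ₗ bcF.equiv.restrictScalars Γ(S', W'), fun a m => ?_⟩
    rw [LinearEquiv.trans_apply, Algebra.IsPushout.cancelBaseChange_symm_tmul]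
    show bcF.equiv (algebraMap Γ(S', W') Γ(X', U') a ⊗ₜ m) = _
    rw [IsBaseChange.equiv_tmul, PBH8.cUVLin_apply]
    rfl
  obtain ⟨eG, heG⟩ : ∃ e : Γ(S', W') ⊗[Γ(S, W)] Γ(G, U) ≃ₗ[Γ(S', W')] Γ(G', U'),
      ∀ (a : Γ(S', W')) (m : Γ(G, U)), e (a ⊗ₜ m) = a • PBH8.cUV g' G hU'U m := by
    refine ⟨(Algebra.IsPushout.cancelBaseChange Γ(S, W) Γ(S', W') Γ(X, U) Γ(X', U')
      Γ(G, U)).symm ≪≫ₗ bcG.equiv.restrictScalars Γ(S', W'), fun a m => ?_⟩
    rw [LinearEquiv.trans_apply, Algebra.IsPushout.cancelBaseChange_symm_tmul]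
    show bcG.equiv (algebraMap Γ(S', W') Γ(X', U') a ⊗ₜ m) = _
    rw [IsBaseChange.equiv_tmul, PBH8.cUVLin_apply]
    rfl
  have hnat : ∀ z : Γ(S', W') ⊗[Γ(S, W)] Γ(F, U),
      eG ((apOver f φ hUW).lTensor Γ(S', W') z) =
        ((Scheme.Modules.pullback g').map φ).app U' (eF z) := by
    intro z
    induction z with
    | zero => rw [map_zero, map_zero, map_zero, map_zero]
    | tmul a m =>
      rw [LinearMap.lTensor_tmul, heG, heF, apOver_apply, ← PBH8.cUV_naturality]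
      exact (Scheme.Modules.Hom.app_smul _ _ _).symm
    | add x y hx hy => rw [map_add, map_add, map_add, map_add, hx, hy]
  constructor
  · intro hi
    rw [injective_iff_map_eq_zero]
    intro z hz
    have h1 := hnat z
    rw [hz, map_zero] at h1
    have h2 : eF z = 0 := hi (h1.symm.trans (map_zero _).symm)
    exact eF.injective (h2.trans (map_zero eF).symm)
  · intro hi s t hst
    have h1 : eF.symm s = eF.symm t := by
      apply hi
      apply eG.injective
      rw [hnat, hnat, eF.apply_symm_apply, eF.apply_symm_apply, hst]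
    exact eF.symm.injective h1

end BC

section AlgInj

/-- If `u₀ : M₀ → N₀` has flat cokernel, the kernel of any base change of `u₀` is generated by the
kernel of `u₀`. -/
theorem exists_lTensor_ker_of_flat {R₀ : Type u} [CommRing R₀] {M₀ N₀ P₀ : Type u}
    [AddCommGroup M₀] [Module R₀ M₀] [AddCommGroup N₀] [Module R₀ N₀] [AddCommGroup P₀]
    [Module R₀ P₀] [Module.Flat R₀ P₀] (A : Type u) [AddCommGroup A] [Module R₀ A]
    (u₀ : M₀ →ₗ[R₀] N₀) (π₀ : N₀ →ₗ[R₀] P₀) (hπ₀ : Function.Surjective π₀)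
    (hex : Function.Exact u₀ π₀) (z : A ⊗[R₀] M₀) (hz : u₀.lTensor A z = 0) :
    ∃ w : A ⊗[R₀] LinearMap.ker u₀, (LinearMap.ker u₀).subtype.lTensor A w = z := by
  obtain ⟨u', hu'⟩ : ∃ u' : M₀ →ₗ[R₀] LinearMap.ker π₀,
      (LinearMap.ker π₀).subtype ∘ₗ u' = u₀ :=
    ⟨u₀.codRestrict _ (fun m => LinearMap.mem_ker.mpr (hex.apply_apply_eq_zero m)),
      LinearMap.ext fun m => rfl⟩
  have hu'v : ∀ m, ((u' m : LinearMap.ker π₀) : N₀) = u₀ m := fun m => by
    rw [← hu']
    rfl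
  have hu's : Function.Surjective u' := by
    rintro ⟨n, hn⟩
    obtain ⟨m, hm⟩ := (hex n).mp (LinearMap.mem_ker.mp hn)
    exact ⟨m, Subtype.ext ((hu'v m).trans hm)⟩
  have hinj : Function.Injective ((LinearMap.ker π₀).subtype.lTensor A) :=
    LinearMap.lTensor_injective_of_exact_of_flat π₀ hπ₀ _ (LinearMap.ker π₀).subtype_injective
      (LinearMap.exact_subtype_ker_map π₀) A
  have h1 : u'.lTensor A z = 0 := by
    apply hinj
    rw [map_zero, ← LinearMap.comp_apply, ← LinearMap.lTensor_comp, hu', hz]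
  have hex' : Function.Exact (LinearMap.ker u₀).subtype u' := by
    intro m
    constructor
    · intro hm
      refine ⟨⟨m, ?_⟩, rfl⟩
      rw [LinearMap.mem_ker, ← hu'v m, hm]
      rfl
    · rintro ⟨⟨m', hm'⟩, rfl⟩
      apply Subtype.ext
      rw [hu'v]
      exact LinearMap.mem_ker.mp hm'
  exact (lTensor_exact A hex' hu's z).mp h1

variable {J : Type u} [SmallCategory J] [IsCofiltered J] {R₀ : Type u} [CommRing R₀]
  {R : J → Type u} [∀ j, CommRing (R j)] [∀ j, Algebra R₀ (R j)]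
  {tr : ∀ {k j : J}, (k ⟶ j) → (R j →ₐ[R₀] R k)}
  {Rinf : Type u} [CommRing Rinf] [Algebra R₀ Rinf] {sg : ∀ j, R j →ₐ[R₀] Rinf}
  (h : IsColimSys R tr Rinf sg)

include h in
/-- **Injectivity with flat cokernel descends to a stage of a filtered colimit of rings.** -/
theorem exists_stage_injective_sys {C₀ : Type u} [CommRing C₀] [Algebra R₀ C₀]
    [Algebra.FinitePresentation R₀ C₀]
    {M₀ N₀ P₀ : Type u} [AddCommGroup M₀] [Module C₀ M₀] [Module R₀ M₀] [IsScalarTower R₀ C₀ M₀]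
    [AddCommGroup N₀] [Module C₀ N₀] [Module R₀ N₀] [IsScalarTower R₀ C₀ N₀]
    [AddCommGroup P₀] [Module C₀ P₀] [Module R₀ P₀] [IsScalarTower R₀ C₀ P₀]
    [Module.Finite C₀ M₀] [Module.FinitePresentation C₀ N₀] [Module.FinitePresentation C₀ P₀]
    [Module.Flat R₀ P₀]
    (u₀ : M₀ →ₗ[C₀] N₀) (π₀ : N₀ →ₗ[C₀] P₀) (hπ₀ : Function.Surjective π₀)
    (hex : Function.Exact u₀ π₀)
    (hinj : Function.Injective ((u₀.restrictScalars R₀).lTensor Rinf)) :
    ∃ k : J, ∀ (k' : J) (g : k' ⟶ k),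
      Function.Injective ((u₀.restrictScalars R₀).lTensor (R k')) := by
  classical
  haveI : Module.FinitePresentation C₀ (LinearMap.ker π₀) :=
    Groth.Agent.Lib.KerFPH6.finitePresentation_ker_of_flat (A := R₀) π₀ hπ₀
  obtain ⟨u', hu'⟩ : ∃ u' : M₀ →ₗ[C₀] LinearMap.ker π₀,
      ∀ m, ((u' m : LinearMap.ker π₀) : N₀) = u₀ m :=
    ⟨u₀.codRestrict _ (fun m => LinearMap.mem_ker.mpr (hex.apply_apply_eq_zero m)), fun m => rfl⟩
  have hu's : Function.Surjective u' := by
    rintro ⟨n, hn⟩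
    obtain ⟨m, hm⟩ := (hex n).mp (LinearMap.mem_ker.mp hn)
    exact ⟨m, Subtype.ext ((hu' m).trans hm)⟩
  obtain ⟨S, hS⟩ : (LinearMap.ker u').FG := Module.FinitePresentation.fg_ker u' hu's
  have hku : ∀ m, m ∈ LinearMap.ker u' ↔ u₀ m = 0 := by
    intro m
    rw [LinearMap.mem_ker, ← hu' m]
    constructor
    · intro hm
      rw [hm]
      rfl
    · intro hm
      exact Subtype.ext hm
  -- the generators of the kernel die in the colimit
  have hSinf : ∀ m ∈ S, (1 : Rinf) ⊗ₜ[R₀] m = 0 := by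
    intro m hm
    apply hinj
    rw [map_zero, LinearMap.lTensor_tmul]
    have h0 : u₀ m = 0 := (hku m).mp (hS ▸ Submodule.subset_span hm)
    show (1 : Rinf) ⊗ₜ[R₀] (u₀ m) = 0
    rw [h0, tmul_zero]
  -- hence at a stage
  obtain ⟨j₀⟩ := IsCofiltered.nonempty (C := J)
  obtain ⟨k, f, hk⟩ := exists_trT_eq_zero_finset h M₀ j₀
    (S.image (fun m => (1 : R j₀) ⊗ₜ[R₀] m)) (by
      intro z hz
      obtain ⟨m, hm, rfl⟩ := Finset.mem_image.mp hz
      rw [sgT_one_tmul]
      exact hSinf m hm)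
  refine ⟨k, fun k' g => ?_⟩
  have hSk' : ∀ m ∈ S, (1 : R k') ⊗ₜ[R₀] m = 0 := by
    intro m hm
    have h1 := hk _ (Finset.mem_image.mpr ⟨m, hm, rfl⟩)
    rw [trT_one_tmul] at h1
    have h2 : trT tr M₀ g ((1 : R k) ⊗ₜ[R₀] m) = 0 := by rw [h1, map_zero]
    rwa [trT_one_tmul] at h2
  -- the submodule of elements dying at the stage `k'`
  obtain ⟨Z, hZ⟩ : ∃ Z : Submodule C₀ M₀, ∀ m, m ∈ Z ↔ (1 : R k') ⊗ₜ[R₀] m = 0 := by
    refine ⟨{ carrier := {m | (1 : R k') ⊗ₜ[R₀] m = 0}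
              add_mem' := ?_
              zero_mem' := ?_
              smul_mem' := ?_ }, fun m => Iff.rfl⟩
    · intro a b ha hb
      show (1 : R k') ⊗ₜ[R₀] (a + b) = 0
      rw [tmul_add, ha, hb, add_zero]
    · show (1 : R k') ⊗ₜ[R₀] (0 : M₀) = 0
      rw [tmul_zero]
    · intro c m hm
      show (1 : R k') ⊗ₜ[R₀] (c • m) = 0
      have e1 : (1 : R k') ⊗ₜ[R₀] (c • m) =
          (((LinearMap.lsmul C₀ M₀ c).restrictScalars R₀).lTensor (R k'))
            ((1 : R k') ⊗ₜ[R₀] m) := by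
        rw [LinearMap.lTensor_tmul]
        rfl
      rw [e1, hm, map_zero]
  have hKZ : LinearMap.ker u' ≤ Z := by
    rw [← hS]
    exact Submodule.span_le.mpr (fun m hm => (hZ m).mpr (hSk' m hm))
  rw [injective_iff_map_eq_zero]
  intro z hz
  obtain ⟨w, rfl⟩ := exists_lTensor_ker_of_flat (R k') (u₀.restrictScalars R₀)
    (π₀.restrictScalars R₀) hπ₀ hex z hz
  clear hz
  induction w with
  | zero => rw [map_zero]
  | tmul r κ =>
    rw [LinearMap.lTensor_tmul]
    show r ⊗ₜ[R₀] (κ : M₀) = 0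
    have hκ : (κ : M₀) ∈ Z := hKZ ((hku _).mpr (LinearMap.mem_ker.mp κ.2))
    have e1 : r ⊗ₜ[R₀] (κ : M₀) = r • ((1 : R k') ⊗ₜ[R₀] (κ : M₀)) := by
      rw [smul_tmul', smul_eq_mul, mul_one]
    rw [e1, (hZ _).mp hκ, smul_zero]
  | add x y hx hy => rw [map_add, hx, hy, add_zero]

end AlgInj

section Lim

variable {I : Type u} [SmallCategory I] [IsCofiltered I] (D : I ⥤ Scheme.{u}) (c : Cone D)
  (hc : IsLimit c) [∀ (i j : I) (f : i ⟶ j), IsAffineHom (D.map f)] (i₀ : I)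

attribute [local instance] algR algRinf

include hc in
/-- Chart version of the descent of injectivity (with flat cokernel) to a stage of a limit. -/
theorem chart_inj {W₀ : (D.obj i₀).Opens} (hW₀ : IsAffineOpen W₀) {X₀ : Scheme.{u}}
    (f₀ : X₀ ⟶ D.obj i₀) [LocallyOfFinitePresentation f₀] {F₀ G₀ : X₀.Modules}
    [F₀.IsQuasicoherent] [G₀.IsQuasicoherent]
    [SheafOfModules.IsFinitePresentation (R := X₀.ringCatSheaf) F₀]
    [SheafOfModules.IsFinitePresentation (R := X₀.ringCatSheaf) G₀] (h₀ : F₀ ⟶ G₀)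
    {U₀ : X₀.Opens} (hU₀ : IsAffineOpen U₀) (e : U₀ ≤ f₀ ⁻¹ᵁ W₀)
    (hflat : @Module.Flat Γ(D.obj i₀, W₀) Γ(cokernel h₀, U₀) _ _
      (Module.compHom _ (f₀.appLE W₀ U₀ e).hom))
    {X : Scheme.{u}} (qX : X ⟶ X₀) (f : X ⟶ c.pt) (hX : IsPullback qX f f₀ (c.π.app i₀))
    (hinj : Function.Injective (((Scheme.Modules.pullback qX).map h₀).app
      (qX ⁻¹ᵁ U₀ ⊓ f ⁻¹ᵁ Uinf D c i₀ W₀))) :
    ∃ k : Over i₀, ∀ (k' : Over i₀) (g : k' ⟶ k) {Xk : Scheme.{u}} (p : Xk ⟶ X₀)
      (fk : Xk ⟶ D.obj k'.left) (hk : IsPullback p fk f₀ (D.map k'.hom)),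
      Function.Injective (((Scheme.Modules.pullback p).map h₀).app
        (p ⁻¹ᵁ U₀ ⊓ fk ⁻¹ᵁ Uj D i₀ W₀ k')) := by
  haveI hA' : ∀ {i j : I} (f : i ⟶ j), IsAffineHom (D.map f) := fun f => inferInstance
  haveI := isAffineHom_π_app D c hc i₀
  have hWinf : IsAffineOpen (Uinf D c i₀ W₀) := hW₀.preimage (c.π.app i₀)
  have hsys := isColimSys D c i₀ W₀ hc hW₀
  letI algC : Algebra Γ(D.obj i₀, W₀) Γ(X₀, U₀) := (f₀.appLE W₀ U₀ e).hom.toAlgebra
  letI modM : Module Γ(D.obj i₀, W₀) Γ(F₀, U₀) := Module.compHom _ (f₀.appLE W₀ U₀ e).hom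
  letI modN : Module Γ(D.obj i₀, W₀) Γ(G₀, U₀) := Module.compHom _ (f₀.appLE W₀ U₀ e).hom
  letI modP : Module Γ(D.obj i₀, W₀) Γ(cokernel h₀, U₀) :=
    Module.compHom _ (f₀.appLE W₀ U₀ e).hom
  haveI : IsScalarTower Γ(D.obj i₀, W₀) Γ(X₀, U₀) Γ(F₀, U₀) :=
    IsScalarTower.of_algebraMap_smul fun _ _ => rfl
  haveI : IsScalarTower Γ(D.obj i₀, W₀) Γ(X₀, U₀) Γ(G₀, U₀) :=
    IsScalarTower.of_algebraMap_smul fun _ _ => rfl
  haveI : IsScalarTower Γ(D.obj i₀, W₀) Γ(X₀, U₀) Γ(cokernel h₀, U₀) :=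
    IsScalarTower.of_algebraMap_smul fun _ _ => rfl
  haveI : Algebra.FinitePresentation Γ(D.obj i₀, W₀) Γ(X₀, U₀) :=
    Scheme.Hom.finitePresentation_appLE f₀ hW₀ hU₀ e
  haveI : Module.FinitePresentation Γ(X₀, U₀) Γ(F₀, U₀) :=
    QCohFP2.finitePresentation_of_isFinitePresentation F₀ hU₀
  haveI : Module.FinitePresentation Γ(X₀, U₀) Γ(G₀, U₀) :=
    QCohFP2.finitePresentation_of_isFinitePresentation G₀ hU₀
  haveI : Module.FinitePresentation Γ(X₀, U₀) Γ(cokernel h₀, U₀) :=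
    Groth.Agent.Lib.StalkInjH6.finitePresentation_sections_cokernel h₀ hU₀
  haveI : Module.Flat Γ(D.obj i₀, W₀) Γ(cokernel h₀, U₀) := hflat
  have h2 := (app_injective_pullback_iff hX h₀ hW₀ hU₀ hWinf e le_rfl).mp hinj
  haveI : (cokernel h₀).IsQuasicoherent := FComplH8.isQuasicoherent_cokernel h₀
  have hπs : Function.Surjective (SerreFT.apL (cokernel.π h₀) U₀) :=
    QCohExact.app_surjective_of_epi (cokernel.π h₀) hU₀
  have hex : Function.Exact (SerreFT.apL h₀ U₀) (SerreFT.apL (cokernel.π h₀) U₀) := by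
    intro n
    constructor
    · intro hn
      exact Groth.Agent.Lib.StalkInjH6.exists_app_eq_of_cokernel_π_app_eq_zero h₀ hU₀ n hn
    · rintro ⟨m, rfl⟩
      exact Groth.Agent.Lib.StalkInjH6.cokernel_π_app_app h₀ U₀ m
  obtain ⟨k, hk⟩ := exists_stage_injective_sys hsys (C₀ := Γ(X₀, U₀)) (SerreFT.apL h₀ U₀)
    (SerreFT.apL (cokernel.π h₀) U₀) hπs hex h2
  refine ⟨k, fun k' g Xk p fk hk' => ?_⟩
  exact (app_injective_pullback_iff hk' h₀ hW₀ hU₀ (hW₀.preimage (D.map k'.hom)) e le_rfl).mpr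
    (hk k' g)

end Lim

end Groth.Agent.Lib.LimMod
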