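import Groth.Agent.Lib.LimInj1_helper2

/-!
# Injectivity with flat cokernel over a limit of schemes (EGA IV 11.2.6 (ii), pointwise) (helper2)

* `stk_pb_injective_iff`, `cokerPbIso`: transfer along `b^* ⋙ a^* ≅ (a ≫ b)^*`.
* `injFlat_pullback`: "stalk map injective with cokernel flat over the base at the point" is stable
  under arbitrary base change (for modules of finite presentation, `f` locally of finite
  presentation).
* `exists_stage_injFlatAt`: descent of this property to a stage of a limit of schemes.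
* `main4901`.
APPEND-ONLY once landed.
-/

set_option autoImplicit false
set_option maxHeartbeats 1000000
set_option linter.style.haveILetI false
set_option linter.unusedSectionVars false
set_option linter.unusedVariables false
universe u

open CategoryTheory CategoryTheory.Limits AlgebraicGeometry TopologicalSpace Opposite TensorProduct

namespace Groth.Agent.Lib.LimMod

section Transfer

variable {X Y Z : Scheme.{u}} (a : X ⟶ Y) (b : Y ⟶ Z) (c : X ⟶ Z) (w : a ≫ b = c)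
  {F G : Z.Modules} (h₀ : F ⟶ G)

theorem pbIso_naturality :
    (Scheme.Modules.pullback a).map ((Scheme.Modules.pullback b).map h₀) ≫
        ((DescH8.pbIso a b c w).app G).hom =
      ((DescH8.pbIso a b c w).app F).hom ≫ (Scheme.Modules.pullback c).map h₀ :=
  (DescH8.pbIso a b c w).hom.naturality h₀

include w in
theorem stk_pb_injective_iff (x : X) :
    Function.Injective (DescH8.stk
        ((Scheme.Modules.pullback a).map ((Scheme.Modules.pullback b).map h₀)) x) ↔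
      Function.Injective (DescH8.stk ((Scheme.Modules.pullback c).map h₀) x) :=
  stk_injective_iff_of_iso _ _ ((DescH8.pbIso a b c w).app F) ((DescH8.pbIso a b c w).app G)
    (pbIso_naturality a b c w h₀) x

/-- The cokernels of `a^* b^* h₀` and `(a ≫ b)^* h₀` are isomorphic. -/
noncomputable def cokerPbIso :
    cokernel ((Scheme.Modules.pullback a).map ((Scheme.Modules.pullback b).map h₀)) ≅
      cokernel ((Scheme.Modules.pullback c).map h₀) :=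
  cokernel.mapIso _ _ ((DescH8.pbIso a b c w).app F) ((DescH8.pbIso a b c w).app G)
    (pbIso_naturality a b c w h₀)

end Transfer

section BC

variable {X S X' S' : Scheme.{u}} {f : X ⟶ S} {f' : X' ⟶ S'} {g' : X' ⟶ X} {g : S' ⟶ S}

/-- **Base change**: if the stalk map of `φ` is injective at `g' x'` and `Coker φ` is flat over `S`
at `g' x'`, then the same holds for the pullback to `X'` at `x'`, over `S'`. -/
theorem injFlat_pullback (hc : IsPullback g' f' f g) [LocallyOfFinitePresentation f]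
    {F G : X.Modules} [F.IsQuasicoherent] [G.IsQuasicoherent]
    [SheafOfModules.IsFinitePresentation (R := X.ringCatSheaf) F]
    [SheafOfModules.IsFinitePresentation (R := X.ringCatSheaf) G] (φ : F ⟶ G) (x' : X')
    (hinj : Function.Injective (DescH8.stk φ (g' x')))
    (hfl : FlatMod.IsFlatOverAt f (cokernel φ) (g' x')) :
    Function.Injective (DescH8.stk ((Scheme.Modules.pullback g').map φ) x') ∧
      FlatMod.IsFlatOverAt f' (cokernel ((Scheme.Modules.pullback g').map φ)) x' := by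
  classical
  haveI hCq : (cokernel φ).IsQuasicoherent := FComplH8.isQuasicoherent_cokernel φ
  refine ⟨?_, ?_⟩
  swap
  · exact DescH8.isFlatOverAt_of_iso f' (PreservesCokernel.iso (Scheme.Modules.pullback g') φ) x'
      (FlatBC2H8.isFlatOverAt_pullback hc (cokernel φ) x' hfl)
  haveI : Coh.IsQCoh F := ‹F.IsQuasicoherent›
  haveI : Coh.IsQCoh G := ‹G.IsQuasicoherent›
  have hFfp : CohB1.IsFP F := ‹SheafOfModules.IsFinitePresentation (R := X.ringCatSheaf) F›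
  have hGfp : CohB1.IsFP G := ‹SheafOfModules.IsFinitePresentation (R := X.ringCatSheaf) G›
  have hopen : IsOpen {y : X | Function.Injective (DescH8.stk φ y) ∧
      FlatMod.IsFlatOverAt f (cokernel φ) y} :=
    Groth.Agent.S4851.result f G F hGfp hFfp φ
  -- charts
  obtain ⟨_, ⟨W, hW : IsAffineOpen W, rfl⟩, hxW, -⟩ :=
    S.isBasis_affineOpens.exists_subset_of_mem_open (Set.mem_univ (f (g' x'))) isOpen_univ
  obtain ⟨_, ⟨U, hU : IsAffineOpen U, rfl⟩, hxU, hUle⟩ :=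
    X.isBasis_affineOpens.exists_subset_of_mem_open
      (show g' x' ∈ ((⟨_, hopen⟩ : X.Opens) ⊓ f ⁻¹ᵁ W : X.Opens) from ⟨⟨hinj, hfl⟩, hxW⟩)
      ((⟨_, hopen⟩ : X.Opens) ⊓ f ⁻¹ᵁ W).isOpen
  have hUW : U ≤ f ⁻¹ᵁ W := fun z hz => (hUle hz).2
  have hgood : ∀ y ∈ U, Function.Injective (DescH8.stk φ y) ∧
      FlatMod.IsFlatOverAt f (cokernel φ) y := fun y hy => (hUle hy).1
  have hx'W : f' x' ∈ g ⁻¹ᵁ W := by
    show g (f' x') ∈ W
    have e1 : g (f' x') = f (g' x') := by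
      rw [← Scheme.Hom.comp_apply, ← Scheme.Hom.comp_apply, hc.w]
    rw [e1]
    exact hxW
  obtain ⟨_, ⟨W', hW' : IsAffineOpen W', rfl⟩, hxW', hW'le⟩ :=
    S'.isBasis_affineOpens.exists_subset_of_mem_open hx'W (g ⁻¹ᵁ W).isOpen
  have hW'W : W' ≤ g ⁻¹ᵁ W := hW'le
  obtain ⟨hU', -⟩ := FlatBC2H8.affine_pushout hc hW hU hW' hUW hW'W
  -- injectivity on `U`
  have hinjU : Function.Injective (φ.app U) :=
    app_injective_of_stk φ U (fun y hy => (hgood y hy).1)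
  -- flatness of the sections of the cokernel
  letI mP : Module Γ(S, W) Γ(cokernel φ, U) := Module.compHom _ (f.appLE W U hUW).hom
  haveI hflP : Module.Flat Γ(S, W) Γ(cokernel φ, U) :=
    FlatSecH8.flat_sections_of_flat_stalks f (cokernel φ) hU hUW
      (fun y hy => (FlatSecH8.isFlatOverAt_iff_flat_stalk f (cokernel φ) hW hUW hy).mp
        (hgood y hy).2)
  letI mM : Module Γ(S, W) Γ(F, U) := Module.compHom _ (f.appLE W U hUW).hom
  letI mN : Module Γ(S, W) Γ(G, U) := Module.compHom _ (f.appLE W U hUW).hom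
  letI algW' : Algebra Γ(S, W) Γ(S', W') := (g.appLE W W' hW'W).hom.toAlgebra
  have hπs : Function.Surjective (apOver f (cokernel.π φ) hUW) :=
    QCohExact.app_surjective_of_epi (cokernel.π φ) hU
  have hex : Function.Exact (apOver f φ hUW) (apOver f (cokernel.π φ) hUW) := by
    intro n
    constructor
    · intro hn
      exact Groth.Agent.Lib.StalkInjH6.exists_app_eq_of_cokernel_π_app_eq_zero φ hU n hn
    · rintro ⟨m, rfl⟩
      exact Groth.Agent.Lib.StalkInjH6.cokernel_π_app_app φ U m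
  have hT : Function.Injective ((apOver f φ hUW).lTensor Γ(S', W')) :=
    LinearMap.lTensor_injective_of_exact_of_flat (apOver f (cokernel.π φ) hUW) hπs
      (apOver f φ hUW) hinjU hex Γ(S', W')
  have hinjU' := (app_injective_pullback_iff hc φ hW hU hW' hUW hW'W).mpr hT
  have hx'U' : x' ∈ g' ⁻¹ᵁ U ⊓ f' ⁻¹ᵁ W' := ⟨hxU, hxW'⟩
  exact stk_injective_of_app _ hU' hinjU' hx'U'

end BC

section Lim

variable {I : Type u} [SmallCategory I] [IsCofiltered I] (D : I ⥤ Scheme.{u}) (c : Cone D)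
  (hc : IsLimit c) [∀ (i j : I) (f : i ⟶ j), IsAffineHom (D.map f)] (i₀ : I)

open Groth.Agent.Lib.LimBaseChangeH7 in
include hc in
/-- **EGA IV 11.2.6 (ii), pointwise**: if the base change of `h₀` to the limit has injective stalk
map at `x` and cokernel flat over the limit at `x`, the same holds at a stage. -/
theorem exists_stage_injFlatAt {X₀ : Scheme.{u}} (f₀ : X₀ ⟶ D.obj i₀)
    [LocallyOfFinitePresentation f₀] {F₀ G₀ : X₀.Modules} [F₀.IsQuasicoherent]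
    [G₀.IsQuasicoherent] [SheafOfModules.IsFinitePresentation (R := X₀.ringCatSheaf) F₀]
    [SheafOfModules.IsFinitePresentation (R := X₀.ringCatSheaf) G₀] (h₀ : F₀ ⟶ G₀)
    {X : Scheme.{u}} (qX : X ⟶ X₀) (f : X ⟶ c.pt) (hX : IsPullback qX f f₀ (c.π.app i₀)) (x : X)
    (hinj : Function.Injective (DescH8.stk ((Scheme.Modules.pullback qX).map h₀) x))
    (hfl : FlatMod.IsFlatOverAt f (cokernel ((Scheme.Modules.pullback qX).map h₀)) x) :
    ∃ κ : Over i₀,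
      Function.Injective (DescH8.stk
        ((Scheme.Modules.pullback (pullback.fst f₀ (D.map κ.hom))).map h₀)
        ((bcCone c hX).π.app κ x)) ∧
      FlatMod.IsFlatOverAt (pullback.snd f₀ (D.map κ.hom))
        (cokernel ((Scheme.Modules.pullback (pullback.fst f₀ (D.map κ.hom))).map h₀))
        ((bcCone c hX).π.app κ x) := by
  classical
  haveI hA' : ∀ {i j : I} (f : i ⟶ j), IsAffineHom (D.map f) := fun f => inferInstance
  haveI : LocallyOfFinitePresentation f :=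
    MorphismProperty.of_isPullback (P := @LocallyOfFinitePresentation) hX inferInstance
  -- openness of the good locus on `X`
  haveI : Coh.IsQCoh ((Scheme.Modules.pullback qX).obj F₀) :=
    PBH8.isQuasicoherent_pullback qX F₀
  haveI : Coh.IsQCoh ((Scheme.Modules.pullback qX).obj G₀) :=
    PBH8.isQuasicoherent_pullback qX G₀
  have hopen : IsOpen {y : X |
      Function.Injective (DescH8.stk ((Scheme.Modules.pullback qX).map h₀) y) ∧
      FlatMod.IsFlatOverAt f (cokernel ((Scheme.Modules.pullback qX).map h₀)) y} :=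
    Groth.Agent.S4851.result f _ _ (FpqcH8.isFP_pullback qX G₀) (FpqcH8.isFP_pullback qX F₀) _
  -- flatness of the cokernel at a stage
  obtain ⟨C₀, hC₀⟩ : ∃ C₀ : X₀.Modules, C₀ = cokernel h₀ := ⟨_, rfl⟩
  haveI : C₀.IsQuasicoherent := by
    rw [hC₀]; exact FComplH8.isQuasicoherent_cokernel h₀
  haveI : SheafOfModules.IsFinitePresentation (R := X₀.ringCatSheaf) C₀ := by
    rw [hC₀]; exact Groth.Agent.Lib.StalkInjH6.isFP_cokernel h₀
  have hflC : FlatMod.IsFlatOverAt f ((Scheme.Modules.pullback qX).obj C₀) x := by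
    rw [hC₀]
    exact DescH8.isFlatOverAt_of_iso f
      (PreservesCokernel.iso (Scheme.Modules.pullback qX) h₀).symm x hfl
  obtain ⟨κ₁, hκ₁⟩ := exists_stage_flatOverAt D c hc i₀ f₀ C₀ qX f hX x hflC
  -- an affine open of the base stage around the image of `x`
  obtain ⟨_, ⟨W₀, hW₀ : IsAffineOpen W₀, rfl⟩, hxW₀, -⟩ :=
    (D.obj i₀).isBasis_affineOpens.exists_subset_of_mem_open
      (Set.mem_univ (c.π.app i₀ (f x))) isOpen_univ
  obtain ⟨U', hU'def⟩ : ∃ U' : X.Opens, U' = (⟨_, hopen⟩ : X.Opens) ⊓ f ⁻¹ᵁ Uinf D c i₀ W₀ :=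
    ⟨_, rfl⟩
  have hxU' : x ∈ U' := by
    rw [hU'def]
    exact ⟨⟨hinj, hfl⟩, hxW₀⟩
  haveI : ∀ {j k : Over i₀} (g : j ⟶ k), IsAffineHom ((bcDiagram D i₀ f₀).map g) :=
    fun g => inferInstance
  obtain ⟨_, ⟨j, V, hV, rfl⟩, hxV, hVU'⟩ := Opens.isBasis_iff_nbhd.mp
    (isBasis_preimage_isAffineOpen (bcDiagram D i₀ f₀) (bcCone c hX) (isLimitBcCone c hX hc)) hxU'
  -- a common refinement of the two stages
  obtain ⟨κ₂, a₁, a₂, -⟩ : ∃ (κ₂ : Over i₀) (a₁ : κ₂ ⟶ κ₁) (a₂ : κ₂ ⟶ j), True :=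
    ⟨IsCofiltered.min κ₁ j, IsCofiltered.minToLeft κ₁ j, IsCofiltered.minToRight κ₁ j, trivial⟩
  -- notation for the stage `κ₂`
  obtain ⟨f₂, hf₂⟩ : ∃ f₂ : (bcDiagram D i₀ f₀).obj κ₂ ⟶ D.obj κ₂.left,
      f₂ = pullback.snd f₀ (D.map κ₂.hom) := ⟨_, rfl⟩
  obtain ⟨p₂, hp₂⟩ : ∃ p₂ : (bcDiagram D i₀ f₀).obj κ₂ ⟶ X₀,
      p₂ = pullback.fst f₀ (D.map κ₂.hom) := ⟨_, rfl⟩
  obtain ⟨q₂, hq₂⟩ : ∃ q₂ : X ⟶ (bcDiagram D i₀ f₀).obj κ₂, q₂ = (bcCone c hX).π.app κ₂ :=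
    ⟨_, rfl⟩
  have hq₂p₂ : q₂ ≫ p₂ = qX := by rw [hq₂, hp₂]; exact bcCone_π_fst c hX κ₂
  have hq₂f₂ : q₂ ≫ f₂ = f ≫ c.π.app κ₂.left := by rw [hq₂, hf₂]; exact bcCone_π_snd c hX κ₂
  have hX₂ : IsPullback q₂ f f₂ (c.π.app κ₂.left) := by
    rw [hq₂, hf₂]; exact isPullback_bcCone_π c hX κ₂
  haveI : LocallyOfFinitePresentation f₂ := by
    rw [hf₂]; exact MorphismProperty.pullback_snd _ _ inferInstance
  have hW₂ : IsAffineOpen (Uj D i₀ W₀ κ₂) := hW₀.preimage (D.map κ₂.hom)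
  have hxW₂ : q₂ x ∈ f₂ ⁻¹ᵁ Uj D i₀ W₀ κ₂ := by
    show (D.map κ₂.hom) (f₂ (q₂ x)) ∈ W₀
    have e1 : (D.map κ₂.hom) (f₂ (q₂ x)) = c.π.app i₀ (f x) := by
      rw [← Scheme.Hom.comp_apply, ← Scheme.Hom.comp_apply, reassoc_of% hq₂f₂, c.w]
      rfl
    rw [e1]
    exact hxW₀
  -- the morphism at stage `κ₂`
  haveI : SheafOfModules.IsFinitePresentation
      (R := ((bcDiagram D i₀ f₀).obj κ₂).ringCatSheaf) ((Scheme.Modules.pullback p₂).obj F₀) :=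
    FpqcH8.isFP_pullback p₂ F₀
  haveI : SheafOfModules.IsFinitePresentation
      (R := ((bcDiagram D i₀ f₀).obj κ₂).ringCatSheaf) ((Scheme.Modules.pullback p₂).obj G₀) :=
    FpqcH8.isFP_pullback p₂ G₀
  obtain ⟨h₂, hh₂⟩ : ∃ h₂ : (Scheme.Modules.pullback p₂).obj F₀ ⟶
      (Scheme.Modules.pullback p₂).obj G₀, h₂ = (Scheme.Modules.pullback p₂).map h₀ := ⟨_, rfl⟩
  haveI hC₂q : (cokernel h₂).IsQuasicoherent := FComplH8.isQuasicoherent_cokernel h₂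
  have hC₂fp : CohB1.IsFP (cokernel h₂) := Groth.Agent.Lib.StalkInjH6.isFP_cokernel h₂
  haveI : Coh.IsQCoh (cokernel h₂) := hC₂q
  -- flatness of the cokernel at stage `κ₂`
  obtain ⟨m₁, hm₁⟩ : ∃ m₁ : (bcDiagram D i₀ f₀).obj κ₂ ⟶ (bcDiagram D i₀ f₀).obj κ₁,
      m₁ = (bcDiagram D i₀ f₀).map a₁ := ⟨_, rfl⟩
  obtain ⟨p₁, hp₁⟩ : ∃ p₁ : (bcDiagram D i₀ f₀).obj κ₁ ⟶ X₀,
      p₁ = pullback.fst f₀ (D.map κ₁.hom) := ⟨_, rfl⟩
  obtain ⟨s₁, hs₁⟩ : ∃ s₁ : (bcDiagram D i₀ f₀).obj κ₁ ⟶ D.obj κ₁.left,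
      s₁ = pullback.snd f₀ (D.map κ₁.hom) := ⟨_, rfl⟩
  have hκ₁' : FlatMod.IsFlatOverAt s₁ ((Scheme.Modules.pullback p₁).obj C₀)
      ((bcCone c hX).π.app κ₁ x) := by
    rw [hs₁, hp₁]
    exact hκ₁
  have hm₁pb : IsPullback m₁ f₂ s₁ (D.map a₁.left) := by
    rw [hm₁, hf₂, hs₁]
    exact isPullback_map D i₀ f₀ a₁
  have hm₁x : m₁ (q₂ x) = (bcCone c hX).π.app κ₁ x := by
    rw [hm₁, hq₂, ← Scheme.Hom.comp_apply]
    exact congrArg (fun φ : X ⟶ (bcDiagram D i₀ f₀).obj κ₁ => φ x) ((bcCone c hX).w a₁)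
  have hm₁p : m₁ ≫ p₁ = p₂ := by
    rw [hm₁, hp₂, hp₁]
    exact bcDiagram_map_fst D i₀ f₀ a₁
  have hflC₂ : FlatMod.IsFlatOverAt f₂ (cokernel h₂) (q₂ x) := by
    have h1 := FlatBC2H8.isFlatOverAt_pullback hm₁pb
      ((Scheme.Modules.pullback p₁).obj C₀) (q₂ x) (by rw [hm₁x]; exact hκ₁')
    have h2 := DescH8.isFlatOverAt_of_iso f₂ ((DescH8.pbIso m₁ p₁ p₂ hm₁p).app C₀)
      (q₂ x) h1
    rw [hC₀] at h2
    rw [hh₂]
    exact DescH8.isFlatOverAt_of_iso f₂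
      (PreservesCokernel.iso (Scheme.Modules.pullback p₂) h₀) (q₂ x) h2
  have hopen₂ : IsOpen {y : ((bcDiagram D i₀ f₀).obj κ₂ : Scheme.{u}) |
      FlatMod.IsFlatOverAt f₂ (cokernel h₂) y} :=
    Groth.Agent.S4863.result f₂ (cokernel h₂) hC₂fp
  -- the open `V` at stage `κ₂`
  obtain ⟨m₂, hm₂⟩ : ∃ m₂ : (bcDiagram D i₀ f₀).obj κ₂ ⟶ (bcDiagram D i₀ f₀).obj j,
      m₂ = (bcDiagram D i₀ f₀).map a₂ := ⟨_, rfl⟩
  have hm₂q : ∀ y : X, m₂ (q₂ y) = (bcCone c hX).π.app j y := by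
    intro y
    rw [hm₂, hq₂, ← Scheme.Hom.comp_apply]
    exact congrArg (fun φ : X ⟶ (bcDiagram D i₀ f₀).obj j => φ y) ((bcCone c hX).w a₂)
  have hxV₂ : q₂ x ∈ m₂ ⁻¹ᵁ V := by
    show m₂ (q₂ x) ∈ V
    rw [hm₂q]
    exact hxV
  obtain ⟨_, ⟨V₃, hV₃ : IsAffineOpen V₃, rfl⟩, hxV₃, hV₃le⟩ :=
    ((bcDiagram D i₀ f₀).obj κ₂).isBasis_affineOpens.exists_subset_of_mem_open
      (show q₂ x ∈ ((m₂ ⁻¹ᵁ V ⊓ (⟨_, hopen₂⟩ : ((bcDiagram D i₀ f₀).obj κ₂).Opens)) ⊓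
        f₂ ⁻¹ᵁ Uj D i₀ W₀ κ₂ : ((bcDiagram D i₀ f₀).obj κ₂).Opens) from
        ⟨⟨hxV₂, hflC₂⟩, hxW₂⟩)
      ((m₂ ⁻¹ᵁ V ⊓ (⟨_, hopen₂⟩ : ((bcDiagram D i₀ f₀).obj κ₂).Opens)) ⊓
        f₂ ⁻¹ᵁ Uj D i₀ W₀ κ₂).isOpen
  have e₃ : V₃ ≤ f₂ ⁻¹ᵁ Uj D i₀ W₀ κ₂ := fun z hz => (hV₃le hz).2
  have hflat₃ : @Module.Flat Γ(D.obj κ₂.left, Uj D i₀ W₀ κ₂) Γ(cokernel h₂, V₃) _ _
      (Module.compHom _ (f₂.appLE (Uj D i₀ W₀ κ₂) V₃ e₃).hom) :=
    FlatSecH8.flat_sections_of_flat_stalks f₂ (cokernel h₂) hV₃ e₃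
      (fun y hy => (FlatSecH8.isFlatOverAt_iff_flat_stalk f₂ (cokernel h₂) hW₂ e₃ hy).mp
        (hV₃le hy).1.2)
  have hinj₃ : Function.Injective (((Scheme.Modules.pullback q₂).map h₂).app
      (q₂ ⁻¹ᵁ V₃ ⊓ f ⁻¹ᵁ Uinf D c κ₂.left (Uj D i₀ W₀ κ₂))) := by
    apply app_injective_of_stk
    intro y hy
    have hyV : y ∈ (bcCone c hX).π.app j ⁻¹ᵁ V := by
      show (bcCone c hX).π.app j y ∈ V
      rw [← hm₂q]
      exact (hV₃le hy.1).1.1
    have hyU' := hVU' hyV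
    rw [hU'def] at hyU'
    rw [hh₂]
    exact (stk_pb_injective_iff q₂ p₂ qX hq₂p₂ h₀ y).mpr hyU'.1.1
  obtain ⟨k, hk⟩ := chart_inj D c hc κ₂.left hW₂ f₂ h₂ hV₃ e₃ hflat₃ q₂ f hX₂ hinj₃
  -- the stage `κ` over `i₀`
  refine ⟨Over.mk (k.hom ≫ κ₂.hom), ?_⟩
  obtain ⟨a, ha⟩ : ∃ a : Over.mk (k.hom ≫ κ₂.hom) ⟶ κ₂, a.left = k.hom :=
    ⟨Over.homMk k.hom rfl, rfl⟩
  obtain ⟨p, hp⟩ : ∃ p : (bcDiagram D i₀ f₀).obj (Over.mk (k.hom ≫ κ₂.hom)) ⟶
      (bcDiagram D i₀ f₀).obj κ₂, p = (bcDiagram D i₀ f₀).map a := ⟨_, rfl⟩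
  obtain ⟨fk, hfk⟩ : ∃ fk : (bcDiagram D i₀ f₀).obj (Over.mk (k.hom ≫ κ₂.hom)) ⟶ D.obj k.left,
      fk = pullback.snd f₀ (D.map (k.hom ≫ κ₂.hom)) := ⟨_, rfl⟩
  have hkpb : IsPullback p fk f₂ (D.map k.hom) := by
    have := isPullback_map D i₀ f₀ a
    rw [ha] at this
    rw [hp, hfk, hf₂]
    exact this
  have hinjk := hk k (𝟙 k) p fk hkpb
  have hWk : IsAffineOpen (Uj D κ₂.left (Uj D i₀ W₀ κ₂) k) := hW₂.preimage (D.map k.hom)
  obtain ⟨hUaff, -⟩ := FlatBC2H8.affine_pushout hkpb hW₂ hV₃ hWk e₃ le_rfl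
  obtain ⟨xk, hxk⟩ : ∃ xk : ((bcDiagram D i₀ f₀).obj (Over.mk (k.hom ≫ κ₂.hom)) : Scheme.{u}),
      xk = (bcCone c hX).π.app (Over.mk (k.hom ≫ κ₂.hom)) x := ⟨_, rfl⟩
  have hw : (bcCone c hX).π.app (Over.mk (k.hom ≫ κ₂.hom)) ≫ (bcDiagram D i₀ f₀).map a =
      (bcCone c hX).π.app κ₂ := (bcCone c hX).w a
  have hpxk : p xk = q₂ x := by
    rw [hxk, hp, hq₂, ← Scheme.Hom.comp_apply]
    exact congrArg (fun φ : X ⟶ (bcDiagram D i₀ f₀).obj κ₂ => φ x) hw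
  have hxU : xk ∈ p ⁻¹ᵁ V₃ ⊓ fk ⁻¹ᵁ Uj D κ₂.left (Uj D i₀ W₀ κ₂) k := by
    refine ⟨?_, ?_⟩
    · show p xk ∈ V₃
      rw [hpxk]
      exact hxV₃
    · show (D.map k.hom) (fk xk) ∈ Uj D i₀ W₀ κ₂
      have e1 : (D.map k.hom) (fk xk) = f₂ (p xk) := by
        rw [← Scheme.Hom.comp_apply, ← Scheme.Hom.comp_apply, hkpb.w]
      rw [e1, hpxk]
      exact e₃ hxV₃
  have hpp₂ : p ≫ p₂ = pullback.fst f₀ (D.map (k.hom ≫ κ₂.hom)) := by
    rw [hp, hp₂]
    exact bcDiagram_map_fst D i₀ f₀ a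
  have hstk : Function.Injective (DescH8.stk ((Scheme.Modules.pullback p).map h₂) xk) :=
    stk_injective_of_app _ hUaff hinjk hxU
  have hflk : FlatMod.IsFlatOverAt fk (cokernel ((Scheme.Modules.pullback p).map h₂)) xk :=
    DescH8.isFlatOverAt_of_iso fk (PreservesCokernel.iso (Scheme.Modules.pullback p) h₂) xk
      (FlatBC2H8.isFlatOverAt_pullback hkpb (cokernel h₂) xk (by rw [hpxk]; exact hflC₂))
  rw [hh₂] at hstk hflk
  have key : Function.Injective (DescH8.stk ((Scheme.Modules.pullback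
        (pullback.fst f₀ (D.map (k.hom ≫ κ₂.hom)))).map h₀) xk) ∧
      FlatMod.IsFlatOverAt fk (cokernel ((Scheme.Modules.pullback
        (pullback.fst f₀ (D.map (k.hom ≫ κ₂.hom)))).map h₀)) xk :=
    ⟨(stk_pb_injective_iff p p₂ _ hpp₂ h₀ xk).mp hstk,
      DescH8.isFlatOverAt_of_iso fk (cokerPbIso p p₂ _ hpp₂ h₀) xk hflk⟩
  rw [hxk, hfk] at key
  exact key

end Lim

open Groth.Agent.Lib.LimBaseChangeH7 in
/-- **S4901** -/
theorem main4901 {I : Type u} [SmallCategory I] [IsCofiltered I]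
    (D : I ⥤ Scheme.{u}) (c : Limits.Cone D) (hc : Limits.IsLimit c)
    [∀ (i j : I) (φ : i ⟶ j), IsAffineHom (D.map φ)] (i₀ : I)
    {X₀ Y₀ : Scheme.{u}} (f₀ : X₀ ⟶ Y₀) (g₀ : Y₀ ⟶ D.obj i₀) [LocallyOfFinitePresentation f₀]
    (F₀ G₀ : X₀.Modules) [Coh.IsQCoh F₀] [Coh.IsQCoh G₀] (hF₀ : CohB1.IsFP F₀) (hG₀ : CohB1.IsFP G₀)
    (h₀ : F₀ ⟶ G₀)
    {X Y : Scheme.{u}} (f : X ⟶ Y) (g : Y ⟶ c.pt) (qY : Y ⟶ Y₀) (qX : X ⟶ X₀)
    (hY : IsPullback qY g g₀ (c.π.app i₀)) (hX : IsPullback qX f f₀ qY) (x : X) :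
    (Function.Injective ((TopCat.Presheaf.stalkFunctor Ab x).map
        (Scheme.Modules.Hom.mapPresheaf ((Scheme.Modules.pullback qX).map h₀))) ∧
      FlatMod.IsFlatOverAt f (cokernel ((Scheme.Modules.pullback qX).map h₀)) x) ↔
      ∃ (i : I) (φ : i ⟶ i₀) (Xi Yi : Scheme.{u}) (fi : Xi ⟶ Yi) (gi : Yi ⟶ D.obj i)
        (pY : Yi ⟶ Y₀) (pX : Xi ⟶ X₀) (vY : Y ⟶ Yi) (vX : X ⟶ Xi),
        IsPullback pY gi g₀ (D.map φ) ∧ IsPullback pX fi f₀ pY ∧
          vY ≫ pY = qY ∧ vY ≫ gi = g ≫ c.π.app i ∧ vX ≫ pX = qX ∧ vX ≫ fi = f ≫ vY ∧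
          Function.Injective ((TopCat.Presheaf.stalkFunctor Ab (vX x)).map
            (Scheme.Modules.Hom.mapPresheaf ((Scheme.Modules.pullback pX).map h₀))) ∧
          FlatMod.IsFlatOverAt fi (cokernel ((Scheme.Modules.pullback pX).map h₀)) (vX x) := by
  haveI := hF₀
  haveI := hG₀
  haveI : F₀.IsQuasicoherent := ‹Coh.IsQCoh F₀›
  haveI : G₀.IsQuasicoherent := ‹Coh.IsQCoh G₀›
  constructor
  · rintro ⟨hinj, hfl⟩
    -- the base-changed system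
    obtain ⟨j₀, hj₀⟩ : ∃ j₀ : Over i₀, j₀ = Over.mk (𝟙 i₀) := ⟨_, rfl⟩
    haveI : IsIso (D.map j₀.hom) := by
      rw [hj₀]
      change IsIso (D.map (𝟙 i₀))
      infer_instance
    obtain ⟨e₀, he₀⟩ : ∃ e₀ : (bcDiagram D i₀ g₀).obj j₀ ⟶ Y₀,
        e₀ = pullback.fst g₀ (D.map j₀.hom) := ⟨_, rfl⟩
    haveI he : IsIso e₀ := by
      rw [he₀]
      exact MorphismProperty.pullback_fst (P := MorphismProperty.isomorphisms Scheme.{u}) g₀
        (D.map j₀.hom) ((MorphismProperty.isomorphisms.iff _).mpr inferInstance)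
    have hcone0 : (bcCone c hY).π.app j₀ ≫ e₀ = qY := by
      rw [he₀]
      exact bcCone_π_fst c hY j₀
    have hX' : IsPullback qX f (f₀ ≫ inv e₀) ((bcCone c hY).π.app j₀) := by
      refine IsPullback.of_iso hX (Iso.refl _) (Iso.refl _) (Iso.refl _)
        (asIso e₀).symm ?_ ?_ ?_ ?_
      · simp
      · simp
      · simp
      · simpa using hcone0.symm
    obtain ⟨κ, hκ1, hκ2⟩ := exists_stage_injFlatAt (bcDiagram D i₀ g₀) (bcCone c hY)
      (isLimitBcCone c hY hc) j₀ (f₀ ≫ inv e₀) h₀ qX f hX' x hinj hfl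
    have hmap : (bcDiagram D i₀ g₀).map κ.hom ≫ e₀ = pullback.fst g₀ (D.map κ.left.hom) := by
      rw [he₀]
      exact bcDiagram_map_fst D i₀ g₀ κ.hom
    refine ⟨κ.left.left, κ.left.hom, pullback (f₀ ≫ inv e₀) ((bcDiagram D i₀ g₀).map κ.hom),
      pullback g₀ (D.map κ.left.hom), pullback.snd _ _, pullback.snd g₀ (D.map κ.left.hom),
      pullback.fst g₀ (D.map κ.left.hom), pullback.fst _ _, (bcCone c hY).π.app κ.left,
      (bcCone (bcCone c hY) hX').π.app κ, IsPullback.of_hasPullback _ _, ?_,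
      bcCone_π_fst c hY κ.left, bcCone_π_snd c hY κ.left,
      bcCone_π_fst (bcCone c hY) hX' κ, bcCone_π_snd (bcCone c hY) hX' κ, hκ1, hκ2⟩
    refine IsPullback.of_iso (IsPullback.of_hasPullback
      (f₀ ≫ inv e₀) ((bcDiagram D i₀ g₀).map κ.hom))
      (Iso.refl _) (Iso.refl _) (Iso.refl _) (asIso e₀) ?_ ?_ ?_ ?_
    · simp
    · simp
    · simp
    · simpa using hmap
  · rintro ⟨i, φ, Xi, Yi, fi, gi, pY, pX, vY, vX, hYi, hXi, hv1, hv2, hw1, hw2, hinji, hfli⟩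
    have hsq : IsPullback vX f fi vY := by
      refine IsPullback.of_right ?_ hw2 hXi
      rw [hw1, hv1]
      exact hX
    haveI : LocallyOfFinitePresentation fi :=
      MorphismProperty.of_isPullback (P := @LocallyOfFinitePresentation) hXi inferInstance
    haveI : SheafOfModules.IsFinitePresentation (R := Xi.ringCatSheaf)
        ((Scheme.Modules.pullback pX).obj F₀) := FpqcH8.isFP_pullback pX F₀
    haveI : SheafOfModules.IsFinitePresentation (R := Xi.ringCatSheaf)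
        ((Scheme.Modules.pullback pX).obj G₀) := FpqcH8.isFP_pullback pX G₀
    obtain ⟨h1, h2⟩ := injFlat_pullback hsq ((Scheme.Modules.pullback pX).map h₀) x hinji hfli
    exact ⟨(stk_pb_injective_iff vX pX qX hw1 h₀ x).mp h1,
      DescH8.isFlatOverAt_of_iso f (cokerPbIso vX pX qX hw1 h₀) x h2⟩

end Groth.Agent.Lib.LimMod
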