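import Mathlib

/-!
# The underlying space of a cofiltered limit of schemes with affine transition maps

`Groth.Agent.LimTop.nonempty_isLimit_forgetToTop`: for a cofiltered diagram of schemes with affine
transition maps, the underlying space of the limit is the limit of the underlying spaces.
-/

namespace Groth.Agent.LimTop

open CategoryTheory Limits AlgebraicGeometry Topology

universe u

/-- A pure topology criterion: if every open set of `X` is a union of preimages of opens under
the maps `f i`, then the infimum of the induced topologies is finer than the topology of `X`. -/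
theorem iInf_induced_le_of_nhds {X : Type*} {ι : Type*} {Y : ι → Type*} (tX : TopologicalSpace X)
    (tY : ∀ i, TopologicalSpace (Y i)) (f : ∀ i, X → Y i)
    (h : ∀ (U : Set X), IsOpen[tX] U → ∀ a ∈ U, ∃ i, ∃ V : Set (Y i),
      IsOpen[tY i] V ∧ a ∈ f i ⁻¹' V ∧ f i ⁻¹' V ⊆ U) :
    (⨅ i, @TopologicalSpace.induced _ _ (f i) (tY i)) ≤ tX := by
  intro U hU
  have hU' : U = ⋃₀ {W : Set X | W ⊆ U ∧ ∃ i, ∃ V : Set (Y i),
      IsOpen[tY i] V ∧ W = f i ⁻¹' V} := by
    ext a
    constructor
    · intro ha
      obtain ⟨i, V, hV, haV, hVU⟩ := h U hU a ha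
      exact ⟨_, ⟨hVU, i, V, hV, rfl⟩, haV⟩
    · rintro ⟨W, ⟨hWU, -⟩, haW⟩
      exact hWU haW
  rw [hU']
  refine @isOpen_sUnion _ (⨅ i, @TopologicalSpace.induced _ _ (f i) (tY i)) _ ?_
  rintro W ⟨-, i, V, hV, rfl⟩
  exact (iInf_le (fun i => @TopologicalSpace.induced _ _ (f i) (tY i)) i) _ ⟨V, hV, rfl⟩

variable {I : Type u} [SmallCategory I] [IsCofiltered I] (D : I ⥤ Scheme.{u})
    [∀ (i j : I) (f : i ⟶ j), IsAffineHom (D.map f)] (c : Limits.Cone D) (hc : Limits.IsLimit c)

omit [∀ (i j : I) (f : i ⟶ j), IsAffineHom (D.map f)] in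
include hc in
/-- Every compatible family of points comes from a point of the limit. -/
theorem exists_point (x : ∀ i, D.obj i)
    (hx : ∀ {i j : I} (f : i ⟶ j), (D.map f) (x i) = x j) :
    ∃ s : c.pt, ∀ i, c.π.app i s = x i := by
  let D' : I ⥤ Scheme.{u} :=
  { obj i := Spec ((D.obj i).residueField (x i))
    map {i j} f := Spec.map ((D.map f).residueFieldMap (x i)) ≫
      Spec.map ((D.obj j).residueFieldCongr (hx f).symm).hom
    map_id i := by
      rw [← cancel_mono ((D.obj i).fromSpecResidueField (x i))]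
      simp
    map_comp {i j k} f g := by
      rw [← cancel_mono ((D.obj k).fromSpecResidueField (x k))]
      simp }
  let ι : D' ⟶ D :=
  { app i := (D.obj i).fromSpecResidueField (x i)
    naturality {i j} f := by simp [D'] }
  have hAff (i : I) : IsAffine (D'.obj i) := inferInstanceAs (IsAffine (Spec _))
  have hAffHom {i j : I} (f : i ⟶ j) : IsAffineHom (D'.map f) := inferInstance
  have hNe (i : I) : Nonempty (D'.obj i) :=
    inferInstanceAs (Nonempty (Spec ((D.obj i).residueField (x i))))
  have hCpt (i : I) : CompactSpace (D'.obj i) := inferInstance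
  let e : D' ⟶ (D' ⋙ Scheme.Γ.rightOp) ⋙ Scheme.Spec :=
    Functor.whiskerLeft D' ΓSpec.adjunction.unit
  have (i : _) : IsIso (e.app i) := IsAffine.affine
  have : IsIso e := NatIso.isIso_of_isIso_app e
  let c' : LimitCone D' := ⟨_, (IsLimit.postcomposeInvEquiv (asIso e) _).symm
    (isLimitOfPreserves Scheme.Spec (limit.isLimit (D' ⋙ Scheme.Γ.rightOp)))⟩
  obtain ⟨s'⟩ : Nonempty c'.1.pt := Scheme.nonempty_of_isLimit D' c'.1 c'.2
  refine ⟨(hc.lift ((Cone.postcompose ι).obj c'.1)) s', fun i => ?_⟩
  rw [← Scheme.Hom.comp_apply, hc.fac]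
  exact Scheme.fromSpecResidueField_apply (x i) (c'.1.π.app i s')

include hc in
/-- Points of the limit are determined by their images. -/
theorem point_ext (s t : c.pt) (h : ∀ i, c.π.app i s = c.π.app i t) : s = t := by
  have hbasis := isBasis_preimage_isAffineOpen D c hc
  refine (inseparable_iff_forall_isOpen.mpr fun U hU => ?_).eq
  have key : ∀ a b : c.pt, (∀ i, c.π.app i a = c.π.app i b) → a ∈ U → b ∈ U := by
    intro a b hab ha
    obtain ⟨_, ⟨i, V, hV, rfl⟩, haV, hVU⟩ :=
      TopologicalSpace.Opens.isBasis_iff_nbhd.mp hbasis (U := ⟨U, hU⟩) ha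
    refine hVU ?_
    change c.π.app i b ∈ V
    rw [← hab i]
    exact haV
  exact ⟨key s t h, key t s (fun i => (h i).symm)⟩

include hc in
/-- The underlying space of the limit is the limit of the underlying spaces. -/
theorem nonempty_isLimit_forgetToTop :
    Nonempty (IsLimit (Scheme.forgetToTop.mapCone c)) := by
  have hbasis := isBasis_preimage_isAffineOpen D c hc
  have hT : Nonempty (IsLimit ((forget TopCat).mapCone (Scheme.forgetToTop.mapCone c))) := by
    refine (Types.isLimit_iff _).mpr fun s hs => ?_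
    obtain ⟨p, hp⟩ := exists_point D c hc (fun i => s i) (fun {i j} f => hs f)
    refine ⟨p, hp, fun q hq => point_ext D c hc q p fun i => ?_⟩
    exact (hq i).trans (hp i).symm
  obtain ⟨hT⟩ := hT
  rw [TopCat.nonempty_isLimit_iff_eq_induced _ hT]
  refine le_antisymm (le_iInf fun i => ?_) ?_
  · exact continuous_iff_le_induced.mp (c.π.app i).continuous
  · refine iInf_induced_le_of_nhds _ _ _ fun U hU a ha => ?_
    obtain ⟨_, ⟨i, V, hV, rfl⟩, haV, hVU⟩ :=
      TopologicalSpace.Opens.isBasis_iff_nbhd.mp hbasis (U := ⟨U, hU⟩) ha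
    exact ⟨i, V.1, V.2, haV, hVU⟩

end Groth.Agent.LimTop
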