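import Mathlib
import Groth.Agent.Lib.LimTop_helper5

/-!
# Maximal points of cofiltered limits of schemes with affine transition maps (helper5)
S5106, S5110. APPEND-ONLY once landed.
-/

namespace Groth.Agent.LimMaxPt

open CategoryTheory Limits AlgebraicGeometry Topology

universe u

/-- A maximal point: a point without proper generizations. -/
def IsMax {T : Type*} [TopologicalSpace T] (η : T) : Prop := ∀ y : T, y ⤳ η → y = η

lemma exists_isMax_specializes {T : Type*} [TopologicalSpace T] [T0Space T] [QuasiSober T]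
    (x : T) : ∃ z : T, z ⤳ x ∧ IsMax z := by
  have hirr : IsIrreducible (irreducibleComponent x) := isIrreducible_irreducibleComponent
  have hcl : IsClosed (irreducibleComponent x) := isClosed_irreducibleComponent
  obtain ⟨z, hz⟩ := QuasiSober.sober hirr hcl
  have hz' : closure {z} = irreducibleComponent x := hz
  refine ⟨z, ?_, ?_⟩
  · rw [specializes_iff_mem_closure, hz']
    exact mem_irreducibleComponent
  · intro y hy
    have h1 : closure {z} ⊆ closure {y} := specializes_iff_closure_subset.mp hy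
    have hmem : closure {z} ∈ irreducibleComponents T :=
      hz'.symm ▸ irreducibleComponent_mem_irreducibleComponents x
    have h2 : closure {y} ⊆ closure {z} :=
      Maximal.le_of_ge hmem isIrreducible_singleton.closure h1
    exact (hy.antisymm (specializes_iff_closure_subset.mpr h2)).eq

lemma dense_of_forall_isMax_mem {T : Type*} [TopologicalSpace T] [T0Space T] [QuasiSober T]
    {V : Set T} (h : ∀ z, IsMax z → z ∈ V) : Dense V := by
  intro x
  obtain ⟨z, hzx, hz⟩ := exists_isMax_specializes x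
  have : x ∈ closure ({z} : Set T) := specializes_iff_mem_closure.mp hzx
  exact closure_mono (Set.singleton_subset_iff.mpr (h z hz)) this

lemma isMax_mem_of_dense {T : Type*} [TopologicalSpace T] [T0Space T] [QuasiSober T]
    {V : Set T} (hV : IsOpen V) (hd : Dense V) (hfin : {z : T | IsMax z}.Finite) {z : T}
    (hz : IsMax z) : z ∈ V := by
  classical
  have hFfin : {w : T | IsMax w ∧ w ≠ z}.Finite := hfin.subset fun w hw => hw.1
  have hC : IsClosed (⋃ w ∈ {w : T | IsMax w ∧ w ≠ z}, closure ({w} : Set T)) :=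
    hFfin.isClosed_biUnion fun w _ => isClosed_closure
  have hzC : z ∈ (⋃ w ∈ {w : T | IsMax w ∧ w ≠ z}, closure ({w} : Set T))ᶜ := by
    intro hmem
    simp only [Set.mem_iUnion] at hmem
    obtain ⟨w, hw, hzw⟩ := hmem
    exact hw.2 (hz w (specializes_iff_mem_closure.mpr hzw))
  obtain ⟨y, hyC, hyV⟩ := hd.inter_open_nonempty _ hC.isOpen_compl ⟨z, hzC⟩
  obtain ⟨w, hwy, hw⟩ := exists_isMax_specializes y
  have hwz : w = z := by
    by_contra hne
    apply hyC
    simp only [Set.mem_iUnion]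
    exact ⟨w, ⟨hw, hne⟩, specializes_iff_mem_closure.mp hwy⟩
  subst hwz
  exact hwy.mem_open hV hyV

variable {I : Type u} [SmallCategory I] [IsCofiltered I] (D : I ⥤ Scheme.{u})
    [∀ (i j : I) (f : i ⟶ j), IsAffineHom (D.map f)] (c : Limits.Cone D) (hc : Limits.IsLimit c)

include hc in
theorem specializes_iff (z s : c.pt) : z ⤳ s ↔ ∀ i, c.π.app i z ⤳ c.π.app i s := by
  constructor
  · intro h i
    exact h.map (c.π.app i).continuous
  · intro h
    have hbasis := isBasis_preimage_isAffineOpen D c hc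
    rw [specializes_iff_forall_open]
    intro U hU hsU
    obtain ⟨_, ⟨i, V, hV, rfl⟩, hsV, hVU⟩ :=
      TopologicalSpace.Opens.isBasis_iff_nbhd.mp hbasis (U := ⟨U, hU⟩) hsU
    exact hVU ((h i).mem_open V.2 hsV)

include hc in
theorem isMax_of_forall (s : c.pt) (h : ∀ i, IsMax (c.π.app i s)) : IsMax s := by
  intro z hz
  refine Groth.Agent.LimTop.point_ext D c hc z s fun i => ?_
  exact h i _ ((specializes_iff D c hc z s).mp hz i)

include hc in
theorem exists_isMax_of_system (hfin : ∀ i, {s : D.obj i | IsMax s}.Finite)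
    (B : ∀ i, Set (D.obj i)) (hB : ∀ i, B i ⊆ {s | IsMax s}) (hBne : ∀ i, (B i).Nonempty)
    (hBmap : ∀ (i j : I) (g : i ⟶ j) (s : D.obj i), s ∈ B i → D.map g s ∈ B j) :
    ∃ z : c.pt, IsMax z ∧ ∀ i, c.π.app i z ∈ B i := by
  let Fm : I ⥤ Type u :=
  { obj := fun i => B i
    map := fun {i j} g => TypeCat.ofHom (fun z => ⟨D.map g z.1, hBmap i j g z.1 z.2⟩)
    map_id := fun i => by
      ext z
      simp
    map_comp := fun f g => by
      ext z
      simp }
  haveI : ∀ i, Finite (Fm.obj i) := fun i => ((hfin i).subset (hB i)).to_subtype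
  haveI : ∀ i, Nonempty (Fm.obj i) := fun i => (hBne i).to_subtype
  obtain ⟨u, hu⟩ := nonempty_sections_of_finite_cofiltered_system Fm
  obtain ⟨z, hz⟩ := Groth.Agent.LimTop.exists_point D c hc (fun i => (u i).1)
    (fun {i j} g => congrArg Subtype.val (hu g))
  refine ⟨z, isMax_of_forall D c hc z fun i => ?_, fun i => ?_⟩
  · rw [hz i]
    exact hB i (u i).2
  · rw [hz i]
    exact (u i).2

include hc in
theorem isMax_iff (hfin : ∀ i, {s : D.obj i | IsMax s}.Finite)
    (hsys : ∀ (i j : I) (g : i ⟶ j) (s : D.obj i), IsMax s → IsMax (D.map g s))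
    (s : c.pt) : IsMax s ↔ ∀ i, IsMax (c.π.app i s) := by
  refine ⟨fun hs => ?_, isMax_of_forall D c hc s⟩
  obtain ⟨z, hz, hzB⟩ := exists_isMax_of_system D c hc hfin
    (fun i => {z | IsMax z ∧ z ⤳ c.π.app i s}) (fun i z hz => hz.1)
    (fun i => by
      obtain ⟨z, hz1, hz2⟩ := exists_isMax_specializes (c.π.app i s)
      exact ⟨z, hz2, hz1⟩)
    (fun i j g z hz => by
      refine ⟨hsys i j g z hz.1, ?_⟩
      have := hz.2.map (D.map g).continuous
      rwa [← Scheme.Hom.comp_apply, c.w] at this)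
  have hzs : z = s := hs z ((specializes_iff D c hc z s).mpr fun i => (hzB i).2)
  subst hzs
  exact fun i => (hzB i).1

include hc in
theorem dense_part1 (hfin : ∀ i, {s : D.obj i | IsMax s}.Finite)
    (hsys : ∀ (i j : I) (g : i ⟶ j) (s : D.obj i), IsMax s → IsMax (D.map g s))
    (i₀ : I) (V₀ : (D.obj i₀).Opens) (hd : Dense (V₀ : Set (D.obj i₀))) :
    (∀ (i : I) (g : i ⟶ i₀), Dense (((D.map g) ⁻¹ᵁ V₀ : (D.obj i).Opens) : Set (D.obj i))) ∧
      Dense (((c.π.app i₀) ⁻¹ᵁ V₀ : c.pt.Opens) : Set c.pt) := by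
  have hmem : ∀ z : D.obj i₀, IsMax z → z ∈ (V₀ : Set (D.obj i₀)) := fun z hz =>
    isMax_mem_of_dense V₀.2 hd (hfin i₀) hz
  refine ⟨fun i g => dense_of_forall_isMax_mem fun z hz => ?_,
    dense_of_forall_isMax_mem fun z hz => ?_⟩
  · exact hmem _ (hsys i i₀ g z hz)
  · exact hmem _ ((isMax_iff D c hc hfin hsys z).mp hz i₀)

include hc in
theorem dense_part2 (hfin : ∀ i, {s : D.obj i | IsMax s}.Finite)
    (hsys : ∀ (i j : I) (g : i ⟶ j) (s : D.obj i), IsMax s → IsMax (D.map g s))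
    (i₀ : I) (V₀ : (D.obj i₀).Opens)
    (hd : Dense (((c.π.app i₀) ⁻¹ᵁ V₀ : c.pt.Opens) : Set c.pt))
    (hfinS : {s : c.pt | IsMax s}.Finite) :
    ∃ (i : I) (g : i ⟶ i₀), Dense (((D.map g) ⁻¹ᵁ V₀ : (D.obj i).Opens) : Set (D.obj i)) := by
  by_contra hcon
  push Not at hcon
  -- the diagram over `i₀`
  let D' : Over i₀ ⥤ Scheme.{u} := Over.forget i₀ ⋙ D
  let c' : Cone D' := c.whisker (Over.forget i₀)
  have hc' : IsLimit c' := (Functor.Initial.isLimitWhiskerEquiv (Over.forget i₀) c).symm hc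
  haveI : ∀ (a b : Over i₀) (f : a ⟶ b), IsAffineHom (D'.map f) := fun a b f => by
    dsimp [D']; infer_instance
  have hne : ∀ a : Over i₀,
      ({z : D.obj a.left | IsMax z ∧ z ∉ ((D.map a.hom) ⁻¹ᵁ V₀ : (D.obj a.left).Opens)}).Nonempty := by
    intro a
    by_contra hem
    rw [Set.not_nonempty_iff_eq_empty] at hem
    refine hcon a.left a.hom (dense_of_forall_isMax_mem fun z hz => ?_)
    by_contra hzV
    have : z ∈ ({z : D.obj a.left | IsMax z ∧
        z ∉ ((D.map a.hom) ⁻¹ᵁ V₀ : (D.obj a.left).Opens)} : Set _) := ⟨hz, hzV⟩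
    rw [hem] at this
    exact this
  obtain ⟨z, hz, hzB⟩ := exists_isMax_of_system D' c' hc' (fun a => hfin a.left)
    (fun a => {z : D.obj a.left | IsMax z ∧ z ∉ ((D.map a.hom) ⁻¹ᵁ V₀ : (D.obj a.left).Opens)})
    (fun a z hz => hz.1) hne
    (fun a b f z hz => by
      refine ⟨hsys _ _ f.left z hz.1, fun hmem => hz.2 ?_⟩
      change (D.map b.hom) ((D.map f.left) z) ∈ V₀ at hmem
      change (D.map a.hom) z ∈ V₀
      rwa [← Scheme.Hom.comp_apply, ← D.map_comp, Over.w f] at hmem)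
  have h1 := (hzB (Over.mk (𝟙 i₀))).2
  have h2 : z ∈ (((c.π.app i₀) ⁻¹ᵁ V₀ : c.pt.Opens) : Set c.pt) :=
    isMax_mem_of_dense ((c.π.app i₀) ⁻¹ᵁ V₀).2 hd hfinS hz
  apply h1
  change (D.map (𝟙 i₀)) (c.π.app i₀ z) ∈ V₀
  rw [D.map_id]
  exact h2

end Groth.Agent.LimMaxPt
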