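import Mathlib
import Groth.Prelude

/-!
# Modules over a filtered colimit of rings, elementwise (helper2)

A filtered system of `R₀`-algebras `(R j)` indexed by a cofiltered category, with transition maps
`tr f : R j → R k` for `f : k ⟶ j`, and an `R₀`-algebra `Rinf` with compatible maps `sg j`, such
that every element of `Rinf` comes from a stage and an element of a stage dying in `Rinf` dies at a
later stage.  We prove that tensor products commute with this colimit, elementwise:
* `exists_trT_eq_zero`: an element of `R j ⊗ N` dying in `Rinf ⊗ N` dies at a later stage;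
* `exists_sgT_eq`: every element of `Rinf ⊗ P` comes from a stage.
APPEND-ONLY once landed.
-/

set_option autoImplicit false
set_option maxHeartbeats 1000000
set_option linter.style.haveILetI false
set_option linter.unusedSectionVars false
set_option linter.unusedVariables false
universe u

open CategoryTheory TensorProduct

namespace Groth.Agent.Lib.LimMod

section Alg

variable {J : Type u} [SmallCategory J] {R₀ : Type u} [CommRing R₀]
  (R : J → Type u) [∀ j, CommRing (R j)] [∀ j, Algebra R₀ (R j)]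
  (tr : ∀ {k j : J}, (k ⟶ j) → (R j →ₐ[R₀] R k))
  (Rinf : Type u) [CommRing Rinf] [Algebra R₀ Rinf] (sg : ∀ j, R j →ₐ[R₀] Rinf)

/-- The elementwise colimit axioms. -/
structure IsColimSys : Prop where
  tr_comp : ∀ {l k j : J} (g : l ⟶ k) (f : k ⟶ j) (t : R j), tr (g ≫ f) t = tr g (tr f t)
  sg_tr : ∀ {k j : J} (f : k ⟶ j) (t : R j), sg k (tr f t) = sg j t
  surj : ∀ r : Rinf, ∃ (j : J) (t : R j), sg j t = r
  ker : ∀ (j : J) (t : R j), sg j t = 0 → ∃ (k : J) (f : k ⟶ j), tr f t = 0

variable {R tr Rinf sg}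

/-- Transition maps on tensor products. -/
noncomputable abbrev trT (tr : ∀ {k j : J}, (k ⟶ j) → (R j →ₐ[R₀] R k)) (P : Type u)
    [AddCommGroup P] [Module R₀ P] {k j : J} (f : k ⟶ j) : R j ⊗[R₀] P →ₗ[R₀] R k ⊗[R₀] P :=
  (tr f).toLinearMap.rTensor P

/-- Maps to the colimit on tensor products. -/
noncomputable abbrev sgT (sg : ∀ j, R j →ₐ[R₀] Rinf) (P : Type u)
    [AddCommGroup P] [Module R₀ P] (j : J) : R j ⊗[R₀] P →ₗ[R₀] Rinf ⊗[R₀] P :=
  (sg j).toLinearMap.rTensor P

variable (h : IsColimSys R tr Rinf sg)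
include h

theorem trT_comp (P : Type u) [AddCommGroup P] [Module R₀ P] {l k j : J} (g : l ⟶ k) (f : k ⟶ j)
    (x : R j ⊗[R₀] P) : trT tr P (g ≫ f) x = trT tr P g (trT tr P f x) := by
  induction x with
  | zero => simp
  | tmul r p =>
    simp only [trT, LinearMap.rTensor_tmul, AlgHom.toLinearMap_apply]
    rw [h.tr_comp]
  | add x y hx hy => rw [map_add, map_add, map_add, hx, hy]

theorem sgT_trT (P : Type u) [AddCommGroup P] [Module R₀ P] {k j : J} (f : k ⟶ j)
    (x : R j ⊗[R₀] P) : sgT sg P k (trT tr P f x) = sgT sg P j x := by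
  induction x with
  | zero => simp
  | tmul r p =>
    simp only [trT, sgT, LinearMap.rTensor_tmul, AlgHom.toLinearMap_apply]
    rw [h.sg_tr]
  | add x y hx hy => rw [map_add, map_add, map_add, hx, hy]

omit h in
theorem trT_lTensor {P Q : Type u} [AddCommGroup P] [Module R₀ P] [AddCommGroup Q] [Module R₀ Q]
    (u : P →ₗ[R₀] Q) {k j : J} (f : k ⟶ j) (x : R j ⊗[R₀] P) :
    trT tr Q f (u.lTensor (R j) x) = u.lTensor (R k) (trT tr P f x) := by
  induction x with
  | zero => simp
  | tmul r p => simp [trT]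
  | add x y hx hy => rw [map_add, map_add, map_add, map_add, hx, hy]

omit h in
theorem sgT_lTensor {P Q : Type u} [AddCommGroup P] [Module R₀ P] [AddCommGroup Q] [Module R₀ Q]
    (u : P →ₗ[R₀] Q) (j : J) (x : R j ⊗[R₀] P) :
    sgT sg Q j (u.lTensor (R j) x) = u.lTensor Rinf (sgT sg P j x) := by
  induction x with
  | zero => simp
  | tmul r p => simp [sgT]
  | add x y hx hy => rw [map_add, map_add, map_add, map_add, hx, hy]

omit h in
/-- Right exactness of the tensor product, for the kernel of a surjection. -/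
theorem exact_lTensor_ker {P N : Type u} [AddCommGroup P] [Module R₀ P] [AddCommGroup N]
    [Module R₀ N] (A : Type u) [AddCommGroup A] [Module R₀ A] (π : P →ₗ[R₀] N)
    (hπs : Function.Surjective π) :
    Function.Exact ((LinearMap.ker π).subtype.lTensor A) (π.lTensor A) :=
  @lTensor_exact R₀ (LinearMap.ker π) P N _ _ _ _ _ _ _ (LinearMap.ker π).subtype π A _ _
    (LinearMap.exact_subtype_ker_map π) hπs

variable [IsCofiltered J]

/-- Finitely many elements of a stage dying in the colimit die at a common later stage. -/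
theorem exists_kill_finset (j : J) (s : Finset (R j)) (hs : ∀ t ∈ s, sg j t = 0) :
    ∃ (k : J) (f : k ⟶ j), ∀ t ∈ s, tr f t = 0 := by
  classical
  induction s using Finset.induction_on with
  | empty => exact ⟨j, 𝟙 j, fun t ht => absurd ht (Finset.notMem_empty t)⟩
  | insert a s ha ih =>
    obtain ⟨k₁, f₁, hk₁⟩ := ih (fun t ht => hs t (Finset.mem_insert_of_mem ht))
    have h1 : sg k₁ (tr f₁ a) = 0 := by
      rw [h.sg_tr]
      exact hs a (Finset.mem_insert_self a s)
    obtain ⟨k₂, f₂, hk₂⟩ := h.ker k₁ _ h1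
    refine ⟨k₂, f₂ ≫ f₁, fun t ht => ?_⟩
    rw [h.tr_comp]
    rcases Finset.mem_insert.mp ht with rfl | ht'
    · exact hk₂
    · rw [hk₁ t ht', map_zero]

/-- Every element of `Rinf ⊗ P` comes from a stage. -/
theorem exists_sgT_eq (P : Type u) [AddCommGroup P] [Module R₀ P] (w : Rinf ⊗[R₀] P) :
    ∃ (j : J) (w' : R j ⊗[R₀] P), sgT sg P j w' = w := by
  induction w with
  | zero => exact ⟨(IsCofiltered.nonempty (C := J)).some, 0, map_zero _⟩
  | tmul r p =>
    obtain ⟨j, t, rfl⟩ := h.surj r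
    exact ⟨j, t ⊗ₜ p, by simp [sgT]⟩
  | add x y hx hy =>
    obtain ⟨j₁, x', rfl⟩ := hx
    obtain ⟨j₂, y', rfl⟩ := hy
    refine ⟨IsCofiltered.min j₁ j₂, trT tr P (IsCofiltered.minToLeft j₁ j₂) x' +
      trT tr P (IsCofiltered.minToRight j₁ j₂) y', ?_⟩
    rw [map_add, sgT_trT h, sgT_trT h]

/-- Every element of `Rinf ⊗ P` comes from a stage below a given one. -/
theorem exists_sgT_eq_below (P : Type u) [AddCommGroup P] [Module R₀ P] (j₀ : J)
    (w : Rinf ⊗[R₀] P) :
    ∃ (j : J) (_ : j ⟶ j₀) (w' : R j ⊗[R₀] P), sgT sg P j w' = w := by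
  obtain ⟨j₁, w', rfl⟩ := exists_sgT_eq h P w
  exact ⟨IsCofiltered.min j₁ j₀, IsCofiltered.minToRight j₁ j₀,
    trT tr P (IsCofiltered.minToLeft j₁ j₀) w', sgT_trT h P _ _⟩

/-- The free case of `exists_trT_eq_zero`. -/
theorem exists_trT_eq_zero_finsupp (ι : Type u) (j : J) (y : R j ⊗[R₀] (ι →₀ R₀))
    (hy : sgT sg (ι →₀ R₀) j y = 0) : ∃ (k : J) (f : k ⟶ j), trT tr (ι →₀ R₀) f y = 0 := by
  classical
  have key : ∀ {A B : Type u} [CommRing A] [CommRing B] [Algebra R₀ A] [Algebra R₀ B]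
      (g : A →ₐ[R₀] B) (y : A ⊗[R₀] (ι →₀ R₀)) (i : ι),
      (finsuppScalarRight R₀ R₀ B ι (g.toLinearMap.rTensor (ι →₀ R₀) y)) i =
        g ((finsuppScalarRight R₀ R₀ A ι y) i) := by
    intro A B _ _ _ _ g y i
    induction y with
    | zero => simp
    | tmul a p =>
      rw [LinearMap.rTensor_tmul, finsuppScalarRight_apply_tmul_apply,
        finsuppScalarRight_apply_tmul_apply, AlgHom.toLinearMap_apply, map_smul]
    | add x y hx hy =>
      rw [map_add, map_add, Finsupp.add_apply, hx, hy, map_add, Finsupp.add_apply, map_add]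
  set e := finsuppScalarRight R₀ R₀ (R j) ι y with he
  have h1 : ∀ t ∈ e.support.image (fun i => e i), sg j t = 0 := by
    intro t ht
    obtain ⟨i, -, rfl⟩ := Finset.mem_image.mp ht
    rw [he, ← key (sg j) y i]
    change (finsuppScalarRight R₀ R₀ Rinf ι (sgT sg (ι →₀ R₀) j y)) i = 0
    rw [hy, map_zero]
    rfl
  obtain ⟨k, f, hk⟩ := exists_kill_finset h j _ h1
  refine ⟨k, f, ?_⟩
  apply (finsuppScalarRight R₀ R₀ (R k) ι).injective
  rw [map_zero]
  ext i
  change (finsuppScalarRight R₀ R₀ (R k) ι ((tr f).toLinearMap.rTensor (ι →₀ R₀) y)) i = 0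
  rw [key (tr f) y i]
  by_cases hi : i ∈ e.support
  · exact hk _ (Finset.mem_image.mpr ⟨i, hi, rfl⟩)
  · have : e i = 0 := Finsupp.notMem_support_iff.mp hi
    rw [← he, this, map_zero]

/-- Reduction of the injectivity statement along a surjection. -/
theorem exists_trT_eq_zero_of_surjective {P N : Type u} [AddCommGroup P] [Module R₀ P]
    [AddCommGroup N] [Module R₀ N] (π : P →ₗ[R₀] N) (hπs : Function.Surjective π)
    (hP : ∀ (j : J) (y : R j ⊗[R₀] P), sgT sg P j y = 0 → ∃ (k : J) (f : k ⟶ j), trT tr P f y = 0)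
    (j : J) (z : R j ⊗[R₀] N) (hz : sgT sg N j z = 0) : ∃ (k : J) (f : k ⟶ j), trT tr N f z = 0 := by
  obtain ⟨z', rfl⟩ := LinearMap.lTensor_surjective (R j) hπs z
  have e0 : sgT sg N j (π.lTensor (R j) z') = π.lTensor Rinf (sgT sg P j z') :=
    sgT_lTensor π j z'
  have h1 : π.lTensor Rinf (sgT sg P j z') = 0 := by
    rw [← e0, hz]
  obtain ⟨w, hw⟩ := (exact_lTensor_ker Rinf π hπs _).mp h1
  obtain ⟨j₁, g₁, w', rfl⟩ := exists_sgT_eq_below h (LinearMap.ker π) j w
  have e1 : sgT sg P j₁ ((LinearMap.ker π).subtype.lTensor (R j₁) w') =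
      (LinearMap.ker π).subtype.lTensor Rinf (sgT sg _ j₁ w') :=
    sgT_lTensor (LinearMap.ker π).subtype j₁ w'
  have h2 : sgT sg P j₁ (trT tr P g₁ z' -
      (LinearMap.ker π).subtype.lTensor (R j₁) w') = 0 := by
    rw [map_sub, sgT_trT h, e1, hw, sub_self]
  obtain ⟨k, f, hk⟩ := hP j₁ _ h2
  refine ⟨k, f ≫ g₁, ?_⟩
  rw [map_sub, sub_eq_zero] at hk
  have e2 : trT tr N (f ≫ g₁) (π.lTensor (R j) z') =
      π.lTensor (R k) (trT tr _ (f ≫ g₁) z') :=
    trT_lTensor π (f ≫ g₁) z'
  have e3 : trT tr P f ((LinearMap.ker π).subtype.lTensor (R j₁) w') =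
      (LinearMap.ker π).subtype.lTensor (R k) (trT tr _ f w') :=
    trT_lTensor (LinearMap.ker π).subtype f w'
  rw [e2, trT_comp h, hk, e3]
  exact (exact_lTensor_ker (R k) π hπs _).mpr ⟨_, rfl⟩

/-- **Tensor products commute with the colimit (injectivity).** An element of `R j ⊗ N` which dies
in `Rinf ⊗ N` dies at a later stage. -/
theorem exists_trT_eq_zero (N : Type u) [AddCommGroup N] [Module R₀ N] (j : J)
    (z : R j ⊗[R₀] N) (hz : sgT sg N j z = 0) : ∃ (k : J) (f : k ⟶ j), trT tr N f z = 0 :=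
  exists_trT_eq_zero_of_surjective h (Finsupp.linearCombination R₀ id)
    (Finsupp.linearCombination_id_surjective R₀ N)
    (fun j y hy => exists_trT_eq_zero_finsupp h N j y hy) j z hz

/-- Finite family version of `exists_trT_eq_zero`. -/
theorem exists_trT_eq_zero_finset (N : Type u) [AddCommGroup N] [Module R₀ N] (j : J)
    (s : Finset (R j ⊗[R₀] N)) (hs : ∀ z ∈ s, sgT sg N j z = 0) :
    ∃ (k : J) (f : k ⟶ j), ∀ z ∈ s, trT tr N f z = 0 := by
  classical
  induction s using Finset.induction_on with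
  | empty => exact ⟨j, 𝟙 j, fun t ht => absurd ht (Finset.notMem_empty t)⟩
  | insert a s ha ih =>
    obtain ⟨k₁, f₁, hk₁⟩ := ih (fun t ht => hs t (Finset.mem_insert_of_mem ht))
    have h1 : sgT sg N k₁ (trT tr N f₁ a) = 0 := by
      rw [sgT_trT h]
      exact hs a (Finset.mem_insert_self a s)
    obtain ⟨k₂, f₂, hk₂⟩ := exists_trT_eq_zero h N k₁ _ h1
    refine ⟨k₂, f₂ ≫ f₁, fun t ht => ?_⟩
    rw [trT_comp h]
    rcases Finset.mem_insert.mp ht with rfl | ht'
    · exact hk₂
    · rw [hk₁ t ht', map_zero]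

end Alg

end Groth.Agent.Lib.LimMod
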