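import Mathlib
import Groth.Prelude

/-!
# Charts of a cofiltered limit of schemes with affine transition maps (helper2)

For an affine open `U₀` of a stage `D.obj i₀`, the rings of sections over the preimages of `U₀` in
the later stages form a filtered system whose colimit is the ring of sections over the preimage in
the limit.  We record this elementwise, in `appLE` form.
APPEND-ONLY once landed.
-/

set_option autoImplicit false
set_option maxHeartbeats 1000000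
set_option linter.style.haveILetI false
universe u

open CategoryTheory CategoryTheory.Limits AlgebraicGeometry TopologicalSpace Opposite

namespace Groth.Agent.Lib.LimMod

section Chart

variable {I : Type u} [SmallCategory I] (D : I ⥤ Scheme.{u}) (c : Cone D)
  (i₀ : I) (U₀ : (D.obj i₀).Opens)

/-- The preimage of `U₀` in the stage `j`. -/
abbrev Uj (j : Over i₀) : (D.obj j.left).Opens := D.map j.hom ⁻¹ᵁ U₀

/-- The preimage of `U₀` in the limit. -/
abbrev Uinf : c.pt.Opens := c.π.app i₀ ⁻¹ᵁ U₀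

theorem Uj_le {k j : Over i₀} (f : k ⟶ j) : Uj D i₀ U₀ k ≤ D.map f.left ⁻¹ᵁ Uj D i₀ U₀ j := by
  rw [← Scheme.Hom.comp_preimage, ← D.map_comp, Over.w f]

theorem Uinf_le (j : Over i₀) : Uinf D c i₀ U₀ ≤ c.π.app j.left ⁻¹ᵁ Uj D i₀ U₀ j := by
  rw [← Scheme.Hom.comp_preimage, c.w]

theorem Uinf_ge (j : Over i₀) : c.π.app j.left ⁻¹ᵁ Uj D i₀ U₀ j ≤ Uinf D c i₀ U₀ := by
  rw [← Scheme.Hom.comp_preimage, c.w]

/-- Transition maps of the rings of sections. -/
noncomputable abbrev tr {k j : Over i₀} (f : k ⟶ j) :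
    Γ(D.obj j.left, Uj D i₀ U₀ j) ⟶ Γ(D.obj k.left, Uj D i₀ U₀ k) :=
  (D.map f.left).appLE _ _ (Uj_le D i₀ U₀ f)

/-- The maps to the ring of sections of the limit. -/
noncomputable abbrev sg (j : Over i₀) :
    Γ(D.obj j.left, Uj D i₀ U₀ j) ⟶ Γ(c.pt, Uinf D c i₀ U₀) :=
  (c.π.app j.left).appLE _ _ (Uinf_le D c i₀ U₀ j)

/-- The structure maps from the base ring. -/
noncomputable abbrev rh (j : Over i₀) :
    Γ(D.obj i₀, U₀) ⟶ Γ(D.obj j.left, Uj D i₀ U₀ j) :=
  (D.map j.hom).appLE _ _ le_rfl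

/-- The structure map from the base ring to the limit ring. -/
noncomputable abbrev rhinf : Γ(D.obj i₀, U₀) ⟶ Γ(c.pt, Uinf D c i₀ U₀) :=
  (c.π.app i₀).appLE _ _ le_rfl

theorem appLE_of_eq {X Y : Scheme.{u}} {f g : X ⟶ Y} (h : f = g) (U : Y.Opens) (V : X.Opens)
    (e : V ≤ f ⁻¹ᵁ U) : f.appLE U V e = g.appLE U V (h ▸ e) := by
  subst h
  rfl

theorem rh_tr {k j : Over i₀} (f : k ⟶ j) :
    rh D i₀ U₀ j ≫ tr D i₀ U₀ f = rh D i₀ U₀ k := by
  rw [Scheme.Hom.appLE_comp_appLE]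
  have h : D.map f.left ≫ D.map j.hom = D.map k.hom := by rw [← D.map_comp, Over.w f]
  exact appLE_of_eq h _ _ _

theorem tr_comp {l k j : Over i₀} (g : l ⟶ k) (f : k ⟶ j) :
    tr D i₀ U₀ (g ≫ f) = tr D i₀ U₀ f ≫ tr D i₀ U₀ g := by
  rw [Scheme.Hom.appLE_comp_appLE]
  have h : D.map (g ≫ f).left = D.map g.left ≫ D.map f.left := by
    rw [← D.map_comp]
    rfl
  exact appLE_of_eq h _ _ _

theorem tr_sg {k j : Over i₀} (f : k ⟶ j) :
    tr D i₀ U₀ f ≫ sg D c i₀ U₀ k = sg D c i₀ U₀ j := by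
  rw [Scheme.Hom.appLE_comp_appLE]
  exact appLE_of_eq (c.w f.left) _ _ _

theorem rh_sg (j : Over i₀) : rh D i₀ U₀ j ≫ sg D c i₀ U₀ j = rhinf D c i₀ U₀ := by
  rw [Scheme.Hom.appLE_comp_appLE]
  exact appLE_of_eq (c.w j.hom) _ _ _

variable [IsCofiltered I] (hc : IsLimit c) [∀ (i j : I) (f : i ⟶ j), IsAffineHom (D.map f)]

include hc in
/-- An element of a stage ring vanishing in the limit ring vanishes at a later stage. -/
theorem exists_tr_eq_zero (hU₀ : IsAffineOpen U₀) (j : Over i₀) (t : Γ(D.obj j.left, Uj D i₀ U₀ j))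
    (ht : sg D c i₀ U₀ j t = 0) : ∃ (k : Over i₀) (f : k ⟶ j), tr D i₀ U₀ f t = 0 := by
  haveI hA' : ∀ {i j : I} (f : i ⟶ j), IsAffineHom (D.map f) := fun f => inferInstance
  have hcpt : IsCompact (X := D.obj j.left) (Uj D i₀ U₀ j) := (hU₀.preimage (D.map j.hom)).isCompact
  have h0 : (c.π.app j.left).app (Uj D i₀ U₀ j) t = 0 := by
    have h1 : (c.π.app j.left).app (Uj D i₀ U₀ j) ≫
        c.pt.presheaf.map (homOfLE (Uinf_le D c i₀ U₀ j)).op = sg D c i₀ U₀ j := rfl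
    have h2 : c.pt.presheaf.map (homOfLE (Uinf_le D c i₀ U₀ j)).op ≫
        c.pt.presheaf.map (homOfLE (Uinf_ge D c i₀ U₀ j)).op = 𝟙 _ := by
      rw [← Functor.map_comp]
      exact c.pt.presheaf.map_id _
    have h5 : (c.π.app j.left).app (Uj D i₀ U₀ j) =
        sg D c i₀ U₀ j ≫ c.pt.presheaf.map (homOfLE (Uinf_ge D c i₀ U₀ j)).op := by
      rw [← h1, Category.assoc, h2]
      exact (Category.comp_id _).symm
    have h3 : (c.π.app j.left).app (Uj D i₀ U₀ j) t =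
        c.pt.presheaf.map (homOfLE (Uinf_ge D c i₀ U₀ j)).op (sg D c i₀ U₀ j t) :=
      congrArg (fun φ => φ.hom t) h5
    rw [h3, ht, map_zero]
  obtain ⟨k', f', hk'⟩ := exists_app_map_eq_zero_of_isLimit D c hc hcpt t h0
  refine ⟨Over.mk (f' ≫ j.hom), Over.homMk f' rfl, ?_⟩
  have h4 : tr D i₀ U₀ (Over.homMk f' rfl : Over.mk (f' ≫ j.hom) ⟶ j) =
      (D.map f').app (Uj D i₀ U₀ j) ≫ (D.obj k').presheaf.map
        (homOfLE (Uj_le D i₀ U₀ (Over.homMk f' rfl : Over.mk (f' ≫ j.hom) ⟶ j))).op := rfl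
  rw [h4, CommRingCat.comp_apply, hk', map_zero]

theorem map_map_of_le {X : Scheme.{u}} {U V : X.Opens} (h1 : U ≤ V) (h2 : V ≤ U) (s : Γ(X, V)) :
    X.presheaf.map (homOfLE h2).op (X.presheaf.map (homOfLE h1).op s) = s := by
  have h : X.presheaf.map (homOfLE h1).op ≫ X.presheaf.map (homOfLE h2).op = 𝟙 _ := by
    rw [← Functor.map_comp]
    exact X.presheaf.map_id _
  exact congrArg (fun φ => φ.hom s) h

set_option backward.isDefEq.respectTransparency false in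
include hc in
/-- Every element of the limit ring comes from a stage. -/
theorem exists_sg_eq (hU₀ : IsAffineOpen U₀) (s : Γ(c.pt, Uinf D c i₀ U₀)) :
    ∃ (j : Over i₀) (t : Γ(D.obj j.left, Uj D i₀ U₀ j)), sg D c i₀ U₀ j t = s := by
  haveI hA' : ∀ {i j : I} (f : i ⟶ j), IsAffineHom (D.map f) := fun f => inferInstance
  haveI : ∀ j : Over i₀, IsAffine ((opensDiagram D i₀ U₀).obj j) :=
    fun j => hU₀.preimage (D.map _)
  have hle1 : (Uinf D c i₀ U₀).ι ''ᵁ ⊤ ≤ Uinf D c i₀ U₀ := by simp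
  have hge1 : Uinf D c i₀ U₀ ≤ (Uinf D c i₀ U₀).ι ''ᵁ ⊤ := by simp
  obtain ⟨j, t', hj⟩ := exists_appTop_π_eq_of_isAffine_of_isLimit (opensDiagram D i₀ U₀)
    (opensCone D c i₀ U₀) (isLimitOpensCone D c hc i₀ U₀)
    (c.pt.presheaf.map (homOfLE hle1).op s)
  have hle2 : Uj D i₀ U₀ j ≤ (Uj D i₀ U₀ j).ι ''ᵁ ⊤ := by simp
  refine ⟨j, (D.obj j.left).presheaf.map (homOfLE hle2).op t', ?_⟩
  have key : (D.obj j.left).presheaf.map (homOfLE hle2).op ≫ sg D c i₀ U₀ j ≫
      c.pt.presheaf.map (homOfLE hle1).op = ((opensCone D c i₀ U₀).π.app j).appTop := by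
    simp [Scheme.Hom.app_eq_appLE, Scheme.Hom.resLE_appLE, Scheme.Hom.appTop]
  have h1 : c.pt.presheaf.map (homOfLE hle1).op
      (sg D c i₀ U₀ j ((D.obj j.left).presheaf.map (homOfLE hle2).op t')) =
      c.pt.presheaf.map (homOfLE hle1).op s := by
    have h0 := congrArg (fun φ => φ.hom t') key
    exact h0.trans hj
  have h2 := congrArg (c.pt.presheaf.map (homOfLE hge1).op) h1
  rw [map_map_of_le hle1 hge1, map_map_of_le hle1 hge1] at h2
  exact h2

end Chart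

end Groth.Agent.Lib.LimMod
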