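import Groth.Agent.Lib.LimModCat_helper2
import Groth.Agent.Lib.LimFlat_helper9

/-!
# EGA IV 8.5.2 continued: exact sequences, quotients, monomorphisms over a limit (helper2)
APPEND-ONLY once landed.
-/

set_option autoImplicit false
set_option maxHeartbeats 1000000
set_option linter.style.haveILetI false
set_option linter.unusedSectionVars false
set_option linter.unusedVariables false
universe u

open CategoryTheory CategoryTheory.Limits AlgebraicGeometry TopologicalSpace Opposite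

namespace Groth.Agent.Lib.LimMod

section FlatExact

variable {X Y : Scheme.{u}}

theorem isQuasicoherent_image {F G : Y.Modules} [F.IsQuasicoherent] [G.IsQuasicoherent]
    (f : F ⟶ G) : (Limits.image f).IsQuasicoherent := by
  haveI h1 : (Abelian.coimage f).IsQuasicoherent := SubExt.isQuasicoherent_coimage f
  haveI h2 : (Abelian.image f).IsQuasicoherent :=
    (SheafOfModules.isQuasicoherent Y.ringCatSheaf).prop_of_iso (Abelian.coimageIsoImage f) h1
  exact (SheafOfModules.isQuasicoherent Y.ringCatSheaf).prop_of_iso (Abelian.imageIsoImage f) h2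

/-- Exactness of the flat pullback of `F → G → H` in terms of two vanishing conditions. -/
theorem exact_pullback_iff_of_flat (φ : X ⟶ Y) [Flat φ] {F G H : Y.Modules} [F.IsQuasicoherent]
    [G.IsQuasicoherent] [H.IsQuasicoherent] (f : F ⟶ G) (g : G ⟶ H) :
    (∃ w' : (Scheme.Modules.pullback φ).map f ≫ (Scheme.Modules.pullback φ).map g = 0,
        (ShortComplex.mk _ _ w').Exact) ↔
      (Scheme.Modules.pullback φ).map (image.ι f ≫ g) = 0 ∧
        (Scheme.Modules.pullback φ).map (kernel.ι g ≫ cokernel.π f) = 0 := by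
  haveI : (kernel g).IsQuasicoherent := SubExt.isQuasicoherent_kernel g
  haveI : Mono ((Scheme.Modules.pullback φ).map (kernel.ι g)) :=
    DescH8.mono_pullback_of_flat _ φ
  let S : ShortComplex Y.Modules := ShortComplex.mk (kernel.ι g) g (kernel.condition g)
  haveI : S.X₁.IsQuasicoherent := ‹(kernel g).IsQuasicoherent›
  haveI : S.X₂.IsQuasicoherent := ‹G.IsQuasicoherent›
  haveI : S.X₃.IsQuasicoherent := ‹H.IsQuasicoherent›
  have hK := exact_map_pullback_of_flat φ S (ShortComplex.exact_kernel g)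
  rw [exact_map_iff (Scheme.Modules.pullback φ) f g hK]
  have key : (Scheme.Modules.pullback φ).map (f ≫ g) = 0 ↔
      (Scheme.Modules.pullback φ).map (image.ι f ≫ g) = 0 := by
    have h1 : (Scheme.Modules.pullback φ).map (f ≫ g) =
        (Scheme.Modules.pullback φ).map (factorThruImage f) ≫
          (Scheme.Modules.pullback φ).map (image.ι f ≫ g) := by
      rw [← Functor.map_comp, ← Category.assoc, image.fac]
    rw [h1]
    constructor
    · intro h2
      exact zero_of_epi_comp _ h2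
    · intro h2
      rw [h2, comp_zero]
  rw [key]

end FlatExact

section Main3

variable {I : Type u} [SmallCategory I] [IsCofiltered I] (D : I ⥤ Scheme.{u}) (c : Cone D)
  (hc : IsLimit c) [∀ (i j : I) (f : i ⟶ j), IsAffineHom (D.map f)]
  (i₀ : I) [CompactSpace (D.obj i₀)]

include hc in
theorem exists_stage_exactEpi {F₀ G₀ H₀ : (D.obj i₀).Modules} [F₀.IsQuasicoherent]
    [G₀.IsQuasicoherent] [H₀.IsQuasicoherent]
    [SheafOfModules.IsFiniteType (R := (D.obj i₀).ringCatSheaf) F₀]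
    [SheafOfModules.IsFiniteType (R := (D.obj i₀).ringCatSheaf) G₀]
    [SheafOfModules.IsFinitePresentation (R := (D.obj i₀).ringCatSheaf) H₀]
    (f₀ : F₀ ⟶ G₀) (g₀ : G₀ ⟶ H₀)
    (H : ∃ w : (Scheme.Modules.pullback (c.π.app i₀)).map f₀ ≫
        (Scheme.Modules.pullback (c.π.app i₀)).map g₀ = 0,
      (ShortComplex.mk _ _ w).Exact ∧ Epi ((Scheme.Modules.pullback (c.π.app i₀)).map g₀)) :
    ∃ (j : I) (φ : j ⟶ i₀) (w : (Scheme.Modules.pullback (D.map φ)).map f₀ ≫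
        (Scheme.Modules.pullback (D.map φ)).map g₀ = 0),
      (ShortComplex.mk _ _ w).Exact ∧ Epi ((Scheme.Modules.pullback (D.map φ)).map g₀) := by
  obtain ⟨w, hex, hepi⟩ := H
  have h0 : (Scheme.Modules.pullback (c.π.app i₀)).map (f₀ ≫ g₀) =
      (Scheme.Modules.pullback (c.π.app i₀)).map (0 : F₀ ⟶ H₀) := by
    rw [Functor.map_comp, w, Functor.map_zero]
  obtain ⟨k₁, hk₁⟩ := eventually_eq D c hc i₀ (f₀ ≫ g₀) 0 h0
  have hw₁ : (Scheme.Modules.pullback (D.map k₁.hom)).map f₀ ≫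
      (Scheme.Modules.pullback (D.map k₁.hom)).map g₀ = 0 := by
    rw [← Functor.map_comp, hk₁ k₁ (𝟙 k₁), Functor.map_zero]
  haveI : CompactSpace (D.obj k₁.left) :=
    QuasiCompact.compactSpace_of_compactSpace (D.map k₁.hom)
  haveI ftG : SheafOfModules.IsFiniteType (R := (D.obj k₁.left).ringCatSheaf)
      ((Scheme.Modules.pullback (D.map k₁.hom)).obj G₀) :=
    FpqcH8.isFiniteType_pullback (D.map k₁.hom) G₀
  haveI : SheafOfModules.IsFinitePresentation (R := (D.obj k₁.left).ringCatSheaf)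
      ((Scheme.Modules.pullback (D.map k₁.hom)).obj H₀) :=
    FpqcH8.isFP_pullback (D.map k₁.hom) H₀
  haveI : (cokernel ((Scheme.Modules.pullback (D.map k₁.hom)).map f₀)).IsQuasicoherent :=
    Groth.Agent.Lib.BModH6.isQuasicoherent_cokernel _
  haveI : CohB1.IsFT (cokernel ((Scheme.Modules.pullback (D.map k₁.hom)).map f₀)) :=
    SerreFT.isFT_of_epi (cokernel.π _) ftG
  have hinf := (exactEpi_iff_of_natIso (DescH8.pbIso (c.π.app k₁.left) (D.map k₁.hom)
    (c.π.app i₀) (c.w k₁.hom)) f₀ g₀).mpr ⟨w, hex, hepi⟩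
  haveI : IsIso ((Scheme.Modules.pullback (c.π.app k₁.left)).map (cokernel.desc _ _ hw₁)) :=
    (exactEpi_map_iff_isIso (Scheme.Modules.pullback (c.π.app k₁.left)) hw₁).mp hinf
  obtain ⟨k₂, hk₂⟩ := eventually_isIso D c hc k₁.left (cokernel.desc _ _ hw₁)
  haveI := hk₂ k₂ (𝟙 k₂)
  have h2 := (exactEpi_map_iff_isIso (Scheme.Modules.pullback (D.map k₂.hom)) hw₁).mpr
    inferInstance
  obtain ⟨w₃, h₃⟩ := (exactEpi_iff_of_natIso (DescH8.pbIso (D.map k₂.hom) (D.map k₁.hom)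
    (D.map (k₂.hom ≫ k₁.hom)) (D.map_comp _ _).symm) f₀ g₀).mp h2
  exact ⟨k₂.left, k₂.hom ≫ k₁.hom, w₃, h₃⟩

omit [IsCofiltered I] [∀ (i j : I) (f : i ⟶ j), IsAffineHom (D.map f)]
  [CompactSpace (D.obj i₀)] in
theorem exactEpi_of_stage {F₀ G₀ H₀ : (D.obj i₀).Modules} (f₀ : F₀ ⟶ G₀) (g₀ : G₀ ⟶ H₀) {j : I}
    (φ : j ⟶ i₀)
    (H : ∃ w : (Scheme.Modules.pullback (D.map φ)).map f₀ ≫
        (Scheme.Modules.pullback (D.map φ)).map g₀ = 0,
      (ShortComplex.mk _ _ w).Exact ∧ Epi ((Scheme.Modules.pullback (D.map φ)).map g₀)) :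
    ∃ w : (Scheme.Modules.pullback (c.π.app i₀)).map f₀ ≫
        (Scheme.Modules.pullback (c.π.app i₀)).map g₀ = 0,
      (ShortComplex.mk _ _ w).Exact ∧ Epi ((Scheme.Modules.pullback (c.π.app i₀)).map g₀) := by
  have h1 := exactEpi_map (Scheme.Modules.pullback (c.π.app j)) _ _ H
  exact (exactEpi_iff_of_natIso (DescH8.pbIso (c.π.app j) (D.map φ) (c.π.app i₀) (c.w φ))
    f₀ g₀).mp h1

end Main3

/-- **EGA IV 8.5.6 (exact sequences `F → G → H → 0`).** -/
theorem main4812 {I : Type u} [SmallCategory I] [IsCofiltered I]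
    (D : I ⥤ Scheme.{u}) (c : Limits.Cone D) (hc : Limits.IsLimit c)
    [∀ (i j : I) (f : i ⟶ j), IsAffineHom (D.map f)] (i₀ : I) [CompactSpace (D.obj i₀)]
    {F₀ G₀ H₀ : (D.obj i₀).Modules} [Coh.IsQCoh F₀] [Coh.IsQCoh G₀] [Coh.IsQCoh H₀]
    (hF₀ : CohB1.IsFT F₀) (hG₀ : CohB1.IsFT G₀) (hH₀ : CohB1.IsFP H₀) (f₀ : F₀ ⟶ G₀) (g₀ : G₀ ⟶ H₀) :
    (∃ w : (Scheme.Modules.pullback (c.π.app i₀)).map f₀ ≫ (Scheme.Modules.pullback (c.π.app i₀)).map g₀ = 0,
        (ShortComplex.mk _ _ w).Exact ∧ Epi ((Scheme.Modules.pullback (c.π.app i₀)).map g₀)) ↔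
      ∃ (j : I) (φ : j ⟶ i₀) (w : (Scheme.Modules.pullback (D.map φ)).map f₀ ≫ (Scheme.Modules.pullback (D.map φ)).map g₀ = 0),
        (ShortComplex.mk _ _ w).Exact ∧ Epi ((Scheme.Modules.pullback (D.map φ)).map g₀) := by
  haveI := hF₀
  haveI := hG₀
  haveI := hH₀
  constructor
  · intro H
    exact exists_stage_exactEpi D c hc i₀ f₀ g₀ H
  · rintro ⟨j, φ, H⟩
    exact exactEpi_of_stage D c i₀ f₀ g₀ φ H

/-- **EGA IV 8.5.7-type statement (domination of quotients).** -/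
theorem main4813 {I : Type u} [SmallCategory I] [IsCofiltered I]
    (D : I ⥤ Scheme.{u}) (c : Limits.Cone D) (hc : Limits.IsLimit c)
    [∀ (i j : I) (f : i ⟶ j), IsAffineHom (D.map f)] (i₀ : I) [CompactSpace (D.obj i₀)]
    {F₀ G₁ G₂ : (D.obj i₀).Modules} [Coh.IsQCoh F₀] [Coh.IsQCoh G₁] [Coh.IsQCoh G₂]
    (hF₀ : CohB1.IsFT F₀) (hG₁ : CohB1.IsFP G₁) (p₁ : F₀ ⟶ G₁) (p₂ : F₀ ⟶ G₂) [Epi p₁] [Epi p₂] :
    (∃ k : (Scheme.Modules.pullback (c.π.app i₀)).obj G₁ ⟶ (Scheme.Modules.pullback (c.π.app i₀)).obj G₂, (Scheme.Modules.pullback (c.π.app i₀)).map p₁ ≫ k = (Scheme.Modules.pullback (c.π.app i₀)).map p₂) ↔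
      ∃ (j : I) (φ : j ⟶ i₀) (k : (Scheme.Modules.pullback (D.map φ)).obj G₁ ⟶ (Scheme.Modules.pullback (D.map φ)).obj G₂),
        (Scheme.Modules.pullback (D.map φ)).map p₁ ≫ k = (Scheme.Modules.pullback (D.map φ)).map p₂ := by
  haveI : (kernel p₁).IsQuasicoherent := SubExt.isQuasicoherent_kernel p₁
  haveI ftK : CohB1.IsFT (kernel p₁) := isFT_kernel_of_epi hF₀ hG₁ p₁
  constructor
  · rintro ⟨kinf, hkinf⟩
    have h0 : (Scheme.Modules.pullback (c.π.app i₀)).map (kernel.ι p₁ ≫ p₂) =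
        (Scheme.Modules.pullback (c.π.app i₀)).map (0 : kernel p₁ ⟶ G₂) := by
      rw [Functor.map_comp, ← hkinf, ← Category.assoc, ← Functor.map_comp, kernel.condition,
        Functor.map_zero, zero_comp, Functor.map_zero]
    obtain ⟨k, hk⟩ := eventually_eq D c hc i₀ (kernel.ι p₁ ≫ p₂) 0 h0
    have h1 := hk k (𝟙 k)
    have hcol := Abelian.epiIsCokernelOfKernel _ (kernelIsKernel p₁)
    have hcol' := CokernelCofork.mapIsColimit _ hcol (Scheme.Modules.pullback (D.map k.hom))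
    have hw : (Scheme.Modules.pullback (D.map k.hom)).map (kernel.ι p₁) ≫
        (Scheme.Modules.pullback (D.map k.hom)).map p₂ = 0 := by
      rw [← Functor.map_comp, h1, Functor.map_zero]
    obtain ⟨l, hl⟩ := CokernelCofork.IsColimit.desc' hcol'
      ((Scheme.Modules.pullback (D.map k.hom)).map p₂) hw
    exact ⟨k.left, k.hom, l, hl⟩
  · rintro ⟨j, φ, kj, hkj⟩
    refine ⟨(DescH8.pbIso (c.π.app j) (D.map φ) (c.π.app i₀) (c.w φ)).inv.app G₁ ≫
      (Scheme.Modules.pullback (c.π.app j)).map kj ≫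
        (DescH8.pbIso (c.π.app j) (D.map φ) (c.π.app i₀) (c.w φ)).hom.app G₂, ?_⟩
    rw [DescH8.pb_map_eq (c.π.app j) (D.map φ) (c.π.app i₀) (c.w φ) p₁,
      DescH8.pb_map_eq (c.π.app j) (D.map φ) (c.π.app i₀) (c.w φ) p₂]
    simp only [Category.assoc, Iso.hom_inv_id_app_assoc]
    rw [← Functor.map_comp_assoc, hkj]

/-- **EGA IV 8.5.8-type statement (injectivity, flat transition maps).** -/
theorem main4794 {I : Type u} [SmallCategory I] [IsCofiltered I]
    (D : I ⥤ Scheme.{u}) (c : Limits.Cone D) (hc : Limits.IsLimit c)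
    [∀ (i j : I) (f : i ⟶ j), IsAffineHom (D.map f)] (i₀ : I) [CompactSpace (D.obj i₀)]
    (hfl : ∀ (i j : I) (φ : i ⟶ j), Flat (D.map φ))
    {F₀ G₀ : (D.obj i₀).Modules} [Coh.IsQCoh F₀]
    [Coh.IsQCoh G₀] (f₀ : F₀ ⟶ G₀)
    (hker : CohB1.IsFT (Limits.kernel f₀)) :
    Mono ((Scheme.Modules.pullback (c.π.app i₀)).map f₀) ↔
      ∃ (j : I) (φ : j ⟶ i₀), Mono ((Scheme.Modules.pullback (D.map φ)).map f₀) := by
  haveI : Flat (c.π.app i₀) := Groth.Agent.Lib.LimFlat.flat_π D c hc i₀ (fun j φ => hfl j i₀ φ)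
  haveI := hker
  haveI : (kernel f₀).IsQuasicoherent := SubExt.isQuasicoherent_kernel f₀
  constructor
  · intro hm
    have h0 : (Scheme.Modules.pullback (c.π.app i₀)).map (kernel.ι f₀) =
        (Scheme.Modules.pullback (c.π.app i₀)).map (0 : kernel f₀ ⟶ F₀) := by
      rw [(mono_pullback_iff_of_flat _ f₀).mp hm, Functor.map_zero]
    obtain ⟨k, hk⟩ := eventually_eq D c hc i₀ (kernel.ι f₀) 0 h0
    haveI : Flat (D.map k.hom) := hfl _ _ _
    refine ⟨k.left, k.hom, (mono_pullback_iff_of_flat (D.map k.hom) f₀).mpr ?_⟩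
    rw [hk k (𝟙 k), Functor.map_zero]
  · rintro ⟨j, φ, hm⟩
    haveI : Flat (D.map φ) := hfl _ _ _
    rw [mono_pullback_iff_of_flat]
    have h1 := (mono_pullback_iff_of_flat (D.map φ) f₀).mp hm
    have h2 := eq_of_stage D c i₀ (kernel.ι f₀) 0 φ (by rw [h1, Functor.map_zero])
    rw [h2, Functor.map_zero]

/-- **EGA IV 8.5.8-type statement (exactness, flat transition maps).** -/
theorem main4840 {I : Type u} [SmallCategory I] [IsCofiltered I]
    (D : I ⥤ Scheme.{u}) (c : Limits.Cone D) (hc : Limits.IsLimit c)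
    [∀ (i j : I) (f : i ⟶ j), IsAffineHom (D.map f)] (i₀ : I) [CompactSpace (D.obj i₀)]
    [∀ (i j : I) (f : i ⟶ j), Flat (D.map f)]
    {F₀ G₀ H₀ : (D.obj i₀).Modules} [Coh.IsQCoh F₀] [Coh.IsQCoh G₀] [Coh.IsQCoh H₀]
    (f₀ : F₀ ⟶ G₀) (g₀ : G₀ ⟶ H₀)
    (hIm : CohB1.IsFT (Limits.image f₀)) (hKer : CohB1.IsFT (Limits.kernel g₀)) :
    (∃ w : (Scheme.Modules.pullback (c.π.app i₀)).map f₀ ≫ (Scheme.Modules.pullback (c.π.app i₀)).map g₀ = 0, (ShortComplex.mk _ _ w).Exact) ↔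
      ∃ (j : I) (φ : j ⟶ i₀) (w : (Scheme.Modules.pullback (D.map φ)).map f₀ ≫ (Scheme.Modules.pullback (D.map φ)).map g₀ = 0),
        (ShortComplex.mk _ _ w).Exact := by
  haveI : Flat (c.π.app i₀) :=
    Groth.Agent.Lib.LimFlat.flat_π D c hc i₀ (fun j φ => inferInstance)
  haveI := hIm
  haveI := hKer
  haveI : (kernel g₀).IsQuasicoherent := SubExt.isQuasicoherent_kernel g₀
  haveI : (Limits.image f₀).IsQuasicoherent := isQuasicoherent_image f₀
  haveI : (cokernel f₀).IsQuasicoherent := Groth.Agent.Lib.BModH6.isQuasicoherent_cokernel f₀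
  constructor
  · intro H
    obtain ⟨h1, h2⟩ := (exact_pullback_iff_of_flat (c.π.app i₀) f₀ g₀).mp H
    obtain ⟨k₁, hk₁⟩ := eventually_eq D c hc i₀ (image.ι f₀ ≫ g₀) 0
      (by rw [h1, Functor.map_zero])
    obtain ⟨k₂, hk₂⟩ := eventually_eq D c hc i₀ (kernel.ι g₀ ≫ cokernel.π f₀) 0
      (by rw [h2, Functor.map_zero])
    obtain ⟨w, hw⟩ := (exact_pullback_iff_of_flat
      (D.map (IsCofiltered.min k₁ k₂).hom) f₀ g₀).mpr
      ⟨by rw [hk₁ _ (IsCofiltered.minToLeft k₁ k₂), Functor.map_zero],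
        by rw [hk₂ _ (IsCofiltered.minToRight k₁ k₂), Functor.map_zero]⟩
    exact ⟨_, _, w, hw⟩
  · rintro ⟨j, φ, H⟩
    obtain ⟨h1, h2⟩ := (exact_pullback_iff_of_flat (D.map φ) f₀ g₀).mp H
    refine (exact_pullback_iff_of_flat (c.π.app i₀) f₀ g₀).mpr ⟨?_, ?_⟩
    · have h3 := eq_of_stage D c i₀ (image.ι f₀ ≫ g₀) 0 φ (by rw [h1, Functor.map_zero])
      rw [h3, Functor.map_zero]
    · have h3 := eq_of_stage D c i₀ (kernel.ι g₀ ≫ cokernel.π f₀) 0 φ
        (by rw [h2, Functor.map_zero])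
      rw [h3, Functor.map_zero]

end Groth.Agent.Lib.LimMod
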