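import Mathlib
import Groth.Agent.Lib.LimSrc_helper7

/-!
# Spreading-in of source-local properties near a point (helper7)

* `exists_nhd`: snd-form.
* `nhd_iff`: the form of the `*_nhd_iff_eventually_stage` statements.
-/

set_option autoImplicit false
set_option backward.isDefEq.respectTransparency false
universe u
open CategoryTheory CategoryTheory.Limits AlgebraicGeometry

namespace Groth.Agent.Lib.LimNhdH7
open Groth.Agent.Lib.LimBaseChangeH7 Groth.Agent.Lib.LimIsoH7 Groth.Agent.Lib.LimDescendH7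
  Groth.Agent.Lib.LimSrcH7

variable {P : MorphismProperty Scheme.{u}} {H : ∀ {X Y : Scheme.{u}}, (X ⟶ Y) → Prop}
  [P.RespectsIso] [P.IsStableUnderBaseChange] [P.IsStableUnderComposition]
  [IsZariskiLocalAtSource P]

theorem exists_nhd
    (hopen : ∀ {X Y : Scheme.{u}} (f : X ⟶ Y), IsOpenImmersion f → P f)
    (hA : AffAffStage P H)
    (hH : ∀ {X Y Z : Scheme.{u}} (f : X ⟶ Z) (g : Y ⟶ Z), H f → H (pullback.snd f g))
    (hHres : ∀ {X Y : Scheme.{u}} (f : X ⟶ Y) (U : X.Opens) (V : Y.Opens) (e : U ≤ f ⁻¹ᵁ V),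
      H f → H (f.resLE V U e))
    (hHι : ∀ {W X Y : Scheme.{u}} (i : W ⟶ X) [IsOpenImmersion i] (f : X ⟶ Y), H f → H (i ≫ f))
    {I : Type u} [SmallCategory I] [IsCofiltered I] (D : I ⥤ Scheme.{u}) (c : Cone D)
    (hc : IsLimit c) [∀ (i j : I) (f : i ⟶ j), IsAffineHom (D.map f)] (i₀ : I)
    {X₀ : Scheme.{u}} (f₀ : X₀ ⟶ D.obj i₀) (hf₀ : H f₀)
    {X : Scheme.{u}} (q : X ⟶ X₀) (p : X ⟶ c.pt) (hX : IsPullback q p f₀ (c.π.app i₀))
    (x : X) (U : X.Opens) (hxU : x ∈ U) (hP : P (U.ι ≫ p)) :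
    ∃ (K : Over i₀) (V : ((bcDiagram D i₀ f₀).obj K).Opens),
      (bcCone c hX).π.app K x ∈ V ∧ P (V.ι ≫ pullback.snd f₀ (D.map K.hom)) := by
  obtain ⟨_, ⟨_, ⟨k, V', hV', rfl⟩, rfl⟩, hxW, hWU⟩ :=
    (isBasis_preimage_isAffineOpen (bcDiagram D i₀ f₀) (bcCone c hX)
      (isLimitBcCone c hX hc)).exists_subset_of_mem_open hxU U.isOpen
  haveI : IsAffine V'.toScheme := hV'
  set W : X.Opens := (bcCone c hX).π.app k ⁻¹ᵁ V' with hW
  have hWU' : W ≤ U := hWU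
  let f₁ : V'.toScheme ⟶ D.obj k.left := V'.ι ≫ pullback.snd f₀ (D.map k.hom)
  have hf₁ : H f₁ := hHι V'.ι _ (hH f₀ _ hf₀)
  have sq1 : IsPullback ((bcCone c hX).π.app k ∣_ V') (W.ι ≫ p) f₁ (c.π.app k.left) :=
    (isPullback_morphismRestrict ((bcCone c hX).π.app k) V').paste_vert
      (isPullback_bcCone_π c hX k)
  have hPW : P (W.ι ≫ p) := by
    rw [← Scheme.homOfLE_ι X hWU', Category.assoc]
    exact IsZariskiLocalAtSource.comp hP _
  have hP₁ : P (pullback.snd f₁ (c.π.app k.left)) := by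
    rw [← P.cancel_left_of_respectsIso sq1.isoPullback.hom, sq1.isoPullback_hom_snd]
    exact hPW
  obtain ⟨j', ψ, hj'⟩ := exists_snd_of_compact_source hopen hA hH hHres D c hc k.left f₁ hf₁ hP₁
  let K : Over i₀ := Over.mk (ψ ≫ k.hom)
  let κ : K ⟶ k := Over.homMk ψ rfl
  have hcond : (pullback.fst f₁ (D.map ψ) ≫ V'.ι) ≫ pullback.snd f₀ (D.map k.hom) =
      pullback.snd f₁ (D.map ψ) ≫ D.map κ.left := by
    rw [Category.assoc]
    exact pullback.condition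
  let n : pullback f₁ (D.map ψ) ⟶ (bcDiagram D i₀ f₀).obj K :=
    (isPullback_map D i₀ f₀ κ).lift (pullback.fst f₁ (D.map ψ) ≫ V'.ι)
      (pullback.snd f₁ (D.map ψ)) hcond
  have hn1 : n ≫ (bcDiagram D i₀ f₀).map κ = pullback.fst f₁ (D.map ψ) ≫ V'.ι :=
    (isPullback_map D i₀ f₀ κ).lift_fst _ _ _
  have hn2 : n ≫ pullback.snd f₀ (D.map K.hom) = pullback.snd f₁ (D.map ψ) :=
    (isPullback_map D i₀ f₀ κ).lift_snd _ _ _
  have sqn : IsPullback (pullback.fst f₁ (D.map ψ)) n V'.ι ((bcDiagram D i₀ f₀).map κ) := by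
    refine IsPullback.of_bot ?_ hn1.symm (isPullback_map D i₀ f₀ κ)
    rw [hn2]
    exact IsPullback.of_hasPullback f₁ (D.map ψ)
  haveI : IsOpenImmersion n :=
    MorphismProperty.of_isPullback (P := @IsOpenImmersion) sqn inferInstance
  refine ⟨K, n.opensRange, ?_, ?_⟩
  · have hcondW : ((bcCone c hX).π.app k ∣_ V') ≫ f₁ =
        (W.ι ≫ p ≫ c.π.app j') ≫ D.map ψ := by
      rw [sq1.w, Category.assoc, Category.assoc, Category.assoc, c.w]
    let rW : W.toScheme ⟶ pullback f₁ (D.map ψ) :=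
      pullback.lift ((bcCone c hX).π.app k ∣_ V') (W.ι ≫ p ≫ c.π.app j') hcondW
    have hrW : rW ≫ n = W.ι ≫ (bcCone c hX).π.app K := by
      apply (isPullback_map D i₀ f₀ κ).hom_ext
      · rw [Category.assoc, hn1, pullback.lift_fst_assoc, morphismRestrict_ι, Category.assoc,
          (bcCone c hX).w κ]
      · rw [Category.assoc, hn2, pullback.lift_snd, Category.assoc, bcCone_π_snd]
        rfl
    have hx : (bcCone c hX).π.app K x = n (rW ⟨x, hxW⟩) := by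
      have h1 : (W.ι ≫ (bcCone c hX).π.app K) ⟨x, hxW⟩ = (bcCone c hX).π.app K x := rfl
      rw [← h1, ← hrW]
      rfl
    rw [hx]
    exact ⟨_, rfl⟩
  · rw [← P.cancel_left_of_respectsIso n.isoOpensRange.hom, Scheme.Hom.isoOpensRange_hom_ι_assoc,
      hn2]
    exact hj'

theorem nhd_iff
    (hopen : ∀ {X Y : Scheme.{u}} (f : X ⟶ Y), IsOpenImmersion f → P f)
    (hA : AffAffStage P H)
    (hH : ∀ {X Y Z : Scheme.{u}} (f : X ⟶ Z) (g : Y ⟶ Z), H f → H (pullback.snd f g))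
    (hHres : ∀ {X Y : Scheme.{u}} (f : X ⟶ Y) (U : X.Opens) (V : Y.Opens) (e : U ≤ f ⁻¹ᵁ V),
      H f → H (f.resLE V U e))
    (hHι : ∀ {W X Y : Scheme.{u}} (i : W ⟶ X) [IsOpenImmersion i] (f : X ⟶ Y), H f → H (i ≫ f))
    {I : Type u} [SmallCategory I] [IsCofiltered I] (D : I ⥤ Scheme.{u}) (c : Cone D)
    (hc : IsLimit c) [∀ (i j : I) (f : i ⟶ j), IsAffineHom (D.map f)] (i₀ : I)
    {X₀ Y₀ : Scheme.{u}} (f₀ : X₀ ⟶ Y₀) (g₀ : Y₀ ⟶ D.obj i₀) (hf₀ : H f₀)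
    {X Y : Scheme.{u}} (f : X ⟶ Y) (g : Y ⟶ c.pt) (qY : Y ⟶ Y₀) (qX : X ⟶ X₀)
    (hY : IsPullback qY g g₀ (c.π.app i₀)) (hX : IsPullback qX f f₀ qY) (x : ↥X) :
    (∃ U : X.Opens, x ∈ U ∧ P (U.ι ≫ f)) ↔
      ∃ (j : I) (φ : j ⟶ i₀) (Xj Yj : Scheme.{u}) (fj : Xj ⟶ Yj) (gj : Yj ⟶ D.obj j) (pY : Yj ⟶ Y₀)
        (pX : Xj ⟶ X₀) (rX : X ⟶ Xj), IsPullback pY gj g₀ (D.map φ) ∧ IsPullback pX fj f₀ pY ∧
          rX ≫ pX = qX ∧ rX ≫ fj ≫ gj = f ≫ g ≫ c.π.app j ∧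
            ∃ V : Xj.Opens, rX.base x ∈ V ∧ P (V.ι ≫ fj) := by
  constructor
  · rintro ⟨U, hxU, hP⟩
    let j₀ : Over i₀ := Over.mk (𝟙 i₀)
    let q : X ⟶ pullback f₀ (pullback.fst g₀ (D.map j₀.hom)) :=
      pullback.lift qX (f ≫ (bcCone c hY).π.app j₀)
        (by rw [Category.assoc, bcCone_π_fst, hX.w])
    have hq1 : q ≫ pullback.fst f₀ (pullback.fst g₀ (D.map j₀.hom)) = qX :=
      pullback.lift_fst _ _ _
    have hq2 : q ≫ pullback.snd f₀ (pullback.fst g₀ (D.map j₀.hom)) =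
        f ≫ (bcCone c hY).π.app j₀ := pullback.lift_snd _ _ _
    have hX' : IsPullback q f (pullback.snd f₀ (pullback.fst g₀ (D.map j₀.hom)))
        ((bcCone c hY).π.app j₀) := by
      refine IsPullback.of_right ?_ hq2 (IsPullback.of_hasPullback f₀ _)
      rw [hq1, bcCone_π_fst]
      exact hX
    obtain ⟨K, V, hxV, hPV⟩ := exists_nhd hopen hA hH hHres hHι (bcDiagram D i₀ g₀)
      (bcCone c hY) (isLimitBcCone c hY hc) j₀
      (pullback.snd f₀ (pullback.fst g₀ (D.map j₀.hom))) (hH f₀ _ hf₀) q f hX' x U hxU hP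
    refine ⟨K.left.left, K.left.hom, _, _,
      pullback.snd (pullback.snd f₀ (pullback.fst g₀ (D.map j₀.hom)))
        ((bcDiagram D i₀ g₀).map K.hom),
      pullback.snd g₀ (D.map K.left.hom), pullback.fst g₀ (D.map K.left.hom),
      pullback.fst (pullback.snd f₀ (pullback.fst g₀ (D.map j₀.hom)))
        ((bcDiagram D i₀ g₀).map K.hom) ≫ pullback.fst f₀ (pullback.fst g₀ (D.map j₀.hom)),
      (bcCone (bcCone c hY) hX').π.app K, IsPullback.of_hasPullback _ _, ?_, ?_, ?_, V, hxV, hPV⟩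
    · have h := (IsPullback.of_hasPullback (pullback.snd f₀ (pullback.fst g₀ (D.map j₀.hom)))
        ((bcDiagram D i₀ g₀).map K.hom)).paste_horiz
        (IsPullback.of_hasPullback f₀ (pullback.fst g₀ (D.map j₀.hom)))
      rw [bcDiagram_map_fst] at h
      exact h
    · rw [bcCone_π_fst_assoc, hq1]
    · rw [bcCone_π_snd_assoc, bcCone_π_snd]
  · rintro ⟨j, φ, Xj, Yj, fj, gj, pY, pX, rX, h1, h2, h3, h4, V, hxV, hPV⟩
    let a : Y ⟶ Yj := h1.lift qY (g ≫ c.π.app j) (by rw [hY.w, Category.assoc, c.w])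
    have ha : a ≫ pY = qY := h1.lift_fst _ _ _
    have ha2 : a ≫ gj = g ≫ c.π.app j := h1.lift_snd _ _ _
    have hr : rX ≫ fj = f ≫ a := by
      apply h1.hom_ext
      · rw [Category.assoc, Category.assoc, ← h2.w, ← Category.assoc, h3, hX.w, ha]
      · rw [Category.assoc, Category.assoc, ha2, h4]
    have hpb : IsPullback rX f fj a := by
      refine IsPullback.of_right ?_ hr h2
      rw [h3, ha]
      exact hX
    exact ⟨rX ⁻¹ᵁ V, hxV,
      P.of_isPullback ((isPullback_morphismRestrict rX V).paste_vert hpb) hPV⟩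

end Groth.Agent.Lib.LimNhdH7
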