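import Mathlib
import Groth.Agent.Lib.CompleteNoeth_lead

/-!
# Inverse limits of thickening systems: Noetherianity
-/

namespace Groth.Agent.Lib.LimNoethLead

open Groth.Agent.Lib.CompleteNoethLead

universe u

/-- Sections of a surjective inverse system over `ℕ` through any given element. -/
theorem exists_compatible_family : ∀ (n : ℕ) (C : ℕ → Type u) (w : ∀ m, C (m + 1) → C m)
    (_ : ∀ m, Function.Surjective (w m)) (y : C n),
    ∃ Y : ∀ m, C m, (∀ m, w m (Y (m + 1)) = Y m) ∧ Y n = y := by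
  intro n
  induction n with
  | zero =>
    intro C w hw y
    refine ⟨fun m => Nat.rec (motive := fun m => C m) y (fun m Ym => (hw m Ym).choose) m,
      fun m => (hw m _).choose_spec, rfl⟩
  | succ n ih =>
    intro C w hw y
    obtain ⟨Y', hY', hY'n⟩ := ih (fun m => C (m + 1)) (fun m => w (m + 1))
      (fun m => hw (m + 1)) y
    refine ⟨fun m => Nat.casesOn (motive := fun m => C m) m (w 0 (Y' 0)) (fun m => Y' m), ?_,
      hY'n⟩
    intro m
    cases m with
    | zero => rfl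
    | succ m => exact hY' m

/-- Successive approximation with respect to a general complete separated filtration. -/
theorem mem_span_of_iterate_filtration {R : Type*} [CommRing R] (𝔠 : ℕ → Ideal R)
    (hcomplete : ∀ s : ℕ → R, (∀ k, s (k + 1) - s k ∈ 𝔠 k) → ∃ L, ∀ k, s k - L ∈ 𝔠 k)
    (hsep : ∀ z, (∀ k, z ∈ 𝔠 k) → z = 0)
    {ι : Type*} [Fintype ι] (m : ι → R) (P : ℕ → Set R) (hP : ∀ d, P d ⊆ (𝔠 d : Set R))
    (step : ∀ d, ∀ z ∈ P d, ∃ c : ι → R, (∀ i, c i ∈ 𝔠 d) ∧ z - ∑ i, c i * m i ∈ P (d + 1))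
    (z : R) (hz : z ∈ P 0) : z ∈ Ideal.span (Set.range m) := by
  classical
  choose! c hc1 hc2 using step
  obtain ⟨b, hb0, hbs⟩ : ∃ b : ℕ → R, b 0 = z ∧ ∀ d, b (d + 1) = b d - ∑ i, c d (b d) i * m i :=
    ⟨fun d => Nat.rec z (fun d bd => bd - ∑ i, c d bd i * m i) d, rfl, fun _ => rfl⟩
  have hbP : ∀ d, b d ∈ P d := by
    intro d
    induction d with
    | zero => rw [hb0]; exact hz
    | succ d ih => rw [hbs]; exact hc2 d (b d) ih
  obtain ⟨cc, hccdef⟩ : ∃ cc : ℕ → ι → R, ∀ d i, cc d i = c d (b d) i := ⟨_, fun _ _ => rfl⟩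
  have hcc : ∀ d i, cc d i ∈ 𝔠 d := fun d i => by
    rw [hccdef]; exact hc1 d (b d) (hbP d) i
  obtain ⟨S, hSdef⟩ : ∃ S : ℕ → ι → R, ∀ k i, S k i = ∑ d ∈ Finset.range k, cc d i :=
    ⟨_, fun _ _ => rfl⟩
  have hS : ∀ k, z - ∑ i, S k i * m i = b k := by
    intro k
    induction k with
    | zero => simp [hSdef, hb0]
    | succ k ih =>
      have h1 : ∀ i, S (k + 1) i * m i = S k i * m i + c k (b k) i * m i := by
        intro i; rw [hSdef, hSdef, Finset.sum_range_succ, add_mul, hccdef]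
      calc z - ∑ i, S (k + 1) i * m i
          = (z - ∑ i, S k i * m i) - ∑ i, c k (b k) i * m i := by
            simp only [h1, Finset.sum_add_distrib]; abel
        _ = b k - ∑ i, c k (b k) i * m i := by rw [ih]
        _ = b (k + 1) := (hbs k).symm
  have hprec : ∀ i, ∃ L : R, ∀ k, S k i - L ∈ 𝔠 k := by
    intro i
    refine hcomplete (fun k => S k i) (fun k => ?_)
    show S (k + 1) i - S k i ∈ 𝔠 k
    rw [hSdef, hSdef, Finset.sum_range_succ, add_sub_cancel_left]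
    exact hcc k i
  choose L hL using hprec
  have hzero : z - ∑ i, L i * m i = 0 := by
    refine hsep _ fun k => ?_
    have e : z - ∑ i, L i * m i = b k + ∑ i, (S k i - L i) * m i := by
      rw [← hS k]
      simp only [sub_mul, Finset.sum_sub_distrib]
      abel
    rw [e]
    refine (𝔠 k).add_mem (hP k (hbP k)) ((𝔠 k).sum_mem fun i _ => ?_)
    exact (𝔠 k).mul_mem_right _ (hL i k)
  rw [sub_eq_zero] at hzero
  rw [hzero]
  exact Ideal.sum_mem _ fun i _ => Ideal.mul_mem_left _ _ (Ideal.subset_span ⟨i, rfl⟩)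

theorem isNoetherianRing_lim (B : ℕ → Type u) [∀ n, CommRing (B n)]
    (u : ∀ n, B (n + 1) →+* B n) (hu : ∀ n, Function.Surjective (u n))
    (v : ∀ n, B n →+* B 0) (hv0 : v 0 = RingHom.id (B 0)) (hv : ∀ n, (v n).comp (u n) = v (n + 1))
    (hker : ∀ n, RingHom.ker (u n) = RingHom.ker (v (n + 1)) ^ (n + 1))
    (hfg : (RingHom.ker (v 1)).FG)
    (A : Type u) [CommRing A] (p : ∀ n, A →+* B n)
    (hp : ∀ n, (u n).comp (p (n + 1)) = p n)
    (hinj : ∀ x : A, (∀ n, p n x = 0) → x = 0)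
    (hlift : ∀ y : (∀ n, B n), (∀ n, u n (y (n + 1)) = y n) → ∃ x : A, ∀ n, p n x = y n)
    [IsNoetherianRing (B 0)] : IsNoetherianRing A := by
  classical
  have hsurj : ∀ n, Function.Surjective (p n) := by
    intro n y
    obtain ⟨Y, hY, hYn⟩ := exists_compatible_family n B (fun m => u m) hu y
    obtain ⟨x, hx⟩ := hlift Y hY
    exact ⟨x, (hx n).trans hYn⟩
  have hvp : ∀ n, (v n).comp (p n) = p 0 := by
    intro n
    induction n with
    | zero => rw [hv0]; rfl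
    | succ n ih => rw [← hv n, RingHom.comp_assoc, hp n, ih]
  obtain ⟨J, hJ⟩ : ∃ J : Ideal A, J = RingHom.ker (p 0) := ⟨_, rfl⟩
  obtain ⟨𝔞, h𝔞⟩ : ∃ 𝔞 : ℕ → Ideal A, ∀ n, 𝔞 n = RingHom.ker (p n) := ⟨_, fun _ => rfl⟩
  have mem𝔞 : ∀ n z, z ∈ 𝔞 n ↔ p n z = 0 := by
    intro n z; rw [h𝔞, RingHom.mem_ker]
  have h𝔞0 : 𝔞 0 = J := by rw [h𝔞, hJ]
  have hmapJ : ∀ n, J.map (p n) = RingHom.ker (v n) := by
    intro n
    apply le_antisymm
    · rw [Ideal.map_le_iff_le_comap]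
      intro z hz
      rw [hJ, RingHom.mem_ker] at hz
      rw [Ideal.mem_comap, RingHom.mem_ker, ← RingHom.comp_apply, hvp n]; exact hz
    · intro k hk
      obtain ⟨z, rfl⟩ := hsurj n k
      apply Ideal.mem_map_of_mem
      rw [hJ, RingHom.mem_ker, ← hvp n]; exact hk
  have hKpow : ∀ n, RingHom.ker (v n) ^ (n + 1) = ⊥ := by
    intro n
    have h1 : (RingHom.ker (v (n + 1))).map (u n) = RingHom.ker (v n) := by
      rw [← hmapJ (n + 1), Ideal.map_map, hp n, hmapJ n]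
    rw [← h1, ← Ideal.map_pow, ← hker n]
    exact (Ideal.map_eq_bot_iff_le_ker _).2 le_rfl
  have hc : ∀ n, J ^ (n + 1) ≤ 𝔞 n := by
    intro n
    rw [h𝔞, ← Ideal.map_eq_bot_iff_le_ker, Ideal.map_pow, hmapJ n, hKpow n]
  have hanti : ∀ n, 𝔞 (n + 1) ≤ 𝔞 n := by
    intro n z hz
    rw [mem𝔞] at hz ⊢
    rw [← hp n, RingHom.comp_apply, hz, map_zero]
  have hmono : Antitone 𝔞 := antitone_nat_of_succ_le hanti
  have hd : ∀ n, 𝔞 n ≤ J ^ (n + 1) ⊔ 𝔞 (n + 1) := by
    intro n z hz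
    rw [mem𝔞] at hz
    have h1 : p (n + 1) z ∈ RingHom.ker (u n) := by
      rw [RingHom.mem_ker, ← RingHom.comp_apply, hp n]; exact hz
    rw [hker n, ← hmapJ (n + 1), ← Ideal.map_pow] at h1
    obtain ⟨w, hw, hwz⟩ := (Ideal.mem_map_iff_of_surjective _ (hsurj (n + 1))).1 h1
    have h2 : z - w ∈ 𝔞 (n + 1) := by
      rw [mem𝔞, map_sub, hwz, sub_self]
    have : z = w + (z - w) := by ring
    rw [this]; exact Submodule.add_mem_sup hw h2
  have hcomplete : ∀ s : ℕ → A, (∀ k, s (k + 1) - s k ∈ 𝔞 k) → ∃ L, ∀ k, s k - L ∈ 𝔞 k := by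
    intro s hs
    obtain ⟨L, hL⟩ := hlift (fun n => p n (s n)) (fun n => by
      show u n (p (n + 1) (s (n + 1))) = p n (s n)
      rw [← RingHom.comp_apply, hp n]
      have h1 := (mem𝔞 n _).1 (hs n)
      rw [map_sub, sub_eq_zero] at h1; exact h1)
    exact ⟨L, fun k => by rw [mem𝔞, map_sub, hL k, sub_self]⟩
  have hsep : ∀ z, (∀ k, z ∈ 𝔞 k) → z = 0 := fun z hz => hinj z fun n => (mem𝔞 n z).1 (hz n)
  -- generators
  obtain ⟨r, kk, hkk⟩ := Submodule.fg_iff_exists_fin_generating_family.1 hfg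
  choose x hx using fun i => hsurj 1 (kk i)
  have hxJ : ∀ i, x i ∈ J := by
    intro i
    rw [hJ, RingHom.mem_ker, ← hvp 1, RingHom.comp_apply, hx i]
    have : kk i ∈ RingHom.ker (v 1) := hkk ▸ Submodule.subset_span ⟨i, rfl⟩
    exact this
  obtain ⟨K, hK⟩ : ∃ K : Ideal A, K = Ideal.span (Set.range x) := ⟨_, rfl⟩
  have hKJ : K ≤ J := by rw [hK]; exact Ideal.span_le.2 (by rintro _ ⟨i, rfl⟩; exact hxJ i)
  have hJK : J ≤ K ⊔ 𝔞 1 := by
    intro z hz
    have h2 : K.map (p 1) = RingHom.ker (v 1) := by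
      rw [hK, Ideal.map_span]
      have : (p 1) '' Set.range x = Set.range kk := by
        rw [← Set.range_comp]; congr 1; ext i; exact hx i
      rw [this]; exact hkk
    have h1 : p 1 z ∈ K.map (p 1) := by
      rw [h2, ← hmapJ 1]; exact Ideal.mem_map_of_mem _ hz
    obtain ⟨w, hw, hwz⟩ := (Ideal.mem_map_iff_of_surjective _ (hsurj 1)).1 h1
    have h3 : z - w ∈ 𝔞 1 := by rw [mem𝔞, map_sub, hwz, sub_self]
    have : z = w + (z - w) := by ring
    rw [this]; exact Submodule.add_mem_sup hw h3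
  have h1m : ∀ m, 𝔞 1 ≤ J ^ 2 ⊔ 𝔞 (m + 1) := by
    intro m
    induction m with
    | zero => exact le_sup_right
    | succ m ih =>
      refine ih.trans (sup_le le_sup_left ?_)
      refine (hd (m + 1)).trans (sup_le ?_ le_sup_right)
      exact le_trans (Ideal.pow_le_pow_right (by omega)) le_sup_left
  have h𝔞J : ∀ m, 𝔞 m * J ≤ 𝔞 (m + 1) := by
    intro m
    calc 𝔞 m * J ≤ (J ^ (m + 1) ⊔ 𝔞 (m + 1)) * J := Ideal.mul_mono_left (hd m)
      _ = J ^ (m + 1) * J ⊔ 𝔞 (m + 1) * J := Ideal.sup_mul _ _ _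
      _ ≤ 𝔞 (m + 1) := sup_le (by rw [← pow_succ]; exact hc (m + 1)) Ideal.mul_le_left
  have hJ𝔞1 : ∀ m, J ^ m * 𝔞 1 ≤ 𝔞 (m + 1) := by
    intro m
    calc J ^ m * 𝔞 1 ≤ J ^ m * (J ^ 2 ⊔ 𝔞 (m + 1)) := Ideal.mul_mono_right (h1m m)
      _ = J ^ m * J ^ 2 ⊔ J ^ m * 𝔞 (m + 1) := Ideal.mul_sup _ _ _
      _ ≤ 𝔞 (m + 1) := sup_le (by rw [← pow_add]; exact hc (m + 1)) Ideal.mul_le_right
  have he : ∀ m, J ^ m ≤ K ^ m ⊔ 𝔞 m := by
    intro m
    induction m with
    | zero => simp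
    | succ m ih =>
      calc J ^ (m + 1) = J ^ m * J := pow_succ _ _
        _ ≤ (K ^ m ⊔ 𝔞 m) * (K ⊔ 𝔞 1) := Ideal.mul_mono ih hJK
        _ ≤ K ^ (m + 1) ⊔ 𝔞 (m + 1) := by
          rw [Ideal.sup_mul, Ideal.mul_sup, Ideal.mul_sup]
          refine sup_le (sup_le ?_ ?_) (sup_le ?_ ?_)
          · rw [← pow_succ]; exact le_sup_left
          · exact le_trans ((Ideal.mul_mono_left (Ideal.pow_right_mono hKJ m)).trans (hJ𝔞1 m))
              le_sup_right
          · exact le_trans ((Ideal.mul_mono_right hKJ).trans (h𝔞J m)) le_sup_right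
          · exact le_trans ((Ideal.mul_mono_right
              ((hanti 0).trans (le_of_eq h𝔞0))).trans (h𝔞J m)) le_sup_right
  -- shifted filtration
  obtain ⟨𝔠, h𝔠0, h𝔠s⟩ : ∃ 𝔠 : ℕ → Ideal A, 𝔠 0 = ⊤ ∧ ∀ d, 𝔠 (d + 1) = 𝔞 d :=
    ⟨fun d => Nat.casesOn d ⊤ (fun d => 𝔞 d), rfl, fun _ => rfl⟩
  have hccomplete : ∀ s : ℕ → A, (∀ k, s (k + 1) - s k ∈ 𝔠 k) → ∃ L, ∀ k, s k - L ∈ 𝔠 k := by
    intro s hs
    obtain ⟨L, hL⟩ := hcomplete (fun k => s (k + 1)) (fun k => by
      have := hs (k + 1); rw [h𝔠s] at this; exact this)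
    refine ⟨L, fun k => ?_⟩
    cases k with
    | zero => rw [h𝔠0]; trivial
    | succ k => rw [h𝔠s]; exact hL k
  have hcsep : ∀ z, (∀ k, z ∈ 𝔠 k) → z = 0 := fun z hz => hsep z fun k => by
    have := hz (k + 1); rw [h𝔠s] at this; exact this
  have hK𝔠 : ∀ d, K ^ d ≤ 𝔠 d := by
    intro d
    cases d with
    | zero => rw [h𝔠0]; exact le_top
    | succ d => rw [h𝔠s]; exact (Ideal.pow_right_mono hKJ _).trans (hc d)
  have hKfg0 : K.FG := by rw [hK]; exact Submodule.fg_span (Set.finite_range x)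
  have hmain : ∀ n, 𝔞 n ≤ K ^ (n + 1) := by
    intro n
    have hKfg : (K ^ (n + 1)).FG := hKfg0.pow
    obtain ⟨t, fμ, hfμ⟩ := Submodule.fg_iff_exists_fin_generating_family.1 hKfg
    intro z hz
    have hz' : z ∈ Ideal.span (Set.range fμ) := by
      refine mem_span_of_iterate_filtration 𝔠 hccomplete hcsep fμ
        (fun d => (𝔞 (n + d) : Set A)) ?_ ?_ z (by simpa using hz)
      · intro d w hw
        cases d with
        | zero => rw [h𝔠0]; trivial
        | succ d =>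
          rw [h𝔠s]
          exact hmono (by omega : d ≤ n + (d + 1)) hw
      · intro d w hw
        have h1 : w ∈ (K ^ (n + d + 1) ⊔ 𝔞 (n + d + 1)) ⊔ 𝔞 (n + d + 1) :=
          (sup_le_sup_right (he (n + d + 1)) _) (hd (n + d) hw)
        rw [sup_assoc, sup_idem] at h1
        obtain ⟨y, hy, z'', hz'', hyz⟩ := Submodule.mem_sup.1 h1
        have h2 : y ∈ K ^ d • Submodule.span A (Set.range fμ) := by
          rw [hfμ, smul_eq_mul, ← pow_add]
          have : d + (n + 1) = n + d + 1 := by omega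
          rw [this]; exact hy
        obtain ⟨a, ha, hay⟩ := (Submodule.mem_ideal_smul_span_iff_exists_sum (K ^ d) fμ y).1 h2
        refine ⟨fun i => a i, fun i => hK𝔠 d (ha i), ?_⟩
        have h3 : ∑ i, a i * fμ i = y := by
          rw [← hay, Finsupp.sum_fintype]
          · rfl
          · intro i; exact zero_smul _ _
        show w - ∑ i, a i * fμ i ∈ 𝔞 (n + (d + 1))
        rw [h3, ← hyz, add_sub_cancel_left]
        exact hz''
    have : Ideal.span (Set.range fμ) = K ^ (n + 1) := hfμ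
    rw [this] at hz'; exact hz'
  have h𝔞eq : ∀ n, 𝔞 n = J ^ (n + 1) := fun n =>
    le_antisymm ((hmain n).trans (Ideal.pow_right_mono hKJ _)) (hc n)
  haveI : IsAdicComplete J A := by
    refine { toIsHausdorff := ⟨?_⟩, toIsPrecomplete := ⟨?_⟩ }
    · intro z hz
      apply hsep z
      intro k
      have := hz (k + 1)
      rw [SModEq.zero, smul_eq_mul, Ideal.mul_top] at this
      rw [h𝔞eq k]; exact this
    · intro f hf
      obtain ⟨L, hL⟩ := hcomplete (fun k => f (k + 1)) (fun k => by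
        have := hf (Nat.le_succ (k + 1))
        rw [SModEq.sub_mem, smul_eq_mul, Ideal.mul_top] at this
        show f (k + 1 + 1) - f (k + 1) ∈ 𝔞 k
        rw [h𝔞eq k, ← neg_sub]; exact neg_mem this)
      refine ⟨L, fun n => ?_⟩
      cases n with
      | zero =>
        rw [SModEq.sub_mem, pow_zero, Ideal.one_eq_top, smul_eq_mul, Ideal.mul_top]; trivial
      | succ n =>
        rw [SModEq.sub_mem, smul_eq_mul, Ideal.mul_top, ← h𝔞eq n]; exact hL n
  haveI : IsNoetherianRing (A ⧸ J) := by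
    have e : (A ⧸ J) ≃+* B 0 :=
      (Ideal.quotEquivOfEq hJ).trans (RingHom.quotientKerEquivOfSurjective (hsurj 0))
    exact isNoetherianRing_of_ringEquiv (B 0) e.symm
  refine isNoetherianRing_of_isAdicComplete J x hxJ ?_
  rw [← hK]
  refine hJK.trans (sup_le_sup_left (le_of_eq ?_) K)
  rw [h𝔞eq 1]

end Groth.Agent.Lib.LimNoethLead
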