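import Groth.Agent.Lib.StalkFam2_helper2
import Groth.Agent.Lib.LimHomMain_helper2
import Groth.Agent.Lib.Fpqc1_helper8

/-!
# Descent of isomorphisms over an open of a limit of schemes: preparations (helper2)

* `FPAt`: finitely presented sections near a point;
* `exists_chart_family_on`: finite affine chart families of a quasi-compact open;
* `exists_sec_of_charts`: gluing linear maps on affine charts to a section of the sheaf Hom;
* `exists_lift_sec'`, `eventually_lift_sec'`: lifting semilinear maps to a stage (local f.p.);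
* `betaO`, `tauS_lin`, `TrS_lin`, `compat_at_of_chart`, `lin_comp_eq_id`.
APPEND-ONLY once landed.
-/

set_option autoImplicit false
set_option maxHeartbeats 1000000
set_option linter.style.haveILetI false
set_option linter.unusedSectionVars false
set_option linter.unusedVariables false
universe u

open CategoryTheory CategoryTheory.Limits AlgebraicGeometry TopologicalSpace Opposite TensorProduct
open HomLinH8 RefHullH8 QcqsLoc SecOrdH8 QCohExtn
open Groth.Agent.Lib.LimMod Groth.Agent.Lib.StalkFam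

namespace Groth.Agent.Lib.LimOH

section FP

variable {X : Scheme.{u}}

/-- Finite presentation of sections passes to smaller affine opens. -/
theorem fp_sections_of_le (A : X.Modules) [A.IsQuasicoherent] {U V : X.Opens}
    (hU : IsAffineOpen U) (hV : IsAffineOpen V) (h : U ≤ V)
    (hfp : Module.FinitePresentation Γ(X, V) Γ(A, V)) :
    Module.FinitePresentation Γ(X, U) Γ(A, U) := by
  haveI := hfp
  have hle : U ≤ (𝟙 X) ⁻¹ᵁ V := fun x hx => h hx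
  haveI h1 : Module.FinitePresentation Γ(X, U) Γ((Scheme.Modules.pullback (𝟙 X)).obj A, U) :=
    FpqcH8.fp_sections_pullback (𝟙 X) A hU hV hle
  exact Module.FinitePresentation.of_equiv
    (FpqcH8.secLinEquiv ((Scheme.Modules.pullbackId X).app A) U)

/-- `A` has finitely presented sections over some affine neighbourhood of `x`. -/
def FPAt (A : X.Modules) (x : X) : Prop :=
  ∃ Q : X.Opens, IsAffineOpen Q ∧ x ∈ Q ∧ Module.FinitePresentation Γ(X, Q) Γ(A, Q)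

theorem FPAt.exists_le {A : X.Modules} [A.IsQuasicoherent] {x : X} (h : FPAt A x) (W : X.Opens)
    (hx : x ∈ W) : ∃ Q : X.Opens, IsAffineOpen Q ∧ x ∈ Q ∧ Q ≤ W ∧
      Module.FinitePresentation Γ(X, Q) Γ(A, Q) := by
  obtain ⟨Q₀, hQ₀, hxQ₀, hfp⟩ := h
  obtain ⟨_, ⟨Q, hQ : IsAffineOpen Q, rfl⟩, hxQ, hQsub⟩ :=
    X.isBasis_affineOpens.exists_subset_of_mem_open (show x ∈ W ⊓ Q₀ from ⟨hx, hxQ₀⟩)
      (W ⊓ Q₀).isOpen
  exact ⟨Q, hQ, hxQ, fun z hz => (hQsub hz).1,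
    fp_sections_of_le A hQ hQ₀ (fun z hz => (hQsub hz).2) hfp⟩

/-- A finite subcover of a quasi-compact open by opens with a local property. -/
theorem exists_finite_cover_of_compact (X : Scheme.{u}) (T : X.Opens)
    (hT : IsCompact (T : Set X)) (P : X.Opens → Prop)
    (hP : ∀ x ∈ T, ∃ Q : X.Opens, x ∈ Q ∧ Q ≤ T ∧ P Q) :
    ∃ Os : Set X.Opens, Os.Finite ∧ (∀ Q ∈ Os, Q ≤ T ∧ P Q) ∧ ∀ x ∈ T, ∃ Q ∈ Os, x ∈ Q := by
  classical
  choose! Q hxQ hQT hPQ using hP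
  obtain ⟨t, ht⟩ := hT.elim_finite_subcover (fun x : T => ((Q x.1 : X.Opens) : Set X))
    (fun x => (Q x.1).isOpen) (fun y hy => Set.mem_iUnion.mpr ⟨⟨y, hy⟩, hxQ y hy⟩)
  refine ⟨((t.image (fun x : T => Q x.1) : Finset X.Opens) : Set X.Opens),
    Finset.finite_toSet _, ?_, ?_⟩
  · intro Q' hQ'
    obtain ⟨x, -, rfl⟩ := Finset.mem_image.mp (Finset.mem_coe.mp hQ')
    exact ⟨hQT x.1 x.2, hPQ x.1 x.2⟩
  · intro y hy
    obtain ⟨x, hx⟩ := Set.mem_iUnion.mp (ht hy)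
    obtain ⟨hxt, hyx⟩ := Set.mem_iUnion.mp hx
    exact ⟨Q x.1, Finset.mem_coe.mpr (Finset.mem_image.mpr ⟨x, hxt, rfl⟩), hyx⟩

/-- A finite family of affine charts of a quasi-compact open of a quasi-separated scheme, all
satisfying a local property `P`: a finite cover together with finite covers of the pairwise
intersections. -/
theorem exists_chart_family_on (X : Scheme.{u}) [QuasiSeparatedSpace X] (O : X.Opens)
    (hO : IsCompact (O : Set X)) (P : X.Opens → Prop)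
    (hP : ∀ x ∈ O, ∀ W : X.Opens, x ∈ W →
      ∃ Q : X.Opens, IsAffineOpen Q ∧ x ∈ Q ∧ Q ≤ W ∧ P Q) :
    ∃ (𝒱 Us : Set X.Opens), 𝒱.Finite ∧ (∀ V ∈ 𝒱, IsAffineOpen V ∧ V ≤ O ∧ P V) ∧ Us ⊆ 𝒱 ∧
      (∀ x ∈ O, ∃ U ∈ Us, x ∈ U) ∧
      (∀ U ∈ Us, ∀ U' ∈ Us, ∀ x : X, x ∈ U → x ∈ U' →
        ∃ O' ∈ 𝒱, x ∈ O' ∧ O' ≤ U ∧ O' ≤ U') := by
  classical
  obtain ⟨Us, hUsfin, hUsP, hUscov⟩ := exists_finite_cover_of_compact X O hO
    (fun Q => IsAffineOpen Q ∧ P Q) (fun x hx => by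
      obtain ⟨Q, hQ, hxQ, hQW, hPQ⟩ := hP x hx O hx
      exact ⟨Q, hxQ, hQW, hQ, hPQ⟩)
  have hpair : ∀ U U' : X.Opens, U ∈ Us → U' ∈ Us → ∃ Os : Set X.Opens, Os.Finite ∧
      (∀ Q ∈ Os, Q ≤ U ⊓ U' ∧ (IsAffineOpen Q ∧ P Q)) ∧ ∀ x ∈ U ⊓ U', ∃ Q ∈ Os, x ∈ Q := by
    intro U U' hU hU'
    have hcomp : IsCompact ((U ⊓ U' : X.Opens) : Set X) :=
      QuasiSeparatedSpace.inter_isCompact U.1 U'.1 U.2 (hUsP U hU).2.1.isCompact U'.2
        (hUsP U' hU').2.1.isCompact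
    refine exists_finite_cover_of_compact X (U ⊓ U') hcomp (fun Q => IsAffineOpen Q ∧ P Q)
      (fun x hx => ?_)
    obtain ⟨Q, hQ, hxQ, hQW, hPQ⟩ := hP x ((hUsP U hU).1 hx.1) (U ⊓ U') hx
    exact ⟨Q, hxQ, hQW, hQ, hPQ⟩
  choose! Os hOsfin hOsP hOscov using hpair
  refine ⟨Us ∪ ⋃ U ∈ Us, ⋃ U' ∈ Us, Os U U', Us, ?_, ?_, Set.subset_union_left, ?_, ?_⟩
  · exact hUsfin.union (hUsfin.biUnion fun U hU => hUsfin.biUnion fun U' hU' =>
      hOsfin U U' hU hU')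
  · rintro V (hV | hV)
    · exact ⟨(hUsP V hV).2.1, (hUsP V hV).1, (hUsP V hV).2.2⟩
    · simp only [Set.mem_iUnion] at hV
      obtain ⟨U, hU, U', hU', hV⟩ := hV
      have h3 := hOsP U U' hU hU' V hV
      exact ⟨h3.2.1, h3.1.trans (inf_le_left.trans (hUsP U hU).1), h3.2.2⟩
  · exact fun x hx => hUscov x hx
  · intro U hU U' hU' x hx hx'
    obtain ⟨Q, hQ, hxQ⟩ := hOscov U U' hU hU' x ⟨hx, hx'⟩
    have hle := (hOsP U U' hU hU' Q hQ).1
    refine ⟨Q, Or.inr ?_, hxQ, hle.trans inf_le_left, hle.trans inf_le_right⟩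
    simp only [Set.mem_iUnion]
    exact ⟨U, hU, U', hU', hQ⟩

/-- **Gluing linear maps on affine charts** to a section of the sheaf Hom over an open set. -/
theorem exists_sec_of_charts (A B : X.Modules) [A.IsQuasicoherent] {ι : Type*}
    (V : ι → X.Opens) (hV : ∀ i, IsAffineOpen (V i))
    (ψ : ∀ i, Γ(A, V i) →ₗ[Γ(X, V i)] Γ(B, V i)) (C : ι → Prop) (O : X.Opens)
    (hcov : ∀ x ∈ O, ∃ i, C i ∧ x ∈ V i)
    (href : ∀ i j, C i → C j → ∀ x : X, x ∈ V i → x ∈ V j →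
      ∃ o, x ∈ V o ∧ ∃ (h1 : V o ≤ V i) (h2 : V o ≤ V j),
        (∀ s, ψ o (rF A h1 s) = rF B h1 (ψ i s)) ∧ (∀ s, ψ o (rF A h2 s) = rF B h2 (ψ j s))) :
    ∃ L : Γ(RefHull.homSh A B, O), ∀ i, C i → ∀ (y : X) (hy : y ∈ O) (hi : y ∈ V i)
      (m : Γ(A, V i)),
      L.1 ⟨y, hy⟩ (A.presheaf.germ (V i) y hi m) = B.presheaf.germ (V i) y hi (ψ i m) := by
  obtain ⟨L, hL⟩ := exists_glueSec (A := A) (B := B) (fun i : {i // C i} => V i.1)
    (fun i => linSec A B (hV i.1) (ψ i.1))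
    (fun i j x hi hj => by
      obtain ⟨o, hxo, h1, h2, c1, c2⟩ := href i.1 j.1 i.2 j.2 x hi hj
      rw [linSec_eq_of_compat A B (hV i.1) (hV o) h1 (ψ i.1) (ψ o) c1 x hxo,
        linSec_eq_of_compat A B (hV j.1) (hV o) h2 (ψ j.1) (ψ o) c2 x hxo]) O
    (fun x hx => by
      obtain ⟨i, hi, hxi⟩ := hcov x hx
      exact ⟨⟨i, hi⟩, hxi⟩)
  refine ⟨L, fun i hi y hy hyi m => ?_⟩
  rw [hL ⟨i, hi⟩ y hy hyi]
  exact linSec_germ A B (hV i) (ψ i) y hyi m

end FP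

section CUV

variable {X Y : Scheme.{u}} (f : X ⟶ Y)

theorem cUV_zero (F : Y.Modules) {U : X.Opens} {V : Y.Opens} (h : U ≤ f ⁻¹ᵁ V) :
    PBH8.cUV f F h 0 = 0 := by
  have h1 := PBH8.cUV_add f F h 0 0
  rw [add_zero] at h1
  exact left_eq_add.mp h1

/-- A linear endomorphism of the sections of a pullback fixing the canonical images of a
generating set is the identity. -/
theorem lin_comp_eq_id {U : X.Opens} {V : Y.Opens} (h : U ≤ f ⁻¹ᵁ V) (hU : IsAffineOpen U)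
    (hV : IsAffineOpen V) (F : Y.Modules) [F.IsQuasicoherent]
    (χ : Γ((Scheme.Modules.pullback f).obj F, U) →ₗ[Γ(X, U)]
      Γ((Scheme.Modules.pullback f).obj F, U)) (S : Set Γ(F, V))
    (hS : Submodule.span Γ(Y, V) S = ⊤)
    (H : ∀ m ∈ S, χ (PBH8.cUV f F h m) = PBH8.cUV f F h m) : ∀ x, χ x = x := by
  have hall : ∀ m : Γ(F, V), χ (PBH8.cUV f F h m) = PBH8.cUV f F h m := by
    intro m
    have hm : m ∈ Submodule.span Γ(Y, V) S := by
      rw [hS]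
      trivial
    refine Submodule.span_induction
      (p := fun m _ => χ (PBH8.cUV f F h m) = PBH8.cUV f F h m) ?_ ?_ ?_ ?_ hm
    · exact fun m hm => H m hm
    · rw [cUV_zero, map_zero]
    · intro x y _ _ hx hy
      rw [PBH8.cUV_add, map_add, hx, hy]
    · intro r x _ hx
      rw [PBH8.cUV_smul, map_smul, hx]
  intro x
  have hx : x ∈ Submodule.span Γ(X, U) (Set.range (PBH8.cUV f F h)) := by
    rw [PBH8.span_cUV f F hU hV h]
    trivial
  refine Submodule.span_induction (p := fun x _ => χ x = x) ?_ ?_ ?_ ?_ hx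
  · rintro _ ⟨m, rfl⟩
    exact hall m
  · rw [map_zero]
  · intro x y _ _ hx hy
    rw [map_add, hx, hy]
  · intro r x _ hx
    rw [map_smul, hx]

end CUV

section TrStalk

variable {X Y Z : Scheme.{u}} (a : X ⟶ Y) (b : Y ⟶ Z) (c : X ⟶ Z) (w : a ≫ b = c)
  (F : Z.Modules)

theorem trStalk_zero (x : X) : trStalk a b c w F x 0 = 0 := by
  have h1 := trStalk_add a b c w F x 0 0
  rw [add_zero] at h1
  exact left_eq_add.mp h1

end TrStalk

section Lift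

variable {I : Type u} [SmallCategory I] (D : I ⥤ Scheme.{u}) (c : Cone D)
  (i₀ : I) (U₀ : (D.obj i₀).Opens) (G₀ : (D.obj i₀).Modules)

variable [IsCofiltered I] (hc : IsLimit c) [∀ (i j : I) (f : i ⟶ j), IsAffineHom (D.map f)]

attribute [local instance] algR algRinf

include hc in
/-- A semilinear map from a finitely presented module of sections into the sections of the
limit lifts to a stage (local finite presentation hypothesis). -/
theorem exists_lift_sec' (hU₀ : IsAffineOpen U₀) [G₀.IsQuasicoherent]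
    (F₀ : (D.obj i₀).Modules) [Module.FinitePresentation Γ(D.obj i₀, U₀) Γ(F₀, U₀)]
    (β : Γ(F₀, U₀) →+ Γ((Scheme.Modules.pullback (c.π.app i₀)).obj G₀, Uinf D c i₀ U₀))
    (hβ : ∀ (r : Γ(D.obj i₀, U₀)) (m : Γ(F₀, U₀)), β (r • m) = (rhinf D c i₀ U₀ r) • β m) :
    ∃ (j : Over i₀)
      (b : Γ(F₀, U₀) →+ Γ((Scheme.Modules.pullback (D.map j.hom)).obj G₀, Uj D i₀ U₀ j)),
      (∀ (r : Γ(D.obj i₀, U₀)) (m : Γ(F₀, U₀)), b (r • m) = (rh D i₀ U₀ j r) • b m) ∧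
        ∀ m, tauS D c i₀ U₀ G₀ j (b m) = β m := by
  haveI hA' : ∀ {i j : I} (f : i ⟶ j), IsAffineHom (D.map f) := fun f => inferInstance
  haveI := isAffineHom_π_app D c hc i₀
  have hUinf : IsAffineOpen (Uinf D c i₀ U₀) := hU₀.preimage (c.π.app i₀)
  have hsys := isColimSys D c i₀ U₀ hc hU₀
  letI : Module Γ(D.obj i₀, U₀)
      Γ((Scheme.Modules.pullback (c.π.app i₀)).obj G₀, Uinf D c i₀ U₀) :=
    Module.compHom _ (rhinf D c i₀ U₀).hom
  haveI : IsScalarTower Γ(D.obj i₀, U₀) Γ(c.pt, Uinf D c i₀ U₀)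
      Γ((Scheme.Modules.pullback (c.π.app i₀)).obj G₀, Uinf D c i₀ U₀) :=
    IsScalarTower.of_algebraMap_smul fun _ _ => rfl
  obtain ⟨einf, heinf⟩ : ∃ einf : Γ(c.pt, Uinf D c i₀ U₀) ⊗[Γ(D.obj i₀, U₀)] Γ(G₀, U₀) ≃ₗ[
      Γ(c.pt, Uinf D c i₀ U₀)] Γ((Scheme.Modules.pullback (c.π.app i₀)).obj G₀,
        Uinf D c i₀ U₀), einf = (PBH8.isBaseChange_cUV (X := c.pt) (c.π.app i₀) G₀ (le_refl _)
          hUinf hU₀).equiv := ⟨_, rfl⟩
  obtain ⟨β', hβ'⟩ : ∃ β' : Γ(F₀, U₀) →ₗ[Γ(D.obj i₀, U₀)]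
      Γ(c.pt, Uinf D c i₀ U₀) ⊗[Γ(D.obj i₀, U₀)] Γ(G₀, U₀), ∀ m, β' m = einf.symm (β m) :=
    ⟨{ toFun := fun m => einf.symm (β m)
       map_add' := fun x y => by rw [map_add, map_add]
       map_smul' := fun r m => by
        rw [hβ, map_smul, RingHom.id_apply]
        exact algebraMap_smul Γ(c.pt, Uinf D c i₀ U₀) r (einf.symm (β m)) }, fun _ => rfl⟩
  obtain ⟨j, b', hb'⟩ := exists_lift_of_fp hsys β'
  have hUj : IsAffineOpen (Uj D i₀ U₀ j) := hU₀.preimage (D.map j.hom)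
  letI : Module Γ(D.obj i₀, U₀)
      Γ((Scheme.Modules.pullback (D.map j.hom)).obj G₀, Uj D i₀ U₀ j) :=
    Module.compHom _ (rh D i₀ U₀ j).hom
  haveI : IsScalarTower Γ(D.obj i₀, U₀) Γ(D.obj j.left, Uj D i₀ U₀ j)
      Γ((Scheme.Modules.pullback (D.map j.hom)).obj G₀, Uj D i₀ U₀ j) :=
    IsScalarTower.of_algebraMap_smul fun _ _ => rfl
  obtain ⟨ej, hej⟩ : ∃ ej : Γ(D.obj j.left, Uj D i₀ U₀ j) ⊗[Γ(D.obj i₀, U₀)] Γ(G₀, U₀) ≃ₗ[
      Γ(D.obj j.left, Uj D i₀ U₀ j)] Γ((Scheme.Modules.pullback (D.map j.hom)).obj G₀,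
        Uj D i₀ U₀ j), ej = (PBH8.isBaseChange_cUV (D.map j.hom) G₀ (le_refl _)
          hUj hU₀).equiv := ⟨_, rfl⟩
  refine ⟨j, { toFun := fun m => ej (b' m)
               map_zero' := by rw [map_zero, map_zero]
               map_add' := fun x y => by rw [map_add, map_add] }, fun r m => ?_, fun m => ?_⟩
  · change ej (b' (r • m)) = (rh D i₀ U₀ j r) • ej (b' m)
    rw [map_smul]
    have e1 : r • b' m = (algebraMap Γ(D.obj i₀, U₀) Γ(D.obj j.left, Uj D i₀ U₀ j) r) • b' m :=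
      (algebraMap_smul Γ(D.obj j.left, Uj D i₀ U₀ j) r (b' m)).symm
    rw [e1, map_smul]
    rfl
  · change tauS D c i₀ U₀ G₀ j (ej (b' m)) = β m
    rw [hej, tauS_equiv D c i₀ U₀ G₀ hU₀ hUinf j hUj, hb', hβ', ← heinf,
      LinearEquiv.apply_symm_apply]

include hc in
/-- Eventual form of `exists_lift_sec'`. -/
theorem eventually_lift_sec' (hU₀ : IsAffineOpen U₀) [G₀.IsQuasicoherent]
    (F₀ : (D.obj i₀).Modules) [Module.FinitePresentation Γ(D.obj i₀, U₀) Γ(F₀, U₀)]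
    (β : Γ(F₀, U₀) →+ Γ((Scheme.Modules.pullback (c.π.app i₀)).obj G₀, Uinf D c i₀ U₀))
    (hβ : ∀ (r : Γ(D.obj i₀, U₀)) (m : Γ(F₀, U₀)), β (r • m) = (rhinf D c i₀ U₀ r) • β m) :
    ∃ k : Over i₀, ∀ (k' : Over i₀) (g : k' ⟶ k), ∃
      (b : Γ(F₀, U₀) →+ Γ((Scheme.Modules.pullback (D.map k'.hom)).obj G₀, Uj D i₀ U₀ k')),
      (∀ (r : Γ(D.obj i₀, U₀)) (m : Γ(F₀, U₀)), b (r • m) = (rh D i₀ U₀ k' r) • b m) ∧
        ∀ m, tauS D c i₀ U₀ G₀ k' (b m) = β m := by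
  obtain ⟨k, b, hb1, hb2⟩ := exists_lift_sec' D c i₀ U₀ G₀ hc hU₀ F₀ β hβ
  refine ⟨k, fun k' g => ⟨{ toFun := fun m => TrS D i₀ U₀ G₀ g (b m)
                            map_zero' := by rw [map_zero, TrS_zero]
                            map_add' := fun x y => by rw [map_add, TrS_add] },
    fun r m => ?_, fun m => ?_⟩⟩
  · change TrS D i₀ U₀ G₀ g (b (r • m)) = (rh D i₀ U₀ k' r) • TrS D i₀ U₀ G₀ g (b m)
    rw [hb1, TrS_smul]
    have e : (tr D i₀ U₀ g) ((rh D i₀ U₀ k) r) = (rh D i₀ U₀ k') r :=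
      congrArg (fun φ => φ.hom r) (rh_tr D i₀ U₀ g)
    rw [e]
  · change tauS D c i₀ U₀ G₀ k' (TrS D i₀ U₀ G₀ g (b m)) = β m
    rw [tauS_TrS D c i₀ U₀ G₀ hc hU₀, hb2]

end Lift

section Beta

variable {I : Type u} [SmallCategory I] (D : I ⥤ Scheme.{u}) (c : Cone D) (i₀ : I)
  (A₀ B₀ : (D.obj i₀).Modules) {O : (D.obj i₀).Opens}
  (lam : Γ(RefHull.homSh ((Scheme.Modules.pullback (c.π.app i₀)).obj A₀)
      ((Scheme.Modules.pullback (c.π.app i₀)).obj B₀), Uinf D c i₀ O))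

/-- The semilinear map `m ↦ lam (cUV m)` on a chart `V ≤ O`. -/
noncomputable def betaO {V : (D.obj i₀).Opens} (hVO : V ≤ O) :
    Γ(A₀, V) →+ Γ((Scheme.Modules.pullback (c.π.app i₀)).obj B₀, Uinf D c i₀ V) :=
  AddMonoidHom.mk' (fun m => evSec (resSec (Uinf_mono D c i₀ hVO) lam)
      (PBH8.cUV (c.π.app i₀) A₀ (le_refl _) m))
    (fun x y => by rw [PBH8.cUV_add, evSec_add_right])

theorem betaO_apply {V : (D.obj i₀).Opens} (hVO : V ≤ O) (m : Γ(A₀, V)) :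
    betaO D c i₀ A₀ B₀ lam hVO m = evSec (resSec (Uinf_mono D c i₀ hVO) lam)
      (PBH8.cUV (c.π.app i₀) A₀ (le_refl _) m) := rfl

theorem betaO_smul {V : (D.obj i₀).Opens} (hVO : V ≤ O) (r : Γ(D.obj i₀, V)) (m : Γ(A₀, V)) :
    betaO D c i₀ A₀ B₀ lam hVO (r • m) =
      (rhinf D c i₀ V r) • betaO D c i₀ A₀ B₀ lam hVO m := by
  rw [betaO_apply, betaO_apply, PBH8.cUV_smul, evSec_smul_right]

theorem betaO_res {V' V : (D.obj i₀).Opens} (hV'V : V' ≤ V) (hVO : V ≤ O) (m : Γ(A₀, V)) :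
    betaO D c i₀ A₀ B₀ lam (hV'V.trans hVO) (rF A₀ hV'V m) =
      rF ((Scheme.Modules.pullback (c.π.app i₀)).obj B₀) (Uinf_mono D c i₀ hV'V)
        (betaO D c i₀ A₀ B₀ lam hVO m) := by
  rw [betaO_apply, betaO_apply]
  have e := cUV_res_base (c.π.app i₀) A₀ (le_refl (Uinf D c i₀ V)) (le_refl (Uinf D c i₀ V'))
    (Uinf_mono D c i₀ hV'V) hV'V m
  have e' : PBH8.cUV (c.π.app i₀) A₀ (le_refl (Uinf D c i₀ V')) (rF A₀ hV'V m) =
      rF ((Scheme.Modules.pullback (c.π.app i₀)).obj A₀) (Uinf_mono D c i₀ hV'V)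
        (PBH8.cUV (c.π.app i₀) A₀ (le_refl (Uinf D c i₀ V)) m) := e
  rw [e', rF_evSec (Uinf_mono D c i₀ hV'V), rF_rF]

/-- The compatibility defect of two chart lifts dies in the limit. -/
theorem tauS_defectO {V' V : (D.obj i₀).Opens} (hV'V : V' ≤ V) (hVO : V ≤ O) (k : Over i₀)
    (bO : Γ(A₀, V') →+ Γ((Scheme.Modules.pullback (D.map k.hom)).obj B₀, Uj D i₀ V' k))
    (bU : Γ(A₀, V) →+ Γ((Scheme.Modules.pullback (D.map k.hom)).obj B₀, Uj D i₀ V k))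
    (hbO : ∀ m, tauS D c i₀ V' B₀ k (bO m) = betaO D c i₀ A₀ B₀ lam (hV'V.trans hVO) m)
    (hbU : ∀ m, tauS D c i₀ V B₀ k (bU m) = betaO D c i₀ A₀ B₀ lam hVO m) (m : Γ(A₀, V)) :
    tauS D c i₀ V' B₀ k (bO (rF A₀ hV'V m) - rF _ (Uj_mono D i₀ hV'V k) (bU m)) = 0 := by
  rw [tauS_sub, hbO, tauS_res D c i₀ B₀ hV'V k, hbU, betaO_res D c i₀ A₀ B₀ lam hV'V hVO,
    sub_self]

variable [∀ (i j : I) (f : i ⟶ j), IsAffineHom (D.map f)]

/-- **Lemma T**: a chart linear map at a stage inducing `lam` on canonical sections induces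
`lam` on all sections. -/
theorem tauS_lin [A₀.IsQuasicoherent] {V : (D.obj i₀).Opens} (hV : IsAffineOpen V)
    (hVO : V ≤ O) (k : Over i₀)
    (b : Γ(A₀, V) →+ Γ((Scheme.Modules.pullback (D.map k.hom)).obj B₀, Uj D i₀ V k))
    (hb : ∀ m, tauS D c i₀ V B₀ k (b m) = betaO D c i₀ A₀ B₀ lam hVO m)
    (ψ : Γ((Scheme.Modules.pullback (D.map k.hom)).obj A₀, Uj D i₀ V k) →ₗ[
      Γ(D.obj k.left, Uj D i₀ V k)]
      Γ((Scheme.Modules.pullback (D.map k.hom)).obj B₀, Uj D i₀ V k))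
    (hψ : ∀ m, ψ (PBH8.cUV (D.map k.hom) A₀ (le_refl _) m) = b m)
    (x : Γ((Scheme.Modules.pullback (D.map k.hom)).obj A₀, Uj D i₀ V k)) :
    tauS D c i₀ V B₀ k (ψ x) =
      evSec (resSec (Uinf_mono D c i₀ hVO) lam) (tauS D c i₀ V A₀ k x) := by
  haveI hA' : ∀ {i j : I} (f : i ⟶ j), IsAffineHom (D.map f) := fun f => inferInstance
  have hx : x ∈ Submodule.span Γ(D.obj k.left, Uj D i₀ V k)
      (Set.range (PBH8.cUV (D.map k.hom) A₀ (le_refl (Uj D i₀ V k)))) := by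
    rw [PBH8.span_cUV (D.map k.hom) A₀ (hV.preimage (D.map k.hom)) hV (le_refl _)]
    trivial
  refine Submodule.span_induction
    (p := fun x _ => tauS D c i₀ V B₀ k (ψ x) =
      evSec (resSec (Uinf_mono D c i₀ hVO) lam) (tauS D c i₀ V A₀ k x)) ?_ ?_ ?_ ?_ hx
  · rintro _ ⟨m, rfl⟩
    rw [hψ, hb, tauS_cUV]
    rfl
  · rw [map_zero, tauS_zero, tauS_zero, evSec_zero_right]
  · intro x y _ _ hx hy
    rw [map_add, tauS_add, tauS_add, evSec_add_right, hx, hy]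
  · intro r x _ hx
    rw [map_smul, tauS_smul, tauS_smul, evSec_smul_right, hx]

/-- **Lemma T2**: compatibility of chart linear maps at two stages with the transition maps. -/
theorem TrS_lin [A₀.IsQuasicoherent] {V : (D.obj i₀).Opens} (hV : IsAffineOpen V)
    {k' k : Over i₀} (g : k' ⟶ k)
    (b : Γ(A₀, V) →+ Γ((Scheme.Modules.pullback (D.map k.hom)).obj B₀, Uj D i₀ V k))
    (ψ : Γ((Scheme.Modules.pullback (D.map k.hom)).obj A₀, Uj D i₀ V k) →ₗ[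
      Γ(D.obj k.left, Uj D i₀ V k)]
      Γ((Scheme.Modules.pullback (D.map k.hom)).obj B₀, Uj D i₀ V k))
    (hψ : ∀ m, ψ (PBH8.cUV (D.map k.hom) A₀ (le_refl _) m) = b m)
    (ψ' : Γ((Scheme.Modules.pullback (D.map k'.hom)).obj A₀, Uj D i₀ V k') →ₗ[
      Γ(D.obj k'.left, Uj D i₀ V k')]
      Γ((Scheme.Modules.pullback (D.map k'.hom)).obj B₀, Uj D i₀ V k'))
    (hψ' : ∀ m, ψ' (PBH8.cUV (D.map k'.hom) A₀ (le_refl _) m) = TrS D i₀ V B₀ g (b m))
    (y : Γ((Scheme.Modules.pullback (D.map k.hom)).obj A₀, Uj D i₀ V k)) :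
    ψ' (TrS D i₀ V A₀ g y) = TrS D i₀ V B₀ g (ψ y) := by
  haveI hA' : ∀ {i j : I} (f : i ⟶ j), IsAffineHom (D.map f) := fun f => inferInstance
  have hy : y ∈ Submodule.span Γ(D.obj k.left, Uj D i₀ V k)
      (Set.range (PBH8.cUV (D.map k.hom) A₀ (le_refl (Uj D i₀ V k)))) := by
    rw [PBH8.span_cUV (D.map k.hom) A₀ (hV.preimage (D.map k.hom)) hV (le_refl _)]
    trivial
  refine Submodule.span_induction
    (p := fun y _ => ψ' (TrS D i₀ V A₀ g y) = TrS D i₀ V B₀ g (ψ y)) ?_ ?_ ?_ ?_ hy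
  · rintro _ ⟨m, rfl⟩
    rw [TrS_cUV, hψ', hψ]
  · rw [TrS_zero, map_zero, map_zero, TrS_zero]
  · intro x y _ _ hx hy
    rw [TrS_add, map_add, map_add, TrS_add, hx, hy]
  · intro r x _ hx
    rw [TrS_smul, map_smul, map_smul, TrS_smul, hx]

/-- **Compatibility at a point** of a family at a stage with `lam`, from a chart. -/
theorem compat_at_of_chart [A₀.IsQuasicoherent] (k : Over i₀)
    (mu : Γ(RefHull.homSh ((Scheme.Modules.pullback (D.map k.hom)).obj A₀)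
      ((Scheme.Modules.pullback (D.map k.hom)).obj B₀), Uj D i₀ O k))
    {V : (D.obj i₀).Opens} (hV : IsAffineOpen V) (hVO : V ≤ O)
    (ψ : Γ((Scheme.Modules.pullback (D.map k.hom)).obj A₀, Uj D i₀ V k) →ₗ[
      Γ(D.obj k.left, Uj D i₀ V k)]
      Γ((Scheme.Modules.pullback (D.map k.hom)).obj B₀, Uj D i₀ V k))
    (hmu : ∀ (y : D.obj k.left) (hy : y ∈ Uj D i₀ O k) (hyV : y ∈ Uj D i₀ V k)
      (x : Γ((Scheme.Modules.pullback (D.map k.hom)).obj A₀, Uj D i₀ V k)),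
      mu.1 ⟨y, hy⟩ (((Scheme.Modules.pullback (D.map k.hom)).obj A₀).presheaf.germ
        (Uj D i₀ V k) y hyV x) =
        ((Scheme.Modules.pullback (D.map k.hom)).obj B₀).presheaf.germ (Uj D i₀ V k) y hyV (ψ x))
    (hT : ∀ x, tauS D c i₀ V B₀ k (ψ x) =
      evSec (resSec (Uinf_mono D c i₀ hVO) lam) (tauS D c i₀ V A₀ k x))
    (s : c.pt) (hs : s ∈ Uinf D c i₀ V)
    (a : ((Scheme.Modules.pullback (D.map k.hom)).obj A₀).presheaf.stalk (c.π.app k.left s)) :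
    lam.1 ⟨s, Uinf_mono D c i₀ hVO hs⟩
        (trStalk (c.π.app k.left) (D.map k.hom) (c.π.app i₀) (c.w k.hom) A₀ s a) =
      trStalk (c.π.app k.left) (D.map k.hom) (c.π.app i₀) (c.w k.hom) B₀ s
        (mu.1 ⟨c.π.app k.left s, Uinf_le D c i₀ O k (Uinf_mono D c i₀ hVO hs)⟩ a) := by
  haveI hA' : ∀ {i j : I} (f : i ⟶ j), IsAffineHom (D.map f) := fun f => inferInstance
  have hyV : (c.π.app k.left) s ∈ Uj D i₀ V k := Uinf_le D c i₀ V k hs
  have hspan := span_germ_univ ((Scheme.Modules.pullback (D.map k.hom)).obj A₀)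
    (hV.preimage (D.map k.hom)) hyV
  have ha : a ∈ Submodule.span ((D.obj k.left).presheaf.stalk (c.π.app k.left s))
      (Set.range fun m : Γ((Scheme.Modules.pullback (D.map k.hom)).obj A₀, Uj D i₀ V k) =>
        (((Scheme.Modules.pullback (D.map k.hom)).obj A₀).presheaf.germ (Uj D i₀ V k)
          (c.π.app k.left s) hyV m :
          ((Scheme.Modules.pullback (D.map k.hom)).obj A₀).presheaf.stalk
            (c.π.app k.left s))) := by
    rw [hspan]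
    trivial
  refine Submodule.span_induction
    (p := fun a _ => lam.1 ⟨s, Uinf_mono D c i₀ hVO hs⟩
        (trStalk (c.π.app k.left) (D.map k.hom) (c.π.app i₀) (c.w k.hom) A₀ s a) =
      trStalk (c.π.app k.left) (D.map k.hom) (c.π.app i₀) (c.w k.hom) B₀ s
        (mu.1 ⟨c.π.app k.left s, Uinf_le D c i₀ O k (Uinf_mono D c i₀ hVO hs)⟩ a))
    ?_ ?_ ?_ ?_ ha
  · rintro _ ⟨x, rfl⟩
    rw [hmu _ _ hyV x]
    rw [trStalk_germ (c.π.app k.left) (D.map k.hom) (c.π.app i₀) (c.w k.hom) A₀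
      (Uinf_le D c i₀ V k) s hs x]
    rw [trStalk_germ (c.π.app k.left) (D.map k.hom) (c.π.app i₀) (c.w k.hom) B₀
      (Uinf_le D c i₀ V k) s hs (ψ x)]
    have h1 := hT x
    change _ = ((Scheme.Modules.pullback (c.π.app i₀)).obj B₀).presheaf.germ (Uinf D c i₀ V) s hs
      (tauS D c i₀ V B₀ k (ψ x))
    rw [h1, germ_evSec]
    rfl
  · rw [trStalk_zero, map_zero, map_zero, trStalk_zero]
  · intro x y _ _ hx hy
    rw [trStalk_add, map_add, map_add, trStalk_add, hx, hy]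
  · intro r x _ hx
    rw [trStalk_smul, map_smul, map_smul, trStalk_smul, hx]

end Beta

end Groth.Agent.Lib.LimOH
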