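import Groth.Agent.Lib.LimOpenHom1_helper2

/-!
# Descent of isomorphisms over a quasi-compact open of a limit of schemes (helper2)

`exists_open_iso_lift`: over a cofiltered limit `S = lim S_i` with affine transition maps, a
stalkwise bijective family of stalk maps `π^*A₀ → π^*B₀` over the preimage of a quasi-compact
open `O` of a quasi-separated stage, where `A₀`, `B₀` are quasi-coherent with finitely presented
sections near the points of `O`, comes from a stalkwise bijective family at a stage.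
APPEND-ONLY once landed.
-/

set_option autoImplicit false
set_option maxHeartbeats 1000000
set_option linter.style.haveILetI false
set_option linter.unusedSectionVars false
set_option linter.unusedVariables false
universe u

open CategoryTheory CategoryTheory.Limits AlgebraicGeometry TopologicalSpace Opposite TensorProduct
open HomLinH8 RefHullH8 QcqsLoc SecOrdH8 QCohExtn
open Groth.Agent.Lib.LimMod Groth.Agent.Lib.StalkFam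

namespace Groth.Agent.Lib.LimOH

/-- The conjunction of two eventually true properties is eventually true. -/
theorem eventually_and {J : Type*} [Category J] [IsCofiltered J] {P Q : J → Prop}
    (hP : ∃ κ : J, ∀ (κ' : J) (γ : κ' ⟶ κ), P κ')
    (hQ : ∃ κ : J, ∀ (κ' : J) (γ : κ' ⟶ κ), Q κ') :
    ∃ κ : J, ∀ (κ' : J) (γ : κ' ⟶ κ), P κ' ∧ Q κ' := by
  obtain ⟨κ₁, h₁⟩ := hP
  obtain ⟨κ₂, h₂⟩ := hQ
  exact ⟨IsCofiltered.min κ₁ κ₂, fun κ' γ =>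
    ⟨h₁ κ' (γ ≫ IsCofiltered.minToLeft κ₁ κ₂), h₂ κ' (γ ≫ IsCofiltered.minToRight κ₁ κ₂)⟩⟩

section Main

variable {I : Type u} [SmallCategory I] [IsCofiltered I] (D : I ⥤ Scheme.{u}) (c : Cone D)
  (hc : IsLimit c) [∀ (i j : I) (f : i ⟶ j), IsAffineHom (D.map f)] (i₀ : I)
  (A₀ B₀ : (D.obj i₀).Modules) {O : (D.obj i₀).Opens}
  (lam : Γ(RefHull.homSh ((Scheme.Modules.pullback (c.π.app i₀)).obj A₀)
      ((Scheme.Modules.pullback (c.π.app i₀)).obj B₀), Uinf D c i₀ O))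

include hc in
/-- Step 1: the chart maps of `lam` lift to a common stage, eventually. -/
theorem eventually_lifts [B₀.IsQuasicoherent] (𝒱 : Set (D.obj i₀).Opens) (h𝒱fin : 𝒱.Finite)
    (h𝒱 : ∀ V ∈ 𝒱, IsAffineOpen V ∧ V ≤ O ∧
      Module.FinitePresentation Γ(D.obj i₀, V) Γ(A₀, V)) :
    ∃ k : Over i₀, ∀ (k' : Over i₀) (g : k' ⟶ k), ∀ V ∈ 𝒱,
      ∃ b : Γ(A₀, V) →+ Γ((Scheme.Modules.pullback (D.map k'.hom)).obj B₀, Uj D i₀ V k'),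
        (∀ (r : Γ(D.obj i₀, V)) (m : Γ(A₀, V)), b (r • m) = (rh D i₀ V k' r) • b m) ∧
          ∀ (hVO : V ≤ O) (m : Γ(A₀, V)),
            tauS D c i₀ V B₀ k' (b m) = betaO D c i₀ A₀ B₀ lam hVO m := by
  refine eventually_forall_finite (P := fun V (k' : Over i₀) =>
      ∃ b : Γ(A₀, V) →+ Γ((Scheme.Modules.pullback (D.map k'.hom)).obj B₀, Uj D i₀ V k'),
        (∀ (r : Γ(D.obj i₀, V)) (m : Γ(A₀, V)), b (r • m) = (rh D i₀ V k' r) • b m) ∧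
          ∀ (hVO : V ≤ O) (m : Γ(A₀, V)),
            tauS D c i₀ V B₀ k' (b m) = betaO D c i₀ A₀ B₀ lam hVO m)
    h𝒱fin (fun V hV => ?_)
  obtain ⟨hVaff, hVO, hfp⟩ := h𝒱 V hV
  haveI := hfp
  obtain ⟨k, hk⟩ := eventually_lift_sec' D c i₀ V B₀ hc hVaff A₀ (betaO D c i₀ A₀ B₀ lam hVO)
    (betaO_smul D c i₀ A₀ B₀ lam hVO)
  refine ⟨k, fun k' g => ?_⟩
  obtain ⟨b, hb1, hb2⟩ := hk k' g
  exact ⟨b, hb1, fun _ m => hb2 m⟩

include hc in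
/-- Step 3a: the compatibility defects of the chart lifts die at a later stage. -/
theorem eventually_kill_compat [B₀.IsQuasicoherent] (𝒱 : Set (D.obj i₀).Opens)
    (h𝒱fin : 𝒱.Finite) (h𝒱 : ∀ V ∈ 𝒱, IsAffineOpen V ∧ V ≤ O)
    (S : ∀ V : (D.obj i₀).Opens, Finset Γ(A₀, V)) (k₁ : Over i₀)
    (b1 : ∀ V : (D.obj i₀).Opens,
      Γ(A₀, V) →+ Γ((Scheme.Modules.pullback (D.map k₁.hom)).obj B₀, Uj D i₀ V k₁))
    (hb1l : ∀ V ∈ 𝒱, ∀ (hVO : V ≤ O) (m : Γ(A₀, V)),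
      tauS D c i₀ V B₀ k₁ (b1 V m) = betaO D c i₀ A₀ B₀ lam hVO m) :
    ∃ κ : Over k₁, ∀ (κ' : Over k₁) (γ : κ' ⟶ κ), ∀ O' ∈ 𝒱, ∀ U ∈ 𝒱, ∀ hOU : O' ≤ U,
      ∀ m ∈ (S U : Set Γ(A₀, U)),
      TrS D i₀ O' B₀ κ'.hom (b1 O' (rF A₀ hOU m) - rF _ (Uj_mono D i₀ hOU k₁) (b1 U m)) = 0 := by
  refine eventually_forall_finite (P := fun O' (κ' : Over k₁) => ∀ U ∈ 𝒱,
    ∀ hOU : O' ≤ U, ∀ m ∈ (S U : Set Γ(A₀, U)),
    TrS D i₀ O' B₀ κ'.hom (b1 O' (rF A₀ hOU m) - rF _ (Uj_mono D i₀ hOU k₁) (b1 U m)) = 0)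
    h𝒱fin (fun O' hO' => ?_)
  refine eventually_forall_finite (P := fun U (κ' : Over k₁) =>
    ∀ hOU : O' ≤ U, ∀ m ∈ (S U : Set Γ(A₀, U)),
    TrS D i₀ O' B₀ κ'.hom (b1 O' (rF A₀ hOU m) - rF _ (Uj_mono D i₀ hOU k₁) (b1 U m)) = 0)
    h𝒱fin (fun U hU => ?_)
  by_cases hOU : O' ≤ U
  · have hUO : U ≤ O := (h𝒱 U hU).2
    obtain ⟨κ, hκ⟩ := eventually_forall_finite (P := fun m (κ' : Over k₁) =>
      TrS D i₀ O' B₀ κ'.hom (b1 O' (rF A₀ hOU m) - rF _ (Uj_mono D i₀ hOU k₁) (b1 U m)) = 0)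
      (S U).finite_toSet (fun m hm =>
        eventually_TrS_eq_zero D c i₀ O' B₀ hc (h𝒱 O' hO').1 k₁ _
          (tauS_defectO D c i₀ A₀ B₀ lam hOU hUO k₁ (b1 O') (b1 U)
            (hb1l O' hO' (hOU.trans hUO)) (hb1l U hU hUO) m))
    exact ⟨κ, fun κ' γ _ m hm => hκ κ' γ m hm⟩
  · exact ⟨Over.mk (𝟙 k₁), fun κ' γ hOU' => absurd hOU' hOU⟩

include hc in
/-- Step 3b: the defects of `ψB ∘ ψA = id` on generators die at a later stage. -/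
theorem eventually_kill_inv [A₀.IsQuasicoherent] [B₀.IsQuasicoherent]
    (lam' : Γ(RefHull.homSh ((Scheme.Modules.pullback (c.π.app i₀)).obj B₀)
      ((Scheme.Modules.pullback (c.π.app i₀)).obj A₀), Uinf D c i₀ O))
    (hinv : ∀ (V : (D.obj i₀).Opens) (hVO : V ≤ O)
      (z : Γ((Scheme.Modules.pullback (c.π.app i₀)).obj A₀, Uinf D c i₀ V)),
      evSec (resSec (Uinf_mono D c i₀ hVO) lam')
        (evSec (resSec (Uinf_mono D c i₀ hVO) lam) z) = z)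
    (𝒱 : Set (D.obj i₀).Opens) (h𝒱fin : 𝒱.Finite) (h𝒱 : ∀ V ∈ 𝒱, IsAffineOpen V ∧ V ≤ O)
    (S : ∀ V : (D.obj i₀).Opens, Finset Γ(A₀, V)) (k₁ : Over i₀)
    (bA1 : ∀ V : (D.obj i₀).Opens,
      Γ(A₀, V) →+ Γ((Scheme.Modules.pullback (D.map k₁.hom)).obj B₀, Uj D i₀ V k₁))
    (hbA1l : ∀ V ∈ 𝒱, ∀ (hVO : V ≤ O) (m : Γ(A₀, V)),
      tauS D c i₀ V B₀ k₁ (bA1 V m) = betaO D c i₀ A₀ B₀ lam hVO m)
    (bB1 : ∀ V : (D.obj i₀).Opens,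
      Γ(B₀, V) →+ Γ((Scheme.Modules.pullback (D.map k₁.hom)).obj A₀, Uj D i₀ V k₁))
    (hbB1l : ∀ V ∈ 𝒱, ∀ (hVO : V ≤ O) (n : Γ(B₀, V)),
      tauS D c i₀ V A₀ k₁ (bB1 V n) = betaO D c i₀ B₀ A₀ lam' hVO n)
    (ψB1 : ∀ V : (D.obj i₀).Opens,
      Γ((Scheme.Modules.pullback (D.map k₁.hom)).obj B₀, Uj D i₀ V k₁) →ₗ[
        Γ(D.obj k₁.left, Uj D i₀ V k₁)]
        Γ((Scheme.Modules.pullback (D.map k₁.hom)).obj A₀, Uj D i₀ V k₁))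
    (hψB1 : ∀ V ∈ 𝒱, ∀ n, ψB1 V (PBH8.cUV (D.map k₁.hom) B₀ (le_refl _) n) = bB1 V n) :
    ∃ κ : Over k₁, ∀ (κ' : Over k₁) (γ : κ' ⟶ κ), ∀ V ∈ 𝒱, ∀ m ∈ (S V : Set Γ(A₀, V)),
      TrS D i₀ V A₀ κ'.hom
        (ψB1 V (bA1 V m) - PBH8.cUV (D.map k₁.hom) A₀ (le_refl _) m) = 0 := by
  refine eventually_forall_finite (P := fun V (κ' : Over k₁) => ∀ m ∈ (S V : Set Γ(A₀, V)),
    TrS D i₀ V A₀ κ'.hom
      (ψB1 V (bA1 V m) - PBH8.cUV (D.map k₁.hom) A₀ (le_refl _) m) = 0)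
    h𝒱fin (fun V hV => ?_)
  obtain ⟨hVaff, hVO⟩ := h𝒱 V hV
  refine eventually_forall_finite (P := fun m (κ' : Over k₁) =>
    TrS D i₀ V A₀ κ'.hom
      (ψB1 V (bA1 V m) - PBH8.cUV (D.map k₁.hom) A₀ (le_refl _) m) = 0)
    (S V).finite_toSet (fun m hm => ?_)
  refine eventually_TrS_eq_zero D c i₀ V A₀ hc hVaff k₁ _ ?_
  rw [tauS_sub, tauS_lin D c i₀ B₀ A₀ lam' hVaff hVO k₁ (bB1 V) (hbB1l V hV hVO) (ψB1 V)
    (hψB1 V hV), hbA1l V hV hVO, tauS_cUV, betaO_apply, hinv V hVO, sub_self]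

include hc in
/-- Steps 4–5: compatible chart linear maps at the later stage. -/
theorem exists_stage_lin [A₀.IsQuasicoherent] [B₀.IsQuasicoherent]
    (𝒱 : Set (D.obj i₀).Opens) (h𝒱 : ∀ V ∈ 𝒱, IsAffineOpen V ∧ V ≤ O)
    (S : ∀ V : (D.obj i₀).Opens, Finset Γ(A₀, V))
    (hS : ∀ V ∈ 𝒱, Submodule.span Γ(D.obj i₀, V) (S V : Set Γ(A₀, V)) = ⊤) (k₁ : Over i₀)
    (b1 : ∀ V : (D.obj i₀).Opens,
      Γ(A₀, V) →+ Γ((Scheme.Modules.pullback (D.map k₁.hom)).obj B₀, Uj D i₀ V k₁))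
    (hb1s : ∀ V ∈ 𝒱, ∀ (r : Γ(D.obj i₀, V)) (m : Γ(A₀, V)),
      b1 V (r • m) = (rh D i₀ V k₁ r) • b1 V m)
    (hb1l : ∀ V ∈ 𝒱, ∀ (hVO : V ≤ O) (m : Γ(A₀, V)),
      tauS D c i₀ V B₀ k₁ (b1 V m) = betaO D c i₀ A₀ B₀ lam hVO m)
    (κ : Over k₁)
    (hκ : ∀ O' ∈ 𝒱, ∀ U ∈ 𝒱, ∀ hOU : O' ≤ U, ∀ m ∈ (S U : Set Γ(A₀, U)),
      TrS D i₀ O' B₀ κ.hom (b1 O' (rF A₀ hOU m) - rF _ (Uj_mono D i₀ hOU k₁) (b1 U m)) = 0) :
    ∃ ψ : ∀ V : (D.obj i₀).Opens,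
      Γ((Scheme.Modules.pullback (D.map κ.left.hom)).obj A₀, Uj D i₀ V κ.left) →ₗ[
        Γ(D.obj κ.left.left, Uj D i₀ V κ.left)]
        Γ((Scheme.Modules.pullback (D.map κ.left.hom)).obj B₀, Uj D i₀ V κ.left),
      (∀ V ∈ 𝒱, ∀ m, ψ V (PBH8.cUV (D.map κ.left.hom) A₀ (le_refl _) m) =
        TrS D i₀ V B₀ κ.hom (b1 V m)) ∧
      (∀ O' ∈ 𝒱, ∀ U ∈ 𝒱, ∀ hOU : O' ≤ U, ∀ x,
        ψ O' (rF ((Scheme.Modules.pullback (D.map κ.left.hom)).obj A₀)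
          (Uj_mono D i₀ hOU κ.left) x) =
        rF ((Scheme.Modules.pullback (D.map κ.left.hom)).obj B₀) (Uj_mono D i₀ hOU κ.left)
          (ψ U x)) ∧
      (∀ V ∈ 𝒱, ∀ (hVO : V ≤ O) x, tauS D c i₀ V B₀ κ.left (ψ V x) =
        evSec (resSec (Uinf_mono D c i₀ hVO) lam) (tauS D c i₀ V A₀ κ.left x)) := by
  classical
  haveI hA' : ∀ {i j : I} (f : i ⟶ j), IsAffineHom (D.map f) := fun f => inferInstance
  obtain ⟨b2, hb2⟩ : ∃ b2 : ∀ V : (D.obj i₀).Opens,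
      Γ(A₀, V) →+ Γ((Scheme.Modules.pullback (D.map κ.left.hom)).obj B₀, Uj D i₀ V κ.left),
      ∀ V m, b2 V m = TrS D i₀ V B₀ κ.hom (b1 V m) :=
    ⟨fun V => AddMonoidHom.mk' (fun m => TrS D i₀ V B₀ κ.hom (b1 V m))
      (fun x y => by rw [map_add, TrS_add]), fun V m => rfl⟩
  have hb2s : ∀ V ∈ 𝒱, ∀ (r : Γ(D.obj i₀, V)) (m : Γ(A₀, V)),
      b2 V (r • m) = (rh D i₀ V κ.left r) • b2 V m := by
    intro V hV r m
    rw [hb2, hb2, hb1s V hV, TrS_smul]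
    have e : (tr D i₀ V κ.hom) ((rh D i₀ V k₁) r) = (rh D i₀ V κ.left) r :=
      congrArg (fun φ => φ.hom r) (rh_tr D i₀ V κ.hom)
    rw [e]
  have hb2l : ∀ V ∈ 𝒱, ∀ (hVO : V ≤ O) (m : Γ(A₀, V)),
      tauS D c i₀ V B₀ κ.left (b2 V m) = betaO D c i₀ A₀ B₀ lam hVO m := by
    intro V hV hVO m
    rw [hb2, tauS_TrS D c i₀ V B₀ hc (h𝒱 V hV).1, hb1l V hV hVO]
  have hb2c : ∀ O' ∈ 𝒱, ∀ U ∈ 𝒱, ∀ hOU : O' ≤ U, ∀ m : Γ(A₀, U),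
      b2 O' (rF A₀ hOU m) = rF _ (Uj_mono D i₀ hOU κ.left) (b2 U m) := by
    intro O' hO' U hU hOU m
    have hgen : ∀ m ∈ (S U : Set Γ(A₀, U)),
        b2 O' (rF A₀ hOU m) = rF _ (Uj_mono D i₀ hOU κ.left) (b2 U m) := by
      intro m hm
      have h0 := hκ O' hO' U hU hOU m hm
      rw [TrS_sub, sub_eq_zero, TrS_res D i₀ B₀ hOU κ.hom] at h0
      rw [hb2, hb2]
      exact h0
    have hm : m ∈ Submodule.span Γ(D.obj i₀, U) (S U : Set Γ(A₀, U)) := by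
      rw [hS U hU]
      trivial
    refine Submodule.span_induction
      (p := fun m _ => b2 O' (rF A₀ hOU m) = rF _ (Uj_mono D i₀ hOU κ.left) (b2 U m))
      ?_ ?_ ?_ ?_ hm
    · exact fun m hm => hgen m hm
    · rw [map_zero, map_zero, map_zero, map_zero]
    · intro x y _ _ hx hy
      rw [map_add, map_add, map_add, map_add, hx, hy]
    · intro r x _ hx
      rw [rF_smul, hb2s O' hO', hx, hb2s U hU, rF_smul, rh_res]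
  have hψ : ∀ V : (D.obj i₀).Opens, V ∈ 𝒱 →
      ∃ ψ : Γ((Scheme.Modules.pullback (D.map κ.left.hom)).obj A₀, Uj D i₀ V κ.left) →ₗ[
        Γ(D.obj κ.left.left, Uj D i₀ V κ.left)]
        Γ((Scheme.Modules.pullback (D.map κ.left.hom)).obj B₀, Uj D i₀ V κ.left),
        ∀ m, ψ (PBH8.cUV (D.map κ.left.hom) A₀ (le_refl _) m) = b2 V m :=
    fun V hV => exists_lin_of_semilinear (D.map κ.left.hom) (le_refl _)
      ((h𝒱 V hV).1.preimage (D.map κ.left.hom)) (h𝒱 V hV).1 A₀ _ (b2 V) (hb2s V hV)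
  choose! ψ hψ using hψ
  refine ⟨ψ, fun V hV m => by rw [hψ V hV, hb2], ?_, ?_⟩
  · intro O' hO' U hU hOU
    exact compat_of_gen (D.map κ.left.hom) (le_refl _) (le_refl _) (Uj_mono D i₀ hOU κ.left) hOU
      ((h𝒱 U hU).1.preimage (D.map κ.left.hom)) (h𝒱 U hU).1 A₀ _ (ψ U) (ψ O')
      (fun m => by rw [hψ O' hO', hψ U hU, hb2c O' hO' U hU hOU m])
  · intro V hV hVO x
    exact tauS_lin D c i₀ A₀ B₀ lam (h𝒱 V hV).1 hVO κ.left (b2 V) (hb2l V hV hVO) (ψ V)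
      (hψ V hV) x

include hc in
/-- **Descent of isomorphisms over a quasi-compact open.** -/
theorem exists_open_iso_lift [QuasiSeparatedSpace (D.obj i₀)]
    (hO : IsCompact (O : Set (D.obj i₀))) [A₀.IsQuasicoherent] [B₀.IsQuasicoherent]
    (hA : ∀ x ∈ O, FPAt A₀ x) (hB : ∀ x ∈ O, FPAt B₀ x)
    (hlam : ∀ y, Function.Bijective (lam.1 y)) :
    ∃ (k : Over i₀) (mu : Γ(RefHull.homSh ((Scheme.Modules.pullback (D.map k.hom)).obj A₀)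
        ((Scheme.Modules.pullback (D.map k.hom)).obj B₀), Uj D i₀ O k)),
      (∀ y, Function.Bijective (mu.1 y)) ∧
      ∀ (s : c.pt) (hs : s ∈ Uinf D c i₀ O)
        (a : ((Scheme.Modules.pullback (D.map k.hom)).obj A₀).presheaf.stalk
          (c.π.app k.left s)),
        lam.1 ⟨s, hs⟩
            (trStalk (c.π.app k.left) (D.map k.hom) (c.π.app i₀) (c.w k.hom) A₀ s a) =
          trStalk (c.π.app k.left) (D.map k.hom) (c.π.app i₀) (c.w k.hom) B₀ s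
            (mu.1 ⟨c.π.app k.left s, Uinf_le D c i₀ O k hs⟩ a) := by
  classical
  haveI hA' : ∀ {i j : I} (f : i ⟶ j), IsAffineHom (D.map f) := fun f => inferInstance
  haveI : Nonempty (Over i₀) := ⟨Over.mk (𝟙 i₀)⟩
  -- the inverse family
  obtain ⟨lam', hlam'⟩ : ∃ lam' : Γ(RefHull.homSh
      ((Scheme.Modules.pullback (c.π.app i₀)).obj B₀)
      ((Scheme.Modules.pullback (c.π.app i₀)).obj A₀), Uinf D c i₀ O),
      lam' = invSec lam hlam := ⟨_, rfl⟩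
  have hinvA : ∀ (V : (D.obj i₀).Opens) (hVO : V ≤ O)
      (z : Γ((Scheme.Modules.pullback (c.π.app i₀)).obj A₀, Uinf D c i₀ V)),
      evSec (resSec (Uinf_mono D c i₀ hVO) lam')
        (evSec (resSec (Uinf_mono D c i₀ hVO) lam) z) = z := by
    intro V hVO z
    apply evSec_unique
    intro y hy
    rw [germ_evSec, hlam']
    exact (invSec_apply_apply lam hlam ⟨y, Uinf_mono D c i₀ hVO hy⟩ _).symm
  have hinvB : ∀ (V : (D.obj i₀).Opens) (hVO : V ≤ O)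
      (z : Γ((Scheme.Modules.pullback (c.π.app i₀)).obj B₀, Uinf D c i₀ V)),
      evSec (resSec (Uinf_mono D c i₀ hVO) lam)
        (evSec (resSec (Uinf_mono D c i₀ hVO) lam') z) = z := by
    intro V hVO z
    apply evSec_unique
    intro y hy
    rw [germ_evSec, hlam']
    exact (apply_invSec_apply lam hlam ⟨y, Uinf_mono D c i₀ hVO hy⟩ _).symm
  -- the chart family
  obtain ⟨𝒱, Us, h𝒱fin, h𝒱P, hUs𝒱, hUscov, hUsref⟩ := exists_chart_family_on (D.obj i₀) O hO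
    (fun Q => Module.FinitePresentation Γ(D.obj i₀, Q) Γ(A₀, Q) ∧
      Module.FinitePresentation Γ(D.obj i₀, Q) Γ(B₀, Q))
    (fun x hx W hxW => by
      obtain ⟨Q₁, hQ₁, hxQ₁, hQ₁W, hfpA⟩ := (hA x hx).exists_le W hxW
      obtain ⟨Q₂, hQ₂, hxQ₂, hQ₂Q₁, hfpB⟩ := (hB x hx).exists_le Q₁ hxQ₁
      exact ⟨Q₂, hQ₂, hxQ₂, hQ₂Q₁.trans hQ₁W, fp_sections_of_le A₀ hQ₂ hQ₁ hQ₂Q₁ hfpA, hfpB⟩)
  have h𝒱aff : ∀ V ∈ 𝒱, IsAffineOpen V ∧ V ≤ O := fun V hV => ⟨(h𝒱P V hV).1, (h𝒱P V hV).2.1⟩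
  -- Step 1: lifts at a common stage
  obtain ⟨k₁, hk₁⟩ := eventually_and
    (eventually_lifts D c hc i₀ A₀ B₀ lam 𝒱 h𝒱fin
      (fun V hV => ⟨(h𝒱P V hV).1, (h𝒱P V hV).2.1, (h𝒱P V hV).2.2.1⟩))
    (eventually_lifts D c hc i₀ B₀ A₀ lam' 𝒱 h𝒱fin
      (fun V hV => ⟨(h𝒱P V hV).1, (h𝒱P V hV).2.1, (h𝒱P V hV).2.2.2⟩))
  have hbA := fun V hV => (hk₁ k₁ (𝟙 k₁)).1 V hV
  have hbB := fun V hV => (hk₁ k₁ (𝟙 k₁)).2 V hV
  choose! bA1 hbA1s hbA1l using hbA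
  choose! bB1 hbB1s hbB1l using hbB
  -- Step 2: finite generating sets
  have hSA : ∀ U : (D.obj i₀).Opens, U ∈ 𝒱 → ∃ S : Finset Γ(A₀, U),
      Submodule.span Γ(D.obj i₀, U) (S : Set Γ(A₀, U)) = ⊤ := by
    intro U hU
    haveI : Module.FinitePresentation Γ(D.obj i₀, U) Γ(A₀, U) := (h𝒱P U hU).2.2.1
    exact Module.Finite.fg_top
  choose! SA hSA using hSA
  have hSB : ∀ U : (D.obj i₀).Opens, U ∈ 𝒱 → ∃ S : Finset Γ(B₀, U),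
      Submodule.span Γ(D.obj i₀, U) (S : Set Γ(B₀, U)) = ⊤ := by
    intro U hU
    haveI : Module.FinitePresentation Γ(D.obj i₀, U) Γ(B₀, U) := (h𝒱P U hU).2.2.2
    exact Module.Finite.fg_top
  choose! SB hSB using hSB
  -- linear maps at the stage `k₁`
  have hψA1 : ∀ V : (D.obj i₀).Opens, V ∈ 𝒱 →
      ∃ ψ : Γ((Scheme.Modules.pullback (D.map k₁.hom)).obj A₀, Uj D i₀ V k₁) →ₗ[
        Γ(D.obj k₁.left, Uj D i₀ V k₁)]
        Γ((Scheme.Modules.pullback (D.map k₁.hom)).obj B₀, Uj D i₀ V k₁),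
        ∀ m, ψ (PBH8.cUV (D.map k₁.hom) A₀ (le_refl _) m) = bA1 V m :=
    fun V hV => exists_lin_of_semilinear (D.map k₁.hom) (le_refl _)
      ((h𝒱aff V hV).1.preimage (D.map k₁.hom)) (h𝒱aff V hV).1 A₀ _ (bA1 V) (hbA1s V hV)
  choose! ψA1 hψA1 using hψA1
  have hψB1 : ∀ V : (D.obj i₀).Opens, V ∈ 𝒱 →
      ∃ ψ : Γ((Scheme.Modules.pullback (D.map k₁.hom)).obj B₀, Uj D i₀ V k₁) →ₗ[
        Γ(D.obj k₁.left, Uj D i₀ V k₁)]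
        Γ((Scheme.Modules.pullback (D.map k₁.hom)).obj A₀, Uj D i₀ V k₁),
        ∀ m, ψ (PBH8.cUV (D.map k₁.hom) B₀ (le_refl _) m) = bB1 V m :=
    fun V hV => exists_lin_of_semilinear (D.map k₁.hom) (le_refl _)
      ((h𝒱aff V hV).1.preimage (D.map k₁.hom)) (h𝒱aff V hV).1 B₀ _ (bB1 V) (hbB1s V hV)
  choose! ψB1 hψB1 using hψB1
  -- Step 3: kill the defects
  obtain ⟨κ, hκ⟩ := eventually_and
    (eventually_and
      (eventually_kill_compat D c hc i₀ A₀ B₀ lam 𝒱 h𝒱fin h𝒱aff SA k₁ bA1 hbA1l)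
      (eventually_kill_compat D c hc i₀ B₀ A₀ lam' 𝒱 h𝒱fin h𝒱aff SB k₁ bB1 hbB1l))
    (eventually_and
      (eventually_kill_inv D c hc i₀ A₀ B₀ lam lam' hinvA 𝒱 h𝒱fin h𝒱aff SA k₁ bA1 hbA1l bB1
        hbB1l ψB1 hψB1)
      (eventually_kill_inv D c hc i₀ B₀ A₀ lam' lam hinvB 𝒱 h𝒱fin h𝒱aff SB k₁ bB1 hbB1l bA1
        hbA1l ψA1 hψA1))
  obtain ⟨⟨hκA, hκB⟩, hκiA, hκiB⟩ := hκ κ (𝟙 κ)
  -- Steps 4–5
  obtain ⟨ψA2, hψA2g, hψA2c, hψA2T⟩ := exists_stage_lin D c hc i₀ A₀ B₀ lam 𝒱 h𝒱aff SA hSA k₁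
    bA1 hbA1s hbA1l κ hκA
  obtain ⟨ψB2, hψB2g, hψB2c, hψB2T⟩ := exists_stage_lin D c hc i₀ B₀ A₀ lam' 𝒱 h𝒱aff SB hSB k₁
    bB1 hbB1s hbB1l κ hκB
  have hBA : ∀ V ∈ 𝒱, ∀ x, ψB2 V (ψA2 V x) = x := by
    intro V hV
    refine lin_comp_eq_id (D.map κ.left.hom) (le_refl _)
      ((h𝒱aff V hV).1.preimage (D.map κ.left.hom)) (h𝒱aff V hV).1 A₀
      ((ψB2 V).comp (ψA2 V)) (SA V : Set Γ(A₀, V)) (hSA V hV) (fun m hm => ?_)
    rw [LinearMap.comp_apply, hψA2g V hV m]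
    rw [TrS_lin D i₀ B₀ A₀ (h𝒱aff V hV).1 κ.hom (bB1 V) (ψB1 V) (hψB1 V hV) (ψB2 V)
      (hψB2g V hV) (bA1 V m)]
    have h0 := hκiA V hV m hm
    rw [TrS_sub, sub_eq_zero] at h0
    rw [h0, TrS_cUV]
  have hAB : ∀ V ∈ 𝒱, ∀ x, ψA2 V (ψB2 V x) = x := by
    intro V hV
    refine lin_comp_eq_id (D.map κ.left.hom) (le_refl _)
      ((h𝒱aff V hV).1.preimage (D.map κ.left.hom)) (h𝒱aff V hV).1 B₀
      ((ψA2 V).comp (ψB2 V)) (SB V : Set Γ(B₀, V)) (hSB V hV) (fun m hm => ?_)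
    rw [LinearMap.comp_apply, hψB2g V hV m]
    rw [TrS_lin D i₀ A₀ B₀ (h𝒱aff V hV).1 κ.hom (bA1 V) (ψA1 V) (hψA1 V hV) (ψA2 V)
      (hψA2g V hV) (bB1 V m)]
    have h0 := hκiB V hV m hm
    rw [TrS_sub, sub_eq_zero] at h0
    rw [h0, TrS_cUV]
  -- Step 6: glue
  obtain ⟨mu, hmu⟩ := exists_sec_of_charts
    ((Scheme.Modules.pullback (D.map κ.left.hom)).obj A₀)
    ((Scheme.Modules.pullback (D.map κ.left.hom)).obj B₀)
    (ι := {V : (D.obj i₀).Opens // V ∈ 𝒱}) (fun V => Uj D i₀ V.1 κ.left)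
    (fun V => (h𝒱aff V.1 V.2).1.preimage (D.map κ.left.hom)) (fun V => ψA2 V.1)
    (fun V => V.1 ∈ Us) (Uj D i₀ O κ.left)
    (fun x hx => by
      obtain ⟨U, hU, hxU⟩ := hUscov ((D.map κ.left.hom) x) hx
      exact ⟨⟨U, hUs𝒱 hU⟩, hU, hxU⟩)
    (fun V V' hV hV' x hx hx' => by
      obtain ⟨O', hO', hxO', hO'V, hO'V'⟩ := hUsref V.1 hV V'.1 hV' _ hx hx'
      exact ⟨⟨O', hO'⟩, hxO', Uj_mono D i₀ hO'V κ.left, Uj_mono D i₀ hO'V' κ.left,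
        hψA2c O' hO' V.1 V.2 hO'V, hψA2c O' hO' V'.1 V'.2 hO'V'⟩)
  obtain ⟨mu', hmu'⟩ := exists_sec_of_charts
    ((Scheme.Modules.pullback (D.map κ.left.hom)).obj B₀)
    ((Scheme.Modules.pullback (D.map κ.left.hom)).obj A₀)
    (ι := {V : (D.obj i₀).Opens // V ∈ 𝒱}) (fun V => Uj D i₀ V.1 κ.left)
    (fun V => (h𝒱aff V.1 V.2).1.preimage (D.map κ.left.hom)) (fun V => ψB2 V.1)
    (fun V => V.1 ∈ Us) (Uj D i₀ O κ.left)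
    (fun x hx => by
      obtain ⟨U, hU, hxU⟩ := hUscov ((D.map κ.left.hom) x) hx
      exact ⟨⟨U, hUs𝒱 hU⟩, hU, hxU⟩)
    (fun V V' hV hV' x hx hx' => by
      obtain ⟨O', hO', hxO', hO'V, hO'V'⟩ := hUsref V.1 hV V'.1 hV' _ hx hx'
      exact ⟨⟨O', hO'⟩, hxO', Uj_mono D i₀ hO'V κ.left, Uj_mono D i₀ hO'V' κ.left,
        hψB2c O' hO' V.1 V.2 hO'V, hψB2c O' hO' V'.1 V'.2 hO'V'⟩)
  refine ⟨κ.left, mu, ?_, ?_⟩
  · rintro ⟨y, hy⟩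
    obtain ⟨U, hU, hyU⟩ := hUscov ((D.map κ.left.hom) y) hy
    have hU𝒱 := hUs𝒱 hU
    have hUaff := (h𝒱aff U hU𝒱).1.preimage (D.map κ.left.hom)
    have hyU' : y ∈ Uj D i₀ U κ.left := hyU
    have h1 : (mu'.1 ⟨y, hy⟩).comp (mu.1 ⟨y, hy⟩) = LinearMap.id := by
      apply LinearMap.ext_on_range
        (span_germ_univ ((Scheme.Modules.pullback (D.map κ.left.hom)).obj A₀) hUaff hyU')
      intro x
      rw [LinearMap.comp_apply, LinearMap.id_apply]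
      rw [hmu ⟨U, hU𝒱⟩ hU y hy hyU' x, hmu' ⟨U, hU𝒱⟩ hU y hy hyU', hBA U hU𝒱]
    have h2 : (mu.1 ⟨y, hy⟩).comp (mu'.1 ⟨y, hy⟩) = LinearMap.id := by
      apply LinearMap.ext_on_range
        (span_germ_univ ((Scheme.Modules.pullback (D.map κ.left.hom)).obj B₀) hUaff hyU')
      intro x
      rw [LinearMap.comp_apply, LinearMap.id_apply]
      rw [hmu' ⟨U, hU𝒱⟩ hU y hy hyU' x, hmu ⟨U, hU𝒱⟩ hU y hy hyU', hAB U hU𝒱]
    exact Function.bijective_iff_has_inverse.mpr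
      ⟨mu'.1 ⟨y, hy⟩, fun a => LinearMap.congr_fun h1 a, fun b => LinearMap.congr_fun h2 b⟩
  · intro s hs a
    obtain ⟨U, hU, hsU⟩ := hUscov ((c.π.app i₀) s) hs
    have hU𝒱 := hUs𝒱 hU
    exact compat_at_of_chart D c i₀ A₀ B₀ lam κ.left mu (h𝒱aff U hU𝒱).1 (h𝒱aff U hU𝒱).2
      (ψA2 U) (fun y hy hyV x => hmu ⟨U, hU𝒱⟩ hU y hy hyV x)
      (hψA2T U hU𝒱 (h𝒱aff U hU𝒱).2) s hsU a

end Main

end Groth.Agent.Lib.LimOH
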