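import Mathlib
import Groth.Agent.Lib.LimTop_helper5

/-!
# Cofiltered limits of schemes along open immersions

For a cofiltered diagram of schemes whose transition maps are (affine) open immersions, with limit
`S`, the projections `S ⟶ S_i` are topological embeddings inducing isomorphisms on stalks.
-/

namespace Groth.Agent.LimOpenImm

open CategoryTheory Limits AlgebraicGeometry Topology

universe u

variable {I : Type u} [SmallCategory I] [IsCofiltered I] (D : I ⥤ Scheme.{u})
    [∀ (i j : I) (f : i ⟶ j), IsAffineHom (D.map f)] (c : Limits.Cone D) (hc : Limits.IsLimit c)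
    (hoi : ∀ (i j : I) (φ : i ⟶ j), IsOpenImmersion (D.map φ))

include hc hoi in
theorem injective_π (i : I) : Function.Injective (c.π.app i) := by
  intro s t h
  refine LimTop.point_ext D c hc s t fun j => ?_
  let k := IsCofiltered.min i j
  let a : k ⟶ i := IsCofiltered.minToLeft i j
  let b : k ⟶ j := IsCofiltered.minToRight i j
  have := hoi k i a
  have h1 : (D.map a) (c.π.app k s) = (D.map a) (c.π.app k t) := by
    rw [← Scheme.Hom.comp_apply, ← Scheme.Hom.comp_apply, c.w a]
    exact h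
  have h2 := (D.map a).isOpenEmbedding.injective h1
  rw [← c.w b, Scheme.Hom.comp_apply, Scheme.Hom.comp_apply, h2]

include hc hoi in
theorem isInducing_π (i : I) : IsInducing (c.π.app i) := by
  have hbasis := isBasis_preimage_isAffineOpen D c hc
  refine ⟨le_antisymm (continuous_iff_le_induced.mp (c.π.app i).continuous) ?_⟩
  rw [TopologicalSpace.le_def]
  intro W hW
  have key : ∀ x ∈ W, ∃ T : Set (D.obj i), IsOpen T ∧ x ∈ c.π.app i ⁻¹' T ∧
      c.π.app i ⁻¹' T ⊆ W := by
    intro x hx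
    obtain ⟨_, ⟨j, V, hV, rfl⟩, hxV, hVW⟩ :=
      TopologicalSpace.Opens.isBasis_iff_nbhd.mp hbasis (U := ⟨W, hW⟩) hx
    let k := IsCofiltered.min i j
    let a : k ⟶ i := IsCofiltered.minToLeft i j
    let b : k ⟶ j := IsCofiltered.minToRight i j
    have := hoi k i a
    have hpre : (c.π.app i) ⁻¹' ((D.map a) '' ((D.map b) ⁻¹' (V : Set (D.obj j)))) =
        (c.π.app j) ⁻¹' (V : Set (D.obj j)) := by
      ext y
      have e1 : (D.map a) (c.π.app k y) = c.π.app i y := by
        rw [← Scheme.Hom.comp_apply, c.w]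
      have e2 : (D.map b) (c.π.app k y) = c.π.app j y := by
        rw [← Scheme.Hom.comp_apply, c.w]
      simp only [Set.mem_preimage, Set.mem_image]
      constructor
      · rintro ⟨z, hz, hzy⟩
        have hzk : z = c.π.app k y := (D.map a).isOpenEmbedding.injective (hzy.trans e1.symm)
        subst hzk
        rw [← e2]; exact hz
      · intro hy
        exact ⟨c.π.app k y, by rw [e2]; exact hy, e1⟩
    refine ⟨(D.map a) '' ((D.map b) ⁻¹' (V : Set (D.obj j))),
      (D.map a).isOpenEmbedding.isOpenMap _ (V.isOpen.preimage (D.map b).continuous), ?_, ?_⟩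
    · rw [hpre]; exact hxV
    · rw [hpre]; exact hVW
  choose! T hT1 hT2 hT3 using key
  have hWeq : W = c.π.app i ⁻¹' (⋃ x ∈ W, T x) := by
    ext y
    simp only [Set.preimage_iUnion, Set.mem_iUnion, Set.mem_preimage]
    constructor
    · intro hy; exact ⟨y, hy, hT2 y hy⟩
    · rintro ⟨x, hx, hyx⟩; exact hT3 x hx hyx
  rw [hWeq]
  exact isOpen_induced_iff.mpr ⟨_, isOpen_biUnion fun x hx => hT1 x hx, rfl⟩

include hc hoi in
theorem isEmbedding_π (i : I) : IsEmbedding (c.π.app i) :=
  ⟨isInducing_π D c hc hoi i, injective_π D c hc hoi i⟩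

include hc hoi in
theorem isIso_stalkMap (i : I) (s : c.pt) : IsIso ((c.π.app i).stalkMap s) := by
  haveI : ∀ (i j : I) (φ : i ⟶ j), IsOpenImmersion (D.map φ) := hoi
  have hrange : ∀ (j : Over i), Set.range ((D.obj i).fromSpecStalk (c.π.app i s)) ⊆
      Set.range (D.map j.hom) := by
    intro j
    rw [Scheme.range_fromSpecStalk]
    intro y (hy : y ⤳ c.π.app i s)
    have hxr : c.π.app i s ∈ Set.range (D.map j.hom) :=
      ⟨c.π.app j.left s, by rw [← Scheme.Hom.comp_apply, c.w]⟩
    exact hy.mem_open (D.map j.hom).isOpenEmbedding.isOpen_range hxr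
  let leg : ∀ j : Over i, Spec ((D.obj i).presheaf.stalk (c.π.app i s)) ⟶ D.obj j.left :=
    fun j => IsOpenImmersion.lift (D.map j.hom) ((D.obj i).fromSpecStalk (c.π.app i s)) (hrange j)
  have leg_fac : ∀ j, leg j ≫ D.map j.hom = (D.obj i).fromSpecStalk (c.π.app i s) :=
    fun j => IsOpenImmersion.lift_fac _ _ _
  let cσ : Cone (Over.forget i ⋙ D) :=
    { pt := Spec ((D.obj i).presheaf.stalk (c.π.app i s))
      π :=
        { app := leg
          naturality := by
            intro j j' u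
            have e : leg j' = leg j ≫ D.map u.left := by
              rw [← cancel_mono (D.map j'.hom), Category.assoc, leg_fac, ← D.map_comp, Over.w u,
                leg_fac]
            exact (Category.id_comp _).trans e } }
  have hc' : IsLimit (c.whisker (Over.forget i)) :=
    (Functor.Initial.isLimitWhiskerEquiv (Over.forget i) c).symm hc
  let σ : Spec ((D.obj i).presheaf.stalk (c.π.app i s)) ⟶ c.pt := hc'.lift cσ
  have hσ : ∀ j : Over i, σ ≫ c.π.app j.left = leg j := fun j => hc'.fac cσ j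
  have hσi : σ ≫ c.π.app i = (D.obj i).fromSpecStalk (c.π.app i s) := by
    have h2 := leg_fac (Over.mk (𝟙 i))
    have e : D.map (Over.mk (𝟙 i)).hom = 𝟙 (D.obj i) := D.map_id i
    rw [e] at h2
    exact (hσ (Over.mk (𝟙 i))).trans ((Category.comp_id _).symm.trans h2)
  have hcp : σ (IsLocalRing.closedPoint _) = s := by
    apply injective_π D c hc hoi i
    rw [← Scheme.Hom.comp_apply, hσi]
    exact Scheme.fromSpecStalk_closedPoint
  have h2 : Spec.map ((c.π.app i).stalkMap s) ≫ σ = c.pt.fromSpecStalk s := by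
    refine hc'.hom_ext fun j => ?_
    show (Spec.map ((c.π.app i).stalkMap s) ≫ σ) ≫ c.π.app j.left =
      c.pt.fromSpecStalk s ≫ c.π.app j.left
    rw [← cancel_mono (D.map j.hom)]
    simp only [Category.assoc]
    rw [c.w, hσi]
    exact Scheme.SpecMap_stalkMap_fromSpecStalk (c.π.app i) (x := s)
  have hsp : σ (IsLocalRing.closedPoint _) ⤳ s := specializes_of_eq hcp
  let τ : c.pt.presheaf.stalk s ⟶ (D.obj i).presheaf.stalk (c.π.app i s) :=
    c.pt.presheaf.stalkSpecializes hsp ≫ Scheme.stalkClosedPointTo σ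
  have hτ : Spec.map τ ≫ c.pt.fromSpecStalk s = σ := by
    rw [Spec.map_comp, Category.assoc, Scheme.SpecMap_stalkSpecializes_fromSpecStalk,
      Scheme.Spec_stalkClosedPointTo_fromSpecStalk]
  have h3 : Spec.map ((c.π.app i).stalkMap s) ≫ (D.obj i).fromSpecStalk (c.π.app i s) =
      c.pt.fromSpecStalk s ≫ c.π.app i :=
    Scheme.SpecMap_stalkMap_fromSpecStalk (c.π.app i) (x := s)
  have e1 : (c.π.app i).stalkMap s ≫ τ = 𝟙 _ := by
    apply Spec.map_injective
    have h4 : Spec.map ((c.π.app i).stalkMap s ≫ τ) ≫ (D.obj i).fromSpecStalk (c.π.app i s) =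
        (D.obj i).fromSpecStalk (c.π.app i s) := by
      rw [Spec.map_comp, Category.assoc, h3, ← Category.assoc, hτ, hσi]
    rw [Spec.map_id]
    exact (cancel_mono ((D.obj i).fromSpecStalk (c.π.app i s))).mp
      (h4.trans (Category.id_comp _).symm)
  have e2 : τ ≫ (c.π.app i).stalkMap s = 𝟙 _ := by
    apply Spec.map_injective
    have h4 : Spec.map (τ ≫ (c.π.app i).stalkMap s) ≫ c.pt.fromSpecStalk s =
        c.pt.fromSpecStalk s := by
      rw [Spec.map_comp, Category.assoc, hτ, h2]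
    rw [Spec.map_id]
    exact (cancel_mono (c.pt.fromSpecStalk s)).mp (h4.trans (Category.id_comp _).symm)
  exact ⟨⟨τ, e1, e2⟩⟩

/-! ### Reducedness -/

include hc hoi in
theorem isReduced_pt (i : I) [IsReduced (D.obj i)] : IsReduced c.pt := by
  have : ∀ s : c.pt, _root_.IsReduced (c.pt.presheaf.stalk s) := by
    intro s
    have := isIso_stalkMap D c hc hoi i s
    exact isReduced_of_injective (inv ((c.π.app i).stalkMap s)).hom
      (ConcreteCategory.bijective_of_isIso (inv ((c.π.app i).stalkMap s))).injective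
  exact isReduced_of_isReduced_stalk c.pt

/-- Finitely many properties, each stable under precomposition and each satisfied somewhere in
a cofiltered category, are simultaneously satisfied somewhere. -/
theorem exists_common {C : Type*} [Category C] [IsCofiltered C] {α : Type*} (P : α → C → Prop)
    (hP : ∀ a k k' (_ : k' ⟶ k), P a k → P a k') (s : Set α) (hs : s.Finite)
    (h : ∀ a ∈ s, ∃ k, P a k) : ∃ k, ∀ a ∈ s, P a k := by
  induction s, hs using Set.Finite.induction_on with
  | empty => exact ⟨Classical.choice IsCofiltered.nonempty, by simp⟩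
  | @insert a s ha hs ih =>
    obtain ⟨k1, hk1⟩ := ih (fun a ha => h a (Set.mem_insert_of_mem _ ha))
    obtain ⟨k2, hk2⟩ := h _ (Set.mem_insert _ _)
    refine ⟨IsCofiltered.min k1 k2, ?_⟩
    rintro b (rfl | hb)
    · exact hP _ _ _ (IsCofiltered.minToRight _ _) hk2
    · exact hP _ _ _ (IsCofiltered.minToLeft _ _) (hk1 b hb)

theorem app_eq_zero_of_eq_comp {X Y Z : Scheme.{u}} (f : X ⟶ Y) (g : Y ⟶ Z) (h : X ⟶ Z)
    (e : h = f ≫ g) (U : Z.Opens) (s : Γ(Z, U)) (hs : g.app U s = 0) : h.app U s = 0 := by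
  subst e
  rw [Scheme.Hom.comp_app]
  show (f.app (g ⁻¹ᵁ U)) ((g.app U) s) = 0
  rw [hs, map_zero]

theorem isReduced_stalk_of_germ_nilradical_eq_zero {X : Scheme.{u}} {U : X.Opens}
    (hU : IsAffineOpen U) (x : X) (hx : x ∈ U)
    (h : ∀ g ∈ nilradical Γ(X, U), X.presheaf.germ U x hx g = 0) :
    _root_.IsReduced (X.presheaf.stalk x) := by
  letI := X.presheaf.algebra_section_stalk ⟨x, hx⟩
  have := hU.isLocalization_stalk ⟨x, hx⟩
  have e := IsLocalization.map_radical (hU.primeIdealOf ⟨x, hx⟩).asIdeal.primeCompl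
    (X.presheaf.stalk x) (⊥ : Ideal Γ(X, U))
  rw [Ideal.map_bot] at e
  have h0 : (⊥ : Ideal Γ(X, U)).radical.map (algebraMap Γ(X, U) (X.presheaf.stalk x)) = ⊥ := by
    rw [Ideal.map_eq_bot_iff_le_ker]
    intro g hg
    exact h g hg
  rw [h0] at e
  exact nilradical_eq_bot_iff.mp e.symm

include hc hoi in
theorem exists_isReduced_stage (i₀ : I) [CompactSpace (D.obj i₀)]
    (hN : ∀ U : (D.obj i₀).affineOpens, (nilradical Γ(D.obj i₀, U)).FG) [IsReduced c.pt] :
    ∃ k : Over i₀, IsReduced (D.obj k.left) := by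
  classical
  have h1 : ∀ (U : (D.obj i₀).affineOpens) (g : Γ(D.obj i₀, U)),
      g ∈ nilradical Γ(D.obj i₀, U) → ∃ k : Over i₀, (D.map k.hom).app U g = 0 := by
    intro U g hg
    have hz : (c.π.app i₀).app U g = 0 := by
      have hnil : IsNilpotent ((c.π.app i₀).app U g) :=
        (mem_nilradical.mp hg).map ((c.π.app i₀).app U).hom
      have hR : _root_.IsReduced Γ(c.pt, c.π.app i₀ ⁻¹ᵁ U.1) := inferInstance
      exact hR.eq_zero _ hnil
    obtain ⟨j, f, hf⟩ := exists_app_map_eq_zero_of_isLimit D c hc U.2.isCompact g hz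
    exact ⟨Over.mk f, hf⟩
  have hmono : ∀ (U : (D.obj i₀).affineOpens) (g : Γ(D.obj i₀, U)) (k k' : Over i₀)
      (_ : k' ⟶ k), (D.map k.hom).app U g = 0 → (D.map k'.hom).app U g = 0 := by
    intro U g k k' u h
    exact app_eq_zero_of_eq_comp (D.map u.left) (D.map k.hom) (D.map k'.hom)
      (by rw [← D.map_comp, Over.w u]) U g h
  have h2 : ∀ U : (D.obj i₀).affineOpens, ∃ k : Over i₀,
      ∀ g ∈ nilradical Γ(D.obj i₀, U), (D.map k.hom).app U g = 0 := by
    intro U
    obtain ⟨S, hS⟩ := hN U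
    obtain ⟨k, hk⟩ := exists_common (C := Over i₀)
      (fun (g : Γ(D.obj i₀, U)) k => (D.map k.hom).app U g = 0)
      (fun g k k' u h => hmono U g k k' u h) (S : Set _) S.finite_toSet
      (fun g hg => h1 U g (hS ▸ Ideal.subset_span hg))
    refine ⟨k, fun g hg => ?_⟩
    have hle : nilradical Γ(D.obj i₀, U) ≤ RingHom.ker ((D.map k.hom).app U).hom := by
      rw [← hS, Ideal.span_le]
      intro g hg
      exact hk g hg
    exact hle hg
  obtain ⟨t, ht, hcov⟩ := isCompact_and_isOpen_iff_finite_and_eq_biUnion_affineOpens.mp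
    ⟨(isCompact_univ : IsCompact (Set.univ : Set (D.obj i₀))), isOpen_univ⟩
  obtain ⟨k, hk⟩ := exists_common (C := Over i₀)
    (fun (U : (D.obj i₀).affineOpens) k =>
      ∀ g ∈ nilradical Γ(D.obj i₀, U), (D.map k.hom).app U g = 0)
    (fun U k k' u h g hg => hmono U g k k' u (h g hg)) t ht (fun U _ => h2 U)
  refine ⟨k, ?_⟩
  haveI := hoi _ _ k.hom
  have : ∀ y : D.obj k.left, _root_.IsReduced ((D.obj k.left).presheaf.stalk y) := by
    intro y
    have hy : (D.map k.hom) y ∈ (Set.univ : Set (D.obj i₀)) := trivial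
    rw [hcov] at hy
    simp only [Set.mem_iUnion] at hy
    obtain ⟨U, hUt, hyU⟩ := hy
    have hred : _root_.IsReduced ((D.obj i₀).presheaf.stalk ((D.map k.hom) y)) := by
      refine isReduced_stalk_of_germ_nilradical_eq_zero U.2 _ hyU fun g hg => ?_
      have hinj : Function.Injective ((D.map k.hom).stalkMap y) :=
        (ConcreteCategory.bijective_of_isIso _).injective
      apply hinj
      rw [Scheme.Hom.germ_stalkMap_apply, hk U hUt g hg, map_zero, map_zero]
    exact isReduced_of_injective (inv ((D.map k.hom).stalkMap y)).hom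
      (ConcreteCategory.bijective_of_isIso (inv ((D.map k.hom).stalkMap y))).injective
  exact isReduced_of_isReduced_stalk _

include hc hoi in
theorem isReduced_iff (i₀ : I) [CompactSpace (D.obj i₀)]
    (hN : ∀ U : (D.obj i₀).affineOpens, (nilradical Γ(D.obj i₀, U)).FG) :
    IsReduced c.pt ↔ ∃ (i : I) (_ : i ⟶ i₀), ∀ (j : I) (_ : j ⟶ i), IsReduced (D.obj j) := by
  constructor
  · intro h
    obtain ⟨k, hk⟩ := exists_isReduced_stage D c hc hoi i₀ hN
    refine ⟨k.left, k.hom, fun j φ => ?_⟩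
    haveI := hoi _ _ φ
    exact isReduced_of_isOpenImmersion (D.map φ)
  · rintro ⟨i, _, h⟩
    haveI := h i (𝟙 i)
    exact isReduced_pt D c hc hoi i

/-! ### Integrality -/

theorem irreducibleSpace_of_specializes {X : Type*} [TopologicalSpace X] (x : X)
    (h : ∀ y, x ⤳ y) : IrreducibleSpace X := by
  rw [irreducibleSpace_def]
  have : closure ({x} : Set X) = Set.univ :=
    Set.eq_univ_of_forall fun y => specializes_iff_mem_closure.mp (h y)
  show IsIrreducible (Set.univ : Set X)
  rw [← this]; exact isIrreducible_singleton.closure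

include hc hoi in
/-- A point of `S_i` lying in the image of every `S_j ⟶ S_i` comes from the limit. -/
theorem exists_point_of_mem_range (i : I) (x : D.obj i)
    (hx : ∀ j : Over i, x ∈ Set.range (D.map j.hom)) : ∃ s : c.pt, c.π.app i s = x := by
  haveI : ∀ (i j : I) (φ : i ⟶ j), IsOpenImmersion (D.map φ) := hoi
  have hc' : IsLimit (c.whisker (Over.forget i)) :=
    (Functor.Initial.isLimitWhiskerEquiv (Over.forget i) c).symm hc
  choose z hz using hx
  obtain ⟨s, hs⟩ := LimTop.exists_point (Over.forget i ⋙ D) (c.whisker (Over.forget i)) hc' z (by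
    intro j j' u
    apply (D.map j'.hom).isOpenEmbedding.injective
    show (D.map j'.hom) ((D.map u.left) (z j)) = _
    rw [← Scheme.Hom.comp_apply, ← D.map_comp, Over.w u, hz, hz])
  refine ⟨s, ?_⟩
  have h1 : c.π.app i s = z (Over.mk (𝟙 i)) := hs (Over.mk (𝟙 i))
  have h2 := hz (Over.mk (𝟙 i))
  have e : D.map (Over.mk (𝟙 i)).hom = 𝟙 (D.obj i) := D.map_id i
  rw [e] at h2
  rw [h1]
  simpa using h2

include hc hoi in
theorem isIntegral_pt (i : I) (h : ∀ (j : I) (_ : j ⟶ i), IsIntegral (D.obj j)) :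
    IsIntegral c.pt := by
  haveI : ∀ (i j : I) (φ : i ⟶ j), IsOpenImmersion (D.map φ) := hoi
  haveI := h i (𝟙 i)
  haveI : IsReduced c.pt := isReduced_pt D c hc hoi i
  obtain ⟨s₀, hs₀⟩ := exists_point_of_mem_range D c hc hoi i (genericPoint (D.obj i)) (by
    intro j
    haveI := h j.left j.hom
    have hopen : IsOpen (Set.range (D.map j.hom)) := (D.map j.hom).isOpenEmbedding.isOpen_range
    have hne : (Set.range (D.map j.hom)).Nonempty := Set.range_nonempty _
    exact ((genericPoint_spec (D.obj i)).mem_open_set_iff hopen).mpr (by simpa using hne))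
  haveI : IrreducibleSpace c.pt := irreducibleSpace_of_specializes s₀ (fun s => by
    rw [← (isInducing_π D c hc hoi i).specializes_iff, hs₀]
    exact genericPoint_specializes _)
  exact isIntegral_of_irreducibleSpace_of_isReduced c.pt

include hc hoi in
theorem exists_isIntegral_stage (i₀ : I) [IsNoetherian (D.obj i₀)] [IsIntegral c.pt] :
    ∃ k : Over i₀, ∀ (j : I) (_ : j ⟶ k.left), IsIntegral (D.obj j) := by
  classical
  haveI : ∀ (i j : I) (φ : i ⟶ j), IsOpenImmersion (D.map φ) := hoi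
  obtain ⟨k₁, hk₁⟩ := exists_isReduced_stage D c hc hoi i₀ (fun U => by
    haveI : IsNoetherianRing Γ(D.obj i₀, U) := IsLocallyNoetherian.component_noetherian U
    exact IsNoetherian.noetherian _)
  have hmem : ∀ (s : c.pt) (j : Over i₀), c.π.app i₀ s ∈ Set.range (D.map j.hom) :=
    fun s j => ⟨c.π.app j.left s, by rw [← Scheme.Hom.comp_apply, c.w]⟩
  have hgen : ∀ (s : c.pt) (y : D.obj i₀), y ⤳ c.π.app i₀ s →
      ∃ s' : c.pt, c.π.app i₀ s' = y := by
    intro s y hy
    refine exists_point_of_mem_range D c hc hoi i₀ y fun j => ?_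
    exact hy.mem_open (D.map j.hom).isOpenEmbedding.isOpen_range (hmem s j)
  obtain ⟨x, hxdef⟩ : ∃ x, x = c.π.app i₀ (genericPoint c.pt) := ⟨_, rfl⟩
  have hspec : ∀ s : c.pt, x ⤳ c.π.app i₀ s := fun s => by
    rw [hxdef]; exact (genericPoint_specializes s).map (c.π.app i₀).continuous
  have hcomp : ∀ Z' ∈ irreducibleComponents (D.obj i₀), x ∈ Z' → Z' = closure {x} := by
    intro Z' hZ' hxZ'
    obtain ⟨y', hy'⟩ := QuasiSober.sober hZ'.1 (isClosed_of_mem_irreducibleComponents Z' hZ')
    have h1 : y' ⤳ x := by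
      rw [specializes_iff_mem_closure, hy'.def]; exact hxZ'
    obtain ⟨s', hs'⟩ := hgen (genericPoint c.pt) y' (by rw [← hxdef]; exact h1)
    have h2 : x ⤳ y' := hs' ▸ hspec s'
    have hxy : x = y' := (h2.antisymm h1).eq
    rw [hxy, hy'.def]
  obtain ⟨𝒲, h𝒲⟩ : ∃ 𝒲 : Set (Set (D.obj i₀)),
      𝒲 = {Z' | Z' ∈ irreducibleComponents (D.obj i₀) ∧ x ∉ Z'} := ⟨_, rfl⟩
  have hWc : IsClosed (⋃₀ 𝒲) := by
    rw [Set.sUnion_eq_biUnion]
    refine Set.Finite.isClosed_biUnion ?_ fun Z' hZ' => ?_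
    · exact (TopologicalSpace.NoetherianSpace.finite_irreducibleComponents).subset
        fun Z' hZ' => by rw [h𝒲] at hZ'; exact hZ'.1
    · rw [h𝒲] at hZ'; exact isClosed_of_mem_irreducibleComponents Z' hZ'.1
  have hB : ∀ s : c.pt, c.π.app i₀ s ∉ ⋃₀ 𝒲 := by
    rintro s ⟨Z', hZ'𝒲, hsZ'⟩
    rw [h𝒲] at hZ'𝒲
    obtain ⟨hZ', hxZ'⟩ := hZ'𝒲
    obtain ⟨y', hy'⟩ := QuasiSober.sober hZ'.1 (isClosed_of_mem_irreducibleComponents Z' hZ')
    have h1 : y' ⤳ c.π.app i₀ s := by
      rw [specializes_iff_mem_closure, hy'.def]; exact hsZ'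
    obtain ⟨s', hs'⟩ := hgen s y' h1
    have h2 : x ⤳ y' := hs' ▸ hspec s'
    have hle : Z' ≤ closure {x} := by
      rw [← hy'.def]
      exact closure_minimal (Set.singleton_subset_iff.mpr (specializes_iff_mem_closure.mp h2))
        isClosed_closure
    have hge : closure {x} ≤ Z' := hZ'.2 isIrreducible_singleton.closure hle
    exact hxZ' (hge (subset_closure (Set.mem_singleton x)))
  have hc' : IsLimit (c.whisker (Over.forget i₀)) :=
    (Functor.Initial.isLimitWhiskerEquiv (Over.forget i₀) c).symm hc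
  haveI : ∀ {j j' : Over i₀} (f : j ⟶ j'), IsAffineHom ((Over.forget i₀ ⋙ D).map f) :=
    fun f => inferInstanceAs (IsAffineHom (D.map f.left))
  haveI : ∀ j : Over i₀, CompactSpace ((Over.forget i₀ ⋙ D).obj j) :=
    fun j => QuasiCompact.compactSpace_of_compactSpace (D.map j.hom)
  obtain ⟨j, fji, hj⟩ := exists_map_eq_top (Over.forget i₀ ⋙ D) (c.whisker (Over.forget i₀)) hc'
    (i := Over.mk (𝟙 i₀)) (⟨(⋃₀ 𝒲)ᶜ, hWc.isOpen_compl⟩ : (D.obj i₀).Opens)
    (TopologicalSpace.Opens.ext (Set.eq_univ_of_forall fun s => hB s))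
  have hfji : fji.left = j.hom := by simpa using Over.w fji
  have hj' : ∀ w : D.obj j.left, (D.map j.hom) w ∉ ⋃₀ 𝒲 := by
    intro w
    have hw : w ∈ (⊤ : ((Over.forget i₀ ⋙ D).obj j).Opens) := trivial
    rw [← hj] at hw
    have hw2 : (D.map fji.left) w ∉ ⋃₀ 𝒲 := hw
    rwa [hfji] at hw2
  let k := IsCofiltered.min k₁ j
  let a : k ⟶ k₁ := IsCofiltered.minToLeft k₁ j
  let b : k ⟶ j := IsCofiltered.minToRight k₁ j
  refine ⟨k, fun j' φ => ?_⟩
  haveI := hk₁
  haveI : IsReduced (D.obj j') := isReduced_of_isOpenImmersion (D.map (φ ≫ a.left))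
  obtain ⟨x', hx'⟩ := hmem (genericPoint c.pt) (Over.mk (φ ≫ k.hom))
  haveI : IrreducibleSpace (D.obj j') := irreducibleSpace_of_specializes x' (fun z => by
    rw [← (D.map (φ ≫ k.hom)).isOpenEmbedding.isInducing.specializes_iff]
    have hx'' : (D.map (φ ≫ k.hom)) x' = x := by rw [hxdef]; exact hx'
    rw [hx'']
    have hz : (D.map (φ ≫ k.hom)) z ∉ ⋃₀ 𝒲 := by
      have e : φ ≫ k.hom = (φ ≫ b.left) ≫ j.hom := by rw [Category.assoc, Over.w b]
      rw [e, D.map_comp, Scheme.Hom.comp_apply]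
      exact hj' _
    have hu : (D.map (φ ≫ k.hom)) z ∈ ⋃₀ irreducibleComponents (D.obj i₀) := by
      rw [sUnion_irreducibleComponents]; trivial
    obtain ⟨Z', hZ', hzZ'⟩ := hu
    have hxZ' : x ∈ Z' := by
      by_contra hcon
      exact hz ⟨Z', by rw [h𝒲]; exact ⟨hZ', hcon⟩, hzZ'⟩
    rw [hcomp Z' hZ' hxZ'] at hzZ'
    exact specializes_iff_mem_closure.mpr hzZ')
  exact isIntegral_of_irreducibleSpace_of_isReduced _

include hc hoi in
theorem isIntegral_iff (i₀ : I) [IsNoetherian (D.obj i₀)] :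
    IsIntegral c.pt ↔
      ∃ (i : I) (_ : i ⟶ i₀), ∀ (j : I) (_ : j ⟶ i), IsIntegral (D.obj j) := by
  constructor
  · intro h
    obtain ⟨k, hk⟩ := exists_isIntegral_stage D c hc hoi i₀
    exact ⟨k.left, k.hom, hk⟩
  · rintro ⟨i, _, h⟩
    exact isIntegral_pt D c hc hoi i h

end Groth.Agent.LimOpenImm
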