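import Mathlib
import Groth.Agent.Lib.LimConstr_helper9
import Groth.Agent.Lib.SchPbPoints_helper7

/-!
# Open maps and cofiltered limits of schemes (helper9)
-/

set_option autoImplicit false
set_option backward.isDefEq.respectTransparency false
universe u
open CategoryTheory CategoryTheory.Limits AlgebraicGeometry Topology TopologicalSpace
open MorphismProperty

namespace Groth.Agent.Lib.LimOpen
open Groth.Agent.Lib.LimConstr Groth.Agent.Lib.LimBaseChangeH7

/-- If `f ≫ g` is universally open and `f` is surjective then `g` is universally open. -/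
theorem universallyOpen_of_comp_surjective {X Y Z : Scheme.{u}} (f : X ⟶ Y) (g : Y ⟶ Z)
    [Surjective f] [UniversallyOpen (f ≫ g)] : UniversallyOpen g := by
  rw [UniversallyOpen.eq]
  refine universally_mk' _ g ?_
  intro T t _
  let m : pullback t (f ≫ g) ⟶ pullback t g :=
    pullback.lift (pullback.fst _ _) (pullback.snd _ _ ≫ f)
      (by rw [pullback.condition, Category.assoc])
  have hm1 : m ≫ pullback.fst t g = pullback.fst t (f ≫ g) := pullback.lift_fst _ _ _
  have hm2 : m ≫ pullback.snd t g = pullback.snd t (f ≫ g) ≫ f := pullback.lift_snd _ _ _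
  have hsq : IsPullback m (pullback.snd t (f ≫ g)) (pullback.snd t g) f := by
    refine IsPullback.of_right ?_ hm2 (IsPullback.of_hasPullback t g)
    rw [hm1]
    exact IsPullback.of_hasPullback t (f ≫ g)
  haveI : Surjective m := MorphismProperty.of_isPullback (P := @Surjective) hsq.flip inferInstance
  have hopen : IsOpenMap (pullback.fst t (f ≫ g)) := (pullback.fst t (f ≫ g)).isOpenMap
  intro V hV
  have e : (pullback.fst t g) '' V = (pullback.fst t (f ≫ g)) '' (m ⁻¹' V) := by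
    ext y
    constructor
    · rintro ⟨v, hv, rfl⟩
      obtain ⟨w, rfl⟩ := m.surjective v
      refine ⟨w, hv, ?_⟩
      rw [← hm1, Scheme.Hom.comp_apply]
    · rintro ⟨w, hw, rfl⟩
      refine ⟨m w, hw, ?_⟩
      rw [← hm1, Scheme.Hom.comp_apply]
  rw [e]
  exact hopen _ (hV.preimage m.continuous)

section Limit

variable {I : Type u} [SmallCategory I] [IsCofiltered I] (D : I ⥤ Scheme.{u}) (c : Cone D)
  (hc : IsLimit c) [hA : ∀ (i j : I) (f : i ⟶ j), IsAffineHom (D.map f)]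

include hc in
/-- S4765. -/
theorem isOpenMap_π_iff (i : I) (hs : ∀ (j : I) (_ : j ⟶ i), Surjective (c.π.app j)) :
    IsOpenMap (c.π.app i) ↔ ∀ (j : I) (φ : j ⟶ i), IsOpenMap (D.map φ) := by
  haveI hA' : ∀ {i j : I} (f : i ⟶ j), IsAffineHom (D.map f) := fun f => inferInstance
  have key : ∀ (j : I) (φ : j ⟶ i) (V : Set (D.obj j)),
      (D.map φ) '' V = (c.π.app i) '' ((c.π.app j) ⁻¹' V) := by
    intro j φ V
    ext y
    constructor
    · rintro ⟨v, hv, rfl⟩
      obtain ⟨x, rfl⟩ := (hs j φ).surj v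
      exact ⟨x, hv, (map_π_apply D c φ x).symm⟩
    · rintro ⟨x, hx, rfl⟩
      exact ⟨c.π.app j x, hx, map_π_apply D c φ x⟩
  constructor
  · intro h j φ V hV
    rw [key j φ V]
    exact h _ (hV.preimage (c.π.app j).continuous)
  · intro h U hU
    have hb : ∀ (U : Opens c.pt) (x : c.pt), x ∈ U →
        ∃ U' ∈ {x : Opens c.pt | ∃ (i : I) (V : (D.obj i).Opens) (_ : IsAffineOpen V),
          c.π.app i ⁻¹ᵁ V = x}, x ∈ U' ∧ U' ≤ U :=
      fun U x hx => Opens.isBasis_iff_nbhd.mp (isBasis_preimage_isAffineOpen D c hc) hx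
    rw [isOpen_iff_forall_mem_open]
    rintro _ ⟨x, hxU, rfl⟩
    obtain ⟨_, ⟨j, A, -, rfl⟩, hxA, hAU⟩ := hb ⟨U, hU⟩ x hxU
    let k := IsCofiltered.min j i
    let a : k ⟶ j := IsCofiltered.minToLeft j i
    let φ : k ⟶ i := IsCofiltered.minToRight j i
    refine ⟨(D.map φ) '' ((D.map a) ⁻¹' (A : Set (D.obj j))), ?_,
      h k φ _ (A.isOpen.preimage (D.map a).continuous), ?_⟩
    · rw [key k φ, preimage_π_preimage_map]
      exact Set.image_mono (fun z hz => hAU hz)
    · refine ⟨c.π.app k x, ?_, map_π_apply D c φ x⟩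
      show (D.map a) (c.π.app k x) ∈ A
      rw [map_π_apply]
      exact hxA

include hc in
/-- S4766. -/
theorem universallyOpen_π_iff (i : I) (hs : ∀ (j : I) (_ : j ⟶ i), Surjective (c.π.app j)) :
    UniversallyOpen (c.π.app i) ↔ ∀ (j : I) (φ : j ⟶ i), UniversallyOpen (D.map φ) := by
  constructor
  · intro h j φ
    haveI := hs j φ
    haveI : UniversallyOpen (c.π.app j ≫ D.map φ) := by rw [c.w]; exact h
    exact universallyOpen_of_comp_surjective (c.π.app j) (D.map φ)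
  · intro h
    rw [UniversallyOpen.eq]
    refine universally_mk' _ _ ?_
    intro T xi _
    have hX := IsPullback.of_hasPullback xi (c.π.app i)
    have hcX := isLimitBcCone c hX hc
    haveI : ∀ (j k : Over i) (f : j ⟶ k), IsAffineHom ((bcDiagram D i xi).map f) :=
      fun _ _ f => inferInstance
    have hopen : IsOpenMap ((bcCone c hX).π.app (Over.mk (𝟙 i))) := by
      refine (isOpenMap_π_iff (bcDiagram D i xi) (bcCone c hX) hcX (Over.mk (𝟙 i)) ?_).mpr ?_
      · intro j _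
        haveI := hs j.left j.hom
        exact MorphismProperty.of_isPullback (P := @Surjective)
          (isPullback_bcCone_π c hX j).flip inferInstance
      · intro j φ
        haveI : UniversallyOpen (D.map φ.left) := h j.left φ.left
        haveI : UniversallyOpen ((bcDiagram D i xi).map φ) :=
          MorphismProperty.of_isPullback (P := @UniversallyOpen)
            (isPullback_map D i xi φ).flip inferInstance
        exact ((bcDiagram D i xi).map φ).isOpenMap
    have e : pullback.fst xi (c.π.app i) =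
        (bcCone c hX).π.app (Over.mk (𝟙 i)) ≫ pullback.fst xi (D.map (𝟙 i)) :=
      (bcCone_π_fst c hX _).symm
    haveI : IsIso (D.map (𝟙 i)) := by rw [D.map_id]; infer_instance
    haveI : IsOpenImmersion (pullback.fst xi (D.map (𝟙 i))) := inferInstance
    show IsOpenMap (pullback.fst xi (c.π.app i))
    rw [e]
    exact (pullback.fst xi (D.map (𝟙 i))).isOpenEmbedding.isOpenMap.comp hopen

include hc in
/-- S4779. -/
theorem isOpenMap_of_stages (i₀ : I)
    {X₀ Y₀ : Scheme.{u}} (f₀ : X₀ ⟶ Y₀) (g₀ : Y₀ ⟶ D.obj i₀)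
    {X Y : Scheme.{u}} (f : X ⟶ Y) (g : Y ⟶ c.pt) (qY : Y ⟶ Y₀) (qX : X ⟶ X₀)
    (hY : IsPullback qY g g₀ (c.π.app i₀)) (hX : IsPullback qX f f₀ qY)
    (h : ∃ (i : I) (φ : i ⟶ i₀), ∀ (j : I) (ψ : j ⟶ i) (Xj Yj : Scheme.{u}) (fj : Xj ⟶ Yj)
      (gj : Yj ⟶ D.obj j) (pY : Yj ⟶ Y₀) (pX : Xj ⟶ X₀),
      IsPullback pY gj g₀ (D.map (ψ ≫ φ)) → IsPullback pX fj f₀ pY → IsOpenMap fj) :
    IsOpenMap f := by
  haveI hA' : ∀ {i j : I} (f : i ⟶ j), IsAffineHom (D.map f) := fun f => inferInstance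
  obtain ⟨i, φ, h⟩ := h
  have hXY : IsPullback qX (f ≫ g) (f₀ ≫ g₀) (c.π.app i₀) := hX.paste_vert hY
  have hcX := isLimitBcCone c hXY hc
  haveI : ∀ (j k : Over i₀) (f : j ⟶ k), IsAffineHom ((bcDiagram D i₀ (f₀ ≫ g₀)).map f) :=
    fun _ _ f => inferInstance
  -- stage maps
  let fs : ∀ j : Over i₀, pullback (f₀ ≫ g₀) (D.map j.hom) ⟶ pullback g₀ (D.map j.hom) := fun j =>
    pullback.lift (pullback.fst _ _ ≫ f₀) (pullback.snd _ _)
      (by rw [Category.assoc, pullback.condition])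
  have hfs1 : ∀ j : Over i₀, fs j ≫ pullback.fst g₀ (D.map j.hom) =
      pullback.fst (f₀ ≫ g₀) (D.map j.hom) ≫ f₀ := fun j => pullback.lift_fst _ _ _
  have hfs2 : ∀ j : Over i₀, fs j ≫ pullback.snd g₀ (D.map j.hom) =
      pullback.snd (f₀ ≫ g₀) (D.map j.hom) := fun j => pullback.lift_snd _ _ _
  have hsq1 : ∀ j : Over i₀, IsPullback (pullback.fst (f₀ ≫ g₀) (D.map j.hom)) (fs j) f₀
      (pullback.fst g₀ (D.map j.hom)) := by
    intro j
    refine IsPullback.of_bot ?_ (hfs1 j).symm (IsPullback.of_hasPullback g₀ (D.map j.hom))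
    rw [hfs2 j]
    exact IsPullback.of_hasPullback (f₀ ≫ g₀) (D.map j.hom)
  have hcompat : ∀ j : Over i₀, (bcCone c hXY).π.app j ≫ fs j = f ≫ (bcCone c hY).π.app j := by
    intro j
    apply pullback.hom_ext
    · rw [Category.assoc, hfs1 j, bcCone_π_fst_assoc, Category.assoc, bcCone_π_fst, hX.w]
    · rw [Category.assoc, hfs2 j, bcCone_π_snd, Category.assoc, Category.assoc, bcCone_π_snd]
  have hsq2 : ∀ j : Over i₀, IsPullback ((bcCone c hXY).π.app j) f (fs j)
      ((bcCone c hY).π.app j) := by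
    intro j
    refine IsPullback.of_right ?_ (hcompat j) (hsq1 j)
    rw [bcCone_π_fst, bcCone_π_fst]
    exact hX
  intro U hU
  have hb : ∀ (U : Opens X) (x : X), x ∈ U →
      ∃ U' ∈ {x : Opens X | ∃ (j : Over i₀) (V : ((bcDiagram D i₀ (f₀ ≫ g₀)).obj j).Opens)
        (_ : IsAffineOpen V), (bcCone c hXY).π.app j ⁻¹ᵁ V = x}, x ∈ U' ∧ U' ≤ U :=
    fun U x hx => Opens.isBasis_iff_nbhd.mp
      (isBasis_preimage_isAffineOpen (bcDiagram D i₀ (f₀ ≫ g₀)) (bcCone c hXY) hcX) hx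
  rw [isOpen_iff_forall_mem_open]
  rintro _ ⟨x, hxU, rfl⟩
  obtain ⟨_, ⟨j, A, -, rfl⟩, hxA, hAU⟩ := hb ⟨U, hU⟩ x hxU
  obtain ⟨l, a, b, hab⟩ := IsCofiltered.cospan j.hom φ
  let k : Over i₀ := Over.mk (b ≫ φ)
  let α : k ⟶ j := Over.homMk a hab
  have hopen : IsOpenMap (fs k) :=
    h l b _ _ (fs k) (pullback.snd g₀ (D.map k.hom)) (pullback.fst g₀ (D.map k.hom))
      (pullback.fst (f₀ ≫ g₀) (D.map k.hom)) (IsPullback.of_hasPullback g₀ (D.map (b ≫ φ)))
      (hsq1 k)
  let Ak : Set ((bcDiagram D i₀ (f₀ ≫ g₀)).obj k) :=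
    ((bcDiagram D i₀ (f₀ ≫ g₀)).map α) ⁻¹' (A : Set ((bcDiagram D i₀ (f₀ ≫ g₀)).obj j))
  have hAk : IsOpen Ak := A.isOpen.preimage ((bcDiagram D i₀ (f₀ ≫ g₀)).map α).continuous
  have hpre : ((bcCone c hXY).π.app k) ⁻¹' Ak =
      ((bcCone c hXY).π.app j) ⁻¹' (A : Set ((bcDiagram D i₀ (f₀ ≫ g₀)).obj j)) :=
    preimage_π_preimage_map (bcDiagram D i₀ (f₀ ≫ g₀)) (bcCone c hXY) α _
  have e : f '' (((bcCone c hXY).π.app k) ⁻¹' Ak) =
      ((bcCone c hY).π.app k) ⁻¹' ((fs k) '' Ak) := by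
    ext y
    constructor
    · rintro ⟨x', hx', rfl⟩
      refine ⟨(bcCone c hXY).π.app k x', hx', ?_⟩
      have h1 := Scheme.Hom.comp_apply ((bcCone c hXY).π.app k) (fs k) x'
      have h2 := Scheme.Hom.comp_apply f ((bcCone c hY).π.app k) x'
      rw [hcompat k] at h1
      exact h1.symm.trans h2
    · rintro ⟨a', ha', hy⟩
      obtain ⟨z, hz1, hz2⟩ := SchPbPointsH7.exists_of_isPullback (hsq2 k) a' y hy
      exact ⟨z, by rw [Set.mem_preimage, hz1]; exact ha', hz2⟩
  refine ⟨f '' (((bcCone c hXY).π.app k) ⁻¹' Ak), ?_, ?_, ?_⟩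
  · rw [hpre]
    exact Set.image_mono (fun z hz => hAU hz)
  · rw [e]
    exact (hopen _ hAk).preimage ((bcCone c hY).π.app k).continuous
  · refine ⟨x, ?_, rfl⟩
    rw [hpre]
    exact hxA

end Limit

end Groth.Agent.Lib.LimOpen
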