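import Groth.Agent.Lib.LimModMain1_helper2
import Groth.Agent.Lib.LimFlatGeo_helper2
import Groth.Agent.Lib.LimBaseChange_helper7
import Groth.Agent.Lib.Fpqc1_helper8
import Groth.Agent.Lib.Desc5_helper8
import Groth.Prelude.Def_FlatFun

/-!
# Limit preserving flattening functors (helper2)

* `isLimitPreserving_genPSp`: a sub-presheaf of the final presheaf generated by a condition `P`
  stable under base change is limit preserving as soon as `P` descends from a limit of affine
  schemes to a stage.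
* `isPullback_XTmap`: the base change squares of `PicF.XT`.
* `isLimitPreserving_of_eventually`: the generic statement for a property of the base change of a
  morphism of modules.
* `main9019` (`F_zero`), `main9018` (`F_surj`), `main9020` (`F_iso`), `main9013` (`F_flat`).
APPEND-ONLY once landed.
-/

set_option autoImplicit false
set_option maxHeartbeats 1000000
set_option linter.style.haveILetI false
set_option linter.unusedSectionVars false
set_option linter.unusedVariables false
universe u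

open CategoryTheory CategoryTheory.Limits AlgebraicGeometry Opposite

namespace Groth.Agent.Lib.LimPresH2

open Groth.Agent.Lib.LimBaseChangeH7 Groth.Agent.Lib.LimMod

section Criterion

/-- Criterion for the sub-presheaf of the final presheaf generated by a condition to be limit
preserving. -/
theorem isLimitPreserving_genPSp {S : Scheme.{u}} (P : Over S → Prop)
    (hstab : ∀ ⦃T T₀ : Over S⦄ (_ : T ⟶ T₀), P T₀ → P T)
    (hdesc : ∀ ⦃I : Type u⦄ [SmallCategory I] [IsCofiltered I] (D : I ⥤ Over S) (c : Cone D),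
      IsLimit ((Over.forget S).mapCone c) → (∀ i, IsAffine (D.obj i).left) →
      IsAffine c.pt.left → P c.pt → ∃ i, P (D.obj i)) :
    AlgSp.IsLimitPreserving (FlatFun.genPSp S P) := by
  intro I _ _ D c hc hD hT
  refine ⟨Types.FilteredColimit.isColimitOf _ _ ?_ ?_⟩
  · intro x
    have hx : P c.pt := (FlatFun.genPSp_nonempty_iff_of_stable P hstab c.pt).mp ⟨x⟩
    obtain ⟨i, hi⟩ := hdesc D c hc hD hT hx
    obtain ⟨xi⟩ := FlatFun.genPSp_nonempty_of P hi
    exact ⟨op i, xi, (FlatFun.genPSp_subsingleton S P (op c.pt)).elim _ _⟩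
  · intro i j xi xj _
    exact ⟨IsFiltered.max i j, IsFiltered.leftToMax i j, IsFiltered.rightToMax i j,
      (FlatFun.genPSp_subsingleton S P _).elim _ _⟩

end Criterion

section Squares

variable {X S : Scheme.{u}} (f : X ⟶ S)

theorem XTmap_XTproj' {T T' : Over S} (g : T' ⟶ T) :
    PicF.XTmap f g ≫ PicF.XTproj f T = PicF.XTproj f T' ≫ g.left := by
  simp only [PicF.XTmap, PicF.XTproj, pullback.map, pullback.lift_snd]

/-- The base change squares of `X_T`. -/
theorem isPullback_XTmap {T T' : Over S} (g : T' ⟶ T) :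
    IsPullback (PicF.XTmap f g) (PicF.XTproj f T') (PicF.XTproj f T) g.left := by
  refine IsPullback.of_right ?_ (XTmap_XTproj' f g) (IsPullback.of_hasPullback f T.hom)
  rw [FGA.XTmap_fst, Over.w g]
  exact IsPullback.of_hasPullback f T'.hom

end Squares

section Generic

/-- **Generic limit preservation** for a property of the base change of a morphism of modules. -/
theorem isLimitPreserving_of_eventually
    (𝒬 : ∀ {Y : Scheme.{u}} {A B : Y.Modules}, (A ⟶ B) → Prop)
    (Fin : ∀ {Y : Scheme.{u}}, Y.Modules → Y.Modules → Prop)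
    (hFin : ∀ {Z Y : Scheme.{u}} (a : Z ⟶ Y) (A B : Y.Modules) [A.IsQuasicoherent]
      [B.IsQuasicoherent], Fin A B →
      Fin ((Scheme.Modules.pullback a).obj A) ((Scheme.Modules.pullback a).obj B))
    (hQ : ∀ {Z' Z Y : Scheme.{u}} (a : Z' ⟶ Z) (b : Z ⟶ Y) (c : Z' ⟶ Y) (_ : a ≫ b = c)
      {A B : Y.Modules} (v : A ⟶ B),
      𝒬 ((Scheme.Modules.pullback c).map v) ↔
        𝒬 ((Scheme.Modules.pullback a).map ((Scheme.Modules.pullback b).map v)))
    (hQpb : ∀ {Z Y : Scheme.{u}} (a : Z ⟶ Y) {A B : Y.Modules} (v : A ⟶ B),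
      𝒬 v → 𝒬 ((Scheme.Modules.pullback a).map v))
    (hev : ∀ {J : Type u} [SmallCategory J] [IsCofiltered J] (E : J ⥤ Scheme.{u}) (cE : Cone E)
      (_ : IsLimit cE) [∀ (i j : J) (f : i ⟶ j), IsAffineHom (E.map f)] (j₀ : J)
      [CompactSpace (E.obj j₀)] {A₀ B₀ : (E.obj j₀).Modules} [A₀.IsQuasicoherent]
      [B₀.IsQuasicoherent], Fin A₀ B₀ → ∀ (v₀ : A₀ ⟶ B₀),
      𝒬 ((Scheme.Modules.pullback (cE.π.app j₀)).map v₀) →
      ∃ k : Over j₀, ∀ (k' : Over j₀) (_ : k' ⟶ k),
        𝒬 ((Scheme.Modules.pullback (E.map k'.hom)).map v₀))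
    {X S : Scheme.{u}} (f : X ⟶ S) [QuasiCompact f] {F G : X.Modules} [F.IsQuasicoherent]
    [G.IsQuasicoherent] (hFG : Fin F G) (u : F ⟶ G) :
    AlgSp.IsLimitPreserving (FlatFun.genPSp S
      (fun T => 𝒬 ((Scheme.Modules.pullback (pullback.fst f T.hom)).map u))) := by
  apply isLimitPreserving_genPSp
  · intro T T₀ k hk
    have w : PicF.XTmap f k ≫ pullback.fst f T₀.hom = pullback.fst f T.hom := FGA.XTmap_fst f k
    exact (hQ _ _ _ w u).mpr (hQpb _ _ hk)
  · intro I _ _ D c hc hD hT hP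
    obtain ⟨i₀⟩ := IsCofiltered.nonempty (C := I)
    let D' : I ⥤ Scheme.{u} := D ⋙ Over.forget S
    let c' : Cone D' := (Over.forget S).mapCone c
    haveI hDaff : ∀ i, IsAffine (D'.obj i) := hD
    haveI : ∀ (i j : I) (a : i ⟶ j), IsAffineHom (D'.map a) := fun i j a => inferInstance
    let f₀ : PicF.XT f (D.obj i₀) ⟶ D'.obj i₀ := PicF.XTproj f (D.obj i₀)
    haveI : QuasiCompact f₀ := MorphismProperty.pullback_snd _ _ inferInstance
    haveI : CompactSpace (D'.obj i₀) := inferInstance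
    haveI : CompactSpace (PicF.XT f (D.obj i₀)) := QuasiCompact.compactSpace_of_compactSpace f₀
    have hpb : IsPullback (PicF.XTmap f (c.π.app i₀)) (PicF.XTproj f c.pt) f₀ (c'.π.app i₀) :=
      isPullback_XTmap f (c.π.app i₀)
    let j₀ : Over i₀ := Over.mk (𝟙 i₀)
    let r₀ : (bcDiagram D' i₀ f₀).obj j₀ ⟶ X :=
      pullback.fst f₀ (D'.map j₀.hom) ≫ pullback.fst f (D.obj i₀).hom
    have hr₀ : (bcCone c' hpb).π.app j₀ ≫ r₀ = pullback.fst f c.pt.hom := by
      show (bcCone c' hpb).π.app j₀ ≫ pullback.fst f₀ (D'.map j₀.hom) ≫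
        pullback.fst f (D.obj i₀).hom = _
      rw [bcCone_π_fst_assoc]
      exact FGA.XTmap_fst f (c.π.app i₀)
    have h1 : 𝒬 ((Scheme.Modules.pullback ((bcCone c' hpb).π.app j₀)).map
        ((Scheme.Modules.pullback r₀).map u)) := (hQ _ _ _ hr₀ u).mp hP
    haveI : CompactSpace ((bcDiagram D' i₀ f₀).obj j₀) := inferInstance
    obtain ⟨k, hk⟩ := hev (bcDiagram D' i₀ f₀) (bcCone c' hpb) (isLimitBcCone c' hpb hc) j₀
      (hFin r₀ F G hFG) ((Scheme.Modules.pullback r₀).map u) h1
    have h2 := hk k (𝟙 k)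
    refine ⟨k.left.left, ?_⟩
    let m : PicF.XT f (D.obj k.left.left) ⟶ (bcDiagram D' i₀ f₀).obj k.left :=
      pullback.lift (PicF.XTmap f (D.map k.left.hom)) (PicF.XTproj f (D.obj k.left.left))
        (XTmap_XTproj' f (D.map k.left.hom))
    have hm1 : m ≫ pullback.fst f₀ (D'.map k.left.hom) = PicF.XTmap f (D.map k.left.hom) :=
      pullback.lift_fst _ _ _
    have hm2 : (bcDiagram D' i₀ f₀).map k.hom ≫ pullback.fst f₀ (D'.map j₀.hom) =
        pullback.fst f₀ (D'.map k.left.hom) := bcDiagram_map_fst D' i₀ f₀ k.hom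
    have hm : m ≫ (bcDiagram D' i₀ f₀).map k.hom ≫ r₀ =
        pullback.fst f (D.obj k.left.left).hom := by
      show m ≫ (bcDiagram D' i₀ f₀).map k.hom ≫ pullback.fst f₀ (D'.map j₀.hom) ≫
        pullback.fst f (D.obj i₀).hom = _
      rw [reassoc_of% hm2, reassoc_of% hm1]
      exact FGA.XTmap_fst f (D.map k.left.hom)
    have h3 : 𝒬 ((Scheme.Modules.pullback ((bcDiagram D' i₀ f₀).map k.hom ≫ r₀)).map u) :=
      (hQ _ _ _ rfl u).mpr h2
    exact (hQ _ _ _ hm u).mpr (hQpb m _ h3)

end Generic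

section Instances

variable {X S : Scheme.{u}} (f : X ⟶ S) [QuasiCompact f] {F G : X.Modules} [Coh.IsQCoh F]
  [Coh.IsQCoh G]

/-- **S9019**: `F_zero` is limit preserving. -/
theorem main9019 (hF : CohB1.IsFT F) (u : F ⟶ G) :
    AlgSp.IsLimitPreserving (FlatFun.genPSp S
      (fun T => ((Scheme.Modules.pullback (pullback.fst f T.hom)).map u) = 0)) := by
  refine isLimitPreserving_of_eventually.{u} (fun {Y A B} v => v = 0)
    (fun {Y} A B => SheafOfModules.IsFiniteType (R := Y.ringCatSheaf) A) ?_ ?_ ?_ ?_ f hF u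
  · intro Z Y a A B _ _ h
    haveI := h
    exact FpqcH8.isFiniteType_pullback a A
  · intro Z' Z Y a b c w A B v
    constructor
    · intro h
      rw [DescH8.pb_map_eq' a b c w v, h]
      simp
    · intro h
      rw [DescH8.pb_map_eq a b c w v, h]
      simp
  · intro Z Y a A B v h
    rw [h]
    exact Functor.map_zero _ _ _
  · intro J _ _ E cE hE _ j₀ _ A₀ B₀ _ _ hfin v₀ h
    haveI := hfin
    obtain ⟨k, hk⟩ := eventually_eq E cE hE j₀ v₀ 0 (by rw [h, Functor.map_zero])
    exact ⟨k, fun k' g => by rw [hk k' g, Functor.map_zero]⟩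

/-- **S9018**: `F_surj` is limit preserving. -/
theorem main9018 (hG : CohB1.IsFT G) (u : F ⟶ G) :
    AlgSp.IsLimitPreserving (FlatFun.genPSp S
      (fun T => Epi ((Scheme.Modules.pullback (pullback.fst f T.hom)).map u))) := by
  refine isLimitPreserving_of_eventually.{u} (fun {Y A B} v => Epi v)
    (fun {Y} A B => SheafOfModules.IsFiniteType (R := Y.ringCatSheaf) B) ?_ ?_ ?_ ?_ f hG u
  · intro Z Y a A B _ _ h
    haveI := h
    exact FpqcH8.isFiniteType_pullback a B
  · intro Z' Z Y a b c w A B v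
    exact DescH8.epi_pb_iff a b c w v
  · intro Z Y a A B v h
    haveI := h
    infer_instance
  · intro J _ _ E cE hE _ j₀ _ A₀ B₀ _ _ hfin v₀ h
    haveI := hfin
    haveI := h
    exact eventually_epi E cE hE j₀ v₀

/-- **S9020**: `F_iso` is limit preserving. -/
theorem main9020 (hF : CohB1.IsFT F) (hG : CohB1.IsFP G) (u : F ⟶ G) :
    AlgSp.IsLimitPreserving (FlatFun.genPSp S
      (fun T => IsIso ((Scheme.Modules.pullback (pullback.fst f T.hom)).map u))) := by
  refine isLimitPreserving_of_eventually.{u} (fun {Y A B} v => IsIso v)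
    (fun {Y} A B => SheafOfModules.IsFiniteType (R := Y.ringCatSheaf) A ∧
      SheafOfModules.IsFinitePresentation (R := Y.ringCatSheaf) B) ?_ ?_ ?_ ?_ f ⟨hF, hG⟩ u
  · intro Z Y a A B _ _ h
    haveI := h.1
    haveI := h.2
    exact ⟨FpqcH8.isFiniteType_pullback a A, FpqcH8.isFP_pullback a B⟩
  · intro Z' Z Y a b c w A B v
    exact DescH8.isIso_pb_iff a b c w v
  · intro Z Y a A B v h
    haveI := h
    infer_instance
  · intro J _ _ E cE hE _ j₀ _ A₀ B₀ _ _ hfin v₀ h
    haveI := hfin.1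
    haveI := hfin.2
    haveI := h
    exact eventually_isIso E cE hE j₀ v₀

end Instances

section Flat

/-- **S9013**: `F_flat` is limit preserving. -/
theorem main9013 {X S : Scheme.{u}} (f : X ⟶ S) [QuasiCompact f] [LocallyOfFinitePresentation f]
    (F : X.Modules) [Coh.IsQCoh F] (hF : CohB1.IsFP F) :
    AlgSp.IsLimitPreserving
      (FlatFun.genPSp S (fun T => FlatMod.IsFlatOver (PicF.XTproj f T) (FGA.ET f F T))) := by
  haveI : SheafOfModules.IsFinitePresentation (R := X.ringCatSheaf) F := hF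
  apply isLimitPreserving_genPSp
  · intro T T₀ k hk x
    have h1 := FlatBC2H8.isFlatOverAt_pullback (isPullback_XTmap f k) (FGA.ET f F T₀) x (hk _)
    exact DescH8.isFlatOverAt_of_iso _ (FGA.ETiso f F k) x h1
  · intro I _ _ D c hc hD hT hP
    obtain ⟨i₀⟩ := IsCofiltered.nonempty (C := I)
    let D' : I ⥤ Scheme.{u} := D ⋙ Over.forget S
    let c' : Cone D' := (Over.forget S).mapCone c
    haveI hDaff : ∀ i, IsAffine (D'.obj i) := hD
    haveI : ∀ (i j : I) (a : i ⟶ j), IsAffineHom (D'.map a) := fun i j a => inferInstance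
    let f₀ : PicF.XT f (D.obj i₀) ⟶ D'.obj i₀ := PicF.XTproj f (D.obj i₀)
    haveI : QuasiCompact f₀ := MorphismProperty.pullback_snd _ _ inferInstance
    haveI : LocallyOfFinitePresentation f₀ := MorphismProperty.pullback_snd _ _ inferInstance
    haveI : CompactSpace (D'.obj i₀) := inferInstance
    have hpb : IsPullback (PicF.XTmap f (c.π.app i₀)) (PicF.XTproj f c.pt) f₀ (c'.π.app i₀) :=
      isPullback_XTmap f (c.π.app i₀)
    haveI : SheafOfModules.IsFinitePresentation
        (R := (PicF.XT f (D.obj i₀)).ringCatSheaf) (FGA.ET f F (D.obj i₀)) :=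
      FpqcH8.isFP_pullback _ F
    have hfl : FlatMod.IsFlatOver (PicF.XTproj f c.pt)
        ((Scheme.Modules.pullback (PicF.XTmap f (c.π.app i₀))).obj (FGA.ET f F (D.obj i₀))) :=
      fun x => DescH8.isFlatOverAt_of_iso _ (FGA.ETiso f F (c.π.app i₀)).symm x (hP x)
    obtain ⟨k, hk⟩ := exists_stage_flatOver D' c' hc i₀ f₀ (FGA.ET f F (D.obj i₀))
      (PicF.XTmap f (c.π.app i₀)) (PicF.XTproj f c.pt) hpb hfl
    refine ⟨k.left, fun x => ?_⟩
    have h1 := hk k (𝟙 k) (PicF.XTmap f (D.map k.hom)) (PicF.XTproj f (D.obj k.left))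
      (isPullback_XTmap f (D.map k.hom)) x
    exact DescH8.isFlatOverAt_of_iso _ (FGA.ETiso f F (D.map k.hom)) x h1

end Flat

end Groth.Agent.Lib.LimPresH2
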