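import Mathlib
import Groth.Prelude
import Groth.Agent.Lib.LimProCons_helper7
import Groth.Agent.Lib.ProConsCpt_helper8
import Groth.Agent.Lib.SpectralT1_helper8

/-!
# Pro- and ind-constructible families along a cofiltered limit (EGA IV 8.3.4) (helper7)
-/

set_option autoImplicit false
set_option linter.style.haveILetI false
universe u
open CategoryTheory CategoryTheory.Limits AlgebraicGeometry Topology TopologicalSpace Set
  Set.Notation

namespace Groth.Agent.Lib.LimProIndH7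

open Groth.Agent.Lib.LimBaseChangeH7 Groth.Agent.Lib.LimDomH7 Groth.Agent.Lib.LimProConsH7
open Groth.Agent.Lib.ProConsTopH8 Groth.Agent.Lib.ProConsLocH8 Groth.Agent.Lib.ProConsCptH8

/-- Compactness for the constructible topology, for a mixed family. -/
theorem finite_subfamily_pro_ind (X : Scheme.{u}) [CompactSpace X] {ι : Type*}
    (A B : ι → Set X) (hA : ∀ i, ProCons.IsProConstructible (A i))
    (hB : ∀ i, ProCons.IsIndConstructible (B i)) (h : ⋂ i, A i ⊆ ⋃ i, B i) :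
    ∃ J : Finset ι, ∀ z : X, (∀ i ∈ J, z ∈ A i) → ∃ i ∈ J, z ∈ B i := by
  classical
  obtain ⟨t, W, hW, hcov⟩ := exists_finite_spectral_cover X
  have key : ∀ x : X, ∃ J : Finset ι, ∀ z ∈ W x, (∀ i ∈ J, z ∈ A i) → ∃ i ∈ J, z ∈ B i := by
    intro x
    obtain ⟨hW1, i1, i2, i3, i4⟩ := hW x
    have hcs : @CompactSpace (W x) (constructibleTopology (W x)) :=
      Groth.Agent.Lib.SpectralT1H8.compactSpace_constructible
    have hO := fun i => isOpen_restrict_of_ind (hB i) hW1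
    have hC := fun i => isClosed_restrict_of_pro (hA i) hW1
    have hCi : ∀ i, @IsClosed (W x) (constructibleTopology (W x))
        (((W x) ↓∩ A i) ∩ ((W x) ↓∩ B i)ᶜ) := fun i =>
      @IsClosed.inter (W x) _ _ (constructibleTopology (W x)) (hC i)
        ((@isClosed_compl_iff (W x) (constructibleTopology (W x)) _).2 (hO i))
    obtain ⟨u, hu⟩ := @IsCompact.elim_finite_subfamily_closed (W x)
      (constructibleTopology (W x)) _ ι
      (@isCompact_univ (W x) (constructibleTopology (W x)) hcs)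
      (fun i => ((W x) ↓∩ A i) ∩ ((W x) ↓∩ B i)ᶜ) hCi (by
        rw [eq_empty_iff_forall_notMem]
        rintro z ⟨-, hz2⟩
        have hzA : z.1 ∈ ⋂ i, A i := mem_iInter.2 (fun i => (mem_iInter.1 hz2 i).1)
        obtain ⟨i, hi⟩ := mem_iUnion.1 (h hzA)
        exact (mem_iInter.1 hz2 i).2 hi)
    refine ⟨u, fun z hzW hzA => ?_⟩
    by_contra hcon
    push Not at hcon
    have : (⟨z, hzW⟩ : W x) ∈
        (univ ∩ ⋂ i ∈ u, (((W x) ↓∩ A i) ∩ ((W x) ↓∩ B i)ᶜ) : Set (W x)) :=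
      ⟨mem_univ _, mem_iInter₂.2 (fun i hi => ⟨hzA i hi, hcon i hi⟩)⟩
    rw [hu] at this
    exact this
  choose J hJ using key
  refine ⟨t.biUnion J, fun z hz => ?_⟩
  obtain ⟨x, hx, hzW⟩ := hcov z
  obtain ⟨i, hi, hzB⟩ := hJ x z hzW (fun i hi => hz i (Finset.mem_biUnion.2 ⟨x, hx, hi⟩))
  exact ⟨i, Finset.mem_biUnion.2 ⟨x, hx, hi⟩, hzB⟩

/-- The intersection of two pro-constructible sets with an affine open is the image of an affine
scheme. -/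
theorem exists_affine_range_eq_inter (X : Scheme.{u}) (Z₁ Z₂ : Set X)
    (h₁ : ProCons.IsProConstructible Z₁) (h₂ : ProCons.IsProConstructible Z₂)
    (W : X.Opens) (hW : IsAffineOpen W) :
    ∃ (B : CommRingCat.{u}) (g : Spec B ⟶ X), Set.range g.base = Z₁ ∩ Z₂ ∩ (W : Set X) := by
  obtain ⟨B₁, g₁, hg₁⟩ := Groth.Agent.Lib.ProConsAffH8.exists_affine_range_eq X Z₁ h₁ W hW
  have hpre := Groth.Agent.Lib.ProConsSchH8.isProConstructible_preimage g₁ Z₂ h₂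
  obtain ⟨B₂, g₂, hg₂⟩ := Groth.Agent.Lib.ProConsAffH8.exists_affine_range_eq (Spec B₁)
    (g₁.base ⁻¹' Z₂) hpre ⊤ (isAffineOpen_top (Spec B₁))
  refine ⟨B₂, g₂ ≫ g₁, ?_⟩
  ext y
  constructor
  · rintro ⟨z, rfl⟩
    have hz : g₂.base z ∈ g₁.base ⁻¹' Z₂ ∩ ((⊤ : (Spec B₁).Opens) : Set (Spec B₁)) := by
      rw [← hg₂]; exact ⟨z, rfl⟩
    have hz1 : g₁.base (g₂.base z) ∈ Z₁ ∩ (W : Set X) := by
      rw [← hg₁]; exact ⟨_, rfl⟩
    exact ⟨⟨hz1.1, hz.1⟩, hz1.2⟩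
  · rintro ⟨⟨hy1, hy2⟩, hyW⟩
    have hy : y ∈ Set.range g₁.base := by rw [hg₁]; exact ⟨hy1, hyW⟩
    obtain ⟨w, rfl⟩ := hy
    have hw : w ∈ Set.range g₂.base := by rw [hg₂]; exact ⟨hy2, trivial⟩
    obtain ⟨z, rfl⟩ := hw
    exact ⟨z, rfl⟩

variable {I : Type u} [SmallCategory I] [IsCofiltered I]
  (D : I ⥤ Scheme.{u}) (c : Limits.Cone D) (hc : Limits.IsLimit c)
  [∀ (i j : I) (f : i ⟶ j), IsAffineHom (D.map f)]

include hc in
theorem exists_preimage_inter_eq_empty' (i₁ : I) (Z₁ Z₂ : Set (D.obj i₁))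
    (h₁ : ProCons.IsProConstructible Z₁) (h₂ : ProCons.IsProConstructible Z₂)
    (O : (D.obj i₁).Opens) (hO : IsCompact (O : Set (D.obj i₁)))
    (h : ∀ y : c.pt, c.π.app i₁ y ∈ Z₁ → c.π.app i₁ y ∈ Z₂ → c.π.app i₁ y ∉ O) :
    ∃ (j : I) (φ : j ⟶ i₁), ∀ y : D.obj j, D.map φ y ∈ Z₁ → D.map φ y ∈ Z₂ → D.map φ y ∉ O := by
  classical
  have hcov : ∀ x : O, ∃ W : (D.obj i₁).Opens, IsAffineOpen W ∧ x.1 ∈ W ∧ W ≤ O := fun x => by
    obtain ⟨_, ⟨(W : (D.obj i₁).Opens), hW, rfl⟩, hxW, hWO⟩ :=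
      (D.obj i₁).isBasis_affineOpens.exists_subset_of_mem_open x.2 O.isOpen
    exact ⟨W, hW, hxW, hWO⟩
  choose W hWaff hxW hWO using hcov
  obtain ⟨t, ht⟩ := hO.elim_finite_subcover
    (fun x : O => ((W x : (D.obj i₁).Opens) : Set (D.obj i₁)))
    (fun x => (W x).isOpen) (fun y hy => Set.mem_iUnion.mpr ⟨⟨y, hy⟩, hxW _⟩)
  choose B g hg using fun x : O =>
    exists_affine_range_eq_inter (D.obj i₁) Z₁ Z₂ h₁ h₂ (W x) (hWaff x)
  have single : ∀ x : O, ∃ (j : I) (φ : j ⟶ i₁),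
      Disjoint (Set.range (g x)) (Set.range (D.map φ)) := by
    intro x
    have hdis : Disjoint (Set.range (g x)) (Set.range (c.π.app i₁)) := by
      rw [Set.disjoint_iff_forall_ne]
      rintro _ hz _ ⟨y, rfl⟩ rfl
      have hz' : c.π.app i₁ y ∈ Z₁ ∩ Z₂ ∩ (W x : Set (D.obj i₁)) := by
        rw [← hg x]; exact hz
      exact h y hz'.1.1 hz'.1.2 (hWO x hz'.2)
    have hemp : IsEmpty ↥(pullback (g x) (c.π.app i₁)) := Scheme.isEmpty_pullback_iff.mpr hdis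
    obtain ⟨j, φ, hj⟩ := exists_isEmpty_stage D c hc i₁ (g x) hemp
    exact ⟨j, φ, Scheme.isEmpty_pullback_iff.mp hj⟩
  have all : ∀ s : Finset O, ∃ (j : I) (φ : j ⟶ i₁), ∀ x ∈ s,
      Disjoint (Set.range (g x)) (Set.range (D.map φ)) := by
    intro s
    induction s using Finset.induction_on with
    | empty => exact ⟨i₁, 𝟙 i₁, fun x hx => absurd hx (Finset.notMem_empty x)⟩
    | insert x s hxs ih =>
      obtain ⟨j₁, φ₁, h₁'⟩ := ih
      obtain ⟨j₂, φ₂, h₂'⟩ := single x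
      obtain ⟨m, ψ₁, ψ₂, hψ⟩ := IsCofiltered.cospan φ₁ φ₂
      have hr₁ : Set.range (D.map (ψ₁ ≫ φ₁)) ⊆ Set.range (D.map φ₁) := by
        rintro _ ⟨y, rfl⟩
        exact ⟨D.map ψ₁ y, by rw [← Scheme.Hom.comp_apply, ← D.map_comp]⟩
      have hr₂ : Set.range (D.map (ψ₁ ≫ φ₁)) ⊆ Set.range (D.map φ₂) := by
        rw [hψ]
        rintro _ ⟨y, rfl⟩
        exact ⟨D.map ψ₂ y, by rw [← Scheme.Hom.comp_apply, ← D.map_comp]⟩
      refine ⟨m, ψ₁ ≫ φ₁, fun x' hx' => ?_⟩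
      rcases Finset.mem_insert.mp hx' with rfl | hx'
      · exact Set.disjoint_of_subset_right hr₂ h₂'
      · exact Set.disjoint_of_subset_right hr₁ (h₁' x' hx')
  obtain ⟨j, φ, hj⟩ := all t
  refine ⟨j, φ, fun y hy1 hy2 hyO => ?_⟩
  obtain ⟨x, hx⟩ := Set.mem_iUnion.mp (ht hyO)
  obtain ⟨hxt, hyW⟩ := Set.mem_iUnion.mp hx
  have hmem : D.map φ y ∈ Set.range (g x) := by
    rw [hg x]; exact ⟨⟨hy1, hy2⟩, hyW⟩
  exact Set.disjoint_iff_forall_ne.mp (hj x hxt) hmem ⟨y, rfl⟩ rfl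

include hc in
theorem main4787 (i₀ : I) [CompactSpace (D.obj i₀)] (E F : ∀ i : I, Set (D.obj i))
    (hE : ∀ i, ProCons.IsProConstructible (E i)) (hF : ∀ i, ProCons.IsIndConstructible (F i))
    (hEm : ∀ (i j : I) (φ : i ⟶ j), E i ⊆ ⇑(D.map φ) ⁻¹' E j)
    (hFm : ∀ (i j : I) (φ : i ⟶ j), ⇑(D.map φ) ⁻¹' F j ⊆ F i) :
    (⋂ i, ⇑(c.π.app i) ⁻¹' E i : Set c.pt) ⊆ (⋃ i, ⇑(c.π.app i) ⁻¹' F i : Set c.pt) ↔
      ∃ (i : I) (_ : i ⟶ i₀), ∀ (j : I) (_ : j ⟶ i), E j ⊆ F j := by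
  classical
  constructor
  · intro hsub
    haveI : CompactSpace c.pt := Groth.Agent.Lib.LimConstr.compactSpace_pt D c hc i₀
    obtain ⟨J, hJ⟩ := finite_subfamily_pro_ind c.pt (fun i => ⇑(c.π.app i) ⁻¹' E i)
      (fun i => ⇑(c.π.app i) ⁻¹' F i)
      (fun i => Groth.Agent.Lib.ProConsSchH8.isProConstructible_preimage (c.π.app i) (E i) (hE i))
      (fun i => Groth.Agent.Lib.ProConsSchH8.isIndConstructible_preimage (c.π.app i) (F i) (hF i))
      hsub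
    obtain ⟨i, hi⟩ := IsCofiltered.inf_objs_exists (insert i₀ J)
    obtain ⟨χ₀⟩ := hi (Finset.mem_insert_self i₀ J)
    have hψ : ∀ k ∈ J, Nonempty (i ⟶ k) := fun k hk => hi (Finset.mem_insert_of_mem hk)
    haveI : CompactSpace (D.obj i) := QuasiCompact.compactSpace_of_compactSpace (D.map χ₀)
    have hlim : ∀ y : c.pt, c.π.app i y ∈ E i → c.π.app i y ∈ (F i)ᶜ →
        c.π.app i y ∉ (⊤ : (D.obj i).Opens) := by
      intro y hyE hyF _
      obtain ⟨k, hk, hyk⟩ := hJ y (fun k hk => by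
        obtain ⟨ψ⟩ := hψ k hk
        show c.π.app k y ∈ E k
        rw [← Groth.Agent.Lib.LimConstr.map_π_apply D c ψ y]
        exact hEm i k ψ hyE)
      obtain ⟨ψ⟩ := hψ k hk
      have hyk' : c.π.app k y ∈ F k := hyk
      rw [← Groth.Agent.Lib.LimConstr.map_π_apply D c ψ y] at hyk'
      exact hyF (hFm i k ψ hyk')
    obtain ⟨i', φ, hi'⟩ := exists_preimage_inter_eq_empty' D c hc i (E i) (F i)ᶜ (hE i)
      (isProConstructible_compl (hF i)) ⊤ isCompact_univ hlim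
    refine ⟨i', φ ≫ χ₀, fun j ψ y hy => ?_⟩
    by_contra hcon
    have h1 : D.map (ψ ≫ φ) y ∈ E i := hEm j i (ψ ≫ φ) hy
    have h2 : D.map (ψ ≫ φ) y ∈ (F i)ᶜ := fun h => hcon (hFm j i (ψ ≫ φ) h)
    have e : D.map (ψ ≫ φ) y = D.map φ (D.map ψ y) := by
      rw [D.map_comp, Scheme.Hom.comp_apply]
    rw [e] at h1 h2
    exact hi' (D.map ψ y) h1 h2 trivial
  · rintro ⟨i, -, hi⟩ y hy
    have h1 : c.π.app i y ∈ E i := Set.mem_iInter.mp hy i
    exact Set.mem_iUnion.mpr ⟨i, hi i (𝟙 i) h1⟩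

end Groth.Agent.Lib.LimProIndH7
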