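import Mathlib
import Groth.Agent.Lib.LocalCrit9_helper9

/-!
# Limits of finite flat modules along surjections with nil kernels

Helper library for S6923: a key lemma (a map from a finite module onto a finite flat module
which is bijective modulo an ideal in the Jacobson radical is bijective), lifting of idempotent
matrices along nil ideals, and the inductive step lifting a split presentation.
-/

namespace Groth.Agent.Lib.LimProjH3

universe u

open TensorProduct

section LemmaX

variable {B : Type u} [CommRing B] (I : Ideal B) {P N : Type u} [AddCommGroup P] [Module B P]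
  [AddCommGroup N] [Module B N]

/-- For a surjection `φ : P → N` onto a flat module, `ker φ ∩ IP ⊆ I ker φ`. -/
lemma ker_inter_smul_le [Module.Flat B N] (φ : P →ₗ[B] N) (hφ : Function.Surjective φ) (x : P)
    (hx : φ x = 0) (hxI : x ∈ I • (⊤ : Submodule B P)) : x ∈ I • LinearMap.ker φ := by
  set K := LinearMap.ker φ with hKdef
  haveI : Module.Flat B (P ⧸ LinearMap.range K.subtype) := by
    rw [Submodule.range_subtype]
    exact Module.Flat.of_linearEquiv (φ.quotKerEquivOfSurjective hφ)
  have hinj := Groth.Agent.Lib.LocalCrit9.lTensor_injective_of_flat_coker K.subtype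
    (Submodule.injective_subtype K) (B ⧸ I)
  rw [Groth.Agent.Lib.FlatFibre.lTensor_quot_injective_iff] at hinj
  have h1 := hinj ⟨x, hx⟩ hxI
  have h2 : K.subtype ⟨x, hx⟩ ∈ Submodule.map K.subtype (I • (⊤ : Submodule B K)) :=
    Submodule.mem_map_of_mem h1
  rw [Submodule.map_smul'', Submodule.map_top, Submodule.range_subtype] at h2
  exact h2

/-- The localization at a maximal ideal of the kernel vanishes. -/
lemma localized_ker_eq_bot (hI : I ≤ Ideal.jacobson ⊥) [Module.Finite B P] [Module.Finite B N]
    [Module.Flat B N] (φ : P →ₗ[B] N) (hsurj : Function.Surjective φ)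
    (hK : LinearMap.ker φ ≤ I • LinearMap.ker φ) (m : Ideal B) [m.IsMaximal] :
    LinearMap.ker (LocalizedModule.map m.primeCompl φ) = ⊥ := by
  have hKeq : LinearMap.ker φ = I • LinearMap.ker φ := le_antisymm hK Submodule.smul_le_right
  haveI : Module.Free (Localization.AtPrime m) (LocalizedModule m.primeCompl N) :=
    Module.free_of_flat_of_isLocalRing
  haveI : Module.FinitePresentation (Localization.AtPrime m) (LocalizedModule m.primeCompl N) :=
    Module.finitePresentation_of_projective _ _
  have hsurjm : Function.Surjective (LocalizedModule.map m.primeCompl φ) :=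
    LocalizedModule.map_surjective m.primeCompl φ hsurj
  have hfg : (LinearMap.ker (LocalizedModule.map m.primeCompl φ)).FG :=
    Module.FinitePresentation.fg_ker _ hsurjm
  have hker : (LinearMap.ker φ).localized' (Localization.AtPrime m) m.primeCompl
      (LocalizedModule.mkLinearMap m.primeCompl P) =
      LinearMap.ker (LocalizedModule.map m.primeCompl φ) :=
    LinearMap.localized'_ker_eq_ker_localizedMap (Localization.AtPrime m) m.primeCompl
      (LocalizedModule.mkLinearMap m.primeCompl P) (LocalizedModule.mkLinearMap m.primeCompl N) φ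
  have hIm : I.map (algebraMap B (Localization.AtPrime m)) ≤ Ideal.jacobson ⊥ := by
    rw [IsLocalRing.jacobson_eq_maximalIdeal ⊥ bot_ne_top,
      ← Localization.AtPrime.map_eq_maximalIdeal]
    apply Ideal.map_mono
    exact hI.trans (sInf_le ⟨bot_le, inferInstance⟩)
  have hle : LinearMap.ker (LocalizedModule.map m.primeCompl φ) ≤
      I.map (algebraMap B (Localization.AtPrime m)) •
        LinearMap.ker (LocalizedModule.map m.primeCompl φ) := by
    conv_lhs => rw [← hker, hKeq, Submodule.localized'_smul, Ideal.localized'_eq_map, hker]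
  exact Submodule.eq_bot_of_le_smul_of_le_jacobson_bot _ _ hfg hle hIm

/-- **Key lemma.** Let `I` be an ideal contained in the Jacobson radical, `P` a finite module and
`N` a finite flat module. If `φ : P → N` is bijective modulo `I`, then it is bijective. -/
theorem bijective_of_mod (hI : I ≤ Ideal.jacobson ⊥) [Module.Finite B P] [Module.Finite B N]
    [Module.Flat B N] (φ : P →ₗ[B] N)
    (ha : (⊤ : Submodule B N) ≤ LinearMap.range φ ⊔ I • ⊤)
    (hb : ∀ x : P, φ x ∈ I • (⊤ : Submodule B N) → x ∈ I • (⊤ : Submodule B P)) :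
    Function.Bijective φ := by
  have hsurj : Function.Surjective φ := by
    rw [← LinearMap.range_eq_top, eq_top_iff]
    exact Submodule.le_of_le_smul_of_le_jacobson_bot Module.Finite.fg_top hI ha
  have hK : LinearMap.ker φ ≤ I • LinearMap.ker φ := fun x hx =>
    ker_inter_smul_le I φ hsurj x hx
      (hb x (by rw [LinearMap.mem_ker.mp hx]; exact zero_mem _))
  refine ⟨?_, hsurj⟩
  apply injective_of_localized_maximal
  intro m hm
  rw [← LinearMap.ker_eq_bot]
  exact localized_ker_eq_bot I hI φ hsurj hK m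

end LemmaX

section Idem

variable {B C : Type*} [CommRing B] [CommRing C]

lemma matrix_pow_apply_mem {r : ℕ} (X : Matrix (Fin r) (Fin r) B) (J : Ideal B)
    (hX : ∀ i j, X i j ∈ J) (k : ℕ) : ∀ i j, (X ^ k) i j ∈ J ^ k := by
  induction k with
  | zero => intro i j; rw [pow_zero, Ideal.one_eq_top]; trivial
  | succ k ih =>
    intro i j
    rw [pow_succ X, Matrix.mul_apply, pow_succ J]
    exact Ideal.sum_mem _ fun l _ => Ideal.mul_mem_mul (ih i l) (hX l j)

lemma matrix_isNilpotent_of_entries {r : ℕ} (X : Matrix (Fin r) (Fin r) B)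
    (hX : ∀ i j, IsNilpotent (X i j)) : IsNilpotent X := by
  classical
  set J : Ideal B := Ideal.span (Set.range fun p : Fin r × Fin r => X p.1 p.2) with hJ
  have hfg : J.FG := ⟨(Finset.univ : Finset (Fin r × Fin r)).image (fun p => X p.1 p.2), by
    rw [hJ]; congr 1; ext y; simp⟩
  have hle : J ≤ nilradical B := by
    rw [hJ, Ideal.span_le]
    rintro _ ⟨p, rfl⟩
    exact hX p.1 p.2
  obtain ⟨k, hk⟩ := hfg.isNilpotent_iff_le_nilradical.mpr hle
  refine ⟨k, ?_⟩
  ext i j
  have := matrix_pow_apply_mem X J (fun i j => Ideal.subset_span ⟨(i, j), rfl⟩) k i j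
  rw [hk] at this
  simpa using this

/-- Idempotent matrices lift along a surjection with nil kernel. -/
theorem exists_idempotent_matrix_lift (t : B →+* C) (ht : Function.Surjective t)
    (hnil : ∀ x, t x = 0 → IsNilpotent x) {r : ℕ} (E' : Matrix (Fin r) (Fin r) C)
    (hE' : IsIdempotentElem E') :
    ∃ E : Matrix (Fin r) (Fin r) B, IsIdempotentElem E ∧ E.map t = E' := by
  have hker : ∀ X ∈ RingHom.ker (t.mapMatrix (m := Fin r)), IsNilpotent X := by
    intro X hX
    rw [RingHom.mem_ker, RingHom.mapMatrix_apply] at hX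
    apply matrix_isNilpotent_of_entries
    intro i j
    apply hnil
    have := congrFun (congrFun hX i) j
    simpa using this
  have hrange : E' ∈ (t.mapMatrix (m := Fin r)).range := by
    refine ⟨Matrix.of fun i j => Classical.choose (ht (E' i j)), ?_⟩
    ext i j
    simp only [RingHom.mapMatrix_apply, Matrix.map_apply, Matrix.of_apply]
    exact Classical.choose_spec (ht (E' i j))
  obtain ⟨E, hE, hEE'⟩ := exists_isIdempotentElem_eq_of_ker_isNilpotent _ hker E' hrange hE'
  exact ⟨E, hE, by rwa [RingHom.mapMatrix_apply] at hEE'⟩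

end Idem

section Step

variable {B C : Type u} [CommRing B] [CommRing C] (t : B →+* C)
  {N N' : Type u} [AddCommGroup N] [Module B N] [AddCommGroup N'] [Module C N']

/-- **Inductive step.** Lifting a split presentation along a surjection with nil kernel. -/
theorem exists_step (ht : Function.Surjective t) (hnil : ∀ x, t x = 0 → IsNilpotent x)
    [Module.Finite B N] [Module.Flat B N] (u : N →ₛₗ[t] N') (hu : Function.Surjective u)
    (hker : LinearMap.ker u = RingHom.ker t • (⊤ : Submodule B N))
    {r : ℕ} (q' : (Fin r → C) →ₗ[C] N') (s' : N' →ₗ[C] (Fin r → C)) (hqs' : ∀ y, q' (s' y) = y) :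
    ∃ (q : (Fin r → B) →ₗ[B] N) (s : N →ₗ[B] (Fin r → B)), (∀ y, q (s y) = y) ∧
      (∀ b, u (q b) = q' (fun i => t (b i))) ∧ (∀ y, (fun i => t (s y i)) = s' (u y)) := by
  classical
  -- the map `q`
  choose m hm using fun i : Fin r => hu (q' fun j => if i = j then 1 else 0)
  let q : (Fin r → B) →ₗ[B] N := Fintype.linearCombination B m
  have hq : ∀ b, u (q b) = q' (fun i => t (b i)) := by
    intro b
    rw [LinearMap.pi_apply_eq_sum_univ q' fun i => t (b i)]
    simp only [q, Fintype.linearCombination_apply, map_sum, map_smulₛₗ, hm]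
  -- the idempotent
  let ε' : (Fin r → C) →ₗ[C] (Fin r → C) := s' ∘ₗ q'
  have hε' : ∀ c, ε' (ε' c) = ε' c := fun c => by simp only [ε', LinearMap.comp_apply, hqs']
  have hE' : IsIdempotentElem (LinearMap.toMatrix' ε') := by
    rw [IsIdempotentElem, ← LinearMap.toMatrix'_comp]
    congr 1
    exact LinearMap.ext hε'
  obtain ⟨E, hE, hEE'⟩ := exists_idempotent_matrix_lift t ht hnil _ hE'
  let ε : (Fin r → B) →ₗ[B] (Fin r → B) := Matrix.toLin' E
  have hε : ∀ b, ε (ε b) = ε b := by
    intro b
    have : ε ∘ₗ ε = ε := by rw [← Matrix.toLin'_mul, hE.eq]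
    exact LinearMap.congr_fun this b
  have hεt : ∀ b, (fun i => t (ε b i)) = ε' (fun i => t (b i)) := by
    intro b
    funext i
    have h1 := RingHom.map_mulVec t E b i
    rw [hEE'] at h1
    have h2 : ε' (fun i => t (b i)) = (LinearMap.toMatrix' ε').mulVec (fun i => t (b i)) := by
      rw [← Matrix.toLin'_apply, Matrix.toLin'_toMatrix']
    rw [h2]
    exact h1
  -- the submodule `P`
  let P : Submodule B (Fin r → B) := LinearMap.range ε
  have hPfix : ∀ x ∈ P, ε x = x := by
    rintro _ ⟨b, rfl⟩
    exact hε b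
  let φ : P →ₗ[B] N := q ∘ₗ P.subtype
  have hI : RingHom.ker t ≤ Ideal.jacobson ⊥ := by
    rw [Ideal.jacobson_bot]
    refine le_trans ?_ (nilradical_le_jacobson B)
    intro x hx
    exact hnil x hx
  have hmemker : ∀ y : N, y ∈ RingHom.ker t • (⊤ : Submodule B N) ↔ u y = 0 := by
    intro y
    rw [← hker, LinearMap.mem_ker]
  have ha : (⊤ : Submodule B N) ≤ LinearMap.range φ ⊔ RingHom.ker t • ⊤ := by
    intro y _
    obtain ⟨c, hc⟩ : ∃ c : Fin r → B, (fun i => t (c i)) = s' (u y) :=
      ⟨fun i => Classical.choose (ht (s' (u y) i)),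
        funext fun i => Classical.choose_spec (ht (s' (u y) i))⟩
    have hx : u (q (ε c)) = u y := by
      rw [hq, hεt, hc]
      simp only [ε', LinearMap.comp_apply, hqs']
    have hy : y = φ ⟨ε c, ⟨c, rfl⟩⟩ + (y - q (ε c)) := by
      simp only [φ, LinearMap.comp_apply, Submodule.subtype_apply]
      abel
    rw [hy]
    refine Submodule.add_mem_sup ⟨_, rfl⟩ ?_
    rw [hmemker, map_sub, hx, sub_self]
  have hb : ∀ x : P, φ x ∈ RingHom.ker t • (⊤ : Submodule B N) →
      x ∈ RingHom.ker t • (⊤ : Submodule B P) := by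
    rintro ⟨x0, hx0⟩ hx
    rw [hmemker] at hx
    simp only [φ, LinearMap.comp_apply, Submodule.subtype_apply] at hx
    rw [hq] at hx
    have h0 : (fun i => t (x0 i)) = 0 := by
      rw [← hPfix x0 hx0, hεt]
      simp only [ε', LinearMap.comp_apply]
      rw [hx, map_zero]
    have hcoord : ∀ i, x0 i ∈ RingHom.ker t := fun i => congrFun h0 i
    have hsum : (⟨x0, hx0⟩ : P) =
        ∑ i, x0 i • (⟨ε (fun j => if i = j then 1 else 0), ⟨_, rfl⟩⟩ : P) := by
      apply Subtype.ext
      rw [Submodule.coe_sum]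
      simp only [Submodule.coe_smul]
      rw [← LinearMap.pi_apply_eq_sum_univ ε x0, hPfix x0 hx0]
    rw [hsum]
    exact Submodule.sum_mem _ fun i _ => Submodule.smul_mem_smul (hcoord i) Submodule.mem_top
  have hbij := bijective_of_mod (RingHom.ker t) hI φ ha hb
  let e : P ≃ₗ[B] N := LinearEquiv.ofBijective φ hbij
  refine ⟨q, P.subtype ∘ₗ e.symm.toLinearMap, ?_, hq, ?_⟩
  · intro y
    have : φ (e.symm y) = y := e.apply_symm_apply y
    simpa [φ] using this
  · intro y
    have hx0 : ((e.symm y : P) : Fin r → B) ∈ P := (e.symm y).2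
    have hφ : q ((e.symm y : P) : Fin r → B) = y := by
      have : φ (e.symm y) = y := e.apply_symm_apply y
      simpa [φ] using this
    simp only [LinearMap.comp_apply, Submodule.subtype_apply, LinearEquiv.coe_coe]
    rw [← hPfix _ hx0, hεt]
    simp only [ε', LinearMap.comp_apply]
    rw [← hq, hφ]

end Step

section Limit

variable {A : Type u} [CommRing A] {An : ℕ → Type u} [∀ n, CommRing (An n)]
  (t : ∀ n, An (n + 1) →+* An n) (π : ∀ n, A →+* An n)

lemma exists_compatible_through (ht : ∀ n, Function.Surjective (t n)) (n : ℕ) (y : An n) :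
    ∃ x : ∀ k, An k, x n = y ∧ ∀ k, t k (x (k + 1)) = x k := by
  induction n with
  | zero =>
    let x : ∀ k, An k := fun k => Nat.rec y (fun k prev => Classical.choose (ht k prev)) k
    refine ⟨x, rfl, fun k => ?_⟩
    exact Classical.choose_spec (ht k (x k))
  | succ n ih =>
    obtain ⟨x, hxn, hx⟩ := ih (t n y)
    let z : ∀ k, n + 1 ≤ k → An k := fun k hk =>
      Nat.leRec (motive := fun k _ => An k) y (fun k _ prev => Classical.choose (ht k prev)) hk
    have hz0 : z (n + 1) le_rfl = y := Nat.leRec_self _ _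
    have hzs : ∀ k (hk : n + 1 ≤ k), t k (z (k + 1) (Nat.le_succ_of_le hk)) = z k hk := by
      intro k hk
      have : z (k + 1) (Nat.le_succ_of_le hk) = Classical.choose (ht k (z k hk)) :=
        Nat.leRec_succ _ _ hk
      rw [this]
      exact Classical.choose_spec (ht k (z k hk))
    let x' : ∀ k, An k := fun k => if hk : n + 1 ≤ k then z k hk else x k
    refine ⟨x', ?_, ?_⟩
    · simp only [x', dif_pos (le_refl (n + 1))]
      exact hz0
    · intro k
      by_cases hk : n + 1 ≤ k
      · have hk' : n + 1 ≤ k + 1 := Nat.le_succ_of_le hk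
        simp only [x', dif_pos hk, dif_pos hk']
        exact hzs k hk
      · by_cases hk2 : k = n
        · subst hk2
          have h1 : ¬ (k + 1 ≤ k) := by omega
          simp only [x', dif_pos (le_refl (k + 1)), dif_neg h1]
          rw [hz0, hxn]
        · have h1 : ¬ (n + 1 ≤ k + 1) := by omega
          simp only [x', dif_neg hk, dif_neg h1]
          exact hx k

lemma pi_surjective (ht : ∀ n, Function.Surjective (t n))
    (hlim : ∀ x : ∀ n, An n, (∀ n, t n (x (n + 1)) = x n) → ∃ a : A, ∀ n, π n a = x n) (n : ℕ) :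
    Function.Surjective (π n) := by
  intro y
  obtain ⟨x, hxn, hx⟩ := exists_compatible_through t ht n y
  obtain ⟨a, ha⟩ := hlim x hx
  exact ⟨a, by rw [ha, hxn]⟩

variable (An) (M : ℕ → Type u) [∀ n, AddCommGroup (M n)] [∀ n, Module (An n) (M n)]

/-- A split presentation of `M n` by a free module of rank `r`. -/
structure Stage (r n : ℕ) where
  q : (Fin r → An n) →ₗ[An n] M n
  s : M n →ₗ[An n] (Fin r → An n)
  hqs : ∀ y, q (s y) = y

variable {An M}

/-- Compatibility of split presentations at consecutive levels. -/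
def Compat (u : ∀ n, M (n + 1) →ₛₗ[t n] M n) {r n : ℕ} (S : Stage An M r n)
    (S' : Stage An M r (n + 1)) : Prop :=
  (∀ b, u n (S'.q b) = S.q (fun i => t n (b i))) ∧
    (∀ y, (fun i => t n (S'.s y i)) = S.s (u n y))

lemma exists_next (ht : ∀ n, Function.Surjective (t n))
    (hnil : ∀ n (x : An (n + 1)), t n x = 0 → IsNilpotent x)
    (hfin : ∀ n, Module.Finite (An n) (M n)) (hflat : ∀ n, Module.Flat (An n) (M n))
    (u : ∀ n, M (n + 1) →ₛₗ[t n] M n)
    (hu : ∀ n, Function.Surjective (u n) ∧
      LinearMap.ker (u n) = RingHom.ker (t n) • (⊤ : Submodule (An (n + 1)) (M (n + 1))))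
    {r n : ℕ} (S : Stage An M r n) : ∃ S' : Stage An M r (n + 1), Compat t u S S' := by
  haveI := hfin (n + 1)
  haveI := hflat (n + 1)
  obtain ⟨q, s, h1, h2, h3⟩ :=
    exists_step (t n) (ht n) (hnil n) (u n) (hu n).1 (hu n).2 S.q S.s S.hqs
  exact ⟨⟨q, s, h1⟩, h2, h3⟩

/-- The compatible sequence of split presentations. -/
noncomputable def stage (ht : ∀ n, Function.Surjective (t n))
    (hnil : ∀ n (x : An (n + 1)), t n x = 0 → IsNilpotent x)
    (hfin : ∀ n, Module.Finite (An n) (M n)) (hflat : ∀ n, Module.Flat (An n) (M n))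
    (u : ∀ n, M (n + 1) →ₛₗ[t n] M n)
    (hu : ∀ n, Function.Surjective (u n) ∧
      LinearMap.ker (u n) = RingHom.ker (t n) • (⊤ : Submodule (An (n + 1)) (M (n + 1))))
    {r : ℕ} (S0 : Stage An M r 0) : ∀ n, Stage An M r n
  | 0 => S0
  | n + 1 => Classical.choose (exists_next t ht hnil hfin hflat u hu (stage ht hnil hfin hflat u hu S0 n))

lemma stage_compat (ht : ∀ n, Function.Surjective (t n))
    (hnil : ∀ n (x : An (n + 1)), t n x = 0 → IsNilpotent x)
    (hfin : ∀ n, Module.Finite (An n) (M n)) (hflat : ∀ n, Module.Flat (An n) (M n))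
    (u : ∀ n, M (n + 1) →ₛₗ[t n] M n)
    (hu : ∀ n, Function.Surjective (u n) ∧
      LinearMap.ker (u n) = RingHom.ker (t n) • (⊤ : Submodule (An (n + 1)) (M (n + 1))))
    {r : ℕ} (S0 : Stage An M r 0) (n : ℕ) :
    Compat t u (stage t ht hnil hfin hflat u hu S0 n) (stage t ht hnil hfin hflat u hu S0 (n + 1)) :=
  Classical.choose_spec (exists_next t ht hnil hfin hflat u hu (stage t ht hnil hfin hflat u hu S0 n))

/-- **Main theorem.** -/
theorem main (ht : ∀ n, Function.Surjective (t n))
    (hnil : ∀ n (x : An (n + 1)), t n x = 0 → IsNilpotent x)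
    (hcompat : ∀ n, (t n).comp (π (n + 1)) = π n)
    (hinj : ∀ a b : A, (∀ n, π n a = π n b) → a = b)
    (hlim : ∀ x : ∀ n, An n, (∀ n, t n (x (n + 1)) = x n) → ∃ a : A, ∀ n, π n a = x n)
    (u : ∀ n, M (n + 1) →ₛₗ[t n] M n)
    [Module.Projective (An 0) (M 0)] (hfin : ∀ n, Module.Finite (An n) (M n))
    (hflat : ∀ n, Module.Flat (An n) (M n))
    (hu : ∀ n, Function.Surjective (u n) ∧
      LinearMap.ker (u n) = RingHom.ker (t n) • (⊤ : Submodule (An (n + 1)) (M (n + 1)))) :
    ∃ (P : Type u) (_ : AddCommGroup P) (_ : Module A P) (p : ∀ n, P →ₛₗ[π n] M n),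
      Module.Finite A P ∧ Module.Projective A P ∧ (∀ n (x : P), u n (p (n + 1) x) = p n x) ∧
      (∀ n, Function.Surjective (p n) ∧
        LinearMap.ker (p n) = RingHom.ker (π n) • (⊤ : Submodule A P)) ∧
      (∀ x : (∀ n, M n), (∀ n, u n (x (n + 1)) = x n) → ∃! q : P, ∀ n, p n q = x n) := by
  classical
  haveI := hfin 0
  obtain ⟨r, q0, s0, -, -, hqs0⟩ := Module.Finite.exists_comp_eq_id_of_projective (An 0) (M 0)
  let S0 : Stage An M r 0 := ⟨q0, s0, fun y => LinearMap.congr_fun hqs0 y⟩
  let St : ∀ n, Stage An M r n := stage t ht hnil hfin hflat u hu S0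
  have hSt : ∀ n, Compat t u (St n) (St (n + 1)) := stage_compat t ht hnil hfin hflat u hu S0
  have hqs : ∀ n y, (St n).q ((St n).s y) = y := fun n => (St n).hqs
  have hπt : ∀ n a, t n (π (n + 1) a) = π n a := fun n a => RingHom.congr_fun (hcompat n) a
  have hπsurj : ∀ n, Function.Surjective (π n) := pi_surjective t π ht hlim
  -- the idempotents
  let ε : ∀ n, (Fin r → An n) →ₗ[An n] (Fin r → An n) := fun n => (St n).s ∘ₗ (St n).q
  have hεdef : ∀ n b, ε n b = (St n).s ((St n).q b) := fun n b => rfl
  have hεε : ∀ n b, ε n (ε n b) = ε n b := by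
    intro n b
    rw [hεdef, hεdef, hqs]
  have hεt : ∀ n b, (fun i => t n (ε (n + 1) b i)) = ε n (fun i => t n (b i)) := by
    intro n b
    rw [hεdef, (hSt n).2, (hSt n).1, hεdef]
  -- the limit matrix
  have hEcompat : ∀ i j n, t n (LinearMap.toMatrix' (ε (n + 1)) i j) =
      LinearMap.toMatrix' (ε n) i j := by
    intro i j n
    rw [LinearMap.toMatrix'_apply, LinearMap.toMatrix'_apply]
    have h1 := congrFun (hεt n (Pi.single j 1)) i
    have h2 : (fun i' => t n ((Pi.single j 1 : Fin r → An (n + 1)) i')) = Pi.single j 1 := by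
      funext i'
      rw [Pi.single_apply, Pi.single_apply]
      split_ifs <;> simp
    rw [h1, h2]
  choose E hE using fun i j =>
    hlim (fun n => LinearMap.toMatrix' (ε n) i j) (fun n => hEcompat i j n)
  let εA : (Fin r → A) →ₗ[A] (Fin r → A) := Matrix.toLin' (Matrix.of E)
  have hπε : ∀ n a, (fun i => π n (εA a i)) = ε n (fun i => π n (a i)) := by
    intro n a
    funext i
    have h1 := RingHom.map_mulVec (π n) (Matrix.of E) a i
    have h2 : (Matrix.of E).map (π n) = LinearMap.toMatrix' (ε n) := by
      ext i j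
      simp only [Matrix.map_apply, Matrix.of_apply]
      exact hE i j n
    rw [h2] at h1
    have h3 : ε n (fun i => π n (a i)) =
        (LinearMap.toMatrix' (ε n)).mulVec (fun i => π n (a i)) := by
      rw [← Matrix.toLin'_apply, Matrix.toLin'_toMatrix']
    rw [h3]
    exact h1
  have hinjv : ∀ a b : Fin r → A,
      (∀ n, (fun i => π n (a i)) = fun i => π n (b i)) → a = b := by
    intro a b h
    funext i
    exact hinj _ _ fun n => congrFun (h n) i
  have hεAεA : ∀ a, εA (εA a) = εA a := by
    intro a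
    apply hinjv
    intro n
    rw [hπε, hπε, hεε]
  let P : Submodule A (Fin r → A) := LinearMap.range εA
  have hPfix : ∀ x ∈ P, εA x = x := by
    rintro _ ⟨b, rfl⟩
    exact hεAεA b
  -- the projections
  let p : ∀ n, P →ₛₗ[π n] M n := fun n =>
    { toFun := fun x => (St n).q (fun i => π n (x.1 i))
      map_add' := by
        intro x y
        rw [← map_add]
        congr 1
        funext i
        simp
      map_smul' := by
        intro a x
        rw [← map_smul]
        congr 1
        funext i
        simp }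
  have hp : ∀ n (x : P), p n x = (St n).q (fun i => π n (x.1 i)) := fun n x => rfl
  -- key: `π ∘ x` for `x ∈ P` is determined by `p n x`
  have hkey : ∀ n (x : P), (fun i => π n (x.1 i)) = (St n).s (p n x) := by
    intro n x
    rw [hp, ← hεdef, ← hπε, hPfix x.1 x.2]
  refine ⟨P, inferInstance, inferInstance, p, inferInstance, ?_, ?_, ?_, ?_⟩
  · refine Module.Projective.of_split P.subtype (εA.codRestrict P fun a => ⟨a, rfl⟩) ?_
    ext x : 1
    apply Subtype.ext
    simp only [LinearMap.comp_apply, Submodule.subtype_apply, LinearMap.codRestrict_apply,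
      LinearMap.id_apply]
    exact hPfix x.1 x.2
  · intro n x
    rw [hp, hp, (hSt n).1]
    congr 1
    funext i
    exact hπt n _
  · intro n
    refine ⟨?_, le_antisymm ?_ ?_⟩
    · intro y
      obtain ⟨a, ha⟩ : ∃ a : Fin r → A, (fun i => π n (a i)) = (St n).s y :=
        ⟨fun i => Classical.choose (hπsurj n ((St n).s y i)),
          funext fun i => Classical.choose_spec (hπsurj n ((St n).s y i))⟩
      refine ⟨⟨εA a, ⟨a, rfl⟩⟩, ?_⟩
      rw [hp]
      simp only
      rw [hπε, ha, hεdef, hqs, hqs]
    · rintro ⟨x0, hx0⟩ hx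
      rw [LinearMap.mem_ker] at hx
      have h0 := hkey n ⟨x0, hx0⟩
      rw [hx, map_zero] at h0
      have hcoord : ∀ i, x0 i ∈ RingHom.ker (π n) := fun i => congrFun h0 i
      have hsum : (⟨x0, hx0⟩ : P) =
          ∑ i, x0 i • (⟨εA (fun j => if i = j then 1 else 0), ⟨_, rfl⟩⟩ : P) := by
        apply Subtype.ext
        rw [Submodule.coe_sum]
        simp only [Submodule.coe_smul]
        rw [← LinearMap.pi_apply_eq_sum_univ εA x0, hPfix x0 hx0]
      rw [hsum]
      exact Submodule.sum_mem _ fun i _ => Submodule.smul_mem_smul (hcoord i) Submodule.mem_top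
    · rw [Submodule.smul_le]
      intro a ha x _
      rw [LinearMap.mem_ker, map_smulₛₗ, (RingHom.mem_ker).mp ha, zero_smul]
  · intro x hx
    have hcx : ∀ n, (fun i => t n ((St (n + 1)).s (x (n + 1)) i)) = (St n).s (x n) := by
      intro n
      rw [(hSt n).2, hx n]
    choose a ha using fun i =>
      hlim (fun n => (St n).s (x n) i) (fun n => congrFun (hcx n) i)
    have haπ : ∀ n, (fun i => π n (a i)) = (St n).s (x n) := fun n => funext fun i => ha i n
    have haP : εA a = a := by
      apply hinjv
      intro n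
      rw [hπε, haπ, hεdef, hqs]
    have hamem : a ∈ P := ⟨a, haP⟩
    refine ⟨⟨a, hamem⟩, fun n => ?_, ?_⟩
    · rw [hp]
      simp only
      rw [haπ, hqs]
    · intro z hz
      apply Subtype.ext
      apply hinjv
      intro n
      rw [hkey n z, hz n, haπ]

end Limit

end Groth.Agent.Lib.LimProjH3
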