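import Mathlib
import Groth.Agent.Lib.NApxO_helper7
import Groth.Agent.Lib.LimBaseChange_helper7
import Groth.Agent.S2076

/-!
# A proper morphism to a cofiltered limit is eventually proper over the stages (helper7)

Stacks-style argument: Chow's lemma over a stage, the projective space over the limit is the limit
of the projective spaces over the stages, and a closed immersion into a limit with source of finite
type is a closed immersion into a stage (`S2076`).
-/

set_option autoImplicit false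
set_option linter.style.haveILetI false
universe u
open CategoryTheory CategoryTheory.Limits AlgebraicGeometry TopologicalSpace

namespace Groth.Agent.Lib.LimProperStageH7

open Groth.Agent.Lib.LimBaseChangeH7 Groth.Agent.Lib.NApxH_helper7 Groth.Agent.Lib.NApxO_helper7
  Groth.Agent.Lib.ProjSpaceProperH4

theorem main9202 {I : Type u} [SmallCategory I] [IsCofiltered I] (S : Scheme.{u})
    (D : I ⥤ Scheme.{u}) (t : D ⟶ (Functor.const I).obj S) (c : Limits.Cone D)
    (hc : Limits.IsLimit c)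
    [∀ (i j : I) (a : i ⟶ j), IsAffineHom (D.map a)]
    [∀ i, CompactSpace (D.obj i)] [∀ i, QuasiSeparatedSpace (D.obj i)] (i₀ : I)
    {Y : Scheme.{u}} (h : Y ⟶ c.pt) [IsProper h]
    [LocallyOfFiniteType (h ≫ c.π.app i₀ ≫ t.app i₀)] :
    ∃ i₁ : I, ∀ (i : I) (_ : i ⟶ i₁), IsProper (h ≫ c.π.app i) := by
  haveI hπaff : ∀ i, IsAffineHom (c.π.app i) := fun i => isAffineHom_π_app D c hc i
  have hstr : ∀ i, c.π.app i ≫ t.app i = c.π.app i₀ ≫ t.app i₀ := by
    intro i
    have key : ∀ {k l : I} (a : k ⟶ l), c.π.app l ≫ t.app l = c.π.app k ≫ t.app k := by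
      intro k l a
      have h1 := t.naturality a
      simp only [Functor.const_obj_obj, Functor.const_obj_map, Category.comp_id] at h1
      rw [← c.w a, Category.assoc, h1]
    rw [key (IsCofiltered.minToLeft i i₀), key (IsCofiltered.minToRight i i₀)]
  haveI hlft : ∀ i, LocallyOfFiniteType (h ≫ c.π.app i) := fun i => by
    haveI : LocallyOfFiniteType ((h ≫ c.π.app i) ≫ t.app i) := by
      rw [Category.assoc, hstr i]
      infer_instance
    exact locallyOfFiniteType_of_comp _ (t.app i)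
  obtain ⟨n, Y', π', j, hj, hjπ, hπ'1, hπ'2⟩ := chow_qcqs (h ≫ c.π.app i₀)
  haveI := hj
  haveI := hπ'1
  haveI := hπ'2
  obtain ⟨xi, hxi⟩ : ∃ xi : CohB1.ProjSpaceOver n (D.obj i₀) ⟶ D.obj i₀,
      xi = CohB1.ProjSpaceOver.toBase n (D.obj i₀) := ⟨_, rfl⟩
  rw [← hxi] at hjπ
  haveI : IsProper xi := hxi ▸ isProper_toBase n (D.obj i₀)
  haveI : CompactSpace ↥(CohB1.ProjSpaceOver n (D.obj i₀)) :=
    QuasiCompact.compactSpace_of_compactSpace xi
  have hX := IsPullback.of_hasPullback xi (c.π.app i₀)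
  have hcE := isLimitBcCone c hX hc
  -- structure maps to S
  obtain ⟨t₀, ht₀⟩ : ∃ t₀ : D.obj i₀ ⟶ S, t₀ = t.app i₀ := ⟨_, rfl⟩
  obtain ⟨s, hs⟩ : ∃ s : bcDiagram D i₀ xi ⟶ (Functor.const (Over i₀)).obj S,
      ∀ k, s.app k = pullback.fst xi (D.map k.hom) ≫ xi ≫ t₀ :=
    ⟨bcDiagramBase D i₀ xi ≫ (Functor.const (Over i₀)).map t₀, fun k => Category.assoc _ _ _⟩
  have hp : ∀ k, (bcCone c hX).π.app k ≫ s.app k =
      pullback.fst xi (c.π.app i₀) ≫ xi ≫ t₀ := by
    intro k
    rw [hs]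
    exact bcCone_π_fst_assoc c hX k _
  haveI : Nonempty (Over i₀) := ⟨Over.mk (𝟙 i₀)⟩
  obtain ⟨c', hc'⟩ : ∃ c' : Cone (Over.lift (bcDiagram D i₀ xi) s),
      c' = Over.liftCone (bcDiagram D i₀ xi) s (bcCone c hX) _ hp := ⟨_, rfl⟩
  have hcE' : IsLimit c' :=
    hc' ▸ Over.isLimitLiftCone (bcDiagram D i₀ xi) s (bcCone c hX) _ hp hcE
  haveI : ∀ (k k' : Over i₀) (f : k ⟶ k'),
      IsAffineHom ((Over.lift (bcDiagram D i₀ xi) s).map f).left := fun k k' f => by
    show IsAffineHom ((bcDiagram D i₀ xi).map f)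
    infer_instance
  haveI : ∀ k : Over i₀, CompactSpace ↥((Over.lift (bcDiagram D i₀ xi) s).obj k).left :=
    fun k => by
      show CompactSpace ↥((bcDiagram D i₀ xi).obj k)
      infer_instance
  -- the closed immersion into the limit
  have hw : j ≫ xi = (π' ≫ h) ≫ c.π.app i₀ := by rw [hjπ, Category.assoc]
  obtain ⟨jX, hjX1, hjX2⟩ : ∃ jX : Y' ⟶ pullback xi (c.π.app i₀),
      jX ≫ pullback.fst xi (c.π.app i₀) = j ∧ jX ≫ pullback.snd xi (c.π.app i₀) = π' ≫ h :=
    ⟨pullback.lift j (π' ≫ h) hw, pullback.lift_fst _ _ _, pullback.lift_snd _ _ _⟩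
  haveI : IsImmersion (jX ≫ pullback.fst xi (c.π.app i₀)) := hjX1 ▸ hj
  haveI : IsImmersion jX := IsImmersion.of_comp jX (pullback.fst xi (c.π.app i₀))
  haveI : IsProper (jX ≫ pullback.snd xi (c.π.app i₀)) := by
    rw [hjX2]
    infer_instance
  haveI : IsProper jX := IsProper.of_comp jX (pullback.snd xi (c.π.app i₀))
  haveI hci : IsClosedImmersion jX := isClosedImmersion_of_isImmersion_of_universallyClosed jX
  have hlftX : LocallyOfFiniteType (jX ≫ pullback.fst xi (c.π.app i₀) ≫ xi ≫ t₀) := by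
    have : jX ≫ pullback.fst xi (c.π.app i₀) ≫ xi ≫ t₀ =
        π' ≫ h ≫ c.π.app i₀ ≫ t.app i₀ := by
      rw [← Category.assoc, hjX1, ← Category.assoc, hw, ht₀]
      simp only [Category.assoc]
    rw [this]
    infer_instance
  subst hc'
  obtain ⟨jX', hjX'⟩ : ∃ jX' : Y' ⟶
      (Over.liftCone (bcDiagram D i₀ xi) s (bcCone c hX) _ hp).pt.left, jX' = jX := ⟨jX, rfl⟩
  haveI : IsClosedImmersion jX' := hjX' ▸ hci
  haveI : LocallyOfFiniteType (jX' ≫
      (Over.liftCone (bcDiagram D i₀ xi) s (bcCone c hX) _ hp).pt.hom) := by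
    rw [hjX']
    exact hlftX
  obtain ⟨k, hk⟩ := Groth.Agent.S2076.result S (Over.lift (bcDiagram D i₀ xi) s)
    (Over.liftCone (bcDiagram D i₀ xi) s (bcCone c hX) _ hp) hcE' jX'
  obtain ⟨ρ, hρ1, hρ2⟩ : ∃ ρ : pullback xi (c.π.app i₀) ⟶ pullback xi (D.map k.hom),
      ρ = (bcCone c hX).π.app k ∧ ρ ≫ pullback.snd xi (D.map k.hom) =
        pullback.snd xi (c.π.app i₀) ≫ c.π.app k.left := ⟨_, rfl, bcCone_π_snd c hX k⟩
  have hk' : IsClosedImmersion (jX ≫ ρ) := by
    rw [hjX'] at hk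
    rw [hρ1]
    exact hk
  haveI := hk'
  -- properness over the stage `k.left`
  have hcomp : (jX ≫ ρ) ≫ pullback.snd xi (D.map k.hom) = π' ≫ h ≫ c.π.app k.left := by
    rw [Category.assoc, hρ2, ← Category.assoc, hjX2, Category.assoc]
  have hprop : ∀ i, IsProper (π' ≫ h ≫ c.π.app i) → IsProper (h ≫ c.π.app i) := by
    intro i hi
    haveI := hi
    haveI : UniversallyClosed (h ≫ c.π.app i) :=
      UniversallyClosed.of_comp_surjective π' (h ≫ c.π.app i)
    exact {}
  have h1 : IsProper (h ≫ c.π.app k.left) := by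
    apply hprop
    rw [← hcomp]
    infer_instance
  refine ⟨k.left, fun i a => ?_⟩
  haveI : IsProper ((h ≫ c.π.app i) ≫ D.map a) := by
    rw [Category.assoc, c.w a]
    exact h1
  exact IsProper.of_comp (h ≫ c.π.app i) (D.map a)

end Groth.Agent.Lib.LimProperStageH7
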