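import Mathlib
import Groth.Prelude.Def_AlgSp

/-!
# The limit of the closed subschemes `Spec (A/I)` over a directed family of ideals (helper7)
-/

set_option backward.isDefEq.respectTransparency false
set_option backward.isDefEq.respectTransparency.types false
set_option linter.style.haveILetI false
set_option linter.unusedSectionVars false
set_option linter.unusedVariables false
set_option autoImplicit false
set_option maxHeartbeats 1600000

universe u

open CategoryTheory CategoryTheory.Limits AlgebraicGeometry Opposite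

namespace Groth.Agent.Lib.LimQuotH7

/-- Morphisms in `Over S` into a monomorphism are unique. -/
theorem over_hom_ext_of_mono {S : Scheme.{u}} {T : Over S} {Y : Scheme.{u}} (m : Y ⟶ S) [Mono m]
    (a b : T ⟶ Over.mk m) : a = b := by
  apply Over.OverMorphism.ext
  rw [← cancel_mono m]
  exact (Over.w a).trans (Over.w b).symm

variable {A : CommRingCat.{u}}

/-- The closed subscheme `Spec (A/I)` as an object over `Spec A`. -/
noncomputable abbrev quotOver (I : Ideal A) : Over (Spec A) :=
  Over.mk (Spec.map (CommRingCat.ofHom (Ideal.Quotient.mk I)))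

/-- The transition morphism `Spec (A/I') ⟶ Spec (A/I)` for `I ≤ I'`. -/
noncomputable def quotMap {I I' : Ideal A} (h : I ≤ I') : quotOver I' ⟶ quotOver I :=
  Over.homMk (Spec.map (CommRingCat.ofHom (Ideal.Quotient.factor h))) (by
    show Spec.map _ ≫ Spec.map _ = Spec.map _
    rw [← Spec.map_comp, ← CommRingCat.ofHom_comp, Ideal.Quotient.factor_comp_mk])

variable (C : Set (Ideal A))

/-- The diagram of the closed subschemes `Spec (A/I)`, `I ∈ C`. -/
noncomputable def quotDiag : (↥C)ᵒᵖ ⥤ Over (Spec A) where
  obj j := quotOver j.unop.1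
  map f := quotMap (leOfHom f.unop)
  map_id _ := over_hom_ext_of_mono _ _ _
  map_comp _ _ := over_hom_ext_of_mono _ _ _

/-- The cone with vertex `Spec (A / sSup C)`. -/
noncomputable def quotCone : Cone (quotDiag C) where
  pt := quotOver (sSup C)
  π :=
    { app := fun j => quotMap (le_sSup j.unop.2)
      naturality := fun _ _ _ => over_hom_ext_of_mono _ _ _ }

theorem quotCone_pt : (quotCone C).pt = quotOver (sSup C) := rfl

theorem quotDiag_obj (j : (↥C)ᵒᵖ) : (quotDiag C).obj j = quotOver j.unop.1 := rfl

/-- A scheme over `Spec A` maps to `Spec (A/I)` iff `I` dies in its global sections. -/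
theorem nonempty_hom_quotOver_iff (T : Over (Spec A)) (I : Ideal A) :
    Nonempty (T ⟶ quotOver I) ↔
      I ≤ RingHom.ker ((Scheme.ΓSpecIso A).inv ≫ T.hom.appTop).hom := by
  constructor
  · rintro ⟨t⟩ a ha
    have hw : t.left ≫ Spec.map (CommRingCat.ofHom (Ideal.Quotient.mk I)) = T.hom := Over.w t
    rw [RingHom.mem_ker, ← hw, Scheme.Hom.comp_appTop, ← Scheme.ΓSpecIso_inv_naturality_assoc]
    have h0 : (CommRingCat.ofHom (Ideal.Quotient.mk I)).hom a = 0 :=
      Ideal.Quotient.eq_zero_iff_mem.2 ha
    rw [CommRingCat.hom_comp, RingHom.comp_apply, h0, map_zero]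
  · intro h
    exact ⟨Over.homMk (T.hom.liftQuotient I h) (T.hom.liftQuotient_comp I h)⟩

/-- The cone `quotCone` is a limit cone when `C` is directed and nonempty. -/
noncomputable def isLimitQuotCone (hC : DirectedOn (· ≤ ·) C) (hne : C.Nonempty) :
    IsLimit (quotCone C) where
  lift s := Classical.choice ((nonempty_hom_quotOver_iff s.pt (sSup C)).2 (by
    intro a ha
    obtain ⟨I, hI, haI⟩ := (Submodule.mem_sSup_of_directed hne hC).1 ha
    exact (nonempty_hom_quotOver_iff s.pt I).1 ⟨s.π.app (op ⟨I, hI⟩)⟩ haI))
  fac _ _ := over_hom_ext_of_mono _ _ _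
  uniq _ _ _ := over_hom_ext_of_mono _ _ _

end Groth.Agent.Lib.LimQuotH7
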