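import Groth.Agent.Lib.LimRep3_helper7
import Groth.Agent.Lib.LimQuot1_helper7
import Groth.Agent.Lib.AlgSpAffineMor_helper7

/-!
# Base change of an algebraic space along a limit of affine schemes over the base (helper7)
-/

set_option backward.isDefEq.respectTransparency false
set_option backward.isDefEq.respectTransparency.types false
set_option linter.style.haveILetI false
set_option linter.unusedSectionVars false
set_option linter.unusedVariables false
set_option autoImplicit false
set_option maxHeartbeats 1600000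

universe u

open CategoryTheory CategoryTheory.Limits AlgebraicGeometry Opposite Topology
open AlgSp Groth.Agent.Lib.AlgSpPullback_helper7 Groth.Agent.Lib.AlgSpQC_helper7
  Groth.Agent.Lib.AlgSpPoints_helper7 Groth.Agent.Lib.AlgSpQC2_helper7

namespace Groth.Agent.Lib.LimQuotH7

open Groth.Agent.Lib.LimTowerH7 Groth.Agent.Lib.LimRepH7

/-- The functor `X ⨯ -` preserves connected limits (universe-general version). -/
theorem nonempty_isLimit_prod_mapCone {J : Type*} [Category J] [IsConnected J] {C : Type*}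
    [Category C] [HasBinaryProducts C] (X : C) {K : J ⥤ C} {c : Cone K} (l : IsLimit c) :
    Nonempty (IsLimit ((prod.functor.obj X).mapCone c)) := by
  have hnat : ∀ (s : Cone (K ⋙ prod.functor.obj X)) {j j' : J} (f : j ⟶ j'),
      s.π.app j' = s.π.app j ≫ prod.map (𝟙 X) (K.map f) := by
    intro s j j' f
    have := s.π.naturality f
    simp only [Functor.const_obj_obj, Functor.const_obj_map, Category.id_comp] at this
    exact this
  have hfst : ∀ (s : Cone (K ⋙ prod.functor.obj X)) (j j' : J),
      s.π.app j ≫ (prod.fst : X ⨯ K.obj j ⟶ X) = s.π.app j' ≫ (prod.fst : X ⨯ K.obj j' ⟶ X) := by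
    intro s
    refine constant_of_preserves_morphisms
      (fun j => s.π.app j ≫ (prod.fst : X ⨯ K.obj j ⟶ X)) (fun j j' f => ?_)
    show s.π.app j ≫ (prod.fst : X ⨯ K.obj j ⟶ X) = s.π.app j' ≫ (prod.fst : X ⨯ K.obj j' ⟶ X)
    rw [hnat s f, Category.assoc, prod.map_fst, Category.comp_id]
  let fc : Cone (K ⋙ prod.functor.obj X) → Cone K := fun s =>
    { pt := s.pt
      π :=
        { app := fun j => s.π.app j ≫ (prod.snd : X ⨯ K.obj j ⟶ K.obj j)
          naturality := fun j j' f => by
            show 𝟙 _ ≫ s.π.app j' ≫ (prod.snd : X ⨯ K.obj j' ⟶ K.obj j') =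
              (s.π.app j ≫ (prod.snd : X ⨯ K.obj j ⟶ K.obj j)) ≫ K.map f
            rw [Category.id_comp, hnat s f, Category.assoc, prod.map_snd, Category.assoc] } }
  have hfc : ∀ (s : Cone (K ⋙ prod.functor.obj X)) (j : J),
      (fc s).π.app j = s.π.app j ≫ (prod.snd : X ⨯ K.obj j ⟶ K.obj j) := fun s j => rfl
  obtain ⟨j₀⟩ := (inferInstance : Nonempty J)
  refine ⟨
    { lift := fun s => prod.lift (s.π.app j₀ ≫ (prod.fst : X ⨯ K.obj j₀ ⟶ X)) (l.lift (fc s))
      fac := fun s j => ?_
      uniq := fun s m hm => ?_ }⟩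
  · show prod.lift (s.π.app j₀ ≫ (prod.fst : X ⨯ K.obj j₀ ⟶ X)) (l.lift (fc s)) ≫
      prod.map (𝟙 X) (c.π.app j) = s.π.app j
    apply Limits.prod.hom_ext
    · rw [Category.assoc, prod.map_fst, Category.comp_id, prod.lift_fst]
      exact hfst s j₀ j
    · rw [Category.assoc, prod.map_snd, prod.lift_snd_assoc, l.fac, hfc]
  · have hm' : ∀ j, m ≫ prod.map (𝟙 X) (c.π.app j) = s.π.app j := hm
    apply Limits.prod.hom_ext
    · rw [prod.lift_fst, ← hm' j₀, Category.assoc, prod.map_fst, Category.comp_id]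
    · rw [prod.lift_snd]
      refine l.uniq (fc s) (m ≫ prod.snd) (fun j => ?_)
      rw [hfc, ← hm' j, Category.assoc, Category.assoc, prod.map_snd]

variable {S : Scheme.{u}}

/-- Representability by a scheme is invariant under isomorphism. -/
theorem isRepresentable_of_iso {F G : Sp S} (e : F ≅ G) (h : F.obj.IsRepresentable) :
    G.obj.IsRepresentable := by
  obtain ⟨T, ⟨r⟩⟩ := h.has_representation
  exact (representableByOfIso (isoOfRepresentableBy r ≪≫ e)).isRepresentable

/-- The terminal object `h_S`. -/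
noncomputable def tS (S : Scheme.{u}) : IsTerminal ((yon S).obj (Over.mk (𝟙 S))) :=
  IsTerminal.isTerminalObj (yon S) _ Over.mkIdTerminal

/-- The product square with prescribed maps to the terminal object `h_S`. -/
theorem isPullback_prod (X Y : Sp S) (q : X ⟶ (yon S).obj (Over.mk (𝟙 S)))
    (r : Y ⟶ (yon S).obj (Over.mk (𝟙 S))) :
    IsPullback (prod.fst : X ⨯ Y ⟶ X) prod.snd q r := by
  have h := IsPullback.of_is_product' (prodIsProd X Y) (tS S)
  rwa [(tS S).hom_ext ((tS S).from X) q, (tS S).hom_ext ((tS S).from Y) r] at h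

/-- Any base change of `X ⟶ h_S` along `Y ⟶ h_S` is the product. -/
noncomputable def isoProdOfIsPullback {X Y P : Sp S} {q : X ⟶ (yon S).obj (Over.mk (𝟙 S))}
    {r : Y ⟶ (yon S).obj (Over.mk (𝟙 S))} {fst : P ⟶ X} {snd : P ⟶ Y}
    (sq : IsPullback fst snd q r) : P ≅ X ⨯ Y :=
  sq.isoIsPullback _ _ (isPullback_prod X Y q r)

/-- The base change square of `X ⨯ B ⟶ B` along `g : B' ⟶ B`. -/
theorem isPullback_prod_map (X : Sp S) {B' B : Sp S} (g : B' ⟶ B) :
    IsPullback (prod.map (𝟙 X) g) (prod.snd : X ⨯ B' ⟶ B') (prod.snd : X ⨯ B ⟶ B) g := by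
  have t := isPullback_prod X B ((tS S).from X) ((tS S).from B)
  have s := isPullback_prod X B' ((tS S).from X) (g ≫ (tS S).from B)
  have e1 : prod.map (𝟙 X) g ≫ (prod.fst : X ⨯ B ⟶ X) = (prod.fst : X ⨯ B' ⟶ X) := by
    rw [prod.map_fst, Category.comp_id]
  rw [← e1] at s
  exact IsPullback.of_right s (prod.map_snd _ _) t

/-- **Base change along a limit of affine schemes.**  If `X ⟶ S` is quasi-compact and
quasi-separated, `T = lim T_j` a cofiltered limit of affine schemes over `S`, and `X ×_S T` is a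
scheme, then `X ×_S T_j` is a scheme for some `j`. -/
theorem exists_stage_representable_prod [QuasiSeparatedSpace ↥S] (X : Space S)
    (q : X.obj ⟶ (yon S).obj (Over.mk (𝟙 S))) (hqc : IsQuasiCompactMor q)
    (hqs : IsQuasiSeparatedMor q) {J : Type u} [SmallCategory J] [IsCofiltered J]
    (F : J ⥤ Over S) (hF : ∀ j, IsAffine (F.obj j).left) (cF : Cone F) (hcF : IsLimit cF)
    (hrep : (X.obj ⨯ (yon S).obj cF.pt).obj.IsRepresentable) :
    ∃ j, (X.obj ⨯ (yon S).obj (F.obj j)).obj.IsRepresentable := by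
  haveI : IsConnected J := IsCofiltered.isConnected J
  obtain ⟨hc⟩ : Nonempty (IsLimit ((prod.functor.obj X.obj).mapCone ((yon S).mapCone cF))) :=
    nonempty_isLimit_prod_mapCone X.obj (isLimitOfPreserves (yon S) hcF)
  -- `X` is quasi-separated over `S`
  have hXqs : IsQuasiSeparatedSp X.obj := by
    let e : (yon S).obj (Over.mk (𝟙 S)) ≅ ⊤_ (Sp S) := (tS S).uniqueUpToIso terminalIsTerminal
    have he : IsQuasiSeparatedMor e.hom :=
      (Groth.Agent.Lib.AlgSpSep_helper7.isQuasiSeparatedMor_iff_of_representable e.hom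
        (Groth.Agent.Lib.AlgSpBasic_helper7.repWith_of_isIso @QuasiSeparated e.hom).rep).2
        (Groth.Agent.Lib.AlgSpBasic_helper7.repWith_of_isIso @QuasiSeparated e.hom)
    have h1 := isQuasiSeparatedMor_comp q e.hom hqs he
    rw [terminal.hom_ext (q ≫ e.hom) (terminal.from X.obj)] at h1
    exact (repWith_diag_iff_diagonal_terminal_from @QuasiCompact X.obj).2 h1
  refine main10007 (F ⋙ yon S ⋙ prod.functor.obj X.obj) ?_ ?_ ?_ ?_ _ hc hrep
  · intro j
    exact Groth.Agent.Lib.AlgSpProdChartH7.isAlgSpace_prod X.property (F.obj j)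
  · intro i j φ
    haveI := hF i
    haveI := hF j
    have h1 : IsAffineMor ((yon S).map (F.map φ)) :=
      Groth.Agent.Lib.AlgSpAffineMorH7.isAffineMor_yon_map (F.map φ)
    exact Groth.Agent.Lib.AlgSpAffineMorH7.isAffineMor_of_isPullback
      (isPullback_prod_map X.obj ((yon S).map (F.map φ))).flip h1
  · intro j
    haveI := hF j
    exact hqc (IsAlgSpace.yon_obj (F.obj j)) (isQuasiCompactSp_yon (F.obj j))
      ((tS S).from _) prod.fst prod.snd (isPullback_prod _ _ _ _)
  · intro j
    haveI := hF j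
    exact isQuasiSeparatedSp_prod hXqs (F.obj j) inferInstance

end Groth.Agent.Lib.LimQuotH7
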