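import Groth.Agent.Lib.LimQuot2_helper7

/-!
# A minimal quotient over which an algebraic space is not a scheme (helper7)

`main10052`.
-/

set_option backward.isDefEq.respectTransparency false
set_option backward.isDefEq.respectTransparency.types false
set_option linter.style.haveILetI false
set_option linter.unusedSectionVars false
set_option linter.unusedVariables false
set_option autoImplicit false
set_option maxHeartbeats 1600000

universe u

open CategoryTheory CategoryTheory.Limits AlgebraicGeometry Opposite Topology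
open AlgSp Groth.Agent.Lib.AlgSpPullback_helper7 Groth.Agent.Lib.AlgSpQC_helper7
  Groth.Agent.Lib.AlgSpPoints_helper7 Groth.Agent.Lib.AlgSpQC2_helper7

namespace Groth.Agent.Lib.LimQuotH7

open Groth.Agent.Lib.LimTowerH7 Groth.Agent.Lib.LimRepH7

variable {A : CommRingCat.{u}}

/-- `Spec (A/⊥) ⟶ Spec A` is an isomorphism. -/
theorem isIso_specMap_mk_bot :
    IsIso (Spec.map (CommRingCat.ofHom (Ideal.Quotient.mk (⊥ : Ideal A)))) := by
  haveI : IsIso (CommRingCat.ofHom (Ideal.Quotient.mk (⊥ : Ideal A))) := by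
    rw [ConcreteCategory.isIso_iff_bijective]
    refine ⟨?_, Ideal.Quotient.mk_surjective⟩
    show Function.Injective (Ideal.Quotient.mk (⊥ : Ideal A))
    rw [RingHom.injective_iff_ker_eq_bot, Ideal.mk_ker]
  infer_instance

theorem main10052 (X : Space (Spec A))
    (q : X.obj ⟶ (yon (Spec A)).obj (Over.mk (𝟙 (Spec A))))
    (hqc : IsQuasiCompactMor q) (hqs : IsQuasiSeparatedMor q)
    (hX : ¬ X.obj.obj.IsRepresentable) :
    ∃ I : Ideal A,
      (∀ (P : Sp (Spec A)) (fst : P ⟶ X.obj) (snd : P ⟶ (yon (Spec A)).obj (quotOver I))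
        (r : (yon (Spec A)).obj (quotOver I) ⟶ (yon (Spec A)).obj (Over.mk (𝟙 (Spec A)))),
        IsPullback fst snd q r → ¬ P.obj.IsRepresentable) ∧
      ∀ I' : Ideal A, I < I' →
        ∀ (P : Sp (Spec A)) (fst : P ⟶ X.obj) (snd : P ⟶ (yon (Spec A)).obj (quotOver I'))
          (r : (yon (Spec A)).obj (quotOver I') ⟶ (yon (Spec A)).obj (Over.mk (𝟙 (Spec A)))),
          IsPullback fst snd q r → P.obj.IsRepresentable := by
  -- the set of ideals over which `X` is not a scheme
  obtain ⟨s, hs⟩ : ∃ s : Set (Ideal A), s = {I : Ideal A |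
      ¬ (X.obj ⨯ (yon (Spec A)).obj (quotOver I)).obj.IsRepresentable} := ⟨_, rfl⟩
  have hmem : ∀ I : Ideal A, I ∈ s ↔
      ¬ (X.obj ⨯ (yon (Spec A)).obj (quotOver I)).obj.IsRepresentable := by
    intro I
    rw [hs]
    exact Iff.rfl
  -- `⊥ ∈ s`
  have hbot : (⊥ : Ideal A) ∈ s := by
    rw [hmem]
    intro hrep
    apply hX
    haveI := isIso_specMap_mk_bot (A := A)
    let g : quotOver (⊥ : Ideal A) ⟶ Over.mk (𝟙 (Spec A)) :=
      Over.homMk (Spec.map (CommRingCat.ofHom (Ideal.Quotient.mk (⊥ : Ideal A))))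
        (Category.comp_id _)
    haveI : IsIso ((Over.forget (Spec A)).map g) :=
      inferInstanceAs (IsIso (Spec.map (CommRingCat.ofHom (Ideal.Quotient.mk (⊥ : Ideal A)))))
    haveI : IsIso g := isIso_of_reflects_iso g (Over.forget (Spec A))
    have sq := isPullback_prod X.obj ((yon (Spec A)).obj (quotOver (⊥ : Ideal A))) q
      ((yon (Spec A)).map g)
    haveI : IsIso (prod.fst : X.obj ⨯ (yon (Spec A)).obj (quotOver (⊥ : Ideal A)) ⟶ X.obj) :=
      sq.isIso_fst_of_isIso
    exact isRepresentable_of_iso (asIso (prod.fst :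
      X.obj ⨯ (yon (Spec A)).obj (quotOver (⊥ : Ideal A)) ⟶ X.obj)) hrep
  -- chains
  have hchain : ∀ c ⊆ s, IsChain (· ≤ ·) c → ∀ y ∈ c, ∃ ub ∈ s, ∀ z ∈ c, z ≤ ub := by
    intro c hcs hc y hy
    refine ⟨sSup c, ?_, fun z hz => le_sSup hz⟩
    rw [hmem]
    intro hrep
    haveI : Nonempty ↥c := ⟨⟨y, hy⟩⟩
    haveI : IsDirected ↥c (· ≤ ·) := ⟨fun a b => by
      rcases hc.total a.2 b.2 with h | h
      · exact ⟨b, h, le_rfl⟩
      · exact ⟨a, le_rfl, h⟩⟩
    obtain ⟨j, hj⟩ := exists_stage_representable_prod X q hqc hqs (quotDiag c)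
      (fun j => by
        show IsAffine (Spec _)
        infer_instance)
      (quotCone c) (isLimitQuotCone c hc.directedOn ⟨y, hy⟩) hrep
    exact (hmem _).1 (hcs j.unop.2) hj
  obtain ⟨I, -, hI, hmax⟩ := zorn_le_nonempty₀ s hchain ⊥ hbot
  refine ⟨I, ?_, ?_⟩
  · intro P fst snd r sq hP
    exact (hmem I).1 hI (isRepresentable_of_iso (isoProdOfIsPullback sq) hP)
  · intro I' hlt P fst snd r sq
    have hI' : I' ∉ s := fun h => (not_le_of_gt hlt) (hmax h hlt.le)
    rw [hmem, not_not] at hI'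
    exact isRepresentable_of_iso (isoProdOfIsPullback sq).symm hI'

end Groth.Agent.Lib.LimQuotH7
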