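import Groth.Agent.Lib.LimHomIso_helper2
import Groth.Agent.Lib.LimDescMain_helper2

/-!
# EGA IV 8.5.2-type descent of finitely presented quotients over a limit of schemes (helper4)

`pbIso_assoc` (associativity of helper8's `pbIso`), `exists_epi_lift` (a surjection between
pullbacks to the limit comes from a surjection at a stage), `main4814`.
APPEND-ONLY once landed.
-/

set_option autoImplicit false
set_option maxHeartbeats 1000000
set_option linter.style.haveILetI false
set_option linter.unusedSectionVars false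
set_option linter.unusedVariables false
universe u

open CategoryTheory CategoryTheory.Limits AlgebraicGeometry TopologicalSpace Opposite

namespace Groth.Agent.Lib.LimQuotH4

section Assoc

variable {X Y Z W : Scheme.{u}} (a : X ⟶ Y) (b : Y ⟶ Z) (d : Z ⟶ W)
  (c : X ⟶ Z) (e : Y ⟶ W) (g : X ⟶ W)
  (w1 : a ≫ b = c) (w2 : b ≫ d = e) (w3 : c ≫ d = g) (w4 : a ≫ e = g) (F : W.Modules)

/-- Associativity of the composition isomorphisms `pbIso` of pullback functors. -/
theorem pbIso_assoc :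
    (DescH8.pbIso a b c w1).hom.app ((Scheme.Modules.pullback d).obj F) ≫
        (DescH8.pbIso c d g w3).hom.app F =
      (Scheme.Modules.pullback a).map ((DescH8.pbIso b d e w2).hom.app F) ≫
        (DescH8.pbIso a e g w4).hom.app F := by
  subst w1 w2 w3
  have := congr_app (Scheme.Modules.pseudofunctor_associativity a b d) F
  simp only [DescH8.pbIso, Scheme.Modules.pullbackCongr, Iso.trans_hom, NatTrans.comp_app,
    eqToIso.hom, eqToHom_app, eqToIso_refl, Iso.refl_hom, Category.comp_id]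
  simp only [NatTrans.comp_app, Functor.whiskerRight_app, Functor.associator_hom_app,
    Functor.whiskerLeft_app, eqToHom_app, Category.id_comp] at this
  rw [← cancel_epi ((Scheme.Modules.pullback a).map ((Scheme.Modules.pullbackComp b d).inv.app F)),
    ← cancel_epi ((Scheme.Modules.pullbackComp a (b ≫ d)).inv.app F), this]
  rw [← Functor.map_comp_assoc, Iso.inv_hom_id_app, CategoryTheory.Functor.map_id, Category.id_comp,
    Iso.inv_hom_id_app_assoc]

end Assoc

section Main

variable {I : Type u} [SmallCategory I] [IsCofiltered I] (D : I ⥤ Scheme.{u}) (c : Cone D)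
  (hc : IsLimit c) [∀ (i j : I) (f : i ⟶ j), IsAffineHom (D.map f)] (i₀ : I)

include hc in
/-- Lemma A: a surjection from the pullback of `F₀` onto the pullback of `G₀` (both living on the
same quasi-compact quasi-separated stage) comes from a surjection at a later stage. -/
theorem exists_epi_lift [CompactSpace (D.obj i₀)] [QuasiSeparatedSpace (D.obj i₀)]
    (F₀ G₀ : (D.obj i₀).Modules)
    [F₀.IsQuasicoherent] [SheafOfModules.IsFinitePresentation (R := (D.obj i₀).ringCatSheaf) F₀]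
    [G₀.IsQuasicoherent] [SheafOfModules.IsFiniteType (R := (D.obj i₀).ringCatSheaf) G₀]
    (h : (Scheme.Modules.pullback (c.π.app i₀)).obj F₀ ⟶
      (Scheme.Modules.pullback (c.π.app i₀)).obj G₀) [Epi h] :
    ∃ (k : Over i₀) (hk : (Scheme.Modules.pullback (D.map k.hom)).obj F₀ ⟶
        (Scheme.Modules.pullback (D.map k.hom)).obj G₀), Epi hk ∧
      (DescH8.pbIso (c.π.app k.left) (D.map k.hom) (c.π.app i₀) (c.w k.hom)).inv.app F₀ ≫
        (Scheme.Modules.pullback (c.π.app k.left)).map hk ≫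
          (DescH8.pbIso (c.π.app k.left) (D.map k.hom) (c.π.app i₀) (c.w k.hom)).hom.app G₀ =
        h := by
  obtain ⟨k, hk, e⟩ := LimMod.exists_hom_lift D c hc i₀ F₀ G₀ h
  haveI : CompactSpace (D.obj k.left) := QuasiCompact.compactSpace_of_compactSpace (D.map k.hom)
  haveI : Epi ((Scheme.Modules.pullback (c.π.app k.left)).map hk) := by
    have e2 : (Scheme.Modules.pullback (c.π.app k.left)).map hk =
        (DescH8.pbIso (c.π.app k.left) (D.map k.hom) (c.π.app i₀) (c.w k.hom)).hom.app F₀ ≫ h ≫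
          (DescH8.pbIso (c.π.app k.left) (D.map k.hom) (c.π.app i₀) (c.w k.hom)).inv.app G₀ := by
      rw [← e]; simp
    rw [e2]
    infer_instance
  haveI : SheafOfModules.IsFiniteType (R := (D.obj k.left).ringCatSheaf)
      ((Scheme.Modules.pullback (D.map k.hom)).obj G₀) :=
    FpqcH8.isFiniteType_pullback (D.map k.hom) G₀
  obtain ⟨k', hk'⟩ := LimMod.eventually_epi D c hc k.left hk
  haveI := hk' k' (𝟙 k')
  have w : D.map k'.hom ≫ D.map k.hom = D.map (k'.hom ≫ k.hom) := (D.map_comp _ _).symm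
  refine ⟨Over.mk (k'.hom ≫ k.hom),
    (DescH8.pbIso (D.map k'.hom) (D.map k.hom) (D.map (k'.hom ≫ k.hom)) w).inv.app F₀ ≫
      (Scheme.Modules.pullback (D.map k'.hom)).map hk ≫
      (DescH8.pbIso (D.map k'.hom) (D.map k.hom) (D.map (k'.hom ≫ k.hom)) w).hom.app G₀, ?_, ?_⟩
  · infer_instance
  · have w1 : c.π.app k'.left ≫ D.map k'.hom = c.π.app k.left := c.w k'.hom
    have w3 : c.π.app k.left ≫ D.map k.hom = c.π.app i₀ := c.w k.hom
    have w4 : c.π.app k'.left ≫ D.map (k'.hom ≫ k.hom) = c.π.app i₀ := c.w (k'.hom ≫ k.hom)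
    have hF := pbIso_assoc (c.π.app k'.left) (D.map k'.hom) (D.map k.hom) (c.π.app k.left)
      (D.map (k'.hom ≫ k.hom)) (c.π.app i₀) w1 w w3 w4 F₀
    have hG := pbIso_assoc (c.π.app k'.left) (D.map k'.hom) (D.map k.hom) (c.π.app k.left)
      (D.map (k'.hom ≫ k.hom)) (c.π.app i₀) w1 w w3 w4 G₀
    have hF' : (DescH8.pbIso (c.π.app k'.left) (D.map (k'.hom ≫ k.hom)) (c.π.app i₀) w4).inv.app F₀ ≫
        (Scheme.Modules.pullback (c.π.app k'.left)).map
          ((DescH8.pbIso (D.map k'.hom) (D.map k.hom) (D.map (k'.hom ≫ k.hom)) w).inv.app F₀) =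
        (DescH8.pbIso (c.π.app k.left) (D.map k.hom) (c.π.app i₀) w3).inv.app F₀ ≫
          (DescH8.pbIso (c.π.app k'.left) (D.map k'.hom) (c.π.app k.left) w1).inv.app
            ((Scheme.Modules.pullback (D.map k.hom)).obj F₀) := by
      rw [← cancel_mono ((DescH8.pbIso (c.π.app k'.left) (D.map k'.hom) (c.π.app k.left) w1).hom.app
        ((Scheme.Modules.pullback (D.map k.hom)).obj F₀) ≫
        (DescH8.pbIso (c.π.app k.left) (D.map k.hom) (c.π.app i₀) w3).hom.app F₀)]
      conv_lhs => rw [hF]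
      simp only [Category.assoc, Iso.inv_hom_id_app_assoc, Iso.inv_hom_id_app]
      rw [← Functor.map_comp_assoc, Iso.inv_hom_id_app, CategoryTheory.Functor.map_id,
        Category.id_comp, Iso.inv_hom_id_app]
    change (DescH8.pbIso (c.π.app k'.left) (D.map (k'.hom ≫ k.hom)) (c.π.app i₀) w4).inv.app F₀ ≫
      (Scheme.Modules.pullback (c.π.app k'.left)).map _ ≫
      (DescH8.pbIso (c.π.app k'.left) (D.map (k'.hom ≫ k.hom)) (c.π.app i₀) w4).hom.app G₀ = h
    rw [(Scheme.Modules.pullback (c.π.app k'.left)).map_comp,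
      (Scheme.Modules.pullback (c.π.app k'.left)).map_comp, Category.assoc, Category.assoc, ← hG,
      reassoc_of% hF', ← e]
    congr 1
    rw [← Category.assoc, ← Category.assoc]
    congr 1
    rw [Category.assoc]
    exact (DescH8.pb_map_eq (c.π.app k'.left) (D.map k'.hom) (c.π.app k.left) w1 hk).symm

end Main

theorem main4814 {I : Type u} [SmallCategory I] [IsCofiltered I]
    (D : I ⥤ Scheme.{u}) (c : Limits.Cone D) (hc : Limits.IsLimit c)
    [∀ (i j : I) (f : i ⟶ j), IsAffineHom (D.map f)] (i₀ : I)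
    [CompactSpace (D.obj i₀)] [QuasiSeparatedSpace (D.obj i₀)]
    (F₀ : (D.obj i₀).Modules) [Coh.IsQCoh F₀] (hF₀ : CohB1.IsFP F₀)
    {G : c.pt.Modules} [Coh.IsQCoh G] (hG : CohB1.IsFP G)
    (p : (Scheme.Modules.pullback (c.π.app i₀)).obj F₀ ⟶ G) [Epi p] :
    ∃ (j : I) (φ : j ⟶ i₀) (Gj : (D.obj j).Modules) (_ : Coh.IsQCoh Gj)
      (pj : (Scheme.Modules.pullback (D.map φ)).obj F₀ ⟶ Gj)
      (e : (Scheme.Modules.pullback (c.π.app j)).obj Gj ≅ G),
      CohB1.IsFP Gj ∧ Epi pj ∧
        ((Scheme.Modules.pullbackComp (c.π.app j) (D.map φ) ≪≫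
          Scheme.Modules.pullbackCongr (c.w φ)).app F₀).inv ≫
          (Scheme.Modules.pullback (c.π.app j)).map pj ≫ e.hom = p := by
  haveI := hF₀
  haveI : F₀.IsQuasicoherent := ‹Coh.IsQCoh F₀›
  obtain ⟨i₁, ψ, G₁, hG₁qc, hG₁fp, ⟨e₁⟩⟩ := LimDescMain.main4788 D c hc i₀ G hG
  haveI := hG₁fp
  haveI : G₁.IsQuasicoherent := hG₁qc
  haveI : CompactSpace (D.obj i₁) := QuasiCompact.compactSpace_of_compactSpace (D.map ψ)
  haveI : QuasiSeparatedSpace (D.obj i₁) := quasiSeparatedSpace_of_quasiSeparated (D.map ψ)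
  haveI : SheafOfModules.IsFinitePresentation (R := (D.obj i₁).ringCatSheaf)
      ((Scheme.Modules.pullback (D.map ψ)).obj F₀) := FpqcH8.isFP_pullback (D.map ψ) F₀
  haveI : SheafOfModules.IsFiniteType (R := (D.obj i₁).ringCatSheaf) G₁ := inferInstance
  let h : (Scheme.Modules.pullback (c.π.app i₁)).obj ((Scheme.Modules.pullback (D.map ψ)).obj F₀) ⟶
      (Scheme.Modules.pullback (c.π.app i₁)).obj G₁ :=
    (DescH8.pbIso (c.π.app i₁) (D.map ψ) (c.π.app i₀) (c.w ψ)).hom.app F₀ ≫ p ≫ e₁.inv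
  haveI : Epi h := by dsimp only [h]; infer_instance
  obtain ⟨k, hk, hkepi, ek⟩ := exists_epi_lift D c hc i₁
    ((Scheme.Modules.pullback (D.map ψ)).obj F₀) G₁ h
  have w : D.map k.hom ≫ D.map ψ = D.map (k.hom ≫ ψ) := (D.map_comp _ _).symm
  refine ⟨k.left, k.hom ≫ ψ, (Scheme.Modules.pullback (D.map k.hom)).obj G₁, ?_,
    (DescH8.pbIso (D.map k.hom) (D.map ψ) (D.map (k.hom ≫ ψ)) w).inv.app F₀ ≫ hk,
    (DescH8.pbIso (c.π.app k.left) (D.map k.hom) (c.π.app i₁) (c.w k.hom)).app G₁ ≪≫ e₁, ?_, ?_, ?_⟩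
  · exact (inferInstance : ((Scheme.Modules.pullback (D.map k.hom)).obj G₁).IsQuasicoherent)
  · exact FpqcH8.isFP_pullback (D.map k.hom) G₁
  · infer_instance
  · have w1 : c.π.app k.left ≫ D.map k.hom = c.π.app i₁ := c.w k.hom
    have w3 : c.π.app i₁ ≫ D.map ψ = c.π.app i₀ := c.w ψ
    have w4 : c.π.app k.left ≫ D.map (k.hom ≫ ψ) = c.π.app i₀ := c.w (k.hom ≫ ψ)
    have hF := pbIso_assoc (c.π.app k.left) (D.map k.hom) (D.map ψ) (c.π.app i₁)
      (D.map (k.hom ≫ ψ)) (c.π.app i₀) w1 w w3 w4 F₀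
    have ek' : (Scheme.Modules.pullback (c.π.app k.left)).map hk ≫
        (DescH8.pbIso (c.π.app k.left) (D.map k.hom) (c.π.app i₁) w1).hom.app G₁ ≫ e₁.hom =
        (DescH8.pbIso (c.π.app k.left) (D.map k.hom) (c.π.app i₁) w1).hom.app
          ((Scheme.Modules.pullback (D.map ψ)).obj F₀) ≫
        (DescH8.pbIso (c.π.app i₁) (D.map ψ) (c.π.app i₀) w3).hom.app F₀ ≫ p := by
      have := ek
      dsimp only [h] at this
      rw [← cancel_epi ((DescH8.pbIso (c.π.app k.left) (D.map k.hom) (c.π.app i₁) w1).inv.app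
        ((Scheme.Modules.pullback (D.map ψ)).obj F₀)), ← cancel_mono e₁.inv]
      simp only [Category.assoc, Iso.hom_inv_id, Category.comp_id, Iso.inv_hom_id_app_assoc]
      exact this
    change (DescH8.pbIso (c.π.app k.left) (D.map (k.hom ≫ ψ)) (c.π.app i₀) w4).inv.app F₀ ≫
      (Scheme.Modules.pullback (c.π.app k.left)).map _ ≫
      ((DescH8.pbIso (c.π.app k.left) (D.map k.hom) (c.π.app i₁) w1).hom.app G₁ ≫ e₁.hom) = p
    rw [(Scheme.Modules.pullback (c.π.app k.left)).map_comp, Category.assoc, ek',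
      reassoc_of% hF, ← Functor.map_comp_assoc, Iso.inv_hom_id_app,
      CategoryTheory.Functor.map_id, Category.id_comp, Iso.inv_hom_id_app_assoc]

end Groth.Agent.Lib.LimQuotH4
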