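import Mathlib
import Groth.Agent.Lib.LimBaseChange_helper7

/-!
# Image of the projection from a cofiltered limit of schemes (helper7)
-/

set_option autoImplicit false
set_option backward.isDefEq.respectTransparency false
universe u
open CategoryTheory CategoryTheory.Limits AlgebraicGeometry

namespace Groth.Agent.Lib.LimRangeH7
open Groth.Agent.Lib.LimBaseChangeH7

variable {I : Type u} [SmallCategory I] [IsCofiltered I] (D : I ⥤ Scheme.{u}) (c : Cone D)
  (hc : IsLimit c) [∀ (i j : I) (f : i ⟶ j), IsAffineHom (D.map f)]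

include hc in
/-- If a quasi-compact `T ⟶ S_i` meets the image of every transition map, in the sense that all
fibre products `T ×_{S_i} S_j` are nonempty, then `T ×_{S_i} S` is nonempty. -/
theorem nonempty_pullback_of_forall (i : I) {T : Scheme.{u}} (a : T ⟶ D.obj i) [CompactSpace T]
    (h : ∀ (j : I) (φ : j ⟶ i), Nonempty ↥(pullback a (D.map φ))) :
    Nonempty ↥(pullback a (c.π.app i)) := by
  have hX := IsPullback.of_hasPullback a (c.π.app i)
  have hcX := isLimitBcCone c hX hc
  haveI : ∀ j : Over i, Nonempty ((bcDiagram D i a).obj j) := fun j => h j.left j.hom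
  exact Scheme.nonempty_of_isLimit (bcDiagram D i a) (bcCone c hX) hcX

include hc in
theorem range_π_app (i : I) :
    Set.range ⇑(c.π.app i) = ⋂ (j : I) (φ : j ⟶ i), Set.range ⇑(D.map φ) := by
  apply Set.Subset.antisymm
  · rintro _ ⟨s, rfl⟩
    simp only [Set.mem_iInter]
    intro j φ
    refine ⟨c.π.app j s, ?_⟩
    have h := Scheme.Hom.comp_apply (c.π.app j) (D.map φ) s
    rw [c.w] at h
    exact h.symm
  · intro x hx
    simp only [Set.mem_iInter] at hx
    let ρ := (D.obj i).fromSpecResidueField x
    have hne : ∀ (j : I) (φ : j ⟶ i), Nonempty ↥(pullback ρ (D.map φ)) := by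
      intro j φ
      obtain ⟨y, hy⟩ := hx j φ
      have p0 : Spec ((D.obj i).residueField x) := Classical.arbitrary _
      obtain ⟨z, -, -⟩ := Scheme.Pullback.exists_preimage_pullback (f := ρ) (g := D.map φ) p0 y
        (by rw [Scheme.fromSpecResidueField_apply, hy])
      exact ⟨z⟩
    obtain ⟨z⟩ := nonempty_pullback_of_forall D c hc i ρ hne
    refine ⟨pullback.snd ρ (c.π.app i) z, ?_⟩
    rw [← Scheme.Hom.comp_apply, ← pullback.condition, Scheme.Hom.comp_apply,
      Scheme.fromSpecResidueField_apply]

end Groth.Agent.Lib.LimRangeH7
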