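import Mathlib
import Groth.Agent.Lib.LimConn_helper9

/-!
# Reducedness through cofiltered limits of schemes (helper9)
-/

set_option autoImplicit false
set_option backward.isDefEq.respectTransparency false
universe u
open CategoryTheory CategoryTheory.Limits AlgebraicGeometry Topology TopologicalSpace

namespace Groth.Agent.Lib.LimRed
open Groth.Agent.Lib.LimConstr Groth.Agent.Lib.LimConn

/-- A scheme is reduced if every point has a reduced open neighbourhood. -/
theorem isReduced_of_forall_exists_opens {X : Scheme.{u}}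
    (h : ∀ x : X, ∃ U : X.Opens, x ∈ U ∧ IsReduced U.toScheme) : IsReduced X := by
  haveI : ∀ x : X, _root_.IsReduced (X.presheaf.stalk x) := by
    intro x
    obtain ⟨U, hxU, hU⟩ := h x
    have e := U.stalkIso ⟨x, hxU⟩
    haveI := hU
    exact isReduced_of_injective e.inv.hom e.symm.commRingCatIsoToRingEquiv.injective
  exact isReduced_of_isReduced_stalk X

variable {I : Type u} [SmallCategory I] [IsCofiltered I] (D : I ⥤ Scheme.{u}) (c : Cone D)
  (hc : IsLimit c) [hA : ∀ (i j : I) (f : i ⟶ j), IsAffineHom (D.map f)]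

include hc in
/-- S4774. -/
theorem exists_not_isReduced (h : ¬ IsReduced c.pt) :
    ∃ (i : I), ∀ (j : I) (_ : j ⟶ i), ¬ IsReduced (D.obj j) := by
  haveI hA' : ∀ {i j : I} (f : i ⟶ j), IsAffineHom (D.map f) := fun f => inferInstance
  obtain ⟨i⟩ := IsCofiltered.nonempty (C := I)
  have : ∃ V : (D.obj i).Opens, IsAffineOpen V ∧ ¬ IsReduced (c.π.app i ⁻¹ᵁ V).toScheme := by
    by_contra hcon
    push Not at hcon
    apply h
    refine isReduced_of_forall_exists_opens fun x => ?_
    obtain ⟨_, ⟨V, hV : IsAffineOpen V, rfl⟩, hxV, -⟩ :=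
      (D.obj i).isBasis_affineOpens.exists_subset_of_mem_open
        (Set.mem_univ (c.π.app i x)) isOpen_univ
    exact ⟨c.π.app i ⁻¹ᵁ V, hxV, hcon V hV⟩
  obtain ⟨V, hV, hnr⟩ := this
  haveI : ∀ j, IsAffine ((opensDiagram D i V).obj j) := fun j => hV.preimage (D.map _)
  haveI : IsAffine (opensCone D c i V).pt :=
    Scheme.isAffine_of_isLimit _ (isLimitOpensCone D c hc i V)
  have hΓ : ¬ _root_.IsReduced Γ((opensCone D c i V).pt, ⊤) := fun hr =>
    hnr (isReduced_of_isAffine_isReduced (opensCone D c i V).pt)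
  rw [isReduced_iff] at hΓ
  push Not at hΓ
  obtain ⟨s, ⟨n, hn⟩, hs0⟩ := hΓ
  obtain ⟨j, t, ht⟩ := exists_appTop_π_eq_of_isAffine_of_isLimit (opensDiagram D i V)
    (opensCone D c i V) (isLimitOpensCone D c hc i V) s
  have h0 : ((opensCone D c i V).π.app j).appTop (t ^ n) = 0 := by
    rw [map_pow, ht, hn]
  obtain ⟨k, f, hk⟩ := exists_appTop_map_eq_zero_of_isAffine_of_isLimit (opensDiagram D i V)
    (opensCone D c i V) (isLimitOpensCone D c hc i V) j (t ^ n) h0
  refine ⟨k.left, fun j' ψ hred => ?_⟩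
  let l : Over i := Over.mk (ψ ≫ k.hom)
  let g : l ⟶ k := Over.homMk ψ
  have hnil : (((opensDiagram D i V).map (g ≫ f)).appTop t) ^ n = 0 := by
    rw [← map_pow, (opensDiagram D i V).map_comp, Scheme.Hom.comp_appTop, CommRingCat.comp_apply,
      hk, map_zero]
  have hne : ((opensDiagram D i V).map (g ≫ f)).appTop t ≠ 0 := by
    intro h0
    apply hs0
    rw [← ht, ← (opensCone D c i V).w (g ≫ f), Scheme.Hom.comp_appTop, CommRingCat.comp_apply, h0,
      map_zero]
  haveI : IsReduced (D.obj l.left) := hred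
  haveI : IsReduced ((opensDiagram D i V).obj l) :=
    (inferInstance : IsReduced (D.map l.hom ⁻¹ᵁ V).toScheme)
  exact hne (IsNilpotent.eq_zero ⟨n, hnil⟩)

include hc in
/-- S4775. -/
theorem isReduced_iff_of_flat_surjective
    (hf : ∀ (i j : I) (φ : i ⟶ j), Flat (D.map φ) ∧ Surjective (D.map φ)) :
    IsReduced c.pt ↔ ∀ (i : I), IsReduced (D.obj i) := by
  haveI hA' : ∀ {i j : I} (f : i ⟶ j), IsAffineHom (D.map f) := fun f => inferInstance
  constructor
  · intro hred i
    by_contra hnr
    have : ∃ V : (D.obj i).Opens, IsAffineOpen V ∧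
        ¬ IsReduced (D.map (𝟙 i) ⁻¹ᵁ V).toScheme := by
      by_contra hcon
      push Not at hcon
      apply hnr
      refine isReduced_of_forall_exists_opens fun x => ?_
      obtain ⟨_, ⟨V, hV : IsAffineOpen V, rfl⟩, hxV, -⟩ :=
        (D.obj i).isBasis_affineOpens.exists_subset_of_mem_open (Set.mem_univ x) isOpen_univ
      refine ⟨D.map (𝟙 i) ⁻¹ᵁ V, ?_, hcon V hV⟩
      simpa using hxV
    obtain ⟨V, hV, hnr'⟩ := this
    haveI : ∀ j, IsAffine ((opensDiagram D i V).obj j) := fun j => hV.preimage (D.map _)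
    have hΓ : ¬ _root_.IsReduced Γ((opensDiagram D i V).obj (Over.mk (𝟙 i)), ⊤) := fun hr =>
      hnr' (isReduced_of_isAffine_isReduced ((opensDiagram D i V).obj (Over.mk (𝟙 i))))
    rw [isReduced_iff] at hΓ
    push Not at hΓ
    obtain ⟨s, ⟨n, hn⟩, hs0⟩ := hΓ
    haveI : IsReduced (((Functor.const I).obj c.pt).obj i) := hred
    haveI : IsReduced (opensCone D c i V).pt :=
      (inferInstance : IsReduced (c.π.app i ⁻¹ᵁ V).toScheme)
    have h0 : ((opensCone D c i V).π.app (Over.mk (𝟙 i))).appTop s = 0 := by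
      have hnil : IsNilpotent (R := Γ((opensCone D c i V).pt, ⊤))
          (((opensCone D c i V).π.app (Over.mk (𝟙 i))).appTop s) :=
        ⟨n, (map_pow _ s n).symm.trans (by rw [hn]; exact map_zero _)⟩
      exact hnil.eq_zero
    obtain ⟨k, f, hk⟩ := exists_appTop_map_eq_zero_of_isAffine_of_isLimit (opensDiagram D i V)
      (opensCone D c i V) (isLimitOpensCone D c hc i V) (Over.mk (𝟙 i)) s h0
    have hfk : f.left = k.hom := by simpa using Over.w f
    have hinj : Function.Injective ((opensDiagram D i V).map f).appTop.hom := by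
      haveI : Flat ((opensDiagram D i V).map f) := by
        haveI := (hf _ _ f.left).1
        rw [opensDiagram_map]
        infer_instance
      haveI : Surjective ((opensDiagram D i V).map f) := by
        refine ⟨fun y => ?_⟩
        obtain ⟨x, hx⟩ := (hf _ _ f.left).2.surj y.1
        have hy : y.1 ∈ V := by simpa using y.2
        have hxV : x ∈ D.map k.hom ⁻¹ᵁ V := by
          have e : D.map k.hom = D.map f.left := by rw [hfk]
          have e2 : (D.map k.hom) x = y.1 := by rw [e]; exact hx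
          show (D.map k.hom) x ∈ (V : Set (D.obj i))
          exact Set.mem_of_eq_of_mem e2 hy
        refine ⟨⟨x, hxV⟩, ?_⟩
        apply (D.map (𝟙 i) ⁻¹ᵁ V).ι.isOpenEmbedding.injective
        have h3 : (opensDiagram D i V).map f ≫ (D.map (𝟙 i) ⁻¹ᵁ V).ι =
            (D.map k.hom ⁻¹ᵁ V).ι ≫ D.map f.left := by
          simp
        have h1 := Scheme.Hom.comp_apply ((opensDiagram D i V).map f) (D.map (𝟙 i) ⁻¹ᵁ V).ι ⟨x, hxV⟩
        rw [h3, Scheme.Hom.comp_apply] at h1
        exact h1.symm.trans hx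
      exact ((Flat.flat_and_surjective_iff_faithfullyFlat_of_isAffine
        ((opensDiagram D i V).map f)).mp ⟨inferInstance, inferInstance⟩).injective
    exact hs0 (hinj (by rw [hk, map_zero]))
  · intro hall
    by_contra hnr
    obtain ⟨i, hi⟩ := exists_not_isReduced D c hc hnr
    exact hi i (𝟙 i) (hall i)

include hc in
/-- S4776. -/
theorem isIntegral_iff_of_flat_surjective (i₀ : I) [CompactSpace (D.obj i₀)]
    (hf : ∀ (i j : I) (φ : i ⟶ j), Flat (D.map φ) ∧ Surjective (D.map φ)) :
    IsIntegral c.pt ↔ ∃ (i : I) (_ : i ⟶ i₀), ∀ (j : I) (_ : j ⟶ i), IsIntegral (D.obj j) := by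
  have hd : ∀ (i j : I) (φ : i ⟶ j), IsDominant (D.map φ) := fun i j φ =>
    haveI := (hf i j φ).2
    inferInstance
  constructor
  · intro h
    obtain ⟨i, d, hi⟩ := (irreducibleSpace_iff D c hc i₀ hd).mp inferInstance
    have hr := (isReduced_iff_of_flat_surjective D c hc hf).mp inferInstance
    refine ⟨i, d, fun j φ => ?_⟩
    haveI := hi j φ
    haveI := hr j
    exact isIntegral_of_irreducibleSpace_of_isReduced (D.obj j)
  · rintro ⟨i, d, hi⟩
    haveI : IrreducibleSpace c.pt := (irreducibleSpace_iff D c hc i₀ hd).mpr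
      ⟨i, d, fun j φ => haveI := hi j φ; inferInstance⟩
    haveI : IsReduced c.pt := by
      by_contra hnr
      obtain ⟨i', hi'⟩ := exists_not_isReduced D c hc hnr
      haveI := hi (IsCofiltered.min i i') (IsCofiltered.minToLeft i i')
      exact hi' (IsCofiltered.min i i') (IsCofiltered.minToRight i i') inferInstance
    exact isIntegral_of_irreducibleSpace_of_isReduced c.pt

end Groth.Agent.Lib.LimRed
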