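import Groth.Agent.Lib.LimTower6_helper7
import Groth.Agent.Lib.AlgSpOpenSub_helper7
import Groth.Agent.Lib.MonicGsect_helper6

/-!
# Quasi-compact opens of a limit descend to a stage (helper7)
-/

set_option autoImplicit false
set_option linter.style.haveILetI false

universe u

open CategoryTheory CategoryTheory.Limits AlgebraicGeometry Opposite
open AlgSp Groth.Agent.Lib.AlgSpPullback_helper7 Groth.Agent.Lib.AlgSpQC_helper7
  Groth.Agent.Lib.AlgSpPoints_helper7 Groth.Agent.Lib.AlgSpOpenSub_helper7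
  Groth.Agent.Lib.AlgSpOpen_helper7 Groth.Agent.Lib.AlgSpQC2_helper7
  Groth.Agent.Lib.MonicGsectH6

namespace Groth.Agent.Lib.LimTowerH7

variable {S : Scheme.{u}}

/-- Points of a pullback square whose corners over the target are schemes. -/
theorem exists_pt_of_isPullback_mixed {X Y : Sp S} {f : X ⟶ Y} {P E : Over S}
    {fst : (yon S).obj P ⟶ X} {π : P ⟶ E} {p : (yon S).obj E ⟶ Y}
    (sq : IsPullback fst ((yon S).map π) f p) (x : Points X) (v : ↥E.left)
    (h : Points.map f x = Points.ofPt p v) :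
    ∃ e : ↥P.left, Points.ofPt fst e = x ∧ π.left e = v := by
  rw [Points.ofPt_eq_map_ofScheme] at h
  obtain ⟨z, hz1, hz2⟩ := exists_of_isPullback sq x _ h
  obtain ⟨e, rfl⟩ := ofScheme_surjective P z
  refine ⟨e, ?_, ?_⟩
  · rw [Points.ofPt_eq_map_ofScheme]
    exact hz1
  · apply ofScheme_injective E
    rw [← hz2, ← Points.ofPt_eq_map_ofScheme, ofPt_yon_map]

/-- An open subspace whose points are the preimage of the points of an open subspace of the
target is the pullback of the latter. -/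
theorem exists_isPullback_of_openImmersion {X Y U V : Sp S} (f : X ⟶ Y) (j : U ⟶ X)
    (hj : RepWith @IsOpenImmersion j) (ι : V ⟶ Y) (hι : RepWith @IsOpenImmersion ι)
    (h : Set.range (Points.map j) = Points.map f ⁻¹' Set.range (Points.map ι)) :
    ∃ q : U ⟶ V, IsPullback j q f ι := by
  haveI : Mono j := mono_of_openImmersion j hj
  haveI : Mono ι := mono_of_openImmersion ι hι
  obtain ⟨q, hq⟩ := (factors_iff_of_openImmersion ι hι (j ≫ f)).2 (by
    rintro _ ⟨u, rfl⟩
    rw [Points.map_comp]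
    have : Points.map j u ∈ Set.range (Points.map j) := ⟨u, rfl⟩
    rw [h] at this
    exact this)
  refine ⟨q, isPullback_of_forall_yon hq.symm ?_⟩
  intro Z a b hab
  obtain ⟨l, hl⟩ := (factors_iff_of_openImmersion j hj a).2 (by
    rintro _ ⟨z, rfl⟩
    rw [h]
    show Points.map f (Points.map a z) ∈ Set.range (Points.map ι)
    rw [← Points.map_comp, hab, Points.map_comp]
    exact ⟨_, rfl⟩)
  refine ⟨l, ⟨hl, ?_⟩, ?_⟩
  · rw [← cancel_mono ι, Category.assoc, hq, ← Category.assoc, hl, hab]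
  · rintro l' ⟨h1, -⟩
    rw [← cancel_mono j, h1, hl]

set_option backward.isDefEq.respectTransparency false in
theorem main10086 [QuasiSeparatedSpace ↥S] {I : Type u} [SmallCategory I] [IsCofiltered I]
    (D : I ⥤ Sp S) (hD : ∀ i, IsAlgSpace (D.obj i))
    (hDa : ∀ (i j : I) (φ : i ⟶ j), IsAffineMor (D.map φ))
    (hqc : ∀ i, IsQuasiCompactSp (D.obj i)) (hqs : ∀ i, IsQuasiSeparatedSp (D.obj i))
    (c : Cone D) (hc : IsLimit c)
    (U : Sp S) (j : U ⟶ c.pt) (hj : RepWith @IsOpenImmersion j) (hU : IsQuasiCompactSp U) :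
    ∃ (i : I) (Ui : Sp S) (ji : Ui ⟶ D.obj i) (q : U ⟶ Ui),
      RepWith @IsOpenImmersion ji ∧ IsQuasiCompactSp Ui ∧ IsPullback j q (c.π.app i) ji := by
  obtain ⟨i₀⟩ := IsCofiltered.nonempty (C := I)
  obtain ⟨Z, g, hZaff, hge, hgs⟩ := exists_affine_atlas (hqc i₀)
  obtain ⟨E, p, q, cE, fst, w, sq, hp, hq, hEaff, hqaff, ⟨hcE⟩, ⟨hl⟩, hπaff, hw, hfst, pb,
    hwaff⟩ := exists_tower D hDa c hc i₀ g
  have hfe : RepWith @Etale fst := repWith_fst_of_isPullback _ pb hge
  have hfs : RepWith @Surjective fst := repWith_fst_of_isPullback _ pb hgs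
  haveI : IsAffine Z.left := hZaff
  have hgqc : RepWith @QuasiCompact g :=
    repWith_quasiCompact_of_isQuasiCompactMor g hge.rep
      (isQuasiCompactMor_of_isQuasiCompactSp_of_isQuasiSeparatedSp (IsAlgSpace.yon_obj Z) g
        (isQuasiCompactSp_yon Z) (hqs i₀))
  have hfqc : RepWith @QuasiCompact fst := repWith_fst_of_isPullback _ pb hgqc
  obtain ⟨Z', b, hbe, hbs, hZ'⟩ := hU
  haveI : CompactSpace ↥Z'.left := hZ'
  have hje : RepWith @Etale j := repWith_etale_of_openImmersion hj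
  have hae : RepWith @Etale (b ≫ j) := repWith_comp _ hbe hje
  have hW : Set.range (Points.map j) = Set.range (Points.ofPt (b ≫ j)) := by
    ext x
    constructor
    · rintro ⟨u, rfl⟩
      obtain ⟨z, rfl⟩ := ofPt_surjective b hbs u
      exact ⟨z, (Points.map_ofPt b j z).symm⟩
    · rintro ⟨z, rfl⟩
      exact ⟨Points.ofPt b z, Points.map_ofPt b j z⟩
  have hWo : IsOpen (Set.range (Points.map j)) := by
    rw [hW]
    exact (isOpenMap_ofPt_of_etale _ hae).isOpen_range
  let O : cE.pt.left.Opens :=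
    ⟨Points.ofPt fst ⁻¹' Set.range (Points.map j), Points.isOpen_iff.1 hWo _ fst⟩
  have hOc : IsCompact (O : Set ↥cE.pt.left) := by
    have sqP := hfe.rep.isPullback' (b ≫ j)
    have hsnd : QuasiCompact (hfe.rep.snd (b ≫ j)).left := hfqc.property (b ≫ j) _ _ sqP
    haveI : CompactSpace ↥(hfe.rep.pullback (b ≫ j)).left :=
      QuasiCompact.compactSpace_of_compactSpace (hfe.rep.snd (b ≫ j)).left
    have hO : (O : Set ↥cE.pt.left) = Set.range (hfe.rep.fst' (b ≫ j)).left := by
      ext e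
      constructor
      · intro he
        have he' : Points.ofPt fst e ∈ Set.range (Points.ofPt (b ≫ j)) := by
          rw [← hW]
          exact he
        obtain ⟨z, hz⟩ := he'
        obtain ⟨v, hv, -⟩ := exists_ofPt_eq_of_isPullback sqP e z hz.symm
        exact ⟨v, hv⟩
      · rintro ⟨v, rfl⟩
        show Points.ofPt fst _ ∈ Set.range (Points.map j)
        rw [hW, ← ofPt_comp, sqP.w, ofPt_comp]
        exact ⟨_, rfl⟩
    rw [hO]
    exact isCompact_range (hfe.rep.fst' (b ≫ j)).left.continuous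
  haveI : ∀ {j k : Over i₀} (φ : j ⟶ k), IsAffineHom ((E ⋙ Over.forget S).map φ) :=
    fun φ => hEaff _ _ φ
  obtain ⟨k, V₀, hVc₀, hV₀⟩ :=
    exists_preimage_eq (E ⋙ Over.forget S) ((Over.forget S).mapCone cE) hl O hOc
  obtain ⟨V, rfl⟩ : ∃ V : (E.obj k).left.Opens, V = V₀ := ⟨V₀, rfl⟩
  have hVc : IsCompact (V : Set ↥(E.obj k).left) := hVc₀
  have hV : ∀ e : ↥cE.pt.left, (cE.π.app k).left e ∈ V ↔ e ∈ O := fun e => by
    rw [← hV₀]
    exact Iff.rfl
  have hpe : RepWith @Etale (p k) := repWith_fst_of_isPullback _ (sq k) hge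
  obtain ⟨Wk, hWkdef⟩ : ∃ Wk : Set (Points (D.obj k.left)),
      Wk = Points.ofPt (p k) '' (V : Set ↥(E.obj k).left) := ⟨_, rfl⟩
  have hWk : IsOpen Wk := by
    rw [hWkdef]
    exact isOpenMap_ofPt_of_etale (p k) hpe _ V.2
  have stage := isPullback_stage D c i₀ g p q cE fst w sq hw hfst pb k
  have hpre : Set.range (Points.map j) = Points.map (c.π.app k.left) ⁻¹' Wk := by
    ext x
    constructor
    · intro hx
      obtain ⟨e, rfl⟩ := ofPt_surjective fst hfs x
      have he : e ∈ O := hx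
      rw [← hV] at he
      rw [hWkdef]
      refine ⟨(cE.π.app k).left e, he, ?_⟩
      rw [Points.map_ofPt, hfst k, ofPt_comp]
      rfl
    · intro hx
      rw [hWkdef] at hx
      obtain ⟨v, hv, hvx⟩ := hx
      obtain ⟨e, rfl, rfl⟩ := exists_pt_of_isPullback_mixed stage x v hvx.symm
      exact (hV e).1 hv
  have hji : RepWith @IsOpenImmersion (openSubι (D.obj k.left) Wk) :=
    repWith_isOpenImmersion_openSubι hWk
  have hr : Set.range (Points.map (openSubι (D.obj k.left) Wk)) = Wk :=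
    range_map_openSubι (hD k.left) hWk
  obtain ⟨q', hq'⟩ := exists_isPullback_of_openImmersion (c.π.app k.left) j hj
    (openSubι (D.obj k.left) Wk) hji (by rw [hr]; exact hpre)
  refine ⟨k.left, openSub (D.obj k.left) Wk, openSubι (D.obj k.left) Wk, q', hji, ?_, hq'⟩
  have ha : RepWith @Etale ((yon S).map
      (Over.homMk V.ι rfl : Over.mk (V.ι ≫ (E.obj k).hom) ⟶ E.obj k) ≫ p k) :=
    repWith_etale_restrict (p k) hpe V
  have hra : Set.range (Points.ofPt ((yon S).map
      (Over.homMk V.ι rfl : Over.mk (V.ι ≫ (E.obj k).hom) ⟶ E.obj k) ≫ p k)) = Wk := by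
    rw [hWkdef]
    ext x
    constructor
    · rintro ⟨v, rfl⟩
      refine ⟨V.ι v, ?_, ?_⟩
      · rw [Scheme.Opens.ι_apply]
        exact v.2
      · rw [ofPt_comp]
        rfl
    · rintro ⟨v, hv, rfl⟩
      refine ⟨⟨v, hv⟩, ?_⟩
      rw [ofPt_comp]
      rfl
  obtain ⟨a', -, hae', has'⟩ := exists_factor_chart _ ha (openSubι (D.obj k.left) Wk) hji
    (by rw [hr, hra])
  refine ⟨_, a', hae', has' (by rw [hr, hra]), ?_⟩
  exact isCompact_iff_compactSpace.1 hVc

end Groth.Agent.Lib.LimTowerH7
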