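import Groth.Agent.Lib.LimAff4_helper7
import Groth.Agent.Lib.LimTower7_helper7
import Groth.Agent.Lib.LimImmC_helper7
import Groth.Agent.Lib.AlgSpProdChart_helper7
import Groth.Agent.Lib.AlgSpGenFin3_helper6
import Groth.Agent.Lib.SchImage_helper7
import Groth.Agent.Lib.AffDesc8_helper7

/-!
# A limit of algebraic spaces which is a scheme: affine open pieces descend (helper7)
-/

set_option backward.isDefEq.respectTransparency false
set_option backward.isDefEq.respectTransparency.types false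
set_option linter.style.haveILetI false
set_option linter.unusedSectionVars false
set_option linter.unusedVariables false
set_option autoImplicit false
set_option maxHeartbeats 1600000

universe u

open CategoryTheory CategoryTheory.Limits AlgebraicGeometry Opposite
open AlgSp Groth.Agent.Lib.AlgSpPullback_helper7 Groth.Agent.Lib.AlgSpQC_helper7
  Groth.Agent.Lib.AlgSpPoints_helper7 Groth.Agent.Lib.AlgSpOpenSub_helper7
  Groth.Agent.Lib.AlgSpOpen_helper7 Groth.Agent.Lib.AlgSpQC2_helper7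
  Groth.Agent.Lib.MonicGsectH6

namespace Groth.Agent.Lib.LimRepH7

open Groth.Agent.Lib.LimTowerH7

variable {S : Scheme.{u}}

/-- The data of a quasi-compact open subspace of the stage `D i` which pulls back to the open
`u : h_{T'} ⟶ lim D` of the limit and whose base changes to all later stages are affine
schemes. -/
def IsAffOpenPkg {I : Type u} [SmallCategory I] (D : I ⥤ Sp S) (c : Cone D) {T' : Over S}
    (u : (yon S).obj T' ⟶ c.pt) (i : I) : Prop :=
  ∃ (P : Sp S) (β : P ⟶ D.obj i) (l : (yon S).obj T' ⟶ P),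
    RepWith @IsOpenImmersion β ∧ IsQuasiCompactSp P ∧ IsPullback l u β (c.π.app i) ∧
    ∀ (i' : I) (ψ : i' ⟶ i) (Pi : Sp S) (pi : Pi ⟶ P) (qi : Pi ⟶ D.obj i'),
      IsPullback pi qi β (D.map ψ) →
      ∃ T'' : Over S, IsAffine T''.left ∧ Nonempty ((yon S).obj T'' ≅ Pi)

/-- A package at a stage gives a package at every later stage. -/
theorem IsAffOpenPkg.of_hom {I : Type u} [SmallCategory I] {D : I ⥤ Sp S} {c : Cone D}
    {T' : Over S} {u : (yon S).obj T' ⟶ c.pt} {i i' : I} (h : IsAffOpenPkg D c u i)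
    (ψ : i' ⟶ i) : IsAffOpenPkg D c u i' := by
  obtain ⟨P, β, l, hβ, hP, hsq, hall⟩ := h
  have h₁ := IsPullback.of_hasPullback β (D.map ψ)
  obtain ⟨T₁, hT₁, ⟨e₁⟩⟩ := hall i' ψ _ _ _ h₁
  obtain ⟨l', -, hl'⟩ := exists_isPullback_trans h₁ (c.π.app i') (c.w ψ) hsq
  refine ⟨pullback β (D.map ψ), pullback.snd β (D.map ψ), l', ?_, ?_, hl', ?_⟩
  · exact repWith_snd_of_isPullback _ h₁ hβ
  · haveI : IsAffine T₁.left := hT₁
    exact Groth.Agent.Lib.AffDescH7.isQuasiCompactSp_of_iso e₁.symm (isQuasiCompactSp_yon T₁)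
  · intro i'' ψ' Pi pi qi hPi
    have big := hPi.paste_horiz h₁
    rw [← D.map_comp] at big
    exact hall i'' (ψ' ≫ ψ) Pi _ _ big

/-- The product with a subterminal object: the graph square. -/
theorem isPullback_prod_lift {C : Type*} [Category C] [HasBinaryProducts C] {A B Z : C}
    (q : A ⟶ B) (z : A ⟶ Z) [Mono (prod.fst : B ⨯ Z ⟶ B)] :
    IsPullback (prod.lift q z) (𝟙 A) (prod.fst : B ⨯ Z ⟶ B) q :=
  IsPullback.of_vert_isIso_mono ⟨by simp⟩

/-- **Local affine stage.**  Let `lim D ≅ h_T` be a scheme, `T' ⊆ T` an affine open which maps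
into an affine open `Z₀` of the base `S`.  Then `T'` descends to a quasi-compact open subspace of
some stage, all of whose later base changes are affine schemes. -/
theorem exists_pkg [QuasiSeparatedSpace ↥S] {I : Type u} [SmallCategory I] [IsCofiltered I]
    (D : I ⥤ Sp S) (hD : ∀ i, IsAlgSpace (D.obj i))
    (hDa : ∀ (i j : I) (φ : i ⟶ j), IsAffineMor (D.map φ))
    (hqc : ∀ i, IsQuasiCompactSp (D.obj i)) (hqs : ∀ i, IsQuasiSeparatedSp (D.obj i))
    (c : Cone D) (hc : IsLimit c) {T : Over S} (e : (yon S).obj T ≅ c.pt)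
    {T' : Over S} (ι : T' ⟶ T) (hι : IsOpenImmersion ι.left) (hT' : IsAffine T'.left)
    {Z₀ : Over S} (hZ₀ : IsAffine Z₀.left) (hZ₀o : IsOpenImmersion Z₀.hom) (z : T' ⟶ Z₀) :
    ∃ i, IsAffOpenPkg D c ((yon S).map ι ≫ e.hom) i := by
  haveI := hT'
  haveI := hZ₀
  haveI := hZ₀o
  have hj : RepWith @IsOpenImmersion ((yon S).map ι ≫ e.hom) :=
    repWith_comp _ ((repWith_yon_map_iff @IsOpenImmersion ι).2 hι)
      (Groth.Agent.Lib.AlgSpBasic_helper7.repWith_of_isIso @IsOpenImmersion e.hom)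
  have hU : IsQuasiCompactSp ((yon S).obj T') := isQuasiCompactSp_yon T'
  obtain ⟨i₁, U₁, j₁, q₁, hj₁, hU₁, hsq⟩ :=
    main10086 D hD hDa hqc hqs c hc _ ((yon S).map ι ≫ e.hom) hj hU
  haveI : Mono j₁ := mono_of_openImmersion j₁ hj₁
  have hU₁alg : IsAlgSpace U₁ :=
    Groth.Agent.Lib.SchImageH7.isAlgSpace_of_representable_mono j₁ hj₁.rep (hD i₁)
  -- the product with `Z₀`
  have tS : IsTerminal ((yon S).obj (Over.mk (𝟙 S))) :=
    IsTerminal.isTerminalObj (yon S) _ Over.mkIdTerminal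
  have sqprod : IsPullback (prod.fst : U₁ ⨯ (yon S).obj Z₀ ⟶ U₁) prod.snd (tS.from _)
      (tS.from _) := IsPullback.of_is_product' (prodIsProd _ _) tS
  have hfrom : tS.from ((yon S).obj Z₀) =
      (yon S).map (Over.homMk Z₀.hom : Z₀ ⟶ Over.mk (𝟙 S)) := tS.hom_ext _ _
  have hfst_oi : RepWith @IsOpenImmersion (prod.fst : U₁ ⨯ (yon S).obj Z₀ ⟶ U₁) := by
    refine repWith_fst_of_isPullback _ sqprod ?_
    rw [hfrom]
    exact (repWith_yon_map_iff @IsOpenImmersion _).2 hZ₀o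
  have hfst_qc : RepWith @QuasiCompact (prod.fst : U₁ ⨯ (yon S).obj Z₀ ⟶ U₁) := by
    refine repWith_fst_of_isPullback _ sqprod ?_
    rw [hfrom]
    refine (repWith_yon_map_iff @QuasiCompact _).2 ?_
    show QuasiCompact Z₀.hom
    infer_instance
  haveI : Mono (prod.fst : U₁ ⨯ (yon S).obj Z₀ ⟶ U₁) := mono_of_openImmersion _ hfst_oi
  have hP₀alg : IsAlgSpace (U₁ ⨯ (yon S).obj Z₀) :=
    Groth.Agent.Lib.AlgSpProdChartH7.isAlgSpace_prod hU₁alg Z₀
  have hP₀qc : IsQuasiCompactSp (U₁ ⨯ (yon S).obj Z₀) :=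
    isQuasiCompactSp_of_repWith_quasiCompact _ hfst_qc hU₁
  have hj₁qs : IsQuasiSeparatedMor j₁ :=
    (Groth.Agent.Lib.AlgSpSep_helper7.isQuasiSeparatedMor_iff_of_representable j₁ hj₁.rep).2
      (repWith_mono (fun _ _ g (hg : IsOpenImmersion g) =>
        (inferInstance : QuasiSeparated g)) hj₁)
  have hU₁qs : IsQuasiSeparatedSp U₁ :=
    Groth.Agent.Lib.AlgSpGenFin3H6.isQuasiSeparatedSp_of_mor j₁ hj₁qs (hqs i₁)
  have hP₀qs : IsQuasiSeparatedSp (U₁ ⨯ (yon S).obj Z₀) :=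
    isQuasiSeparatedSp_prod hU₁qs Z₀ inferInstance
  -- the limit square
  have top := isPullback_prod_lift q₁ ((yon S).map z)
  have hP : IsPullback (prod.lift q₁ ((yon S).map z)) ((yon S).map ι ≫ e.hom)
      ((prod.fst : U₁ ⨯ (yon S).obj Z₀ ⟶ U₁) ≫ j₁) (c.π.app i₁) := by
    have := top.paste_vert hsq.flip
    rwa [Category.id_comp] at this
  obtain ⟨i, φ, hstage⟩ := exists_affine_stage' D hD hDa c hc i₁
    (⟨U₁ ⨯ (yon S).obj Z₀, hP₀alg⟩ : Space S) ((prod.fst : U₁ ⨯ (yon S).obj Z₀ ⟶ U₁) ≫ j₁)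
    hP₀qc hP₀qs hZ₀ prod.snd hP hT' (Iso.refl _)
  have hpkg₁ : IsAffOpenPkg D c ((yon S).map ι ≫ e.hom) i₁ → True := fun _ => trivial
  -- the package at the stage `i`
  have h₁ := IsPullback.of_hasPullback ((prod.fst : U₁ ⨯ (yon S).obj Z₀ ⟶ U₁) ≫ j₁) (D.map φ)
  obtain ⟨T₁, hT₁, ⟨e₁⟩⟩ := hstage i (𝟙 i) _ _ _ (by rw [Category.id_comp]; exact h₁)
  obtain ⟨l', -, hl'⟩ := exists_isPullback_trans h₁ (c.π.app i) (c.w φ) hP
  refine ⟨i, pullback ((prod.fst : U₁ ⨯ (yon S).obj Z₀ ⟶ U₁) ≫ j₁) (D.map φ),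
    pullback.snd _ _, l', ?_, ?_, hl', ?_⟩
  · exact repWith_snd_of_isPullback _ h₁ (repWith_comp _ hfst_oi hj₁)
  · haveI : IsAffine T₁.left := hT₁
    exact Groth.Agent.Lib.AffDescH7.isQuasiCompactSp_of_iso e₁.symm (isQuasiCompactSp_yon T₁)
  · intro i'' ψ' Pi pi qi hPi
    have big := hPi.paste_horiz h₁
    rw [← D.map_comp] at big
    exact hstage i'' ψ' Pi _ _ big

end Groth.Agent.Lib.LimRepH7
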