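import Groth.Agent.Lib.LimTower8_helper7

/-!
# Descending surjectivity along a limit (helper7)
-/

set_option autoImplicit false
set_option linter.style.haveILetI false

universe u

open CategoryTheory CategoryTheory.Limits AlgebraicGeometry Opposite Topology
open AlgSp Groth.Agent.Lib.AlgSpPullback_helper7 Groth.Agent.Lib.AlgSpQC_helper7
  Groth.Agent.Lib.AlgSpPoints_helper7 Groth.Agent.Lib.AlgSpQC2_helper7
  Groth.Agent.Lib.MonicGsectH6

namespace Groth.Agent.Lib.LimTowerH7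

/-- A constructible subset of a stage whose preimage in the limit is empty already has empty
preimage in some later stage. -/
theorem exists_preimage_eq_empty_of_isConstructible {J : Type u} [SmallCategory J]
    [IsCofiltered J] (F : J ⥤ Scheme.{u}) [∀ {j k : J} (φ : j ⟶ k), IsAffineHom (F.map φ)]
    (c : Cone F) (hc : IsLimit c) (j₀ : J) [CompactSpace ↥(F.obj j₀)]
    [QuasiSeparatedSpace ↥(F.obj j₀)] (Z : Set ↥(F.obj j₀)) (hZ : IsConstructible Z)
    (hemp : c.π.app j₀ ⁻¹' Z = ∅) :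
    ∃ (j : J) (φ : j ⟶ j₀), F.map φ ⁻¹' Z = ∅ := by
  haveI : Nonempty {U : Set ↥(F.obj j₀) // IsOpen U ∧ IsCompact U} :=
    ⟨⟨∅, isOpen_empty, isCompact_empty⟩⟩
  have hbasis : TopologicalSpace.IsTopologicalBasis
      (Set.range (fun U : {U : Set ↥(F.obj j₀) // IsOpen U ∧ IsCompact U} => U.1)) := by
    rw [Subtype.range_coe_subtype]
    exact PrespectralSpace.isTopologicalBasis
  refine IsConstructible.induction_of_isTopologicalBasis
    (P := fun Z _ => c.π.app j₀ ⁻¹' Z = ∅ → ∃ (j : J) (φ : j ⟶ j₀), F.map φ ⁻¹' Z = ∅)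
    (fun U : {U : Set ↥(F.obj j₀) // IsOpen U ∧ IsCompact U} => U.1) hbasis
    (fun U => U.2.2) ?_ ?_ Z hZ hemp
  · intro U s hs hemp'
    let U' : (F.obj j₀).Opens := ⟨U.1, U.2.1⟩
    let V' : (F.obj j₀).Opens := ⟨⋃ k ∈ s, k.1, isOpen_biUnion fun k _ => k.2.1⟩
    have hU' : IsCompact (U' : Set ↥(F.obj j₀)) := U.2.2
    have H : c.π.app j₀ ⁻¹ᵁ U' ≤ c.π.app j₀ ⁻¹ᵁ V' := by
      intro x hx
      by_contra hxV
      have : x ∈ c.π.app j₀ ⁻¹' (U.1 \ ⋃ k ∈ s, k.1) :=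
        ⟨hx, hxV⟩
      rw [hemp'] at this
      exact this
    obtain ⟨j, φ, hφ⟩ := exists_map_preimage_le_map_preimage F c hc hU' H
    refine ⟨j, φ, ?_⟩
    rw [Set.eq_empty_iff_forall_notMem]
    rintro x ⟨hx1, hx2⟩
    exact hx2 (hφ hx1)
  · intro s _ t _ ihs iht hemp'
    rw [Set.preimage_union, Set.union_empty_iff] at hemp'
    obtain ⟨j₁, φ₁, h₁⟩ := ihs hemp'.1
    obtain ⟨j₂, φ₂, h₂⟩ := iht hemp'.2
    obtain ⟨k, a, b, hab⟩ := IsCofiltered.cospan φ₁ φ₂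
    refine ⟨k, a ≫ φ₁, ?_⟩
    rw [Set.eq_empty_iff_forall_notMem]
    rintro x (hx | hx)
    · have h3 : F.map a x ∈ F.map φ₁ ⁻¹' s := by
        show F.map φ₁ (F.map a x) ∈ s
        rw [← Scheme.Hom.comp_apply, ← F.map_comp]
        exact hx
      rw [h₁] at h3
      exact h3
    · have h3 : F.map b x ∈ F.map φ₂ ⁻¹' t := by
        show F.map φ₂ (F.map b x) ∈ t
        rw [← Scheme.Hom.comp_apply, ← F.map_comp, ← hab]
        exact hx
      rw [h₂] at h3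
      exact h3

variable {S : Scheme.{u}}

set_option backward.isDefEq.respectTransparency false in
theorem main10015 [QuasiSeparatedSpace ↥S] {I : Type u} [SmallCategory I] [IsCofiltered I]
    (D : I ⥤ Sp S)
    (hDa : ∀ (i j : I) (φ : i ⟶ j), IsAffineMor (D.map φ))
    (c : Cone D) (hc : IsLimit c) (i₀ : I)
    (X₀ Y₀ : Space S) (f₀ : X₀.obj ⟶ Y₀.obj) (b₀ : Y₀.obj ⟶ D.obj i₀)
    (hXqc : IsQuasiCompactSp X₀.obj)
    (hYqc : IsQuasiCompactSp Y₀.obj) (hYqs : IsQuasiSeparatedSp Y₀.obj)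
    (X Y : Sp S) (f : X ⟶ Y) (pY : Y ⟶ Y₀.obj) (qY : Y ⟶ c.pt)
    (hY : IsPullback pY qY b₀ (c.π.app i₀)) (pX : X ⟶ X₀.obj) (hX : IsPullback pX f f₀ pY)
    (hf : IsSurjectiveMor f) (hf₀ : LocP @LocallyOfFinitePresentation f₀) :
    ∃ (i : I) (φ : i ⟶ i₀), ∀ (Xi Yi : Sp S) (fi : Xi ⟶ Yi) (pYi : Yi ⟶ Y₀.obj)
      (qYi : Yi ⟶ D.obj i) (_ : IsPullback pYi qYi b₀ (D.map φ)) (pXi : Xi ⟶ X₀.obj)
      (_ : IsPullback pXi fi f₀ pYi), IsSurjectiveMor fi := by
  obtain ⟨W₀, a₀, hW₀, ha₀e, ha₀s⟩ := exists_affine_atlas hYqc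
  obtain ⟨V', aX, hV', haXe, haXs⟩ := exists_affine_atlas hXqc
  haveI : IsAffine W₀.left := hW₀
  haveI : IsAffine V'.left := hV'
  have ha₀qc : RepWith @QuasiCompact a₀ :=
    repWith_quasiCompact_of_isQuasiCompactMor a₀ ha₀e.rep
      (isQuasiCompactMor_of_isQuasiCompactSp_of_isQuasiSeparatedSp (IsAlgSpace.yon_obj W₀) a₀
        (isQuasiCompactSp_yon W₀) hYqs)
  -- the chart of `f₀`
  have sqV := ha₀e.rep.isPullback' (aX ≫ f₀)
  obtain ⟨V'', h₀, sn, hsq⟩ : ∃ (V'' : Over S) (h₀ : V'' ⟶ W₀) (sn : V'' ⟶ V'),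
      IsPullback ((yon S).map h₀) ((yon S).map sn) a₀ (aX ≫ f₀) := ⟨_, _, _, sqV⟩
  have hsnqc : QuasiCompact sn.left := ha₀qc.property (aX ≫ f₀) _ _ hsq
  have hsne : Etale sn.left := ha₀e.property (aX ≫ f₀) _ _ hsq
  haveI : CompactSpace ↥V''.left := QuasiCompact.compactSpace_of_compactSpace sn.left
  have hchart : RepWith @Etale ((yon S).map sn ≫ aX) :=
    repWith_comp _ ((repWith_yon_map_iff @Etale _).2 hsne) haXe
  have hcomm : ((yon S).map sn ≫ aX) ≫ f₀ = (yon S).map h₀ ≫ a₀ := by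
    rw [Category.assoc]
    exact hsq.w.symm
  haveI hlfp : LocallyOfFinitePresentation h₀.left := hf₀ _ a₀ h₀ hchart ha₀e hcomm
  haveI : QuasiCompact h₀.left := inferInstance
  have hcons : IsConstructible (Set.range h₀.left) := by
    rw [← Set.image_univ]
    exact Scheme.Hom.isConstructible_image h₀.left IsConstructible.univ
  -- points criterion for the image of `h₀`
  have hrange : ∀ (t : ↥W₀.left) (x₀ : Points X₀.obj),
      Points.map f₀ x₀ = Points.ofPt a₀ t → t ∈ Set.range h₀.left := by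
    intro t x₀ h
    obtain ⟨v', rfl⟩ := ofPt_surjective aX haXs x₀
    rw [Points.map_ofPt] at h
    obtain ⟨v'', hv1, -⟩ := exists_ofPt_eq_of_isPullback hsq t v' h.symm
    exact ⟨v'', hv1⟩
  -- the tower
  obtain ⟨E, p, q, cE, fst, w, sq, hp, hq, hEaff, hqaff, ⟨hcE⟩, ⟨hl⟩, hπaff, hw, hfst, pb,
    hwaff⟩ := exists_tower D hDa c hc i₀ (a₀ ≫ b₀)
  haveI : ∀ {j k : Over i₀} (φ : j ⟶ k), IsAffineHom ((E ⋙ Over.forget S).map φ) :=
    fun φ => hEaff _ _ φ
  obtain ⟨j₀, hj₀⟩ : ∃ j₀ : Over i₀, j₀ = Over.mk (𝟙 i₀) := ⟨_, rfl⟩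
  haveI : IsAffineHom (q j₀).left := hqaff j₀
  haveI : IsAffine ((E ⋙ Over.forget S).obj j₀) := isAffine_of_isAffineHom (q j₀).left
  have hZ' : IsConstructible ((q j₀).left ⁻¹' (Set.range h₀.left)ᶜ) :=
    Scheme.Hom.isConstructible_preimage (q j₀).left hcons.compl
  have hemp : ((Over.forget S).mapCone cE).π.app j₀ ⁻¹'
      ((q j₀).left ⁻¹' (Set.range h₀.left)ᶜ) = ∅ := by
    rw [Set.eq_empty_iff_forall_notMem]
    intro e he
    apply he
    show (q j₀).left ((cE.π.app j₀).left e) ∈ Set.range h₀.left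
    have e1 : (q j₀).left ((cE.π.app j₀).left e) = w.left e := by
      rw [← hw j₀]
      rfl
    rw [e1]
    have h1 : Points.map b₀ (Points.ofPt a₀ (w.left e)) =
        Points.map (c.π.app i₀) (Points.ofPt fst e) := by
      rw [Points.map_ofPt, Points.map_ofPt, pb.w, ofPt_comp]
    obtain ⟨y, hy1, -⟩ := exists_of_isPullback hY _ _ h1
    obtain ⟨x, rfl⟩ := hf y
    refine hrange (w.left e) (Points.map pX x) ?_
    rw [← Points.map_comp, hX.w, Points.map_comp, hy1]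
  obtain ⟨k, ψ, hk⟩ := exists_preimage_eq_empty_of_isConstructible (E ⋙ Over.forget S)
    ((Over.forget S).mapCone cE) hl j₀ _ hZ' hemp
  have hkr : ∀ e : ↥(E.obj k).left, (q k).left e ∈ Set.range h₀.left := by
    intro e
    by_contra hne
    have : e ∈ (E ⋙ Over.forget S).map ψ ⁻¹' ((q j₀).left ⁻¹' (Set.range h₀.left)ᶜ) := by
      show (q j₀).left ((E.map ψ).left e) ∉ Set.range h₀.left
      have e2 : (q j₀).left ((E.map ψ).left e) = (q k).left e := by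
        rw [← hq k j₀ ψ]
        rfl
      rw [e2]
      exact hne
    rw [hk] at this
    exact this
  refine ⟨k.left, k.hom, ?_⟩
  intro Xi Yi fi pYi qYi hYi pXi hXi y
  obtain ⟨t, ht⟩ := ofPt_surjective a₀ ha₀s (Points.map pYi y)
  have h2 : Points.map (D.map k.hom) (Points.map qYi y) = Points.ofPt (a₀ ≫ b₀) t := by
    rw [← Points.map_comp, ← hYi.w, Points.map_comp, ← ht, Points.map_ofPt]
  obtain ⟨e, -, he2⟩ := exists_pt_of_isPullback_mixed (sq k) (Points.map qYi y) t h2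
  obtain ⟨v'', hv''⟩ := hkr e
  rw [he2] at hv''
  have h3 : Points.map f₀ (Points.ofPt ((yon S).map sn ≫ aX) v'') = Points.map pYi y := by
    rw [Points.map_ofPt, hcomm, ofPt_comp, hv'', ht]
  obtain ⟨x, -, hx⟩ := exists_of_isPullback hXi _ _ h3
  exact ⟨x, hx⟩

end Groth.Agent.Lib.LimTowerH7
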