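import Groth.Agent.Lib.LimRep1_helper7
import Groth.Agent.Lib.LimTower9_helper7
import Groth.Agent.Lib.AlgSpGlue4_helper7

/-!
# A limit of algebraic spaces which is a scheme: open covers descend (helper7)
-/

set_option backward.isDefEq.respectTransparency false
set_option backward.isDefEq.respectTransparency.types false
set_option linter.style.haveILetI false
set_option linter.unusedSectionVars false
set_option linter.unusedVariables false
set_option autoImplicit false
set_option maxHeartbeats 1600000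

universe u

open CategoryTheory CategoryTheory.Limits AlgebraicGeometry Opposite Topology
open AlgSp Groth.Agent.Lib.AlgSpPullback_helper7 Groth.Agent.Lib.AlgSpQC_helper7
  Groth.Agent.Lib.AlgSpPoints_helper7 Groth.Agent.Lib.AlgSpOpenSub_helper7
  Groth.Agent.Lib.AlgSpOpen_helper7 Groth.Agent.Lib.AlgSpQC2_helper7
  Groth.Agent.Lib.MonicGsectH6 Groth.Agent.Lib.AlgSpGlue4H7

namespace Groth.Agent.Lib.LimRepH7

open Groth.Agent.Lib.LimTowerH7

variable {S : Scheme.{u}}

/-- The preimage of a finite union of quasi-compact open subspaces under a map from an affine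
scheme is compact. -/
theorem isCompact_preimage_iUnion_range [QuasiSeparatedSpace ↥S] {X : Sp S} (hX : IsAlgSpace X)
    (hXqs : IsQuasiSeparatedSp X) {M : Type*} [Finite M] (P : M → Sp S) (β : ∀ m, P m ⟶ X)
    (hβ : ∀ m, RepWith @IsOpenImmersion (β m)) (hP : ∀ m, IsQuasiCompactSp (P m))
    {T : Over S} (hT : IsAffine T.left) (a : (yon S).obj T ⟶ X) :
    IsCompact (Points.ofPt a ⁻¹' ⋃ m, Set.range (Points.map (β m))) := by
  haveI := hT
  have haqc : RepWith @QuasiCompact a :=
    repWith_quasiCompact_of_isQuasiCompactMor a (hX.representable_from_yon a)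
      (isQuasiCompactMor_of_isQuasiCompactSp_of_isQuasiSeparatedSp (IsAlgSpace.yon_obj T) a
        (isQuasiCompactSp_yon T) hXqs)
  rw [Set.preimage_iUnion]
  refine isCompact_iUnion (fun m => ?_)
  have sq := (hβ m).rep.isPullback a
  rw [ofPt_preimage_range (β m) a _ _ sq]
  have hfstqc : RepWith @QuasiCompact ((hβ m).rep.fst a) := repWith_fst_of_isPullback _ sq haqc
  haveI : CompactSpace ↥((hβ m).rep.pullback a).left :=
    compactSpace_of_isQuasiCompactSp_yon _
      (isQuasiCompactSp_of_repWith_quasiCompact _ hfstqc (hP m))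
  exact isCompact_range ((hβ m).rep.snd a).left.continuous

/-- **Covers descend.**  An open subset `W` of the points of a stage, with compact preimage in
every affine scheme, which contains the image of the limit contains the image of a later
stage. -/
theorem exists_cover_stage {I : Type u} [SmallCategory I] [IsCofiltered I]
    (D : I ⥤ Sp S) (hDa : ∀ (i j : I) (φ : i ⟶ j), IsAffineMor (D.map φ))
    (hqc : ∀ i, IsQuasiCompactSp (D.obj i))
    (c : Cone D) (hc : IsLimit c) (i₁ : I) (W : Set (Points (D.obj i₁))) (hWo : IsOpen W)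
    (hWc : ∀ (T : Over S) (a : (yon S).obj T ⟶ D.obj i₁), IsAffine T.left →
      IsCompact (Points.ofPt a ⁻¹' W))
    (hcov : ∀ x : Points c.pt, Points.map (c.π.app i₁) x ∈ W) :
    ∃ (i₂ : I) (ψ : i₂ ⟶ i₁), ∀ y : Points (D.obj i₂), Points.map (D.map ψ) y ∈ W := by
  obtain ⟨Z, g, hZaff, hge, hgs⟩ := exists_affine_atlas (hqc i₁)
  obtain ⟨E, p, q, cE, fst, w, sq, hp, hq, hEaff, hqaff, ⟨hcE⟩, ⟨hl⟩, hπaff, hw, hfst, pb,
    hwaff⟩ := exists_tower D hDa c hc i₁ g
  haveI : IsAffine Z.left := hZaff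
  haveI : ∀ {j k : Over i₁} (φ : j ⟶ k), IsAffineHom ((E ⋙ Over.forget S).map φ) :=
    fun φ => hEaff _ _ φ
  obtain ⟨j₀, hj₀⟩ : ∃ j₀ : Over i₁, j₀ = Over.mk (𝟙 i₁) := ⟨_, rfl⟩
  haveI : IsAffineHom (q j₀).left := hqaff j₀
  haveI hEj₀ : IsAffine ((E ⋙ Over.forget S).obj j₀) := isAffine_of_isAffineHom (q j₀).left
  have hEj₀' : IsAffine (E.obj j₀).left := hEj₀
  obtain ⟨O, hOdef⟩ : ∃ O : Set ↥((E ⋙ Over.forget S).obj j₀),
      O = Points.ofPt (p j₀ ≫ D.map j₀.hom) ⁻¹' W := ⟨_, rfl⟩
  have hOo : IsOpen O := by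
    rw [hOdef]
    exact Points.isOpen_iff.1 hWo _ (p j₀ ≫ D.map j₀.hom)
  have hOc : IsCompact O := by
    rw [hOdef]
    exact hWc _ (p j₀ ≫ D.map j₀.hom) hEj₀'
  have hcons : IsConstructible Oᶜ := (hOc.isConstructible hOo).compl
  have hemp : ((Over.forget S).mapCone cE).π.app j₀ ⁻¹' Oᶜ = ∅ := by
    rw [Set.eq_empty_iff_forall_notMem]
    intro e he
    apply he
    show (cE.π.app j₀).left e ∈ O
    rw [hOdef]
    show Points.ofPt (p j₀ ≫ D.map j₀.hom) ((cE.π.app j₀).left e) ∈ W
    rw [← ofPt_comp, ← Category.assoc, ← hfst j₀, Category.assoc, c.w j₀.hom, ← Points.map_ofPt]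
    exact hcov _
  obtain ⟨k, ψ, hk⟩ := exists_preimage_eq_empty_of_isConstructible (E ⋙ Over.forget S)
    ((Over.forget S).mapCone cE) hl j₀ _ hcons hemp
  have hkr : ∀ e : ↥(E.obj k).left, (E.map ψ).left e ∈ O := by
    intro e
    by_contra hne
    have : e ∈ (E ⋙ Over.forget S).map ψ ⁻¹' Oᶜ := hne
    rw [hk] at this
    exact this
  refine ⟨k.left, k.hom, ?_⟩
  intro y
  have hps : RepWith @Surjective (p k) := repWith_fst_of_isPullback _ (sq k) hgs
  obtain ⟨e, rfl⟩ := ofPt_surjective (p k) hps y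
  have h1 := hkr e
  rw [hOdef] at h1
  have h2 : Points.ofPt (p j₀ ≫ D.map j₀.hom) ((E.map ψ).left e) ∈ W := h1
  rw [← ofPt_comp, ← Category.assoc, hp k j₀ ψ, Category.assoc, ← D.map_comp, Over.w ψ,
    ← Points.map_ofPt] at h2
  exact h2

end Groth.Agent.Lib.LimRepH7
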