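import Groth.Agent.Lib.LimRep2_helper7

/-!
# A limit of algebraic spaces which is a scheme: some stage is a scheme (helper7)

`main10007`, `main10006`.
-/

set_option backward.isDefEq.respectTransparency false
set_option backward.isDefEq.respectTransparency.types false
set_option linter.style.haveILetI false
set_option linter.unusedSectionVars false
set_option linter.unusedVariables false
set_option autoImplicit false
set_option maxHeartbeats 1600000

universe u

open CategoryTheory CategoryTheory.Limits AlgebraicGeometry Opposite Topology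
open AlgSp Groth.Agent.Lib.AlgSpPullback_helper7 Groth.Agent.Lib.AlgSpQC_helper7
  Groth.Agent.Lib.AlgSpPoints_helper7 Groth.Agent.Lib.AlgSpOpenSub_helper7
  Groth.Agent.Lib.AlgSpOpen_helper7 Groth.Agent.Lib.AlgSpQC2_helper7
  Groth.Agent.Lib.MonicGsectH6 Groth.Agent.Lib.AlgSpGlue4H7

namespace Groth.Agent.Lib.LimRepH7

open Groth.Agent.Lib.LimTowerH7

variable {S : Scheme.{u}}

/-- Every point of a scheme over `S` has an affine open neighbourhood mapping into an affine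
open of `S`. -/
theorem exists_affine_nbhd (T : Over S) (t : ↥T.left) :
    ∃ (T' : Over S) (ι : T' ⟶ T) (Z₀ : Over S) (z : T' ⟶ Z₀), IsOpenImmersion ι.left ∧
      IsAffine T'.left ∧ IsAffine Z₀.left ∧ IsOpenImmersion Z₀.hom ∧ t ∈ Set.range ι.left := by
  obtain ⟨_, ⟨(W : S.Opens), hW, rfl⟩, hxW, -⟩ :=
    S.isBasis_affineOpens.exists_subset_of_mem_open (Set.mem_univ (T.hom t)) isOpen_univ
  have ht : t ∈ ((T.hom ⁻¹ᵁ W : T.left.Opens) : Set ↥T.left) := hxW
  obtain ⟨_, ⟨(V : T.left.Opens), hV, rfl⟩, htV, hVW⟩ :=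
    T.left.isBasis_affineOpens.exists_subset_of_mem_open ht (T.hom ⁻¹ᵁ W).isOpen
  have hrange : Set.range (V.ι ≫ T.hom) ⊆ Set.range W.ι := by
    rintro _ ⟨v, rfl⟩
    rw [Scheme.Opens.range_ι]
    have hv : V.ι v ∈ (V : Set ↥T.left) := by
      rw [Scheme.Opens.ι_apply]
      exact v.2
    exact hVW hv
  refine ⟨Over.mk (V.ι ≫ T.hom), Over.homMk V.ι rfl, Over.mk W.ι,
    Over.homMk (IsOpenImmersion.lift W.ι (V.ι ≫ T.hom) hrange)
      (IsOpenImmersion.lift_fac _ _ _), ?_, ?_, ?_, ?_, ?_⟩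
  · show IsOpenImmersion V.ι
    infer_instance
  · show IsAffine V.toScheme
    exact hV
  · show IsAffine W.toScheme
    exact hW
  · show IsOpenImmersion W.ι
    infer_instance
  · refine ⟨⟨t, htV⟩, ?_⟩
    show V.ι ⟨t, htV⟩ = t
    rw [Scheme.Opens.ι_apply]

/-- The points of a sheaf isomorphic to a scheme. -/
theorem exists_ofPt_eq_of_iso {X : Sp S} {T : Over S} (e : (yon S).obj T ≅ X) (x : Points X) :
    ∃ t : ↥T.left, Points.ofPt e.hom t = x := by
  obtain ⟨t, ht⟩ := ofScheme_surjective T (Points.map e.inv x)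
  refine ⟨t, ?_⟩
  rw [Points.ofPt_eq_map_ofScheme, ht, ← Points.map_comp, e.inv_hom_id, Points.map_id]

/-- **Some stage is a scheme.** -/
theorem exists_scheme_stage [QuasiSeparatedSpace ↥S] {I : Type u} [SmallCategory I]
    [IsCofiltered I] (D : I ⥤ Sp S) (hD : ∀ i, IsAlgSpace (D.obj i))
    (hDa : ∀ (i j : I) (φ : i ⟶ j), IsAffineMor (D.map φ))
    (hqc : ∀ i, IsQuasiCompactSp (D.obj i)) (hqs : ∀ i, IsQuasiSeparatedSp (D.obj i))
    (c : Cone D) (hc : IsLimit c) (T : Over S) (e : (yon S).obj T ≅ c.pt) :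
    ∃ (i : I) (Y : Over S), Nonempty ((yon S).obj Y ≅ D.obj i) := by
  classical
  -- `T` is quasi-compact
  obtain ⟨i₀⟩ := IsCofiltered.nonempty (C := I)
  have hπ : RepWith @IsAffineHom (c.π.app i₀) :=
    repWith_isAffineHom_of_isAffineMor _ ((main10004 D hD hDa c hc).2 i₀)
  have hcqc : IsQuasiCompactSp c.pt := (qcqs_of_repWith_isAffineHom _ hπ (hqc i₀) (hqs i₀)).1
  haveI : CompactSpace ↥T.left := compactSpace_of_isQuasiCompactSp_yon T
    (Groth.Agent.Lib.AffDescH7.isQuasiCompactSp_of_iso e hcqc)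
  -- local packages
  have hloc : ∀ t : ↥T.left, ∃ (T' : Over S) (ι : T' ⟶ T), IsOpenImmersion ι.left ∧
      t ∈ Set.range ι.left ∧ ∃ i, IsAffOpenPkg D c ((yon S).map ι ≫ e.hom) i := by
    intro t
    obtain ⟨T', ι, Z₀, z, h1, h2, h3, h4, h5⟩ := exists_affine_nbhd T t
    exact ⟨T', ι, h1, h5, exists_pkg D hD hDa hqc hqs c hc e ι h1 h2 h3 h4 z⟩
  choose T' ι hι ht ist hpkg using hloc
  obtain ⟨s, hs⟩ := isCompact_univ.elim_finite_subcover (fun t => Set.range (ι t).left)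
    (fun t => (ι t).left.isOpenEmbedding.isOpen_range) (fun t _ => Set.mem_iUnion.2 ⟨t, ht t⟩)
  obtain ⟨i₁, hi₁⟩ := IsCofiltered.inf_objs_exists (s.image ist)
  have hpk : ∀ t : {t // t ∈ s}, IsAffOpenPkg D c ((yon S).map (ι t.1) ≫ e.hom) i₁ := by
    intro t
    obtain ⟨χ⟩ := hi₁ (Finset.mem_image_of_mem ist t.2)
    exact (hpkg t.1).of_hom χ
  unfold IsAffOpenPkg at hpk
  choose P β l hβ hP hsq hall using hpk
  -- the cover descends
  have hWo : IsOpen (⋃ m : {t // t ∈ s}, Set.range (Points.map (β m))) :=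
    isOpen_iUnion fun m => isOpen_range_map_of_openImmersion (β m) (hβ m)
  have hcov : ∀ x : Points c.pt, Points.map (c.π.app i₁) x ∈
      ⋃ m : {t // t ∈ s}, Set.range (Points.map (β m)) := by
    intro x
    obtain ⟨t₀, rfl⟩ := exists_ofPt_eq_of_iso e x
    have h0 := hs (Set.mem_univ t₀)
    obtain ⟨t, h0'⟩ := Set.mem_iUnion.1 h0
    obtain ⟨hts, v, hv⟩ := Set.mem_iUnion.1 h0'
    refine Set.mem_iUnion.2 ⟨⟨t, hts⟩, Points.ofPt (l ⟨t, hts⟩) v, ?_⟩
    rw [Points.map_ofPt, (hsq ⟨t, hts⟩).w, ← Points.map_ofPt, ofPt_comp]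
    show Points.map (c.π.app i₁) (Points.ofPt e.hom ((ι t).left v)) = _
    rw [hv]
  obtain ⟨i₂, ψ, hi₂⟩ := exists_cover_stage D hDa hqc c hc i₁ _ hWo
    (fun T₁ a hT₁ => isCompact_preimage_iUnion_range (hD i₁) (hqs i₁) P β hβ hP hT₁ a) hcov
  -- the affine charts of the stage `i₂`
  have hch : ∀ m : {t // t ∈ s}, ∃ (T'' : Over S) (f : (yon S).obj T'' ⟶ D.obj i₂),
      RepWith @IsOpenImmersion f ∧ ∀ y : Points (D.obj i₂),
        Points.map (D.map ψ) y ∈ Set.range (Points.map (β m)) →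
          y ∈ Set.range (Points.map f) := by
    intro m
    have sqm := IsPullback.of_hasPullback (β m) (D.map ψ)
    obtain ⟨T'', -, ⟨e''⟩⟩ := hall m i₂ ψ _ _ _ sqm
    refine ⟨T'', e''.hom ≫ pullback.snd (β m) (D.map ψ), ?_, ?_⟩
    · exact repWith_comp _
        (Groth.Agent.Lib.AlgSpBasic_helper7.repWith_of_isIso @IsOpenImmersion e''.hom)
        (repWith_snd_of_isPullback _ sqm (hβ m))
    · rintro y ⟨x, hx⟩
      obtain ⟨z, -, hz⟩ := exists_of_isPullback sqm x y hx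
      refine ⟨Points.map e''.inv z, ?_⟩
      rw [← Points.map_comp, e''.inv_hom_id_assoc, hz]
  choose T'' f hf hfc using hch
  have hcov₂ : ∀ y : Points (D.obj i₂), ∃ m, y ∈ Set.range (Points.map (f m)) := by
    intro y
    obtain ⟨m, hm⟩ := Set.mem_iUnion.1 (hi₂ y)
    exact ⟨m, hfc m y hm⟩
  obtain ⟨Y', eY, -, -, -, -⟩ := exists_iso_of_openCover_points f hf hcov₂
  exact ⟨i₂, Y', ⟨eY⟩⟩

theorem main10007 [QuasiSeparatedSpace ↥S] {I : Type u} [SmallCategory I]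
    [IsCofiltered I] (D : I ⥤ Sp S) (hD : ∀ i, IsAlgSpace (D.obj i))
    (hDa : ∀ (i j : I) (φ : i ⟶ j), IsAffineMor (D.map φ))
    (hqc : ∀ i, IsQuasiCompactSp (D.obj i)) (hqs : ∀ i, IsQuasiSeparatedSp (D.obj i))
    (c : Cone D) (hc : IsLimit c) (hX : c.pt.obj.IsRepresentable) :
    ∃ i, (D.obj i).obj.IsRepresentable := by
  obtain ⟨T, ⟨r⟩⟩ := hX.has_representation
  obtain ⟨i, Y, ⟨eY⟩⟩ := exists_scheme_stage D hD hDa hqc hqs c hc T (isoOfRepresentableBy r)
  exact ⟨i, (representableByOfIso eY).isRepresentable⟩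

theorem main10006 [QuasiSeparatedSpace ↥S] {I : Type u} [SmallCategory I]
    [IsCofiltered I] (D : I ⥤ Sp S) (hD : ∀ i, IsAlgSpace (D.obj i))
    (hDa : ∀ (i j : I) (φ : i ⟶ j), IsAffineMor (D.map φ))
    (hqc : ∀ i, IsQuasiCompactSp (D.obj i)) (hqs : ∀ i, IsQuasiSeparatedSp (D.obj i))
    (c : Cone D) (hc : IsLimit c) (T : Over S) (hT : IsAffine T.left)
    (e : (yon S).obj T ≅ c.pt) :
    ∃ (i : I) (T' : Over S), IsAffine T'.left ∧ Nonempty ((yon S).obj T' ≅ D.obj i) := by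
  obtain ⟨i₂, Y, ⟨eY⟩⟩ := exists_scheme_stage D hD hDa hqc hqs c hc T e
  obtain ⟨E, p, q, cE, fst, w, sq, hp, hq, hEaff, hqaff, ⟨hcE⟩, ⟨hl⟩, hπaff, hw, hfst, pb,
    hwaff⟩ := exists_tower D hDa c hc i₂ eY.hom
  -- `Y` is quasi-compact and quasi-separated
  haveI : CompactSpace ↥Y.left := compactSpace_of_isQuasiCompactSp_yon Y
    (Groth.Agent.Lib.AffDescH7.isQuasiCompactSp_of_iso eY (hqc i₂))
  have hYqsm : IsQuasiSeparatedMor eY.hom :=
    (Groth.Agent.Lib.AlgSpSep_helper7.isQuasiSeparatedMor_iff_of_representable eY.hom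
      (Groth.Agent.Lib.AlgSpBasic_helper7.repWith_of_isIso @QuasiSeparated eY.hom).rep).2
      (Groth.Agent.Lib.AlgSpBasic_helper7.repWith_of_isIso @QuasiSeparated eY.hom)
  have hYqs : IsQuasiSeparatedSp ((yon S).obj Y) :=
    Groth.Agent.Lib.AlgSpGenFin3H6.isQuasiSeparatedSp_of_mor eY.hom hYqsm (hqs i₂)
  haveI : QuasiSeparated Y.hom := ⟨(repWith_diag_yon_iff @QuasiCompact Y).1 hYqs⟩
  haveI : QuasiSeparatedSpace ↥Y.left := quasiSeparatedSpace_of_quasiSeparated Y.hom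
  haveI : ∀ {j k : Over i₂} (φ : j ⟶ k), IsAffineHom ((E ⋙ Over.forget S).map φ) :=
    fun φ => hEaff _ _ φ
  haveI : ∀ j : Over i₂, CompactSpace ↥((E ⋙ Over.forget S).obj j) := fun j => by
    haveI : IsAffineHom (q j).left := hqaff j
    exact QuasiCompact.compactSpace_of_compactSpace (q j).left
  haveI : ∀ j : Over i₂, QuasiSeparatedSpace ↥((E ⋙ Over.forget S).obj j) := fun j => by
    haveI : IsAffineHom (q j).left := hqaff j
    exact quasiSeparatedSpace_of_quasiSeparated (q j).left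
  -- the limit is affine
  haveI : IsIso fst := pb.isIso_fst_of_isIso
  let ε : cE.pt ≅ T := (yon S).preimageIso (asIso fst ≪≫ e.symm)
  haveI : IsAffine ((Over.forget S).obj T) := hT
  haveI : IsAffine ((Over.forget S).mapCone cE).pt :=
    IsAffine.of_isIso ((Over.forget S).mapIso ε).hom
  obtain ⟨j, hj⟩ := Scheme.exists_isAffine_of_isLimit (E ⋙ Over.forget S)
    ((Over.forget S).mapCone cE) hl
  haveI : IsIso (p j) := (sq j).isIso_fst_of_isIso
  exact ⟨j.left, E.obj j, hj, ⟨asIso (p j)⟩⟩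

end Groth.Agent.Lib.LimRepH7
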