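import Mathlib

/-!
# Residue fields of a cofiltered limit of schemes with affine transition maps (helper7)
-/

set_option autoImplicit false
set_option backward.isDefEq.respectTransparency false
universe u
open CategoryTheory CategoryTheory.Limits AlgebraicGeometry

namespace Groth.Agent.Lib.LimResFieldH7

/-- Elements of the residue field of an affine scheme are fractions of global sections. -/
theorem exists_fraction {X : Scheme.{u}} [IsAffine X] (x : X) (a : X.residueField x) :
    ∃ b t : Γ(X, ⊤), X.Γevaluation x t ≠ 0 ∧ a * X.Γevaluation x t = X.Γevaluation x b := by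
  obtain ⟨z, rfl⟩ := X.residue_surjective x a
  have hU : IsAffineOpen (⊤ : X.Opens) := isAffineOpen_top X
  letI := X.presheaf.algebra_section_stalk (U := ⊤) ⟨x, trivial⟩
  haveI := hU.isLocalization_stalk ⟨x, trivial⟩
  obtain ⟨⟨b, t⟩, hbt⟩ := IsLocalization.surj (hU.primeIdealOf ⟨x, trivial⟩).asIdeal.primeCompl z
  refine ⟨b, t.1, ?_, ?_⟩
  · have hu : IsUnit (algebraMap Γ(X, ⊤) (X.presheaf.stalk x) t.1) :=
      IsLocalization.map_units (M := (hU.primeIdealOf ⟨x, trivial⟩).asIdeal.primeCompl)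
        (X.presheaf.stalk x) t
    have hu' : IsUnit (X.Γevaluation x t.1) := hu.map (X.residue x).hom
    exact hu'.ne_zero
  · have := congrArg (X.residue x).hom hbt
    rw [map_mul] at this
    exact this

variable {I : Type u} [SmallCategory I] [IsCofiltered I]
  (D : I ⥤ Scheme.{u}) (c : Cone D) (hc : IsLimit c)
  [∀ (i j : I) (f : i ⟶ j), IsAffineHom (D.map f)]

include hc in
/-- affine case -/
theorem exists_residueFieldMap_eq_of_isAffine [∀ i, IsAffine (D.obj i)] [IsAffine c.pt]
    (s : c.pt) (a : c.pt.residueField s) :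
    ∃ (i : I) (b : (D.obj i).residueField ((c.π.app i) s)),
      ((c.π.app i).residueFieldMap s).hom b = a := by
  obtain ⟨b', t', ht', hbt'⟩ := exists_fraction s a
  obtain ⟨j₁, b₁, hb₁⟩ := exists_appTop_π_eq_of_isAffine_of_isLimit D c hc b'
  obtain ⟨j₂, t₂, ht₂⟩ := exists_appTop_π_eq_of_isAffine_of_isLimit D c hc t'
  let j := IsCofiltered.min j₁ j₂
  let u₁ : j ⟶ j₁ := IsCofiltered.minToLeft j₁ j₂
  let u₂ : j ⟶ j₂ := IsCofiltered.minToRight j₁ j₂
  have hb : (c.π.app j).appTop ((D.map u₁).appTop b₁) = b' := by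
    rw [← hb₁, ← c.w u₁, Scheme.Hom.comp_appTop]
    rfl
  have ht : (c.π.app j).appTop ((D.map u₂).appTop t₂) = t' := by
    rw [← ht₂, ← c.w u₂, Scheme.Hom.comp_appTop]
    rfl
  refine ⟨j, (D.obj j).Γevaluation _ ((D.map u₁).appTop b₁) *
    ((D.obj j).Γevaluation _ ((D.map u₂).appTop t₂))⁻¹, ?_⟩
  rw [map_mul, map_inv₀]
  erw [Scheme.Γevaluation_naturality_apply, Scheme.Γevaluation_naturality_apply]
  rw [hb, ht]
  have h3 : (c.pt.Γevaluation s).hom b' * ((c.pt.Γevaluation s).hom t')⁻¹ = a := by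
    rw [← hbt', mul_assoc, mul_inv_cancel₀ ht', mul_one]
  exact h3

include hc in
theorem exists_residueFieldMap_eq (s : c.pt) (a : c.pt.residueField s) :
    ∃ (i : I) (b : (D.obj i).residueField ((c.π.app i) s)),
      ((c.π.app i).residueFieldMap s).hom b = a := by
  obtain ⟨i₀⟩ := IsCofiltered.nonempty (C := I)
  obtain ⟨_, ⟨V, hV : IsAffineOpen V, rfl⟩, hsV, -⟩ :=
    (D.obj i₀).isBasis_affineOpens.exists_subset_of_mem_open
      (Set.mem_univ ((c.π.app i₀) s)) isOpen_univ
  haveI : ∀ j, IsAffine ((opensDiagram D i₀ V).obj j) := fun j => hV.preimage (D.map j.hom)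
  haveI : IsAffineHom (c.π.app i₀) := isAffineHom_π_app D c hc i₀
  haveI : IsAffine (opensCone D c i₀ V).pt := hV.preimage (c.π.app i₀)
  let W' : c.pt.Opens := c.π.app i₀ ⁻¹ᵁ V
  let s' : W'.toScheme := ⟨s, hsV⟩
  let a' : W'.toScheme.residueField s' := (W'.ι.residueFieldMap s').hom a
  obtain ⟨j, β, hβ⟩ := exists_residueFieldMap_eq_of_isAffine (opensDiagram D i₀ V)
    (opensCone D c i₀ V) (isLimitOpensCone D c hc i₀ V) s' a'
  let ιj : (opensDiagram D i₀ V).obj j ⟶ D.obj j.left := (D.map j.hom ⁻¹ᵁ V).ι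
  have e : (opensCone D c i₀ V).π.app j ≫ ιj = W'.ι ≫ c.π.app j.left := by
    simp [opensCone, ιj, W']
  let y : (opensDiagram D i₀ V).obj j := ((opensCone D c i₀ V).π.app j) s'
  let b₀ : (D.obj j.left).residueField (ιj y) := (inv (ιj.residueFieldMap y)).hom β
  have hb₀ : (ιj.residueFieldMap y).hom b₀ = β := by
    show ((inv (ιj.residueFieldMap y)) ≫ ιj.residueFieldMap y).hom β = β
    rw [IsIso.inv_hom_id]
    rfl
  have hpt : ((opensCone D c i₀ V).π.app j ≫ ιj) s' = (W'.ι ≫ c.π.app j.left) s' :=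
    congr($e s')
  refine ⟨j.left, ((D.obj j.left).residueFieldCongr hpt).hom b₀, ?_⟩
  have hinj : Function.Injective (W'.ι.residueFieldMap s').hom :=
    (W'.ι.residueFieldMap s').hom.injective
  apply hinj
  have h1 := Scheme.Hom.residueFieldMap_congr e s'
  rw [Scheme.residueFieldMap_comp, Scheme.residueFieldMap_comp] at h1
  have h2 := congr($(h1).hom b₀)
  simp only [CommRingCat.hom_comp, RingHom.coe_comp, Function.comp_apply] at h2
  erw [hb₀, hβ] at h2
  exact h2.symm

end Groth.Agent.Lib.LimResFieldH7
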