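import Mathlib
import Groth.Agent.Lib.LimSections_helper7

/-!
# Helpers on sections for limit arguments, part 2: finiteness/integrality (helper7)
-/

set_option autoImplicit false
set_option backward.isDefEq.respectTransparency false
universe u
open CategoryTheory CategoryTheory.Limits AlgebraicGeometry

namespace Groth.Agent.Lib.LimSections2H7
open Groth.Agent.Lib.LimSectionsH7

/-- If `B` is generated over `R` by `s`, `τ : B → C` is integral and the images of `s` are
integral over `R`, then `C` is integral over `R`. -/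
theorem isIntegral_comp_of_generators {R B C : Type*} [CommRing R] [CommRing B] [CommRing C]
    (ρ : R →+* B) (τ : B →+* C) (s : Set B)
    (hs : letI := ρ.toAlgebra
      Algebra.adjoin R s = ⊤)
    (hτ : τ.IsIntegral) (h : ∀ b ∈ s, (τ.comp ρ).IsIntegralElem (τ b)) :
    (τ.comp ρ).IsIntegral := by
  letI := ρ.toAlgebra
  have h1 : ∀ b : B, (τ.comp ρ).IsIntegralElem (τ b) := by
    intro b
    have hb : b ∈ Algebra.adjoin R s := by rw [hs]; trivial
    induction hb using Algebra.adjoin_induction with
    | mem x hx => exact h x hx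
    | algebraMap r => exact (τ.comp ρ).isIntegralElem_map
    | add x y _ _ hx hy =>
      rw [map_add]
      exact RingHom.IsIntegralElem.add _ hx hy
    | mul x y _ _ hx hy =>
      rw [map_mul]
      exact RingHom.IsIntegralElem.mul _ hx hy
  let f : R →+* τ.range := (τ.comp ρ).codRestrict τ.range (fun r => ⟨ρ r, rfl⟩)
  let g : τ.range →+* C := τ.range.subtype
  have hgf : g.comp f = τ.comp ρ := RingHom.ext fun _ => rfl
  have hf : f.IsIntegral := by
    rintro ⟨c, b, rfl⟩
    apply RingHom.IsIntegralElem.of_map (g := g) Subtype.val_injective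
    rw [hgf]
    exact h1 b
  have hg : g.IsIntegral := by
    intro z
    have hz : (g.comp τ.rangeRestrict).IsIntegralElem z := hτ z
    exact RingHom.IsIntegralElem.of_comp hz
  rw [← hgf]
  exact hf.trans _ _ hg

theorem finite_app_of_eq {X Y : Scheme.{u}} {f g : X ⟶ Y} (h : f = g) (U : Y.Opens)
    (hf : (f.app U).hom.Finite) : (g.app U).hom.Finite := by
  subst h; exact hf

theorem finite_app_of_opens_eq {X Y : Scheme.{u}} (f : X ⟶ Y) {U V : Y.Opens} (h : U = V)
    (hf : (f.app U).hom.Finite) : (f.app V).hom.Finite := by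
  subst h; exact hf

theorem finite_comp_app {X Y Z : Scheme.{u}} (f : X ⟶ Y) (g : Y ⟶ Z) (U : Z.Opens)
    (hg : (g.app U).hom.Finite) (hf : (f.app (g ⁻¹ᵁ U)).hom.Finite) :
    ((f ≫ g).app U).hom.Finite := by
  rw [Scheme.Hom.comp_app, CommRingCat.hom_comp]
  exact hf.comp hg

/-- An affine morphism which is finite on sections over an affine open cover of the target is
finite. -/
theorem isFinite_of_finite_app {X Y : Scheme.{u}} (f : X ⟶ Y) [IsAffineHom f]
    (H : ∀ y : Y, ∃ U : Y.Opens, y ∈ U ∧ IsAffineOpen U ∧ (f.app U).hom.Finite) :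
    IsFinite f := by
  choose U hyU hU hfU using H
  rw [HasAffineProperty.iff_of_iSup_eq_top (P := @IsFinite) (fun y => ⟨U y, hU y⟩)
    (top_le_iff.mp (fun x _ => by simpa using ⟨x, hyU x⟩))]
  intro y
  refine ⟨(hU y).preimage f, ?_⟩
  rw [morphismRestrict_appTop, CommRingCat.hom_comp]
  have h1 : (f.app ((U y).ι ''ᵁ ⊤)).hom.Finite :=
    finite_app_of_opens_eq f (U y).ι_image_top.symm (hfU y)
  refine RingHom.Finite.comp ?_ h1
  exact RingHom.Finite.of_surjective _ (ConcreteCategory.bijective_of_isIso
    (X.presheaf.map (eqToHom (image_morphismRestrict_preimage f (U y) ⊤)).op)).2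

end Groth.Agent.Lib.LimSections2H7
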