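import Groth.Agent.Lib.LimFin4_helper7
import Groth.Agent.Lib.AlgSpUnramLocus_helper7

/-!
# Separated morphisms descend to a finite stage of a limit of algebraic spaces (helper7)

`main10020`.
-/

set_option autoImplicit false
set_option linter.style.haveILetI false

universe u

open CategoryTheory CategoryTheory.Limits AlgebraicGeometry Opposite Topology
open AlgSp Groth.Agent.Lib.AlgSpPullback_helper7 Groth.Agent.Lib.AlgSpQC_helper7
  Groth.Agent.Lib.AlgSpPoints_helper7 Groth.Agent.Lib.AlgSpQC2_helper7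
  Groth.Agent.Lib.MonicGsectH6 Groth.Agent.Lib.AlgSpSep_helper7
  Groth.Agent.Lib.AlgSpDiag_helper7 Groth.Agent.Lib.AlgSpProper_helper7
  Groth.Agent.Lib.AlgSpEpi_helper7 Groth.Agent.Lib.AlgSpFormal5_helper7
  Groth.Agent.Lib.AlgSpIso_helper7
  Groth.Agent.Lib.SchLimTowerH7
  Groth.Agent.Lib.AlgSpLocP_helper7 Groth.Agent.Lib.AlgSpAffineMorH7 Groth.Agent.Lib.AffDescH7
  Groth.Agent.Lib.AlgSpFpqc3_helper7 Groth.Agent.Lib.AlgSpLocP4_helper7
  Groth.Agent.Lib.AlgSpUnramLocusH7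

namespace Groth.Agent.Lib.LimTowerH7

variable {S : Scheme.{u}}

set_option backward.isDefEq.respectTransparency false in
/-- The diagonal of a morphism of algebraic spaces is locally of finite type. -/
theorem locP_lft_diagonal {X Y : Sp S} (hX : IsAlgSpace X) (f : X ⟶ Y) :
    LocP @LocallyOfFiniteType (pullback.diagonal f) := by
  apply locP_lft_of_comp hX (pullback.diagonal f) (pullback.fst f f)
  rw [pullback.diagonal_fst]
  exact locP_of_repWith @LocallyOfFiniteType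
    (fun _ _ g hg => by haveI : Etale g := hg; infer_instance) _
    (repWith_mono (fun _ _ g (hg : Etale g) => (inferInstance : LocallyOfFiniteType g))
      (repWith_of_isIso @Etale (𝟙 X)))

/-! ### S10020 -/

set_option backward.isDefEq.respectTransparency false in
theorem main10020 [QuasiSeparatedSpace ↥S] {I : Type u} [SmallCategory I] [IsCofiltered I]
    (D : I ⥤ Sp S) (hD : ∀ i, IsAlgSpace (D.obj i))
    (hDa : ∀ (i j : I) (φ : i ⟶ j), IsAffineMor (D.map φ))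
    (c : Cone D) (hc : IsLimit c) (i₀ : I)
    (X₀ Y₀ : Space S) (f₀ : X₀.obj ⟶ Y₀.obj) (b₀ : Y₀.obj ⟶ D.obj i₀)
    (hXqc : IsQuasiCompactSp X₀.obj) (hXqs : IsQuasiSeparatedSp X₀.obj)
    (hYqs : IsQuasiSeparatedSp Y₀.obj)
    (X Y : Sp S) (f : X ⟶ Y) (pY : Y ⟶ Y₀.obj) (qY : Y ⟶ c.pt)
    (hY : IsPullback pY qY b₀ (c.π.app i₀)) (pX : X ⟶ X₀.obj) (hX : IsPullback pX f f₀ pY)
    (hf : IsSeparatedMor f) :
    ∃ (i : I) (φ : i ⟶ i₀), ∀ (Xi Yi : Sp S) (fi : Xi ⟶ Yi) (pYi : Yi ⟶ Y₀.obj)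
      (qYi : Yi ⟶ D.obj i) (_ : IsPullback pYi qYi b₀ (D.map φ)) (pXi : Xi ⟶ X₀.obj)
      (_ : IsPullback pXi fi f₀ pYi), IsSeparatedMor fi := by
  have sqP₀ := IsPullback.of_hasPullback f₀ f₀
  have hP₀alg : IsAlgSpace (pullback f₀ f₀) :=
    isAlgSpace_of_isPullback Y₀.property.diag X₀.property X₀.property sqP₀
  obtain ⟨hP₀qc, hP₀qs⟩ := qcqs_of_isPullback X₀.property X₀.property sqP₀ hXqc hXqs hYqs hXqc
    hXqs
  obtain ⟨i, φ, h⟩ := main10019 D hD hDa c hc i₀ X₀ ⟨pullback f₀ f₀, hP₀alg⟩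
    (pullback.diagonal f₀) ((pullback.fst f₀ f₀ ≫ f₀) ≫ b₀) hXqc hXqs hP₀qc hP₀qs X
    (pullback f f) (pullback.diagonal f) _ _ ((isPullback_map_base hX).paste_vert hY) pX
    (isPullback_diagonal_of_isPullback hX).flip hf (locP_lft_diagonal X₀.property f₀)
  refine ⟨i, φ, ?_⟩
  intro Xi Yi fi pYi qYi hYi pXi hXi
  exact h Xi (pullback fi fi) (pullback.diagonal fi) _ _
    ((isPullback_map_base hXi).paste_vert hYi) pXi (isPullback_diagonal_of_isPullback hXi).flip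

end Groth.Agent.Lib.LimTowerH7
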