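import Groth.Agent.Lib.LimFin3_helper7
import Mathlib.AlgebraicGeometry.Morphisms.ClosedImmersion

/-!
# Generation by two projections at a finite stage of a tower of affine schemes (helper7)

For affine schemes `R`, `U` over an affine scheme `W` and `s t : R ⟶ U` over `W`, the morphism
`(s, t) : R ⟶ U ×_W U` is a closed immersion iff `Γ(R)` is generated by the images of `s^*` and
`t^*`.  The latter condition descends to a finite stage of a tower.
-/

set_option autoImplicit false
set_option linter.style.haveILetI false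
set_option linter.unusedSectionVars false

universe u

open CategoryTheory CategoryTheory.Limits AlgebraicGeometry

namespace Groth.Agent.Lib.SchLimTowerH7

/-! ### The subring generated by the images of two ring maps -/

/-- The set of elements of `B` generated by the images of `f` and `g`. -/
def adjSet {A B : Type u} [CommRing A] [CommRing B] (f g : A →+* B) : Set B :=
  {x | x ∈ @Algebra.adjoin A B _ _ f.toAlgebra (Set.range g)}

section adjSet

variable {A B A' B' : Type u} [CommRing A] [CommRing B] [CommRing A'] [CommRing B']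

theorem adjSet_left (f g : A →+* B) (a : A) : f a ∈ adjSet f g := by
  letI := f.toAlgebra
  exact Subalgebra.algebraMap_mem (Algebra.adjoin A (Set.range g)) a

theorem adjSet_right (f g : A →+* B) (a : A) : g a ∈ adjSet f g := by
  letI := f.toAlgebra
  exact Algebra.subset_adjoin ⟨a, rfl⟩

theorem adjSet_add {f g : A →+* B} {x y : B} (hx : x ∈ adjSet f g) (hy : y ∈ adjSet f g) :
    x + y ∈ adjSet f g := by
  letI := f.toAlgebra
  exact Subalgebra.add_mem (Algebra.adjoin A (Set.range g)) hx hy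

theorem adjSet_mul {f g : A →+* B} {x y : B} (hx : x ∈ adjSet f g) (hy : y ∈ adjSet f g) :
    x * y ∈ adjSet f g := by
  letI := f.toAlgebra
  exact Subalgebra.mul_mem (Algebra.adjoin A (Set.range g)) hx hy

theorem adjSet_induction (f g : A →+* B) {motive : B → Prop} (left : ∀ a, motive (f a))
    (right : ∀ a, motive (g a)) (add : ∀ x y, motive x → motive y → motive (x + y))
    (mul : ∀ x y, motive x → motive y → motive (x * y)) {x : B} (hx : x ∈ adjSet f g) :
    motive x := by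
  letI := f.toAlgebra
  have hx' : x ∈ Algebra.adjoin A (Set.range g) := hx
  exact Algebra.adjoin_induction (p := fun x _ => motive x)
    (fun x hx => by obtain ⟨a, rfl⟩ := hx; exact right a) (fun r => left r)
    (fun x y _ _ hx hy => add x y hx hy) (fun x y _ _ hx hy => mul x y hx hy) hx'

theorem adjSet_map (f g : A →+* B) (f' g' : A' →+* B') (α : A →+* A') (β : B →+* B')
    (hf : β.comp f = f'.comp α) (hg : β.comp g = g'.comp α) (y : B) (hy : y ∈ adjSet f g) :
    β y ∈ adjSet f' g' := by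
  refine adjSet_induction f g (motive := fun y => β y ∈ adjSet f' g') ?_ ?_ ?_ ?_ hy
  · intro a
    have e : β (f a) = f' (α a) := RingHom.congr_fun hf a
    rw [e]
    exact adjSet_left _ _ _
  · intro a
    have e : β (g a) = g' (α a) := RingHom.congr_fun hg a
    rw [e]
    exact adjSet_right _ _ _
  · intro x y hx hy
    rw [map_add]
    exact adjSet_add hx hy
  · intro x y hx hy
    rw [map_mul]
    exact adjSet_mul hx hy

theorem adjSet_eq_univ_of_adjoin_eq_top (f g : A →+* B) (s : Set B)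
    (hs : @Algebra.adjoin A B _ _ f.toAlgebra s = ⊤) (h : s ⊆ adjSet f g) :
    adjSet f g = Set.univ := by
  letI := f.toAlgebra
  have h1 : Algebra.adjoin A s ≤ Algebra.adjoin A (Set.range g) :=
    Algebra.adjoin_le (fun a ha => h ha)
  rw [hs] at h1
  exact Set.eq_univ_of_forall (fun x => h1 Algebra.mem_top)

end adjSet

/-! ### Closed immersions into a fibre product of affine schemes -/

set_option backward.isDefEq.respectTransparency false in
/-- If `(s, t) : R ⟶ U ×_W U` is a closed immersion then `Γ(R)` is generated by the images of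
`s^*` and `t^*`. -/
theorem adjSet_eq_univ_of_isClosedImmersion {R U W P : Scheme.{u}} [IsAffine U] [IsAffine W]
    {h : U ⟶ W} {π₁ π₂ : P ⟶ U} (sqP : IsPullback π₁ π₂ h h) (ρ : R ⟶ P) [IsClosedImmersion ρ]
    (s t : R ⟶ U) (hs : ρ ≫ π₁ = s) (ht : ρ ≫ π₂ = t) :
    adjSet s.appTop.hom t.appTop.hom = Set.univ := by
  subst hs ht
  haveI : IsAffine P := IsAffine.of_isPullback sqP
  have hsurj : Function.Surjective ρ.appTop.hom :=
    ((HasAffineProperty.iff_of_isAffine (P := @IsClosedImmersion)).1 inferInstance).2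
  have hpo := isPushout_appTop_of_isPullback sqP
  have huniv : @Algebra.adjoin Γ(W, ⊤) Γ(U, ⊤) _ _ h.appTop.hom.toAlgebra Set.univ = ⊤ := by
    letI := h.appTop.hom.toAlgebra
    exact Algebra.adjoin_univ _ _
  have htopP := adjoin_eq_top_of_isPushout hpo Set.univ huniv
  have hP : adjSet π₁.appTop.hom π₂.appTop.hom = Set.univ :=
    adjSet_eq_univ_of_adjoin_eq_top _ _ _ htopP (by
      rintro _ ⟨b, -, rfl⟩
      exact adjSet_right _ _ b)
  refine Set.eq_univ_of_forall (fun x => ?_)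
  obtain ⟨y, rfl⟩ := hsurj x
  have hy : y ∈ adjSet π₁.appTop.hom π₂.appTop.hom := by
    rw [hP]
    exact Set.mem_univ y
  exact adjSet_map π₁.appTop.hom π₂.appTop.hom (ρ ≫ π₁).appTop.hom (ρ ≫ π₂).appTop.hom
    (RingHom.id _) ρ.appTop.hom (by ext a; rfl) (by ext a; rfl) y hy

set_option backward.isDefEq.respectTransparency false in
/-- If `Γ(R)` is generated by the images of `s^*` and `t^*` then `(s, t) : R ⟶ U ×_W U` is a
closed immersion. -/
theorem isClosedImmersion_of_adjSet_eq_univ {R U W P : Scheme.{u}} [IsAffine R] [IsAffine U]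
    [IsAffine W] {h : U ⟶ W} {π₁ π₂ : P ⟶ U} (sqP : IsPullback π₁ π₂ h h) (ρ : R ⟶ P)
    (s t : R ⟶ U) (hs : ρ ≫ π₁ = s) (ht : ρ ≫ π₂ = t)
    (hadj : adjSet s.appTop.hom t.appTop.hom = Set.univ) : IsClosedImmersion ρ := by
  subst hs ht
  haveI : IsAffine P := IsAffine.of_isPullback sqP
  have hsurj : Function.Surjective ρ.appTop.hom := by
    intro x
    have hx : x ∈ adjSet (ρ ≫ π₁).appTop.hom (ρ ≫ π₂).appTop.hom := by
      rw [hadj]
      exact Set.mem_univ x
    refine adjSet_induction _ _ (motive := fun x => ∃ y, ρ.appTop.hom y = x) ?_ ?_ ?_ ?_ hx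
    · intro a
      exact ⟨π₁.appTop.hom a, rfl⟩
    · intro b
      exact ⟨π₂.appTop.hom b, rfl⟩
    · rintro _ _ ⟨x', rfl⟩ ⟨y', rfl⟩
      exact ⟨x' + y', map_add _ _ _⟩
    · rintro _ _ ⟨x', rfl⟩ ⟨y', rfl⟩
      exact ⟨x' * y', map_mul _ _ _⟩
  exact (HasAffineProperty.iff_of_isAffine (P := @IsClosedImmersion)).2 ⟨inferInstance, hsurj⟩

/-! ### Generation at a finite stage -/

set_option backward.isDefEq.respectTransparency false in
set_option maxHeartbeats 800000 in
/-- Let `ER`, `EU` be towers of affine schemes with two maps `σ τ : ER ⟶ EU`, such that `ER` is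
the base change of `s₀ : R₀ ⟶ U₀` (of finite type) along `EU ⟶ U₀` via `σ`.  If the ring of the
limit of `ER` is generated by the images of the two maps from the ring of the limit of `EU`,
the same holds at all stages after some stage. -/
theorem exists_adjSet_eq_univ_stage {J : Type u} [SmallCategory J] [IsCofiltered J]
    (ER EU : J ⥤ Scheme.{u}) (hRa : ∀ j, IsAffine (ER.obj j)) (hUa : ∀ j, IsAffine (EU.obj j))
    (σ τ : ER ⟶ EU) {R₀ U₀ : Scheme.{u}} [IsAffine R₀] [IsAffine U₀] (s₀ : R₀ ⟶ U₀)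
    [LocallyOfFiniteType s₀] (qR : ∀ j, ER.obj j ⟶ R₀) (qU : ∀ j, EU.obj j ⟶ U₀)
    (hqR : ∀ {j k : J} (φ : j ⟶ k), ER.map φ ≫ qR k = qR j)
    (sq : ∀ j, IsPullback (σ.app j) (qR j) (qU j) s₀)
    (cR : Cone ER) (hcR : IsLimit cR) (cU : Cone EU) (hcU : IsLimit cU) (σ' τ' : cR.pt ⟶ cU.pt)
    (hσ' : ∀ j, σ' ≫ cU.π.app j = cR.π.app j ≫ σ.app j)
    (hτ' : ∀ j, τ' ≫ cU.π.app j = cR.π.app j ≫ τ.app j)
    (htop : adjSet σ'.appTop.hom τ'.appTop.hom = Set.univ) :
    ∃ j₀ : J, ∀ (j : J) (_ : j ⟶ j₀),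
      adjSet (σ.app j).appTop.hom (τ.app j).appTop.hom = Set.univ := by
  haveI := hRa
  haveI := hUa
  haveI : ∀ {j k : J} (φ : j ⟶ k), IsAffineHom (ER.map φ) := fun φ => inferInstance
  haveI : ∀ {j k : J} (φ : j ⟶ k), IsAffineHom (EU.map φ) := fun φ => inferInstance
  have hcommσ : ∀ {j k : J} (φ : j ⟶ k), (ER.map φ).appTop.hom.comp (σ.app k).appTop.hom =
      (σ.app j).appTop.hom.comp (EU.map φ).appTop.hom := fun φ => by
    have e : (σ.app _).appTop ≫ (ER.map φ).appTop = (EU.map φ).appTop ≫ (σ.app _).appTop := by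
      rw [← Scheme.Hom.comp_appTop, ← Scheme.Hom.comp_appTop, σ.naturality φ]
    exact congrArg CommRingCat.Hom.hom e
  have hcommτ : ∀ {j k : J} (φ : j ⟶ k), (ER.map φ).appTop.hom.comp (τ.app k).appTop.hom =
      (τ.app j).appTop.hom.comp (EU.map φ).appTop.hom := fun φ => by
    have e : (τ.app _).appTop ≫ (ER.map φ).appTop = (EU.map φ).appTop ≫ (τ.app _).appTop := by
      rw [← Scheme.Hom.comp_appTop, ← Scheme.Hom.comp_appTop, τ.naturality φ]
    exact congrArg CommRingCat.Hom.hom e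
  have hmono : ∀ {j k : J} (φ : j ⟶ k) (y : Γ(ER.obj k, ⊤)),
      y ∈ adjSet (σ.app k).appTop.hom (τ.app k).appTop.hom →
      (ER.map φ).appTop.hom y ∈ adjSet (σ.app j).appTop.hom (τ.app j).appTop.hom :=
    fun φ y hy => adjSet_map _ _ _ _ (EU.map φ).appTop.hom (ER.map φ).appTop.hom (hcommσ φ)
      (hcommτ φ) y hy
  -- every section of the limit lifts to a generated section at some stage
  have hlift : ∀ x : Γ(cR.pt, ⊤), ∃ (j : J) (y : Γ(ER.obj j, ⊤)),
      y ∈ adjSet (σ.app j).appTop.hom (τ.app j).appTop.hom ∧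
      (cR.π.app j).appTop.hom y = x := by
    intro x
    have hx : x ∈ adjSet σ'.appTop.hom τ'.appTop.hom := by
      rw [htop]
      exact Set.mem_univ x
    refine adjSet_induction _ _ (motive := fun x => ∃ (j : J) (y : Γ(ER.obj j, ⊤)),
      y ∈ adjSet (σ.app j).appTop.hom (τ.app j).appTop.hom ∧
      (cR.π.app j).appTop.hom y = x) ?_ ?_ ?_ ?_ hx
    · intro a
      obtain ⟨j, a', rfl⟩ := exists_appTop_π_eq_of_isLimit EU cU hcU a
      refine ⟨j, (σ.app j).appTop.hom a', adjSet_left _ _ a', ?_⟩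
      exact (congrArg (fun m : cR.pt ⟶ EU.obj j => m.appTop.hom a') (hσ' j)).symm
    · intro a
      obtain ⟨j, a', rfl⟩ := exists_appTop_π_eq_of_isLimit EU cU hcU a
      refine ⟨j, (τ.app j).appTop.hom a', adjSet_right _ _ a', ?_⟩
      exact (congrArg (fun m : cR.pt ⟶ EU.obj j => m.appTop.hom a') (hτ' j)).symm
    · rintro _ _ ⟨j₁, y₁, h₁, rfl⟩ ⟨j₂, y₂, h₂, rfl⟩
      refine ⟨IsCofiltered.min j₁ j₂,
        (ER.map (IsCofiltered.minToLeft j₁ j₂)).appTop.hom y₁ +
          (ER.map (IsCofiltered.minToRight j₁ j₂)).appTop.hom y₂,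
        adjSet_add (hmono _ _ h₁) (hmono _ _ h₂), ?_⟩
      rw [map_add]
      congr 1
      · exact congrArg (fun m : cR.pt ⟶ ER.obj j₁ => m.appTop.hom y₁)
          (cR.w (IsCofiltered.minToLeft j₁ j₂))
      · exact congrArg (fun m : cR.pt ⟶ ER.obj j₂ => m.appTop.hom y₂)
          (cR.w (IsCofiltered.minToRight j₁ j₂))
    · rintro _ _ ⟨j₁, y₁, h₁, rfl⟩ ⟨j₂, y₂, h₂, rfl⟩
      refine ⟨IsCofiltered.min j₁ j₂,
        (ER.map (IsCofiltered.minToLeft j₁ j₂)).appTop.hom y₁ *
          (ER.map (IsCofiltered.minToRight j₁ j₂)).appTop.hom y₂,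
        adjSet_mul (hmono _ _ h₁) (hmono _ _ h₂), ?_⟩
      rw [map_mul]
      congr 1
      · exact congrArg (fun m : cR.pt ⟶ ER.obj j₁ => m.appTop.hom y₁)
          (cR.w (IsCofiltered.minToLeft j₁ j₂))
      · exact congrArg (fun m : cR.pt ⟶ ER.obj j₂ => m.appTop.hom y₂)
          (cR.w (IsCofiltered.minToRight j₁ j₂))
  obtain ⟨j₁⟩ := IsCofiltered.nonempty (C := J)
  -- every section of `R₀` becomes generated at some stage
  have hgen : ∀ g₀ : Γ(R₀, ⊤), ∃ j : J,
      (qR j).appTop.hom g₀ ∈ adjSet (σ.app j).appTop.hom (τ.app j).appTop.hom := by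
    intro g₀
    obtain ⟨j', y, hy, hyx⟩ := hlift ((cR.π.app j₁ ≫ qR j₁).appTop.hom g₀)
    have e1 : (cR.π.app (IsCofiltered.min j' j₁)).appTop.hom
        ((qR (IsCofiltered.min j' j₁)).appTop.hom g₀) =
        (cR.π.app j₁ ≫ qR j₁).appTop.hom g₀ := by
      have e : cR.π.app (IsCofiltered.min j' j₁) ≫ qR (IsCofiltered.min j' j₁) =
          cR.π.app j₁ ≫ qR j₁ := by
        rw [← hqR (IsCofiltered.minToRight j' j₁), ← Category.assoc, cR.w]
      exact congrArg (fun m : cR.pt ⟶ R₀ => m.appTop.hom g₀) e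
    have e2 : (cR.π.app (IsCofiltered.min j' j₁)).appTop.hom
        ((ER.map (IsCofiltered.minToLeft j' j₁)).appTop.hom y) = (cR.π.app j').appTop.hom y :=
      congrArg (fun m : cR.pt ⟶ ER.obj j' => m.appTop.hom y)
        (cR.w (IsCofiltered.minToLeft j' j₁))
    have hz : (cR.π.app (IsCofiltered.min j' j₁)).appTop
        ((qR (IsCofiltered.min j' j₁)).appTop.hom g₀ -
          (ER.map (IsCofiltered.minToLeft j' j₁)).appTop.hom y) = 0 := by
      change (cR.π.app (IsCofiltered.min j' j₁)).appTop.hom _ = 0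
      rw [map_sub, sub_eq_zero, e1, e2, hyx]
    obtain ⟨j₃, γ, hγ⟩ := exists_appTop_map_eq_zero_of_isLimit ER cR hcR _ hz
    refine ⟨j₃, ?_⟩
    have hγ' : (ER.map γ).appTop.hom ((qR (IsCofiltered.min j' j₁)).appTop.hom g₀) =
        (ER.map γ).appTop.hom ((ER.map (IsCofiltered.minToLeft j' j₁)).appTop.hom y) := by
      have h0 : (ER.map γ).appTop.hom ((qR (IsCofiltered.min j' j₁)).appTop.hom g₀ -
          (ER.map (IsCofiltered.minToLeft j' j₁)).appTop.hom y) = 0 := hγ
      rw [map_sub, sub_eq_zero] at h0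
      exact h0
    have e3 : (qR j₃).appTop.hom g₀ =
        (ER.map γ).appTop.hom ((qR (IsCofiltered.min j' j₁)).appTop.hom g₀) :=
      (congrArg (fun m : ER.obj j₃ ⟶ R₀ => m.appTop.hom g₀) (hqR γ)).symm
    rw [e3, hγ']
    exact hmono γ _ (hmono _ _ hy)
  have hmono' : ∀ {j k : J} (φ : j ⟶ k) (g₀ : Γ(R₀, ⊤)),
      (qR k).appTop.hom g₀ ∈ adjSet (σ.app k).appTop.hom (τ.app k).appTop.hom →
      (qR j).appTop.hom g₀ ∈ adjSet (σ.app j).appTop.hom (τ.app j).appTop.hom := by
    intro j k φ g₀ h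
    have e : (qR j).appTop.hom g₀ = (ER.map φ).appTop.hom ((qR k).appTop.hom g₀) :=
      (congrArg (fun m : ER.obj j ⟶ R₀ => m.appTop.hom g₀) (hqR φ)).symm
    rw [e]
    exact hmono φ _ h
  have hft : RingHom.FiniteType s₀.appTop.hom :=
    (HasRingHomProperty.iff_of_isAffine (P := @LocallyOfFiniteType)).1 inferInstance
  obtain ⟨⟨T, hT⟩⟩ := hft
  have hfin : ∀ T' : Finset Γ(R₀, ⊤), ∃ j : J, ∀ g₀ ∈ T',
      (qR j).appTop.hom g₀ ∈ adjSet (σ.app j).appTop.hom (τ.app j).appTop.hom := by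
    classical
    intro T'
    induction T' using Finset.induction_on with
    | empty => exact ⟨j₁, fun g₀ h => absurd h (Finset.notMem_empty g₀)⟩
    | insert g₀ T' _ ih =>
      obtain ⟨j₂, h₂⟩ := ih
      obtain ⟨j₃, h₃⟩ := hgen g₀
      refine ⟨IsCofiltered.min j₂ j₃, fun g' hg' => ?_⟩
      rcases Finset.mem_insert.1 hg' with rfl | hg'
      · exact hmono' (IsCofiltered.minToRight j₂ j₃) _ h₃
      · exact hmono' (IsCofiltered.minToLeft j₂ j₃) _ (h₂ g' hg')
  obtain ⟨j₀, hj₀⟩ := hfin T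
  refine ⟨j₀, fun j φ => ?_⟩
  have hpo := isPushout_appTop_of_isPullback (sq j)
  have htopj := adjoin_eq_top_of_isPushout hpo (↑T) hT
  refine adjSet_eq_univ_of_adjoin_eq_top _ _ _ htopj ?_
  rintro _ ⟨g₀, hg₀, rfl⟩
  exact hmono' φ g₀ (hj₀ g₀ hg₀)

end Groth.Agent.Lib.SchLimTowerH7
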