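import Groth.Agent.Lib.LimFin4_helper7
import Groth.Agent.Lib.LimSepA_helper7
import Groth.Agent.Lib.AlgSpDescent2_helper7

/-!
# Separatedness at a finite stage of a limit of algebraic spaces (helper7)

`main10059`, `main10005`.
-/

set_option autoImplicit false
set_option linter.style.haveILetI false

universe u

open CategoryTheory CategoryTheory.Limits AlgebraicGeometry Opposite Topology
open AlgSp Groth.Agent.Lib.AlgSpPullback_helper7 Groth.Agent.Lib.AlgSpQC_helper7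
  Groth.Agent.Lib.AlgSpPoints_helper7 Groth.Agent.Lib.AlgSpQC2_helper7
  Groth.Agent.Lib.MonicGsectH6 Groth.Agent.Lib.AlgSpSep_helper7
  Groth.Agent.Lib.AlgSpDiag_helper7 Groth.Agent.Lib.AlgSpProper_helper7
  Groth.Agent.Lib.AlgSpEpi_helper7 Groth.Agent.Lib.AlgSpFormal5_helper7
  Groth.Agent.Lib.AlgSpIso_helper7
  Groth.Agent.Lib.SchLimTowerH7
  Groth.Agent.Lib.AlgSpLocP_helper7 Groth.Agent.Lib.AlgSpAffineMorH7 Groth.Agent.Lib.AffDescH7
  Groth.Agent.Lib.AlgSpFpqc3_helper7 Groth.Agent.Lib.AlgSpLocP4_helper7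
  Groth.Agent.Lib.AlgSpDescent_helper7 Groth.Agent.Lib.AlgSpDescent2_helper7

namespace Groth.Agent.Lib.LimTowerH7

/-! ### A diagram chase -/

/-- Let `XW₀ = X₀ ×_Y W`, `a₀ : U₀ ⟶ XW₀` with `R₀ = U₀ ×_{XW₀} U₀`; let `X' ⟶ X₀` be a morphism,
`U' = X' ×_{X₀} U₀`, `R' = U' ×_{U₀} R₀`, `XW' = X' ×_Y W`.  Then `R' = U' ×_{XW'} U'` and
`U' = XW' ×_{XW₀} U₀`. -/
theorem isPullback_stageSep {C : Type*} [Category C] {X₀ Yb Wb XW₀ U₀ R₀ X' XW' U' R' : C}
    {t₀ : X₀ ⟶ Yb} {v : Wb ⟶ Yb} {prX₀ : XW₀ ⟶ X₀} {prW₀ : XW₀ ⟶ Wb}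
    (sqXW₀ : IsPullback prX₀ prW₀ t₀ v) {a₀ : U₀ ⟶ XW₀} {s₀ t₀' : R₀ ⟶ U₀}
    (sqR₀ : IsPullback s₀ t₀' a₀ a₀) {m : X' ⟶ X₀} {t' : X' ⟶ Yb} (hm : m ≫ t₀ = t')
    {p' : U' ⟶ X'} {q' : U' ⟶ U₀} (sqU : IsPullback p' q' m (a₀ ≫ prX₀))
    {σ : R' ⟶ U'} {qR : R' ⟶ R₀} (sqR : IsPullback σ qR q' s₀)
    {prX : XW' ⟶ X'} {prW : XW' ⟶ Wb} (sqXW : IsPullback prX prW t' v)
    (τ : R' ⟶ U') (hτp : τ ≫ p' = σ ≫ p') (hτq : τ ≫ q' = qR ≫ t₀')
    (a' : U' ⟶ XW') (ha'X : a' ≫ prX = p') (ha'W : a' ≫ prW = q' ≫ a₀ ≫ prW₀) :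
    IsPullback σ τ a' a' ∧ ∃ κ : XW' ⟶ XW₀, IsPullback a' q' κ a₀ := by
  subst hm
  have hκw : (prX ≫ m) ≫ t₀ = prW ≫ v := by
    rw [Category.assoc]
    exact sqXW.w
  obtain ⟨κ, hκ1, hκ2⟩ : ∃ κ : XW' ⟶ XW₀, κ ≫ prX₀ = prX ≫ m ∧ κ ≫ prW₀ = prW :=
    ⟨sqXW₀.lift (prX ≫ m) prW hκw, sqXW₀.lift_fst _ _ _, sqXW₀.lift_snd _ _ _⟩
  have Kright : IsPullback κ prX prX₀ m := by
    refine IsPullback.of_right ?_ hκ1 sqXW₀.flip
    rw [hκ2]
    exact sqXW.flip
  have hcomm : a' ≫ κ = q' ≫ a₀ := by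
    apply sqXW₀.hom_ext
    · rw [Category.assoc, hκ1, ← Category.assoc, ha'X, sqU.w, Category.assoc]
    · rw [Category.assoc, hκ2, ha'W, Category.assoc]
  have L : IsPullback a' q' κ a₀ := by
    refine IsPullback.of_right ?_ hcomm Kright.flip
    rw [ha'X]
    exact sqU
  have big2 : IsPullback (qR ≫ t₀') σ a₀ (q' ≫ a₀) := sqR.flip.paste_horiz sqR₀.flip
  have hτa : τ ≫ a' = σ ≫ a' := by
    apply sqXW.hom_ext
    · rw [Category.assoc, Category.assoc, ha'X, hτp]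
    · have e1 : t₀' ≫ a₀ ≫ prW₀ = s₀ ≫ a₀ ≫ prW₀ := by
        rw [← Category.assoc, ← sqR₀.w, Category.assoc]
      have e2 : σ ≫ q' ≫ a₀ ≫ prW₀ = qR ≫ s₀ ≫ a₀ ≫ prW₀ := by
        rw [← Category.assoc, sqR.w, Category.assoc]
      rw [Category.assoc, Category.assoc, ha'W, ← Category.assoc, hτq, Category.assoc, e1, e2]
  have fin : IsPullback τ σ a' a' := by
    refine IsPullback.of_right ?_ hτa L.flip
    rw [hτq, hcomm]
    exact big2
  exact ⟨fin.flip, κ, L⟩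

variable {S : Scheme.{u}}

/-! ### Charts of the relative diagonal -/

set_option backward.isDefEq.respectTransparency false in
/-- For `f : X ⟶ H` and `p : h_U ⟶ X` with `R = U ×_X U`, the scheme `P = U ×_H U` is a chart of
`X ×_H X`, and the base change of the diagonal of `f` to it is `R ⟶ P`. -/
theorem exists_diagonal_chart {X H : Sp S} (hH : Representable (Limits.diag H)) (f : X ⟶ H)
    {U R : Over S} (p : (yon S).obj U ⟶ X) (s t : R ⟶ U)
    (sqR : IsPullback ((yon S).map s) ((yon S).map t) p p) :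
    ∃ (P : Over S) (π₁ π₂ : P ⟶ U) (r : (yon S).obj P ⟶ pullback f f) (ρ : R ⟶ P),
      ρ ≫ π₁ = s ∧ ρ ≫ π₂ = t ∧
      IsPullback ((yon S).map π₁) ((yon S).map π₂) (p ≫ f) (p ≫ f) ∧
      IsPullback ((yon S).map s ≫ p) ((yon S).map ρ) (pullback.diagonal f) r ∧
      ∀ (Q : MorphismProperty Scheme.{u}) [Q.IsStableUnderBaseChange] [Q.IsMultiplicative],
        RepWith Q p → RepWith Q r := by
  obtain ⟨P, π₁, π₂, r, hr1, hr2, sqP, hr⟩ :=
    exists_chart_of_isPullback hH (IsPullback.of_hasPullback f f) p p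
  have hρw : (yon S).map s ≫ p ≫ f = (yon S).map t ≫ p ≫ f := by
    rw [← Category.assoc, ← Category.assoc, sqR.w]
  obtain ⟨ρ, hρ⟩ := (yon S).map_surjective (sqP.lift ((yon S).map s) ((yon S).map t) hρw)
  have hρ1 : ρ ≫ π₁ = s :=
    (yon S).map_injective (by rw [Functor.map_comp, hρ, sqP.lift_fst])
  have hρ2 : ρ ≫ π₂ = t :=
    (yon S).map_injective (by rw [Functor.map_comp, hρ, sqP.lift_snd])
  refine ⟨P, π₁, π₂, r, ρ, hρ1, hρ2, sqP, ?_, fun Q _ _ h => hr Q h h⟩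
  have key := pullback_map_diagonal_isPullback p p f
  refine IsPullback.of_iso' key sqR.isoPullback (Iso.refl _) sqP.isoPullback (Iso.refl _)
    ?_ ?_ ?_ ?_
  · rw [Iso.refl_hom, Category.comp_id, ← Category.assoc, sqR.isoPullback_hom_fst]
  · apply pullback.hom_ext
    · rw [Category.assoc, Category.assoc, pullback.lift_fst, Category.comp_id,
        sqR.isoPullback_hom_fst, sqP.isoPullback_hom_fst, ← Functor.map_comp, hρ1]
    · rw [Category.assoc, Category.assoc, pullback.lift_snd, Category.comp_id,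
        sqR.isoPullback_hom_snd, sqP.isoPullback_hom_snd, ← Functor.map_comp, hρ2]
  · rw [Iso.refl_hom, Iso.refl_hom, Category.comp_id, Category.id_comp]
  · apply pullback.hom_ext
    · rw [Iso.refl_hom, Category.comp_id, Category.assoc, pullback.lift_fst, ← Category.assoc,
        sqP.isoPullback_hom_fst, hr1]
    · rw [Iso.refl_hom, Category.comp_id, Category.assoc, pullback.lift_snd, ← Category.assoc,
        sqP.isoPullback_hom_snd, hr2]

/-! ### The chart of a stage -/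

set_option backward.isDefEq.respectTransparency false in
/-- The common part of `adjSet_of_isSeparatedMor` and `isSeparatedMor_of_stage`. -/
theorem stage_chart {X₀ Yb X' XW₀ XW' : Sp S} {W U₀ R₀ U' R' : Over S}
    {t₀ : X₀ ⟶ Yb} {v : (yon S).obj W ⟶ Yb} {prX₀ : XW₀ ⟶ X₀} {prW₀ : XW₀ ⟶ (yon S).obj W}
    (sqXW₀ : IsPullback prX₀ prW₀ t₀ v) {a₀ : (yon S).obj U₀ ⟶ XW₀}
    (ha₀e : RepWith @Etale a₀) (ha₀s : RepWith @Surjective a₀)
    {u₀ : U₀ ⟶ W} (hu₀ : (yon S).map u₀ = a₀ ≫ prW₀)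
    {s₀ t₀' : R₀ ⟶ U₀} (sqR₀ : IsPullback ((yon S).map s₀) ((yon S).map t₀') a₀ a₀)
    {m : X' ⟶ X₀} {t' : X' ⟶ Yb} (hm : m ≫ t₀ = t')
    {p' : (yon S).obj U' ⟶ X'} {q' : U' ⟶ U₀}
    (sqU : IsPullback p' ((yon S).map q') m (a₀ ≫ prX₀))
    {σ τ : R' ⟶ U'} {qR : R' ⟶ R₀} (sqR : IsPullback σ qR q' s₀)
    (hτp : (yon S).map τ ≫ p' = (yon S).map σ ≫ p') (hτq : τ ≫ q' = qR ≫ t₀')
    {prX : XW' ⟶ X'} {prW : XW' ⟶ (yon S).obj W} (sqXW : IsPullback prX prW t' v) :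
    ∃ (a' : (yon S).obj U' ⟶ XW') (P : Over S) (π₁ π₂ : P ⟶ U')
      (r : (yon S).obj P ⟶ pullback prW prW) (ρ : R' ⟶ P),
      a' ≫ prX = p' ∧ RepWith @Etale a' ∧ RepWith @Surjective a' ∧ ρ ≫ π₁ = σ ∧ ρ ≫ π₂ = τ ∧
      IsPullback π₁.left π₂.left (q' ≫ u₀).left (q' ≫ u₀).left ∧
      IsPullback ((yon S).map σ ≫ a') ((yon S).map ρ) (pullback.diagonal prW) r ∧
      RepWith @Etale r ∧ RepWith @Surjective r := by
  have hcompat : p' ≫ t' = (yon S).map (q' ≫ u₀) ≫ v := by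
    subst hm
    have e1 : p' ≫ m ≫ t₀ = (yon S).map q' ≫ a₀ ≫ prX₀ ≫ t₀ := by
      rw [← Category.assoc, sqU.w, Category.assoc, Category.assoc]
    rw [e1, sqXW₀.w, Functor.map_comp, hu₀, Category.assoc, Category.assoc]
  obtain ⟨a', ha'X, ha'W'⟩ : ∃ a' : (yon S).obj U' ⟶ XW', a' ≫ prX = p' ∧
      a' ≫ prW = (yon S).map (q' ≫ u₀) :=
    ⟨sqXW.lift p' ((yon S).map (q' ≫ u₀)) hcompat, sqXW.lift_fst _ _ _, sqXW.lift_snd _ _ _⟩
  have ha'W : a' ≫ prW = (yon S).map q' ≫ a₀ ≫ prW₀ := by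
    rw [ha'W', Functor.map_comp, hu₀]
  have hτq' : (yon S).map τ ≫ (yon S).map q' = (yon S).map qR ≫ (yon S).map t₀' := by
    rw [← Functor.map_comp, hτq, Functor.map_comp]
  obtain ⟨sqR', κ, L⟩ := isPullback_stageSep sqXW₀ sqR₀ hm sqU (sqR.map (yon S)) sqXW
    ((yon S).map τ) hτp hτq' a' ha'X ha'W
  have ha'e : RepWith @Etale a' := repWith_fst_of_isPullback _ L ha₀e
  have ha's : RepWith @Surjective a' := repWith_fst_of_isPullback _ L ha₀s
  obtain ⟨P, π₁, π₂, r, ρ, hρ1, hρ2, sqP, sqΔ, hr⟩ :=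
    exists_diagonal_chart (IsAlgSpace.yon_obj W).diag prW a' σ τ sqR'
  rw [ha'W'] at sqP
  refine ⟨a', P, π₁, π₂, r, ρ, ha'X, ha'e, ha's, hρ1, hρ2, ?_, sqΔ, hr _ ha'e, hr _ ha's⟩
  exact (IsPullback.of_map (yon S) ((yon S).map_injective (by
    rw [Functor.map_comp, Functor.map_comp]
    exact sqP.w)) sqP).map (Over.forget S)

set_option backward.isDefEq.respectTransparency false in
/-- If `X' ⟶ Y` is separated, `R'` is affine and its ring is generated by the two projections. -/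
theorem adjSet_of_isSeparatedMor {X₀ Yb X' XW₀ XW' : Sp S} {W U₀ R₀ U' R' : Over S}
    {t₀ : X₀ ⟶ Yb} {v : (yon S).obj W ⟶ Yb} {prX₀ : XW₀ ⟶ X₀} {prW₀ : XW₀ ⟶ (yon S).obj W}
    (sqXW₀ : IsPullback prX₀ prW₀ t₀ v) {a₀ : (yon S).obj U₀ ⟶ XW₀}
    (ha₀e : RepWith @Etale a₀) (ha₀s : RepWith @Surjective a₀)
    {u₀ : U₀ ⟶ W} (hu₀ : (yon S).map u₀ = a₀ ≫ prW₀)
    {s₀ t₀' : R₀ ⟶ U₀} (sqR₀ : IsPullback ((yon S).map s₀) ((yon S).map t₀') a₀ a₀)
    {m : X' ⟶ X₀} {t' : X' ⟶ Yb} (hm : m ≫ t₀ = t')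
    {p' : (yon S).obj U' ⟶ X'} {q' : U' ⟶ U₀}
    (sqU : IsPullback p' ((yon S).map q') m (a₀ ≫ prX₀))
    {σ τ : R' ⟶ U'} {qR : R' ⟶ R₀} (sqR : IsPullback σ qR q' s₀)
    (hτp : (yon S).map τ ≫ p' = (yon S).map σ ≫ p') (hτq : τ ≫ q' = qR ≫ t₀')
    {prX : XW' ⟶ X'} {prW : XW' ⟶ (yon S).obj W} (sqXW : IsPullback prX prW t' v)
    (hsep : IsSeparatedMor t') (hWa : IsAffine W.left) (hU'a : IsAffine U'.left) :
    IsAffine R'.left ∧ adjSet σ.left.appTop.hom τ.left.appTop.hom = Set.univ := by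
  obtain ⟨a', P, π₁, π₂, r, ρ, -, -, -, hρ1, hρ2, sqPs, sqΔ, -, -⟩ :=
    stage_chart sqXW₀ ha₀e ha₀s hu₀ sqR₀ hm sqU sqR hτp hτq sqXW
  have hsep' : IsSeparatedMor prW := isSeparatedMor_of_isPullback sqXW hsep
  haveI : IsClosedImmersion ρ.left := hsep'.property _ _ _ sqΔ
  haveI := hWa
  haveI := hU'a
  haveI : IsAffine P.left := IsAffine.of_isPullback sqPs
  refine ⟨isAffine_of_isAffineHom ρ.left, ?_⟩
  exact adjSet_eq_univ_of_isClosedImmersion sqPs ρ.left σ.left τ.left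
    (by rw [← Over.comp_left, hρ1]) (by rw [← Over.comp_left, hρ2])

set_option backward.isDefEq.respectTransparency false in
/-- If `R'` is affine with ring generated by the two projections, and `XW' ⟶ X'` is surjective,
then `X' ⟶ Y` is separated. -/
theorem isSeparatedMor_of_stage {X₀ Yb X' XW₀ XW' : Sp S} {W U₀ R₀ U' R' : Over S}
    (hX' : IsAlgSpace X')
    {t₀ : X₀ ⟶ Yb} {v : (yon S).obj W ⟶ Yb} (hve : RepWith @Etale v) {prX₀ : XW₀ ⟶ X₀}
    {prW₀ : XW₀ ⟶ (yon S).obj W}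
    (sqXW₀ : IsPullback prX₀ prW₀ t₀ v) {a₀ : (yon S).obj U₀ ⟶ XW₀}
    (ha₀e : RepWith @Etale a₀) (ha₀s : RepWith @Surjective a₀)
    {u₀ : U₀ ⟶ W} (hu₀ : (yon S).map u₀ = a₀ ≫ prW₀)
    {s₀ t₀' : R₀ ⟶ U₀} (sqR₀ : IsPullback ((yon S).map s₀) ((yon S).map t₀') a₀ a₀)
    {m : X' ⟶ X₀} {t' : X' ⟶ Yb} (hm : m ≫ t₀ = t')
    {p' : (yon S).obj U' ⟶ X'} {q' : U' ⟶ U₀}
    (sqU : IsPullback p' ((yon S).map q') m (a₀ ≫ prX₀))
    {σ τ : R' ⟶ U'} {qR : R' ⟶ R₀} (sqR : IsPullback σ qR q' s₀)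
    (hτp : (yon S).map τ ≫ p' = (yon S).map σ ≫ p') (hτq : τ ≫ q' = qR ≫ t₀')
    {prX : XW' ⟶ X'} {prW : XW' ⟶ (yon S).obj W} (sqXW : IsPullback prX prW t' v)
    (hsurj : IsSurjectiveMor prX) (hWa : IsAffine W.left) (hU'a : IsAffine U'.left)
    (hR'a : IsAffine R'.left)
    (hadj : adjSet σ.left.appTop.hom τ.left.appTop.hom = Set.univ) : IsSeparatedMor t' := by
  obtain ⟨a', P, π₁, π₂, r, ρ, -, -, -, hρ1, hρ2, sqPs, sqΔ, hre, hrs⟩ :=
    stage_chart sqXW₀ ha₀e ha₀s hu₀ sqR₀ hm sqU sqR hτp hτq sqXW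
  haveI := hWa
  haveI := hU'a
  haveI := hR'a
  have hci : IsClosedImmersion ρ.left :=
    isClosedImmersion_of_adjSet_eq_univ sqPs ρ.left σ.left τ.left
      (by rw [← Over.comp_left, hρ1]) (by rw [← Over.comp_left, hρ2]) hadj
  have hme : RepWith @Etale (pullback.map prW prW t' t' prX prX v sqXW.w.symm sqXW.w.symm) :=
    repWith_fst_of_isPullback _ (isPullback_map_base sqXW) hve
  have hms : RepWith @Surjective
      (pullback.map prW prW t' t' prX prX v sqXW.w.symm sqXW.w.symm) :=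
    (repWith_surjective_iff _ hme.rep).2
      (isSurjectiveMor_of_isPullback (isPullback_map_fst sqXW).flip hsurj)
  have sqΔ' := sqΔ.paste_horiz (isPullback_diagonal_of_isPullback sqXW).flip
  exact repWith_of_chart @IsClosedImmersion descendsEtale_isClosedImmersion
    (pullback.diagonal t') (diagonal_properties hX' t').1.rep _
    (repWith_comp _ hre hme) (repWith_comp _ hrs hms) _ ρ sqΔ' hci

/-! ### S10059 -/

set_option backward.isDefEq.respectTransparency false in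
set_option maxHeartbeats 3200000 in
/-- The chart version: over an affine étale chart `W ⟶ Y`. -/
theorem main10059_chart [QuasiSeparatedSpace ↥S] {I : Type u} [SmallCategory I] [IsCofiltered I]
    (Y : Space S) (D : I ⥤ Sp S) (hD : ∀ i, IsAlgSpace (D.obj i))
    (t : D ⟶ (Functor.const I).obj Y.obj)
    (hDa : ∀ (i j : I) (φ : i ⟶ j), IsAffineMor (D.map φ))
    (c : Cone D) (hc : IsLimit c) (g : c.pt ⟶ Y.obj) (hg : ∀ i, c.π.app i ≫ t.app i = g)
    (hqc : ∀ i, IsQuasiCompactSp (D.obj i)) (hqs : ∀ i, IsQuasiSeparatedSp (D.obj i))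
    (hYqs : IsQuasiSeparatedSp Y.obj) (hX : IsSeparatedMor g) (i₀ : I)
    {W : Over S} (hW : IsAffine W.left) (v : (yon S).obj W ⟶ Y.obj) (hve : RepWith @Etale v) :
    ∃ i₁ : I, ∃ _ : i₁ ⟶ i₀, ∀ (i : I) (_ : i ⟶ i₁) (XW : Sp S) (prX : XW ⟶ D.obj i)
      (prW : XW ⟶ (yon S).obj W), IsPullback prX prW (t.app i) v → IsSurjectiveMor prX →
      IsSeparatedMor (t.app i) := by
  haveI := hW
  -- (1) the base change of the stage `i₀` and its atlas
  obtain ⟨XW₀, prX₀, prW₀, sq₀⟩ : ∃ (XW₀ : Sp S) (prX₀ : XW₀ ⟶ D.obj i₀)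
      (prW₀ : XW₀ ⟶ (yon S).obj W), IsPullback prX₀ prW₀ (t.app i₀) v :=
    ⟨_, _, _, IsPullback.of_hasPullback (t.app i₀) v⟩
  have hXW₀alg : IsAlgSpace XW₀ :=
    isAlgSpace_of_isPullback Y.property.diag (hD i₀) (IsAlgSpace.yon_obj W) sq₀
  have hWqs : IsQuasiSeparatedSp ((yon S).obj W) :=
    (repWith_diag_iff_diagonal_terminal_from _ _).2
      (isQuasiSeparatedMor_from_yon_affine (terminal.from _))
  obtain ⟨hXW₀qc, hXW₀qs⟩ := qcqs_of_isPullback (hD i₀) (IsAlgSpace.yon_obj W) sq₀ (hqc i₀)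
    (hqs i₀) hYqs (isQuasiCompactSp_yon W) hWqs
  obtain ⟨U₀, a₀, hU₀, ha₀e, ha₀s⟩ := exists_affine_atlas hXW₀qc
  haveI := hU₀
  obtain ⟨u₀, hu₀⟩ : ∃ u₀ : U₀ ⟶ W, (yon S).map u₀ = a₀ ≫ prW₀ :=
    ⟨(yon S).preimage _, (yon S).map_preimage _⟩
  -- (2) the relation
  obtain ⟨R₀, s₀, t₀, sqR₀⟩ : ∃ (R₀ : Over S) (s₀ t₀ : R₀ ⟶ U₀),
      IsPullback ((yon S).map s₀) ((yon S).map t₀) a₀ a₀ := ⟨_, _, _, ha₀e.rep.isPullback' a₀⟩
  have hs₀e : Etale s₀.left := ha₀e.property _ _ _ sqR₀.flip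
  have hU₀qs : IsQuasiSeparatedSp ((yon S).obj U₀) :=
    (repWith_diag_iff_diagonal_terminal_from _ _).2
      (isQuasiSeparatedMor_from_yon_affine (terminal.from _))
  obtain ⟨hR₀qc, hR₀qs⟩ := qcqs_of_isPullback (IsAlgSpace.yon_obj U₀) (IsAlgSpace.yon_obj U₀)
    sqR₀ (isQuasiCompactSp_yon U₀) hU₀qs hXW₀qs (isQuasiCompactSp_yon U₀) hU₀qs
  -- (3) the towers
  obtain ⟨E, p, q, cE, fst, w, sq, hp, hq, hEaff, hqaff, ⟨hcE⟩, ⟨hlE⟩, hπaff, hw, hfst, pb,
    hwaff⟩ := exists_tower D hDa c hc i₀ (a₀ ≫ prX₀)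
  obtain ⟨ER, σ, qR, cER, σ', wR, sqO, hqR, ⟨hlR⟩, hσ', hwR, pbO⟩ :=
    exists_tower_baseChange E hEaff q hq cE hcE w hw s₀
  have hEa : ∀ j : Over i₀, IsAffine (E.obj j).left := fun j => by
    haveI : IsAffineHom (q j).left := hqaff j
    exact isAffine_of_isAffineHom (q j).left
  have hUaff : IsAffine cE.pt.left := by
    haveI := hwaff
    exact isAffine_of_isAffineHom w.left
  -- (4) the second projection
  have hst : (yon S).map s₀ ≫ a₀ ≫ prX₀ = (yon S).map t₀ ≫ a₀ ≫ prX₀ := by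
    rw [← Category.assoc, sqR₀.w, Category.assoc]
  have hτw : ∀ j, ((yon S).map (σ.app j) ≫ p j) ≫ D.map j.hom =
      (yon S).map (qR j ≫ t₀) ≫ a₀ ≫ prX₀ := fun j => by
    rw [Category.assoc, (sq j).w, ← Category.assoc, ← Functor.map_comp, (sqO j).w,
      Functor.map_comp, Category.assoc, hst, ← Category.assoc, ← Functor.map_comp]
  have hτex : ∀ j, ∃ τj : ER.obj j ⟶ E.obj j,
      (yon S).map τj ≫ p j = (yon S).map (σ.app j) ≫ p j ∧ τj ≫ q j = qR j ≫ t₀ := fun j => by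
    refine ⟨(yon S).preimage ((sq j).lift _ _ (hτw j)), ?_, ?_⟩
    · rw [Functor.map_preimage, (sq j).lift_fst]
    · apply (yon S).map_injective
      rw [Functor.map_comp, Functor.map_preimage, (sq j).lift_snd]
  choose τm hτpm hτqm using hτex
  obtain ⟨τ, hτapp⟩ : ∃ τ : ER ⟶ E, ∀ j, τ.app j = τm j :=
    ⟨{ app := τm
       naturality := fun j k φ => by
        apply (yon S).map_injective
        apply (sq k).hom_ext
        · rw [Functor.map_comp, Functor.map_comp, Category.assoc, Category.assoc, hτpm k,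
            ← Category.assoc, ← Functor.map_comp, σ.naturality φ, Functor.map_comp,
            Category.assoc, hp j k φ, ← Category.assoc, ← Category.assoc, hτpm j]
        · rw [← Functor.map_comp, ← Functor.map_comp, Category.assoc, Category.assoc, hτqm k,
            hq j k φ, hτqm j, ← Category.assoc, hqR j k φ] }, fun _ => rfl⟩
  have hτp : ∀ j, (yon S).map (τ.app j) ≫ p j = (yon S).map (σ.app j) ≫ p j := fun j => by
    rw [hτapp]
    exact hτpm j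
  have hτq : ∀ j, τ.app j ≫ q j = qR j ≫ t₀ := fun j => by
    rw [hτapp]
    exact hτqm j
  -- (5) the second projection of the limit
  have hτ'w : ((yon S).map σ' ≫ fst) ≫ c.π.app i₀ = (yon S).map (wR ≫ t₀) ≫ a₀ ≫ prX₀ := by
    rw [Category.assoc, pb.w, ← Category.assoc, ← Functor.map_comp, pbO.w, Functor.map_comp,
      Category.assoc, hst, ← Category.assoc, ← Functor.map_comp]
  obtain ⟨τ', hτ'f, hτ'q⟩ : ∃ τ' : cER.pt ⟶ cE.pt,
      (yon S).map τ' ≫ fst = (yon S).map σ' ≫ fst ∧ τ' ≫ w = wR ≫ t₀ := by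
    refine ⟨(yon S).preimage (pb.lift _ _ hτ'w), ?_, ?_⟩
    · rw [Functor.map_preimage, pb.lift_fst]
    · apply (yon S).map_injective
      rw [Functor.map_comp, Functor.map_preimage, pb.lift_snd]
  have hτ' : ∀ j, τ' ≫ cE.π.app j = cER.π.app j ≫ τ.app j := fun j => by
    apply (yon S).map_injective
    apply (sq j).hom_ext
    · have e1 : (yon S).map (τ' ≫ cE.π.app j) ≫ p j =
          ((yon S).map τ' ≫ fst) ≫ c.π.app j.left := by
        rw [Functor.map_comp, Category.assoc, Category.assoc, hfst j]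
      have e2 : (yon S).map (cER.π.app j ≫ τ.app j) ≫ p j =
          ((yon S).map σ' ≫ fst) ≫ c.π.app j.left := by
        rw [Functor.map_comp, Category.assoc, hτp j, ← Category.assoc, ← Functor.map_comp,
          ← hσ' j, Functor.map_comp, Category.assoc, Category.assoc, hfst j]
      rw [e1, e2, hτ'f]
    · rw [← Functor.map_comp, ← Functor.map_comp, Category.assoc, Category.assoc, hw j, hτ'q,
        hτq j, ← Category.assoc, hwR j]
  -- (6) the limit: generation by the two projections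
  obtain ⟨XW', prX', prW', sq'⟩ : ∃ (XW' : Sp S) (prX' : XW' ⟶ c.pt)
      (prW' : XW' ⟶ (yon S).obj W), IsPullback prX' prW' g v :=
    ⟨_, _, _, IsPullback.of_hasPullback g v⟩
  obtain ⟨hRaff, htop⟩ := adjSet_of_isSeparatedMor sq₀ ha₀e ha₀s hu₀ sqR₀ (hg i₀) pb pbO hτ'f
    hτ'q sq' hX hW hUaff
  -- (7) affineness of the relation at a finite stage
  have hP : IsPullback ((yon S).map wR) ((yon S).map σ' ≫ fst) ((yon S).map s₀ ≫ a₀ ≫ prX₀)
      (c.π.app i₀) := ((pbO.map (yon S)).paste_horiz pb).flip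
  obtain ⟨i₁, φ₁, haff⟩ := exists_affine_stage' D hD hDa c hc i₀
    ⟨(yon S).obj R₀, IsAlgSpace.yon_obj R₀⟩ ((yon S).map s₀ ≫ a₀ ≫ prX₀) hR₀qc hR₀qs hU₀
    ((yon S).map s₀) hP hRaff (Iso.refl _)
  have hRj : ∀ j : Over i₀, IsPullback ((yon S).map (qR j)) ((yon S).map (σ.app j) ≫ p j)
      ((yon S).map s₀ ≫ a₀ ≫ prX₀) (D.map j.hom) := fun j =>
    (((sqO j).map (yon S)).paste_horiz (sq j)).flip
  let j₁ : Over i₀ := Over.mk φ₁
  have hERa : ∀ k : Over j₁, IsAffine (ER.obj k.left).left := fun k => by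
    have e : k.hom.left ≫ φ₁ = k.left.hom := Over.w k.hom
    have h1 := hRj k.left
    rw [← e] at h1
    obtain ⟨T', hT', ⟨ε⟩⟩ := haff k.left.left k.hom.left _ _ _ h1
    haveI : IsAffine ((Over.forget S).obj T') := hT'
    exact IsAffine.of_isIso ((Over.forget S).mapIso ((yon S).preimageIso ε)).inv
  have hERa' : ∀ k : Over j₁, IsAffine ((Over.forget j₁ ⋙ ER ⋙ Over.forget S).obj k) := hERa
  have hEa' : ∀ k : Over j₁, IsAffine ((Over.forget j₁ ⋙ E ⋙ Over.forget S).obj k) :=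
    fun k => hEa k.left
  have hERa₁ : IsAffine (ER.obj j₁).left := hERa (Over.mk (𝟙 j₁))
  haveI := hERa₁
  haveI : IsAffine (E.obj j₁).left := hEa j₁
  have sqS : ∀ j, IsPullback (σ.app j).left (qR j).left (q j).left s₀.left :=
    fun j => (sqO j).map (Over.forget S)
  haveI : LocallyOfFiniteType (σ.app j₁).left := by
    haveI : LocallyOfFiniteType s₀.left := by
      haveI := hs₀e
      infer_instance
    exact MorphismProperty.of_isPullback (P := @LocallyOfFiniteType) (sqS j₁).flip inferInstance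
  have htrans : ∀ (j k : Over i₀) (φ : j ⟶ k),
      IsPullback (σ.app j) (ER.map φ) (E.map φ) (σ.app k) := fun j k φ => by
    have big : IsPullback (ER.map φ ≫ qR k) (σ.app j) s₀ (E.map φ ≫ q k) := by
      rw [hqR j k φ, hq j k φ]
      exact (sqO j).flip
    exact (IsPullback.of_right big (σ.naturality φ) (sqO k).flip).flip
  -- (8) generation at a finite stage
  obtain ⟨k₀, hk₀⟩ := exists_adjSet_eq_univ_stage
    (Over.forget j₁ ⋙ ER ⋙ Over.forget S) (Over.forget j₁ ⋙ E ⋙ Over.forget S) hERa' hEa'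
    (Functor.whiskerLeft (Over.forget j₁) (Functor.whiskerRight σ (Over.forget S)))
    (Functor.whiskerLeft (Over.forget j₁) (Functor.whiskerRight τ (Over.forget S)))
    (σ.app j₁).left (fun k => (ER.map k.hom).left) (fun k => (E.map k.hom).left)
    (fun {j k} φ => by
      change (ER.map φ.left ≫ ER.map k.hom).left = (ER.map j.hom).left
      rw [← ER.map_comp, Over.w φ])
    (fun k => (htrans k.left j₁ k.hom).map (Over.forget S))
    (((Over.forget S).mapCone cER).whisker (Over.forget j₁))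
    ((Functor.Initial.isLimitWhiskerEquiv (Over.forget j₁) _).symm hlR)
    (((Over.forget S).mapCone cE).whisker (Over.forget j₁))
    ((Functor.Initial.isLimitWhiskerEquiv (Over.forget j₁) _).symm hlE)
    σ'.left τ'.left
    (fun k => by
      change (σ' ≫ cE.π.app k.left).left = (cER.π.app k.left ≫ σ.app k.left).left
      rw [hσ' k.left])
    (fun k => by
      change (τ' ≫ cE.π.app k.left).left = (cER.π.app k.left ≫ τ.app k.left).left
      rw [hτ' k.left])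
    htop
  -- (9) conclusion
  refine ⟨k₀.left.left, k₀.left.hom, ?_⟩
  intro i ψ XW prX prW sqXW hsurj
  have hadj := hk₀ (Over.mk ((Over.homMk ψ rfl : Over.mk (ψ ≫ k₀.left.hom) ⟶ k₀.left) ≫ k₀.hom))
    (Over.homMk (Over.homMk ψ rfl) rfl)
  have hnat : D.map (ψ ≫ k₀.left.hom) ≫ t.app i₀ = t.app i :=
    (t.naturality (ψ ≫ k₀.left.hom)).trans (Category.comp_id _)
  exact isSeparatedMor_of_stage (hD i) hve sq₀ ha₀e ha₀s hu₀ sqR₀ hnat
    (sq (Over.mk (ψ ≫ k₀.left.hom))) (sqO (Over.mk (ψ ≫ k₀.left.hom)))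
    (hτp (Over.mk (ψ ≫ k₀.left.hom))) (hτq (Over.mk (ψ ≫ k₀.left.hom))) sqXW hsurj hW
    (hEa (Over.mk (ψ ≫ k₀.left.hom)))
    (hERa (Over.mk ((Over.homMk ψ rfl : Over.mk (ψ ≫ k₀.left.hom) ⟶ k₀.left) ≫ k₀.hom))) hadj

set_option backward.isDefEq.respectTransparency false in
/-- **Separatedness at a finite stage**, relative version. -/
theorem main10059 [QuasiSeparatedSpace ↥S] {I : Type u} [SmallCategory I] [IsCofiltered I]
    (Y : Space S) (D : I ⥤ Sp S) (hD : ∀ i, IsAlgSpace (D.obj i))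
    (t : D ⟶ (Functor.const I).obj Y.obj)
    (hDa : ∀ (i j : I) (φ : i ⟶ j), IsAffineMor (D.map φ))
    (c : Cone D) (hc : IsLimit c) (g : c.pt ⟶ Y.obj) (hg : ∀ i, c.π.app i ≫ t.app i = g)
    (hqc : ∀ i, IsQuasiCompactSp (D.obj i)) (hqs : ∀ i, IsQuasiSeparatedSp (D.obj i))
    (hYqs : IsQuasiSeparatedSp Y.obj) (hX : IsSeparatedMor g) :
    ∃ i₀ : I, ∀ (i : I) (_ : i ⟶ i₀), IsSeparatedMor (t.app i) := by
  obtain ⟨i₀⟩ := IsCofiltered.nonempty (C := I)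
  haveI : CompactSpace (Points (D.obj i₀)) := compactSpace_of_isQuasiCompactSp (hqc i₀)
  have hK : IsCompact (Set.range (Points.map (t.app i₀))) :=
    isCompact_range (Points.continuous_map (t.app i₀))
  obtain ⟨V, r, hre, hVc, hKr⟩ := exists_compact_chart Y.property _ hK
  haveI : CompactSpace ↥V.left := hVc
  obtain ⟨W₀, q₀, hq₀s, hq₀e, hW₀⟩ :=
    Scheme.exists_hom_isAffine_of_isZariskiLocalAtSource @Etale V.left
  let W : Over S := Over.mk (q₀ ≫ V.hom)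
  let jW : W ⟶ V := Over.homMk q₀ rfl
  have hW : IsAffine W.left := hW₀
  have hve : RepWith @Etale ((yon S).map jW ≫ r) :=
    repWith_comp @Etale ((repWith_yon_map_iff @Etale jW).2 hq₀e) hre
  have hKv : Set.range (Points.map (t.app i₀)) ⊆
      Set.range (Points.ofPt ((yon S).map jW ≫ r)) := by
    intro z hz
    obtain ⟨x, rfl⟩ := hKr hz
    obtain ⟨w', rfl⟩ := hq₀s.surj x
    exact ⟨w', ofPt_comp jW r w'⟩
  obtain ⟨i₁, φ₁, h⟩ := main10059_chart Y D hD t hDa c hc g hg hqc hqs hYqs hX i₀ hW _ hve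
  refine ⟨i₁, fun i ψ => ?_⟩
  have sqi := IsPullback.of_hasPullback (t.app i) ((yon S).map jW ≫ r)
  refine h i ψ _ _ _ sqi ?_
  intro x
  have hnat : D.map (ψ ≫ φ₁) ≫ t.app i₀ = t.app i :=
    (t.naturality (ψ ≫ φ₁)).trans (Category.comp_id _)
  have hx : Points.map (t.app i) x ∈ Set.range (Points.map (t.app i₀)) := by
    refine ⟨Points.map (D.map (ψ ≫ φ₁)) x, ?_⟩
    rw [← Points.map_comp, hnat]
  obtain ⟨w', hw'⟩ := hKv hx
  rw [Points.ofPt_eq_map_ofScheme] at hw'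
  obtain ⟨z, hz, -⟩ := exists_of_isPullback sqi x _ hw'.symm
  exact ⟨z, hz⟩

/-! ### S10005 -/

set_option backward.isDefEq.respectTransparency false in
/-- **Separatedness at a finite stage**, absolute version. -/
theorem main10005 [QuasiSeparatedSpace ↥S] {I : Type u} [SmallCategory I] [IsCofiltered I]
    (D : I ⥤ Sp S) (hD : ∀ i, IsAlgSpace (D.obj i))
    (hDa : ∀ (i j : I) (φ : i ⟶ j), IsAffineMor (D.map φ))
    (hqc : ∀ i, IsQuasiCompactSp (D.obj i)) (hqs : ∀ i, IsQuasiSeparatedSp (D.obj i))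
    (c : Cone D) (hc : IsLimit c) (hX : IsSeparatedSp c.pt) :
    ∃ i, IsSeparatedSp (D.obj i) := by
  have hTalg : IsAlgSpace (⊤_ (Sp S)) :=
    (IsAlgSpace.yon_obj (Over.mk (𝟙 S))).of_iso
      (terminalIsTerminal.uniqueUpToIso isTerminalYonId).symm
  have hTqs : IsQuasiSeparatedSp (⊤_ (Sp S)) := by
    haveI : IsIso (Limits.diag (⊤_ (Sp S))) := by
      refine ⟨prod.fst, prod.lift_fst _ _, ?_⟩
      apply Limits.prod.hom_ext
      · rw [Category.assoc, prod.lift_fst]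
        simp
      · exact Subsingleton.elim _ _
    exact repWith_of_isIso @QuasiCompact _
  let t : D ⟶ (Functor.const I).obj (⊤_ (Sp S)) :=
    { app := fun i => terminal.from (D.obj i)
      naturality := fun i j φ => terminal.hom_ext _ _ }
  obtain ⟨i₀, h⟩ := main10059 ⟨⊤_ (Sp S), hTalg⟩ D hD t hDa c hc (terminal.from c.pt)
    (fun i => terminal.hom_ext _ _) hqc hqs hTqs
    ((repWith_diag_iff_diagonal_terminal_from _ _).1 hX)
  exact ⟨i₀, (repWith_diag_iff_diagonal_terminal_from _ _).2 (h i₀ (𝟙 _))⟩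

end Groth.Agent.Lib.LimTowerH7
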