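import Mathlib
import Groth.Prelude
import Groth.Agent.S2074
import Groth.Agent.Lib.ProperOver_helper9
import Groth.Agent.Lib.SuppTens2_helper8
import Groth.Agent.Lib.SuppFT_helper9
import Groth.Agent.Lib.LimDom_helper7

/-!
# Properness of the support descends to a stage of a cofiltered limit (helper7)
-/

set_option autoImplicit false
set_option backward.isDefEq.respectTransparency false
universe u
open CategoryTheory CategoryTheory.Limits AlgebraicGeometry

namespace Groth.Agent.Lib.LimSuppProperH7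

/-- **S9221**. -/
theorem main9221 {I : Type u} [SmallCategory I] [IsCofiltered I]
    (D : I ⥤ Scheme.{u}) (c : Limits.Cone D) (hc : Limits.IsLimit c)
    [∀ (i j : I) (f : i ⟶ j), IsAffineHom (D.map f)] (i₀ : I) [CompactSpace (D.obj i₀)]
    [QuasiSeparatedSpace (D.obj i₀)] {X₀ Y₀ : Scheme.{u}} (f₀ : X₀ ⟶ Y₀) (g₀ : Y₀ ⟶ D.obj i₀)
    [CompactSpace X₀] [QuasiSeparatedSpace X₀] [CompactSpace Y₀] [QuasiSeparatedSpace Y₀]
    [LocallyOfFiniteType f₀] (F₀ : X₀.Modules) [Coh.IsQCoh F₀] (hF₀ : CohB1.IsFT F₀)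
    {X Y : Scheme.{u}} (f : X ⟶ Y) (g : Y ⟶ c.pt) (qY : Y ⟶ Y₀) (qX : X ⟶ X₀)
    (hY : IsPullback qY g g₀ (c.π.app i₀)) (hX : IsPullback qX f f₀ qY)
    (hF : ClSub.IsProperOver f (CohB1.support ((Scheme.Modules.pullback qX).obj F₀))) :
    ∃ (i : I) (φ : i ⟶ i₀) (Xi Yi : Scheme.{u}) (fi : Xi ⟶ Yi) (gi : Yi ⟶ D.obj i) (pY : Yi ⟶ Y₀)
      (pX : Xi ⟶ X₀), IsPullback pY gi g₀ (D.map φ) ∧ IsPullback pX fi f₀ pY ∧
        ClSub.IsProperOver fi (CohB1.support ((Scheme.Modules.pullback pX).obj F₀)) := by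
  haveI := hF₀
  have hZ₀ : IsClosed (CohB1.support F₀) := SuppFT.isClosed_support F₀
  obtain ⟨W₀, ι₀, hι₀, hr₀⟩ : ∃ (W₀ : Scheme.{u}) (ι₀ : W₀ ⟶ X₀), IsClosedImmersion ι₀ ∧
      Set.range ι₀ = CohB1.support F₀ :=
    ⟨_, ProperOver.redι _ hZ₀, inferInstance, ProperOver.range_redι _ hZ₀⟩
  haveI := hι₀
  haveI : CompactSpace W₀ := QuasiCompact.compactSpace_of_compactSpace ι₀
  haveI : QuasiSeparatedSpace W₀ := quasiSeparatedSpace_of_quasiSeparated ι₀
  haveI : LocallyOfFiniteType f :=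
    MorphismProperty.of_isPullback (P := @LocallyOfFiniteType) hX inferInstance
  have sqW := (IsPullback.of_hasPullback qX ι₀).flip
  haveI : IsClosedImmersion (pullback.fst qX ι₀) :=
    MorphismProperty.pullback_fst _ _ inferInstance
  have hrW : Set.range (pullback.fst qX ι₀) =
      CohB1.support ((Scheme.Modules.pullback qX).obj F₀) := by
    rw [SuppTensH8.support_pullback qX F₀, Scheme.Pullback.range_fst, hr₀]
  haveI : IsProper (pullback.fst qX ι₀ ≫ f) :=
    (ProperOver.isProperOver_iff_of_closedImmersion f (pullback.fst qX ι₀) hrW).1 hF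
  have hX' : IsPullback (pullback.snd qX ι₀) (pullback.fst qX ι₀ ≫ f) (ι₀ ≫ f₀) qY :=
    sqW.paste_vert hX
  obtain ⟨i, φ, Xi', Yi, fi', gi, pY, pX', h1, h2, h3⟩ :=
    Groth.Agent.S2074.result D c hc i₀ (ι₀ ≫ f₀) g₀ (pullback.fst qX ι₀ ≫ f) g qY
      (pullback.snd qX ι₀) hY hX'
  refine ⟨i, φ, pullback f₀ pY, Yi, pullback.snd f₀ pY, gi, pY, pullback.fst f₀ pY, h1,
    IsPullback.of_hasPullback f₀ pY, ?_⟩
  haveI : LocallyOfFiniteType (pullback.snd f₀ pY) :=
    MorphismProperty.pullback_snd _ _ inferInstance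
  obtain ⟨k, hk⟩ : ∃ k : Xi' ⟶ pullback f₀ pY,
      k = pullback.lift (pX' ≫ ι₀) fi' (by rw [Category.assoc]; exact h2.w) := ⟨_, rfl⟩
  have hk1 : k ≫ pullback.fst f₀ pY = pX' ≫ ι₀ := by rw [hk, pullback.lift_fst]
  have hk2 : k ≫ pullback.snd f₀ pY = fi' := by rw [hk, pullback.lift_snd]
  have sqk : IsPullback pX' k ι₀ (pullback.fst f₀ pY) := by
    refine IsPullback.of_bot ?_ hk1.symm (IsPullback.of_hasPullback f₀ pY)
    rw [hk2]
    exact h2
  haveI : IsClosedImmersion k :=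
    MorphismProperty.of_isPullback (P := @IsClosedImmersion) sqk hι₀
  have hrk : Set.range k =
      CohB1.support ((Scheme.Modules.pullback (pullback.fst f₀ pY)).obj F₀) := by
    rw [SuppTensH8.support_pullback (pullback.fst f₀ pY) F₀, ← hr₀]
    exact Groth.Agent.Lib.LimDomH7.range_snd_of_isPullback sqk
  rw [ProperOver.isProperOver_iff_of_closedImmersion (pullback.snd f₀ pY) k hrk, hk2]
  exact h3

end Groth.Agent.Lib.LimSuppProperH7
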