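import Mathlib
import Groth.Prelude.Def_RegImm
import Groth.Agent.Lib.SyntAdjoinRoot_lead
import Groth.Agent.Lib.SyntTA3_helper2
import Groth.Agent.Lib.SmoothLCI_helper2

/-!
# S9149 (helper2): a monic polynomial splits over a syntomic finite free faithfully flat extension.
APPEND-ONLY once landed.
-/

set_option autoImplicit false
universe u

namespace Groth.Agent.Lib.SyntSplit

open Polynomial
open Groth.Agent.Lib.SyntTA Groth.Agent.Lib.LCIComp

theorem isSyntomic_trans (A B C : Type u) [CommRing A] [CommRing B] [CommRing C] [Algebra A B]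
    [Algebra B C] [Algebra A C] [IsScalarTower A B C] (h1 : Synt.IsSyntomic A B)
    (h2 : Synt.IsSyntomic B C) : Synt.IsSyntomic A C := by
  rw [main9287] at h1 h2 ⊢
  haveI := h1.1
  haveI := h2.1
  exact ⟨Module.Flat.trans A B C, isLCI_trans h1.2 h2.2⟩

theorem isSyntomic_self (A : Type u) [CommRing A] : Synt.IsSyntomic A A := by
  rw [main9287]
  exact ⟨inferInstance, Groth.Agent.Lib.SmoothLCI.isLCI_self⟩

theorem aux : ∀ (n : ℕ) (A : Type u) [CommRing A] (P : A[X]), P.Monic → P.natDegree ≤ n →
    ∃ (A' : Type u) (_ : CommRing A') (_ : Algebra A A'),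
      Synt.IsSyntomic A A' ∧ Module.Finite A A' ∧ Module.Free A A' ∧ Module.FaithfullyFlat A A' ∧
        ∃ s : Multiset A', P.map (algebraMap A A') = (s.map fun b => X - C b).prod := by
  have base : ∀ (A : Type u) [CommRing A] (P : A[X]), P.Monic → P.natDegree = 0 →
      ∃ (A' : Type u) (_ : CommRing A') (_ : Algebra A A'),
        Synt.IsSyntomic A A' ∧ Module.Finite A A' ∧ Module.Free A A' ∧
          Module.FaithfullyFlat A A' ∧
          ∃ s : Multiset A', P.map (algebraMap A A') = (s.map fun b => X - C b).prod := by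
    intro A _ P hP hdeg
    have hP1 : P = 1 := by
      have h1 := Polynomial.eq_C_of_natDegree_eq_zero hdeg
      have h2 : P.coeff 0 = 1 := by
        have := hP.leadingCoeff
        rwa [Polynomial.leadingCoeff, hdeg] at this
      rw [h1, h2, map_one]
    refine ⟨A, inferInstance, inferInstance, isSyntomic_self A, inferInstance, inferInstance,
      inferInstance, 0, ?_⟩
    rw [hP1, Polynomial.map_one, Multiset.map_zero, Multiset.prod_zero]
  intro n
  induction n with
  | zero =>
    intro A _ P hP hdeg
    exact base A P hP (Nat.le_zero.mp hdeg)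
  | succ n ih =>
    intro A _ P hP hdeg
    by_cases h0 : P.natDegree = 0
    · exact base A P hP h0
    have hpos : 0 < P.natDegree := Nat.pos_of_ne_zero h0
    obtain ⟨hsynt₁, hff₁⟩ :=
      Groth.Agent.Lib.SyntAdjoinRoot.isSyntomic_and_faithfullyFlat P hP hpos
    haveI hfin₁ : Module.Finite A (AdjoinRoot P) := hP.finite_adjoinRoot
    haveI hfree₁ : Module.Free A (AdjoinRoot P) := hP.free_adjoinRoot
    set r : AdjoinRoot P := AdjoinRoot.root P with hr
    set P' : (AdjoinRoot P)[X] := P.map (algebraMap A (AdjoinRoot P)) with hP'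
    have hP'm : P'.Monic := hP.map _
    have hroot : IsRoot P' r := AdjoinRoot.isRoot_root P
    set Q : (AdjoinRoot P)[X] := P' /ₘ (X - C r) with hQ
    have hQmul : (X - C r) * Q = P' := Polynomial.mul_divByMonic_eq_iff_isRoot.mpr hroot
    have hQm : Q.Monic := (Polynomial.monic_X_sub_C r).of_mul_monic_left (hQmul ▸ hP'm)
    have hQdeg : Q.natDegree ≤ n := by
      rcases subsingleton_or_nontrivial (AdjoinRoot P) with hsub | hnt
      · rw [Polynomial.natDegree_of_subsingleton]
        exact Nat.zero_le _
      · rw [hQ, Polynomial.natDegree_divByMonic _ (Polynomial.monic_X_sub_C r),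
          Polynomial.natDegree_X_sub_C, hP', hP.natDegree_map]
        omega
    obtain ⟨A', instR, instA, hsynt, hfin, hfree, hff, s, hs⟩ := ih (AdjoinRoot P) Q hQm hQdeg
    letI := instR
    letI := instA
    letI algAA' : Algebra A A' :=
      ((algebraMap (AdjoinRoot P) A').comp (algebraMap A (AdjoinRoot P))).toAlgebra
    haveI : IsScalarTower A (AdjoinRoot P) A' := IsScalarTower.of_algebraMap_eq (fun _ => rfl)
    haveI := hfin
    haveI := hfree
    haveI := hff
    haveI := hff₁
    refine ⟨A', instR, algAA', isSyntomic_trans A (AdjoinRoot P) A' hsynt₁ hsynt,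
      Module.Finite.trans (AdjoinRoot P) A', Module.Free.trans (S := AdjoinRoot P),
      Module.FaithfullyFlat.trans A (AdjoinRoot P) A',
      algebraMap (AdjoinRoot P) A' r ::ₘ s, ?_⟩
    rw [Multiset.map_cons, Multiset.prod_cons, ← hs, IsScalarTower.algebraMap_eq A (AdjoinRoot P) A',
      ← Polynomial.map_map, ← hP', ← hQmul, Polynomial.map_mul, Polynomial.map_sub,
      Polynomial.map_X, Polynomial.map_C]

theorem main9149 (A : Type u) [CommRing A] (P : A[X]) (hP : P.Monic) :
    ∃ (A' : Type u) (_ : CommRing A') (_ : Algebra A A'),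
      Synt.IsSyntomic A A' ∧ Module.Finite A A' ∧ Module.Free A A' ∧ Module.FaithfullyFlat A A' ∧
        ∃ s : Multiset A', P.map (algebraMap A A') = (s.map fun b => X - C b).prod :=
  aux P.natDegree A P hP le_rfl

end Groth.Agent.Lib.SyntSplit
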