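import Mathlib
import Groth.Prelude.Def_RegImm
import Groth.Prelude.Def_Frob
import Groth.Prelude.Def_W4c2gaugesfzipsQuiet
import Groth.Agent.Lib.SyntStd_helper2
import Groth.Agent.Lib.SyntSplit_helper2
import Groth.Agent.Lib.SyntAdjoinRoot_lead
import Groth.Agent.Lib.SyntCover_lead
import Groth.Agent.Lib.SmoothSynt_helper4

/-!
# Quasi-etale morphisms are syntomic (helper2): S15044.

* `isSyntomic_of_isRootTower`: a tower of `p`-th root extractions is a syntomic ring map;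
* `isSyntomicMor_comp`: syntomic morphisms compose;
* `isSyntomicMor_of_isPthRoot`, `isSyntomicMor_of_ι_comp`, `main15044`.
APPEND-ONLY once landed.
-/

set_option autoImplicit false
universe u

namespace Groth.Agent.Lib.QuietSynt

open AlgebraicGeometry CategoryTheory TopologicalSpace
open Groth.Agent.Lib.SyntStd Groth.Agent.Lib.SyntSch Groth.Agent.Lib.SyntSplit

theorem isSyntomic_of_isRootTower (p : ℕ) [Fact p.Prime] : ∀ (n : ℕ) (A B : Type u) [CommRing A]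
    [CommRing B] [Algebra A B], Quiet.IsRootTower p n A B → Synt.IsSyntomic A B := by
  intro n
  induction n with
  | zero =>
    intro A B _ _ _ h
    obtain ⟨e⟩ := h
    exact Groth.Agent.Lib.SyntCover_lead.isSyntomic_of_algEquiv e.symm (isSyntomic_self A)
  | succ n ih =>
    intro A B _ _ _ h
    obtain ⟨a, alg, htower, hn⟩ := h
    letI := alg
    haveI := htower
    exact isSyntomic_trans A (Quiet.RootRing p A a) B
      (Groth.Agent.Lib.SyntAdjoinRoot.main p A a).1 (ih _ _ hn)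

theorem isSyntomicMor_comp {X Y Z : Scheme.{u}} (f : X ⟶ Y) (g : Y ⟶ Z)
    (hf : Synt.IsSyntomicMor f) (hg : Synt.IsSyntomicMor g) : Synt.IsSyntomicMor (f ≫ g) := by
  intro x
  obtain ⟨W, hW, hxW, -⟩ := (Opens.isBasis_iff_nbhd.mp Z.isBasis_affineOpens)
    (show g (f x) ∈ (⊤ : Z.Opens) from trivial)
  obtain ⟨V, hV, hxV, hVW⟩ := (Opens.isBasis_iff_nbhd.mp Y.isBasis_affineOpens)
    (show f x ∈ g ⁻¹ᵁ W from hxW)
  obtain ⟨U, hU, hxU, hUV⟩ := (Opens.isBasis_iff_nbhd.mp X.isBasis_affineOpens)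
    (show x ∈ f ⁻¹ᵁ V from hxV)
  have h1 : SyntHom (f.appLE V U hUV).hom :=
    (syntHom_iff _).mpr ((main9363 f).mp hf ⟨U, hU⟩ ⟨V, hV⟩ hUV)
  have h2 : SyntHom (g.appLE W V hVW).hom :=
    (syntHom_iff _).mpr ((main9363 g).mp hg ⟨V, hV⟩ ⟨W, hW⟩ hVW)
  have h3 := syntHom_stableUnderComposition _ _ h2 h1
  have e : U ≤ (f ≫ g) ⁻¹ᵁ W := fun y hy => hVW (hUV hy)
  have h4 : g.appLE W V hVW ≫ f.appLE V U hUV = (f ≫ g).appLE W U e :=
    Scheme.Hom.appLE_comp_appLE f g W V U hVW hUV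
  refine ⟨⟨U, hU⟩, ⟨W, hW⟩, e, hxU, ?_⟩
  refine (syntHom_iff _).mp ?_
  rw [← h4]
  exact h3

theorem isSyntomicMor_of_isPthRoot (p : ℕ) [Fact p.Prime] {Y X : Scheme.{u}} (r : Y ⟶ X)
    (hr : Quiet.IsPthRoot p r) : Synt.IsSyntomicMor r := by
  intro y
  obtain ⟨U, hxU, haff, h⟩ := hr (r y)
  obtain ⟨n, hn⟩ := h
  have h1 : SyntHom (r.app U.1).hom :=
    (syntHom_iff _).mpr (@isSyntomic_of_isRootTower p _ n _ _ _ _ (r.app U.1).hom.toAlgebra hn)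
  rw [Scheme.Hom.app_eq_appLE] at h1
  exact ⟨⟨r ⁻¹ᵁ U.1, haff⟩, U, le_rfl, hxU, (syntHom_iff _).mp h1⟩

theorem isSyntomicAt_of_ι_comp {X S : Scheme.{u}} (f : X ⟶ S) (V : X.Opens) (y : X) (hyV : y ∈ V)
    (h : Synt.IsSyntomicAt (V.ι ≫ f) ⟨y, hyV⟩) : Synt.IsSyntomicAt f y := by
  obtain ⟨U, W, e', hxU, hs⟩ := h
  have hs' : SyntHom ((V.ι ≫ f).appLE W.1 U.1 e').hom := (syntHom_iff _).mpr hs
  have e'' : V.ι ''ᵁ U.1 ≤ f ⁻¹ᵁ W.1 := by
    rintro _ ⟨z, hz, rfl⟩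
    exact e' hz
  rw [ι_comp_appLE f V W.1 U.1 e' e''] at hs'
  exact ⟨⟨V.ι ''ᵁ U.1, U.2.image_of_isOpenImmersion V.ι⟩, W, e'', ⟨⟨y, hyV⟩, hxU, rfl⟩,
    (syntHom_iff _).mp hs'⟩

theorem main15044 (p : ℕ) [Fact p.Prime] {X Y : Scheme.{u}} [FrobSch.IsCharP X p]
    (f : Y ⟶ X) (hf : Quiet.IsQuiet p f) : Synt.IsSyntomicMor f := by
  intro y
  obtain ⟨V, Y', r, e, hyV, hr, he, hcomp⟩ := hf y
  haveI := he
  have h1 : Synt.IsSyntomicMor (V.ι ≫ f) := by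
    rw [← hcomp]
    exact isSyntomicMor_comp r e (isSyntomicMor_of_isPthRoot p r hr)
      (Groth.Agent.Lib.SmoothSyntH4.main9699 e)
  exact isSyntomicAt_of_ι_comp f V y hyV (h1 ⟨y, hyV⟩)

end Groth.Agent.Lib.QuietSynt
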