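import Mathlib
import Groth.Agent.Lib.SyntCover_lead

/-!
# Being syntomic is local on the target ring (helper3)
-/

set_option autoImplicit false

namespace Groth.Agent.Lib.SyntLocalH3

universe u

open TensorProduct

section LocLoc

variable {κ F Fa : Type u} [Field κ] [CommRing F] [CommRing Fa] [Algebra κ F] [Algebra κ Fa]
  [Algebra F Fa] [IsScalarTower κ F Fa]

/-- If `Fa = F[1/a]` is locally a global complete intersection then so is `F` at the primes not
containing `a`. -/
theorem exists_away_of_away (a : F) [IsLocalization.Away a Fa] (P : Ideal F) [hP : P.IsPrime]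
    (ha : a ∉ P)
    (hloc : ∀ P' : PrimeSpectrum Fa, ∃ h : Fa, h ∉ P'.asIdeal ∧
      Synt.IsGlobalCI κ (Localization.Away h)) :
    ∃ g : F, g ∉ P ∧ Synt.IsGlobalCI κ (Localization.Away g) := by
  have hdisj : Disjoint (Submonoid.powers a : Set F) ↑P :=
    (Ideal.disjoint_powers_iff_notMem_of_isPrime a).mpr ha
  have hP' : (P.map (algebraMap F Fa)).IsPrime :=
    IsLocalization.isPrime_of_isPrime_disjoint (Submonoid.powers a) Fa P hP hdisj
  have hcomap : (P.map (algebraMap F Fa)).comap (algebraMap F Fa) = P :=
    IsLocalization.under_map_of_isPrime_disjoint (Submonoid.powers a) Fa hP hdisj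
  obtain ⟨h, hh, hG⟩ := hloc ⟨P.map (algebraMap F Fa), hP'⟩
  set z : F := (IsLocalization.Away.sec a h).1 with hzdef
  have hz : Associated (algebraMap F Fa z) h := IsLocalization.Away.associated_sec_fst a h
  haveI : IsLocalization.Away (a * z) (Localization.Away h) :=
    IsLocalization.Away.mul_of_associated a z h hz
  haveI tow2 : IsScalarTower κ F (Localization.Away h) := by
    apply IsScalarTower.of_algebraMap_eq'
    rw [IsScalarTower.algebraMap_eq κ Fa (Localization.Away h),
      IsScalarTower.algebraMap_eq κ F Fa, ← RingHom.comp_assoc,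
      ← IsScalarTower.algebraMap_eq F Fa (Localization.Away h)]
  let e : Localization.Away (a * z) ≃ₐ[F] Localization.Away h :=
    IsLocalization.algEquiv (Submonoid.powers (a * z)) _ _
  refine ⟨a * z, ?_, ?_⟩
  · intro hmem
    rcases hP.mem_or_mem hmem with h1 | h1
    · exact ha h1
    · apply hh
      obtain ⟨u, hu⟩ := hz
      show h ∈ P.map (algebraMap F Fa)
      rw [← hu]
      exact Ideal.mul_mem_right _ _ (Ideal.mem_map_of_mem _ h1)
  · exact Groth.Agent.Lib.SyntCover_lead.isGlobalCI_of_algEquiv (e.restrictScalars κ).symm hG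

end LocLoc

section Fiber

variable {R S : Type u} [CommRing R] [CommRing S] [Algebra R S] (κ : Type u) [Field κ]
  [Algebra R κ] (g : S)

/-- The map on fibres induced by `S → S[1/g]`. -/
noncomputable def fibMap : κ ⊗[R] S →ₐ[κ] κ ⊗[R] Localization.Away g :=
  Algebra.TensorProduct.map (AlgHom.id κ κ) (IsScalarTower.toAlgHom R S (Localization.Away g))

lemma fibMap_tmul (x : κ) (s : S) :
    fibMap κ g (x ⊗ₜ[R] s) = x ⊗ₜ[R] algebraMap S (Localization.Away g) s := by
  simp [fibMap]

/-- `κ ⊗ S[1/g]` is the localization of `κ ⊗ S` away from `1 ⊗ g`. -/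
theorem isLocalizationAway_fib :
    @IsLocalization.Away (κ ⊗[R] S) _ ((1 : κ) ⊗ₜ[R] g) (κ ⊗[R] Localization.Away g) _
      (fibMap (R := R) κ g).toRingHom.toAlgebra := by
  letI : Algebra (κ ⊗[R] S) (κ ⊗[R] Localization.Away g) :=
    (fibMap (R := R) κ g).toRingHom.toAlgebra
  haveI : IsScalarTower κ (κ ⊗[R] S) (κ ⊗[R] Localization.Away g) :=
    IsScalarTower.of_algebraMap_eq fun x => ((fibMap (R := R) κ g).commutes x).symm
  have H : (algebraMap (κ ⊗[R] S) (κ ⊗[R] Localization.Away g)).comp
      (Algebra.TensorProduct.includeRight (R := R) (A := κ) (B := S)).toRingHom =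
      (Algebra.TensorProduct.includeRight (R := R) (A := κ)
        (B := Localization.Away g)).toRingHom.comp (algebraMap S (Localization.Away g)) := by
    ext s
    simp only [RingHom.coe_comp, Function.comp_apply, AlgHom.toRingHom_eq_coe, RingHom.coe_coe,
      Algebra.TensorProduct.includeRight_apply]
    exact fibMap_tmul κ g 1 s
  have h1 := IsLocalization.tensorProduct_tensorProduct_right R κ (Submonoid.powers g)
    (Localization.Away g) H
  have h2 : (Submonoid.powers g).map
      (Algebra.TensorProduct.includeRight (R := R) (A := κ) (B := S)) =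
      Submonoid.powers ((1 : κ) ⊗ₜ[R] g) := by
    rw [Submonoid.map_powers]
    rfl
  rw [h2] at h1
  exact h1

end Fiber

/-- Being syntomic is local on the target ring. -/
theorem isSyntomic_of_span (R S : Type u) [CommRing R] [CommRing S] [Algebra R S]
    (s : Finset S) (hs : Ideal.span (s : Set S) = ⊤)
    (h : ∀ g ∈ s, Synt.IsSyntomic R (Localization.Away g)) : Synt.IsSyntomic R S := by
  have hflat : Module.Flat R S := by
    rw [← RingHom.flat_algebraMap_iff]
    refine RingHom.Flat.ofLocalizationSpanTarget (algebraMap R S) (s : Set S) hs (fun r => ?_)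
    show RingHom.Flat ((algebraMap S (Localization.Away (r : S))).comp (algebraMap R S))
    rw [← IsScalarTower.algebraMap_eq R S (Localization.Away (r : S)),
      RingHom.flat_algebraMap_iff]
    exact (h r r.2).1
  have hfp : Algebra.FinitePresentation R S := by
    rw [← RingHom.finitePresentation_algebraMap]
    refine RingHom.finitePresentation_ofLocalizationSpanTarget (algebraMap R S) (s : Set S) hs
      (fun r => ?_)
    show RingHom.FinitePresentation
      ((algebraMap S (Localization.Away (r : S))).comp (algebraMap R S))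
    rw [← IsScalarTower.algebraMap_eq R S (Localization.Away (r : S)),
      RingHom.finitePresentation_algebraMap]
    exact (h r r.2).2.1
  refine ⟨hflat, hfp, fun p => ⟨inferInstance, fun P => ?_⟩⟩
  -- find `g ∈ s` with `1 ⊗ g ∉ P`
  obtain ⟨g, hg, hgP⟩ : ∃ g ∈ s, ((1 : p.asIdeal.ResidueField) ⊗ₜ[R] g) ∉ P.asIdeal := by
    by_contra hcon
    push_neg at hcon
    have h1 : Ideal.map (Algebra.TensorProduct.includeRight (R := R)
        (A := p.asIdeal.ResidueField) (B := S)).toRingHom (Ideal.span (s : Set S)) ≤ P.asIdeal := by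
      rw [Ideal.map_span, Ideal.span_le]
      rintro _ ⟨g, hg, rfl⟩
      exact hcon g hg
    rw [hs, Ideal.map_top] at h1
    exact P.isPrime.ne_top (top_le_iff.mp h1)
  letI : Algebra (p.asIdeal.ResidueField ⊗[R] S)
      (p.asIdeal.ResidueField ⊗[R] Localization.Away g) :=
    (fibMap (R := R) p.asIdeal.ResidueField g).toRingHom.toAlgebra
  haveI : IsScalarTower p.asIdeal.ResidueField (p.asIdeal.ResidueField ⊗[R] S)
      (p.asIdeal.ResidueField ⊗[R] Localization.Away g) :=
    IsScalarTower.of_algebraMap_eq fun x =>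
      ((fibMap (R := R) p.asIdeal.ResidueField g).commutes x).symm
  haveI : IsLocalization.Away ((1 : p.asIdeal.ResidueField) ⊗ₜ[R] g)
      (p.asIdeal.ResidueField ⊗[R] Localization.Away g) :=
    isLocalizationAway_fib p.asIdeal.ResidueField g
  exact exists_away_of_away (κ := p.asIdeal.ResidueField)
    (Fa := p.asIdeal.ResidueField ⊗[R] Localization.Away g)
    ((1 : p.asIdeal.ResidueField) ⊗ₜ[R] g) P.asIdeal hgP ((h g hg).2.2 p).2

end Groth.Agent.Lib.SyntLocalH3
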