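import Mathlib
import Groth.Prelude.Def_RegImm
import Groth.Prelude.Def_Flat
import Groth.Agent.Lib.RelGCIDesc2_helper2

/-!
# Relative global complete intersections descend to finite type `ℤ`-subalgebras, part 3 (helper2):
`exists_finset_relGCI_descent`, `main9148`.
APPEND-ONLY once landed.
-/

set_option autoImplicit false
universe u

namespace Groth.Agent.Lib.RelGCI

open AlgebraicGeometry CategoryTheory TensorProduct MvPolynomial
open Groth.Agent.Lib.SyntTA Groth.Agent.Lib.SyntDim Groth.Agent.LocDimH8

section bc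

variable (A B : Type u) [CommRing A] [CommRing B] [Algebra A B] (n c : ℕ)
  (F : Fin c → MvPolynomial (Fin n) A)

/-- the core descent statement. -/
theorem exists_finset_relGCI_descent
    (h : Synt.IsRelGCI B n c (fun i => MvPolynomial.map (algebraMap A B) (F i))) :
    ∃ 𝒢 : Finset (MvPolynomial (Fin n) B), ∀ (C : Type u) [CommRing C] [Algebra A C]
      [Algebra C B] [IsScalarTower A C B], Function.Injective (algebraMap C B) →
      (∀ p ∈ 𝒢, p ∈ Set.range (MvPolynomial.map (algebraMap C B))) →
      Synt.IsRelGCI C n c (fun i => MvPolynomial.map (algebraMap A C) (F i)) := by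
  classical
  by_cases h1 : (1 : MvPolynomial (Fin n) B) ∈
      Ideal.span (Set.range (fun i => MvPolynomial.map (algebraMap A B) (F i)))
  · obtain ⟨t, ht⟩ := (Ideal.mem_span_range_iff_exists_fun).mp h1
    refine ⟨Finset.univ.image t, ?_⟩
    intro C _ _ _ _ hinj hG
    have hlift : ∀ i, ∃ t' : MvPolynomial (Fin n) C,
        MvPolynomial.map (algebraMap C B) t' = t i := fun i =>
      hG (t i) (Finset.mem_image_of_mem _ (Finset.mem_univ i))
    choose t' ht' using hlift
    have hmm : ∀ x : MvPolynomial (Fin n) A, MvPolynomial.map (algebraMap C B)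
        (MvPolynomial.map (algebraMap A C) x) = MvPolynomial.map (algebraMap A B) x := fun x => by
      rw [MvPolynomial.map_map, ← IsScalarTower.algebraMap_eq]
    have h2 : ∑ i, t' i * MvPolynomial.map (algebraMap A C) (F i) = 1 := by
      apply MvPolynomial.map_injective _ hinj
      rw [map_sum, map_one, ← ht]
      apply Finset.sum_congr rfl
      intro i _
      rw [map_mul, ht', hmm]
    have htop : Ideal.span (Set.range (fun i => MvPolynomial.map (algebraMap A C) (F i))) = ⊤ := by
      rw [Ideal.eq_top_iff_one, ← h2]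
      exact Ideal.sum_mem _ (fun i _ => Ideal.mul_mem_left _ _ (Ideal.subset_span ⟨i, rfl⟩))
    haveI : Subsingleton (Synt.RelGCIRing C n c
        (fun i => MvPolynomial.map (algebraMap A C) (F i))) :=
      Ideal.Quotient.subsingleton_iff.mpr htop
    intro p hnt
    exfalso
    haveI := hnt
    have h3 : (1 : p.asIdeal.Fiber (Synt.RelGCIRing C n c
        (fun i => MvPolynomial.map (algebraMap A C) (F i)))) = 0 := by
      rw [Algebra.TensorProduct.one_def, Subsingleton.elim (1 : Synt.RelGCIRing C n c
        (fun i => MvPolynomial.map (algebraMap A C) (F i))) 0, TensorProduct.tmul_zero]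
    haveI : Subsingleton (p.asIdeal.Fiber (Synt.RelGCIRing C n c
        (fun i => MvPolynomial.map (algebraMap A C) (F i)))) :=
      subsingleton_of_zero_eq_one h3.symm
    exact false_of_nontrivial_of_subsingleton (p.asIdeal.Fiber (Synt.RelGCIRing C n c
        (fun i => MvPolynomial.map (algebraMap A C) (F i))))
  · have hne : Ideal.span (Set.range (fun i => MvPolynomial.map (algebraMap A B) (F i))) ≠ ⊤ :=
      fun htop => h1 (htop ▸ Submodule.mem_top)
    haveI hntB : Nontrivial (Synt.RelGCIRing B n c
        (fun i => MvPolynomial.map (algebraMap A B) (F i))) :=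
      Ideal.Quotient.nontrivial_iff.mpr hne
    obtain ⟨q₀⟩ := (PrimeSpectrum.nonempty_iff_nontrivial).mpr hntB
    have hcn : c ≤ n := (fibreDimAt_le_of_isRelGCI B n c _ h q₀).1
    have hΩ : IsOpen {q : PrimeSpectrum (Synt.RelGCIRing A n c F) | FlatMor.fibreDimAt
        (Spec.map (CommRingCat.ofHom (algebraMap A (Synt.RelGCIRing A n c F)))) q ≤
          ((n - c : ℕ) : WithBot ℕ∞)} :=
      isOpen_setOf_fibreDimAt_le A (Synt.RelGCIRing A n c F) (n - c)
    set Ω : Set (PrimeSpectrum (Synt.RelGCIRing A n c F)) :=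
      {q : PrimeSpectrum (Synt.RelGCIRing A n c F) | FlatMor.fibreDimAt
        (Spec.map (CommRingCat.ofHom (algebraMap A (Synt.RelGCIRing A n c F)))) q ≤
          ((n - c : ℕ) : WithBot ℕ∞)} with hΩdef
    set J : Ideal (Synt.RelGCIRing A n c F) := PrimeSpectrum.vanishingIdeal Ωᶜ with hJ
    have hZ : PrimeSpectrum.zeroLocus (J : Set (Synt.RelGCIRing A n c F)) = Ωᶜ := by
      rw [hJ, PrimeSpectrum.zeroLocus_vanishingIdeal_eq_closure, (hΩ.isClosed_compl).closure_eq]
    have hJtop : J.map (phi A B n c F) = ⊤ := by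
      by_contra hne'
      obtain ⟨M, hM, hle⟩ := Ideal.exists_le_maximal _ hne'
      have hq1 : (Spec.map (CommRingCat.ofHom (phi A B n c F)))
          (⟨M, hM.isPrime⟩ : PrimeSpectrum (Synt.RelGCIRing B n c
            (fun i => MvPolynomial.map (algebraMap A B) (F i)))) ∈ Ω := by
        show FlatMor.fibreDimAt _ _ ≤ _
        rw [← fibreDimAt_phi]
        exact (fibreDimAt_le_of_isRelGCI B n c _ h _).2
      have hq2 : (Spec.map (CommRingCat.ofHom (phi A B n c F)))
          (⟨M, hM.isPrime⟩ : PrimeSpectrum (Synt.RelGCIRing B n c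
            (fun i => MvPolynomial.map (algebraMap A B) (F i)))) ∈
          PrimeSpectrum.zeroLocus (J : Set (Synt.RelGCIRing A n c F)) := by
        intro x hx
        show phi A B n c F x ∈ M
        exact hle (Ideal.mem_map_of_mem _ hx)
      rw [hZ] at hq2
      exact hq2 hq1
    have h1J : (1 : Synt.RelGCIRing B n c (fun i => MvPolynomial.map (algebraMap A B) (F i))) ∈
        Submodule.span (Synt.RelGCIRing B n c (fun i => MvPolynomial.map (algebraMap A B) (F i)))
          ((phi A B n c F) '' (J : Set (Synt.RelGCIRing A n c F))) := by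
      have : (1 : Synt.RelGCIRing B n c (fun i => MvPolynomial.map (algebraMap A B) (F i))) ∈
          J.map (phi A B n c F) := hJtop ▸ Submodule.mem_top
      exact this
    obtain ⟨m, s, g, hsg⟩ := Submodule.mem_span_set'.mp h1J
    have hb : ∀ j, ∃ b : MvPolynomial (Fin n) A,
        Ideal.Quotient.mk (Ideal.span (Set.range F)) b ∈ J ∧
        phi A B n c F (Ideal.Quotient.mk _ b) = (g j : Synt.RelGCIRing B n c
          (fun i => MvPolynomial.map (algebraMap A B) (F i))) := fun j => by
      obtain ⟨y, hyJ, hy⟩ := (g j).2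
      obtain ⟨b, rfl⟩ := Ideal.Quotient.mk_surjective y
      exact ⟨b, hyJ, hy⟩
    choose b hbJ hb using hb
    have hs : ∀ j, ∃ s' : MvPolynomial (Fin n) B, Ideal.Quotient.mk
        (Ideal.span (Set.range (fun i => MvPolynomial.map (algebraMap A B) (F i)))) s' = s j :=
      fun j => Ideal.Quotient.mk_surjective (s j)
    choose s' hs' using hs
    have hmem : 1 - ∑ j, s' j * MvPolynomial.map (algebraMap A B) (b j) ∈
        Ideal.span (Set.range (fun i => MvPolynomial.map (algebraMap A B) (F i))) := by
      rw [← Ideal.Quotient.eq_zero_iff_mem, map_sub, map_one, map_sum, sub_eq_zero, ← hsg]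
      apply Finset.sum_congr rfl
      intro j _
      rw [map_mul, hs', smul_eq_mul, ← hb j, phi_mk]
    obtain ⟨t, ht⟩ := (Ideal.mem_span_range_iff_exists_fun).mp hmem
    refine ⟨Finset.univ.image s' ∪ Finset.univ.image t, ?_⟩
    intro C _ _ _ _ hinj hG
    have hls : ∀ j, ∃ y : MvPolynomial (Fin n) C,
        MvPolynomial.map (algebraMap C B) y = s' j := fun j =>
      hG _ (Finset.mem_union_left _ (Finset.mem_image_of_mem _ (Finset.mem_univ j)))
    have hlt : ∀ i, ∃ y : MvPolynomial (Fin n) C,
        MvPolynomial.map (algebraMap C B) y = t i := fun i =>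
      hG _ (Finset.mem_union_right _ (Finset.mem_image_of_mem _ (Finset.mem_univ i)))
    choose s'' hs'' using hls
    choose t'' ht'' using hlt
    have hmm : ∀ x : MvPolynomial (Fin n) A, MvPolynomial.map (algebraMap C B)
        (MvPolynomial.map (algebraMap A C) x) = MvPolynomial.map (algebraMap A B) x := fun x => by
      rw [MvPolynomial.map_map, ← IsScalarTower.algebraMap_eq]
    have heq : (1 : MvPolynomial (Fin n) C) -
        ∑ j, s'' j * MvPolynomial.map (algebraMap A C) (b j) =
        ∑ i, t'' i * MvPolynomial.map (algebraMap A C) (F i) := by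
      apply MvPolynomial.map_injective _ hinj
      rw [map_sub, map_one, map_sum, map_sum]
      have e1 : ∀ j, MvPolynomial.map (algebraMap C B)
          (s'' j * MvPolynomial.map (algebraMap A C) (b j)) =
          s' j * MvPolynomial.map (algebraMap A B) (b j) := fun j => by
        rw [map_mul, hs'', hmm]
      have e2 : ∀ i, MvPolynomial.map (algebraMap C B)
          (t'' i * MvPolynomial.map (algebraMap A C) (F i)) =
          t i * MvPolynomial.map (algebraMap A B) (F i) := fun i => by
        rw [map_mul, ht'', hmm]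
      rw [Finset.sum_congr rfl (fun j _ => e1 j), Finset.sum_congr rfl (fun i _ => e2 i), ht]
    have hJC : J.map (phi A C n c F) = ⊤ := by
      rw [Ideal.eq_top_iff_one]
      have h4 : Ideal.Quotient.mk
          (Ideal.span (Set.range (fun i => MvPolynomial.map (algebraMap A C) (F i))))
          (1 - ∑ j, s'' j * MvPolynomial.map (algebraMap A C) (b j)) = 0 := by
        rw [Ideal.Quotient.eq_zero_iff_mem, heq]
        exact Ideal.sum_mem _ (fun i _ => Ideal.mul_mem_left _ _ (Ideal.subset_span ⟨i, rfl⟩))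
      rw [map_sub, map_one, map_sum, sub_eq_zero] at h4
      rw [h4]
      refine Ideal.sum_mem _ (fun j _ => ?_)
      rw [map_mul, ← phi_mk]
      exact Ideal.mul_mem_left _ _ (Ideal.mem_map_of_mem _ (hbJ j))
    apply isRelGCI_of_fibreDimAt_le C n c _ hcn
    intro q
    rw [fibreDimAt_phi A C n c F q]
    by_contra hnot
    have hq2 : (Spec.map (CommRingCat.ofHom (phi A C n c F))) q ∈
        PrimeSpectrum.zeroLocus (J : Set (Synt.RelGCIRing A n c F)) := by
      rw [hZ]
      exact hnot
    have hle : J.map (phi A C n c F) ≤ q.asIdeal :=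
      Ideal.map_le_iff_le_comap.mpr (fun x hx => hq2 hx)
    exact q.isPrime.ne_top (top_le_iff.mp (hJC ▸ hle))

end bc

section main

theorem main9148 (R : Type u) [CommRing R] (n c : ℕ)
    (F : Fin c → MvPolynomial (Fin n) R) (h : Synt.IsRelGCI R n c F) :
    ∃ (R₀ : Subalgebra ℤ R) (F₀ : Fin c → MvPolynomial (Fin n) R₀), Algebra.FiniteType ℤ R₀ ∧
      (∀ i, MvPolynomial.map (algebraMap R₀ R) (F₀ i) = F i) ∧ Synt.IsRelGCI R₀ n c F₀ := by
  classical
  have hF₁ : ∀ i, ∃ y : MvPolynomial (Fin n)
      (Algebra.adjoin ℤ ((Finset.univ.biUnion (fun i => (F i).coeffs) : Finset R) : Set R)),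
      MvPolynomial.map (algebraMap _ R) y = F i := fun i => by
    apply MvPolynomial.mem_range_map_iff_coeffs_subset.mpr
    intro x hx
    have hx1 : x ∈ Algebra.adjoin ℤ
        ((Finset.univ.biUnion (fun i => (F i).coeffs) : Finset R) : Set R) :=
      Algebra.subset_adjoin (Finset.mem_coe.mpr
        (Finset.mem_biUnion.mpr ⟨i, Finset.mem_univ i, hx⟩))
    exact ⟨⟨x, hx1⟩, rfl⟩
  choose F₁ hF₁ using hF₁
  have hF : (fun i => MvPolynomial.map (algebraMap _ R) (F₁ i)) = F := funext hF₁
  obtain ⟨𝒢, h𝒢⟩ := exists_finset_relGCI_descent _ R n c F₁ (by rw [hF]; exact h)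
  have hle : Algebra.adjoin ℤ ((Finset.univ.biUnion (fun i => (F i).coeffs) : Finset R) : Set R) ≤
      Algebra.adjoin ℤ (((Finset.univ.biUnion (fun i => (F i).coeffs)) ∪
        𝒢.biUnion (fun p => p.coeffs) : Finset R) : Set R) :=
    Algebra.adjoin_mono (fun x hx => Finset.mem_coe.mpr (Finset.mem_union_left _ hx))
  letI : Algebra (Algebra.adjoin ℤ
      ((Finset.univ.biUnion (fun i => (F i).coeffs) : Finset R) : Set R))
      (Algebra.adjoin ℤ (((Finset.univ.biUnion (fun i => (F i).coeffs)) ∪
        𝒢.biUnion (fun p => p.coeffs) : Finset R) : Set R)) :=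
    (Subalgebra.inclusion hle).toRingHom.toAlgebra
  haveI : IsScalarTower (Algebra.adjoin ℤ
      ((Finset.univ.biUnion (fun i => (F i).coeffs) : Finset R) : Set R))
      (Algebra.adjoin ℤ (((Finset.univ.biUnion (fun i => (F i).coeffs)) ∪
        𝒢.biUnion (fun p => p.coeffs) : Finset R) : Set R)) R :=
    IsScalarTower.of_algebraMap_eq (fun x => rfl)
  refine ⟨Algebra.adjoin ℤ (((Finset.univ.biUnion (fun i => (F i).coeffs)) ∪
        𝒢.biUnion (fun p => p.coeffs) : Finset R) : Set R),
    fun i => MvPolynomial.map (algebraMap _ _) (F₁ i), ?_, ?_, ?_⟩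
  · exact (Subalgebra.fg_iff_finiteType _).mp (Subalgebra.fg_adjoin_finset _)
  · intro i
    rw [MvPolynomial.map_map, ← IsScalarTower.algebraMap_eq, hF₁]
  · apply h𝒢 _ Subtype.val_injective
    intro p hp
    apply MvPolynomial.mem_range_map_iff_coeffs_subset.mpr
    intro x hx
    have hx1 : x ∈ Algebra.adjoin ℤ (((Finset.univ.biUnion (fun i => (F i).coeffs)) ∪
        𝒢.biUnion (fun p => p.coeffs) : Finset R) : Set R) :=
      Algebra.subset_adjoin (Finset.mem_coe.mpr (Finset.mem_union_right _
        (Finset.mem_biUnion.mpr ⟨p, hp, hx⟩)))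
    exact ⟨⟨x, hx1⟩, rfl⟩

end main

end Groth.Agent.Lib.RelGCI
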