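import Mathlib

/-!
# Abstract weak directed systems of commutative rings (helper5).

A `WSys T Tc` is a family of rings `T i` with maps `u i : T i → Tc` and a class `Tr i j` of
"transition maps" `T i → T j` compatible with the `u`'s, closed under composition, directed, such
that the `u i` are jointly surjective and every element dying in `Tc` dies under some transition
map.  Finite data in `Tc` lifts to a stage, and finitely many relations holding in `Tc` hold at a
later stage.  Polynomial rings over a weak system form a weak system.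

* `WSys`, `WSys.exists_lift_fin`, `WSys.exists_kill_finset`, `WSys.exists_eq_fin`;
* `WSys.poly`;
* `WSys.span_le_descent`, `WSys.span_descent`.
APPEND-ONLY once landed.
-/

set_option autoImplicit false
set_option linter.style.haveILetI false
universe u v

namespace Groth.Agent.Lib.WSysH5

/-- an abstract weak directed system of commutative rings. -/
structure WSys {ι : Type v} (T : ι → Type u) [∀ i, CommRing (T i)] (Tc : Type u) [CommRing Tc] where
  u : ∀ i, T i →+* Tc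
  Tr : ∀ i j, Set (T i →+* T j)
  tr_u : ∀ {i j} {φ : T i →+* T j}, φ ∈ Tr i j → (u j).comp φ = u i
  tr_id : ∀ i, RingHom.id (T i) ∈ Tr i i
  tr_comp : ∀ {i j k} {φ : T i →+* T j} {ψ : T j →+* T k}, φ ∈ Tr i j → ψ ∈ Tr j k →
    ψ.comp φ ∈ Tr i k
  dir : ∀ i j, ∃ k, (Tr i k).Nonempty ∧ (Tr j k).Nonempty
  surj : ∀ t : Tc, ∃ i, ∃ x : T i, u i x = t
  ker : ∀ i (x : T i), u i x = 0 → ∃ j, ∃ φ ∈ Tr i j, φ x = 0

namespace WSys

variable {ι : Type v} {T : ι → Type u} [∀ i, CommRing (T i)] {Tc : Type u} [CommRing Tc]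
  (W : WSys T Tc)

lemma u_tr {i j : ι} {φ : T i →+* T j} (hφ : φ ∈ W.Tr i j) (x : T i) : W.u j (φ x) = W.u i x := by
  rw [← RingHom.comp_apply, W.tr_u hφ]

/-- finite families lift to a stage beyond a given one. -/
theorem exists_lift_fin (i₀ : ι) : ∀ (m : ℕ) (t : Fin m → Tc),
    ∃ i, ∃ φ₀ ∈ W.Tr i₀ i, ∃ x : Fin m → T i, ∀ k, W.u i (x k) = t k := by
  intro m
  induction m with
  | zero =>
    intro t
    exact ⟨i₀, RingHom.id _, W.tr_id i₀, fun k => k.elim0, fun k => k.elim0⟩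
  | succ m ih =>
    intro t
    obtain ⟨i, φ₀, hφ₀, x, hx⟩ := ih (fun k => t k.castSucc)
    obtain ⟨j, y, hy⟩ := W.surj (t (Fin.last m))
    obtain ⟨l, ⟨φ₁, hφ₁⟩, ⟨φ₂, hφ₂⟩⟩ := W.dir i j
    refine ⟨l, φ₁.comp φ₀, W.tr_comp hφ₀ hφ₁, Fin.snoc (fun k => φ₁ (x k)) (φ₂ y), ?_⟩
    intro k
    refine Fin.lastCases ?_ (fun k' => ?_) k
    · rw [Fin.snoc_last, W.u_tr hφ₂, hy]
    · rw [Fin.snoc_castSucc, W.u_tr hφ₁, hx]

/-- finitely many elements dying in `Tc` die at a later stage. -/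
theorem exists_kill_finset {i : ι} (S : Finset (T i)) (hS : ∀ x ∈ S, W.u i x = 0) :
    ∃ j, ∃ φ ∈ W.Tr i j, ∀ x ∈ S, φ x = 0 := by
  classical
  induction S using Finset.induction_on with
  | empty => exact ⟨i, RingHom.id _, W.tr_id i, fun x hx => absurd hx (Finset.notMem_empty x)⟩
  | insert x S hx ih =>
    obtain ⟨j, φ, hφ, hk⟩ := ih (fun z hz => hS z (Finset.mem_insert_of_mem hz))
    have h1 : W.u j (φ x) = 0 := by
      rw [W.u_tr hφ]; exact hS x (Finset.mem_insert_self x S)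
    obtain ⟨l, ψ, hψ, hl⟩ := W.ker j (φ x) h1
    refine ⟨l, ψ.comp φ, W.tr_comp hφ hψ, ?_⟩
    intro z hz
    rcases Finset.mem_insert.mp hz with rfl | hz
    · exact hl
    · rw [RingHom.comp_apply, hk z hz, map_zero]

theorem exists_kill_fin {i : ι} {m : ℕ} (x : Fin m → T i) (hx : ∀ k, W.u i (x k) = 0) :
    ∃ j, ∃ φ ∈ W.Tr i j, ∀ k, φ (x k) = 0 := by
  classical
  obtain ⟨j, φ, hφ, h⟩ := W.exists_kill_finset (Finset.univ.image x) (by
    intro z hz
    obtain ⟨k, -, rfl⟩ := Finset.mem_image.mp hz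
    exact hx k)
  exact ⟨j, φ, hφ, fun k => h _ (Finset.mem_image_of_mem _ (Finset.mem_univ k))⟩

theorem exists_eq {i : ι} (x y : T i) (h : W.u i x = W.u i y) :
    ∃ j, ∃ φ ∈ W.Tr i j, φ x = φ y := by
  obtain ⟨j, φ, hφ, hk⟩ := W.ker i (x - y) (by rw [map_sub, h, sub_self])
  exact ⟨j, φ, hφ, by rw [map_sub, sub_eq_zero] at hk; exact hk⟩

/-- the weak system of polynomial rings. -/
noncomputable def poly (σ : Type*) :
    WSys (fun i => MvPolynomial σ (T i)) (MvPolynomial σ Tc) where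
  u i := MvPolynomial.map (W.u i)
  Tr i j := {Φ | ∃ φ ∈ W.Tr i j, Φ = MvPolynomial.map φ}
  tr_u := by
    rintro i j _ ⟨φ, hφ, rfl⟩
    refine RingHom.ext fun p => ?_
    rw [RingHom.comp_apply, MvPolynomial.map_map, W.tr_u hφ]
  tr_id i := ⟨RingHom.id _, W.tr_id i, by
    refine RingHom.ext fun p => ?_
    rw [MvPolynomial.map_id]
    rfl⟩
  tr_comp := by
    rintro i j k _ _ ⟨φ, hφ, rfl⟩ ⟨ψ, hψ, rfl⟩
    refine ⟨ψ.comp φ, W.tr_comp hφ hψ, ?_⟩
    refine RingHom.ext fun p => ?_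
    rw [RingHom.comp_apply, MvPolynomial.map_map]
  dir i j := by
    obtain ⟨k, ⟨φ, hφ⟩, ⟨ψ, hψ⟩⟩ := W.dir i j
    exact ⟨k, ⟨_, φ, hφ, rfl⟩, ⟨_, ψ, hψ, rfl⟩⟩
  surj p := by
    classical
    obtain ⟨i₀⟩ : Nonempty ι := by
      obtain ⟨i, -, -⟩ := W.surj 0
      exact ⟨i⟩
    let e : Fin p.support.card ≃ p.support := (Finset.equivFin p.support).symm
    obtain ⟨i, -, -, x, hx⟩ := W.exists_lift_fin i₀ p.support.card
      (fun k => MvPolynomial.coeff (e k : σ →₀ ℕ) p)
    refine ⟨i, ∑ k, MvPolynomial.monomial (e k : σ →₀ ℕ) (x k), ?_⟩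
    rw [map_sum]
    simp only [MvPolynomial.map_monomial, hx]
    conv_rhs => rw [← MvPolynomial.support_sum_monomial_coeff p]
    rw [← Finset.sum_coe_sort p.support]
    exact Fintype.sum_equiv e _ _ (fun k => rfl)
  ker i q hq := by
    classical
    obtain ⟨j, φ, hφ, hk⟩ := W.exists_kill_finset (q.support.image (fun m => MvPolynomial.coeff m q))
      (by
        intro z hz
        obtain ⟨m, -, rfl⟩ := Finset.mem_image.mp hz
        have := congrArg (MvPolynomial.coeff m) hq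
        rw [MvPolynomial.coeff_map, MvPolynomial.coeff_zero] at this
        exact this)
    refine ⟨j, MvPolynomial.map φ, ⟨φ, hφ, rfl⟩, ?_⟩
    ext m
    rw [MvPolynomial.coeff_map, MvPolynomial.coeff_zero]
    by_cases hm : m ∈ q.support
    · exact hk _ (Finset.mem_image_of_mem _ hm)
    · rw [MvPolynomial.notMem_support_iff.mp hm, map_zero]

lemma poly_u (σ : Type*) (i : ι) : (W.poly σ).u i = MvPolynomial.map (W.u i) := rfl

lemma mem_poly_Tr (σ : Type*) {i j : ι} {φ : T i →+* T j} (hφ : φ ∈ W.Tr i j) :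
    MvPolynomial.map φ ∈ (W.poly σ).Tr i j := ⟨φ, hφ, rfl⟩

/-- an inclusion of finitely generated ideals holding in `Tc` holds at a later stage. -/
theorem span_le_descent {i : ι} {a b : ℕ} (X : Fin a → T i) (Y : Fin b → T i)
    (h : Ideal.span (Set.range fun k => W.u i (X k)) ≤
      Ideal.span (Set.range fun l => W.u i (Y l))) :
    ∃ j, ∃ φ ∈ W.Tr i j, Ideal.span (Set.range fun k => φ (X k)) ≤
      Ideal.span (Set.range fun l => φ (Y l)) := by
  classical
  have h1 : ∀ k, ∃ e : Fin b → Tc, ∑ l, e l * W.u i (Y l) = W.u i (X k) := fun k =>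
    (Ideal.mem_span_range_iff_exists_fun).mp (h (Ideal.subset_span ⟨k, rfl⟩))
  choose e he using h1
  -- lift the coefficients
  let eq : Fin (a * b) ≃ Fin a × Fin b := finProdFinEquiv.symm
  obtain ⟨i₁, φ₁, hφ₁, E, hE⟩ := W.exists_lift_fin i (a * b) (fun p => e (eq p).1 (eq p).2)
  have hE' : ∀ k l, W.u i₁ (E (eq.symm (k, l))) = e k l := fun k l => by
    rw [hE, Equiv.apply_symm_apply]
  obtain ⟨j, φ₂, hφ₂, hkill⟩ := W.exists_kill_fin
    (fun k : Fin a => ∑ l, E (eq.symm (k, l)) * φ₁ (Y l) - φ₁ (X k)) (by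
      intro k
      rw [map_sub, map_sum, W.u_tr hφ₁, sub_eq_zero, ← he k]
      apply Finset.sum_congr rfl
      intro l _
      rw [map_mul, hE', W.u_tr hφ₁])
  refine ⟨j, φ₂.comp φ₁, W.tr_comp hφ₁ hφ₂, ?_⟩
  rw [Ideal.span_le]
  rintro _ ⟨k, rfl⟩
  have h2 := hkill k
  rw [map_sub, sub_eq_zero, map_sum] at h2
  show (φ₂.comp φ₁) (X k) ∈ _
  rw [RingHom.comp_apply, ← h2]
  refine Ideal.sum_mem _ fun l _ => ?_
  rw [map_mul]
  exact Ideal.mul_mem_left _ _ (Ideal.subset_span ⟨l, rfl⟩)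

/-- an inclusion of ideals at a stage persists. -/
lemma span_le_map {A A' : Type*} [CommRing A] [CommRing A'] (ψ : A →+* A') {a b : ℕ}
    (X : Fin a → A) (Y : Fin b → A)
    (h : Ideal.span (Set.range X) ≤ Ideal.span (Set.range Y)) :
    Ideal.span (Set.range fun k => ψ (X k)) ≤ Ideal.span (Set.range fun l => ψ (Y l)) := by
  have h1 := Ideal.map_mono (f := ψ) h
  rw [Ideal.map_span, Ideal.map_span, ← Set.range_comp, ← Set.range_comp] at h1
  exact h1

/-- an equality of finitely generated ideals holding in `Tc` holds at a later stage. -/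
theorem span_descent {i : ι} {a b : ℕ} (X : Fin a → T i) (Y : Fin b → T i)
    (h : Ideal.span (Set.range fun k => W.u i (X k)) =
      Ideal.span (Set.range fun l => W.u i (Y l))) :
    ∃ j, ∃ φ ∈ W.Tr i j, Ideal.span (Set.range fun k => φ (X k)) =
      Ideal.span (Set.range fun l => φ (Y l)) := by
  obtain ⟨j₁, φ₁, hφ₁, h1⟩ := W.span_le_descent X Y h.le
  have h' : Ideal.span (Set.range fun l => W.u j₁ (φ₁ (Y l))) ≤
      Ideal.span (Set.range fun k => W.u j₁ (φ₁ (X k))) := by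
    simp only [W.u_tr hφ₁]
    exact h.ge
  obtain ⟨j₂, φ₂, hφ₂, h2⟩ := W.span_le_descent (fun l => φ₁ (Y l)) (fun k => φ₁ (X k)) h'
  refine ⟨j₂, φ₂.comp φ₁, W.tr_comp hφ₁ hφ₂, le_antisymm ?_ h2⟩
  exact span_le_map φ₂ (fun k => φ₁ (X k)) (fun l => φ₁ (Y l)) h1

end WSys

end Groth.Agent.Lib.WSysH5
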