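import Mathlib
import Groth.Prelude.Def_RegImm
import Groth.Prelude.Def_Flat
import Groth.Agent.Lib.RelGCIDesc3_helper2
import Groth.Agent.Lib.WSys1_helper5

/-!
# Equational certificates for relative global complete intersections (helper5).

Following helper2's `exists_finset_relGCI_descent`: for a presentation `F` over `A` and a ring map
`ψ : A → B`, the base change `ψ(F)` is a relative global complete intersection over `B` iff there
is an equational certificate `Cert ψ n c F` (either `1 ∈ (ψ F)`, or `c ≤ n` and `1` is a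
combination of `ψ(F)` and images of elements of the ideal of the bad locus of `A[x]/(F)`).
Certificates persist under further base change and descend along weak directed systems.

* `goodSet`, `badIdeal`, `Cert`;
* `cert_of_isRelGCI`, `isRelGCI_of_cert`, `cert_comp`, `cert_descent`.
APPEND-ONLY once landed.
-/

set_option autoImplicit false
set_option linter.style.haveILetI false
universe u v

namespace Groth.Agent.Lib.WSysH5

open AlgebraicGeometry CategoryTheory TensorProduct MvPolynomial
open Groth.Agent.Lib.RelGCI Groth.Agent.Lib.SyntTA Groth.Agent.Lib.SyntDim Groth.Agent.LocDimH8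

section defs

variable (A : Type u) [CommRing A] (n c : ℕ) (F : Fin c → MvPolynomial (Fin n) A)

/-- the locus where the fibre dimension is at most `n - c`. -/
def goodSet : Set (PrimeSpectrum (Synt.RelGCIRing A n c F)) :=
  {q | FlatMor.fibreDimAt
    (Spec.map (CommRingCat.ofHom (algebraMap A (Synt.RelGCIRing A n c F)))) q ≤
      ((n - c : ℕ) : WithBot ℕ∞)}

/-- the ideal of the bad locus. -/
noncomputable def badIdeal : Ideal (Synt.RelGCIRing A n c F) :=
  PrimeSpectrum.vanishingIdeal (goodSet A n c F)ᶜ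

lemma isOpen_goodSet : IsOpen (goodSet A n c F) :=
  isOpen_setOf_fibreDimAt_le A (Synt.RelGCIRing A n c F) (n - c)

lemma zeroLocus_badIdeal :
    PrimeSpectrum.zeroLocus (badIdeal A n c F : Set (Synt.RelGCIRing A n c F)) =
      (goodSet A n c F)ᶜ := by
  unfold badIdeal
  rw [PrimeSpectrum.zeroLocus_vanishingIdeal_eq_closure,
    ((isOpen_goodSet A n c F).isClosed_compl).closure_eq]

variable {A n c}

/-- an equational certificate. -/
def Cert {B : Type u} [CommRing B] (ψ : A →+* B) (F : Fin c → MvPolynomial (Fin n) A) : Prop :=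
  (∃ tt : Fin c → MvPolynomial (Fin n) B, 1 = ∑ i, tt i * MvPolynomial.map ψ (F i)) ∨
  (c ≤ n ∧ ∃ (m : ℕ) (bb : Fin m → MvPolynomial (Fin n) A),
    (∀ j, Ideal.Quotient.mk (Ideal.span (Set.range F)) (bb j) ∈ badIdeal A n c F) ∧
    ∃ (ss : Fin m → MvPolynomial (Fin n) B) (tt : Fin c → MvPolynomial (Fin n) B),
      1 = ∑ j, ss j * MvPolynomial.map ψ (bb j) + ∑ i, tt i * MvPolynomial.map ψ (F i))

theorem cert_comp {B B' : Type u} [CommRing B] [CommRing B'] (ψ : A →+* B) (χ : B →+* B')
    (h : Cert ψ F) : Cert (χ.comp ψ) F := by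
  rcases h with ⟨tt, ht⟩ | ⟨hcn, m, bb, hbb, ss, tt, hst⟩
  · left
    refine ⟨fun i => MvPolynomial.map χ (tt i), ?_⟩
    have := congrArg (MvPolynomial.map χ) ht
    rw [map_one, map_sum] at this
    rw [this]
    apply Finset.sum_congr rfl
    intro i _
    rw [map_mul, MvPolynomial.map_map]
  · right
    refine ⟨hcn, m, bb, hbb, fun j => MvPolynomial.map χ (ss j),
      fun i => MvPolynomial.map χ (tt i), ?_⟩
    have := congrArg (MvPolynomial.map χ) hst
    rw [map_one, map_add, map_sum, map_sum] at this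
    rw [this]
    congr 1
    · apply Finset.sum_congr rfl
      intro j _
      rw [map_mul, MvPolynomial.map_map]
    · apply Finset.sum_congr rfl
      intro i _
      rw [map_mul, MvPolynomial.map_map]

end defs

section bridge

variable (A B : Type u) [CommRing A] [CommRing B] [Algebra A B] (n c : ℕ)
  (F : Fin c → MvPolynomial (Fin n) A)

theorem isRelGCI_of_span_eq_top
    (htop : Ideal.span (Set.range (fun i => MvPolynomial.map (algebraMap A B) (F i))) = ⊤) :
    Synt.IsRelGCI B n c (fun i => MvPolynomial.map (algebraMap A B) (F i)) := by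
  haveI : Subsingleton (Synt.RelGCIRing B n c
      (fun i => MvPolynomial.map (algebraMap A B) (F i))) :=
    Ideal.Quotient.subsingleton_iff.mpr htop
  intro p hnt
  exfalso
  haveI := hnt
  have h3 : (1 : p.asIdeal.Fiber (Synt.RelGCIRing B n c
      (fun i => MvPolynomial.map (algebraMap A B) (F i)))) = 0 := by
    rw [Algebra.TensorProduct.one_def, Subsingleton.elim (1 : Synt.RelGCIRing B n c
      (fun i => MvPolynomial.map (algebraMap A B) (F i))) 0, TensorProduct.tmul_zero]
  haveI : Subsingleton (p.asIdeal.Fiber (Synt.RelGCIRing B n c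
      (fun i => MvPolynomial.map (algebraMap A B) (F i)))) :=
    subsingleton_of_zero_eq_one h3.symm
  exact false_of_nontrivial_of_subsingleton (p.asIdeal.Fiber (Synt.RelGCIRing B n c
      (fun i => MvPolynomial.map (algebraMap A B) (F i))))

theorem isRelGCI_of_map_badIdeal (hcn : c ≤ n)
    (hJC : (badIdeal A n c F).map (phi A B n c F) = ⊤) :
    Synt.IsRelGCI B n c (fun i => MvPolynomial.map (algebraMap A B) (F i)) := by
  apply isRelGCI_of_fibreDimAt_le B n c _ hcn
  intro q
  rw [fibreDimAt_phi A B n c F q]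
  by_contra hnot
  have hq2 : (Spec.map (CommRingCat.ofHom (phi A B n c F))) q ∈
      PrimeSpectrum.zeroLocus (badIdeal A n c F : Set (Synt.RelGCIRing A n c F)) := by
    rw [zeroLocus_badIdeal]
    exact hnot
  have hle : (badIdeal A n c F).map (phi A B n c F) ≤ q.asIdeal :=
    Ideal.map_le_iff_le_comap.mpr (fun x hx => hq2 hx)
  exact q.isPrime.ne_top (top_le_iff.mp (hJC ▸ hle))

theorem map_badIdeal_eq_top
    (h : Synt.IsRelGCI B n c (fun i => MvPolynomial.map (algebraMap A B) (F i))) :
    (badIdeal A n c F).map (phi A B n c F) = ⊤ := by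
  by_contra hne'
  obtain ⟨M, hM, hle⟩ := Ideal.exists_le_maximal _ hne'
  have hq1 : (Spec.map (CommRingCat.ofHom (phi A B n c F)))
      (⟨M, hM.isPrime⟩ : PrimeSpectrum (Synt.RelGCIRing B n c
        (fun i => MvPolynomial.map (algebraMap A B) (F i)))) ∈ goodSet A n c F := by
    show FlatMor.fibreDimAt _ _ ≤ _
    rw [← fibreDimAt_phi]
    exact (fibreDimAt_le_of_isRelGCI B n c _ h _).2
  have hq2 : (Spec.map (CommRingCat.ofHom (phi A B n c F)))
      (⟨M, hM.isPrime⟩ : PrimeSpectrum (Synt.RelGCIRing B n c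
        (fun i => MvPolynomial.map (algebraMap A B) (F i)))) ∈
      PrimeSpectrum.zeroLocus (badIdeal A n c F : Set (Synt.RelGCIRing A n c F)) := by
    intro x hx
    show phi A B n c F x ∈ M
    exact hle (Ideal.mem_map_of_mem _ hx)
  rw [zeroLocus_badIdeal] at hq2
  exact hq2 hq1

theorem cert_of_isRelGCI
    (h : Synt.IsRelGCI B n c (fun i => MvPolynomial.map (algebraMap A B) (F i))) :
    Cert (algebraMap A B) F := by
  classical
  by_cases h1 : (1 : MvPolynomial (Fin n) B) ∈
      Ideal.span (Set.range (fun i => MvPolynomial.map (algebraMap A B) (F i)))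
  · obtain ⟨t, ht⟩ := (Ideal.mem_span_range_iff_exists_fun).mp h1
    exact Or.inl ⟨t, ht.symm⟩
  · right
    have hne : Ideal.span (Set.range (fun i => MvPolynomial.map (algebraMap A B) (F i))) ≠ ⊤ :=
      fun htop => h1 (htop ▸ Submodule.mem_top)
    haveI hntB : Nontrivial (Synt.RelGCIRing B n c
        (fun i => MvPolynomial.map (algebraMap A B) (F i))) :=
      Ideal.Quotient.nontrivial_iff.mpr hne
    obtain ⟨q₀⟩ := (PrimeSpectrum.nonempty_iff_nontrivial).mpr hntB
    have hcn : c ≤ n := (fibreDimAt_le_of_isRelGCI B n c _ h q₀).1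
    have hJtop := map_badIdeal_eq_top A B n c F h
    have h1J : (1 : Synt.RelGCIRing B n c (fun i => MvPolynomial.map (algebraMap A B) (F i))) ∈
        Submodule.span (Synt.RelGCIRing B n c (fun i => MvPolynomial.map (algebraMap A B) (F i)))
          ((phi A B n c F) '' (badIdeal A n c F : Set (Synt.RelGCIRing A n c F))) := by
      have : (1 : Synt.RelGCIRing B n c (fun i => MvPolynomial.map (algebraMap A B) (F i))) ∈
          (badIdeal A n c F).map (phi A B n c F) := hJtop ▸ Submodule.mem_top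
      exact this
    obtain ⟨m, s, g, hsg⟩ := Submodule.mem_span_set'.mp h1J
    have hb : ∀ j, ∃ b : MvPolynomial (Fin n) A,
        Ideal.Quotient.mk (Ideal.span (Set.range F)) b ∈ badIdeal A n c F ∧
        phi A B n c F (Ideal.Quotient.mk _ b) = (g j : Synt.RelGCIRing B n c
          (fun i => MvPolynomial.map (algebraMap A B) (F i))) := fun j => by
      obtain ⟨y, hyJ, hy⟩ := (g j).2
      obtain ⟨b, rfl⟩ := Ideal.Quotient.mk_surjective y
      exact ⟨b, hyJ, hy⟩
    choose b hbJ hb using hb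
    have hs : ∀ j, ∃ s' : MvPolynomial (Fin n) B, Ideal.Quotient.mk
        (Ideal.span (Set.range (fun i => MvPolynomial.map (algebraMap A B) (F i)))) s' = s j :=
      fun j => Ideal.Quotient.mk_surjective (s j)
    choose s' hs' using hs
    have hmem : 1 - ∑ j, s' j * MvPolynomial.map (algebraMap A B) (b j) ∈
        Ideal.span (Set.range (fun i => MvPolynomial.map (algebraMap A B) (F i))) := by
      rw [← Ideal.Quotient.eq_zero_iff_mem, map_sub, map_one, map_sum, sub_eq_zero, ← hsg]
      apply Finset.sum_congr rfl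
      intro j _
      rw [map_mul, hs', smul_eq_mul, ← hb j, phi_mk]
    obtain ⟨t, ht⟩ := (Ideal.mem_span_range_iff_exists_fun).mp hmem
    refine ⟨hcn, m, b, hbJ, s', t, ?_⟩
    rw [ht]
    ring

theorem isRelGCI_of_cert (h : Cert (algebraMap A B) F) :
    Synt.IsRelGCI B n c (fun i => MvPolynomial.map (algebraMap A B) (F i)) := by
  rcases h with ⟨tt, ht⟩ | ⟨hcn, m, bb, hbb, ss, tt, hst⟩
  · apply isRelGCI_of_span_eq_top
    rw [Ideal.eq_top_iff_one, ht]
    exact Ideal.sum_mem _ (fun i _ => Ideal.mul_mem_left _ _ (Ideal.subset_span ⟨i, rfl⟩))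
  · apply isRelGCI_of_map_badIdeal A B n c F hcn
    rw [Ideal.eq_top_iff_one]
    have h4 : (1 : Synt.RelGCIRing B n c (fun i => MvPolynomial.map (algebraMap A B) (F i))) =
        ∑ j, Ideal.Quotient.mk _ (ss j) * phi A B n c F (Ideal.Quotient.mk _ (bb j)) := by
      have h5 := congrArg (Ideal.Quotient.mk
        (Ideal.span (Set.range (fun i => MvPolynomial.map (algebraMap A B) (F i))))) hst
      rw [map_one, map_add, map_sum, map_sum] at h5
      have h6 : ∑ i, Ideal.Quotient.mk
          (Ideal.span (Set.range (fun i => MvPolynomial.map (algebraMap A B) (F i))))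
          (tt i * MvPolynomial.map (algebraMap A B) (F i)) = 0 := by
        apply Finset.sum_eq_zero
        intro i _
        rw [Ideal.Quotient.eq_zero_iff_mem]
        exact Ideal.mul_mem_left _ _ (Ideal.subset_span ⟨i, rfl⟩)
      rw [h6, add_zero] at h5
      rw [h5]
      apply Finset.sum_congr rfl
      intro j _
      rw [map_mul, phi_mk]
    rw [h4]
    exact Ideal.sum_mem _ (fun j _ => Ideal.mul_mem_left _ _ (Ideal.mem_map_of_mem _ (hbb j)))

end bridge

section descent

variable {ι : Type v} {T : ι → Type u} [∀ i, CommRing (T i)] {Tc : Type u} [CommRing Tc]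
  (W : WSys T Tc)

/-- lifting two finite families simultaneously. -/
theorem WSys.exists_lift_fin₂ (i₀ : ι) {a b : ℕ} (s : Fin a → Tc) (t : Fin b → Tc) :
    ∃ i, ∃ φ₀ ∈ W.Tr i₀ i, ∃ (x : Fin a → T i) (y : Fin b → T i),
      (∀ k, W.u i (x k) = s k) ∧ (∀ k, W.u i (y k) = t k) := by
  obtain ⟨i, φ₀, hφ₀, z, hz⟩ := W.exists_lift_fin i₀ (a + b) (Fin.append s t)
  refine ⟨i, φ₀, hφ₀, fun k => z (Fin.castAdd b k), fun k => z (Fin.natAdd a k), ?_, ?_⟩
  · intro k
    rw [hz, Fin.append_left]
  · intro k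
    rw [hz, Fin.append_right]

theorem cert_descent (i₀ : ι) {n c : ℕ} (F : Fin c → MvPolynomial (Fin n) (T i₀))
    (h : Cert (W.u i₀) F) : ∃ i, ∃ φ ∈ W.Tr i₀ i, Cert φ F := by
  have hmm : ∀ {i : ι} {φ₀ : T i₀ →+* T i} (_ : φ₀ ∈ W.Tr i₀ i) (p : MvPolynomial (Fin n) (T i₀)),
      MvPolynomial.map (W.u i) (MvPolynomial.map φ₀ p) = MvPolynomial.map (W.u i₀) p := by
    intro i φ₀ hφ₀ p
    rw [MvPolynomial.map_map, W.tr_u hφ₀]
  rcases h with ⟨tt, ht⟩ | ⟨hcn, m, bb, hbb, ss, tt, hst⟩
  · obtain ⟨i, Φ₀, ⟨φ₀, hφ₀, rfl⟩, x, hx⟩ := (W.poly (Fin n)).exists_lift_fin i₀ c tt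
    have hx' : ∀ k, MvPolynomial.map (W.u i) (x k) = tt k := hx
    obtain ⟨j, Ψ, ⟨ψ, hψ, rfl⟩, hk⟩ := (W.poly (Fin n)).ker i
      (1 - ∑ k, x k * MvPolynomial.map φ₀ (F k)) (by
        show MvPolynomial.map (W.u i) _ = 0
        rw [map_sub, map_one, map_sum, sub_eq_zero, ht]
        apply Finset.sum_congr rfl
        intro k _
        rw [map_mul, hx', hmm hφ₀])
    refine ⟨j, ψ.comp φ₀, W.tr_comp hφ₀ hψ, Or.inl ⟨fun k => MvPolynomial.map ψ (x k), ?_⟩⟩
    rw [map_sub, map_one, sub_eq_zero, map_sum] at hk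
    rw [hk]
    apply Finset.sum_congr rfl
    intro k _
    rw [map_mul, MvPolynomial.map_map]
  · obtain ⟨i, Φ₀, ⟨φ₀, hφ₀, rfl⟩, x, y, hx, hy⟩ :=
      (W.poly (Fin n)).exists_lift_fin₂ i₀ ss tt
    have hx' : ∀ k, MvPolynomial.map (W.u i) (x k) = ss k := hx
    have hy' : ∀ k, MvPolynomial.map (W.u i) (y k) = tt k := hy
    obtain ⟨j, Ψ, ⟨ψ, hψ, rfl⟩, hk⟩ := (W.poly (Fin n)).ker i
      (1 - (∑ k, x k * MvPolynomial.map φ₀ (bb k) + ∑ k, y k * MvPolynomial.map φ₀ (F k))) (by
        show MvPolynomial.map (W.u i) _ = 0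
        rw [map_sub, map_one, map_add, map_sum, map_sum, sub_eq_zero, hst]
        congr 1
        · apply Finset.sum_congr rfl
          intro k _
          rw [map_mul, hx', hmm hφ₀]
        · apply Finset.sum_congr rfl
          intro k _
          rw [map_mul, hy', hmm hφ₀])
    refine ⟨j, ψ.comp φ₀, W.tr_comp hφ₀ hψ, Or.inr ⟨hcn, m, bb, hbb,
      fun k => MvPolynomial.map ψ (x k), fun k => MvPolynomial.map ψ (y k), ?_⟩⟩
    rw [map_sub, map_one, sub_eq_zero, map_add, map_sum, map_sum] at hk
    rw [hk]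
    congr 1
    · apply Finset.sum_congr rfl
      intro k _
      rw [map_mul, MvPolynomial.map_map]
    · apply Finset.sum_congr rfl
      intro k _
      rw [map_mul, MvPolynomial.map_map]

end descent

end Groth.Agent.Lib.WSysH5
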