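import Mathlib
import Groth.Prelude.Def_RegImm
import Groth.Agent.Lib.RelGCI7_helper2

/-!
# Local structure of syntomic presented algebras with an explicit ideal (helper5).

For a presentation `S = R[x_1..x_n]/(F)` and `G ∈ R[x]`, `consFam R n c F G` is the family
`(G x₀ - 1, F)` in the variables `x₀, x_1..x_n`; `S_G = R[x₀, x]/(consFam)` (`awayConsEquiv`).
If `S` is syntomic over `R` then near every prime there is a `G` such that the ideal `(consFam)`
is generated by a relative global complete intersection (`exists_local_relGCI`).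
APPEND-ONLY once landed.
-/

set_option autoImplicit false
set_option linter.style.haveILetI false
universe u

namespace Groth.Agent.Lib.WSysH5

open Groth.Agent.Lib.KRegIdeal Groth.Agent.Lib.SyntTA Groth.Agent.Lib.LCILocal
  Groth.Agent.Lib.RelGCI Groth.Agent.Lib.SyntNoeth Groth.Agent.Lib.FibKoszul

section consFam

variable (R : Type u) [CommRing R] (n c : ℕ) (F : Fin c → MvPolynomial (Fin n) R)
  (G : MvPolynomial (Fin n) R)

/-- the family `(G x₀ - 1, F(x_1..x_n))`. -/
noncomputable def consFam : Fin (c + 1) → MvPolynomial (Fin (n + 1)) R :=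
  Fin.cons (MvPolynomial.rename Fin.succ G * MvPolynomial.X 0 - 1)
    (fun k => MvPolynomial.rename Fin.succ (F k))

lemma consFam_zero :
    consFam R n c F G 0 = MvPolynomial.rename Fin.succ G * MvPolynomial.X 0 - 1 := rfl

lemma consFam_succ (k : Fin c) :
    consFam R n c F G k.succ = MvPolynomial.rename Fin.succ (F k) := rfl

lemma map_consFam {R' : Type u} [CommRing R'] (ψ : R →+* R') (k : Fin (c + 1)) :
    MvPolynomial.map ψ (consFam R n c F G k) =
      consFam R' n c (fun i => MvPolynomial.map ψ (F i)) (MvPolynomial.map ψ G) k := by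
  refine Fin.cases ?_ (fun k' => ?_) k
  · rw [consFam_zero, consFam_zero, map_sub, map_mul, MvPolynomial.map_rename, MvPolynomial.map_X,
      map_one]
  · rw [consFam_succ, consFam_succ, MvPolynomial.map_rename]

lemma finSuccEquiv_rename_succ (p : MvPolynomial (Fin n) R) :
    MvPolynomial.finSuccEquiv R n (MvPolynomial.rename Fin.succ p) = Polynomial.C p := by
  induction p using MvPolynomial.induction_on with
  | C r =>
    rw [MvPolynomial.rename_C, MvPolynomial.finSuccEquiv_apply, MvPolynomial.eval₂Hom_C]
    rfl
  | add p q hp hq => rw [map_add, map_add, hp, hq, map_add]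
  | mul_X p i hp =>
    rw [map_mul, map_mul, hp, MvPolynomial.rename_X, MvPolynomial.finSuccEquiv_X_succ, map_mul]

/-- the inverse of `finSuccEquiv`, as a ring isomorphism. -/
noncomputable abbrev eE : Polynomial (MvPolynomial (Fin n) R) ≃+* MvPolynomial (Fin (n + 1)) R :=
  (MvPolynomial.finSuccEquiv R n).symm.toRingEquiv

lemma eE_C (p : MvPolynomial (Fin n) R) :
    eE R n (Polynomial.C p) = MvPolynomial.rename Fin.succ p := by
  show (MvPolynomial.finSuccEquiv R n).symm (Polynomial.C p) = _
  rw [AlgEquiv.symm_apply_eq, finSuccEquiv_rename_succ]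

lemma eE_X : eE R n Polynomial.X = MvPolynomial.X 0 := by
  show (MvPolynomial.finSuccEquiv R n).symm Polynomial.X = _
  rw [AlgEquiv.symm_apply_eq, MvPolynomial.finSuccEquiv_X_zero]

/-- the list underlying `consFam`. -/
lemma map_eE_cons :
    ((Polynomial.C G * Polynomial.X - 1 : Polynomial (MvPolynomial (Fin n) R)) ::
      (List.ofFn F).map Polynomial.C).map (eE R n) = List.ofFn (consFam R n c F G) := by
  rw [List.ofFn_succ, List.map_cons, List.map_map, List.map_ofFn]
  congr 1
  · rw [consFam_zero, map_sub, map_mul, eE_C, eE_X, map_one]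
  · congr 1
    funext k
    show eE R n (Polynomial.C (F k)) = consFam R n c F G k.succ
    rw [eE_C, consFam_succ]

lemma ofList_map_ringEquiv {A B : Type*} [CommRing A] [CommRing B] (e : A ≃+* B) (l : List A) :
    Ideal.ofList (l.map e) = (Ideal.ofList l).map (e : A →+* B) := by
  unfold Ideal.ofList
  rw [Ideal.map_span]
  congr 1
  ext x
  simp only [List.mem_map, Set.mem_ofPred_eq, Set.mem_image, RingHom.coe_coe]

lemma ofList_ofFn {A : Type*} [CommRing A] {m : ℕ} (f : Fin m → A) :
    Ideal.ofList (List.ofFn f) = Ideal.span (Set.range f) := by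
  unfold Ideal.ofList
  congr 1
  ext x
  simp [List.mem_ofFn]

/-- `S_G = R[x₀, x]/(G x₀ - 1, F)`. -/
theorem awayConsEquiv :
    Nonempty (Localization.Away (Ideal.Quotient.mk (Ideal.span (Set.range F)) G) ≃ₐ[R]
      Synt.RelGCIRing R (n + 1) (c + 1) (consFam R n c F G)) := by
  let π : MvPolynomial (Fin n) R →ₐ[R] Synt.RelGCIRing R n c F :=
    Ideal.Quotient.mkₐ R (Ideal.span (Set.range F))
  have hπ : Function.Surjective π := Ideal.Quotient.mkₐ_surjective R _
  have hkerπ : RingHom.ker π.toRingHom = Ideal.span (Set.range F) := Ideal.mk_ker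
  have heq : Ideal.ofList (((List.ofFn F).map Polynomial.C).map (evInv G)) =
      (RingHom.ker π.toRingHom).map
        (algebraMap (MvPolynomial (Fin n) R) (Localization.Away G)) := by
    rw [hkerπ, List.map_map, List.map_ofFn, ofList_ofFn, Ideal.map_span, ← Set.range_comp]
    congr 2
    funext k
    show evInv G (Polynomial.C (F k)) = _
    rw [evInv_C]
    rfl
  obtain ⟨φ, hφ, hker⟩ := exists_presentation_away' n π hπ G ((List.ofFn F).map Polynomial.C) heq
  have hker' : Ideal.span (Set.range (consFam R n c F G)) = RingHom.ker φ := by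
    rw [← ofList_ofFn, ← map_eE_cons]
    ext x
    rw [RingHom.mem_ker, hker, mem_ofList_map_ringEquiv]
    rfl
  exact ⟨((Ideal.quotientEquivAlgOfEq R hker').trans
    (Ideal.quotientKerAlgEquivOfSurjective hφ)).symm⟩

end consFam

section local_structure

variable (R : Type u) [CommRing R] (n c : ℕ) (F : Fin c → MvPolynomial (Fin n) R)

theorem exists_local_relGCI (hsynt : Synt.IsSyntomic R (Synt.RelGCIRing R n c F))
    (q : Ideal (MvPolynomial (Fin n) R)) [hqp : q.IsPrime] (hq : Ideal.span (Set.range F) ≤ q) :
    ∃ G : MvPolynomial (Fin n) R, G ∉ q ∧ ∃ (c' : ℕ)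
      (F' : Fin c' → MvPolynomial (Fin (n + 1)) R), Synt.IsRelGCI R (n + 1) c' F' ∧
        Ideal.span (Set.range F') = Ideal.span (Set.range (consFam R n c F G)) := by
  obtain ⟨hflat, hlci⟩ := (main9287 R _).mp hsynt
  let π : MvPolynomial (Fin n) R →ₐ[R] Synt.RelGCIRing R n c F :=
    Ideal.Quotient.mkₐ R (Ideal.span (Set.range F))
  have hπ : Function.Surjective π := Ideal.Quotient.mkₐ_surjective R _
  have hkerπ : RingHom.ker π.toRingHom = Ideal.span (Set.range F) := Ideal.mk_ker
  have hKR : KR (RingHom.ker π.toRingHom) := by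
    have hπeq : π = MvPolynomial.aeval (fun i => π (MvPolynomial.X i)) :=
      MvPolynomial.aeval_unique π
    have h1 := kr_kerOf_of_isLCI hlci (fun i => π (MvPolynomial.X i)) (by
      rw [← hπeq]; exact hπ)
    have h2 : Groth.Agent.Lib.LCIPres.kerOf (A := R) (fun i => π (MvPolynomial.X i)) =
        RingHom.ker π.toRingHom := by
      unfold Groth.Agent.Lib.LCIPres.kerOf
      rw [← hπeq]
    rw [h2] at h1
    exact h1
  have hKRI := (kr_iff _).mpr hKR
  obtain ⟨G, hG, l, hl, hspan⟩ := hKRI ⟨q, hqp⟩ (by rw [hkerπ]; exact hq)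
  obtain ⟨bs, hbs⟩ : ∃ bs : List (Polynomial (MvPolynomial (Fin n) R)),
      bs.map (evInv G) = l := by
    refine ⟨l.map (Function.surjInv (evInv_surjective G)), ?_⟩
    rw [List.map_map]
    conv_rhs => rw [← List.map_id l]
    apply List.map_congr_left
    intro a _
    exact Function.surjInv_eq (evInv_surjective G) a
  have heq : Ideal.ofList (bs.map (evInv G)) =
      (RingHom.ker π.toRingHom).map
        (algebraMap (MvPolynomial (Fin n) R) (Localization.Away G)) := by
    rw [hbs]
    exact hspan.symm
  obtain ⟨φ, hφ, hker⟩ := exists_presentation_away' n π hπ G bs heq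
  set L' : List (MvPolynomial (Fin (n + 1)) R) :=
    (((Polynomial.C G * Polynomial.X - 1 : Polynomial (MvPolynomial (Fin n) R)) :: bs).map
      (eE R n)) with hL'
  have hker' : Ideal.ofList L' = RingHom.ker φ := by
    ext x
    rw [RingHom.mem_ker, hker, hL', mem_ofList_map_ringEquiv]
    rfl
  have hKL : LCI.IsKoszulRegularSeq (Polynomial (MvPolynomial (Fin n) R))
      ((Polynomial.C G * Polynomial.X - 1 : Polynomial (MvPolynomial (Fin n) R)) :: bs) := by
    apply koszul_cons_CX
    rw [hbs]
    exact hl
  have hKL' : LCI.IsKoszulRegularSeq (MvPolynomial (Fin (n + 1)) R) L' :=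
    kreg_map_of_flat (eE R n : Polynomial (MvPolynomial (Fin n) R) →+*
      MvPolynomial (Fin (n + 1)) R)
      (RingHom.Flat.of_bijective (eE R n).bijective) _ hKL
  have hspanL : Ideal.span (Set.range L'.get) = Ideal.ofList L' := by
    rw [span_range_eq_ofList, List.ofFn_get]
  let Equot : Synt.RelGCIRing R (n + 1) L'.length L'.get ≃ₐ[R] Localization.Away (π G) :=
    ((Ideal.quotientEquivAlgOfEq R hspanL).trans (Ideal.quotientEquivAlgOfEq R hker')).trans
      (Ideal.quotientKerAlgEquivOfSurjective hφ)
  refine ⟨G, hG, L'.length, L'.get, ?_, ?_⟩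
  · apply isRelGCI_of_koszul_of_flat
    · rw [List.ofFn_get]
      exact hKL'
    · haveI : Module.Flat R (Synt.RelGCIRing R n c F) := hflat
      haveI : Module.Flat R (Localization.Away (π G)) :=
        Module.Flat.trans R (Synt.RelGCIRing R n c F) _
      exact Module.Flat.of_linearEquiv Equot.toLinearEquiv
  · -- the ideal equality
    rw [hspanL, ← ofList_ofFn, ← map_eE_cons, hL', ofList_map_ringEquiv, ofList_map_ringEquiv]
    congr 1
    -- compare in `P[X]` via `evInv`
    have hsurj := evInv_surjective G
    have hk1 : RingHom.ker (evInv G) ≤ Ideal.ofList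
        ((Polynomial.C G * Polynomial.X - 1 : Polynomial (MvPolynomial (Fin n) R)) :: bs) := by
      rw [ker_evInv, Ideal.span_le]
      rintro x (rfl : x = _)
      exact Ideal.subset_span (List.mem_cons_self)
    have hk2 : RingHom.ker (evInv G) ≤ Ideal.ofList
        ((Polynomial.C G * Polynomial.X - 1 : Polynomial (MvPolynomial (Fin n) R)) ::
          (List.ofFn F).map Polynomial.C) := by
      rw [ker_evInv, Ideal.span_le]
      rintro x (rfl : x = _)
      exact Ideal.subset_span (List.mem_cons_self)
    have hzero : evInv G (Polynomial.C G * Polynomial.X - 1) = 0 := by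
      have : (Polynomial.C G * Polynomial.X - 1 : Polynomial (MvPolynomial (Fin n) R)) ∈
          RingHom.ker (evInv G) := by
        rw [ker_evInv]; exact Ideal.subset_span rfl
      exact this
    have hcons : ∀ L : List (Polynomial (MvPolynomial (Fin n) R)),
        (Ideal.ofList ((Polynomial.C G * Polynomial.X - 1 :
          Polynomial (MvPolynomial (Fin n) R)) :: L)).map (evInv G) =
          Ideal.ofList (L.map (evInv G)) := by
      intro L
      unfold Ideal.ofList
      rw [Ideal.map_span]
      apply le_antisymm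
      · rw [Ideal.span_le]
        rintro _ ⟨x, hx, rfl⟩
        rcases List.mem_cons.mp hx with rfl | hx
        · rw [hzero]; exact zero_mem _
        · exact Ideal.subset_span (List.mem_map_of_mem hx)
      · rw [Ideal.span_le]
        intro y hy
        obtain ⟨x, hx, rfl⟩ := List.mem_map.mp hy
        exact Ideal.subset_span ⟨x, List.mem_cons_of_mem _ hx, rfl⟩
    have himg : (Ideal.ofList ((Polynomial.C G * Polynomial.X - 1 :
        Polynomial (MvPolynomial (Fin n) R)) :: bs)).map (evInv G) =
        (Ideal.ofList ((Polynomial.C G * Polynomial.X - 1 :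
          Polynomial (MvPolynomial (Fin n) R)) :: (List.ofFn F).map Polynomial.C)).map
          (evInv G) := by
      rw [hcons, hcons, heq, hkerπ, List.map_map, List.map_ofFn, ofList_ofFn, Ideal.map_span,
        ← Set.range_comp]
      congr 2
      funext k
      show _ = evInv G (Polynomial.C (F k))
      rw [evInv_C]
      rfl
    have hc1 := Ideal.comap_map_of_surjective (evInv G) hsurj (Ideal.ofList
      ((Polynomial.C G * Polynomial.X - 1 : Polynomial (MvPolynomial (Fin n) R)) :: bs))
    have hc2 := Ideal.comap_map_of_surjective (evInv G) hsurj (Ideal.ofList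
      ((Polynomial.C G * Polynomial.X - 1 : Polynomial (MvPolynomial (Fin n) R)) ::
        (List.ofFn F).map Polynomial.C))
    rw [← RingHom.ker_eq_comap_bot, sup_eq_left.mpr hk1] at hc1
    rw [← RingHom.ker_eq_comap_bot, sup_eq_left.mpr hk2] at hc2
    rw [← hc1, ← hc2, himg]

end local_structure

end Groth.Agent.Lib.WSysH5
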