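import Mathlib
import Groth.Prelude.Def_RegImm
import Groth.Agent.Lib.WSys2_helper5
import Groth.Agent.Lib.WSys3_helper5
import Groth.Agent.Lib.RelGCI6_helper2
import Groth.Agent.Lib.SyntCover_lead
import Groth.Agent.Lib.SyntLocal_helper3

/-!
# Descent of syntomicity of presented algebras along weak directed systems (helper5).

`Good A F G`: the localisation `(A[x]/(F))_G` is certified (by an equational certificate pulled
back from some ring) to be a relative global complete intersection; this is stable under arbitrary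
base change and implies syntomicity of the localisation.  `good_descent`: single-piece descent.
`isSyntomic_descent`: the main abstract theorem.
APPEND-ONLY once landed.
-/

set_option autoImplicit false
set_option linter.style.haveILetI false
universe u v

namespace Groth.Agent.Lib.WSysH5

open Groth.Agent.Lib.RelGCI

section mapF

variable {A B C : Type u} [CommRing A] [CommRing B] [CommRing C] {n c : ℕ}

/-- base change of a family of polynomials. -/
noncomputable def mapF (χ : A →+* B) (F : Fin c → MvPolynomial (Fin n) A) :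
    Fin c → MvPolynomial (Fin n) B := fun i => MvPolynomial.map χ (F i)

lemma mapF_apply (χ : A →+* B) (F : Fin c → MvPolynomial (Fin n) A) (i : Fin c) :
    mapF χ F i = MvPolynomial.map χ (F i) := rfl

lemma mapF_comp (χ : A →+* B) (ξ : B →+* C) (F : Fin c → MvPolynomial (Fin n) A) :
    mapF (ξ.comp χ) F = mapF ξ (mapF χ F) := by
  funext i
  rw [mapF_apply, mapF_apply, mapF_apply, MvPolynomial.map_map]

lemma mapF_id (F : Fin c → MvPolynomial (Fin n) A) : mapF (RingHom.id A) F = F := by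
  funext i
  rw [mapF_apply, MvPolynomial.map_id]

lemma map_consFam' (χ : A →+* B) (F : Fin c → MvPolynomial (Fin n) A)
    (G : MvPolynomial (Fin n) A) (k : Fin (c + 1)) :
    MvPolynomial.map χ (consFam A n c F G k) =
      consFam B n c (mapF χ F) (MvPolynomial.map χ G) k :=
  map_consFam A n c F G χ k

end mapF

section Good

variable (A : Type u) [CommRing A] (n c : ℕ) (F : Fin c → MvPolynomial (Fin n) A)
  (G : MvPolynomial (Fin n) A)

/-- the localisation `(A[x]/(F))_G = A[x₀,x]/(G x₀ - 1, F)` is certified to be a relative global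
complete intersection, the certificate coming from some ring `A'` mapping to `A`. -/
def Good : Prop :=
  ∃ (A' : Type u) (_ : CommRing A') (ψ : A' →+* A) (c' : ℕ)
    (F' : Fin c' → MvPolynomial (Fin (n + 1)) A'),
    Cert ψ F' ∧ Ideal.span (Set.range (mapF ψ F')) = Ideal.span (Set.range (consFam A n c F G))

variable {A n c F G}

lemma Good.map {B : Type u} [CommRing B] (χ : A →+* B) (h : Good A n c F G) :
    Good B n c (mapF χ F) (MvPolynomial.map χ G) := by
  obtain ⟨A', _, ψ, c', F', hcert, hspan⟩ := h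
  refine ⟨A', inferInstance, χ.comp ψ, c', F', cert_comp F' ψ χ hcert, ?_⟩
  rw [mapF_comp]
  have h1 := WSys.span_le_map (MvPolynomial.map χ) (mapF ψ F') (consFam A n c F G) hspan.le
  have h2 := WSys.span_le_map (MvPolynomial.map χ) (consFam A n c F G) (mapF ψ F') hspan.ge
  have e1 : (fun k => MvPolynomial.map χ (mapF ψ F' k)) = mapF χ (mapF ψ F') := rfl
  have e2 : (fun l => MvPolynomial.map χ (consFam A n c F G l)) =
      consFam B n c (mapF χ F) (MvPolynomial.map χ G) := by
    funext l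
    exact map_consFam' χ F G l
  rw [e1, e2] at h1 h2
  exact le_antisymm h1 h2

theorem Good.isSyntomic (h : Good A n c F G) :
    Synt.IsSyntomic A (Localization.Away (Ideal.Quotient.mk (Ideal.span (Set.range F)) G)) := by
  obtain ⟨A', _, ψ, c', F', hcert, hspan⟩ := h
  letI : Algebra A' A := ψ.toAlgebra
  have h1 : Synt.IsRelGCI A (n + 1) c' (mapF ψ F') :=
    isRelGCI_of_cert A' A (n + 1) c' F' hcert
  have h2 := main9147 A (n + 1) c' (mapF ψ F') h1
  have h3 : Synt.IsSyntomic A (Synt.RelGCIRing A (n + 1) (c + 1) (consFam A n c F G)) :=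
    Groth.Agent.Lib.SyntCover_lead.isSyntomic_of_algEquiv
      (Ideal.quotientEquivAlgOfEq A hspan) h2
  obtain ⟨e⟩ := awayConsEquiv A n c F G
  exact Groth.Agent.Lib.SyntCover_lead.isSyntomic_of_algEquiv e.symm h3

end Good

section descent

variable {ι : Type v} {T : ι → Type u} [∀ i, CommRing (T i)] {Tc : Type u} [CommRing Tc]
  (W : WSys T Tc)

lemma WSys.mapF_u_tr {i j : ι} {φ : T i →+* T j} (hφ : φ ∈ W.Tr i j) {n c : ℕ}
    (F : Fin c → MvPolynomial (Fin n) (T i)) : mapF (W.u j) (mapF φ F) = mapF (W.u i) F := by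
  rw [← mapF_comp, W.tr_u hφ]

lemma WSys.map_u_tr {i j : ι} {φ : T i →+* T j} (hφ : φ ∈ W.Tr i j) {n : ℕ}
    (p : MvPolynomial (Fin n) (T i)) :
    MvPolynomial.map (W.u j) (MvPolynomial.map φ p) = MvPolynomial.map (W.u i) p := by
  rw [MvPolynomial.map_map, W.tr_u hφ]

/-- single-piece descent: if in the colimit `(Tc[x]/(F))_G` is presented by a relative global
complete intersection generating the ideal `(G x₀ - 1, F)`, then `Good` holds at a finite stage. -/
theorem good_descent (i₀ : ι) {n c : ℕ} (F : Fin c → MvPolynomial (Fin n) (T i₀))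
    (G : MvPolynomial (Fin n) (T i₀))
    (h : ∃ (c' : ℕ) (F' : Fin c' → MvPolynomial (Fin (n + 1)) Tc), Synt.IsRelGCI Tc (n + 1) c' F' ∧
      Ideal.span (Set.range F') = Ideal.span (Set.range
        (consFam Tc n c (mapF (W.u i₀) F) (MvPolynomial.map (W.u i₀) G)))) :
    ∃ i, ∃ φ ∈ W.Tr i₀ i, Good (T i) n c (mapF φ F) (MvPolynomial.map φ G) := by
  obtain ⟨c', F'c, hgci, hspan⟩ := h
  -- lift `F'c` to a finite stage
  obtain ⟨i₁, Φ₀, hΦ₀, x, hx⟩ := (W.poly (Fin (n + 1))).exists_lift_fin i₀ c' F'c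
  obtain ⟨φ₀, hφ₀, rfl⟩ := hΦ₀
  have hxF : mapF (W.u i₁) x = F'c := by
    funext k
    rw [mapF_apply, ← hx k, WSys.poly_u]
  -- the certificate
  have hcert : Cert (W.u i₁) x := by
    letI : Algebra (T i₁) Tc := (W.u i₁).toAlgebra
    refine cert_of_isRelGCI (T i₁) Tc (n + 1) c' x ?_
    have : (fun i => MvPolynomial.map (algebraMap (T i₁) Tc) (x i)) = F'c := hxF
    rw [this]
    exact hgci
  obtain ⟨i₂, φ₁, hφ₁, hcert₁⟩ := cert_descent W i₁ x hcert
  -- the ideal equality
  have hφ₁₀ : φ₁.comp φ₀ ∈ W.Tr i₀ i₂ := W.tr_comp hφ₀ hφ₁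
  have hspan₂ : Ideal.span (Set.range fun k => (W.poly (Fin (n + 1))).u i₂ (mapF φ₁ x k)) =
      Ideal.span (Set.range fun l => (W.poly (Fin (n + 1))).u i₂
        (consFam (T i₂) n c (mapF (φ₁.comp φ₀) F) (MvPolynomial.map (φ₁.comp φ₀) G) l)) := by
    have e1 : (fun k => (W.poly (Fin (n + 1))).u i₂ (mapF φ₁ x k)) = F'c := by
      funext k
      rw [WSys.poly_u, mapF_apply, W.map_u_tr hφ₁, ← hxF, mapF_apply]
    have e2 : (fun l => (W.poly (Fin (n + 1))).u i₂
        (consFam (T i₂) n c (mapF (φ₁.comp φ₀) F) (MvPolynomial.map (φ₁.comp φ₀) G) l)) =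
        consFam Tc n c (mapF (W.u i₀) F) (MvPolynomial.map (W.u i₀) G) := by
      funext l
      rw [WSys.poly_u, map_consFam', W.mapF_u_tr hφ₁₀, W.map_u_tr hφ₁₀]
    rw [e1, e2]
    exact hspan
  obtain ⟨i₃, Φ₂, hΦ₂, hspan₃⟩ := (W.poly (Fin (n + 1))).span_descent _ _ hspan₂
  obtain ⟨φ₂, hφ₂, rfl⟩ := hΦ₂
  refine ⟨i₃, φ₂.comp (φ₁.comp φ₀), W.tr_comp hφ₁₀ hφ₂, T i₁, inferInstance, φ₂.comp φ₁, c', x,
    cert_comp x φ₁ φ₂ hcert₁, ?_⟩
  have e1 : (fun k => MvPolynomial.map φ₂ (mapF φ₁ x k)) = mapF (φ₂.comp φ₁) x := by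
    rw [mapF_comp]
    rfl
  have e2 : (fun l => MvPolynomial.map φ₂
      (consFam (T i₂) n c (mapF (φ₁.comp φ₀) F) (MvPolynomial.map (φ₁.comp φ₀) G) l)) =
      consFam (T i₃) n c (mapF (φ₂.comp (φ₁.comp φ₀)) F)
        (MvPolynomial.map (φ₂.comp (φ₁.comp φ₀)) G) := by
    funext l
    rw [map_consFam', ← mapF_comp, MvPolynomial.map_map]
  rw [e1, e2] at hspan₃
  exact hspan₃

end descent

end Groth.Agent.Lib.WSysH5
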