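import Mathlib
import Groth.Prelude.Def_RegImm
import Groth.Agent.Lib.WSys4_helper5

/-!
# Descent of syntomicity of presented algebras along weak directed systems, main theorem (helper5).

`isSyntomic_descent`: for a weak directed system `W` with colimit `Tc` and a family `F` at stage
`i₀`, if `Tc[x]/(F)` is syntomic over `Tc` then `T_i[x]/(F)` is syntomic over `T_i` for some later
stage `i`.
APPEND-ONLY once landed.
-/

set_option autoImplicit false
set_option linter.style.haveILetI false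
universe u v

namespace Groth.Agent.Lib.WSysH5

open Groth.Agent.Lib.RelGCI

lemma range_append {α : Type*} {m n : ℕ} (a : Fin m → α) (b : Fin n → α) :
    Set.range (Fin.append a b) = Set.range a ∪ Set.range b := by
  ext x
  constructor
  · rintro ⟨l, rfl⟩
    refine Fin.addCases (fun i => ?_) (fun j => ?_) l
    · left; exact ⟨i, (Fin.append_left a b i).symm⟩
    · right; exact ⟨j, (Fin.append_right a b j).symm⟩
  · rintro (⟨i, rfl⟩ | ⟨j, rfl⟩)
    · exact ⟨Fin.castAdd n i, Fin.append_left a b i⟩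
    · exact ⟨Fin.natAdd m j, Fin.append_right a b j⟩

section Covers

variable {A B : Type u} [CommRing A] [CommRing B] {n c m : ℕ}

/-- the `gs` generate the unit ideal modulo `(F)`. -/
def Covers (F : Fin c → MvPolynomial (Fin n) A) (gs : Fin m → MvPolynomial (Fin n) A) : Prop :=
  Ideal.span (Set.range gs ∪ Set.range F) = ⊤

lemma covers_iff (F : Fin c → MvPolynomial (Fin n) A) (gs : Fin m → MvPolynomial (Fin n) A) :
    Covers F gs ↔ Ideal.span (Set.range fun _ : Fin 1 => (1 : MvPolynomial (Fin n) A)) ≤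
      Ideal.span (Set.range (Fin.append gs F)) := by
  unfold Covers
  rw [range_append]
  constructor
  · intro h
    rw [h]
    exact le_top
  · intro h
    rw [Ideal.eq_top_iff_one]
    exact h (Ideal.subset_span ⟨0, rfl⟩)

lemma append_map (χ : A →+* B) (F : Fin c → MvPolynomial (Fin n) A)
    (gs : Fin m → MvPolynomial (Fin n) A) :
    (fun l => MvPolynomial.map χ (Fin.append gs F l)) =
      Fin.append (fun j => MvPolynomial.map χ (gs j)) (mapF χ F) := by
  funext l
  refine Fin.addCases (fun i => ?_) (fun j => ?_) l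
  · rw [Fin.append_left, Fin.append_left]
  · rw [Fin.append_right, Fin.append_right]
    rfl

lemma Covers.map (χ : A →+* B) {F : Fin c → MvPolynomial (Fin n) A}
    {gs : Fin m → MvPolynomial (Fin n) A} (h : Covers F gs) :
    Covers (mapF χ F) (fun j => MvPolynomial.map χ (gs j)) := by
  rw [covers_iff] at h ⊢
  have h1 := WSys.span_le_map (MvPolynomial.map χ) _ _ h
  rw [append_map] at h1
  have e1 : (fun _ : Fin 1 => MvPolynomial.map χ (1 : MvPolynomial (Fin n) A)) =
      fun _ : Fin 1 => (1 : MvPolynomial (Fin n) B) := by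
    funext _
    rw [map_one]
  rw [e1] at h1
  exact h1

/-- glueing. -/
theorem isSyntomic_of_covers_good (F : Fin c → MvPolynomial (Fin n) A)
    (gs : Fin m → MvPolynomial (Fin n) A) (hcov : Covers F gs)
    (hgood : ∀ j, Good A n c F (gs j)) : Synt.IsSyntomic A (Synt.RelGCIRing A n c F) := by
  classical
  refine Groth.Agent.Lib.SyntLocalH3.isSyntomic_of_span A (Synt.RelGCIRing A n c F)
    (Finset.univ.image (fun j => Ideal.Quotient.mk (Ideal.span (Set.range F)) (gs j))) ?_ ?_
  · rw [Finset.coe_image, Finset.coe_univ, Set.image_univ]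
    have h1 : Ideal.map (Ideal.Quotient.mk (Ideal.span (Set.range F)))
        (Ideal.span (Set.range gs ∪ Set.range F)) = ⊤ := by
      rw [hcov, Ideal.map_top]
    rw [Ideal.map_span, Set.image_union, Ideal.span_union] at h1
    have h0 : Ideal.span ((Ideal.Quotient.mk (Ideal.span (Set.range F))) '' Set.range F) = ⊥ := by
      rw [Ideal.span_eq_bot]
      rintro _ ⟨_, ⟨k, rfl⟩, rfl⟩
      exact Ideal.Quotient.eq_zero_iff_mem.mpr (Ideal.subset_span ⟨k, rfl⟩)
    rw [h0, sup_bot_eq, ← Set.range_comp] at h1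
    exact h1
  · intro g hg
    obtain ⟨j, _, rfl⟩ := Finset.mem_image.mp hg
    exact (hgood j).isSyntomic

end Covers

section goodG

variable {Tc : Type u} [CommRing Tc] (n c : ℕ) (Fc : Fin c → MvPolynomial (Fin n) Tc)

/-- the set of `G` for which `(Tc[x]/(Fc))_G` is a relative global complete intersection with the
explicit ideal. -/
def goodG : Set (MvPolynomial (Fin n) Tc) :=
  {G | ∃ (c' : ℕ) (F' : Fin c' → MvPolynomial (Fin (n + 1)) Tc), Synt.IsRelGCI Tc (n + 1) c' F' ∧
    Ideal.span (Set.range F') = Ideal.span (Set.range (consFam Tc n c Fc G))}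

lemma span_goodG_union (hsynt : Synt.IsSyntomic Tc (Synt.RelGCIRing Tc n c Fc)) :
    Ideal.span (goodG n c Fc ∪ Set.range Fc) = ⊤ := by
  by_contra hne
  obtain ⟨q, hqmax, hle⟩ := Ideal.exists_le_maximal _ hne
  haveI := hqmax.isPrime
  have hq : Ideal.span (Set.range Fc) ≤ q :=
    (Ideal.span_mono Set.subset_union_right).trans hle
  obtain ⟨G, hGq, hG⟩ := exists_local_relGCI Tc n c Fc hsynt q hq
  exact hGq (hle (Ideal.subset_span (Or.inl hG)))

lemma exists_fin_goodG (hsynt : Synt.IsSyntomic Tc (Synt.RelGCIRing Tc n c Fc)) :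
    ∃ (m : ℕ) (Gs : Fin m → MvPolynomial (Fin n) Tc), (∀ j, Gs j ∈ goodG n c Fc) ∧
      Covers Fc Gs := by
  classical
  have h := span_goodG_union n c Fc hsynt
  rw [Ideal.span_eq_top_iff_finite] at h
  obtain ⟨s, hs, hs1⟩ := h
  let s' := s.filter (· ∈ goodG n c Fc)
  refine ⟨s'.card, fun j => (s'.equivFin.symm j : MvPolynomial (Fin n) Tc), ?_, ?_⟩
  · intro j
    exact (Finset.mem_filter.mp (s'.equivFin.symm j).2).2
  · unfold Covers
    rw [eq_top_iff, ← hs1]
    apply Ideal.span_le.mpr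
    intro x hx
    rcases hs hx with hx1 | hx2
    · apply Ideal.subset_span
      left
      refine ⟨s'.equivFin ⟨x, Finset.mem_filter.mpr ⟨hx, hx1⟩⟩, ?_⟩
      simp only [Equiv.symm_apply_apply]
    · exact Ideal.subset_span (Or.inr hx2)

end goodG

section main

variable {ι : Type v} {T : ι → Type u} [∀ i, CommRing (T i)] {Tc : Type u} [CommRing Tc]
  (W : WSys T Tc)

theorem good_descent_fin (i₁ : ι) {n c : ℕ} (F : Fin c → MvPolynomial (Fin n) (T i₁)) :
    ∀ (m : ℕ) (gs : Fin m → MvPolynomial (Fin n) (T i₁)),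
      (∀ j, MvPolynomial.map (W.u i₁) (gs j) ∈ goodG n c (mapF (W.u i₁) F)) →
      ∃ i, ∃ φ ∈ W.Tr i₁ i, ∀ j, Good (T i) n c (mapF φ F) (MvPolynomial.map φ (gs j))
  | 0, _, _ => ⟨i₁, RingHom.id _, W.tr_id i₁, fun j => j.elim0⟩
  | m + 1, gs, h => by
    obtain ⟨i, φ, hφ, hgood⟩ := good_descent_fin i₁ F m (fun j => gs j.castSucc)
      (fun j => h j.castSucc)
    have hlast := h (Fin.last m)
    obtain ⟨i', φ', hφ', hgood'⟩ := good_descent W i (mapF φ F)
      (MvPolynomial.map φ (gs (Fin.last m))) (by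
        rw [W.mapF_u_tr hφ, W.map_u_tr hφ]
        exact hlast)
    refine ⟨i', φ'.comp φ, W.tr_comp hφ hφ', ?_⟩
    intro j
    refine Fin.lastCases ?_ (fun j' => ?_) j
    · rw [mapF_comp, ← MvPolynomial.map_map]
      exact hgood'
    · have := (hgood j').map φ'
      rw [mapF_comp, ← MvPolynomial.map_map]
      exact this

theorem covers_descent (i : ι) {n c m : ℕ} (F : Fin c → MvPolynomial (Fin n) (T i))
    (gs : Fin m → MvPolynomial (Fin n) (T i))
    (h : Covers (mapF (W.u i) F) (fun j => MvPolynomial.map (W.u i) (gs j))) :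
    ∃ j, ∃ φ ∈ W.Tr i j, Covers (mapF φ F) (fun k => MvPolynomial.map φ (gs k)) := by
  rw [covers_iff, ← append_map] at h
  have h' : Ideal.span (Set.range fun k : Fin 1 => (W.poly (Fin n)).u i
      ((fun _ => (1 : MvPolynomial (Fin n) (T i))) k)) ≤
      Ideal.span (Set.range fun l => (W.poly (Fin n)).u i (Fin.append gs F l)) := by
    rw [WSys.poly_u]
    have e1 : (fun k : Fin 1 => MvPolynomial.map (W.u i)
        ((fun _ => (1 : MvPolynomial (Fin n) (T i))) k)) =
        fun _ : Fin 1 => (1 : MvPolynomial (Fin n) Tc) := by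
      funext _
      rw [map_one]
    rw [e1]
    exact h
  obtain ⟨j, Φ, hΦ, hspan⟩ := (W.poly (Fin n)).span_le_descent _ _ h'
  obtain ⟨φ, hφ, rfl⟩ := hΦ
  refine ⟨j, φ, hφ, ?_⟩
  rw [covers_iff, ← append_map]
  have e1 : (fun k : Fin 1 => MvPolynomial.map φ
      ((fun _ => (1 : MvPolynomial (Fin n) (T i))) k)) =
      fun _ : Fin 1 => (1 : MvPolynomial (Fin n) (T j)) := by
    funext _
    rw [map_one]
  rw [e1] at hspan
  exact hspan

/-- **Main abstract theorem**: syntomicity of a presented algebra descends along a weak directed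
system. -/
theorem isSyntomic_descent (i₀ : ι) {n c : ℕ} (F : Fin c → MvPolynomial (Fin n) (T i₀))
    (hsynt : Synt.IsSyntomic Tc (Synt.RelGCIRing Tc n c (mapF (W.u i₀) F))) :
    ∃ i, ∃ φ ∈ W.Tr i₀ i, Synt.IsSyntomic (T i) (Synt.RelGCIRing (T i) n c (mapF φ F)) := by
  obtain ⟨m, Gs, hGs, hcov⟩ := exists_fin_goodG n c (mapF (W.u i₀) F) hsynt
  -- lift the `Gs`
  obtain ⟨i₁, Φ₀, hΦ₀, gs, hgs⟩ := (W.poly (Fin n)).exists_lift_fin i₀ m Gs
  obtain ⟨φ₀, hφ₀, rfl⟩ := hΦ₀
  have hgs' : (fun j => MvPolynomial.map (W.u i₁) (gs j)) = Gs := by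
    funext j
    rw [← hgs j, WSys.poly_u]
  -- descend the covering condition
  have hcov₁ : Covers (mapF (W.u i₁) (mapF φ₀ F))
      (fun j => MvPolynomial.map (W.u i₁) (gs j)) := by
    rw [W.mapF_u_tr hφ₀, hgs']
    exact hcov
  obtain ⟨i₂, φ₁, hφ₁, hcov₂⟩ := covers_descent W i₁ (mapF φ₀ F) gs hcov₁
  -- descend goodness
  have hφ₁₀ : φ₁.comp φ₀ ∈ W.Tr i₀ i₂ := W.tr_comp hφ₀ hφ₁
  obtain ⟨i₃, φ₂, hφ₂, hgood⟩ := good_descent_fin W i₂ (mapF (φ₁.comp φ₀) F) m
    (fun j => MvPolynomial.map φ₁ (gs j)) (by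
      intro j
      rw [W.mapF_u_tr hφ₁₀, W.map_u_tr hφ₁]
      have := hGs j
      rw [← hgs'] at this
      exact this)
  refine ⟨i₃, φ₂.comp (φ₁.comp φ₀), W.tr_comp hφ₁₀ hφ₂, ?_⟩
  have hcov₃ := hcov₂.map φ₂
  rw [← mapF_comp, ← mapF_comp] at hcov₃
  rw [← mapF_comp] at hgood
  exact isSyntomic_of_covers_good _ _ hcov₃ hgood

end main

end Groth.Agent.Lib.WSysH5
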