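import Mathlib
import Groth.Prelude.Def_RegImm
import Groth.Agent.Lib.WSys5_helper5
import Groth.Agent.Lib.WeakColim2_lead
import Groth.Agent.Lib.RelGCIDesc1_helper2

/-!
# S9423: syntomicity descends along weak directed colimits (helper5).

Instantiates the abstract weak system of `WSys1_helper5` with `B₀ ⊗ G i` (lead's `WeakColim` libs)
and proves the final statement.
APPEND-ONLY once landed.
-/

set_option autoImplicit false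
set_option linter.style.haveILetI false
universe u

namespace Groth.Agent.Lib.WSysH5

open TensorProduct Groth.Agent.Lib.WeakColim Groth.Agent.Lib.RelGCI

section inst

variable {ι : Type u} [Preorder ι] [IsDirected ι (· ≤ ·)] [Nonempty ι]
  {A₀ : Type u} [CommRing A₀] {G : ι → Type u} [∀ i, CommRing (G i)] [∀ i, Algebra A₀ (G i)]
  {A : Type u} [CommRing A] [Algebra A₀ A]
  {f : ∀ i j, i ≤ j → (G i →ₐ[A₀] G j)} {g : ∀ i, G i →ₐ[A₀] A}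

/-- the weak system `B₀ ⊗ G i → B₀ ⊗ A`. -/
noncomputable def wsysOf (H : IsWeakColim f g) (B₀ : Type u) [CommRing B₀] [Algebra A₀ B₀] :
    WSys (fun i => B₀ ⊗[A₀] G i) (B₀ ⊗[A₀] A) where
  u i := (tMap B₀ (g i)).toRingHom
  Tr i j := {Φ | ∃ a : Adm g i j, Φ = (tMap B₀ a.φ).toRingHom}
  tr_u := by
    rintro i j _ ⟨a, rfl⟩
    rw [← a.comp, tMap_comp]
    rfl
  tr_id i := ⟨Adm.refl i, by
    show _ = (tMap B₀ (AlgHom.id A₀ (G i))).toRingHom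
    unfold tMap
    rw [Algebra.TensorProduct.map_id]
    rfl⟩
  tr_comp := by
    rintro i j k _ _ ⟨a, rfl⟩ ⟨b, rfl⟩
    refine ⟨a.trans b, ?_⟩
    rw [Adm.trans_φ, tMap_comp]
    rfl
  dir i j := by
    obtain ⟨k, hik, hjk⟩ := exists_ge_ge i j
    exact ⟨k, ⟨_, H.ofLE hik, rfl⟩, ⟨_, H.ofLE hjk, rfl⟩⟩
  surj t := by
    obtain ⟨i, x, hx⟩ := H.exists_lift B₀ t
    refine ⟨i, x, ?_⟩
    show tMap B₀ (g i) x = t
    rw [tMap_eq, hx]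
  ker i x hx := by
    have h0 : LinearMap.lTensor B₀ (g i).toLinearMap x = 0 := by
      rw [← tMap_eq]
      exact hx
    obtain ⟨j, a, ha⟩ := H.exists_kill_tensor B₀ x h0
    refine ⟨j, _, ⟨a, rfl⟩, ?_⟩
    show tMap B₀ a.φ x = 0
    rw [tMap_eq, ha]

lemma wsysOf_u (H : IsWeakColim f g) (B₀ : Type u) [CommRing B₀] [Algebra A₀ B₀] (i : ι) :
    (wsysOf H B₀).u i = (tMap B₀ (g i)).toRingHom := rfl

lemma wsysOf_u_comp (H : IsWeakColim f g) (B₀ : Type u) [CommRing B₀] [Algebra A₀ B₀] (i : ι) :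
    ((wsysOf H B₀).u i).comp (algebraMap B₀ (B₀ ⊗[A₀] G i)) = algebraMap B₀ (B₀ ⊗[A₀] A) := by
  rw [wsysOf_u]
  exact AlgHom.comp_algebraMap (tMap B₀ (g i))

lemma wsysOf_tr_comp (H : IsWeakColim f g) (B₀ : Type u) [CommRing B₀] [Algebra A₀ B₀] {i j : ι}
    {φ : B₀ ⊗[A₀] G i →+* B₀ ⊗[A₀] G j} (hφ : φ ∈ (wsysOf H B₀).Tr i j) :
    φ.comp (algebraMap B₀ (B₀ ⊗[A₀] G i)) = algebraMap B₀ (B₀ ⊗[A₀] G j) := by
  obtain ⟨a, rfl⟩ := hφ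
  exact AlgHom.comp_algebraMap (tMap B₀ a.φ)

end inst

section pres

variable (B₀ : Type u) [CommRing B₀] (C₀ : Type u) [CommRing C₀] [Algebra B₀ C₀]

lemma exists_pres [Algebra.FinitePresentation B₀ C₀] :
    ∃ (n m : ℕ) (r : Fin m → MvPolynomial (Fin n) B₀),
      Nonempty (Synt.RelGCIRing B₀ n m r ≃ₐ[B₀] C₀) := by
  obtain ⟨n, π, hπ, hfg⟩ := Algebra.FinitePresentation.out (R := B₀) (A := C₀)
  obtain ⟨m, r, hr⟩ := Submodule.fg_iff_exists_fin_generating_family.mp hfg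
  have hr' : Ideal.span (Set.range r) = RingHom.ker π.toRingHom := hr
  exact ⟨n, m, r, ⟨(Ideal.quotientEquivAlgOfEq B₀ hr').trans
    (Ideal.quotientKerAlgEquivOfSurjective hπ)⟩⟩

variable {B₀ C₀}

lemma isSyntomic_tensor_iff {n m : ℕ} {r : Fin m → MvPolynomial (Fin n) B₀}
    (e₀ : Synt.RelGCIRing B₀ n m r ≃ₐ[B₀] C₀) (T : Type u) [CommRing T] [Algebra B₀ T] :
    Synt.IsSyntomic T (T ⊗[B₀] C₀) ↔
      Synt.IsSyntomic T (Synt.RelGCIRing T n m (mapF (algebraMap B₀ T) r)) := by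
  let E : T ⊗[B₀] C₀ ≃ₐ[T] Synt.RelGCIRing T n m (mapF (algebraMap B₀ T) r) :=
    (Algebra.TensorProduct.congr (AlgEquiv.refl : T ≃ₐ[T] T) e₀.symm).trans
      (bcEquiv B₀ T n m r)
  exact ⟨fun h => Groth.Agent.Lib.SyntCover_lead.isSyntomic_of_algEquiv E h,
    fun h => Groth.Agent.Lib.SyntCover_lead.isSyntomic_of_algEquiv E.symm h⟩

end pres

theorem main9423 {ι : Type u} [Preorder ι] [IsDirected ι (· ≤ ·)] [Nonempty ι]
    (A₀ : Type u) [CommRing A₀] (G : ι → Type u) [∀ i, CommRing (G i)] [∀ i, Algebra A₀ (G i)]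
    (f : ∀ i j, i ≤ j → (G i →ₐ[A₀] G j)) (A : Type u) [CommRing A] [Algebra A₀ A]
    (g : ∀ i, G i →ₐ[A₀] A) (hg : ∀ i j (h : i ≤ j), (g j).comp (f i j h) = g i)
    (hsurj : ∀ a : A, ∃ i, ∃ x : G i, g i x = a)
    (hker : ∀ i (x : G i), g i x = 0 → ∃ j, ∃ h : i ≤ j, f i j h x = 0)
    (B₀ : Type u) [CommRing B₀] [Algebra A₀ B₀] (C₀ : Type u) [CommRing C₀] [Algebra A₀ C₀]
    [Algebra B₀ C₀] [IsScalarTower A₀ B₀ C₀] [Algebra.FinitePresentation B₀ C₀]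
    (h : Synt.IsSyntomic (B₀ ⊗[A₀] A) ((B₀ ⊗[A₀] A) ⊗[B₀] C₀)) :
    ∃ i, Synt.IsSyntomic (B₀ ⊗[A₀] G i) ((B₀ ⊗[A₀] G i) ⊗[B₀] C₀) := by
  have H : IsWeakColim f g := ⟨hg, hsurj, hker⟩
  obtain ⟨n, m, r, ⟨e₀⟩⟩ := exists_pres B₀ C₀
  let W := wsysOf H B₀
  obtain ⟨i₀⟩ := ‹Nonempty ι›
  have h1 := (isSyntomic_tensor_iff e₀ (B₀ ⊗[A₀] A)).mp h
  have h2 : Synt.IsSyntomic (B₀ ⊗[A₀] A) (Synt.RelGCIRing (B₀ ⊗[A₀] A) n m
      (mapF (W.u i₀) (mapF (algebraMap B₀ (B₀ ⊗[A₀] G i₀)) r))) := by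
    rw [← mapF_comp, wsysOf_u_comp]
    exact h1
  obtain ⟨i, φ, hφ, h3⟩ := isSyntomic_descent W i₀ _ h2
  rw [← mapF_comp, wsysOf_tr_comp H B₀ hφ] at h3
  exact ⟨i, (isSyntomic_tensor_iff e₀ (B₀ ⊗[A₀] G i)).mpr h3⟩

end Groth.Agent.Lib.WSysH5
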