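import Mathlib
import Groth.Prelude.Def_RegImm
import Groth.Agent.Lib.WSys6_helper5
import Groth.Agent.Lib.LimAlg2_helper7
import Groth.Agent.Lib.QuietSynt_helper2
import Groth.Agent.Lib.SmoothSynt_helper4
import Groth.Agent.Lib.SyntStd_helper2

/-!
# Syntomic morphisms descend to a finite stage of a cofiltered limit of schemes (helper5): S9198.

Uses helper7's spreading-in framework (`LimSrc_helper7`, `LimAlg_helper7`), the ring-level descent
`WSysH5.main9423` and helper2's scheme-level syntomic libraries.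
APPEND-ONLY once landed.
-/

set_option autoImplicit false
set_option linter.style.haveILetI false
universe u
open CategoryTheory CategoryTheory.Limits AlgebraicGeometry TensorProduct Opposite TopologicalSpace

namespace Groth.Agent.Lib.LimSyntH5

open Groth.Agent.Lib.WeakColim Groth.Agent.Lib.LimSrcH7 Groth.Agent.Lib.LimAlgH7
  Groth.Agent.Lib.SyntStd Groth.Agent.Lib.QuietSynt Groth.Agent.Lib.SyntSch

/-- syntomic morphisms as a morphism property of schemes. -/
def syntMor : MorphismProperty Scheme.{u} := fun _ _ f => Synt.IsSyntomicMor f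

lemma syntMor_iff {X Y : Scheme.{u}} (f : X ⟶ Y) : syntMor f ↔ Synt.IsSyntomicMor f := Iff.rfl

lemma syntMor_of_isOpenImmersion {X Y : Scheme.{u}} (f : X ⟶ Y) (h : IsOpenImmersion f) :
    syntMor f := by
  haveI := h
  exact Groth.Agent.Lib.SmoothSyntH4.main9699 f

instance : syntMor.{u}.IsStableUnderComposition :=
  ⟨fun f g hf hg => isSyntomicMor_comp f g hf hg⟩

instance : syntMor.{u}.RespectsIso := by
  apply MorphismProperty.RespectsIso.mk
  · intro X Y Z e f hf
    exact isSyntomicMor_comp e.hom f (syntMor_of_isOpenImmersion e.hom inferInstance) hf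
  · intro X Y Z e f hf
    exact isSyntomicMor_comp f e.hom hf (syntMor_of_isOpenImmersion e.hom inferInstance)

lemma syntMor_restrict {X Y : Scheme.{u}} (f : X ⟶ Y) (U : X.Opens) (hf : syntMor f) :
    syntMor (U.ι ≫ f) :=
  isSyntomicMor_comp U.ι f (syntMor_of_isOpenImmersion U.ι inferInstance) hf

instance : IsZariskiLocalAtSource syntMor.{u} := by
  refine IsZariskiLocalAtSource.mk' (fun f U hf => syntMor_restrict f U hf) ?_
  intro X Y f ι U hU hf x
  have hx : x ∈ (iSup U : X.Opens) := by rw [hU]; trivial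
  obtain ⟨i, hi⟩ := Opens.mem_iSup.mp hx
  exact isSyntomicAt_of_ι_comp f (U i) x hi (hf i ⟨x, hi⟩)

lemma syntMor_of_isPullback {X S S' X' : Scheme.{u}} {f : X ⟶ S} {h : S' ⟶ S} {gX : X' ⟶ X}
    {f' : X' ⟶ S'} (sq : IsPullback gX f' f h) (hf : syntMor f) : syntMor f' := by
  obtain ⟨hfl, hk⟩ := (main9758 f).mpr hf
  haveI := hfl
  rw [syntMor_iff, ← main9758]
  refine ⟨MorphismProperty.of_isPullback (P := @Flat) sq hfl, fun x' => ?_⟩
  haveI : Flat (f ≫ 𝟙 S) := by rw [Category.comp_id]; exact hfl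
  haveI : Flat (𝟙 S) := inferInstance
  have hY : IsPullback h (𝟙 S') (𝟙 S) h := IsPullback.of_vert_isIso ⟨by simp⟩
  have hX : IsPullback gX (f' ≫ 𝟙 S') (f ≫ 𝟙 S) h := by
    rw [Category.comp_id, Category.comp_id]
    exact sq
  exact Groth.Agent.Lib.FibKoszulSch.koszulAt_baseChange f (𝟙 S) h h (𝟙 S') hY gX f' hX sq.w x'
    (hk _)

instance : syntMor.{u}.IsStableUnderBaseChange :=
  ⟨fun sq hg => syntMor_of_isPullback sq hg⟩

/-- for affine schemes: syntomic iff the map on global sections is a syntomic ring map. -/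
lemma syntMor_iff_of_isAffine {X Y : Scheme.{u}} [IsAffine X] [IsAffine Y] (f : X ⟶ Y) :
    syntMor f ↔ SyntHom f.appTop.hom := by
  have hX : IsAffineOpen (⊤ : X.Opens) := isAffineOpen_top X
  have hY : IsAffineOpen (⊤ : Y.Opens) := isAffineOpen_top Y
  have e : (⊤ : X.Opens) ≤ f ⁻¹ᵁ (⊤ : Y.Opens) := le_rfl
  have happ : f.appLE ⊤ ⊤ e = f.appTop := by
    rw [Scheme.Hom.appTop, Scheme.Hom.app_eq_appLE]
    rfl
  constructor
  · intro h
    have := (main9363 f).mp h ⟨⊤, hX⟩ ⟨⊤, hY⟩ e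
    have h2 := (syntHom_iff _).mpr this
    rw [happ] at h2
    exact h2
  · intro h x
    refine ⟨⟨⊤, hX⟩, ⟨⊤, hY⟩, e, trivial, ?_⟩
    refine (syntHom_iff _).mp ?_
    rw [happ]
    exact h

theorem leadForm_synt :
    LeadForm @SyntHom (fun R S _ _ _ => Algebra.FinitePresentation R S) := by
  intro ι _ _ _ A₀ _ G _ _ A _ _ f g HW C₀ _ _ hfin hq
  haveI := hfin
  have h1 : Synt.IsSyntomic (A₀ ⊗[A₀] A) ((A₀ ⊗[A₀] A) ⊗[A₀] C₀) :=
    syntHom_algebraMap_iff.mp hq
  obtain ⟨i, hi⟩ := Groth.Agent.Lib.WSysH5.main9423 A₀ G f A g HW.hg HW.hsurj HW.hker A₀ C₀ h1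
  exact ⟨i, syntHom_algebraMap_iff.mpr hi⟩

theorem affAffStage_synt :
    AffAffStage syntMor.{u} (fun f => LocallyOfFinitePresentation f) :=
  affAffStage_of_ringStage (Q := @SyntHom) (Fin := @RingHom.FinitePresentation)
    (ringStage_of_leadForm syntHom_respectsIso leadForm_synt (fun _ h => h))
    (fun f => syntMor_iff_of_isAffine f)
    (fun _ hf => (HasRingHomProperty.iff_of_isAffine (P := @LocallyOfFinitePresentation)).mp hf)

theorem main9198 {I : Type u} [SmallCategory I] [IsCofiltered I]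
    (D : I ⥤ Scheme.{u}) (c : Limits.Cone D) (hc : Limits.IsLimit c)
    [∀ (i j : I) (f : i ⟶ j), IsAffineHom (D.map f)] (i₀ : I) [CompactSpace (D.obj i₀)]
    [QuasiSeparatedSpace (D.obj i₀)] {X₀ Y₀ : Scheme.{u}} (f₀ : X₀ ⟶ Y₀) (g₀ : Y₀ ⟶ D.obj i₀)
    [CompactSpace X₀] [QuasiSeparatedSpace X₀] [CompactSpace Y₀] [QuasiSeparatedSpace Y₀]
    [LocallyOfFinitePresentation f₀]
    {X Y : Scheme.{u}} (f : X ⟶ Y) (g : Y ⟶ c.pt) (qY : Y ⟶ Y₀) (qX : X ⟶ X₀)
    (hY : IsPullback qY g g₀ (c.π.app i₀)) (hX : IsPullback qX f f₀ qY) (hf : Synt.IsSyntomicMor f) :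
    ∃ (i : I) (φ : i ⟶ i₀) (Xi Yi : Scheme.{u}) (fi : Xi ⟶ Yi) (gi : Yi ⟶ D.obj i) (pY : Yi ⟶ Y₀)
      (pX : Xi ⟶ X₀), IsPullback pY gi g₀ (D.map φ) ∧ IsPullback pX fi f₀ pY ∧ Synt.IsSyntomicMor fi :=
  exists_descend_src (P := syntMor.{u}) (H := fun f => LocallyOfFinitePresentation f)
    (fun f h => syntMor_of_isOpenImmersion f h)
    affAffStage_synt lfp_pullback_snd lfp_resLE
    D c hc i₀ f₀ g₀ inferInstance f g qY qX hY hX hf

end Groth.Agent.Lib.LimSyntH5
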