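import Groth.Agent.Lib.LimTower9_helper7
import Groth.Agent.Lib.AlgSpSep_helper7
import Groth.Agent.Lib.AlgSpProper_helper7

/-!
# Descending universal injectivity along a limit (helper7)
-/

set_option autoImplicit false
set_option linter.style.haveILetI false

universe u

open CategoryTheory CategoryTheory.Limits AlgebraicGeometry Opposite Topology
open AlgSp Groth.Agent.Lib.AlgSpPullback_helper7 Groth.Agent.Lib.AlgSpQC_helper7
  Groth.Agent.Lib.AlgSpPoints_helper7 Groth.Agent.Lib.AlgSpQC2_helper7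
  Groth.Agent.Lib.MonicGsectH6 Groth.Agent.Lib.AlgSpSep_helper7
  Groth.Agent.Lib.AlgSpDiag_helper7 Groth.Agent.Lib.AlgSpProper_helper7

namespace Groth.Agent.Lib.LimTowerH7

/-! ### Cancellation for finite presentation -/

theorem locallyOfFinitePresentation_of_comp {X Y Z : Scheme.{u}} (h : X ⟶ Y) (g : Y ⟶ Z)
    [hg : LocallyOfFiniteType g] [hhg : LocallyOfFinitePresentation (h ≫ g)] :
    LocallyOfFinitePresentation h := by
  rw [HasRingHomProperty.iff_exists_appLE (P := @LocallyOfFinitePresentation)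
    (RingHom.finitePresentation_stableUnderComposition.stableUnderCompositionWithLocalizationAway
      RingHom.finitePresentation_holdsForLocalizationAway).1]
  intro x
  obtain ⟨W, hW, hxW, -⟩ := TopologicalSpace.Opens.isBasis_iff_nbhd.mp Z.isBasis_affineOpens
    (TopologicalSpace.Opens.mem_top (g (h x)))
  obtain ⟨V, hV, hxV, eV⟩ := TopologicalSpace.Opens.isBasis_iff_nbhd.mp Y.isBasis_affineOpens
    (show h x ∈ g ⁻¹ᵁ W from hxW)
  obtain ⟨U, hU, hxU, eU⟩ := TopologicalSpace.Opens.isBasis_iff_nbhd.mp X.isBasis_affineOpens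
    (show x ∈ h ⁻¹ᵁ V from hxV)
  refine ⟨⟨V, hV⟩, ⟨U, hU⟩, hxU, eU, ?_⟩
  have h1 : RingHom.FiniteType (g.appLE W V eV).hom :=
    HasRingHomProperty.appLE (P := @LocallyOfFiniteType) g hg ⟨W, hW⟩ ⟨V, hV⟩ eV
  have h2 : RingHom.FinitePresentation ((h ≫ g).appLE W U
      (eU.trans ((TopologicalSpace.Opens.map h.base).map (homOfLE eV)).le)).hom :=
    HasRingHomProperty.appLE (P := @LocallyOfFinitePresentation) (h ≫ g) hhg ⟨W, hW⟩ ⟨U, hU⟩ _
  rw [← Scheme.Hom.appLE_comp_appLE h g W V U eV eU, CommRingCat.hom_comp] at h2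
  exact RingHom.FinitePresentation.of_comp_finiteType _ h2 h1

variable {S : Scheme.{u}}

/-! ### Quasi-separatedness of charts from affine schemes -/

theorem isQuasiSeparatedMor_of_comp {X Y Z : Sp S} (f : X ⟶ Y) (g : Y ⟶ Z)
    (h : IsQuasiSeparatedMor (f ≫ g)) : IsQuasiSeparatedMor f := by
  have sq := pullback_map_diagonal_isPullback f f g
  have hm : Mono (pullback.diagonal g) := inferInstance
  have hm' : Mono (pullback.map f f (f ≫ g) (f ≫ g) (𝟙 _) (𝟙 _) g (Category.id_comp _).symm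
      (Category.id_comp _).symm) := sq.mono_snd_of_mono
  have hd : pullback.diagonal f ≫ pullback.map f f (f ≫ g) (f ≫ g) (𝟙 _) (𝟙 _) g
      (Category.id_comp _).symm (Category.id_comp _).symm = pullback.diagonal (f ≫ g) := by
    apply pullback.hom_ext
    · rw [Category.assoc, pullback.lift_fst, ← Category.assoc, pullback.diagonal_fst,
        pullback.diagonal_fst, Category.id_comp]
    · rw [Category.assoc, pullback.lift_snd, ← Category.assoc, pullback.diagonal_snd,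
        pullback.diagonal_snd, Category.id_comp]
  have hiso : IsIso (pullback.diagonal (pullback.map f f (f ≫ g) (f ≫ g) (𝟙 _) (𝟙 _) g
      (Category.id_comp _).symm (Category.id_comp _).symm)) :=
    (pullback.isIso_diagonal_iff _).2 hm'
  haveI : MorphismProperty.ContainsIdentities @QuasiCompact.{u} :=
    (inferInstance : MorphismProperty.IsMultiplicative @QuasiCompact).toContainsIdentities
  haveI : MorphismProperty.RespectsIso @QuasiCompact.{u} :=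
    MorphismProperty.IsStableUnderBaseChange.respectsIso
  have : RepWith @QuasiCompact (pullback.diagonal (pullback.map f f (f ≫ g) (f ≫ g) (𝟙 _) (𝟙 _) g
      (Category.id_comp _).symm (Category.id_comp _).symm)) := repWith_of_isIso _ _
  exact repWith_of_comp_of_diagonal _ (pullback.diagonal f) _ (by rw [hd]; exact h) this

theorem isQuasiSeparatedMor_from_yon_affine {W : Over S} [IsAffine W.left] {Y : Sp S}
    (a : (yon S).obj W ⟶ Y) : IsQuasiSeparatedMor a := by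
  apply isQuasiSeparatedMor_of_comp a (terminal.from Y)
  rw [terminal.comp_from]
  have h1 : RepWith @QuasiSeparated (terminal.from ((yon S).obj W)) :=
    (repWith_terminal_from_yon_iff _ W).2 inferInstance
  exact (isQuasiSeparatedMor_iff_of_representable _ h1.rep).2 h1

/-! ### The radicial criterion -/

/-- Two field valued points with the same image agree after a field extension. -/
def IsRadicialMor {X Y : Sp S} (g : X ⟶ Y) : Prop :=
  ∀ (K : Type u) [Field K] (sK : Spec (CommRingCat.of K) ⟶ S)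
    (ξ₁ ξ₂ : (yon S).obj (Over.mk sK) ⟶ X), ξ₁ ≫ g = ξ₂ ≫ g →
    ∃ (L : Type u) (_ : Field L) (sL : Spec (CommRingCat.of L) ⟶ S)
      (ι : Over.mk sL ⟶ Over.mk sK), (yon S).map ι ≫ ξ₁ = (yon S).map ι ≫ ξ₂

theorem isUnivInjectiveMor_of_isRadicialMor {X Y : Sp S} (g : X ⟶ Y) (h : IsRadicialMor g) :
    IsUnivInjectiveMor g := by
  intro Z Z' _ c fst snd sq x₁ x₂ hx
  obtain ⟨K₁, _, s₁, m₁, rfl⟩ := mk_surjective' x₁
  obtain ⟨K₂, _, s₂, m₂, rfl⟩ := mk_surjective' x₂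
  rw [map_mk_ofHom, map_mk_ofHom, mk_ofHom_eq_iff] at hx
  obtain ⟨Ω, _, w, a, b, hab⟩ := hx
  have hg : ((yon S).map a ≫ m₁ ≫ fst) ≫ g = ((yon S).map b ≫ m₂ ≫ fst) ≫ g := by
    calc ((yon S).map a ≫ m₁ ≫ fst) ≫ g = ((yon S).map a ≫ m₁ ≫ snd) ≫ c := by
          simp only [Category.assoc, sq.w]
      _ = ((yon S).map b ≫ m₂ ≫ snd) ≫ c := by rw [hab]
      _ = ((yon S).map b ≫ m₂ ≫ fst) ≫ g := by simp only [Category.assoc, sq.w]
  obtain ⟨L, _, sL, ι, hι⟩ := h Ω w _ _ hg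
  rw [mk_ofHom_eq_iff]
  refine ⟨L, inferInstance, sL, ι ≫ a, ι ≫ b, ?_⟩
  apply sq.hom_ext
  · simpa only [Functor.map_comp, Category.assoc] using hι
  · have := congrArg (fun t => (yon S).map ι ≫ t) hab
    simpa only [Functor.map_comp, Category.assoc] using this

theorem isRadicialMor_of_isUnivInjectiveMor {X Y : Sp S} (g : X ⟶ Y)
    (h : IsUnivInjectiveMor g) : IsRadicialMor g := by
  intro K _ sK ξ₁ ξ₂ hξ
  have sq := IsPullback.of_hasPullback g (ξ₁ ≫ g)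
  have hinj : Function.Injective (Points.map (pullback.snd g (ξ₁ ≫ g))) :=
    h (IsAlgSpace.yon_obj (Over.mk sK)) (ξ₁ ≫ g) _ _ sq
  obtain ⟨σ₁, hσ₁f, hσ₁s⟩ : ∃ σ₁ : (yon S).obj (Over.mk sK) ⟶ pullback g (ξ₁ ≫ g),
      σ₁ ≫ pullback.fst g (ξ₁ ≫ g) = ξ₁ ∧ σ₁ ≫ pullback.snd g (ξ₁ ≫ g) = 𝟙 _ :=
    ⟨pullback.lift ξ₁ (𝟙 _) (by rw [Category.id_comp]), pullback.lift_fst _ _ _,
      pullback.lift_snd _ _ _⟩
  obtain ⟨σ₂, hσ₂f, hσ₂s⟩ : ∃ σ₂ : (yon S).obj (Over.mk sK) ⟶ pullback g (ξ₁ ≫ g),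
      σ₂ ≫ pullback.fst g (ξ₁ ≫ g) = ξ₂ ∧ σ₂ ≫ pullback.snd g (ξ₁ ≫ g) = 𝟙 _ :=
    ⟨pullback.lift ξ₂ (𝟙 _) (by rw [Category.id_comp, hξ]), pullback.lift_fst _ _ _,
      pullback.lift_snd _ _ _⟩
  have h1 : Points.mk (ofHom σ₁) = Points.mk (ofHom σ₂) := by
    apply hinj
    rw [map_mk_ofHom, map_mk_ofHom, hσ₁s, hσ₂s]
  rw [mk_ofHom_eq_iff] at h1
  obtain ⟨Ω, _, w, a, b, hab⟩ := h1
  have h2 : (yon S).map a = (yon S).map b := by
    have := congrArg (fun t => t ≫ pullback.snd g (ξ₁ ≫ g)) hab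
    simpa only [Category.assoc, hσ₁s, hσ₂s, Category.comp_id] using this
  have h3 : (yon S).map a ≫ ξ₁ = (yon S).map b ≫ ξ₂ := by
    have := congrArg (fun t => t ≫ pullback.fst g (ξ₁ ≫ g)) hab
    simpa only [Category.assoc, hσ₁f, hσ₂f] using this
  exact ⟨Ω, inferInstance, w, a, by rw [h3, h2]⟩

/-! ### Lifting field valued points -/

theorem exists_lift_of_mem_range_ofPt {F : Sp S} {T : Over S} (g : (yon S).obj T ⟶ F)
    {K : Type u} [Field K] {sK : Spec (CommRingCat.of K) ⟶ S}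
    (η : (yon S).obj (Over.mk sK) ⟶ F) (h : Points.mk (ofHom η) ∈ Set.range (Points.ofPt g)) :
    ∃ (L : Type u) (_ : Field L) (sL : Spec (CommRingCat.of L) ⟶ S)
      (ι : Over.mk sL ⟶ Over.mk sK) (t : Over.mk sL ⟶ T),
      (yon S).map t ≫ g = (yon S).map ι ≫ η := by
  obtain ⟨x, hx⟩ := h
  have h1 : Points.ofPt g x = Points.mk (ofHom ((yon S).map
      (Over.homMk (T.left.fromSpecResidueField x) rfl :
        Over.mk (T.left.fromSpecResidueField x ≫ T.hom) ⟶ T) ≫ g)) := by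
    have := ofPt_eq_mk_ofHom g (Over.homMk (T.left.fromSpecResidueField x) rfl :
        Over.mk (T.left.fromSpecResidueField x ≫ T.hom) ⟶ T)
    rw [← this]
    congr 1
    exact (Scheme.fromSpecResidueField_apply _ _).symm
  rw [h1] at hx
  obtain ⟨Ω, _, w, a, b, hab⟩ := (mk_ofHom_eq_iff _ _).1 hx
  exact ⟨Ω, inferInstance, w, b, a ≫ Over.homMk (T.left.fromSpecResidueField x) rfl,
    (congrArg (· ≫ g) ((yon S).map_comp a _)).trans ((Category.assoc _ _ _).trans hab)⟩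

theorem exists_lift_of_mem_range {R Q : Over S} (m : R ⟶ Q) {K : Type u} [Field K]
    {sK : Spec (CommRingCat.of K) ⟶ S} (ω : Over.mk sK ⟶ Q)
    (h : ω.left (IsLocalRing.closedPoint K) ∈ Set.range m.left) :
    ∃ (L : Type u) (_ : Field L) (sL : Spec (CommRingCat.of L) ⟶ S)
      (ι : Over.mk sL ⟶ Over.mk sK) (ρ : Over.mk sL ⟶ R), ρ ≫ m = ι ≫ ω := by
  obtain ⟨r, hr⟩ := h
  have h1 : Points.mk (ofHom ((yon S).map ω)) ∈ Set.range (Points.ofPt ((yon S).map m)) := by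
    refine ⟨r, ?_⟩
    rw [ofPt_yon_map, hr, ofScheme_eq_mk_ofHom]
  obtain ⟨L, _, sL, ι, ρ, hρ⟩ := exists_lift_of_mem_range_ofPt _ _ h1
  refine ⟨L, inferInstance, sL, ι, ρ, (yon S).map_injective ?_⟩
  rw [Functor.map_comp, Functor.map_comp, hρ]

theorem exists_lift_pair {P : Sp S} {V : Over S} (b : (yon S).obj V ⟶ P)
    (hbs : RepWith @Surjective b) {K : Type u} [Field K] {sK : Spec (CommRingCat.of K) ⟶ S}
    (θ₁ θ₂ : (yon S).obj (Over.mk sK) ⟶ P) :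
    ∃ (L : Type u) (_ : Field L) (sL : Spec (CommRingCat.of L) ⟶ S)
      (ι : Over.mk sL ⟶ Over.mk sK) (v₁ v₂ : Over.mk sL ⟶ V),
      (yon S).map v₁ ≫ b = (yon S).map ι ≫ θ₁ ∧ (yon S).map v₂ ≫ b = (yon S).map ι ≫ θ₂ := by
  obtain ⟨L₁, _, s₁, ι₁, v₁, h₁⟩ :=
    exists_lift_of_mem_range_ofPt b θ₁ (ofPt_surjective b hbs _)
  obtain ⟨L₂, _, s₂, ι₂, v₂, h₂⟩ :=
    exists_lift_of_mem_range_ofPt b ((yon S).map ι₁ ≫ θ₂) (ofPt_surjective b hbs _)
  refine ⟨L₂, inferInstance, s₂, ι₂ ≫ ι₁, ι₂ ≫ v₁, v₂, ?_, ?_⟩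
  · rw [Functor.map_comp, Category.assoc, h₁, Functor.map_comp, Category.assoc]
  · rw [h₂, Functor.map_comp, Category.assoc]

/-! ### S10016 -/

set_option backward.isDefEq.respectTransparency false in
set_option maxHeartbeats 1600000 in
theorem main10016 [QuasiSeparatedSpace ↥S] {I : Type u} [SmallCategory I] [IsCofiltered I]
    (D : I ⥤ Sp S)
    (hDa : ∀ (i j : I) (φ : i ⟶ j), IsAffineMor (D.map φ))
    (c : Cone D) (hc : IsLimit c) (i₀ : I)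
    (X₀ Y₀ : Space S) (f₀ : X₀.obj ⟶ Y₀.obj) (b₀ : Y₀.obj ⟶ D.obj i₀)
    (hXqc : IsQuasiCompactSp X₀.obj) (hXqs : IsQuasiSeparatedSp X₀.obj)
    (hYqc : IsQuasiCompactSp Y₀.obj) (hYqs : IsQuasiSeparatedSp Y₀.obj)
    (X Y : Sp S) (f : X ⟶ Y) (pY : Y ⟶ Y₀.obj) (qY : Y ⟶ c.pt)
    (hY : IsPullback pY qY b₀ (c.π.app i₀)) (pX : X ⟶ X₀.obj) (hX : IsPullback pX f f₀ pY)
    (hf : IsUnivInjectiveMor f) (hf₀ : LocP @LocallyOfFiniteType f₀) :
    ∃ (i : I) (φ : i ⟶ i₀), ∀ (Xi Yi : Sp S) (fi : Xi ⟶ Yi) (pYi : Yi ⟶ Y₀.obj)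
      (qYi : Yi ⟶ D.obj i) (_ : IsPullback pYi qYi b₀ (D.map φ)) (pXi : Xi ⟶ X₀.obj)
      (_ : IsPullback pXi fi f₀ pYi), IsUnivInjectiveMor fi := by
  obtain ⟨W₀, a₀, hW₀, ha₀e, ha₀s⟩ := exists_affine_atlas hYqc
  haveI : IsAffine W₀.left := hW₀
  have ha₀qcm : IsQuasiCompactMor a₀ :=
    isQuasiCompactMor_of_isQuasiCompactSp_of_isQuasiSeparatedSp (IsAlgSpace.yon_obj W₀) a₀
      (isQuasiCompactSp_yon W₀) hYqs
  -- the fibre product `P = X₀ ×_{Y₀} W₀`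
  obtain ⟨P, π₁, u₀, sqP⟩ : ∃ (P : Sp S) (π₁ : P ⟶ X₀.obj) (u₀ : P ⟶ (yon S).obj W₀),
      IsPullback π₁ u₀ f₀ a₀ := ⟨_, _, _, IsPullback.of_hasPullback f₀ a₀⟩
  have hPqc : IsQuasiCompactSp P := ha₀qcm X₀.property hXqc f₀ u₀ π₁ sqP.flip
  obtain ⟨V, b, hV, hbe, hbs⟩ := exists_affine_atlas hPqc
  haveI : IsAffine V.left := hV
  have hπ₁e : RepWith @Etale π₁ := repWith_fst_of_isPullback _ sqP ha₀e
  have hχe : RepWith @Etale (b ≫ π₁) := repWith_comp _ hbe hπ₁e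
  obtain ⟨h₀, hh₀⟩ := (yon S).map_surjective (b ≫ u₀)
  have hcomm : (b ≫ π₁) ≫ f₀ = (yon S).map h₀ ≫ a₀ := by
    rw [hh₀, Category.assoc, Category.assoc, sqP.w]
  haveI hlft : LocallyOfFiniteType h₀.left := hf₀ _ a₀ h₀ hχe ha₀e hcomm
  -- the relation `R = V ×_P V`
  obtain ⟨R, r₁, r₂, hsqR⟩ : ∃ (R : Over S) (r₁ r₂ : R ⟶ V),
      IsPullback ((yon S).map r₁) ((yon S).map r₂) b b := ⟨_, _, _, hbe.rep.isPullback' b⟩
  haveI hr₁e : Etale r₁.left := hbe.property b _ _ hsqR.flip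
  have hχqc : IsQuasiCompactMor (b ≫ π₁) :=
    isQuasiCompactMor_of_isQuasiCompactSp_of_isQuasiSeparatedSp (IsAlgSpace.yon_obj V) _
      (isQuasiCompactSp_yon V) hXqs
  have hπ₁qs : IsQuasiSeparatedMor π₁ :=
    isQuasiSeparatedMor_of_isPullback sqP.flip (isQuasiSeparatedMor_from_yon_affine a₀)
  have hbqc : RepWith @QuasiCompact b := repWith_quasiCompact_of_isQuasiCompactMor b hbe.rep
    (isQuasiCompactMor_of_comp_of_isQuasiSeparatedMor b π₁ hχqc hπ₁qs)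
  haveI hr₂qc : QuasiCompact r₂.left := hbqc.property b _ _ hsqR
  haveI : CompactSpace ↥R.left := QuasiCompact.compactSpace_of_compactSpace r₂.left
  -- the fibre product `Q₀ = V ×_{W₀} V`
  obtain ⟨Q₀, pr₁, pr₂, sqQ, hQaff, hpr₁⟩ : ∃ (Q₀ : Over S) (pr₁ pr₂ : Q₀ ⟶ V),
      IsPullback pr₁ pr₂ h₀ h₀ ∧ IsAffine Q₀.left ∧ LocallyOfFiniteType pr₁.left := by
    refine ⟨Over.mk (pullback.fst h₀.left h₀.left ≫ V.hom),
      Over.homMk (pullback.fst h₀.left h₀.left) rfl,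
      Over.homMk (pullback.snd h₀.left h₀.left) ?_, ?_, ?_, ?_⟩
    · change pullback.snd h₀.left h₀.left ≫ V.hom = pullback.fst h₀.left h₀.left ≫ V.hom
      rw [← Over.w h₀, ← Category.assoc, ← Category.assoc, pullback.condition]
    · refine IsPullback.of_map (Over.forget S) ?_ ?_
      · ext
        exact pullback.condition
      · exact IsPullback.of_hasPullback h₀.left h₀.left
    · show IsAffine (pullback h₀.left h₀.left)
      infer_instance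
    · show LocallyOfFiniteType (pullback.fst h₀.left h₀.left)
      infer_instance
  haveI := hQaff
  haveI := hpr₁
  have hr : r₁ ≫ h₀ = r₂ ≫ h₀ := by
    apply (yon S).map_injective
    rw [Functor.map_comp, Functor.map_comp, hh₀, ← Category.assoc, ← Category.assoc, hsqR.w]
  obtain ⟨m₀, hm₁, hm₂⟩ : ∃ m₀ : R ⟶ Q₀, m₀ ≫ pr₁ = r₁ ∧ m₀ ≫ pr₂ = r₂ :=
    ⟨sqQ.lift r₁ r₂ hr, sqQ.lift_fst _ _ _, sqQ.lift_snd _ _ _⟩
  haveI : LocallyOfFinitePresentation (m₀.left ≫ pr₁.left) := by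
    have e : m₀.left ≫ pr₁.left = r₁.left := congrArg (fun t => t.left) hm₁
    rw [e]
    infer_instance
  haveI : LocallyOfFinitePresentation m₀.left :=
    locallyOfFinitePresentation_of_comp m₀.left pr₁.left
  haveI : QuasiCompact m₀.left := inferInstance
  have hcons : IsConstructible (Set.range m₀.left) := by
    rw [← Set.image_univ]
    exact Scheme.Hom.isConstructible_image m₀.left IsConstructible.univ
  -- points of `Q₀` whose two components agree in `P` lie in the image of `R`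
  have hK2 : ∀ {K : Type u} [Field K] {sK : Spec (CommRingCat.of K) ⟶ S} (ω : Over.mk sK ⟶ Q₀),
      (yon S).map (ω ≫ pr₁) ≫ b = (yon S).map (ω ≫ pr₂) ≫ b →
      ω.left (IsLocalRing.closedPoint K) ∈ Set.range m₀.left := by
    intro K _ sK ω hω
    obtain ⟨ρ, hρ⟩ := (yon S).map_surjective (hsqR.lift _ _ hω)
    have hρ1 : ρ ≫ r₁ = ω ≫ pr₁ := by
      apply (yon S).map_injective
      rw [Functor.map_comp, hρ, hsqR.lift_fst]
    have hρ2 : ρ ≫ r₂ = ω ≫ pr₂ := by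
      apply (yon S).map_injective
      rw [Functor.map_comp, hρ, hsqR.lift_snd]
    have hρm : ρ ≫ m₀ = ω := by
      apply sqQ.hom_ext
      · rw [Category.assoc, hm₁, hρ1]
      · rw [Category.assoc, hm₂, hρ2]
    refine ⟨ρ.left (IsLocalRing.closedPoint K), ?_⟩
    rw [← hρm]
    rfl
  -- the tower of `Q₀`
  obtain ⟨E, p, q, cE, fst, w, sq, hp, hq, hEaff, hqaff, ⟨hcE⟩, ⟨hl⟩, hπaff, hw, hfst, pb,
    hwaff⟩ := exists_tower D hDa c hc i₀ ((yon S).map (pr₁ ≫ h₀) ≫ a₀ ≫ b₀)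
  haveI : ∀ {j k : Over i₀} (φ : j ⟶ k), IsAffineHom ((E ⋙ Over.forget S).map φ) :=
    fun φ => hEaff _ _ φ
  have hrad := isRadicialMor_of_isUnivInjectiveMor f hf
  -- (I) the limit
  have hlim : ∀ e : ↥cE.pt.left, w.left e ∈ Set.range m₀.left := by
    intro e
    obtain ⟨K, _, sK, ε, hε⟩ : ∃ (K : Type u) (_ : Field K) (sK : Spec (CommRingCat.of K) ⟶ S)
        (ε : Over.mk sK ⟶ cE.pt), ε.left (IsLocalRing.closedPoint K) = e :=
      ⟨↥(cE.pt.left.residueField e), inferInstance,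
        cE.pt.left.fromSpecResidueField e ≫ cE.pt.hom,
        Over.homMk (cE.pt.left.fromSpecResidueField e) rfl,
        Scheme.fromSpecResidueField_apply _ _⟩
    have hv : (ε ≫ w ≫ pr₁) ≫ h₀ = (ε ≫ w ≫ pr₂) ≫ h₀ := by
      simp only [Category.assoc, sqQ.w]
    -- the point of `Y`
    have hcY : ((yon S).map ((ε ≫ w ≫ pr₁) ≫ h₀) ≫ a₀) ≫ b₀ =
        ((yon S).map ε ≫ fst) ≫ c.π.app i₀ := by
      rw [Category.assoc ((yon S).map ε), pb.w]
      simp only [Functor.map_comp, Category.assoc]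
    obtain ⟨η, hη1, hη2⟩ : ∃ η : (yon S).obj (Over.mk sK) ⟶ Y,
        η ≫ pY = (yon S).map ((ε ≫ w ≫ pr₁) ≫ h₀) ≫ a₀ ∧ η ≫ qY = (yon S).map ε ≫ fst :=
      ⟨hY.lift _ _ hcY, hY.lift_fst _ _ _, hY.lift_snd _ _ _⟩
    have hc1 : ((yon S).map (ε ≫ w ≫ pr₁) ≫ b ≫ π₁) ≫ f₀ = η ≫ pY := by
      rw [hη1, Category.assoc, Category.assoc, sqP.w, ← Category.assoc b, ← hh₀,
        ← Category.assoc, ← Functor.map_comp]
    have hc2 : ((yon S).map (ε ≫ w ≫ pr₂) ≫ b ≫ π₁) ≫ f₀ = η ≫ pY := by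
      rw [hη1, Category.assoc, Category.assoc, sqP.w, ← Category.assoc b, ← hh₀,
        ← Category.assoc, ← Functor.map_comp, hv]
    obtain ⟨ξ₁, hξ₁a, hξ₁b⟩ : ∃ ξ₁ : (yon S).obj (Over.mk sK) ⟶ X,
        ξ₁ ≫ pX = (yon S).map (ε ≫ w ≫ pr₁) ≫ b ≫ π₁ ∧ ξ₁ ≫ f = η :=
      ⟨hX.lift _ _ hc1, hX.lift_fst _ _ _, hX.lift_snd _ _ _⟩
    obtain ⟨ξ₂, hξ₂a, hξ₂b⟩ : ∃ ξ₂ : (yon S).obj (Over.mk sK) ⟶ X,
        ξ₂ ≫ pX = (yon S).map (ε ≫ w ≫ pr₂) ≫ b ≫ π₁ ∧ ξ₂ ≫ f = η :=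
      ⟨hX.lift _ _ hc2, hX.lift_fst _ _ _, hX.lift_snd _ _ _⟩
    obtain ⟨L, _, sL, ι, hι⟩ := hrad K sK ξ₁ ξ₂ (hξ₁b.trans hξ₂b.symm)
    have hιX : (yon S).map ι ≫ (yon S).map (ε ≫ w ≫ pr₁) ≫ b ≫ π₁ =
        (yon S).map ι ≫ (yon S).map (ε ≫ w ≫ pr₂) ≫ b ≫ π₁ := by
      rw [← hξ₁a, ← hξ₂a, ← Category.assoc, hι, Category.assoc]
    have hb : (yon S).map ((ι ≫ ε ≫ w) ≫ pr₁) ≫ b = (yon S).map ((ι ≫ ε ≫ w) ≫ pr₂) ≫ b := by
      apply sqP.hom_ext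
      · simpa only [Functor.map_comp, Category.assoc] using hιX
      · have h5 := congrArg (fun t => (yon S).map (ι ≫ t)) hv
        simpa only [Functor.map_comp, Category.assoc, hh₀] using h5
    have h6 := hK2 (ι ≫ ε ≫ w) hb
    have h7 : (ι ≫ ε ≫ w).left (IsLocalRing.closedPoint L) = w.left e := by
      rw [← hε]
      have : ι.left (IsLocalRing.closedPoint L) = IsLocalRing.closedPoint K :=
        (inferInstance : Subsingleton ↥(Spec (CommRingCat.of K))).elim _ _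
      rw [← this]
      rfl
    rw [h7] at h6
    exact h6
  -- descend to a stage
  obtain ⟨j₀, hj₀⟩ : ∃ j₀ : Over i₀, j₀ = Over.mk (𝟙 i₀) := ⟨_, rfl⟩
  haveI : IsAffineHom (q j₀).left := hqaff j₀
  haveI : IsAffine ((E ⋙ Over.forget S).obj j₀) := isAffine_of_isAffineHom (q j₀).left
  have hZ' : IsConstructible ((q j₀).left ⁻¹' (Set.range m₀.left)ᶜ) :=
    Scheme.Hom.isConstructible_preimage (q j₀).left hcons.compl
  have hemp : ((Over.forget S).mapCone cE).π.app j₀ ⁻¹'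
      ((q j₀).left ⁻¹' (Set.range m₀.left)ᶜ) = ∅ := by
    rw [Set.eq_empty_iff_forall_notMem]
    intro e he
    apply he
    show (q j₀).left ((cE.π.app j₀).left e) ∈ Set.range m₀.left
    have e1 : (q j₀).left ((cE.π.app j₀).left e) = w.left e := by
      rw [← hw j₀]
      rfl
    rw [e1]
    exact hlim e
  obtain ⟨k, ψ, hk⟩ := exists_preimage_eq_empty_of_isConstructible (E ⋙ Over.forget S)
    ((Over.forget S).mapCone cE) hl j₀ _ hZ' hemp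
  have hkr : ∀ e : ↥(E.obj k).left, (q k).left e ∈ Set.range m₀.left := by
    intro e
    by_contra hne
    have : e ∈ (E ⋙ Over.forget S).map ψ ⁻¹' ((q j₀).left ⁻¹' (Set.range m₀.left)ᶜ) := by
      show (q j₀).left ((E.map ψ).left e) ∉ Set.range m₀.left
      have e2 : (q j₀).left ((E.map ψ).left e) = (q k).left e := by
        rw [← hq k j₀ ψ]
        rfl
      rw [e2]
      exact hne
    rw [hk] at this
    exact this
  refine ⟨k.left, k.hom, ?_⟩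
  intro Xi Yi fi pYi qYi hYi pXi hXi
  apply isUnivInjectiveMor_of_isRadicialMor
  intro K _ sK ξ₁ ξ₂ hξ
  -- lift the image point to `W₀`
  obtain ⟨K₁, _, s₁, ι₁, t, ht⟩ := exists_lift_of_mem_range_ofPt a₀ ((ξ₁ ≫ fi) ≫ pYi)
    (ofPt_surjective a₀ ha₀s _)
  have hξ' : ξ₂ ≫ fi ≫ pYi = ξ₁ ≫ fi ≫ pYi := by
    rw [← Category.assoc, ← hξ, Category.assoc]
  have hθ1 : ((yon S).map ι₁ ≫ ξ₁ ≫ pXi) ≫ f₀ = (yon S).map t ≫ a₀ := by
    rw [ht]
    simp only [Category.assoc, hXi.w]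
  have hθ2 : ((yon S).map ι₁ ≫ ξ₂ ≫ pXi) ≫ f₀ = (yon S).map t ≫ a₀ := by
    rw [ht]
    simp only [Category.assoc, hXi.w, hξ']
  obtain ⟨θ₁, hθ₁a, hθ₁b⟩ : ∃ θ₁ : (yon S).obj (Over.mk s₁) ⟶ P,
      θ₁ ≫ π₁ = (yon S).map ι₁ ≫ ξ₁ ≫ pXi ∧ θ₁ ≫ u₀ = (yon S).map t :=
    ⟨sqP.lift _ _ hθ1, sqP.lift_fst _ _ _, sqP.lift_snd _ _ _⟩
  obtain ⟨θ₂, hθ₂a, hθ₂b⟩ : ∃ θ₂ : (yon S).obj (Over.mk s₁) ⟶ P,
      θ₂ ≫ π₁ = (yon S).map ι₁ ≫ ξ₂ ≫ pXi ∧ θ₂ ≫ u₀ = (yon S).map t :=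
    ⟨sqP.lift _ _ hθ2, sqP.lift_fst _ _ _, sqP.lift_snd _ _ _⟩
  obtain ⟨K₂, _, s₂, ι₂, v₁, v₂, hv₁, hv₂⟩ := exists_lift_pair b hbs θ₁ θ₂
  have hvh₁ : v₁ ≫ h₀ = ι₂ ≫ t := by
    apply (yon S).map_injective
    rw [Functor.map_comp, hh₀, ← Category.assoc, hv₁, Category.assoc, hθ₁b, ← Functor.map_comp]
  have hvh₂ : v₂ ≫ h₀ = ι₂ ≫ t := by
    apply (yon S).map_injective
    rw [Functor.map_comp, hh₀, ← Category.assoc, hv₂, Category.assoc, hθ₂b, ← Functor.map_comp]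
  obtain ⟨ω, hω₁, hω₂⟩ : ∃ ω : Over.mk s₂ ⟶ Q₀, ω ≫ pr₁ = v₁ ∧ ω ≫ pr₂ = v₂ :=
    ⟨sqQ.lift v₁ v₂ (hvh₁.trans hvh₂.symm), sqQ.lift_fst _ _ _, sqQ.lift_snd _ _ _⟩
  -- the point of the stage
  have hcE : ((yon S).map (ι₂ ≫ ι₁) ≫ (ξ₁ ≫ fi) ≫ qYi) ≫ D.map k.hom =
      (yon S).map ω ≫ (yon S).map (pr₁ ≫ h₀) ≫ a₀ ≫ b₀ := by
    have e1 : (yon S).map ω ≫ (yon S).map (pr₁ ≫ h₀) = (yon S).map ι₂ ≫ (yon S).map t := by
      rw [← Functor.map_comp, ← Category.assoc, hω₁, hvh₁, Functor.map_comp]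
    have ht' : (yon S).map t ≫ a₀ ≫ b₀ = (yon S).map ι₁ ≫ ξ₁ ≫ fi ≫ qYi ≫ D.map k.hom := by
      rw [← Category.assoc, ht]
      simp only [Category.assoc, hYi.w]
    rw [← Category.assoc ((yon S).map ω), e1]
    simp only [Functor.map_comp, Category.assoc]
    rw [ht']
  obtain ⟨ε, hε⟩ := (yon S).map_surjective ((sq k).lift _ _ hcE)
  have hεq : ε ≫ q k = ω := by
    apply (yon S).map_injective
    rw [Functor.map_comp, hε, (sq k).lift_snd]
  have h8 : ω.left (IsLocalRing.closedPoint K₂) ∈ Set.range m₀.left := by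
    rw [← hεq]
    exact hkr _
  obtain ⟨L, _, sL, ι₃, ρ, hρ⟩ := exists_lift_of_mem_range m₀ ω h8
  have hρ1 : ρ ≫ r₁ = ι₃ ≫ v₁ := by
    rw [← hm₁, ← Category.assoc, hρ, Category.assoc, hω₁]
  have hρ2 : ρ ≫ r₂ = ι₃ ≫ v₂ := by
    rw [← hm₂, ← Category.assoc, hρ, Category.assoc, hω₂]
  have hfin : (yon S).map (ι₃ ≫ v₁) ≫ b = (yon S).map (ι₃ ≫ v₂) ≫ b := by
    rw [← hρ1, ← hρ2, Functor.map_comp, Functor.map_comp, Category.assoc, Category.assoc, hsqR.w]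
  refine ⟨L, inferInstance, sL, ι₃ ≫ ι₂ ≫ ι₁, ?_⟩
  apply hXi.hom_ext
  · have h9 := congrArg (fun t => t ≫ π₁) hfin
    simp only [Functor.map_comp, Category.assoc, hv₁, hv₂, hθ₁a, hθ₂a] at h9
    simpa only [Functor.map_comp, Category.assoc] using h9
  · rw [Category.assoc, Category.assoc, hξ]

end Groth.Agent.Lib.LimTowerH7
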