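import Groth.Agent.Lib.LimTower10_helper7
import Groth.Agent.Lib.AlgSpFormal5_helper7

/-!
# Descending monomorphisms along a limit (helper7)
-/

set_option autoImplicit false
set_option linter.style.haveILetI false

universe u

open CategoryTheory CategoryTheory.Limits AlgebraicGeometry Opposite Topology
open AlgSp Groth.Agent.Lib.AlgSpPullback_helper7 Groth.Agent.Lib.AlgSpQC_helper7
  Groth.Agent.Lib.AlgSpPoints_helper7 Groth.Agent.Lib.AlgSpQC2_helper7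
  Groth.Agent.Lib.MonicGsectH6 Groth.Agent.Lib.AlgSpSep_helper7
  Groth.Agent.Lib.AlgSpDiag_helper7 Groth.Agent.Lib.AlgSpProper_helper7
  Groth.Agent.Lib.AlgSpEpi_helper7 Groth.Agent.Lib.AlgSpFormal5_helper7

namespace Groth.Agent.Lib.LimTowerH7

variable {S : Scheme.{u}}

/-- Lifting a point along an étale surjective chart after an fppf (étale) cover. -/
theorem exists_cover_lift {F : Sp S} {V : Over S} (b : (yon S).obj V ⟶ F)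
    (hbe : RepWith @Etale b) (hbs : RepWith @Surjective b) {T : Over S}
    (x : (yon S).obj T ⟶ F) :
    ∃ (T' : Over S) (s : T' ⟶ T) (v : T' ⟶ V), Epi ((yon S).map s) ∧
      (yon S).map v ≫ b = (yon S).map s ≫ x := by
  obtain ⟨T', s, v', sq⟩ : ∃ (T' : Over S) (s : T' ⟶ T)
      (v' : (yon S).obj T' ⟶ (yon S).obj V), IsPullback v' ((yon S).map s) b x :=
    ⟨_, _, _, hbe.rep.isPullback x⟩
  obtain ⟨v, hv⟩ := (yon S).map_surjective v'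
  haveI : Etale s.left := hbe.property _ _ _ sq
  refine ⟨T', s, v, epi_yon_map s (hbs.property _ _ _ sq) inferInstance inferInstance, ?_⟩
  rw [hv]
  exact sq.w

/-- A point of `Q₀ = V ×_{W₀} V` whose two components agree in `P` lifts to `R = V ×_P V`. -/
theorem exists_lift_of_eq {P : Sp S} {V R Q₀ W₀ : Over S} {b : (yon S).obj V ⟶ P}
    {h₀ : V ⟶ W₀} {r₁ r₂ : R ⟶ V}
    (hsqR : IsPullback ((yon S).map r₁) ((yon S).map r₂) b b)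
    {pr₁ pr₂ : Q₀ ⟶ V} (sqQ : IsPullback pr₁ pr₂ h₀ h₀) {m₀ : R ⟶ Q₀}
    (hm₁ : m₀ ≫ pr₁ = r₁) (hm₂ : m₀ ≫ pr₂ = r₂) {T : Over S} (ω : T ⟶ Q₀)
    (hω : (yon S).map (ω ≫ pr₁) ≫ b = (yon S).map (ω ≫ pr₂) ≫ b) :
    ∃ ρ : T ⟶ R, ρ ≫ m₀ = ω := by
  obtain ⟨ρ, hρ⟩ := (yon S).map_surjective (hsqR.lift _ _ hω)
  have hρ1 : ρ ≫ r₁ = ω ≫ pr₁ := by
    apply (yon S).map_injective
    rw [Functor.map_comp, hρ, hsqR.lift_fst]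
  have hρ2 : ρ ≫ r₂ = ω ≫ pr₂ := by
    apply (yon S).map_injective
    rw [Functor.map_comp, hρ, hsqR.lift_snd]
  refine ⟨ρ, ?_⟩
  apply sqQ.hom_ext
  · rw [Category.assoc, hm₁, hρ1]
  · rw [Category.assoc, hm₂, hρ2]

set_option backward.isDefEq.respectTransparency false in
/-- If the base change `f` of `f₀` is a monomorphism, compatible points of `Q₀` lift to `R`. -/
theorem lift_of_mono {X₀ Y₀ P : Sp S} {W₀ V R Q₀ : Over S} {f₀ : X₀ ⟶ Y₀}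
    {a₀ : (yon S).obj W₀ ⟶ Y₀} {π₁ : P ⟶ X₀} {u₀ : P ⟶ (yon S).obj W₀}
    (sqP : IsPullback π₁ u₀ f₀ a₀) {b : (yon S).obj V ⟶ P} {h₀ : V ⟶ W₀}
    (hh₀ : (yon S).map h₀ = b ≫ u₀) {r₁ r₂ : R ⟶ V}
    (hsqR : IsPullback ((yon S).map r₁) ((yon S).map r₂) b b)
    {pr₁ pr₂ : Q₀ ⟶ V} (sqQ : IsPullback pr₁ pr₂ h₀ h₀) {m₀ : R ⟶ Q₀}
    (hm₁ : m₀ ≫ pr₁ = r₁) (hm₂ : m₀ ≫ pr₂ = r₂)
    {X Y : Sp S} {f : X ⟶ Y} {pY : Y ⟶ Y₀} {pX : X ⟶ X₀} (hX : IsPullback pX f f₀ pY)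
    [Mono f] {T : Over S} (y : (yon S).obj T ⟶ Y) (ω : T ⟶ Q₀)
    (hyω : (yon S).map ((ω ≫ pr₁) ≫ h₀) ≫ a₀ = y ≫ pY) :
    ∃ ρ : T ⟶ R, ρ ≫ m₀ = ω := by
  have hv : (ω ≫ pr₁) ≫ h₀ = (ω ≫ pr₂) ≫ h₀ := by
    simp only [Category.assoc, sqQ.w]
  have hc1 : ((yon S).map (ω ≫ pr₁) ≫ b ≫ π₁) ≫ f₀ = y ≫ pY := by
    rw [← hyω, Category.assoc, Category.assoc, sqP.w, ← Category.assoc b, ← hh₀,
      ← Category.assoc, ← Functor.map_comp]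
  have hc2 : ((yon S).map (ω ≫ pr₂) ≫ b ≫ π₁) ≫ f₀ = y ≫ pY := by
    rw [← hyω, Category.assoc, Category.assoc, sqP.w, ← Category.assoc b, ← hh₀,
      ← Category.assoc, ← Functor.map_comp, hv]
  obtain ⟨ξ₁, hξ₁a, hξ₁b⟩ : ∃ ξ₁ : (yon S).obj T ⟶ X,
      ξ₁ ≫ pX = (yon S).map (ω ≫ pr₁) ≫ b ≫ π₁ ∧ ξ₁ ≫ f = y :=
    ⟨hX.lift _ _ hc1, hX.lift_fst _ _ _, hX.lift_snd _ _ _⟩
  obtain ⟨ξ₂, hξ₂a, hξ₂b⟩ : ∃ ξ₂ : (yon S).obj T ⟶ X,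
      ξ₂ ≫ pX = (yon S).map (ω ≫ pr₂) ≫ b ≫ π₁ ∧ ξ₂ ≫ f = y :=
    ⟨hX.lift _ _ hc2, hX.lift_fst _ _ _, hX.lift_snd _ _ _⟩
  have hξ : ξ₁ = ξ₂ := (cancel_mono f).1 (hξ₁b.trans hξ₂b.symm)
  have hb : (yon S).map (ω ≫ pr₁) ≫ b = (yon S).map (ω ≫ pr₂) ≫ b := by
    apply sqP.hom_ext
    · rw [Category.assoc, Category.assoc, ← hξ₁a, ← hξ₂a, hξ]
    · rw [Category.assoc, Category.assoc, ← hh₀, ← Functor.map_comp, ← Functor.map_comp, hv]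
  exact exists_lift_of_eq hsqR sqQ hm₁ hm₂ ω hb

set_option backward.isDefEq.respectTransparency false in
/-- Conversely, if compatible points of `Q₀` lift to `R`, the base change `fi` is a monomorphism. -/
theorem mono_of_lift {X₀ Y₀ P : Sp S} {W₀ V R Q₀ : Over S} {f₀ : X₀ ⟶ Y₀}
    {a₀ : (yon S).obj W₀ ⟶ Y₀} {π₁ : P ⟶ X₀} {u₀ : P ⟶ (yon S).obj W₀}
    (sqP : IsPullback π₁ u₀ f₀ a₀) {b : (yon S).obj V ⟶ P} {h₀ : V ⟶ W₀}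
    (hh₀ : (yon S).map h₀ = b ≫ u₀) {r₁ r₂ : R ⟶ V}
    (hsqR : IsPullback ((yon S).map r₁) ((yon S).map r₂) b b)
    {pr₁ pr₂ : Q₀ ⟶ V} (sqQ : IsPullback pr₁ pr₂ h₀ h₀) {m₀ : R ⟶ Q₀}
    (hm₁ : m₀ ≫ pr₁ = r₁) (hm₂ : m₀ ≫ pr₂ = r₂)
    (ha₀e : RepWith @Etale a₀) (ha₀s : RepWith @Surjective a₀)
    (hbe : RepWith @Etale b) (hbs : RepWith @Surjective b)
    {Xi Yi : Sp S} {fi : Xi ⟶ Yi} {pYi : Yi ⟶ Y₀} {pXi : Xi ⟶ X₀}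
    (hXi : IsPullback pXi fi f₀ pYi)
    (hlift : ∀ (T : Over S) (y : (yon S).obj T ⟶ Yi) (ω : T ⟶ Q₀),
      (yon S).map ((ω ≫ pr₁) ≫ h₀) ≫ a₀ = y ≫ pYi → ∃ ρ : T ⟶ R, ρ ≫ m₀ = ω) :
    Mono fi := by
  refine ⟨fun {Z} α' β' hαβ => ?_⟩
  apply hom_ext_yon
  intro T₀ x
  obtain ⟨α, hα⟩ : ∃ α : (yon S).obj T₀ ⟶ Xi, α = x ≫ α' := ⟨_, rfl⟩
  obtain ⟨β, hβ⟩ : ∃ β : (yon S).obj T₀ ⟶ Xi, β = x ≫ β' := ⟨_, rfl⟩
  have hab : α ≫ fi = β ≫ fi := by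
    rw [hα, hβ, Category.assoc, Category.assoc, hαβ]
  rw [← hα, ← hβ]
  refine hXi.hom_ext ?_ hab
  have hab' : β ≫ fi ≫ pYi = α ≫ fi ≫ pYi := by
    rw [← Category.assoc, ← hab, Category.assoc]
  obtain ⟨T₁, s₁, t₁, hs₁, ht₁⟩ := exists_cover_lift a₀ ha₀e ha₀s ((α ≫ fi) ≫ pYi)
  have hθ1 : ((yon S).map s₁ ≫ α ≫ pXi) ≫ f₀ = (yon S).map t₁ ≫ a₀ := by
    rw [ht₁]
    simp only [Category.assoc, hXi.w]
  have hθ2 : ((yon S).map s₁ ≫ β ≫ pXi) ≫ f₀ = (yon S).map t₁ ≫ a₀ := by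
    rw [ht₁]
    simp only [Category.assoc, hXi.w, hab']
  obtain ⟨θ₁, hθ₁a, hθ₁b⟩ : ∃ θ₁ : (yon S).obj T₁ ⟶ P,
      θ₁ ≫ π₁ = (yon S).map s₁ ≫ α ≫ pXi ∧ θ₁ ≫ u₀ = (yon S).map t₁ :=
    ⟨sqP.lift _ _ hθ1, sqP.lift_fst _ _ _, sqP.lift_snd _ _ _⟩
  obtain ⟨θ₂, hθ₂a, hθ₂b⟩ : ∃ θ₂ : (yon S).obj T₁ ⟶ P,
      θ₂ ≫ π₁ = (yon S).map s₁ ≫ β ≫ pXi ∧ θ₂ ≫ u₀ = (yon S).map t₁ :=
    ⟨sqP.lift _ _ hθ2, sqP.lift_fst _ _ _, sqP.lift_snd _ _ _⟩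
  obtain ⟨T₂, s₂, v₁', hs₂, hv₁'⟩ := exists_cover_lift b hbe hbs θ₁
  obtain ⟨T₃, s₃, v₂, hs₃, hv₂⟩ := exists_cover_lift b hbe hbs ((yon S).map s₂ ≫ θ₂)
  obtain ⟨v₁, hv₁d⟩ : ∃ v₁ : T₃ ⟶ V, v₁ = s₃ ≫ v₁' := ⟨_, rfl⟩
  have hv₁ : (yon S).map v₁ ≫ b = (yon S).map s₃ ≫ (yon S).map s₂ ≫ θ₁ := by
    rw [hv₁d, Functor.map_comp, Category.assoc, hv₁']
  have hvh₁ : v₁ ≫ h₀ = (s₃ ≫ s₂) ≫ t₁ := by
    apply (yon S).map_injective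
    rw [Functor.map_comp, hh₀, ← Category.assoc, hv₁]
    simp only [Functor.map_comp, Category.assoc, hθ₁b]
  have hvh₂ : v₂ ≫ h₀ = (s₃ ≫ s₂) ≫ t₁ := by
    apply (yon S).map_injective
    rw [Functor.map_comp, hh₀, ← Category.assoc, hv₂]
    simp only [Functor.map_comp, Category.assoc, hθ₂b]
  obtain ⟨ω, hω₁, hω₂⟩ : ∃ ω : T₃ ⟶ Q₀, ω ≫ pr₁ = v₁ ∧ ω ≫ pr₂ = v₂ :=
    ⟨sqQ.lift v₁ v₂ (hvh₁.trans hvh₂.symm), sqQ.lift_fst _ _ _, sqQ.lift_snd _ _ _⟩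
  have hy : (yon S).map ((ω ≫ pr₁) ≫ h₀) ≫ a₀ =
      ((yon S).map ((s₃ ≫ s₂) ≫ s₁) ≫ α ≫ fi) ≫ pYi := by
    rw [hω₁, hvh₁]
    simp only [Functor.map_comp, Category.assoc]
    rw [ht₁]
    simp only [Category.assoc]
  obtain ⟨ρ, hρ⟩ := hlift T₃ _ ω hy
  have hρ1 : ρ ≫ r₁ = v₁ := by
    rw [← hm₁, ← Category.assoc, hρ, hω₁]
  have hρ2 : ρ ≫ r₂ = v₂ := by
    rw [← hm₂, ← Category.assoc, hρ, hω₂]
  have hfin : (yon S).map v₁ ≫ b = (yon S).map v₂ ≫ b := by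
    rw [← hρ1, ← hρ2, Functor.map_comp, Functor.map_comp, Category.assoc, Category.assoc,
      hsqR.w]
  rw [hv₁, hv₂] at hfin
  have h9 := congrArg (fun t => t ≫ π₁) hfin
  simp only [Category.assoc, hθ₁a, hθ₂a] at h9
  haveI := hs₁
  haveI := hs₂
  haveI := hs₃
  exact (cancel_epi _).1 ((cancel_epi _).1 ((cancel_epi _).1 h9))

/-! ### S10022 -/

set_option backward.isDefEq.respectTransparency false in
set_option maxHeartbeats 1600000 in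
theorem main10022 [QuasiSeparatedSpace ↥S] {I : Type u} [SmallCategory I] [IsCofiltered I]
    (D : I ⥤ Sp S)
    (hDa : ∀ (i j : I) (φ : i ⟶ j), IsAffineMor (D.map φ))
    (c : Cone D) (hc : IsLimit c) (i₀ : I)
    (X₀ Y₀ : Space S) (f₀ : X₀.obj ⟶ Y₀.obj) (b₀ : Y₀.obj ⟶ D.obj i₀)
    (hXqc : IsQuasiCompactSp X₀.obj) (hXqs : IsQuasiSeparatedSp X₀.obj)
    (hYqc : IsQuasiCompactSp Y₀.obj) (hYqs : IsQuasiSeparatedSp Y₀.obj)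
    (X Y : Sp S) (f : X ⟶ Y) (pY : Y ⟶ Y₀.obj) (qY : Y ⟶ c.pt)
    (hY : IsPullback pY qY b₀ (c.π.app i₀)) (pX : X ⟶ X₀.obj) (hX : IsPullback pX f f₀ pY)
    [Mono f] (hf₀ : LocP @LocallyOfFiniteType f₀) :
    ∃ (i : I) (φ : i ⟶ i₀), ∀ (Xi Yi : Sp S) (fi : Xi ⟶ Yi) (pYi : Yi ⟶ Y₀.obj)
      (qYi : Yi ⟶ D.obj i) (_ : IsPullback pYi qYi b₀ (D.map φ)) (pXi : Xi ⟶ X₀.obj)
      (_ : IsPullback pXi fi f₀ pYi), Mono fi := by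
  obtain ⟨W₀, a₀, hW₀, ha₀e, ha₀s⟩ := exists_affine_atlas hYqc
  haveI : IsAffine W₀.left := hW₀
  have ha₀qcm : IsQuasiCompactMor a₀ :=
    isQuasiCompactMor_of_isQuasiCompactSp_of_isQuasiSeparatedSp (IsAlgSpace.yon_obj W₀) a₀
      (isQuasiCompactSp_yon W₀) hYqs
  -- the fibre product `P = X₀ ×_{Y₀} W₀`
  obtain ⟨P, π₁, u₀, sqP⟩ : ∃ (P : Sp S) (π₁ : P ⟶ X₀.obj) (u₀ : P ⟶ (yon S).obj W₀),
      IsPullback π₁ u₀ f₀ a₀ := ⟨_, _, _, IsPullback.of_hasPullback f₀ a₀⟩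
  have hPqc : IsQuasiCompactSp P := ha₀qcm X₀.property hXqc f₀ u₀ π₁ sqP.flip
  obtain ⟨V, b, hV, hbe, hbs⟩ := exists_affine_atlas hPqc
  haveI : IsAffine V.left := hV
  have hπ₁e : RepWith @Etale π₁ := repWith_fst_of_isPullback _ sqP ha₀e
  have hχe : RepWith @Etale (b ≫ π₁) := repWith_comp _ hbe hπ₁e
  obtain ⟨h₀, hh₀⟩ := (yon S).map_surjective (b ≫ u₀)
  have hcomm : (b ≫ π₁) ≫ f₀ = (yon S).map h₀ ≫ a₀ := by
    rw [hh₀, Category.assoc, Category.assoc, sqP.w]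
  haveI hlft : LocallyOfFiniteType h₀.left := hf₀ _ a₀ h₀ hχe ha₀e hcomm
  -- the relation `R = V ×_P V`
  obtain ⟨R, r₁, r₂, hsqR⟩ : ∃ (R : Over S) (r₁ r₂ : R ⟶ V),
      IsPullback ((yon S).map r₁) ((yon S).map r₂) b b := ⟨_, _, _, hbe.rep.isPullback' b⟩
  haveI hr₁e : Etale r₁.left := hbe.property b _ _ hsqR.flip
  have hχqc : IsQuasiCompactMor (b ≫ π₁) :=
    isQuasiCompactMor_of_isQuasiCompactSp_of_isQuasiSeparatedSp (IsAlgSpace.yon_obj V) _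
      (isQuasiCompactSp_yon V) hXqs
  have hπ₁qs : IsQuasiSeparatedMor π₁ :=
    isQuasiSeparatedMor_of_isPullback sqP.flip (isQuasiSeparatedMor_from_yon_affine a₀)
  have hbqc : RepWith @QuasiCompact b := repWith_quasiCompact_of_isQuasiCompactMor b hbe.rep
    (isQuasiCompactMor_of_comp_of_isQuasiSeparatedMor b π₁ hχqc hπ₁qs)
  haveI hr₂qc : QuasiCompact r₂.left := hbqc.property b _ _ hsqR
  haveI : CompactSpace ↥R.left := QuasiCompact.compactSpace_of_compactSpace r₂.left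
  -- the fibre product `Q₀ = V ×_{W₀} V`
  obtain ⟨Q₀, pr₁, pr₂, sqQ, hQaff, hpr₁⟩ : ∃ (Q₀ : Over S) (pr₁ pr₂ : Q₀ ⟶ V),
      IsPullback pr₁ pr₂ h₀ h₀ ∧ IsAffine Q₀.left ∧ LocallyOfFiniteType pr₁.left := by
    refine ⟨Over.mk (pullback.fst h₀.left h₀.left ≫ V.hom),
      Over.homMk (pullback.fst h₀.left h₀.left) rfl,
      Over.homMk (pullback.snd h₀.left h₀.left) ?_, ?_, ?_, ?_⟩
    · change pullback.snd h₀.left h₀.left ≫ V.hom = pullback.fst h₀.left h₀.left ≫ V.hom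
      rw [← Over.w h₀, ← Category.assoc, ← Category.assoc, pullback.condition]
    · refine IsPullback.of_map (Over.forget S) ?_ ?_
      · ext
        exact pullback.condition
      · exact IsPullback.of_hasPullback h₀.left h₀.left
    · show IsAffine (pullback h₀.left h₀.left)
      infer_instance
    · show LocallyOfFiniteType (pullback.fst h₀.left h₀.left)
      infer_instance
  haveI := hQaff
  haveI := hpr₁
  have hr : r₁ ≫ h₀ = r₂ ≫ h₀ := by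
    apply (yon S).map_injective
    rw [Functor.map_comp, Functor.map_comp, hh₀, ← Category.assoc, ← Category.assoc, hsqR.w]
  obtain ⟨m₀, hm₁, hm₂⟩ : ∃ m₀ : R ⟶ Q₀, m₀ ≫ pr₁ = r₁ ∧ m₀ ≫ pr₂ = r₂ :=
    ⟨sqQ.lift r₁ r₂ hr, sqQ.lift_fst _ _ _, sqQ.lift_snd _ _ _⟩
  haveI : LocallyOfFinitePresentation (m₀.left ≫ pr₁.left) := by
    have e : m₀.left ≫ pr₁.left = r₁.left := congrArg (fun t => t.left) hm₁
    rw [e]
    infer_instance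
  haveI : LocallyOfFinitePresentation m₀.left :=
    locallyOfFinitePresentation_of_comp m₀.left pr₁.left
  haveI : QuasiCompact m₀.left := inferInstance
  -- the tower of `Q₀`
  obtain ⟨E, p, q, cE, fst, w, sq, hp, hq, hEaff, hqaff, ⟨hcEl⟩, ⟨hl⟩, hπaff, hw, hfst, pb,
    hwaff⟩ := exists_tower D hDa c hc i₀ ((yon S).map (pr₁ ≫ h₀) ≫ a₀ ≫ b₀)
  haveI : ∀ {j k : Over i₀} (φ : j ⟶ k), IsAffineHom ((E ⋙ Over.forget S).map φ) :=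
    fun φ => hEaff _ _ φ
  haveI hEa : ∀ j : Over i₀, IsAffine ((E ⋙ Over.forget S).obj j) := fun j => by
    haveI : IsAffineHom (q j).left := hqaff j
    exact isAffine_of_isAffineHom (q j).left
  -- (I) the limit: `w` lifts to `R`
  have hcY : ((yon S).map ((w ≫ pr₁) ≫ h₀) ≫ a₀) ≫ b₀ = fst ≫ c.π.app i₀ := by
    rw [pb.w]
    simp only [Functor.map_comp, Category.assoc]
  obtain ⟨η, hη1, hη2⟩ : ∃ η : (yon S).obj cE.pt ⟶ Y,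
      η ≫ pY = (yon S).map ((w ≫ pr₁) ≫ h₀) ≫ a₀ ∧ η ≫ qY = fst :=
    ⟨hY.lift _ _ hcY, hY.lift_fst _ _ _, hY.lift_snd _ _ _⟩
  obtain ⟨a, ham⟩ := lift_of_mono sqP hh₀ hsqR sqQ hm₁ hm₂ hX η w hη1.symm
  -- (II) descend the lift to a stage
  let t : (E ⋙ Over.forget S) ⟶ (Functor.const (Over i₀)).obj Q₀.left :=
    { app := fun j => (q j).left
      naturality := fun j k φ => by
        change (E.map φ ≫ q k).left = (q j).left ≫ 𝟙 _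
        rw [Category.comp_id, hq j k φ] }
  have ha : ((Over.forget S).mapCone cE).π ≫ t =
      (Functor.const _).map (a.left ≫ m₀.left) := by
    ext j
    change (cE.π.app j ≫ q j).left = (a ≫ m₀).left
    rw [hw j, ham]
  obtain ⟨k, gk, hgk1, hgk2⟩ := Scheme.exists_π_app_comp_eq_of_locallyOfFinitePresentation
    (E ⋙ Over.forget S) t m₀.left ((Over.forget S).mapCone cE) hl a.left ha
  have hgk2' : gk ≫ m₀.left = (q k).left := hgk2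
  have hgR : gk ≫ R.hom = (E.obj k).hom := by
    rw [← Over.w m₀, ← Category.assoc, hgk2']
    exact Over.w (q k)
  obtain ⟨g', hg'⟩ : ∃ g' : E.obj k ⟶ R, g'.left = gk := ⟨Over.homMk gk hgR, rfl⟩
  have hg'm : g' ≫ m₀ = q k := by
    ext
    change g'.left ≫ m₀.left = (q k).left
    rw [hg', hgk2']
  -- (III) the stage
  refine ⟨k.left, k.hom, ?_⟩
  intro Xi Yi fi pYi qYi hYi pXi hXi
  refine mono_of_lift sqP hh₀ hsqR sqQ hm₁ hm₂ ha₀e ha₀s hbe hbs hXi ?_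
  intro T y ω hyω
  have hcE : (y ≫ qYi) ≫ D.map k.hom =
      (yon S).map ω ≫ (yon S).map (pr₁ ≫ h₀) ≫ a₀ ≫ b₀ := by
    rw [Category.assoc, ← hYi.w, ← Category.assoc, ← hyω]
    simp only [Functor.map_comp, Category.assoc]
  obtain ⟨ε, hε⟩ := (yon S).map_surjective ((sq k).lift _ _ hcE)
  have hεq : ε ≫ q k = ω := by
    apply (yon S).map_injective
    rw [Functor.map_comp, hε, (sq k).lift_snd]
  exact ⟨ε ≫ g', by rw [Category.assoc, hg'm, hεq]⟩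

end Groth.Agent.Lib.LimTowerH7
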