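import Groth.Agent.Lib.SchLimTower_helper7
import Mathlib.RingTheory.Smooth.NoetherianDescent
import Mathlib.AlgebraicGeometry.Morphisms.Etale
import Mathlib.AlgebraicGeometry.Morphisms.Smooth
import Mathlib.AlgebraicGeometry.Morphisms.FinitePresentation

/-!
# Étale and smooth morphisms descend along cofiltered limits of affine schemes (helper7)
-/

set_option autoImplicit false
set_option linter.style.haveILetI false
set_option linter.unusedSectionVars false

universe u

open CategoryTheory CategoryTheory.Limits AlgebraicGeometry TensorProduct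

namespace Groth.Agent.Lib.SchLimTowerH7

/-- Hypothesis: algebras with the property `Q` have models over finitely generated subrings. -/
def ModelHyp (Q : ∀ {R S : Type u} [CommRing R] [CommRing S], (R →+* S) → Prop) : Prop :=
  ∀ (R R' : Type u) [CommRing R] [CommRing R'] [Algebra R R'], Q (algebraMap R R') →
    ∃ (A₀ : Subalgebra ℤ R) (B₀ : Type u) (_ : CommRing B₀) (_ : Algebra A₀ B₀),
      A₀.FG ∧ Q (algebraMap A₀ B₀) ∧ (algebraMap A₀ B₀).FinitePresentation ∧
      Nonempty (R' ≃ₐ[R] R ⊗[A₀] B₀)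

theorem modelHyp_etale : ModelHyp.{u} (fun f => RingHom.Etale f) := by
  intro R R' _ _ _ h
  haveI : Algebra.Etale R R' := RingHom.etale_algebraMap.1 h
  obtain ⟨A₀, B₀, _, _, h1, h2, h3⟩ := Algebra.Etale.exists_subalgebra_fg ℤ R R'
  refine ⟨A₀, B₀, inferInstance, inferInstance, h1, RingHom.etale_algebraMap.2 h2, ?_, h3⟩
  exact RingHom.finitePresentation_algebraMap.2 inferInstance

theorem modelHyp_smooth : ModelHyp.{u} (fun f => RingHom.Smooth f) := by
  intro R R' _ _ _ h
  haveI : Algebra.Smooth R R' := RingHom.smooth_algebraMap.1 h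
  obtain ⟨A₀, B₀, _, _, h1, h2, h3⟩ := Algebra.Smooth.exists_subalgebra_fg ℤ R R'
  refine ⟨A₀, B₀, inferInstance, inferInstance, h1, RingHom.smooth_algebraMap.2 h2, ?_, h3⟩
  exact RingHom.finitePresentation_algebraMap.2 inferInstance

theorem finitePresentation_of_fg {R : Type u} [CommRing R] (A₀ : Subalgebra ℤ R) (hfg : A₀.FG) :
    ((algebraMap ℤ ↥A₀).comp
      (ULift.ringEquiv : ULift.{u} ℤ ≃+* ℤ).toRingHom).FinitePresentation := by
  have hft : Algebra.FiniteType ℤ ↥A₀ := (Subalgebra.fg_iff_finiteType A₀).1 hfg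
  have h1 : (algebraMap ℤ ↥A₀).FiniteType := RingHom.finiteType_algebraMap.2 hft
  have h2 : (ULift.ringEquiv : ULift.{u} ℤ ≃+* ℤ).toRingHom.FiniteType :=
    RingHom.FiniteType.of_surjective _ ULift.ringEquiv.surjective
  haveI : IsNoetherianRing (ULift.{u} ℤ) :=
    isNoetherianRing_of_ringEquiv ℤ (ULift.ringEquiv : ULift.{u} ℤ ≃+* ℤ).symm
  exact RingHom.FinitePresentation.of_finiteType.1 (h1.comp h2)

/-- A morphism of affine schemes with the property `P` is the base change of one with `P` between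
affine schemes of finite presentation over `ℤ`. -/
theorem exists_model {P : MorphismProperty Scheme.{u}}
    {Q : ∀ {R S : Type u} [CommRing R] [CommRing S], (R →+* S) → Prop} [HasRingHomProperty P Q]
    (hQ : ModelHyp Q) {A B : Scheme.{u}} [IsAffine A] [IsAffine B] (u : A ⟶ B) (hu : P u) :
    ∃ (X' E' : Scheme.{u}) (_ : IsAffine X') (_ : IsAffine E') (e : E' ⟶ X') (a : B ⟶ X')
      (θ : A ⟶ E') (z : X' ⟶ Spec (CommRingCat.of (ULift.{u} ℤ))),
      P e ∧ LocallyOfFinitePresentation e ∧ LocallyOfFinitePresentation z ∧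
        IsPullback θ u e a := by
  have hφ : Q (u.appTop).hom := (HasRingHomProperty.iff_of_isAffine (P := P)).1 hu
  letI alg : Algebra ↑Γ(B, ⊤) ↑Γ(A, ⊤) := (u.appTop).hom.toAlgebra
  obtain ⟨A₀, B₀, _, _, hfg, hQ₀, hfp₀, ⟨iso⟩⟩ := hQ ↑Γ(B, ⊤) ↑Γ(A, ⊤) hφ
  let f₁ : CommRingCat.of ↥A₀ ⟶ Γ(B, ⊤) := CommRingCat.ofHom (algebraMap ↥A₀ ↑Γ(B, ⊤))
  let g₁ : CommRingCat.of ↥A₀ ⟶ CommRingCat.of B₀ := CommRingCat.ofHom (algebraMap ↥A₀ B₀)
  let inr : CommRingCat.of B₀ ⟶ Γ(A, ⊤) :=
    CommRingCat.ofHom ((iso.symm : (↑Γ(B, ⊤) ⊗[↥A₀] B₀) →+* ↑Γ(A, ⊤)).comp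
      Algebra.TensorProduct.includeRight.toRingHom)
  have po : IsPushout f₁ g₁ u.appTop inr := by
    refine (CommRingCat.isPushout_tensorProduct ↥A₀ ↑Γ(B, ⊤) B₀).of_iso (Iso.refl _) (Iso.refl _)
      (Iso.refl _) iso.symm.toRingEquiv.toCommRingCatIso ?_ ?_ ?_ ?_
    · rfl
    · rfl
    · ext x
      have h1 := iso.symm.commutes x
      have h2 : (algebraMap ↑Γ(B, ⊤) ↑Γ(A, ⊤)) x = (u.appTop).hom x := rfl
      rw [h2] at h1
      simpa using h1
    · rfl
  have pb := isPullback_SpecMap_of_isPushout f₁ g₁ u.appTop inr po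
  let ζ : CommRingCat.of (ULift.{u} ℤ) ⟶ CommRingCat.of ↥A₀ :=
    CommRingCat.ofHom ((algebraMap ℤ ↥A₀).comp (ULift.ringEquiv : ULift.{u} ℤ ≃+* ℤ).toRingHom)
  refine ⟨Spec (CommRingCat.of ↥A₀), Spec (CommRingCat.of B₀), inferInstance, inferInstance,
    Spec.map g₁, B.isoSpec.hom ≫ Spec.map f₁, A.isoSpec.hom ≫ Spec.map inr, Spec.map ζ,
    ?_, ?_, ?_, ?_⟩
  · exact (HasRingHomProperty.Spec_iff (P := P)).2 hQ₀
  · exact (HasRingHomProperty.Spec_iff (P := @LocallyOfFinitePresentation)).2 hfp₀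
  · exact (HasRingHomProperty.Spec_iff (P := @LocallyOfFinitePresentation)).2
      (finitePresentation_of_fg A₀ hfg)
  · refine pb.flip.of_iso A.isoSpec.symm (Iso.refl _) B.isoSpec.symm (Iso.refl _) ?_ ?_ ?_ ?_
    · simp
    · exact Scheme.isoSpec_inv_naturality u
    · simp
    · simp

section Descend

variable {J : Type u} [SmallCategory J] [IsCofiltered J] (W : J ⥤ Scheme.{u})
  [∀ {j k : J} (φ : j ⟶ k), IsAffineHom (W.map φ)] [∀ j, IsAffine (W.obj j)]
  (c : Cone W) (hc : IsLimit c)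

include hc in
theorem isAffine_pt : IsAffine c.pt := by
  obtain ⟨j₀⟩ : Nonempty J := IsCofiltered.nonempty
  haveI : IsAffineHom (c.π.app j₀) := isAffineHom_π_app W c hc j₀
  exact isAffine_of_isAffineHom (c.π.app j₀)

set_option backward.isDefEq.respectTransparency false in
include hc in
/-- A property of morphisms of affine schemes admitting finitely presented models descends from
the limit of a tower of pullbacks to a finite stage. -/
theorem exists_stage_of_model {P : MorphismProperty Scheme.{u}} [P.IsStableUnderBaseChange]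
    {Q : ∀ {R S : Type u} [CommRing R] [CommRing S], (R →+* S) → Prop} [HasRingHomProperty P Q]
    (hQ : ModelHyp Q) {T V : Scheme.{u}} [IsAffine T] [IsAffine V]
    (t : W ⟶ (Functor.const J).obj T) (h : V ⟶ T) [LocallyOfFinitePresentation h]
    (τ : c.pt ⟶ T) (hτ : ∀ j, c.π.app j ≫ t.app j = τ) (hP : P (pullback.snd h τ)) :
    ∃ j : J, P (pullback.snd h (t.app j)) := by
  haveI : P.RespectsIso := MorphismProperty.IsStableUnderBaseChange.respectsIso
  haveI : IsAffine c.pt := isAffine_pt W c hc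
  obtain ⟨X', E', hX', hE', e, a, θ, z, hPe, hfe, hfz, sq⟩ := exists_model hQ (pullback.snd h τ) hP
  haveI := hX'
  haveI := hE'
  haveI := hfe
  haveI := hfz
  -- spread out the map to the model of the base
  let tZ : W ⟶ (Functor.const J).obj (Spec (CommRingCat.of (ULift.{u} ℤ))) :=
    { app := fun j => specULiftZIsTerminal.from (W.obj j)
      naturality := fun j k φ => specULiftZIsTerminal.hom_ext _ _ }
  have ha : c.π ≫ tZ = (Functor.const J).map (a ≫ z) := by
    ext j
    exact specULiftZIsTerminal.hom_ext _ _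
  obtain ⟨k₁, γ, hγ, -⟩ := Scheme.exists_π_app_comp_eq_of_locallyOfFinitePresentation
    W tZ z c hc a ha
  -- restrict to the indices over `k₁`
  let W' : Over k₁ ⥤ Scheme.{u} := Over.forget k₁ ⋙ W
  haveI : ∀ {j k : Over k₁} (φ : j ⟶ k), IsAffineHom (W'.map φ) :=
    fun φ => inferInstanceAs (IsAffineHom (W.map φ.left))
  haveI : ∀ j : Over k₁, IsAffine (W'.obj j) := fun j => inferInstanceAs (IsAffine (W.obj j.left))
  let c' : Cone W' := c.whisker (Over.forget k₁)
  have hc' : IsLimit c' := (Functor.Initial.isLimitWhiskerEquiv (Over.forget k₁) c).symm hc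
  let t' : W' ⟶ (Functor.const (Over k₁)).obj T :=
    { app := fun j => t.app j.left
      naturality := fun j k φ => by
        have e1 : W.map φ.left ≫ t.app k.left = t.app j.left := t_w W t φ.left
        exact e1.trans (Category.comp_id _).symm }
  let tX : W' ⟶ (Functor.const (Over k₁)).obj X' :=
    { app := fun j => W.map j.hom ≫ γ
      naturality := fun j k φ => by
        have e1 : W.map φ.left ≫ W.map k.hom ≫ γ = W.map j.hom ≫ γ := by
          rw [← Category.assoc, ← W.map_comp, Over.w]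
        exact e1.trans (Category.comp_id _).symm }
  have hτ' : ∀ j : Over k₁, c'.π.app j ≫ t'.app j = τ := fun j => hτ j.left
  have hτX : ∀ j : Over k₁, c'.π.app j ≫ tX.app j = a := fun j => by
    show c.π.app j.left ≫ W.map j.hom ≫ γ = a
    rw [← Category.assoc, c.w, hγ]
  obtain ⟨j', θ', hθ'⟩ := exists_iso_stage W' c' hc' t' h τ hτ' tX e a hτX sq.isoPullback
    (sq.isoPullback_hom_snd)
  refine ⟨j'.left, ?_⟩
  have h1 : P (pullback.snd e (tX.app j')) := P.pullback_snd _ _ hPe
  have h2 : P (θ'.hom ≫ pullback.snd e (tX.app j')) :=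
    (P.cancel_left_of_respectsIso θ'.hom _).2 h1
  rw [hθ'] at h2
  exact h2

end Descend

end Groth.Agent.Lib.SchLimTowerH7
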