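import Groth.Agent.Lib.LimTower11_helper7
import Groth.Agent.Lib.SchLimEtale_helper7
import Groth.Agent.Lib.AlgSpLocP8_helper7
import Groth.Agent.Lib.AlgSpLocP10_helper7

/-!
# Descending étale and smooth morphisms along a limit of algebraic spaces (helper7)
-/

set_option autoImplicit false
set_option linter.style.haveILetI false

universe u

open CategoryTheory CategoryTheory.Limits AlgebraicGeometry Opposite Topology
open AlgSp Groth.Agent.Lib.AlgSpPullback_helper7 Groth.Agent.Lib.AlgSpQC_helper7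
  Groth.Agent.Lib.AlgSpPoints_helper7 Groth.Agent.Lib.AlgSpQC2_helper7
  Groth.Agent.Lib.MonicGsectH6 Groth.Agent.Lib.AlgSpSep_helper7
  Groth.Agent.Lib.AlgSpDiag_helper7 Groth.Agent.Lib.AlgSpProper_helper7
  Groth.Agent.Lib.AlgSpEpi_helper7 Groth.Agent.Lib.AlgSpFormal5_helper7
  Groth.Agent.Lib.AlgSpLocP4_helper7 Groth.Agent.Lib.AlgSpLocP7_helper7
  Groth.Agent.Lib.AlgSpLocP8_helper7 Groth.Agent.Lib.AlgSpLocP10_helper7
  Groth.Agent.Lib.SchLimTowerH7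

namespace Groth.Agent.Lib.LimTowerH7

variable {S : Scheme.{u}}

/-! ### Fibre products of schemes over `S` with explicit underlying scheme -/

section OvPb

variable {V W₀ W' : Over S} (h₀ : V ⟶ W₀) (w' : W' ⟶ W₀)

/-- the fibre product `V ×_{W₀} W'` over `S`, with underlying scheme the chosen pullback -/
noncomputable def ovPb : Over S := Over.mk (pullback.fst h₀.left w'.left ≫ V.hom)

noncomputable def ovPbFst : ovPb h₀ w' ⟶ V := Over.homMk (pullback.fst h₀.left w'.left) rfl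

noncomputable def ovPbSnd : ovPb h₀ w' ⟶ W' :=
  Over.homMk (pullback.snd h₀.left w'.left) (by
    show pullback.snd h₀.left w'.left ≫ W'.hom = pullback.fst h₀.left w'.left ≫ V.hom
    rw [← Over.w h₀, ← Over.w w', ← Category.assoc, ← Category.assoc, pullback.condition])

theorem ovPb_isPullback : IsPullback (ovPbFst h₀ w') (ovPbSnd h₀ w') h₀ w' := by
  refine IsPullback.of_map (Over.forget S) ?_ ?_
  · ext
    exact pullback.condition
  · exact IsPullback.of_hasPullback h₀.left w'.left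

theorem ovPb_isPullback_yon : IsPullback ((yon S).map (ovPbFst h₀ w'))
    ((yon S).map (ovPbSnd h₀ w')) ((yon S).map h₀) ((yon S).map w') :=
  (ovPb_isPullback h₀ w').map (yon S)

end OvPb

/-! ### Charts of a base change -/

set_option backward.isDefEq.respectTransparency false in
theorem exists_chart_baseChange {X₀ Y₀ P : Sp S} {W₀ V : Over S} {f₀ : X₀ ⟶ Y₀}
    {a₀ : (yon S).obj W₀ ⟶ Y₀} {π₁ : P ⟶ X₀} {u₀ : P ⟶ (yon S).obj W₀}
    (sqP : IsPullback π₁ u₀ f₀ a₀) {b : (yon S).obj V ⟶ P} {h₀ : V ⟶ W₀}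
    (hh₀ : (yon S).map h₀ = b ≫ u₀)
    {X' Y' : Sp S} {f' : X' ⟶ Y'} {pY' : Y' ⟶ Y₀} {pX' : X' ⟶ X₀}
    (hX' : IsPullback pX' f' f₀ pY') {W' : Over S} (w' : W' ⟶ W₀)
    (b' : (yon S).obj W' ⟶ Y') (sqW : IsPullback b' ((yon S).map w') pY' a₀) :
    ∃ a' : (yon S).obj (ovPb h₀ w') ⟶ X',
      IsPullback a' ((yon S).map (ovPbFst h₀ w')) pX' (b ≫ π₁) ∧
      a' ≫ f' = (yon S).map (ovPbSnd h₀ w') ≫ b' := by
  have hcomm : (b ≫ π₁) ≫ f₀ = (yon S).map h₀ ≫ a₀ := by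
    rw [hh₀, Category.assoc, Category.assoc, sqP.w]
  have outer : IsPullback ((yon S).map (ovPbSnd h₀ w') ≫ b') ((yon S).map (ovPbFst h₀ w')) pY'
      ((yon S).map h₀ ≫ a₀) := (ovPb_isPullback_yon h₀ w').flip.paste_horiz sqW
  have hc : ((yon S).map (ovPbFst h₀ w') ≫ b ≫ π₁) ≫ f₀ =
      ((yon S).map (ovPbSnd h₀ w') ≫ b') ≫ pY' := by
    rw [Category.assoc, hcomm, outer.w]
  obtain ⟨a', ha1, ha2⟩ : ∃ a' : (yon S).obj (ovPb h₀ w') ⟶ X',
      a' ≫ pX' = (yon S).map (ovPbFst h₀ w') ≫ b ≫ π₁ ∧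
      a' ≫ f' = (yon S).map (ovPbSnd h₀ w') ≫ b' :=
    ⟨hX'.lift _ _ hc, hX'.lift_fst _ _ _, hX'.lift_snd _ _ _⟩
  refine ⟨a', ?_, ha2⟩
  have outer' : IsPullback (a' ≫ f') ((yon S).map (ovPbFst h₀ w')) pY' ((b ≫ π₁) ≫ f₀) := by
    rw [ha2, hcomm]
    exact outer
  exact IsPullback.of_right outer' ha1 hX'.flip

/-! ### The generic descent statement -/

set_option backward.isDefEq.respectTransparency false in
set_option maxHeartbeats 1600000 in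
theorem main_descend_locP {P : MorphismProperty Scheme.{u}} [P.IsStableUnderBaseChange]
    {Q : ∀ {R S : Type u} [CommRing R] [CommRing S], (R →+* S) → Prop} [HasRingHomProperty P Q]
    (hQ : ModelHyp Q) (hPl : EtLocal P)
    [QuasiSeparatedSpace ↥S] {I : Type u} [SmallCategory I] [IsCofiltered I]
    (D : I ⥤ Sp S)
    (hDa : ∀ (i j : I) (φ : i ⟶ j), IsAffineMor (D.map φ))
    (c : Cone D) (hc : IsLimit c) (i₀ : I)
    (X₀ Y₀ : Space S) (f₀ : X₀.obj ⟶ Y₀.obj) (b₀ : Y₀.obj ⟶ D.obj i₀)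
    (hXqc : IsQuasiCompactSp X₀.obj)
    (hYqc : IsQuasiCompactSp Y₀.obj) (hYqs : IsQuasiSeparatedSp Y₀.obj)
    (X Y : Sp S) (f : X ⟶ Y) (pY : Y ⟶ Y₀.obj) (qY : Y ⟶ c.pt)
    (hY : IsPullback pY qY b₀ (c.π.app i₀)) (pX : X ⟶ X₀.obj) (hX : IsPullback pX f f₀ pY)
    (hf : LocP P f) (hf₀ : LocP @LocallyOfFinitePresentation f₀) :
    ∃ (i : I) (φ : i ⟶ i₀), ∀ (Xi Yi : Sp S) (fi : Xi ⟶ Yi) (pYi : Yi ⟶ Y₀.obj)
      (qYi : Yi ⟶ D.obj i) (_ : IsPullback pYi qYi b₀ (D.map φ)) (pXi : Xi ⟶ X₀.obj)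
      (_ : IsPullback pXi fi f₀ pYi), LocP P fi := by
  obtain ⟨W₀, a₀, hW₀, ha₀e, ha₀s⟩ := exists_affine_atlas hYqc
  haveI : IsAffine W₀.left := hW₀
  have ha₀qcm : IsQuasiCompactMor a₀ :=
    isQuasiCompactMor_of_isQuasiCompactSp_of_isQuasiSeparatedSp (IsAlgSpace.yon_obj W₀) a₀
      (isQuasiCompactSp_yon W₀) hYqs
  obtain ⟨P', π₁, u₀, sqP⟩ : ∃ (P' : Sp S) (π₁ : P' ⟶ X₀.obj) (u₀ : P' ⟶ (yon S).obj W₀),
      IsPullback π₁ u₀ f₀ a₀ := ⟨_, _, _, IsPullback.of_hasPullback f₀ a₀⟩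
  have hPqc : IsQuasiCompactSp P' := ha₀qcm X₀.property hXqc f₀ u₀ π₁ sqP.flip
  obtain ⟨V, b, hV, hbe, hbs⟩ := exists_affine_atlas hPqc
  haveI : IsAffine V.left := hV
  have hπ₁e : RepWith @Etale π₁ := repWith_fst_of_isPullback _ sqP ha₀e
  have hπ₁s : RepWith @Surjective π₁ := repWith_fst_of_isPullback _ sqP ha₀s
  have hχe : RepWith @Etale (b ≫ π₁) := repWith_comp _ hbe hπ₁e
  have hχs : RepWith @Surjective (b ≫ π₁) := repWith_comp _ hbs hπ₁s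
  obtain ⟨h₀, hh₀⟩ := (yon S).map_surjective (b ≫ u₀)
  have hcomm : (b ≫ π₁) ≫ f₀ = (yon S).map h₀ ≫ a₀ := by
    rw [hh₀, Category.assoc, Category.assoc, sqP.w]
  haveI hlfp : LocallyOfFinitePresentation h₀.left := hf₀ _ a₀ h₀ hχe ha₀e hcomm
  -- the tower of `W₀`
  obtain ⟨E, p, q, cE, fst, w, sq, hp, hq, hEaff, hqaff, ⟨hcEl⟩, ⟨hl⟩, hπaff, hw, hfst, pb,
    hwaff⟩ := exists_tower D hDa c hc i₀ (a₀ ≫ b₀)
  haveI : ∀ {j k : Over i₀} (φ : j ⟶ k), IsAffineHom ((E ⋙ Over.forget S).map φ) :=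
    fun φ => hEaff _ _ φ
  haveI hEa : ∀ j : Over i₀, IsAffine ((E ⋙ Over.forget S).obj j) := fun j => by
    haveI : IsAffineHom (q j).left := hqaff j
    exact isAffine_of_isAffineHom (q j).left
  -- (I) the limit
  have hcY : ((yon S).map w ≫ a₀) ≫ b₀ = fst ≫ c.π.app i₀ := by
    rw [pb.w, Category.assoc]
  obtain ⟨bL, hb1, hb2⟩ : ∃ bL : (yon S).obj cE.pt ⟶ Y,
      bL ≫ pY = (yon S).map w ≫ a₀ ∧ bL ≫ qY = fst :=
    ⟨hY.lift _ _ hcY, hY.lift_fst _ _ _, hY.lift_snd _ _ _⟩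
  have sqWL : IsPullback bL ((yon S).map w) pY a₀ := by
    have outer : IsPullback (bL ≫ qY) ((yon S).map w) (c.π.app i₀) (a₀ ≫ b₀) := by
      rw [hb2]
      exact pb
    exact IsPullback.of_right outer hb1 hY.flip
  obtain ⟨aL, sqAL, commL⟩ := exists_chart_baseChange sqP hh₀ hX w bL sqWL
  have haLe : RepWith @Etale aL := repWith_fst_of_isPullback _ sqAL hχe
  have hbLe : RepWith @Etale bL := repWith_fst_of_isPullback _ sqWL ha₀e
  have hPL : P (pullback.snd h₀.left w.left) := hf aL bL (ovPbSnd h₀ w) haLe hbLe commL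
  -- (II) descend to a stage
  let t : (E ⋙ Over.forget S) ⟶ (Functor.const (Over i₀)).obj W₀.left :=
    { app := fun j => (q j).left
      naturality := fun j k φ => by
        change (E.map φ ≫ q k).left = (q j).left ≫ 𝟙 _
        rw [Category.comp_id, hq j k φ] }
  have hτ : ∀ j : Over i₀, ((Over.forget S).mapCone cE).π.app j ≫ t.app j = w.left := by
    intro j
    change (cE.π.app j ≫ q j).left = w.left
    rw [hw j]
  obtain ⟨k, hPk⟩ := exists_stage_of_model (E ⋙ Over.forget S) ((Over.forget S).mapCone cE) hl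
    hQ t h₀.left w.left hτ hPL
  have hPk' : P (ovPbSnd h₀ (q k)).left := hPk
  -- (III) the stage
  refine ⟨k.left, k.hom, ?_⟩
  intro Xi Yi fi pYi qYi hYi pXi hXi
  have hcYk : ((yon S).map (q k) ≫ a₀) ≫ b₀ = p k ≫ D.map k.hom := by
    rw [(sq k).w, Category.assoc]
  obtain ⟨bk, hbk1, hbk2⟩ : ∃ bk : (yon S).obj (E.obj k) ⟶ Yi,
      bk ≫ pYi = (yon S).map (q k) ≫ a₀ ∧ bk ≫ qYi = p k :=
    ⟨hYi.lift _ _ hcYk, hYi.lift_fst _ _ _, hYi.lift_snd _ _ _⟩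
  have sqWk : IsPullback bk ((yon S).map (q k)) pYi a₀ := by
    have outer : IsPullback (bk ≫ qYi) ((yon S).map (q k)) (D.map k.hom) (a₀ ≫ b₀) := by
      rw [hbk2]
      exact sq k
    exact IsPullback.of_right outer hbk1 hYi.flip
  obtain ⟨ak, sqAk, commk⟩ := exists_chart_baseChange sqP hh₀ hXi (q k) bk sqWk
  have hake : RepWith @Etale ak := repWith_fst_of_isPullback _ sqAk hχe
  have haks : RepWith @Surjective ak := repWith_fst_of_isPullback _ sqAk hχs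
  have hbke : RepWith @Etale bk := repWith_fst_of_isPullback _ sqWk ha₀e
  exact locP_of_one_chart hPl fi ak bk (ovPbSnd h₀ (q k)) hake haks hbke commk hPk'

/-! ### S10013, S10014 -/

theorem main10013 [QuasiSeparatedSpace ↥S] {I : Type u} [SmallCategory I] [IsCofiltered I]
    (D : I ⥤ Sp S) (hD : ∀ i, IsAlgSpace (D.obj i))
    (hDa : ∀ (i j : I) (φ : i ⟶ j), IsAffineMor (D.map φ))
    (c : Cone D) (hc : IsLimit c) (i₀ : I)
    (X₀ Y₀ : Space S) (f₀ : X₀.obj ⟶ Y₀.obj) (b₀ : Y₀.obj ⟶ D.obj i₀)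
    (hXqc : IsQuasiCompactSp X₀.obj)
    (hYqc : IsQuasiCompactSp Y₀.obj) (hYqs : IsQuasiSeparatedSp Y₀.obj)
    (X Y : Sp S) (f : X ⟶ Y) (pY : Y ⟶ Y₀.obj) (qY : Y ⟶ c.pt)
    (hY : IsPullback pY qY b₀ (c.π.app i₀)) (pX : X ⟶ X₀.obj) (hX : IsPullback pX f f₀ pY)
    (hf : IsEtaleMor f) (hf₀ : LocP @LocallyOfFinitePresentation f₀) :
    ∃ (i : I) (φ : i ⟶ i₀), ∀ (Xi Yi : Sp S) (fi : Xi ⟶ Yi) (pYi : Yi ⟶ Y₀.obj)
      (qYi : Yi ⟶ D.obj i) (_ : IsPullback pYi qYi b₀ (D.map φ)) (pXi : Xi ⟶ X₀.obj)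
      (_ : IsPullback pXi fi f₀ pYi), IsEtaleMor fi := by
  have hYalg : IsAlgSpace Y :=
    isAlgSpace_of_isPullback (hD i₀).diag Y₀.property (main10004 D hD hDa c hc).1 hY
  have hfL : LocP @Etale f := (isEtaleMor_iff_locP hYalg f).1 hf
  obtain ⟨i, φ, h⟩ := main_descend_locP modelHyp_etale etLocal_etale D hDa c hc i₀ X₀ Y₀ f₀ b₀
    hXqc hYqc hYqs X Y f pY qY hY pX hX hfL hf₀
  refine ⟨i, φ, fun Xi Yi fi pYi qYi hYi pXi hXi => ?_⟩
  have hYialg : IsAlgSpace Yi :=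
    isAlgSpace_of_isPullback (hD i₀).diag Y₀.property (hD i) hYi
  exact isEtaleMor_of_locP hYialg fi (h Xi Yi fi pYi qYi hYi pXi hXi)

theorem main10014 [QuasiSeparatedSpace ↥S] {I : Type u} [SmallCategory I] [IsCofiltered I]
    (D : I ⥤ Sp S)
    (hDa : ∀ (i j : I) (φ : i ⟶ j), IsAffineMor (D.map φ))
    (c : Cone D) (hc : IsLimit c) (i₀ : I)
    (X₀ Y₀ : Space S) (f₀ : X₀.obj ⟶ Y₀.obj) (b₀ : Y₀.obj ⟶ D.obj i₀)
    (hXqc : IsQuasiCompactSp X₀.obj)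
    (hYqc : IsQuasiCompactSp Y₀.obj) (hYqs : IsQuasiSeparatedSp Y₀.obj)
    (X Y : Sp S) (f : X ⟶ Y) (pY : Y ⟶ Y₀.obj) (qY : Y ⟶ c.pt)
    (hY : IsPullback pY qY b₀ (c.π.app i₀)) (pX : X ⟶ X₀.obj) (hX : IsPullback pX f f₀ pY)
    (hf : LocP @Smooth f) (hf₀ : LocP @LocallyOfFinitePresentation f₀) :
    ∃ (i : I) (φ : i ⟶ i₀), ∀ (Xi Yi : Sp S) (fi : Xi ⟶ Yi) (pYi : Yi ⟶ Y₀.obj)
      (qYi : Yi ⟶ D.obj i) (_ : IsPullback pYi qYi b₀ (D.map φ)) (pXi : Xi ⟶ X₀.obj)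
      (_ : IsPullback pXi fi f₀ pYi), LocP @Smooth fi :=
  main_descend_locP modelHyp_smooth etLocal_smooth D hDa c hc i₀ X₀ Y₀ f₀ b₀
    hXqc hYqc hYqs X Y f pY qY hY pX hX hf hf₀

end Groth.Agent.Lib.LimTowerH7
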