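import Groth.Agent.Lib.LimTower12_helper7
import Groth.Agent.Lib.AlgSpCov_helper7

/-!
# Descending isomorphisms along a limit of algebraic spaces (helper7)
-/

set_option autoImplicit false
set_option linter.style.haveILetI false

universe u

open CategoryTheory CategoryTheory.Limits AlgebraicGeometry Opposite Topology
open AlgSp Groth.Agent.Lib.AlgSpPullback_helper7 Groth.Agent.Lib.AlgSpQC_helper7
  Groth.Agent.Lib.AlgSpPoints_helper7 Groth.Agent.Lib.AlgSpQC2_helper7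
  Groth.Agent.Lib.AlgSpProper_helper7 Groth.Agent.Lib.AlgSpCov_helper7
  Groth.Agent.Lib.AlgSpLocP_helper7
  Groth.Agent.Lib.AlgSpLocP4_helper7 Groth.Agent.Lib.AlgSpLocP7_helper7
  Groth.Agent.Lib.AlgSpLocP8_helper7 Groth.Agent.Lib.AlgSpLocP10_helper7
  Groth.Agent.Lib.SchLimTowerH7

namespace Groth.Agent.Lib.LimTowerH7

variable {S : Scheme.{u}}

/-- A base change at a later stage is a base change of a base change at an earlier stage. -/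
theorem exists_later_stage_square {I : Type u} [SmallCategory I] (D : I ⥤ Sp S) {i₀ : I}
    {X₀ Y₀ : Sp S} (f₀ : X₀ ⟶ Y₀) (b₀ : Y₀ ⟶ D.obj i₀) {i₁ : I} (φ₁ : i₁ ⟶ i₀) {i : I}
    (α : i ⟶ i₁) {Xi Yi : Sp S} {fi : Xi ⟶ Yi} {pYi : Yi ⟶ Y₀} {qYi : Yi ⟶ D.obj i}
    (hYi : IsPullback pYi qYi b₀ (D.map (α ≫ φ₁))) {pXi : Xi ⟶ X₀}
    (hXi : IsPullback pXi fi f₀ pYi) :
    ∃ (X₁ Y₁ : Sp S) (f₁ : X₁ ⟶ Y₁) (pY₁ : Y₁ ⟶ Y₀) (qY₁ : Y₁ ⟶ D.obj i₁)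
      (_ : IsPullback pY₁ qY₁ b₀ (D.map φ₁)) (pX₁ : X₁ ⟶ X₀) (_ : IsPullback pX₁ f₁ f₀ pY₁)
      (g' : Xi ⟶ X₁) (g : Yi ⟶ Y₁), IsPullback g' fi f₁ g := by
  have sqY := IsPullback.of_hasPullback b₀ (D.map φ₁)
  have sqX := IsPullback.of_hasPullback f₀ (pullback.fst b₀ (D.map φ₁))
  have hg : pYi ≫ b₀ = (qYi ≫ D.map α) ≫ D.map φ₁ := by
    rw [Category.assoc, ← D.map_comp, hYi.w]
  obtain ⟨g, hg1, hg2⟩ : ∃ g : Yi ⟶ pullback b₀ (D.map φ₁),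
      g ≫ pullback.fst b₀ (D.map φ₁) = pYi ∧ g ≫ pullback.snd b₀ (D.map φ₁) = qYi ≫ D.map α :=
    ⟨sqY.lift _ _ hg, sqY.lift_fst _ _ _, sqY.lift_snd _ _ _⟩
  have hg' : pXi ≫ f₀ = (fi ≫ g) ≫ pullback.fst b₀ (D.map φ₁) := by
    rw [Category.assoc, hg1, hXi.w]
  obtain ⟨g', hg'1, hg'2⟩ : ∃ g' : Xi ⟶ pullback f₀ (pullback.fst b₀ (D.map φ₁)),
      g' ≫ pullback.fst f₀ (pullback.fst b₀ (D.map φ₁)) = pXi ∧
      g' ≫ pullback.snd f₀ (pullback.fst b₀ (D.map φ₁)) = fi ≫ g :=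
    ⟨sqX.lift _ _ hg', sqX.lift_fst _ _ _, sqX.lift_snd _ _ _⟩
  refine ⟨_, _, _, _, _, sqY, _, sqX, g', g, ?_⟩
  have outer : IsPullback (g' ≫ pullback.fst f₀ (pullback.fst b₀ (D.map φ₁))) fi f₀
      (g ≫ pullback.fst b₀ (D.map φ₁)) := by
    rw [hg'1, hg1]
    exact hXi
  exact IsPullback.of_right outer hg'2 sqX

theorem mono_snd_of_isPullback {A B A' B' : Sp S} {f : A ⟶ B} {f' : A' ⟶ B'} {g' : A' ⟶ A}
    {g : B' ⟶ B} (sq : IsPullback g' f' f g) [Mono f] : Mono f' := by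
  refine ⟨fun {Z} a b hab => ?_⟩
  apply sq.hom_ext _ hab
  rw [← cancel_mono f, Category.assoc, Category.assoc, sq.w, ← Category.assoc, hab,
    Category.assoc]

/-! ### S10021 -/

set_option backward.isDefEq.respectTransparency false in
theorem main10021 [QuasiSeparatedSpace ↥S] {I : Type u} [SmallCategory I] [IsCofiltered I]
    (D : I ⥤ Sp S) (hD : ∀ i, IsAlgSpace (D.obj i))
    (hDa : ∀ (i j : I) (φ : i ⟶ j), IsAffineMor (D.map φ))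
    (c : Cone D) (hc : IsLimit c) (i₀ : I)
    (X₀ Y₀ : Space S) (f₀ : X₀.obj ⟶ Y₀.obj) (b₀ : Y₀.obj ⟶ D.obj i₀)
    (hXqc : IsQuasiCompactSp X₀.obj) (hXqs : IsQuasiSeparatedSp X₀.obj)
    (hYqc : IsQuasiCompactSp Y₀.obj) (hYqs : IsQuasiSeparatedSp Y₀.obj)
    (X Y : Sp S) (f : X ⟶ Y) (pY : Y ⟶ Y₀.obj) (qY : Y ⟶ c.pt)
    (hY : IsPullback pY qY b₀ (c.π.app i₀)) (pX : X ⟶ X₀.obj) (hX : IsPullback pX f f₀ pY)
    [IsIso f] (hf₀ : LocP @LocallyOfFinitePresentation f₀) :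
    ∃ (i : I) (φ : i ⟶ i₀), ∀ (Xi Yi : Sp S) (fi : Xi ⟶ Yi) (pYi : Yi ⟶ Y₀.obj)
      (qYi : Yi ⟶ D.obj i) (_ : IsPullback pYi qYi b₀ (D.map φ)) (pXi : Xi ⟶ X₀.obj)
      (_ : IsPullback pXi fi f₀ pYi), IsIso fi := by
  have hfE : LocP @Etale f :=
    locP_of_repWith @Etale (fun _ _ g hg => hg) f (repWith_of_isIso @Etale f)
  have hfS : IsSurjectiveMor f := by
    intro y
    refine ⟨Points.map (inv f) y, ?_⟩
    rw [← Points.map_comp, IsIso.inv_hom_id, Points.map_id]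
  have hft : LocP @LocallyOfFiniteType f₀ := fun U V a b h hae hbe comm => by
    haveI : LocallyOfFinitePresentation h.left := hf₀ a b h hae hbe comm
    infer_instance
  obtain ⟨i₁, φ₁, h₁⟩ := main_descend_locP modelHyp_etale etLocal_etale D hDa c hc i₀ X₀ Y₀ f₀ b₀
    hXqc hYqc hYqs X Y f pY qY hY pX hX hfE hf₀
  obtain ⟨i₂, φ₂, h₂⟩ := main10015 D hDa c hc i₀ X₀ Y₀ f₀ b₀ hXqc hYqc hYqs X Y f pY qY hY pX hX
    hfS hf₀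
  obtain ⟨i₃, φ₃, h₃⟩ := main10022 D hDa c hc i₀ X₀ Y₀ f₀ b₀ hXqc hXqs hYqc hYqs X Y f pY qY hY
    pX hX hft
  obtain ⟨j, β₁, β₂, e12⟩ := IsCofiltered.cospan φ₁ φ₂
  obtain ⟨i, γ, β₃, e3⟩ := IsCofiltered.cospan (β₁ ≫ φ₁) φ₃
  have eq1 : (γ ≫ β₁) ≫ φ₁ = γ ≫ β₁ ≫ φ₁ := Category.assoc _ _ _
  have eq2 : (γ ≫ β₂) ≫ φ₂ = γ ≫ β₁ ≫ φ₁ := by rw [Category.assoc, e12]
  have eq3 : β₃ ≫ φ₃ = γ ≫ β₁ ≫ φ₁ := e3.symm
  refine ⟨i, γ ≫ β₁ ≫ φ₁, ?_⟩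
  intro Xi Yi fi pYi qYi hYi pXi hXi
  have hYialg : IsAlgSpace Yi := isAlgSpace_of_isPullback (hD i₀).diag Y₀.property (hD i) hYi
  have hXialg : IsAlgSpace Xi := isAlgSpace_of_isPullback Y₀.property.diag X₀.property hYialg hXi
  -- étale
  have hE : LocP @Etale fi := by
    have hYi' : IsPullback pYi qYi b₀ (D.map ((γ ≫ β₁) ≫ φ₁)) := by rw [eq1]; exact hYi
    obtain ⟨X₁, Y₁, f₁, pY₁, qY₁, hY₁, pX₁, hX₁, g', g, sq⟩ :=
      exists_later_stage_square D f₀ b₀ φ₁ (γ ≫ β₁) hYi' hXi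
    have hY₁alg : IsAlgSpace Y₁ := isAlgSpace_of_isPullback (hD i₀).diag Y₀.property (hD i₁) hY₁
    have hX₁alg : IsAlgSpace X₁ :=
      isAlgSpace_of_isPullback Y₀.property.diag X₀.property hY₁alg hX₁
    exact locP_baseChange etLocal_etale hX₁alg hY₁alg hYialg f₁ g g' fi sq
      (h₁ X₁ Y₁ f₁ pY₁ qY₁ hY₁ pX₁ hX₁)
  -- surjective
  have hS : IsSurjectiveMor fi := by
    have hYi' : IsPullback pYi qYi b₀ (D.map ((γ ≫ β₂) ≫ φ₂)) := by rw [eq2]; exact hYi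
    obtain ⟨X₁, Y₁, f₁, pY₁, qY₁, hY₁, pX₁, hX₁, g', g, sq⟩ :=
      exists_later_stage_square D f₀ b₀ φ₂ (γ ≫ β₂) hYi' hXi
    exact isSurjectiveMor_of_isPullback sq (h₂ X₁ Y₁ f₁ pY₁ qY₁ hY₁ pX₁ hX₁)
  -- mono
  haveI hM : Mono fi := by
    have hYi' : IsPullback pYi qYi b₀ (D.map (β₃ ≫ φ₃)) := by rw [eq3]; exact hYi
    obtain ⟨X₁, Y₁, f₁, pY₁, qY₁, hY₁, pX₁, hX₁, g', g, sq⟩ :=
      exists_later_stage_square D f₀ b₀ φ₃ β₃ hYi' hXi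
    haveI : Mono f₁ := h₃ X₁ Y₁ f₁ pY₁ qY₁ hY₁ pX₁ hX₁
    exact mono_snd_of_isPullback sq
  haveI : Epi fi := epi_of_fppf hXialg hYialg fi
    (fun U V a b h hae hbe comm => by
      haveI : Etale h.left := hE a b h hae hbe comm
      infer_instance)
    (fun U V a b h hae hbe comm => by
      haveI : Etale h.left := hE a b h hae hbe comm
      infer_instance) hS
  exact isIso_of_mono_of_epi fi

end Groth.Agent.Lib.LimTowerH7
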