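import Groth.Agent.Lib.LimTower12_helper7
import Groth.Agent.Lib.LimFlatDesc_helper7

/-!
# Descending flat morphisms along a limit of algebraic spaces (helper7)

`main_descend_locP'` generalises `main_descend_locP` of `LimTower12_helper7` (the model hypothesis is
replaced by a stage hypothesis for towers of affine schemes); `main10082` is the flat case.
-/

set_option autoImplicit false
set_option linter.style.haveILetI false

universe u

open CategoryTheory CategoryTheory.Limits AlgebraicGeometry Opposite Topology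
open AlgSp Groth.Agent.Lib.AlgSpPullback_helper7 Groth.Agent.Lib.AlgSpQC_helper7
  Groth.Agent.Lib.AlgSpPoints_helper7 Groth.Agent.Lib.AlgSpQC2_helper7
  Groth.Agent.Lib.MonicGsectH6 Groth.Agent.Lib.AlgSpSep_helper7
  Groth.Agent.Lib.AlgSpDiag_helper7 Groth.Agent.Lib.AlgSpProper_helper7
  Groth.Agent.Lib.AlgSpEpi_helper7 Groth.Agent.Lib.AlgSpFormal5_helper7
  Groth.Agent.Lib.AlgSpLocP4_helper7 Groth.Agent.Lib.AlgSpLocP7_helper7
  Groth.Agent.Lib.AlgSpLocP8_helper7 Groth.Agent.Lib.AlgSpLocP10_helper7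
  Groth.Agent.Lib.SchLimTowerH7

namespace Groth.Agent.Lib.LimTowerH7

variable {S : Scheme.{u}}

/-- Stage hypothesis: `P` descends from the limit of a tower of affine schemes to a stage, for base
changes of a fixed morphism locally of finite presentation between affine schemes. -/
def StageHyp (P : MorphismProperty Scheme.{u}) : Prop :=
  ∀ {J : Type u} [SmallCategory J] [IsCofiltered J] (W : J ⥤ Scheme.{u})
    [∀ {j k : J} (φ : j ⟶ k), IsAffineHom (W.map φ)] [∀ j, IsAffine (W.obj j)]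
    (c : Cone W) (_ : IsLimit c) {T V : Scheme.{u}} [IsAffine T] [IsAffine V]
    (t : W ⟶ (Functor.const J).obj T) (h : V ⟶ T) [LocallyOfFinitePresentation h]
    (τ : c.pt ⟶ T) (_ : ∀ j, c.π.app j ≫ t.app j = τ), P (pullback.snd h τ) →
    ∃ j : J, P (pullback.snd h (t.app j))

set_option backward.isDefEq.respectTransparency false in
theorem stageHyp_of_affAffStage {P : MorphismProperty Scheme.{u}} [P.RespectsIso]
    (hA : Groth.Agent.Lib.LimSrcH7.AffAffStage P (fun f => LocallyOfFinitePresentation f)) :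
    StageHyp P := by
  intro J _ _ W _ _ c hc T V _ _ t h _ τ hτ hP
  obtain ⟨j₀⟩ : Nonempty J := IsCofiltered.nonempty
  haveI : ∀ (i j : J) (f : i ⟶ j), IsAffineHom (W.map f) := fun _ _ f => inferInstance
  haveI : IsAffine (pullback h (t.app j₀)) := inferInstance
  have hP' : P (pullback.snd (pullback.snd h (t.app j₀)) (c.π.app j₀)) := by
    rw [Groth.Agent.Lib.LimIsoH7.snd_snd_iff (P := P), hτ]
    exact hP
  obtain ⟨j, φ, hj⟩ := hA W c hc j₀ (pullback.snd h (t.app j₀)) inferInstance hP'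
  rw [Groth.Agent.Lib.LimIsoH7.snd_snd_iff (P := P)] at hj
  have e : W.map φ ≫ t.app j₀ = t.app j := by
    have := t.naturality φ
    simpa using this
  rw [e] at hj
  exact ⟨j, hj⟩

theorem stageHyp_flat : StageHyp (@Flat : MorphismProperty Scheme.{u}) :=
  stageHyp_of_affAffStage Groth.Agent.Lib.LimFlatDescH7.affAffStage_flat

/-! ### The generic descent statement -/

set_option backward.isDefEq.respectTransparency false in
set_option maxHeartbeats 1600000 in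
theorem main_descend_locP' {P : MorphismProperty Scheme.{u}} [P.IsStableUnderBaseChange]
    (hSt : StageHyp P) (hPl : EtLocal P)
    [QuasiSeparatedSpace ↥S] {I : Type u} [SmallCategory I] [IsCofiltered I]
    (D : I ⥤ Sp S)
    (hDa : ∀ (i j : I) (φ : i ⟶ j), IsAffineMor (D.map φ))
    (c : Cone D) (hc : IsLimit c) (i₀ : I)
    (X₀ Y₀ : Space S) (f₀ : X₀.obj ⟶ Y₀.obj) (b₀ : Y₀.obj ⟶ D.obj i₀)
    (hXqc : IsQuasiCompactSp X₀.obj)
    (hYqc : IsQuasiCompactSp Y₀.obj) (hYqs : IsQuasiSeparatedSp Y₀.obj)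
    (X Y : Sp S) (f : X ⟶ Y) (pY : Y ⟶ Y₀.obj) (qY : Y ⟶ c.pt)
    (hY : IsPullback pY qY b₀ (c.π.app i₀)) (pX : X ⟶ X₀.obj) (hX : IsPullback pX f f₀ pY)
    (hf : LocP P f) (hf₀ : LocP @LocallyOfFinitePresentation f₀) :
    ∃ (i : I) (φ : i ⟶ i₀), ∀ (Xi Yi : Sp S) (fi : Xi ⟶ Yi) (pYi : Yi ⟶ Y₀.obj)
      (qYi : Yi ⟶ D.obj i) (_ : IsPullback pYi qYi b₀ (D.map φ)) (pXi : Xi ⟶ X₀.obj)
      (_ : IsPullback pXi fi f₀ pYi), LocP P fi := by
  obtain ⟨W₀, a₀, hW₀, ha₀e, ha₀s⟩ := exists_affine_atlas hYqc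
  haveI : IsAffine W₀.left := hW₀
  have ha₀qcm : IsQuasiCompactMor a₀ :=
    isQuasiCompactMor_of_isQuasiCompactSp_of_isQuasiSeparatedSp (IsAlgSpace.yon_obj W₀) a₀
      (isQuasiCompactSp_yon W₀) hYqs
  obtain ⟨P', π₁, u₀, sqP⟩ : ∃ (P' : Sp S) (π₁ : P' ⟶ X₀.obj) (u₀ : P' ⟶ (yon S).obj W₀),
      IsPullback π₁ u₀ f₀ a₀ := ⟨_, _, _, IsPullback.of_hasPullback f₀ a₀⟩
  have hPqc : IsQuasiCompactSp P' := ha₀qcm X₀.property hXqc f₀ u₀ π₁ sqP.flip
  obtain ⟨V, b, hV, hbe, hbs⟩ := exists_affine_atlas hPqc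
  haveI : IsAffine V.left := hV
  have hπ₁e : RepWith @Etale π₁ := repWith_fst_of_isPullback _ sqP ha₀e
  have hπ₁s : RepWith @Surjective π₁ := repWith_fst_of_isPullback _ sqP ha₀s
  have hχe : RepWith @Etale (b ≫ π₁) := repWith_comp _ hbe hπ₁e
  have hχs : RepWith @Surjective (b ≫ π₁) := repWith_comp _ hbs hπ₁s
  obtain ⟨h₀, hh₀⟩ := (yon S).map_surjective (b ≫ u₀)
  have hcomm : (b ≫ π₁) ≫ f₀ = (yon S).map h₀ ≫ a₀ := by
    rw [hh₀, Category.assoc, Category.assoc, sqP.w]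
  haveI hlfp : LocallyOfFinitePresentation h₀.left := hf₀ _ a₀ h₀ hχe ha₀e hcomm
  -- the tower of `W₀`
  obtain ⟨E, p, q, cE, fst, w, sq, hp, hq, hEaff, hqaff, ⟨hcEl⟩, ⟨hl⟩, hπaff, hw, hfst, pb,
    hwaff⟩ := exists_tower D hDa c hc i₀ (a₀ ≫ b₀)
  haveI : ∀ {j k : Over i₀} (φ : j ⟶ k), IsAffineHom ((E ⋙ Over.forget S).map φ) :=
    fun φ => hEaff _ _ φ
  haveI hEa : ∀ j : Over i₀, IsAffine ((E ⋙ Over.forget S).obj j) := fun j => by
    haveI : IsAffineHom (q j).left := hqaff j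
    exact isAffine_of_isAffineHom (q j).left
  -- (I) the limit
  have hcY : ((yon S).map w ≫ a₀) ≫ b₀ = fst ≫ c.π.app i₀ := by
    rw [pb.w, Category.assoc]
  obtain ⟨bL, hb1, hb2⟩ : ∃ bL : (yon S).obj cE.pt ⟶ Y,
      bL ≫ pY = (yon S).map w ≫ a₀ ∧ bL ≫ qY = fst :=
    ⟨hY.lift _ _ hcY, hY.lift_fst _ _ _, hY.lift_snd _ _ _⟩
  have sqWL : IsPullback bL ((yon S).map w) pY a₀ := by
    have outer : IsPullback (bL ≫ qY) ((yon S).map w) (c.π.app i₀) (a₀ ≫ b₀) := by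
      rw [hb2]
      exact pb
    exact IsPullback.of_right outer hb1 hY.flip
  obtain ⟨aL, sqAL, commL⟩ := exists_chart_baseChange sqP hh₀ hX w bL sqWL
  have haLe : RepWith @Etale aL := repWith_fst_of_isPullback _ sqAL hχe
  have hbLe : RepWith @Etale bL := repWith_fst_of_isPullback _ sqWL ha₀e
  have hPL : P (pullback.snd h₀.left w.left) := hf aL bL (ovPbSnd h₀ w) haLe hbLe commL
  -- (II) descend to a stage
  let t : (E ⋙ Over.forget S) ⟶ (Functor.const (Over i₀)).obj W₀.left :=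
    { app := fun j => (q j).left
      naturality := fun j k φ => by
        change (E.map φ ≫ q k).left = (q j).left ≫ 𝟙 _
        rw [Category.comp_id, hq j k φ] }
  have hτ : ∀ j : Over i₀, ((Over.forget S).mapCone cE).π.app j ≫ t.app j = w.left := by
    intro j
    change (cE.π.app j ≫ q j).left = w.left
    rw [hw j]
  obtain ⟨k, hPk⟩ := hSt (E ⋙ Over.forget S) ((Over.forget S).mapCone cE) hl
    t h₀.left w.left hτ hPL
  have hPk' : P (ovPbSnd h₀ (q k)).left := hPk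
  -- (III) the stage
  refine ⟨k.left, k.hom, ?_⟩
  intro Xi Yi fi pYi qYi hYi pXi hXi
  have hcYk : ((yon S).map (q k) ≫ a₀) ≫ b₀ = p k ≫ D.map k.hom := by
    rw [(sq k).w, Category.assoc]
  obtain ⟨bk, hbk1, hbk2⟩ : ∃ bk : (yon S).obj (E.obj k) ⟶ Yi,
      bk ≫ pYi = (yon S).map (q k) ≫ a₀ ∧ bk ≫ qYi = p k :=
    ⟨hYi.lift _ _ hcYk, hYi.lift_fst _ _ _, hYi.lift_snd _ _ _⟩
  have sqWk : IsPullback bk ((yon S).map (q k)) pYi a₀ := by
    have outer : IsPullback (bk ≫ qYi) ((yon S).map (q k)) (D.map k.hom) (a₀ ≫ b₀) := by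
      rw [hbk2]
      exact sq k
    exact IsPullback.of_right outer hbk1 hYi.flip
  obtain ⟨ak, sqAk, commk⟩ := exists_chart_baseChange sqP hh₀ hXi (q k) bk sqWk
  have hake : RepWith @Etale ak := repWith_fst_of_isPullback _ sqAk hχe
  have haks : RepWith @Surjective ak := repWith_fst_of_isPullback _ sqAk hχs
  have hbke : RepWith @Etale bk := repWith_fst_of_isPullback _ sqWk ha₀e
  exact locP_of_one_chart hPl fi ak bk (ovPbSnd h₀ (q k)) hake haks hbke commk hPk'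

/-- **S10082**. -/
theorem main10082 [QuasiSeparatedSpace ↥S] {I : Type u} [SmallCategory I] [IsCofiltered I]
    (D : I ⥤ Sp S)
    (hDa : ∀ (i j : I) (φ : i ⟶ j), IsAffineMor (D.map φ))
    (c : Cone D) (hc : IsLimit c) (i₀ : I)
    (X₀ Y₀ : Space S) (f₀ : X₀.obj ⟶ Y₀.obj) (b₀ : Y₀.obj ⟶ D.obj i₀)
    (hXqc : IsQuasiCompactSp X₀.obj)
    (hYqc : IsQuasiCompactSp Y₀.obj) (hYqs : IsQuasiSeparatedSp Y₀.obj)
    (X Y : Sp S) (f : X ⟶ Y) (pY : Y ⟶ Y₀.obj) (qY : Y ⟶ c.pt)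
    (hY : IsPullback pY qY b₀ (c.π.app i₀)) (pX : X ⟶ X₀.obj) (hX : IsPullback pX f f₀ pY)
    (hf : LocP @Flat f) (hf₀ : LocP @LocallyOfFinitePresentation f₀) :
    ∃ (i : I) (φ : i ⟶ i₀), ∀ (Xi Yi : Sp S) (fi : Xi ⟶ Yi) (pYi : Yi ⟶ Y₀.obj)
      (qYi : Yi ⟶ D.obj i) (_ : IsPullback pYi qYi b₀ (D.map φ)) (pXi : Xi ⟶ X₀.obj)
      (_ : IsPullback pXi fi f₀ pYi), LocP @Flat fi :=
  main_descend_locP' stageHyp_flat etLocal_flat D hDa c hc i₀ X₀ Y₀ f₀ b₀
    hXqc hYqc hYqs X Y f pY qY hY pX hX hf hf₀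

end Groth.Agent.Lib.LimTowerH7
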