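import Groth.Agent.Lib.LimTower1_helper7
import Groth.Agent.Lib.AlgSpReduced_helper7
import Groth.Agent.Lib.AlgSpPoints_helper7

/-!
# Limits of algebraic spaces with affine transition maps: reducedness and points (helper7)
-/

set_option autoImplicit false
set_option linter.style.haveILetI false

universe u

open CategoryTheory CategoryTheory.Limits AlgebraicGeometry Opposite
open AlgSp Groth.Agent.Lib.AlgSpPullback_helper7 Groth.Agent.Lib.AlgSpQC_helper7
  Groth.Agent.Lib.AlgSpReduced_helper7 Groth.Agent.Lib.AlgSpPoints_helper7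

namespace Groth.Agent.Lib.LimTowerH7

variable {S : Scheme.{u}}

section Sch

variable {J : Type u} [SmallCategory J] [IsCofiltered J] (F : J ⥤ Scheme.{u})
  [∀ {j k : J} (φ : j ⟶ k), IsAffineHom (F.map φ)] (c : Cone F) (hc : IsLimit c)

include hc in
theorem isReduced_of_isLimit_of_isAffine [∀ j, IsAffine (F.obj j)]
    (hred : ∀ j, IsReduced (F.obj j)) : IsReduced c.pt := by
  obtain ⟨j₀⟩ := IsCofiltered.nonempty (C := J)
  haveI : IsAffineHom (c.π.app j₀) := isAffineHom_π_app F c hc j₀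
  haveI : IsAffine c.pt := isAffine_of_isAffineHom (c.π.app j₀)
  haveI : _root_.IsReduced Γ(c.pt, ⊤) := by
    constructor
    rintro x ⟨n, hn⟩
    obtain ⟨j, t, rfl⟩ := exists_appTop_π_eq_of_isAffine_of_isLimit F c hc x
    have h0 : (c.π.app j).appTop (t ^ n) = 0 := by rw [map_pow]; exact hn
    obtain ⟨k, f, hk⟩ := exists_appTop_map_eq_zero_of_isAffine_of_isLimit F c hc j (t ^ n) h0
    haveI := hred k
    have h1 : (F.map f).appTop t = 0 := by
      apply _root_.IsReduced.eq_zero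
      exact ⟨n, by rw [← map_pow]; exact hk⟩
    have e : (c.π.app j).appTop t = (c.π.app k).appTop ((F.map f).appTop t) := by
      have h := Scheme.Hom.comp_appTop (c.π.app k) (F.map f)
      rw [c.w f] at h
      rw [h]
      exact ConcreteCategory.comp_apply _ _ _
    rw [e, h1, map_zero]
  exact isReduced_of_isAffine_isReduced _

include hc in
theorem isReduced_of_isLimit (hred : ∀ j, IsReduced (F.obj j)) : IsReduced c.pt := by
  obtain ⟨j₀⟩ := IsCofiltered.nonempty (C := J)
  let U : (F.obj j₀).affineOpens → c.pt.Opens := fun a => c.π.app j₀ ⁻¹ᵁ a.1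
  have hU : TopologicalSpace.IsOpenCover U := by
    show ⨆ a, U a = ⊤
    have := (c.π.app j₀).preimage_iSup
      (fun a : (F.obj j₀).affineOpens => (a : (F.obj j₀).Opens))
    rw [iSup_affineOpens_eq_top, Scheme.Hom.preimage_top] at this
    exact this.symm
  haveI : ∀ a, IsReduced ((c.pt.openCoverOfIsOpenCover U hU).X a) := fun a => by
    show IsReduced ((U a : c.pt.Opens) : Scheme)
    haveI : ∀ j : Over j₀, IsAffine ((opensDiagram F j₀ a.1).obj j) :=
      fun j => a.2.preimage (F.map j.hom)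
    have hr : ∀ j : Over j₀, IsReduced ((opensDiagram F j₀ a.1).obj j) := fun j => by
      haveI := hred j.left
      show IsReduced ((F.map j.hom ⁻¹ᵁ a.1 : (F.obj j.left).Opens) : Scheme)
      infer_instance
    exact isReduced_of_isLimit_of_isAffine (opensDiagram F j₀ a.1) (opensCone F c j₀ a.1)
      (isLimitOpensCone F c hc j₀ a.1) hr
  exact IsReduced.of_openCover _ (c.pt.openCoverOfIsOpenCover U hU)

end Sch

/-! ### S10056 -/

theorem main10056 {I : Type u} [SmallCategory I] [IsCofiltered I]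
    (D : I ⥤ Sp S) (hD : ∀ i, IsAlgSpace (D.obj i))
    (hDa : ∀ (i j : I) (φ : i ⟶ j), IsAffineMor (D.map φ))
    (c : Cone D) (hc : IsLimit c)
    (hred : ∀ i, EtaleLocally (fun U => IsReduced U) (D.obj i)) :
    EtaleLocally (fun U => IsReduced U) c.pt := by
  obtain ⟨i₀⟩ := IsCofiltered.nonempty (C := I)
  obtain ⟨Z, g, hge, hgs⟩ := (hD i₀).atlas
  obtain ⟨E, p, q, cE, fst, w, sq, hp, hq, hEaff, hqaff, ⟨hcE⟩, ⟨hl⟩, hπaff, hw, hfst, pb,
    hwaff⟩ := exists_tower D hDa c hc i₀ g
  refine ⟨cE.pt, fst, repWith_fst_of_isPullback _ pb hge, repWith_fst_of_isPullback _ pb hgs, ?_⟩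
  haveI : ∀ {j k : Over i₀} (φ : j ⟶ k), IsAffineHom ((E ⋙ Over.forget S).map φ) :=
    fun φ => hEaff _ _ φ
  have hr : ∀ j, IsReduced ((E ⋙ Over.forget S).obj j) := fun j =>
    isReduced_chart_of_isReducedSp (hD j.left) (hred j.left) (p j)
      (repWith_fst_of_isPullback _ (sq j) hge)
  exact isReduced_of_isLimit (E ⋙ Over.forget S) _ hl hr

/-! ### S10008 -/

set_option backward.isDefEq.respectTransparency false in
theorem main10008 {I : Type u} [SmallCategory I] [IsCofiltered I]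
    (D : I ⥤ Sp S)
    (hDa : ∀ (i j : I) (φ : i ⟶ j), IsAffineMor (D.map φ))
    (c : Cone D) (hc : IsLimit c)
    (hqc : ∀ i, IsQuasiCompactSp (D.obj i)) (hne : ∀ i, Nonempty (Points (D.obj i))) :
    Nonempty (Points c.pt) := by
  obtain ⟨i₀⟩ := IsCofiltered.nonempty (C := I)
  obtain ⟨Z, g, hge, hgs, hZ⟩ := hqc i₀
  obtain ⟨E, p, q, cE, fst, w, sq, hp, hq, hEaff, hqaff, ⟨hcE⟩, ⟨hl⟩, hπaff, hw, hfst, pb,
    hwaff⟩ := exists_tower D hDa c hc i₀ g
  haveI : ∀ {j k : Over i₀} (φ : j ⟶ k), IsAffineHom ((E ⋙ Over.forget S).map φ) :=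
    fun φ => hEaff _ _ φ
  haveI : ∀ j, Nonempty ((E ⋙ Over.forget S).obj j) := fun j => by
    obtain ⟨x⟩ := hne j.left
    obtain ⟨t, -⟩ := ofPt_surjective (p j) (repWith_fst_of_isPullback _ (sq j) hgs) x
    exact ⟨t⟩
  haveI : ∀ j, CompactSpace ((E ⋙ Over.forget S).obj j) := fun j => by
    haveI : CompactSpace Z.left := hZ
    haveI : IsAffineHom (q j).left := hqaff j
    haveI : QuasiCompact (q j).left := inferInstance
    exact QuasiCompact.compactSpace_of_compactSpace (q j).left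
  obtain ⟨x⟩ := Scheme.nonempty_of_isLimit (E ⋙ Over.forget S) _ hl
  exact ⟨Points.ofPt fst x⟩

end Groth.Agent.Lib.LimTowerH7
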