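import Groth.Agent.Lib.LimTower1_helper7

/-!
# Limits of closed immersions of algebraic spaces (helper7)
-/

set_option autoImplicit false
set_option linter.style.haveILetI false

universe u

open CategoryTheory CategoryTheory.Limits AlgebraicGeometry Opposite
open AlgSp Groth.Agent.Lib.AlgSpPullback_helper7 Groth.Agent.Lib.AlgSpQC_helper7
  Groth.Agent.Lib.AlgSpGlue2H7

namespace Groth.Agent.Lib.LimTowerH7

variable {S : Scheme.{u}}

set_option backward.isDefEq.respectTransparency false in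
theorem main10055 {I : Type u} [SmallCategory I] [IsCofiltered I]
    (DX DY : I ⥤ Sp S) (τ : DX ⟶ DY) (hτ : ∀ i, RepWith @IsClosedImmersion (τ.app i))
    (cX : Cone DX) (hcX : IsLimit cX) (cY : Cone DY) (hcY : IsLimit cY)
    (g : cX.pt ⟶ cY.pt) (hg : ∀ i, g ≫ cY.π.app i = cX.π.app i ≫ τ.app i) :
    RepWith @IsClosedImmersion g := by
  refine repWith_of_affine_local @IsClosedImmersion g (fun Z hZ t => ?_)
  haveI := hZ
  have hrep : ∀ j, (yon S).relativelyRepresentable (τ.app j) := fun j => (hτ j).rep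
  let E : I ⥤ Over S := tower τ hrep cY t
  let p : ∀ j, (yon S).obj (E.obj j) ⟶ DX.obj j := fun j => tP τ hrep cY t j
  let q : ∀ j, E.obj j ⟶ Z := fun j => tQ τ hrep cY t j
  have sq : ∀ j, IsPullback (p j) ((yon S).map (q j)) (τ.app j) (t ≫ cY.π.app j) :=
    t_sq τ hrep cY t
  have hp : ∀ (j k : I) (φ : j ⟶ k), (yon S).map (E.map φ) ≫ p k = p j ≫ DX.map φ :=
    fun j k φ => tMap_p τ hrep cY t φ
  have hq : ∀ (j k : I) (φ : j ⟶ k), E.map φ ≫ q k = q j :=
    fun j k φ => tMap_q τ hrep cY t φ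
  have hqci : ∀ j, IsClosedImmersion (q j).left := fun j => (hτ j).property _ _ _ (sq j)
  have hEci : ∀ (j k : I) (φ : j ⟶ k), IsClosedImmersion (E.map φ).left := fun j k φ => by
    haveI := hqci k
    haveI : IsClosedImmersion ((E.map φ).left ≫ (q k).left) := by
      rw [← Over.comp_left, hq j k φ]
      exact hqci j
    exact IsClosedImmersion.of_comp_isClosedImmersion (E.map φ).left (q k).left
  have hEaff : ∀ (j k : I) (φ : j ⟶ k), IsAffineHom (E.map φ).left := fun j k φ => by
    haveI := hEci j k φ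
    infer_instance
  obtain ⟨cE, ⟨hcE⟩, ⟨hl⟩, hπaff⟩ := exists_limit_over E hEaff
  obtain ⟨i₀⟩ := IsCofiltered.nonempty (C := I)
  let w : cE.pt ⟶ Z := cE.π.app i₀ ≫ q i₀
  have hw : ∀ j, cE.π.app j ≫ q j = w := fun j => by
    have h1 : cE.π.app j ≫ q j =
        cE.π.app (IsCofiltered.min j i₀) ≫ q (IsCofiltered.min j i₀) := by
      rw [← cE.w (IsCofiltered.minToLeft j i₀), Category.assoc, hq]
    have h2 : cE.π.app i₀ ≫ q i₀ =
        cE.π.app (IsCofiltered.min j i₀) ≫ q (IsCofiltered.min j i₀) := by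
      rw [← cE.w (IsCofiltered.minToRight j i₀), Category.assoc, hq]
    exact h1.trans h2.symm
  obtain ⟨fst, hfst, pb⟩ := isPullback_limit τ cX hcX cY (fun a b h => hcY.hom_ext h) g hg t
    E p q sq hp hq cE hcE w hw i₀
  refine ⟨cE.pt, w, fst, pb, ?_⟩
  have hEa : ∀ j, IsAffine (E.obj j).left := fun j => by
    haveI := hqci j
    exact isAffine_of_isAffineHom (q j).left
  haveI : ∀ j, IsAffine ((E ⋙ Over.forget S).obj j) := hEa
  haveI : ∀ {j k : I} (φ : j ⟶ k), IsAffineHom ((E ⋙ Over.forget S).map φ) :=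
    fun φ => hEaff _ _ φ
  haveI : IsAffine cE.pt.left := by
    haveI := hπaff i₀
    haveI := hEa i₀
    exact isAffine_of_isAffineHom (cE.π.app i₀).left
  apply IsClosedImmersion.of_surjective_of_isAffine
  intro s
  obtain ⟨j, a, ha⟩ := exists_appTop_π_eq_of_isAffine_of_isLimit (E ⋙ Over.forget S) _ hl s
  haveI := hqci j
  haveI := hEa j
  obtain ⟨b, hb⟩ := (IsClosedImmersion.isAffine_surjective_of_isAffine (q j).left).2 a
  refine ⟨b, ?_⟩
  have hwl : w.left = (cE.π.app j).left ≫ (q j).left := by rw [← Over.comp_left, hw j]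
  rw [hwl, Scheme.Hom.comp_appTop, ConcreteCategory.comp_apply, hb]
  exact ha

end Groth.Agent.Lib.LimTowerH7
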