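import Groth.Agent.Lib.LimTower1_helper7
import Groth.Agent.Lib.AlgSpLocP9_helper7
import Groth.Agent.Lib.AlgSpProper_helper7
import Groth.Agent.Lib.AlgSpTop_helper7
import Groth.Agent.Lib.AlgSpAffineMor_helper7

/-!
# Limits of closed subspaces: eventually constant when of finite presentation (helper7)
-/

set_option autoImplicit false
set_option linter.style.haveILetI false

universe u

open CategoryTheory CategoryTheory.Limits AlgebraicGeometry Opposite
open AlgSp Groth.Agent.Lib.AlgSpPullback_helper7 Groth.Agent.Lib.AlgSpQC_helper7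
  Groth.Agent.Lib.AlgSpPoints_helper7 Groth.Agent.Lib.AlgSpDescent_helper7

namespace Groth.Agent.Lib.LimTowerH7

variable {S : Scheme.{u}}

/-! ### Scheme level: limits of closed subschemes -/

section SL

variable {J : Type u} [SmallCategory J] [IsCofiltered J] (E : J ⥤ Scheme.{u}) {Z : Scheme.{u}}
  (q : ∀ j, E.obj j ⟶ Z) [∀ j, IsClosedImmersion (q j)]
  (hq : ∀ (j k : J) (φ : j ⟶ k), E.map φ ≫ q k = q j)
  (cE : Cone E) (hcE : IsLimit cE) (w : cE.pt ⟶ Z) (hw : ∀ j, cE.π.app j ≫ q j = w)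

include hq hcE hw in
/-- The limit of a cofiltered system of closed subschemes of `Z` is the closed subscheme defined
by the supremum of the ideal sheaves. -/
theorem exists_iso_subscheme :
    ∃ (e : cE.pt ⟶ (⨆ j, (q j).ker).subscheme), IsIso e ∧ e ≫ (⨆ j, (q j).ker).subschemeι = w := by
  set Iinf : Z.IdealSheafData := ⨆ j, (q j).ker with hI
  have hle : ∀ j, (q j).ker ≤ (Iinf.subschemeι).ker := fun j => by
    rw [Scheme.IdealSheafData.ker_subschemeι]
    exact le_iSup (fun j => (q j).ker) j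
  have hge : (Iinf.subschemeι).ker ≤ w.ker := by
    rw [Scheme.IdealSheafData.ker_subschemeι]
    apply iSup_le
    intro j
    rw [← hw j]
    exact Scheme.Hom.le_ker_comp _ _
  let s : Cone E :=
    { pt := Iinf.subscheme
      π :=
        { app := fun j => IsClosedImmersion.lift (q j) Iinf.subschemeι (hle j)
          naturality := fun j k φ => by
            simp only [Functor.const_obj_obj, Functor.const_obj_map, Category.id_comp]
            rw [← cancel_mono (q k), Category.assoc, hq j k φ, IsClosedImmersion.lift_fac,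
              IsClosedImmersion.lift_fac] } }
  obtain ⟨j₀⟩ := IsCofiltered.nonempty (C := J)
  have hfac : ∀ j, hcE.lift s ≫ cE.π.app j = IsClosedImmersion.lift (q j) Iinf.subschemeι (hle j) :=
    fun j => hcE.fac s j
  have h1 : hcE.lift s ≫ w = Iinf.subschemeι := by
    rw [← hw j₀, ← Category.assoc, hfac j₀]
    exact IsClosedImmersion.lift_fac _ _ _
  let e : cE.pt ⟶ Iinf.subscheme := IsClosedImmersion.lift Iinf.subschemeι w hge
  have he : e ≫ Iinf.subschemeι = w := IsClosedImmersion.lift_fac _ _ _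
  have h2 : e ≫ hcE.lift s = 𝟙 _ := by
    apply hcE.hom_ext
    intro j
    rw [Category.assoc, hfac j, Category.id_comp, ← cancel_mono (q j), Category.assoc,
      IsClosedImmersion.lift_fac, he, hw j]
  have h3 : hcE.lift s ≫ e = 𝟙 _ := by
    rw [← cancel_mono Iinf.subschemeι, Category.assoc, he, h1, Category.id_comp]
  exact ⟨e, ⟨hcE.lift s, h2, h3⟩, he⟩

theorem ker_ideal_fg {X Z : Scheme.{u}} (w : X ⟶ Z) [IsClosedImmersion w]
    [LocallyOfFinitePresentation w] (U : Z.affineOpens) : (w.ker.ideal U).FG := by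
  rw [Scheme.Hom.ker_apply]
  have hsurj : Function.Surjective (w.app U.1).hom := w.app_surjective U.1 U.2
  have hfp : (w.app U.1).hom.FinitePresentation := by
    have hV : IsAffineOpen (w ⁻¹ᵁ U.1) := U.2.preimage w
    have := HasRingHomProperty.appLE (P := @LocallyOfFinitePresentation) w inferInstance U
      ⟨_, hV⟩ le_rfl
    rwa [← Scheme.Hom.app_eq_appLE] at this
  algebraize [(w.app U.1).hom]
  exact Algebra.FinitePresentation.ker_fG_of_surjective
    (Algebra.ofId Γ(Z, U.1) Γ(X, w ⁻¹ᵁ U.1)) hsurj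

include hq hcE hw in
theorem exists_isIso_of_lfp [CompactSpace Z] [LocallyOfFinitePresentation w] :
    ∃ j₀ : J, ∀ (j : J) (_ : j ⟶ j₀), IsIso (cE.π.app j) := by
  classical
  haveI : Nonempty J := IsCofiltered.nonempty
  obtain ⟨e, he, hew⟩ := exists_iso_subscheme E q hq cE hcE w hw
  haveI := he
  haveI : IsClosedImmersion w := by rw [← hew]; infer_instance
  have hker : w.ker = ⨆ j, (q j).ker := by
    rw [← hew, Scheme.Hom.ker_comp_of_isIso, Scheme.IdealSheafData.ker_subschemeι]
  have hmono : ∀ (j k : J) (_ : j ⟶ k), (q k).ker ≤ (q j).ker := fun j k φ => by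
    rw [← hq j k φ]
    exact Scheme.Hom.le_ker_comp _ _
  have stage : ∀ U : Z.affineOpens, ∃ j : J, w.ker.ideal U ≤ (q j).ker.ideal U := by
    intro U
    have hfg : Submodule.FG (w.ker.ideal U) := ker_ideal_fg w U
    rw [Submodule.fg_iff_compact,
      CompleteLattice.isCompactElement_iff_le_of_directed_sSup_le] at hfg
    obtain ⟨x, ⟨j, rfl⟩, hx⟩ := hfg (Set.range fun j => (q j).ker.ideal U)
      (Set.range_nonempty _)
      (by
        rintro _ ⟨j, rfl⟩ _ ⟨k, rfl⟩
        exact ⟨_, ⟨IsCofiltered.min j k, rfl⟩, hmono _ _ (IsCofiltered.minToLeft j k) U,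
          hmono _ _ (IsCofiltered.minToRight j k) U⟩)
      (by
        rw [hker, Scheme.IdealSheafData.ideal_iSup, iSup_apply]
        exact le_of_eq rfl)
    exact ⟨j, hx⟩
  choose jOf hjOf using stage
  obtain ⟨t, ht⟩ := isCompact_univ.elim_finite_subcover
    (fun U : Z.affineOpens => ((U.1 : Z.Opens) : Set Z)) (fun U => U.1.2) (by
      intro x _
      obtain ⟨_, ⟨U, hU : IsAffineOpen U, rfl⟩, hxU, -⟩ :=
        Z.isBasis_affineOpens.exists_subset_of_mem_open (Set.mem_univ x) isOpen_univ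
      exact Set.mem_iUnion.2 ⟨⟨U, hU⟩, hxU⟩)
  obtain ⟨j₀, hj₀⟩ := IsCofiltered.inf_objs_exists (t.image jOf)
  refine ⟨j₀, fun j φ => ?_⟩
  have hle : w.ker ≤ (q j).ker := by
    refine Scheme.IdealSheafData.le_of_iSup_eq_top (fun U : t => U.1) ?_ (fun U => ?_)
    · rw [eq_top_iff]
      intro x _
      have := ht (Set.mem_univ x)
      simp only [Set.mem_iUnion] at this
      obtain ⟨U, hU, hx⟩ := this
      exact TopologicalSpace.Opens.mem_iSup.2 ⟨⟨U, hU⟩, hx⟩
    · obtain ⟨ψ⟩ := hj₀ (Finset.mem_image_of_mem jOf U.2)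
      exact (hjOf U.1).trans (hmono _ _ (φ ≫ ψ) U.1)
  have hge : (q j).ker ≤ w.ker := by
    rw [← hw j]
    exact Scheme.Hom.le_ker_comp _ _
  exact IsClosedImmersion.isIso_of_ker_eq w (q j) (cE.π.app j) (hw j) (le_antisymm hle hge)

end SL

/-! ### S10011 -/

set_option backward.isDefEq.respectTransparency false in
theorem main10011 {I : Type u} [SmallCategory I] [IsCofiltered I]
    (B : Sp S) (hB : IsAlgSpace B) (D : I ⥤ Sp S) (hD : ∀ i, IsAlgSpace (D.obj i))
    (t : D ⟶ (Functor.const I).obj B)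
    (hDc : ∀ (i j : I) (φ : i ⟶ j), RepWith @IsClosedImmersion (D.map φ))
    (c : Cone D) (hc : IsLimit c)
    (hqc : ∀ i, IsQuasiCompactSp (D.obj i)) (hft : ∀ i, LocP @LocallyOfFiniteType (t.app i))
    (i₁ : I) (hX : LocP @LocallyOfFinitePresentation (c.π.app i₁ ≫ t.app i₁)) :
    ∃ i₀ : I, ∀ (i : I) (_ : i ⟶ i₀), IsIso (c.π.app i) := by
  have hDa : ∀ (i j : I) (φ : i ⟶ j), IsAffineMor (D.map φ) := fun i j φ =>
    Groth.Agent.Lib.AlgSpAffineMorH7.isAffineMor_of_repWith _
      (repWith_mono (fun _ _ f (hf : IsClosedImmersion f) => (inferInstance : IsAffineHom f))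
        (hDc i j φ))
  have hπaffm : ∀ i, IsAffineMor (c.π.app i) := (main10004 D hD hDa c hc).2
  have hπrep : ∀ i, (yon S).relativelyRepresentable (c.π.app i) := fun i =>
    (repWith_isAffineHom_of_isAffineMor _ (hπaffm i)).rep
  obtain ⟨Z, g, hge, hgs, hZ⟩ := hqc i₁
  obtain ⟨E, p, q, cE, fst, w, sq, hp, hq, hEaff, hqaff, ⟨hcE⟩, ⟨hl⟩, hπaff, hw, hfst, pb,
    hwaff⟩ := exists_tower D hDa c hc i₁ g
  haveI : CompactSpace Z.left := hZ
  haveI hqci : ∀ j, IsClosedImmersion ((q j).left) := fun j =>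
    (hDc _ _ j.hom).property _ _ _ (sq j)
  have hX' : LocP @LocallyOfFinitePresentation (c.π.app i₁) :=
    Groth.Agent.Lib.AlgSpLocP9_helper7.locP_lfp_of_comp hB (c.π.app i₁) (t.app i₁) hX (hft i₁)
  have hlfp : RepWith @LocallyOfFinitePresentation (c.π.app i₁) :=
    Groth.Agent.Lib.AlgSpProper_helper7.repWith_of_locP @LocallyOfFinitePresentation
      (descendsEtale_of_descendsAlong _) (hD i₁) (c.π.app i₁) (hπrep i₁) hX'
  haveI : LocallyOfFinitePresentation w.left := hlfp.property _ _ _ pb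
  obtain ⟨j₀, hj₀⟩ := exists_isIso_of_lfp (E ⋙ Over.forget S) (fun j => (q j).left)
    (fun j k φ => by
      show (E.map φ).left ≫ (q k).left = (q j).left
      rw [← Over.comp_left, hq j k φ])
    ((Over.forget S).mapCone cE) hl w.left
    (fun j => by
      show (cE.π.app j).left ≫ (q j).left = w.left
      rw [← Over.comp_left, hw j])
  refine ⟨j₀.left, fun i ψ => ?_⟩
  let j : Over i₁ := Over.mk (ψ ≫ j₀.hom)
  let φ : j ⟶ j₀ := Over.homMk ψ rfl
  have hiso : IsIso (cE.π.app j).left := hj₀ j φ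
  have sqL := isPullback_stage D c i₁ g p q cE fst w sq hw hfst pb j
  have hpe : RepWith @Etale (p j) := repWith_fst_of_isPullback _ (sq j) hge
  have hps : RepWith @Surjective (p j) := repWith_fst_of_isPullback _ (sq j) hgs
  have hR : RepWith (MorphismProperty.isomorphisms Scheme.{u}) (c.π.app i) :=
    repWith_of_chart (MorphismProperty.isomorphisms Scheme.{u})
      (descendsEtale_of_descendsAlong _) (c.π.app i) (hπrep i) (p j) hpe hps fst (cE.π.app j)
      sqL hiso
  exact Groth.Agent.Lib.AlgSpTop_helper7.isIso_of_repWith_isomorphisms _ hR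

end Groth.Agent.Lib.LimTowerH7
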