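import Groth.Agent.Lib.LimTower4_helper7
import Groth.Agent.Lib.AlgSpUnramLocus_helper7
import Groth.Agent.Lib.AlgSpDescent2_helper7
import Groth.Agent.Lib.MonicGsect_helper6

/-!
# Closed immersions into a limit are eventually closed immersions into the stages (helper7)
-/

set_option autoImplicit false
set_option linter.style.haveILetI false

universe u

open CategoryTheory CategoryTheory.Limits AlgebraicGeometry Opposite
open AlgSp Groth.Agent.Lib.AlgSpPullback_helper7 Groth.Agent.Lib.AlgSpQC_helper7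
  Groth.Agent.Lib.AlgSpPoints_helper7 Groth.Agent.Lib.AlgSpDescent_helper7

namespace Groth.Agent.Lib.LimTowerH7

variable {S : Scheme.{u}}

/-! ### A ring level lemma -/

theorem surjective_stage_of_finiteType {R C : Type u} [CommRing R] [CommRing C] (ρ : R →+* C)
    (hρ : ρ.FiniteType) {K : Type u} [SmallCategory K] [IsCofiltered K] (A : K → Type u)
    [∀ k, CommRing (A k)] (f : ∀ k, A k →+* C)
    (τ : ∀ {k' k : K} (_ : k' ⟶ k), A k →+* A k')
    (hτ : ∀ {k' k : K} (φ : k' ⟶ k) (x : A k), f k' (τ φ x) = f k x)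
    (ρk : ∀ k, R →+* A k) (hρk : ∀ k x, f k (ρk k x) = ρ x)
    (hsurj : ∀ c : C, ∃ (k : K) (b : A k), f k b = c) :
    ∃ k₀ : K, ∀ (k' : K) (_ : k' ⟶ k₀), Function.Surjective (f k') := by
  classical
  algebraize [ρ]
  obtain ⟨s, hs⟩ := (Algebra.FiniteType.out : (⊤ : Subalgebra R C).FG)
  choose kc bc hbc using hsurj
  obtain ⟨k₀, hk₀⟩ := IsCofiltered.inf_objs_exists (s.image kc)
  refine ⟨k₀, fun k' φ => ?_⟩
  rw [← RingHom.range_eq_top, eq_top_iff]
  have h1 : (Algebra.adjoin R (s : Set C)).toSubring ≤ (f k').range := by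
    rw [Algebra.adjoin_eq_ring_closure, Subring.closure_le]
    rintro x (⟨r, rfl⟩ | hx)
    · exact ⟨ρk k' r, hρk k' r⟩
    · obtain ⟨ψ⟩ := hk₀ (Finset.mem_image_of_mem kc hx)
      exact ⟨τ (φ ≫ ψ) (bc x), by rw [hτ, hbc]⟩
  rw [hs] at h1
  exact h1

/-! ### Scheme level -/

theorem exists_isClosedImmersion_of_lft {J : Type u} [SmallCategory J] [IsCofiltered J]
    (F : J ⥤ Scheme.{u}) [∀ j, IsAffine (F.obj j)] {Z : Scheme.{u}} [IsAffine Z]
    (q : ∀ j, F.obj j ⟶ Z) (cF : Cone F) (hcF : IsLimit cF) [IsAffine cF.pt] (w : cF.pt ⟶ Z)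
    (hw : ∀ j, cF.π.app j ≫ q j = w) {V : Scheme.{u}} [IsAffine V] (v : V ⟶ cF.pt)
    [IsClosedImmersion v] [LocallyOfFiniteType (v ≫ w)] :
    ∃ j₀ : J, ∀ (j : J) (_ : j ⟶ j₀), IsClosedImmersion (v ≫ cF.π.app j) := by
  have hρ : (v ≫ w).appTop.hom.FiniteType :=
    (HasRingHomProperty.iff_of_isAffine (P := @LocallyOfFiniteType)).1 inferInstance
  obtain ⟨j₀, hj₀⟩ := surjective_stage_of_finiteType (v ≫ w).appTop.hom hρ
    (fun j => Γ(F.obj j, ⊤)) (fun j => (v ≫ cF.π.app j).appTop.hom)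
    (fun φ => (F.map φ).appTop.hom)
    (by
      intro k' k φ x
      have h1 : (v ≫ cF.π.app k) = (v ≫ cF.π.app k') ≫ F.map φ := by
        rw [Category.assoc, cF.w φ]
      rw [h1, Scheme.Hom.comp_appTop (v ≫ cF.π.app k') (F.map φ)]
      rfl)
    (fun j => (q j).appTop.hom)
    (by
      intro k x
      have h1 : v ≫ w = (v ≫ cF.π.app k) ≫ q k := by rw [Category.assoc, hw k]
      rw [h1, Scheme.Hom.comp_appTop (v ≫ cF.π.app k) (q k)]
      rfl)
    (by
      intro c
      obtain ⟨a, rfl⟩ := (IsClosedImmersion.isAffine_surjective_of_isAffine v).2 c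
      obtain ⟨k, b, rfl⟩ := exists_appTop_π_eq_of_isAffine_of_isLimit F cF hcF a
      exact ⟨k, b, by rw [Scheme.Hom.comp_appTop v (cF.π.app k)]; rfl⟩)
  exact ⟨j₀, fun j φ => IsClosedImmersion.of_surjective_of_isAffine _ (hj₀ j φ)⟩

/-! ### S10009 -/

set_option backward.isDefEq.respectTransparency false in
theorem main10009 {I : Type u} [SmallCategory I] [IsCofiltered I]
    (B : Sp S) (hB : IsAlgSpace B) (D : I ⥤ Sp S) (hD : ∀ i, IsAlgSpace (D.obj i))
    (t : D ⟶ (Functor.const I).obj B)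
    (hDa : ∀ (i j : I) (φ : i ⟶ j), IsAffineMor (D.map φ))
    (c : Cone D) (hc : IsLimit c)
    (hqc : ∀ i, IsQuasiCompactSp (D.obj i))
    {Y : Sp S} (y : Y ⟶ c.pt) (hy : RepWith @IsClosedImmersion y) (i₁ : I)
    (hYB : LocP @LocallyOfFiniteType (y ≫ c.π.app i₁ ≫ t.app i₁)) :
    ∃ i₀ : I, ∀ (i : I) (_ : i ⟶ i₀), RepWith @IsClosedImmersion (y ≫ c.π.app i) := by
  have hπaffm : ∀ i, IsAffineMor (c.π.app i) := (main10004 D hD hDa c hc).2
  have hπrep : ∀ i, (yon S).relativelyRepresentable (c.π.app i) := fun i =>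
    (repWith_isAffineHom_of_isAffineMor _ (hπaffm i)).rep
  have hyrep : ∀ i, (yon S).relativelyRepresentable (y ≫ c.π.app i) := fun i =>
    MorphismProperty.comp_mem _ _ _ hy.rep (hπrep i)
  obtain ⟨Z, g, hZ, hge, hgs⟩ := Groth.Agent.Lib.MonicGsectH6.exists_affine_atlas (hqc i₁)
  haveI : IsAffine Z.left := hZ
  obtain ⟨E, p, q, cE, fst, w, sq, hp, hq, hEaff, hqaff, ⟨hcE⟩, ⟨hl⟩, hπaff, hw, hfst, pb,
    hwaff⟩ := exists_tower D hDa c hc i₁ g
  -- everything is affine
  have hEa : ∀ j, IsAffine (E.obj j).left := fun j => by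
    haveI := hqaff j
    exact isAffine_of_isAffineHom (q j).left
  haveI : ∀ j, IsAffine ((E ⋙ Over.forget S).obj j) := hEa
  haveI hWa : IsAffine cE.pt.left := by
    haveI := hwaff
    exact isAffine_of_isAffineHom w.left
  haveI : IsAffine ((Over.forget S).mapCone cE).pt := hWa
  -- the base change of `y`
  let V : Over S := hy.rep.pullback fst
  let v : V ⟶ cE.pt := hy.rep.snd fst
  let fstV : (yon S).obj V ⟶ Y := hy.rep.fst fst
  have sqV : IsPullback fstV ((yon S).map v) y fst := hy.rep.isPullback fst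
  haveI hvci : IsClosedImmersion v.left := hy.property _ _ _ sqV
  haveI : IsAffine V.left := isAffine_of_isAffineHom v.left
  -- finite type
  have h' : LocP @LocallyOfFiniteType ((y ≫ c.π.app i₁) ≫ t.app i₁) := by
    rw [Category.assoc]
    exact hYB
  have hlocP : LocP @LocallyOfFiniteType (y ≫ c.π.app i₁) :=
    Groth.Agent.Lib.AlgSpUnramLocusH7.locP_lft_of_comp hB _ _ h'
  have hlft : RepWith @LocallyOfFiniteType (y ≫ c.π.app i₁) :=
    Groth.Agent.Lib.AlgSpProper_helper7.repWith_of_locP @LocallyOfFiniteType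
      (descendsEtale_of_descendsAlong _) (hD i₁) _ (hyrep i₁) hlocP
  have sqBig : IsPullback fstV ((yon S).map (v ≫ w)) (y ≫ c.π.app i₁) g := by
    rw [(yon S).map_comp]
    exact sqV.paste_vert pb
  haveI : LocallyOfFiniteType (v.left ≫ w.left) := hlft.property _ _ _ sqBig
  obtain ⟨j₀, hj₀⟩ := exists_isClosedImmersion_of_lft (E ⋙ Over.forget S)
    (fun j => (q j).left) ((Over.forget S).mapCone cE) hl w.left
    (fun j => by
      show (cE.π.app j).left ≫ (q j).left = w.left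
      rw [← Over.comp_left, hw j])
    v.left
  refine ⟨j₀.left, fun i ψ => ?_⟩
  let j : Over i₁ := Over.mk (ψ ≫ j₀.hom)
  let φ : j ⟶ j₀ := Over.homMk ψ rfl
  have hci : IsClosedImmersion (v.left ≫ (cE.π.app j).left) := hj₀ j φ
  have sqL := isPullback_stage D c i₁ g p q cE fst w sq hw hfst pb j
  have hpe : RepWith @Etale (p j) := repWith_fst_of_isPullback _ (sq j) hge
  have hps : RepWith @Surjective (p j) := repWith_fst_of_isPullback _ (sq j) hgs
  have sqJ : IsPullback fstV ((yon S).map (v ≫ cE.π.app j)) (y ≫ c.π.app j.left) (p j) := by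
    rw [(yon S).map_comp]
    exact sqV.paste_vert sqL
  exact repWith_of_chart @IsClosedImmersion
    Groth.Agent.Lib.AlgSpDescent2_helper7.descendsEtale_isClosedImmersion (y ≫ c.π.app i)
    (hyrep i) (p j) hpe hps fstV (v ≫ cE.π.app j) sqJ hci

end Groth.Agent.Lib.LimTowerH7
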