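import Groth.Agent.Lib.LimTower4_helper7
import Groth.Agent.Lib.AlgSpUnramLocus_helper7
import Groth.Agent.Lib.AlgSpLocP4_helper7
import Groth.Agent.Lib.AlgSpQC2_helper7
import Groth.Agent.Lib.AffDesc8_helper7

/-!
# Monomorphisms into a limit are eventually monomorphisms into the stages (helper7)
-/

set_option autoImplicit false
set_option linter.style.haveILetI false

universe u

open CategoryTheory CategoryTheory.Limits AlgebraicGeometry Opposite
open AlgSp Groth.Agent.Lib.AlgSpPullback_helper7 Groth.Agent.Lib.AlgSpQC_helper7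
  Groth.Agent.Lib.AlgSpPoints_helper7 Groth.Agent.Lib.AlgSpDescent_helper7

namespace Groth.Agent.Lib.LimTowerH7

variable {S : Scheme.{u}}

/-! ### The magic square -/

lemma isPullback_lift_diagonal {A T S' : Sp S} (f : A ⟶ T) (i : T ⟶ S') (h : A ⟶ S')
    (hfi : f ≫ i = h) :
    IsPullback (pullback.fst f f ≫ f)
      (pullback.lift (pullback.fst f f) (pullback.snd f f)
        (by rw [← hfi, pullback.condition_assoc]) : pullback f f ⟶ pullback h h)
      (pullback.diagonal i)
      (pullback.lift (pullback.fst h h ≫ f) (pullback.snd h h ≫ f)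
        (by rw [Category.assoc, Category.assoc, hfi, pullback.condition]) :
          pullback h h ⟶ pullback i i) := by
  subst hfi
  have key := pullback_map_diagonal_isPullback f f i
  convert key using 1
  apply pullback.hom_ext
  · exact (pullback.lift_fst _ _ _).trans
      ((pullback.lift_fst _ _ _).trans (Category.comp_id _)).symm
  · exact (pullback.lift_snd _ _ _).trans
      ((pullback.lift_snd _ _ _).trans (Category.comp_id _)).symm

/-! ### The system of kernel pairs -/

section KP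

variable {I : Type u} [SmallCategory I] (D : I ⥤ Sp S) (c : Cone D) {Y : Sp S} (y : Y ⟶ c.pt)

/-- `Y ×_{X_i} Y`. -/
noncomputable def kpObj (i : I) : Sp S := pullback (y ≫ c.π.app i) (y ≫ c.π.app i)

noncomputable def kpFst (i : I) : kpObj D c y i ⟶ Y := pullback.fst _ _

noncomputable def kpSnd (i : I) : kpObj D c y i ⟶ Y := pullback.snd _ _

noncomputable def kpDiag (i : I) : Y ⟶ kpObj D c y i := pullback.diagonal _

@[reassoc]
lemma kp_condition (i : I) :
    kpFst D c y i ≫ y ≫ c.π.app i = kpSnd D c y i ≫ y ≫ c.π.app i := pullback.condition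

lemma kp_hom_ext {W : Sp S} {i : I} {a b : W ⟶ kpObj D c y i}
    (h1 : a ≫ kpFst D c y i = b ≫ kpFst D c y i) (h2 : a ≫ kpSnd D c y i = b ≫ kpSnd D c y i) :
    a = b := pullback.hom_ext h1 h2

@[reassoc (attr := simp)]
lemma kpDiag_fst (i : I) : kpDiag D c y i ≫ kpFst D c y i = 𝟙 Y := pullback.diagonal_fst _

@[reassoc (attr := simp)]
lemma kpDiag_snd (i : I) : kpDiag D c y i ≫ kpSnd D c y i = 𝟙 Y := pullback.diagonal_snd _

lemma kp_isPullback (i : I) :
    IsPullback (kpFst D c y i) (kpSnd D c y i) (y ≫ c.π.app i) (y ≫ c.π.app i) :=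
  IsPullback.of_hasPullback _ _

lemma kp_cond {i j : I} (φ : i ⟶ j) :
    kpFst D c y i ≫ y ≫ c.π.app j = kpSnd D c y i ≫ y ≫ c.π.app j := by
  rw [← c.w φ]
  exact kp_condition_assoc D c y i (D.map φ)

noncomputable def kpMap {i j : I} (φ : i ⟶ j) : kpObj D c y i ⟶ kpObj D c y j :=
  pullback.lift (kpFst D c y i) (kpSnd D c y i) (kp_cond D c y φ)

@[reassoc (attr := simp)]
lemma kpMap_fst {i j : I} (φ : i ⟶ j) : kpMap D c y φ ≫ kpFst D c y j = kpFst D c y i :=
  pullback.lift_fst _ _ _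

@[reassoc (attr := simp)]
lemma kpMap_snd {i j : I} (φ : i ⟶ j) : kpMap D c y φ ≫ kpSnd D c y j = kpSnd D c y i :=
  pullback.lift_snd _ _ _

/-- The transition maps of the kernel pairs are base changes of diagonals. -/
lemma kpMap_isPullback {i j : I} (φ : i ⟶ j) :
    ∃ (a : kpObj D c y i ⟶ D.obj i) (b : kpObj D c y j ⟶ pullback (D.map φ) (D.map φ)),
      IsPullback a (kpMap D c y φ) (pullback.diagonal (D.map φ)) b :=
  ⟨_, _, isPullback_lift_diagonal (y ≫ c.π.app i) (D.map φ) (y ≫ c.π.app j)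
    (by rw [Category.assoc, c.w])⟩

/-- The system of kernel pairs `Y ×_{X_i} Y`. -/
noncomputable def kerPair : I ⥤ Sp S where
  obj i := kpObj D c y i
  map {i j} φ := kpMap D c y φ
  map_id i := by apply kp_hom_ext <;> simp
  map_comp φ ψ := by apply kp_hom_ext <;> simp

/-- The first projections. -/
noncomputable def kerPairFst : kerPair D c y ⟶ (Functor.const I).obj Y where
  app i := kpFst D c y i
  naturality i j φ := (kpMap_fst D c y φ).trans (Category.comp_id _).symm

/-- The cone of diagonals. -/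
noncomputable def kerPairCone : Cone (kerPair D c y) where
  pt := Y
  π :=
    { app := fun i => kpDiag D c y i
      naturality := fun i j φ => by
        change 𝟙 Y ≫ kpDiag D c y j = kpDiag D c y i ≫ kpMap D c y φ
        apply kp_hom_ext <;> simp }

variable [IsCofiltered I]

section

variable {W : Sp S} (σ : ∀ i, W ⟶ kpObj D c y i)
  (hσ : ∀ {i j : I} (φ : i ⟶ j), σ i ≫ kpMap D c y φ = σ j)

include hσ

lemma kp_fst_eq {i j : I} (φ : i ⟶ j) : σ i ≫ kpFst D c y i = σ j ≫ kpFst D c y j := by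
  rw [← hσ φ, Category.assoc, kpMap_fst]

lemma kp_snd_eq {i j : I} (φ : i ⟶ j) : σ i ≫ kpSnd D c y i = σ j ≫ kpSnd D c y j := by
  rw [← hσ φ, Category.assoc, kpMap_snd]

lemma kp_fst_eq' (i j : I) : σ i ≫ kpFst D c y i = σ j ≫ kpFst D c y j := by
  rw [← kp_fst_eq D c y σ hσ (IsCofiltered.minToLeft i j),
    ← kp_fst_eq D c y σ hσ (IsCofiltered.minToRight i j)]

lemma kp_snd_eq_fst (hc : IsLimit c) [Mono y] (i : I) :
    σ i ≫ kpSnd D c y i = σ i ≫ kpFst D c y i := by
  rw [← cancel_mono y]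
  refine hc.hom_ext (fun j => ?_)
  have h1 := kp_fst_eq D c y σ hσ (IsCofiltered.minToLeft i j)
  have h2 := kp_snd_eq D c y σ hσ (IsCofiltered.minToLeft i j)
  rw [← h1, ← h2, ← c.w (IsCofiltered.minToRight i j)]
  simp only [Category.assoc]
  rw [kp_condition_assoc]

end

/-- The diagonals exhibit `Y` as the limit of the kernel pairs when `y` is a monomorphism. -/
noncomputable def isLimitKerPairCone (hc : IsLimit c) [Mono y] (i₁ : I) :
    IsLimit (kerPairCone D c y) where
  lift s := s.π.app i₁ ≫ kpFst D c y i₁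
  fac s i := by
    have hσ : ∀ {i j : I} (φ : i ⟶ j),
        (s.π.app i : s.pt ⟶ kpObj D c y i) ≫ kpMap D c y φ = s.π.app j := fun φ => s.w φ
    change ((s.π.app i₁ : s.pt ⟶ kpObj D c y i₁) ≫ kpFst D c y i₁) ≫ kpDiag D c y i =
      (s.π.app i : s.pt ⟶ kpObj D c y i)
    apply kp_hom_ext
    · rw [Category.assoc, kpDiag_fst, Category.comp_id]
      exact kp_fst_eq' D c y (fun i => s.π.app i) hσ i₁ i
    · rw [Category.assoc, kpDiag_snd, Category.comp_id,
        kp_snd_eq_fst D c y (fun i => s.π.app i) hσ hc i]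
      exact kp_fst_eq' D c y (fun i => s.π.app i) hσ i₁ i
  uniq s m hm := by
    obtain ⟨m', rfl⟩ : ∃ m' : s.pt ⟶ Y, m' = m := ⟨m, rfl⟩
    have h : m' ≫ kpDiag D c y i₁ = (s.π.app i₁ : s.pt ⟶ kpObj D c y i₁) := hm i₁
    have h2 : m' = (m' ≫ kpDiag D c y i₁) ≫ kpFst D c y i₁ := by
      rw [Category.assoc, kpDiag_fst, Category.comp_id]
    exact h2.trans (congrArg (· ≫ kpFst D c y i₁) h)

end KP

/-! ### S10012 -/

theorem isQuasiAffineMor_of_isAffineMor {F G : Sp S} (f : F ⟶ G) (h : IsAffineMor f) :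
    IsQuasiAffineMor f := by
  intro Z hZ g
  obtain ⟨W, i, fst, sq, hW⟩ := h hZ g
  haveI := hW
  exact ⟨W, i, fst, sq, inferInstance⟩

set_option backward.isDefEq.respectTransparency false in
theorem main10012 [QuasiSeparatedSpace S] {I : Type u} [SmallCategory I] [IsCofiltered I]
    (B : Sp S) (hB : IsAlgSpace B) (D : I ⥤ Sp S) (hD : ∀ i, IsAlgSpace (D.obj i))
    (t : D ⟶ (Functor.const I).obj B)
    (hDa : ∀ (i j : I) (φ : i ⟶ j), IsAffineMor (D.map φ))
    (c : Cone D) (hc : IsLimit c)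
    (hqs : ∀ i, IsQuasiSeparatedSp (D.obj i))
    {Y : Sp S} (hY : IsAlgSpace Y) (hYqc : IsQuasiCompactSp Y) (y : Y ⟶ c.pt) [Mono y] (i₁ : I)
    (hYB : LocP @LocallyOfFiniteType (y ≫ c.π.app i₁ ≫ t.app i₁)) :
    ∃ i₀ : I, ∀ (i : I) (_ : i ⟶ i₀), Mono (y ≫ c.π.app i) := by
  -- every `Y ⟶ X_i` is locally of finite type
  have hπt : ∀ {i j : I} (φ : i ⟶ j), c.π.app i ≫ t.app i = c.π.app j ≫ t.app j := by
    intro i j φ
    have h1 := t.naturality φ
    rw [← c.w φ, Category.assoc, h1]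
    simp
  have hlft : ∀ i, LocP @LocallyOfFiniteType (y ≫ c.π.app i) := by
    intro i
    have h2 : c.π.app i ≫ t.app i = c.π.app i₁ ≫ t.app i₁ := by
      rw [← hπt (IsCofiltered.minToLeft i i₁), ← hπt (IsCofiltered.minToRight i i₁)]
    have h' : LocP @LocallyOfFiniteType ((y ≫ c.π.app i) ≫ t.app i) := by
      rw [Category.assoc, h2]
      exact hYB
    exact Groth.Agent.Lib.AlgSpUnramLocusH7.locP_lft_of_comp hB _ _ h'
  -- the hypotheses of `main10011` for the system of kernel pairs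
  have hR : ∀ i, IsAlgSpace ((kerPair D c y).obj i) := fun i =>
    isAlgSpace_of_isPullback (hD i).diag hY hY (kp_isPullback D c y i)
  have hRc : ∀ (i j : I) (φ : i ⟶ j), RepWith @IsClosedImmersion ((kerPair D c y).map φ) := by
    intro i j φ
    have hsep : IsSeparatedMor (D.map φ) :=
      Groth.Agent.Lib.AffDescH7.isSeparatedMor_of_isQuasiAffineMor (hD i) (D.map φ)
        (isQuasiAffineMor_of_isAffineMor _ (hDa i j φ))
    obtain ⟨a, b, sq⟩ := kpMap_isPullback D c y φ
    exact repWith_snd_of_isPullback _ sq hsep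
  have hRqc : ∀ i, IsQuasiCompactSp ((kerPair D c y).obj i) := fun i =>
    (Groth.Agent.Lib.AlgSpQC2_helper7.isQuasiCompactMor_of_isQuasiCompactSp_of_isQuasiSeparatedSp
      hY (y ≫ c.π.app i) hYqc (hqs i)) hY hYqc (y ≫ c.π.app i) (kpFst D c y i)
      (kpSnd D c y i) (kp_isPullback D c y i)
  have hRft : ∀ i, LocP @LocallyOfFiniteType ((kerPairFst D c y).app i) := fun i =>
    Groth.Agent.Lib.AlgSpLocP4_helper7.locP_baseChange
      Groth.Agent.Lib.AlgSpLocP4_helper7.etLocal_locallyOfFiniteType hY (hD i) hY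
      (y ≫ c.π.app i) (y ≫ c.π.app i) (kpSnd D c y i) (kpFst D c y i)
      (kp_isPullback D c y i).flip (hlft i)
  have hid : (kerPairCone D c y).π.app i₁ ≫ (kerPairFst D c y).app i₁ = 𝟙 Y :=
    kpDiag_fst D c y i₁
  have hX0 : LocP @LocallyOfFinitePresentation (𝟙 Y) := by
    intro U V a b h hae hbe comm
    rw [Category.comp_id] at comm
    have h1 : RepWith @Etale ((yon S).map h) :=
      Groth.Agent.Lib.AlgSpLocP_helper7.repWith_etale_of_comp _ b (by rw [← comm]; exact hae) hbe
    have h2 : Etale h.left := (repWith_yon_map_iff _ _).1 h1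
    infer_instance
  have hX : LocP @LocallyOfFinitePresentation
      ((kerPairCone D c y).π.app i₁ ≫ (kerPairFst D c y).app i₁) := by
    rw [hid]
    exact hX0
  obtain ⟨i₀, hi₀⟩ := main10011 Y hY (kerPair D c y) hR (kerPairFst D c y) hRc
    (kerPairCone D c y) (isLimitKerPairCone D c y hc i₁) hRqc hRft i₁ hX
  refine ⟨i₀, fun i φ => ?_⟩
  have h : IsIso (pullback.diagonal (y ≫ c.π.app i)) := hi₀ i φ
  exact (pullback.isIso_diagonal_iff (y ≫ c.π.app i)).1 h

end Groth.Agent.Lib.LimTowerH7
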