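import Groth.Agent.Lib.LimTower7_helper7
import Groth.Agent.Lib.AlgSpDecent3_helper6

/-!
# Points of a limit of decent spaces (helper7)
-/

set_option autoImplicit false
set_option linter.style.haveILetI false

universe u

open CategoryTheory CategoryTheory.Limits AlgebraicGeometry Opposite
open AlgSp Groth.Agent.Lib.AlgSpPullback_helper7 Groth.Agent.Lib.AlgSpQC_helper7
  Groth.Agent.Lib.AlgSpPoints_helper7 Groth.Agent.Lib.AlgSpDecent3_helper6

namespace Groth.Agent.Lib.LimTowerH7

variable {S : Scheme.{u}}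

section PointSystem

variable {I : Type u} [SmallCategory I] (D : I ⥤ Sp S)
  (P : ∀ i, FieldPt (D.obj i)) (hm : ∀ i, Mono (P i).toHom)
  (hr : ∀ i, Representable (P i).toHom)
  (hcomp : ∀ (i j : I) (φ : i ⟶ j),
    Points.map (D.map φ) (Points.mk (P i)) = Points.mk (P j))

include hm hr hcomp in
theorem exists_transition (i j : I) (φ : i ⟶ j) :
    ∃ c : (P i).pt ⟶ (P j).pt, (yon S).map c ≫ (P j).toHom = (P i).toHom ≫ D.map φ := by
  have h : Points.mk ((P i).map (D.map φ)) = Points.mk (P j) := by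
    rw [← Points.map_mk]
    exact hcomp i j φ
  obtain ⟨c, hc⟩ := exists_factor_of_mono (P j) ((P i).map (D.map φ)) (hm j) (hr j) h
  exact ⟨c, hc.trans (FieldPt.toHom_map _ _)⟩

noncomputable def ptMap {i j : I} (φ : i ⟶ j) : (P i).pt ⟶ (P j).pt :=
  (exists_transition D P hm hr hcomp i j φ).choose

theorem ptMap_spec {i j : I} (φ : i ⟶ j) :
    (yon S).map (ptMap D P hm hr hcomp φ) ≫ (P j).toHom = (P i).toHom ≫ D.map φ :=
  (exists_transition D P hm hr hcomp i j φ).choose_spec

include hm in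
theorem pt_hom_ext {j : I} {T : Over S} (a b : T ⟶ (P j).pt)
    (h : (yon S).map a ≫ (P j).toHom = (yon S).map b ≫ (P j).toHom) : a = b := by
  haveI := hm j
  exact (yon S).map_injective ((cancel_mono (P j).toHom).1 h)

noncomputable def ptSys : I ⥤ Over S where
  obj i := (P i).pt
  map φ := ptMap D P hm hr hcomp φ
  map_id i := by
    apply pt_hom_ext D P hm
    rw [ptMap_spec, CategoryTheory.Functor.map_id, CategoryTheory.Functor.map_id,
      Category.comp_id, Category.id_comp]
  map_comp φ ψ := by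
    apply pt_hom_ext D P hm
    rw [ptMap_spec, (yon S).map_comp, Category.assoc, ptMap_spec, ← Category.assoc, ptMap_spec,
      Category.assoc, D.map_comp]

theorem ptSys_map_spec {i j : I} (φ : i ⟶ j) :
    (yon S).map ((ptSys D P hm hr hcomp).map φ) ≫ (P j).toHom = (P i).toHom ≫ D.map φ :=
  ptMap_spec D P hm hr hcomp φ

end PointSystem

set_option backward.isDefEq.respectTransparency false in
/-- The fibre of `|lim X_i| → lim |X_i|` over a compatible family of points of decent spaces is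
the set of points of a one-point scheme. -/
theorem exists_point_scheme {I : Type u} [SmallCategory I] [IsCofiltered I]
    (D : I ⥤ Sp S) (c : Cone D) (hc : IsLimit c)
    (hdec : ∀ i, IsDecent (D.obj i)) (s : ∀ i, Points (D.obj i))
    (hs : ∀ (i j : I) (φ : i ⟶ j), Points.map (D.map φ) (s i) = s j) :
    ∃ (T : Over S) (m : (yon S).obj T ⟶ c.pt), Nonempty ↥T.left ∧
      (∀ t t' : ↥T.left, t = t') ∧
      (∀ (t : ↥T.left) (i : I), Points.map (c.π.app i) (Points.ofPt m t) = s i) ∧
      (∀ x : Points c.pt, (∀ i, Points.map (c.π.app i) x = s i) → ∃ t, Points.ofPt m t = x) := by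
  choose P hP hPm hPq using fun i => hdec i (s i)
  have hr : ∀ i, Representable (P i).toHom := fun i => (hPq i).rep
  have hcomp : ∀ (i j : I) (φ : i ⟶ j),
      Points.map (D.map φ) (Points.mk (P i)) = Points.mk (P j) := by
    intro i j φ
    rw [hP i, hP j]
    exact hs i j φ
  obtain ⟨F, hFobj, hFmap⟩ : ∃ F : I ⥤ Over S, (∀ i, F.obj i = (P i).pt) ∧
      F = ptSys D P hPm hr hcomp := ⟨_, fun _ => rfl, rfl⟩
  subst hFmap
  have hspec : ∀ {i j : I} (φ : i ⟶ j),
      (yon S).map ((ptSys D P hPm hr hcomp).map φ) ≫ (P j).toHom = (P i).toHom ≫ D.map φ :=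
    fun φ => ptSys_map_spec D P hPm hr hcomp φ
  have hFaff : ∀ (i j : I) (φ : i ⟶ j), IsAffineHom ((ptSys D P hPm hr hcomp).map φ).left :=
    fun i j φ => by
      change IsAffineHom (X := Spec (CommRingCat.of (P i).K)) (Y := Spec (CommRingCat.of (P j).K))
        ((ptSys D P hPm hr hcomp).map φ).left
      infer_instance
  obtain ⟨cF, ⟨hcF⟩, ⟨hl⟩, hπaff⟩ := exists_limit_over (ptSys D P hPm hr hcomp) hFaff
  let cone : Cone D :=
    { pt := (yon S).obj cF.pt
      π :=
        { app := fun i => (yon S).map (cF.π.app i) ≫ (P i).toHom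
          naturality := fun i j φ => by
            dsimp only [Functor.const_obj_obj, Functor.const_obj_map]
            rw [Category.id_comp, Category.assoc, ← hspec φ, ← Category.assoc,
              ← Functor.map_comp, cF.w φ] } }
  have hm : ∀ i, hc.lift cone ≫ c.π.app i = (yon S).map (cF.π.app i) ≫ (P i).toHom :=
    fun i => hc.fac cone i
  haveI : ∀ {i j : I} (φ : i ⟶ j),
      IsAffineHom (((ptSys D P hPm hr hcomp) ⋙ Over.forget S).map φ) := fun φ => hFaff _ _ φ
  have hsub : ∀ (i : I) (a b : ↥((ptSys D P hPm hr hcomp).obj i).left), a = b := fun i a b =>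
    (inferInstance : Subsingleton ↥(Spec (CommRingCat.of (P i).K))).elim a b
  refine ⟨cF.pt, hc.lift cone, ?_, ?_, ?_, ?_⟩
  · haveI : ∀ i, Nonempty ↥(((ptSys D P hPm hr hcomp) ⋙ Over.forget S).obj i) := fun i =>
      ⟨(IsLocalRing.closedPoint (P i).K : ↥(Spec (CommRingCat.of (P i).K)))⟩
    haveI : ∀ i, CompactSpace ↥(((ptSys D P hPm hr hcomp) ⋙ Over.forget S).obj i) := fun i =>
      inferInstanceAs (CompactSpace ↥(Spec (CommRingCat.of (P i).K)))
    exact Scheme.nonempty_of_isLimit ((ptSys D P hPm hr hcomp) ⋙ Over.forget S) _ hl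
  · have key : ∀ (a b : ↥cF.pt.left) (U : Set ↥cF.pt.left), IsOpen U → a ∈ U → b ∈ U := by
      intro a b U hU ha
      have hB := isBasis_preimage_isAffineOpen ((ptSys D P hPm hr hcomp) ⋙ Over.forget S)
        ((Over.forget S).mapCone cF) hl
      have hB' := fun (U' : TopologicalSpace.Opens ↥cF.pt.left) (x : ↥cF.pt.left) (hx : x ∈ U') =>
        TopologicalSpace.Opens.isBasis_iff_nbhd.1 hB hx
      obtain ⟨_, ⟨i, V, hV, rfl⟩, haV, hVU⟩ := hB' ⟨U, hU⟩ a ha
      apply hVU
      have h1 : (cF.π.app i).left a ∈ V := haV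
      have h2 : (cF.π.app i).left b = (cF.π.app i).left a := hsub i _ _
      show (cF.π.app i).left b ∈ V
      rw [h2]
      exact h1
    intro t t'
    by_contra hne
    obtain ⟨U, hU, hx⟩ := exists_isOpen_xor_mem hne
    rcases hx with ⟨h1, h2⟩ | ⟨h1, h2⟩
    · exact h2 (key t t' U hU h1)
    · exact h2 (key t' t U hU h1)
  · intro t i
    rw [Points.map_ofPt, hm i, ofPt_comp, ← hP i]
    exact Points.ofPt_toHom (P i) _
  · intro x hx
    obtain ⟨K, _, sK, n, rfl⟩ := mk_surjective' x
    have h1 : ∀ i, Points.mk (ofHom (n ≫ c.π.app i)) = Points.mk (P i) := fun i => by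
      rw [← map_mk_ofHom, hx i, hP i]
    have h2 : ∀ i, ∃ a : Over.mk sK ⟶ (P i).pt, (yon S).map a ≫ (P i).toHom = n ≫ c.π.app i :=
      fun i => by
        obtain ⟨a, ha⟩ := exists_factor_of_mono (P i) (ofHom (n ≫ c.π.app i)) (hPm i) (hr i) (h1 i)
        exact ⟨a, by rw [ha, toHom_ofHom]⟩
    choose a ha using h2
    let coneF : Cone (ptSys D P hPm hr hcomp) :=
      { pt := Over.mk sK
        π :=
          { app := fun i => a i
            naturality := fun i j φ => by
              dsimp only [Functor.const_obj_obj, Functor.const_obj_map]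
              rw [Category.id_comp]
              apply pt_hom_ext D P hPm
              rw [Functor.map_comp, Category.assoc, hspec φ, ← Category.assoc, ha i, ha j,
                Category.assoc, c.w] } }
    have hl' : ∀ i, hcF.lift coneF ≫ cF.π.app i = a i := fun i => hcF.fac coneF i
    have hn : n = (yon S).map (hcF.lift coneF) ≫ hc.lift cone := by
      apply hc.hom_ext
      intro i
      rw [Category.assoc, hm i, ← Category.assoc, ← Functor.map_comp, hl' i, ha i]
    refine ⟨(hcF.lift coneF).left (IsLocalRing.closedPoint K), ?_⟩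
    rw [ofPt_eq_mk_ofHom, ← hn]

/-! ### S10057 -/

theorem main10057 {I : Type u} [SmallCategory I] [IsCofiltered I]
    (D : I ⥤ Sp S) (c : Cone D) (hc : IsLimit c)
    (hdec : ∀ i, IsDecent (D.obj i)) :
    (∀ x x' : Points c.pt, (∀ i, Points.map (c.π.app i) x = Points.map (c.π.app i) x') → x = x') ∧
    (∀ s : ∀ i, Points (D.obj i),
      (∀ (i j : I) (φ : i ⟶ j), Points.map (D.map φ) (s i) = s j) →
      ∃ x : Points c.pt, ∀ i, Points.map (c.π.app i) x = s i) := by
  constructor
  · intro x x' h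
    obtain ⟨T, m, -, hsub, -, hsurj⟩ := exists_point_scheme D c hc hdec
      (fun i => Points.map (c.π.app i) x)
      (fun i j φ => by rw [← Points.map_comp, c.w])
    obtain ⟨t, rfl⟩ := hsurj x (fun _ => rfl)
    obtain ⟨t', rfl⟩ := hsurj x' (fun i => (h i).symm)
    rw [hsub t t']
  · intro s hs
    obtain ⟨T, m, ⟨t⟩, -, hmap, -⟩ := exists_point_scheme D c hc hdec s hs
    exact ⟨Points.ofPt m t, hmap t⟩

/-! ### S10058 -/

set_option backward.isDefEq.respectTransparency false in
theorem main10058 {I : Type u} [SmallCategory I] [IsCofiltered I]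
    (D : I ⥤ Sp S) (hD : ∀ i, IsAlgSpace (D.obj i))
    (hDa : ∀ (i j : I) (φ : i ⟶ j), IsAffineMor (D.map φ))
    (c : Cone D) (hc : IsLimit c) :
    Points.topologicalSpace c.pt =
      ⨅ i, TopologicalSpace.induced (Points.map (c.π.app i))
        (Points.topologicalSpace (D.obj i)) := by
  apply le_antisymm
  · refine le_iInf fun i => ?_
    exact continuous_iff_le_induced.1 (Points.continuous_map (c.π.app i))
  · rw [TopologicalSpace.le_def]
    intro W hW
    rw [@isOpen_iff_forall_mem_open]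
    intro x hxW
    obtain ⟨i₀⟩ := IsCofiltered.nonempty (C := I)
    obtain ⟨Z₀, g₀, hge₀, hgs₀⟩ := (hD i₀).atlas
    obtain ⟨z₀, hz₀⟩ := ofPt_surjective g₀ hgs₀ (Points.map (c.π.app i₀) x)
    obtain ⟨E, p, q, cE, fst, w, sq, hp, hq, hEaff, hqaff, ⟨hcE⟩, ⟨hl⟩, hπaff, hw, hfst, pb,
      hwaff⟩ := exists_tower D hDa c hc i₀ g₀
    obtain ⟨e, he1, he2⟩ := exists_pt_of_isPullback_mixed pb x z₀ hz₀.symm
    have hO : IsOpen (Points.ofPt fst ⁻¹' W) := Points.isOpen_iff.1 hW _ fst
    haveI : ∀ {j k : Over i₀} (φ : j ⟶ k), IsAffineHom ((E ⋙ Over.forget S).map φ) :=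
      fun φ => hEaff _ _ φ
    have hB := isBasis_preimage_isAffineOpen (E ⋙ Over.forget S)
      ((Over.forget S).mapCone cE) hl
    have heO : e ∈ Points.ofPt fst ⁻¹' W := by
      show Points.ofPt fst e ∈ W
      rw [he1]
      exact hxW
    have hB' := fun (U' : TopologicalSpace.Opens ↥cE.pt.left) (x : ↥cE.pt.left) (hx : x ∈ U') =>
      TopologicalSpace.Opens.isBasis_iff_nbhd.1 hB hx
    obtain ⟨_, ⟨k, V₀, hV, rfl⟩, heV, hVO⟩ := hB' ⟨_, hO⟩ e heO
    obtain ⟨V, rfl⟩ : ∃ V : (E.obj k).left.Opens, V = V₀ := ⟨V₀, rfl⟩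
    have hpe : RepWith @Etale (p k) := repWith_fst_of_isPullback _ (sq k) hge₀
    have stage := isPullback_stage D c i₀ g₀ p q cE fst w sq hw hfst pb k
    refine ⟨Points.map (c.π.app k.left) ⁻¹' (Points.ofPt (p k) '' (V : Set ↥(E.obj k).left)),
      ?_, ?_, ?_⟩
    · rintro x' ⟨v, hv, hvx⟩
      obtain ⟨e', rfl, rfl⟩ := exists_pt_of_isPullback_mixed stage x' v hvx.symm
      exact hVO hv
    · have h1 : IsOpen (Points.ofPt (p k) '' (V : Set ↥(E.obj k).left)) :=
        isOpenMap_ofPt_of_etale (p k) hpe _ V.2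
      exact (TopologicalSpace.le_def.1 (iInf_le _ k.left)) _ (isOpen_induced h1)
    · refine ⟨(cE.π.app k).left e, heV, ?_⟩
      rw [← he1, Points.map_ofPt, hfst k, ofPt_comp]
      rfl

end Groth.Agent.Lib.LimTowerH7
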