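import Mathlib
import Groth.Agent.Lib.CINormal_helper9

/-!
# Linear forms missing a projective variety (helper9)
-/

set_option autoImplicit false
universe u

namespace Groth.Agent.LinAvoid

open MvPolynomial Groth.Agent.CISat

section General

variable {R : Type u} [CommRing R]

/-- dimension drop along a hyperplane section, in chain form -/
theorem krullDim_zeroLocus_le (I I' : Ideal R) (hII' : I ≤ I') (d : ℕ)
    (hd : Order.krullDim (PrimeSpectrum.zeroLocus (I : Set R)) ≤ ((d + 1 : ℕ) : WithBot ℕ∞))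
    (H : ∀ Q : Ideal R, Q.IsPrime → I' ≤ Q →
      (Q.IsMaximal ∨ ∃ P : Ideal R, P.IsPrime ∧ I ≤ P ∧ P < Q)) :
    Order.krullDim (PrimeSpectrum.zeroLocus (I' : Set R)) ≤ (d : WithBot ℕ∞) := by
  unfold Order.krullDim
  apply iSup_le
  intro p
  have hQ0 : I' ≤ p.head.1.asIdeal := p.head.2
  rcases H p.head.1.asIdeal p.head.1.isPrime hQ0 with hmax | ⟨P, hPprime, hIP, hPQ⟩
  · -- the chain is trivial
    have hlen : p.length = 0 := by
      by_contra hne
      have h1 : p.head < p ⟨1, by omega⟩ := p.strictMono (by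
        rw [Fin.lt_def]; simp)
      have h2 : p.head.1.asIdeal < (p ⟨1, by omega⟩).1.asIdeal := h1
      exact (p ⟨1, by omega⟩).1.isPrime.ne_top (hmax.1.2 _ h2)
    rw [hlen]
    exact_mod_cast Nat.zero_le d
  · -- prepend `P`
    let incl : PrimeSpectrum.zeroLocus (I' : Set R) → PrimeSpectrum.zeroLocus (I : Set R) :=
      fun x => ⟨x.1, fun a ha => x.2 (hII' ha)⟩
    have hincl : StrictMono incl := fun x y hxy => hxy
    let q : LTSeries (PrimeSpectrum.zeroLocus (I : Set R)) :=
      (p.map incl hincl).cons ⟨⟨P, hPprime⟩, hIP⟩ (by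
        rw [LTSeries.head_map]
        exact hPQ)
    have hq : (q.length : WithBot ℕ∞) ≤ ((d + 1 : ℕ) : WithBot ℕ∞) :=
      le_trans (Order.LTSeries.length_le_krullDim q) hd
    have hql : q.length = p.length + 1 := by
      simp only [q, RelSeries.cons_length, LTSeries.map_length]
    rw [hql] at hq
    have : p.length + 1 ≤ d + 1 := by exact_mod_cast hq
    exact_mod_cast (by omega : p.length ≤ d)

theorem eq_of_ringKrullDim_quotient_le_zero (I : Ideal R) (h : ringKrullDim (R ⧸ I) ≤ 0)
    (P Q : Ideal R) [P.IsPrime] [Q.IsPrime] (hIP : I ≤ P) (hPQ : P ≤ Q) : P = Q := by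
  haveI : Ring.KrullDimLE 0 (R ⧸ I) := Ring.krullDimLE_iff.2 (by exact_mod_cast h)
  haveI : (P.map (Ideal.Quotient.mk I)).IsPrime := Ideal.isPrime_map_quotientMk_of_isPrime hIP
  have hmax : (P.map (Ideal.Quotient.mk I)).IsMaximal := Ideal.IsPrime.isMaximal' inferInstance
  have hcomap : (P.map (Ideal.Quotient.mk I)).comap (Ideal.Quotient.mk I) = P := by
    rw [Ideal.comap_map_of_surjective _ Ideal.Quotient.mk_surjective, ← RingHom.ker_eq_comap_bot,
      Ideal.mk_ker, sup_eq_left]
    exact hIP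
  have hPmax : P.IsMaximal := by
    rw [← hcomap]
    exact Ideal.comap_isMaximal_of_surjective _ Ideal.Quotient.mk_surjective
  exact hPmax.eq_of_le (Ideal.IsPrime.ne_top inferInstance) hPQ

end General

section Poly

variable (k : Type u) [Field k] (N : ℕ)

attribute [local instance] MvPolynomial.gradedAlgebra

/-- minimal primes of a homogeneous ideal lie in the irrelevant ideal -/
theorem minimalPrimes_le_irr' (I : Ideal (MvPolynomial (Fin N) k))
    (hI : I.IsHomogeneous (homogeneousSubmodule (Fin N) k)) (P : Ideal (MvPolynomial (Fin N) k))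
    (hP : P ∈ I.minimalPrimes) : P ≤ irr k N := by
  obtain ⟨S, hS⟩ := (Ideal.IsHomogeneous.iff_exists _ _).1 hI
  rw [hS] at hP
  refine Groth.Agent.CINormal.minimalPrimes_le_irr k N _ ?_ P hP
  rintro _ ⟨y, -, rfl⟩
  obtain ⟨d, hd⟩ := y.2
  exact ⟨d, (mem_homogeneousSubmodule _ _).1 hd⟩

/-- a linear form avoiding the non-irrelevant minimal primes -/
theorem exists_linear_form [Infinite k] (I : Ideal (MvPolynomial (Fin N) k)) :
    ∃ ℓ : MvPolynomial (Fin N) k, ℓ.IsHomogeneous 1 ∧
      ∀ P ∈ I.minimalPrimes, P ≠ irr k N → ℓ ∉ P := by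
  haveI : Finite {P : Ideal (MvPolynomial (Fin N) k) // P ∈ I.minimalPrimes ∧ P ≠ irr k N} := by
    have hfin : (I.minimalPrimes).Finite := Ideal.finite_minimalPrimes_of_isNoetherianRing _ I
    exact (hfin.subset (fun P hP => hP.1)).to_subtype
  obtain ⟨x, hx⟩ := Submodule.exists_forall_notMem_of_forall_ne_top
    (K := k) (M := ↥(homogeneousSubmodule (Fin N) k 1))
    (fun P : {P : Ideal (MvPolynomial (Fin N) k) // P ∈ I.minimalPrimes ∧ P ≠ irr k N} =>
      Submodule.comap (homogeneousSubmodule (Fin N) k 1).subtype (P.1.restrictScalars k))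
    (by
      rintro ⟨P, hP, hne⟩ htop
      apply hne
      haveI : P.IsPrime := hP.1.1
      have hle : irr k N ≤ P := by
        apply irr_le_of_X_mem
        intro i
        have h1 : (⟨X i, (mem_homogeneousSubmodule _ _).2 (isHomogeneous_X k i)⟩ :
            ↥(homogeneousSubmodule (Fin N) k 1)) ∈
            Submodule.comap (homogeneousSubmodule (Fin N) k 1).subtype (P.restrictScalars k) := by
          rw [htop]; trivial
        exact h1
      exact ((irr_isMaximal k N).eq_of_le hP.1.1.ne_top hle).symm)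
  refine ⟨x.1, (mem_homogeneousSubmodule _ _).1 x.2, ?_⟩
  intro P hP hne hmem
  exact hx ⟨P, hP, hne⟩ hmem

/-- the key induction -/
theorem exists_forms [Infinite k] : ∀ (d : ℕ) (I : Ideal (MvPolynomial (Fin N) k)),
    I.IsHomogeneous (homogeneousSubmodule (Fin N) k) → I ≤ irr k N →
    ringKrullDim (MvPolynomial (Fin N) k ⧸ I) ≤ (d : WithBot ℕ∞) →
    ∃ h : Fin d → MvPolynomial (Fin N) k, (∀ i, (h i).IsHomogeneous 1) ∧
      ∀ Q : Ideal (MvPolynomial (Fin N) k), Q.IsPrime → I ⊔ Ideal.span (Set.range h) ≤ Q →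
        irr k N ≤ Q := by
  intro d
  induction d with
  | zero =>
    intro I hI hIm hdim
    refine ⟨Fin.elim0, fun i => i.elim0, ?_⟩
    intro Q hQ hle
    have hIQ : I ≤ Q := le_trans le_sup_left hle
    obtain ⟨P, hP, hPQ⟩ := Ideal.exists_minimalPrimes_le hIQ
    haveI : P.IsPrime := hP.1.1
    have h1 : P ≤ irr k N := minimalPrimes_le_irr' k N I hI P hP
    have h2 : P = irr k N :=
      eq_of_ringKrullDim_quotient_le_zero I (by exact_mod_cast hdim) P (irr k N) hP.1.2 h1
    rw [← h2]
    exact hPQ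
  | succ d ih =>
    intro I hI hIm hdim
    obtain ⟨ℓ, hℓ, hℓP⟩ := exists_linear_form k N I
    have hℓm : ℓ ∈ irr k N := mem_irr_of_isHomogeneous k N hℓ one_pos
    have hI' : (I ⊔ Ideal.span {ℓ}).IsHomogeneous (homogeneousSubmodule (Fin N) k) := by
      apply Ideal.IsHomogeneous.sup hI
      apply Ideal.homogeneous_span
      intro x hx
      rw [Set.mem_singleton_iff] at hx
      subst hx
      exact ⟨1, (mem_homogeneousSubmodule _ _).2 hℓ⟩
    have hI'm : I ⊔ Ideal.span {ℓ} ≤ irr k N := by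
      apply sup_le hIm
      rw [Ideal.span_le]
      intro x hx
      rw [Set.mem_singleton_iff] at hx
      subst hx
      exact hℓm
    have hdim' : ringKrullDim (MvPolynomial (Fin N) k ⧸ (I ⊔ Ideal.span {ℓ})) ≤
        (d : WithBot ℕ∞) := by
      rw [ringKrullDim_quotient] at hdim ⊢
      refine krullDim_zeroLocus_le I (I ⊔ Ideal.span {ℓ}) le_sup_left d (by exact_mod_cast hdim) ?_
      intro Q hQ hle
      have hIQ : I ≤ Q := le_trans le_sup_left hle
      have hℓQ : ℓ ∈ Q := hle (Ideal.mem_sup_right (Ideal.subset_span rfl))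
      obtain ⟨P, hP, hPQ⟩ := Ideal.exists_minimalPrimes_le hIQ
      by_cases hPirr : P = irr k N
      · left
        have : irr k N = Q := (irr_isMaximal k N).eq_of_le hQ.ne_top (hPirr ▸ hPQ)
        rw [← this]
        exact irr_isMaximal k N
      · right
        refine ⟨P, hP.1.1, hP.1.2, lt_of_le_of_ne hPQ ?_⟩
        rintro rfl
        exact hℓP P hP hPirr hℓQ
    obtain ⟨h', hh', hQ'⟩ := ih (I ⊔ Ideal.span {ℓ}) hI' hI'm hdim'
    refine ⟨Fin.cons ℓ h', ?_, ?_⟩
    · intro i
      refine Fin.cases ?_ (fun j => ?_) i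
      · simpa using hℓ
      · simpa using hh' j
    · intro Q hQ hle
      apply hQ' Q hQ
      rw [Fin.range_cons, Ideal.span_insert, ← sup_assoc] at hle
      exact hle

end Poly

end Groth.Agent.LinAvoid
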