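import Groth.Agent.Lib.TrigStruct_helper1
import Groth.Agent.Lib.LinRed_helper9
import Groth.Agent.Lib.PiZero_helper1

/-!
# Linear reductivity in an exact sequence `1 → K → G → Q → 1` (helper1)

Hopf-algebraic form: `φ : AQ → AG` injective, `ψ : AG → AK` surjective with kernel generated by
`φ (AQ⁺)`.  `G` is linearly reductive iff `K` and `Q` are.  The integrals are `(α ⊗ id) Δ = α · 1`.
APPEND-ONLY once landed.
-/

set_option autoImplicit false
set_option maxHeartbeats 1000000

open TensorProduct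

namespace LinRedExactH1

open Groth.Agent.Lib.PiZeroH1 Groth.Agent.Lib.HopfFFH1 Groth.Agent.Lib.Integral_helper9
  Groth.Agent.Lib.LinRed_helper9 Groth.Agent.Lib.Comod_helper9

universe u

section Slices

variable {k : Type*} [Field k] {M M' N N' : Type*} [AddCommGroup M] [Module k M]
  [AddCommGroup M'] [Module k M'] [AddCommGroup N] [Module k N] [AddCommGroup N'] [Module k N']

theorem sliceL_lTensor' (μ : M →ₗ[k] k) (g : N →ₗ[k] N') (t : M ⊗[k] N) :
    sliceL μ (g.lTensor M t) = g (sliceL μ t) := by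
  induction t using TensorProduct.induction_on with
  | zero => simp
  | add x y hx hy => simp only [map_add, hx, hy]
  | tmul m n => rw [LinearMap.lTensor_tmul, sliceL_tmul, sliceL_tmul, map_smul]

theorem sliceL_rTensor' (μ : M' →ₗ[k] k) (g : M →ₗ[k] M') (t : M ⊗[k] N) :
    sliceL μ (g.rTensor N t) = sliceL (μ ∘ₗ g) t := by
  induction t using TensorProduct.induction_on with
  | zero => simp
  | add x y hx hy => simp only [map_add, hx, hy]
  | tmul m n => rw [LinearMap.rTensor_tmul, sliceL_tmul, sliceL_tmul, LinearMap.comp_apply]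

theorem sliceL_map' (μ : M' →ₗ[k] k) (f : M →ₗ[k] M') (g : N →ₗ[k] N') (t : M ⊗[k] N) :
    sliceL μ (TensorProduct.map f g t) = g (sliceL (μ ∘ₗ f) t) := by
  induction t using TensorProduct.induction_on with
  | zero => simp
  | add x y hx hy => simp only [map_add, hx, hy]
  | tmul m n =>
    rw [TensorProduct.map_tmul, sliceL_tmul, sliceL_tmul, LinearMap.comp_apply, map_smul]

theorem sliceL_zero' (t : M ⊗[k] N) : sliceL (0 : M →ₗ[k] k) t = 0 := by
  induction t using TensorProduct.induction_on with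
  | zero => simp
  | add x y hx hy => rw [map_add, hx, hy, add_zero]
  | tmul m n => rw [sliceL_tmul, LinearMap.zero_apply, zero_smul]

theorem sliceL_sub_smul (μ₁ μ₂ : M →ₗ[k] k) (c : k) (t : M ⊗[k] N) :
    sliceL (μ₁ - c • μ₂) t = sliceL μ₁ t - c • sliceL μ₂ t := by
  induction t using TensorProduct.induction_on with
  | zero => simp
  | add x y hx hy => rw [map_add, map_add, map_add, hx, hy, smul_add]; abel
  | tmul m n =>
    rw [sliceL_tmul, sliceL_tmul, sliceL_tmul, LinearMap.sub_apply, LinearMap.smul_apply, sub_smul,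
      smul_eq_mul, mul_smul]

end Slices

section Main

variable {k : Type u} [Field k] {AQ AG AK : Type u} [CommRing AQ] [HopfAlgebra k AQ]
  [CommRing AG] [HopfAlgebra k AG] [CommRing AK] [HopfAlgebra k AK]

/-- underlying linear map of a bialgebra hom -/
abbrev lin {A B : Type u} [CommRing A] [HopfAlgebra k A] [CommRing B] [HopfAlgebra k B]
    (f : A →ₐc[k] B) : A →ₗ[k] B := (f : A →ₐ[k] B).toLinearMap

variable (φ : AQ →ₐc[k] AG) (ψ : AG →ₐc[k] AK)

/-- `a ↦ Σ a₁ ⊗ ψ a₂` -/
noncomputable def rhoR : AG →ₗ[k] AG ⊗[k] AK :=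
  (lin ψ).lTensor AG ∘ₗ CoalgebraStruct.comul (R := k) (A := AG)

/-- `a ↦ Σ ψ a₁ ⊗ a₂` -/
noncomputable def rhoL : AG →ₗ[k] AK ⊗[k] AG :=
  (lin ψ).rTensor AG ∘ₗ CoalgebraStruct.comul (R := k) (A := AG)

/-- `a ↦ Σ μ a₁ • a₂` -/
noncomputable def Lf (μ : AG →ₗ[k] k) : AG →ₗ[k] AG :=
  sliceL μ ∘ₗ CoalgebraStruct.comul (R := k) (A := AG)

theorem comul_hom {A B : Type u} [CommRing A] [HopfAlgebra k A] [CommRing B] [HopfAlgebra k B]
    (f : A →ₐc[k] B) (a : A) :
    CoalgebraStruct.comul (R := k) (f a) =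
      TensorProduct.map (lin f) (lin f) (CoalgebraStruct.comul (R := k) a) :=
  (CoalgHomClass.map_comp_comul_apply f a).symm

theorem psi_phi
    (hker : RingHom.ker (ψ : AG →ₐ[k] AK) =
      Ideal.map (φ : AQ →ₐ[k] AG) (RingHom.ker (Bialgebra.counitAlgHom k AQ))) (q : AQ) :
    ψ (φ q) = algebraMap k AK (Coalgebra.counit q) := by
  have h1 := sub_counit_mem_augIdeal φ q
  have h2 : φ q - algebraMap k AG (Coalgebra.counit q) ∈ RingHom.ker (ψ : AG →ₐ[k] AK) := by
    rw [hker]
    exact h1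
  rw [RingHom.mem_ker, map_sub, sub_eq_zero, AlgHom.commutes] at h2
  exact h2

theorem rhoR_phi (hψφ : ∀ q, ψ (φ q) = algebraMap k AK (Coalgebra.counit q)) (q : AQ) :
    rhoR ψ (φ q) = φ q ⊗ₜ[k] (1 : AK) := by
  have key : ∀ s : AQ ⊗[k] AQ, (lin ψ).lTensor AG (TensorProduct.map (lin φ) (lin φ) s) =
      TensorProduct.map (lin φ) (Algebra.linearMap k AK)
        ((CoalgebraStruct.counit (R := k) (A := AQ)).lTensor AQ s) := by
    intro s
    induction s using TensorProduct.induction_on with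
    | zero => simp
    | add x y hx hy => simp only [map_add, hx, hy]
    | tmul p r =>
      rw [TensorProduct.map_tmul, LinearMap.lTensor_tmul, LinearMap.lTensor_tmul,
        TensorProduct.map_tmul]
      show φ p ⊗ₜ[k] ψ (φ r) = φ p ⊗ₜ[k] (algebraMap k AK (Coalgebra.counit r))
      rw [hψφ]
  show (lin ψ).lTensor AG (CoalgebraStruct.comul (R := k) (φ q)) = _
  rw [comul_hom φ q, key, Coalgebra.lTensor_counit_comul, TensorProduct.map_tmul]
  show φ q ⊗ₜ[k] algebraMap k AK 1 = _
  rw [map_one]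

theorem mem_range_of_rhoR
    (hker : RingHom.ker (ψ : AG →ₐ[k] AK) =
      Ideal.map (φ : AQ →ₐ[k] AG) (RingHom.ker (Bialgebra.counitAlgHom k AQ)))
    (t : AG) (ht : rhoR ψ t = t ⊗ₜ[k] (1 : AK)) : t ∈ (φ : AQ →ₐ[k] AG).range := by
  apply TrigStrH1.mem_range_of_coinv φ t
  have hle : ∀ a ∈ augIdeal φ, (ψ : AG →ₐ[k] AK) a = 0 := fun a ha => by
    have h1 : a ∈ RingHom.ker (ψ : AG →ₐ[k] AK) := by
      rw [hker]
      exact ha
    exact RingHom.mem_ker.mp h1
  let s' : (AG ⧸ augIdeal φ) →ₐ[k] AK :=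
    Ideal.Quotient.liftₐ (augIdeal φ) (ψ : AG →ₐ[k] AK) hle
  have hs' : ∀ a, s' (Ideal.Quotient.mkₐ k (augIdeal φ) a) = ψ a := fun a =>
    AlgHom.congr_fun (Ideal.Quotient.liftₐ_comp (augIdeal φ) (ψ : AG →ₐ[k] AK) hle) a
  have hinj : Function.Injective s'.toLinearMap := by
    rw [← LinearMap.ker_eq_bot, LinearMap.ker_eq_bot']
    intro m hm
    obtain ⟨a, rfl⟩ := Ideal.Quotient.mkₐ_surjective k (augIdeal φ) m
    have h0 : ψ a = 0 := (hs' a).symm.trans hm
    have h1 : a ∈ RingHom.ker (ψ : AG →ₐ[k] AK) := RingHom.mem_ker.mpr h0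
    rw [hker] at h1
    exact Ideal.Quotient.eq_zero_iff_mem.mpr h1
  have hinj2 : Function.Injective (s'.toLinearMap.lTensor AG) :=
    Module.Flat.lTensor_preserves_injective_linearMap _ hinj
  apply hinj2
  rw [LinearMap.lTensor_tmul, ← LinearMap.comp_apply, ← LinearMap.lTensor_comp]
  have hcomp : s'.toLinearMap ∘ₗ (Ideal.Quotient.mkₐ k (augIdeal φ)).toLinearMap = lin ψ := by
    apply LinearMap.ext
    intro a
    exact hs' a
  rw [hcomp]
  show rhoR ψ t = t ⊗ₜ[k] s' 1
  rw [ht, map_one]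

theorem mem_range_of_rhoL
    (hker : RingHom.ker (ψ : AG →ₐ[k] AK) =
      Ideal.map (φ : AQ →ₐ[k] AG) (RingHom.ker (Bialgebra.counitAlgHom k AQ)))
    (t : AG) (ht : rhoL ψ t = (1 : AK) ⊗ₜ[k] t) : t ∈ (φ : AQ →ₐ[k] AG).range := by
  have h1 : rhoR ψ (HopfAlgebraStruct.antipode k t) =
      HopfAlgebraStruct.antipode k t ⊗ₜ[k] (1 : AK) := by
    show (lin ψ).lTensor AG (CoalgebraStruct.comul (R := k) (HopfAlgebraStruct.antipode k t)) = _
    rw [Groth.Agent.Lib.Antipode_helper9.comul_antipode k AG t]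
    have key : ∀ s : AG ⊗[k] AG, (lin ψ).lTensor AG
        (TensorProduct.map (HopfAlgebraStruct.antipode k (A := AG))
          (HopfAlgebraStruct.antipode k (A := AG)) (TensorProduct.comm k AG AG s)) =
        TensorProduct.map (HopfAlgebraStruct.antipode k (A := AG))
          (HopfAlgebraStruct.antipode k (A := AK))
          (TensorProduct.comm k AK AG ((lin ψ).rTensor AG s)) := by
      intro s
      induction s using TensorProduct.induction_on with
      | zero => simp
      | add x y hx hy => simp only [map_add, hx, hy]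
      | tmul x y =>
        rw [TensorProduct.comm_tmul, TensorProduct.map_tmul, LinearMap.lTensor_tmul,
          LinearMap.rTensor_tmul, TensorProduct.comm_tmul, TensorProduct.map_tmul]
        congr 1
        exact (antipode_bialgHom_apply ψ x).symm
    rw [key]
    have h2 : (lin ψ).rTensor AG (CoalgebraStruct.comul (R := k) t) = (1 : AK) ⊗ₜ[k] t := ht
    rw [h2, TensorProduct.comm_tmul, TensorProduct.map_tmul, HopfAlgebra.antipode_one]
  obtain ⟨q, hq⟩ := (AlgHom.mem_range _).mp (mem_range_of_rhoR φ ψ hker _ h1)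
  refine (AlgHom.mem_range _).mpr ⟨HopfAlgebraStruct.antipode k q, ?_⟩
  have h3 := antipode_bialgHom_apply φ q
  have hq' : φ q = HopfAlgebraStruct.antipode k t := hq
  show φ (HopfAlgebraStruct.antipode k q) = t
  rw [← h3, hq', antipode_antipode k AG t]

theorem comul_Lf (μ : AG →ₗ[k] k) (a : AG) :
    CoalgebraStruct.comul (R := k) (Lf μ a) =
      (Lf μ).rTensor AG (CoalgebraStruct.comul (R := k) a) := by
  have aux : ∀ (y : AG) (s : AG ⊗[k] AG), (sliceL μ).rTensor AG
      ((TensorProduct.assoc k AG AG AG).symm (y ⊗ₜ[k] s)) = μ y • s := by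
    intro y s
    induction s using TensorProduct.induction_on with
    | zero => simp
    | add p q hp hq => rw [TensorProduct.tmul_add, map_add, map_add, hp, hq, smul_add]
    | tmul p q =>
      rw [TensorProduct.assoc_symm_tmul, LinearMap.rTensor_tmul, sliceL_tmul,
        TensorProduct.smul_tmul']
  have K1 : ∀ t : AG ⊗[k] AG, CoalgebraStruct.comul (R := k) (sliceL μ t) =
      (sliceL μ).rTensor AG ((TensorProduct.assoc k AG AG AG).symm
        ((CoalgebraStruct.comul (R := k) (A := AG)).lTensor AG t)) := by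
    intro t
    induction t using TensorProduct.induction_on with
    | zero => simp
    | add x y hx hy => simp only [map_add, hx, hy]
    | tmul y z => rw [sliceL_tmul, map_smul, LinearMap.lTensor_tmul, aux]
  show CoalgebraStruct.comul (R := k) (sliceL μ (CoalgebraStruct.comul (R := k) a)) = _
  rw [K1, Coalgebra.coassoc_symm_apply, ← LinearMap.comp_apply, ← LinearMap.rTensor_comp]
  rfl

theorem isComodHom_Lf (μ : AG →ₗ[k] k) : Hoch.IsComodHom AG (Lf μ) :=
  LinearMap.ext fun a => comul_Lf μ a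

theorem counit_Lf (μ : AG →ₗ[k] k) (a : AG) :
    CoalgebraStruct.counit (R := k) (Lf μ a) = μ a := by
  show CoalgebraStruct.counit (R := k) (sliceL μ (CoalgebraStruct.comul (R := k) a)) = μ a
  rw [slice_comm]
  congr 1
  show (TensorProduct.rid k AG) ((CoalgebraStruct.counit (R := k) (A := AG)).lTensor AG
    (CoalgebraStruct.comul (R := k) a)) = a
  rw [Coalgebra.lTensor_counit_comul, TensorProduct.rid_tmul, one_smul]

theorem rhoL_Lf (μ : AG →ₗ[k] k) (hμ : ∀ a, sliceL μ (rhoR ψ a) = μ a • (1 : AK)) (a : AG) :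
    rhoL ψ (Lf μ a) = (1 : AK) ⊗ₜ[k] Lf μ a := by
  show (lin ψ).rTensor AG (CoalgebraStruct.comul (R := k) (Lf μ a)) = _
  rw [comul_Lf, ← LinearMap.comp_apply, ← LinearMap.rTensor_comp]
  have h1 : lin ψ ∘ₗ Lf μ = Algebra.linearMap k AK ∘ₗ μ := by
    apply LinearMap.ext
    intro y
    show lin ψ (sliceL μ (CoalgebraStruct.comul (R := k) y)) = algebraMap k AK (μ y)
    rw [← sliceL_lTensor' μ (lin ψ)]
    show sliceL μ (rhoR ψ y) = _
    rw [hμ, Algebra.algebraMap_eq_smul_one]
  rw [h1]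
  have key : ∀ t : AG ⊗[k] AG, (Algebra.linearMap k AK ∘ₗ μ).rTensor AG t =
      (1 : AK) ⊗ₜ[k] sliceL μ t := by
    intro t
    induction t using TensorProduct.induction_on with
    | zero => simp
    | add x y hx hy => rw [map_add, map_add, hx, hy, TensorProduct.tmul_add]
    | tmul y z =>
      rw [LinearMap.rTensor_tmul, sliceL_tmul, LinearMap.comp_apply, Algebra.linearMap_apply,
        Algebra.algebraMap_eq_smul_one, TensorProduct.smul_tmul]
  rw [key]
  rfl

/-- uniqueness: a `K`-invariant functional on `AG` vanishing on `φ(AQ)` is zero -/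
theorem eq_zero_of_invariant (hG : HopfRep.IsLinearlyReductive k AG)
    (hker : RingHom.ker (ψ : AG →ₐ[k] AK) =
      Ideal.map (φ : AQ →ₐ[k] AG) (RingHom.ker (Bialgebra.counitAlgHom k AQ)))
    (μ : AG →ₗ[k] k) (hμ : ∀ a, sliceL μ (rhoR ψ a) = μ a • (1 : AK))
    (hμB : ∀ q, μ (φ q) = 0) : μ = 0 := by
  have hψφ := psi_phi φ ψ hker
  have hfB : ∀ q, Lf μ (φ q) = 0 := by
    intro q
    show sliceL μ (CoalgebraStruct.comul (R := k) (φ q)) = 0
    rw [comul_hom φ q, sliceL_map']
    have h0 : μ ∘ₗ lin φ = 0 := LinearMap.ext hμB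
    rw [h0, sliceL_zero', map_zero]
  have hfrange : ∀ a, Lf μ a ∈ (φ : AQ →ₐ[k] AG).range := fun a =>
    mem_range_of_rhoL φ ψ hker _ (rhoL_Lf ψ μ hμ a)
  have hN : HopfRep.IsSubcomod (k := k) (A := AG) (LinearMap.ker (Lf μ)) :=
    isSubcomod_ker (Lf μ) (isComodHom_Lf μ)
  obtain ⟨N₁, hN₁, hc⟩ :=
    isSemisimpleComod_of_isLinearlyReductive k AG hG AG (LinearMap.ker (Lf μ)) hN
  have hN₁bot : ∀ t ∈ N₁, t = 0 := by
    intro t ht
    obtain ⟨s, hs⟩ := hN₁ t ht
    have hs' : N₁.subtype.rTensor AG s = CoalgebraStruct.comul (R := k) t := hs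
    let g : ↥N₁ →ₗ[k] AG := Lf μ ∘ₗ N₁.subtype
    have hginj : Function.Injective g := by
      rw [← LinearMap.ker_eq_bot, LinearMap.ker_eq_bot']
      intro x hx
      have h1 : (x : AG) ∈ LinearMap.ker (Lf μ) ⊓ N₁ := ⟨hx, x.2⟩
      rw [hc.inf_eq_bot, Submodule.mem_bot] at h1
      exact Subtype.ext h1
    have hginj2 : Function.Injective (g.rTensor AK) :=
      Module.Flat.rTensor_preserves_injective_linearMap _ hginj
    let u : ↥N₁ ⊗[k] AK := (lin ψ).lTensor ↥N₁ s - (⟨t, ht⟩ : ↥N₁) ⊗ₜ[k] (1 : AK)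
    have e1 : N₁.subtype.rTensor AK ((lin ψ).lTensor ↥N₁ s) =
        TensorProduct.map N₁.subtype (lin ψ) s := by
      rw [← LinearMap.comp_apply, LinearMap.rTensor_comp_lTensor]
    have e2 : rhoR ψ t = TensorProduct.map N₁.subtype (lin ψ) s := by
      show (lin ψ).lTensor AG (CoalgebraStruct.comul (R := k) t) = _
      rw [← hs', ← LinearMap.comp_apply, LinearMap.lTensor_comp_rTensor]
    have hu1 : N₁.subtype.rTensor AK u = rhoR ψ t - t ⊗ₜ[k] (1 : AK) := by
      show N₁.subtype.rTensor AK ((lin ψ).lTensor ↥N₁ s - (⟨t, ht⟩ : ↥N₁) ⊗ₜ[k] (1 : AK)) = _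
      rw [map_sub, LinearMap.rTensor_tmul, e1, e2]
      rfl
    have h3 : (Lf μ).rTensor AK (rhoR ψ t) = rhoR ψ (Lf μ t) := by
      show (Lf μ).rTensor AK ((lin ψ).lTensor AG (CoalgebraStruct.comul (R := k) t)) =
        (lin ψ).lTensor AG (CoalgebraStruct.comul (R := k) (Lf μ t))
      rw [comul_Lf μ t]
      have a1 : (Lf μ).rTensor AK ((lin ψ).lTensor AG (CoalgebraStruct.comul (R := k) t)) =
          TensorProduct.map (Lf μ) (lin ψ) (CoalgebraStruct.comul (R := k) t) := by
        rw [← LinearMap.comp_apply, LinearMap.rTensor_comp_lTensor]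
      have a2 : (lin ψ).lTensor AG ((Lf μ).rTensor AG (CoalgebraStruct.comul (R := k) t)) =
          TensorProduct.map (Lf μ) (lin ψ) (CoalgebraStruct.comul (R := k) t) := by
        rw [← LinearMap.comp_apply, LinearMap.lTensor_comp_rTensor]
      rw [a1, a2]
    have hu2 : g.rTensor AK u = 0 := by
      have h4 : g.rTensor AK u = (Lf μ).rTensor AK (N₁.subtype.rTensor AK u) := by
        rw [← LinearMap.comp_apply, ← LinearMap.rTensor_comp]
      rw [h4, hu1, map_sub, LinearMap.rTensor_tmul, h3]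
      obtain ⟨q, hq⟩ := (AlgHom.mem_range _).mp (hfrange t)
      have hq' : Lf μ t = φ q := hq.symm
      rw [hq', rhoR_phi φ ψ hψφ q, sub_self]
    have hu0 : u = 0 := hginj2 (by rw [hu2, map_zero])
    have hcoinv : rhoR ψ t = t ⊗ₜ[k] (1 : AK) := by
      have h5 := hu1
      rw [hu0, map_zero] at h5
      exact sub_eq_zero.mp h5.symm
    obtain ⟨q, hq⟩ := (AlgHom.mem_range _).mp (mem_range_of_rhoR φ ψ hker t hcoinv)
    have hq' : φ q = t := hq
    have hft : Lf μ t = 0 := by
      rw [← hq']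
      exact hfB q
    have htker : t ∈ LinearMap.ker (Lf μ) ⊓ N₁ := ⟨LinearMap.mem_ker.mpr hft, ht⟩
    rw [hc.inf_eq_bot, Submodule.mem_bot] at htker
    exact htker
  have hker_top : LinearMap.ker (Lf μ) = ⊤ := by
    have h1 := hc.sup_eq_top
    have h2 : N₁ = ⊥ := (Submodule.eq_bot_iff _).mpr hN₁bot
    rw [h2, sup_bot_eq] at h1
    exact h1
  apply LinearMap.ext
  intro a
  have hfa : Lf μ a = 0 := by
    have h1 : a ∈ LinearMap.ker (Lf μ) := by
      rw [hker_top]
      trivial
    exact h1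
  rw [← counit_Lf μ a, hfa, map_zero]
  rfl

/-- existence of a `K`-invariant functional restricting to the counit on `φ(AQ)` -/
theorem exists_lam (hG : HopfRep.IsLinearlyReductive k AG)
    (hker : RingHom.ker (ψ : AG →ₐ[k] AK) =
      Ideal.map (φ : AQ →ₐ[k] AG) (RingHom.ker (Bialgebra.counitAlgHom k AQ))) :
    ∃ lam : AG →ₗ[k] k, (∀ a, sliceL lam (rhoR ψ a) = lam a • (1 : AK)) ∧
      ∀ q, lam (φ q) = Coalgebra.counit q := by
  have hψφ := psi_phi φ ψ hker
  let B : Submodule k AG := LinearMap.range (lin φ)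
  have hB : HopfRep.IsSubcomod (k := k) (A := AG) B := by
    rintro b ⟨q, rfl⟩
    have hfac : lin φ = B.subtype ∘ₗ (lin φ).rangeRestrict := by
      apply LinearMap.ext
      intro x
      rfl
    refine ⟨TensorProduct.map (lin φ).rangeRestrict (lin φ)
      (CoalgebraStruct.comul (R := k) q), ?_⟩
    show B.subtype.rTensor AG (TensorProduct.map (lin φ).rangeRestrict (lin φ)
      (CoalgebraStruct.comul (R := k) q)) = CoalgebraStruct.comul (R := k) (φ q)
    rw [comul_hom φ q, ← LinearMap.comp_apply, LinearMap.rTensor_comp_map, ← hfac]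
  obtain ⟨B', hB', hc⟩ := isSemisimpleComod_of_isLinearlyReductive k AG hG AG B hB
  let π₀ : AG →ₗ[k] ↥B := Submodule.projectionOnto B B' hc
  let r₀ : AG →ₗ[k] AG := B.subtype ∘ₗ π₀
  have hr₀B : ∀ b (hb : b ∈ B), r₀ b = b := fun b hb => by
    show ((π₀ b : ↥B) : AG) = b
    have h1 : π₀ b = ⟨b, hb⟩ := Submodule.projectionOnto_apply_of_mem_left hc hb
    rw [h1]
  have hr₀B' : ∀ b ∈ B', r₀ b = 0 := fun b hb => by
    show ((π₀ b : ↥B) : AG) = 0
    have h1 : π₀ b = 0 := (Submodule.projectionOnto_apply_eq_zero_iff hc).mpr hb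
    rw [h1]
    rfl
  have hr₀mem : ∀ a, r₀ a ∈ B := fun a => (π₀ a).2
  have hBcase : ∀ b ∈ B, CoalgebraStruct.comul (R := k) (r₀ b) =
      r₀.rTensor AG (CoalgebraStruct.comul (R := k) b) := by
    intro b hb
    obtain ⟨s, hs⟩ := hB b hb
    have hs' : CoalgebraStruct.comul (R := k) b = B.subtype.rTensor AG s := hs.symm
    rw [hr₀B b hb, hs', ← LinearMap.comp_apply, ← LinearMap.rTensor_comp]
    have h2 : r₀ ∘ₗ B.subtype = B.subtype := LinearMap.ext fun x => hr₀B x x.2
    rw [h2]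
  have hB'case : ∀ b ∈ B', CoalgebraStruct.comul (R := k) (r₀ b) =
      r₀.rTensor AG (CoalgebraStruct.comul (R := k) b) := by
    intro b hb
    obtain ⟨s, hs⟩ := hB' b hb
    have hs' : CoalgebraStruct.comul (R := k) b = B'.subtype.rTensor AG s := hs.symm
    rw [hr₀B' b hb, map_zero, hs', ← LinearMap.comp_apply, ← LinearMap.rTensor_comp]
    have h2 : r₀ ∘ₗ B'.subtype = 0 := LinearMap.ext fun x => hr₀B' x x.2
    rw [h2, LinearMap.rTensor_zero, LinearMap.zero_apply]
  have hcolin : ∀ a, CoalgebraStruct.comul (R := k) (r₀ a) =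
      r₀.rTensor AG (CoalgebraStruct.comul (R := k) a) := by
    intro a
    have hmem : a - r₀ a ∈ B' := by
      rw [← Submodule.projectionOnto_apply_eq_zero_iff hc]
      show π₀ (a - r₀ a) = 0
      rw [map_sub]
      have h1 : π₀ (r₀ a) = π₀ a := Submodule.projectionOnto_apply_left hc (π₀ a)
      rw [h1, sub_self]
    have h3 : CoalgebraStruct.comul (R := k) (r₀ (r₀ a + (a - r₀ a))) =
        r₀.rTensor AG (CoalgebraStruct.comul (R := k) (r₀ a + (a - r₀ a))) := by
      rw [map_add, map_add, map_add, map_add, hBcase _ (hr₀mem a), hB'case _ hmem]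
    rwa [add_sub_cancel] at h3
  refine ⟨CoalgebraStruct.counit (R := k) (A := AG) ∘ₗ r₀, ?_, ?_⟩
  · intro a
    obtain ⟨q, hq⟩ := hr₀mem a
    have hq' : φ q = r₀ a := hq
    rw [← sliceL_rTensor']
    show sliceL (CoalgebraStruct.counit (R := k) (A := AG))
      (r₀.rTensor AK ((lin ψ).lTensor AG (CoalgebraStruct.comul (R := k) a))) = _
    have a0 : r₀.rTensor AK ((lin ψ).lTensor AG (CoalgebraStruct.comul (R := k) a)) =
        TensorProduct.map r₀ (lin ψ) (CoalgebraStruct.comul (R := k) a) := by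
      rw [← LinearMap.comp_apply, LinearMap.rTensor_comp_lTensor]
    have a1 : (lin ψ).lTensor AG (r₀.rTensor AG (CoalgebraStruct.comul (R := k) a)) =
        TensorProduct.map r₀ (lin ψ) (CoalgebraStruct.comul (R := k) a) := by
      rw [← LinearMap.comp_apply, LinearMap.lTensor_comp_rTensor]
    rw [a0, ← a1, ← hcolin a, sliceL_lTensor']
    have a2 : sliceL (CoalgebraStruct.counit (R := k) (A := AG))
        (CoalgebraStruct.comul (R := k) (r₀ a)) = r₀ a := by
      show (TensorProduct.lid k AG) ((CoalgebraStruct.counit (R := k) (A := AG)).rTensor AG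
        (CoalgebraStruct.comul (R := k) (r₀ a))) = r₀ a
      rw [Coalgebra.rTensor_counit_comul, TensorProduct.lid_tmul, one_smul]
    rw [a2]
    show ψ (r₀ a) = CoalgebraStruct.counit (R := k) (r₀ a) • (1 : AK)
    rw [← hq', hψφ, Algebra.algebraMap_eq_smul_one, CoalgHomClass.counit_comp_apply φ q]
  · intro q
    show CoalgebraStruct.counit (R := k) (r₀ (φ q)) = _
    rw [hr₀B (φ q) ⟨q, rfl⟩]
    exact CoalgHomClass.counit_comp_apply φ q

theorem mulLeft_rTensor (b : AG) (t : AG ⊗[k] AK) :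
    (LinearMap.mulLeft k b).rTensor AK t = (b ⊗ₜ[k] (1 : AK)) * t := by
  induction t using TensorProduct.induction_on with
  | zero => simp
  | add x y hx hy => rw [map_add, hx, hy, mul_add]
  | tmul y z =>
    rw [LinearMap.rTensor_tmul, LinearMap.mulLeft_apply, Algebra.TensorProduct.tmul_mul_tmul,
      one_mul]

theorem rhoR_mul (x y : AG) : rhoR ψ (x * y) = rhoR ψ x * rhoR ψ y := by
  have key : ∀ t : AG ⊗[k] AG, (lin ψ).lTensor AG t =
      Algebra.TensorProduct.map (AlgHom.id k AG) (ψ : AG →ₐ[k] AK) t := by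
    intro t
    induction t using TensorProduct.induction_on with
    | zero => simp
    | add p q hp hq => rw [map_add, map_add, hp, hq]
    | tmul p q =>
      rw [LinearMap.lTensor_tmul, Algebra.TensorProduct.map_tmul]
      rfl
  show (lin ψ).lTensor AG (CoalgebraStruct.comul (R := k) (x * y)) =
    (lin ψ).lTensor AG (CoalgebraStruct.comul (R := k) x) *
      (lin ψ).lTensor AG (CoalgebraStruct.comul (R := k) y)
  rw [key, key, key, Bialgebra.comul_mul, map_mul]

theorem lam_mul (hG : HopfRep.IsLinearlyReductive k AG)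
    (hker : RingHom.ker (ψ : AG →ₐ[k] AK) =
      Ideal.map (φ : AQ →ₐ[k] AG) (RingHom.ker (Bialgebra.counitAlgHom k AQ)))
    (lam : AG →ₗ[k] k) (hlam : ∀ a, sliceL lam (rhoR ψ a) = lam a • (1 : AK))
    (hlamB : ∀ q, lam (φ q) = Coalgebra.counit q) (q : AQ) (a : AG) :
    lam (φ q * a) = Coalgebra.counit q * lam a := by
  have hψφ := psi_phi φ ψ hker
  let μ : AG →ₗ[k] k :=
    lam ∘ₗ LinearMap.mulLeft k (φ q) - (Coalgebra.counit (R := k) q) • lam
  have hμ0 : μ = 0 := by
    apply eq_zero_of_invariant φ ψ hG hker μ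
    · intro x
      show sliceL (lam ∘ₗ LinearMap.mulLeft k (φ q) - (Coalgebra.counit (R := k) q) • lam)
        (rhoR ψ x) = _
      rw [sliceL_sub_smul, ← sliceL_rTensor', mulLeft_rTensor, ← rhoR_phi φ ψ hψφ q, ← rhoR_mul,
        hlam, hlam]
      show _ = (lam (φ q * x) - Coalgebra.counit (R := k) q • lam x) • (1 : AK)
      rw [sub_smul, smul_assoc]
    · intro q'
      show lam (φ q * φ q') - Coalgebra.counit (R := k) q • lam (φ q') = 0
      rw [← map_mul, hlamB, hlamB, Bialgebra.counit_mul, smul_eq_mul, sub_self]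
  have h1 := LinearMap.congr_fun hμ0 a
  have h2 : lam (φ q * a) - Coalgebra.counit (R := k) q • lam a = 0 := h1
  rw [smul_eq_mul] at h2
  exact sub_eq_zero.mp h2

theorem lam_ker (hG : HopfRep.IsLinearlyReductive k AG)
    (hker : RingHom.ker (ψ : AG →ₐ[k] AK) =
      Ideal.map (φ : AQ →ₐ[k] AG) (RingHom.ker (Bialgebra.counitAlgHom k AQ)))
    (lam : AG →ₗ[k] k) (hlam : ∀ a, sliceL lam (rhoR ψ a) = lam a • (1 : AK))
    (hlamB : ∀ q, lam (φ q) = Coalgebra.counit q) (x : AG) (hx : ψ x = 0) : lam x = 0 := by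
  have hx' : x ∈ Ideal.map (φ : AQ →ₐ[k] AG) (RingHom.ker (Bialgebra.counitAlgHom k AQ)) := by
    rw [← hker]
    exact RingHom.mem_ker.mpr hx
  have key : ∀ y ∈ Ideal.map (φ : AQ →ₐ[k] AG) (RingHom.ker (Bialgebra.counitAlgHom k AQ)),
      ∀ a : AG, lam (a * y) = 0 := by
    intro y hy
    rw [Ideal.map] at hy
    induction hy using Submodule.span_induction with
    | mem y hy =>
      obtain ⟨q, hq, rfl⟩ := hy
      intro a
      have hq1 : (Bialgebra.counitAlgHom k AQ) q = 0 := RingHom.mem_ker.mp hq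
      have hq0 : Coalgebra.counit (R := k) q = 0 := hq1
      have h1 := lam_mul φ ψ hG hker lam hlam hlamB q a
      rw [hq0, zero_mul] at h1
      rw [mul_comm]
      exact h1
    | zero =>
      intro a
      rw [mul_zero, map_zero]
    | add y z _ _ hy hz =>
      intro a
      rw [mul_add, map_add, hy, hz, add_zero]
    | smul c y _ hy =>
      intro a
      rw [smul_eq_mul, ← mul_assoc]
      exact hy (a * c)
  have h2 := key x hx' 1
  rwa [one_mul] at h2

theorem linRed_K (hG : HopfRep.IsLinearlyReductive k AG) (hψ : Function.Surjective ψ)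
    (hker : RingHom.ker (ψ : AG →ₐ[k] AK) =
      Ideal.map (φ : AQ →ₐ[k] AG) (RingHom.ker (Bialgebra.counitAlgHom k AQ))) :
    HopfRep.IsLinearlyReductive k AK := by
  obtain ⟨lam, hlam, hlamB⟩ := exists_lam φ ψ hG hker
  obtain ⟨σ, hσ⟩ := (lin ψ).exists_rightInverse_of_surjective (LinearMap.range_eq_top.mpr hψ)
  let γ : AK →ₗ[k] k := lam ∘ₗ σ
  have hγ : ∀ a, γ (ψ a) = lam a := by
    intro a
    have h1 : ψ (σ (ψ a) - a) = 0 := by
      rw [map_sub, sub_eq_zero]
      exact LinearMap.congr_fun hσ (ψ a)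
    have h2 := lam_ker φ ψ hG hker lam hlam hlamB (σ (ψ a) - a) h1
    rw [map_sub, sub_eq_zero] at h2
    exact h2
  have hγ1 : γ 1 = 1 := by
    have h1 := hγ 1
    rw [map_one] at h1
    rw [h1]
    have h2 := hlamB 1
    rw [map_one] at h2
    rw [h2]
    exact Bialgebra.counit_one
  have hint : ∀ x : AK, Theta k AK γ (CoalgebraStruct.comul (R := k) x) = γ x • (1 : AK) := by
    intro x
    obtain ⟨a, rfl⟩ := hψ x
    have key : ∀ t : AG ⊗[k] AG, Theta k AK γ (TensorProduct.map (lin ψ) (lin ψ) t) =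
        sliceL lam ((lin ψ).lTensor AG t) := by
      intro t
      induction t using TensorProduct.induction_on with
      | zero => simp
      | add p q hp hq => rw [map_add, map_add, map_add, map_add, hp, hq]
      | tmul y z =>
        rw [TensorProduct.map_tmul, Theta_tmul, LinearMap.lTensor_tmul, sliceL_tmul]
        show γ (ψ y) • ψ z = lam y • ψ z
        rw [hγ]
    rw [comul_hom ψ a, key, hγ]
    exact hlam a
  intro V _ _ _ _
  exact isSemisimpleComod_of_integral k AK γ V hint hγ1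

theorem linRed_Q (hG : HopfRep.IsLinearlyReductive k AG) (hφ : Function.Injective φ) :
    HopfRep.IsLinearlyReductive k AQ := by
  obtain ⟨α, hint, h1⟩ := exists_totalIntegral_of_isLinearlyReductive k AG hG
  have hint' := integral_comp k (lin φ) hφ (map_one φ)
    (fun b => CoalgHomClass.map_comp_comul_apply φ b) α hint
  have h1' : (α ∘ₗ lin φ) 1 = 1 := by
    show α (φ 1) = 1
    rw [map_one, h1]
  intro V _ _ _ _
  exact isSemisimpleComod_of_integral k AQ (α ∘ₗ lin φ) V hint' h1'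

theorem linRed_G (hK : HopfRep.IsLinearlyReductive k AK) (hQ : HopfRep.IsLinearlyReductive k AQ)
    (hφ : Function.Injective φ)
    (hker : RingHom.ker (ψ : AG →ₐ[k] AK) =
      Ideal.map (φ : AQ →ₐ[k] AG) (RingHom.ker (Bialgebra.counitAlgHom k AQ))) :
    HopfRep.IsLinearlyReductive k AG := by
  obtain ⟨γ, hγint, hγ1⟩ := exists_totalIntegral_of_isLinearlyReductive k AK hK
  obtain ⟨αQ, hQint, hQ1⟩ := exists_totalIntegral_of_isLinearlyReductive k AQ hQ
  obtain ⟨ρ, hρ⟩ := (lin φ).exists_leftInverse_of_injective (LinearMap.ker_eq_bot.mpr hφ)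
  have hρ' : ∀ q, ρ (φ q) = q := fun q => LinearMap.congr_fun hρ q
  let μ : AG →ₗ[k] k := γ ∘ₗ lin ψ
  have hμ : ∀ a, sliceL μ (rhoR ψ a) = μ a • (1 : AK) := by
    intro a
    have key : ∀ t : AG ⊗[k] AG, sliceL μ ((lin ψ).lTensor AG t) =
        Theta k AK γ (TensorProduct.map (lin ψ) (lin ψ) t) := by
      intro t
      induction t using TensorProduct.induction_on with
      | zero => simp
      | add p q hp hq => rw [map_add, map_add, map_add, map_add, hp, hq]
      | tmul y z =>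
        rw [TensorProduct.map_tmul, Theta_tmul, LinearMap.lTensor_tmul, sliceL_tmul]
        rfl
    show sliceL μ ((lin ψ).lTensor AG (CoalgebraStruct.comul (R := k) a)) = _
    rw [key, ← comul_hom ψ a]
    exact hγint (ψ a)
  have hE : ∀ a, Lf μ a ∈ (φ : AQ →ₐ[k] AG).range := fun a =>
    mem_range_of_rhoL φ ψ hker _ (rhoL_Lf ψ μ hμ a)
  let αG : AG →ₗ[k] k := αQ ∘ₗ ρ ∘ₗ Lf μ
  have hE1 : Lf μ 1 = 1 := by
    show sliceL μ (CoalgebraStruct.comul (R := k) (1 : AG)) = 1
    rw [Bialgebra.comul_one, Algebra.TensorProduct.one_def, sliceL_tmul]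
    show γ (ψ 1) • (1 : AG) = 1
    rw [map_one, hγ1, one_smul]
  have h1 : αG 1 = 1 := by
    show αQ (ρ (Lf μ 1)) = 1
    rw [hE1, ← map_one φ, hρ', hQ1]
  have hint : ∀ a, Theta k AG αG (CoalgebraStruct.comul (R := k) a) = αG a • (1 : AG) := by
    intro a
    obtain ⟨q, hq⟩ := (AlgHom.mem_range _).mp (hE a)
    have hq' : Lf μ a = φ q := hq.symm
    have k1 : ∀ t : AG ⊗[k] AG, Theta k AG αG t =
        Theta k AG (αQ ∘ₗ ρ) ((Lf μ).rTensor AG t) := by
      intro t
      induction t using TensorProduct.induction_on with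
      | zero => simp
      | add x y hx hy => rw [map_add, map_add, map_add, hx, hy]
      | tmul y z =>
        rw [LinearMap.rTensor_tmul, Theta_tmul, Theta_tmul]
        rfl
    have k2 : ∀ s : AQ ⊗[k] AQ, Theta k AG (αQ ∘ₗ ρ) (TensorProduct.map (lin φ) (lin φ) s) =
        lin φ (Theta k AQ αQ s) := by
      intro s
      induction s using TensorProduct.induction_on with
      | zero => simp
      | add x y hx hy => rw [map_add, map_add, map_add, map_add, hx, hy]
      | tmul p r =>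
        rw [TensorProduct.map_tmul, Theta_tmul, Theta_tmul, map_smul, LinearMap.comp_apply]
        show αQ (ρ (φ p)) • lin φ r = _
        rw [hρ']
    rw [k1, ← comul_Lf μ a, hq', comul_hom φ q, k2, hQint, map_smul]
    show αQ q • φ 1 = αQ (ρ (Lf μ a)) • (1 : AG)
    rw [hq', hρ', map_one]
  intro V _ _ _ _
  exact isSemisimpleComod_of_integral k AG αG V hint h1

theorem main (φ : AQ →ₐc[k] AG) (hφ : Function.Injective φ)
    (ψ : AG →ₐc[k] AK) (hψ : Function.Surjective ψ)
    (hker : RingHom.ker (ψ : AG →ₐ[k] AK) =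
      Ideal.map (φ : AQ →ₐ[k] AG) (RingHom.ker (Bialgebra.counitAlgHom k AQ))) :
    HopfRep.IsLinearlyReductive k AG ↔
      HopfRep.IsLinearlyReductive k AK ∧ HopfRep.IsLinearlyReductive k AQ :=
  ⟨fun hG => ⟨linRed_K φ ψ hG hψ hker, linRed_Q φ hG hφ⟩,
    fun h => linRed_G φ ψ h.1 h.2 hφ hker⟩

end Main

end LinRedExactH1
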