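import Mathlib
import Groth.Prelude
import Groth.Agent.Lib.Tens6_helper8
set_option autoImplicit false
set_option linter.style.haveILetI false
set_option linter.unusedVariables false
universe u
open CategoryTheory AlgebraicGeometry TopologicalSpace Opposite
open TensH8 GenLocH8 QcqsLoc FLFH8 QCohExtn

namespace Groth.Agent.Lib.LinSerPtsH4

section Ev

variable (k : Type u) [Field k] {X : Scheme.{u}} (q : Spec (CommRingCat.of k) ⟶ X)

theorem top_le_preimage (W : X.Opens) (hx : q (IsLocalRing.closedPoint k) ∈ W) :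
    (⊤ : (Spec (CommRingCat.of k)).Opens) ≤ q ⁻¹ᵁ W := by
  intro z _
  have hz : z = IsLocalRing.closedPoint k := Subsingleton.elim _ _
  rw [hz]
  exact hx

/-- Evaluation of functions at a rational point given by a section. -/
noncomputable def ev (W : X.Opens) (hx : q (IsLocalRing.closedPoint k) ∈ W) : Γ(X, W) →+* k :=
  (Scheme.ΓSpecIso (CommRingCat.of k)).hom.hom.comp
    (q.appLE W ⊤ (top_le_preimage k q W hx)).hom

theorem ev_ne_zero (W : X.Opens) (hx : q (IsLocalRing.closedPoint k) ∈ W) (f : Γ(X, W))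
    (hf : q (IsLocalRing.closedPoint k) ∈ X.basicOpen f) : ev k q W hx f ≠ 0 := by
  intro h0
  have h1 : q.appLE W ⊤ (top_le_preimage k q W hx) f = 0 := by
    apply (ConcreteCategory.bijective_of_isIso (Scheme.ΓSpecIso (CommRingCat.of k)).hom).1
    exact h0.trans (map_zero _).symm
  have h5 : IsLocalRing.closedPoint k ∈
      (Spec (CommRingCat.of k)).basicOpen (q.appLE W ⊤ (top_le_preimage k q W hx) f) := by
    rw [Scheme.basicOpen_appLE]
    exact ⟨trivial, hf⟩
  rw [h1, Scheme.basicOpen_zero] at h5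
  exact Set.notMem_empty _ h5

theorem ev_toGlobal (π : X ⟶ Spec (CommRingCat.of k)) (hq : q ≫ π = 𝟙 _) (W : X.Opens)
    (hx : q (IsLocalRing.closedPoint k) ∈ W) (c : k) :
    ev k q W hx (rX (le_top : W ≤ ⊤) (Coh.toGlobal π c)) = c := by
  have h1 : X.presheaf.map (homOfLE (le_top : W ≤ ⊤)).op ≫
      q.appLE W ⊤ (top_le_preimage k q W hx) = q.appTop := by
    rw [Scheme.Hom.map_appLE]
    exact Scheme.Hom.appLE_eq_app q
  have h2 : π.appTop ≫ q.appTop = 𝟙 _ := by
    have := congrArg Scheme.Hom.appTop hq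
    exact this
  have h3 : (Scheme.ΓSpecIso (CommRingCat.of k)).inv ≫ (Scheme.ΓSpecIso (CommRingCat.of k)).hom
      = 𝟙 _ := (Scheme.ΓSpecIso (CommRingCat.of k)).inv_hom_id
  have h4 : (q.appLE W ⊤ (top_le_preimage k q W hx)).hom
      ((X.presheaf.map (homOfLE (le_top : W ≤ ⊤)).op).hom (Coh.toGlobal π c)) =
      q.appTop.hom (Coh.toGlobal π c) := congr($h1 (Coh.toGlobal π c))
  have h5 : q.appTop.hom (π.appTop.hom ((Scheme.ΓSpecIso (CommRingCat.of k)).inv.hom c)) =
      (Scheme.ΓSpecIso (CommRingCat.of k)).inv.hom c :=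
    congr($h2 ((Scheme.ΓSpecIso (CommRingCat.of k)).inv.hom c))
  have h6 : (Scheme.ΓSpecIso (CommRingCat.of k)).hom.hom
      ((Scheme.ΓSpecIso (CommRingCat.of k)).inv.hom c) = c := congr($h3 c)
  show (Scheme.ΓSpecIso (CommRingCat.of k)).hom.hom
    ((q.appLE W ⊤ (top_le_preimage k q W hx)).hom
      ((X.presheaf.map (homOfLE (le_top : W ≤ ⊤)).op).hom (Coh.toGlobal π c))) = c
  rw [h4]
  exact (congrArg (Scheme.ΓSpecIso (CommRingCat.of k)).hom.hom h5).trans h6

end Ev

theorem main (k : Type u) [Field k] (X : Scheme.{u}) [X.Over (Spec (CommRingCat.of k))]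
    (L : X.Modules) (hL : PicF.IsInvertible L)
    (n : ℕ) (p : Fin n → (Spec (CommRingCat.of k) ⟶ X))
    (hp : ∀ i, p i ≫ (X ↘ Spec (CommRingCat.of k)) = 𝟙 _)
    (t : Fin (n + 1) → (Coh.structureModule X ⟶ L))
    (ht : LinSer.LinIndep k X L (fun j => (L.unitHomEquiv (t j)).val (op ⊤))) :
    ∃ s : Coh.structureModule X ⟶ L, s ≠ 0 ∧
      ∀ i, (p i) (IsLocalRing.closedPoint k) ∉ CohB1.genLocus L s := by
  classical
  have hloc : ∀ i : Fin n, ∃ W : X.Opens, (p i) (IsLocalRing.closedPoint k) ∈ W ∧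
      ∃ e : Γ(L, W), IsGen L W e := by
    intro i
    obtain ⟨W, -, hxW, e, he⟩ := exists_isGen hL ((p i) (IsLocalRing.closedPoint k))
    exact ⟨W, hxW, e, he⟩
  choose W hxW e he using hloc
  have hcoef : ∀ i j, ∃ g : Γ(X, W i), SecTwist.val (t j) (W i) = g • e i :=
    fun i j => (he i).exists_coef _
  choose g hg using hcoef
  let M : Matrix (Fin n) (Fin (n + 1)) k := fun i j => ev k (p i) (W i) (hxW i) (g i j)
  have hker : LinearMap.ker (Matrix.mulVecLin M) ≠ ⊥ := by
    apply LinearMap.ker_ne_bot_of_finrank_lt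
    rw [Module.finrank_fin_fun, Module.finrank_fin_fun]
    exact Nat.lt_succ_self n
  obtain ⟨c, hcker, hc0⟩ := Submodule.exists_mem_ne_zero_of_ne_bot hker
  have hMc : ∀ i, ∑ j, M i j * c j = 0 := by
    intro i
    have h1 : M.mulVec c = 0 := by
      have := LinearMap.mem_ker.mp hcker
      rwa [Matrix.mulVecLin_apply] at this
    exact congrFun h1 i
  let secs : Fin (n + 1) → LinSer.Sect X L := fun j => (L.unitHomEquiv (t j)).val (op ⊤)
  have ht' : LinSer.LinIndep k X L secs := ht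
  let σ : LinSer.Sect X L :=
    ∑ j, (Coh.toGlobal (X ↘ Spec (CommRingCat.of k)) (c j)) • secs j
  refine ⟨homOfSec L σ, ?_, ?_⟩
  · intro hs
    apply hc0
    apply ht' c
    have h1 : SecTwist.val (homOfSec L σ) ⊤ = rF L (le_top : (⊤ : X.Opens) ≤ ⊤) σ :=
      val_homOfSec L σ ⊤
    rw [SubExt.rF_self] at h1
    have h2 : SecTwist.val (homOfSec L σ) ⊤ = 0 := by
      rw [hs]
      rfl
    exact h1.symm.trans h2
  · intro i hmem
    let f : Γ(X, W i) :=
      ∑ j, rX (le_top : W i ≤ ⊤) (Coh.toGlobal (X ↘ Spec (CommRingCat.of k)) (c j)) * g i j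
    have hf : SecTwist.val (homOfSec L σ) (W i) = f • e i := by
      rw [val_homOfSec]
      show rF L le_top (∑ j, (Coh.toGlobal (X ↘ Spec (CommRingCat.of k)) (c j)) • secs j) = _
      rw [map_sum, Finset.sum_smul]
      refine Finset.sum_congr rfl (fun j _ => ?_)
      refine (rF_smul L le_top _ _).trans ?_
      rw [mul_smul, ← hg i j]
      congr 1
      exact rF_val (t j) le_top
    have h3 := genLocus_inf_eq (homOfSec L σ) (he i) f hf
    have h4 : (p i) (IsLocalRing.closedPoint k) ∈ X.basicOpen f := by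
      rw [← h3]
      exact ⟨hmem, hxW i⟩
    have h5 := ev_ne_zero k (p i) (W i) (hxW i) f h4
    apply h5
    show ev k (p i) (W i) (hxW i)
      (∑ j, rX le_top (Coh.toGlobal (X ↘ Spec (CommRingCat.of k)) (c j)) * g i j) = 0
    rw [map_sum, ← hMc i]
    refine Finset.sum_congr rfl (fun j _ => ?_)
    rw [map_mul, ev_toGlobal k (p i) (X ↘ Spec (CommRingCat.of k)) (hp i) (W i) (hxW i) (c j),
      mul_comm]

end Groth.Agent.Lib.LinSerPtsH4
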