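import Groth.Agent.Lib.LinTop_lead
import Mathlib.Topology.Algebra.UniformRing

/-!
# Completions of linearly topologized rings (lead)
-/

universe u v

namespace Groth.Agent.Lib.LinTopCompl_lead

open LinTop Topology UniformSpace Groth.Agent.Lib.LinTop_lead

variable {A : Type u} [CommRing A] [UniformSpace A] [IsUniformAddGroup A] [IsTopologicalRing A]

/-- The closure of the image of an ideal of `A` in the completion, as an ideal. -/
def imageClosure (I : Ideal A) : Ideal (Completion A) where
  carrier := closure ((fun a : A => (a : Completion A)) '' (I : Set A))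
  zero_mem' := subset_closure ⟨0, I.zero_mem, Completion.coe_zero⟩
  add_mem' := by
    intro x y hx hy
    refine map_mem_closure₂ continuous_add hx hy ?_
    rintro _ ⟨a, ha, rfl⟩ _ ⟨b, hb, rfl⟩
    exact ⟨a + b, I.add_mem ha hb, Completion.coe_add a b⟩
  smul_mem' := by
    intro b y hy
    have hb : b ∈ closure (Set.range (fun a : A => (a : Completion A))) :=
      Completion.denseRange_coe b
    refine map_mem_closure₂ continuous_mul hb hy ?_
    rintro _ ⟨a, rfl⟩ _ ⟨x, hx, rfl⟩
    exact ⟨a * x, I.mul_mem_left _ hx, Completion.coe_mul a x⟩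

theorem coe_imageClosure (I : Ideal A) :
    (imageClosure I : Set (Completion A)) =
      closure ((fun a : A => (a : Completion A)) '' (I : Set A)) := rfl

theorem isClosed_imageClosure (I : Ideal A) : IsClosed (imageClosure I : Set (Completion A)) :=
  isClosed_closure

theorem imageClosure_mem_nhds (I : Ideal A) (hI : IsOpen (I : Set A)) :
    (imageClosure I : Set (Completion A)) ∈ 𝓝 (0 : Completion A) := by
  have := Completion.isDenseInducing_coe.closure_image_mem_nhds (hI.mem_nhds I.zero_mem)
  rwa [Completion.coe_zero] at this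

theorem isOpen_imageClosure (I : Ideal A) (hI : IsOpen (I : Set A)) :
    IsOpen (imageClosure I : Set (Completion A)) :=
  (imageClosure I).toAddSubgroup.isOpen_of_mem_nhds (imageClosure_mem_nhds I hI)

theorem closure_map_coeRingHom (I : Ideal A) :
    (I.map (Completion.coeRingHom : A →+* Completion A)).closure = imageClosure I := by
  apply le_antisymm
  · refine closure_ideal_le_of_isClosed (isClosed_imageClosure I) ?_
    rw [Ideal.map_le_iff_le_comap]
    intro x hx
    exact subset_closure ⟨x, hx, rfl⟩
  · intro y hy
    rw [← SetLike.mem_coe, Ideal.coe_closure]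
    refine closure_mono ?_ hy
    rintro _ ⟨x, hx, rfl⟩
    exact Ideal.mem_map_of_mem (Completion.coeRingHom : A →+* Completion A) hx

variable [IsLinearTopology A A]

theorem exists_imageClosure_subset {U : Set (Completion A)} (hU : U ∈ 𝓝 (0 : Completion A)) :
    ∃ I : Ideal A, IsOpen (I : Set A) ∧ (imageClosure I : Set (Completion A)) ⊆ U := by
  obtain ⟨V, ⟨hV, hVc⟩, hVU⟩ := (closed_nhds_basis (0 : Completion A)).mem_iff.1 hU
  have hpre : (fun a : A => (a : Completion A)) ⁻¹' V ∈ 𝓝 (0 : A) := by
    apply (Completion.continuous_coe A).continuousAt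
    rwa [Completion.coe_zero]
  obtain ⟨I, hI, hIV⟩ := (IsLinearTopology.hasBasis_open_ideal (R := A)).mem_iff.1 hpre
  refine ⟨I, hI, subset_trans ?_ hVU⟩
  rw [coe_imageClosure]
  refine closure_minimal ?_ hVc
  rintro _ ⟨x, hx, rfl⟩
  exact hIV hx

instance isLinearTopology_completion : IsLinearTopology (Completion A) (Completion A) := by
  refine IsLinearTopology.mk_of_hasBasis (R := Completion A) (M := Completion A)
    (ι := {I : Ideal A // IsOpen (I : Set A)}) (S := Ideal (Completion A))
    (p := fun _ => True) (s := fun I => imageClosure I.1) ⟨fun U => ⟨fun hU => ?_, ?_⟩⟩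
  · obtain ⟨I, hI, hIU⟩ := exists_imageClosure_subset hU
    exact ⟨⟨I, hI⟩, trivial, hIU⟩
  · rintro ⟨I, -, hIU⟩
    exact Filter.mem_of_superset (imageClosure_mem_nhds I.1 I.2) hIU

/-- The canonical map to the completion is taut. -/
theorem isTaut_coeRingHom : IsTaut (Completion.coeRingHom : A →+* Completion A) := by
  refine ⟨Completion.continuous_coeRingHom, ?_, ?_⟩
  · intro I hI
    rw [← Ideal.coe_closure, closure_map_coeRingHom]
    exact isOpen_imageClosure I hI
  · intro U hU
    obtain ⟨I, hI, hIU⟩ := exists_imageClosure_subset hU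
    refine ⟨I, hI, ?_⟩
    rw [← Ideal.coe_closure, closure_map_coeRingHom]
    exact hIU

end Groth.Agent.Lib.LinTopCompl_lead
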