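import Groth.Prelude.Def_W4stk3formalspacesTaut
import Mathlib.Topology.Algebra.OpenSubgroup
import Mathlib.RingTheory.AdicCompletion.Basic
import Mathlib.Topology.Algebra.InfiniteSum.Nonarchimedean
import Mathlib.Topology.Algebra.InfiniteSum.Ring
import Mathlib.Topology.Algebra.InfiniteSum.NatInt
import Mathlib.RingTheory.RingHom.FaithfullyFlat
import Mathlib.Topology.Algebra.Nonarchimedean.AdicTopology

/-!
# Linearly topologized rings: helper lemmas (lead)
-/

universe u v w

namespace Groth.Agent.Lib.LinTop_lead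

open LinTop Topology

section
variable {A : Type u} [CommRing A] [TopologicalSpace A] [IsTopologicalRing A]

/-- Open ideals are closed. -/
theorem ideal_isClosed_of_isOpen (I : Ideal A) (h : IsOpen (I : Set A)) : IsClosed (I : Set A) :=
  AddSubgroup.isClosed_of_isOpen I.toAddSubgroup h

theorem closure_ideal_eq_of_isOpen (I : Ideal A) (h : IsOpen (I : Set A)) :
    closure (I : Set A) = I :=
  (ideal_isClosed_of_isOpen I h).closure_eq

/-- If `I ≤ J` and the closure of `I` is open then so is the closure of `J`. -/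
theorem isOpen_closure_mono {I J : Ideal A} (h : I ≤ J) (hI : IsOpen (closure (I : Set A))) :
    IsOpen (closure (J : Set A)) := by
  rw [← Ideal.coe_closure] at hI ⊢
  refine Ideal.isOpen_of_isOpen_subideal (U := I.closure) (I := J.closure) ?_ hI
  intro x hx
  have hx' : x ∈ closure (I : Set A) := by rwa [← Ideal.coe_closure]
  have : x ∈ closure (J : Set A) := closure_mono (fun y hy => h hy) hx'
  rwa [← Ideal.coe_closure] at this

/-- An ideal containing an open ideal has open closure (it is itself open). -/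
theorem isOpen_closure_of_isOpen (I : Ideal A) (h : IsOpen (I : Set A)) :
    IsOpen (closure (I : Set A)) := by
  rwa [closure_ideal_eq_of_isOpen I h]

end

section
variable {A : Type u} [CommRing A] [TopologicalSpace A]
variable {B : Type v} [CommRing B] [TopologicalSpace B] [IsTopologicalRing B] [IsLinearTopology B B]

omit [IsTopologicalRing B] [IsLinearTopology B B] in
/-- The preimage of an open ideal under a continuous ring map is an open ideal. -/
theorem isOpen_comap {φ : A →+* B} (hφ : Continuous φ) (J : Ideal B) (hJ : IsOpen (J : Set B)) :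
    IsOpen ((J.comap φ : Ideal A) : Set A) :=
  hJ.preimage hφ

/-- For a continuous ring map into a linearly topologized ring, every neighbourhood of `0`
contains the closure of the extension of an open ideal. -/
theorem exists_isOpen_closure_map_subset {φ : A →+* B} (hφ : Continuous φ) {U : Set B}
    (hU : U ∈ 𝓝 (0 : B)) :
    ∃ I : Ideal A, IsOpen (I : Set A) ∧ closure ((I.map φ : Ideal B) : Set B) ⊆ U := by
  obtain ⟨J, hJ, hJU⟩ := (IsLinearTopology.hasBasis_open_ideal (R := B)).mem_iff.1 hU
  refine ⟨J.comap φ, isOpen_comap hφ J hJ, ?_⟩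
  refine subset_trans ?_ hJU
  rw [← closure_ideal_eq_of_isOpen J hJ]
  exact closure_mono (fun x hx => Ideal.map_comap_le hx)

/-- Tautness of a continuous map into a linearly topologized ring only needs the openness
condition. -/
theorem isTaut_iff {φ : A →+* B} :
    IsTaut φ ↔ Continuous φ ∧
      ∀ I : Ideal A, IsOpen (I : Set A) → IsOpen (closure ((I.map φ : Ideal B) : Set B)) :=
  ⟨fun h => ⟨h.1, h.2.1⟩, fun h => ⟨h.1, h.2, fun _ hU => exists_isOpen_closure_map_subset h.1 hU⟩⟩

end

section
variable {B : Type v} [CommRing B] [TopologicalSpace B] [IsTopologicalRing B] [IsLinearTopology B B]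

theorem isTopologicallyNilpotent_iff_forall_open_ideal {g : B} :
    IsTopologicallyNilpotent g ↔ ∀ J : Ideal B, IsOpen (J : Set B) → ∃ n, g ^ n ∈ J := by
  constructor
  · intro h J hJ
    exact h.exists_pow_mem_of_mem_nhds (hJ.mem_nhds J.zero_mem)
  · intro h
    unfold IsTopologicallyNilpotent
    rw [(IsLinearTopology.hasBasis_open_ideal (R := B)).tendsto_right_iff]
    intro J hJ
    obtain ⟨n, hn⟩ := h J hJ
    filter_upwards [Filter.eventually_ge_atTop n] with m hm
    obtain ⟨k, rfl⟩ := Nat.exists_eq_add_of_le hm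
    rw [pow_add]
    exact J.mul_mem_right _ hn

/-- The ideal of topologically nilpotent elements of a linearly topologized ring is closed. -/
theorem isClosed_topologicalNilradical :
    IsClosed ((topologicalNilradical B : Ideal B) : Set B) := by
  rw [← closure_subset_iff_isClosed]
  intro g hg
  rw [SetLike.mem_coe, IsTopologicallyNilpotent.mem_topologicalNilradical_iff,
    isTopologicallyNilpotent_iff_forall_open_ideal]
  intro J hJ
  have hnhd : (fun y => g + y) '' (J : Set B) ∈ 𝓝 g := by
    rw [← map_add_left_nhds_zero g]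
    exact Filter.image_mem_map (hJ.mem_nhds J.zero_mem)
  obtain ⟨t, ⟨j, hj, rfl⟩, ht⟩ := mem_closure_iff_nhds.1 hg _ hnhd
  obtain ⟨n, hn⟩ := (isTopologicallyNilpotent_iff_forall_open_ideal.1
    (IsTopologicallyNilpotent.mem_topologicalNilradical_iff.1 ht)) J hJ
  refine ⟨n, ?_⟩
  have h1 : (Ideal.Quotient.mk J) (g ^ n) = Ideal.Quotient.mk J ((g + j) ^ n) := by
    simp [map_pow, map_add, Ideal.Quotient.eq_zero_iff_mem.2 hj]
  rw [← Ideal.Quotient.eq_zero_iff_mem, h1, Ideal.Quotient.eq_zero_iff_mem]
  exact hn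

/-- If `φ` is continuous and `I` consists of topologically nilpotent elements, so does the
closure of the extension of `I`. -/
theorem isTopologicallyNilpotent_of_mem_closure_map
    {A : Type u} [CommRing A] [TopologicalSpace A] {φ : A →+* B} (hφ : Continuous φ) {I : Ideal A}
    (hI : ∀ f ∈ I, IsTopologicallyNilpotent f) {g : B} (hg : g ∈ closure ((I.map φ : Ideal B) : Set B)) :
    IsTopologicallyNilpotent g := by
  have hle : I.map φ ≤ topologicalNilradical B := by
    rw [Ideal.map_le_iff_le_comap]
    intro f hf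
    exact IsTopologicallyNilpotent.mem_topologicalNilradical_iff.2 ((hI f hf).map hφ)
  have := closure_minimal (fun x hx => hle hx) isClosed_topologicalNilradical hg
  exact IsTopologicallyNilpotent.mem_topologicalNilradical_iff.1 this

end

section
variable {B : Type v} [CommRing B] [TopologicalSpace B] [IsTopologicalRing B]

/-- If `K₁ * K₂ ≤ L` with `L` closed then `closure K₁ * closure K₂ ≤ L`. -/
theorem closure_mul_closure_le {K₁ K₂ L : Ideal B} (hL : IsClosed (L : Set B)) (h : K₁ * K₂ ≤ L) :
    K₁.closure * K₂.closure ≤ L := by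
  rw [Ideal.mul_le]
  intro a ha b hb
  have hcl : IsClosed {p : B × B | p.1 * p.2 ∈ L} :=
    hL.preimage (continuous_fst.mul continuous_snd)
  have hsub : (K₁ : Set B) ×ˢ (K₂ : Set B) ⊆ {p : B × B | p.1 * p.2 ∈ L} := by
    rintro ⟨x, y⟩ ⟨hx, hy⟩
    exact h (Ideal.mul_mem_mul hx hy)
  have hmem : (a, b) ∈ closure ((K₁ : Set B) ×ˢ (K₂ : Set B)) := by
    rw [closure_prod_eq]
    refine ⟨?_, ?_⟩
    · rw [← Ideal.coe_closure]; exact ha
    · rw [← Ideal.coe_closure]; exact hb
  exact closure_minimal hsub hcl hmem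

theorem isClosed_closure_ideal (K : Ideal B) : IsClosed ((K.closure : Ideal B) : Set B) := by
  rw [Ideal.coe_closure]; exact isClosed_closure

theorem le_closure_ideal (K : Ideal B) : K ≤ K.closure := by
  intro x hx
  have : x ∈ closure (K : Set B) := subset_closure hx
  rwa [← Ideal.coe_closure] at this

theorem closure_ideal_mono {K L : Ideal B} (h : K ≤ L) : K.closure ≤ L.closure := by
  intro x hx
  have hx' : x ∈ closure (K : Set B) := by rwa [← Ideal.coe_closure]
  have : x ∈ closure (L : Set B) := closure_mono (fun y hy => h hy) hx'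
  rwa [← Ideal.coe_closure] at this

theorem closure_ideal_le_of_isClosed {K L : Ideal B} (hL : IsClosed (L : Set B)) (h : K ≤ L) :
    K.closure ≤ L := by
  intro x hx
  have hx' : x ∈ closure (K : Set B) := by rwa [← Ideal.coe_closure]
  exact closure_minimal (fun y hy => h hy) hL hx'

/-- `(closure K)^n ≤ closure (K^n)`. -/
theorem closure_pow_le (K : Ideal B) (n : ℕ) : K.closure ^ n ≤ (K ^ n).closure := by
  induction n with
  | zero => simpa using le_closure_ideal (⊤ : Ideal B)
  | succ n ih =>
    rw [pow_succ]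
    refine le_trans (Ideal.mul_mono_left ih) ?_
    refine closure_mul_closure_le (isClosed_closure_ideal _) ?_
    rw [← pow_succ]
    exact le_closure_ideal _

end

section
variable {R : Type u} [CommRing R] [TopologicalSpace R]

theorem isLinearTopology_of_isAdic {J : Ideal R} (h : IsAdic J) : IsLinearTopology R R := by
  unfold IsAdic at h
  subst h
  exact J.isLinearTopology

theorem isLinearTopology_of_isPreadic (h : IsPreadic R) : IsLinearTopology R R := by
  obtain ⟨J, hJ⟩ := h
  exact isLinearTopology_of_isAdic hJ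

theorem isOpen_of_isAdic [IsTopologicalRing R] {J : Ideal R} (h : IsAdic J) :
    IsOpen (J : Set R) := by
  simpa using (isAdic_iff.1 h).1 1

theorem isOpen_pow_of_isAdic [IsTopologicalRing R] {J : Ideal R} (h : IsAdic J) (n : ℕ) :
    IsOpen ((J ^ n : Ideal R) : Set R) :=
  (isAdic_iff.1 h).1 n

end

section
variable {A : Type u} [CommRing A] [TopologicalSpace A] [IsTopologicalRing A]
variable {B : Type v} [CommRing B] [TopologicalSpace B] [IsTopologicalRing B]

/-- For continuous `φ`, the extension of the closure is contained in the closure of the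
extension. -/
theorem map_closure_le {φ : A →+* B} (hφ : Continuous φ) (K : Ideal A) :
    (K.closure).map φ ≤ (K.map φ).closure := by
  rw [Ideal.map_le_iff_le_comap]
  intro x hx
  have hx' : x ∈ closure (K : Set A) := by rwa [← Ideal.coe_closure]
  have : φ x ∈ closure ((K.map φ : Ideal B) : Set B) :=
    map_mem_closure hφ hx' (fun y hy => Ideal.mem_map_of_mem φ hy)
  rw [Ideal.mem_comap]
  rwa [← Ideal.coe_closure] at this

theorem closure_map_closure_eq {φ : A →+* B} (hφ : Continuous φ) (K : Ideal A) :
    ((K.closure).map φ).closure = (K.map φ).closure := by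
  apply le_antisymm
  · exact closure_ideal_le_of_isClosed (isClosed_closure_ideal _) (map_closure_le hφ K)
  · exact closure_ideal_mono (Ideal.map_mono (le_closure_ideal K))

end

section
variable {A : Type u} [CommRing A] [TopologicalSpace A]
variable {B : Type v} [CommRing B] [TopologicalSpace B] [IsTopologicalRing B]

/-- In the taut faithfully flat situation, an open ideal is recovered from the closure of its
extension. -/
theorem comap_closure_map_eq {φ : A →+* B} (hφ : IsTautFFlat φ) (I : Ideal A)
    (hI : IsOpen (I : Set A)) : (I.map φ).closure.comap φ = I := by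
  apply le_antisymm
  · intro x hx
    have hinj := (hφ.2 I hI).injective
    have h0 : descentMap φ I (Ideal.Quotient.mk I x) = 0 := by
      simp only [descentMap, Ideal.quotientMap_mk]
      exact Ideal.Quotient.eq_zero_iff_mem.2 hx
    have := hinj (h0.trans (map_zero _).symm)
    exact Ideal.Quotient.eq_zero_iff_mem.1 this
  · exact Ideal.le_comap_map.trans (Ideal.comap_mono (le_closure_ideal _))

theorem mem_of_map_mem_closure {φ : A →+* B} (hφ : IsTautFFlat φ) (I : Ideal A)
    (hI : IsOpen (I : Set A)) {x : A} (hx : φ x ∈ closure ((I.map φ : Ideal B) : Set B)) :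
    x ∈ I := by
  rw [← comap_closure_map_eq hφ I hI, Ideal.mem_comap]
  rwa [← Ideal.coe_closure] at hx

end

section
variable {A : Type u} [CommRing A] [TopologicalSpace A]

theorem exists_pow_le_of_isIdealOfDefinition {J K : Ideal A} (hJ : IsIdealOfDefinition A J)
    (hK : IsOpen (K : Set A)) : ∃ n : ℕ, 0 < n ∧ J ^ n ≤ K := by
  obtain ⟨n, hn, h⟩ := hJ.2 K (hK.mem_nhds K.zero_mem)
  exact ⟨n, hn, fun x hx => h hx⟩

/-- An open ideal with a positive power inside an ideal of definition is an ideal of definition. -/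
theorem isIdealOfDefinition_of_pow_le {I J : Ideal A} (hI : IsIdealOfDefinition A I)
    (hJo : IsOpen (J : Set A)) {n : ℕ} (hn : 0 < n) (h : J ^ n ≤ I) :
    IsIdealOfDefinition A J := by
  refine ⟨hJo, fun U hU => ?_⟩
  obtain ⟨m, hm, hmU⟩ := hI.2 U hU
  refine ⟨n * m, Nat.mul_pos hn hm, subset_trans ?_ hmU⟩
  intro x hx
  rw [SetLike.mem_coe, pow_mul] at hx
  exact Ideal.pow_right_mono h m hx

theorem isTopologicallyNilpotent_of_mem_isIdealOfDefinition [IsTopologicalRing A]
    [IsLinearTopology A A] {J : Ideal A} (hJ : IsIdealOfDefinition A J) {x : A} (hx : x ∈ J) :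
    IsTopologicallyNilpotent x := by
  rw [isTopologicallyNilpotent_iff_forall_open_ideal]
  intro K hK
  obtain ⟨n, -, hn⟩ := exists_pow_le_of_isIdealOfDefinition hJ hK
  exact ⟨n, hn (Ideal.pow_mem_pow hx n)⟩

end

section
variable {A : Type u} [CommRing A] [UniformSpace A] [IsUniformAddGroup A] [IsTopologicalRing A]

omit [IsUniformAddGroup A] in
theorem nonarchimedeanAddGroup_of_isLinearTopology [IsLinearTopology A A] :
    NonarchimedeanAddGroup A :=
  { is_nonarchimedean := fun U hU => by
      obtain ⟨J, hJ, hJU⟩ := (IsLinearTopology.hasBasis_open_ideal (R := A)).mem_iff.1 hU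
      exact ⟨⟨J.toAddSubgroup, hJ⟩, hJU⟩ }

/-- In a complete Hausdorff linearly topologized ring, `1 + x` is a unit for topologically
nilpotent `x` (geometric series). -/
theorem isUnit_one_add_of_isTopologicallyNilpotent [IsLinearTopology A A] [T2Space A]
    [CompleteSpace A] {x : A} (hx : IsTopologicallyNilpotent x) : IsUnit (1 + x) := by
  have hna : NonarchimedeanAddGroup A := nonarchimedeanAddGroup_of_isLinearTopology
  have hy : IsTopologicallyNilpotent (-x) := by simpa using hx.mul_left (-1)
  have hsum : Summable (fun n : ℕ => (-x) ^ n) := by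
    apply NonarchimedeanAddGroup.summable_of_tendsto_cofinite_zero
    rw [Nat.cofinite_eq_atTop]; exact hy
  have h1 : ∑' n, (-x) ^ n = 1 + (-x) * ∑' n, (-x) ^ n := by
    have e1 := hsum.tsum_eq_zero_add
    have e2 : ∑' n, (-x) ^ (n + 1) = (-x) * ∑' n, (-x) ^ n := by
      rw [← hsum.tsum_mul_left]; exact tsum_congr (fun n => pow_succ' _ _)
    rw [e2, pow_zero] at e1
    exact e1
  refine isUnit_iff_exists_inv.2 ⟨∑' n, (-x) ^ n, ?_⟩
  have h2 : (1 + x) * ∑' n, (-x) ^ n = (∑' n, (-x) ^ n) - (-x) * ∑' n, (-x) ^ n := by ring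
  rw [h2]
  nth_rewrite 1 [h1]
  ring

end

section
variable {A' : Type u} [CommRing A'] [TopologicalSpace A'] [IsTopologicalRing A']
variable {A : Type v} [CommRing A] [TopologicalSpace A] [IsTopologicalRing A]

/-- If `A'` is `I'`-adic and the closures of the extensions of the powers of `I'` are open and form
a fundamental system in `A`, then `φ : A' → A` is taut. -/
theorem isTaut_of_isAdic (φ : A' →+* A) (I' : Ideal A') (hI' : IsAdic I')
    (hIo : ∀ n : ℕ, IsOpen (closure (((I' ^ n).map φ : Ideal A) : Set A)))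
    (hIU : ∀ U ∈ nhds (0 : A), ∃ n : ℕ, closure (((I' ^ n).map φ : Ideal A) : Set A) ⊆ U) :
    IsTaut φ := by
  refine ⟨?_, ?_, ?_⟩
  · refine continuous_of_continuousAt_zero φ ?_
    rw [ContinuousAt, map_zero]
    refine (hI'.hasBasis_nhds_zero.tendsto_left_iff).2 ?_
    intro U hU
    obtain ⟨n, hn⟩ := hIU U hU
    exact ⟨n, trivial, fun x hx => hn (subset_closure (Ideal.mem_map_of_mem φ hx))⟩
  · intro K hK
    obtain ⟨n, -, hn⟩ := hI'.hasBasis_nhds_zero.mem_iff.1 (hK.mem_nhds K.zero_mem)
    exact isOpen_closure_mono (Ideal.map_mono (fun x hx => hn hx)) (hIo n)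
  · intro U hU
    obtain ⟨n, hn⟩ := hIU U hU
    exact ⟨I' ^ n, (isAdic_iff.1 hI').1 n, hn⟩

end

section
variable {A : Type u} [CommRing A]

/-- Elements of `span (range g) * K` have the form `∑ g j * a j` with `a j ∈ K`. -/
theorem exists_sum_mul_of_mem_span_mul {s : ℕ} (g : Fin s → A) (K : Ideal A) {z : A}
    (hz : z ∈ Ideal.span (Set.range g) * K) :
    ∃ a : Fin s → A, (∀ j, a j ∈ K) ∧ z = ∑ j, g j * a j := by
  refine Submodule.mul_induction_on hz ?_ ?_
  · intro m hm b hb
    obtain ⟨c, rfl⟩ := (Ideal.mem_span_range_iff_exists_fun).1 hm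
    refine ⟨fun j => c j * b, fun j => K.mul_mem_left _ hb, ?_⟩
    rw [Finset.sum_mul]
    exact Finset.sum_congr rfl fun j _ => by ring
  · rintro x y ⟨a, ha, rfl⟩ ⟨b, hb, rfl⟩
    refine ⟨fun j => a j + b j, fun j => K.add_mem (ha j) (hb j), ?_⟩
    rw [← Finset.sum_add_distrib]
    exact Finset.sum_congr rfl fun j _ => by ring

end

section
variable {A : Type u} [CommRing A] [UniformSpace A] [IsUniformAddGroup A] [IsTopologicalRing A]
  [IsLinearTopology A A] [T2Space A] [CompleteSpace A]

/-- In a complete Hausdorff linearly topologized ring, if `I` is finitely generated and the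
closures of its powers are open and form a fundamental system, then the powers of `I` are
closed. -/
theorem closure_pow_subset_of_fg (I : Ideal A) (hfg : I.FG)
    (hopen : ∀ n : ℕ, IsOpen (closure ((I ^ n : Ideal A) : Set A)))
    (hbasis : ∀ U ∈ nhds (0 : A), ∃ n : ℕ, closure ((I ^ n : Ideal A) : Set A) ⊆ U) (n : ℕ) :
    closure ((I ^ n : Ideal A) : Set A) ⊆ ((I ^ n : Ideal A) : Set A) := by
  obtain ⟨s, g, hg⟩ := Submodule.fg_iff_exists_fin_generating_family.1 (hfg.pow (n := n))
  have hg' : Ideal.span (Set.range g) = I ^ n := hg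
  have step : ∀ k : ℕ, ∀ y : A, y ∈ closure ((I ^ (n + k) : Ideal A) : Set A) →
      ∃ (a : Fin s → A) (y' : A), (∀ j, a j ∈ I ^ k) ∧
        y' ∈ closure ((I ^ (n + k + 1) : Ideal A) : Set A) ∧ y = ∑ j, g j * a j + y' := by
    intro k y hy
    have hnhd : (fun z => y + z) '' (closure ((I ^ (n + k + 1) : Ideal A) : Set A)) ∈ nhds y := by
      rw [← map_add_left_nhds_zero y]
      exact Filter.image_mem_map ((hopen _).mem_nhds (subset_closure (Ideal.zero_mem _)))
    obtain ⟨z, ⟨w, hw, rfl⟩, hz⟩ := mem_closure_iff_nhds.1 hy _ hnhd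
    have hz' : y + w ∈ Ideal.span (Set.range g) * I ^ k := by
      rw [hg', ← pow_add]; exact hz
    obtain ⟨a, ha, hsum⟩ := exists_sum_mul_of_mem_span_mul g (I ^ k) hz'
    refine ⟨a, -w, ha, ?_, ?_⟩
    · have h1 : w ∈ (I ^ (n + k + 1)).closure := by rwa [← SetLike.mem_coe, Ideal.coe_closure]
      have h2 := (I ^ (n + k + 1)).closure.neg_mem h1
      rwa [← SetLike.mem_coe, Ideal.coe_closure] at h2
    · rw [← hsum]; ring
  intro x hx
  choose! aF yF hF using step
  let Y : ℕ → A := fun k => Nat.rec x (fun k y => yF k y) k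
  have hY : ∀ k, Y k ∈ closure ((I ^ (n + k) : Ideal A) : Set A) := by
    intro k
    induction k with
    | zero => simpa [Y] using hx
    | succ k ih => exact (hF k (Y k) ih).2.1
  have ha : ∀ k j, aF k (Y k) j ∈ I ^ k := fun k j => (hF k (Y k) (hY k)).1 j
  have hrec : ∀ k, Y k = ∑ j, g j * aF k (Y k) j + Y (k + 1) := fun k => (hF k (Y k) (hY k)).2.2
  have hpartial : ∀ K, x = ∑ j, g j * (∑ i ∈ Finset.range K, aF i (Y i) j) + Y K := by
    intro K
    induction K with
    | zero => simp [Y]
    | succ K ih =>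
      rw [ih]
      conv_lhs => rw [hrec K]
      simp only [Finset.sum_range_succ, mul_add, Finset.sum_add_distrib]
      ring
  have hmem0 : ∀ (f : ℕ → A), (∀ k, f k ∈ closure ((I ^ k : Ideal A) : Set A)) →
      Filter.Tendsto f Filter.atTop (nhds 0) := by
    intro f hf
    rw [Filter.tendsto_def]
    intro U hU
    obtain ⟨m, hm⟩ := hbasis U hU
    rw [Filter.mem_atTop_sets]
    refine ⟨m, fun k hk => hm ?_⟩
    exact closure_mono (fun z hz => Ideal.pow_le_pow_right hk hz) (hf k)
  have hY0 : Filter.Tendsto Y Filter.atTop (nhds 0) :=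
    hmem0 Y fun k => closure_mono (fun z hz => Ideal.pow_le_pow_right (Nat.le_add_left k n) hz) (hY k)
  have hna : NonarchimedeanAddGroup A := nonarchimedeanAddGroup_of_isLinearTopology
  have hsumm : ∀ j, Summable (fun i => aF i (Y i) j) := by
    intro j
    apply NonarchimedeanAddGroup.summable_of_tendsto_cofinite_zero
    rw [Nat.cofinite_eq_atTop]
    exact hmem0 _ fun k => subset_closure (ha k j)
  have hlim : Filter.Tendsto
      (fun K => ∑ j, g j * (∑ i ∈ Finset.range K, aF i (Y i) j) + Y K) Filter.atTop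
      (nhds (∑ j, g j * (∑' i, aF i (Y i) j) + 0)) := by
    refine Filter.Tendsto.add ?_ hY0
    refine tendsto_finsetSum _ fun j _ => ?_
    exact ((hsumm j).hasSum.tendsto_sum_nat).const_mul (g j)
  have hconst : (fun K => ∑ j, g j * (∑ i ∈ Finset.range K, aF i (Y i) j) + Y K) = fun _ => x :=
    funext fun K => (hpartial K).symm
  rw [hconst] at hlim
  have hx_eq := tendsto_nhds_unique tendsto_const_nhds hlim
  rw [hx_eq, add_zero, SetLike.mem_coe, ← hg']
  exact sum_mem fun j _ => Ideal.mul_mem_right _ _ (Ideal.subset_span ⟨j, rfl⟩)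

/-- Under the hypotheses of `closure_pow_subset_of_fg`, the topology is `I`-adic. -/
theorem isAdic_of_fg_of_closure_pow_basis (I : Ideal A) (hfg : I.FG)
    (hopen : ∀ n : ℕ, IsOpen (closure ((I ^ n : Ideal A) : Set A)))
    (hbasis : ∀ U ∈ nhds (0 : A), ∃ n : ℕ, closure ((I ^ n : Ideal A) : Set A) ⊆ U) :
    IsAdic I := by
  have hcl : ∀ n, closure ((I ^ n : Ideal A) : Set A) = ((I ^ n : Ideal A) : Set A) := fun n =>
    Set.Subset.antisymm (closure_pow_subset_of_fg I hfg hopen hbasis n) subset_closure
  rw [isAdic_iff]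
  refine ⟨fun n => ?_, fun U hU => ?_⟩
  · rw [← hcl n]; exact hopen n
  · obtain ⟨n, hn⟩ := hbasis U hU
    exact ⟨n, by rw [← hcl n]; exact hn⟩

end

section
variable {A : Type u} [CommRing A] [UniformSpace A] [IsUniformAddGroup A] [IsTopologicalRing A]
  [IsLinearTopology A A] [T2Space A] [CompleteSpace A]

/-- In a complete Hausdorff linearly topologized ring, if `I` is finitely generated with powers
tending to zero, a series with `k`-th term in `I ^ (n + k)` converges to an element of `I ^ n`. -/
theorem tsum_mem_pow_of_fg (I : Ideal A) (hfg : I.FG)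
    (hI0 : ∀ U ∈ nhds (0 : A), ∃ k : ℕ, ((I ^ k : Ideal A) : Set A) ⊆ U) (n : ℕ) (z : ℕ → A)
    (hz : ∀ k, z k ∈ I ^ (n + k)) : Summable z ∧ ∑' k, z k ∈ I ^ n := by
  obtain ⟨s, g, hg⟩ := Submodule.fg_iff_exists_fin_generating_family.1 (hfg.pow (n := n))
  have hg' : Ideal.span (Set.range g) = I ^ n := hg
  have hdecomp : ∀ k, ∃ a : Fin s → A, (∀ j, a j ∈ I ^ k) ∧ z k = ∑ j, g j * a j := fun k =>
    exists_sum_mul_of_mem_span_mul g (I ^ k) (by rw [hg', ← pow_add]; exact hz k)
  choose a ha hza using hdecomp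
  have hmem0 : ∀ (f : ℕ → A), (∀ k, f k ∈ I ^ k) → Filter.Tendsto f Filter.atTop (nhds 0) := by
    intro f hf
    rw [Filter.tendsto_def]
    intro U hU
    obtain ⟨m, hm⟩ := hI0 U hU
    rw [Filter.mem_atTop_sets]
    exact ⟨m, fun k hk => hm (Ideal.pow_le_pow_right hk (hf k))⟩
  have hna : NonarchimedeanAddGroup A := nonarchimedeanAddGroup_of_isLinearTopology
  have hsumm : ∀ j, Summable (fun k => a k j) := by
    intro j
    apply NonarchimedeanAddGroup.summable_of_tendsto_cofinite_zero
    rw [Nat.cofinite_eq_atTop]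
    exact hmem0 _ fun k => ha k j
  have hz_sum : HasSum z (∑ j, g j * ∑' k, a k j) := by
    have hzfun : z = fun k => ∑ j, g j * a k j := funext hza
    rw [hzfun]
    exact hasSum_sum (fun j _ => ((hsumm j).hasSum).mul_left (g j))
  refine ⟨hz_sum.summable, ?_⟩
  rw [hz_sum.tsum_eq, ← hg']
  exact sum_mem fun j _ => Ideal.mul_mem_right _ _ (Ideal.subset_span ⟨j, rfl⟩)

end

section
variable {A : Type u} [CommRing A] [UniformSpace A] [IsUniformAddGroup A] [IsTopologicalRing A]
  [IsLinearTopology A A] [T2Space A] [CompleteSpace A]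

/-- A complete Hausdorff linearly topologized ring is `I`-adically complete for every finitely
generated ideal `I` whose powers tend to zero. -/
theorem isAdicComplete_of_fg_of_tendsto (I : Ideal A) (hI : I.FG)
    (hI0 : ∀ U ∈ nhds (0 : A), ∃ k : ℕ, ((I ^ k : Ideal A) : Set A) ⊆ U) :
    IsAdicComplete I A := by
  have hsm : ∀ k : ℕ, (I ^ k • ⊤ : Submodule A A) = I ^ k := fun k => by
    rw [smul_eq_mul, Ideal.mul_top]
  refine { haus' := ?_, prec' := ?_ }
  · intro x hx
    by_contra hne
    have hU : ({x}ᶜ : Set A) ∈ nhds (0 : A) :=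
      isOpen_compl_singleton.mem_nhds (by simpa using Ne.symm hne)
    obtain ⟨k, hk⟩ := hI0 _ hU
    have hxk : x ∈ I ^ k := by
      have := hx k
      rwa [SModEq.zero, hsm] at this
    exact hk hxk rfl
  · intro f hf
    have hz : ∀ n k, f (n + k + 1) - f (n + k) ∈ I ^ (n + k) := by
      intro n k
      have := (hf (Nat.le_succ (n + k))).symm
      rwa [SModEq.sub_mem, hsm] at this
    have h0 := tsum_mem_pow_of_fg I hI hI0 0 (fun k => f (0 + k + 1) - f (0 + k)) (hz 0)
    refine ⟨f 0 + ∑' k, (f (0 + k + 1) - f (0 + k)), fun n => ?_⟩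
    have hn := tsum_mem_pow_of_fg I hI hI0 n (fun k => f (n + k + 1) - f (n + k)) (hz n)
    have hsplit := h0.1.sum_add_tsum_nat_add n
    have htel : ∑ i ∈ Finset.range n, (f (0 + i + 1) - f (0 + i)) = f n - f 0 := by
      simp only [zero_add]
      exact Finset.sum_range_sub f n
    have hshift : (∑' i, (f (0 + (i + n) + 1) - f (0 + (i + n)))) =
        ∑' k, (f (n + k + 1) - f (n + k)) := by
      refine tsum_congr fun i => ?_
      rw [zero_add, Nat.add_comm i n]
    rw [SModEq.comm, SModEq.sub_mem, hsm]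
    have : f 0 + ∑' k, (f (0 + k + 1) - f (0 + k)) - f n =
        ∑' k, (f (n + k + 1) - f (n + k)) := by
      rw [← hsplit, htel, hshift]; ring
    rw [this]
    exact hn.2

end

end Groth.Agent.Lib.LinTop_lead
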