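import Mathlib
import Groth.Agent.Lib.LinTop_lead

/-!
# Taut faithfully flat descent of adicness with a finitely generated ideal of definition
-/

universe u v

namespace Groth.Agent.Lib.LinTopFFlat

open LinTop Topology Filter Groth.Agent.Lib.LinTop_lead

theorem exists_finset_of_mem_map {A : Type u} {B : Type v} [CommRing A] [CommRing B]
    (φ : A →+* B) (I : Ideal A) {t : B} (ht : t ∈ I.map φ) :
    ∃ F : Finset A, ((F : Set A) ⊆ (I : Set A)) ∧ t ∈ (Ideal.span (F : Set A)).map φ := by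
  classical
  have ht' : t ∈ Submodule.span B (φ '' (I : Set A)) := ht
  obtain ⟨T, hT, htT⟩ := Submodule.mem_span_finite_of_mem_span ht'
  obtain ⟨F, hF, rfl⟩ := Finset.subset_set_image_iff.mp hT
  refine ⟨F, hF, ?_⟩
  rw [Ideal.map_span]
  rw [Finset.coe_image] at htT
  exact htT

variable {A : Type u} [CommRing A] [UniformSpace A] [IsUniformAddGroup A] [IsTopologicalRing A]
  [IsLinearTopology A A] [T2Space A] [CompleteSpace A]
variable {B : Type v} [CommRing B] [UniformSpace B] [IsUniformAddGroup B] [IsTopologicalRing B]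

theorem main (hB : LinTop.IsAdicRing B)
    (hJ : ∃ J : Ideal B, LinTop.IsIdealOfDefinition B J ∧ J.FG)
    (φ : A →+* B) (hφ : LinTop.IsTautFFlat φ) :
    LinTop.IsAdicRing A ∧ ∃ I : Ideal A, LinTop.IsIdealOfDefinition A I ∧ I.FG := by
  classical
  obtain ⟨⟨K, hK⟩, -, -⟩ := hB
  obtain ⟨J0, ⟨hJ0o, hJ0b⟩, hJ0fg⟩ := hJ
  have hφt := hφ.1
  obtain ⟨hφc, hφo, hφb⟩ := hφt
  haveI : IsLinearTopology B B := isLinearTopology_of_isAdic hK
  -- powers of J0 are open
  have hJ0pow : ∀ n, IsOpen ((J0 ^ n : Ideal B) : Set B) := by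
    intro n
    obtain ⟨m, hm⟩ := (isAdic_iff.mp hK).2 J0 (hJ0o.mem_nhds J0.zero_mem)
    have hKm : K ^ m ≤ J0 := fun x hx => hm hx
    have h2 : K ^ (m * n) ≤ J0 ^ n := by rw [pow_mul]; exact Ideal.pow_right_mono hKm n
    exact Ideal.isOpen_of_isOpen_subideal h2 ((isAdic_iff.mp hK).1 (m * n))
  have hJ0basis : ∀ U ∈ 𝓝 (0 : B), ∃ m, ((J0 ^ m : Ideal B) : Set B) ⊆ U := by
    intro U hU
    obtain ⟨m, -, hm⟩ := hJ0b U hU
    exact ⟨m, hm⟩
  -- step 2
  obtain ⟨𝔞₀, h𝔞₀o, h𝔞₀J⟩ := hφb (J0 : Set B) (hJ0o.mem_nhds J0.zero_mem)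
  have hM0J : 𝔞₀.map φ ≤ J0 := fun x hx => h𝔞₀J (subset_closure hx)
  obtain ⟨N, hNpos, hN⟩ := hJ0b _ ((hφo 𝔞₀ h𝔞₀o).mem_nhds (subset_closure (Ideal.zero_mem _)))
  -- step 3
  obtain ⟨s, h, hh⟩ := Submodule.fg_iff_exists_fin_generating_family.1 (hJ0fg.pow (n := N))
  have hh' : Ideal.span (Set.range h) = J0 ^ N := hh
  have hdecomp : ∀ β : Fin s, ∃ F : Finset A, ((F : Set A) ⊆ (𝔞₀ : Set A)) ∧
      h β ∈ (Ideal.span (F : Set A)).map φ ⊔ J0 ^ (N + 1) := by
    intro β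
    have hβ : h β ∈ closure ((𝔞₀.map φ : Ideal B) : Set B) :=
      hN (by rw [SetLike.mem_coe, ← hh']; exact Ideal.subset_span ⟨β, rfl⟩)
    have hn : (fun z => h β - z) ⁻¹' ((J0 ^ (N + 1) : Ideal B) : Set B) ∈ 𝓝 (h β) := by
      have : Tendsto (fun z => h β - z) (𝓝 (h β)) (𝓝 (h β - h β)) :=
        (continuous_sub_left (h β)).tendsto (h β)
      rw [sub_self] at this
      exact this ((hJ0pow (N + 1)).mem_nhds (Ideal.zero_mem _))
    obtain ⟨t, ht1, ht2⟩ := mem_closure_iff_nhds.mp hβ _ hn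
    obtain ⟨F, hF, htF⟩ := exists_finset_of_mem_map φ 𝔞₀ ht2
    refine ⟨F, hF, ?_⟩
    have e : h β = t + (h β - t) := by ring
    rw [e]
    exact Submodule.add_mem_sup htF (show h β - t ∈ J0 ^ (N + 1) from ht1)
  choose F hF hFh using hdecomp
  obtain ⟨If, hIfdef⟩ :
      ∃ If : Ideal A, If = Ideal.span ((Finset.univ.biUnion F : Finset A) : Set A) := ⟨_, rfl⟩
  have hIffg : If.FG := ⟨Finset.univ.biUnion F, hIfdef.symm⟩
  have hIf𝔞₀ : If ≤ 𝔞₀ := by
    rw [hIfdef, Ideal.span_le]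
    intro x hx
    rw [Finset.mem_coe, Finset.mem_biUnion] at hx
    obtain ⟨β, -, hxβ⟩ := hx
    exact hF β (Finset.mem_coe.mpr hxβ)
  have hFIf : ∀ β, Ideal.span ((F β : Finset A) : Set A) ≤ If := by
    intro β
    rw [hIfdef]
    exact Ideal.span_mono
      (Finset.coe_subset.mpr (Finset.subset_biUnion_of_mem F (Finset.mem_univ β)))
  have hMJ : If.map φ ≤ J0 := (Ideal.map_mono hIf𝔞₀).trans hM0J
  have h1 : J0 ^ N ≤ If.map φ ⊔ J0 ^ (N + 1) := by
    rw [← hh', Ideal.span_le]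
    rintro _ ⟨β, rfl⟩
    have hle : (Ideal.span ((F β : Finset A) : Set A)).map φ ⊔ J0 ^ (N + 1) ≤
        If.map φ ⊔ J0 ^ (N + 1) := sup_le_sup_right (Ideal.map_mono (hFIf β)) _
    exact hle (hFh β)
  -- step 4
  have hstep : ∀ k, 1 ≤ k → J0 ^ N ≤ If.map φ ⊔ J0 ^ (N + k) := by
    intro k hk
    induction k, hk using Nat.le_induction with
    | base => exact h1
    | succ k hk ih =>
      refine ih.trans (sup_le le_sup_left ?_)
      have e1 : J0 ^ (N + k) = J0 ^ k * J0 ^ N := by rw [← pow_add, add_comm]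
      have e2 : J0 ^ k * J0 ^ (N + 1) = J0 ^ (N + (k + 1)) := by
        rw [← pow_add]; congr 1; omega
      rw [e1]
      refine (Ideal.mul_mono_right h1).trans ?_
      rw [Ideal.mul_sup, e2]
      exact sup_le_sup_right Ideal.mul_le_right _
  have hcl1 : ((J0 ^ N : Ideal B) : Set B) ⊆ closure ((If.map φ : Ideal B) : Set B) := by
    intro x hx
    rw [mem_closure_iff_nhds]
    intro W hW
    have hTW : (fun z => x + z) ⁻¹' W ∈ 𝓝 (0 : B) := by
      have : Tendsto (fun z => x + z) (𝓝 0) (𝓝 (x + 0)) := (continuous_const_add x).tendsto 0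
      rw [add_zero] at this
      exact this hW
    obtain ⟨m, hm⟩ := hJ0basis _ hTW
    obtain ⟨j, hj, c, hc, hjc⟩ := Submodule.mem_sup.mp (hstep (m + 1) (by omega) hx)
    refine ⟨j, ?_, hj⟩
    have hc1 : c ∈ J0 ^ m := Ideal.pow_le_pow_right (by omega) hc
    have hc' : -c ∈ J0 ^ m := (J0 ^ m).neg_mem hc1
    have hW' : x + -c ∈ W := hm hc'
    have e : x + -c = j := by rw [← hjc]; ring
    rwa [e] at hW'
  -- step 5
  have hcl1' : J0 ^ N ≤ (If.map φ).closure := by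
    intro x hx
    have := hcl1 hx
    rwa [← Ideal.coe_closure] at this
  have hcln : ∀ n, J0 ^ (N * n) ≤ ((If ^ n).map φ).closure := by
    intro n
    rw [pow_mul, Ideal.map_pow]
    exact (Ideal.pow_right_mono hcl1' n).trans (closure_pow_le _ n)
  -- step 6
  have hopen : ∀ n : ℕ, IsOpen (closure ((If ^ n : Ideal A) : Set A)) := by
    intro n
    obtain ⟨𝔞, h𝔞o, h𝔞⟩ := hφb ((J0 ^ (N * n) : Ideal B) : Set B)
      ((hJ0pow (N * n)).mem_nhds (Ideal.zero_mem _))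
    have hsub : 𝔞 ≤ (If ^ n).closure := by
      intro x hx
      have hgoal : x ∈ closure ((If ^ n : Ideal A) : Set A) := by
        rw [mem_closure_iff_nhds]
        intro W hW
        have hTW : (fun z => x + z) ⁻¹' W ∈ 𝓝 (0 : A) := by
          have : Tendsto (fun z => x + z) (𝓝 0) (𝓝 (x + 0)) :=
            (continuous_const_add x).tendsto 0
          rw [add_zero] at this
          exact this hW
        obtain ⟨𝔞', h𝔞'o, h𝔞'W⟩ :=
          (IsLinearTopology.hasBasis_open_ideal (R := A)).mem_iff.mp hTW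
        have hLo : IsOpen ((If ^ n ⊔ 𝔞' : Ideal A) : Set A) :=
          Ideal.isOpen_of_isOpen_subideal le_sup_right h𝔞'o
        have hφx : φ x ∈ closure (((If ^ n ⊔ 𝔞').map φ : Ideal B) : Set B) := by
          have h1 : φ x ∈ ((J0 ^ (N * n) : Ideal B) : Set B) :=
            h𝔞 (subset_closure (Ideal.mem_map_of_mem φ hx))
          have h2 : φ x ∈ ((If ^ n).map φ).closure := hcln n h1
          have h3 := closure_ideal_mono
            (Ideal.map_mono (le_sup_left : If ^ n ≤ If ^ n ⊔ 𝔞') (f := φ)) h2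
          rwa [← Ideal.coe_closure]
        have hxL := mem_of_map_mem_closure hφ _ hLo hφx
        obtain ⟨i, hi, a', ha', hia⟩ := Submodule.mem_sup.mp hxL
        refine ⟨i, ?_, hi⟩
        have hna : -a' ∈ 𝔞' := 𝔞'.neg_mem ha'
        have hW' : x + -a' ∈ W := h𝔞'W hna
        have e : x + -a' = i := by rw [← hia]; ring
        rwa [e] at hW'
      rwa [← Ideal.coe_closure] at hgoal
    rw [← Ideal.coe_closure]
    exact Ideal.isOpen_of_isOpen_subideal hsub h𝔞o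
  -- step 7
  have hbasis : ∀ U ∈ 𝓝 (0 : A), ∃ n : ℕ, closure ((If ^ n : Ideal A) : Set A) ⊆ U := by
    intro U hU
    obtain ⟨𝔞', h𝔞'o, h𝔞'U⟩ := (IsLinearTopology.hasBasis_open_ideal (R := A)).mem_iff.mp hU
    obtain ⟨n, -, hn⟩ := hJ0b _ ((hφo 𝔞' h𝔞'o).mem_nhds (subset_closure (Ideal.zero_mem _)))
    refine ⟨n, ?_⟩
    have hle : If ^ n ≤ 𝔞' := by
      intro x hx
      apply mem_of_map_mem_closure hφ 𝔞' h𝔞'o
      apply hn
      have h1 : φ x ∈ (If ^ n).map φ := Ideal.mem_map_of_mem φ hx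
      rw [Ideal.map_pow] at h1
      exact Ideal.pow_right_mono hMJ n h1
    exact (closure_minimal (fun x hx => hle hx) (ideal_isClosed_of_isOpen 𝔞' h𝔞'o)).trans h𝔞'U
  -- step 8
  have hadic : IsAdic If := isAdic_of_fg_of_closure_pow_basis If hIffg hopen hbasis
  refine ⟨⟨⟨If, hadic⟩, inferInstance, inferInstance⟩, If,
    ⟨isOpen_of_isAdic hadic, fun U hU => ?_⟩, hIffg⟩
  obtain ⟨n, hn⟩ := (isAdic_iff.mp hadic).2 U hU
  exact ⟨n + 1, Nat.succ_pos n,
    (SetLike.coe_subset_coe.mpr (Ideal.pow_le_pow_right (Nat.le_succ n))).trans hn⟩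

end Groth.Agent.Lib.LinTopFFlat
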