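import Mathlib
import Groth.Agent.Lib.LinTopMod2_lead

/-!
# Completion of a module having an open submodule with the `I`-adic topology (`I` f.g.)
-/

namespace Groth.Agent.Lib.LinTopMod3

open UniformSpace Topology Filter Groth.Agent.Lib.LinTopMod

universe u v

section alg
variable {R : Type u} [CommRing R] {M : Type v} [AddCommGroup M] [Module R M]

theorem exists_sum_smul_of_mem_span_smul {s : ℕ} (g : Fin s → R) (P : Submodule R M) {z : M}
    (hz : z ∈ Ideal.span (Set.range g) • P) :
    ∃ a : Fin s → M, (∀ j, a j ∈ P) ∧ z = ∑ j, g j • a j := by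
  refine Submodule.smul_induction_on hz ?_ ?_
  · intro r hr b hb
    obtain ⟨c, rfl⟩ := (Ideal.mem_span_range_iff_exists_fun).1 hr
    refine ⟨fun j => c j • b, fun j => P.smul_mem _ hb, ?_⟩
    rw [Finset.sum_smul]
    exact Finset.sum_congr rfl fun j _ => by rw [smul_smul, mul_comm]
  · rintro x y ⟨a, ha, rfl⟩ ⟨b, hb, rfl⟩
    refine ⟨fun j => a j + b j, fun j => P.add_mem (ha j) (hb j), ?_⟩
    rw [← Finset.sum_add_distrib]
    exact Finset.sum_congr rfl fun j _ => by rw [smul_add]

end alg

section main
variable {R : Type u} [CommRing R]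
  {M : Type v} [AddCommGroup M] [Module R M] [UniformSpace M] [IsUniformAddGroup M]
  [UniformContinuousConstSMul R M]

/-- the canonical linear map to the completion -/
noncomputable def ιL (R : Type u) [CommRing R] (M : Type v) [AddCommGroup M] [Module R M]
    [UniformSpace M] [IsUniformAddGroup M] [UniformContinuousConstSMul R M] :
    M →ₗ[R] Completion M where
  toFun := fun x => (x : Completion M)
  map_add' := Completion.coe_add
  map_smul' := fun c x => Completion.coe_smul c x

theorem ιL_apply (x : M) : ιL R M x = (x : Completion M) := rfl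

/-- closure of the image of a submodule in the completion -/
noncomputable def cl (S : Submodule R M) : Submodule R (Completion M) :=
  (S.map (ιL R M)).topologicalClosure

theorem coe_cl (S : Submodule R M) :
    (cl S : Set (Completion M)) = closure ((fun x : M => (x : Completion M)) '' (S : Set M)) := by
  unfold cl
  rw [Submodule.topologicalClosure_coe, Submodule.map_coe]
  rfl

theorem cl_mono {S T : Submodule R M} (h : S ≤ T) : cl S ≤ cl T :=
  Submodule.topologicalClosure_mono (Submodule.map_mono h)

theorem cl_mem_nhds (S : Submodule R M) (hS : IsOpen (S : Set M)) :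
    (cl S : Set (Completion M)) ∈ 𝓝 (0 : Completion M) := by
  rw [coe_cl]
  have := Completion.isDenseInducing_coe.closure_image_mem_nhds (hS.mem_nhds S.zero_mem)
  rwa [Completion.coe_zero] at this

theorem isOpen_cl (S : Submodule R M) (hS : IsOpen (S : Set M)) :
    IsOpen (cl S : Set (Completion M)) :=
  (cl S).toAddSubgroup.isOpen_of_mem_nhds (cl_mem_nhds S hS)

theorem exists_cl_subset (N : ℕ → Submodule R M)
    (hbasis : ∀ U ∈ 𝓝 (0 : M), ∃ n, (N n : Set M) ⊆ U)
    {W : Set (Completion M)} (hW : W ∈ 𝓝 (0 : Completion M)) :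
    ∃ n, (cl (N n) : Set (Completion M)) ⊆ W := by
  obtain ⟨V, ⟨hV, hVc⟩, hVW⟩ := (closed_nhds_basis (0 : Completion M)).mem_iff.1 hW
  have hpre : (fun a : M => (a : Completion M)) ⁻¹' V ∈ 𝓝 (0 : M) := by
    apply (Completion.continuous_coe M).continuousAt
    rwa [Completion.coe_zero]
  obtain ⟨n, hn⟩ := hbasis _ hpre
  refine ⟨n, subset_trans ?_ hVW⟩
  rw [coe_cl]
  refine closure_minimal ?_ hVc
  rintro _ ⟨x, hx, rfl⟩
  exact hn hx

theorem mem_of_coe_mem_cl (S : Submodule R M) (hS : IsOpen (S : Set M)) {x : M}
    (hx : (x : Completion M) ∈ cl S) : x ∈ S := by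
  have hcl : IsClosed (S : Set M) := AddSubgroup.isClosed_of_isOpen S.toAddSubgroup hS
  have h2 : x ∈ closure (S : Set M) := by
    rw [Completion.isDenseInducing_coe.isInducing.closure_eq_preimage_closure_image,
      Set.mem_preimage]
    have : (x : Completion M) ∈ (cl S : Set (Completion M)) := hx
    rwa [coe_cl] at this
  rwa [hcl.closure_eq] at h2

theorem smul_cl_le (J : Ideal R) (S : Submodule R M) : J • cl S ≤ cl (J • S) := by
  rw [Submodule.smul_le]
  intro r hr x hx
  have hx' : x ∈ closure ((fun x : M => (x : Completion M)) '' (S : Set M)) := by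
    rw [← coe_cl]; exact hx
  have hmaps : Set.MapsTo (fun y : Completion M => r • y)
      ((fun x : M => (x : Completion M)) '' (S : Set M))
      ((fun x : M => (x : Completion M)) '' ((J • S : Submodule R M) : Set M)) := by
    rintro _ ⟨m, hm, rfl⟩
    exact ⟨r • m, Submodule.smul_mem_smul hr hm, Completion.coe_smul r m⟩
  have h3 : r • x ∈ closure ((fun x : M => (x : Completion M)) ''
      ((J • S : Submodule R M) : Set M)) :=
    map_mem_closure (continuous_const_smul r) hx' hmaps
  rw [← coe_cl] at h3
  exact h3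

theorem cl_smul_le (I : Ideal R) (hI : I.FG) (M' : Submodule R M)
    (hopen : ∀ n : ℕ, IsOpen ((I ^ n • M' : Submodule R M) : Set M))
    (hbasis : ∀ U ∈ nhds (0 : M), ∃ n : ℕ, ((I ^ n • M' : Submodule R M) : Set M) ⊆ U) (n : ℕ) :
    cl (I ^ n • M') ≤ I ^ n • cl M' := by
  classical
  obtain ⟨s, g, hg⟩ := Submodule.fg_iff_exists_fin_generating_family.1 (hI.pow (n := n))
  have hg' : Ideal.span (Set.range g) = I ^ n := hg
  have hanti : ∀ a b, a ≤ b → I ^ b • M' ≤ I ^ a • M' := fun a b hab =>
    Submodule.smul_mono_left (Ideal.pow_le_pow_right hab)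
  have hM'k : ∀ k, I ^ k • M' ≤ M' := fun k => Submodule.smul_le_right
  have step : ∀ k : ℕ, ∀ y : Completion M, y ∈ cl (I ^ (n + k) • M') →
      ∃ (a : Fin s → M) (y' : Completion M), (∀ j, a j ∈ I ^ k • M') ∧
        y' ∈ cl (I ^ (n + k + 1) • M') ∧ y = ((∑ j, g j • a j : M) : Completion M) + y' := by
    intro k y hy
    have hy' : y ∈ closure ((fun x : M => (x : Completion M)) ''
        ((I ^ (n + k) • M' : Submodule R M) : Set M)) := by
      rw [← coe_cl]; exact hy
    have hnhd : (fun z => y - z) ⁻¹' (cl (I ^ (n + k + 1) • M') : Set (Completion M)) ∈ 𝓝 y := by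
      have : Tendsto (fun z => y - z) (𝓝 y) (𝓝 (y - y)) := (continuous_sub_left y).tendsto y
      rw [sub_self] at this
      exact this (cl_mem_nhds _ (hopen _))
    obtain ⟨z, hz1, ⟨m, hm, rfl⟩⟩ := mem_closure_iff_nhds.1 hy' _ hnhd
    have hm' : m ∈ Ideal.span (Set.range g) • (I ^ k • M') := by
      rw [hg', ← Submodule.mul_smul, ← pow_add]; exact hm
    obtain ⟨a, ha, hsum⟩ := exists_sum_smul_of_mem_span_smul g (I ^ k • M') hm'
    refine ⟨a, y - (m : Completion M), ha, hz1, ?_⟩
    rw [← hsum]; abel
  intro x hx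
  choose! aF yF hF using step
  let Y : ℕ → Completion M := fun k => Nat.rec x (fun k y => yF k y) k
  have hY : ∀ k, Y k ∈ cl (I ^ (n + k) • M') := by
    intro k
    induction k with
    | zero => exact hx
    | succ k ih => exact (hF k (Y k) ih).2.1
  have ha : ∀ k j, aF k (Y k) j ∈ I ^ k • M' := fun k j => (hF k (Y k) (hY k)).1 j
  have hrec : ∀ k, Y k = ((∑ j, g j • aF k (Y k) j : M) : Completion M) + Y (k + 1) :=
    fun k => (hF k (Y k) (hY k)).2.2
  let S : Fin s → ℕ → M := fun j K => ∑ i ∈ Finset.range K, aF i (Y i) j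
  have hpartial : ∀ K, x = ((∑ j, g j • S j K : M) : Completion M) + Y K := by
    intro K
    induction K with
    | zero =>
      have e : (∑ j, g j • S j 0 : M) = 0 := by simp [S]
      rw [e, Completion.coe_zero, zero_add]
      rfl
    | succ K ih =>
      rw [ih]
      conv_lhs => rw [hrec K]
      have e : (∑ j, g j • S j (K + 1) : M) =
          (∑ j, g j • S j K) + ∑ j, g j • aF K (Y K) j := by
        simp only [S, Finset.sum_range_succ, smul_add, Finset.sum_add_distrib]
      rw [e, Completion.coe_add]
      abel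
  have hScauchy : ∀ j, CauchySeq (S j) := by
    intro j
    refine cauchySeq_of_sub_mem (fun k => (I ^ k • M' : Submodule R M).toAddSubgroup)
      ?_ ?_ (S j) ?_
    · intro a b hab y hy
      exact hanti a b hab hy
    · intro W hW
      obtain ⟨k, hk⟩ := hbasis W hW
      exact ⟨k, hk⟩
    · intro k
      show S j (k + 1) - S j k ∈ I ^ k • M'
      have : S j (k + 1) - S j k = aF k (Y k) j := by
        simp only [S, Finset.sum_range_succ]; abel
      rw [this]; exact ha k j
  have hlimex : ∀ j, ∃ b : Completion M,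
      Tendsto (fun K => ((S j K : M) : Completion M)) atTop (𝓝 b) := by
    intro j
    exact cauchySeq_tendsto_of_complete ((hScauchy j).map (Completion.uniformContinuous_coe M))
  choose b hb using hlimex
  have hbmem : ∀ j, b j ∈ cl M' := by
    intro j
    have : b j ∈ closure ((fun x : M => (x : Completion M)) '' (M' : Set M)) := by
      refine mem_closure_of_tendsto (hb j) (Eventually.of_forall fun K => ?_)
      refine ⟨S j K, ?_, rfl⟩
      show (∑ i ∈ Finset.range K, aF i (Y i) j) ∈ M'
      exact M'.sum_mem fun i _ => hM'k i (ha i j)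
    rw [← coe_cl] at this; exact this
  have hY0 : Tendsto Y atTop (𝓝 0) := by
    rw [tendsto_def]
    intro W hW
    obtain ⟨m, hm⟩ := exists_cl_subset (fun k => I ^ k • M') hbasis hW
    rw [mem_atTop_sets]
    refine ⟨m, fun k hk => hm ?_⟩
    exact cl_mono (hanti m (n + k) (by omega)) (hY k)
  have hlim : Tendsto (fun K => ((∑ j, g j • S j K : M) : Completion M) + Y K) atTop
      (𝓝 (∑ j, g j • b j + 0)) := by
    refine Tendsto.add ?_ hY0
    have e : ∀ K, ((∑ j, g j • S j K : M) : Completion M) =
        ∑ j, g j • ((S j K : M) : Completion M) := by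
      intro K
      have := map_sum (ιL R M) (fun j => g j • S j K) Finset.univ
      simp only [map_smul] at this
      exact this
    simp only [e]
    refine tendsto_finsetSum _ fun j _ => ?_
    exact (hb j).const_smul (g j)
  have hconst : (fun K => ((∑ j, g j • S j K : M) : Completion M) + Y K) = fun _ => x :=
    funext fun K => (hpartial K).symm
  rw [hconst] at hlim
  have hx_eq := tendsto_nhds_unique tendsto_const_nhds hlim
  rw [hx_eq, add_zero]
  refine Submodule.sum_mem _ fun j _ => Submodule.smul_mem_smul ?_ (hbmem j)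
  rw [← hg']; exact Ideal.subset_span ⟨j, rfl⟩

theorem main (I : Ideal R) (hI : I.FG) (M' : Submodule R M)
    (hopen : ∀ n : ℕ, IsOpen ((I ^ n • M' : Submodule R M) : Set M))
    (hbasis : ∀ U ∈ nhds (0 : M), ∃ n : ℕ, ((I ^ n • M' : Submodule R M) : Set M) ⊆ U) :
    (∃ M'' : Submodule R (UniformSpace.Completion M),
        (∀ n : ℕ, IsOpen ((I ^ n • M'' : Submodule R (UniformSpace.Completion M)) :
          Set (UniformSpace.Completion M))) ∧
        ∀ U ∈ nhds (0 : UniformSpace.Completion M), ∃ n : ℕ,
          ((I ^ n • M'' : Submodule R (UniformSpace.Completion M)) :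
            Set (UniformSpace.Completion M)) ⊆ U) ∧
      ∀ n : ℕ, 0 < n →
        Function.Surjective ((QuotientAddGroup.mk' (I ^ n • ⊤ : Submodule R (UniformSpace.Completion M)).toAddSubgroup).comp
          (UniformSpace.Completion.toCompl : M →+ UniformSpace.Completion M)) ∧
        ((QuotientAddGroup.mk' (I ^ n • ⊤ : Submodule R (UniformSpace.Completion M)).toAddSubgroup).comp
          (UniformSpace.Completion.toCompl : M →+ UniformSpace.Completion M)).ker = (I ^ n • ⊤ : Submodule R M).toAddSubgroup := by
  have hEq : ∀ n, I ^ n • cl M' = cl (I ^ n • M') := fun n =>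
    le_antisymm (smul_cl_le _ _) (cl_smul_le I hI M' hopen hbasis n)
  have hM'open : IsOpen (M' : Set M) := by
    have := hopen 0
    rwa [pow_zero, Ideal.one_eq_top, Submodule.top_smul] at this
  refine ⟨⟨cl M', fun n => ?_, fun U hU => ?_⟩, fun n _ => ⟨?_, ?_⟩⟩
  · rw [hEq]; exact isOpen_cl _ (hopen n)
  · obtain ⟨n, hn⟩ := exists_cl_subset (fun k => I ^ k • M') hbasis hU
    exact ⟨n, by rw [hEq]; exact hn⟩
  · -- surjective
    intro z
    obtain ⟨y, rfl⟩ := QuotientAddGroup.mk_surjective z
    have hnhd : (fun w => y - w) ⁻¹' (cl (I ^ n • M') : Set (Completion M)) ∈ 𝓝 y := by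
      have : Tendsto (fun w => y - w) (𝓝 y) (𝓝 (y - y)) := (continuous_sub_left y).tendsto y
      rw [sub_self] at this
      exact this (cl_mem_nhds _ (hopen n))
    obtain ⟨m, hm⟩ := Completion.denseRange_coe.mem_nhds hnhd
    refine ⟨m, ?_⟩
    have hm' : y - (m : Completion M) ∈ cl (I ^ n • M') := hm
    have hT : y - (m : Completion M) ∈ (I ^ n • ⊤ : Submodule R (Completion M)) := by
      rw [← hEq] at hm'
      exact Submodule.smul_mono (le_refl _) le_top hm'
    have h : -(m : Completion M) + y ∈
        (I ^ n • ⊤ : Submodule R (Completion M)).toAddSubgroup := by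
      have e : -(m : Completion M) + y = y - m := by abel
      rw [e]; exact hT
    exact QuotientAddGroup.eq.mpr h
  · ext x
    have hker : x ∈ ((QuotientAddGroup.mk'
          (I ^ n • ⊤ : Submodule R (Completion M)).toAddSubgroup).comp
          (Completion.toCompl : M →+ Completion M)).ker ↔
        (x : Completion M) ∈ (I ^ n • ⊤ : Submodule R (Completion M)) := by
      rw [AddMonoidHom.mem_ker]
      exact QuotientAddGroup.eq_zero_iff (x : Completion M)
    rw [hker]
    show _ ↔ x ∈ (I ^ n • ⊤ : Submodule R M)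
    constructor
    · intro hx
      have htop : (⊤ : Submodule R (Completion M)) = LinearMap.range (ιL R M) ⊔ cl M' := by
        symm; rw [eq_top_iff]
        intro y _
        have hnhd : (fun w => y - w) ⁻¹' (cl M' : Set (Completion M)) ∈ 𝓝 y := by
          have : Tendsto (fun w => y - w) (𝓝 y) (𝓝 (y - y)) :=
            (continuous_sub_left y).tendsto y
          rw [sub_self] at this
          exact this (cl_mem_nhds _ hM'open)
        obtain ⟨m, hm⟩ := Completion.denseRange_coe.mem_nhds hnhd
        have hm' : y - (m : Completion M) ∈ cl M' := hm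
        have e : y = ιL R M m + (y - (m : Completion M)) := by rw [ιL_apply]; abel
        rw [e]
        exact Submodule.add_mem_sup (LinearMap.mem_range_self _ m) hm'
      rw [htop, Submodule.smul_sup, LinearMap.range_eq_map, ← Submodule.map_smul'', hEq] at hx
      obtain ⟨u, hu, v, hv, huv⟩ := Submodule.mem_sup.mp hx
      obtain ⟨y, hy, rfl⟩ := Submodule.mem_map.mp hu
      have hv' : ((x - y : M) : Completion M) ∈ cl (I ^ n • M') := by
        have e : ((x - y : M) : Completion M) = v := by
          rw [Completion.coe_sub, ← huv, ιL_apply]; abel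
        rw [e]; exact hv
      have hxy : x - y ∈ I ^ n • M' := mem_of_coe_mem_cl _ (hopen n) hv'
      have hxy' : x - y ∈ (I ^ n • ⊤ : Submodule R M) :=
        Submodule.smul_mono (le_refl _) le_top hxy
      have e : x = y + (x - y) := by abel
      rw [e]
      exact Submodule.add_mem _ hy hxy'
    · intro hx
      have h1 : (ιL R M) x ∈ (I ^ n • ⊤ : Submodule R M).map (ιL R M) :=
        Submodule.mem_map_of_mem hx
      rw [Submodule.map_smul''] at h1
      exact Submodule.smul_mono (le_refl _) le_top h1

end main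

end Groth.Agent.Lib.LinTopMod3
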