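import Mathlib

/-!
# Completions of linearly topologized modules and quotients
-/

namespace Groth.Agent.Lib.LinTopMod

open UniformSpace Topology Filter

theorem ker_completion_map_mk
    {R : Type*} [Ring R] {M : Type*} [AddCommGroup M] [Module R M] [UniformSpace M]
    [IsUniformAddGroup M] [IsLinearTopology R M] (N : Submodule R M) :
    (@UniformSpace.Completion.map M _ (M ⧸ N.toAddSubgroup)
        (IsTopologicalAddGroup.rightUniformSpace (M ⧸ N.toAddSubgroup))
        (QuotientAddGroup.mk' N.toAddSubgroup)) ⁻¹' {0} =
      closure (Set.range (fun n : N => ((n : M) : UniformSpace.Completion M))) := by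
  letI uQ : UniformSpace (M ⧸ N.toAddSubgroup) := IsTopologicalAddGroup.rightUniformSpace _
  haveI : IsUniformAddGroup (M ⧸ N.toAddSubgroup) := isUniformAddGroup_of_addCommGroup
  have hπc : Continuous (QuotientAddGroup.mk' N.toAddSubgroup) := QuotientAddGroup.continuous_mk
  have hπuc : UniformContinuous (QuotientAddGroup.mk' N.toAddSubgroup) :=
    uniformContinuous_addMonoidHom_of_continuous hπc
  obtain ⟨P, hP⟩ : ∃ P : Completion M →+ Completion (M ⧸ N.toAddSubgroup),
      ∀ y, P y = Completion.map (QuotientAddGroup.mk' N.toAddSubgroup) y :=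
    ⟨AddMonoidHom.completion (QuotientAddGroup.mk' N.toAddSubgroup) hπc, fun y => rfl⟩
  have hPc : Continuous P := by
    have : (P : Completion M → _) = Completion.map (QuotientAddGroup.mk' N.toAddSubgroup) :=
      funext hP
    rw [this]; exact Completion.continuous_map
  have hPcoe : ∀ m : M, P (m : Completion M) =
      ((QuotientAddGroup.mk' N.toAddSubgroup m : M ⧸ N.toAddSubgroup) :
        Completion (M ⧸ N.toAddSubgroup)) := fun m => by
    rw [hP]; exact Completion.map_coe hπuc m
  have hgoal : (P : Completion M → _) ⁻¹' {0} =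
      closure (Set.range (fun n : N => ((n : M) : UniformSpace.Completion M))) := by
    apply Set.Subset.antisymm
    · intro x hx
      have hx0 : P x = 0 := hx
      rw [mem_closure_iff_nhds]
      intro W hW
      have hT : (fun z => x + z) ⁻¹' W ∈ 𝓝 (0 : Completion M) := by
        have : Tendsto (fun z => x + z) (𝓝 0) (𝓝 (x + 0)) := (continuous_add_left x).tendsto 0
        rw [add_zero] at this
        exact this hW
      obtain ⟨C, hC0, hCcl, hCT⟩ := exists_mem_nhds_isClosed_subset hT
      have hιC : ((↑) : M → Completion M) ⁻¹' C ∈ 𝓝 (0 : M) := by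
        have : Tendsto ((↑) : M → Completion M) (𝓝 0) (𝓝 ((0 : M) : Completion M)) :=
          (Completion.continuous_coe M).tendsto 0
        rw [Completion.coe_zero] at this
        exact this hC0
      obtain ⟨U, hUo, hUC⟩ := (IsLinearTopology.hasBasis_open_submodule R).mem_iff.mp hιC
      have hU0 : (U : Set M) ∈ 𝓝 (0 : M) := hUo.mem_nhds U.zero_mem
      obtain ⟨Dg, hDcoe⟩ : ∃ Dg : AddSubgroup (Completion M),
          (Dg : Set (Completion M)) = closure (((↑) : M → Completion M) '' (U : Set M)) :=
        ⟨(AddSubgroup.map (Completion.toCompl : M →+ Completion M)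
          U.toAddSubgroup).topologicalClosure, by
            rw [AddSubgroup.topologicalClosure_coe, AddSubgroup.coe_map]; rfl⟩
      have hD0 : (Dg : Set (Completion M)) ∈ 𝓝 (0 : Completion M) := by
        rw [hDcoe, ← Completion.coe_zero]
        exact Completion.isDenseInducing_coe.closure_image_mem_nhds hU0
      have hDC : (Dg : Set (Completion M)) ⊆ C := by
        rw [hDcoe]
        exact closure_minimal (Set.image_subset_iff.mpr hUC) hCcl
      have hnx : (fun y => y - x) ⁻¹' (Dg : Set (Completion M)) ∈ 𝓝 x := by
        have : Tendsto (fun y => y - x) (𝓝 x) (𝓝 (x - x)) := (continuous_sub_right x).tendsto x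
        rw [sub_self] at this
        exact this hD0
      obtain ⟨m, hm⟩ := Completion.denseRange_coe.mem_nhds hnx
      have hm' : ((m : M) : Completion M) - x ∈ Dg := hm
      obtain ⟨Ug', hUg'coe⟩ : ∃ Ug' : AddSubgroup (M ⧸ N.toAddSubgroup),
          (Ug' : Set (M ⧸ N.toAddSubgroup)) =
            (QuotientAddGroup.mk' N.toAddSubgroup) '' (U : Set M) :=
        ⟨AddSubgroup.map (QuotientAddGroup.mk' N.toAddSubgroup) U.toAddSubgroup, by
          rw [AddSubgroup.coe_map]; rfl⟩
      have hUg'open : IsOpen (Ug' : Set (M ⧸ N.toAddSubgroup)) := by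
        rw [hUg'coe]
        exact QuotientAddGroup.isOpenMap_coe _ hUo
      have hUg'cl : IsClosed (Ug' : Set (M ⧸ N.toAddSubgroup)) :=
        AddSubgroup.isClosed_of_isOpen Ug' hUg'open
      have hPD : P '' (Dg : Set (Completion M)) ⊆
          closure (((↑) : (M ⧸ N.toAddSubgroup) → Completion (M ⧸ N.toAddSubgroup)) ''
            (Ug' : Set _)) := by
        rw [hDcoe, hUg'coe]
        refine (image_closure_subset_closure_image hPc).trans (closure_mono ?_)
        rintro _ ⟨_, ⟨u, hu, rfl⟩, rfl⟩
        rw [hPcoe]
        exact ⟨_, ⟨u, hu, rfl⟩, rfl⟩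
      have h1 : P (((m : M) : Completion M) - x) =
          ((QuotientAddGroup.mk' N.toAddSubgroup m : M ⧸ N.toAddSubgroup) : Completion _) := by
        rw [map_sub, hx0, sub_zero, hPcoe]
      have h2 : (QuotientAddGroup.mk' N.toAddSubgroup m) ∈
          closure (Ug' : Set (M ⧸ N.toAddSubgroup)) := by
        rw [Completion.isDenseInducing_coe.isInducing.closure_eq_preimage_closure_image]
        rw [Set.mem_preimage, ← h1]
        exact hPD ⟨_, hm', rfl⟩
      rw [hUg'cl.closure_eq, hUg'coe] at h2
      obtain ⟨u, hu, hum⟩ := h2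
      have hn : m - u ∈ N := by
        have : (QuotientAddGroup.mk' N.toAddSubgroup (m - u)) = 0 := by
          rw [map_sub, hum, sub_self]
        exact (QuotientAddGroup.eq_zero_iff _).mp this
      refine ⟨((m - u : M) : Completion M), ?_, ⟨⟨m - u, hn⟩, rfl⟩⟩
      have h3 : ((m - u : M) : Completion M) - x ∈ Dg := by
        have hu' : ((u : M) : Completion M) ∈ Dg := by
          have : ((u : M) : Completion M) ∈ (Dg : Set (Completion M)) := by
            rw [hDcoe]; exact subset_closure ⟨u, hu, rfl⟩
          exact this
        have : ((m - u : M) : Completion M) - x =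
            (((m : M) : Completion M) - x) - ((u : M) : Completion M) := by
          rw [Completion.coe_sub]; abel
        rw [this]
        exact Dg.sub_mem hm' hu'
      have h4 : x + (((m - u : M) : Completion M) - x) ∈ W := hCT (hDC h3)
      simpa using h4
    · apply closure_minimal
      · rintro _ ⟨n, rfl⟩
        show P ((n : M) : Completion M) = 0
        rw [hPcoe]
        have : (QuotientAddGroup.mk' N.toAddSubgroup (n : M)) = 0 :=
          (QuotientAddGroup.eq_zero_iff _).mpr n.2
        rw [this, Completion.coe_zero]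
      · exact isClosed_singleton.preimage hPc
  rw [← hgoal]
  congr 1
  exact (funext hP).symm

end Groth.Agent.Lib.LinTopMod
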