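import Mathlib
import Groth.Agent.Lib.LinTopCompl_lead
import Groth.Agent.Lib.LinTopMod2_lead

/-!
# Taut homomorphisms with dense image out of a complete first-countable ring
-/

universe u v

namespace Groth.Agent.Lib.LinTopTaut

open LinTop Topology UniformSpace Filter Groth.Agent.Lib.LinTop_lead
  Groth.Agent.Lib.LinTopCompl_lead Groth.Agent.Lib.LinTopMod

section comp
variable {A : Type*} [CommRing A] [TopologicalSpace A] [IsTopologicalRing A]
variable {B : Type*} [CommRing B] [TopologicalSpace B] [IsTopologicalRing B]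
variable {C : Type*} [CommRing C] [TopologicalSpace C] [IsTopologicalRing C]

theorem isTaut_comp {φ : A →+* B} {ψ : B →+* C} (hφ : IsTaut φ) (hψ : IsTaut ψ) :
    IsTaut (ψ.comp φ) := by
  obtain ⟨hφc, hφo, hφb⟩ := hφ
  obtain ⟨hψc, hψo, hψb⟩ := hψ
  have key : ∀ I : Ideal A, ((I.map (ψ.comp φ) : Ideal C)).closure =
      (((I.map φ).closure).map ψ).closure := by
    intro I
    rw [closure_map_closure_eq hψc, Ideal.map_map]
  refine ⟨hψc.comp hφc, ?_, ?_⟩
  · intro I hI
    rw [← Ideal.coe_closure, key, Ideal.coe_closure]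
    apply hψo
    rw [Ideal.coe_closure]
    exact hφo I hI
  · intro U hU
    obtain ⟨J, hJo, hJU⟩ := hψb U hU
    obtain ⟨I, hIo, hIJ⟩ := hφb J (hJo.mem_nhds J.zero_mem)
    refine ⟨I, hIo, ?_⟩
    rw [← Ideal.coe_closure, key, Ideal.coe_closure]
    refine (closure_mono ?_).trans hJU
    apply SetLike.coe_subset_coe.mpr
    apply Ideal.map_mono
    intro x hx
    have hx' : x ∈ ((I.map φ).closure : Set B) := hx
    rw [Ideal.coe_closure] at hx'
    exact hIJ hx'

end comp

section core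
variable {A : Type*} [CommRing A] [UniformSpace A] [IsUniformAddGroup A] [IsTopologicalRing A]
    [IsLinearTopology A A] [T2Space A] [CompleteSpace A]
    {B : Type*} [CommRing B] [TopologicalSpace B] [IsTopologicalRing B]
    [IsLinearTopology B B] [T2Space B]

omit [UniformSpace A] [IsUniformAddGroup A] [IsTopologicalRing A] [IsLinearTopology A A]
  [T2Space A] [CompleteSpace A] [IsLinearTopology B B] [T2Space B] in
theorem exists_sub_mem_of_mem_map (φ : A →+* B) (hd : DenseRange φ) (I : Ideal A) (J' : Ideal B)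
    (hJ' : IsOpen (J' : Set B)) :
    ∀ s ∈ I.map φ, ∃ a ∈ I, s - φ a ∈ J' := by
  intro s hs
  refine Submodule.span_induction (p := fun s _ => ∃ a ∈ I, s - φ a ∈ J') ?_ ?_ ?_ ?_ hs
  · rintro _ ⟨i, hi, rfl⟩
    exact ⟨i, hi, by rw [sub_self]; exact J'.zero_mem⟩
  · exact ⟨0, I.zero_mem, by rw [map_zero, sub_self]; exact J'.zero_mem⟩
  · rintro x y _ _ ⟨a, ha, hxa⟩ ⟨b, hb, hyb⟩
    refine ⟨a + b, I.add_mem ha hb, ?_⟩
    have : x + y - φ (a + b) = (x - φ a) + (y - φ b) := by rw [map_add]; ring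
    rw [this]; exact J'.add_mem hxa hyb
  · rintro r x _ ⟨a, ha, hxa⟩
    have hn : (fun z => r - z) ⁻¹' (J' : Set B) ∈ 𝓝 r := by
      have : Tendsto (fun z => r - z) (𝓝 r) (𝓝 (r - r)) := (continuous_sub_left r).tendsto r
      rw [sub_self] at this
      exact this (hJ'.mem_nhds J'.zero_mem)
    obtain ⟨a', ha'⟩ := hd.mem_nhds hn
    refine ⟨a' * a, I.mul_mem_left _ ha, ?_⟩
    have : r • x - φ (a' * a) = r * (x - φ a) + (r - φ a') * φ a := by
      rw [map_mul, smul_eq_mul]; ring
    rw [this]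
    exact J'.add_mem (J'.mul_mem_left _ hxa) (J'.mul_mem_right _ ha')

theorem core (hA : (𝓝 (0 : A)).IsCountablyGenerated) (φ : A →+* B) (hφ : IsTaut φ)
    (hd : DenseRange φ) : Function.Surjective φ ∧ IsOpenMap φ := by
  obtain ⟨hφc, hφo, hφb⟩ := hφ
  haveI := hA
  obtain ⟨X, hXo, hXb⟩ := (IsLinearTopology.hasBasis_open_ideal (R := A)).exists_antitone_subbasis
  have hXanti : ∀ i j, i ≤ j → X j ≤ X i := fun i j hij =>
    SetLike.coe_subset_coe.mp (hXb.antitone hij)
  have hJo : ∀ k, IsOpen ((((X k).map φ).closure : Ideal B) : Set B) := fun k => by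
    rw [Ideal.coe_closure]; exact hφo _ (hXo k)
  have hJanti : ∀ i j, i ≤ j → ((X j).map φ).closure ≤ ((X i).map φ).closure := fun i j hij =>
    closure_ideal_mono (Ideal.map_mono (hXanti i j hij))
  have hJbasis : ∀ W ∈ 𝓝 (0 : B), ∃ k, ((((X k).map φ).closure : Ideal B) : Set B) ⊆ W := by
    intro W hW
    obtain ⟨I', hI'o, hI'W⟩ := hφb W hW
    obtain ⟨k, -, hk⟩ := hXb.toHasBasis.mem_iff.mp (hI'o.mem_nhds I'.zero_mem)
    refine ⟨k, ?_⟩
    rw [Ideal.coe_closure]
    exact (closure_mono (SetLike.coe_subset_coe.mpr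
      (Ideal.map_mono (SetLike.coe_subset_coe.mp hk)))).trans hI'W
  have hstep : ∀ k, ∀ b ∈ ((X k).map φ).closure,
      ∃ a ∈ X k, b - φ a ∈ ((X (k + 1)).map φ).closure := by
    intro k b hb
    have hb' : b ∈ closure (((X k).map φ : Ideal B) : Set B) := by
      rw [← Ideal.coe_closure]; exact hb
    have hn : (fun z => b - z) ⁻¹' ((((X (k + 1)).map φ).closure : Ideal B) : Set B) ∈ 𝓝 b := by
      have : Tendsto (fun z => b - z) (𝓝 b) (𝓝 (b - b)) := (continuous_sub_left b).tendsto b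
      rw [sub_self] at this
      exact this ((hJo (k + 1)).mem_nhds (Ideal.zero_mem _))
    obtain ⟨s, hs1, hs2⟩ := mem_closure_iff_nhds.mp hb' _ hn
    obtain ⟨a, ha, hsa⟩ := exists_sub_mem_of_mem_map φ hd (X k) _ (hJo (k + 1)) s hs2
    refine ⟨a, ha, ?_⟩
    have : b - φ a = (b - s) + (s - φ a) := by ring
    rw [this]
    exact Ideal.add_mem _ hs1 hsa
  choose! f hf1 hf2 using hstep
  have hmain : ∀ k0, ∀ b ∈ ((X k0).map φ).closure, ∃ a ∈ X k0, φ a = b := by
    intro k0 b hb
    obtain ⟨bs, hbs0, hbss⟩ : ∃ bs : ℕ → B, bs 0 = b ∧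
        ∀ n, bs (n + 1) = bs n - φ (f (k0 + n) (bs n)) :=
      ⟨fun n => Nat.rec b (fun n bn => bn - φ (f (k0 + n) bn)) n, rfl, fun n => rfl⟩
    have hbsmem : ∀ n, bs n ∈ ((X (k0 + n)).map φ).closure := by
      intro n
      induction n with
      | zero => rw [hbs0]; exact hb
      | succ n ih => rw [hbss]; exact hf2 (k0 + n) (bs n) ih
    obtain ⟨as, has⟩ : ∃ as : ℕ → A, ∀ n, as n = f (k0 + n) (bs n) := ⟨_, fun _ => rfl⟩
    have hasmem : ∀ n, as n ∈ X (k0 + n) := fun n => by
      rw [has]; exact hf1 (k0 + n) (bs n) (hbsmem n)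
    obtain ⟨s, hs⟩ : ∃ s : ℕ → A, ∀ n, s n = ∑ i ∈ Finset.range n, as i := ⟨_, fun _ => rfl⟩
    have hsφ : ∀ n, φ (s n) = b - bs n := by
      intro n
      induction n with
      | zero => rw [hs, Finset.sum_range_zero, map_zero, hbs0, sub_self]
      | succ n ih =>
        rw [hs, Finset.sum_range_succ, map_add, ← hs, ih, hbss, has]
        ring
    have hsmem : ∀ n, s n ∈ X k0 := fun n => by
      rw [hs]
      exact Ideal.sum_mem _ (fun i _ => hXanti k0 (k0 + i) (Nat.le_add_right _ _) (hasmem i))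
    have hssucc : ∀ n, s (n + 1) - s n ∈ (X (k0 + n)).toAddSubgroup := fun n => by
      rw [hs, hs, Finset.sum_range_succ, add_sub_cancel_left]; exact hasmem n
    have hcs : CauchySeq s := cauchySeq_of_sub_mem (fun n => (X (k0 + n)).toAddSubgroup)
      (fun i j hij => hXanti _ _ (Nat.add_le_add_left hij k0))
      (fun W hW => by
        obtain ⟨k, -, hk⟩ := hXb.toHasBasis.mem_iff.mp hW
        exact ⟨k, fun z hz => hk (hXanti k (k0 + k) (Nat.le_add_left _ _) hz)⟩) s hssucc
    obtain ⟨a, ha⟩ := cauchySeq_tendsto_of_complete hcs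
    refine ⟨a, ?_, ?_⟩
    · exact (ideal_isClosed_of_isOpen (X k0) (hXo k0)).mem_of_tendsto ha
        (Filter.Eventually.of_forall hsmem)
    · have ht1 : Tendsto (fun n => φ (s n)) atTop (𝓝 (φ a)) := (hφc.tendsto a).comp ha
      have ht2 : Tendsto (fun n => φ (s n)) atTop (𝓝 b) := by
        rw [Filter.tendsto_atTop']
        intro W hW
        have hW' : (fun v => b - v) ⁻¹' W ∈ 𝓝 (0 : B) := by
          have : Tendsto (fun v => b - v) (𝓝 0) (𝓝 (b - 0)) := (continuous_sub_left b).tendsto 0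
          rw [sub_zero] at this
          exact this hW
        obtain ⟨k, hk⟩ := hJbasis _ hW'
        refine ⟨k, fun n hn => ?_⟩
        rw [hsφ]
        exact hk (hJanti k (k0 + n) (le_trans hn (Nat.le_add_left _ _)) (hbsmem n))
      exact tendsto_nhds_unique ht1 ht2
  constructor
  · intro b
    have hn : (fun z => b - z) ⁻¹' ((((X 0).map φ).closure : Ideal B) : Set B) ∈ 𝓝 b := by
      have : Tendsto (fun z => b - z) (𝓝 b) (𝓝 (b - b)) := (continuous_sub_left b).tendsto b
      rw [sub_self] at this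
      exact this ((hJo 0).mem_nhds (Ideal.zero_mem _))
    obtain ⟨a', ha'⟩ := hd.mem_nhds hn
    obtain ⟨a'', -, ha''⟩ := hmain 0 (b - φ a') ha'
    exact ⟨a' + a'', by rw [map_add, ha'']; ring⟩
  · rw [isOpenMap_iff_nhds_le]
    intro x S hS
    have hS' : φ ⁻¹' S ∈ 𝓝 x := hS
    have hT : (fun z => x + z) ⁻¹' (φ ⁻¹' S) ∈ 𝓝 (0 : A) := by
      have : Tendsto (fun z => x + z) (𝓝 0) (𝓝 (x + 0)) := (continuous_const_add x).tendsto 0
      rw [add_zero] at this
      exact this hS'
    obtain ⟨k, -, hk⟩ := hXb.toHasBasis.mem_iff.mp hT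
    have hsub : (fun z => z - φ x) ⁻¹' ((((X k).map φ).closure : Ideal B) : Set B) ⊆ S := by
      intro z hz
      have hz' : z - φ x ∈ ((X k).map φ).closure := hz
      obtain ⟨a, ha, haz⟩ := hmain k (z - φ x) hz'
      have h1 : x + a ∈ φ ⁻¹' S := hk ha
      have h2 : φ (x + a) = z := by rw [map_add, haz]; ring
      rw [← h2]; exact h1
    have hn : (fun z => z - φ x) ⁻¹' ((((X k).map φ).closure : Ideal B) : Set B) ∈ 𝓝 (φ x) := by
      have : Tendsto (fun z => z - φ x) (𝓝 (φ x)) (𝓝 (φ x - φ x)) :=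
        (continuous_sub_right (φ x)).tendsto (φ x)
      rw [sub_self] at this
      exact this ((hJo k).mem_nhds (Ideal.zero_mem _))
    exact Filter.mem_of_superset hn hsub

end core

theorem main (A : Type u) [CommRing A] [UniformSpace A] [IsUniformAddGroup A] [IsTopologicalRing A]
    [IsLinearTopology A A] [T2Space A] [CompleteSpace A]
    (hA : (nhds (0 : A)).IsCountablyGenerated)
    (B : Type v) [CommRing B] [UniformSpace B] [IsUniformAddGroup B] [IsTopologicalRing B]
    [IsLinearTopology B B] [T2Space B]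
    (φ : A →+* B) (hφ : LinTop.IsTaut φ) (hd : DenseRange φ) :
    Function.Surjective φ ∧ IsOpenQuotientMap φ ∧ CompleteSpace B := by
  obtain ⟨hs, ho⟩ := core hA φ hφ hd
  refine ⟨hs, ⟨hs, hφ.1, ho⟩, ?_⟩
  have hψ : IsTaut ((Completion.coeRingHom : B →+* Completion B).comp φ) :=
    isTaut_comp hφ isTaut_coeRingHom
  have hdψ : DenseRange ((Completion.coeRingHom : B →+* Completion B).comp φ) := by
    have : DenseRange (((↑) : B → Completion B) ∘ φ) :=
      Completion.denseRange_coe.comp hd (Completion.continuous_coe B)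
    exact this
  obtain ⟨hsψ, -⟩ := core hA _ hψ hdψ
  have hcoe : Function.Surjective ((↑) : B → Completion B) := by
    intro z
    obtain ⟨a, ha⟩ := hsψ z
    exact ⟨φ a, ha⟩
  rw [completeSpace_iff_isComplete_range (Completion.isUniformInducing_coe B), hcoe.range_eq]
  exact isComplete_univ

end Groth.Agent.Lib.LinTopTaut
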