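import Mathlib
import Groth.Agent.Lib.LinTop_lead

/-!
# Weakly adic rings whose ideal of definition is finitely generated modulo the closure of its square
-/

universe u

namespace Groth.Agent.Lib.LinTopWAdic

open LinTop Topology Filter Groth.Agent.Lib.LinTop_lead

variable {A : Type u} [CommRing A] [UniformSpace A] [IsUniformAddGroup A] [IsTopologicalRing A]

theorem main (hA : LinTop.IsWeaklyAdic A) (I : Ideal A) (hI : LinTop.IsIdealOfDefinition A I)
    (hfg : (I.map (Ideal.Quotient.mk ((I ^ 2).closure))).FG) :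
    LinTop.IsAdicRing A ∧ ∃ J : Ideal A, LinTop.IsIdealOfDefinition A J ∧ J.FG := by
  classical
  obtain ⟨⟨hlin, K, hKo, hKb⟩, hT2, hcomp⟩ := hA
  haveI := hlin; haveI := hT2; haveI := hcomp
  have hIo := hI.1
  have hIcOpen : ∀ n, IsOpen (closure ((I ^ n : Ideal A) : Set A)) := by
    intro n
    obtain ⟨m, hm⟩ := hKb I (hIo.mem_nhds I.zero_mem)
    have hKm : K ^ m ≤ I := fun x hx => hm (subset_closure hx)
    have : K ^ (m * n) ≤ I ^ n := by rw [pow_mul]; exact Ideal.pow_right_mono hKm n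
    exact isOpen_closure_mono this (hKo (m * n))
  have hIcBasis : ∀ U ∈ 𝓝 (0 : A), ∃ n, closure ((I ^ n : Ideal A) : Set A) ⊆ U := by
    intro U hU
    obtain ⟨L, hLo, hLU⟩ := (IsLinearTopology.hasBasis_open_ideal (R := A)).mem_iff.mp hU
    obtain ⟨n, -, hn⟩ := hI.2 L (hLo.mem_nhds L.zero_mem)
    exact ⟨n, (closure_minimal hn (ideal_isClosed_of_isOpen L hLo)).trans hLU⟩
  -- the finitely generated ideal J
  obtain ⟨T, hT⟩ := hfg
  have hTmem : ∀ t ∈ T, ∃ f ∈ I, Ideal.Quotient.mk ((I ^ 2).closure) f = t := by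
    intro t ht
    have : t ∈ I.map (Ideal.Quotient.mk ((I ^ 2).closure)) := by
      rw [← hT]; exact Submodule.subset_span ht
    exact (Ideal.mem_map_iff_of_surjective _ Ideal.Quotient.mk_surjective).mp this
  choose! g hgI hgt using hTmem
  obtain ⟨J, hJdef⟩ : ∃ J : Ideal A, J = Ideal.span ((T.image g : Finset A) : Set A) := ⟨_, rfl⟩
  have hJfg : J.FG := ⟨T.image g, hJdef.symm⟩
  have hJI : J ≤ I := by
    rw [hJdef, Ideal.span_le]
    intro x hx
    rw [Finset.mem_coe, Finset.mem_image] at hx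
    obtain ⟨t, ht, rfl⟩ := hx
    exact hgI t ht
  have hIJ : I ≤ J ⊔ (I ^ 2).closure := by
    intro x hx
    have h1 : Ideal.Quotient.mk ((I ^ 2).closure) x ∈
        I.map (Ideal.Quotient.mk ((I ^ 2).closure)) := Ideal.mem_map_of_mem _ hx
    rw [← hT] at h1
    have h2 : Submodule.span (A ⧸ (I ^ 2).closure) (T : Set (A ⧸ (I ^ 2).closure)) ≤
        J.map (Ideal.Quotient.mk ((I ^ 2).closure)) := by
      rw [Submodule.span_le]
      intro t ht
      rw [← hgt t ht]
      exact Ideal.mem_map_of_mem _ (by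
        rw [hJdef]
        exact Ideal.subset_span (Finset.mem_coe.mpr (Finset.mem_image_of_mem g ht)))
    obtain ⟨j, hj, hjx⟩ :=
      (Ideal.mem_map_iff_of_surjective _ Ideal.Quotient.mk_surjective).mp (h2 h1)
    have h3 : x - j ∈ (I ^ 2).closure := by
      rw [← Ideal.Quotient.eq]; exact hjx.symm
    have : x = j + (x - j) := by ring
    rw [this]
    exact Submodule.add_mem_sup hj h3
  -- closures of powers
  have hIcle : ∀ a b : ℕ, (I ^ a).closure * (I ^ b).closure ≤ (I ^ (a + b)).closure := fun a b =>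
    closure_mul_closure_le (isClosed_closure_ideal _) (by rw [← pow_add]; exact le_closure_ideal _)
  have hIcanti : ∀ a b : ℕ, a ≤ b → (I ^ b).closure ≤ (I ^ a).closure := fun a b hab =>
    closure_ideal_mono (Ideal.pow_le_pow_right hab)
  have hJpow : ∀ n, J ^ n ≤ (I ^ n).closure := fun n =>
    (Ideal.pow_right_mono hJI n).trans (le_closure_ideal _)
  have hmulmem : ∀ (a b m : ℕ) (x y : A), x ∈ (I ^ a).closure → y ∈ (I ^ b).closure →
      m ≤ a + b → x * y ∈ (I ^ m).closure := fun a b m x y hx hy hm =>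
    hIcanti m (a + b) hm (hIcle a b (Ideal.mul_mem_mul hx hy))
  have hJ1 : ∀ x ∈ J, x ∈ (I ^ 1).closure := fun x hx => hJpow 1 (by rwa [pow_one])
  have hL4 : ∀ n, 1 ≤ n → I ^ n ≤ J ^ n ⊔ (I ^ (n + 1)).closure := by
    intro n hn
    induction n, hn using Nat.le_induction with
    | base => rw [pow_one, pow_one]; exact hIJ
    | succ n hn ih =>
      rw [pow_succ' I n, Ideal.mul_le]
      intro r hr s hs
      obtain ⟨j, hj, c, hc, rfl⟩ := Submodule.mem_sup.mp (hIJ hr)
      obtain ⟨j', hj', c', hc', rfl⟩ := Submodule.mem_sup.mp (ih hs)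
      have e : (j + c) * (j' + c') = j * j' + (j * c' + c * j' + c * c') := by ring
      rw [e]
      refine Submodule.add_mem_sup ?_ ?_
      · rw [pow_succ' J n]; exact Ideal.mul_mem_mul hj hj'
      · refine Ideal.add_mem _ (Ideal.add_mem _ ?_ ?_) ?_
        · exact hmulmem 1 (n + 1) (n + 1 + 1) j c' (hJ1 j hj) hc' (by omega)
        · exact hmulmem 2 n (n + 1 + 1) c j' hc (hJpow n hj') (by omega)
        · exact hmulmem 2 (n + 1) (n + 1 + 1) c c' hc hc' (by omega)
  have hclsub : ∀ (m : ℕ) (S : Ideal A), ∀ c ∈ S.closure, ∃ s ∈ S, c - s ∈ (I ^ m).closure := by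
    intro m S c hc
    have hc' : c ∈ closure (S : Set A) := by rw [← Ideal.coe_closure]; exact hc
    have hn : (fun z => c - z) ⁻¹' (((I ^ m).closure : Ideal A) : Set A) ∈ 𝓝 c := by
      have : Tendsto (fun z => c - z) (𝓝 c) (𝓝 (c - c)) := (continuous_sub_left c).tendsto c
      rw [sub_self] at this
      refine this (IsOpen.mem_nhds ?_ (Ideal.zero_mem _))
      rw [Ideal.coe_closure]; exact hIcOpen m
    obtain ⟨s, hs1, hs2⟩ := mem_closure_iff_nhds.mp hc' _ hn
    exact ⟨s, hs2, hs1⟩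
  have hL5 : ∀ n, 1 ≤ n → ∀ k, 1 ≤ k → I ^ n ≤ J ^ n ⊔ (I ^ (n + k)).closure := by
    intro n hn k hk
    induction k, hk using Nat.le_induction with
    | base => exact hL4 n hn
    | succ k hk ih =>
      intro x hx
      obtain ⟨j, hj, c, hc, rfl⟩ := Submodule.mem_sup.mp (ih hx)
      obtain ⟨s, hs, hcs⟩ := hclsub (n + (k + 1)) (I ^ (n + k)) c hc
      obtain ⟨j', hj', c', hc', hjc'⟩ := Submodule.mem_sup.mp (hL4 (n + k) (by omega) hs)
      have e : j + c = (j + j') + (c' + (c - s)) := by rw [← hjc']; ring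
      rw [e]
      refine Submodule.add_mem_sup
        (Ideal.add_mem _ hj (Ideal.pow_le_pow_right (Nat.le_add_right n k) hj'))
        (Ideal.add_mem _ ?_ hcs)
      exact hc'
  have hL6 : ∀ n, 1 ≤ n →
      ((I ^ n : Ideal A) : Set A) ⊆ closure ((J ^ n : Ideal A) : Set A) := by
    intro n hn x hx
    rw [mem_closure_iff_nhds]
    intro W hW
    have hTW : (fun z => x + z) ⁻¹' W ∈ 𝓝 (0 : A) := by
      have : Tendsto (fun z => x + z) (𝓝 0) (𝓝 (x + 0)) := (continuous_const_add x).tendsto 0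
      rw [add_zero] at this
      exact this hW
    obtain ⟨m, hm⟩ := hIcBasis _ hTW
    obtain ⟨j, hj, c, hc, hjc⟩ := Submodule.mem_sup.mp (hL5 n hn (m + 1) (by omega) hx)
    refine ⟨j, ?_, hj⟩
    have hc' : -c ∈ closure ((I ^ m : Ideal A) : Set A) := by
      rw [← Ideal.coe_closure]
      exact (Ideal.neg_mem_iff _).mpr (hIcanti m (n + (m + 1)) (by omega) hc)
    have hW' : x + -c ∈ W := hm hc'
    have e : x + -c = j := by rw [← hjc]; ring
    rwa [e] at hW'
  have hclEq : ∀ n, closure ((J ^ n : Ideal A) : Set A) = closure ((I ^ n : Ideal A) : Set A) := by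
    intro n
    rcases Nat.eq_zero_or_pos n with rfl | hn
    · simp
    · apply Set.Subset.antisymm
      · exact closure_mono (SetLike.coe_subset_coe.mpr (Ideal.pow_right_mono hJI n))
      · exact closure_minimal (hL6 n hn) isClosed_closure
  have hadic : IsAdic J := isAdic_of_fg_of_closure_pow_basis J hJfg
    (fun n => by rw [hclEq]; exact hIcOpen n)
    (fun U hU => by
      obtain ⟨n, hn⟩ := hIcBasis U hU
      exact ⟨n, by rw [hclEq]; exact hn⟩)
  refine ⟨⟨⟨J, hadic⟩, hT2, hcomp⟩, J, ⟨isOpen_of_isAdic hadic, fun U hU => ?_⟩, hJfg⟩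
  obtain ⟨n, hn⟩ := (isAdic_iff.mp hadic).2 U hU
  exact ⟨n + 1, Nat.succ_pos n,
    (SetLike.coe_subset_coe.mpr (Ideal.pow_le_pow_right (Nat.le_succ n))).trans hn⟩

end Groth.Agent.Lib.LinTopWAdic
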