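import Mathlib.Topology.Algebra.LinearTopology
import Mathlib.Topology.Algebra.Module.ContinuousLinearMap.Basic
import Mathlib.Topology.Algebra.OpenSubgroup
import Mathlib.LinearAlgebra.Basis.VectorSpace
import Mathlib.LinearAlgebra.Dual.Lemmas

/-!
# Linearly topologized vector spaces over a discrete field: continuous functionals

Helper lemmas for the `LinTop` rows.
-/

set_option autoImplicit false
universe u v

namespace Groth.Agent.Lib.LinTop_helper5

open Topology

variable {k : Type u} {M : Type v} [Field k] [TopologicalSpace k] [DiscreteTopology k]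
  [AddCommGroup M] [Module k M] [TopologicalSpace M] [IsTopologicalAddGroup M]

/-- A linear functional whose kernel contains an open submodule is continuous (target discrete). -/
theorem continuous_of_open_le_ker (φ : M →ₗ[k] k) (N : Submodule k M) (hN : IsOpen (N : Set M))
    (h : N ≤ LinearMap.ker φ) : Continuous φ := by
  apply continuous_of_continuousAt_zero φ.toAddMonoidHom
  rw [ContinuousAt, map_zero, nhds_discrete k, Filter.tendsto_pure]
  filter_upwards [hN.mem_nhds (zero_mem N)] with x hx
  exact h hx

variable [IsLinearTopology k M]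

omit [TopologicalSpace k] [DiscreteTopology k] in
/-- A point outside a closed submodule is separated from it by an open submodule. -/
theorem exists_open_submodule_sup_not_mem (M₁ : Submodule k M) (hM₁ : IsClosed (M₁ : Set M))
    (x : M) (hx : x ∉ M₁) :
    ∃ N : Submodule k M, IsOpen (N : Set M) ∧ M₁ ≤ N ∧ x ∉ N := by
  have h1 : {y : M | x + y ∉ M₁} ∈ 𝓝 (0 : M) := by
    have hc : Continuous fun y : M => x + y := continuous_const.add continuous_id
    have : IsOpen {y : M | x + y ∉ M₁} := hM₁.isOpen_compl.preimage hc
    exact this.mem_nhds (by simpa using hx)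
  obtain ⟨U, hU, hUs⟩ := (IsLinearTopology.hasBasis_open_submodule k).mem_iff.mp h1
  refine ⟨M₁ ⊔ U, ?_, le_sup_left, ?_⟩
  · exact Submodule.isOpen_mono (le_sup_right : U ≤ M₁ ⊔ U) hU
  · intro hxN
    obtain ⟨m, hm, u, hu, rfl⟩ := Submodule.mem_sup.mp hxN
    have : (m + u) + (-u) ∉ M₁ := hUs (U.neg_mem hu)
    apply this
    simpa using hm

end Groth.Agent.Lib.LinTop_helper5
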