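import Mathlib
import Groth.Prelude.Def_GLin
import Groth.Prelude.Def_HopfRep
import Groth.Agent.Lib.RosenHopf_helper1
import Groth.Agent.Lib.CartierRed_helper1

/-!
# `G`-linearizations of the trivial line bundle are characters (helper1)

`k` algebraically closed of characteristic zero, `A` a finitely generated commutative Hopf algebra,
`R` a reduced finitely generated `k`-algebra with connected spectrum and a multiplicative coaction,
`θ ∈ R ⊗ A` with `r ↦ ρ(r)·θ` coassociative and counital.  Evaluating at `k`-points `(x, g)` gives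
the cocycle identity `T(x, gh) = T(x, g) T(x·g, h)`, `T(x, e) = 1` for `T(x, g) = θ(x, g)`, so `T`
never vanishes.

* If every unit of `R` is constant, `T(x, g)` does not depend on `x`, and `θ = 1 ⊗ χ` for
  `χ = θ(x₀, -)`, which is group-like by the cocycle identity.
* If every unit of `A` is a scalar multiple of a group-like element, each `θ(x, -)` is group-like;
  all of them lie in one finite-dimensional subspace of `A`, so (group-likes being linearly
  independent) only finitely many occur; the loci where a given one occurs are closed, pairwise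
  disjoint and cover, so by connectedness there is only one.
-/

set_option autoImplicit false
set_option linter.unusedSimpArgs false
set_option linter.unusedVariables false
set_option linter.style.haveILetI false
set_option linter.unusedSectionVars false

open TensorProduct
open Groth.Agent.Lib.UnitsFGH2 Groth.Agent.Lib.ComodDual_helper9

universe u

namespace Groth.Agent.Lib.LinTrivH1

section Idem

/-- (after helper3's `NorComplT2H3.idem_of_connectedSpace`) a ring with connected spectrum has only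
the trivial idempotents. -/
theorem idem_of_connectedSpace (R : Type*) [CommRing R] [ConnectedSpace (PrimeSpectrum R)]
    (e : R) (he : IsIdempotentElem e) : e = 0 ∨ e = 1 := by
  have key : ∀ e : R, IsIdempotentElem e → (PrimeSpectrum.basicOpen e : Set (PrimeSpectrum R)) = ∅ →
      e = 0 := by
    intro e he h
    have h1 : PrimeSpectrum.basicOpen e = ⊥ := by
      ext1
      simpa using h
    rw [PrimeSpectrum.basicOpen_eq_bot_iff] at h1
    obtain ⟨n, hn⟩ := h1
    rcases Nat.eq_zero_or_pos n with rfl | hpos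
    · rw [pow_zero] at hn
      rw [← mul_one e, hn, mul_zero]
    · obtain ⟨m, rfl⟩ := Nat.exists_eq_succ_of_ne_zero hpos.ne'
      rwa [he.pow_succ_eq] at hn
  have hclopen : IsClopen (PrimeSpectrum.basicOpen e : Set (PrimeSpectrum R)) :=
    PrimeSpectrum.isClopen_iff.mpr ⟨e, he, rfl⟩
  rcases isClopen_iff.mp hclopen with h | h
  · left; exact key e he h
  · right
    have h2 : (PrimeSpectrum.basicOpen (1 - e) : Set (PrimeSpectrum R)) = ∅ := by
      rw [← PrimeSpectrum.zeroLocus_eq_basicOpen_of_isIdempotentElem e he]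
      rw [PrimeSpectrum.basicOpen_eq_zeroLocus_compl] at h
      exact Set.compl_univ_iff.mp h
    have := key (1 - e) he.one_sub h2
    exact (sub_eq_zero.mp this).symm

variable {R : Type*} [CommRing R]

theorem eq_top_or_eq_top_of_sup_mul (hidem : ∀ e : R, IsIdempotentElem e → e = 0 ∨ e = 1)
    (I J : Ideal R) (hsup : I ⊔ J = ⊤) (hmul : I * J = ⊥) : I = ⊤ ∨ J = ⊤ := by
  obtain ⟨a, ha, b, hb, hab⟩ := Submodule.mem_sup.1 ((Ideal.eq_top_iff_one _).1 hsup)
  have h0 : a * b = 0 := by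
    have h1 := Ideal.mul_mem_mul ha hb
    rw [hmul] at h1
    exact (Submodule.mem_bot R).1 h1
  have hid : IsIdempotentElem a := by
    show a * a = a
    calc a * a = a * (a + b) - a * b := by ring
      _ = a := by rw [hab, h0, mul_one, sub_zero]
  rcases hidem a hid with h | h
  · right
    rw [h, zero_add] at hab
    rw [Ideal.eq_top_iff_one, ← hab]
    exact hb
  · left
    rw [Ideal.eq_top_iff_one, ← h]
    exact ha

theorem exists_eq_bot_of_prod_eq_bot [Nontrivial R]
    (hidem : ∀ e : R, IsIdempotentElem e → e = 0 ∨ e = 1)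
    {ι : Type*} [DecidableEq ι] (I : ι → Ideal R) (s : Finset ι)
    (hco : ∀ i ∈ s, ∀ j ∈ s, i ≠ j → I i ⊔ I j = ⊤) (hprod : ∏ i ∈ s, I i = ⊥) :
    ∃ i ∈ s, I i = ⊥ := by
  induction s using Finset.induction_on with
  | empty =>
    rw [Finset.prod_empty, Ideal.one_eq_top] at hprod
    exact absurd hprod top_ne_bot
  | insert a s ha ih =>
    rw [Finset.prod_insert ha] at hprod
    have hsup : I a ⊔ ∏ i ∈ s, I i = ⊤ :=
      Ideal.sup_prod_eq_top (fun j hj => hco a (Finset.mem_insert_self a s) j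
        (Finset.mem_insert_of_mem hj) (fun e => ha (by rw [e]; exact hj)))
    rcases eq_top_or_eq_top_of_sup_mul hidem _ _ hsup hprod with h1 | h1
    · rw [h1, Ideal.top_mul] at hprod
      obtain ⟨i, hi, hi0⟩ := ih (fun i hi j hj => hco i (Finset.mem_insert_of_mem hi) j
        (Finset.mem_insert_of_mem hj)) hprod
      exact ⟨i, Finset.mem_insert_of_mem hi, hi0⟩
    · rw [h1, Ideal.mul_top] at hprod
      exact ⟨a, Finset.mem_insert_self a s, hprod⟩

end Idem

section Pt

variable {k : Type*} [Field k]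
variable {B C : Type*} [CommRing B] [CommRing C] [Algebra k B] [Algebra k C]

/-- the `k`-point `(x, g)` of `B ⊗ C` -/
noncomputable def pt2 (x : B →ₐ[k] k) (g : C →ₐ[k] k) : B ⊗[k] C →ₐ[k] k :=
  Algebra.TensorProduct.lift x g (fun _ _ => Commute.all _ _)

@[simp] theorem pt2_tmul (x : B →ₐ[k] k) (g : C →ₐ[k] k) (b : B) (c : C) :
    pt2 x g (b ⊗ₜ[k] c) = x b * g c := by
  simp [pt2]

theorem apply_sliceR (x : B →ₐ[k] k) (g : C →ₐ[k] k) (z : B ⊗[k] C) :
    g (sliceR x z) = pt2 x g z := by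
  induction z using TensorProduct.induction_on with
  | zero => simp
  | tmul b c => rw [sliceR_tmul, map_smul, smul_eq_mul, pt2_tmul]
  | add z1 z2 h1 h2 => simp only [map_add, h1, h2]

theorem apply_sliceL (x : B →ₐ[k] k) (g : C →ₐ[k] k) (z : B ⊗[k] C) :
    x (sliceL g z) = pt2 x g z := by
  induction z using TensorProduct.induction_on with
  | zero => simp
  | tmul b c => rw [sliceL_tmul, map_smul, smul_eq_mul, pt2_tmul, mul_comm]
  | add z1 z2 h1 h2 => simp only [map_add, h1, h2]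

theorem apply_ev (x : B →ₐ[k] k) (φ : C →ₗ[k] k) (z : B ⊗[k] C) :
    x (ev B φ z) = φ (sliceR x z) := by
  induction z using TensorProduct.induction_on with
  | zero => simp
  | tmul b c =>
    rw [ev_tmul, map_smul, smul_eq_mul, sliceR_tmul, map_smul, smul_eq_mul, mul_comm]
  | add z1 z2 h1 h2 => simp only [map_add, h1, h2]

/-- all slices of a tensor lie in one finitely generated subspace -/
theorem exists_fg_slice (z : B ⊗[k] C) :
    ∃ W : Submodule k C, W.FG ∧ ∀ x : B →ₐ[k] k, sliceR x z ∈ W := by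
  induction z using TensorProduct.induction_on with
  | zero => exact ⟨⊥, Submodule.fg_bot, fun x => by rw [map_zero]; exact Submodule.zero_mem _⟩
  | tmul b c =>
    exact ⟨Submodule.span k {c}, Submodule.fg_span_singleton c, fun x => by
      rw [sliceR_tmul]
      exact Submodule.smul_mem _ _ (Submodule.subset_span rfl)⟩
  | add z1 z2 h1 h2 =>
    obtain ⟨W1, f1, m1⟩ := h1
    obtain ⟨W2, f2, m2⟩ := h2
    exact ⟨W1 ⊔ W2, f1.sup f2, fun x => by
      rw [map_add]
      exact Submodule.add_mem _ (Submodule.mem_sup_left (m1 x)) (Submodule.mem_sup_right (m2 x))⟩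

end Pt

section Null

variable {k : Type*} [Field k] [IsAlgClosed k]

/-- a proper ideal of a finite type algebra over an algebraically closed field has a zero -/
theorem exists_point_of_ne_top {B : Type*} [CommRing B] [Algebra k B] [Algebra.FiniteType k B]
    (I : Ideal B) (hI : I ≠ ⊤) : ∃ x : B →ₐ[k] k, ∀ b ∈ I, x b = 0 := by
  obtain ⟨n, hn, hIn⟩ := Ideal.exists_le_maximal I hI
  haveI := hn
  letI : Field (B ⧸ n) := Ideal.Quotient.field n
  haveI : Algebra.FiniteType k (B ⧸ n) :=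
    Algebra.FiniteType.of_surjective (Ideal.Quotient.mkₐ k n) (Ideal.Quotient.mkₐ_surjective k n)
  haveI : Module.Finite k (B ⧸ n) := finite_of_finite_type_of_isJacobsonRing k (B ⧸ n)
  haveI : Algebra.IsAlgebraic k (B ⧸ n) := Algebra.IsAlgebraic.of_finite k (B ⧸ n)
  let φ : (B ⧸ n) →ₐ[k] k := IsAlgClosed.lift
  refine ⟨φ.comp (Ideal.Quotient.mkₐ k n), fun b hb => ?_⟩
  have h1 : Ideal.Quotient.mkₐ k n b = 0 := by
    rw [Ideal.Quotient.mkₐ_eq_mk]
    exact Ideal.Quotient.eq_zero_iff_mem.2 (hIn hb)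
  rw [AlgHom.comp_apply, h1, map_zero]

theorem isUnit_of_forall_point_ne_zero {B : Type*} [CommRing B] [Algebra k B]
    [Algebra.FiniteType k B] (b : B) (h : ∀ x : B →ₐ[k] k, x b ≠ 0) : IsUnit b := by
  by_contra hb
  have hI : Ideal.span ({b} : Set B) ≠ ⊤ := fun h' => hb (Ideal.span_singleton_eq_top.1 h')
  obtain ⟨x, hx⟩ := exists_point_of_ne_top (k := k) _ hI
  exact h x (hx b (Ideal.mem_span_singleton_self b))

variable {B C : Type*} [CommRing B] [CommRing C] [Algebra k B] [Algebra k C]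

theorem eq_zero_of_forall_pt2 [IsReduced B] [Algebra.FiniteType k B] [IsReduced C]
    [Algebra.FiniteType k C] (z : B ⊗[k] C)
    (h : ∀ (x : B →ₐ[k] k) (g : C →ₐ[k] k), pt2 x g z = 0) : z = 0 := by
  apply eq_zero_of_forall_ev z
  intro φ
  by_contra hne
  obtain ⟨x, hx⟩ := exists_point_ne_zero (k := k) hne
  apply hx
  rw [apply_ev]
  have h0 : sliceR x z = 0 := by
    by_contra hne2
    obtain ⟨g, hg⟩ := exists_point_ne_zero (k := k) hne2
    exact hg (by rw [apply_sliceR]; exact h x g)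
  rw [h0, map_zero]

end Null

section Main

variable (k : Type u) [Field k] (A : Type u) [CommRing A] [HopfAlgebra k A]
  (R : Type u) [CommRing R] [Algebra k R] [HopfRep.Comod k A R] [GLin.IsCoactAlg k A R]

/-- the moved point `x·g` -/
noncomputable def mv (x : R →ₐ[k] k) (g : A →ₐ[k] k) : R →ₐ[k] k :=
  (pt2 x g).comp (GLin.coactAlgHom k A R)

/-- the product of two points of the group -/
noncomputable def conv (g h : A →ₐ[k] k) : A →ₐ[k] k :=
  (pt2 g h).comp (Bialgebra.comulAlgHom k A)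

/-- the twisted coaction `r ↦ ρ(r)·θ` -/
noncomputable abbrev tw (θ : R ⊗[k] A) : R →ₗ[k] R ⊗[k] A :=
  (LinearMap.mulRight k θ) ∘ₗ HopfRep.Comod.coact (k := k) (A := A) (V := R)

theorem tw_apply (θ : R ⊗[k] A) (r : R) :
    tw k A R θ r = GLin.coactAlgHom k A R r * θ := rfl

theorem tw_one (θ : R ⊗[k] A) : tw k A R θ 1 = θ := by
  rw [tw_apply, map_one, one_mul]

theorem L1 (x : R →ₐ[k] k) (g h : A →ₐ[k] k) (w : R ⊗[k] A) (a : A) :
    pt2 x (pt2 g h) (TensorProduct.assoc k R A A (w ⊗ₜ[k] a)) = pt2 x g w * h a := by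
  induction w using TensorProduct.induction_on with
  | zero => simp
  | tmul r a' => rw [TensorProduct.assoc_tmul, pt2_tmul, pt2_tmul, pt2_tmul, mul_assoc]
  | add w1 w2 h1 h2 => rw [TensorProduct.add_tmul, map_add, map_add, h1, h2, map_add, add_mul]

theorem L2 (θ : R ⊗[k] A) (x : R →ₐ[k] k) (g h : A →ₐ[k] k) (z : R ⊗[k] A) :
    pt2 x (pt2 g h) (TensorProduct.assoc k R A A ((tw k A R θ).rTensor A z)) =
      pt2 x g θ * pt2 (mv k A R x g) h z := by
  induction z using TensorProduct.induction_on with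
  | zero => simp
  | tmul r a =>
    rw [LinearMap.rTensor_tmul, L1, tw_apply, map_mul, pt2_tmul]
    show pt2 x g (GLin.coactAlgHom k A R r) * pt2 x g θ * h a =
      pt2 x g θ * (pt2 x g (GLin.coactAlgHom k A R r) * h a)
    ring
  | add z1 z2 h1 h2 => simp only [map_add, h1, h2, mul_add]

theorem L3 (x : R →ₐ[k] k) (g h : A →ₐ[k] k) (z : R ⊗[k] A) :
    pt2 x (pt2 g h) ((CoalgebraStruct.comul (R := k) (A := A)).lTensor R z) =
      pt2 x (conv k A g h) z := by
  induction z using TensorProduct.induction_on with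
  | zero => simp
  | tmul r a =>
    rw [LinearMap.lTensor_tmul, pt2_tmul, pt2_tmul]
    rfl
  | add z1 z2 h1 h2 => simp only [map_add, h1, h2]

theorem L4 (x : R →ₐ[k] k) (z : R ⊗[k] A) :
    pt2 x (AlgHom.id k k) ((CoalgebraStruct.counit (R := k) (A := A)).lTensor R z) =
      pt2 x (Bialgebra.counitAlgHom k A) z := by
  induction z using TensorProduct.induction_on with
  | zero => simp
  | tmul r a =>
    rw [LinearMap.lTensor_tmul, pt2_tmul, pt2_tmul]
    rfl
  | add z1 z2 h1 h2 => simp only [map_add, h1, h2]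

theorem cocycle (θ : R ⊗[k] A)
    (hassoc : (TensorProduct.assoc k R A A).toLinearMap ∘ₗ (tw k A R θ).rTensor A ∘ₗ tw k A R θ =
      (CoalgebraStruct.comul (R := k) (A := A)).lTensor R ∘ₗ tw k A R θ)
    (x : R →ₐ[k] k) (g h : A →ₐ[k] k) :
    pt2 x g θ * pt2 (mv k A R x g) h θ = pt2 x (conv k A g h) θ := by
  have h1 : TensorProduct.assoc k R A A ((tw k A R θ).rTensor A (tw k A R θ 1)) =
      (CoalgebraStruct.comul (R := k) (A := A)).lTensor R (tw k A R θ 1) :=
    LinearMap.congr_fun hassoc (1 : R)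
  rw [tw_one] at h1
  have h2 := congrArg (pt2 x (pt2 g h)) h1
  rw [L2, L3] at h2
  exact h2

theorem unitT (θ : R ⊗[k] A)
    (hcounit : (CoalgebraStruct.counit (R := k) (A := A)).lTensor R ∘ₗ tw k A R θ =
      (TensorProduct.mk k R k).flip 1)
    (x : R →ₐ[k] k) : pt2 x (Bialgebra.counitAlgHom k A) θ = 1 := by
  have h1 : (CoalgebraStruct.counit (R := k) (A := A)).lTensor R (tw k A R θ 1) =
      (1 : R) ⊗ₜ[k] (1 : k) := LinearMap.congr_fun hcounit (1 : R)
  rw [tw_one] at h1
  have h2 := congrArg (pt2 x (AlgHom.id k k)) h1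
  rw [L4, pt2_tmul, map_one, map_one, mul_one] at h2
  exact h2

theorem lmul'_map (g h : A →ₐ[k] k) (t : A ⊗[k] A) :
    Algebra.TensorProduct.lmul' k (Algebra.TensorProduct.map g h t) = pt2 g h t := by
  induction t using TensorProduct.induction_on with
  | zero => simp
  | tmul a b =>
    rw [Algebra.TensorProduct.map_tmul, Algebra.TensorProduct.lmul'_apply_tmul, pt2_tmul]
  | add s t hs ht => simp only [map_add, hs, ht]

theorem conv_eq (g h : WithConv (A →ₐ[k] k)) :
    (g * h).ofConv = conv k A g.ofConv h.ofConv := by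
  rw [AlgHom.convMul_def]
  apply AlgHom.ext
  intro a
  exact lmul'_map k A _ _ _

theorem one_ofConv : (1 : WithConv (A →ₐ[k] k)).ofConv = Bialgebra.counitAlgHom k A :=
  AlgHom.ext fun a => rfl

theorem exists_conv_inv (g : A →ₐ[k] k) :
    ∃ g' : A →ₐ[k] k, conv k A g g' = Bialgebra.counitAlgHom k A := by
  refine ⟨((WithConv.toConv g)⁻¹).ofConv, ?_⟩
  have h1 := conv_eq k A (WithConv.toConv g) (WithConv.toConv g)⁻¹
  rw [mul_inv_cancel, one_ofConv] at h1
  exact h1.symm

theorem T_ne_zero (θ : R ⊗[k] A)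
    (hassoc : (TensorProduct.assoc k R A A).toLinearMap ∘ₗ (tw k A R θ).rTensor A ∘ₗ tw k A R θ =
      (CoalgebraStruct.comul (R := k) (A := A)).lTensor R ∘ₗ tw k A R θ)
    (hcounit : (CoalgebraStruct.counit (R := k) (A := A)).lTensor R ∘ₗ tw k A R θ =
      (TensorProduct.mk k R k).flip 1)
    (x : R →ₐ[k] k) (g : A →ₐ[k] k) : pt2 x g θ ≠ 0 := by
  intro h0
  obtain ⟨g', hg'⟩ := exists_conv_inv k A g
  have h1 := cocycle k A R θ hassoc x g g'
  rw [h0, zero_mul, hg', unitT k A R θ hcounit x] at h1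
  exact zero_ne_one h1

/-- the ideal of coefficients of `θ - 1 ⊗ χ` -/
noncomputable def cI (θ : R ⊗[k] A) (χ : A) : Ideal R :=
  Ideal.span (Set.range fun φ : A →ₗ[k] k => ev R φ (θ - (1 : R) ⊗ₜ[k] χ))

theorem ev_mem_cI (θ : R ⊗[k] A) (χ : A) (φ : A →ₗ[k] k) :
    ev R φ (θ - (1 : R) ⊗ₜ[k] χ) ∈ cI k A R θ χ :=
  Ideal.subset_span ⟨φ, rfl⟩

theorem apply_eq_zero_of_mem_cI (θ : R ⊗[k] A) (x : R →ₐ[k] k) (r : R)
    (hr : r ∈ cI k A R θ (sliceR x θ)) : x r = 0 := by
  have hle : cI k A R θ (sliceR x θ) ≤ RingHom.ker x.toRingHom := by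
    apply Ideal.span_le.2
    rintro _ ⟨φ, rfl⟩
    show x (ev R φ (θ - (1 : R) ⊗ₜ[k] sliceR x θ)) = 0
    rw [apply_ev, map_sub, sliceR_tmul, map_one, one_smul, sub_self, map_zero]
  exact (RingHom.mem_ker).1 (hle hr)

theorem sliceR_eq_of_cI (θ : R ⊗[k] A) (x : R →ₐ[k] k) (χ : A)
    (hx : ∀ r ∈ cI k A R θ χ, x r = 0) : sliceR x θ = χ := by
  apply sub_eq_zero.1
  apply (Module.forall_dual_apply_eq_zero_iff k _).1
  intro φ
  have h1 : x (ev R φ (θ - (1 : R) ⊗ₜ[k] χ)) = 0 := hx _ (ev_mem_cI k A R θ χ φ)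
  rw [apply_ev, map_sub, sliceR_tmul, map_one, one_smul] at h1
  exact h1

theorem caseB [IsAlgClosed k] [IsReduced A] [Algebra.FiniteType k A] [IsReduced R]
    [Algebra.FiniteType k R] [Nontrivial R] (θ : R ⊗[k] A)
    (hassoc : (TensorProduct.assoc k R A A).toLinearMap ∘ₗ (tw k A R θ).rTensor A ∘ₗ tw k A R θ =
      (CoalgebraStruct.comul (R := k) (A := A)).lTensor R ∘ₗ tw k A R θ)
    (hcounit : (CoalgebraStruct.counit (R := k) (A := A)).lTensor R ∘ₗ tw k A R θ =
      (TensorProduct.mk k R k).flip 1)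
    (hb : ∀ u : Rˣ, (u : R) ∈ Set.range (algebraMap k R)) :
    ∃ χ : A, IsGroupLikeElem k χ ∧ θ = (1 : R) ⊗ₜ[k] χ := by
  have hc : ∀ g : A →ₐ[k] k, ∃ c : k, ∀ x : R →ₐ[k] k, pt2 x g θ = c := by
    intro g
    have hu : IsUnit (sliceL g θ) := isUnit_of_forall_point_ne_zero (k := k) _ (fun x => by
      rw [apply_sliceL]
      exact T_ne_zero k A R θ hassoc hcounit x g)
    obtain ⟨c, hc⟩ := hb hu.unit
    have e : sliceL g θ = algebraMap k R c := by
      rw [hc]
      exact hu.unit_spec.symm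
    refine ⟨c, fun x => ?_⟩
    rw [← apply_sliceL, e, AlgHom.commutes]
    rfl
  choose c hc using hc
  obtain ⟨x0, -⟩ := exists_point_ne_zero (k := k) (B := R) (b := (1 : R)) one_ne_zero
  obtain ⟨χ, hχdef⟩ : ∃ χ : A, χ = sliceR x0 θ := ⟨_, rfl⟩
  have hχ : ∀ g : A →ₐ[k] k, g χ = c g := fun g => by
    rw [hχdef, apply_sliceR]
    exact hc g x0
  refine ⟨χ, ⟨?_, ?_⟩, ?_⟩
  · have h1 := hχ (Bialgebra.counitAlgHom k A)
    rw [← hc _ x0, unitT k A R θ hcounit x0] at h1
    exact h1
  · apply sub_eq_zero.1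
    apply eq_zero_of_forall_pt2 (k := k)
    intro g h
    have h1 := cocycle k A R θ hassoc x0 g h
    rw [hc g x0, hc h (mv k A R x0 g), hc (conv k A g h) x0] at h1
    have h2 : pt2 g h (CoalgebraStruct.comul (R := k) χ) = c (conv k A g h) := hχ (conv k A g h)
    rw [map_sub, h2, pt2_tmul, hχ, hχ, h1, sub_self]
  · apply sub_eq_zero.1
    apply eq_zero_of_forall_pt2 (k := k)
    intro x g
    rw [map_sub, pt2_tmul, map_one, one_mul, hχ, hc g x, sub_self]

theorem caseA [IsAlgClosed k] [Algebra.FiniteType k A] [IsReduced R]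
    [Algebra.FiniteType k R] [Nontrivial R]
    (hidem : ∀ e : R, IsIdempotentElem e → e = 0 ∨ e = 1) (θ : R ⊗[k] A)
    (hassoc : (TensorProduct.assoc k R A A).toLinearMap ∘ₗ (tw k A R θ).rTensor A ∘ₗ tw k A R θ =
      (CoalgebraStruct.comul (R := k) (A := A)).lTensor R ∘ₗ tw k A R θ)
    (hcounit : (CoalgebraStruct.counit (R := k) (A := A)).lTensor R ∘ₗ tw k A R θ =
      (TensorProduct.mk k R k).flip 1)
    (ha : ∀ u : Aˣ, ∃ (c : k) (χ : A), IsGroupLikeElem k χ ∧ (u : A) = c • χ) :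
    ∃ χ : A, IsGroupLikeElem k χ ∧ θ = (1 : R) ⊗ₜ[k] χ := by
  classical
  have hgl : ∀ x : R →ₐ[k] k, IsGroupLikeElem k (sliceR x θ) := by
    intro x
    have hu : IsUnit (sliceR x θ) := isUnit_of_forall_point_ne_zero (k := k) _ (fun g => by
      rw [apply_sliceR]
      exact T_ne_zero k A R θ hassoc hcounit x g)
    obtain ⟨c, χ, hχ, e⟩ := ha hu.unit
    have e' : sliceR x θ = c • χ := hu.unit_spec.symm.trans e
    have h1 : (Bialgebra.counitAlgHom k A) (sliceR x θ) = 1 := by
      rw [apply_sliceR]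
      exact unitT k A R θ hcounit x
    rw [e', map_smul, smul_eq_mul] at h1
    have h2 : (Bialgebra.counitAlgHom k A) χ = 1 := hχ.counit_eq_one
    rw [h2, mul_one] at h1
    rw [e', h1, one_smul]
    exact hχ
  obtain ⟨W, hWfg, hW⟩ := exists_fg_slice (k := k) θ
  have hfin : {χ : A | IsGroupLikeElem k χ ∧ χ ∈ W}.Finite := by
    haveI : Module.Finite k W := Module.Finite.iff_fg.2 hWfg
    have hli : LinearIndepOn k id {χ : A | IsGroupLikeElem k χ ∧ χ ∈ W} :=
      (linearIndepOn_isGroupLikeElem (R := k) (A := A)).mono (fun a ha => ha.1)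
    have hli' : LinearIndependent k
        (fun a : {χ : A | IsGroupLikeElem k χ ∧ χ ∈ W} => (⟨a.1, a.2.2⟩ : W)) := by
      apply LinearIndependent.of_comp W.subtype
      exact hli
    exact Set.finite_coe_iff.1 hli'.finite_of_isNoetherian
  have hP3 : ∏ χ ∈ hfin.toFinset, cI k A R θ χ = ⊥ := by
    rw [eq_bot_iff]
    intro r hr
    rw [Submodule.mem_bot]
    by_contra hne
    obtain ⟨x, hx⟩ := exists_point_ne_zero (k := k) hne
    apply hx
    apply apply_eq_zero_of_mem_cI k A R θ x r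
    have hmem : sliceR x θ ∈ hfin.toFinset := hfin.mem_toFinset.2 ⟨hgl x, hW x⟩
    exact (Ideal.prod_le_inf.trans (Finset.inf_le hmem)) hr
  have hP4 : ∀ χ ∈ hfin.toFinset, ∀ χ' ∈ hfin.toFinset, χ ≠ χ' →
      cI k A R θ χ ⊔ cI k A R θ χ' = ⊤ := by
    intro χ _ χ' _ hne
    by_contra hsup
    obtain ⟨x, hx⟩ := exists_point_of_ne_top (k := k) _ hsup
    have e1 := sliceR_eq_of_cI k A R θ x χ (fun r hr => hx r (Ideal.mem_sup_left hr))
    have e2 := sliceR_eq_of_cI k A R θ x χ' (fun r hr => hx r (Ideal.mem_sup_right hr))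
    exact hne (e1.symm.trans e2)
  obtain ⟨χ, hχmem, hχ0⟩ :=
    exists_eq_bot_of_prod_eq_bot hidem (cI k A R θ) hfin.toFinset hP4 hP3
  have hχ := (hfin.mem_toFinset.1 hχmem).1
  refine ⟨χ, hχ, ?_⟩
  apply sub_eq_zero.1
  apply eq_zero_of_forall_ev
  intro φ
  have h1 := ev_mem_cI k A R θ χ φ
  rw [hχ0] at h1
  exact (Submodule.mem_bot R).1 h1

theorem main19411 [IsAlgClosed k] [CharZero k] [Algebra.FiniteType k A] [IsReduced R]
    [Algebra.FiniteType k R] [ConnectedSpace (PrimeSpectrum R)] (θ : R ⊗[k] A)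
    (hassoc : (TensorProduct.assoc k R A A).toLinearMap ∘ₗ (tw k A R θ).rTensor A ∘ₗ tw k A R θ =
      (CoalgebraStruct.comul (R := k) (A := A)).lTensor R ∘ₗ tw k A R θ)
    (hcounit : (CoalgebraStruct.counit (R := k) (A := A)).lTensor R ∘ₗ tw k A R θ =
      (TensorProduct.mk k R k).flip 1)
    (h : (∀ u : Aˣ, ∃ (c : k) (χ : A), IsGroupLikeElem k χ ∧ (u : A) = c • χ) ∨
      (∀ u : Rˣ, (u : R) ∈ Set.range (algebraMap k R))) :
    ∃ χ : A, IsGroupLikeElem k χ ∧ θ = (1 : R) ⊗ₜ[k] χ := by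
  haveI : IsReduced A := CartierRedH1.isReduced_charZero (k := k) (A := A)
  haveI : Nontrivial R := PrimeSpectrum.nonempty_iff_nontrivial.1 inferInstance
  rcases h with ha | hb
  · exact caseA k A R (idem_of_connectedSpace R) θ hassoc hcounit ha
  · exact caseB k A R θ hassoc hcounit hb

end Main

end Groth.Agent.Lib.LinTrivH1
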