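import Mathlib

/-!
# Irreducibility of `F(X₁ T, …, X_r T)` over `k(X)`  (helper3)
-/

universe u v

namespace Groth.Agent.Lib.LineSubstH3

variable {k : Type u} [Field k] {σ : Type v}

/-- the swap `k[X][T] ≃ k[T][X]` -/
noncomputable def Θ (k : Type u) [Field k] (σ : Type v) :
    Polynomial (MvPolynomial σ k) ≃ₐ[k] MvPolynomial σ (Polynomial k) :=
  (MvPolynomial.optionEquivLeft k σ).symm.trans (MvPolynomial.optionEquivRight k σ)

theorem Θ_C_X (i : σ) : Θ k σ (Polynomial.C (MvPolynomial.X i)) = MvPolynomial.X i := by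
  simp [Θ]

theorem Θ_C_C (a : k) :
    Θ k σ (Polynomial.C (MvPolynomial.C a)) = MvPolynomial.C (Polynomial.C a) := by
  simp [Θ]

theorem Θ_X : Θ k σ Polynomial.X = MvPolynomial.C Polynomial.X := by
  simp [Θ]

/-- `F(X T)` -/
noncomputable def Gof (F : MvPolynomial σ k) : Polynomial (MvPolynomial σ k) :=
  MvPolynomial.eval₂ (Polynomial.C.comp MvPolynomial.C)
    (fun j => Polynomial.C (MvPolynomial.X j) * Polynomial.X) F

theorem Θ_G (F : MvPolynomial σ k) : Θ k σ (Gof F) =
    MvPolynomial.eval₂ (MvPolynomial.C.comp Polynomial.C)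
      (fun j => MvPolynomial.X j * MvPolynomial.C Polynomial.X) F := by
  have : ((Θ k σ : Polynomial (MvPolynomial σ k) →+* MvPolynomial σ (Polynomial k)).comp
      (MvPolynomial.eval₂Hom (Polynomial.C.comp MvPolynomial.C)
        (fun j => Polynomial.C (MvPolynomial.X j) * Polynomial.X))) =
      MvPolynomial.eval₂Hom (MvPolynomial.C.comp Polynomial.C)
        (fun j => MvPolynomial.X j * MvPolynomial.C Polynomial.X) := by
    apply MvPolynomial.ringHom_ext
    · intro a
      simp [Θ_C_C]
    · intro i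
      simp [Θ_C_X, Θ_X]
  exact RingHom.congr_fun this F

theorem totalDegree_Θ_G (F : MvPolynomial σ k) :
    (Θ k σ (Gof F)).totalDegree ≤ F.totalDegree := by
  classical
  rw [Θ_G, MvPolynomial.eval₂_eq]
  apply MvPolynomial.totalDegree_finsetSum_le
  intro d hd
  refine (MvPolynomial.totalDegree_mul _ _).trans ?_
  have h1 : (((MvPolynomial.C.comp Polynomial.C) (MvPolynomial.coeff d F) :
      MvPolynomial σ (Polynomial k))).totalDegree = 0 := by
    simp
  rw [h1, zero_add]
  refine (MvPolynomial.totalDegree_finsetProd _ _).trans ?_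
  refine le_trans ?_ (MvPolynomial.le_totalDegree hd)
  rw [Finsupp.sum]
  apply Finset.sum_le_sum
  intro i _
  refine (MvPolynomial.totalDegree_pow _ _).trans ?_
  have h2 : ((MvPolynomial.X i * MvPolynomial.C Polynomial.X :
      MvPolynomial σ (Polynomial k))).totalDegree ≤ 1 := by
    refine (MvPolynomial.totalDegree_mul _ _).trans ?_
    rw [MvPolynomial.totalDegree_C, add_zero]
    exact (MvPolynomial.totalDegree_X i).le
  calc d i * _ ≤ d i * 1 := Nat.mul_le_mul_left _ h2
    _ = d i := mul_one _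

/-- specialization `T ↦ 1` -/
noncomputable def s₁ (k : Type u) [Field k] (σ : Type v) :
    MvPolynomial σ (Polynomial k) →+* MvPolynomial σ k :=
  MvPolynomial.map (Polynomial.evalRingHom 1)

theorem s₁_Θ (A : Polynomial (MvPolynomial σ k)) : s₁ k σ (Θ k σ A) = A.eval 1 := by
  have : ((s₁ k σ).comp (Θ k σ : Polynomial (MvPolynomial σ k) →+* MvPolynomial σ (Polynomial k))) =
      Polynomial.evalRingHom 1 := by
    apply Polynomial.ringHom_ext
    · intro p
      have h2 : (((s₁ k σ).comp
          (Θ k σ : Polynomial (MvPolynomial σ k) →+* MvPolynomial σ (Polynomial k))).comp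
          Polynomial.C) = (Polynomial.evalRingHom 1).comp Polynomial.C := by
        apply MvPolynomial.ringHom_ext
        · intro a
          simp [s₁, Θ_C_C]
        · intro i
          simp [s₁, Θ_C_X]
      exact RingHom.congr_fun h2 p
    · simp [s₁, Θ_X]
  exact RingHom.congr_fun this A

theorem Gof_eval_one (F : MvPolynomial σ k) : (Gof F).eval 1 = F := by
  have : ((Polynomial.evalRingHom (1 : MvPolynomial σ k)).comp
      (MvPolynomial.eval₂Hom (Polynomial.C.comp MvPolynomial.C)
        (fun j => Polynomial.C (MvPolynomial.X j) * Polynomial.X))) = RingHom.id _ := by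
    apply MvPolynomial.ringHom_ext
    · intro a
      simp
    · intro i
      simp
  exact RingHom.congr_fun this F

theorem Gof_eval_zero (F : MvPolynomial σ k) :
    (Gof F).eval 0 = MvPolynomial.C (MvPolynomial.eval (fun _ => (0 : k)) F) := by
  have : ((Polynomial.evalRingHom (0 : MvPolynomial σ k)).comp
      (MvPolynomial.eval₂Hom (Polynomial.C.comp MvPolynomial.C)
        (fun j => Polynomial.C (MvPolynomial.X j) * Polynomial.X))) =
      (MvPolynomial.C).comp (MvPolynomial.eval (fun _ => (0 : k))) := by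
    apply MvPolynomial.ringHom_ext
    · intro a
      simp
    · intro i
      simp
  exact RingHom.congr_fun this F

/-- specialization `X ↦ 0` -/
noncomputable def ε₀ (k : Type u) [Field k] (σ : Type v) :
    MvPolynomial σ (Polynomial k) →+* Polynomial k :=
  MvPolynomial.eval₂Hom (RingHom.id (Polynomial k)) (fun _ => 0)

theorem ε₀_Θ_G (F : MvPolynomial σ k) :
    ε₀ k σ (Θ k σ (Gof F)) = Polynomial.C (MvPolynomial.eval (fun _ => (0 : k)) F) := by
  rw [Θ_G]
  have : ((ε₀ k σ).comp (MvPolynomial.eval₂Hom (MvPolynomial.C.comp Polynomial.C)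
      (fun j => MvPolynomial.X j * MvPolynomial.C Polynomial.X))) =
      Polynomial.C.comp (MvPolynomial.eval (fun _ => (0 : k))) := by
    apply MvPolynomial.ringHom_ext
    · intro a
      simp [ε₀]
    · intro i
      simp [ε₀]
  exact RingHom.congr_fun this F

theorem totalDegree_eq_zero_of_isUnit (u : MvPolynomial σ k) (hu : IsUnit u) :
    u.totalDegree = 0 := by
  obtain ⟨v, hv⟩ := hu.exists_right_inv
  have hu0 : u ≠ 0 := by
    rintro rfl
    rw [zero_mul] at hv
    exact zero_ne_one hv
  have hv0 : v ≠ 0 := by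
    rintro rfl
    rw [mul_zero] at hv
    exact zero_ne_one hv
  have := MvPolynomial.totalDegree_mul_of_isDomain hu0 hv0
  rw [hv, MvPolynomial.totalDegree_one] at this
  omega

theorem key (F : MvPolynomial σ k) (hF0 : MvPolynomial.eval (fun _ => (0 : k)) F ≠ 0)
    (A B : Polynomial (MvPolynomial σ k)) (hAB : A * B = Gof F) (hA : IsUnit (A.eval 1)) :
    IsUnit A := by
  have hFne : F ≠ 0 := by
    rintro rfl
    exact hF0 (map_zero _)
  have hGne : Gof F ≠ 0 := by
    intro h
    have := Gof_eval_one F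
    rw [h, Polynomial.eval_zero] at this
    exact hFne this.symm
  have hA0 : A ≠ 0 := by
    rintro rfl
    rw [zero_mul] at hAB
    exact hGne hAB.symm
  have hB0 : B ≠ 0 := by
    rintro rfl
    rw [mul_zero] at hAB
    exact hGne hAB.symm
  have hΘinj : Function.Injective (Θ k σ) := (Θ k σ).injective
  have ha0 : Θ k σ A ≠ 0 := fun h => hA0 (hΘinj (h.trans (map_zero _).symm))
  have hb0 : Θ k σ B ≠ 0 := fun h => hB0 (hΘinj (h.trans (map_zero _).symm))
  have hmul : Θ k σ A * Θ k σ B = Θ k σ (Gof F) := by rw [← map_mul, hAB]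
  have hdeg := MvPolynomial.totalDegree_mul_of_isDomain ha0 hb0
  rw [hmul] at hdeg
  have hle := totalDegree_Θ_G F
  -- specialization
  have h1 : (A.eval 1) * (B.eval 1) = F := by
    rw [← Polynomial.eval_mul, hAB, Gof_eval_one]
  have hB1 : B.eval 1 ≠ 0 := by
    intro h
    rw [h, mul_zero] at h1
    exact hFne h1.symm
  have hdegF := MvPolynomial.totalDegree_mul_of_isDomain hA.ne_zero hB1
  rw [h1, totalDegree_eq_zero_of_isUnit _ hA, zero_add] at hdegF
  have hBle : (B.eval 1).totalDegree ≤ (Θ k σ B).totalDegree := by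
    rw [← s₁_Θ]
    exact Finset.sup_mono
      (MvPolynomial.support_map_subset (Polynomial.evalRingHom (1 : k)) (Θ k σ B))
  have hdA : (Θ k σ A).totalDegree = 0 := by omega
  rw [MvPolynomial.totalDegree_eq_zero_iff_eq_C] at hdA
  obtain ⟨p, hp⟩ : ∃ p, Θ k σ A = MvPolynomial.C p := ⟨_, hdA⟩
  have hε := congrArg (ε₀ k σ) hmul
  rw [map_mul, ε₀_Θ_G, hp] at hε
  have hεC : ε₀ k σ (MvPolynomial.C p) = p := by simp [ε₀]
  rw [hεC] at hε
  have hunit : IsUnit (Polynomial.C (MvPolynomial.eval (fun _ => (0 : k)) F)) :=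
    Polynomial.isUnit_C.2 (isUnit_iff_ne_zero.2 hF0)
  rw [← hε] at hunit
  have hp_unit : IsUnit p := isUnit_of_mul_isUnit_left hunit
  have : IsUnit (Θ k σ A) := by
    rw [hp]
    exact hp_unit.map (MvPolynomial.C : Polynomial k →+* MvPolynomial σ (Polynomial k))
  exact (isUnit_map_iff (Θ k σ) A).1 this

theorem irreducible_Gof (F : MvPolynomial σ k) (hF : Irreducible F)
    (hF0 : MvPolynomial.eval (fun _ => (0 : k)) F ≠ 0) : Irreducible (Gof F) := by
  refine ⟨?_, ?_⟩
  · intro h
    have := h.map (Polynomial.evalRingHom (1 : MvPolynomial σ k))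
    rw [Polynomial.coe_evalRingHom, Gof_eval_one] at this
    exact hF.not_isUnit this
  · intro A B hAB
    have h1 : F = (A.eval 1) * (B.eval 1) := by
      rw [← Polynomial.eval_mul, ← hAB, Gof_eval_one]
    rcases hF.isUnit_or_isUnit h1 with h | h
    · exact Or.inl (key F hF0 A B hAB.symm h)
    · exact Or.inr (key F hF0 B A (by rw [mul_comm]; exact hAB.symm) h)

theorem isPrimitive_Gof (F : MvPolynomial σ k)
    (hF0 : MvPolynomial.eval (fun _ => (0 : k)) F ≠ 0) : (Gof F).IsPrimitive := by
  rw [Polynomial.isPrimitive_iff_isUnit_of_C_dvd]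
  rintro r ⟨Q, hQ⟩
  have h := congrArg (Polynomial.eval 0) hQ
  rw [Gof_eval_zero, Polynomial.eval_mul, Polynomial.eval_C] at h
  have hunit : IsUnit (MvPolynomial.C (σ := σ) (MvPolynomial.eval (fun _ => (0 : k)) F)) :=
    (isUnit_iff_ne_zero.2 hF0).map MvPolynomial.C
  rw [h] at hunit
  exact isUnit_of_mul_isUnit_left hunit

theorem main (k : Type u) [Field k] (r : ℕ)
    (F : MvPolynomial (Fin r) k) (hF : Irreducible F)
    (hF0 : MvPolynomial.eval (fun _ => (0 : k)) F ≠ 0) :
    Irreducible ((MvPolynomial.eval₂ (Polynomial.C.comp MvPolynomial.C)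
        (fun j => Polynomial.C (MvPolynomial.X j) * Polynomial.X) F).map
      (algebraMap (MvPolynomial (Fin r) k) (FractionRing (MvPolynomial (Fin r) k)))) :=
  (isPrimitive_Gof F hF0).irreducible_iff_irreducible_map_fraction_map.1
    (irreducible_Gof F hF hF0)

end Groth.Agent.Lib.LineSubstH3
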