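import Mathlib
import Groth.Agent.Lib.QuasiReg_helper5

/-!
# Ideals generated by regular sequences are of linear type (helper5)

The kernel of `A[X₁..Xₙ] → A[T]`, `Xᵢ ↦ aᵢ T`, is generated by the `aᵢ Xⱼ - aⱼ Xᵢ` when `a` is a
weakly regular sequence.
-/

set_option autoImplicit false
universe u

namespace Groth.Agent.LinearType

open MvPolynomial RingTheory.Sequence Groth.Agent.QuasiReg

variable {A : Type u} [CommRing A]

/-- the ideal of "trivial" linear relations -/
noncomputable def L {σ : Type*} (a : σ → A) : Ideal (MvPolynomial σ A) :=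
  Ideal.span {q | ∃ i j : σ, q = C (a i) * X j - C (a j) * X i}

theorem gen_mem_L {σ : Type*} (a : σ → A) (i j : σ) : C (a i) * X j - C (a j) * X i ∈ L a :=
  Ideal.subset_span ⟨i, j, rfl⟩

theorem rename_mem_L {σ τ : Type*} (e : σ → τ) (f : τ → A) (q : MvPolynomial σ A)
    (hq : q ∈ L (f ∘ e)) : rename e q ∈ L f := by
  have h1 : (L (f ∘ e)).map (rename e : MvPolynomial σ A →ₐ[A] MvPolynomial τ A).toRingHom ≤ L f := by
    unfold L
    rw [Ideal.map_span, Ideal.span_le]
    rintro _ ⟨q, ⟨i, j, rfl⟩, rfl⟩
    have : (rename e : MvPolynomial σ A →ₐ[A] MvPolynomial τ A).toRingHom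
        (C ((f ∘ e) i) * X j - C ((f ∘ e) j) * X i) = C (f (e i)) * X (e j) - C (f (e j)) * X (e i) := by
      simp
    rw [this]
    exact Ideal.subset_span ⟨e i, e j, rfl⟩
  exact h1 (Ideal.mem_map_of_mem _ hq)

/-- `finSuccEquiv` of a polynomial not involving the first variable -/
theorem finSuccEquiv_rename_succ {r : ℕ} (q : MvPolynomial (Fin r) A) :
    finSuccEquiv A r (rename Fin.succ q) = Polynomial.C q := by
  have h : ((finSuccEquiv A r : MvPolynomial (Fin (r + 1)) A →ₐ[A] _).comp (rename Fin.succ)) =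
      (Polynomial.CAlgHom : MvPolynomial (Fin r) A →ₐ[A] Polynomial (MvPolynomial (Fin r) A)) := by
    apply MvPolynomial.algHom_ext
    intro i
    simp [finSuccEquiv_X_succ]
  exact congrArg (fun φ => φ q) h

theorem isHomogeneous_of_X_mul {σ : Type*} (i : σ) (H : MvPolynomial σ A) (d : ℕ)
    (h : (X i * H).IsHomogeneous (d + 1)) : H.IsHomogeneous d := by
  intro m hm
  have h1 : coeff (Finsupp.single i 1 + m) (X i * H) ≠ 0 := by rwa [coeff_X_mul]
  have h2 := h h1
  rw [map_add, Finsupp.weight_single] at h2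
  simp only [Pi.one_apply, smul_eq_mul, mul_one] at h2
  omega

/-- splitting off the first variable -/
theorem exists_split {r : ℕ} (d : ℕ) (P : MvPolynomial (Fin (r + 1)) A)
    (hP : P.IsHomogeneous (d + 1)) :
    ∃ (G₀ : MvPolynomial (Fin r) A) (H : MvPolynomial (Fin (r + 1)) A),
      G₀.IsHomogeneous (d + 1) ∧ H.IsHomogeneous d ∧ P = rename Fin.succ G₀ + X 0 * H := by
  set p := finSuccEquiv A r P with hp
  refine ⟨p.coeff 0, (finSuccEquiv A r).symm (Polynomial.divX p),
    hP.finSuccEquiv_coeff_isHomogeneous 0 (d + 1) (by omega), ?_, ?_⟩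
  · have hsplit : P = rename Fin.succ (p.coeff 0) +
        X 0 * (finSuccEquiv A r).symm (Polynomial.divX p) := by
      apply (finSuccEquiv A r).injective
      rw [map_add, map_mul, finSuccEquiv_rename_succ, finSuccEquiv_X_zero,
        AlgEquiv.apply_symm_apply, ← hp]
      conv_lhs => rw [← Polynomial.divX_mul_X_add p]
      ring
    apply isHomogeneous_of_X_mul 0
    have : X 0 * (finSuccEquiv A r).symm (Polynomial.divX p) =
        P - rename Fin.succ (p.coeff 0) := by
      rw [hsplit]; ring
    rw [this]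
    exact hP.sub (hP.finSuccEquiv_coeff_isHomogeneous 0 (d + 1) (by omega)).rename_isHomogeneous
  · apply (finSuccEquiv A r).injective
    rw [map_add, map_mul, finSuccEquiv_rename_succ, finSuccEquiv_X_zero,
      AlgEquiv.apply_symm_apply, ← hp]
    conv_lhs => rw [← Polynomial.divX_mul_X_add p]
    ring

/-- the induction step -/
theorem lt_cons {r : ℕ} (g : Fin r → A) (x : A)
    (hrees : ∀ (ν : ℕ) (ξ : A), x * ξ ∈ Ideal.span (Set.range g) ^ ν →
      ξ ∈ Ideal.span (Set.range g) ^ ν)
    (ih : ∀ (d : ℕ) (Q : MvPolynomial (Fin r) A), Q.IsHomogeneous d → eval g Q = 0 → Q ∈ L g) :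
    ∀ (d : ℕ) (P : MvPolynomial (Fin (r + 1)) A), P.IsHomogeneous d →
      eval (Fin.cons x g : Fin (r + 1) → A) P = 0 → P ∈ L (Fin.cons x g : Fin (r + 1) → A) := by
  set f : Fin (r + 1) → A := Fin.cons x g with hf
  have hfsucc : f ∘ Fin.succ = g := by
    ext i; simp [hf]
  intro d
  induction d with
  | zero =>
    intro P hP hev
    have h1 : P = C (P.coeff 0) :=
      totalDegree_eq_zero_iff_eq_C.1 ((totalDegree_zero_iff_isHomogeneous _).2 hP)
    rw [h1, eval_C] at hev
    rw [h1, hev, map_zero]
    exact Submodule.zero_mem _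
  | succ d ihd =>
    intro P hP hev
    obtain ⟨G₀, H, hG₀, hH, hsplit⟩ := exists_split d P hP
    have hevP : eval f P = eval g G₀ + x * eval f H := by
      rw [hsplit, map_add, map_mul, eval_rename, hfsucc, eval_X]
      simp [hf]
    have h1 : x * eval f H ∈ Ideal.span (Set.range g) ^ (d + 1) := by
      have : x * eval f H = - eval g G₀ := by
        rw [hev] at hevP
        linear_combination (-1 : A) * hevP
      rw [this]
      exact Submodule.neg_mem _ ((Ideal.mem_span_pow_iff_exists_isHomogeneous g _).2 ⟨G₀, hG₀, rfl⟩)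
    have h2 := hrees (d + 1) _ h1
    obtain ⟨Q, hQ, hQev⟩ := exists_decomp g d _ h2
    set H' : MvPolynomial (Fin (r + 1)) A := H - ∑ i, C (g i) * rename Fin.succ (Q i) with hH'
    have hH'hom : H'.IsHomogeneous d :=
      hH.sub (IsHomogeneous.sum _ _ _ fun i _ => ((hQ i).rename_isHomogeneous).C_mul (g i))
    have hH'ev : eval f H' = 0 := by
      rw [hH', map_sub, map_sum, hQev, sub_eq_zero]
      refine Finset.sum_congr rfl fun i _ => ?_
      rw [map_mul, eval_C, eval_rename, hfsucc]
    have hH'L : H' ∈ L f := ihd H' hH'hom hH'ev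
    set g₀ : MvPolynomial (Fin r) A := G₀ + C x * ∑ i, X i * Q i with hg₀
    have hg₀hom : g₀.IsHomogeneous (d + 1) := by
      refine hG₀.add (IsHomogeneous.C_mul (IsHomogeneous.sum _ _ _ fun i _ => ?_) x)
      have := (isHomogeneous_X A i).mul (hQ i)
      rwa [add_comm] at this
    have hg₀ev : eval g g₀ = 0 := by
      rw [hg₀, map_add, map_mul, eval_C, map_sum]
      have : ∑ i, eval g (X i * Q i) = eval f H := by
        rw [hQev]
        refine Finset.sum_congr rfl fun i _ => ?_
        rw [map_mul, eval_X]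
      rw [this, ← hevP, hev]
    have hg₀L : rename Fin.succ g₀ ∈ L f :=
      rename_mem_L Fin.succ f g₀ (by rw [hfsucc]; exact ih (d + 1) g₀ hg₀hom hg₀ev)
    have hP3 : P = rename Fin.succ g₀ + X 0 * H' +
        ∑ i : Fin r, (C (f i.succ) * X 0 - C (f 0) * X i.succ) * rename Fin.succ (Q i) := by
      rw [hsplit, hg₀, hH']
      simp only [map_add, map_mul, map_sum, rename_C, rename_X, mul_sub, Finset.mul_sum, sub_mul,
        Finset.sum_sub_distrib]
      have e1 : ∀ i : Fin r, f i.succ = g i := fun i => by simp [hf]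
      have e2 : f 0 = x := by simp [hf]
      simp only [e1, e2]
      have e3 : ∑ i : Fin r, C (g i) * X 0 * rename Fin.succ (Q i) =
          ∑ i : Fin r, X 0 * (C (g i) * rename Fin.succ (Q i)) :=
        Finset.sum_congr rfl fun i _ => by ring
      have e4 : ∑ i : Fin r, C x * X i.succ * rename Fin.succ (Q i) =
          ∑ i : Fin r, C x * (X i.succ * rename Fin.succ (Q i)) :=
        Finset.sum_congr rfl fun i _ => by ring
      rw [e3, e4]
      ring
    rw [hP3]
    refine Ideal.add_mem _ (Ideal.add_mem _ hg₀L (Ideal.mul_mem_left _ _ hH'L))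
      (Ideal.sum_mem _ fun i _ => Ideal.mul_mem_right _ _ (gen_mem_L f i.succ 0))

/-- invariance under reindexing -/
theorem lt_comp_equiv {σ τ : Type*} (e : σ ≃ τ) (f : τ → A)
    (h : ∀ (d : ℕ) (P : MvPolynomial τ A), P.IsHomogeneous d → eval f P = 0 → P ∈ L f) :
    ∀ (d : ℕ) (P : MvPolynomial σ A), P.IsHomogeneous d → eval (f ∘ e) P = 0 → P ∈ L (f ∘ e) := by
  intro d P hP hev
  have h1 : rename e P ∈ L f := h d (rename e P) hP.rename_isHomogeneous (by rwa [eval_rename])
  have h2 : rename e.symm (rename e P) ∈ L (f ∘ e) := by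
    apply rename_mem_L e.symm (f ∘ e)
    have : (f ∘ e) ∘ e.symm = f := by
      ext t; simp
    rw [this]
    exact h1
  rwa [rename_rename, Equiv.symm_comp_self, rename_id_apply] at h2

/-- **Linear type**: homogeneous polynomials vanishing at a weakly regular sequence lie in `L`. -/
theorem mem_L_of_isWeaklyRegular : ∀ (n : ℕ) (a : Fin n → A),
    IsWeaklyRegular A (List.ofFn a) →
    ∀ (d : ℕ) (P : MvPolynomial (Fin n) A), P.IsHomogeneous d → eval a P = 0 → P ∈ L a := by
  intro n
  induction n with
  | zero =>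
    intro a _ d P _ hev
    have hP0 : P = C (P.coeff 0) := by
      ext m
      have hm : m = 0 := Subsingleton.elim _ _
      subst hm
      simp
    rw [hP0, eval_C] at hev
    rw [hP0, hev, map_zero]
    exact Submodule.zero_mem _
  | succ c ih =>
    intro f hf
    have hf0 := hf
    rw [List.ofFn_succ', List.concat_eq_append, isWeaklyRegular_append_iff,
      isWeaklyRegular_singleton_iff] at hf
    obtain ⟨hf', hlast⟩ := hf
    set g : Fin c → A := fun i => f i.castSucc with hg
    set x : A := f (Fin.last c) with hx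
    have hqg : QR g := qr_of_isWeaklyRegular c g hf'
    have hofList : Ideal.ofList (List.ofFn g) = Ideal.span (Set.range g) := by
      unfold Ideal.ofList
      congr 1
      ext a
      simp [List.mem_ofFn']
    have hxreg : ∀ ξ, x * ξ ∈ Ideal.span (Set.range g) → ξ ∈ Ideal.span (Set.range g) := by
      intro ξ hξ
      rw [isSMulRegular_iff_right_eq_zero_of_smul] at hlast
      have h1 := hlast (Submodule.Quotient.mk ξ) (by
        rw [← Submodule.Quotient.mk_smul, Submodule.Quotient.mk_eq_zero, hofList, smul_eq_mul,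
          Ideal.mul_top]
        exact hξ)
      rw [Submodule.Quotient.mk_eq_zero, hofList, smul_eq_mul, Ideal.mul_top] at h1
      exact h1
    have hcons := lt_cons g x (hqg.mem_pow_of_mul_mem x hxreg) (ih g hf')
    have hcomp : f = (Fin.cons x g : Fin (c + 1) → A) ∘ (finRotate (c + 1)) := by
      ext i
      induction i using Fin.lastCases with
      | last => simp [hx]
      | cast i => simp [hg]
    rw [hcomp]
    exact lt_comp_equiv (finRotate (c + 1)) _ hcons

section kernel

variable {n : ℕ} (a : Fin n → A)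

/-- the Rees map `Xᵢ ↦ aᵢ T` -/
noncomputable abbrev reesMap : MvPolynomial (Fin n) A →ₐ[A] Polynomial A :=
  aeval (R := A) (fun i : Fin n => Polynomial.C (a i) * (Polynomial.X : Polynomial A))

theorem reesMap_monomial (m : Fin n →₀ ℕ) (c : A) :
    reesMap a (monomial m c) =
      Polynomial.C (c * m.prod fun i k => a i ^ k) * Polynomial.X ^ m.degree := by
  rw [reesMap, aeval_monomial, Finsupp.degree_apply]
  simp only [Finsupp.prod, mul_pow, Finset.prod_mul_distrib, Finset.prod_pow_eq_pow_sum]
  rw [Polynomial.algebraMap_eq, map_mul, map_prod]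
  simp only [map_pow]
  ring

theorem reesMap_of_isHomogeneous (d : ℕ) (P : MvPolynomial (Fin n) A) (hP : P.IsHomogeneous d) :
    reesMap a P = Polynomial.C (eval a P) * Polynomial.X ^ d := by
  conv_lhs => rw [P.as_sum]
  conv_rhs => rw [P.as_sum]
  rw [map_sum, map_sum, map_sum, Finset.sum_mul]
  refine Finset.sum_congr rfl fun m hm => ?_
  rw [reesMap_monomial, eval_monomial]
  have hdeg : m.degree = d := by
    rw [Finsupp.degree_apply]
    exact (hP.degree_eq_sum_deg_support hm).symm
  rw [hdeg]

theorem L_le_ker : L a ≤ RingHom.ker (reesMap a) := by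
  unfold L
  rw [Ideal.span_le]
  rintro _ ⟨i, j, rfl⟩
  rw [SetLike.mem_coe, RingHom.mem_ker, reesMap]
  simp only [map_sub, map_mul, aeval_C, aeval_X, Polynomial.algebraMap_eq]
  ring

/-- S608 -/
theorem ker_reesMap (ha : IsWeaklyRegular A (List.ofFn a)) :
    RingHom.ker (reesMap a) = L a := by
  apply le_antisymm _ (L_le_ker a)
  intro P hP
  rw [RingHom.mem_ker] at hP
  have hsum : reesMap a P = ∑ d ∈ Finset.range (P.totalDegree + 1),
      Polynomial.C (eval a (homogeneousComponent d P)) * Polynomial.X ^ d := by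
    conv_lhs => rw [← sum_homogeneousComponent P]
    rw [map_sum]
    refine Finset.sum_congr rfl fun d _ => ?_
    exact reesMap_of_isHomogeneous a d _ (homogeneousComponent_isHomogeneous d P)
  have hzero : ∀ k ∈ Finset.range (P.totalDegree + 1), eval a (homogeneousComponent k P) = 0 := by
    intro k hk
    have h1 := congrArg (fun q => Polynomial.coeff q k) hsum
    simp only [hP, Polynomial.coeff_zero, Polynomial.finset_sum_coeff,
      Polynomial.coeff_C_mul_X_pow] at h1
    rw [Finset.sum_ite_eq (Finset.range (P.totalDegree + 1)) k, if_pos hk] at h1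
    exact h1.symm
  rw [← sum_homogeneousComponent P]
  refine Ideal.sum_mem _ fun d hd => ?_
  exact mem_L_of_isWeaklyRegular n a ha d _ (homogeneousComponent_isHomogeneous d P) (hzero d hd)

end kernel

section blowup

variable {n : ℕ} (a : Fin (n + 1) → A)

/-- the ideal `(a₀ Tᵢ - aᵢ)` -/
noncomputable def I : Ideal (MvPolynomial (Fin n) A) :=
  Ideal.span (Set.range fun i : Fin n => C (a 0) * X i - C (a i.succ))

/-- dehomogenization `X₀ ↦ 1`, `X_{i+1} ↦ Tᵢ` -/
noncomputable abbrev dehom : MvPolynomial (Fin (n + 1)) A →ₐ[A] MvPolynomial (Fin n) A :=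
  aeval (R := A) (Fin.cons 1 X : Fin (n + 1) → MvPolynomial (Fin n) A)

theorem dehom_monomial (k : ℕ) (m : Fin n →₀ ℕ) (c : A) :
    dehom (n := n) (monomial (Finsupp.cons k m) c) = monomial m c := by
  rw [dehom, aeval_monomial, monomial_eq, Finsupp.prod_fintype _ _ (fun i => pow_zero _),
    Finsupp.prod_fintype _ _ (fun i => pow_zero _), Fin.prod_univ_succ]
  simp [Finsupp.cons_zero, Finsupp.cons_succ]

theorem degree_cons (k : ℕ) (m : Fin n →₀ ℕ) : (Finsupp.cons k m).degree = k + m.degree := by
  rw [Finsupp.degree_eq_sum, Finsupp.degree_eq_sum, Fin.sum_univ_succ]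
  simp [Finsupp.cons_zero, Finsupp.cons_succ]

theorem dehom_L_le : (L a).map (dehom (n := n)).toRingHom ≤ I a := by
  unfold L
  rw [Ideal.map_span, Ideal.span_le]
  rintro _ ⟨_, ⟨i, j, rfl⟩, rfl⟩
  have hgen : ∀ k : Fin n, C (a 0) * X k - C (a k.succ) ∈ I a := fun k =>
    Ideal.subset_span ⟨k, rfl⟩
  rw [SetLike.mem_coe]
  induction i using Fin.cases with
  | zero =>
    induction j using Fin.cases with
    | zero => simp
    | succ j =>
      have : (dehom (n := n)).toRingHom (C (a 0) * X j.succ - C (a j.succ) * X 0) =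
          C (a 0) * X j - C (a j.succ) := by
        simp [dehom]
      rw [this]; exact hgen j
  | succ i =>
    induction j using Fin.cases with
    | zero =>
      have : (dehom (n := n)).toRingHom (C (a i.succ) * X 0 - C (a 0) * X i.succ) =
          -(C (a 0) * X i - C (a i.succ)) := by
        simp [dehom]
      rw [this]; exact Submodule.neg_mem _ (hgen i)
    | succ j =>
      have : (dehom (n := n)).toRingHom (C (a i.succ) * X j.succ - C (a j.succ) * X i.succ) =
          X i * (C (a 0) * X j - C (a j.succ)) - X j * (C (a 0) * X i - C (a i.succ)) := by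
        simp only [dehom, AlgHom.toRingHom_eq_coe, RingHom.coe_coe, map_sub, map_mul, aeval_C,
          aeval_X, Fin.cons_succ, algebraMap_eq]
        ring
      rw [this]
      exact Ideal.sub_mem _ (Ideal.mul_mem_left _ _ (hgen j)) (Ideal.mul_mem_left _ _ (hgen i))

/-- the blow-up chart map `Tᵢ ↦ aᵢ / a₀` -/
noncomputable abbrev chartMap : MvPolynomial (Fin n) A →ₐ[A] Localization.Away (a 0) :=
  aeval (R := A) (S₁ := Localization.Away (a 0))
    (fun i : Fin n => IsLocalization.mk' (Localization.Away (a 0)) (a i.succ)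
      (⟨a 0, Submonoid.mem_powers (a 0)⟩ : Submonoid.powers (a 0)))

theorem I_le_ker : I a ≤ RingHom.ker (chartMap a) := by
  unfold I
  rw [Ideal.span_le]
  rintro _ ⟨i, rfl⟩
  rw [SetLike.mem_coe, RingHom.mem_ker, chartMap]
  simp only [map_sub, map_mul, aeval_C, aeval_X]
  rw [IsLocalization.mk'_spec'_mk, sub_self]

/-- the homogenization of `P` in degree `d` -/
noncomputable def hom (d : ℕ) (P : MvPolynomial (Fin n) A) : MvPolynomial (Fin (n + 1)) A :=
  ∑ m ∈ P.support, monomial (Finsupp.cons (d - m.degree) m) (P.coeff m)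

theorem dehom_hom (d : ℕ) (P : MvPolynomial (Fin n) A) : dehom (hom d P) = P := by
  rw [hom, map_sum]
  simp only [dehom_monomial]
  exact P.support_sum_monomial_coeff

theorem degree_le_totalDegree (P : MvPolynomial (Fin n) A) (m : Fin n →₀ ℕ) (hm : m ∈ P.support) :
    m.degree ≤ P.totalDegree := by
  have := le_totalDegree hm
  rwa [Finsupp.degree_apply]

theorem hom_isHomogeneous (P : MvPolynomial (Fin n) A) :
    (hom P.totalDegree P).IsHomogeneous P.totalDegree := by
  rw [hom]
  refine IsHomogeneous.sum _ _ _ fun m hm => isHomogeneous_monomial _ ?_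
  rw [degree_cons]
  have := degree_le_totalDegree P m hm
  omega

theorem algebraMap_eval_hom (P : MvPolynomial (Fin n) A) :
    algebraMap A (Localization.Away (a 0)) (eval a (hom P.totalDegree P)) =
      algebraMap A (Localization.Away (a 0)) (a 0) ^ P.totalDegree * chartMap a P := by
  set al := algebraMap A (Localization.Away (a 0)) with hal
  obtain ⟨D, hD⟩ : ∃ D, D = P.totalDegree := ⟨_, rfl⟩
  rw [← hD]
  have hchart : chartMap a P = ∑ m ∈ P.support, chartMap a (monomial m (P.coeff m)) := by
    conv_lhs => rw [P.as_sum]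
    rw [map_sum]
  rw [hchart, hom, map_sum, map_sum, Finset.mul_sum]
  refine Finset.sum_congr rfl fun m hm => ?_
  have hle : m.degree ≤ D := hD ▸ degree_le_totalDegree P m hm
  rw [eval_monomial, chartMap, aeval_monomial, Finsupp.prod_fintype _ _ (fun i => pow_zero _),
    Finsupp.prod_fintype _ _ (fun i => pow_zero _), Fin.prod_univ_succ]
  simp only [Finsupp.cons_zero, Finsupp.cons_succ, map_mul, map_pow, map_prod]
  have hspec : ∀ i : Fin n, al (a i.succ) = al (a 0) *
      IsLocalization.mk' (Localization.Away (a 0)) (a i.succ)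
        (⟨a 0, Submonoid.mem_powers (a 0)⟩ : Submonoid.powers (a 0)) := fun i =>
    (IsLocalization.mk'_spec'_mk _ _ _ _).symm
  have hprod : ∏ i : Fin n, al (a i.succ) ^ m i = al (a 0) ^ m.degree *
      ∏ i : Fin n, IsLocalization.mk' (Localization.Away (a 0)) (a i.succ)
        (⟨a 0, Submonoid.mem_powers (a 0)⟩ : Submonoid.powers (a 0)) ^ m i := by
    rw [Finsupp.degree_eq_sum, ← Finset.prod_pow_eq_pow_sum, ← Finset.prod_mul_distrib]
    refine Finset.prod_congr rfl fun i _ => ?_
    rw [← mul_pow, ← hspec]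
  rw [hprod]
  have hpow : al (a 0) ^ D = al (a 0) ^ (D - m.degree) * al (a 0) ^ m.degree := by
    rw [← pow_add, Nat.sub_add_cancel hle]
  rw [hpow]
  ring

/-- S615 -/
theorem ker_chartMap (ha : IsWeaklyRegular A (List.ofFn a)) :
    RingHom.ker (chartMap a) = I a := by
  apply le_antisymm _ (I_le_ker a)
  intro P hP
  rw [RingHom.mem_ker] at hP
  have h0 : IsSMulRegular A (a 0) := by
    rw [List.ofFn_succ, isWeaklyRegular_cons_iff] at ha
    exact ha.1
  have h1 : algebraMap A (Localization.Away (a 0)) (eval a (hom P.totalDegree P)) = 0 := by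
    rw [algebraMap_eval_hom, hP, mul_zero]
  rw [IsLocalization.map_eq_zero_iff (Submonoid.powers (a 0))] at h1
  obtain ⟨⟨_, N, rfl⟩, hN⟩ := h1
  have h2 : eval a (hom P.totalDegree P) = 0 := by
    have hreg : IsSMulRegular A (a 0 ^ N) := h0.pow N
    exact hreg (by simpa using hN)
  have h3 := mem_L_of_isWeaklyRegular (n + 1) a ha _ _ (hom_isHomogeneous P) h2
  have h4 := dehom_L_le a (Ideal.mem_map_of_mem _ h3)
  have h5 : (dehom (n := n)).toRingHom (hom P.totalDegree P) = P := dehom_hom _ P
  rwa [h5] at h4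

end blowup

end Groth.Agent.LinearType
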