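import Mathlib
import Groth.Prelude

set_option autoImplicit false
set_option linter.style.haveILetI false
set_option linter.unusedVariables false

universe u v

open TensorProduct

namespace Groth.Agent.Lib.LinkedGrH4

section Abstract

variable {k : Type u} [Field k] {W : Type v} [AddCommGroup W] [Module k W] [FiniteDimensional k W]

theorem finrank_map_add (F : W →ₗ[k] W) (V : Submodule k W) :
    Module.finrank k ↥(V.map F) + Module.finrank k ↥(LinearMap.ker F ⊓ V) =
      Module.finrank k ↥V := by
  have h := LinearMap.finrank_range_add_finrank_ker (F.domRestrict V)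
  rw [LinearMap.range_domRestrict] at h
  have hk : Module.finrank k ↥(LinearMap.ker (F.domRestrict V)) =
      Module.finrank k ↥(LinearMap.ker F ⊓ V) := by
    rw [← Submodule.finrank_map_subtype_eq V (LinearMap.ker (F.domRestrict V)),
      LinearMap.ker_domRestrict, Submodule.map_comap_subtype, inf_comm]
  rw [hk] at h
  exact h

theorem range_eq_ker (F G : W →ₗ[k] W) (hFG : F.comp G = 0)
    (hrk : Module.finrank k W ≤
      Module.finrank k ↥(LinearMap.range F) + Module.finrank k ↥(LinearMap.range G)) :
    LinearMap.range G = LinearMap.ker F := by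
  have hle : LinearMap.range G ≤ LinearMap.ker F := by
    rintro _ ⟨x, rfl⟩
    exact LinearMap.congr_fun hFG x
  have h1 := LinearMap.finrank_range_add_finrank_ker F
  exact Submodule.eq_of_le_of_finrank_le hle (by omega)

theorem exact_iff (F G : W →ₗ[k] W) (hFG : F.comp G = 0) (hGF : G.comp F = 0)
    (hrk : Module.finrank k W ≤
      Module.finrank k ↥(LinearMap.range F) + Module.finrank k ↥(LinearMap.range G))
    (V V' : Submodule k W) (r : ℕ) (hV : Module.finrank k ↥V = r)
    (hV' : Module.finrank k ↥V' = r)
    (hF : V.map F ≤ V') (hG : V'.map G ≤ V) :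
    (LinearMap.ker G ⊓ V' ≤ V.map F ∧ LinearMap.ker F ⊓ V ≤ V'.map G) ↔
      Module.finrank k ↥(V.map F) + Module.finrank k ↥(V'.map G) = r := by
  have hGk : LinearMap.range G = LinearMap.ker F := range_eq_ker F G hFG hrk
  have hFk : LinearMap.range F = LinearMap.ker G := range_eq_ker G F hGF (by omega)
  have h1 : V'.map G ≤ LinearMap.ker F ⊓ V :=
    le_inf (by rw [← hGk]; exact LinearMap.map_le_range) hG
  have h2 : V.map F ≤ LinearMap.ker G ⊓ V' :=
    le_inf (by rw [← hFk]; exact LinearMap.map_le_range) hF
  have h3 := finrank_map_add F V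
  have h4 := finrank_map_add G V'
  constructor
  · rintro ⟨ha, hb⟩
    have e1 : V'.map G = LinearMap.ker F ⊓ V := le_antisymm h1 hb
    rw [e1]
    omega
  · intro hsum
    constructor
    · have e2 : V.map F = LinearMap.ker G ⊓ V' :=
        Submodule.eq_of_le_of_finrank_le h2 (by omega)
      rw [e2]
    · have e1 : V'.map G = LinearMap.ker F ⊓ V :=
        Submodule.eq_of_le_of_finrank_le h1 (by omega)
      rw [e1]

end Abstract

section Concrete

variable (k : Type u) [Field k] (d : ℕ)

theorem bc_conj (f : (Fin d → k) →ₗ[k] (Fin d → k)) (t : k ⊗[k] (Fin d → k)) :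
    TensorProduct.lid k (Fin d → k) (f.baseChange k t) =
      f (TensorProduct.lid k (Fin d → k) t) := by
  induction t using TensorProduct.induction_on with
  | zero => simp
  | tmul a x =>
      rw [LinearMap.baseChange_tmul, TensorProduct.lid_tmul, TensorProduct.lid_tmul, map_smul]
  | add x y hx hy => rw [map_add, map_add, hx, hy, map_add, map_add]

theorem finrank_range_bc (f : (Fin d → k) →ₗ[k] (Fin d → k)) :
    Module.finrank k ↥(LinearMap.range (f.baseChange k)) =
      Module.finrank k ↥(LinearMap.range f) := by
  have hcomp : (TensorProduct.lid k (Fin d → k)).toLinearMap ∘ₗ (f.baseChange k) =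
      f ∘ₗ (TensorProduct.lid k (Fin d → k)).toLinearMap :=
    LinearMap.ext fun t => bc_conj k d f t
  have h1 : (LinearMap.range (f.baseChange k)).map
      (TensorProduct.lid k (Fin d → k)).toLinearMap = LinearMap.range f := by
    rw [← LinearMap.range_comp, hcomp,
      LinearMap.range_comp_of_range_eq_top f (LinearEquiv.range _)]
  rw [← h1]
  exact (LinearEquiv.finrank_map_eq (TensorProduct.lid k (Fin d → k)) _).symm

theorem finrank_W : Module.finrank k (k ⊗[k] (Fin d → k)) = d :=
  (TensorProduct.lid k (Fin d → k)).finrank_eq.trans (Module.finrank_fin_fun k)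

theorem finrank_grass (r : ℕ) (hrd : r < d)
    (V : Module.Grassmannian k (k ⊗[k] (Fin d → k)) (d - r)) :
    Module.finrank k ↥V.toSubmodule = r := by
  have hq : Module.finrank k ((k ⊗[k] (Fin d → k)) ⧸ V.toSubmodule) = d - r := by
    have h := V.rankAtStalk_eq ⟨⊥, Ideal.bot_prime⟩
    rw [Module.rankAtStalk_eq_finrank_of_free] at h
    simpa using h
  have h2 := Submodule.finrank_quotient_add_finrank V.toSubmodule
  have h3 := finrank_W k d
  omega

end Concrete

theorem main (k : Type u) [Field k]
    (d r n : ℕ) (hr : 0 < r) (hrd : r < d) (f g : Fin n → ((Fin d → k) →ₗ[k] (Fin d → k)))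
    (hI : ∀ i, (f i).comp (g i) = 0 ∧ (g i).comp (f i) = 0)
    (hII : ∀ i, d ≤ Module.finrank k (LinearMap.range (f i)) +
      Module.finrank k (LinearMap.range (g i)))
    (V : Fin (n + 1) → Module.Grassmannian k (k ⊗[k] (Fin d → k)) (d - r))
    (hV : V ∈ W4c1limliniiii.LGPoints k d r n f g k) :
    W4c1limliniiii.IsExact k d r n f g k V ↔
      ∀ i : Fin n,
        Module.finrank k ↥(Submodule.map ((f i).baseChange k) (V i.castSucc).toSubmodule) +
          Module.finrank k ↥(Submodule.map ((g i).baseChange k) (V i.succ).toSubmodule) = r := by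
  unfold W4c1limliniiii.IsExact
  refine forall_congr' fun i => ?_
  have hFG : ((f i).baseChange k).comp ((g i).baseChange k) = 0 := by
    rw [← LinearMap.baseChange_comp, (hI i).1, LinearMap.baseChange_zero]
  have hGF : ((g i).baseChange k).comp ((f i).baseChange k) = 0 := by
    rw [← LinearMap.baseChange_comp, (hI i).2, LinearMap.baseChange_zero]
  have hrk : Module.finrank k (k ⊗[k] (Fin d → k)) ≤
      Module.finrank k ↥(LinearMap.range ((f i).baseChange k)) +
        Module.finrank k ↥(LinearMap.range ((g i).baseChange k)) := by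
    rw [finrank_range_bc, finrank_range_bc, finrank_W]
    exact hII i
  exact exact_iff _ _ hFG hGF hrk (V i.castSucc).toSubmodule (V i.succ).toSubmodule r
    (finrank_grass k d r hrd _) (finrank_grass k d r hrd _) (hV i).1 (hV i).2

end Groth.Agent.Lib.LinkedGrH4
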