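import Mathlib
import Groth.Prelude
import Groth.Agent.Lib.RectDepth_helper8
import Groth.Agent.Lib.DepthRingChange_helper5
import Groth.Agent.Lib.Depth_helper5

set_option autoImplicit false
universe u

open CategoryTheory IsLocalRing

namespace LocABH8

variable {R O : Type u} [CommRing R] [CommRing O] [IsLocalRing O]
  (ρ : R →+* O) {M N : Type u} [AddCommGroup M] [Module R M] [AddCommGroup N] [Module O N]
  (γ : M →+ N)

/-- The prime of `R` lying under the maximal ideal of `O`. -/
abbrev qOf : Ideal R := (maximalIdeal O).comap ρ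

instance : (qOf ρ).IsPrime := Ideal.comap_isPrime _ _

theorem isUnit_of_notMem {s : R} (hs : s ∉ qOf ρ) : IsUnit (ρ s) := by
  by_contra h
  exact hs ((mem_maximalIdeal _).mpr h)

/-- Auslander–Buchsbaum for a module `N` over a local ring `O` that is the localization of a finite
module `M` over a regular ring `R` mapping to `O`. -/
theorem main [IsRegularRing R] [IsNoetherianRing O] [Module.Finite R M] [Nontrivial N]
    (hγ : ∀ (r : R) (m : M), γ (r • m) = ρ r • γ m)
    (ha : ∀ z : N, ∃ (s : R) (m : M), s ∉ qOf ρ ∧ ρ s • z = γ m)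
    (hb : ∀ m : M, γ m = 0 → ∃ s : R, s ∉ qOf ρ ∧ s • m = 0) :
    ∃ e d' : ℕ,
      projectiveDimension (ModuleCat.of (Localization.AtPrime (qOf ρ))
        (LocalizedModule (qOf ρ).primeCompl M)) = (e : WithBot ℕ∞) ∧
      LocCoh.depth O N = (d' : ℕ∞) ∧ (qOf ρ).height = ((e + d' : ℕ) : ℕ∞) := by
  set q := qOf ρ with hq
  letI algRO : Algebra R O := ρ.toAlgebra
  letI modR : Module R N := Module.compHom N ρ
  haveI : IsScalarTower R O N := IsScalarTower.of_algebraMap_smul (fun _ _ => rfl)
  let γl : M →ₗ[R] N :=
    { toFun := γ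
      map_add' := fun a b => map_add γ a b
      map_smul' := fun r m => hγ r m }
  haveI : IsLocalizedModule q.primeCompl γl := by
    refine ⟨?_, ?_, ?_⟩
    · intro s
      rw [Module.End.isUnit_iff]
      obtain ⟨u, hu⟩ := isUnit_of_notMem ρ s.2
      constructor
      · intro a b hab
        have hab' : ρ s • a = ρ s • b := hab
        rw [← hu] at hab'
        have := congrArg (fun z => (↑u⁻¹ : O) • z) hab'
        simpa [smul_smul] using this
      · intro b
        refine ⟨(↑u⁻¹ : O) • b, ?_⟩
        change ρ s • ((↑u⁻¹ : O) • b) = b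
        rw [← hu, smul_smul, Units.mul_inv, one_smul]
    · intro y
      obtain ⟨s, m, hs, hsm⟩ := ha y
      exact ⟨⟨m, ⟨s, hs⟩⟩, hsm⟩
    · intro m₁ m₂ h
      have h0 : γ (m₁ - m₂) = 0 := by
        rw [map_sub]; exact sub_eq_zero.mpr h
      obtain ⟨s, hs, hs0⟩ := hb (m₁ - m₂) h0
      refine ⟨⟨s, hs⟩, ?_⟩
      rw [smul_sub] at hs0
      exact sub_eq_zero.mp hs0
  -- the ring map from the localization
  let ψ : Localization.AtPrime q →+* O :=
    IsLocalization.lift (M := q.primeCompl) (g := ρ) (fun s => isUnit_of_notMem ρ s.2)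
  have hψ : ∀ r : R, ψ (algebraMap R (Localization.AtPrime q) r) = ρ r := fun r =>
    IsLocalization.lift_eq _ r
  letI algLO : Algebra (Localization.AtPrime q) O := ψ.toAlgebra
  letI modL : Module (Localization.AtPrime q) N := Module.compHom N ψ
  haveI : IsScalarTower (Localization.AtPrime q) O N :=
    IsScalarTower.of_algebraMap_smul (fun _ _ => rfl)
  haveI : IsScalarTower R (Localization.AtPrime q) N := by
    refine ⟨fun a r n => ?_⟩
    change ψ (a • r) • n = ρ a • (ψ r • n)
    rw [Algebra.smul_def, map_mul, mul_smul, hψ]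
  haveI : IsLocalHom (algebraMap (Localization.AtPrime q) O) := by
    change IsLocalHom ψ
    constructor
    intro a ha
    obtain ⟨⟨r, s⟩, hrs⟩ := IsLocalization.surj q.primeCompl a
    have h1 : ψ a * ρ s.1 = ρ r := by
      have := congrArg ψ hrs
      rwa [map_mul, hψ, hψ] at this
    have h2 : IsUnit (ρ r) := by
      rw [← h1]; exact ha.mul (isUnit_of_notMem ρ s.2)
    have h3 : r ∉ q := by
      intro hr
      exact ((mem_maximalIdeal _).mp hr) h2
    have h4 : IsUnit (algebraMap R (Localization.AtPrime q) r) :=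
      IsLocalization.map_units _ (⟨r, h3⟩ : q.primeCompl)
    rw [← hrs] at h4
    exact isUnit_of_mul_isUnit_left h4
  let f := (IsLocalizedModule.iso q.primeCompl γl).extendScalarsOfIsLocalization q.primeCompl
    (Localization.AtPrime q)
  haveI : Module.Finite (Localization.AtPrime q) (LocalizedModule q.primeCompl M) :=
    Module.Finite.of_isLocalizedModule q.primeCompl
      (Rₚ := Localization.AtPrime q) (LocalizedModule.mkLinearMap q.primeCompl M)
  haveI : Module.Finite (Localization.AtPrime q) N := Module.Finite.equiv f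
  haveI : IsRegularLocalRing (Localization.AtPrime q) :=
    IsRegularRing.isRegularLocalRing_localization q
  obtain ⟨e, d', hpd, hdep, hdim⟩ := RectDepthH8.exists_pd_depth (Localization.AtPrime q) N
  refine ⟨e, d', ?_, ?_, ?_⟩
  · rw [← hpd]
    exact projectiveDimension_eq_of_iso f.toModuleIso
  · rw [← hdep]
    exact (Groth.Agent.DepthLib.depth_eq_of_isLocalHom (Localization.AtPrime q) O N).symm
  · have h1 := IsLocalization.AtPrime.ringKrullDim_eq_height q (Localization.AtPrime q)
    rw [hdim] at h1
    exact_mod_cast h1.symm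

end LocABH8
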