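import Mathlib
import Groth.Agent.S6433

/-!
# A localization functor for a class with a left calculus of fractions preserves finite colimits
(helper9)
-/

namespace Groth.Agent.Lib.LocColim

open CategoryTheory CategoryTheory.Limits MorphismProperty

universe v u v' u'

variable {C : Type u} [Category.{v} C] {D : Type u'} [Category.{v'} D] (W : MorphismProperty C)
  (L : C ⥤ D) [L.IsLocalization W] [W.HasLeftCalculusOfFractions]

/-- A finite family of pairs of morphisms with equal images can be simultaneously equalized. -/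
lemma exists_common_equalizer {ι : Type} [Finite ι] (X : ι → C) (Y : C)
    (f₁ f₂ : ∀ i, X i ⟶ Y) (h : ∀ i, L.map (f₁ i) = L.map (f₂ i)) :
    ∃ (Y' : C) (t : Y ⟶ Y') (_ : W t), ∀ i, f₁ i ≫ t = f₂ i ≫ t := by
  classical
  have := Fintype.ofFinite ι
  have h' := fun i => (MorphismProperty.map_eq_iff_postcomp L W (f₁ i) (f₂ i)).1 (h i)
  choose Z s hs hfs using h'
  obtain ⟨Y', t, ht, hu⟩ := Groth.Agent.S6433.common_denominator_finset W Y Z s hs Finset.univ
  refine ⟨Y', t, ht, fun i => ?_⟩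
  obtain ⟨u, hu'⟩ := hu i (Finset.mem_univ i)
  rw [← hu', ← Category.assoc, hfs i, Category.assoc]

variable {J : Type} [SmallCategory J] [FinCategory J] {K : J ⥤ C} {c : Cocone K}
  (hc : IsColimit c)

include W hc

lemma uniq (s : Cocone (K ⋙ L)) (d₁ d₂ : L.obj c.pt ⟶ s.pt)
    (h₁ : ∀ j, L.map (c.ι.app j) ≫ d₁ = s.ι.app j)
    (h₂ : ∀ j, L.map (c.ι.app j) ≫ d₂ = s.ι.app j) : d₁ = d₂ := by
  haveI := Localization.essSurj L W
  let Z := L.objPreimage s.pt
  let θ : L.obj Z ≅ s.pt := L.objObjPreimageIso s.pt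
  obtain ⟨Z₁, r, hr, a, ha⟩ := Groth.Agent.S6433.result W L (fun _ : Bool => c.pt) Z
    (fun b => if b then d₁ ≫ θ.inv else d₂ ≫ θ.inv)
  have ha₁ : (d₁ ≫ θ.inv) ≫ L.map r = L.map (a true) := by simpa using ha true
  have ha₂ : (d₂ ≫ θ.inv) ≫ L.map r = L.map (a false) := by simpa using ha false
  have hj : ∀ j, L.map (c.ι.app j ≫ a true) = L.map (c.ι.app j ≫ a false) := by
    intro j
    rw [L.map_comp, L.map_comp, ← ha₁, ← ha₂, ← Category.assoc, ← Category.assoc,
      ← Category.assoc, ← Category.assoc, h₁, h₂]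
  haveI : Finite J := Finite.of_fintype J
  obtain ⟨Z₂, t, ht, heq⟩ := exists_common_equalizer W L (fun j => K.obj j) Z₁
    (fun j => c.ι.app j ≫ a true) (fun j => c.ι.app j ≫ a false) hj
  have h3 : a true ≫ t = a false ≫ t := by
    apply hc.hom_ext
    intro j
    rw [← Category.assoc, heq j, Category.assoc]
  have h4 : L.map (a true) = L.map (a false) :=
    (MorphismProperty.map_eq_iff_postcomp L W _ _).2 ⟨Z₂, t, ht, h3⟩
  haveI : IsIso (L.map r) := Localization.inverts L W r hr
  have h5 : d₁ ≫ θ.inv = d₂ ≫ θ.inv := by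
    rw [← cancel_mono (L.map r), ha₁, ha₂, h4]
  exact (cancel_mono θ.inv).1 h5

lemma exists_desc (s : Cocone (K ⋙ L)) :
    ∃ d : L.obj c.pt ⟶ s.pt, ∀ j, L.map (c.ι.app j) ≫ d = s.ι.app j := by
  haveI := Localization.essSurj L W
  let Z := L.objPreimage s.pt
  let θ : L.obj Z ≅ s.pt := L.objObjPreimageIso s.pt
  haveI : Finite J := Finite.of_fintype J
  obtain ⟨Z', t, ht, f, hf⟩ := Groth.Agent.S6433.result W L (fun j => K.obj j) Z
    (fun j => s.ι.app j ≫ θ.inv)
  -- the arrows of `J`
  let Arr := Σ (j : J) (j' : J), (j ⟶ j')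
  haveI : Finite Arr := Finite.of_fintype Arr
  have harr : ∀ a : Arr, L.map (K.map a.2.2 ≫ f a.2.1) = L.map (f a.1) := by
    rintro ⟨j, j', u⟩
    have hw : L.map (K.map u) ≫ s.ι.app j' = s.ι.app j := s.w u
    show L.map (K.map u ≫ f j') = L.map (f j)
    rw [L.map_comp, ← hf j', ← hf j, ← Category.assoc, ← Category.assoc, hw]
  obtain ⟨Z'', t', ht', heq⟩ := exists_common_equalizer W L (fun a : Arr => K.obj a.1) Z'
    (fun a => K.map a.2.2 ≫ f a.2.1) (fun a => f a.1) harr
  let s' : Cocone K :=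
    { pt := Z''
      ι :=
        { app := fun j => f j ≫ t'
          naturality := fun j j' u => by
            have := heq ⟨j, j', u⟩
            dsimp at this ⊢
            rw [Category.comp_id, ← Category.assoc]
            exact this } }
  have hd₀ : ∀ j, c.ι.app j ≫ hc.desc s' = f j ≫ t' := fun j => hc.fac s' j
  have htt : W (t ≫ t') := W.comp_mem _ _ ht ht'
  haveI : IsIso (L.map (t ≫ t')) := Localization.inverts L W _ htt
  refine ⟨L.map (hc.desc s') ≫ inv (L.map (t ≫ t')) ≫ θ.hom, fun j => ?_⟩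
  have h1 : L.map (f j ≫ t') = (s.ι.app j ≫ θ.inv) ≫ L.map (t ≫ t') := by
    rw [L.map_comp, L.map_comp, ← hf j, Category.assoc]
  rw [← Category.assoc, ← L.map_comp, hd₀, h1, Category.assoc, Category.assoc,
    IsIso.hom_inv_id_assoc, Iso.inv_hom_id, Category.comp_id]

omit hc in
include W in
theorem preservesFiniteColimits : PreservesFiniteColimits L := by
  constructor
  intro J _ _
  constructor
  intro K
  constructor
  intro c hc
  refine ⟨IsColimit.ofExistsUnique (fun s => ?_)⟩
  obtain ⟨d, hd⟩ := exists_desc W L hc s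
  exact ⟨d, hd, fun d' hd' => uniq W L hc s d' d hd' hd⟩

end Groth.Agent.Lib.LocColim
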