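import Mathlib
import Groth.Agent.Lib.LocColim_helper9

/-!
# The localization of an abelian category w.r.t. a class with left and right calculus of fractions
is abelian, and the localization functor is exact (helper9)
-/

namespace Groth.Agent.Lib.LocAbelian

open CategoryTheory CategoryTheory.Limits

universe v u v' u'

variable {A : Type u} [Category.{v} A] [Abelian A]
  (W : MorphismProperty A) [W.HasLeftCalculusOfFractions] [W.HasRightCalculusOfFractions]
  {D : Type u'} [Category.{v'} D] (L : A ⥤ D) [L.IsLocalization W]

section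

include W L

lemma preservesFiniteColimits : PreservesFiniteColimits L :=
  LocColim.preservesFiniteColimits W L

lemma preservesFiniteLimits : PreservesFiniteLimits L := by
  haveI : PreservesFiniteColimits L.op := LocColim.preservesFiniteColimits W.op L.op
  exact preservesFiniteLimits_of_op L

lemma hasFiniteProducts : HasFiniteProducts D := by
  haveI := preservesFiniteLimits W L
  haveI := Localization.essSurj L W
  refine ⟨fun n => ⟨fun K => ?_⟩⟩
  let K' : Discrete (Fin n) ⥤ A := Discrete.functor (fun i => L.objPreimage (K.obj ⟨i⟩))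
  let e : K' ⋙ L ≅ K := Discrete.natIso (fun i => L.objObjPreimageIso (K.obj i))
  haveI : HasLimit (K' ⋙ L) :=
    HasLimit.mk { cone := _, isLimit := isLimitOfPreserves L (limit.isLimit K') }
  exact hasLimit_of_iso e

lemma exists_arrow_iso {X Y : D} (f : X ⟶ Y) :
    ∃ (X' Y' : A) (g : X' ⟶ Y'), Nonempty (Arrow.mk (L.map g) ≅ Arrow.mk f) := by
  haveI := Localization.essSurj_mapArrow L W
  exact ⟨_, _, (L.mapArrow.objPreimage (Arrow.mk f)).hom,
    ⟨L.mapArrow.objObjPreimageIso (Arrow.mk f)⟩⟩

variable [Preadditive D] [L.Additive]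

lemma hasKernel_map {X Y : A} (g : X ⟶ Y) : HasKernel (L.map g) := by
  haveI := preservesFiniteLimits W L
  exact HasLimit.mk { cone := _, isLimit := KernelFork.mapIsLimit _ (kernelIsKernel g) L }

lemma hasCokernel_map {X Y : A} (g : X ⟶ Y) : HasCokernel (L.map g) := by
  haveI := preservesFiniteColimits W L
  exact HasColimit.mk
    { cocone := _, isColimit := CokernelCofork.mapIsColimit _ (cokernelIsCokernel g) L }

lemma hasKernels : HasKernels D := by
  refine ⟨fun {X Y} f => ?_⟩
  obtain ⟨X', Y', g, ⟨i⟩⟩ := exists_arrow_iso W L f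
  haveI := hasKernel_map W L g
  have hf : f = inv i.hom.left ≫ L.map g ≫ i.hom.right := by
    have := i.hom.w
    dsimp at this
    rw [← this, IsIso.inv_hom_id_assoc]
  rw [hf]
  infer_instance

lemma hasCokernels : HasCokernels D := by
  refine ⟨fun {X Y} f => ?_⟩
  obtain ⟨X', Y', g, ⟨i⟩⟩ := exists_arrow_iso W L f
  haveI := hasCokernel_map W L g
  have hf : f = inv i.hom.left ≫ L.map g ≫ i.hom.right := by
    have := i.hom.w
    dsimp at this
    rw [← this, IsIso.inv_hom_id_assoc]
  rw [hf]
  infer_instance

set_option backward.defeqAttrib.useBackward true in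
lemma isIso_coimageImageComparison [HasKernels D] [HasCokernels D] {X Y : D} (f : X ⟶ Y) :
    IsIso (Abelian.coimageImageComparison f) := by
  obtain ⟨X', Y', g, ⟨i⟩⟩ := exists_arrow_iso W L f
  haveI := preservesFiniteLimits W L
  haveI := preservesFiniteColimits W L
  let i' := Abelian.coimageImageComparisonFunctor.mapIso i
  dsimp only [Abelian.coimageImageComparisonFunctor_obj, Arrow.mk_left, Arrow.mk_right,
    Arrow.mk_hom] at i'
  have := Iso.isIso_inv i'
  rw [Arrow.isIso_iff_isIso_of_isIso i'.inv,
    Arrow.isIso_iff_isIso_of_isIso (Abelian.PreservesCoimageImageComparison.iso L g).inv]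
  infer_instance

end

include W in
theorem main : Nonempty (Abelian D) ∧ PreservesFiniteLimits L ∧ PreservesFiniteColimits L := by
  letI := Localization.preadditive L W
  haveI := Localization.functor_additive L W
  haveI := hasFiniteProducts W L
  haveI := hasKernels W L
  haveI := hasCokernels W L
  haveI : ∀ {X Y : D} (f : X ⟶ Y), IsIso (Abelian.coimageImageComparison f) :=
    fun f => isIso_coimageImageComparison W L f
  exact ⟨⟨Abelian.ofCoimageImageComparisonIsIso⟩, preservesFiniteLimits W L,
    preservesFiniteColimits W L⟩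

end Groth.Agent.Lib.LocAbelian
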