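import Mathlib

set_option autoImplicit false
universe u

namespace Groth.Agent.Lib.LocAvoid

theorem main (A : Type u) [CommRing A] [IsNoetherianRing A]
    (p : Ideal A) [p.IsPrime] (x : A) :
    ∃ x' : A, algebraMap A (Localization.AtPrime p) x' = algebraMap A (Localization.AtPrime p) x ∧
      ∀ q ∈ minimalPrimes A, ¬ q ≤ p → x' ∉ q := by
  classical
  have hfin : (minimalPrimes A).Finite := minimalPrimes.finite_of_isNoetherianRing A
  let Q : Finset (Ideal A) := hfin.toFinset.filter (fun q => ¬ q ≤ p)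
  have hQ : ∀ q, q ∈ Q ↔ q ∈ minimalPrimes A ∧ ¬ q ≤ p := by
    intro q
    simp only [Q, Finset.mem_filter, Set.Finite.mem_toFinset]
  let S1 : Finset (Ideal A) := Q.filter (fun q => x ∈ q)
  let S2 : Finset (Ideal A) := Q.filter (fun q => x ∉ q)
  have hprime : ∀ q ∈ Q, q.IsPrime := fun q hq => ((hQ q).mp hq).1.1.1
  have hKq : ∀ q ∈ Q, ¬ RingHom.ker (algebraMap A (Localization.AtPrime p)) ≤ q := by
    intro q hq hKle
    obtain ⟨hqmin, hqp⟩ := (hQ q).mp hq
    haveI : q.IsPrime := hqmin.1.1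
    obtain ⟨t, htq, htp⟩ := SetLike.not_le_iff_exists.mp hqp
    have hrad := IsLocalization.AtPrime.radical_map_of_mem_minimalPrimes
      (Localization.AtPrime q) q ⊥ hqmin
    have hmem : algebraMap A (Localization.AtPrime q) t ∈
        (Ideal.map (algebraMap A (Localization.AtPrime q)) ⊥).radical := by
      rw [hrad]; exact Ideal.mem_map_of_mem _ htq
    obtain ⟨N, hN⟩ := hmem
    rw [Ideal.map_bot, Ideal.mem_bot, ← map_pow] at hN
    obtain ⟨⟨a, ha⟩, hat⟩ :=
      (IsLocalization.map_eq_zero_iff q.primeCompl (Localization.AtPrime q) (t ^ N)).mp hN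
    have haK : a ∈ RingHom.ker (algebraMap A (Localization.AtPrime p)) := by
      rw [RingHom.mem_ker, IsLocalization.map_eq_zero_iff p.primeCompl]
      refine ⟨⟨t ^ N, fun h => htp (Ideal.IsPrime.mem_of_pow_mem inferInstance N h)⟩, ?_⟩
      show t ^ N * a = 0
      rw [mul_comm]; exact hat
    exact ha (hKle haK)
  have havoid : ¬ (((RingHom.ker (algebraMap A (Localization.AtPrime p)) ⊓ S2.inf id : Ideal A) :
      Set A) ⊆ ⋃ i ∈ (↑S1 : Set (Ideal A)), ((id i : Ideal A) : Set A)) := by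
    intro hsub
    obtain ⟨i, hiS1, hle⟩ := (Ideal.subset_union_prime (s := S1) (f := id) ⊤ ⊤
      (fun i hi _ _ => hprime i (Finset.mem_filter.mp hi).1)).mp hsub
    have hiQ : i ∈ Q := (Finset.mem_filter.mp hiS1).1
    have hxi : x ∈ i := (Finset.mem_filter.mp hiS1).2
    haveI hip : i.IsPrime := hprime i hiQ
    rcases (Ideal.IsPrime.inf_le hip).mp hle with h | h
    · exact hKq i hiQ h
    · obtain ⟨j, hjS2, hji⟩ := (Ideal.IsPrime.inf_le' hip).mp h
      have hjQ : j ∈ Q := (Finset.mem_filter.mp hjS2).1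
      have hxj : x ∉ j := (Finset.mem_filter.mp hjS2).2
      have himin := ((hQ i).mp hiQ).1
      haveI : j.IsPrime := hprime j hjQ
      have hij : i ≤ j := himin.2 ⟨inferInstance, bot_le⟩ hji
      exact hxj (hij hxi)
  obtain ⟨a, haI, hanot⟩ := Set.not_subset.mp havoid
  have haI' : a ∈ RingHom.ker (algebraMap A (Localization.AtPrime p)) ⊓ S2.inf id := haI
  obtain ⟨haK, haS2⟩ := Ideal.mem_inf.mp haI'
  refine ⟨x + a, ?_, ?_⟩
  · rw [map_add, (RingHom.mem_ker).mp haK, add_zero]
  · intro q hqmin hqp hxa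
    have hqQ : q ∈ Q := (hQ q).mpr ⟨hqmin, hqp⟩
    by_cases hxq : x ∈ q
    · apply hanot
      have hqS1 : q ∈ S1 := Finset.mem_filter.mpr ⟨hqQ, hxq⟩
      have haq : a ∈ q := by
        have := q.sub_mem hxa hxq
        simpa using this
      exact Set.mem_biUnion (Finset.mem_coe.mpr hqS1) haq
    · have hqS2 : q ∈ S2 := Finset.mem_filter.mpr ⟨hqQ, hxq⟩
      have haq : a ∈ q := (Finset.inf_le hqS2 : S2.inf id ≤ id q) haS2
      apply hxq
      have := q.sub_mem hxa haq
      simpa using this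

end Groth.Agent.Lib.LocAvoid
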