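import Mathlib
import Groth.Agent.Lib.LocBC1_helper2
import Groth.Agent.Lib.DMod48_helper6

/-!
# Base change of `RΓ_I(A)` along a power map (helper2)

For a Noetherian ring `A` and a ring endomorphism `φ` of `A` with `φ x = x ^ k` (`k > 0`, e.g. the Frobenius),
`RΓ_I(A) ⊗^L_{A, φ} A ≅ RΓ_I(A)`: both are iterated fibres of localizations of `A` at generators of `I`.
-/

set_option autoImplicit false
universe u
open CategoryTheory CategoryTheory.Limits CategoryTheory.Pretriangulated DerivedCategory
open scoped TensorProduct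

attribute [local instance] HasDerivedCategory.standard

namespace Groth.Agent.Lib.LocBC

open Groth.Agent.Lib.LocFib Groth.Agent.Lib.DerCompl Groth.Agent.Lib.ExtCechH7
open Groth.Agent.Lib.DMod_helper6

variable {A : Type u} [CommRing A]

lemma flat_locFunctor (f : A) (M : ModuleCat.{u} A) (hM : Module.Flat A M) :
    Module.Flat A ((DerCA.locFunctor (Submonoid.powers f)).obj M) := by
  haveI := hM
  haveI : Module.Flat A (Localization (Submonoid.powers f)) :=
    IsLocalization.flat _ (Submonoid.powers f)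
  exact Module.Flat.trans A (Localization (Submonoid.powers f))
    (LocalizedModule (Submonoid.powers f) M)

lemma termwiseFlat_cc (f : A) (Y : DRing.Cx A) (hY : DRing.TermwiseFlat Y) :
    DRing.TermwiseFlat (cc f Y) := by
  intro n
  haveI : Module.Flat A (Y.X n ⊞ (Lf f Y).X (n - 1) : ModuleCat.{u} A) :=
    flat_biprod (hY n) (flat_locFunctor f _ (hY (n - 1)))
  exact Module.Flat.of_linearEquiv (DerCA.mappingCoconeXIso (ηf f Y) n).toLinearEquiv

theorem termwiseFlat_cech (X : DRing.Cx A) (hX : DRing.TermwiseFlat X) :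
    ∀ fs : List A, DRing.TermwiseFlat (cech X fs)
  | [] => hX
  | f :: fs => termwiseFlat_cc f _ (termwiseFlat_cech X hX fs)

lemma isZero_biprod' {M N : ModuleCat.{u} A} (hM : IsZero M) (hN : IsZero N) : IsZero (M ⊞ N) := by
  rw [IsZero.iff_id_eq_zero]
  apply biprod.hom_ext
  · exact hM.eq_of_tgt _ _
  · exact hN.eq_of_tgt _ _

lemma vanishesAbove_cc (f : A) (Y : DRing.Cx A) (b : ℤ) (hY : DRing.VanishesAbove Y b) :
    DRing.VanishesAbove (cc f Y) (b + 1) := by
  intro i hi
  have h1 : IsZero (Y.X i) := hY i (by omega)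
  have h2 : IsZero ((Lf f Y).X (i - 1)) :=
    (DerCA.locFunctor (Submonoid.powers f)).map_isZero (hY (i - 1) (by omega))
  exact (isZero_biprod' h1 h2).of_iso (DerCA.mappingCoconeXIso (ηf f Y) i)

theorem vanishesAbove_cech (X : DRing.Cx A) (b : ℤ) (hX : DRing.VanishesAbove X b) :
    ∀ fs : List A, DRing.VanishesAbove (cech X fs) (b + fs.length)
  | [] => by
    intro i hi
    exact hX i (by simpa using hi)
  | f :: fs => by
    have h := vanishesAbove_cc f _ _ (vanishesAbove_cech X b hX fs)
    intro i hi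
    refine h i ?_
    simp only [List.length_cons, Nat.cast_add, Nat.cast_one] at hi
    omega

/-- `A` in degree `0` -/
noncomputable abbrev sA (A : Type u) [CommRing A] : DRing.Cx A :=
  (HomologicalComplex.single (ModuleCat.{u} A) (ComplexShape.up ℤ) 0).obj (ModuleCat.of A A)

lemma termwiseFlat_sA : DRing.TermwiseFlat (sA A) := by
  intro i
  by_cases hi : i = 0
  · subst hi
    exact Module.Flat.of_linearEquiv
      (HomologicalComplex.singleObjXSelf (ComplexShape.up ℤ) 0 (ModuleCat.of A A)).toLinearEquiv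
  · exact flat_of_isZero _ (HomologicalComplex.isZero_single_obj_X (ComplexShape.up ℤ) 0 _ i hi)

lemma vanishesAbove_sA : DRing.VanishesAbove (sA A) 0 := by
  intro i hi
  exact HomologicalComplex.isZero_single_obj_X (ComplexShape.up ℤ) 0 _ i (by omega)

variable {B : Type u} [CommRing B] (φ : A →+* B)

/-- `B ⊗_A A ≅ B` -/
noncomputable def eSelf : (E φ).obj (ModuleCat.of A A) ≅ ModuleCat.of B B := by
  letI : Algebra A B := φ.toAlgebra
  exact ((Groth.Agent.ExtendScalarsLib.extendScalarsEquivTensor (S := B) (ModuleCat.of A A)).trans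
    (TensorProduct.AlgebraTensorModule.rid A B B)).toModuleIso

/-- extension of scalars of `A[0]` is `B[0]` -/
noncomputable def ecSingleIso : (EC φ).obj (sA A) ≅ sA B :=
  (HomologicalComplex.singleMapHomologicalComplex (E φ) (ComplexShape.up ℤ) 0).app
      (ModuleCat.of A A) ≪≫
    (HomologicalComplex.single (ModuleCat.{u} B) (ComplexShape.up ℤ) 0).mapIso (eSelf φ)

/-- `A[0]` in the derived category -/
noncomputable def θA (A : Type u) [CommRing A] : Dual.inD A A ≅ Q.obj (sA A) :=
  (DerivedCategory.singleFunctorIsoCompQ (ModuleCat.{u} A) 0).app (ModuleCat.of A A)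

/-- **Base change of `RΓ_I(A)` along a power endomorphism.** -/
theorem main_aux [IsNoetherianRing A] (ψ : A →+* A) (k : ℕ) (hk : 0 < k) (hψ : ∀ x, ψ x = x ^ k)
    (I : Ideal A) [DRing.HasRgammaI I] [DRing.HasLBaseChange ψ] :
    Nonempty ((DRing.LBaseChange ψ).obj ((DRing.RgammaI I).obj (Dual.inD A A)) ≅
      (DRing.RgammaI I).obj (Dual.inD A A)) := by
  obtain ⟨fs, hfs⟩ := exists_list_span I
  subst hfs
  have h1 := iterFib_RgammaIε fs (Dual.inD A A)
  have h2 := iterFib_cech (sA A) fs
  obtain ⟨e1, -⟩ := IterFib.unique fs _ _ (θA A) h1 h2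
  obtain ⟨eL⟩ := nonempty_lBaseChange_iso_of_flat ψ (cech (sA A) fs) (0 + fs.length)
    (vanishesAbove_cech (sA A) 0 vanishesAbove_sA fs) (termwiseFlat_cech (sA A) termwiseFlat_sA fs)
  have h3 := iterFib_EC ψ (sA A) fs
  have hmap : fs.map ψ = fs.map (· ^ k) := List.map_congr_left (fun x _ => hψ x)
  rw [hmap] at h3
  have h4 := iterFib_of_map_pow k hk fs _ h3
  obtain ⟨e2, -⟩ := IterFib.unique fs _ _ (Q.mapIso (ecSingleIso ψ) ≪≫ (θA A).symm) h4 h1
  exact ⟨(DRing.LBaseChange ψ).mapIso e1 ≪≫ eL ≪≫ e2⟩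

theorem main (p : ℕ) [Fact p.Prime] (A : Type u) [CommRing A] [IsNoetherianRing A] [CharP A p]
    (I : Ideal A) [DRing.HasRgammaI I] [DRing.HasLBaseChange (frobenius A p)] :
    Nonempty ((DRing.LBaseChange (frobenius A p)).obj ((DRing.RgammaI I).obj (Dual.inD A A)) ≅
      (DRing.RgammaI I).obj (Dual.inD A A)) :=
  main_aux (frobenius A p) p (Fact.out : p.Prime).pos (fun x => frobenius_def p x) I

end Groth.Agent.Lib.LocBC
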