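import Mathlib
import Groth.Prelude.Def_Cyc
import Groth.Agent.Lib.JUC1_helper8
import Groth.Agent.S9126

universe u
open AlgebraicGeometry CategoryTheory

namespace LocBaseH8

variable (A : Type u) [CommRing A] [IsNoetherianRing A] [IsLocalRing A]

/-- The dimension function `s ↦ dim A/𝔭_s` on the spectrum of a Noetherian local ring. -/
noncomputable def δS : ↥(Spec (CommRingCat.of A)) → ℤ :=
  fun s => ((@Order.coheight (PrimeSpectrum A) _ s).toNat : ℤ)

theorem coe_δS (s : ↥(Spec (CommRingCat.of A))) :
    (((@Order.coheight (PrimeSpectrum A) _ s).toNat : ℕ) : ℕ∞) =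
      @Order.coheight (PrimeSpectrum A) _ s :=
  ENat.natCast_toNat (Groth.Agent.JUC1H8.coheight_lt_top _).ne

theorem isDimFun_δS (hcat : CAlg.IsCatenary A) :
    Cyc.IsDimFun (Spec (CommRingCat.of A)) (δS A) := by
  intro x y hxy hne
  have hle : (show PrimeSpectrum A from x) ≤ (show PrimeSpectrum A from y) :=
    (PrimeSpectrum.le_iff_specializes _ _).mpr hxy
  have hlt : (show PrimeSpectrum A from x) < (show PrimeSpectrum A from y) :=
    lt_of_le_of_ne hle hne
  constructor
  · have h1 := Order.coheight_add_one_le hlt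
    rw [← coe_δS A x, ← coe_δS A y] at h1
    have h2 : (@Order.coheight (PrimeSpectrum A) _ y).toNat + 1 ≤
        (@Order.coheight (PrimeSpectrum A) _ x).toNat := by exact_mod_cast h1
    simp only [δS]
    omega
  · intro himm
    have hcov : (show PrimeSpectrum A from x) ⋖ (show PrimeSpectrum A from y) := by
      refine ⟨hlt, fun z hxz hzy => ?_⟩
      have h1 : x ⤳ z := (PrimeSpectrum.le_iff_specializes _ _).mp hxz.le
      have h2 : z ⤳ y := (PrimeSpectrum.le_iff_specializes _ _).mp hzy.le
      rcases himm z h1 h2 with h | h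
      · exact (ne_of_gt hxz) h
      · exact (ne_of_lt hzy) h
    have h1 := Groth.Agent.JUC1H8.coheight_eq_of_covBy hcat _ _ hcov
    rw [← coe_δS A x, ← coe_δS A y] at h1
    have h2 : (@Order.coheight (PrimeSpectrum A) _ x).toNat =
        (@Order.coheight (PrimeSpectrum A) _ y).toNat + 1 := by exact_mod_cast h1
    simp only [δS]
    omega

omit [IsNoetherianRing A] [IsLocalRing A] in
theorem isUniversallyCatenary_stalk (hA : CAlg.IsUniversallyCatenary A)
    (s : ↥(Spec (CommRingCat.of A))) :
    CAlg.IsUniversallyCatenary ((Spec (CommRingCat.of A)).presheaf.stalk s) := by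
  letI k : Algebra A ↑((Spec (CommRingCat.of A)).presheaf.stalk s) :=
    StructureSheaf.stalkAlgebra A s
  haveI : IsLocalization.AtPrime (↑((Spec (CommRingCat.of A)).presheaf.stalk s)) s.asIdeal :=
    StructureSheaf.IsLocalization.to_stalk A s
  haveI : Algebra.EssFiniteType A ↑((Spec (CommRingCat.of A)).presheaf.stalk s) :=
    Algebra.EssFiniteType.of_isLocalization _ s.asIdeal.primeCompl
  exact Groth.Agent.S9126.result A _ hA

theorem isSetup (hA : CAlg.IsUniversallyCatenary A) :
    Cyc.IsSetup (Spec (CommRingCat.of A)) (δS A) :=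
  ⟨inferInstance, isUniversallyCatenary_stalk A hA,
    isDimFun_δS A (hA.2 A inferInstance)⟩

end LocBaseH8
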