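import Mathlib

namespace Groth.Agent.Lib.LocClosedSplit

open PrimeSpectrum TopologicalSpace

universe u

theorem isOpen_of_closed_stableGen {X : Type*} [TopologicalSpace X] [NoetherianSpace X]
    [QuasiSober X] (Z : Set X) (hZ : IsClosed Z) (hgen : StableUnderGeneralization Z) :
    IsOpen Z := by
  rw [← isClosed_compl_iff]
  have hU : Zᶜ = ⋃₀ {C ∈ irreducibleComponents X | Disjoint C Z} := by
    apply Set.Subset.antisymm
    · intro x hx
      refine ⟨irreducibleComponent x, ⟨irreducibleComponent_mem_irreducibleComponents x, ?_⟩,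
        mem_irreducibleComponent⟩
      rw [Set.disjoint_left]
      intro z hzC hzZ
      have hirr : IsIrreducible (irreducibleComponent x) := isIrreducible_irreducibleComponent
      have hgp := hirr.isGenericPoint_genericPoint_closure
      rw [isClosed_irreducibleComponent.closure_eq] at hgp
      have hspec : hirr.genericPoint ⤳ z := by
        rw [specializes_iff_mem_closure, hgp.def]; exact hzC
      have hξ : hirr.genericPoint ∈ Z := hgen hspec hzZ
      have hsub : irreducibleComponent x ⊆ Z := by
        rw [← hgp.def]; exact hZ.closure_subset_iff.mpr (Set.singleton_subset_iff.mpr hξ)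
      exact hx (hsub mem_irreducibleComponent)
    · rintro x ⟨C, ⟨_, hCZ⟩, hxC⟩ hxZ
      exact Set.disjoint_left.mp hCZ hxC hxZ
  rw [hU, Set.sUnion_eq_biUnion]
  have hfin : {C ∈ irreducibleComponents X | Disjoint C Z}.Finite :=
    NoetherianSpace.finite_irreducibleComponents.subset (fun C hC => hC.1)
  exact hfin.isClosed_biUnion (fun C hC => isClosed_of_mem_irreducibleComponents C hC.1)

theorem main {R : Type u} [CommRing R] (S : Submonoid R) (A : Type u) [CommRing A] [Algebra R A]
    [IsLocalization S A]
    (hcl : IsClosed (Set.range (PrimeSpectrum.comap (algebraMap R A))))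
    (h : NoetherianSpace (PrimeSpectrum R) ∨ S.FG) :
    ∃ (R' : Type u) (_ : CommRing R') (e : R ≃+* A × R'),
      ∀ x : R, (e x).1 = algebraMap R A x := by
  classical
  have hZ : Set.range (PrimeSpectrum.comap (algebraMap R A)) =
      {p | Disjoint (S : Set R) p.asIdeal} := PrimeSpectrum.localization_comap_range A S
  have hopen : IsOpen (Set.range (PrimeSpectrum.comap (algebraMap R A))) := by
    rcases h with h | h
    · haveI := h
      apply isOpen_of_closed_stableGen _ hcl
      intro p q hqp hp
      rw [hZ] at hp ⊢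
      have hle : q ≤ p := (PrimeSpectrum.le_iff_specializes q p).mpr hqp
      exact Set.disjoint_of_subset_right (show (q.asIdeal : Set R) ⊆ p.asIdeal from hle) hp
    · obtain ⟨T, hT⟩ := h
      have hprodS : (∏ t ∈ T, t) ∈ S := by
        rw [← hT]
        exact Submonoid.prod_mem _ (fun t ht => Submonoid.subset_closure ht)
      have key : ∀ (p : PrimeSpectrum R), ∀ x ∈ Submonoid.closure (T : Set R),
          x ∈ p.asIdeal → ∃ t ∈ T, t ∈ p.asIdeal := by
        intro p x hx
        induction hx using Submonoid.closure_induction with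
        | mem y hy => exact fun hyp => ⟨y, hy, hyp⟩
        | one => exact fun h1 => absurd ((Ideal.eq_top_iff_one _).mpr h1) p.isPrime.ne_top
        | mul a b _ _ iha ihb =>
          intro hab
          rcases p.isPrime.mem_or_mem hab with h | h
          exacts [iha h, ihb h]
      have hEq : Set.range (PrimeSpectrum.comap (algebraMap R A)) =
          (PrimeSpectrum.basicOpen (∏ t ∈ T, t) : Set (PrimeSpectrum R)) := by
        rw [hZ]
        ext p
        simp only [Set.mem_setOf_eq, SetLike.mem_coe, PrimeSpectrum.mem_basicOpen]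
        constructor
        · intro hd hprod
          exact Set.disjoint_left.mp hd hprodS hprod
        · intro hprod
          rw [Set.disjoint_left]
          intro x hxS hxp
          apply hprod
          rw [← hT] at hxS
          obtain ⟨t, htT, htp⟩ := key p x hxS hxp
          exact Ideal.mem_of_dvd _ (Finset.dvd_prod_of_mem _ htT) htp
      rw [hEq]; exact (PrimeSpectrum.basicOpen _).isOpen
  obtain ⟨e, he, hZe⟩ := PrimeSpectrum.isClopen_iff.mp ⟨hcl, hopen⟩
  -- F1
  have F1 : ∀ s ∈ S, ∃ r, r * s = e := by
    intro s hs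
    have hle : PrimeSpectrum.basicOpen e ≤ PrimeSpectrum.basicOpen s := by
      intro p hp
      have hp' : p ∈ Set.range (PrimeSpectrum.comap (algebraMap R A)) := by rw [hZe]; exact hp
      rw [hZ] at hp'
      exact fun hsp => Set.disjoint_left.mp hp' hs hsp
    rw [PrimeSpectrum.basicOpen_le_basicOpen_iff] at hle
    obtain ⟨n, hn⟩ := hle
    have h1 : e ^ (n + 1) ∈ Ideal.span ({s} : Set R) := by
      rw [pow_succ]; exact Ideal.mul_mem_right _ _ hn
    rw [he.pow_succ_eq] at h1
    exact Ideal.mem_span_singleton'.mp h1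
  -- algebraMap (1 - e) = 0
  have hcomp : IsIdempotentElem (1 - e) := he.one_sub
  have he0 : e * (1 - e) = 0 := by
    have := he.eq; rw [mul_sub, mul_one, this, sub_self]
  have F2 : algebraMap R A (1 - e) = 0 := by
    have hnil : IsNilpotent (algebraMap R A (1 - e)) := by
      rw [nilpotent_iff_mem_prime]
      intro q hq
      have hmem : (⟨q, hq⟩ : PrimeSpectrum A).comap (algebraMap R A) ∈
          Set.range (PrimeSpectrum.comap (algebraMap R A)) := ⟨_, rfl⟩
      rw [hZe] at hmem
      have hne : e ∉ q.comap (algebraMap R A) := hmem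
      have h0 : e * (1 - e) ∈ q.comap (algebraMap R A) := by rw [he0]; exact Ideal.zero_mem _
      have hq' : (q.comap (algebraMap R A)).IsPrime := Ideal.comap_isPrime _ _
      rcases hq'.mem_or_mem h0 with h | h
      · exact absurd h hne
      · exact h
    obtain ⟨n, hn⟩ := hnil
    rw [← map_pow] at hn
    rcases n with _ | n
    · rw [pow_zero, map_one] at hn
      have : algebraMap R A (1 - e) = algebraMap R A (1 - e) * 1 := (mul_one _).symm
      rw [this, hn, mul_zero]
    · rwa [hcomp.pow_succ_eq] at hn
  have F2' : algebraMap R A e = 1 := by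
    have := F2; rw [map_sub, map_one, sub_eq_zero] at this; exact this.symm
  have Fker : ∀ x : R, algebraMap R A x = 0 → e * x = 0 := by
    intro x hx
    obtain ⟨m, hm⟩ := (IsLocalization.map_eq_zero_iff S A x).mp hx
    obtain ⟨r, hr⟩ := F1 m m.2
    rw [← hr, mul_assoc, hm, mul_zero]
  have Fsurj : Function.Surjective (algebraMap R A) := by
    intro a
    obtain ⟨⟨x, s⟩, hxs⟩ := IsLocalization.surj S a
    obtain ⟨r, hr⟩ := F1 s s.2
    refine ⟨x * r, ?_⟩
    have h1 : algebraMap R A r * algebraMap R A s = 1 := by rw [← map_mul, hr, F2']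
    simp only at hxs
    rw [map_mul, ← hxs, mul_assoc, mul_comm (algebraMap R A ↑s), h1, mul_one]
  let φ : R →+* A × (R ⧸ Ideal.span ({e} : Set R)) :=
    (algebraMap R A).prod (Ideal.Quotient.mk (Ideal.span ({e} : Set R)))
  have hinj : Function.Injective φ := by
    rw [injective_iff_map_eq_zero]
    intro x hx
    have h1 : algebraMap R A x = 0 := congrArg Prod.fst hx
    have h2 : Ideal.Quotient.mk (Ideal.span ({e} : Set R)) x = 0 := congrArg Prod.snd hx
    rw [Ideal.Quotient.eq_zero_iff_mem, Ideal.mem_span_singleton'] at h2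
    obtain ⟨b, hb⟩ := h2
    have h3 := Fker x h1
    rw [← hb] at h3 ⊢
    -- h3 : e * (b * e) = 0 ; goal b * e = 0
    have : b * e = e * (b * e) := by
      rw [mul_comm e, mul_assoc, he.eq]
    rw [this, h3]
  have hsurj : Function.Surjective φ := by
    rintro ⟨a, b⟩
    obtain ⟨a', rfl⟩ := Fsurj a
    obtain ⟨b', rfl⟩ := Ideal.Quotient.mk_surjective b
    refine ⟨e * a' + (1 - e) * b', ?_⟩
    refine Prod.ext ?_ ?_
    · show algebraMap R A (e * a' + (1 - e) * b') = algebraMap R A a'
      rw [map_add, map_mul, map_mul, F2, F2', one_mul, zero_mul, add_zero]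
    · show Ideal.Quotient.mk _ (e * a' + (1 - e) * b') = Ideal.Quotient.mk _ b'
      rw [Ideal.Quotient.eq]
      have : e * a' + (1 - e) * b' - b' = (a' - b') * e := by ring
      rw [this]
      exact Ideal.mul_mem_left _ _ (Ideal.subset_span rfl)
  exact ⟨R ⧸ Ideal.span ({e} : Set R), inferInstance, RingEquiv.ofBijective φ ⟨hinj, hsurj⟩,
    fun x => rfl⟩

end Groth.Agent.Lib.LocClosedSplit
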