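import Mathlib
import Groth.Prelude.Def_Wider
import Groth.Agent.Lib.LocCohCdSup_helper7

/-!
# Transition maps of `Ext^i(A/I^n, -)` vanish uniformly above the cohomological dimension (helper7)
-/

open CategoryTheory CategoryTheory.Limits Opposite

namespace Groth.Agent.Lib.LocCohExtTransH7

open Groth.Agent.Lib.LocCohLESH7 Groth.Agent.DepthLib Groth.Agent.Lib.ExtCompareH7
open Groth.Agent.Lib.LocCohCdSupH7

universe u

variable {R : Type u} [CommRing R]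

theorem exists_presentation (X : ModuleCat.{u} R) :
    ∃ S : ShortComplex (ModuleCat.{u} R), S.ShortExact ∧ Projective S.X₂ ∧ S.X₃ = X := by
  let g : (↑X →₀ R) →ₗ[R] ↑X := Finsupp.linearCombination R id
  have hg : Function.Surjective g := Finsupp.linearCombination_id_surjective R ↑X
  have hS := shortComplexOf_shortExact (N' := ↥(LinearMap.ker g)) (N := (↑X →₀ R)) (N'' := ↑X)
    (LinearMap.ker g).subtype g Subtype.val_injective hg (LinearMap.exact_subtype_ker_map g)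
  refine ⟨_, hS, ?_, rfl⟩
  show Projective (ModuleCat.of R (↑X →₀ R))
  infer_instance

theorem universal_step {S : ShortComplex (ModuleCat.{u} R)} (hS : S.ShortExact)
    [Projective S.X₂] (n₀ : ℕ) (N : ModuleCat.{u} R) (ξ : Abelian.Ext S.X₃ N (n₀ + 1)) :
    ∃ x₁ : Abelian.Ext S.X₁ N n₀, hS.extClass.comp x₁ (add_comm 1 n₀) = ξ :=
  Abelian.Ext.contravariant_sequence_exact₃ hS N ξ (Abelian.Ext.eq_zero_of_projective _)
    (add_comm 1 n₀)

/-- every class in `Ext^{e+1}(X, N)` is a pushforward of one universal class -/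
theorem exists_universal (e : ℕ) : ∀ (X : ModuleCat.{u} R),
    ∃ (Z : ModuleCat.{u} R) (ξu : Abelian.Ext X Z (e + 1)),
      ∀ (N : ModuleCat.{u} R) (ξ : Abelian.Ext X N (e + 1)),
        ∃ f : Z ⟶ N, ξ = ξu.comp (Abelian.Ext.mk₀ f) (add_zero (e + 1)) := by
  induction e with
  | zero =>
    intro X
    obtain ⟨S, hS, hP, rfl⟩ := exists_presentation X
    haveI := hP
    refine ⟨S.X₁, hS.extClass, fun N ξ => ?_⟩
    obtain ⟨x₁, hx₁⟩ := universal_step hS 0 N ξ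
    obtain ⟨f, rfl⟩ := (Abelian.Ext.mk₀_bijective _ _).2 x₁
    exact ⟨f, hx₁.symm⟩
  | succ e ih =>
    intro X
    obtain ⟨S, hS, hP, rfl⟩ := exists_presentation X
    haveI := hP
    obtain ⟨Z, ξu', hu'⟩ := ih S.X₁
    refine ⟨Z, hS.extClass.comp ξu' (add_comm 1 (e + 1)), fun N ξ => ?_⟩
    obtain ⟨x₁, hx₁⟩ := universal_step hS (e + 1) N ξ
    obtain ⟨f, hf⟩ := hu' N x₁
    refine ⟨f, ?_⟩
    rw [← hx₁, hf]
    exact (Abelian.Ext.comp_assoc hS.extClass ξu' (Abelian.Ext.mk₀ f) (add_comm 1 (e + 1))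
      (add_zero (e + 1)) (by omega)).symm

theorem exists_transition_zero (I : Ideal R) (e : ℕ) (he : LocCoh.CdLE R I e) (k : ℕᵒᵖᵒᵖ) :
    ∃ (k' : ℕᵒᵖᵒᵖ) (w : k ⟶ k'), ∀ (N : ModuleCat.{u} R)
      (ξ : Abelian.Ext (Xk I k) N (e + 1)),
      (Abelian.Ext.mk₀ (qw I w)).comp ξ (zero_add (e + 1)) = 0 := by
  obtain ⟨Z, ξu, hu⟩ := exists_universal e (Xk I k)
  obtain ⟨ξ₀, hξ₀⟩ := Θ_surjective Z e ξu
  have h0 : (ιk I (e + 1) k Z).hom ξ₀ = 0 := (he ↑Z (e + 1) (Nat.lt_succ_self e)).elim _ _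
  obtain ⟨k', w, hw⟩ := exists_map_eq_zero I (e + 1) Z k ξ₀ h0
  refine ⟨k', w, fun N ξ => ?_⟩
  obtain ⟨f, rfl⟩ := hu N ξ
  have h1 := Θ_map_X (qw I w) Z e ξ₀
  rw [hw, Θ_zero, hξ₀] at h1
  rw [← Abelian.Ext.comp_assoc (Abelian.Ext.mk₀ (qw I w)) ξu (Abelian.Ext.mk₀ f)
    (zero_add (e + 1)) (add_zero (e + 1)) (by omega), ← h1]
  exact Abelian.Ext.zero_comp _ _ _ _ _

theorem shift_zero_aux {X X' : ModuleCat.{u} R} (t : X' ⟶ X) (j : ℕ)
    {S : ShortComplex (ModuleCat.{u} R)} (hS : S.ShortExact) [CategoryTheory.Injective S.X₂]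
    (h : ∀ (ξ : Abelian.Ext X S.X₃ (j + 1)),
      (Abelian.Ext.mk₀ t).comp ξ (zero_add (j + 1)) = 0)
    (ξ : Abelian.Ext X S.X₁ (j + 1 + 1)) :
    (Abelian.Ext.mk₀ t).comp ξ (zero_add (j + 1 + 1)) = 0 := by
  obtain ⟨x₃, hx₃⟩ := Abelian.Ext.covariant_sequence_exact₁ X hS ξ
    (Abelian.Ext.eq_zero_of_injective _) rfl
  rw [← hx₃, ← Abelian.Ext.comp_assoc (Abelian.Ext.mk₀ t) x₃ hS.extClass (zero_add (j + 1)) rfl
    (by omega), h x₃, Abelian.Ext.zero_comp]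

theorem shift_zero {X X' : ModuleCat.{u} R} (t : X' ⟶ X) (j : ℕ)
    (h : ∀ (N : ModuleCat.{u} R) (ξ : Abelian.Ext X N (j + 1)),
      (Abelian.Ext.mk₀ t).comp ξ (zero_add (j + 1)) = 0) :
    ∀ (N : ModuleCat.{u} R) (ξ : Abelian.Ext X N (j + 1 + 1)),
      (Abelian.Ext.mk₀ t).comp ξ (zero_add (j + 1 + 1)) = 0 := by
  intro N ξ
  obtain ⟨E, _, _, ι, hE, hι⟩ := exists_injective_embedding (R := R) ↑N
  have hS := shortComplexOf_shortExact ι (LinearMap.range ι).mkQ hι (Submodule.mkQ_surjective _)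
    (LinearMap.exact_map_mkQ_range ι)
  haveI := hE
  haveI : CategoryTheory.Injective (shortComplexOf ι (LinearMap.range ι).mkQ
      (LinearMap.exact_map_mkQ_range ι)).X₂ :=
    Module.injective_object_of_injective_module R E
  exact shift_zero_aux t j hS (fun ξ' => h _ ξ') ξ

theorem transition_zero_all (I : Ideal R) (e : ℕ) (he : LocCoh.CdLE R I e) (k : ℕᵒᵖᵒᵖ) :
    ∃ (k' : ℕᵒᵖᵒᵖ) (w : k ⟶ k'), ∀ (j : ℕ), e ≤ j → ∀ (N : ModuleCat.{u} R)
      (ξ : Abelian.Ext (Xk I k) N (j + 1)),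
      (Abelian.Ext.mk₀ (qw I w)).comp ξ (zero_add (j + 1)) = 0 := by
  obtain ⟨k', w, h⟩ := exists_transition_zero I e he k
  refine ⟨k', w, fun j hj => ?_⟩
  induction j, hj using Nat.le_induction with
  | base => exact h
  | succ j hj ih => exact shift_zero (qw I w) j ih

theorem qw_comp (I : Ideal R) {k k' k'' : ℕᵒᵖᵒᵖ} (w : k ⟶ k') (s : k' ⟶ k'') :
    qw I (w ≫ s) = qw I s ≫ qw I w := by
  show (localCohomology.ringModIdeals (localCohomology.idealPowersDiagram I)).map (w ≫ s).unop = _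
  rw [unop_comp, Functor.map_comp]

theorem transition_zero_strict (I : Ideal R) (e : ℕ) (he : LocCoh.CdLE R I e) (n : ℕ) :
    ∃ (m : ℕ) (hm : n < m), ∀ (j : ℕ), e ≤ j → ∀ (N : ModuleCat.{u} R)
      (ξ : Abelian.Ext (Xk I (op (op n))) N (j + 1)),
      (Abelian.Ext.mk₀ (qw I ((homOfLE (Nat.le_of_lt hm)).op.op :
        (op (op n) : ℕᵒᵖᵒᵖ) ⟶ op (op m)))).comp ξ (zero_add (j + 1)) = 0 := by
  obtain ⟨k', w, h⟩ := transition_zero_all I e he (op (op n))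
  have hle : n ≤ unop (unop k') := leOfHom w.unop.unop
  refine ⟨unop (unop k') + 1, Nat.lt_succ_of_le hle, fun j hj N ξ => ?_⟩
  let s : k' ⟶ (op (op (unop (unop k') + 1)) : ℕᵒᵖᵒᵖ) :=
    (homOfLE (Nat.le_succ (unop (unop k')))).op.op
  have hW : ((homOfLE (Nat.le_of_lt (Nat.lt_succ_of_le hle))).op.op :
      (op (op n) : ℕᵒᵖᵒᵖ) ⟶ op (op (unop (unop k') + 1))) = w ≫ s := Subsingleton.elim _ _
  rw [hW, qw_comp, ← Abelian.Ext.mk₀_comp_mk₀,
    Abelian.Ext.comp_assoc (Abelian.Ext.mk₀ (qw I s)) (Abelian.Ext.mk₀ (qw I w)) ξ (zero_add 0)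
      (zero_add (j + 1)) (by omega), h j hj N ξ]
  exact Abelian.Ext.comp_zero _ _ _ _ _

attribute [local instance] HasDerivedCategory.standard

/-- S1744 -/
theorem main1744 (A : Type u) [CommRing A] [IsNoetherianRing A] (I : Ideal A) (e : ℕ)
    (he : LocCoh.CdLE A I e) (n : ℕ) (hn : 1 ≤ n) :
    ∃ (m : ℕ) (hm : n < m), ∀ (N : Type u) [AddCommGroup N] [Module A N] (i : ℕ), e < i → ∀ φ : Dual.inD A (A ⧸ I ^ n) ⟶ (Dual.inD A N)⟦(i : ℤ)⟧, (DerivedCategory.singleFunctor (ModuleCat.{u} A) 0).map (ModuleCat.ofHom (Submodule.mapQ (I ^ m) (I ^ n) LinearMap.id (Ideal.pow_le_pow_right (Nat.le_of_lt hm)))) ≫ φ = 0 := by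
  obtain ⟨m, hm, h⟩ := transition_zero_strict I e he n
  refine ⟨m, hm, ?_⟩
  intro N _ _ i hi φ
  obtain ⟨j, rfl⟩ : ∃ j, i = j + 1 := ⟨i - 1, by omega⟩
  have hj : e ≤ j := by omega
  let ξ : Abelian.Ext (Xk I (op (op n))) (ModuleCat.of A N) (j + 1) :=
    Abelian.Ext.homEquiv.symm φ
  have hφ : ξ.hom = φ := Equiv.apply_symm_apply _ _
  have h1 := h j hj (ModuleCat.of A N) ξ
  have h2 := congrArg Abelian.Ext.hom h1
  simp only [Abelian.Ext.comp_hom, Abelian.Ext.mk₀_hom, ShiftedHom.mk₀_comp,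
    Abelian.Ext.zero_hom] at h2
  rw [hφ] at h2
  exact h2

end Groth.Agent.Lib.LocCohExtTransH7
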