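import Mathlib
import Groth.Prelude.Def_CohTop
import Groth.Agent.Lib.ExtZero_helper9

/-!
# Higher direct images commute with restriction to an open of the base

For `f : X ⟶ Y`, `V ⊆ Y` open and `g : f⁻¹ V ⟶ V` the restriction of `f`:
`(R^p f_* F)|_V ≅ R^p g_* (F|_{f⁻¹ V})`.  Restriction to an open is exact and preserves injectives,
so the restriction of an injective resolution is an injective resolution; and
`g_* (G|_{f⁻¹ V}) ≅ (f_* G)|_V` naturally in `G`.
-/

universe u

open CategoryTheory CategoryTheory.Limits Opposite TopologicalSpace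

namespace ResBase

open ResCoh (jj hj im)

section Res

variable {X : TopCat.{u}} (U : Opens X)

/-- The restriction of an injective resolution to an open is an injective resolution. -/
noncomputable def resRes (F : CohTop.Ab X) (R : InjectiveResolution F) :
    InjectiveResolution (CohTop.restr F U) where
  cocomplex := ((CohTop.restrFunctor U).mapHomologicalComplex _).obj R.cocomplex
  injective n := @ExtZero.injective_restr X U (R.cocomplex.X n) (R.injective n)
  ι := (HomologicalComplex.singleMapHomologicalComplex (CohTop.restrFunctor U)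
      (ComplexShape.up ℕ) 0).inv.app F ≫ ((CohTop.restrFunctor U).mapHomologicalComplex _).map R.ι
  quasiIso := by
    haveI := R.quasiIso
    infer_instance

end Res

section BC

variable {X Y : TopCat.{u}} (f : X ⟶ Y) (V : Opens Y)

/-- `f⁻¹ V`. -/
abbrev UU : Opens X := (Opens.map f).obj V

/-- The restriction `f⁻¹ V ⟶ V` of `f`. -/
abbrev gg : TopCat.of (UU f V) ⟶ TopCat.of V :=
  TopCat.ofHom ⟨(V : Set Y).restrictPreimage f, f.hom.continuous.restrictPreimage⟩

theorem additive_push {X Y : TopCat.{u}} (f : X ⟶ Y) : (CohTop.push f).Additive := inferInstance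

instance : (CohTop.push (gg f V)).Additive := additive_push _

theorem hAB (W : Opens (TopCat.of V)) :
    (im (UU f V)).obj ((Opens.map (gg f V)).obj W) ≤ (Opens.map f).obj ((im V).obj W) := by
  rintro _ ⟨y, hy, rfl⟩
  exact ⟨(gg f V) y, hy, rfl⟩

theorem hBA (W : Opens (TopCat.of V)) :
    (Opens.map f).obj ((im V).obj W) ≤ (im (UU f V)).obj ((Opens.map (gg f V)).obj W) := by
  intro x hx
  obtain ⟨v, hv, hvx⟩ := hx
  have hxU : x ∈ UU f V := by
    show f x ∈ V
    have : (v : Y) = f x := hvx
    rw [← this]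
    exact v.2
  refine ⟨⟨x, hxU⟩, ?_, rfl⟩
  show gg f V ⟨x, hxU⟩ ∈ W
  have : gg f V ⟨x, hxU⟩ = v := Subtype.ext hvx.symm
  rw [this]
  exact hv

/-- `g_* (G|_{f⁻¹ V}) ⟶ (f_* G)|_V`. -/
noncomputable def bcHom (G : CohTop.Ab X) :
    (CohTop.push (gg f V)).obj (CohTop.restr G (UU f V)) ⟶
      CohTop.restr ((CohTop.push f).obj G) V :=
  ⟨{ app := fun W => G.obj.map (homOfLE (hBA f V W.unop)).op
     naturality := fun W W' i => by
       change G.obj.map _ ≫ G.obj.map _ = G.obj.map _ ≫ G.obj.map _
       rw [← G.obj.map_comp, ← G.obj.map_comp]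
       rfl }⟩

/-- `(f_* G)|_V ⟶ g_* (G|_{f⁻¹ V})`. -/
noncomputable def bcInv (G : CohTop.Ab X) :
    CohTop.restr ((CohTop.push f).obj G) V ⟶
      (CohTop.push (gg f V)).obj (CohTop.restr G (UU f V)) :=
  ⟨{ app := fun W => G.obj.map (homOfLE (hAB f V W.unop)).op
     naturality := fun W W' i => by
       change G.obj.map _ ≫ G.obj.map _ = G.obj.map _ ≫ G.obj.map _
       rw [← G.obj.map_comp, ← G.obj.map_comp]
       rfl }⟩

/-- `g_* (G|_{f⁻¹ V}) ≅ (f_* G)|_V`. -/
noncomputable def bcIso (G : CohTop.Ab X) :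
    (CohTop.push (gg f V)).obj (CohTop.restr G (UU f V)) ≅
      CohTop.restr ((CohTop.push f).obj G) V where
  hom := bcHom f V G
  inv := bcInv f V G
  hom_inv_id := by
    ext : 2
    funext W
    change G.obj.map _ ≫ G.obj.map _ = 𝟙 _
    rw [← G.obj.map_comp]
    exact G.obj.map_id _
  inv_hom_id := by
    ext : 2
    funext W
    change G.obj.map _ ≫ G.obj.map _ = 𝟙 _
    rw [← G.obj.map_comp]
    exact G.obj.map_id _

theorem bcHom_naturality {G G' : CohTop.Ab X} (φ : G ⟶ G') :
    (CohTop.push (gg f V)).map ((CohTop.restrFunctor (UU f V)).map φ) ≫ bcHom f V G' =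
      bcHom f V G ≫ (CohTop.restrFunctor V).map ((CohTop.push f).map φ) := by
  ext : 2
  funext W
  change φ.hom.app _ ≫ G'.obj.map _ = G.obj.map _ ≫ φ.hom.app _
  exact (φ.hom.naturality _).symm

/-- The identification of the two complexes. -/
noncomputable def cxIso (K : CochainComplex (CohTop.Ab X) ℕ) :
    ((CohTop.push (gg f V)).mapHomologicalComplex (ComplexShape.up ℕ)).obj
        (((CohTop.restrFunctor (UU f V)).mapHomologicalComplex (ComplexShape.up ℕ)).obj K) ≅
      ((CohTop.restrFunctor V).mapHomologicalComplex (ComplexShape.up ℕ)).obj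
        (((CohTop.push f).mapHomologicalComplex (ComplexShape.up ℕ)).obj K) :=
  HomologicalComplex.Hom.isoOfComponents (fun i => bcIso f V (K.X i))
    (fun i j _ => (bcHom_naturality f V (K.d i j)).symm)

theorem nonempty_iso (F : CohTop.Ab X) (p : ℕ) :
    Nonempty (CohTop.restr ((CohTop.Rpush f p).obj F) V ≅
      (CohTop.Rpush (gg f V) p).obj (CohTop.restr F (UU f V))) := by
  let R := injectiveResolution F
  let R' := resRes (UU f V) F R
  let K := ((CohTop.push f).mapHomologicalComplex (ComplexShape.up ℕ)).obj R.cocomplex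
  let e1 : (CohTop.Rpush f p).obj F ≅ K.homology p := R.isoRightDerivedObj (CohTop.push f) p
  let e2 : (CohTop.Rpush (gg f V) p).obj (CohTop.restr F (UU f V)) ≅
      (((CohTop.push (gg f V)).mapHomologicalComplex (ComplexShape.up ℕ)).obj
        R'.cocomplex).homology p :=
    R'.isoRightDerivedObj (CohTop.push (gg f V)) p
  let e3 : (((CohTop.restrFunctor V).mapHomologicalComplex (ComplexShape.up ℕ)).obj K).homology p ≅
      (CohTop.restrFunctor V).obj (K.homology p) :=
    (K.sc p).mapHomologyIso (CohTop.restrFunctor V)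
  let e4 := cxIso f V R.cocomplex
  exact ⟨(CohTop.restrFunctor V).mapIso e1 ≪≫ e3.symm ≪≫
    ((HomologicalComplex.homologyFunctor _ _ p).mapIso e4).symm ≪≫ e2.symm⟩

end BC

end ResBase
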