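import Mathlib
import Groth.Prelude.Def_LocCohZ
import Groth.Agent.Lib.LocVan_helper9
import Groth.Agent.Lib.DerLES_helper9
import Groth.Agent.Lib.DerComp_helper9
import Groth.Agent.Lib.Leray_helper9
import Groth.Agent.Lib.ResBase_helper9

/-!
# Local cohomology sheaves and higher direct images from the open complement

For `j : U → X` open with closed complement `Z`, the sequence `0 → Γ_Z(I) → I → j_* j⁻¹ I → 0` is
exact for injective `I`.  The long exact sequence of derived functors gives
`ℋ^1_Z ≅ coker (id ⟶ j_* j⁻¹)` and `ℋ^{i+1}_Z ≅ j⁻¹ ⋙ R^i j_*` for `i ≥ 1`.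
-/

universe u

open CategoryTheory CategoryTheory.Limits Opposite TopologicalSpace

namespace LocCohIso

open AffVanish (Sec rs apS)

variable {X : TopCat.{u}} (U : Opens X)

/-- Mathlib's adjunction `j⁻¹ ⊣ j_*`. -/
noncomputable abbrev adjM : CohTop.pull (CohCx.incl U) ⊣ CohTop.push (CohCx.incl U) :=
  TopCat.Sheaf.pullbackPushforwardAdjunction AddCommGrpCat.{u} (CohCx.incl U)

/-- The unit with types in `CohTop.Ab` form. -/
noncomputable abbrev beta :
    𝟭 (CohTop.Ab X) ⟶ CohTop.pull (CohCx.incl U) ⋙ CohTop.push (CohCx.incl U) :=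
  (adjM U).unit

instance additive_push : (CohTop.push (CohCx.incl U)).Additive := ResBase.additive_push _

instance additive_pull : (CohTop.pull (CohCx.incl U)).Additive :=
  Adjunction.left_adjoint_additive (F := CohTop.pull (CohCx.incl U))
    (G := CohTop.push (CohCx.incl U)) (adjM U)

instance pfl_pull : PreservesFiniteLimits (CohTop.pull (CohCx.incl U)) :=
  Leray.preservesFiniteLimits_pull _

instance pfc_pull : PreservesFiniteColimits (CohTop.pull (CohCx.incl U)) := by
  haveI : PreservesColimitsOfSize.{0, 0} (CohTop.pull (CohCx.incl U)) :=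
    (adjM U).leftAdjoint_preservesColimits
  exact PreservesColimitsOfSize.preservesFiniteColimits _

instance pfl_push : PreservesFiniteLimits (CohTop.push (CohCx.incl U)) := by
  haveI : PreservesLimitsOfSize.{0, 0} (CohTop.push (CohCx.incl U)) :=
    (adjM U).rightAdjoint_preservesLimits
  exact PreservesLimitsOfSize.preservesFiniteLimits _

/-- The inclusion `Γ_Z ⟶ id`. -/
noncomputable def alpha : LocCohZ.sectSuppF U ⟶ 𝟭 (CohTop.Ab X) where
  app F := SectSupp.incl U F
  naturality _ _ φ := LocVan.map_incl U φ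

theorem alpha_unit : alpha U ≫ beta U = 0 := by
  refine NatTrans.ext (funext fun F => ?_)
  exact kernel.condition ((adjM U).unit.app F)

/-- The restriction-unit is an epimorphism on flasque sheaves. -/
theorem epi_unitRes (F : CohTop.Ab X) [TopCat.Sheaf.IsFlasque F] :
    Epi ((SectSupp.unitRes U).app F) := by
  refine (TopCat.Sheaf.isLocallySurjective_iff_epi (F := F)
    (G := (CohTop.restrFunctor U ⋙ CohTop.push (CohCx.incl U)).obj F)
    ((SectSupp.unitRes U).app F)).mp ?_
  rw [TopCat.Presheaf.isLocallySurjective_iff]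
  intro V c x hx
  obtain ⟨t, ht⟩ := SectSupp.rs_surjective F (SectSupp.VU_le U V) c
  refine ⟨V, le_rfl, ⟨t, ?_⟩, hx⟩
  refine ht.trans ?_
  have := congrArg (fun (f : ((CohTop.restrFunctor U ⋙ CohTop.push (CohCx.incl U)).obj F).obj.obj (op V) ⟶ _) => f c)
    (((CohTop.restrFunctor U ⋙ CohTop.push (CohCx.incl U)).obj F).obj.map_id (op V))
  exact this.symm

theorem epi_unit (F : CohTop.Ab X) [TopCat.Sheaf.IsFlasque F] :
    Epi ((beta U).app F) := by
  haveI := epi_unitRes U F
  have h : (beta U).app F ≫ (CohTop.push (CohCx.incl U)).map ((SectSupp.pullIso U).hom.app F) =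
      (SectSupp.unitRes U).app F := SectSupp.unit_eq U F
  haveI : IsIso ((CohTop.push (CohCx.incl U)).map ((SectSupp.pullIso U).hom.app F)) :=
    Functor.map_isIso _ _
  have h2 : (beta U).app F = (SectSupp.unitRes U).app F ≫
      inv ((CohTop.push (CohCx.incl U)).map ((SectSupp.pullIso U).hom.app F)) :=
    (IsIso.eq_comp_inv _).2 h
  have e : Epi ((SectSupp.unitRes U).app F ≫
      inv ((CohTop.push (CohCx.incl U)).map ((SectSupp.pullIso U).hom.app F))) := epi_comp _ _
  exact Eq.mpr (congrArg (fun f => Epi f) h2) e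

theorem sesOnInj : DerLES.SESOnInj (alpha U) (beta U) (alpha_unit U) := by
  intro I hI
  haveI := hI
  haveI : TopCat.Sheaf.IsFlasque I := Groth.Agent.Lib.FlasqueAcyclic.isFlasque_of_injective I
  refine ⟨inferInstanceAs (Mono (SectSupp.incl U I)), epi_unit U I, ?_⟩
  exact ShortComplex.exact_of_f_is_kernel _ (kernelIsKernel ((adjM U).unit.app I))

theorem injective_pull (I : CohTop.Ab X) (hI : Injective I) :
    Injective ((CohTop.pull (CohCx.incl U)).obj I) := by
  haveI := hI
  exact Injective.of_iso ((SectSupp.pullIso U).app I).symm (ExtZero.injective_restr U I)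

theorem main : Nonempty (LocCohZ.HZsh U 1 ≅ cokernel (beta U)) ∧
    ∀ i : ℕ, 1 ≤ i → Nonempty (LocCohZ.HZsh U (i + 1) ≅
      CohTop.pull (CohCx.incl U) ⋙ CohTop.Rpush (CohCx.incl U) i) := by
  refine ⟨⟨(DerLES.cokerIso (alpha U) (beta U) (alpha_unit U) (sesOnInj U)
    (fun F => DerLES.isZero_rightDerived_id F 0)).symm⟩, ?_⟩
  intro i hi
  obtain ⟨n, rfl⟩ := Nat.exists_eq_succ_of_ne_zero (Nat.pos_iff_ne_zero.mp hi)
  refine ⟨(DerLES.connIso (alpha U) (beta U) (alpha_unit U) (sesOnInj U) (n + 1)
    (fun F => DerLES.isZero_rightDerived_id F n)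
    (fun F => DerLES.isZero_rightDerived_id F (n + 1))).symm ≪≫ ?_⟩
  exact DerComp.natIso (CohTop.pull (CohCx.incl U)) (injective_pull U)
    (CohTop.push (CohCx.incl U)) (n + 1)

end LocCohIso
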