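import Mathlib
import Groth.Prelude.Def_Wider
import Groth.Agent.Lib.LocCohDTExact_helper7

/-!
# A partition of unity on a power of an ideal of cohomological dimension one (helper7)
-/

open CategoryTheory CategoryTheory.Limits Opposite

namespace Groth.Agent.Lib.LocCohSplitH7

open Groth.Agent.Lib.DT_helper3 Groth.Agent.Lib.LocCohDTH7 Groth.Agent.Lib.LocCohDTExactH7 LocCoh

universe u

/-- S0825 -/
theorem main (A : Type u) [CommRing A] [IsNoetherianRing A] (r : ℕ) (f : Fin r → A)
    (h₁ : LocCoh.CdLE A (Ideal.span (Set.range f)) 1) :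
    ∃ (c : ℕ) (φ : Fin r → (↥(Ideal.span (Set.range f) ^ (c + 1)) →ₗ[A] A)),
      ∀ x : ↥(Ideal.span (Set.range f) ^ (c + 1)), (x : A) = ∑ j, f j * φ j x := by
  set I : Ideal A := Ideal.span (Set.range f) with hI
  let g : (Fin r → A) →ₗ[A] A := Fintype.linearCombination A f
  have hrange : LinearMap.range g = I := Fintype.range_linearCombination A f
  have hgapp : ∀ a : Fin r → A, g a = ∑ j, f j * a j := by
    intro a
    show Fintype.linearCombination A f a = _
    rw [Fintype.linearCombination_apply]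
    exact Finset.sum_congr rfl fun j _ => by rw [smul_eq_mul, mul_comm]
  -- first sequence
  let K : Submodule A (Fin r → A) := LinearMap.ker g
  have hex1 : Function.Exact K.subtype g.rangeRestrict := by
    intro a
    constructor
    · intro ha
      have ha' : g a = 0 := congrArg Subtype.val ha
      exact ⟨⟨a, ha'⟩, rfl⟩
    · rintro ⟨k, rfl⟩
      exact Subtype.ext k.2
  have hsurj1 := D_surjective I K.subtype g.rangeRestrict (Submodule.injective_subtype _)
    (LinearMap.surjective_rangeRestrict g) hex1 (h₁ ↥K 2 (by norm_num))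
  -- second sequence
  have hex2 : Function.Exact (LinearMap.range g).subtype (LinearMap.range g).mkQ :=
    LinearMap.exact_subtype_mkQ _
  have htors : IsPowerTorsion I (A ⧸ LinearMap.range g) := by
    intro q
    obtain ⟨a, rfl⟩ := Submodule.mkQ_surjective _ q
    refine ⟨1, fun b hb => ?_⟩
    rw [pow_one, ← hrange] at hb
    rw [← map_smul, Submodule.mkQ_apply, Submodule.Quotient.mk_eq_zero, smul_eq_mul, mul_comm]
    exact (LinearMap.range g).smul_mem a hb
  obtain ⟨w, hw⟩ := D_exact I (LinearMap.range g).subtype (LinearMap.range g).mkQ hex2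
    (Submodule.injective_subtype _) (toDT I A 1) (DT_eq_zero_of_isPowerTorsion I htors _)
  obtain ⟨v, hv⟩ := hsurj1 w
  obtain ⟨n, ψ, rfl⟩ := exists_cls I v
  have hcomp : (LinearMap.range g).subtype ∘ₗ g.rangeRestrict ∘ₗ ψ = g ∘ₗ ψ :=
    LinearMap.ext fun _ => rfl
  have h3 : cls I n (g ∘ₗ ψ) = cls I n (smulMap I n (1 : A)) := by
    rw [← toDT_eq_cls' I n, ← hw, ← hv, map_cls, map_cls, hcomp]
  have h4 : cls I n (g ∘ₗ ψ - smulMap I n (1 : A)) = 0 := by
    rw [map_sub, h3, sub_self]
  rw [DT_helper3.cls_eq_zero_iff] at h4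
  obtain ⟨k, hk, hres⟩ := h4
  have hk' : n ≤ k + 1 := Nat.le_succ_of_le hk
  refine ⟨k, fun j => (LinearMap.proj j) ∘ₗ ψ ∘ₗ
    Submodule.inclusion (Ideal.pow_le_pow_right hk'), fun x => ?_⟩
  have hxk : (x : A) ∈ I ^ k := Ideal.pow_le_pow_right (Nat.le_succ k) x.2
  have h5 := LinearMap.congr_fun hres ⟨(x : A), hxk⟩
  rw [res_apply, LinearMap.sub_apply, LinearMap.zero_apply, sub_eq_zero, LinearMap.comp_apply,
    smulMap_apply, hgapp] at h5
  have h6 : (x : A) = ∑ j, f j * ψ ⟨(x : A), Ideal.pow_le_pow_right hk hxk⟩ j := by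
    rw [h5, smul_eq_mul, mul_one]
  exact h6

end Groth.Agent.Lib.LocCohSplitH7
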