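import Mathlib
import Groth.Prelude.Def_LocCohZ
import Groth.Agent.Lib.HZsh_helper2
import Groth.Agent.S0460

/-!
# Cohomology with supports versus restriction maps
-/

set_option autoImplicit false
universe u
open CategoryTheory Limits TopologicalSpace Opposite Abelian

namespace Groth.Agent.Lib.LocCohZ

open Groth.Agent.Lib.Cech Groth.Agent.Lib.FreeSheaf Groth.Agent.Lib.FlasqueAcyclic

variable {X : TopCat.{u}} (F : CohTop.Ab X) {W V : Opens X} (h : W ≤ V)

theorem res_bij_of_HZ_zero (N : ℕ) (hz : ∀ i, i ≤ N → ∀ x : LocCohZ.HZ F i h, x = 0) :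
    (∀ i, i < N → Function.Bijective (CohTop.res F i h)) ∧ Function.Injective (CohTop.res F N h) := by
  have hinj : ∀ i, i ≤ N → Function.Injective (CohTop.res F i h) := by
    intro i hi
    rw [injective_iff_map_eq_zero]
    intro z hz0
    obtain ⟨x, rfl⟩ := exists_toHU_of_res_eq_zero F h i z hz0
    rw [hz i hi x, map_zero]
  refine ⟨fun i hi => ⟨hinj i hi.le, ?_⟩, hinj N le_rfl⟩
  intro y
  exact exists_res_of_delta_eq_zero F h i y (hz (i + 1) hi _)

theorem HZ_zero_of_res_bij (N : ℕ)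
    (hb : ∀ i, i < N → Function.Bijective (CohTop.res F i h))
    (hN : Function.Injective (CohTop.res F N h)) :
    ∀ i, i ≤ N → ∀ x : LocCohZ.HZ F i h, x = 0 := by
  have hinj : ∀ i, i ≤ N → Function.Injective (CohTop.res F i h) := by
    intro i hi
    rcases Nat.lt_or_ge i N with h1 | h1
    · exact (hb i h1).1
    · have : i = N := le_antisymm hi h1
      subst this
      exact hN
  intro i hi x
  have h0 : LocCohZ.toHU F i h x = 0 := by
    apply hinj i hi
    rw [res_toHU, map_zero]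
  cases i with
  | zero => exact toHU_zero_injective F h (h0.trans (map_zero _).symm)
  | succ j =>
    obtain ⟨y, rfl⟩ := exists_delta_of_toHU_eq_zero F h j x h0
    obtain ⟨z, rfl⟩ := (hb j (by omega)).2 y
    exact delta_res F h j z

lemma toHU_resZ (n : ℕ) {W' V' : Opens X} (h' : W' ≤ V') (hW : W' ≤ W) (hV : V' ≤ V)
    (ξ : LocCohZ.HZ F n h) :
    LocCohZ.toHU F n h' (LocCohZ.resZ F n h h' hW hV ξ) = CohTop.res F n hV (LocCohZ.toHU F n h ξ) := by
  have e : cokernel.π (CohCx.freeSheafMap (Opens.grothendieckTopology X) (homOfLE h')) ≫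
      LocCohZ.zqMap h h' hW hV =
      CohCx.freeSheafMap (Opens.grothendieckTopology X) (homOfLE hV) ≫
        cokernel.π (CohCx.freeSheafMap (Opens.grothendieckTopology X) (homOfLE h)) :=
    cokernel.π_desc _ _ _
  show (Ext.mk₀ _).comp ((Ext.mk₀ _).comp ξ (zero_add n)) (zero_add n) =
    (Ext.mk₀ _).comp ((Ext.mk₀ _).comp ξ (zero_add n)) (zero_add n)
  rw [Ext.mk₀_comp_mk₀_assoc, Ext.mk₀_comp_mk₀_assoc, e]
  rfl

end Groth.Agent.Lib.LocCohZ
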