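import Mathlib
import Groth.Prelude.Def_LocCohZ
import Groth.Agent.Lib.HZsh_helper2
import Groth.Agent.Lib.HZshFunctor_helper2
import Groth.Agent.Lib.ExtMapBij_helper2

/-!
# Cohomology with supports can be computed on an open neighbourhood of the support
-/

set_option autoImplicit false
universe u
open CategoryTheory Limits TopologicalSpace Opposite Abelian

namespace Groth.Agent.Lib.LocCohZRestr

open Groth.Agent.Lib.Cech Groth.Agent.Lib.FreeSheaf Groth.Agent.Lib.FlasqueAcyclic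
  Groth.Agent.Lib.RestrOpen Groth.Agent.Lib.HZsh Groth.Agent.Lib.ExtMapBij

variable {X : TopCat.{u}} {W V : Opens X} (h : W ≤ V)

/-- the canonical section of `ℤ_V/ℤ_W` over `V` -/
noncomputable def γ₀ : (LocCohZ.zq h).obj.obj (op V) := secZ h (LocCohZ.zq h) (𝟙 _)

lemma res_γ₀ : res (LocCohZ.zq h).obj h (γ₀ h) = 0 := res_secZ _ _ _

lemma app_γ₀ {F : CohTop.Ab X} (a : LocCohZ.zq h ⟶ F) :
    (a.hom.app (op V)).hom (γ₀ h) = secZ h F a := by
  unfold γ₀
  rw [← secZ_comp, Category.id_comp]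

lemma jj_preimage_le : jj V ((Opens.map (CohCx.incl V)).obj W) ≤ W := by
  rintro _ ⟨y, hy, rfl⟩
  exact hy

include h in
lemma le_jj_preimage : W ≤ jj V ((Opens.map (CohCx.incl V)).obj W) :=
  fun x hx => ⟨⟨x, h hx⟩, hx, rfl⟩

/-- the canonical section, over the whole of the subspace `V` -/
noncomputable def γ : ((CohTop.restrFunctor V).obj (LocCohZ.zq h)).obj.obj (op ⊤) :=
  res (LocCohZ.zq h).obj (jj_top_le V) (γ₀ h)

lemma res_γ : res ((CohTop.restrFunctor V).obj (LocCohZ.zq h)).obj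
    (le_top : (Opens.map (CohCx.incl V)).obj W ≤ ⊤) (γ h) = 0 := by
  rw [restr_res]
  unfold γ
  rw [res_res]
  have := congrArg (res (LocCohZ.zq h).obj (jj_preimage_le (W := W) (V := V))) (res_γ₀ h)
  rw [res_res, map_zero] at this
  exact this

/-- the comparison map `ℤ_V/ℤ_W` (on `V`) `⟶ (ℤ_V/ℤ_W)|_V` -/
noncomputable def cc : LocCohZ.zq (le_top : (Opens.map (CohCx.incl V)).obj W ≤ ⊤) ⟶
    (CohTop.restrFunctor V).obj (LocCohZ.zq h) :=
  ofSecZ _ _ (γ h) (res_γ h)

lemma secZ_cc_comp {F : CohTop.Ab X} (a : LocCohZ.zq h ⟶ F) :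
    secZ (le_top : (Opens.map (CohCx.incl V)).obj W ≤ ⊤) ((CohTop.restrFunctor V).obj F)
      (cc h ≫ (CohTop.restrFunctor V).map a) = res F.obj (jj_top_le V) (secZ h F a) := by
  rw [secZ_comp]
  unfold cc
  rw [secZ_ofSecZ]
  unfold γ
  show (a.hom.app (op (jj V ⊤))).hom (res (LocCohZ.zq h).obj (jj_top_le V) (γ₀ h)) = _
  rw [res_app, app_γ₀]

lemma comp_bijective (F : CohTop.Ab X) :
    Function.Bijective (fun a : LocCohZ.zq h ⟶ F => cc h ≫ (CohTop.restrFunctor V).map a) := by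
  constructor
  · intro a b hab
    have h1 := congrArg (secZ (le_top : (Opens.map (CohCx.incl V)).obj W ≤ ⊤)
      ((CohTop.restrFunctor V).obj F)) hab
    rw [secZ_cc_comp, secZ_cc_comp] at h1
    have h2 := congrArg (res F.obj (le_jj_top V)) h1
    rw [res_res, res_res, res_self, res_self] at h2
    exact secZ_injective h F h2
  · intro b
    obtain ⟨t, ht⟩ : ∃ t, t = secZ (le_top : (Opens.map (CohCx.incl V)).obj W ≤ ⊤)
      ((CohTop.restrFunctor V).obj F) b := ⟨_, rfl⟩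
    have ht0 : res ((CohTop.restrFunctor V).obj F).obj
        (le_top : (Opens.map (CohCx.incl V)).obj W ≤ ⊤) t = 0 := by
      rw [ht]; exact res_secZ _ _ _
    have ht0' : res F.obj (jj_mono V (le_top : (Opens.map (CohCx.incl V)).obj W ≤ ⊤))
        (show F.obj.obj (op (jj V ⊤)) from t) = 0 := ht0
    have hs0 : res F.obj h (res F.obj (le_jj_top V) (show F.obj.obj (op (jj V ⊤)) from t)) = 0 := by
      rw [res_res]
      have := congrArg (res F.obj (le_jj_preimage h)) ht0'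
      rw [res_res, map_zero] at this
      exact this
    refine ⟨ofSecZ h F _ hs0, ?_⟩
    apply secZ_injective
    show secZ _ _ (cc h ≫ (CohTop.restrFunctor V).map (ofSecZ h F _ hs0)) = _
    rw [secZ_cc_comp, secZ_ofSecZ, res_res, res_self, ht]

lemma cmp_zero_bijective (F : CohTop.Ab X) :
    Function.Bijective (cmp (CohTop.restrFunctor V) (cc h) F 0) := by
  have hb := comp_bijective h F
  constructor
  · intro x y hxy
    obtain ⟨a, rfl⟩ := (Ext.mk₀_bijective _ _).2 x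
    obtain ⟨b, rfl⟩ := (Ext.mk₀_bijective _ _).2 y
    rw [ExtMapBij.cmp_apply, ExtMapBij.cmp_apply, Ext.mapExactFunctor_mk₀, Ext.mapExactFunctor_mk₀, Ext.mk₀_comp_mk₀,
      Ext.mk₀_comp_mk₀] at hxy
    rw [hb.1 ((Ext.mk₀_bijective _ _).1 hxy)]
  · intro y
    obtain ⟨b, rfl⟩ := (Ext.mk₀_bijective _ _).2 y
    obtain ⟨a, ha⟩ := hb.2 b
    refine ⟨Ext.mk₀ a, ?_⟩
    rw [ExtMapBij.cmp_apply, Ext.mapExactFunctor_mk₀, Ext.mk₀_comp_mk₀]
    exact congrArg _ ha

theorem cmp_bijective' (i : ℕ) (F : CohTop.Ab X) :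
    Function.Bijective (cmp (CohTop.restrFunctor V) (cc h) F i) := by
  apply cmp_bijective (CohTop.restrFunctor V) (cc h) (cmp_zero_bijective h)
  intro I hI i ξ
  haveI := hI
  haveI := ExtZero.injective_restr V I
  exact Ext.eq_zero_of_injective ξ

theorem main (i : ℕ) :
    ∃ e : ∀ F : CohTop.Ab X,
        LocCohZ.HZ F i h ≃+ LocCohZ.HZc (CohTop.restr F V) i ((Opens.map (CohCx.incl V)).obj W),
      ∀ (F G : CohTop.Ab X) (φ : F ⟶ G) (x : LocCohZ.HZ F i h),
        e G (LocCohZ.map φ i h x) =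
          LocCohZ.map ((CohTop.restrFunctor V).map φ) i
            (le_top : (Opens.map (CohCx.incl V)).obj W ≤ ⊤) (e F x) := by
  refine ⟨fun F => AddEquiv.ofBijective (cmp (CohTop.restrFunctor V) (cc h) F i)
    (cmp_bijective' h i F), ?_⟩
  intro F G φ x
  exact cmp_comp_mk₀ (CohTop.restrFunctor V) (cc h) φ i x

end Groth.Agent.Lib.LocCohZRestr
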