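import Mathlib
import Groth.Prelude.Def_LocCohZ
import Groth.Prelude.Def_CAlg
import Groth.Prelude.Def_FlatMod2
import Groth.Agent.Lib.LocCohCM_helper7
import Groth.Agent.Lib.DepthAlongOpen_helper2
import Groth.Agent.Lib.CechKos6_helper9
import Groth.Agent.Lib.KoszulLim2_helper6
import Groth.Agent.Lib.LocCohZRestr_helper2
import Groth.Agent.Lib.CechAffine_helper2

/-!
# Depth and cohomology with supports on affine opens (helper7)

For a coherent module `M` on a locally Noetherian scheme `X`, an open `U` and an affine open `V`: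
`H^i_{V ∖ U}(V, M) = 0` for all `i < n` iff `depth M_z ≥ n` for all `z ∈ V ∖ U`.
-/

set_option autoImplicit false
set_option backward.isDefEq.respectTransparency false
set_option backward.isDefEq.respectTransparency.types false
set_option linter.style.haveILetI false
set_option linter.unusedSectionVars false
universe u
open CategoryTheory CategoryTheory.Limits TopologicalSpace AlgebraicGeometry Opposite

namespace Groth.Agent.Lib.LocCohZDepthH7

/-! ### Ring side -/

theorem ringSide (A : Type u) [CommRing A] [IsNoetherianRing A] (fs : List A) (N : Type u)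
    [AddCommGroup N] [Module A N] [Module.Finite A N] (n : ℕ) :
    (∀ i : ℕ, i < n → Subsingleton (CohIII.koszulHLim fs (ModuleCat.of A N) i)) ↔
      ∀ p : PrimeSpectrum A, Ideal.span {a | a ∈ fs} ≤ p.asIdeal →
        (n : ℕ∞) ≤ LocCoh.depth (Localization.AtPrime p.asIdeal)
          (LocalizedModule p.asIdeal.primeCompl N) := by
  have h1 : (∀ i : ℕ, i < n → Subsingleton (CohIII.koszulHLim fs (ModuleCat.of A N) i)) ↔
      (∀ i : ℕ, i < n → Subsingleton (LocCoh.H (Ideal.span {a | a ∈ fs}) i N)) := by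
    refine forall₂_congr fun i _ => ?_
    obtain ⟨e⟩ := Groth.Agent.Lib.KoszulLim2_helper6.main5173 fs N i
    exact ⟨fun h => e.toEquiv.subsingleton, fun h => e.symm.toEquiv.subsingleton⟩
  rw [h1, Groth.Agent.Lib.LocCohCMH7.vanishing_iff_le_depth,
    Groth.Agent.DepthLib.idealDepth_eq_iInf, le_iInf₂_iff]

/-- two module structures with the same scalar multiplication give the same bundled module -/
theorem of_eq_of (A : Type u) [Ring A] (N : Type u) [AddCommGroup N] (i1 i2 : Module A N)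
    (h : ∀ (r : A) (x : N), (letI := i1; r • x) = (letI := i2; r • x)) :
    @ModuleCat.of A _ N _ i1 = @ModuleCat.of A _ N _ i2 := by
  obtain rfl : i1 = i2 := Module.ext' i1 i2 h
  rfl

/-- a quasi-compact open of an affine scheme is a finite union of basic opens -/
theorem exists_list_Uf {Y : Scheme.{u}} [IsAffine Y] (W : Y.Opens) (hW : IsCompact (W : Set Y)) :
    ∃ fs : List Γ(Y, ⊤), KoszulCokG.Uf fs = W := by
  classical
  obtain ⟨Us, hsub, hfin, hsup⟩ := (isBasis_basicOpen Y).exists_finite_of_isCompact hW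
  choose! g hg using (fun (O : Y.Opens) (hO : O ∈ Us) => hsub hO)
  refine ⟨hfin.toFinset.toList.map g, ?_⟩
  rw [hsup]
  apply le_antisymm
  · apply iSup_le
    intro i
    have hmem : (hfin.toFinset.toList.map g).get i ∈ hfin.toFinset.toList.map g :=
      List.get_mem _ i
    obtain ⟨O, hO, hOg⟩ := List.mem_map.1 hmem
    have hO' : O ∈ Us := hfin.mem_toFinset.1 (Finset.mem_toList.1 hO)
    rw [← hOg, hg O hO']
    exact le_sSup hO'
  · apply sSup_le
    intro O hO
    have hmem : g O ∈ hfin.toFinset.toList.map g :=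
      List.mem_map.2 ⟨O, Finset.mem_toList.2 (hfin.mem_toFinset.2 hO), rfl⟩
    obtain ⟨i, hi⟩ := List.get_of_mem hmem
    have h1 : Y.basicOpen ((hfin.toFinset.toList.map g).get i) = O := by
      rw [hi, hg O hO]
    rw [← h1]
    exact le_iSup (fun i : Fin (hfin.toFinset.toList.map g).length =>
      Y.basicOpen ((hfin.toFinset.toList.map g).get i)) i

/-! ### The affine side -/

variable {X : Scheme.{u}} [IsLocallyNoetherian X] (U : X.Opens) (M : X.Modules)

theorem affineSide (hM : Coh.IsCoh M) {V : X.Opens} (hV : IsAffineOpen V) (n : ℕ) :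
    (∀ i : ℕ, i < n → Subsingleton
        (LocCohZ.HZ (X := X.carrier) (Coh.toAb M) i (inf_le_left : V ⊓ U ≤ V))) ↔
      ∀ z : X, z ∈ V → z ∉ U →
        (n : ℕ∞) ≤ LocCoh.depth (X.presheaf.stalk z) (M.presheaf.stalk z) := by
  classical
  haveI : M.IsQuasicoherent := hM.1
  haveI hFT : SheafOfModules.IsFiniteType (R := X.ringCatSheaf) M := hM.2
  have hWtV : V.ι ''ᵁ (⊤ : (V : Scheme.{u}).Opens) = V := V.ι_image_top
  have hWt : IsAffineOpen (V.ι ''ᵁ (⊤ : (V : Scheme.{u}).Opens)) := hWtV.symm ▸ hV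
  haveI : IsAffine (V : Scheme.{u}) := hV
  haveI : IsNoetherianRing Γ(X, V.ι ''ᵁ (⊤ : (V : Scheme.{u}).Opens)) :=
    IsLocallyNoetherian.component_noetherian ⟨_, hWt⟩
  haveI : Module.Finite Γ(X, V.ι ''ᵁ (⊤ : (V : Scheme.{u}).Opens))
      Γ(M, V.ι ''ᵁ (⊤ : (V : Scheme.{u}).Opens)) := QCohFT.finite_of_isFiniteType M hWt
  haveI : IsNoetherianRing Γ(X, V) := IsLocallyNoetherian.component_noetherian ⟨V, hV⟩
  haveI : NoetherianSpace ↥V := noetherianSpace_of_isAffineOpen V hV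
  haveI : NoetherianSpace (V : Scheme.{u}) := noetherianSpace_of_isAffineOpen V hV
  haveI : (M.restrict V.ι).IsQuasicoherent := inferInstance
  -- the open `V ∩ U` of `V` as a union of basic opens
  let W' : (V : Scheme.{u}).Opens := (Opens.map (CohCx.incl V)).obj (V ⊓ U)
  have hcomp : IsCompact (W' : Set (V : Scheme.{u})) :=
    TopologicalSpace.NoetherianSpace.isCompact _
  obtain ⟨fs, hfs⟩ := exists_list_Uf (Y := (V : Scheme.{u})) W' hcomp
  have haff : ∀ i : Fin fs.length, IsAffineOpen ((V : Scheme.{u}).basicOpen (fs.get i)) :=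
    fun i => (isAffineOpen_top (V : Scheme.{u})).basicOpen _
  have hX : ∀ (m : ℕ) (ξ : CohTop.HU (X := (V : Scheme.{u}).carrier)
      (Coh.toAb (M.restrict V.ι)) (m + 1) ⊤), ξ = 0 := fun m ξ =>
    Groth.Agent.Lib.Cech.ext_fr_eq_zero_of_isAffineOpen (M.restrict V.ι) ⊤
      (isAffineOpen_top (V : Scheme.{u})) m ξ
  -- the two module structures on the sections agree
  have hobj : KoszulCokG.Mtop (M.restrict V.ι) =
      ModuleCat.of Γ(X, V.ι ''ᵁ (⊤ : (V : Scheme.{u}).Opens))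
        Γ(M, V.ι ''ᵁ (⊤ : (V : Scheme.{u}).Opens)) := by
    refine of_eq_of Γ(X, V.ι ''ᵁ (⊤ : (V : Scheme.{u}).Opens))
      Γ(M, V.ι ''ᵁ (⊤ : (V : Scheme.{u}).Opens)) _ _ ?_
    intro r x
    have h1 := Scheme.Modules.smul_restrictAppIso_hom_apply V.ι M ⊤ r x
    rw [V.ι_appIso] at h1
    exact h1
  -- the chain of identifications
  have hchain : ∀ i : ℕ, Subsingleton
      (LocCohZ.HZ (X := X.carrier) (Coh.toAb M) i (inf_le_left : V ⊓ U ≤ V)) ↔
      Subsingleton (CohIII.koszulHLim fs (ModuleCat.of Γ(X, V.ι ''ᵁ (⊤ : (V : Scheme.{u}).Opens))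
        Γ(M, V.ι ''ᵁ (⊤ : (V : Scheme.{u}).Opens))) i) := by
    intro i
    obtain ⟨e1, -⟩ := Groth.Agent.Lib.LocCohZRestr.main (X := X.carrier)
      (inf_le_left : V ⊓ U ≤ V) i
    obtain ⟨e2⟩ := CechKos.nonempty_HZM_koszul (X := (V : Scheme.{u})) fs haff (M.restrict V.ι) hX i
    rw [hfs] at e2
    rw [← hobj]
    exact ⟨fun h => (e2.symm.toEquiv.trans (e1 (Coh.toAb M)).symm.toEquiv).subsingleton,
      fun h => ((e1 (Coh.toAb M)).toEquiv.trans e2.toEquiv).subsingleton⟩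
  have hring := ringSide Γ(X, V.ι ''ᵁ (⊤ : (V : Scheme.{u}).Opens)) fs
    Γ(M, V.ι ''ᵁ (⊤ : (V : Scheme.{u}).Opens)) n
  have hstep : (∀ i : ℕ, i < n → Subsingleton
        (LocCohZ.HZ (X := X.carrier) (Coh.toAb M) i (inf_le_left : V ⊓ U ≤ V))) ↔
      (∀ i : ℕ, i < n → Subsingleton (CohIII.koszulHLim fs
        (ModuleCat.of Γ(X, V.ι ''ᵁ (⊤ : (V : Scheme.{u}).Opens))
          Γ(M, V.ι ''ᵁ (⊤ : (V : Scheme.{u}).Opens))) i)) :=
    forall₂_congr fun i _ => hchain i
  rw [hstep, hring]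
  -- points and primes
  have hK2 : ∀ (f : Γ(X, V.ι ''ᵁ (⊤ : (V : Scheme.{u}).Opens))) (z : X) (hz : z ∈ V),
      z ∈ X.basicOpen f ↔ (⟨z, hz⟩ : (V : Scheme.{u})) ∈ (V : Scheme.{u}).basicOpen f := by
    intro f z hz
    have h1 := Scheme.image_basicOpen V.ι (U := (⊤ : (V : Scheme.{u}).Opens)) f
    rw [V.ι_appIso] at h1
    have h2 : X.basicOpen f = V.ι ''ᵁ (V : Scheme.{u}).basicOpen f := h1.symm
    rw [h2]
    exact Scheme.Opens.mem_ι_image_iff (U := V) (x := ⟨z, hz⟩)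
  have hK3 : ∀ (z : X) (hz : z ∈ V),
      (⟨z, hz⟩ : (V : Scheme.{u})) ∈ KoszulCokG.Uf fs ↔ z ∈ U := by
    intro z hz
    rw [hfs]
    exact ⟨fun h => h.2, fun h => ⟨hz, h⟩⟩
  have hK4 : ∀ (z : X) (hz : z ∈ V),
      (⟨z, hz⟩ : (V : Scheme.{u})) ∈ KoszulCokG.Uf fs ↔
        ∃ i : Fin fs.length, (⟨z, hz⟩ : (V : Scheme.{u})) ∈ (V : Scheme.{u}).basicOpen (fs.get i) :=
    fun z hz => Opens.mem_iSup
  have hsurj : ∀ p : PrimeSpectrum Γ(X, V.ι ''ᵁ (⊤ : (V : Scheme.{u}).Opens)),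
      ∃ z' : ↥(V.ι ''ᵁ (⊤ : (V : Scheme.{u}).Opens)), hWt.primeIdealOf z' = p :=
    fun p => ⟨hWt.isoSpec.inv p, Scheme.inv_hom_apply hWt.isoSpec p⟩
  constructor
  · intro H z hz hzU
    have hzW : z ∈ V.ι ''ᵁ (⊤ : (V : Scheme.{u}).Opens) := hWtV.symm ▸ hz
    rw [Groth.Agent.Lib.DepthAlongOpen.depth_stalk_eq M hM hWt hzW]
    apply H
    rw [Ideal.span_le]
    intro f hf
    obtain ⟨i, hi⟩ := List.get_of_mem (show f ∈ fs from hf)
    show f ∈ (hWt.primeIdealOf ⟨z, hzW⟩).asIdeal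
    rw [CartDimH8.mem_primeIdealOf_iff hWt z hzW f, hK2 f z hz]
    intro hmem
    apply hzU
    rw [← hK3 z hz, hK4 z hz]
    exact ⟨i, hi ▸ hmem⟩
  · intro H p hp
    obtain ⟨⟨z, hzW⟩, rfl⟩ := hsurj p
    have hz : z ∈ V := hWtV ▸ hzW
    rw [← Groth.Agent.Lib.DepthAlongOpen.depth_stalk_eq M hM hWt hzW]
    apply H z hz
    intro hzU
    rw [← hK3 z hz, hK4 z hz] at hzU
    obtain ⟨i, hi⟩ := hzU
    rw [← hK2 (fs.get i) z hz, ← not_not (a := z ∈ X.basicOpen (fs.get i)),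
      ← CartDimH8.mem_primeIdealOf_iff hWt z hzW (fs.get i)] at hi
    apply hi
    apply hp
    apply Ideal.subset_span
    exact List.get_mem fs i

end Groth.Agent.Lib.LocCohZDepthH7
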