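import Mathlib
import Groth.Prelude.Def_LocCohZ
import Groth.Agent.Lib.HZsh_helper2
import Groth.Agent.Lib.LocCohZDepth1_helper7
import Groth.Agent.S6022

/-!
# Depth and the local cohomology sheaves (helper7)

For a coherent module `M` on a locally Noetherian scheme `X` and an open `U` with closed complement
`Y`: `ℋ^i_Y(M) = 0` for all `i < n` iff `depth M_x ≥ n` for all `x ∈ Y`.
-/

set_option autoImplicit false
set_option backward.isDefEq.respectTransparency false
set_option backward.isDefEq.respectTransparency.types false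
set_option linter.style.haveILetI false
set_option linter.unusedSectionVars false
universe u

namespace Groth.Agent.Lib.LocCohZDepthH7

section Top

open CategoryTheory Limits TopologicalSpace Opposite Abelian
open Groth.Agent.Lib.Cech Groth.Agent.Lib.FreeSheaf Groth.Agent.Lib.FlasqueAcyclic
  Groth.Agent.Lib.RestrOpen Groth.Agent.Lib.SectSupp Groth.Agent.Lib.HZsh

variable {X : TopCat.{u}} (U : Opens X) {F : CohTop.Ab X} (R : InjectiveResolution F)

/-- local criterion for the vanishing of `ℋ^0_Z(F)` -/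
theorem exactAt_zero_of_local
    (hloc : ∀ (V : Opens X) (ξ : LocCohZ.HZ F 0 (inf_le_left : V ⊓ U ≤ V)) (x : X), x ∈ V →
      ∃ (V' : Opens X) (hV' : V' ≤ V), x ∈ V' ∧
        LocCohZ.resZ F 0 (inf_le_left : V ⊓ U ≤ V) (inf_le_left : V' ⊓ U ≤ V')
          (inf_le_inf_right U hV') hV' ξ = 0) :
    (KZ U R).ExactAt 0 := by
  rw [HomologicalComplex.exactAt_iff' (KZ U R) 0 0 1 (by simp) (by simp)]
  apply exact_of_local
  intro V c hc x hx
  change ((KZ U R).X 0).obj.obj (op V) at c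
  have hc' : (((KZ U R).d 0 1).hom.app (op V)).hom c = 0 := hc
  obtain ⟨σ, hσ⟩ : ∃ σ, σ = ((ι U (R.cocomplex.X 0)).hom.app (op V)).hom c := ⟨_, rfl⟩
  have hσ0 : res (R.cocomplex.X 0).obj (inf_le_left : V ⊓ U ≤ V) σ = 0 := by
    rw [hσ]; exact res_ι U _ V c
  have hdσ : ((R.cocomplex.d 0 1).hom.app (op V)).hom σ = 0 := by
    rw [hσ]
    refine (ι_d U R 0 1 V c).symm.trans ?_
    rw [hc']
    exact map_zero _
  have ha : ofSecZ _ _ σ hσ0 ≫ R.cocomplex.d 0 1 = 0 := by
    apply secZ_injective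
    rw [secZ_comp, secZ_ofSecZ, hdσ, secZ_zero]
  -- factor through `F`
  have hlift := R.exact₀.lift_f (ofSecZ _ _ σ hσ0) ha
  obtain ⟨b, hb⟩ : ∃ b, b = R.exact₀.lift (ofSecZ _ _ σ hσ0) ha := ⟨_, rfl⟩
  rw [← hb] at hlift
  obtain ⟨V', hV', hxV', hξ⟩ := hloc V
    (Ext.mk₀ (b ≫ (HomologicalComplex.singleObjXSelf (ComplexShape.up ℕ) 0 F).hom)) x hx
  have h1 : LocCohZ.zqMap (inf_le_left : V ⊓ U ≤ V) (inf_le_left : V' ⊓ U ≤ V')
      (inf_le_inf_right U hV') hV' ≫
        (b ≫ (HomologicalComplex.singleObjXSelf (ComplexShape.up ℕ) 0 F).hom) = 0 := by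
    apply (Ext.mk₀_bijective _ _).1
    rw [Ext.mk₀_zero, ← Ext.mk₀_comp_mk₀]
    exact hξ
  have h2 : LocCohZ.zqMap (inf_le_left : V ⊓ U ≤ V) (inf_le_left : V' ⊓ U ≤ V')
      (inf_le_inf_right U hV') hV' ≫ b = 0 := by
    rw [← cancel_mono (HomologicalComplex.singleObjXSelf (ComplexShape.up ℕ) 0 F).hom,
      Category.assoc, h1, zero_comp]
  have h3 : LocCohZ.zqMap (inf_le_left : V ⊓ U ≤ V) (inf_le_left : V' ⊓ U ≤ V')
      (inf_le_inf_right U hV') hV' ≫ ofSecZ _ _ σ hσ0 = 0 := by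
    rw [← hlift, ← Category.assoc, h2, zero_comp]
  have hσres : res (R.cocomplex.X 0).obj hV' σ = 0 := by
    have h4 := secZ_zqMap (inf_le_left : V ⊓ U ≤ V) (inf_le_left : V' ⊓ U ≤ V')
      (inf_le_inf_right U hV') hV' (ofSecZ _ _ σ hσ0)
    rw [h3, secZ_zero, secZ_ofSecZ] at h4
    exact h4.symm
  have e2 : ((ι U (R.cocomplex.X 0)).hom.app (op V')).hom
      (res ((KZ U R).X 0).obj hV' c) = res (R.cocomplex.X 0).obj hV' σ := by
    refine (res_app _ (ι U (R.cocomplex.X 0)).hom hV' c).trans ?_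
    rw [hσ]
  have hres0 : res ((KZ U R).X 0).obj hV' c = 0 := by
    apply ι_injective U (R.cocomplex.X 0) V'
    rw [e2, hσres]
    exact (map_zero _).symm
  refine ⟨V', hV', hxV', 0, ?_⟩
  exact (map_zero _).trans hres0.symm

end Top

section Sch

open CategoryTheory CategoryTheory.Limits TopologicalSpace AlgebraicGeometry

/-- S6034 -/
theorem main (X : Scheme.{u}) [IsLocallyNoetherian X] (U : X.Opens)
    (M : X.Modules) (hM : Coh.IsCoh M) (n : ℕ) :
    (∀ i : ℕ, i < n → IsZero ((LocCohZ.HZsh (X := X.carrier) U i).obj (Coh.toAb M))) ↔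
      ∀ x : X, x ∉ (U : Set X) →
        (n : ℕ∞) ≤ LocCoh.depth (X.presheaf.stalk x) (M.presheaf.stalk x) := by
  obtain ⟨R⟩ : Nonempty (InjectiveResolution (Coh.toAb M)) := ⟨injectiveResolution (Coh.toAb M)⟩
  constructor
  · intro H x hxU
    have H2 := (Groth.Agent.S6022.result (X := X.carrier) (Coh.toAb M) U n).1 H
    obtain ⟨V, hVaff, hxV, -⟩ :=
      Opens.isBasis_iff_nbhd.1 X.isBasis_affineOpens (U := (⊤ : X.Opens)) (x := x) trivial
    exact (affineSide U M hM hVaff n).1 (fun i hi => H2 V i hi) x hxV hxU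
  · intro H i hi
    rw [Groth.Agent.Lib.HZsh.isZero_HZsh_iff (X := X.carrier) U R]
    -- the local vanishing
    have hloc : ∀ (V : X.Opens) (x : X), x ∈ V → ∃ (V' : X.Opens) (hV' : V' ≤ V), x ∈ V' ∧
        Subsingleton (LocCohZ.HZ (X := X.carrier) (Coh.toAb M) i
          (inf_le_left : V' ⊓ U ≤ V')) := by
      intro V x hx
      obtain ⟨V', hVaff, hxV', hV'V⟩ :=
        Opens.isBasis_iff_nbhd.1 X.isBasis_affineOpens (U := V) (x := x) hx
      refine ⟨V', hV'V, hxV', ?_⟩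
      exact (affineSide U M hM hVaff n).2 (fun z _ hzU => H z hzU) i hi
    cases i with
    | zero =>
      apply exactAt_zero_of_local
      intro V ξ x hx
      obtain ⟨V', hV', hxV', hsub⟩ := hloc V x hx
      exact ⟨V', hV', hxV', Subsingleton.elim _ _⟩
    | succ q =>
      apply Groth.Agent.Lib.HZsh.exactAt_succ_of_local
      intro V ξ x hx
      obtain ⟨V', hV', hxV', hsub⟩ := hloc V x hx
      exact ⟨V', hV', hxV', Subsingleton.elim _ _⟩

end Sch

end Groth.Agent.Lib.LocCohZDepthH7
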