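import Mathlib
import Groth.Prelude.Def_LocCohZ
import Groth.Prelude.Def_CAlg
import Groth.Agent.Lib.LocCohZDepth2_helper7
import Groth.Agent.Lib.LocCohGV_helper7
import Groth.Agent.Lib.LocCohFlatBC_helper7

/-!
# Vanishing of the local cohomology sheaves above the dimension (helper7)

`X` locally Noetherian, `Y` closed with open complement `U`, `G` quasi-coherent, `i` with
`dim O_{X,x} < i` for all `x ∈ Y`: then `ℋ^i_Y(G) = 0`.
-/

set_option autoImplicit false
set_option backward.isDefEq.respectTransparency false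
set_option backward.isDefEq.respectTransparency.types false
set_option linter.style.haveILetI false
set_option linter.unusedSectionVars false
universe u
open CategoryTheory CategoryTheory.Limits TopologicalSpace AlgebraicGeometry Opposite TensorProduct

namespace Groth.Agent.Lib.LocCohZDimH7

open Groth.Agent.Lib.LocCohZDepthH7

/-! ### Ring side -/

/-- Grothendieck vanishing, local form: `H^i_I(M) = 0` if `dim A_p < i` for all primes `p ⊇ I`. -/
theorem ringVanishing (A : Type u) [CommRing A] [IsNoetherianRing A] (I : Ideal A) (M : Type u)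
    [AddCommGroup M] [Module A M] (i : ℕ)
    (h : ∀ (p : Ideal A) [p.IsPrime], I ≤ p →
      ringKrullDim (Localization.AtPrime p) < (i : WithBot ℕ∞)) :
    Subsingleton (LocCoh.H I i M) := by
  have hloc : ∀ (p : Ideal A) [p.IsMaximal],
      Subsingleton (Localization.AtPrime p ⊗[A] LocCoh.H I i M) := by
    intro p _
    obtain ⟨e⟩ := Groth.Agent.Lib.LocCohFlatBCH7.main (Localization.AtPrime p) I i M
    have hs : Subsingleton (LocCoh.H (I.map (algebraMap A (Localization.AtPrime p))) i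
        (Localization.AtPrime p ⊗[A] M)) := by
      by_cases hIp : I ≤ p
      · apply Groth.Agent.Lib.LocCohGVH7.GV
        exact lt_of_le_of_lt (Module.supportDim_le_ringKrullDim _ _) (h p hIp)
      · obtain ⟨x, hxI, hxp⟩ := SetLike.not_le_iff_exists.1 hIp
        apply Groth.Agent.Lib.LocCohGVH7.subsingleton_of_smul_injective _ i _
          (algebraMap A (Localization.AtPrime p) x) (Ideal.mem_map_of_mem _ hxI)
        intro m hm
        have hu : IsUnit (algebraMap A (Localization.AtPrime p) x) :=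
          IsLocalization.map_units (Localization.AtPrime p) (⟨x, hxp⟩ : p.primeCompl)
        obtain ⟨u, hu'⟩ := hu
        have h1 : (↑u⁻¹ : Localization.AtPrime p) • ((u : Localization.AtPrime p) • m) = m := by
          rw [smul_smul, Units.inv_mul, one_smul]
        rw [← h1, hu', hm, smul_zero]
    exact e.toEquiv.subsingleton
  exact Module.subsingleton_of_localization_maximal
    (Mₚ := fun (p : Ideal A) (_ : p.IsMaximal) => Localization.AtPrime p ⊗[A] LocCoh.H I i M)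
    (f := fun (p : Ideal A) (_ : p.IsMaximal) =>
      TensorProduct.mk A (Localization.AtPrime p) (LocCoh.H I i M) 1) hloc

/-! ### The affine dictionary -/

variable {X : Scheme.{u}} [IsLocallyNoetherian X] (U : X.Opens) (M : X.Modules)

/-- for an affine open `V`, cohomology with supports in `V ∖ U` is local cohomology of the ring of
sections, and points of `V ∖ U` are the primes containing the ideal -/
theorem affineDict [M.IsQuasicoherent] {V : X.Opens} (hV : IsAffineOpen V)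
    (hWt : IsAffineOpen (V.ι ''ᵁ (⊤ : (V : Scheme.{u}).Opens))) :
    ∃ fs : List Γ(X, V.ι ''ᵁ (⊤ : (V : Scheme.{u}).Opens)),
      (∀ i : ℕ, Subsingleton
          (LocCohZ.HZ (X := X.carrier) (Coh.toAb M) i (inf_le_left : V ⊓ U ≤ V)) ↔
        Subsingleton (LocCoh.H (Ideal.span {a | a ∈ fs}) i
          Γ(M, V.ι ''ᵁ (⊤ : (V : Scheme.{u}).Opens)))) ∧
      ∀ (z : X) (hzW : z ∈ V.ι ''ᵁ (⊤ : (V : Scheme.{u}).Opens)),
        Ideal.span {a | a ∈ fs} ≤ (hWt.primeIdealOf ⟨z, hzW⟩).asIdeal → z ∉ U := by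
  classical
  have hWtV : V.ι ''ᵁ (⊤ : (V : Scheme.{u}).Opens) = V := V.ι_image_top
  haveI : IsAffine (V : Scheme.{u}) := hV
  haveI : IsNoetherianRing Γ(X, V) := IsLocallyNoetherian.component_noetherian ⟨V, hV⟩
  haveI : IsNoetherianRing Γ(X, V.ι ''ᵁ (⊤ : (V : Scheme.{u}).Opens)) :=
    IsLocallyNoetherian.component_noetherian ⟨_, hWt⟩
  haveI : NoetherianSpace ↥V := noetherianSpace_of_isAffineOpen V hV
  haveI : NoetherianSpace (V : Scheme.{u}) := noetherianSpace_of_isAffineOpen V hV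
  haveI : (M.restrict V.ι).IsQuasicoherent := inferInstance
  let W' : (V : Scheme.{u}).Opens := (Opens.map (CohCx.incl V)).obj (V ⊓ U)
  have hcomp : IsCompact (W' : Set (V : Scheme.{u})) :=
    TopologicalSpace.NoetherianSpace.isCompact _
  obtain ⟨fs, hfs⟩ := exists_list_Uf (Y := (V : Scheme.{u})) W' hcomp
  have haff : ∀ i : Fin fs.length, IsAffineOpen ((V : Scheme.{u}).basicOpen (fs.get i)) :=
    fun i => (isAffineOpen_top (V : Scheme.{u})).basicOpen _
  have hX : ∀ (m : ℕ) (ξ : CohTop.HU (X := (V : Scheme.{u}).carrier)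
      (Coh.toAb (M.restrict V.ι)) (m + 1) ⊤), ξ = 0 := fun m ξ =>
    Groth.Agent.Lib.Cech.ext_fr_eq_zero_of_isAffineOpen (M.restrict V.ι) ⊤
      (isAffineOpen_top (V : Scheme.{u})) m ξ
  have hobj : KoszulCokG.Mtop (M.restrict V.ι) =
      ModuleCat.of Γ(X, V.ι ''ᵁ (⊤ : (V : Scheme.{u}).Opens))
        Γ(M, V.ι ''ᵁ (⊤ : (V : Scheme.{u}).Opens)) := by
    refine of_eq_of Γ(X, V.ι ''ᵁ (⊤ : (V : Scheme.{u}).Opens))
      Γ(M, V.ι ''ᵁ (⊤ : (V : Scheme.{u}).Opens)) _ _ ?_
    intro r x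
    have h1 := Scheme.Modules.smul_restrictAppIso_hom_apply V.ι M ⊤ r x
    rw [V.ι_appIso] at h1
    exact h1
  refine ⟨fs, ?_, ?_⟩
  · intro i
    obtain ⟨e1, -⟩ := Groth.Agent.Lib.LocCohZRestr.main (X := X.carrier)
      (inf_le_left : V ⊓ U ≤ V) i
    obtain ⟨e2⟩ := CechKos.nonempty_HZM_koszul (X := (V : Scheme.{u})) fs haff (M.restrict V.ι) hX i
    rw [hfs, hobj] at e2
    obtain ⟨e3⟩ := Groth.Agent.Lib.KoszulLim2_helper6.main5173
      (A := Γ(X, V.ι ''ᵁ (⊤ : (V : Scheme.{u}).Opens))) fs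
      Γ(M, V.ι ''ᵁ (⊤ : (V : Scheme.{u}).Opens)) i
    exact ⟨fun h => (e3.toEquiv.trans
        (e2.symm.toEquiv.trans (e1 (Coh.toAb M)).symm.toEquiv)).subsingleton,
      fun h => ((e1 (Coh.toAb M)).toEquiv.trans (e2.toEquiv.trans e3.symm.toEquiv)).subsingleton⟩
  · intro z hzW hp hzU
    have hz : z ∈ V := hWtV ▸ hzW
    have hK2 : ∀ (f : Γ(X, V.ι ''ᵁ (⊤ : (V : Scheme.{u}).Opens))),
        z ∈ X.basicOpen f ↔ (⟨z, hz⟩ : (V : Scheme.{u})) ∈ (V : Scheme.{u}).basicOpen f := by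
      intro f
      have h1 := Scheme.image_basicOpen V.ι (U := (⊤ : (V : Scheme.{u}).Opens)) f
      rw [V.ι_appIso] at h1
      have h2 : X.basicOpen f = V.ι ''ᵁ (V : Scheme.{u}).basicOpen f := h1.symm
      rw [h2]
      exact Scheme.Opens.mem_ι_image_iff (U := V) (x := ⟨z, hz⟩)
    have hK3 : (⟨z, hz⟩ : (V : Scheme.{u})) ∈ KoszulCokG.Uf fs := by
      rw [hfs]
      exact ⟨hz, hzU⟩
    obtain ⟨i, hi⟩ := Opens.mem_iSup.1 hK3
    rw [← hK2 (fs.get i), ← not_not (a := z ∈ X.basicOpen (fs.get i)),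
      ← CartDimH8.mem_primeIdealOf_iff hWt z hzW (fs.get i)] at hi
    apply hi
    apply hp
    apply Ideal.subset_span
    exact List.get_mem fs i

/-- cohomology with supports on an affine open vanishes above the dimension -/
theorem affineVanishing [M.IsQuasicoherent] {V : X.Opens} (hV : IsAffineOpen V) (i : ℕ)
    (hi : ∀ x : X, x ∉ (U : Set X) → ringKrullDim (X.presheaf.stalk x) < (i : WithBot ℕ∞)) :
    Subsingleton (LocCohZ.HZ (X := X.carrier) (Coh.toAb M) i (inf_le_left : V ⊓ U ≤ V)) := by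
  have hWtV : V.ι ''ᵁ (⊤ : (V : Scheme.{u}).Opens) = V := V.ι_image_top
  have hWt : IsAffineOpen (V.ι ''ᵁ (⊤ : (V : Scheme.{u}).Opens)) := hWtV.symm ▸ hV
  haveI : IsNoetherianRing Γ(X, V.ι ''ᵁ (⊤ : (V : Scheme.{u}).Opens)) :=
    IsLocallyNoetherian.component_noetherian ⟨_, hWt⟩
  obtain ⟨fs, h1, h2⟩ := affineDict U M hV hWt
  rw [h1 i]
  apply ringVanishing
  intro p _ hp
  obtain ⟨⟨z, hzW⟩, hz⟩ : ∃ z' : ↥(V.ι ''ᵁ (⊤ : (V : Scheme.{u}).Opens)),
      hWt.primeIdealOf z' = ⟨p, inferInstance⟩ :=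
    ⟨hWt.isoSpec.inv ⟨p, inferInstance⟩, Scheme.inv_hom_apply hWt.isoSpec ⟨p, inferInstance⟩⟩
  have hpz : (hWt.primeIdealOf ⟨z, hzW⟩).asIdeal = p := by rw [hz]
  have hzU : z ∉ U := h2 z hzW (hpz ▸ hp)
  letI := TopCat.Presheaf.algebra_section_stalk X.presheaf
    (⟨z, hzW⟩ : ↥(V.ι ''ᵁ (⊤ : (V : Scheme.{u}).Opens)))
  haveI hloc : IsLocalization.AtPrime (X.presheaf.stalk z)
      (hWt.primeIdealOf ⟨z, hzW⟩).asIdeal := hWt.isLocalization_stalk ⟨z, hzW⟩
  haveI hloc' : IsLocalization.AtPrime (X.presheaf.stalk z) p := hpz ▸ hloc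
  have e : Localization.AtPrime p ≃ₐ[Γ(X, V.ι ''ᵁ (⊤ : (V : Scheme.{u}).Opens))]
      X.presheaf.stalk z := IsLocalization.algEquiv p.primeCompl _ _
  rw [ringKrullDim_eq_of_ringEquiv e.toRingEquiv]
  exact hi z hzU

/-! ### The sheaf statement -/

/-- S6038 (without the regularity hypothesis) -/
theorem main [M.IsQuasicoherent] (i : ℕ)
    (hi : ∀ x : X, x ∉ (U : Set X) → ringKrullDim (X.presheaf.stalk x) < (i : WithBot ℕ∞)) :
    IsZero ((LocCohZ.HZsh (X := X.carrier) U i).obj (Coh.toAb M)) := by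
  obtain ⟨R⟩ : Nonempty (InjectiveResolution (Coh.toAb M)) := ⟨injectiveResolution (Coh.toAb M)⟩
  rw [Groth.Agent.Lib.HZsh.isZero_HZsh_iff (X := X.carrier) U R]
  have hloc : ∀ (V : X.Opens) (x : X), x ∈ V → ∃ (V' : X.Opens) (hV' : V' ≤ V), x ∈ V' ∧
      Subsingleton (LocCohZ.HZ (X := X.carrier) (Coh.toAb M) i
        (inf_le_left : V' ⊓ U ≤ V')) := by
    intro V x hx
    obtain ⟨V', hVaff, hxV', hV'V⟩ :=
      Opens.isBasis_iff_nbhd.1 X.isBasis_affineOpens (U := V) (x := x) hx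
    exact ⟨V', hV'V, hxV', affineVanishing U M hVaff i hi⟩
  cases i with
  | zero =>
    apply exactAt_zero_of_local
    intro V ξ x hx
    obtain ⟨V', hV', hxV', hsub⟩ := hloc V x hx
    exact ⟨V', hV', hxV', Subsingleton.elim _ _⟩
  | succ q =>
    apply Groth.Agent.Lib.HZsh.exactAt_succ_of_local
    intro V ξ x hx
    obtain ⟨V', hV', hxV', hsub⟩ := hloc V x hx
    exact ⟨V', hV', hxV', Subsingleton.elim _ _⟩

end Groth.Agent.Lib.LocCohZDimH7
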