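import Mathlib
import Groth.Prelude.Def_LocCohZ
import Groth.Prelude.Def_FlatMod2
import Groth.Agent.Lib.FirstDerived_helper7
import Groth.Agent.Lib.LocCohZDepth2_helper7
import Groth.Agent.Lib.SectionsDer_helper2
import Groth.Agent.Lib.FLF2_helper8
import Groth.Agent.Lib.FLF6_helper8
import Groth.Agent.Lib.KerFree1_helper8
import Groth.Agent.Lib.ReflFree_helper5
import Groth.Agent.S6027

/-!
# `Γ(X, ℋ^d_Y(M)) ≅ H^d_Y(X, M)` when `ℋ^i_Y(M) = 0` for `i < d` (helper7)
-/

set_option autoImplicit false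
set_option backward.isDefEq.respectTransparency false
set_option backward.isDefEq.respectTransparency.types false
set_option linter.style.haveILetI false
set_option linter.unusedSectionVars false
universe u

namespace Groth.Agent.Lib.LocCohZEdgeH7

open CategoryTheory CategoryTheory.Limits TopologicalSpace Opposite
open Groth.Agent.Lib.FAcyc (acyc)

section Top

variable {X : TopCat.{u}}

/-- flasque sheaves are acyclic for global sections -/
theorem acyc_sections_of_isFlasque (G : CohTop.Ab X) [TopCat.Sheaf.IsFlasque G] :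
    acyc (Groth.Agent.Lib.SectionsDer.sections (Opens.grothendieckTopology X) (⊤ : Opens X)) G := by
  intro i hi
  obtain ⟨k, rfl⟩ : ∃ k, i = k + 1 := ⟨i - 1, by omega⟩
  refine IsZero.of_iso ?_ (Groth.Agent.Lib.SectionsDer.sectionsRightDerivedIso
    (Opens.grothendieckTopology X) (⊤ : Opens X) (k + 1) G)
  have h0 : ∀ a : Sheaf.H' G (k + 1) (⊤ : Opens X), a = 0 := fun a =>
    Groth.Agent.Lib.FlasqueAcyclic.ext_freeSheaf_eq_zero_of_isFlasque G ⊤ k a
  haveI : Subsingleton (Sheaf.H' G (k + 1) (⊤ : Opens X)) :=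
    ⟨fun a b => (h0 a).trans (h0 b).symm⟩
  exact AddCommGrpCat.isZero_of_subsingleton _

/-- `Γ_Z` of an injective sheaf is acyclic for global sections -/
theorem acyc_sectSupp_of_injective (U : Opens X) (I : CohTop.Ab X) (hI : Injective I) :
    acyc (Groth.Agent.Lib.SectionsDer.sections (Opens.grothendieckTopology X) (⊤ : Opens X))
      ((LocCohZ.sectSuppF U).obj I) := by
  haveI := hI
  haveI := Groth.Agent.Lib.FlasqueAcyclic.isFlasque_of_injective I
  haveI : TopCat.Sheaf.IsFlasque ((LocCohZ.sectSuppF U).obj I) :=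
    Groth.Agent.Lib.SectSupp.isFlasque_sectSupp U I
  exact acyc_sections_of_isFlasque _

/-- the edge isomorphism `R^dΓ_Z(X, F) ≅ Γ(X, ℋ^d_Z(F))` when `ℋ^i_Z(F) = 0` for `i < d` -/
theorem nonempty_RHZ_iso (U : Opens X) (F : CohTop.Ab X) (d : ℕ)
    (hF : ∀ i, i < d → IsZero ((LocCohZ.HZsh U i).obj F)) :
    Nonempty ((LocCohZ.RHZ U d).obj F ≅
      (Groth.Agent.Lib.SectionsDer.sections (Opens.grothendieckTopology X) (⊤ : Opens X)).obj
        ((LocCohZ.HZsh U d).obj F)) :=
  Groth.Agent.Lib.FirstDerivedH7.main (LocCohZ.sectSuppF U)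
    (Groth.Agent.Lib.SectionsDer.sections (Opens.grothendieckTopology X) (⊤ : Opens X))
    (acyc_sectSupp_of_injective U) F d hF

/-- the same with `H^d_Z(X, F)` defined by `Ext` -/
theorem nonempty_sections_addEquiv (U : Opens X) (F : CohTop.Ab X) (d : ℕ)
    (hF : ∀ i, i < d → IsZero ((LocCohZ.HZsh U i).obj F)) :
    Nonempty (↑(((LocCohZ.HZsh U d).obj F).obj.obj (op ⊤)) ≃+ LocCohZ.HZc F d U) := by
  obtain ⟨e1⟩ := nonempty_RHZ_iso U F d hF
  obtain ⟨e2⟩ := Groth.Agent.S6027.result U d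
  have e3 := LocCohZ.HZcEquivHZFunctor F d U
  exact ⟨((e1.symm ≪≫ e2.app F).addCommGroupIsoToAddEquiv).trans e3.symm⟩

end Top

section Sch

open AlgebraicGeometry

/-- S14116 -/
theorem main (X : Scheme.{u}) [IsLocallyNoetherian X]
    (U : X.Opens) (d : ℕ)
    (hdepth : ∀ x : ↥X, x ∉ (U : Set ↥X) →
      (d : ℕ∞) ≤ LocCoh.depth ↑(X.presheaf.stalk x) ↑(X.presheaf.stalk x))
    (M : X.Modules) (hM : FlatMod.IsFinLocFree M) :
    Nonempty (↑(((LocCohZ.HZsh (X := X.carrier) U d).obj (Coh.toAb M)).obj.obj (op ⊤)) ≃+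
      LocCohZ.HZM X M d U) := by
  have hcoh : Coh.IsCoh M := KerFreeH8.isCoh_of_finLocFree hM
  haveI : M.IsQuasicoherent := hcoh.1
  haveI : SheafOfModules.IsFiniteType (R := X.ringCatSheaf) M := hcoh.2
  have hdM : ∀ x : X, x ∉ (U : Set X) →
      (d : ℕ∞) ≤ LocCoh.depth (X.presheaf.stalk x) (M.presheaf.stalk x) := by
    intro x hx
    haveI := FLFH8.free_stalk_of_finLocFree M hM x
    haveI := FLFH8.finite_stalk M x
    exact Groth.Agent.ReflFree.le_depth_free (X.presheaf.stalk x) d (hdepth x hx)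
      (M.presheaf.stalk x)
  have hvan := (Groth.Agent.Lib.LocCohZDepthH7.main X U M hcoh d).2 hdM
  exact nonempty_sections_addEquiv (X := X.carrier) U (Coh.toAb M) d hvan

end Sch

end Groth.Agent.Lib.LocCohZEdgeH7
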