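import Mathlib
import Groth.Agent.Lib.LocFib5_helper2
import Groth.Agent.Lib.DerCompl5_helper2

/-!
# `Hom•(cech X fs, J)` is the derived completion of `Hom•(X, J)` (helper6)

Generalization of helper2's `bijective_precomp_cech` / `exists_completion` from modules to complexes.
-/

set_option autoImplicit false
set_option linter.style.haveILetI false
set_option linter.unusedSectionVars false
set_option linter.unusedVariables false
universe u
open CategoryTheory Limits MonoidalCategory CochainComplex CochainComplex.HomComplex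

namespace Groth.Agent.Lib.LocDualCH6

open Groth.Agent.Lib.KFlatMod Groth.Agent.Lib.HomCx DerivedCategory Pretriangulated
  Groth.Agent.Lib.DerCompl Groth.Agent.Lib.LocFib Groth.Agent.Lib.ExtCechH7
attribute [local instance] HasDerivedCategory.standard

variable {A : Type u} [CommRing A]

theorem bijective_precomp_cechX (X J : DRing.Cx A) (E : Dual.D A) :
    ∀ (fs : List A),
      (∀ f ∈ fs, ∀ n : ℤ, Subsingleton (Dual.inD A (Localization.Away f) ⟶ E⟦n⟧)) →
      Function.Bijective (fun a : Q.obj (DRing.homCx (cech X fs) J) ⟶ E =>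
        Q.map (homCxPre (cechP X fs) J) ≫ a)
  | [] => fun _ => by
    have : (fun a : Q.obj (DRing.homCx (cech X []) J) ⟶ E =>
        Q.map (homCxPre (cechP X []) J) ≫ a) = id := by
      funext a
      show Q.map (homCxPre (𝟙 _) J) ≫ a = a
      rw [Groth.Agent.Lib.RHomKInj.homCxPre_id, CategoryTheory.Functor.map_id, Category.id_comp]
    rw [this]
    exact Function.bijective_id
  | f :: fs => fun h => by
    have ih := bijective_precomp_cechX X J E fs (fun g hg => h g (List.mem_cons_of_mem f hg))
    have hstep := bijective_precomp_cocone f (cech X fs) J E (h f (List.mem_cons_self))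
    have : (fun a : Q.obj (DRing.homCx (cech X (f :: fs)) J) ⟶ E =>
        Q.map (homCxPre (cechP X (f :: fs)) J) ≫ a) =
        (fun a : Q.obj (DRing.homCx (cech X fs) J) ⟶ E =>
          Q.map (homCxPre (cechP X fs) J) ≫ a) ∘
        (fun a : Q.obj (DRing.homCx
          (mappingCocone (DerCA.locCxUnit (Submonoid.powers f) (cech X fs))) J) ⟶ E =>
        Q.map (homCxPre (mappingCocone.fst
          (DerCA.locCxUnit (Submonoid.powers f) (cech X fs))) J) ≫ a) := by
      funext a
      show Q.map (homCxPre (mappingCocone.fst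
          (DerCA.locCxUnit (Submonoid.powers f) (cech X fs)) ≫ cechP X fs) J) ≫ a = _
      rw [Groth.Agent.Lib.RHomKInj.homCxPre_comp, Functor.map_comp, Category.assoc]
      rfl
    rw [this]
    exact ih.comp hstep

/-- the cohomology of `cech X fs` is `f`-power torsion for `f ∈ span fs` -/
lemma torsion_cech_of_mem_span (fs : List A) (X : DRing.Cx A) (f : A)
    (hf : f ∈ Ideal.span {x : A | x ∈ fs}) (q : ℤ) (x : (cech X fs).homology q) :
    ∃ n : ℕ, f ^ n • x = 0 := by
  have hle : Ideal.span {x : A | x ∈ fs} ≤ (Ideal.torsionOf A _ x).radical := by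
    rw [Ideal.span_le]
    intro g hg
    obtain ⟨n, hn⟩ := torsCx_cech X fs g hg q x
    exact ⟨n, (Ideal.mem_torsionOf_iff x _).2 hn⟩
  obtain ⟨n, hn⟩ := hle hf
  exact ⟨n, (Ideal.mem_torsionOf_iff x _).1 hn⟩

theorem isDerivedComplete_homCx_cech (fs : List A) (X J : DRing.Cx A) [J.IsKInjective] :
    DRing.IsDerivedComplete (Ideal.span {x : A | x ∈ fs})
      (Q.obj (DRing.homCx (cech X fs) J)) := by
  intro f hf n
  exact subsingleton_hom_inD_homCx f _ J
    (fun q x => torsion_cech_of_mem_span fs X f hf q x) n

/-- **`Q Hom•(cech X fs, J)` is the derived completion of `Q Hom•(X, J)`** -/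
theorem nonempty_completion_iso (fs : List A)
    [DRing.HasDerivedCompletion (Ideal.span {x : A | x ∈ fs})]
    (X J : DRing.Cx A) [J.IsKInjective] :
    Nonempty (((DRing.derivedCompletion (Ideal.span {x : A | x ∈ fs})).obj
      (Q.obj (DRing.homCx X J))).obj ≅ Q.obj (DRing.homCx (cech X fs) J)) := by
  obtain ⟨θ, -⟩ := exists_iso_of_universal
    (DRing.IsDerivedComplete (Ideal.span {x : A | x ∈ fs}))
    (DRing.derivedCompletionAdj (Ideal.span {x : A | x ∈ fs})) (Q.obj (DRing.homCx X J))
    (Q.obj (DRing.homCx (cech X fs) J)) (isDerivedComplete_homCx_cech fs X J)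
    (Q.map (homCxPre (cechP X fs) J))
    (fun E hE => bijective_precomp_cechX X J E fs
      (fun f hf n => hE f (Ideal.subset_span hf) n))
  exact ⟨θ⟩

end Groth.Agent.Lib.LocDualCH6
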