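import Mathlib
import Groth.Agent.Lib.HomCxPreQis_helper2

/-!
# `Hom•(G, g)` is a quasi-isomorphism if `g` induces bijections on `Hom(G, -[n])` (helper6)
-/

set_option autoImplicit false
set_option linter.style.haveILetI false
set_option linter.unusedSectionVars false
set_option linter.unusedVariables false
universe u
open CategoryTheory Limits CochainComplex CochainComplex.HomComplex

namespace Groth.Agent.Lib.LocDualCH6

open Groth.Agent.Lib.HomCx DerivedCategory Groth.Agent.Lib.HomCxPreQis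
attribute [local instance] HasDerivedCategory.standard

variable {A : Type u} [CommRing A]

lemma toHom_postcomp {G J₁ J₂ : DRing.Cx A} (g : J₁ ⟶ J₂) {n : ℤ} (z : Cocycle G J₁ n) :
    CohomologyClass.toHom (CohomologyClass.mk (z.postcomp g)) =
      CohomologyClass.toHom (CohomologyClass.mk z) ≫
        (HomotopyCategory.quotient _ _).map (g⟦n⟧') := by
  rw [CohomologyClass.toHom_mk, CohomologyClass.toHom_mk, Cocycle.equivHomShift_symm_postcomp,
    Functor.map_comp]

/-- K-level criterion -/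
theorem quasiIso_homCxMap_of_bijective_K (G : DRing.Cx A) {J₁ J₂ : DRing.Cx A} (g : J₁ ⟶ J₂)
    (h : ∀ n : ℤ, Function.Bijective
      (fun a : (HomotopyCategory.quotient (ModuleCat.{u} A) (ComplexShape.up ℤ)).obj G ⟶
          (HomotopyCategory.quotient (ModuleCat.{u} A) (ComplexShape.up ℤ)).obj (J₁⟦n⟧) =>
        a ≫ (HomotopyCategory.quotient (ModuleCat.{u} A) (ComplexShape.up ℤ)).map (g⟦n⟧'))) :
    QuasiIso (DRing.homCxMap G g) := by
  rw [quasiIso_iff]
  intro n
  rw [quasiIsoAt_iff_isIso_homologyMap]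
  haveI : Mono (HomologicalComplex.homologyMap (DRing.homCxMap G g) n) := by
    apply mono_homologyMap_of_elementwise
    intro (z : Cochain G J₁ n) hz (y : Cochain G J₂ (n - 1)) hy
    have hz' : δ n (n + 1) z = 0 := hz
    have hy' : z.comp (Cochain.ofHom g) (add_zero n) = δ (n - 1) n y := hy
    let zc : Cocycle G J₁ n := Cocycle.mk z (n + 1) rfl hz'
    have h1 : zc.postcomp g ∈ coboundaries G J₂ n :=
      (mem_coboundaries_iff _ (n - 1) (by omega)).2 ⟨y, hy'.symm⟩
    have h2 : CohomologyClass.toHom (CohomologyClass.mk (zc.postcomp g)) = 0 :=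
      (CohomologyClass.toHom_mk_eq_zero_iff _).2 h1
    rw [toHom_postcomp] at h2
    have h3 : CohomologyClass.toHom (CohomologyClass.mk zc) = 0 :=
      (h n).1 (by
        show _ ≫ _ = 0 ≫ _
        rw [h2, zero_comp])
    rw [CohomologyClass.toHom_mk_eq_zero_iff, mem_coboundaries_iff zc (n - 1) (by omega)] at h3
    obtain ⟨β, hβ⟩ := h3
    exact ⟨β, hβ⟩
  haveI : Epi (HomologicalComplex.homologyMap (DRing.homCxMap G g) n) := by
    apply epi_homologyMap_of_elementwise
    intro (w : Cochain G J₂ n) hw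
    have hw' : δ n (n + 1) w = 0 := hw
    let wc : Cocycle G J₂ n := Cocycle.mk w (n + 1) rfl hw'
    obtain ⟨a, ha⟩ := (h n).2 (CohomologyClass.toHom (CohomologyClass.mk wc))
    obtain ⟨c, hc⟩ := (CohomologyClass.toHom_bijective G J₁ n).2 a
    obtain ⟨zc, rfl⟩ := c.mk_surjective
    have h0 : CohomologyClass.toHom (CohomologyClass.mk (wc - zc.postcomp g)) = 0 := by
      rw [CohomologyClass.mk_sub, map_sub, toHom_postcomp, hc]
      exact sub_eq_zero.2 ha.symm
    rw [CohomologyClass.toHom_mk_eq_zero_iff, mem_coboundaries_iff _ (n - 1) (by omega)] at h0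
    obtain ⟨y, hy⟩ := h0
    refine ⟨zc.1, zc.δ_eq_zero (n + 1), y, ?_⟩
    show w = zc.1.comp (Cochain.ofHom g) (add_zero n) + δ (n - 1) n y
    rw [hy]
    show w = _ + (w - zc.1.comp (Cochain.ofHom g) (add_zero n))
    abel
  exact isIso_of_mono_of_epi _

/-- D-level criterion for K-injective targets -/
theorem quasiIso_homCxMap_of_bijective (G : DRing.Cx A) {J₁ J₂ : DRing.Cx A}
    [J₁.IsKInjective] [J₂.IsKInjective] (g : J₁ ⟶ J₂)
    (h : ∀ n : ℤ, Function.Bijective
      (fun a : Q.obj G ⟶ Q.obj (J₁⟦n⟧) => a ≫ Q.map (g⟦n⟧'))) :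
    QuasiIso (DRing.homCxMap G g) := by
  apply quasiIso_homCxMap_of_bijective_K
  intro n
  have b1 := IsKInjective.Qh_map_bijective
    ((HomotopyCategory.quotient (ModuleCat.{u} A) (ComplexShape.up ℤ)).obj G) (J₁⟦n⟧)
  have b2 := IsKInjective.Qh_map_bijective
    ((HomotopyCategory.quotient (ModuleCat.{u} A) (ComplexShape.up ℤ)).obj G) (J₂⟦n⟧)
  have hn := h n
  have hcomp : (fun b : Qh.obj ((HomotopyCategory.quotient (ModuleCat.{u} A)
        (ComplexShape.up ℤ)).obj G) ⟶ Qh.obj ((HomotopyCategory.quotient (ModuleCat.{u} A)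
        (ComplexShape.up ℤ)).obj (J₁⟦n⟧)) =>
      b ≫ Qh.map ((HomotopyCategory.quotient (ModuleCat.{u} A)
        (ComplexShape.up ℤ)).map (g⟦n⟧'))) ∘
      (fun a : (HomotopyCategory.quotient (ModuleCat.{u} A) (ComplexShape.up ℤ)).obj G ⟶
          (HomotopyCategory.quotient (ModuleCat.{u} A) (ComplexShape.up ℤ)).obj (J₁⟦n⟧) =>
        Qh.map a) =
      (fun a : (HomotopyCategory.quotient (ModuleCat.{u} A) (ComplexShape.up ℤ)).obj G ⟶
          (HomotopyCategory.quotient (ModuleCat.{u} A) (ComplexShape.up ℤ)).obj (J₂⟦n⟧) =>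
        Qh.map a) ∘
      (fun a : (HomotopyCategory.quotient (ModuleCat.{u} A) (ComplexShape.up ℤ)).obj G ⟶
          (HomotopyCategory.quotient (ModuleCat.{u} A) (ComplexShape.up ℤ)).obj (J₁⟦n⟧) =>
        a ≫ (HomotopyCategory.quotient (ModuleCat.{u} A) (ComplexShape.up ℤ)).map (g⟦n⟧')) := by
    funext a
    simp only [Function.comp_apply, Functor.map_comp]
  have hc : Function.Bijective ((fun a : (HomotopyCategory.quotient (ModuleCat.{u} A)
        (ComplexShape.up ℤ)).obj G ⟶
          (HomotopyCategory.quotient (ModuleCat.{u} A) (ComplexShape.up ℤ)).obj (J₂⟦n⟧) =>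
        Qh.map a) ∘
      (fun a : (HomotopyCategory.quotient (ModuleCat.{u} A) (ComplexShape.up ℤ)).obj G ⟶
          (HomotopyCategory.quotient (ModuleCat.{u} A) (ComplexShape.up ℤ)).obj (J₁⟦n⟧) =>
        a ≫ (HomotopyCategory.quotient (ModuleCat.{u} A) (ComplexShape.up ℤ)).map (g⟦n⟧'))) := by
    rw [← hcomp]
    exact Function.Bijective.comp hn b1
  exact (Function.Bijective.of_comp_iff' b2 _).1 hc

end Groth.Agent.Lib.LocDualCH6
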