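import Mathlib
import Groth.Agent.Lib.LocDualC1_helper6
import Groth.Agent.Lib.LocDualC2_helper6
import Groth.Agent.Lib.DualUniq1_helper2

/-!
# Local duality with derived completion (helper6): S1818
-/

set_option autoImplicit false
set_option linter.style.haveILetI false
set_option linter.unusedSectionVars false
set_option linter.unusedVariables false
universe u
open CategoryTheory Limits MonoidalCategory CochainComplex CochainComplex.HomComplex

namespace Groth.Agent.Lib.LocDualCH6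

open Groth.Agent.Lib.KFlatMod Groth.Agent.Lib.HomCx DerivedCategory Pretriangulated
  Groth.Agent.Lib.DerCompl Groth.Agent.Lib.LocFib Groth.Agent.Lib.ExtCechH7
attribute [local instance] HasDerivedCategory.standard

section Gen

variable {C : Type*} [Category C] [HasShift C ℤ]

lemma bijective_postcomp_shift {F K T : C} (p : F ⟶ K) (n : ℤ)
    (h : Function.Bijective (fun a : T⟦-n⟧ ⟶ F => a ≫ p)) :
    Function.Bijective (fun a : T ⟶ F⟦n⟧ => a ≫ p⟦n⟧') := by
  let e : (T⟦-n⟧)⟦n⟧ ≅ T := (shiftFunctorCompIsoId C (-n) n (by omega)).app T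
  have hΦ : ∀ Y : C, Function.Bijective (fun b : T⟦-n⟧ ⟶ Y => e.inv ≫ b⟦n⟧') := by
    intro Y
    constructor
    · intro a b hab
      apply (CategoryTheory.shiftFunctor C n).map_injective
      exact (cancel_epi e.inv).1 hab
    · intro g
      obtain ⟨a, ha⟩ := (CategoryTheory.shiftFunctor C n).map_surjective (e.hom ≫ g)
      refine ⟨a, ?_⟩
      show e.inv ≫ a⟦n⟧' = g
      rw [ha, Iso.inv_hom_id_assoc]
  constructor
  · intro g g' hgg
    obtain ⟨a, rfl⟩ := (hΦ F).2 g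
    obtain ⟨a', rfl⟩ := (hΦ F).2 g'
    have hgg' : (e.inv ≫ a⟦n⟧') ≫ p⟦n⟧' = (e.inv ≫ a'⟦n⟧') ≫ p⟦n⟧' := hgg
    have : a ≫ p = a' ≫ p := by
      apply (hΦ K).1
      show e.inv ≫ (a ≫ p)⟦n⟧' = e.inv ≫ (a' ≫ p)⟦n⟧'
      rw [CategoryTheory.Functor.map_comp, CategoryTheory.Functor.map_comp, ← Category.assoc,
        ← Category.assoc]
      exact hgg'
    have haa : a = a' := h.1 this
    rw [haa]
  · intro g
    obtain ⟨b, hb⟩ := (hΦ K).2 g
    have hb' : e.inv ≫ b⟦n⟧' = g := hb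
    obtain ⟨a, ha⟩ := h.2 b
    have ha' : a ≫ p = b := ha
    refine ⟨e.inv ≫ a⟦n⟧', ?_⟩
    show (e.inv ≫ a⟦n⟧') ≫ p⟦n⟧' = g
    rw [Category.assoc, ← CategoryTheory.Functor.map_comp, ha', hb']

end Gen

variable {A : Type u} [CommRing A]

lemma Tors.shift {f : A} {T : Dual.D A} (h : Tors f T) (m : ℤ) : Tors f (T⟦m⟧) := by
  intro n x
  let E : Dual.HD A (T⟦m⟧) n ≃ₗ[A] Dual.HD A T (m + n) :=
    (((homologyFunctor (ModuleCat.{u} A) 0).shiftIso m n (m + n) rfl).app T).toLinearEquiv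
  obtain ⟨k, hk⟩ := h (m + n) (E x)
  refine ⟨k, ?_⟩
  have h2 := congrArg E.symm hk
  rwa [← map_smul, E.symm_apply_apply, map_zero] at h2

/-- morphisms in `D(A)` into a K-injective complex are represented by morphisms of complexes -/
lemma exists_Q_map_eq_of_kinj (K L : DRing.Cx A) [L.IsKInjective]
    (φ : Q.obj K ⟶ Q.obj L) : ∃ f : K ⟶ L, Q.map f = φ := by
  obtain ⟨g, hg⟩ := (CochainComplex.IsKInjective.Qh_map_bijective
    ((HomotopyCategory.quotient (ModuleCat.{u} A) (ComplexShape.up ℤ)).obj K) L).surjective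
    ((DerivedCategory.quotientCompQhIso (ModuleCat.{u} A)).hom.app K ≫ φ ≫
      (DerivedCategory.quotientCompQhIso (ModuleCat.{u} A)).inv.app L)
  obtain ⟨f, rfl⟩ := (HomotopyCategory.quotient (ModuleCat.{u} A)
    (ComplexShape.up ℤ)).map_surjective g
  refine ⟨f, ?_⟩
  have h := DerivedCategory.quotientCompQhIso_hom_naturality f
  rw [hg] at h
  simp only [Category.assoc, Iso.inv_hom_id_app, Functor.comp_obj] at h
  rw [← cancel_epi ((DerivedCategory.quotientCompQhIso (ModuleCat.{u} A)).hom.app K)]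
  rw [← h]
  simp

/-- `Hom•(G', g)` is a quasi-isomorphism for `G'` torsion and `Q g` an iterated fibre -/
theorem quasiIso_homCxMap_of_iterFib (fs : List A) (G' : DRing.Cx A)
    (hG' : ∀ f ∈ fs, Tors f (Q.obj G')) {J₁ J₂ : DRing.Cx A}
    [J₁.IsKInjective] [J₂.IsKInjective] (g : J₁ ⟶ J₂)
    (hg : IterFib fs (Q.obj J₁) (Q.obj J₂) (Q.map g)) :
    QuasiIso (DRing.homCxMap G' g) := by
  apply quasiIso_homCxMap_of_bijective
  intro n
  have h1 : Function.Bijective (fun a : (Q.obj G')⟦-n⟧ ⟶ Q.obj J₁ => a ≫ Q.map g) :=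
    IterFib.bijective_postcomp fs (Q.map g) hg ((Q.obj G')⟦-n⟧)
      (fun f hf => Tors.shift (hG' f hf) (-n))
  have h2 := bijective_postcomp_shift (Q.map g) n h1
  let c₁ := (Q.commShiftIso n).app J₁
  let c₂ := (Q.commShiftIso n).app J₂
  have hnat : Q.map (g⟦n⟧') ≫ c₂.hom = c₁.hom ≫ (Q.map g)⟦n⟧' :=
    (Q.commShiftIso n).hom.naturality g
  constructor
  · intro a a' haa
    have haa' : a ≫ Q.map (g⟦n⟧') = a' ≫ Q.map (g⟦n⟧') := haa
    have : a ≫ c₁.hom = a' ≫ c₁.hom := by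
      apply h2.1
      show (a ≫ c₁.hom) ≫ (Q.map g)⟦n⟧' = (a' ≫ c₁.hom) ≫ (Q.map g)⟦n⟧'
      rw [Category.assoc, Category.assoc, ← hnat, ← Category.assoc, ← Category.assoc, haa']
    exact (cancel_mono c₁.hom).1 this
  · intro b
    obtain ⟨a, ha⟩ := h2.2 (b ≫ c₂.hom)
    have ha' : a ≫ (Q.map g)⟦n⟧' = b ≫ c₂.hom := ha
    refine ⟨a ≫ c₁.inv, ?_⟩
    show (a ≫ c₁.inv) ≫ Q.map (g⟦n⟧') = b
    rw [← cancel_mono c₂.hom, Category.assoc, Category.assoc, hnat, Iso.inv_hom_id_assoc, ha']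

end Groth.Agent.Lib.LocDualCH6
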