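import Mathlib
import Groth.Agent.Lib.LocDualC3_helper6

/-!
# Local duality with derived completion (helper6): S1818, main theorem
-/

set_option autoImplicit false
set_option linter.style.haveILetI false
set_option linter.unusedSectionVars false
set_option linter.unusedVariables false
universe u
open CategoryTheory Limits MonoidalCategory CochainComplex CochainComplex.HomComplex

namespace Groth.Agent.Lib.LocDualCH6

open Groth.Agent.Lib.KFlatMod Groth.Agent.Lib.HomCx DerivedCategory Pretriangulated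
  Groth.Agent.Lib.DerCompl Groth.Agent.Lib.LocFib Groth.Agent.Lib.ExtCechH7
attribute [local instance] HasDerivedCategory.standard

variable (A : Type u) [CommRing A] [IsLocalRing A] [IsNoetherianRing A]

theorem main_list (ω : Dual.D A) (hω : Dual.IsDualizing A ω) (hn : Dual.IsNormalized A ω)
    (E : Type u) [AddCommGroup E] [Module A E] (f : IsLocalRing.ResidueField A →ₗ[A] E)
    (hf : InjHull.IsInjectiveHull f) (fs : List A)
    (hfs : Ideal.span {x : A | x ∈ fs} = IsLocalRing.maximalIdeal A)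
    [DRing.HasRgammaI (Ideal.span {x : A | x ∈ fs})]
    [DRing.HasDerivedCompletion (Ideal.span {x : A | x ∈ fs})]
    (K : DRing.Cx A) [DRing.HasRHomCx K] (G : DRing.Cx A) [DRing.HasRHomCx G]
    (hG : Nonempty (DRing.toD G ≅
      (DRing.RgammaI (Ideal.span {x : A | x ∈ fs})).obj (DRing.toD K))) :
    Nonempty (((DRing.derivedCompletion (Ideal.span {x : A | x ∈ fs})).obj
      ((DRing.RHomCx K).obj ω)).obj ≅ (DRing.RHomCx G).obj (Dual.inD A E)) := by
  obtain ⟨eG⟩ := hG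
  obtain ⟨x, -⟩ := IterFib.unique fs (Q.map (cechP K fs))
    ((DRing.RgammaIε (Ideal.span {x : A | x ∈ fs})).app (Q.obj K)) (Iso.refl _)
    (iterFib_cech K fs) (iterFib_RgammaIε fs (Q.obj K))
  have eGG' : Q.obj (cech K fs) ≅ Q.obj G := x ≪≫ eG.symm
  obtain ⟨P, φ, hφ, hPp, hPf, -⟩ := Groth.Agent.Lib.KProjRes.exists_kproj_resolution (cech K fs)
  haveI := hφ
  haveI := hPp
  haveI : IsIso (Q.map φ) := (isIso_Q_map_iff_quasiIso (C := ModuleCat.{u} A) φ).2 inferInstance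
  have eP : Q.obj P ≅ Q.obj G := asIso (Q.map φ) ≪≫ eGG'
  obtain ⟨Jω, hJω, ⟨eω⟩⟩ := Groth.Agent.Lib.RHomKInj.exists_kinj_iso ω
  obtain ⟨JE, hJE, ⟨eE⟩⟩ := Groth.Agent.Lib.RHomKInj.exists_kinj_iso (Dual.inD A E)
  haveI := hJω
  haveI := hJE
  obtain ⟨r⟩ := Groth.Agent.Lib.DualUniq.rgamma_iso A ω hω hn E f hf fs hfs
  let s0 : (Dual.inD A E)⟦(0 : ℤ)⟧ ≅ Dual.inD A E := (shiftFunctorZero (Dual.D A) ℤ).app _
  let e₁ : Q.obj JE ≅ (DRing.RgammaI (Ideal.span {x : A | x ∈ fs})).obj ω :=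
    eE.symm ≪≫ s0.symm ≪≫ r.symm
  obtain ⟨g, hg⟩ := exists_Q_map_eq_of_kinj JE Jω
    (e₁.hom ≫ (DRing.RgammaIε (Ideal.span {x : A | x ∈ fs})).app ω ≫ eω.hom)
  have hIF : IterFib fs (Q.obj JE) (Q.obj Jω) (Q.map g) := by
    rw [hg]
    exact IterFib.of_iso fs _ e₁ eω (iterFib_RgammaIε fs ω)
  have hTors : ∀ f ∈ fs, Tors f (Q.obj (cech K fs)) :=
    fun f hf => (tors_Q_iff f _).2 (torsCx_cech K fs f hf)
  haveI := quasiIso_homCxMap_of_iterFib fs (cech K fs) hTors g hIF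
  obtain ⟨e1⟩ := Groth.Agent.Lib.HomCxPreQis.nonempty_RHomCx_iso_of_kproj G P JE eP
  haveI := Groth.Agent.Lib.HomCxPreQis.quasiIso_homCxPre φ JE
  haveI : IsIso (Q.map (homCxPre φ JE)) :=
    (isIso_Q_map_iff_quasiIso (C := ModuleCat.{u} A) (homCxPre φ JE)).2 inferInstance
  haveI : IsIso (Q.map (DRing.homCxMap (cech K fs) g)) :=
    (isIso_Q_map_iff_quasiIso (C := ModuleCat.{u} A) (DRing.homCxMap (cech K fs) g)).2
      inferInstance
  have e2 : Q.obj (DRing.homCx (cech K fs) JE) ≅ Q.obj (DRing.homCx P JE) :=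
    asIso (Q.map (homCxPre φ JE))
  have e3 : Q.obj (DRing.homCx (cech K fs) JE) ≅ Q.obj (DRing.homCx (cech K fs) Jω) :=
    asIso (Q.map (DRing.homCxMap (cech K fs) g))
  obtain ⟨e4⟩ := nonempty_completion_iso fs K Jω
  obtain ⟨e5⟩ := Groth.Agent.Lib.RHomKInj.nonempty_RHomCx_iso_of_kinj K Jω
  have e6 : (DRing.RHomCx K).obj ω ≅ Q.obj (DRing.homCx K Jω) :=
    (DRing.RHomCx K).mapIso eω ≪≫ e5
  have e7 : ((DRing.derivedCompletion (Ideal.span {x : A | x ∈ fs})).obj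
      ((DRing.RHomCx K).obj ω)).obj ≅
      ((DRing.derivedCompletion (Ideal.span {x : A | x ∈ fs})).obj
        (Q.obj (DRing.homCx K Jω))).obj :=
    (ObjectProperty.ι _).mapIso
      ((DRing.derivedCompletion (Ideal.span {x : A | x ∈ fs})).mapIso e6)
  exact ⟨e7 ≪≫ e4 ≪≫ e3.symm ≪≫ e2 ≪≫ e1.symm ≪≫ (DRing.RHomCx G).mapIso eE.symm⟩

theorem main_ideal (I : Ideal A) (hI : I = IsLocalRing.maximalIdeal A)
    (ω : Dual.D A) (hω : Dual.IsDualizing A ω) (hn : Dual.IsNormalized A ω)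
    (E : Type u) [AddCommGroup E] [Module A E] (f : IsLocalRing.ResidueField A →ₗ[A] E)
    (hf : InjHull.IsInjectiveHull f)
    [DRing.HasRgammaI I] [DRing.HasDerivedCompletion I]
    (K : DRing.Cx A) [DRing.HasRHomCx K] (G : DRing.Cx A) [DRing.HasRHomCx G]
    (hG : Nonempty (DRing.toD G ≅ (DRing.RgammaI I).obj (DRing.toD K))) :
    Nonempty (((DRing.derivedCompletion I).obj
      ((DRing.RHomCx K).obj ω)).obj ≅ (DRing.RHomCx G).obj (Dual.inD A E)) := by
  obtain ⟨fs, hfs⟩ := exists_list_span I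
  subst hfs
  exact main_list A ω hω hn E f hf fs hI K G hG

theorem main1818 (ω : Dual.D A) (hω : Dual.IsDualizing A ω) (hn : Dual.IsNormalized A ω)
    (E : Type u) [AddCommGroup E] [Module A E] (f : IsLocalRing.ResidueField A →ₗ[A] E)
    (hf : InjHull.IsInjectiveHull f)
    [DRing.HasRgammaI (IsLocalRing.maximalIdeal A)]
    [DRing.HasDerivedCompletion (IsLocalRing.maximalIdeal A)]
    (K : DRing.Cx A) [DRing.HasRHomCx K] (G : DRing.Cx A) [DRing.HasRHomCx G]
    (hG : Nonempty (DRing.toD G ≅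
      (DRing.RgammaI (IsLocalRing.maximalIdeal A)).obj (DRing.toD K))) :
    Nonempty (((DRing.derivedCompletion (IsLocalRing.maximalIdeal A)).obj
      ((DRing.RHomCx K).obj ω)).obj ≅ (DRing.RHomCx G).obj (Dual.inD A E)) :=
  main_ideal A (IsLocalRing.maximalIdeal A) rfl ω hω hn E f hf K G hG

end Groth.Agent.Lib.LocDualCH6
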