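import Groth.Prelude
import Groth.Agent.Lib.EtaIrrComp_helper1
import Groth.Agent.Lib.AlgSpPoints_helper7
import Groth.Agent.Lib.ResTrdeg2_helper8

/-!
# S10303 / S10304: locally finitely many irreducible components for algebraic spaces (helper7)
-/

set_option autoImplicit false
set_option linter.style.haveILetI false
universe u
open CategoryTheory CategoryTheory.Limits AlgebraicGeometry Opposite MorphismProperty TopologicalSpace
open AlgSp Groth.Agent.Lib.AlgSpPoints_helper7

namespace Groth.Agent.Lib.LocFinIrrH7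

/-- Quasi-compact opens have finitely many irreducible components. -/
abbrev LFI (U : Scheme.{u}) : Prop :=
  ∀ W : U.Opens, IsCompact (W : Set ↥U) → (irreducibleComponents ↥W).Finite

section Sch

theorem finite_irreducibleComponents_of_surjective {α : Type*} {β : Type*} [TopologicalSpace α]
    [TopologicalSpace β] (f : α → β) (hf : Continuous f) (hs : Function.Surjective f)
    (h : (irreducibleComponents α).Finite) : (irreducibleComponents β).Finite := by
  refine (h.image (fun C => closure (f '' C))).subset ?_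
  intro Z hZ
  have hcov : Z ⊆ ⋃₀ ((fun C => closure (f '' C)) '' irreducibleComponents α) := by
    intro z _
    obtain ⟨x, rfl⟩ := hs z
    exact ⟨_, ⟨irreducibleComponent x, irreducibleComponent_mem_irreducibleComponents x, rfl⟩,
      subset_closure ⟨x, mem_irreducibleComponent, rfl⟩⟩
  obtain ⟨z, hz, hZz⟩ := (isIrreducible_iff_sUnion_isClosed.1 hZ.1)
    (h.image (fun C => closure (f '' C))).toFinset
    (by
      intro z hz
      rw [Set.Finite.mem_toFinset] at hz
      obtain ⟨C, -, rfl⟩ := hz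
      exact isClosed_closure)
    (by rwa [Set.Finite.coe_toFinset])
  rw [Set.Finite.mem_toFinset] at hz
  obtain ⟨C, hC, rfl⟩ := hz
  refine ⟨C, hC, ?_⟩
  have hirr : IsIrreducible (closure (f '' C)) := (hC.1.image f hf.continuousOn).closure
  exact Set.Subset.antisymm (hZ.2 hirr hZz) hZz

theorem finite_minimalPrimes_of_ringHom_ft {A B : Type u} [CommRing A] [CommRing B] (φ : A →+* B)
    (h1 : φ.Flat) (h2 : φ.FiniteType) (h : (minimalPrimes A).Finite) :
    (minimalPrimes B).Finite := by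
  algebraize [φ]
  exact Groth.Agent.Lib.EtaIrrCompH1.finite_minimalPrimes_of_flat_finiteType h

open Groth.Agent.Lib.EtaIrrCompH1 Groth.Agent.Lib.FlatUnramFPH4 in
theorem lfi_of_flat_lft {Y X : Scheme.{u}} (f : Y ⟶ X) [Flat f] [LocallyOfFiniteType f]
    (hX : LFI X) : LFI Y := by
  intro V hV
  have key : ∀ y : V, ∃ W : Y.Opens, (y : Y) ∈ W ∧ W ≤ V ∧
      (irreducibleComponents (W : Type u)).Finite := by
    intro y
    obtain ⟨U, hU, hyU, -⟩ := Opens.isBasis_iff_nbhd.mp X.isBasis_affineOpens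
      (Opens.mem_top (f (y : Y)))
    obtain ⟨W, hW, hyW, hWle⟩ := Opens.isBasis_iff_nbhd.mp Y.isBasis_affineOpens
      (show (y : Y) ∈ V ⊓ f ⁻¹ᵁ U from ⟨y.2, hyU⟩)
    have e : W ≤ f ⁻¹ᵁ U := hWle.trans inf_le_right
    refine ⟨W, hyW, hWle.trans inf_le_left, ?_⟩
    have hUfin : (minimalPrimes Γ(X, U)).Finite :=
      finite_minimalPrimes_of_affineOpen hU le_rfl (hX U hU.isCompact)
    exact finite_irreducibleComponents_of_affineOpen hW
      (finite_minimalPrimes_of_ringHom_ft (f.appLE U W e).hom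
        (HasRingHomProperty.appLE @Flat f inferInstance ⟨U, hU⟩ ⟨W, hW⟩ e)
        (HasRingHomProperty.appLE @LocallyOfFiniteType f inferInstance ⟨U, hU⟩ ⟨W, hW⟩ e)
        hUfin)
  choose W hyW hWV hWfin using key
  obtain ⟨t, ht⟩ := hV.elim_finite_subcover (fun y : V => ((W y : Y.Opens) : Set Y))
    (fun y => (W y).isOpen) (fun y hy => Set.mem_iUnion.2 ⟨⟨y, hy⟩, hyW ⟨y, hy⟩⟩)
  refine finite_irreducibleComponents_of_cover (ι := t) (fun i => ↥(W i.1))
    (fun i => Set.inclusion (SetLike.coe_subset_coe.2 (hWV i.1)))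
    (fun i => Opens.isOpenEmbedding_of_le (hWV i.1)) ?_ (fun i => hWfin i.1)
  intro x
  have hx := ht x.2
  simp only [Set.mem_iUnion] at hx
  obtain ⟨i, hi, hx⟩ := hx
  exact ⟨⟨i, hi⟩, ⟨⟨x.1, hx⟩, Subtype.ext rfl⟩⟩

theorem lfi_of_openMap_surjective {P U : Scheme.{u}} (g : P ⟶ U) (ho : IsOpenMap g)
    (hs : Function.Surjective g) (hP : LFI P) : LFI U := by
  intro W hW
  have key : ∀ w : W, ∃ A : P.Opens, IsCompact (A : Set P) ∧ A ≤ g ⁻¹ᵁ W ∧
      (w : U) ∈ g '' (A : Set P) := by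
    intro w
    obtain ⟨z, hz⟩ := hs w.1
    obtain ⟨A, hA, hzA, hAle⟩ := Opens.isBasis_iff_nbhd.mp P.isBasis_affineOpens
      (show z ∈ g ⁻¹ᵁ W from by show g z ∈ W; rw [hz]; exact w.2)
    exact ⟨A, hA.isCompact, hAle, z, hzA, hz⟩
  choose A hAc hAle hwA using key
  obtain ⟨t, ht⟩ := hW.elim_finite_subcover (fun w : W => g '' (A w : Set P))
    (fun w => ho _ (A w).isOpen) (fun w hw => Set.mem_iUnion.2 ⟨⟨w, hw⟩, hwA ⟨w, hw⟩⟩)
  have hW'c : IsCompact ((⨆ w ∈ t, A w : P.Opens) : Set P) := by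
    have e : ((⨆ w ∈ t, A w : P.Opens) : Set P) = ⋃ w ∈ t, (A w : Set P) := by
      simp [Opens.coe_iSup]
    rw [e]
    exact t.isCompact_biUnion fun w _ => hAc w
  have hfin := hP _ hW'c
  have hle : (⨆ w ∈ t, A w : P.Opens) ≤ g ⁻¹ᵁ W := iSup₂_le fun w _ => hAle w
  have hφc : Continuous (fun z : (⨆ w ∈ t, A w : P.Opens) => (⟨g z.1, hle z.2⟩ : W)) :=
    (g.continuous.comp continuous_subtype_val).subtype_mk _
  have hφs : Function.Surjective
      (fun z : (⨆ w ∈ t, A w : P.Opens) => (⟨g z.1, hle z.2⟩ : W)) := by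
    intro w
    have hw := ht w.2
    simp only [Set.mem_iUnion] at hw
    obtain ⟨w', hw't, z, hzA, hz⟩ := hw
    exact ⟨⟨z, Opens.mem_iSup.2 ⟨w', Opens.mem_iSup.2 ⟨hw't, hzA⟩⟩⟩, Subtype.ext hz⟩
  exact finite_irreducibleComponents_of_surjective _ hφc hφs hfin

theorem finite_of_lfi_compact {T : Scheme.{u}} [CompactSpace T] (h : LFI T) :
    (irreducibleComponents ↥T).Finite := by
  have h1 := h ⊤ (by rw [Opens.coe_top]; exact isCompact_univ)
  exact finite_irreducibleComponents_of_surjective (fun x : (⊤ : T.Opens) => (x : T))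
    continuous_subtype_val (fun x => ⟨⟨x, trivial⟩, rfl⟩) h1

theorem closure_mem_irreducibleComponents_of_isMax {T : Scheme.{u}} (t : T) (ht : IsMax t) :
    closure ({t} : Set T) ∈ irreducibleComponents T := by
  refine ⟨isIrreducible_singleton.closure, fun s hs hts => ?_⟩
  obtain ⟨z, hz⟩ := QuasiSober.sober hs.closure isClosed_closure
  have h1 : z ⤳ t := by
    rw [specializes_iff_mem_closure, hz.def]
    exact subset_closure (hts (subset_closure rfl))
  have h2 : t ⤳ z := ht (show t ≤ z from h1)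
  intro x hx
  have hxz : x ∈ closure ({z} : Set T) := by rw [hz.def]; exact subset_closure hx
  exact h2.closure_subset hxz

theorem exists_isMax_of_mem_irreducibleComponents {T : Scheme.{u}} {Z : Set T}
    (hZ : Z ∈ irreducibleComponents T) : ∃ z : T, IsMax z ∧ closure ({z} : Set T) = Z := by
  obtain ⟨z, hz⟩ := QuasiSober.sober hZ.1 (isClosed_of_mem_irreducibleComponents Z hZ)
  refine ⟨z, ?_, hz.def⟩
  intro z' hzz'
  have h1 : z' ⤳ z := hzz'
  have h2 : Z ⊆ closure ({z'} : Set T) := by rw [← hz.def]; exact h1.closure_subset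
  have h3 : closure ({z'} : Set T) ⊆ Z := hZ.2 isIrreducible_singleton.closure h2
  show z ⤳ z'
  rw [specializes_iff_mem_closure, hz.def]
  exact h3 (subset_closure rfl)

theorem finite_dimZero {T : Scheme.{u}} (h : (irreducibleComponents ↥T).Finite) :
    {t : T | ringKrullDim ↥(T.presheaf.stalk t) = 0}.Finite := by
  apply Set.Finite.of_finite_image (f := fun t : T => closure ({t} : Set T))
  · refine h.subset ?_
    rintro _ ⟨t, ht, rfl⟩
    apply closure_mem_irreducibleComponents_of_isMax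
    rw [← Order.coheight_eq_zero]
    have h1 := ringKrullDim_stalk_eq_coheight t
    rw [ht] at h1
    exact_mod_cast h1.symm
  · intro t _ t' _ htt'
    have h1 : IsGenericPoint t (closure ({t'} : Set T)) := htt'
    exact h1.eq isGenericPoint_closure

end Sch

variable {S : Scheme.{u}}

theorem main10303 {X Y : AlgSp.Space S} (f : X ⟶ Y)
    (hf : LocP @Flat f.hom) (hf' : LocP @LocallyOfFiniteType f.hom)
    (hY : EtaleLocally LFI Y.obj) : EtaleLocally LFI X.obj := by
  obtain ⟨V, b, hbe, hbs, hV⟩ := hY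
  obtain ⟨U₀, a₀, ha₀e, ha₀s⟩ := X.property.atlas
  have sq := hbe.rep.isPullback' (a₀ ≫ f.hom)
  haveI e2 : Etale (hbe.rep.snd (a₀ ≫ f.hom)).left := hbe.property_snd (a₀ ≫ f.hom)
  have s2 : Surjective (hbe.rep.snd (a₀ ≫ f.hom)).left := hbs.property _ _ _ sq
  have hae : RepWith @Etale ((yon S).map (hbe.rep.snd (a₀ ≫ f.hom)) ≫ a₀) :=
    (RepWith (S := S) @Etale).comp_mem _ _ ((repWith_yon_map_iff _ _).2 e2) ha₀e
  have has : RepWith @Surjective ((yon S).map (hbe.rep.snd (a₀ ≫ f.hom)) ≫ a₀) :=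
    (RepWith (S := S) @Surjective).comp_mem _ _ ((repWith_yon_map_iff _ _).2 s2) ha₀s
  have cm : ((yon S).map (hbe.rep.snd (a₀ ≫ f.hom)) ≫ a₀) ≫ f.hom =
      (yon S).map (hbe.rep.fst' (a₀ ≫ f.hom)) ≫ b := by
    rw [Category.assoc]; exact sq.w.symm
  haveI : Flat (hbe.rep.fst' (a₀ ≫ f.hom)).left := hf _ b _ hae hbe cm
  haveI : LocallyOfFiniteType (hbe.rep.fst' (a₀ ≫ f.hom)).left := hf' _ b _ hae hbe cm
  exact ⟨_, _, hae, has, lfi_of_flat_lft (hbe.rep.fst' (a₀ ≫ f.hom)).left hV⟩

/-- The property on one étale surjective chart implies it on every étale chart. -/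
theorem lfi_of_chart {X : Sp S} (hX : EtaleLocally LFI X) {U : Over S}
    (a : (yon S).obj U ⟶ X) (hae : RepWith @Etale a) : LFI U.left := by
  obtain ⟨V, b, hbe, hbs, hV⟩ := hX
  have sq := hbe.rep.isPullback' a
  haveI e2 : Etale (hbe.rep.snd a).left := hbe.property_snd a
  have s2 : Surjective (hbe.rep.snd a).left := hbs.property _ _ _ sq
  haveI e1 : Etale (hbe.rep.fst' a).left := hae.property _ _ _ sq.flip
  have h1 : LFI (hbe.rep.pullback a).left := lfi_of_flat_lft (hbe.rep.fst' a).left hV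
  exact lfi_of_openMap_surjective (hbe.rep.snd a).left (hbe.rep.snd a).left.isOpenMap
    s2.surj h1

theorem finite_codimZero_of_chart {Y : Sp S} {T : Over S} (c : (yon S).obj T ⟶ Y)
    (hce : RepWith @Etale c) (hcs : RepWith @Surjective c)
    (hfin : (irreducibleComponents ↥T.left).Finite) :
    {y : Points Y | HasAt (fun U u => ringKrullDim ↥(U.presheaf.stalk u) = 0) Y y}.Finite := by
  refine ((finite_dimZero hfin).image (Points.ofPt c)).subset ?_
  rintro y ⟨T', c', t', hc'e, ht', hd⟩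
  obtain ⟨t, ht⟩ := ofPt_surjective c hcs y
  refine ⟨t, ?_, ht⟩
  show ringKrullDim ↥(T.left.presheaf.stalk t) = 0
  rw [ResTrdegH8.stalkDim_chart_indep c c' hce hc'e t t' (ht.trans ht'.symm)]
  exact hd

theorem main10304 (X : AlgSp.Space S) :
    (EtaleLocally LFI X.obj ↔
      ∀ (U : Over S) (a : (yon S).obj U ⟶ X.obj), RepWith @Etale a → LFI U.left) ∧
    (EtaleLocally LFI X.obj ↔
      ∀ (Y : AlgSp.Space S) (g : Y ⟶ X), IsEtaleMor g.hom → IsQuasiCompactSp Y.obj →
        {y : Points Y.obj |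
          HasAt (fun U u => ringKrullDim ↥(U.presheaf.stalk u) = 0) Y.obj y}.Finite) ∧
    (EtaleLocally LFI X.obj ↔
      ∀ (Y : AlgSp.Space S) (g : Y ⟶ X), IsEtaleMor g.hom → IsQuasiCompactSp Y.obj →
        (irreducibleComponents (Points Y.obj)).Finite) := by
  have hEA : EtaleLocally LFI X.obj →
      ∀ (U : Over S) (a : (yon S).obj U ⟶ X.obj), RepWith @Etale a → LFI U.left :=
    fun h U a hae => lfi_of_chart h a hae
  have hAE : (∀ (U : Over S) (a : (yon S).obj U ⟶ X.obj), RepWith @Etale a → LFI U.left) →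
      EtaleLocally LFI X.obj := by
    intro h
    obtain ⟨U, a, hae, has⟩ := X.property.atlas
    exact ⟨U, a, hae, has, h U a hae⟩
  -- data attached to a quasi-compact open of a chart
  have hopen : ∀ (U : Over S) (a : (yon S).obj U ⟶ X.obj), RepWith @Etale a →
      ∀ W : U.left.Opens, IsCompact (W : Set ↥U.left) →
      ∃ (Y : AlgSp.Space S) (g : Y ⟶ X), IsEtaleMor g.hom ∧ IsQuasiCompactSp Y.obj ∧
        Y.obj = (yon S).obj (Over.mk (W.ι ≫ U.hom)) := by
    intro U a hae W hW
    refine ⟨⟨(yon S).obj (Over.mk (W.ι ≫ U.hom)), IsAlgSpace.yon_obj _⟩,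
      ObjectProperty.homMk ((yon S).map (Over.homMk W.ι rfl : Over.mk (W.ι ≫ U.hom) ⟶ U) ≫ a),
      ?_, ?_, rfl⟩
    · intro U' φ hφ
      exact (RepWith (S := S) @Etale).comp_mem _ _ hφ
        ((RepWith (S := S) @Etale).comp_mem _ _
          ((repWith_yon_map_iff _ _).2 (inferInstance : Etale W.ι)) hae)
    · haveI : CompactSpace ↥W.toScheme := isCompact_iff_compactSpace.1 hW
      exact ⟨Over.mk (W.ι ≫ U.hom), 𝟙 _, repWith_id _ _, repWith_id _ _,
        (inferInstance : CompactSpace ↥W.toScheme)⟩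
  refine ⟨⟨hEA, hAE⟩, ⟨fun h Y g hg hqc => ?_, fun h => hAE fun U a hae W hW => ?_⟩,
    ⟨fun h Y g hg hqc => ?_, fun h => hAE fun U a hae W hW => ?_⟩⟩
  · obtain ⟨T, c, hce, hcs, hTc⟩ := hqc
    haveI := hTc
    have h1 : LFI T.left := hEA h T (c ≫ g.hom) (hg c hce)
    exact finite_codimZero_of_chart c hce hcs (finite_of_lfi_compact h1)
  · obtain ⟨Y, g, hg, hqc, hYo⟩ := hopen U a hae W hW
    have h1 := h Y g hg hqc
    obtain ⟨Yo, hYp⟩ := Y
    simp only at hYo
    subst hYo
    -- irreducible components of `W` have maximal generic points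
    have h2 : irreducibleComponents ↥W.toScheme ⊆
        (fun y => closure ({Points.toScheme (Over.mk (W.ι ≫ U.hom)) y} : Set ↥W.toScheme)) ''
          {y | HasAt (fun U u => ringKrullDim ↥(U.presheaf.stalk u) = 0)
            ((yon S).obj (Over.mk (W.ι ≫ U.hom))) y} := by
      intro Z hZ
      obtain ⟨z, hzmax, hzZ⟩ := exists_isMax_of_mem_irreducibleComponents hZ
      refine ⟨Points.ofScheme (Over.mk (W.ι ≫ U.hom)) z, ?_, ?_⟩
      · refine ⟨Over.mk (W.ι ≫ U.hom), 𝟙 _, z, repWith_id _ _, rfl, ?_⟩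
        show ringKrullDim ↥(W.toScheme.presheaf.stalk z) = 0
        rw [ringKrullDim_stalk_eq_coheight, Order.coheight_eq_zero.2 hzmax]
        rfl
      · show closure {Points.toScheme (Over.mk (W.ι ≫ U.hom))
          (Points.ofScheme (Over.mk (W.ι ≫ U.hom)) z)} = Z
        rw [Points.toScheme_ofScheme]
        exact hzZ
    exact (h1.image _).subset h2
  · obtain ⟨T, c, hce, hcs, hTc⟩ := hqc
    haveI := hTc
    have h1 : LFI T.left := hEA h T (c ≫ g.hom) (hg c hce)
    exact finite_irreducibleComponents_of_surjective (Points.ofPt c) (Points.continuous_ofPt c)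
      (ofPt_surjective c hcs) (finite_of_lfi_compact h1)
  · obtain ⟨Y, g, hg, hqc, hYo⟩ := hopen U a hae W hW
    have h1 := h Y g hg hqc
    obtain ⟨Yo, hYp⟩ := Y
    simp only at hYo
    subst hYo
    exact Groth.Agent.Lib.EtaIrrCompH1.finite_irreducibleComponents_of_homeomorph
      (Points.schemeHomeo (Over.mk (W.ι ≫ U.hom))).symm h1

end Groth.Agent.Lib.LocFinIrrH7
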