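import Mathlib
import Groth.Prelude.Def_ArtFun4
import Groth.Agent.Lib.ComplCRing_helper1

/-!
# The local functor of a scheme at a rational point (helper1)

For a `k`-scheme `M` and a `k`-point `x₀`, morphisms `Spec A → M` (`A` local Artinian with residue
field `k`) restricting to `x₀` on the closed point are the augmentation-compatible `k`-algebra maps
`O_{M,x} → A`; combined with `ComplCRing_helper1` the functor is pro-represented by the completion.
APPEND-ONLY once landed.
-/

set_option autoImplicit false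
universe u

open CategoryTheory AlgebraicGeometry IsLocalRing

namespace Groth.Agent.Lib.LocFunPtH1

open ArtFun ArtFun.Art Groth.Agent.Lib.ComplCRingH1

theorem exists_factor {X : Scheme.{u}} (R : CommRingCat.{u}) [IsLocalRing R] (g : Spec R ⟶ X)
    (x : X) (hx : g (closedPoint R) = x) :
    ∃ ψ : X.presheaf.stalk x ⟶ R, Spec.map ψ ≫ X.fromSpecStalk x = g := by
  subst hx
  exact ⟨Scheme.stalkClosedPointTo g, Scheme.Spec_stalkClosedPointTo_fromSpecStalk g⟩

section Phi

variable {k : Type u} [Field k] (M : Scheme.{u}) (m : M ⟶ Spec (CommRingCat.of k))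
  (x₀ : Spec (CommRingCat.of k) ⟶ M) (x : M)
  [Algebra k (M.presheaf.stalk x)] (res : M.presheaf.stalk x →ₐ[k] k)

/-- the morphism `Spec A → M` of a map `O_{M,x} → A` -/
noncomputable def Phi (A : Art k k) (φ : HomSet (M.presheaf.stalk x) res A) : Art.spec A ⟶ M :=
  Spec.map (CommRingCat.ofHom φ.1.toRingHom) ≫ M.fromSpecStalk x

variable (hstr : Spec.map (CommRingCat.ofHom (algebraMap k (M.presheaf.stalk x))) =
    M.fromSpecStalk x ≫ m)
  (haug : Spec.map (CommRingCat.ofHom res.toRingHom) ≫ M.fromSpecStalk x = x₀)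

include hstr in
theorem Phi_m (A : Art k k) (φ : HomSet (M.presheaf.stalk x) res A) :
    Phi M x res A φ ≫ m = Art.specMap (Art.ofBase A) := by
  rw [Phi, Category.assoc, ← hstr, ← Spec.map_comp, ← CommRingCat.ofHom_comp]
  congr 2
  exact RingHom.ext fun c => φ.1.commutes c

include haug in
theorem Phi_res (A : Art k k) (φ : HomSet (M.presheaf.stalk x) res A) :
    Art.specRes A ≫ Phi M x res A φ = x₀ := by
  rw [Phi, ← Category.assoc, ← Spec.map_comp, ← CommRingCat.ofHom_comp, ← haug]
  congr 3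
  exact congrArg AlgHom.toRingHom φ.2

/-- the bundled version -/
noncomputable def PhiS (A : Art k k) (φ : HomSet (M.presheaf.stalk x) res A) :
    {g : Art.spec A ⟶ M // g ≫ m = Art.specMap (Art.ofBase A) ∧ Art.specRes A ≫ g = x₀} :=
  ⟨Phi M x res A φ, Phi_m M m x res hstr A φ, Phi_res M x₀ x res haug A φ⟩

theorem Phi_natural (A B : Art k k) (h : A ⟶ B) (φ : HomSet (M.presheaf.stalk x) res A) :
    Phi M x res B (HomSet.map h φ) = Art.specMap h ≫ Phi M x res A φ := by
  rw [Phi, Phi, ← Category.assoc, ← Spec.map_comp, ← CommRingCat.ofHom_comp]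
  rfl

theorem PhiS_injective (A : Art k k) :
    Function.Injective (PhiS M m x₀ x res hstr haug A) := by
  intro φ₁ φ₂ h
  have h1 : Phi M x res A φ₁ = Phi M x res A φ₂ := congrArg Subtype.val h
  rw [Phi, Phi, cancel_mono] at h1
  have h2 := Spec.map_injective h1
  have h3 : φ₁.1.toRingHom = φ₂.1.toRingHom := congrArg CommRingCat.Hom.hom h2
  exact Subtype.ext (AlgHom.coe_ringHom_injective h3)

theorem specRes_closedPoint (A : Art k k) :
    Art.specRes A (closedPoint (CommRingCat.of k)) = closedPoint (CommRingCat.of A) := by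
  haveI : IsLocalHom (CommRingCat.ofHom A.res.toRingHom).hom :=
    ⟨fun a ha => (Art.isLocalHom (Art.toBase A)).map_nonunit a ha⟩
  exact Spec_closedPoint

include hstr haug in
theorem PhiS_surjective (hx : x₀ (closedPoint (CommRingCat.of k)) = x) (A : Art k k) :
    Function.Surjective (PhiS M m x₀ x res hstr haug A) := by
  rintro ⟨g, hg1, hg2⟩
  have hgx : g (closedPoint (CommRingCat.of A)) = x := by
    rw [← hx, ← hg2, ← specRes_closedPoint A]
    exact (Scheme.Hom.comp_apply _ _ _).symm
  obtain ⟨ψ, hψ⟩ := exists_factor (CommRingCat.of A) g x hgx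
  have hcomm : CommRingCat.ofHom (algebraMap k (M.presheaf.stalk x)) ≫ ψ =
      CommRingCat.ofHom (Art.ofBase A).toAlgHom.toRingHom := by
    apply Spec.map_injective
    rw [Spec.map_comp, hstr, ← Category.assoc, hψ]
    exact hg1
  have hψres : ψ ≫ CommRingCat.ofHom A.res.toRingHom = CommRingCat.ofHom res.toRingHom := by
    apply Spec.map_injective
    rw [← cancel_mono (M.fromSpecStalk x), haug, Spec.map_comp, Category.assoc, hψ]
    exact hg2
  have : ∃ φ : HomSet (M.presheaf.stalk x) res A, Phi M x res A φ = g := by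
    refine ⟨⟨{ toRingHom := ψ.hom
               commutes' := fun c =>
                 congrArg (fun t : CommRingCat.of k ⟶ CommRingCat.of A => t.hom c) hcomm }, ?_⟩,
      hψ⟩
    apply AlgHom.ext
    intro z
    exact congrArg (fun t : M.presheaf.stalk x ⟶ CommRingCat.of k => t.hom z) hψres
  obtain ⟨φ, hφ⟩ := this
  exact ⟨φ, Subtype.ext hφ⟩

end Phi

section Main

open Groth.Agent.Lib.ComplCRingH1

theorem main12304 {k : Type u} [Field k] (M : Scheme.{u}) (m : M ⟶ Spec (CommRingCat.of k))
    [IsLocallyNoetherian M] (x₀ : Spec (CommRingCat.of k) ⟶ M) (hx₀ : x₀ ≫ m = 𝟙 _) :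
    ∃ (R : ArtFun.CRing k k)
      (e : ∀ A : ArtFun.Art k k, ArtFun.HomSet R.carrier R.res A ≃
        {g : ArtFun.Art.spec A ⟶ M // g ≫ m = ArtFun.Art.specMap (ArtFun.Art.ofBase A) ∧
          ArtFun.Art.specRes A ≫ g = x₀}),
      ∀ (A B : ArtFun.Art k k) (h : A ⟶ B) (φ : ArtFun.HomSet R.carrier R.res A),
        ((e B) (ArtFun.HomSet.map h φ)).1 = ArtFun.Art.specMap h ≫ ((e A) φ).1 := by
  obtain ⟨x, hx⟩ : ∃ x : M, x₀ (closedPoint (CommRingCat.of k)) = x := ⟨_, rfl⟩
  obtain ⟨ρ, hρ⟩ : ∃ ρ : M.presheaf.stalk x ⟶ CommRingCat.of k,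
      Spec.map ρ ≫ M.fromSpecStalk x = x₀ := exists_factor (CommRingCat.of k) x₀ x hx
  obtain ⟨a, ha⟩ : ∃ a : CommRingCat.of k ⟶ M.presheaf.stalk x,
      Spec.map a = M.fromSpecStalk x ≫ m := ⟨Spec.preimage _, Spec.map_preimage _⟩
  have haρ : a ≫ ρ = 𝟙 _ := by
    apply Spec.map_injective
    rw [Spec.map_comp, ha, ← Category.assoc, hρ, hx₀, Spec.map_id]
  letI : Algebra k (M.presheaf.stalk x) := a.hom.toAlgebra
  obtain ⟨res, hresdef⟩ : ∃ res : M.presheaf.stalk x →ₐ[k] k, res.toRingHom = ρ.hom :=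
    ⟨{ toRingHom := ρ.hom
       commutes' := fun c =>
         congrArg (fun t : CommRingCat.of k ⟶ CommRingCat.of k => t.hom c) haρ }, rfl⟩
  have hres : Function.Surjective res := fun c => ⟨algebraMap k _ c, res.commutes c⟩
  have hstr : Spec.map (CommRingCat.ofHom (algebraMap k (M.presheaf.stalk x))) =
      M.fromSpecStalk x ≫ m := ha
  have haug : Spec.map (CommRingCat.ofHom res.toRingHom) ≫ M.fromSpecStalk x = x₀ := by
    rw [hresdef]
    exact hρ
  refine ⟨complC (M.presheaf.stalk x) res hres, fun A =>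
    (Equiv.ofBijective _ (complFam_universal (M.presheaf.stalk x) res hres A)).trans
      (Equiv.ofBijective (PhiS M m x₀ x res hstr haug A)
        ⟨PhiS_injective M m x₀ x res hstr haug A, PhiS_surjective M m x₀ x res hstr haug hx A⟩),
    ?_⟩
  intro A B h φ
  show Phi M x res B ((complFam (M.presheaf.stalk x) res hres).app B (HomSet.map h φ)) =
    Art.specMap h ≫ Phi M x res A ((complFam (M.presheaf.stalk x) res hres).app A φ)
  rw [(complFam (M.presheaf.stalk x) res hres).natural h φ]
  exact Phi_natural M x res A B h _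

end Main

end Groth.Agent.Lib.LocFunPtH1
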