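import Mathlib
import Groth.Prelude
import Groth.Agent.Lib.GenCov_lead
import Groth.Agent.Lib.PB1_helper8
import Groth.Agent.Lib.PB9_helper8

/-!
# Generators of `M` from generators of `f^* M~` on a Nisnevich cover, part 1 (helper3)

* `gen_of_section`: if `f^* M~` is a quotient of `O_U^N` and `s : Spec A' ⟶ U` is a lift of
  `Spec.map ψ`, then `A' ⊗_R M` is generated by `N` elements.
-/

set_option autoImplicit false
set_option linter.all false
set_option maxHeartbeats 1600000
set_option backward.isDefEq.respectTransparency false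
set_option backward.isDefEq.respectTransparency.types false
set_option backward.defeqAttrib.useBackward true

universe u
open CategoryTheory CategoryTheory.Limits AlgebraicGeometry TopologicalSpace Opposite

namespace Groth.Agent.Lib.NisGenH3

/-- "`f^* M~` is generated by `N` global sections" -/
def Gen {R : CommRingCat.{u}} {U : Scheme.{u}} (f : U ⟶ Spec R) (M : ModuleCat.{u} R) (N : ℕ) :
    Prop :=
  ∃ φ : FlatMod.freeMod U N ⟶ (Scheme.Modules.pullback f).obj (AlgebraicGeometry.tilde M), Epi φ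

/-- pulling `Gen` back along a morphism `p : U' ⟶ U` -/
theorem Gen.comp {R : CommRingCat.{u}} {U U' : Scheme.{u}} (f : U ⟶ Spec R) (p : U' ⟶ U)
    (M : ModuleCat.{u} R) (N : ℕ) (h : Gen f M N) : Gen (p ≫ f) M N := by
  obtain ⟨φ, hφ⟩ := h
  haveI := hφ
  refine ⟨(PBH8.pullbackFreeIso p N).inv ≫ (Scheme.Modules.pullback p).map φ ≫
    (Scheme.Modules.pullbackComp p f).hom.app (AlgebraicGeometry.tilde M), ?_⟩
  haveI : Epi ((Scheme.Modules.pullback p).map φ) := inferInstance
  infer_instance

theorem Gen.congr {R : CommRingCat.{u}} {U : Scheme.{u}} {f f' : U ⟶ Spec R} (hff : f = f')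
    (M : ModuleCat.{u} R) (N : ℕ) (h : Gen f M N) : Gen f' M N := by
  subst hff; exact h

/-- `Gen` passes to quotients of `M` -/
theorem Gen.of_epi {R : CommRingCat.{u}} {U : Scheme.{u}} (f : U ⟶ Spec R)
    {M Q : ModuleCat.{u} R} (π : M ⟶ Q) [Epi π] (N : ℕ) (h : Gen f M N) : Gen f Q N := by
  obtain ⟨φ, hφ⟩ := h
  haveI := hφ
  haveI : Epi ((tilde.functor R).map π) := inferInstance
  haveI : Epi ((Scheme.Modules.pullback f).map ((tilde.functor R).map π)) := inferInstance
  exact ⟨φ ≫ (Scheme.Modules.pullback f).map ((tilde.functor R).map π), inferInstance⟩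

/-- global generation on `Spec A'` of a tilde gives module generators -/
theorem span_of_epi_tilde (A' : CommRingCat.{u}) (E : ModuleCat.{u} A') (N : ℕ)
    (χ : FlatMod.freeMod (Spec A') N ⟶ AlgebraicGeometry.tilde E) [Epi χ] :
    ∃ t : Fin (N * 1) → E, Submodule.span A' (Set.range t) = ⊤ := by
  refine GenCovL.main A' E N 1 (fun _ => ⊤) (by simp) (fun _ => ?_)
  let ι : ((⊤ : (Spec A').Opens) : Scheme.{u}) ⟶ Spec A' := (⊤ : (Spec A').Opens).ι
  haveI : Epi ((Scheme.Modules.pullback ι).map χ) := inferInstance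
  refine ⟨(PBH8.pullbackFreeIso ι N).inv ≫ (Scheme.Modules.pullback ι).map χ ≫
    (Scheme.Modules.restrictFunctorIsoPullback ι).inv.app (AlgebraicGeometry.tilde E), ?_⟩
  infer_instance

/-- **generators along a section** -/
theorem gen_of_section {R A' : CommRingCat.{u}} (ψ : R ⟶ A') (M : ModuleCat.{u} R)
    {U : Scheme.{u}} (f : U ⟶ Spec R) (s : Spec A' ⟶ U) (hs : s ≫ f = Spec.map ψ) (N : ℕ)
    (h : Gen f M N) :
    ∃ t : Fin (N * 1) → (ModuleCat.extendScalars ψ.hom).obj M,
      Submodule.span A' (Set.range t) = ⊤ := by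
  obtain ⟨φ, hφ⟩ := Gen.congr hs M N (Gen.comp f s M N h)
  haveI := hφ
  exact span_of_epi_tilde A' ((ModuleCat.extendScalars ψ.hom).obj M) N
    (φ ≫ (PBH8.pullbackTildeIso ψ).hom.app M)

end Groth.Agent.Lib.NisGenH3
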