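import Mathlib
import Groth.Prelude

/-!
# Generators of `M` from generators of `f^* M~` on a Nisnevich cover, part 2: algebra (helper3)

`ψ = mk J : R ⟶ R ⧸ J`, `T = (extendScalars ψ).obj M`.
* `eta_surj`: every element of `T` is `1 ⊗ x`.
* `lift_gens`: generators of `T` lift to elements of `M` generating modulo `J • M`.
* `finite_ext`: `T` is finite if `M` is.
-/

set_option autoImplicit false
set_option linter.all false
set_option maxHeartbeats 1600000
set_option backward.isDefEq.respectTransparency false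
set_option backward.isDefEq.respectTransparency.types false
set_option backward.defeqAttrib.useBackward true

universe u
open CategoryTheory CategoryTheory.Limits TensorProduct

namespace Groth.Agent.Lib.NisGenH3

open ChangeOfRings

/-- the quotient map as a morphism of `CommRingCat` -/
noncomputable abbrev qm {R : CommRingCat.{u}} (J : Ideal R) : R ⟶ CommRingCat.of (R ⧸ J) :=
  CommRingCat.ofHom (Ideal.Quotient.mk J)

/-- `x ↦ 1 ⊗ x` -/
noncomputable def eta {R : CommRingCat.{u}} (J : Ideal R) (M : ModuleCat.{u} R) (x : M) :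
    (ModuleCat.extendScalars (qm J).hom).obj M :=
  (1 : R ⧸ J) ⊗ₜ[R, (qm J).hom] x

theorem eta_add {R : CommRingCat.{u}} (J : Ideal R) (M : ModuleCat.{u} R) (x y : M) :
    eta J M (x + y) = eta J M x + eta J M y := by
  unfold eta
  exact TensorProduct.tmul_add _ _ _

theorem eta_smul {R : CommRingCat.{u}} (J : Ideal R) (M : ModuleCat.{u} R) (r : R) (x : M) :
    eta J M (r • x) = (Ideal.Quotient.mk J r) • eta J M x := by
  unfold eta
  rw [ModuleCat.ExtendScalars.smul_tmul, mul_one]
  letI : Module R (R ⧸ J) := Module.compHom _ (qm J).hom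
  have := TensorProduct.smul_tmul (R := R) (R' := R) (M := R ⧸ J) (N := M) r (1 : R ⧸ J) x
  rw [← this]
  congr 1
  show (qm J).hom r * 1 = _
  rw [mul_one]; rfl

theorem eta_surj {R : CommRingCat.{u}} (J : Ideal R) (M : ModuleCat.{u} R)
    (z : (ModuleCat.extendScalars (qm J).hom).obj M) : ∃ x : M, eta J M x = z := by
  induction z using TensorProduct.induction_on with
  | zero => exact ⟨0, by unfold eta; exact TensorProduct.tmul_zero _ _⟩
  | tmul a x =>
    obtain ⟨r, rfl⟩ := Ideal.Quotient.mk_surjective (I := J) a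
    refine ⟨r • x, ?_⟩
    rw [eta_smul]
    unfold eta
    rw [ModuleCat.ExtendScalars.smul_tmul, mul_one]
  | add z w hz hw =>
    obtain ⟨x, rfl⟩ := hz
    obtain ⟨y, rfl⟩ := hw
    exact ⟨x + y, eta_add J M x y⟩

/-- semilinear version of `eta` -/
noncomputable def etaL {R : CommRingCat.{u}} (J : Ideal R) (M : ModuleCat.{u} R) :
    M →ₛₗ[Ideal.Quotient.mk J] (ModuleCat.extendScalars (qm J).hom).obj M where
  toFun := eta J M
  map_add' := eta_add J M
  map_smul' := eta_smul J M

theorem finite_ext {R : CommRingCat.{u}} (J : Ideal R) (M : ModuleCat.{u} R)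
    [Module.Finite R M] : Module.Finite (R ⧸ J) ((ModuleCat.extendScalars (qm J).hom).obj M) :=
  Module.Finite.of_surjective (etaL J M) (eta_surj J M)

/-- **lifting generators**: generators of `(R ⧸ J) ⊗ M` lift to elements of `M` generating `M`
modulo `J • M`. -/
theorem lift_gens {R : CommRingCat.{u}} (J : Ideal R) (M : ModuleCat.{u} R) (n : ℕ)
    (t : Fin n → (ModuleCat.extendScalars (qm J).hom).obj M)
    (ht : Submodule.span (R ⧸ J) (Set.range t) = ⊤) :
    ∃ m : Fin n → M, Submodule.span R (Set.range m) ⊔ J • (⊤ : Submodule R M) = ⊤ := by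
  choose m hm using fun j => eta_surj J M (t j)
  refine ⟨m, ?_⟩
  set P : Submodule R M := Submodule.span R (Set.range m) ⊔ J • (⊤ : Submodule R M) with hP
  have hX : Module.IsTorsionBySet R (M ⧸ P) (J : Set R) := by
    intro x a
    obtain ⟨y, rfl⟩ := Submodule.Quotient.mk_surjective P x
    rw [← Submodule.Quotient.mk_smul, Submodule.Quotient.mk_eq_zero]
    exact le_sup_right (α := Submodule R M)
      (Submodule.smul_mem_smul a.2 (Submodule.mem_top (x := y)))
  letI : Module (R ⧸ J) (M ⧸ P) := hX.module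
  let Y : ModuleCat.{u} (R ⧸ J) := ModuleCat.of (R ⧸ J) (M ⧸ P)
  let g : M ⟶ (ModuleCat.restrictScalars (qm J).hom).obj Y :=
    ModuleCat.ofHom (Y := (ModuleCat.restrictScalars (qm J).hom).obj Y)
      { toFun := fun x => Submodule.Quotient.mk x
        map_add' := fun x y => rfl
        map_smul' := fun r x => rfl }
  let φ : (ModuleCat.extendScalars (qm J).hom).obj M ⟶ Y :=
    ModuleCat.ExtendRestrictScalarsAdj.HomEquiv.fromExtendScalars (qm J).hom g
  have hφ : ∀ x : M, φ.hom (eta J M x) = Submodule.Quotient.mk x := by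
    intro x
    unfold eta
    erw [ModuleCat.ExtendRestrictScalarsAdj.HomEquiv.fromExtendScalars_hom_apply]
    rw [TensorProduct.lift.tmul]
    simp only [LinearMap.coe_mk, AddHom.coe_mk]
    erw [ModuleCat.ExtendRestrictScalarsAdj.HomEquiv.evalAt_apply]
    rw [one_smul]
    rfl
  have hker : ∀ z, φ.hom z = 0 := by
    intro z
    have hz : z ∈ Submodule.span (R ⧸ J) (Set.range t) := by rw [ht]; trivial
    refine Submodule.span_induction ?_ ?_ ?_ ?_ hz
    · rintro _ ⟨j, rfl⟩
      rw [← hm j, hφ]
      rw [Submodule.Quotient.mk_eq_zero]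
      exact le_sup_left (α := Submodule R M) (Submodule.subset_span ⟨j, rfl⟩)
    · exact map_zero _
    · intro a b _ _ ha hb
      rw [map_add, ha, hb, add_zero]
    · intro c a _ ha
      rw [map_smul, ha, smul_zero]
  rw [eq_top_iff]
  intro x _
  have := hφ x
  rw [hker] at this
  exact (Submodule.Quotient.mk_eq_zero P).1 this.symm

/-- Nakayama step: if `m` generates `M` modulo `I • M` then some `r ∈ 1 + I` multiplies `M` into
the span of `m`. -/
theorem alg_step {R : Type u} [CommRing R] (I : Ideal R) (M : Type u) [AddCommGroup M] [Module R M]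
    [Module.Finite R M] (P₀ : Submodule R M)
    (h : P₀ ⊔ I • (⊤ : Submodule R M) = ⊤) :
    ∃ r : R, r - 1 ∈ I ∧ ∀ x : M, r • x ∈ P₀ := by
  have hfg : (⊤ : Submodule R (M ⧸ P₀)).FG := Module.Finite.fg_top
  have hin : (⊤ : Submodule R (M ⧸ P₀)) ≤ I • (⊤ : Submodule R (M ⧸ P₀)) := by
    intro q _
    obtain ⟨x, rfl⟩ := Submodule.Quotient.mk_surjective P₀ q
    have hx : x ∈ P₀ ⊔ I • (⊤ : Submodule R M) := by rw [h]; trivial
    obtain ⟨p, hp, y, hy, rfl⟩ := Submodule.mem_sup.1 hx
    have h1 : (Submodule.Quotient.mk (p + y) : M ⧸ P₀) = P₀.mkQ y := by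
      rw [Submodule.Quotient.mk_add, (Submodule.Quotient.mk_eq_zero P₀).2 hp, zero_add]
      rfl
    rw [h1]
    have h2 : P₀.mkQ y ∈ (I • (⊤ : Submodule R M)).map P₀.mkQ := Submodule.mem_map_of_mem hy
    rw [Submodule.map_smul''] at h2
    exact (smul_mono_right I le_top : I • _ ≤ I • (⊤ : Submodule R (M ⧸ P₀))) h2
  obtain ⟨r, hr1, hr⟩ :=
    Submodule.exists_sub_one_mem_and_smul_eq_zero_of_fg_of_le_smul I _ hfg hin
  refine ⟨r, hr1, fun x => ?_⟩
  have := hr (Submodule.Quotient.mk x) trivial
  rw [← Submodule.Quotient.mk_smul, Submodule.Quotient.mk_eq_zero] at this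
  exact this

/-- combining generators of a submodule and of the quotient -/
theorem combine {R : Type u} [CommRing R] (M : Type u) [AddCommGroup M] [Module R M]
    (a b : ℕ) (m : Fin a → M) (q : Fin b → M)
    (hq : Submodule.span R (Set.range fun k => (Submodule.span R (Set.range m)).mkQ (q k)) = ⊤) :
    ∃ s : Fin (a + b) → M, Submodule.span R (Set.range s) = ⊤ := by
  refine ⟨Fin.append m q, ?_⟩
  have hl : Submodule.span R (Set.range m) ≤ Submodule.span R (Set.range (Fin.append m q)) :=
    Submodule.span_mono (Set.range_subset_iff.2 fun i => ⟨Fin.castAdd b i, Fin.append_left m q i⟩)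
  have hr : Submodule.span R (Set.range q) ≤ Submodule.span R (Set.range (Fin.append m q)) :=
    Submodule.span_mono (Set.range_subset_iff.2 fun i => ⟨Fin.natAdd a i, Fin.append_right m q i⟩)
  rw [eq_top_iff]
  intro x _
  set P₀ := Submodule.span R (Set.range m) with hP₀
  have hx : P₀.mkQ x ∈ Submodule.span R (Set.range fun k => P₀.mkQ (q k)) := by rw [hq]; trivial
  have hrange : (Set.range fun k => P₀.mkQ (q k)) = P₀.mkQ '' Set.range q := by
    ext z; constructor
    · rintro ⟨k, rfl⟩; exact ⟨q k, ⟨k, rfl⟩, rfl⟩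
    · rintro ⟨_, ⟨k, rfl⟩, rfl⟩; exact ⟨k, rfl⟩
  rw [hrange, ← Submodule.map_span] at hx
  obtain ⟨y, hy, hyx⟩ := hx
  have hxy : x - y ∈ P₀ := by
    rw [← Submodule.Quotient.mk_eq_zero P₀, Submodule.Quotient.mk_sub]
    have : (Submodule.Quotient.mk y : M ⧸ P₀) = Submodule.Quotient.mk x := hyx
    rw [this, sub_self]
  have : x = (x - y) + y := by abel
  rw [this]
  exact Submodule.add_mem _ (hl hxy) (hr hy)

end Groth.Agent.Lib.NisGenH3
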