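import Mathlib
import Groth.Prelude
import Groth.Agent.Lib.NisGen1_helper3
import Groth.Agent.Lib.NisGen2_helper3

/-!
# Generators of `M` from generators of `f^* M~` on a Nisnevich cover, part 3 (helper3)

Induction on the length of the Nisnevich cover (Bhatt's argument): over the closed bottom stratum
`Z 1 = V(I)` the section gives `N` generators of `M / I M`; by Nakayama they generate `M` on an open
neighbourhood `D(r)` of `V(I)`, `r ∈ 1 + I`; the quotient `Q = M / ⟨m_j⟩` is a module over `R/(r)`,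
over which the base-changed cover has length one less.
-/

set_option autoImplicit false
set_option linter.all false
set_option maxHeartbeats 1600000
set_option backward.isDefEq.respectTransparency false
set_option backward.isDefEq.respectTransparency.types false
set_option backward.defeqAttrib.useBackward true

universe u
open CategoryTheory CategoryTheory.Limits AlgebraicGeometry TopologicalSpace Opposite

namespace Groth.Agent.Lib.NisGenH3

open W4c5algebraiztannaka Topology

/-- base change of a Nisnevich cover along `g` whose image misses the bottom stratum: the length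
drops by one. -/
theorem nis_shift {U Y Y' : Scheme.{u}} (f : U ⟶ Y) (g : Y' ⟶ Y) (m : ℕ) [Etale f]
    (Z : Fin (m + 2) → Set Y) (hZl : Z (Fin.last (m + 1)) = Set.univ) (hZm : Monotone Z)
    (hZc : ∀ k, IsClosed (Z k) ∧ IsConstructible (Z k))
    (hZs : ∀ k : Fin (m + 1), HasSectOver f (Z k.succ \ Z k.castSucc))
    (h1 : g ⁻¹' Z 1 = ∅) :
    IsNisCoverLen (pullback.snd f g) m := by
  refine ⟨inferInstance, fun k => g ⁻¹' Z k.succ, ?_, ?_, ?_, ?_, ?_⟩
  · show g ⁻¹' Z (Fin.succ 0) = ∅
    rw [Fin.succ_zero_eq_one]; exact h1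
  · show g ⁻¹' Z (Fin.succ (Fin.last m)) = Set.univ
    rw [Fin.succ_last, hZl]; rfl
  · intro a b hab
    exact Set.preimage_mono (hZm (Fin.succ_le_succ_iff.2 hab))
  · intro k
    exact ⟨(hZc k.succ).1.preimage g.continuous, g.isConstructible_preimage (hZc k.succ).2⟩
  · intro k
    obtain ⟨T, gT, s, hT, hr, hs⟩ := hZs k.succ
    haveI := hT
    refine ⟨pullback gT g, pullback.snd gT g,
      pullback.lift (pullback.fst gT g ≫ s) (pullback.snd gT g) ?_,
      inferInstance, ?_, ?_⟩
    · rw [Category.assoc, hs, pullback.condition]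
    · have := AlgebraicGeometry.Scheme.Pullback.range_snd gT g
      show Set.range (fun t => (pullback.snd gT g) t) =
        g ⁻¹' Z k.succ.succ \ g ⁻¹' Z k.castSucc.succ
      rw [← Set.preimage_diff, Fin.succ_castSucc, ← hr]
      exact this
    · exact pullback.lift_snd _ _ _

/-- `Gen` along `p ≫ Spec.map ψ` gives `Gen` of the extension of scalars along `p`. -/
theorem Gen.base {R A' : CommRingCat.{u}} (ψ : R ⟶ A') {U' : Scheme.{u}} (p : U' ⟶ Spec A')
    (M : ModuleCat.{u} R) (N : ℕ) (h : Gen (p ≫ Spec.map ψ) M N) :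
    Gen p ((ModuleCat.extendScalars ψ.hom).obj M) N := by
  obtain ⟨φ, hφ⟩ := h
  haveI := hφ
  refine ⟨φ ≫ (Scheme.Modules.pullbackComp p (Spec.map ψ)).inv.app (AlgebraicGeometry.tilde M) ≫
    (Scheme.Modules.pullback p).map ((PBH8.pullbackTildeIso ψ).hom.app M), ?_⟩
  infer_instance

/-- a section over a closed stratum is a section over some `Spec (R ⧸ I)` -/
theorem closed_section {R : CommRingCat.{u}} {U : Scheme.{u}} (f : U ⟶ Spec R)
    (W : Set (Spec R)) (hW : IsClosed W) (h : HasSectOver f W) :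
    ∃ (I : Ideal R) (s : Spec (CommRingCat.of (R ⧸ I)) ⟶ U),
      s ≫ f = Spec.map (qm I) ∧ W = Set.range (fun t => (Spec.map (qm I)) t) := by
  obtain ⟨T, g, s, hg, hr, hs⟩ := h
  haveI := hg
  have hr' : Set.range g = W := hr
  haveI : IsClosedImmersion g := IsClosedImmersion.of_isPreimmersion g (by rw [hr']; exact hW)
  obtain ⟨I, e, he⟩ := IsClosedImmersion.Spec_iff.1 (inferInstance : IsClosedImmersion g)
  refine ⟨I, e.inv ≫ s, ?_, ?_⟩
  · rw [Category.assoc, hs, he, Iso.inv_hom_id_assoc]
  · rw [← hr]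
    ext x
    constructor
    · rintro ⟨t, rfl⟩
      refine ⟨e.hom t, ?_⟩
      show (Spec.map (qm I)) (e.hom t) = g t
      rw [he]; rfl
    · rintro ⟨t, rfl⟩
      refine ⟨e.inv t, ?_⟩
      show g (e.inv t) = (Spec.map (qm I)) t
      rw [he]
      show (e.inv ≫ e.hom ≫ Spec.map (qm I)) t = _
      rw [Iso.inv_hom_id_assoc]

/-- `V(r) ∩ V(I) = ∅` for `r ∈ 1 + I` -/
theorem preimage_empty {R : CommRingCat.{u}} (I : Ideal R) (r : R) (hr : r - 1 ∈ I) :
    (Spec.map (qm (Ideal.span {r}))) ⁻¹'
      (Set.range (fun t => (Spec.map (qm I)) t)) = ∅ := by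
  rw [Set.eq_empty_iff_forall_notMem]
  rintro x ⟨t, ht⟩
  -- the point `y = Spec.map .. x = Spec.map .. t`
  have h1 : r ∈ ((Spec.map (qm (Ideal.span {r}))) x).asIdeal := by
    show (qm (Ideal.span {r})).hom r ∈ x.asIdeal
    have : (qm (Ideal.span {r})).hom r = 0 :=
      Ideal.Quotient.eq_zero_iff_mem.2 (Ideal.mem_span_singleton_self r)
    rw [this]; exact x.asIdeal.zero_mem
  have h2 : r - 1 ∈ ((Spec.map (qm I)) t).asIdeal := by
    show (qm I).hom (r - 1) ∈ t.asIdeal
    have : (qm I).hom (r - 1) = 0 := Ideal.Quotient.eq_zero_iff_mem.2 hr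
    rw [this]; exact t.asIdeal.zero_mem
  have ht' : (Spec.map (qm I)) t = (Spec.map (qm (Ideal.span {r}))) x := ht
  rw [ht'] at h2
  have h3 : (1 : R) ∈ ((Spec.map (qm (Ideal.span {r}))) x).asIdeal := by
    have := Ideal.sub_mem _ h1 h2
    rwa [sub_sub_cancel] at this
  exact ((Spec.map (qm (Ideal.span {r}))) x).isPrime.ne_top
    ((Ideal.eq_top_iff_one _).2 h3)

/-- **the induction** -/
theorem main_aux (m : ℕ) : ∀ (R : CommRingCat.{u}) (M : ModuleCat.{u} R) [Module.Finite R M]
    {U : Scheme.{u}} (f : U ⟶ Spec R) (N : ℕ), IsNisCoverLen f m → Gen f M N →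
    ∃ s : Fin (N * m) → M, Submodule.span R (Set.range s) = ⊤ := by
  induction m with
  | zero =>
    intro R M _ U f N hf _
    obtain ⟨_, Z, hZ0, hZl, _, _, _⟩ := hf
    have hempty : (Set.univ : Set (Spec R)) = ∅ := by
      rw [← hZl, ← hZ0]; rfl
    haveI : IsEmpty (Spec R) := ⟨fun x => by
      have : x ∈ (Set.univ : Set (Spec R)) := trivial
      rw [hempty] at this; exact this⟩
    haveI : Subsingleton R := by
      by_contra hne
      rw [not_subsingleton_iff_nontrivial] at hne
      haveI := hne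
      exact (inferInstance : IsEmpty (Spec R)).false
        (Classical.arbitrary (PrimeSpectrum R))
    haveI : Subsingleton M := Module.subsingleton R M
    exact ⟨fun _ => 0, Subsingleton.elim _ _⟩
  | succ m ih =>
    intro R M _ U f N hf hgen
    obtain ⟨het, Z, hZ0, hZl, hZm, hZc, hZs⟩ := hf
    haveI := het
    -- the bottom stratum
    have hs0 := hZs 0
    have hZ1 : Z (Fin.succ 0) \ Z (Fin.castSucc 0) = Z 1 := by
      rw [Fin.succ_zero_eq_one, Fin.castSucc_zero, hZ0, Set.diff_empty]
    rw [hZ1] at hs0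
    obtain ⟨I, s, hs, hZI⟩ := closed_section f (Z 1) (hZc 1).1 hs0
    -- `N` generators of `M / I M`
    obtain ⟨t, ht⟩ := gen_of_section (qm I) M f s hs N hgen
    obtain ⟨m₀, hm₀⟩ := lift_gens I M (N * 1) t ht
    set P₀ : Submodule R M := Submodule.span R (Set.range m₀) with hP₀
    obtain ⟨r, hr1, hr⟩ := alg_step I M P₀ hm₀
    -- the quotient
    let Q : ModuleCat.{u} R := ModuleCat.of R (M ⧸ P₀)
    let π : M ⟶ Q := ModuleCat.ofHom P₀.mkQ
    haveI : Epi π := (ModuleCat.epi_iff_surjective π).2 (Submodule.mkQ_surjective P₀)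
    haveI : Module.Finite R Q := inferInstanceAs (Module.Finite R (M ⧸ P₀))
    have hrQ : ∀ q : Q, r • q = 0 := by
      intro q
      obtain ⟨x, rfl⟩ := Submodule.Quotient.mk_surjective P₀ q
      rw [← Submodule.Quotient.mk_smul, Submodule.Quotient.mk_eq_zero]
      exact hr x
    set J : Ideal R := Ideal.span {r} with hJ
    let ψ' := qm J
    -- the new cover
    have hnis : IsNisCoverLen (pullback.snd f (Spec.map ψ')) m := by
      refine nis_shift f (Spec.map ψ') m Z hZl hZm hZc hZs ?_
      rw [hZI]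
      exact preimage_empty I r hr1
    have hgen' : Gen (pullback.snd f (Spec.map ψ')) ((ModuleCat.extendScalars ψ'.hom).obj Q) N := by
      refine Gen.base ψ' _ Q N ?_
      refine Gen.congr pullback.condition Q N ?_
      exact Gen.comp f (pullback.fst f (Spec.map ψ')) Q N (Gen.of_epi f π N hgen)
    haveI : Module.Finite (R ⧸ J) ((ModuleCat.extendScalars (qm J).hom).obj Q) := finite_ext J Q
    obtain ⟨s', hs'⟩ := ih (CommRingCat.of (R ⧸ J)) ((ModuleCat.extendScalars ψ'.hom).obj Q)
      (pullback.snd f (Spec.map ψ')) N hnis hgen'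
    obtain ⟨q, hq⟩ := lift_gens J Q (N * m) s' hs'
    have hJQ : J • (⊤ : Submodule R Q) = ⊥ := by
      rw [eq_bot_iff, Submodule.smul_le]
      intro a ha x _
      obtain ⟨c, rfl⟩ := Ideal.mem_span_singleton'.1 ha
      rw [mul_smul, hrQ x, smul_zero]
      exact Submodule.zero_mem _
    rw [hJQ, sup_bot_eq] at hq
    choose q' hq' using fun k => Submodule.Quotient.mk_surjective P₀ (q k)
    have hq2 : Submodule.span R (Set.range fun k => P₀.mkQ (q' k)) = ⊤ := by
      have : (fun k => P₀.mkQ (q' k)) = q := funext hq'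
      rw [this]; exact hq
    obtain ⟨s₁, hs₁⟩ := combine (R := R) M (N * 1) (N * m) m₀ q' hq2
    have hcard : N * 1 + N * m = N * (m + 1) := by ring
    refine ⟨fun k => s₁ (Fin.cast hcard.symm k), ?_⟩
    rw [← hs₁]
    congr 1
    ext x
    constructor
    · rintro ⟨k, rfl⟩; exact ⟨_, rfl⟩
    · rintro ⟨k, rfl⟩; exact ⟨Fin.cast hcard k, by simp⟩

theorem main17867 (R : CommRingCat.{u}) (M : ModuleCat.{u} R)
    [Module.Finite R M] {U : Scheme.{u}}
    (f : U ⟶ Spec R) (m N : ℕ) (hf : W4c5algebraiztannaka.IsNisCoverLen f m)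
    (hgen : ∃ φ : FlatMod.freeMod U N ⟶ (Scheme.Modules.pullback f).obj (AlgebraicGeometry.tilde M), Epi φ) :
    ∃ s : Fin (N * m) → M, Submodule.span R (Set.range s) = ⊤ :=
  main_aux m R M f N hf hgen

end Groth.Agent.Lib.NisGenH3
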