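import Mathlib
import Groth.Prelude
import Groth.Agent.Lib.NisGen3_helper3
import Groth.Agent.Lib.Fpqc1_helper8
import Groth.Agent.Lib.ExtendScalars_helper2

/-!
# Local-to-global size bounds for perfect complexes, part 1: algebra (helper3)

* `SizeLE A M s`: `M` is projective and generated by `s` elements.
* `ff_of_nis`: a ring map whose `Spec` is a Nisnevich cover is faithfully flat.
* `gen_mod`: module form of the Nisnevich generation lemma.
* `sizeLE_descent`: descent of `SizeLE` (with the number of generators multiplied by the length).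
-/

set_option autoImplicit false
set_option linter.all false
set_option maxHeartbeats 1600000
set_option backward.isDefEq.respectTransparency false
set_option backward.isDefEq.respectTransparency.types false
set_option backward.defeqAttrib.useBackward true

universe u
open CategoryTheory CategoryTheory.Limits TensorProduct AlgebraicGeometry

namespace Groth.Agent.Lib.LocGlobH3

/-- projective and generated by `s` elements -/
def SizeLE (A : Type u) [CommRing A] (M : ModuleCat.{u} A) (s : ℕ) : Prop :=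
  Module.Projective A M ∧ ∃ g : (Fin s → A) →ₗ[A] M, Function.Surjective g

section Basic

variable {A : Type u} [CommRing A]

theorem SizeLE.of_iso {M M' : ModuleCat.{u} A} (e : M ≅ M') {s : ℕ} (h : SizeLE A M s) :
    SizeLE A M' s := by
  obtain ⟨hp, g, hg⟩ := h
  haveI := hp
  refine ⟨Module.Projective.of_equiv e.toLinearEquiv, e.toLinearEquiv.toLinearMap ∘ₗ g, ?_⟩
  exact e.toLinearEquiv.surjective.comp hg

theorem SizeLE.mono {M : ModuleCat.{u} A} {s s' : ℕ} (hs : s ≤ s') (h : SizeLE A M s) :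
    SizeLE A M s' := by
  obtain ⟨hp, g, hg⟩ := h
  refine ⟨hp, g ∘ₗ LinearMap.funLeft A A (Fin.castLE hs), ?_⟩
  exact hg.comp (LinearMap.funLeft_surjective_of_injective A A _ (Fin.castLE_injective hs))

theorem SizeLE.zero {M : ModuleCat.{u} A} (hM : IsZero M) (s : ℕ) : SizeLE A M s := by
  haveI : Subsingleton M := ModuleCat.subsingleton_of_isZero hM
  refine ⟨Module.Projective.of_free, 0, fun x => ⟨0, Subsingleton.elim _ _⟩⟩

theorem SizeLE.free (t : ℕ) : SizeLE A (ModuleCat.of A (Fin t → A)) t :=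
  ⟨Module.Projective.of_free, LinearMap.id, Function.surjective_id⟩

theorem SizeLE.finite {M : ModuleCat.{u} A} {s : ℕ} (h : SizeLE A M s) : Module.Finite A M := by
  obtain ⟨_, g, hg⟩ := h
  exact Module.Finite.of_surjective g hg

theorem SizeLE.retract {K M : ModuleCat.{u} A} (i : K ⟶ M) (r : M ⟶ K) (hir : i ≫ r = 𝟙 K)
    {s : ℕ} (h : SizeLE A M s) : SizeLE A K s := by
  obtain ⟨hp, g, hg⟩ := h
  haveI := hp
  have hri : ∀ x, r.hom (i.hom x) = x := fun x => by
    have := congrArg (fun f => f.hom x) hir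
    simpa using this
  refine ⟨Module.Projective.of_split i.hom r.hom (LinearMap.ext hri), r.hom ∘ₗ g, ?_⟩
  intro x
  obtain ⟨a, ha⟩ := hg (i.hom x)
  exact ⟨a, by rw [LinearMap.comp_apply, ha, hri]⟩

theorem SizeLE.prod {M M' : ModuleCat.{u} A} {s s' : ℕ} (h : SizeLE A M s)
    (h' : SizeLE A M' s') : SizeLE A (ModuleCat.of A (M × M')) (s + s') := by
  obtain ⟨hp, g, hg⟩ := h
  obtain ⟨hp', g', hg'⟩ := h'
  haveI := hp
  haveI := hp'
  refine ⟨inferInstance, (LinearMap.prodMap g g') ∘ₗ
    ((LinearEquiv.sumArrowLequivProdArrow (Fin s) (Fin s') A A).toLinearMap ∘ₗ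
      (LinearEquiv.funCongrLeft A A finSumFinEquiv).toLinearMap), ?_⟩
  rintro ⟨x, y⟩
  obtain ⟨a, rfl⟩ := hg x
  obtain ⟨b, rfl⟩ := hg' y
  obtain ⟨c, hc⟩ := (LinearEquiv.sumArrowLequivProdArrow (Fin s) (Fin s') A A).surjective (a, b)
  obtain ⟨d, hd⟩ := (LinearEquiv.funCongrLeft A A finSumFinEquiv).surjective c
  refine ⟨d, ?_⟩
  rw [LinearMap.comp_apply, LinearMap.comp_apply, LinearEquiv.coe_coe, LinearEquiv.coe_coe, hd, hc]
  rfl

theorem SizeLE.biprod {M M' : ModuleCat.{u} A} {s s' : ℕ} (h : SizeLE A M s)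
    (h' : SizeLE A M' s') : SizeLE A (M ⊞ M') (s + s') :=
  (SizeLE.prod h h').of_iso (ModuleCat.biprodIsoProd M M').symm

/-- the kernel term of a short exact sequence with projective cokernel term -/
theorem SizeLE.of_shortExact (S : ShortComplex (ModuleCat.{u} A)) (hS : S.ShortExact) {s : ℕ}
    (h2 : SizeLE A S.X₂ s) (h3 : Module.Projective A S.X₃) : SizeLE A S.X₁ s := by
  haveI := hS.mono_f
  haveI := hS.epi_g
  haveI : Projective S.X₃ := by
    have := (IsProjective.iff_projective (R := A) (P := S.X₃)).1 h3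
    exact this
  let σ : S.X₃ ⟶ S.X₂ := Projective.factorThru (𝟙 S.X₃) S.g
  have hσ : σ ≫ S.g = 𝟙 S.X₃ := Projective.factorThru_comp _ _
  let sp := ShortComplex.Splitting.ofExactOfSection S hS.exact σ hσ inferInstance
  exact SizeLE.retract S.f sp.r sp.f_r h2

end Basic

section Nis

open W4c5algebraiztannaka

/-- surjectivity on points from the flag -/
theorem surj_of_nis {U Y : Scheme.{u}} (f : U ⟶ Y) (m : ℕ) (h : IsNisCoverLen f m) :
    ∀ y : Y, ∃ x : U, f x = y := by
  obtain ⟨_, Z, hZ0, hZl, hZm, _, hZs⟩ := h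
  intro y
  have hex : ∃ k : ℕ, ∃ hk : k < m + 1, y ∈ Z ⟨k, hk⟩ := ⟨m, Nat.lt_succ_self m, by
    have : Z ⟨m, Nat.lt_succ_self m⟩ = Z (Fin.last m) := rfl
    rw [this, hZl]; trivial⟩
  classical
  obtain ⟨hk₀, hy⟩ := Nat.find_spec hex
  have hk₀ne : Nat.find hex ≠ 0 := by
    intro h0
    have : Z ⟨Nat.find hex, hk₀⟩ = Z 0 := by congr 1; exact Fin.ext h0
    rw [this, hZ0] at hy; exact hy
  obtain ⟨j, hj⟩ := Nat.exists_eq_succ_of_ne_zero hk₀ne
  have hjm : j < m := by omega
  have hnot : y ∉ Z (Fin.castSucc ⟨j, hjm⟩) := by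
    intro hmem
    have := Nat.find_min hex (m := j) (by omega)
    exact this ⟨by omega, hmem⟩
  have hin : y ∈ Z (Fin.succ ⟨j, hjm⟩) := by
    have : (Fin.succ ⟨j, hjm⟩ : Fin (m+1)) = ⟨Nat.find hex, hk₀⟩ := Fin.ext (by
      show j + 1 = Nat.find hex
      rw [hj])
    rw [this]; exact hy
  obtain ⟨T, g, s, _, hrange, hsf⟩ := hZs ⟨j, hjm⟩
  have : y ∈ Set.range (fun t : T => g t) := by rw [hrange]; exact ⟨hin, hnot⟩
  obtain ⟨t, ht⟩ := this
  refine ⟨s t, ?_⟩
  rw [← ht, ← hsf]; rfl

variable {R B : Type u} [CommRing R] [CommRing B] (φ : R →+* B)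

theorem ff_of_nis (m : ℕ) (h : IsNisCoverLen (Spec.map (CommRingCat.ofHom φ)) m) :
    φ.FaithfullyFlat := by
  rw [RingHom.FaithfullyFlat.iff_flat_and_comap_surjective]
  constructor
  · have hfl : Flat (Spec.map (CommRingCat.ofHom φ)) :=
      (Etale.iff_flat_and_formallyUnramified.1 h.etale).1
    exact (HasRingHomProperty.Spec_iff (P := @Flat)).1 hfl
  · intro p
    obtain ⟨q, hq⟩ := surj_of_nis _ m h p
    exact ⟨q, hq⟩

/-- `(extendScalars φ).obj M ≃ B ⊗[R] M` for the algebra structure given by `φ` -/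
noncomputable def extEquiv (M : ModuleCat.{u} R) :
    letI := φ.toAlgebra
    ((ModuleCat.extendScalars φ).obj M) ≃ₗ[B] B ⊗[R] M :=
  letI := φ.toAlgebra
  Groth.Agent.ExtendScalarsLib.extendScalarsEquivTensor (S := B) M

theorem finite_of_ext (hff : φ.FaithfullyFlat) (M : ModuleCat.{u} R)
    (h : Module.Finite B ((ModuleCat.extendScalars φ).obj M)) : Module.Finite R M := by
  letI := φ.toAlgebra
  haveI : Module.FaithfullyFlat R B := RingHom.faithfullyFlat_algebraMap_iff.1 hff
  haveI : Module.Finite B (B ⊗[R] M) := Module.Finite.equiv (extEquiv φ M)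
  exact Module.Finite.of_finite_tensorProduct_of_faithfullyFlat B

theorem projective_of_ext (hff : φ.FaithfullyFlat) (M : ModuleCat.{u} R)
    (hfin : Module.Finite B ((ModuleCat.extendScalars φ).obj M))
    (h : Module.Projective B ((ModuleCat.extendScalars φ).obj M)) : Module.Projective R M := by
  letI := φ.toAlgebra
  haveI : Module.FaithfullyFlat R B := RingHom.faithfullyFlat_algebraMap_iff.1 hff
  haveI : Module.Finite B (B ⊗[R] M) := Module.Finite.equiv (extEquiv φ M)
  haveI : Module.Projective B (B ⊗[R] M) := Module.Projective.of_equiv (extEquiv φ M)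
  haveI : Module.FinitePresentation B (B ⊗[R] M) := Module.finitePresentation_of_projective B _
  haveI : Module.FinitePresentation R M := FpqcH8.finitePresentation_of_faithfullyFlat (T := B)
  haveI : Module.Flat B (B ⊗[R] M) := Module.Flat.of_projective
  haveI : Module.Flat R M := FpqcH8.flat_of_faithfullyFlat (T := B)
  exact Module.Flat.projective_of_finitePresentation

theorem isZero_of_ext (hff : φ.FaithfullyFlat) (M : ModuleCat.{u} R)
    (h : IsZero ((ModuleCat.extendScalars φ).obj M)) : IsZero M := by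
  letI := φ.toAlgebra
  haveI : Module.FaithfullyFlat R B := RingHom.faithfullyFlat_algebraMap_iff.1 hff
  haveI : Subsingleton ((ModuleCat.extendScalars φ).obj M) := ModuleCat.subsingleton_of_isZero h
  haveI : Subsingleton (B ⊗[R] M) := (extEquiv φ M).symm.injective.subsingleton
  haveI : Subsingleton M := Module.FaithfullyFlat.lTensor_reflects_triviality R B M
  exact ModuleCat.isZero_of_subsingleton M

/-- an epimorphism from a free module on `Spec B` to `tilde E` from module generators -/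
theorem exists_epi_tilde (B' : CommRingCat.{u}) (E : ModuleCat.{u} B') (s : ℕ)
    (g : (Fin s → B') →ₗ[B'] E) (hg : Function.Surjective g) :
    ∃ χ : FlatMod.freeMod (Spec B') s ⟶ AlgebraicGeometry.tilde E, Epi χ := by
  let e₂ : tilde (ModuleCat.of B' (ULift.{u} (Fin s) →₀ B')) ≅
      SheafOfModules.free.{u} (ULift.{u} (Fin s)) := tildeFinsupp _
  let e₃ : (SheafOfModules.free.{u} (ULift.{u} (Fin s)) : (Spec B').Modules) ≅
      FlatMod.freeMod (Spec B') s :=
    Sigma.whiskerEquiv (f := fun _ : ULift.{u} (Fin s) => SheafOfModules.unit.{u} (Spec B').ringCatSheaf)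
      (g := fun _ : Fin s => Coh.structureModule (Spec B'))
      Equiv.ulift (fun _ => Iso.refl _)
  let l : (ULift.{u} (Fin s) →₀ B') →ₗ[B'] E :=
    g ∘ₗ (LinearEquiv.funCongrLeft B' B' (Equiv.ulift (α := Fin s)).symm).toLinearMap ∘ₗ
      (Finsupp.linearEquivFunOnFinite B' B' (ULift.{u} (Fin s))).toLinearMap
  have hl : Function.Surjective l := by
    intro x
    obtain ⟨a, rfl⟩ := hg x
    obtain ⟨b, hb⟩ := (LinearEquiv.funCongrLeft B' B' (Equiv.ulift (α := Fin s)).symm).surjective a
    obtain ⟨c, hc⟩ := (Finsupp.linearEquivFunOnFinite B' B' (ULift.{u} (Fin s))).surjective b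
    refine ⟨c, ?_⟩
    show g ((LinearEquiv.funCongrLeft B' B' (Equiv.ulift (α := Fin s)).symm)
      ((Finsupp.linearEquivFunOnFinite B' B' (ULift.{u} (Fin s))) c)) = g a
    rw [hc, hb]
  let π : ModuleCat.of B' (ULift.{u} (Fin s) →₀ B') ⟶ E := ModuleCat.ofHom l
  haveI : Epi π := (ModuleCat.epi_iff_surjective π).2 hl
  haveI : Epi ((tilde.functor B').map π) := inferInstance
  exact ⟨e₃.inv ≫ e₂.inv ≫ (tilde.functor B').map π, inferInstance⟩

variable {φ} in
/-- **module form of the Nisnevich generation lemma** -/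
theorem gen_mod (hff : φ.FaithfullyFlat) (m : ℕ)
    (h : IsNisCoverLen (Spec.map (CommRingCat.ofHom φ)) m)
    (M : ModuleCat.{u} R) (s : ℕ) (g : (Fin s → B) →ₗ[B] (ModuleCat.extendScalars φ).obj M)
    (hg : Function.Surjective g) :
    ∃ g' : (Fin (s * m) → R) →ₗ[R] M, Function.Surjective g' := by
  haveI : Module.Finite R M := finite_of_ext φ hff M (Module.Finite.of_surjective g hg)
  obtain ⟨χ, hχ⟩ := exists_epi_tilde (CommRingCat.of B)
    ((ModuleCat.extendScalars (CommRingCat.ofHom φ).hom).obj (M : ModuleCat.{u} (CommRingCat.of R)))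
    s g hg
  haveI := hχ
  have hgen : ∃ χ' : FlatMod.freeMod (Spec (CommRingCat.of B)) s ⟶
      (Scheme.Modules.pullback (Spec.map (CommRingCat.ofHom φ))).obj
        (AlgebraicGeometry.tilde (M : ModuleCat.{u} (CommRingCat.of R))), Epi χ' :=
    ⟨χ ≫ (PBH8.pullbackTildeIso (CommRingCat.ofHom φ)).inv.app M, inferInstance⟩
  obtain ⟨t, ht⟩ := NisGenH3.main17867 (CommRingCat.of R) M (Spec.map (CommRingCat.ofHom φ))
    m s h hgen
  refine ⟨Fintype.linearCombination R t, ?_⟩
  rw [← LinearMap.range_eq_top, Fintype.range_linearCombination]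
  exact ht

/-- extension of scalars of a finite free module -/
noncomputable def extFreeEquiv (t : ℕ) :
    ((ModuleCat.extendScalars φ).obj (ModuleCat.of R (Fin t → R))) ≃ₗ[B] (Fin t → B) :=
  letI := φ.toAlgebra
  (extEquiv φ (ModuleCat.of R (Fin t → R))).trans (TensorProduct.piScalarRight R B B (Fin t))

theorem SizeLE.ext_free (t : ℕ) :
    SizeLE B ((ModuleCat.extendScalars φ).obj (ModuleCat.of R (Fin t → R))) t :=
  (SizeLE.free (A := B) t).of_iso (extFreeEquiv φ t).symm.toModuleIso

variable {φ} in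
/-- **descent of size** -/
theorem sizeLE_descent (hff : φ.FaithfullyFlat) (m : ℕ)
    (h : IsNisCoverLen (Spec.map (CommRingCat.ofHom φ)) m) (M : ModuleCat.{u} R) (s : ℕ)
    (hM : SizeLE B ((ModuleCat.extendScalars φ).obj M) s) : SizeLE R M (s * m) := by
  obtain ⟨hp, g, hg⟩ := hM
  exact ⟨projective_of_ext φ hff M (Module.Finite.of_surjective g hg) hp,
    gen_mod hff m h M s g hg⟩

end Nis

end Groth.Agent.Lib.LocGlobH3
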