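import Mathlib
import Groth.Prelude
import Groth.Agent.Lib.LocGlob1_helper3
import Groth.Agent.Lib.CyclesFlat_helper2

/-!
# Local-to-global size bounds for perfect complexes, part 2: derived category lemmas (helper3)

* `CxSize P lo hi s`, `Sz K lo hi s`.
* `Sz.cone`: the third vertex of a distinguished triangle.
* `Sz.truncate`: lowering the upper bound when the top cohomology vanishes.
* `Sz_of_concentrated`: an object with a single cohomology module.
-/

set_option autoImplicit false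
set_option linter.all false
set_option maxHeartbeats 1600000
set_option backward.isDefEq.respectTransparency false
set_option backward.isDefEq.respectTransparency.types false
set_option backward.defeqAttrib.useBackward true

universe u
open CategoryTheory CategoryTheory.Limits

attribute [local instance] HasDerivedCategory.standard

namespace Groth.Agent.Lib.LocGlobH3

open DerivedCategory

section General

variable {C : Type*} [Category C] [Abelian C] [HasDerivedCategory C]

theorem exists_Q_map_eq {K L : CochainComplex C ℤ} [K.IsKProjective]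
    (u : (Q : _ ⥤ DerivedCategory C).obj K ⟶ Q.obj L) : ∃ f : K ⟶ L, Q.map f = u := by
  obtain ⟨g, hg⟩ := (CochainComplex.IsKProjective.Qh_map_bijective K
    ((HomotopyCategory.quotient _ _).obj L)).surjective
    ((DerivedCategory.quotientCompQhIso C).hom.app K ≫ u ≫
      (DerivedCategory.quotientCompQhIso C).inv.app L)
  obtain ⟨f, rfl⟩ := (HomotopyCategory.quotient _ _).map_surjective g
  refine ⟨f, ?_⟩
  have nat := (DerivedCategory.quotientCompQhIso C).hom.naturality f
  simp only [Functor.comp_map] at nat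
  rw [hg] at nat
  simp only [Category.assoc, Iso.inv_hom_id_app, Category.comp_id] at nat
  exact ((cancel_epi _).1 nat).symm

end General

variable {A : Type u} [CommRing A]

/-- vanishing outside `[lo, hi]` and all terms of size `≤ s` -/
def CxSize (P : DRing.Cx A) (lo hi : ℤ) (s : ℕ) : Prop :=
  (∀ i : ℤ, i < lo ∨ hi < i → IsZero (P.X i)) ∧ ∀ i : ℤ, SizeLE A (P.X i) s

/-- representable by a complex of size `≤ s` in `[lo, hi]` -/
def Sz (K : Dual.D A) (lo hi : ℤ) (s : ℕ) : Prop :=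
  ∃ P : DRing.Cx A, CxSize P lo hi s ∧ Nonempty (DRing.toD P ≅ K)

theorem Sz.of_iso {K K' : Dual.D A} (e : K ≅ K') {lo hi : ℤ} {s : ℕ} (h : Sz K lo hi s) :
    Sz K' lo hi s := by
  obtain ⟨P, hP, ⟨e'⟩⟩ := h
  exact ⟨P, hP, ⟨e' ≪≫ e⟩⟩

theorem Sz.mono {K : Dual.D A} {lo hi lo' hi' : ℤ} {s s' : ℕ} (hlo : lo' ≤ lo) (hhi : hi ≤ hi')
    (hs : s ≤ s') (h : Sz K lo hi s) : Sz K lo' hi' s' := by
  obtain ⟨P, hP, e⟩ := h
  refine ⟨P, ⟨fun i hi => hP.1 i ?_, fun i => (hP.2 i).mono hs⟩, e⟩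
  rcases hi with hi | hi
  · exact Or.inl (by omega)
  · exact Or.inr (by omega)

theorem CxSize.isStrictlyLE {P : DRing.Cx A} {lo hi : ℤ} {s : ℕ} (h : CxSize P lo hi s) :
    P.IsStrictlyLE hi :=
  (P.isStrictlyLE_iff hi).2 (fun i hi' => h.1 i (Or.inr hi'))

theorem CxSize.isKProjective {P : DRing.Cx A} {lo hi : ℤ} {s : ℕ} (h : CxSize P lo hi s) :
    P.IsKProjective := by
  haveI := h.isStrictlyLE
  haveI : ∀ n : ℤ, Projective (P.X n) := fun n =>
    (IsProjective.iff_projective (R := A) (P := P.X n)).1 (h.2 n).1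
  exact CochainComplex.isKProjective_of_projective P hi

/-- **cone lemma** -/
theorem Sz.cone (T : Pretriangulated.Triangle (Dual.D A)) (hT : T ∈ distTriang _)
    {lo hi : ℤ} {s₁ s₂ : ℕ} (h₁ : Sz T.obj₁ (lo + 1) (hi + 1) s₁) (h₂ : Sz T.obj₂ lo hi s₂) :
    Sz T.obj₃ lo hi (s₁ + s₂) := by
  obtain ⟨P₁, hP₁, ⟨e₁⟩⟩ := h₁
  obtain ⟨P₂, hP₂, ⟨e₂⟩⟩ := h₂
  haveI : P₁.IsKProjective := hP₁.isKProjective
  obtain ⟨f, hf⟩ := exists_Q_map_eq (K := P₁) (L := P₂) (e₁.hom ≫ T.mor₁ ≫ e₂.inv)
  let T' := Q.mapTriangle.obj (CochainComplex.mappingCone.triangle f)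
  have hT' : T' ∈ distTriang _ := DerivedCategory.mappingCone_triangle_distinguished f
  let e := Pretriangulated.isoTriangleOfIso₁₂ T' T hT' hT e₁ e₂ (by
    show Q.map f ≫ e₂.hom = e₁.hom ≫ T.mor₁
    rw [hf]; simp)
  refine ⟨CochainComplex.mappingCone f, ⟨?_, ?_⟩, ⟨Pretriangulated.Triangle.π₃.mapIso e⟩⟩
  · intro i hi'
    refine HomologicalComplex.homotopyCofiber.isZero_X f i (hP₂.1 i hi') ?_
    intro j hj
    have hj' : i + 1 = j := hj
    subst hj'
    refine hP₁.1 _ ?_
    rcases hi' with h | h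
    · exact Or.inl (by omega)
    · exact Or.inr (by omega)
  · intro i
    exact ((hP₁.2 (i + 1)).biprod (hP₂.2 i)).of_iso
      (HomologicalComplex.homotopyCofiber.XIsoBiprod f i (i + 1) rfl).symm

/-- homology of `toD P` -/
noncomputable def homologyToD (P : DRing.Cx A) (i : ℤ) :
    (DerivedCategory.homologyFunctor (ModuleCat.{u} A) i).obj (DRing.toD P) ≅ P.homology i :=
  (DerivedCategory.homologyFunctorFactors (ModuleCat.{u} A) i).app P

/-- **truncation lemma** -/
theorem Sz.truncate {K : Dual.D A} {lo c : ℤ} {s : ℕ} (h : Sz K lo c s)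
    (hz : IsZero ((DerivedCategory.homologyFunctor (ModuleCat.{u} A) c).obj K)) :
    Sz K lo (c - 1) s := by
  obtain ⟨P, hP, ⟨e⟩⟩ := h
  haveI : P.IsStrictlyLE c := hP.isStrictlyLE
  have hex : IsZero (P.homology c) :=
    hz.of_iso ((homologyToD P c).symm ≪≫
      (DerivedCategory.homologyFunctor (ModuleCat.{u} A) c).mapIso e)
  haveI : P.IsLE (c - 1) := by
    rw [CochainComplex.isLE_iff]
    intro i hi
    rcases eq_or_lt_of_le (show c ≤ i by omega) with h | h
    · subst h
      rw [HomologicalComplex.exactAt_iff_isZero_homology]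
      exact hex
    · exact P.exactAt_of_isLE c i h
  haveI : QuasiIso (P.ιTruncLE (c - 1)) := (P.quasiIso_ιTruncLE_iff (c - 1)).2 inferInstance
  refine ⟨P.truncLE (c - 1), ⟨?_, ?_⟩, ⟨asIso (Q.map (P.ιTruncLE (c - 1))) ≪≫ e⟩⟩
  · intro i hi
    rcases lt_trichotomy i (c - 1) with h | h | h
    · refine (hP.1 i ?_).of_iso (P.truncLEXIso (c - 1) i h)
      rcases hi with hi | hi
      · exact Or.inl hi
      · omega
    · subst h
      refine IsZero.of_iso ?_ (P.truncLEXIsoCycles (c - 1))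
      rcases hi with hi | hi
      · exact IsZero.of_mono (P.iCycles (c - 1)) (hP.1 _ (Or.inl hi))
      · omega
    · exact (P.truncLE (c - 1)).isZero_of_isStrictlyLE (c - 1) i h
  · exact Groth.Agent.Lib.CyclesFlat.truncLE_mem (Fl := fun X => SizeLE A X s)
      (fun Z hZ => SizeLE.zero hZ s) (fun e h => h.of_iso e)
      (fun S hS h2 h3 => SizeLE.of_shortExact S hS h2 h3.1) P c hP.2 (c - 1)

/-- a module in a single degree -/
theorem Sz_single (M : ModuleCat.{u} A) {s : ℕ} (hM : SizeLE A M s) (c : ℤ) :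
    Sz (DRing.toD ((HomologicalComplex.single (ModuleCat.{u} A) (ComplexShape.up ℤ) c).obj M))
      c c s := by
  refine ⟨_, ⟨?_, ?_⟩, ⟨Iso.refl _⟩⟩
  · intro i hi
    exact HomologicalComplex.isZero_single_obj_X _ _ _ _ (by omega)
  · intro i
    by_cases h : i = c
    · subst h
      exact hM.of_iso (HomologicalComplex.singleObjXSelf (ComplexShape.up ℤ) i M).symm
    · exact SizeLE.zero (HomologicalComplex.isZero_single_obj_X _ _ _ _ h) s

/-- shifting by `-1` -/
theorem Sz.shift_neg_one {K : Dual.D A} {lo hi : ℤ} {s : ℕ} (h : Sz K lo hi s) :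
    Sz (K⟦(-1 : ℤ)⟧) (lo + 1) (hi + 1) s := by
  obtain ⟨P, hP, ⟨e⟩⟩ := h
  refine ⟨P⟦(-1 : ℤ)⟧, ⟨?_, ?_⟩,
    ⟨((Q : _ ⥤ Dual.D A).commShiftIso (-1 : ℤ)).app P ≪≫ (shiftFunctor _ (-1 : ℤ)).mapIso e⟩⟩
  · intro i hi'
    show IsZero (P.X (i + -1))
    refine hP.1 _ ?_
    rcases hi' with h | h
    · exact Or.inl (by omega)
    · exact Or.inr (by omega)
  · intro i
    show SizeLE A (P.X (i + -1)) s
    exact hP.2 _

/-- the top cohomology is generated by `s` elements -/
theorem CxSize.top_gen {P : DRing.Cx A} {lo c : ℤ} {s : ℕ} (hP : CxSize P lo c s) :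
    ∃ g : (Fin s → A) →ₗ[A] (P.homology c), Function.Surjective g := by
  have hd : P.d c (c + 1) = 0 := (hP.1 (c + 1) (Or.inr (by omega))).eq_of_tgt _ _
  haveI : IsIso (P.iCycles c) := P.isIso_iCycles c (c + 1) (by simp) hd
  obtain ⟨_, g, hg⟩ := hP.2 c
  let π : P.X c ⟶ P.homology c := inv (P.iCycles c) ≫ P.homologyπ c
  haveI : Epi π := inferInstance
  refine ⟨π.hom ∘ₗ g, ?_⟩
  intro x
  obtain ⟨y, hy⟩ := (ModuleCat.epi_iff_surjective π).1 inferInstance x
  obtain ⟨a, rfl⟩ := hg y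
  exact ⟨a, hy⟩

/-- **an object with a single cohomology module** -/
theorem Sz_of_concentrated (K : Dual.D A) (lo : ℤ) (s : ℕ)
    (hz : ∀ i : ℤ, i ≠ lo → IsZero ((DerivedCategory.homologyFunctor (ModuleCat.{u} A) i).obj K))
    (hs : SizeLE A ((DerivedCategory.homologyFunctor (ModuleCat.{u} A) lo).obj K) s) :
    Sz K lo lo s := by
  haveI : K.IsGE lo := (DerivedCategory.isGE_iff K lo).2 (fun i hi => hz i (by omega))
  haveI : K.IsLE lo := (DerivedCategory.isLE_iff K lo).2 (fun i hi => hz i (by omega))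
  obtain ⟨Y, ⟨e⟩⟩ := DerivedCategory.exists_iso_singleFunctor_obj_of_isGE_of_isLE K lo
  let e' : K ≅ DRing.toD
      ((HomologicalComplex.single (ModuleCat.{u} A) (ComplexShape.up ℤ) lo).obj Y) :=
    e ≪≫ (DerivedCategory.singleFunctorIsoCompQ (ModuleCat.{u} A) lo).app Y
  have hY : SizeLE A Y s := by
    refine hs.of_iso ?_
    exact (DerivedCategory.homologyFunctor (ModuleCat.{u} A) lo).mapIso e' ≪≫
      homologyToD _ lo ≪≫ HomologicalComplex.singleObjHomologySelfIso (ComplexShape.up ℤ) lo Y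
  exact (Sz_single Y hY lo).of_iso e'.symm

end Groth.Agent.Lib.LocGlobH3
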