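import Mathlib
import Groth.Prelude
import Groth.Agent.Lib.LocGlob1_helper3
import Groth.Agent.Lib.LocGlob2_helper3

/-!
# Local-to-global size bounds for perfect complexes, part 3: the induction (helper3)
-/

set_option autoImplicit false
set_option linter.all false
set_option maxHeartbeats 1600000
set_option backward.isDefEq.respectTransparency false
set_option backward.isDefEq.respectTransparency.types false
set_option backward.defeqAttrib.useBackward true

universe u
open CategoryTheory CategoryTheory.Limits AlgebraicGeometry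

attribute [local instance] HasDerivedCategory.standard

namespace Groth.Agent.Lib.LocGlobH3

open DerivedCategory W4c5algebraiztannaka

section Single

variable {A : Type u} [CommRing A]

/-- the chain map from a module in degree `c` given by a family of cycles, and surjectivity on
`H^c` -/
theorem exists_single_map (E : DRing.Cx A) (c : ℤ) (F : ModuleCat.{u} A) [Projective F]
    (π : F ⟶ E.homology c) [Epi π] :
    ∃ σ : (HomologicalComplex.single (ModuleCat.{u} A) (ComplexShape.up ℤ) c).obj F ⟶ E,
      Epi (HomologicalComplex.homologyMap σ c) := by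
  let ζ : F ⟶ E.cycles c := Projective.factorThru π (E.homologyπ c)
  have hζ : ζ ≫ E.homologyπ c = π := Projective.factorThru_comp _ _
  let σ : (HomologicalComplex.single (ModuleCat.{u} A) (ComplexShape.up ℤ) c).obj F ⟶ E :=
    HomologicalComplex.mkHomFromSingle (ζ ≫ E.iCycles c) (by
      intro k hk
      rw [Category.assoc, E.iCycles_d, comp_zero])
  refine ⟨σ, ?_⟩
  have hσf : σ.f c = (HomologicalComplex.singleObjXSelf (ComplexShape.up ℤ) c F).hom ≫
      (ζ ≫ E.iCycles c) := HomologicalComplex.mkHomFromSingle_f _ _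
  haveI : IsIso (((HomologicalComplex.single (ModuleCat.{u} A) (ComplexShape.up ℤ) c).obj
      F).iCycles c) :=
    HomologicalComplex.isIso_iCycles _ c (c + 1) (by simp) rfl
  have h1 : HomologicalComplex.cyclesMap σ c =
      (((HomologicalComplex.single (ModuleCat.{u} A) (ComplexShape.up ℤ) c).obj F).iCycles c ≫
        (HomologicalComplex.singleObjXSelf (ComplexShape.up ℤ) c F).hom) ≫ ζ := by
    rw [← cancel_mono (E.iCycles c), HomologicalComplex.cyclesMap_i, hσf]
    simp only [Category.assoc]
  have h2 : ((HomologicalComplex.single (ModuleCat.{u} A) (ComplexShape.up ℤ) c).obj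
      F).homologyπ c ≫ HomologicalComplex.homologyMap σ c =
      (((HomologicalComplex.single (ModuleCat.{u} A) (ComplexShape.up ℤ) c).obj F).iCycles c ≫
        (HomologicalComplex.singleObjXSelf (ComplexShape.up ℤ) c F).hom) ≫ π := by
    rw [HomologicalComplex.homologyπ_naturality, h1, Category.assoc, hζ]
  haveI : Epi (((HomologicalComplex.single (ModuleCat.{u} A) (ComplexShape.up ℤ) c).obj
      F).homologyπ c ≫ HomologicalComplex.homologyMap σ c) := by
    rw [h2]; infer_instance
  exact epi_of_epi (((HomologicalComplex.single (ModuleCat.{u} A) (ComplexShape.up ℤ) c).obj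
      F).homologyπ c) _

/-- vanishing of `H^c` of the cone -/
theorem isZero_homology_cone (E : DRing.Cx A) (c : ℤ) (F : ModuleCat.{u} A)
    (σ : (HomologicalComplex.single (ModuleCat.{u} A) (ComplexShape.up ℤ) c).obj F ⟶ E)
    (hσ : Epi (HomologicalComplex.homologyMap σ c)) :
    IsZero ((CochainComplex.mappingCone σ).homology c) := by
  let T := (Q : _ ⥤ Dual.D A).mapTriangle.obj (CochainComplex.mappingCone.triangle σ)
  have hT : T ∈ distTriang _ := DerivedCategory.mappingCone_triangle_distinguished σ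
  have hepi : Epi ((DerivedCategory.homologyFunctor (ModuleCat.{u} A) c).map T.mor₁) := by
    have nat := (DerivedCategory.homologyFunctorFactors (ModuleCat.{u} A) c).hom.naturality σ
    haveI : Epi ((HomologicalComplex.homologyFunctor (ModuleCat.{u} A)
        (ComplexShape.up ℤ) c).map σ) := hσ
    have key : (Q ⋙ DerivedCategory.homologyFunctor (ModuleCat.{u} A) c).map σ =
        ((DerivedCategory.homologyFunctorFactors (ModuleCat.{u} A) c).hom.app _ ≫
          (HomologicalComplex.homologyFunctor (ModuleCat.{u} A) (ComplexShape.up ℤ) c).map σ) ≫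
          (DerivedCategory.homologyFunctorFactors (ModuleCat.{u} A) c).inv.app _ := by
      rw [← nat, Category.assoc, Iso.hom_inv_id_app, Category.comp_id]
    haveI : Epi ((Q ⋙ DerivedCategory.homologyFunctor (ModuleCat.{u} A) c).map σ) := by
      rw [key]; infer_instance
    exact this
  have h0 : (DerivedCategory.homologyFunctor (ModuleCat.{u} A) c).map T.mor₂ = 0 :=
    (DerivedCategory.HomologySequence.epi_homologyMap_mor₁_iff T hT c).1 hepi
  have hδ : DerivedCategory.HomologySequence.δ T c (c + 1) rfl = 0 := by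
    refine IsZero.eq_of_tgt ?_ _ _
    refine IsZero.of_iso ?_ (homologyToD
      ((HomologicalComplex.single (ModuleCat.{u} A) (ComplexShape.up ℤ) c).obj F) (c + 1))
    exact ShortComplex.isZero_homology_of_isZero_X₂ _
      (HomologicalComplex.isZero_single_obj_X (ComplexShape.up ℤ) c F (c + 1) (by omega))
  haveI : Epi ((DerivedCategory.homologyFunctor (ModuleCat.{u} A) c).map T.mor₂) :=
    (DerivedCategory.HomologySequence.epi_homologyMap_mor₂_iff T hT c (c + 1) rfl).2 hδ
  have hz : IsZero ((DerivedCategory.homologyFunctor (ModuleCat.{u} A) c).obj T.obj₃) :=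
    IsZero.of_epi_eq_zero _ h0
  exact hz.of_iso (homologyToD (CochainComplex.mappingCone σ) c).symm

end Single

section BC

variable {R B : Type u} [CommRing R] [CommRing B] (φ : R →+* B)

/-- homology commutes with flat base change -/
noncomputable def bcHomologyIso (hfl : φ.Flat) (E : DRing.Cx R) (i : ℤ) :
    ((bcCx φ).obj E).homology i ≅
      (ModuleCat.extendScalars.{u, u, u} φ).obj (E.homology i) :=
  haveI : PreservesFiniteLimits (ModuleCat.extendScalars.{u, u, u} φ) :=
    ModuleCat.preservesFiniteLimits_extendScalars_of_flat hfl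
  haveI : PreservesFiniteColimits (ModuleCat.extendScalars.{u, u, u} φ) := inferInstance
  (E.sc i).mapHomologyIso (ModuleCat.extendScalars.{u, u, u} φ)

/-- `H^i` of the base change in the derived category -/
noncomputable def bcHomologyD (hfl : φ.Flat) (E : DRing.Cx R) (i : ℤ) :
    (DerivedCategory.homologyFunctor (ModuleCat.{u} B) i).obj (DRing.toD ((bcCx φ).obj E)) ≅
      (ModuleCat.extendScalars.{u, u, u} φ).obj (E.homology i) :=
  homologyToD _ i ≪≫ bcHomologyIso φ hfl E i

/-- the bound -/
def G (m : ℕ) : ℕ → ℕ → ℕ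
  | 0, s => s * m
  | (n + 1), s => G m n (s * m + s) + s * m

variable {φ}

theorem base_case (hff : φ.FaithfullyFlat) (m : ℕ)
    (hnis : IsNisCoverLen (Spec.map (CommRingCat.ofHom φ)) m)
    (E : DRing.Cx R) (lo : ℤ) (s : ℕ) (h : Sz (DRing.toD ((bcCx φ).obj E)) lo lo s) :
    Sz (DRing.toD E) lo lo (s * m) := by
  have hfl := hff.flat
  obtain ⟨P, hP, ⟨e⟩⟩ := h
  have hPz : ∀ i : ℤ, i ≠ lo → IsZero (P.homology i) := fun i hi =>
    ShortComplex.isZero_homology_of_isZero_X₂ _ (hP.1 i (by omega))
  have eH : ∀ i : ℤ, P.homology i ≅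
      (ModuleCat.extendScalars.{u, u, u} φ).obj (E.homology i) := fun i =>
    (homologyToD P i).symm ≪≫
      (DerivedCategory.homologyFunctor (ModuleCat.{u} B) i).mapIso e ≪≫ bcHomologyD φ hfl E i
  apply Sz_of_concentrated
  · intro i hi
    refine IsZero.of_iso ?_ (homologyToD E i)
    exact isZero_of_ext φ hff _ ((hPz i hi).of_iso (eH i).symm)
  · have hd1 : P.d lo (lo + 1) = 0 := (hP.1 (lo + 1) (Or.inr (by omega))).eq_of_tgt _ _
    have hd0 : P.d (lo - 1) lo = 0 := (hP.1 (lo - 1) (Or.inl (by omega))).eq_of_src _ _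
    haveI : IsIso (P.iCycles lo) := P.isIso_iCycles lo (lo + 1) (by simp) hd1
    haveI : IsIso (P.homologyπ lo) := P.isIso_homologyπ (lo - 1) lo (by simp) hd0
    have h1 : SizeLE B (P.homology lo) s :=
      (hP.2 lo).of_iso ((asIso (P.iCycles lo)).symm ≪≫ asIso (P.homologyπ lo))
    have h2 : SizeLE B ((ModuleCat.extendScalars.{u, u, u} φ).obj (E.homology lo)) s :=
      h1.of_iso (eH lo)
    exact (sizeLE_descent hff m hnis _ s h2).of_iso (homologyToD E lo).symm

theorem step (hff : φ.FaithfullyFlat) (m : ℕ)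
    (hnis : IsNisCoverLen (Spec.map (CommRingCat.ofHom φ)) m) (n : ℕ)
    (ih : ∀ (E : DRing.Cx R) (lo : ℤ) (s : ℕ),
      Sz (DRing.toD ((bcCx φ).obj E)) lo (lo + (n : ℤ)) s →
        Sz (DRing.toD E) lo (lo + (n : ℤ)) (G m n s))
    (E : DRing.Cx R) (lo c : ℤ) (hc : c = lo + (n : ℤ) + 1) (s : ℕ)
    (h : Sz (DRing.toD ((bcCx φ).obj E)) lo c s) :
    Sz (DRing.toD E) lo c (G m (n + 1) s) := by
  have hfl := hff.flat
  have hc' : c - 1 = lo + (n : ℤ) := by omega
  obtain ⟨P, hP, ⟨e⟩⟩ := h
  -- generators of `H^c(E)`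
  obtain ⟨g₀, hg₀⟩ := hP.top_gen
  let eH : P.homology c ≅ (ModuleCat.extendScalars.{u, u, u} φ).obj (E.homology c) :=
    (homologyToD P c).symm ≪≫
      (DerivedCategory.homologyFunctor (ModuleCat.{u} B) c).mapIso e ≪≫ bcHomologyD φ hfl E c
  obtain ⟨t, ht, g', hg'⟩ : ∃ t : ℕ, t = s * m ∧
      ∃ g' : (Fin t → R) →ₗ[R] (E.homology c), Function.Surjective g' :=
    ⟨_, rfl, gen_mod hff m hnis (E.homology c) s
      (eH.toLinearEquiv.toLinearMap ∘ₗ g₀) (eH.toLinearEquiv.surjective.comp hg₀)⟩
  let F : ModuleCat.{u} R := ModuleCat.of R (Fin t → R)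
  haveI : Projective F :=
    (IsProjective.iff_projective (R := R) (P := (Fin t → R))).1 Module.Projective.of_free
  let π : F ⟶ E.homology c := ModuleCat.ofHom g'
  haveI : Epi π := (ModuleCat.epi_iff_surjective π).2 hg'
  obtain ⟨σ, hσ⟩ := exists_single_map E c F π
  have hz : IsZero ((CochainComplex.mappingCone σ).homology c) :=
    isZero_homology_cone E c F σ hσ
  -- the `B`-side
  let TB := (Q : _ ⥤ Dual.D B).mapTriangle.obj
    (CochainComplex.mappingCone.triangle ((bcCx φ).map σ))
  have hTB : TB ∈ distTriang _ :=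
    DerivedCategory.mappingCone_triangle_distinguished ((bcCx φ).map σ)
  have h1 : Sz TB.obj₁ (lo + 1) (c + 1) t := by
    have : Sz (DRing.toD ((bcCx φ).obj
        ((HomologicalComplex.single (ModuleCat.{u} R) (ComplexShape.up ℤ) c).obj F))) c c t := by
      refine ⟨_, ⟨?_, ?_⟩, ⟨Iso.refl _⟩⟩
      · intro i hi
        exact Functor.map_isZero (ModuleCat.extendScalars.{u, u, u} φ)
          (HomologicalComplex.isZero_single_obj_X (ComplexShape.up ℤ) c F i (by omega))
      · intro i
        by_cases hic : i = c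
        · subst hic
          exact (SizeLE.ext_free φ t).of_iso ((ModuleCat.extendScalars.{u, u, u} φ).mapIso
            (HomologicalComplex.singleObjXSelf (ComplexShape.up ℤ) i F).symm)
        · exact SizeLE.zero (Functor.map_isZero (ModuleCat.extendScalars.{u, u, u} φ)
            (HomologicalComplex.isZero_single_obj_X (ComplexShape.up ℤ) c F i hic)) t
    exact this.mono (by omega) (by omega) le_rfl
  have h2 : Sz TB.obj₂ lo c s := ⟨P, hP, ⟨e⟩⟩
  have h3 : Sz TB.obj₃ lo c (t + s) := Sz.cone TB hTB h1 h2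
  have h4 : Sz (DRing.toD ((bcCx φ).obj (CochainComplex.mappingCone σ))) lo c (t + s) :=
    h3.of_iso ((Q : _ ⥤ Dual.D B).mapIso (CochainComplex.mappingCone.mapHomologicalComplexIso σ
      (ModuleCat.extendScalars.{u, u, u} φ))).symm
  have h5 : IsZero ((DerivedCategory.homologyFunctor (ModuleCat.{u} B) c).obj
      (DRing.toD ((bcCx φ).obj (CochainComplex.mappingCone σ)))) :=
    IsZero.of_iso (Functor.map_isZero (ModuleCat.extendScalars.{u, u, u} φ) hz)
      (bcHomologyD φ hfl (CochainComplex.mappingCone σ) c)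
  have h6 : Sz (DRing.toD ((bcCx φ).obj (CochainComplex.mappingCone σ))) lo (c - 1) (t + s) :=
    h4.truncate h5
  rw [hc'] at h6
  have h7 := ih (CochainComplex.mappingCone σ) lo (t + s) h6
  -- the `R`-side
  let T := (Q : _ ⥤ Dual.D R).mapTriangle.obj (CochainComplex.mappingCone.triangle σ)
  have hT : T ∈ distTriang _ := DerivedCategory.mappingCone_triangle_distinguished σ
  have hT' := Pretriangulated.inv_rot_of_distTriang T hT
  have k1 : Sz T.invRotate.obj₁ (lo + 1) (c + 1) (G m n (t + s)) :=
    h7.shift_neg_one.mono le_rfl (by omega) le_rfl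
  have k2 : Sz T.invRotate.obj₂ lo c t :=
    (Sz_single F (SizeLE.free t) c).mono (by omega) le_rfl le_rfl
  have k3 := Sz.cone T.invRotate hT' k1 k2
  rw [ht] at k3
  exact k3

theorem claim (hff : φ.FaithfullyFlat) (m : ℕ)
    (hnis : IsNisCoverLen (Spec.map (CommRingCat.ofHom φ)) m) :
    ∀ (n : ℕ) (E : DRing.Cx R) (lo : ℤ) (s : ℕ),
      Sz (DRing.toD ((bcCx φ).obj E)) lo (lo + (n : ℤ)) s →
        Sz (DRing.toD E) lo (lo + (n : ℤ)) (G m n s) := by
  intro n
  induction n with
  | zero =>
    intro E lo s h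
    simp only [Nat.cast_zero, add_zero] at h ⊢
    exact base_case hff m hnis E lo s h
  | succ n ih =>
    intro E lo s h
    exact step hff m hnis n ih E lo _ (by push_cast; ring) s h

end BC

/-- the uniform bound -/
def Fbound (N : ℕ) : ℕ := N + G N (2 * N) N

theorem main17870 :
    ∃ F : ℕ → ℕ, ∀ (R : Type u) [CommRing R] (E : DRing.Cx R) (a b : ℤ),
      DRing.VanishesOutside E a b → DRing.TermwiseFiniteProjective E →
      ∀ N : ℕ, W4c5algebraiztannaka.LocSize E N →
        W4c5algebraiztannaka.GlobSize R (DRing.toD E) (F N) := by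
  refine ⟨Fbound, ?_⟩
  intro R _ E a b _ _ N hloc
  obtain ⟨B, _, φ, hnis, P, hP, ⟨e⟩⟩ := hloc
  have hff := ff_of_nis φ N hnis
  have h0 : Sz (DRing.toD ((bcCx φ).obj E)) (-(N : ℤ)) (-(N : ℤ) + ((2 * N : ℕ) : ℤ)) N := by
    refine ⟨P, ⟨?_, fun i => hP.2 i⟩, ⟨e⟩⟩
    intro i hi
    refine hP.1 i ?_
    push_cast at hi
    rcases hi with hi | hi
    · exact Or.inl hi
    · exact Or.inr (by omega)
  have h1 := claim hff N hnis (2 * N) E (-(N : ℤ)) N h0
  have h2 : Sz (DRing.toD E) (-((Fbound N : ℕ) : ℤ)) ((Fbound N : ℕ) : ℤ) (Fbound N) := by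
    refine h1.mono ?_ ?_ ?_
    · unfold Fbound; push_cast; omega
    · unfold Fbound; push_cast; omega
    · unfold Fbound; omega
  obtain ⟨P', hP', e'⟩ := h2
  exact ⟨P', ⟨hP'.1, fun i => hP'.2 i⟩, e'⟩

end Groth.Agent.Lib.LocGlobH3
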