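import Mathlib
import Groth.Prelude
import Groth.Agent.Lib.LocGlobExt_helper4
import Groth.Agent.Lib.DegenNat_helper4
import Groth.Agent.Lib.SheafHomLF3_helper9
import Groth.Agent.Lib.HomShDual3_helper2
import Groth.Agent.Lib.ProjDual2_helper9

/-!
# Local-to-global Ext in the degenerate case, linearly (helper4)

On a scheme `X` over `Spec A`: if the Ext sheaves `ℰxt^q(M, N)`, `q ≤ i`, have no higher
cohomology then `Ext^i(M, N) ≃ₗ[A] H^0(X, ℰxt^i(M, N))` (`nonempty_ext_linearEquiv_sections`).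
APPEND-ONLY once landed.
-/

set_option autoImplicit false
set_option linter.style.haveILetI false
set_option backward.isDefEq.respectTransparency.types false
set_option maxHeartbeats 1600000
universe u
open CategoryTheory CategoryTheory.Limits AlgebraicGeometry Opposite Abelian TopologicalSpace

namespace Groth.Agent.Lib.LocGlobLinH4

open ModSite Groth.Agent.Lib.ModSiteH8 Groth.Agent.Lib.ModFree Groth.Agent.Lib.LocGlobExtH4
open Groth.Agent.Lib.DegenCompH4 Groth.Agent.Lib.DegenNatH4 Groth.Agent.Lib.FunctorialInjective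
open QcqsLoc QCohExtn SerreCrit

variable {X : Scheme.{u}}

/-- the constructed sheaf Hom commutes with multiplication by global functions -/
theorem homFunctor_map_smulModΓ (E N : X.Modules) (r : Coh.Γtop X) :
    (RefFun.homFunctor E).map (Formal.smulModΓ N r) =
      Formal.smulModΓ ((RefFun.homFunctor E).obj N) r := by
  haveI : DCoh.HasSheafHom E := (Groth.Agent.Lib.HomShAdjH2.tensorHomAdj E).isLeftAdjoint
  have h1 := (Groth.Agent.Lib.HomShAdjH2.dcohSheafHomIso E).hom.naturality (Formal.smulModΓ N r)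
  rw [SheafHomLFH9.sheafHom_map_smulModΓ, ← KLin.comp_smulModΓ] at h1
  exact ((cancel_epi ((Groth.Agent.Lib.HomShAdjH2.dcohSheafHomIso E).hom.app N)).1 h1).symm

/-- the abstract internal Hom commutes with multiplication by global functions -/
theorem sheafHom_map_smulModΓ (E N : X.Modules) [ModSite.HasSheafHom (O := X.sheaf) E]
    (r : Coh.Γtop X) :
    (ModSite.sheafHom (O := X.sheaf) E).map (Formal.smulModΓ N r) =
      Formal.smulModΓ ((ModSite.sheafHom (O := X.sheaf) E).obj N) r := by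
  have h1 := (Groth.Agent.Lib.HomShAdjH2.modSiteSheafHomIso E).hom.naturality
    (Formal.smulModΓ N r)
  rw [homFunctor_map_smulModΓ] at h1
  have h2 := KLin.comp_smulModΓ ((Groth.Agent.Lib.HomShAdjH2.modSiteSheafHomIso E).hom.app N) r
  exact (cancel_mono ((Groth.Agent.Lib.HomShAdjH2.modSiteSheafHomIso E).hom.app N)).1
    (h1.trans h2)

/-- the Ext sheaves commute with multiplication by global functions -/
theorem extSh_map_smulModΓ [HasInjectiveResolutions (ModSite.Mod X.sheaf)] (E N : X.Modules)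
    [ModSite.HasSheafHom (O := X.sheaf) E] (r : Coh.Γtop X) (q : ℕ) :
    (ModSite.extSh (O := X.sheaf) E q).map (Formal.smulModΓ N r) =
      Formal.smulModΓ ((ModSite.extSh (O := X.sheaf) E q).obj N) r := by
  haveI : IsGrothendieckAbelian.{u} (Mod X.sheaf) :=
    isGrothendieckAbelian_sheafOfModules _ (ModSite.ringSh X.sheaf)
  haveI : EnoughInjectives (Mod X.sheaf) := inferInstance
  haveI : (sheafHom (O := X.sheaf) E).IsRightAdjoint := (sheafHomAdj E).isRightAdjoint
  haveI : PreservesFiniteLimits (sheafHom (O := X.sheaf) E) := inferInstance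
  exact rightDerived_map_central (sheafHom (O := X.sheaf) E) (SheafHomLFH9.ρΓ r)
    (SheafHomLFH9.ρΓ r) (fun N' => sheafHom_map_smulModΓ E N' r) q N

/-- evaluation at `1`: `Hom(O_X, E) ≃+ Γ(X, E)` -/
noncomputable def evOne (E : X.Modules) : (Coh.structureModule X ⟶ E) ≃+ Γ(E, ⊤) where
  toFun φ := ap φ ⊤ (ofFn 1)
  invFun m := SDivGenH8.unitHom E m
  left_inv φ := by
    have h : SDivGenH8.unitHom E (ap φ ⊤ (ofFn 1)) - φ = 0 := by
      apply Groth.Agent.InvInt.hom_OO_eq_zero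
      have h1 : ap (SDivGenH8.unitHom E (ap φ ⊤ (ofFn 1))) ⊤ (ofFn 1) = ap φ ⊤ (ofFn 1) := by
        rw [Groth.Agent.ProjDual.ap_unitHom, one_smul, Groth.Agent.ProjDual.rF_self]
      show ap (SDivGenH8.unitHom E (ap φ ⊤ (ofFn 1))) ⊤ (ofFn 1) - ap φ ⊤ (ofFn 1) = 0
      rw [h1, sub_self]
    exact sub_eq_zero.mp h
  right_inv m := by
    show ap (SDivGenH8.unitHom E m) ⊤ (ofFn 1) = m
    rw [Groth.Agent.ProjDual.ap_unitHom, one_smul, Groth.Agent.ProjDual.rF_self]
  map_add' φ ψ := rfl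

theorem evOne_comp {E E' : X.Modules} (φ : Coh.structureModule X ⟶ E) (g : E ⟶ E') :
    evOne E' (φ ≫ g) = ap g ⊤ (evOne E φ) := rfl

theorem evOne_smul {A : Type u} [CommRing A] [X.Over (Spec (CommRingCat.of A))] (E : X.Modules)
    (φ : Coh.structureModule X ⟶ E) (a : A) :
    evOne E (φ ≫ Formal.smulMod A E a) =
      (Groth.Agent.ProjDual.cc A a : Γ(X, ⊤)) • evOne E φ := by
  rw [evOne_comp]
  show (Formal.smulModΓ E (Groth.Agent.ProjDual.cc A a)).app ⊤ (evOne E φ) = _
  rw [KLin.smulModΓ_app_apply]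
  congr 1
  have : (homOfLE (le_top (a := (⊤ : X.Opens)))).op = 𝟙 (op (⊤ : X.Opens)) := rfl
  rw [this, X.presheaf.map_id]
  rfl

section Site

variable {C : Type u} [SmallCategory C] {J : GrothendieckTopology C}
variable (O : Sheaf J CommRingCat.{u})

/-- the abutment isomorphism, as a natural isomorphism -/
noncomputable def abut [HasInjectiveResolutions (Mod O)] [HasExt.{u} (Mod O)]
    (M : Mod O) [HasSheafHom M] (n : ℕ) :
    (sheafHom M ⋙ Γf O).rightDerived n ≅ (Abelian.extFunctor.{u} n).obj (op M) :=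
  ExtDer.rightDerivedIso (homSheafHomIso O M).symm n ≪≫ ExtDer.natIso M n

/-- the comparison isomorphisms `Ext^i(M, N) ≅ Γ(ℰxt^i(M, N))`, natural in `N`. -/
theorem exists_iso_nat [HasInjectiveResolutions (Mod O)] [HasExt.{u} (Mod O)]
    (M : Mod O) [HasSheafHom M] (i : ℕ) :
    ∃ Ψ : ∀ N : Mod O, (∀ q : ℕ, q ≤ i → ∀ p : ℕ,
          IsZero (((Γf O).rightDerived (p + 1)).obj ((ModSite.extSh M q).obj N))) →
        (((Abelian.extFunctor.{u} i).obj (op M)).obj N ≅ (Γf O).obj ((ModSite.extSh M i).obj N)),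
      ∀ (N N' : Mod O) (hN) (hN') (f : N ⟶ N'),
        ((Abelian.extFunctor.{u} i).obj (op M)).map f ≫ (Ψ N' hN').hom =
          (Ψ N hN).hom ≫ (Γf O).map ((ModSite.extSh M i).map f) := by
  haveI : IsGrothendieckAbelian.{u} (Mod O) :=
    isGrothendieckAbelian_sheafOfModules J (ModSite.ringSh O)
  haveI : EnoughInjectives (Mod O) := inferInstance
  haveI : (sheafHom M).IsRightAdjoint := (sheafHomAdj M).isRightAdjoint
  haveI : PreservesFiniteLimits (sheafHom M) := inferInstance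
  have hT : ∀ Q : Mod O, Injective Q → Acyclic (Γf O) ((sheafHom M).obj Q) :=
    fun Q hQ p => hT_sheafHom O M Q hQ (p + 1) (Nat.succ_pos p)
  obtain ⟨e, enat⟩ := exists_natural_iso (sheafHom M) (Γf O) hT i
  refine ⟨fun N hN => ((abut O M i).app N).symm ≪≫ e N (fun q hq p => hN q hq p), ?_⟩
  intro N N' hN hN' f
  have n1 := (abut O M i).inv.naturality f
  have n2 := enat N N' (fun q hq p => hN q hq p) (fun q hq p => hN' q hq p) f
  simp only [Iso.trans_hom, Iso.symm_hom, Iso.app_inv]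
  rw [← Category.assoc, n1, Category.assoc, n2, Category.assoc]

end Site

/-- the additive comparison `Ext^i(M, N) ≃+ Hom(O_X, ℰxt^i(M, N))` commutes with multiplication by
global functions. -/
theorem exists_addEquiv_smul [HasInjectiveResolutions (ModSite.Mod X.sheaf)]
    [HasExt.{u} X.Modules] (M N : X.Modules) [ModSite.HasSheafHom (O := X.sheaf) M] (i : ℕ)
    (h : ∀ q : ℕ, q ≤ i → ∀ p : ℕ,
      Subsingleton (Coh.HH X ((ModSite.extSh (O := X.sheaf) M q).obj N) (p + 1))) :
    ∃ Φ₁ : Abelian.Ext.{u} M N i ≃+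
        (Coh.structureModule X ⟶ (ModSite.extSh (O := X.sheaf) M i).obj N),
      ∀ (r : Coh.Γtop X) (x : Abelian.Ext.{u} M N i),
        Φ₁ (x.comp (Ext.mk₀ (Formal.smulModΓ N r)) (add_zero i)) =
          Φ₁ x ≫ Formal.smulModΓ ((ModSite.extSh (O := X.sheaf) M i).obj N) r := by
  have hyp : ∀ q : ℕ, q ≤ i → ∀ p : ℕ, IsZero (((Γf X.sheaf).rightDerived (p + 1)).obj
      ((ModSite.extSh (O := X.sheaf) M q).obj N)) := by
    intro q hq p
    obtain ⟨e⟩ := nonempty_rightDerived_homUnit_iso_HC X.sheaf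
      ((ModSite.extSh (O := X.sheaf) M q).obj N) (p + 1)
    refine IsZero.of_iso ?_ e
    haveI : Subsingleton (ModSite.HC X.sheaf ((ModSite.extSh (O := X.sheaf) M q).obj N) (p + 1)) :=
      h q hq p
    exact AddCommGrpCat.isZero_of_subsingleton _
  obtain ⟨Ψ, hΨ⟩ := @exists_iso_nat _ _ _ X.sheaf _ ‹HasExt.{u} X.Modules› M _ i
  refine ⟨(Ψ N hyp).addCommGroupIsoToAddEquiv, fun r x => ?_⟩
  have n1 := hΨ N N hyp hyp (Formal.smulModΓ N r)
  have n3 : (ModSite.extSh (O := X.sheaf) M i).map (Formal.smulModΓ N r) =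
      Formal.smulModΓ ((ModSite.extSh (O := X.sheaf) M i).obj N) r :=
    extSh_map_smulModΓ M N r i
  rw [n3] at n1
  exact ConcreteCategory.congr_hom n1 x

/-- from an additive equivalence commuting with global functions to a linear equivalence -/
theorem linearEquiv_of_addEquiv {A : Type u} [CommRing A]
    [X.Over (Spec (CommRingCat.of A))] [HasExt.{u} X.Modules] (M N E : X.Modules) (i : ℕ)
    (Φ₁ : Abelian.Ext.{u} M N i ≃+ (Coh.structureModule X ⟶ E))
    (hΦ₁ : ∀ (r : Coh.Γtop X) (x : Abelian.Ext.{u} M N i),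
        Φ₁ (x.comp (Ext.mk₀ (Formal.smulModΓ N r)) (add_zero i)) =
          Φ₁ x ≫ Formal.smulModΓ E r) :
    Nonempty (Abelian.Ext.{u} M N i ≃ₗ[A] Coh.HH X E 0) := by
  refine ⟨{ (Φ₁.trans (evOne E)).trans (Groth.Agent.ProjDual.h0 E).symm with
    map_smul' := ?_ }⟩
  intro a x
  have hx : a • x = x.comp (Ext.mk₀ (Formal.smulModΓ N (Groth.Agent.ProjDual.cc A a)))
      (add_zero i) := by
    rw [Ext.smul_eq_comp_mk₀, KLin.smul_id]
    rfl
  show (Groth.Agent.ProjDual.h0 E).symm (evOne E (Φ₁ (a • x))) =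
    a • (Groth.Agent.ProjDual.h0 E).symm (evOne E (Φ₁ x))
  rw [hx, hΦ₁]
  have h2 : evOne E (Φ₁ x ≫ Formal.smulModΓ E (Groth.Agent.ProjDual.cc A a)) =
      (Groth.Agent.ProjDual.cc A a : Γ(X, ⊤)) • evOne E (Φ₁ x) := evOne_smul E (Φ₁ x) a
  rw [h2]
  apply (Groth.Agent.ProjDual.h0 E).injective
  rw [AddEquiv.apply_symm_apply, Groth.Agent.ProjDual.h0_smul, AddEquiv.apply_symm_apply]

/-- **Local-to-global Ext, degenerate case, linear form.** -/
theorem nonempty_ext_linearEquiv_sections {A : Type u} [CommRing A]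
    [X.Over (Spec (CommRingCat.of A))] [HasInjectiveResolutions (ModSite.Mod X.sheaf)]
    [HasExt.{u} X.Modules] (M N : X.Modules) [ModSite.HasSheafHom (O := X.sheaf) M] (i : ℕ)
    (h : ∀ q : ℕ, q ≤ i → ∀ p : ℕ,
      Subsingleton (Coh.HH X ((ModSite.extSh (O := X.sheaf) M q).obj N) (p + 1))) :
    Nonempty (Abelian.Ext.{u} M N i ≃ₗ[A]
      Coh.HH X ((ModSite.extSh (O := X.sheaf) M i).obj N) 0) := by
  obtain ⟨Φ₁, hΦ₁⟩ := exists_addEquiv_smul M N i h
  exact linearEquiv_of_addEquiv M N _ i Φ₁ hΦ₁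

end Groth.Agent.Lib.LocGlobLinH4
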