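import Mathlib
import Groth.Prelude
import Groth.Agent.Lib.LocGlobLin1_helper4
import Groth.Agent.Lib.ProjExtVan1_helper4
import Groth.Agent.Lib.ExtShCoh1_helper2
import Groth.Agent.Lib.ClImmTw1_helper9
import Groth.Agent.Lib.PB9_helper8

/-!
# `Ext^i(F, G(d)) ≃ₗ Γ(ℰxt^i(F, G(d)))` for `d ≫ 0` on a projective scheme (helper4)
APPEND-ONLY once landed.
-/

set_option autoImplicit false
set_option linter.style.haveILetI false
set_option backward.isDefEq.respectTransparency.types false
set_option maxHeartbeats 1600000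
universe u
open CategoryTheory CategoryTheory.Limits AlgebraicGeometry Opposite Abelian

namespace Groth.Agent.Lib.LocGlobLinH4

open Groth.Agent.Lib.ProjExtVanH4 Groth.Agent.ProjTens

theorem main19671 (A : Type u) [CommRing A]
    [IsNoetherianRing A] (n : ℕ) (X : Scheme.{u}) [X.Over (Spec (CommRingCat.of A))]
    (ι : X ⟶ CohB1.ProjSpace n A) [IsClosedImmersion ι]
    [HasExt.{u} X.Modules] (F G : X.Modules) (hF : Coh.IsCoh F) (hG : Coh.IsCoh G)
    [ModSite.HasSheafHom (O := X.sheaf) F] [HasInjectiveResolutions (ModSite.Mod X.sheaf)]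
    (i : ℕ) :
    ∃ d₀ : ℕ, ∀ d : ℕ, d₀ ≤ d →
      Nonempty (Abelian.Ext F (CohB1.tensorMod G
          ((Scheme.Modules.pullback ι).obj (Twist.twistProjSpace n A (d : ℤ)))) i ≃ₗ[A]
        Coh.HH X ((ModSite.extSh (O := X.sheaf) F i).obj
          (CohB1.tensorMod G
            ((Scheme.Modules.pullback ι).obj (Twist.twistProjSpace n A (d : ℤ))))) 0) := by
  haveI hNoeth : AlgebraicGeometry.IsNoetherian (CohB1.ProjSpace n A) :=
    Groth.Agent.S2357.result (CohB1.polyGrading n A)
  haveI : IsLocallyNoetherian X := LocallyOfFiniteType.isLocallyNoetherian ι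
  have hE : ∀ q : ℕ, Coh.IsCoh ((ModSite.extSh (O := X.sheaf) F q).obj G) :=
    fun q => Groth.Agent.Lib.ExtShCohH2.isCoh_extSh q X F G hF hG
  have hv := fun q => Groth.Agent.ClImmTw.exists_vanishing A n ι _ (hE q)
  choose D hD using hv
  refine ⟨((Finset.range (i + 1)).sup' ⟨0, by simp⟩ D).toNat, fun d hd => ?_⟩
  have hflf : FlatMod.IsFinLocFree
      ((Scheme.Modules.pullback ι).obj (Twist.twistProjSpace n A (d : ℤ))) :=
    PBH8.isFinLocFree_pullback ι (Groth.Agent.ClImmTw.isFinLocFree_twist A n d)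
  apply nonempty_ext_linearEquiv_sections
  intro q hq p
  obtain ⟨e⟩ := nonempty_extSh_tensor_iso F
    ((Scheme.Modules.pullback ι).obj (Twist.twistProjSpace n A (d : ℤ))) G hflf q
  refine Groth.Agent.HHVan.subsingleton_of_iso e (p + 1) ?_
  refine hD q d ?_ (p + 1) (by omega)
  have h1 : D q ≤ (Finset.range (i + 1)).sup' ⟨0, by simp⟩ D :=
    Finset.le_sup' D (Finset.mem_range.mpr (by omega))
  omega

end Groth.Agent.Lib.LocGlobLinH4
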