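import Mathlib
import Groth.Prelude.Def_FibDesc
import Groth.Agent.Lib.LocConc_helper7
import Groth.Agent.Lib.LocCech_helper7
import Groth.Agent.Lib.LocGlue_helper7

/-!
# Cohomological descent is local on the base for open coverings (helper7)
APPEND-ONLY once landed.
-/

set_option autoImplicit false
set_option backward.isDefEq.respectTransparency false
set_option backward.isDefEq.respectTransparency.types false
set_option linter.style.haveILetI false
set_option linter.unusedSectionVars false

universe u

open CategoryTheory CategoryTheory.Limits Opposite TopologicalSpace Topology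

namespace Groth.Agent.Lib.LocMainH7

open FibDesc Groth.Agent.Lib.FibDescSideH7 Groth.Agent.Lib.LocConcH7 Groth.Agent.Lib.LocCechH7
  Groth.Agent.Lib.LocGlueH7

/-- **Cohomological descent is local on the base** (open coverings). -/
theorem isCohDescentMap_of_openCover {X S : TopCat.{u}} (u : X ⟶ S) {ι : Type u}
    (V : ι → Opens S) (hV : iSup V = ⊤)
    (h : ∀ i, IsCohDescentMap (pullback.snd u (jV (V i)))) : IsCohDescentMap u := by
  apply isCohDescentTop_of_acyc (cechAug u)
  intro I _
  have hpb : ∀ i, IsPullback (pullback.fst u (jV (V i))) (pullback.snd u (jV (V i))) u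
      (jV (V i)) := fun i => IsPullback.of_hasPullback u (jV (V i))
  have hopen := fun i x => isOpenEmbedding_hNat u (V i) (hpb i) x
  have hrange := fun i x a => range_hNat u (V i) (hpb i) x a
  have key := fun i => loc_top (hNat u (V i) (hpb i)) (hopen i) (V i) (hrange i) (h i) I
  have hcov : ∀ t : (cechAug u).obj (bot SimplexCategory),
      ∃ i, t ∈ Set.range ((hNat u (V i) (hpb i)).app (bot SimplexCategory)) := by
    intro t
    have ht : (show S from t) ∈ (iSup V : Opens S) := by
      rw [hV]
      trivial
    obtain ⟨i, hi⟩ := Opens.mem_iSup.1 ht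
    refine ⟨i, ?_⟩
    rw [hrange i (bot SimplexCategory) (𝟙 _)]
    show (cechAug u).map (𝟙 _) t ∈ V i
    rw [(cechAug u).map_id]
    exact hi
  refine ⟨?_, fun q hq => ?_⟩
  · exact isIso_of_locally (fun i => (hNat u (V i) (hpb i)).app (bot SimplexCategory))
      (fun i => hopen i (bot SimplexCategory)) hcov _ (fun i => (key i).1)
  · exact isZero_of_locally (fun i => (hNat u (V i) (hpb i)).app (bot SimplexCategory))
      (fun i => hopen i (bot SimplexCategory)) hcov _ (fun i => (key i).2 q hq)

end Groth.Agent.Lib.LocMainH7
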