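import Mathlib
import Groth.Prelude.Def_FibDesc
import Groth.Agent.Lib.LocMain_helper7
import Groth.Agent.Lib.CechSplit5_helper7

/-!
# Surjective local homeomorphisms are universally of cohomological descent (helper7)
APPEND-ONLY once landed.
-/

set_option autoImplicit false
set_option backward.isDefEq.respectTransparency false
set_option backward.isDefEq.respectTransparency.types false
set_option linter.style.haveILetI false
set_option linter.unusedSectionVars false

universe u

open CategoryTheory CategoryTheory.Limits Opposite TopologicalSpace Topology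

namespace Groth.Agent.Lib.LocHomeoDescH7

open FibDesc Groth.Agent.Lib.LocCechH7 Groth.Agent.Lib.LocMainH7 Groth.Agent.Lib.CechSplitH7

/-- a map which has local sections over an open covering of the base is of cohomological
descent -/
theorem isCohDescentMap_of_local_sections {X S : TopCat.{u}} (f : X ⟶ S)
    (hloc : ∀ s : S, ∃ V : Opens S, s ∈ V ∧ ∃ σ : TopCat.of V ⟶ X, σ ≫ f = jV V) :
    IsCohDescentMap f := by
  choose V hmem σ hσ using hloc
  apply isCohDescentMap_of_openCover f V
  · exact eq_top_iff.2 (fun s _ => Opens.mem_iSup.2 ⟨s, hmem s⟩)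
  · intro i
    have hw : σ i ≫ f = 𝟙 (TopCat.of (V i)) ≫ jV (V i) := by
      rw [hσ i, Category.id_comp]
    exact isCohDescentMap_of_section (pullback.snd f (jV (V i)))
      (pullback.lift (σ i) (𝟙 _) hw) (pullback.lift_snd _ _ _)

/-- local sections of the base change of a surjective local homeomorphism -/
theorem local_sections_of_isLocalHomeomorph {X S S' : TopCat.{u}} (f : X ⟶ S)
    (hf : IsLocalHomeomorph f) (hsurj : Function.Surjective f) (g : S' ⟶ S) (s' : S') :
    ∃ V : Opens S', s' ∈ V ∧ ∃ σ : TopCat.of V ⟶ pullback f g,
      σ ≫ pullback.snd f g = jV V := by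
  obtain ⟨x, hx⟩ := hsurj (g s')
  obtain ⟨e, hxe, hfe⟩ := hf x
  have hfe' : ∀ z, f z = e z := fun z => congrFun hfe z
  let V : Opens S' := (Opens.map g).obj ⟨e.target, e.open_target⟩
  have hs' : s' ∈ V := by
    show g s' ∈ e.target
    rw [← hx, hfe' x]
    exact e.map_source hxe
  have hcont : Continuous (fun v : V => e.symm (g v.1)) :=
    e.continuousOn_symm.comp_continuous (g.hom.continuous.comp continuous_subtype_val)
      (fun v => v.2)
  let τ : TopCat.of V ⟶ X := TopCat.ofHom ⟨fun v => e.symm (g v.1), hcont⟩
  have hτ : τ ≫ f = jV V ≫ g := by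
    apply ConcreteCategory.hom_ext
    intro v
    show f (e.symm (g v.1)) = g v.1
    rw [hfe']
    exact e.right_inv v.2
  exact ⟨V, hs', pullback.lift τ (jV V) hτ, pullback.lift_snd _ _ _⟩

/-- **A surjective local homeomorphism is universally of cohomological descent.** -/
theorem isUnivCohDescentMap_of_isLocalHomeomorph {X S : TopCat.{u}} (f : X ⟶ S)
    (hf : IsLocalHomeomorph f) (hsurj : Function.Surjective f) : IsUnivCohDescentMap f := by
  intro S' g
  exact isCohDescentMap_of_local_sections (pullback.snd f g)
    (local_sections_of_isLocalHomeomorph f hf hsurj g)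

end Groth.Agent.Lib.LocHomeoDescH7
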