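import Mathlib

set_option maxSynthPendingDepth 3

universe u v

namespace Groth.Agent.Lib.LocIdem

section generic

variable {A : Type u} [CommRing A] (B : Type v) [CommRing B] [Algebra A B] (f : A)

abbrev LocB : Type v := Localization (Algebra.algebraMapSubmonoid B (Submonoid.powers f))

theorem phi_iota (a : A) :
    algebraMap (Localization.Away f) (LocB B f) (algebraMap A (Localization.Away f) a) =
      algebraMap B (LocB B f) (algebraMap A B a) := by
  rw [← IsScalarTower.algebraMap_apply A (Localization.Away f) (LocB B f),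
    IsScalarTower.algebraMap_apply A B (LocB B f)]

theorem iotaB_eq_zero_iff (b : B) :
    algebraMap B (LocB B f) b = 0 ↔ ∃ n : ℕ, algebraMap A B (f ^ n) * b = 0 := by
  rw [IsLocalization.map_eq_zero_iff (Algebra.algebraMapSubmonoid B (Submonoid.powers f))]
  constructor
  · rintro ⟨⟨m, hm⟩, h⟩
    obtain ⟨x, ⟨n, rfl⟩, rfl⟩ := hm
    exact ⟨n, h⟩
  · rintro ⟨n, h⟩
    exact ⟨⟨algebraMap A B (f ^ n),
      Algebra.mem_algebraMapSubmonoid_of_mem (⟨f ^ n, n, rfl⟩ : Submonoid.powers f)⟩, h⟩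

theorem iotaA_eq_zero_iff (a : A) :
    algebraMap A (Localization.Away f) a = 0 ↔ ∃ n : ℕ, f ^ n * a = 0 := by
  rw [IsLocalization.map_eq_zero_iff (Submonoid.powers f)]
  constructor
  · rintro ⟨⟨m, n, rfl⟩, h⟩
    exact ⟨n, h⟩
  · rintro ⟨n, h⟩
    exact ⟨⟨f ^ n, n, rfl⟩, h⟩

theorem bijective_of_elementary
    (hinj : ∀ a : A, (∃ m : ℕ, algebraMap A B (f ^ m) * algebraMap A B a = 0) →
      ∃ n : ℕ, f ^ n * a = 0)
    (hsurj : ∀ b : B, ∃ (N : ℕ) (b₀ : A) (M : ℕ),
      algebraMap A B (f ^ M) * (algebraMap A B b₀ - algebraMap A B (f ^ N) * b) = 0) :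
    Function.Bijective (algebraMap (Localization.Away f) (LocB B f)) := by
  have hunit : ∀ n : ℕ, IsUnit (algebraMap A (Localization.Away f) (f ^ n)) := fun n =>
    IsLocalization.map_units (Localization.Away f) (⟨f ^ n, n, rfl⟩ : Submonoid.powers f)
  constructor
  · rw [injective_iff_map_eq_zero]
    intro x hx
    obtain ⟨⟨a, ⟨_, ⟨n, rfl⟩⟩⟩, hxa⟩ := IsLocalization.surj (Submonoid.powers f) x
    simp only at hxa
    have h1 : algebraMap B (LocB B f) (algebraMap A B a) = 0 := by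
      rw [← phi_iota, ← hxa, map_mul, hx, zero_mul]
    obtain ⟨m, hm⟩ := (iotaB_eq_zero_iff B f _).1 h1
    obtain ⟨n', hn'⟩ := hinj a ⟨m, hm⟩
    have h2 : algebraMap A (Localization.Away f) a = 0 := (iotaA_eq_zero_iff f a).2 ⟨n', hn'⟩
    rw [h2] at hxa
    exact (hunit n).mul_left_eq_zero.1 hxa
  · intro z
    obtain ⟨⟨b, ⟨s, hs⟩⟩, hzb⟩ :=
      IsLocalization.surj (Algebra.algebraMapSubmonoid B (Submonoid.powers f)) z
    obtain ⟨_, ⟨n, rfl⟩, rfl⟩ := hs
    simp only at hzb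
    obtain ⟨N, b₀, M, hb⟩ := hsurj b
    have h1 : algebraMap B (LocB B f) (algebraMap A B b₀ - algebraMap A B (f ^ N) * b) = 0 :=
      (iotaB_eq_zero_iff B f _).2 ⟨M, hb⟩
    rw [map_sub, map_mul, sub_eq_zero, ← phi_iota, ← phi_iota] at h1
    rw [← phi_iota] at hzb
    obtain ⟨v, hv⟩ := (hunit N).exists_left_inv
    obtain ⟨w, hw⟩ := (hunit n).exists_left_inv
    refine ⟨algebraMap A _ b₀ * v * w, ?_⟩
    have hv' : algebraMap (Localization.Away f) (LocB B f) v *
        algebraMap (Localization.Away f) (LocB B f) (algebraMap A _ (f ^ N)) = 1 := by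
      rw [← map_mul, hv, map_one]
    have hw' : algebraMap (Localization.Away f) (LocB B f) w *
        algebraMap (Localization.Away f) (LocB B f) (algebraMap A _ (f ^ n)) = 1 := by
      rw [← map_mul, hw, map_one]
    rw [map_mul, map_mul, h1]
    linear_combination (algebraMap B (LocB B f) b *
      algebraMap (Localization.Away f) (LocB B f) w) * hv' + z * hw' -
      (algebraMap (Localization.Away f) (LocB B f) w) * hzb

theorem exists_datum (e : Localization.Away f) (he : IsIdempotentElem e)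
    (hloc : IsLocalization.Away e (LocB B f)) :
    ∃ (u : A) (k : ℕ),
      (∃ n : ℕ, algebraMap A B (f ^ n) * algebraMap A B u = 0) ∧
      (∀ a : A, (∃ n : ℕ, algebraMap A B (f ^ n) * algebraMap A B a = 0) →
        ∃ m : ℕ, f ^ m * (a * f ^ k - u * a) = 0) ∧
      (∀ c : B, ∃ (n : ℕ) (a : A) (m : ℕ),
        algebraMap A B (f ^ m) * (algebraMap A B (f ^ n) * c - algebraMap A B a) = 0) := by
  haveI := hloc
  have hφe : algebraMap (Localization.Away f) (LocB B f) e = 1 := by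
    have hu : IsUnit (algebraMap (Localization.Away f) (LocB B f) e) :=
      IsLocalization.Away.algebraMap_isUnit e
    have hid : algebraMap (Localization.Away f) (LocB B f) e *
        algebraMap (Localization.Away f) (LocB B f) e =
        algebraMap (Localization.Away f) (LocB B f) e * 1 := by
      rw [← map_mul, he.eq, mul_one]
    exact hu.mul_left_cancel hid
  have hker : ∀ x : Localization.Away f,
      algebraMap (Localization.Away f) (LocB B f) x = 0 → e * x = 0 := by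
    intro x hx
    obtain ⟨⟨m, ⟨n, rfl⟩⟩, hm⟩ :=
      (IsLocalization.map_eq_zero_iff (Submonoid.powers e) (LocB B f) x).1 hx
    simp only at hm
    cases n with
    | zero => rw [pow_zero, one_mul] at hm; rw [hm, mul_zero]
    | succ n => rwa [he.pow_succ_eq] at hm
  have hsurjφ : Function.Surjective (algebraMap (Localization.Away f) (LocB B f)) :=
    IsLocalization.Away.algebraMap_surjective_of_isIdempotentElem e he
  obtain ⟨⟨u, ⟨_, ⟨k, rfl⟩⟩⟩, hu⟩ := IsLocalization.surj (Submonoid.powers f) (1 - e)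
  simp only at hu
  refine ⟨u, k, ?_, ?_, ?_⟩
  · have h1 : algebraMap B (LocB B f) (algebraMap A B u) = 0 := by
      rw [← phi_iota, ← hu, map_mul, map_sub, map_one, hφe, sub_self, zero_mul]
    exact (iotaB_eq_zero_iff B f _).1 h1
  · intro a ha
    have h1 : algebraMap (Localization.Away f) (LocB B f) (algebraMap A _ a) = 0 := by
      rw [phi_iota]
      obtain ⟨n, hn⟩ := ha
      exact (iotaB_eq_zero_iff B f _).2 ⟨n, hn⟩
    have h2 := hker _ h1
    have h3 : algebraMap A (Localization.Away f) (a * f ^ k - u * a) = 0 := by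
      rw [map_sub, map_mul, map_mul, ← hu]
      linear_combination (algebraMap A (Localization.Away f) (f ^ k)) * h2
    exact (iotaA_eq_zero_iff f _).1 h3
  · intro c
    obtain ⟨x, hx⟩ := hsurjφ (algebraMap B (LocB B f) c)
    obtain ⟨⟨a, ⟨_, ⟨n, rfl⟩⟩⟩, hxa⟩ := IsLocalization.surj (Submonoid.powers f) x
    simp only at hxa
    have h1 : algebraMap B (LocB B f) (algebraMap A B (f ^ n) * c - algebraMap A B a) = 0 := by
      rw [map_sub, map_mul, ← phi_iota, ← phi_iota, ← hxa, map_mul, hx]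
      ring
    obtain ⟨m, hm⟩ := (iotaB_eq_zero_iff B f _).1 h1
    exact ⟨n, a, m, hm⟩

end generic

section elementary

variable {A : Type u} [CommRing A]

/-- Elementary data describing the idempotent `1 - e = u / f ^ k`. -/
structure Datum (C : Type v) [CommRing C] [Algebra A C] (f : A) (u : A) (k : ℕ) : Prop where
  hu : ∃ n : ℕ, algebraMap A C (f ^ n) * algebraMap A C u = 0
  hker : ∀ a : A, (∃ n : ℕ, algebraMap A C (f ^ n) * algebraMap A C a = 0) →
    ∃ m : ℕ, f ^ m * (a * f ^ k - u * a) = 0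
  hsurj : ∀ c : C, ∃ (n : ℕ) (a : A) (m : ℕ),
    algebraMap A C (f ^ m) * (algebraMap A C (f ^ n) * c - algebraMap A C a) = 0

variable {C : Type v} [CommRing C] [Algebra A C]

theorem stepA {f g : A} {ug : A} {kg : ℕ} (hg : Datum C g ug kg) {a : A}
    (ha : ∃ n : ℕ, algebraMap A C ((f * g) ^ n) * algebraMap A C a = 0) :
    ∃ M : ℕ, (f * g) ^ M * (a * g ^ kg - ug * a) = 0 := by
  obtain ⟨n, hn⟩ := ha
  have h1 : ∃ n' : ℕ, algebraMap A C (g ^ n') * algebraMap A C (f ^ n * a) = 0 := by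
    refine ⟨n, ?_⟩
    rw [← map_mul] at hn ⊢
    rw [← hn]
    congr 1
    ring
  obtain ⟨m, hm⟩ := hg.hker _ h1
  refine ⟨m + n, ?_⟩
  rw [mul_pow, pow_add, pow_add]
  linear_combination (f ^ m * g ^ n) * hm

theorem compat {f g : A} {uf ug : A} {kf kg : ℕ} (hf : Datum C f uf kf)
    (hg : Datum C g ug kg) :
    ∃ M : ℕ, (f * g) ^ M * (uf * g ^ kg - ug * f ^ kf) = 0 := by
  have hNf : ∃ n : ℕ, algebraMap A C ((f * g) ^ n) * algebraMap A C uf = 0 := by
    obtain ⟨n, hn⟩ := hf.hu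
    refine ⟨n, ?_⟩
    rw [mul_pow, map_mul]
    linear_combination (algebraMap A C (g ^ n)) * hn
  have hNg : ∃ n : ℕ, algebraMap A C ((g * f) ^ n) * algebraMap A C ug = 0 := by
    obtain ⟨n, hn⟩ := hg.hu
    refine ⟨n, ?_⟩
    rw [mul_pow, map_mul]
    linear_combination (algebraMap A C (f ^ n)) * hn
  obtain ⟨M1, h1⟩ := stepA (f := f) hg hNf
  obtain ⟨M2, h2⟩ := stepA (f := g) hf hNg
  rw [mul_comm g f] at h2
  refine ⟨M1 + M2, ?_⟩
  rw [pow_add]
  linear_combination (f * g) ^ M2 * h1 - (f * g) ^ M1 * h2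

/-- The ideal cutting out the complement. -/
def Kideal (s : Finset A) (u : A → A) : Ideal A where
  carrier := {a | ∀ g ∈ s, ∃ m : ℕ, g ^ m * (u g * a) = 0}
  add_mem' := by
    intro a b ha hb g hg
    obtain ⟨m1, h1⟩ := ha g hg
    obtain ⟨m2, h2⟩ := hb g hg
    refine ⟨m1 + m2, ?_⟩
    rw [pow_add]
    linear_combination g ^ m2 * h1 + g ^ m1 * h2
  zero_mem' := fun g _ => ⟨0, by simp⟩
  smul_mem' := by
    intro r a ha g hg
    obtain ⟨m, h1⟩ := ha g hg
    exact ⟨m, by rw [smul_eq_mul]; linear_combination r * h1⟩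

theorem mem_Kideal {s : Finset A} {u : A → A} {a : A} :
    a ∈ Kideal s u ↔ ∀ g ∈ s, ∃ m : ℕ, g ^ m * (u g * a) = 0 := Iff.rfl

variable (I : Ideal A) (s : Finset A) (hs : Ideal.span (s : Set A) = I) (u : A → A) (k : A → ℕ)
  (hD : ∀ f ∈ I, Datum C f (u f) (k f))
include hs hD

theorem sub_lemma {f : A} (hf : f ∈ I) {a : A} (ha : a ∈ Kideal s u) :
    ∃ m : ℕ, f ^ m * (u f * a) = 0 := by
  have hsI : ∀ g ∈ s, g ∈ I := fun g hg => hs ▸ Ideal.subset_span hg
  have h1 : ∀ g ∈ s, ∃ m : ℕ, (f * g) ^ m * (u f * a) = 0 := by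
    intro g hg
    obtain ⟨M, hM⟩ := compat (hD f hf) (hD g (hsI g hg))
    obtain ⟨m', hm'⟩ := (mem_Kideal.1 ha) g hg
    refine ⟨M + (k g + m'), ?_⟩
    rw [pow_add, mul_pow f g (k g + m'), pow_add g]
    linear_combination (f ^ (k g + m') * g ^ m' * a) * hM +
      ((f * g) ^ M * f ^ (k g + m') * f ^ k f) * hm'
  let Ann : Ideal (Localization.Away f) :=
    LinearMap.ker (LinearMap.toSpanSingleton (Localization.Away f) (Localization.Away f)
      (algebraMap A (Localization.Away f) (u f * a)))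
  have hmemAnn : ∀ r, r ∈ Ann ↔ r * algebraMap A (Localization.Away f) (u f * a) = 0 :=
    fun r => by
      simp only [Ann, LinearMap.mem_ker, LinearMap.toSpanSingleton_apply, smul_eq_mul]
  have h2 : I ≤ Ideal.comap (algebraMap A (Localization.Away f)) Ann.radical := by
    rw [← hs, Ideal.span_le]
    intro g hg
    obtain ⟨m, hm⟩ := h1 g hg
    show algebraMap A (Localization.Away f) g ∈ Ann.radical
    refine ⟨m, ?_⟩
    rw [hmemAnn]
    have h0 : algebraMap A (Localization.Away f) (g ^ m * (u f * a)) = 0 :=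
      (iotaA_eq_zero_iff f _).2 ⟨m, by linear_combination hm⟩
    rw [← map_pow, ← map_mul]
    exact h0
  obtain ⟨m, hm⟩ := h2 hf
  rw [hmemAnn] at hm
  have hunit : IsUnit ((algebraMap A (Localization.Away f) f) ^ m) :=
    (IsLocalization.map_units (Localization.Away f)
      (⟨f, Submonoid.mem_powers f⟩ : Submonoid.powers f)).pow m
  have hx' : algebraMap A (Localization.Away f) (u f * a) = 0 := hunit.mul_right_eq_zero.1 hm
  exact (iotaA_eq_zero_iff f _).1 hx'

theorem sup_lemma {f : A} (hf : f ∈ I) {y : A} (hy : ∃ m : ℕ, f ^ m * (u f * y) = 0) :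
    ∃ M : ℕ, f ^ M * y ∈ Kideal s u := by
  classical
  have hsI : ∀ g ∈ s, g ∈ I := fun g hg => hs ▸ Ideal.subset_span hg
  obtain ⟨m, hm⟩ := hy
  have hstep : ∀ g : A, ∃ Mg mg : ℕ, g ∈ s → g ^ mg * (u g * (f ^ Mg * y)) = 0 := by
    intro g
    by_cases hg : g ∈ s
    · obtain ⟨M, hM⟩ := compat (hD f hf) (hD g (hsI g hg))
      refine ⟨m + M + k f, M, fun _ => ?_⟩
      rw [pow_add, pow_add]
      linear_combination (-(f ^ m * y)) * hM + ((f * g) ^ M * g ^ (k g)) * hm
    · exact ⟨0, 0, fun h => absurd h hg⟩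
  choose Mg mg hstep using hstep
  refine ⟨s.sup Mg, ?_⟩
  rw [mem_Kideal]
  intro g hg
  refine ⟨mg g, ?_⟩
  have hle : Mg g ≤ s.sup Mg := Finset.le_sup hg
  obtain ⟨d, hd⟩ := Nat.exists_eq_add_of_le hle
  rw [hd, pow_add]
  linear_combination (f ^ d) * hstep g hg

end elementary

theorem main_S9303 (A : Type u) [CommRing A]
    (I : Ideal A) (hI : I.FG) (C : Type u) [CommRing C] [Algebra A C]
    (h : ∀ f ∈ I, ∃ e : Localization.Away f, IsIdempotentElem e ∧
      IsLocalization.Away e (Localization (Algebra.algebraMapSubmonoid C (Submonoid.powers f)))) :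
    ∃ K : Ideal A, ∀ f ∈ I, Function.Bijective
      (algebraMap (Localization.Away f)
        (Localization (Algebra.algebraMapSubmonoid (C × (A ⧸ K)) (Submonoid.powers f)))) := by
  classical
  obtain ⟨s, hs⟩ := hI
  have key : ∀ f : A, ∃ (u : A) (k : ℕ), f ∈ I → Datum C f u k := by
    intro f
    by_cases hf : f ∈ I
    · obtain ⟨e, he, hloc⟩ := h f hf
      obtain ⟨u, k, h1, h2, h3⟩ := exists_datum C f e he hloc
      exact ⟨u, k, fun _ => ⟨h1, h2, h3⟩⟩
    · exact ⟨0, 0, fun h' => absurd h' hf⟩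
  choose u k hD using key
  refine ⟨Kideal s u, fun f hf => ?_⟩
  have hDf := hD f hf
  apply bijective_of_elementary (C × (A ⧸ Kideal s u)) f
  · rintro a ⟨m, hm⟩
    simp only [Prod.algebraMap_apply, Prod.mk_mul_mk, Prod.mk_eq_zero] at hm
    obtain ⟨hm1, hm2⟩ := hm
    rw [← map_mul, Ideal.Quotient.algebraMap_eq, Ideal.Quotient.eq_zero_iff_mem] at hm2
    obtain ⟨m1, h1⟩ := hDf.hker a ⟨m, hm1⟩
    obtain ⟨m2, h2⟩ := sub_lemma I s hs u k hD hf hm2
    refine ⟨m1 + m2 + m + k f, ?_⟩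
    rw [pow_add, pow_add, pow_add]
    linear_combination (f ^ m2 * f ^ m) * h1 + (f ^ m1) * h2
  · rintro ⟨c, q⟩
    obtain ⟨a, rfl⟩ := Ideal.Quotient.mk_surjective q
    obtain ⟨n₁, a₁, m₁, h1⟩ := hDf.hsurj c
    obtain ⟨nu, hnu⟩ := hDf.hu
    have hy : ∃ m : ℕ, f ^ m * (u f * ((f ^ k f - u f) * (a₁ - a * f ^ n₁))) = 0 := by
      obtain ⟨m, hm⟩ := hDf.hker (u f) ⟨nu, hnu⟩
      exact ⟨m, by linear_combination (a₁ - a * f ^ n₁) * hm⟩
    obtain ⟨M₂, hM₂⟩ := sup_lemma I s hs u k hD hf hy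
    refine ⟨k f + n₁, (f ^ k f - u f) * a₁ + u f * a * f ^ n₁, m₁ + nu + M₂, ?_⟩
    simp only [Prod.algebraMap_apply, Prod.mk_mul_mk, Prod.mk_sub_mk, Prod.mk_eq_zero]
    refine ⟨?_, ?_⟩
    · simp only [map_pow] at h1 hnu
      simp only [map_add, map_sub, map_mul, map_pow]
      linear_combination (-((algebraMap A C f) ^ (nu + M₂) * (algebraMap A C f) ^ (k f))) * h1 +
        ((algebraMap A C f) ^ (m₁ + M₂) *
          (algebraMap A C a * (algebraMap A C f) ^ n₁ - algebraMap A C a₁)) * hnu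
    · rw [Ideal.Quotient.algebraMap_eq, ← map_mul, ← map_sub, ← map_mul,
        Ideal.Quotient.eq_zero_iff_mem]
      have hring : f ^ (m₁ + nu + M₂) * ((f ^ k f - u f) * a₁ + u f * a * f ^ n₁ -
          f ^ (k f + n₁) * a) =
          f ^ (m₁ + nu) * (f ^ M₂ * ((f ^ k f - u f) * (a₁ - a * f ^ n₁))) := by ring
      rw [hring]
      exact Ideal.mul_mem_left _ _ hM₂

end Groth.Agent.Lib.LocIdem
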