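import Groth.Agent.Lib.LocImm2_helper6

set_option autoImplicit false
universe u
open CategoryTheory CategoryTheory.Limits AlgebraicGeometry TopologicalSpace

namespace Groth.Agent.Lib.LocImm3_helper6

open LocImm Groth.Agent.Lib.LocImm_helper6 Groth.Agent.Lib.LocImm2_helper6

theorem isLocHom_of_localization_away {A A' B T : Type u} [CommRing A] [CommRing A']
    [CommRing B] [CommRing T]
    (φ : A →+* B) (ρ : A →+* A') (σ : B →+* T) (ψ : A' →+* T) (hcomm : ψ.comp ρ = σ.comp φ)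
    (hφ : IsLocHom φ) (a : A) (hρ : @IsLocalization.Away _ _ a A' _ ρ.toAlgebra)
    (hσ : @IsLocalization.Away _ _ (φ a) T _ σ.toAlgebra) : IsLocHom ψ := by
  letI := φ.toAlgebra
  letI := ρ.toAlgebra
  letI := σ.toAlgebra
  letI := ψ.toAlgebra
  letI : Algebra A T := (σ.comp φ).toAlgebra
  haveI : IsScalarTower A B T := IsScalarTower.of_algebraMap_eq' rfl
  haveI : IsScalarTower A A' T := IsScalarTower.of_algebraMap_eq' hcomm.symm
  obtain ⟨S, hS⟩ := hφ
  haveI := hS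
  haveI : IsLocalization (Submonoid.powers a) A' := hρ
  haveI : IsLocalization (Submonoid.powers (algebraMap A B a)) T := hσ
  let N := IsLocalization.localizationLocalizationSubmodule S (Submonoid.powers (algebraMap A B a))
  haveI : IsLocalization N T := IsLocalization.localization_localization_isLocalization S _ T
  have hle : Submonoid.powers a ≤ N := by
    rw [Submonoid.powers_le]
    show algebraMap A B a ∈ (Submonoid.powers (algebraMap A B a) ⊔ S.map (algebraMap A B))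
    exact Submonoid.mem_sup_left (Submonoid.mem_powers _)
  exact ⟨N.map (algebraMap A A'),
    IsLocalization.isLocalization_of_submonoid_le A' T (Submonoid.powers a) N hle⟩

theorem exists_affine_nhd_of_isLocImmersion {X Y : Scheme.{u}} [IsNoetherian X] (f : X ⟶ Y)
    (hf : IsLocImmersion f) (x : X) :
    ∃ V : Y.Opens, f x ∈ V ∧ IsAffineOpen V ∧ IsAffineOpen (f ⁻¹ᵁ V) ∧
      IsLocHom (f.app V).hom := by
  haveI hflat := flat_of_isLocalizing f hf.1
  obtain ⟨U, V', hxV', e, hloc⟩ := hf.1 x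
  let Z : Set X := (V'.1 : Set X)ᶜ
  have hZ : IsClosed Z := V'.1.2.isClosed_compl
  have hfx : f x ∉ closure ((fun x => f x) '' Z) := fun h =>
    (mem_of_mem_closure_image (fun x => f x) f.continuous hf.2 (Flat.generalizingMap f) hZ h) hxV'
  let O : Y.Opens := ⟨(closure ((fun x => f x) '' Z))ᶜ, isClosed_closure.isOpen_compl⟩
  have hfxO : f x ∈ O := hfx
  have hfxU : f x ∈ U.1 := e hxV'
  obtain ⟨a, ha1, ha2⟩ := U.2.exists_basicOpen_le (V := U.1 ⊓ O) ⟨f x, ⟨hfxU, hfxO⟩⟩ hfxU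
  have hWU : Y.basicOpen a ≤ U.1 := Y.basicOpen_le a
  have hWO : Y.basicOpen a ≤ O := ha1.trans inf_le_right
  have hpre : f ⁻¹ᵁ (Y.basicOpen a) ≤ V'.1 := by
    intro x' hx'
    by_contra hx'V
    have : f x' ∈ O := hWO hx'
    exact this (subset_closure ⟨x', hx'V, rfl⟩)
  let b : Γ(X, V'.1) := (f.appLE U.1 V'.1 e).hom a
  have hb : f ⁻¹ᵁ (Y.basicOpen a) = X.basicOpen b := by
    have h1 : X.basicOpen b = V'.1 ⊓ X.basicOpen ((f.app U.1).hom a) :=
      Scheme.basicOpen_res _ _ _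
    rw [h1, ← Scheme.preimage_basicOpen]
    exact (inf_eq_right.mpr hpre).symm
  refine ⟨Y.basicOpen a, ha2, U.2.basicOpen a, ?_, ?_⟩
  · rw [hb]; exact V'.2.basicOpen b
  · refine isLocHom_of_localization_away (f.appLE U.1 V'.1 e).hom
      (Y.presheaf.map (homOfLE hWU).op).hom
      (X.presheaf.map (homOfLE hpre).op).hom (f.app (Y.basicOpen a)).hom ?_ hloc a ?_ ?_
    · have : Y.presheaf.map (homOfLE hWU).op ≫ f.app (Y.basicOpen a) =
          f.appLE U.1 V'.1 e ≫ X.presheaf.map (homOfLE hpre).op := by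
        rw [Scheme.Hom.app_eq_appLE, Scheme.Hom.map_appLE, Scheme.Hom.appLE_map]
      have h2 := congrArg CommRingCat.Hom.hom this
      simpa only [CommRingCat.hom_comp] using h2
    · exact U.2.isLocalization_of_eq_basicOpen a (homOfLE hWU) rfl
    · exact V'.2.isLocalization_of_eq_basicOpen b (homOfLE hpre) hb

theorem isLocImmersion_of_forall_exists {X Y : Scheme.{u}} (f : X ⟶ Y)
    (h : ∀ x : X, ∃ V : Y.Opens, f x ∈ V ∧ IsAffineOpen V ∧ IsAffineOpen (f ⁻¹ᵁ V) ∧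
      IsLocHom (f.app V).hom) : IsLocImmersion f := by
  constructor
  · intro x
    obtain ⟨V, hxV, hV, hV', hloc⟩ := h x
    refine ⟨⟨V, hV⟩, ⟨f ⁻¹ᵁ V, hV'⟩, hxV, le_rfl, ?_⟩
    show IsLocHom (f.appLE V (f ⁻¹ᵁ V) le_rfl).hom
    rw [Scheme.Hom.appLE_eq_app]
    exact hloc
  · intro x x' hxx'
    obtain ⟨V, hxV, hV, hV', hloc⟩ := h x
    have hloc' : IsLocHom (f.appLE V (f ⁻¹ᵁ V) le_rfl).hom := by
      rw [Scheme.Hom.appLE_eq_app]; exact hloc
    haveI := mono_ι_comp_of_isLocHom f ⟨V, hV⟩ ⟨f ⁻¹ᵁ V, hV'⟩ le_rfl hloc'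
    have hx : x ∈ f ⁻¹ᵁ V := hxV
    have hx' : x' ∈ f ⁻¹ᵁ V := by
      show f x' ∈ V
      have : f x' = f x := hxx'.symm
      rw [this]; exact hxV
    have key : ((f ⁻¹ᵁ V).ι ≫ f) ⟨x, hx⟩ = ((f ⁻¹ᵁ V).ι ≫ f) ⟨x', hx'⟩ := hxx'
    have := ((f ⁻¹ᵁ V).ι ≫ f).injective key
    exact congrArg Subtype.val this

end Groth.Agent.Lib.LocImm3_helper6
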