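import Mathlib
import Groth.Agent.Lib.LocImm9_helper6
import Groth.Agent.Lib.LocImm3_helper6

/-!
# Localizing morphisms and open immersions (helper6)
-/

set_option autoImplicit false
set_option linter.all false
set_option backward.isDefEq.respectTransparency false
universe u
open TopologicalSpace CategoryTheory CategoryTheory.Limits AlgebraicGeometry

namespace Groth.Agent.Lib.LocImm11_helper6

open LocImm Groth.Agent.Lib.LocImm9_helper6

section Ring

variable {A B C : Type u} [CommRing A] [CommRing B] [CommRing C]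

/-- precomposing a localizing ring map with a ring isomorphism -/
theorem isLocHom_comp_bijective_left (e : A →+* B) (φ : B →+* C) (he : Function.Bijective e)
    (hφ : IsLocHom φ) : IsLocHom (φ.comp e) := by
  letI := φ.toAlgebra
  letI := (φ.comp e).toAlgebra
  obtain ⟨S, hS⟩ := hφ
  haveI := hS
  refine ⟨S.comap e, ?_⟩
  refine ⟨⟨?_, ?_, ?_⟩⟩
  · rintro ⟨a, ha⟩
    exact IsLocalization.map_units C (⟨e a, ha⟩ : S)
  · intro z
    obtain ⟨⟨b, s⟩, h⟩ := IsLocalization.surj S z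
    obtain ⟨a, rfl⟩ := he.2 b
    obtain ⟨t, ht⟩ := he.2 s.1
    refine ⟨⟨a, ⟨t, ?_⟩⟩, ?_⟩
    · show e t ∈ S
      rw [ht]; exact s.2
    · show z * φ (e t) = φ (e a)
      rw [ht]; exact h
  · intro a₁ a₂ h12
    have h' : algebraMap B C (e a₁) = algebraMap B C (e a₂) := h12
    obtain ⟨c, hc⟩ := (IsLocalization.eq_iff_exists S C).mp h'
    obtain ⟨t, ht⟩ := he.2 c.1
    refine ⟨⟨t, ?_⟩, ?_⟩
    · show e t ∈ S
      rw [ht]; exact c.2
    · apply he.1
      show e (t * a₁) = e (t * a₂)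
      rw [map_mul, map_mul, ht]; exact hc

theorem isLocHom_of_comp_bijective (φ : A →+* B) (ψ : B →+* C) (hψ : Function.Bijective ψ)
    (h : IsLocHom (ψ.comp φ)) : IsLocHom φ := by
  let E : B ≃+* C := RingEquiv.ofBijective ψ hψ
  have h1 := isLocHom_comp_of_bijective (ψ.comp φ) (E.symm : C →+* B) E.symm.bijective h
  have h2 : (E.symm : C →+* B).comp (ψ.comp φ) = φ := by
    ext a
    show E.symm (E (φ a)) = φ a
    exact E.symm_apply_apply _
  rwa [h2] at h1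

theorem isLocHom_of_comp_bijective_left (e : A →+* B) (φ : B →+* C) (he : Function.Bijective e)
    (h : IsLocHom (φ.comp e)) : IsLocHom φ := by
  let E : A ≃+* B := RingEquiv.ofBijective e he
  have h1 := isLocHom_comp_bijective_left (E.symm : B →+* A) (φ.comp e) E.symm.bijective h
  have h2 : (φ.comp e).comp (E.symm : B →+* A) = φ := by
    ext b
    show φ (E (E.symm b)) = φ b
    rw [E.apply_symm_apply]
  rwa [h2] at h1

/-- a localization of a localization is a localization -/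
theorem isLocHom_comp_away (φ : A →+* B) (hφ : IsLocHom φ) (σ : B →+* C) (b : B)
    (hσ : @IsLocalization.Away _ _ b C _ σ.toAlgebra) : IsLocHom (σ.comp φ) := by
  letI := φ.toAlgebra
  letI := σ.toAlgebra
  letI : Algebra A C := (σ.comp φ).toAlgebra
  haveI : IsScalarTower A B C := IsScalarTower.of_algebraMap_eq' rfl
  obtain ⟨S, hS⟩ := hφ
  haveI := hS
  haveI : IsLocalization (Submonoid.powers b) C := hσ
  exact ⟨IsLocalization.localizationLocalizationSubmodule S (Submonoid.powers b),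
    IsLocalization.localization_localization_isLocalization S _ C⟩

end Ring

section Scheme

variable {X Y Z : Scheme.{u}}

/-- post-composition with an open immersion -/
theorem isLocalizing_comp_openImmersion (f : X ⟶ Y) (j : Y ⟶ Z) [IsOpenImmersion j]
    (hf : IsLocalizing f) : IsLocalizing (f ≫ j) := by
  intro x
  obtain ⟨U, V, hxV, e, hloc⟩ := hf x
  have e' : V.1 ≤ (f ≫ j) ⁻¹ᵁ (j ''ᵁ U.1) := fun v hv => ⟨f v, e hv, rfl⟩
  refine ⟨⟨j ''ᵁ U.1, U.2.image_of_isOpenImmersion j⟩, V, hxV, e', ?_⟩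
  have h1 : (f ≫ j).appLE (j ''ᵁ U.1) V.1 e' =
      j.appLE (j ''ᵁ U.1) U.1 (j.preimage_image_eq U.1).ge ≫ f.appLE U.1 V.1 e := by
    rw [Scheme.Hom.appLE_comp_appLE]
  show IsLocHom ((f ≫ j).appLE (j ''ᵁ U.1) V.1 e').hom
  rw [h1, CommRingCat.hom_comp, ← Scheme.Hom.appIso_hom']
  exact isLocHom_comp_bijective_left _ _
    (ConcreteCategory.bijective_of_isIso (j.appIso U.1).hom) hloc

theorem isLocImmersion_comp_openImmersion (f : X ⟶ Y) (j : Y ⟶ Z) [IsOpenImmersion j]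
    (hf : IsLocImmersion f) : IsLocImmersion (f ≫ j) :=
  ⟨isLocalizing_comp_openImmersion f j hf.1, fun x x' h => hf.2 (j.isOpenEmbedding.injective h)⟩

/-- `IsLocalizing` is local on the source -/
theorem isLocalizing_of_openCover (f : X ⟶ Y)
    (H : ∀ x : X, ∃ (X' : Scheme.{u}) (j : X' ⟶ X) (_ : IsOpenImmersion j),
      x ∈ Set.range j ∧ IsLocalizing (j ≫ f)) : IsLocalizing f := by
  intro x
  obtain ⟨X', j, hj, ⟨x', rfl⟩, hloc⟩ := H x
  obtain ⟨U, V, hxV, e, hloc⟩ := hloc x'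
  have e' : j ''ᵁ V.1 ≤ f ⁻¹ᵁ U.1 := by
    rintro _ ⟨v, hv, rfl⟩
    exact e hv
  refine ⟨U, ⟨j ''ᵁ V.1, V.2.image_of_isOpenImmersion j⟩, ⟨x', hxV, rfl⟩, e', ?_⟩
  have h1 : (j ≫ f).appLE U.1 V.1 e =
      f.appLE U.1 (j ''ᵁ V.1) e' ≫ j.appLE (j ''ᵁ V.1) V.1 (j.preimage_image_eq V.1).ge := by
    rw [Scheme.Hom.appLE_comp_appLE]
  rw [h1, CommRingCat.hom_comp, ← Scheme.Hom.appIso_hom'] at hloc
  exact isLocHom_of_comp_bijective _ _
    (ConcreteCategory.bijective_of_isIso (j.appIso V.1).hom) hloc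

/-- pre-composition with an open immersion -/
theorem isLocalizing_openImmersion_comp (j : X ⟶ Y) [IsOpenImmersion j] (f : Y ⟶ Z)
    (hf : IsLocalizing f) : IsLocalizing (j ≫ f) := by
  intro x
  obtain ⟨U, V, hxV, e, hloc⟩ := hf (j x)
  obtain ⟨b, hb1, hb2⟩ := V.2.exists_basicOpen_le (V := V.1 ⊓ j.opensRange)
    ⟨j x, ⟨hxV, ⟨x, rfl⟩⟩⟩ hxV
  have hDV : Y.basicOpen b ≤ V.1 := Y.basicOpen_le b
  have hDr : Y.basicOpen b ≤ j.opensRange := hb1.trans inf_le_right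
  have e1 : Y.basicOpen b ≤ f ⁻¹ᵁ U.1 := hDV.trans e
  have hloc1 : IsLocHom (f.appLE U.1 (Y.basicOpen b) e1).hom := by
    have h1 : f.appLE U.1 (Y.basicOpen b) e1 =
        f.appLE U.1 V.1 e ≫ Y.presheaf.map (homOfLE hDV).op := by
      rw [Scheme.Hom.appLE_map]
    rw [h1, CommRingCat.hom_comp]
    exact isLocHom_comp_away _ hloc _ b (V.2.isLocalization_of_eq_basicOpen b (homOfLE hDV) rfl)
  have e' : j ⁻¹ᵁ (Y.basicOpen b) ≤ (j ≫ f) ⁻¹ᵁ U.1 := fun v hv => e1 hv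
  refine ⟨U, ⟨j ⁻¹ᵁ (Y.basicOpen b), (V.2.basicOpen b).preimage_of_isOpenImmersion j hDr⟩,
    hb2, e', ?_⟩
  have h2 : (j ≫ f).appLE U.1 (j ⁻¹ᵁ (Y.basicOpen b)) e' =
      f.appLE U.1 (Y.basicOpen b) e1 ≫ j.app (Y.basicOpen b) := by
    rw [Scheme.Hom.app_eq_appLE, Scheme.Hom.appLE_comp_appLE]
  show IsLocHom ((j ≫ f).appLE U.1 (j ⁻¹ᵁ (Y.basicOpen b)) e').hom
  rw [h2, CommRingCat.hom_comp]
  haveI : IsIso (j.app (Y.basicOpen b)) := Scheme.Hom.isIso_app j _ hDr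
  exact isLocHom_comp_of_bijective _ _
    (ConcreteCategory.bijective_of_isIso (j.app (Y.basicOpen b))) hloc1

theorem isLocImmersion_openImmersion_comp (j : X ⟶ Y) [IsOpenImmersion j] (f : Y ⟶ Z)
    (hf : IsLocImmersion f) : IsLocImmersion (j ≫ f) :=
  ⟨isLocalizing_openImmersion_comp j f hf.1,
    fun x x' h => j.isOpenEmbedding.injective (hf.2 h)⟩

/-- cancelling an open immersion on the right -/
theorem isLocalizing_of_comp_openImmersion (f : X ⟶ Y) (j : Y ⟶ Z) [IsOpenImmersion j]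
    (hf : IsLocalizing (f ≫ j)) : IsLocalizing f := by
  intro x
  obtain ⟨U, V, hxV, e, hloc⟩ := hf x
  have hxU : j (f x) ∈ U.1 := e hxV
  obtain ⟨a, ha1, ha2⟩ := U.2.exists_basicOpen_le (V := U.1 ⊓ j.opensRange)
    ⟨j (f x), ⟨hxU, ⟨f x, rfl⟩⟩⟩ hxU
  have hDU : Z.basicOpen a ≤ U.1 := Z.basicOpen_le a
  have hDr : Z.basicOpen a ≤ j.opensRange := ha1.trans inf_le_right
  let b : Γ(X, V.1) := ((f ≫ j).appLE U.1 V.1 e).hom a
  have hbV : X.basicOpen b ≤ V.1 := X.basicOpen_le b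
  have hb : X.basicOpen b = V.1 ⊓ (f ≫ j) ⁻¹ᵁ (Z.basicOpen a) := by
    have h1 : X.basicOpen b = V.1 ⊓ X.basicOpen (((f ≫ j).app U.1).hom a) :=
      Scheme.basicOpen_res _ _ _
    rw [h1, ← Scheme.preimage_basicOpen]
  have e1 : X.basicOpen b ≤ (f ≫ j) ⁻¹ᵁ (Z.basicOpen a) := by
    rw [hb]; exact inf_le_right
  have hloc1 : IsLocHom ((f ≫ j).appLE (Z.basicOpen a) (X.basicOpen b) e1).hom := by
    refine LocImm3_helper6.isLocHom_of_localization_away ((f ≫ j).appLE U.1 V.1 e).hom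
      (Z.presheaf.map (homOfLE hDU).op).hom (X.presheaf.map (homOfLE hbV).op).hom _ ?_ hloc a
      ?_ ?_
    · have : Z.presheaf.map (homOfLE hDU).op ≫ (f ≫ j).appLE (Z.basicOpen a) (X.basicOpen b) e1 =
          (f ≫ j).appLE U.1 V.1 e ≫ X.presheaf.map (homOfLE hbV).op := by
        rw [Scheme.Hom.map_appLE, Scheme.Hom.appLE_map]
      exact congrArg CommRingCat.Hom.hom this
    · exact U.2.isLocalization_of_eq_basicOpen a (homOfLE hDU) rfl
    · exact V.2.isLocalization_of_eq_basicOpen b (homOfLE hbV) rfl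
  have e2 : X.basicOpen b ≤ f ⁻¹ᵁ (j ⁻¹ᵁ (Z.basicOpen a)) := e1
  have hxb : x ∈ X.basicOpen b := by
    rw [hb]; exact ⟨hxV, ha2⟩
  refine ⟨⟨j ⁻¹ᵁ (Z.basicOpen a), (U.2.basicOpen a).preimage_of_isOpenImmersion j hDr⟩,
    ⟨X.basicOpen b, V.2.basicOpen b⟩, hxb, e2, ?_⟩
  have h2 : (f ≫ j).appLE (Z.basicOpen a) (X.basicOpen b) e1 =
      j.app (Z.basicOpen a) ≫ f.appLE (j ⁻¹ᵁ (Z.basicOpen a)) (X.basicOpen b) e2 :=
    Scheme.Hom.comp_appLE f j _ _ e1
  rw [h2, CommRingCat.hom_comp] at hloc1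
  haveI : IsIso (j.app (Z.basicOpen a)) := Scheme.Hom.isIso_app j _ hDr
  exact isLocHom_of_comp_bijective_left _ _
    (ConcreteCategory.bijective_of_isIso (j.app (Z.basicOpen a))) hloc1

theorem isLocImmersion_of_comp_openImmersion (f : X ⟶ Y) (j : Y ⟶ Z) [IsOpenImmersion j]
    (hf : IsLocImmersion (f ≫ j)) : IsLocImmersion f :=
  ⟨isLocalizing_of_comp_openImmersion f j hf.1, fun x x' h => hf.2 (by
    show j (f x) = j (f x')
    have : f x = f x' := h
    rw [this])⟩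

end Scheme

end Groth.Agent.Lib.LocImm11_helper6
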