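import Mathlib

/-!
# Gluing two schemes along a common open subscheme (helper6)

The pushout of two open immersions `a : W ⟶ A`, `b : W ⟶ B`, via Mathlib's colimits of locally
directed diagrams of open immersions.
-/

set_option autoImplicit false
set_option linter.all false
set_option backward.isDefEq.respectTransparency false
universe u
open TopologicalSpace CategoryTheory CategoryTheory.Limits AlgebraicGeometry

namespace Groth.Agent.Lib.LocImm12_helper6

variable {W A B : Scheme.{u}} (a : W ⟶ A) (b : W ⟶ B) [IsOpenImmersion a] [IsOpenImmersion b]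

instance span_map_isOpenImmersion {i j : WalkingSpan} (f : i ⟶ j) :
    IsOpenImmersion ((span a b).map f) := by
  obtain - | j := f
  · rw [WidePushoutShape.hom_id, CategoryTheory.Functor.map_id]; infer_instance
  · cases j with
    | left => exact inferInstanceAs (IsOpenImmersion a)
    | right => exact inferInstanceAs (IsOpenImmersion b)

instance hasPushout : HasPushout a b :=
  inferInstanceAs (HasColimit (span a b))

instance inl_isOpenImmersion : IsOpenImmersion (pushout.inl a b) :=
  inferInstanceAs (IsOpenImmersion (colimit.ι (span a b) WalkingSpan.left))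

instance inr_isOpenImmersion : IsOpenImmersion (pushout.inr a b) :=
  inferInstanceAs (IsOpenImmersion (colimit.ι (span a b) WalkingSpan.right))

theorem inl_or_inr (y : (pushout a b : Scheme.{u})) :
    (∃ x : A, pushout.inl a b x = y) ∨ (∃ x : B, pushout.inr a b x = y) := by
  obtain ⟨i, xi, h⟩ := Scheme.IsLocallyDirected.ι_jointly_surjective (span a b) y
  cases i with
  | none =>
    left
    refine ⟨a xi, ?_⟩
    have hw : a ≫ pushout.inl a b = colimit.ι (span a b) none :=
      colimit.w (span a b) (WidePushoutShape.Hom.init WalkingPair.left)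
    rw [← h, ← hw, Scheme.Hom.comp_apply]
    rfl
  | some j =>
    cases j with
    | left => exact Or.inl ⟨xi, h⟩
    | right => exact Or.inr ⟨xi, h⟩

theorem inl_eq_inr_iff (x : A) (x' : B) :
    pushout.inl a b x = pushout.inr a b x' ↔ ∃ w : W, a w = x ∧ b w = x' := by
  constructor
  · intro h
    obtain ⟨k, fi, fj, z, h1, h2⟩ :=
      (Scheme.IsLocallyDirected.ι_eq_ι_iff (F := span a b) (i := WalkingSpan.left)
        (j := WalkingSpan.right) (xi := x) (xj := x')).mp h
    obtain - | j := fi
    · obtain - | j' := fj
    · obtain - | j' := fj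
      exact ⟨z, h1, h2⟩
  · rintro ⟨w, rfl, rfl⟩
    rw [← Scheme.Hom.comp_apply, ← Scheme.Hom.comp_apply, pushout.condition]

theorem isPullback : IsPullback a b (pushout.inl a b) (pushout.inr a b) := by
  refine ⟨⟨pushout.condition⟩, ⟨PullbackCone.IsLimit.mk _ (fun s => ?_) (fun s => ?_) (fun s => ?_)
    (fun s m h1 h2 => ?_)⟩⟩
  · refine IsOpenImmersion.lift a s.fst ?_
    rintro _ ⟨t, rfl⟩
    have h : pushout.inl a b (s.fst t) = pushout.inr a b (s.snd t) := by
      rw [← Scheme.Hom.comp_apply, ← Scheme.Hom.comp_apply, s.condition]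
    obtain ⟨w, hw, -⟩ := (inl_eq_inr_iff a b _ _).mp h
    exact ⟨w, hw⟩
  · exact IsOpenImmersion.lift_fac _ _ _
  · rw [← cancel_mono (pushout.inr a b), Category.assoc, ← pushout.condition,
      IsOpenImmersion.lift_fac_assoc, s.condition]
  · rw [← cancel_mono a, IsOpenImmersion.lift_fac]
    exact h1

end Groth.Agent.Lib.LocImm12_helper6
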