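import Mathlib
import Groth.Agent.Lib.LocImm11_helper6
import Groth.Agent.Lib.LocImm12_helper6
import Groth.Agent.Lib.LocImm10_helper6

/-!
# Gluing two factorizations along a common open (helper6)
-/

set_option autoImplicit false
set_option linter.all false
set_option backward.isDefEq.respectTransparency false
universe u
open TopologicalSpace CategoryTheory CategoryTheory.Limits AlgebraicGeometry

namespace Groth.Agent.Lib.LocImm13_helper6

open LocImm Groth.Agent.Lib.LocImm11_helper6 Groth.Agent.Lib.LocImm12_helper6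

section TwoOpens

variable {X Y : Scheme.{u}} (U₁ U₂ : X.Opens) (hU : U₁ ⊔ U₂ = ⊤)

theorem isOpenCover_bool (hU : U₁ ⊔ U₂ = ⊤) :
    IsOpenCover (fun b : Bool => cond b U₁ U₂) := by
  show (⨆ b : Bool, cond b U₁ U₂) = ⊤
  rw [iSup_bool_eq]
  exact hU

include hU in
theorem hom_ext_two (a b : X ⟶ Y) (h₁ : U₁.ι ≫ a = U₁.ι ≫ b) (h₂ : U₂.ι ≫ a = U₂.ι ≫ b) :
    a = b := by
  refine Scheme.Cover.hom_ext (X.openCoverOfIsOpenCover _ (isOpenCover_bool U₁ U₂ hU)) a b ?_
  intro i
  cases i with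
  | true => exact h₁
  | false => exact h₂

include hU in
theorem exists_glue_two (m₁ : (U₁ : Scheme.{u}) ⟶ Y) (m₂ : (U₂ : Scheme.{u}) ⟶ Y)
    (h : pullback.fst U₁.ι U₂.ι ≫ m₁ = pullback.snd U₁.ι U₂.ι ≫ m₂) :
    ∃ k : X ⟶ Y, U₁.ι ≫ k = m₁ ∧ U₂.ι ≫ k = m₂ := by
  let 𝒰 := X.openCoverOfIsOpenCover _ (isOpenCover_bool U₁ U₂ hU)
  let F : ∀ b : Bool, 𝒰.X b ⟶ Y := fun b => Bool.rec (motive := fun b => 𝒰.X b ⟶ Y) m₂ m₁ b
  have hF : ∀ x y, pullback.fst (𝒰.f x) (𝒰.f y) ≫ F x = pullback.snd (𝒰.f x) (𝒰.f y) ≫ F y := by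
    intro x y
    cases x with
    | true =>
      cases y with
      | true =>
        show pullback.fst U₁.ι U₁.ι ≫ m₁ = pullback.snd U₁.ι U₁.ι ≫ m₁
        rw [fst_eq_snd_of_mono_eq]
      | false => exact h
    | false =>
      cases y with
      | true =>
        show pullback.fst U₂.ι U₁.ι ≫ m₂ = pullback.snd U₂.ι U₁.ι ≫ m₁
        rw [← pullbackSymmetry_hom_comp_snd U₂.ι U₁.ι, ← pullbackSymmetry_hom_comp_fst U₂.ι U₁.ι,
          Category.assoc, Category.assoc, h]
      | false =>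
        show pullback.fst U₂.ι U₂.ι ≫ m₂ = pullback.snd U₂.ι U₂.ι ≫ m₂
        rw [fst_eq_snd_of_mono_eq]
  exact ⟨𝒰.glueMorphisms F hF, 𝒰.ι_glueMorphisms F hF true, 𝒰.ι_glueMorphisms F hF false⟩

end TwoOpens

section TwoImmersions

variable {A B Y Z : Scheme.{u}} (i₁ : A ⟶ Y) (i₂ : B ⟶ Y) [IsOpenImmersion i₁] [IsOpenImmersion i₂]

theorem of_two_openImmersions (P : MorphismProperty Scheme.{u}) [IsZariskiLocalAtSource P]
    (hcov : ∀ y : Y, y ∈ Set.range i₁ ∨ y ∈ Set.range i₂) (q : Y ⟶ Z)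
    (h₁ : P (i₁ ≫ q)) (h₂ : P (i₂ ≫ q)) : P q := by
  refine IsZariskiLocalAtSource.of_iSup_eq_top (P := P)
    (fun b : Bool => cond b i₁.opensRange i₂.opensRange) ?_ ?_
  · rw [iSup_bool_eq]
    apply top_unique
    intro y _
    rcases hcov y with h | h
    · exact Or.inl h
    · exact Or.inr h
  · intro b
    cases b with
    | true =>
      show P (i₁.opensRange.ι ≫ q)
      rw [← Scheme.Hom.isoOpensRange_inv_comp, Category.assoc, P.cancel_left_of_respectsIso]
      exact h₁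
    | false =>
      show P (i₂.opensRange.ι ≫ q)
      rw [← Scheme.Hom.isoOpensRange_inv_comp, Category.assoc, P.cancel_left_of_respectsIso]
      exact h₂

theorem compactSpace_of_two (hcov : ∀ y : Y, y ∈ Set.range i₁ ∨ y ∈ Set.range i₂)
    [CompactSpace A] [CompactSpace B] : CompactSpace Y := by
  constructor
  have : (Set.univ : Set Y) = Set.range i₁ ∪ Set.range i₂ := by
    ext y; simpa using hcov y
  rw [this]
  exact (isCompact_range i₁.continuous).union (isCompact_range i₂.continuous)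

end TwoImmersions

section Valuative

variable {R K : Type u} [CommRing R] [IsDomain R] [ValuationRing R] [Field K] [Algebra R K]
  [IsFractionRing R K]

theorem exists_lift_of_closedPoint_mem {A Y : Scheme.{u}} (i : A ⟶ Y) [IsOpenImmersion i]
    (l : Spec (.of R) ⟶ Y) (h : l (IsLocalRing.closedPoint R) ∈ Set.range i) :
    ∃ l' : Spec (.of R) ⟶ A, l' ≫ i = l := by
  refine ⟨IsOpenImmersion.lift i l ?_, IsOpenImmersion.lift_fac _ _ _⟩
  rintro _ ⟨x, rfl⟩
  have hs : l x ⤳ l (IsLocalRing.closedPoint R) :=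
    (IsLocalRing.specializes_closedPoint x).map l.continuous
  exact hs.mem_open i.isOpenEmbedding.isOpen_range h

theorem eq_of_valuative {A S : Scheme.{u}} (p : A ⟶ S) [IsSeparated p]
    (l₁ l₂ : Spec (.of R) ⟶ A)
    (h₁ : Spec.map (CommRingCat.ofHom (algebraMap R K)) ≫ l₁ =
      Spec.map (CommRingCat.ofHom (algebraMap R K)) ≫ l₂)
    (h₂ : l₁ ≫ p = l₂ ≫ p) : l₁ = l₂ := by
  let Sq : ValuativeCommSq p :=
    ⟨R, K, Spec.map (CommRingCat.ofHom (algebraMap R K)) ≫ l₁, l₁ ≫ p, ⟨by simp⟩⟩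
  haveI : Subsingleton Sq.commSq.LiftStruct := IsSeparated.valuativeCriterion p Sq
  let L₁ : Sq.commSq.LiftStruct := ⟨l₁, rfl, rfl⟩
  let L₂ : Sq.commSq.LiftStruct := ⟨l₂, h₁.symm, h₂.symm⟩
  exact congrArg CommSq.LiftStruct.l (Subsingleton.elim L₁ L₂)

/-- the generic point of `Spec R` specializes to the closed point -/
theorem generic_specializes (η : Spec (.of K)) (x : Spec (.of R)) :
    Spec.map (CommRingCat.ofHom (algebraMap R K)) η ⤳ x := by
  rw [← PrimeSpectrum.le_iff_specializes]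
  intro r hr
  have hr' : algebraMap R K r ∈ η.asIdeal := hr
  have h0 : η.asIdeal = ⊥ := by
    rcases Ideal.eq_bot_or_top η.asIdeal with h | h
    · exact h
    · exact absurd h η.2.ne_top
  rw [h0, Ideal.mem_bot] at hr'
  have : r = 0 := (IsFractionRing.injective R K) (by rw [hr', map_zero])
  rw [this]; exact zero_mem _

end Valuative

end Groth.Agent.Lib.LocImm13_helper6
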