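import Mathlib
import Groth.Agent.Lib.LocImm13_helper6

/-!
# Separatedness of a glued scheme and the gluing theorem (helper6)
-/

set_option autoImplicit false
set_option linter.all false
set_option backward.isDefEq.respectTransparency false
universe u
open TopologicalSpace CategoryTheory CategoryTheory.Limits AlgebraicGeometry

namespace Groth.Agent.Lib.LocImm14_helper6

open LocImm Groth.Agent.Lib.LocImm11_helper6 Groth.Agent.Lib.LocImm12_helper6
  Groth.Agent.Lib.LocImm13_helper6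

section Sep

variable {W A B S : Scheme.{u}} (a : W ⟶ A) (b : W ⟶ B) [IsOpenImmersion a] [IsOpenImmersion b]
  (p₁ : A ⟶ S) (p₂ : B ⟶ S) (hg : a ≫ p₁ = b ≫ p₂)

variable {R K : Type u} [CommRing R] [IsDomain R] [ValuationRing R] [Field K] [Algebra R K]
  [IsFractionRing R K]

include hg in
/-- the mixed case of the valuative criterion -/
theorem mem_range_inr_of_mixed
    (hC : IsClosed (Set.range (pullback.lift a b hg : W ⟶ pullback p₁ p₂)))
    (l₁' : Spec (.of R) ⟶ A) (l₂' : Spec (.of R) ⟶ B)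
    (h₁ : Spec.map (CommRingCat.ofHom (algebraMap R K)) ≫ l₁' ≫ pushout.inl a b =
      Spec.map (CommRingCat.ofHom (algebraMap R K)) ≫ l₂' ≫ pushout.inr a b)
    (h₂ : l₁' ≫ p₁ = l₂' ≫ p₂) :
    ∃ w : W, a w = l₁' (IsLocalRing.closedPoint R) := by
  let jK := Spec.map (CommRingCat.ofHom (algebraMap R K))
  let c : Spec (.of R) ⟶ pullback p₁ p₂ := pullback.lift l₁' l₂' h₂
  let γ : W ⟶ pullback p₁ p₂ := pullback.lift a b hg
  have hpb := isPullback a b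
  let v : Spec (.of K) ⟶ W := hpb.lift (jK ≫ l₁') (jK ≫ l₂') (by
    rw [Category.assoc, Category.assoc]; exact h₁)
  have hv₁ : v ≫ a = jK ≫ l₁' := hpb.lift_fst _ _ _
  have hv₂ : v ≫ b = jK ≫ l₂' := hpb.lift_snd _ _ _
  have hcv : jK ≫ c = v ≫ γ := by
    apply pullback.hom_ext
    · rw [Category.assoc, Category.assoc, pullback.lift_fst, pullback.lift_fst, hv₁]
    · rw [Category.assoc, Category.assoc, pullback.lift_snd, pullback.lift_snd, hv₂]
  obtain ⟨η⟩ : Nonempty (Spec (.of K)) := inferInstance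
  have hη : c (jK η) ∈ Set.range γ := by
    refine ⟨v η, ?_⟩
    rw [← Scheme.Hom.comp_apply, ← Scheme.Hom.comp_apply, hcv]
  have hcl : IsClosed (c ⁻¹' Set.range γ) := hC.preimage c.continuous
  have hm : IsLocalRing.closedPoint R ∈ c ⁻¹' Set.range γ :=
    (generic_specializes η (IsLocalRing.closedPoint R)).mem_closed hcl hη
  obtain ⟨w, hw⟩ := hm
  refine ⟨w, ?_⟩
  have h3 : pullback.fst p₁ p₂ (γ w) = pullback.fst p₁ p₂ (c (IsLocalRing.closedPoint R)) := by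
    rw [hw]
  rw [← Scheme.Hom.comp_apply, ← Scheme.Hom.comp_apply, pullback.lift_fst, pullback.lift_fst] at h3
  exact h3

theorem isSeparated_pushout_desc [IsSeparated p₁] [IsSeparated p₂]
    [QuasiSeparated (pushout.desc p₁ p₂ hg)]
    (hC : IsClosed (Set.range (pullback.lift a b hg : W ⟶ pullback p₁ p₂))) :
    IsSeparated (pushout.desc p₁ p₂ hg) := by
  apply IsSeparated.of_valuativeCriterion
  intro Sq
  constructor
  rintro ⟨l₁, hl₁, hl₁'⟩ ⟨l₂, hl₂, hl₂'⟩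
  ext : 1
  dsimp at *
  let p := pushout.desc p₁ p₂ hg
  have hp₁ : pushout.inl a b ≫ p = p₁ := pushout.inl_desc _ _ _
  have hp₂ : pushout.inr a b ≫ p = p₂ := pushout.inr_desc _ _ _
  let jK := Spec.map (CommRingCat.ofHom (algebraMap Sq.R Sq.K))
  have hgen : jK ≫ l₁ = jK ≫ l₂ := hl₁.trans hl₂.symm
  have hpp : l₁ ≫ p = l₂ ≫ p := hl₁'.trans hl₂'.symm
  -- both in `A`
  have caseA : ∀ (l₁' l₂' : Spec (.of Sq.R) ⟶ A), l₁' ≫ pushout.inl a b = l₁ →
      l₂' ≫ pushout.inl a b = l₂ → l₁ = l₂ := by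
    intro l₁' l₂' e₁ e₂
    have : l₁' = l₂' := by
      refine eq_of_valuative (K := Sq.K) p₁ l₁' l₂' ?_ ?_
      · rw [← cancel_mono (pushout.inl a b), Category.assoc, Category.assoc, e₁, e₂]
        exact hgen
      · calc l₁' ≫ p₁ = (l₁' ≫ pushout.inl a b) ≫ p := by rw [Category.assoc, hp₁]
          _ = (l₂' ≫ pushout.inl a b) ≫ p := by rw [e₁, e₂]; exact hpp
          _ = l₂' ≫ p₁ := by rw [Category.assoc, hp₁]
    rw [← e₁, ← e₂, this]
  have caseB : ∀ (l₁' l₂' : Spec (.of Sq.R) ⟶ B), l₁' ≫ pushout.inr a b = l₁ →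
      l₂' ≫ pushout.inr a b = l₂ → l₁ = l₂ := by
    intro l₁' l₂' e₁ e₂
    have : l₁' = l₂' := by
      refine eq_of_valuative (K := Sq.K) p₂ l₁' l₂' ?_ ?_
      · rw [← cancel_mono (pushout.inr a b), Category.assoc, Category.assoc, e₁, e₂]
        exact hgen
      · calc l₁' ≫ p₂ = (l₁' ≫ pushout.inr a b) ≫ p := by rw [Category.assoc, hp₂]
          _ = (l₂' ≫ pushout.inr a b) ≫ p := by rw [e₁, e₂]; exact hpp
          _ = l₂' ≫ p₂ := by rw [Category.assoc, hp₂]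
    rw [← e₁, ← e₂, this]
  -- mixed case: if `l` lands in `A` and `l'` lands in `B` then `l` lands in `B` as well
  have mixed : ∀ (l l' : Spec (.of Sq.R) ⟶ pushout a b), jK ≫ l = jK ≫ l' → l ≫ p = l' ≫ p →
      l (IsLocalRing.closedPoint Sq.R) ∈ Set.range (pushout.inl a b) →
      l' (IsLocalRing.closedPoint Sq.R) ∈ Set.range (pushout.inr a b) →
      l (IsLocalRing.closedPoint Sq.R) ∈ Set.range (pushout.inr a b) := by
    intro l l' hg' hp' hA hB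
    obtain ⟨m, hm⟩ := exists_lift_of_closedPoint_mem (pushout.inl a b) l hA
    obtain ⟨m', hm'⟩ := exists_lift_of_closedPoint_mem (pushout.inr a b) l' hB
    obtain ⟨w, hw⟩ := mem_range_inr_of_mixed (K := Sq.K) a b p₁ p₂ hg hC m m'
      (by rw [hm, hm']; exact hg')
      (by
        calc m ≫ p₁ = (m ≫ pushout.inl a b) ≫ p := by rw [Category.assoc, hp₁]
          _ = (m' ≫ pushout.inr a b) ≫ p := by rw [hm, hm']; exact hp'
          _ = m' ≫ p₂ := by rw [Category.assoc, hp₂])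
    refine ⟨b w, ?_⟩
    rw [← hm, Scheme.Hom.comp_apply, ← hw, ← Scheme.Hom.comp_apply, ← Scheme.Hom.comp_apply,
      pushout.condition]
  have finishB : l₁ (IsLocalRing.closedPoint Sq.R) ∈ Set.range (pushout.inr a b) →
      l₂ (IsLocalRing.closedPoint Sq.R) ∈ Set.range (pushout.inr a b) → l₁ = l₂ := by
    intro hB₁ hB₂
    obtain ⟨m, hm⟩ := exists_lift_of_closedPoint_mem (pushout.inr a b) l₁ hB₁
    obtain ⟨m', hm'⟩ := exists_lift_of_closedPoint_mem (pushout.inr a b) l₂ hB₂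
    exact caseB m m' hm hm'
  rcases inl_or_inr a b (l₁ (IsLocalRing.closedPoint Sq.R)) with h1 | h1
  · rcases inl_or_inr a b (l₂ (IsLocalRing.closedPoint Sq.R)) with h2 | h2
    · obtain ⟨m, hm⟩ := exists_lift_of_closedPoint_mem (pushout.inl a b) l₁ h1
      obtain ⟨m', hm'⟩ := exists_lift_of_closedPoint_mem (pushout.inl a b) l₂ h2
      exact caseA m m' hm hm'
    · exact finishB (mixed l₁ l₂ hgen hpp h1 h2) h2
  · rcases inl_or_inr a b (l₂ (IsLocalRing.closedPoint Sq.R)) with h2 | h2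
    · exact finishB h1 (mixed l₂ l₁ hgen.symm hpp.symm h2 h1)
    · exact finishB h1 h2

end Sep

section Glue

theorem glue_main {X S : Scheme.{u}} [IsNoetherian X] [IsNoetherian S] (f : X ⟶ S)
    (U₁ U₂ : X.Opens) (hU : U₁ ⊔ U₂ = ⊤) (Y₁ Y₂ : Scheme.{u}) [IsNoetherian Y₁] [IsNoetherian Y₂]
    (k₁ : (U₁ : Scheme.{u}) ⟶ Y₁) (k₂ : (U₂ : Scheme.{u}) ⟶ Y₂) (p₁ : Y₁ ⟶ S) (p₂ : Y₂ ⟶ S)
    (hk₁ : IsLocImmersion k₁) (hk₂ : IsLocImmersion k₂)
    [IsSeparated p₁] [IsSeparated p₂] [LocallyOfFiniteType p₁] [LocallyOfFiniteType p₂]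
    (h₁ : k₁ ≫ p₁ = U₁.ι ≫ f) (h₂ : k₂ ≫ p₂ = U₂.ι ≫ f)
    (W : Scheme.{u}) (g₁ : W ⟶ Y₁) (g₂ : W ⟶ Y₂) [IsOpenImmersion g₁] [IsOpenImmersion g₂]
    (hg : g₁ ≫ p₁ = g₂ ≫ p₂)
    (k₀ : pullback U₁.ι U₂.ι ⟶ W) (hk₀₁ : k₀ ≫ g₁ = pullback.fst U₁.ι U₂.ι ≫ k₁)
    (hk₀₂ : k₀ ≫ g₂ = pullback.snd U₁.ι U₂.ι ≫ k₂)
    (hC : IsClosed (Set.range (pullback.lift g₁ g₂ hg : W ⟶ pullback p₁ p₂)))
    (hI : ∀ w : W, g₁ w ∈ Set.range k₁ → g₂ w ∈ Set.range k₂ → w ∈ Set.range k₀) :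
    ∃ (Y : Scheme.{u}) (k : X ⟶ Y) (p : Y ⟶ S), IsNoetherian Y ∧ IsLocImmersion k ∧
      IsSeparated p ∧ LocallyOfFiniteType p ∧ QuasiCompact p ∧ k ≫ p = f := by
  let p : pushout g₁ g₂ ⟶ S := pushout.desc p₁ p₂ hg
  have hp₁ : pushout.inl g₁ g₂ ≫ p = p₁ := pushout.inl_desc _ _ _
  have hp₂ : pushout.inr g₁ g₂ ≫ p = p₂ := pushout.inr_desc _ _ _
  have hcov : ∀ y : (pushout g₁ g₂ : Scheme.{u}),
      y ∈ Set.range (pushout.inl g₁ g₂) ∨ y ∈ Set.range (pushout.inr g₁ g₂) :=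
    fun y => inl_or_inr g₁ g₂ y
  obtain ⟨k, hk₁', hk₂'⟩ := exists_glue_two U₁ U₂ hU (k₁ ≫ pushout.inl g₁ g₂)
    (k₂ ≫ pushout.inr g₁ g₂) (by
      rw [← reassoc_of% hk₀₁, ← reassoc_of% hk₀₂, pushout.condition])
  have hkp : k ≫ p = f := by
    apply hom_ext_two U₁ U₂ hU
    · rw [reassoc_of% hk₁', hp₁, h₁]
    · rw [reassoc_of% hk₂', hp₂, h₂]
  haveI : CompactSpace (pushout g₁ g₂ : Scheme.{u}) :=
    compactSpace_of_two (pushout.inl g₁ g₂) (pushout.inr g₁ g₂) hcov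
  haveI hlft : LocallyOfFiniteType p :=
    of_two_openImmersions (pushout.inl g₁ g₂) (pushout.inr g₁ g₂) @LocallyOfFiniteType hcov p
      (by rw [hp₁]; infer_instance) (by rw [hp₂]; infer_instance)
  haveI : QuasiCompact p := inferInstance
  haveI hnoe : IsNoetherian (pushout g₁ g₂ : Scheme.{u}) :=
    LocImm10_helper6.isNoetherian_of_lft_qc p
  haveI : QuasiSeparated p := inferInstance
  haveI hsep : IsSeparated p := isSeparated_pushout_desc g₁ g₂ p₁ p₂ hg hC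
  refine ⟨pushout g₁ g₂, k, p, hnoe, ⟨?_, ?_⟩, hsep, hlft, inferInstance, hkp⟩
  · -- localizing
    apply isLocalizing_of_openCover
    intro x
    have hx : x ∈ U₁ ⊔ U₂ := by rw [hU]; trivial
    rcases hx with hx | hx
    · refine ⟨U₁, U₁.ι, inferInstance, ⟨⟨x, hx⟩, rfl⟩, ?_⟩
      rw [hk₁']
      exact isLocalizing_comp_openImmersion _ _ hk₁.1
    · refine ⟨U₂, U₂.ι, inferInstance, ⟨⟨x, hx⟩, rfl⟩, ?_⟩
      rw [hk₂']
      exact isLocalizing_comp_openImmersion _ _ hk₂.1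
  · -- injective
    have hk₁a : ∀ u : U₁, k (U₁.ι u) = pushout.inl g₁ g₂ (k₁ u) := by
      intro u
      rw [← Scheme.Hom.comp_apply, ← Scheme.Hom.comp_apply, hk₁']
    have hk₂a : ∀ u : U₂, k (U₂.ι u) = pushout.inr g₁ g₂ (k₂ u) := by
      intro u
      rw [← Scheme.Hom.comp_apply, ← Scheme.Hom.comp_apply, hk₂']
    have key : ∀ (u : U₁) (u' : U₂), k (U₁.ι u) = k (U₂.ι u') → U₁.ι u = U₂.ι u' := by
      intro u u' huu'
      rw [hk₁a, hk₂a] at huu'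
      obtain ⟨w, hw₁, hw₂⟩ := (inl_eq_inr_iff g₁ g₂ _ _).mp huu'
      obtain ⟨z, rfl⟩ := hI w ⟨u, hw₁.symm⟩ ⟨u', hw₂.symm⟩
      rw [← Scheme.Hom.comp_apply, hk₀₁, Scheme.Hom.comp_apply] at hw₁
      rw [← Scheme.Hom.comp_apply, hk₀₂, Scheme.Hom.comp_apply] at hw₂
      have e₁ : pullback.fst U₁.ι U₂.ι z = u := hk₁.2 hw₁
      have e₂ : pullback.snd U₁.ι U₂.ι z = u' := hk₂.2 hw₂
      rw [← e₁, ← e₂, ← Scheme.Hom.comp_apply, ← Scheme.Hom.comp_apply, pullback.condition]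
    intro x x' hxx'
    have hx : x ∈ U₁ ⊔ U₂ := by rw [hU]; trivial
    have hx' : x' ∈ U₁ ⊔ U₂ := by rw [hU]; trivial
    have hxx'' : k x = k x' := hxx'
    rcases hx with hx | hx
    · rcases hx' with hx' | hx'
      · have e : k (U₁.ι ⟨x, hx⟩) = k (U₁.ι ⟨x', hx'⟩) := hxx''
        rw [hk₁a, hk₁a] at e
        have := hk₁.2 ((pushout.inl g₁ g₂).isOpenEmbedding.injective e)
        exact congrArg Subtype.val this
      · exact key ⟨x, hx⟩ ⟨x', hx'⟩ hxx''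
    · rcases hx' with hx' | hx'
      · exact (key ⟨x', hx'⟩ ⟨x, hx⟩ hxx''.symm).symm
      · have e : k (U₂.ι ⟨x, hx⟩) = k (U₂.ι ⟨x', hx'⟩) := hxx''
        rw [hk₂a, hk₂a] at e
        have := hk₂.2 ((pushout.inr g₁ g₂).isOpenEmbedding.injective e)
        exact congrArg Subtype.val this

end Glue

end Groth.Agent.Lib.LocImm14_helper6
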