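import Mathlib
import Groth.Agent.Lib.LocImm14_helper6

/-!
# Ingredients for shrinking two factorizations so that they glue (helper6)
-/

set_option autoImplicit false
set_option linter.all false
set_option backward.isDefEq.respectTransparency false
universe u
open TopologicalSpace CategoryTheory CategoryTheory.Limits AlgebraicGeometry

namespace Groth.Agent.Lib.LocImm15_helper6

open LocImm Groth.Agent.Lib.LocImm11_helper6 Groth.Agent.Lib.LocImm12_helper6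
  Groth.Agent.Lib.LocImm13_helper6 Groth.Agent.Lib.LocImm10_helper6
  Groth.Agent.Lib.LocImm9_helper6

section Top

theorem mem_range_of_mem_closure {ω α β : Type*} [TopologicalSpace ω] [TopologicalSpace α]
    [TopologicalSpace β] [NoetherianSpace ω] [QuasiSober ω] (f : α → β) (hf : Continuous f)
    (hinj : Function.Injective f) (hgen : GeneralizingMap f) (g : ω → α) (hg : Continuous g)
    (hcl : IsClosed (Set.range g)) {x : α} (hx : f x ∈ closure (Set.range (f ∘ g))) :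
    x ∈ Set.range g := by
  obtain ⟨S, hSf, hSc, hSi, hSU⟩ :=
    NoetherianSpace.exists_finite_set_isClosed_irreducible (isClosed_univ : IsClosed (Set.univ : Set ω))
  have hr : Set.range (f ∘ g) = ⋃ t ∈ S, (f ∘ g) '' t := by
    rw [← Set.image_univ, hSU, Set.sUnion_eq_biUnion, Set.image_iUnion₂]
  rw [hr, hSf.closure_biUnion] at hx
  simp only [Set.mem_iUnion, exists_prop] at hx
  obtain ⟨t, htS, hxt⟩ := hx
  obtain ⟨η, hη⟩ := QuasiSober.sober (hSi t htS) (hSc t htS)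
  have h1 : closure ((f ∘ g) '' t) ⊆ closure {f (g η)} := by
    apply closure_minimal _ isClosed_closure
    rw [← hη.def]
    refine (image_closure_subset_closure_image (hf.comp hg)).trans ?_
    rw [Set.image_singleton]
    rfl
  have h2 : f (g η) ⤳ f x := specializes_iff_mem_closure.mpr (h1 hxt)
  obtain ⟨x', hx', hfx'⟩ := hgen h2
  have h3 : x' = g η := hinj hfx'
  subst h3
  have hsub : ({g η} : Set α) ⊆ Set.range g := Set.singleton_subset_iff.mpr ⟨η, rfl⟩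
  have h4 : x ∈ closure (Set.range g) :=
    closure_mono hsub (specializes_iff_mem_closure.mp hx')
  rwa [hcl.closure_eq] at h4

theorem exists_opens_disjoint {P Y₁ Y₂ : Type*} [TopologicalSpace P] [TopologicalSpace Y₁]
    [TopologicalSpace Y₂] [NoetherianSpace P] [QuasiSober P] (q₁ : P → Y₁) (q₂ : P → Y₂)
    (hq₁ : Continuous q₁) (hq₂ : Continuous q₂) (C : Set P) (hC : IsClosed C)
    (R₁ : Set Y₁) (R₂ : Set Y₂) (hR₁ : StableUnderGeneralization R₁)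
    (hR₂ : StableUnderGeneralization R₂)
    (hdisj : ∀ t ∈ C, q₁ t ∈ R₁ → q₂ t ∈ R₂ → False) :
    ∃ (O₁ : Set Y₁) (O₂ : Set Y₂), IsOpen O₁ ∧ IsOpen O₂ ∧ R₁ ⊆ O₁ ∧ R₂ ⊆ O₂ ∧
      ∀ t ∈ C, q₁ t ∈ O₁ → q₂ t ∈ O₂ → False := by
  classical
  rcases isEmpty_or_nonempty P with hP | hP
  · exact ⟨Set.univ, Set.univ, isOpen_univ, isOpen_univ, Set.subset_univ _, Set.subset_univ _,
      fun t => (hP.false t).elim⟩
  obtain ⟨S, hSf, hSc, hSi, hSU⟩ := NoetherianSpace.exists_finite_set_isClosed_irreducible hC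
  have hgen : ∀ Z ∈ S, ∃ c : P, IsGenericPoint c Z := fun Z hZ =>
    QuasiSober.sober (hSi Z hZ) (hSc Z hZ)
  choose! c hc using hgen
  have hcC : ∀ Z ∈ S, c Z ∈ C := by
    intro Z hZ
    rw [hSU]
    exact Set.mem_sUnion.mpr ⟨Z, hZ, (hc Z hZ).mem⟩
  let A₁ : Set Y₁ := ⋃ Z ∈ {Z ∈ S | q₁ (c Z) ∉ R₁}, closure {q₁ (c Z)}
  let A₂ : Set Y₂ := ⋃ Z ∈ {Z ∈ S | q₂ (c Z) ∉ R₂}, closure {q₂ (c Z)}
  have hA₁ : IsClosed A₁ :=
    (hSf.subset (Set.sep_subset _ _)).isClosed_biUnion (fun _ _ => isClosed_closure)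
  have hA₂ : IsClosed A₂ :=
    (hSf.subset (Set.sep_subset _ _)).isClosed_biUnion (fun _ _ => isClosed_closure)
  refine ⟨A₁ᶜ, A₂ᶜ, hA₁.isOpen_compl, hA₂.isOpen_compl, ?_, ?_, ?_⟩
  · intro r hr hrA
    simp only [A₁, Set.mem_iUnion, exists_prop] at hrA
    obtain ⟨Z, ⟨hZ, hZR⟩, hrZ⟩ := hrA
    exact hZR (hR₁ (specializes_iff_mem_closure.mpr hrZ) hr)
  · intro r hr hrA
    simp only [A₂, Set.mem_iUnion, exists_prop] at hrA
    obtain ⟨Z, ⟨hZ, hZR⟩, hrZ⟩ := hrA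
    exact hZR (hR₂ (specializes_iff_mem_closure.mpr hrZ) hr)
  · intro t htC ht₁ ht₂
    rw [hSU] at htC
    obtain ⟨Z, hZ, htZ⟩ := Set.mem_sUnion.mp htC
    have hsp : c Z ⤳ t := by
      rw [specializes_iff_mem_closure, (hc Z hZ).def]; exact htZ
    by_cases h1 : q₁ (c Z) ∈ R₁
    · by_cases h2 : q₂ (c Z) ∈ R₂
      · exact hdisj (c Z) (hcC Z hZ) h1 h2
      · apply ht₂
        simp only [A₂, Set.mem_iUnion, exists_prop]
        exact ⟨Z, ⟨hZ, h2⟩, specializes_iff_mem_closure.mp (hsp.map hq₂)⟩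
    · apply ht₁
      simp only [A₁, Set.mem_iUnion, exists_prop]
      exact ⟨Z, ⟨hZ, h1⟩, specializes_iff_mem_closure.mp (hsp.map hq₁)⟩

end Top

section KTF

theorem ktf {X S : Scheme.{u}} [IsNoetherian X] (f : X ⟶ S) [IsSeparated f]
    (U₁ U₂ : X.Opens) (Y₁ Y₂ : Scheme.{u})
    (k₁ : (U₁ : Scheme.{u}) ⟶ Y₁) (k₂ : (U₂ : Scheme.{u}) ⟶ Y₂) (p₁ : Y₁ ⟶ S) (p₂ : Y₂ ⟶ S)
    (hk₁ : IsLocImmersion k₁) (hk₂ : IsLocImmersion k₂)
    (h₁ : k₁ ≫ p₁ = U₁.ι ≫ f) (h₂ : k₂ ≫ p₂ = U₂.ι ≫ f)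
    [IsNoetherian (pullback U₁.ι U₂.ι)]
    (j : pullback U₁.ι U₂.ι ⟶ pullback p₁ p₂)
    (hj₁ : j ≫ pullback.fst p₁ p₂ = pullback.fst U₁.ι U₂.ι ≫ k₁)
    (hj₂ : j ≫ pullback.snd p₁ p₂ = pullback.snd U₁.ι U₂.ι ≫ k₂)
    (t : (pullback p₁ p₂ : Scheme.{u})) (ht : t ∈ closure (Set.range j))
    (ht₁ : pullback.fst p₁ p₂ t ∈ Set.range k₁) (ht₂ : pullback.snd p₁ p₂ t ∈ Set.range k₂) :
    t ∈ Set.range j := by
  have e₁ : U₁.ι ≫ f = k₁ ≫ p₁ := h₁.symm
  have e₂ : U₂.ι ≫ f = k₂ ≫ p₂ := h₂.symm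
  let m : pullback (U₁.ι ≫ f) (U₂.ι ≫ f) ⟶ pullback p₁ p₂ :=
    pullback.map (U₁.ι ≫ f) (U₂.ι ≫ f) p₁ p₂ k₁ k₂ (𝟙 S) ((Category.comp_id _).trans e₁)
      ((Category.comp_id _).trans e₂)
  let δ : pullback U₁.ι U₂.ι ⟶ pullback (U₁.ι ≫ f) (U₂.ι ≫ f) := pullback.mapDesc U₁.ι U₂.ι f
  have hδm : δ ≫ m = j := by
    apply pullback.hom_ext
    · simp [δ, m, hj₁]
    · simp [δ, m, hj₂]
  haveI := LocImm_helper6.flat_of_isLocalizing k₁ hk₁.1
  haveI := LocImm_helper6.flat_of_isLocalizing k₂ hk₂.1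
  haveI := LocImm_helper6.mono_of_isLocImmersion k₁ hk₁
  haveI := LocImm_helper6.mono_of_isLocImmersion k₂ hk₂
  haveI hflat : Flat m := MorphismProperty.pullbackMap (P := @Flat) inferInstance inferInstance e₁ e₂
  haveI huinj : UniversallyInjective m :=
    MorphismProperty.pullbackMap (P := @UniversallyInjective) inferInstance inferInstance e₁ e₂
  have ht' : t ∈ Set.range m := by
    rw [Scheme.Pullback.range_map]
    exact ⟨ht₁, ht₂⟩
  obtain ⟨z, rfl⟩ := ht'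
  have hcl : IsClosed (Set.range δ) := δ.isClosedEmbedding.isClosed_range
  have hz : z ∈ Set.range δ := by
    refine mem_range_of_mem_closure (fun x => m x) m.continuous m.injective
      (Flat.generalizingMap m) (fun x => δ x) δ.continuous hcl ?_
    have : Set.range ((fun x => m x) ∘ (fun x => δ x)) = Set.range j := by
      rw [← hδm]
      ext y
      simp
    rw [this]
    exact ht
  obtain ⟨u, rfl⟩ := hz
  exact ⟨u, by rw [← hδm]; rfl⟩

end KTF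

end Groth.Agent.Lib.LocImm15_helper6
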