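import Mathlib
import Groth.Agent.Lib.LocImm15_helper6

/-!
# Gluing two factorizations: the main theorem (helper6)
-/

set_option autoImplicit false
set_option linter.all false
set_option backward.isDefEq.respectTransparency false
universe u
open TopologicalSpace CategoryTheory CategoryTheory.Limits AlgebraicGeometry

namespace Groth.Agent.Lib.LocImm16_helper6

open LocImm Groth.Agent.Lib.LocImm11_helper6 Groth.Agent.Lib.LocImm12_helper6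
  Groth.Agent.Lib.LocImm13_helper6 Groth.Agent.Lib.LocImm10_helper6
  Groth.Agent.Lib.LocImm9_helper6 Groth.Agent.Lib.LocImm14_helper6
  Groth.Agent.Lib.LocImm15_helper6

/-- `main18193` with the extra information that `X` is dense in `W`. -/
theorem main18193' {X Y₁ Y₂ S : Scheme.{u}} [IsNoetherian X] [IsNoetherian Y₁] [IsNoetherian Y₂]
    [IsNoetherian S] (f₁ : X ⟶ Y₁) (f₂ : X ⟶ Y₂) (π₁ : Y₁ ⟶ S) (π₂ : Y₂ ⟶ S)
    (hf₁ : IsLocImmersion f₁) (hf₂ : IsLocImmersion f₂)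
    [IsSeparated π₁] [IsSeparated π₂] [LocallyOfFiniteType π₁] [LocallyOfFiniteType π₂]
    (h : f₁ ≫ π₁ = f₂ ≫ π₂) :
    ∃ (W : Scheme.{u}) (k : X ⟶ W) (g₁ : W ⟶ Y₁) (g₂ : W ⟶ Y₂), IsLocImmersion k ∧
      IsOpenImmersion g₁ ∧ IsOpenImmersion g₂ ∧ g₁ ≫ π₁ = g₂ ≫ π₂ ∧ k ≫ g₁ = f₁ ∧ k ≫ g₂ = f₂ ∧
      IsDominant k := by
  haveI : QuasiCompact π₁ := inferInstance
  haveI : QuasiCompact π₂ := inferInstance
  haveI : IsNoetherian (pullback π₁ π₂) := isNoetherian_of_lft_qc (pullback.snd π₁ π₂)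
  let φ : X ⟶ pullback π₁ π₂ := pullback.lift f₁ f₂ h
  haveI : QuasiCompact φ := inferInstance
  haveI : IsNoetherian φ.image := isNoetherian_of_lft_qc φ.imageι
  let k' : X ⟶ φ.image := φ.toImage
  have hk'ι : k' ≫ φ.imageι = φ := φ.toImage_imageι
  let q₁ : φ.image ⟶ Y₁ := φ.imageι ≫ pullback.fst π₁ π₂
  let q₂ : φ.image ⟶ Y₂ := φ.imageι ≫ pullback.snd π₁ π₂
  have hq₁ : k' ≫ q₁ = f₁ := by
    show k' ≫ φ.imageι ≫ pullback.fst π₁ π₂ = f₁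
    rw [reassoc_of% hk'ι]; exact pullback.lift_fst _ _ _
  have hq₂ : k' ≫ q₂ = f₂ := by
    show k' ≫ φ.imageι ≫ pullback.snd π₁ π₂ = f₂
    rw [reassoc_of% hk'ι]; exact pullback.lift_snd _ _ _
  have hq12 : q₁ ≫ π₁ = q₂ ≫ π₂ := by
    show (φ.imageι ≫ pullback.fst π₁ π₂) ≫ π₁ = (φ.imageι ≫ pullback.snd π₁ π₂) ≫ π₂
    rw [Category.assoc, Category.assoc, pullback.condition]
  haveI : IsSchemeTheoreticallyDominant k' := ⟨LocImm5_helper6.ker_toImage_eq_bot φ⟩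
  haveI : QuasiCompact k' := inferInstance
  have hk' : IsLocImmersion k' :=
    LocImm6_helper6.isLocImmersion_of_comp k' q₁ (by rw [hq₁]; exact hf₁)
      (fun U => k'.app_injective U)
  haveI : IsSeparated q₁ := inferInstance
  haveI : IsSeparated q₂ := inferInstance
  haveI : LocallyOfFiniteType q₁ := inferInstance
  haveI : LocallyOfFiniteType q₂ := inferInstance
  haveI : EssFT.LocallyEssFiniteType q₁ := locallyEssFiniteType_of_lft q₁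
  haveI : EssFT.LocallyEssFiniteType q₂ := locallyEssFiniteType_of_lft q₂
  obtain ⟨U₁, hU₁, hloc₁⟩ := main18194 k' f₁ q₁ hk' hf₁ hq₁
  obtain ⟨U₂, hU₂, hloc₂⟩ := main18194 k' f₂ q₂ hk' hf₂ hq₂
  haveI : IsOpenImmersion (U₁.ι ≫ q₁) := LocImm_helper6.isOpenImmersion_of_lft _ hloc₁
  haveI : IsOpenImmersion (U₂.ι ≫ q₂) := LocImm_helper6.isOpenImmersion_of_lft _ hloc₂
  let W : φ.image.Opens := U₁ ⊓ U₂
  have hW : Set.range k' ⊆ Set.range W.ι := by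
    rw [Scheme.Opens.range_ι]
    rintro _ ⟨x, rfl⟩
    exact ⟨hU₁ ⟨x, rfl⟩, hU₂ ⟨x, rfl⟩⟩
  let k : X ⟶ W := IsOpenImmersion.lift W.ι k' hW
  have hk : k ≫ W.ι = k' := IsOpenImmersion.lift_fac _ _ _
  haveI := isNoetherian_opens W
  have hpb : IsPullback (𝟙 X) k k' W.ι :=
    IsPullback.of_horiz_isIso_mono ⟨by rw [Category.id_comp, hk]⟩
  haveI : IsSchemeTheoreticallyDominant k := IsSchemeTheoreticallyDominant.of_isPullback hpb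
  haveI : QuasiCompact k := inferInstance
  refine ⟨W, k, W.ι ≫ q₁, W.ι ≫ q₂, ?_, ?_, ?_, ?_, ?_, ?_, inferInstance⟩
  · exact LocImm6_helper6.isLocImmersion_of_comp k W.ι (by rw [hk]; exact hk')
      (fun U => k.app_injective U)
  · have : W.ι ≫ q₁ = φ.image.homOfLE (inf_le_left : W ≤ U₁) ≫ (U₁.ι ≫ q₁) := by
      rw [Scheme.homOfLE_ι_assoc]
    rw [this]; infer_instance
  · have : W.ι ≫ q₂ = φ.image.homOfLE (inf_le_right : W ≤ U₂) ≫ (U₂.ι ≫ q₂) := by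
      rw [Scheme.homOfLE_ι_assoc]
    rw [this]; infer_instance
  · exact (Category.assoc _ _ _).trans ((congrArg (W.ι ≫ ·) hq12).trans (Category.assoc _ _ _).symm)
  · rw [reassoc_of% hk, hq₁]
  · rw [reassoc_of% hk, hq₂]

theorem glue_of_opens {X S : Scheme.{u}} [IsNoetherian X] [IsNoetherian S] (f : X ⟶ S)
    (U₁ U₂ : X.Opens) (hU : U₁ ⊔ U₂ = ⊤) (Y₁ Y₂ : Scheme.{u}) [IsNoetherian Y₁] [IsNoetherian Y₂]
    (k₁ : (U₁ : Scheme.{u}) ⟶ Y₁) (k₂ : (U₂ : Scheme.{u}) ⟶ Y₂) (p₁ : Y₁ ⟶ S) (p₂ : Y₂ ⟶ S)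
    (hk₁ : IsLocImmersion k₁) (hk₂ : IsLocImmersion k₂)
    [IsSeparated p₁] [IsSeparated p₂] [LocallyOfFiniteType p₁] [LocallyOfFiniteType p₂]
    (h₁ : k₁ ≫ p₁ = U₁.ι ≫ f) (h₂ : k₂ ≫ p₂ = U₂.ι ≫ f)
    (W : Scheme.{u}) (g₁ : W ⟶ Y₁) (g₂ : W ⟶ Y₂) [IsOpenImmersion g₁] [IsOpenImmersion g₂]
    (hg : g₁ ≫ p₁ = g₂ ≫ p₂)
    (k₀ : pullback U₁.ι U₂.ι ⟶ W) (hk₀₁ : k₀ ≫ g₁ = pullback.fst U₁.ι U₂.ι ≫ k₁)
    (hk₀₂ : k₀ ≫ g₂ = pullback.snd U₁.ι U₂.ι ≫ k₂)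
    (Y₁' : Y₁.Opens) (Y₂' : Y₂.Opens) (hR₁ : Set.range k₁ ⊆ (Y₁' : Set Y₁))
    (hR₂ : Set.range k₂ ⊆ (Y₂' : Set Y₂))
    (hC : ∀ t ∈ closure (Set.range (pullback.lift g₁ g₂ hg : W ⟶ pullback p₁ p₂)),
      pullback.fst p₁ p₂ t ∈ Y₁' → pullback.snd p₁ p₂ t ∈ Y₂' →
      t ∈ Set.range (pullback.lift g₁ g₂ hg : W ⟶ pullback p₁ p₂))
    (hI : ∀ w : W, g₁ w ∈ Set.range k₁ → g₂ w ∈ Set.range k₂ → w ∈ Set.range k₀) :
    ∃ (Y : Scheme.{u}) (k : X ⟶ Y) (p : Y ⟶ S), IsNoetherian Y ∧ IsLocImmersion k ∧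
      IsSeparated p ∧ LocallyOfFiniteType p ∧ QuasiCompact p ∧ k ≫ p = f := by
  haveI := isNoetherian_opens Y₁'
  haveI := isNoetherian_opens Y₂'
  let γ : W ⟶ pullback p₁ p₂ := pullback.lift g₁ g₂ hg
  have hγ₁ : γ ≫ pullback.fst p₁ p₂ = g₁ := pullback.lift_fst _ _ _
  have hγ₂ : γ ≫ pullback.snd p₁ p₂ = g₂ := pullback.lift_snd _ _ _
  -- restricted immersions
  let k₁' : (U₁ : Scheme.{u}) ⟶ Y₁' :=
    IsOpenImmersion.lift Y₁'.ι k₁ (by rw [Scheme.Opens.range_ι]; exact hR₁)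
  have hk₁'ι : k₁' ≫ Y₁'.ι = k₁ := IsOpenImmersion.lift_fac _ _ _
  have hk₁'loc : IsLocImmersion k₁' :=
    isLocImmersion_of_comp_openImmersion k₁' Y₁'.ι (by rw [hk₁'ι]; exact hk₁)
  let k₂' : (U₂ : Scheme.{u}) ⟶ Y₂' :=
    IsOpenImmersion.lift Y₂'.ι k₂ (by rw [Scheme.Opens.range_ι]; exact hR₂)
  have hk₂'ι : k₂' ≫ Y₂'.ι = k₂ := IsOpenImmersion.lift_fac _ _ _
  have hk₂'loc : IsLocImmersion k₂' :=
    isLocImmersion_of_comp_openImmersion k₂' Y₂'.ι (by rw [hk₂'ι]; exact hk₂)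
  -- restricted overlap
  let W' : W.Opens := g₁ ⁻¹ᵁ Y₁' ⊓ g₂ ⁻¹ᵁ Y₂'
  let g₁' : (W' : Scheme.{u}) ⟶ Y₁' := IsOpenImmersion.lift Y₁'.ι (W'.ι ≫ g₁) (by
    rw [Scheme.Opens.range_ι]
    rintro _ ⟨w, rfl⟩
    exact w.2.1)
  have hg₁'ι : g₁' ≫ Y₁'.ι = W'.ι ≫ g₁ := IsOpenImmersion.lift_fac _ _ _
  let g₂' : (W' : Scheme.{u}) ⟶ Y₂' := IsOpenImmersion.lift Y₂'.ι (W'.ι ≫ g₂) (by
    rw [Scheme.Opens.range_ι]
    rintro _ ⟨w, rfl⟩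
    exact w.2.2)
  have hg₂'ι : g₂' ≫ Y₂'.ι = W'.ι ≫ g₂ := IsOpenImmersion.lift_fac _ _ _
  haveI : IsOpenImmersion (g₁' ≫ Y₁'.ι) := by rw [hg₁'ι]; infer_instance
  haveI : IsOpenImmersion g₁' := IsOpenImmersion.of_comp g₁' Y₁'.ι
  haveI : IsOpenImmersion (g₂' ≫ Y₂'.ι) := by rw [hg₂'ι]; infer_instance
  haveI : IsOpenImmersion g₂' := IsOpenImmersion.of_comp g₂' Y₂'.ι
  have hg' : g₁' ≫ (Y₁'.ι ≫ p₁) = g₂' ≫ (Y₂'.ι ≫ p₂) := by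
    rw [reassoc_of% hg₁'ι, reassoc_of% hg₂'ι, hg]
  have hk₀W : Set.range k₀ ⊆ Set.range W'.ι := by
    rw [Scheme.Opens.range_ι]
    rintro _ ⟨z, rfl⟩
    constructor
    · show g₁ (k₀ z) ∈ Y₁'
      rw [← Scheme.Hom.comp_apply, hk₀₁, Scheme.Hom.comp_apply]
      exact hR₁ ⟨_, rfl⟩
    · show g₂ (k₀ z) ∈ Y₂'
      rw [← Scheme.Hom.comp_apply, hk₀₂, Scheme.Hom.comp_apply]
      exact hR₂ ⟨_, rfl⟩
  let k₀' : pullback U₁.ι U₂.ι ⟶ W' := IsOpenImmersion.lift W'.ι k₀ hk₀W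
  have hk₀'ι : k₀' ≫ W'.ι = k₀ := IsOpenImmersion.lift_fac _ _ _
  have hk₀₁' : k₀' ≫ g₁' = pullback.fst U₁.ι U₂.ι ≫ k₁' := by
    rw [← cancel_mono Y₁'.ι, Category.assoc, Category.assoc, hg₁'ι, hk₁'ι, reassoc_of% hk₀'ι, hk₀₁]
  have hk₀₂' : k₀' ≫ g₂' = pullback.snd U₁.ι U₂.ι ≫ k₂' := by
    rw [← cancel_mono Y₂'.ι, Category.assoc, Category.assoc, hg₂'ι, hk₂'ι, reassoc_of% hk₀'ι, hk₀₂]
  have h₁' : k₁' ≫ (Y₁'.ι ≫ p₁) = U₁.ι ≫ f := by rw [reassoc_of% hk₁'ι, h₁]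
  have h₂' : k₂' ≫ (Y₂'.ι ≫ p₂) = U₂.ι ≫ f := by rw [reassoc_of% hk₂'ι, h₂]
  -- closedness
  let e : pullback (Y₁'.ι ≫ p₁) (Y₂'.ι ≫ p₂) ⟶ pullback p₁ p₂ :=
    pullback.map (Y₁'.ι ≫ p₁) (Y₂'.ι ≫ p₂) p₁ p₂ Y₁'.ι Y₂'.ι (𝟙 S) (Category.comp_id _)
      (Category.comp_id _)
  let γ' : (W' : Scheme.{u}) ⟶ pullback (Y₁'.ι ≫ p₁) (Y₂'.ι ≫ p₂) := pullback.lift g₁' g₂' hg'
  have hγ'e : γ' ≫ e = W'.ι ≫ γ := by
    apply pullback.hom_ext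
    · simp only [γ', e, γ, Category.assoc, pullback.lift_fst, pullback.lift_fst_assoc]
      exact hg₁'ι
    · simp only [γ', e, γ, Category.assoc, pullback.lift_snd, pullback.lift_snd_assoc]
      exact hg₂'ι
  have he₁ : e ≫ pullback.fst p₁ p₂ = pullback.fst _ _ ≫ Y₁'.ι := pullback.lift_fst _ _ _
  have he₂ : e ≫ pullback.snd p₁ p₂ = pullback.snd _ _ ≫ Y₂'.ι := pullback.lift_snd _ _ _
  have hrange : Set.range γ' = e ⁻¹' closure (Set.range γ) := by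
    apply subset_antisymm
    · rintro _ ⟨w', rfl⟩
      show e (γ' w') ∈ closure (Set.range γ)
      rw [← Scheme.Hom.comp_apply, hγ'e, Scheme.Hom.comp_apply]
      exact subset_closure ⟨_, rfl⟩
    · intro t ht
      have ht1 : pullback.fst p₁ p₂ (e t) ∈ Y₁' := by
        rw [← Scheme.Hom.comp_apply, he₁, Scheme.Hom.comp_apply]
        exact (pullback.fst (Y₁'.ι ≫ p₁) (Y₂'.ι ≫ p₂) t).2
      have ht2 : pullback.snd p₁ p₂ (e t) ∈ Y₂' := by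
        rw [← Scheme.Hom.comp_apply, he₂, Scheme.Hom.comp_apply]
        exact (pullback.snd (Y₁'.ι ≫ p₁) (Y₂'.ι ≫ p₂) t).2
      obtain ⟨w, hw⟩ := hC (e t) ht ht1 ht2
      have hw' : γ w = e t := hw
      have hw1 : g₁ w ∈ Y₁' := by
        rw [← hγ₁, Scheme.Hom.comp_apply, hw']; exact ht1
      have hw2 : g₂ w ∈ Y₂' := by
        rw [← hγ₂, Scheme.Hom.comp_apply, hw']; exact ht2
      refine ⟨⟨w, ⟨hw1, hw2⟩⟩, ?_⟩
      apply e.isOpenEmbedding.injective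
      rw [← Scheme.Hom.comp_apply, hγ'e, Scheme.Hom.comp_apply]
      exact hw'
  have hCl : IsClosed (Set.range γ') := by
    rw [hrange]; exact isClosed_closure.preimage e.continuous
  -- injectivity condition
  have hI' : ∀ w : (W' : Scheme.{u}), g₁' w ∈ Set.range k₁' → g₂' w ∈ Set.range k₂' →
      w ∈ Set.range k₀' := by
    rintro w ⟨u₁, hu₁⟩ ⟨u₂, hu₂⟩
    have e1 : g₁ (W'.ι w) = k₁ u₁ := by
      rw [← Scheme.Hom.comp_apply, ← hg₁'ι, Scheme.Hom.comp_apply, ← hu₁,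
        ← Scheme.Hom.comp_apply, hk₁'ι]
    have e2 : g₂ (W'.ι w) = k₂ u₂ := by
      rw [← Scheme.Hom.comp_apply, ← hg₂'ι, Scheme.Hom.comp_apply, ← hu₂,
        ← Scheme.Hom.comp_apply, hk₂'ι]
    obtain ⟨z, hz⟩ := hI (W'.ι w) ⟨u₁, e1.symm⟩ ⟨u₂, e2.symm⟩
    refine ⟨z, ?_⟩
    apply W'.ι.isOpenEmbedding.injective
    rw [← Scheme.Hom.comp_apply, hk₀'ι]
    exact hz
  exact glue_main f U₁ U₂ hU Y₁' Y₂' k₁' k₂' (Y₁'.ι ≫ p₁) (Y₂'.ι ≫ p₂) hk₁'loc hk₂'loc h₁' h₂'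
    W' g₁' g₂' hg' k₀' hk₀₁' hk₀₂' hCl hI'

end Groth.Agent.Lib.LocImm16_helper6
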