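import Mathlib
import Groth.Agent.Lib.LocImm16_helper6

/-!
# Gluing factorizations over two opens (helper6)
-/

set_option autoImplicit false
set_option linter.all false
set_option backward.isDefEq.respectTransparency false
universe u
open TopologicalSpace CategoryTheory CategoryTheory.Limits AlgebraicGeometry

namespace Groth.Agent.Lib.LocImm17_helper6

open LocImm Groth.Agent.Lib.LocImm11_helper6 Groth.Agent.Lib.LocImm12_helper6
  Groth.Agent.Lib.LocImm13_helper6 Groth.Agent.Lib.LocImm10_helper6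
  Groth.Agent.Lib.LocImm9_helper6 Groth.Agent.Lib.LocImm14_helper6
  Groth.Agent.Lib.LocImm15_helper6 Groth.Agent.Lib.LocImm16_helper6

theorem main18192 {X S : Scheme.{u}} [IsNoetherian X] [IsNoetherian S] (f : X ⟶ S) [IsSeparated f]
    (U₁ U₂ : X.Opens) (hU : U₁ ⊔ U₂ = ⊤) (Y₁ Y₂ : Scheme.{u}) [IsNoetherian Y₁] [IsNoetherian Y₂]
    (k₁ : (U₁ : Scheme.{u}) ⟶ Y₁) (k₂ : (U₂ : Scheme.{u}) ⟶ Y₂) (p₁ : Y₁ ⟶ S) (p₂ : Y₂ ⟶ S)
    (hk₁ : IsLocImmersion k₁) (hk₂ : IsLocImmersion k₂)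
    [IsSeparated p₁] [IsSeparated p₂] [LocallyOfFiniteType p₁] [LocallyOfFiniteType p₂]
    (h₁ : k₁ ≫ p₁ = U₁.ι ≫ f) (h₂ : k₂ ≫ p₂ = U₂.ι ≫ f) :
    ∃ (Y : Scheme.{u}) (k : X ⟶ Y) (p : Y ⟶ S), IsNoetherian Y ∧ IsLocImmersion k ∧
      IsSeparated p ∧ LocallyOfFiniteType p ∧ QuasiCompact p ∧ k ≫ p = f := by
  haveI := isNoetherian_opens U₁
  haveI := isNoetherian_opens U₂
  haveI : QuasiCompact U₂.ι := inferInstance
  haveI hN12 : IsNoetherian (pullback U₁.ι U₂.ι) :=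
    isNoetherian_of_lft_qc (pullback.fst U₁.ι U₂.ι)
  have hκ₁ : IsLocImmersion (pullback.fst U₁.ι U₂.ι ≫ k₁) :=
    isLocImmersion_openImmersion_comp _ k₁ hk₁
  have hκ₂ : IsLocImmersion (pullback.snd U₁.ι U₂.ι ≫ k₂) :=
    isLocImmersion_openImmersion_comp _ k₂ hk₂
  have hκ : (pullback.fst U₁.ι U₂.ι ≫ k₁) ≫ p₁ = (pullback.snd U₁.ι U₂.ι ≫ k₂) ≫ p₂ := by
    rw [Category.assoc, Category.assoc, h₁, h₂, pullback.condition_assoc]
  obtain ⟨W, k₀, g₁, g₂, hk₀, hg₁, hg₂, hg, hk₀₁, hk₀₂, hdom⟩ :=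
    main18193' (pullback.fst U₁.ι U₂.ι ≫ k₁) (pullback.snd U₁.ι U₂.ι ≫ k₂) p₁ p₂ hκ₁ hκ₂ hκ
  let γ : W ⟶ pullback p₁ p₂ := pullback.lift g₁ g₂ hg
  have hγ₁ : γ ≫ pullback.fst p₁ p₂ = g₁ := pullback.lift_fst _ _ _
  have hγ₂ : γ ≫ pullback.snd p₁ p₂ = g₂ := pullback.lift_snd _ _ _
  have hγinj : Function.Injective γ := by
    intro w w' hww'
    apply g₁.isOpenEmbedding.injective
    rw [← hγ₁, Scheme.Hom.comp_apply, Scheme.Hom.comp_apply, hww']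
  let j : pullback U₁.ι U₂.ι ⟶ pullback p₁ p₂ := k₀ ≫ γ
  have hj₁ : j ≫ pullback.fst p₁ p₂ = pullback.fst U₁.ι U₂.ι ≫ k₁ := by
    show (k₀ ≫ γ) ≫ pullback.fst p₁ p₂ = _
    rw [Category.assoc, hγ₁, hk₀₁]
  have hj₂ : j ≫ pullback.snd p₁ p₂ = pullback.snd U₁.ι U₂.ι ≫ k₂ := by
    show (k₀ ≫ γ) ≫ pullback.snd p₁ p₂ = _
    rw [Category.assoc, hγ₂, hk₀₂]
  -- the closure of the range of `γ` is the closure of the range of `j`
  have hΓ : closure (Set.range γ) ⊆ closure (Set.range j) := by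
    apply closure_minimal _ isClosed_closure
    rintro _ ⟨w, rfl⟩
    have hw : w ∈ closure (Set.range k₀) := by
      rw [k₀.denseRange.closure_eq]; trivial
    have := image_closure_subset_closure_image γ.continuous ⟨w, hw, rfl⟩
    rw [← Set.range_comp] at this
    exact this
  have hKTF : ∀ t ∈ closure (Set.range γ), pullback.fst p₁ p₂ t ∈ Set.range k₁ →
      pullback.snd p₁ p₂ t ∈ Set.range k₂ → t ∈ Set.range j := fun t ht ht₁ ht₂ =>
    ktf f U₁ U₂ Y₁ Y₂ k₁ k₂ p₁ p₂ hk₁ hk₂ h₁ h₂ j hj₁ hj₂ t (hΓ ht) ht₁ ht₂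
  -- the range of `γ` is open in its closure
  have hopen : ∀ t ∈ closure (Set.range γ), pullback.fst p₁ p₂ t ∈ Set.range g₁ →
      t ∈ Set.range γ := by
    intro t ht htO
    let σ : W ⟶ pullback g₁ (pullback.fst p₁ p₂) := pullback.lift (𝟙 W) γ (by rw [Category.id_comp, hγ₁])
    have hσ₁ : σ ≫ pullback.fst g₁ (pullback.fst p₁ p₂) = 𝟙 W := pullback.lift_fst _ _ _
    have hσ₂ : σ ≫ pullback.snd g₁ (pullback.fst p₁ p₂) = γ := pullback.lift_snd _ _ _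
    haveI : IsClosedImmersion (σ ≫ pullback.fst g₁ (pullback.fst p₁ p₂)) := by
      rw [hσ₁]; infer_instance
    haveI : IsClosedImmersion σ := IsClosedImmersion.of_comp σ (pullback.fst g₁ (pullback.fst p₁ p₂))
    have hcl : IsClosed (Set.range σ) := σ.isClosedEmbedding.isClosed_range
    have htr : t ∈ Set.range (pullback.snd g₁ (pullback.fst p₁ p₂)) := by
      rw [Scheme.Pullback.range_snd]; exact htO
    obtain ⟨q, rfl⟩ := htr
    have hemb := (pullback.snd g₁ (pullback.fst p₁ p₂)).isOpenEmbedding.isEmbedding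
    have hq : q ∈ closure (Set.range σ) := by
      rw [hemb.closure_eq_preimage_closure_image]
      show pullback.snd g₁ (pullback.fst p₁ p₂) q ∈
        closure ((fun x => pullback.snd g₁ (pullback.fst p₁ p₂) x) '' Set.range (fun x => σ x))
      rw [← Set.range_comp]
      have : (fun x => pullback.snd g₁ (pullback.fst p₁ p₂) x) ∘ (fun x => σ x) = fun x => γ x := by
        funext x
        show pullback.snd g₁ (pullback.fst p₁ p₂) (σ x) = γ x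
        rw [← Scheme.Hom.comp_apply, hσ₂]
      rw [this]
      exact ht
    rw [hcl.closure_eq] at hq
    obtain ⟨w, rfl⟩ := hq
    exact ⟨w, by rw [← Scheme.Hom.comp_apply, hσ₂]⟩
  let C : Set (pullback p₁ p₂ : Scheme.{u}) :=
    closure (Set.range γ) ∩ (pullback.fst p₁ p₂ ⁻¹' Set.range g₁)ᶜ
  have hCcl : IsClosed C :=
    isClosed_closure.inter
      (g₁.isOpenEmbedding.isOpen_range.preimage (pullback.fst p₁ p₂).continuous).isClosed_compl
  have hCdisj : ∀ t ∈ C, pullback.fst p₁ p₂ t ∈ Set.range k₁ →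
      pullback.snd p₁ p₂ t ∈ Set.range k₂ → False := by
    rintro t ⟨ht, htO⟩ ht₁ ht₂
    obtain ⟨u, rfl⟩ := hKTF t ht ht₁ ht₂
    apply htO
    refine ⟨k₀ u, ?_⟩
    show g₁ (k₀ u) = pullback.fst p₁ p₂ (j u)
    rw [← Scheme.Hom.comp_apply, ← Scheme.Hom.comp_apply, hj₁, hk₀₁]
  obtain ⟨-, hgen₁, -⟩ := LocImm2_helper6.locImmersion_props k₁ hk₁
  obtain ⟨-, hgen₂, -⟩ := LocImm2_helper6.locImmersion_props k₂ hk₂
  haveI : QuasiCompact p₁ := inferInstance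
  haveI : IsNoetherian (pullback p₁ p₂) := isNoetherian_of_lft_qc (pullback.snd p₁ p₂)
  obtain ⟨O₁, O₂, hO₁, hO₂, hR₁, hR₂, hOdisj⟩ :=
    exists_opens_disjoint (fun t => pullback.fst p₁ p₂ t) (fun t => pullback.snd p₁ p₂ t)
      (pullback.fst p₁ p₂).continuous (pullback.snd p₁ p₂).continuous C hCcl
      (Set.range (fun x => k₁ x)) (Set.range (fun x => k₂ x)) hgen₁ hgen₂ hCdisj
  refine glue_of_opens f U₁ U₂ hU Y₁ Y₂ k₁ k₂ p₁ p₂ hk₁ hk₂ h₁ h₂ W g₁ g₂ hg k₀ hk₀₁ hk₀₂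
    ⟨O₁, hO₁⟩ ⟨O₂, hO₂⟩ hR₁ hR₂ ?_ ?_
  · intro t ht ht₁ ht₂
    by_cases htO : pullback.fst p₁ p₂ t ∈ Set.range g₁
    · exact hopen t ht htO
    · exact (hOdisj t ⟨ht, htO⟩ ht₁ ht₂).elim
  · intro w hw₁ hw₂
    have ht : γ w ∈ closure (Set.range γ) := subset_closure ⟨w, rfl⟩
    have ht₁ : pullback.fst p₁ p₂ (γ w) ∈ Set.range k₁ := by
      rw [← Scheme.Hom.comp_apply, hγ₁]; exact hw₁
    have ht₂ : pullback.snd p₁ p₂ (γ w) ∈ Set.range k₂ := by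
      rw [← Scheme.Hom.comp_apply, hγ₂]; exact hw₂
    obtain ⟨z, hz⟩ := hKTF (γ w) ht ht₁ ht₂
    exact ⟨z, hγinj hz⟩

end Groth.Agent.Lib.LocImm17_helper6
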