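import Mathlib
import Groth.Agent.Lib.LocImm17_helper6

/-!
# Factorization of separated essentially finite type morphisms (helper6)
-/

set_option autoImplicit false
set_option linter.all false
set_option backward.isDefEq.respectTransparency false
universe u
open TopologicalSpace CategoryTheory CategoryTheory.Limits AlgebraicGeometry

namespace Groth.Agent.Lib.LocImm18_helper6

open LocImm Groth.Agent.Lib.LocImm11_helper6 Groth.Agent.Lib.LocImm10_helper6
  Groth.Agent.Lib.LocImm9_helper6 Groth.Agent.Lib.LocImm17_helper6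

theorem isLocHom_algebraMap {A B : Type u} [CommRing A] [CommRing B] [Algebra A B]
    (M : Submonoid A) [IsLocalization M B] : IsLocHom (algebraMap A B) := by
  unfold IsLocHom
  rw [toAlgebra_algebraMap]
  exact ⟨M, inferInstance⟩

theorem isLocalizing_SpecMap {R T : CommRingCat.{u}} (ψ : R ⟶ T) (h : IsLocHom ψ.hom) :
    IsLocalizing (Spec.map ψ) := by
  intro x
  refine ⟨⟨⊤, isAffineOpen_top _⟩, ⟨Spec.map ψ ⁻¹ᵁ ⊤, isAffineOpen_top _⟩, trivial, le_rfl, ?_⟩
  show IsLocHom ((Spec.map ψ).appLE ⊤ (Spec.map ψ ⁻¹ᵁ ⊤) le_rfl).hom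
  rw [Scheme.Hom.appLE_eq_app]
  have h1 : (Spec.map ψ).app ⊤ = (Scheme.ΓSpecIso R).hom ≫ ψ ≫ (Scheme.ΓSpecIso T).inv := by
    have := Scheme.ΓSpecIso_naturality ψ
    rw [← Category.assoc, ← this, Category.assoc, Iso.hom_inv_id, Category.comp_id]
  rw [h1, CommRingCat.hom_comp, CommRingCat.hom_comp]
  refine isLocHom_comp_bijective_left _ _
    (ConcreteCategory.bijective_of_isIso (Scheme.ΓSpecIso R).hom) ?_
  exact isLocHom_comp_of_bijective _ _
    (ConcreteCategory.bijective_of_isIso (Scheme.ΓSpecIso T).inv) h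

theorem exists_factor_affine {X S : Scheme.{u}} [IsNoetherian S] (f : X ⟶ S)
    (U : S.affineOpens) (V : X.affineOpens) (e : V.1 ≤ f ⁻¹ᵁ U.1)
    (hess : (f.appLE U.1 V.1 e).hom.EssFiniteType) :
    ∃ (Y : Scheme.{u}) (k : (V.1 : Scheme.{u}) ⟶ Y) (p : Y ⟶ S), IsNoetherian Y ∧
      IsLocImmersion k ∧ IsSeparated p ∧ LocallyOfFiniteType p ∧ QuasiCompact p ∧
      k ≫ p = V.1.ι ≫ f := by
  letI : Algebra Γ(S, U.1) Γ(X, V.1) := (f.appLE U.1 V.1 e).hom.toAlgebra
  have hess' : Algebra.EssFiniteType Γ(S, U.1) Γ(X, V.1) := hess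
  obtain ⟨B₀, M, hft, hloc⟩ := (Algebra.essFiniteType_iff_exists_subalgebra _ _).mp hess'
  haveI := hloc
  haveI := hft
  haveI : IsNoetherianRing Γ(S, U.1) := IsLocallyNoetherian.component_noetherian U
  haveI : IsNoetherianRing B₀ := Algebra.FiniteType.isNoetherianRing Γ(S, U.1) B₀
  let ψ : CommRingCat.of B₀ ⟶ Γ(X, V.1) := CommRingCat.ofHom (algebraMap B₀ Γ(X, V.1))
  let α : Γ(S, U.1) ⟶ CommRingCat.of B₀ := CommRingCat.ofHom (algebraMap Γ(S, U.1) B₀)
  have hαψ : α ≫ ψ = f.appLE U.1 V.1 e := by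
    ext a
    rfl
  have hψ : IsLocHom ψ.hom := isLocHom_algebraMap M
  have hα : α.hom.FiniteType := RingHom.finiteType_algebraMap.mpr hft
  haveI : LocallyOfFiniteType (Spec.map α) := HasRingHomProperty.Spec_iff.mpr hα
  refine ⟨Spec (CommRingCat.of B₀), V.2.isoSpec.hom ≫ Spec.map ψ, Spec.map α ≫ U.2.fromSpec,
    inferInstance, ⟨?_, ?_⟩, inferInstance, inferInstance, inferInstance, ?_⟩
  · exact isLocalizing_openImmersion_comp _ _ (isLocalizing_SpecMap ψ hψ)
  · intro x x' hxx'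
    have h1 : (Spec.map ψ) (V.2.isoSpec.hom x) = (Spec.map ψ) (V.2.isoSpec.hom x') := hxx'
    have h2 : Function.Injective (Spec.map ψ) :=
      PrimeSpectrum.localization_comap_injective Γ(X, V.1) M
    exact V.2.isoSpec.hom.isOpenEmbedding.injective (h2 h1)
  · rw [Category.assoc, ← Category.assoc (Spec.map ψ), ← Spec.map_comp, hαψ,
      IsAffineOpen.SpecMap_appLE_fromSpec f U.2 V.2 e, IsAffineOpen.isoSpec_hom_fromSpec_assoc]

/-- the factorization for an open subscheme contained in a good affine open -/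
theorem exists_factor_of_le_affine {X S : Scheme.{u}} [IsNoetherian S] (f : X ⟶ S)
    (U : S.affineOpens) (V : X.affineOpens) (e : V.1 ≤ f ⁻¹ᵁ U.1)
    (hess : (f.appLE U.1 V.1 e).hom.EssFiniteType)
    {X' : Scheme.{u}} (i : X' ⟶ X) [IsOpenImmersion i] (hi : Set.range i ⊆ (V.1 : Set X)) :
    ∃ (Y : Scheme.{u}) (k : X' ⟶ Y) (p : Y ⟶ S), IsNoetherian Y ∧
      IsLocImmersion k ∧ IsSeparated p ∧ LocallyOfFiniteType p ∧ QuasiCompact p ∧
      k ≫ p = i ≫ f := by
  obtain ⟨Y, k₀, p, hY, hk₀, hp₁, hp₂, hp₃, hkp⟩ := exists_factor_affine f U V e hess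
  let l : X' ⟶ V.1 := IsOpenImmersion.lift V.1.ι i (by rw [Scheme.Opens.range_ι]; exact hi)
  have hl : l ≫ V.1.ι = i := IsOpenImmersion.lift_fac _ _ _
  haveI : IsOpenImmersion (l ≫ V.1.ι) := by rw [hl]; infer_instance
  haveI : IsOpenImmersion l := IsOpenImmersion.of_comp l V.1.ι
  refine ⟨Y, l ≫ k₀, p, hY, isLocImmersion_openImmersion_comp l k₀ hk₀, hp₁, hp₂, hp₃, ?_⟩
  rw [Category.assoc, hkp, reassoc_of% hl]

theorem main18191 {X S : Scheme.{u}} [IsNoetherian X] [IsNoetherian S] (f : X ⟶ S)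
    [IsSeparated f] [EssFT.LocallyEssFiniteType f] :
    ∃ (Y : Scheme.{u}) (k : X ⟶ Y) (p : Y ⟶ S), IsNoetherian Y ∧ IsLocImmersion k ∧
      IsSeparated p ∧ LocallyOfFiniteType p ∧ QuasiCompact p ∧ k ≫ p = f := by
  classical
  have hloc := fun x => EssFT.LocallyEssFiniteType.exists_appLE_essFiniteType (f := f) x
  choose U V hxV e hess using hloc
  -- the inductive statement
  have key : ∀ (t : Finset X) (X' : Scheme.{u}) [IsNoetherian X'] (i : X' ⟶ X)
      [IsOpenImmersion i], Set.range i ⊆ ⋃ x ∈ t, ((V x).1 : Set X) →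
      ∃ (Y : Scheme.{u}) (k : X' ⟶ Y) (p : Y ⟶ S), IsNoetherian Y ∧ IsLocImmersion k ∧
        IsSeparated p ∧ LocallyOfFiniteType p ∧ QuasiCompact p ∧ k ≫ p = i ≫ f := by
    intro t
    induction t using Finset.induction_on with
    | empty =>
      intro X' _ i _ hi
      have hempty : ∀ x : X', False := fun x => by
        have := hi ⟨x, rfl⟩
        simp at this
      refine ⟨S, i ≫ f, 𝟙 S, inferInstance, ⟨fun x => (hempty x).elim,
        fun x => (hempty x).elim⟩, inferInstance, inferInstance, inferInstance,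
        Category.comp_id _⟩
    | insert a t hat ih =>
      intro X' _ i _ hi
      let O : X.Opens := ⨆ x ∈ t, (V x).1
      let U₁ : X'.Opens := i ⁻¹ᵁ O
      let U₂ : X'.Opens := i ⁻¹ᵁ (V a).1
      have hU : U₁ ⊔ U₂ = ⊤ := by
        apply top_unique
        intro x _
        have hx := hi ⟨x, rfl⟩
        simp only [Finset.mem_insert, Set.iUnion_iUnion_eq_or_left, Set.mem_union,
          Set.mem_iUnion, exists_prop] at hx
        rcases hx with hx | ⟨y, hy, hxy⟩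
        · exact Or.inr hx
        · refine Or.inl ?_
          show i x ∈ O
          exact Opens.mem_iSup.mpr ⟨y, Opens.mem_iSup.mpr ⟨hy, hxy⟩⟩
      haveI := isNoetherian_opens U₁
      haveI := isNoetherian_opens U₂
      have hr₁ : Set.range (U₁.ι ≫ i) ⊆ ⋃ x ∈ t, ((V x).1 : Set X) := by
        rintro _ ⟨z, rfl⟩
        have hz : i (U₁.ι z) ∈ O := z.2
        obtain ⟨y, hy⟩ := Opens.mem_iSup.mp hz
        obtain ⟨hyt, hy'⟩ := Opens.mem_iSup.mp hy
        simp only [Set.mem_iUnion, exists_prop]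
        exact ⟨y, hyt, hy'⟩
      have hr₂ : Set.range (U₂.ι ≫ i) ⊆ ((V a).1 : Set X) := by
        rintro _ ⟨z, rfl⟩
        exact z.2
      obtain ⟨Y₁, k₁, p₁, hY₁, hk₁, hp₁s, hp₁f, hp₁q, h₁⟩ := ih U₁ (U₁.ι ≫ i) hr₁
      obtain ⟨Y₂, k₂, p₂, hY₂, hk₂, hp₂s, hp₂f, hp₂q, h₂⟩ :=
        exists_factor_of_le_affine f (U a) (V a) (e a) (hess a) (U₂.ι ≫ i) hr₂
      exact main18192 (i ≫ f) U₁ U₂ hU Y₁ Y₂ k₁ k₂ p₁ p₂ hk₁ hk₂
        (by rw [h₁, Category.assoc]) (by rw [h₂, Category.assoc])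
  -- finite subcover
  obtain ⟨t, ht⟩ := isCompact_univ.elim_finite_subcover (fun x : X => ((V x).1 : Set X))
    (fun x => (V x).1.2) (fun x _ => Set.mem_iUnion.mpr ⟨x, hxV x⟩)
  obtain ⟨Y, k, p, hY, hk, hp₁, hp₂, hp₃, hkp⟩ := key t X (𝟙 X) (fun x _ => ht (Set.mem_univ x))
  exact ⟨Y, k, p, hY, hk, hp₁, hp₂, hp₃, by rw [hkp, Category.id_comp]⟩

end Groth.Agent.Lib.LocImm18_helper6
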