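import Mathlib
import Groth.Agent.Lib.LocImm18_helper6

/-!
# Separated, universally closed and essentially of finite type implies proper (helper6)
-/

set_option autoImplicit false
set_option linter.all false
set_option backward.isDefEq.respectTransparency false
universe u
open TopologicalSpace CategoryTheory CategoryTheory.Limits AlgebraicGeometry

namespace Groth.Agent.Lib.LocImm19_helper6

open LocImm Groth.Agent.Lib.LocImm18_helper6

theorem main18199 {X S : Scheme.{u}} [IsNoetherian X] [IsNoetherian S] (f : X ⟶ S)
    [IsSeparated f] [EssFT.LocallyEssFiniteType f] [UniversallyClosed f] : IsProper f := by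
  obtain ⟨Y, k, p, hY, hk, hp₁, hp₂, hp₃, hkp⟩ := main18191 f
  subst hkp
  haveI : UniversallyClosed k := UniversallyClosed.of_comp_of_isSeparated k p
  have hc : IsClosed (Set.range (fun x => k x)) := k.isClosedMap.isClosed_range
  haveI : IsOpenImmersion k := LocImm_helper6.isOpenImmersion_of_isClosed_range k hk hc
  haveI : LocallyOfFiniteType (k ≫ p) := inferInstance
  exact { }

end Groth.Agent.Lib.LocImm19_helper6
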