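import Mathlib
import Groth.Agent.Lib.LocImm18_helper6
import Groth.Agent.S0385

/-!
# Essentially quasi-finite separated morphisms factor as loc. immersion followed by finite (helper6)
-/

set_option autoImplicit false
set_option linter.all false
set_option backward.isDefEq.respectTransparency false
universe u
open TopologicalSpace CategoryTheory CategoryTheory.Limits AlgebraicGeometry

namespace Groth.Agent.Lib.LocImm20_helper6

open LocImm Groth.Agent.Lib.LocImm18_helper6 Groth.Agent.Lib.LocImm11_helper6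
  Groth.Agent.Lib.LocImm10_helper6

theorem quasiFiniteAt_comp_iff_of_isIso_stalkMap {X Y Z : Scheme.{u}} (k : X ⟶ Y) (p : Y ⟶ Z)
    (x : X) [IsIso (k.stalkMap x)] : (k ≫ p).QuasiFiniteAt x ↔ p.QuasiFiniteAt (k x) := by
  simp only [Scheme.Hom.QuasiFiniteAt, Scheme.Hom.stalkMap_comp, CommRingCat.hom_comp,
    RingHom.QuasiFinite.respectsIso.cancel_right_isIso]

theorem main18200 {X Y : Scheme.{u}} [IsNoetherian X] [IsNoetherian Y] (f : X ⟶ Y)
    [IsSeparated f] [EssFT.LocallyEssFiniteType f] [LocallyQuasiFinite f] :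
    ∃ (Z : Scheme.{u}) (i : X ⟶ Z) (h : Z ⟶ Y), IsNoetherian Z ∧ IsLocImmersion i ∧
      IsFinite h ∧ i ≫ h = f := by
  obtain ⟨Z₀, k, p, hZ₀, hk, hp₁, hp₂, hp₃, hkp⟩ := main18191 f
  subst hkp
  obtain ⟨-, -, hiso⟩ := LocImm2_helper6.locImmersion_props k hk
  have hkQ : Set.range k ⊆ Set.range p.quasiFiniteLocus.ι := by
    rw [Scheme.Opens.range_ι]
    rintro _ ⟨x, rfl⟩
    haveI := hiso x
    show p.QuasiFiniteAt (k x)
    rw [← quasiFiniteAt_comp_iff_of_isIso_stalkMap]
    exact (k ≫ p).quasiFiniteAt x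
  let k' : X ⟶ p.quasiFiniteLocus := IsOpenImmersion.lift p.quasiFiniteLocus.ι k hkQ
  have hk' : k' ≫ p.quasiFiniteLocus.ι = k := IsOpenImmersion.lift_fac _ _ _
  have hk'loc : IsLocImmersion k' :=
    isLocImmersion_of_comp_openImmersion k' p.quasiFiniteLocus.ι (by rw [hk']; exact hk)
  haveI := isNoetherian_opens p.quasiFiniteLocus
  haveI : QuasiCompact (p.quasiFiniteLocus.ι ≫ p) := inferInstance
  obtain ⟨T, j, π, hj, -, hπ, hjπ⟩ := Groth.Agent.S0385.result (p.quasiFiniteLocus.ι ≫ p)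
  haveI : LocallyOfFiniteType π := inferInstance
  haveI : QuasiCompact π := inferInstance
  refine ⟨T, k' ≫ j, π, isNoetherian_of_lft_qc π, isLocImmersion_comp_openImmersion k' j hk'loc,
    hπ, ?_⟩
  rw [Category.assoc, hjπ, reassoc_of% hk']

end Groth.Agent.Lib.LocImm20_helper6
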