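import Mathlib
import Groth.Agent.Lib.LocImm18_helper6
import Groth.Agent.S0386

/-!
# Localizable properties and the flat locus for essentially finite type morphisms (helper6)
-/

set_option autoImplicit false
set_option linter.all false
set_option backward.isDefEq.respectTransparency false
universe u
open TopologicalSpace CategoryTheory CategoryTheory.Limits AlgebraicGeometry

namespace Groth.Agent.Lib.LocImm21_helper6

open LocImm Groth.Agent.Lib.LocImm18_helper6 Groth.Agent.Lib.LocImm11_helper6
  Groth.Agent.Lib.LocImm10_helper6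

theorem isLocHom_of_bijective {A B : Type u} [CommRing A] [CommRing B] (φ : A →+* B)
    (h : Function.Bijective φ) : IsLocHom φ := by
  letI := φ.toAlgebra
  refine ⟨⊥, ⟨?_, ?_, ?_⟩⟩
  · rintro ⟨a, ha⟩
    rw [Submonoid.mem_bot] at ha
    subst ha
    show IsUnit (φ 1)
    rw [map_one]; exact isUnit_one
  · intro z
    obtain ⟨a, rfl⟩ := h.2 z
    exact ⟨⟨a, 1⟩, by show φ a * φ 1 = φ a; rw [map_one, mul_one]⟩
  · intro a b hab
    exact ⟨1, by rw [h.1 hab]⟩

theorem isLocalizing_id (X : Scheme.{u}) : IsLocalizing (𝟙 X) := by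
  intro x
  obtain ⟨_, ⟨U, hU, rfl⟩, hxU, -⟩ := X.isBasis_affineOpens.exists_subset_of_mem_open
    (Set.mem_univ x) isOpen_univ
  refine ⟨⟨U, hU⟩, ⟨U, hU⟩, hxU, le_rfl, ?_⟩
  apply isLocHom_of_bijective
  have : (𝟙 X : X ⟶ X).appLE U U le_rfl = 𝟙 _ := by
    simp only [Scheme.Hom.appLE, Scheme.Hom.id_app, Category.id_comp]
    exact X.presheaf.map_id _
  show Function.Bijective ((𝟙 X : X ⟶ X).appLE U U le_rfl).hom
  rw [this]
  exact Function.bijective_id

theorem isLocImmersion_of_isIso {X Y : Scheme.{u}} (e : X ⟶ Y) [IsIso e] : IsLocImmersion e := by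
  have h := isLocalizing_openImmersion_comp e (𝟙 Y) (isLocalizing_id Y)
  rw [Category.comp_id] at h
  exact ⟨h, e.isOpenEmbedding.injective⟩

theorem isLocImmersion_fromSpecStalk (X : Scheme.{u}) (x : X) :
    IsLocImmersion (X.fromSpecStalk x) := by
  refine ⟨?_, (X.fromSpecStalk x).isEmbedding.injective⟩
  obtain ⟨_, ⟨U, hU, rfl⟩, hxU, -⟩ := X.isBasis_affineOpens.exists_subset_of_mem_open
    (Set.mem_univ x) isOpen_univ
  rw [← IsAffineOpen.fromSpecStalk_eq_fromSpecStalk hU hxU, IsAffineOpen.fromSpecStalk]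
  apply isLocalizing_comp_openImmersion
  apply isLocalizing_SpecMap
  letI := TopCat.Presheaf.algebra_section_stalk X.presheaf (⟨x, hxU⟩ : U)
  haveI := hU.isLocalization_stalk ⟨x, hxU⟩
  exact ⟨_, this⟩

instance : MorphismProperty.IsStableUnderComposition
    (@EssFT.LocallyEssFiniteType : MorphismProperty Scheme.{u}) :=
  HasRingHomProperty.stableUnderComposition
    (RingHom.locally_stableUnderComposition RingHom.EssFiniteType.respectsIso
      RingHom.EssFiniteType.isStableUnderBaseChange.localizationPreserves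
      RingHom.EssFiniteType.stableUnderComposition)

theorem locallyEssFiniteType_comp {X Y Z : Scheme.{u}} (f : X ⟶ Y) (g : Y ⟶ Z)
    [EssFT.LocallyEssFiniteType f] [EssFT.LocallyEssFiniteType g] :
    EssFT.LocallyEssFiniteType (f ≫ g) :=
  MorphismProperty.comp_mem _ f g ‹_› ‹_›

theorem locallyEssFiniteType_fromSpecStalk (X : Scheme.{u}) (x : X) :
    EssFT.LocallyEssFiniteType (X.fromSpecStalk x) := by
  obtain ⟨_, ⟨U, hU, rfl⟩, hxU, -⟩ := X.isBasis_affineOpens.exists_subset_of_mem_open
    (Set.mem_univ x) isOpen_univ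
  rw [← IsAffineOpen.fromSpecStalk_eq_fromSpecStalk hU hxU, IsAffineOpen.fromSpecStalk]
  haveI : EssFT.LocallyEssFiniteType (Spec.map (X.presheaf.germ U x hxU)) := by
    rw [HasRingHomProperty.Spec_iff (P := @EssFT.LocallyEssFiniteType)]
    apply RingHom.locally_of RingHom.EssFiniteType.respectsIso
    letI := TopCat.Presheaf.algebra_section_stalk X.presheaf (⟨x, hxU⟩ : U)
    haveI := hU.isLocalization_stalk ⟨x, hxU⟩
    have : Algebra.EssFiniteType Γ(X, U) (X.presheaf.stalk x) :=
      Algebra.EssFiniteType.of_isLocalization _ (hU.primeIdealOf ⟨x, hxU⟩).asIdeal.primeCompl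
    exact this
  haveI : EssFT.LocallyEssFiniteType hU.fromSpec := locallyEssFiniteType_of_lft _
  exact locallyEssFiniteType_comp _ _

theorem essFiniteType_fromSpecStalk_comp {X Y : Scheme.{u}} [QuasiSeparatedSpace Y] (f : X ⟶ Y)
    [EssFT.LocallyEssFiniteType f] (x : X) : EssFT.EssFiniteType (X.fromSpecStalk x ≫ f) := by
  haveI := locallyEssFiniteType_fromSpecStalk X x
  haveI := locallyEssFiniteType_comp (X.fromSpecStalk x) f
  haveI : QuasiCompact (X.fromSpecStalk x ≫ f) := inferInstance
  exact { }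

theorem flat_transport {X Y : Scheme.{u}} (f : X ⟶ Y) {x x' : X} (h : x' = x)
    (hf : (f.stalkMap x').hom.Flat) : (f.stalkMap x).hom.Flat := by
  subst h; exact hf

theorem flat_fromSpecStalk_comp_iff {X Y : Scheme.{u}} (f : X ⟶ Y) (x : X) :
    Flat (X.fromSpecStalk x ≫ f) ↔ (f.stalkMap x).hom.Flat := by
  constructor
  · intro h
    have h1 := Flat.stalkMap (X.fromSpecStalk x ≫ f) (IsLocalRing.closedPoint _)
    have h2 : (Scheme.stalkClosedPointTo (X.fromSpecStalk x ≫ f)).hom.Flat := by
      show (((X.fromSpecStalk x ≫ f).stalkMap (IsLocalRing.closedPoint _) ≫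
        (stalkClosedPointIso _).hom)).hom.Flat
      rw [CommRingCat.hom_comp, RingHom.Flat.respectsIso.cancel_right_isIso]
      exact h1
    rw [Scheme.stalkClosedPointTo_comp, Scheme.stalkClosedPointTo_fromSpecStalk,
      CommRingCat.hom_comp, RingHom.Flat.respectsIso.cancel_right_isIso] at h2
    exact flat_transport f Scheme.fromSpecStalk_closedPoint h2
  · intro h
    rw [← Scheme.SpecMap_stalkMap_fromSpecStalk]
    haveI : Flat (Spec.map (f.stalkMap x)) := Flat.SpecMap_iff.mpr h
    haveI : Flat (Y.fromSpecStalk (f x)) :=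
      LocImm_helper6.flat_of_isLocalizing _ (isLocImmersion_fromSpecStalk Y (f x)).1
    infer_instance

end Groth.Agent.Lib.LocImm21_helper6
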