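import Mathlib
import Groth.Agent.Lib.LocImm21_helper6

/-!
# Localizable properties and the flat locus: main theorems (helper6)
-/

set_option autoImplicit false
set_option linter.all false
set_option backward.isDefEq.respectTransparency false
universe u
open TopologicalSpace CategoryTheory CategoryTheory.Limits AlgebraicGeometry

namespace Groth.Agent.Lib.LocImm22_helper6

open LocImm Groth.Agent.Lib.LocImm18_helper6 Groth.Agent.Lib.LocImm11_helper6
  Groth.Agent.Lib.LocImm10_helper6 Groth.Agent.Lib.LocImm21_helper6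

theorem main18213 {X Y : Scheme.{u}} [IsNoetherian X] [IsNoetherian Y] (f : X ⟶ Y)
    [IsSeparated f] [EssFT.LocallyEssFiniteType f] :
    IsOpen {x : X | Flat (X.fromSpecStalk x ≫ f)} ∧
      (Flat f → ∃ (Z : Scheme.{u}) (i : X ⟶ Z) (h : Z ⟶ Y), IsNoetherian Z ∧ IsLocImmersion i ∧
        IsSeparated h ∧ LocallyOfFiniteType h ∧ QuasiCompact h ∧ Flat h ∧ i ≫ h = f) := by
  obtain ⟨Z, k, p, hZ, hk, hp₁, hp₂, hp₃, hkp⟩ := main18191 f
  subst hkp
  obtain ⟨-, -, hiso⟩ := LocImm2_helper6.locImmersion_props k hk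
  haveI : LocallyOfFinitePresentation p := inferInstance
  have hopen : IsOpen {z : Z | (p.stalkMap z).hom.Flat} := Groth.Agent.S0386.result p
  have hrel : ∀ x : X, ((k ≫ p).stalkMap x).hom.Flat ↔ (p.stalkMap (k x)).hom.Flat := by
    intro x
    haveI := hiso x
    rw [Scheme.Hom.stalkMap_comp, CommRingCat.hom_comp,
      RingHom.Flat.respectsIso.cancel_right_isIso]
  have hset : {x : X | Flat (X.fromSpecStalk x ≫ k ≫ p)} =
      (fun x => k x) ⁻¹' {z | (p.stalkMap z).hom.Flat} := by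
    ext x
    simp only [Set.mem_setOf_eq, Set.mem_preimage]
    rw [flat_fromSpecStalk_comp_iff, hrel]
  refine ⟨by rw [hset]; exact hopen.preimage k.continuous, ?_⟩
  intro hflat
  let V : Z.Opens := ⟨_, hopen⟩
  have hkV : Set.range k ⊆ Set.range V.ι := by
    rw [Scheme.Opens.range_ι]
    rintro _ ⟨x, rfl⟩
    exact (hrel x).mp (Flat.stalkMap (k ≫ p) x)
  let k' : X ⟶ V := IsOpenImmersion.lift V.ι k hkV
  have hk' : k' ≫ V.ι = k := IsOpenImmersion.lift_fac _ _ _
  haveI := isNoetherian_opens V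
  haveI : Flat (V.ι ≫ p) := by
    rw [Flat.iff_flat_stalkMap]
    intro z
    rw [Scheme.Hom.stalkMap_comp, CommRingCat.hom_comp,
      RingHom.Flat.respectsIso.cancel_right_isIso]
    exact z.2
  haveI : QuasiCompact (V.ι ≫ p) := inferInstance
  exact ⟨V, k', V.ι ≫ p, inferInstance,
    isLocImmersion_of_comp_openImmersion k' V.ι (by rw [hk']; exact hk), inferInstance,
    inferInstance, inferInstance, inferInstance, by rw [reassoc_of% hk']⟩

theorem locallyEssFiniteType_of_isLocalizing {X Y : Scheme.{u}} (f : X ⟶ Y)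
    (hf : IsLocalizing f) : EssFT.LocallyEssFiniteType f := by
  constructor
  intro x
  obtain ⟨U, V, hxV, e, hloc⟩ := hf x
  refine ⟨U, V, hxV, e, ?_⟩
  letI := (f.appLE U.1 V.1 e).hom.toAlgebra
  obtain ⟨S, hS⟩ := hloc
  haveI := hS
  exact Algebra.EssFiniteType.of_isLocalization _ S

section P

variable (P : MorphismProperty Scheme.{u})
  (hα : ∀ {W X Y : Scheme.{u}} [IsNoetherian W] [IsNoetherian X] [IsNoetherian Y] (i : W ⟶ X)
    (f : X ⟶ Y) [IsSeparated f] [EssFT.EssFiniteType f], LocImm.IsLocImmersion i → P f →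
    P (i ≫ f))

include hα in
/-- invariance of the stalk-wise property under a localizing immersion -/
theorem P_fromSpecStalk_iff {X Z Y : Scheme.{u}} [IsNoetherian X] [IsNoetherian Z]
    [IsNoetherian Y] (k : X ⟶ Z) (hk : IsLocImmersion k) (g : Z ⟶ Y) [IsSeparated g]
    [EssFT.LocallyEssFiniteType g] (x : X) :
    P (X.fromSpecStalk x ≫ k ≫ g) ↔ P (Z.fromSpecStalk (k x) ≫ g) := by
  obtain ⟨-, -, hiso⟩ := LocImm2_helper6.locImmersion_props k hk
  haveI := hiso x
  haveI := LocImm_helper6.mono_of_isLocImmersion k hk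
  have hfac : X.fromSpecStalk x ≫ k ≫ g =
      Spec.map (k.stalkMap x) ≫ Z.fromSpecStalk (k x) ≫ g := by
    rw [← Category.assoc, ← Scheme.SpecMap_stalkMap_fromSpecStalk, Category.assoc]
  haveI : EssFT.EssFiniteType (Z.fromSpecStalk (k x) ≫ g) :=
    essFiniteType_fromSpecStalk_comp g (k x)
  haveI : EssFT.LocallyEssFiniteType k := locallyEssFiniteType_of_isLocalizing k hk.1
  haveI : EssFT.LocallyEssFiniteType (k ≫ g) := locallyEssFiniteType_comp k g
  haveI : EssFT.EssFiniteType (X.fromSpecStalk x ≫ k ≫ g) :=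
    essFiniteType_fromSpecStalk_comp (k ≫ g) x
  constructor
  · intro h
    have h1 := hα (inv (Spec.map (k.stalkMap x))) (X.fromSpecStalk x ≫ k ≫ g)
      (isLocImmersion_of_isIso _) h
    rw [hfac, IsIso.inv_hom_id_assoc] at h1
    exact h1
  · intro h
    rw [hfac]
    exact hα (Spec.map (k.stalkMap x)) (Z.fromSpecStalk (k x) ≫ g) (isLocImmersion_of_isIso _) h

include hα in
theorem main18201
    (hβ₁ : ∀ {X Y : Scheme.{u}} [IsNoetherian X] [IsNoetherian Y] (f : X ⟶ Y) [IsSeparated f]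
      [LocallyOfFiniteType f], (∀ x : X, P (X.fromSpecStalk x ≫ f)) → P f)
    (hβ₂ : ∀ {X Y : Scheme.{u}} [IsNoetherian X] [IsNoetherian Y] (f : X ⟶ Y) [IsSeparated f]
      [LocallyOfFiniteType f], IsOpen {x : X | P (X.fromSpecStalk x ≫ f)})
    {X Y : Scheme.{u}} [IsNoetherian X] [IsNoetherian Y] (f : X ⟶ Y) [IsSeparated f]
    [EssFT.EssFiniteType f] :
    ((∀ x : X, P (X.fromSpecStalk x ≫ f)) → P f) ∧ IsOpen {x : X | P (X.fromSpecStalk x ≫ f)} ∧
      (P f → ∃ (Z : Scheme.{u}) (i : X ⟶ Z) (h : Z ⟶ Y), IsNoetherian Z ∧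
        LocImm.IsLocImmersion i ∧ IsSeparated h ∧ LocallyOfFiniteType h ∧ QuasiCompact h ∧ P h ∧
        i ≫ h = f) := by
  haveI : EssFT.LocallyEssFiniteType f := inferInstance
  obtain ⟨Z, k, p, hZ, hk, hp₁, hp₂, hp₃, hkp⟩ := main18191 f
  haveI : EssFT.LocallyEssFiniteType p := locallyEssFiniteType_of_lft p
  have hopen : IsOpen {z : Z | P (Z.fromSpecStalk z ≫ p)} := hβ₂ p
  have hrel : ∀ x : X, P (X.fromSpecStalk x ≫ f) ↔ P (Z.fromSpecStalk (k x) ≫ p) := by
    intro x
    rw [← hkp]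
    exact P_fromSpecStalk_iff P hα k hk p x
  -- the common construction
  have common : (∀ x : X, P (X.fromSpecStalk x ≫ f)) →
      ∃ (Z' : Scheme.{u}) (i : X ⟶ Z') (h : Z' ⟶ Y), IsNoetherian Z' ∧
        LocImm.IsLocImmersion i ∧ IsSeparated h ∧ LocallyOfFiniteType h ∧ QuasiCompact h ∧ P h ∧
        i ≫ h = f := by
    intro hx
    let V : Z.Opens := ⟨_, hopen⟩
    have hkV : Set.range k ⊆ Set.range V.ι := by
      rw [Scheme.Opens.range_ι]
      rintro _ ⟨x, rfl⟩
      exact (hrel x).mp (hx x)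
    let k' : X ⟶ V := IsOpenImmersion.lift V.ι k hkV
    have hk' : k' ≫ V.ι = k := IsOpenImmersion.lift_fac _ _ _
    haveI := isNoetherian_opens V
    haveI : QuasiCompact (V.ι ≫ p) := inferInstance
    have hV : ∀ z : V, P ((V : Scheme.{u}).fromSpecStalk z ≫ V.ι ≫ p) := by
      intro z
      have hι : IsLocImmersion V.ι := by
        have := isLocImmersion_comp_openImmersion (𝟙 (V : Scheme.{u})) V.ι
          (isLocImmersion_of_isIso _)
        rwa [Category.id_comp] at this
      rw [P_fromSpecStalk_iff P hα V.ι hι p z]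
      exact z.2
    have hPp' : P (V.ι ≫ p) := hβ₁ (V.ι ≫ p) hV
    exact ⟨V, k', V.ι ≫ p, inferInstance,
      isLocImmersion_of_comp_openImmersion k' V.ι (by rw [hk']; exact hk), inferInstance,
      inferInstance, inferInstance, hPp', by rw [reassoc_of% hk', hkp]⟩
  refine ⟨?_, ?_, ?_⟩
  · intro hx
    obtain ⟨Z', i, h, hZ', hi, hh₁, hh₂, hh₃, hPh, hih⟩ := common hx
    haveI : EssFT.EssFiniteType h :=
      { toLocallyEssFiniteType := locallyEssFiniteType_of_lft h, toQuasiCompact := hh₃ }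
    rw [← hih]
    exact hα i h hi hPh
  · have hset : {x : X | P (X.fromSpecStalk x ≫ f)} =
        (fun x => k x) ⁻¹' {z | P (Z.fromSpecStalk z ≫ p)} := by
      ext x
      exact hrel x
    rw [hset]
    exact hopen.preimage k.continuous
  · intro hPf
    apply common
    intro x
    exact hα (X.fromSpecStalk x) f (isLocImmersion_fromSpecStalk X x) hPf

end P

end Groth.Agent.Lib.LocImm22_helper6
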