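import Groth.Agent.Lib.LocImm_helper6

set_option autoImplicit false
universe u
open CategoryTheory CategoryTheory.Limits AlgebraicGeometry TopologicalSpace

namespace Groth.Agent.Lib.LocImm2_helper6

open LocImm Groth.Agent.Lib.LocImm_helper6

theorem isIso_stalkMap_of_flat_of_mono {X Y : Scheme.{u}} (f : X ⟶ Y) [Flat f] [Mono f] (x : X) :
    IsIso (f.stalkMap x) := by
  have hsq := Scheme.SpecMap_stalkMap_fromSpecStalk f (x := x)
  haveI : Mono (Spec.map (f.stalkMap x)) := by
    haveI : Mono (Spec.map (f.stalkMap x) ≫ Y.fromSpecStalk (f x)) := by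
      rw [hsq]; infer_instance
    exact mono_of_mono (Spec.map (f.stalkMap x)) (Y.fromSpecStalk (f x))
  haveI : Flat (Spec.map (f.stalkMap x)) := by
    rw [Flat.SpecMap_iff]; exact Flat.stalkMap f x
  haveI : Surjective (Spec.map (f.stalkMap x)) := by
    have hff : (f.stalkMap x).hom.FaithfullyFlat := by
      algebraize [(f.stalkMap x).hom]
      exact @Module.FaithfullyFlat.of_flat_of_isLocalHom _ _ _ _ _ _ _
        (Flat.stalkMap f x) (f.toLRSHom.prop x)
    have hs := (RingHom.FaithfullyFlat.iff_flat_and_comap_surjective.mp hff).2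
    exact ⟨hs⟩
  haveI : IsIso (Spec.map (f.stalkMap x)) := Flat.isIso_of_surjective_of_mono _
  rw [ConcreteCategory.isIso_iff_bijective]
  exact isIso_SpecMap_iff.mp inferInstance

theorem mem_of_mem_closure_image {α β : Type*} [TopologicalSpace α] [TopologicalSpace β]
    [NoetherianSpace α] [QuasiSober α] (f : α → β) (hc : Continuous f)
    (hinj : Function.Injective f) (hgen : GeneralizingMap f) {Z : Set α} (hZ : IsClosed Z)
    {x : α} (hx : f x ∈ closure (f '' Z)) : x ∈ Z := by
  obtain ⟨S, hSf, hSc, hSi, hSU⟩ := NoetherianSpace.exists_finite_set_isClosed_irreducible hZ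
  rw [hSU, Set.sUnion_eq_biUnion, Set.image_iUnion₂, hSf.closure_biUnion] at hx
  simp only [Set.mem_iUnion, exists_prop] at hx
  obtain ⟨t, htS, hxt⟩ := hx
  obtain ⟨η, hη⟩ := QuasiSober.sober (hSi t htS) (hSc t htS)
  have h1 : closure (f '' t) ⊆ closure {f η} := by
    apply closure_minimal _ isClosed_closure
    rw [← hη.def]
    refine (image_closure_subset_closure_image hc).trans ?_
    rw [Set.image_singleton]
  have h2 : f η ⤳ f x := specializes_iff_mem_closure.mpr (h1 hxt)
  obtain ⟨x', hx', hfx'⟩ := hgen h2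
  have h3 : x' = η := hinj hfx'
  subst h3
  have h4 : x ∈ t := by
    rw [← hη.def]
    exact specializes_iff_mem_closure.mp hx'
  rw [hSU]
  exact Set.mem_sUnion.mpr ⟨t, htS, h4⟩

theorem isEmbedding_of_injective_of_generalizing {α β : Type*} [TopologicalSpace α]
    [TopologicalSpace β] [NoetherianSpace α] [QuasiSober α] (f : α → β) (hc : Continuous f)
    (hinj : Function.Injective f) (hgen : GeneralizingMap f) : Topology.IsEmbedding f := by
  refine ⟨⟨le_antisymm hc.le_induced ?_⟩, hinj⟩
  intro s hs
  rw [isOpen_induced_iff]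
  refine ⟨(closure (f '' sᶜ))ᶜ, isClosed_closure.isOpen_compl, ?_⟩
  ext x
  simp only [Set.mem_preimage, Set.mem_compl_iff]
  constructor
  · intro hx
    by_contra hxs
    exact hx (subset_closure ⟨x, hxs, rfl⟩)
  · intro hxs hx
    exact mem_of_mem_closure_image f hc hinj hgen hs.isClosed_compl hx hxs

theorem locImmersion_props {X Y : Scheme.{u}} [IsNoetherian X]
    (f : X ⟶ Y) (hf : IsLocImmersion f) :
    Topology.IsEmbedding (fun x => f x) ∧
      StableUnderGeneralization (Set.range (fun x => f x)) ∧ ∀ x : X, IsIso (f.stalkMap x) := by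
  haveI hflat := flat_of_isLocalizing f hf.1
  haveI hmono := mono_of_isLocImmersion f hf
  refine ⟨?_, (Flat.generalizingMap f).stableUnderGeneralization_range,
    fun x => isIso_stalkMap_of_flat_of_mono f x⟩
  exact isEmbedding_of_injective_of_generalizing _ f.continuous hf.2 (Flat.generalizingMap f)

end Groth.Agent.Lib.LocImm2_helper6
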