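import Groth.Agent.Lib.LocImm3_helper6
import Groth.Agent.Lib.NilThick2_helper6

set_option autoImplicit false
universe u
open CategoryTheory CategoryTheory.Limits AlgebraicGeometry TopologicalSpace

namespace Groth.Agent.Lib.LocImm4_helper6

open LocImm Groth.Agent.Lib.LocImm_helper6 Groth.Agent.Lib.LocImm2_helper6
  Groth.Agent.Lib.LocImm3_helper6 Groth.Agent.Lib.NilThick_helper6

theorem isLocHom_of_isPushout {R A T B : CommRingCat.{u}} (α : R ⟶ A) (τ : R ⟶ T) (β : A ⟶ B)
    (γ : T ⟶ B) (h : IsPushout α τ β γ) (hα : IsLocHom α.hom) : IsLocHom γ.hom := by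
  letI := α.hom.toAlgebra
  letI := τ.hom.toAlgebra
  letI := β.hom.toAlgebra
  letI := γ.hom.toAlgebra
  letI : Algebra R B := (γ.hom.comp τ.hom).toAlgebra
  haveI : IsScalarTower R T B := .of_algebraMap_eq' rfl
  haveI : IsScalarTower R A B := .of_algebraMap_eq' (by
      have := congrArg CommRingCat.Hom.hom h.w
      exact this.symm)
  obtain ⟨S, hS⟩ := hα
  haveI := hS
  have hpo : Algebra.IsPushout R T A B := CommRingCat.isPushout_iff_isPushout.mp h.flip
  exact ⟨Algebra.algebraMapSubmonoid T S, (Algebra.isLocalization_iff_isPushout S A).mpr hpo⟩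

theorem isLocImmersion_pullback_snd {X Y Y' : Scheme.{u}} [IsNoetherian X] (f : X ⟶ Y)
    (g : Y' ⟶ Y) (hf : IsLocImmersion f) : IsLocImmersion (pullback.snd f g) := by
  haveI := mono_of_isLocImmersion f hf
  refine ⟨?_, (pullback.snd f g).injective⟩
  intro z
  obtain ⟨V, hxV, hV, hV', hloc⟩ :=
    exists_affine_nhd_of_isLocImmersion f hf (pullback.fst f g z)
  have hy' : pullback.snd f g z ∈ g ⁻¹ᵁ V := by
    show g (pullback.snd f g z) ∈ V
    have : g (pullback.snd f g z) = f (pullback.fst f g z) := by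
      rw [← Scheme.Hom.comp_apply, ← Scheme.Hom.comp_apply, pullback.condition]
    rw [this]; exact hxV
  obtain ⟨_, ⟨U', hU', rfl⟩, hzU', hU'V⟩ :=
    Y'.isBasis_affineOpens.exists_subset_of_mem_open hy' (g ⁻¹ᵁ V).2
  have H := IsPullback.of_hasPullback f g
  obtain ⟨haff, po⟩ := isPushout_appLE_of_isPullback H hV hU' hV' hU'V le_rfl
  refine ⟨⟨U', hU'⟩, ⟨_, haff⟩, ⟨hxV, hzU'⟩, inf_le_right, ?_⟩
  rw [Scheme.Hom.appLE_eq_app] at po
  exact isLocHom_of_isPushout _ _ _ _ po hloc

end Groth.Agent.Lib.LocImm4_helper6
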