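import Mathlib
import Groth.Prelude.Def_W4c5cptfessfintypeLocImm

set_option autoImplicit false
universe u
open CategoryTheory CategoryTheory.Limits AlgebraicGeometry TopologicalSpace

namespace Groth.Agent.Lib.LocImm_helper6

open LocImm

theorem mono_SpecMap_of_epi {R S : CommRingCat.{u}} (φ : R ⟶ S) [Epi φ] : Mono (Spec.map φ) := by
  haveI : Mono φ.op := inferInstance
  exact inferInstanceAs (Mono (Scheme.Spec.map φ.op))

theorem mono_of_epi_appTop {A B : Scheme.{u}} [IsAffine A] [IsAffine B] (g : A ⟶ B)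
    [Epi g.appTop] : Mono g := by
  have h := Scheme.isoSpec_hom_naturality g
  haveI := mono_SpecMap_of_epi g.appTop
  have : g = A.isoSpec.hom ≫ Spec.map g.appTop ≫ B.isoSpec.inv := by
    rw [← Category.assoc, h, Category.assoc, Iso.hom_inv_id, Category.comp_id]
  rw [this]
  infer_instance

theorem flat_of_isLocHom {A B : Type u} [CommRing A] [CommRing B] (φ : A →+* B)
    (h : IsLocHom φ) : φ.Flat := by
  letI := φ.toAlgebra
  obtain ⟨S, hS⟩ := h
  exact IsLocalization.flat B S

theorem epi_of_isLocHom {A B : CommRingCat.{u}} (φ : A ⟶ B) (h : IsLocHom φ.hom) : Epi φ := by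
  letI := φ.hom.toAlgebra
  obtain ⟨S, hS⟩ := h
  exact IsLocalization.epi S B

theorem flat_of_isLocalizing {X Y : Scheme.{u}} (f : X ⟶ Y) (hf : IsLocalizing f) : Flat f := by
  rw [HasRingHomProperty.iff_exists_appLE (P := @Flat)
    (RingHom.Flat.stableUnderComposition.stableUnderCompositionWithLocalizationAway
      RingHom.Flat.holdsForLocalizationAway).left]
  intro x
  obtain ⟨U, V, hxV, e, h⟩ := hf x
  exact ⟨U, V, hxV, e, flat_of_isLocHom _ h⟩

theorem mono_ι_comp_of_isLocHom {X Y : Scheme.{u}} (f : X ⟶ Y) (U : Y.affineOpens)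
    (V : X.affineOpens) (e : V.1 ≤ f ⁻¹ᵁ U.1) (h : IsLocHom (f.appLE U V e).hom) :
    Mono (V.1.ι ≫ f) := by
  haveI : IsAffine (V.1 : Scheme) := V.2
  haveI : IsAffine (U.1 : Scheme) := U.2
  have hepi : Epi (f.appLE U.1 V.1 e) := epi_of_isLocHom _ h
  haveI : Epi (f.resLE U.1 V.1 e).appTop :=
    ((MorphismProperty.epimorphisms CommRingCat).arrow_mk_iso_iff
      (arrowResLEAppIso f U.1 V.1 e)).mpr hepi
  haveI : Mono (f.resLE U.1 V.1 e) := mono_of_epi_appTop _
  rw [← Scheme.Hom.resLE_comp_ι f e]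
  infer_instance

theorem mono_of_isLocImmersion {X Y : Scheme.{u}} (f : X ⟶ Y) (hf : IsLocImmersion f) :
    Mono f := by
  obtain ⟨hl, hinj⟩ := hf
  constructor
  intro T g h hgh
  have hbase : ∀ t : T, g t = h t := fun t => hinj (by
    have := congrArg (fun k : T ⟶ Y => k t) hgh
    simpa using this)
  choose U V hxV e hloc using hl
  let W : X → T.Opens := fun x => g ⁻¹ᵁ (V x).1
  have hW : ∀ x, W x ≤ h ⁻¹ᵁ (V x).1 := by
    intro x t ht
    show h t ∈ (V x).1
    rw [← hbase t]
    exact ht
  have hcov : IsOpenCover W := by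
    refine IsOpenCover.mk (top_unique ?_)
    intro t _
    exact Opens.mem_iSup.mpr ⟨g t, hxV (g t)⟩
  refine (T.openCoverOfIsOpenCover W hcov).hom_ext _ _ (fun x => ?_)
  show (W x).ι ≫ g = (W x).ι ≫ h
  haveI := mono_ι_comp_of_isLocHom f (U x) (V x) (e x) (hloc x)
  have h1 : g.resLE (V x).1 (W x) le_rfl ≫ ((V x).1.ι ≫ f) =
      h.resLE (V x).1 (W x) (hW x) ≫ ((V x).1.ι ≫ f) := by
    rw [← Category.assoc, ← Category.assoc, Scheme.Hom.resLE_comp_ι, Scheme.Hom.resLE_comp_ι,
      Category.assoc, Category.assoc, hgh]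
  have h2 := (cancel_mono ((V x).1.ι ≫ f)).mp h1
  rw [← Scheme.Hom.resLE_comp_ι g (le_refl (W x)), ← Scheme.Hom.resLE_comp_ι h (hW x), h2]

/-- In a Noetherian quasi-sober space, a closed set stable under generalization is open. -/
theorem isOpen_of_isClosed_of_stableUnderGeneralization {α : Type*} [TopologicalSpace α]
    [NoetherianSpace α] [QuasiSober α] {Z : Set α} (hc : IsClosed Z)
    (hg : StableUnderGeneralization Z) : IsOpen Z := by
  rw [← isClosed_compl_iff]
  have hfin : (irreducibleComponents α).Finite := NoetherianSpace.finite_irreducibleComponents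
  have hT : IsClosed (⋃ C ∈ {C ∈ irreducibleComponents α | ¬ C ⊆ Z}, C) := by
    refine Set.Finite.isClosed_biUnion (hfin.subset (fun C hC => hC.1)) ?_
    intro C hC
    exact isClosed_of_mem_irreducibleComponents C hC.1
  convert hT using 1
  ext y
  simp only [Set.mem_compl_iff, Set.mem_setOf_eq, Set.mem_iUnion, exists_prop]
  constructor
  · intro hy
    refine ⟨irreducibleComponent y, ⟨irreducibleComponent_mem_irreducibleComponents y, ?_⟩,
      mem_irreducibleComponent⟩
    intro hsub
    exact hy (hsub mem_irreducibleComponent)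
  · rintro ⟨C, ⟨hC, hCZ⟩, hyC⟩ hyZ
    apply hCZ
    obtain ⟨η, hη⟩ := QuasiSober.sober hC.1 (isClosed_of_mem_irreducibleComponents C hC)
    have h1 : η ⤳ y := by
      rw [specializes_iff_mem_closure, hη.def]
      exact hyC
    have h2 : η ∈ Z := hg h1 hyZ
    rw [← hη.def]
    exact hc.closure_subset_iff.mpr (Set.singleton_subset_iff.mpr h2)

theorem isOpenImmersion_of_lft {X Y : Scheme.{u}} [IsNoetherian Y]
    (f : X ⟶ Y) (hf : IsLocImmersion f) [LocallyOfFiniteType f] : IsOpenImmersion f := by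
  haveI := flat_of_isLocalizing f hf.1
  haveI := mono_of_isLocImmersion f hf
  haveI : LocallyOfFinitePresentation f := inferInstance
  exact IsOpenImmersion.of_flat_of_mono f

theorem isOpenImmersion_of_isClosed_range {X Y : Scheme.{u}} [IsNoetherian X] [IsNoetherian Y]
    (f : X ⟶ Y) (hf : IsLocImmersion f) (hc : IsClosed (Set.range (fun x => f x))) :
    IsOpenImmersion f := by
  haveI hflat := flat_of_isLocalizing f hf.1
  haveI hmono := mono_of_isLocImmersion f hf
  have hgen : StableUnderGeneralization (Set.range (fun x => f x)) :=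
    (Flat.generalizingMap f).stableUnderGeneralization_range
  have hopen : IsOpen (Set.range (fun x => f x)) :=
    isOpen_of_isClosed_of_stableUnderGeneralization hc hgen
  let U : Y.Opens := ⟨Set.range (fun x => f x), hopen⟩
  have hU : IsOpenImmersion U.ι := U.instIsOpenImmersionι
  let f' := hU.lift U.ι f (by simp [U])
  have heq : f = f' ≫ U.ι := by simp [f']
  have hflat' : Flat f' :=
    MorphismProperty.of_postcomp (W := @Flat) f' U.ι hU (by rwa [← heq])
  have hmono' : Mono f' := mono_of_mono_fac heq.symm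
  haveI : Surjective f' := ⟨fun ⟨x, ⟨y, hy⟩⟩ ↦
      ⟨y, by apply U.ι.injective; simp [← Scheme.Hom.comp_apply, f', hy]⟩⟩
  haveI : QuasiCompact f' := inferInstance
  haveI := Flat.isIso_of_surjective_of_mono f'
  rw [heq]
  infer_instance

end Groth.Agent.Lib.LocImm_helper6
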