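import Mathlib
import Groth.Prelude
import Groth.Agent.Lib.LocInj1_helper4
import Groth.Agent.Lib.ModSite10_helper8

/-!
# `E ⊗ I` is injective for `E` finite locally free and `I` injective (helper4)
APPEND-ONLY once landed.
-/

set_option autoImplicit false
set_option linter.style.haveILetI false
universe u
open CategoryTheory Limits Opposite AlgebraicGeometry

namespace Groth.Agent.Lib.LocInjH4
open ModSite Groth.Agent.Lib.ModSiteH8

/-- a finite coproduct of copies of an injective object is injective -/
lemma injective_sigma_fin {C : Type*} [Category C] [Abelian C] (P : C) [Injective P] (n : ℕ) :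
    Injective (∐ fun _ : Fin n => P) := by
  haveI : HasFiniteBiproducts C := Abelian.hasFiniteBiproducts
  haveI : HasBiproductsOfShape (Fin n) C := HasFiniteBiproducts.out n
  exact Injective.of_iso (biproduct.isoCoproduct (fun _ : Fin n => P)) inferInstance

/-- S0891 -/
theorem injective_tensor_finLocFree {X : Scheme.{u}} (I E : X.Modules) [Injective I]
    (hE : FlatMod.IsFinLocFree E) : Injective (CohB1.tensorMod E I) := by
  apply injective_of_locally_injective_restr
  intro x
  obtain ⟨U, n, hxU, ⟨α⟩⟩ := hE x
  refine ⟨U, hxU, ?_⟩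
  obtain ⟨e⟩ := SheafHomLFH9.nonempty_over_iso_free U E n α
  obtain ⟨e1⟩ := restr_tensor_iso X.sheaf U E I
  let O' := X.sheaf.over U
  let I' : Mod O' := (restr X.sheaf U).obj I
  let e2 : ((tensorBi O').obj ((restr X.sheaf U).obj E)).obj I' ≅
      ((tensorBi O').obj (∐ fun _ : Fin n => ModSite.unit O')).obj I' :=
    ((tensorBi O').mapIso e).app I'
  let e3 : ((tensorBi O').obj (∐ fun _ : Fin n => ModSite.unit O')).obj I' ≅
      ((tensorBi O').flip.obj (∐ fun _ : Fin n => ModSite.unit O')).obj I' :=
    (sigmaIso O' (∐ fun _ : Fin n => ModSite.unit O')).app I'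
  let e4 : ((tensorBi O').flip.obj (∐ fun _ : Fin n => ModSite.unit O')).obj I' ≅
      (∐ fun _ : Fin n => I') := ((SheafHomLFH9.tensorFreeIso O' n).app I').symm
  haveI hI : @Injective (ModSite.Mod X.sheaf) _ I := ‹Injective I›
  haveI : Injective I' := (restr X.sheaf U).injective_obj I
  haveI := injective_sigma_fin I' n
  exact Injective.of_iso (e1 ≪≫ e2 ≪≫ e3 ≪≫ e4).symm inferInstance

end Groth.Agent.Lib.LocInjH4
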