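import Mathlib
import Groth.Prelude

set_option autoImplicit false
set_option linter.style.haveILetI false

universe u v w

open CategoryTheory AlgebraicGeometry TopologicalSpace

namespace Groth.Agent.Lib.LocIntDescH4

/-- A reduced ring with finitely many minimal primes whose localization at `q` is a domain
has a principal localization `R_g`, `g ∉ q`, which is a domain. -/
theorem exists_away_isDomain {R : Type u} [CommRing R] [_root_.IsReduced R]
    (hfin : (minimalPrimes R).Finite) (q : Ideal R) [hq : q.IsPrime]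
    (S : Type v) [CommRing S] [Algebra R S] [IsLocalization.AtPrime S q] [IsDomain S] :
    ∃ g : R, g ∉ q ∧ ∀ (T : Type w) [CommRing T] [Algebra R T] [IsLocalization.Away g T],
      IsDomain T := by
  classical
  obtain ⟨t, ht⟩ : ∃ t : Finset (Ideal R), ∀ p, p ∈ t ↔ p ∈ minimalPrimes R ∧ ¬ p ≤ q :=
    ⟨(hfin.subset (Set.sep_subset (minimalPrimes R) (fun p => ¬ p ≤ q))).toFinset,
      fun p => by rw [Set.Finite.mem_toFinset]; exact Iff.rfl⟩
  have hnle : ¬ (t.inf id ≤ q) := by
    intro h
    obtain ⟨p, hp, hpq⟩ := (Ideal.IsPrime.inf_le' hq).mp h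
    exact ((ht p).mp hp).2 hpq
  obtain ⟨g, hgt, hgq⟩ := SetLike.not_le_iff_exists.mp hnle
  have hg : ∀ p ∈ minimalPrimes R, ¬ p ≤ q → g ∈ p := by
    intro p hp hpq
    have h1 : t.inf id ≤ id p := Finset.inf_le ((ht p).mpr ⟨hp, hpq⟩)
    exact h1 hgt
  have key : ∀ a s : R, s ∉ q → s * a = 0 → g * a = 0 := by
    intro a s hs hsa
    have hmem : g * a ∈ sInf (minimalPrimes R) := by
      rw [Ideal.mem_sInf]
      intro p hp
      by_cases hpq : p ≤ q
      · have hpp : p.IsPrime := hp.1.1
        have h0 : s * a ∈ p := by rw [hsa]; exact p.zero_mem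
        rcases hpp.mem_or_mem h0 with h | h
        · exact absurd (hpq h) hs
        · exact p.mul_mem_left g h
      · exact p.mul_mem_right a (hg p hp hpq)
    have h1 : sInf (minimalPrimes R) = (⊥ : Ideal R) := by
      show sInf (⊥ : Ideal R).minimalPrimes = ⊥
      rw [Ideal.sInf_minimalPrimes]
      exact nilradical_eq_zero R
    rw [h1] at hmem
    exact (Submodule.mem_bot R).mp hmem
  refine ⟨g, hgq, ?_⟩
  intro T _ _ _
  have hgS : IsUnit (algebraMap R S g) := IsLocalization.map_units S (⟨g, hgq⟩ : q.primeCompl)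
  haveI : Nontrivial T := by
    let φ : T →+* S := IsLocalization.Away.lift g (g := algebraMap R S) hgS
    exact RingHom.domain_nontrivial φ
  have side : ∀ (x : T) (a : R) (s : Submonoid.powers g),
      x * algebraMap R T (s : R) = algebraMap R T a → algebraMap R S a = 0 → x = 0 := by
    intro x a s hx' h
    have hus : IsUnit (algebraMap R T (s : R)) := IsLocalization.map_units T s
    obtain ⟨⟨s', hs'⟩, hs'a⟩ := (IsLocalization.map_eq_zero_iff q.primeCompl S a).mp h
    have hga : g * a = 0 := key a s' (Ideal.mem_primeCompl_iff.mp hs') hs'a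
    have h2 : algebraMap R T a = 0 :=
      (IsLocalization.map_eq_zero_iff (Submonoid.powers g) T a).mpr
        ⟨⟨g, Submonoid.mem_powers g⟩, hga⟩
    rw [h2] at hx'
    exact (hus.mul_left_eq_zero).mp hx'
  haveI : NoZeroDivisors T := by
    refine ⟨fun {x y} hxy => ?_⟩
    obtain ⟨⟨a, s⟩, hx⟩ := IsLocalization.surj (Submonoid.powers g) x
    obtain ⟨⟨b, u⟩, hy⟩ := IsLocalization.surj (Submonoid.powers g) y
    have hx' : x * algebraMap R T (s : R) = algebraMap R T a := hx
    have hy' : y * algebraMap R T (u : R) = algebraMap R T b := hy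
    have hab : algebraMap R T (a * b) = 0 := by
      rw [map_mul, ← hx', ← hy']
      calc x * algebraMap R T (s : R) * (y * algebraMap R T (u : R))
          = (x * y) * (algebraMap R T (s : R) * algebraMap R T (u : R)) := by ring
        _ = 0 := by rw [hxy, zero_mul]
    obtain ⟨m, hm⟩ := (IsLocalization.map_eq_zero_iff (Submonoid.powers g) T (a * b)).mp hab
    have hmq : (m : R) ∉ q := by
      obtain ⟨n, hn⟩ := (Submonoid.mem_powers_iff _ _).mp m.2
      intro h
      rw [← hn] at h
      exact hgq (hq.mem_of_pow_mem n h)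
    have hS : algebraMap R S a * algebraMap R S b = 0 := by
      have h1 : algebraMap R S (m : R) * (algebraMap R S a * algebraMap R S b) = 0 := by
        rw [← map_mul, ← map_mul, hm, map_zero]
      have hum : IsUnit (algebraMap R S (m : R)) :=
        IsLocalization.map_units S (⟨m, hmq⟩ : q.primeCompl)
      exact (hum.mul_right_eq_zero).mp h1
    rcases mul_eq_zero.mp hS with h | h
    · exact Or.inl (side x a s hx' h)
    · exact Or.inr (side y b u hy' h)
  exact NoZeroDivisors.to_isDomain T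

/-- Stalks of the target of a flat surjective morphism are domains if those of the source are. -/
theorem stalk_isDomain_of_flat {X Y : Scheme.{u}} (f : X ⟶ Y) [Flat f] [Surjective f]
    (hX : ∀ x : X, IsDomain ↑(X.presheaf.stalk x)) (y : Y) :
    IsDomain ↑(Y.presheaf.stalk y) := by
  obtain ⟨x, rfl⟩ := f.surjective y
  haveI := hX x
  have hflat : (f.stalkMap x).hom.Flat := Flat.stalkMap f x
  letI : Algebra (Y.presheaf.stalk (f x)) (X.presheaf.stalk x) := (f.stalkMap x).hom.toAlgebra
  haveI : Module.Flat (Y.presheaf.stalk (f x)) (X.presheaf.stalk x) := hflat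
  haveI : IsLocalHom (algebraMap (Y.presheaf.stalk (f x)) (X.presheaf.stalk x)) :=
    inferInstanceAs (IsLocalHom (f.stalkMap x).hom)
  haveI : Module.FaithfullyFlat (Y.presheaf.stalk (f x)) (X.presheaf.stalk x) :=
    Module.FaithfullyFlat.of_flat_of_isLocalHom
  have hinj : Function.Injective (f.stalkMap x).hom :=
    FaithfulSMul.algebraMap_injective (Y.presheaf.stalk (f x)) (X.presheaf.stalk x)
  exact Function.Injective.isDomain (f.stalkMap x).hom hinj

theorem main4647 {X Y : Scheme.{u}} (f : X ⟶ Y) [Flat f] [Surjective f]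
    (hX : ∀ x : X, IsDomain ↑(X.presheaf.stalk x))
    (hY : ∀ y : Y, ∃ U : Y.Opens, y ∈ U ∧ TopologicalSpace.NoetherianSpace ↥U) (y : Y) :
    ∃ U : Y.Opens, y ∈ U ∧ IsIntegral (U : Scheme.{u}) := by
  have hdom : ∀ y' : Y, IsDomain ↑(Y.presheaf.stalk y') := stalk_isDomain_of_flat f hX
  haveI : ∀ y' : Y, _root_.IsReduced ↑(Y.presheaf.stalk y') := fun y' => by
    haveI := hdom y'; infer_instance
  haveI : IsReduced Y := isReduced_of_isReduced_stalk Y
  obtain ⟨U, hyU, hU⟩ := hY y
  obtain ⟨V, hV, hyV, hVU⟩ := exists_isAffineOpen_mem_and_subset hyU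
  haveI hVN : NoetherianSpace ↥V :=
    (noetherianSpace_set_iff (V : Set Y)).mpr
      (fun t ht => (noetherianSpace_set_iff (U : Set Y)).mp hU t (ht.trans hVU))
  haveI hSN : NoetherianSpace (PrimeSpectrum Γ(Y, V)) :=
    (noetherianSpace_iff_of_homeomorph (Scheme.homeoOfIso hV.isoSpec)).mp hVN
  have hfin : (minimalPrimes Γ(Y, V)).Finite := by
    have h1 : (irreducibleComponents (PrimeSpectrum Γ(Y, V))).Finite :=
      NoetherianSpace.finite_irreducibleComponents
    rw [← PrimeSpectrum.vanishingIdeal_irreducibleComponents]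
    exact h1.image _
  letI := Y.presheaf.algebra_section_stalk (⟨y, hyV⟩ : V)
  haveI := hV.isLocalization_stalk ⟨y, hyV⟩
  haveI : IsDomain ↑(Y.presheaf.stalk (⟨y, hyV⟩ : V).1) := hdom y
  obtain ⟨g, hg, hT⟩ := exists_away_isDomain.{u, u, u} hfin (hV.primeIdealOf ⟨y, hyV⟩).asIdeal
    (Y.presheaf.stalk (⟨y, hyV⟩ : V).1)
  have hyW : y ∈ Y.basicOpen g := by
    rw [Y.mem_basicOpen g y hyV]
    exact IsLocalization.map_units (Y.presheaf.stalk (⟨y, hyV⟩ : V).1)
      (⟨g, hg⟩ : (hV.primeIdealOf ⟨y, hyV⟩).asIdeal.primeCompl)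
  haveI := hV.isLocalization_basicOpen g
  haveI hD : IsDomain Γ(Y, Y.basicOpen g) := hT Γ(Y, Y.basicOpen g)
  haveI : IsAffine ((Y.basicOpen g : Y.Opens) : Scheme.{u}) := hV.basicOpen g
  haveI : Nonempty ((Y.basicOpen g : Y.Opens) : Scheme.{u}) := ⟨⟨y, hyW⟩⟩
  haveI : IsDomain Γ(((Y.basicOpen g : Y.Opens) : Scheme.{u}), ⊤) :=
    MulEquiv.isDomain Γ(Y, Y.basicOpen g)
      ((Y.basicOpen g).topIso.commRingCatIsoToRingEquiv.toMulEquiv)
  exact ⟨Y.basicOpen g, hyW, isIntegral_of_isAffine_of_isDomain _⟩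

end Groth.Agent.Lib.LocIntDescH4
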