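import Groth.Agent.Lib.AssocBundle_lead
import Groth.Agent.Lib.QuotEff_lead
import Groth.Statements.S14877

/-! # Locally isotrivial bundles are principal (lead) -/

set_option backward.isDefEq.respectTransparency false
set_option backward.isDefEq.respectTransparency.types false
set_option linter.unusedSimpArgs false
set_option linter.unusedVariables false
set_option linter.unusedSectionVars false
set_option linter.style.longLine false
set_option linter.style.haveILetI false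
set_option maxHeartbeats 800000

universe u

open CategoryTheory CategoryTheory.Limits MonoidalCategory CartesianMonoidalCategory MonObj GrpObj
  AlgebraicGeometry Opposite

namespace Groth.Agent.Lib.LocIsotriv

open Groth.Agent.Lib.BundleStages Groth.Agent.Lib.TorsorSeq SchFpqcCovH7 Groth.Agent.Lib.AssocBundle

variable {S : Scheme.{u}}

/-! ## Family covers -/

section cover

variable {X : Over S} {I : Type u} {V : I → Over S} (Ψ : ∀ i, V i ⟶ X) {T : Over S} (t : T ⟶ X)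

noncomputable def cov₀ : (∐ fun i => pullback (Ψ i).left t.left) ⟶ T.left :=
  Sigma.desc (fun i => pullback.snd (Ψ i).left t.left)

noncomputable def covT : Over S := Over.mk (cov₀ Ψ t ≫ T.hom)

noncomputable def covC : covT Ψ t ⟶ T := Over.homMk (cov₀ Ψ t) rfl

noncomputable def covTi (i : I) : Over S := Over.mk (pullback.snd (Ψ i).left t.left ≫ T.hom)

noncomputable def covι (i : I) : covTi Ψ t i ⟶ covT Ψ t :=
  Over.homMk (Sigma.ι (fun i => pullback (Ψ i).left t.left) i) (by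
    show Sigma.ι (fun i => pullback (Ψ i).left t.left) i ≫ cov₀ Ψ t ≫ T.hom =
      pullback.snd (Ψ i).left t.left ≫ T.hom
    rw [cov₀, Sigma.ι_desc_assoc])

noncomputable def covU (i : I) : covTi Ψ t i ⟶ V i :=
  Over.homMk (pullback.fst (Ψ i).left t.left) (by
    show pullback.fst (Ψ i).left t.left ≫ (V i).hom = pullback.snd (Ψ i).left t.left ≫ T.hom
    rw [← Over.w (Ψ i), ← Over.w t, pullback.condition_assoc])

theorem exists_family_cover
    (hΨ : Presieve.ofArrows (fun i => (V i).left) (fun i => (Ψ i).left) ∈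
      Scheme.fpqcPrecoverage X.left) :
    ∃ (T' : Over S) (c : T' ⟶ T) (Ti : I → Over S) (ιO : ∀ i, Ti i ⟶ T') (uO : ∀ i, Ti i ⟶ V i),
      IsCov c.left ∧ (∀ i, (ιO i ≫ c) ≫ t = uO i ≫ Ψ i) ∧
      (∀ (Z : Over S) (f f' : T' ⟶ Z), (∀ i, ιO i ≫ f = ιO i ≫ f') → f = f') ∧
      (∀ (Z : Over S) (fi : ∀ i, Ti i ⟶ Z), ∃ f : T' ⟶ Z, ∀ i, ιO i ≫ f = fi i) := by
  refine ⟨covT Ψ t, covC Ψ t, covTi Ψ t, covι Ψ t, covU Ψ t, ?_, ?_, ?_, ?_⟩
  · show IsCov (cov₀ Ψ t)
    have h1 : Presieve.ofArrows (fun i => pullback (Ψ i).left t.left)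
        (fun i => pullback.snd (Ψ i).left t.left) ∈ Scheme.fpqcPrecoverage T.left := by
      rw [Presieve.ofArrows_pullback]
      exact Precoverage.pullbackArrows_mem t.left hΨ
    have h2 := Precoverage.generate_mem_toGrothendieck h1
    refine GrothendieckTopology.superset_covering _ ?_ h2
    rw [Sieve.generate_le_iff]
    rintro Z f ⟨i⟩
    exact ⟨_, Sigma.ι (fun i => pullback (Ψ i).left t.left) i, cov₀ Ψ t, Presieve.singleton.mk, by
      rw [cov₀, Sigma.ι_desc]⟩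
  · intro i
    ext
    show (Sigma.ι (fun i => pullback (Ψ i).left t.left) i ≫ cov₀ Ψ t) ≫ t.left =
      pullback.fst (Ψ i).left t.left ≫ (Ψ i).left
    rw [cov₀, Sigma.ι_desc, pullback.condition]
  · intro Z f f' h
    ext
    apply Sigma.hom_ext
    intro i
    exact congrArg (fun k => k.left) (h i)
  · intro Z fi
    refine ⟨Over.homMk (Sigma.desc (fun i => (fi i).left)) ?_, fun i => ?_⟩
    · apply Sigma.hom_ext
      intro i
      show Sigma.ι (fun i => pullback (Ψ i).left t.left) i ≫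
        Sigma.desc (fun i => (fi i).left) ≫ Z.hom =
        Sigma.ι (fun i => pullback (Ψ i).left t.left) i ≫ cov₀ Ψ t ≫ T.hom
      rw [Sigma.ι_desc_assoc, cov₀, Sigma.ι_desc_assoc]
      exact Over.w (fi i)
    · ext
      show Sigma.ι (fun i => pullback (Ψ i).left t.left) i ≫
        Sigma.desc (fun i => (fi i).left) = (fi i).left
      rw [Sigma.ι_desc]

end cover

/-! ## The local model -/

section loc

variable {G P X V : Over S} [GrpObj G] (a : AlgGrp.Action G P) (π : P ⟶ X) (Ψ : V ⟶ X) (s : V ⟶ P)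
  (hsq : IsPullback (fst V G) (lift (snd V G) (fst V G ≫ s) ≫ a.act) Ψ π)

include hsq in
theorem loc_exists {T₁ : Over S} (u : T₁ ⟶ V) (p : T₁ ⟶ P) (hp : p ≫ π = u ≫ Ψ) :
    ∃ g : T₁ ⟶ G, lift g (u ≫ s) ≫ a.act = p := by
  obtain ⟨l, h1, h2⟩ : ∃ l : T₁ ⟶ V ⊗ G, l ≫ fst V G = u ∧
      l ≫ (lift (snd V G) (fst V G ≫ s) ≫ a.act) = p :=
    ⟨hsq.lift u p hp.symm, hsq.lift_fst _ _ _, hsq.lift_snd _ _ _⟩
  refine ⟨l ≫ snd V G, ?_⟩
  have : lift (l ≫ snd V G) (u ≫ s) = l ≫ lift (snd V G) (fst V G ≫ s) := by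
    rw [comp_lift, ← Category.assoc, h1]
  rw [this, Category.assoc, h2]

include hsq in
theorem loc_cancel {T₁ : Over S} (u : T₁ ⟶ V) (g g' : T₁ ⟶ G)
    (h : lift g (u ≫ s) ≫ a.act = lift g' (u ≫ s) ≫ a.act) : g = g' := by
  have key : ∀ k : T₁ ⟶ G, lift u k ≫ (lift (snd V G) (fst V G ≫ s) ≫ a.act) =
      lift k (u ≫ s) ≫ a.act := by
    intro k
    rw [← Category.assoc, comp_lift, lift_snd, lift_fst_assoc]
  have h1 : lift u g = lift u g' := by
    apply hsq.hom_ext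
    · rw [lift_fst, lift_fst]
    · rw [key, key, h]
  have := congrArg (fun k => k ≫ snd V G) h1
  simpa only [lift_snd] using this

include hsq in
theorem loc_exists2 {T₁ : Over S} (u : T₁ ⟶ V) (p1 p2 : T₁ ⟶ P) (h1 : p1 ≫ π = u ≫ Ψ)
    (h2 : p2 ≫ π = u ≫ Ψ) : ∃ g : T₁ ⟶ G, lift g p2 ≫ a.act = p1 := by
  obtain ⟨g1, rfl⟩ := loc_exists a π Ψ s hsq u p1 h1
  obtain ⟨g2, rfl⟩ := loc_exists a π Ψ s hsq u p2 h2
  refine ⟨g1 * g2⁻¹, ?_⟩
  rw [← act_mul' a, inv_mul_cancel_right]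

include hsq in
theorem loc_unique {T₁ : Over S} (u : T₁ ⟶ V) (p2 : T₁ ⟶ P) (h2 : p2 ≫ π = u ≫ Ψ)
    (g g' : T₁ ⟶ G) (h : lift g p2 ≫ a.act = lift g' p2 ≫ a.act) : g = g' := by
  obtain ⟨g2, rfl⟩ := loc_exists a π Ψ s hsq u p2 h2
  rw [← act_mul' a, ← act_mul' a] at h
  exact mul_right_cancel (loc_cancel a π Ψ s hsq u _ _ h)

end loc

/-! ## Globalisation -/

section glob

variable {G P X : Over S} [GrpObj G] (a : AlgGrp.Action G P) (π : P ⟶ X)
  {I : Type u} (V : I → Over S) (Ψ : ∀ i, V i ⟶ X)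
  (hΨ : Presieve.ofArrows (fun i => (V i).left) (fun i => (Ψ i).left) ∈
    Scheme.fpqcPrecoverage X.left)
  (s : ∀ i, V i ⟶ P)
  (hsq : ∀ i, IsPullback (fst (V i) G) (lift (snd (V i) G) (fst (V i) G ≫ s i) ≫ a.act) (Ψ i) π)

include hΨ hsq in
theorem glob_unique {T : Over S} (p2 : T ⟶ P) (g g' : T ⟶ G)
    (h : lift g p2 ≫ a.act = lift g' p2 ≫ a.act) : g = g' := by
  obtain ⟨T', c, Ti, ιO, uO, hcov, hcu, hext, hdesc⟩ := exists_family_cover Ψ (p2 ≫ π) hΨ
  haveI := epi_of_isCov c hcov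
  rw [← cancel_epi c]
  apply hext
  intro i
  rw [← Category.assoc, ← Category.assoc]
  apply loc_unique a π (Ψ i) (s i) (hsq i) (uO i) ((ιO i ≫ c) ≫ p2)
    (by rw [Category.assoc]; exact hcu i)
  have e : ∀ k : T ⟶ G, lift ((ιO i ≫ c) ≫ k) ((ιO i ≫ c) ≫ p2) ≫ a.act =
      (ιO i ≫ c) ≫ lift k p2 ≫ a.act := by
    intro k
    rw [← comp_lift, Category.assoc]
  rw [e, e, h]

include hΨ hsq in
theorem glob_exists {T : Over S} (p1 p2 : T ⟶ P) (h : p1 ≫ π = p2 ≫ π) :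
    ∃ g : T ⟶ G, lift g p2 ≫ a.act = p1 := by
  obtain ⟨T', c, Ti, ιO, uO, hcov, hcu, hext, hdesc⟩ := exists_family_cover Ψ (p2 ≫ π) hΨ
  haveI := epi_of_isCov c hcov
  have hloc : ∀ i, ∃ g : Ti i ⟶ G,
      lift g ((ιO i ≫ c) ≫ p2) ≫ a.act = (ιO i ≫ c) ≫ p1 := fun i =>
    loc_exists2 a π (Ψ i) (s i) (hsq i) (uO i) _ _
      (by rw [Category.assoc, h]; exact hcu i) (by rw [Category.assoc]; exact hcu i)
  choose gi hgi using hloc
  obtain ⟨g', hg'⟩ := hdesc G gi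
  have E' : lift g' (c ≫ p2) ≫ a.act = c ≫ p1 := by
    apply hext
    intro i
    rw [← Category.assoc (ιO i) (lift g' (c ≫ p2)) a.act, comp_lift, hg' i,
      ← Category.assoc (ιO i) c p2, hgi i, Category.assoc]
  have e : ∀ {T₃ : Over S} (k : T₃ ⟶ T'), lift (k ≫ g') (k ≫ c ≫ p2) ≫ a.act = k ≫ c ≫ p1 := by
    intro T₃ k
    rw [← comp_lift, Category.assoc, E']
  obtain ⟨g, hg⟩ := desc_of_isCov c hcov g' (fun T₃ a₁ a₂ ha =>
    glob_unique a π V Ψ hΨ s hsq (a₁ ≫ c ≫ p2) _ _ (by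
      have hp2 : a₁ ≫ c ≫ p2 = a₂ ≫ c ≫ p2 := by rw [← Category.assoc, ha, Category.assoc]
      have hp1 : a₁ ≫ c ≫ p1 = a₂ ≫ c ≫ p1 := by rw [← Category.assoc, ha, Category.assoc]
      rw [e a₁, hp2, e a₂, hp1]))
  refine ⟨g, ?_⟩
  rw [← cancel_epi c, ← Category.assoc, comp_lift, hg, E']

include hΨ hsq in
theorem isPullback_of_family (hinv : a.act ≫ π = snd G P ≫ π) :
    IsPullback a.act (snd G P) π π := by
  apply isPullback_of_exists_unique _ _ _ _ hinv
  · intro T p1 p2 h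
    obtain ⟨g, hg⟩ := glob_exists a π V Ψ hΨ s hsq p1 p2 h
    exact ⟨lift g p2, hg, lift_snd _ _⟩
  · intro T l l' h1 h2
    have e1 : l = lift (l ≫ fst G P) (l ≫ snd G P) := lift_eta l
    have e2 : l' = lift (l' ≫ fst G P) (l ≫ snd G P) := by rw [h2]; exact lift_eta l'
    have := glob_unique a π V Ψ hΨ s hsq (l ≫ snd G P) (l ≫ fst G P) (l' ≫ fst G P)
      (by rw [← e1, ← e2]; exact h1)
    calc l = lift (l ≫ fst G P) (l ≫ snd G P) := e1
      _ = lift (l' ≫ fst G P) (l ≫ snd G P) := by rw [this]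
      _ = l' := e2.symm

end glob

theorem isIso_PsiY_of_isPullback {G X Y : Over S} [GrpObj G] (a : AlgGrp.Action G X) (φ : X ⟶ Y)
    (h : GIT.IsInvariant a φ) (hpb : IsPullback a.act (snd G X) φ φ) :
    IsIso (GIT.PsiY a φ h) := by
  have hS : IsPullback a.act.left (snd G X).left φ.left φ.left := hpb.map (Over.forget S)
  have : GIT.PsiY a φ h = hS.isoPullback.hom := by
    apply pullback.hom_ext
    · rw [IsPullback.isoPullback_hom_fst]; exact pullback.lift_fst _ _ _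
    · rw [IsPullback.isoPullback_hom_snd]; exact pullback.lift_snd _ _ _
  rw [this]; infer_instance

theorem flat_of_local {P X : Scheme.{u}} (π : P ⟶ X)
    (hloc : ∀ x : X, ∃ (U : X.Opens) (_ : x ∈ U) (U' E : Scheme.{u}) (φ : U' ⟶ ↑U) (e1 : E ⟶ U')
      (e2 : E ⟶ P), Flat φ ∧ Surjective φ ∧ QuasiCompact φ ∧ Flat e1 ∧
        IsPullback e1 e2 (φ ≫ U.ι) π) : Flat π := by
  choose U hxU U' E φ e1 e2 h1 h2 h3 h4 hpb using hloc
  have hU : iSup U = ⊤ := by
    rw [eq_top_iff]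
    intro x _
    exact TopologicalSpace.Opens.mem_iSup.mpr ⟨x, hxU x⟩
  apply IsZariskiLocalAtTarget.of_iSup_eq_top (P := @Flat) U hU
  intro x
  have hr := isPullback_morphismRestrict π (U x)
  have hw : (e1 x ≫ φ x) ≫ (U x).ι = e2 x ≫ π := by rw [Category.assoc]; exact (hpb x).w
  obtain ⟨e2', he1, he2⟩ : ∃ e2' : E x ⟶ ↑(π ⁻¹ᵁ U x), e2' ≫ (π ∣_ U x) = e1 x ≫ φ x ∧
      e2' ≫ (π ⁻¹ᵁ U x).ι = e2 x :=
    ⟨hr.lift (e1 x ≫ φ x) (e2 x) hw, hr.lift_fst _ _ _, hr.lift_snd _ _ _⟩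
  have hleft : IsPullback e2' (e1 x) (π ∣_ U x) (φ x) := by
    apply IsPullback.of_right _ he1 hr.flip
    rw [he2]
    exact (hpb x).flip
  haveI := Groth.Agent.Lib.QuotEff.flat_descendsAlong'
  exact MorphismProperty.of_isPullback_of_descendsAlong (P := @Flat)
    (Q := @Surjective ⊓ @Flat ⊓ @QuasiCompact) hleft.flip ⟨⟨h2 x, h1 x⟩, h3 x⟩ (h4 x)

theorem main {G P X : Over S} [GrpObj G] [Flat G.hom] (a : AlgGrp.Action G P) (π : P ⟶ X)
    (hinv : GIT.IsInvariant a π)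
    (hli : ∀ x : ↥X.left, ∃ (U : X.left.Opens) (_ : x ∈ U) (U' : Scheme.{u}) (φ : U' ⟶ ↑U)
      (_ : IsFinite φ) (_ : Etale φ) (_ : Surjective φ) (s : Over.mk (φ ≫ U.ι ≫ X.hom) ⟶ P),
      s.left ≫ π.left = φ ≫ U.ι ∧
      IsPullback (fst (Over.mk (φ ≫ U.ι ≫ X.hom)) G).left
        (lift (snd (Over.mk (φ ≫ U.ι ≫ X.hom)) G) (fst (Over.mk (φ ≫ U.ι ≫ X.hom)) G ≫ s) ≫
          a.act).left (φ ≫ U.ι) π.left) :
    IsIso (GIT.PsiY a π hinv) ∧ Flat π.left := by
  choose U hxU U' φ hfin het hsurj s hs hpb using hli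
  constructor
  · apply isIso_PsiY_of_isPullback
    refine isPullback_of_family a π (I := Σ _ : X.left, PUnit.{u+1})
      (fun p => Over.mk (φ p.1 ≫ (U p.1).ι ≫ X.hom))
      (fun p => Over.homMk (φ p.1 ≫ (U p.1).ι) (by simp)) ?_ (fun p => s p.1) (fun p => ?_) hinv
    · have hZ : Presieve.ofArrows (fun x : X.left => (↑(U x) : Scheme.{u})) (fun x => (U x).ι) ∈
          Scheme.fpqcPrecoverage X.left :=
        Scheme.zariskiPrecoverage_le_fpqcPrecoverage _
          ((Scheme.Cover.mkOfCovers (P := @IsOpenImmersion) X.left (fun x => ↑(U x)) (fun x => (U x).ι)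
            (fun x => ⟨x, ⟨x, hxU x⟩, rfl⟩) (fun x => inferInstance)).mem₀)
      exact Precoverage.comp_mem_coverings (J := Scheme.fpqcPrecoverage)
        (f := fun x => (U x).ι) hZ (σ := fun _ => PUnit.{u+1}) (Y := fun x _ => U' x)
        (g := fun x _ => φ x) (fun x => by
          rw [Presieve.ofArrows_pUnit]
          haveI := hfin x
          haveI := het x
          haveI := hsurj x
          exact (φ x).singleton_mem_fpqcPrecoverage)
    · refine IsPullback.of_map (Over.forget S) ?_ (hpb p.1)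
      ext
      exact (hpb p.1).w
  · apply flat_of_local
    intro x
    haveI := hfin x
    haveI := het x
    refine ⟨U x, hxU x, U' x, _, φ x, _, _, inferInstance, hsurj x, inferInstance, ?_, hpb x⟩
    rw [Over.fst_left]
    infer_instance

end Groth.Agent.Lib.LocIsotriv
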