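import Mathlib
import Groth.Prelude
import Groth.Agent.Lib.ZariskiProj_lead
import Groth.Agent.Lib.RelFPAff_helper9
import Groth.Agent.Lib.QCohFT_helper9
import Groth.Agent.Lib.PB7_helper8

set_option autoImplicit false
set_option backward.isDefEq.respectTransparency false
set_option linter.unusedSimpArgs false
set_option linter.unusedVariables false
set_option linter.unusedSectionVars false
set_option linter.style.longLine false
set_option linter.style.haveILetI false
set_option linter.unnecessarySimpa false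
set_option maxHeartbeats 1600000

/-!
# Locally projective quasi-coherent modules (lead)

`F(U)` projective for all affine opens `U` iff this holds on an affine open cover; pullback of
locally projective quasi-coherent modules is locally projective.
-/

namespace Groth.Agent.Lib.LocProj

open CategoryTheory AlgebraicGeometry Opposite TopologicalSpace

universe u

section One

variable {X : Scheme.{u}} (F : X.Modules)

theorem proj_congr {V V' : X.Opens} (e : V = V') (h : Module.Projective Γ(X, V) Γ(F, V)) :
    Module.Projective Γ(X, V') Γ(F, V') := by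
  subst e; exact h

/-- Restriction to a basic open preserves projectivity of sections. -/
theorem proj_basicOpen [F.IsQuasicoherent] {U : X.Opens} (hU : IsAffineOpen U) (a : Γ(X, U))
    (h : Module.Projective Γ(X, U) Γ(F, U)) :
    Module.Projective Γ(X, X.basicOpen a) Γ(F, X.basicOpen a) := by
  letI : Algebra Γ(X, U) Γ(X, X.basicOpen a) :=
    (X.presheaf.map (homOfLE (X.basicOpen_le a)).op).hom.toAlgebra
  letI : Module Γ(X, U) Γ(F, X.basicOpen a) :=
    Module.compHom _ (X.presheaf.map (homOfLE (X.basicOpen_le a)).op).hom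
  haveI : IsScalarTower Γ(X, U) Γ(X, X.basicOpen a) Γ(F, X.basicOpen a) :=
    IsScalarTower.of_algebraMap_smul (fun _ _ => rfl)
  haveI : IsLocalization.Away a Γ(X, X.basicOpen a) := hU.isLocalization_basicOpen a
  have hld : RelFPKit.LocData (X.presheaf.map (homOfLE (X.basicOpen_le a)).op).hom a
      (F.presheaf.map (homOfLE (X.basicOpen_le a)).op).hom :=
    RelFPAff.locData (F := F) hU a _ rfl
  let φ : Γ(F, U) →ₗ[Γ(X, U)] Γ(F, X.basicOpen a) :=
    { toFun := (F.presheaf.map (homOfLE (X.basicOpen_le a)).op).hom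
      map_add' := map_add _
      map_smul' := hld.smul }
  haveI : IsLocalizedModule (Submonoid.powers a) φ := QCohFT.isLocalizedModule_of_locData hld
  exact Module.projective_of_isLocalizedModule (Submonoid.powers a) φ

/-- Projectivity of sections over affine opens can be checked on an affine open cover. -/
theorem proj_of_cover [F.IsQuasicoherent] {I : Type u} (U : I → X.Opens) (hcov : (⨆ i, U i) = ⊤)
    (hU : ∀ i, IsAffineOpen (U i)) (hP : ∀ i, Module.Projective Γ(X, U i) Γ(F, U i))
    {W : X.Opens} (hW : IsAffineOpen W) : Module.Projective Γ(X, W) Γ(F, W) := by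
  classical
  let s : Set Γ(X, W) := {a | Module.Projective Γ(X, X.basicOpen a) Γ(F, X.basicOpen a)}
  have hs : Ideal.span s = ⊤ := by
    rw [← hW.iSup_basicOpen_eq_self_iff]
    apply le_antisymm
    · exact iSup_le (fun a => X.basicOpen_le a.1)
    · intro x hx
      have hx' : x ∈ (⨆ i, U i) := by rw [hcov]; trivial
      obtain ⟨i, hi⟩ := Opens.mem_iSup.1 hx'
      obtain ⟨a, b, hab, hxa⟩ := exists_basicOpen_le_affine_inter hW (hU i) x ⟨hx, hi⟩
      have hb : Module.Projective Γ(X, X.basicOpen b) Γ(F, X.basicOpen b) :=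
        proj_basicOpen F (hU i) b (hP i)
      have ha : a ∈ s := proj_congr F hab.symm hb
      exact Opens.mem_iSup.2 ⟨⟨a, ha⟩, hxa⟩
  obtain ⟨t, hts, ht⟩ := (Ideal.span_eq_top_iff_finite s).1 hs
  let ι : Type u := ↥t
  let f : ι → Γ(X, W) := Subtype.val
  have hf : Ideal.span (Set.range f) = ⊤ := by
    have : Set.range f = (t : Set Γ(X, W)) := Subtype.range_coe
    rw [this]; exact ht
  letI : ∀ j : ι, Algebra Γ(X, W) Γ(X, X.basicOpen (f j)) := fun j =>
    (X.presheaf.map (homOfLE (X.basicOpen_le (f j))).op).hom.toAlgebra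
  letI : ∀ j : ι, Module Γ(X, W) Γ(F, X.basicOpen (f j)) := fun j =>
    Module.compHom _ (X.presheaf.map (homOfLE (X.basicOpen_le (f j))).op).hom
  haveI : ∀ j : ι, IsScalarTower Γ(X, W) Γ(X, X.basicOpen (f j)) Γ(F, X.basicOpen (f j)) :=
    fun j => IsScalarTower.of_algebraMap_smul (fun _ _ => rfl)
  haveI : ∀ j : ι, IsLocalization.Away (f j) Γ(X, X.basicOpen (f j)) := fun j =>
    hW.isLocalization_basicOpen (f j)
  have hld : ∀ j : ι, RelFPKit.LocData (X.presheaf.map (homOfLE (X.basicOpen_le (f j))).op).hom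
      (f j) (F.presheaf.map (homOfLE (X.basicOpen_le (f j))).op).hom := fun j =>
    RelFPAff.locData (F := F) hW (f j) _ rfl
  let g : ∀ j : ι, Γ(F, W) →ₗ[Γ(X, W)] Γ(F, X.basicOpen (f j)) := fun j =>
    { toFun := (F.presheaf.map (homOfLE (X.basicOpen_le (f j))).op).hom
      map_add' := map_add _
      map_smul' := (hld j).smul }
  haveI : ∀ j : ι, IsLocalizedModule (Submonoid.powers (f j)) (g j) := fun j =>
    QCohFT.isLocalizedModule_of_locData (hld j)
  exact Groth.Agent.Lib.ZariskiProj.projective_of_localized f hf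
    (fun j => Γ(X, X.basicOpen (f j))) Γ(F, W) (fun j => Γ(F, X.basicOpen (f j))) g
    (fun j => hts j.2)

/-- S7391. -/
theorem main7391 (X : Scheme.{u}) (F : X.Modules) [F.IsQuasicoherent] :
    (∀ U : X.Opens, IsAffineOpen U →
      Module.Projective (X.ringCatSheaf.obj.obj (op U)) (F.val.obj (op U))) ↔
      ∃ (I : Type u) (U : I → X.Opens), (⨆ i, U i) = ⊤ ∧ ∀ i, IsAffineOpen (U i) ∧
        Module.Projective (X.ringCatSheaf.obj.obj (op (U i))) (F.val.obj (op (U i))) := by
  constructor
  · intro h
    exact ⟨X.affineOpens, fun U => U.1, iSup_affineOpens_eq_top X, fun U => ⟨U.2, h U.1 U.2⟩⟩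
  · rintro ⟨I, U, hcov, hU⟩ W hW
    exact proj_of_cover F U hcov (fun i => (hU i).1) (fun i => (hU i).2) hW

end One

section Two

open PBH8

variable {X Y : Scheme.{u}} (f : X ⟶ Y) (G : Y.Modules)

/-- Sections of the pullback over an affine open mapping into an affine open. -/
theorem proj_pullback_of_le [G.IsQuasicoherent] {U : X.Opens} {V : Y.Opens}
    (hU : IsAffineOpen U) (hV : IsAffineOpen V) (hle : U ≤ f ⁻¹ᵁ V)
    (hG : Module.Projective Γ(Y, V) Γ(G, V)) :
    Module.Projective Γ(X, U) Γ((Scheme.Modules.pullback f).obj G, U) := by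
  letI := (Scheme.Hom.appLE f V U hle).hom.toAlgebra
  letI : Module Γ(Y, V) Γ((Scheme.Modules.pullback f).obj G, U) :=
    Module.compHom _ (Scheme.Hom.appLE f V U hle).hom
  haveI : IsScalarTower Γ(Y, V) Γ(X, U) Γ((Scheme.Modules.pullback f).obj G, U) :=
    IsScalarTower.of_algebraMap_smul fun _ _ => rfl
  have hbc := isBaseChange_cUV f G hle hU hV
  exact Module.Projective.of_equiv' hbc.equiv

/-- S7413. -/
theorem main7413 [G.IsQuasicoherent]
    (hG : ∀ V : Y.Opens, IsAffineOpen V →
      Module.Projective (Y.ringCatSheaf.obj.obj (op V)) (G.val.obj (op V)))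
    (U : X.Opens) (hU : IsAffineOpen U) :
    Module.Projective (X.ringCatSheaf.obj.obj (op U))
      (((Scheme.Modules.pullback f).obj G).val.obj (op U)) := by
  let ι := {U : X.Opens // IsAffineOpen U ∧ ∃ V : Y.Opens, IsAffineOpen V ∧ U ≤ f ⁻¹ᵁ V}
  refine proj_of_cover ((Scheme.Modules.pullback f).obj G) (I := ι) (fun i => i.1) ?_
    (fun i => i.2.1) (fun i => ?_) hU
  · apply le_antisymm le_top
    intro x _
    obtain ⟨V, U', hV, hU', hx, hle⟩ := PBH8.exists_affine_pair' f x
    exact Opens.mem_iSup.2 ⟨⟨U', hU', V, hV, hle⟩, hx⟩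
  · obtain ⟨V, hV, hle⟩ := i.2.2
    exact proj_pullback_of_le f G i.2.1 hV hle (hG V hV)

end Two

end Groth.Agent.Lib.LocProj
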