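import Mathlib
import Groth.Agent.Lib.DiagClosure_lead
import Groth.Agent.Lib.DecentSchLocus_helper7
import Groth.Agent.Lib.FieldQuot4_helper6
import Groth.Agent.Lib.AlgSpChart_helper7

/-!
# Locally separated algebraic spaces are decent (helper7)
-/

set_option autoImplicit false
set_option linter.style.haveILetI false
universe u
open CategoryTheory CategoryTheory.Limits AlgebraicGeometry Opposite TopologicalSpace TensorProduct

namespace Groth.Agent.Lib.LocSepDecentH7

/-- The algebra structure over the (universe lifted) integers. -/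
@[instance_reducible]
noncomputable def algZ (A : Type u) [CommRing A] : Algebra (ULift.{u} ℤ) A :=
  Algebra.ofModule (fun r x y => smul_mul_assoc r.down x y) (fun r x y => mul_smul_comm r.down x y)

/-- A section of an unramified morphism is an open immersion. -/
theorem isOpenImmersion_of_section {R U : Scheme.{u}} (f : R ⟶ U) [FormallyUnramified f]
    [LocallyOfFiniteType f] (σ : U ⟶ R) (hσ : σ ≫ f = 𝟙 U) : IsOpenImmersion σ := by
  let g : R ⟶ pullback f f := pullback.lift (𝟙 R) (f ≫ σ)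
    (by rw [Category.id_comp, Category.assoc, hσ, Category.comp_id])
  have hg1 : g ≫ pullback.fst f f = 𝟙 R := pullback.lift_fst _ _ _
  have hg2 : g ≫ pullback.snd f f = f ≫ σ := pullback.lift_snd _ _ _
  have sq : IsPullback σ σ (pullback.diagonal f) g := by
    refine ⟨⟨?_⟩, ⟨PullbackCone.IsLimit.mk _ (fun c => c.fst ≫ f) ?_ ?_ ?_⟩⟩
    · apply pullback.hom_ext
      · rw [Category.assoc, Category.assoc, pullback.diagonal_fst, hg1]
      · rw [Category.assoc, Category.assoc, pullback.diagonal_snd, hg2, ← Category.assoc σ f σ, hσ,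
          Category.id_comp, Category.comp_id]
    · intro c
      have h1 := congrArg (fun m => m ≫ pullback.fst f f) c.condition
      have h2 := congrArg (fun m => m ≫ pullback.snd f f) c.condition
      simp only [Category.assoc, pullback.diagonal_fst, pullback.diagonal_snd, hg1, hg2,
        Category.comp_id] at h1 h2
      rw [Category.assoc, h1, ← h2]
      exact h1
    · intro c
      have h1 := congrArg (fun m => m ≫ pullback.fst f f) c.condition
      have h2 := congrArg (fun m => m ≫ pullback.snd f f) c.condition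
      simp only [Category.assoc, pullback.diagonal_fst, pullback.diagonal_snd, hg1, hg2,
        Category.comp_id] at h1 h2
      rw [Category.assoc, h1, ← h2]
      exact h1
    · intro c m hm1 _
      rw [← hm1, Category.assoc, hσ, Category.comp_id]
  exact MorphismProperty.of_isPullback (P := @IsOpenImmersion) sq inferInstance

/-- The rank argument: among more fields than terms of `θ`, some off-diagonal pair does not
kill `θ`. -/
theorem exists_offdiag_ne_zero {A B : Type u} [CommRing A] [CommRing B] (ι₁ ι₂ : A →+* B)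
    (μ : B →+* A) (h1 : ∀ a, μ (ι₁ a) = a) (h2 : ∀ a, μ (ι₂ a) = a)
    (T : Finset (A × A)) (θ : B) (hθ : θ = ∑ s ∈ T, ι₁ s.1 * ι₂ s.2) (hμθ : μ θ = 1)
    (k : Type u) [Field k] (K : ℕ → Type u) [∀ n, Field (K n)] [∀ n, Algebra k (K n)]
    (α : ∀ n, A →+* K n) :
    ∃ (n m : ℕ) (_ : n ≠ m) (L : Type u) (_ : CommRing L) (_ : IsDomain L) (_ : Algebra k L)
      (jn : K n →ₐ[k] L) (jm : K m →ₐ[k] L), ∑ s ∈ T, jn (α n s.1) * jm (α m s.2) ≠ 0 := by
  classical
  obtain ⟨L, iL1, iL2, iL3, hL⟩ :=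
    Groth.Agent.Lib.DiagClosure.exists_common_domain k K (T.card + 1)
  let ι : ∀ n : Fin (T.card + 1), K n →ₐ[k] L := fun n => (hL n.1 n.2).some
  by_contra hcon
  have hsumT : ∑ s ∈ T, s.1 * s.2 = 1 := by
    rw [← hμθ, hθ, map_sum]
    exact Finset.sum_congr rfl fun s _ => by rw [map_mul, h1, h2]
  have key : ∀ n m : Fin (T.card + 1),
      ∑ s ∈ T, ι n (α n s.1) * ι m (α m s.2) = if n = m then 1 else 0 := by
    intro n m
    split_ifs with hnm
    · subst hnm
      have : ∑ s ∈ T, ι n (α n s.1) * ι n (α n s.2) = ι n (α n (∑ s ∈ T, s.1 * s.2)) := by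
        simp only [map_sum, map_mul]
      rw [this, hsumT, map_one, map_one]
    · by_contra hne
      exact hcon ⟨n, m, fun h => hnm (Fin.ext h), L, iL1, iL2, iL3, ι n, ι m, hne⟩
  let X : Matrix (Fin (T.card + 1)) T L := fun n s => ι n (α n s.1.1)
  let Y : Matrix T (Fin (T.card + 1)) L := fun s m => ι m (α m s.1.2)
  have hXY : X * Y = 1 := by
    ext n m
    rw [Matrix.mul_apply, Matrix.one_apply]
    exact (Finset.sum_coe_sort T
      (fun s => ι n (α n s.1) * ι m (α m s.2))).trans (key n m)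
  have h7 := Matrix.rank_mul_le_left X Y
  rw [hXY, Matrix.rank_one, Fintype.card_fin] at h7
  have h8 := Matrix.rank_le_card_width X
  rw [Fintype.card_coe] at h8
  omega

section Core

attribute [local instance] algZ

variable {A : CommRingCat.{u}} {Rs : Scheme.{u}}

/-- The scheme-theoretic core: an étale equivalence relation on an affine scheme, immersed in
the absolute product, has finite fibres. -/
theorem core (t₁ s₁ : Rs ⟶ Spec A) (e₁ : Spec A ⟶ Rs) [IsOpenImmersion e₁]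
    (het : e₁ ≫ t₁ = 𝟙 _) (hes : e₁ ≫ s₁ = 𝟙 _)
    (m' : Rs ⟶ Spec (CommRingCat.of (↥A ⊗[ULift.{u} ℤ] ↥A))) [IsImmersion m']
    (hm1 : m' ≫ Spec.map (CommRingCat.ofHom
      (Algebra.TensorProduct.includeLeftRingHom : ↥A →+* ↥A ⊗[ULift.{u} ℤ] ↥A)) = t₁)
    (hm2 : m' ≫ Spec.map (CommRingCat.ofHom
      (Algebra.TensorProduct.includeRight :
        ↥A →ₐ[ULift.{u} ℤ] ↥A ⊗[ULift.{u} ℤ] ↥A).toRingHom) = s₁)
    (hmono : ∀ {T : Scheme.{u}} (x y : T ⟶ Rs), x ≫ t₁ = y ≫ t₁ → x ≫ s₁ = y ≫ s₁ → x = y)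
    (hgpd : ∀ {T : Scheme.{u}} (x y : T ⟶ Rs), x ≫ s₁ = y ≫ s₁ →
      ∃ z : T ⟶ Rs, z ≫ t₁ = x ≫ t₁ ∧ z ≫ s₁ = y ≫ t₁)
    (u : ↥(Spec A)) : (s₁ ⁻¹' {u}).Finite := by
  classical
  by_contra hinf
  have hinf' : (s₁ ⁻¹' {u}).Infinite := hinf
  obtain ⟨r, hrinj, hrs⟩ : ∃ r : ℕ → ↥Rs, Function.Injective r ∧ ∀ n, s₁ (r n) = u :=
    ⟨fun n => (Set.Infinite.natEmbedding _ hinf' n).1,
      fun n m h => (Set.Infinite.natEmbedding _ hinf').injective (Subtype.ext h),
      fun n => (Set.Infinite.natEmbedding _ hinf' n).2⟩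
  obtain ⟨ι₁, hι₁⟩ : ∃ ι₁ : ↥A →+* ↥A ⊗[ULift.{u} ℤ] ↥A,
      ι₁ = Algebra.TensorProduct.includeLeftRingHom := ⟨_, rfl⟩
  obtain ⟨ι₂, hι₂⟩ : ∃ ι₂ : ↥A →+* ↥A ⊗[ULift.{u} ℤ] ↥A,
      ι₂ = (Algebra.TensorProduct.includeRight :
        ↥A →ₐ[ULift.{u} ℤ] ↥A ⊗[ULift.{u} ℤ] ↥A).toRingHom := ⟨_, rfl⟩
  rw [← hι₁] at hm1
  rw [← hι₂] at hm2
  -- the retraction given by the diagonal
  obtain ⟨ψe, hψe⟩ : ∃ ψe : CommRingCat.of (↥A ⊗[ULift.{u} ℤ] ↥A) ⟶ A,
      Spec.map ψe = e₁ ≫ m' := ⟨Spec.preimage _, Spec.map_preimage _⟩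
  have hμ1 : ∀ a : ↥A, ψe.hom (ι₁ a) = a := by
    have h : CommRingCat.ofHom ι₁ ≫ ψe = 𝟙 A := by
      apply Spec.map_injective
      rw [Spec.map_comp, hψe, Category.assoc, hm1, het]
      exact (Spec.map_id A).symm
    intro a
    exact congrArg (fun f : A ⟶ A => f.hom a) h
  have hμ2 : ∀ a : ↥A, ψe.hom (ι₂ a) = a := by
    have h : CommRingCat.ofHom ι₂ ≫ ψe = 𝟙 A := by
      apply Spec.map_injective
      rw [Spec.map_comp, hψe, Category.assoc, hm2, hes]
      exact (Spec.map_id A).symm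
    intro a
    exact congrArg (fun f : A ⟶ A => f.hom a) h
  have hsurj : Function.Surjective ψe.hom := fun a => ⟨ι₁ a, hμ1 a⟩
  -- the open set cutting out the diagonal
  have hopen : IsOpen (Set.range e₁) := e₁.isOpenEmbedding.isOpen_range
  obtain ⟨O', hO'open, hO'⟩ := m'.isEmbedding.isInducing.isOpen_iff.1 hopen
  have hdiag : ∀ y₀ : ↥(Spec A), (Spec.map ψe) y₀ ∈ O' := by
    intro y₀
    rw [hψe, Scheme.Hom.comp_apply]
    have : e₁ y₀ ∈ m' ⁻¹' O' := by rw [hO']; exact ⟨y₀, rfl⟩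
    exact this
  obtain ⟨θ, hθC, hθ1⟩ : ∃ θ : ↥A ⊗[ULift.{u} ℤ] ↥A,
      (∀ x : PrimeSpectrum (↥A ⊗[ULift.{u} ℤ] ↥A), x ∉ O' → θ ∈ x.asIdeal) ∧ ψe.hom θ = 1 := by
    obtain ⟨C, hC⟩ : ∃ C : Set (PrimeSpectrum (↥A ⊗[ULift.{u} ℤ] ↥A)), C = O'ᶜ := ⟨_, rfl⟩
    have hCclosed : IsClosed C := by rw [hC]; exact hO'open.isClosed_compl
    have hJ : PrimeSpectrum.vanishingIdeal C ⊔ RingHom.ker ψe.hom = ⊤ := by
      by_contra hne
      obtain ⟨M, hM, hle⟩ := Ideal.exists_le_maximal _ hne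
      obtain ⟨xM, hxM⟩ : ∃ xM : PrimeSpectrum (↥A ⊗[ULift.{u} ℤ] ↥A), xM.asIdeal = M :=
        ⟨⟨M, hM.isPrime⟩, rfl⟩
      have h1 : xM ∈ C := by
        have : xM ∈ PrimeSpectrum.zeroLocus
            (PrimeSpectrum.vanishingIdeal C : Set (↥A ⊗[ULift.{u} ℤ] ↥A)) := by
          rw [PrimeSpectrum.mem_zeroLocus, hxM]
          exact fun b hb => hle (Ideal.mem_sup_left hb)
        rwa [PrimeSpectrum.zeroLocus_vanishingIdeal_eq_closure, hCclosed.closure_eq] at this
      have h2 : xM ∈ Set.range (PrimeSpectrum.comap ψe.hom) := by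
        rw [range_comap_of_surjective (hf := hsurj), PrimeSpectrum.mem_zeroLocus,
          hxM]
        exact fun b hb => hle (Ideal.mem_sup_right hb)
      obtain ⟨y₀, hy₀⟩ := h2
      rw [hC] at h1
      apply h1
      rw [← hy₀]
      exact hdiag y₀
    have h1mem : (1 : ↥A ⊗[ULift.{u} ℤ] ↥A) ∈
        PrimeSpectrum.vanishingIdeal C ⊔ RingHom.ker ψe.hom := hJ ▸ Submodule.mem_top
    obtain ⟨θ, hθ, κ, hκ, hsum⟩ := Submodule.mem_sup.mp h1mem
    refine ⟨θ, fun x hx => ?_, ?_⟩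
    · exact (PrimeSpectrum.mem_vanishingIdeal _ _).mp hθ x (by rw [hC]; exact hx)
    · have h3 := congrArg ψe.hom hsum
      rw [map_add, (RingHom.mem_ker).mp hκ, add_zero, map_one] at h3
      exact h3
  obtain ⟨T, hT⟩ := TensorProduct.exists_finset θ
  have hθT : θ = ∑ s ∈ T, ι₁ s.1 * ι₂ s.2 := by
    rw [hT]
    refine Finset.sum_congr rfl fun s _ => ?_
    rw [hι₁, hι₂]
    show s.1 ⊗ₜ[ULift.{u} ℤ] s.2 =
      (s.1 ⊗ₜ[ULift.{u} ℤ] (1 : ↥A)) * ((1 : ↥A) ⊗ₜ[ULift.{u} ℤ] s.2)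
    rw [Algebra.TensorProduct.tmul_mul_tmul, mul_one, one_mul]
  -- the residue fields
  let φ : ∀ n, (Spec A).residueField u ⟶ Rs.residueField (r n) := fun n =>
    ((Spec A).residueFieldCongr (hrs n).symm).hom ≫ s₁.residueFieldMap (r n)
  have hCn : ∀ n, Spec.map (φ n) ≫ (Spec A).fromSpecResidueField u =
      Rs.fromSpecResidueField (r n) ≫ s₁ := by
    intro n
    rw [Spec.map_comp, Category.assoc, Scheme.residueFieldCongr_fromSpecResidueField,
      Scheme.Hom.SpecMap_residueFieldMap_fromSpecResidueField]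
  let αc : ∀ n, A ⟶ Rs.residueField (r n) := fun n =>
    Spec.preimage (Rs.fromSpecResidueField (r n) ≫ t₁)
  have hαc : ∀ n, Spec.map (αc n) = Rs.fromSpecResidueField (r n) ≫ t₁ :=
    fun n => Spec.map_preimage _
  letI : ∀ n, Algebra ↥((Spec A).residueField u) ↥(Rs.residueField (r n)) :=
    fun n => (φ n).hom.toAlgebra
  obtain ⟨n, m, hnm, L, iL1, iL2, iL3, jn, jm, hne⟩ :=
    exists_offdiag_ne_zero ι₁ ι₂ ψe.hom hμ1 hμ2 T θ hθT hθ1 ↥((Spec A).residueField u)
      (fun n => ↥(Rs.residueField (r n))) (fun n => (αc n).hom)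
  obtain ⟨iN, hiN⟩ : ∃ iN : Rs.residueField (r n) ⟶ CommRingCat.of (FractionRing L),
      iN.hom = (algebraMap L (FractionRing L)).comp jn.toRingHom := ⟨CommRingCat.ofHom _, rfl⟩
  obtain ⟨iM, hiM⟩ : ∃ iM : Rs.residueField (r m) ⟶ CommRingCat.of (FractionRing L),
      iM.hom = (algebraMap L (FractionRing L)).comp jm.toRingHom := ⟨CommRingCat.ofHom _, rfl⟩
  obtain ⟨x, hx⟩ : ∃ x : Spec (CommRingCat.of (FractionRing L)) ⟶ Rs,
      x = Spec.map iN ≫ Rs.fromSpecResidueField (r n) := ⟨_, rfl⟩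
  obtain ⟨y, hy⟩ : ∃ y : Spec (CommRingCat.of (FractionRing L)) ⟶ Rs,
      y = Spec.map iM ≫ Rs.fromSpecResidueField (r m) := ⟨_, rfl⟩
  have hφcomp : φ n ≫ iN = φ m ≫ iM := by
    apply CommRingCat.hom_ext
    apply RingHom.ext
    intro c
    show iN.hom ((φ n).hom c) = iM.hom ((φ m).hom c)
    rw [hiN, hiM]
    show algebraMap L (FractionRing L) (jn ((φ n).hom c)) =
      algebraMap L (FractionRing L) (jm ((φ m).hom c))
    have h1 : jn ((φ n).hom c) = algebraMap _ L c := jn.commutes c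
    have h2 : jm ((φ m).hom c) = algebraMap _ L c := jm.commutes c
    rw [h1, h2]
  have hxy : x ≫ s₁ = y ≫ s₁ := by
    rw [hx, hy, Category.assoc, Category.assoc, ← hCn n, ← hCn m, ← Category.assoc,
      ← Category.assoc, ← Spec.map_comp, ← Spec.map_comp, hφcomp]
  obtain ⟨z, hz1, hz2⟩ := hgpd x y hxy
  obtain ⟨ψz, hψz⟩ : ∃ ψz : CommRingCat.of (↥A ⊗[ULift.{u} ℤ] ↥A) ⟶
      CommRingCat.of (FractionRing L), Spec.map ψz = z ≫ m' :=
    ⟨Spec.preimage _, Spec.map_preimage _⟩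
  have hz_ι₁ : ∀ a : ↥A, ψz.hom (ι₁ a) = iN.hom ((αc n).hom a) := by
    have h : CommRingCat.ofHom ι₁ ≫ ψz = αc n ≫ iN := by
      apply Spec.map_injective
      rw [Spec.map_comp, hψz, Category.assoc, hm1, hz1, hx, Category.assoc, ← hαc n,
        ← Spec.map_comp]
    intro a
    exact congrArg (fun f : A ⟶ CommRingCat.of (FractionRing L) => f.hom a) h
  have hz_ι₂ : ∀ b : ↥A, ψz.hom (ι₂ b) = iM.hom ((αc m).hom b) := by
    have h : CommRingCat.ofHom ι₂ ≫ ψz = αc m ≫ iM := by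
      apply Spec.map_injective
      rw [Spec.map_comp, hψz, Category.assoc, hm2, hz2, hy, Category.assoc, ← hαc m,
        ← Spec.map_comp]
    intro b
    exact congrArg (fun f : A ⟶ CommRingCat.of (FractionRing L) => f.hom b) h
  have hψzθ : ψz.hom θ ≠ 0 := by
    have hval : ψz.hom θ = algebraMap L (FractionRing L)
        (∑ s ∈ T, jn ((αc n).hom s.1) * jm ((αc m).hom s.2)) := by
      rw [hθT, map_sum, map_sum]
      refine Finset.sum_congr rfl fun s _ => ?_
      rw [map_mul, hz_ι₁, hz_ι₂, map_mul, hiN, hiM]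
      rfl
    rw [hval]
    intro h0
    exact hne ((IsFractionRing.injective L (FractionRing L)) (h0.trans (map_zero _).symm))
  obtain ⟨pt, -⟩ : ∃ pt : ↥(Spec (CommRingCat.of (FractionRing L))), pt = pt :=
    ⟨(IsLocalRing.closedPoint (FractionRing L) : PrimeSpectrum (FractionRing L)), rfl⟩
  have hw : z pt ∈ m' ⁻¹' O' := by
    by_contra hnot
    have h1 : θ ∈ (m' (z pt)).asIdeal := hθC _ hnot
    have h2 : m' (z pt) = (Spec.map ψz) pt := by
      rw [hψz, Scheme.Hom.comp_apply]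
    rw [h2] at h1
    have h3 : ψz.hom θ ∈ (show PrimeSpectrum (FractionRing L) from pt).asIdeal := h1
    exact (show PrimeSpectrum (FractionRing L) from pt).isPrime.ne_top
      (Ideal.eq_top_of_isUnit_mem _ h3 (IsUnit.mk0 _ hψzθ))
  rw [hO'] at hw
  have hsub : ∀ p q : ↥(Spec (CommRingCat.of (FractionRing L))), p = q := fun p q =>
    Subsingleton.elim (α := PrimeSpectrum (FractionRing L)) p q
  have hrange : Set.range z ⊆ Set.range e₁ := by
    rintro _ ⟨p, rfl⟩
    rw [hsub p pt]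
    exact hw
  have hl : IsOpenImmersion.lift e₁ z hrange ≫ e₁ = z := IsOpenImmersion.lift_fac _ _ _
  have hzts : z ≫ t₁ = z ≫ s₁ := by
    rw [← hl, Category.assoc, Category.assoc, het, hes]
  have hxyt : x ≫ t₁ = y ≫ t₁ := by rw [← hz1, hzts, hz2]
  have hxeq : x = y := hmono x y hxyt hxy
  have hpts : r n = r m := by
    have h1 : x pt = r n := by
      rw [hx, Scheme.Hom.comp_apply]
      exact Scheme.fromSpecResidueField_apply _ _
    have h2 : y pt = r m := by
      rw [hy, Scheme.Hom.comp_apply]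
      exact Scheme.fromSpecResidueField_apply _ _
    rw [← h1, ← h2, hxeq]
  exact hnm (hrinj hpts)

end Core

section Wrapper

attribute [local instance] algZ

open AlgSp Groth.Agent.Lib.AlgSpPoints_helper7 Groth.Agent.Lib.AlgSpChart_helper7
  Groth.Agent.Lib.DecentSchLocusH7

variable {S : Scheme.{u}}

/-- The kernel pair of an affine étale chart of a locally separated space has finite fibres. -/
theorem finite_fibre_of_locSep (X : Space S) (hX : IsLocallySeparatedSp X.obj) {U R : Over S}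
    [IsAffine U.left] (a : (yon S).obj U ⟶ X.obj) (hae : RepWith @Etale a) {t s : R ⟶ U}
    (sq : IsPullback ((yon S).map t) ((yon S).map s) a a) (u : ↥U.left) :
    (s.left ⁻¹' {u}).Finite := by
  obtain ⟨A, ⟨iA⟩⟩ : ∃ A : CommRingCat.{u}, Nonempty (U.left ≅ Spec A) :=
    ⟨_, ⟨U.left.isoSpec⟩⟩
  haveI hse : Etale s.left := hae.property a _ s sq
  obtain ⟨e, het, hes⟩ : ∃ e : U ⟶ R, e ≫ t = 𝟙 U ∧ e ≫ s = 𝟙 U := by
    obtain ⟨e, he⟩ := (yon S).map_surjective (sq.lift (𝟙 _) (𝟙 _) rfl)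
    refine ⟨e, (yon S).map_injective ?_, (yon S).map_injective ?_⟩
    · rw [Functor.map_comp, he, sq.lift_fst]
      exact ((yon S).map_id U).symm
    · rw [Functor.map_comp, he, sq.lift_snd]
      exact ((yon S).map_id U).symm
  have hes' : e.left ≫ s.left = 𝟙 U.left := by rw [← Over.comp_left, hes]; rfl
  have het' : e.left ≫ t.left = 𝟙 U.left := by rw [← Over.comp_left, het]; rfl
  haveI : IsOpenImmersion e.left := isOpenImmersion_of_section s.left e.left hes'
  obtain ⟨W, pU, pV, rr, ρ, sqW, hρ1, hρ2, -, -, sqD, -⟩ := exists_fibreProduct_chart a a t s sq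
  haveI hρi : IsImmersion ρ.left := hX.property rr _ ρ sqD
  -- the absolute product
  obtain ⟨c, -⟩ : ∃ c : S ⟶ Spec (CommRingCat.of (ULift.{u} ℤ)), c = c :=
    ⟨specULiftZIsTerminal.from S, rfl⟩
  have hc : ∀ {T : Scheme.{u}} (f g : T ⟶ Spec (CommRingCat.of (ULift.{u} ℤ))), f = g :=
    fun f g => specULiftZIsTerminal.hom_ext f g
  obtain ⟨q₁, hq₁⟩ : ∃ q₁ : Spec (CommRingCat.of (↥A ⊗[ULift.{u} ℤ] ↥A)) ⟶ Spec A,
      q₁ = Spec.map (CommRingCat.ofHom
        (Algebra.TensorProduct.includeLeftRingHom : ↥A →+* ↥A ⊗[ULift.{u} ℤ] ↥A)) := ⟨_, rfl⟩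
  obtain ⟨q₂, hq₂⟩ : ∃ q₂ : Spec (CommRingCat.of (↥A ⊗[ULift.{u} ℤ] ↥A)) ⟶ Spec A,
      q₂ = Spec.map (CommRingCat.ofHom
        (Algebra.TensorProduct.includeRight :
          ↥A →ₐ[ULift.{u} ℤ] ↥A ⊗[ULift.{u} ℤ] ↥A).toRingHom) := ⟨_, rfl⟩
  have hP : IsPullback q₁ q₂
      (Spec.map (CommRingCat.ofHom (algebraMap (ULift.{u} ℤ) ↥A)))
      (Spec.map (CommRingCat.ofHom (algebraMap (ULift.{u} ℤ) ↥A))) := by
    rw [hq₁, hq₂]
    exact isPullback_SpecMap_of_isPushout _ _ _ _
      (CommRingCat.isPushout_tensorProduct (ULift.{u} ℤ) ↥A ↥A)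
  have hP' : IsPullback (q₁ ≫ iA.inv) (q₂ ≫ iA.inv) (U.hom ≫ c) (U.hom ≫ c) :=
    IsPullback.of_iso hP (Iso.refl _) iA.symm iA.symm (Iso.refl _) (by simp) (by simp)
      (hc _ _) (hc _ _)
  obtain ⟨nn, hnn⟩ : ∃ nn : W.left ⟶ Spec (CommRingCat.of (↥A ⊗[ULift.{u} ℤ] ↥A)),
      nn = sqW.isoPullback.hom ≫ pullback.mapDesc U.hom U.hom c ≫ hP'.isoPullback.inv :=
    ⟨_, rfl⟩
  haveI : IsImmersion nn := by rw [hnn]; infer_instance
  have hmd1 : pullback.mapDesc U.hom U.hom c ≫ pullback.fst (U.hom ≫ c) (U.hom ≫ c) =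
      pullback.fst U.hom U.hom := by
    simp only [pullback.mapDesc, pullback.map, pullback.lift_fst, Category.comp_id]
  have hmd2 : pullback.mapDesc U.hom U.hom c ≫ pullback.snd (U.hom ≫ c) (U.hom ≫ c) =
      pullback.snd U.hom U.hom := by
    simp only [pullback.mapDesc, pullback.map, pullback.lift_snd, Category.comp_id]
  have hn1 : nn ≫ q₁ = pU.left ≫ iA.hom := by
    have h : nn ≫ q₁ ≫ iA.inv = pU.left := by
      rw [hnn, Category.assoc, Category.assoc, hP'.isoPullback_inv_fst, hmd1,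
        sqW.isoPullback_hom_fst]
    rw [← h, Category.assoc, Category.assoc, iA.inv_hom_id, Category.comp_id]
  have hn2 : nn ≫ q₂ = pV.left ≫ iA.hom := by
    have h : nn ≫ q₂ ≫ iA.inv = pV.left := by
      rw [hnn, Category.assoc, Category.assoc, hP'.isoPullback_inv_snd, hmd2,
        sqW.isoPullback_hom_snd]
    rw [← h, Category.assoc, Category.assoc, iA.inv_hom_id, Category.comp_id]
  have hρt : ρ.left ≫ pU.left = t.left := by rw [← Over.comp_left, hρ1]
  have hρs : ρ.left ≫ pV.left = s.left := by rw [← Over.comp_left, hρ2]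
  have key := core (A := A) (Rs := R.left) (t.left ≫ iA.hom) (s.left ≫ iA.hom)
    (iA.inv ≫ e.left)
    (by rw [Category.assoc, ← Category.assoc e.left, het', Category.id_comp, iA.inv_hom_id])
    (by rw [Category.assoc, ← Category.assoc e.left, hes', Category.id_comp, iA.inv_hom_id])
    (ρ.left ≫ nn)
    (by rw [← hq₁, Category.assoc, hn1, ← Category.assoc, hρt])
    (by rw [← hq₂, Category.assoc, hn2, ← Category.assoc, hρs])
    (by
      intro T x y h1 h2
      rw [← Category.assoc, ← Category.assoc, cancel_mono] at h1 h2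
      exact left_hom_ext' sq x y h1 h2)
    (by
      intro T x y h
      rw [← Category.assoc, ← Category.assoc, cancel_mono] at h
      have hy' : y ≫ R.hom = x ≫ R.hom := by
        rw [← Over.w s, ← Category.assoc, ← Category.assoc, h]
      let X' : Over.mk (x ≫ R.hom) ⟶ R := Over.homMk x rfl
      let Y' : Over.mk (x ≫ R.hom) ⟶ R := Over.homMk y hy'
      have hXY : X' ≫ s = Y' ≫ s := by
        apply Over.OverMorphism.ext
        rw [Over.comp_left, Over.comp_left]
        exact h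
      have hcomp : (yon S).map (X' ≫ t) ≫ a = (yon S).map (Y' ≫ t) ≫ a := by
        rw [Functor.map_comp, Functor.map_comp, Category.assoc, Category.assoc, sq.w,
          ← Category.assoc, ← Category.assoc, ← Functor.map_comp, ← Functor.map_comp, hXY]
      obtain ⟨z, hz⟩ := (yon S).map_surjective
        (sq.lift ((yon S).map (X' ≫ t)) ((yon S).map (Y' ≫ t)) hcomp)
      have hz1 : z ≫ t = X' ≫ t :=
        (yon S).map_injective (by rw [Functor.map_comp, hz, sq.lift_fst])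
      have hz2 : z ≫ s = Y' ≫ t :=
        (yon S).map_injective (by rw [Functor.map_comp, hz, sq.lift_snd])
      refine ⟨z.left, ?_, ?_⟩
      · have h1 := congrArg (fun w => w.left) hz1
        simp only [Over.comp_left] at h1
        rw [← Category.assoc, h1]
        rfl
      · have h2 := congrArg (fun w => w.left) hz2
        simp only [Over.comp_left] at h2
        rw [← Category.assoc, h2]
        rfl)
    (iA.hom u)
  refine key.subset ?_
  intro r hr
  show (s.left ≫ iA.hom) r = iA.hom u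
  rw [Scheme.Hom.comp_apply]
  exact congrArg _ hr

/-- An algebraic space all of whose affine étale charts have kernel pairs with finite fibres
is decent. -/
theorem isDecent_of_finite_fibres (X : Space S)
    (h : ∀ (U R : Over S) (a : (yon S).obj U ⟶ X.obj) (s t : R ⟶ U), IsAffine U.left →
      RepWith @Etale a → IsPullback ((yon S).map s) ((yon S).map t) a a →
      ∀ u : ↥U.left, (t.left ⁻¹' {u}).Finite) : IsDecent X.obj := by
  intro x
  apply Groth.Agent.Lib.FieldQuot4H6.exists_qc_mono_point_of_finite_fibres X.property x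
  intro U φ hU hφ R s t sq
  have hs : ∀ u, (s.left ⁻¹' {u}).Finite := fun u => h U R φ t s hU hφ sq u
  have ht : ∀ u, (t.left ⁻¹' {u}).Finite := fun u => h U R φ s t hU hφ sq.flip u
  have h1 : (Points.ofPt φ ⁻¹' {x}).Finite := by
    rcases (Points.ofPt φ ⁻¹' {x}).eq_empty_or_nonempty with h0 | ⟨u₀, hu₀⟩
    · rw [h0]; exact Set.finite_empty
    · refine ((hs u₀).image t.left).subset ?_
      intro u hu
      obtain ⟨r, hr1, hr2⟩ := exists_ofPt_eq_of_isPullback sq u u₀ (hu.trans hu₀.symm)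
      exact ⟨r, hr2, hr1⟩
  refine ⟨h1, ?_⟩
  refine (h1.preimage' (f := t.left) fun u _ => ht u).subset ?_
  intro r hr
  change Points.ofPt φ (t.left r) = x
  rw [← ofPt_comp]
  exact hr

theorem main10378 (X : Space S) (hX : IsLocallySeparatedSp X.obj) : IsDecent X.obj :=
  isDecent_of_finite_fibres X fun U R a s t hU hae sq u => by
    haveI := hU
    exact finite_fibre_of_locSep X hX a hae sq u

end Wrapper

end Groth.Agent.Lib.LocSepDecentH7
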