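import Mathlib
import Groth.Agent.Lib.CMMor4_helper8
import Groth.Agent.Lib.EtNbhdFin2_helper4

/-!
# Local structure of a morphism locally of finite type (helper8)

APPEND-ONLY once landed.
-/

set_option autoImplicit false
universe u

namespace Groth.Agent.Lib.LocStructH8

open AlgebraicGeometry CategoryTheory Limits TopologicalSpace Topology MvPolynomial

section MvSmooth

/-- The standard submersive presentation of a polynomial algebra: no relations
(after helper3's `EtaFinH3.mvPres`). -/
noncomputable def mvPres (R : Type u) [CommRing R] (ι : Type) [Finite ι] :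
    Algebra.SubmersivePresentation R (MvPolynomial ι R) ι PEmpty.{1} where
  toGenerators := Algebra.Generators.ofSurjective (R := R) (S := MvPolynomial ι R) X (by
    rw [aeval_X_left]
    exact fun x => ⟨x, rfl⟩)
  relation := PEmpty.elim
  span_range_relation_eq_ker := by
    simp only [Set.range_eq_empty, Ideal.span_empty]
    rw [Algebra.Generators.ker_eq_ker_aeval_val]
    symm
    rw [← RingHom.injective_iff_ker_eq_bot]
    change Function.Injective (aeval (X : ι → MvPolynomial ι R))
    rw [aeval_X_left]
    exact fun _ _ h => h
  map := PEmpty.elim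
  map_inj a := a.elim
  jacobian_isUnit := by
    rw [Algebra.PreSubmersivePresentation.jacobian_eq_jacobiMatrix_det, Matrix.det_isEmpty,
      map_one]
    exact isUnit_one

theorem isStandardSmoothOfRelativeDimension_mvPolynomial (R : Type u) [CommRing R] (d : ℕ) :
    Algebra.IsStandardSmoothOfRelativeDimension d R (MvPolynomial (Fin d) R) :=
  ⟨Fin d, PEmpty.{1}, inferInstance, inferInstance, mvPres R (Fin d), by
    simp [Algebra.Presentation.dimension]⟩

theorem isStandardSmoothOfRelativeDimension_mvPolynomial_ulift (R : Type u) [CommRing R] (d : ℕ) :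
    Algebra.IsStandardSmoothOfRelativeDimension d R (MvPolynomial (ULift.{u} (Fin d)) R) := by
  haveI := isStandardSmoothOfRelativeDimension_mvPolynomial R d
  exact Algebra.IsStandardSmoothOfRelativeDimension.of_algEquiv (n := d)
    (MvPolynomial.renameEquiv R (Equiv.ulift.{u} (α := Fin d)).symm)

end MvSmooth

set_option backward.isDefEq.respectTransparency.types false in
/-- affine `d`-space over `S` is smooth of relative dimension `d` over `S`. -/
theorem smoothOfRelativeDimension_affineSpace (d : ℕ) (S : Scheme.{u}) :
    SmoothOfRelativeDimension d (𝔸(ULift.{u} (Fin d); S) ↘ S) :=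
  haveI := smoothOfRelativeDimension_isStableUnderBaseChange d
  MorphismProperty.pullback_fst (P := @SmoothOfRelativeDimension d) _ _ <| by
  have := isIso_of_isTerminal specULiftZIsTerminal.{u} terminalIsTerminal
    (terminal.from (Spec (CommRingCat.of (ULift.{u} ℤ))))
  rw [← terminal.comp_from (Spec.map (CommRingCat.ofHom
      (C (R := ULift.{u} ℤ) (σ := ULift.{u} (Fin d))))),
    MorphismProperty.cancel_right_of_respectsIso (P := @SmoothOfRelativeDimension d),
    HasRingHomProperty.Spec_iff (P := @SmoothOfRelativeDimension d)]
  apply RingHom.locally_of RingHom.isStandardSmoothOfRelativeDimension_respectsIso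
  rw [RingHom.IsStandardSmoothOfRelativeDimension]
  have hsm := isStandardSmoothOfRelativeDimension_mvPolynomial_ulift (ULift.{u} ℤ) d
  convert! hsm
  exact Algebra.algebra_ext _ _ fun _ ↦ rfl

end Groth.Agent.Lib.LocStructH8
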