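import Mathlib
import Groth.Agent.Lib.LocStruct1_helper8

set_option autoImplicit false
universe u

namespace Groth.Agent.Lib.LocStructH8

open AlgebraicGeometry CategoryTheory Limits TopologicalSpace Topology

theorem smoothOfRelDim_congr {m m' : ℕ} (h : m = m') {X Y : Scheme.{u}} (f : X ⟶ Y)
    (hf : SmoothOfRelativeDimension m f) : SmoothOfRelativeDimension m' f := by
  subst h; exact hf

theorem main0442 {X S : Scheme.{u}} (f : X ⟶ S) [LocallyOfFiniteType f] (x : X) (n : ℕ)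
    (hn : FlatMor.fibreDimAt f x = n) :
    ∃ (X' Y : Scheme.{u}) (g : X' ⟶ X) (π : X' ⟶ Y) (h : Y ⟶ S) (x' : X'), g ≫ f = π ≫ h ∧
      Etale g ∧ g x' = x ∧
      Function.Surjective (g.residueFieldMap x') ∧ IsFinite π ∧ SmoothOfRelativeDimension n h ∧
      ∀ z : ↑X', π z = π x' → z = x' := by
  obtain ⟨V, hV, hxV⟩ : ∃ V : S.Opens, IsAffineOpen V ∧ f x ∈ V := by
    obtain ⟨_, ⟨V, hV, rfl⟩, hxV, -⟩ := S.isBasis_affineOpens.exists_subset_of_mem_open
      (Set.mem_univ (f x)) isOpen_univ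
    exact ⟨V, hV, hxV⟩
  obtain ⟨U, hU, hUV, g₀, hxU, -, hg₀, hlqf⟩ :=
    Groth.Agent.Lib.CMMorH8.exists_lqf_affine f x n hn ⊤ trivial V hV hxV
  haveI := hlqf
  haveI : LocallyOfFiniteType (g₀ ≫ (𝔸(ULift.{u} (Fin n); (V : Scheme.{u})) ↘ (V : Scheme.{u}))) := by
    rw [hg₀]; infer_instance
  haveI : LocallyOfFiniteType g₀ :=
    locallyOfFiniteType_of_comp g₀ (𝔸(ULift.{u} (Fin n); (V : Scheme.{u})) ↘ (V : Scheme.{u}))
  have hq : g₀.QuasiFiniteAt (⟨x, hxU⟩ : (U : Scheme.{u})) := by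
    rw [← Scheme.Hom.mem_quasiFiniteLocus, Scheme.Hom.quasiFiniteLocus_eq_top]
    trivial
  obtain ⟨Y, e, y, he, hey, hres, W, w, hwW, hfin, hw2, huniq, hw1⟩ :=
    Groth.Agent.Lib.EtNbhdFinH4.master g₀ hq
  haveI := he
  haveI := smoothOfRelativeDimension_affineSpace n (V : Scheme.{u})
  refine ⟨W, Y, W.ι ≫ pullback.fst g₀ e ≫ U.ι, W.ι ≫ pullback.snd g₀ e,
    e ≫ (𝔸(ULift.{u} (Fin n); (V : Scheme.{u})) ↘ (V : Scheme.{u})) ≫ V.ι,
    (⟨w, hwW⟩ : (W : Scheme.{u})), ?_, ?_, ?_, ?_, hfin, ?_, ?_⟩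
  · -- commutativity
    have h1 : U.ι ≫ f = f.resLE V U hUV ≫ V.ι := (Scheme.Hom.resLE_comp_ι f hUV).symm
    simp only [Category.assoc]
    rw [h1, ← hg₀]
    simp only [Category.assoc]
    rw [pullback.condition_assoc]
  · infer_instance
  · show U.ι (pullback.fst g₀ e (W.ι ⟨w, hwW⟩)) = x
    have : W.ι (⟨w, hwW⟩ : (W : Scheme.{u})) = w := rfl
    rw [this, hw1]
    rfl
  · -- residue fields
    have hb1 : Function.Bijective ((pullback.fst g₀ e).residueFieldMap w) := by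
      apply Groth.Agent.Lib.EtNbhdFinH4.residueFieldMap_fst_bijective g₀ e w
      rw [hw2]; exact hres
    rw [Scheme.residueFieldMap_comp, Scheme.residueFieldMap_comp]
    have hW : Function.Bijective ((W.ι).residueFieldMap (⟨w, hwW⟩ : (W : Scheme.{u}))) :=
      ConcreteCategory.bijective_of_isIso _
    have hUι : Function.Bijective (U.ι.residueFieldMap
        ((pullback.fst g₀ e) (W.ι (⟨w, hwW⟩ : (W : Scheme.{u}))))) :=
      ConcreteCategory.bijective_of_isIso _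
    have hb1' : Function.Bijective ((pullback.fst g₀ e).residueFieldMap
        (W.ι (⟨w, hwW⟩ : (W : Scheme.{u})))) := hb1
    intro c
    obtain ⟨c1, hc1⟩ := hW.surjective c
    obtain ⟨c2, hc2⟩ := hb1'.surjective c1
    obtain ⟨c3, hc3⟩ := hUι.surjective c2
    refine ⟨c3, ?_⟩
    show (W.ι.residueFieldMap (⟨w, hwW⟩ : (W : Scheme.{u}))).hom
      (((pullback.fst g₀ e).residueFieldMap (W.ι (⟨w, hwW⟩ : (W : Scheme.{u})))).hom
        ((U.ι.residueFieldMap ((pullback.fst g₀ e) (W.ι (⟨w, hwW⟩ : (W : Scheme.{u}))))).hom c3)) = c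
    erw [hc3, hc2, hc1]
  · have h1 : SmoothOfRelativeDimension (n + 0)
        ((𝔸(ULift.{u} (Fin n); (V : Scheme.{u})) ↘ (V : Scheme.{u})) ≫ V.ι) := inferInstance
    have h2 : SmoothOfRelativeDimension (0 + (n + 0))
        (e ≫ (𝔸(ULift.{u} (Fin n); (V : Scheme.{u})) ↘ (V : Scheme.{u})) ≫ V.ι) := inferInstance
    exact smoothOfRelDim_congr (by omega) _ h2
  · intro z hz
    have hz' : pullback.snd g₀ e (W.ι z) = pullback.snd g₀ e w := hz
    have := huniq (W.ι z) z.2 (by rw [hz', hw2])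
    exact Subtype.ext this

end Groth.Agent.Lib.LocStructH8
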