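import Mathlib
import Groth.Prelude

set_option autoImplicit false
set_option linter.style.haveILetI false
set_option linter.unusedVariables false

universe u

namespace Groth.Agent.Lib.LocSubH4

variable {T : Type*} [CommRing T]

/-- the localization of the subring `T₁` of `T` at its elements that are units of `T`,
realised inside `T` -/
def locSub (T₁ : Subring T) : Subring T where
  carrier := {x | ∃ a ∈ T₁, ∃ s ∈ T₁, IsUnit s ∧ x * s = a}
  zero_mem' := ⟨0, T₁.zero_mem, 1, T₁.one_mem, isUnit_one, by ring⟩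
  one_mem' := ⟨1, T₁.one_mem, 1, T₁.one_mem, isUnit_one, by ring⟩
  add_mem' := @fun x y hx hy => by
    obtain ⟨a, ha, s, hs, hsu, hxs⟩ := hx
    obtain ⟨b, hb, t, ht, htu, hyt⟩ := hy
    refine ⟨a * t + b * s, T₁.add_mem (T₁.mul_mem ha ht) (T₁.mul_mem hb hs), s * t,
      T₁.mul_mem hs ht, hsu.mul htu, ?_⟩
    rw [← hxs, ← hyt]; ring
  mul_mem' := @fun x y hx hy => by
    obtain ⟨a, ha, s, hs, hsu, hxs⟩ := hx
    obtain ⟨b, hb, t, ht, htu, hyt⟩ := hy
    refine ⟨a * b, T₁.mul_mem ha hb, s * t, T₁.mul_mem hs ht, hsu.mul htu, ?_⟩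
    rw [← hxs, ← hyt]; ring
  neg_mem' := @fun x hx => by
    obtain ⟨a, ha, s, hs, hsu, hxs⟩ := hx
    exact ⟨-a, T₁.neg_mem ha, s, hs, hsu, by rw [← hxs]; ring⟩

theorem mem_locSub (T₁ : Subring T) (x : T) :
    x ∈ locSub T₁ ↔ ∃ a ∈ T₁, ∃ s ∈ T₁, IsUnit s ∧ x * s = a := Iff.rfl

theorem le_locSub (T₁ : Subring T) : T₁ ≤ locSub T₁ :=
  fun a ha => ⟨a, ha, 1, T₁.one_mem, isUnit_one, mul_one a⟩

theorem exists_inv (T₁ : Subring T) {x : T} (hx : x ∈ locSub T₁) (hu : IsUnit x) :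
    ∃ y ∈ locSub T₁, x * y = 1 := by
  obtain ⟨a, ha, s, hs, hsu, hxs⟩ := hx
  have hau : IsUnit a := by rw [← hxs]; exact hu.mul hsu
  obtain ⟨a', ha'⟩ := hau.exists_right_inv
  refine ⟨s * a', ⟨s, hs, a, ha, hau, ?_⟩, ?_⟩
  · calc s * a' * a = s * (a * a') := by ring
      _ = s := by rw [ha', mul_one]
  · calc x * (s * a') = (x * s) * a' := by ring
      _ = a * a' := by rw [hxs]
      _ = 1 := ha'

theorem isUnit_iff (T₁ : Subring T) (x : locSub T₁) : IsUnit x ↔ IsUnit (x : T) := by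
  constructor
  · intro h; exact h.map (locSub T₁).subtype
  · intro h
    obtain ⟨y, hy, hxy⟩ := exists_inv T₁ x.2 h
    exact IsUnit.of_mul_eq_one (⟨y, hy⟩ : locSub T₁) (Subtype.ext hxy)

theorem isLocalRing_locSub [IsLocalRing T] (T₁ : Subring T) : IsLocalRing (locSub T₁) := by
  refine IsLocalRing.of_nonunits_add ?_
  intro a b ha hb
  rw [mem_nonunits_iff, isUnit_iff] at ha hb ⊢
  exact IsLocalRing.nonunits_add (R := T) ha hb

theorem isLocalHom_subtype (T₁ : Subring T) : IsLocalHom (locSub T₁).subtype :=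
  ⟨fun a ha => (isUnit_iff T₁ a).mpr ha⟩

/-- generic criterion: if `T₁` is generated as a ring by the image of `A` and a finite set,
then `A → locSub T₁` is essentially of finite type -/
theorem essFiniteType_of_gen {A : Type*} [CommRing A] (T₁ : Subring T) (ψ : A →+* locSub T₁)
    (σ : Finset (locSub T₁))
    (hgen : T₁ ≤ Subring.closure (Set.range (fun a : A => ((ψ a : locSub T₁) : T)) ∪
        ((fun z : locSub T₁ => (z : T)) '' (σ : Set (locSub T₁))))) :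
    ψ.EssFiniteType := by
  letI := ψ.toAlgebra
  show Algebra.EssFiniteType A (locSub T₁)
  rw [Algebra.essFiniteType_iff]
  refine ⟨σ, ?_⟩
  have key : ∀ b, b ∈ Subring.closure (Set.range (fun a : A => ((ψ a : locSub T₁) : T)) ∪
        ((fun z : locSub T₁ => (z : T)) '' (σ : Set (locSub T₁)))) →
      ∃ z ∈ Algebra.adjoin A (σ : Set (locSub T₁)), (z : T) = b := by
    intro b hb
    refine Subring.closure_induction
      (p := fun b _ => ∃ z ∈ Algebra.adjoin A (σ : Set (locSub T₁)), (z : T) = b)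
      ?_ ?_ ?_ ?_ ?_ ?_ hb
    · intro x hx
      rcases hx with ⟨a, rfl⟩ | ⟨z, hz, rfl⟩
      · exact ⟨ψ a, Subalgebra.algebraMap_mem _ a, rfl⟩
      · exact ⟨z, Algebra.subset_adjoin hz, rfl⟩
    · exact ⟨0, Subalgebra.zero_mem _, rfl⟩
    · exact ⟨1, Subalgebra.one_mem _, rfl⟩
    · intro x y _ _ ihx ihy
      obtain ⟨z, hz, rfl⟩ := ihx
      obtain ⟨w, hw, rfl⟩ := ihy
      exact ⟨z + w, Subalgebra.add_mem _ hz hw, rfl⟩
    · intro x _ ihx
      obtain ⟨z, hz, rfl⟩ := ihx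
      exact ⟨-z, Subalgebra.neg_mem _ hz, rfl⟩
    · intro x y _ _ ihx ihy
      obtain ⟨z, hz, rfl⟩ := ihx
      obtain ⟨w, hw, rfl⟩ := ihy
      exact ⟨z * w, Subalgebra.mul_mem _ hz hw, rfl⟩
  intro x
  obtain ⟨a, ha, s, hs, hsu, hxs⟩ := x.2
  obtain ⟨za, hza, hza'⟩ := key a (hgen ha)
  obtain ⟨zs, hzs, hzs'⟩ := key s (hgen hs)
  refine ⟨zs, hzs, (isUnit_iff T₁ zs).mpr (by rw [hzs']; exact hsu), ?_⟩
  have hx : x * zs = za := Subtype.ext (by
    show (x : T) * (zs : T) = (za : T)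
    rw [hzs', hza', hxs])
  rw [hx]; exact hza

theorem main (R S : Type u) [CommRing R] [CommRing S] [IsLocalRing R]
    [IsLocalRing S] [Algebra R S] [IsLocalHom (algebraMap R S)] (E : Finset R) (F : Finset S) :
    ∃ (R₀ : Subring R) (S₀ : Subring S) (h : ∀ x ∈ R₀, algebraMap R S x ∈ S₀),
      (E : Set R) ⊆ R₀ ∧ (F : Set S) ⊆ S₀ ∧ ∃ (_ : IsLocalRing R₀) (_ : IsLocalRing S₀),
        IsLocalHom R₀.subtype ∧ IsLocalHom S₀.subtype ∧
          IsLocalHom ((algebraMap R S).restrict R₀ S₀ h) ∧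
          (algebraMap ℤ R₀).EssFiniteType ∧ ((algebraMap R S).restrict R₀ S₀ h).EssFiniteType := by
  classical
  obtain ⟨R₁, hR₁⟩ : ∃ R₁ : Subring R, R₁ = Subring.closure (E : Set R) := ⟨_, rfl⟩
  obtain ⟨S₁, hS₁⟩ : ∃ S₁ : Subring S, S₁ = Subring.closure
      ((algebraMap R S) '' ((locSub R₁ : Subring R) : Set R) ∪ (F : Set S)) := ⟨_, rfl⟩
  have hE : (E : Set R) ⊆ locSub R₁ := fun e he =>
    le_locSub R₁ (by rw [hR₁]; exact Subring.subset_closure he)
  have hF : (F : Set S) ⊆ locSub S₁ := fun f hf =>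
    le_locSub S₁ (by rw [hS₁]; exact Subring.subset_closure (Or.inr hf))
  have h : ∀ x ∈ locSub R₁, algebraMap R S x ∈ locSub S₁ := fun x hx =>
    le_locSub S₁ (by rw [hS₁]; exact Subring.subset_closure (Or.inl ⟨x, hx, rfl⟩))
  refine ⟨locSub R₁, locSub S₁, h, hE, hF, isLocalRing_locSub R₁, isLocalRing_locSub S₁,
    isLocalHom_subtype R₁, isLocalHom_subtype S₁, ?_, ?_, ?_⟩
  · refine ⟨fun a ha => ?_⟩
    have h1 : IsUnit (((algebraMap R S).restrict (locSub R₁) (locSub S₁) h a : locSub S₁) : S) :=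
      (isUnit_iff S₁ _).mp ha
    have h2 : IsUnit (algebraMap R S (a : R)) := h1
    have h3 : IsUnit (a : R) := isUnit_of_map_unit (algebraMap R S) _ h2
    exact (isUnit_iff R₁ a).mpr h3
  · refine essFiniteType_of_gen R₁ (algebraMap ℤ (locSub R₁))
      (E.attach.image (fun e => (⟨e.1, hE (Finset.mem_coe.mpr e.2)⟩ : locSub R₁))) ?_
    refine le_trans (le_of_eq hR₁) (Subring.closure_mono ?_)
    intro e he
    refine Or.inr ⟨⟨e, hE he⟩, ?_, rfl⟩
    exact Finset.mem_coe.mpr (Finset.mem_image.mpr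
      ⟨⟨e, Finset.mem_coe.mp he⟩, Finset.mem_attach _ _, rfl⟩)
  · refine essFiniteType_of_gen S₁ ((algebraMap R S).restrict (locSub R₁) (locSub S₁) h)
      (F.attach.image (fun f => (⟨f.1, hF (Finset.mem_coe.mpr f.2)⟩ : locSub S₁))) ?_
    refine le_trans (le_of_eq hS₁) (Subring.closure_mono ?_)
    rintro y (⟨x, hx, rfl⟩ | hy)
    · exact Or.inl ⟨⟨x, hx⟩, rfl⟩
    · exact Or.inr ⟨⟨y, hF hy⟩, Finset.mem_coe.mpr (Finset.mem_image.mpr
        ⟨⟨y, Finset.mem_coe.mp hy⟩, Finset.mem_attach _ _, rfl⟩), rfl⟩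

end Groth.Agent.Lib.LocSubH4
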