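import Mathlib
import Groth.Agent.Lib.FlatHom5_helper2
import Groth.Agent.Lib.DMod100_helper6
import Groth.Agent.Lib.GorQuot1_helper2
import Groth.Agent.Lib.Roberts2_helper2
import Groth.Agent.S0366
import Groth.Agent.S0817
import Groth.Agent.S14020

/-!
# Supports of `Ext^{-i}(M, ω)` and local cohomology of the localizations (helper2)

For a Noetherian local ring `A` with normalized dualizing complex `ω`, a finite module `M`, a prime
`p` and `i : ℕ`: `p ∉ Supp Ext^{-i}(M, ω)` iff `H^{i - dim A/p}_{pA_p}(M_p) = 0`.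
Consequences: S17762 (radical of the annihilator of `H^i_m(M)`), S2934 (finite length of
`H^i_m(M)`).
-/

set_option autoImplicit false
universe u v
open CategoryTheory CategoryTheory.Limits DerivedCategory

attribute [local instance] HasDerivedCategory.standard

namespace Groth.Agent.Lib.LocSupp

open Groth.Agent.Lib.DMod_helper6 DRing Groth.Agent.Lib.FlatHom Groth.Agent.Lib.Roberts
  Groth.Agent.Lib.GorQuot Groth.Agent.Lib.DualExist

section FL

variable (A : Type u) [CommRing A] [IsLocalRing A] [IsNoetherianRing A]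

/-- an Artinian module killed by a power of the maximal ideal has finite length -/
theorem isFiniteLength_of_isArtinian_of_pow_kills {H : Type v} [AddCommGroup H] [Module A H]
    [IsArtinian A H] (k : ℕ)
    (hk : ∀ a ∈ IsLocalRing.maximalIdeal A ^ k, ∀ x : H, a • x = 0) : IsFiniteLength A H := by
  have htors : Module.IsTorsionBySet A H ((IsLocalRing.maximalIdeal A ^ k : Ideal A) : Set A) :=
    fun x a => hk a.1 a.2 x
  letI : Module (A ⧸ IsLocalRing.maximalIdeal A ^ k) H := htors.module
  haveI : IsScalarTower A (A ⧸ IsLocalRing.maximalIdeal A ^ k) H :=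
    Module.IsTorsionBySet.isScalarTower htors
  haveI : IsArtinianRing (A ⧸ IsLocalRing.maximalIdeal A ^ k) := by
    letI := Ideal.Quotient.field (IsLocalRing.maximalIdeal A)
    exact Groth.Agent.S14020.result A (IsLocalRing.maximalIdeal A) (IsNoetherian.noetherian _) k
  have hArt : IsArtinian (A ⧸ IsLocalRing.maximalIdeal A ^ k) H :=
    isArtinian_of_tower A inferInstance
  have h1 : IsFiniteLength (A ⧸ IsLocalRing.maximalIdeal A ^ k) H :=
    ((IsArtinianRing.tfae (R := A ⧸ IsLocalRing.maximalIdeal A ^ k) (M := H)).out 2 3).1 hArt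
  rw [← Module.length_ne_top_iff] at h1 ⊢
  rwa [Module.length_eq_of_surjective
    (R := A ⧸ IsLocalRing.maximalIdeal A ^ k) Ideal.Quotient.mk_surjective]

end FL

section Core

variable (A : Type u) [CommRing A] [IsLocalRing A] [IsNoetherianRing A] (ω : Dual.D A)
  (hω : Dual.IsDualizing A ω) (hn : Dual.IsNormalized A ω)
  (M : Type u) [AddCommGroup M] [Module A M] [Module.Finite A M]

include hω hn in
/-- `p ∉ Supp Ext^{-i}(M, ω)` iff `H^{i - dim A/p}_{pA_p}(M_p) = 0` -/
theorem not_mem_support_iff (p : PrimeSpectrum A) (i : ℕ) :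
    p ∉ Module.support A (Dual.inD A M ⟶ ω⟦(-(i : ℤ))⟧) ↔
      ∀ j : ℕ, (j : WithBot ℕ∞) + ringKrullDim (A ⧸ p.asIdeal) = i →
        Subsingleton (LocCoh.H (IsLocalRing.maximalIdeal (Localization.AtPrime p.asIdeal)) j
          (LocalizedModule p.asIdeal.primeCompl M)) := by
  haveI := isNoetherianRing_atPrime p.asIdeal
  obtain ⟨e, he, hne⟩ := exists_dim_quot_isNormalized ω hω hn p
  have hω' : Dual.IsDualizing (Localization.AtPrime p.asIdeal)
      ((locD ω p.asIdeal)⟦(-(e : ℤ))⟧) := isDualizing_locD_shift ω p.asIdeal hω _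
  rw [mem_support_iff_nontrivial_localized ω M hω p (-(i : ℤ)), not_nontrivial_iff_subsingleton,
    subsingleton_hom_iso_right
      (shiftShiftIso (locD ω p.asIdeal) (-(e : ℤ)) ((e : ℤ) - i) (-(i : ℤ)) (by omega)).symm]
  have hpc : IsPseudoCoherent' (Localization.AtPrime p.asIdeal)
      (Dual.inD (Localization.AtPrime p.asIdeal) (LocalizedModule p.asIdeal.primeCompl M)) :=
    isPseudoCoherentModule'_of_finite _
  by_cases hie : e ≤ i
  · have key := kills_hom_iff_kills_hdi (Localization.AtPrime p.asIdeal) _ hω' hne _ hpc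
      ((i - e : ℕ) : ℤ) ((e : ℤ) - i) (by omega) 1
    obtain ⟨e3⟩ := hdi_inD_equiv_locCoh
      (IsLocalRing.maximalIdeal (Localization.AtPrime p.asIdeal))
      (LocalizedModule p.asIdeal.primeCompl M) (i - e)
    constructor
    · intro hs j hj
      have hje : j = i - e := by
        rw [he] at hj
        have h2 : ((j + e : ℕ) : WithBot ℕ∞) = (i : ℕ) := by exact_mod_cast hj
        have h3 : j + e = i := by exact_mod_cast h2
        omega
      subst hje
      have h2 := (kills_iff_of_equiv e3 1).1 (key.1 (fun x => Subsingleton.elim _ _))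
      exact ⟨fun x y => by
        rw [← one_smul (Localization.AtPrime p.asIdeal) x,
          ← one_smul (Localization.AtPrime p.asIdeal) y, h2 x, h2 y]⟩
    · intro h
      haveI := h (i - e) (by
        rw [he]
        have h3 : (i - e) + e = i := by omega
        exact_mod_cast h3)
      have h2 := key.2 ((kills_iff_of_equiv e3 1).2 (fun x => Subsingleton.elim _ _))
      exact ⟨fun x y => by
        rw [← one_smul (Localization.AtPrime p.asIdeal) x,
          ← one_smul (Localization.AtPrime p.asIdeal) y, h2 x, h2 y]⟩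
  · push Not at hie
    constructor
    · intro _ j hj
      exfalso
      rw [he] at hj
      have h2 : ((j + e : ℕ) : WithBot ℕ∞) = (i : ℕ) := by exact_mod_cast hj
      have h3 : j + e = i := by exact_mod_cast h2
      omega
    · intro _
      by_cases hM : Nontrivial (LocalizedModule p.asIdeal.primeCompl M)
      · obtain ⟨d, hd⟩ := exists_nat_supportDim_eq (B := Localization.AtPrime p.asIdeal)
          (LocalizedModule p.asIdeal.primeCompl M)
        by_contra hcon
        rw [not_subsingleton_iff_nontrivial] at hcon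
        have h2 := ((Groth.Agent.S0366.result (Localization.AtPrime p.asIdeal) _ hω' hne
          (LocalizedModule p.asIdeal.primeCompl M) d hd ((e : ℤ) - i)).1 hcon).2
        omega
      · rw [not_nontrivial_iff_subsingleton] at hM
        have hz : IsZero (Dual.inD (Localization.AtPrime p.asIdeal)
            (LocalizedModule p.asIdeal.primeCompl M)) :=
          (DerivedCategory.singleFunctor (ModuleCat.{u} (Localization.AtPrime p.asIdeal)) 0).map_isZero
            (ModuleCat.isZero_of_subsingleton _)
        exact ⟨fun f g => hz.eq_of_src f g⟩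

include hω hn in
/-- the radical of the annihilator of `H^i_m(M)` through the localizations of `M` -/
theorem le_radical_annihilator_iff (J : Ideal A) (i : ℕ) :
    J ≤ (Module.annihilator A (LocCoh.H (IsLocalRing.maximalIdeal A) i M)).radical ↔
      ∀ (p : Ideal A) [p.IsPrime], ¬ J ≤ p → ∀ j : ℕ,
        (j : WithBot ℕ∞) + ringKrullDim (A ⧸ p) = i →
        Subsingleton (LocCoh.H (IsLocalRing.maximalIdeal (Localization.AtPrime p)) j
          (LocalizedModule p.primeCompl M)) := by
  rw [← S1713_main A ω hω hn M i]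
  obtain ⟨a, b, hab⟩ := hω.finite_injective_dimension
  haveI : Module.Finite A (Dual.inD A M ⟶ ω⟦(-(i : ℤ))⟧) :=
    hom_inD_finite_of_bounded ω a b
      (fun j hj => subsingleton_HD_of_hom_quot_bot ω j (hab (A ⧸ (⊥ : Ideal A)) j hj))
      hω.finite_cohomology M _
  constructor
  · intro hJ p hp hJp j hj
    have hns : (⟨p, hp⟩ : PrimeSpectrum A) ∉
        Module.support A (Dual.inD A M ⟶ ω⟦(-(i : ℤ))⟧) := by
      intro hmem
      have h1 : Module.annihilator A (Dual.inD A M ⟶ ω⟦(-(i : ℤ))⟧) ≤ p :=
        Module.mem_support_iff_of_finite.1 hmem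
      exact hJp (hJ.trans (hp.radical_le_iff.2 h1))
    exact (not_mem_support_iff A ω hω hn M ⟨p, hp⟩ i).1 hns j hj
  · intro h
    rw [Ideal.radical_eq_sInf, le_sInf_iff]
    rintro p ⟨hNp, hp⟩
    by_contra hJp
    have hns := (not_mem_support_iff A ω hω hn M ⟨p, hp⟩ i).2
      (fun j hj => @h p hp hJp j hj)
    exact hns (Module.mem_support_iff_of_finite.2 hNp)

include hω hn in
/-- finite length of `H^i_m(M)` through the localizations of `M` -/
theorem isFiniteLength_H_iff (i : ℕ) :
    IsFiniteLength A (LocCoh.H (IsLocalRing.maximalIdeal A) i M) ↔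
      ∀ p : PrimeSpectrum A, p.asIdeal ≠ IsLocalRing.maximalIdeal A → ∀ (e j : ℕ),
        ringKrullDim (A ⧸ p.asIdeal) = e → j + e = i →
        Subsingleton (LocCoh.H (IsLocalRing.maximalIdeal (Localization.AtPrime p.asIdeal)) j
          (LocalizedModule p.asIdeal.primeCompl M)) := by
  have hcore := le_radical_annihilator_iff A ω hω hn M (IsLocalRing.maximalIdeal A) i
  have hfl : IsFiniteLength A (LocCoh.H (IsLocalRing.maximalIdeal A) i M) ↔
      IsLocalRing.maximalIdeal A ≤
        (Module.annihilator A (LocCoh.H (IsLocalRing.maximalIdeal A) i M)).radical := by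
    constructor
    · intro h
      obtain ⟨k, hk⟩ := exists_pow_kills A h
      intro a ha
      exact ⟨k, Module.mem_annihilator.2 (hk _ (Ideal.pow_mem_pow ha k))⟩
    · intro h
      obtain ⟨k, hk⟩ := Ideal.exists_pow_le_of_le_radical_of_fg h (IsNoetherian.noetherian _)
      haveI := Groth.Agent.S0817.result A M i
      exact isFiniteLength_of_isArtinian_of_pow_kills A k
        (fun a ha x => Module.mem_annihilator.1 (hk ha) x)
  rw [hfl, hcore]
  constructor
  · intro h p hp e j he hj
    haveI := p.isPrime
    refine h p.asIdeal (fun hle => hp ?_) j ?_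
    · exact ((IsLocalRing.maximalIdeal.isMaximal A).eq_of_le p.isPrime.ne_top hle).symm
    · rw [he]
      exact_mod_cast hj
  · intro h p hp hmp j hj
    obtain ⟨e, he⟩ := exists_nat_eq_of_nonneg_of_lt_top (ringKrullDim (A ⧸ p))
      ringKrullDim_nonneg_of_nontrivial
      (lt_of_le_of_lt (ringKrullDim_quotient_le p) ringKrullDim_lt_top)
    refine h ⟨p, hp⟩ (fun heq => hmp ?_) e j he ?_
    · rw [← heq]
    · rw [he] at hj
      have h2 : ((j + e : ℕ) : WithBot ℕ∞) = (i : ℕ) := by exact_mod_cast hj
      exact_mod_cast h2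

end Core

/-- S17762. -/
theorem S17762_main (R : Type u) [CommRing R] [IsNoetherianRing R] [IsLocalRing R] (R' : Type u)
    [CommRing R'] [LocCoh.IsGorensteinLocalRing R'] (g : R' →+* R) (hg : Function.Surjective g)
    (M : Type u) [AddCommGroup M] [Module R M] [Module.Finite R M] (J : Ideal R) (i : ℕ) :
    J ≤ (Module.annihilator R (LocCoh.H (IsLocalRing.maximalIdeal R) i M)).radical ↔
      ∀ (p : Ideal R) [p.IsPrime], ¬ J ≤ p → ∀ j : ℕ,
        (j : WithBot ℕ∞) + ringKrullDim (R ⧸ p) = i →
        Subsingleton (LocCoh.H (IsLocalRing.maximalIdeal (Localization.AtPrime p)) j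
          (LocalizedModule p.primeCompl M)) := by
  obtain ⟨ω, hω, hnω⟩ := exists_normalized_dualizing R R' g hg
  exact le_radical_annihilator_iff R ω hω hnω M J i

/-- S2934. -/
theorem S2934_main (R : Type u) [CommRing R] [IsRegularLocalRing R] (A : Type u) [CommRing A]
    [IsLocalRing A] [IsNoetherianRing A] (π : R →+* A) (hπ : Function.Surjective π) (M : Type u)
    [AddCommGroup M] [Module A M] [Module.Finite A M] (i : ℕ) :
    IsFiniteLength A (LocCoh.H (IsLocalRing.maximalIdeal A) i M) ↔
      ∀ p : PrimeSpectrum A, p.asIdeal ≠ IsLocalRing.maximalIdeal A → ∀ (e j : ℕ),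
        ringKrullDim (A ⧸ p.asIdeal) = e → j + e = i →
        Subsingleton (LocCoh.H (IsLocalRing.maximalIdeal (Localization.AtPrime p.asIdeal)) j
          (LocalizedModule p.asIdeal.primeCompl M)) := by
  letI : Algebra R A := π.toAlgebra
  haveI : Module.Finite R A := Module.Finite.of_surjective (Algebra.linearMap R A) hπ
  obtain ⟨ω₀, hω₀⟩ := exists_dualizing_of_finite R A _ (isDualizing_self_of_isRegularLocalRing R)
  obtain ⟨n, hn⟩ := exists_isNormalized_shift ω₀ hω₀
  exact isFiniteLength_H_iff A (ω₀⟦n⟧) (isDualizing_shift ω₀ hω₀ n) hn M i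

end Groth.Agent.Lib.LocSupp
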