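import Mathlib
import Groth.Agent.Lib.LocSupp1_helper2
import Groth.Agent.Lib.DMod98_helper6

/-!
# Generalized Cohen–Macaulay modules (helper2): S17755
-/

set_option autoImplicit false
universe u v
open CategoryTheory CategoryTheory.Limits DerivedCategory

attribute [local instance] HasDerivedCategory.standard

namespace Groth.Agent.Lib.LocSupp

open Groth.Agent.Lib.DMod_helper6 DRing Groth.Agent.Lib.FlatHom Groth.Agent.Lib.Roberts
  Groth.Agent.Lib.GorQuot Groth.Agent.Lib.DualExist

section Core

variable (A : Type u) [CommRing A] [IsLocalRing A] [IsNoetherianRing A] (ω : Dual.D A)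
  (hω : Dual.IsDualizing A ω) (hn : Dual.IsNormalized A ω)
  (M : Type u) [AddCommGroup M] [Module A M] [Module.Finite A M]

include hω hn in
/-- finite length of `H^i_m(M)` through the support of `Ext^{-i}(M, ω)` -/
theorem isFiniteLength_H_iff_support (i : ℕ) :
    IsFiniteLength A (LocCoh.H (IsLocalRing.maximalIdeal A) i M) ↔
      ∀ p : PrimeSpectrum A, p.asIdeal ≠ IsLocalRing.maximalIdeal A →
        p ∉ Module.support A (Dual.inD A M ⟶ ω⟦(-(i : ℤ))⟧) := by
  rw [isFiniteLength_H_iff A ω hω hn M i]
  refine forall_congr' (fun p => forall_congr' (fun hp => ?_))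
  rw [not_mem_support_iff A ω hω hn M p i]
  constructor
  · intro h j hj
    obtain ⟨e, he⟩ := exists_nat_eq_of_nonneg_of_lt_top (ringKrullDim (A ⧸ p.asIdeal))
      ringKrullDim_nonneg_of_nontrivial
      (lt_of_le_of_lt (ringKrullDim_quotient_le p.asIdeal) ringKrullDim_lt_top)
    refine h e j he ?_
    rw [he] at hj
    have h2 : ((j + e : ℕ) : WithBot ℕ∞) = (i : ℕ) := by exact_mod_cast hj
    exact_mod_cast h2
  · intro h e j he hj
    refine h j ?_
    rw [he]
    exact_mod_cast hj

include hω hn in
/-- S17755 for a ring with a normalized dualizing complex -/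
theorem genCM_iff (n : ℕ) (hn' : Module.supportDim A M = n) :
    (∀ i : ℕ, i < n → IsFiniteLength A (LocCoh.H (IsLocalRing.maximalIdeal A) i M)) ↔
      ((∀ p ∈ (Module.annihilator A M).minimalPrimes, ringKrullDim (A ⧸ p) = n) ∧
        ∀ (p : Ideal A) [p.IsPrime], p ≠ IsLocalRing.maximalIdeal A →
          Module.annihilator A M ≤ p →
          LocCoh.IsCohenMacaulayModule (Localization.AtPrime p)
            (LocalizedModule p.primeCompl M)) := by
  have hlow : ∀ j : ℤ, j < -(n : ℤ) → Subsingleton (Dual.inD A M ⟶ ω⟦j⟧) := fun j hj =>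
    subsingleton_ext_of_lt_neg_supportDim ω hω hn n M hn'.le j hj
  have hsupp_ge : ∀ (p : PrimeSpectrum A) (j : ℤ),
      p ∈ Module.support A (Dual.inD A M ⟶ ω⟦j⟧) → -(n : ℤ) ≤ j := by
    intro p j hp
    by_contra hlt
    push Not at hlt
    haveI := hlow j hlt
    have hnt : Nontrivial (Dual.inD A M ⟶ ω⟦j⟧) := nontrivial_of_mem_support hp
    exact (not_subsingleton_iff_nontrivial.2 hnt) inferInstance
  simp_rw [isFiniteLength_H_iff_support A ω hω hn M]
  constructor
  · intro h
    constructor
    · -- equidimensional
      intro q hq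
      haveI hqprime : q.IsPrime := hq.1.1
      have hqM : (⟨q, hqprime⟩ : PrimeSpectrum A) ∈ Module.support A M :=
        Module.mem_support_iff_of_finite.2 hq.1.2
      haveI : Nontrivial (LocalizedModule (⟨q, hqprime⟩ : PrimeSpectrum A).asIdeal.primeCompl M) :=
        Module.mem_support_iff.1 hqM
      obtain ⟨e, δq, dq, he, -, hdq, -, hbot, -⟩ :=
        local_depth_dim_degrees ω M hω hn (⟨q, hqprime⟩ : PrimeSpectrum A)
      have h0 := supportDim_localizedModule_le_zero_of_minimal M q hq
      have hdq0 : dq = 0 := by
        have h0' : Module.supportDim (Localization.AtPrime q) (LocalizedModule q.primeCompl M) ≤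
            ((0 : ℕ) : WithBot ℕ∞) := h0
        have hdq' : Module.supportDim (Localization.AtPrime q) (LocalizedModule q.primeCompl M) =
            (dq : WithBot ℕ∞) := hdq
        rw [hdq'] at h0'
        have : dq ≤ 0 := by exact_mod_cast h0'
        omega
      subst hdq0
      have hen : (e : ℤ) ≤ n := by
        have := hsupp_ge _ _ hbot
        push_cast at this
        omega
      show ringKrullDim (A ⧸ q) = n
      have he' : ringKrullDim (A ⧸ q) = (e : WithBot ℕ∞) := he
      rw [he']
      by_cases hqm : q = IsLocalRing.maximalIdeal A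
      · -- `m` minimal over `Ann M`: `Supp M = {m}`
        have hle : Module.supportDim A M ≤ ((0 : ℕ) : WithBot ℕ∞) := by
          refine supportDim_le_of_forall_quot M _ (fun p' hp' => ?_)
          have h1 : Module.annihilator A M ≤ p'.asIdeal := Module.mem_support_iff_of_finite.1 hp'
          have h2 : p'.asIdeal ≤ q := by
            rw [hqm]
            exact IsLocalRing.le_maximalIdeal p'.isPrime.ne_top
          have h3 : q ≤ p'.asIdeal := hq.2 ⟨p'.isPrime, h1⟩ h2
          have h4 : p'.asIdeal = IsLocalRing.maximalIdeal A := by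
            rw [← hqm]
            exact le_antisymm h2 h3
          rw [h4]
          haveI : IsField (A ⧸ IsLocalRing.maximalIdeal A) :=
            (Ideal.Quotient.maximal_ideal_iff_isField_quotient _).1 inferInstance
          rw [ringKrullDim_eq_zero_of_isField this]
          rfl
        rw [hn'] at hle
        have hn0 : n ≤ 0 := by exact_mod_cast hle
        have he0 : (e : ℤ) ≤ 0 := by omega
        have : e = n := by omega
        rw [this]
      · by_contra hne
        have hlt : e < n := by
          have : e ≠ n := fun h' => hne (by rw [h'])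
          omega
        refine h e hlt ⟨q, hqprime⟩ hqm ?_
        have hc : -(e : ℤ) - ((0 : ℕ) : ℤ) = -(e : ℤ) := by push_cast; ring
        rw [hc] at hbot
        exact hbot
    · -- Cohen–Macaulay on the punctured spectrum
      intro p hp hpm hle
      have hpM : (⟨p, hp⟩ : PrimeSpectrum A) ∈ Module.support A M :=
        Module.mem_support_iff_of_finite.2 hle
      haveI : Nontrivial (LocalizedModule (⟨p, hp⟩ : PrimeSpectrum A).asIdeal.primeCompl M) :=
        Module.mem_support_iff.1 hpM
      obtain ⟨e, δp, dp, he, hδp, hdp, htop, hbot, hrange⟩ :=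
        local_depth_dim_degrees ω M hω hn (⟨p, hp⟩ : PrimeSpectrum A)
      have h1 : n ≤ e + δp := by
        by_contra hlt
        push Not at hlt
        refine h (e + δp) hlt ⟨p, hp⟩ hpm ?_
        have hc : -(e : ℤ) - (δp : ℤ) = -((e + δp : ℕ) : ℤ) := by push_cast; ring
        rw [hc] at htop
        exact htop
      have h2 : (e : ℤ) + dp ≤ n := by
        have := hsupp_ge _ _ hbot
        omega
      have h3 := (hrange _ htop).1
      have h4 : δp = dp := by omega
      show Module.supportDim (Localization.AtPrime p) (LocalizedModule p.primeCompl M) =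
        ((LocCoh.depth (Localization.AtPrime p) (LocalizedModule p.primeCompl M) : ℕ∞) :
          WithBot ℕ∞)
      have hdp' : Module.supportDim (Localization.AtPrime p) (LocalizedModule p.primeCompl M) =
          (dp : WithBot ℕ∞) := hdp
      have hδp' : LocCoh.depth (Localization.AtPrime p) (LocalizedModule p.primeCompl M) =
          (δp : ℕ∞) := hδp
      rw [hdp', hδp', h4]
      rfl
  · rintro ⟨hequi, hCM⟩ i hi p hpm hmem
    haveI := isNoetherianRing_atPrime p.asIdeal
    haveI hntp : Nontrivial (LocalizedModule p.asIdeal.primeCompl M) :=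
      nontrivial_of_nontrivial_hom _ _
        ((mem_support_iff_nontrivial_localized ω M hω p _).1 hmem)
    have hpM : p ∈ Module.support A M := Module.mem_support_iff.2 hntp
    obtain ⟨e, δp, dp, he, hδp, hdp, htop, hbot, hrange⟩ := local_depth_dim_degrees ω M hω hn p
    have hEq : EGA4.IsEquidimModule A M := fun q hq => by rw [hn']; exact hequi q hq
    have h1 := hrange _ hmem
    have h2 := hrange _ (mem_support_ext_neg_dim_of_equidim ω M hω hn hEq n hn' p hpM)
    have hcm := hCM p.asIdeal hpm (Module.mem_support_iff_of_finite.1 hpM)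
    have hcm' : Module.supportDim (Localization.AtPrime p.asIdeal)
        (LocalizedModule p.asIdeal.primeCompl M) =
        ((LocCoh.depth (Localization.AtPrime p.asIdeal)
          (LocalizedModule p.asIdeal.primeCompl M) : ℕ∞) : WithBot ℕ∞) := hcm
    rw [hdp, hδp] at hcm'
    have h3 : dp = δp := by exact_mod_cast hcm'
    omega

end Core

/-- S17755. -/
theorem S17755_main (R : Type u) [CommRing R] [IsNoetherianRing R] [IsLocalRing R] (R' : Type u)
    [CommRing R'] [LocCoh.IsGorensteinLocalRing R'] (g : R' →+* R) (hg : Function.Surjective g)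
    (M : Type u) [AddCommGroup M] [Module R M] [Module.Finite R M] (n : ℕ)
    (hn : Module.supportDim R M = n) :
    (∀ i : ℕ, i < n → IsFiniteLength R (LocCoh.H (IsLocalRing.maximalIdeal R) i M)) ↔
      ((∀ p ∈ (Module.annihilator R M).minimalPrimes, ringKrullDim (R ⧸ p) = n) ∧
        ∀ (p : Ideal R) [p.IsPrime], p ≠ IsLocalRing.maximalIdeal R →
          Module.annihilator R M ≤ p →
          LocCoh.IsCohenMacaulayModule (Localization.AtPrime p)
            (LocalizedModule p.primeCompl M)) := by
  obtain ⟨ω, hω, hnω⟩ := exists_normalized_dualizing R R' g hg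
  exact genCM_iff R ω hω hnω M n hn

end Groth.Agent.Lib.LocSupp
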