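import Mathlib
set_option autoImplicit false
open TensorProduct IsLocalRing
universe u
namespace PBH8

section
variable {A B : Type u} [CommRing A] [CommRing B] [IsLocalRing A] [IsLocalRing B] [Algebra A B]
  [IsLocalHom (algebraMap A B)] {M : Type u} [AddCommGroup M] [Module A M] [Module.Finite A M]

/-- Base change of a nonzero finite module along a local homomorphism is nonzero. -/
theorem subsingleton_of_subsingleton_tensor (h : Subsingleton (B ⊗[A] M)) : Subsingleton M := by
  have h1 : Subsingleton (ResidueField B ⊗[B] (B ⊗[A] M)) := inferInstance
  have e1 := AlgebraTensorModule.cancelBaseChange A B (ResidueField B) (ResidueField B) M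
  have h2 : Subsingleton (ResidueField B ⊗[A] M) := e1.symm.toEquiv.subsingleton
  have e2 := AlgebraTensorModule.cancelBaseChange A (ResidueField A) (ResidueField B)
    (ResidueField B) M
  have h3 : Subsingleton (ResidueField B ⊗[ResidueField A] (ResidueField A ⊗[A] M)) :=
    e2.toEquiv.subsingleton
  have h4 : Subsingleton (ResidueField A ⊗[A] M) :=
    (Module.FaithfullyFlat.subsingleton_tensorProduct_iff_right (ResidueField A)
      (ResidueField B)).mp h3
  exact IsLocalRing.subsingleton_tensorProduct.mp h4

theorem subsingleton_tensor_iff : Subsingleton (B ⊗[A] M) ↔ Subsingleton M :=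
  ⟨subsingleton_of_subsingleton_tensor, fun _ => inferInstance⟩

end
end PBH8
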