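import Mathlib
import Groth.Prelude.Def_ModSite2
import Groth.Agent.Lib.StalkFlatPt4_helper2

/-!
# The local equational criterion of flatness on a ringed site
-/

namespace Groth.Agent.Lib.LocTriv

open CategoryTheory Limits Opposite MonoidalCategory ModSite
open Groth.Agent.Lib.ModSiteH8 Groth.Agent.Lib.StalkFlatA Groth.Agent.Lib.StalkFlatB
open Groth.Agent.Lib.StalkFlatPt

universe u

section Alg

open TensorProduct

/-- a vanishing tensor vanishes trivially after adjoining finitely many elements -/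
theorem exists_extended_vanishing {R : Type*} [CommRing R] {N Q : Type*} [AddCommGroup N]
    [Module R N] [AddCommGroup Q] [Module R Q] {ι : Type*} [Fintype ι] (m : ι → N) (q : ι → Q)
    (h : ∑ i, m i ⊗ₜ[R] q i = 0) :
    ∃ (k k' : ℕ) (g : Fin k → N) (a₁ : ι → Fin k' → R) (a₂ : Fin k → Fin k' → R)
      (y : Fin k' → Q),
      (∀ i, q i = ∑ j, a₁ i j • y j) ∧ (∀ κ, ∑ j, a₂ κ j • y j = 0) ∧
      ∀ j, ∑ i, a₁ i j • m i + ∑ κ, a₂ κ j • g κ = 0 := by
  classical
  let P : Submodule R N := Submodule.span R (Set.range m)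
  have hP : P.FG := Submodule.fg_span (Set.finite_range m)
  have hmP : ∀ i, m i ∈ P := fun i => Submodule.subset_span ⟨i, rfl⟩
  let t : P ⊗[R] Q := ∑ i, (⟨m i, hmP i⟩ : P) ⊗ₜ[R] q i
  have ht : LinearMap.rTensor Q P.subtype t = 0 := by
    rw [map_sum]
    exact h
  obtain ⟨P', hPP', hP'fg, h0⟩ := TensorProduct.eq_zero_of_fg_of_subtype_eq_zero hP ht
  obtain ⟨k, g', hg'⟩ := Submodule.fg_iff_exists_fin_generating_family.1 hP'fg
  have hgP' : ∀ κ, g' κ ∈ P' := fun κ => hg' ▸ Submodule.subset_span ⟨κ, rfl⟩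
  let mt : ι ⊕ Fin k → P' :=
    Sum.elim (fun i => Submodule.inclusion hPP' ⟨m i, hmP i⟩) (fun κ => ⟨g' κ, hgP' κ⟩)
  let nt : ι ⊕ Fin k → Q := Sum.elim q (fun _ => 0)
  have hspan : Submodule.span R (Set.range mt) = ⊤ := by
    apply Submodule.map_injective_of_injective P'.injective_subtype
    rw [Submodule.map_subtype_top, Submodule.map_span, ← Set.range_comp]
    apply le_antisymm
    · rw [Submodule.span_le]
      rintro _ ⟨x, rfl⟩
      exact (mt x).2
    · refine le_trans (le_of_eq hg'.symm) (Submodule.span_mono ?_)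
      rintro _ ⟨κ, rfl⟩
      exact ⟨Sum.inr κ, rfl⟩
  have hsum : ∑ x, mt x ⊗ₜ[R] nt x = 0 := by
    rw [Fintype.sum_sum_type]
    have e1 : ∑ κ : Fin k, mt (Sum.inr κ) ⊗ₜ[R] nt (Sum.inr κ) = 0 :=
      Finset.sum_eq_zero (fun κ _ => TensorProduct.tmul_zero _ _)
    have e2 : ∑ i : ι, mt (Sum.inl i) ⊗ₜ[R] nt (Sum.inl i) =
        LinearMap.rTensor Q (Submodule.inclusion hPP') t := by
      rw [map_sum]
      rfl
    rw [e1, e2, h0, add_zero]
  obtain ⟨k', a, y, h1, h2⟩ := TensorProduct.vanishesTrivially_of_sum_tmul_eq_zero R hspan hsum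
  refine ⟨k, k', g', fun i j => a (Sum.inl i) j, fun κ j => a (Sum.inr κ) j, y,
    fun i => h1 (Sum.inl i), fun κ => (h1 (Sum.inr κ)).symm, fun j => ?_⟩
  have h3 := congrArg P'.subtype (h2 j)
  rw [Fintype.sum_sum_type, map_add, map_sum, map_sum, map_zero] at h3
  simp only [map_smul] at h3
  exact h3

/-- the final algebraic step -/
theorem tmul_sum_eq_zero_of_data {A : Type*} [CommRing A] {N' N F : Type*} [AddCommGroup N']
    [Module A N'] [AddCommGroup N] [Module A N] [AddCommGroup F] [Module A F]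
    (α : N' →ₗ[A] N) (hα : Function.Injective α)
    {ι K J L : Type*} [Fintype ι] [Fintype K] [Fintype J] [Fintype L]
    (n' : ι → N') (q : ι → F) (g : K → N) (a₁ : ι → J → A) (a₂ : K → J → A) (y : J → F)
    (b : J → L → A) (z : L → F)
    (h1 : ∀ i, q i = ∑ j, a₁ i j • y j)
    (h3 : ∀ j, ∑ i, a₁ i j • α (n' i) + ∑ κ, a₂ κ j • g κ = 0)
    (h4 : ∀ j, y j = ∑ c, b j c • z c)
    (h5 : ∀ κ c, ∑ j, b j c * a₂ κ j = 0) :
    ∑ i, n' i ⊗ₜ[A] q i = 0 := by
  classical
  refine TensorProduct.sum_tmul_eq_zero_of_vanishesTrivially A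
    (TensorProduct.VanishesTrivially.of_fintype (κ := L)
      (fun i c => ∑ j, a₁ i j * b j c) z (fun i => ?_) (fun c => ?_))
  · rw [h1 i]
    simp_rw [h4, Finset.smul_sum, smul_smul, Finset.sum_smul]
    exact Finset.sum_comm
  · apply hα
    rw [map_zero, map_sum]
    simp_rw [map_smul, Finset.sum_smul]
    rw [Finset.sum_comm]
    have e1 : ∀ j, ∑ i, (a₁ i j * b j c) • α (n' i) = b j c • ∑ i, a₁ i j • α (n' i) := by
      intro j
      rw [Finset.smul_sum]
      refine Finset.sum_congr rfl (fun i _ => ?_)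
      rw [smul_smul, mul_comm]
    simp_rw [e1]
    have e2 : ∀ j, ∑ i, a₁ i j • α (n' i) = -∑ κ, a₂ κ j • g κ :=
      fun j => eq_neg_of_add_eq_zero_left (h3 j)
    simp_rw [e2, smul_neg, Finset.smul_sum, smul_smul]
    rw [Finset.sum_neg_distrib, neg_eq_zero, Finset.sum_comm]
    refine Finset.sum_eq_zero (fun κ _ => ?_)
    rw [← Finset.sum_smul, h5 κ c, zero_smul]

end Alg

section Site

variable {C : Type u} [SmallCategory C] {J : GrothendieckTopology C}
variable {O : Sheaf J CommRingCat.{u}}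

/-- every relation among sections of `F` is locally trivial -/
def LocTriv (F : Mod O) : Prop :=
  ∀ (U : C) (n : ℕ) (f : Fin n → O.obj.obj (op U)) (s : Fin n → Sec F U), ∑ j, f j • s j = 0 →
    ∃ S ∈ J U, ∀ ⦃V : C⦄ (g : V ⟶ U), S g →
      ∃ (l : ℕ) (t : Fin l → Sec F V) (a : Fin n → Fin l → O.obj.obj (op V)),
        (∀ j, res F g (s j) = ∑ k, a j k • t k) ∧ (∀ k, ∑ j, a j k * resR g (f j) = 0)

/-- finite systems of relations are locally trivial -/
theorem LocTriv.system {F : Mod O} (H : LocTriv F) (r : ℕ) :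
    ∀ (U : C) (n : ℕ) (f : Fin r → Fin n → O.obj.obj (op U)) (s : Fin n → Sec F U),
    (∀ i, ∑ j, f i j • s j = 0) →
    ∃ S ∈ J U, ∀ ⦃V : C⦄ (g : V ⟶ U), S g →
      ∃ (l : ℕ) (t : Fin l → Sec F V) (a : Fin n → Fin l → O.obj.obj (op V)),
        (∀ j, res F g (s j) = ∑ k, a j k • t k) ∧
          (∀ i k, ∑ j, a j k * resR g (f i j) = 0) := by
  classical
  induction r with
  | zero =>
    intro U n f s _
    refine ⟨⊤, J.top_mem U, fun V g _ => ⟨n, fun k => res F g (s k),
      fun j k => if j = k then 1 else 0, fun j => ?_, fun i => i.elim0⟩⟩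
    simp only [ite_smul, one_smul, zero_smul, Finset.sum_ite_eq, Finset.mem_univ, if_true]
  | succ r ih =>
    intro U n f s hfs
    obtain ⟨S₁, hS₁, hT₁⟩ := H U n (f 0) s (hfs 0)
    choose l₁ t₁ a₁ h₁ h₂ using hT₁
    have key : ∀ ⦃V : C⦄ (g : V ⟶ U) (hg : S₁ g) (i : Fin r),
        ∑ k, (∑ j, resR g (f i.succ j) * a₁ g hg j k) • t₁ g hg k = 0 := by
      intro V g hg i
      calc ∑ k, (∑ j, resR g (f i.succ j) * a₁ g hg j k) • t₁ g hg k
          = ∑ k, ∑ j, resR g (f i.succ j) • (a₁ g hg j k • t₁ g hg k) := by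
            refine Finset.sum_congr rfl (fun k _ => ?_)
            rw [Finset.sum_smul]
            refine Finset.sum_congr rfl (fun j _ => ?_)
            rw [mul_smul]
        _ = ∑ j, resR g (f i.succ j) • ∑ k, a₁ g hg j k • t₁ g hg k := by
            rw [Finset.sum_comm]
            refine Finset.sum_congr rfl (fun j _ => ?_)
            rw [Finset.smul_sum]
        _ = ∑ j, res F g (f i.succ j • s j) := by
            refine Finset.sum_congr rfl (fun j _ => ?_)
            rw [← h₁ g hg j, res_smul]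
        _ = res F g (∑ j, f i.succ j • s j) := (map_sum (res F g) _ _).symm
        _ = 0 := by rw [hfs i.succ, map_zero]
    choose S₂ hS₂ hT₂ using fun (V : C) (g : V ⟶ U) (hg : S₁ g) =>
      ih V (l₁ g hg) (fun i k => ∑ j, resR g (f i.succ j) * a₁ g hg j k) (t₁ g hg) (key g hg)
    refine ⟨Sieve.bind S₁ (fun V g hg => S₂ V g hg),
      J.bind_covering hS₁ (fun V g hg => hS₂ V g hg), ?_⟩
    rintro W _ ⟨V, h, g, hg, hh, rfl⟩
    obtain ⟨l₂, t₂, a₂, e₁, e₂⟩ := hT₂ V g hg h hh
    refine ⟨l₂, t₂, fun j m => ∑ k, resR h (a₁ g hg j k) * a₂ k m, fun j => ?_, fun i m => ?_⟩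
    · calc res F (h ≫ g) (s j) = res F h (res F g (s j)) := (res_res F g h (s j)).symm
        _ = res F h (∑ k, a₁ g hg j k • t₁ g hg k) := by rw [h₁ g hg j]
        _ = ∑ k, resR h (a₁ g hg j k) • res F h (t₁ g hg k) := by
            rw [map_sum]
            refine Finset.sum_congr rfl (fun k _ => ?_)
            rw [res_smul]
        _ = ∑ k, resR h (a₁ g hg j k) • ∑ m, a₂ k m • t₂ m := by
            refine Finset.sum_congr rfl (fun k _ => ?_)
            rw [e₁ k]
        _ = ∑ m, (∑ k, resR h (a₁ g hg j k) * a₂ k m) • t₂ m := by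
            simp_rw [Finset.smul_sum, Finset.sum_smul, mul_smul]
            exact Finset.sum_comm
    · have hcomp : ∀ x, resR (O := O) (h ≫ g) x = resR h (resR g x) :=
        fun x => (resR_resR g h x).symm
      have e3 : ∑ j, (∑ k, resR h (a₁ g hg j k) * a₂ k m) * resR (h ≫ g) (f i j) =
          ∑ k, a₂ k m * resR h (∑ j, resR g (f i j) * a₁ g hg j k) := by
        simp_rw [hcomp, map_sum, map_mul, Finset.sum_mul, Finset.mul_sum]
        rw [Finset.sum_comm]
        refine Finset.sum_congr rfl (fun k _ => Finset.sum_congr rfl (fun j _ => ?_))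
        ring
      rw [e3]
      induction i using Fin.cases with
      | zero =>
        refine Finset.sum_eq_zero (fun k _ => ?_)
        have : ∑ j, resR g (f 0 j) * a₁ g hg j k = 0 :=
          (Finset.sum_congr rfl (fun j _ => mul_comm _ _)).trans (h₂ g hg k)
        rw [this, map_zero, mul_zero]
      | succ i' => exact e₂ i' m

end Site

end Groth.Agent.Lib.LocTriv
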