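import Mathlib
import Groth.Prelude.Def_ModSite2
import Groth.Agent.Lib.LocTriv1_helper2

/-!
# The local equational criterion of flatness on a ringed site: the equivalence
-/

namespace Groth.Agent.Lib.LocTriv

open CategoryTheory Limits Opposite MonoidalCategory ModSite
open Groth.Agent.Lib.ModSiteH8 Groth.Agent.Lib.StalkFlatA Groth.Agent.Lib.StalkFlatB
open Groth.Agent.Lib.StalkFlatPt

universe u

variable {C : Type u} [SmallCategory C] {J : GrothendieckTopology C}
variable (O : Sheaf J CommRingCat.{u})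

open TensorProduct in
/-- the key local injectivity statement -/
theorem ELI_whiskerRight_of_locTriv {F : Mod O} (H : LocTriv F) {N' N : Mod O} (f : N' ⟶ N)
    [Mono f] : ELI J ((iF O).map f ▷ (iF O).obj F) := by
  classical
  intro V t ht
  obtain ⟨S, hS⟩ := TensorProduct.exists_finset (R := O.obj.obj V)
    (M := ((iF O).obj N').obj V) (N := ((iF O).obj F).obj V) t
  have ht2 : ((iF O).map f ▷ (iF O).obj F).app V (∑ i ∈ S, i.1 ⊗ₜ[O.obj.obj V] i.2) = 0 :=
    hS ▸ ht
  have h0' : ∑ i ∈ S, (((iF O).map f).app V) i.1 ⊗ₜ[O.obj.obj V] i.2 = 0 :=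
    (whiskerRight_app_sum ((iF O).map f) ((iF O).obj F) V S (fun i => i.1)
      (fun i => i.2)).symm.trans ht2
  have h0 : ∑ i : S, (((iF O).map f).app V).hom i.1.1 ⊗ₜ[O.obj.obj V] i.1.2 = 0 :=
    (Finset.sum_coe_sort S
      (fun i => (((iF O).map f).app V).hom i.1 ⊗ₜ[O.obj.obj V] i.2)).trans h0'
  obtain ⟨k, k', g, a₁, a₂, y, A1, A2, A3⟩ := exists_extended_vanishing (R := O.obj.obj V)
    (fun i : S => (((iF O).map f).app V).hom i.1.1) (fun i : S => i.1.2) h0
  obtain ⟨T, hT, hT'⟩ := H.system k V.unop k' a₂ y A2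
  refine ⟨T, hT, fun {W} g' hg' => ?_⟩
  obtain ⟨l, z, b, B1, B2⟩ := hT' g' hg'
  change ((iF O).obj N' ⊗ (iF O).obj F).map g'.op t = 0
  have h1 : ((iF O).obj N' ⊗ (iF O).obj F).map g'.op (∑ i ∈ S, i.1 ⊗ₜ[O.obj.obj V] i.2) = 0 := by
    refine (tensor_map_sum ((iF O).obj N') ((iF O).obj F) g'.op S (fun i => i.1)
      (fun i => i.2)).trans ?_
    refine (Finset.sum_coe_sort S
      (fun i => res N' g' i.1 ⊗ₜ[O.obj.obj (op W)] res F g' i.2)).symm.trans ?_
    refine tmul_sum_eq_zero_of_data (A := O.obj.obj (op W))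
      (((iF O).map f).app (op W)).hom (app_injective_of_mono O f (op W))
      (fun i : S => res N' g' i.1.1) (fun i : S => res F g' i.1.2) (fun κ => res N g' (g κ))
      (fun i j => resR g' (a₁ i j)) (fun κ j => resR g' (a₂ κ j)) (fun j => res F g' (y j)) b z
      (fun i => ?_) (fun j => ?_) B1 (fun κ c => B2 κ c)
    · have := congrArg (res F g') (A1 i)
      rw [map_sum] at this
      refine this.trans (Finset.sum_congr rfl (fun j _ => ?_))
      rw [res_smul]
    · have := congrArg (res N g') (A3 j)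
      rw [map_add, map_sum, map_sum, map_zero] at this
      refine Eq.trans ?_ this
      refine congrArg₂ (· + ·) (Finset.sum_congr rfl (fun i _ => ?_))
        (Finset.sum_congr rfl (fun κ _ => ?_))
      · rw [res_smul]
        exact congrArg (fun x => resR g' (a₁ i j) • x) (app_res f g' i.1.1)
      · rw [res_smul]
  exact hS ▸ h1

/-- **Local triviality of relations implies tensor-exactness.** -/
theorem isFlat_of_locTriv (F : Mod O) (H : LocTriv F) : ModSite.IsFlat F := by
  rw [isFlat_iff]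
  haveI : PreservesFiniteColimits (iF O ⋙ tensorRight ((iF O).obj F) ⋙ Lf O) :=
    preservesFiniteColimits_of_natIso (flipIso O F)
  haveI : (iF O ⋙ tensorRight ((iF O).obj F) ⋙ Lf O).Additive :=
    Functor.additive_of_iso (flipIso O F)
  haveI : PreservesFiniteLimits (iF O ⋙ tensorRight ((iF O).obj F) ⋙ Lf O) := by
    apply preservesFiniteLimits_of_preservesMono
    intro N' N f hf
    haveI := hf
    exact mono_sheafify_map_of_ELI O _ (ELI_whiskerRight_of_locTriv O H f)
  exact preservesFiniteLimits_of_natIso (flipIso O F).symm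

/-- **Tensor-exactness implies local triviality of relations.** -/
theorem locTriv_of_isFlat (F : Mod O) (hF : ModSite.IsFlat F) : LocTriv F := by
  classical
  intro U n f s h
  obtain ⟨S, hS, hT⟩ := exists_local_trivial O F hF.1 U n f s h
  refine ⟨S, hS, fun V g hg => ?_⟩
  obtain ⟨T, _, a, y, c1, c2⟩ := hT g hg
  let e : T ≃ Fin (Fintype.card T) := Fintype.equivFin T
  refine ⟨Fintype.card T, fun k => y (e.symm k), fun j k => a j (e.symm k), fun j => ?_,
    fun k => ?_⟩
  · rw [c1 j]
    exact (Equiv.sum_comp e.symm (fun j' => a j j' • y j')).symm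
  · refine (Finset.sum_congr rfl (fun j _ => mul_comm _ _)).trans (c2 (e.symm k))

theorem isFlat_iff_locTriv (F : Mod O) : ModSite.IsFlat F ↔ LocTriv F :=
  ⟨locTriv_of_isFlat O F, isFlat_of_locTriv O F⟩

end Groth.Agent.Lib.LocTriv
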