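import Mathlib
import Groth.Prelude
import Groth.Agent.Lib.GeomIrrSch_helper4

set_option autoImplicit false
set_option linter.style.haveILetI false
set_option linter.unusedVariables false

universe u

open CategoryTheory CategoryTheory.Limits AlgebraicGeometry TopologicalSpace Topology

namespace Groth.Agent.Lib.LocTrivIrredH4

theorem key (k : Type u) [Field k] [IsAlgClosed k]
    {X Y F : Scheme.{u}} (qY : Y ⟶ Spec (CommRingCat.of k))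
    (qF : F ⟶ Spec (CommRingCat.of k))
    [IrreducibleSpace ↥F] [IrreducibleSpace ↥Y]
    (f : X ⟶ Y) (V : Y.Opens) (hVne : (V : Set Y).Nonempty)
    (h : ∃ e : (↑(f ⁻¹ᵁ V) : Scheme.{u}) ≅ pullback (V.ι ≫ qY) qF,
      e.hom ≫ pullback.fst (V.ι ≫ qY) qF = f ∣_ V) :
    IsIrreducible ((f ⁻¹ᵁ V : X.Opens) : Set X) ∧ ∀ y ∈ V, ∃ x, f x = y := by
  obtain ⟨e, he⟩ := h
  haveI : GeometricallyIrreducible qF := GeomIrrSchH4.main2500 qF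
  have hVirr : IsIrreducible (V : Set Y) :=
    ⟨hVne, (IrreducibleSpace.isIrreducible_univ Y).isPreirreducible.open_subset V.isOpen
      (Set.subset_univ _)⟩
  haveI : IrreducibleSpace ↥V.toScheme := isIrreducible_iff_irreducibleSpace.mp hVirr
  haveI : IrreducibleSpace ↥(pullback (V.ι ≫ qY) qF) := inferInstance
  have hirr : IrreducibleSpace ↥(f ⁻¹ᵁ V).toScheme :=
    e.hom.homeomorph.irreducibleSpace_iff.mpr inferInstance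
  refine ⟨(isIrreducible_iff_irreducibleSpace (s := ((f ⁻¹ᵁ V : X.Opens) : Set X))).mpr hirr, ?_⟩
  intro y hy
  haveI : Surjective (pullback.fst (V.ι ≫ qY) qF) := inferInstance
  obtain ⟨z, hz⟩ := (pullback.fst (V.ι ≫ qY) qF).surjective ⟨y, hy⟩
  obtain ⟨w, hw⟩ := e.hom.homeomorph.surjective z
  have hw' : e.hom w = z := hw
  refine ⟨(f ⁻¹ᵁ V).ι w, ?_⟩
  rw [← Scheme.Hom.comp_apply, ← morphismRestrict_ι, Scheme.Hom.comp_apply, ← he,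
    Scheme.Hom.comp_apply, hw', hz]
  rfl

theorem main (k : Type u) [Field k] [IsAlgClosed k]
    {X Y F : Scheme.{u}} (qY : Y ⟶ Spec (CommRingCat.of k))
    (qF : F ⟶ Spec (CommRingCat.of k))
    [IrreducibleSpace ↥F] [IrreducibleSpace ↥Y]
    (f : X ⟶ Y)
    (htriv : ∀ y : ↥Y, ∃ V : Y.Opens, y ∈ V ∧
      ∃ e : (↑(f ⁻¹ᵁ V) : Scheme.{u}) ≅ pullback (V.ι ≫ qY) qF,
        e.hom ≫ pullback.fst (V.ι ≫ qY) qF = f ∣_ V) :
    IrreducibleSpace ↥X := by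
  obtain ⟨y₀⟩ := (inferInstance : Nonempty Y)
  obtain ⟨V₀, hy₀V₀, hV₀⟩ := htriv y₀
  obtain ⟨hirr₀, hsurj₀⟩ := key k qY qF f V₀ ⟨y₀, hy₀V₀⟩ hV₀
  obtain ⟨x₀, hx₀⟩ := hsurj₀ y₀ hy₀V₀
  rw [irreducibleSpace_def]
  refine ⟨⟨x₀, trivial⟩, ?_⟩
  rintro U U' hU hU' ⟨x, -, hxU⟩ ⟨x', -, hx'U'⟩
  obtain ⟨V, hxV, hV⟩ := htriv (f x)
  obtain ⟨V', hx'V', hV'⟩ := htriv (f x')
  obtain ⟨hirr, hsurj⟩ := key k qY qF f V ⟨f x, hxV⟩ hV
  obtain ⟨hirr', hsurj'⟩ := key k qY qF f V' ⟨f x', hx'V'⟩ hV'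
  obtain ⟨y, hyV, hyV'⟩ :=
    nonempty_preirreducible_inter V.isOpen V'.isOpen ⟨f x, hxV⟩ ⟨f x', hx'V'⟩
  obtain ⟨x'', hx''⟩ := hsurj y hyV
  have hW' : IsOpen ((f ⁻¹ᵁ V' : X.Opens) : Set X) := (f ⁻¹ᵁ V').isOpen
  have hx''V : x'' ∈ ((f ⁻¹ᵁ V : X.Opens) : Set X) := by
    show f x'' ∈ V
    rw [hx'']; exact hyV
  have hx''V' : x'' ∈ ((f ⁻¹ᵁ V' : X.Opens) : Set X) := by
    show f x'' ∈ V'
    rw [hx'']; exact hyV'
  obtain ⟨a, haV, haU, haV'⟩ := hirr.isPreirreducible U ((f ⁻¹ᵁ V' : X.Opens) : Set X) hU hW'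
    ⟨x, hxV, hxU⟩ ⟨x'', hx''V, hx''V'⟩
  obtain ⟨b, hbV', hbU, hbU'⟩ := hirr'.isPreirreducible U U' hU hU' ⟨a, haV', haU⟩
    ⟨x', hx'V', hx'U'⟩
  exact ⟨b, trivial, hbU, hbU'⟩

end Groth.Agent.Lib.LocTrivIrredH4
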