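import Mathlib
import Groth.Agent.Lib.DimTheory_helper5

/-!
# Descending chains at a minimal prime of the support (helper6)

`exists_stable_localized`: over a Noetherian ring `A`, a descending chain of submodules
`N 0 ≥ N 1 ≥ …` with `N 0` finite and killed by an ideal `J`, and `p` a minimal prime over `J`:
the chain becomes stationary after localizing at `p`.
-/

namespace Groth.Agent.Lib.LocalChain

universe u v

open IsLocalRing

theorem exists_stable_localized {A : Type u} [CommRing A] [IsNoetherianRing A]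
    {Q : Type v} [AddCommGroup Q] [Module A Q] (N : ℕ → Submodule A Q) (hN : Antitone N)
    (hfin : (N 0).FG) (J : Ideal A) (hJ : ∀ a ∈ J, ∀ x ∈ N 0, a • x = 0)
    (p : Ideal A) (hp : p ∈ J.minimalPrimes) :
    ∃ k, ∀ x ∈ N k, ∃ s : A, s ∉ p ∧ s • x ∈ N (k + 1) := by
  haveI : p.IsPrime := hp.1.1
  let T := ↥(N 0)
  haveI : Module.Finite A T := Module.Finite.iff_fg.2 hfin
  let Ap := Localization.AtPrime p
  let Tp := LocalizedModule p.primeCompl T
  -- finite length of `Tp`
  have hsupp : ∀ 𝔮 ∈ Module.support Ap Tp, 𝔮.asIdeal.IsMaximal := by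
    intro 𝔮 h𝔮
    rw [Module.mem_support_iff_of_finite] at h𝔮
    let q : Ideal A := 𝔮.asIdeal.comap (algebraMap A Ap)
    haveI : q.IsPrime := Ideal.comap_isPrime _ _
    have hqp : q ≤ p := by
      have h1 : 𝔮.asIdeal ≤ maximalIdeal Ap := le_maximalIdeal 𝔮.isPrime.ne_top
      have h2 := Ideal.comap_mono (f := algebraMap A Ap) h1
      exact h2.trans (le_of_eq (IsLocalization.AtPrime.comap_maximalIdeal Ap p))
    have hJq : J ≤ q := by
      intro a ha
      change algebraMap A Ap a ∈ 𝔮.asIdeal
      apply h𝔮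
      rw [Module.mem_annihilator]
      intro z
      induction z using LocalizedModule.induction_on with
      | h t s =>
        rw [algebraMap_smul, LocalizedModule.smul'_mk]
        have : a • t = 0 := Subtype.ext (hJ a ha t.1 t.2)
        rw [this, LocalizedModule.zero_mk]
    have hpq : p ≤ q := hp.2 ⟨inferInstance, hJq⟩ hqp
    have hqeq : q = p := le_antisymm hqp hpq
    have h3 : 𝔮.asIdeal = maximalIdeal Ap := by
      rw [← IsLocalization.map_comap p.primeCompl Ap 𝔮.asIdeal]
      change Ideal.map (algebraMap A Ap) q = _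
      rw [hqeq, Localization.AtPrime.map_eq_maximalIdeal]
    rw [h3]
    infer_instance
  have hfl : IsFiniteLength Ap Tp := Groth.Agent.DimLib.isFiniteLength_of_support_isMaximal hsupp
  haveI : IsArtinian Ap Tp := (isFiniteLength_iff_isNoetherian_isArtinian.1 hfl).2
  -- the chain of localized submodules
  let N' : ℕ → Submodule A T := fun m => (N m).comap (N 0).subtype
  have hN' : Antitone N' := fun a b hab => Submodule.comap_mono (hN hab)
  let U : ℕ → Submodule Ap Tp := fun m => (N' m).localized p.primeCompl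
  have hU : Antitone U := fun a b hab =>
    (Submodule.localized'gi Ap p.primeCompl (LocalizedModule.mkLinearMap p.primeCompl T)).gc.monotone_l
      (hN' hab)
  obtain ⟨k, hk⟩ := IsArtinian.monotone_stabilizes
    (⟨fun m => OrderDual.toDual (U m), fun a b hab => hU hab⟩ : ℕ →o (Submodule Ap Tp)ᵒᵈ)
  refine ⟨k, fun x hx => ?_⟩
  have hx0 : x ∈ N 0 := hN (Nat.zero_le k) hx
  let xt : T := ⟨x, hx0⟩
  have hxU : LocalizedModule.mkLinearMap p.primeCompl T xt ∈ U k :=
    ⟨xt, hx, 1, IsLocalizedModule.mk'_one _ _ _⟩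
  have hkk : U k = U (k + 1) := hk (k + 1) (Nat.le_succ k)
  rw [hkk] at hxU
  obtain ⟨y, hy, s, hys⟩ := hxU
  rw [← IsLocalizedModule.mk'_one p.primeCompl (LocalizedModule.mkLinearMap p.primeCompl T) xt,
    IsLocalizedModule.mk'_eq_mk'_iff] at hys
  obtain ⟨u, hu⟩ := hys
  refine ⟨(u : A) * (s : A), ?_, ?_⟩
  · exact (Ideal.IsPrime.mul_mem_iff_mem_or_mem ‹_›).not.2 (not_or.2 ⟨u.2, s.2⟩)
  · have h1 : (u : A) • ((1 : p.primeCompl) • y) ∈ N' (k + 1) :=
      (N' (k + 1)).smul_mem _ ((N' (k + 1)).smul_mem _ hy)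
    have h2 : ((u : A) * (s : A)) • xt ∈ N' (k + 1) := by
      have : ((u : A) * (s : A)) • xt = (u : A) • ((1 : p.primeCompl) • y) := by
        rw [mul_smul]
        exact hu
      rw [this]; exact h1
    exact h2

end Groth.Agent.Lib.LocalChain
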