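import Mathlib
import Groth.Agent.Lib.LocalCrit14_helper9

/-!
# Flat modules over `ℤ/pⁿ`
-/

namespace Groth.Agent.Lib.LocalCrit15

open TensorProduct Groth.Agent.Lib.LocalCrit14

universe u

variable (p n : ℕ) [hp : Fact p.Prime]

lemma pow_n_eq_zero : ((p : ZMod (p ^ n)) ^ n) = 0 := by
  rw [← Nat.cast_pow]; exact ZMod.natCast_self _

instance : NeZero (p ^ n) := ⟨pow_ne_zero n hp.out.ne_zero⟩

/-- Every element of `ℤ/pⁿ` is a unit times a power `pⁱ`, `i ≤ n`. -/
lemma exists_unit_mul_pow (a : ZMod (p ^ n)) :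
    ∃ i ≤ n, ∃ u : (ZMod (p ^ n))ˣ, a = u * (p : ZMod (p ^ n)) ^ i := by
  by_cases ha : a = 0
  · exact ⟨n, le_rfl, 1, by rw [ha, pow_n_eq_zero, mul_zero]⟩
  have hval : a.val ≠ 0 := by
    intro h
    exact ha ((ZMod.val_eq_zero a).mp h)
  obtain ⟨e, m', hm', hval'⟩ := Nat.exists_eq_pow_mul_and_not_dvd hval p hp.out.ne_one
  have hcop : m'.Coprime (p ^ n) :=
    Nat.Coprime.pow_right n ((Nat.Prime.coprime_iff_not_dvd hp.out).mpr hm').symm
  have hlt : a.val < p ^ n := ZMod.val_lt a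
  have he : e ≤ n := by
    by_contra hcon
    push Not at hcon
    have h1 : p ^ n ≤ p ^ e := Nat.pow_le_pow_right hp.out.pos hcon.le
    have h2 : p ^ e ≤ a.val := by
      rw [hval']
      exact Nat.le_mul_of_pos_right _ (Nat.pos_of_ne_zero (by
        rintro rfl
        exact hm' (dvd_zero p)))
    omega
  refine ⟨e, he, ZMod.unitOfCoprime m' hcop, ?_⟩
  rw [ZMod.coe_unitOfCoprime, ← ZMod.natCast_zmod_val a, hval']
  push_cast
  ring

lemma mem_span_pow_of_mul_eq_zero (i : ℕ) (hi : i ≤ n) (c : ZMod (p ^ n))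
    (hc : (p : ZMod (p ^ n)) ^ i * c = 0) : ∃ d, c = (p : ZMod (p ^ n)) ^ (n - i) * d := by
  have hc' : ((p ^ i * c.val : ℕ) : ZMod (p ^ n)) = 0 := by
    rw [Nat.cast_mul, ZMod.natCast_zmod_val, Nat.cast_pow]; exact hc
  rw [ZMod.natCast_eq_zero_iff] at hc'
  have h3 : p ^ i * p ^ (n - i) ∣ p ^ i * c.val := by
    rw [← pow_add, Nat.add_sub_cancel' hi]; exact hc'
  have hdvd : p ^ (n - i) ∣ c.val :=
    Nat.dvd_of_mul_dvd_mul_left (pow_pos hp.out.pos i) h3
  obtain ⟨d, hd⟩ := hdvd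
  refine ⟨(d : ZMod (p ^ n)), ?_⟩
  rw [← ZMod.natCast_zmod_val c, hd]
  push_cast
  ring

theorem flat_iff (H : Type u) [AddCommGroup H] [Module (ZMod (p ^ n)) H] :
    Module.Flat (ZMod (p ^ n)) H ↔
      ∀ i : ℕ, i ≤ n →
        LinearMap.ker ((p ^ i : ZMod (p ^ n)) • (LinearMap.id : H →ₗ[ZMod (p ^ n)] H)) =
          LinearMap.range ((p ^ (n - i) : ZMod (p ^ n)) •
            (LinearMap.id : H →ₗ[ZMod (p ^ n)] H)) := by
  constructor
  · intro hflat i hi
    apply le_antisymm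
    · intro x hx
      have hx' : ((p : ZMod (p ^ n)) ^ i) • x = 0 := by simpa using hx
      obtain ⟨k, a, y, h1, h2⟩ := exists_of_flat ((p : ZMod (p ^ n)) ^ i) H x hx'
      choose d hd using fun j => mem_span_pow_of_mul_eq_zero p n i hi (a j) (h2 j)
      refine ⟨∑ j, d j • y j, ?_⟩
      rw [h1]
      simp only [LinearMap.smul_apply, LinearMap.id_coe, id_eq, Finset.smul_sum, smul_smul]
      refine Finset.sum_congr rfl fun j _ => ?_
      rw [hd j]
    · rintro _ ⟨y, rfl⟩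
      rw [LinearMap.mem_ker]
      simp only [LinearMap.smul_apply, LinearMap.id_coe, id_eq, smul_smul]
      rw [← pow_add, Nat.add_sub_cancel' hi, pow_n_eq_zero, zero_smul]
  · intro h
    haveI : IsPrincipalIdealRing (ZMod (p ^ n)) :=
      IsPrincipalIdealRing.of_surjective (Int.castRingHom (ZMod (p ^ n)))
        (ZMod.intCast_surjective)
    rw [Module.Flat.iff_rTensor_injective']
    intro I
    obtain ⟨a, ha⟩ := (IsPrincipalIdealRing.principal I).principal
    have hI : I = Ideal.span {a} := ha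
    subst hI
    obtain ⟨i, hi, u, rfl⟩ := exists_unit_mul_pow p n a
    refine principal_rTensor_injective _ H (Ideal.span {(p : ZMod (p ^ n)) ^ (n - i)}) ?_ ?_
    · intro c hc
      obtain ⟨d, rfl⟩ := Ideal.mem_span_singleton'.mp hc
      have : d * (p : ZMod (p ^ n)) ^ (n - i) * (↑u * (p : ZMod (p ^ n)) ^ i) =
          d * u * ((p : ZMod (p ^ n)) ^ (n - i + i)) := by ring
      rw [this, Nat.sub_add_cancel hi, pow_n_eq_zero, mul_zero]
    · intro m hm
      have h1 : ((p : ZMod (p ^ n)) ^ i) • m = 0 := by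
        rw [mul_smul] at hm
        have := congrArg (fun z => (↑u⁻¹ : ZMod (p ^ n)) • z) hm
        simpa [smul_smul] using this
      have h2 : m ∈ LinearMap.ker ((p ^ i : ZMod (p ^ n)) •
          (LinearMap.id : H →ₗ[ZMod (p ^ n)] H)) := by
        rw [LinearMap.mem_ker]; simpa using h1
      rw [h i hi] at h2
      obtain ⟨y, rfl⟩ := h2
      simp only [LinearMap.smul_apply, LinearMap.id_coe, id_eq]
      exact Submodule.smul_mem_smul (Ideal.subset_span rfl) Submodule.mem_top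

end Groth.Agent.Lib.LocalCrit15
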