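import Mathlib
import Groth.Prelude.Def_W4c1liftfrobW2
import Groth.Agent.Lib.LocalCrit14_helper9

/-!
# Flat modules over `W₂(k)`
-/

namespace Groth.Agent.Lib.LocalCrit16

open TensorProduct Groth.Agent.Lib.LocalCrit14

universe u v

variable (p : ℕ) [hp : Fact p.Prime] (k : Type u) [Field k] [CharP k p]

omit hp [CharP k p] in
lemma ext2 (x y : FrobAlg.W2 p k) (h0 : x.coeff 0 = y.coeff 0) (h1 : x.coeff 1 = y.coeff 1) :
    x = y := by
  apply TruncatedWittVector.ext
  rw [Fin.forall_fin_two]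
  exact ⟨h0, h1⟩

lemma coeff_p_mul (x : FrobAlg.W2 p k) :
    ((p : FrobAlg.W2 p k) * x).coeff 0 = 0 ∧
      ((p : FrobAlg.W2 p k) * x).coeff 1 = (x.coeff 0) ^ p := by
  obtain ⟨X, rfl⟩ := WittVector.truncate_surjective p 2 k x
  have h : (p : FrobAlg.W2 p k) * WittVector.truncate 2 X =
      WittVector.truncate 2 (X * (p : WittVector p k)) := by
    rw [map_mul, map_natCast, mul_comm]
  rw [h, WittVector.coeff_truncate, WittVector.coeff_truncate, WittVector.coeff_truncate]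
  exact ⟨WittVector.mul_charP_coeff_zero X, WittVector.mul_charP_coeff_succ X 0⟩

lemma p_mul_p : (p : FrobAlg.W2 p k) * (p : FrobAlg.W2 p k) = 0 := by
  have h0 : (p : FrobAlg.W2 p k).coeff 0 = 0 := by
    have := (coeff_p_mul p k 1).1
    rwa [mul_one] at this
  apply ext2
  · rw [(coeff_p_mul p k _).1, TruncatedWittVector.coeff_zero]
  · rw [(coeff_p_mul p k _).2, h0, zero_pow hp.out.ne_zero, TruncatedWittVector.coeff_zero]

lemma coeff_zero_of_p_mul_eq_zero (x : FrobAlg.W2 p k)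
    (h : (p : FrobAlg.W2 p k) * x = 0) : x.coeff 0 = 0 := by
  have h1 := (coeff_p_mul p k x).2
  rw [h] at h1
  have h2 : (x.coeff 0) ^ p = 0 := by
    rw [← h1, TruncatedWittVector.coeff_zero]
  exact pow_eq_zero_iff (hp.out.ne_zero) |>.mp h2

lemma exists_eq_p_mul [PerfectRing k p] (x : FrobAlg.W2 p k) (h : x.coeff 0 = 0) :
    ∃ y : FrobAlg.W2 p k, x = (p : FrobAlg.W2 p k) * y := by
  obtain ⟨r, hr⟩ := (bijective_frobenius k p).2 (x.coeff 1)
  refine ⟨TruncatedWittVector.mk p (fun i => if i = 0 then r else 0), ?_⟩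
  apply ext2
  · rw [h]; exact (coeff_p_mul p k _).1.symm
  · rw [(coeff_p_mul p k _).2, TruncatedWittVector.coeff_mk]
    simpa [frobenius_def] using hr.symm

lemma ann_p [PerfectRing k p] (a : FrobAlg.W2 p k) (h : (p : FrobAlg.W2 p k) * a = 0) :
    a ∈ Ideal.span {(p : FrobAlg.W2 p k)} := by
  obtain ⟨y, hy⟩ := exists_eq_p_mul p k a (coeff_zero_of_p_mul_eq_zero p k a h)
  rw [Ideal.mem_span_singleton']
  exact ⟨y, by rw [hy, mul_comm]⟩

lemma ker_res [PerfectRing k p] :
    RingHom.ker (FrobAlg.res p k) = Ideal.span {(p : FrobAlg.W2 p k)} := by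
  ext x
  rw [RingHom.mem_ker, FrobAlg.res_apply]
  constructor
  · intro h
    obtain ⟨y, hy⟩ := exists_eq_p_mul p k x h
    rw [Ideal.mem_span_singleton']
    exact ⟨y, by rw [hy, mul_comm]⟩
  · intro h
    obtain ⟨y, rfl⟩ := Ideal.mem_span_singleton'.mp h
    rw [mul_comm]
    exact (coeff_p_mul p k y).1

omit [CharP k p] in
lemma res_surjective : Function.Surjective (FrobAlg.res p k) := by
  intro r
  refine ⟨TruncatedWittVector.mk p (fun i => if i = 0 then r else 0), ?_⟩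
  rw [FrobAlg.res_apply, TruncatedWittVector.coeff_mk]
  simp

instance isMaximal_span_p [PerfectRing k p] :
    (Ideal.span {(p : FrobAlg.W2 p k)}).IsMaximal := by
  rw [← ker_res]
  exact RingHom.ker_isMaximal_of_surjective (FrobAlg.res p k) (res_surjective p k)

theorem flat_iff [PerfectRing k p] (M : Type v) [AddCommGroup M] [Module (FrobAlg.W2 p k) M] :
    Module.Flat (FrobAlg.W2 p k) M ↔
      ∀ m : M, (p : FrobAlg.W2 p k) • m = 0 → ∃ m' : M, m = (p : FrobAlg.W2 p k) • m' := by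
  letI : Field (FrobAlg.W2 p k ⧸ Ideal.span {(p : FrobAlg.W2 p k)}) := Ideal.Quotient.field _
  haveI : Module.Flat (FrobAlg.W2 p k ⧸ Ideal.span {(p : FrobAlg.W2 p k)})
      ((FrobAlg.W2 p k ⧸ Ideal.span {(p : FrobAlg.W2 p k)}) ⊗[FrobAlg.W2 p k] M) := inferInstance
  exact flat_iff_of_sq_zero (p : FrobAlg.W2 p k) (p_mul_p p k) (ann_p p k) M

theorem flat_quotient_iff [PerfectRing k p] (B : Type v) [CommRing B] [Algebra (FrobAlg.W2 p k) B]
    [Module.Flat (FrobAlg.W2 p k) B] (J : Ideal B) :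
    Module.Flat (FrobAlg.W2 p k) (B ⧸ J) ↔
      Ideal.span {(p : B)} ⊓ J = Ideal.span {(p : B)} * J := by
  have hsm : ∀ b : B, (p : FrobAlg.W2 p k) • b = (p : B) * b := by
    intro b; rw [Algebra.smul_def, map_natCast]
  have hB := (flat_iff p k B).mp inferInstance
  have hpp : (p : B) * (p : B) = 0 := by
    have := congrArg (algebraMap (FrobAlg.W2 p k) B) (p_mul_p p k)
    simpa using this
  rw [flat_iff p k (B ⧸ J)]
  constructor
  · intro h
    apply le_antisymm
    · rintro x ⟨hx1, hx2⟩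
      obtain ⟨b, rfl⟩ := Ideal.mem_span_singleton'.mp hx1
      have h1 : (p : FrobAlg.W2 p k) • (Ideal.Quotient.mk J b) = 0 := by
        rw [← Ideal.Quotient.mk_eq_mk, ← Submodule.Quotient.mk_smul, hsm, mul_comm]
        exact (Submodule.Quotient.mk_eq_zero _).mpr hx2
      obtain ⟨m', hm'⟩ := h _ h1
      obtain ⟨b', rfl⟩ := Ideal.Quotient.mk_surjective m'
      rw [← Ideal.Quotient.mk_eq_mk, ← Ideal.Quotient.mk_eq_mk, ← Submodule.Quotient.mk_smul,
        hsm, Ideal.Quotient.mk_eq_mk, Ideal.Quotient.mk_eq_mk, Ideal.Quotient.eq] at hm'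
      -- b - p b' ∈ J
      have : b * (p : B) = (p : B) * (b - (p : B) * b') := by
        have : (p : B) * ((p : B) * b') = 0 := by rw [← mul_assoc, hpp, zero_mul]
        rw [mul_sub, this, sub_zero, mul_comm]
      rw [this]
      exact Ideal.mul_mem_mul (Ideal.subset_span rfl) hm'
    · exact Ideal.mul_le_inf
  · intro h m hm
    obtain ⟨b, rfl⟩ := Ideal.Quotient.mk_surjective m
    rw [← Ideal.Quotient.mk_eq_mk, ← Submodule.Quotient.mk_smul, hsm,
      Submodule.Quotient.mk_eq_zero] at hm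
    have h1 : (p : B) * b ∈ Ideal.span {(p : B)} ⊓ J :=
      ⟨Ideal.mul_mem_right _ _ (Ideal.subset_span rfl), hm⟩
    rw [h] at h1
    -- p b ∈ (p) J : p b = p j
    have h2 : ∃ j ∈ J, (p : B) * b = (p : B) * j := by
      refine Submodule.mul_induction_on
        (C := fun x => ∃ j ∈ J, x = (p : B) * j) h1 ?_ ?_
      · intro a ha j hj
        obtain ⟨c, rfl⟩ := Ideal.mem_span_singleton'.mp ha
        exact ⟨c * j, Ideal.mul_mem_left _ _ hj, by ring⟩
      · rintro x y ⟨j, hj, rfl⟩ ⟨j', hj', rfl⟩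
        exact ⟨j + j', add_mem hj hj', by ring⟩
    obtain ⟨j, hj, hbj⟩ := h2
    have h3 : (p : FrobAlg.W2 p k) • (b - j) = 0 := by
      rw [hsm, mul_sub, hbj, sub_self]
    obtain ⟨b', hb'⟩ := hB _ h3
    refine ⟨Ideal.Quotient.mk J b', ?_⟩
    rw [← Ideal.Quotient.mk_eq_mk, ← Ideal.Quotient.mk_eq_mk b', ← Submodule.Quotient.mk_smul,
      Ideal.Quotient.mk_eq_mk, Ideal.Quotient.mk_eq_mk, Ideal.Quotient.eq, ← hb']
    simpa using hj

end Groth.Agent.Lib.LocalCrit16
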