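import Mathlib

/-!
# Local-étale algebras via standard étale presentations (helper3)

* `exists_newton`: Newton iteration modulo powers of `(f a)`.
* `exists_std_data`: a localization `S = T_q` of an étale `R`-algebra is generated, up to units,
  by one element `ξ` which is a simple root of a monic polynomial.
-/

set_option autoImplicit false
set_option maxSynthPendingDepth 3
universe u

namespace Groth.Agent.Lib.LocalEtaleStdH3

open IsLocalRing Polynomial

/-- Newton iteration: if `f'` is invertible on `a + (f a)`, then `f` has approximate roots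
modulo every power of `(f a)`. -/
theorem exists_newton {R : Type*} [CommRing R] (f : R[X]) (a : R)
    (hunit : ∀ b, b - a ∈ Ideal.span {f.eval a} → IsUnit (f.derivative.eval b)) (n : ℕ) :
    ∃ b, b - a ∈ Ideal.span {f.eval a} ∧ f.eval b ∈ Ideal.span {f.eval a} ^ (n + 1) := by
  induction n with
  | zero =>
    refine ⟨a, by simp, ?_⟩
    rw [zero_add, pow_one]
    exact Ideal.mem_span_singleton_self _
  | succ n ih =>
    obtain ⟨b, hb, hfb⟩ := ih
    obtain ⟨v, hv⟩ := (hunit b hb).exists_right_inv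
    obtain ⟨k, hk⟩ := f.binomExpansion b (-(f.eval b * v))
    have hy : f.eval b * v ∈ Ideal.span {f.eval a} ^ (n + 1) := Ideal.mul_mem_right _ _ hfb
    have hy1 : f.eval b * v ∈ Ideal.span {f.eval a} :=
      Ideal.pow_le_self (by omega) hy
    refine ⟨b + -(f.eval b * v), ?_, ?_⟩
    · have : b + -(f.eval b * v) - a = (b - a) - f.eval b * v := by ring
      rw [this]
      exact Ideal.sub_mem _ hb hy1
    · rw [hk]
      have e : f.eval b + f.derivative.eval b * -(f.eval b * v) + k * (-(f.eval b * v)) ^ 2 =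
          k * (f.eval b * v) ^ 2 := by
        have : f.derivative.eval b * -(f.eval b * v) = -(f.eval b * (f.derivative.eval b * v)) := by
          ring
        rw [this, hv]; ring
      rw [e]
      refine Ideal.mul_mem_left _ _ ?_
      have h2 : (f.eval b * v) ^ 2 ∈ (Ideal.span {f.eval a} ^ (n + 1)) ^ 2 :=
        Ideal.pow_mem_pow hy 2
      rw [← pow_mul] at h2
      exact Ideal.pow_le_pow_right (by omega) h2

section std

variable (R : Type u) [CommRing R] (T : Type u) [CommRing T] [Algebra R T] [Algebra.Etale R T]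
  (q : Ideal T) [q.IsPrime] (S : Type u) [CommRing S] [Algebra T S] [IsLocalization.AtPrime S q]
  [Algebra R S] [IsScalarTower R T S]

include T q in
/-- `S = T_q` is generated up to units by a simple root `ξ` of a monic polynomial. -/
theorem exists_std_data :
    ∃ (f g : R[X]) (ξ : S), f.Monic ∧ aeval ξ f = 0 ∧ IsUnit (aeval ξ g) ∧
      IsUnit (aeval ξ f.derivative) ∧
      ∀ s : S, ∃ (h₁ h₂ : R[X]), IsUnit (aeval ξ h₂) ∧ s * aeval ξ h₂ = aeval ξ h₁ := by
  haveI : Algebra.FormallyEtale T (Localization.AtPrime q) :=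
    Algebra.FormallyEtale.of_isLocalization q.primeCompl
  haveI : Algebra.IsEtaleAt R q := Algebra.FormallyEtale.comp R T (Localization.AtPrime q)
  obtain ⟨g₀, hg₀, hstd⟩ := Algebra.IsEtaleAt.exists_isStandardEtale (R := R) q
  obtain ⟨𝓟⟩ := hstd.nonempty_standardEtalePresentation
  have hunits : ∀ y : Submonoid.powers g₀, IsUnit (algebraMap T S y) := by
    rintro ⟨_, n, rfl⟩
    rw [map_pow]
    exact (IsLocalization.map_units S (⟨g₀, hg₀⟩ : q.primeCompl)).pow n
  let ι₀ : Localization.Away g₀ →+* S := IsLocalization.lift (M := Submonoid.powers g₀) hunits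
  have hι₀ : ∀ b : T, ι₀ (algebraMap T (Localization.Away g₀) b) = algebraMap T S b :=
    fun b => IsLocalization.lift_eq _ b
  let ι : Localization.Away g₀ →ₐ[R] S :=
    { ι₀ with
      commutes' := fun r => by
        show ι₀ (algebraMap R (Localization.Away g₀) r) = algebraMap R S r
        rw [IsScalarTower.algebraMap_apply R T (Localization.Away g₀), hι₀,
          ← IsScalarTower.algebraMap_apply R T S] }
  have hι : ∀ b : T, ι (algebraMap T (Localization.Away g₀) b) = algebraMap T S b := hι₀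
  have hae : ∀ p : R[X], aeval (ι 𝓟.x) p = ι (aeval 𝓟.x p) := fun p => aeval_algHom_apply ι 𝓟.x p
  have hgu : IsUnit (aeval (ι 𝓟.x) 𝓟.g) := by
    rw [hae]; exact 𝓟.hasMap.2.map ι
  refine ⟨𝓟.f, 𝓟.g, ι 𝓟.x, 𝓟.monic_f, ?_, hgu, ?_, ?_⟩
  · rw [hae, 𝓟.hasMap.1, map_zero]
  · rw [hae]; exact 𝓟.hasMap.isUnit_derivative_f.map ι
  · intro s
    obtain ⟨b, c, hs⟩ := IsLocalization.exists_mk'_eq q.primeCompl s
    obtain ⟨hb, kb, hbe⟩ := 𝓟.exists_mul_aeval_x_g_pow_eq_aeval_x
      (algebraMap T (Localization.Away g₀) b)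
    obtain ⟨hc, kc, hce⟩ := 𝓟.exists_mul_aeval_x_g_pow_eq_aeval_x
      (algebraMap T (Localization.Away g₀) (c : T))
    have hb' : algebraMap T S b * aeval (ι 𝓟.x) 𝓟.g ^ kb = aeval (ι 𝓟.x) hb := by
      rw [hae, hae, ← hι, ← map_pow, ← map_mul, hbe]
    have hc' : algebraMap T S (c : T) * aeval (ι 𝓟.x) 𝓟.g ^ kc = aeval (ι 𝓟.x) hc := by
      rw [hae, hae, ← hι, ← map_pow, ← map_mul, hce]
    have hcu : IsUnit (aeval (ι 𝓟.x) hc) := by
      rw [← hc']
      exact (IsLocalization.map_units S c).mul (hgu.pow kc)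
    refine ⟨hb * 𝓟.g ^ kc, hc * 𝓟.g ^ kb, ?_, ?_⟩
    · rw [map_mul, map_pow]
      exact hcu.mul (hgu.pow kb)
    · rw [map_mul, map_pow, map_mul, map_pow, ← hb', ← hc', ← hs]
      have := IsLocalization.mk'_spec S b c
      calc IsLocalization.mk' S b c * (algebraMap T S (c : T) * aeval (ι 𝓟.x) 𝓟.g ^ kc *
            aeval (ι 𝓟.x) 𝓟.g ^ kb)
          = (IsLocalization.mk' S b c * algebraMap T S (c : T)) * aeval (ι 𝓟.x) 𝓟.g ^ kc *
            aeval (ι 𝓟.x) 𝓟.g ^ kb := by ring
        _ = algebraMap T S b * aeval (ι 𝓟.x) 𝓟.g ^ kb * aeval (ι 𝓟.x) 𝓟.g ^ kc := by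
            rw [this]; ring

end std

section main

variable {R : Type u} [CommRing R] {S : Type u} [CommRing S] [Algebra R S]

theorem aeval_sub_mem (J : Ideal S) (ξ : S) (b : R) (hb : ξ - algebraMap R S b ∈ J) (p : R[X]) :
    aeval ξ p - algebraMap R S (p.eval b) ∈ J := by
  have h1 : algebraMap R S (p.eval b) = (p.map (algebraMap R S)).eval (algebraMap R S b) := by
    rw [eval_map, eval₂_at_apply]
  have h2 : aeval ξ p = (p.map (algebraMap R S)).eval ξ := by
    rw [aeval_def, eval₂_eq_eval_map]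
  rw [h1, h2]
  exact Ideal.mem_of_dvd _ (sub_dvd_eval_sub _ _ _) hb

variable [IsLocalRing R] [IsLocalRing S] [IsLocalHom (algebraMap R S)]

theorem isUnit_of_sub_mem {x y : S} (hx : IsUnit x) (h : x - y ∈ maximalIdeal S) : IsUnit y := by
  by_contra hy
  have hy' : y ∈ maximalIdeal S := hy
  have : x ∈ maximalIdeal S := by
    have := (maximalIdeal S).add_mem h hy'
    rwa [sub_add_cancel] at this
  exact this hx

theorem exists_t_of_std_data [Module.Flat R S]
    (f : R[X]) (ξ : S) (hf0 : aeval ξ f = 0) (hfu : IsUnit (aeval ξ f.derivative))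
    (hgen : ∀ s : S, ∃ (h₁ h₂ : R[X]), IsUnit (aeval ξ h₂) ∧ s * aeval ξ h₂ = aeval ξ h₁)
    (a : R) (ha : ξ - algebraMap R S a ∈ maximalIdeal S) :
    ∃ t ∈ maximalIdeal R, ∀ n : ℕ, 1 ≤ n →
      Function.Bijective (Ideal.quotientMap ((Ideal.span {t ^ n}).map (algebraMap R S))
        (algebraMap R S) Ideal.le_comap_map) := by
  haveI : Module.FaithfullyFlat R S := Module.FaithfullyFlat.of_flat_of_isLocalHom
  have hloc : ∀ r : R, algebraMap R S r ∈ maximalIdeal S → r ∈ maximalIdeal R := by
    intro r hr hu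
    exact hr (hu.map _)
  have hloc' : ∀ r : R, r ∈ maximalIdeal R → algebraMap R S r ∈ maximalIdeal S := by
    intro r hr hu
    exact hr (isUnit_of_map_unit _ r hu)
  have ht : f.eval a ∈ maximalIdeal R := by
    apply hloc
    have := aeval_sub_mem (maximalIdeal S) ξ a ha f
    rw [hf0, zero_sub, neg_mem_iff] at this
    exact this
  have hspan : Ideal.span {f.eval a} ≤ maximalIdeal R := by
    rw [Ideal.span_le]; simpa using ht
  have hξb : ∀ b, b - a ∈ Ideal.span {f.eval a} → ξ - algebraMap R S b ∈ maximalIdeal S := by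
    intro b hb
    have h1 : algebraMap R S (b - a) ∈ maximalIdeal S := hloc' _ (hspan hb)
    have := (maximalIdeal S).sub_mem ha h1
    rw [map_sub] at this
    have e : ξ - algebraMap R S a - (algebraMap R S b - algebraMap R S a) =
        ξ - algebraMap R S b := by ring
    rwa [e] at this
  have hunitS : ∀ b, b - a ∈ Ideal.span {f.eval a} →
      IsUnit (algebraMap R S (f.derivative.eval b)) := fun b hb =>
    isUnit_of_sub_mem hfu (aeval_sub_mem (maximalIdeal S) ξ b (hξb b hb) f.derivative)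
  have hunit : ∀ b, b - a ∈ Ideal.span {f.eval a} → IsUnit (f.derivative.eval b) := fun b hb =>
    isUnit_of_map_unit (algebraMap R S) _ (hunitS b hb)
  refine ⟨f.eval a, ht, fun n hn => ?_⟩
  obtain ⟨m, rfl⟩ : ∃ m, n = m + 1 := ⟨n - 1, by omega⟩
  obtain ⟨b, hb, hfb⟩ := exists_newton f a hunit m
  rw [Ideal.span_singleton_pow] at hfb
  set Jn : Ideal S := (Ideal.span {f.eval a ^ (m + 1)}).map (algebraMap R S) with hJn
  have hJn_le : Jn ≤ maximalIdeal S := by
    rw [hJn, Ideal.map_le_iff_le_comap, Ideal.span_le]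
    simp only [Set.singleton_subset_iff, SetLike.mem_coe, Ideal.mem_comap]
    exact hloc' _ (Ideal.pow_mem_of_mem _ ht _ (by omega))
  -- `ξ ≡ b` modulo `Jn`
  have hδ : ξ - algebraMap R S b ∈ Jn := by
    obtain ⟨k, hk⟩ := (f.map (algebraMap R S)).binomExpansion (algebraMap R S b)
      (ξ - algebraMap R S b)
    have e0 : algebraMap R S b + (ξ - algebraMap R S b) = ξ := by ring
    rw [e0, ← eval₂_eq_eval_map, ← aeval_def, hf0, derivative_map, eval_map, eval_map,
      eval₂_at_apply, eval₂_at_apply] at hk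
    have hmem : algebraMap R S (f.eval b) ∈ Jn := Ideal.mem_map_of_mem _ hfb
    have hu : IsUnit (algebraMap R S (f.derivative.eval b) + k * (ξ - algebraMap R S b)) := by
      refine isUnit_of_sub_mem (hunitS b hb) ?_
      have : algebraMap R S (f.derivative.eval b) -
          (algebraMap R S (f.derivative.eval b) + k * (ξ - algebraMap R S b)) =
          -(k * (ξ - algebraMap R S b)) := by ring
      rw [this, neg_mem_iff]
      exact Ideal.mul_mem_left _ _ (hξb b hb)
    have e1 : (ξ - algebraMap R S b) *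
        (algebraMap R S (f.derivative.eval b) + k * (ξ - algebraMap R S b)) =
        -algebraMap R S (f.eval b) := by
      linear_combination -hk
    have h2 : (ξ - algebraMap R S b) *
        (algebraMap R S (f.derivative.eval b) + k * (ξ - algebraMap R S b)) ∈ Jn := by
      rw [e1, neg_mem_iff]; exact hmem
    obtain ⟨w, hw⟩ := hu.exists_right_inv
    have := Ideal.mul_mem_right w _ h2
    rwa [mul_assoc, hw, mul_one] at this
  constructor
  · refine Ideal.quotientMap_injective' ?_
    rw [Ideal.comap_map_eq_self_of_faithfullyFlat]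
  · intro y
    obtain ⟨s, rfl⟩ := Ideal.Quotient.mk_surjective y
    obtain ⟨h₁, h₂, hu₂, hs⟩ := hgen s
    have c₁ := aeval_sub_mem Jn ξ b hδ h₁
    have c₂ := aeval_sub_mem Jn ξ b hδ h₂
    have hu₂' : IsUnit (h₂.eval b) :=
      isUnit_of_map_unit (algebraMap R S) _ (isUnit_of_sub_mem hu₂ (hJn_le c₂))
    obtain ⟨w, hw⟩ := hu₂'.exists_right_inv
    refine ⟨Ideal.Quotient.mk _ (h₁.eval b * w), ?_⟩
    rw [Ideal.quotientMap_mk, Ideal.Quotient.eq, ← neg_mem_iff, neg_sub]
    have h3 : (s - algebraMap R S (h₁.eval b * w)) * aeval ξ h₂ ∈ Jn := by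
      have e : (s - algebraMap R S (h₁.eval b * w)) * aeval ξ h₂ =
          (aeval ξ h₁ - algebraMap R S (h₁.eval b)) -
            algebraMap R S (h₁.eval b * w) * (aeval ξ h₂ - algebraMap R S (h₂.eval b)) +
            algebraMap R S (h₁.eval b) * (1 - algebraMap R S (h₂.eval b * w)) := by
        rw [sub_mul, hs]
        simp only [map_mul]
        ring
      rw [e, hw, map_one, sub_self, mul_zero, add_zero]
      exact Ideal.sub_mem _ c₁ (Ideal.mul_mem_left _ _ c₂)
    obtain ⟨v, hv⟩ := hu₂.exists_right_inv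
    have := Ideal.mul_mem_right v _ h3
    rwa [mul_assoc, hv, mul_one] at this

end main

end Groth.Agent.Lib.LocalEtaleStdH3
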