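import Mathlib
import Groth.Agent.Lib.GraphExt_helper7
import Groth.Agent.Lib.BiratMor3_helper7
import Groth.Agent.Lib.BiratQF_helper7

set_option autoImplicit false
universe u
open CategoryTheory CategoryTheory.Limits AlgebraicGeometry

namespace Groth.Agent.Lib.LocalIsoQFH7

/-- A separated birational morphism locally of finite type between integral schemes which is
quasi-finite at a point `x₀` over a normal point is a local isomorphism at `x₀`
(no quasi-compactness assumption). -/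
theorem exists_isOpenImmersion_of_quasiFiniteAt' {X Y : Scheme.{u}} [IsIntegral X] [IsIntegral Y]
    (f : X ⟶ Y) [LocallyOfFiniteType f] [IsSeparated f]
    (hgen : f (genericPoint X) = genericPoint Y)
    (hbir : IsIso (f.stalkMap (genericPoint X)))
    (x₀ : X) (hy : IsIntegrallyClosed (Y.presheaf.stalk (f x₀))) (hq : f.QuasiFiniteAt x₀) :
    ∃ U : X.Opens, x₀ ∈ U ∧ IsOpenImmersion (U.ι ≫ f) := by
  obtain ⟨_, ⟨(V₀ : Y.Opens), hV₀, rfl⟩, hyV₀, -⟩ :=
    Y.isBasis_affineOpens.exists_subset_of_mem_open (Set.mem_univ (f x₀)) isOpen_univ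
  obtain ⟨_, ⟨(X₀ : X.Opens), hX₀, rfl⟩, hxX₀, hXV⟩ :=
    X.isBasis_affineOpens.exists_subset_of_mem_open (show x₀ ∈ f ⁻¹ᵁ V₀ from hyV₀) (f ⁻¹ᵁ V₀).2
  have hle : X₀ ≤ f ⁻¹ᵁ V₀ := hXV
  obtain ⟨g', hg'def⟩ : ∃ g' : X₀.toScheme ⟶ V₀.toScheme, g' = f.resLE V₀ X₀ hle := ⟨_, rfl⟩
  have hg' : g' ≫ V₀.ι = X₀.ι ≫ f := by rw [hg'def]; exact Scheme.Hom.resLE_comp_ι f hle
  haveI : IsAffine X₀.toScheme := hX₀
  haveI : IsAffine V₀.toScheme := hV₀
  haveI : Nonempty X₀ := ⟨⟨x₀, hxX₀⟩⟩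
  haveI : Nonempty V₀ := ⟨⟨f x₀, hyV₀⟩⟩
  haveI : Nonempty X₀.toScheme := ⟨⟨x₀, hxX₀⟩⟩
  haveI : Nonempty V₀.toScheme := ⟨⟨f x₀, hyV₀⟩⟩
  haveI : IsIntegral X₀.toScheme := inferInstance
  haveI : IsIntegral V₀.toScheme := inferInstance
  haveI : LocallyOfFiniteType (g' ≫ V₀.ι) := by rw [hg']; infer_instance
  haveI : LocallyOfFiniteType g' := locallyOfFiniteType_of_comp g' V₀.ι
  haveI : IsSeparated (g' ≫ V₀.ι) := by rw [hg']; infer_instance
  haveI : IsSeparated g' := IsSeparated.of_comp g' V₀.ι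
  haveI : QuasiCompact g' := inferInstance
  have hξX₀ : (genericPoint X₀.toScheme).1 = genericPoint X :=
    genericPoint_eq_of_isOpenImmersion X₀.ι
  have hξV₀ : (genericPoint V₀.toScheme).1 = genericPoint Y :=
    genericPoint_eq_of_isOpenImmersion V₀.ι
  have hval : ∀ z : X₀.toScheme, (g' z).1 = f z.1 := by
    intro z
    have := congrArg (fun m => m z) hg'
    simpa [Scheme.Hom.comp_apply] using this
  have hgen' : g' (genericPoint X₀.toScheme) = genericPoint V₀.toScheme := by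
    apply Subtype.ext
    rw [hval, hξX₀, hgen, hξV₀]
  have hbir' : IsIso (g'.stalkMap (genericPoint X₀.toScheme)) := by
    have key : ∀ z : X, z = genericPoint X → IsIso (f.stalkMap z) := by
      rintro z rfl; exact hbir
    have h1 : IsIso (f.stalkMap (genericPoint X₀.toScheme).1) := key _ hξX₀
    rw [hg'def]
    exact ((MorphismProperty.isomorphisms CommRingCat).arrow_mk_iso_iff
      (Scheme.Hom.resLEStalkMap f hle (genericPoint X₀.toScheme))).mpr h1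
  have hy' : IsIntegrallyClosed (V₀.toScheme.presheaf.stalk (g' ⟨x₀, hxX₀⟩)) := by
    have key : ∀ z : Y, z = f x₀ → IsIntegrallyClosed (Y.presheaf.stalk z) := by
      rintro z rfl; exact hy
    haveI := key (V₀.ι (g' ⟨x₀, hxX₀⟩)) (hval ⟨x₀, hxX₀⟩)
    exact IsIntegrallyClosed.of_equiv
      (asIso (V₀.ι.stalkMap (g' ⟨x₀, hxX₀⟩))).commRingCatIsoToRingEquiv
  have hq' : g'.QuasiFiniteAt ⟨x₀, hxX₀⟩ := by
    have h1 : (X₀.ι ≫ f).QuasiFiniteAt ⟨x₀, hxX₀⟩ :=
      Scheme.Hom.quasiFiniteAt_comp_iff_of_isOpenImmersion.mpr hq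
    rw [← hg'] at h1
    exact Scheme.Hom.quasiFiniteAt_comp_iff.mp h1
  obtain ⟨W, hxW, hW⟩ := Groth.Agent.Lib.GraphExtH7.exists_isOpenImmersion_of_quasiFiniteAt g'
    hgen' hbir' ⟨x₀, hxX₀⟩ hy' hq'
  haveI := hW
  refine ⟨X₀.ι ''ᵁ W, ⟨⟨x₀, hxX₀⟩, hxW, rfl⟩, ?_⟩
  have e1 : (X₀.ι.isoImage W).hom ≫ (X₀.ι ''ᵁ W).ι = W.ι ≫ X₀.ι := X₀.ι.isoImage_hom_ι W
  have e2 : (X₀.ι ''ᵁ W).ι ≫ f = (X₀.ι.isoImage W).inv ≫ (W.ι ≫ g') ≫ V₀.ι := by
    rw [Category.assoc, hg', ← Category.assoc W.ι, ← e1, Category.assoc, Iso.inv_hom_id_assoc]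
  rw [e2]
  infer_instance

/-- Zariski's main theorem, local form: a separated birational morphism locally of finite type
between integral schemes is an isomorphism over a neighbourhood of a normal point over which
some point is quasi-finite. -/
theorem exists_isIso_morphismRestrict_of_quasiFiniteAt {X Y : Scheme.{u}} [IsIntegral X]
    [IsIntegral Y] (f : X ⟶ Y) [LocallyOfFiniteType f] [IsSeparated f]
    (hgen : f (genericPoint X) = genericPoint Y)
    (hbir : IsIso (f.stalkMap (genericPoint X)))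
    (x₀ : X) (hy : IsIntegrallyClosed (Y.presheaf.stalk (f x₀))) (hq : f.QuasiFiniteAt x₀) :
    ∃ U : Y.Opens, f x₀ ∈ U ∧ IsIso (f ∣_ U) := by
  obtain ⟨U, hxU, hU⟩ := exists_isOpenImmersion_of_quasiFiniteAt' f hgen hbir x₀ hy hq
  haveI := hU
  have hle : f ⁻¹ᵁ (U.ι ≫ f).opensRange ≤ U :=
    Groth.Agent.Lib.BiratMor3H7.preimage_opensRange_le_of_isSeparated f U (fun z hz => by
      rw [Groth.Agent.Lib.BiratQFH7.eq_genericPoint_of_mem_irreducibleComponents z hz]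
      exact (genericPoint_specializes x₀).mem_open U.2 hxU)
  exact ⟨(U.ι ≫ f).opensRange, ⟨⟨x₀, hxU⟩, rfl⟩,
    Groth.Agent.Lib.BiratMor3H7.isIso_morphismRestrict_of_le f U _ hle le_rfl⟩

end Groth.Agent.Lib.LocalIsoQFH7
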