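import Mathlib

/-!
# Logarithmic connections on the trivial bundle over the affine line: nonresonant residues

Helper library (helper9) for S15502 / S15503.
-/

universe u

namespace Groth.Agent.LogConn9

open Polynomial

section LinAlg

variable {R : Type u} [CommRing R] {M : Type*} [AddCommGroup M] [Module R M]
  [Module.Free R M] [Module.Finite R M]

lemma charpoly_identity (T : M →ₗ[R] M) (a : R) :
    ∃ Q : M →ₗ[R] M, (∀ x, Q (T x - a • x) + T.charpoly.eval a • x = 0) ∧
      (∀ x, T (Q x) - a • Q x + T.charpoly.eval a • x = 0) := by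
  have h1 : T.charpoly %ₘ (X - C a) + (X - C a) * (T.charpoly /ₘ (X - C a)) = T.charpoly :=
    modByMonic_add_div _ _
  rw [modByMonic_X_sub_C_eq_C_eval] at h1
  have h2 := congrArg (aeval T) h1
  rw [LinearMap.aeval_self_charpoly] at h2
  have h1' : T.charpoly %ₘ (X - C a) + (T.charpoly /ₘ (X - C a)) * (X - C a) = T.charpoly := by
    rw [mul_comm]; exact modByMonic_add_div _ _
  rw [modByMonic_X_sub_C_eq_C_eval] at h1'
  have h3 := congrArg (aeval T) h1'
  rw [LinearMap.aeval_self_charpoly] at h3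
  refine ⟨aeval T (T.charpoly /ₘ (X - C a)), ?_, ?_⟩
  · intro x
    have := congrArg (fun f : M →ₗ[R] M => f x) h3
    simp only [map_add, map_mul, map_sub, aeval_X, aeval_C, LinearMap.add_apply,
      Module.End.mul_apply, LinearMap.sub_apply, Module.algebraMap_end_apply,
      LinearMap.zero_apply] at this
    rw [add_comm, map_sub]; exact this
  · intro x
    have := congrArg (fun f : M →ₗ[R] M => f x) h2
    simp only [map_add, map_mul, map_sub, aeval_X, aeval_C, LinearMap.add_apply,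
      Module.End.mul_apply, LinearMap.sub_apply, Module.algebraMap_end_apply,
      LinearMap.zero_apply] at this
    rw [add_comm]; exact this

lemma eq_zero_of_eigen (T : M →ₗ[R] M) (a : R) (ha : IsUnit (T.charpoly.eval a)) (x : M)
    (hx : T x = a • x) : x = 0 := by
  obtain ⟨Q, h1, -⟩ := charpoly_identity T a
  have := h1 x
  rw [hx, sub_self, map_zero, zero_add] at this
  obtain ⟨u, hu⟩ := ha
  have h2 : (↑u⁻¹ : R) • (T.charpoly.eval a • x) = 0 := by rw [this, smul_zero]
  rwa [smul_smul, ← hu, Units.inv_mul, one_smul] at h2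

lemma exists_sub_smul_eq (T : M →ₗ[R] M) (a : R) (ha : IsUnit (T.charpoly.eval a)) (y : M) :
    ∃ x, T x - a • x = y := by
  obtain ⟨Q, -, h2⟩ := charpoly_identity T a
  obtain ⟨u, hu⟩ := ha
  refine ⟨Q (-((↑u⁻¹ : R) • y)), ?_⟩
  have := h2 (-((↑u⁻¹ : R) • y))
  rw [smul_neg, smul_smul, ← hu, Units.mul_inv, one_smul] at this
  exact (eq_neg_of_add_eq_zero_left this).trans (neg_neg y)

end LinAlg

section Poly

variable {R : Type u} [CommRing R] {r : ℕ} (θ : Fin r → R)

lemma prod_dvd_of_eval_eq_zero (hθ : ∀ i k, i ≠ k → IsUnit (θ i - θ k)) (g : R[X])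
    (hg : ∀ i, g.eval (θ i) = 0) : (∏ i, (X - C (θ i))) ∣ g := by
  apply Finset.prod_dvd_of_coprime
  · intro i _ k _ hik
    exact isCoprime_X_sub_C_of_isUnit_sub (hθ i k hik)
  · intro i _
    exact dvd_iff_isRoot.mpr (hg i)

lemma eval_prod_eq_zero (i : Fin r) : (∏ k, (X - C (θ k))).eval (θ i) = 0 :=
  Lagrange.eval_nodal_at_node (s := Finset.univ) (v := θ) (Finset.mem_univ i)

lemma eval_derivative_prod (i : Fin r) :
    (derivative (∏ k, (X - C (θ k)))).eval (θ i) = ∏ k ∈ Finset.univ.erase i, (θ i - θ k) := by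
  have := Lagrange.eval_nodal_derivative_eval_node_eq (s := Finset.univ) (v := θ)
    (Finset.mem_univ i)
  rw [Lagrange.eval_nodal] at this
  exact this

lemma isUnit_prod_erase (hθ : ∀ i k, i ≠ k → IsUnit (θ i - θ k)) (i : Fin r) :
    IsUnit (∏ k ∈ Finset.univ.erase i, (θ i - θ k)) := by
  rw [IsUnit.prod_iff]
  intro k hk
  exact hθ i k (Finset.ne_of_mem_erase hk).symm

lemma exists_interp (hθ : ∀ i k, i ≠ k → IsUnit (θ i - θ k)) (a : Fin r → R) :
    ∃ h : R[X], ∀ i, h.eval (θ i) = a i := by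
  classical
  have hu := isUnit_prod_erase θ hθ
  choose u hu using fun i => (hu i)
  refine ⟨∑ i, C (a i * (↑(u i)⁻¹ : R)) * ∏ k ∈ Finset.univ.erase i, (X - C (θ k)), ?_⟩
  intro i
  rw [eval_finsetSum, Finset.sum_eq_single i]
  · rw [eval_mul, eval_C, eval_prod]
    simp only [eval_sub, eval_X, eval_C]
    rw [← hu i, mul_assoc, Units.inv_mul, mul_one]
  · intro k _ hki
    rw [eval_mul, eval_prod, Finset.prod_eq_zero (i := i), mul_zero]
    · exact Finset.mem_erase.mpr ⟨hki.symm, Finset.mem_univ i⟩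
    · simp
  · intro h; exact absurd (Finset.mem_univ i) h

end Poly

section Conn

variable {R : Type u} [CommRing R] {d r : ℕ}

/-- Embedding of polynomial vectors into localized vectors. -/
noncomputable def emb (Θ : R[X]) (v : Fin d → R[X]) : Fin d → Localization.Away Θ :=
  fun j => algebraMap R[X] (Localization.Away Θ) (v j)

lemma emb_add (Θ : R[X]) (u v : Fin d → R[X]) : emb Θ (u + v) = emb Θ u + emb Θ v := by
  funext j; simp [emb]

lemma emb_sub (Θ : R[X]) (u v : Fin d → R[X]) : emb Θ (u - v) = emb Θ u - emb Θ v := by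
  funext j; simp [emb]

lemma emb_smul (Θ : R[X]) (p : R[X]) (v : Fin d → R[X]) : emb Θ (p • v) = p • emb Θ v := by
  funext j; simp [emb, Algebra.smul_def]

lemma emb_injective (Θ : R[X]) (hΘ : Θ.Monic) : Function.Injective (emb (d := d) Θ) := by
  intro u v h
  funext j
  have := congrFun h j
  exact IsLocalization.injective (Localization.Away Θ) (M := Submonoid.powers Θ)
    (Submonoid.powers_le.mpr hΘ.mem_nonZeroDivisors) this

lemma smul_cancel (Θ : R[X]) (x y : Fin d → Localization.Away Θ) (h : Θ • x = Θ • y) : x = y := by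
  funext j
  have := congrFun h j
  simp only [Pi.smul_apply, Algebra.smul_def] at this
  exact (IsLocalization.Away.algebraMap_isUnit (S := Localization.Away Θ) Θ).mul_left_cancel this

lemma exists_pow_smul_eq_emb (Θ : R[X]) (f : Fin d → Localization.Away Θ) :
    ∃ (n : ℕ) (g : Fin d → R[X]), Θ ^ n • f = emb Θ g := by
  obtain ⟨⟨b, n, rfl⟩, hb⟩ :=
    IsLocalization.exist_integer_multiples_of_finite (Submonoid.powers Θ) f
  choose g hg using hb
  refine ⟨n, g, ?_⟩
  funext j
  exact (hg j).symm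

variable (θ : Fin r → R) (hθ : ∀ i k, i ≠ k → IsUnit (θ i - θ k))
  (Θ : R[X]) (hΘ : Θ = ∏ i, (X - C (θ i)))
  (D₀ : (Fin d → R[X]) →+ (Fin d → R[X]))
  (hD₀ : ∀ (p : R[X]) (v : Fin d → R[X]),
      D₀ (p • v) = (Θ * Polynomial.derivative p) • v + p • D₀ v)
  (D : (Fin d → Localization.Away Θ) →+ (Fin d → Localization.Away Θ))
  (hD : ∀ (p : R[X]) (w : Fin d → Localization.Away Θ),
      D (p • w) = (Θ * Polynomial.derivative p) • w + p • D w)
  (hDD₀ : ∀ v : Fin d → R[X], D (emb Θ v) = emb Θ (D₀ v))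
  (Res : Fin r → ((Fin d → R) →ₗ[R] (Fin d → R)))
  (hRes : ∀ (i : Fin r) (m : Fin d → R) (j : Fin d),
      (D₀ (fun j => Polynomial.C (m j)) j).eval (θ i) =
        (∏ k ∈ Finset.univ.erase i, (θ i - θ k)) * Res i m j)

include hΘ hD₀ hRes in
lemma eval_D0 (g : Fin d → R[X]) (i : Fin r) (j : Fin d) :
    (D₀ g j).eval (θ i) =
      (∏ k ∈ Finset.univ.erase i, (θ i - θ k)) * Res i (fun j' => (g j').eval (θ i)) j := by
  classical
  have hg : g = ∑ j', g j' • (fun j => C ((Pi.single j' (1 : R) : Fin d → R) j)) := by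
    funext j
    rw [Finset.sum_apply, Finset.sum_eq_single j]
    · simp
    · intro b _ hb
      simp [Pi.single_apply, hb.symm]
    · intro h; exact absurd (Finset.mem_univ j) h
  have hΘ0 : Θ.eval (θ i) = 0 := by rw [hΘ]; exact eval_prod_eq_zero θ i
  have hgθ : (fun j' => (g j').eval (θ i)) =
      ∑ j', (g j').eval (θ i) • (Pi.single j' (1 : R) : Fin d → R) := by
    funext j
    rw [Finset.sum_apply, Finset.sum_eq_single j]
    · simp
    · intro b _ hb
      simp [Pi.single_apply, hb.symm]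
    · intro h; exact absurd (Finset.mem_univ j) h
  conv_lhs => rw [hg]
  rw [map_sum, Finset.sum_apply, eval_finsetSum, hgθ, map_sum, Finset.sum_apply, Finset.mul_sum]
  refine Finset.sum_congr rfl fun j' _ => ?_
  rw [hD₀, Pi.add_apply, eval_add, Pi.smul_apply, Pi.smul_apply, smul_eq_mul, smul_eq_mul,
    eval_mul, eval_mul, eval_mul, hΘ0, zero_mul, zero_mul, zero_add, hRes, map_smul,
    Pi.smul_apply, smul_eq_mul]
  ring

include hD hDD₀ in
lemma key_identity (hmon : Θ.Monic) (n : ℕ) (f : Fin d → Localization.Away Θ)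
    (g v : Fin d → R[X]) (hg : Θ ^ (n + 1) • f = emb Θ g) (hv : Θ ^ (n + 1) • D f = emb Θ v) :
    D₀ g = (C ((n + 1 : ℕ) : R) * derivative Θ) • g + v := by
  apply emb_injective Θ hmon
  rw [← hDD₀, ← hg, hD, emb_add, emb_smul, ← hg, hv, derivative_pow, smul_smul]
  congr 2
  rw [Nat.add_sub_cancel, pow_succ]
  ring

include hθ hΘ hD₀ hD hDD₀ hRes in
/-- S15503 core: if `Θ^n f` and `D f` are polynomial vectors then so is `f`. -/
theorem mem_poly (hχ : ∀ (i : Fin r) (n : ℕ), IsUnit ((Res i).charpoly.eval ((n + 1 : ℕ) : R)))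
    (n : ℕ) : ∀ (f : Fin d → Localization.Away Θ) (g : Fin d → R[X]), Θ ^ n • f = emb Θ g →
      (∃ v, D f = emb Θ v) → ∃ v, f = emb Θ v := by
  have hmon : Θ.Monic := by
    rw [hΘ]; exact monic_prod_of_monic _ _ fun i _ => monic_X_sub_C (θ i)
  induction n with
  | zero =>
    intro f g hg _
    exact ⟨g, by rw [← hg, pow_zero, one_smul]⟩
  | succ n ih =>
    intro f g hg ⟨v, hv⟩
    have key := key_identity Θ D₀ D hD hDD₀ hmon n f g (Θ ^ (n + 1) • v) hg
      (by rw [hv, emb_smul])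
    -- evaluate at θ i
    have hzero : ∀ (i : Fin r) (j : Fin d), (g j).eval (θ i) = 0 := by
      intro i
      have hΘ0 : Θ.eval (θ i) = 0 := by rw [hΘ]; exact eval_prod_eq_zero θ i
      have hc := isUnit_prod_erase θ hθ i
      have h1 : Res i (fun j' => (g j').eval (θ i)) =
          ((n + 1 : ℕ) : R) • (fun j' => (g j').eval (θ i)) := by
        funext j
        have h2 := congrArg (fun p : Fin d → R[X] => (p j).eval (θ i)) key
        simp only [Pi.add_apply, Pi.smul_apply, smul_eq_mul, eval_add, eval_mul, eval_C,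
          eval_pow, hΘ0] at h2
        rw [eval_D0 θ Θ hΘ D₀ hD₀ Res hRes g i j, hΘ, eval_derivative_prod θ i] at h2
        rw [Pi.smul_apply, smul_eq_mul]
        apply hc.mul_left_cancel
        rw [h2]; ring
      have h3 := eq_zero_of_eigen (Res i) _ (hχ i n) _ h1
      intro j
      exact congrFun h3 j
    have hdvd : ∀ j, Θ ∣ g j := by
      intro j
      rw [hΘ]
      exact prod_dvd_of_eval_eq_zero θ hθ (g j) fun i => hzero i j
    choose g' hg' using hdvd
    have hg2 : g = Θ • g' := by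
      funext j; rw [Pi.smul_apply, smul_eq_mul]; exact hg' j
    refine ih f g' ?_ ⟨v, hv⟩
    apply smul_cancel Θ
    rw [smul_smul, ← pow_succ', hg, hg2, emb_smul]

include hθ hΘ hD₀ hD hDD₀ hRes in
/-- S15502 core. -/
theorem exists_decomp (hχ : ∀ (i : Fin r) (n : ℕ), IsUnit ((Res i).charpoly.eval ((n + 1 : ℕ) : R)))
    (n : ℕ) : ∀ (w : Fin d → Localization.Away Θ) (g : Fin d → R[X]), Θ ^ n • w = emb Θ g →
      ∃ (w' : Fin d → Localization.Away Θ) (v : Fin d → R[X]), w = D w' + emb Θ v := by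
  have hmon : Θ.Monic := by
    rw [hΘ]; exact monic_prod_of_monic _ _ fun i _ => monic_X_sub_C (θ i)
  induction n with
  | zero =>
    intro w g hg
    exact ⟨0, g, by rw [← hg, pow_zero, one_smul, map_zero, zero_add]⟩
  | succ n ih =>
    intro w g hg
    -- choose the values of `h` at the `θ i`
    have hc := isUnit_prod_erase θ hθ
    choose u hu using fun i => (hc i)
    have hx : ∀ i, ∃ x : Fin d → R, Res i x - ((n + 1 : ℕ) : R) • x =
        (↑(u i)⁻¹ : R) • (fun j' => (g j').eval (θ i)) :=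
      fun i => exists_sub_smul_eq (Res i) _ (hχ i n) _
    choose x hx using hx
    have hh : ∀ j, ∃ h : R[X], ∀ i, h.eval (θ i) = x i j := fun j =>
      exists_interp θ hθ fun i => x i j
    choose h hh using hh
    -- the vector `w₁ = Θ^{-(n+1)} h`
    let w₁ : Fin d → Localization.Away Θ := fun j =>
      IsLocalization.mk' (Localization.Away Θ) (h j)
        (⟨Θ ^ (n + 1), ⟨n + 1, rfl⟩⟩ : Submonoid.powers Θ)
    have hw₁ : Θ ^ (n + 1) • w₁ = emb Θ h := by
      funext j
      simp only [Pi.smul_apply, Algebra.smul_def, emb, w₁]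
      exact IsLocalization.mk'_spec' (Localization.Away Θ) (h j)
        (⟨Θ ^ (n + 1), ⟨n + 1, rfl⟩⟩ : Submonoid.powers Θ)
    -- `Θ^{n+1} D w₁` is a polynomial vector
    have hDw₁ : Θ ^ (n + 1) • D w₁ =
        emb Θ (D₀ h - (C ((n + 1 : ℕ) : R) * derivative Θ) • h) := by
      have h1 := hD (Θ ^ (n + 1)) w₁
      rw [hw₁, hDD₀, derivative_pow, Nat.add_sub_cancel] at h1
      have h2 : (Θ * (C ((n + 1 : ℕ) : R) * Θ ^ n * derivative Θ)) • w₁ =
          (C ((n + 1 : ℕ) : R) * derivative Θ) • emb Θ h := by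
        rw [← hw₁, smul_smul]; congr 1; rw [pow_succ]; ring
      rw [h2] at h1
      rw [emb_sub, emb_smul, h1, add_sub_cancel_left]
    set g₂ : Fin d → R[X] := g - (D₀ h - (C ((n + 1 : ℕ) : R) * derivative Θ) • h) with hg₂
    have hw2 : Θ ^ (n + 1) • (w - D w₁) = emb Θ g₂ := by
      rw [smul_sub, hg, hDw₁, hg₂, emb_sub, emb_sub, emb_sub]
    have hzero : ∀ (i : Fin r) (j : Fin d), (g₂ j).eval (θ i) = 0 := by
      intro i j
      have hxi : (fun j' => (h j').eval (θ i)) = x i := by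
        funext j'; exact hh j' i
      have h3 := congrFun (hx i) j
      simp only [Pi.sub_apply, Pi.smul_apply, smul_eq_mul] at h3
      rw [hg₂]
      simp only [Pi.sub_apply, Pi.smul_apply, smul_eq_mul, eval_sub, eval_mul, eval_C]
      rw [eval_D0 θ Θ hΘ D₀ hD₀ Res hRes h i j, hxi, hh j i, hΘ, eval_derivative_prod θ i]
      have h4 : (g j).eval (θ i) = (∏ k ∈ Finset.univ.erase i, (θ i - θ k)) *
          ((↑(u i)⁻¹ : R) * (g j).eval (θ i)) := by
        rw [← hu i, ← mul_assoc, Units.mul_inv, one_mul]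
      rw [h4, ← h3]; ring
    have hdvd : ∀ j, Θ ∣ g₂ j := by
      intro j
      rw [hΘ]
      exact prod_dvd_of_eval_eq_zero θ hθ (g₂ j) fun i => hzero i j
    choose g₃ hg₃ using hdvd
    have hg3 : g₂ = Θ • g₃ := by
      funext j; rw [Pi.smul_apply, smul_eq_mul]; exact hg₃ j
    obtain ⟨w₂, v, hw₂⟩ := ih (w - D w₁) g₃ (by
      apply smul_cancel Θ
      rw [smul_smul, ← pow_succ', hw2, hg3, emb_smul])
    refine ⟨w₁ + w₂, v, ?_⟩
    rw [map_add, add_assoc, ← hw₂]; abel

end Conn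

end Groth.Agent.LogConn9

namespace Groth.Agent.LogConn9

open Polynomial

lemma isUnit_charpoly_eval {R : Type u} [CommRing R] [Algebra ℂ R] {d : ℕ}
    (T : (Fin d → R) →ₗ[R] (Fin d → R))
    (hχ : ∃ χ : ℂ[X], T.charpoly = χ.map (algebraMap ℂ R) ∧
      ∀ n : ℤ, n ≠ 0 → χ.eval (n : ℂ) ≠ 0) (n : ℕ) :
    IsUnit (T.charpoly.eval ((n + 1 : ℕ) : R)) := by
  obtain ⟨χ, h1, h2⟩ := hχ
  have h3 : ((n + 1 : ℕ) : R) = algebraMap ℂ R ((n + 1 : ℕ) : ℂ) := (map_natCast _ _).symm
  rw [h1, eval_map, h3, eval₂_at_apply]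
  apply IsUnit.map
  apply IsUnit.mk0
  have := h2 ((n + 1 : ℕ) : ℤ) (by exact_mod_cast Nat.succ_ne_zero n)
  rwa [Int.cast_natCast] at this

end Groth.Agent.LogConn9
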