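import Mathlib

/-!
# Logarithmic differentials and residues along a prime (helper9)

* `one_tmul_D_ne_zero` : for a local domain `O`, formally smooth and essentially of finite type
  over a field `k` of characteristic zero, with maximal ideal generated by `π ≠ 0`, the
  class of `dπ` in `κ ⊗ Ω_{O/k}` is nonzero (left exactness of the conormal sequence).
* `int_eq_zero_of_smul_dlog_mem` : if `n • dπ/π` is the image of a regular form on `O`, `n = 0`.

APPEND-ONLY once landed.
-/

set_option autoImplicit false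

namespace Groth.Agent.LogDiff9

open KaehlerDifferential TensorProduct IsLocalRing

universe u

section key

variable {k O K : Type u} [Field k] [CharZero k] [CommRing O] [IsLocalRing O] [IsDomain O]
  [Algebra k O] [Algebra.FormallySmooth k O] [Algebra.EssFiniteType k O]

theorem one_tmul_D_ne_zero (π : O) (hπ : maximalIdeal O = Ideal.span {π}) (hπ0 : π ≠ 0) :
    (1 : ResidueField O) ⊗ₜ[O] D k O π ≠ 0 := by
  have hsurj : Function.Surjective (algebraMap O (ResidueField O)) :=
    IsLocalRing.residue_surjective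
  haveI : Algebra.EssFiniteType k (ResidueField O) := Algebra.EssFiniteType.comp k O _
  haveI : Algebra.FormallySmooth k (ResidueField O) := inferInstance
  obtain ⟨l, hl⟩ := (Algebra.FormallySmooth.iff_split_injection (R := k) (P := O)
    (A := ResidueField O) hsurj).mp inferInstance
  have hker : RingHom.ker (algebraMap O (ResidueField O)) = maximalIdeal O :=
    IsLocalRing.ker_residue
  have hmem : π ∈ RingHom.ker (algebraMap O (ResidueField O)) := by
    rw [hker, hπ]; exact Ideal.mem_span_singleton_self π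
  intro h0
  have h1 : kerCotangentToTensor k O (ResidueField O) (Ideal.toCotangent _ ⟨π, hmem⟩) = 0 := by
    rw [kerCotangentToTensor_toCotangent]; exact h0
  have h2 : Ideal.toCotangent _ (⟨π, hmem⟩ : RingHom.ker (algebraMap O (ResidueField O))) = 0 := by
    have := congrArg l h1
    rw [← LinearMap.comp_apply, hl, map_zero] at this
    exact this
  rw [Ideal.toCotangent_eq_zero] at h2
  have h2' : π ∈ (Ideal.span {π} : Ideal O) ^ 2 := by
    have : (⟨π, hmem⟩ : RingHom.ker (algebraMap O (ResidueField O))).1 ∈ maximalIdeal O ^ 2 :=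
      hker ▸ h2
    rw [hπ] at this
    exact this
  rw [Ideal.span_singleton_pow, Ideal.mem_span_singleton] at h2'
  obtain ⟨c, hc⟩ := h2'
  have h3 : π * (1 - π * c) = 0 := by
    have : π ^ 2 * c = π * (π * c) := by ring
    rw [mul_sub, mul_one, ← this, ← hc, sub_self]
  have h4 : 1 - π * c = 0 := (mul_eq_zero.mp h3).resolve_left hπ0
  have h5 : IsUnit π := IsUnit.of_mul_eq_one c (by linear_combination -h4)
  have h6 : π ∈ maximalIdeal O := by rw [hπ]; exact Ideal.mem_span_singleton_self π
  exact (IsLocalRing.mem_maximalIdeal π).mp h6 h5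

variable [Field K] [Algebra O K] [IsFractionRing O K] [Algebra k K] [IsScalarTower k O K]

theorem map_injective : Function.Injective (KaehlerDifferential.map k k O K) := by
  rw [← LinearMap.ker_eq_bot, LinearMap.ker_eq_bot']
  intro x hx
  haveI : IsLocalizedModule (nonZeroDivisors O) (KaehlerDifferential.map k k O K) :=
    KaehlerDifferential.isLocalizedModule_map k O K (nonZeroDivisors O)
  obtain ⟨c, hc⟩ := (IsLocalizedModule.eq_zero_iff (nonZeroDivisors O)
    (KaehlerDifferential.map k k O K)).mp hx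
  haveI : Module.Free O Ω[O⁄k] := Module.free_of_flat_of_isLocalRing
  have hc0 : (c : O) ≠ 0 := nonZeroDivisors.coe_ne_zero c
  exact (smul_eq_zero.mp hc).resolve_left hc0

theorem int_eq_zero_of_smul_dlog_mem (π : O) (hπ : maximalIdeal O = Ideal.span {π}) (hπ0 : π ≠ 0)
    (n : ℤ) (ω : Ω[O⁄k])
    (h : n • ((algebraMap O K π)⁻¹ • D k K (algebraMap O K π)) =
      KaehlerDifferential.map k k O K ω) : n = 0 := by
  have hπK : algebraMap O K π ≠ 0 := by
    rw [Ne, map_eq_zero_iff _ (IsFractionRing.injective O K)]; exact hπ0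
  have h1 : KaehlerDifferential.map k k O K (n • D k O π) =
      KaehlerDifferential.map k k O K (π • ω) := by
    rw [map_zsmul, KaehlerDifferential.map_D, map_smul, ← h, ← algebraMap_smul K π,
      smul_comm, smul_smul, mul_inv_cancel₀ hπK, one_smul]
  have h2 : n • D k O π = π • ω := map_injective h1
  have h3 : n • ((1 : ResidueField O) ⊗ₜ[O] D k O π) = 0 := by
    rw [← TensorProduct.tmul_smul, h2, TensorProduct.tmul_smul, TensorProduct.smul_tmul']
    have : π • (1 : ResidueField O) = 0 := by
      rw [Algebra.smul_def, mul_one]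
      have h6 : π ∈ maximalIdeal O := by rw [hπ]; exact Ideal.mem_span_singleton_self π
      exact (IsLocalRing.residue_eq_zero_iff π).mpr h6
    rw [this, TensorProduct.zero_tmul]
  by_contra hn
  haveI : CharZero (ResidueField O) :=
    charZero_of_injective_algebraMap (algebraMap k (ResidueField O)).injective
  have hn' : (n : ResidueField O) ≠ 0 := by exact_mod_cast hn
  rw [← Int.cast_smul_eq_zsmul (ResidueField O)] at h3
  exact one_tmul_D_ne_zero (k := k) π hπ hπ0 ((smul_eq_zero.mp h3).resolve_left hn')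

end key

section ufd

variable {R : Type*} [CommRing R] [IsDomain R] [UniqueFactorizationMonoid R]

theorem exists_unit_prod_of_forall_prime {r : ℕ} (f : Fin r → R) (x : R) (hx : x ≠ 0)
    (h : ∀ π, Prime π → π ∣ x → ∃ i, Associated π (f i)) :
    ∃ (v : Rˣ) (d : Fin r → ℕ), x = v * ∏ i, f i ^ d i := by
  induction x using UniqueFactorizationMonoid.induction_on_prime with
  | h₁ => exact absurd rfl hx
  | h₂ x hu => exact ⟨hu.unit, 0, by simp⟩
  | h₃ a π ha hπ ih =>
    obtain ⟨i, hi⟩ := h π hπ (dvd_mul_right π a)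
    obtain ⟨v, d, hv⟩ := ih ha (fun ρ hρ hdvd => h ρ hρ (hdvd.mul_left π))
    obtain ⟨w, hw⟩ := hi.symm
    refine ⟨w * v, d + Pi.single i 1, ?_⟩
    have : ∏ j, f j ^ ((d + Pi.single i 1 : Fin r → ℕ) j) = (∏ j, f j ^ d j) * f i := by
      simp only [Pi.add_apply, pow_add, Finset.prod_mul_distrib]
      congr 1
      rw [Finset.prod_eq_single i]
      · simp
      · intro j _ hj; simp [Pi.single_apply, hj]
      · intro hi; exact absurd (Finset.mem_univ i) hi
    rw [this, ← hw, hv]
    push_cast
    ring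

end ufd

section dlog

variable (k : Type*) {K : Type*} [CommRing k] [Field K] [Algebra k K]

/-- The logarithmic differential `g⁻¹ dg`. -/
noncomputable def dlogFun (g : K) : Ω[K⁄k] := g⁻¹ • D k K g

theorem dlogFun_mul {a b : K} (ha : a ≠ 0) (hb : b ≠ 0) :
    dlogFun k (a * b) = dlogFun k a + dlogFun k b := by
  unfold dlogFun
  rw [Derivation.leibniz, smul_add, smul_smul, smul_smul, add_comm]
  have h1 : (a * b)⁻¹ * b = a⁻¹ := by field_simp
  have h2 : (a * b)⁻¹ * a = b⁻¹ := by field_simp
  rw [h1, h2]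

/-- `dlog` as a monoid homomorphism. -/
noncomputable def dlog : Kˣ →* Multiplicative (Ω[K⁄k]) where
  toFun g := Multiplicative.ofAdd (dlogFun k (g : K))
  map_one' := by simp [dlogFun]
  map_mul' a b := by
    rw [Units.val_mul, dlogFun_mul k a.ne_zero b.ne_zero]; rfl

theorem dlog_apply (g : Kˣ) : (dlog k g).toAdd = dlogFun k (g : K) := rfl

theorem dlogFun_inv {a : K} (ha : a ≠ 0) : dlogFun k a⁻¹ = - dlogFun k a := by
  have : dlogFun k (((Units.mk0 a ha)⁻¹ : Kˣ) : K) = -(dlogFun k ((Units.mk0 a ha : Kˣ) : K)) := by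
    change (dlog k (Units.mk0 a ha)⁻¹).toAdd = -(dlog k (Units.mk0 a ha)).toAdd
    rw [map_inv]; rfl
  simpa using this

theorem dlogFun_div {a b : K} (ha : a ≠ 0) (hb : b ≠ 0) :
    dlogFun k (a / b) = dlogFun k a - dlogFun k b := by
  rw [div_eq_mul_inv, dlogFun_mul k ha (inv_ne_zero hb), dlogFun_inv k hb, sub_eq_add_neg]

theorem dlogFun_pow {a : K} (ha : a ≠ 0) (n : ℕ) : dlogFun k (a ^ n) = n • dlogFun k a := by
  have : dlogFun k (((Units.mk0 a ha) ^ n : Kˣ) : K) = n • (dlogFun k ((Units.mk0 a ha : Kˣ) : K)) := by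
    change (dlog k ((Units.mk0 a ha) ^ n)).toAdd = n • (dlog k (Units.mk0 a ha)).toAdd
    rw [map_pow]; rfl
  simpa using this

theorem dlogFun_zpow {a : K} (ha : a ≠ 0) (n : ℤ) : dlogFun k (a ^ n) = n • dlogFun k a := by
  have : dlogFun k (((Units.mk0 a ha) ^ n : Kˣ) : K) = n • (dlogFun k ((Units.mk0 a ha : Kˣ) : K)) := by
    change (dlog k ((Units.mk0 a ha) ^ n)).toAdd = n • (dlog k (Units.mk0 a ha)).toAdd
    rw [map_zpow]; rfl
  simpa using this

theorem dlogFun_prod {ι : Type*} (s : Finset ι) (a : ι → K) (ha : ∀ i ∈ s, a i ≠ 0) :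
    dlogFun k (∏ i ∈ s, a i) = ∑ i ∈ s, dlogFun k (a i) := by
  classical
  induction s using Finset.induction_on with
  | empty => simp [dlogFun]
  | insert j s hj ih =>
    rw [Finset.prod_insert hj, Finset.sum_insert hj,
      dlogFun_mul k (ha j (Finset.mem_insert_self j s))
        (Finset.prod_ne_zero_iff.mpr fun i hi => ha i (Finset.mem_insert_of_mem hi)),
      ih fun i hi => ha i (Finset.mem_insert_of_mem hi)]

end dlog

end Groth.Agent.LogDiff9
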