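import Mathlib
import Groth.Agent.Lib.LogDiff1_helper9

/-!
# Forms regular at a prime, and the residue argument (helper9)

`regAt π hπ` : the `R`-submodule of `Ω[K⁄k]` of forms `ω` with `s • ω` in the image of `Ω[R⁄k]`
for some `s` not divisible by the prime `π`.
`int_eq_zero_of_mem_regAt` : `n • dπ/π ∈ regAt π` forces `n = 0` (char. 0, `R` formally smooth and
essentially of finite type over `k`).

APPEND-ONLY once landed.
-/

set_option autoImplicit false

namespace Groth.Agent.LogDiff9

open KaehlerDifferential TensorProduct IsLocalRing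

universe u

section regAt

variable {k R K : Type u} [Field k] [CommRing R] [IsDomain R]
  [Algebra k R] [Field K] [Algebra R K] [IsFractionRing R K] [Algebra k K] [IsScalarTower k R K]

/-- Forms regular at the prime `π`. -/
def regAt (π : R) (hπ : Prime π) : Submodule R Ω[K⁄k] where
  carrier := {ω | ∃ s : R, ¬ π ∣ s ∧ s • ω ∈ LinearMap.range (KaehlerDifferential.map k k R K)}
  add_mem' := by
    rintro a b ⟨s, hs, ha⟩ ⟨t, ht, hb⟩
    refine ⟨s * t, fun h => (hπ.dvd_or_dvd h).elim hs ht, ?_⟩
    rw [smul_add]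
    refine Submodule.add_mem _ ?_ ?_
    · rw [mul_comm, mul_smul]; exact Submodule.smul_mem _ _ ha
    · rw [mul_smul]; exact Submodule.smul_mem _ _ hb
  zero_mem' := ⟨1, fun h => hπ.not_unit (isUnit_of_dvd_one h), by simp⟩
  smul_mem' := by
    rintro c a ⟨s, hs, ha⟩
    exact ⟨s, hs, by rw [smul_comm]; exact Submodule.smul_mem _ _ ha⟩

variable (π : R) (hπ : Prime π)

theorem mem_regAt_iff (ω : Ω[K⁄k]) : ω ∈ regAt (k := k) (K := K) π hπ ↔
    ∃ s : R, ¬ π ∣ s ∧ s • ω ∈ LinearMap.range (KaehlerDifferential.map k k R K) := Iff.rfl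

theorem map_mem_regAt (η : Ω[R⁄k]) : KaehlerDifferential.map k k R K η ∈ regAt π hπ :=
  ⟨1, fun h => hπ.not_unit (isUnit_of_dvd_one h), by rw [one_smul]; exact ⟨η, rfl⟩⟩

theorem ne_zero_of_not_dvd {a : R} (ha : ¬ π ∣ a) : algebraMap R K a ≠ 0 := by
  rw [Ne, map_eq_zero_iff _ (IsFractionRing.injective R K)]
  rintro rfl; exact ha (dvd_zero π)

theorem dlogFun_mem_regAt {a : R} (ha : ¬ π ∣ a) :
    dlogFun k (algebraMap R K a) ∈ regAt π hπ := by
  refine ⟨a, ha, D k R a, ?_⟩
  rw [KaehlerDifferential.map_D, dlogFun, ← algebraMap_smul K a, smul_smul,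
    mul_inv_cancel₀ (ne_zero_of_not_dvd π ha), one_smul]

theorem inv_smul_mem_regAt {a : R} (ha : ¬ π ∣ a) {ω : Ω[K⁄k]} (hω : ω ∈ regAt π hπ) :
    (algebraMap R K a)⁻¹ • ω ∈ regAt π hπ := by
  obtain ⟨s, hs, h⟩ := hω
  refine ⟨s * a, fun h => (hπ.dvd_or_dvd h).elim hs ha, ?_⟩
  rw [mul_smul, ← algebraMap_smul K a, smul_smul, mul_inv_cancel₀ (ne_zero_of_not_dvd π ha),
    one_smul]
  exact h

end regAt

section mapmap

variable {k R O K : Type u} [CommRing k] [CommRing R] [CommRing O] [CommRing K]
  [Algebra k R] [Algebra k O] [Algebra k K] [Algebra R O] [Algebra O K] [Algebra R K]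
  [IsScalarTower k R O] [IsScalarTower k O K] [IsScalarTower k R K] [IsScalarTower R O K]

theorem map_map (η : Ω[R⁄k]) :
    KaehlerDifferential.map k k O K (KaehlerDifferential.map k k R O η) =
      KaehlerDifferential.map k k R K η := by
  have hη : η ∈ Submodule.span R (Set.range (D k R)) := by
    rw [KaehlerDifferential.span_range_derivation]; trivial
  induction hη using Submodule.span_induction with
  | mem x hx =>
    obtain ⟨a, rfl⟩ := hx
    rw [KaehlerDifferential.map_D, KaehlerDifferential.map_D, KaehlerDifferential.map_D,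
      ← IsScalarTower.algebraMap_apply]
  | zero => simp
  | add x y _ _ hx hy => rw [map_add, map_add, map_add, hx, hy]
  | smul a x _ hx =>
    rw [map_smul (KaehlerDifferential.map k k R O), ← algebraMap_smul O a, map_smul, hx,
      algebraMap_smul, map_smul]

end mapmap

section residue

variable {k R K : Type u} [Field k] [CharZero k] [CommRing R] [IsDomain R]
  [Algebra k R] [Algebra.FormallySmooth k R] [Algebra.EssFiniteType k R]
  [Field K] [Algebra R K] [IsFractionRing R K] [Algebra k K] [IsScalarTower k R K]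

theorem int_eq_zero_of_mem_regAt (π : R) (hπ : Prime π) (n : ℤ)
    (h : n • dlogFun k (algebraMap R K π) ∈ regAt π hπ) : n = 0 := by
  obtain ⟨s, hs, η, hη⟩ := h
  let P : Ideal R := Ideal.span {π}
  haveI hP : P.IsPrime := (Ideal.span_singleton_prime hπ.ne_zero).mpr hπ
  haveI : Algebra.FormallySmooth R (Localization.AtPrime P) := .of_isLocalization P.primeCompl
  haveI : Algebra.FormallySmooth k (Localization.AtPrime P) :=
    .comp k R (Localization.AtPrime P)
  haveI : Algebra.EssFiniteType R (Localization.AtPrime P) :=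
    .of_isLocalization (Localization.AtPrime P) P.primeCompl
  haveI : Algebra.EssFiniteType k (Localization.AtPrime P) := .comp k R (Localization.AtPrime P)
  have hu : ∀ y : P.primeCompl, IsUnit (algebraMap R K y) := fun y =>
    IsUnit.mk0 _ (by
      rw [Ne, map_eq_zero_iff _ (IsFractionRing.injective R K)]
      intro h0; exact y.2 (h0 ▸ P.zero_mem))
  letI : Algebra (Localization.AtPrime P) K :=
    (IsLocalization.lift (M := P.primeCompl) (g := algebraMap R K) hu).toAlgebra
  haveI : IsScalarTower R (Localization.AtPrime P) K :=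
    IsScalarTower.of_algebraMap_eq (fun x => (IsLocalization.lift_eq hu x).symm)
  haveI : IsFractionRing (Localization.AtPrime P) K :=
    IsFractionRing.isFractionRing_of_isDomain_of_isLocalization P.primeCompl _ K
  haveI : IsScalarTower k (Localization.AtPrime P) K := by
    refine IsScalarTower.of_algebraMap_eq (fun x => ?_)
    rw [IsScalarTower.algebraMap_apply k R K,
      IsScalarTower.algebraMap_apply k R (Localization.AtPrime P),
      ← IsScalarTower.algebraMap_apply R (Localization.AtPrime P) K]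
  have hsP : s ∈ P.primeCompl := fun hmem => hs (Ideal.mem_span_singleton.mp hmem)
  have hsu : IsUnit (algebraMap R (Localization.AtPrime P) s) :=
    IsLocalization.map_units (Localization.AtPrime P) (⟨s, hsP⟩ : P.primeCompl)
  have hmax : maximalIdeal (Localization.AtPrime P) =
      Ideal.span {algebraMap R (Localization.AtPrime P) π} := by
    rw [← IsLocalization.AtPrime.map_eq_maximalIdeal P (Localization.AtPrime P), Ideal.map_span,
      Set.image_singleton]
  have hπO : algebraMap R (Localization.AtPrime P) π ≠ 0 := by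
    intro h0
    have := congrArg (algebraMap (Localization.AtPrime P) K) h0
    rw [← IsScalarTower.algebraMap_apply, map_zero,
      map_eq_zero_iff _ (IsFractionRing.injective R K)] at this
    exact hπ.ne_zero this
  refine int_eq_zero_of_smul_dlog_mem (k := k) (K := K) (algebraMap R (Localization.AtPrime P) π)
    hmax hπO n (((hsu.unit⁻¹ : (Localization.AtPrime P)ˣ) : Localization.AtPrime P) •
      KaehlerDifferential.map k k R (Localization.AtPrime P) η) ?_
  rw [map_smul, map_map, hη, ← IsScalarTower.algebraMap_apply, ← algebraMap_smul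
    (Localization.AtPrime P) s, smul_smul]
  have : ((hsu.unit⁻¹ : (Localization.AtPrime P)ˣ) : Localization.AtPrime P) *
      algebraMap R (Localization.AtPrime P) s = 1 := by
    rw [Units.inv_mul_eq_one]; rfl
  rw [this, one_smul]
  rfl

end residue

section main

variable {k R K : Type u} [Field k] [CharZero k] [CommRing R] [IsDomain R]
  [UniqueFactorizationMonoid R]
  [Algebra k R] [Algebra.FormallySmooth k R] [Algebra.EssFiniteType k R]
  [Field K] [Algebra R K] [IsFractionRing R K] [Algebra k K] [IsScalarTower k R K]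

theorem prime_dvd_num {r : ℕ} (f : Fin r → R) (hf : ∀ i, Prime (f i)) (x y : R) (hx : x ≠ 0)
    (hy : y ≠ 0) (hrel : IsRelPrime x y) (η : Ω[R⁄k]) (c : Fin r → R)
    (h : dlogFun k (algebraMap R K x / algebraMap R K y) =
      KaehlerDifferential.map k k R K η +
        ∑ i, algebraMap R K (c i) • dlogFun k (algebraMap R K (f i)))
    (π : R) (hπ : Prime π) (hdvd : π ∣ x) : ∃ i, Associated π (f i) := by
  by_contra hcon
  push_neg at hcon
  have hfi : ∀ i, ¬ π ∣ f i := fun i hd => hcon i ((hπ.dvd_prime_iff_associated (hf i)).mp hd)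
  have hy' : ¬ π ∣ y := fun hd => hπ.not_unit (hrel hdvd hd)
  obtain ⟨m, x', hx', hxe⟩ := WfDvdMonoid.max_power_factor hx hπ.irreducible
  have hm : m ≠ 0 := by
    rintro rfl
    rw [pow_zero, one_mul] at hxe
    exact hx' (hxe ▸ hdvd)
  have hπK : algebraMap R K π ≠ 0 := by
    rw [Ne, map_eq_zero_iff _ (IsFractionRing.injective R K)]; exact hπ.ne_zero
  have hx'K := ne_zero_of_not_dvd (K := K) π hx'
  have hyK := ne_zero_of_not_dvd (K := K) π hy'
  have e1 : dlogFun k (algebraMap R K x / algebraMap R K y) =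
      (m : ℤ) • dlogFun k (algebraMap R K π) + dlogFun k (algebraMap R K x') -
        dlogFun k (algebraMap R K y) := by
    rw [hxe, map_mul, map_pow, dlogFun_div k (mul_ne_zero (pow_ne_zero _ hπK) hx'K) hyK,
      dlogFun_mul k (pow_ne_zero _ hπK) hx'K, dlogFun_pow k hπK, natCast_zsmul]
  have hmem : (m : ℤ) • dlogFun k (algebraMap R K π) ∈ regAt π hπ := by
    have : (m : ℤ) • dlogFun k (algebraMap R K π) =
        (KaehlerDifferential.map k k R K η +
          ∑ i, algebraMap R K (c i) • dlogFun k (algebraMap R K (f i))) -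
          dlogFun k (algebraMap R K x') + dlogFun k (algebraMap R K y) := by
      rw [← h, e1]; abel
    rw [this]
    refine Submodule.add_mem _ (Submodule.sub_mem _ (Submodule.add_mem _ (map_mem_regAt π hπ η)
      (Submodule.sum_mem _ fun i _ => ?_)) (dlogFun_mem_regAt π hπ hx'))
      (dlogFun_mem_regAt π hπ hy')
    rw [algebraMap_smul]
    exact Submodule.smul_mem _ _ (dlogFun_mem_regAt π hπ (hfi i))
  have := int_eq_zero_of_mem_regAt π hπ m hmem
  exact hm (by exact_mod_cast this)

theorem main {r : ℕ} (f : Fin r → R) (hf : ∀ i, Prime (f i)) (g : Kˣ) (η : Ω[R⁄k])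
    (c : Fin r → R)
    (h : dlogFun k (g : K) = KaehlerDifferential.map k k R K η +
        ∑ i, algebraMap R K (c i) • dlogFun k (algebraMap R K (f i))) :
    ∃ (v : Rˣ) (b : Fin r → ℤ), dlogFun k (g : K) =
      dlogFun k (algebraMap R K (v : R)) + ∑ i, b i • dlogFun k (algebraMap R K (f i)) := by
  obtain ⟨x, y, hrel, hxy⟩ := IsFractionRing.exists_reduced_fraction (A := R) (g : K)
  rw [IsFractionRing.mk'_eq_div] at hxy
  have hy : (y : R) ≠ 0 := nonZeroDivisors.coe_ne_zero y
  have hyK : algebraMap R K (y : R) ≠ 0 := by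
    rw [Ne, map_eq_zero_iff _ (IsFractionRing.injective R K)]; exact hy
  have hx : x ≠ 0 := by
    rintro rfl
    rw [map_zero, zero_div] at hxy
    exact g.ne_zero hxy.symm
  have hxK : algebraMap R K x ≠ 0 := by
    rw [Ne, map_eq_zero_iff _ (IsFractionRing.injective R K)]; exact hx
  have hfK : ∀ i, algebraMap R K (f i) ≠ 0 := fun i => by
    rw [Ne, map_eq_zero_iff _ (IsFractionRing.injective R K)]; exact (hf i).ne_zero
  have h1 := prime_dvd_num (K := K) f hf x y hx hy hrel η c (by rw [hxy]; exact h)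
  have h2 := prime_dvd_num (K := K) f hf y x hy hx hrel.symm (-η) (-c) (by
    rw [← inv_div, hxy, dlogFun_inv k g.ne_zero, h, map_neg, neg_add, ← Finset.sum_neg_distrib]
    congr 1
    refine Finset.sum_congr rfl fun i _ => ?_
    rw [Pi.neg_apply, map_neg, neg_smul])
  obtain ⟨v1, d1, e1⟩ := exists_unit_prod_of_forall_prime f x hx h1
  obtain ⟨v2, d2, e2⟩ := exists_unit_prod_of_forall_prime f y hy h2
  refine ⟨v1 * v2⁻¹, fun i => (d1 i : ℤ) - d2 i, ?_⟩
  have hv1 : algebraMap R K (v1 : R) ≠ 0 := by
    rw [Ne, map_eq_zero_iff _ (IsFractionRing.injective R K)]; exact v1.ne_zero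
  have hv2 : algebraMap R K (v2 : R) ≠ 0 := by
    rw [Ne, map_eq_zero_iff _ (IsFractionRing.injective R K)]; exact v2.ne_zero
  have hv2' : algebraMap R K ((v2⁻¹ : Rˣ) : R) = (algebraMap R K (v2 : R))⁻¹ := by
    refine eq_inv_of_mul_eq_one_left ?_
    rw [← map_mul, Units.inv_mul, map_one]
  have hX : dlogFun k (algebraMap R K x) = dlogFun k (algebraMap R K (v1 : R)) +
      ∑ i, (d1 i : ℤ) • dlogFun k (algebraMap R K (f i)) := by
    rw [e1, map_mul, map_prod, dlogFun_mul k hv1 (Finset.prod_ne_zero_iff.mpr fun i _ => by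
      rw [map_pow]; exact pow_ne_zero _ (hfK i)), dlogFun_prod k _ _ (fun i _ => by
      rw [map_pow]; exact pow_ne_zero _ (hfK i))]
    congr 1
    refine Finset.sum_congr rfl fun i _ => ?_
    rw [map_pow, dlogFun_pow k (hfK i), natCast_zsmul]
  have hY : dlogFun k (algebraMap R K (y : R)) = dlogFun k (algebraMap R K (v2 : R)) +
      ∑ i, (d2 i : ℤ) • dlogFun k (algebraMap R K (f i)) := by
    rw [e2, map_mul, map_prod, dlogFun_mul k hv2 (Finset.prod_ne_zero_iff.mpr fun i _ => by
      rw [map_pow]; exact pow_ne_zero _ (hfK i)), dlogFun_prod k _ _ (fun i _ => by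
      rw [map_pow]; exact pow_ne_zero _ (hfK i))]
    congr 1
    refine Finset.sum_congr rfl fun i _ => ?_
    rw [map_pow, dlogFun_pow k (hfK i), natCast_zsmul]
  rw [← hxy, dlogFun_div k hxK hyK, hX, hY, Units.val_mul, map_mul, hv2',
    dlogFun_mul k hv1 (inv_ne_zero hv2), dlogFun_inv k hv2]
  simp only [sub_smul, Finset.sum_sub_distrib]
  abel

end main

end Groth.Agent.LogDiff9
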