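import Mathlib
import Groth.Prelude.Def_W4swconnpcurvhiggsLogLam

/-! Pieces `E_I = Σ_{J ⊆ I} t_{I∖J} ∇_J(E)` of a module with logarithmic λ-connection: abstract
setting (operators `c i` with a twisted Leibniz rule), stability under scalars, generators
(helper9). -/

namespace Groth.Agent.LogPiece9

open TensorProduct

universe v u

section abstract
variable {A : Type v} {B E : Type u} [CommRing A] [CommRing B] [Algebra A B]
  [AddCommGroup E] [Module B E] [Module A E] [IsScalarTower A B E] {n : ℕ}

/-- ordered composite of the `c i`, `i ∈ I`, increasing order (smallest index applied last). -/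
noncomputable def cprod (c : Fin n → (E →ₗ[A] E)) (I : Finset (Fin n)) : E →ₗ[A] E :=
  (I.sort (· ≤ ·)).foldr (fun i φ => c i ∘ₗ φ) LinearMap.id

/-- the piece attached to `I`. -/
noncomputable def pc (c : Fin n → (E →ₗ[A] E)) (t : Fin n → B) (I : Finset (Fin n)) :
    Submodule A E :=
  ⨆ J ∈ I.powerset,
    LinearMap.range (((LinearMap.lsmul B E (∏ i ∈ I \ J, t i)).restrictScalars A) ∘ₗ cprod c J)

/-- the hypotheses: twisted Leibniz rule for the `c i`, and `ν i (t j) = δ_ij λ`. -/
structure Sys (c : Fin n → (E →ₗ[A] E)) (ν : Fin n → Derivation A B B) (t : Fin n → B)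
    (lam : B) : Prop where
  leib : ∀ (i : Fin n) (b : B) (e : E), c i (b • e) = b • c i e + (t i * ν i b) • e
  nu_t : ∀ i j : Fin n, ν i (t j) = if i = j then lam else 0

variable {c : Fin n → (E →ₗ[A] E)} {ν : Fin n → Derivation A B B} {t : Fin n → B} {lam : B}

theorem cprod_empty : cprod c (∅ : Finset (Fin n)) = LinearMap.id := by
  simp [cprod]

theorem cprod_insert {i : Fin n} {J : Finset (Fin n)} (h : ∀ j ∈ J, i < j) :
    cprod c (insert i J) = c i ∘ₗ cprod c J := by
  have hi : i ∉ J := fun hi => lt_irrefl _ (h i hi)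
  rw [cprod, Finset.sort_insert (· ≤ ·) (fun b hb => (h b hb).le) hi, List.foldr_cons]
  rfl

theorem mem_pc {I J : Finset (Fin n)} (hJ : J ⊆ I) (e : E) :
    (∏ i ∈ I \ J, t i) • cprod c J e ∈ pc c t I :=
  Submodule.mem_iSup_of_mem J (Submodule.mem_iSup_of_mem (Finset.mem_powerset.mpr hJ) ⟨e, rfl⟩)

theorem pc_le {I : Finset (Fin n)} (N : Submodule A E)
    (h : ∀ J, J ⊆ I → ∀ e : E, (∏ i ∈ I \ J, t i) • cprod c J e ∈ N) : pc c t I ≤ N := by
  refine iSup_le fun J => iSup_le fun hJ => ?_
  rintro _ ⟨e, rfl⟩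
  exact h J (Finset.mem_powerset.mp hJ) e

theorem prod_sdiff_mul {I J K : Finset (Fin n)} (hKJ : K ⊆ J) (hJI : J ⊆ I) :
    (∏ i ∈ I \ J, t i) * (∏ i ∈ J \ K, t i) = ∏ i ∈ I \ K, t i := by
  rw [← Finset.prod_union]
  · congr 1
    ext x
    simp only [Finset.mem_union, Finset.mem_sdiff]
    constructor
    · rintro (⟨h1, h2⟩ | ⟨h1, h2⟩)
      · exact ⟨h1, fun h => h2 (hKJ h)⟩
      · exact ⟨hJI h1, h2⟩
    · rintro ⟨h1, h2⟩
      by_cases h : x ∈ J
      · exact Or.inr ⟨h, h2⟩
      · exact Or.inl ⟨h1, h⟩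
  · rw [Finset.disjoint_left]
    intro x h1 h2
    exact (Finset.mem_sdiff.mp h1).2 (Finset.mem_sdiff.mp h2).1

theorem prod_smul_mem {I J : Finset (Fin n)} (hJI : J ⊆ I) {x : E} (hx : x ∈ pc c t J) :
    (∏ i ∈ I \ J, t i) • x ∈ pc c t I := by
  have : pc c t J ≤ (pc c t I).comap
      ((LinearMap.lsmul B E (∏ i ∈ I \ J, t i)).restrictScalars A) := by
    refine pc_le _ fun K hK e => ?_
    rw [Submodule.mem_comap, LinearMap.restrictScalars_apply, LinearMap.lsmul_apply, smul_smul,
      prod_sdiff_mul hK hJI]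
    exact mem_pc (hK.trans hJI) e
  exact this hx

theorem nu_prod (h : Sys c ν t lam) (i : Fin n) (J : Finset (Fin n)) (hi : i ∉ J) :
    ν i (∏ j ∈ J, t j) = 0 := by
  induction J using Finset.induction_on with
  | empty => simp
  | insert a s ha ih =>
    rw [Finset.prod_insert ha, Derivation.leibniz, ih (fun h' => hi (Finset.mem_insert_of_mem h')),
      h.nu_t, if_neg (fun h' : i = a => hi (h' ▸ Finset.mem_insert_self _ _))]
    simp

theorem c_smul_prod (h : Sys c ν t lam) (i : Fin n) (J : Finset (Fin n)) (hi : i ∉ J) (e : E) :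
    c i ((∏ j ∈ J, t j) • e) = (∏ j ∈ J, t j) • c i e := by
  rw [h.leib, nu_prod h i J hi, mul_zero, zero_smul, add_zero]

theorem c_mem_insert (h : Sys c ν t lam) {i : Fin n} {J : Finset (Fin n)} (hi : ∀ j ∈ J, i < j)
    {x : E} (hx : x ∈ pc c t J) : c i x ∈ pc c t (insert i J) := by
  have hiJ : i ∉ J := fun hh => lt_irrefl _ (hi i hh)
  have : pc c t J ≤ (pc c t (insert i J)).comap (c i) := by
    refine pc_le _ fun K hK e => ?_
    rw [Submodule.mem_comap, c_smul_prod h i _ (fun hh => hiJ (Finset.mem_sdiff.mp hh).1)]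
    have e1 : c i (cprod c K e) = cprod c (insert i K) e := by
      rw [cprod_insert (fun j hj => hi j (hK hj))]
      rfl
    have e2 : J \ K = insert i J \ insert i K := by
      ext x
      simp only [Finset.mem_sdiff, Finset.mem_insert]
      constructor
      · rintro ⟨h1, h2⟩
        exact ⟨Or.inr h1, fun h3 => h3.elim (fun h4 => hiJ (h4 ▸ h1)) h2⟩
      · rintro ⟨h1, h2⟩
        exact ⟨h1.elim (fun h3 => absurd (Or.inl h3) h2) id, fun h3 => h2 (Or.inr h3)⟩
    rw [e1, e2]
    exact mem_pc (Finset.insert_subset_insert i hK) e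
  exact this hx

theorem smul_cprod_mem (h : Sys c ν t lam) : ∀ (J : Finset (Fin n)) (b : B) (e : E),
    b • cprod c J e ∈ pc c t J := by
  intro J
  induction J using Finset.induction_on_min with
  | empty =>
    intro b e
    have := mem_pc (c := c) (t := t) (Finset.Subset.refl (∅ : Finset (Fin n))) (b • e)
    simpa [cprod_empty] using this
  | insert i J hi ih =>
    intro b e
    have hiJ : i ∉ J := fun hh => lt_irrefl _ (hi i hh)
    have e1 : b • cprod c (insert i J) e =
        c i (b • cprod c J e) - (t i * ν i b) • cprod c J e := by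
      rw [cprod_insert hi, LinearMap.comp_apply, h.leib]
      abel
    rw [e1]
    refine Submodule.sub_mem _ (c_mem_insert h hi (ih b e)) ?_
    have h2 := prod_smul_mem (c := c) (t := t) (Finset.subset_insert i J) (ih (ν i b) e)
    have e3 : insert i J \ J = {i} := by
      ext x
      simp only [Finset.mem_sdiff, Finset.mem_insert, Finset.mem_singleton]
      constructor
      · rintro ⟨h1, h2⟩
        exact h1.elim id (fun h3 => absurd h3 h2)
      · rintro rfl
        exact ⟨Or.inl rfl, hiJ⟩
    rw [e3, Finset.prod_singleton, smul_smul] at h2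
    exact h2

theorem smul_mem_pc (h : Sys c ν t lam) (I : Finset (Fin n)) (b : B) {x : E}
    (hx : x ∈ pc c t I) : b • x ∈ pc c t I := by
  have : pc c t I ≤ (pc c t I).comap ((LinearMap.lsmul B E b).restrictScalars A) := by
    refine pc_le _ fun J hJ e => ?_
    rw [Submodule.mem_comap, LinearMap.restrictScalars_apply, LinearMap.lsmul_apply, smul_comm]
    exact prod_smul_mem hJ (smul_cprod_mem h J b e)
  exact this hx

/-- the piece as a `B`-submodule. -/
noncomputable def pcB (h : Sys c ν t lam) (I : Finset (Fin n)) : Submodule B E :=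
  { (pc c t I) with
    smul_mem' := fun b _ hx => smul_mem_pc h I b hx }

theorem mem_pcB (h : Sys c ν t lam) (I : Finset (Fin n)) (x : E) :
    x ∈ pcB h I ↔ x ∈ pc c t I := Iff.rfl

section gens
variable {m : ℕ} (e : Fin m → E)

/-- the `B`-span of the elements `t_{I∖J} ∇_J (e k)`. -/
noncomputable def G (c : Fin n → (E →ₗ[A] E)) (t : Fin n → B) (I : Finset (Fin n)) :
    Submodule B E :=
  Submodule.span B (⋃ J ∈ I.powerset, Set.range (fun k : Fin m =>
    (∏ i ∈ I \ J, t i) • cprod c J (e k)))

theorem mem_G {I J : Finset (Fin n)} (hJ : J ⊆ I) (k : Fin m) :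
    (∏ i ∈ I \ J, t i) • cprod c J (e k) ∈ G e c t I := by
  refine Submodule.subset_span ?_
  simp only [Set.mem_iUnion]
  exact ⟨J, Finset.mem_powerset.mpr hJ, k, rfl⟩

theorem G_le {I : Finset (Fin n)} (N : Submodule B E)
    (h : ∀ J, J ⊆ I → ∀ k : Fin m, (∏ i ∈ I \ J, t i) • cprod c J (e k) ∈ N) : G e c t I ≤ N := by
  refine Submodule.span_le.mpr ?_
  intro x hx
  simp only [Set.mem_iUnion] at hx
  obtain ⟨J, hJ, k, rfl⟩ := hx
  exact h J (Finset.mem_powerset.mp hJ) k

theorem prod_smul_mem_G {I J : Finset (Fin n)} (hJI : J ⊆ I) {x : E} (hx : x ∈ G e c t J) :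
    (∏ i ∈ I \ J, t i) • x ∈ G e c t I := by
  have : G e c t J ≤ (G e c t I).comap (LinearMap.lsmul B E (∏ i ∈ I \ J, t i)) := by
    refine G_le e _ fun K hK k => ?_
    rw [Submodule.mem_comap, LinearMap.lsmul_apply, smul_smul, prod_sdiff_mul hK hJI]
    exact mem_G e (hK.trans hJI) k
  exact this hx

theorem c_mem_G (h : Sys c ν t lam) {i : Fin n} {J : Finset (Fin n)} (hi : ∀ j ∈ J, i < j)
    {x : E} (hx : x ∈ G e c t J) : c i x ∈ G e c t (insert i J) := by
  have hiJ : i ∉ J := fun hh => lt_irrefl _ (hi i hh)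
  have e3 : insert i J \ J = {i} := by
    ext x
    simp only [Finset.mem_sdiff, Finset.mem_insert, Finset.mem_singleton]
    constructor
    · rintro ⟨h1, h2⟩
      exact h1.elim id (fun h3 => absurd h3 h2)
    · rintro rfl
      exact ⟨Or.inl rfl, hiJ⟩
  rw [G] at hx
  induction hx using Submodule.span_induction with
  | mem x hx =>
    simp only [Set.mem_iUnion] at hx
    obtain ⟨K, hK, k, rfl⟩ := hx
    have hK' := Finset.mem_powerset.mp hK
    rw [c_smul_prod h i _ (fun hh => hiJ (Finset.mem_sdiff.mp hh).1)]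
    have e1 : c i (cprod c K (e k)) = cprod c (insert i K) (e k) := by
      rw [cprod_insert (fun j hj => hi j (hK' hj))]
      rfl
    have e2 : J \ K = insert i J \ insert i K := by
      ext x
      simp only [Finset.mem_sdiff, Finset.mem_insert]
      constructor
      · rintro ⟨h1, h2⟩
        exact ⟨Or.inr h1, fun h3 => h3.elim (fun h4 => hiJ (h4 ▸ h1)) h2⟩
      · rintro ⟨h1, h2⟩
        exact ⟨h1.elim (fun h3 => absurd (Or.inl h3) h2) id, fun h3 => h2 (Or.inr h3)⟩
    rw [e1, e2]
    exact mem_G e (Finset.insert_subset_insert i hK') k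
  | zero => rw [map_zero]; exact Submodule.zero_mem _
  | add x y _ _ hx hy => rw [map_add]; exact Submodule.add_mem _ hx hy
  | smul b x hx' hx =>
    rw [h.leib]
    refine Submodule.add_mem _ (Submodule.smul_mem _ _ hx) ?_
    have h2 := prod_smul_mem_G e (c := c) (t := t) (Finset.subset_insert i J) hx'
    rw [e3, Finset.prod_singleton] at h2
    rw [mul_comm, mul_smul]
    exact Submodule.smul_mem _ _ h2

theorem cprod_mem_G (h : Sys c ν t lam) (he : Submodule.span B (Set.range e) = ⊤) :
    ∀ (J : Finset (Fin n)) (x : E), cprod c J x ∈ G e c t J := by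
  intro J
  induction J using Finset.induction_on_min with
  | empty =>
    intro x
    have hx : x ∈ Submodule.span B (Set.range e) := by rw [he]; trivial
    rw [cprod_empty, LinearMap.id_apply]
    refine (Submodule.span_le.mpr ?_) hx
    rintro _ ⟨k, rfl⟩
    have := mem_G e (c := c) (t := t) (Finset.Subset.refl (∅ : Finset (Fin n))) k
    simpa [cprod_empty] using this
  | insert i J hi ih =>
    intro x
    rw [cprod_insert hi, LinearMap.comp_apply]
    exact c_mem_G e h hi (ih x)

theorem G_eq_pc (h : Sys c ν t lam) (he : Submodule.span B (Set.range e) = ⊤)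
    (I : Finset (Fin n)) : (G e c t I).restrictScalars A = pc c t I := by
  apply le_antisymm
  · intro x hx
    have h1 : G e c t I ≤ pcB h I := G_le e _ fun J hJ k => mem_pc hJ (e k)
    exact h1 hx
  · refine pc_le _ fun J hJ x => ?_
    exact prod_smul_mem_G e hJ (cprod_mem_G e h he J x)

end gens

end abstract

section concrete
variable {A : Type v} {B L E : Type u} [CommRing A] [CommRing B] [Algebra A B]
  [AddCommGroup L] [Module B L] [Module A L] [IsScalarTower A B L]
  [AddCommGroup E] [Module B E] [Module A E] [IsScalarTower A B E]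

theorem compProd_eq (nabla : E →ₗ[A] E ⊗[B] L) {n : ℕ} (ω : Module.Basis (Fin n) B L)
    (I : Finset (Fin n)) : LogConn.compProd nabla ω I = cprod (LogConn.comp nabla ω) I := rfl

theorem piece_eq (nabla : E →ₗ[A] E ⊗[B] L) {n : ℕ} (ω : Module.Basis (Fin n) B L)
    (t : Fin n → B) (I : Finset (Fin n)) :
    LogConn.piece nabla ω t I = pc (LogConn.comp nabla ω) t I := rfl

/-- the derivations `λ ∂_i`. -/
noncomputable def nuD (lam : B) {n : ℕ} (bΩ : Module.Basis (Fin n) B (KaehlerDifferential A B))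
    (i : Fin n) : Derivation A B B :=
  lam • (bΩ.coord i).compDer (KaehlerDifferential.D A B)

theorem nuD_apply (lam : B) {n : ℕ} (bΩ : Module.Basis (Fin n) B (KaehlerDifferential A B))
    (i : Fin n) (b : B) : nuD lam bΩ i b = lam * bΩ.repr (KaehlerDifferential.D A B b) i := rfl

theorem iota_D {n : ℕ} (t : Fin n → B) (bΩ : Module.Basis (Fin n) B (KaehlerDifferential A B))
    (hbΩ : ∀ i, bΩ i = KaehlerDifferential.D A B (t i))
    (ω : Module.Basis (Fin n) B L) (ι : KaehlerDifferential A B →ₗ[B] L)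
    (hι : ∀ i, ι (KaehlerDifferential.D A B (t i)) = t i • ω i) (x : KaehlerDifferential A B) :
    ι x = ∑ j, (bΩ.repr x j * t j) • ω j := by
  conv_lhs => rw [← bΩ.sum_repr x]
  rw [map_sum]
  refine Finset.sum_congr rfl fun j _ => ?_
  rw [map_smul, hbΩ, hι, smul_smul]

theorem coord_iota {n : ℕ} (t : Fin n → B) (bΩ : Module.Basis (Fin n) B (KaehlerDifferential A B))
    (hbΩ : ∀ i, bΩ i = KaehlerDifferential.D A B (t i))
    (ω : Module.Basis (Fin n) B L) (ι : KaehlerDifferential A B →ₗ[B] L)
    (hι : ∀ i, ι (KaehlerDifferential.D A B (t i)) = t i • ω i) (x : KaehlerDifferential A B)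
    (i : Fin n) : ω.coord i (ι x) = t i * bΩ.repr x i := by
  classical
  rw [iota_D t bΩ hbΩ ω ι hι x, map_sum]
  simp only [map_smul, Module.Basis.coord_apply, Module.Basis.repr_self, smul_eq_mul,
    Finsupp.single_apply]
  rw [Finset.sum_eq_single i]
  · rw [if_pos rfl, mul_one, mul_comm]
  · intro j _ hj
    rw [if_neg hj, mul_zero]
  · intro h
    exact absurd (Finset.mem_univ i) h

theorem sys (lam : B) {n : ℕ} (t : Fin n → B)
    (bΩ : Module.Basis (Fin n) B (KaehlerDifferential A B))
    (hbΩ : ∀ i, bΩ i = KaehlerDifferential.D A B (t i))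
    (ω : Module.Basis (Fin n) B L) (ι : KaehlerDifferential A B →ₗ[B] L)
    (hι : ∀ i, ι (KaehlerDifferential.D A B (t i)) = t i • ω i)
    (nabla : E →ₗ[A] E ⊗[B] L)
    (hc : Conn.IsLamConn (ι.compDer (KaehlerDifferential.D A B)) lam nabla) :
    Sys (LogConn.comp nabla ω) (nuD lam bΩ) t lam where
  leib i b e := by
    rw [LogConn.comp, Conn.along_apply, Conn.along_apply, hc b e, map_add, map_smul, map_add,
      map_smul, map_smul, map_smul, TensorProduct.map_tmul, TensorProduct.rid_tmul,
      LinearMap.id_apply]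
    have e1 : (ι.compDer (KaehlerDifferential.D A B)) b = ι (KaehlerDifferential.D A B b) := rfl
    rw [e1, coord_iota t bΩ hbΩ ω ι hι, nuD_apply, smul_smul]
    congr 2
    ring
  nu_t i j := by
    classical
    rw [nuD_apply, ← hbΩ, Module.Basis.repr_self, Finsupp.single_apply]
    by_cases h : i = j
    · rw [if_pos h, if_pos h.symm, mul_one]
    · rw [if_neg h, if_neg (Ne.symm h), mul_zero]

end concrete

end Groth.Agent.LogPiece9
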