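import Mathlib
import Groth.Prelude.Def_W4swconnpcurvhiggsLogLam
import Groth.Agent.Lib.LogPiece1_helper9

/-! Layers `⊕_K E_K ⊗ ω_K` of a module with logarithmic λ-connection: coordinates in the
exterior power basis, determinant bookkeeping, the generators (helper9). -/

namespace Groth.Agent.LogPiece9

open TensorProduct Set.powersetCard

universe v u

section layer
variable {A : Type v} {B L E : Type u} [CommRing A] [CommRing B] [Algebra A B]
  [AddCommGroup L] [Module B L]
  [AddCommGroup E] [Module B E] [Module A E] [IsScalarTower A B E] {n : ℕ}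

/-- abstract layer. -/
noncomputable def lay (c : Fin n → (E →ₗ[A] E)) (t : Fin n → B) (ω : Module.Basis (Fin n) B L)
    (p : ℕ) : Submodule A (E ⊗[B] ↥(⋀[B]^p L)) :=
  ⨅ K : Set.powersetCard (Fin n) p,
    (pc c t (K : Finset (Fin n))).comap ((LogConn.coordE (E := E) ω p K).restrictScalars A)

theorem mem_lay {c : Fin n → (E →ₗ[A] E)} {t : Fin n → B} {ω : Module.Basis (Fin n) B L}
    {p : ℕ} {x : E ⊗[B] ↥(⋀[B]^p L)} :
    x ∈ lay c t ω p ↔ ∀ K : Set.powersetCard (Fin n) p,
      LogConn.coordE (E := E) ω p K x ∈ pc c t (K : Finset (Fin n)) := by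
  simp only [lay, Submodule.mem_iInf, Submodule.mem_comap, LinearMap.restrictScalars_apply]

omit [Module A E] [IsScalarTower A B E] in
theorem coordE_tmul (ω : Module.Basis (Fin n) B L) (p : ℕ) (K : Set.powersetCard (Fin n) p)
    (x : E) (η : ↥(⋀[B]^p L)) :
    LogConn.coordE (E := E) ω p K (x ⊗ₜ[B] η) = ((ω.exteriorPower p).coord K η) • x := by
  simp [LogConn.coordE]

omit [Module A E] [IsScalarTower A B E] in
theorem coordE_tmul_ιMulti (ω : Module.Basis (Fin n) B L) (p : ℕ)
    (K : Set.powersetCard (Fin n) p) (x : E) (v : Fin p → L) :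
    LogConn.coordE (E := E) ω p K (x ⊗ₜ[B] exteriorPower.ιMulti B p v) =
      (Matrix.of fun i j => ω.coord (Finset.orderEmbOfFin K.val K.prop j) (v i)).det • x := by
  rw [coordE_tmul, exteriorPower.basis_coord, exteriorPower.ιMultiDual_apply_ιMulti]
  rfl

omit [Module A E] [IsScalarTower A B E] in
/-- basis expansion in `E ⊗ ⋀^p L`. -/
theorem sum_coordE (ω : Module.Basis (Fin n) B L) (p : ℕ) (x : E ⊗[B] ↥(⋀[B]^p L)) :
    x = ∑ K : Set.powersetCard (Fin n) p,
      (LogConn.coordE (E := E) ω p K x) ⊗ₜ[B] (ω.exteriorPower p K) := by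
  induction x using TensorProduct.induction_on with
  | zero => simp
  | tmul e η =>
    simp only [coordE_tmul]
    conv_lhs => rw [← (ω.exteriorPower p).sum_repr η, TensorProduct.tmul_sum]
    refine Finset.sum_congr rfl fun K _ => ?_
    rw [TensorProduct.tmul_smul, TensorProduct.smul_tmul']
    rfl
  | add x y hx hy =>
    conv_lhs => rw [hx, hy]
    rw [← Finset.sum_add_distrib]
    refine Finset.sum_congr rfl fun K _ => ?_
    rw [map_add, TensorProduct.add_tmul]

end layer

section det
variable {A : Type v} {B L : Type u} [CommRing A] [CommRing B] [Algebra A B]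
  [AddCommGroup L] [Module B L] [Module A L] [IsScalarTower A B L] {n : ℕ}
  (t : Fin n → B) (bΩ : Module.Basis (Fin n) B (KaehlerDifferential A B))
  (hbΩ : ∀ i, bΩ i = KaehlerDifferential.D A B (t i))
  (ω : Module.Basis (Fin n) B L) (ι : KaehlerDifferential A B →ₗ[B] L)
  (hι : ∀ i, ι (KaehlerDifferential.D A B (t i)) = t i • ω i)

omit [Algebra A B] [Module A L] [IsScalarTower A B L] in
theorem coord_basis (i k : Fin n) : ω.coord i (ω k) = if k = i then 1 else 0 := by
  classical
  rw [Module.Basis.coord_apply, Module.Basis.repr_self, Finsupp.single_apply]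

omit [Algebra A B] [Module A L] [IsScalarTower A B L] in
theorem det_eq_zero_of_notMem {p : ℕ} (K : Set.powersetCard (Fin n) p) (v : Fin p → L)
    (a : Fin p) (k : Fin n) (hk : k ∉ K.val) (hv : v a = ω k) :
    (Matrix.of fun i j => ω.coord (Finset.orderEmbOfFin K.val K.prop j) (v i)).det = 0 := by
  refine Matrix.det_eq_zero_of_row_eq_zero a (fun j => ?_)
  rw [Matrix.of_apply, hv, coord_basis, if_neg]
  intro h
  exact hk (h ▸ Finset.orderEmbOfFin_mem _ _ j)

omit [Algebra A B] in
theorem prod_orderEmb_ite {p : ℕ} (K : Set.powersetCard (Fin n) p) (S' : Finset (Fin n)) :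
    (∏ j : Fin p, if Finset.orderEmbOfFin K.val K.prop j ∈ S' then (1 : B)
      else t (Finset.orderEmbOfFin K.val K.prop j)) = ∏ k ∈ K.val \ S', t k := by
  have h1 : (∏ j : Fin p, if Finset.orderEmbOfFin K.val K.prop j ∈ S' then (1 : B)
      else t (Finset.orderEmbOfFin K.val K.prop j)) =
      ∏ k ∈ Finset.map (Finset.orderEmbOfFin K.val K.prop).toEmbedding Finset.univ,
        if k ∈ S' then (1 : B) else t k := by
    rw [Finset.prod_map]
    rfl
  rw [h1, Finset.map_orderEmbOfFin_univ, Finset.sdiff_eq_filter, Finset.prod_filter]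
  refine Finset.prod_congr rfl fun k _ => ?_
  by_cases hk : k ∈ S'
  · rw [if_pos hk, if_neg (not_not.mpr hk)]
  · rw [if_neg hk, if_pos hk]

include hbΩ hι in
theorem det_eq_prod_mul {p : ℕ} (K : Set.powersetCard (Fin n) p) (v : Fin p → L)
    (S : Finset (Fin p)) (S' : Finset (Fin n))
    (h1 : ∀ a ∈ S, ∃ k ∈ S', v a = ω k) (h3 : ∀ a, a ∉ S → v a ∈ LinearMap.range ι) :
    ∃ d : B, (Matrix.of fun i j => ω.coord (Finset.orderEmbOfFin K.val K.prop j) (v i)).det =
      (∏ k ∈ K.val \ S', t k) * d := by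
  classical
  -- choose preimages
  have h3' : ∀ a : Fin p, ∃ η : KaehlerDifferential A B, a ∉ S → v a = ι η := by
    intro a
    by_cases ha : a ∈ S
    · exact ⟨0, fun h => absurd ha h⟩
    · obtain ⟨η, hη⟩ := h3 a ha
      exact ⟨η, fun _ => hη.symm⟩
  choose η hη using h3'
  set Kj := Finset.orderEmbOfFin K.val K.prop with hKj
  set w : Fin p → B := fun j => if Kj j ∈ S' then 1 else t (Kj j) with hw
  set M' : Matrix (Fin p) (Fin p) B := fun i j =>
    if Kj j ∈ S' then ω.coord (Kj j) (v i) else (if i ∈ S then 0 else bΩ.repr (η i) (Kj j)) with hM'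
  have hM : (Matrix.of fun i j => ω.coord (Kj j) (v i)) = Matrix.of fun i j => w j * M' i j := by
    ext i j
    simp only [Matrix.of_apply, hw, hM']
    by_cases hj : Kj j ∈ S'
    · rw [if_pos hj, if_pos hj, one_mul]
    · rw [if_neg hj, if_neg hj]
      by_cases hi : i ∈ S
      · obtain ⟨k, hk, hvk⟩ := h1 i hi
        rw [if_pos hi, mul_zero, hvk, coord_basis, if_neg]
        intro h
        exact hj (h ▸ hk)
      · rw [if_neg hi, hη i hi, coord_iota t bΩ hbΩ ω ι hι]
  refine ⟨M'.det, ?_⟩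
  rw [hM, Matrix.det_mul_row, hw, prod_orderEmb_ite]

end det

section KL
variable {A : Type v} {B L E : Type u} [CommRing A] [CommRing B] [Algebra A B]
  [AddCommGroup L] [Module B L] [Module A L] [IsScalarTower A B L]
  [AddCommGroup E] [Module B E] [Module A E] [IsScalarTower A B E] {n : ℕ}
  {c : Fin n → (E →ₗ[A] E)} {ν : Fin n → Derivation A B B} {t : Fin n → B} {lam : B}
  (bΩ : Module.Basis (Fin n) B (KaehlerDifferential A B))
  (hbΩ : ∀ i, bΩ i = KaehlerDifferential.D A B (t i))
  (ω : Module.Basis (Fin n) B L) (ι : KaehlerDifferential A B →ₗ[B] L)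
  (hι : ∀ i, ι (KaehlerDifferential.D A B (t i)) = t i • ω i)

include hbΩ hι in
/-- the key membership criterion for pure tensors `x ⊗ (v₁ ∧ ⋯ ∧ v_p)`. -/
theorem tmul_mem_lay (h : Sys c ν t lam) {p : ℕ} (v : Fin p → L)
    (S : Finset (Fin p)) (S' : Finset (Fin n))
    (h1 : ∀ a ∈ S, ∃ k ∈ S', v a = ω k) (h2 : ∀ k ∈ S', ∃ a ∈ S, v a = ω k)
    (h3 : ∀ a, a ∉ S → v a ∈ LinearMap.range ι) (x : E)
    (hx : ∀ K : Set.powersetCard (Fin n) p, S' ⊆ K.val →
      (∏ k ∈ K.val \ S', t k) • x ∈ pc c t K.val) :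
    x ⊗ₜ[B] exteriorPower.ιMulti B p v ∈ lay c t ω p := by
  rw [mem_lay]
  intro K
  rw [coordE_tmul_ιMulti]
  by_cases hS : S' ⊆ K.val
  · obtain ⟨d, hd⟩ := det_eq_prod_mul t bΩ hbΩ ω ι hι K v S S' h1 h3
    rw [hd, mul_comm, mul_smul]
    exact smul_mem_pc h _ d (hx K hS)
  · obtain ⟨k, hk, hkK⟩ := Finset.not_subset.mp hS
    obtain ⟨a, _, hva⟩ := h2 k hk
    rw [det_eq_zero_of_notMem ω K v a k hkK hva, zero_smul]
    exact Submodule.zero_mem _

/-- the layer as a `B`-submodule. -/
noncomputable def layB (h : Sys c ν t lam) (ω : Module.Basis (Fin n) B L) (p : ℕ) :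
    Submodule B (E ⊗[B] ↥(⋀[B]^p L)) :=
  { (lay c t ω p) with
    smul_mem' := fun b x hx => by
      have hx' : x ∈ lay c t ω p := hx
      show b • x ∈ lay c t ω p
      rw [mem_lay] at hx' ⊢
      intro K
      rw [map_smul]
      exact smul_mem_pc h _ b (hx' K) }

end KL

section sigma
variable {n p : ℕ}

/-- enumeration of `K` listing `J` first (in increasing order), then `K \ J`. -/
noncomputable def sig (J K : Finset (Fin n)) (hK : K.card = p) (hJK : J ⊆ K) (a : Fin p) : Fin n :=
  if h : a.val < J.card then J.orderEmbOfFin rfl ⟨a.val, h⟩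
  else (K \ J).orderEmbOfFin rfl ⟨a.val - J.card, by
    rw [Finset.card_sdiff_of_subset hJK, hK]; omega⟩

variable (J K : Finset (Fin n)) (hK : K.card = p) (hJK : J ⊆ K)

theorem sig_pos (a : Fin p) (h : a.val < J.card) :
    sig J K hK hJK a = J.orderEmbOfFin rfl ⟨a.val, h⟩ := dif_pos h

theorem sig_mem_J (a : Fin p) (h : a.val < J.card) : sig J K hK hJK a ∈ J := by
  rw [sig_pos J K hK hJK a h]
  exact Finset.orderEmbOfFin_mem _ _ _

theorem sig_mem_sdiff (a : Fin p) (h : ¬ a.val < J.card) : sig J K hK hJK a ∈ K \ J := by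
  rw [sig, dif_neg h]
  exact Finset.orderEmbOfFin_mem _ _ _

theorem sig_mem_J_iff (a : Fin p) : sig J K hK hJK a ∈ J ↔ a.val < J.card := by
  constructor
  · intro h
    by_contra h'
    exact (Finset.mem_sdiff.mp (sig_mem_sdiff J K hK hJK a h')).2 h
  · exact sig_mem_J J K hK hJK a

theorem sig_mem_K (a : Fin p) : sig J K hK hJK a ∈ K := by
  by_cases h : a.val < J.card
  · exact hJK (sig_mem_J J K hK hJK a h)
  · exact (Finset.mem_sdiff.mp (sig_mem_sdiff J K hK hJK a h)).1

theorem sig_injective : Function.Injective (sig J K hK hJK) := by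
  intro a a' haa
  by_cases h : a.val < J.card
  · have h' : a'.val < J.card := by
      rw [← sig_mem_J_iff J K hK hJK, ← haa]
      exact sig_mem_J J K hK hJK a h
    rw [sig_pos J K hK hJK a h, sig_pos J K hK hJK a' h'] at haa
    have := (J.orderEmbOfFin rfl).injective haa
    exact Fin.ext (by simpa using congrArg Fin.val this)
  · have h' : ¬ a'.val < J.card := by
      rw [← sig_mem_J_iff J K hK hJK, ← haa]
      exact fun hh => h ((sig_mem_J_iff J K hK hJK a).mp hh)
    rw [sig, sig, dif_neg h, dif_neg h'] at haa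
    have := (Finset.orderEmbOfFin (K \ J) rfl).injective haa
    have h2 : a.val - J.card = a'.val - J.card := by simpa using congrArg Fin.val this
    exact Fin.ext (by omega)

theorem image_sig : Finset.univ.image (sig J K hK hJK) = K := by
  classical
  refine Finset.eq_of_subset_of_card_le ?_ ?_
  · intro k hk
    obtain ⟨a, _, rfl⟩ := Finset.mem_image.mp hk
    exact sig_mem_K J K hK hJK a
  · rw [Finset.card_image_of_injective _ (sig_injective J K hK hJK), Finset.card_univ,
      Fintype.card_fin, hK]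

theorem prod_sig {B : Type*} [CommRing B] (t : Fin n → B) :
    (∏ a : Fin p, if a.val < J.card then (1 : B) else t (sig J K hK hJK a)) =
      ∏ k ∈ K \ J, t k := by
  classical
  have h1 : (∏ a : Fin p, if a.val < J.card then (1 : B) else t (sig J K hK hJK a)) =
      ∏ a : Fin p, (fun k => if k ∈ J then (1 : B) else t k) (sig J K hK hJK a) := by
    refine Finset.prod_congr rfl fun a _ => ?_
    by_cases h : a.val < J.card
    · rw [if_pos h]
      show (1 : B) = if sig J K hK hJK a ∈ J then (1 : B) else t (sig J K hK hJK a)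
      rw [if_pos ((sig_mem_J_iff J K hK hJK a).mpr h)]
    · rw [if_neg h]
      show t (sig J K hK hJK a) = if sig J K hK hJK a ∈ J then (1 : B) else t (sig J K hK hJK a)
      rw [if_neg (fun hh => h ((sig_mem_J_iff J K hK hJK a).mp hh))]
  rw [h1, ← Finset.prod_image (f := fun k => if k ∈ J then (1 : B) else t k)
    (fun a _ a' _ haa => sig_injective J K hK hJK haa), image_sig, Finset.sdiff_eq_filter,
    Finset.prod_filter]
  refine Finset.prod_congr rfl fun k _ => ?_
  by_cases hk : k ∈ J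
  · rw [if_pos hk, if_neg (not_not.mpr hk)]
  · rw [if_neg hk, if_pos hk]

/-- the permutation of `Fin p` sorting `sig`. -/
noncomputable def sigPerm : Equiv.Perm (Fin p) :=
  Equiv.ofBijective (fun a => (K.orderIsoOfFin hK).symm ⟨sig J K hK hJK a, sig_mem_K J K hK hJK a⟩)
    (Function.Injective.bijective_of_finite (fun a a' haa => by
      have := (K.orderIsoOfFin hK).symm.injective haa
      exact sig_injective J K hK hJK (congrArg Subtype.val this)))

theorem orderEmb_sigPerm (a : Fin p) :
    K.orderEmbOfFin hK (sigPerm J K hK hJK a) = sig J K hK hJK a := by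
  rw [← Finset.coe_orderIsoOfFin_apply]
  show ((K.orderIsoOfFin hK) ((K.orderIsoOfFin hK).symm _)).val = _
  rw [OrderIso.apply_symm_apply]

end sigma

section gens
variable {A : Type v} {B L E : Type u} [CommRing A] [CommRing B] [Algebra A B]
  [AddCommGroup L] [Module B L] [Module A L] [IsScalarTower A B L]
  [AddCommGroup E] [Module B E] [Module A E] [IsScalarTower A B E] {n : ℕ}
  {c : Fin n → (E →ₗ[A] E)} {ν : Fin n → Derivation A B B} {t : Fin n → B} {lam : B}
  (bΩ : Module.Basis (Fin n) B (KaehlerDifferential A B))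
  (hbΩ : ∀ i, bΩ i = KaehlerDifferential.D A B (t i))
  (ω : Module.Basis (Fin n) B L) (ι : KaehlerDifferential A B →ₗ[B] L)
  (hι : ∀ i, ι (KaehlerDifferential.D A B (t i)) = t i • ω i)

/-- abstract generators. -/
def gensC (c : Fin n → (E →ₗ[A] E)) (ω : Module.Basis (Fin n) B L)
    (ι : KaehlerDifferential A B →ₗ[B] L) (p : ℕ) : Set (E ⊗[B] ↥(⋀[B]^p L)) :=
  {x | ∃ (I : Finset (Fin n)) (_ : I.card ≤ p) (e : E) (v : Fin p → L),
    (∀ (k : Fin p) (hk : k.val < I.card), v k = ω (I.orderEmbOfFin rfl ⟨k.val, hk⟩)) ∧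
    (∀ k : Fin p, I.card ≤ k.val → v k ∈ LinearMap.range ι) ∧
    x = cprod c I e ⊗ₜ[B] exteriorPower.ιMulti B p v}

include hbΩ hι in
theorem span_gensC_le (h : Sys c ν t lam) (p : ℕ) :
    Submodule.span B (gensC c ω ι p) ≤ layB h ω p := by
  classical
  refine Submodule.span_le.mpr ?_
  rintro _ ⟨I, hI, e, v, hv1, hv2, rfl⟩
  show _ ∈ lay c t ω p
  refine tmul_mem_lay bΩ hbΩ ω ι hι h v (Finset.univ.filter (fun a : Fin p => a.val < I.card)) I
    ?_ ?_ ?_ (cprod c I e) (fun K hK => mem_pc hK e)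
  · intro a ha
    have ha' : a.val < I.card := (Finset.mem_filter.mp ha).2
    exact ⟨_, Finset.orderEmbOfFin_mem _ _ _, hv1 a ha'⟩
  · intro k hk
    have hk' : k ∈ Set.range (I.orderEmbOfFin rfl) := by
      rw [Finset.range_orderEmbOfFin]; exact hk
    obtain ⟨i, rfl⟩ := hk'
    refine ⟨⟨i.val, lt_of_lt_of_le i.2 hI⟩, Finset.mem_filter.mpr ⟨Finset.mem_univ _, i.2⟩, ?_⟩
    exact hv1 ⟨i.val, lt_of_lt_of_le i.2 hI⟩ i.2
  · intro a ha
    have ha' : ¬ a.val < I.card := fun hh => ha (Finset.mem_filter.mpr ⟨Finset.mem_univ _, hh⟩)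
    exact hv2 a (not_lt.mp ha')

omit [Module A L] [IsScalarTower A B L] in
theorem units_smul_mem {M : Type*} [AddCommGroup M] [Module B M] (N : Submodule B M) (u : ℤˣ)
    {x : M} (hx : x ∈ N) : u • x ∈ N := by
  rcases Int.units_eq_one_or u with rfl | rfl
  · rwa [one_smul]
  · rw [Units.smul_def]
    simpa using N.neg_mem hx

include hι in
theorem tmul_basis_mem_span {p : ℕ} (K : Set.powersetCard (Fin n) p) (J : Finset (Fin n))
    (hJK : J ⊆ K.val) (e : E) :
    ((∏ i ∈ K.val \ J, t i) • cprod c J e) ⊗ₜ[B] (ω.exteriorPower p K) ∈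
      Submodule.span B (gensC c ω ι p) := by
  classical
  have hKc : K.val.card = p := K.prop
  set σ := sig J K.val hKc hJK with hσ
  set v : Fin p → L := fun a => if h : a.val < J.card then ω (J.orderEmbOfFin rfl ⟨a.val, h⟩)
    else ι (KaehlerDifferential.D A B (t (σ a))) with hv
  set w : Fin p → B := fun a => if a.val < J.card then 1 else t (σ a) with hw
  have hvw : v = fun a => w a • ω (σ a) := by
    funext a
    simp only [hv, hw]
    by_cases h : a.val < J.card
    · rw [dif_pos h, if_pos h, one_smul, hσ, sig_pos J K.val hKc hJK a h]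
    · rw [dif_neg h, if_neg h, hι]
  have hgen : cprod c J e ⊗ₜ[B] exteriorPower.ιMulti B p v ∈ gensC c ω ι p := by
    refine ⟨J, (Finset.card_le_card hJK).trans_eq hKc, e, v, ?_, ?_, rfl⟩
    · intro k hk
      simp only [hv]
      rw [dif_pos hk]
    · intro k hk
      simp only [hv]
      rw [dif_neg (not_lt.mpr hk)]
      exact ⟨_, rfl⟩
  have h1 : exteriorPower.ιMulti B p v =
      (∏ i ∈ K.val \ J, t i) • exteriorPower.ιMulti B p (fun a => ω (σ a)) := by
    have := (exteriorPower.ιMulti B p (M := L)).toMultilinearMap.map_smul_univ w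
      (fun a => ω (σ a))
    rw [hvw, ← prod_sig J K.val hKc hJK t]
    exact this
  have h2 : exteriorPower.ιMulti B p (fun a => ω (σ a)) =
      Equiv.Perm.sign (sigPerm J K.val hKc hJK) • (ω.exteriorPower p K) := by
    rw [exteriorPower.basis_apply, exteriorPower.ιMulti_family, ← AlternatingMap.map_perm]
    congr 1
    funext a
    simp only [Function.comp_apply, ofFinEmbEquiv_symm_apply]
    rw [orderEmb_sigPerm]
  rcases Int.units_eq_one_or (Equiv.Perm.sign (sigPerm J K.val hKc hJK)) with hs | hs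
  · rw [hs, one_smul] at h2
    have h3 : ((∏ i ∈ K.val \ J, t i) • cprod c J e) ⊗ₜ[B] (ω.exteriorPower p K) =
        cprod c J e ⊗ₜ[B] exteriorPower.ιMulti B p v := by
      rw [h1, h2, TensorProduct.smul_tmul]
    rw [h3]
    exact Submodule.subset_span hgen
  · rw [hs, Units.neg_smul, one_smul] at h2
    have h3 : ((∏ i ∈ K.val \ J, t i) • cprod c J e) ⊗ₜ[B] (ω.exteriorPower p K) =
        -(cprod c J e ⊗ₜ[B] exteriorPower.ιMulti B p v) := by
      rw [h1, h2, TensorProduct.smul_tmul, smul_neg, TensorProduct.tmul_neg, neg_neg]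
    rw [h3]
    exact Submodule.neg_mem _ (Submodule.subset_span hgen)

include hι in
theorem lay_le_span_gensC (p : ℕ) :
    lay c t ω p ≤ (Submodule.span B (gensC c ω ι p)).restrictScalars A := by
  intro x hx
  rw [mem_lay] at hx
  rw [sum_coordE ω p x]
  refine Submodule.sum_mem _ fun K _ => ?_
  have : pc c t K.val ≤ ((Submodule.span B (gensC c ω ι p)).restrictScalars A).comap
      (((TensorProduct.mk B E ↥(⋀[B]^p L)).flip (ω.exteriorPower p K)).restrictScalars A) := by
    refine pc_le _ fun J hJ e => ?_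
    rw [Submodule.mem_comap]
    exact tmul_basis_mem_span ω ι hι K J hJ e
  exact this (hx K)

include hbΩ hι in
theorem span_gensC_eq_lay (h : Sys c ν t lam) (p : ℕ) :
    (Submodule.span B (gensC c ω ι p)).restrictScalars A = lay c t ω p :=
  le_antisymm (fun _ hx => span_gensC_le bΩ hbΩ ω ι hι h p hx) (lay_le_span_gensC ω ι hι p)

end gens

section concrete2
variable {A : Type v} {B L E : Type u} [CommRing A] [CommRing B] [Algebra A B]
  [AddCommGroup L] [Module B L] [Module A L] [IsScalarTower A B L]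
  [AddCommGroup E] [Module B E] [Module A E] [IsScalarTower A B E]

theorem layer_eq (nabla : E →ₗ[A] E ⊗[B] L) {n : ℕ} (ω : Module.Basis (Fin n) B L)
    (t : Fin n → B) (p : ℕ) :
    LogConn.layer nabla ω t p = lay (LogConn.comp nabla ω) t ω p := rfl

theorem gens_eq (nabla : E →ₗ[A] E ⊗[B] L) {n : ℕ} (ω : Module.Basis (Fin n) B L)
    (ι : KaehlerDifferential A B →ₗ[B] L) (p : ℕ) :
    LogConn.gens nabla ω ι p = gensC (LogConn.comp nabla ω) ω ι p := rfl

end concrete2

end Groth.Agent.LogPiece9
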