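import Mathlib
import Groth.Prelude.Def_W4swconnpcurvhiggsLogLam
import Groth.Prelude.Def_LogDiff
import Groth.Agent.Lib.LogPiece2_helper9

/-! Flat logarithmic λ-connections: commutation of the components, `∇^p` maps layer to layer
(helper9). -/

namespace Groth.Agent.LogPiece9

open TensorProduct Set.powersetCard

universe v u

section comm
variable {A : Type v} {B E : Type u} [CommRing A] [CommRing B] [Algebra A B]
  [AddCommGroup E] [Module B E] [Module A E] [IsScalarTower A B E] {n : ℕ}
  {c : Fin n → (E →ₗ[A] E)} {ν : Fin n → Derivation A B B} {t : Fin n → B} {lam : B}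

omit [Algebra A B] [Module B E] [IsScalarTower A B E] in
theorem cprod_insert' (hcomm : ∀ i j, c i ∘ₗ c j = c j ∘ₗ c i) :
    ∀ (J : Finset (Fin n)) (i : Fin n), i ∉ J → cprod c (insert i J) = c i ∘ₗ cprod c J := by
  intro J
  induction J using Finset.induction_on_min with
  | empty => intro i _; exact cprod_insert (fun j hj => absurd hj (Finset.notMem_empty j))
  | insert a J ha ih =>
    intro i hi
    have hia : i ≠ a := fun h => hi (h ▸ Finset.mem_insert_self _ _)
    have hiJ : i ∉ J := fun h => hi (Finset.mem_insert_of_mem h)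
    rcases lt_or_gt_of_ne hia with h | h
    · refine cprod_insert (fun j hj => ?_)
      rcases Finset.mem_insert.mp hj with rfl | hj
      · exact h
      · exact h.trans (ha j hj)
    · have h1 : ∀ j ∈ insert i J, a < j := by
        intro j hj
        rcases Finset.mem_insert.mp hj with rfl | hj
        · exact h
        · exact ha j hj
      rw [Finset.insert_comm, cprod_insert h1, ih i hiJ, cprod_insert ha, ← LinearMap.comp_assoc,
        hcomm a i, LinearMap.comp_assoc]

theorem c_mem_insert' (h : Sys c ν t lam) (hcomm : ∀ i j, c i ∘ₗ c j = c j ∘ₗ c i)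
    {i : Fin n} {J : Finset (Fin n)} (hiJ : i ∉ J)
    {x : E} (hx : x ∈ pc c t J) : c i x ∈ pc c t (insert i J) := by
  have : pc c t J ≤ (pc c t (insert i J)).comap (c i) := by
    refine pc_le _ fun K hK e => ?_
    rw [Submodule.mem_comap, c_smul_prod h i _ (fun hh => hiJ (Finset.mem_sdiff.mp hh).1)]
    have e1 : c i (cprod c K e) = cprod c (insert i K) e := by
      rw [cprod_insert' hcomm K i (fun hh => hiJ (hK hh))]
      rfl
    have e2 : J \ K = insert i J \ insert i K := by
      ext x
      simp only [Finset.mem_sdiff, Finset.mem_insert]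
      constructor
      · rintro ⟨h1, h2⟩
        exact ⟨Or.inr h1, fun h3 => h3.elim (fun h4 => hiJ (h4 ▸ h1)) h2⟩
      · rintro ⟨h1, h2⟩
        exact ⟨h1.elim (fun h3 => absurd (Or.inl h3) h2) id, fun h3 => h2 (Or.inr h3)⟩
    rw [e1, e2]
    exact mem_pc (Finset.insert_subset_insert i hK) e
  exact this hx

end comm

section wedge
variable {B L : Type u} [CommRing B] [AddCommGroup L] [Module B L]

theorem wedge_ιMulti (p : ℕ) (l : L) (v : Fin p → L) :
    Conn.wedge p ((exteriorPower.oneEquiv B L).symm l) (exteriorPower.ιMulti B p v) =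
      exteriorPower.ιMulti B (p + 1) (Fin.cons l v) := by
  apply Subtype.ext
  rw [Conn.wedge_apply_coe, exteriorPower.oneEquiv_symm_apply, exteriorPower.ιMulti_apply_coe,
    exteriorPower.ιMulti_apply_coe, exteriorPower.ιMulti_apply_coe,
    ExteriorAlgebra.ιMulti_succ_apply, ExteriorAlgebra.ιMulti_succ_apply,
    ExteriorAlgebra.ιMulti_zero_apply, mul_one]
  congr 2

end wedge

section nablas
variable {A : Type v} {B L E : Type u} [CommRing A] [CommRing B] [Algebra A B]
  [AddCommGroup L] [Module B L] [Module A L] [IsScalarTower A B L]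
  [AddCommGroup E] [Module B E] [Module A E] [IsScalarTower A B E] {n : ℕ}

omit [Module A L] [IsScalarTower A B L] in
/-- basis expansion in `E ⊗ L`. -/
theorem sum_comp (nabla : E →ₗ[A] E ⊗[B] L) (ω : Module.Basis (Fin n) B L) (m : E) :
    nabla m = ∑ i, (LogConn.comp nabla ω i m) ⊗ₜ[B] ω i := by
  have key : ∀ y : E ⊗[B] L, y = ∑ i,
      (TensorProduct.rid B E (TensorProduct.map LinearMap.id (ω.coord i) y)) ⊗ₜ[B] ω i := by
    intro y
    induction y using TensorProduct.induction_on with
    | zero => simp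
    | tmul e l =>
      simp only [TensorProduct.map_tmul, LinearMap.id_apply, TensorProduct.rid_tmul]
      conv_lhs => rw [← ω.sum_repr l, TensorProduct.tmul_sum]
      refine Finset.sum_congr rfl fun i _ => ?_
      rw [TensorProduct.tmul_smul, TensorProduct.smul_tmul']
      rfl
    | add x y hx hy =>
      conv_lhs => rw [hx, hy]
      rw [← Finset.sum_add_distrib]
      refine Finset.sum_congr rfl fun i _ => ?_
      rw [map_add, map_add, TensorProduct.add_tmul]
  exact key (nabla m)

variable (lam : B) (ω : Module.Basis (Fin n) B L) (ι : KaehlerDifferential A B →ₗ[B] L)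
    (nabla : E →ₗ[A] E ⊗[B] L)
    (d : ∀ p : ℕ, ↥(⋀[B]^p L) →ₗ[A] ↥(⋀[B]^(p + 1) L))
    (hd : LogDiff.IsLogRule (KaehlerDifferential.D A B) ι (⇑ω) d)
    (nablas : ∀ p : ℕ, E ⊗[B] ↥(⋀[B]^p L) →ₗ[A] E ⊗[B] ↥(⋀[B]^(p + 1) L))
    (hrule : Conn.IsCxRule nabla (fun p => lam • d p) nablas)

include hd in
theorem d_basis_zero (p : ℕ) (f : Fin p → Fin n) :
    d p (exteriorPower.ιMulti B p (fun a => ω (f a))) = 0 := by
  have h := hd p 1 (fun a => ω (f a)) (fun k => Or.inr ⟨f k, rfl⟩)
  rw [one_smul] at h
  rw [h]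
  refine AlternatingMap.map_coord_zero _ 0 ?_
  simp

include hd hrule in
theorem nablas_basis (p : ℕ) (f : Fin p → Fin n) (m : E) :
    nablas p (m ⊗ₜ[B] exteriorPower.ιMulti B p (fun a => ω (f a))) =
      ∑ i, (LogConn.comp nabla ω i m) ⊗ₜ[B]
        exteriorPower.ιMulti B (p + 1) (Fin.cons (ω i) (fun a => ω (f a))) := by
  rw [hrule p m, LinearMap.smul_apply, d_basis_zero ω ι d hd p f, smul_zero,
    TensorProduct.tmul_zero, add_zero, sum_comp nabla ω m, map_sum, map_sum, LinearMap.sum_apply]
  refine Finset.sum_congr rfl fun i _ => ?_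
  rw [Conn.toOne_tmul, Conn.twedge_tmul, wedge_ιMulti]

omit [Algebra A B] [Module A L] [IsScalarTower A B L] [Module A E] [IsScalarTower A B E] in
theorem sum_sum_delta (g : Fin n → Fin n → E) (a b : Fin n) :
    ∑ x, ∑ i, (((if i = a then (1 : B) else 0) * (if x = b then (1 : B) else 0)) • g i x) =
      g a b := by
  classical
  rw [Finset.sum_eq_single b, Finset.sum_eq_single a]
  · simp
  · intro i _ hi
    simp [hi]
  · intro h; exact absurd (Finset.mem_univ a) h
  · intro x _ hx
    simp [hx]
  · intro h; exact absurd (Finset.mem_univ b) h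

include hd hrule in
theorem comp_comm (hflat : ∀ m : E, nablas 1 (Conn.toOne (nabla m)) = 0) (a b : Fin n) :
    LogConn.comp nabla ω a ∘ₗ LogConn.comp nabla ω b =
      LogConn.comp nabla ω b ∘ₗ LogConn.comp nabla ω a := by
  classical
  ext m
  have h0 := hflat m
  have h1 : Conn.toOne (nabla m) = ∑ j, (LogConn.comp nabla ω j m) ⊗ₜ[B]
      exteriorPower.ιMulti B 1 (fun _ : Fin 1 => ω ((fun _ : Fin 1 => j) 0)) := by
    rw [sum_comp nabla ω m, map_sum]
    refine Finset.sum_congr rfl fun j _ => ?_
    rw [Conn.toOne_tmul, exteriorPower.oneEquiv_symm_apply]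
  rw [h1, map_sum] at h0
  simp_rw [nablas_basis lam ω ι nabla d hd nablas hrule 1 (fun _ : Fin 1 => _)] at h0
  set Λ : Module.Dual B ↥(⋀[B]^2 L) :=
    exteriorPower.pairingDual B L 2 (exteriorPower.ιMulti B 2 ![ω.coord a, ω.coord b]) with hΛ
  have h2 := congrArg (fun z => TensorProduct.rid B E (TensorProduct.map LinearMap.id Λ z)) h0
  simp only [map_sum, TensorProduct.map_tmul, LinearMap.id_apply, TensorProduct.rid_tmul,
    map_zero] at h2
  have h3 : ∀ i j : Fin n, Λ (exteriorPower.ιMulti B 2 (Fin.cons (ω i) (fun _ : Fin 1 => ω j))) =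
      (if i = a then 1 else 0) * (if j = b then 1 else 0) -
        (if i = b then 1 else 0) * (if j = a then 1 else 0) := by
    intro i j
    rw [hΛ, exteriorPower.pairingDual_ιMulti_ιMulti, Matrix.det_fin_two]
    simp only [Matrix.of_apply, Matrix.cons_val_zero, Matrix.cons_val_one, Fin.cons_zero]
    have e1 : (Fin.cons (ω i) (fun _ : Fin 1 => ω j) : Fin 2 → L) 1 = ω j := rfl
    rw [e1, coord_basis, coord_basis, coord_basis, coord_basis]
  simp only [h3, sub_smul, Finset.sum_sub_distrib] at h2
  rw [sum_sum_delta (B := B) (fun i x => LogConn.comp nabla ω i (LogConn.comp nabla ω x m)) a b,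
    sum_sum_delta (B := B) (fun i x => LogConn.comp nabla ω i (LogConn.comp nabla ω x m)) b a]
    at h2
  rw [LinearMap.comp_apply, LinearMap.comp_apply]
  exact sub_eq_zero.mp h2

end nablas

section main
variable {A : Type v} {B L E : Type u} [CommRing A] [CommRing B] [Algebra A B]
  [AddCommGroup L] [Module B L] [Module A L] [IsScalarTower A B L]
  [AddCommGroup E] [Module B E] [Module A E] [IsScalarTower A B E]

theorem nablas_mem_layer (lam : B) {n : ℕ} (t : Fin n → B)
    (bΩ : Module.Basis (Fin n) B (KaehlerDifferential A B))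
    (hbΩ : ∀ i, bΩ i = KaehlerDifferential.D A B (t i))
    (ω : Module.Basis (Fin n) B L) (ι : KaehlerDifferential A B →ₗ[B] L)
    (hι : ∀ i, ι (KaehlerDifferential.D A B (t i)) = t i • ω i)
    (nabla : E →ₗ[A] E ⊗[B] L)
    (hc : Conn.IsLamConn (ι.compDer (KaehlerDifferential.D A B)) lam nabla)
    (d : ∀ p : ℕ, ↥(⋀[B]^p L) →ₗ[A] ↥(⋀[B]^(p + 1) L))
    (hd : LogDiff.IsLogRule (KaehlerDifferential.D A B) ι (⇑ω) d)
    (nablas : ∀ p : ℕ, E ⊗[B] ↥(⋀[B]^p L) →ₗ[A] E ⊗[B] ↥(⋀[B]^(p + 1) L))
    (hint : Conn.IsIntegrable nabla (fun p => lam • d p) nablas)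
    (p : ℕ) (x : E ⊗[B] ↥(⋀[B]^p L)) (hx : x ∈ LogConn.layer nabla ω t p) :
    nablas p x ∈ LogConn.layer nabla ω t (p + 1) := by
  classical
  have hs := sys lam t bΩ hbΩ ω ι hι nabla hc
  have hcomm := comp_comm lam ω ι nabla d hd nablas hint.1 hint.2
  rw [layer_eq] at hx ⊢
  rw [mem_lay] at hx
  rw [sum_coordE ω p x, map_sum]
  refine Submodule.sum_mem _ fun K _ => ?_
  have hKc : K.val.card = p := K.prop
  have hb : (ω.exteriorPower p K) = exteriorPower.ιMulti B p
      (fun a => ω (Finset.orderEmbOfFin K.val hKc a)) := by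
    rw [exteriorPower.basis_apply]
    rfl
  rw [hb, nablas_basis lam ω ι nabla d hd nablas hint.1 p]
  refine Submodule.sum_mem _ fun i _ => ?_
  set xK := LogConn.coordE (E := E) ω p K x with hxK
  by_cases hiK : i ∈ K.val
  · -- repeated vector
    have hiK' : i ∈ Set.range (Finset.orderEmbOfFin K.val hKc) := by
      rw [Finset.range_orderEmbOfFin]; exact hiK
    obtain ⟨j, hj⟩ := hiK'
    have hz : exteriorPower.ιMulti B (p + 1)
        (Fin.cons (ω i) (fun a => ω (Finset.orderEmbOfFin K.val hKc a))) = 0 := by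
      refine AlternatingMap.map_eq_zero_of_eq _ _ (i := 0) (j := j.succ) ?_ (Fin.succ_ne_zero j).symm
      rw [Fin.cons_zero, Fin.cons_succ, hj]
    rw [hz, TensorProduct.tmul_zero]
    exact Submodule.zero_mem _
  · refine tmul_mem_lay bΩ hbΩ ω ι hι hs _ Finset.univ (insert i K.val) ?_ ?_ ?_ _ ?_
    · intro a _
      refine Fin.cases ?_ (fun j => ?_) a
      · exact ⟨i, Finset.mem_insert_self _ _, by rw [Fin.cons_zero]⟩
      · exact ⟨_, Finset.mem_insert_of_mem (Finset.orderEmbOfFin_mem _ _ j), by rw [Fin.cons_succ]⟩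
    · intro k hk
      rcases Finset.mem_insert.mp hk with rfl | hk
      · exact ⟨0, Finset.mem_univ _, by rw [Fin.cons_zero]⟩
      · have hk' : k ∈ Set.range (Finset.orderEmbOfFin K.val hKc) := by
          rw [Finset.range_orderEmbOfFin]; exact hk
        obtain ⟨j, rfl⟩ := hk'
        exact ⟨j.succ, Finset.mem_univ _, by rw [Fin.cons_succ]⟩
    · intro a ha
      exact absurd (Finset.mem_univ a) ha
    · intro K' hK'
      have hK'c : K'.val.card = p + 1 := K'.prop
      have heq : insert i K.val = K'.val := by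
        refine Finset.eq_of_subset_of_card_le hK' ?_
        rw [hK'c, Finset.card_insert_of_notMem hiK, hKc]
      rw [← heq, Finset.sdiff_self, Finset.prod_empty, one_smul]
      exact c_mem_insert' hs hcomm hiK (hx K)

end main

end Groth.Agent.LogPiece9
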