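import Mathlib
import Groth.Prelude.Def_W4swconnpcurvhiggsLogLam
import Groth.Prelude.Def_LogDiff
import Groth.Agent.Lib.LogPiece3_helper9

/-! Flat logarithmic λ-connections: independence of the pieces and layers of a unit change of
coordinates (helper9). -/

namespace Groth.Agent.LogPiece9

open TensorProduct Set.powersetCard

universe v u

section abs
variable {A : Type v} {B E : Type u} [CommRing A] [CommRing B] [Algebra A B]
  [AddCommGroup E] [Module B E] [Module A E] [IsScalarTower A B E] {n : ℕ}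
  {c : Fin n → (E →ₗ[A] E)} {ν : Fin n → Derivation A B B} {t : Fin n → B} {lam : B}

omit [Algebra A B] [Module B E] [IsScalarTower A B E] in
theorem comm_cprod (hcomm : ∀ i j, c i ∘ₗ c j = c j ∘ₗ c i) (j : Fin n) :
    ∀ J : Finset (Fin n), c j ∘ₗ cprod c J = cprod c J ∘ₗ c j := by
  intro J
  induction J using Finset.induction_on_min with
  | empty => rw [cprod_empty, LinearMap.comp_id, LinearMap.id_comp]
  | insert a J ha ih =>
    rw [cprod_insert ha, ← LinearMap.comp_assoc, hcomm j a, LinearMap.comp_assoc, ih,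
      LinearMap.comp_assoc]

omit [Algebra A B] [Module B E] [IsScalarTower A B E] in
theorem cprod_union (hcomm : ∀ i j, c i ∘ₗ c j = c j ∘ₗ c i) (J₂ : Finset (Fin n)) :
    ∀ J₁ : Finset (Fin n), Disjoint J₁ J₂ → cprod c (J₁ ∪ J₂) = cprod c J₁ ∘ₗ cprod c J₂ := by
  intro J₁
  induction J₁ using Finset.induction_on with
  | empty => intro _; rw [Finset.empty_union, cprod_empty, LinearMap.id_comp]
  | insert i J hi ih =>
    intro hd
    have hd' : Disjoint J J₂ := Finset.disjoint_of_subset_left (Finset.subset_insert i J) hd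
    have hi2 : i ∉ J ∪ J₂ := by
      intro h
      rcases Finset.mem_union.mp h with h | h
      · exact hi h
      · exact Finset.disjoint_left.mp hd (Finset.mem_insert_self i J) h
    rw [Finset.insert_union, cprod_insert' hcomm _ i hi2, ih hd', cprod_insert' hcomm _ i hi,
      LinearMap.comp_assoc]

theorem nu_prod' (h : Sys c ν t lam) (j : Fin n) (S : Finset (Fin n)) :
    t j * ν j (∏ k ∈ S, t k) = (if j ∈ S then lam else 0) * ∏ k ∈ S, t k := by
  classical
  by_cases hj : j ∈ S
  · rw [if_pos hj, ← Finset.insert_erase hj, Finset.prod_insert (Finset.notMem_erase j S),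
      Derivation.leibniz, nu_prod h j _ (Finset.notMem_erase j S), h.nu_t, if_pos rfl]
    simp only [smul_eq_mul, mul_zero, zero_add]
    ring
  · rw [if_neg hj, nu_prod h j S hj, mul_zero, zero_mul]

/-- with commuting components, each piece is stable under every component. -/
theorem c_mem_pc (h : Sys c ν t lam) (hcomm : ∀ i j, c i ∘ₗ c j = c j ∘ₗ c i) (j : Fin n)
    {K : Finset (Fin n)} {x : E} (hx : x ∈ pc c t K) : c j x ∈ pc c t K := by
  have : pc c t K ≤ (pc c t K).comap (c j) := by
    refine pc_le _ fun J hJ e => ?_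
    rw [Submodule.mem_comap, h.leib, nu_prod' h, mul_smul]
    refine Submodule.add_mem _ ?_ (smul_mem_pc h K _ (mem_pc hJ e))
    have e1 : c j (cprod c J e) = cprod c J (c j e) := LinearMap.congr_fun (comm_cprod hcomm j J) e
    rw [e1]
    exact mem_pc hJ _
  exact this hx

/-- `pc I ≤ pc S'` for `S' ⊆ I`, with commuting components. -/
theorem pc_anti (h : Sys c ν t lam) (hcomm : ∀ i j, c i ∘ₗ c j = c j ∘ₗ c i)
    {I S' : Finset (Fin n)} (hS : S' ⊆ I) : pc c t I ≤ pc c t S' := by
  classical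
  refine pc_le _ fun J hJ e => ?_
  have hJ2 : J = (J ∩ S') ∪ (J \ S') := by
    rw [Finset.union_comm]; exact (Finset.sdiff_union_inter J S').symm
  have hdisj : Disjoint (J ∩ S') (J \ S') := by
    rw [Finset.disjoint_left]
    intro x h1 h2
    exact (Finset.mem_sdiff.mp h2).2 (Finset.mem_inter.mp h1).2
  have e1 : cprod c J e = cprod c (J ∩ S') (cprod c (J \ S') e) := by
    conv_lhs => rw [hJ2, cprod_union hcomm _ _ hdisj]
    rfl
  have e2 : (∏ i ∈ I \ J, t i) = (∏ i ∈ (I \ J) \ S', t i) * ∏ i ∈ S' \ (J ∩ S'), t i := by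
    rw [← Finset.prod_union]
    · congr 1
      ext x
      simp only [Finset.mem_union, Finset.mem_sdiff, Finset.mem_inter]
      constructor
      · rintro ⟨h1, h2⟩
        by_cases hx : x ∈ S'
        · exact Or.inr ⟨hx, fun h3 => h2 h3.1⟩
        · exact Or.inl ⟨⟨h1, h2⟩, hx⟩
      · rintro (⟨⟨h1, h2⟩, _⟩ | ⟨h1, h2⟩)
        · exact ⟨h1, h2⟩
        · exact ⟨hS h1, fun h3 => h2 ⟨h3, h1⟩⟩
    · rw [Finset.disjoint_left]
      intro x h1 h2
      exact (Finset.mem_sdiff.mp h1).2 (Finset.mem_sdiff.mp h2).1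
  rw [e1, e2, mul_smul]
  exact smul_mem_pc h S' _ (mem_pc Finset.inter_subset_right _)

/-- the operation `F ↦ t i F + c i F`. -/
noncomputable def Phi (c : Fin n → (E →ₗ[A] E)) (t : Fin n → B) (i : Fin n) (F : Submodule A E) :
    Submodule A E :=
  F.map ((LinearMap.lsmul B E (t i)).restrictScalars A) ⊔ F.map (c i)

theorem pc_insert_eq_Phi (h : Sys c ν t lam) {i : Fin n} {J : Finset (Fin n)}
    (hi : ∀ j ∈ J, i < j) : pc c t (insert i J) = Phi c t i (pc c t J) := by
  classical
  have hiJ : i ∉ J := fun hh => lt_irrefl _ (hi i hh)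
  have e3 : insert i J \ J = {i} := by
    ext x
    simp only [Finset.mem_sdiff, Finset.mem_insert, Finset.mem_singleton]
    constructor
    · rintro ⟨h1, h2⟩
      exact h1.elim id (fun h3 => absurd h3 h2)
    · rintro rfl
      exact ⟨Or.inl rfl, hiJ⟩
  apply le_antisymm
  · refine pc_le _ fun K hK e => ?_
    by_cases hiK : i ∈ K
    · -- K = insert i K'
      have hK' : K.erase i ⊆ J := by
        intro x hx
        have := hK (Finset.mem_of_mem_erase hx)
        rcases Finset.mem_insert.mp this with rfl | h1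
        · exact absurd rfl (Finset.ne_of_mem_erase hx)
        · exact h1
      have eK : K = insert i (K.erase i) := (Finset.insert_erase hiK).symm
      have e1 : cprod c K e = c i (cprod c (K.erase i) e) := by
        conv_lhs => rw [eK, cprod_insert (fun j hj => hi j (hK' hj))]
        rfl
      have e2 : insert i J \ K = J \ K.erase i := by
        ext x
        simp only [Finset.mem_sdiff, Finset.mem_insert, Finset.mem_erase]
        constructor
        · rintro ⟨h1, h2⟩
          rcases h1 with rfl | h1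
          · exact absurd hiK h2
          · exact ⟨h1, fun h3 => h2 h3.2⟩
        · rintro ⟨h1, h2⟩
          exact ⟨Or.inr h1, fun h3 => h2 ⟨fun h4 => hiJ (h4 ▸ h1), h3⟩⟩
      rw [e1, e2, ← c_smul_prod h i _ (fun hh => hiJ (Finset.mem_sdiff.mp hh).1)]
      exact Submodule.mem_sup_right (Submodule.mem_map_of_mem (mem_pc hK' e))
    · have hK' : K ⊆ J := by
        intro x hx
        rcases Finset.mem_insert.mp (hK hx) with rfl | h1
        · exact absurd hx hiK
        · exact h1
      have e2 : insert i J \ K = insert i (J \ K) := by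
        ext x
        simp only [Finset.mem_sdiff, Finset.mem_insert]
        constructor
        · rintro ⟨h1, h2⟩
          rcases h1 with rfl | h1
          · exact Or.inl rfl
          · exact Or.inr ⟨h1, h2⟩
        · rintro (rfl | ⟨h1, h2⟩)
          · exact ⟨Or.inl rfl, hiK⟩
          · exact ⟨Or.inr h1, h2⟩
      rw [e2, Finset.prod_insert (fun hh => hiJ (Finset.mem_sdiff.mp hh).1), mul_smul]
      exact Submodule.mem_sup_left (Submodule.mem_map_of_mem (mem_pc hK' e))
  · refine sup_le ?_ ?_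
    · rintro _ ⟨x, hx, rfl⟩
      have := prod_smul_mem (c := c) (t := t) (Finset.subset_insert i J) hx
      rw [e3, Finset.prod_singleton] at this
      exact this
    · rintro _ ⟨x, hx, rfl⟩
      exact c_mem_insert h hi hx

theorem pc_empty : pc c t (∅ : Finset (Fin n)) = ⊤ := by
  rw [eq_top_iff]
  intro x _
  have := mem_pc (c := c) (t := t) (Finset.Subset.refl (∅ : Finset (Fin n))) x
  simpa [cprod_empty] using this

theorem pcB_restrict (h : Sys c ν t lam) (I : Finset (Fin n)) :
    (pcB h I).restrictScalars A = pc c t I :=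
  Submodule.ext fun _ => Iff.rfl

end abs

section two
variable {A : Type v} {B E : Type u} [CommRing A] [CommRing B] [Algebra A B]
  [AddCommGroup E] [Module B E] [Module A E] [IsScalarTower A B E] {n : ℕ}
  {c c' : Fin n → (E →ₗ[A] E)} {ν ν' : Fin n → Derivation A B B} {t t' : Fin n → B} {lam : B}
  (u : Fin n → Bˣ) (ht' : ∀ i, t' i = (u i : B) * t i)
  (a a' : Fin n → Fin n → B)
  (R1 : ∀ (j : Fin n) (e : E), c j e = c' j e + t j • ∑ i, a i j • c' i e)
  (R2 : ∀ (j : Fin n) (e : E), c' j e = c j e - t' j • ∑ i, a' i j • c i e)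

include R2 in
omit [Algebra A B] [IsScalarTower A B E] in
theorem c'_mem (F : Submodule B E) (hF : ∀ j, ∀ f ∈ F, c j f ∈ F) (j : Fin n) {f : E}
    (hf : f ∈ F) : c' j f ∈ F := by
  rw [R2]
  refine F.sub_mem (hF j f hf) (F.smul_mem _ (F.sum_mem fun i _ => F.smul_mem _ (hF i f hf)))

include ht' R1 R2 in
theorem Phi_eq (F : Submodule B E) (hF : ∀ j, ∀ f ∈ F, c j f ∈ F) (i : Fin n) :
    Phi c' t' i (F.restrictScalars A) = Phi c t i (F.restrictScalars A) := by
  apply le_antisymm
  · refine sup_le ?_ ?_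
    · rintro _ ⟨f, hf, rfl⟩
      refine Submodule.mem_sup_left ⟨(u i : B) • f, F.smul_mem _ hf, ?_⟩
      simp only [LinearMap.restrictScalars_apply, LinearMap.lsmul_apply]
      rw [ht', smul_smul, mul_comm]
    · rintro _ ⟨f, hf, rfl⟩
      have hg : ∑ k, a' k i • c k f ∈ F := F.sum_mem fun k _ => F.smul_mem _ (hF k f hf)
      rw [R2, sub_eq_add_neg, add_comm]
      refine Submodule.add_mem _ (Submodule.mem_sup_left
        ⟨-((u i : B) • ∑ k, a' k i • c k f), F.neg_mem (F.smul_mem _ hg), ?_⟩)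
        (Submodule.mem_sup_right ⟨f, hf, rfl⟩)
      simp only [LinearMap.restrictScalars_apply, LinearMap.lsmul_apply]
      rw [ht', smul_neg, smul_smul, mul_comm]
  · refine sup_le ?_ ?_
    · rintro _ ⟨f, hf, rfl⟩
      refine Submodule.mem_sup_left ⟨((u i)⁻¹ : Bˣ).val • f, F.smul_mem _ hf, ?_⟩
      simp only [LinearMap.restrictScalars_apply, LinearMap.lsmul_apply]
      rw [ht', smul_smul, mul_right_comm, Units.mul_inv, one_mul]
    · rintro _ ⟨f, hf, rfl⟩
      have hg : ∑ k, a k i • c' k f ∈ F :=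
        F.sum_mem fun k _ => F.smul_mem _ (c'_mem a' R2 F hF k hf)
      rw [R1, add_comm]
      refine Submodule.add_mem _ (Submodule.mem_sup_left
        ⟨((u i)⁻¹ : Bˣ).val • ∑ k, a k i • c' k f, F.smul_mem _ hg, ?_⟩)
        (Submodule.mem_sup_right ⟨f, hf, rfl⟩)
      simp only [LinearMap.restrictScalars_apply, LinearMap.lsmul_apply]
      rw [ht', smul_smul, mul_right_comm, Units.mul_inv, one_mul]

include ht' R1 R2 in
theorem pc_eq (h : Sys c ν t lam) (h' : Sys c' ν' t' lam)
    (hcomm : ∀ i j, c i ∘ₗ c j = c j ∘ₗ c i) :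
    ∀ K : Finset (Fin n), pc c' t' K = pc c t K := by
  intro K
  induction K using Finset.induction_on_min with
  | empty => rw [pc_empty, pc_empty]
  | insert i J hi ih =>
    rw [pc_insert_eq_Phi h' hi, ih, pc_insert_eq_Phi h hi, ← pcB_restrict h J]
    exact Phi_eq u ht' a a' R1 R2 (pcB h J) (fun j f hf => c_mem_pc h hcomm j hf) i

end two

section addlem
variable {A : Type v} {B L E : Type u} [CommRing A] [CommRing B] [Algebra A B]
  [AddCommGroup L] [Module B L] [Module A L] [IsScalarTower A B L]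
  [AddCommGroup E] [Module B E] [Module A E] [IsScalarTower A B E] {n : ℕ}
  {c : Fin n → (E →ₗ[A] E)} {ν : Fin n → Derivation A B B} {t : Fin n → B} {lam : B}
  (bΩ : Module.Basis (Fin n) B (KaehlerDifferential A B))
  (hbΩ : ∀ i, bΩ i = KaehlerDifferential.D A B (t i))
  (ω : Module.Basis (Fin n) B L) (ι : KaehlerDifferential A B →ₗ[B] L)
  (hι : ∀ i, ι (KaehlerDifferential.D A B (t i)) = t i • ω i)

include hbΩ hι in
theorem tmul_mem_lay_of_add (h : Sys c ν t lam)
    (hanti : ∀ I S' : Finset (Fin n), S' ⊆ I → pc c t I ≤ pc c t S')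
    {p : ℕ} (I : Finset (Fin n)) {x : E} (hx : x ∈ pc c t I)
    (v : Fin p → L) (η : Fin p → KaehlerDifferential A B)
    (hv1 : ∀ (a : Fin p) (ha : a.val < I.card),
      v a = ω (I.orderEmbOfFin rfl ⟨a.val, ha⟩) + ι (η a))
    (hv2 : ∀ a : Fin p, I.card ≤ a.val → v a ∈ LinearMap.range ι) :
    x ⊗ₜ[B] exteriorPower.ιMulti B p v ∈ lay c t ω p := by
  classical
  set m : Fin p → L := fun a => if ha : a.val < I.card then ω (I.orderEmbOfFin rfl ⟨a.val, ha⟩)
    else v a with hm
  set m' : Fin p → L := fun a => if a.val < I.card then ι (η a) else 0 with hm'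
  have hv : v = m + m' := by
    funext a
    simp only [Pi.add_apply, hm, hm']
    by_cases ha : a.val < I.card
    · rw [dif_pos ha, if_pos ha, hv1 a ha]
    · rw [dif_neg ha, if_neg ha, add_zero]
  have hsum := (exteriorPower.ιMulti B p (M := L)).toMultilinearMap.map_add_univ m m'
  have hsum' : exteriorPower.ιMulti B p v =
      ∑ s : Finset (Fin p), exteriorPower.ιMulti B p (s.piecewise m m') := by
    rw [hv]; exact hsum
  rw [hsum', TensorProduct.tmul_sum]
  refine Submodule.sum_mem _ fun s _ => ?_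
  set S : Finset (Fin p) := s.filter (fun a => a.val < I.card) with hS
  set S' : Finset (Fin n) := I.filter (fun k => ∃ a ∈ S, ∃ ha : a.val < I.card,
    I.orderEmbOfFin rfl ⟨a.val, ha⟩ = k) with hS'
  have hS'I : S' ⊆ I := Finset.filter_subset _ _
  refine tmul_mem_lay bΩ hbΩ ω ι hι h _ S S' ?_ ?_ ?_ x ?_
  · intro a ha
    have ha1 : a ∈ s := (Finset.mem_filter.mp ha).1
    have ha2 : a.val < I.card := (Finset.mem_filter.mp ha).2
    refine ⟨I.orderEmbOfFin rfl ⟨a.val, ha2⟩, ?_, ?_⟩
    · exact Finset.mem_filter.mpr ⟨Finset.orderEmbOfFin_mem _ _ _, a, ha, ha2, rfl⟩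
    · rw [Finset.piecewise_eq_of_mem _ _ _ ha1]
      simp only [hm]
      rw [dif_pos ha2]
  · intro k hk
    obtain ⟨a, ha, ha2, rfl⟩ := (Finset.mem_filter.mp hk).2
    have ha1 : a ∈ s := (Finset.mem_filter.mp ha).1
    refine ⟨a, ha, ?_⟩
    rw [Finset.piecewise_eq_of_mem _ _ _ ha1]
    simp only [hm]
    rw [dif_pos ha2]
  · intro a ha
    by_cases ha1 : a ∈ s
    · have ha2 : ¬ a.val < I.card := fun hh => ha (Finset.mem_filter.mpr ⟨ha1, hh⟩)
      rw [Finset.piecewise_eq_of_mem _ _ _ ha1]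
      simp only [hm]
      rw [dif_neg ha2]
      exact hv2 a (not_lt.mp ha2)
    · rw [Finset.piecewise_eq_of_notMem _ _ _ ha1]
      simp only [hm']
      by_cases ha2 : a.val < I.card
      · rw [if_pos ha2]; exact ⟨_, rfl⟩
      · rw [if_neg ha2]; exact Submodule.zero_mem _
  · intro K hK
    exact prod_smul_mem hK (hanti I S' hS'I hx)

end addlem

section change
variable {A : Type v} {B L E : Type u} [CommRing A] [CommRing B] [Algebra A B]
  [AddCommGroup L] [Module B L] [Module A L] [IsScalarTower A B L]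
  [AddCommGroup E] [Module B E] [Module A E] [IsScalarTower A B E] {n : ℕ}

omit [Module A L] [IsScalarTower A B L] in
theorem comp_change (nabla : E →ₗ[A] E ⊗[B] L) (ω ω₂ : Module.Basis (Fin n) B L) (j : Fin n)
    (e : E) :
    LogConn.comp nabla ω j e = ∑ i, (ω.coord j (ω₂ i)) • LogConn.comp nabla ω₂ i e := by
  rw [LogConn.comp, Conn.along_apply, sum_comp nabla ω₂ e, map_sum, map_sum]
  refine Finset.sum_congr rfl fun i _ => ?_
  rw [TensorProduct.map_tmul, TensorProduct.rid_tmul, LinearMap.id_apply]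

omit [Algebra A B] [Module A E] [IsScalarTower A B E] in
theorem sum_delta_add (j : Fin n) (x : Fin n → B) (y : Fin n → E) :
    ∑ i, ((if i = j then (1 : B) else 0) + x i) • y i = y j + ∑ i, x i • y i := by
  classical
  simp only [add_smul, Finset.sum_add_distrib, ite_smul, one_smul, zero_smul,
    Finset.sum_ite_eq', Finset.mem_univ, if_true]

theorem layer_change (lam : B) (t : Fin n → B)
    (bΩ : Module.Basis (Fin n) B (KaehlerDifferential A B))
    (hbΩ : ∀ i, bΩ i = KaehlerDifferential.D A B (t i))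
    (ω : Module.Basis (Fin n) B L) (ι : KaehlerDifferential A B →ₗ[B] L)
    (hι : ∀ i, ι (KaehlerDifferential.D A B (t i)) = t i • ω i)
    (nabla : E →ₗ[A] E ⊗[B] L)
    (hc : Conn.IsLamConn (ι.compDer (KaehlerDifferential.D A B)) lam nabla)
    (d : ∀ p : ℕ, ↥(⋀[B]^p L) →ₗ[A] ↥(⋀[B]^(p + 1) L))
    (hd : LogDiff.IsLogRule (KaehlerDifferential.D A B) ι (⇑ω) d)
    (nablas : ∀ p : ℕ, E ⊗[B] ↥(⋀[B]^p L) →ₗ[A] E ⊗[B] ↥(⋀[B]^(p + 1) L))
    (hint : Conn.IsIntegrable nabla (fun p => lam • d p) nablas)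
    (u : Fin n → Bˣ) (bΩ' : Module.Basis (Fin n) B (KaehlerDifferential A B))
    (hbΩ' : ∀ i, bΩ' i = KaehlerDifferential.D A B ((u i : B) * t i))
    (ω' : Module.Basis (Fin n) B L)
    (hω' : ∀ i, ω' i = ω i + ((u i)⁻¹ : Bˣ).val • ι (KaehlerDifferential.D A B (u i : B)))
    (p : ℕ) :
    LogConn.layer nabla ω t p = LogConn.layer nabla ω' (fun i => (u i : B) * t i) p := by
  classical
  set t' : Fin n → B := fun i => (u i : B) * t i with ht'
  have hι' : ∀ i, ι (KaehlerDifferential.D A B (t' i)) = t' i • ω' i := by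
    intro i
    simp only [ht']
    rw [Derivation.leibniz, map_add, map_smul, map_smul, hι, hω', smul_add, smul_smul, smul_smul,
      mul_right_comm, Units.mul_inv, one_mul]
  have hs := sys lam t bΩ hbΩ ω ι hι nabla hc
  have hs' := sys lam t' bΩ' hbΩ' ω' ι hι' nabla hc
  have hcomm := comp_comm lam ω ι nabla d hd nablas hint.1 hint.2
  -- the relations between the components
  have hcoord1 : ∀ i j : Fin n, ω.coord j (ω' i) = (if i = j then (1 : B) else 0) +
      t j * (((u i)⁻¹ : Bˣ).val * bΩ.repr (KaehlerDifferential.D A B (u i : B)) j) := by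
    intro i j
    rw [hω', map_add, map_smul, coord_basis, coord_iota t bΩ hbΩ ω ι hι, smul_eq_mul]
    ring
  have hω : ∀ i, ω i = ω' i - ((u i)⁻¹ : Bˣ).val • ι (KaehlerDifferential.D A B (u i : B)) := by
    intro i; rw [hω', add_sub_cancel_right]
  have hcoord2 : ∀ i j : Fin n, ω'.coord j (ω i) = (if i = j then (1 : B) else 0) +
      t' j * (-(((u i)⁻¹ : Bˣ).val * bΩ'.repr (KaehlerDifferential.D A B (u i : B)) j)) := by
    intro i j
    rw [hω, map_sub, map_smul, coord_basis, coord_iota t' bΩ' hbΩ' ω' ι hι', smul_eq_mul]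
    ring
  have R1 : ∀ (j : Fin n) (e : E), LogConn.comp nabla ω j e = LogConn.comp nabla ω' j e +
      t j • ∑ i, (((u i)⁻¹ : Bˣ).val * bΩ.repr (KaehlerDifferential.D A B (u i : B)) j) •
        LogConn.comp nabla ω' i e := by
    intro j e
    rw [comp_change nabla ω ω' j e]
    simp_rw [hcoord1]
    rw [sum_delta_add, Finset.smul_sum]
    congr 1
    refine Finset.sum_congr rfl fun i _ => ?_
    rw [mul_smul]
  have R2 : ∀ (j : Fin n) (e : E), LogConn.comp nabla ω' j e = LogConn.comp nabla ω j e -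
      t' j • ∑ i, (((u i)⁻¹ : Bˣ).val * bΩ'.repr (KaehlerDifferential.D A B (u i : B)) j) •
        LogConn.comp nabla ω i e := by
    intro j e
    rw [comp_change nabla ω' ω j e]
    simp_rw [hcoord2]
    rw [sum_delta_add, Finset.smul_sum, sub_eq_add_neg, ← Finset.sum_neg_distrib]
    congr 1
    refine Finset.sum_congr rfl fun i _ => ?_
    rw [mul_neg, neg_smul, mul_smul]
  have hpc : ∀ K : Finset (Fin n), pc (LogConn.comp nabla ω') t' K = pc (LogConn.comp nabla ω) t K :=
    pc_eq u (fun i => rfl) _ _ R1 R2 hs hs' hcomm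
  have hanti : ∀ I S' : Finset (Fin n), S' ⊆ I →
      pc (LogConn.comp nabla ω) t I ≤ pc (LogConn.comp nabla ω) t S' :=
    fun I S' hS => pc_anti hs hcomm hS
  have hanti' : ∀ I S' : Finset (Fin n), S' ⊆ I →
      pc (LogConn.comp nabla ω') t' I ≤ pc (LogConn.comp nabla ω') t' S' := by
    intro I S' hS
    rw [hpc, hpc]
    exact hanti I S' hS
  rw [layer_eq, layer_eq, ← span_gensC_eq_lay bΩ hbΩ ω ι hι hs p,
    ← span_gensC_eq_lay bΩ' hbΩ' ω' ι hι' hs' p]
  congr 1
  apply le_antisymm
  · refine Submodule.span_le.mpr ?_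
    rintro _ ⟨I, hI, e, v, hv1, hv2, rfl⟩
    have hmem : cprod (LogConn.comp nabla ω) I e ⊗ₜ[B] exteriorPower.ιMulti B p v ∈
        lay (LogConn.comp nabla ω') t' ω' p := by
      refine tmul_mem_lay_of_add bΩ' hbΩ' ω' ι hι' hs' hanti' I ?_ v
        (fun a => if ha : a.val < I.card then
          -(((u (I.orderEmbOfFin rfl ⟨a.val, ha⟩))⁻¹ : Bˣ).val •
            KaehlerDifferential.D A B (u (I.orderEmbOfFin rfl ⟨a.val, ha⟩) : B)) else 0) ?_ hv2
      · rw [hpc]
        have := mem_pc (c := LogConn.comp nabla ω) (t := t) (Finset.Subset.refl I) e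
        simpa using this
      · intro a ha
        rw [hv1 a ha, dif_pos ha, map_neg, map_smul, ← sub_eq_add_neg]
        exact hω _
    rw [← span_gensC_eq_lay bΩ' hbΩ' ω' ι hι' hs' p] at hmem
    exact hmem
  · refine Submodule.span_le.mpr ?_
    rintro _ ⟨I, hI, e, v, hv1, hv2, rfl⟩
    have hmem : cprod (LogConn.comp nabla ω') I e ⊗ₜ[B] exteriorPower.ιMulti B p v ∈
        lay (LogConn.comp nabla ω) t ω p := by
      refine tmul_mem_lay_of_add bΩ hbΩ ω ι hι hs hanti I ?_ v
        (fun a => if ha : a.val < I.card then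
          (((u (I.orderEmbOfFin rfl ⟨a.val, ha⟩))⁻¹ : Bˣ).val •
            KaehlerDifferential.D A B (u (I.orderEmbOfFin rfl ⟨a.val, ha⟩) : B)) else 0) ?_ hv2
      · rw [← hpc]
        have := mem_pc (c := LogConn.comp nabla ω') (t := t') (Finset.Subset.refl I) e
        simpa using this
      · intro a ha
        rw [hv1 a ha, dif_pos ha, map_smul]
        exact hω' _
    rw [← span_gensC_eq_lay bΩ hbΩ ω ι hι hs p] at hmem
    exact hmem

end change

end Groth.Agent.LogPiece9
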