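import Groth.Agent.Lib.AlgSpLocP4_helper7

/-!
# Locally quasi-finite morphisms of algebraic spaces and discrete fibres (helper7)

A morphism of algebraic spaces locally of finite type is locally quasi-finite iff its fibres over
field valued points have discrete spaces of points (S9955).
-/

set_option autoImplicit false
set_option linter.style.haveILetI false
universe u
open CategoryTheory CategoryTheory.Limits AlgebraicGeometry Opposite MorphismProperty
open AlgSp Groth.Agent.Lib.AlgSpQC2_helper7 Groth.Agent.Lib.AlgSpPoints_helper7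
  Groth.Agent.Lib.AlgSpQC_helper7 Groth.Agent.Lib.AlgSpDiag_helper7 Groth.Agent.Lib.AlgSpTop_helper7
  Groth.Agent.Lib.AlgSpPullback_helper7 Groth.Agent.Lib.AlgSpSep_helper7
  Groth.Agent.Lib.AlgSpLocP_helper7 Groth.Agent.Lib.AlgSpUniv_helper7
  Groth.Agent.Lib.AlgSpFpqc_helper7 Groth.Agent.Lib.AlgSpFpqc2_helper7
  Groth.Agent.Lib.AlgSpDescent_helper7 Groth.Agent.Lib.AlgSpEtale_helper7
  Groth.Agent.Lib.AlgSpLocP2_helper7 Groth.Agent.Lib.AlgSpEpi_helper7
  Groth.Agent.Lib.SchSrcLocal_helper7 Groth.Agent.Lib.AlgSpLocP4_helper7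

namespace Groth.Agent.Lib.LqfDiscreteFibresH7

variable {S : Scheme.{u}}

/-- A quasi-sober `T₁` space has Krull dimension `≤ 0`. -/
theorem topologicalKrullDim_le_zero_of_t1 (X : Type*) [TopologicalSpace X] [QuasiSober X]
    [T1Space X] : topologicalKrullDim X ≤ 0 := by
  refine Order.krullDim_nonpos_iff_forall_isMax.mpr fun Z Y h => (h.antisymm' fun w hw => ?_).le
  obtain ⟨x, hx⟩ := QuasiSober.sober Y.2 Y.3
  have hY : Y.carrier = {x} := by rw [← hx.def, closure_singleton]
  obtain ⟨z, hz⟩ := Z.2.nonempty
  have hzY : z ∈ Y.carrier := h hz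
  have hwY : w ∈ Y.carrier := hw
  rw [hY, Set.mem_singleton_iff] at hzY hwY
  show w ∈ Z.carrier
  rw [hwY, ← hzY]
  exact hz

/-- `lqf ⊓ lft` is étale local on the source-and-target. -/
theorem etLocal_lqf :
    EtLocal ((@LocallyQuasiFinite : MorphismProperty Scheme.{u}) ⊓ @LocallyOfFiniteType) where
  precomp := by
    intro W U V c h hc hh
    haveI : Etale c := hc
    haveI : LocallyQuasiFinite h := hh.1
    haveI : LocallyOfFiniteType h := hh.2
    haveI : LocallyQuasiFinite c := locallyQuasiFinite_of_unramified c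
    exact ⟨(inferInstance : LocallyQuasiFinite (c ≫ h)),
      (inferInstance : LocallyOfFiniteType (c ≫ h))⟩
  postcomp := by
    intro U V V' h e he hh
    haveI : Etale e := he
    haveI : LocallyQuasiFinite h := hh.1
    haveI : LocallyOfFiniteType h := hh.2
    haveI : LocallyQuasiFinite e := locallyQuasiFinite_of_unramified e
    exact ⟨(inferInstance : LocallyQuasiFinite (h ≫ e)),
      (inferInstance : LocallyOfFiniteType (h ≫ e))⟩
  src := by
    intro W U V c h hc hs hh
    haveI : Etale c := hc
    haveI : Surjective c := hs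
    haveI : LocallyQuasiFinite (c ≫ h) := hh.1
    haveI hlft : LocallyOfFiniteType h := etLocal_locallyOfFiniteType.src c h hc hs hh.2
    refine ⟨?_, hlft⟩
    rw [locallyQuasiFinite_iff_isDiscrete_preimage_singleton]
    intro y
    apply isDiscrete_of_preimage_of_isOpenMap c.isOpenMap c.surjective
    have e : c ⁻¹' (h ⁻¹' {y}) = (c ≫ h) ⁻¹' {y} := by
      ext x
      simp only [Set.mem_preimage, Set.mem_singleton_iff]
      rw [Scheme.Hom.comp_apply]
    rw [e]
    exact (c ≫ h).isDiscrete_preimage_singleton y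

/-- The étale chart of the fibre of `f` over a point of a chart of the target. -/
theorem exists_etale_fibre_chart {F G : Sp S} (f : F ⟶ G) {U V T : Over S}
    (a : (yon S).obj U ⟶ F) (b : (yon S).obj V ⟶ G) (h : U ⟶ V)
    (hae : RepWith @Etale a) (hbe : RepWith @Etale b) (comm : a ≫ f = (yon S).map h ≫ b)
    (t : T ⟶ V) (kh : (yon S).obj T ⟶ G) (hkh : kh = (yon S).map t ≫ b) :
    ∃ c : (yon S).obj (pullback h t) ⟶ pullback f kh, RepWith @Etale c := by
  subst hkh
  have sqP := IsPullback.of_hasPullback f b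
  have sqK := IsPullback.of_hasPullback f ((yon S).map t ≫ b)
  have sqt := (IsPullback.of_hasPullback h t).map (yon S)
  obtain ⟨aV, haV1, haV2⟩ : ∃ aV : (yon S).obj U ⟶ pullback f b,
      aV ≫ pullback.fst f b = a ∧ aV ≫ pullback.snd f b = (yon S).map h :=
    ⟨pullback.lift a ((yon S).map h) comm, pullback.lift_fst _ _ _, pullback.lift_snd _ _ _⟩
  have haVe : RepWith @Etale aV :=
    repWith_etale_of_comp aV (pullback.fst f b) (by rw [haV1]; exact hae)
      (repWith_fst_of_isPullback _ sqP hbe)
  obtain ⟨r, hr1, hr2⟩ : ∃ r : pullback f ((yon S).map t ≫ b) ⟶ pullback f b,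
      r ≫ pullback.fst f b = pullback.fst f ((yon S).map t ≫ b) ∧
      r ≫ pullback.snd f b = pullback.snd f ((yon S).map t ≫ b) ≫ (yon S).map t :=
    ⟨pullback.lift (pullback.fst _ _) (pullback.snd _ _ ≫ (yon S).map t)
      (by rw [Category.assoc]; exact pullback.condition),
      pullback.lift_fst _ _ _, pullback.lift_snd _ _ _⟩
  have sqr : IsPullback r (pullback.snd f ((yon S).map t ≫ b)) (pullback.snd f b)
      ((yon S).map t) := by
    refine IsPullback.of_right ?_ hr2 sqP
    rw [hr1]; exact sqK
  obtain ⟨at', hat1, hat2⟩ : ∃ at' : (yon S).obj (pullback h t) ⟶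
      pullback f ((yon S).map t ≫ b),
      at' ≫ pullback.fst f ((yon S).map t ≫ b) = (yon S).map (pullback.fst h t) ≫ a ∧
      at' ≫ pullback.snd f ((yon S).map t ≫ b) = (yon S).map (pullback.snd h t) :=
    ⟨pullback.lift ((yon S).map (pullback.fst h t) ≫ a) ((yon S).map (pullback.snd h t)) (by
      calc ((yon S).map (pullback.fst h t) ≫ a) ≫ f
          = (yon S).map (pullback.fst h t) ≫ (a ≫ f) := Category.assoc _ _ _
        _ = (yon S).map (pullback.fst h t) ≫ ((yon S).map h ≫ b) := by rw [comm]
        _ = (yon S).map (pullback.fst h t ≫ h) ≫ b := by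
            rw [CategoryTheory.Functor.map_comp, Category.assoc]
        _ = (yon S).map (pullback.snd h t ≫ t) ≫ b := by rw [pullback.condition]
        _ = (yon S).map (pullback.snd h t) ≫ ((yon S).map t ≫ b) := by
            rw [CategoryTheory.Functor.map_comp, Category.assoc]),
      pullback.lift_fst _ _ _, pullback.lift_snd _ _ _⟩
  have sqA : IsPullback at' ((yon S).map (pullback.fst h t)) r aV := by
    refine IsPullback.of_right ?_ ?_ sqr.flip
    · rw [hat2, haV2]; exact sqt.flip
    · apply pullback.hom_ext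
      · rw [Category.assoc, hr1, hat1, Category.assoc, haV1]
      · calc (at' ≫ r) ≫ pullback.snd f b = at' ≫ (r ≫ pullback.snd f b) := Category.assoc _ _ _
          _ = at' ≫ (pullback.snd f ((yon S).map t ≫ b) ≫ (yon S).map t) := by rw [hr2]
          _ = (at' ≫ pullback.snd f ((yon S).map t ≫ b)) ≫ (yon S).map t :=
              (Category.assoc _ _ _).symm
          _ = (yon S).map (pullback.snd h t) ≫ (yon S).map t := by rw [hat2]
          _ = (yon S).map (pullback.snd h t ≫ t) := (CategoryTheory.Functor.map_comp _ _ _).symm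
          _ = (yon S).map (pullback.fst h t ≫ h) := by rw [pullback.condition]
          _ = (yon S).map (pullback.fst h t) ≫ (yon S).map h :=
              CategoryTheory.Functor.map_comp _ _ _
          _ = (yon S).map (pullback.fst h t) ≫ (aV ≫ pullback.snd f b) := by rw [haV2]
          _ = ((yon S).map (pullback.fst h t) ≫ aV) ≫ pullback.snd f b :=
              (Category.assoc _ _ _).symm
  exact ⟨at', repWith_fst_of_isPullback _ sqA haVe⟩

/-- A scheme locally of finite type over a field with an étale map to a sheaf with discrete space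
of points is discrete. -/
theorem discrete_of_etale_to_discrete {P : Sp S} {W : Over S} {k : Type u} [Field k]
    (π : W.left ⟶ Spec (CommRingCat.of k)) [LocallyOfFiniteType π]
    (c : (yon S).obj W ⟶ P) (hce : RepWith @Etale c) [DiscreteTopology (Points P)] :
    DiscreteTopology W.left := by
  haveI : JacobsonSpace W.left := LocallyOfFiniteType.jacobsonSpace π
  haveI : IsLocallyNoetherian W.left := LocallyOfFiniteType.isLocallyNoetherian π
  have sqR : IsPullback ((yon S).map (hce.rep.fst' c)) ((yon S).map (hce.rep.snd c)) c c :=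
    hce.rep.isPullback' c
  haveI hg₂ : Etale (hce.rep.snd c).left := hce.property_snd c
  haveI hg₁ : Etale (hce.rep.fst' c).left := hce.property c _ _ sqR.flip
  haveI : LocallyQuasiFinite (hce.rep.snd c).left :=
    locallyQuasiFinite_of_unramified (hce.rep.snd c).left
  haveI : T1Space W.left := by
    refine ⟨fun z => ?_⟩
    have hO : IsOpen (Points.ofPt c ⁻¹' {Points.ofPt c z}) :=
      (isOpen_discrete _).preimage (Points.continuous_ofPt c)
    obtain ⟨z₀, hz₀O, hz₀c⟩ :=
      nonempty_inter_closedPoints (X := W.left) (Z := Points.ofPt c ⁻¹' {Points.ofPt c z})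
        ⟨z, rfl⟩ hO.isLocallyClosed
    have hz₀O' : Points.ofPt c z₀ = Points.ofPt c z := hz₀O
    have hz₀c' : IsClosed ({z₀} : Set W.left) := hz₀c
    obtain ⟨r, hr1, hr2⟩ := exists_ofPt_eq_of_isPullback sqR z z₀ hz₀O'.symm
    have hrc : IsClosed ({r} : Set (hce.rep.pullback c).left) :=
      isClosed_of_subset_discrete_closed (s := {r}) (t := (hce.rep.snd c).left ⁻¹' {z₀})
        (Set.singleton_subset_iff.mpr hr2)
        ((hce.rep.snd c).left.isDiscrete_preimage_singleton z₀)
        (hz₀c'.preimage (hce.rep.snd c).left.continuous)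
    have h3 := (hce.rep.fst' c).left.closePoints_subset_preimage_closedPoints
      (mem_closedPoints_iff.mpr hrc)
    have h4 : IsClosed ({(hce.rep.fst' c).left r} : Set W.left) := h3
    rwa [hr1] at h4
  haveI : IsLocallyArtinian W.left :=
    IsLocallyArtinian.of_topologicalKrullDim_le_zero (topologicalKrullDim_le_zero_of_t1 _)
  infer_instance

/-- Locally quasi-finite morphisms have discrete fibres. -/
theorem discrete_fibres_of_lqf {X Y : Sp S} (hX : IsAlgSpace X) (hY : IsAlgSpace Y) (f : X ⟶ Y)
    (hlqf : LocP ((@LocallyQuasiFinite : MorphismProperty Scheme.{u}) ⊓ @LocallyOfFiniteType) f)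
    (k : Type u) [Field k] (str : Spec (CommRingCat.of k) ⟶ S)
    (y : (yon S).obj (Over.mk str) ⟶ Y) (P : Sp S) (fst : P ⟶ X)
    (snd : P ⟶ (yon S).obj (Over.mk str)) (sq : IsPullback fst snd f y) :
    DiscreteTopology (Points P) := by
  have hP : IsAlgSpace P := isAlgSpace_of_isPullback hY.diag hX (IsAlgSpace.yon_obj _) sq
  have hsnd := locP_baseChange etLocal_lqf hX hY (IsAlgSpace.yon_obj _) f y fst snd sq hlqf
  obtain ⟨W, w, hwe, hws⟩ := hP.atlas
  obtain ⟨g, hg⟩ := (yon S).map_surjective (w ≫ snd)
  have hPg := hsnd w (𝟙 _) g hwe (repWith_id _ (Over.mk str)) (by rw [hg, Category.comp_id])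
  haveI : LocallyQuasiFinite g.left := hPg.1
  haveI : IsLocallyArtinian (Spec (CommRingCat.of k)) :=
    (Scheme.isLocallyArtinianScheme_Spec (R := CommRingCat.of k)).mpr inferInstance
  haveI : IsLocallyArtinian W.left :=
    IsLocallyArtinian.of_locallyQuasiFinite (Y := Spec (CommRingCat.of k)) g.left
  rw [discreteTopology_iff_isOpen_singleton]
  intro p
  obtain ⟨x, rfl⟩ := ofPt_surjective w hws p
  rw [← Set.image_singleton]
  exact isOpenMap_ofPt_of_etale w hwe _ (isOpen_discrete {x})

/-- Discrete fibres imply locally quasi-finite (for morphisms locally of finite type). -/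
theorem lqf_of_discrete_fibres {X Y : Sp S} (f : X ⟶ Y) (hf : LocP @LocallyOfFiniteType f)
    (H : ∀ (k : Type u) [Field k] (str : Spec (CommRingCat.of k) ⟶ S)
      (y : (yon S).obj (Over.mk str) ⟶ Y) (P : Sp S) (fst : P ⟶ X)
      (snd : P ⟶ (yon S).obj (Over.mk str)), IsPullback fst snd f y →
      DiscreteTopology (Points P)) :
    LocP ((@LocallyQuasiFinite : MorphismProperty Scheme.{u}) ⊓ @LocallyOfFiniteType) f := by
  intro U V a b h hae hbe comm
  haveI hlft : LocallyOfFiniteType h.left := hf a b h hae hbe comm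
  refine ⟨?_, hlft⟩
  rw [locallyQuasiFinite_iff_isDiscrete_preimage_singleton]
  intro v
  obtain ⟨t, ht1, ht2⟩ : ∃ t : (FieldPt.ofPt b v).pt ⟶ V,
      t.left = V.left.fromSpecResidueField v ∧ (FieldPt.ofPt b v).toHom = (yon S).map t ≫ b :=
    ⟨Over.homMk (V.left.fromSpecResidueField v) rfl, rfl, FieldPt.toHom_ofPt b v⟩
  haveI hD : DiscreteTopology (Points (pullback f (FieldPt.ofPt b v).toHom)) :=
    H (FieldPt.ofPt b v).K (FieldPt.ofPt b v).str (FieldPt.ofPt b v).toHom _ _ _
      (IsPullback.of_hasPullback f _)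
  obtain ⟨c, hce⟩ := exists_etale_fibre_chart f a b h hae hbe comm t _ ht2
  have sqL : IsPullback (pullback.fst h t).left (pullback.snd h t).left h.left t.left :=
    (IsPullback.of_hasPullback h t).map (Over.forget S)
  haveI : LocallyOfFiniteType (pullback.snd h t).left :=
    MorphismProperty.of_isPullback (P := @LocallyOfFiniteType) sqL hlft
  haveI : DiscreteTopology (pullback h t).left :=
    discrete_of_etale_to_discrete (k := (FieldPt.ofPt b v).K) (pullback.snd h t).left c hce
  rw [ht1] at sqL
  haveI : DiscreteTopology (h.left.fiber v) :=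
    (sqL.isoPullback.hom.homeomorph.discreteTopology :
      DiscreteTopology ↥(pullback h.left (V.left.fromSpecResidueField v)))
  exact isDiscrete_iff_discreteTopology.mpr (h.left.fiberHomeo v).discreteTopology

theorem main9955 {X Y : AlgSp.Space S} (f : X ⟶ Y)
    (hf : AlgSp.LocP @LocallyOfFiniteType f.hom) :
    AlgSp.LocP ((@LocallyQuasiFinite : MorphismProperty Scheme.{u}) ⊓ @LocallyOfFiniteType)
        f.hom ↔
      ∀ (k : Type u) [Field k] (str : Spec (CommRingCat.of k) ⟶ S)
        (y : (AlgSp.yon S).obj (Over.mk str) ⟶ Y.obj)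
        (P : AlgSp.Sp S) (fst : P ⟶ X.obj) (snd : P ⟶ (AlgSp.yon S).obj (Over.mk str)),
        IsPullback fst snd f.hom y → DiscreteTopology (AlgSp.Points P) :=
  ⟨fun h k _ str y P fst snd sq =>
      discrete_fibres_of_lqf X.property Y.property f.hom h k str y P fst snd sq,
    fun H => lqf_of_discrete_fibres f.hom hf H⟩

end Groth.Agent.Lib.LqfDiscreteFibresH7
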