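import Mathlib
import Groth.Prelude.Def_GLin
import Groth.Prelude.Def_HopfRep
import Groth.Prelude.Def_W4c1tameactTame
import Groth.Agent.Lib.InvRey2_helper9
import Groth.Agent.Lib.ComplUnr1_helper8

/-!
# Invariants of a coherent `G`-module are complete for the `m`-adic filtration (helper1)

Setting of the coherent completeness theorem for `[Spec A / G]`, `G` linearly reductive: `A`
Noetherian with `G`-action, `m` a `G`-stable maximal ideal, `A^G` complete local Noetherian, `M` a
finite `A`-module with compatible `G`-action.  Then `M^G → lim M^G / (m^n M)^G` is bijective.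

The argument is carried out for abstract "Reynolds data" (`ReyData`): a subalgebra `S ⊆ A`, an
`S`-linear retraction `E : A → S` preserving the powers of `m`, an `S`-submodule `N ⊆ M` and a
retraction `EM : M → N` with `EM (a • t) = E a • t` for `t ∈ N`.

* `eq_zero_of_forall_mem` : `N ∩ ⋂ m^n M = 0` (Krull intersection + Reynolds + `S` local);
* `exists_pow_le` : for every `j` some `m^n ∩ S ⊆ 𝔫^j` (`S/𝔫^j` is Artinian; Krull in `A/𝔫^j A`);
* `exists_pow_le_smul` : for every `j` some `N ∩ m^n M ⊆ 𝔫^j N` (Artin–Rees for `A N ⊆ M`);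
* `exists_limit` : completeness (finite modules over complete Noetherian rings are complete).
-/

set_option autoImplicit false
set_option linter.unusedSimpArgs false
set_option linter.unusedVariables false
set_option linter.style.haveILetI false
set_option linter.unusedSectionVars false

open TensorProduct

universe u v w w'

namespace Groth.Agent.Lib.LunaComplH1

section Complete

/-- precompleteness passes to surjective images -/
theorem isPrecomplete_of_surjective {R : Type*} [CommRing R] (I : Ideal R) {P Q : Type*}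
    [AddCommGroup P] [Module R P] [AddCommGroup Q] [Module R Q] (π : P →ₗ[R] Q)
    (hπ : Function.Surjective π) [IsPrecomplete I P] : IsPrecomplete I Q := by
  refine ⟨fun f hf => ?_⟩
  have hmap : ∀ n : ℕ, ∀ q ∈ (I ^ n • ⊤ : Submodule R Q),
      ∃ p ∈ (I ^ n • ⊤ : Submodule R P), π p = q := by
    intro n q hq
    have h1 : (I ^ n • ⊤ : Submodule R P).map π = I ^ n • ⊤ := by
      rw [Submodule.map_smul'', Submodule.map_top, LinearMap.range_eq_top.2 hπ]
    rw [← h1] at hq
    obtain ⟨p, hp, rfl⟩ := hq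
    exact ⟨p, hp, rfl⟩
  have hd : ∀ n, f (n + 1) - f n ∈ (I ^ n • ⊤ : Submodule R Q) := by
    intro n
    have h1 := hf (Nat.le_succ n)
    rw [SModEq.sub_mem] at h1
    have h2 : f (n + 1) - f n = -(f n - f (n + 1)) := by abel
    rw [h2]
    exact Submodule.neg_mem _ h1
  choose d hd1 hd2 using fun n => hmap n _ (hd n)
  obtain ⟨p0, hp0⟩ := hπ (f 0)
  obtain ⟨g, hg⟩ : ∃ g : ℕ → P, g = fun n => p0 + ∑ l ∈ Finset.range n, d l := ⟨_, rfl⟩
  have hgs : ∀ n, g (n + 1) = g n + d n := by
    intro n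
    rw [hg]
    simp only [Finset.sum_range_succ]
    abel
  have hπg : ∀ n, π (g n) = f n := by
    intro n
    induction n with
    | zero =>
      rw [hg]
      simp [hp0]
    | succ n ih =>
      rw [hgs, map_add, ih, hd2]
      abel
  have hgc : ∀ a b, a ≤ b → g b - g a ∈ (I ^ a • ⊤ : Submodule R P) := by
    intro a b hab
    induction b, hab using Nat.le_induction with
    | base =>
      rw [sub_self]
      exact Submodule.zero_mem _
    | succ b hab ih =>
      have h1 : g (b + 1) - g a = d b + (g b - g a) := by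
        rw [hgs]
        abel
      rw [h1]
      exact Submodule.add_mem _
        (Submodule.smul_mono_left (Ideal.pow_le_pow_right hab) (hd1 b)) ih
  have hgC : ∀ {a b : ℕ}, a ≤ b → g a ≡ g b [SMOD (I ^ a • ⊤ : Submodule R P)] := by
    intro a b hab
    rw [SModEq.sub_mem]
    have h2 : g a - g b = -(g b - g a) := by abel
    rw [h2]
    exact Submodule.neg_mem _ (hgc a b hab)
  obtain ⟨L, hL⟩ := IsPrecomplete.prec ‹IsPrecomplete I P› hgC
  refine ⟨π L, fun n => ?_⟩
  rw [SModEq.sub_mem, ← hπg n, ← map_sub]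
  have h3 := hL n
  rw [SModEq.sub_mem] at h3
  have h4 : π (g n - L) ∈ (I ^ n • ⊤ : Submodule R P).map π := ⟨_, h3, rfl⟩
  rw [Submodule.map_smul''] at h4
  exact Submodule.smul_mono le_rfl le_top h4

/-- a finite module over a precomplete ring is precomplete -/
theorem isPrecomplete_of_finite {R : Type*} [CommRing R] (I : Ideal R) [IsPrecomplete I R]
    (Q : Type*) [AddCommGroup Q] [Module R Q] [Module.Finite R Q] : IsPrecomplete I Q := by
  obtain ⟨r, π, hπ⟩ := Module.Finite.exists_fin' R Q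
  haveI := ComplUnrH8.isPrecomplete_pi I r
  exact isPrecomplete_of_surjective I π hπ

end Complete

section Abstract

variable {k : Type*} [CommRing k] {A : Type*} [CommRing A] [Algebra k A]
  (S : Subalgebra k A) (E : A →+ A) (m : Ideal A)
  {M : Type*} [AddCommGroup M] [Module A M] (N : Submodule S M) (EM : M →+ M)

/-- abstract Reynolds data -/
structure ReyData : Prop where
  hES : ∀ a, E a ∈ S
  hEfix : ∀ s ∈ S, E s = s
  hEmul : ∀ s ∈ S, ∀ a, E (s * a) = s * E a
  hEm : ∀ n, ∀ a ∈ m ^ n, E a ∈ m ^ n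
  hEMN : ∀ x, EM x ∈ N
  hEMfix : ∀ x ∈ N, EM x = x
  hEMsmul : ∀ a, ∀ t ∈ N, EM (a • t) = E a • t

theorem mem_maximalIdeal_of_mem [IsLocalRing S] [m.IsMaximal] (s : S) (hs : (s : A) ∈ m) :
    s ∈ IsLocalRing.maximalIdeal S := by
  rw [IsLocalRing.mem_maximalIdeal, mem_nonunits_iff]
  intro hu
  have h1 : IsUnit (S.val s) := hu.map S.val
  exact (Ideal.IsMaximal.ne_top ‹m.IsMaximal›) (Ideal.eq_top_of_isUnit_mem m hs h1)

theorem mem_comap_iff (n : ℕ) (s : S) : s ∈ (m ^ n).comap S.val ↔ (s : A) ∈ m ^ n := Iff.rfl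

theorem mem_smul_top_iff (I : Ideal S) (y : N) :
    y ∈ (I • ⊤ : Submodule S N) ↔ (y : M) ∈ I • N := by
  have h1 : (I • ⊤ : Submodule S N).map N.subtype = I • N := by
    rw [Submodule.map_smul'', Submodule.map_subtype_top]
  rw [← h1]
  constructor
  · intro hy
    exact ⟨y, hy, rfl⟩
  · rintro ⟨y', hy', e⟩
    have : y' = y := Subtype.ext e
    rwa [← this]

theorem exists_finset_span [IsNoetherianRing A] [Module.Finite A M] :
    ∃ T : Finset M, (∀ t ∈ T, t ∈ N) ∧
      Submodule.span A (N : Set M) = Submodule.span A (T : Set M) := by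
  have hfg : (Submodule.span A (N : Set M)).FG := IsNoetherian.noetherian _
  obtain ⟨T, hTN, hT⟩ := (Submodule.fg_span_iff_fg_span_finset_subset _).1 hfg
  exact ⟨T, fun t ht => hTN ht, hT⟩

variable {S E m N EM}
variable (h : ReyData S E m N EM)
include h

theorem isUnit_one_sub_E [IsLocalRing S] [m.IsMaximal] (r : A) (hr : r ∈ m) :
    IsUnit (1 - (⟨E r, h.hES r⟩ : S)) := by
  apply IsLocalRing.isUnit_one_sub_self_of_mem_nonunits
  rw [← IsLocalRing.mem_maximalIdeal]
  apply mem_maximalIdeal_of_mem S m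
  have h1 := h.hEm 1 r (by rwa [pow_one])
  rwa [pow_one] at h1

theorem coe_mem_of_mem_maximalIdeal [IsLocalRing S] [m.IsMaximal] (s : S)
    (hs : s ∈ IsLocalRing.maximalIdeal S) : (s : A) ∈ m := by
  by_contra hns
  obtain ⟨y, i, hi, hyi⟩ := Ideal.IsMaximal.exists_inv ‹m.IsMaximal› hns
  have h1 : E (y * (s : A) + i) = E 1 := by rw [hyi]
  rw [map_add, mul_comm, h.hEmul _ s.2, h.hEfix 1 S.one_mem] at h1
  have hEi : (⟨E i, h.hES i⟩ : S) ∈ IsLocalRing.maximalIdeal S :=
    mem_maximalIdeal_of_mem S m _ (by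
      have h2 := h.hEm 1 i (by rwa [pow_one])
      rwa [pow_one] at h2)
  have h2 : (1 : S) = s * ⟨E y, h.hES y⟩ + ⟨E i, h.hES i⟩ := by
    apply Subtype.ext
    show (1 : A) = (s : A) * E y + E i
    exact h1.symm
  have h3 : (1 : S) ∈ IsLocalRing.maximalIdeal S := by
    rw [h2]
    exact Ideal.add_mem _ (Ideal.mul_mem_right _ _ hs) hEi
  exact (Ideal.ne_top_iff_one _).1 (IsLocalRing.maximalIdeal.isMaximal S).ne_top h3

theorem coe_mem_pow [IsLocalRing S] [m.IsMaximal] (n : ℕ) (s : S)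
    (hs : s ∈ IsLocalRing.maximalIdeal S ^ n) : (s : A) ∈ m ^ n := by
  have h1 : IsLocalRing.maximalIdeal S ≤ Ideal.comap S.val m :=
    fun s hs => coe_mem_of_mem_maximalIdeal h s hs
  exact (Ideal.le_comap_pow S.val n) (Ideal.pow_right_mono h1 n hs)

theorem smul_le_smul_top [IsLocalRing S] [m.IsMaximal] (n : ℕ) (x : M)
    (hx : x ∈ (IsLocalRing.maximalIdeal S ^ n) • N) : x ∈ (m ^ n • ⊤ : Submodule A M) := by
  refine Submodule.smul_induction_on hx (fun s hs t _ => ?_)
    (fun a b ha hb => Submodule.add_mem _ ha hb)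
  exact Submodule.smul_mem_smul (coe_mem_pow h n s hs) Submodule.mem_top

theorem E_mem_of_mem_map (I : Ideal S) (y : A) (hy : y ∈ Ideal.map S.val I) :
    (⟨E y, h.hES y⟩ : S) ∈ I := by
  have key : ∀ y ∈ Ideal.map S.val I, ∀ b : A, (⟨E (b * y), h.hES _⟩ : S) ∈ I := by
    intro y hy
    refine Submodule.span_induction
      (p := fun y _ => ∀ b : A, (⟨E (b * y), h.hES _⟩ : S) ∈ I) ?_ ?_ ?_ ?_ hy
    · rintro _ ⟨z, hz, rfl⟩ b
      have h2 : (⟨E (b * S.val z), h.hES _⟩ : S) = z * ⟨E b, h.hES b⟩ := by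
        apply Subtype.ext
        show E (b * (z : A)) = (z : A) * E b
        rw [mul_comm b, h.hEmul _ z.2]
      rw [h2]
      exact I.mul_mem_right _ hz
    · intro b
      have h2 : (⟨E (b * 0), h.hES _⟩ : S) = 0 := by
        apply Subtype.ext
        show E (b * 0) = 0
        rw [mul_zero, map_zero]
      rw [h2]
      exact I.zero_mem
    · intro y z _ _ hy hz b
      have h2 : (⟨E (b * (y + z)), h.hES _⟩ : S) =
          ⟨E (b * y), h.hES _⟩ + ⟨E (b * z), h.hES _⟩ := by
        apply Subtype.ext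
        show E (b * (y + z)) = E (b * y) + E (b * z)
        rw [mul_add, map_add]
      rw [h2]
      exact I.add_mem (hy b) (hz b)
    · intro b' y _ hy b
      have h2 : b * (b' • y) = (b * b') * y := by rw [smul_eq_mul, mul_assoc]
      simp only [h2]
      exact hy (b * b')
  have h3 := key y hy 1
  simpa only [one_mul] using h3

theorem eq_zero_of_forall_mem [IsNoetherianRing A] [Module.Finite A M] [IsLocalRing S]
    [m.IsMaximal] (x : M) (hx : x ∈ N)
    (hall : ∀ n : ℕ, x ∈ (m ^ n • ⊤ : Submodule A M)) : x = 0 := by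
  have h1 : x ∈ (⨅ i : ℕ, m ^ i • ⊤ : Submodule A M) := (Submodule.mem_iInf _).2 hall
  obtain ⟨r, hr⟩ := (Ideal.mem_iInf_smul_pow_eq_bot_iff m x).1 h1
  have h2 : E (r : A) • x = x := by
    have h3 := congrArg EM hr
    rwa [h.hEMsmul _ x hx, h.hEMfix x hx] at h3
  obtain ⟨v, hv⟩ := (isUnit_one_sub_E h (r : A) r.2).exists_left_inv
  have h3 : ((1 : A) - E (r : A)) • x = 0 := by
    rw [sub_smul, one_smul, h2, sub_self]
  have h4 : ((v * (1 - (⟨E (r : A), h.hES _⟩ : S)) : S) : A) • x = 0 := by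
    show ((v : A) * ((1 : A) - E (r : A))) • x = 0
    rw [mul_smul, h3, smul_zero]
  rw [hv] at h4
  have h5 : ((1 : S) : A) • x = x := one_smul A x
  rw [← h5]
  exact h4

theorem exists_pow_le [IsNoetherianRing A] [IsLocalRing S] [IsNoetherianRing S] [m.IsMaximal]
    (j : ℕ) : ∃ n, ∀ s : S, (s : A) ∈ m ^ n → s ∈ IsLocalRing.maximalIdeal S ^ j := by
  rcases Nat.eq_zero_or_pos j with rfl | hj
  · exact ⟨0, fun s _ => by rw [pow_zero, Ideal.one_eq_top]; trivial⟩
  haveI : IsArtinianRing (S ⧸ IsLocalRing.maximalIdeal S ^ j) := by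
    apply IsLocalRing.quotient_artinian_of_mem_minimalPrimes_of_isLocalRing
    refine ⟨⟨inferInstance, Ideal.pow_le_self hj.ne'⟩, fun q hq _ => ?_⟩
    haveI := hq.1
    exact Ideal.IsPrime.le_of_pow_le hq.2
  obtain ⟨a, ha⟩ : ∃ a : ℕ → Ideal (S ⧸ IsLocalRing.maximalIdeal S ^ j), a = fun n =>
      ((m ^ n).comap S.val).map (Ideal.Quotient.mk (IsLocalRing.maximalIdeal S ^ j)) := ⟨_, rfl⟩
  have hamono : ∀ p q : ℕ, p ≤ q → a q ≤ a p := by
    intro p q e
    rw [ha]
    exact Ideal.map_mono (Ideal.comap_mono (Ideal.pow_le_pow_right e))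
  obtain ⟨n0, hn0⟩ := IsArtinian.monotone_stabilizes
    (⟨fun n => OrderDual.toDual (a n), fun p q e => hamono p q e⟩ :
      ℕ →o (Ideal (S ⧸ IsLocalRing.maximalIdeal S ^ j))ᵒᵈ)
  have hn0' : ∀ n, n0 ≤ n → a n0 = a n := fun n hn => hn0 n hn
  refine ⟨n0, fun s hs => ?_⟩
  obtain ⟨Jj, hJj⟩ : ∃ Jj : Ideal A, Jj = Ideal.map S.val (IsLocalRing.maximalIdeal S ^ j) :=
    ⟨_, rfl⟩
  have hstep : ∀ n, (s : A) ∈ m ^ n ⊔ Jj := by
    intro n
    rcases le_total n n0 with hle | hle
    · exact Ideal.mem_sup_left (Ideal.pow_le_pow_right hle hs)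
    · have h1 : Ideal.Quotient.mk (IsLocalRing.maximalIdeal S ^ j) s ∈ a n0 := by
        rw [ha]
        exact Ideal.mem_map_of_mem _ ((mem_comap_iff S m n0 s).2 hs)
      rw [hn0' n hle, ha] at h1
      obtain ⟨s', hs', hss'⟩ :=
        (Ideal.mem_map_iff_of_surjective _ Ideal.Quotient.mk_surjective).1 h1
      have h2 : s - s' ∈ IsLocalRing.maximalIdeal S ^ j := by
        rw [← Ideal.Quotient.eq]
        exact hss'.symm
      have h3 : (s : A) = (s' : A) + ((s - s' : S) : A) := by
        show (s : A) = (s' : A) + ((s : A) - (s' : A))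
        ring
      rw [h3, hJj]
      exact Ideal.add_mem _ (Ideal.mem_sup_left ((mem_comap_iff S m n s').1 hs'))
        (Ideal.mem_sup_right (Ideal.mem_map_of_mem _ h2))
  have h4 : (Ideal.Quotient.mk Jj (s : A)) ∈ (⨅ i : ℕ, m ^ i • ⊤ : Submodule A (A ⧸ Jj)) := by
    rw [Submodule.mem_iInf]
    intro n
    obtain ⟨a', ha', b, hb, hab⟩ := Submodule.mem_sup.1 (hstep n)
    have h5 : Ideal.Quotient.mk Jj (s : A) = a' • (Ideal.Quotient.mk Jj 1) := by
      rw [← hab, map_add, Ideal.Quotient.eq_zero_iff_mem.2 hb, add_zero, Algebra.smul_def,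
        Ideal.Quotient.algebraMap_eq, map_one, mul_one]
    rw [h5]
    exact Submodule.smul_mem_smul ha' Submodule.mem_top
  obtain ⟨r, hr⟩ := (Ideal.mem_iInf_smul_pow_eq_bot_iff m _).1 h4
  have h6 : (r : A) * (s : A) - (s : A) ∈ Jj := by
    rw [← Ideal.Quotient.eq, map_mul]
    rw [Algebra.smul_def, Ideal.Quotient.algebraMap_eq] at hr
    exact hr
  have h7 : (⟨E ((r : A) * (s : A) - (s : A)), h.hES _⟩ : S) ∈ IsLocalRing.maximalIdeal S ^ j :=
    E_mem_of_mem_map h _ _ (hJj ▸ h6)
  have h8 : (⟨E ((r : A) * (s : A) - (s : A)), h.hES _⟩ : S) =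
      -(s * (1 - ⟨E (r : A), h.hES _⟩)) := by
    apply Subtype.ext
    show E ((r : A) * (s : A) - (s : A)) = -((s : A) * (1 - E (r : A)))
    rw [map_sub, mul_comm, h.hEmul _ s.2, h.hEfix _ s.2]
    ring
  rw [h8, neg_mem_iff] at h7
  exact (Ideal.mul_unit_mem_iff_mem _ (isUnit_one_sub_E h (r : A) r.2)).1 h7

theorem mem_span_S (T : Finset M) (hTN : ∀ t ∈ T, t ∈ N)
    (hT : Submodule.span A (N : Set M) = Submodule.span A (T : Set M)) (x : M) (hx : x ∈ N) :
    x ∈ Submodule.span S (T : Set M) := by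
  have h1 : x ∈ Submodule.span A (T : Set M) := hT ▸ Submodule.subset_span hx
  obtain ⟨f, hf⟩ := Submodule.mem_span_finset'.1 h1
  have h2 : EM x = ∑ a : T, (⟨E (f a), h.hES _⟩ : S) • (a : M) := by
    rw [← hf, map_sum]
    apply Finset.sum_congr rfl
    intro a _
    exact h.hEMsmul (f a) a (hTN a a.2)
  rw [h.hEMfix x hx] at h2
  rw [h2]
  exact Submodule.sum_mem _ (fun a _ => Submodule.smul_mem _ _ (Submodule.subset_span a.2))

theorem finite_N [IsNoetherianRing A] [Module.Finite A M] : Module.Finite S N := by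
  obtain ⟨T, hTN, hT⟩ := exists_finset_span (A := A) S N
  rw [Module.Finite.iff_fg]
  exact ⟨T, le_antisymm (Submodule.span_le.2 (fun t ht => hTN t ht))
    (fun x hx => mem_span_S h T hTN hT x hx)⟩

theorem mem_smul_of_mem (T : Finset M) (hTN : ∀ t ∈ T, t ∈ N) (n : ℕ) (x : M) (hx : x ∈ N)
    (hxm : x ∈ m ^ n • Submodule.span A (T : Set M)) : x ∈ ((m ^ n).comap S.val) • N := by
  have h0 : (T : Set M) = id '' (T : Set M) := (Set.image_id _).symm
  rw [h0, Submodule.mem_ideal_smul_span_iff_exists_sum'] at hxm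
  obtain ⟨a, ha, hsum⟩ := hxm
  have h2 : EM x = ∑ i ∈ a.support, (⟨E (a i), h.hES _⟩ : S) • (i : M) := by
    rw [← hsum, Finsupp.sum, map_sum]
    apply Finset.sum_congr rfl
    intro i _
    exact h.hEMsmul (a i) i (hTN i i.2)
  rw [h.hEMfix x hx] at h2
  rw [h2]
  exact Submodule.sum_mem _ (fun i _ => Submodule.smul_mem_smul
    ((mem_comap_iff S m n _).2 (h.hEm n _ (ha i))) (hTN i i.2))

theorem exists_pow_le_smul [IsNoetherianRing A] [Module.Finite A M] [IsLocalRing S]
    [IsNoetherianRing S] [m.IsMaximal] (j : ℕ) :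
    ∃ n, ∀ x ∈ N, x ∈ (m ^ n • ⊤ : Submodule A M) →
      x ∈ (IsLocalRing.maximalIdeal S ^ j) • N := by
  obtain ⟨T, hTN, hT⟩ := exists_finset_span (A := A) S N
  obtain ⟨c, hc⟩ := Ideal.exists_pow_inf_eq_pow_smul m (Submodule.span A (T : Set M))
  obtain ⟨n1, hn1⟩ := exists_pow_le h j
  refine ⟨n1 + c, fun x hx hxm => ?_⟩
  have hxP : x ∈ Submodule.span A (T : Set M) := hT ▸ Submodule.subset_span hx
  have h1 : x ∈ m ^ (n1 + c) • ⊤ ⊓ Submodule.span A (T : Set M) := ⟨hxm, hxP⟩
  rw [hc (n1 + c) (Nat.le_add_left _ _), Nat.add_sub_cancel] at h1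
  have h2 : x ∈ m ^ n1 • Submodule.span A (T : Set M) :=
    Submodule.smul_mono le_rfl inf_le_right h1
  have h3 := mem_smul_of_mem h T hTN n1 x hx h2
  exact Submodule.smul_mono_left (fun s hs => hn1 s hs) h3

theorem exists_limit [IsNoetherianRing A] [Module.Finite A M] [IsLocalRing S]
    [IsNoetherianRing S] [m.IsMaximal] [IsAdicComplete (IsLocalRing.maximalIdeal S) S]
    (x : ℕ → M) (hx : ∀ n, x n ∈ N)
    (hd : ∀ n, x (n + 1) - x n ∈ (m ^ n • ⊤ : Submodule A M)) :
    ∃ y ∈ N, ∀ n, y - x n ∈ (m ^ n • ⊤ : Submodule A M) := by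
  haveI : Module.Finite S N := finite_N h
  haveI : IsPrecomplete (IsLocalRing.maximalIdeal S) N := isPrecomplete_of_finite _ N
  have htel : ∀ a b, a ≤ b → x b - x a ∈ (m ^ a • ⊤ : Submodule A M) := by
    intro a b hab
    induction b, hab using Nat.le_induction with
    | base =>
      rw [sub_self]
      exact Submodule.zero_mem _
    | succ b hab ih =>
      have h1 : x (b + 1) - x a = (x (b + 1) - x b) + (x b - x a) := by abel
      rw [h1]
      exact Submodule.add_mem _
        (Submodule.smul_mono_left (Ideal.pow_le_pow_right hab) (hd b)) ih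
  choose ν hν using fun j => exists_pow_le_smul (N := N) h j
  obtain ⟨g, hgdef⟩ : ∃ g : ℕ → ℕ, g = fun j => j + (Finset.range (j + 1)).sup ν := ⟨_, rfl⟩
  have hg1 : ∀ j, j ≤ g j := fun j => by rw [hgdef]; exact Nat.le_add_right _ _
  have hg2 : ∀ j, ν j ≤ g j := fun j => by
    rw [hgdef]
    exact (Finset.le_sup (f := ν) (Finset.self_mem_range_succ j)).trans (Nat.le_add_left _ _)
  have hg3 : ∀ j l, j ≤ l → g j ≤ g l := fun j l hjl => by
    rw [hgdef]
    exact add_le_add hjl (Finset.sup_mono (Finset.range_mono (Nat.succ_le_succ hjl)))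
  obtain ⟨f, hfdef⟩ : ∃ f : ℕ → N, ∀ j, (f j : M) = x (g j) := ⟨fun j => ⟨x (g j), hx _⟩, fun _ => rfl⟩
  have hf : ∀ {a b : ℕ}, a ≤ b →
      f a ≡ f b [SMOD (IsLocalRing.maximalIdeal S ^ a • ⊤ : Submodule S N)] := by
    intro a b hab
    rw [SModEq.sub_mem, mem_smul_top_iff]
    have h0 : ((f a - f b : N) : M) = x (g a) - x (g b) := by
      rw [Submodule.coe_sub, hfdef, hfdef]
    rw [h0]
    have h1 : x (g b) - x (g a) ∈ (m ^ (ν a) • ⊤ : Submodule A M) :=
      Submodule.smul_mono_left (Ideal.pow_le_pow_right (hg2 a)) (htel _ _ (hg3 a b hab))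
    have h2 := hν a _ (N.sub_mem (hx (g b)) (hx (g a))) h1
    have h3 : x (g a) - x (g b) = -(x (g b) - x (g a)) := by abel
    rw [h3]
    exact Submodule.neg_mem _ h2
  obtain ⟨L, hL⟩ := IsPrecomplete.prec (I := IsLocalRing.maximalIdeal S) (M := N)
    inferInstance hf
  refine ⟨(L : M), L.2, fun n => ?_⟩
  have h4 : (L : M) - x (g n) ∈ (m ^ n • ⊤ : Submodule A M) := by
    have h5 := hL n
    rw [SModEq.sub_mem, mem_smul_top_iff] at h5
    have h0 : ((f n - L : N) : M) = x (g n) - (L : M) := by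
      rw [Submodule.coe_sub, hfdef]
    rw [h0] at h5
    have h6 := smul_le_smul_top h n _ h5
    have h7 : (L : M) - x (g n) = -(x (g n) - (L : M)) := by abel
    rw [h7]
    exact Submodule.neg_mem _ h6
  have h8 : (L : M) - x n = ((L : M) - x (g n)) + (x (g n) - x n) := by abel
  rw [h8]
  exact Submodule.add_mem _ h4 (htel _ _ (hg1 n))

end Abstract

section Hopf

open Groth.Agent.Lib.LinRed_helper9 Groth.Agent.Lib.InvRey_helper9 Groth.Agent.Lib.InvRey2_helper9

variable (k : Type u) [Field k] (H : Type v) [CommRing H] [HopfAlgebra k H]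
variable (A : Type w) [CommRing A] [Algebra k A] [HopfRep.Comod k H A] [GLin.IsCoactAlg k H A]

/-- the product of two invariant ideals is invariant -/
theorem isSubcomod_mul (I J : Ideal A)
    (hI : HopfRep.IsSubcomod (k := k) (A := H) (I.restrictScalars k))
    (hJ : HopfRep.IsSubcomod (k := k) (A := H) (J.restrictScalars k)) :
    HopfRep.IsSubcomod (k := k) (A := H) ((I * J).restrictScalars k) := by
  intro w hw
  have hw' : w ∈ I * J := hw
  have key : ∀ (ya : (I.restrictScalars k) ⊗[k] H) (yb : (J.restrictScalars k) ⊗[k] H),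
      ((I.restrictScalars k).subtype.rTensor H ya) * ((J.restrictScalars k).subtype.rTensor H yb) ∈
        LinearMap.range (((I * J).restrictScalars k).subtype.rTensor H) := by
    intro ya yb
    induction ya using TensorProduct.induction_on with
    | zero =>
      rw [map_zero, zero_mul]
      exact Submodule.zero_mem _
    | add y1 y2 h1 h2 =>
      rw [map_add, add_mul]
      exact Submodule.add_mem _ h1 h2
    | tmul i h =>
      induction yb using TensorProduct.induction_on with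
      | zero =>
        rw [map_zero, mul_zero]
        exact Submodule.zero_mem _
      | add y1 y2 h1 h2 =>
        rw [map_add, mul_add]
        exact Submodule.add_mem _ h1 h2
      | tmul j h' =>
        rw [LinearMap.rTensor_tmul, LinearMap.rTensor_tmul, Algebra.TensorProduct.tmul_mul_tmul]
        exact ⟨(⟨(i : A) * (j : A), Ideal.mul_mem_mul i.2 j.2⟩ : (I * J).restrictScalars k) ⊗ₜ[k]
          (h * h'), by rw [LinearMap.rTensor_tmul]; rfl⟩
  refine Submodule.mul_induction_on hw' ?_ ?_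
  · intro a ha b hb
    obtain ⟨ya, hya⟩ := hI a ha
    obtain ⟨yb, hyb⟩ := hJ b hb
    rw [GLin.IsCoactAlg.coact_mul, ← hya, ← hyb]
    exact key ya yb
  · intro x y hx hy
    rw [map_add]
    exact Submodule.add_mem _ hx hy

theorem isSubcomod_pow (I : Ideal A)
    (hI : HopfRep.IsSubcomod (k := k) (A := H) (I.restrictScalars k)) (n : ℕ) :
    HopfRep.IsSubcomod (k := k) (A := H) ((I ^ n).restrictScalars k) := by
  induction n with
  | zero =>
    rw [pow_zero, Ideal.one_eq_top]
    intro w _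
    obtain ⟨y, hy⟩ := LinearMap.rTensor_surjective H
      (g := ((⊤ : Ideal A).restrictScalars k).subtype) (fun a => ⟨⟨a, trivial⟩, rfl⟩)
      (HopfRep.Comod.coact (k := k) (A := H) w)
    exact ⟨y, hy⟩
  | succ n ih =>
    rw [pow_succ]
    exact isSubcomod_mul k H A _ _ ih hI

variable (M : Type w') [AddCommGroup M] [Module k M] [Module A M] [IsScalarTower k A M]
  [HopfRep.Comod k H M] [TameAct.IsHopfMod k H A M]

/-- the invariants of a Hopf module, as a module over the ring of invariants -/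
def fixedS : Submodule (GLin.invariants k H A) M where
  carrier := {x | x ∈ HopfRep.fixedPts k H M}
  add_mem' := fun ha hb => (HopfRep.fixedPts k H M).add_mem ha hb
  zero_mem' := (HopfRep.fixedPts k H M).zero_mem
  smul_mem' := by
    intro s x hx
    have hs : HopfRep.Comod.coact (k := k) (A := H) (s : A) = (s : A) ⊗ₜ[k] (1 : H) := s.2
    have hx' : HopfRep.Comod.coact (k := k) (A := H) x = x ⊗ₜ[k] (1 : H) := hx
    show HopfRep.Comod.coact (k := k) (A := H) ((s : A) • x) = ((s : A) • x) ⊗ₜ[k] (1 : H)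
    rw [TameAct.IsHopfMod.coact_smul (k := k) (A := H) (s : A) x, hs, hx', TameAct.hmSMul_tmul,
      mul_one]

theorem mem_fixedS (x : M) : x ∈ fixedS k H A M ↔ x ∈ HopfRep.fixedPts k H M := Iff.rfl

theorem main16105 (hG : HopfRep.IsLinearlyReductive k H) [IsNoetherianRing A]
    (m : Ideal A) [m.IsMaximal]
    (hm : HopfRep.IsSubcomod (k := k) (A := H) (m.restrictScalars k))
    [IsLocalRing ↥(GLin.invariants k H A)] [IsNoetherianRing ↥(GLin.invariants k H A)]
    [IsAdicComplete (IsLocalRing.maximalIdeal ↥(GLin.invariants k H A))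
      ↥(GLin.invariants k H A)]
    [Module.Finite A M] :
    (∀ x ∈ HopfRep.fixedPts k H M, (∀ n : ℕ, x ∈ (m ^ n • ⊤ : Submodule A M)) → x = 0) ∧
      ∀ x : ℕ → M, (∀ n, x n ∈ HopfRep.fixedPts k H M) →
        (∀ n, x (n + 1) - x n ∈ (m ^ n • ⊤ : Submodule A M)) →
          ∃ y ∈ HopfRep.fixedPts k H M, ∀ n, y - x n ∈ (m ^ n • ⊤ : Submodule A M) := by
  obtain ⟨β, hβ, h1⟩ := exists_leftIntegral k H hG
  have hdata : ReyData (GLin.invariants k H A) (rey k H β A).toAddMonoidHom m
      (fixedS k H A M) (rey k H β M).toAddMonoidHom :=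
    { hES := fun a => rey_mem_fixedPts k H β A hβ a
      hEfix := fun s hs => rey_of_mem_fixedPts k H β A h1 s hs
      hEmul := fun s hs a => rey_mul_of_fixed k H β A s hs a
      hEm := fun n a ha => rey_mem_of_isSubcomod k H β A (m ^ n) (isSubcomod_pow k H A m hm n) a ha
      hEMN := fun x => rey_mem_fixedPts k H β M hβ x
      hEMfix := fun x hx => rey_of_mem_fixedPts k H β M h1 x hx
      hEMsmul := fun a t ht => rey_smul_of_fixed k H β A M a t ht }
  refine ⟨fun x hx hall => eq_zero_of_forall_mem hdata x hx hall, fun x hx hd => ?_⟩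
  obtain ⟨y, hy, hyn⟩ := exists_limit hdata x hx hd
  exact ⟨y, hy, hyn⟩

end Hopf

end Groth.Agent.Lib.LunaComplH1
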