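import Groth.Agent.Lib.MLDom_lead
import Mathlib.LinearAlgebra.TensorProduct.Tower
import Mathlib.RingTheory.Flat.Basic
import Mathlib.RingTheory.Finiteness.ModuleFinitePresentation

/-!
# Mittag-Leffler modules and change of rings (lead's helper library)
-/

universe u

namespace Groth.Agent.Lib.MLBase_lead

open TensorProduct CAlg

variable {R S : Type u} [CommRing R] [CommRing S] [Algebra R S]

section restrict

variable {M : Type u} [AddCommGroup M] [Module S M] [Module R M] [IsScalarTower R S M]

theorem piRightHom_cancelBaseChange {ι : Type u} (Q : ι → Type u) [∀ i, AddCommGroup (Q i)]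
    [∀ i, Module R (Q i)] (x : M ⊗[S] (S ⊗[R] (∀ i, Q i))) (i : ι) :
    TensorProduct.AlgebraTensorModule.cancelBaseChange R S S M (Q i)
      (TensorProduct.piRightHom S S M (fun i => S ⊗[R] Q i)
        ((TensorProduct.piRightHom R S S Q).lTensor M x) i) =
    TensorProduct.piRightHom R R M Q
      (TensorProduct.AlgebraTensorModule.cancelBaseChange R S S M (∀ i, Q i) x) i := by
  induction x using TensorProduct.induction_on with
  | zero => simp
  | tmul m t =>
    induction t using TensorProduct.induction_on with
    | zero => simp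
    | tmul s q => simp
    | add a b ha hb => simp only [TensorProduct.tmul_add, map_add, Pi.add_apply, ha, hb]
  | add a b ha hb => simp only [map_add, Pi.add_apply, ha, hb]

theorem piRightHom_eq {ι : Type u} (Q : ι → Type u) [∀ i, AddCommGroup (Q i)]
    [∀ i, Module R (Q i)] (x : S ⊗[R] (∀ i, Q i)) :
    TensorProduct.piRightHom R S S Q x = TensorProduct.piRightHom R R S Q x := by
  induction x using TensorProduct.induction_on with
  | zero => simp
  | tmul s q => simp
  | add a b ha hb => simp only [map_add, ha, hb]

theorem isMittagLeffler_restrictScalars (hM : IsMittagLeffler S M)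
    (hS : ∀ (ι : Type u) (Q : ι → Type u) [∀ i, AddCommGroup (Q i)] [∀ i, Module R (Q i)],
      Function.Injective ((TensorProduct.piRightHom R S S Q).lTensor M)) :
    IsMittagLeffler R M := by
  intro ι Q _ _
  rw [injective_iff_map_eq_zero]
  intro x hx
  obtain ⟨x', rfl⟩ :=
    (TensorProduct.AlgebraTensorModule.cancelBaseChange R S S M (∀ i, Q i)).surjective x
  have h1 : TensorProduct.piRightHom S S M (fun i => S ⊗[R] Q i)
      ((TensorProduct.piRightHom R S S Q).lTensor M x') = 0 := by
    funext i
    apply (TensorProduct.AlgebraTensorModule.cancelBaseChange R S S M (Q i)).injective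
    rw [piRightHom_cancelBaseChange, hx]
    simp only [Pi.zero_apply, map_zero]
  have h2 := hM ι (fun i => S ⊗[R] Q i) (h1.trans (map_zero _).symm)
  have h3 := hS ι Q (h2.trans (map_zero _).symm)
  rw [h3, map_zero]

theorem isMittagLeffler_of_finitePresentation_algebra [Module.FinitePresentation R S]
    (hM : IsMittagLeffler S M) : IsMittagLeffler R M := by
  refine isMittagLeffler_restrictScalars hM fun ι Q _ _ => ?_
  have hbij : Function.Bijective (TensorProduct.piRightHom R S S Q) := by
    constructor
    · intro a b hab
      apply Groth.Agent.Lib.MittagLeffler_lead.of_finitePresentation (R := R) S ι Q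
      rw [← piRightHom_eq, ← piRightHom_eq, hab]
    · intro w
      obtain ⟨a, ha⟩ :=
        Groth.Agent.Lib.PiTensor_lead.piRightHom_surjective_of_finite (R := R) S Q w
      exact ⟨a, by rw [piRightHom_eq, ha]⟩
  let e := LinearEquiv.ofBijective (TensorProduct.piRightHom R S S Q) hbij
  have hcomp : e.symm.toLinearMap ∘ₗ (TensorProduct.piRightHom R S S Q) = LinearMap.id :=
    LinearMap.ext fun z => e.symm_apply_apply z
  apply Function.LeftInverse.injective (g := (e.symm.toLinearMap.lTensor M))
  intro z
  rw [← LinearMap.comp_apply, ← LinearMap.lTensor_comp, hcomp, LinearMap.lTensor_id,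
    LinearMap.id_apply]

theorem isMittagLeffler_of_flat (hS : IsMittagLeffler R S) [Module.Flat S M]
    (hM : IsMittagLeffler S M) : IsMittagLeffler R M := by
  refine isMittagLeffler_restrictScalars hM fun ι Q _ _ => ?_
  apply Module.Flat.lTensor_preserves_injective_linearMap
  intro a b hab
  apply hS ι Q
  rw [← piRightHom_eq, ← piRightHom_eq, hab]

theorem compatibleSMul_of_surjective (hsurj : Function.Surjective (algebraMap R S))
    (P : Type u) [AddCommGroup P] [Module S P] [Module R P] [IsScalarTower R S P] :
    TensorProduct.CompatibleSMul R S M P :=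
  ⟨fun r' m n => by
    obtain ⟨r, rfl⟩ := hsurj r'
    rw [algebraMap_smul, algebraMap_smul, TensorProduct.smul_tmul]⟩

theorem isMittagLeffler_of_surjective (hsurj : Function.Surjective (algebraMap R S))
    (hM : IsMittagLeffler R M) : IsMittagLeffler S M := by
  intro ι Q _ _
  letI : ∀ i, Module R (Q i) := fun i => Module.compHom (Q i) (algebraMap R S)
  haveI : ∀ i, IsScalarTower R S (Q i) := fun i =>
    IsScalarTower.of_algebraMap_smul fun r x => rfl
  haveI hc : ∀ i, TensorProduct.CompatibleSMul R S M (Q i) := fun i =>
    compatibleSMul_of_surjective hsurj (Q i)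
  haveI hc' : TensorProduct.CompatibleSMul R S M (∀ i, Q i) :=
    compatibleSMul_of_surjective hsurj (∀ i, Q i)
  have key : ∀ (x : M ⊗[S] (∀ i, Q i)) (i : ι),
      TensorProduct.piRightHom R R M Q
        (TensorProduct.equivOfCompatibleSMul R S S M (∀ i, Q i) x) i =
      TensorProduct.equivOfCompatibleSMul R S S M (Q i)
        (TensorProduct.piRightHom S S M Q x i) := by
    intro x i
    induction x using TensorProduct.induction_on with
    | zero => simp
    | tmul m q => rfl
    | add a b ha hb => simp only [map_add, Pi.add_apply, ha, hb]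
  rw [injective_iff_map_eq_zero]
  intro x hx
  have h1 : TensorProduct.equivOfCompatibleSMul R S S M (∀ i, Q i) x = 0 := by
    apply hM ι Q
    rw [map_zero]
    funext i
    rw [key, hx]
    simp only [Pi.zero_apply, map_zero]
  exact (LinearEquiv.map_eq_zero_iff _).mp h1

end restrict

section baseChange

/-- `(S ⊗[R] M) ⊗[S] P ≃ M ⊗[R] P`, additively. -/
noncomputable def bcEquiv (P : Type u) [AddCommGroup P] [Module S P] [Module R P]
    [IsScalarTower R S P] (M : Type u) [AddCommGroup M] [Module R M] :
    ((S ⊗[R] M) ⊗[S] P) ≃+ (M ⊗[R] P) :=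
  ((TensorProduct.comm S (S ⊗[R] M) P).toAddEquiv.trans
    (TensorProduct.AlgebraTensorModule.cancelBaseChange R S S P M).toAddEquiv).trans
    (TensorProduct.comm R P M).toAddEquiv

theorem bcEquiv_tmul (P : Type u) [AddCommGroup P] [Module S P] [Module R P]
    [IsScalarTower R S P] (M : Type u) [AddCommGroup M] [Module R M] (s : S) (m : M) (p : P) :
    bcEquiv (R := R) P M ((s ⊗ₜ[R] m) ⊗ₜ[S] p) = m ⊗ₜ[R] (s • p) := rfl

theorem isMittagLeffler_baseChange {M : Type u} [AddCommGroup M] [Module R M]
    (hM : IsMittagLeffler R M) : IsMittagLeffler S (S ⊗[R] M) := by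
  intro ι Q _ _
  letI : ∀ i, Module R (Q i) := fun i => Module.compHom (Q i) (algebraMap R S)
  haveI : ∀ i, IsScalarTower R S (Q i) := fun i =>
    IsScalarTower.of_algebraMap_smul fun r x => rfl
  have key : ∀ (x : (S ⊗[R] M) ⊗[S] (∀ i, Q i)) (i : ι),
      TensorProduct.piRightHom R R M Q (bcEquiv (R := R) (∀ i, Q i) M x) i =
      bcEquiv (R := R) (Q i) M (TensorProduct.piRightHom S S (S ⊗[R] M) Q x i) := by
    intro x i
    induction x using TensorProduct.induction_on with
    | zero => simp
    | tmul t q =>
      induction t using TensorProduct.induction_on with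
      | zero => simp
      | tmul s m =>
        rw [bcEquiv_tmul, TensorProduct.piRightHom_tmul, TensorProduct.piRightHom_tmul,
          bcEquiv_tmul]
        rfl
      | add a b ha hb => simp only [TensorProduct.add_tmul, map_add, Pi.add_apply, ha, hb]
    | add a b ha hb => simp only [map_add, Pi.add_apply, ha, hb]
  rw [injective_iff_map_eq_zero]
  intro x hx
  have h1 : bcEquiv (R := R) (∀ i, Q i) M x = 0 := by
    apply hM ι Q
    rw [map_zero]
    funext i
    rw [key, hx]
    simp only [Pi.zero_apply, map_zero]
  exact (AddEquiv.map_eq_zero_iff _).mp h1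

end baseChange

end Groth.Agent.Lib.MLBase_lead
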