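import Groth.Agent.Lib.MLDom_lead

/-!
# Mittag-Leffler modules and directed colimits (lead's helper library)
-/

universe u

namespace Groth.Agent.Lib.MLColim_lead

open TensorProduct CAlg Groth.Agent.Lib.MLPure_lead Groth.Agent.Lib.MLDom_lead

variable {R : Type u} [CommRing R] {ι : Type u} [Preorder ι] [IsDirected ι (· ≤ ·)]
  [DecidableEq ι] (G : ι → Type u) [∀ i, AddCommGroup (G i)] [∀ i, Module R (G i)]
  (f : ∀ i j, i ≤ j → G i →ₗ[R] G j) [DirectedSystem G fun i j h => f i j h]

theorem exists_rTensor_eq_zero (N : Type u) [AddCommGroup N] [Module R N] (i : ι)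
    (x : G i ⊗[R] N) (hx : ((Module.DirectLimit.of R ι G f i).rTensor N) x = 0) :
    ∃ (k : ι) (hik : i ≤ k), ((f i k hik).rTensor N) x = 0 := by
  have key := TensorProduct.directLimitLeft_rTensor_of f N x
  rw [hx, map_zero] at key
  exact Module.DirectLimit.of.zero_exact key.symm

theorem exists_rTensor_of [Nonempty ι] (N : Type u) [AddCommGroup N] [Module R N]
    (y : Module.DirectLimit G f ⊗[R] N) :
    ∃ (i : ι) (x : G i ⊗[R] N), ((Module.DirectLimit.of R ι G f i).rTensor N) x = y := by
  obtain ⟨i, x, hx⟩ := Module.DirectLimit.exists_of (TensorProduct.directLimitLeft f N y)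
  refine ⟨i, x, ?_⟩
  apply (TensorProduct.directLimitLeft f N).injective
  rw [TensorProduct.directLimitLeft_rTensor_of, hx]

theorem of_eq_comp (i j : ι) (hij : i ≤ j) :
    Module.DirectLimit.of R ι G f i = Module.DirectLimit.of R ι G f j ∘ₗ f i j hij :=
  LinearMap.ext fun _ => (Module.DirectLimit.of_f).symm

theorem isMittagLeffler_directLimit
    (hf : ∀ i j (h : i ≤ j) (Q : Type u) [AddCommGroup Q] [Module R Q],
      Function.Injective ((f i j h).rTensor Q))
    (hG : ∀ i, IsMittagLeffler R (G i)) : IsMittagLeffler R (Module.DirectLimit G f) := by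
  intro κ Q _ _
  rcases isEmpty_or_nonempty ι with hι | hι
  · have hzero : ∀ x : Module.DirectLimit G f ⊗[R] (∀ a, Q a), x = 0 := by
      intro x
      induction x using TensorProduct.induction_on with
      | zero => rfl
      | tmul m p => rw [Subsingleton.elim m 0, TensorProduct.zero_tmul]
      | add a b ha hb => rw [ha, hb, add_zero]
    intro a b _
    rw [hzero a, hzero b]
  · rw [injective_iff_map_eq_zero]
    intro x hx
    obtain ⟨i, xi, rfl⟩ := exists_rTensor_of G f (∀ a, Q a) x
    have hxi : xi = 0 := by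
      apply hG i κ Q
      rw [map_zero]
      funext α
      rw [piRightHom_apply]
      have h1 : ((Module.DirectLimit.of R ι G f i).rTensor (Q α))
          ((LinearMap.proj α : (∀ a, Q a) →ₗ[R] Q α).lTensor (G i) xi) = 0 := by
        rw [rTensor_lTensor_comm, ← piRightHom_apply, hx]
        rfl
      obtain ⟨k, hik, hk⟩ := exists_rTensor_eq_zero G f (Q α) i _ h1
      have := hf i k hik (Q α) (hk.trans (map_zero _).symm)
      rw [this]
      rfl
    rw [hxi, map_zero]

theorem isMittagLeffler_directLimit_iff [Nonempty ι] [∀ i, Module.FinitePresentation R (G i)] :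
    IsMittagLeffler R (Module.DirectLimit G f) ↔
      ∀ i, ∃ (j : ι) (hij : i ≤ j), ∀ (k : ι) (hik : i ≤ k),
        ∃ h : G k →ₗ[R] G j, f i j hij = h ∘ₗ f i k hik := by
  constructor
  · intro hM i
    have claim : ∃ (j : ι) (hij : i ≤ j), ∀ N : ModuleCat.{u} R,
        LinearMap.ker ((Module.DirectLimit.of R ι G f i).rTensor N) ≤
          LinearMap.ker ((f i j hij).rTensor N) := by
      by_contra hcon
      push Not at hcon
      have hcon' : ∀ j : {j : ι // i ≤ j}, ∃ (N : ModuleCat.{u} R) (y : G i ⊗[R] N),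
          ((Module.DirectLimit.of R ι G f i).rTensor N) y = 0 ∧
            ((f i j.1 j.2).rTensor N) y ≠ 0 := by
        intro j
        obtain ⟨N, hN⟩ := hcon j.1 j.2
        obtain ⟨y, hy, hy'⟩ := SetLike.not_le_iff_exists.mp hN
        exact ⟨N, y, LinearMap.mem_ker.mp hy, fun h0 => hy' (LinearMap.mem_ker.mpr h0)⟩
      choose N y hy hy' using hcon'
      obtain ⟨yt, hyt⟩ := Groth.Agent.Lib.PiTensor_lead.piRightHom_surjective_of_finite (G i)
        (fun j => (N j : Type u)) (fun j => y j)
      have hcomp : ∀ j, (LinearMap.proj j : (∀ j, N j) →ₗ[R] N j).lTensor (G i) yt = y j := by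
        intro j
        rw [← piRightHom_apply, hyt]
      have hξ : ((Module.DirectLimit.of R ι G f i).rTensor (∀ j, N j)) yt = 0 := by
        apply hM {j : ι // i ≤ j} (fun j => (N j : Type u))
        rw [map_zero]
        funext j
        rw [piRightHom_apply, ← rTensor_lTensor_comm, hcomp, hy]
        rfl
      obtain ⟨k, hik, hk⟩ := exists_rTensor_eq_zero G f (∀ j, N j) i yt hξ
      apply hy' ⟨k, hik⟩
      rw [← hcomp ⟨k, hik⟩, rTensor_lTensor_comm, hk, map_zero]
    obtain ⟨j, hij, hj⟩ := claim
    refine ⟨j, hij, fun k hik => ?_⟩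
    have : Module.FinitePresentation R (G k ⧸ LinearMap.range (f i k hik)) :=
      Module.finitePresentation_of_surjective (LinearMap.range (f i k hik)).mkQ
        (Submodule.mkQ_surjective _) (by rw [Submodule.ker_mkQ]; exact Submodule.fg_range _)
    apply factor_of_dominates (f i k hik) (f i j hij)
    intro Q _ _ x hx
    apply hj (ModuleCat.of R Q)
    rw [LinearMap.mem_ker] at hx ⊢
    rw [of_eq_comp G f i k hik, LinearMap.rTensor_comp, LinearMap.comp_apply, hx, map_zero]
  · intro hcond κ Q _ _
    rw [injective_iff_map_eq_zero]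
    intro x hx
    obtain ⟨i, xi, rfl⟩ := exists_rTensor_of G f (∀ a, Q a) x
    obtain ⟨j, hij, hj⟩ := hcond i
    have h0 : ((f i j hij).rTensor (∀ a, Q a)) xi = 0 := by
      apply Groth.Agent.Lib.MittagLeffler_lead.of_finitePresentation (G j) κ Q
      rw [map_zero]
      funext α
      rw [piRightHom_apply, ← rTensor_lTensor_comm]
      have h1 : ((Module.DirectLimit.of R ι G f i).rTensor (Q α))
          ((LinearMap.proj α : (∀ a, Q a) →ₗ[R] Q α).lTensor (G i) xi) = 0 := by
        rw [rTensor_lTensor_comm, ← piRightHom_apply, hx]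
        rfl
      obtain ⟨k, hik, hk⟩ := exists_rTensor_eq_zero G f (Q α) i _ h1
      obtain ⟨h, hh⟩ := hj k hik
      rw [hh, LinearMap.rTensor_comp, LinearMap.comp_apply, hk, map_zero]
      rfl
    rw [of_eq_comp G f i j hij, LinearMap.rTensor_comp, LinearMap.comp_apply, h0, map_zero]

end Groth.Agent.Lib.MLColim_lead
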