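import Mathlib

/-!
# Mittag-Leffler for ℕ-indexed inverse systems of abelian groups via graded pieces (helper1)
-/

set_option autoImplicit false

namespace Groth.Agent.Lib.MLGradedH1

universe u

open CategoryTheory Opposite

variable (F : ℕᵒᵖ ⥤ AddCommGrpCat.{u})

/-- transition map -/
def r {p k : ℕ} (h : p ≤ k) : F.obj (op k) →+ F.obj (op p) := (F.map (homOfLE h).op).hom

theorem r_comp {p q k : ℕ} (hpq : p ≤ q) (hqk : q ≤ k) (x : F.obj (op k)) :
    r F hpq (r F hqk x) = r F (hpq.trans hqk) x := by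
  unfold r
  have : (homOfLE (hpq.trans hqk)).op = (homOfLE hqk).op ≫ (homOfLE hpq).op :=
    Quiver.Hom.unop_inj (Subsingleton.elim _ _)
  rw [this, F.map_comp]
  rfl

theorem range_mono {p q k : ℕ} (hpq : p ≤ q) (hqk : q ≤ k) :
    (r F (hpq.trans hqk)).range ≤ (r F hpq).range := by
  rintro _ ⟨x, rfl⟩
  exact ⟨r F hqk x, r_comp F hpq hqk x⟩

/-- images in `A_p` eventually constant -/
def EC (p : ℕ) : Prop :=
  ∃ k₀ : ℕ, ∃ h₀ : p ≤ k₀, ∀ (k : ℕ) (hk : k₀ ≤ k), (r F (h₀.trans hk)).range = (r F h₀).range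

theorem hom_eq {i : ℕᵒᵖ} {p : ℕ} (f : i ⟶ op p) :
    f = (homOfLE (leOfHom f.unop)).op := Quiver.Hom.unop_inj (Subsingleton.elim _ _)

theorem range_forget {i : ℕᵒᵖ} {p : ℕ} (f : i ⟶ op p) :
    Set.range ((F ⋙ forget AddCommGrpCat).map f) = ((r F (leOfHom f.unop)).range : Set _) := by
  conv_lhs => rw [hom_eq f]
  rfl

theorem ml_iff : (F ⋙ forget AddCommGrpCat).IsMittagLeffler ↔ ∀ p, EC F p := by
  constructor
  · intro h p
    obtain ⟨i, f, hf⟩ := h (op p)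
    refine ⟨i.unop, leOfHom f.unop, fun k hk => le_antisymm (range_mono F _ hk) ?_⟩
    have h1 := hf (homOfLE ((leOfHom f.unop).trans hk)).op
    rw [range_forget, range_forget] at h1
    exact h1
  · intro h j
    obtain ⟨k₀, h₀, hc⟩ := h j.unop
    refine ⟨op k₀, (homOfLE h₀).op, fun k g => ?_⟩
    have hg : g = (homOfLE (leOfHom g.unop)).op := hom_eq (p := j.unop) g
    rw [range_forget (p := j.unop), range_forget (p := j.unop)]
    show ((r F h₀).range : Set (F.obj (op j.unop))) ⊆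
      ((r F (leOfHom g.unop)).range : Set (F.obj (op j.unop)))
    rcases le_total k₀ k.unop with hle | hle
    · have := hc k.unop hle
      intro x hx
      have hx' : x ∈ (r F h₀).range := hx
      rw [← this] at hx'
      exact hx'
    · intro x hx
      exact range_mono F (leOfHom g.unop) hle hx

theorem ec_succ (p : ℕ) (h1 : EC F p)
    (h2 : ∃ k₀ : ℕ, ∃ h₀ : p + 1 ≤ k₀, ∀ (k : ℕ) (hk : k₀ ≤ k),
      (r F (h₀.trans hk)).range ⊓ (r F (Nat.le_succ p)).ker =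
        (r F h₀).range ⊓ (r F (Nat.le_succ p)).ker) : EC F (p + 1) := by
  obtain ⟨k₁, h₁, c₁⟩ := h1
  obtain ⟨k₂, h₂, c₂⟩ := h2
  have h₀ : p + 1 ≤ max k₁ k₂ := h₂.trans (le_max_right _ _)
  refine ⟨max k₁ k₂, h₀, fun k hk => le_antisymm (range_mono F _ hk) ?_⟩
  rintro x ⟨y, rfl⟩
  have hpk0 : p ≤ max k₁ k₂ := (Nat.le_succ p).trans h₀
  have hk1 : k₁ ≤ k := (le_max_left _ _).trans hk
  have hk2 : k₂ ≤ k := (le_max_right _ _).trans hk
  -- π x lies in the image from level k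
  have hπ : r F (Nat.le_succ p) (r F h₀ y) ∈ (r F (hpk0.trans hk)).range := by
    rw [r_comp]
    have e1 := c₁ (max k₁ k₂) (le_max_left _ _)
    have e2 := c₁ k hk1
    have : r F hpk0 y ∈ (r F hpk0).range := ⟨y, rfl⟩
    have h3 : r F hpk0 y ∈ (r F h₁).range := by rw [← e1]; exact this
    rw [← e2] at h3
    exact h3
  obtain ⟨z, hz⟩ := hπ
  have hx' : r F (Nat.le_succ p) (r F (h₀.trans hk) z) = r F (Nat.le_succ p) (r F h₀ y) := by
    rw [r_comp]; exact hz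
  have hker : r F h₀ y - r F (h₀.trans hk) z ∈ (r F (Nat.le_succ p)).ker := by
    rw [AddMonoidHom.mem_ker, map_sub, hx', sub_self]
  have hrange : r F h₀ y - r F (h₀.trans hk) z ∈ (r F h₀).range :=
    sub_mem ⟨y, rfl⟩ (range_mono F h₀ hk ⟨z, rfl⟩)
  have hmem : r F h₀ y - r F (h₀.trans hk) z ∈
      (r F h₀).range ⊓ (r F (Nat.le_succ p)).ker := ⟨hrange, hker⟩
  have e3 := c₂ (max k₁ k₂) (le_max_right _ _)
  have e4 := c₂ k hk2
  have hmem' : r F h₀ y - r F (h₀.trans hk) z ∈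
      (r F (h₀.trans hk)).range ⊓ (r F (Nat.le_succ p)).ker := by
    have h5 : r F h₀ y - r F (h₀.trans hk) z ∈
        (r F h₂).range ⊓ (r F (Nat.le_succ p)).ker := by rw [← e3]; exact hmem
    rw [← e4] at h5
    exact h5
  have := add_mem hmem'.1 (⟨z, rfl⟩ : r F (h₀.trans hk) z ∈ (r F (h₀.trans hk)).range)
  rwa [sub_add_cancel] at this

theorem S3532 :
    (F ⋙ forget AddCommGrpCat).IsMittagLeffler ↔
      ((∃ k₀ : ℕ, ∀ (k : ℕ) (hk : k₀ ≤ k),
          (F.map (homOfLE (Nat.zero_le k)).op).hom.range =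
            (F.map (homOfLE (Nat.zero_le k₀)).op).hom.range) ∧
        ∀ p : ℕ, ∃ k₀ : ℕ, ∃ h₀ : p + 1 ≤ k₀, ∀ (k : ℕ) (hk : k₀ ≤ k),
          (F.map (homOfLE (h₀.trans hk)).op).hom.range ⊓
              (F.map (homOfLE (Nat.le_succ p)).op).hom.ker =
            (F.map (homOfLE h₀).op).hom.range ⊓ (F.map (homOfLE (Nat.le_succ p)).op).hom.ker) := by
  rw [ml_iff]
  constructor
  · intro h
    refine ⟨?_, fun p => ?_⟩
    · obtain ⟨k₀, h₀, c⟩ := h 0
      exact ⟨k₀, fun k hk => c k hk⟩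
    · obtain ⟨k₀, h₀, c⟩ := h (p + 1)
      refine ⟨k₀, h₀, fun k hk => ?_⟩
      have := c k hk
      show (r F (h₀.trans hk)).range ⊓ _ = (r F h₀).range ⊓ _
      rw [this]
  · rintro ⟨h0, hs⟩ p
    induction p with
    | zero =>
      obtain ⟨k₀, c⟩ := h0
      exact ⟨k₀, Nat.zero_le _, fun k hk => c k hk⟩
    | succ p ih => exact ec_succ F p ih (hs p)

end Groth.Agent.Lib.MLGradedH1
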