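import Groth.Agent.Lib.MLDom_lead
import Mathlib.RingTheory.Flat.Basic
import Mathlib.RingTheory.Flat.Tensor
import Mathlib.RingTheory.TensorProduct.Finite

/-!
# More on Mittag-Leffler modules (lead's helper library)

* `dominates_iff_pushout_injective` : domination via the pushout.
* `flat_pi`, `isMittagLeffler_pi` : over a Noetherian ring `A → R` is flat and Mittag-Leffler.
* `exists_smallest_submodule`, `isMittagLeffler_of_smallest` : flat Mittag-Leffler modules and
  smallest submodules `F'` with `x ∈ F' ⊗ M`.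
-/

universe u

namespace Groth.Agent.Lib.MLMore_lead

open TensorProduct CAlg Groth.Agent.Lib.MLPure_lead Groth.Agent.Lib.MLDom_lead

variable {R : Type u} [CommRing R]

section pushout

variable {M N M' : Type u} [AddCommGroup M] [Module R M] [AddCommGroup N] [Module R N]
  [AddCommGroup M'] [Module R M']

theorem pushout_comm (f : M →ₗ[R] N) (g : M →ₗ[R] M') :
    ((LinearMap.range (g.prod (-f))).mkQ ∘ₗ LinearMap.inl R M' N) ∘ₗ g =
      ((LinearMap.range (g.prod (-f))).mkQ ∘ₗ LinearMap.inr R M' N) ∘ₗ f := by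
  refine LinearMap.ext fun x => ?_
  simp only [LinearMap.comp_apply, LinearMap.inl_apply, LinearMap.inr_apply]
  rw [← sub_eq_zero, ← map_sub, Submodule.mkQ_apply, Submodule.Quotient.mk_eq_zero]
  exact ⟨x, by simp [LinearMap.prod_apply]⟩

theorem dominates_iff_pushout_injective (f : M →ₗ[R] N) (g : M →ₗ[R] M') :
    (∀ (Q : Type u) [AddCommGroup Q] [Module R Q],
      LinearMap.ker (f.rTensor Q) ≤ LinearMap.ker (g.rTensor Q)) ↔
      ∀ (Q : Type u) [AddCommGroup Q] [Module R Q], Function.Injective
        (((LinearMap.range (g.prod (-f))).mkQ ∘ₗ LinearMap.inl R M' N).rTensor Q) := by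
  constructor
  · intro hdom Q _ _
    rw [injective_iff_map_eq_zero]
    intro y hy
    rw [LinearMap.rTensor_comp, LinearMap.comp_apply] at hy
    have hex : Function.Exact ((g.prod (-f)).rTensor Q)
        ((LinearMap.range (g.prod (-f))).mkQ.rTensor Q) :=
      rTensor_exact Q (LinearMap.exact_map_mkQ_range (g.prod (-f))) (Submodule.mkQ_surjective _)
    obtain ⟨z, hz⟩ := (hex _).mp hy
    have h1 : (g.rTensor Q) z = y := by
      have := congrArg ((LinearMap.fst R M' N).rTensor Q) hz
      rw [← LinearMap.comp_apply, ← LinearMap.rTensor_comp, ← LinearMap.comp_apply,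
        ← LinearMap.rTensor_comp, LinearMap.fst_prod, LinearMap.fst_comp_inl,
        LinearMap.rTensor_id, LinearMap.id_apply] at this
      exact this
    have h2 : (f.rTensor Q) z = 0 := by
      have := congrArg ((LinearMap.snd R M' N).rTensor Q) hz
      rw [← LinearMap.comp_apply, ← LinearMap.rTensor_comp, ← LinearMap.comp_apply,
        ← LinearMap.rTensor_comp, LinearMap.snd_prod, LinearMap.snd_comp_inl,
        LinearMap.rTensor_zero, LinearMap.zero_apply, LinearMap.rTensor_neg,
        LinearMap.neg_apply, neg_eq_zero] at this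
      exact this
    rw [← h1]
    exact LinearMap.mem_ker.mp (hdom Q (LinearMap.mem_ker.mpr h2))
  · intro hinj Q _ _ z hz
    rw [LinearMap.mem_ker] at hz ⊢
    apply hinj Q
    rw [map_zero, ← LinearMap.comp_apply, ← LinearMap.rTensor_comp, pushout_comm,
      LinearMap.rTensor_comp, LinearMap.comp_apply, hz, map_zero]

end pushout

section prod

variable (A : Type u)

/-- The canonical map `(A → R) ⊗ Q → (A → Q)`. -/
noncomputable def sig (Q : Type u) [AddCommGroup Q] [Module R Q] :
    (A → R) ⊗[R] Q →ₗ[R] (A → Q) :=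
  LinearMap.pi fun a => (TensorProduct.lid R Q).toLinearMap ∘ₗ
    (LinearMap.proj a : (A → R) →ₗ[R] R).rTensor Q

theorem sig_tmul (Q : Type u) [AddCommGroup Q] [Module R Q] (φ : A → R) (q : Q) (a : A) :
    sig A Q (φ ⊗ₜ[R] q) a = φ a • q := by
  simp [sig]

theorem sig_natural {Q Q' : Type u} [AddCommGroup Q] [Module R Q] [AddCommGroup Q'] [Module R Q']
    (ψ : Q →ₗ[R] Q') (x : (A → R) ⊗[R] Q) (a : A) :
    sig A Q' ((ψ.lTensor (A → R)) x) a = ψ (sig A Q x a) := by
  induction x using TensorProduct.induction_on with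
  | zero => simp
  | tmul φ q => simp [sig_tmul]
  | add x y hx hy => simp only [map_add, Pi.add_apply, hx, hy]

theorem sig_injective_of_fp (P : Type u) [AddCommGroup P] [Module R P]
    [Module.FinitePresentation R P] : Function.Injective (sig (R := R) A P) := by
  rw [injective_iff_map_eq_zero]
  intro x hx
  have key : ∀ (x : (A → R) ⊗[R] P) (a : A), TensorProduct.rid R P
      (TensorProduct.piRightHom R R P (fun _ : A => R) (TensorProduct.comm R (A → R) P x) a) =
        sig A P x a := by
    intro x a
    induction x using TensorProduct.induction_on with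
    | zero => simp
    | tmul φ p => simp [sig_tmul]
    | add x y hx hy => simp only [map_add, Pi.add_apply, hx, hy]
  have h1 : TensorProduct.piRightHom R R P (fun _ : A => R)
      (TensorProduct.comm R (A → R) P x) = 0 := by
    funext a
    apply (TensorProduct.rid R P).injective
    rw [key, hx]
    simp
  have h2 := Groth.Agent.Lib.MittagLeffler_lead.of_finitePresentation P A (fun _ => R)
    (h1.trans (map_zero _).symm)
  exact (LinearEquiv.map_eq_zero_iff _).mp h2

theorem sig_injective [IsNoetherianRing R] (Q : Type u) [AddCommGroup Q] [Module R Q] :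
    Function.Injective (sig (R := R) A Q) := by
  rw [injective_iff_map_eq_zero]
  intro x hx
  obtain ⟨Q', hQ', hxQ'⟩ := TensorProduct.exists_finite_submodule_right_of_setFinite
    ({x} : Set ((A → R) ⊗[R] Q)) (Set.finite_singleton x)
  obtain ⟨x', rfl⟩ := hxQ' (Set.mem_singleton x)
  haveI : Module.FinitePresentation R Q' := Module.finitePresentation_of_finite R Q'
  have h0 : sig A Q' x' = 0 := by
    funext a
    have := sig_natural A Q'.subtype x' a
    rw [hx] at this
    apply Subtype.ext
    simpa using this.symm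
  rw [sig_injective_of_fp A Q' (h0.trans (map_zero _).symm), map_zero]

theorem isMittagLeffler_pi [IsNoetherianRing R] : IsMittagLeffler R (A → R) := by
  intro ι Q _ _
  rw [injective_iff_map_eq_zero]
  intro x hx
  apply sig_injective A (∀ i, Q i)
  rw [map_zero]
  funext a
  funext i
  have h1 := sig_natural A (LinearMap.proj i : (∀ i, Q i) →ₗ[R] Q i) x a
  rw [← piRightHom_apply, hx] at h1
  simpa using h1.symm

theorem flat_pi [IsNoetherianRing R] : Module.Flat R (A → R) := by
  rw [Module.Flat.iff_lTensor_injective]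
  intro I _
  rw [injective_iff_map_eq_zero]
  intro x hx
  apply sig_injective A I
  rw [map_zero]
  funext a
  have h1 := sig_natural A I.subtype x a
  rw [hx] at h1
  apply Subtype.ext
  simpa using h1.symm

end prod

section smallest

theorem comm_rTensor {A B N : Type*} [AddCommGroup A] [Module R A] [AddCommGroup B] [Module R B]
    [AddCommGroup N] [Module R N] (ψ : A →ₗ[R] B) (w : A ⊗[R] N) :
    TensorProduct.comm R B N ((ψ.rTensor N) w) = (ψ.lTensor N) (TensorProduct.comm R A N w) := by
  induction w using TensorProduct.induction_on with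
  | zero => simp
  | tmul a b => simp
  | add x y hx hy => simp only [map_add, hx, hy]

theorem exists_smallest_submodule {M : Type u} [AddCommGroup M] [Module R M] [Module.Flat R M]
    (hM : IsMittagLeffler R M) (F : Type u) [AddCommGroup F] [Module R F] (x : F ⊗[R] M) :
    ∃ F' : Submodule R F, F'.FG ∧ x ∈ LinearMap.range (F'.subtype.rTensor M) ∧
      ∀ F'' : Submodule R F, x ∈ LinearMap.range (F''.subtype.rTensor M) → F' ≤ F'' := by
  classical
  let S := {F'' : Submodule R F // x ∈ LinearMap.range (F''.subtype.rTensor M)}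
  let Φ : F →ₗ[R] (∀ α : S, F ⧸ α.1) := LinearMap.pi fun α => α.1.mkQ
  have hF'le : ∀ F'' : Submodule R F, x ∈ LinearMap.range (F''.subtype.rTensor M) →
      LinearMap.ker Φ ≤ F'' := by
    intro F'' hF'' y hy
    have h0 : Φ y ⟨F'', hF''⟩ = 0 := by
      rw [LinearMap.mem_ker.mp hy]
      rfl
    have h1 : F''.mkQ y = 0 := h0
    rwa [Submodule.mkQ_apply, Submodule.Quotient.mk_eq_zero] at h1
  have hΦx : (Φ.rTensor M) x = 0 := by
    have h1 : TensorProduct.comm R _ M ((Φ.rTensor M) x) = 0 := by
      apply hM S (fun α => F ⧸ α.1)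
      rw [map_zero]
      funext α
      rw [piRightHom_apply, ← comm_rTensor, ← LinearMap.comp_apply (LinearMap.rTensor M _),
        ← LinearMap.rTensor_comp]
      have hproj : (LinearMap.proj α : (∀ α : S, F ⧸ α.1) →ₗ[R] F ⧸ α.1) ∘ₗ Φ = α.1.mkQ :=
        LinearMap.ext fun y => rfl
      rw [hproj]
      have hzero : (LinearMap.rTensor M α.1.mkQ) x = 0 := by
        obtain ⟨x', hx'⟩ := α.2
        have h00 : α.1.mkQ ∘ₗ α.1.subtype = 0 := LinearMap.ext fun y => by simp
        have := congrArg (LinearMap.rTensor M α.1.mkQ) hx'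
        rw [← LinearMap.comp_apply, ← LinearMap.rTensor_comp, h00, LinearMap.rTensor_zero,
          LinearMap.zero_apply] at this
        exact this.symm
      rw [hzero, map_zero]
      rfl
    exact (LinearEquiv.map_eq_zero_iff _).mp h1
  have hex : Function.Exact ((LinearMap.ker Φ).subtype.rTensor M) (Φ.rTensor M) :=
    Module.Flat.rTensor_exact M (LinearMap.exact_subtype_ker_map Φ)
  have hxF' : x ∈ LinearMap.range ((LinearMap.ker Φ).subtype.rTensor M) := (hex x).mp hΦx
  obtain ⟨x', hx'⟩ := hxF'
  obtain ⟨J, hJfg, hJle, y, hy⟩ := Submodule.exists_fg_le_eq_rTensor_inclusion x'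
  have hxJ : x ∈ LinearMap.range (J.subtype.rTensor M) := by
    refine ⟨y, ?_⟩
    rw [← hx', hy, ← LinearMap.comp_apply, ← LinearMap.rTensor_comp]
    rfl
  have hF'J : LinearMap.ker Φ = J := le_antisymm (hF'le J hxJ) hJle
  exact ⟨LinearMap.ker Φ, hF'J ▸ hJfg, ⟨x', hx'⟩, hF'le⟩

theorem isMittagLeffler_of_smallest {M : Type u} [AddCommGroup M] [Module R M] [Module.Flat R M]
    (h : ∀ (n : ℕ) (x : (Fin n → R) ⊗[R] M), ∃ F' : Submodule R (Fin n → R),
      x ∈ LinearMap.range (F'.subtype.rTensor M) ∧
      ∀ F'' : Submodule R (Fin n → R), x ∈ LinearMap.range (F''.subtype.rTensor M) → F' ≤ F'') :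
    IsMittagLeffler R M := by
  classical
  intro ι Q _ _
  rw [injective_iff_map_eq_zero]
  intro y hy
  obtain ⟨n, m, q, rfl⟩ := TensorProduct.exists_sum_tmul_eq y
  let x : (Fin n → R) ⊗[R] M := ∑ k, (Pi.single k (1 : R) : Fin n → R) ⊗ₜ[R] m k
  let φ : (Fin n → R) →ₗ[R] (∀ i, Q i) := Fintype.linearCombination R q
  have hφx : TensorProduct.comm R _ M ((φ.rTensor M) x) = ∑ k, m k ⊗ₜ[R] q k := by
    simp only [x, φ, map_sum, LinearMap.rTensor_tmul, Fintype.linearCombination_apply_single,
      one_smul, TensorProduct.comm_tmul]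
  obtain ⟨F', hxF', hF'min⟩ := h n x
  have hle : F' ≤ LinearMap.ker φ := by
    intro v hv
    rw [LinearMap.mem_ker]
    funext i
    have hi : F' ≤ LinearMap.ker ((LinearMap.proj i : (∀ i, Q i) →ₗ[R] Q i) ∘ₗ φ) := by
      refine hF'min _ ?_
      have hex := Module.Flat.rTensor_exact M
        (LinearMap.exact_subtype_ker_map ((LinearMap.proj i : (∀ i, Q i) →ₗ[R] Q i) ∘ₗ φ))
      apply (hex x).mp
      have h1 : TensorProduct.comm R _ M
          ((((LinearMap.proj i : (∀ i, Q i) →ₗ[R] Q i) ∘ₗ φ).rTensor M) x) = 0 := by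
        rw [LinearMap.rTensor_comp, LinearMap.comp_apply, comm_rTensor, hφx, ← piRightHom_apply,
          hy]
        rfl
      exact (LinearEquiv.map_eq_zero_iff _).mp h1
    exact LinearMap.mem_ker.mp (hi hv)
  obtain ⟨x', hx'⟩ := hxF'
  rw [← hφx, ← hx', ← LinearMap.comp_apply, ← LinearMap.rTensor_comp]
  have h00 : φ ∘ₗ F'.subtype = 0 := LinearMap.ext fun v => LinearMap.mem_ker.mp (hle v.2)
  rw [h00, LinearMap.rTensor_zero, LinearMap.zero_apply, map_zero]

end smallest

end Groth.Agent.Lib.MLMore_lead
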