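import Mathlib
import Groth.Prelude
import Groth.Agent.Lib.QCohAb_helper3
import Groth.Agent.Lib.QCohCrit2_helper9
import Groth.Agent.Lib.SubExt3_helper9
import Groth.Agent.Lib.CohOpen1_helper8
import Groth.Agent.Lib.CohOpen2_helper8
import Groth.Agent.Lib.QCohExact_helper9
import Groth.Agent.Lib.QCohFT_helper9

/-!
# Noetherian objects of `QCoh(Y)` on a Noetherian scheme are the coherent modules (lead)

`(⇐)` is `QCohCrit.acc_qcoh_subobjects` (helper9) transported along the exact fully faithful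
inclusion; `(⇒)`: a maximal quasi-coherent submodule of finite type is everything, because every
local section lies in a quasi-coherent submodule of finite type (EGA I 9.4.9, helper9).
-/

set_option autoImplicit false
set_option linter.all false
set_option maxHeartbeats 1600000
set_option backward.isDefEq.respectTransparency false
set_option backward.isDefEq.respectTransparency.types false
set_option backward.defeqAttrib.useBackward true

universe u

open CategoryTheory CategoryTheory.Limits AlgebraicGeometry Opposite TopologicalSpace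
open QcqsLoc QCohExtn

namespace Groth.Agent.Lib.QCohNoethL

open Groth.Agent.Lib.QCohFinLimH3

variable {Y : Scheme.{u}}

theorem isFiniteType_of_epi' {M N : Y.Modules} [M.IsQuasicoherent] [N.IsQuasicoherent]
    (hM : SheafOfModules.IsFiniteType (R := Y.ringCatSheaf) M) (π : M ⟶ N) [Epi π] :
    SheafOfModules.IsFiniteType (R := Y.ringCatSheaf) N := by
  haveI := hM
  refine QCohCrit.isFiniteType_of_sections_cover N
    (fun V : Y.affineOpens => (V : Y.Opens)) (fun V => V.2) (iSup_affineOpens_eq_top Y)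
    (fun V => ?_)
  haveI := QCohFT.finite_of_isFiniteType M V.2
  have hs : Function.Surjective (π.app V.1) := QCohExact.app_surjective_of_epi π V.2
  let ψ : Γ(M, V.1) →ₗ[Γ(Y, V.1)] Γ(N, V.1) :=
    { toFun := fun x => π.app V.1 x
      map_add' := fun x y => map_add (π.app V.1).hom x y
      map_smul' := fun r m => Scheme.Modules.Hom.app_smul π r m }
  exact Module.Finite.of_surjective ψ hs

/-- (helper5's `RelSerre.isFiniteType_biprod`, copied to keep the imports light) -/
theorem isFiniteType_biprod' (F₁ F₂ : Y.Modules) [F₁.IsQuasicoherent] [F₂.IsQuasicoherent]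
    (h₁ : SheafOfModules.IsFiniteType (R := Y.ringCatSheaf) F₁)
    (h₂ : SheafOfModules.IsFiniteType (R := Y.ringCatSheaf) F₂) :
    SheafOfModules.IsFiniteType (R := Y.ringCatSheaf) (F₁ ⊞ F₂) := by
  haveI hq : (F₁ ⊞ F₂ : Y.Modules).IsQuasicoherent := CohOpenH8.isQuasicoherent_biprod F₁ F₂
  refine QCohCrit.isFiniteType_of_sections_cover (F₁ ⊞ F₂) (fun V : Y.affineOpens => (V : Y.Opens))
    (fun V => V.2) (iSup_affineOpens_eq_top Y) (fun V => ?_)
  haveI := QCohFT.finite_of_isFiniteType F₁ V.2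
  haveI := QCohFT.finite_of_isFiniteType F₂ V.2
  let lin : (Γ(F₁, (V : Y.Opens)) × Γ(F₂, (V : Y.Opens))) →ₗ[Γ(Y, (V : Y.Opens))]
      Γ(F₁ ⊞ F₂, (V : Y.Opens)) :=
    { toFun := fun ab => ap (biprod.inl : F₁ ⟶ F₁ ⊞ F₂) V ab.1 +
        ap (biprod.inr : F₂ ⟶ F₁ ⊞ F₂) V ab.2
      map_add' := fun a b => by
        simp only [Prod.fst_add, Prod.snd_add, map_add]
        abel
      map_smul' := fun r a => by
        simp only [Prod.smul_fst, Prod.smul_snd, RingHom.id_apply, smul_add]
        rw [ap_smul, ap_smul] }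
  refine Module.Finite.of_surjective lin ?_
  intro x
  refine ⟨(ap (biprod.fst : F₁ ⊞ F₂ ⟶ F₁) V x, ap (biprod.snd : F₁ ⊞ F₂ ⟶ F₂) V x), ?_⟩
  have h := congrArg (fun φ : F₁ ⊞ F₂ ⟶ F₁ ⊞ F₂ => ap φ (V : Y.Opens) x)
    (biprod.total (X := F₁) (Y := F₂))
  exact h

theorem mono_hom {M N : QCohCat.QCoh Y} (f : M ⟶ N) [Mono f] : Mono f.hom :=
  inferInstanceAs (Mono ((QCohCat.isQCoh Y).ι.map f))

theorem mono_homMk {M N : QCohCat.QCoh Y} (a : M.obj ⟶ N.obj) [Mono a] :
    Mono (ObjectProperty.homMk a : M ⟶ N) :=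
  (QCohCat.isQCoh Y).ι.mono_of_mono_map (by exact (inferInstance : Mono a))

theorem isQuasicoherent_image {A B : Y.Modules} [A.IsQuasicoherent] [B.IsQuasicoherent]
    (d : A ⟶ B) : (Abelian.image d).IsQuasicoherent := by
  have h1 : (cokernel d).IsQuasicoherent :=
    isQuasicoherent_of_isColimit (colimit.cocone (parallelPair d 0)) (colimit.isColimit _)
      (fun j => by
        cases j
        · exact ‹A.IsQuasicoherent›
        · exact ‹B.IsQuasicoherent›)
  exact isQuasicoherent_of_isLimit (limit.cone (parallelPair (cokernel.π d) 0)) (limit.isLimit _)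
      (fun j => by
        cases j
        · exact ‹B.IsQuasicoherent›
        · exact h1)

theorem isNoetherianObject_of_isCoh [IsNoetherian Y] (M : QCohCat.QCoh Y)
    (hM : SheafOfModules.IsFiniteType (R := Y.ringCatSheaf) M.obj) : IsNoetherianObject M := by
  rw [isNoetherianObject_iff_monotone_chain_condition]
  intro f
  haveI : M.obj.IsQuasicoherent := M.property
  haveI := hM
  haveI hm : ∀ n, Mono ((f n).arrow.hom) := fun n => mono_hom (f n).arrow
  let g : ℕ →o Subobject M.obj :=
    ⟨fun n => Subobject.mk (f n).arrow.hom, fun n m hnm => by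
      refine Subobject.mk_le_mk_of_comm (Subobject.ofLE (f n) (f m) (f.monotone hnm)).hom ?_
      exact congrArg (fun k => k.hom) (Subobject.ofLE_arrow (f.monotone hnm))⟩
  have hg : ∀ n, ((g n : Subobject M.obj) : Y.Modules).IsQuasicoherent := fun n =>
    qc_of_iso (Subobject.underlyingIso (f n).arrow.hom) ((f n : QCohCat.QCoh Y)).property
  obtain ⟨n, hn⟩ := QCohCrit.acc_qcoh_subobjects Y M.obj g hg
  refine ⟨n, fun m hm' => le_antisymm (f.monotone hm') ?_⟩
  have hle : Subobject.mk (f m).arrow.hom ≤ Subobject.mk (f n).arrow.hom := (hn m hm').le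
  let a : ((f m : QCohCat.QCoh Y)).obj ⟶ ((f n : QCohCat.QCoh Y)).obj :=
    Subobject.ofMkLEMk (f m).arrow.hom (f n).arrow.hom hle
  have ha : a ≫ (f n).arrow.hom = (f m).arrow.hom := Subobject.ofMkLEMk_comp hle
  refine Subobject.le_of_comm (ObjectProperty.homMk a) ?_
  apply ObjectProperty.hom_ext
  exact ha

theorem isFiniteType_of_isNoetherianObject [IsNoetherian Y] (M : QCohCat.QCoh Y)
    [IsNoetherianObject M] : SheafOfModules.IsFiniteType (R := Y.ringCatSheaf) M.obj := by
  haveI : M.obj.IsQuasicoherent := M.property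
  let 𝒮 : Set (Subobject M) :=
    {S | SheafOfModules.IsFiniteType (R := Y.ringCatSheaf) (S : QCohCat.QCoh Y).obj}
  have key : ∀ (E : Y.Modules) (i : E ⟶ M.obj), Mono i → E.IsQuasicoherent →
      SheafOfModules.IsFiniteType (R := Y.ringCatSheaf) E →
      ∃ S ∈ 𝒮, ∃ (b : E ⟶ (S : QCohCat.QCoh Y).obj), b ≫ S.arrow.hom = i := by
    intro E i hi hE hft
    haveI := hi
    haveI := hE
    let E' : QCohCat.QCoh Y := ⟨E, hE⟩
    haveI : Mono (ObjectProperty.homMk i : E' ⟶ M) := mono_homMk (M := E') (N := M) i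
    refine ⟨Subobject.mk (ObjectProperty.homMk i : E' ⟶ M), ?_, ?_⟩
    · show SheafOfModules.IsFiniteType (R := Y.ringCatSheaf)
        ((Subobject.mk (ObjectProperty.homMk i : E' ⟶ M) : QCohCat.QCoh Y)).obj
      have e : ((Subobject.mk (ObjectProperty.homMk i : E' ⟶ M) : QCohCat.QCoh Y)).obj ≅ E :=
        (QCohCat.isQCoh Y).ι.mapIso (Subobject.underlyingIso (ObjectProperty.homMk i : E' ⟶ M))
      haveI : ((Subobject.mk (ObjectProperty.homMk i : E' ⟶ M) : QCohCat.QCoh Y)).obj.IsQuasicoherent :=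
        (Subobject.mk (ObjectProperty.homMk i : E' ⟶ M) : QCohCat.QCoh Y).property
      exact CohOpenH8.isFiniteType_of_iso e hft
    · refine ⟨(Subobject.underlyingIso (ObjectProperty.homMk i : E' ⟶ M)).inv.hom, ?_⟩
      exact congrArg (fun k => k.hom)
        (Subobject.underlyingIso_arrow (ObjectProperty.homMk i : E' ⟶ M))
  have hne : 𝒮.Nonempty := by
    obtain ⟨E, i, hi, hE, hft, -⟩ := SubExt.exists_ft_sub_section M.obj (isAffineOpen_bot Y) 0
    obtain ⟨S, hS, -⟩ := key E i hi hE hft
    exact ⟨S, hS⟩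
  obtain ⟨S₀, hS₀, hmax⟩ := (wellFounded_gt (α := Subobject M)).has_min 𝒮 hne
  haveI : Mono S₀.arrow.hom := mono_hom S₀.arrow
  haveI : (S₀ : QCohCat.QCoh Y).obj.IsQuasicoherent := (S₀ : QCohCat.QCoh Y).property
  have hsurj : ∀ (U : Y.Opens), IsAffineOpen U → Function.Surjective (S₀.arrow.hom.app U) := by
    intro U hU s
    obtain ⟨E, i, hi, hE, hft, g₀, hg₀⟩ := SubExt.exists_ft_sub_section M.obj hU s
    haveI := hi
    haveI := hE
    let d : (S₀ : QCohCat.QCoh Y).obj ⊞ E ⟶ M.obj := biprod.desc S₀.arrow.hom i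
    haveI hbq : ((S₀ : QCohCat.QCoh Y).obj ⊞ E : Y.Modules).IsQuasicoherent :=
      CohOpenH8.isQuasicoherent_biprod _ _
    have hbft := isFiniteType_biprod' (S₀ : QCohCat.QCoh Y).obj E hS₀ hft
    haveI hTq : (Abelian.image d).IsQuasicoherent := isQuasicoherent_image d
    have hTft : SheafOfModules.IsFiniteType (R := Y.ringCatSheaf) (Abelian.image d) :=
      isFiniteType_of_epi' hbft (Abelian.factorThruImage d)
    obtain ⟨S₂, hS₂, b, hb⟩ := key (Abelian.image d) (Abelian.image.ι d) inferInstance hTq hTft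
    have h02 : S₀ ≤ S₂ :=
      Subobject.le_of_comm (ObjectProperty.homMk (biprod.inl ≫ Abelian.factorThruImage d ≫ b)) (by
        apply ObjectProperty.hom_ext
        show (biprod.inl ≫ Abelian.factorThruImage d ≫ b) ≫ S₂.arrow.hom = S₀.arrow.hom
        rw [Category.assoc, Category.assoc, hb, Abelian.image.fac, biprod.inl_desc])
    have h20 : S₂ = S₀ := by
      by_contra hne'
      exact hmax S₂ hS₂ (lt_of_le_of_ne h02 (Ne.symm hne'))
    have h2le : S₂ ≤ S₀ := h20.le
    let c : E ⟶ (S₀ : QCohCat.QCoh Y).obj :=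
      (biprod.inr ≫ Abelian.factorThruImage d ≫ b) ≫ (Subobject.ofLE S₂ S₀ h2le).hom
    have hc : c ≫ S₀.arrow.hom = i := by
      have h1 : (Subobject.ofLE S₂ S₀ h2le).hom ≫ S₀.arrow.hom = S₂.arrow.hom :=
        congrArg (fun k => k.hom) (Subobject.ofLE_arrow h2le)
      show ((biprod.inr ≫ Abelian.factorThruImage d ≫ b) ≫ (Subobject.ofLE S₂ S₀ h2le).hom) ≫
        S₀.arrow.hom = i
      rw [Category.assoc, h1, Category.assoc, Category.assoc, hb, Abelian.image.fac,
        biprod.inr_desc]
    refine ⟨ap c U g₀, ?_⟩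
    have := congrArg (fun k => ap k U g₀) hc
    exact this.trans hg₀
  haveI : IsIso S₀.arrow.hom := by
    refine QCohCrit.isIso_of_bijective_on_cover S₀.arrow.hom
      (fun U : Y.affineOpens => (U : Y.Opens)) (fun U => U.2) (iSup_affineOpens_eq_top Y)
      (fun U => ⟨QCohExact.app_injective_of_mono _ _, hsurj U.1 U.2⟩)
  exact CohOpenH8.isFiniteType_of_iso (asIso S₀.arrow.hom).symm hS₀

theorem main (Y : Scheme.{u}) [IsNoetherian Y] (M : QCohCat.QCoh Y) :
    IsNoetherianObject M ↔ Coh.IsCoh M.obj := by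
  constructor
  · intro h
    exact ⟨M.property, isFiniteType_of_isNoetherianObject M⟩
  · intro h
    exact isNoetherianObject_of_isCoh M h.2

end Groth.Agent.Lib.QCohNoethL
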