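import Mathlib
import Groth.Prelude
import Groth.Agent.Lib.QCohNoeth1_lead
import Groth.Agent.Lib.SupportCoh_helper9
import Groth.Agent.Lib.QCohExact_helper9
import Groth.Agent.Lib.BasisHom_helper7
import Groth.Agent.Lib.CohOpen1_helper8

/-!
# The image of the limit of a Mittag-Leffler tower of coherent modules (lead)

For a tower `G : ℕᵒᵖ ⥤ X.Modules` of quasi-coherent modules of finite type satisfying the
Mittag-Leffler condition, the image of `lim G ⟶ G_e` is the stable image of `G_d ⟶ G_e`, `d ≫ e`;
in particular it is quasi-coherent of finite type and its support is closed.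

`limit_sec_existsUnique'` (sections of the limit of a tower are the compatible families of sections)
is copied from helper2's `LimTruncH2.limit_sec_existsUnique` (whose file has a deep import closure).
-/

set_option autoImplicit false
set_option linter.all false
set_option maxHeartbeats 1600000
set_option backward.isDefEq.respectTransparency false
set_option backward.isDefEq.respectTransparency.types false
set_option backward.defeqAttrib.useBackward true

universe u

open CategoryTheory CategoryTheory.Limits AlgebraicGeometry Opposite TopologicalSpace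
open QcqsLoc QCohExtn

namespace Groth.Agent.Lib.MLSuppL

open Groth.Agent.Lib.QCohFinLimH3 Groth.Agent.Lib.QCohNoethL

variable {X : Scheme.{u}}

/-! ## ranges on sections over affine opens only depend on the image subobject -/

theorem range_eq_range_imageSubobject {A B : X.Modules} [A.IsQuasicoherent] [B.IsQuasicoherent]
    (f : A ⟶ B) {U : X.Opens} (hU : IsAffineOpen U) :
    Set.range (ap f U) = Set.range (ap (imageSubobject f).arrow U) := by
  haveI hq : ((imageSubobject f : X.Modules)).IsQuasicoherent :=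
    qc_of_iso (imageSubobjectIso f ≪≫ (Abelian.imageIsoImage f).symm) (isQuasicoherent_image f)
  have hfac : factorThruImageSubobject f ≫ (imageSubobject f).arrow = f :=
    imageSubobject_arrow_comp f
  ext y
  constructor
  · rintro ⟨x, rfl⟩
    refine ⟨ap (factorThruImageSubobject f) U x, ?_⟩
    have h1 := congrArg (fun k => ap k U x) hfac
    exact h1
  · rintro ⟨z, rfl⟩
    obtain ⟨x, hx⟩ := QCohExact.app_surjective_of_epi (factorThruImageSubobject f) hU z
    refine ⟨x, ?_⟩
    have h1 := congrArg (fun k => ap k U x) hfac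
    have hx' : ap (factorThruImageSubobject f) U x = z := hx
    rw [← hx']
    exact h1.symm

theorem range_arrow_eq {B : X.Modules} {S T : Subobject B} (h : S = T) (U : X.Opens) :
    Set.range (ap S.arrow U) = Set.range (ap T.arrow U) := by
  subst h; rfl

theorem range_eq_of_imageSubobject_eq {A A' B : X.Modules} [A.IsQuasicoherent]
    [A'.IsQuasicoherent] [B.IsQuasicoherent] (f : A ⟶ B) (f' : A' ⟶ B)
    (h : imageSubobject f = imageSubobject f') {U : X.Opens} (hU : IsAffineOpen U) :
    Set.range (ap f U) = Set.range (ap f' U) :=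
  (range_eq_range_imageSubobject f hU).trans
    ((range_arrow_eq h U).trans (range_eq_range_imageSubobject f' hU).symm)

/-! ## towers -/

/-- the transition maps of a tower -/
noncomputable abbrev tt (G : ℕᵒᵖ ⥤ X.Modules) {n m : ℕ} (h : n ≤ m) :
    G.obj (op m) ⟶ G.obj (op n) := G.map (homOfLE h).op

variable (G : ℕᵒᵖ ⥤ X.Modules)

theorem tt_comp {n m k : ℕ} (h1 : n ≤ m) (h2 : m ≤ k) :
    tt G h2 ≫ tt G h1 = tt G (h1.trans h2) :=
  (G.map_comp _ _).symm.trans (congrArg G.map (Subsingleton.elim _ _))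

theorem tt_comp_app {n m k : ℕ} (h1 : n ≤ m) (h2 : m ≤ k) (U : X.Opens)
    (x : Γ(G.obj (op k), U)) :
    ap (tt G h1) U (ap (tt G h2) U x) = ap (tt G (h1.trans h2)) U x :=
  congrArg (fun φ => ap φ U x) (tt_comp G h1 h2)

theorem tt_refl {n : ℕ} (h : n ≤ n) : tt G h = 𝟙 _ :=
  (congrArg G.map (Subsingleton.elim _ (𝟙 (op n)))).trans (G.map_id _)

theorem tt_refl_app {n : ℕ} (h : n ≤ n) (U : X.Opens) (x : Γ(G.obj (op n), U)) :
    ap (tt G h) U x = x :=
  congrArg (fun φ => ap φ U x) (tt_refl G h)

theorem compat_all (U : X.Opens) (y : ∀ k : ℕ, Γ(G.obj (op k), U))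
    (hy : ∀ k, ap (tt G (Nat.le_succ k)) U (y (k + 1)) = y k) :
    ∀ (n m : ℕ) (h : n ≤ m), ap (tt G h) U (y m) = y n := by
  intro n m h
  induction m, h using Nat.le_induction with
  | base => exact tt_refl_app G _ U _
  | succ m h ih =>
    have e1 := tt_comp_app G h (Nat.le_succ m) U (y (m + 1))
    rw [hy m, ih] at e1
    exact e1.symm

/-- the sections functor to types -/
noncomputable abbrev secT (X : Scheme.{u}) (U : X.Opens) : X.Modules ⥤ Type u :=
  QCohExact.sec X U ⋙ forget Ab

/-- sections of the limit of a tower are the compatible families of sections (helper2) -/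
theorem limit_sec_existsUnique' (U : X.Opens) (y : ∀ k : ℕ, Γ(G.obj (op k), U))
    (hy : ∀ k, ap (tt G (Nat.le_succ k)) U (y (k + 1)) = y k) :
    ∃! s : Γ(limit G, U), ∀ k : ℕ, ap (limit.π G (op k)) U s = y k := by
  haveI : PreservesLimitsOfSize.{0, 0} (QCohExact.sec X U) :=
    preservesSmallestLimits_of_preservesLimits _
  haveI : PreservesLimitsOfSize.{0, 0} (forget Ab.{u}) :=
    preservesSmallestLimits_of_preservesLimits _
  have hT : IsLimit ((secT X U).mapCone (limit.cone G)) :=
    isLimitOfPreserves (secT X U) (limit.isLimit G)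
  have hsec : (fun j : ℕᵒᵖ => (y j.unop : (G ⋙ secT X U).obj j)) ∈ (G ⋙ secT X U).sections := by
    intro j j' f
    obtain ⟨m⟩ := j
    obtain ⟨n⟩ := j'
    have hnm : n ≤ m := leOfHom f.unop
    have hf : f = (homOfLE hnm).op := Subsingleton.elim _ _
    rw [hf]
    exact compat_all G U y hy n m hnm
  obtain ⟨s, hs, huniq⟩ := (Types.isLimit_iff _).mp ⟨hT⟩ _ hsec
  refine ⟨s, fun k => hs (op k), fun s' hs' => huniq s' (fun j => ?_)⟩
  obtain ⟨k⟩ := j
  exact hs' k

/-! ## the Mittag-Leffler argument on sections over an affine open -/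

section ML

variable (hq : ∀ n : ℕᵒᵖ, (G.obj n).IsQuasicoherent) (d : ℕ → ℕ) (hd : ∀ e, e ≤ d e)
  (hst : ∀ (e d' : ℕ) (hd' : d e ≤ d'),
    imageSubobject (tt G ((hd e).trans hd')) = imageSubobject (tt G (hd e)))
  {U : X.Opens} (hU : IsAffineOpen U)

include hq hst hU in
theorem range_stable (k d' : ℕ) (h' : d k ≤ d') :
    Set.range (ap (tt G ((hd k).trans h')) U) = Set.range (ap (tt G (hd k)) U) := by
  haveI := hq
  exact range_eq_of_imageSubobject_eq _ _ (hst k d' h') hU

include hq hst hU in
theorem exists_lift (k : ℕ) (y : Γ(G.obj (op k), U)) (hy : y ∈ Set.range (ap (tt G (hd k)) U)) :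
    ∃ y' : Γ(G.obj (op (k + 1)), U), y' ∈ Set.range (ap (tt G (hd (k + 1))) U) ∧
      ap (tt G (Nat.le_succ k)) U y' = y := by
  have h1 : d k ≤ max (d k) (d (k + 1)) := le_max_left _ _
  have h2 : d (k + 1) ≤ max (d k) (d (k + 1)) := le_max_right _ _
  rw [← range_stable G hq d hd hst hU k _ h1] at hy
  obtain ⟨z, rfl⟩ := hy
  refine ⟨ap (tt G ((hd (k + 1)).trans h2)) U z, ?_, ?_⟩
  · rw [← range_stable G hq d hd hst hU (k + 1) _ h2]
    exact ⟨z, rfl⟩
  · exact tt_comp_app G (Nat.le_succ k) ((hd (k + 1)).trans h2) U z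

include hq hst hU in
theorem exists_limit_section (e : ℕ) (y : Γ(G.obj (op e), U))
    (hy : y ∈ Set.range (ap (tt G (hd e)) U)) :
    ∃ s : Γ(limit G, U), ap (limit.π G (op e)) U s = y := by
  classical
  let S : (k : ℕ) → Set Γ(G.obj (op k), U) := fun k => Set.range (ap (tt G (hd k)) U)
  have lift : ∀ (k : ℕ) (y : Γ(G.obj (op k), U)), y ∈ S k →
      ∃ y' : Γ(G.obj (op (k + 1)), U), y' ∈ S (k + 1) ∧ ap (tt G (Nat.le_succ k)) U y' = y :=
    fun k y hy => exists_lift G hq d hd hst hU k y hy
  let z : (n : ℕ) → {x : Γ(G.obj (op (e + n)), U) // x ∈ S (e + n)} := fun n =>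
    Nat.rec (motive := fun n => {x : Γ(G.obj (op (e + n)), U) // x ∈ S (e + n)}) ⟨y, hy⟩
      (fun n zn => ⟨Classical.choose (lift (e + n) zn.1 zn.2),
        (Classical.choose_spec (lift (e + n) zn.1 zn.2)).1⟩) n
  have hz : ∀ n, ap (tt G (Nat.le_succ (e + n))) U (z (n + 1)).1 = (z n).1 := fun n =>
    (Classical.choose_spec (lift (e + n) (z n).1 (z n).2)).2
  have hz0 : ∀ n, ap (tt G (Nat.le_add_right e n)) U (z n).1 = y := by
    intro n
    induction n with
    | zero => exact tt_refl_app G _ U _
    | succ n ih =>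
      have e1 := tt_comp_app G (Nat.le_add_right e n) (Nat.le_succ (e + n)) U (z (n + 1)).1
      rw [hz n, ih] at e1
      exact e1.symm
  let x : ∀ k : ℕ, Γ(G.obj (op k), U) := fun k => ap (tt G (Nat.le_add_left k e)) U (z k).1
  have hx : ∀ k, ap (tt G (Nat.le_succ k)) U (x (k + 1)) = x k := by
    intro k
    have e1 := tt_comp_app G (Nat.le_succ k) (Nat.le_add_left (k + 1) e) U (z (k + 1)).1
    have e2 := tt_comp_app G (Nat.le_add_left k e) (Nat.le_succ (e + k)) U (z (k + 1)).1
    rw [hz k] at e2
    exact e1.trans e2.symm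
  obtain ⟨s, hs, -⟩ := limit_sec_existsUnique' G U x hx
  refine ⟨s, (hs e).trans ?_⟩
  exact hz0 e

end ML

/-! ## the main theorem -/

theorem main (X : Scheme.{u}) (G : ℕᵒᵖ ⥤ X.Modules)
    (hG : ∀ n : ℕᵒᵖ, (G.obj n).IsQuasicoherent ∧
      SheafOfModules.IsFiniteType (R := X.ringCatSheaf) (G.obj n))
    (hML : ∀ e : ℕ, ∃ (d : ℕ) (hd : e ≤ d), ∀ (d' : ℕ) (hd' : d ≤ d'),
      imageSubobject (G.map (homOfLE (hd.trans hd')).op) = imageSubobject (G.map (homOfLE hd).op))
    (e : ℕ) : IsClosed (CohB1.support (image (limit.π G (op e)))) := by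
  have hq : ∀ n : ℕᵒᵖ, (G.obj n).IsQuasicoherent := fun n => (hG n).1
  haveI := hq
  choose d hd hst using hML
  haveI hqi : (Abelian.image (tt G (hd e))).IsQuasicoherent := isQuasicoherent_image (tt G (hd e))
  have hcomm : (limit.π G (op (d e)) ≫ Abelian.factorThruImage (tt G (hd e))) ≫
      Abelian.image.ι (tt G (hd e)) = limit.π G (op e) := by
    rw [Category.assoc, Abelian.image.fac]
    exact limit.w G (homOfLE (hd e)).op
  have hsurj : ∀ (U : X.Opens) (hU : IsAffineOpen U) (y : Γ(Abelian.image (tt G (hd e)), U)),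
      ∃ s : Γ(limit G, U),
        ap (limit.π G (op (d e)) ≫ Abelian.factorThruImage (tt G (hd e))) U s = y := by
    intro U hU y
    obtain ⟨x0, hx0⟩ :=
      QCohExact.app_surjective_of_epi (Abelian.factorThruImage (tt G (hd e))) hU y
    have hx0' : ap (Abelian.factorThruImage (tt G (hd e))) U x0 = y := hx0
    have hy : ap (Abelian.image.ι (tt G (hd e))) U y ∈ Set.range (ap (tt G (hd e)) U) := by
      refine ⟨x0, ?_⟩
      have h1 := congrArg (fun k => ap k U x0) (Abelian.image.fac (tt G (hd e)))
      rw [← hx0']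
      exact h1.symm
    obtain ⟨s, hs⟩ := exists_limit_section G hq d hd hst hU e _ hy
    refine ⟨s, ?_⟩
    apply QCohExact.app_injective_of_mono (Abelian.image.ι (tt G (hd e))) U
    have h2 := congrArg (fun k => ap k U s) hcomm
    exact h2.trans hs
  have hepi : Epi (limit.π G (op (d e)) ≫ Abelian.factorThruImage (tt G (hd e))) := by
    apply Preadditive.epi_of_cancel_zero
    intro Z ψ hψ
    apply Groth.Agent.Lib.BasisHomH7.hom_ext_basis (X.isBasis_affineOpens)
    intro U hU y
    obtain ⟨s, rfl⟩ := hsurj U hU y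
    have h3 : ap ψ U (ap (limit.π G (op (d e)) ≫ Abelian.factorThruImage (tt G (hd e))) U s) = 0 := by
      have h4 := congrArg (fun k => ap k U s) hψ
      exact h4
    rw [h3]
    rfl
  haveI := hepi
  haveI : StrongEpi (limit.π G (op (d e)) ≫ Abelian.factorThruImage (tt G (hd e))) :=
    strongEpi_of_epi _
  let α : Abelian.image (tt G (hd e)) ≅ image (limit.π G (op e)) :=
    image.isoStrongEpiMono (limit.π G (op (d e)) ≫ Abelian.factorThruImage (tt G (hd e)))
      (Abelian.image.ι (tt G (hd e))) hcomm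
  haveI hqi' : (image (limit.π G (op e))).IsQuasicoherent := qc_of_iso α.symm hqi
  have hft : SheafOfModules.IsFiniteType (R := X.ringCatSheaf) (Abelian.image (tt G (hd e))) :=
    isFiniteType_of_epi' (hG (op (d e))).2 (Abelian.factorThruImage (tt G (hd e)))
  haveI := CohOpenH8.isFiniteType_of_iso α.symm hft
  exact SupportCoh.isClosed_support _

end Groth.Agent.Lib.MLSuppL
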