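import Groth.Agent.Lib.MLDom_lead
import Mathlib.LinearAlgebra.TensorProduct.Associator
import Mathlib.LinearAlgebra.TensorProduct.Finiteness
import Mathlib.RingTheory.TensorProduct.Finite

/-!
# Tensor products of Mittag-Leffler modules (lead's helper library)
-/

universe u

namespace Groth.Agent.Lib.MLTensor_lead

open TensorProduct CAlg Groth.Agent.Lib.MLPure_lead Groth.Agent.Lib.MLDom_lead

variable {R : Type u} [CommRing R]

theorem finitePresentation_tensor (P P' : Type u) [AddCommGroup P] [Module R P] [AddCommGroup P']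
    [Module R P'] [Module.FinitePresentation R P] [Module.FinitePresentation R P'] :
    Module.FinitePresentation R (P ⊗[R] P') := by
  obtain ⟨a, K, e, hK⟩ := Module.FinitePresentation.exists_fin R P
  obtain ⟨b, K', e', hK'⟩ := Module.FinitePresentation.exists_fin R P'
  let π : (Fin a → R) →ₗ[R] P := e.symm.toLinearMap ∘ₗ K.mkQ
  let π' : (Fin b → R) →ₗ[R] P' := e'.symm.toLinearMap ∘ₗ K'.mkQ
  have hπ : Function.Surjective π := e.symm.surjective.comp K.mkQ_surjective
  have hπ' : Function.Surjective π' := e'.symm.surjective.comp K'.mkQ_surjective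
  have hkerπ : LinearMap.ker π = K := by
    ext v
    simp [π]
  have hkerπ' : LinearMap.ker π' = K' := by
    ext v
    simp [π']
  have : Module.Finite R (LinearMap.ker π) := Module.Finite.iff_fg.mpr (hkerπ ▸ hK)
  have : Module.Finite R (LinearMap.ker π') := Module.Finite.iff_fg.mpr (hkerπ' ▸ hK')
  have : Module.FinitePresentation R ((Fin a → R) ⊗[R] (Fin b → R)) :=
    Module.finitePresentation_of_projective R _
  refine Module.finitePresentation_of_surjective (TensorProduct.map π π')
    (TensorProduct.map_surjective hπ hπ') ?_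
  rw [TensorProduct.map_ker (LinearMap.exact_subtype_ker_map π) hπ
    (LinearMap.exact_subtype_ker_map π') hπ']
  exact (Submodule.fg_range _).sup (Submodule.fg_range _)

theorem dom_rTensor {A M P : Type u} [AddCommGroup A] [Module R A] [AddCommGroup M] [Module R M]
    [AddCommGroup P] [Module R P] (f : A →ₗ[R] M) (g : A →ₗ[R] P)
    (h : ∀ (Q : Type u) [AddCommGroup Q] [Module R Q],
      LinearMap.ker (f.rTensor Q) ≤ LinearMap.ker (g.rTensor Q))
    (B : Type u) [AddCommGroup B] [Module R B] (Q : Type u) [AddCommGroup Q] [Module R Q] :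
    LinearMap.ker ((f.rTensor B).rTensor Q) ≤ LinearMap.ker ((g.rTensor B).rTensor Q) := by
  intro z hz
  rw [LinearMap.mem_ker] at hz ⊢
  have hf : f.rTensor (B ⊗[R] Q) (TensorProduct.assoc R A B Q z) = 0 := by
    rw [LinearMap.rTensor_tensor]
    simp only [LinearMap.comp_apply, LinearEquiv.coe_coe, LinearEquiv.symm_apply_apply, hz,
      map_zero]
  have hg := LinearMap.mem_ker.mp (h (B ⊗[R] Q) (LinearMap.mem_ker.mpr hf))
  rw [LinearMap.rTensor_tensor] at hg
  simp only [LinearMap.comp_apply, LinearEquiv.coe_coe, LinearEquiv.symm_apply_apply] at hg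
  exact (LinearEquiv.map_eq_zero_iff _).mp hg

theorem rTensor_equiv_injective {X Y : Type*} [AddCommGroup X] [Module R X] [AddCommGroup Y]
    [Module R Y] (e : X ≃ₗ[R] Y) (Q : Type*) [AddCommGroup Q] [Module R Q] :
    Function.Injective (e.toLinearMap.rTensor Q) := by
  apply Function.LeftInverse.injective (g := e.symm.toLinearMap.rTensor Q)
  intro z
  have : e.symm.toLinearMap ∘ₗ e.toLinearMap = LinearMap.id :=
    LinearMap.ext fun w => e.symm_apply_apply w
  rw [← LinearMap.comp_apply, ← LinearMap.rTensor_comp, this, LinearMap.rTensor_id,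
    LinearMap.id_apply]

theorem dom_lTensor {B N P' : Type u} [AddCommGroup B] [Module R B] [AddCommGroup N] [Module R N]
    [AddCommGroup P'] [Module R P'] (f' : B →ₗ[R] N) (g' : B →ₗ[R] P')
    (h : ∀ (Q : Type u) [AddCommGroup Q] [Module R Q],
      LinearMap.ker (f'.rTensor Q) ≤ LinearMap.ker (g'.rTensor Q))
    (A : Type u) [AddCommGroup A] [Module R A] (Q : Type u) [AddCommGroup Q] [Module R Q] :
    LinearMap.ker ((f'.lTensor A).rTensor Q) ≤ LinearMap.ker ((g'.lTensor A).rTensor Q) := by
  intro z hz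
  rw [LinearMap.mem_ker] at hz ⊢
  have hcf : (TensorProduct.comm R A N).toLinearMap ∘ₗ f'.lTensor A =
      f'.rTensor A ∘ₗ (TensorProduct.comm R A B).toLinearMap :=
    LinearMap.ext fun w => comm_lTensor f' w
  have hcg : (TensorProduct.comm R A P').toLinearMap ∘ₗ g'.lTensor A =
      g'.rTensor A ∘ₗ (TensorProduct.comm R A B).toLinearMap :=
    LinearMap.ext fun w => comm_lTensor g' w
  have h1 : ((f'.rTensor A).rTensor Q)
      (((TensorProduct.comm R A B).toLinearMap.rTensor Q) z) = 0 := by
    rw [← LinearMap.comp_apply, ← LinearMap.rTensor_comp, ← hcf, LinearMap.rTensor_comp,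
      LinearMap.comp_apply, hz, map_zero]
  have h2 := LinearMap.mem_ker.mp (dom_rTensor f' g' h A Q (LinearMap.mem_ker.mpr h1))
  rw [← LinearMap.comp_apply, ← LinearMap.rTensor_comp, ← hcg, LinearMap.rTensor_comp,
    LinearMap.comp_apply] at h2
  exact rTensor_equiv_injective (TensorProduct.comm R A P') Q (h2.trans (map_zero _).symm)

theorem dom_map {A B M N P P' : Type u} [AddCommGroup A] [Module R A] [AddCommGroup B]
    [Module R B] [AddCommGroup M] [Module R M] [AddCommGroup N] [Module R N] [AddCommGroup P]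
    [Module R P] [AddCommGroup P'] [Module R P']
    (f : A →ₗ[R] M) (g : A →ₗ[R] P) (f' : B →ₗ[R] N) (g' : B →ₗ[R] P')
    (h : ∀ (Q : Type u) [AddCommGroup Q] [Module R Q],
      LinearMap.ker (f.rTensor Q) ≤ LinearMap.ker (g.rTensor Q))
    (h' : ∀ (Q : Type u) [AddCommGroup Q] [Module R Q],
      LinearMap.ker (f'.rTensor Q) ≤ LinearMap.ker (g'.rTensor Q))
    (Q : Type u) [AddCommGroup Q] [Module R Q] :
    LinearMap.ker ((TensorProduct.map f f').rTensor Q) ≤
      LinearMap.ker ((TensorProduct.map g g').rTensor Q) := by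
  intro z hz
  rw [LinearMap.mem_ker] at hz ⊢
  rw [← LinearMap.rTensor_comp_lTensor (f := f) (g := f'), LinearMap.rTensor_comp, LinearMap.comp_apply] at hz
  have h1 := LinearMap.mem_ker.mp (dom_rTensor f g h N Q (LinearMap.mem_ker.mpr hz))
  rw [← LinearMap.comp_apply, ← LinearMap.rTensor_comp, LinearMap.rTensor_comp_lTensor,
    ← LinearMap.lTensor_comp_rTensor (f := g) (g := f'), LinearMap.rTensor_comp, LinearMap.comp_apply] at h1
  have h2 := LinearMap.mem_ker.mp (dom_lTensor f' g' h' P Q (LinearMap.mem_ker.mpr h1))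
  rw [← LinearMap.comp_apply, ← LinearMap.rTensor_comp, LinearMap.lTensor_comp_rTensor] at h2
  exact h2

theorem isMittagLeffler_tensor {M N : Type u} [AddCommGroup M] [Module R M] [AddCommGroup N]
    [Module R N] (hM : IsMittagLeffler R M) (hN : IsMittagLeffler R N) :
    IsMittagLeffler R (M ⊗[R] N) := by
  classical
  apply isMittagLeffler_of_dominating
  intro n φ
  obtain ⟨M', N', hM', hN', hsub⟩ := TensorProduct.exists_finite_submodule_of_setFinite
    (Set.range fun i : Fin n => φ (Pi.single i 1)) (Set.finite_range _)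
  obtain ⟨a, π, hπ⟩ := Module.Finite.exists_fin' R M'
  obtain ⟨b, π', hπ'⟩ := Module.Finite.exists_fin' R N'
  let f : (Fin a → R) →ₗ[R] M := M'.subtype ∘ₗ π
  let f' : (Fin b → R) →ₗ[R] N := N'.subtype ∘ₗ π'
  have hu : ∀ i : Fin n, ∃ u : (Fin a → R) ⊗[R] (Fin b → R),
      TensorProduct.map f f' u = φ (Pi.single i 1) := by
    intro i
    obtain ⟨t, ht⟩ := hsub (Set.mem_range_self i)
    obtain ⟨u, rfl⟩ := TensorProduct.map_surjective hπ hπ' t
    refine ⟨u, ?_⟩
    rw [← ht, TensorProduct.mapIncl, ← LinearMap.comp_apply, ← TensorProduct.map_comp]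
  choose u hu using hu
  let φ₀ : (Fin n → R) →ₗ[R] (Fin a → R) ⊗[R] (Fin b → R) := Fintype.linearCombination R u
  have hφ : φ = TensorProduct.map f f' ∘ₗ φ₀ := by
    refine LinearMap.pi_ext fun i x => ?_
    rw [single_eq_smul_single, map_smul, map_smul]
    simp only [LinearMap.comp_apply, φ₀, Fintype.linearCombination_apply_single, one_smul, hu]
  obtain ⟨P, _, _, _, g, hg⟩ := exists_dominating_of_isMittagLeffler hM (Fin a → R) f
  obtain ⟨P', _, _, _, g', hg'⟩ := exists_dominating_of_isMittagLeffler hN (Fin b → R) f'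
  have := finitePresentation_tensor (R := R) P P'
  refine ⟨P ⊗[R] P', inferInstance, inferInstance, inferInstance,
    TensorProduct.map g g' ∘ₗ φ₀, fun Q _ _ => ?_⟩
  rw [hφ]
  ext z
  simp only [LinearMap.mem_ker, LinearMap.rTensor_comp, LinearMap.comp_apply]
  constructor
  · intro hz
    exact LinearMap.mem_ker.mp (dom_map f g f' g' (fun Q _ _ => (hg Q).le)
      (fun Q _ _ => (hg' Q).le) Q (LinearMap.mem_ker.mpr hz))
  · intro hz
    exact LinearMap.mem_ker.mp (dom_map g f g' f' (fun Q _ _ => (hg Q).ge)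
      (fun Q _ _ => (hg' Q).ge) Q (LinearMap.mem_ker.mpr hz))

end Groth.Agent.Lib.MLTensor_lead
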