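import Mathlib

/-!
# Symmetric tensors of a finite free module: orbit-sum basis and trace formula
(helper1, for S8609)
-/

namespace Groth.Agent.Lib.MMTraceH1

open TensorProduct PiTensorProduct Module

universe u v

section Comb

variable {n r : ℕ}

/-- number of `i` with `f i = j` -/
def cnt (f : Fin n → Fin r) (j : Fin r) : ℕ := (Finset.univ.filter (fun i => f i = j)).card

lemma cnt_eq_card (f : Fin n → Fin r) (j : Fin r) : cnt f j = Fintype.card {i // f i = j} := by
  unfold cnt
  rw [Fintype.card_subtype]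

lemma sum_cnt (f : Fin n → Fin r) : ∑ j, cnt f j = n := by
  unfold cnt
  have h := Finset.card_eq_sum_card_fiberwise (f := f) (s := Finset.univ) (t := Finset.univ)
    (by intro x _; simp)
  rw [← h]
  simp

lemma cnt_comp (f : Fin n → Fin r) (σ : Equiv.Perm (Fin n)) : cnt (f ∘ σ) = cnt f := by
  funext j
  rw [cnt_eq_card, cnt_eq_card]
  exact Fintype.card_congr (σ.subtypeEquiv (fun _ => Iff.rfl))

lemma exists_perm_of_cnt_eq (f g : Fin n → Fin r) (h : cnt f = cnt g) :
    ∃ σ : Equiv.Perm (Fin n), f ∘ σ = g := by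
  have e : ∀ j : Fin r, {i // g i = j} ≃ {i // f i = j} := fun j =>
    Fintype.equivOfCardEq (by rw [← cnt_eq_card, ← cnt_eq_card, h])
  refine ⟨Equiv.ofFiberEquiv e, ?_⟩
  funext i
  exact Equiv.ofFiberEquiv_map e i

lemma exists_cnt_eq (s : Fin r → ℕ) (hs : ∑ j, s j = n) : ∃ g : Fin n → Fin r, cnt g = s := by
  subst hs
  refine ⟨fun i => ((finSigmaFinEquiv (m := r) (n := s)).symm i).1, ?_⟩
  funext j
  rw [cnt_eq_card]
  have e1 : {i : Fin (∑ j, s j) // ((finSigmaFinEquiv (m := r) (n := s)).symm i).1 = j} ≃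
      {x : (Σ j : Fin r, Fin (s j)) // x.1 = j} :=
    (finSigmaFinEquiv (m := r) (n := s)).symm.subtypeEquiv (fun _ => Iff.rfl)
  exact (Fintype.card_congr (e1.trans (Equiv.sigmaSubtype j))).trans (Fintype.card_fin _)

/-- index set: exponent vectors of total degree `n` -/
abbrev SIdx (r n : ℕ) : Type := ↥(Finset.Nat.antidiagonalTuple r n)

/-- the exponent vector of `f`, as an element of the index set -/
def cS (f : Fin n → Fin r) : SIdx r n :=
  ⟨cnt f, Finset.Nat.mem_antidiagonalTuple.2 (sum_cnt f)⟩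

lemma cS_comp (f : Fin n → Fin r) (σ : Equiv.Perm (Fin n)) : cS (f ∘ σ) = cS f :=
  Subtype.ext (cnt_comp f σ)

/-- a chosen function with given exponent vector -/
noncomputable def rep (s : SIdx r n) : Fin n → Fin r :=
  (exists_cnt_eq s.1 (Finset.Nat.mem_antidiagonalTuple.1 s.2)).choose

lemma cnt_rep (s : SIdx r n) : cnt (rep s) = s.1 :=
  (exists_cnt_eq s.1 (Finset.Nat.mem_antidiagonalTuple.1 s.2)).choose_spec

lemma cS_rep (s : SIdx r n) : cS (rep s) = s := Subtype.ext (cnt_rep s)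

end Comb

section Tens

variable {A : Type u} [CommRing A] {M : Type v} [AddCommGroup M] [Module A M]

/-- the symmetric tensors -/
abbrev Sy (A : Type u) [CommRing A] (M : Type v) [AddCommGroup M] [Module A M] (n : ℕ) :
    Submodule A (⨂[A] _i : Fin n, M) :=
  ⨅ σ : Equiv.Perm (Fin n),
    LinearMap.eqLocus ((PiTensorProduct.reindex A (fun _ : Fin n => M) σ).toLinearMap)
      LinearMap.id

lemma mem_Sy (n : ℕ) {x : ⨂[A] _i : Fin n, M} :
    x ∈ Sy A M n ↔ ∀ σ : Equiv.Perm (Fin n),
      PiTensorProduct.reindex A (fun _ : Fin n => M) σ x = x := by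
  simp [Sy, Submodule.mem_iInf, LinearMap.mem_eqLocus]

variable {r : ℕ} (b : Basis (Fin r) A M) (n : ℕ)

/-- the tensor basis -/
noncomputable def Bn : Basis (Fin n → Fin r) A (⨂[A] _i : Fin n, M) :=
  Basis.piTensorProduct (fun _ : Fin n => b)

lemma Bn_apply (f : Fin n → Fin r) : Bn b n f = ⨂ₜ[A] i, b (f i) := by
  unfold Bn
  rw [Basis.piTensorProduct_apply]

lemma Bn_repr_tprod (m : Fin n → M) (f : Fin n → Fin r) :
    (Bn b n).repr (⨂ₜ[A] i, m i) f = ∏ i, b.repr (m i) (f i) := by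
  unfold Bn
  rw [Basis.piTensorProduct_repr_tprod_apply]

lemma repr_reindex (σ : Equiv.Perm (Fin n)) (x : ⨂[A] _i : Fin n, M) (f : Fin n → Fin r) :
    (Bn b n).repr (PiTensorProduct.reindex A (fun _ : Fin n => M) σ x) f
      = (Bn b n).repr x (f ∘ σ) := by
  induction x using PiTensorProduct.induction_on with
  | smul_tprod c m =>
    simp only [map_smul, Finsupp.smul_apply, PiTensorProduct.reindex_tprod]
    rw [Bn_repr_tprod, Bn_repr_tprod]
    congr 1
    rw [← Equiv.prod_comp σ.symm (fun i => b.repr (m i) ((f ∘ σ) i))]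
    refine Finset.prod_congr rfl (fun i _ => ?_)
    simp
  | add x y hx hy =>
    simp only [map_add, Finsupp.add_apply, hx, hy]

lemma repr_comp_of_mem {x : ⨂[A] _i : Fin n, M} (hx : x ∈ Sy A M n) (σ : Equiv.Perm (Fin n))
    (f : Fin n → Fin r) : (Bn b n).repr x (f ∘ σ) = (Bn b n).repr x f := by
  rw [← repr_reindex, (mem_Sy n).1 hx σ]

lemma mem_Sy_of_repr {x : ⨂[A] _i : Fin n, M}
    (h : ∀ (σ : Equiv.Perm (Fin n)) (f : Fin n → Fin r),
      (Bn b n).repr x (f ∘ σ) = (Bn b n).repr x f) :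
    x ∈ Sy A M n := by
  rw [mem_Sy]
  intro σ
  refine (Bn b n).ext_elem (fun f => ?_)
  rw [repr_reindex]
  exact h σ f

lemma repr_eq_of_cnt_eq {x : ⨂[A] _i : Fin n, M} (hx : x ∈ Sy A M n) (f g : Fin n → Fin r)
    (h : cnt f = cnt g) : (Bn b n).repr x f = (Bn b n).repr x g := by
  obtain ⟨σ, rfl⟩ := exists_perm_of_cnt_eq f g h
  exact (repr_comp_of_mem b n hx σ f).symm

/-- the symmetric tensor with prescribed orbit coefficients -/
noncomputable def symT (c : SIdx r n → A) : ⨂[A] _i : Fin n, M :=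
  ∑ f : Fin n → Fin r, c (cS f) • Bn b n f

lemma repr_symT (c : SIdx r n → A) (f : Fin n → Fin r) :
    (Bn b n).repr (symT b n c) f = c (cS f) := by
  unfold symT
  exact congrFun (Basis.repr_sum_self (Bn b n) (fun f => c (cS f))) f

lemma symT_mem (c : SIdx r n → A) : symT b n c ∈ Sy A M n :=
  mem_Sy_of_repr b n (fun σ f => by rw [repr_symT, repr_symT, cS_comp])

/-- coordinates of symmetric tensors on orbit representatives -/
noncomputable def psi : ↥(Sy A M n) ≃ₗ[A] (SIdx r n → A) where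
  toFun x := fun s => (Bn b n).repr x.1 (rep s)
  map_add' x y := by
    funext s
    simp
  map_smul' c x := by
    funext s
    simp
  invFun c := ⟨symT b n c, symT_mem b n c⟩
  left_inv x := by
    apply Subtype.ext
    refine (Bn b n).ext_elem (fun f => ?_)
    show (Bn b n).repr (symT b n (fun s => (Bn b n).repr x.1 (rep s))) f = (Bn b n).repr x.1 f
    rw [repr_symT]
    exact repr_eq_of_cnt_eq b n x.2 _ _ (cnt_rep (cS f))
  right_inv c := by
    funext s
    show (Bn b n).repr (symT b n c) (rep s) = c s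
    rw [repr_symT, cS_rep]

/-- the orbit-sum basis of the symmetric tensors -/
noncomputable def symBasis : Basis (SIdx r n) A ↥(Sy A M n) := Basis.ofEquivFun (psi b n)

lemma repr_map_Bn (u : M →ₗ[A] M) (f g : Fin n → Fin r) :
    (Bn b n).repr (PiTensorProduct.map (fun _ : Fin n => u) (Bn b n f)) g
      = ∏ i, LinearMap.toMatrix b b u (g i) (f i) := by
  rw [Bn_apply, PiTensorProduct.map_tprod, Bn_repr_tprod]
  refine Finset.prod_congr rfl (fun i _ => ?_)
  rw [LinearMap.toMatrix_apply]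

lemma repr_map_sum (u : M →ₗ[A] M) (c : (Fin n → Fin r) → A) (g : Fin n → Fin r) :
    (Bn b n).repr (PiTensorProduct.map (fun _ : Fin n => u) (∑ f, c f • Bn b n f)) g
      = ∑ f, c f * ∏ i, LinearMap.toMatrix b b u (g i) (f i) := by
  rw [map_sum, map_sum, Finsupp.finset_sum_apply]
  refine Finset.sum_congr rfl (fun f _ => ?_)
  rw [map_smul, map_smul, Finsupp.smul_apply, smul_eq_mul, repr_map_Bn]

theorem trace_formula (u : M →ₗ[A] M) (γ : ↥(Sy A M n) →ₗ[A] ↥(Sy A M n))
    (hγ : ∀ x : ↥(Sy A M n), ((γ x : ↥(Sy A M n)) : ⨂[A] _i : Fin n, M) =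
      PiTensorProduct.map (fun _ : Fin n => u) (x : ⨂[A] _i : Fin n, M)) :
    LinearMap.trace A _ γ = ∑ s : SIdx r n, ∑ f : Fin n → Fin r,
      (if cS f = s then (1 : A) else 0) * ∏ i, LinearMap.toMatrix b b u (rep s i) (f i) := by
  rw [LinearMap.trace_eq_matrix_trace A (symBasis b n) γ, Matrix.trace]
  refine Finset.sum_congr rfl (fun s _ => ?_)
  rw [Matrix.diag_apply, LinearMap.toMatrix_apply]
  show (Bn b n).repr ((γ ((symBasis b n) s)).1) (rep s) = _
  rw [hγ]
  have h1 : ((symBasis b n) s).1 = symT b n (Pi.single s 1) := by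
    unfold symBasis
    rw [Basis.coe_ofEquivFun]
    rfl
  rw [h1]
  unfold symT
  rw [repr_map_sum]
  refine Finset.sum_congr rfl (fun f _ => ?_)
  rw [Pi.single_apply]

end Tens

end Groth.Agent.Lib.MMTraceH1
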