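import Mathlib
import Groth.Agent.Lib.MMTrace1_helper1

/-!
# Polynomial model for the traces of symmetric tensor powers (helper1, for S8609)
-/

namespace Groth.Agent.Lib.MMTraceH1

open TensorProduct PiTensorProduct Module

universe u v

section Poly

variable {A : Type u} [CommRing A] {r : ℕ}

/-- linear form given by row `j` of `U` -/
noncomputable def lin (U : Matrix (Fin r) (Fin r) A) (j : Fin r) : MvPolynomial (Fin r) A :=
  ∑ k, MvPolynomial.C (U j k) * MvPolynomial.X k

/-- `G U n = Σ_{|s| = n} [x^s] Π_j (Σ_k U_jk x_k)^{s_j}` -/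
noncomputable def G (U : Matrix (Fin r) (Fin r) A) (n : ℕ) : A :=
  ∑ s ∈ Finset.Nat.antidiagonalTuple r n,
    MvPolynomial.coeff (Finsupp.equivFunOnFinite.symm s) (∏ j, lin U j ^ s j)

lemma prod_X_eq_monomial {n : ℕ} (f : Fin n → Fin r) :
    ∏ i, (MvPolynomial.X (f i) : MvPolynomial (Fin r) A) =
      MvPolynomial.monomial (Finsupp.equivFunOnFinite.symm (cnt f)) 1 := by
  rw [MvPolynomial.monomial_eq, map_one, one_mul,
    Finsupp.prod_fintype _ _ (fun _ => pow_zero _)]
  rw [← Finset.prod_fiberwise' Finset.univ f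
    (fun j => (MvPolynomial.X j : MvPolynomial (Fin r) A))]
  refine Finset.prod_congr rfl (fun j _ => ?_)
  rw [Finset.prod_const]
  rfl

lemma coeff_prod_lin {n : ℕ} (U : Matrix (Fin r) (Fin r) A) (g : Fin n → Fin r)
    (s : Fin r → ℕ) (hg : cnt g = s) :
    MvPolynomial.coeff (Finsupp.equivFunOnFinite.symm s) (∏ j, lin U j ^ s j)
      = ∑ f : Fin n → Fin r, (if cnt f = s then (1 : A) else 0) * ∏ i, U (g i) (f i) := by
  have h1 : ∏ j, lin U j ^ s j = ∏ i, lin U (g i) := by
    rw [← Finset.prod_fiberwise' Finset.univ g (fun j => lin U j)]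
    refine Finset.prod_congr rfl (fun j _ => ?_)
    rw [Finset.prod_const, ← hg]
    rfl
  have h2 : ∏ i, lin U (g i) = ∑ f : Fin n → Fin r,
      MvPolynomial.C (∏ i, U (g i) (f i)) *
        MvPolynomial.monomial (Finsupp.equivFunOnFinite.symm (cnt f)) 1 := by
    unfold lin
    rw [Finset.prod_univ_sum, Fintype.piFinset_univ]
    refine Finset.sum_congr rfl (fun f _ => ?_)
    rw [Finset.prod_mul_distrib, ← map_prod, prod_X_eq_monomial]
  rw [h1, h2, MvPolynomial.coeff_sum]
  refine Finset.sum_congr rfl (fun f _ => ?_)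
  rw [MvPolynomial.coeff_C_mul, MvPolynomial.coeff_monomial, mul_comm]
  congr 1
  by_cases h : cnt f = s
  · rw [if_pos h, if_pos (by rw [h])]
  · rw [if_neg h, if_neg (fun h' => h (Finsupp.equivFunOnFinite.symm.injective h'))]

theorem trace_eq_G {M : Type v} [AddCommGroup M] [Module A M] (b : Basis (Fin r) A M) (n : ℕ)
    (u : M →ₗ[A] M) (γ : ↥(Sy A M n) →ₗ[A] ↥(Sy A M n))
    (hγ : ∀ x : ↥(Sy A M n), ((γ x : ↥(Sy A M n)) : ⨂[A] _i : Fin n, M) =
      PiTensorProduct.map (fun _ : Fin n => u) (x : ⨂[A] _i : Fin n, M)) :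
    LinearMap.trace A _ γ = G (LinearMap.toMatrix b b u) n := by
  rw [trace_formula b n u γ hγ]
  unfold G
  rw [← Finset.sum_coe_sort (Finset.Nat.antidiagonalTuple r n)]
  refine Finset.sum_congr rfl (fun s _ => ?_)
  rw [coeff_prod_lin (LinearMap.toMatrix b b u) (rep s) s.1 (cnt_rep s)]
  refine Finset.sum_congr rfl (fun f _ => ?_)
  congr 1
  by_cases h : cS f = s
  · rw [if_pos h, if_pos (by rw [← h]; rfl)]
  · rw [if_neg h, if_neg (fun h' : cnt f = s.1 => h (Subtype.ext h'))]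

open Polynomial in
/-- `det(1 - tU)` -/
noncomputable def D (U : Matrix (Fin r) (Fin r) A) : A[X] :=
  Matrix.det (1 - (X : A[X]) • U.map (C : A →+* A[X]))

open Polynomial in
theorem det_eq_D {M : Type v} [AddCommGroup M] [Module A M] (b : Basis (Fin r) A M)
    (u : M →ₗ[A] M) :
    LinearMap.det (LinearMap.id - (X : A[X]) • u.baseChange A[X])
      = D (LinearMap.toMatrix b b u) := by
  unfold D
  rw [← LinearMap.det_toMatrix (Algebra.TensorProduct.basis A[X] b)]
  congr 1
  have h1 := map_sub (LinearMap.toMatrix (Algebra.TensorProduct.basis A[X] b)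
    (Algebra.TensorProduct.basis A[X] b)) LinearMap.id ((X : A[X]) • LinearMap.baseChange A[X] u)
  refine h1.trans ?_
  rw [map_smul, LinearMap.toMatrix_baseChange, LinearMap.toMatrix_id,
    Polynomial.algebraMap_eq]

open Polynomial in
lemma D_map {B : Type*} [CommRing B] (φ : A →+* B) (U : Matrix (Fin r) (Fin r) A) :
    D (U.map φ) = (D U).map φ := by
  unfold D
  rw [← Polynomial.coe_mapRingHom, RingHom.map_det]
  congr 1
  ext i j
  by_cases h : i = j
  · subst h
    simp [Matrix.one_apply]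
  · simp [Matrix.one_apply, h]

lemma lin_map {B : Type*} [CommRing B] (φ : A →+* B) (U : Matrix (Fin r) (Fin r) A)
    (j : Fin r) : lin (U.map φ) j = MvPolynomial.map φ (lin U j) := by
  unfold lin
  simp [map_sum, Matrix.map_apply]

lemma G_map {B : Type*} [CommRing B] (φ : A →+* B) (U : Matrix (Fin r) (Fin r) A) (n : ℕ) :
    G (U.map φ) n = φ (G U n) := by
  unfold G
  rw [map_sum]
  refine Finset.sum_congr rfl (fun s _ => ?_)
  rw [← MvPolynomial.coeff_map, map_prod]
  congr 1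
  refine Finset.prod_congr rfl (fun j _ => ?_)
  rw [map_pow, lin_map]

lemma sum_antidiagonalTuple_succ {β : Type*} [AddCommMonoid β] (r n : ℕ)
    (F : (Fin (r+1) → ℕ) → β) :
    ∑ s ∈ Finset.Nat.antidiagonalTuple (r+1) n, F s
      = ∑ p ∈ Finset.HasAntidiagonal.antidiagonal n, ∑ s' ∈ Finset.Nat.antidiagonalTuple r p.2,
          F (Fin.cons p.1 s') := by
  rw [Finset.sum_sigma']
  refine Finset.sum_bij' (fun s _ => ⟨(s 0, ∑ j : Fin r, s j.succ), Fin.tail s⟩)
    (fun x _ => Fin.cons x.1.1 x.2) ?_ ?_ ?_ ?_ ?_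
  · intro s hs
    rw [Finset.Nat.mem_antidiagonalTuple, Fin.sum_univ_succ] at hs
    simp only [Finset.mem_sigma, Finset.HasAntidiagonal.mem_antidiagonal, Finset.Nat.mem_antidiagonalTuple]
    exact ⟨hs, rfl⟩
  · rintro ⟨⟨a, m⟩, s'⟩ hx
    simp only [Finset.mem_sigma, Finset.HasAntidiagonal.mem_antidiagonal,
      Finset.Nat.mem_antidiagonalTuple] at hx
    rw [Finset.Nat.mem_antidiagonalTuple, Fin.sum_univ_succ]
    simp only [Fin.cons_zero, Fin.cons_succ]
    rw [hx.2]
    exact hx.1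
  · intro s _
    exact Fin.cons_self_tail s
  · rintro ⟨⟨a, m⟩, s'⟩ hx
    simp only [Finset.mem_sigma, Finset.HasAntidiagonal.mem_antidiagonal,
      Finset.Nat.mem_antidiagonalTuple] at hx
    simp only [Fin.cons_zero, Fin.cons_succ, Fin.tail_cons]
    rw [hx.2]
  · intro s _
    simp only [Fin.cons_self_tail]

lemma equivFun_symm_cons (a : ℕ) (s' : Fin r → ℕ) :
    (Finsupp.equivFunOnFinite.symm (Fin.cons a s' : Fin (r+1) → ℕ) : Fin (r+1) →₀ ℕ)
      = Finsupp.cons a (Finsupp.equivFunOnFinite.symm s') := by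
  ext i
  refine Fin.cases ?_ (fun j => ?_) i
  · simp [Finsupp.cons_zero]
  · simp [Finsupp.cons_succ]

lemma finSuccEquiv_C (a : A) :
    MvPolynomial.finSuccEquiv A r (MvPolynomial.C a) = Polynomial.C (MvPolynomial.C a) := by
  rw [MvPolynomial.finSuccEquiv_apply]
  simp

lemma finSuccEquiv_lin (U : Matrix (Fin (r+1)) (Fin (r+1)) A) (j : Fin (r+1)) :
    MvPolynomial.finSuccEquiv A r (lin U j)
      = Polynomial.C (MvPolynomial.C (U j 0)) * Polynomial.X
        + Polynomial.C (∑ k : Fin r, MvPolynomial.C (U j k.succ) * MvPolynomial.X k) := by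
  unfold lin
  simp only [map_sum, map_mul, map_add, finSuccEquiv_C, Fin.sum_univ_succ,
    MvPolynomial.finSuccEquiv_X_zero, MvPolynomial.finSuccEquiv_X_succ]

lemma coeff_linear_pow {R : Type*} [CommRing R] (c d : R) (a : ℕ) :
    Polynomial.coeff ((Polynomial.C c * Polynomial.X + Polynomial.C d) ^ a) a = c ^ a := by
  have h := Polynomial.coeff_pow_of_natDegree_le (m := a) (n := 1)
    (p := Polynomial.C c * Polynomial.X + Polynomial.C d) Polynomial.natDegree_linear_le
  rw [mul_one] at h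
  rw [h]
  congr 1
  simp

lemma term_rec (U : Matrix (Fin (r+1)) (Fin (r+1)) A) (hcol : ∀ i : Fin r, U i.succ 0 = 0)
    (a : ℕ) (s' : Fin r → ℕ) :
    MvPolynomial.coeff (Finsupp.equivFunOnFinite.symm (Fin.cons a s' : Fin (r+1) → ℕ))
        (∏ j, lin U j ^ (Fin.cons a s' : Fin (r+1) → ℕ) j)
      = U 0 0 ^ a * MvPolynomial.coeff (Finsupp.equivFunOnFinite.symm s')
        (∏ j, lin (U.submatrix Fin.succ Fin.succ) j ^ s' j) := by
  rw [equivFun_symm_cons, ← MvPolynomial.finSuccEquiv_coeff_coeff, Fin.prod_univ_succ]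
  simp only [Fin.cons_zero, Fin.cons_succ]
  rw [map_mul, map_pow, map_prod]
  have hs : ∀ j : Fin r, MvPolynomial.finSuccEquiv A r (lin U j.succ)
      = Polynomial.C (lin (U.submatrix Fin.succ Fin.succ) j) := by
    intro j
    rw [finSuccEquiv_lin, hcol j, map_zero, map_zero, zero_mul, zero_add]
    rfl
  have hprod : ∏ j : Fin r, MvPolynomial.finSuccEquiv A r (lin U j.succ ^ s' j)
      = Polynomial.C (∏ j, lin (U.submatrix Fin.succ Fin.succ) j ^ s' j) := by
    rw [map_prod]
    refine Finset.prod_congr rfl (fun j _ => ?_)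
    rw [map_pow, map_pow, hs]
  rw [hprod, finSuccEquiv_lin U 0, Polynomial.coeff_mul_C, coeff_linear_pow, ← map_pow,
    MvPolynomial.coeff_C_mul]

lemma G_succ_of_col (U : Matrix (Fin (r+1)) (Fin (r+1)) A) (hcol : ∀ i : Fin r, U i.succ 0 = 0)
    (n : ℕ) :
    G U n = ∑ p ∈ Finset.HasAntidiagonal.antidiagonal n,
      U 0 0 ^ p.1 * G (U.submatrix Fin.succ Fin.succ) p.2 := by
  unfold G
  rw [sum_antidiagonalTuple_succ]
  refine Finset.sum_congr rfl (fun p _ => ?_)
  rw [Finset.mul_sum]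
  refine Finset.sum_congr rfl (fun s' _ => ?_)
  exact term_rec U hcol p.1 s'

open Polynomial in
lemma D_succ_of_col (U : Matrix (Fin (r+1)) (Fin (r+1)) A)
    (hcol : ∀ i : Fin r, U i.succ 0 = 0) :
    D U = (1 - C (U 0 0) * X) * D (U.submatrix Fin.succ Fin.succ) := by
  unfold D
  obtain ⟨N, hN⟩ : ∃ N : Matrix (Fin (r+1)) (Fin (r+1)) A[X],
      N = 1 - (X : A[X]) • U.map (C : A →+* A[X]) := ⟨_, rfl⟩
  rw [← hN, Matrix.det_succ_column_zero, Fin.sum_univ_succ]
  have hz : ∀ i : Fin r, N i.succ 0 = 0 := by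
    intro i
    rw [hN]
    simp [Matrix.sub_apply, Matrix.smul_apply, Matrix.map_apply, hcol i, Matrix.one_apply]
  have hsum : ∑ i : Fin r, (-1 : A[X]) ^ ((i.succ : Fin (r+1)) : ℕ) * N i.succ 0 *
      Matrix.det (N.submatrix i.succ.succAbove Fin.succ) = 0 :=
    Finset.sum_eq_zero (fun i _ => by rw [hz i, mul_zero, zero_mul])
  rw [hsum, add_zero]
  have h00 : N 0 0 = 1 - C (U 0 0) * X := by
    rw [hN]
    simp only [Matrix.sub_apply, Matrix.smul_apply, Matrix.map_apply, Matrix.one_apply_eq,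
      smul_eq_mul]
    rw [mul_comm]
  have hsub : N.submatrix (Fin.succAbove 0) Fin.succ
      = 1 - (X : A[X]) • (U.submatrix Fin.succ Fin.succ).map (C : A →+* A[X]) := by
    rw [hN]
    ext i j
    simp only [Matrix.submatrix_apply, Matrix.sub_apply, Matrix.smul_apply, Matrix.map_apply,
      Matrix.one_apply, Fin.succAbove_zero, Fin.succ_inj]
  rw [h00, hsub]
  simp

end Poly

end Groth.Agent.Lib.MMTraceH1
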