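import Mathlib
import Groth.Agent.Lib.MMTrace2_helper1

/-!
# `Σ Tr(Γⁿ u) tⁿ · det(1 - t u) = 1` (helper1, for S8609)
-/

namespace Groth.Agent.Lib.MMTraceH1

open TensorProduct PiTensorProduct Module Polynomial

universe u v

/-- the identity to be proved, for a matrix -/
def Id {A : Type u} [CommRing A] {r : ℕ} (U : Matrix (Fin r) (Fin r) A) : Prop :=
  ((D U : A[X]) : PowerSeries A) * PowerSeries.mk (G U) = 1

lemma coe_one_sub {A : Type u} [CommRing A] (c : A) :
    ((1 - C c * X : A[X]) : PowerSeries A) = 1 - PowerSeries.C c * PowerSeries.X := by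
  rw [← Polynomial.coeToPowerSeries.ringHom_apply, map_sub, map_one, map_mul,
    Polynomial.coeToPowerSeries.ringHom_apply, Polynomial.coeToPowerSeries.ringHom_apply,
    Polynomial.coe_C, Polynomial.coe_X]

lemma geom {A : Type u} [CommRing A] (c : A) :
    ((1 - C c * X : A[X]) : PowerSeries A) * PowerSeries.mk (fun a => c ^ a) = 1 := by
  rw [coe_one_sub]
  ext n
  rw [sub_mul, one_mul, map_sub, mul_assoc, PowerSeries.coeff_C_mul, PowerSeries.coeff_mk,
    PowerSeries.coeff_one]
  cases n with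
  | zero => simp
  | succ n =>
    rw [PowerSeries.coeff_succ_X_mul, PowerSeries.coeff_mk, if_neg (Nat.succ_ne_zero n),
      pow_succ']
    ring

lemma Id_succ_of_col {A : Type u} [CommRing A] {r : ℕ} (U : Matrix (Fin (r+1)) (Fin (r+1)) A)
    (hcol : ∀ i : Fin r, U i.succ 0 = 0) (h : Id (U.submatrix Fin.succ Fin.succ)) : Id U := by
  unfold Id at h ⊢
  have hG : PowerSeries.mk (G U) = PowerSeries.mk (fun a => U 0 0 ^ a) *
      PowerSeries.mk (G (U.submatrix Fin.succ Fin.succ)) := by
    ext n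
    rw [PowerSeries.coeff_mk, PowerSeries.coeff_mul, G_succ_of_col U hcol n]
    refine Finset.sum_congr rfl (fun p _ => ?_)
    rw [PowerSeries.coeff_mk, PowerSeries.coeff_mk]
  rw [hG, D_succ_of_col U hcol, Polynomial.coe_mul, mul_mul_mul_comm, geom, h, one_mul]

section Restrict

variable {A : Type u} [CommRing A] {M : Type v} [AddCommGroup M] [Module A M]

lemma map_mem_Sy (u : M →ₗ[A] M) (n : ℕ) :
    ∀ x ∈ Sy A M n, PiTensorProduct.map (fun _ : Fin n => u) x ∈ Sy A M n := by
  intro x hx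
  rw [mem_Sy] at hx ⊢
  intro σ
  calc PiTensorProduct.reindex A (fun _ : Fin n => M) σ
        (PiTensorProduct.map (fun _ : Fin n => u) x)
      = PiTensorProduct.map (fun _ : Fin n => u)
          (PiTensorProduct.reindex A (fun _ : Fin n => M) σ x) :=
        (PiTensorProduct.map_reindex (fun _ : Fin n => u) σ x).symm
    _ = PiTensorProduct.map (fun _ : Fin n => u) x := by rw [hx σ]

/-- the endomorphism of the symmetric tensors induced by `u` -/
noncomputable def gam (u : M →ₗ[A] M) (n : ℕ) : ↥(Sy A M n) →ₗ[A] ↥(Sy A M n) :=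
  (PiTensorProduct.map (fun _ : Fin n => u)).restrict (map_mem_Sy u n)

lemma gam_coe (u : M →ₗ[A] M) (n : ℕ) (x : ↥(Sy A M n)) :
    ((gam u n x : ↥(Sy A M n)) : ⨂[A] _i : Fin n, M)
      = PiTensorProduct.map (fun _ : Fin n => u) (x : ⨂[A] _i : Fin n, M) := rfl

lemma Id_toMatrix_of {r : ℕ} (b b' : Basis (Fin r) A M) (u : M →ₗ[A] M)
    (h : Id (LinearMap.toMatrix b b u)) : Id (LinearMap.toMatrix b' b' u) := by
  unfold Id at h ⊢
  have hD : D (LinearMap.toMatrix b' b' u) = D (LinearMap.toMatrix b b u) := by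
    rw [← det_eq_D b u, ← det_eq_D b' u]
  have hG : G (LinearMap.toMatrix b' b' u) = G (LinearMap.toMatrix b b u) := by
    funext n
    rw [← trace_eq_G b n u (gam u n) (gam_coe u n), ← trace_eq_G b' n u (gam u n) (gam_coe u n)]
  rw [hD, hG]
  exact h

end Restrict

lemma exists_basis_zero_eq {K : Type u} [Field K] {r : ℕ} (v : Fin (r+1) → K) (hv : v ≠ 0) :
    ∃ b : Basis (Fin (r+1)) K (Fin (r+1) → K), b 0 = v := by
  classical
  have hli : LinearIndepOn K id ({v} : Set (Fin (r+1) → K)) :=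
    LinearIndepOn.singleton (R := K) (v := id) hv
  haveI : Fintype ↥(hli.extend (Set.subset_univ _)) :=
    FiniteDimensional.fintypeBasisIndex (Basis.extend hli)
  have hcard : Fintype.card ↥(hli.extend (Set.subset_univ _)) = r + 1 := by
    rw [← Module.finrank_eq_card_basis (Basis.extend hli), Module.finrank_fin_fun]
  obtain ⟨e₀⟩ : Nonempty (↥(hli.extend (Set.subset_univ _)) ≃ Fin (r+1)) :=
    ⟨Fintype.equivFinOfCardEq hcard⟩
  obtain ⟨i₀, hi₀⟩ : ∃ i₀ : ↥(hli.extend (Set.subset_univ _)), (i₀ : Fin (r+1) → K) = v :=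
    ⟨⟨v, Basis.subset_extend hli (Set.mem_singleton v)⟩, rfl⟩
  refine ⟨(Basis.extend hli).reindex (e₀.trans (Equiv.swap (e₀ i₀) 0)), ?_⟩
  rw [Basis.reindex_apply]
  have h1 : (e₀.trans (Equiv.swap (e₀ i₀) 0)).symm 0 = i₀ := by
    rw [Equiv.symm_apply_eq]
    simp
  rw [h1, Basis.extend_apply_self, hi₀]

theorem Id_field {K : Type u} [Field K] [IsAlgClosed K] :
    ∀ (r : ℕ) (U : Matrix (Fin r) (Fin r) K), Id U := by
  intro r
  induction r with
  | zero =>
    intro U
    unfold Id
    have hD : D U = 1 := by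
      unfold D
      exact Matrix.det_isEmpty
    have hG : PowerSeries.mk (G U) = 1 := by
      ext n
      rw [PowerSeries.coeff_mk, PowerSeries.coeff_one]
      cases n with
      | zero =>
        unfold G
        rw [Finset.Nat.antidiagonalTuple_zero_zero, Finset.sum_singleton, Finset.univ_eq_empty,
          Finset.prod_empty, MvPolynomial.coeff_one, if_pos (Subsingleton.elim _ _), if_pos rfl]
      | succ n =>
        unfold G
        rw [Finset.Nat.antidiagonalTuple_zero_succ, Finset.sum_empty,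
          if_neg (Nat.succ_ne_zero n)]
    rw [hD, hG, Polynomial.coe_one, one_mul]
  | succ r ih =>
    intro U
    obtain ⟨u, hu⟩ : ∃ u : (Fin (r+1) → K) →ₗ[K] (Fin (r+1) → K), u = Matrix.toLin' U :=
      ⟨_, rfl⟩
    obtain ⟨μ, hμ⟩ := Module.End.exists_eigenvalue u
    obtain ⟨v, hv⟩ := hμ.exists_hasEigenvector
    obtain ⟨b, hb⟩ := exists_basis_zero_eq v hv.2
    have hU : LinearMap.toMatrix (Pi.basisFun K (Fin (r+1))) (Pi.basisFun K (Fin (r+1))) u
        = U := by
      rw [LinearMap.toMatrix_eq_toMatrix', hu]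
      exact LinearMap.toMatrix'_toLin' U
    have hcol : ∀ i : Fin r, LinearMap.toMatrix b b u i.succ 0 = 0 := by
      intro i
      rw [LinearMap.toMatrix_apply, hb, hv.apply_eq_smul, map_smul, ← hb, Basis.repr_self,
        Finsupp.smul_apply, Finsupp.single_apply, if_neg (Fin.succ_ne_zero i).symm, smul_zero]
    have h1 : Id (LinearMap.toMatrix b b u) := Id_succ_of_col _ hcol (ih _)
    have h2 := Id_toMatrix_of b (Pi.basisFun K (Fin (r+1))) u h1
    rwa [hU] at h2

section Reduce

variable {A : Type u} [CommRing A] {B : Type v} [CommRing B]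

lemma mk_map (φ : A →+* B) (g : ℕ → A) :
    PowerSeries.mk (fun n => φ (g n)) = PowerSeries.map φ (PowerSeries.mk g) := by
  ext n
  simp

lemma Id_map (φ : A →+* B) {r : ℕ} (U : Matrix (Fin r) (Fin r) A) (h : Id U) :
    Id (U.map φ) := by
  unfold Id at h ⊢
  rw [D_map, Polynomial.polynomial_map_coe,
    show G (U.map φ) = fun n => φ (G U n) from funext (G_map φ U), mk_map, ← map_mul, h, map_one]

lemma Id_of_map_injective (φ : A →+* B) (hφ : Function.Injective φ) {r : ℕ}
    (U : Matrix (Fin r) (Fin r) A) (h : Id (U.map φ)) : Id U := by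
  unfold Id at h ⊢
  rw [D_map, Polynomial.polynomial_map_coe,
    show G (U.map φ) = fun n => φ (G U n) from funext (G_map φ U), mk_map, ← map_mul] at h
  ext n
  apply hφ
  have h3 := congrArg (PowerSeries.coeff n) h
  rw [PowerSeries.coeff_map] at h3
  rw [h3, PowerSeries.coeff_one, PowerSeries.coeff_one]
  split_ifs <;> simp

end Reduce

/-- the universal coefficient ring -/
abbrev R0 (r : ℕ) : Type := MvPolynomial (Fin r × Fin r) ℤ

/-- an algebraically closed field containing the universal ring -/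
abbrev K0 (r : ℕ) : Type := AlgebraicClosure (FractionRing (R0 r))

/-- the generic matrix -/
noncomputable def U0 (r : ℕ) : Matrix (Fin r) (Fin r) (R0 r) :=
  Matrix.of (fun i j => MvPolynomial.X (i, j))

/-- the embedding of the universal ring -/
noncomputable def psi0 (r : ℕ) : R0 r →+* K0 r :=
  (algebraMap (FractionRing (R0 r)) (K0 r)).comp (algebraMap (R0 r) (FractionRing (R0 r)))

lemma psi0_injective (r : ℕ) : Function.Injective (psi0 r) :=
  (algebraMap (FractionRing (R0 r)) (K0 r)).injective.comp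
    (IsFractionRing.injective (R0 r) (FractionRing (R0 r)))

lemma Id_U0 (r : ℕ) : Id (U0 r) :=
  Id_of_map_injective (psi0 r) (psi0_injective r) (U0 r) (Id_field r _)

theorem Id_all {A : Type u} [CommRing A] {r : ℕ} (U : Matrix (Fin r) (Fin r) A) : Id U := by
  obtain ⟨φ, hφ⟩ : ∃ φ : R0 r →+* A, φ = MvPolynomial.eval₂Hom (Int.castRingHom A)
      (fun p : Fin r × Fin r => U p.1 p.2) := ⟨_, rfl⟩
  have hU : (U0 r).map φ = U := by
    ext i j
    rw [hφ]
    simp [U0]
  rw [← hU]
  exact Id_map φ (U0 r) (Id_U0 r)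

theorem main {A : Type u} [CommRing A] (M : Type v) [AddCommGroup M] [Module A M]
    [Module.Free A M] [Module.Finite A M] (u : M →ₗ[A] M)
    (γ : ∀ n : ℕ, ↥(Sy A M n) →ₗ[A] ↥(Sy A M n))
    (hγ : ∀ (n : ℕ) (x : ↥(Sy A M n)), ((γ n x : ↥(Sy A M n)) : ⨂[A] _i : Fin n, M) =
      PiTensorProduct.map (fun _ : Fin n => u) (x : ⨂[A] _i : Fin n, M)) :
    ((LinearMap.det (LinearMap.id - (X : A[X]) • u.baseChange A[X]) : A[X]) : PowerSeries A) *
      PowerSeries.mk (fun n => LinearMap.trace A _ (γ n)) = 1 := by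
  classical
  obtain ⟨b, -⟩ : ∃ b : Basis (Fin (Fintype.card (Module.Free.ChooseBasisIndex A M))) A M,
      b = (Module.Free.chooseBasis A M).reindex
        (Fintype.equivFin (Module.Free.ChooseBasisIndex A M)) := ⟨_, rfl⟩
  have h := Id_all (LinearMap.toMatrix b b u)
  unfold Id at h
  rw [det_eq_D b u]
  have hG : (fun n => LinearMap.trace A _ (γ n)) = G (LinearMap.toMatrix b b u) :=
    funext (fun n => trace_eq_G b n u (γ n) (hγ n))
  rw [hG]
  exact h

end Groth.Agent.Lib.MMTraceH1
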