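import Mathlib
import Groth.Prelude
import Groth.Agent.Lib.MTN6_helper4

/-!
# Fixed points and centralisers for groups of multiplicative type of arbitrary type (helper4)

The results of `MTWeil2`, `MTSm4`, `MTSm5`, `MTN6` never use that the character groups are finitely
generated; here they are restated for groups of multiplicative type of arbitrary type.
-/

set_option backward.isDefEq.respectTransparency.types false
set_option autoImplicit false
set_option linter.unusedVariables false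
set_option linter.unusedTactic false
set_option linter.unreachableTactic false
set_option linter.unusedSectionVars false
set_option linter.style.haveILetI false
set_option linter.deprecated false
set_option linter.unusedSimpArgs false
set_option linter.style.longLine false
set_option maxHeartbeats 1600000

universe u

open CategoryTheory CategoryTheory.Limits MonoidalCategory CartesianMonoidalCategory MonObj GrpObj
  AlgebraicGeometry Opposite TensorProduct

namespace Groth.Agent.Lib.MTAnyH4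

open Groth.Agent.Lib.RedDictH8 Groth.Agent.Lib.DSDict Groth.Agent.Lib.MultGa
  Groth.Agent.Lib.MultTrivH4 Groth.Agent.Lib.ConnActH4 Groth.Agent.Lib.TwConstFinH4
  Groth.Agent.Lib.MTHomH4 Groth.Agent.Lib.TorusQuotH4 Groth.Agent.Lib.KerTrivH4
  Groth.Agent.Lib.MTWeilH4 Groth.Agent.Lib.MTSmH4 Groth.Agent.Lib.MTNormH4

/-- `H` is of multiplicative type (of arbitrary type): fpqc locally, Zariski locally diagonalisable. -/
def IsMTAny {S : Scheme.{u}} (H : Over S) [GrpObj H] : Prop :=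
  ∃ (S' : Scheme.{u}) (f : S' ⟶ S), Flat f ∧ Surjective f ∧
    (∀ V : S.Opens, IsAffineOpen V → ∃ W : S'.Opens, IsCompact (W : Set S') ∧
      f.base '' (W : Set S') = (V : Set S)) ∧
    ∀ s' : S', ∃ U : S'.Opens, s' ∈ U ∧ ∃ (M : Type) (_ : AddCommGroup M),
      Nonempty (Grp.mk (Red.bc (U.ι ≫ f) H) ≅ Grp.mk (Red.DS (U : Scheme.{u}) M))

theorem isMTAny_of_locally {S : Scheme.{u}} (H : Over S) [GrpObj H]
    (hH : TwC.Locally S TwC.Topology.fpqc (fun S' g => ∃ (M : Type) (_ : AddCommGroup M),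
      Nonempty (Grp.mk (Red.bc g H) ≅ Grp.mk (Red.DS S' M)))) : IsMTAny H := hH

/-- **Theorem W** for arbitrary type. -/
theorem weil_closed_any {S : Scheme.{u}} {H Y K₀ : Over S} [GrpObj H] (hH : IsMTAny H)
    (k₀ : K₀ ⟶ H ⊗ Y) [IsClosedImmersion k₀.left] [LocallyOfFinitePresentation k₀.left] :
    ∃ (C : Scheme.{u}) (cι : C ⟶ Y.left), IsClosedImmersion cι ∧
      LocallyOfFinitePresentation cι ∧
      ∀ {T : Scheme.{u}} (t : T ⟶ Y.left), (∃ l : T ⟶ C, l ≫ cι = t) ↔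
        IsIso (bcL (kB k₀) t) := by
  obtain ⟨S', f, hflat, hsurj, hqc, hloc⟩ := hH
  haveI := hflat
  haveI := hsurj
  choose U hxU M iM eH using hloc
  obtain ⟨P', π, σ, sq⟩ : ∃ (P' : Scheme.{u}) (π : P' ⟶ Y.left) (σ : P' ⟶ S'),
      IsPullback π σ Y.hom f := ⟨_, _, _, IsPullback.of_hasPullback Y.hom f⟩
  have hmem := chart_family_mem f hflat hsurj hqc Y.hom π σ sq U hxU
  have hcov := cov_pieces f hqc Y.hom π σ sq
  have hch := chart_exists σ U hxU
  have hchartdata : ∀ i : ChartIdx σ U, ∃ (Z : Scheme.{u}) (z : Z ⟶ (i.2.1.2 : Scheme.{u})),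
      IsClosedImmersion z ∧ LocallyOfFinitePresentation z ∧
        ∀ {T : Scheme.{u}} (r : T ⟶ (i.2.1.2 : Scheme.{u})),
          IsIso (bcL (kB k₀) (r ≫ i.2.1.2.ι ≫ π)) ↔ ∃ l : T ⟶ Z, l ≫ z = r := by
    intro i
    letI := iM i.2.1.1
    obtain ⟨eA⟩ := eH i.2.1.1
    exact chart_data k₀ f π σ sq.w (U i.2.1.1) eA i.2.1.2 i.2.2.1 i.2.2.2
  choose Z z hzc hzfp hzuniv using hchartdata
  haveI := hzc
  have hcompat : ∀ i j : ChartIdx σ U,
      ((z i).ker).comap (pullback.fst (i.2.1.2.ι ≫ π) (j.2.1.2.ι ≫ π)) =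
        ((z j).ker).comap (pullback.snd (i.2.1.2.ι ≫ π) (j.2.1.2.ι ≫ π)) := by
    intro i j
    refine le_antisymm ?_ ?_
    · exact compat_le (kB k₀) (j.2.1.2.ι ≫ π) (i.2.1.2.ι ≫ π) (z j) (z i)
        (pullback.snd (i.2.1.2.ι ≫ π) (j.2.1.2.ι ≫ π))
        (pullback.fst (i.2.1.2.ι ≫ π) (j.2.1.2.ι ≫ π)) pullback.condition.symm
        (fun {T} r => hzuniv j r) (fun {T} r => hzuniv i r)
    · exact compat_le (kB k₀) (i.2.1.2.ι ≫ π) (j.2.1.2.ι ≫ π) (z i) (z j)
        (pullback.fst (i.2.1.2.ι ≫ π) (j.2.1.2.ι ≫ π))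
        (pullback.snd (i.2.1.2.ι ≫ π) (j.2.1.2.ι ≫ π)) pullback.condition
        (fun {T} r => hzuniv i r) (fun {T} r => hzuniv j r)
  obtain ⟨J, hJ, -⟩ := Groth.Agent.Lib.ClosedDescentFam_helper7.main
    (Q := fun p : ChartIdx σ U => (p.2.1.2 : Scheme.{u}))
    (fun p : ChartIdx σ U => p.2.1.2.ι ≫ π) (fun p => (z p).ker) hmem hcompat
  have hker : ∀ i : ChartIdx σ U, (J.subschemeι).ker.comap (i.2.1.2.ι ≫ π) = (z i).ker := by
    intro i
    rw [Scheme.IdealSheafData.ker_subschemeι]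
    exact hJ i
  have hequiv : ∀ (i : ChartIdx σ U) {T : Scheme.{u}} (r₁ : T ⟶ (i.2.1.2 : Scheme.{u})),
      IsIso (bcL (cB J.subschemeι) (r₁ ≫ i.2.1.2.ι ≫ π)) ↔
        IsIso (bcL (kB k₀) (r₁ ≫ i.2.1.2.ι ≫ π)) := by
    intro i T r₁
    exact (cB_iff J.subschemeι _).trans
      ((factor_transfer (i.2.1.2.ι ≫ π) J.subschemeι (z i) (hker i) r₁).trans
        (hzuniv i r₁).symm)
  have hchart1 : ∀ x : P', ∃ O : P'.Opens, x ∈ O ∧ ∀ {T : Scheme.{u}} (r : T ⟶ P'),
      (∀ t : T, r.base t ∈ O) → IsIso (bcL (cB J.subschemeι) (r ≫ π)) →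
        IsIso (bcL (kB k₀) (r ≫ π)) := by
    intro x
    obtain ⟨O, hxO, hO⟩ := hch x
    refine ⟨O, hxO, fun {T} r hr h => ?_⟩
    obtain ⟨i, r₁, hr₁⟩ := hO r hr
    have e : r₁ ≫ i.2.1.2.ι ≫ π = r ≫ π := by rw [← Category.assoc, hr₁]
    exact bcL_congr (kB k₀) e ((hequiv i r₁).mp (bcL_congr (cB J.subschemeι) e.symm h))
  have hchart2 : ∀ x : P', ∃ O : P'.Opens, x ∈ O ∧ ∀ {T : Scheme.{u}} (r : T ⟶ P'),
      (∀ t : T, r.base t ∈ O) → IsIso (bcL (kB k₀) (r ≫ π)) →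
        IsIso (bcL (cB J.subschemeι) (r ≫ π)) := by
    intro x
    obtain ⟨O, hxO, hO⟩ := hch x
    refine ⟨O, hxO, fun {T} r hr h => ?_⟩
    obtain ⟨i, r₁, hr₁⟩ := hO r hr
    have e : r₁ ≫ i.2.1.2.ι ≫ π = r ≫ π := by rw [← Category.assoc, hr₁]
    exact bcL_congr (cB J.subschemeι) e ((hequiv i r₁).mpr (bcL_congr (kB k₀) e.symm h))
  have hlfp : LocallyOfFinitePresentation J.subschemeι := by
    apply lfp_of_bcL_one
    refine desc_imp (cB J.subschemeι) (cB J.subschemeι) ⊤ @LocallyOfFinitePresentation π hcov ?_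
      (𝟙 Y.left) trivial
    intro x
    obtain ⟨O, hxO, hO⟩ := hch x
    refine ⟨O, hxO, fun {T} r hr _ => ?_⟩
    obtain ⟨i, r₁, hr₁⟩ := hO r hr
    have e : r₁ ≫ i.2.1.2.ι ≫ π = r ≫ π := by rw [← Category.assoc, hr₁]
    haveI := hzfp i
    exact P_congr (cB J.subschemeι) @LocallyOfFinitePresentation e
      (P_bc (cB J.subschemeι) (i.2.1.2.ι ≫ π) r₁
        (lfp_chart (i.2.1.2.ι ≫ π) J.subschemeι (z i) (hker i)))
  refine ⟨J.subscheme, J.subschemeι, inferInstance, hlfp, ?_⟩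
  intro T t
  constructor
  · rintro ⟨l, hl⟩
    exact desc_iso (cB J.subschemeι) (kB k₀) π hcov hchart1 t
      ((cB_iff J.subschemeι t).mpr ⟨l, hl⟩)
  · intro h
    exact (cB_iff J.subschemeι t).mp (desc_iso (kB k₀) (cB J.subschemeι) π hcov hchart2 t h)

/-- the fixed point scheme is locally of finite presentation over `X` (arbitrary type). -/
theorem lfp_fixed_any {S : Scheme.{u}} {H X : Over S} [GrpObj H] (act : H ⊗ X ⟶ X)
    {F : Scheme.{u}} (f : F ⟶ X.left)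
    (hF : ∀ {T : Scheme.{u}} (x : T ⟶ X.left), (∃ y : T ⟶ F, y ≫ f = x) ↔ FixedL act x)
    (hH : IsMTAny H) [IsSeparated X.hom] [LocallyOfFiniteType X.hom]
    [IsClosedImmersion f] : LocallyOfFinitePresentation f := by
  haveI hc : IsClosedImmersion (fixk act).left := closedImm_fixk act
  haveI hl : LocallyOfFinitePresentation (fixk act).left := lfp_eqk act (snd H X)
  obtain ⟨C, cι, hcc, hcfp, huniv⟩ := weil_closed_any hH (fixk act)
  haveI := hcc
  haveI := hcfp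
  have hC : ∀ {T : Scheme.{u}} (t : T ⟶ X.left), (∃ l : T ⟶ C, l ≫ cι = t) ↔ FixedL act t :=
    fun t => (huniv t).trans (fixedL_iff_iso act t)
  obtain ⟨l₁, hl₁⟩ := (hC f).mpr ((hF f).mp ⟨𝟙 F, Category.id_comp f⟩)
  obtain ⟨l₂, hl₂⟩ := (hF cι).mpr ((hC cι).mp ⟨𝟙 C, Category.id_comp cι⟩)
  have h12 : l₁ ≫ l₂ = 𝟙 F := by
    rw [← cancel_mono f, Category.assoc, hl₂, hl₁, Category.id_comp]
  have h21 : l₂ ≫ l₁ = 𝟙 C := by
    rw [← cancel_mono cι, Category.assoc, hl₁, hl₂, Category.id_comp]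
  haveI : IsIso l₁ := ⟨l₂, h12, h21⟩
  rw [← hl₁]
  infer_instance

/-- **Smoothness of fixed points** (arbitrary type). -/
theorem smooth_fixed_any {S : Scheme.{u}} {H X : Over S} [GrpObj H] (act : H ⊗ X ⟶ X)
    (hassoc : ∀ (T : Over S) (g h : T ⟶ H) (y : T ⟶ X),
      lift (g * h) y ≫ act = lift g (lift h y ≫ act) ≫ act)
    {F : Scheme.{u}} (f : F ⟶ X.left)
    (hF : ∀ {T : Scheme.{u}} (x : T ⟶ X.left), (∃ y : T ⟶ F, y ≫ f = x) ↔ FixedL act x)
    (hH : IsMTAny H) [Smooth X.hom] [IsSeparated X.hom]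
    [IsClosedImmersion f] : Smooth (f ≫ X.hom) := by
  haveI : LocallyOfFinitePresentation f := lfp_fixed_any act f hF hH
  haveI : LocallyOfFinitePresentation (f ≫ X.hom) := inferInstance
  obtain ⟨S', g, hflat, hsurj, hqc, hloc⟩ := hH
  haveI := hflat
  have hpt : ∀ y : F, ∃ U : F.Opens, y ∈ U ∧ Smooth (U.ι ≫ f ≫ X.hom) := by
    intro y
    obtain ⟨s', hs'⟩ := hsurj.surj ((f ≫ X.hom) y)
    obtain ⟨y', hy'1, hy'2⟩ :=
      AlgebraicGeometry.Scheme.Pullback.exists_preimage_pullback (f := f ≫ X.hom) (g := g)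
        y s' hs'.symm
    obtain ⟨U₁, hs'U, M, instM, ⟨e⟩⟩ := hloc s'
    letI := instM
    obtain ⟨a1, ainv, ha1, hainv, h1, h2⟩ := Groth.Agent.Lib.DiagHom.iso_data e
    haveI := ha1
    haveI := hainv
    have htriv : ∀ (W' : Scheme.{u}) (r : W' ⟶ U₁) (jjW : W' ⟶ S), r ≫ U₁.ι ≫ g = jjW →
        Nonempty (PtIso H jjW M) :=
      fun W' r jjW hr => exists_transport H (U₁.ι ≫ g) a1 ainv h1 h2 r jjW hr
    have hfs := fs_pullback act hassoc f hF g U₁ htriv
    haveI hsm : Smooth ((pullback.snd (f ≫ X.hom) g ⁻¹ᵁ U₁).ι ≫ pullback.snd (f ≫ X.hom) g) :=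
      Groth.Agent.Lib.FSmoothIffH7.smooth_of_lfp_fs _ hfs
    have hy'U : y' ∈ pullback.snd (f ≫ X.hom) g ⁻¹ᵁ U₁ := by
      show pullback.snd (f ≫ X.hom) g y' ∈ U₁
      rw [hy'2]
      exact hs'U
    obtain ⟨U, hU1, hU2⟩ := Groth.Agent.Lib.UnramLocH4.main2757 (f ≫ X.hom) g y'
      (Flat.stalkMap g _) ⟨_, hy'U, hsm⟩
    have hU1' : y ∈ U := by
      have e0 : (pullback.fst (f ≫ X.hom) g).base y' = y := hy'1
      rw [← e0]
      exact hU1
    exact ⟨U, hU1', hU2⟩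
  choose U hyU hsmU using hpt
  have hU : TopologicalSpace.IsOpenCover U := by
    show ⨆ y, U y = ⊤
    rw [eq_top_iff]
    intro t _
    rw [TopologicalSpace.Opens.mem_iSup]
    exact ⟨t, hyU t⟩
  apply IsZariskiLocalAtSource.of_openCover (P := @Smooth) (F.openCoverOfIsOpenCover U hU)
  intro y
  exact hsmU y

/-- the fixed points of an (associative) action of a group of multiplicative type (of arbitrary
type) on a smooth separated scheme are represented by a smooth closed subscheme. -/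
theorem fixed_repr_any {S : Scheme.{u}} {H X : Over S} [GrpObj H] (act : H ⊗ X ⟶ X)
    (hassoc : ∀ (T : Over S) (g h : T ⟶ H) (y : T ⟶ X),
      lift (g * h) y ≫ act = lift g (lift h y ≫ act) ≫ act)
    (hH : IsMTAny H) [Smooth X.hom] [IsSeparated X.hom] :
    ∃ (Z : Over S) (z : Z ⟶ X), IsClosedImmersion z.left ∧ Smooth Z.hom ∧
      ∀ (T : Over S) (g : T ⟶ X), (∃ x : T ⟶ Z, x ≫ z = g) ↔
        ∀ (T' : Over S) (f : T' ⟶ T) (h : T' ⟶ H), lift h (f ≫ g) ≫ act = f ≫ g := by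
  haveI hc : IsClosedImmersion (fixk act).left := closedImm_fixk act
  haveI hl : LocallyOfFinitePresentation (fixk act).left := lfp_eqk act (snd H X)
  obtain ⟨C, cι, hcc, hcfp, huniv⟩ := weil_closed_any hH (fixk act)
  haveI := hcc
  have hC : ∀ {T : Scheme.{u}} (t : T ⟶ X.left), (∃ l : T ⟶ C, l ≫ cι = t) ↔ FixedL act t :=
    fun t => (huniv t).trans (fixedL_iff_iso act t)
  refine ⟨Over.mk (cι ≫ X.hom), Over.homMk cι rfl, hcc, ?_, ?_⟩
  · show Smooth (cι ≫ X.hom)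
    exact smooth_fixed_any act hassoc cι hC hH
  · intro T g
    exact (over_factor_iff cι g).trans ((huniv g.left).trans (fixed_iff_iso act g))

section Tr

variable {S : Scheme.{u}} {H G : Over S} [GrpObj H] [GrpObj G]

/-- transporter of two homomorphisms from a group of multiplicative type (arbitrary type). -/
theorem transporter_any (u₁ u₂ : H ⟶ G) (hH : IsMTAny H) [Smooth G.hom] [IsSeparated G.hom]
    [IsMonHom u₁] [IsMonHom u₂] :
    ∃ (T : Over S) (j : T ⟶ G), IsClosedImmersion j.left ∧ Smooth T.hom ∧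
      ∀ (X : Over S) (g : X ⟶ G), (∃ t : X ⟶ T, t ≫ j = g) ↔
        ∀ (X' : Over S) (x : X' ⟶ X) (h : X' ⟶ H),
          (x ≫ g) * (h ≫ u₁) * (x ≫ g)⁻¹ = h ≫ u₂ := by
  obtain ⟨Z, z, hzc, hzs, hzu⟩ := fixed_repr_any (trAct u₁ u₂) (trAct_assoc u₁ u₂) hH
  refine ⟨Z, z, hzc, hzs, fun X g => (hzu X g).trans ?_⟩
  refine forall_congr' (fun X' => forall_congr' (fun x => forall_congr' (fun h => ?_)))
  exact trAct_fixed_iff u₁ u₂ h (x ≫ g)

/-- centraliser of a homomorphism from a group of multiplicative type (arbitrary type). -/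
theorem centralizer_any (hH : IsMTAny H) [Smooth G.hom] [IsSeparated G.hom]
    (v : H ⟶ G) [IsMonHom v] :
    ∃ (Z : Over S) (_ : GrpObj Z) (j : Z ⟶ G), Red.IsCentralizerOf v j ∧
      IsClosedImmersion j.left ∧ Smooth Z.hom := by
  obtain ⟨Z, z, hzc, hzs, hzu⟩ := fixed_repr_any (trAct v v) (trAct_assoc v v) hH
  haveI := hzc
  haveI hmono : Mono z := mono_of_left_mono z
  have hzu' : ∀ (X : Over S) (g : X ⟶ G), (∃ x : X ⟶ Z, x ≫ z = g) ↔
      ∀ (X' : Over S) (x : X' ⟶ X) (h : X' ⟶ H), (x ≫ g) * (h ≫ v) = (h ≫ v) * (x ≫ g) := by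
    intro X g
    refine (hzu X g).trans ?_
    refine forall_congr' (fun X' => forall_congr' (fun x => forall_congr' (fun h => ?_)))
    exact (trAct_fixed_iff v v h (x ≫ g)).trans mul_inv_eq_iff_eq_mul
  obtain ⟨grp, hmon⟩ := exists_grpObj_of_pts z
    (fun T g => ∀ (X' : Over S) (x : X' ⟶ T) (h : X' ⟶ H),
      (x ≫ g) * (h ≫ v) = (h ≫ v) * (x ≫ g))
    hzu'
    (by
      intro T X' x h
      rw [MonObj.comp_one, _root_.one_mul, _root_.mul_one])
    (by
      intro T g g' hg hg' X' x h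
      rw [MonObj.comp_mul, _root_.mul_assoc, hg', ← _root_.mul_assoc, hg, _root_.mul_assoc])
    (by
      intro T g hg X' x h
      rw [GrpObj.comp_inv]
      exact (Commute.inv_left (show Commute (x ≫ g) (h ≫ v) from hg X' x h)).eq)
  exact ⟨Z, grp, z, ⟨hmon, hmono, hzu'⟩, hzc, hzs⟩

end Tr

end Groth.Agent.Lib.MTAnyH4
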