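import Mathlib
import Groth.Prelude
import Groth.Agent.Lib.MTHomFlat_helper4

/-!
# Homomorphisms of groups of multiplicative type, source of arbitrary type: the locus where
`u_s` is faithfully flat is open and closed (helper4)
-/

set_option backward.isDefEq.respectTransparency.types false
set_option autoImplicit false
set_option linter.unusedVariables false
set_option linter.unusedTactic false
set_option linter.unreachableTactic false
set_option linter.unusedSectionVars false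
set_option linter.style.haveILetI false
set_option linter.deprecated false
set_option linter.unusedSimpArgs false
set_option linter.style.longLine false
set_option maxHeartbeats 1600000

universe u

open CategoryTheory CategoryTheory.Limits MonoidalCategory CartesianMonoidalCategory MonObj GrpObj
  AlgebraicGeometry Opposite

namespace Groth.Agent.Lib.MTHomGenH4

open Groth.Agent.Lib.RedDictH8 Groth.Agent.Lib.DSDict Groth.Agent.Lib.MultGa
  Groth.Agent.Lib.MultTrivH4 Groth.Agent.Lib.ConnActH4 Groth.Agent.Lib.TwConstFinH4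
  Groth.Agent.Lib.MTHomH4

theorem setup_raw_gen {S : Scheme.{u}} (G H : Over S) [GrpObj G] [GrpObj H]
    (hG : ∃ (S' : Scheme.{u}) (f : S' ⟶ S), Flat f ∧ Surjective f ∧
      (∀ V : S.Opens, IsAffineOpen V → ∃ W : S'.Opens, IsCompact (W : Set S') ∧
        f.base '' (W : Set S') = (V : Set S)) ∧
      ∀ s' : S', ∃ U : S'.Opens, s' ∈ U ∧ ∃ (M : Type) (_ : AddCommGroup M),
        Nonempty (Grp.mk (Red.bc (U.ι ≫ f) G) ≅ Grp.mk (Red.DS (U : Scheme.{u}) M))) (hH : SGA3x.IsMultTypeFT H) :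
    ∃ (X : Scheme.{u}) (F : X ⟶ S),
      (∀ V : S.Opens, IsAffineOpen V → ∃ (P' : Scheme.{u}) (p : P' ⟶ (V : Scheme.{u}))
        (m : P' ⟶ X), Flat p ∧ Surjective p ∧ QuasiCompact p ∧ m ≫ F = p ≫ V.ι) ∧
      ∀ x : X, ∃ Bo : X.Opens, x ∈ Bo ∧
        ∃ (M N : Type) (_ : AddCommGroup M) (_ : AddCommGroup N), AddGroup.FG N ∧
          Nonempty (PtIso G (Bo.ι ≫ F) M) ∧ Nonempty (PtIso H (Bo.ι ≫ F) N) := by
  obtain ⟨S₁, f₁, hflat₁, hsurj₁, hcov₁, hloc₁⟩ := hG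
  obtain ⟨S₂, f₂, hflat₂, hsurj₂, hcov₂, hloc₂⟩ := hH
  haveI := hflat₁
  haveI := hflat₂
  haveI := hsurj₁
  haveI := hsurj₂
  obtain ⟨F, hF⟩ : ∃ F : pullback f₁ f₂ ⟶ S, F = pullback.fst f₁ f₂ ≫ f₁ := ⟨_, rfl⟩
  refine ⟨pullback f₁ f₂, F, ?_, ?_⟩
  · intro V hV
    obtain ⟨W₁, hW₁c, hW₁V⟩ := hcov₁ V hV
    obtain ⟨W₂, hW₂c, hW₂V⟩ := hcov₂ V hV
    obtain ⟨fW₁, e₁, hfl₁, hsu₁, hqc₁⟩ := exists_fpqc_piece f₁ V hV W₁ hW₁c hW₁V
    obtain ⟨fW₂, e₂, hfl₂, hsu₂, hqc₂⟩ := exists_fpqc_piece f₂ V hV W₂ hW₂c hW₂V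
    haveI := hfl₁
    haveI := hsu₁
    haveI := hqc₁
    haveI := hfl₂
    haveI := hsu₂
    haveI := hqc₂
    obtain ⟨m, hm1, hm2⟩ : ∃ m : pullback fW₁ fW₂ ⟶ pullback f₁ f₂,
        m ≫ pullback.fst f₁ f₂ = pullback.fst fW₁ fW₂ ≫ W₁.ι ∧
        m ≫ pullback.snd f₁ f₂ = pullback.snd fW₁ fW₂ ≫ W₂.ι :=
      ⟨pullback.lift (pullback.fst fW₁ fW₂ ≫ W₁.ι) (pullback.snd fW₁ fW₂ ≫ W₂.ι) (by
        rw [Category.assoc, Category.assoc, ← e₁, ← e₂, ← Category.assoc, ← Category.assoc,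
          pullback.condition]), pullback.lift_fst _ _ _, pullback.lift_snd _ _ _⟩
    refine ⟨pullback fW₁ fW₂, pullback.fst fW₁ fW₂ ≫ fW₁, m, inferInstance, inferInstance,
      inferInstance, ?_⟩
    rw [hF, ← Category.assoc, hm1, Category.assoc, ← e₁, Category.assoc]
  · intro x
    obtain ⟨U₁, hs₁U, M, instM, ⟨eA⟩⟩ := hloc₁ ((pullback.fst f₁ f₂).base x)
    obtain ⟨U₂, hs₂U, N, instN, hNfg, ⟨eB⟩⟩ := hloc₂ ((pullback.snd f₁ f₂).base x)
    obtain ⟨a1, ainv, ha1, hainv, h1, h2⟩ := Groth.Agent.Lib.DiagHom.iso_data eA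
    obtain ⟨b1, binv, hb1, hbinv, h1', h2'⟩ := Groth.Agent.Lib.DiagHom.iso_data eB
    haveI := ha1
    haveI := hainv
    haveI := hb1
    haveI := hbinv
    obtain ⟨B, hB⟩ : ∃ B : (pullback f₁ f₂).Opens,
        B = (pullback.fst f₁ f₂ ⁻¹ᵁ U₁) ⊓ (pullback.snd f₁ f₂ ⁻¹ᵁ U₂) := ⟨_, rfl⟩
    have hxB : x ∈ B := by
      rw [hB]
      exact ⟨hs₁U, hs₂U⟩
    have hB1 : ∀ y : ↥(pullback f₁ f₂), y ∈ B → (pullback.fst f₁ f₂).base y ∈ U₁ := by
      intro y hy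
      rw [hB] at hy
      exact hy.1
    have hB2 : ∀ y : ↥(pullback f₁ f₂), y ∈ B → (pullback.snd f₁ f₂).base y ∈ U₂ := by
      intro y hy
      rw [hB] at hy
      exact hy.2
    have hrange₁ : Set.range (B.ι ≫ pullback.fst f₁ f₂) ⊆ Set.range U₁.ι := by
      rintro _ ⟨⟨y, hy⟩, rfl⟩
      exact ⟨⟨(pullback.fst f₁ f₂).base y, hB1 y hy⟩, rfl⟩
    have hrange₂ : Set.range (B.ι ≫ pullback.snd f₁ f₂) ⊆ Set.range U₂.ι := by
      rintro _ ⟨⟨y, hy⟩, rfl⟩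
      exact ⟨⟨(pullback.snd f₁ f₂).base y, hB2 y hy⟩, rfl⟩
    obtain ⟨r₁, hr₁⟩ : ∃ r₁ : (B : Scheme.{u}) ⟶ (U₁ : Scheme.{u}),
        r₁ ≫ U₁.ι = B.ι ≫ pullback.fst f₁ f₂ :=
      ⟨IsOpenImmersion.lift U₁.ι (B.ι ≫ pullback.fst f₁ f₂) hrange₁,
        IsOpenImmersion.lift_fac _ _ _⟩
    obtain ⟨r₂, hr₂⟩ : ∃ r₂ : (B : Scheme.{u}) ⟶ (U₂ : Scheme.{u}),
        r₂ ≫ U₂.ι = B.ι ≫ pullback.snd f₁ f₂ :=
      ⟨IsOpenImmersion.lift U₂.ι (B.ι ≫ pullback.snd f₁ f₂) hrange₂,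
        IsOpenImmersion.lift_fac _ _ _⟩
    obtain ⟨pG⟩ := exists_transport G (U₁.ι ≫ f₁) a1 ainv h1 h2 r₁ (B.ι ≫ F) (by
      rw [hF, ← Category.assoc, hr₁, Category.assoc])
    obtain ⟨pH⟩ := exists_transport H (U₂.ι ≫ f₂) b1 binv h1' h2' r₂ (B.ι ≫ F) (by
      rw [hF, ← Category.assoc, hr₂, Category.assoc, pullback.condition])
    exact ⟨B, hxB, M, N, instM, instN, hNfg, ⟨pG⟩, ⟨pH⟩⟩

/-! ### The main theorem -/

theorem main19140 {S : Scheme.{u}} (G H : Over S) [GrpObj G] [GrpObj H]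
    (hG : ∃ (S' : Scheme.{u}) (f : S' ⟶ S), Flat f ∧ Surjective f ∧
      (∀ V : S.Opens, IsAffineOpen V → ∃ W : S'.Opens, IsCompact (W : Set S') ∧
        f.base '' (W : Set S') = (V : Set S)) ∧
      ∀ s' : S', ∃ U : S'.Opens, s' ∈ U ∧ ∃ (M : Type) (_ : AddCommGroup M),
        Nonempty (Grp.mk (Red.bc (U.ι ≫ f) G) ≅ Grp.mk (Red.DS (U : Scheme.{u}) M))) (hH : SGA3x.IsMultTypeFT H) (u : G ⟶ H) [IsMonHom u] :
    ∃ U : S.Opens, IsClosed (U : Set S) ∧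
      (∀ s : S, s ∈ U ↔
        (Flat ((Over.pullback (S.fromSpecResidueField s)).map u).left ∧
          Surjective ((Over.pullback (S.fromSpecResidueField s)).map u).left)) ∧
      (Flat ((Over.pullback U.ι).map u).left ∧ Surjective ((Over.pullback U.ι).map u).left) := by
  obtain ⟨X, F, hcov, hraw⟩ := setup_raw_gen G H hG hH
  haveI : MorphismProperty.DescendsAlong (@Flat : MorphismProperty Scheme.{u})
      (@Surjective ⊓ @Flat ⊓ @QuasiCompact) := flat_descendsAlong'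
  obtain ⟨U, hUc, hUmem, hUP⟩ := core u (@Flat ⊓ @Surjective : MorphismProperty Scheme.{u}) F
    hcov (by
    intro x
    obtain ⟨Bo, hxB, M, N, iM, iN, hNfg, ⟨eG⟩, ⟨eH⟩⟩ := hraw x
    obtain ⟨W₀, φ, hb, hch⟩ := chart_P u (Bo.ι ≫ F) eG eH hNfg (⟨x, hxB⟩ : Bo)
    refine ⟨⟨Bo.ι.base '' (W₀ : Set Bo), Bo.ι.isOpenEmbedding.isOpenMap _ W₀.isOpen⟩,
      ⟨⟨x, hxB⟩, hb, rfl⟩, Function.Injective φ, ?_, ?_⟩
    · intro hφ T r hr
      have hrange : Set.range r ⊆ Set.range Bo.ι := by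
        rintro _ ⟨t, rfl⟩
        obtain ⟨w, -, hw⟩ := hr t
        exact ⟨w, hw⟩
      obtain ⟨r', hr'⟩ : ∃ r' : T ⟶ (Bo : Scheme.{u}), r' ≫ Bo.ι = r :=
        ⟨IsOpenImmersion.lift Bo.ι r hrange, IsOpenImmersion.lift_fac _ _ _⟩
      have hr'W : ∀ t : T, r'.base t ∈ W₀ := by
        intro t
        obtain ⟨w, hwW, hw⟩ := hr t
        have h3 : Bo.ι.base (r'.base t) = r.base t := congrArg (fun g => g.base t) hr'
        have h4 : w = r'.base t := Bo.ι.isOpenEmbedding.injective (hw.trans h3.symm)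
        rw [← h4]
        exact hwW
      have e : r' ≫ (Bo.ι ≫ F) = r ≫ F := by
        rw [← Category.assoc, hr']
      rw [← e]
      refine (hch r' hr'W (@Flat ⊓ @Surjective : MorphismProperty Scheme.{u})).mpr ?_
      exact MorphismProperty.of_isPullback
        (P := (@Flat ⊓ @Surjective : MorphismProperty Scheme.{u}))
        (sqL (Red.DSmap (Bo : Scheme.{u}) φ) r') (P_DSmap (Bo : Scheme.{u}) φ hφ)
    · intro K _ z hz hPz
      have hrange : Set.range z ⊆ Set.range Bo.ι := by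
        rintro _ ⟨t, rfl⟩
        obtain ⟨w, -, hw⟩ := hz t
        exact ⟨w, hw⟩
      obtain ⟨z', hz'⟩ : ∃ z' : Spec (CommRingCat.of K) ⟶ (Bo : Scheme.{u}), z' ≫ Bo.ι = z :=
        ⟨IsOpenImmersion.lift Bo.ι z hrange, IsOpenImmersion.lift_fac _ _ _⟩
      have hz'W : ∀ t, z'.base t ∈ W₀ := by
        intro t
        obtain ⟨w, hwW, hw⟩ := hz t
        have h3 : Bo.ι.base (z'.base t) = z.base t := congrArg (fun g => g.base t) hz'
        have h4 : w = z'.base t := Bo.ι.isOpenEmbedding.injective (hw.trans h3.symm)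
        rw [← h4]
        exact hwW
      have e : z' ≫ (Bo.ι ≫ F) = z ≫ F := by
        rw [← Category.assoc, hz']
      rw [← e] at hPz
      have hD := (hch z' hz'W (@Flat ⊓ @Surjective : MorphismProperty Scheme.{u})).mp hPz
      haveI : Flat (bcL (Red.DSmap (Bo : Scheme.{u}) φ) z') := hD.1
      haveI : Surjective (bcL (Red.DSmap (Bo : Scheme.{u}) φ) z') := hD.2
      exact injective_of_epi z' φ (Flat.epi_of_flat_of_surjective _))
  exact ⟨U, hUc, hUmem, hUP⟩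

end Groth.Agent.Lib.MTHomGenH4
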