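import Mathlib
import Groth.Prelude
import Groth.Agent.Lib.MTSm3_helper4

/-!
# Rigidity of endomorphisms of diagonalisable groups along square-zero thickenings (helper4)
-/

set_option backward.isDefEq.respectTransparency.types false
set_option autoImplicit false
set_option linter.unusedVariables false
set_option linter.unusedTactic false
set_option linter.unreachableTactic false
set_option linter.unusedSectionVars false
set_option linter.style.haveILetI false
set_option linter.deprecated false
set_option linter.unusedSimpArgs false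
set_option linter.style.longLine false
set_option maxHeartbeats 1600000

universe u

open CategoryTheory CategoryTheory.Limits MonoidalCategory CartesianMonoidalCategory MonObj GrpObj
  AlgebraicGeometry Opposite TensorProduct

namespace Groth.Agent.Lib.MTSmH4

open Groth.Agent.Lib.RedDictH8 Groth.Agent.Lib.DSDict Groth.Agent.Lib.MultGa
  Groth.Agent.Lib.MultTrivH4 Groth.Agent.Lib.ConnActH4 Groth.Agent.Lib.TwConstFinH4
  Groth.Agent.Lib.MTHomH4 Groth.Agent.Lib.TorusQuotH4 Groth.Agent.Lib.KerTrivH4
  Groth.Agent.Lib.MTWeilH4

/-! ### Group-like elements congruent to a monomial -/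

section RingRigid

variable {R R₀ : Type u} [CommRing R] [CommRing R₀] (ir : R →+* R₀) (G : Type) [CommMonoid G]
  (hι : ∀ x y : R, ir x = 0 → ir y = 0 → x * y = 0)

include hι in
theorem grouplike_rigid (w : MonoidAlgebra R G) (m : G)
    (hred : red ir G w = MonoidAlgebra.single m 1)
    (hgl : coa' (R := R) G w = MonoidAlgebra.single 1 w * cst' (R := R) G w) :
    w = MonoidAlgebra.single m 1 := by
  classical
  have key : ∀ g h : G, w.coeff h * w.coeff g = if g = h then w.coeff g else 0 := by
    intro g h
    have h1 : ((coa' (R := R) G w).coeff g).coeff h =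
        ((MonoidAlgebra.single 1 w * cst' (R := R) G w).coeff g).coeff h := by rw [hgl]
    rw [coa'_coeff, MonoidAlgebra.coeff_single_one_mul, cst'_coeff,
      MonoidAlgebra.coeff_mul_single_one, MonoidAlgebra.coeff_single, Finsupp.single_apply] at h1
    exact h1.symm
  have hc : ∀ g : G, ir (w.coeff g) = if m = g then 1 else 0 := by
    intro g
    have h1 := congrArg (fun p => p.coeff g) hred
    simp only [MonoidAlgebra.coeff_mapRingHom, MonoidAlgebra.coeff_single,
      Finsupp.single_apply] at h1
    exact h1
  apply MonoidAlgebra.ext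
  apply Finsupp.ext
  intro g
  rw [MonoidAlgebra.coeff_single, Finsupp.single_apply]
  have hidem : w.coeff g * w.coeff g = w.coeff g := by
    rw [key g g, if_pos rfl]
  by_cases hg : m = g
  · rw [if_pos hg]
    have h1 : ir (w.coeff g - 1) = 0 := by
      rw [map_sub, hc g, if_pos hg, map_one, sub_self]
    have h2 : (w.coeff g - 1) * (w.coeff g - 1) = 0 := hι _ _ h1 h1
    have h3 : (w.coeff g - 1) * (w.coeff g - 1) = 1 - w.coeff g := by
      have : (w.coeff g - 1) * (w.coeff g - 1) =
          w.coeff g * w.coeff g - w.coeff g - w.coeff g + 1 := by ring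
      rw [this, hidem]
      ring
    rw [h3] at h2
    exact (sub_eq_zero.mp h2).symm
  · rw [if_neg hg]
    have h1 : ir (w.coeff g) = 0 := by rw [hc g, if_neg hg]
    rw [← hidem]
    exact hι _ _ h1 h1

end RingRigid

/-! ### Injectivity of the parametrisation of points by characters -/

section Inj

variable {S : Scheme.{u}} {R : Type u} [CommRing R] (b : Spec (CommRingCat.of R) ⟶ S)
  {M : Type} [AddCommGroup M] {H : Over S} [GrpObj H] (P : PtIso H b M)

theorem gsec_injective (C : Type u) [CommRing C] : Function.Injective (gsec C) := by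
  intro a a' h
  have e : ∀ z : C, (Scheme.ΓSpecIso (CommRingCat.of C)).hom.hom (gsec C z) = z := fun z =>
    congrArg (fun f => f z) (Scheme.ΓSpecIso (CommRingCat.of C)).inv_hom_id
  rw [← e a, ← e a', h]

theorem hpt_inj {C : Type u} [CommRing C] (σ : R →+* C) {χ χ' : Multiplicative M →* C}
    (h : hpt b P σ χ = hpt b P σ χ') : χ = χ' := by
  have h1 : dpt σ χ = dpt σ χ' := by
    have h2 := congrArg (fun z => P.toD (TC σ) z) h
    simp only [hpt, P.to_of] at h2
    exact h2
  apply MonoidHom.ext
  intro m
  have h3 := congrArg (fun d => chr d (Multiplicative.toAdd m)) h1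
  simp only [chr_dpt] at h3
  exact gsec_injective C h3

end Inj

/-! ### Rigidity for points -/

section Rigid

variable {S : Scheme.{u}} {R R₀ : Type u} [CommRing R] [CommRing R₀] (ir : R →+* R₀)
  (hι : ∀ x y : R, ir x = 0 → ir y = 0 → x * y = 0)
  (b : Spec (CommRingCat.of R) ⟶ S)
  {M : Type} [AddCommGroup M] {H : Over S} [GrpObj H] (P : PtIso H b M)
  (th : ∀ {C : Type u} [CommRing C] (σ : R →+* C), (OC b σ ⟶ H) → (OC b σ ⟶ H))
  (hnat : ∀ {C C₂ : Type u} [CommRing C] [CommRing C₂] (σ : R →+* C) (σ₂ : R →+* C₂)
    (ρ : C →+* C₂) (h : ρ.comp σ = σ₂) (g : OC b σ ⟶ H),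
    mapO b ρ h ≫ th σ g = th σ₂ (mapO b ρ h ≫ g))
  (hmul : ∀ {C : Type u} [CommRing C] (σ : R →+* C) (g g' : OC b σ ⟶ H),
    th σ (g * g') = th σ g * th σ g')
  (hid : ∀ {C : Type u} [CommRing C] (σ : R →+* C) (σ₀ : R₀ →+* C) (h : σ₀.comp ir = σ)
    (g : OC b σ ⟶ H), th σ g = g)

include hι P hnat hmul hid in
/-- a natural multiplicative operation on the points of a diagonalisable group which is the
identity modulo a square-zero ideal is the identity. -/
theorem rigid_pts {C : Type u} [CommRing C] (σ : R →+* C) (g : OC b σ ⟶ H) : th σ g = g := by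
  obtain ⟨sA, hsA⟩ : ∃ sA : R →+* MonoidAlgebra R (Multiplicative M),
      sA = MonoidAlgebra.singleOneRingHom := ⟨_, rfl⟩
  -- the transform of the universal character
  obtain ⟨v, hv⟩ := hpt_surj b P sA (th sA (hpt b P sA (MonoidAlgebra.of R (Multiplicative M))))
  -- the transform of a general character
  have hgen : ∀ {C' : Type u} [CommRing C'] (σ' : R →+* C')
      (ρ : MonoidAlgebra R (Multiplicative M) →+* C') (h : ρ.comp sA = σ'),
      th σ' (hpt b P σ' (ρ.toMonoidHom.comp (MonoidAlgebra.of R (Multiplicative M)))) =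
        hpt b P σ' (ρ.toMonoidHom.comp v) := by
    intro C' _ σ' ρ h
    rw [← hpt_nat b P ρ h, ← hnat sA σ' ρ h, ← hv, hpt_nat b P ρ h]
  -- `v` is the universal character
  have hvof : ∀ m, v m = MonoidAlgebra.of R (Multiplicative M) m := by
    intro m
    rw [MonoidAlgebra.of_apply]
    apply grouplike_rigid ir (Multiplicative M) hι
    · -- reduction
      have hσ₀ : (MonoidAlgebra.singleOneRingHom (R := R₀) (M := Multiplicative M)).comp ir =
          (red ir (Multiplicative M)).comp sA := by
        rw [hsA]
        exact (red_comp_s ir (Multiplicative M)).symm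
      have h1 := hgen ((red ir (Multiplicative M)).comp sA) (red ir (Multiplicative M)) rfl
      rw [hid _ _ hσ₀] at h1
      have h2 := hpt_inj b P _ h1
      have h3 := congrArg (fun χ => χ m) h2
      have h4 : red ir (Multiplicative M) (MonoidAlgebra.of R (Multiplicative M) m) =
          red ir (Multiplicative M) (v m) := h3
      rw [← h4, MonoidAlgebra.of_apply, red_single, map_one]
    · -- group-likeness
      obtain ⟨τ, hτ⟩ : ∃ τ : R →+* MonoidAlgebra (MonoidAlgebra R (Multiplicative M))
          (Multiplicative M), τ = (cst' (R := R) (Multiplicative M)).comp sA := ⟨_, rfl⟩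
      have hτ1 : (cst' (R := R) (Multiplicative M)).comp sA = τ := hτ.symm
      have hτ2 : (coa' (R := R) (Multiplicative M)).comp sA = τ := by
        rw [hτ, hsA]
        exact (cst'_comp_s (R := R) (Multiplicative M)).symm
      have hτ3 : (MonoidAlgebra.singleOneRingHom (R := MonoidAlgebra R (Multiplicative M))
          (M := Multiplicative M)).comp sA = τ := by
        rw [hτ, hsA]
        apply RingHom.ext
        intro r
        exact (MonoidAlgebra.mapRingHom_single _ 1 r).symm
      have e1 := hgen τ (cst' (R := R) (Multiplicative M)) hτ1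
      have e2 := hgen τ (coa' (R := R) (Multiplicative M)) hτ2
      have e3 := hgen τ (MonoidAlgebra.singleOneRingHom
        (R := MonoidAlgebra R (Multiplicative M)) (M := Multiplicative M)) hτ3
      have hchar : (coa' (R := R) (Multiplicative M)).toMonoidHom.comp
          (MonoidAlgebra.of R (Multiplicative M)) =
          ((MonoidAlgebra.singleOneRingHom (R := MonoidAlgebra R (Multiplicative M))
            (M := Multiplicative M)).toMonoidHom.comp (MonoidAlgebra.of R (Multiplicative M))) *
          ((cst' (R := R) (Multiplicative M)).toMonoidHom.comp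
            (MonoidAlgebra.of R (Multiplicative M))) := by
        apply MonoidHom.ext
        intro m'
        exact (chi₂_mul_cst' ir (Multiplicative M) m').symm
      rw [hchar, hpt_mul, hmul, e1, e3, ← hpt_mul] at e2
      have e4 := hpt_inj b P _ e2
      have e5 := congrArg (fun χ => χ m) e4
      exact e5.symm
  -- conclusion
  obtain ⟨χ, rfl⟩ := hpt_surj b P σ g
  letI : Algebra R C := σ.toAlgebra
  obtain ⟨ρ, hρ⟩ : ∃ ρ : MonoidAlgebra R (Multiplicative M) →+* C,
      ρ = (MonoidAlgebra.lift R C (Multiplicative M) χ).toRingHom := ⟨_, rfl⟩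
  have hρ1 : ρ.comp sA = σ := by
    apply RingHom.ext
    intro r
    rw [hρ, hsA]
    show (MonoidAlgebra.lift R C (Multiplicative M) χ) (MonoidAlgebra.single 1 r) = σ r
    rw [MonoidAlgebra.lift_single, map_one, Algebra.smul_def, _root_.mul_one]
    rfl
  have hρ2 : ρ.toMonoidHom.comp (MonoidAlgebra.of R (Multiplicative M)) = χ := by
    apply MonoidHom.ext
    intro m
    rw [hρ]
    show (MonoidAlgebra.lift R C (Multiplicative M) χ) (MonoidAlgebra.of R (Multiplicative M) m) =
      χ m
    rw [MonoidAlgebra.lift_of]
  have hρ3 : ρ.toMonoidHom.comp v = χ := by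
    rw [← hρ2]
    apply MonoidHom.ext
    intro m
    show ρ (v m) = ρ (MonoidAlgebra.of R (Multiplicative M) m)
    rw [hvof m]
  have h5 := hgen σ ρ hρ1
  rw [hρ2, hρ3] at h5
  exact h5

end Rigid

end Groth.Agent.Lib.MTSmH4
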