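import Mathlib
import Groth.Prelude
import Groth.Agent.Lib.MTRig1_helper4
import Groth.Agent.Lib.MTSm5_helper4

/-!
# The centraliser of a subgroup of multiplicative type is open and closed in the normaliser
(helper4)
-/

set_option backward.isDefEq.respectTransparency.types false
set_option autoImplicit false
set_option linter.unusedVariables false
set_option linter.unusedTactic false
set_option linter.unreachableTactic false
set_option linter.unusedSectionVars false
set_option linter.style.haveILetI false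
set_option linter.deprecated false
set_option linter.unusedSimpArgs false
set_option linter.style.longLine false
set_option maxHeartbeats 1600000

universe u

open CategoryTheory CategoryTheory.Limits MonoidalCategory CartesianMonoidalCategory MonObj GrpObj
  AlgebraicGeometry Opposite TensorProduct

namespace Groth.Agent.Lib.MTSmH4

open Groth.Agent.Lib.RedDictH8 Groth.Agent.Lib.DSDict Groth.Agent.Lib.MultGa
  Groth.Agent.Lib.MultTrivH4 Groth.Agent.Lib.ConnActH4 Groth.Agent.Lib.TwConstFinH4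
  Groth.Agent.Lib.MTHomH4 Groth.Agent.Lib.TorusQuotH4 Groth.Agent.Lib.KerTrivH4
  Groth.Agent.Lib.MTWeilH4 Groth.Agent.Lib.FormalEtale_helper7 Groth.Agent.Lib.Thickening_helper7

/-! ### General lemmas -/

theorem lfp_of_comp_mono {X Y Z : Scheme.{u}} (f : X ⟶ Y) (g : Y ⟶ Z) [Mono g]
    [LocallyOfFinitePresentation (f ≫ g)] : LocallyOfFinitePresentation f := by
  have hcomm : 𝟙 X ≫ (f ≫ g) = f ≫ g := Category.id_comp _
  obtain ⟨l, hl⟩ : ∃ l : X ⟶ pullback (f ≫ g) g, l = pullback.lift (𝟙 X) f hcomm := ⟨_, rfl⟩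
  have h1 : l ≫ pullback.fst (f ≫ g) g = 𝟙 X := by rw [hl, pullback.lift_fst]
  have h2 : l ≫ pullback.snd (f ≫ g) g = f := by rw [hl, pullback.lift_snd]
  have h3 : pullback.fst (f ≫ g) g ≫ f = pullback.snd (f ≫ g) g := by
    rw [← cancel_mono g, Category.assoc]
    exact pullback.condition
  have h4 : pullback.fst (f ≫ g) g ≫ l = 𝟙 _ := by
    apply pullback.hom_ext
    · rw [Category.assoc, h1, Category.comp_id, Category.id_comp]
    · rw [Category.assoc, h2, h3, Category.id_comp]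
  haveI : IsIso l := ⟨pullback.fst (f ≫ g) g, h1, h4⟩
  rw [← h2]
  infer_instance

/-! ### Rigidity, globally -/

section Global

variable {S : Scheme.{u}} {H : Over S} [GrpObj H] {A : Type u} [CommRing A] (I : Ideal A)
  (hI : I ^ 2 = ⊥) (bT : Spec (CommRingCat.of A) ⟶ S)

/-- the thickening, as a morphism of `S`-schemes. -/
noncomputable def thkO : (Over.mk (thk I ≫ bT) : Over S) ⟶ Over.mk bT := Over.homMk (thk I) rfl

variable
  (th : ∀ (X' : Over S) (x : X' ⟶ Over.mk bT), (X' ⟶ H) → (X' ⟶ H))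
  (hnat : ∀ (X'' X' : Over S) (c : X'' ⟶ X') (x : X' ⟶ Over.mk bT) (h : X' ⟶ H),
    c ≫ th X' x h = th X'' (c ≫ x) (c ≫ h))
  (hmul : ∀ (X' : Over S) (x : X' ⟶ Over.mk bT) (h h' : X' ⟶ H),
    th X' x (h * h') = th X' x h * th X' x h')
  (hid : ∀ (X' : Over S) (x₀ : X' ⟶ Over.mk (thk I ≫ bT)) (h : X' ⟶ H),
    th X' (x₀ ≫ thkO I bT) h = h)

include hI hnat hmul hid in
/-- a natural multiplicative operation on the points of a group of multiplicative type, over
schemes over `Spec A`, which is the identity over `Spec (A ⧸ I)` (`I² = 0`) is the identity. -/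
theorem theta_rigid (hH : SGA3x.IsMultTypeFT H) (X' : Over S) (x : X' ⟶ Over.mk bT)
    (h : X' ⟶ H) : th X' x h = h := by
  obtain ⟨S', g, hflat, hsurj, hqc, hloc⟩ := hH
  haveI := hflat
  apply Over.OverMorphism.ext
  apply hom_ext_of_flat_cover
  intro y
  obtain ⟨s', hs'⟩ := hsurj.surj (X'.hom y)
  obtain ⟨y', hy'1, hy'2⟩ :=
    AlgebraicGeometry.Scheme.Pullback.exists_preimage_pullback (f := X'.hom) (g := g) y s' hs'.symm
  obtain ⟨U₁, hs'U, M, instM, -, ⟨e⟩⟩ := hloc s'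
  letI := instM
  obtain ⟨a1, ainv, ha1, hainv, h1, h2⟩ := Groth.Agent.Lib.DiagHom.iso_data e
  haveI := ha1
  haveI := hainv
  have hy'U : y' ∈ pullback.snd X'.hom g ⁻¹ᵁ U₁ := by
    show pullback.snd X'.hom g y' ∈ U₁
    rw [hy'2]
    exact hs'U
  obtain ⟨_, ⟨(W : (pullback X'.hom g).Opens), hW, rfl⟩, hyW, hWU :
      W ≤ pullback.snd X'.hom g ⁻¹ᵁ U₁⟩ :=
    (pullback X'.hom g).isBasis_affineOpens.exists_subset_of_mem_open hy'U
      (pullback.snd X'.hom g ⁻¹ᵁ U₁).isOpen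
  have hjW : Set.range hW.fromSpec = (W : Set ↥(pullback X'.hom g)) := hW.range_fromSpec
  obtain ⟨q, hq⟩ : ∃ q : Spec (CommRingCat.of Γ(pullback X'.hom g, W)) ⟶ X'.left,
      q = hW.fromSpec ≫ pullback.fst X'.hom g := ⟨_, rfl⟩
  haveI : Flat q := by
    rw [hq]
    infer_instance
  have hyq : y ∈ Set.range q := by
    obtain ⟨w, hw⟩ : y' ∈ Set.range hW.fromSpec := by
      rw [hjW]
      exact hyW
    refine ⟨w, ?_⟩
    rw [hq]
    show pullback.fst X'.hom g (hW.fromSpec w) = y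
    rw [hw, hy'1]
  obtain ⟨b, hb⟩ : ∃ b : Spec (CommRingCat.of Γ(pullback X'.hom g, W)) ⟶ S, b = q ≫ X'.hom :=
    ⟨_, rfl⟩
  -- the trivialisation over `Spec R`
  have hrU : Set.range (hW.fromSpec ≫ pullback.snd X'.hom g) ⊆ Set.range U₁.ι := by
    rintro _ ⟨w, rfl⟩
    rw [Scheme.Opens.range_ι]
    have hw : hW.fromSpec w ∈ (W : Set ↥(pullback X'.hom g)) := by
      rw [← hjW]
      exact ⟨w, rfl⟩
    exact hWU hw
  obtain ⟨r, hr⟩ : ∃ r : Spec (CommRingCat.of Γ(pullback X'.hom g, W)) ⟶ U₁,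
      r ≫ U₁.ι = hW.fromSpec ≫ pullback.snd X'.hom g :=
    ⟨IsOpenImmersion.lift U₁.ι _ hrU, IsOpenImmersion.lift_fac _ _ _⟩
  have hrb : r ≫ U₁.ι ≫ g = b := by
    rw [← Category.assoc, hr, Category.assoc, ← pullback.condition, hb, hq, Category.assoc]
  obtain ⟨P⟩ := exists_transport H (U₁.ι ≫ g) a1 ainv h1 h2 r b hrb
  -- the ring map and the thickening
  obtain ⟨σA, hσA⟩ : ∃ σA : A →+* Γ(pullback X'.hom g, W),
      Spec.map (CommRingCat.ofHom σA) = q ≫ x.left :=
    ⟨(Spec.preimage (q ≫ x.left)).hom, Spec.map_preimage (q ≫ x.left)⟩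
  have hxw : x.left ≫ bT = X'.hom := Over.w x
  have hιR : ∀ a a' : Γ(pullback X'.hom g, W), Ideal.Quotient.mk (I.map σA) a = 0 →
      Ideal.Quotient.mk (I.map σA) a' = 0 → a * a' = 0 := by
    intro a a' ha ha'
    have ha1 : a ∈ I.map σA := Ideal.Quotient.eq_zero_iff_mem.mp ha
    have ha2 : a' ∈ I.map σA := Ideal.Quotient.eq_zero_iff_mem.mp ha'
    have h3 : a * a' ∈ (I.map σA) ^ 2 := by
      rw [pow_two]
      exact Ideal.mul_mem_mul ha1 ha2
    rw [← Ideal.map_pow, hI, Ideal.map_bot] at h3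
    exact (Ideal.mem_bot).mp h3
  -- the structure maps to `Spec A`
  have hxσ : ∀ {C : Type u} [CommRing C] (σ : Γ(pullback X'.hom g, W) →+* C),
      (Spec.map (CommRingCat.ofHom σ) ≫ q ≫ x.left) ≫ bT = Spec.map (CommRingCat.ofHom σ) ≫ b := by
    intro C _ σ
    rw [Category.assoc, Category.assoc, hxw, hb]
  obtain ⟨xσ, hxσ'⟩ : ∃ xσ : ∀ {C : Type u} [CommRing C] (σ : Γ(pullback X'.hom g, W) →+* C),
      OC b σ ⟶ Over.mk bT, ∀ {C : Type u} [CommRing C] (σ : Γ(pullback X'.hom g, W) →+* C),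
      (xσ σ).left = Spec.map (CommRingCat.ofHom σ) ≫ q ≫ x.left :=
    ⟨fun σ => Over.homMk (Spec.map (CommRingCat.ofHom σ) ≫ q ≫ x.left) (hxσ σ), fun σ => rfl⟩
  have hxσ_nat : ∀ {C C₂ : Type u} [CommRing C] [CommRing C₂]
      (σ : Γ(pullback X'.hom g, W) →+* C) (σ₂ : Γ(pullback X'.hom g, W) →+* C₂) (ρ : C →+* C₂)
      (hρ : ρ.comp σ = σ₂), mapO b ρ hρ ≫ xσ σ = xσ σ₂ := by
    intro C C₂ _ _ σ σ₂ ρ hρ
    apply Over.OverMorphism.ext
    show Spec.map (CommRingCat.ofHom ρ) ≫ (xσ σ).left = (xσ σ₂).left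
    rw [hxσ', hxσ', spec_comp₂, hρ]
  have key : ∀ {C' : Type u} [CommRing C'] (σ' : Γ(pullback X'.hom g, W) →+* C')
      (gg' : OC b σ' ⟶ H), th (OC b σ') (xσ σ') gg' = gg' := by
   intro C' _ σ' gg'
   refine rigid_pts (Ideal.Quotient.mk (I.map σA)) hιR b P
    (fun σ gg => th (OC b σ) (xσ σ) gg) ?_ ?_ ?_ σ' gg'
   · intro C C₂ _ _ σ σ₂ ρ hρ gg
     show mapO b ρ hρ ≫ th (OC b σ) (xσ σ) gg = th (OC b σ₂) (xσ σ₂) (mapO b ρ hρ ≫ gg)
     rw [hnat, hxσ_nat σ σ₂ ρ hρ]
   · intro C _ σ gg gg2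
     exact hmul _ _ _ _
   · intro C _ σ σ₀ hσ gg
     show th (OC b σ) (xσ σ) gg = gg
     have hker : ∀ a ∈ I, (σ.comp σA) a = 0 := by
       intro a ha
       rw [← hσ]
       show σ₀ (Ideal.Quotient.mk (I.map σA) (σA a)) = 0
       rw [Ideal.Quotient.eq_zero_iff_mem.mpr (Ideal.mem_map_of_mem σA ha), map_zero]
     obtain ⟨φ₀, hφ₀⟩ : ∃ φ₀ : A ⧸ I →+* C, φ₀.comp (Ideal.Quotient.mk I) = σ.comp σA :=
       ⟨Ideal.Quotient.lift I (σ.comp σA) hker, Ideal.Quotient.lift_comp_mk I _ hker⟩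
     have hx₀ : Spec.map (CommRingCat.ofHom φ₀) ≫ thk I ≫ bT =
         Spec.map (CommRingCat.ofHom σ) ≫ b := by
       rw [spec_comp₂, hφ₀, ← spec_comp₂, hσA, ← hxσ σ]
       simp only [Category.assoc]
     obtain ⟨x₀, hx₀'⟩ : ∃ x₀ : OC b σ ⟶ Over.mk (thk I ≫ bT),
         x₀.left = Spec.map (CommRingCat.ofHom φ₀) := ⟨Over.homMk _ hx₀, rfl⟩
     have e1 : x₀ ≫ thkO I bT = xσ σ := by
       apply Over.OverMorphism.ext
       show x₀.left ≫ thk I = (xσ σ).left
       rw [hx₀', hxσ']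
       show Spec.map (CommRingCat.ofHom φ₀) ≫ Spec.map (CommRingCat.ofHom (Ideal.Quotient.mk I)) =
         Spec.map (CommRingCat.ofHom σ) ≫ q ≫ x.left
       rw [spec_comp, hφ₀, ← spec_comp, hσA]
     rw [← e1]
     exact hid _ x₀ gg
  -- apply to the identity
  obtain ⟨c, hc⟩ : ∃ c : OC b (RingHom.id Γ(pullback X'.hom g, W)) ⟶ X',
      c.left = Spec.map (CommRingCat.ofHom (RingHom.id Γ(pullback X'.hom g, W))) ≫ q :=
    ⟨Over.homMk (Spec.map (CommRingCat.ofHom (RingHom.id Γ(pullback X'.hom g, W))) ≫ q) (by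
      show (Spec.map (CommRingCat.ofHom (RingHom.id Γ(pullback X'.hom g, W))) ≫ q) ≫ X'.hom =
        Spec.map (CommRingCat.ofHom (RingHom.id Γ(pullback X'.hom g, W))) ≫ b
      rw [Category.assoc, hb]), rfl⟩
  have hcx : c ≫ x = xσ (RingHom.id Γ(pullback X'.hom g, W)) := by
    apply Over.OverMorphism.ext
    show c.left ≫ x.left = (xσ (RingHom.id Γ(pullback X'.hom g, W))).left
    rw [hc, hxσ']
    exact Category.assoc _ _ _
  have hfin : c ≫ th X' x h = c ≫ h := by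
    rw [hnat, hcx]
    exact key (RingHom.id _) (c ≫ h)
  have hcq : c.left = q := by
    rw [hc]
    show Spec.map (𝟙 (CommRingCat.of Γ(pullback X'.hom g, W))) ≫ q = q
    rw [Spec.map_id, Category.id_comp]
  refine ⟨_, q, inferInstance, hyq, ?_⟩
  have h5 := congrArg (fun z => z.left) hfin
  simp only [Over.comp_left, hcq] at h5
  exact h5

end Global

/-! ### The centraliser in the normaliser -/

section CentNorm

variable {S : Scheme.{u}} {H G Z N : Over S} [GrpObj H] [GrpObj G] [GrpObj Z] [GrpObj N]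

theorem main5249 (hH : SGA3x.IsMultTypeFT H) (hG : Smooth G.hom) (hGa : IsAffineHom G.hom)
    (i : H ⟶ G) [IsMonHom i] [Mono i] (j : Z ⟶ G) (k : N ⟶ G)
    (hj : Red.IsCentralizerOf i j) (hk : Red.IsNormalizerOf i k) :
    ∃ f : Z ⟶ N, f ≫ k = j ∧ IsOpenImmersion f.left ∧ IsClosedImmersion f.left := by
  haveI := hG
  haveI := hGa
  haveI : IsSeparated G.hom := inferInstance
  obtain ⟨hjmon, hjmono, hju⟩ := hj
  obtain ⟨hkmon, hkmono, hku⟩ := hk
  haveI := hjmono
  haveI := hkmono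
  haveI : Mono j.left := inferInstance
  haveI : Mono k.left := inferInstance
  -- the morphism `f`
  have hcent : ∀ (X' : Over S) (x : X' ⟶ Z) (h : X' ⟶ H), (x ≫ j) * (h ≫ i) = (h ≫ i) * (x ≫ j) :=
    (hju Z j).mp ⟨𝟙 Z, Category.id_comp j⟩
  obtain ⟨f, hf⟩ := (hku Z j).mpr (fun X' x h => by
    have hc := hcent X' x h
    refine ⟨⟨h, ?_⟩, ⟨h, ?_⟩⟩
    · rw [hc, _root_.mul_inv_cancel_right]
    · rw [_root_.mul_assoc, ← hc, _root_.inv_mul_cancel_left])
  have hfl : f.left ≫ k.left = j.left := by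
    rw [← Over.comp_left, hf]
  -- the closed model of the centraliser
  obtain ⟨Z', grp', j', hZ', hj'c, hZ's⟩ := main5247 hH hG hGa i
  obtain ⟨-, hj'mono, hj'u⟩ := hZ'
  haveI := hj'mono
  haveI := hj'c
  haveI := hZ's
  obtain ⟨φ, hφ⟩ := (hj'u Z j).mpr ((hju Z j).mp ⟨𝟙 Z, Category.id_comp j⟩)
  obtain ⟨ψ, hψ⟩ := (hju Z' j').mpr ((hj'u Z' j').mp ⟨𝟙 Z', Category.id_comp j'⟩)
  have h12 : φ ≫ ψ = 𝟙 Z := by
    rw [← cancel_mono j, Category.assoc, hψ, hφ, Category.id_comp]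
  have h21 : ψ ≫ φ = 𝟙 Z' := by
    rw [← cancel_mono j', Category.assoc, hφ, hψ, Category.id_comp]
  haveI : IsIso φ.left := ⟨ψ.left, by rw [← Over.comp_left, h12]; rfl,
    by rw [← Over.comp_left, h21]; rfl⟩
  have hjl : j.left = φ.left ≫ j'.left := by rw [← Over.comp_left, hφ]
  haveI : LocallyOfFinitePresentation j'.left := by
    haveI : LocallyOfFinitePresentation (j'.left ≫ G.hom) := by
      rw [Over.w j']
      infer_instance
    exact lfp_of_comp' j'.left G.hom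
  haveI : IsClosedImmersion j.left := by
    rw [hjl]
    infer_instance
  haveI : LocallyOfFinitePresentation j.left := by
    rw [hjl]
    infer_instance
  haveI : IsClosedImmersion (f.left ≫ k.left) := by
    rw [hfl]
    infer_instance
  haveI : LocallyOfFinitePresentation (f.left ≫ k.left) := by
    rw [hfl]
    infer_instance
  haveI hfc : IsClosedImmersion f.left := IsClosedImmersion.of_comp f.left k.left
  haveI hflfp : LocallyOfFinitePresentation f.left := lfp_of_comp_mono f.left k.left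
  refine ⟨f, hf, ?_, hfc⟩
  -- formal smoothness
  have hfs : MoreMor.IsFormallySmoothHom f.left := by
    intro A _ I hI a b hab
    obtain ⟨bT, hbT⟩ : ∃ bT : Spec (CommRingCat.of A) ⟶ S, bT = b ≫ N.hom := ⟨_, rfl⟩
    obtain ⟨nT, hnT⟩ : ∃ nT : Over.mk bT ⟶ N, nT.left = b := ⟨Over.homMk b hbT.symm, rfl⟩
    obtain ⟨n, hn⟩ : ∃ n : Over.mk bT ⟶ G, n = nT ≫ k := ⟨_, rfl⟩
    have hz₀ : a ≫ Z.hom = thk I ≫ bT := by
      rw [hbT, ← Category.assoc, hab, Category.assoc, Over.w f]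
    obtain ⟨z₀, hz₀'⟩ : ∃ z₀ : Over.mk (thk I ≫ bT) ⟶ Z, z₀.left = a := ⟨Over.homMk a hz₀, rfl⟩
    have hi₀n : thkO I bT ≫ n = z₀ ≫ j := by
      apply Over.OverMorphism.ext
      rw [hn, Over.comp_left, Over.comp_left, Over.comp_left, hnT, hz₀', ← hfl, ← Category.assoc a,
        ← hab, Category.assoc]
      rfl
    have hN := (hku (Over.mk bT) n).mp ⟨nT, hn.symm⟩
    have hiu : ∀ {X' : Over S} (h' h'' : X' ⟶ H), h' ≫ i = h'' ≫ i → h' = h'' :=
      fun h' h'' e => (cancel_mono i).mp e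
    obtain ⟨th, hth⟩ : ∃ th : ∀ (X' : Over S) (x : X' ⟶ Over.mk bT), (X' ⟶ H) → (X' ⟶ H),
        ∀ (X' : Over S) (x : X' ⟶ Over.mk bT) (h : X' ⟶ H),
          (x ≫ n) * (h ≫ i) * (x ≫ n)⁻¹ = th X' x h ≫ i :=
      ⟨fun X' x h => Classical.choose (hN X' x h).1,
        fun X' x h => Classical.choose_spec (hN X' x h).1⟩
    have hrig := theta_rigid I hI bT th
      (by
        intro X'' X' c x h
        apply hiu
        rw [Category.assoc, ← hth, ← hth, MonObj.comp_mul, MonObj.comp_mul, GrpObj.comp_inv,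
          Category.assoc, Category.assoc])
      (by
        intro X' x h h'
        apply hiu
        rw [← hth, MonObj.mul_comp, MonObj.mul_comp, ← hth, ← hth]
        simp only [_root_.mul_assoc, _root_.inv_mul_cancel_left])
      (by
        intro X' x₀ h
        apply hiu
        rw [← hth, Category.assoc, hi₀n]
        have hc := (hju _ (z₀ ≫ j)).mp ⟨z₀, rfl⟩ X' x₀ h
        rw [hc, _root_.mul_inv_cancel_right])
      hH
    obtain ⟨z, hz⟩ := (hju (Over.mk bT) n).mpr (fun X' x h => by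
      have e1 := hth X' x h
      rw [hrig X' x h] at e1
      exact mul_inv_eq_iff_eq_mul.mp e1)
    refine ⟨z.left, ?_, ?_⟩
    · rw [← cancel_mono j.left, Category.assoc, ← Over.comp_left, hz, hn, Over.comp_left, hnT,
        ← hfl, ← Category.assoc a, ← hab, Category.assoc]
    · rw [← cancel_mono k.left, Category.assoc, hfl, ← Over.comp_left, hz, hn, Over.comp_left, hnT]
  haveI : Smooth f.left := Groth.Agent.Lib.FSmoothIffH7.smooth_of_lfp_fs f.left hfs
  haveI : Flat f.left := inferInstance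
  haveI : Mono f.left := mono_of_mono_fac hfl
  exact IsOpenImmersion.of_flat_of_mono f.left

end CentNorm

end Groth.Agent.Lib.MTSmH4
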