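import Mathlib
import Groth.Prelude.Def_W4c2conddiscmodels
import Groth.Agent.Lib.CartierLab_helper1

set_option autoImplicit false

namespace Groth.Agent.MTree9

open LabGraph

universe u

section boundary

variable {V E : Type u} [DecidableEq V]
variable (R : Type*) [CommRing R] (ends : E → V × V)

/-- signed incidence number -/
def inc (e : E) (v : V) : R :=
  (if (ends e).1 = v then 1 else 0) - (if (ends e).2 = v then 1 else 0)

variable [Fintype V] [Fintype E] [DecidableEq E]

theorem sum_inc (e : E) : ∑ v, inc R ends e v = 0 := by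
  unfold inc
  rw [Finset.sum_sub_distrib, Finset.sum_ite_eq, Finset.sum_ite_eq]
  simp

/-- boundary map over `R` -/
def bd : (E → R) →ₗ[R] (V → R) where
  toFun γ v := ∑ e, γ e * inc R ends e v
  map_add' γ γ' := by
    funext v
    simp only [Pi.add_apply, add_mul, Finset.sum_add_distrib]
  map_smul' c γ := by
    funext v
    simp only [Pi.smul_apply, smul_eq_mul, RingHom.id_apply, Finset.mul_sum, mul_assoc]

theorem bd_apply (γ : E → R) (v : V) : bd R ends γ v = ∑ e, γ e * inc R ends e v := rfl

theorem sum_bd (γ : E → R) : ∑ v, bd R ends γ v = 0 := by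
  simp only [bd_apply]
  rw [Finset.sum_comm]
  apply Finset.sum_eq_zero
  intro e _
  rw [← Finset.mul_sum, sum_inc, mul_zero]

theorem bd_single (e : E) (s : R) (v : V) :
    bd R ends (Pi.single e s) v = s * inc R ends e v := by
  rw [bd_apply, Finset.sum_eq_single e]
  · rw [Pi.single_eq_same]
  · intro e' _ hne
    rw [Pi.single_eq_of_ne hne, zero_mul]
  · intro h; exact absurd (Finset.mem_univ _) h

theorem exists_bd_eq_of_reach (v w : V) (h : Relation.ReflTransGen (Adj ends) v w) :
    ∃ γ : E → R, ∀ x, bd R ends γ x = (if w = x then 1 else 0) - (if v = x then 1 else 0) := by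
  induction h with
  | refl => exact ⟨0, fun x => by rw [map_zero]; simp⟩
  | tail _ hzb ih =>
    rename_i z b
    obtain ⟨γ, hγ⟩ := ih
    obtain ⟨e, he | he⟩ := hzb
    · refine ⟨γ - Pi.single e 1, fun x => ?_⟩
      rw [map_sub, Pi.sub_apply, hγ, bd_single, inc, he]
      simp only
      ring
    · refine ⟨γ + Pi.single e 1, fun x => ?_⟩
      rw [map_add, Pi.add_apply, hγ, bd_single, inc, he]
      simp only
      ring

/-- reduced boundary: drop the coordinate `v0` -/
def rbd (v0 : V) : (E → R) →ₗ[R] ({v : V // v ≠ v0} → R) :=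
  (LinearMap.funLeft R R (Subtype.val : {v : V // v ≠ v0} → V)).comp (bd R ends)

theorem rbd_apply (v0 : V) (γ : E → R) (w : {v : V // v ≠ v0}) :
    rbd R ends v0 γ w = bd R ends γ w.1 := rfl

theorem rbd_surjective (hG : Connected ends) (v0 : V) :
    Function.Surjective (rbd R ends v0) := by
  intro y
  have h1 : ∀ w : {v : V // v ≠ v0}, ∃ γ : E → R, ∀ x,
      bd R ends γ x = (if w.1 = x then 1 else 0) - (if v0 = x then 1 else 0) :=
    fun w => exists_bd_eq_of_reach R ends v0 w.1 (hG.2 v0 w.1)
  choose g hg using h1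
  refine ⟨∑ w, y w • g w, ?_⟩
  funext w'
  rw [rbd_apply, map_sum, Finset.sum_apply]
  simp only [map_smul, Pi.smul_apply, smul_eq_mul, hg]
  rw [Finset.sum_eq_single w']
  · rw [if_pos rfl, if_neg (fun h => w'.2 h.symm), sub_zero, mul_one]
  · intro w _ hne
    rw [if_neg (fun h => hne (Subtype.ext h)), if_neg (fun h => w'.2 h.symm), sub_zero, mul_zero]
  · intro h; exact absurd (Finset.mem_univ _) h

theorem bd_eq_zero_of_rbd (v0 : V) (γ : E → R) (h : rbd R ends v0 γ = 0) :
    bd R ends γ = 0 := by
  have h1 : ∀ v, v ≠ v0 → bd R ends γ v = 0 := fun v hv => congrFun h ⟨v, hv⟩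
  funext v
  by_cases hv : v = v0
  · subst hv
    have h2 := sum_bd R ends γ
    rw [Finset.sum_eq_single v (fun x _ hx => h1 x hx)
      (fun h => absurd (Finset.mem_univ _) h)] at h2
    exact h2
  · exact h1 v hv

end boundary

section F2

variable {V E : Type u} [Fintype V] [Fintype E] [DecidableEq V] [DecidableEq E]
variable (ends : E → V × V)

open Groth.Agent.Lib.CartierLab_helper1 (ec exists_circuit)

theorem inc_two (e : E) (v : V) : inc (ZMod 2) ends e v = (ec ends e v : ZMod 2) := by
  unfold inc ec
  rw [CharTwo.sub_eq_add]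
  push_cast
  rfl

theorem bd_indicator (C : Finset E) (v : V) :
    bd (ZMod 2) ends (fun e => if e ∈ C then 1 else 0) v = (endCount ends C v : ZMod 2) := by
  rw [bd_apply]
  simp only [inc_two, ite_mul, one_mul, zero_mul]
  rw [← Finset.sum_filter, Finset.filter_mem_eq_inter, Finset.univ_inter,
    Groth.Agent.Lib.CartierLab_helper1.endCount_eq, Nat.cast_sum]

theorem zmod2_cases (x : ZMod 2) : x = 0 ∨ x = 1 := by
  revert x; decide

theorem forest_iff : DualGr.IsForest ends ↔ Function.Injective (bd (ZMod 2) ends) := by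
  constructor
  · intro hF
    rw [injective_iff_map_eq_zero]
    intro γ hγ
    by_contra hne
    obtain ⟨e0, he0⟩ : ∃ e0, γ e0 ≠ 0 := by
      by_contra h
      push Not at h
      exact hne (funext h)
    have hγ' : γ = fun e => if e ∈ Finset.univ.filter (fun e => γ e ≠ 0) then 1 else 0 := by
      funext e
      simp only [Finset.mem_filter, Finset.mem_univ, true_and]
      rcases zmod2_cases (γ e) with h | h
      · simp [h]
      · simp [h]
    have hev : ∀ v, Even (endCount ends (Finset.univ.filter (fun e => γ e ≠ 0)) v) := by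
      intro v
      rw [← ZMod.natCast_eq_zero_iff_even, ← bd_indicator, ← hγ']
      exact congrFun hγ v
    obtain ⟨C, -, -, hC⟩ := exists_circuit ends e0 _ (by simp [he0]) hev
    exact hF C hC
  · intro hinj C hC
    obtain ⟨hne, hev, -⟩ := hC
    have h0 : bd (ZMod 2) ends (fun e => if e ∈ C then 1 else 0) = 0 := by
      funext v
      rw [bd_indicator, Pi.zero_apply, ZMod.natCast_eq_zero_iff_even]
      exact hev v
    have h1 := hinj (h0.trans (map_zero _).symm)
    obtain ⟨e, he⟩ := hne
    have := congrFun h1 e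
    simp [he] at this

theorem tree_iff (v0 : V) :
    DualGr.IsTree ends ↔
      Connected ends ∧ Fintype.card E = Fintype.card {v : V // v ≠ v0} := by
  haveI : Fact (Nat.Prime 2) := ⟨Nat.prime_two⟩
  have hfr : Module.finrank (ZMod 2) (E → ZMod 2) = Fintype.card E :=
    Module.finrank_fintype_fun_eq_card _
  have hfr' : Module.finrank (ZMod 2) ({v : V // v ≠ v0} → ZMod 2) =
      Fintype.card {v : V // v ≠ v0} := Module.finrank_fintype_fun_eq_card _
  constructor
  · rintro ⟨hG, hF⟩
    refine ⟨hG, ?_⟩
    rw [forest_iff] at hF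
    have hsurj := rbd_surjective (ZMod 2) ends hG v0
    have hinj : Function.Injective (rbd (ZMod 2) ends v0) := by
      rw [injective_iff_map_eq_zero]
      intro γ hγ
      exact hF ((bd_eq_zero_of_rbd (ZMod 2) ends v0 γ hγ).trans (map_zero _).symm)
    have := (LinearEquiv.ofBijective _ ⟨hinj, hsurj⟩).finrank_eq
    rw [hfr, hfr'] at this
    exact this
  · rintro ⟨hG, hcard⟩
    refine ⟨hG, ?_⟩
    rw [forest_iff]
    have hsurj := rbd_surjective (ZMod 2) ends hG v0
    have hinj : Function.Injective (rbd (ZMod 2) ends v0) :=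
      (LinearMap.injective_iff_surjective_of_finrank_eq_finrank
        (by rw [hfr, hfr', hcard])).mpr hsurj
    rw [injective_iff_map_eq_zero]
    intro γ hγ
    apply hinj
    rw [map_zero]
    funext w
    rw [rbd_apply, hγ]
    rfl

theorem forest_no_loop (hF : DualGr.IsForest ends) (e : E) : (ends e).1 ≠ (ends e).2 := by
  intro h
  rw [forest_iff] at hF
  have h0 : bd (ZMod 2) ends (Pi.single e 1) = 0 := by
    funext v
    rw [bd_single, inc, h, sub_self, mul_zero]
    rfl
  have := congrFun (hF (h0.trans (map_zero _).symm)) e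
  rw [Pi.single_eq_same, Pi.zero_apply] at this
  exact absurd this (by decide)

theorem forest_no_parallel (hF : DualGr.IsForest ends) (e e' : E) (hne : e ≠ e')
    (h : ends e' = ends e ∨ ends e' = ((ends e).2, (ends e).1)) : False := by
  rw [forest_iff] at hF
  have h0 : bd (ZMod 2) ends (Pi.single e 1 + Pi.single e' 1) = 0 := by
    funext v
    rw [map_add, Pi.add_apply, bd_single, bd_single, one_mul, one_mul, Pi.zero_apply]
    rcases h with h | h
    · rw [inc, inc, h]; exact CharTwo.add_self_eq_zero _
    · rw [inc, inc, h]; simp only; ring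
  have := congrFun (hF (h0.trans (map_zero _).symm)) e
  rw [Pi.add_apply, Pi.single_eq_same, Pi.single_eq_of_ne hne, add_zero, Pi.zero_apply] at this
  exact absurd this (by decide)

theorem endCount_eq_nbrCount (T : Finset E) (hF : DualGr.IsForest (fun e : T => ends e.1))
    (v : V) : endCount ends T v = nbrCount ends T v := by
  have hloop : ∀ e ∈ T, (ends e).1 ≠ (ends e).2 :=
    fun e he => forest_no_loop (fun e : T => ends e.1) hF ⟨e, he⟩
  have hpar : ∀ e ∈ T, ∀ e' ∈ T, e ≠ e' →
      ¬ (ends e' = ends e ∨ ends e' = ((ends e).2, (ends e).1)) := by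
    intro e he e' he' hne h
    exact forest_no_parallel (fun e : T => ends e.1) hF ⟨e, he⟩ ⟨e', he'⟩
      (fun h' => hne (congrArg Subtype.val h')) h
  have h1 : endCount ends T v = (T.filter fun e => (ends e).1 = v ∨ (ends e).2 = v).card := by
    rw [Finset.card_filter]
    unfold endCount
    apply Finset.sum_congr rfl
    intro e he
    have := hloop e he
    by_cases h1 : (ends e).1 = v <;> by_cases h2 : (ends e).2 = v
    · exact absurd (h1.trans h2.symm) this
    · simp [h1, h2]
    · simp [h1, h2]
    · simp [h1, h2]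
  have key : ∀ e, ((ends e).1 = v ∨ (ends e).2 = v) → ∀ w,
      (if (ends e).1 = v then (ends e).2 else (ends e).1) = w →
      ends e = (v, w) ∨ ends e = (w, v) := by
    intro e he w hw
    by_cases h : (ends e).1 = v
    · left; rw [if_pos h] at hw; exact Prod.ext h hw
    · right; rw [if_neg h] at hw; exact Prod.ext hw (he.resolve_left h)
  rw [h1]
  unfold nbrCount
  apply Finset.card_bij (fun e _ => if (ends e).1 = v then (ends e).2 else (ends e).1)
  · intro e he
    rw [Finset.mem_filter] at he
    obtain ⟨heT, hev⟩ := he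
    rw [Finset.mem_filter]
    refine ⟨Finset.mem_univ _, ?_, e, heT, key e hev _ rfl⟩
    split_ifs with h
    · intro h'; exact hloop e heT (h.trans h'.symm)
    · intro h'; exact h h'
  · intro e he e' he' heq
    rw [Finset.mem_filter] at he he'
    by_contra hne
    apply hpar e he.1 e' he'.1 hne
    obtain ⟨w, hw⟩ : ∃ w, (if (ends e).1 = v then (ends e).2 else (ends e).1) = w := ⟨_, rfl⟩
    have h1 := key e he.2 w hw
    have h2 := key e' he'.2 w (heq.symm.trans hw)
    rcases h1 with h1 | h1 <;> rcases h2 with h2 | h2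
    · exact Or.inl (h2.trans h1.symm)
    · exact Or.inr (by rw [h2, h1])
    · exact Or.inr (by rw [h2, h1])
    · exact Or.inl (h2.trans h1.symm)
  · intro w hw
    rw [Finset.mem_filter] at hw
    obtain ⟨-, hwv, e, heT, he⟩ := hw
    refine ⟨e, ?_, ?_⟩
    · rw [Finset.mem_filter]
      refine ⟨heT, ?_⟩
      rcases he with he | he <;> rw [he] <;> simp
    · rcases he with he | he
      · rw [he]; simp
      · rw [he]; simp [hwv]

end F2

end Groth.Agent.MTree9
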