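import Mathlib
import Groth.Agent.Lib.MTree1_helper9

set_option autoImplicit false

namespace Groth.Agent.MTree9

section expansion

variable {W E : Type*} [Fintype W] [DecidableEq W] [Fintype E] [DecidableEq E]
variable {R : Type*} [CommRing R]

/-- weighted "Laplacian" of a family of vectors -/
def lapl (b : E → W → R) (x : E → R) : Matrix W W R :=
  ∑ e, x e • Matrix.vecMulVec (b e) (b e)

omit [Fintype W] [DecidableEq W] [DecidableEq E] in
theorem lapl_apply (b : E → W → R) (x : E → R) (i j : W) :
    lapl b x i j = ∑ e, x e * (b e i * b e j) := by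
  simp [lapl, Matrix.sum_apply, Matrix.vecMulVec_apply]

/-- coefficient of a choice function -/
def cf (b : E → W → R) (f : W → E) : R :=
  (∏ j, b (f j) j) * Matrix.det (Matrix.of fun i j => b (f i) j)

omit [Fintype E] [DecidableEq E] in
theorem cf_eq_zero (b : E → W → R) (f : W → E) (hf : ¬ Function.Injective f) : cf b f = 0 := by
  unfold Function.Injective at hf
  push Not at hf
  obtain ⟨i, j, hij, hne⟩ := hf
  rw [cf, Matrix.det_zero_of_row_eq hne
    (by funext k; simp only [Matrix.of_apply]; rw [hij]), mul_zero]

theorem det_lapl (b : E → W → R) (x : E → R) :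
    Matrix.det (lapl b x) = ∑ f : W → E, (∏ j, x (f j)) * cf b f := by
  have h1 : lapl b x = Matrix.of (fun i => ∑ e, (x e * b e i) • b e) := by
    ext i j
    rw [lapl_apply, Matrix.of_apply, Finset.sum_apply]
    apply Finset.sum_congr rfl
    intro e _
    rw [Pi.smul_apply, smul_eq_mul, mul_assoc]
  rw [h1]
  change (Matrix.detRowAlternating (n := W) (R := R)).toMultilinearMap
    (fun i => ∑ e, (x e * b e i) • b e) = _
  rw [MultilinearMap.map_sum]
  apply Finset.sum_congr rfl
  intro f _
  change Matrix.detRowAlternating (fun i => (x (f i) * b (f i) i) • b (f i)) = _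
  rw [AlternatingMap.map_smul_univ, cf, Finset.prod_mul_distrib, smul_eq_mul, mul_assoc]
  rfl

omit [DecidableEq W] [Fintype E] [DecidableEq E] in
theorem prod_indicator (T : Finset E) [DecidablePred (· ∈ T)] (f : W → E) :
    ∏ j, (if f j ∈ T then (1 : R) else 0) = if ∀ j, f j ∈ T then 1 else 0 := by
  split_ifs with h
  · exact Finset.prod_eq_one (fun j _ => if_pos (h j))
  · push Not at h
    obtain ⟨j, hj⟩ := h
    exact Finset.prod_eq_zero (Finset.mem_univ j) (if_neg hj)

theorem det_lapl_indicator (b : E → W → R) (T : Finset E) :
    Matrix.det (lapl b (fun e => if e ∈ T then 1 else 0)) =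
      ∑ f : W → E, if ∀ j, f j ∈ T then cf b f else 0 := by
  rw [det_lapl]
  apply Finset.sum_congr rfl
  intro f _
  rw [prod_indicator]
  split_ifs <;> simp

theorem det_lapl_eq_sum (b : E → W → R) (x : E → R) :
    Matrix.det (lapl b x) =
      ∑ T ∈ (Finset.univ : Finset E).powerset.filter (fun T => T.card = Fintype.card W),
        (∏ e ∈ T, x e) * Matrix.det (lapl b (fun e => if e ∈ T then 1 else 0)) := by
  rw [det_lapl]
  simp only [det_lapl_indicator, Finset.mul_sum]
  rw [Finset.sum_comm]
  apply Finset.sum_congr rfl
  intro f _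
  symm
  by_cases hf : Function.Injective f
  · rw [Finset.sum_eq_single (Finset.univ.image f)]
    · rw [if_pos (fun j => Finset.mem_image_of_mem f (Finset.mem_univ j)),
        Finset.prod_image (fun a _ b _ h => hf h)]
    · intro T hT hne
      rw [if_neg, mul_zero]
      intro h
      apply hne
      have hsub : Finset.univ.image f ⊆ T := by
        intro e he
        obtain ⟨j, -, rfl⟩ := Finset.mem_image.mp he
        exact h j
      have hcard : T.card ≤ (Finset.univ.image f).card := by
        rw [Finset.card_image_of_injective _ hf, Finset.card_univ]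
        exact (Finset.mem_filter.mp hT).2.le
      exact (Finset.eq_of_subset_of_card_le hsub hcard).symm
    · intro h
      exfalso
      apply h
      rw [Finset.mem_filter]
      exact ⟨Finset.mem_powerset.mpr (Finset.subset_univ _),
        by rw [Finset.card_image_of_injective _ hf, Finset.card_univ]⟩
  · rw [cf_eq_zero b f hf]
    simp

end expansion

end Groth.Agent.MTree9
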