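import Mathlib
import Groth.Agent.Lib.MTree2_helper9

set_option autoImplicit false

namespace Groth.Agent.MTree9

open LabGraph

universe u

section graph

variable {V E : Type u} [Fintype V] [Fintype E] [DecidableEq V] [DecidableEq E]
variable (ends : E → V × V) (v0 : V)

/-- incidence vectors restricted to the complement of `v0` -/
def bvec (e : E) (w : {v : V // v ≠ v0}) : ℤ := inc ℤ ends e w.1

omit [Fintype E] [DecidableEq E] in
theorem sum_bvec_mul (e : E) (ϕ : V → ℤ) (h0 : ϕ v0 = 0) :
    ∑ w : {v : V // v ≠ v0}, bvec ends v0 e w * ϕ w.1 = ϕ (ends e).1 - ϕ (ends e).2 := by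
  have h1 : ∑ w : {v : V // v ≠ v0}, bvec ends v0 e w * ϕ w.1 =
      ∑ x ∈ Finset.univ.erase v0, inc ℤ ends e x * ϕ x := by
    rw [Finset.sum_subtype (Finset.univ.erase v0) (p := fun v => v ≠ v0) (by intro x; simp)]
    rfl
  rw [h1, Finset.sum_erase _ (by rw [h0, mul_zero])]
  simp only [inc, sub_mul, Finset.sum_sub_distrib, ite_mul, one_mul, zero_mul,
    Finset.sum_ite_eq, Finset.mem_univ, if_true]

theorem det_lapl_one_of_connected (hG : Connected ends)
    (hcard : Fintype.card E = Fintype.card {v : V // v ≠ v0}) :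
    Matrix.det (lapl (bvec ends v0) (fun _ => 1)) = 1 := by
  let σ : E ≃ {v : V // v ≠ v0} := Fintype.equivOfCardEq hcard
  let N' : Matrix {v : V // v ≠ v0} {v : V // v ≠ v0} ℤ :=
    Matrix.of fun w w' => bvec ends v0 (σ.symm w') w
  have h1 : lapl (bvec ends v0) (fun _ => 1) = N' * N'.transpose := by
    ext i j
    rw [lapl_apply, Matrix.mul_apply]
    simp only [one_mul, Matrix.transpose_apply, N', Matrix.of_apply]
    exact (Equiv.sum_comp σ.symm (fun e => bvec ends v0 e i * bvec ends v0 e j)).symm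
  have hsurj : Function.Surjective N'.mulVec := by
    intro y
    obtain ⟨γ, hγ⟩ := rbd_surjective ℤ ends hG v0 y
    refine ⟨γ ∘ σ.symm, ?_⟩
    funext w
    rw [← hγ, rbd_apply, bd_apply]
    simp only [Matrix.mulVec, dotProduct, N', Matrix.of_apply, Function.comp_apply, bvec]
    rw [Equiv.sum_comp σ.symm (fun e => inc ℤ ends e w.1 * γ e)]
    apply Finset.sum_congr rfl
    intro e _
    ring
  have hunit : IsUnit N'.det :=
    (Matrix.isUnit_iff_isUnit_det _).mp (Matrix.mulVec_surjective_iff_isUnit.mp hsurj)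
  rw [h1, Matrix.det_mul, Matrix.det_transpose]
  rcases Int.isUnit_iff.mp hunit with h | h <;> rw [h] <;> norm_num

theorem det_lapl_one_of_not_connected (hG : ¬ Connected ends) :
    Matrix.det (lapl (bvec ends v0) (fun _ => 1)) = 0 := by
  classical
  have h : ∃ v w : V, ¬ Relation.ReflTransGen (Adj ends) v w := by
    by_contra h
    push Not at h
    exact hG ⟨⟨v0⟩, h⟩
  obtain ⟨a, c, hac⟩ := h
  have hS : ∀ e, Relation.ReflTransGen (Adj ends) a (ends e).1 ↔
      Relation.ReflTransGen (Adj ends) a (ends e).2 := by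
    intro e
    constructor
    · intro h; exact h.tail ⟨e, Or.inl rfl⟩
    · intro h; exact h.tail ⟨e, Or.inr rfl⟩
  obtain ⟨ϕ, hϕe, hϕ0, u, hu⟩ : ∃ ϕ : V → ℤ, (∀ e, ϕ (ends e).1 = ϕ (ends e).2) ∧ ϕ v0 = 0 ∧
      ∃ u, ϕ u ≠ 0 := by
    by_cases hv0 : Relation.ReflTransGen (Adj ends) a v0
    · refine ⟨fun u => if Relation.ReflTransGen (Adj ends) a u then 0 else 1, ?_,
        by simp [hv0], c, by simp [hac]⟩
      intro e
      simp only [hS e]
    · refine ⟨fun u => if Relation.ReflTransGen (Adj ends) a u then 1 else 0, ?_,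
        by simp [hv0], a, by simp [Relation.ReflTransGen.refl]⟩
      intro e
      simp only [hS e]
  rw [← Matrix.exists_mulVec_eq_zero_iff]
  refine ⟨fun w => ϕ w.1, ?_, ?_⟩
  · intro h0
    have hu0 : u ≠ v0 := fun h => hu (h ▸ hϕ0)
    exact hu (congrFun h0 ⟨u, hu0⟩)
  · funext i
    simp only [Matrix.mulVec, dotProduct, lapl_apply, one_mul, Pi.zero_apply, Finset.sum_mul]
    rw [Finset.sum_comm]
    apply Finset.sum_eq_zero
    intro e _
    simp only [mul_assoc]
    rw [← Finset.mul_sum, sum_bvec_mul ends v0 e ϕ hϕ0, hϕe e, sub_self, mul_zero]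

theorem matrix_tree [DecidablePred (fun T : Finset E => IsSpanningTree ends T)] (x : E → ℤ) :
    Matrix.det (lapl (bvec ends v0) x) =
      ∑ T ∈ (Finset.univ : Finset E).powerset.filter (fun T => IsSpanningTree ends T),
        ∏ e ∈ T, x e := by
  rw [det_lapl_eq_sum]
  have hlap : ∀ T : Finset E, lapl (bvec ends v0) (fun e => if e ∈ T then 1 else 0) =
      lapl (bvec (fun e : T => ends e.1) v0) (fun _ => 1) := by
    intro T
    ext i j
    rw [lapl_apply, lapl_apply]
    simp only [ite_mul, one_mul, zero_mul]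
    rw [Finset.sum_ite_mem, Finset.univ_inter,
      ← Finset.sum_coe_sort T (fun e => bvec ends v0 e i * bvec ends v0 e j)]
    rfl
  have htree : ∀ T : Finset E, IsSpanningTree ends T ↔
      Connected (fun e : T => ends e.1) ∧ T.card = Fintype.card {v : V // v ≠ v0} := by
    intro T
    have := tree_iff (fun e : T => ends e.1) v0
    rw [Fintype.card_coe] at this
    exact this
  have key : ∀ T : Finset E, T.card = Fintype.card {v : V // v ≠ v0} →
      Matrix.det (lapl (bvec ends v0) (fun e => if e ∈ T then 1 else 0)) =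
        if IsSpanningTree ends T then 1 else 0 := by
    intro T hT
    rw [hlap]
    by_cases hc : Connected (fun e : T => ends e.1)
    · rw [if_pos ((htree T).mpr ⟨hc, hT⟩)]
      exact det_lapl_one_of_connected _ v0 hc (by rw [Fintype.card_coe]; exact hT)
    · rw [if_neg (fun h => hc ((htree T).mp h).1)]
      exact det_lapl_one_of_not_connected _ v0 hc
  rw [Finset.sum_congr rfl (fun T hT => by rw [key T (Finset.mem_filter.mp hT).2])]
  simp only [mul_ite, mul_one, mul_zero]
  rw [← Finset.sum_filter, Finset.filter_filter]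
  apply Finset.sum_congr
  · ext T
    simp only [Finset.mem_filter, Finset.mem_powerset]
    constructor
    · rintro ⟨h1, -, h3⟩
      exact ⟨h1, h3⟩
    · rintro ⟨h1, h3⟩
      exact ⟨h1, ((htree T).mp h3).2, h3⟩
  · intros
    rfl

end graph

end Groth.Agent.MTree9
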