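import Mathlib
import Groth.Agent.Lib.MTree3_helper9

set_option autoImplicit false

namespace Groth.Agent.MTree9

open LabGraph

universe u

section mf

variable {V E : Type u} [Fintype V] [Fintype E] [DecidableEq V] [DecidableEq E]
variable (ends : E → V × V) (β : V → ℤ)

omit [Fintype V] in
theorem edgeMult_comm (v w : V) : edgeMult ends v w = edgeMult ends w v := by
  unfold edgeMult
  congr 1
  ext e
  simp only [Finset.mem_filter, Finset.mem_univ, true_and]
  exact Or.comm

theorem mf_offdiag (v w : V) (h : v ≠ w) : mfMatrix ends β v w = (edgeMult ends v w : ℤ) := by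
  simp only [mfMatrix, if_neg h]

theorem mf_diag (hβ : IsMultFn ends β) (v : V) :
    β v * mfMatrix ends β v v =
      -(∑ u ∈ Finset.univ.erase v, β u * (edgeMult ends v u : ℤ)) := by
  simp only [mfMatrix, if_true]
  exact Int.mul_ediv_cancel' ((hβ v).2.neg_right)

theorem mf_symm (v w : V) : mfMatrix ends β v w = mfMatrix ends β w v := by
  by_cases h : v = w
  · rw [h]
  · rw [mf_offdiag ends β v w h, mf_offdiag ends β w v (Ne.symm h), edgeMult_comm]

theorem mf_mulVec (hβ : IsMultFn ends β) (v : V) : ∑ w, mfMatrix ends β v w * β w = 0 := by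
  rw [← Finset.add_sum_erase _ _ (Finset.mem_univ v), mul_comm, mf_diag ends β hβ,
    neg_add_eq_zero]
  apply Finset.sum_congr rfl
  intro u hu
  rw [mf_offdiag ends β v u (Finset.ne_of_mem_erase hu).symm, mul_comm]

theorem mf_vecMul (hβ : IsMultFn ends β) (w : V) : ∑ v, β v * mfMatrix ends β v w = 0 := by
  rw [← mf_mulVec ends β hβ w]
  apply Finset.sum_congr rfl
  intro v _
  rw [mf_symm, mul_comm]

/-- off-diagonal entries of the weighted Laplacian -/
theorem lfull_offdiag (v w : V) (h : v ≠ w) :
    ∑ e, (β (ends e).1 * β (ends e).2) * (inc ℤ ends e v * inc ℤ ends e w) =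
      -(β v * mfMatrix ends β v w * β w) := by
  rw [mf_offdiag ends β v w h]
  have h1 : ∀ e, (β (ends e).1 * β (ends e).2) * (inc ℤ ends e v * inc ℤ ends e w) =
      -(β v * β w) * (if ends e = (v, w) ∨ ends e = (w, v) then 1 else 0) := by
    intro e
    simp only [inc]
    generalize ends e = p
    obtain ⟨a, c⟩ := p
    simp only [Prod.mk.injEq]
    by_cases h1 : a = v
    · subst h1
      by_cases h4 : c = w
      · subst h4
        simp [h, Ne.symm h]
      · have h5 : ¬ a = w := h
        simp [h4, h5]
    · by_cases h2 : c = v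
      · subst h2
        by_cases h3 : a = w
        · subst h3
          simp [h1, h]
          ring
        · have h5 : ¬ c = w := h
          simp [h1, h3, h5]
      · simp [h1, h2]
  simp only [h1]
  rw [← Finset.mul_sum, Finset.sum_boole, edgeMult]
  ring

theorem lfull_rowsum (v : V) :
    ∑ w, ∑ e, (β (ends e).1 * β (ends e).2) * (inc ℤ ends e v * inc ℤ ends e w) = 0 := by
  rw [Finset.sum_comm]
  apply Finset.sum_eq_zero
  intro e _
  simp only [← Finset.mul_sum]
  rw [sum_inc, mul_zero, mul_zero]

theorem lfull_eq (hβ : IsMultFn ends β) (v w : V) :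
    ∑ e, (β (ends e).1 * β (ends e).2) * (inc ℤ ends e v * inc ℤ ends e w) =
      -(β v * mfMatrix ends β v w * β w) := by
  by_cases h : v = w
  · subst h
    have h1 := lfull_rowsum ends β v
    rw [← Finset.add_sum_erase _ _ (Finset.mem_univ v)] at h1
    have h2 : ∑ w ∈ Finset.univ.erase v,
        ∑ e, (β (ends e).1 * β (ends e).2) * (inc ℤ ends e v * inc ℤ ends e w) =
        ∑ w ∈ Finset.univ.erase v, -(β v * mfMatrix ends β v w * β w) :=
      Finset.sum_congr rfl (fun w hw => lfull_offdiag ends β v w (Finset.ne_of_mem_erase hw).symm)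
    rw [h2] at h1
    have h3 := mf_mulVec ends β hβ v
    rw [← Finset.add_sum_erase _ _ (Finset.mem_univ v)] at h3
    have h4 : ∑ w ∈ Finset.univ.erase v, -(β v * mfMatrix ends β v w * β w) =
        -(β v * ∑ w ∈ Finset.univ.erase v, mfMatrix ends β v w * β w) := by
      rw [Finset.mul_sum, ← Finset.sum_neg_distrib]
      apply Finset.sum_congr rfl
      intro w _
      ring
    rw [h4] at h1
    linear_combination h1 + β v * h3
  · exact lfull_offdiag ends β v w h

end mf

end Groth.Agent.MTree9
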