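import Mathlib
import Groth.Agent.Lib.MTree4_helper9

set_option autoImplicit false

namespace Groth.Agent.MTree9

open LabGraph

universe u

section minor

variable {V E : Type u} [Fintype V] [Fintype E] [DecidableEq V] [DecidableEq E]
variable (ends : E → V × V) (β : V → ℤ) (v0 : V)

/-- the principal minor of the matrix `α` obtained by deleting `v0` -/
def minorA : Matrix {v : V // v ≠ v0} {v : V // v ≠ v0} ℤ :=
  (mfMatrix ends β).submatrix Subtype.val Subtype.val

theorem lapl_eq (hβ : IsMultFn ends β) :
    lapl (bvec ends v0) (fun e => β (ends e).1 * β (ends e).2) =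
      Matrix.diagonal (fun w : {v : V // v ≠ v0} => β w.1) * (-(minorA ends β v0)) *
        Matrix.diagonal (fun w : {v : V // v ≠ v0} => β w.1) := by
  ext i j
  rw [lapl_apply, Matrix.mul_diagonal, Matrix.diagonal_mul]
  simp only [Matrix.neg_apply, minorA, Matrix.submatrix_apply, bvec]
  rw [lfull_eq ends β hβ]
  ring

theorem det_lapl_eq (hβ : IsMultFn ends β) :
    Matrix.det (lapl (bvec ends v0) (fun e => β (ends e).1 * β (ends e).2)) =
      (∏ w : {v : V // v ≠ v0}, β w.1) ^ 2 *
        ((-1) ^ Fintype.card {v : V // v ≠ v0} * Matrix.det (minorA ends β v0)) := by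
  rw [lapl_eq ends β v0 hβ, Matrix.det_mul, Matrix.det_mul, Matrix.det_diagonal, Matrix.det_neg]
  ring

theorem det_lapl_ne_zero (hG : Connected ends) (x : E → ℤ) (hx : ∀ e, 0 < x e) :
    Matrix.det (lapl (bvec ends v0) x) ≠ 0 := by
  intro hdet
  rw [← Matrix.exists_mulVec_eq_zero_iff] at hdet
  obtain ⟨y, hy0, hy⟩ := hdet
  apply hy0
  have hq : ∑ e, x e * (∑ i, bvec ends v0 e i * y i) ^ 2 = 0 := by
    calc ∑ e, x e * (∑ i, bvec ends v0 e i * y i) ^ 2
        = ∑ e, ∑ i, ∑ j, x e * ((bvec ends v0 e i * y i) * (bvec ends v0 e j * y j)) := by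
          apply Finset.sum_congr rfl
          intro e _
          rw [sq, Finset.sum_mul_sum, Finset.mul_sum]
          apply Finset.sum_congr rfl
          intro i _
          rw [Finset.mul_sum]
      _ = ∑ i, ∑ j, ∑ e, x e * ((bvec ends v0 e i * y i) * (bvec ends v0 e j * y j)) := by
          rw [Finset.sum_comm]
          apply Finset.sum_congr rfl
          intro i _
          rw [Finset.sum_comm]
      _ = ∑ i, y i * ((lapl (bvec ends v0) x).mulVec y) i := by
          apply Finset.sum_congr rfl
          intro i _
          simp only [Matrix.mulVec, dotProduct, lapl_apply, Finset.sum_mul, Finset.mul_sum]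
          apply Finset.sum_congr rfl
          intro j _
          apply Finset.sum_congr rfl
          intro e _
          ring
      _ = 0 := by rw [hy]; simp
  have hse : ∀ e, ∑ i, bvec ends v0 e i * y i = 0 := by
    intro e
    have h2 := (Finset.sum_eq_zero_iff_of_nonneg
      (fun e _ => mul_nonneg (hx e).le (sq_nonneg _))).mp hq e (Finset.mem_univ e)
    rcases mul_eq_zero.mp h2 with h | h
    · exact absurd h (hx e).ne'
    · exact (pow_eq_zero_iff two_ne_zero).mp h
  let yy : V → ℤ := fun v => if h : v ≠ v0 then y ⟨v, h⟩ else 0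
  have hyy : ∀ i : {v : V // v ≠ v0}, yy i.1 = y i := fun i => by simp only [yy, dif_pos i.2]
  have hyy0 : yy v0 = 0 := by simp [yy]
  have hedge : ∀ e, yy (ends e).1 = yy (ends e).2 := by
    intro e
    have := sum_bvec_mul ends v0 e yy hyy0
    simp only [hyy] at this
    rw [hse e] at this
    exact sub_eq_zero.mp this.symm
  have hconst : ∀ v w, Relation.ReflTransGen (Adj ends) v w → yy v = yy w := by
    intro v w h
    induction h with
    | refl => rfl
    | tail _ hzb ih =>
      obtain ⟨e, he | he⟩ := hzb
      · have := hedge e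
        rw [he] at this
        exact ih.trans this
      · have := hedge e
        rw [he] at this
        exact ih.trans this.symm
  funext i
  rw [← hyy i, hconst i.1 v0 (hG.2 _ _), hyy0]
  rfl

end minor

section rankone

variable {V : Type*} [Fintype V] [DecidableEq V]

theorem det_rank_one_update (A : Matrix V V ℤ) (u c : V → ℤ)
    (hA1 : ∀ i, ∑ j, A i j * c j = 0) (hA2 : ∀ j, ∑ i, c i * A i j = 0)
    (huc : ∑ i, u i * c i = 1) (v0 : V) :
    c v0 * (c v0 * Matrix.det (A + Matrix.vecMulVec u u)) =
      Matrix.det (A.submatrix (Subtype.val : {v : V // v ≠ v0} → V) Subtype.val) := by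
  -- row operation: replace row `v0` of `M` by `c ᵥ* M = u`
  have s2 : ((A + Matrix.vecMulVec u u).updateRow v0 u).det =
      c v0 * (A + Matrix.vecMulVec u u).det := by
    have h := Matrix.det_updateRow_sum (A + Matrix.vecMulVec u u) v0 c
    rw [smul_eq_mul] at h
    rw [← h]
    congr 2
    funext j
    rw [Finset.sum_apply]
    simp only [Pi.smul_apply, smul_eq_mul, Matrix.add_apply, Matrix.vecMulVec_apply, mul_add]
    rw [Finset.sum_add_distrib, hA2 j, zero_add]
    calc u j = (∑ i, u i * c i) * u j := by rw [huc, one_mul]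
      _ = ∑ i, c i * (u i * u j) := by
          rw [Finset.sum_mul]
          apply Finset.sum_congr rfl
          intro i _
          ring
  -- remove the rank one part from the other rows
  have s3 : ((A + Matrix.vecMulVec u u).updateRow v0 u).det = (A.updateRow v0 u).det := by
    apply Matrix.det_eq_of_forall_row_eq_smul_add_const (fun i => if i = v0 then 0 else u i) v0
      (if_pos rfl)
    intro i j
    by_cases hi : i = v0
    · subst hi
      simp
    · simp [Matrix.updateRow_apply, hi, Matrix.vecMulVec_apply]
  -- column operation on `B = A.updateRow v0 u`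
  have s4 : ((A.updateRow v0 u).updateCol v0 (Pi.single v0 1)).det =
      c v0 * (A.updateRow v0 u).det := by
    have h := Matrix.det_updateCol_sum (A.updateRow v0 u) v0 c
    rw [smul_eq_mul] at h
    rw [← h]
    congr 2
    funext k
    simp only [smul_eq_mul, Matrix.updateRow_apply]
    by_cases hk : k = v0
    · subst hk
      simp only [if_true, Pi.single_eq_same]
      rw [← huc]
      apply Finset.sum_congr rfl
      intro i _
      ring
    · simp only [if_neg hk, Pi.single_eq_of_ne hk]
      rw [← hA1 k]
      apply Finset.sum_congr rfl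
      intro i _
      ring
  -- block triangular
  have s5 : ((A.updateRow v0 u).updateCol v0 (Pi.single v0 1)).det =
      Matrix.det (A.submatrix (Subtype.val : {v : V // v ≠ v0} → V) Subtype.val) := by
    rw [Matrix.twoBlockTriangular_det' _ (fun v => v ≠ v0)]
    · haveI : Unique {a : V // ¬ a ≠ v0} :=
        ⟨⟨⟨v0, fun h => h rfl⟩⟩, fun a => Subtype.ext (not_not.mp a.2)⟩
      have hB : Matrix.det (Matrix.toSquareBlockProp
          ((A.updateRow v0 u).updateCol v0 (Pi.single v0 1)) fun i => ¬ i ≠ v0) = 1 := by
        rw [Matrix.det_unique]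
        have h1 : (default : {a : V // ¬ a ≠ v0}) = ⟨v0, fun h => h rfl⟩ :=
          Subsingleton.elim _ _
        rw [h1, Matrix.toSquareBlockProp_def, Matrix.of_apply]
        simp only [Matrix.updateCol_self, Pi.single_eq_same]
      rw [hB, mul_one]
      congr 1
      ext i j
      simp only [Matrix.toSquareBlockProp_def, Matrix.of_apply, Matrix.submatrix_apply]
      rw [Matrix.updateCol_ne j.2, Matrix.updateRow_ne i.2]
    · intro i hi j hj
      have hj' : j = v0 := not_not.mp hj
      subst hj'
      rw [Matrix.updateCol_self, Pi.single_eq_of_ne hi]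
  rw [← s5, s4, ← s3, s2]

end rankone

end Groth.Agent.MTree9
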