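import Mathlib
import Groth.Agent.Lib.MTree5_helper9

set_option autoImplicit false

namespace Groth.Agent.MTree9

open LabGraph

universe u

section card

variable {V : Type u} [Fintype V] [DecidableEq V]

theorem betaHom_apply (β x : V → ℤ) : betaHom β x = ∑ v, x v * β v := by
  simp [betaHom, Fintype.linearCombination_apply]

theorem card_quot_general (A : Matrix V V ℤ) (β u c : V → ℤ) (m : ℤ)
    (hm : ∀ v, β v = m * c v) (hm0 : m ≠ 0) (huc : ∑ v, u v * c v = 1)
    (hA1 : ∀ i, ∑ j, A i j * c j = 0) (hA2 : ∀ j, ∑ i, β i * A i j = 0)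
    (hdet : Matrix.det (A + Matrix.vecMulVec u u) ≠ 0) :
    Nat.card ((LinearMap.ker (betaHom β)) ⧸
      (LinearMap.range (Matrix.mulVecLin A)).comap (LinearMap.ker (betaHom β)).subtype) =
      (Matrix.det (A + Matrix.vecMulVec u u)).natAbs := by
  have hMv : ∀ y : V → ℤ, (A + Matrix.vecMulVec u u).mulVec y =
      A.mulVec y + (∑ v, u v * y v) • u := by
    intro y
    funext i
    simp only [Matrix.mulVec, dotProduct, Matrix.add_apply, Matrix.vecMulVec_apply, add_mul,
      Finset.sum_add_distrib, Pi.add_apply, Pi.smul_apply, smul_eq_mul]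
    congr 1
    rw [Finset.sum_mul]
    apply Finset.sum_congr rfl
    intro j _
    ring
  obtain ⟨M, hM⟩ : ∃ M, M = A + Matrix.vecMulVec u u := ⟨_, rfl⟩
  rw [← hM] at hdet hMv ⊢
  have hβA : ∀ x : V → ℤ, betaHom β (A.mulVec x) = 0 := by
    intro x
    rw [betaHom_apply]
    simp only [Matrix.mulVec, dotProduct, Finset.sum_mul]
    rw [Finset.sum_comm]
    apply Finset.sum_eq_zero
    intro w _
    calc ∑ v, A v w * x w * β v = x w * ∑ v, β v * A v w := by
          rw [Finset.mul_sum]
          apply Finset.sum_congr rfl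
          intro v _
          ring
      _ = 0 := by rw [hA2 w, mul_zero]
  have hβu : betaHom β u = m := by
    rw [betaHom_apply]
    simp only [hm]
    calc ∑ v, u v * (m * c v) = m * ∑ v, u v * c v := by
          rw [Finset.mul_sum]
          apply Finset.sum_congr rfl
          intro v _
          ring
      _ = m := by rw [huc, mul_one]
  have hAc' : A.mulVec c = 0 := by
    funext i
    exact hA1 i
  have hMc : M.mulVec c = u := by
    rw [hMv, hAc', huc, one_smul, zero_add]
  have hcomap : (LinearMap.range (Matrix.mulVecLin M)).comap (LinearMap.ker (betaHom β)).subtype =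
      (LinearMap.range (Matrix.mulVecLin A)).comap (LinearMap.ker (betaHom β)).subtype := by
    ext x
    simp only [Submodule.mem_comap, Submodule.subtype_apply, LinearMap.mem_range,
      Matrix.mulVecLin_apply]
    have hx : betaHom β x.1 = 0 := x.2
    constructor
    · rintro ⟨y, hy⟩
      refine ⟨y, ?_⟩
      rw [hMv] at hy
      have h1 : (∑ v, u v * y v) * m = 0 := by
        have := congrArg (betaHom β) hy
        rw [map_add, hβA, zero_add, map_smul, hβu, hx, smul_eq_mul] at this
        exact this
      have h2 : ∑ v, u v * y v = 0 := (mul_eq_zero.mp h1).resolve_right hm0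
      rw [h2, zero_smul, add_zero] at hy
      exact hy
    · rintro ⟨y, hy⟩
      refine ⟨y - (∑ v, u v * y v) • c, ?_⟩
      have h0 : ∑ v, u v * (y - (∑ v, u v * y v) • c) v = 0 := by
        simp only [Pi.sub_apply, Pi.smul_apply, smul_eq_mul, mul_sub, Finset.sum_sub_distrib]
        rw [sub_eq_zero]
        calc ∑ v, u v * y v = (∑ v, u v * y v) * ∑ v, u v * c v := by rw [huc, mul_one]
          _ = ∑ x, u x * ((∑ v, u v * y v) * c x) := by
              rw [Finset.mul_sum]
              apply Finset.sum_congr rfl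
              intro v _
              ring
      rw [hMv, h0, zero_smul, add_zero, Matrix.mulVec_sub, Matrix.mulVec_smul, hAc', smul_zero,
        sub_zero, hy]
  have hsurj : Function.Surjective
      ((LinearMap.range (Matrix.mulVecLin M)).mkQ.comp (LinearMap.ker (betaHom β)).subtype) := by
    intro z
    obtain ⟨z, rfl⟩ := (LinearMap.range (Matrix.mulVecLin M)).mkQ_surjective z
    have hx : z - (∑ v, z v * c v) • u ∈ LinearMap.ker (betaHom β) := by
      rw [LinearMap.mem_ker, map_sub, map_smul, hβu, betaHom_apply, smul_eq_mul, sub_eq_zero]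
      simp only [hm]
      rw [Finset.sum_mul]
      apply Finset.sum_congr rfl
      intro v _
      ring
    refine ⟨⟨z - (∑ v, z v * c v) • u, hx⟩, ?_⟩
    change (LinearMap.range (Matrix.mulVecLin M)).mkQ (z - (∑ v, z v * c v) • u) = _
    rw [map_sub, sub_eq_self, Submodule.mkQ_apply, Submodule.Quotient.mk_eq_zero]
    exact ⟨(∑ v, z v * c v) • c, by rw [Matrix.mulVecLin_apply, Matrix.mulVec_smul, hMc]⟩
  have hker : LinearMap.ker
      ((LinearMap.range (Matrix.mulVecLin M)).mkQ.comp (LinearMap.ker (betaHom β)).subtype) =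
      (LinearMap.range (Matrix.mulVecLin A)).comap (LinearMap.ker (betaHom β)).subtype := by
    rw [← hcomap, LinearMap.ker_comp, Submodule.ker_mkQ]
  have e1 := LinearMap.quotKerEquivOfSurjective _ hsurj
  have e2 := Submodule.quotEquivOfEq _ _ hker.symm
  rw [Nat.card_congr (e2.trans e1).toEquiv]
  have hinj : Function.Injective (Matrix.mulVecLin M) := by
    rw [← LinearMap.ker_eq_bot, LinearMap.ker_eq_bot']
    intro y hy
    exact Matrix.eq_zero_of_mulVec_eq_zero hdet hy
  have h3 := Submodule.natAbs_det_equiv (LinearMap.range (Matrix.mulVecLin M))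
    (LinearEquiv.ofInjective (Matrix.mulVecLin M) hinj)
  rw [← h3]
  congr 1
  have h4 : (LinearMap.range (Matrix.mulVecLin M)).subtype ∘ₗ AddMonoidHom.toIntLinearMap
      ((LinearEquiv.ofInjective (Matrix.mulVecLin M) hinj :
        (V → ℤ) ≃ₗ[ℤ] LinearMap.range (Matrix.mulVecLin M)) :
        (V → ℤ) →+ LinearMap.range (Matrix.mulVecLin M)) = Matrix.toLin' M := by
    ext x
    rfl
  rw [h4, LinearMap.det_toLin']

end card

end Groth.Agent.MTree9
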