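import Mathlib
import Groth.Agent.Lib.MTree6_helper9

set_option autoImplicit false

namespace Groth.Agent.MTree9

open LabGraph

universe u

section final

variable {V E : Type u} [Fintype V] [Fintype E] [DecidableEq V] [DecidableEq E]
variable (ends : E → V × V) (β : V → ℤ)

open Groth.Agent.Lib.CartierLab_helper1 (ec)

omit [Fintype E] [DecidableEq E] in
theorem prod_edges_eq (T : Finset E) :
    ∏ e ∈ T, (β (ends e).1 * β (ends e).2) = ∏ v, β v ^ endCount ends T v := by
  have h1 : ∀ e : E, β (ends e).1 * β (ends e).2 = ∏ v, β v ^ ec ends e v := by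
    intro e
    simp only [ec, pow_add, Finset.prod_mul_distrib]
    congr 1
    · rw [Finset.prod_eq_single (ends e).1]
      · simp
      · intro v _ hv
        simp [Ne.symm hv]
      · intro h
        exact absurd (Finset.mem_univ _) h
    · rw [Finset.prod_eq_single (ends e).2]
      · simp
      · intro v _ hv
        simp [Ne.symm hv]
      · intro h
        exact absurd (Finset.mem_univ _) h
  simp only [h1]
  rw [Finset.prod_comm]
  apply Finset.prod_congr rfl
  intro v _
  rw [Finset.prod_pow_eq_pow_sum]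
  rfl

theorem main (hβ : IsMultFn ends β) (hG : Connected ends)
    [DecidablePred (fun T : Finset E => IsSpanningTree ends T)] :
    (Nat.card (CompGrp ends β) : ℚ) =
      ((Finset.univ.gcd β : ℤ) : ℚ) ^ 2 *
        ∑ T ∈ Finset.univ.powerset.filter (fun T : Finset E => IsSpanningTree ends T),
          ∏ v : V, ((β v : ℚ) ^ ((nbrCount ends T v : ℤ) - 2)) := by
  obtain ⟨v0⟩ := hG.1
  obtain ⟨m, hm_def⟩ : ∃ m, m = Finset.univ.gcd β := ⟨_, rfl⟩
  rw [← hm_def]
  have hmdvd : ∀ v, m ∣ β v := fun v => by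
    rw [hm_def]
    exact Finset.gcd_dvd (Finset.mem_univ v)
  have hβpos : ∀ v, 0 < β v := fun v => (hβ v).1
  have hm0 : m ≠ 0 := by
    intro h
    have := hmdvd v0
    rw [h, zero_dvd_iff] at this
    exact (hβpos v0).ne' this
  choose c hc using hmdvd
  obtain ⟨g, hg⟩ := Finset.gcd_eq_sum_mul Finset.univ β
  rw [← hm_def] at hg
  have huc : ∑ v, g v * c v = 1 := by
    have h1 : m * ∑ v, g v * c v = m * 1 := by
      rw [mul_one, Finset.mul_sum]
      refine (Finset.sum_congr rfl (fun v _ => ?_)).trans hg.symm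
      rw [hc v]
      ring
    exact mul_left_cancel₀ hm0 h1
  have hA1 : ∀ i, ∑ j, mfMatrix ends β i j * c j = 0 := by
    intro i
    have h := mf_mulVec ends β hβ i
    have h2 : m * ∑ j, mfMatrix ends β i j * c j = 0 := by
      rw [Finset.mul_sum, ← h]
      apply Finset.sum_congr rfl
      intro j _
      rw [hc j]
      ring
    exact (mul_eq_zero.mp h2).resolve_left hm0
  have hA2' : ∀ j, ∑ i, β i * mfMatrix ends β i j = 0 := mf_vecMul ends β hβ
  have hA2 : ∀ j, ∑ i, c i * mfMatrix ends β i j = 0 := by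
    intro j
    have h := hA2' j
    have h2 : m * ∑ i, c i * mfMatrix ends β i j = 0 := by
      rw [Finset.mul_sum, ← h]
      apply Finset.sum_congr rfl
      intro i _
      rw [hc i]
      ring
    exact (mul_eq_zero.mp h2).resolve_left hm0
  have h_rank := det_rank_one_update (mfMatrix ends β) g c hA1 hA2 huc v0
  have h_lap := det_lapl_eq ends β v0 hβ
  have h_tree := matrix_tree ends v0 (fun e => β (ends e).1 * β (ends e).2)
  have h_ne := det_lapl_ne_zero ends v0 hG (fun e => β (ends e).1 * β (ends e).2)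
    (fun e => mul_pos (hβpos _) (hβpos _))
  obtain ⟨d, hd⟩ : ∃ d, d = Matrix.det (mfMatrix ends β + Matrix.vecMulVec g g) := ⟨_, rfl⟩
  obtain ⟨a, ha⟩ : ∃ a, a = Matrix.det (minorA ends β v0) := ⟨_, rfl⟩
  obtain ⟨S, hS⟩ : ∃ S, S = ∑ T ∈ Finset.univ.powerset.filter
      (fun T : Finset E => IsSpanningTree ends T), ∏ e ∈ T, (β (ends e).1 * β (ends e).2) :=
    ⟨_, rfl⟩
  obtain ⟨P, hP⟩ : ∃ P, P = ∏ w : {v : V // v ≠ v0}, β w.1 := ⟨_, rfl⟩
  obtain ⟨k, hk⟩ : ∃ k, k = Fintype.card {v : V // v ≠ v0} := ⟨_, rfl⟩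
  have e1 : c v0 * (c v0 * d) = a := by
    rw [hd, ha]
    exact h_rank
  have e2 : S = P ^ 2 * ((-1) ^ k * a) := by
    rw [hS, ← h_tree, h_lap, hP, ha, hk]
  have hS0 : S ≠ 0 := by
    rw [hS, ← h_tree]
    exact h_ne
  have hSnn : 0 ≤ S := by
    rw [hS]
    exact Finset.sum_nonneg (fun T _ => Finset.prod_nonneg
      (fun e _ => (mul_pos (hβpos _) (hβpos _)).le))
  have hd0 : d ≠ 0 := by
    intro h
    apply hS0
    rw [e2, ← e1, h]
    ring
  have h_card : Nat.card (CompGrp ends β) = d.natAbs := by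
    rw [hd]
    exact card_quot_general (mfMatrix ends β) β g c m hc hm0 huc hA1 hA2'
      (by rw [← hd]; exact hd0)
  have e3 : (d.natAbs : ℤ) * (c v0 ^ 2 * P ^ 2) = S := by
    rw [Int.natCast_natAbs]
    have h5 : S = (-1) ^ k * (c v0 ^ 2 * P ^ 2) * d := by
      rw [e2, ← e1]
      ring
    have h6 : |S| = |d| * (c v0 ^ 2 * P ^ 2) := by
      rw [h5, abs_mul, abs_mul, abs_pow, abs_neg, abs_one, one_pow, one_mul,
        abs_of_nonneg (by positivity)]
      ring
    rw [← h6, abs_of_nonneg hSnn]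
  have hprodV : ∏ v, β v = β v0 * P := by
    rw [hP, ← Finset.mul_prod_erase Finset.univ β (Finset.mem_univ v0)]
    congr 1
    rw [Finset.prod_subtype (Finset.univ.erase v0) (p := fun v => v ≠ v0) (by intro x; simp)]
  have hβq : ∀ v, (β v : ℚ) ≠ 0 := fun v => by exact_mod_cast (hβpos v).ne'
  have hS' : (S : ℚ) = ∑ T ∈ Finset.univ.powerset.filter
      (fun T : Finset E => IsSpanningTree ends T), ∏ v, (β v : ℚ) ^ (nbrCount ends T v) := by
    rw [hS]
    push_cast
    apply Finset.sum_congr rfl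
    intro T hT
    have hTree := (Finset.mem_filter.mp hT).2
    have h6 : ∀ v, endCount ends T v = nbrCount ends T v :=
      endCount_eq_nbrCount ends T hTree.2
    have h7 : ((∏ e ∈ T, (β (ends e).1 * β (ends e).2) : ℤ) : ℚ) =
        ((∏ v, β v ^ endCount ends T v : ℤ) : ℚ) := by
      rw [prod_edges_eq ends β T]
    push_cast at h7
    rw [h7]
    apply Finset.prod_congr rfl
    intro v _
    rw [h6 v]
  have h8 : ∀ T : Finset E, ∏ v, (β v : ℚ) ^ ((nbrCount ends T v : ℤ) - 2) =
      (∏ v, (β v : ℚ) ^ (nbrCount ends T v)) * ((∏ v, (β v : ℚ)) ^ 2)⁻¹ := by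
    intro T
    rw [← Finset.prod_pow, ← Finset.prod_inv_distrib, ← Finset.prod_mul_distrib]
    apply Finset.prod_congr rfl
    intro v _
    rw [zpow_sub₀ (hβq v), zpow_natCast, div_eq_mul_inv]
    norm_cast
  simp only [h8]
  rw [← Finset.sum_mul, ← hS']
  have e4 : ((d.natAbs : ℤ) : ℚ) * ((c v0 : ℚ) ^ 2 * (P : ℚ) ^ 2) = (S : ℚ) := by
    exact_mod_cast e3
  rw [h_card]
  have hprodq : (∏ v, (β v : ℚ)) = (m : ℚ) * (c v0 : ℚ) * (P : ℚ) := by
    have := hprodV
    rw [hc v0] at this
    exact_mod_cast this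
  rw [hprodq, ← e4]
  have hc0 : (c v0 : ℚ) ≠ 0 := by
    intro h
    have := hβq v0
    rw [hc v0] at this
    push_cast at this
    rw [h, mul_zero] at this
    exact this rfl
  have hP0 : (P : ℚ) ≠ 0 := by
    rw [hP]
    push_cast
    exact Finset.prod_ne_zero_iff.mpr (fun w _ => hβq w.1)
  have hmq : (m : ℚ) ≠ 0 := by exact_mod_cast hm0
  push_cast
  field_simp
  rw [Nat.cast_natAbs, Int.cast_abs]

end final

end Groth.Agent.MTree9
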