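import Mathlib
import Groth.Agent.Lib.MTree1_helper9

set_option autoImplicit false

namespace Groth.Agent.MTree9

open LabGraph

universe u

section cyc

variable {V E : Type u} [Fintype V] [Fintype E] [DecidableEq V] [DecidableEq E]
variable (ends : E → V × V) (v0 : V)

omit [Fintype E] [DecidableEq E] in
theorem sum_inc_mul (R : Type*) [CommRing R] (e : E) (ϕ : V → R) (h0 : ϕ v0 = 0) :
    ∑ w : {v : V // v ≠ v0}, inc R ends e w.1 * ϕ w.1 = ϕ (ends e).1 - ϕ (ends e).2 := by
  have h1 : ∑ w : {v : V // v ≠ v0}, inc R ends e w.1 * ϕ w.1 =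
      ∑ x ∈ Finset.univ.erase v0, inc R ends e x * ϕ x := by
    rw [Finset.sum_subtype (Finset.univ.erase v0) (p := fun v => v ≠ v0) (by intro x; simp)]
  rw [h1, Finset.sum_erase _ (by rw [h0, mul_zero])]
  simp only [inc, sub_mul, Finset.sum_sub_distrib, ite_mul, one_mul, zero_mul,
    Finset.sum_ite_eq, Finset.mem_univ, if_true]

theorem connected_of_rbd_surjective (h : Function.Surjective (rbd (ZMod 2) ends v0)) :
    Connected ends := by
  classical
  by_contra hG
  have h' : ∃ v w : V, ¬ Relation.ReflTransGen (Adj ends) v w := by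
    by_contra h2
    push Not at h2
    exact hG ⟨⟨v0⟩, h2⟩
  obtain ⟨a, c, hac⟩ := h'
  have hS : ∀ e, Relation.ReflTransGen (Adj ends) a (ends e).1 ↔
      Relation.ReflTransGen (Adj ends) a (ends e).2 := by
    intro e
    constructor
    · intro h; exact h.tail ⟨e, Or.inl rfl⟩
    · intro h; exact h.tail ⟨e, Or.inr rfl⟩
  obtain ⟨ϕ, hϕe, hϕ0, u, hu⟩ : ∃ ϕ : V → ZMod 2, (∀ e, ϕ (ends e).1 = ϕ (ends e).2) ∧
      ϕ v0 = 0 ∧ ∃ u, ϕ u ≠ 0 := by
    by_cases hv0 : Relation.ReflTransGen (Adj ends) a v0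
    · refine ⟨fun u => if Relation.ReflTransGen (Adj ends) a u then 0 else 1, ?_,
        by simp [hv0], c, by simp [hac]⟩
      intro e
      simp only [hS e]
    · refine ⟨fun u => if Relation.ReflTransGen (Adj ends) a u then 1 else 0, ?_,
        by simp [hv0], a, by simp [Relation.ReflTransGen.refl]⟩
      intro e
      simp only [hS e]
  have hu0 : u ≠ v0 := fun h => hu (h ▸ hϕ0)
  obtain ⟨γ, hγ⟩ := h (Pi.single ⟨u, hu0⟩ 1)
  have h1 : ∑ w : {v : V // v ≠ v0}, rbd (ZMod 2) ends v0 γ w * ϕ w.1 = 0 := by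
    simp only [rbd_apply, bd_apply, Finset.sum_mul]
    rw [Finset.sum_comm]
    apply Finset.sum_eq_zero
    intro e _
    simp only [mul_assoc]
    rw [← Finset.mul_sum, sum_inc_mul ends v0 (ZMod 2) e ϕ hϕ0, hϕe e, sub_self, mul_zero]
  rw [hγ, Finset.sum_eq_single ⟨u, hu0⟩] at h1
  · rw [Pi.single_eq_same, one_mul] at h1
    exact hu h1
  · intro w _ hw
    rw [Pi.single_eq_of_ne hw, zero_mul]
  · intro h
    exact absurd (Finset.mem_univ _) h

theorem rbd_subgraph (R : Type*) [CommRing R] (T : Finset E) (γ : E → R)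
    (hγ : ∀ e, e ∉ T → γ e = 0) :
    rbd R (fun e : T => ends e.1) v0 (fun e => γ e.1) = rbd R ends v0 γ := by
  funext w
  rw [rbd_apply, rbd_apply, bd_apply, bd_apply]
  rw [← Finset.sum_subset (Finset.subset_univ T) (fun e _ he => by rw [hγ e he, zero_mul])]
  exact Finset.sum_coe_sort T (fun e => γ e * inc R ends e w.1)

/-- surjectivity of the reduced boundary on vectors supported in `S` -/
def SurjOn (S : Finset E) : Prop :=
  ∀ y : {v : V // v ≠ v0} → ZMod 2, ∃ γ : E → ZMod 2,
    (∀ e, e ∉ S → γ e = 0) ∧ rbd (ZMod 2) ends v0 γ = y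

theorem surjOn_erase (S : Finset E) (hS : SurjOn ends v0 S) (γ₀ : E → ZMod 2)
    (h0 : ∀ e, e ∉ S → γ₀ e = 0) (hb : rbd (ZMod 2) ends v0 γ₀ = 0) (e : E) (he : γ₀ e ≠ 0) :
    SurjOn ends v0 (S.erase e) := by
  intro y
  obtain ⟨γ, hγS, hγ⟩ := hS y
  have he1 : γ₀ e = 1 := (zmod2_cases (γ₀ e)).resolve_left he
  refine ⟨γ + γ e • γ₀, ?_, ?_⟩
  · intro e' he'
    rw [Finset.mem_erase, not_and_or, not_not] at he'
    rcases he' with he' | he'
    · subst he'
      simp only [Pi.add_apply, Pi.smul_apply, smul_eq_mul, he1, mul_one]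
      exact CharTwo.add_self_eq_zero _
    · simp only [Pi.add_apply, Pi.smul_apply, smul_eq_mul, hγS e' he', h0 e' he', mul_zero,
        add_zero]
  · rw [map_add, map_smul, hb, smul_zero, add_zero, hγ]

theorem main14804 (hG : Connected ends) (v : V) :
    (∃ C : Finset E, IsCircuit ends C ∧ endCount ends C v ≠ 0) ↔
      ∃ T : Finset E, IsSpanningTree ends T ∧
        ∃ e : E, e ∉ T ∧ ((ends e).1 = v ∨ (ends e).2 = v) := by
  classical
  obtain ⟨v0⟩ := hG.1
  constructor
  · rintro ⟨C, hC, hv⟩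
    obtain ⟨e, heC, hev⟩ : ∃ e ∈ C, (ends e).1 = v ∨ (ends e).2 = v := by
      by_contra h
      push Not at h
      apply hv
      unfold endCount
      apply Finset.sum_eq_zero
      intro e he
      obtain ⟨h1, h2⟩ := h e he
      simp [h1, h2]
    have hC0 : bd (ZMod 2) ends (fun e => if e ∈ C then 1 else 0) = 0 := by
      funext x
      rw [bd_indicator, Pi.zero_apply, ZMod.natCast_eq_zero_iff_even]
      exact hC.2.1 x
    have hsurj_univ : SurjOn ends v0 Finset.univ := by
      intro y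
      obtain ⟨γ, hγ⟩ := rbd_surjective (ZMod 2) ends hG v0 y
      exact ⟨γ, fun e he => absurd (Finset.mem_univ e) he, hγ⟩
    have hsurj_e : SurjOn ends v0 (Finset.univ.erase e) :=
      surjOn_erase ends v0 _ hsurj_univ _ (fun e' he' => absurd (Finset.mem_univ e') he')
        (by rw [rbd, LinearMap.comp_apply, hC0, map_zero]) e (by simp [heC])
    obtain ⟨T, hTmem, hTmin⟩ := Finset.exists_min_image
      ((Finset.univ.erase e).powerset.filter (fun S => SurjOn ends v0 S)) Finset.card
      ⟨Finset.univ.erase e, by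
        rw [Finset.mem_filter, Finset.mem_powerset]
        exact ⟨Finset.Subset.refl _, hsurj_e⟩⟩
    rw [Finset.mem_filter, Finset.mem_powerset] at hTmem
    obtain ⟨hTsub, hTsurj⟩ := hTmem
    refine ⟨T, ?_, e, fun h => (Finset.mem_erase.mp (hTsub h)).1 rfl, hev⟩
    refine ⟨?_, ?_⟩
    · apply connected_of_rbd_surjective _ v0
      intro y
      obtain ⟨γ, hγT, hγ⟩ := hTsurj y
      exact ⟨fun e => γ e.1, by rw [rbd_subgraph ends v0 (ZMod 2) T γ hγT, hγ]⟩
    · rw [forest_iff, injective_iff_map_eq_zero]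
      intro γT hγT
      by_contra hne
      obtain ⟨e', he'⟩ : ∃ e', γT e' ≠ 0 := by
        by_contra h
        push Not at h
        exact hne (funext h)
      let γ₀ : E → ZMod 2 := fun x => if h : x ∈ T then γT ⟨x, h⟩ else 0
      have h0 : ∀ x, x ∉ T → γ₀ x = 0 := fun x hx => by simp only [γ₀, dif_neg hx]
      have hres : (fun x : T => γ₀ x.1) = γT := by
        funext x
        simp only [γ₀, dif_pos x.2]
      have hb : rbd (ZMod 2) ends v0 γ₀ = 0 := by
        rw [← rbd_subgraph ends v0 (ZMod 2) T γ₀ h0, hres, rbd, LinearMap.comp_apply, hγT,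
          map_zero]
      have he'' : γ₀ e'.1 ≠ 0 := by
        have h9 : γ₀ e'.1 = γT e' := congrFun hres e'
        rw [h9]
        exact he'
      have hnew := surjOn_erase ends v0 T hTsurj γ₀ h0 hb e'.1 he''
      have hcard := hTmin (T.erase e'.1) (by
        rw [Finset.mem_filter, Finset.mem_powerset]
        exact ⟨(Finset.erase_subset _ _).trans hTsub, hnew⟩)
      have := Finset.card_erase_lt_of_mem e'.2
      omega
  · rintro ⟨T, hT, e, heT, hev⟩
    have hconn : Connected (fun e : T => ends e.1) := hT.1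
    obtain ⟨γT, hγT⟩ := rbd_surjective (ZMod 2) _ hconn v0
      (rbd (ZMod 2) ends v0 (Pi.single e 1))
    let γ₀ : E → ZMod 2 := fun x => if h : x ∈ T then γT ⟨x, h⟩ else 0
    have h0 : ∀ x, x ∉ T → γ₀ x = 0 := fun x hx => by simp only [γ₀, dif_neg hx]
    have hres : (fun x : T => γ₀ x.1) = γT := by
      funext x
      simp only [γ₀, dif_pos x.2]
    have hb : rbd (ZMod 2) ends v0 (γ₀ + Pi.single e 1) = 0 := by
      rw [map_add, ← rbd_subgraph ends v0 (ZMod 2) T γ₀ h0, hres, hγT]
      funext w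
      exact CharTwo.add_self_eq_zero _
    have hbd := bd_eq_zero_of_rbd (ZMod 2) ends v0 _ hb
    obtain ⟨δ, hδ⟩ : ∃ δ, δ = γ₀ + Pi.single e 1 := ⟨_, rfl⟩
    rw [← hδ] at hbd
    have hδe : δ e = 1 := by
      rw [hδ, Pi.add_apply, h0 e heT, Pi.single_eq_same, zero_add]
    have hδ' : δ = fun x => if x ∈ Finset.univ.filter (fun x => δ x ≠ 0) then 1 else 0 := by
      funext x
      simp only [Finset.mem_filter, Finset.mem_univ, true_and]
      rcases zmod2_cases (δ x) with h | h
      · simp [h]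
      · simp [h]
    have hev' : ∀ x, Even (endCount ends (Finset.univ.filter (fun x => δ x ≠ 0)) x) := by
      intro x
      rw [← ZMod.natCast_eq_zero_iff_even, ← bd_indicator, ← hδ']
      exact congrFun hbd x
    obtain ⟨C, -, heC, hC⟩ := Groth.Agent.Lib.CartierLab_helper1.exists_circuit ends e _
      (by simp [hδe]) hev'
    refine ⟨C, hC, ?_⟩
    intro h
    unfold endCount at h
    have := (Finset.sum_eq_zero_iff.mp h) e heC
    rcases hev with h1 | h1 <;> simp [h1] at this

end cyc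

end Groth.Agent.MTree9
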