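import Mathlib
import Groth.Prelude.Def_W4c5modbuncurvesppStab
import Groth.Agent.Lib.MTree8_helper9

set_option autoImplicit false

namespace Groth.Agent.MTree9

open LabGraph PhiStab

universe u

section side

variable {V E : Type u} [Fintype V] [Fintype E] [DecidableEq V] [DecidableEq E]
variable (ends : E → V × V)

theorem bd_subgraph (R : Type*) [CommRing R] (T : Finset E) (γ : E → R)
    (hγ : ∀ e, e ∉ T → γ e = 0) :
    bd R (fun e : T => ends e.1) (fun e => γ e.1) = bd R ends γ := by
  funext w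
  rw [bd_apply, bd_apply]
  rw [← Finset.sum_subset (Finset.subset_univ T) (fun e _ he => by rw [hγ e he, zero_mul])]
  exact Finset.sum_coe_sort T (fun e => γ e * inc R ends e w)

omit [Fintype E] [DecidableEq E] in
theorem sum_inc_finset (R : Type*) [CommRing R] (S : Finset V) (e : E) :
    ∑ v ∈ S, inc R ends e v =
      (if (ends e).1 ∈ S then 1 else 0) - (if (ends e).2 ∈ S then 1 else 0) := by
  unfold inc
  rw [Finset.sum_sub_distrib, Finset.sum_ite_eq, Finset.sum_ite_eq]

theorem mem_side_iff (e : E) (v : V) :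
    v ∈ side ends e ↔
      Relation.ReflTransGen (Adj (spanEnds ends (Finset.univ.erase e))) (ends e).1 v := by
  classical
  unfold side
  rw [Finset.mem_filter]
  simp

theorem fst_mem_side (e : E) : (ends e).1 ∈ side ends e := by
  rw [mem_side_iff]

theorem side_edge_iff (e e' : E) (h : e' ≠ e) :
    (ends e').1 ∈ side ends e ↔ (ends e').2 ∈ side ends e := by
  have hmem : e' ∈ Finset.univ.erase e := Finset.mem_erase.mpr ⟨h, Finset.mem_univ _⟩
  rw [mem_side_iff, mem_side_iff]
  constructor
  · intro h1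
    exact h1.tail ⟨⟨e', hmem⟩, Or.inl rfl⟩
  · intro h1
    exact h1.tail ⟨⟨e', hmem⟩, Or.inr rfl⟩

theorem snd_notMem_side (hF : DualGr.IsForest ends) (e : E) : (ends e).2 ∉ side ends e := by
  intro h
  rw [mem_side_iff] at h
  obtain ⟨γ', hγ'⟩ := exists_bd_eq_of_reach (ZMod 2) (spanEnds ends (Finset.univ.erase e))
    (ends e).1 (ends e).2 h
  let γ : E → ZMod 2 := fun x => if h : x ∈ Finset.univ.erase e then γ' ⟨x, h⟩ else 0
  have h0 : ∀ x, x ∉ Finset.univ.erase e → γ x = 0 := fun x hx => by simp only [γ, dif_neg hx]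
  have hres : (fun x : (Finset.univ.erase e : Finset E) => γ x.1) = γ' := by
    funext x
    simp only [γ, dif_pos x.2]
  have hb : bd (ZMod 2) ends γ = bd (ZMod 2) (spanEnds ends (Finset.univ.erase e)) γ' := by
    rw [← bd_subgraph ends (ZMod 2) (Finset.univ.erase e) γ h0, hres]
    rfl
  have hγe : γ e = 0 := h0 e (by simp)
  rw [forest_iff] at hF
  have hzero : bd (ZMod 2) ends (γ + Pi.single e 1) = 0 := by
    funext x
    rw [map_add, Pi.add_apply, hb, hγ', bd_single, one_mul, inc, Pi.zero_apply]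
    ring
  have := congrFun (hF (hzero.trans (map_zero _).symm)) e
  rw [Pi.add_apply, hγe, Pi.single_eq_same, zero_add, Pi.zero_apply] at this
  exact absurd this (by decide)

theorem side_sum_bd (hF : DualGr.IsForest ends) (γ : E → ℝ) (e : E) :
    ∑ v ∈ side ends e, bd ℝ ends γ v = γ e := by
  simp only [bd_apply]
  rw [Finset.sum_comm]
  simp only [← Finset.mul_sum, sum_inc_finset]
  rw [Finset.sum_eq_single e]
  · rw [if_pos (fst_mem_side ends e), if_neg (snd_notMem_side ends hF e), sub_zero, mul_one]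
  · intro e' _ he'
    by_cases h1 : (ends e').1 ∈ side ends e
    · rw [if_pos h1, if_pos ((side_edge_iff ends e e' he').mp h1), sub_self, mul_zero]
    · rw [if_neg h1, if_neg (fun h2 => h1 ((side_edge_iff ends e e' he').mpr h2)), sub_self,
        mul_zero]
  · intro h
    exact absurd (Finset.mem_univ _) h

theorem exists_bd_eq (hG : Connected ends) (φ : V → ℝ) (hφ : ∑ v, φ v = 0) :
    ∃ γ : E → ℝ, bd ℝ ends γ = φ := by
  obtain ⟨v0⟩ := hG.1
  obtain ⟨γ, hγ⟩ := rbd_surjective ℝ ends hG v0 (fun w => φ w.1)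
  refine ⟨γ, ?_⟩
  have h1 : ∀ v, v ≠ v0 → bd ℝ ends γ v = φ v := fun v hv => congrFun hγ ⟨v, hv⟩
  funext v
  by_cases hv : v = v0
  · subst hv
    have h2 : ∑ x, (bd ℝ ends γ x - φ x) = 0 := by
      rw [Finset.sum_sub_distrib, sum_bd, hφ, sub_zero]
    rw [Finset.sum_eq_single v (fun x _ hx => by rw [h1 x hx, sub_self])
      (fun h => absurd (Finset.mem_univ _) h)] at h2
    exact sub_eq_zero.mp h2
  · exact h1 v hv

theorem main18382 (hT : DualGr.IsTree ends) (c : E → ℝ) (c₀ : ℝ) :
    ∃! φ : V → ℝ, (∀ e : E, (∑ v ∈ side ends e, φ v) = c e) ∧ (∑ v : V, φ v) = c₀ := by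
  obtain ⟨hG, hF⟩ := hT
  obtain ⟨v0⟩ := hG.1
  let Λ : (V → ℝ) →ₗ[ℝ] (E → ℝ) × ℝ :=
    { toFun := fun φ => (fun e => ∑ v ∈ side ends e, φ v, ∑ v, φ v)
      map_add' := by
        intro φ ψ
        ext
        · simp [Finset.sum_add_distrib]
        · simp [Finset.sum_add_distrib]
      map_smul' := by
        intro a φ
        ext
        · simp [Finset.mul_sum]
        · simp [Finset.mul_sum] }
  have hinj : Function.Injective Λ := by
    rw [injective_iff_map_eq_zero]
    intro φ hφ
    have h1 : ∀ e, ∑ v ∈ side ends e, φ v = 0 := fun e => congrFun (congrArg Prod.fst hφ) e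
    have h2 : ∑ v, φ v = 0 := congrArg Prod.snd hφ
    obtain ⟨γ, hγ⟩ := exists_bd_eq ends hG φ h2
    have h3 : γ = 0 := by
      funext e
      rw [← side_sum_bd ends hF γ e, hγ, h1 e]
      rfl
    rw [← hγ, h3, map_zero]
  have hcard : Fintype.card E + 1 = Fintype.card V := by
    have h1 := ((tree_iff ends v0).mp ⟨hG, hF⟩).2
    have h2 : Fintype.card {v : V // v ≠ v0} = Fintype.card V - 1 := by
      have := Fintype.card_subtype_compl (fun v : V => v = v0)
      rw [Fintype.card_subtype_eq] at this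
      exact this
    have h3 : 0 < Fintype.card V := Fintype.card_pos_iff.mpr ⟨v0⟩
    omega
  have hsurj : Function.Surjective Λ := by
    apply (LinearMap.injective_iff_surjective_of_finrank_eq_finrank ?_).mp hinj
    rw [Module.finrank_prod, Module.finrank_fintype_fun_eq_card, Module.finrank_fintype_fun_eq_card,
      Module.finrank_self, hcard]
  obtain ⟨φ, hφ⟩ := hsurj (c, c₀)
  refine ⟨φ, ⟨fun e => congrFun (congrArg Prod.fst hφ) e, congrArg Prod.snd hφ⟩, ?_⟩
  rintro ψ ⟨h1, h2⟩
  apply hinj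
  rw [hφ]
  exact Prod.ext (funext h1) h2

end side

end Groth.Agent.MTree9
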