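import Mathlib
import Groth.Prelude.Def_CohCx

/-!
# Mayer–Vietoris for objects of the derived category of abelian sheaves
-/

set_option autoImplicit false
universe u
open CategoryTheory Limits Opposite Abelian Pretriangulated

namespace Groth.Agent.Lib.MVDer

lemma exact_mk₂_ofHom {A B C : Type u} [AddCommGroup A] [AddCommGroup B] [AddCommGroup C]
    (φ : A →+ B) (ψ : B →+ C) (h0 : ∀ a, ψ (φ a) = 0) (h1 : ∀ b, ψ b = 0 → ∃ a, φ a = b) :
    (ComposableArrows.mk₂ (AddCommGrpCat.ofHom φ) (AddCommGrpCat.ofHom ψ)).Exact := by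
  refine ComposableArrows.exact₂_mk _ (by
    change AddCommGrpCat.ofHom φ ≫ AddCommGrpCat.ofHom ψ = 0
    ext a
    exact h0 a) ?_
  rw [ShortComplex.ab_exact_iff]
  intro b hb
  exact h1 b hb

variable {C : Type u} [SmallCategory C] {J : GrothendieckTopology C}
  [HasWeakSheafify J (Type u)] [HasDerivedCategory.{u} (Sheaf J AddCommGrpCat.{u})]
  (S : J.MayerVietorisSquare) (K : DerivedCategory (Sheaf J AddCommGrpCat.{u}))

/-- the single functor -/
noncomputable abbrev sg : Sheaf J AddCommGrpCat.{u} ⥤ DerivedCategory (Sheaf J AddCommGrpCat.{u}) :=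
  DerivedCategory.singleFunctor (Sheaf J AddCommGrpCat.{u}) 0

/-- the middle term -/
noncomputable abbrev B : Sheaf J AddCommGrpCat.{u} :=
  CohCx.freeSheaf J S.X₂ ⊞ CohCx.freeSheaf J S.X₃

/-- the first map -/
noncomputable abbrev f' : CohCx.freeSheaf J S.X₁ ⟶ B S :=
  biprod.lift (CohCx.freeSheafMap J S.f₁₂) (-(CohCx.freeSheafMap J S.f₁₃))

/-- the second map -/
noncomputable abbrev g' : B S ⟶ CohCx.freeSheaf J S.X₄ :=
  biprod.desc (CohCx.freeSheafMap J S.f₂₄) (CohCx.freeSheafMap J S.f₃₄)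

/-- the third map -/
noncomputable abbrev δ' : (sg (J := J)).obj (CohCx.freeSheaf J S.X₄) ⟶
    ((sg (J := J)).obj (CohCx.freeSheaf J S.X₁))⟦(1 : ℤ)⟧ :=
  ShortComplex.ShortExact.singleδ S.shortComplex_shortExact

/-- the Mayer–Vietoris triangle -/
noncomputable abbrev T : Triangle (DerivedCategory (Sheaf J AddCommGrpCat.{u})) :=
  Triangle.mk ((sg (J := J)).map (f' S)) ((sg (J := J)).map (g' S)) (δ' S)

lemma hT : T S ∈ distTriang (DerivedCategory (Sheaf J AddCommGrpCat.{u})) :=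
  ShortComplex.ShortExact.singleTriangle_distinguished S.shortComplex_shortExact

lemma f'_g' : (sg (J := J)).map (f' S) ≫ (sg (J := J)).map (g' S) = 0 :=
  comp_distTriang_mor_zero₁₂ _ (hT S)

lemma g'_δ' : (sg (J := J)).map (g' S) ≫ δ' S = 0 :=
  comp_distTriang_mor_zero₂₃ _ (hT S)

lemma δ'_f' : δ' S ≫ ((sg (J := J)).map (f' S))⟦(1 : ℤ)⟧' = 0 :=
  comp_distTriang_mor_zero₃₁ _ (hT S)

/-- `K⟦n⟧⟦1⟧ ≅ K⟦n+1⟧` -/
noncomputable abbrev e (n : ℤ) :
    ((shiftFunctor (DerivedCategory (Sheaf J AddCommGrpCat.{u})) n).obj K)⟦(1 : ℤ)⟧ ≅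
      (shiftFunctor (DerivedCategory (Sheaf J AddCommGrpCat.{u})) (n + 1)).obj K :=
  ((shiftFunctorAdd' (DerivedCategory (Sheaf J AddCommGrpCat.{u})) n 1 (n + 1) rfl).app K).symm

/-- the connecting homomorphism -/
noncomputable def δ (n : ℤ) : CohCx.HDU K n S.X₁ →+ CohCx.HDU K (n + 1) S.X₄ :=
  (Preadditive.leftComp _ (δ' S)).comp
    ((Preadditive.rightComp _ (e K n).hom).comp
      (shiftFunctor (DerivedCategory (Sheaf J AddCommGrpCat.{u})) (1 : ℤ)).mapAddHom)

lemma δ_apply (n : ℤ) (x : CohCx.HDU K n S.X₁) :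
    δ S K n x = δ' S ≫ x⟦(1 : ℤ)⟧' ≫ (e K n).hom := rfl

/-- a map out of the middle term with given components -/
noncomputable def mid {n : ℤ} (a : CohCx.HDU K n S.X₂) (b : CohCx.HDU K n S.X₃) :
    (sg (J := J)).obj (B S) ⟶
      (shiftFunctor (DerivedCategory (Sheaf J AddCommGrpCat.{u})) n).obj K :=
  (sg (J := J)).map biprod.fst ≫ a + (sg (J := J)).map biprod.snd ≫ b

lemma inl_mid {n : ℤ} (a : CohCx.HDU K n S.X₂) (b : CohCx.HDU K n S.X₃) :
    (sg (J := J)).map biprod.inl ≫ mid S K a b = a := by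
  simp only [mid, Preadditive.comp_add, ← Category.assoc, ← Functor.map_comp, biprod.inl_fst,
    biprod.inl_snd, Functor.map_zero, zero_comp, add_zero, CategoryTheory.Functor.map_id,
    Category.id_comp]

lemma inr_mid {n : ℤ} (a : CohCx.HDU K n S.X₂) (b : CohCx.HDU K n S.X₃) :
    (sg (J := J)).map biprod.inr ≫ mid S K a b = b := by
  simp only [mid, Preadditive.comp_add, ← Category.assoc, ← Functor.map_comp, biprod.inr_fst,
    biprod.inr_snd, Functor.map_zero, zero_comp, zero_add, CategoryTheory.Functor.map_id,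
    Category.id_comp]

lemma mid_eq {n : ℤ} (g : (sg (J := J)).obj (B S) ⟶
    (shiftFunctor (DerivedCategory (Sheaf J AddCommGrpCat.{u})) n).obj K) :
    g = mid S K ((sg (J := J)).map biprod.inl ≫ g) ((sg (J := J)).map biprod.inr ≫ g) := by
  simp only [mid, ← Category.assoc, ← Functor.map_comp, ← Preadditive.add_comp,
    ← Functor.map_add, biprod.total, CategoryTheory.Functor.map_id, Category.id_comp]

lemma mor₁_mid {n : ℤ} (a : CohCx.HDU K n S.X₂) (b : CohCx.HDU K n S.X₃) :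
    (sg (J := J)).map (f' S) ≫ mid S K a b =
      CohCx.HDUres K n S.f₁₂ a - CohCx.HDUres K n S.f₁₃ b := by
  change _ = (sg (J := J)).map (CohCx.freeSheafMap J S.f₁₂) ≫ a -
    (sg (J := J)).map (CohCx.freeSheafMap J S.f₁₃) ≫ b
  simp only [mid, Preadditive.comp_add, ← Category.assoc, ← Functor.map_comp,
    biprod.lift_fst, biprod.lift_snd, Functor.map_neg, Preadditive.neg_comp, sub_eq_add_neg]

lemma inl_mor₂ : (sg (J := J)).map biprod.inl ≫ (sg (J := J)).map (g' S) =
    (sg (J := J)).map (CohCx.freeSheafMap J S.f₂₄) := by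
  rw [← Functor.map_comp, biprod.inl_desc]

lemma inr_mor₂ : (sg (J := J)).map biprod.inr ≫ (sg (J := J)).map (g' S) =
    (sg (J := J)).map (CohCx.freeSheafMap J S.f₃₄) := by
  rw [← Functor.map_comp, biprod.inr_desc]

/-- S0876 -/
theorem mayerVietoris :
    ∃ δ : ∀ n : ℤ, CohCx.HDU K n S.X₁ →+ CohCx.HDU K (n + 1) S.X₄,
      ∀ n : ℤ,
        (ComposableArrows.mk₂
          (AddCommGrpCat.ofHom ((CohCx.HDUres K n S.f₂₄).prod (CohCx.HDUres K n S.f₃₄)))
          (AddCommGrpCat.ofHom ((CohCx.HDUres K n S.f₁₂).coprod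
            (-(CohCx.HDUres K n S.f₁₃))))).Exact ∧
        (ComposableArrows.mk₂
          (AddCommGrpCat.ofHom ((CohCx.HDUres K n S.f₁₂).coprod (-(CohCx.HDUres K n S.f₁₃))))
          (AddCommGrpCat.ofHom (δ n))).Exact ∧
        (ComposableArrows.mk₂ (AddCommGrpCat.ofHom (δ n))
          (AddCommGrpCat.ofHom ((CohCx.HDUres K (n + 1) S.f₂₄).prod
            (CohCx.HDUres K (n + 1) S.f₃₄)))).Exact := by
  refine ⟨δ S K, fun n => ⟨?_, ?_, ?_⟩⟩
  · apply exact_mk₂_ofHom
    · intro c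
      change CohCx.HDUres K n S.f₁₂ (CohCx.HDUres K n S.f₂₄ c) +
        (-(CohCx.HDUres K n S.f₁₃)) (CohCx.HDUres K n S.f₃₄ c) = 0
      have h3 := mor₁_mid S K (CohCx.HDUres K n S.f₂₄ c) (CohCx.HDUres K n S.f₃₄ c)
      have h4 : mid S K (CohCx.HDUres K n S.f₂₄ c) (CohCx.HDUres K n S.f₃₄ c) =
          (sg (J := J)).map (g' S) ≫ c := by
        rw [mid_eq S K ((sg (J := J)).map (g' S) ≫ c), ← Category.assoc, ← Category.assoc,
          inl_mor₂, inr_mor₂]
        rfl
      rw [h4, ← Category.assoc, f'_g', zero_comp] at h3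
      rw [AddMonoidHom.neg_apply, ← sub_eq_add_neg]
      exact h3.symm
    · rintro ⟨a, b⟩ hab
      have hab' : CohCx.HDUres K n S.f₁₂ a - CohCx.HDUres K n S.f₁₃ b = 0 := by
        rw [sub_eq_add_neg]
        exact hab
      obtain ⟨c, hc⟩ := Triangle.yoneda_exact₂ _ (hT S) (mid S K a b) (by
        change (sg (J := J)).map (f' S) ≫ _ = 0
        rw [mor₁_mid, hab'])
      replace hc : mid S K a b = (sg (J := J)).map (g' S) ≫ c := hc
      refine ⟨c, ?_⟩
      refine Prod.ext ?_ ?_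
      · change (sg (J := J)).map (CohCx.freeSheafMap J S.f₂₄) ≫ c = a
        rw [← inl_mor₂, Category.assoc, ← hc, inl_mid]
      · change (sg (J := J)).map (CohCx.freeSheafMap J S.f₃₄) ≫ c = b
        rw [← inr_mor₂, Category.assoc, ← hc, inr_mid]
  · apply exact_mk₂_ofHom
    · rintro ⟨a, b⟩
      change δ S K n (CohCx.HDUres K n S.f₁₂ a + (-(CohCx.HDUres K n S.f₁₃)) b) = 0
      rw [AddMonoidHom.neg_apply, ← sub_eq_add_neg, ← mor₁_mid, δ_apply, Functor.map_comp,
        ← Category.assoc, ← Category.assoc, δ'_f', zero_comp, zero_comp]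
    · intro x hx
      rw [δ_apply] at hx
      obtain ⟨g, hg⟩ := Triangle.yoneda_exact₃ _ (rot_of_distTriang _ (hT S))
        (x⟦(1 : ℤ)⟧' ≫ (e K n).hom) hx
      replace hg : x⟦(1 : ℤ)⟧' ≫ (e K n).hom =
        (-((sg (J := J)).map (f' S))⟦(1 : ℤ)⟧') ≫ g := hg
      let g₀ : (sg (J := J)).obj (B S) ⟶
          (shiftFunctor (DerivedCategory (Sheaf J AddCommGrpCat.{u})) n).obj K :=
        (shiftFunctor (DerivedCategory (Sheaf J AddCommGrpCat.{u})) (1 : ℤ)).preimage
          (-(g ≫ (e K n).inv))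
      have hg₀ : g₀⟦(1 : ℤ)⟧' = -(g ≫ (e K n).inv) := Functor.map_preimage _ _
      have hx' : x = (sg (J := J)).map (f' S) ≫ g₀ := by
        apply (shiftFunctor (DerivedCategory (Sheaf J AddCommGrpCat.{u})) (1 : ℤ)).map_injective
        rw [Functor.map_comp, hg₀]
        have : x⟦(1 : ℤ)⟧' = (x⟦(1 : ℤ)⟧' ≫ (e K n).hom) ≫ (e K n).inv := by
          rw [Category.assoc, Iso.hom_inv_id, Category.comp_id]
        rw [this, hg]
        simp only [Preadditive.neg_comp, Category.assoc]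
        exact (Preadditive.comp_neg _ _).symm
      refine ⟨⟨(sg (J := J)).map biprod.inl ≫ g₀, (sg (J := J)).map biprod.inr ≫ g₀⟩, ?_⟩
      change CohCx.HDUres K n S.f₁₂ ((sg (J := J)).map biprod.inl ≫ g₀) +
        (-(CohCx.HDUres K n S.f₁₃)) ((sg (J := J)).map biprod.inr ≫ g₀) = x
      rw [AddMonoidHom.neg_apply, ← sub_eq_add_neg, ← mor₁_mid, ← mid_eq, hx']
  · apply exact_mk₂_ofHom
    · intro x
      refine Prod.ext ?_ ?_
      · change (sg (J := J)).map (CohCx.freeSheafMap J S.f₂₄) ≫ δ S K n x = 0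
        rw [← inl_mor₂, Category.assoc, δ_apply, ← Category.assoc ((sg (J := J)).map (g' S)),
          g'_δ', zero_comp, comp_zero]
      · change (sg (J := J)).map (CohCx.freeSheafMap J S.f₃₄) ≫ δ S K n x = 0
        rw [← inr_mor₂, Category.assoc, δ_apply, ← Category.assoc ((sg (J := J)).map (g' S)),
          g'_δ', zero_comp, comp_zero]
    · intro y hy
      have hy1 : (sg (J := J)).map (CohCx.freeSheafMap J S.f₂₄) ≫ y = 0 := congrArg Prod.fst hy
      have hy2 : (sg (J := J)).map (CohCx.freeSheafMap J S.f₃₄) ≫ y = 0 := congrArg Prod.snd hy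
      have hy3 : (sg (J := J)).map (g' S) ≫ y = 0 := by
        rw [mid_eq S K ((sg (J := J)).map (g' S) ≫ y), ← Category.assoc, ← Category.assoc,
          inl_mor₂, inr_mor₂, hy1, hy2]
        simp [mid]
      obtain ⟨g, hg⟩ := Triangle.yoneda_exact₃ _ (hT S) y hy3
      replace hg : y = δ' S ≫ g := hg
      refine ⟨(shiftFunctor (DerivedCategory (Sheaf J AddCommGrpCat.{u})) (1 : ℤ)).preimage
        (g ≫ (e K n).inv), ?_⟩
      rw [δ_apply, Functor.map_preimage, Category.assoc, Iso.inv_hom_id, Category.comp_id, hg]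

end Groth.Agent.Lib.MVDer
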