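import Mathlib
import Groth.Prelude.Def_LocCohZ

set_option autoImplicit false
set_option linter.unusedSimpArgs false
set_option linter.unusedVariables false
set_option linter.unusedSectionVars false
set_option linter.style.longLine false
set_option linter.unnecessarySimpa false
set_option linter.deprecated false
set_option linter.style.haveILetI false
set_option maxHeartbeats 1600000
set_option backward.isDefEq.respectTransparency false
set_option backward.isDefEq.respectTransparency.types false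
set_option backward.defeqAttrib.useBackward true

open CategoryTheory CategoryTheory.Limits Opposite TopologicalSpace

universe u v w

noncomputable section

namespace Groth.Agent.Lib.MVLocL

/-! ### An exactness criterion through injective objects -/

section Criterion

variable {C : Type*} [Category C] [Abelian C] [EnoughInjectives C]

lemma mono_of_injective_extension {A B : C} (f : A ⟶ B)
    (h : ∀ (I : C) [Injective I] (φ : A ⟶ I), ∃ ψ : B ⟶ I, f ≫ ψ = φ) : Mono f := by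
  apply Preadditive.mono_of_kernel_zero
  let j := Injective.ι (kernel f)
  let φ : A ⟶ Injective.under (kernel f) := Injective.factorThru j (kernel.ι f)
  have hφ : kernel.ι f ≫ φ = j := Injective.comp_factorThru j (kernel.ι f)
  obtain ⟨ψ, hψ⟩ := h _ φ
  have hj : j = 0 := by
    rw [← hφ, ← hψ, ← Category.assoc, kernel.condition, zero_comp]
  have h1 : 𝟙 (kernel f) = 0 := by
    rw [← cancel_mono j, hj]; simp
  rw [← Category.id_comp (kernel.ι f), h1, zero_comp]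

lemma shortExact_of_injective_test {S : ShortComplex C} [Epi S.g]
    (h1 : ∀ (I : C) [Injective I] (φ : S.X₁ ⟶ I), ∃ ψ : S.X₂ ⟶ I, S.f ≫ ψ = φ)
    (h2 : ∀ (I : C) [Injective I] (ψ : S.X₂ ⟶ I), S.f ≫ ψ = 0 →
      ∃ θ : S.X₃ ⟶ I, S.g ≫ θ = ψ) :
    S.ShortExact := by
  haveI : Mono S.f := mono_of_injective_extension S.f h1
  have hex : S.Exact := by
    rw [S.exact_iff_mono_cokernel_desc]
    set γ := cokernel.desc S.f S.g S.zero with hγ
    apply Preadditive.mono_of_kernel_zero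
    let j := Injective.ι (kernel γ)
    let χ : cokernel S.f ⟶ Injective.under (kernel γ) := Injective.factorThru j (kernel.ι γ)
    have hχ : kernel.ι γ ≫ χ = j := Injective.comp_factorThru j (kernel.ι γ)
    obtain ⟨θ, hθ⟩ := h2 _ (cokernel.π S.f ≫ χ) (by rw [← Category.assoc, cokernel.condition, zero_comp])
    have h3 : γ ≫ θ = χ := by
      have h5 : cokernel.π S.f ≫ γ = S.g := cokernel.π_desc _ _ _
      rw [← cancel_epi (cokernel.π S.f), ← Category.assoc, h5, hθ]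
    have hj : j = 0 := by
      rw [← hχ, ← h3, ← Category.assoc, kernel.condition, zero_comp]
    have h4 : 𝟙 (kernel γ) = 0 := by
      rw [← cancel_mono j, hj]; simp
    rw [← Category.id_comp (kernel.ι γ), h4, zero_comp]
  exact { exact := hex }

end Criterion

/-! ### Ext out of a biproduct -/

section ExtBiprod

variable {C : Type u} [Category.{v} C] [Abelian C] [HasExt.{w} C]

open Abelian

lemma ext_decomp {A B Y : C} {n : ℕ} (z : Ext.{w} (A ⊞ B) Y n) :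
    z = (Ext.mk₀ biprod.fst).comp ((Ext.mk₀ biprod.inl).comp z (zero_add n)) (zero_add n)
      + (Ext.mk₀ biprod.snd).comp ((Ext.mk₀ biprod.inr).comp z (zero_add n)) (zero_add n) := by
  rw [Ext.mk₀_comp_mk₀_assoc, Ext.mk₀_comp_mk₀_assoc, ← Ext.add_comp, ← Ext.mk₀_add,
    biprod.total, Ext.mk₀_id_comp]

lemma ext_inl_pair {A B Y : C} {n : ℕ} (y₁ : Ext.{w} A Y n) (y₂ : Ext.{w} B Y n) :
    (Ext.mk₀ biprod.inl).comp ((Ext.mk₀ biprod.fst).comp y₁ (zero_add n)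
      + (Ext.mk₀ biprod.snd).comp y₂ (zero_add n)) (zero_add n) = y₁ := by
  rw [Ext.comp_add, Ext.mk₀_comp_mk₀_assoc, Ext.mk₀_comp_mk₀_assoc, biprod.inl_fst,
    biprod.inl_snd, Ext.mk₀_id_comp, Ext.mk₀_zero, Ext.zero_comp, add_zero]

lemma ext_inr_pair {A B Y : C} {n : ℕ} (y₁ : Ext.{w} A Y n) (y₂ : Ext.{w} B Y n) :
    (Ext.mk₀ biprod.inr).comp ((Ext.mk₀ biprod.fst).comp y₁ (zero_add n)
      + (Ext.mk₀ biprod.snd).comp y₂ (zero_add n)) (zero_add n) = y₂ := by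
  rw [Ext.comp_add, Ext.mk₀_comp_mk₀_assoc, Ext.mk₀_comp_mk₀_assoc, biprod.inr_fst,
    biprod.inr_snd, Ext.mk₀_id_comp, Ext.mk₀_zero, Ext.zero_comp, zero_add]

end ExtBiprod

/-! ### Sheaves on a space -/

section Sheaf

variable {X : TopCat.{u}}

abbrev JX (X : TopCat.{u}) : GrothendieckTopology (Opens X) := Opens.grothendieckTopology X

abbrev incl (W : Opens X) :
    CohCx.freeSheaf (JX X) W ⟶ CohCx.freeSheaf (JX X) (⊤ : Opens X) :=
  CohCx.freeSheafMap (JX X) (homOfLE (le_top : W ≤ ⊤))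

abbrev Q (W : Opens X) : CohTop.Ab X := LocCohZ.zq (le_top : W ≤ ⊤)

abbrev pq (W : Opens X) : CohCx.freeSheaf (JX X) (⊤ : Opens X) ⟶ Q W := cokernel.π (incl W)

abbrev mq {W' W : Opens X} (h : W' ≤ W) : Q W' ⟶ Q W :=
  LocCohZ.zqMap (le_top : W ≤ ⊤) (le_top : W' ≤ ⊤) h le_rfl

lemma pq_mq {W' W : Opens X} (h : W' ≤ W) : pq W' ≫ mq h = pq W := by
  have h1 : pq W' ≫ mq h =
      CohCx.freeSheafMap (JX X) (homOfLE (le_rfl : (⊤ : Opens X) ≤ ⊤)) ≫ pq W := by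
    show cokernel.π _ ≫ LocCohZ.zqMap _ _ h le_rfl = _
    unfold LocCohZ.zqMap
    exact cokernel.π_desc _ _ _
  rw [h1]
  have h2 : (homOfLE (le_rfl : (⊤ : Opens X) ≤ ⊤)) = 𝟙 _ := Subsingleton.elim _ _
  rw [h2, CohFree.freeSheafMap_id, Category.id_comp]

lemma mq_comp {A B C : Opens X} (h1 : A ≤ B) (h2 : B ≤ C) :
    mq h1 ≫ mq h2 = mq (h1.trans h2) := by
  rw [← cancel_epi (pq A), ← Category.assoc, pq_mq, pq_mq, pq_mq]

instance epi_mq {A B : Opens X} (h : A ≤ B) : Epi (mq h) := epi_of_epi_fac (pq_mq h)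

def Φ (W : Opens X) (F : CohTop.Ab X) (φ : Q W ⟶ F) : F.obj.obj (op (⊤ : Opens X)) :=
  CohFree.evalGen (JX X) ⊤ F (pq W ≫ φ)

lemma Φ_inj (W : Opens X) (F : CohTop.Ab X) {φ ψ : Q W ⟶ F} (h : Φ W F φ = Φ W F ψ) :
    φ = ψ := by
  have h1 : pq W ≫ φ = pq W ≫ ψ := (CohFree.homEquivSect (JX X) ⊤ F).injective h
  exact (cancel_epi (pq W)).1 h1

lemma Φ_add (W : Opens X) (F : CohTop.Ab X) (φ ψ : Q W ⟶ F) :
    Φ W F (φ + ψ) = Φ W F φ + Φ W F ψ := by
  unfold Φ; rw [Preadditive.comp_add, map_add]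

lemma Φ_neg (W : Opens X) (F : CohTop.Ab X) (φ : Q W ⟶ F) :
    Φ W F (-φ) = - Φ W F φ := by
  unfold Φ; rw [Preadditive.comp_neg, map_neg]

lemma Φ_mq {W' W : Opens X} (h : W' ≤ W) (F : CohTop.Ab X) (φ : Q W ⟶ F) :
    Φ W' F (mq h ≫ φ) = Φ W F φ := by
  unfold Φ; rw [← Category.assoc, pq_mq]

lemma Φ_res (W : Opens X) (F : CohTop.Ab X) (φ : Q W ⟶ F) :
    (F.obj.map (homOfLE (le_top : W ≤ ⊤)).op).hom (Φ W F φ) = 0 := by
  unfold Φ
  rw [← CohFree.evalGen_freeSheafMap_comp, ← Category.assoc]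
  have : incl W ≫ pq W = 0 := cokernel.condition _
  rw [this, zero_comp, map_zero]

lemma Φ_surj (W : Opens X) (F : CohTop.Ab X) (s : F.obj.obj (op (⊤ : Opens X)))
    (hs : (F.obj.map (homOfLE (le_top : W ≤ ⊤)).op).hom s = 0) :
    ∃ φ : Q W ⟶ F, Φ W F φ = s := by
  have h0 : incl W ≫ CohFree.ofSect (JX X) ⊤ F s = 0 := by
    apply (CohFree.homEquivSect (JX X) W F).injective
    rw [CohFree.homEquivSect_apply, CohFree.homEquivSect_apply,
      CohFree.evalGen_freeSheafMap_comp, CohFree.evalGen_ofSect, hs, map_zero]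
  refine ⟨cokernel.desc _ (CohFree.ofSect (JX X) ⊤ F s) h0, ?_⟩
  unfold Φ
  rw [cokernel.π_desc, CohFree.evalGen_ofSect]

lemma res_res (F : CohTop.Ab X) {A B C : Opens X} (h1 : A ≤ B) (h2 : B ≤ C)
    (s : F.obj.obj (op C)) :
    (F.obj.map (homOfLE h1).op).hom ((F.obj.map (homOfLE h2).op).hom s)
      = (F.obj.map (homOfLE (h1.trans h2)).op).hom s := by
  have : F.obj.map (homOfLE (h1.trans h2)).op
      = F.obj.map (homOfLE h2).op ≫ F.obj.map (homOfLE h1).op := by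
    rw [← F.obj.map_comp]; rfl
  rw [this]; rfl

lemma sep₂ (F : CohTop.Ab X) (U U' : Opens X) (s : F.obj.obj (op (U ⊔ U')))
    (h1 : (F.obj.map (homOfLE (le_sup_left : U ≤ U ⊔ U')).op).hom s = 0)
    (h2 : (F.obj.map (homOfLE (le_sup_right : U' ≤ U ⊔ U')).op).hom s = 0) : s = 0 := by
  refine TopCat.Sheaf.eq_of_locally_eq₂ F (homOfLE le_sup_left) (homOfLE le_sup_right)
    le_rfl s 0 ?_ ?_
  · rw [map_zero]; exact h1
  · rw [map_zero]; exact h2

lemma glue₂ (F : CohTop.Ab X) (U U' : Opens X) (s₁ : F.obj.obj (op U)) (s₂ : F.obj.obj (op U'))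
    (h : (F.obj.map (homOfLE (inf_le_left : U ⊓ U' ≤ U)).op).hom s₁
      = (F.obj.map (homOfLE (inf_le_right : U ⊓ U' ≤ U')).op).hom s₂) :
    ∃ s : F.obj.obj (op (U ⊔ U')),
      (F.obj.map (homOfLE (le_sup_left : U ≤ U ⊔ U')).op).hom s = s₁ ∧
      (F.obj.map (homOfLE (le_sup_right : U' ≤ U ⊔ U')).op).hom s = s₂ := by
  let Us : Bool → Opens X := fun t => cond t U U'
  let sf : ∀ t : Bool, ToType (F.1.obj (op (Us t))) := fun t =>
    Bool.rec (motive := fun t => ToType (F.1.obj (op (cond t U U')))) s₂ s₁ t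
  have hle : ∀ t, Us t ≤ U ⊔ U' := fun t => by
    cases t
    · exact le_sup_right
    · exact le_sup_left
  have e : U' ⊓ U ≤ U ⊓ U' := le_inf inf_le_right inf_le_left
  have hcomp : TopCat.Presheaf.IsCompatible F.1 Us sf := by
    intro i j
    cases i <;> cases j
    · show F.1.map (Opens.infLELeft U' U').op s₂ = F.1.map (Opens.infLERight U' U').op s₂
      rw [Subsingleton.elim (Opens.infLELeft U' U') (Opens.infLERight U' U')]
    · show (F.obj.map (homOfLE (inf_le_left : U' ⊓ U ≤ U')).op).hom s₂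
        = (F.obj.map (homOfLE (inf_le_right : U' ⊓ U ≤ U)).op).hom s₁
      have a1 := res_res F e (inf_le_right : U ⊓ U' ≤ U') s₂
      have a2 := res_res F e (inf_le_left : U ⊓ U' ≤ U) s₁
      rw [← h] at a1
      exact a1.symm.trans a2
    · show (F.obj.map (homOfLE (inf_le_left : U ⊓ U' ≤ U)).op).hom s₁
        = (F.obj.map (homOfLE (inf_le_right : U ⊓ U' ≤ U')).op).hom s₂
      exact h
    · show F.1.map (Opens.infLELeft U U).op s₁ = F.1.map (Opens.infLERight U U).op s₁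
      rw [Subsingleton.elim (Opens.infLELeft U U) (Opens.infLERight U U)]
  obtain ⟨s, hs, -⟩ := TopCat.Sheaf.existsUnique_gluing' F Us (U ⊔ U')
    (fun t => homOfLE (hle t)) (by
      rw [sup_le_iff]; exact ⟨le_iSup Us true, le_iSup Us false⟩) sf hcomp
  exact ⟨s, hs true, hs false⟩

lemma extend_of_injective (I : CohTop.Ab X) [Injective I] (V : Opens X)
    (s₀ : I.obj.obj (op V)) :
    ∃ s : I.obj.obj (op (⊤ : Opens X)),
      (I.obj.map (homOfLE (le_top : V ≤ ⊤)).op).hom s = s₀ := by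
  haveI : Mono (incl V) := inferInstance
  let ψ := Injective.factorThru (CohFree.ofSect (JX X) V I s₀) (incl V)
  have hψ : incl V ≫ ψ = CohFree.ofSect (JX X) V I s₀ := Injective.comp_factorThru _ _
  refine ⟨CohFree.evalGen (JX X) ⊤ I ψ, ?_⟩
  rw [← CohFree.evalGen_freeSheafMap_comp, hψ, CohFree.evalGen_ofSect]

/-! ### The Mayer–Vietoris short exact sequence -/

variable (U U' : Opens X)

abbrev fS : Q (U ⊓ U') ⟶ Q U ⊞ Q U' :=
  biprod.lift (mq (inf_le_left : U ⊓ U' ≤ U)) (-(mq (inf_le_right : U ⊓ U' ≤ U')))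

abbrev gS : Q U ⊞ Q U' ⟶ Q (U ⊔ U') :=
  biprod.desc (mq (le_sup_left : U ≤ U ⊔ U')) (mq (le_sup_right : U' ≤ U ⊔ U'))

lemma fS_gS : fS U U' ≫ gS U U' = 0 := by
  rw [biprod.lift_desc, Preadditive.neg_comp, mq_comp, mq_comp]
  exact add_neg_cancel _

def S : ShortComplex (CohTop.Ab X) := ShortComplex.mk (fS U U') (gS U U') (fS_gS U U')

instance epi_gS : Epi (gS U U') :=
  epi_of_epi_fac (f := biprod.inl) (biprod.inl_desc _ _)

instance : Epi (S U U').g := epi_gS U U'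

lemma fS_comp (F : CohTop.Ab X) (ψ₁ : Q U ⟶ F) (ψ₂ : Q U' ⟶ F) :
    fS U U' ≫ biprod.desc ψ₁ ψ₂
      = mq (inf_le_left : U ⊓ U' ≤ U) ≫ ψ₁ + -(mq (inf_le_right : U ⊓ U' ≤ U') ≫ ψ₂) := by
  rw [biprod.lift_desc, Preadditive.neg_comp]

lemma S_h2 (F : CohTop.Ab X) (ψ : Q U ⊞ Q U' ⟶ F) (h : fS U U' ≫ ψ = 0) :
    ∃ θ : Q (U ⊔ U') ⟶ F, gS U U' ≫ θ = ψ := by
  set ψ₁ : Q U ⟶ F := biprod.inl ≫ ψ with hψ₁
  set ψ₂ : Q U' ⟶ F := biprod.inr ≫ ψ with hψ₂
  have hψ : ψ = biprod.desc ψ₁ ψ₂ := by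
    apply biprod.hom_ext'
    · rw [biprod.inl_desc]
    · rw [biprod.inr_desc]
  have h1 : mq (inf_le_left : U ⊓ U' ≤ U) ≫ ψ₁ = mq (inf_le_right : U ⊓ U' ≤ U') ≫ ψ₂ := by
    have := h
    rw [hψ, fS_comp] at this
    exact add_neg_eq_zero.mp this
  have h2 : Φ U F ψ₁ = Φ U' F ψ₂ := by
    rw [← Φ_mq (inf_le_left : U ⊓ U' ≤ U) F ψ₁, h1, Φ_mq]
  set s := Φ U F ψ₁ with hs
  have hsU : (F.obj.map (homOfLE (le_top : U ≤ ⊤)).op).hom s = 0 := Φ_res U F ψ₁
  have hsU' : (F.obj.map (homOfLE (le_top : U' ≤ ⊤)).op).hom s = 0 := by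
    rw [h2]; exact Φ_res U' F ψ₂
  have hsV : (F.obj.map (homOfLE (le_top : U ⊔ U' ≤ ⊤)).op).hom s = 0 := by
    apply sep₂ F U U'
    · rw [res_res]; exact hsU
    · rw [res_res]; exact hsU'
  obtain ⟨θ, hθ⟩ := Φ_surj (U ⊔ U') F s hsV
  refine ⟨θ, ?_⟩
  rw [hψ]
  apply biprod.hom_ext'
  · rw [← Category.assoc, biprod.inl_desc, biprod.inl_desc]
    apply Φ_inj
    rw [Φ_mq, hθ]
  · rw [← Category.assoc, biprod.inr_desc, biprod.inr_desc]
    apply Φ_inj
    rw [Φ_mq, hθ, h2]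

lemma S_h1 (I : CohTop.Ab X) [Injective I] (φ : Q (U ⊓ U') ⟶ I) :
    ∃ ψ : Q U ⊞ Q U' ⟶ I, fS U U' ≫ ψ = φ := by
  set t := Φ (U ⊓ U') I φ with ht
  have htW : (I.obj.map (homOfLE (le_top : U ⊓ U' ≤ ⊤)).op).hom t = 0 := Φ_res _ I φ
  -- glue 0 on U and t|U' on U'
  obtain ⟨s₀, hs₀U, hs₀U'⟩ := glue₂ I U U' 0
    ((I.obj.map (homOfLE (le_top : U' ≤ ⊤)).op).hom t) (by
      rw [map_zero, res_res]; exact htW.symm)
  obtain ⟨s, hs⟩ := extend_of_injective I (U ⊔ U') s₀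
  have hsU : (I.obj.map (homOfLE (le_top : U ≤ ⊤)).op).hom s = 0 := by
    rw [← res_res I (le_sup_left : U ≤ U ⊔ U') le_top, hs, hs₀U]
  have hsU' : (I.obj.map (homOfLE (le_top : U' ≤ ⊤)).op).hom (s - t) = 0 := by
    rw [map_sub, ← res_res I (le_sup_right : U' ≤ U ⊔ U') le_top s, hs, hs₀U', sub_self]
  obtain ⟨ψ₁, hψ₁⟩ := Φ_surj U I s hsU
  obtain ⟨ψ₂, hψ₂⟩ := Φ_surj U' I (s - t) hsU'
  refine ⟨biprod.desc ψ₁ ψ₂, ?_⟩
  rw [fS_comp]
  apply Φ_inj
  rw [Φ_add, Φ_neg, Φ_mq, Φ_mq, hψ₁, hψ₂, ← ht]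
  abel

instance enoughInj : EnoughInjectives (CohTop.Ab X) := inferInstance

lemma S_shortExact : (S U U').ShortExact := by
  haveI : Epi (S U U').g := epi_gS U U'
  refine shortExact_of_injective_test (C := CohTop.Ab X) (S := S U U') ?_ ?_
  · intro I _ φ
    exact S_h1 U U' I φ
  · intro I _ ψ h
    exact S_h2 U U' I ψ h

/-! ### The long exact sequence -/

open Abelian

lemma f_pair (F : CohTop.Ab X) {i : ℕ} (y₁ : Ext.{u} (Q U) F i) (y₂ : Ext.{u} (Q U') F i) :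
    (Ext.mk₀ (fS U U')).comp ((Ext.mk₀ biprod.fst).comp y₁ (zero_add i)
      + (Ext.mk₀ biprod.snd).comp y₂ (zero_add i)) (zero_add i)
    = (Ext.mk₀ (mq (inf_le_left : U ⊓ U' ≤ U))).comp y₁ (zero_add i)
      - (Ext.mk₀ (mq (inf_le_right : U ⊓ U' ≤ U'))).comp y₂ (zero_add i) := by
  rw [Ext.comp_add, Ext.mk₀_comp_mk₀_assoc, Ext.mk₀_comp_mk₀_assoc, biprod.lift_fst,
    biprod.lift_snd, Ext.mk₀_neg, Ext.neg_comp, sub_eq_add_neg]

lemma inl_g (F : CohTop.Ab X) {i : ℕ} (x : Ext.{u} (Q (U ⊔ U')) F i) :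
    (Ext.mk₀ biprod.inl).comp ((Ext.mk₀ (gS U U')).comp x (zero_add i)) (zero_add i)
      = (Ext.mk₀ (mq (le_sup_left : U ≤ U ⊔ U'))).comp x (zero_add i) := by
  rw [Ext.mk₀_comp_mk₀_assoc, biprod.inl_desc]

lemma inr_g (F : CohTop.Ab X) {i : ℕ} (x : Ext.{u} (Q (U ⊔ U')) F i) :
    (Ext.mk₀ biprod.inr).comp ((Ext.mk₀ (gS U U')).comp x (zero_add i)) (zero_add i)
      = (Ext.mk₀ (mq (le_sup_right : U' ≤ U ⊔ U'))).comp x (zero_add i) := by
  rw [Ext.mk₀_comp_mk₀_assoc, biprod.inr_desc]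

theorem main (F : CohTop.Ab X) (U U' : Opens X) :
    Function.Injective (fun x : LocCohZ.HZc F 0 (U ⊔ U') =>
      (LocCohZ.resZ F 0 (le_top : U ⊔ U' ≤ ⊤) (le_top : U ≤ ⊤) le_sup_left le_rfl x,
       LocCohZ.resZ F 0 (le_top : U ⊔ U' ≤ ⊤) (le_top : U' ≤ ⊤) le_sup_right le_rfl x)) ∧
    ∃ δ : ∀ i : ℕ, LocCohZ.HZc F i (U ⊓ U') →+ LocCohZ.HZc F (i + 1) (U ⊔ U'),
      ∀ i : ℕ,
        (∀ y : LocCohZ.HZc F i U × LocCohZ.HZc F i U',
          LocCohZ.resZ F i (le_top : U ≤ ⊤) (le_top : U ⊓ U' ≤ ⊤) inf_le_left le_rfl y.1 -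
              LocCohZ.resZ F i (le_top : U' ≤ ⊤) (le_top : U ⊓ U' ≤ ⊤) inf_le_right le_rfl y.2 = 0 ↔
            ∃ x : LocCohZ.HZc F i (U ⊔ U'),
              LocCohZ.resZ F i (le_top : U ⊔ U' ≤ ⊤) (le_top : U ≤ ⊤) le_sup_left le_rfl x = y.1 ∧
              LocCohZ.resZ F i (le_top : U ⊔ U' ≤ ⊤) (le_top : U' ≤ ⊤) le_sup_right le_rfl x = y.2) ∧
        (∀ w : LocCohZ.HZc F i (U ⊓ U'),
          δ i w = 0 ↔ ∃ y : LocCohZ.HZc F i U × LocCohZ.HZc F i U',
            LocCohZ.resZ F i (le_top : U ≤ ⊤) (le_top : U ⊓ U' ≤ ⊤) inf_le_left le_rfl y.1 -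
              LocCohZ.resZ F i (le_top : U' ≤ ⊤) (le_top : U ⊓ U' ≤ ⊤) inf_le_right le_rfl y.2 = w) ∧
        (∀ x : LocCohZ.HZc F (i + 1) (U ⊔ U'),
          (LocCohZ.resZ F (i + 1) (le_top : U ⊔ U' ≤ ⊤) (le_top : U ≤ ⊤) le_sup_left le_rfl x = 0 ∧
            LocCohZ.resZ F (i + 1) (le_top : U ⊔ U' ≤ ⊤) (le_top : U' ≤ ⊤) le_sup_right le_rfl x = 0) ↔
            ∃ w : LocCohZ.HZc F i (U ⊓ U'), δ i w = x) := by
  have hS := S_shortExact U U'
  constructor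
  · intro x y hxy
    have h1 := congrArg Prod.fst hxy
    exact Ext.precomp_mk₀_injective_of_epi F (mq (le_sup_left : U ≤ U ⊔ U')) h1
  · refine ⟨fun i => hS.extClass.precomp F (show 1 + i = i + 1 by omega), ?_⟩
    intro i
    refine ⟨?_, ?_, ?_⟩
    · rintro ⟨y₁, y₂⟩
      show (Ext.mk₀ (mq (inf_le_left : U ⊓ U' ≤ U))).comp y₁ (zero_add i)
          - (Ext.mk₀ (mq (inf_le_right : U ⊓ U' ≤ U'))).comp y₂ (zero_add i) = 0 ↔
        ∃ x : Ext.{u} (Q (U ⊔ U')) F i,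
          (Ext.mk₀ (mq (le_sup_left : U ≤ U ⊔ U'))).comp x (zero_add i) = y₁ ∧
          (Ext.mk₀ (mq (le_sup_right : U' ≤ U ⊔ U'))).comp x (zero_add i) = y₂
      rw [← f_pair]
      constructor
      · intro h0
        obtain ⟨x, hx⟩ := Ext.contravariant_sequence_exact₂ hS F _ h0
        refine ⟨x, ?_, ?_⟩
        · rw [← inl_g, show (S U U').g = gS U U' from rfl] at *
          rw [hx, ext_inl_pair]
        · rw [← inr_g, show (S U U').g = gS U U' from rfl] at *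
          rw [hx, ext_inr_pair]
      · rintro ⟨x, hx1, hx2⟩
        have hz : (Ext.mk₀ biprod.fst).comp y₁ (zero_add i)
            + (Ext.mk₀ biprod.snd).comp y₂ (zero_add i)
            = (Ext.mk₀ (gS U U')).comp x (zero_add i) := by
          rw [ext_decomp ((Ext.mk₀ (gS U U')).comp x (zero_add i)), inl_g, inr_g, hx1, hx2]
        rw [hz, Ext.mk₀_comp_mk₀_assoc, fS_gS, Ext.mk₀_zero, Ext.zero_comp]
    · intro w
      show hS.extClass.comp w (show 1 + i = i + 1 by omega) = 0 ↔ ∃ y : Ext.{u} (Q U) F i × Ext.{u} (Q U') F i,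
        (Ext.mk₀ (mq (inf_le_left : U ⊓ U' ≤ U))).comp y.1 (zero_add i)
          - (Ext.mk₀ (mq (inf_le_right : U ⊓ U' ≤ U'))).comp y.2 (zero_add i) = w
      constructor
      · intro h0
        obtain ⟨x₂, hx₂⟩ := Ext.contravariant_sequence_exact₁ hS F w _ h0
        refine ⟨((Ext.mk₀ biprod.inl).comp x₂ (zero_add i),
          (Ext.mk₀ biprod.inr).comp x₂ (zero_add i)), ?_⟩
        rw [← f_pair, ← ext_decomp x₂]
        exact hx₂
      · rintro ⟨⟨y₁, y₂⟩, hy⟩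
        rw [← hy, ← f_pair]
        exact hS.extClass_comp_assoc _
    · intro x
      show ((Ext.mk₀ (mq (le_sup_left : U ≤ U ⊔ U'))).comp x (zero_add (i + 1)) = 0 ∧
          (Ext.mk₀ (mq (le_sup_right : U' ≤ U ⊔ U'))).comp x (zero_add (i + 1)) = 0) ↔
        ∃ w : Ext.{u} (Q (U ⊓ U')) F i, hS.extClass.comp w (show 1 + i = i + 1 by omega) = x
      constructor
      · rintro ⟨h1, h2⟩
        have hz : (Ext.mk₀ (gS U U')).comp x (zero_add (i + 1)) = 0 := by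
          rw [ext_decomp ((Ext.mk₀ (gS U U')).comp x (zero_add (i + 1))), inl_g, inr_g, h1, h2,
            Ext.comp_zero, Ext.comp_zero, add_zero]
        exact Ext.contravariant_sequence_exact₃ hS F x hz _
      · rintro ⟨w, rfl⟩
        have hz := hS.comp_extClass_assoc w (show 1 + i = i + 1 by omega)
        constructor
        · rw [← inl_g, show gS U U' = (S U U').g from rfl, hz, Ext.comp_zero]
        · rw [← inr_g, show gS U U' = (S U U').g from rfl, hz, Ext.comp_zero]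

end Sheaf

end Groth.Agent.Lib.MVLocL
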