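import Mathlib
import Groth.Prelude
import Groth.Agent.Lib.MVPush3_lead

/-!
# The Mayer–Vietoris triangle for `RΓ` (lead)
-/

set_option autoImplicit false
set_option linter.all false
set_option maxHeartbeats 1600000
set_option backward.isDefEq.respectTransparency false
set_option backward.isDefEq.respectTransparency.types false
set_option backward.defeqAttrib.useBackward true

universe u
open CategoryTheory CategoryTheory.Limits AlgebraicGeometry Opposite TopologicalSpace
open CategoryTheory.Pretriangulated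
attribute [local instance] HasDerivedCategory.standard

namespace Groth.Agent.Lib.MVPushL

open Groth.Agent.Lib.StalkSkyL

noncomputable section

variable {X : Scheme.{u}}

/-- `Γ(X, -)` on complexes -/
abbrev GCx (Y : Scheme.{u}) : CochainComplex Y.Modules ℤ ⥤ CochainComplex AddCommGrpCat.{u} ℤ :=
  (DCoh.gammaAb Y).mapHomologicalComplex (ComplexShape.up ℤ)

/-- `Γ(X, j_* M) ≅ Γ(W, M)` -/
def gammaPushIso (W : X.Opens) (M : W.toScheme.Modules) :
    (DCoh.gammaAb X).obj ((Scheme.Modules.pushforward W.ι).obj M) ≅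
      (DCoh.gammaAb W.toScheme).obj M :=
  Iso.refl _

theorem gammaPushIso_naturality (W : X.Opens) {M N : W.toScheme.Modules} (φ : M ⟶ N) :
    (gammaPushIso W M).hom ≫ (DCoh.gammaAb W.toScheme).map φ =
      (DCoh.gammaAb X).map ((Scheme.Modules.pushforward W.ι).map φ) ≫ (gammaPushIso W N).hom :=
  (Category.id_comp ((DCoh.gammaAb W.toScheme).map φ)).trans
    (Category.comp_id ((DCoh.gammaAb X).map ((Scheme.Modules.pushforward W.ι).map φ))).symm

/-- `Γ(X, j_* K) ≅ Γ(W, K)` on complexes -/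
def gammaPushCx (W : X.Opens) (K : CochainComplex W.toScheme.Modules ℤ) :
    (GCx X).obj ((PCx W).obj K) ≅ (GCx W.toScheme).obj K :=
  HomologicalComplex.Hom.isoOfComponents (fun i => gammaPushIso W (K.X i))
    (fun i j _ => gammaPushIso_naturality W (K.d i j))

/-- `RΓ(W, E|_W) ≅ Q(Γ(X, j_* j^* I))` for a K-injective representative `I` of `E` -/
def iG (W : X.Opens) [DCoh.HasRΓ W.toScheme] (I : CochainComplex X.Modules ℤ)
    [I.IsKInjective] (E : DCoh.D X) (eE : DerivedCategory.Q.obj I ≅ E) :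
    (DCoh.RΓ W.toScheme).obj ((DCoh.restrictD W.ι).obj E) ≅
      DerivedCategory.Q.obj ((GCx X).obj (BCx W I)) :=
  haveI := isKInjective_RCx W I
  haveI := grothendieck_modules W.toScheme
  (DCoh.RΓ W.toScheme).mapIso (iR W I E eE) ≪≫
    (Groth.Agent.Lib.RDerGE.unitIso (DCoh.gammaAb W.toScheme) ((RCx W).obj I)).symm ≪≫
    DerivedCategory.Q.mapIso (gammaPushCx W ((RCx W).obj I)).symm

theorem main6512 (U V : X.Opens) (hUV : U ⊔ V = ⊤)
    [DCoh.HasRΓ X] [DCoh.HasRΓ (U : Scheme.{u})] [DCoh.HasRΓ (V : Scheme.{u})]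
    [DCoh.HasRΓ (U ⊓ V : X.Opens)] (E : DCoh.D X) :
    ∃ (a : (DCoh.RΓ X).obj E ⟶ ((DCoh.RΓ (U : Scheme.{u})).obj ((DCoh.restrictD U.ι).obj E) ⊞
        (DCoh.RΓ (V : Scheme.{u})).obj ((DCoh.restrictD V.ι).obj E)))
      (b : ((DCoh.RΓ (U : Scheme.{u})).obj ((DCoh.restrictD U.ι).obj E) ⊞
        (DCoh.RΓ (V : Scheme.{u})).obj ((DCoh.restrictD V.ι).obj E)) ⟶
          (DCoh.RΓ (U ⊓ V : X.Opens)).obj ((DCoh.restrictD (U ⊓ V).ι).obj E))
      (c : (DCoh.RΓ (U ⊓ V : X.Opens)).obj ((DCoh.restrictD (U ⊓ V).ι).obj E) ⟶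
        ((DCoh.RΓ X).obj E)⟦(1 : ℤ)⟧),
      Pretriangulated.Triangle.mk a b c ∈ Pretriangulated.distinguishedTriangles := by
  haveI := grothendieck_modules X
  obtain ⟨I, hI, hinj, ⟨eE⟩⟩ := Groth.Agent.Lib.KInjGen8.exists_kInjective_rep E
  haveI := hI
  have hS : ((mvSCx U V I).map (GCx X)).ShortExact :=
    shortExact_mvSCx_map (DCoh.gammaAb X) U V hUV I hinj
  haveI : PreservesBinaryBiproducts (GCx X ⋙ DerivedCategory.Q (C := AddCommGrpCat.{u})) :=
    preservesBinaryBiproducts_of_preservesBiproducts _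
  exact exists_distTriang_of_isos _ (DerivedCategory.triangleOfSES_distinguished hS)
    ((DCoh.RΓ X).mapIso eE.symm ≪≫
      (Groth.Agent.Lib.RDerGE.unitIso (DCoh.gammaAb X) I).symm)
    (biprod.mapIso (iG U I E eE) (iG V I E eE) ≪≫
      ((GCx X ⋙ DerivedCategory.Q (C := AddCommGrpCat.{u})).mapBiprod
        (BCx U I) (BCx V I)).symm)
    (iG (U ⊓ V) I E eE)

end

end Groth.Agent.Lib.MVPushL
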