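import Mathlib
import Groth.Prelude.Def_W4c3perfectstacksMV

set_option autoImplicit false
set_option linter.style.haveILetI false
set_option linter.unusedSectionVars false

universe v u

open CategoryTheory CategoryTheory.Limits CategoryTheory.Pretriangulated

namespace Groth.Agent.Lib.MVSqH4

section General

variable {𝒞 : Type u} [Category.{v} 𝒞] [Preadditive 𝒞] [HasZeroObject 𝒞] [HasShift 𝒞 ℤ]
  [∀ n : ℤ, (shiftFunctor 𝒞 n).Additive] [Pretriangulated 𝒞] [IsTriangulated 𝒞]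

lemma isIso_neg_id (X : 𝒞) : IsIso (-𝟙 X) := ⟨⟨-𝟙 X, by simp, by simp⟩⟩

lemma split_distinguished (X F : 𝒞) :
    Triangle.mk (biprod.inr : F ⟶ X ⊞ F) (biprod.fst : X ⊞ F ⟶ X) (0 : X ⟶ F⟦(1 : ℤ)⟧) ∈
      distTriang 𝒞 := by
  refine isomorphic_distinguished _ (binaryBiproductTriangle_distinguished F X) _ ?_
  refine Triangle.isoMk _ _ (Iso.refl _) (biprod.braiding X F) (Iso.refl _) ?_ ?_ ?_
  · show (biprod.inr : F ⟶ X ⊞ F) ≫ (biprod.braiding X F).hom = 𝟙 F ≫ biprod.inl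
    apply biprod.hom_ext <;> simp
  · show (biprod.fst : X ⊞ F ⟶ X) ≫ 𝟙 X = (biprod.braiding X F).hom ≫ biprod.snd
    simp
  · show (0 : X ⟶ F⟦(1 : ℤ)⟧) ≫ (𝟙 F)⟦(1 : ℤ)⟧' = 𝟙 X ≫ 0
    simp

lemma lemmaA {C N X F Q : 𝒞} (c : C ⟶ N) (η : N ⟶ X) (δ : X ⟶ C⟦(1 : ℤ)⟧)
    (hT₁ : Triangle.mk c η δ ∈ distTriang 𝒞) (β : N ⟶ F) (b : F ⟶ Q) (δ₂ : Q ⟶ C⟦(1 : ℤ)⟧)
    (hT₂ : Triangle.mk (c ≫ β) b δ₂ ∈ distTriang 𝒞) :
    ∃ (γ₁ : X ⟶ Q) (d : Q ⟶ N⟦(1 : ℤ)⟧), η ≫ γ₁ = β ≫ b ∧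
      Triangle.mk (biprod.lift η β) (biprod.desc γ₁ (-b)) d ∈ distTriang 𝒞 := by
  obtain ⟨Q'', v'', w'', h₁₂⟩ := distinguished_cocone_triangle (biprod.lift η β)
  have h₂₃ : Triangle.mk (biprod.fst : X ⊞ F ⟶ X) (0 : X ⟶ F⟦(1 : ℤ)⟧)
      (-(biprod.inr : F ⟶ X ⊞ F)⟦(1 : ℤ)⟧') ∈ distTriang 𝒞 :=
    rot_of_distTriang _ (split_distinguished X F)
  have h₁₃ : Triangle.mk η δ (-c⟦(1 : ℤ)⟧') ∈ distTriang 𝒞 := rot_of_distTriang _ hT₁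
  have oct := Triangulated.someOctahedron
    (show biprod.lift η β ≫ biprod.fst = η by simp) h₁₂ h₂₃ h₁₃
  have hm₃ : oct.m₃ = (c ≫ β)⟦(1 : ℤ)⟧' := by
    have h4 := oct.comm₄
    have h5 := congrArg (· ≫ (biprod.snd : X ⊞ F ⟶ F)⟦(1 : ℤ)⟧') h4
    simp only [Preadditive.neg_comp, Preadditive.comp_neg, Category.assoc,
      ← CategoryTheory.Functor.map_comp, biprod.lift_snd, biprod.inr_snd, neg_inj] at h5
    rw [CategoryTheory.Functor.map_id, Category.comp_id] at h5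
    exact h5.symm
  have hT₂rr : Triangle.mk δ₂ (-(c ≫ β)⟦(1 : ℤ)⟧') (-b⟦(1 : ℤ)⟧') ∈ distTriang 𝒞 :=
    rot_of_distTriang _ (rot_of_distTriang _ hT₂)
  have hcomm : oct.m₃ ≫ (-𝟙 (F⟦(1 : ℤ)⟧)) = 𝟙 (C⟦(1 : ℤ)⟧) ≫ (-(c ≫ β)⟦(1 : ℤ)⟧') := by
    rw [hm₃]; simp
  obtain ⟨φ, hφ₁, hφ₂⟩ : ∃ φ : Q'' ⟶ Q, oct.m₁ ≫ 𝟙 (C⟦(1 : ℤ)⟧) = φ ≫ δ₂ ∧
      ((-(biprod.inr : F ⟶ X ⊞ F)⟦(1 : ℤ)⟧') ≫ v''⟦(1 : ℤ)⟧') ≫ φ⟦(1 : ℤ)⟧' =
        (-𝟙 (F⟦(1 : ℤ)⟧)) ≫ (-b⟦(1 : ℤ)⟧') :=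
    complete_distinguished_triangle_morphism₁ _ _ oct.mem hT₂rr (𝟙 _) (-𝟙 _) hcomm
  have hφiso : IsIso φ := by
    let ψ : Triangle.mk oct.m₁ oct.m₃
        ((-(biprod.inr : F ⟶ X ⊞ F)⟦(1 : ℤ)⟧') ≫ v''⟦(1 : ℤ)⟧') ⟶
        Triangle.mk δ₂ (-(c ≫ β)⟦(1 : ℤ)⟧') (-b⟦(1 : ℤ)⟧') :=
      Triangle.homMk _ _ φ (𝟙 _) (-𝟙 _) hφ₁ hcomm hφ₂
    exact isIso₁_of_isIso₂₃ ψ oct.mem hT₂rr
      (by change IsIso (𝟙 (C⟦(1 : ℤ)⟧)); infer_instance)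
      (by change IsIso (-𝟙 (F⟦(1 : ℤ)⟧)); exact isIso_neg_id _)
  have hinr : biprod.inr ≫ v'' ≫ φ = -b := by
    apply (shiftFunctor 𝒞 (1 : ℤ)).map_injective
    have h := hφ₂
    simp only [Preadditive.neg_comp, Preadditive.comp_neg, Category.assoc, Category.id_comp,
      neg_neg] at h
    rw [CategoryTheory.Functor.map_comp, CategoryTheory.Functor.map_comp,
      CategoryTheory.Functor.map_neg, ← h, neg_neg]
  haveI := hφiso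
  refine ⟨biprod.inl ≫ v'' ≫ φ, inv φ ≫ w'', ?_, ?_⟩
  · have h0 : biprod.lift η β ≫ v'' = 0 := comp_distTriang_mor_zero₁₂ _ h₁₂
    have h1 : biprod.lift η β = η ≫ biprod.inl + β ≫ biprod.inr := by
      apply biprod.hom_ext <;> simp
    rw [h1, Preadditive.add_comp, Category.assoc, Category.assoc] at h0
    have h2 := congrArg (· ≫ φ) h0
    simp only [Preadditive.add_comp, Category.assoc, zero_comp, hinr, Preadditive.comp_neg] at h2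
    exact add_neg_eq_zero.mp h2
  · refine isomorphic_distinguished _ h₁₂ _ ?_
    refine Triangle.isoMk _ _ (Iso.refl _) (Iso.refl _) (asIso φ).symm ?_ ?_ ?_
    · exact (Category.comp_id _).trans (Category.id_comp _).symm
    · show biprod.desc (biprod.inl ≫ v'' ≫ φ) (-b) ≫ inv φ = 𝟙 _ ≫ v''
      rw [Category.id_comp]
      apply biprod.hom_ext'
      · simp
      · rw [biprod.inr_desc_assoc, ← hinr]
        simp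
    · show (inv φ ≫ w'') ≫ (𝟙 N)⟦(1 : ℤ)⟧' = inv φ ≫ w''
      simp

lemma lemmaA' {C N X F Q : 𝒞} (c : C ⟶ N) (η : N ⟶ X) (δ : X ⟶ C⟦(1 : ℤ)⟧)
    (hT₁ : Triangle.mk c η δ ∈ distTriang 𝒞) (β : N ⟶ F) (b : F ⟶ Q) (δ₂ : Q ⟶ C⟦(1 : ℤ)⟧)
    (hT₂ : Triangle.mk (c ≫ β) b δ₂ ∈ distTriang 𝒞) (γ : X ⟶ Q) (hγ : η ≫ γ = β ≫ b)
    (hvan : ∀ θ : C⟦(1 : ℤ)⟧ ⟶ Q, θ = 0) :
    ∃ d : Q ⟶ N⟦(1 : ℤ)⟧,
      Triangle.mk (biprod.lift η β) (biprod.desc γ (-b)) d ∈ distTriang 𝒞 := by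
  obtain ⟨γ₁, d, hγ₁, hd⟩ := lemmaA c η δ hT₁ β b δ₂ hT₂
  have hζ : η ≫ (γ₁ - γ) = 0 := by rw [Preadditive.comp_sub, hγ₁, hγ, sub_self]
  obtain ⟨θ, hθ⟩ : ∃ θ : C⟦(1 : ℤ)⟧ ⟶ Q, γ₁ - γ = δ ≫ θ :=
    Triangle.yoneda_exact₃ _ hT₁ _ hζ
  rw [hvan θ, comp_zero] at hθ
  have h3 : γ₁ = γ := sub_eq_zero.mp hθ
  subst h3
  exact ⟨d, hd⟩

lemma d_comp_fst_shift {N X F Q : 𝒞} (η : N ⟶ X) (β : N ⟶ F) (v : X ⊞ F ⟶ Q)
    (d : Q ⟶ N⟦(1 : ℤ)⟧) (hd : Triangle.mk (biprod.lift η β) v d ∈ distTriang 𝒞) :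
    d ≫ η⟦(1 : ℤ)⟧' = 0 := by
  have h : d ≫ (biprod.lift η β)⟦(1 : ℤ)⟧' = 0 := comp_distTriang_mor_zero₃₁ _ hd
  have h2 := congrArg (· ≫ (biprod.fst : X ⊞ F ⟶ X)⟦(1 : ℤ)⟧') h
  simp only [Category.assoc, ← CategoryTheory.Functor.map_comp, biprod.lift_fst, zero_comp] at h2
  exact h2

lemma lemmaUniq {N M Q : 𝒞} (u : N ⟶ M) (v : M ⟶ Q) (d d' : Q ⟶ N⟦(1 : ℤ)⟧)
    (hd : Triangle.mk u v d ∈ distTriang 𝒞) (hd' : Triangle.mk u v d' ∈ distTriang 𝒞)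
    (hvan : ∀ h : N⟦(1 : ℤ)⟧ ⟶ Q, d ≫ h = 0) : d' = d := by
  obtain ⟨γ, hγ₁, hγ₂⟩ : ∃ γ : Q ⟶ Q, v ≫ γ = 𝟙 M ≫ v ∧ d ≫ (𝟙 N)⟦(1 : ℤ)⟧' = γ ≫ d' :=
    complete_distinguished_triangle_morphism _ _ hd hd' (𝟙 _) (𝟙 _)
      ((Category.comp_id _).trans (Category.id_comp _).symm)
  have h1 : v ≫ (γ - 𝟙 Q) = 0 := by
    rw [Preadditive.comp_sub, hγ₁, Category.id_comp, Category.comp_id, sub_self]
  obtain ⟨h, hh⟩ : ∃ h : N⟦(1 : ℤ)⟧ ⟶ Q, γ - 𝟙 Q = d ≫ h :=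
    Triangle.yoneda_exact₃ _ hd _ h1
  rw [hvan h] at hh
  have h3 : γ = 𝟙 Q := sub_eq_zero.mp hh
  rw [h3, CategoryTheory.Functor.map_id, Category.comp_id, Category.id_comp] at hγ₂
  exact hγ₂.symm

lemma lemmaNat {N₁ X₁ F₁ Q₁ N₂ X₂ F₂ Q₂ : 𝒞} (η₁ : N₁ ⟶ X₁) (β₁ : N₁ ⟶ F₁) (γ₁ : X₁ ⟶ Q₁)
    (b₁ : F₁ ⟶ Q₁) (d₁ : Q₁ ⟶ N₁⟦(1 : ℤ)⟧)
    (η₂ : N₂ ⟶ X₂) (β₂ : N₂ ⟶ F₂) (γ₂ : X₂ ⟶ Q₂) (b₂ : F₂ ⟶ Q₂) (d₂ : Q₂ ⟶ N₂⟦(1 : ℤ)⟧)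
    (h₁ : Triangle.mk (biprod.lift η₁ β₁) (biprod.desc γ₁ (-b₁)) d₁ ∈ distTriang 𝒞)
    (h₂ : Triangle.mk (biprod.lift η₂ β₂) (biprod.desc γ₂ (-b₂)) d₂ ∈ distTriang 𝒞)
    (φ : N₁ ⟶ N₂) (a : X₁ ⟶ X₂) (f : F₁ ⟶ F₂) (k : Q₁ ⟶ Q₂)
    (hJ : φ ≫ η₂ = η₁ ≫ a) (hF : φ ≫ β₂ = β₁ ≫ f) (hG : a ≫ γ₂ = γ₁ ≫ k)
    (hB : b₁ ≫ k = f ≫ b₂) (hvan : ∀ h : N₁⟦(1 : ℤ)⟧ ⟶ Q₂, d₁ ≫ h = 0) :
    d₁ ≫ φ⟦(1 : ℤ)⟧' = k ≫ d₂ := by
  have hu : biprod.lift η₁ β₁ ≫ biprod.map a f = φ ≫ biprod.lift η₂ β₂ := by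
    apply biprod.hom_ext
    · simp only [Category.assoc, biprod.map_fst, biprod.lift_fst_assoc, biprod.lift_fst]
      exact hJ.symm
    · simp only [Category.assoc, biprod.map_snd, biprod.lift_snd_assoc, biprod.lift_snd]
      exact hF.symm
  obtain ⟨ψ, hψ₁, hψ₂⟩ : ∃ ψ : Q₁ ⟶ Q₂,
      biprod.desc γ₁ (-b₁) ≫ ψ = biprod.map a f ≫ biprod.desc γ₂ (-b₂) ∧
      d₁ ≫ φ⟦(1 : ℤ)⟧' = ψ ≫ d₂ :=
    complete_distinguished_triangle_morphism _ _ h₁ h₂ φ (biprod.map a f) hu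
  have hv : biprod.desc γ₁ (-b₁) ≫ k = biprod.map a f ≫ biprod.desc γ₂ (-b₂) := by
    apply biprod.hom_ext'
    · simp only [biprod.inl_desc_assoc, biprod.inl_map_assoc, biprod.inl_desc]
      exact hG.symm
    · simp only [biprod.inr_desc_assoc, biprod.inr_map_assoc, biprod.inr_desc,
        Preadditive.neg_comp, Preadditive.comp_neg, hB]
  have h1 : biprod.desc γ₁ (-b₁) ≫ (ψ - k) = 0 := by
    rw [Preadditive.comp_sub, hψ₁, hv, sub_self]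
  obtain ⟨h, hh⟩ : ∃ h : N₁⟦(1 : ℤ)⟧ ⟶ Q₂, ψ - k = d₁ ≫ h :=
    Triangle.yoneda_exact₃ _ h₁ _ h1
  rw [hvan h] at hh
  rw [hψ₂, sub_eq_zero.mp hh]

lemma lemmaBij {N X F Q N₀ : 𝒞} (η : N ⟶ X) (β : N ⟶ F) (γ : X ⟶ Q) (b : F ⟶ Q)
    (d : Q ⟶ N⟦(1 : ℤ)⟧)
    (hd : Triangle.mk (biprod.lift η β) (biprod.desc γ (-b)) d ∈ distTriang 𝒞)
    (hX : ∀ h : N₀ ⟶ X, h = 0) (hQ : ∀ h : N₀ ⟶ Q, h = 0)
    (hQ1 : ∀ h : N₀⟦(1 : ℤ)⟧ ⟶ Q, h = 0) :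
    Function.Bijective (fun g : N₀ ⟶ N => g ≫ β) := by
  constructor
  · intro g₁ g₂ hg
    dsimp at hg
    have h0 : (g₁ - g₂) ≫ biprod.lift η β = 0 := by
      apply biprod.hom_ext
      · rw [Category.assoc, biprod.lift_fst, zero_comp]
        exact hX _
      · rw [Category.assoc, biprod.lift_snd, zero_comp, Preadditive.sub_comp, hg, sub_self]
    have h0' : (g₁ - g₂)⟦(1 : ℤ)⟧' ≫ (biprod.lift η β)⟦(1 : ℤ)⟧' = 0 := by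
      rw [← CategoryTheory.Functor.map_comp, h0, CategoryTheory.Functor.map_zero]
    obtain ⟨k, hk⟩ : ∃ k : N₀⟦(1 : ℤ)⟧ ⟶ Q, (g₁ - g₂)⟦(1 : ℤ)⟧' = k ≫ d :=
      Triangle.coyoneda_exact₁ _ hd _ h0'
    rw [hQ1 k, zero_comp] at hk
    have h3 : g₁ - g₂ = 0 :=
      (shiftFunctor 𝒞 (1 : ℤ)).map_injective (by rw [hk, CategoryTheory.Functor.map_zero])
    exact sub_eq_zero.mp h3
  · intro k
    have h0 : biprod.lift (0 : N₀ ⟶ X) k ≫ biprod.desc γ (-b) = 0 := hQ _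
    obtain ⟨g, hg⟩ : ∃ g : N₀ ⟶ N, biprod.lift (0 : N₀ ⟶ X) k = g ≫ biprod.lift η β :=
      Triangle.coyoneda_exact₂ _ hd _ h0
    refine ⟨g, ?_⟩
    have h3 := congrArg (· ≫ biprod.snd) hg
    simp only [biprod.lift_snd, Category.assoc] at h3
    exact h3.symm

end General

section MV

variable {S S' R R' : Type u} [Category.{v} S] [Category.{v} S'] [Category.{v} R]
  [Category.{v} R']
  [Preadditive S] [Preadditive S'] [Preadditive R] [Preadditive R']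
  [HasZeroObject S] [HasZeroObject S'] [HasZeroObject R] [HasZeroObject R']
  [HasShift S ℤ] [HasShift S' ℤ] [HasShift R ℤ] [HasShift R' ℤ]
  [∀ n : ℤ, (shiftFunctor S n).Additive] [∀ n : ℤ, (shiftFunctor S' n).Additive]
  [∀ n : ℤ, (shiftFunctor R n).Additive] [∀ n : ℤ, (shiftFunctor R' n).Additive]
  [Pretriangulated S] [Pretriangulated S'] [Pretriangulated R] [Pretriangulated R']
  [IsTriangulated S] [IsTriangulated S'] [IsTriangulated R] [IsTriangulated R']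
  (q : W4c3perfectstacks.MVSq S S' R R')
  [q.jst.CommShift ℤ] [q.fst.CommShift ℤ] [q.jpst.CommShift ℤ] [q.gst.CommShift ℤ]
  [q.jst.IsTriangulated] [q.fst.IsTriangulated] [q.jpst.IsTriangulated] [q.gst.IsTriangulated]

lemma isIso_jst_map_unit (hq : q.IsMV) (N : S) : IsIso (q.jst.map (q.adjJ.unit.app N)) := by
  haveI := hq.isIso_counitJ
  have h := q.adjJ.left_triangle_components N
  rw [IsIso.eq_inv_of_inv_hom_id h]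
  infer_instance

lemma isZero_jst_fiber (hq : q.IsMV) {N C : S} (c : C ⟶ N)
    (δ : q.jls.obj (q.jst.obj N) ⟶ C⟦(1 : ℤ)⟧)
    (hT : Triangle.mk c (q.adjJ.unit.app N) δ ∈ distTriang S) : IsZero (q.jst.obj C) := by
  have h := q.jst.map_distinguished _ hT
  haveI := isIso_jst_map_unit q hq N
  exact Triangle.isZero₁_of_isIso₂ _ h
    (by change IsIso (q.jst.map (q.adjJ.unit.app N)); infer_instance)

lemma isZero_jst_shift {W : S} (hW : IsZero (q.jst.obj W)) :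
    IsZero (q.jst.obj (W⟦(1 : ℤ)⟧)) :=
  IsZero.of_iso ((shiftFunctor R (1 : ℤ)).map_isZero hW) ((q.jst.commShiftIso (1 : ℤ)).app W)

lemma hom_jls_eq_zero {W : S} (hW : IsZero (q.jst.obj W)) {P : R} (h : W ⟶ q.jls.obj P) :
    h = 0 :=
  (q.adjJ.homEquiv W P).symm.injective (hW.eq_of_src _ _)

lemma hom_Q_eq_zero (hq : q.IsMV) {W : S} (hW : IsZero (q.jst.obj W)) (P : R)
    (h : W ⟶ q.fls.obj (q.fst.obj (q.jls.obj P))) : h = 0 := by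
  have hz : IsZero (q.jpst.obj (q.fst.obj W)) :=
    IsZero.of_iso (q.gst.map_isZero hW) (q.e.app W).symm
  haveI := hq.isIso_bc2App P
  apply (q.adjF.homEquiv W _).symm.injective
  rw [← cancel_mono (q.bc2App P)]
  apply (q.adjJp.homEquiv _ _).symm.injective
  exact hz.eq_of_src _ _

theorem exists_d (hq : q.IsMV) (N : S) :
    ∃ d : q.fls.obj (q.fst.obj (q.jls.obj (q.jst.obj N))) ⟶ N⟦(1 : ℤ)⟧,
      Triangle.mk (biprod.lift (q.adjJ.unit.app N) (q.adjF.unit.app N))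
        (biprod.desc (q.adjF.unit.app (q.jls.obj (q.jst.obj N)))
          (-(q.fls.map (q.fst.map (q.adjJ.unit.app N))))) d ∈ distTriang S := by
  letI := q.adjF.rightAdjointCommShift ℤ
  haveI := q.adjF.commShift_of_leftAdjoint ℤ
  haveI : q.fls.IsTriangulated := q.adjF.isTriangulated_rightAdjoint
  obtain ⟨C, c, δ, hT⟩ := distinguished_cocone_triangle₁ (q.adjJ.unit.app N)
  have hC : IsZero (q.jst.obj C) := isZero_jst_fiber q hq c δ hT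
  obtain ⟨α, hα⟩ : ∃ α : C ≅ q.fls.obj (q.fst.obj C), α.hom = q.adjF.unit.app C :=
    ⟨@asIso _ _ _ _ (q.adjF.unit.app C) (hq.isIso_unitF C hC), rfl⟩
  obtain ⟨δ', hT'⟩ : ∃ δ', Triangle.mk (q.fls.map (q.fst.map c))
      (q.fls.map (q.fst.map (q.adjJ.unit.app N))) δ' ∈ distTriang S :=
    ⟨_, q.fls.map_distinguished _ (q.fst.map_distinguished _ hT)⟩
  have hT₂ : Triangle.mk (c ≫ q.adjF.unit.app N) (q.fls.map (q.fst.map (q.adjJ.unit.app N)))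
      (δ' ≫ α.inv⟦(1 : ℤ)⟧') ∈ distTriang S := by
    refine isomorphic_distinguished _ hT' _ ?_
    refine Triangle.isoMk _ _ α (Iso.refl _) (Iso.refl _) ?_ ?_ ?_
    · show (c ≫ q.adjF.unit.app N) ≫ 𝟙 _ = α.hom ≫ q.fls.map (q.fst.map c)
      rw [Category.comp_id, hα]
      exact q.adjF.unit.naturality c
    · exact (Category.comp_id _).trans (Category.id_comp _).symm
    · show (δ' ≫ α.inv⟦(1 : ℤ)⟧') ≫ α.hom⟦(1 : ℤ)⟧' = 𝟙 _ ≫ δ'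
      rw [Category.assoc, ← CategoryTheory.Functor.map_comp, Iso.inv_hom_id,
        CategoryTheory.Functor.map_id, Category.comp_id, Category.id_comp]
  exact lemmaA' c (q.adjJ.unit.app N) δ hT (q.adjF.unit.app N)
    (q.fls.map (q.fst.map (q.adjJ.unit.app N))) _ hT₂
    (q.adjF.unit.app (q.jls.obj (q.jst.obj N)))
    (q.adjF.unit.naturality (q.adjJ.unit.app N))
    (fun θ => hom_Q_eq_zero q hq (isZero_jst_shift q hC) _ θ)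

lemma d_comp_eq_zero (hq : q.IsMV) (N : S) {Y : S} (d : Y ⟶ N⟦(1 : ℤ)⟧)
    (hd : d ≫ (q.adjJ.unit.app N)⟦(1 : ℤ)⟧' = 0) (P : R)
    (h : N⟦(1 : ℤ)⟧ ⟶ q.fls.obj (q.fst.obj (q.jls.obj P))) : d ≫ h = 0 := by
  obtain ⟨C, c, δ, hT⟩ := distinguished_cocone_triangle₁ (q.adjJ.unit.app N)
  have hC := isZero_jst_fiber q hq c δ hT
  obtain ⟨g, hg⟩ : ∃ g : Y ⟶ C⟦(1 : ℤ)⟧, d = g ≫ (-c⟦(1 : ℤ)⟧') :=
    Triangle.coyoneda_exact₁ _ (rot_of_distTriang _ hT) d hd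
  have h0 : c⟦(1 : ℤ)⟧' ≫ h = 0 := hom_Q_eq_zero q hq (isZero_jst_shift q hC) P _
  rw [hg, Category.assoc, Preadditive.neg_comp, h0, neg_zero, comp_zero]

theorem main16407 (hq : q.IsMV) (N : S) :
    ∃! d : q.fls.obj (q.fst.obj (q.jls.obj (q.jst.obj N))) ⟶ N⟦(1 : ℤ)⟧,
      Triangle.mk (biprod.lift (q.adjJ.unit.app N) (q.adjF.unit.app N))
        (biprod.desc (q.adjF.unit.app (q.jls.obj (q.jst.obj N)))
          (-(q.fls.map (q.fst.map (q.adjJ.unit.app N))))) d ∈ distTriang S := by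
  obtain ⟨d, hd⟩ := exists_d q hq N
  refine ⟨d, hd, fun d' hd' => ?_⟩
  exact lemmaUniq _ _ d d' hd hd' (fun h =>
    d_comp_eq_zero q hq N d (d_comp_fst_shift _ _ _ d hd) (q.jst.obj N) h)

theorem main16408 (hq : q.IsMV) (N₁ N₂ : S) (φ : N₁ ⟶ N₂)
    (d₁ : q.fls.obj (q.fst.obj (q.jls.obj (q.jst.obj N₁))) ⟶ N₁⟦(1 : ℤ)⟧)
    (d₂ : q.fls.obj (q.fst.obj (q.jls.obj (q.jst.obj N₂))) ⟶ N₂⟦(1 : ℤ)⟧)
    (h₁ : Triangle.mk (biprod.lift (q.adjJ.unit.app N₁) (q.adjF.unit.app N₁))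
        (biprod.desc (q.adjF.unit.app (q.jls.obj (q.jst.obj N₁)))
          (-(q.fls.map (q.fst.map (q.adjJ.unit.app N₁))))) d₁ ∈ distTriang S)
    (h₂ : Triangle.mk (biprod.lift (q.adjJ.unit.app N₂) (q.adjF.unit.app N₂))
        (biprod.desc (q.adjF.unit.app (q.jls.obj (q.jst.obj N₂)))
          (-(q.fls.map (q.fst.map (q.adjJ.unit.app N₂))))) d₂ ∈ distTriang S) :
    d₁ ≫ (shiftFunctor S (1 : ℤ)).map φ =
      q.fls.map (q.fst.map (q.jls.map (q.jst.map φ))) ≫ d₂ := by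
  have hJ : φ ≫ q.adjJ.unit.app N₂ = q.adjJ.unit.app N₁ ≫ q.jls.map (q.jst.map φ) :=
    q.adjJ.unit.naturality φ
  have hF : φ ≫ q.adjF.unit.app N₂ = q.adjF.unit.app N₁ ≫ q.fls.map (q.fst.map φ) :=
    q.adjF.unit.naturality φ
  have hFX : q.jls.map (q.jst.map φ) ≫ q.adjF.unit.app (q.jls.obj (q.jst.obj N₂)) =
      q.adjF.unit.app (q.jls.obj (q.jst.obj N₁)) ≫
        q.fls.map (q.fst.map (q.jls.map (q.jst.map φ))) :=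
    q.adjF.unit.naturality (q.jls.map (q.jst.map φ))
  have hB : q.fls.map (q.fst.map (q.adjJ.unit.app N₁)) ≫
      q.fls.map (q.fst.map (q.jls.map (q.jst.map φ))) =
      q.fls.map (q.fst.map φ) ≫ q.fls.map (q.fst.map (q.adjJ.unit.app N₂)) :=
    ((q.fst ⋙ q.fls).map_comp _ _).symm.trans
      ((congrArg (q.fst ⋙ q.fls).map hJ.symm).trans ((q.fst ⋙ q.fls).map_comp _ _))
  exact lemmaNat _ _ _ _ d₁ _ _ _ _ d₂ h₁ h₂ φ (q.jls.map (q.jst.map φ))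
    (q.fls.map (q.fst.map φ)) (q.fls.map (q.fst.map (q.jls.map (q.jst.map φ)))) hJ hF hFX hB
    (fun h => d_comp_eq_zero q hq N₁ d₁ (d_comp_fst_shift _ _ _ d₁ h₁) (q.jst.obj N₂) h)

theorem main16409 (hq : q.IsMV) (M : S') (hM : IsZero (q.jpst.obj M)) (N : S) :
    Function.Bijective (fun g : q.fls.obj M ⟶ N => q.fst.map g) := by
  have hN₀ : IsZero (q.jst.obj (q.fls.obj M)) := by
    haveI := hq.isIso_bcApp M
    haveI : q.gls.Additive := q.adjG.right_adjoint_additive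
    exact IsZero.of_iso (q.gls.map_isZero hM) (asIso (q.bcApp M))
  obtain ⟨d, hd⟩ := exists_d q hq N
  have key : Function.Bijective (fun g : q.fls.obj M ⟶ N => g ≫ q.adjF.unit.app N) :=
    lemmaBij _ _ _ _ d hd (fun h => hom_jls_eq_zero q hN₀ h)
      (fun h => hom_Q_eq_zero q hq hN₀ _ h)
      (fun h => hom_Q_eq_zero q hq (isZero_jst_shift q hN₀) _ h)
  have e : (fun g : q.fls.obj M ⟶ N => q.fst.map g) =
      (q.adjF.homEquiv _ _).symm ∘ (fun g : q.fls.obj M ⟶ N => g ≫ q.adjF.unit.app N) := by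
    funext g
    dsimp
    rw [Adjunction.homEquiv_counit, CategoryTheory.Functor.map_comp, Category.assoc,
      Adjunction.left_triangle_components, Category.comp_id]
  rw [e]
  exact (Equiv.bijective _).comp key

end MV

end Groth.Agent.Lib.MVSqH4
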