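import Mathlib
import Groth.Prelude.Def_W4c3perfectstacksMV
import Groth.Agent.Lib.MVSq_helper4

set_option autoImplicit false
set_option linter.style.haveILetI false
set_option linter.unusedSectionVars false

universe v u

open CategoryTheory CategoryTheory.Limits CategoryTheory.Pretriangulated

namespace Groth.Agent.Lib.MVSq2H4

open Groth.Agent.Lib.MVSqH4

section Cat

variable {𝒜 : Type*} [Category 𝒜]

lemma isIso_of_comp_eq {A B C D : 𝒜} (ψ : A ⟶ B) (x : B ⟶ C) (u : A ⟶ D) (w : D ⟶ C)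
    (hx : IsIso x) (hu : IsIso u) (hw : IsIso w) (h : ψ ≫ x = u ≫ w) : IsIso ψ := by
  have e : ψ = (u ≫ w) ≫ inv x := by
    rw [← h, Category.assoc, IsIso.hom_inv_id, Category.comp_id]
  rw [e]
  infer_instance

lemma isIso_of_sq {A B C D : 𝒜} (u : A ⟶ B) (r : B ⟶ D) (l : A ⟶ C) (w : C ⟶ D)
    (hu : IsIso u) (hr : IsIso r) (hl : IsIso l) (h : u ≫ r = l ≫ w) : IsIso w := by
  have e : w = inv l ≫ u ≫ r := by
    rw [h, IsIso.inv_hom_id_assoc]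
  rw [e]
  infer_instance

variable {ℬ : Type*} [Category ℬ] {L : 𝒜 ⥤ ℬ} {Rt : ℬ ⥤ 𝒜} (adj : L ⊣ Rt)

lemma isIso_map_unit (h : IsIso adj.counit) (N : 𝒜) : IsIso (L.map (adj.unit.app N)) := by
  haveI := h
  have h' := adj.left_triangle_components N
  rw [IsIso.eq_inv_of_inv_hom_id h']
  infer_instance

lemma adj_star {N X : 𝒜} {N' P : ℬ} (α₁ : N ⟶ X) (α₂ : N ⟶ Rt.obj N') (y : L.obj X ⟶ P)
    (x : N' ⟶ P) (h : α₁ ≫ adj.unit.app X ≫ Rt.map y = α₂ ≫ Rt.map x) :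
    L.map α₁ ≫ y = (adj.homEquiv N N').symm α₂ ≫ x := by
  apply (adj.homEquiv N P).injective
  rw [Adjunction.homEquiv_naturality_right, Adjunction.homEquiv_naturality_right,
    Equiv.apply_symm_apply, ← h, Adjunction.homEquiv_unit, Category.assoc]
  exact (adj.unit.naturality_assoc α₁ _).symm

lemma unit_comp_map_symm {N : 𝒜} {P : ℬ} (α : N ⟶ Rt.obj P) :
    adj.unit.app N ≫ Rt.map ((adj.homEquiv N P).symm α) = α := by
  have h := Equiv.apply_symm_apply (adj.homEquiv N P) α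
  rwa [Adjunction.homEquiv_unit] at h

lemma hB_aux (F : 𝒜 ⥤ ℬ) (G : ℬ ⥤ 𝒜)
    {A B C : 𝒜} {M P : ℬ} (u : A ⟶ B) (s' : B ⟶ C) (α : A ⟶ C) (y : F.obj C ⟶ P)
    (ψ : F.obj A ⟶ M) (x : M ⟶ P) (h1 : u ≫ s' = α) (h2 : F.map α ≫ y = ψ ≫ x) :
    G.map (F.map u) ≫ G.map (F.map s') ≫ G.map y = G.map ψ ≫ G.map x := by
  subst h1
  have h3 := congrArg G.map h2
  simp only [CategoryTheory.Functor.map_comp, Category.assoc] at h3
  exact h3

end Cat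

section General

variable {𝒞 : Type u} [Category.{v} 𝒞] [Preadditive 𝒞] [HasZeroObject 𝒞] [HasShift 𝒞 ℤ]
  [∀ n : ℤ, (shiftFunctor 𝒞 n).Additive] [Pretriangulated 𝒞] [IsTriangulated 𝒞]

lemma isIso_neg_of {X Y : 𝒞} (f : X ⟶ Y) (h : IsIso f) : IsIso (-f) := by
  haveI := h
  exact ⟨⟨-inv f, by simp, by simp⟩⟩

lemma hvan_aux {Y N1 Q Q' : 𝒞} (d : Y ⟶ N1) (w : Q ⟶ Q') (hw : IsIso w)
    (hz : ∀ h : N1 ⟶ Q, d ≫ h = 0) (h : N1 ⟶ Q') : d ≫ h = 0 := by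
  haveI := hw
  have h0 := hz (h ≫ inv w)
  calc d ≫ h = (d ≫ h ≫ inv w) ≫ w := by simp
    _ = 0 := by rw [h0, zero_comp]

lemma comp_desc_neg {N X F Q : 𝒞} (a : N ⟶ X ⊞ F) (γ : X ⟶ Q) (b : F ⟶ Q)
    (h : a ≫ biprod.desc γ (-b) = 0) : (a ≫ biprod.fst) ≫ γ = (a ≫ biprod.snd) ≫ b := by
  have e : biprod.desc γ (-b) = biprod.fst ≫ γ - biprod.snd ≫ b := by
    apply biprod.hom_ext' <;> simp
  rw [e, Preadditive.comp_sub, ← Category.assoc, ← Category.assoc] at h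
  exact sub_eq_zero.mp h

lemma lemmaB {𝒟 : Type u} [Category.{v} 𝒟] [Preadditive 𝒟] [HasZeroObject 𝒟] [HasShift 𝒟 ℤ]
    [∀ n : ℤ, (shiftFunctor 𝒟 n).Additive] [Pretriangulated 𝒟] [IsTriangulated 𝒟]
    (G : 𝒞 ⥤ 𝒟) [G.CommShift ℤ] [G.IsTriangulated]
    {N X F Q : 𝒞} (a : N ⟶ X ⊞ F) (v : X ⊞ F ⟶ Q) (d : Q ⟶ N⟦(1 : ℤ)⟧)
    (hT : Triangle.mk a v d ∈ distTriang 𝒞)
    (hb : IsIso (G.map (biprod.inr ≫ v))) :
    IsIso (G.map (a ≫ (biprod.fst : X ⊞ F ⟶ X))) := by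
  obtain ⟨C₁, p, r, h₁₃⟩ := distinguished_cocone_triangle (a ≫ (biprod.fst : X ⊞ F ⟶ X))
  have h₂₃ : Triangle.mk (biprod.fst : X ⊞ F ⟶ X) (0 : X ⟶ F⟦(1 : ℤ)⟧)
      (-(biprod.inr : F ⟶ X ⊞ F)⟦(1 : ℤ)⟧') ∈ distTriang 𝒞 :=
    rot_of_distTriang _ (split_distinguished X F)
  have oct := Triangulated.someOctahedron
    (rfl : a ≫ (biprod.fst : X ⊞ F ⟶ X) = a ≫ biprod.fst) hT h₂₃ h₁₃
  have hmem := G.map_distinguished _ oct.mem
  have e2 : G.map ((biprod.inr ≫ v)⟦(1 : ℤ)⟧') ≫ (G.commShiftIso (1 : ℤ)).hom.app Q =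
      (G.commShiftIso (1 : ℤ)).hom.app F ≫ (G.map (biprod.inr ≫ v))⟦(1 : ℤ)⟧' :=
    (G.commShiftIso (1 : ℤ)).hom.naturality (biprod.inr ≫ v)
  have e3 : G.map ((-(biprod.inr : F ⟶ X ⊞ F)⟦(1 : ℤ)⟧') ≫ v⟦(1 : ℤ)⟧') =
      -(G.map ((biprod.inr ≫ v)⟦(1 : ℤ)⟧')) := by
    rw [Preadditive.neg_comp, ← CategoryTheory.Functor.map_comp, CategoryTheory.Functor.map_neg]
  have h3 : IsIso (G.map ((-(biprod.inr : F ⟶ X ⊞ F)⟦(1 : ℤ)⟧') ≫ v⟦(1 : ℤ)⟧') ≫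
      (G.commShiftIso (1 : ℤ)).hom.app Q) := by
    rw [e3, Preadditive.neg_comp, e2]
    haveI := hb
    exact isIso_neg_of _ inferInstance
  have hz : IsZero (G.obj C₁) := Triangle.isZero₂_of_isIso₃ _ hmem h3
  have h4 := G.map_distinguished _ h₁₃
  exact (Triangle.isZero₃_iff_isIso₁ _ h4).mp hz

lemma isIso_snd_of_isIso_map {X₁ F₁ X₂ F₂ : 𝒞} (s : X₁ ⟶ X₂) (t : F₁ ⟶ F₂)
    (h : IsIso (biprod.map s t)) : IsIso t := by
  haveI := h
  refine ⟨⟨biprod.inr ≫ inv (biprod.map s t) ≫ biprod.snd, ?_, ?_⟩⟩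
  · rw [← Category.assoc, ← biprod.inr_map (f := s), Category.assoc, IsIso.hom_inv_id_assoc,
      biprod.inr_snd]
  · rw [Category.assoc, Category.assoc, ← biprod.map_snd (f := s), IsIso.inv_hom_id_assoc,
      biprod.inr_snd]

lemma lemmaMid {N X₁ F₁ Q₁ X₂ F₂ Q₂ : 𝒞} (η₁ : N ⟶ X₁) (β₁ : N ⟶ F₁) (γ₁ : X₁ ⟶ Q₁)
    (b₁ : F₁ ⟶ Q₁) (d₁ : Q₁ ⟶ N⟦(1 : ℤ)⟧)
    (a₂ : N ⟶ X₂ ⊞ F₂) (γ₂ : X₂ ⟶ Q₂) (b₂ : F₂ ⟶ Q₂) (d₂ : Q₂ ⟶ N⟦(1 : ℤ)⟧)
    (h₁ : Triangle.mk (biprod.lift η₁ β₁) (biprod.desc γ₁ (-b₁)) d₁ ∈ distTriang 𝒞)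
    (h₂ : Triangle.mk a₂ (biprod.desc γ₂ (-b₂)) d₂ ∈ distTriang 𝒞)
    (s : X₁ ⟶ X₂) (t : F₁ ⟶ F₂) (k : Q₁ ⟶ Q₂) (hs : IsIso s) (hk : IsIso k)
    (hJ : η₁ ≫ s = a₂ ≫ biprod.fst) (hF : β₁ ≫ t = a₂ ≫ biprod.snd)
    (hG : s ≫ γ₂ = γ₁ ≫ k) (hB : b₁ ≫ k = t ≫ b₂)
    (hvan : ∀ h : N⟦(1 : ℤ)⟧ ⟶ Q₂, d₁ ≫ h = 0) : IsIso t := by
  have ha₂ : biprod.lift (a₂ ≫ biprod.fst) (a₂ ≫ biprod.snd) = a₂ := by
    apply biprod.hom_ext <;> simp
  have h₂' : Triangle.mk (biprod.lift (a₂ ≫ biprod.fst) (a₂ ≫ biprod.snd))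
      (biprod.desc γ₂ (-b₂)) d₂ ∈ distTriang 𝒞 := by
    rw [ha₂]; exact h₂
  have h3 : d₁ ≫ (𝟙 N)⟦(1 : ℤ)⟧' = k ≫ d₂ :=
    lemmaNat η₁ β₁ γ₁ b₁ d₁ (a₂ ≫ biprod.fst) (a₂ ≫ biprod.snd) γ₂ b₂ d₂ h₁ h₂' (𝟙 N) s t k
      ((Category.id_comp _).trans hJ.symm) ((Category.id_comp _).trans hF.symm) hG hB hvan
  have comm₁ : biprod.lift η₁ β₁ ≫ biprod.map s t =
      𝟙 N ≫ biprod.lift (a₂ ≫ biprod.fst) (a₂ ≫ biprod.snd) := by
    rw [Category.id_comp]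
    apply biprod.hom_ext
    · simp only [Category.assoc, biprod.map_fst, biprod.lift_fst_assoc, biprod.lift_fst]
      exact hJ
    · simp only [Category.assoc, biprod.map_snd, biprod.lift_snd_assoc, biprod.lift_snd]
      exact hF
  have comm₂ : biprod.desc γ₁ (-b₁) ≫ k = biprod.map s t ≫ biprod.desc γ₂ (-b₂) := by
    apply biprod.hom_ext'
    · simp only [biprod.inl_desc_assoc, biprod.inl_map_assoc, biprod.inl_desc]
      exact hG.symm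
    · simp only [biprod.inr_desc_assoc, biprod.inr_map_assoc, biprod.inr_desc,
        Preadditive.neg_comp, Preadditive.comp_neg, hB]
  let Φ : Triangle.mk (biprod.lift η₁ β₁) (biprod.desc γ₁ (-b₁)) d₁ ⟶
      Triangle.mk (biprod.lift (a₂ ≫ biprod.fst) (a₂ ≫ biprod.snd)) (biprod.desc γ₂ (-b₂)) d₂ :=
    Triangle.homMk _ _ (𝟙 N) (biprod.map s t) k comm₁ comm₂ h3
  have hmid : IsIso (biprod.map s t) :=
    isIso₂_of_isIso₁₃ Φ h₁ h₂'
      (by change IsIso (𝟙 N); infer_instance) (by change IsIso k; exact hk)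
  exact isIso_snd_of_isIso_map s t hmid

end General

section MV

variable {S S' R R' : Type u} [Category.{v} S] [Category.{v} S'] [Category.{v} R]
  [Category.{v} R']
  [Preadditive S] [Preadditive S'] [Preadditive R] [Preadditive R']
  [HasZeroObject S] [HasZeroObject S'] [HasZeroObject R] [HasZeroObject R']
  [HasShift S ℤ] [HasShift S' ℤ] [HasShift R ℤ] [HasShift R' ℤ]
  [∀ n : ℤ, (shiftFunctor S n).Additive] [∀ n : ℤ, (shiftFunctor S' n).Additive]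
  [∀ n : ℤ, (shiftFunctor R n).Additive] [∀ n : ℤ, (shiftFunctor R' n).Additive]
  [Pretriangulated S] [Pretriangulated S'] [Pretriangulated R] [Pretriangulated R']
  [IsTriangulated S] [IsTriangulated S'] [IsTriangulated R] [IsTriangulated R']
  (q : W4c3perfectstacks.MVSq S S' R R')
  [q.jst.CommShift ℤ] [q.fst.CommShift ℤ] [q.jpst.CommShift ℤ] [q.gst.CommShift ℤ]
  [q.jst.IsTriangulated] [q.fst.IsTriangulated] [q.jpst.IsTriangulated] [q.gst.IsTriangulated]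

lemma isZero_jst_fls (hq : q.IsMV) {M : S'} (hM : IsZero (q.jpst.obj M)) :
    IsZero (q.jst.obj (q.fls.obj M)) := by
  haveI := hq.isIso_bcApp M
  haveI : q.gls.Additive := q.adjG.right_adjoint_additive
  exact IsZero.of_iso (q.gls.map_isZero hM) (asIso (q.bcApp M))

lemma isIso_jst_fls_map (hq : q.IsMV) {M₁ M₂ : S'} (x : M₁ ⟶ M₂)
    (hx : IsIso (q.jpst.map x)) : IsIso (q.jst.map (q.fls.map x)) := by
  letI := q.adjF.rightAdjointCommShift ℤ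
  haveI := q.adjF.commShift_of_leftAdjoint ℤ
  haveI : q.fls.IsTriangulated := q.adjF.isTriangulated_rightAdjoint
  obtain ⟨K, y, z, hK⟩ := distinguished_cocone_triangle x
  have hK0 : IsZero (q.jpst.obj K) :=
    Triangle.isZero₃_of_isIso₁ _ (q.jpst.map_distinguished _ hK) hx
  have hfK : IsZero (q.jst.obj (q.fls.obj K)) := isZero_jst_fls q hq hK0
  have h2 := q.jst.map_distinguished _ (q.fls.map_distinguished _ hK)
  exact (Triangle.isZero₃_iff_isIso₁ _ h2).mp hfK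

lemma isIso_jpst_x (hq : q.IsMV) {N' : S'} {P : R'} (δ : q.jpst.obj N' ⟶ P) (hδ : IsIso δ) :
    IsIso (q.jpst.map (q.adjJp.unit.app N' ≫ q.jpls.map δ)) := by
  haveI := isIso_map_unit q.adjJp hq.isIso_counitJp N'
  haveI := hδ
  rw [CategoryTheory.Functor.map_comp]
  infer_instance

lemma isIso_jpst_fst_map {A B : S} (α : A ⟶ B) (h : IsIso (q.jst.map α)) :
    IsIso (q.jpst.map (q.fst.map α)) := by
  haveI := h
  exact isIso_of_sq (q.gst.map (q.jst.map α)) (q.e.hom.app B) (q.e.hom.app A)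
    (q.jpst.map (q.fst.map α)) inferInstance inferInstance inferInstance
    (q.e.hom.naturality α)

lemma isIso_of_fls_jpst (hq : q.IsMV) {M₁ M₂ : S'} (ψ : M₁ ⟶ M₂)
    (h1 : IsIso (q.jpst.map ψ)) (h2 : IsIso (q.fls.map ψ)) : IsIso ψ := by
  letI := q.adjF.rightAdjointCommShift ℤ
  haveI := q.adjF.commShift_of_leftAdjoint ℤ
  haveI : q.fls.IsTriangulated := q.adjF.isTriangulated_rightAdjoint
  obtain ⟨K, y, z, hK⟩ := distinguished_cocone_triangle ψ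
  have hK1 : IsZero (q.jpst.obj K) :=
    Triangle.isZero₃_of_isIso₁ _ (q.jpst.map_distinguished _ hK) h1
  have hK2 : IsZero (q.fls.obj K) :=
    Triangle.isZero₃_of_isIso₁ _ (q.fls.map_distinguished _ hK) h2
  have hiso : IsIso (q.adjF.counit.app K) := hq.isIso_counitF K hK1
  have hK3 : IsZero K :=
    IsZero.of_iso (q.fst.map_isZero hK2) (@asIso _ _ _ _ (q.adjF.counit.app K) hiso).symm
  exact (Triangle.isZero₃_iff_isIso₁ _ hK).mp hK3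

theorem main16410 (hq : q.IsMV) (NU : R) (N' : S') (δ : q.jpst.obj N' ≅ q.gst.obj NU) (N : S)
    (a : N ⟶ q.jls.obj NU ⊞ q.fls.obj N')
    (d : q.fls.obj (q.jpls.obj (q.gst.obj NU)) ⟶ N⟦(1 : ℤ)⟧)
    (hT : Triangle.mk a
      (biprod.desc (q.adjF.unit.app (q.jls.obj NU) ≫ q.fls.map (q.bc2App NU))
        (-(q.fls.map (q.adjJp.unit.app N' ≫ q.jpls.map δ.hom)))) d ∈ distTriang S) :
    IsIso ((q.adjJ.homEquiv N NU).symm (a ≫ biprod.fst)) ∧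
      IsIso ((q.adjF.homEquiv N N').symm (a ≫ biprod.snd)) := by
  have hbc2 : IsIso (q.bc2App NU) := hq.isIso_bc2App NU
  have hx : IsIso (q.jpst.map (q.adjJp.unit.app N' ≫ q.jpls.map δ.hom)) :=
    isIso_jpst_x q hq δ.hom inferInstance
  have hb : IsIso (q.jst.map (q.fls.map (q.adjJp.unit.app N' ≫ q.jpls.map δ.hom))) :=
    isIso_jst_fls_map q hq _ hx
  have hb' : IsIso (q.jst.map (biprod.inr ≫
      biprod.desc (q.adjF.unit.app (q.jls.obj NU) ≫ q.fls.map (q.bc2App NU))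
        (-(q.fls.map (q.adjJp.unit.app N' ≫ q.jpls.map δ.hom))))) := by
    rw [biprod.inr_desc, CategoryTheory.Functor.map_neg]
    exact isIso_neg_of _ hb
  have hα₁ : IsIso (q.jst.map (a ≫ biprod.fst)) := lemmaB q.jst a _ d hT hb'
  have hφU : IsIso ((q.adjJ.homEquiv N NU).symm (a ≫ biprod.fst)) := by
    haveI := hq.isIso_counitJ
    haveI := hα₁
    rw [Adjunction.homEquiv_counit]
    infer_instance
  refine ⟨hφU, ?_⟩
  have hzero := comp_desc_neg a _ _ (comp_distTriang_mor_zero₁₂ _ hT)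
  have star : q.fst.map (a ≫ biprod.fst) ≫ q.bc2App NU =
      (q.adjF.homEquiv N N').symm (a ≫ biprod.snd) ≫
        (q.adjJp.unit.app N' ≫ q.jpls.map δ.hom) :=
    adj_star q.adjF (a ≫ biprod.fst) (a ≫ biprod.snd) (q.bc2App NU) _ hzero
  have hψj : IsIso (q.jpst.map ((q.adjF.homEquiv N N').symm (a ≫ biprod.snd))) := by
    have e : q.jpst.map ((q.adjF.homEquiv N N').symm (a ≫ biprod.snd)) ≫
        q.jpst.map (q.adjJp.unit.app N' ≫ q.jpls.map δ.hom) =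
        q.jpst.map (q.fst.map (a ≫ biprod.fst)) ≫ q.jpst.map (q.bc2App NU) :=
      (q.jpst.map_comp _ _).symm.trans
        ((congrArg q.jpst.map star.symm).trans (q.jpst.map_comp _ _))
    exact isIso_of_comp_eq _ _ _ _ hx (isIso_jpst_fst_map q _ hα₁)
      (by haveI := hbc2; infer_instance) e
  obtain ⟨d₁, hd₁⟩ := exists_d q hq N
  have hfψ : IsIso (q.fls.map ((q.adjF.homEquiv N N').symm (a ≫ biprod.snd))) := by
    refine lemmaMid _ _ _ _ d₁ a _ _ d hd₁ hT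
      (q.jls.map ((q.adjJ.homEquiv N NU).symm (a ≫ biprod.fst)))
      (q.fls.map ((q.adjF.homEquiv N N').symm (a ≫ biprod.snd)))
      (q.fls.map (q.fst.map (q.jls.map ((q.adjJ.homEquiv N NU).symm (a ≫ biprod.fst)))) ≫
        q.fls.map (q.bc2App NU))
      ?_ ?_ ?_ ?_ ?_ ?_ ?_
    · haveI := hφU
      infer_instance
    · haveI := hφU
      haveI := hbc2
      infer_instance
    · exact unit_comp_map_symm q.adjJ (a ≫ biprod.fst)
    · exact unit_comp_map_symm q.adjF (a ≫ biprod.snd)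
    · exact q.adjF.unit.naturality_assoc
        (q.jls.map ((q.adjJ.homEquiv N NU).symm (a ≫ biprod.fst))) (q.fls.map (q.bc2App NU))
    · exact hB_aux q.fst q.fls (q.adjJ.unit.app N)
        (q.jls.map ((q.adjJ.homEquiv N NU).symm (a ≫ biprod.fst))) (a ≫ biprod.fst)
        (q.bc2App NU) _ _ (unit_comp_map_symm q.adjJ (a ≫ biprod.fst)) star
    · intro h
      haveI := hbc2
      exact hvan_aux d₁ (q.fls.map (q.bc2App NU)) inferInstance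
        (fun h' => d_comp_eq_zero q hq N d₁ (d_comp_fst_shift _ _ _ d₁ hd₁) NU h') h
  exact isIso_of_fls_jpst q hq _ hψj hfψ

end MV

end Groth.Agent.Lib.MVSq2H4
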