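import Mathlib
import Groth.Prelude.Def_W4c3perfectstacksMV
import Groth.Prelude.Def_CohDer
import Groth.Agent.Lib.MVSq_helper4
import Groth.Agent.Lib.CompactTri_helper9

set_option autoImplicit false
set_option linter.style.haveILetI false
set_option linter.unusedSectionVars false

universe v u

open CategoryTheory CategoryTheory.Limits CategoryTheory.Pretriangulated

namespace Groth.Agent.Lib.MVSq3H4

open Groth.Agent.Lib.MVSqH4 FinFactor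

section Cat

lemma paste3 {𝒜 : Type*} [Category 𝒜] {A₁ A₂ B₁ B₂ C₁ C₂ D₁ D₂ : 𝒜}
    (x : A₁ ⟶ A₂) (η₁ : A₁ ⟶ B₁) (η₂ : A₂ ⟶ B₂) (x' : B₁ ⟶ B₂) (u₁ : B₁ ⟶ C₁) (u₂ : B₂ ⟶ C₂)
    (x'' : C₁ ⟶ C₂) (w₁ : C₁ ⟶ D₁) (w₂ : C₂ ⟶ D₂) (x''' : D₁ ⟶ D₂)
    (h1 : x ≫ η₂ = η₁ ≫ x') (h2 : x' ≫ u₂ = u₁ ≫ x'') (h3 : x'' ≫ w₂ = w₁ ≫ x''') :
    x ≫ η₂ ≫ u₂ ≫ w₂ = (η₁ ≫ u₁ ≫ w₁) ≫ x''' := by
  rw [reassoc_of% h1, reassoc_of% h2, h3, Category.assoc, Category.assoc]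

lemma sub_comp_eq_zero {𝒜 : Type*} [Category 𝒜] [Preadditive 𝒜] {A Y M : 𝒜} (g : A ⟶ Y)
    (ε : Y ⟶ Y) (η : Y ⟶ M) (ε' : M ⟶ M)
    (nat : ε ≫ η = η ≫ ε') (h : (g ≫ η) ≫ ε' = g ≫ η) : (g - g ≫ ε) ≫ η = 0 := by
  rw [Preadditive.sub_comp, Category.assoc, nat, ← Category.assoc, h, sub_self]

lemma finSupp_adj {𝒮 𝒯 : Type*} [Category 𝒮] [Category 𝒯] {L : 𝒮 ⥤ 𝒯} {Rt : 𝒯 ⥤ 𝒮}
    (adj : L ⊣ Rt) {N : 𝒮} {Z : 𝒯} (θ : N ⟶ Rt.obj Z) (ε : Z ⟶ Z)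
    (h : (adj.homEquiv N Z).symm θ ≫ ε = (adj.homEquiv N Z).symm θ) :
    θ ≫ Rt.map ε = θ := by
  have h2 := congrArg (adj.homEquiv N Z) h
  rwa [Adjunction.homEquiv_naturality_right, Equiv.apply_symm_apply] at h2

end Cat

section FFgen

variable {𝒮 : Type u} [Category.{v} 𝒮] [Preadditive 𝒮] [HasCoproducts.{v} 𝒮]
  {𝒯 : Type u} [Category.{v} 𝒯] [Preadditive 𝒯] [HasCoproducts.{v} 𝒯]

lemma ff_of_iso {K K' : 𝒯} (κ : K' ≅ K) (hK : FF K) : FF K' := by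
  intro ι X g
  have h := finSupp_precomp κ.hom (hK ι X (κ.inv ≫ g))
  rwa [κ.hom_inv_id_assoc] at h

lemma e_functor (H : 𝒮 ⥤ 𝒯) [H.PreservesZeroMorphisms] {ι : Type v} (X : ι → 𝒮)
    [PreservesColimit (Discrete.functor X) H] (s : Set ι) :
    e (fun k => H.obj (X k)) s ≫ (PreservesCoproduct.iso H X).inv =
      (PreservesCoproduct.iso H X).inv ≫ H.map (e X s) := by
  apply Sigma.hom_ext
  intro k
  have h1 : Sigma.ι (fun k => H.obj (X k)) k ≫ (PreservesCoproduct.iso H X).inv =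
      H.map (Sigma.ι X k) := ι_comp_sigmaComparison H X k
  by_cases hk : k ∈ s
  · rw [← Category.assoc, ι_e_of_mem _ hk, h1, ← Category.assoc, h1,
      ← CategoryTheory.Functor.map_comp, ι_e_of_mem _ hk]
  · rw [← Category.assoc, ι_e_of_not_mem _ hk, zero_comp, ← Category.assoc, h1,
      ← CategoryTheory.Functor.map_comp, ι_e_of_not_mem _ hk, CategoryTheory.Functor.map_zero]

lemma finSupp_functor (H : 𝒮 ⥤ 𝒯) [H.PreservesZeroMorphisms] {K : 𝒯} (hK : FF K)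
    {ι : Type v} (X : ι → 𝒮) [PreservesColimit (Discrete.functor X) H]
    (θ : K ⟶ H.obj (∐ X)) : ∃ s : Finset ι, θ ≫ H.map (e X (s : Set ι)) = θ := by
  obtain ⟨s, hs⟩ := hK ι (fun k => H.obj (X k)) (θ ≫ (PreservesCoproduct.iso H X).hom)
  refine ⟨s, ?_⟩
  calc θ ≫ H.map (e X (s : Set ι))
      = (θ ≫ (PreservesCoproduct.iso H X).hom) ≫
          ((PreservesCoproduct.iso H X).inv ≫ H.map (e X (s : Set ι))) := by
        rw [Category.assoc, Iso.hom_inv_id_assoc]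
    _ = ((θ ≫ (PreservesCoproduct.iso H X).hom) ≫ e (fun k => H.obj (X k)) (s : Set ι)) ≫
          (PreservesCoproduct.iso H X).inv := by
        rw [← e_functor]
        simp only [Category.assoc]
    _ = θ := by rw [hs, Category.assoc, Iso.hom_inv_id, Category.comp_id]

lemma supp_mono_functor (G : 𝒮 ⥤ 𝒯) {K : 𝒯} {ι : Type v} (X : ι → 𝒮)
    {θ : K ⟶ G.obj (∐ X)} {s t : Set ι} (h : s ⊆ t) (hθ : θ ≫ G.map (e X s) = θ) :
    θ ≫ G.map (e X t) = θ := by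
  rw [← hθ, Category.assoc, ← G.map_comp, e_comp_of_subset X h]

lemma finSupp_adj_ff {L : 𝒮 ⥤ 𝒯} {Rt : 𝒯 ⥤ 𝒮} (adj : L ⊣ Rt) [L.PreservesZeroMorphisms]
    {N : 𝒮} (hN : FF (L.obj N)) {ι : Type v} (X : ι → 𝒮) (θ : N ⟶ Rt.obj (L.obj (∐ X))) :
    ∃ s : Finset ι, θ ≫ Rt.map (L.map (e X (s : Set ι))) = θ := by
  haveI : PreservesColimitsOfSize.{v, v} L := adj.leftAdjoint_preservesColimits
  obtain ⟨s, hs⟩ := finSupp_functor L hN X ((adj.homEquiv N _).symm θ)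
  exact ⟨s, finSupp_adj adj θ _ hs⟩

end FFgen

section Tri

variable {𝒞 : Type u} [Category.{v} 𝒞] [Preadditive 𝒞] [HasZeroObject 𝒞] [HasShift 𝒞 ℤ]
  [∀ n : ℤ, (shiftFunctor 𝒞 n).Additive] [Pretriangulated 𝒞] [HasCoproducts.{v} 𝒞]

lemma lift_through_d {A N M Q : 𝒞} (u : N ⟶ M) (v : M ⟶ Q) (d : Q ⟶ N⟦(1 : ℤ)⟧)
    (hd : Triangle.mk u v d ∈ distTriang 𝒞) (g' : A ⟶ N) (h0 : g' ≫ u = 0) :
    ∃ θ : A⟦(1 : ℤ)⟧ ⟶ Q, g'⟦(1 : ℤ)⟧' = θ ≫ d := by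
  have h0' : g'⟦(1 : ℤ)⟧' ≫ u⟦(1 : ℤ)⟧' = 0 := by
    rw [← CategoryTheory.Functor.map_comp, h0, CategoryTheory.Functor.map_zero]
  exact Triangle.coyoneda_exact₁ _ hd _ h0'

lemma finSupp_of_triangle {A : 𝒞} {ι : Type v} (X : ι → 𝒞) (g' : A ⟶ ∐ X) {M Q : 𝒞}
    (u : ∐ X ⟶ M) (v : M ⟶ Q) (d : Q ⟶ (∐ X)⟦(1 : ℤ)⟧)
    (hd : Triangle.mk u v d ∈ distTriang 𝒞) (h0 : g' ≫ u = 0)
    (hfs : ∀ θ : A⟦(1 : ℤ)⟧ ⟶ Q, ∃ (s : Finset ι) (ε' : Q ⟶ Q), θ ≫ ε' = θ ∧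
      d ≫ (e X (s : Set ι))⟦(1 : ℤ)⟧' = ε' ≫ d) : FinSupp g' := by
  obtain ⟨θ, hθ⟩ := lift_through_d u v d hd g' h0
  obtain ⟨s, ε', h1, h2⟩ := hfs θ
  refine ⟨s, ?_⟩
  apply (shiftFunctor 𝒞 (1 : ℤ)).map_injective
  rw [CategoryTheory.Functor.map_comp, hθ, Category.assoc, h2, ← Category.assoc, h1]

end Tri

section MV

variable {S S' R R' : Type u} [Category.{v} S] [Category.{v} S'] [Category.{v} R]
  [Category.{v} R']
  [Preadditive S] [Preadditive S'] [Preadditive R] [Preadditive R']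
  [HasZeroObject S] [HasZeroObject S'] [HasZeroObject R] [HasZeroObject R']
  [HasShift S ℤ] [HasShift S' ℤ] [HasShift R ℤ] [HasShift R' ℤ]
  [∀ n : ℤ, (shiftFunctor S n).Additive] [∀ n : ℤ, (shiftFunctor S' n).Additive]
  [∀ n : ℤ, (shiftFunctor R n).Additive] [∀ n : ℤ, (shiftFunctor R' n).Additive]
  [Pretriangulated S] [Pretriangulated S'] [Pretriangulated R] [Pretriangulated R']
  [IsTriangulated S] [IsTriangulated S'] [IsTriangulated R] [IsTriangulated R']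
  (q : W4c3perfectstacks.MVSq S S' R R')
  [q.jst.CommShift ℤ] [q.fst.CommShift ℤ] [q.jpst.CommShift ℤ] [q.gst.CommShift ℤ]
  [q.jst.IsTriangulated] [q.fst.IsTriangulated] [q.jpst.IsTriangulated] [q.gst.IsTriangulated]
  [HasCoproducts.{v} S] [HasCoproducts.{v} S'] [HasCoproducts.{v} R] [HasCoproducts.{v} R']

lemma bc2App_naturality {P₁ P₂ : R} (p : P₁ ⟶ P₂) :
    q.fst.map (q.jls.map p) ≫ q.bc2App P₂ = q.bc2App P₁ ≫ q.jpls.map (q.gst.map p) := by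
  have h1 : q.fst.map (q.jls.map p) ≫ q.adjJp.unit.app (q.fst.obj (q.jls.obj P₂)) =
      q.adjJp.unit.app (q.fst.obj (q.jls.obj P₁)) ≫
        q.jpls.map (q.jpst.map (q.fst.map (q.jls.map p))) :=
    q.adjJp.unit.naturality (q.fst.map (q.jls.map p))
  have h2' : q.jpst.map (q.fst.map (q.jls.map p)) ≫ q.e.inv.app (q.jls.obj P₂) =
      q.e.inv.app (q.jls.obj P₁) ≫ q.gst.map (q.jst.map (q.jls.map p)) :=
    q.e.inv.naturality (q.jls.map p)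
  have h2 : q.jpls.map (q.jpst.map (q.fst.map (q.jls.map p))) ≫
      q.jpls.map (q.e.inv.app (q.jls.obj P₂)) =
      q.jpls.map (q.e.inv.app (q.jls.obj P₁)) ≫
        q.jpls.map (q.gst.map (q.jst.map (q.jls.map p))) :=
    (q.jpls.map_comp _ _).symm.trans ((congrArg q.jpls.map h2').trans (q.jpls.map_comp _ _))
  have h3' : q.jst.map (q.jls.map p) ≫ q.adjJ.counit.app P₂ = q.adjJ.counit.app P₁ ≫ p :=
    q.adjJ.counit.naturality p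
  have h3 : q.jpls.map (q.gst.map (q.jst.map (q.jls.map p))) ≫
      q.jpls.map (q.gst.map (q.adjJ.counit.app P₂)) =
      q.jpls.map (q.gst.map (q.adjJ.counit.app P₁)) ≫ q.jpls.map (q.gst.map p) :=
    ((q.gst ⋙ q.jpls).map_comp _ _).symm.trans
      ((congrArg (q.gst ⋙ q.jpls).map h3').trans ((q.gst ⋙ q.jpls).map_comp _ _))
  exact paste3 _ _ _ _ _ _ _ _ _ _ h1 h2 h3

lemma finSupp_Q (hq : q.IsMV) {W : S} (hW : FF (q.jpst.obj (q.fst.obj W))) {ι : Type v}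
    (X : ι → S) (θ : W ⟶ q.fls.obj (q.fst.obj (q.jls.obj (q.jst.obj (∐ X))))) :
    ∃ s : Finset ι,
      θ ≫ q.fls.map (q.fst.map (q.jls.map (q.jst.map (e X (s : Set ι))))) = θ := by
  haveI : PreservesColimitsOfSize.{v, v} q.jst := q.adjJ.leftAdjoint_preservesColimits
  haveI : PreservesColimitsOfSize.{v, v} q.gst := q.adjG.leftAdjoint_preservesColimits
  haveI := hq.isIso_bc2App (q.jst.obj (∐ X))
  obtain ⟨s, hs⟩ := finSupp_functor (q.jst ⋙ q.gst) hW X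
    ((q.adjJp.homEquiv _ _).symm
      ((q.adjF.homEquiv W _).symm θ ≫ q.bc2App (q.jst.obj (∐ X))))
  refine ⟨s, ?_⟩
  have h2 : ((q.adjF.homEquiv W _).symm θ ≫ q.bc2App (q.jst.obj (∐ X))) ≫
      q.jpls.map (q.gst.map (q.jst.map (e X (s : Set ι)))) =
      (q.adjF.homEquiv W _).symm θ ≫ q.bc2App (q.jst.obj (∐ X)) :=
    finSupp_adj q.adjJp _ _ hs
  have h1 : (q.adjF.homEquiv W _).symm θ ≫
      q.fst.map (q.jls.map (q.jst.map (e X (s : Set ι)))) =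
      (q.adjF.homEquiv W _).symm θ := by
    apply (cancel_mono (q.bc2App (q.jst.obj (∐ X)))).mp
    calc ((q.adjF.homEquiv W _).symm θ ≫
          q.fst.map (q.jls.map (q.jst.map (e X (s : Set ι))))) ≫ q.bc2App (q.jst.obj (∐ X))
        = (q.adjF.homEquiv W _).symm θ ≫
          (q.fst.map (q.jls.map (q.jst.map (e X (s : Set ι)))) ≫
            q.bc2App (q.jst.obj (∐ X))) := Category.assoc _ _ _
      _ = (q.adjF.homEquiv W _).symm θ ≫ (q.bc2App (q.jst.obj (∐ X)) ≫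
            q.jpls.map (q.gst.map (q.jst.map (e X (s : Set ι))))) := by
          rw [bc2App_naturality]
      _ = ((q.adjF.homEquiv W _).symm θ ≫ q.bc2App (q.jst.obj (∐ X))) ≫
            q.jpls.map (q.gst.map (q.jst.map (e X (s : Set ι)))) := (Category.assoc _ _ _).symm
      _ = (q.adjF.homEquiv W _).symm θ ≫ q.bc2App (q.jst.obj (∐ X)) := h2
  exact finSupp_adj q.adjF θ _ h1

lemma ff_W (N : S) (h : FF (q.gst.obj (q.jst.obj N))) :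
    FF (q.jpst.obj (q.fst.obj (N⟦(1 : ℤ)⟧))) := by
  have κ : q.jpst.obj (q.fst.obj (N⟦(1 : ℤ)⟧)) ≅ (q.gst.obj (q.jst.obj N))⟦(1 : ℤ)⟧ :=
    (q.e.app (N⟦(1 : ℤ)⟧)).symm ≪≫ q.gst.mapIso ((q.jst.commShiftIso (1 : ℤ)).app N) ≪≫
      (q.gst.commShiftIso (1 : ℤ)).app (q.jst.obj N)
  exact ff_of_iso κ (ff_shift h 1)

theorem main16411 (hq : q.IsMV) (N : S) (hU : CohDer.IsCompactObject (q.jst.obj N))
    (hX' : CohDer.IsCompactObject (q.fst.obj N))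
    (hU' : CohDer.IsCompactObject (q.gst.obj (q.jst.obj N))) : CohDer.IsCompactObject N := by
  rw [CompactTri.isCompactObject_iff_ff] at hU hX' hU' ⊢
  intro ι X g
  classical
  obtain ⟨s₁, hs₁⟩ := finSupp_adj_ff q.adjJ hU X (g ≫ q.adjJ.unit.app (∐ X))
  obtain ⟨s₂, hs₂⟩ := finSupp_adj_ff q.adjF hX' X (g ≫ q.adjF.unit.app (∐ X))
  have hJ : (g ≫ q.adjJ.unit.app (∐ X)) ≫
      q.jls.map (q.jst.map (e X ((s₁ ∪ s₂ : Finset ι) : Set ι))) =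
      g ≫ q.adjJ.unit.app (∐ X) :=
    supp_mono_functor (q.jst ⋙ q.jls) X (Finset.coe_subset.mpr Finset.subset_union_left) hs₁
  have hF : (g ≫ q.adjF.unit.app (∐ X)) ≫
      q.fls.map (q.fst.map (e X ((s₁ ∪ s₂ : Finset ι) : Set ι))) =
      g ≫ q.adjF.unit.app (∐ X) :=
    supp_mono_functor (q.fst ⋙ q.fls) X (Finset.coe_subset.mpr Finset.subset_union_right) hs₂
  have hg'J : (g - g ≫ e X ((s₁ ∪ s₂ : Finset ι) : Set ι)) ≫ q.adjJ.unit.app (∐ X) = 0 :=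
    sub_comp_eq_zero g _ _ _ (q.adjJ.unit.naturality (e X ((s₁ ∪ s₂ : Finset ι) : Set ι))) hJ
  have hg'F : (g - g ≫ e X ((s₁ ∪ s₂ : Finset ι) : Set ι)) ≫ q.adjF.unit.app (∐ X) = 0 :=
    sub_comp_eq_zero g _ _ _ (q.adjF.unit.naturality (e X ((s₁ ∪ s₂ : Finset ι) : Set ι))) hF
  obtain ⟨d, hd⟩ := exists_d q hq (∐ X)
  have h0 : (g - g ≫ e X ((s₁ ∪ s₂ : Finset ι) : Set ι)) ≫
      biprod.lift (q.adjJ.unit.app (∐ X)) (q.adjF.unit.app (∐ X)) = 0 := by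
    apply biprod.hom_ext
    · rw [Category.assoc, biprod.lift_fst, zero_comp]
      exact hg'J
    · rw [Category.assoc, biprod.lift_snd, zero_comp]
      exact hg'F
  have hfin : FinSupp (g - g ≫ e X ((s₁ ∪ s₂ : Finset ι) : Set ι)) := by
    refine finSupp_of_triangle X _ _ _ d hd h0 (fun θ => ?_)
    obtain ⟨s₃, hs₃⟩ := finSupp_Q q hq (ff_W q N hU') X θ
    exact ⟨s₃, _, hs₃, main16408 q hq _ _ (e X (s₃ : Set ι)) d d hd hd⟩
  have hfin2 : FinSupp (g ≫ e X ((s₁ ∪ s₂ : Finset ι) : Set ι)) :=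
    ⟨s₁ ∪ s₂, by rw [Category.assoc, e_comp_of_subset X (subset_refl _)]⟩
  have hsum : g = (g - g ≫ e X ((s₁ ∪ s₂ : Finset ι) : Set ι)) +
      g ≫ e X ((s₁ ∪ s₂ : Finset ι) : Set ι) := (sub_add_cancel _ _).symm
  rw [hsum]
  exact finSupp_add hfin hfin2

end MV

end Groth.Agent.Lib.MVSq3H4
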