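import Mathlib

/-!
# MacLane's criterion (one direction): separably generated ⟹ `p`-th powers preserve linear independence
-/

set_option autoImplicit false
set_option maxSynthPendingDepth 3

open IntermediateField

namespace Groth.Agent.Lib.MacLaneH3

universe u v

open scoped IntermediateField.algebraAdjoinAdjoin in
/-- Step 1: a `k`-linearly independent family of an algebraic subextension `k'` stays linearly
independent over `k(x)` for `x` algebraically independent. -/
theorem linearIndependent_adjoin_of_algebraicIndependent
    {k Ω : Type*} [Field k] [Field Ω] [Algebra k Ω] {ι : Type*} (x : ι → Ω)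
    (hx : AlgebraicIndependent k x) (k' : IntermediateField k Ω) [Algebra.IsAlgebraic k k']
    {β : Type*} (e : β → k') (he : LinearIndependent k e) :
    LinearIndependent (IntermediateField.adjoin k (Set.range x)) (fun b => (e b : Ω)) := by
  have hx' : AlgebraicIndependent k' x := hx.extendScalars k'
  refine (LinearIndependent.iff_fractionRing (Algebra.adjoin k (Set.range x))
    (IntermediateField.adjoin k (Set.range x))).1 ?_
  rw [linearIndependent_iff']
  intro T g hg b hb
  have hmem : ∀ b, ∃ P : MvPolynomial ι k, MvPolynomial.aeval x P = (g b : Ω) := by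
    intro b
    have h0 : ∀ y : Ω, y ∈ Algebra.adjoin k (Set.range x) → y ∈ (MvPolynomial.aeval x : MvPolynomial ι k →ₐ[k] Ω).range := by
      intro y hy
      rwa [Algebra.adjoin_range_eq_range_aeval] at hy
    exact h0 _ (g b).2
  choose P hP using hmem
  let G : MvPolynomial ι k' := ∑ b ∈ T, MvPolynomial.C (e b) * MvPolynomial.map (algebraMap k k') (P b)
  have hG : MvPolynomial.aeval x G = 0 := by
    simp only [G, map_sum, map_mul, MvPolynomial.aeval_C, MvPolynomial.aeval_map_algebraMap, hP]
    rw [← hg]
    refine Finset.sum_congr rfl fun b _ => ?_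
    rw [mul_comm]
    rfl
  have hG0 : G = 0 := by
    apply hx'
    rw [hG, map_zero]
  have hcoef : ∀ σ, ∀ b ∈ T, MvPolynomial.coeff σ (P b) = 0 := by
    intro σ
    have h1 : ∑ b ∈ T, MvPolynomial.coeff σ (P b) • e b = 0 := by
      have h2 := congrArg (MvPolynomial.coeff σ) hG0
      simp only [G, MvPolynomial.coeff_sum, MvPolynomial.coeff_C_mul, MvPolynomial.coeff_map,
        MvPolynomial.coeff_zero] at h2
      rw [← h2]
      refine Finset.sum_congr rfl fun b _ => ?_
      rw [Algebra.smul_def, mul_comm]
    exact linearIndependent_iff'.1 he T _ h1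
  have hPb : P b = 0 := by
    ext σ
    simpa using hcoef σ b hb
  apply Subtype.ext
  rw [← hP b, hPb, map_zero]
  rfl


/-- Lemma A: inside a field `Ω` containing `p`-th roots of elements of `k`: a `k`-linearly independent
finite family of elements separable over `k(x)` has `k`-linearly independent `p`-th powers. -/
theorem linearIndependent_pow_of_isSeparable_adjoin
    {k Ω : Type*} [Field k] [Field Ω] [Algebra k Ω] (p : ℕ) [ExpChar k p]
    (hroot : ∀ c : k, ∃ d : Ω, d ^ p = algebraMap k Ω c)
    {ι : Type*} (x : ι → Ω) (hx : AlgebraicIndependent k x)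
    {I : Type*} [Fintype I] (v : I → Ω) (hv : LinearIndependent k v)
    (hsep : ∀ i, IsSeparable (IntermediateField.adjoin k (Set.range x)) (v i)) :
    LinearIndependent k (fun i => v i ^ p) := by
  classical
  haveI : ExpChar Ω p := expChar_of_injective_algebraMap (algebraMap k Ω).injective p
  rw [Fintype.linearIndependent_iff]
  intro c hc
  choose d hd using fun i => hroot (c i)
  have hsum : ∑ i, d i * v i = 0 := by
    have h1 : (∑ i, d i * v i) ^ p = 0 := by
      rw [sum_pow_char p]
      rw [← hc]
      refine Finset.sum_congr rfl fun i _ => ?_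
      rw [mul_pow, hd, Algebra.smul_def]
    exact pow_eq_zero_iff (expChar_pos Ω p).ne' |>.1 h1
  -- the fields
  obtain ⟨F, hF⟩ : ∃ F : IntermediateField k Ω, F = IntermediateField.adjoin k (Set.range x) := ⟨_, rfl⟩
  rw [← hF] at hsep
  haveI : ExpChar F p := expChar_of_injective_algebraMap (algebraMap k F).injective p
  let E : IntermediateField F Ω := IntermediateField.adjoin F (Set.range d)
  haveI hpi : IsPurelyInseparable F E := by
    rw [IntermediateField.isPurelyInseparable_adjoin_iff_pow_mem F Ω p]
    rintro _ ⟨i, rfl⟩
    refine ⟨1, algebraMap k F (c i), ?_⟩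
    rw [pow_one, hd]
    rfl
  let S : IntermediateField F Ω := separableClosure F Ω
  have hLD : S.LinearDisjoint E :=
    IntermediateField.linearDisjoint_of_isPurelyInseparable_of_isSeparable E S
  -- k' and its basis
  let k' : IntermediateField k Ω := IntermediateField.adjoin k (Set.range d)
  haveI : Algebra.IsAlgebraic k k' := by
    apply IntermediateField.isAlgebraic_adjoin
    rintro _ ⟨i, rfl⟩
    refine IsIntegral.of_pow (expChar_pos k p) ?_
    rw [hd]
    exact isIntegral_algebraMap
  let e := Module.Basis.ofVectorSpace k k'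
  have hstep1 : LinearIndependent F (fun b => ((e b : k') : Ω)) := by
    rw [hF]
    exact linearIndependent_adjoin_of_algebraicIndependent x hx k' e e.linearIndependent
  have hk'E : ∀ y : Ω, y ∈ k' → y ∈ E := by
    intro y hy
    have hle : k' ≤ E.restrictScalars k := by
      rw [IntermediateField.adjoin_le_iff]
      rintro _ ⟨i, rfl⟩
      exact IntermediateField.subset_adjoin F _ ⟨i, rfl⟩
    exact hle hy
  let e' : Module.Basis.ofVectorSpaceIndex k k' → E := fun b => ⟨((e b : k') : Ω), hk'E _ (e b).2⟩
  have he' : LinearIndependent F e' := by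
    refine LinearIndependent.of_comp E.val.toLinearMap ?_
    exact hstep1
  have hS : LinearIndependent S (fun b => ((e b : k') : Ω)) := hLD.linearIndependent_right' he'
  -- coordinates of the d i
  let D : I → (Module.Basis.ofVectorSpaceIndex k k' →₀ k) := fun i =>
    e.repr ⟨d i, IntermediateField.subset_adjoin k _ ⟨i, rfl⟩⟩
  have hD : ∀ i, d i = ∑ b ∈ (D i).support, algebraMap k Ω (D i b) * ((e b : k') : Ω) := by
    intro i
    have h1 := e.linearCombination_repr ⟨d i, IntermediateField.subset_adjoin k _ ⟨i, rfl⟩⟩
    have h2 := congrArg (fun y : k' => (y : Ω)) h1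
    simp only [Finsupp.linearCombination_apply, Finsupp.sum] at h2
    rw [← h2]
    simp only [AddSubmonoidClass.coe_finsetSum]
    refine Finset.sum_congr rfl fun b _ => ?_
    rw [IntermediateField.coe_smul, Algebra.smul_def]
  -- the v i in S
  let v' : I → S := fun i => ⟨v i, (mem_separableClosure_iff).2 (hsep i)⟩
  have key : ∀ b, ∑ i, D i b • v i = 0 := by
    let A : Module.Basis.ofVectorSpaceIndex k k' →₀ S :=
      ∑ i, v' i • (D i).mapRange (algebraMap k S) (map_zero _)
    have hA : Finsupp.linearCombination S (fun b => ((e b : k') : Ω)) A = 0 := by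
      simp only [A, map_sum, map_smul]
      rw [← hsum]
      refine Finset.sum_congr rfl fun i _ => ?_
      have h1 : Finsupp.linearCombination S (fun b => ((e b : k') : Ω))
          ((D i).mapRange (algebraMap k S) (map_zero _)) = d i := by
        rw [Finsupp.linearCombination_apply, Finsupp.sum_mapRange_index (by intro a; exact zero_smul _ _)]
        rw [hD i, Finsupp.sum]
        refine Finset.sum_congr rfl fun b _ => ?_
        rfl
      rw [h1, mul_comm]
      rfl
    have hA0 : A = 0 := (linearIndependent_iff.1 hS) A hA
    intro b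
    have h1 := DFunLike.congr_fun hA0 b
    simp only [A, Finsupp.coe_finsetSum, Finsupp.coe_smul, Finset.sum_apply, Pi.smul_apply,
      Finsupp.mapRange_apply, Finsupp.coe_zero, Pi.zero_apply] at h1
    have h2 := congrArg (fun y : S => (y : Ω)) h1
    simp only [AddSubmonoidClass.coe_finsetSum, ZeroMemClass.coe_zero] at h2
    rw [← h2]
    refine Finset.sum_congr rfl fun i _ => ?_
    rw [Algebra.smul_def, mul_comm]
    rfl
  have hDi : ∀ i, D i = 0 := by
    intro i
    ext b
    exact (Fintype.linearIndependent_iff.1 hv) (fun i => D i b) (key b) i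
  intro i
  have hdi : d i = 0 := by
    rw [hD i, hDi i]
    simp
  have h3 : algebraMap k Ω (c i) = 0 := by
    rw [← hd i, hdi, zero_pow (expChar_pos Ω p).ne']
  exact (map_eq_zero _).1 h3


/-- Lemma B: if `K/k` has a separating transcendence basis, then `p`-th powers preserve
`k`-linear independence in `K`. -/
theorem linearIndependent_pow_of_separablyGenerated
    {k K : Type*} [Field k] [Field K] [Algebra k K] (p : ℕ) [ExpChar k p]
    {ι : Type*} (x : ι → K) (hx : AlgebraicIndependent k x)
    (hsep : Algebra.IsSeparable (IntermediateField.adjoin k (Set.range x)) K)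
    {I : Type*} [Fintype I] (v : I → K) (hv : LinearIndependent k v) :
    LinearIndependent k (fun i => v i ^ p) := by
  classical
  let Ω := AlgebraicClosure K
  let φ : K →ₐ[k] Ω := IsScalarTower.toAlgHom k K Ω
  have hφ : Function.Injective φ := φ.toRingHom.injective
  have hroot : ∀ c : k, ∃ d : Ω, d ^ p = algebraMap k Ω c := fun c =>
    IsAlgClosed.exists_pow_nat_eq _ (expChar_pos k p)
  have hx' : AlgebraicIndependent k (φ ∘ x) := hx.map' hφ
  have hv' : LinearIndependent k (φ ∘ v) :=
    hv.map' φ.toLinearMap (LinearMap.ker_eq_bot_of_injective hφ)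
  have hsep' : ∀ i, IsSeparable (IntermediateField.adjoin k (Set.range (φ ∘ x))) ((φ ∘ v) i) := by
    intro i
    obtain ⟨F, hF⟩ : ∃ F : IntermediateField k K, F = IntermediateField.adjoin k (Set.range x) := ⟨_, rfl⟩
    obtain ⟨F', hF'⟩ : ∃ F' : IntermediateField k Ω,
      F' = IntermediateField.adjoin k (Set.range (φ ∘ x)) := ⟨_, rfl⟩
    rw [← hF] at hsep
    rw [← hF']
    have hmap : F.map φ = F' := by
      rw [hF, hF', IntermediateField.adjoin_map, Set.range_comp]
    have hmem : ∀ f : F, (φ.toRingHom.comp (algebraMap F K)) f ∈ F' := by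
      intro f
      rw [← hmap]
      exact ⟨f.1, f.2, rfl⟩
    let ψ : F →+* F' := RingHom.codRestrict (φ.toRingHom.comp (algebraMap F K)) F' hmem
    have hs : IsSeparable F (v i) := Algebra.IsSeparable.isSeparable F (v i)
    have hq : ((minpoly F (v i)).map ψ).Separable := Polynomial.Separable.map hs
    have hq0 : Polynomial.aeval (φ (v i)) ((minpoly F (v i)).map ψ) = 0 := by
      rw [Polynomial.aeval_def, Polynomial.eval₂_map]
      have : (algebraMap F' Ω).comp ψ = φ.toRingHom.comp (algebraMap F K) := rfl
      rw [this]
      have h2 := Polynomial.hom_eval₂ (minpoly F (v i)) (algebraMap F K) φ.toRingHom (v i)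
      rw [← Polynomial.aeval_def, minpoly.aeval, map_zero] at h2
      exact h2.symm
    exact hq.of_dvd (minpoly.dvd F' (φ (v i)) hq0)
  have hmain := linearIndependent_pow_of_isSeparable_adjoin p hroot (φ ∘ x) hx' (φ ∘ v) hv' hsep'
  refine LinearIndependent.of_comp φ.toLinearMap ?_
  convert hmain using 1
  ext i
  simp

end Groth.Agent.Lib.MacLaneH3
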