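import Mathlib
import Groth.Prelude
import Groth.Agent.Lib.Thickening3_helper7

/-!
# Equivariant maps into a formally unramified target are determined mod a nilpotent ideal (helper7)

APPEND-ONLY once landed.
-/

set_option autoImplicit false
set_option linter.style.haveILetI false

universe u

open CategoryTheory CategoryTheory.Limits MonoidalCategory CartesianMonoidalCategory
open AlgebraicGeometry Opposite

namespace Groth.Agent.Lib.MagnetUnramH7

open Groth.Agent.Lib.FormalEtale_helper7 Groth.Agent.Lib.Thickening_helper7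
open Groth.Agent.Lib.Thickening3_helper7

theorem isPullback_whiskerLeft {S : Scheme.{u}} (B : Over S) {T₀ T' : Over S} (t : T₀ ⟶ T') :
    IsPullback (B ◁ t).left (pullback.snd B.hom T₀.hom) (pullback.snd B.hom T'.hom) t.left := by
  have hout : IsPullback (pullback.fst B.hom T₀.hom) (pullback.snd B.hom T₀.hom) B.hom T₀.hom :=
    IsPullback.of_hasPullback B.hom T₀.hom
  have hin : IsPullback (pullback.fst B.hom T'.hom) (pullback.snd B.hom T'.hom) B.hom T'.hom :=
    IsPullback.of_hasPullback B.hom T'.hom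
  have e1 : (B ◁ t).left ≫ pullback.fst B.hom T'.hom = pullback.fst B.hom T₀.hom :=
    Over.whiskerLeft_left_fst t
  have e2 : (B ◁ t).left ≫ pullback.snd B.hom T'.hom = pullback.snd B.hom T₀.hom ≫ t.left :=
    Over.whiskerLeft_left_snd t
  have e3 : t.left ≫ T'.hom = T₀.hom := Over.w t
  refine IsPullback.of_right ?_ e2 hin
  rw [e1, e3]
  exact hout

theorem hom_ext_of_unram {S : Scheme.{u}} (B : Over S) {X Y : Over S} (f : X ⟶ Y)
    [FormallyUnramified f.left] {T₀ T' : Over S} (t : T₀ ⟶ T') [IsClosedImmersion t.left]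
    (n : ℕ) (hn : t.left.ker ^ n = ⊥) (φ₁ φ₂ : B ⊗ T' ⟶ X)
    (h1 : (B ◁ t) ≫ φ₁ = (B ◁ t) ≫ φ₂) (h2 : φ₁ ≫ f = φ₂ ≫ f) : φ₁ = φ₂ := by
  have hpb := isPullback_whiskerLeft B t
  haveI : IsClosedImmersion (B ◁ t).left :=
    MorphismProperty.of_isPullback (P := @IsClosedImmersion) hpb.flip inferInstance
  have hk : (B ◁ t).left.ker ^ n = ⊥ :=
    ker_pow_of_isPullback t.left (pullback.snd B.hom T'.hom) (B ◁ t).left
      (pullback.snd B.hom T₀.hom) hpb hn
  have hnil : IsNilpotent (B ◁ t).left.ker := ⟨n, hk⟩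
  have e1 : (B ◁ t).left ≫ φ₁.left = (B ◁ t).left ≫ φ₂.left :=
    congrArg (fun k => k.left) h1
  have e2 : φ₁.left ≫ f.left = φ₂.left ≫ f.left := congrArg (fun k => k.left) h2
  have h := FormallyUnramified.hom_ext (B ◁ t).left hnil f.left e1 e2
  exact Over.OverMorphism.ext h

theorem main18232 (S : Scheme.{u}) (M : Type) [AddCommGroup M]
    [AddGroup.FG M] (N : AddSubmonoid M) {X Y : Over S} (aX : Magnet.MonAct (Magnet.AMonS S M) X)
    (aY : Magnet.MonAct (Magnet.AMonS S M) Y) (f : X ⟶ Y)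
    (hf : Magnet.MonAct.IsEquivariant aX aY f)
    [FormallyUnramified f.left] (A : Type u) [CommRing A] (I : Ideal A) (hI : I ^ 2 = ⊥)
    (str : Spec (CommRingCat.of A) ⟶ S) (l₁ l₂ : (Magnet.attr aX N).obj (op (Over.mk str)))
    (htop : (Magnet.attr aX N).map (Over.homMk (Spec.map (CommRingCat.ofHom (Ideal.Quotient.mk I))) rfl :
        Over.mk (Spec.map (CommRingCat.ofHom (Ideal.Quotient.mk I)) ≫ str) ⟶ Over.mk str).op l₁ =
      (Magnet.attr aX N).map (Over.homMk (Spec.map (CommRingCat.ofHom (Ideal.Quotient.mk I))) rfl :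
        Over.mk (Spec.map (CommRingCat.ofHom (Ideal.Quotient.mk I)) ≫ str) ⟶ Over.mk str).op l₂)
    (hbot : (Magnet.MonAct.eqvHom.postcomp (Magnet.subAct S M N) f hf).app _ l₁ =
      (Magnet.MonAct.eqvHom.postcomp (Magnet.subAct S M N) f hf).app _ l₂) :
    l₁ = l₂ := by
  let t : (Over.mk (Spec.map (CommRingCat.ofHom (Ideal.Quotient.mk I)) ≫ str) : Over S) ⟶
      Over.mk str := Over.homMk (Spec.map (CommRingCat.ofHom (Ideal.Quotient.mk I))) rfl
  haveI : IsClosedImmersion t.left := thk_isClosedImmersion I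
  have hn : t.left.ker ^ 2 = ⊥ := ker_thk_pow I hI
  have h1 : (Magnet.AMonS S N ◁ t) ≫ l₁.1 = (Magnet.AMonS S N ◁ t) ≫ l₂.1 :=
    congrArg Subtype.val htop
  have h2 : l₁.1 ≫ f = l₂.1 ≫ f := congrArg Subtype.val hbot
  exact Subtype.ext (hom_ext_of_unram (Magnet.AMonS S N) f t 2 hn l₁.1 l₂.1 h1 h2)

end Groth.Agent.Lib.MagnetUnramH7
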