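import Mathlib
import Groth.Prelude
import Groth.Agent.Lib.MagnetUnram_helper7

/-!
# The map of attractors induced by a formally unramified equivariant map is formally unramified
(helper7)

APPEND-ONLY once landed.
-/

set_option autoImplicit false
set_option linter.style.haveILetI false

universe u

open CategoryTheory CategoryTheory.Limits MonoidalCategory CartesianMonoidalCategory
open AlgebraicGeometry Opposite

namespace Groth.Agent.Lib.MagnetUnramH7

open Groth.Agent.Lib.FormalEtale_helper7 Groth.Agent.Lib.Thickening_helper7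
open Groth.Agent.Lib.Thickening3_helper7

/-- Formal unramifiedness can be tested on the standard thickenings `Spec (A ⧸ I) ⟶ Spec A`. -/
theorem formallyUnramified_of_thk {X Y : Scheme.{u}} (f : X ⟶ Y)
    (H : ∀ (A : Type u) [CommRing A] (I : Ideal A), I ^ 2 = ⊥ →
      ∀ g₁ g₂ : Spec (CommRingCat.of A) ⟶ X,
        thk I ≫ g₁ = thk I ≫ g₂ → g₁ ≫ f = g₂ ≫ f → g₁ = g₂) : FormallyUnramified f := by
  refine FormallyUnramified.of_hom_ext f fun R S φ hφ hker g₁ g₂ h1 h2 => ?_
  let e : (R ⧸ RingHom.ker φ.hom) ≃+* S := RingHom.quotientKerEquivOfSurjective hφ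
  have hfac : φ = CommRingCat.ofHom (Ideal.Quotient.mk (RingHom.ker φ.hom)) ≫
      e.toCommRingCatIso.hom := by
    ext x
    exact (RingHom.quotientKerEquivOfSurjective_apply_mk hφ x).symm
  have hS : Spec.map φ = Spec.map e.toCommRingCatIso.hom ≫ thk (RingHom.ker φ.hom) :=
    (congrArg (fun k => Spec.map k) hfac).trans (Spec.map_comp _ _)
  rw [hS, Category.assoc, Category.assoc] at h1
  have h1' := (cancel_epi (Spec.map e.toCommRingCatIso.hom)).mp h1
  exact H R (RingHom.ker φ.hom) hker g₁ g₂ h1' h2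

theorem main18234 (S : Scheme.{u}) (M : Type) [AddCommGroup M]
    [AddGroup.FG M] (N : AddSubmonoid M) {X Y : Over S} (aX : Magnet.MonAct (Magnet.AMonS S M) X)
    (aY : Magnet.MonAct (Magnet.AMonS S M) Y) (f : X ⟶ Y)
    (hf : Magnet.MonAct.IsEquivariant aX aY f)
    [FormallyUnramified f.left] {ZX ZY : Over S} (eX : (Magnet.attr aX N).RepresentableBy ZX)
    (eY : (Magnet.attr aY N).RepresentableBy ZY)
    (j : ZX ⟶ ZY) (hj : ∀ (T : Over S) (z : T ⟶ ZX),
      eY.homEquiv (z ≫ j) = (Magnet.MonAct.eqvHom.postcomp (Magnet.subAct S M N) f hf).app (op T)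
        (eX.homEquiv z)) :
    FormallyUnramified j.left := by
  refine formallyUnramified_of_thk j.left fun A _ I hI g₁ g₂ h1 h2 => ?_
  have hwj : j.left ≫ ZY.hom = ZX.hom := Over.w j
  have hstr2 : g₂ ≫ ZX.hom = g₁ ≫ ZX.hom := by
    rw [← hwj, ← Category.assoc, ← Category.assoc, h2]
  let str : Spec (CommRingCat.of A) ⟶ S := g₁ ≫ ZX.hom
  let z₁ : (Over.mk str : Over S) ⟶ ZX := Over.homMk g₁ rfl
  let z₂ : (Over.mk str : Over S) ⟶ ZX := Over.homMk g₂ hstr2
  let t : (Over.mk (Spec.map (CommRingCat.ofHom (Ideal.Quotient.mk I)) ≫ str) : Over S) ⟶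
      Over.mk str := Over.homMk (Spec.map (CommRingCat.ofHom (Ideal.Quotient.mk I))) rfl
  have ht : t ≫ z₁ = t ≫ z₂ := Over.OverMorphism.ext h1
  have hz : z₁ ≫ j = z₂ ≫ j := Over.OverMorphism.ext h2
  have htop : (Magnet.attr aX N).map t.op (eX.homEquiv z₁) =
      (Magnet.attr aX N).map t.op (eX.homEquiv z₂) :=
    (eX.homEquiv_comp t z₁).symm.trans ((congrArg (fun z => eX.homEquiv z) ht).trans
      (eX.homEquiv_comp t z₂))
  have hbot : (Magnet.MonAct.eqvHom.postcomp (Magnet.subAct S M N) f hf).app _ (eX.homEquiv z₁) =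
      (Magnet.MonAct.eqvHom.postcomp (Magnet.subAct S M N) f hf).app _ (eX.homEquiv z₂) :=
    (hj _ z₁).symm.trans ((congrArg (fun z => eY.homEquiv z) hz).trans (hj _ z₂))
  have h12 := main18232 S M N aX aY f hf A I hI str _ _ htop hbot
  have hz12 : z₁ = z₂ := eX.homEquiv.injective h12
  exact congrArg (fun k => k.left) hz12

end Groth.Agent.Lib.MagnetUnramH7
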