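import Groth.Agent.Lib.Integral_helper9
import Mathlib.RingTheory.HopfAlgebra.MonoidAlgebra

/-!
# Maschke's theorem for comodules over a commutative ring (helper9)

* `exists_isCompl_of_integral`: over a commutative Hopf algebra `A`, free over the commutative
  ring `k`, with a total integral, a subcomodule which is a direct summand as a module has a
  complementary subcomodule.
* `coeffOne`, the coefficient of `1`, is a total integral of the group algebra `k[M]`.

APPEND-ONLY once landed.
-/

set_option autoImplicit false
universe u v w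

open TensorProduct WithConv

namespace Groth.Agent.Lib.Maschke_helper9

open Groth.Agent.Lib.ComodDual_helper9 Groth.Agent.Lib.Reynolds_helper9 Groth.Agent.Lib.Comod_helper9
  Groth.Agent.Lib.Integral_helper9

section General

variable (k : Type u) [CommRing k] (A : Type v) [CommRing A] [HopfAlgebra k A] [Module.Free k A]
variable (α : A →ₗ[k] k)
variable (V : Type w) [AddCommGroup V] [Module k V] [HopfRep.Comod k A V]

theorem exists_isCompl_of_integral
    (hint : ∀ a : A, Theta k A α (CoalgebraStruct.comul (R := k) a) = α a • (1 : A))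
    (h1 : α 1 = 1) (W : Submodule k V) (hW : HopfRep.IsSubcomod (k := k) (A := A) W)
    (hsplit : ∃ W' : Submodule k V, IsCompl W W') :
    ∃ W'' : Submodule k V, HopfRep.IsSubcomod (k := k) (A := A) W'' ∧ IsCompl W W'' := by
  obtain ⟨W', hc⟩ := hsplit
  let e' : V →ₗ[k] W := Submodule.linearProjOfIsCompl W W' hc
  have he'w : ∀ w : W, e' (w : V) = w := fun w => Submodule.linearProjOfIsCompl_apply_left hc w
  have he' : e' ∘ₗ W.subtype = LinearMap.id := LinearMap.ext he'w
  let pt : V →ₗ[k] V := r0 k A α V ∘ₗ (W.subtype ∘ₗ e').rTensor A ∘ₗ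
    HopfRep.Comod.coact (k := k) (A := A) (V := V)
  have hpt : ∀ v, pt v = r0 k A α V ((W.subtype ∘ₗ e').rTensor A
      (HopfRep.Comod.coact (k := k) (A := A) v)) := fun _ => rfl
  have hcomod : Hoch.IsComodHom A pt := by
    apply isComodHom_of_act_comm
    intro ψ v
    rw [hpt, hpt]
    exact avg_act k A α V hint (W.subtype ∘ₗ e') ψ v
  have hmem : ∀ v, pt v ∈ W := by
    intro v
    rw [hpt, LinearMap.rTensor_comp, LinearMap.comp_apply]
    exact r0_mem k A α V W hW _
  have hfix : ∀ w : W, pt (w : V) = w := by
    intro w
    obtain ⟨y, hy⟩ := hW w w.2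
    have h2 : (W.subtype ∘ₗ e') ∘ₗ W.subtype = W.subtype := by
      rw [LinearMap.comp_assoc, he', LinearMap.comp_id]
    have h3 : (W.subtype ∘ₗ e').rTensor A (W.subtype.rTensor A y) = W.subtype.rTensor A y := by
      rw [← LinearMap.comp_apply, ← LinearMap.rTensor_comp, h2]
    rw [hpt, ← hy, h3, hy]
    exact r0_coact k A α V h1 _
  let f : V →ₗ[k] W := pt.codRestrict W hmem
  have hf : ∀ w : W, f w = w := fun w => Subtype.ext (hfix w)
  refine ⟨LinearMap.ker pt, isSubcomod_ker pt hcomod, ?_⟩
  have hk : LinearMap.ker f = LinearMap.ker pt := LinearMap.ker_codRestrict _ _ _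
  rw [← hk]
  exact LinearMap.isCompl_of_proj hf

end General

section MonAlg

variable (k : Type u) [CommRing k] (M : Type v) [CommGroup M]

/-- the coefficient of `1` -/
noncomputable def coeffOne : MonoidAlgebra k M →ₗ[k] k :=
  (Finsupp.lapply 1) ∘ₗ (MonoidAlgebra.coeffLinearEquiv k).toLinearMap

theorem coeffOne_single [DecidableEq M] (m : M) (r : k) :
    coeffOne k M (MonoidAlgebra.single m r) = if m = 1 then r else 0 := by
  simp only [coeffOne, LinearMap.comp_apply, LinearEquiv.coe_coe, Finsupp.lapply_apply]
  simp [Finsupp.single_apply]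

theorem coeffOne_one : coeffOne k M 1 = 1 := by
  classical
  rw [MonoidAlgebra.one_def, coeffOne_single]
  simp

theorem coeffOne_integral (a : MonoidAlgebra k M) :
    Theta k (MonoidAlgebra k M) (coeffOne k M) (CoalgebraStruct.comul (R := k) a) =
      coeffOne k M a • (1 : MonoidAlgebra k M) := by
  classical
  induction a using MonoidAlgebra.induction_linear with
  | zero => simp
  | add x y hx hy => simp only [map_add, hx, hy, add_smul]
  | single m r =>
    rw [MonoidAlgebra.comul_single, coeffOne_single]
    simp only [CommSemiring.comul_apply, TensorProduct.map_tmul, MonoidAlgebra.lsingle_apply,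
      Theta_tmul, coeffOne_single]
    by_cases hm : m = 1
    · subst hm
      simp [MonoidAlgebra.one_def]
    · simp [hm]

end MonAlg

end Groth.Agent.Lib.Maschke_helper9
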