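import Mathlib
import Groth.Agent.Lib.InvLocFree_helper7

/-!
# Automorphisms of matrix algebras are inner iff `n`-torsion-like Picard classes vanish (helper1)
-/

set_option autoImplicit false
universe u
open Matrix

namespace Groth.Agent.Lib.MatInnerH1

variable {R : Type u} [CommRing R] {ι : Type} [Fintype ι] [DecidableEq ι]

section Inv

theorem rankAtStalk_eq_one_of_pi_equiv [Nontrivial R] [Nonempty ι] {N : Type u} [AddCommGroup N]
    [Module R N] [Module.Finite R N] [Module.Flat R N] (e : (ι → N) ≃ₗ[R] (ι → R))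
    (p : PrimeSpectrum R) : Module.rankAtStalk N p = 1 := by
  have h1 := congr_fun (Module.rankAtStalk_eq_of_equiv e) p
  rw [Module.rankAtStalk_pi, Module.rankAtStalk_pi] at h1
  simp only [finsum_eq_sum_of_fintype, Finset.sum_const, Finset.card_univ, smul_eq_mul,
    Module.rankAtStalk_self, Pi.one_apply, mul_one] at h1
  have hpos : 0 < Fintype.card ι := Fintype.card_pos
  exact Nat.eq_of_mul_eq_mul_left hpos (by rw [h1, mul_one])

theorem invertible_of_pi_equiv [Nontrivial R] [Nonempty ι] {N : Type u} [AddCommGroup N]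
    [Module R N] [Module.Finite R N] [Module.Projective R N] (e : (ι → N) ≃ₗ[R] (ι → R)) :
    Module.Invertible R N := by
  have hrank := rankAtStalk_eq_one_of_pi_equiv e
  have key : ∀ p : PrimeSpectrum R, ∃ a ∉ p.asIdeal,
      Nonempty (LocalizedModule.Away a N ≃ₗ[Localization.Away a] Localization.Away a) := by
    intro p
    haveI := p.isPrime
    obtain ⟨a, ha, hfree⟩ :=
      Module.Free.away_of_finite_of_flat_of_rankAtStalk_constant N p.asIdeal
        (fun m _ => by rw [hrank, hrank])
    refine ⟨a, ha, ?_⟩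
    have hu : IsUnit (algebraMap R (Localization.AtPrime p.asIdeal) a) :=
      IsLocalization.map_units (Localization.AtPrime p.asIdeal) (⟨a, ha⟩ : p.asIdeal.primeCompl)
    haveI : Nontrivial (Localization.Away a) :=
      (IsLocalization.Away.lift a hu : Localization.Away a →+* _).domain_nontrivial
    have hfin : Module.finrank (Localization.Away a) (LocalizedModule.Away a N) = 1 := by
      obtain ⟨q⟩ : Nonempty (PrimeSpectrum (Localization.Away a)) := inferInstance
      have h2 := Module.rankAtStalk_isBaseChange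
        (LocalizedModule.isBaseChange (Submonoid.powers a) N) q
      rw [hrank] at h2
      have h3 := congr_fun (Module.rankAtStalk_eq_finrank_of_free (R := Localization.Away a)
        (M := LocalizedModule.Away a N)) q
      rw [h2] at h3
      simpa using h3.symm
    obtain ⟨θ⟩ := Module.nonempty_linearEquiv_of_finrank_eq_one hfin
    exact ⟨θ.symm⟩
  let s : Set R :=
    {a | Nonempty (LocalizedModule.Away a N ≃ₗ[Localization.Away a] Localization.Away a)}
  have hs : Ideal.span s = ⊤ := by
    by_contra hne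
    obtain ⟨m, hm, hle⟩ := Ideal.exists_le_maximal _ hne
    obtain ⟨a, ha, hfree⟩ := key ⟨m, hm.isPrime⟩
    exact ha (hle (Ideal.subset_span hfree))
  exact Groth.Agent.Lib.InvLocFreeH7.main s hs (fun f hf => hf)

end Inv

section Backward

theorem exists_conj_of_free [Nontrivial R] (o : ι)
    (H : ∀ (N : Type u) [AddCommGroup N] [Module R N] [Module.Invertible R N],
        Nonempty ((ι → N) ≃ₗ[R] (ι → R)) → Module.Free R N)
    (φ : Matrix ι ι R ≃ₐ[R] Matrix ι ι R) :
    ∃ P : Matrix ι ι R, IsUnit P ∧ ∀ A, φ A * P = P * A := by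
  haveI : Nonempty ι := ⟨o⟩
  obtain ⟨f, hf⟩ : ∃ f : ι → ι → Matrix ι ι R, f = fun i j => φ (Matrix.single i j 1) :=
    ⟨_, rfl⟩
  have F1 : ∀ i j k l, f i j * f k l = if j = k then f i l else 0 := by
    intro i j k l
    rw [hf]
    show φ _ * φ _ = _
    rw [← map_mul]
    split_ifs with h
    · subst h
      rw [Matrix.single_mul_single_same, mul_one]
    · rw [Matrix.single_mul_single_of_ne (h := h), map_zero]
  have F2 : ∑ i, f i i = 1 := by
    rw [hf]
    show ∑ i, φ (Matrix.single i i 1) = 1
    rw [← map_sum, Matrix.sum_single_one, map_one]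
  have F1' : ∀ i j k l (v : ι → R),
      f i j *ᵥ (f k l *ᵥ v) = if j = k then f i l *ᵥ v else 0 := by
    intro i j k l v
    rw [Matrix.mulVec_mulVec, F1]
    split_ifs
    · rfl
    · rw [Matrix.zero_mulVec]
  obtain ⟨N, hN⟩ : ∃ N : Submodule R (ι → R), N = LinearMap.range (Matrix.toLin' (f o o)) :=
    ⟨_, rfl⟩
  have memN : ∀ v : ι → R, v ∈ N ↔ f o o *ᵥ v = v := by
    intro v
    rw [hN]
    constructor
    · rintro ⟨w, rfl⟩
      rw [Matrix.toLin'_apply, F1', if_pos rfl]
    · intro h
      exact ⟨v, by rw [Matrix.toLin'_apply, h]⟩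
  let Ψ : (ι → N) ≃ₗ[R] (ι → R) :=
    { toFun := fun x => ∑ i, f i o *ᵥ (x i : ι → R)
      map_add' := by
        intro x y
        simp only [Pi.add_apply, Submodule.coe_add, Matrix.mulVec_add, Finset.sum_add_distrib]
      map_smul' := by
        intro c x
        simp only [Pi.smul_apply, Submodule.coe_smul, Matrix.mulVec_smul, Finset.smul_sum,
          RingHom.id_apply]
      invFun := fun v i => ⟨f o i *ᵥ v, (memN _).2 (by rw [F1', if_pos rfl])⟩
      left_inv := by
        intro x
        funext i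
        apply Subtype.ext
        show f o i *ᵥ (∑ j, f j o *ᵥ (x j : ι → R)) = (x i : ι → R)
        rw [Matrix.mulVec_sum]
        simp_rw [F1']
        rw [Finset.sum_ite_eq Finset.univ i, if_pos (Finset.mem_univ i)]
        exact (memN _).1 (x i).2
      right_inv := by
        intro v
        show ∑ i, f i o *ᵥ (f o i *ᵥ v) = v
        simp_rw [F1']
        simp only [if_true]
        rw [← Matrix.sum_mulVec, F2, Matrix.one_mulVec] }
  haveI : Module.Finite R N := by
    subst hN
    infer_instance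
  haveI : Module.Projective R N := by
    refine Module.Projective.of_split N.subtype
      ((Matrix.toLin' (f o o)).codRestrict N
        (fun v => (memN _).2 (by rw [Matrix.toLin'_apply, F1', if_pos rfl]))) ?_
    apply LinearMap.ext
    intro x
    apply Subtype.ext
    show Matrix.toLin' (f o o) (x : ι → R) = (x : ι → R)
    rw [Matrix.toLin'_apply]
    exact (memN _).1 x.2
  haveI : Module.Invertible R N := invertible_of_pi_equiv Ψ
  have hfree : Module.Free R N := H N ⟨Ψ⟩
  obtain ⟨θ⟩ := Module.Invertible.free_iff_linearEquiv.mp hfree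
  obtain ⟨v₁, hv₁⟩ : ∃ v₁ : N, v₁ = θ.symm 1 := ⟨_, rfl⟩
  have hv : ∀ x : N, x = θ x • v₁ := by
    intro x
    apply θ.injective
    rw [map_smul, hv₁, θ.apply_symm_apply, smul_eq_mul, mul_one]
  obtain ⟨P, hP⟩ : ∃ P : Matrix ι ι R, P = Matrix.of (fun k i => (f i o *ᵥ (v₁ : ι → R)) k) :=
    ⟨_, rfl⟩
  have hcol : ∀ c : ι → R, P *ᵥ c = ∑ i, c i • (f i o *ᵥ (v₁ : ι → R)) := by
    intro c
    funext k
    rw [hP]
    simp only [Matrix.mulVec, dotProduct, Matrix.of_apply, Finset.sum_apply, Pi.smul_apply,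
      smul_eq_mul]
    exact Finset.sum_congr rfl fun i _ => mul_comm _ _
  have hPunit : IsUnit P := by
    rw [← Matrix.mulVec_surjective_iff_isUnit]
    intro v
    refine ⟨fun i => θ (Ψ.symm v i), ?_⟩
    show P *ᵥ _ = v
    rw [hcol]
    have h1 : Ψ (Ψ.symm v) = v := Ψ.apply_symm_apply v
    conv_rhs => rw [← h1]
    show _ = ∑ i, f i o *ᵥ ((Ψ.symm v i : N) : ι → R)
    refine Finset.sum_congr rfl fun i _ => ?_
    conv_rhs => rw [hv (Ψ.symm v i)]
    rw [Submodule.coe_smul, Matrix.mulVec_smul]
  refine ⟨P, hPunit, ?_⟩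
  intro A
  ext a i
  have h1 : A * Matrix.single i o 1 = ∑ k, A k i • Matrix.single k o (1 : R) := by
    ext b c
    rw [Matrix.sum_apply]
    simp only [Matrix.smul_apply, Matrix.single_apply, smul_eq_mul, Matrix.mul_apply]
    by_cases hc : o = c
    · subst hc
      simp
    · simp [hc]
  have h2 : φ A * f i o = ∑ k, A k i • f k o := by
    rw [hf]
    show φ A * φ _ = ∑ k, A k i • φ _
    rw [← map_mul, h1, map_sum]
    simp_rw [map_smul]
  calc (φ A * P) a i = (φ A *ᵥ (f i o *ᵥ (v₁ : ι → R))) a := by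
        rw [hP]
        simp only [Matrix.mul_apply, Matrix.mulVec, dotProduct, Matrix.of_apply]
    _ = ((∑ k, A k i • f k o) *ᵥ (v₁ : ι → R)) a := by rw [Matrix.mulVec_mulVec, h2]
    _ = ∑ k, A k i * (f k o *ᵥ (v₁ : ι → R)) a := by
        rw [Matrix.sum_mulVec, Finset.sum_apply]
        refine Finset.sum_congr rfl fun k _ => ?_
        rw [Matrix.smul_mulVec, Pi.smul_apply, smul_eq_mul]
    _ = (P * A) a i := by
        rw [hP]
        simp only [Matrix.mul_apply, Matrix.of_apply]
        exact Finset.sum_congr rfl fun k _ => mul_comm _ _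

end Backward

section Forward

variable {N : Type u} [AddCommGroup N] [Module R N]

/-- The action of a matrix on `ι → N`. -/
noncomputable def alpha (A : Matrix ι ι R) : (ι → N) →ₗ[R] (ι → N) where
  toFun x i := ∑ j, A i j • x j
  map_add' x y := by
    funext i
    simp only [Pi.add_apply, smul_add, Finset.sum_add_distrib]
  map_smul' c x := by
    funext i
    simp only [Pi.smul_apply, RingHom.id_apply, Finset.smul_sum]
    exact Finset.sum_congr rfl fun j _ => smul_comm _ _ _

theorem alpha_apply (A : Matrix ι ι R) (x : ι → N) (i : ι) :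
    alpha A x i = ∑ j, A i j • x j := rfl

theorem alpha_single (A : Matrix ι ι R) (j : ι) (y : N) (i : ι) :
    alpha A (Pi.single j y) i = A i j • y := by
  rw [alpha_apply, Finset.sum_eq_single j]
  · rw [Pi.single_eq_same]
  · intro k _ hk
    rw [Pi.single_eq_of_ne hk, smul_zero]
  · intro h
    exact absurd (Finset.mem_univ j) h

/-- `alpha` as a linear map in the matrix. -/
noncomputable def alphaL : Matrix ι ι R →ₗ[R] Module.End R (ι → N) where
  toFun A := alpha A
  map_add' A B := by
    apply LinearMap.ext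
    intro x
    funext i
    simp only [alpha_apply, Matrix.add_apply, add_smul, Finset.sum_add_distrib,
      LinearMap.add_apply, Pi.add_apply]
  map_smul' c A := by
    apply LinearMap.ext
    intro x
    funext i
    simp only [alpha_apply, Matrix.smul_apply, smul_eq_mul, RingHom.id_apply,
      LinearMap.smul_apply, Pi.smul_apply, Finset.smul_sum, mul_smul]

theorem alpha_one : alpha (N := N) (1 : Matrix ι ι R) = LinearMap.id := by
  apply LinearMap.ext
  intro x
  funext i
  rw [alpha_apply, Finset.sum_eq_single i]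
  · rw [Matrix.one_apply_eq, one_smul]
    rfl
  · intro k _ hk
    rw [Matrix.one_apply_ne (Ne.symm hk), zero_smul]
  · intro h
    exact absurd (Finset.mem_univ i) h

theorem alpha_mul (A B : Matrix ι ι R) :
    alpha (N := N) (A * B) = alpha A ∘ₗ alpha B := by
  apply LinearMap.ext
  intro x
  funext i
  simp only [LinearMap.comp_apply, alpha_apply, Matrix.mul_apply, Finset.sum_smul,
    Finset.smul_sum, smul_smul]
  rw [Finset.sum_comm]

/-- `alpha` as an algebra homomorphism. -/
noncomputable def alphaHom : Matrix ι ι R →ₐ[R] Module.End R (ι → N) :=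
  AlgHom.ofLinearMap alphaL alpha_one (fun A B => alpha_mul A B)

theorem alphaHom_apply (A : Matrix ι ι R) : alphaHom (N := N) A = alpha A := rfl

theorem alphaHom_injective [FaithfulSMul R N] :
    Function.Injective (alphaHom (R := R) (ι := ι) (N := N)) := by
  intro A B h
  ext i j
  apply eq_of_smul_eq_smul (α := N)
  intro y
  have h1 := congr_fun (LinearMap.congr_fun h (Pi.single j y)) i
  rw [alphaHom_apply, alphaHom_apply, alpha_single, alpha_single] at h1
  exact h1

theorem alphaHom_surjective [Module.Invertible R N] :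
    Function.Surjective (alphaHom (R := R) (ι := ι) (N := N)) := by
  intro g
  have h : ∀ i j, ∃ a : R, ∀ y : N, a • y = g (Pi.single j y) i := by
    intro i j
    let gij : Module.End R N :=
      (LinearMap.proj i) ∘ₗ g ∘ₗ (LinearMap.single R (fun _ : ι => N) j)
    obtain ⟨a, ha⟩ := (Module.Invertible.toModuleEnd_bijective R N).surjective gij
    exact ⟨a, fun y => LinearMap.congr_fun ha y⟩
  choose a ha using h
  refine ⟨Matrix.of a, ?_⟩
  apply LinearMap.ext
  intro x
  funext i
  show alpha (Matrix.of a) x i = g x i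
  rw [alpha_apply]
  simp only [Matrix.of_apply, ha]
  have hx : x = ∑ j, Pi.single j (x j) := (Finset.univ_sum_single x).symm
  conv_rhs => rw [hx]
  rw [map_sum, Finset.sum_apply]

theorem free_of_inner [Module.Invertible R N] (o : ι)
    (I : ∀ φ : Matrix ι ι R ≃ₐ[R] Matrix ι ι R,
      ∃ P : Matrix ι ι R, IsUnit P ∧ ∀ A, φ A * P = P * A)
    (e : (ι → N) ≃ₗ[R] (ι → R)) : Module.Free R N := by
  have hα : Function.Bijective (alphaHom (R := R) (ι := ι) (N := N)) :=
    ⟨alphaHom_injective, alphaHom_surjective⟩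
  obtain ⟨φ, hφdef⟩ : ∃ φ : Matrix ι ι R ≃ₐ[R] Matrix ι ι R,
      φ = (AlgEquiv.ofBijective alphaHom hα).trans
        ((e.conjAlgEquiv R).trans
          (LinearMap.toMatrixAlgEquiv' : ((ι → R) →ₗ[R] ι → R) ≃ₐ[R] Matrix ι ι R)) := ⟨_, rfl⟩
  obtain ⟨P, hP, hC⟩ := I φ
  obtain ⟨Q, hPQ, hQP⟩ : ∃ Q, P * Q = 1 ∧ Q * P = 1 := by
    obtain ⟨u, rfl⟩ := hP
    exact ⟨↑u⁻¹, u.mul_inv, u.inv_mul⟩
  have hφ : ∀ A (x : ι → N), φ A *ᵥ e x = e (alpha A x) := by
    intro A x
    have h1 : Matrix.toLin' (φ A) = e.toLinearMap ∘ₗ alpha A ∘ₗ e.symm.toLinearMap := by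
      rw [hφdef]
      show Matrix.toLin' (LinearMap.toMatrix'
        (e.toLinearMap ∘ₗ alpha A ∘ₗ e.symm.toLinearMap)) = _
      rw [Matrix.toLin'_toMatrix']
    have h2 := LinearMap.congr_fun h1 (e x)
    rw [Matrix.toLin'_apply] at h2
    rw [h2]
    simp
  have hQ : ∀ A, Q * φ A = A * Q := by
    intro A
    calc Q * φ A = Q * φ A * (P * Q) := by rw [hPQ, mul_one]
      _ = Q * (φ A * P) * Q := by simp only [mul_assoc]
      _ = Q * (P * A) * Q := by rw [hC]
      _ = (Q * P) * A * Q := by simp only [mul_assoc]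
      _ = A * Q := by rw [hQP, one_mul]
  let F : N →ₗ[R] R := (LinearMap.proj o) ∘ₗ (Matrix.toLin' Q) ∘ₗ e.toLinearMap ∘ₗ
    (LinearMap.single R (fun _ : ι => N) o)
  have hF : ∀ y, F y = (Q *ᵥ e (Pi.single o y)) o := fun y => rfl
  have hsurj : Function.Surjective F := by
    intro r
    obtain ⟨w, hw⟩ : ∃ w : ι → R, w = Pi.single o r := ⟨_, rfl⟩
    obtain ⟨x, hxdef⟩ : ∃ x : ι → N, x = e.symm (P *ᵥ w) := ⟨_, rfl⟩
    have hx : Q *ᵥ e x = w := by
      rw [hxdef, e.apply_symm_apply, Matrix.mulVec_mulVec, hQP, Matrix.one_mulVec]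
    have hE : alpha (Matrix.single o o (1 : R)) x = Pi.single o (x o) := by
      funext i
      rw [alpha_apply]
      by_cases hi : i = o
      · subst hi
        rw [Pi.single_eq_same, Finset.sum_eq_single i]
        · rw [Matrix.single_apply_same, one_smul]
        · intro k _ hk
          rw [Matrix.single_apply_of_col_ne _ _ (Ne.symm hk), zero_smul]
        · intro h
          exact absurd (Finset.mem_univ i) h
      · rw [Pi.single_eq_of_ne hi]
        refine Finset.sum_eq_zero fun k _ => ?_
        rw [Matrix.single_apply_of_row_ne (Ne.symm hi), zero_smul]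
    refine ⟨x o, ?_⟩
    rw [hF, ← hE, ← hφ, Matrix.mulVec_mulVec, hQ, ← Matrix.mulVec_mulVec, hx, hw]
    simp [Matrix.mulVec, dotProduct, Matrix.single_apply]
  have hbij := Module.Invertible.bijective_of_surjective hsurj
  exact Module.Free.of_equiv (LinearEquiv.ofBijective F hbij).symm

end Forward

section Main

theorem main (n : ℕ) (hn : 1 ≤ n) :
    (∀ φ : Matrix (Fin n) (Fin n) R ≃ₐ[R] Matrix (Fin n) (Fin n) R,
        ∃ P : GL (Fin n) R, ∀ A : Matrix (Fin n) (Fin n) R, φ A = P.1 * A * (P⁻¹).1) ↔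
      (∀ (N : Type u) [AddCommGroup N] [Module R N] [Module.Invertible R N],
        Nonempty ((Fin n → N) ≃ₗ[R] (Fin n → R)) → Module.Free R N) := by
  have o : Fin n := ⟨0, hn⟩
  constructor
  · intro I N _ _ _ ⟨e⟩
    refine free_of_inner o ?_ e
    intro φ
    obtain ⟨P, hP⟩ := I φ
    refine ⟨P.1, P.isUnit, fun A => ?_⟩
    rw [hP A]
    exact Units.inv_mul_cancel_right _ P
  · intro H φ
    rcases subsingleton_or_nontrivial R with hR | hR
    · exact ⟨1, fun A => Subsingleton.elim _ _⟩
    · obtain ⟨P, hP, hC⟩ := exists_conj_of_free o H φ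
      refine ⟨hP.unit, fun A => ?_⟩
      have h1 : (hP.unit : Matrix (Fin n) (Fin n) R) = P := hP.unit_spec
      show φ A = (hP.unit : Matrix (Fin n) (Fin n) R) * A * ((hP.unit)⁻¹ : GL (Fin n) R)
      rw [Units.eq_mul_inv_iff_mul_eq, h1]
      exact hC A

end Main

end Groth.Agent.Lib.MatInnerH1
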