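import Mathlib

/-!
# `N^n ≅ R^n` for an invertible module `N` forces `[N]^n = 1` in `Pic R`
-/

set_option autoImplicit false
universe u v

namespace Groth.Agent.Lib.PicPowH3

open TensorProduct CommRing

section

variable {R : Type u} [CommRing R] (N : Type v) [AddCommGroup N] [Module R N]
  [Module.Invertible R N]

/-- Tensor powers of an invertible module are invertible, with class the power of the class. -/
theorem tensorPower_pic : ∀ k : ℕ, ∃ (_ : Module.Invertible R (⨂[R]^k N)),
    Pic.mk R (⨂[R]^k N) = Pic.mk R N ^ k := by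
  intro k
  induction k with
  | zero =>
    have e0 : (⨂[R]^0 N) ≃ₗ[R] R := PiTensorProduct.isEmptyEquiv (Fin 0)
    haveI : Module.Invertible R (⨂[R]^0 N) := Module.Invertible.congr e0.symm
    refine ⟨this, ?_⟩
    rw [pow_zero]
    exact Pic.mk_eq_one_iff.mpr ⟨e0⟩
  | succ k ih =>
    obtain ⟨inst, hk⟩ := ih
    have e1 : (⨂[R]^(k + 1) N) ≃ₗ[R] (⨂[R]^k N) ⊗[R] N :=
      (TensorPower.mulEquiv (R := R) (M := N) (n := k) (m := 1)).symm ≪≫ₗ
        TensorProduct.congr (LinearEquiv.refl R _)
          (PiTensorProduct.subsingletonEquiv (0 : Fin 1))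
    haveI : Module.Invertible R (⨂[R]^(k + 1) N) := Module.Invertible.congr e1.symm
    refine ⟨this, ?_⟩
    rw [pow_succ, ← hk, ← Pic.mk_tensor]
    exact Pic.mk_eq_mk_iff.mpr ⟨e1⟩

variable {N}

theorem exists_not_mem (m : Ideal R) (hm : m ≠ ⊤) : ∃ v : N, v ∉ (m • ⊤ : Submodule R N) := by
  by_contra hcon
  push_neg at hcon
  have htop : (⊤ : Submodule R N) ≤ m • ⊤ := fun v _ => hcon v
  obtain ⟨r, hr1, hr0⟩ := Submodule.exists_sub_one_mem_and_smul_eq_zero_of_fg_of_le_smul m ⊤
    (Module.Finite.fg_top) htop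
  have hr : r = 0 := by
    apply FaithfulSMul.eq_of_smul_eq_smul (M := R) (α := N)
    intro x
    rw [zero_smul]
    exact hr0 x trivial
  subst hr
  apply hm
  rw [Ideal.eq_top_iff_one]
  have := m.neg_mem hr1
  simpa using this

variable {n : ℕ} (e : (Fin n → N) ≃ₗ[R] (Fin n → R))

/-- The multilinear map `(v_j) ↦ det [e(ι_j v_j)]`. -/
noncomputable def detMulti : MultilinearMap R (fun _ : Fin n => N) R :=
  (Matrix.detRowAlternating (n := Fin n) (R := R)).toMultilinearMap.compLinearMap
    (fun j => e.toLinearMap ∘ₗ LinearMap.single R (fun _ => N) j)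

theorem detMulti_apply (v : Fin n → N) :
    detMulti e v = Matrix.det (Matrix.of fun j i => e (Pi.single j (v j)) i) := rfl

theorem det_not_mem (m : Ideal R) [hm : m.IsMaximal] (v : N)
    (hv : v ∉ (m • ⊤ : Submodule R N)) :
    Matrix.det (Matrix.of fun j i => e (Pi.single j v) i) ∉ m := by
  classical
  intro hdet
  set M : Matrix (Fin n) (Fin n) R := Matrix.of fun j i => e (Pi.single j v) i with hM
  letI : Field (R ⧸ m) := Ideal.Quotient.field m
  have h0 : (M.map (Ideal.Quotient.mk m)).det = 0 := by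
    rw [← RingHom.mapMatrix_apply, ← RingHom.map_det]
    exact Ideal.Quotient.eq_zero_iff_mem.mpr hdet
  obtain ⟨cbar, hc0, hc⟩ := Matrix.exists_vecMul_eq_zero_iff.mpr h0
  choose c hcc using fun j => Ideal.Quotient.mk_surjective (cbar j)
  have hmem : ∀ i, (Matrix.vecMul c M) i ∈ m := by
    intro i
    rw [← Ideal.Quotient.eq_zero_iff_mem]
    have h1 := congrFun hc i
    rw [Pi.zero_apply] at h1
    rw [← h1]
    simp only [Matrix.vecMul, dotProduct, map_sum, map_mul, hcc, Matrix.map_apply]
  set w : Fin n → N := fun j => c j • v with hw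
  have hew : ∀ i, e w i = Matrix.vecMul c M i := by
    intro i
    have h1 : w = ∑ j, c j • (Pi.single j v : Fin n → N) := by
      ext j'
      simp [hw, Finset.sum_apply, Pi.single_apply]
    rw [h1, map_sum]
    simp [Matrix.vecMul, dotProduct, hM, Finset.sum_apply]
  have hwmem : ∀ j, w j ∈ (m • ⊤ : Submodule R N) := by
    intro j
    have hww : w = ∑ i, (e w i) • e.symm (Pi.single i 1) := by
      have h1 : e w = ∑ i, (e w i) • (Pi.single i (1 : R) : Fin n → R) := by
        ext i'
        simp [Finset.sum_apply, Pi.single_apply]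
      have h2 : e.symm (e w) = ∑ i, (e w i) • e.symm (Pi.single i 1) := by
        conv_lhs => rw [h1]
        simp only [map_sum, map_smul]
      rw [← h2, e.symm_apply_apply]
    rw [hww, Finset.sum_apply]
    refine Submodule.sum_mem _ fun i _ => ?_
    rw [Pi.smul_apply]
    exact Submodule.smul_mem_smul (by rw [hew]; exact hmem i) Submodule.mem_top
  obtain ⟨j, hj⟩ : ∃ j, cbar j ≠ 0 := by
    by_contra hcon
    push_neg at hcon
    exact hc0 (funext hcon)
  have hcj : c j ∉ m := by
    intro h
    apply hj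
    rw [← hcc j]
    exact Ideal.Quotient.eq_zero_iff_mem.mpr h
  obtain ⟨y, i, hi, hyi⟩ := hm.exists_inv hcj
  apply hv
  have hveq : v = y • (c j • v) + i • v := by
    rw [smul_smul, ← add_smul, hyi, one_smul]
  rw [hveq]
  exact Submodule.add_mem _ (Submodule.smul_mem _ _ (hwmem j))
    (Submodule.smul_mem_smul hi Submodule.mem_top)

include e in
theorem main : Pic.mk R N ^ n = 1 := by
  obtain ⟨inst, hk⟩ := tensorPower_pic (R := R) N n
  rw [← hk, Pic.mk_eq_one_iff]
  set ψ : (⨂[R]^n N) →ₗ[R] R := PiTensorProduct.lift (detMulti e) with hψ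
  have hsurj : Function.Surjective ψ := by
    rw [← LinearMap.range_eq_top]
    by_contra hne
    obtain ⟨m, hm, hle⟩ := Ideal.exists_le_maximal (LinearMap.range ψ) hne
    obtain ⟨v, hv⟩ := exists_not_mem (N := N) m hm.ne_top
    apply det_not_mem e m v hv
    apply hle
    exact ⟨PiTensorProduct.tprod R (fun _ => v), by rw [hψ, PiTensorProduct.lift.tprod]; rfl⟩
  exact ⟨LinearEquiv.ofBijective ψ (Module.Invertible.bijective_of_surjective hsurj)⟩

end

end Groth.Agent.Lib.PicPowH3
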