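import Mathlib
import Groth.Agent.Lib.MatInner_helper1
import Groth.Agent.Lib.PicPow_helper3

set_option autoImplicit false

/-!
# The module of liftings of an automorphism of `M_n(A)` (helper3)

For an `A`-algebra automorphism `α` of `M_n(A)`, the module `L = {M | ∀ N, M N = α(N) M}` satisfies
`L^n ≅ A^n`; hence it is invertible (helper1's `invertible_of_pi_equiv`) and `n`-torsion in `Pic`
(`PicPow_helper3`).
-/

namespace Groth.Agent.Lib.MatAutLineH3

open Matrix TensorProduct CommRing

universe u

variable {A : Type u} [CommRing A] {n : ℕ}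
  (α : Matrix (Fin n) (Fin n) A ≃ₐ[A] Matrix (Fin n) (Fin n) A)

/-- the module of matrices `M` with `M N = α(N) M` for all `N` -/
noncomputable def L : Submodule A (Matrix (Fin n) (Fin n) A) :=
  LinearMap.ker (LinearMap.mul A (Matrix (Fin n) (Fin n) A) -
    (LinearMap.lcomp A (Matrix (Fin n) (Fin n) A) α.toLinearMap).comp
      (LinearMap.mul A (Matrix (Fin n) (Fin n) A)).flip)

theorem mem_L {M : Matrix (Fin n) (Fin n) A} : M ∈ L α ↔ ∀ N, M * N = α N * M := by
  unfold L
  rw [LinearMap.mem_ker, LinearMap.sub_apply, sub_eq_zero, LinearMap.ext_iff]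
  rfl

/-- images of the matrix units -/
noncomputable def f (i j : Fin n) : Matrix (Fin n) (Fin n) A := α (Matrix.single i j 1)

theorem F1 (i j k l : Fin n) : f α i j * f α k l = if j = k then f α i l else 0 := by
  unfold f
  rw [← map_mul]
  split_ifs with h
  · subst h
    rw [Matrix.single_mul_single_same, mul_one]
  · rw [Matrix.single_mul_single_of_ne (h := h), map_zero]

theorem F2 : ∑ i, f α i i = 1 := by
  unfold f
  rw [← map_sum, Matrix.sum_single_one, map_one]

theorem F1' (i j k l : Fin n) (v : Fin n → A) :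
    f α i j *ᵥ (f α k l *ᵥ v) = if j = k then f α i l *ᵥ v else 0 := by
  rw [Matrix.mulVec_mulVec, F1]
  split_ifs
  · rfl
  · rw [Matrix.zero_mulVec]

theorem mem_L' {M : Matrix (Fin n) (Fin n) A} :
    M ∈ L α ↔ ∀ i j, M * Matrix.single i j 1 = f α i j * M := by
  rw [mem_L]
  constructor
  · intro h i j
    exact h _
  · intro h N
    have hN : N = ∑ i, ∑ j, N i j • Matrix.single i j (1 : A) := by
      conv_lhs => rw [Matrix.matrix_eq_sum_single N]
      refine Finset.sum_congr rfl fun i _ => Finset.sum_congr rfl fun j _ => ?_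
      rw [Matrix.smul_single, smul_eq_mul, mul_one]
    rw [hN]
    simp only [map_sum, map_smul, Finset.mul_sum, Finset.sum_mul, Matrix.mul_smul,
      Matrix.smul_mul]
    refine Finset.sum_congr rfl fun i _ => Finset.sum_congr rfl fun j _ => ?_
    rw [h i j]
    rfl

/-- the element of `L` with prescribed "`i`-th column data" `v` -/
noncomputable def toL (v : Fin n → A) (i : Fin n) : L α :=
  ⟨Matrix.of (fun k j => (f α j i *ᵥ v) k), by
    rw [mem_L']
    intro a b
    ext k j
    have hR : (f α a b * Matrix.of (fun k j => (f α j i *ᵥ v) k)) k j =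
        (f α a b *ᵥ (f α j i *ᵥ v)) k := by
      rw [Matrix.mul_apply]
      rfl
    rw [hR, F1']
    by_cases hbj : b = j
    · subst hbj
      rw [if_pos rfl, Matrix.mul_single_apply_same, mul_one]
      rfl
    · rw [if_neg hbj, Matrix.mul_single_apply_of_ne (1 : A) a b k j (Ne.symm hbj)]
      rfl⟩

theorem toL_apply (v : Fin n → A) (i k j : Fin n) :
    (toL α v i : Matrix (Fin n) (Fin n) A) k j = (f α j i *ᵥ v) k := rfl

/-- `L^n ≅ A^n` -/
noncomputable def Psi : (Fin n → L α) ≃ₗ[A] (Fin n → A) where
  toFun x := fun k => ∑ i, (x i : Matrix (Fin n) (Fin n) A) k i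
  map_add' x y := by
    funext k
    simp only [Pi.add_apply, Submodule.coe_add, Matrix.add_apply, Finset.sum_add_distrib]
  map_smul' c x := by
    funext k
    simp only [Pi.smul_apply, Submodule.coe_smul, Matrix.smul_apply, smul_eq_mul,
      RingHom.id_apply, Finset.mul_sum]
  invFun v := fun i => toL α v i
  left_inv x := by
    funext i
    apply Subtype.ext
    ext k j
    rw [toL_apply]
    -- `f j i *ᵥ (∑ l, col_l (x l)) = ∑ l, col_l (f j i * x l) = ∑ l, col_l (x l * E_ji)`
    have h1 : ∀ l : Fin n, (f α j i * (x l : Matrix (Fin n) (Fin n) A)) =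
        (x l : Matrix (Fin n) (Fin n) A) * Matrix.single j i 1 :=
      fun l => ((mem_L' α).mp (x l).2 j i).symm
    have h2 : (f α j i *ᵥ fun k => ∑ l, (x l : Matrix (Fin n) (Fin n) A) k l) k =
        ∑ l, (f α j i * (x l : Matrix (Fin n) (Fin n) A)) k l := by
      simp only [Matrix.mulVec, dotProduct, Matrix.mul_apply, Finset.mul_sum]
      exact Finset.sum_comm
    rw [h2]
    simp_rw [h1]
    rw [Finset.sum_eq_single i]
    · rw [Matrix.mul_single_apply_same, mul_one]
    · intro l _ hli
      exact Matrix.mul_single_apply_of_ne (1 : A) j i k l hli _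
    · intro h
      exact absurd (Finset.mem_univ i) h
  right_inv v := by
    funext k
    change ∑ i, (f α i i *ᵥ v) k = v k
    have : ∑ i, (f α i i *ᵥ v) k = ((∑ i, f α i i) *ᵥ v) k := by
      rw [Matrix.sum_mulVec, Finset.sum_apply]
    rw [this, F2, Matrix.one_mulVec]

variable (hn : 0 < n)

include hn in
theorem finite_L : Module.Finite A (L α) := by
  let o : Fin n := ⟨0, hn⟩
  have hs : Function.Surjective
      ((LinearMap.proj o : (Fin n → L α) →ₗ[A] L α) ∘ₗ (Psi α).symm.toLinearMap) := by
    intro x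
    refine ⟨Psi α (fun _ => x), ?_⟩
    simp
  exact Module.Finite.of_surjective _ hs

include hn in
theorem projective_L : Module.Projective A (L α) := by
  let o : Fin n := ⟨0, hn⟩
  refine Module.Projective.of_split
    ((Psi α).toLinearMap ∘ₗ (LinearMap.single A (fun _ : Fin n => L α) o))
    ((LinearMap.proj o : (Fin n → L α) →ₗ[A] L α) ∘ₗ (Psi α).symm.toLinearMap) ?_
  apply LinearMap.ext
  intro x
  simp

include hn in
theorem invertible_L : Module.Invertible A (L α) := by
  rcases subsingleton_or_nontrivial A with hA | hA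
  · haveI : Subsingleton (L α) := Module.subsingleton A _
    exact Module.Invertible.congr (LinearEquiv.ofSubsingleton A (L α))
  · haveI := finite_L α hn
    haveI := projective_L α hn
    haveI : Nonempty (Fin n) := ⟨⟨0, hn⟩⟩
    exact Groth.Agent.Lib.MatInnerH1.invertible_of_pi_equiv (Psi α)

include hn in
theorem main :
    Module.Invertible A (L α) ∧ Nonempty ((⨂[A] _ : Fin n, L α) ≃ₗ[A] A) := by
  have hinv := invertible_L α hn
  refine ⟨hinv, ?_⟩
  haveI := hinv
  obtain ⟨inst, hk⟩ := Groth.Agent.Lib.PicPowH3.tensorPower_pic (R := A) (L α) n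
  have h1 : Pic.mk A (L α) ^ n = 1 := Groth.Agent.Lib.PicPowH3.main (Psi α)
  rw [← hk] at h1
  exact Pic.mk_eq_one_iff.mp h1

end Groth.Agent.Lib.MatAutLineH3
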