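import Mathlib
import Groth.Prelude.Def_W4c1btstackcountsChain

set_option autoImplicit false
set_option maxHeartbeats 1000000

/-!
Chains of matrices `k^{d 0} → k^{d 1} → ⋯` (representations of the equioriented `A_r` quiver):
basic facts about the images `img f i j`, invariance of the rank array under base change,
and admissibility of rank arrays.
-/

namespace Groth.Agent.Lib.MatChainH1

open W4c1btstackcounts

universe u

variable {k : Type u} [Field k] {d : ℕ → ℕ}

/-- Chains of matrices. -/
abbrev Chain (k : Type u) [Field k] (d : ℕ → ℕ) :=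
  (i : ℕ) → Matrix (Fin (d (i + 1))) (Fin (d i)) k

/-- Image of `k^{d i}` in `k^{d j}` (for `i ≤ j`; `⊤` otherwise), without index casts. -/
noncomputable def img (f : Chain k d) (i : ℕ) : (j : ℕ) → Submodule k (Fin (d j) → k)
  | 0 => ⊤
  | j + 1 => if i ≤ j then (img f i j).map (Matrix.toLin' (f j)) else ⊤

theorem img_succ (f : Chain k d) {i j : ℕ} (h : i ≤ j) :
    img f i (j + 1) = (img f i j).map (Matrix.toLin' (f j)) := by
  simp only [img, if_pos h]

theorem img_self (f : Chain k d) (i : ℕ) : img f i i = ⊤ := by
  cases i with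
  | zero => rfl
  | succ i => simp only [img, if_neg (Nat.not_succ_le_self i)]

theorem iterImage_eq (f : Chain k d) (i n : ℕ) : iterImage f i n = img f i (i + n) := by
  induction n with
  | zero => exact (img_self f i).symm
  | succ n ih =>
    show (iterImage f i n).map (Matrix.toLin' (f (i + n))) = img f i (i + n + 1)
    rw [img_succ f (Nat.le_add_right i n), ih]

theorem finrank_iterImage (f : Chain k d) (i : ℕ) : ∀ (n j : ℕ), i + n = j →
    Module.finrank k (iterImage f i n) = Module.finrank k (img f i j) := by
  intro n j h; subst h; rw [iterImage_eq]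

theorem rankArray_eq (f : Chain k d) {i j : ℕ} (h : i ≤ j) :
    rankArray f i j = Module.finrank k (img f i j) := by
  unfold rankArray
  rw [if_pos h]
  exact finrank_iterImage f i (j - i) j (by omega)

/-- The linear equivalence attached to an element of `GL`. -/
noncomputable def glEquiv {n : ℕ} (G : Matrix.GeneralLinearGroup (Fin n) k) :
    (Fin n → k) ≃ₗ[k] (Fin n → k) :=
  LinearEquiv.ofLinear (Matrix.toLin' (G : Matrix (Fin n) (Fin n) k))
    (Matrix.toLin' ((G⁻¹ : Matrix.GeneralLinearGroup (Fin n) k) : Matrix (Fin n) (Fin n) k))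
    (by rw [← Matrix.toLin'_mul, ← Units.val_mul, mul_inv_cancel, Units.val_one,
      Matrix.toLin'_one])
    (by rw [← Matrix.toLin'_mul, ← Units.val_mul, inv_mul_cancel, Units.val_one,
      Matrix.toLin'_one])

theorem glEquiv_toLinearMap {n : ℕ} (G : Matrix.GeneralLinearGroup (Fin n) k) :
    (glEquiv G).toLinearMap = Matrix.toLin' (G : Matrix (Fin n) (Fin n) k) := rfl

theorem img_conj (g : (j : ℕ) → Matrix.GeneralLinearGroup (Fin (d j)) k) (f : Chain k d)
    (i : ℕ) : ∀ j, i ≤ j →
      img (conj g f) i j = (img f i j).map (glEquiv (g j)).toLinearMap := by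
  intro j hij
  induction j, hij using Nat.le_induction with
  | base =>
    rw [img_self, img_self, Submodule.map_top,
      LinearMap.range_eq_top.mpr (glEquiv (g i)).surjective]
  | succ j hij ih =>
    rw [img_succ _ hij, img_succ _ hij, ih, ← Submodule.map_comp, ← Submodule.map_comp]
    congr 1
    rw [glEquiv_toLinearMap, glEquiv_toLinearMap, ← Matrix.toLin'_mul, ← Matrix.toLin'_mul]
    congr 1
    show ((g (j + 1)).val * f j * ((g j)⁻¹).val) * (g j).val = (g (j + 1)).val * f j
    rw [Matrix.mul_assoc, ← Units.val_mul, inv_mul_cancel, Units.val_one, Matrix.mul_one]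

theorem rankArray_conj (g : (j : ℕ) → Matrix.GeneralLinearGroup (Fin (d j)) k) (f : Chain k d)
    {i j : ℕ} (h : i ≤ j) : rankArray (conj g f) i j = rankArray f i j := by
  rw [rankArray_eq _ h, rankArray_eq _ h, img_conj g f i j h]
  exact LinearEquiv.finrank_map_eq (glEquiv (g j)) (img f i j)

section LA

variable {V W : Type*} [AddCommGroup V] [Module k V] [AddCommGroup W] [Module k W]
  [FiniteDimensional k V]

theorem finrank_map_add_finrank_inf_ker (φ : V →ₗ[k] W) (U : Submodule k V) :
    Module.finrank k (U.map φ) + Module.finrank k ↥(U ⊓ LinearMap.ker φ)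
      = Module.finrank k U := by
  have h := LinearMap.finrank_range_add_finrank_ker (φ.domRestrict U)
  rw [LinearMap.range_domRestrict] at h
  have hk : Module.finrank k (LinearMap.ker (φ.domRestrict U))
      = Module.finrank k ↥(U ⊓ LinearMap.ker φ) := by
    rw [← Submodule.finrank_map_subtype_eq U (LinearMap.ker (φ.domRestrict U))]
    have hmap : Submodule.map U.subtype (LinearMap.ker (φ.domRestrict U))
        = U ⊓ LinearMap.ker φ := by
      ext x
      constructor
      · rintro ⟨y, hy, rfl⟩
        exact ⟨y.2, hy⟩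
      · rintro ⟨hx, hφ⟩
        exact ⟨⟨x, hx⟩, hφ, rfl⟩
    rw [hmap]
  rw [hk] at h
  exact h

theorem finrank_map_convex (φ : V →ₗ[k] W) {U U' : Submodule k V} (h : U ≤ U') :
    Module.finrank k (U'.map φ) + Module.finrank k U
      ≤ Module.finrank k U' + Module.finrank k (U.map φ) := by
  have h1 := finrank_map_add_finrank_inf_ker φ U
  have h2 := finrank_map_add_finrank_inf_ker φ U'
  have h3 : Module.finrank k ↥(U ⊓ LinearMap.ker φ) ≤ Module.finrank k ↥(U' ⊓ LinearMap.ker φ) :=
    Submodule.finrank_mono (inf_le_inf_right _ h)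
  omega

end LA

theorem img_mono (f : Chain k d) (i : ℕ) : ∀ j, i + 1 ≤ j → img f i j ≤ img f (i + 1) j := by
  intro j hij
  induction j, hij using Nat.le_induction with
  | base => rw [img_self]; exact le_top
  | succ j hij ih =>
    rw [img_succ f (by omega : i ≤ j), img_succ f hij]
    exact Submodule.map_mono ih

theorem img_mono' (f : Chain k d) {i : ℕ} (hi : 1 ≤ i) {j : ℕ} (hij : i ≤ j) :
    img f (i - 1) j ≤ img f i j := by
  have := img_mono f (i - 1) j (by omega)
  rwa [Nat.sub_add_cancel hi] at this

theorem isRankArray_rankArray (f : Chain k d) (r : ℕ) : IsRankArray d r (rankArray f) := by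
  refine ⟨?_, ?_, ?_, ?_⟩
  · intro j _ _
    rw [rankArray_eq f le_rfl, img_self, finrank_top, Module.finrank_fin_fun]
  · intro i j _ hij _
    rw [rankArray_eq f hij.le, rankArray_eq f (by omega : i + 1 ≤ j)]
    exact Submodule.finrank_mono (img_mono f i j hij)
  · intro i j _ hij _
    rw [rankArray_eq f (by omega : i ≤ j + 1), rankArray_eq f hij, img_succ f hij]
    exact Submodule.finrank_map_le _ _
  · intro i j hi hij _
    rw [rankArray_eq f (by omega : i ≤ j + 1), rankArray_eq f (by omega : i - 1 ≤ j),
      rankArray_eq f hij, rankArray_eq f (by omega : i - 1 ≤ j + 1),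
      img_succ f hij, img_succ f (by omega : i - 1 ≤ j)]
    exact finrank_map_convex _ (img_mono' f (by omega) hij)

end Groth.Agent.Lib.MatChainH1
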