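import Groth.Agent.Lib.MatChain1_helper1

set_option autoImplicit false
set_option maxHeartbeats 1000000

/-!
String bases for chains of matrices: existence (backward induction along the chain).
-/

namespace Groth.Agent.Lib.MatChainH1

open W4c1btstackcounts Module

universe u

variable {k : Type u} [Field k] {d : ℕ → ℕ}

/-- Index type for string bases: (birth index, position). -/
abbrev P := (_ : ℕ) × ℕ

/-- layered index sets -/
def lay (lo hi : ℕ → ℕ) (i : ℕ) : Finset P :=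
  (Finset.Icc 1 i).sigma (fun i' => Finset.Ico (lo i') (hi i'))

theorem mem_lay {lo hi : ℕ → ℕ} {i : ℕ} {p : P} :
    p ∈ lay lo hi i ↔ (1 ≤ p.1 ∧ p.1 ≤ i) ∧ lo p.1 ≤ p.2 ∧ p.2 < hi p.1 := by
  simp only [lay, Finset.mem_sigma, Finset.mem_Icc, Finset.mem_Ico]

theorem mem_lay_coe {lo hi : ℕ → ℕ} {i : ℕ} {p : P} :
    p ∈ (lay lo hi i : Set P) ↔ (1 ≤ p.1 ∧ p.1 ≤ i) ∧ lo p.1 ≤ p.2 ∧ p.2 < hi p.1 := by
  rw [Finset.mem_coe, mem_lay]

/-- Flag-adapted families: for a flag `N 0 = ⊥ ≤ N 1 ≤ ⋯ ≤ N i₀` there is a family of vectors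
indexed by pairs such that the first `i` layers form a basis of `N i`. -/
theorem exists_flag_family {V : Type*} [AddCommGroup V] [Module k V] [FiniteDimensional k V]
    (N : ℕ → Submodule k V) (hN0 : N 0 = ⊥) (lo hi : ℕ → ℕ) (i₀ : ℕ)
    (hmono : ∀ i, i < i₀ → N i ≤ N (i + 1))
    (hsize : ∀ i, 1 ≤ i → i ≤ i₀ → lo i ≤ hi i ∧
      hi i - lo i + Module.finrank k (N (i - 1)) = Module.finrank k (N i)) :
    ∃ κ : P → V, ∀ i, i ≤ i₀ →
      LinearIndepOn k κ (lay lo hi i : Set P) ∧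
        Submodule.span k (κ '' (lay lo hi i : Set P)) = N i := by
  induction i₀ with
  | zero =>
    refine ⟨fun _ => 0, fun i hi0 => ?_⟩
    have hieq : i = 0 := by omega
    subst hieq
    have hemp : (lay lo hi 0 : Finset P) = ∅ := by
      apply Finset.eq_empty_of_forall_notMem
      intro p hp
      rw [mem_lay] at hp
      omega
    rw [hemp, Finset.coe_empty, Set.image_empty, Submodule.span_empty, hN0]
    exact ⟨linearIndepOn_empty k _, rfl⟩
  | succ i₀ ih =>
    obtain ⟨κ, hκ⟩ := ih (fun i hlt => hmono i (by omega))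
      (fun i h1 h2 => hsize i h1 (by omega))
    obtain ⟨hlh, hsz⟩ := hsize (i₀ + 1) (by omega) le_rfl
    rw [Nat.add_sub_cancel] at hsz
    obtain ⟨C', hC'⟩ := Submodule.exists_isCompl (N i₀)
    have hle : N i₀ ≤ N (i₀ + 1) := hmono i₀ (by omega)
    obtain ⟨C, hCdef⟩ : ∃ C : Submodule k V, C = C' ⊓ N (i₀ + 1) := ⟨_, rfl⟩
    have hdisj : Disjoint (N i₀) C := by
      rw [hCdef]; exact hC'.disjoint.mono_right inf_le_left
    have hsup : N i₀ ⊔ C = N (i₀ + 1) := by
      rw [hCdef, ← sup_inf_assoc_of_le C' hle, hC'.sup_eq_top, top_inf_eq]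
    have hfr : Module.finrank k C = hi (i₀ + 1) - lo (i₀ + 1) := by
      have h := Submodule.finrank_sup_add_finrank_inf_eq (N i₀) C
      rw [hsup, hdisj.eq_bot, finrank_bot, add_zero] at h
      omega
    classical
    let B := Module.finBasis k C
    let κ' : P → V := fun p =>
      if p.1 = i₀ + 1 then
        (if h : p.2 - lo (i₀ + 1) < Module.finrank k C then
          ((B ⟨p.2 - lo (i₀ + 1), h⟩ : C) : V) else 0)
      else κ p
    have hκ'old : ∀ p : P, p.1 ≤ i₀ → κ' p = κ p := by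
      intro p hp
      show (if p.1 = i₀ + 1 then
        (if h : p.2 - lo (i₀ + 1) < Module.finrank k C then
          ((B ⟨p.2 - lo (i₀ + 1), h⟩ : C) : V) else 0)
        else κ p) = κ p
      rw [if_neg (by omega)]
    have hold : ∀ i, i ≤ i₀ → LinearIndepOn k κ' (lay lo hi i : Set P) ∧
        Submodule.span k (κ' '' (lay lo hi i : Set P)) = N i := by
      intro i hi0
      obtain ⟨h1, h2⟩ := hκ i hi0
      have heq : Set.EqOn κ κ' (lay lo hi i : Set P) := by
        intro p hp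
        rw [mem_lay_coe] at hp
        exact (hκ'old p (by omega)).symm
      refine ⟨h1.congr heq, ?_⟩
      rw [← h2, Set.EqOn.image_eq heq]
    refine ⟨κ', fun i hi' => ?_⟩
    rcases Nat.lt_or_ge i (i₀ + 1) with hlt | hge
    · exact hold i (by omega)
    · have hi1 : i = i₀ + 1 := by omega
      subst hi1
      let ρ : Fin (Module.finrank k C) → P := fun s => ⟨i₀ + 1, lo (i₀ + 1) + s⟩
      have hρinj : Function.Injective ρ := by
        intro s t hst
        have h2 : lo (i₀ + 1) + (s : ℕ) = lo (i₀ + 1) + (t : ℕ) :=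
          congrArg (fun q : P => q.2) hst
        exact Fin.ext (by omega)
      have hκρ : ∀ s, κ' (ρ s) = ((B s : C) : V) := by
        intro s
        have h1 : lo (i₀ + 1) + (s : ℕ) - lo (i₀ + 1) = s := by omega
        have h2 : lo (i₀ + 1) + (s : ℕ) - lo (i₀ + 1) < Module.finrank k C := by
          rw [h1]; exact s.2
        show (if (i₀ + 1) = i₀ + 1 then
            (if h : lo (i₀ + 1) + (s : ℕ) - lo (i₀ + 1) < Module.finrank k C then
              ((B ⟨lo (i₀ + 1) + (s : ℕ) - lo (i₀ + 1), h⟩ : C) : V) else 0)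
          else κ (ρ s)) = ((B s : C) : V)
        rw [if_pos rfl, dif_pos h2]
        have h3 : (⟨lo (i₀ + 1) + (s : ℕ) - lo (i₀ + 1), h2⟩ : Fin (Module.finrank k C)) = s :=
          Fin.ext h1
        rw [h3]
      have hT : (lay lo hi (i₀ + 1) : Set P) = (lay lo hi i₀ : Set P) ∪ Set.range ρ := by
        ext ⟨a, t⟩
        rw [Set.mem_union, mem_lay_coe, mem_lay_coe]
        dsimp only
        constructor
        · rintro ⟨⟨h1, h2⟩, h3, h4⟩
          by_cases ha : a = i₀ + 1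
          · right
            subst ha
            refine ⟨⟨t - lo (i₀ + 1), by rw [hfr]; omega⟩, ?_⟩
            show (⟨i₀ + 1, lo (i₀ + 1) + (t - lo (i₀ + 1))⟩ : P) = ⟨i₀ + 1, t⟩
            have : lo (i₀ + 1) + (t - lo (i₀ + 1)) = t := by omega
            rw [this]
          · left
            exact ⟨⟨h1, by omega⟩, h3, h4⟩
        · rintro (⟨⟨h1, h2⟩, h3, h4⟩ | ⟨s, hs⟩)
          · exact ⟨⟨h1, by omega⟩, h3, h4⟩
          · have ha : i₀ + 1 = a := congrArg (fun q : P => q.1) hs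
            have ht : lo (i₀ + 1) + (s : ℕ) = t := congrArg (fun q : P => q.2) hs
            subst ha
            have hs2 : (s : ℕ) < hi (i₀ + 1) - lo (i₀ + 1) := lt_of_lt_of_eq s.2 hfr
            exact ⟨⟨by omega, le_rfl⟩, by omega, by omega⟩
      have hcomp : κ' ∘ ρ = C.subtype ∘ B := funext hκρ
      have hliT : LinearIndepOn k κ' (Set.range ρ) := by
        rw [linearIndepOn_range_iff hρinj, hcomp]
        exact B.linearIndependent.map' C.subtype (Submodule.ker_subtype C)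
      have hspT : Submodule.span k (κ' '' Set.range ρ) = C := by
        rw [← Set.range_comp, hcomp, Set.range_comp, ← Submodule.map_span, B.span_eq,
          Submodule.map_top, Submodule.range_subtype]
      obtain ⟨h1, h2⟩ := hold i₀ le_rfl
      rw [hT]
      refine ⟨h1.union hliT ?_, ?_⟩
      · rw [h2, hspT]; exact hdisj
      · rw [Set.image_union, Submodule.span_union, h2, hspT, hsup]

/-- One step of the backward construction of string bases. -/
theorem step_lemma {V W : Type*} [AddCommGroup V] [Module k V] [FiniteDimensional k V]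
    [AddCommGroup W] [Module k W]
    (φ : V →ₗ[k] W) (l : ℕ) (F : ℕ → Submodule k V) (hF0 : F 0 = ⊥)
    (hFmono : ∀ i, i < l → F i ≤ F (i + 1))
    (n₁ n₂ : ℕ → ℕ)
    (hn₁ : ∀ i, 1 ≤ i → i ≤ l →
      n₁ i + Module.finrank k (F (i - 1)) = Module.finrank k (F i))
    (hn₂ : ∀ i, 1 ≤ i → i ≤ l →
      n₂ i + Module.finrank k ((F (i - 1)).map φ) = Module.finrank k ((F i).map φ))
    (c : P → W)
    (hc : ∀ i, 1 ≤ i → i ≤ l → LinearIndepOn k c (lay (fun _ => 0) n₂ i : Set P) ∧
      Submodule.span k (c '' (lay (fun _ => 0) n₂ i : Set P)) = (F i).map φ) :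
    ∃ b : P → V,
      (∀ i, 1 ≤ i → i ≤ l → LinearIndepOn k b (lay (fun _ => 0) n₁ i : Set P) ∧
        Submodule.span k (b '' (lay (fun _ => 0) n₁ i : Set P)) = F i) ∧
      ∀ p ∈ lay (fun _ => 0) n₁ l, φ (b p) = if p.2 < n₂ p.1 then c p else 0 := by
  classical
  have hFle : ∀ i' i, i' ≤ i → i ≤ l → F i' ≤ F i := by
    intro i' i hi'
    induction i, hi' using Nat.le_induction with
    | base => intro _; exact le_rfl
    | succ i hi' ih => intro hil; exact (ih (by omega)).trans (hFmono i (by omega))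
  obtain ⟨N, hNdef⟩ : ∃ N : ℕ → Submodule k V, ∀ i, N i = F i ⊓ LinearMap.ker φ :=
    ⟨fun i => F i ⊓ LinearMap.ker φ, fun _ => rfl⟩
  have hN0 : N 0 = ⊥ := by rw [hNdef, hF0, bot_inf_eq]
  have hNmono : ∀ i, i < l → N i ≤ N (i + 1) := by
    intro i hi
    rw [hNdef, hNdef]
    exact inf_le_inf_right _ (hFmono i hi)
  have hLA : ∀ i, Module.finrank k ((F i).map φ) + Module.finrank k (N i)
      = Module.finrank k (F i) := by
    intro i
    rw [hNdef]
    exact finrank_map_add_finrank_inf_ker φ (F i)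
  have hsize : ∀ i, 1 ≤ i → i ≤ l → n₂ i ≤ n₁ i ∧
      n₁ i - n₂ i + Module.finrank k (N (i - 1)) = Module.finrank k (N i) := by
    intro i h1 h2
    have e1 := hn₁ i h1 h2
    have e2 := hn₂ i h1 h2
    have e3 := hLA i
    have e4 := hLA (i - 1)
    have e5 : Module.finrank k (N (i - 1)) ≤ Module.finrank k (N i) := by
      apply Submodule.finrank_mono
      have := hNmono (i - 1) (by omega)
      rwa [Nat.sub_add_cancel h1] at this
    constructor <;> omega
  obtain ⟨κ, hκ⟩ := exists_flag_family N hN0 n₂ n₁ l hNmono hsize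
  have hpre : ∀ p : P, 1 ≤ p.1 → p.1 ≤ l → p.2 < n₂ p.1 → ∃ v, v ∈ F p.1 ∧ φ v = c p := by
    intro p h1 h2 h3
    have hmem : c p ∈ Submodule.span k (c '' (lay (fun _ => 0) n₂ p.1 : Set P)) :=
      Submodule.subset_span ⟨p, mem_lay_coe.mpr ⟨⟨h1, le_rfl⟩, Nat.zero_le _, h3⟩, rfl⟩
    rw [(hc p.1 h1 h2).2] at hmem
    obtain ⟨v, hv, hφ⟩ := hmem
    exact ⟨v, hv, hφ⟩
  obtain ⟨pre, hpredef⟩ : ∃ pre : P → V, ∀ p : P, 1 ≤ p.1 → p.1 ≤ l → p.2 < n₂ p.1 →
      pre p ∈ F p.1 ∧ φ (pre p) = c p := by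
    refine ⟨fun p => if h : ∃ v, v ∈ F p.1 ∧ φ v = c p then Classical.choose h else 0, ?_⟩
    intro p h1 h2 h3
    have h := hpre p h1 h2 h3
    show (if h : ∃ v, v ∈ F p.1 ∧ φ v = c p then Classical.choose h else 0) ∈ F p.1 ∧
      φ (if h : ∃ v, v ∈ F p.1 ∧ φ v = c p then Classical.choose h else 0) = c p
    rw [dif_pos h]
    exact Classical.choose_spec h
  obtain ⟨b, hb1, hb2⟩ : ∃ b : P → V, (∀ p : P, p.2 < n₂ p.1 → b p = pre p) ∧
      (∀ p : P, ¬ p.2 < n₂ p.1 → b p = κ p) :=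
    ⟨fun p => if p.2 < n₂ p.1 then pre p else κ p, fun p h => if_pos h, fun p h => if_neg h⟩
  have hsplit : ∀ i, i ≤ l → (lay (fun _ => 0) n₁ i : Set P)
      = (lay (fun _ => 0) n₂ i : Set P) ∪ (lay n₂ n₁ i : Set P) := by
    intro i hil
    ext p
    rw [Set.mem_union, mem_lay_coe, mem_lay_coe, mem_lay_coe]
    constructor
    · rintro ⟨⟨h1, h2⟩, h3, h4⟩
      by_cases hp : p.2 < n₂ p.1
      · left; exact ⟨⟨h1, h2⟩, h3, hp⟩
      · right; exact ⟨⟨h1, h2⟩, by omega, h4⟩
    · rintro (⟨⟨h1, h2⟩, h3, h4⟩ | ⟨⟨h1, h2⟩, h3, h4⟩)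
      · have := (hsize p.1 h1 (by omega)).1
        exact ⟨⟨h1, h2⟩, h3, by omega⟩
      · exact ⟨⟨h1, h2⟩, Nat.zero_le _, h4⟩
  have key : ∀ i, 1 ≤ i → i ≤ l →
      LinearIndepOn k b (lay (fun _ => 0) n₁ i : Set P) ∧
        Submodule.span k (b '' (lay (fun _ => 0) n₁ i : Set P)) = F i := by
    intro i hi1 hil
    obtain ⟨hc1, hc2⟩ := hc i hi1 hil
    obtain ⟨hκ1, hκ2⟩ := hκ i hil
    have hφb : Set.EqOn c (φ ∘ b) (lay (fun _ => 0) n₂ i : Set P) := by
      intro p hp
      rw [mem_lay_coe] at hp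
      obtain ⟨⟨h1, h2⟩, _, h4⟩ := hp
      show c p = φ (b p)
      rw [hb1 p h4, (hpredef p h1 (by omega) h4).2]
    have hb_mem : ∀ p ∈ (lay (fun _ => 0) n₂ i : Set P), b p ∈ F i := by
      intro p hp
      rw [mem_lay_coe] at hp
      obtain ⟨⟨h1, h2⟩, _, h4⟩ := hp
      rw [hb1 p h4]
      exact hFle p.1 i h2 hil (hpredef p h1 (by omega) h4).1
    have hbκ : Set.EqOn κ b (lay n₂ n₁ i : Set P) := by
      intro p hp
      rw [mem_lay_coe] at hp
      exact (hb2 p (by omega)).symm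
    have hliφ : LinearIndepOn k (φ ∘ b) (lay (fun _ => 0) n₂ i : Set P) := hc1.congr hφb
    have hli1 : LinearIndepOn k b (lay (fun _ => 0) n₂ i : Set P) :=
      LinearIndepOn.of_comp φ hliφ
    have hli2 : LinearIndepOn k b (lay n₂ n₁ i : Set P) := hκ1.congr hbκ
    have hsp2 : Submodule.span k (b '' (lay n₂ n₁ i : Set P)) = N i := by
      rw [← hκ2, Set.EqOn.image_eq hbκ]
    have hsp1le : Submodule.span k (b '' (lay (fun _ => 0) n₂ i : Set P)) ≤ F i := by
      rw [Submodule.span_le]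
      rintro _ ⟨p, hp, rfl⟩
      exact hb_mem p hp
    have hmap1 : (Submodule.span k (b '' (lay (fun _ => 0) n₂ i : Set P))).map φ
        = (F i).map φ := by
      rw [Submodule.map_span, Set.image_image, ← hc2]
      congr 1
      exact (Set.EqOn.image_eq hφb).symm
    have hdisj : Disjoint (Submodule.span k (b '' (lay (fun _ => 0) n₂ i : Set P)))
        (Submodule.span k (b '' (lay n₂ n₁ i : Set P))) := by
      rw [hsp2, Submodule.disjoint_def]
      intro x hx1 hx2
      rw [Finsupp.mem_span_image_iff_linearCombination] at hx1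
      obtain ⟨ℓ, hℓ, rfl⟩ := hx1
      rw [hNdef] at hx2
      have hker : φ (Finsupp.linearCombination k b ℓ) = 0 :=
        LinearMap.mem_ker.mp (Submodule.mem_inf.mp hx2).2
      rw [Finsupp.apply_linearCombination] at hker
      have := linearIndepOn_iff.mp hliφ ℓ hℓ hker
      rw [this, map_zero]
    rw [hsplit i hil]
    refine ⟨hli1.union hli2 hdisj, ?_⟩
    rw [Set.image_union, Submodule.span_union]
    apply le_antisymm
    · refine sup_le hsp1le ?_
      rw [hsp2, hNdef]; exact inf_le_left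
    · intro v hv
      have hφv : φ v ∈ (F i).map φ := Submodule.mem_map_of_mem hv
      rw [← hmap1] at hφv
      obtain ⟨u, hu, huv⟩ := hφv
      have hvu : v - u ∈ N i := by
        rw [hNdef]
        refine Submodule.mem_inf.mpr ⟨(F i).sub_mem hv (hsp1le hu), ?_⟩
        rw [LinearMap.mem_ker, map_sub, huv, sub_self]
      rw [← hsp2] at hvu
      have hv' : v = u + (v - u) := by abel
      rw [hv']
      exact Submodule.add_mem_sup hu hvu
  refine ⟨b, key, ?_⟩
  intro p hp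
  rw [mem_lay] at hp
  obtain ⟨⟨h1, h2⟩, _, h4⟩ := hp
  by_cases h : p.2 < n₂ p.1
  · rw [if_pos h, hb1 p h, (hpredef p h1 h2 h).2]
  · rw [if_neg h, hb2 p h]
    have hmem : κ p ∈ Submodule.span k (κ '' (lay n₂ n₁ l : Set P)) :=
      Submodule.subset_span ⟨p, mem_lay_coe.mpr ⟨⟨h1, h2⟩, by omega, h4⟩, rfl⟩
    rw [(hκ l le_rfl).2, hNdef] at hmem
    exact LinearMap.mem_ker.mp (Submodule.mem_inf.mp hmem).2

/-- the flag of images, with `Fl 0 = ⊥` -/
noncomputable def Fl (f : Chain k d) (i l : ℕ) : Submodule k (Fin (d l) → k) :=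
  if i = 0 then ⊥ else img f i l

theorem Fl_zero (f : Chain k d) (l : ℕ) : Fl f 0 l = ⊥ := if_pos rfl

theorem Fl_pos (f : Chain k d) {i : ℕ} (hi : 1 ≤ i) (l : ℕ) : Fl f i l = img f i l :=
  if_neg (by omega)

theorem Fl_mono (f : Chain k d) (i l : ℕ) (hi : i < l) : Fl f i l ≤ Fl f (i + 1) l := by
  rcases Nat.eq_zero_or_pos i with h0 | hpos
  · subst h0; rw [Fl_zero]; exact bot_le
  · rw [Fl_pos f hpos, Fl_pos f (by omega)]
    exact img_mono f i l hi

/-- layer sizes -/
def nnA (A : ℕ → ℕ → ℕ) (i l : ℕ) : ℕ := A i l - A (i - 1) l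

/-- the index set of layers `≤ i` at level `l` -/
def Lay (A : ℕ → ℕ → ℕ) (l i : ℕ) : Finset P :=
  lay (fun _ => 0) (fun i' => nnA A i' l) i

theorem mem_Lay {A : ℕ → ℕ → ℕ} {l i : ℕ} {p : P} :
    p ∈ Lay A l i ↔ (1 ≤ p.1 ∧ p.1 ≤ i) ∧ p.2 < nnA A p.1 l := by
  unfold Lay
  rw [mem_lay]
  constructor
  · rintro ⟨h, _, h2⟩; exact ⟨h, h2⟩
  · rintro ⟨h, h2⟩; exact ⟨h, Nat.zero_le _, h2⟩

/-- string structure on levels `≥ l₀` -/
def Inv (f : Chain k d) (r : ℕ) (A : ℕ → ℕ → ℕ) (l₀ : ℕ)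
    (b : (l : ℕ) → P → (Fin (d l) → k)) : Prop :=
  (∀ l, l₀ ≤ l → 1 ≤ l → l ≤ r → ∀ i, 1 ≤ i → i ≤ l →
    LinearIndepOn k (b l) (Lay A l i : Set P) ∧
      Submodule.span k (b l '' (Lay A l i : Set P)) = img f i l) ∧
  (∀ l, l₀ ≤ l → 1 ≤ l → l + 1 ≤ r → ∀ p ∈ Lay A l l,
    Matrix.toLin' (f l) (b l p) = if p.2 < nnA A p.1 (l + 1) then b (l + 1) p else 0)

theorem exists_string (f : Chain k d) (r : ℕ) (A : ℕ → ℕ → ℕ) (hA0 : ∀ l, A 0 l = 0)
    (hA : ∀ i l, 1 ≤ i → i ≤ l → l ≤ r → A i l = Module.finrank k (img f i l)) :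
    ∀ m l₀, l₀ + m = r → ∃ b, Inv f r A l₀ b := by
  have hAF : ∀ i l, i ≤ l → l ≤ r → A i l = Module.finrank k (Fl f i l) := by
    intro i l hil hlr
    rcases Nat.eq_zero_or_pos i with h0 | hpos
    · subst h0; rw [Fl_zero, finrank_bot, hA0]
    · rw [Fl_pos f hpos, hA i l hpos hil hlr]
  have hnn : ∀ i l, 1 ≤ i → i ≤ l → l ≤ r →
      nnA A i l + Module.finrank k (Fl f (i - 1) l) = Module.finrank k (Fl f i l) := by
    intro i l hi hil hlr
    unfold nnA
    rw [hAF i l hil hlr, hAF (i - 1) l (by omega) hlr]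
    have hle : Module.finrank k (Fl f (i - 1) l) ≤ Module.finrank k (Fl f i l) := by
      apply Submodule.finrank_mono
      have := Fl_mono f (i - 1) l (by omega)
      rwa [Nat.sub_add_cancel hi] at this
    omega
  intro m
  induction m with
  | zero =>
    intro l₀ hl
    have hl₀ : l₀ = r := by omega
    subst hl₀
    rcases Nat.eq_zero_or_pos l₀ with h0 | hpos
    · refine ⟨fun _ _ => 0, ?_, ?_⟩
      · intro l h1 h2 h3; omega
      · intro l h1 h2 h3; omega
    · obtain ⟨κ, hκ⟩ := exists_flag_family (fun i => Fl f i l₀) (Fl_zero f l₀) (fun _ => 0)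
        (fun i' => nnA A i' l₀) l₀ (fun i hi => Fl_mono f i l₀ hi)
        (fun i h1 h2 => ⟨Nat.zero_le _, by
          have := hnn i l₀ h1 h2 le_rfl
          show nnA A i l₀ - 0 + _ = _
          rw [Nat.sub_zero]; exact this⟩)
      refine ⟨Function.update (fun (l : ℕ) (_ : P) => (0 : Fin (d l) → k)) l₀ κ, ?_, ?_⟩
      · intro l h1 h2 h3 i hi1 hil
        have hl : l = l₀ := by omega
        subst hl
        rw [Function.update_self]
        obtain ⟨x, y⟩ := hκ i hil
        refine ⟨x, ?_⟩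
        rw [← Fl_pos f hi1]
        exact y
      · intro l h1 h2 h3; omega
  | succ m ih =>
    intro l₀ hl
    obtain ⟨b, hb1, hb2⟩ := ih (l₀ + 1) (by omega)
    rcases Nat.eq_zero_or_pos l₀ with h0 | hpos
    · subst h0
      exact ⟨b, fun l _ h2 h3 => hb1 l (by omega) h2 h3,
        fun l _ h2 h3 => hb2 l (by omega) h2 h3⟩
    · have hlr : l₀ + 1 ≤ r := by omega
      have hn₂ : ∀ i, 1 ≤ i → i ≤ l₀ →
          nnA A i (l₀ + 1) + Module.finrank k ((Fl f (i - 1) l₀).map (Matrix.toLin' (f l₀)))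
            = Module.finrank k ((Fl f i l₀).map (Matrix.toLin' (f l₀))) := by
        intro i h1 h2
        have e1 : (Fl f i l₀).map (Matrix.toLin' (f l₀)) = Fl f i (l₀ + 1) := by
          rw [Fl_pos f h1, Fl_pos f h1, img_succ f h2]
        have e2 : (Fl f (i - 1) l₀).map (Matrix.toLin' (f l₀)) = Fl f (i - 1) (l₀ + 1) := by
          rcases Nat.eq_or_lt_of_le h1 with h | h
          · have h0 : i - 1 = 0 := by omega
            rw [h0, Fl_zero, Fl_zero, Submodule.map_bot]
          · rw [Fl_pos f (by omega : 1 ≤ i - 1), Fl_pos f (by omega : 1 ≤ i - 1),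
              img_succ f (by omega)]
        rw [e1, e2]
        exact hnn i (l₀ + 1) h1 (by omega) hlr
      have hcc : ∀ i, 1 ≤ i → i ≤ l₀ →
          LinearIndepOn k (b (l₀ + 1))
            (lay (fun _ => 0) (fun i' => nnA A i' (l₀ + 1)) i : Set P) ∧
          Submodule.span k (b (l₀ + 1) ''
            (lay (fun _ => 0) (fun i' => nnA A i' (l₀ + 1)) i : Set P))
              = (Fl f i l₀).map (Matrix.toLin' (f l₀)) := by
        intro i h1 h2
        obtain ⟨x, y⟩ := hb1 (l₀ + 1) le_rfl (by omega) hlr i h1 (by omega)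
        refine ⟨x, ?_⟩
        rw [Fl_pos f h1, ← img_succ f h2]
        exact y
      obtain ⟨b₀, hb₀1, hb₀2⟩ := step_lemma (Matrix.toLin' (f l₀)) l₀ (fun i => Fl f i l₀)
        (Fl_zero f l₀) (fun i hi => Fl_mono f i l₀ hi) (fun i' => nnA A i' l₀)
        (fun i' => nnA A i' (l₀ + 1))
        (fun i h1 h2 => hnn i l₀ h1 h2 (by omega)) hn₂ (b (l₀ + 1)) hcc
      refine ⟨Function.update b l₀ b₀, ?_, ?_⟩
      · intro l h1 h2 h3 i hi1 hil
        rcases Nat.eq_or_lt_of_le h1 with h | h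
        · subst h
          rw [Function.update_self]
          obtain ⟨x, y⟩ := hb₀1 i hi1 hil
          refine ⟨x, ?_⟩
          rw [← Fl_pos f hi1]
          exact y
        · rw [Function.update_of_ne (by omega : l ≠ l₀)]
          exact hb1 l (by omega) h2 h3 i hi1 hil
      · intro l h1 h2 h3 p hp
        rcases Nat.eq_or_lt_of_le h1 with h | h
        · subst h
          rw [Function.update_self, Function.update_of_ne (by omega : l₀ + 1 ≠ l₀)]
          exact hb₀2 p hp
        · rw [Function.update_of_ne (by omega : l ≠ l₀),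
            Function.update_of_ne (by omega : l + 1 ≠ l₀)]
          exact hb2 l (by omega) h2 h3 p hp

end Groth.Agent.Lib.MatChainH1
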