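import Groth.Agent.Lib.MatChain2_helper1

set_option autoImplicit false
set_option maxHeartbeats 1000000

/-!
Chains of matrices: rank arrays from string bases, conjugacy of chains with equal rank arrays,
realization of admissible arrays, and the classification statement.
-/

namespace Groth.Agent.Lib.MatChainH1

open W4c1btstackcounts Module

universe u

variable {k : Type u} [Field k] {d : ℕ → ℕ}

theorem img_eq_span_of_string (f : Chain k d) (r : ℕ) (A : ℕ → ℕ → ℕ)
    (hconv : ∀ i l, 1 ≤ i → i ≤ l → l + 1 ≤ r → nnA A i (l + 1) ≤ nnA A i l)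
    (b : (l : ℕ) → P → (Fin (d l) → k))
    (hspan : ∀ l, 1 ≤ l → l ≤ r → Submodule.span k (b l '' (Lay A l l : Set P)) = ⊤)
    (hcompat : ∀ l, 1 ≤ l → l + 1 ≤ r → ∀ p ∈ Lay A l l,
      Matrix.toLin' (f l) (b l p) = if p.2 < nnA A p.1 (l + 1) then b (l + 1) p else 0)
    (i : ℕ) (hi : 1 ≤ i) : ∀ l, i ≤ l → l ≤ r →
      img f i l = Submodule.span k (b l '' (Lay A l i : Set P)) := by
  intro l hil
  induction l, hil using Nat.le_induction with
  | base => intro hr; rw [img_self, hspan i hi hr]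
  | succ l hil ih =>
    intro hr
    rw [img_succ f hil, ih (by omega), Submodule.map_span, Set.image_image]
    apply le_antisymm
    · rw [Submodule.span_le]
      rintro _ ⟨p, hp, rfl⟩
      rw [Finset.mem_coe, mem_Lay] at hp
      have hp' : p ∈ Lay A l l := mem_Lay.mpr ⟨⟨hp.1.1, by omega⟩, hp.2⟩
      show Matrix.toLin' (f l) (b l p) ∈ _
      rw [hcompat l (by omega) hr p hp']
      split_ifs with h
      · apply Submodule.subset_span
        refine ⟨p, ?_, rfl⟩
        rw [Finset.mem_coe, mem_Lay]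
        exact ⟨hp.1, h⟩
      · exact Submodule.zero_mem _
    · rw [Submodule.span_le]
      rintro _ ⟨p, hp, rfl⟩
      rw [Finset.mem_coe, mem_Lay] at hp
      have hlt : p.2 < nnA A p.1 l :=
        lt_of_lt_of_le hp.2 (hconv p.1 l hp.1.1 (by omega) hr)
      have hp' : p ∈ Lay A l l := mem_Lay.mpr ⟨⟨hp.1.1, by omega⟩, hlt⟩
      have hpi : p ∈ (Lay A l i : Set P) := by
        rw [Finset.mem_coe, mem_Lay]; exact ⟨hp.1, hlt⟩
      apply Submodule.subset_span
      refine ⟨p, hpi, ?_⟩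
      show Matrix.toLin' (f l) (b l p) = b (l + 1) p
      rw [hcompat l (by omega) hr p hp', if_pos hp.2]

theorem sum_nnA (A : ℕ → ℕ → ℕ) (l : ℕ) (hA0 : A 0 l = 0)
    (hmono : ∀ i, 1 ≤ i → i ≤ l → A (i - 1) l ≤ A i l) :
    ∀ i, i ≤ l → ∑ i' ∈ Finset.Icc 1 i, nnA A i' l = A i l := by
  intro i
  induction i with
  | zero =>
    intro _
    rw [Finset.Icc_eq_empty (by omega), Finset.sum_empty, hA0]
  | succ i ih =>
    intro hil
    rw [Finset.sum_Icc_succ_top (by omega), ih (by omega)]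
    have := hmono (i + 1) (by omega) hil
    unfold nnA
    rw [Nat.add_sub_cancel] at this ⊢
    omega

theorem card_Lay (A : ℕ → ℕ → ℕ) (l : ℕ) (hA0 : A 0 l = 0)
    (hmono : ∀ i, 1 ≤ i → i ≤ l → A (i - 1) l ≤ A i l) (i : ℕ) (hil : i ≤ l) :
    (Lay A l i).card = A i l := by
  unfold Lay lay
  rw [Finset.card_sigma]
  simp only [Nat.card_Ico, Nat.sub_zero]
  exact sum_nnA A l hA0 hmono i hil

theorem finrank_span_of_linearIndepOn {V : Type*} [AddCommGroup V] [Module k V]
    (b : P → V) (S : Finset P) (h : LinearIndepOn k b (S : Set P)) :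
    Module.finrank k (Submodule.span k (b '' (S : Set P))) = S.card := by
  have h' : LinearIndependent k (fun x : S => b x) := h
  have h2 := finrank_span_eq_card h'
  rw [Fintype.card_coe] at h2
  have hset : b '' (S : Set P) = Set.range (fun x : S => b x) := by
    ext v
    constructor
    · rintro ⟨p, hp, rfl⟩; exact ⟨⟨p, hp⟩, rfl⟩
    · rintro ⟨⟨p, hp⟩, rfl⟩; exact ⟨p, hp, rfl⟩
  rw [hset]
  exact h2

/-- The element of `GL` attached to a linear automorphism. -/
noncomputable def toGL {n : ℕ} (e : (Fin n → k) ≃ₗ[k] (Fin n → k)) :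
    Matrix.GeneralLinearGroup (Fin n) k :=
  ⟨LinearMap.toMatrix' e.toLinearMap, LinearMap.toMatrix' e.symm.toLinearMap,
    by rw [← LinearMap.toMatrix'_comp,
      show e.toLinearMap.comp e.symm.toLinearMap = LinearMap.id from
        LinearMap.ext (fun x => e.apply_symm_apply x), LinearMap.toMatrix'_id],
    by rw [← LinearMap.toMatrix'_comp,
      show e.symm.toLinearMap.comp e.toLinearMap = LinearMap.id from
        LinearMap.ext (fun x => e.symm_apply_apply x), LinearMap.toMatrix'_id]⟩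

theorem conj_of_strings (f f' : Chain k d) (r : ℕ) (A : ℕ → ℕ → ℕ)
    (b b' : (l : ℕ) → P → (Fin (d l) → k))
    (hb : Inv f r A 0 b) (hb' : Inv f' r A 0 b') :
    ∃ g : (j : ℕ) → Matrix.GeneralLinearGroup (Fin (d j)) k,
      ∀ i, 1 ≤ i → i + 1 ≤ r → conj g f i = f' i := by
  have key : ∀ l, ∃ e : (Fin (d l) → k) ≃ₗ[k] (Fin (d l) → k),
      (1 ≤ l → l ≤ r → ∀ p ∈ Lay A l l, e (b l p) = b' l p) := by
    intro l
    by_cases h : 1 ≤ l ∧ l ≤ r
    · obtain ⟨h1, h2⟩ := h
      obtain ⟨hli, hsp⟩ := hb.1 l (Nat.zero_le _) h1 h2 l h1 le_rfl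
      obtain ⟨hli', hsp'⟩ := hb'.1 l (Nat.zero_le _) h1 h2 l h1 le_rfl
      rw [img_self] at hsp hsp'
      have hli1 : LinearIndependent k (fun x : (Lay A l l : Set P) => b l x) := hli
      have hli1' : LinearIndependent k (fun x : (Lay A l l : Set P) => b' l x) := hli'
      have hsp1 : ⊤ ≤ Submodule.span k (Set.range (fun x : (Lay A l l : Set P) => b l x)) := by
        rw [← Set.image_eq_range, hsp]
      have hsp1' : ⊤ ≤ Submodule.span k
          (Set.range (fun x : (Lay A l l : Set P) => b' l x)) := by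
        rw [← Set.image_eq_range, hsp']
      refine ⟨(Basis.mk hli1 hsp1).equiv (Basis.mk hli1' hsp1') (Equiv.refl _),
        fun _ _ p hp => ?_⟩
      have e1 : (Basis.mk hli1 hsp1) ⟨p, hp⟩ = b l p := Basis.mk_apply hli1 hsp1 ⟨p, hp⟩
      have e2 : (Basis.mk hli1' hsp1') ⟨p, hp⟩ = b' l p := Basis.mk_apply hli1' hsp1' ⟨p, hp⟩
      rw [← e1, Basis.equiv_apply, Equiv.refl_apply, e2]
    · exact ⟨LinearEquiv.refl _ _, fun h1 h2 => absurd ⟨h1, h2⟩ h⟩
  choose e he using key
  refine ⟨fun j => toGL (e j), fun i hi1 hir => ?_⟩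
  have hcomm : (e (i + 1)).toLinearMap.comp (Matrix.toLin' (f i))
      = (Matrix.toLin' (f' i)).comp (e i).toLinearMap := by
    obtain ⟨hli, hsp⟩ := hb.1 i (Nat.zero_le _) hi1 (by omega) i hi1 le_rfl
    rw [img_self] at hsp
    have hli1 : LinearIndependent k (fun x : (Lay A i i : Set P) => b i x) := hli
    have hsp1 : ⊤ ≤ Submodule.span k (Set.range (fun x : (Lay A i i : Set P) => b i x)) := by
      rw [← Set.image_eq_range, hsp]
    apply (Basis.mk hli1 hsp1).ext
    rintro ⟨p, hp⟩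
    rw [Basis.mk_apply]
    show e (i + 1) (Matrix.toLin' (f i) (b i p)) = Matrix.toLin' (f' i) (e i (b i p))
    have hp' : p ∈ Lay A i i := hp
    rw [he i hi1 (by omega) p hp', hb.2 i (Nat.zero_le _) hi1 hir p hp',
      hb'.2 i (Nat.zero_le _) hi1 hir p hp']
    split_ifs with h
    · apply he (i + 1) (by omega) hir p
      rw [mem_Lay] at hp' ⊢
      exact ⟨⟨hp'.1.1, by omega⟩, h⟩
    · exact map_zero _
  show LinearMap.toMatrix' (e (i + 1)).toLinearMap * f i *
    LinearMap.toMatrix' (e i).symm.toLinearMap = f' i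
  apply Matrix.toLin'.injective
  rw [Matrix.toLin'_mul, Matrix.toLin'_mul, Matrix.toLin'_toMatrix', Matrix.toLin'_toMatrix',
    hcomm, LinearMap.comp_assoc]
  have hid : (e i).toLinearMap.comp (e i).symm.toLinearMap = LinearMap.id :=
    LinearMap.ext (fun x => (e i).apply_symm_apply x)
  rw [hid, LinearMap.comp_id]

section realize

variable (k) (d)

/-- the standard string basis -/
noncomputable def stdB (A : ℕ → ℕ → ℕ) (l : ℕ) : P → (Fin (d l) → k) := fun p =>
  if h : (Lay A l l).card = d l then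
    (if hp : p ∈ Lay A l l then Pi.single ((Finset.equivFinOfCardEq h) ⟨p, hp⟩) 1 else 0)
  else 0

/-- the standard chain maps -/
noncomputable def stdMap (A : ℕ → ℕ → ℕ) (l : ℕ) :
    (Fin (d l) → k) →ₗ[k] (Fin (d (l + 1)) → k) :=
  (Pi.basisFun k (Fin (d l))).constr k (fun x =>
    if h : (Lay A l l).card = d l then
      (if (((Finset.equivFinOfCardEq h).symm x : Lay A l l) : P).2
          < nnA A (((Finset.equivFinOfCardEq h).symm x : Lay A l l) : P).1 (l + 1)
        then stdB k d A (l + 1) (((Finset.equivFinOfCardEq h).symm x : Lay A l l) : P) else 0)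
    else 0)

/-- the standard chain -/
noncomputable def stdChain (A : ℕ → ℕ → ℕ) : Chain k d :=
  fun l => LinearMap.toMatrix' (stdMap k d A l)

theorem stdB_apply (A : ℕ → ℕ → ℕ) (l : ℕ) (h : (Lay A l l).card = d l) (p : P)
    (hp : p ∈ Lay A l l) :
    stdB k d A l p = Pi.single ((Finset.equivFinOfCardEq h) ⟨p, hp⟩) 1 := by
  unfold stdB; rw [dif_pos h, dif_pos hp]

theorem stdMap_stdB (A : ℕ → ℕ → ℕ) (l : ℕ) (h : (Lay A l l).card = d l) (p : P)
    (hp : p ∈ Lay A l l) :
    stdMap k d A l (stdB k d A l p)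
      = if p.2 < nnA A p.1 (l + 1) then stdB k d A (l + 1) p else 0 := by
  rw [stdB_apply k d A l h p hp, ← Pi.basisFun_apply, stdMap, Basis.constr_basis, dif_pos h]
  simp only [Equiv.symm_apply_apply]

theorem stdB_basis (A : ℕ → ℕ → ℕ) (l : ℕ) (h : (Lay A l l).card = d l) :
    LinearIndepOn k (stdB k d A l) (Lay A l l : Set P) ∧
      Submodule.span k (stdB k d A l '' (Lay A l l : Set P)) = ⊤ := by
  have hfam : (fun x : (Lay A l l : Set P) => stdB k d A l x)
      = (Pi.basisFun k (Fin (d l))) ∘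
        (fun x : (Lay A l l : Set P) => (Finset.equivFinOfCardEq h) ⟨x.1, x.2⟩) := by
    funext x
    rw [Function.comp_apply, Pi.basisFun_apply]
    exact stdB_apply k d A l h x.1 x.2
  constructor
  · show LinearIndependent k (fun x : (Lay A l l : Set P) => stdB k d A l x)
    rw [hfam]
    apply (Pi.basisFun k (Fin (d l))).linearIndependent.comp
    intro x y hxy
    have := (Finset.equivFinOfCardEq h).injective hxy
    exact Subtype.ext (congrArg Subtype.val this)
  · rw [Set.image_eq_range, hfam, Set.range_comp, Function.Surjective.range_eq ?_,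
      Set.image_univ, (Pi.basisFun k (Fin (d l))).span_eq]
    intro y
    refine ⟨⟨((Finset.equivFinOfCardEq h).symm y).1, ((Finset.equivFinOfCardEq h).symm y).2⟩, ?_⟩
    simp

theorem realize (r : ℕ) (a : ℕ → ℕ → ℕ) (ha : IsRankArray d r a) :
    ∃ f : Chain k d, ∀ i j, 1 ≤ i → i ≤ j → j ≤ r → rankArray f i j = a i j := by
  obtain ⟨h1, h2, h3, h4⟩ := ha
  obtain ⟨A, hA0, hApos⟩ : ∃ A : ℕ → ℕ → ℕ, (∀ l, A 0 l = 0) ∧
      (∀ i l, 1 ≤ i → A i l = a i l) :=
    ⟨fun i l => if i = 0 then 0 else a i l, fun l => if_pos rfl,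
      fun i l hi => if_neg (by omega)⟩
  have hmono : ∀ l, l ≤ r → ∀ i, 1 ≤ i → i ≤ l → A (i - 1) l ≤ A i l := by
    intro l hl i hi hil
    rcases Nat.eq_or_lt_of_le hi with h | h
    · have h0 : i - 1 = 0 := by omega
      rw [h0, hA0]; exact Nat.zero_le _
    · rw [hApos _ _ (by omega : 1 ≤ i - 1), hApos _ _ hi]
      have := h2 (i - 1) l (by omega) (by omega) hl
      rwa [Nat.sub_add_cancel hi] at this
  have hconv : ∀ i l, 1 ≤ i → i ≤ l → l + 1 ≤ r → nnA A i (l + 1) ≤ nnA A i l := by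
    intro i l hi hil hlr
    unfold nnA
    rcases Nat.eq_or_lt_of_le hi with h | h
    · have h0 : i - 1 = 0 := by omega
      rw [h0, hA0, hA0, hApos _ _ hi, hApos _ _ hi]
      have := h3 i l hi hil (by omega)
      omega
    · rw [hApos _ _ hi, hApos _ _ hi, hApos _ _ (by omega : 1 ≤ i - 1),
        hApos _ _ (by omega : 1 ≤ i - 1)]
      have := h4 i l h hil (by omega)
      omega
  have hcard : ∀ l, 1 ≤ l → l ≤ r → (Lay A l l).card = d l := by
    intro l hl1 hlr
    rw [card_Lay A l (hA0 l) (hmono l hlr) l le_rfl, hApos _ _ hl1, h1 l hl1 hlr]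
  refine ⟨stdChain k d A, ?_⟩
  intro i j hi hij hjr
  rw [rankArray_eq _ hij]
  have hspan : ∀ l, 1 ≤ l → l ≤ r →
      Submodule.span k (stdB k d A l '' (Lay A l l : Set P)) = ⊤ :=
    fun l hl1 hl2 => (stdB_basis k d A l (hcard l hl1 hl2)).2
  have hcompat : ∀ l, 1 ≤ l → l + 1 ≤ r → ∀ p ∈ Lay A l l,
      Matrix.toLin' (stdChain k d A l) (stdB k d A l p)
        = if p.2 < nnA A p.1 (l + 1) then stdB k d A (l + 1) p else 0 := by
    intro l hl1 hlr p hp
    show Matrix.toLin' (LinearMap.toMatrix' (stdMap k d A l)) _ = _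
    rw [Matrix.toLin'_toMatrix']
    exact stdMap_stdB k d A l (hcard l hl1 (by omega)) p hp
  rw [img_eq_span_of_string (stdChain k d A) r A hconv (fun l => stdB k d A l) hspan hcompat
    i hi j hij hjr]
  have hli : LinearIndepOn k (stdB k d A j) (Lay A j i : Set P) :=
    (stdB_basis k d A j (hcard j (by omega) hjr)).1.mono (by
      intro p hp
      rw [Finset.mem_coe, mem_Lay] at hp ⊢
      exact ⟨⟨hp.1.1, by omega⟩, hp.2⟩)
  rw [finrank_span_of_linearIndepOn _ _ hli, card_Lay A j (hA0 j) (hmono j hjr) i hij,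
    hApos _ _ hi]

end realize

theorem main14194 (k : Type u) [Field k] (d : ℕ → ℕ) (r : ℕ) :
    (∀ (g : (j : ℕ) → Matrix.GeneralLinearGroup (Fin (d j)) k)
        (f : (i : ℕ) → Matrix (Fin (d (i + 1))) (Fin (d i)) k) (i j : ℕ),
        1 ≤ i → i ≤ j → j ≤ r → rankArray (conj g f) i j = rankArray f i j) ∧
    (∀ f : (i : ℕ) → Matrix (Fin (d (i + 1))) (Fin (d i)) k, IsRankArray d r (rankArray f)) ∧
    (∀ f f' : (i : ℕ) → Matrix (Fin (d (i + 1))) (Fin (d i)) k,
        (∀ i j : ℕ, 1 ≤ i → i ≤ j → j ≤ r → rankArray f i j = rankArray f' i j) →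
        ∃ g : (j : ℕ) → Matrix.GeneralLinearGroup (Fin (d j)) k,
          ∀ i : ℕ, 1 ≤ i → i + 1 ≤ r → conj g f i = f' i) ∧
    (∀ a : ℕ → ℕ → ℕ, IsRankArray d r a →
        ∃ f : (i : ℕ) → Matrix (Fin (d (i + 1))) (Fin (d i)) k,
          ∀ i j : ℕ, 1 ≤ i → i ≤ j → j ≤ r → rankArray f i j = a i j) := by
  refine ⟨fun g f i j _ hij _ => rankArray_conj g f hij, fun f => isRankArray_rankArray f r, ?_,
    fun a ha => realize k d r a ha⟩
  intro f f' hff'
  obtain ⟨A, hA0, hApos⟩ : ∃ A : ℕ → ℕ → ℕ, (∀ l, A 0 l = 0) ∧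
      (∀ i l, 1 ≤ i → A i l = rankArray f i l) :=
    ⟨fun i l => if i = 0 then 0 else rankArray f i l, fun l => if_pos rfl,
      fun i l hi => if_neg (by omega)⟩
  have hAf : ∀ i l, 1 ≤ i → i ≤ l → l ≤ r → A i l = Module.finrank k (img f i l) := by
    intro i l hi hil hlr
    rw [hApos i l hi, rankArray_eq f hil]
  have hAf' : ∀ i l, 1 ≤ i → i ≤ l → l ≤ r → A i l = Module.finrank k (img f' i l) := by
    intro i l hi hil hlr
    rw [hApos i l hi, hff' i l hi hil hlr, rankArray_eq f' hil]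
  obtain ⟨b, hb⟩ := exists_string f r A hA0 hAf r 0 (by omega)
  obtain ⟨b', hb'⟩ := exists_string f' r A hA0 hAf' r 0 (by omega)
  exact conj_of_strings f f' r A b b' hb hb'

end Groth.Agent.Lib.MatChainH1
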