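import Mathlib
import Groth.Prelude

set_option autoImplicit false
set_option linter.style.haveILetI false
set_option linter.unusedVariables false

universe u

namespace Groth.Agent.Lib.MatchTriH4

theorem key {α : Type u} [DecidableEq α] {β : Type*} [LinearOrder β] (e : ℕ)
    (x : Fin (2 * e + 1) → α)
    (hx : ∀ a : α, (Finset.univ.filter fun k => x k = a).card ≤ e)
    (v : Fin (2 * e + 1) → β) (hv : ∀ k l, v k = v l ↔ x k = x l)
    (σ : Equiv.Perm (Fin (2 * e + 1))) (hmono : Monotone (v ∘ σ)) (k l : Fin (2 * e + 1))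
    (hkl : k.val + e ≤ l.val) : x (σ k) ≠ x (σ l) := by
  intro heq
  have hw : v (σ k) = v (σ l) := (hv _ _).mpr heq
  have hsub : (Finset.Icc k l).image σ ⊆ Finset.univ.filter (fun m => x m = x (σ k)) := by
    intro m hm
    rw [Finset.mem_image] at hm
    obtain ⟨t, ht, rfl⟩ := hm
    rw [Finset.mem_Icc] at ht
    rw [Finset.mem_filter]
    refine ⟨Finset.mem_univ _, ?_⟩
    have h1 : v (σ k) ≤ v (σ t) := hmono ht.1
    have h2 : v (σ t) ≤ v (σ l) := hmono ht.2
    have h3 : v (σ t) = v (σ k) := le_antisymm (h2.trans (le_of_eq hw.symm)) h1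
    exact (hv _ _).mp h3
  have hcard : ((Finset.Icc k l).image σ).card = l.val + 1 - k.val := by
    rw [Finset.card_image_of_injective _ σ.injective, Fin.card_Icc]
  have h4 := (Finset.card_le_card hsub).trans (hx (x (σ k)))
  rw [hcard] at h4
  omega

/-- The position permutation, on natural numbers. -/
def g (e t : ℕ) : ℕ := if t ≤ e then t + e else if t < 2 * e then t - e else 0

theorem g_lt (e t : ℕ) (he : 1 ≤ e) (ht : t < 2 * e + 1) : g e t < 2 * e + 1 := by
  unfold g; split_ifs <;> omega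

theorem g_inj (e t t' : ℕ) (he : 1 ≤ e) (ht : t < 2 * e + 1) (ht' : t' < 2 * e + 1)
    (h : g e t = g e t') : t = t' := by
  unfold g at h; split_ifs at h <;> omega

theorem g_dist (e t : ℕ) (he : 1 ≤ e) (ht : t < 2 * e + 1) :
    t + e ≤ g e t ∨ g e t + e ≤ t := by
  unfold g; split_ifs <;> omega

theorem g_zero (e : ℕ) : g e 0 = e := by
  unfold g; rw [if_pos (Nat.zero_le e), Nat.zero_add]

theorem g_e (e : ℕ) : g e e = 2 * e := by
  unfold g; rw [if_pos le_rfl]; omega

theorem g_2e (e : ℕ) (he : 1 ≤ e) : g e (2 * e) = 0 := by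
  unfold g; rw [if_neg (by omega), if_neg (by omega)]

/-- The position permutation. -/
def πf (e : ℕ) (he : 1 ≤ e) (t : Fin (2 * e + 1)) : Fin (2 * e + 1) :=
  ⟨g e t.val, g_lt e t.val he t.isLt⟩

theorem πf_bij (e : ℕ) (he : 1 ≤ e) : Function.Bijective (πf e he) :=
  Finite.injective_iff_bijective.mp
    (fun t t' h => Fin.ext (g_inj e _ _ he t.isLt t'.isLt (congrArg Fin.val h)))

theorem card_filter_bij {n : ℕ} (f : Fin n → Fin n) (hf : Function.Bijective f) (m : Fin n) :
    (Finset.univ.filter fun k => f k = m).card = 1 := by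
  obtain ⟨k0, hk0⟩ := hf.2 m
  rw [Finset.card_eq_one]
  refine ⟨k0, ?_⟩
  ext k
  simp only [Finset.mem_filter, Finset.mem_univ, true_and, Finset.mem_singleton]
  constructor
  · intro h; exact hf.1 (h.trans hk0.symm)
  · intro h; rw [h]; exact hk0

theorem main {α : Type u} [DecidableEq α] (e : ℕ) (he : 1 ≤ e)
    (x : Fin (2 * e + 1) → α)
    (hx : ∀ a : α, (Finset.univ.filter fun k => x k = a).card ≤ e) :
    ∃ i j : Fin (2 * e + 1) → Fin (2 * e + 1),
      (∀ m : Fin (2 * e + 1),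
        (Finset.univ.filter fun k => i k = m).card + (Finset.univ.filter fun k => j k = m).card = 2) ∧
      (∀ k, x (i k) ≠ x (j k)) ∧
      i 0 = j 2 ∧ i 1 = j 0 ∧ i 2 = j 1 := by
  obtain ⟨v, hv⟩ : ∃ v : Fin (2 * e + 1) → WithTop (Fin (2 * e + 1)),
      ∀ k l, v k = v l ↔ x k = x l := by
    refine ⟨fun k => (Finset.univ.filter fun l => x l = x k).min, fun k l => ⟨fun h => ?_, fun h => ?_⟩⟩
    · have h' : (Finset.univ.filter fun l' => x l' = x k).min =
          (Finset.univ.filter fun l' => x l' = x l).min := h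
      have hk : k ∈ Finset.univ.filter fun l' => x l' = x k := by
        rw [Finset.mem_filter]; exact ⟨Finset.mem_univ k, rfl⟩
      obtain ⟨b, hb⟩ := Finset.min_of_mem hk
      have h1 : b ∈ Finset.univ.filter fun l' => x l' = x k := Finset.mem_of_min hb
      have h2 : b ∈ Finset.univ.filter fun l' => x l' = x l := Finset.mem_of_min (h'.symm.trans hb)
      rw [Finset.mem_filter] at h1 h2
      exact h1.2.symm.trans h2.2
    · show (Finset.univ.filter fun l' => x l' = x k).min =
        (Finset.univ.filter fun l' => x l' = x l).min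
      rw [h]
  obtain ⟨σ, hmono⟩ : ∃ σ : Equiv.Perm (Fin (2 * e + 1)), Monotone (v ∘ σ) :=
    ⟨Tuple.sort v, Tuple.monotone_sort v⟩
  have hkey := key e x hx v hv σ hmono
  have h0v : ((0 : Fin (2 * e + 1)) : ℕ) = 0 := by simp
  have h1v : ((1 : Fin (2 * e + 1)) : ℕ) = 1 := by
    have h : (1 : ℕ) % (2 * e + 1) = 1 := Nat.mod_eq_of_lt (by omega)
    exact h
  have h2v : ((2 : Fin (2 * e + 1)) : ℕ) = 2 := by
    have h : (2 : ℕ) % (2 * e + 1) = 2 := Nat.mod_eq_of_lt (by omega)
    exact h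
  obtain ⟨pe, hpe⟩ : ∃ pe : Fin (2 * e + 1), pe.val = e := ⟨⟨e, by omega⟩, rfl⟩
  obtain ⟨p2, hp2⟩ : ∃ p2 : Fin (2 * e + 1), p2.val = 2 * e := ⟨⟨2 * e, by omega⟩, rfl⟩
  have n02 : (0 : Fin (2 * e + 1)) ≠ 2 := fun h => by have := congrArg Fin.val h; omega
  have n0p2 : (0 : Fin (2 * e + 1)) ≠ p2 := fun h => by have := congrArg Fin.val h; omega
  have n01 : (0 : Fin (2 * e + 1)) ≠ 1 := fun h => by have := congrArg Fin.val h; omega
  have n0pe : (0 : Fin (2 * e + 1)) ≠ pe := fun h => by have := congrArg Fin.val h; omega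
  have n12 : (1 : Fin (2 * e + 1)) ≠ 2 := fun h => by have := congrArg Fin.val h; omega
  have n1p2 : (1 : Fin (2 * e + 1)) ≠ p2 := fun h => by have := congrArg Fin.val h; omega
  have np21 : p2 ≠ (1 : Fin (2 * e + 1)) := fun h => by have := congrArg Fin.val h; omega
  have np2pe : p2 ≠ pe := fun h => by have := congrArg Fin.val h; omega
  obtain ⟨I, hI0, hI1, hI2⟩ : ∃ I : Equiv.Perm (Fin (2 * e + 1)),
      I 0 = 0 ∧ I 1 = pe ∧ I 2 = p2 := by
    refine ⟨Equiv.swap 1 pe * Equiv.swap 2 p2, ?_, ?_, ?_⟩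
    · show Equiv.swap 1 pe (Equiv.swap 2 p2 0) = 0
      rw [Equiv.swap_apply_of_ne_of_ne n02 n0p2, Equiv.swap_apply_of_ne_of_ne n01 n0pe]
    · show Equiv.swap 1 pe (Equiv.swap 2 p2 1) = pe
      rw [Equiv.swap_apply_of_ne_of_ne n12 n1p2, Equiv.swap_apply_left]
    · show Equiv.swap 1 pe (Equiv.swap 2 p2 2) = p2
      rw [Equiv.swap_apply_left, Equiv.swap_apply_of_ne_of_ne np21 np2pe]
  refine ⟨fun k => σ (I k), fun k => σ (πf e he (I k)), ?_, ?_, ?_, ?_, ?_⟩
  · intro m
    have hi : Function.Bijective (fun k => σ (I k)) := σ.bijective.comp I.bijective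
    have hj : Function.Bijective (fun k => σ (πf e he (I k))) :=
      σ.bijective.comp ((πf_bij e he).comp I.bijective)
    have e1 : (Finset.univ.filter fun k => σ (I k) = m).card = 1 := card_filter_bij _ hi m
    have e2 : (Finset.univ.filter fun k => σ (πf e he (I k)) = m).card = 1 :=
      card_filter_bij _ hj m
    show (Finset.univ.filter fun k => σ (I k) = m).card +
      (Finset.univ.filter fun k => σ (πf e he (I k)) = m).card = 2
    rw [e1, e2]
  · intro k
    rcases g_dist e (I k).val he (I k).isLt with h | h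
    · exact hkey (I k) (πf e he (I k)) h
    · exact (hkey (πf e he (I k)) (I k) h).symm
  · show σ (I 0) = σ (πf e he (I 2))
    rw [hI0, hI2]
    refine congrArg σ (Fin.ext ?_)
    show ((0 : Fin (2 * e + 1)) : ℕ) = g e p2.val
    rw [hp2, g_2e e he]
    exact h0v
  · show σ (I 1) = σ (πf e he (I 0))
    rw [hI1, hI0]
    refine congrArg σ (Fin.ext ?_)
    show pe.val = g e ((0 : Fin (2 * e + 1)) : ℕ)
    rw [h0v, g_zero, hpe]
  · show σ (I 2) = σ (πf e he (I 1))
    rw [hI2, hI1]
    refine congrArg σ (Fin.ext ?_)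
    show p2.val = g e pe.val
    rw [hpe, g_e, hp2]

end Groth.Agent.Lib.MatchTriH4
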