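import Mathlib

open CategoryTheory

namespace Groth.Agent.MateCalc

universe v₁ v₂ v₃ v₄ u₁ u₂ u₃ u₄

variable {A : Type u₁} [Category.{v₁} A] {B : Type u₂} [Category.{v₂} B]
  {A' : Type u₃} [Category.{v₃} A'] {B' : Type u₄} [Category.{v₄} B']
  {F : A ⥤ B} {F' : A' ⥤ B'} {G : B' ⥤ B} {G' : A' ⥤ A} {L : B ⥤ B'} {L' : A ⥤ A'}
  {a : B ⥤ A} {a' : B' ⥤ A'}

/-- abstract `xi` -/
def xiA (adj : F ⊣ a) (adj' : F' ⊣ a') (e : G' ⋙ F ≅ F' ⋙ G) (M : B') :
    G'.obj (a'.obj M) ⟶ a.obj (G.obj M) :=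
  (adj.homEquiv _ _) (e.hom.app (a'.obj M) ≫ G.map (adj'.counit.app M))

/-- abstract `bcMap` -/
noncomputable def bcMapA (adj : F ⊣ a) (adj' : F' ⊣ a') (e : G' ⋙ F ≅ F' ⋙ G)
    (adjg : L ⊣ G) (adjg' : L' ⊣ G') (K : B) (hξ : IsIso (xiA adj adj' e (L.obj K))) :
    L'.obj (a.obj K) ⟶ a'.obj (L.obj K) :=
  haveI := hξ
  L'.map (a.map (adjg.unit.app K)) ≫ L'.map (inv (xiA adj adj' e (L.obj K))) ≫
    adjg'.counit.app (a'.obj (L.obj K))

/-- abstract `bcPush` -/
def bcPushA (e : G' ⋙ F ≅ F' ⋙ G) (adjg : L ⊣ G) (adjg' : L' ⊣ G') (N : A) :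
    L.obj (F.obj N) ⟶ F'.obj (L'.obj N) :=
  (adjg.homEquiv _ _).symm (F.map (adjg'.unit.app N) ≫ e.hom.app (L'.obj N))

lemma F_map_xiA (adj : F ⊣ a) (adj' : F' ⊣ a') (e : G' ⋙ F ≅ F' ⋙ G) (M : B') :
    F.map (xiA adj adj' e M) ≫ adj.counit.app (G.obj M) =
      e.hom.app (a'.obj M) ≫ G.map (adj'.counit.app M) := by
  have := (adj.homEquiv _ _).symm_apply_apply (e.hom.app (a'.obj M) ≫ G.map (adj'.counit.app M))
  rw [Adjunction.homEquiv_counit] at this
  exact this

lemma xiA_naturality (adj : F ⊣ a) (adj' : F' ⊣ a') (e : G' ⋙ F ≅ F' ⋙ G) {M₁ M₂ : B'}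
    (φ : M₁ ⟶ M₂) :
    G'.map (a'.map φ) ≫ xiA adj adj' e M₂ = xiA adj adj' e M₁ ≫ a.map (G.map φ) := by
  unfold xiA
  rw [← Adjunction.homEquiv_naturality_left, ← Adjunction.homEquiv_naturality_right]
  congr 1
  have h1 := e.hom.naturality (a'.map φ)
  simp only [Functor.comp_map] at h1
  rw [← Category.assoc, h1, Category.assoc, Category.assoc, ← G.map_comp, ← G.map_comp]
  congr 2
  exact adj'.counit.naturality φ

lemma homEquiv_bcMapA (adj : F ⊣ a) (adj' : F' ⊣ a') (e : G' ⋙ F ≅ F' ⋙ G)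
    (adjg : L ⊣ G) (adjg' : L' ⊣ G') (K : B) (hξ : IsIso (xiA adj adj' e (L.obj K))) :
    adjg'.homEquiv _ _ (bcMapA adj adj' e adjg adjg' K hξ) =
      a.map (adjg.unit.app K) ≫ (haveI := hξ; inv (xiA adj adj' e (L.obj K))) := by
  haveI := hξ
  have : bcMapA adj adj' e adjg adjg' K hξ =
      (adjg'.homEquiv _ _).symm (a.map (adjg.unit.app K) ≫ inv (xiA adj adj' e (L.obj K))) := by
    rw [Adjunction.homEquiv_counit]
    simp [bcMapA]
  rw [this]
  exact Equiv.apply_symm_apply _ _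

theorem counit_compat (adj : F ⊣ a) (adj' : F' ⊣ a') (e : G' ⋙ F ≅ F' ⋙ G)
    (adjg : L ⊣ G) (adjg' : L' ⊣ G') (K : B) (hξ : IsIso (xiA adj adj' e (L.obj K))) :
    bcPushA e adjg adjg' (a.obj K) ≫ F'.map (bcMapA adj adj' e adjg adjg' K hξ) ≫
      adj'.counit.app (L.obj K) = L.map (adj.counit.app K) := by
  haveI := hξ
  apply (adjg.homEquiv _ _).injective
  rw [Adjunction.homEquiv_naturality_right]
  have hb : adjg.homEquiv _ _ (bcPushA e adjg adjg' (a.obj K)) =
      F.map (adjg'.unit.app (a.obj K)) ≫ e.hom.app (L'.obj (a.obj K)) := by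
    unfold bcPushA
    rw [Equiv.apply_symm_apply]
  rw [hb]
  have h1 := e.hom.naturality (bcMapA adj adj' e adjg adjg' K hξ)
  simp only [Functor.comp_map] at h1
  rw [G.map_comp, Category.assoc, ← Category.assoc (e.hom.app _), ← h1, Category.assoc,
    ← Category.assoc (F.map _), ← F.map_comp]
  have h2 : adjg'.unit.app (a.obj K) ≫ G'.map (bcMapA adj adj' e adjg adjg' K hξ) =
      a.map (adjg.unit.app K) ≫ inv (xiA adj adj' e (L.obj K)) := by
    rw [← homEquiv_bcMapA adj adj' e adjg adjg' K hξ, Adjunction.homEquiv_unit]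
  rw [h2, ← F_map_xiA adj adj' e (L.obj K), F.map_comp, Category.assoc,
    ← Category.assoc (F.map (inv _)), ← F.map_comp, IsIso.inv_hom_id, F.map_id, Category.id_comp]
  have h3 := adj.counit.naturality (adjg.unit.app K)
  simp only [Functor.comp_map, Functor.id_map, Functor.id_obj, Functor.comp_obj] at h3
  rw [h3, Adjunction.homEquiv_unit]
  exact adjg.unit.naturality (adj.counit.app K)

theorem unit_compat (adj : F ⊣ a) (adj' : F' ⊣ a') (e : G' ⋙ F ≅ F' ⋙ G)
    (adjg : L ⊣ G) (adjg' : L' ⊣ G') (hξ : ∀ M : B', IsIso (xiA adj adj' e M)) (M : A) :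
    adj'.unit.app (L'.obj M) = L'.map (adj.unit.app M) ≫
      bcMapA adj adj' e adjg adjg' (F.obj M) (hξ _) ≫ a'.map (bcPushA e adjg adjg' M) := by
  haveI := hξ
  apply (adjg'.homEquiv _ _).injective
  rw [Adjunction.homEquiv_naturality_left, Adjunction.homEquiv_naturality_right]
  simp only [Functor.comp_obj]
  rw [homEquiv_bcMapA]
  -- naturality of xi
  have hn : inv (xiA adj adj' e (L.obj (F.obj M))) ≫ G'.map (a'.map (bcPushA e adjg adjg' M)) =
      a.map (G.map (bcPushA e adjg adjg' M)) ≫ inv (xiA adj adj' e (F'.obj (L'.obj M))) := by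
    rw [IsIso.inv_comp_eq, ← Category.assoc, IsIso.eq_comp_inv]
    exact xiA_naturality adj adj' e (bcPushA e adjg adjg' M)
  rw [Category.assoc, hn, ← Category.assoc (a.map _), ← a.map_comp]
  have hb : adjg.unit.app (F.obj M) ≫ G.map (bcPushA e adjg adjg' M) =
      F.map (adjg'.unit.app M) ≫ e.hom.app (L'.obj M) := by
    have := Adjunction.homEquiv_unit adjg (F.obj M) _ (bcPushA e adjg adjg' M)
    rw [← this]
    unfold bcPushA
    exact Equiv.apply_symm_apply _ _
  rw [hb, ← Category.assoc, IsIso.eq_comp_inv, Adjunction.homEquiv_unit]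
  -- key
  have key : ∀ N : A', G'.map (adj'.unit.app N) ≫ xiA adj adj' e (F'.obj N) =
      adj.unit.app (G'.obj N) ≫ a.map (e.hom.app N) := by
    intro N
    unfold xiA
    rw [Adjunction.homEquiv_unit, ← Category.assoc]
    have h1 := adj.unit.naturality (G'.map (adj'.unit.app N))
    simp only [Functor.comp_map, Functor.id_map, Functor.id_obj, Functor.comp_obj] at h1
    rw [h1, Category.assoc, ← a.map_comp]
    congr 2
    have h2 := e.hom.naturality (adj'.unit.app N)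
    simp only [Functor.comp_map, Functor.id_obj, Functor.comp_obj] at h2
    rw [← Category.assoc, h2, Category.assoc, ← G.map_comp]
    have h3 := adj'.right_triangle_components
    simp
  rw [Category.assoc, key, a.map_comp, ← Category.assoc, ← Category.assoc]
  congr 1
  have h4 := adj.unit.naturality (adjg'.unit.app M)
  simp only [Functor.comp_map, Functor.id_map, Functor.id_obj, Functor.comp_obj] at h4
  exact h4

end Groth.Agent.MateCalc
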