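import Mathlib
import Groth.Prelude.Def_Wider
import Groth.Agent.Lib.Matlis3_helper5

/-!
# Coextension of an injective hull of the residue field along a finite (semilocal) algebra (helper1)
-/

set_option autoImplicit false
universe u

namespace Groth.Agent.Lib.MatlisSemiH1

open IsLocalRing CategoryTheory Groth.Agent.Matlis Groth.Agent.Lib.InjHull_helper3
  Groth.Agent.Lib.InjHull5_helper3

section General

variable {R : Type u} [CommRing R] {M : Type u} [AddCommGroup M] [Module R M]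

lemma exists_socle_smul' (P : Ideal R) (z : M) (hz : z ≠ 0)
    (hex : ∃ n : ℕ, ∀ a ∈ P ^ n, a • z = 0) :
    ∃ b : R, b • z ≠ 0 ∧ ∀ a ∈ P, a • (b • z) = 0 := by
  classical
  have hspec := Nat.find_spec hex
  have hn0 : Nat.find hex ≠ 0 := by
    intro h0
    rw [h0] at hspec
    have := hspec 1 (by rw [pow_zero, Ideal.one_eq_top]; trivial)
    rw [one_smul] at this
    exact hz this
  obtain ⟨n', hn'⟩ := Nat.exists_eq_succ_of_ne_zero hn0
  have hmin := Nat.find_min hex (m := n') (by omega)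
  push Not at hmin
  obtain ⟨b, hb, hbz⟩ := hmin
  refine ⟨b, hbz, fun a ha => ?_⟩
  rw [← mul_smul]
  apply hspec
  rw [hn', pow_succ']
  exact Ideal.mul_mem_mul ha hb

variable (M) in
theorem iSupIndep_Γ :
    iSupIndep (fun n : MaximalSpectrum R => Γ n.asIdeal M) := by
  intro i
  rw [Submodule.disjoint_def]
  intro x hx1 hx2
  have key : ∃ b : R, b ∉ i.asIdeal ∧ b • x = 0 := by
    refine Submodule.iSup_induction (motive := fun x => ∃ b : R, b ∉ i.asIdeal ∧ b • x = 0)
      _ hx2 ?_ ?_ ?_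
    · intro j y hy
      refine Submodule.iSup_induction (motive := fun x => ∃ b : R, b ∉ i.asIdeal ∧ b • x = 0)
        _ hy ?_ ?_ ?_
      · intro hji z hz
        obtain ⟨a, ha⟩ := (mem_Γ_iff _ z).mp hz
        have hex : ∃ t ∈ j.asIdeal, t ∉ i.asIdeal := by
          by_contra hcon
          push Not at hcon
          have hle : j.asIdeal ≤ i.asIdeal := fun t ht => hcon t ht
          have := j.isMaximal.eq_of_le i.isMaximal.ne_top hle
          exact hji (MaximalSpectrum.ext this)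
        obtain ⟨t, htj, hti⟩ := hex
        exact ⟨t ^ a, fun h => hti (i.isMaximal.isPrime.mem_of_pow_mem a h),
          ha _ (Ideal.pow_mem_pow htj a)⟩
      · exact ⟨1, (Ideal.ne_top_iff_one _).mp i.isMaximal.ne_top, by rw [smul_zero]⟩
      · rintro y z ⟨b, hb, hby⟩ ⟨c, hc, hcz⟩
        refine ⟨b * c, fun h => (i.isMaximal.isPrime.mem_or_mem h).elim hb hc, ?_⟩
        rw [smul_add, mul_smul b c z, hcz, smul_zero, mul_comm, mul_smul, hby, smul_zero, add_zero]
    · exact ⟨1, (Ideal.ne_top_iff_one _).mp i.isMaximal.ne_top, by rw [smul_zero]⟩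
    · rintro y z ⟨b, hb, hby⟩ ⟨c, hc, hcz⟩
      refine ⟨b * c, fun h => (i.isMaximal.isPrime.mem_or_mem h).elim hb hc, ?_⟩
      rw [smul_add, mul_smul b c z, hcz, smul_zero, mul_comm, mul_smul, hby, smul_zero, add_zero]
  obtain ⟨b, hb, hbx⟩ := key
  obtain ⟨a, ha⟩ := (mem_Γ_iff _ x).mp hx1
  obtain ⟨u₀, t, ht, hut⟩ := i.isMaximal.exists_inv hb
  have hcop : IsCoprime b (t ^ a) := IsCoprime.pow_right ⟨u₀, 1, by rw [one_mul]; exact hut⟩
  obtain ⟨u, v, huv⟩ := hcop
  calc x = (u * b + v * t ^ a) • x := by rw [huv, one_smul]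
    _ = 0 := by
      rw [add_smul, mul_smul, hbx, smul_zero, mul_smul, ha _ (Ideal.pow_mem_pow ht a), smul_zero,
        add_zero]

end General

section Bar'

variable {R₀ S : Type u} [CommRing R₀] [CommRing S] [Algebra R₀ S] (P : Ideal S) {Q : Type u}
  [AddCommGroup Q] [Module R₀ Q]

lemma smul_eq_zero_iff_ev' (g : Hc (algebraMap R₀ S) Q) :
    (∀ s ∈ P, s • g = 0) ↔ ∀ s ∈ P, ev g s = 0 := by
  constructor
  · intro h s hs
    have := congrArg (fun t => ev t 1) (h s hs)
    simp only [ev_smul, one_mul, ev_zero] at this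
    exact this
  · intro h s hs
    apply ev_ext
    intro x
    rw [ev_smul, ev_zero]
    exact h _ (Ideal.mul_mem_left _ x hs)

lemma ev_congr' (g : Hc (algebraMap R₀ S) Q) (hg : ∀ s ∈ P, ev g s = 0) {x x' : S}
    (h : Ideal.Quotient.mk P x = Ideal.Quotient.mk P x') : ev g x = ev g x' := by
  have hmem : x - x' ∈ P := Ideal.Quotient.eq.mp h
  have := ev_map_add g x' (x - x')
  rw [add_sub_cancel, hg _ hmem, add_zero] at this
  exact this

/-- The map on the residue field `S ⧸ P` induced by a `P`-socle element. -/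
noncomputable def bar' (g : Hc (algebraMap R₀ S) Q) (hg : ∀ s ∈ P, ev g s = 0) :
    (S ⧸ P) →ₗ[R₀] Q where
  toFun c := ev g (Classical.choose (Ideal.Quotient.mk_surjective c))
  map_add' c c' := by
    rw [← ev_map_add]
    apply ev_congr' P g hg
    rw [map_add, Classical.choose_spec (Ideal.Quotient.mk_surjective c),
      Classical.choose_spec (Ideal.Quotient.mk_surjective c'),
      Classical.choose_spec (Ideal.Quotient.mk_surjective (c + c'))]
  map_smul' a c := by
    rw [RingHom.id_apply, ← ev_map_smul]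
    apply ev_congr' P g hg
    rw [map_mul, Classical.choose_spec (Ideal.Quotient.mk_surjective c),
      Classical.choose_spec (Ideal.Quotient.mk_surjective (a • c)), Algebra.smul_def]
    rfl

lemma bar'_mk (g : Hc (algebraMap R₀ S) Q) (hg : ∀ s ∈ P, ev g s = 0) (x : S) :
    bar' P g hg (Ideal.Quotient.mk P x) = ev g x :=
  ev_congr' P g hg (Classical.choose_spec (Ideal.Quotient.mk_surjective (Ideal.Quotient.mk P x)))

variable [IsLocalRing R₀] {y : Q}

theorem socle_unique' [hPm : P.IsMaximal] (hy : IsSocleGen R₀ y) [Module.Injective R₀ Q]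
    (hK : IsFiniteLength R₀ (S ⧸ P)) (g₀ g : Hc (algebraMap R₀ S) Q)
    (hg₀ : ∀ s ∈ P, ev g₀ s = 0) (hg : ∀ s ∈ P, ev g s = 0)
    (hne : g₀ ≠ 0) : ∃ b : S, g = b • g₀ := by
  let Ψ : (S ⧸ P) →ₗ[R₀] ((S ⧸ P) →ₗ[R₀] Q) :=
    (LinearMap.llcomp R₀ (S ⧸ P) (S ⧸ P) Q (bar' P g₀ hg₀)) ∘ₗ
      (LinearMap.mul R₀ (S ⧸ P))
  have hΨ : ∀ c x, Ψ c x = bar' P g₀ hg₀ (c * x) := fun c x => rfl
  have hinj : Function.Injective Ψ := by
    rw [← LinearMap.ker_eq_bot, LinearMap.ker_eq_bot']
    intro c hc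
    by_contra hc0
    obtain ⟨d, hd⟩ := Ideal.Quotient.exists_inv hc0
    apply hne
    apply ev_ext
    intro x
    rw [ev_zero, ← bar'_mk P g₀ hg₀ x]
    have := LinearMap.congr_fun hc (d * Ideal.Quotient.mk P x)
    rw [hΨ, ← mul_assoc, hd, one_mul, LinearMap.zero_apply] at this
    exact this
  have hlen : Module.length R₀ ((S ⧸ P) →ₗ[R₀] Q) = Module.length R₀ (S ⧸ P) :=
    length_hom hy _ hK
  have hne_top : Module.length R₀ (S ⧸ P) ≠ ⊤ := Module.length_ne_top_iff.mpr hK
  have hsurj : Function.Surjective Ψ :=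
    surjective_of_injective_of_length_eq Ψ hinj hlen hne_top
  obtain ⟨c, hc⟩ := hsurj (bar' P g hg)
  obtain ⟨b, rfl⟩ := Ideal.Quotient.mk_surjective c
  refine ⟨b, ev_ext fun x => ?_⟩
  rw [ev_smul, ← bar'_mk P g hg x, ← hc, hΨ, ← map_mul, bar'_mk, mul_comm]

theorem exists_socle' [hPm : P.IsMaximal] (hy : IsSocleGen R₀ y) [Module.Injective R₀ Q]
    (hK : IsFiniteLength R₀ (S ⧸ P)) :
    ∃ g₀ : Hc (algebraMap R₀ S) Q, g₀ ≠ 0 ∧ ∀ s ∈ P, ev g₀ s = 0 := by
  have hlen : Module.length R₀ ((S ⧸ P) →ₗ[R₀] Q) = Module.length R₀ (S ⧸ P) :=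
    length_hom hy _ hK
  haveI : Nontrivial (S ⧸ P) := Ideal.Quotient.nontrivial_iff.mpr hPm.ne_top
  haveI : Nontrivial ((S ⧸ P) →ₗ[R₀] Q) := by
    rw [← Module.length_pos_iff (R := R₀), hlen, Module.length_pos_iff]
    infer_instance
  obtain ⟨ψ, hψ⟩ := exists_ne (0 : (S ⧸ P) →ₗ[R₀] Q)
  refine ⟨mkH (fun x => ψ (Ideal.Quotient.mk P x)) (fun x y => by rw [map_add, map_add])
    (fun a x => ?_), ?_, ?_⟩
  · rw [map_mul, ← map_smul, Algebra.smul_def]; rfl
  · intro h
    apply hψ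
    refine LinearMap.ext fun c => ?_
    obtain ⟨x, rfl⟩ := Ideal.Quotient.mk_surjective c
    have := congrArg (fun t => ev t x) h
    exact this
  · intro s hs
    show ψ (Ideal.Quotient.mk P s) = 0
    rw [Ideal.Quotient.eq_zero_iff_mem.mpr hs, map_zero]

end Bar'

section Finite

variable (A B : Type u) [CommRing A] [IsLocalRing A] [IsNoetherianRing A] [CommRing B] [Algebra A B]
  [Module.Finite A B]

lemma finiteLength_quot (P : Ideal B) [hP : P.IsMaximal] : IsFiniteLength A (B ⧸ P) := by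
  have h1 : (P.comap (algebraMap A B)).IsMaximal :=
    Ideal.isMaximal_comap_of_isIntegral_of_isMaximal (R := A) P
  have h2 : P.comap (algebraMap A B) = maximalIdeal A := eq_maximalIdeal h1
  haveI : P.LiesOver (maximalIdeal A) := ⟨h2.symm⟩
  haveI : IsArtinianRing (A ⧸ maximalIdeal A) :=
    inferInstanceAs (IsArtinianRing (ResidueField A))
  rw [← Module.length_ne_top_iff,
    Module.length_eq_of_surjective (S := A) (R := A ⧸ maximalIdeal A) (M := B ⧸ P)
      Ideal.Quotient.mk_surjective]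
  exact Module.length_ne_top

variable {A B}
variable {E : Type u} [AddCommGroup E] [Module A E]

omit [IsNoetherianRing A] in
theorem exists_smul_socle' [IsNoetherianRing B]
    (hE : LocCoh.IsPowerTorsion (maximalIdeal A) E) (g : Hc (algebraMap A B) E) (hg : g ≠ 0) :
    ∃ P : Ideal B, P.IsMaximal ∧ ∃ b : B, b • g ≠ 0 ∧ ∀ s ∈ P, s • (b • g) = 0 := by
  classical
  -- uniform exponent
  obtain ⟨N, hN⟩ : ∃ N : ℕ, ∀ a ∈ maximalIdeal A ^ N, ∀ x : B, a • ev g x = 0 := by
    obtain ⟨t, ht⟩ := (Module.Finite.fg_top : (⊤ : Submodule A B).FG)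
    choose e he using fun b : B => hE (ev g b)
    refine ⟨t.sup e, fun a ha x => ?_⟩
    have hx : x ∈ Submodule.span A (t : Set B) := by rw [ht]; trivial
    induction hx using Submodule.span_induction with
    | mem y hy => exact he y a (Ideal.pow_le_pow_right (Finset.le_sup hy) ha)
    | zero => rw [ev_map_zero, smul_zero]
    | add y z _ _ hy hz => rw [ev_map_add, smul_add, hy, hz, add_zero]
    | smul c y _ hy => rw [Algebra.smul_def, ev_map_smul, smul_comm, hy, smul_zero]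
  have hkill : ∀ a ∈ maximalIdeal A ^ N, algebraMap A B a • g = 0 := by
    intro a ha
    apply ev_ext
    intro x
    rw [ev_smul, mul_comm, ev_map_smul, ev_zero]
    exact hN a ha x
  -- an associated prime of `B g`
  let M : Submodule B (Hc (algebraMap A B) E) := Submodule.span B {g}
  let x₀ : M := ⟨g, Submodule.mem_span_singleton_self g⟩
  have hx₀ : x₀ ≠ 0 := fun h => hg (congrArg Subtype.val h)
  obtain ⟨P, hP, hle⟩ := exists_le_isAssociatedPrime_of_isNoetherianRing B x₀ hx₀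
  rw [isAssociatedPrime_iff] at hP
  obtain ⟨hprime, y, hPy⟩ := hP
  obtain ⟨b, hb⟩ := Submodule.mem_span_singleton.mp y.2
  have hcomap : maximalIdeal A ≤ P.comap (algebraMap A B) := by
    intro a ha
    rw [Ideal.mem_comap]
    apply hprime.mem_of_pow_mem N
    apply hle
    rw [Submodule.mem_colon_singleton, Submodule.mem_bot, ← map_pow]
    exact Subtype.ext (hkill _ (Ideal.pow_mem_pow ha N))
  haveI : (P.comap (algebraMap A B)).IsPrime := Ideal.comap_isPrime _ _
  have hcomap' : P.comap (algebraMap A B) = maximalIdeal A :=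
    ((maximalIdeal.isMaximal A).eq_of_le (Ideal.IsPrime.ne_top inferInstance) hcomap).symm
  have hPmax : P.IsMaximal :=
    Ideal.isMaximal_of_isIntegral_of_isMaximal_comap (R := A) P
      (hcomap'.symm ▸ maximalIdeal.isMaximal A)
  refine ⟨P, hPmax, b, ?_, ?_⟩
  · intro h0
    apply hprime.ne_top
    rw [hPy, Ideal.eq_top_iff_one, Submodule.mem_colon_singleton, Submodule.mem_bot, one_smul]
    exact Subtype.ext (hb.symm.trans h0)
  · intro s hs
    rw [hPy, Submodule.mem_colon_singleton, Submodule.mem_bot] at hs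
    rw [hb]
    exact congrArg Subtype.val hs

theorem hull_Γ {y : E} (hy : IsSocleGen A y) [Module.Injective A E] (P : Ideal B)
    [hP : P.IsMaximal] :
    ∃ g : (B ⧸ P) →ₗ[B] ↥(Γ P (Hc (algebraMap A B) E)), InjHull.IsInjectiveHull g := by
  haveI : IsNoetherianRing B := IsNoetherianRing.of_finite A B
  have hK : IsFiniteLength A (B ⧸ P) := finiteLength_quot A B P
  obtain ⟨g₀, hg₀ne, hg₀⟩ := exists_socle' P hy hK
  have hg₀' : ∀ s ∈ P, s • g₀ = 0 := (smul_eq_zero_iff_ev' P g₀).mpr hg₀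
  have hmem : g₀ ∈ Γ P (Hc (algebraMap A B) E) := by
    rw [mem_Γ_iff]
    exact ⟨1, fun a ha => hg₀' a (by simpa using ha)⟩
  have hy₀ne : (⟨g₀, hmem⟩ : Γ P (Hc (algebraMap A B) E)) ≠ 0 :=
    fun h => hg₀ne (congrArg Subtype.val h)
  have hkill : ∀ s ∈ P, s • (⟨g₀, hmem⟩ : Γ P (Hc (algebraMap A B) E)) = 0 :=
    fun s hs => Subtype.ext (hg₀' s hs)
  have key : ∀ z : Γ P (Hc (algebraMap A B) E), z ≠ 0 →
      ∃ b : B, b • z = (⟨g₀, hmem⟩ : Γ P (Hc (algebraMap A B) E)) := by
    intro z hz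
    have hz1 : z.1 ≠ 0 := fun h => hz (Subtype.ext h)
    obtain ⟨b₁, hb₁, hb₁'⟩ := exists_socle_smul' P z.1 hz1 ((mem_Γ_iff P z.1).mp z.2)
    obtain ⟨b₂, hb₂⟩ := socle_unique' P hy hK (b₁ • z.1) g₀
      ((smul_eq_zero_iff_ev' P _).mp hb₁') hg₀ hb₁
    exact ⟨b₂ * b₁, Subtype.ext (by rw [mul_smul]; exact hb₂.symm)⟩
  let g : (B ⧸ P) →ₗ[B] ↥(Γ P (Hc (algebraMap A B) E)) :=
    Submodule.liftQ P (LinearMap.toSpanSingleton B _ ⟨g₀, hmem⟩) (fun s hs => by
      rw [LinearMap.mem_ker, LinearMap.toSpanSingleton_apply]; exact hkill s hs)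
  have hg_mk : ∀ x : B, g (Ideal.Quotient.mk P x) =
      x • (⟨g₀, hmem⟩ : Γ P (Hc (algebraMap A B) E)) := fun x => by
    show Submodule.liftQ _ _ _ (Submodule.Quotient.mk x) = _
    rw [Submodule.liftQ_apply, LinearMap.toSpanSingleton_apply]
  have hg_one : g 1 = (⟨g₀, hmem⟩ : Γ P (Hc (algebraMap A B) E)) := by
    have := hg_mk 1
    rwa [map_one, one_smul] at this
  refine ⟨g, { toIsEssentialInj := ⟨?_, ?_⟩
               isInjective := injective_Γ (injective_coextend _ _) P }⟩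
  · rw [← LinearMap.ker_eq_bot, LinearMap.ker_eq_bot']
    intro c hc
    obtain ⟨x, rfl⟩ := Ideal.Quotient.mk_surjective c
    rw [hg_mk] at hc
    by_contra hne
    have hx : x ∉ P := fun h => hne (Ideal.Quotient.eq_zero_iff_mem.mpr h)
    obtain ⟨u, t, ht, hut⟩ := hP.exists_inv hx
    apply hy₀ne
    calc (⟨g₀, hmem⟩ : Γ P (Hc (algebraMap A B) E))
        = (u * x + t) • (⟨g₀, hmem⟩ : Γ P (Hc (algebraMap A B) E)) := by rw [hut, one_smul]
      _ = 0 := by rw [add_smul, mul_smul, hc, smul_zero, hkill t ht, add_zero]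
  · intro N hN
    obtain ⟨z, hzN, hz0⟩ := (Submodule.ne_bot_iff _).mp hN
    obtain ⟨b, hb⟩ := key z hz0
    exact (Submodule.ne_bot_iff _).mpr
      ⟨_, Submodule.mem_inf.mpr ⟨hb ▸ N.smul_mem b hzN, ⟨1, hg_one⟩⟩, hy₀ne⟩

end Finite

theorem main11184 (A B : Type u) [CommRing A] [IsLocalRing A] [IsNoetherianRing A] [CommRing B]
    [Algebra A B] [Module.Finite A B] (E : Type u) [AddCommGroup E] [Module A E]
    (f : IsLocalRing.ResidueField A →ₗ[A] E) (hf : InjHull.IsInjectiveHull f) :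
    ∃ J : MaximalSpectrum B → Submodule B
        ((ModuleCat.coextendScalars (algebraMap A B)).obj (ModuleCat.of A E)),
      iSupIndep J ∧ iSup J = ⊤ ∧
        ∀ n : MaximalSpectrum B, ∃ g : (B ⧸ n.asIdeal) →ₗ[B] J n, InjHull.IsInjectiveHull g := by
  haveI : IsNoetherianRing B := IsNoetherianRing.of_finite A B
  have hy := isSocleGen_of_isEssentialInj hf.toIsEssentialInj
  haveI := hf.isInjective
  have htor := hy.isPowerTorsion
  have hHinj : Module.Injective B (Hc (algebraMap A B) E) := injective_coextend _ _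
  have hindep : iSupIndep (fun n : MaximalSpectrum B => Γ n.asIdeal (Hc (algebraMap A B) E)) :=
    iSupIndep_Γ _
  refine ⟨fun n => Γ n.asIdeal (Hc (algebraMap A B) E), hindep, ?_, fun n => hull_Γ hy n.asIdeal⟩
  have hT : Module.Injective B
      ↥(sSup (Set.range fun n : MaximalSpectrum B => Γ n.asIdeal (Hc (algebraMap A B) E))) :=
    injective_sSup _ hindep.sSupIndep_range (by
      rintro _ ⟨n, rfl⟩
      exact injective_Γ hHinj n.asIdeal)
  obtain ⟨C, hC⟩ := exists_isCompl_range hT (Submodule.subtype _) (Submodule.subtype_injective _)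
  rw [Submodule.range_subtype] at hC
  have hCbot : C = ⊥ := by
    by_contra hne
    obtain ⟨g, hgC, hg0⟩ := (Submodule.ne_bot_iff _).mp hne
    obtain ⟨P, hP, b, hb0, hb⟩ := exists_smul_socle' htor g hg0
    have h1 : b • g ∈ C := C.smul_mem b hgC
    have h2 : b • g ∈
        sSup (Set.range fun n : MaximalSpectrum B => Γ n.asIdeal (Hc (algebraMap A B) E)) := by
      have hle : Γ P (Hc (algebraMap A B) E) ≤
          sSup (Set.range fun n : MaximalSpectrum B => Γ n.asIdeal (Hc (algebraMap A B) E)) :=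
        le_sSup ⟨⟨P, hP⟩, rfl⟩
      refine hle ?_
      rw [mem_Γ_iff]
      exact ⟨1, fun a ha => hb a (by simpa using ha)⟩
    have h3 := hC.disjoint.le_bot (Submodule.mem_inf.mpr ⟨h2, h1⟩)
    exact hb0 ((Submodule.mem_bot B).mp h3)
  rw [hCbot] at hC
  have h4 := hC.sup_eq_top
  rw [sup_bot_eq, sSup_range] at h4
  exact h4

end Groth.Agent.Lib.MatlisSemiH1
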