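import Mathlib

set_option autoImplicit false
set_option linter.unusedVariables false
set_option linter.unusedTactic false
set_option linter.unreachableTactic false
set_option linter.unusedSectionVars false
set_option maxHeartbeats 800000

universe u

open TensorProduct

namespace Groth.Agent.Lib.MaxEtSubH4

section Quasi

variable {A : Type u} [CommRing A]

/-- Every element of the ideal generated by the idempotents lying in `p` is fixed by
multiplication with one such idempotent. -/
theorem exists_idem_fix (p : Ideal A) (y : A)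
    (hy : y ∈ Ideal.span {e : A | IsIdempotentElem e ∧ e ∈ p}) :
    ∃ e₀ : A, IsIdempotentElem e₀ ∧ e₀ ∈ p ∧ y * e₀ = y := by
  refine Submodule.span_induction
    (p := fun y _ => ∃ e₀ : A, IsIdempotentElem e₀ ∧ e₀ ∈ p ∧ y * e₀ = y) ?_ ?_ ?_ ?_ hy
  · intro x hx
    exact ⟨x, hx.1, hx.2, hx.1⟩
  · exact ⟨0, IsIdempotentElem.zero, p.zero_mem, by simp⟩
  · rintro x y _ _ ⟨e₁, he₁, hp₁, h₁⟩ ⟨e₂, he₂, hp₂, h₂⟩
    refine ⟨1 - (1 - e₁) * (1 - e₂), (he₁.one_sub.mul he₂.one_sub).one_sub, ?_, ?_⟩
    · have : 1 - (1 - e₁) * (1 - e₂) = e₁ + e₂ - e₁ * e₂ := by ring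
      rw [this]
      exact p.sub_mem (p.add_mem hp₁ hp₂) (p.mul_mem_right _ hp₁)
    · linear_combination (1 - e₂) * h₁ + (1 - e₁) * h₂
  · rintro a x _ ⟨e₀, he, hp, h⟩
    exact ⟨e₀, he, hp, by rw [smul_eq_mul, mul_assoc, h]⟩

/-- The quotient by the ideal generated by the idempotents of a prime has only trivial
idempotents. -/
theorem idem_quot_trivial (p : Ideal A) [hp : p.IsPrime]
    (ē : A ⧸ Ideal.span {e : A | IsIdempotentElem e ∧ e ∈ p}) (hē : IsIdempotentElem ē) :
    ē = 0 ∨ ē = 1 := by
  obtain ⟨I, hI⟩ : ∃ I : Ideal A, I = Ideal.span {e : A | IsIdempotentElem e ∧ e ∈ p} := ⟨_, rfl⟩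
  obtain ⟨x, rfl⟩ := Ideal.Quotient.mk_surjective ē
  have hy : x * x - x ∈ Ideal.span {e : A | IsIdempotentElem e ∧ e ∈ p} := by
    rw [← Ideal.Quotient.eq, map_mul]
    exact hē
  obtain ⟨e₀, he₀, hp₀, hfix⟩ := exists_idem_fix p _ hy
  have h0 : e₀ * e₀ = e₀ := he₀
  have hf : IsIdempotentElem (x * (1 - e₀)) := by
    show x * (1 - e₀) * (x * (1 - e₀)) = x * (1 - e₀)
    linear_combination (x * x) * h0 - hfix
  have he₀I : e₀ ∈ Ideal.span {e : A | IsIdempotentElem e ∧ e ∈ p} :=
    Ideal.subset_span ⟨he₀, hp₀⟩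
  have hmk : Ideal.Quotient.mk (Ideal.span {e : A | IsIdempotentElem e ∧ e ∈ p}) (x * (1 - e₀)) =
      Ideal.Quotient.mk _ x := by
    rw [Ideal.Quotient.eq]
    have : x * (1 - e₀) - x = -(x * e₀) := by ring
    rw [this]
    exact neg_mem (Ideal.mul_mem_left _ _ he₀I)
  have hprod : x * (1 - e₀) * (1 - x * (1 - e₀)) = 0 := by
    rw [mul_sub, mul_one, hf.eq, sub_self]
  rcases hp.mem_or_mem (show x * (1 - e₀) * (1 - x * (1 - e₀)) ∈ p by
      rw [hprod]; exact p.zero_mem) with h | h
  · left
    rw [← hmk, Ideal.Quotient.eq_zero_iff_mem]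
    exact Ideal.subset_span ⟨hf, h⟩
  · right
    rw [← hmk]
    have hmem : (1 - x * (1 - e₀)) ∈ Ideal.span {e : A | IsIdempotentElem e ∧ e ∈ p} :=
      Ideal.subset_span ⟨hf.one_sub, h⟩
    have h0' := Ideal.Quotient.eq_zero_iff_mem.mpr hmem
    rw [map_sub, map_one, sub_eq_zero] at h0'
    exact h0'.symm

theorem isPreconnected_zeroLocus (p : Ideal A) [hp : p.IsPrime] :
    IsPreconnected (PrimeSpectrum.zeroLocus
      ((Ideal.span {e : A | IsIdempotentElem e ∧ e ∈ p} : Ideal A) : Set A)) := by
  haveI hpc : PreconnectedSpace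
      (PrimeSpectrum (A ⧸ Ideal.span {e : A | IsIdempotentElem e ∧ e ∈ p})) := by
    rw [preconnectedSpace_iff_clopen]
    intro s hs
    obtain ⟨e, he, rfl⟩ := PrimeSpectrum.isClopen_iff.mp hs
    rcases idem_quot_trivial p e he with h | h
    · left; rw [h, PrimeSpectrum.basicOpen_zero]; rfl
    · right; rw [h, PrimeSpectrum.basicOpen_one]; rfl
  have hrange : Set.range (PrimeSpectrum.comap
      (Ideal.Quotient.mk (Ideal.span {e : A | IsIdempotentElem e ∧ e ∈ p}))) =
      PrimeSpectrum.zeroLocus
        ((Ideal.span {e : A | IsIdempotentElem e ∧ e ∈ p} : Ideal A) : Set A) := by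
    rw [range_comap_of_surjective _ _ Ideal.Quotient.mk_surjective, Ideal.mk_ker]
  rw [← hrange, ← Set.image_univ]
  exact isPreconnected_univ.image _ (PrimeSpectrum.continuous_comap _).continuousOn

theorem connectedComponent_eq_of_idem (p q : PrimeSpectrum A)
    (h : ∀ e : A, IsIdempotentElem e → e ∈ p.asIdeal → e ∈ q.asIdeal) :
    connectedComponent p = connectedComponent q := by
  have hpre := isPreconnected_zeroLocus p.asIdeal
  have hp : p ∈ PrimeSpectrum.zeroLocus
      ((Ideal.span {e : A | IsIdempotentElem e ∧ e ∈ p.asIdeal} : Ideal A) : Set A) := by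
    rw [PrimeSpectrum.mem_zeroLocus]
    exact fun x hx => (Ideal.span_le.mpr (fun e he => he.2)) hx
  have hq : q ∈ PrimeSpectrum.zeroLocus
      ((Ideal.span {e : A | IsIdempotentElem e ∧ e ∈ p.asIdeal} : Ideal A) : Set A) := by
    rw [PrimeSpectrum.mem_zeroLocus]
    exact fun x hx => (Ideal.span_le.mpr (fun e he => h e he.1 he.2)) hx
  exact connectedComponent_eq (hpre.subset_connectedComponent hp hq)

end Quasi

section Etale

variable {k : Type u} [Field k] {B : Type u} [CommRing B] [Algebra k B]

theorem etale_of_finite_unram (k R : Type u) [Field k] [CommRing R] [Algebra k R]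
    [Module.Finite k R] [Algebra.FormallyUnramified k R] : Algebra.Etale k R :=
  { formallyEtale := Algebra.FormallyEtale.of_formallyUnramified_of_field k R
    finitePresentation := Algebra.FinitePresentation.of_finiteType.mp inferInstance }

theorem range_finite_etale {T : Type u} [CommRing T] [Algebra k T] [Module.Finite k T]
    [Algebra.FormallyUnramified k T] (φ : T →ₐ[k] B) (S : Subalgebra k B) (hS : S = φ.range) :
    Module.Finite k S ∧ Algebra.Etale k S := by
  subst hS
  have hsurj : Function.Surjective φ.rangeRestrict := φ.rangeRestrict_surjective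
  haveI : Module.Finite k φ.range :=
    Module.Finite.of_surjective φ.rangeRestrict.toLinearMap hsurj
  haveI : Algebra.FormallyUnramified k φ.range :=
    Algebra.FormallyUnramified.of_surjective φ.rangeRestrict hsurj
  exact ⟨inferInstance, etale_of_finite_unram k _⟩

theorem sup_finite_etale (E E' : Subalgebra k B) [Module.Finite k E] [Algebra.Etale k E]
    [Module.Finite k E'] [Algebra.Etale k E'] :
    Module.Finite k ↥(E ⊔ E') ∧ Algebra.Etale k ↥(E ⊔ E') := by
  haveI : Algebra.FormallyUnramified k (E ⊗[k] E') :=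
    Algebra.FormallyUnramified.comp k E (E ⊗[k] E')
  refine range_finite_etale (Algebra.TensorProduct.productMap E.val E'.val) _ ?_
  rw [Algebra.TensorProduct.productMap_range, Subalgebra.range_val, Subalgebra.range_val]

theorem etale_adjoin_idem (e : B) (he : IsIdempotentElem e) :
    Module.Finite k (Algebra.adjoin k ({e} : Set B)) ∧
      Algebra.Etale k (Algebra.adjoin k ({e} : Set B)) := by
  have hint : IsIntegral k e := by
    refine ⟨Polynomial.X ^ 2 - Polynomial.X, Polynomial.monic_X_pow_sub (by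
      rw [Polynomial.degree_X]; norm_num), ?_⟩
    simp [pow_two, he.eq]
  haveI hfin : Module.Finite k (Algebra.adjoin k ({e} : Set B)) :=
    Algebra.finite_adjoin_simple_of_isIntegral hint
  obtain ⟨ê, hê⟩ : ∃ ê : Algebra.adjoin k ({e} : Set B), (ê : B) = e :=
    ⟨⟨e, Algebra.subset_adjoin rfl⟩, rfl⟩
  have hêi : ê * ê = ê := Subtype.ext (by
    rw [Subalgebra.coe_mul, hê]; exact he.eq)
  have h1 : KaehlerDifferential.D k (Algebra.adjoin k ({e} : Set B)) ê =
      ê • KaehlerDifferential.D k _ ê + ê • KaehlerDifferential.D k _ ê := by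
    conv_lhs => rw [← hêi]
    exact (KaehlerDifferential.D k _).leibniz ê ê
  have h2 : (2 * ê - 1) • KaehlerDifferential.D k (Algebra.adjoin k ({e} : Set B)) ê = 0 := by
    rw [sub_smul, one_smul, two_mul, add_smul, ← h1, sub_self]
  have h3 : (2 * ê - 1) * (2 * ê - 1) = 1 := by linear_combination 4 * hêi
  have h4 : KaehlerDifferential.D k (Algebra.adjoin k ({e} : Set B)) ê = 0 := by
    rw [← one_smul (Algebra.adjoin k ({e} : Set B)) (KaehlerDifferential.D k _ ê), ← h3,
      mul_smul, h2, smul_zero]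
  have hD : ∀ (b : B) (hb : b ∈ Algebra.adjoin k ({e} : Set B)),
      KaehlerDifferential.D k (Algebra.adjoin k ({e} : Set B)) ⟨b, hb⟩ = 0 := by
    intro b hb
    induction hb using Algebra.adjoin_induction with
    | mem x hx =>
      have hxe : x = e := hx
      subst hxe
      have : (⟨x, Algebra.subset_adjoin hx⟩ : Algebra.adjoin k ({x} : Set B)) = ê :=
        Subtype.ext hê.symm
      rw [this]; exact h4
    | algebraMap r =>
      have : (⟨algebraMap k B r, Subalgebra.algebraMap_mem _ r⟩ :
          Algebra.adjoin k ({e} : Set B)) = algebraMap k _ r := Subtype.ext rfl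
      rw [this]; exact Derivation.map_algebraMap _ r
    | add x y hx hy hx' hy' =>
      have : (⟨x + y, Subalgebra.add_mem _ hx hy⟩ : Algebra.adjoin k ({e} : Set B)) =
          ⟨x, hx⟩ + ⟨y, hy⟩ := Subtype.ext rfl
      rw [this, map_add, hx', hy', add_zero]
    | mul x y hx hy hx' hy' =>
      have : (⟨x * y, Subalgebra.mul_mem _ hx hy⟩ : Algebra.adjoin k ({e} : Set B)) =
          ⟨x, hx⟩ * ⟨y, hy⟩ := Subtype.ext rfl
      rw [this, Derivation.leibniz, hx', hy', smul_zero, smul_zero, add_zero]
  haveI : Subsingleton (Ω[(Algebra.adjoin k ({e} : Set B))⁄k]) := by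
    suffices h : (⊤ : Submodule (Algebra.adjoin k ({e} : Set B))
        (Ω[(Algebra.adjoin k ({e} : Set B))⁄k])) ≤ ⊥ from
      (subsingleton_iff_forall_eq 0).mpr fun y ↦ (Submodule.mem_bot _).mp (h trivial)
    rw [← KaehlerDifferential.span_range_derivation, Submodule.span_le]
    rintro _ ⟨x, rfl⟩
    have := hD x.1 x.2
    simpa using this
  haveI : Algebra.FormallyUnramified k (Algebra.adjoin k ({e} : Set B)) := ⟨inferInstance⟩
  exact ⟨hfin, etale_of_finite_unram k _⟩

theorem finrank_le [Algebra.FiniteType k B] (E : Subalgebra k B) [Module.Finite k E]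
    [Algebra.Etale k E] :
    Module.finrank k E ≤ Nat.card ↥(minimalPrimes (AlgebraicClosure k ⊗[k] B)) := by
  classical
  haveI : IsArtinianRing (AlgebraicClosure k ⊗[k] E) :=
    IsArtinianRing.of_finite (AlgebraicClosure k) _
  have h1 : Module.finrank k E =
      Module.finrank (AlgebraicClosure k) (AlgebraicClosure k ⊗[k] E) :=
    (Module.finrank_baseChange).symm
  have h2 : Module.finrank (AlgebraicClosure k) (AlgebraicClosure k ⊗[k] E) =
      Nat.card (PrimeSpectrum (AlgebraicClosure k ⊗[k] E)) := by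
    rw [(Algebra.FormallyEtale.equivPiOfIsSepClosed (AlgebraicClosure k)
      (AlgebraicClosure k ⊗[k] E)).toLinearEquiv.finrank_eq]
    haveI := Fintype.ofFinite (PrimeSpectrum (AlgebraicClosure k ⊗[k] E))
    rw [Module.finrank_fintype_fun_eq_card, Nat.card_eq_fintype_card]
  obtain ⟨f, hfdef⟩ : ∃ f : (AlgebraicClosure k ⊗[k] E) →ₐ[AlgebraicClosure k]
      (AlgebraicClosure k ⊗[k] B),
      f = Algebra.TensorProduct.map (AlgHom.id (AlgebraicClosure k) (AlgebraicClosure k)) E.val :=
    ⟨_, rfl⟩
  have hf : Function.Injective f := by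
    have hinj := Module.Flat.lTensor_preserves_injective_linearMap (M := AlgebraicClosure k)
      E.val.toLinearMap Subtype.val_injective
    have key : ∀ z, (LinearMap.lTensor (AlgebraicClosure k) E.val.toLinearMap) z = f z := by
      intro z
      induction z using TensorProduct.induction_on with
      | zero => simp
      | tmul a b => simp [hfdef]
      | add a b ha hb => simp only [map_add, ha, hb]
    intro x y hxy
    apply hinj
    rw [key, key, hxy]
  haveI : IsNoetherianRing (AlgebraicClosure k ⊗[k] B) :=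
    Algebra.FiniteType.isNoetherianRing (AlgebraicClosure k) _
  have hfin : (minimalPrimes (AlgebraicClosure k ⊗[k] B)).Finite :=
    minimalPrimes.finite_of_isNoetherianRing _
  haveI : Finite ↥(minimalPrimes (AlgebraicClosure k ⊗[k] B)) := hfin.to_subtype
  have hex : ∀ P : PrimeSpectrum (AlgebraicClosure k ⊗[k] E),
      ∃ p' ∈ minimalPrimes (AlgebraicClosure k ⊗[k] B),
        Ideal.comap f.toRingHom p' = P.asIdeal := by
    intro P
    have hP : P.asIdeal ∈
        ((⊥ : Ideal (AlgebraicClosure k ⊗[k] B)).comap f.toRingHom).minimalPrimes := by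
      rw [Ideal.comap_bot_of_injective f.toRingHom hf]
      exact Ideal.mem_minimalPrimes_of_krullDimLE_zero P.asIdeal
    exact Ideal.exists_minimalPrimes_comap_eq f.toRingHom P.asIdeal hP
  choose g hg hg' using hex
  have hinj : Function.Injective
      (fun P => (⟨g P, hg P⟩ : ↥(minimalPrimes (AlgebraicClosure k ⊗[k] B)))) := by
    intro P Q hPQ
    have hgPQ : g P = g Q := congrArg Subtype.val hPQ
    apply PrimeSpectrum.ext
    rw [← hg' P, ← hg' Q, hgPQ]
  rw [h1, h2]
  exact Nat.card_le_card_of_injective _ hinj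

theorem main (k : Type u) [Field k] (B : Type u) [CommRing B] [Algebra k B]
    [Algebra.FiniteType k B] (A : Subalgebra k B) :
    ∃ (E : Subalgebra k B) (hE : E ≤ A), Module.Finite k E ∧ Algebra.Etale k E ∧
      (∀ E' : Subalgebra k B, E' ≤ A → Module.Finite k E' → Algebra.Etale k E' → E' ≤ E) ∧
      Function.Surjective (PrimeSpectrum.comap (Subalgebra.inclusion hE).toRingHom) ∧
      ∀ p q : PrimeSpectrum A, PrimeSpectrum.comap (Subalgebra.inclusion hE).toRingHom p =
          PrimeSpectrum.comap (Subalgebra.inclusion hE).toRingHom q ↔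
        connectedComponent p = connectedComponent q := by
  classical
  obtain ⟨P, hPdef⟩ : ∃ P : ℕ → Prop, P = fun n => ∃ E : Subalgebra k B, E ≤ A ∧
      ∃ (_ : Module.Finite k E) (_ : Algebra.Etale k E), Module.finrank k E = n := ⟨_, rfl⟩
  have hbound : ∀ n, P n → n ≤ Nat.card ↥(minimalPrimes (AlgebraicClosure k ⊗[k] B)) := by
    intro n hn
    rw [hPdef] at hn
    obtain ⟨E, -, hfin, het, rfl⟩ := hn
    exact finrank_le E
  have hP0 : P (Module.finrank k (Algebra.adjoin k ({(0 : B)} : Set B))) := by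
    obtain ⟨h1, h2⟩ := etale_adjoin_idem (k := k) (0 : B) IsIdempotentElem.zero
    rw [hPdef]
    refine ⟨Algebra.adjoin k {(0 : B)}, Algebra.adjoin_le ?_, h1, h2, rfl⟩
    intro x hx
    have hx0 : x = 0 := hx
    rw [hx0]; exact A.zero_mem
  have hspec := Nat.findGreatest_spec (hbound _ hP0) hP0
  have hgreat : ∀ m, P m → m ≤ Nat.findGreatest P
      (Nat.card ↥(minimalPrimes (AlgebraicClosure k ⊗[k] B))) :=
    fun m hm => Nat.le_findGreatest (hbound _ hm) hm
  rw [hPdef] at hspec
  obtain ⟨E, hEA, hfin, het, hrank⟩ := hspec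
  haveI := hfin
  haveI := het
  have hmax : ∀ E' : Subalgebra k B, E' ≤ A → Module.Finite k E' → Algebra.Etale k E' →
      E' ≤ E := by
    intro E' hE'A hfin' het'
    haveI := hfin'
    haveI := het'
    obtain ⟨hf2, he2⟩ := sup_finite_etale E E'
    have hP2 : P (Module.finrank k ↥(E ⊔ E')) := by
      rw [hPdef]; exact ⟨E ⊔ E', sup_le hEA hE'A, hf2, he2, rfl⟩
    have hle : Module.finrank k ↥(E ⊔ E') ≤ Module.finrank k E := by
      rw [hrank, ← hPdef]; exact hgreat _ hP2
    haveI : Module.Finite k ↥(Subalgebra.toSubmodule (E ⊔ E')) := hf2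
    have hEq : Subalgebra.toSubmodule E = Subalgebra.toSubmodule (E ⊔ E') :=
      Submodule.eq_of_le_of_finrank_le
        (fun x hx => (le_sup_left : E ≤ E ⊔ E') hx) hle
    have hEq' : E = E ⊔ E' := Subalgebra.toSubmodule_injective hEq
    calc E' ≤ E ⊔ E' := le_sup_right
      _ = E := hEq'.symm
  haveI : IsArtinianRing E := IsArtinianRing.of_finite k E
  have hinjE : Function.Injective (Subalgebra.inclusion hEA).toRingHom :=
    Subalgebra.inclusion_injective hEA
  have hsurj : Function.Surjective
      (PrimeSpectrum.comap (Subalgebra.inclusion hEA).toRingHom) := by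
    intro Q
    obtain ⟨p', hp', hcomap⟩ := Ideal.exists_comap_eq_of_mem_minimalPrimes_of_injective
      hinjE Q.asIdeal (Ideal.mem_minimalPrimes_of_krullDimLE_zero Q.asIdeal)
    exact ⟨⟨p', hp'⟩, PrimeSpectrum.ext hcomap⟩
  refine ⟨E, hEA, hfin, het, hmax, hsurj, ?_⟩
  intro p q
  constructor
  · intro hpq
    apply connectedComponent_eq_of_idem
    intro e he hep
    have heB : IsIdempotentElem (e : B) := by
      have := congrArg Subtype.val he.eq
      show (e : B) * (e : B) = (e : B)
      exact this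
    obtain ⟨h1, h2⟩ := etale_adjoin_idem (k := k) (e : B) heB
    have hle : Algebra.adjoin k {(e : B)} ≤ E := by
      refine hmax _ (Algebra.adjoin_le ?_) h1 h2
      intro x hx
      have hxe : x = (e : B) := hx
      rw [hxe]; exact e.2
    have heE : (e : B) ∈ E := hle (Algebra.subset_adjoin rfl)
    have hinc : (Subalgebra.inclusion hEA).toRingHom ⟨(e : B), heE⟩ = e := Subtype.ext rfl
    have h1' : (⟨(e : B), heE⟩ : E) ∈
        (PrimeSpectrum.comap (Subalgebra.inclusion hEA).toRingHom p).asIdeal := by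
      show (Subalgebra.inclusion hEA).toRingHom ⟨(e : B), heE⟩ ∈ p.asIdeal
      rw [hinc]; exact hep
    rw [hpq] at h1'
    have h2' : (Subalgebra.inclusion hEA).toRingHom ⟨(e : B), heE⟩ ∈ q.asIdeal := h1'
    rwa [hinc] at h2'
  · intro hcc
    have hcont := PrimeSpectrum.continuous_comap (Subalgebra.inclusion hEA).toRingHom
    have hpre : IsPreconnected
        (PrimeSpectrum.comap (Subalgebra.inclusion hEA).toRingHom '' connectedComponent p) :=
      isPreconnected_connectedComponent.image _ hcont.continuousOn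
    exact hpre.subsingleton (Set.mem_image_of_mem _ mem_connectedComponent)
      (Set.mem_image_of_mem _ (by rw [hcc]; exact mem_connectedComponent))

end Etale

end Groth.Agent.Lib.MaxEtSubH4
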