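import Mathlib

set_option autoImplicit false
set_option maxHeartbeats 1000000

open MvPolynomial Matrix

namespace Groth.Agent.Lib.MaxMinorH1

universe u

/-- rectangular determinant expansion (first step of Cauchy–Binet) -/
theorem det_mul_rect {n m R : Type*} [Fintype n] [DecidableEq n] [Fintype m] [DecidableEq m]
    [CommRing R] (M : Matrix n m R) (N : Matrix m n R) :
    det (M * N) = ∑ p : n → m, (∏ i, N (p i) i) * det (M.submatrix id p) := by
  have h1 : ∀ σ : Equiv.Perm n,
      ∏ i, (M * N) (σ i) i = ∑ p : n → m, ∏ i, (M (σ i) (p i) * N (p i) i) := by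
    intro σ
    simp only [Matrix.mul_apply]
    rw [Finset.prod_univ_sum]
    simp [Fintype.piFinset_univ]
  rw [Matrix.det_apply']
  simp only [h1, Finset.mul_sum]
  rw [Finset.sum_comm]
  refine Finset.sum_congr rfl fun p _ => ?_
  rw [Matrix.det_apply', Finset.mul_sum]
  refine Finset.sum_congr rfl fun σ _ => ?_
  simp only [Matrix.submatrix_apply, id_eq, Finset.prod_mul_distrib]
  ring

theorem sub_endo_mem {σ : Type*} {A : Type*} [CommRing A]
    (θ : MvPolynomial σ A →ₐ[A] MvPolynomial σ A) (P : MvPolynomial σ A) :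
    P - θ P ∈ Ideal.span (Set.range fun j => (X j : MvPolynomial σ A) - θ (X j)) := by
  induction P using MvPolynomial.induction_on with
  | C a =>
    rw [MvPolynomial.algHom_C, MvPolynomial.algebraMap_eq, sub_self]
    exact Submodule.zero_mem _
  | add p q hp hq =>
    have h := Ideal.add_mem _ hp hq
    have e : p + q - θ (p + q) = (p - θ p) + (q - θ q) := by
      rw [map_add]; ring
    rw [e]
    exact h
  | mul_X p j hp =>
    have hj : (X j : MvPolynomial σ A) - θ (X j) ∈
        Ideal.span (Set.range fun j => (X j : MvPolynomial σ A) - θ (X j)) :=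
      Ideal.subset_span ⟨j, rfl⟩
    have e : p * X j - θ (p * X j) = p * (X j - θ (X j)) + (p - θ p) * θ (X j) := by
      rw [map_mul]; ring
    rw [e]
    exact Ideal.add_mem _ (Ideal.mul_mem_left _ _ hj) (Ideal.mul_mem_right _ _ hp)

section Main

variable (A : Type u) [CommRing A] (N s : ℕ) (m : Fin s → (Fin (N + 1) → A))

noncomputable def phi : MvPolynomial (Fin (N + 1)) A →ₐ[A] MvPolynomial (Fin s) A :=
  aeval (fun j : Fin (N + 1) => ∑ i : Fin s, C (m i j) * X i)

noncomputable def Mrect : Matrix (Fin (s + 1)) (Fin (N + 1)) (MvPolynomial (Fin (N + 1)) A) :=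
  Matrix.of fun i k => Fin.snoc (α := fun _ => MvPolynomial (Fin (N + 1)) A)
    (fun i' : Fin s => C (m i' k)) (X k) i

theorem Mrect_castSucc (i' : Fin s) (k : Fin (N + 1)) :
    Mrect A N s m (Fin.castSucc i') k = C (m i' k) := by
  simp [Mrect]

theorem Mrect_last (k : Fin (N + 1)) : Mrect A N s m (Fin.last s) k = X k := by
  simp [Mrect]

noncomputable def gen (c : Fin (s + 1) → Fin (N + 1)) : MvPolynomial (Fin (N + 1)) A :=
  det ((Mrect A N s m).submatrix id c)

theorem phi_X (j : Fin (N + 1)) :
    phi A N s m (X j) = ∑ i : Fin s, C (m i j) * X i := by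
  simp [phi]

theorem phi_C (a : A) : phi A N s m (C a) = C a := by
  simp [phi]

theorem phi_gen (c : Fin (s + 1) → Fin (N + 1)) : phi A N s m (gen A N s m c) = 0 := by
  unfold gen
  rw [AlgHom.map_det]
  have hrow : ∀ (i' : Fin s) (j : Fin (s + 1)),
      ((phi A N s m).mapMatrix ((Mrect A N s m).submatrix id c)) (Fin.castSucc i') j =
        C (m i' (c j)) := by
    intro i' j
    rw [AlgHom.mapMatrix_apply, Matrix.map_apply, Matrix.submatrix_apply, id_eq,
      Mrect_castSucc, phi_C]
  have hlast : ∀ j : Fin (s + 1),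
      ((phi A N s m).mapMatrix ((Mrect A N s m).submatrix id c)) (Fin.last s) j =
        ∑ i : Fin s, C (m i (c j)) * X i := by
    intro j
    rw [AlgHom.mapMatrix_apply, Matrix.map_apply, Matrix.submatrix_apply, id_eq,
      Mrect_last, phi_X]
  set G' := (phi A N s m).mapMatrix ((Mrect A N s m).submatrix id c) with hG'
  have key : G' = (G'.updateRow (Fin.last s) 0).updateRow (Fin.last s)
      (∑ k, (Fin.snoc (α := fun _ => MvPolynomial (Fin s) A) (fun i' : Fin s => X i') 0 :
        Fin (s + 1) → MvPolynomial (Fin s) A) k • (G'.updateRow (Fin.last s) 0) k) := by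
    apply Matrix.ext
    intro i j
    by_cases hi : i = Fin.last s
    · subst hi
      rw [Matrix.updateRow_self, Finset.sum_apply, Fin.sum_univ_castSucc]
      simp only [Pi.smul_apply, smul_eq_mul, Fin.snoc_castSucc, Fin.snoc_last, zero_mul,
        add_zero]
      rw [hlast]
      refine Finset.sum_congr rfl fun i' _ => ?_
      rw [Matrix.updateRow_ne (Fin.castSucc_lt_last i').ne, hrow, mul_comm]
    · rw [Matrix.updateRow_ne hi, Matrix.updateRow_ne hi]
  rw [key, Matrix.det_updateRow_sum]
  simp

theorem exists_retraction (hli : LinearIndependent A m)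
    (hproj : Module.Projective A ((Fin (N + 1) → A) ⧸ Submodule.span A (Set.range m))) :
    ∃ W : Fin s → Fin (N + 1) → A, ∀ i k, ∑ j, W i j * m k j = if i = k then 1 else 0 := by
  classical
  set S := Submodule.span A (Set.range m) with hS
  obtain ⟨σ, hσ⟩ := Module.projective_lifting_property S.mkQ LinearMap.id
    (Submodule.mkQ_surjective S)
  have hσ' : ∀ y, S.mkQ (σ y) = y := fun y => by
    have := LinearMap.congr_fun hσ y
    simpa using this
  have hmem : ∀ x : Fin (N + 1) → A, x - σ (S.mkQ x) ∈ S := by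
    intro x
    rw [← Submodule.Quotient.mk_eq_zero, Submodule.Quotient.mk_sub]
    have := hσ' (S.mkQ x)
    simp only [Submodule.mkQ_apply] at this ⊢
    rw [this, sub_self]
  let q : (Fin (N + 1) → A) →ₗ[A] S :=
    LinearMap.codRestrict S (LinearMap.id - σ ∘ₗ S.mkQ) (fun x => by simpa using hmem x)
  have hq : ∀ k, ((q (m k) : S) : Fin (N + 1) → A) = m k := by
    intro k
    have h0 : S.mkQ (m k) = 0 := by
      rw [Submodule.mkQ_apply, Submodule.Quotient.mk_eq_zero]
      exact Submodule.subset_span ⟨k, rfl⟩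
    simp [q, h0]
  let ρ : Fin s → ((Fin (N + 1) → A) →ₗ[A] A) := fun i =>
    (Finsupp.lapply i) ∘ₗ hli.repr ∘ₗ q
  refine ⟨fun i j => ρ i (fun j' => if j = j' then 1 else 0), ?_⟩
  intro i k
  have h1 := LinearMap.pi_apply_eq_sum_univ (ρ i) (m k)
  have h2 : ρ i (m k) = if i = k then 1 else 0 := by
    show (hli.repr (q (m k))) i = _
    rw [hli.repr_eq_single k (q (m k)) (hq k), Finsupp.single_apply]
    simp [eq_comm]
  rw [← h2, h1]
  refine Finset.sum_congr rfl fun j _ => ?_
  rw [smul_eq_mul, mul_comm]

noncomputable def psi (W : Fin s → Fin (N + 1) → A) :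
    MvPolynomial (Fin s) A →ₐ[A] MvPolynomial (Fin (N + 1)) A :=
  aeval (fun i : Fin s => ∑ j : Fin (N + 1), C (W i j) * X j)

theorem psi_X (W : Fin s → Fin (N + 1) → A) (i : Fin s) :
    psi A N s W (X i) = ∑ j : Fin (N + 1), C (W i j) * X j := by
  simp [psi]

theorem psi_C (W : Fin s → Fin (N + 1) → A) (a : A) : psi A N s W (C a) = C a := by
  simp [psi]

/-- the `j`-th generator of the kernel -/
theorem theta_X (W : Fin s → Fin (N + 1) → A) (j : Fin (N + 1)) :
    psi A N s W (phi A N s m (X j)) =
      ∑ k : Fin (N + 1), C (∑ i : Fin s, m i j * W i k) * X k := by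
  rw [phi_X, map_sum]
  simp only [map_mul, psi_C, psi_X, Finset.mul_sum]
  rw [Finset.sum_comm]
  refine Finset.sum_congr rfl fun k _ => ?_
  rw [map_sum, Finset.sum_mul]
  refine Finset.sum_congr rfl fun i _ => ?_
  rw [map_mul, mul_assoc]

theorem gen_mem_of_det {W : Fin s → Fin (N + 1) → A}
    (hW : ∀ i k, ∑ j, W i j * m k j = if i = k then 1 else 0) (j : Fin (N + 1)) :
    (X j : MvPolynomial (Fin (N + 1)) A) - psi A N s W (phi A N s m (X j)) ∈
      Ideal.span (Set.range (gen A N s m)) := by
  classical
  -- the auxiliary matrix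
  let E : Fin (N + 1) → A := fun k => (if k = j then 1 else 0) - ∑ i : Fin s, m i j * W i k
  let B : Matrix (Fin (N + 1)) (Fin (s + 1)) (MvPolynomial (Fin (N + 1)) A) :=
    Matrix.of fun k i => Fin.snoc (α := fun _ => MvPolynomial (Fin (N + 1)) A)
      (fun i' : Fin s => C (W i' k)) (C (E k)) i
  have hBc : ∀ k (i' : Fin s), B k (Fin.castSucc i') = C (W i' k) := by
    intro k i'; simp [B]
  have hBl : ∀ k, B k (Fin.last s) = C (E k) := by
    intro k; simp [B]
  have hcc : ∀ a b : Fin s, (Mrect A N s m * B) (Fin.castSucc a) (Fin.castSucc b) =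
      C (if b = a then 1 else 0) := by
    intro a b
    rw [Matrix.mul_apply, ← hW b a, map_sum]
    refine Finset.sum_congr rfl fun k _ => ?_
    rw [Mrect_castSucc, hBc, ← map_mul, mul_comm]
  have hcl : ∀ a : Fin s, (Mrect A N s m * B) (Fin.castSucc a) (Fin.last s) = 0 := by
    intro a
    rw [Matrix.mul_apply]
    have h1 : ∀ k, Mrect A N s m (Fin.castSucc a) k * B k (Fin.last s) = C (m a k * E k) := by
      intro k
      rw [Mrect_castSucc, hBl, map_mul]
    simp only [h1]
    rw [← map_sum]
    have h2 : ∑ k, m a k * E k = 0 := by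
      simp only [E, mul_sub, Finset.sum_sub_distrib, Finset.mul_sum]
      rw [Finset.sum_comm]
      have h3 : ∀ i : Fin s, ∑ k, m a k * (m i j * W i k) = m i j * (if i = a then 1 else 0) := by
        intro i
        rw [← hW i a, Finset.mul_sum]
        refine Finset.sum_congr rfl fun k _ => ?_
        ring
      simp only [h3]
      simp
    rw [h2, map_zero]
  have hll : (Mrect A N s m * B) (Fin.last s) (Fin.last s) =
      (X j : MvPolynomial (Fin (N + 1)) A) - psi A N s W (phi A N s m (X j)) := by
    rw [Matrix.mul_apply, theta_X]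
    have h1 : ∀ k, Mrect A N s m (Fin.last s) k * B k (Fin.last s) =
        C (if k = j then 1 else 0) * X k - C (∑ i : Fin s, m i j * W i k) * X k := by
      intro k
      rw [Mrect_last, hBl]
      simp only [E, map_sub]
      ring
    simp only [h1, Finset.sum_sub_distrib]
    congr 1
    simp
  have htri : (Mrect A N s m * B).IsLowerTriangular := by
    intro i j' hij
    rw [OrderDual.toDual_lt_toDual] at hij
    induction i using Fin.lastCases with
    | last => exact absurd hij (not_lt.2 (Fin.le_last _))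
    | cast a =>
      induction j' using Fin.lastCases with
      | last => exact hcl a
      | cast b =>
        rw [hcc]
        have hab : b ≠ a := by
          intro h
          rw [h] at hij
          exact lt_irrefl _ hij
        rw [if_neg hab, map_zero]
  have hdet : det (Mrect A N s m * B) =
      (X j : MvPolynomial (Fin (N + 1)) A) - psi A N s W (phi A N s m (X j)) := by
    rw [Matrix.det_of_isLowerTriangular _ htri, Fin.prod_univ_castSucc, hll]
    have : ∀ a : Fin s, (Mrect A N s m * B) (Fin.castSucc a) (Fin.castSucc a) = 1 := by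
      intro a
      rw [hcc, if_pos rfl, map_one]
    simp only [this, Finset.prod_const_one, one_mul]
  rw [← hdet, det_mul_rect]
  refine Ideal.sum_mem _ fun c _ => ?_
  exact Ideal.mul_mem_left _ _ (Ideal.subset_span ⟨c, rfl⟩)

theorem main16254 (hli : LinearIndependent A m)
    (hproj : Module.Projective A ((Fin (N + 1) → A) ⧸ Submodule.span A (Set.range m))) :
    RingHom.ker (MvPolynomial.aeval (R := A) (S₁ := MvPolynomial (Fin s) A)
        (fun j : Fin (N + 1) => ∑ i : Fin s, MvPolynomial.C (m i j) * MvPolynomial.X i)) =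
      Ideal.span (Set.range fun c : Fin (s + 1) → Fin (N + 1) =>
        (Matrix.of fun (i : Fin (s + 1)) (j : Fin (s + 1)) =>
          (Fin.snoc (α := fun _ => MvPolynomial (Fin (N + 1)) A)
            (fun i' : Fin s => MvPolynomial.C (m i' (c j))) (MvPolynomial.X (c j)) i)).det) := by
  obtain ⟨W, hW⟩ := exists_retraction A N s m hli hproj
  have hgen : (fun c : Fin (s + 1) → Fin (N + 1) =>
        (Matrix.of fun (i : Fin (s + 1)) (j : Fin (s + 1)) =>
          (Fin.snoc (α := fun _ => MvPolynomial (Fin (N + 1)) A)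
            (fun i' : Fin s => MvPolynomial.C (m i' (c j))) (MvPolynomial.X (c j)) i)).det) =
      gen A N s m := by
    funext c
    rfl
  rw [hgen]
  apply le_antisymm
  · intro P hP
    rw [RingHom.mem_ker] at hP
    have hP' : phi A N s m P = 0 := hP
    have hθ := sub_endo_mem ((psi A N s W).comp (phi A N s m)) P
    rw [AlgHom.comp_apply, hP', map_zero, sub_zero] at hθ
    refine (Ideal.span_le.2 ?_) hθ
    rintro _ ⟨j, rfl⟩
    exact gen_mem_of_det A N s m hW j
  · rw [Ideal.span_le]
    rintro _ ⟨c, rfl⟩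
    exact phi_gen A N s m c

end Main

end Groth.Agent.Lib.MaxMinorH1
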