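import Mathlib
import Groth.Agent.Lib.GenFinMax_helper5

/-!
# Affine neighbourhoods of finitely many maximal points (helper5): S7385, S7386.
APPEND-ONLY once landed.
-/

set_option autoImplicit false
universe u

namespace Groth.Agent.GenFinMax

open AlgebraicGeometry CategoryTheory TopologicalSpace

variable {X : Scheme.{u}}

/-- Finitely many maximal points of a quasi-separated open have pairwise disjoint affine open
neighbourhoods, which may moreover be chosen disjoint from a given quasi-compact open avoiding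
the points. -/
lemma exists_disjoint_isAffineOpen_of_finite_maxPts {O : X.Opens}
    (hO : IsQuasiSeparated (O : Set X)) {F : Set X} (hF : F.Finite) (hFO : F ⊆ (O : Set X))
    (hFmax : ∀ ξ ∈ F, IsMaxPt ξ) (K : Set X) (hKo : IsOpen K) (hKc : IsCompact K)
    (hKO : K ⊆ (O : Set X)) (hFK : ∀ ξ ∈ F, ξ ∉ K) :
    ∃ U' : X → X.Opens, (∀ ξ ∈ F, IsAffineOpen (U' ξ) ∧ ξ ∈ U' ξ ∧ U' ξ ≤ O ∧
        Disjoint ((U' ξ : X.Opens) : Set X) K) ∧
      F.Pairwise (Function.onFun Disjoint U') := by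
  have hW : ∀ ξ ∈ F, ∃ W : X.Opens, IsAffineOpen W ∧ ξ ∈ W ∧ W ≤ O ∧
      ∀ ξ' ∈ F, ξ' ≠ ξ → ξ' ∉ W := by
    intro ξ hξ
    have hcl : closure (F \ {ξ}) = ⋃ ξ' ∈ F \ {ξ}, closure {ξ'} := by
      conv_lhs => rw [← Set.biUnion_of_singleton (F \ {ξ})]
      exact (hF.sdiff).closure_biUnion _
    have hξn : ξ ∉ closure (F \ {ξ}) := by
      rw [hcl]
      simp only [Set.mem_iUnion]
      rintro ⟨ξ', hξ', h⟩
      have h1 : ξ' ⤳ ξ := specializes_iff_mem_closure.mpr h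
      exact hξ'.2 (hFmax ξ hξ ξ' h1)
    obtain ⟨_, ⟨W, hW, rfl⟩, hξW, hWO⟩ := X.isBasis_affineOpens.exists_subset_of_mem_open
      (show ξ ∈ (O : Set X) ∩ (closure (F \ {ξ}))ᶜ from ⟨hFO hξ, hξn⟩)
      (O.isOpen.inter isClosed_closure.isOpen_compl)
    exact ⟨W, hW, hξW, fun z hz => (hWO hz).1,
      fun ξ' hξ' hne hmem => (hWO hmem).2 (subset_closure ⟨hξ', hne⟩)⟩
  choose! W hWaff hξW hWO hWne using hW
  have hU : ∀ ξ ∈ F, ∃ U' : X.Opens, IsAffineOpen U' ∧ ξ ∈ U' ∧ U' ≤ W ξ ∧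
      Disjoint (U' : Set X) K ∧
      ∀ ξ' ∈ F, ξ' ≠ ξ → Disjoint (U' : Set X) (W ξ' : Set X) := by
    intro ξ hξ
    let K' : Set X := (⋃ ξ' ∈ F \ {ξ}, ((W ξ : Set X) ∩ (W ξ' : Set X))) ∪ ((W ξ : Set X) ∩ K)
    have hKo' : IsOpen K' :=
      (isOpen_biUnion fun ξ' _ => (W ξ).isOpen.inter (W ξ').isOpen).union ((W ξ).isOpen.inter hKo)
    have hKc' : IsCompact K' :=
      ((hF.sdiff).isCompact_biUnion fun ξ' hξ' =>
        hO (W ξ) (W ξ') (hWO ξ hξ) (W ξ).isOpen (hWaff ξ hξ).isCompact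
          (hWO ξ' hξ'.1) (W ξ').isOpen (hWaff ξ' hξ'.1).isCompact).union
        (hO (W ξ) K (hWO ξ hξ) (W ξ).isOpen (hWaff ξ hξ).isCompact hKO hKo hKc)
    have hKW : K' ⊆ (W ξ : Set X) :=
      Set.union_subset (Set.iUnion₂_subset fun ξ' _ => Set.inter_subset_left)
        Set.inter_subset_left
    have hξK : ξ ∉ K' := by
      rintro (h | h)
      · simp only [Set.mem_iUnion] at h
        obtain ⟨ξ', hξ', h⟩ := h
        exact hWne ξ' hξ'.1 ξ hξ (fun h' => hξ'.2 h'.symm) h.2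
      · exact hFK ξ hξ h.2
    obtain ⟨s, hξs, hdisj⟩ := exists_basicOpen_disjoint (hWaff ξ hξ) (hξW ξ hξ) (hFmax ξ hξ)
      hKo' hKc' hKW hξK
    refine ⟨X.basicOpen s, (hWaff ξ hξ).basicOpen s, hξs, X.basicOpen_le s, ?_,
      fun ξ' hξ' hne => ?_⟩
    · rw [Set.disjoint_left]
      intro z hzs hzK
      exact Set.disjoint_left.mp hdisj hzs (Or.inr ⟨X.basicOpen_le s hzs, hzK⟩)
    · rw [Set.disjoint_left]
      intro z hzs hzW'
      exact Set.disjoint_left.mp hdisj hzs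
        (Or.inl (Set.mem_biUnion (show ξ' ∈ F \ {ξ} from ⟨hξ', hne⟩)
          ⟨X.basicOpen_le s hzs, hzW'⟩))
  choose! U' hU'aff hξU' hU'W hU'K hU'disj using hU
  refine ⟨U', fun ξ hξ => ⟨hU'aff ξ hξ, hξU' ξ hξ, (hU'W ξ hξ).trans (hWO ξ hξ), hU'K ξ hξ⟩, ?_⟩
  intro ξ hξ ξ' hξ' hne
  show Disjoint (U' ξ) (U' ξ')
  rw [← Opens.coe_disjoint]
  exact (hU'disj ξ hξ ξ' hξ' hne.symm).mono_right (hU'W ξ' hξ')

/-- S7385. -/
theorem exists_disjoint_affine_nhds (X : Scheme.{u}) [QuasiSeparatedSpace X] {n : ℕ}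
    (η : Fin n → X) (hη : ∀ i, closure ({η i} : Set X) ∈ irreducibleComponents (X : Type u))
    (hinj : Function.Injective η) :
    ∃ U : Fin n → X.Opens, (∀ i, IsAffineOpen (U i) ∧ η i ∈ U i) ∧
      (∀ i j, i ≠ j → Disjoint (U i) (U j)) ∧ IsAffineOpen (⨆ i, U i) := by
  have hO : IsQuasiSeparated (((⊤ : X.Opens) : X.Opens) : Set X) := by
    rw [Opens.coe_top]
    exact isQuasiSeparated_univ
  obtain ⟨U', hU', hpair⟩ := exists_disjoint_isAffineOpen_of_finite_maxPts hO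
    (Set.finite_range η) (fun _ _ => trivial)
    (fun ξ hξ => by
      obtain ⟨i, rfl⟩ := hξ
      exact isMaxPt_of_mem_irreducibleComponents (hη i))
    ∅ isOpen_empty isCompact_empty (Set.empty_subset _) (fun _ _ h => h)
  have hdisj : ∀ i j, i ≠ j → Disjoint (U' (η i)) (U' (η j)) := fun i j hij =>
    hpair ⟨i, rfl⟩ ⟨j, rfl⟩ (fun h => hij (hinj h))
  refine ⟨fun i => U' (η i), fun i => ⟨(hU' _ ⟨i, rfl⟩).1, (hU' _ ⟨i, rfl⟩).2.1⟩, hdisj, ?_⟩
  exact IsAffineOpen.iSup_of_disjoint (fun i => (hU' _ ⟨i, rfl⟩).1) (fun i j hij => hdisj i j hij)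

/-- S7386. -/
theorem exists_affine_nhd_pt_and_generic (X : Scheme.{u}) [QuasiSeparatedSpace X] {n : ℕ}
    (η : Fin n → X) (hη : ∀ i, closure ({η i} : Set X) ∈ irreducibleComponents (X : Type u))
    (x : X) :
    ∃ U : X.Opens, IsAffineOpen U ∧ x ∈ U ∧ ∀ i, η i ∈ U := by
  have hO : IsQuasiSeparated (((⊤ : X.Opens) : X.Opens) : Set X) := by
    rw [Opens.coe_top]
    exact isQuasiSeparated_univ
  obtain ⟨_, ⟨W, hW, rfl⟩, hxW, -⟩ :=
    X.isBasis_affineOpens.exists_subset_of_mem_open (Set.mem_univ x) isOpen_univ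
  obtain ⟨U', hU', hpair⟩ := exists_disjoint_isAffineOpen_of_finite_maxPts hO
    (F := Set.range η \ (W : Set X)) ((Set.finite_range η).sdiff) (fun _ _ => trivial)
    (fun ξ hξ => by
      obtain ⟨⟨i, rfl⟩, -⟩ := hξ
      exact isMaxPt_of_mem_irreducibleComponents (hη i))
    (W : Set X) W.isOpen hW.isCompact (fun _ _ => trivial) (fun ξ hξ => hξ.2)
  have hV : IsAffineOpen (⨆ ξ ∈ Set.range η \ (W : Set X), U' ξ) :=
    IsAffineOpen.biSup_of_disjoint ((Set.finite_range η).sdiff) (fun ξ hξ => (hU' ξ hξ).1) hpair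
  have hVW : Disjoint W (⨆ ξ ∈ Set.range η \ (W : Set X), U' ξ) := by
    rw [disjoint_iSup₂_iff]
    intro ξ hξ
    rw [← Opens.coe_disjoint]
    exact (hU' ξ hξ).2.2.2.symm
  have hsup : IsAffineOpen (⨆ b : Bool, cond b W (⨆ ξ ∈ Set.range η \ (W : Set X), U' ξ)) := by
    refine IsAffineOpen.iSup_of_disjoint (fun b => ?_) ?_
    · cases b
      · exact hV
      · exact hW
    intro b b' hbb'
    cases b <;> cases b'
    · exact absurd rfl hbb'
    · exact hVW.symm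
    · exact hVW
    · exact absurd rfl hbb'
  rw [iSup_bool_eq] at hsup
  refine ⟨_, hsup, Or.inl hxW, fun i => ?_⟩
  by_cases hi : η i ∈ W
  · exact Or.inl hi
  · refine Or.inr ?_
    exact le_iSup₂ (f := fun ξ (_ : ξ ∈ Set.range η \ (W : Set X)) => U' ξ) (η i) ⟨⟨i, rfl⟩, hi⟩
      (hU' (η i) ⟨⟨i, rfl⟩, hi⟩).2.1

end Groth.Agent.GenFinMax
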