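import Mathlib
import Groth.Agent.Lib.WEField3_helper9

/-!
# Base change of the maximal weakly étale subalgebra, part 1 (helper2)

* `isSepRoot_of_tmul`: if `1 ⊗ a ∈ F ⊗[K] A` is a root of a separable polynomial over `F`, then `a`
  is a root of a separable polynomial over `K`.
* `mem_span_idem_of_isSepRoot`: over a separably closed field, a root of a separable polynomial is a
  linear combination of idempotents.
-/

set_option autoImplicit false
universe u

namespace Groth.Agent.Lib.MaxWEBCH2

open Polynomial TensorProduct Groth.Agent.WEField9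

section LemmaS

variable (K F A : Type*) [Field K] [Field F] [Algebra K F] [CommRing A] [Algebra K A]

/-- `F[X] → F ⊗[K] K[X] → F ⊗[K] A` is evaluation at `1 ⊗ a`. -/
theorem lTensor_aeval_polyEquivTensor (a : A) (g : F[X]) :
    (AlgebraTensorModule.lTensor F F (aeval a : K[X] →ₐ[K] A).toLinearMap)
      (polyEquivTensor K F g) = aeval ((1 : F) ⊗ₜ[K] a) g := by
  induction g using Polynomial.induction_on' with
  | add p q hp hq => rw [map_add, map_add, map_add, hp, hq]
  | monomial n c =>
    have h : polyEquivTensor K F (monomial n c) = c ⊗ₜ[K] (X ^ n : K[X]) := by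
      rw [← AlgEquiv.eq_symm_apply, polyEquivTensor_symm_apply_tmul_eq_smul, Polynomial.map_pow,
        map_X, smul_eq_C_mul, C_mul_X_pow_eq_monomial]
    rw [h, AlgebraTensorModule.lTensor_tmul, aeval_monomial, AlgHom.toLinearMap_apply, aeval_X_pow,
      Algebra.TensorProduct.tmul_pow, one_pow, Algebra.TensorProduct.algebraMap_apply,
      Algebra.algebraMap_self, RingHom.id_apply, Algebra.TensorProduct.tmul_mul_tmul, mul_one,
      one_mul]

/-- If `1 ⊗ a` is a separable root over `F`, then `a` is a separable root over `K`. -/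
theorem isSepRoot_of_tmul (a : A) (h : IsSepRoot F ((1 : F) ⊗ₜ[K] a)) : IsSepRoot K a := by
  obtain ⟨g, hg, h0⟩ := h
  set f : K[X] →ₗ[K] A := (aeval a : K[X] →ₐ[K] A).toLinearMap with hf
  set I : Ideal K[X] := RingHom.ker (aeval a : K[X] →ₐ[K] A) with hI
  set m : K[X] := Submodule.IsPrincipal.generator I with hm
  have hmI : m ∈ I := Submodule.IsPrincipal.generator_mem I
  have hdvd : ∀ r : K[X], r ∈ LinearMap.ker f → m ∣ r := by
    intro r hr
    have hr' : r ∈ I := by
      rw [hI, RingHom.mem_ker]
      exact hr
    rw [← Ideal.span_singleton_generator I, Ideal.mem_span_singleton] at hr'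
    exact hr'
  have hker : polyEquivTensor K F g ∈ LinearMap.ker (AlgebraTensorModule.lTensor F F f) := by
    rw [LinearMap.mem_ker, lTensor_aeval_polyEquivTensor, h0]
  rw [Module.Flat.ker_lTensor_eq] at hker
  obtain ⟨ξ, hξ⟩ := hker
  have key : ∀ ξ : F ⊗[K] (LinearMap.ker f), m.map (algebraMap K F) ∣
      (polyEquivTensor K F).symm
        (AlgebraTensorModule.lTensor F F (LinearMap.ker f).subtype ξ) := by
    intro ξ
    induction ξ using TensorProduct.induction_on with
    | zero => simp
    | tmul c r =>
      rw [AlgebraTensorModule.lTensor_tmul, polyEquivTensor_symm_apply_tmul_eq_smul]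
      obtain ⟨q, hq⟩ := hdvd r.1 r.2
      rw [Submodule.subtype_apply, hq, Polynomial.map_mul, Polynomial.smul_eq_C_mul]
      exact Dvd.intro (C c * Polynomial.map (algebraMap K F) q) (by ring)
    | add x y hx hy =>
      rw [map_add, map_add]
      exact dvd_add hx hy
  have h1 := key ξ
  rw [hξ, AlgEquiv.symm_apply_apply] at h1
  have h2 : (m.map (algebraMap K F)).Separable := hg.of_dvd h1
  rw [Polynomial.separable_map] at h2
  refine ⟨m, h2, ?_⟩
  have := hmI
  rw [hI, RingHom.mem_ker] at this
  exact this

end LemmaS

section Lagrange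

variable {F : Type*} [Field F]

theorem nodal_dvd_of_eval_eq_zero (s : Finset F) (P : F[X]) (h : ∀ μ ∈ s, P.eval μ = 0) :
    Lagrange.nodal s id ∣ P := by
  rw [Lagrange.nodal_eq]
  apply Finset.prod_dvd_of_coprime
  · intro a _ b _ hab
    exact Polynomial.isCoprime_X_sub_C_of_isUnit_sub (sub_ne_zero.2 hab).isUnit
  · intro μ hμ
    rw [id, Polynomial.dvd_iff_isRoot]
    exact h μ hμ

theorem exists_nodal_eq_of_separable [DecidableEq F] [IsSepClosed F] (g : F[X]) (hg : g.Separable) :
    C g.leadingCoeff * Lagrange.nodal g.roots.toFinset id = g := by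
  have hs : g.Splits := IsSepClosed.splits_of_separable g hg
  have hcard := Polynomial.splits_iff_card_roots.1 hs
  have h1 := Polynomial.C_leadingCoeff_mul_prod_multiset_X_sub_C hcard
  have hnd : g.roots.Nodup := Polynomial.nodup_roots hg
  rw [Lagrange.nodal_eq]
  conv_rhs => rw [← h1]
  congr 1
  rw [Finset.prod_eq_multiset_prod, Multiset.toFinset_val, hnd.dedup]
  rfl

variable {B : Type*} [CommRing B] [Algebra F B]

/-- Over a separably closed field, a root of a separable polynomial is a linear combination of
idempotents. -/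
theorem mem_span_idem_of_isSepRoot [IsSepClosed F] (z : B) (hz : IsSepRoot F z) :
    z ∈ Submodule.span F {e : B | IsIdempotentElem e} := by
  classical
  obtain ⟨g, hg, h0⟩ := hz
  set s : Finset F := g.roots.toFinset with hs
  have hgs := exists_nodal_eq_of_separable g hg
  have hlc : g.leadingCoeff ≠ 0 := Polynomial.leadingCoeff_ne_zero.2 hg.ne_zero
  have hnod : aeval z (Lagrange.nodal s id) = 0 := by
    have h1 : aeval z g = g.leadingCoeff • aeval z (Lagrange.nodal s id) := by
      conv_lhs => rw [← hgs]
      rw [map_mul, aeval_C, Algebra.smul_def]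
    rw [h0] at h1
    have h2 := congrArg (fun x => g.leadingCoeff⁻¹ • x) h1
    simp only [smul_zero, smul_smul, inv_mul_cancel₀ hlc, one_smul] at h2
    exact h2.symm
  have hzero_of_dvd : ∀ P : F[X], Lagrange.nodal s id ∣ P → aeval z P = 0 := by
    rintro P ⟨Q, rfl⟩
    rw [map_mul, hnod, zero_mul]
  rcases s.eq_empty_or_nonempty with hse | hsne
  · rw [hse, Lagrange.nodal_empty, map_one] at hnod
    have : z = 0 := by rw [← mul_one z, hnod, mul_zero]
    rw [this]
    exact Submodule.zero_mem _
  · set e : F → B := fun l => aeval z (Lagrange.basis s id l) with he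
    have hsum : ∑ l ∈ s, e l = 1 := by
      simp only [he]
      rw [← map_sum, Lagrange.sum_basis (Set.injOn_id _) hsne, map_one]
    have horth : ∀ l ∈ s, ∀ μ ∈ s, l ≠ μ → e l * e μ = 0 := by
      intro l hl μ hμ hlμ
      simp only [he]
      rw [← map_mul]
      apply hzero_of_dvd
      apply nodal_dvd_of_eval_eq_zero
      intro ν hν
      rw [eval_mul]
      by_cases hνl : ν = l
      · subst hνl
        have := Lagrange.eval_basis_of_ne (v := id) (s := s) (i := μ) (j := ν) (Ne.symm hlμ) hν
        rw [id] at this
        rw [this, mul_zero]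
      · have := Lagrange.eval_basis_of_ne (v := id) (s := s) (i := l) (j := ν) (Ne.symm hνl) hν
        rw [id] at this
        rw [this, zero_mul]
    have hidem : ∀ l ∈ s, IsIdempotentElem (e l) := by
      intro l hl
      have h1 : e l = e l * ∑ μ ∈ s, e μ := by rw [hsum, mul_one]
      rw [Finset.mul_sum, Finset.sum_eq_single l] at h1
      · exact h1.symm
      · intro μ hμ hμl
        exact horth l hl μ hμ (Ne.symm hμl)
      · intro h; exact absurd hl h
    have hz_e : ∀ l ∈ s, z * e l = l • e l := by
      intro l hl
      have h1 : aeval z ((X - C l) * Lagrange.basis s id l) = 0 := by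
        apply hzero_of_dvd
        apply nodal_dvd_of_eval_eq_zero
        intro ν hν
        rw [eval_mul]
        by_cases hνl : ν = l
        · subst hνl
          simp
        · have := Lagrange.eval_basis_of_ne (v := id) (s := s) (i := l) (j := ν) (Ne.symm hνl) hν
          rw [id] at this
          rw [this, mul_zero]
      rw [map_mul, map_sub, aeval_X, aeval_C, sub_mul, sub_eq_zero] at h1
      rw [h1, Algebra.smul_def]
    have hz : z = ∑ l ∈ s, l • e l := by
      conv_lhs => rw [← mul_one z, ← hsum, Finset.mul_sum]
      exact Finset.sum_congr rfl hz_e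
    rw [hz]
    exact Submodule.sum_mem _ fun l hl =>
      Submodule.smul_mem _ _ (Submodule.subset_span (hidem l hl))

end Lagrange

end Groth.Agent.Lib.MaxWEBCH2
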