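import Mathlib
import Groth.Agent.Lib.MaxWEBC1_helper2
import Groth.Agent.Lib.GeomConn1_lead

/-!
# Base change of the maximal weakly étale subalgebra, part 2 (helper2)
-/

set_option autoImplicit false
universe u

namespace Groth.Agent.Lib.MaxWEBCH2

open Polynomial TensorProduct Groth.Agent.WEField9

/-! ### Idempotents of `Ω ⊗[k] R` for `k` separably closed -/

section Idem

variable (k Ω R : Type u) [Field k] [IsSepClosed k] [Field Ω] [Algebra k Ω] [CommRing R] [Algebra k R]

theorem exists_idem_tmul (x : Ω ⊗[k] R) (hx : IsIdempotentElem x) :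
    ∃ e : R, IsIdempotentElem e ∧ x = (1 : Ω) ⊗ₜ[k] e := by
  have hS : ∀ (k' : Type u) [Field k'] [Algebra k k'],
      ConnectedSpace (PrimeSpectrum (k' ⊗[k] Ω)) := by
    intro k' _ _
    exact Groth.Agent.Lib.GeomConn.main_S9623
  have hy : IsIdempotentElem (Algebra.TensorProduct.comm k Ω R x) := hx.map _
  obtain ⟨e, ⟨he, hye⟩, -⟩ := Groth.Agent.Lib.GeomConn.main_S9624 hS _ hy
  refine ⟨e, he, ?_⟩
  have h1 : x = (Algebra.TensorProduct.comm k Ω R).symm (Algebra.TensorProduct.comm k Ω R x) :=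
    (AlgEquiv.symm_apply_apply _ x).symm
  have h2 : algebraMap R (R ⊗[k] Ω) e = e ⊗ₜ[k] (1 : Ω) := by
    rw [Algebra.TensorProduct.algebraMap_apply]; rfl
  rw [h1, ← hye, h2]
  rfl

theorem mem_span_tmul_idem [IsSepClosed Ω] (z : Ω ⊗[k] R) (hz : IsSepRoot Ω z) :
    z ∈ Submodule.span Ω {y : Ω ⊗[k] R | ∃ e : R, IsIdempotentElem e ∧ y = (1 : Ω) ⊗ₜ[k] e} := by
  have h := mem_span_idem_of_isSepRoot z hz
  refine Submodule.span_mono ?_ h
  intro y hy
  exact exists_idem_tmul k Ω R y hy

end Idem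

/-! ### Extracting coefficients with functionals -/

section Coeff

variable {K : Type*} [Field K] {E A : Type*} [AddCommGroup E] [Module K E] [AddCommGroup A]
  [Module K A]

theorem mem_span_of_forall_functional (V : Submodule K A) (x : E ⊗[K] A)
    (h : ∀ l : E →ₗ[K] K, TensorProduct.lid K A (l.rTensor A x) ∈ V) :
    x ∈ Submodule.span K {y : E ⊗[K] A | ∃ c : E, ∃ v ∈ V, y = c ⊗ₜ[K] v} := by
  classical
  set b := Module.Free.chooseBasis K E with hb
  have hx : x = (TensorProduct.equivFinsuppOfBasisLeft b).symm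
      (TensorProduct.equivFinsuppOfBasisLeft b x) := (LinearEquiv.symm_apply_apply _ x).symm
  rw [hx, TensorProduct.equivFinsuppOfBasisLeft_symm_apply, Finsupp.sum]
  refine Submodule.sum_mem _ fun i _ => Submodule.subset_span ⟨b i, _, ?_, rfl⟩
  rw [TensorProduct.equivFinsuppOfBasisLeft_apply]
  exact h _

end Coeff

/-! ### Descent from an over-field -/

section Descent

variable (K L Ω A : Type*) [Field K] [Field L] [Field Ω] [Algebra K L] [Algebra K Ω]
  [Algebra L Ω] [IsScalarTower K L Ω] [AddCommGroup A] [Module K A]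

theorem mem_span_of_rTensor_mem_span (V : Submodule K A) (z : L ⊗[K] A)
    (h : (LinearMap.rTensor A ((Algebra.linearMap L Ω).restrictScalars K)) z ∈
      Submodule.span Ω {y : Ω ⊗[K] A | ∃ v ∈ V, y = (1 : Ω) ⊗ₜ[K] v}) :
    z ∈ Submodule.span L {y : L ⊗[K] A | ∃ v ∈ V, y = (1 : L) ⊗ₜ[K] v} := by
  set ι : L →ₗ[K] Ω := (Algebra.linearMap L Ω).restrictScalars K with hι
  have key : ∀ (ω : Ω) (l' : Ω →ₗ[K] K) (x : Ω ⊗[K] A),
      l'.rTensor A (ω • x) = (l' ∘ₗ (LinearMap.mulLeft K ω)).rTensor A x := by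
    intro ω l' x
    induction x using TensorProduct.induction_on with
    | zero => simp
    | tmul c a =>
      rw [TensorProduct.smul_tmul', LinearMap.rTensor_tmul, LinearMap.rTensor_tmul]
      rfl
    | add x y hx hy => rw [smul_add, map_add, map_add, hx, hy]
  -- functionals on `Ω` applied to `ι z` land in `V`
  have h1 : ∀ l' : Ω →ₗ[K] K, TensorProduct.lid K A (l'.rTensor A (ι.rTensor A z)) ∈ V := by
    refine Submodule.span_induction (p := fun x _ => ∀ l' : Ω →ₗ[K] K,
      TensorProduct.lid K A (l'.rTensor A x) ∈ V) ?_ ?_ ?_ ?_ h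
    · rintro _ ⟨v, hv, rfl⟩ l'
      rw [LinearMap.rTensor_tmul, TensorProduct.lid_tmul]
      exact V.smul_mem _ hv
    · intro l'
      rw [map_zero, map_zero]
      exact V.zero_mem
    · intro x y _ _ hx hy l'
      rw [map_add, map_add]
      exact V.add_mem (hx l') (hy l')
    · intro ω x _ hx l'
      rw [key ω l' x]
      exact hx _
  have hinj : LinearMap.ker ι = ⊥ := by
    rw [LinearMap.ker_eq_bot]
    exact (algebraMap L Ω).injective
  obtain ⟨g, hg⟩ := LinearMap.exists_leftInverse_of_injective ι hinj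
  have h2 : ∀ l : L →ₗ[K] K, TensorProduct.lid K A (l.rTensor A z) ∈ V := by
    intro l
    have : l = (l ∘ₗ g) ∘ₗ ι := by rw [LinearMap.comp_assoc, hg, LinearMap.comp_id]
    rw [this, LinearMap.rTensor_comp_apply]
    exact h1 _
  have h3 := mem_span_of_forall_functional V z h2
  refine Submodule.span_induction (p := fun x _ => x ∈
    Submodule.span L {y : L ⊗[K] A | ∃ v ∈ V, y = (1 : L) ⊗ₜ[K] v}) ?_ ?_ ?_ ?_ h3
  · rintro _ ⟨c, v, hv, rfl⟩
    have : c ⊗ₜ[K] v = c • ((1 : L) ⊗ₜ[K] v) := by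
      rw [TensorProduct.smul_tmul', smul_eq_mul, mul_one]
    rw [this]
    exact Submodule.smul_mem _ _ (Submodule.subset_span ⟨v, hv, rfl⟩)
  · exact Submodule.zero_mem _
  · intro x y _ _ hx hy
    exact Submodule.add_mem _ hx hy
  · intro c x _ hx
    rw [← algebraMap_smul L c x]
    exact Submodule.smul_mem _ _ hx

end Descent

end Groth.Agent.Lib.MaxWEBCH2
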