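import Mathlib
import Groth.Agent.Lib.MaxWEBC2_helper2

/-!
# Base change of the maximal weakly étale subalgebra, part 3 (helper2)

Separable descent of separable roots and the main theorem `sepSub L (L ⊗[K] A) = L ⊗ sepSub K A`.
-/

set_option autoImplicit false
set_option linter.style.haveILetI false
universe u

namespace Groth.Agent.Lib.MaxWEBCH2

open Polynomial TensorProduct Groth.Agent.WEField9

/-! ### Dedekind: embeddings span the space of linear maps -/

section Dedekind

variable (K K' F : Type*) [Field K] [Field K'] [Field F] [Algebra K K'] [Algebra K F]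
  [FiniteDimensional K K'] [Algebra.IsSeparable K K'] [IsAlgClosed F]

theorem span_algHom_eq_top :
    Submodule.span F (Set.range (AlgHom.toLinearMap : (K' →ₐ[K] F) → (K' →ₗ[K] F))) = ⊤ := by
  classical
  apply LinearIndependent.span_eq_top_of_card_eq_finrank' (linearIndependent_toLinearMap K K' F)
  rw [AlgHom.card K K' F, Module.finrank_linearMap_self]

end Dedekind

/-! ### Separable roots of `K' ⊗[K] A` and functionals -/

section Functionals

variable (K K' A : Type u) [Field K] [Field K'] [Algebra K K'] [CommRing A] [Algebra K A]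

/-- Transport of separable roots along `ψ ⊗ id` for a field embedding `ψ`. -/
theorem isSepRoot_map_tensor {F : Type u} [Field F] [Algebra K F] (ψ : K' →ₐ[K] F)
    (ε : K' ⊗[K] A) (hε : IsSepRoot K' ε) :
    IsSepRoot F (Algebra.TensorProduct.map ψ (AlgHom.id K A) ε) := by
  obtain ⟨g, hg, h0⟩ := hε
  refine ⟨g.map ψ.toRingHom, hg.map, ?_⟩
  set Φ := Algebra.TensorProduct.map ψ (AlgHom.id K A) with hΦ
  have h1 : Φ.toRingHom (aeval ε g) = 0 := by rw [h0, map_zero]
  rw [aeval_def, Polynomial.hom_eval₂] at h1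
  rw [aeval_def, Polynomial.eval₂_map]
  have h2 : Φ.toRingHom.comp (algebraMap K' (K' ⊗[K] A)) =
      (algebraMap F (F ⊗[K] A)).comp ψ.toRingHom := by
    ext c
    simp only [RingHom.comp_apply, Algebra.TensorProduct.algebraMap_apply, Algebra.algebraMap_self,
      RingHom.id_apply]
    show Φ (c ⊗ₜ[K] (1 : A)) = _
    rw [hΦ, Algebra.TensorProduct.map_tmul]
    simp
  rw [← h2]
  exact h1

variable [FiniteDimensional K K'] [Algebra.IsSeparable K K']

theorem rTensor_mem_sepSub {F : Type u} [Field F] [Algebra K F] [IsAlgClosed F]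
    (ε : K' ⊗[K] A) (hε : IsSepRoot K' ε) (l : K' →ₗ[K] F) :
    l.rTensor A ε ∈ sepSub F (F ⊗[K] A) := by
  have hl : l ∈ Submodule.span F
      (Set.range (AlgHom.toLinearMap : (K' →ₐ[K] F) → (K' →ₗ[K] F))) := by
    rw [span_algHom_eq_top]; trivial
  have key : ∀ (f : F) (l : K' →ₗ[K] F) (x : K' ⊗[K] A),
      (f • l).rTensor A x = f • l.rTensor A x := by
    intro f l x
    induction x using TensorProduct.induction_on with
    | zero => simp
    | tmul c a =>
      rw [LinearMap.rTensor_tmul, LinearMap.rTensor_tmul, LinearMap.smul_apply,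
        TensorProduct.smul_tmul']
    | add x y hx hy => rw [map_add, map_add, smul_add, hx, hy]
  refine Submodule.span_induction (p := fun l _ => l.rTensor A ε ∈ sepSub F (F ⊗[K] A))
    ?_ ?_ ?_ ?_ hl
  · rintro _ ⟨ψ, rfl⟩
    exact isSepRoot_map_tensor K K' A ψ ε hε
  · rw [LinearMap.rTensor_zero, LinearMap.zero_apply]
    exact Subalgebra.zero_mem _
  · intro l₁ l₂ _ _ h₁ h₂
    rw [LinearMap.rTensor_add, LinearMap.add_apply]
    exact Subalgebra.add_mem _ h₁ h₂
  · intro f l' _ h'
    rw [key]
    exact Subalgebra.smul_mem _ h' f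

/-- Coefficients of a separable root of `K' ⊗[K] A` (for `K'/K` finite separable) are separable
roots. -/
theorem isSepRoot_lid_rTensor (ε : K' ⊗[K] A) (hε : IsSepRoot K' ε) (l₀ : K' →ₗ[K] K) :
    IsSepRoot K (TensorProduct.lid K A (l₀.rTensor A ε)) := by
  set F := AlgebraicClosure K' with hF
  set l : K' →ₗ[K] F := (Algebra.linearMap K F) ∘ₗ l₀ with hl
  have h1 := rTensor_mem_sepSub K K' A (F := F) ε hε l
  have key : ∀ y : K ⊗[K] A, (Algebra.linearMap K F).rTensor A y =
      (1 : F) ⊗ₜ[K] (TensorProduct.lid K A y) := by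
    intro y
    induction y using TensorProduct.induction_on with
    | zero => simp
    | tmul c a =>
      rw [LinearMap.rTensor_tmul, TensorProduct.lid_tmul, Algebra.linearMap_apply,
        Algebra.algebraMap_eq_smul_one, TensorProduct.smul_tmul]
    | add x y hx hy => rw [map_add, map_add, TensorProduct.tmul_add, hx, hy]
  rw [hl, LinearMap.rTensor_comp_apply, key] at h1
  exact isSepRoot_of_tmul K F A _ h1

end Functionals

/-! ### Reduction to a finite subextension -/

section FiniteReduction

variable (K Ks A : Type*) [Field K] [Field Ks] [Algebra K Ks]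
  [CommRing A] [Algebra K A]

theorem range_map_val_mono {K₁ K₂ : IntermediateField K Ks} (h : K₁ ≤ K₂) :
    Set.range (Algebra.TensorProduct.map K₁.val (AlgHom.id K A)) ⊆
      Set.range (Algebra.TensorProduct.map K₂.val (AlgHom.id K A)) := by
  rintro _ ⟨y, rfl⟩
  refine ⟨Algebra.TensorProduct.map (IntermediateField.inclusion h) (AlgHom.id K A) y, ?_⟩
  rw [← AlgHom.comp_apply, ← Algebra.TensorProduct.map_comp]
  rfl

theorem exists_finite_intermediateField [Algebra.IsAlgebraic K Ks] (x : Ks ⊗[K] A) :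
    ∃ K' : IntermediateField K Ks, FiniteDimensional K K' ∧
      x ∈ Set.range (Algebra.TensorProduct.map K'.val (AlgHom.id K A)) := by
  induction x using TensorProduct.induction_on with
  | zero => exact ⟨⊥, inferInstance, 0, map_zero _⟩
  | tmul c a =>
    refine ⟨IntermediateField.adjoin K {c},
      IntermediateField.adjoin.finiteDimensional (Algebra.IsIntegral.isIntegral c),
      (⟨c, IntermediateField.mem_adjoin_simple_self K c⟩ : IntermediateField.adjoin K {c}) ⊗ₜ[K] a,
      ?_⟩
    rw [Algebra.TensorProduct.map_tmul]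
    rfl
  | add x y hx hy =>
    obtain ⟨K₁, h₁, hx⟩ := hx
    obtain ⟨K₂, h₂, hy⟩ := hy
    refine ⟨K₁ ⊔ K₂, inferInstance, ?_⟩
    obtain ⟨x', hx'⟩ := range_map_val_mono K Ks A (le_sup_left : K₁ ≤ K₁ ⊔ K₂) hx
    obtain ⟨y', hy'⟩ := range_map_val_mono K Ks A (le_sup_right : K₂ ≤ K₁ ⊔ K₂) hy
    exact ⟨x' + y', by rw [map_add, hx', hy']⟩

end FiniteReduction

/-! ### Idempotents over a separable algebraic extension -/

section SepAlg

variable (K Ks A : Type u) [Field K] [Field Ks] [Algebra K Ks] [Algebra.IsSeparable K Ks]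
  [CommRing A] [Algebra K A]

theorem isSepRoot_of_isIdempotentElem {F B : Type*} [Field F] [CommRing B] [Algebra F B] (e : B)
    (he : IsIdempotentElem e) : IsSepRoot F e := by
  refine ⟨X ^ 2 - X, ?_, ?_⟩
  · refine ⟨-4, 2 * X - 1, ?_⟩
    simp only [derivative_sub, derivative_X_pow, derivative_X, Nat.cast_ofNat, map_ofNat]
    ring
  · rw [map_sub, map_pow, aeval_X, pow_two, he.eq, sub_self]

theorem idem_mem_span (e : Ks ⊗[K] A) (he : IsIdempotentElem e) :
    e ∈ Submodule.span Ks
      {y : Ks ⊗[K] A | ∃ a ∈ (sepSub K A).toSubmodule, y = (1 : Ks) ⊗ₜ[K] a} := by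
  haveI : Algebra.IsAlgebraic K Ks := inferInstance
  obtain ⟨K', hfin, e', he'⟩ := exists_finite_intermediateField K Ks A e
  haveI := hfin
  set φ := Algebra.TensorProduct.map K'.val (AlgHom.id K A) with hφ
  have hφl : ∀ y, φ y = (K'.val.toLinearMap.rTensor A) y := fun y => rfl
  have hinj : Function.Injective φ := by
    have := Module.Flat.rTensor_preserves_injective_linearMap (M := A) K'.val.toLinearMap
      K'.val.injective
    intro y₁ y₂ h
    rw [hφl, hφl] at h
    exact this h
  have he'i : IsIdempotentElem e' := by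
    apply hinj
    rw [map_mul, he', he.eq]
  have hsep : IsSepRoot K' e' := isSepRoot_of_isIdempotentElem e' he'i
  have h2 : ∀ l : Ks →ₗ[K] K, TensorProduct.lid K A (l.rTensor A e) ∈
      (sepSub K A).toSubmodule := by
    intro l
    rw [← he', hφl, ← LinearMap.rTensor_comp_apply]
    exact isSepRoot_lid_rTensor K K' A e' hsep _
  have h3 := mem_span_of_forall_functional _ e h2
  refine Submodule.span_induction (p := fun x _ => x ∈ Submodule.span Ks
    {y : Ks ⊗[K] A | ∃ a ∈ (sepSub K A).toSubmodule, y = (1 : Ks) ⊗ₜ[K] a}) ?_ ?_ ?_ ?_ h3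
  · rintro _ ⟨c, v, hv, rfl⟩
    have : c ⊗ₜ[K] v = c • ((1 : Ks) ⊗ₜ[K] v) := by
      rw [TensorProduct.smul_tmul', smul_eq_mul, mul_one]
    rw [this]
    exact Submodule.smul_mem _ _ (Submodule.subset_span ⟨v, hv, rfl⟩)
  · exact Submodule.zero_mem _
  · intro x y _ _ hx hy
    exact Submodule.add_mem _ hx hy
  · intro c x _ hx
    rw [← algebraMap_smul Ks c x]
    exact Submodule.smul_mem _ _ hx

end SepAlg

end Groth.Agent.Lib.MaxWEBCH2
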