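import Mathlib
import Groth.Agent.Lib.MaxWEBC3_helper2

/-!
# Base change of the maximal weakly étale subalgebra, part 4 (helper2)

`main1978`: `maxWeaklyEtale L (L ⊗[K] A)` is generated over `L` by `maxWeaklyEtale K A`.
-/

set_option autoImplicit false
set_option linter.style.haveILetI false
universe u

namespace Groth.Agent.Lib.MaxWEBCH2

open Polynomial TensorProduct Groth.Agent.WEField9

section Core

theorem mem_span_of_isSepRoot_core (K k Ω A : Type u) [Field K] [Field k] [Field Ω] [Algebra K k]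
    [Algebra k Ω] [Algebra K Ω]
    [IsScalarTower K k Ω] [IsSepClosed k] [Algebra.IsSeparable K k] [IsSepClosed Ω]
    [CommRing A] [Algebra K A] (w : Ω ⊗[K] A) (hw : IsSepRoot Ω w) :
    w ∈ Submodule.span Ω
      {y : Ω ⊗[K] A | ∃ a ∈ (sepSub K A).toSubmodule, y = (1 : Ω) ⊗ₜ[K] a} := by
  set θ := Algebra.TensorProduct.cancelBaseChange K k Ω Ω A with hθ
  have hw' : IsSepRoot Ω (θ.symm w) := hw.map θ.symm.toAlgHom
  have h1 := mem_span_tmul_idem k Ω (k ⊗[K] A) (θ.symm w) hw'
  have h2 : w = θ (θ.symm w) := (θ.apply_symm_apply w).symm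
  rw [h2]
  refine Submodule.span_induction (p := fun x _ => θ x ∈ Submodule.span Ω
      {y : Ω ⊗[K] A | ∃ a ∈ (sepSub K A).toSubmodule, y = (1 : Ω) ⊗ₜ[K] a}) ?_ ?_ ?_ ?_ h1
  · rintro _ ⟨e, he, rfl⟩
    have h3 := idem_mem_span K k A e he
    refine Submodule.span_induction (p := fun x _ => θ ((1 : Ω) ⊗ₜ[k] x) ∈ Submodule.span Ω
      {y : Ω ⊗[K] A | ∃ a ∈ (sepSub K A).toSubmodule, y = (1 : Ω) ⊗ₜ[K] a}) ?_ ?_ ?_ ?_ h3
    · rintro _ ⟨a, ha, rfl⟩
      rw [hθ, Algebra.TensorProduct.cancelBaseChange_tmul, one_smul]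
      exact Submodule.subset_span ⟨a, ha, rfl⟩
    · rw [TensorProduct.tmul_zero, map_zero]
      exact Submodule.zero_mem _
    · intro x y _ _ hx hy
      rw [TensorProduct.tmul_add, map_add]
      exact Submodule.add_mem _ hx hy
    · intro c x _ hx
      have : (1 : Ω) ⊗ₜ[k] (c • x) = (algebraMap k Ω c) • ((1 : Ω) ⊗ₜ[k] x) := by
        rw [TensorProduct.tmul_smul, algebraMap_smul]
      rw [this, map_smul]
      exact Submodule.smul_mem _ _ hx
  · rw [map_zero]
    exact Submodule.zero_mem _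
  · intro x y _ _ hx hy
    rw [map_add]
    exact Submodule.add_mem _ hx hy
  · intro ω x _ hx
    rw [map_smul]
    exact Submodule.smul_mem _ _ hx

end Core

section Main

variable (K L A : Type u) [Field K] [Field L] [Algebra K L] [CommRing A] [Algebra K A]

theorem mem_span_of_isSepRoot (z : L ⊗[K] A) (hz : IsSepRoot L z) :
    z ∈ Submodule.span L
      {y : L ⊗[K] A | ∃ a ∈ (sepSub K A).toSubmodule, y = (1 : L) ⊗ₜ[K] a} := by
  apply mem_span_of_rTensor_mem_span K L (AlgebraicClosure L) A (sepSub K A).toSubmodule z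
  have h1 : IsSepRoot (AlgebraicClosure L)
      (Algebra.TensorProduct.map (IsScalarTower.toAlgHom K L (AlgebraicClosure L))
        (AlgHom.id K A) z) :=
    isSepRoot_map_tensor K L A _ z hz
  haveI : IsSepClosure K (separableClosure K (AlgebraicClosure L)) :=
    separableClosure.isSepClosure K (AlgebraicClosure L)
  haveI : IsSepClosed (separableClosure K (AlgebraicClosure L)) :=
    IsSepClosure.sep_closed (k := K)
  exact mem_span_of_isSepRoot_core K (separableClosure K (AlgebraicClosure L))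
    (AlgebraicClosure L) A _ h1

theorem main1978 :
    EtAlgD.maxWeaklyEtale L (L ⊗[K] A) =
      Algebra.adjoin L ((Algebra.TensorProduct.includeRight : A →ₐ[K] L ⊗[K] A) ''
        (EtAlgD.maxWeaklyEtale K A : Set A)) := by
  rw [maxWeaklyEtale_eq_sepSub, maxWeaklyEtale_eq_sepSub]
  apply le_antisymm
  · intro z hz
    have h := mem_span_of_isSepRoot K L A z hz
    refine (Submodule.span_le (p := Subalgebra.toSubmodule (Algebra.adjoin L
      ((Algebra.TensorProduct.includeRight : A →ₐ[K] L ⊗[K] A) ''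
        (sepSub K A : Set A))))).2 ?_ h
    rintro _ ⟨a, ha, rfl⟩
    exact Algebra.subset_adjoin ⟨a, ha, rfl⟩
  · apply Algebra.adjoin_le
    rintro _ ⟨a, ha, rfl⟩
    obtain ⟨g, hg, h0⟩ := ha
    refine ⟨g.map (algebraMap K L), hg.map, ?_⟩
    rw [aeval_map_algebraMap, aeval_algHom_apply, h0, map_zero]

end Main

end Groth.Agent.Lib.MaxWEBCH2
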