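import Mathlib
import Groth.Agent.Lib.McCoy_lead

/-!
# Rings in which proper f.g. ideals have nonzero annihilator: injective maps of finite projective
modules split
-/

namespace Groth.Agent.Lib.McCoy

open CAlgX Matrix

universe u

variable {R : Type u} [CommRing R]

theorem exists_lin_minor {m n : ℕ} (M : Matrix (Fin n) (Fin m) R) (f : Fin m → Fin n)
    (g : Fin m → Fin m) :
    ∃ ρ : (Fin n → R) →ₗ[R] (Fin m → R),
      ∀ x, ρ (M.mulVec x) = (M.submatrix f g).det • x := by
  classical
  by_cases hg : Function.Injective g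
  · have hgb : Function.Bijective g := Finite.injective_iff_bijective.1 hg
    have hB : M.submatrix f g =
        (M.submatrix f id).submatrix id (Equiv.ofBijective g hgb) := by
      ext a b
      simp [Matrix.submatrix_apply]
    refine ⟨((((Equiv.Perm.sign (Equiv.ofBijective g hgb) : ℤˣ) : ℤ) : R)) •
      ((M.submatrix f id).adjugate.mulVecLin ∘ₗ LinearMap.funLeft R R f), fun x => ?_⟩
    rw [hB, Matrix.det_permute']
    have h1 : (LinearMap.funLeft R R f) (M.mulVec x) = (M.submatrix f id).mulVec x := by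
      funext a
      simp [LinearMap.funLeft_apply, Matrix.mulVec, dotProduct, Matrix.submatrix_apply]
    rw [LinearMap.smul_apply, LinearMap.comp_apply, h1, Matrix.mulVecLin_apply,
      Matrix.mulVec_mulVec, Matrix.adjugate_mul, Matrix.smul_mulVec, Matrix.one_mulVec, mul_smul]
  · obtain ⟨a, b, hab, hne⟩ : ∃ a b, g a = g b ∧ a ≠ b := by
      by_contra hcon
      push_neg at hcon
      exact hg (fun a b h => hcon a b h)
    refine ⟨0, fun x => ?_⟩
    rw [Matrix.det_zero_of_column_eq hne (fun k => by simp [Matrix.submatrix_apply, hab]),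
      zero_smul, LinearMap.zero_apply]

theorem exists_retraction (hP : ∀ I : Ideal R, I.FG → I ≠ ⊤ → I.annihilator ≠ ⊥) {a b : ℕ}
    (w : (Fin a → R) →ₗ[R] (Fin b → R)) (hw : Function.Injective w) :
    ∃ ρ : (Fin b → R) →ₗ[R] (Fin a → R), ρ ∘ₗ w = LinearMap.id := by
  classical
  obtain ⟨M, hM⟩ : ∃ M : Matrix (Fin b) (Fin a) R, M = LinearMap.toMatrix' w := ⟨_, rfl⟩
  have hwM : Matrix.mulVecLin M = w := by
    rw [hM, ← Matrix.toLin'_apply']
    exact Matrix.toLin'_toMatrix' w
  have hinj : Function.Injective (Matrix.mulVecLin M) := by rw [hwM]; exact hw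
  have hann := annihilator_minorIdeal_eq_bot_of_injective M hinj
  have hfg : (minorIdeal M a).FG := by
    rw [minorIdeal]
    exact Submodule.fg_span (Set.finite_range _)
  have htop : minorIdeal M a = ⊤ := by
    by_contra hne
    exact hP _ hfg hne hann
  have h1 : (1 : R) ∈ minorIdeal M a := htop ▸ Submodule.mem_top
  rw [minorIdeal, Ideal.mem_span_range_iff_exists_fun] at h1
  obtain ⟨c, hc⟩ := h1
  choose ρ hρ using fun fg : (Fin a → Fin b) × (Fin a → Fin a) =>
    exists_lin_minor M fg.1 fg.2
  refine ⟨∑ fg, c fg • ρ fg, LinearMap.ext fun x => ?_⟩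
  have hwx : w x = M.mulVec x := by
    rw [← hwM]
    rfl
  rw [LinearMap.comp_apply, LinearMap.sum_apply, hwx]
  simp only [LinearMap.smul_apply, hρ, smul_smul]
  rw [← Finset.sum_smul, hc, one_smul, LinearMap.id_apply]

/-- injective maps between finite projective modules split -/
theorem exists_retraction_of_finite_projective
    (hP : ∀ I : Ideal R, I.FG → I ≠ ⊤ → I.annihilator ≠ ⊥)
    {N M : Type*} [AddCommGroup N] [Module R N] [Module.Finite R N] [Module.Projective R N]
    [AddCommGroup M] [Module R M] [Module.Finite R M] [Module.Projective R M]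
    (u : N →ₗ[R] M) (hu : Function.Injective u) :
    ∃ r : M →ₗ[R] N, r ∘ₗ u = LinearMap.id := by
  obtain ⟨m, sN, hsN⟩ := Module.Finite.exists_fin' R N
  obtain ⟨iN, hiN⟩ := Module.projective_lifting_property sN LinearMap.id hsN
  obtain ⟨n, sM, hsM⟩ := Module.Finite.exists_fin' R M
  obtain ⟨iM, hiM⟩ := Module.projective_lifting_property sM LinearMap.id hsM
  have hiN' : ∀ z, sN (iN z) = z := fun z => LinearMap.congr_fun hiN z
  have hiM' : ∀ z, sM (iM z) = z := fun z => LinearMap.congr_fun hiM z
  have hiMinj : Function.Injective iM := fun a b h => by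
    have := congrArg sM h
    rwa [hiM', hiM'] at this
  -- the linear equivalence R^n × R^m ≃ R^(n+m)
  let e : ((Fin n → R) × (Fin m → R)) ≃ₗ[R] (Fin (n + m) → R) :=
    (LinearEquiv.sumArrowLequivProdArrow (Fin n) (Fin m) R R).symm ≪≫ₗ
      LinearEquiv.funCongrLeft R R finSumFinEquiv.symm
  let w0 : (Fin m → R) →ₗ[R] ((Fin n → R) × (Fin m → R)) :=
    (iM ∘ₗ u ∘ₗ sN).prod (LinearMap.id - iN ∘ₗ sN)
  have hw0 : Function.Injective w0 := by
    rw [← LinearMap.ker_eq_bot, eq_bot_iff]
    intro x hx
    rw [LinearMap.mem_ker] at hx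
    have h1 : iM (u (sN x)) = 0 := congrArg Prod.fst hx
    have h2 : x - iN (sN x) = 0 := congrArg Prod.snd hx
    have h3 : sN x = 0 := by
      apply hu
      rw [map_zero]
      apply hiMinj
      rw [map_zero]
      exact h1
    rw [h3, map_zero, sub_zero] at h2
    rw [Submodule.mem_bot]
    exact h2
  obtain ⟨ρ, hρ⟩ := exists_retraction hP (e.toLinearMap ∘ₗ w0)
    (e.injective.comp hw0)
  have hρ' : ∀ x, ρ (e (w0 x)) = x := fun x => LinearMap.congr_fun hρ x
  refine ⟨sN ∘ₗ ρ ∘ₗ e.toLinearMap ∘ₗ LinearMap.inl R (Fin n → R) (Fin m → R) ∘ₗ iM,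
    LinearMap.ext fun z => ?_⟩
  have hw0z : w0 (iN z) = (iM (u z), 0) := by
    show ((iM (u (sN (iN z)))), iN z - iN (sN (iN z))) = _
    rw [hiN', sub_self]
  show sN (ρ (e (iM (u z), 0))) = z
  rw [← hw0z, hρ', hiN']

/-- the cokernel of an injective map between finite projective modules is projective -/
theorem projective_coker
    (hP : ∀ I : Ideal R, I.FG → I ≠ ⊤ → I.annihilator ≠ ⊥)
    {N M : Type*} [AddCommGroup N] [Module R N] [Module.Finite R N] [Module.Projective R N]
    [AddCommGroup M] [Module R M] [Module.Finite R M] [Module.Projective R M]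
    (u : N →ₗ[R] M) (hu : Function.Injective u) :
    Module.Projective R (M ⧸ LinearMap.range u) := by
  obtain ⟨r, hr⟩ := exists_retraction_of_finite_projective hP u hu
  have hr' : ∀ z, r (u z) = z := fun z => LinearMap.congr_fun hr z
  have hker : LinearMap.range u ≤ LinearMap.ker (LinearMap.id - u ∘ₗ r) := by
    rintro _ ⟨z, rfl⟩
    rw [LinearMap.mem_ker]
    show u z - u (r (u z)) = 0
    rw [hr', sub_self]
  refine Module.Projective.of_split ((LinearMap.range u).liftQ (LinearMap.id - u ∘ₗ r) hker)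
    (LinearMap.range u).mkQ ?_
  apply Submodule.linearMap_qext
  refine LinearMap.ext fun y => ?_
  show (LinearMap.range u).mkQ ((LinearMap.range u).liftQ (LinearMap.id - u ∘ₗ r) hker
    ((LinearMap.range u).mkQ y)) = (LinearMap.range u).mkQ y
  have h5 : ((LinearMap.range u).liftQ (LinearMap.id - u ∘ₗ r) hker)
      ((LinearMap.range u).mkQ y) = y - u (r y) := Submodule.liftQ_apply _ _ y
  rw [h5, map_sub, sub_eq_self, Submodule.mkQ_apply, Submodule.Quotient.mk_eq_zero]
  exact LinearMap.mem_range_self _ _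

end Groth.Agent.Lib.McCoy
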