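import Mathlib
import Groth.Agent.Lib.McCoyRetract_lead

/-!
# Under property (P), injective maps of projective modules are universally injective
-/

namespace Groth.Agent.Lib.McCoy

open CAlgX Matrix TensorProduct

universe u

variable {R : Type u} [CommRing R]

theorem exists_retraction' (hP : ∀ I : Ideal R, I.FG → I ≠ ⊤ → I.annihilator ≠ ⊥)
    {ι₁ ι₂ : Type*} [Fintype ι₁] [Fintype ι₂]
    (w : (ι₁ → R) →ₗ[R] (ι₂ → R)) (hw : Function.Injective w) :
    ∃ ρ : (ι₂ → R) →ₗ[R] (ι₁ → R), ρ ∘ₗ w = LinearMap.id := by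
  classical
  let e₁ := LinearEquiv.funCongrLeft R R (Fintype.equivFin ι₁)
  let e₂ := LinearEquiv.funCongrLeft R R (Fintype.equivFin ι₂)
  obtain ⟨ρ', hρ'⟩ := exists_retraction hP (e₂.symm.toLinearMap ∘ₗ w ∘ₗ e₁.toLinearMap)
    (e₂.symm.injective.comp (hw.comp e₁.injective))
  have hρ'' : ∀ y, ρ' (e₂.symm (w (e₁ y))) = y := fun y => LinearMap.congr_fun hρ' y
  refine ⟨e₁.toLinearMap ∘ₗ ρ' ∘ₗ e₂.symm.toLinearMap, LinearMap.ext fun x => ?_⟩
  show e₁ (ρ' (e₂.symm (w x))) = x
  have hx : x = e₁ (e₁.symm x) := (e₁.apply_symm_apply x).symm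
  conv_lhs => rw [hx]
  rw [hρ'', e₁.apply_symm_apply]

theorem rTensor_injective_of_injective_finsupp
    (hP : ∀ I : Ideal R, I.FG → I ≠ ⊤ → I.annihilator ≠ ⊥) {α κ : Type*}
    (w : (α →₀ R) →ₗ[R] (κ →₀ R)) (hw : Function.Injective w)
    (Q : Type*) [AddCommGroup Q] [Module R Q] : Function.Injective (w.rTensor Q) := by
  classical
  rw [injective_iff_map_eq_zero]
  intro t ht
  obtain ⟨t', ht'⟩ : ∃ t', t' = TensorProduct.finsuppScalarLeft R Q α t := ⟨_, rfl⟩
  obtain ⟨S, hS⟩ : ∃ S : Finset α, S = t'.support := ⟨_, rfl⟩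
  have htsum : t = ∑ s : S, (Finsupp.single s.1 (1 : R)) ⊗ₜ[R] (t' s.1) := by
    have h1 : t = (TensorProduct.finsuppScalarLeft R Q α).symm t' := by
      rw [ht', LinearEquiv.symm_apply_apply]
    rw [h1]
    conv_lhs => rw [← Finsupp.sum_single t']
    rw [Finsupp.sum, map_sum, ← hS, ← Finset.sum_coe_sort]
    refine Finset.sum_congr rfl fun s _ => ?_
    exact TensorProduct.finsuppScalarLeft_symm_apply_single s.1 (t' s.1)
  obtain ⟨φ, hφdef⟩ : ∃ φ : (S → R) →ₗ[R] (α →₀ R),
      φ = Fintype.linearCombination R (fun s : S => Finsupp.single s.1 (1 : R)) := ⟨_, rfl⟩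
  have hφ : ∀ c : S → R, φ c = ∑ s : S, c s • Finsupp.single s.1 (1 : R) := by
    intro c
    rw [hφdef, Fintype.linearCombination_apply]
  have hφsingle : ∀ s : S, φ (Pi.single s 1) = Finsupp.single s.1 1 := by
    intro s
    rw [hφ, Finset.sum_eq_single s]
    · simp
    · intro b _ hb
      simp [Pi.single_apply, hb]
    · intro h
      exact absurd (Finset.mem_univ s) h
  have hφinj : Function.Injective φ := by
    rw [injective_iff_map_eq_zero]
    intro c hc
    rw [hφ] at hc
    funext s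
    have h2 := DFunLike.congr_fun hc s.1
    rw [Finsupp.finset_sum_apply] at h2
    simp only [Finsupp.smul_apply, Finsupp.single_apply, smul_eq_mul, mul_ite, mul_one,
      mul_zero, Finsupp.coe_zero, Pi.zero_apply] at h2
    rw [Finset.sum_eq_single s] at h2
    · simpa using h2
    · intro b _ hb
      rw [if_neg]
      intro h
      exact hb (Subtype.ext h)
    · intro h
      exact absurd (Finset.mem_univ s) h
  obtain ⟨T, hT⟩ : ∃ T : Finset κ, T = Finset.univ.biUnion
      (fun s : S => (w (Finsupp.single s.1 (1 : R))).support) := ⟨_, rfl⟩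
  obtain ⟨ψ, hψdef⟩ : ∃ ψ : (κ →₀ R) →ₗ[R] (T → R),
      ψ = LinearMap.funLeft R R (Subtype.val : T → κ) ∘ₗ Finsupp.lcoeFun := ⟨_, rfl⟩
  have hψ : ∀ (g : κ →₀ R) (k : T), ψ g k = g k.1 := by
    intro g k
    rw [hψdef]
    rfl
  have hsupp : ∀ c : S → R, ∀ k : κ, k ∉ T → (w (φ c)) k = 0 := by
    intro c k hk
    rw [hφ, map_sum, Finsupp.finset_sum_apply]
    refine Finset.sum_eq_zero fun s _ => ?_
    rw [map_smul, Finsupp.smul_apply]
    have h3 : (w (Finsupp.single s.1 (1 : R))) k = 0 := by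
      by_contra hne
      apply hk
      rw [hT]
      exact Finset.mem_biUnion.2 ⟨s, Finset.mem_univ _, Finsupp.mem_support_iff.2 hne⟩
    rw [h3, smul_zero]
  have hw₀ : Function.Injective (ψ ∘ₗ w ∘ₗ φ) := by
    rw [injective_iff_map_eq_zero]
    intro c hc
    apply hφinj
    rw [map_zero]
    apply hw
    rw [map_zero]
    ext k
    by_cases hk : k ∈ T
    · have h4 := congrFun hc ⟨k, hk⟩
      rw [LinearMap.comp_apply, LinearMap.comp_apply, hψ] at h4
      exact h4
    · exact hsupp c k hk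
  obtain ⟨ρ, hρ⟩ := exists_retraction' hP _ hw₀
  obtain ⟨t₀, ht₀def⟩ : ∃ t₀ : (S → R) ⊗[R] Q,
      t₀ = ∑ s : S, (Pi.single s (1 : R)) ⊗ₜ[R] (t' s.1) := ⟨_, rfl⟩
  have ht₀ : (φ.rTensor Q) t₀ = t := by
    rw [htsum, ht₀def, map_sum]
    refine Finset.sum_congr rfl fun s _ => ?_
    rw [LinearMap.rTensor_tmul, hφsingle]
  have h1 : ((ρ ∘ₗ ψ) ∘ₗ (w ∘ₗ φ)).rTensor Q = LinearMap.id := by
    have h5 : (ρ ∘ₗ ψ) ∘ₗ (w ∘ₗ φ) = LinearMap.id := by
      rw [LinearMap.comp_assoc]
      exact hρ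
    rw [h5, LinearMap.rTensor_id]
  have h6 := LinearMap.congr_fun h1 t₀
  simp only [LinearMap.rTensor_comp, LinearMap.comp_apply, LinearMap.id_apply] at h6
  rw [ht₀, ht, map_zero, map_zero] at h6
  rw [← ht₀, ← h6, map_zero]

theorem rTensor_injective_of_projective
    (hP : ∀ I : Ideal R, I.FG → I ≠ ⊤ → I.annihilator ≠ ⊥)
    {N M : Type*} [AddCommGroup N] [Module R N] [hN : Module.Projective R N]
    [AddCommGroup M] [Module R M] [hM : Module.Projective R M]
    (u : N →ₗ[R] M) (hu : Function.Injective u)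
    (Q : Type*) [AddCommGroup Q] [Module R Q] : Function.Injective (u.rTensor Q) := by
  obtain ⟨iN, hiN⟩ := Module.projective_def'.1 hN
  obtain ⟨iM, hiM⟩ := Module.projective_def'.1 hM
  have hiN' : ∀ z, Finsupp.linearCombination R (id : N → N) (iN z) = z :=
    fun z => LinearMap.congr_fun hiN z
  have hiM' : ∀ z, Finsupp.linearCombination R (id : M → M) (iM z) = z :=
    fun z => LinearMap.congr_fun hiM z
  have hiMinj : Function.Injective iM := fun a b h => by
    have := congrArg (Finsupp.linearCombination R (id : M → M)) h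
    rwa [hiM', hiM'] at this
  let e := Finsupp.sumFinsuppLEquivProdFinsupp (M := R) R (α := M) (β := N)
  let w0 : (N →₀ R) →ₗ[R] ((M →₀ R) × (N →₀ R)) :=
    (iM ∘ₗ u ∘ₗ Finsupp.linearCombination R (id : N → N)).prod
      (LinearMap.id - iN ∘ₗ Finsupp.linearCombination R (id : N → N))
  have hw0 : Function.Injective w0 := by
    rw [injective_iff_map_eq_zero]
    intro x hx
    have h1 : iM (u (Finsupp.linearCombination R (id : N → N) x)) = 0 := congrArg Prod.fst hx
    have h2 : x - iN (Finsupp.linearCombination R (id : N → N) x) = 0 := congrArg Prod.snd hx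
    have h3 : Finsupp.linearCombination R (id : N → N) x = 0 := by
      apply hu
      rw [map_zero]
      apply hiMinj
      rw [map_zero]
      exact h1
    rw [h3, map_zero, sub_zero] at h2
    exact h2
  have hwQ := rTensor_injective_of_injective_finsupp hP (e.symm.toLinearMap ∘ₗ w0)
    (e.symm.injective.comp hw0) Q
  have hiNQ : Function.Injective (iN.rTensor Q) := by
    apply Function.LeftInverse.injective
      (g := (Finsupp.linearCombination R (id : N → N)).rTensor Q)
    intro x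
    rw [← LinearMap.comp_apply, ← LinearMap.rTensor_comp, hiN, LinearMap.rTensor_id,
      LinearMap.id_apply]
  rw [injective_iff_map_eq_zero]
  intro t ht
  apply hiNQ
  rw [map_zero]
  apply hwQ
  rw [map_zero]
  have hcomp : (e.symm.toLinearMap ∘ₗ w0) ∘ₗ iN =
      (e.symm.toLinearMap ∘ₗ LinearMap.inl R (M →₀ R) (N →₀ R) ∘ₗ iM) ∘ₗ u := by
    refine LinearMap.ext fun z => ?_
    show e.symm (w0 (iN z)) = e.symm (iM (u z), 0)
    congr 1
    show (iM (u (Finsupp.linearCombination R (id : N → N) (iN z))),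
      iN z - iN (Finsupp.linearCombination R (id : N → N) (iN z))) = _
    rw [hiN', sub_self]
  rw [← LinearMap.comp_apply, ← LinearMap.rTensor_comp, hcomp, LinearMap.rTensor_comp,
    LinearMap.comp_apply, ht, map_zero]

end Groth.Agent.Lib.McCoy
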