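import Mathlib
import Groth.Agent.Lib.CAlgMisc8_helper1

/-!
# McCoy's theorem for modules and Hom(M,N) ≠ 0 (helper1)
-/

namespace Groth.Agent.Lib.McCoyH1

open Groth.Agent.Lib

universe u v

/-- McCoy: if a nonzero `y : N` is killed by all `n × n` minors of an `r × n` matrix `a`,
then the homogeneous system `a z = 0` has a nonzero solution in `N^n`. -/
theorem mccoy {A : Type*} [CommRing A] {N : Type*} [AddCommGroup N] [Module A N] {r n : ℕ}
    (a : Matrix (Fin r) (Fin n) A) (y : N) (hy : y ≠ 0)
    (hJ : ∀ (f : Fin n → Fin r) (g : Fin n → Fin n), (a.submatrix f g).det • y = 0) :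
    ∃ z : Fin n → N, z ≠ 0 ∧ ∀ i, ∑ j, a i j • z j = 0 := by
  classical
  let P : ℕ → Prop := fun t => ∃ (f : Fin t → Fin r) (g : Fin t → Fin n),
    (a.submatrix f g).det • y ≠ 0
  have hP0 : P 0 := ⟨Fin.elim0, Fin.elim0, by simpa using hy⟩
  have hPn : ¬ P n := by
    rintro ⟨f, g, h⟩
    exact h (hJ f g)
  have hex : ∃ t, ¬ P t := ⟨n, hPn⟩
  obtain ⟨t, ht, hPt, hPt1⟩ : ∃ t, t < n ∧ P t ∧ ¬ P (t + 1) := by
    have h0 : Nat.find hex ≠ 0 := by
      intro h0
      have := Nat.find_spec hex
      rw [h0] at this
      exact this hP0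
    obtain ⟨t, htt⟩ := Nat.exists_eq_succ_of_ne_zero h0
    refine ⟨t, ?_, ?_, ?_⟩
    · have := Nat.find_min' hex hPn
      omega
    · have := Nat.find_min hex (m := t) (by omega)
      exact not_not.mp this
    · have := Nat.find_spec hex
      rw [htt] at this
      exact this
  obtain ⟨f, g, hD⟩ := hPt
  obtain ⟨j₀, hj₀⟩ : ∃ j₀, ∀ s, g s ≠ j₀ := by
    by_contra hcon
    push Not at hcon
    have hs : Function.Surjective g := hcon
    have := Fintype.card_le_of_surjective g hs
    simp at this
    omega
  let g' : Fin (t + 1) → Fin n := Fin.cons j₀ g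
  let c : Fin (t + 1) → A := fun s => (-1) ^ (s : ℕ) * (a.submatrix f (g' ∘ s.succAbove)).det
  let z : Fin n → N := fun j => ∑ s, if g' s = j then c s • y else 0
  have hrow : ∀ i, ∑ j, a i j • z j = (a.submatrix (Fin.cons i f) g').det • y := by
    intro i
    rw [Matrix.det_succ_row_zero, Finset.sum_smul]
    simp only [z, Finset.smul_sum]
    rw [Finset.sum_comm]
    refine Finset.sum_congr rfl fun s _ => ?_
    rw [Finset.sum_eq_single (g' s)]
    · rw [if_pos rfl, smul_smul]
      congr 1
      simp only [c, Matrix.submatrix_apply, Fin.cons_zero]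
      have : (a.submatrix (Fin.cons i f : Fin (t + 1) → Fin r) g').submatrix Fin.succ s.succAbove =
          a.submatrix f (g' ∘ s.succAbove) := by
        ext k l
        simp [Matrix.submatrix_apply]
      rw [this]
      ring
    · intro j _ hj
      rw [if_neg (Ne.symm hj), smul_zero]
    · intro h
      exact absurd (Finset.mem_univ _) h
  refine ⟨z, ?_, ?_⟩
  · intro hz
    have hz0 : z j₀ = 0 := by rw [hz]; rfl
    apply hD
    rw [← hz0]
    simp only [z]
    rw [Fin.sum_univ_succ]
    have h1 : ∀ s' : Fin t, (if g' s'.succ = j₀ then c s'.succ • y else 0) = 0 := by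
      intro s'
      rw [if_neg]
      simpa [g'] using hj₀ s'
    simp only [h1, Finset.sum_const_zero, add_zero]
    rw [if_pos (by simp [g'])]
    simp only [c]
    have : g' ∘ (0 : Fin (t + 1)).succAbove = g := by
      ext k
      simp [g', Fin.succAbove_zero]
    rw [this]
    simp
  · intro i
    rw [hrow i]
    by_contra hne
    exact hPt1 ⟨Fin.cons i f, g', hne⟩

/-- `Hom(M,N) ≠ 0` for `M` finitely presented, `N ≠ 0`, `Supp N ⊆ Supp M`. -/
theorem nontrivial_hom (A : Type u) [CommRing A] (M : Type v) [AddCommGroup M] [Module A M]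
    [Module.FinitePresentation A M] (N : Type v) [AddCommGroup N] [Module A N] [Nontrivial N]
    (h : Module.support A N ⊆ Module.support A M) : Nontrivial (M →ₗ[A] N) := by
  classical
  obtain ⟨n, r, π, g, hπ, hex⟩ := Module.FinitePresentation.exists_fin' A M
  let a : Matrix (Fin r) (Fin n) A := Matrix.of fun i j => g (Pi.single i 1) j
  have hsum : ∀ v : Fin n → A, π v = ∑ j, v j • π (Pi.single j 1) := by
    intro v
    conv_lhs => rw [← Finset.univ_sum_single v]
    rw [map_sum]
    refine Finset.sum_congr rfl fun j _ => ?_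
    rw [← map_smul]
    congr 1
    ext k
    simp [Pi.single_apply]
  have hrel : ∀ i : Fin r, ∑ j, a i j • π (Pi.single j 1) = 0 := by
    intro i
    have := hsum (g (Pi.single i 1))
    rw [hex.apply_apply_eq_zero] at this
    exact this.symm
  let J : Ideal A := Ideal.span
    (Set.range fun q : (Fin n → Fin r) × (Fin n → Fin n) => (a.submatrix q.1 q.2).det)
  have hJfg : J.FG := Submodule.fg_span (Set.finite_range _)
  have hJann : J ≤ Module.annihilator A M := by
    refine Ideal.span_le.mpr ?_
    rintro d ⟨⟨f, σ⟩, rfl⟩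
    show (a.submatrix f σ).det ∈ Module.annihilator A M
    rw [Module.mem_annihilator]
    have key : ∀ j, (a.submatrix f σ).det • π (Pi.single j 1) = 0 := by
      intro j
      by_cases hσ : Function.Injective σ
      · have hsurj : Function.Surjective σ := Finite.surjective_of_injective hσ
        obtain ⟨l, rfl⟩ := hsurj j
        rw [CAlgMisc8H1.det_smul_eq_sum_adj (a.submatrix f σ) (fun l => π (Pi.single (σ l) 1)) l]
        refine Finset.sum_eq_zero fun i _ => ?_
        have : ∑ l', (a.submatrix f σ) i l' • π (Pi.single (σ l') 1) = 0 := by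
          have h2 := Equiv.sum_comp (Equiv.ofBijective σ ⟨hσ, hsurj⟩)
            (fun j => a (f i) j • π (Pi.single j 1))
          exact h2.trans (hrel (f i))
        rw [this, smul_zero]
      · rw [Function.not_injective_iff] at hσ
        obtain ⟨l, l', hll, hne⟩ := hσ
        rw [Matrix.det_zero_of_column_eq hne, zero_smul]
        intro k
        simp [Matrix.submatrix_apply, hll]
    intro m
    obtain ⟨v, rfl⟩ := hπ m
    rw [hsum v, Finset.smul_sum]
    refine Finset.sum_eq_zero fun j _ => ?_
    rw [smul_comm, key j, smul_zero]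
  obtain ⟨x, hx⟩ := exists_ne (0 : N)
  have hrad : J ≤ ((Submodule.span A {x}).annihilator).radical := by
    rw [Ideal.radical_eq_sInf]
    refine le_sInf ?_
    rintro p ⟨hp1, hp2⟩
    have hpN : (⟨p, hp2⟩ : PrimeSpectrum A) ∈ Module.support A N :=
      Module.mem_support_iff_exists_annihilator.mpr ⟨x, hp1⟩
    exact hJann.trans (Module.annihilator_le_of_mem_support (h hpN))
  have hexm := Ideal.exists_pow_le_of_le_radical_of_fg hrad hJfg
  have hm0 : Nat.find hexm ≠ 0 := by
    intro h0
    have := Nat.find_spec hexm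
    rw [h0, pow_zero] at this
    have h1 : (1 : A) ∈ (Submodule.span A {x}).annihilator := this (by simp)
    rw [Submodule.mem_annihilator_span_singleton, one_smul] at h1
    exact hx h1
  obtain ⟨m, hm⟩ := Nat.exists_eq_succ_of_ne_zero hm0
  have hm1 : ¬ (J ^ m ≤ (Submodule.span A {x}).annihilator) :=
    Nat.find_min hexm (m := m) (by omega)
  have hm2 : J ^ (m + 1) ≤ (Submodule.span A {x}).annihilator := by
    have := Nat.find_spec hexm
    rwa [hm] at this
  obtain ⟨b, hbJ, hbx⟩ := SetLike.not_le_iff_exists.mp hm1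
  rw [Submodule.mem_annihilator_span_singleton] at hbx
  have hJy : ∀ d ∈ J, d • (b • x) = 0 := by
    intro d hd
    rw [smul_smul, ← Submodule.mem_annihilator_span_singleton]
    apply hm2
    rw [pow_succ']
    exact Ideal.mul_mem_mul hd hbJ
  obtain ⟨z, hz, hzrow⟩ := mccoy a (b • x) hbx
    (fun f σ => hJy _ (Ideal.subset_span ⟨(f, σ), rfl⟩))
  let G : (Fin n → A) →ₗ[A] N := Fintype.linearCombination A z
  have hGg : ∀ w, G (g w) = 0 := by
    have : G ∘ₗ g = 0 := by
      apply LinearMap.pi_ext'
      intro i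
      ext
      simp only [LinearMap.coe_comp, LinearMap.coe_single, Function.comp_apply, LinearMap.zero_comp,
        LinearMap.zero_apply, G, Fintype.linearCombination_apply]
      exact hzrow i
    intro w
    exact congrArg (fun F => F w) this
  have hker : LinearMap.ker π ≤ LinearMap.ker G := by
    intro v hv
    obtain ⟨w, rfl⟩ := (hex v).mp hv
    exact hGg w
  let φ : M →ₗ[A] N := (LinearMap.ker π).liftQ G hker ∘ₗ
    (π.quotKerEquivOfSurjective hπ).symm.toLinearMap
  have hφ : ∀ v, φ (π v) = G v := by
    intro v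
    have : (π.quotKerEquivOfSurjective hπ).symm (π v) = Submodule.Quotient.mk v := by
      rw [LinearEquiv.symm_apply_eq]
      rfl
    simp [φ, this]
  obtain ⟨j, hj⟩ := Function.ne_iff.mp hz
  refine ⟨⟨φ, 0, fun hφ0 => hj ?_⟩⟩
  have := hφ (Pi.single j 1)
  rw [hφ0] at this
  simp only [LinearMap.zero_apply, G, Fintype.linearCombination_apply_single, one_smul] at this
  simpa using this.symm

end Groth.Agent.Lib.McCoyH1
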