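import Mathlib
import Groth.Agent.Lib.Mero_helper4
import Groth.Agent.Lib.WeakAssSch3_helper4

/-!
# The sheaf of meromorphic functions, part 2 (helper4)

Schemes whose weakly associated points are generic points and whose quasi-compact opens have
finitely many irreducible components: `S_x` is the set of all nonzerodivisors and `K_X(U)` is the
total ring of fractions of `O_X(U)` for `U` affine.
-/

set_option autoImplicit false
universe u

namespace Groth.Agent.Lib.Mero2_helper4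

open AlgebraicGeometry CategoryTheory TopologicalSpace Opposite FlatCA
open Groth.Agent.Lib.WeakAss_helper4 Groth.Agent.Lib.QCohLoc_helper4
open Groth.Agent.Lib.WeakAssSch_helper4 Groth.Agent.Lib.WeakAssSch2_helper4
open Groth.Agent.Lib.WeakAssSch3_helper4 Groth.Agent.Lib.Mero_helper4

section Topology

theorem finite_irreducibleComponents_of_homeomorph {α β : Type*} [TopologicalSpace α]
    [TopologicalSpace β] (e : α ≃ₜ β) (h : (irreducibleComponents α).Finite) :
    (irreducibleComponents β).Finite := by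
  refine Set.Finite.of_injOn (f := fun s : Set β => e ⁻¹' s) ?_ ?_ h
  · intro s hs
    refine ⟨?_, ?_⟩
    · have h1 : e ⁻¹' s = e.symm '' s := (e.symm.image_eq_preimage_symm s).symm
      show IsIrreducible (e ⁻¹' s)
      rw [h1]
      exact hs.1.image _ e.symm.continuous.continuousOn
    · intro t ht hle
      have h1 : s ⊆ e '' t := by
        intro y hy
        refine ⟨e.symm y, hle ?_, e.apply_symm_apply y⟩
        show e (e.symm y) ∈ s
        rw [e.apply_symm_apply]; exact hy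
      have h2 := hs.2 (ht.image _ e.continuous.continuousOn) h1
      intro x hx
      exact h2 ⟨x, hx, rfl⟩
  · intro s _ s' _ hss'
    exact e.surjective.preimage_injective hss'

end Topology

section Affine

variable {X : Scheme.{u}}

theorem finite_minimalPrimes_of_affine {U : X.Opens} (hU : IsAffineOpen U)
    (h : (irreducibleComponents ↥(U : Scheme.{u})).Finite) : (minimalPrimes Γ(X, U)).Finite := by
  have h1 : (irreducibleComponents (PrimeSpectrum Γ(X, U))).Finite :=
    finite_irreducibleComponents_of_homeomorph (Scheme.homeoOfIso hU.isoSpec) h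
  rw [← PrimeSpectrum.vanishingIdeal_irreducibleComponents]
  exact h1.image _

theorem mem_minimalPrimes_of_mem_weakAss
    (ha : ∀ x : ↥X, Curv2.IsWeakAssPoint (Coh.structureModule X) x → ∀ y : ↥X, y ⤳ x → y = x)
    {U : X.Opens} (hU : IsAffineOpen U) {p : Ideal Γ(X, U)}
    (hp : p ∈ weakAss Γ(X, U) Γ(X, U)) : p ∈ minimalPrimes Γ(X, U) := by
  have hpp := isPrime_of_mem_weakAss hp
  obtain ⟨x, hx, hxp⟩ := exists_point_of_prime hU ⟨p, hpp⟩
  have hwa : Curv2.IsWeakAssPoint (Coh.structureModule X) x := by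
    rw [isWeakAssPoint_structureModule_iff hU hx, hxp]; exact hp
  have hgen := ha x hwa
  show p ∈ (⊥ : Ideal Γ(X, U)).minimalPrimes
  refine ⟨⟨hpp, bot_le⟩, fun q hq hqp => ?_⟩
  obtain ⟨y, hy, hyq⟩ := exists_point_of_prime hU ⟨q, hq.1⟩
  have hspec : y ⤳ x := (specializes_iff_primeIdealOf_le hU hx hy).mpr (by
    rw [hyq, hxp]; exact hqp)
  have hyx := hgen y hspec
  subst hyx
  have h1 : (⟨q, hq.1⟩ : PrimeSpectrum Γ(X, U)) = ⟨p, hpp⟩ := hyq.symm.trans hxp
  exact (congrArg PrimeSpectrum.asIdeal h1).ge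

theorem exists_weakAss_le_of_not_nzd {U : X.Opens} (hU : IsAffineOpen U) {x : X} (hx : x ∈ U)
    (a : Γ(X, U))
    (h : X.presheaf.germ U x hx a ∉ nonZeroDivisors (X.presheaf.stalk x)) :
    ∃ q ∈ weakAss Γ(X, U) Γ(X, U), a ∈ q ∧ q ≤ (hU.primeIdealOf ⟨x, hx⟩).asIdeal := by
  rw [mem_nonZeroDivisors_iff_right] at h
  push_neg at h
  obtain ⟨β, hβ, hβ0⟩ := h
  letI := TopCat.Presheaf.algebra_section_stalk X.presheaf (⟨x, hx⟩ : U)
  haveI := hU.isLocalization_stalk ⟨x, hx⟩
  have hβ' : β * algebraMap Γ(X, U) (X.presheaf.stalk x) a = 0 := hβ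
  obtain ⟨⟨b, s⟩, hbs⟩ := IsLocalization.surj (hU.primeIdealOf ⟨x, hx⟩).asIdeal.primeCompl β
  have hbs' : β * algebraMap Γ(X, U) (X.presheaf.stalk x) (s : Γ(X, U)) =
      algebraMap Γ(X, U) (X.presheaf.stalk x) b := hbs
  have hb0 : algebraMap Γ(X, U) (X.presheaf.stalk x) b ≠ 0 := by
    intro h0
    rw [h0] at hbs'
    exact hβ0 ((IsLocalization.map_units (X.presheaf.stalk x) s).mul_left_eq_zero.mp hbs')
  have hab : algebraMap Γ(X, U) (X.presheaf.stalk x) (a * b) = 0 := by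
    rw [map_mul, ← hbs']
    calc algebraMap Γ(X, U) (X.presheaf.stalk x) a *
          (β * algebraMap Γ(X, U) (X.presheaf.stalk x) (s : Γ(X, U)))
        = (β * algebraMap Γ(X, U) (X.presheaf.stalk x) a) *
          algebraMap Γ(X, U) (X.presheaf.stalk x) (s : Γ(X, U)) := by ring
      _ = 0 := by rw [hβ', zero_mul]
  obtain ⟨⟨t, ht⟩, htab⟩ := (IsLocalization.map_eq_zero_iff
    (hU.primeIdealOf ⟨x, hx⟩).asIdeal.primeCompl (X.presheaf.stalk x) (a * b)).mp hab
  have htab' : t * (a * b) = 0 := htab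
  have hann : ann Γ(X, U) (t * b) ≤ (hU.primeIdealOf ⟨x, hx⟩).asIdeal := by
    intro u hu
    rw [mem_ann, smul_eq_mul] at hu
    by_contra hup
    apply hb0
    rw [IsLocalization.map_eq_zero_iff (hU.primeIdealOf ⟨x, hx⟩).asIdeal.primeCompl]
    exact ⟨⟨u * t, (hU.primeIdealOf ⟨x, hx⟩).asIdeal.primeCompl.mul_mem hup ht⟩, by
      show u * t * b = 0
      rw [← hu]; ring⟩
  obtain ⟨q, hq, hle1, hle2⟩ := exists_mem_weakAss_le hann
  refine ⟨q, hq, hle1 ?_, hle2⟩
  rw [mem_ann, smul_eq_mul]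
  calc a * (t * b) = t * (a * b) := by ring
    _ = 0 := htab'

end Affine

section Local

variable {X : Scheme.{u}}

/-- Local form of the denominator construction: around a point `x` of an affine open `U`, every
section of `K_X` over `U` has a denominator `g ^ k * b'` with `g` invertible at `x` and `b'`
regular at `x`. -/
theorem exists_mem_denom_local {U : X.Opens} (hU : IsAffineOpen U) (z : Γ(Mero.kmod X, U))
    {x : X} (hx : x ∈ U) :
    ∃ (g b' : Γ(X, U)) (k : ℕ), g ^ k * b' ∈ denom z ∧ x ∈ X.basicOpen g ∧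
      X.presheaf.germ U x hx b' ∈ nonZeroDivisors (X.presheaf.stalk x) := by
  obtain ⟨V, hxV, i, a, b, hab⟩ := z.2 ⟨x, hx⟩
  obtain ⟨g, hgV, hxg⟩ := hU.exists_basicOpen_le (⟨x, hxV⟩ : V) hx
  have hWU : X.basicOpen g ≤ U := X.basicOpen_le g
  have hloc := hU.isLocalization_basicOpen g
  obtain ⟨⟨a', ⟨_, n, rfl⟩⟩, ha'⟩ := IsLocalization.surj (Submonoid.powers g)
    (X.presheaf.map (homOfLE hgV).op a : Γ(X, X.basicOpen g))
  obtain ⟨⟨b', ⟨_, m, rfl⟩⟩, hb'⟩ := IsLocalization.surj (Submonoid.powers g)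
    (X.presheaf.map (homOfLE hgV).op b.1 : Γ(X, X.basicOpen g))
  have ha'' : X.presheaf.map (homOfLE hgV).op a * X.presheaf.map (homOfLE hWU).op (g ^ n) =
      X.presheaf.map (homOfLE hWU).op a' := ha'
  have hb'' : X.presheaf.map (homOfLE hgV).op b.1 * X.presheaf.map (homOfLE hWU).op (g ^ m) =
      X.presheaf.map (homOfLE hWU).op b' := hb'
  have e1 : ∀ (y : X) (hyU : y ∈ U) (hy : y ∈ X.basicOpen g),
      X.presheaf.germ V y (hgV hy) a * X.presheaf.germ U y hyU g ^ n =
        X.presheaf.germ U y hyU a' := by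
    intro y hyU hy
    have h1 : X.presheaf.germ (X.basicOpen g) y hy
        (X.presheaf.map (homOfLE hgV).op a * X.presheaf.map (homOfLE hWU).op (g ^ n)) =
        X.presheaf.germ (X.basicOpen g) y hy (X.presheaf.map (homOfLE hWU).op a') := by
      rw [ha'']
    rw [map_mul, TopCat.Presheaf.germ_res_apply, TopCat.Presheaf.germ_res_apply,
      TopCat.Presheaf.germ_res_apply, map_pow] at h1
    exact h1
  have e2 : ∀ (y : X) (hyU : y ∈ U) (hy : y ∈ X.basicOpen g),
      X.presheaf.germ V y (hgV hy) b.1 * X.presheaf.germ U y hyU g ^ m =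
        X.presheaf.germ U y hyU b' := by
    intro y hyU hy
    have h1 : X.presheaf.germ (X.basicOpen g) y hy
        (X.presheaf.map (homOfLE hgV).op b.1 * X.presheaf.map (homOfLE hWU).op (g ^ m)) =
        X.presheaf.germ (X.basicOpen g) y hy (X.presheaf.map (homOfLE hWU).op b') := by
      rw [hb'']
    rw [map_mul, TopCat.Presheaf.germ_res_apply, TopCat.Presheaf.germ_res_apply,
      TopCat.Presheaf.germ_res_apply, map_pow] at h1
    exact h1
  have hzero : ∀ (y : X) (hyU : y ∈ U), y ∈ X.basicOpen g →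
      (Mero.toK X U (b' * g ^ n) * z - Mero.toK X U (a' * g ^ m)).1 ⟨y, hyU⟩ = 0 := by
    intro y hyU hy
    have hyV : y ∈ V := hgV hy
    have hz : z.1 ⟨y, hyU⟩ = LocalizedModule.mk (X.presheaf.germ V y hyV a)
        (Mero.regGerm ⟨y, hyV⟩ b) := hab ⟨y, hyV⟩
    show Mero.evalK X U ⟨y, hyU⟩
      (Mero.toK X U (b' * g ^ n) * z - Mero.toK X U (a' * g ^ m)) = 0
    rw [map_sub, map_mul, sub_eq_zero]
    show (LocalizedModule.mk (X.presheaf.germ U y hyU (b' * g ^ n)) 1 : Mero.KStalk X y) *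
      z.1 ⟨y, hyU⟩ = LocalizedModule.mk (X.presheaf.germ U y hyU (a' * g ^ m)) 1
    have e3 : X.presheaf.germ U y hyU (b' * g ^ n) =
        X.presheaf.germ V y hyV b.1 * X.presheaf.germ U y hyU g ^ m *
          X.presheaf.germ U y hyU g ^ n := by
      rw [map_mul, map_pow, ← e2 y hyU hy]
    have e4 : X.presheaf.germ U y hyU (a' * g ^ m) =
        X.presheaf.germ V y hyV a * X.presheaf.germ U y hyU g ^ n *
          X.presheaf.germ U y hyU g ^ m := by
      rw [map_mul, map_pow, ← e1 y hyU hy]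
    rw [hz, mk_one_eq_algebraMap, mk_one_eq_algebraMap, mk_eq_mk', e3, e4]
    exact frac_identity (Mero.regStalk X y) (Mero.KStalk X y) _ _ (Mero.regGerm ⟨y, hyV⟩ b) m n
  obtain ⟨N, hN⟩ := exists_pow_mul_eq_zero_of_isCompact hU.isCompact g _ hzero
  have hmem : g ^ N * (b' * g ^ n) ∈ denom z := by
    rw [mem_denom]
    refine ⟨g ^ N * (a' * g ^ m), ?_⟩
    have h2 := hN
    simp only [map_mul, map_pow] at h2 ⊢
    linear_combination h2
  have hnzd : X.presheaf.germ U x hx b' ∈ nonZeroDivisors (X.presheaf.stalk x) := by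
    rw [← e2 x hx hxg]
    exact Submonoid.mul_mem _ (b.2 ⟨x, hxV⟩)
      (Submonoid.pow_mem _ ((Scheme.mem_basicOpen X g x hx).mp hxg).mem_nonZeroDivisors m)
  refine ⟨g, b', N + n, ?_, hxg, hnzd⟩
  have h3 : g ^ (N + n) * b' = g ^ N * (b' * g ^ n) := by ring
  rw [h3]; exact hmem

end Local

section Generic

variable {X : Scheme.{u}}
  (ha : ∀ x : ↥X, Curv2.IsWeakAssPoint (Coh.structureModule X) x → ∀ y : ↥X, y ⤳ x → y = x)
  (hb : ∀ U : X.Opens, IsCompact (U : Set ↥X) →
    (irreducibleComponents ↥(U : Scheme.{u})).Finite)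

include ha hb in
theorem regStalk_eq_nonZeroDivisors (x : X) :
    Mero.regStalk X x = nonZeroDivisors ↑(X.presheaf.stalk x) := by
  classical
  apply le_antisymm (Mero.regStalk_le_nonZeroDivisors x)
  intro γ hγ
  obtain ⟨U, hU, hxU, -⟩ := (Opens.isBasis_iff_nbhd.mp X.isBasis_affineOpens)
    (show x ∈ (⊤ : X.Opens) from trivial)
  have hfin : (minimalPrimes Γ(X, U)).Finite :=
    finite_minimalPrimes_of_affine hU (hb U hU.isCompact)
  letI := TopCat.Presheaf.algebra_section_stalk X.presheaf (⟨x, hxU⟩ : U)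
  haveI := hU.isLocalization_stalk ⟨x, hxU⟩
  obtain ⟨⟨a, s⟩, has⟩ := IsLocalization.surj (hU.primeIdealOf ⟨x, hxU⟩).asIdeal.primeCompl γ
  have has' : γ * X.presheaf.germ U x hxU (s : Γ(X, U)) = X.presheaf.germ U x hxU a := has
  have hs : (s : Γ(X, U)) ∉ (hU.primeIdealOf ⟨x, hxU⟩).asIdeal := s.2
  have hsunit : IsUnit (X.presheaf.germ U x hxU (s : Γ(X, U))) :=
    IsLocalization.map_units (X.presheaf.stalk x) s
  have hga : X.presheaf.germ U x hxU a ∈ nonZeroDivisors (X.presheaf.stalk x) := by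
    rw [← has']
    exact Submonoid.mul_mem _ hγ hsunit.mem_nonZeroDivisors
  have hq_le : ∀ q ∈ minimalPrimes Γ(X, U), q ≤ (hU.primeIdealOf ⟨x, hxU⟩).asIdeal → a ∉ q := by
    intro q hq hqp haq
    obtain ⟨u, hu, n, hun⟩ := exists_mul_pow_mem (I := ⊥) hq haq
    rw [Ideal.mem_bot] at hun
    have h1 : X.presheaf.germ U x hxU u = 0 := by
      apply (mem_nonZeroDivisors_iff_right.mp (pow_mem hga n))
      rw [← map_pow, ← map_mul, hun, map_zero]
    obtain ⟨⟨v, hv⟩, hvu⟩ := (IsLocalization.map_eq_zero_iff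
      (hU.primeIdealOf ⟨x, hxU⟩).asIdeal.primeCompl (X.presheaf.stalk x) u).mp h1
    have hvu' : v * u = 0 := hvu
    have hqprime : q.IsPrime := hq.1.1
    have h2 : v * u ∈ q := by rw [hvu']; exact q.zero_mem
    rcases hqprime.mem_or_mem h2 with h3 | h3
    · exact hv (hqp h3)
    · exact hu h3
  obtain ⟨F, hF⟩ : ∃ F : Finset (Ideal Γ(X, U)), ∀ q, q ∈ F ↔
      (q ∈ minimalPrimes Γ(X, U) ∧ ¬ q ≤ (hU.primeIdealOf ⟨x, hxU⟩).asIdeal) :=
    ⟨hfin.toFinset.filter (fun q => ¬ q ≤ (hU.primeIdealOf ⟨x, hxU⟩).asIdeal), fun q => by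
      rw [Finset.mem_filter, Set.Finite.mem_toFinset]⟩
  have hinf : ¬ F.inf id ≤ (hU.primeIdealOf ⟨x, hxU⟩).asIdeal := by
    intro hle
    obtain ⟨q, hqF, hqp⟩ := (Ideal.IsPrime.inf_le' (hU.primeIdealOf ⟨x, hxU⟩).isPrime).mp hle
    exact ((hF q).mp hqF).2 hqp
  obtain ⟨t, htF, htp⟩ := SetLike.not_le_iff_exists.mp hinf
  have hst : (s : Γ(X, U)) * t ∉ (hU.primeIdealOf ⟨x, hxU⟩).asIdeal := fun h =>
    ((hU.primeIdealOf ⟨x, hxU⟩).isPrime.mem_or_mem h).elim hs htp
  have hxW : x ∈ X.basicOpen ((s : Γ(X, U)) * t) := (notMem_primeIdealOf_iff hU hxU _).mp hst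
  have hWU : X.basicOpen ((s : Γ(X, U)) * t) ≤ U := X.basicOpen_le _
  have hu : IsUnit (X.presheaf.map (homOfLE hWU).op ((s : Γ(X, U)) * t)) :=
    X.toRingedSpace.isUnit_res_basicOpen ((s : Γ(X, U)) * t)
  have htunit : IsUnit (X.presheaf.map (homOfLE hWU).op t) := by
    have h1 := hu
    rw [map_mul] at h1
    exact isUnit_of_mul_isUnit_right h1
  have heunit : IsUnit (X.presheaf.map (homOfLE hWU).op t * ↑(hu.unit⁻¹)) :=
    htunit.mul (Units.isUnit _)
  -- the regular section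
  refine ⟨X.basicOpen ((s : Γ(X, U)) * t), hxW,
    X.presheaf.map (homOfLE hWU).op a * (X.presheaf.map (homOfLE hWU).op t * ↑(hu.unit⁻¹)),
    ?_, ?_⟩
  · intro y
    have hyU : y.1 ∈ U := hWU y.2
    show X.presheaf.germ _ y.1 y.2
      (X.presheaf.map (homOfLE hWU).op a * (X.presheaf.map (homOfLE hWU).op t * ↑(hu.unit⁻¹))) ∈
        nonZeroDivisors (X.presheaf.stalk y.1)
    rw [map_mul]
    refine Submonoid.mul_mem _ ?_ (heunit.map _).mem_nonZeroDivisors
    rw [TopCat.Presheaf.germ_res_apply]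
    by_contra hnz
    obtain ⟨q, hq, haq, hqy⟩ := exists_weakAss_le_of_not_nzd hU hyU a hnz
    have hqmin := mem_minimalPrimes_of_mem_weakAss ha hU hq
    by_cases hqp : q ≤ (hU.primeIdealOf ⟨x, hxU⟩).asIdeal
    · exact hq_le q hqmin hqp haq
    · have hqF : q ∈ F := (hF q).mpr ⟨hqmin, hqp⟩
      have htq : t ∈ q := (Finset.inf_le hqF : F.inf id ≤ id q) htF
      have hty : t ∈ (hU.primeIdealOf ⟨y.1, hyU⟩).asIdeal := hqy htq
      have hsty : (s : Γ(X, U)) * t ∉ (hU.primeIdealOf ⟨y.1, hyU⟩).asIdeal :=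
        (notMem_primeIdealOf_iff hU hyU _).mpr y.2
      exact hsty (Ideal.mul_mem_left _ _ hty)
  · have hux : IsUnit (X.presheaf.germ (X.basicOpen ((s : Γ(X, U)) * t)) x hxW
        (X.presheaf.map (homOfLE hWU).op ((s : Γ(X, U)) * t))) := hu.map _
    apply hux.mul_left_injective
    show X.presheaf.germ (X.basicOpen ((s : Γ(X, U)) * t)) x hxW
        (X.presheaf.map (homOfLE hWU).op a * (X.presheaf.map (homOfLE hWU).op t * ↑(hu.unit⁻¹))) *
      X.presheaf.germ (X.basicOpen ((s : Γ(X, U)) * t)) x hxW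
        (X.presheaf.map (homOfLE hWU).op ((s : Γ(X, U)) * t)) =
      γ * X.presheaf.germ (X.basicOpen ((s : Γ(X, U)) * t)) x hxW
        (X.presheaf.map (homOfLE hWU).op ((s : Γ(X, U)) * t))
    have h1 : X.presheaf.map (homOfLE hWU).op a *
        (X.presheaf.map (homOfLE hWU).op t * ↑(hu.unit⁻¹)) *
        X.presheaf.map (homOfLE hWU).op ((s : Γ(X, U)) * t) =
        X.presheaf.map (homOfLE hWU).op (a * t) := by
      have h2 : (↑(hu.unit⁻¹) : Γ(X, X.basicOpen ((s : Γ(X, U)) * t))) *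
          X.presheaf.map (homOfLE hWU).op ((s : Γ(X, U)) * t) = 1 := hu.val_inv_mul
      rw [map_mul (X.presheaf.map (homOfLE hWU).op).hom a t]
      calc X.presheaf.map (homOfLE hWU).op a *
            (X.presheaf.map (homOfLE hWU).op t * ↑(hu.unit⁻¹)) *
            X.presheaf.map (homOfLE hWU).op ((s : Γ(X, U)) * t)
          = X.presheaf.map (homOfLE hWU).op a * X.presheaf.map (homOfLE hWU).op t *
            (↑(hu.unit⁻¹) * X.presheaf.map (homOfLE hWU).op ((s : Γ(X, U)) * t)) := by ring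
        _ = X.presheaf.map (homOfLE hWU).op a * X.presheaf.map (homOfLE hWU).op t := by
            rw [h2, mul_one]
    rw [← map_mul, h1, TopCat.Presheaf.germ_res_apply, TopCat.Presheaf.germ_res_apply,
      map_mul, map_mul, ← has']
    ring

include ha hb in
theorem isLocalization_kmod_of_generic (U : X.affineOpens) :
    @IsLocalization Γ(X, U.1) _ (nonZeroDivisors Γ(X, U.1)) Γ(Mero.kmod X, U.1) _
      (Mero.toK X U.1).toAlgebra := by
  letI : Algebra Γ(X, U.1) Γ(Mero.kmod X, U.1) := (Mero.toK X U.1).toAlgebra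
  refine (isLocalization_iff _ _).mpr ⟨?_, ?_, ?_⟩
  · rintro ⟨s, hs⟩
    have hreg := mem_regSub_of_mem_nonZeroDivisors U.2 hs
    show IsUnit (Mero.toK X U.1 s)
    exact isUnit_iff_exists_inv.mpr ⟨_, toK_mul_invK ⟨s, hreg⟩⟩
  · intro z
    have hex : ∃ s ∈ nonZeroDivisors Γ(X, U.1), s ∈ denom z := by
      by_contra hcon
      have hfin := finite_minimalPrimes_of_affine U.2 (hb U.1 U.2.isCompact)
      have hsub : ((denom z : Ideal Γ(X, U.1)) : Set Γ(X, U.1)) ⊆
          ⋃ q ∈ minimalPrimes Γ(X, U.1), ((id q : Ideal Γ(X, U.1)) : Set Γ(X, U.1)) := by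
        intro r hr
        have hrn : r ∉ nonZeroDivisors Γ(X, U.1) := fun h => hcon ⟨r, h, hr⟩
        rw [mem_nonZeroDivisors_iff_right] at hrn
        push_neg at hrn
        obtain ⟨b, hb1, hb0⟩ := hrn
        obtain ⟨q, hq, hle⟩ := exists_mem_weakAss_of_ne_zero (R := Γ(X, U.1)) hb0
        have hrq : r ∈ q := hle (mem_ann.mpr (by rw [smul_eq_mul, mul_comm]; exact hb1))
        exact Set.mem_biUnion (mem_minimalPrimes_of_mem_weakAss ha U.2 hq) hrq
      obtain ⟨q, hqmin, hDq⟩ : ∃ q ∈ minimalPrimes Γ(X, U.1), denom z ≤ id q :=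
        ((denom z).subset_union_prime_finite hfin (f := id) 0 0
          (fun _ h _ _ => h.1.1)).1 hsub
      have hqprime : q.IsPrime := hqmin.1.1
      obtain ⟨x, hx, hxq⟩ := exists_point_of_prime U.2 ⟨q, hqprime⟩
      obtain ⟨g, b', k, hmem, hxg, hnzd⟩ := exists_mem_denom_local U.2 z hx
      have hgq : g ∉ q := by
        have h1 := (notMem_primeIdealOf_iff U.2 hx g).mpr hxg
        rw [hxq] at h1
        exact h1
      have hb'q : b' ∈ q := by
        rcases hqprime.mem_or_mem (hDq hmem) with h2 | h2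
        · exact absurd (hqprime.mem_of_pow_mem k h2) hgq
        · exact h2
      have hgen : ∀ y : X, y ⤳ x → y = x := by
        intro y hyx
        have hyU : y ∈ U.1 := hyx.mem_open U.1.2 hx
        have h3 := (specializes_iff_primeIdealOf_le U.2 hx hyU).mp hyx
        rw [hxq] at h3
        have h4 : q ≤ (U.2.primeIdealOf ⟨y, hyU⟩).asIdeal :=
          hqmin.2 ⟨(U.2.primeIdealOf ⟨y, hyU⟩).isPrime, bot_le⟩ h3
        have h5 : U.2.primeIdealOf ⟨y, hyU⟩ = U.2.primeIdealOf ⟨x, hx⟩ := by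
          rw [hxq]; exact PrimeSpectrum.ext (le_antisymm h3 h4)
        exact primeIdealOf_injective U.2 hyU hx h5
      have hmax : X.presheaf.germ U.1 x hx b' ∈
          IsLocalRing.maximalIdeal (X.presheaf.stalk x) := by
        rw [← mem_primeIdealOf_iff U.2 hx, hxq]; exact hb'q
      obtain ⟨k', hk'⟩ := isNilpotent_of_mem_maximalIdeal x hgen _ hmax
      have h10 := mem_nonZeroDivisors_iff_right.mp (pow_mem hnzd k') 1 (by
        rw [one_mul]; exact hk')
      exact one_ne_zero h10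
    obtain ⟨s, hs, hsd⟩ := hex
    obtain ⟨a, ha'⟩ := mem_denom.mp hsd
    refine ⟨(a, ⟨s, hs⟩), ?_⟩
    show z * Mero.toK X U.1 s = Mero.toK X U.1 a
    rw [mul_comm]; exact ha'
  · intro a b hab
    exact ⟨1, by rw [toK_injective U.1 hab]⟩

end Generic

end Groth.Agent.Lib.Mero2_helper4
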