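import Mathlib
import Groth.Prelude.Def_MeroSh
import Groth.Agent.Lib.Mero_helper4
import Groth.Agent.Lib.WeakAssSch3_helper4

/-!
# Meromorphic functions on a reduced scheme with finitely many irreducible components (lead)

`K_X(U)` is the product of the `K_{X,x}` over the generic points `x ∈ U` of irreducible components,
and at such a point `O_{X,x}` is a field mapping bijectively onto `K_{X,x}`.
-/

set_option autoImplicit false
universe u

namespace Groth.Agent.Lib.MeroGenericL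

open AlgebraicGeometry CategoryTheory TopologicalSpace Opposite
open Groth.Agent.Lib.WeakAssSch_helper4 Groth.Agent.Lib.WeakAssSch3_helper4
open Groth.Agent.Lib.Mero_helper4

variable {X : Scheme.{u}}

/-- `x` is the generic point of an irreducible component of `X`. -/
def IsGen (x : X) : Prop := closure ({x} : Set X) ∈ irreducibleComponents (X : Type u)

theorem IsGen.eq_of_specializes {x : X} (hx : IsGen x) {y : X} (h : y ⤳ x) : y = x := by
  have hx' : Maximal IsIrreducible (closure ({x} : Set X)) := hx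
  have h1 : closure ({x} : Set X) ⊆ closure ({y} : Set X) := specializes_iff_closure_subset.mp h
  have h2 : IsIrreducible (closure ({y} : Set X)) := isIrreducible_singleton.closure
  have h3 : closure ({y} : Set X) ⊆ closure ({x} : Set X) := hx'.2 h2 h1
  have h4 : x ⤳ y := specializes_iff_closure_subset.mpr h3
  exact (h.antisymm h4).eq

theorem exists_isGen_specializes (z : X) : ∃ η : X, IsGen η ∧ η ⤳ z := by
  obtain ⟨η, hη⟩ := QuasiSober.sober (isIrreducible_irreducibleComponent (x := z))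
    (isClosed_irreducibleComponent (x := z))
  refine ⟨η, ?_, ?_⟩
  · show closure ({η} : Set X) ∈ irreducibleComponents (X : Type u)
    rw [hη.def]
    exact irreducibleComponent_mem_irreducibleComponents z
  · rw [specializes_iff_mem_closure, hη.def]
    exact mem_irreducibleComponent

theorem finite_isGen_sub (hfin : (irreducibleComponents (X : Type u)).Finite) (V : X.Opens) :
    Finite {η : V // IsGen η.1} := by
  haveI := hfin.to_subtype
  refine Finite.of_injective (fun η : {η : V // IsGen η.1} =>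
    (⟨closure ({η.1.1} : Set X), η.2⟩ : irreducibleComponents (X : Type u))) ?_
  intro η η' h
  have h1 : closure ({η.1.1} : Set X) = closure ({η'.1.1} : Set X) := congrArg Subtype.val h
  have h2 : η.1.1 = η'.1.1 := (inseparable_iff_closure_eq.mpr h1).eq
  exact Subtype.ext (Subtype.ext h2)

theorem eq_zero_of_germ_isGen [AlgebraicGeometry.IsReduced X] {V : X.Opens} (a : Γ(X, V))
    (h : ∀ (η : X) (hη : η ∈ V), IsGen η → X.presheaf.germ V η hη a = 0) : a = 0 := by
  rw [← basicOpen_eq_bot_iff]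
  by_contra hne
  obtain ⟨z, hz⟩ := (Opens.ne_bot_iff_nonempty _).mp hne
  obtain ⟨η, hg, hs⟩ := exists_isGen_specializes z
  have hηb : η ∈ X.basicOpen a := hs.mem_open (X.basicOpen a).2 hz
  have hηV : η ∈ V := X.basicOpen_le a hηb
  have hu : IsUnit (X.presheaf.germ V η hηV a) := (Scheme.mem_basicOpen X a η hηV).mp hηb
  rw [h η hηV hg] at hu
  exact not_isUnit_zero hu

theorem eq_zero_of_mem_maximalIdeal [AlgebraicGeometry.IsReduced X] {x : X} (hx : IsGen x)
    (c : X.presheaf.stalk x) (hc : c ∈ IsLocalRing.maximalIdeal (X.presheaf.stalk x)) : c = 0 := by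
  have h := isNilpotent_of_mem_maximalIdeal x (fun y hy => hx.eq_of_specializes hy) c hc
  exact h.eq_zero

theorem isField_stalk [AlgebraicGeometry.IsReduced X] {x : X} (hx : IsGen x) :
    IsField (X.presheaf.stalk x) := by
  rw [IsLocalRing.isField_iff_maximalIdeal_eq]
  exact (Submodule.eq_bot_iff _).mpr fun c hc => eq_zero_of_mem_maximalIdeal hx c hc

theorem algebraMap_bijective [AlgebraicGeometry.IsReduced X] {x : X} (hx : IsGen x) :
    Function.Bijective (algebraMap (X.presheaf.stalk x) (Mero.KStalk X x)) := by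
  refine ⟨Mero.algebraMap_KStalk_injective x, fun q => ?_⟩
  obtain ⟨⟨r, s⟩, rfl⟩ := IsLocalization.mk'_surjective (Mero.regStalk X x) q
  have hs0 : (s : X.presheaf.stalk x) ≠ 0 :=
    nonZeroDivisors.ne_zero (Mero.regStalk_le_nonZeroDivisors x s.2)
  obtain ⟨v, hv⟩ := (isField_stalk hx).mul_inv_cancel hs0
  refine ⟨r * v, ?_⟩
  rw [IsLocalization.eq_mk'_iff_mul_eq, ← map_mul]
  congr 1
  rw [mul_assoc, mul_comm v, hv, mul_one]

theorem sect_eq_zero_of_isGen [AlgebraicGeometry.IsReduced X] {U : X.Opens}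
    (s : Γ(Mero.kmod X, U)) (hs : ∀ η : U, IsGen η.1 → s.1 η = 0) (y : U) : s.1 y = 0 := by
  obtain ⟨V, hyV, i, a, b, hab⟩ := s.2 y
  have ha : a = 0 := by
    apply eq_zero_of_germ_isGen
    intro η hη hg
    have h1 := hab ⟨η, hη⟩
    have h2 : s.1 (i ⟨η, hη⟩) = 0 := hs _ hg
    have h3 : (LocalizedModule.mk (X.presheaf.germ V η hη a) (Mero.regGerm ⟨η, hη⟩ b) :
        Mero.KStalk X η) = 0 := h1.symm.trans h2
    exact (mk_eq_zero_iff η _ _).mp h3
  have h1 := hab ⟨y.1, hyV⟩
  have h4 : s.1 y = (LocalizedModule.mk (X.presheaf.germ V y.1 hyV a)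
      (Mero.regGerm ⟨y.1, hyV⟩ b) : Mero.KStalk X y.1) := h1
  rw [h4, ha, map_zero, LocalizedModule.zero_mk]

theorem agree [AlgebraicGeometry.IsReduced X] {V V' : X.Opens} (a : Γ(X, V)) (b : Mero.regSub X V)
    (a' : Γ(X, V')) (b' : Mero.regSub X V')
    (h : ∀ (η : X) (hη : η ∈ V) (hη' : η ∈ V'), IsGen η →
      (LocalizedModule.mk (X.presheaf.germ V η hη a) (Mero.regGerm ⟨η, hη⟩ b) : Mero.KStalk X η) =
        LocalizedModule.mk (X.presheaf.germ V' η hη' a') (Mero.regGerm ⟨η, hη'⟩ b'))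
    (z : X) (hz : z ∈ V) (hz' : z ∈ V') :
    (LocalizedModule.mk (X.presheaf.germ V z hz a) (Mero.regGerm ⟨z, hz⟩ b) : Mero.KStalk X z) =
      LocalizedModule.mk (X.presheaf.germ V' z hz' a') (Mero.regGerm ⟨z, hz'⟩ b') := by
  rw [mk_eq_mk_iff]
  show X.presheaf.germ V z hz a * X.presheaf.germ V' z hz' b'.1 =
    X.presheaf.germ V' z hz' a' * X.presheaf.germ V z hz b.1
  have hd : X.presheaf.map (homOfLE (inf_le_left : V ⊓ V' ≤ V)).op a *
        X.presheaf.map (homOfLE (inf_le_right : V ⊓ V' ≤ V')).op b'.1 -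
      X.presheaf.map (homOfLE (inf_le_right : V ⊓ V' ≤ V')).op a' *
        X.presheaf.map (homOfLE (inf_le_left : V ⊓ V' ≤ V)).op b.1 = 0 := by
    apply eq_zero_of_germ_isGen
    intro η hη hg
    have h1 := (mk_eq_mk_iff η _ _ _ _).mp (h η hη.1 hη.2 hg)
    have h1' : X.presheaf.germ V η hη.1 a * X.presheaf.germ V' η hη.2 b'.1 =
        X.presheaf.germ V' η hη.2 a' * X.presheaf.germ V η hη.1 b.1 := h1
    simp only [map_sub, map_mul, TopCat.Presheaf.germ_res_apply]
    rw [h1', sub_self]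
  have hzW : z ∈ V ⊓ V' := ⟨hz, hz'⟩
  have h2 := congrArg (X.presheaf.germ (V ⊓ V') z hzW) hd
  simp only [map_sub, map_mul, TopCat.Presheaf.germ_res_apply, map_zero] at h2
  exact sub_eq_zero.mp h2

theorem exists_local [AlgebraicGeometry.IsReduced X]
    (hfin : (irreducibleComponents (X : Type u)).Finite)
    {V : X.Opens} (hV : IsAffineOpen V)
    (t : ∀ η : {η : V // IsGen η.1}, Mero.KStalk X η.1.1) :
    ∃ (a : Γ(X, V)) (b : Mero.regSub X V), ∀ η : {η : V // IsGen η.1},
      (LocalizedModule.mk (X.presheaf.germ V η.1.1 η.1.2 a) (Mero.regGerm η.1 b) :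
        Mero.KStalk X η.1.1) = t η := by
  classical
  haveI := finite_isGen_sub hfin V
  letI : Fintype {η : V // IsGen η.1} := Fintype.ofFinite _
  let p : {η : V // IsGen η.1} → Ideal Γ(X, V) := fun η => (hV.primeIdealOf η.1).asIdeal
  have hprime : ∀ η, (p η).IsPrime := fun η => (hV.primeIdealOf η.1).isPrime
  have hgerm0 : ∀ (η : {η : V // IsGen η.1}) (r : Γ(X, V)), r ∈ p η →
      X.presheaf.germ V η.1.1 η.1.2 r = 0 := by
    intro η r hr
    apply eq_zero_of_mem_maximalIdeal η.2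
    exact (mem_primeIdealOf_iff hV η.1.2 r).mp hr
  have hinc : ∀ η η' : {η : V // IsGen η.1}, η' ≠ η → ¬ p η' ≤ p η := by
    intro η η' hne hle
    have hs : η'.1.1 ⤳ η.1.1 := (specializes_iff_primeIdealOf_le hV η.1.2 η'.1.2).mpr hle
    exact hne (Subtype.ext (Subtype.ext (η.2.eq_of_specializes hs)))
  have hex : ∀ η η' : {η : V // IsGen η.1}, ∃ f : Γ(X, V), η' ≠ η → f ∈ p η' ∧ f ∉ p η := by
    intro η η'
    by_cases h : η' = η
    · exact ⟨1, fun h' => absurd h h'⟩
    · obtain ⟨f, hf1, hf2⟩ := SetLike.not_le_iff_exists.mp (hinc η η' h)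
      exact ⟨f, fun _ => ⟨hf1, hf2⟩⟩
  choose f hf using hex
  let e : {η : V // IsGen η.1} → Γ(X, V) := fun η => ∏ η' ∈ Finset.univ.erase η, f η η'
  have he1 : ∀ η, e η ∉ p η := by
    intro η hmem
    haveI := hprime η
    obtain ⟨η', hη', hmem'⟩ := Ideal.IsPrime.prod_mem_iff.mp hmem
    exact (hf η η' (Finset.ne_of_mem_erase hη')).2 hmem'
  have he2 : ∀ η η', η' ≠ η → e η ∈ p η' := by
    intro η η' hne
    have hmem : η' ∈ Finset.univ.erase η := Finset.mem_erase.mpr ⟨hne, Finset.mem_univ _⟩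
    obtain ⟨c, hc⟩ := Finset.dvd_prod_of_mem (f η) hmem
    show (∏ η'' ∈ Finset.univ.erase η, f η η'') ∈ p η'
    rw [hc]
    exact Ideal.mul_mem_right _ _ (hf η η' hne).1
  have hloc : ∀ η : {η : V // IsGen η.1}, ∃ (α σ : Γ(X, V)) (c : X.presheaf.stalk η.1.1),
      σ ∉ p η ∧ algebraMap _ (Mero.KStalk X η.1.1) c = t η ∧
      c * X.presheaf.germ V η.1.1 η.1.2 σ = X.presheaf.germ V η.1.1 η.1.2 α := by
    intro η
    obtain ⟨c, hc⟩ := (algebraMap_bijective η.2).2 (t η)
    letI := TopCat.Presheaf.algebra_section_stalk X.presheaf η.1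
    haveI := hV.isLocalization_stalk η.1
    obtain ⟨⟨α, σ⟩, has⟩ := IsLocalization.surj (hV.primeIdealOf η.1).asIdeal.primeCompl c
    have has' : c * X.presheaf.germ V η.1.1 η.1.2 (σ : Γ(X, V)) =
        X.presheaf.germ V η.1.1 η.1.2 α := has
    exact ⟨α, σ.1, c, σ.2, hc, has'⟩
  choose α σ c hσ hc hcσ using hloc
  have hbp : ∀ η, (∑ η', e η' * σ η') ∉ p η := by
    intro η hmem
    have hsplit : e η * σ η + ∑ η' ∈ Finset.univ.erase η, e η' * σ η' = ∑ η', e η' * σ η' :=
      Finset.add_sum_erase Finset.univ (fun η' => e η' * σ η') (Finset.mem_univ η)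
    have hrest : ∑ η' ∈ Finset.univ.erase η, e η' * σ η' ∈ p η :=
      Ideal.sum_mem _ fun η' hη' =>
        Ideal.mul_mem_right _ _ (he2 η' η (Finset.ne_of_mem_erase hη').symm)
    have h1 : e η * σ η ∈ p η := by
      have h0 : e η * σ η = ∑ η', e η' * σ η' - ∑ η' ∈ Finset.univ.erase η, e η' * σ η' := by
        rw [← hsplit]; ring
      rw [h0]; exact Ideal.sub_mem _ hmem hrest
    rcases (hprime η).mem_or_mem h1 with h2 | h2
    · exact he1 η h2
    · exact hσ η h2
  have hbnzd : (∑ η', e η' * σ η') ∈ nonZeroDivisors Γ(X, V) := by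
    rw [mem_nonZeroDivisors_iff_right]
    intro x hx
    apply eq_zero_of_germ_isGen
    intro η hη hg
    have hxp : x ∈ p ⟨⟨η, hη⟩, hg⟩ := by
      have h1 : x * ∑ η', e η' * σ η' ∈ p ⟨⟨η, hη⟩, hg⟩ := by rw [hx]; exact Ideal.zero_mem _
      rcases (hprime _).mem_or_mem h1 with h2 | h2
      · exact h2
      · exact absurd h2 (hbp _)
    exact hgerm0 ⟨⟨η, hη⟩, hg⟩ x hxp
  refine ⟨∑ η', e η' * α η', ⟨∑ η', e η' * σ η', mem_regSub_of_mem_nonZeroDivisors hV hbnzd⟩,
    fun η => ?_⟩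
  rw [← hc η, ← mk_one_eq_algebraMap, mk_eq_mk_iff]
  have hgb : X.presheaf.germ V η.1.1 η.1.2 (∑ η', e η' * σ η') =
      X.presheaf.germ V η.1.1 η.1.2 (e η) * X.presheaf.germ V η.1.1 η.1.2 (σ η) := by
    rw [map_sum, Finset.sum_eq_single η]
    · rw [map_mul]
    · intro η' _ hne
      rw [map_mul, hgerm0 η (e η') (he2 η' η hne.symm), zero_mul]
    · intro h; exact absurd (Finset.mem_univ η) h
  have hga : X.presheaf.germ V η.1.1 η.1.2 (∑ η', e η' * α η') =
      X.presheaf.germ V η.1.1 η.1.2 (e η) * X.presheaf.germ V η.1.1 η.1.2 (α η) := by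
    rw [map_sum, Finset.sum_eq_single η]
    · rw [map_mul]
    · intro η' _ hne
      rw [map_mul, hgerm0 η (e η') (he2 η' η hne.symm), zero_mul]
    · intro h; exact absurd (Finset.mem_univ η) h
  show X.presheaf.germ V η.1.1 η.1.2 (∑ η', e η' * α η') * (1 : X.presheaf.stalk η.1.1) =
    c η * X.presheaf.germ V η.1.1 η.1.2 (∑ η', e η' * σ η')
  rw [hga, hgb, ← hcσ η]
  ring

theorem main [AlgebraicGeometry.IsReduced X] (hfin : (irreducibleComponents (X : Type u)).Finite)
    (U : X.Opens) :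
    Function.Bijective (fun s : Γ(Mero.kmod X, U) =>
      fun x : {x : U // IsGen x.1} => Mero.evalK X U x.1 s) := by
  constructor
  · intro s s' h
    apply kmod_ext
    intro y
    have h0 : ∀ η : U, IsGen η.1 → (s - s').1 η = 0 := by
      intro η hg
      have h1 := congrFun h ⟨η, hg⟩
      have h2 : Mero.evalK X U η s = Mero.evalK X U η s' := h1
      have h3 : Mero.evalK X U η (s - s') = 0 := by rw [map_sub, h2, sub_self]
      exact h3
    have h4 : Mero.evalK X U y (s - s') = 0 := sect_eq_zero_of_isGen (s - s') h0 y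
    rw [map_sub, sub_eq_zero] at h4
    exact h4
  · intro t
    have hnb : ∀ y : U, ∃ V : X.Opens, IsAffineOpen V ∧ y.1 ∈ V ∧ V ≤ U := by
      intro y
      obtain ⟨V, hV, hyV, hVU⟩ := (Opens.isBasis_iff_nbhd.mp X.isBasis_affineOpens) y.2
      exact ⟨V, hV, hyV, hVU⟩
    choose V hVaff hyV hVU using hnb
    have hloc : ∀ y : U, ∃ (a : Γ(X, V y)) (b : Mero.regSub X (V y)),
        ∀ η : {η : V y // IsGen η.1},
          (LocalizedModule.mk (X.presheaf.germ (V y) η.1.1 η.1.2 a) (Mero.regGerm η.1 b) :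
            Mero.KStalk X η.1.1) = t ⟨⟨η.1.1, hVU y η.1.2⟩, η.2⟩ := fun y =>
      exists_local hfin (hVaff y) (fun η => t ⟨⟨η.1.1, hVU y η.1.2⟩, η.2⟩)
    choose a b hab using hloc
    have hagree : ∀ (y y' : U) (z : X) (hz : z ∈ V y) (hz' : z ∈ V y'),
        (LocalizedModule.mk (X.presheaf.germ (V y) z hz (a y)) (Mero.regGerm ⟨z, hz⟩ (b y)) :
          Mero.KStalk X z) =
        LocalizedModule.mk (X.presheaf.germ (V y') z hz' (a y')) (Mero.regGerm ⟨z, hz'⟩ (b y')) := by
      intro y y' z hz hz'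
      apply agree
      intro η hη hη' hg
      exact (hab y ⟨⟨η, hη⟩, hg⟩).trans (hab y' ⟨⟨η, hη'⟩, hg⟩).symm
    let fn : ∀ y : U, Mero.KStalk X y.1 := fun y =>
      LocalizedModule.mk (X.presheaf.germ (V y) y.1 (hyV y) (a y))
        (Mero.regGerm ⟨y.1, hyV y⟩ (b y))
    have hpred : (Mero.kLoc X).pred fn := by
      intro y
      refine ⟨V y, hyV y, homOfLE (hVU y), a y, b y, fun z => ?_⟩
      exact hagree ⟨z.1, hVU y z.2⟩ y z.1 (hyV ⟨z.1, hVU y z.2⟩) z.2
    refine ⟨(⟨fn, hpred⟩ : Γ(Mero.kmod X, U)), ?_⟩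
    funext η
    show fn η.1 = t η
    exact hab η.1 ⟨⟨η.1.1, hyV η.1⟩, η.2⟩

end Groth.Agent.Lib.MeroGenericL
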