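import Mathlib
import Groth.Prelude
import Groth.Agent.Lib.DenomIdeal1_helper5

/-!
# Invertible modules with a regular meromorphic section are the `O_X(D)` (helper5)
APPEND-ONLY once landed.
-/

set_option autoImplicit false
universe u
open CategoryTheory CategoryTheory.Limits AlgebraicGeometry TopologicalSpace Opposite
open QcqsLoc QCohExtn GenLocH8 Groth.Agent.Lib.Mero_helper4

namespace Groth.Agent.MeroPic

open Groth.Agent.DivPic Groth.Agent.RegMero Groth.Agent.DenomIdeal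

variable {X : Scheme.{u}}

section Assoc

/-- At an associated point, nonzerodivisors of the local ring are units. -/
theorem isUnit_of_assoc {x : X}
    (hx : IsAssociatedPrime (IsLocalRing.maximalIdeal (X.presheaf.stalk x)) (X.presheaf.stalk x))
    {a : X.presheaf.stalk x} (ha : a ∈ nonZeroDivisors (X.presheaf.stalk x)) : IsUnit a := by
  by_contra hnu
  have hmem : a ∈ IsLocalRing.maximalIdeal (X.presheaf.stalk x) :=
    (IsLocalRing.mem_maximalIdeal a).2 hnu
  obtain ⟨hprime, z, hz⟩ := hx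
  rw [hz] at hmem
  obtain ⟨n, hn⟩ := hmem
  rw [Submodule.mem_colon_singleton, Submodule.mem_bot, smul_eq_mul] at hn
  have hz0 : z = 0 := (mul_left_mem_nonZeroDivisors_eq_zero_iff (pow_mem ha n)).1 hn
  apply hprime.ne_top
  rw [hz, hz0, Ideal.radical_eq_top, Ideal.eq_top_iff_one, Submodule.mem_colon_singleton, smul_zero]
  exact Submodule.zero_mem _

/-- At an associated point, the local ring is its own ring of meromorphic germs. -/
theorem algebraMap_surjective_of_assoc {x : X}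
    (hx : IsAssociatedPrime (IsLocalRing.maximalIdeal (X.presheaf.stalk x)) (X.presheaf.stalk x)) :
    Function.Surjective (algebraMap (X.presheaf.stalk x) (Mero.KStalk X x)) := by
  intro q
  obtain ⟨a, s, rfl⟩ := IsLocalization.exists_mk'_eq (Mero.regStalk X x) q
  obtain ⟨u, hu⟩ := isUnit_of_assoc hx (Mero.regStalk_le_nonZeroDivisors x s.2)
  refine ⟨a * ((u⁻¹ : (X.presheaf.stalk x)ˣ) : X.presheaf.stalk x), ?_⟩
  rw [IsLocalization.eq_mk'_iff_mul_eq, ← map_mul, mul_assoc, ← hu, Units.inv_mul, mul_one]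

end Assoc

section Backward

variable {L : X.Modules}

/-- The local numerator of a regular meromorphic section is a nonzerodivisor. -/
theorem germ_coef_mem_nonZeroDivisors {s : Γ(Mero.merMod L, ⊤)} (hs : Mero.IsRegularMero L s)
    {V W : X.Opens} (hWV : W ≤ V) (m : Γ(L, V)) (b : Mero.regSub X V) {g : Γ(L, W)}
    (a : Γ(X, W)) (ha : rF L hWV m = a • g) (y : X) (hy : y ∈ W)
    (hsv : sv s y = LocalizedModule.mk (L.presheaf.germ V y (hWV hy) m)
      (Mero.regGerm ⟨y, hWV hy⟩ b)) :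
    X.presheaf.germ W y hy a ∈ nonZeroDivisors (X.presheaf.stalk y) := by
  rw [mem_nonZeroDivisors_iff_right]
  intro c hc
  apply Mero.algebraMap_KStalk_injective y
  rw [map_zero]
  apply hs y
  show algebraMap _ (Mero.KStalk X y) c • sv s y = 0
  rw [hsv, algebraMap_smul, smul_mk]
  have h1 : L.presheaf.germ V y (hWV hy) m =
      X.presheaf.germ W y hy a • L.presheaf.germ W y hy g := by
    rw [← germ_rF hWV m y hy, ha, Mero.germ_smul]
  rw [h1, ← mul_smul, hc, zero_smul, LocalizedModule.zero_mk]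

/-- Near any point, a regular meromorphic section is a genuine generator on a basic open, which
contains the point if it is an associated point. -/
theorem exists_local_gen (hL : PicF.IsInvertible L) {s : Γ(Mero.merMod L, ⊤)}
    (hs : Mero.IsRegularMero L s) (x : X) :
    ∃ (N : X.Opens) (e : Γ(L, N)), IsGen L N e ∧
      (∀ (z : X) (hz : z ∈ N), sv s z = LocalizedModule.mk (L.presheaf.germ N z hz e) 1) ∧
      (IsAssociatedPrime (IsLocalRing.maximalIdeal (X.presheaf.stalk x)) (X.presheaf.stalk x) →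
        x ∈ N) := by
  obtain ⟨V, hxV, m, b, hV⟩ := exists_local s x
  obtain ⟨W, -, hxW, hWV, g, hg⟩ := TensH8.exists_isGen_le hL x V hxV
  obtain ⟨a, ha⟩ := hg.exists_coef (rF L hWV m)
  obtain ⟨f, hf⟩ : ∃ f : Γ(X, W), f = a * rX hWV b.1 := ⟨_, rfl⟩
  have hNW : X.basicOpen f ≤ W := X.basicOpen_le f
  have hunit : IsUnit (rX hNW f) := RingedSpace.isUnit_res_basicOpen _ f
  have hff : rX hNW f = rX hNW a * rX hNW (rX hWV b.1) :=
    (congrArg (rX hNW) hf).trans (map_mul _ _ _)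
  rw [hff] at hunit
  have hua : IsUnit (rX hNW a) := isUnit_of_mul_isUnit_left hunit
  have hub : IsUnit (rX hNW (rX hWV b.1)) := isUnit_of_mul_isUnit_right hunit
  rw [rX_rX] at hub
  obtain ⟨v, hv⟩ := hub.exists_left_inv
  have hvu : IsUnit v := IsUnit.of_mul_eq_one _ hv
  refine ⟨X.basicOpen f, v • rF L (hNW.trans hWV) m, ?_, ?_, ?_⟩
  · have h1 : v • rF L (hNW.trans hWV) m = (v * rX hNW a) • rF L hNW g := by
      rw [← rF_rF L hNW hWV, ha, rF_smul, mul_smul]
    rw [h1]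
    exact TensH8.isGen_smul_of_isUnit (hg.res hNW) (hvu.mul hua)
  · intro z hz
    rw [hV ⟨z, hWV (hNW hz)⟩, Mero.germ_smul, germ_rF]
    rw [LocalizedModule.mk_eq]
    refine ⟨1, ?_⟩
    rw [one_smul, one_smul, one_smul, Submonoid.smul_def, ← mul_smul]
    have h2 : X.presheaf.germ V z (hWV (hNW hz)) b.1 * X.presheaf.germ (X.basicOpen f) z hz v
        = 1 := by
      rw [← germ_rX (hNW.trans hWV) b.1 z hz, ← map_mul, mul_comm, hv, map_one]
    show _ = (X.presheaf.germ V z (hWV (hNW hz)) b.1 * _) • _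
    rw [h2, one_smul]
  · intro hass
    rw [Scheme.mem_basicOpen _ _ _ hxW, hf, map_mul]
    apply isUnit_of_assoc hass
    apply mul_mem
    · exact germ_coef_mem_nonZeroDivisors hs hWV m b a ha x hxW (hV ⟨x, hxV⟩)
    · rw [germ_rX]
      exact b.2 ⟨x, hxV⟩

/-- **(⇐)**: an invertible module with a regular meromorphic section on a locally Noetherian scheme
is `O_X(D)`. -/
theorem exists_divisor_of_hasRegularMero [IsLocallyNoetherian X] (hL : PicF.IsInvertible L)
    (h : Mero.HasRegularMero L) : ∃ D : Mero.Divisor X, Nonempty (L ≅ Mero.divMod D) := by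
  obtain ⟨s, hs⟩ := h
  choose N e he hsv hass using exists_local_gen hL hs
  have hcompat : ∀ i j : X, rF L (inf_le_left : N i ⊓ N j ≤ N i) (e i) =
      rF L (inf_le_right : N i ⊓ N j ≤ N j) (e j) := by
    intro i j
    rw [← sub_eq_zero]
    apply eq_zero_of_germ_eq_zero
    intro z hz
    have h1 : LocalizedModule.mkLinearMap (Mero.regStalk X z) (L.presheaf.stalk z)
        (L.presheaf.germ (N i ⊓ N j) z hz
          (rF L (inf_le_left : N i ⊓ N j ≤ N i) (e i) -
            rF L (inf_le_right : N i ⊓ N j ≤ N j) (e j))) = 0 := by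
      rw [map_sub, map_sub, germ_rF, germ_rF, LocalizedModule.mkLinearMap_apply,
        LocalizedModule.mkLinearMap_apply, ← hsv i z hz.1, ← hsv j z hz.2, sub_self]
    obtain ⟨c, hc⟩ := (IsLocalizedModule.eq_zero_iff (Mero.regStalk X z)
      (LocalizedModule.mkLinearMap (Mero.regStalk X z) (L.presheaf.stalk z))).1 h1
    exact germ_eq_zero_of_smul hL _ z hz c hc
  obtain ⟨E, hE⟩ := TensH8.glue L N (⨆ i, N i) (fun i => le_iSup N i) le_rfl e hcompat
  have hgen : IsGen L (⨆ i, N i) E := by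
    apply TensH8.isGen_of_cover
    intro x hx
    obtain ⟨i, hi⟩ := Opens.mem_iSup.1 hx
    refine ⟨N i, le_iSup N i, hi, ?_⟩
    rw [hE i]
    exact he i
  have hU : SchDense (⨆ i, N i) := schDense_of_assPoints _ (fun x hx =>
    Opens.mem_iSup.2 ⟨x, hass x ((AssPtH8.isAssPoint_structureModule_iff x).1 hx)⟩)
  exact exists_divisor (Or.inl inferInstance) hL hU hgen

end Backward

section Forward

/-- A meromorphic unit whose value at `y` is the image of a unit of the local ring is, near `y`,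
the image of a unit function. -/
theorem exists_unit_nbhd {V : X.Opens} (f : (Γ(Mero.kmod X, V))ˣ) (y : X) (hy : y ∈ V)
    (u₀ : X.presheaf.stalk y) (hu₀ : IsUnit u₀)
    (h1 : f.1.1 ⟨y, hy⟩ = algebraMap _ (Mero.KStalk X y) u₀) :
    ∃ (N : X.Opens) (hN : N ≤ V) (c : Γ(X, N)), y ∈ N ∧ IsUnit c ∧
      ∀ z : N, f.1.1 ⟨z.1, hN z.2⟩ =
        algebraMap _ (Mero.KStalk X z.1) (X.presheaf.germ N z.1 z.2 c) := by
  obtain ⟨W, hyW, i, a, b, hab⟩ := f.1.2 ⟨y, hy⟩
  obtain ⟨O, hyO, c', rfl⟩ := TopCat.Presheaf.exists_germ_eq X.presheaf (x := y) u₀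
  have e1 : f.1.1 ⟨y, hy⟩ = LocalizedModule.mk (X.presheaf.germ W y hyW a)
      (Mero.regGerm ⟨y, hyW⟩ b) := hab ⟨y, hyW⟩
  rw [h1, ← mk_one_eq_algebraMap, mk_eq_mk_iff] at e1
  have hl : O ⊓ W ≤ O := inf_le_left
  have hr : O ⊓ W ≤ W := inf_le_right
  have hyP : y ∈ O ⊓ W := ⟨hyO, hyW⟩
  have e2 : X.presheaf.germ (O ⊓ W) y hyP (rX hl c' * rX hr b.1) =
      X.presheaf.germ (O ⊓ W) y hyP (rX hr a) := by
    rw [map_mul, germ_rX, germ_rX, germ_rX]
    rw [Submonoid.coe_one, mul_one] at e1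
    exact e1
  obtain ⟨Q, hyQ, i₁, i₂, h3⟩ := TopCat.Presheaf.germ_eq X.presheaf y hyP hyP _ _ e2
  have hQP : Q ≤ O ⊓ W := i₁.le
  have h4 : rX hQP (rX hl c' * rX hr b.1) = rX hQP (rX hr a) := h3
  rw [map_mul, rX_rX, rX_rX, rX_rX] at h4
  obtain ⟨c₀, hc₀⟩ : ∃ c₀ : Γ(X, Q), c₀ = rX (hQP.trans hl) c' := ⟨_, rfl⟩
  have hNQ : X.basicOpen c₀ ≤ Q := X.basicOpen_le c₀
  refine ⟨X.basicOpen c₀, hNQ.trans ((hQP.trans hr).trans i.le), rX hNQ c₀, ?_,
    RingedSpace.isUnit_res_basicOpen _ c₀, ?_⟩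
  · rw [Scheme.mem_basicOpen _ _ _ hyQ, hc₀, germ_rX]
    exact hu₀
  · intro z
    have hzW : z.1 ∈ W := hr (hQP (hNQ z.2))
    have e3 : f.1.1 ⟨z.1, (hNQ.trans ((hQP.trans hr).trans i.le)) z.2⟩ =
        LocalizedModule.mk (X.presheaf.germ W z.1 hzW a) (Mero.regGerm ⟨z.1, hzW⟩ b) :=
      hab ⟨z.1, hzW⟩
    rw [e3, ← mk_one_eq_algebraMap, mk_eq_mk_iff, Submonoid.coe_one, mul_one, germ_rX]
    have h5 := congrArg (X.presheaf.germ Q z.1 (hNQ z.2)) h4
    rw [map_mul, germ_rX, germ_rX, germ_rX] at h5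
    have h6 := congrArg (X.presheaf.germ Q z.1 (hNQ z.2)) hc₀
    rw [germ_rX] at h6
    rw [h6]
    exact h5.symm

variable (D : Mero.Divisor X)

/-- The germ of a divisor at a point is trivial iff the local equation is the image of a unit. -/
theorem germOf_eq_one_iff {V : X.Opens} (f : (Γ(Mero.kmod X, V))ˣ) (y : V) :
    Mero.germOf f y = 1 ↔ ∃ u : (X.presheaf.stalk y.1)ˣ,
      f.1.1 y = algebraMap _ (Mero.KStalk X y.1) (u : X.presheaf.stalk y.1) := by
  rw [QuotientGroup.eq_one_iff]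
  constructor
  · rintro ⟨u, hu⟩
    exact ⟨u, (congrArg Units.val hu).symm⟩
  · rintro ⟨u, hu⟩
    exact ⟨u, Units.ext hu.symm⟩

/-- The locus where a divisor is trivial is open (local form). -/
theorem exists_nbhd_of_eq_one (y : X) (h : D.1 y = 1) :
    ∃ (V : X.Opens) (f : (Γ(Mero.kmod X, V))ˣ) (_ : ∀ z : V, D.1 z.1 = Mero.germOf f z)
      (N : X.Opens) (hN : N ≤ V) (c : Γ(X, N)), y ∈ N ∧ IsUnit c ∧
      ∀ z : N, f.1.1 ⟨z.1, hN z.2⟩ =
        algebraMap _ (Mero.KStalk X z.1) (X.presheaf.germ N z.1 z.2 c) := by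
  obtain ⟨V, hyV, f, hf⟩ := D.2 y
  have h1 : Mero.germOf f ⟨y, hyV⟩ = 1 := (hf ⟨y, hyV⟩).symm.trans h
  obtain ⟨u, hu⟩ := (germOf_eq_one_iff f ⟨y, hyV⟩).1 h1
  obtain ⟨N, hN, c, hyN, hc, hfc⟩ := exists_unit_nbhd f y hyV u u.isUnit hu
  exact ⟨V, f, hf, N, hN, c, hyN, hc, hfc⟩

/-- The open locus where the divisor is trivial. -/
noncomputable def trivLocus : X.Opens :=
  ⟨{y | D.1 y = 1}, by
    rw [isOpen_iff_forall_mem_open]
    intro y hy
    obtain ⟨V, f, hf, N, hN, c, hyN, hc, hfc⟩ := exists_nbhd_of_eq_one D y hy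
    refine ⟨N, ?_, N.isOpen, hyN⟩
    intro z hz
    show D.1 z = 1
    rw [hf ⟨z, hN hz⟩, germOf_eq_one_iff]
    exact ⟨(hc.map (X.presheaf.germ N z hz).hom).unit, hfc ⟨z, hz⟩⟩⟩

theorem mem_trivLocus {y : X} : y ∈ trivLocus D ↔ D.1 y = 1 := Iff.rfl

/-- The constant meromorphic function `1`, a section of `O_X(D)` where `D` is trivial. -/
noncomputable def oneSec : Γ(Mero.divMod D, trivLocus D) :=
  (⟨fun _ => 1, ⟨Mero.kLoc_one X (trivLocus D), fun z g hg => by
    have h1 : (QuotientGroup.mk g : Mero.Germ X z.1) = 1 := hg.symm.trans z.2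
    rw [QuotientGroup.eq_one_iff] at h1
    obtain ⟨u, hu⟩ := h1
    rw [one_mul]
    exact ⟨(u : X.presheaf.stalk z.1), congrArg Units.val hu⟩⟩⟩ : Γ(Mero.divMod D, trivLocus D))

/-- `1` generates `O_X(D)` over the locus where `D` is trivial. -/
theorem isGen_oneSec : IsGen (Mero.divMod D) (trivLocus D) (oneSec D) := by
  apply TensH8.isGen_of_cover
  intro y hy
  obtain ⟨V, f, hf, N, hN, c, hyN, hc, hfc⟩ := exists_nbhd_of_eq_one D y hy
  have hNU : N ≤ trivLocus D := by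
    intro z hz
    show D.1 z = 1
    rw [hf ⟨z, hN hz⟩, germOf_eq_one_iff]
    exact ⟨(hc.map (X.presheaf.germ N z hz).hom).unit, hfc ⟨z, hz⟩⟩
  refine ⟨N, hNU, hyN, ?_⟩
  have h1 : rF (Mero.divMod D) hNU (oneSec D) = c • MeroInvH8.invSec D f hf N hN := by
    apply Subtype.ext
    funext z
    show (1 : Mero.KStalk X z.1) =
      X.presheaf.germ N z.1 z.2 c • (f⁻¹).1.1 ⟨z.1, hN z.2⟩
    rw [Algebra.smul_def, ← hfc z, MeroInvH8.mul_inv_val]
  rw [h1]
  exact TensH8.isGen_smul_of_isUnit ((MeroInvH8.isGen_invSec D f hf).res hN) hc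

/-- On a locally Noetherian scheme the locus where a divisor is trivial is schematically dense. -/
theorem schDense_trivLocus [IsLocallyNoetherian X] : SchDense (trivLocus D) := by
  apply schDense_of_assPoints
  intro y hy
  have hass := (AssPtH8.isAssPoint_structureModule_iff y).1 hy
  obtain ⟨V, hyV, f, hf⟩ := D.2 y
  show D.1 y = 1
  rw [hf ⟨y, hyV⟩, germOf_eq_one_iff]
  obtain ⟨u₀, hu₀⟩ := algebraMap_surjective_of_assoc hass (f.1.1 ⟨y, hyV⟩)
  obtain ⟨u₁, hu₁⟩ := algebraMap_surjective_of_assoc hass ((f⁻¹).1.1 ⟨y, hyV⟩)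
  have h1 : u₀ * u₁ = 1 := by
    apply Mero.algebraMap_KStalk_injective y
    rw [map_mul, hu₀, hu₁, map_one]
    exact MeroInvH8.mul_inv_val f ⟨y, hyV⟩
  exact ⟨(IsUnit.of_mul_eq_one _ h1).unit, hu₀.symm⟩

end Forward

/-- **S5087**. -/
theorem iff_hasRegularMero [IsLocallyNoetherian X] (L : X.Modules) (hL : PicF.IsInvertible L) :
    (∃ D : Mero.Divisor X, Nonempty (L ≅ Mero.divMod D)) ↔ Mero.HasRegularMero L := by
  constructor
  · rintro ⟨D, ⟨α⟩⟩
    exact hasRegularMero_of_gen (Or.inl inferInstance) hL (schDense_trivLocus D)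
      (TensH8.isGen_of_iso α.symm (isGen_oneSec D))
  · exact exists_divisor_of_hasRegularMero hL

end Groth.Agent.MeroPic
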