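import Mathlib
import Groth.Prelude.Def_EtMil
import Groth.Agent.Lib.Milnor3_helper6
import Groth.Agent.Lib.AzumayaFibre_helper6
import Groth.Agent.S14949

/-!
# Milnor squares, part 4: Azumaya algebras (helper6)

* `S2 B A'`: the `Bool`-indexed family `(B, A')`, which detects vanishing of `B'`-modules.
* `bijective_of_pair`, `isAzumaya_of_pair`.
-/

namespace Groth.Agent.Lib.Milnor

open TensorProduct
open Groth.Agent.Lib.AzumayaFibre

universe u

/-- the family `(B, A')` indexed by `Bool` -/
def S2 (B A' : Type u) : Bool → Type u
  | true => B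
  | false => A'

instance instCommRingS2 (B A' : Type u) [CommRing B] [CommRing A'] : ∀ i, CommRing (S2 B A' i)
  | true => inferInstanceAs (CommRing B)
  | false => inferInstanceAs (CommRing A')

instance instAlgebraS2 (B' B A' : Type u) [CommRing B'] [CommRing B] [CommRing A'] [Algebra B' B]
    [Algebra B' A'] : ∀ i, Algebra B' (S2 B A' i)
  | true => inferInstanceAs (Algebra B' B)
  | false => inferInstanceAs (Algebra B' A')

section

variable {B' B A' A : Type u} [CommRing B'] [CommRing B] [CommRing A'] [CommRing A]
  [Algebra B' B] [Algebra B' A'] [Algebra B A] [Algebra A' A] [Algebra B' A]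
  [IsScalarTower B' B A] [IsScalarTower B' A' A]

theorem detects_pair (hsq : EtMil.IsFibreSquare B' B A' A) : Detects B' (S2 B A') := by
  intro M _ _ _ h
  haveI : Subsingleton (B ⊗[B'] M) := h true
  haveI : Subsingleton (A' ⊗[B'] M) := h false
  exact Groth.Agent.S14949.result B' B A' A hsq M

theorem bijective_of_pair (hsq : EtMil.IsFibreSquare B' B A' A)
    {P : Type u} [AddCommGroup P] [Module B' P] [Module.Finite B' P]
    {Q : Type u} [AddCommGroup Q] [Module B' Q] [Module.Finite B' Q] [Module.Projective B' Q]
    (f : P →ₗ[B'] Q) (h1 : Function.Bijective (f.lTensor B))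
    (h2 : Function.Bijective (f.lTensor A')) : Function.Bijective f :=
  bijective_of (detects_pair hsq) f (fun i => by
    cases i
    · exact h2
    · exact h1)

theorem isAzumaya_of_pair (hsq : EtMil.IsFibreSquare B' B A' A)
    (D' : Type u) [Ring D'] [Algebra B' D'] [Module.Finite B' D'] [Module.Projective B' D']
    (h1 : IsAzumaya B (B ⊗[B'] D')) (h2 : IsAzumaya A' (A' ⊗[B'] D')) : IsAzumaya B' D' :=
  isAzumaya_of_detects D' (detects_pair hsq) (fun i => by
    cases i
    · exact h2
    · exact h1)

end

end Groth.Agent.Lib.Milnor
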