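import Mathlib
import Groth.Prelude.Def_EtMil
import Groth.Agent.Lib.Milnor_helper6

/-!
# General lemmas for finite presentation over a Milnor square (helper5)

* `tau`, `Phi`: for `j ∈ J = ker (B' → B)` the `B'`-linear maps `A' → B'`, `a' ↦ ` (the element of
  `J` corresponding to `a' * j`), and `A' ⊗ L → L`, `a' ⊗ l ↦ tau a' • l`.
* `theta_inj`, `theta_surj`: base change of a short exact sequence with flat cokernel.
-/

set_option autoImplicit false
universe u

namespace Groth.Agent.MilnorFP

open TensorProduct Groth.Agent.Lib.Milnor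

section Tau

variable {B' B A' A : Type u} [CommRing B'] [CommRing B] [CommRing A'] [CommRing A]
  [Algebra B' B] [Algebra B' A'] [Algebra B A] [Algebra A' A] [Algebra B' A]
  [IsScalarTower B' B A] [IsScalarTower B' A' A]
  (hsq : EtMil.IsFibreSquare B' B A' A)

include hsq in
theorem exists_tau (j : B') (hj : algebraMap B' B j = 0) (a' : A') :
    ∃ t : B', algebraMap B' B t = 0 ∧ algebraMap B' A' t = a' * algebraMap B' A' j := by
  refine exists_pair hsq 0 _ ?_
  rw [map_zero, map_mul, ← compat (B := B) j, hj, map_zero, mul_zero]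

/-- For `j ∈ ker (B' → B)`, the `B'`-linear map `A' → B'` sending `a'` to the element of the kernel
lying over `a' * j`. -/
noncomputable def tau (j : B') (hj : algebraMap B' B j = 0) : A' →ₗ[B'] B' where
  toFun a' := Classical.choose (exists_tau hsq j hj a')
  map_add' x y := by
    have hx := Classical.choose_spec (exists_tau hsq j hj x)
    have hy := Classical.choose_spec (exists_tau hsq j hj y)
    have hxy := Classical.choose_spec (exists_tau hsq j hj (x + y))
    refine pair_ext hsq _ _ ?_ ?_
    · rw [hxy.1, map_add, hx.1, hy.1, add_zero]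
    · rw [hxy.2, map_add, hx.2, hy.2, add_mul]
  map_smul' r x := by
    have hx := Classical.choose_spec (exists_tau hsq j hj x)
    have hrx := Classical.choose_spec (exists_tau hsq j hj (r • x))
    refine pair_ext hsq _ _ ?_ ?_
    · rw [hrx.1, RingHom.id_apply, smul_eq_mul, map_mul, hx.1, mul_zero]
    · rw [hrx.2, RingHom.id_apply, smul_eq_mul, map_mul, hx.2, Algebra.smul_def, mul_assoc]

theorem tau_fst (j : B') (hj : algebraMap B' B j = 0) (a' : A') :
    algebraMap B' B (tau hsq j hj a') = 0 :=
  (Classical.choose_spec (exists_tau hsq j hj a')).1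

theorem tau_snd (j : B') (hj : algebraMap B' B j = 0) (a' : A') :
    algebraMap B' A' (tau hsq j hj a') = a' * algebraMap B' A' j :=
  (Classical.choose_spec (exists_tau hsq j hj a')).2

theorem tau_one (j : B') (hj : algebraMap B' B j = 0) : tau hsq j hj 1 = j := by
  refine pair_ext hsq _ _ ?_ ?_
  · rw [tau_fst, hj]
  · rw [tau_snd, one_mul]

variable {L : Type*} [AddCommGroup L] [Module B' L]

/-- `A' ⊗ L → L`, `a' ⊗ l ↦ tau a' • l`. -/
noncomputable def Phi (j : B') (hj : algebraMap B' B j = 0) : A' ⊗[B'] L →ₗ[B'] L :=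
  (TensorProduct.lid B' L).toLinearMap ∘ₗ (tau hsq j hj).rTensor L

theorem Phi_tmul (j : B') (hj : algebraMap B' B j = 0) (a' : A') (l : L) :
    Phi hsq j hj (a' ⊗ₜ[B'] l) = tau hsq j hj a' • l := by
  simp [Phi]

theorem Phi_one_tmul (j : B') (hj : algebraMap B' B j = 0) (l : L) :
    Phi hsq j hj ((1 : A') ⊗ₜ[B'] l) = j • l := by
  rw [Phi_tmul, tau_one]

end Tau

section Theta

variable {R : Type*} [CommRing R] {X : Type*} [CommRing X] [Algebra R X]
  {L F G FX GX : Type*} [AddCommGroup L] [AddCommGroup F] [AddCommGroup G] [AddCommGroup FX]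
  [AddCommGroup GX] [Module R L] [Module R F] [Module R G]
  [Module R FX] [Module X FX] [IsScalarTower R X FX]
  [Module R GX] [Module X GX] [IsScalarTower R X GX]
  (ι : L →ₗ[R] F) (π : F →ₗ[R] G)
  (imgF : F →ₗ[R] FX) (hF : IsBaseChange X imgF) (g : G →ₗ[R] GX) (hG : IsBaseChange X g)
  (ψ : FX →ₗ[X] GX) (hψ : ∀ f, ψ (imgF f) = g (π f))

include hψ in
theorem theta_comm (ξ : X ⊗[R] F) : ψ (hF.equiv ξ) = hG.equiv (π.lTensor X ξ) := by
  induction ξ using TensorProduct.induction_on with
  | zero => simp
  | tmul x f =>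
    rw [LinearMap.lTensor_tmul, IsBaseChange.equiv_tmul, IsBaseChange.equiv_tmul, map_smul, hψ]
  | add a b ha hb => rw [map_add, map_add, ha, hb, map_add, map_add]

theorem theta_inj [Module.Flat R G] (hι : Function.Injective ι) (hex : Function.Exact ι π)
    (hπ : Function.Surjective π) (ζ : X ⊗[R] L) (h : hF.equiv (ι.lTensor X ζ) = 0) : ζ = 0 := by
  have h1 : ι.lTensor X ζ = 0 := hF.equiv.injective (h.trans (map_zero _).symm)
  exact LinearMap.lTensor_injective_of_exact_of_flat π hπ ι hι hex X (h1.trans (map_zero _).symm)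

include hψ hG in
theorem theta_surj (hex : Function.Exact ι π) (hπ : Function.Surjective π) (x : FX)
    (hx : ψ x = 0) : ∃ ζ : X ⊗[R] L, hF.equiv (ι.lTensor X ζ) = x := by
  obtain ⟨ξ, rfl⟩ := hF.equiv.surjective x
  have h1 : π.lTensor X ξ = 0 := by
    apply hG.equiv.injective
    rw [← theta_comm π imgF hF g hG ψ hψ, hx, map_zero]
  obtain ⟨ζ, hζ⟩ := (lTensor_exact X hex hπ ξ).mp h1
  exact ⟨ζ, by rw [hζ]⟩

theorem theta_tmul (x : X) (l : L) :
    hF.equiv (ι.lTensor X (x ⊗ₜ[R] l)) = x • imgF (ι l) := by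
  rw [LinearMap.lTensor_tmul, IsBaseChange.equiv_tmul]

include hψ hF hG in
/-- the kernel of `ψ` is the `X`-span of the image of `L` -/
theorem ker_eq_span (hex : Function.Exact ι π) (hπ : Function.Surjective π) :
    LinearMap.ker ψ = Submodule.span X (Set.range (fun l : L => imgF (ι l))) := by
  apply le_antisymm
  · intro x hx
    obtain ⟨ζ, rfl⟩ := theta_surj ι π imgF hF g hG ψ hψ hex hπ x hx
    induction ζ using TensorProduct.induction_on with
    | zero => simp
    | tmul x l =>
      rw [theta_tmul]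
      exact Submodule.smul_mem _ _ (Submodule.subset_span ⟨l, rfl⟩)
    | add a b ha hb =>
      have ha' : ψ (hF.equiv (ι.lTensor X a)) = 0 := by
        rw [theta_comm π imgF hF g hG ψ hψ, ← LinearMap.comp_apply, ← LinearMap.lTensor_comp,
          hex.linearMap_comp_eq_zero]
        simp
      have hb' : ψ (hF.equiv (ι.lTensor X b)) = 0 := by
        rw [theta_comm π imgF hF g hG ψ hψ, ← LinearMap.comp_apply, ← LinearMap.lTensor_comp,
          hex.linearMap_comp_eq_zero]
        simp
      rw [map_add, map_add]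
      exact add_mem (ha ha') (hb hb')
  · rw [Submodule.span_le]
    rintro _ ⟨l, rfl⟩
    show ψ (imgF (ι l)) = 0
    rw [hψ, hex.apply_apply_eq_zero, map_zero]

include hψ hF hG in
theorem psi_surjective (hπ : Function.Surjective π) : Function.Surjective ψ := by
  intro y
  obtain ⟨ξ, rfl⟩ := hG.equiv.surjective y
  obtain ⟨ξ', rfl⟩ := LinearMap.lTensor_surjective X hπ ξ
  exact ⟨hF.equiv ξ', theta_comm π imgF hF g hG ψ hψ ξ'⟩

end Theta

end Groth.Agent.MilnorFP
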