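import Mathlib
import Groth.Prelude.Def_EtMil
import Groth.Agent.Lib.MilnorGlueFin_helper5

/-!
# The relative situation over a Milnor square: basic facts and finiteness of glued modules (helper5)
-/

set_option autoImplicit false
universe u

namespace Groth.Agent.MilnorGlueRel

open TensorProduct Groth.Agent.MilnorAlg

section Rel

variable {B' B A' A : Type u} [CommRing B'] [CommRing B] [CommRing A'] [CommRing A]
  [Algebra B' B] [Algebra B' A'] [Algebra B A] [Algebra A' A] [Algebra B' A]
  [IsScalarTower B' B A] [IsScalarTower B' A' A]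
  (hsq : EtMil.IsFibreSquare B' B A' A)
  {D' D C' C : Type u} [CommRing D'] [CommRing D] [CommRing C'] [CommRing C]
  [Algebra B' D'] [Algebra B D] [Algebra A' C'] [Algebra A C]
  [Algebra D' D] [Algebra B' D] [IsScalarTower B' B D] [IsScalarTower B' D' D]
  [Algebra.IsPushout B' B D' D]
  [Algebra D' C'] [Algebra B' C'] [IsScalarTower B' A' C'] [IsScalarTower B' D' C']
  [Algebra.IsPushout B' A' D' C']
  [Algebra D' C] [Algebra B' C] [IsScalarTower B' A C] [IsScalarTower B' D' C]
  [Algebra.IsPushout B' A D' C]
  [Algebra D C] [IsScalarTower D' D C] [Algebra B C] [IsScalarTower B A C] [IsScalarTower B D C]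
  [Algebra C' C] [IsScalarTower D' C' C] [Algebra A' C] [IsScalarTower A' A C]
  [IsScalarTower A' C' C]

include hsq in
theorem surj_D : Function.Surjective (algebraMap D' D) := by
  haveI : Algebra.IsPushout B' D' B D := Algebra.IsPushout.symm inferInstance
  exact surjective_of_isPushout (A' := B') (A := B) (C' := D') (C := D) (sq_surj hsq)

include hsq D' in
theorem isPushout_AC : Algebra.IsPushout A' C' A C := by
  haveI : IsScalarTower B' C' C := IsScalarTower.of_algebraMap_eq fun x => by
    rw [IsScalarTower.algebraMap_apply B' D' C, IsScalarTower.algebraMap_apply D' C' C,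
      ← IsScalarTower.algebraMap_apply B' D' C']
  have h1 : Algebra.IsPushout B' A D' C := inferInstance
  have h2 : Algebra.IsPushout A' A C' C :=
    (Algebra.IsPushout.comp_iff (R := B') (S := A') (T := A) (R' := D') (S' := C') (T' := C)).1 h1
  exact h2.symm

include hsq D' in
theorem surj_C : Function.Surjective (algebraMap C' C) := by
  haveI : Algebra.IsPushout A' C' A C := isPushout_AC hsq (D' := D')
  exact surjective_of_isPushout (A' := A') (A := A) (C' := C') (C := C) hsq.1

include hsq in
/-- the kernel of `D' → D` surjects onto the kernel of `C' → C` -/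
theorem ker_lift (κ : C') (hκ : algebraMap C' C κ = 0) :
    ∃ j : D', algebraMap D' D j = 0 ∧ algebraMap D' C' j = κ := by
  haveI : Algebra.IsPushout A' C' A C := isPushout_AC hsq (D' := D')
  have hmem : κ ∈ (RingHom.ker (algebraMap A' A)).map (algebraMap A' C') := by
    rw [← ker_eq_map (A' := A') (A := A) (C' := C') (C := C) hsq.1]
    exact hκ
  -- liftable elements
  have base : ∀ c : C', ∀ ι : A', algebraMap A' A ι = 0 →
      ∃ j : D', algebraMap D' D j = 0 ∧ algebraMap D' C' j = c * algebraMap A' C' ι := by
    intro c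
    have hc : c ∈ Submodule.span A' (Set.range (algebraMap D' C')) :=
      mem_span_range (A' := B') (C' := A') (A := D') (C := C') c
    induction hc using Submodule.span_induction with
    | mem x hx =>
      intro ι hι
      obtain ⟨d, rfl⟩ := hx
      obtain ⟨j, hj0, hji⟩ := sq_exists_ker hsq ι hι
      refine ⟨d * algebraMap B' D' j, ?_, ?_⟩
      · rw [map_mul, ← IsScalarTower.algebraMap_apply B' D' D,
          IsScalarTower.algebraMap_apply B' B D, hj0, map_zero, mul_zero]
      · rw [map_mul, ← IsScalarTower.algebraMap_apply B' D' C',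
          IsScalarTower.algebraMap_apply B' A' C', hji]
    | zero =>
      intro ι _
      exact ⟨0, map_zero _, by rw [map_zero, zero_mul]⟩
    | add x y _ _ hx hy =>
      intro ι hι
      obtain ⟨jx, hjx0, hjx⟩ := hx ι hι
      obtain ⟨jy, hjy0, hjy⟩ := hy ι hι
      exact ⟨jx + jy, by rw [map_add, hjx0, hjy0, add_zero], by rw [map_add, hjx, hjy, add_mul]⟩
    | smul r x _ hx =>
      intro ι hι
      obtain ⟨j, hj0, hj⟩ := hx (r * ι) (by rw [map_mul, hι, mul_zero])
      refine ⟨j, hj0, ?_⟩
      rw [hj, map_mul, Algebra.smul_def]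
      ring
  have key : ∀ x ∈ (RingHom.ker (algebraMap A' A)).map (algebraMap A' C'), ∀ c : C',
      ∃ j : D', algebraMap D' D j = 0 ∧ algebraMap D' C' j = c * x := by
    intro x hx
    refine Submodule.span_induction ?_ ?_ ?_ ?_ hx
    · rintro _ ⟨ι, hι, rfl⟩ c
      exact base c ι hι
    · intro c
      exact ⟨0, map_zero _, by rw [map_zero, mul_zero]⟩
    · intro x y _ _ hx hy c
      obtain ⟨jx, hjx0, hjx⟩ := hx c
      obtain ⟨jy, hjy0, hjy⟩ := hy c
      exact ⟨jx + jy, by rw [map_add, hjx0, hjy0, add_zero], by rw [map_add, hjx, hjy, mul_add]⟩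
    · intro r x _ hx c
      obtain ⟨j, hj0, hj⟩ := hx (c * r)
      exact ⟨j, hj0, by rw [hj, smul_eq_mul, mul_assoc]⟩
  obtain ⟨j, hj0, hj⟩ := key κ hmem 1
  exact ⟨j, hj0, by rw [hj, one_mul]⟩

include hsq in
/-- **S6921**: in the relative situation the glued module of finite modules is finite. -/
theorem glue_finite {N M' : Type u} [AddCommGroup N] [Module D N] [Module D' N]
    [IsScalarTower D' D N] [AddCommGroup M'] [Module C' M'] [Module D' M']
    [IsScalarTower D' C' M'] (φ : C ⊗[D] N ≃ₗ[C] C ⊗[C'] M')
    [Module.Finite D N] [Module.Finite C' M'] : Module.Finite D' ↥(EtMil.glue D' φ) := by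
  rw [Module.Finite.iff_fg]
  exact Groth.Agent.MilnorGlueFin.glue_fg_w φ (surj_C hsq (D' := D'))
    (surj_D hsq) (ker_lift hsq)

end Rel

end Groth.Agent.MilnorGlueRel
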