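import Mathlib
import Groth.Prelude.Def_EtMil
import Groth.Agent.Lib.MilnorFPGen_helper5
import Groth.Agent.Lib.MilnorGlueRel_helper5

/-!
# Finite generation of the kernel of a presentation over a Milnor square (helper5)
-/

set_option autoImplicit false
universe u

namespace Groth.Agent.MilnorFP

open TensorProduct Groth.Agent.Lib.Milnor Groth.Agent.MilnorAlg

section Ker

variable {B' B A' A : Type u} [CommRing B'] [CommRing B] [CommRing A'] [CommRing A]
  [Algebra B' B] [Algebra B' A'] [Algebra B A] [Algebra A' A] [Algebra B' A]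
  [IsScalarTower B' B A] [IsScalarTower B' A' A]
  (hsq : EtMil.IsFibreSquare B' B A' A)
  {D' D C' : Type u} [CommRing D'] [CommRing D] [CommRing C']
  [Algebra B' D'] [Algebra B D] [Algebra A' C']
  [Algebra D' D] [Algebra B' D] [IsScalarTower B' B D] [IsScalarTower B' D' D]
  [Algebra.IsPushout B' B D' D]
  [Algebra D' C'] [Algebra B' C'] [IsScalarTower B' A' C'] [IsScalarTower B' D' C']
  [Algebra.IsPushout B' A' D' C']
  {n : ℕ}
  {G N M' : Type u} [AddCommGroup G] [Module D' G] [Module B' G] [IsScalarTower B' D' G]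
  [Module.Flat B' G]
  [AddCommGroup N] [Module D N] [Module B N] [IsScalarTower B D N] [Module B' N]
  [IsScalarTower B' B N]
  [AddCommGroup M'] [Module C' M'] [Module A' M'] [IsScalarTower A' C' M'] [Module B' M']
  [IsScalarTower B' A' M']

/-- componentwise `D' → D` -/
noncomputable def imgB (n : ℕ) : (Fin n → D') →ₗ[B'] (Fin n → D) :=
  ((IsScalarTower.toAlgHom B' D' D).toLinearMap).compLeft (Fin n)

theorem imgB_apply (f : Fin n → D') (i : Fin n) :
    imgB (B' := B') (D := D) n f i = algebraMap D' D (f i) := rfl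

theorem imgB_smul (d : D') (f : Fin n → D') :
    imgB (B' := B') (D := D) n (d • f) = algebraMap D' D d • imgB (B' := B') (D := D) n f := by
  ext i
  simp [imgB_apply]

theorem isBaseChange_imgB {X : Type u} [CommRing X] [Algebra B' X] [Algebra X D] [IsScalarTower B' X D]
    [h : Algebra.IsPushout B' X D' D] : IsBaseChange X (imgB (B' := B') (D' := D') (D := D) n) :=
  IsBaseChange.finitePow (Fin n) h.out

include hsq in
/-- `A'`-side: `J • ker π` is contained in a finitely generated submodule of `ker π`. -/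
theorem exists_fg_ker_smul (π : (Fin n → D') →ₗ[D'] G) (hπ : Function.Surjective π)
    (gA : G →ₗ[B'] M') (hgA : IsBaseChange A' gA) (ψA : (Fin n → C') →ₗ[C'] M')
    (hψA : ∀ f, ψA (imgB (B' := B') (D := C') n f) = gA (π f))
    [Module.FinitePresentation C' M'] :
    ∃ S : Submodule D' (Fin n → D'), S.FG ∧ S ≤ LinearMap.ker π ∧
      ∀ (j : B') (_ : algebraMap B' B j = 0) (l : Fin n → D'), l ∈ LinearMap.ker π → j • l ∈ S := by
  classical
  obtain ⟨L', hL'⟩ : ∃ L' : Submodule D' (Fin n → D'), L' = LinearMap.ker π := ⟨_, rfl⟩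
  obtain ⟨ι₀, hι₀d⟩ : ∃ ι₀ : ↥L' →ₗ[B'] (Fin n → D'), ι₀ = (L'.subtype).restrictScalars B' :=
    ⟨_, rfl⟩
  obtain ⟨π₀, hπ₀d⟩ : ∃ π₀ : (Fin n → D') →ₗ[B'] G, π₀ = π.restrictScalars B' := ⟨_, rfl⟩
  have hι₀ : Function.Injective ι₀ := by rw [hι₀d]; exact Subtype.val_injective
  have hι₀a : ∀ l : ↥L', ι₀ l = (l : Fin n → D') := fun l => by rw [hι₀d]; rfl
  have hπ₀a : ∀ f, π₀ f = π f := fun f => by rw [hπ₀d]; rfl
  have hπ₀ : Function.Surjective π₀ := fun y => by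
    obtain ⟨x, hx⟩ := hπ y
    exact ⟨x, by rw [hπ₀a, hx]⟩
  have hex : Function.Exact ι₀ π₀ := by
    intro f
    rw [hπ₀a]
    constructor
    · intro hf
      exact ⟨⟨f, by rw [hL']; exact hf⟩, hι₀a _⟩
    · rintro ⟨l, rfl⟩
      rw [hι₀a]
      have h' : (l : Fin n → D') ∈ LinearMap.ker π := by rw [← hL']; exact l.2
      exact h'
  obtain ⟨imgA, himgA⟩ : ∃ imgA : (Fin n → D') →ₗ[B'] (Fin n → C'),
      imgA = imgB (B' := B') (D := C') n := ⟨_, rfl⟩
  have hFA : IsBaseChange A' imgA := by rw [himgA]; exact isBaseChange_imgB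
  obtain ⟨ψ₀, hψ₀d⟩ : ∃ ψ₀ : (Fin n → C') →ₗ[A'] M', ψ₀ = ψA.restrictScalars A' := ⟨_, rfl⟩
  have hψ₀a : ∀ x, ψ₀ x = ψA x := fun x => by rw [hψ₀d]; rfl
  have hψ₀ : ∀ f, ψ₀ (imgA f) = gA (π₀ f) := fun f => by rw [hψ₀a, himgA, hψA, hπ₀a]
  -- the kernel of `ψA`
  have hker := ker_eq_span ι₀ π₀ imgA hFA gA hgA ψ₀ hψ₀ hex hπ₀
  have hψsurj : Function.Surjective ψA := fun y => by
    obtain ⟨x, hx⟩ := psi_surjective π₀ imgA hFA gA hgA ψ₀ hψ₀ hπ₀ y
    exact ⟨x, by rw [← hψ₀a, hx]⟩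
  have hKfg : (LinearMap.ker ψA).FG := Module.FinitePresentation.fg_ker ψA hψsurj
  have hKspan : LinearMap.ker ψA =
      Submodule.span C' (Set.range (fun l : ↥L' => imgA (ι₀ l))) := by
    apply le_antisymm
    · intro x hx
      have hx' : x ∈ LinearMap.ker ψ₀ := by
        rw [LinearMap.mem_ker, hψ₀a]; exact hx
      rw [hker] at hx'
      exact Submodule.span_le_restrictScalars A' C' _ hx'
    · rw [Submodule.span_le]
      rintro _ ⟨l, rfl⟩
      show ψA (imgA (ι₀ l)) = 0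
      rw [← hψ₀a, hψ₀, hex.apply_apply_eq_zero, map_zero]
  rw [hKspan] at hKfg
  obtain ⟨T', hT'sub, hT'span⟩ := (Submodule.fg_span_iff_fg_span_finset_subset _).mp hKfg
  rw [← Set.image_univ] at hT'sub
  obtain ⟨T, -, hTimg⟩ := Finset.subset_set_image_iff.mp hT'sub
  -- the finitely generated submodule
  obtain ⟨S, hS⟩ : ∃ S : Submodule D' (Fin n → D'),
      S = Submodule.span D' ((fun l : ↥L' => (l : Fin n → D')) '' (T : Set ↥L')) := ⟨_, rfl⟩
  have hSL : S ≤ L' := by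
    rw [hS, Submodule.span_le]
    rintro _ ⟨l, -, rfl⟩
    exact l.2
  have hSfg : S.FG := by
    rw [hS]
    exact Submodule.fg_span (T.finite_toSet.image _)
  obtain ⟨ιS, hιSd⟩ : ∃ ιS : ↥S →ₗ[B'] ↥L', ιS = (Submodule.inclusion hSL).restrictScalars B' :=
    ⟨_, rfl⟩
  have hιSa : ∀ s : ↥S, ((ιS s : ↥L') : Fin n → D') = (s : Fin n → D') := fun s => by
    rw [hιSd]; rfl
  -- the map `A' ⊗ S → C'^n`
  obtain ⟨Ψ, hΨd⟩ : ∃ Ψ : A' ⊗[B'] ↥S →ₗ[B'] (Fin n → C'),
      Ψ = (hFA.equiv.toLinearMap.restrictScalars B') ∘ₗ (ι₀.lTensor A') ∘ₗ (ιS.lTensor A') :=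
    ⟨_, rfl⟩
  have hΨa : ∀ ζ, Ψ ζ = hFA.equiv (ι₀.lTensor A' (ιS.lTensor A' ζ)) := fun ζ => by
    rw [hΨd]; rfl
  have hΨt : ∀ (a' : A') (s : ↥S), Ψ (a' ⊗ₜ[B'] s) = a' • imgA (s : Fin n → D') := by
    intro a' s
    rw [hΨa, LinearMap.lTensor_tmul, LinearMap.lTensor_tmul, IsBaseChange.equiv_tmul, hι₀a, hιSa]
  have hΨsmul : ∀ (a' : A') (ζ : A' ⊗[B'] ↥S), Ψ (a' • ζ) = a' • Ψ ζ := by
    intro a' ζ
    induction ζ using TensorProduct.induction_on with
    | zero => simp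
    | tmul a'' s => rw [TensorProduct.smul_tmul', hΨt, hΨt, smul_eq_mul, mul_smul]
    | add x y hx hy => rw [smul_add, map_add, hx, hy, map_add, smul_add]
  have himg_smul : ∀ (d : D') (f : Fin n → D'), imgA (d • f) = algebraMap D' C' d • imgA f := by
    intro d f
    rw [himgA]
    exact imgB_smul d f
  have hΨd' : ∀ (d : D') (ζ : A' ⊗[B'] ↥S), ∃ ζ', Ψ ζ' = algebraMap D' C' d • Ψ ζ := by
    intro d ζ
    induction ζ using TensorProduct.induction_on with
    | zero => exact ⟨0, by simp⟩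
    | tmul a' s =>
      refine ⟨a' ⊗ₜ[B'] (d • s), ?_⟩
      rw [hΨt, hΨt, Submodule.coe_smul, himg_smul, smul_comm]
    | add x y hx hy =>
      obtain ⟨x', hx'⟩ := hx
      obtain ⟨y', hy'⟩ := hy
      exact ⟨x' + y', by rw [map_add, hx', hy', map_add, smul_add]⟩
  have hΨc : ∀ (c : C') (ζ : A' ⊗[B'] ↥S), ∃ ζ', Ψ ζ' = c • Ψ ζ := by
    intro c
    have hc : c ∈ Submodule.span A' (Set.range (algebraMap D' C')) :=
      mem_span_range (A' := B') (C' := A') (A := D') (C := C') c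
    induction hc using Submodule.span_induction with
    | mem x hx =>
      obtain ⟨d, rfl⟩ := hx
      exact hΨd' d
    | zero => exact fun ζ => ⟨0, by simp⟩
    | add x y _ _ hx hy =>
      intro ζ
      obtain ⟨x', hx'⟩ := hx ζ
      obtain ⟨y', hy'⟩ := hy ζ
      exact ⟨x' + y', by rw [map_add, hx', hy', add_smul]⟩
    | smul a' x _ hx =>
      intro ζ
      obtain ⟨x', hx'⟩ := hx ζ
      exact ⟨a' • x', by rw [hΨsmul, hx', smul_assoc]⟩
  have hrange : ∀ x ∈ Submodule.span C' (Set.range (fun l : ↥L' => imgA (ι₀ l))),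
      ∃ ζ, Ψ ζ = x := by
    intro x hx
    rw [hT'span, ← hTimg, Finset.coe_image] at hx
    induction hx using Submodule.span_induction with
    | mem y hy =>
      obtain ⟨t, ht, rfl⟩ := hy
      refine ⟨(1 : A') ⊗ₜ[B'] ⟨(t : Fin n → D'), ?_⟩, ?_⟩
      · rw [hS]
        exact Submodule.subset_span ⟨t, ht, rfl⟩
      · rw [hΨt, one_smul]
        exact congrArg imgA (hι₀a t).symm
    | zero => exact ⟨0, map_zero _⟩
    | add x y _ _ hx hy =>
      obtain ⟨x', hx'⟩ := hx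
      obtain ⟨y', hy'⟩ := hy
      exact ⟨x' + y', by rw [map_add, hx', hy']⟩
    | smul c x _ hx =>
      obtain ⟨x', rfl⟩ := hx
      exact hΨc c x'
  refine ⟨S, hSfg, by rw [← hL']; exact hSL, ?_⟩
  intro j hj l hl
  rw [← hL'] at hl
  -- `1 ⊗ l` comes from `A' ⊗ S`
  obtain ⟨ζ, hζ⟩ := hrange (imgA (ι₀ ⟨l, hl⟩)) (Submodule.subset_span ⟨⟨l, hl⟩, rfl⟩)
  have h1 : ιS.lTensor A' ζ = (1 : A') ⊗ₜ[B'] (⟨l, hl⟩ : ↥L') := by
    have h2 : ιS.lTensor A' ζ - (1 : A') ⊗ₜ[B'] (⟨l, hl⟩ : ↥L') = 0 := by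
      refine theta_inj ι₀ π₀ imgA hFA hι₀ hex hπ₀ _ ?_
      rw [map_sub, map_sub, ← hΨa, hζ, LinearMap.lTensor_tmul, IsBaseChange.equiv_tmul,
        one_smul, sub_self]
    exact sub_eq_zero.mp h2
  have h3 : ∀ ζ : A' ⊗[B'] ↥S, ((Phi hsq j hj (ιS.lTensor A' ζ) : ↥L') : Fin n → D') ∈ S := by
    intro ζ
    induction ζ using TensorProduct.induction_on with
    | zero => simp
    | tmul a' s =>
      rw [LinearMap.lTensor_tmul, Phi_tmul, Submodule.coe_smul_of_tower, hιSa]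
      exact Submodule.smul_of_tower_mem S _ s.2
    | add x y hx hy =>
      rw [map_add, map_add, Submodule.coe_add]
      exact add_mem hx hy
  have h4 := h3 ζ
  rw [h1, Phi_one_tmul] at h4
  exact h4

include hsq in
/-- The kernel of a presentation of a `B'`-flat `D'`-module whose base changes to `B` and `A'` are
finitely presented over `D` and `C'` is finitely generated. -/
theorem ker_fg (π : (Fin n → D') →ₗ[D'] G) (hπ : Function.Surjective π)
    (gB : G →ₗ[B'] N) (hgB : IsBaseChange B gB) (ψB : (Fin n → D) →ₗ[D] N)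
    (hψB : ∀ f, ψB (imgB (B' := B') (D := D) n f) = gB (π f))
    (gA : G →ₗ[B'] M') (hgA : IsBaseChange A' gA) (ψA : (Fin n → C') →ₗ[C'] M')
    (hψA : ∀ f, ψA (imgB (B' := B') (D := C') n f) = gA (π f))
    [Module.FinitePresentation D N] [Module.FinitePresentation C' M'] :
    (LinearMap.ker π).FG := by
  classical
  obtain ⟨S, hSfg, hSL, hSj⟩ := exists_fg_ker_smul hsq π hπ gA hgA ψA hψA
  obtain ⟨L', hL'⟩ : ∃ L' : Submodule D' (Fin n → D'), L' = LinearMap.ker π := ⟨_, rfl⟩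
  rw [← hL'] at hSL
  obtain ⟨ι₀, hι₀d⟩ : ∃ ι₀ : ↥L' →ₗ[B'] (Fin n → D'), ι₀ = (L'.subtype).restrictScalars B' :=
    ⟨_, rfl⟩
  obtain ⟨π₀, hπ₀d⟩ : ∃ π₀ : (Fin n → D') →ₗ[B'] G, π₀ = π.restrictScalars B' := ⟨_, rfl⟩
  have hι₀ : Function.Injective ι₀ := by rw [hι₀d]; exact Subtype.val_injective
  have hι₀a : ∀ l : ↥L', ι₀ l = (l : Fin n → D') := fun l => by rw [hι₀d]; rfl
  have hπ₀a : ∀ f, π₀ f = π f := fun f => by rw [hπ₀d]; rfl
  have hπ₀ : Function.Surjective π₀ := fun y => by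
    obtain ⟨x, hx⟩ := hπ y
    exact ⟨x, by rw [hπ₀a, hx]⟩
  have hex : Function.Exact ι₀ π₀ := by
    intro f
    rw [hπ₀a]
    constructor
    · intro hf
      exact ⟨⟨f, by rw [hL']; exact hf⟩, hι₀a _⟩
    · rintro ⟨l, rfl⟩
      rw [hι₀a]
      have h' : (l : Fin n → D') ∈ LinearMap.ker π := by rw [← hL']; exact l.2
      exact h'
  obtain ⟨imgBm, himgB⟩ : ∃ imgBm : (Fin n → D') →ₗ[B'] (Fin n → D),
      imgBm = imgB (B' := B') (D := D) n := ⟨_, rfl⟩
  have hFB : IsBaseChange B imgBm := by rw [himgB]; exact isBaseChange_imgB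
  obtain ⟨ψ₀, hψ₀d⟩ : ∃ ψ₀ : (Fin n → D) →ₗ[B] N, ψ₀ = ψB.restrictScalars B := ⟨_, rfl⟩
  have hψ₀a : ∀ x, ψ₀ x = ψB x := fun x => by rw [hψ₀d]; rfl
  have hψ₀ : ∀ f, ψ₀ (imgBm f) = gB (π₀ f) := fun f => by rw [hψ₀a, himgB, hψB, hπ₀a]
  have hker := ker_eq_span ι₀ π₀ imgBm hFB gB hgB ψ₀ hψ₀ hex hπ₀
  have hψsurj : Function.Surjective ψB := fun y => by
    obtain ⟨x, hx⟩ := psi_surjective π₀ imgBm hFB gB hgB ψ₀ hψ₀ hπ₀ y
    exact ⟨x, by rw [← hψ₀a, hx]⟩
  have hKfg : (LinearMap.ker ψB).FG := Module.FinitePresentation.fg_ker ψB hψsurj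
  have hKspan : LinearMap.ker ψB =
      Submodule.span D (Set.range (fun l : ↥L' => imgBm (ι₀ l))) := by
    apply le_antisymm
    · intro x hx
      have hx' : x ∈ LinearMap.ker ψ₀ := by
        rw [LinearMap.mem_ker, hψ₀a]; exact hx
      rw [hker] at hx'
      exact Submodule.span_le_restrictScalars B D _ hx'
    · rw [Submodule.span_le]
      rintro _ ⟨l, rfl⟩
      show ψB (imgBm (ι₀ l)) = 0
      rw [← hψ₀a, hψ₀, hex.apply_apply_eq_zero, map_zero]
  rw [hKspan] at hKfg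
  obtain ⟨T', hT'sub, hT'span⟩ := (Submodule.fg_span_iff_fg_span_finset_subset _).mp hKfg
  rw [← Set.image_univ] at hT'sub
  obtain ⟨T, -, hTimg⟩ := Finset.subset_set_image_iff.mp hT'sub
  obtain ⟨S₁, hS₁⟩ : ∃ S₁ : Submodule D' (Fin n → D'),
      S₁ = Submodule.span D' ((fun l : ↥L' => (l : Fin n → D')) '' (T : Set ↥L')) := ⟨_, rfl⟩
  have hS₁L : S₁ ≤ L' := by
    rw [hS₁, Submodule.span_le]
    rintro _ ⟨l, -, rfl⟩
    exact l.2
  have hS₁fg : S₁.FG := by
    rw [hS₁]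
    exact Submodule.fg_span (T.finite_toSet.image _)
  have himg_smul : ∀ (d : D') (f : Fin n → D'), imgBm (d • f) = algebraMap D' D d • imgBm f := by
    intro d f
    rw [himgB]
    exact imgB_smul d f
  have hsurjD : Function.Surjective (algebraMap D' D) :=
    Groth.Agent.MilnorGlueRel.surj_D hsq
  have hlift : ∀ y ∈ Submodule.span D (Set.range (fun l : ↥L' => imgBm (ι₀ l))),
      ∃ s ∈ S₁, imgBm s = y := by
    intro y hy
    rw [hT'span, ← hTimg, Finset.coe_image] at hy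
    induction hy using Submodule.span_induction with
    | mem y hy =>
      obtain ⟨t, ht, rfl⟩ := hy
      refine ⟨(t : Fin n → D'), ?_, ?_⟩
      · rw [hS₁]
        exact Submodule.subset_span ⟨t, ht, rfl⟩
      · exact congrArg imgBm (hι₀a t).symm
    | zero => exact ⟨0, zero_mem _, map_zero _⟩
    | add x y _ _ hx hy =>
      obtain ⟨x', hx'S, hx'⟩ := hx
      obtain ⟨y', hy'S, hy'⟩ := hy
      exact ⟨x' + y', add_mem hx'S hy'S, by rw [map_add, hx', hy']⟩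
    | smul d x _ hx =>
      obtain ⟨x', hx'S, rfl⟩ := hx
      obtain ⟨d', rfl⟩ := hsurjD d
      exact ⟨d' • x', Submodule.smul_mem _ _ hx'S, himg_smul d' x'⟩
  have h2 : ∀ x ∈ (RingHom.ker (algebraMap B' B)) • (⊤ : Submodule B' ↥L'),
      (x : Fin n → D') ∈ S := by
    intro x hx
    refine Submodule.smul_induction_on hx ?_ ?_
    · intro j hj l _
      rw [Submodule.coe_smul_of_tower]
      exact hSj j (RingHom.mem_ker.mp hj) l (by rw [← hL']; exact l.2)
    · intro x y hx hy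
      rw [Submodule.coe_add]
      exact add_mem hx hy
  have hle : L' ≤ S₁ ⊔ S := by
    intro l hl
    obtain ⟨s, hs, hsl⟩ := hlift (imgBm (ι₀ ⟨l, hl⟩)) (Submodule.subset_span ⟨⟨l, hl⟩, rfl⟩)
    rw [hι₀a] at hsl
    have hδ : l - s ∈ L' := sub_mem hl (hS₁L hs)
    have h0 : imgBm (l - s) = 0 := by rw [map_sub, hsl, sub_self]
    have h1 : ((1 : B) ⊗ₜ[B'] (⟨l - s, hδ⟩ : ↥L')) = 0 := by
      refine theta_inj ι₀ π₀ imgBm hFB hι₀ hex hπ₀ _ ?_
      rw [LinearMap.lTensor_tmul, IsBaseChange.equiv_tmul, one_smul, hι₀a]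
      exact h0
    rw [tmul_eq_zero_iff (surj_B hsq)] at h1
    have h3 := h2 _ h1
    have h4 : l = s + (l - s) := by abel
    rw [h4]
    exact Submodule.add_mem_sup hs h3
  have heq : L' = S₁ ⊔ S := le_antisymm hle (sup_le hS₁L hSL)
  rw [← hL', heq]
  exact hS₁fg.sup hSfg

end Ker

end Groth.Agent.MilnorFP
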