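import Mathlib
import Groth.Prelude.Def_EtMil
import Groth.Agent.Lib.MilnorFPKer_helper5
import Groth.Agent.Lib.MilnorFlat_helper4

/-!
# Finite presentation of glued modules in the relative situation (helper5)
-/

set_option autoImplicit false
universe u

namespace Groth.Agent.MilnorFP

open TensorProduct Groth.Agent.Lib.Milnor Groth.Agent.MilnorAlg

section Main

variable {B' B A' A : Type u} [CommRing B'] [CommRing B] [CommRing A'] [CommRing A]
  [Algebra B' B] [Algebra B' A'] [Algebra B A] [Algebra A' A] [Algebra B' A]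
  [IsScalarTower B' B A] [IsScalarTower B' A' A]
  (hsq : EtMil.IsFibreSquare B' B A' A)
  {D' D C' C : Type u} [CommRing D'] [CommRing D] [CommRing C'] [CommRing C]
  [Algebra B' D'] [Algebra B D] [Algebra A' C'] [Algebra A C]
  [Algebra D' D] [Algebra B' D] [IsScalarTower B' B D] [IsScalarTower B' D' D]
  [Algebra.IsPushout B' B D' D]
  [Algebra D' C'] [Algebra B' C'] [IsScalarTower B' A' C'] [IsScalarTower B' D' C']
  [Algebra.IsPushout B' A' D' C']
  [Algebra D' C] [Algebra B' C] [IsScalarTower B' A C] [IsScalarTower B' D' C]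
  [Algebra.IsPushout B' A D' C]
  [Algebra D C] [IsScalarTower D' D C] [Algebra B C] [IsScalarTower B A C] [IsScalarTower B D C]
  [Algebra C' C] [IsScalarTower D' C' C] [Algebra A' C] [IsScalarTower A' A C]
  [IsScalarTower A' C' C]
  {N M' : Type u} [AddCommGroup N] [Module D N] [Module D' N] [IsScalarTower D' D N]
  [AddCommGroup M'] [Module C' M'] [Module D' M'] [IsScalarTower D' C' M']
  (φ : C ⊗[D] N ≃ₗ[C] C ⊗[C'] M')
  [Module B N] [IsScalarTower B D N] [Module A' M'] [IsScalarTower A' C' M']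

include hsq in
/-- **S6922** (without using the factorisation hypothesis). -/
theorem glue_finitePresentation
    [Module.FinitePresentation D N] [Module.Flat B N] [Module.FinitePresentation C' M']
    [Module.Flat A' M'] : Module.FinitePresentation D' ↥(EtMil.glue D' φ) := by
  classical
  -- `B'`-module structures
  letI : Module B' N := Module.compHom N (algebraMap B' B)
  haveI : IsScalarTower B' B N := IsScalarTower.of_algebraMap_smul fun r x => rfl
  haveI : IsScalarTower B' D' N := IsScalarTower.of_algebraMap_smul fun r x => by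
    show algebraMap B' D' r • x = algebraMap B' B r • x
    rw [← IsScalarTower.algebraMap_smul D (algebraMap B' D' r) x,
      ← IsScalarTower.algebraMap_apply B' D' D, IsScalarTower.algebraMap_apply B' B D,
      IsScalarTower.algebraMap_smul]
  letI : Module B' M' := Module.compHom M' (algebraMap B' A')
  haveI : IsScalarTower B' A' M' := IsScalarTower.of_algebraMap_smul fun r x => rfl
  haveI : IsScalarTower B' D' M' := IsScalarTower.of_algebraMap_smul fun r x => by
    show algebraMap B' D' r • x = algebraMap B' A' r • x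
    rw [← IsScalarTower.algebraMap_smul C' (algebraMap B' D' r) x,
      ← IsScalarTower.algebraMap_apply B' D' C', IsScalarTower.algebraMap_apply B' A' C',
      IsScalarTower.algebraMap_smul]
  -- pushouts
  haveI hAC : Algebra.IsPushout A' A C' C :=
    (Groth.Agent.MilnorGlueRel.isPushout_AC hsq (D' := D') (C' := C') (C := C)).symm
  haveI : IsScalarTower B' D C := IsScalarTower.of_algebraMap_eq fun x => by
    rw [IsScalarTower.algebraMap_apply B' D' C, IsScalarTower.algebraMap_apply D' D C,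
      ← IsScalarTower.algebraMap_apply B' D' D]
  haveI hBD : Algebra.IsPushout B A D C := by
    have h1 : Algebra.IsPushout B' A D' C := inferInstance
    exact (Algebra.IsPushout.comp_iff (R := B') (S := B) (T := A) (R' := D') (S' := D)
      (T' := C)).1 h1
  -- the isomorphism over the base square
  obtain ⟨eN, heN⟩ : ∃ eN : C ⊗[D] N ≃ₗ[A] A ⊗[B] N,
      eN = Algebra.IsPushout.cancelBaseChange B A D C N := ⟨_, rfl⟩
  obtain ⟨eM, heM⟩ : ∃ eM : C ⊗[C'] M' ≃ₗ[A] A ⊗[A'] M',
      eM = Algebra.IsPushout.cancelBaseChange A' A C' C M' := ⟨_, rfl⟩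
  have heN1 : ∀ x : N, eN.symm ((1 : A) ⊗ₜ[B] x) = (1 : C) ⊗ₜ[D] x := fun x => by
    rw [heN, Algebra.IsPushout.cancelBaseChange_symm_tmul, map_one]
  have heM1 : ∀ x : M', eM ((1 : C) ⊗ₜ[C'] x) = (1 : A) ⊗ₜ[A'] x := fun x => by
    rw [heM, Algebra.IsPushout.cancelBaseChange_tmul]
  obtain ⟨φ₀, hφ₀⟩ : ∃ φ₀ : A ⊗[B] N ≃ₗ[A] A ⊗[A'] M',
      φ₀ = eN.symm ≪≫ₗ (φ.restrictScalars A) ≪≫ₗ eM := ⟨_, rfl⟩
  have hmem : ∀ x : N × M', x ∈ EtMil.glue B' φ₀ ↔ x ∈ EtMil.glue D' φ := by
    intro x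
    rw [mem_glue, mem_glue, hφ₀]
    simp only [LinearEquiv.trans_apply, LinearEquiv.restrictScalars_apply]
    rw [heN1, ← heM1 x.2]
    exact eM.injective.eq_iff
  -- the glued module as a `B'`-module
  obtain ⟨e, he⟩ : ∃ e : ↥(EtMil.glue D' φ) ≃ₗ[B'] ↥(EtMil.glue B' φ₀),
      ∀ x, ((e x : ↥(EtMil.glue B' φ₀)) : N × M') = (x : N × M') :=
    ⟨{ toFun := fun x => ⟨x.1, (hmem x.1).2 x.2⟩
       invFun := fun x => ⟨x.1, (hmem x.1).1 x.2⟩
       map_add' := fun x y => rfl
       map_smul' := fun r x => rfl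
       left_inv := fun x => rfl
       right_inv := fun x => rfl }, fun x => rfl⟩
  haveI : Module.Flat B' ↥(EtMil.glue B' φ₀) := Groth.Agent.Lib.MilnorFlatH4.glue_flat hsq φ₀
  haveI : Module.Flat B' ↥(EtMil.glue D' φ) := Module.Flat.of_linearEquiv e
  haveI : Module.Finite D' ↥(EtMil.glue D' φ) := Groth.Agent.MilnorGlueRel.glue_finite hsq φ
  obtain ⟨n, π, hπ⟩ := Module.Finite.exists_fin' D' ↥(EtMil.glue D' φ)
  -- base change maps
  have hfst : IsBaseChange B (EtMil.glueFst B' φ₀) :=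
    IsBaseChange.of_equiv (LinearEquiv.ofBijective _ (glue_fst_bijective φ₀ hsq))
      (fun x => by simp)
  have hsnd : IsBaseChange A' (EtMil.glueSnd B' φ₀) :=
    IsBaseChange.of_equiv (LinearEquiv.ofBijective _ (glue_snd_bijective φ₀ hsq))
      (fun x => by simp)
  obtain ⟨gB, hgBd⟩ : ∃ gB : ↥(EtMil.glue D' φ) →ₗ[B'] N,
      gB = (EtMil.glueFst B' φ₀) ∘ₗ e.toLinearMap := ⟨_, rfl⟩
  have hgB : IsBaseChange B gB := by rw [hgBd]; exact IsBaseChange.comp_equiv e _ hfst
  have hgBa : ∀ x, gB x = (x : N × M').1 := fun x => by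
    rw [hgBd]
    show ((e x : ↥(EtMil.glue B' φ₀)) : N × M').1 = _
    rw [he]
  obtain ⟨gA, hgAd⟩ : ∃ gA : ↥(EtMil.glue D' φ) →ₗ[B'] M',
      gA = (EtMil.glueSnd B' φ₀) ∘ₗ e.toLinearMap := ⟨_, rfl⟩
  have hgA : IsBaseChange A' gA := by rw [hgAd]; exact IsBaseChange.comp_equiv e _ hsnd
  have hgAa : ∀ x, gA x = (x : N × M').2 := fun x => by
    rw [hgAd]
    show ((e x : ↥(EtMil.glue B' φ₀)) : N × M').2 = _
    rw [he]
  -- the presentations of `N` and `M'`
  obtain ⟨ψB, hψBd⟩ : ∃ ψB : (Fin n → D) →ₗ[D] N, ψB = Fintype.linearCombination D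
      (fun i => ((π (fun j => if i = j then 1 else 0) : ↥(EtMil.glue D' φ)) : N × M').1) :=
    ⟨_, rfl⟩
  have hψB : ∀ f, ψB (imgB (B' := B') (D := D) n f) = gB (π f) := by
    intro f
    rw [hgBa, hψBd, Fintype.linearCombination_apply, LinearMap.pi_apply_eq_sum_univ π f]
    rw [Submodule.coe_sum, Prod.fst_sum]
    refine Finset.sum_congr rfl fun i _ => ?_
    rw [Submodule.coe_smul, Prod.smul_fst, imgB_apply, IsScalarTower.algebraMap_smul]
  obtain ⟨ψA, hψAd⟩ : ∃ ψA : (Fin n → C') →ₗ[C'] M', ψA = Fintype.linearCombination C'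
      (fun i => ((π (fun j => if i = j then 1 else 0) : ↥(EtMil.glue D' φ)) : N × M').2) :=
    ⟨_, rfl⟩
  have hψA : ∀ f, ψA (imgB (B' := B') (D := C') n f) = gA (π f) := by
    intro f
    rw [hgAa, hψAd, Fintype.linearCombination_apply, LinearMap.pi_apply_eq_sum_univ π f]
    rw [Submodule.coe_sum, Prod.snd_sum]
    refine Finset.sum_congr rfl fun i _ => ?_
    rw [Submodule.coe_smul, Prod.smul_snd, imgB_apply, IsScalarTower.algebraMap_smul]
  have hfg := ker_fg hsq π hπ gB hgB ψB hψB gA hgA ψA hψA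
  exact Module.finitePresentation_of_surjective π hπ hfg

end Main

end Groth.Agent.MilnorFP
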