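import Mathlib
import Groth.Prelude.Def_EtMil
import Groth.Agent.Lib.Milnor_helper6

/-!
# Spectrum of a Milnor square (helper6)

`B' = B ×_A A'` with `A' → A` surjective.  `Spec B' = Spec B ⊔_{Spec A} Spec A'`:
* `exists_lift_mul`: for `h ∈ ker (B' → B)` and `a' : A'` the element `(0, h' a')` of `B'`.
* `exists_comap_eq`: primes of `B'` not containing `ker (B' → B)` come from `Spec A'`.
* `comap_eq_of_not_le`: uniqueness of such a prime.
* `mem_range_or`: `Spec B ⊔ Spec A' → Spec B'` is surjective.
* `exists_of_comap_eq`: the square of spectra is a pullback of sets.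
* `isOpen_of_preimages`: a subset of `Spec B'` is open iff both preimages are open.
-/

namespace Groth.Agent.Lib.Milnor

universe u

variable {B' B A' A : Type u} [CommRing B'] [CommRing B] [CommRing A'] [CommRing A]
  [Algebra B' B] [Algebra B' A'] [Algebra B A] [Algebra A' A] [Algebra B' A]
  [IsScalarTower B' B A] [IsScalarTower B' A' A]

open PrimeSpectrum

theorem map_ker_eq_zero (h : B') (hh : algebraMap B' B h = 0) :
    algebraMap A' A (algebraMap B' A' h) = 0 := by
  rw [← compat (B := B) (A' := A') (A := A) h, hh, map_zero]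

theorem exists_lift_mul (hsq : EtMil.IsFibreSquare B' B A' A) (h : B')
    (hh : algebraMap B' B h = 0) (a' : A') :
    ∃ c : B', algebraMap B' B c = 0 ∧ algebraMap B' A' c = algebraMap B' A' h * a' :=
  exists_lift_ker hsq _ (by rw [map_mul, map_ker_eq_zero (B := B) h hh, zero_mul])

/-- The prime of `A'` attached to a prime `q` of `B'` and `h ∈ ker (B' → B)`, `h ∉ q`. -/
def primeOver (hsq : EtMil.IsFibreSquare B' B A' A) (q : Ideal B') [q.IsPrime] (h : B')
    (hh : algebraMap B' B h = 0) (hq : h ∉ q) : Ideal A' where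
  carrier := {a' | ∃ c : B', algebraMap B' B c = 0 ∧
    algebraMap B' A' c = algebraMap B' A' h * a' ∧ c ∈ q}
  zero_mem' := ⟨0, by simp⟩
  add_mem' := by
    rintro a b ⟨c, hc0, hc1, hcq⟩ ⟨d, hd0, hd1, hdq⟩
    exact ⟨c + d, by rw [map_add, hc0, hd0, add_zero], by rw [map_add, hc1, hd1, mul_add],
      q.add_mem hcq hdq⟩
  smul_mem' := by
    rintro a b ⟨c₁, hc0, hc1, hcq⟩
    obtain ⟨c₀, h00, h01⟩ := exists_lift_mul hsq h hh a
    obtain ⟨c, hc'0, hc'1⟩ := exists_lift_mul hsq h hh (a * b)
    refine ⟨c, hc'0, by rw [hc'1, smul_eq_mul], ?_⟩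
    have hcc : h * c = c₀ * c₁ := by
      apply pair_ext hsq
      · rw [map_mul, map_mul, hh, h00, zero_mul, zero_mul]
      · rw [map_mul, map_mul, hc'1, h01, hc1]; ring
    have : h * c ∈ q := by rw [hcc]; exact q.mul_mem_left _ hcq
    exact (Ideal.IsPrime.mem_or_mem ‹_› this).resolve_left hq

theorem mem_primeOver (hsq : EtMil.IsFibreSquare B' B A' A) (q : Ideal B') [q.IsPrime] (h : B')
    (hh : algebraMap B' B h = 0) (hq : h ∉ q) (a' : A') :
    a' ∈ primeOver hsq q h hh hq ↔ ∃ c : B', algebraMap B' B c = 0 ∧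
      algebraMap B' A' c = algebraMap B' A' h * a' ∧ c ∈ q := Iff.rfl

theorem primeOver_isPrime (hsq : EtMil.IsFibreSquare B' B A' A) (q : Ideal B') [q.IsPrime] (h : B')
    (hh : algebraMap B' B h = 0) (hq : h ∉ q) : (primeOver hsq q h hh hq).IsPrime := by
  constructor
  · intro htop
    have h1 : (1 : A') ∈ primeOver hsq q h hh hq := by rw [htop]; trivial
    obtain ⟨c, hc0, hc1, hcq⟩ := h1
    have : c = h := pair_ext hsq _ _ (by rw [hc0, hh]) (by rw [hc1, mul_one])
    exact hq (this ▸ hcq)
  · rintro a b ⟨c, hc0, hc1, hcq⟩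
    obtain ⟨c₁, h10, h11⟩ := exists_lift_mul hsq h hh a
    obtain ⟨c₂, h20, h21⟩ := exists_lift_mul hsq h hh b
    have hcc : c₁ * c₂ = h * c := by
      apply pair_ext hsq
      · rw [map_mul, map_mul, hh, h10, zero_mul, zero_mul]
      · rw [map_mul, map_mul, hc1, h11, h21]; ring
    have : c₁ * c₂ ∈ q := by rw [hcc]; exact q.mul_mem_left _ hcq
    rcases Ideal.IsPrime.mem_or_mem ‹_› this with h1 | h2
    · exact Or.inl ⟨c₁, h10, h11, h1⟩
    · exact Or.inr ⟨c₂, h20, h21, h2⟩

theorem comap_primeOver (hsq : EtMil.IsFibreSquare B' B A' A) (q : Ideal B') [q.IsPrime] (h : B')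
    (hh : algebraMap B' B h = 0) (hq : h ∉ q) :
    (primeOver hsq q h hh hq).comap (algebraMap B' A') = q := by
  ext b
  rw [Ideal.mem_comap, mem_primeOver]
  constructor
  · rintro ⟨c, hc0, hc1, hcq⟩
    have : c = h * b := pair_ext hsq _ _ (by rw [hc0, map_mul, hh, zero_mul])
      (by rw [hc1, map_mul])
    rw [this] at hcq
    exact (Ideal.IsPrime.mem_or_mem ‹_› hcq).resolve_left hq
  · intro hb
    exact ⟨h * b, by rw [map_mul, hh, zero_mul], by rw [map_mul], q.mul_mem_left _ hb⟩

/-- Primes of `B'` not containing `ker (B' → B)` come from `Spec A'`. -/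
theorem exists_comap_eq (hsq : EtMil.IsFibreSquare B' B A' A) (q : PrimeSpectrum B') (h : B')
    (hh : algebraMap B' B h = 0) (hq : h ∉ q.asIdeal) :
    ∃ y : PrimeSpectrum A', comap (algebraMap B' A') y = q := by
  haveI := q.isPrime
  refine ⟨⟨primeOver hsq q.asIdeal h hh hq, primeOver_isPrime hsq _ h hh hq⟩, ?_⟩
  ext1
  exact comap_primeOver hsq q.asIdeal h hh hq

/-- Surjectivity of `Spec B ⊔ Spec A' → Spec B'`. -/
theorem mem_range_or (hsq : EtMil.IsFibreSquare B' B A' A) (q : PrimeSpectrum B') :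
    (∃ x : PrimeSpectrum B, comap (algebraMap B' B) x = q) ∨
      (∃ y : PrimeSpectrum A', comap (algebraMap B' A') y = q) := by
  by_cases hker : RingHom.ker (algebraMap B' B) ≤ q.asIdeal
  · left
    have : q ∈ Set.range (comap (algebraMap B' B)) := by
      rw [range_comap_of_surjective _ _ (surj_B hsq)]
      exact hker
    exact this
  · right
    obtain ⟨h, hh, hq⟩ := SetLike.not_le_iff_exists.1 hker
    exact exists_comap_eq hsq q h (RingHom.mem_ker.1 hh) hq

theorem comap_B_injective (hsq : EtMil.IsFibreSquare B' B A' A) :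
    Function.Injective (comap (algebraMap B' B)) :=
  comap_injective_of_surjective _ (surj_B hsq)

theorem comap_A_injective (hsq : EtMil.IsFibreSquare B' B A' A) :
    Function.Injective (comap (algebraMap A' A)) :=
  comap_injective_of_surjective _ hsq.1

theorem comap_comm (z : PrimeSpectrum A) :
    comap (algebraMap B' B) (comap (algebraMap B A) z) =
      comap (algebraMap B' A') (comap (algebraMap A' A) z) := by
  ext c
  simp only [comap_asIdeal, Ideal.mem_comap]
  rw [compat (B := B) (A' := A') (A := A) c]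

/-- A prime of `A'` whose restriction to `B'` contains `ker (B' → B)` comes from `Spec A`. -/
theorem mem_range_of_ker_le (hsq : EtMil.IsFibreSquare B' B A' A) (y : PrimeSpectrum A')
    (hy : RingHom.ker (algebraMap B' B) ≤ (comap (algebraMap B' A') y).asIdeal) :
    ∃ z : PrimeSpectrum A, comap (algebraMap A' A) z = y := by
  have : y ∈ Set.range (comap (algebraMap A' A)) := by
    rw [range_comap_of_surjective _ _ hsq.1]
    intro i hi
    obtain ⟨j, hj0, hji⟩ := exists_lift_ker hsq i (RingHom.mem_ker.1 hi)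
    have := hy (RingHom.mem_ker.2 hj0)
    rw [comap_asIdeal, Ideal.mem_comap, hji] at this
    exact this
  exact this

/-- The square of spectra is a pullback of sets. -/
theorem exists_of_comap_eq (hsq : EtMil.IsFibreSquare B' B A' A) (x : PrimeSpectrum B)
    (y : PrimeSpectrum A')
    (hxy : comap (algebraMap B' B) x = comap (algebraMap B' A') y) :
    ∃ z : PrimeSpectrum A, comap (algebraMap B A) z = x ∧ comap (algebraMap A' A) z = y := by
  have hker : RingHom.ker (algebraMap B' B) ≤ (comap (algebraMap B' A') y).asIdeal := by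
    rw [← hxy]
    intro c hc
    rw [comap_asIdeal, Ideal.mem_comap, RingHom.mem_ker.1 hc]
    exact zero_mem _
  obtain ⟨z, hz⟩ := mem_range_of_ker_le hsq y hker
  refine ⟨z, ?_, hz⟩
  apply comap_B_injective hsq
  rw [comap_comm (B' := B') (B := B) (A' := A') (A := A) z, hz, hxy]

/-- Uniqueness of the prime of `A'` over a prime of `B'` away from `Spec A`. -/
theorem comap_eq_of_not_le (hsq : EtMil.IsFibreSquare B' B A' A) (y₁ y₂ : PrimeSpectrum A')
    (h1 : y₁ ∉ Set.range (comap (algebraMap A' A)))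
    (hxy : comap (algebraMap B' A') y₁ = comap (algebraMap B' A') y₂) : y₁ = y₂ := by
  rw [range_comap_of_surjective _ _ hsq.1] at h1
  have h1' : ¬ (RingHom.ker (algebraMap A' A) ≤ y₁.asIdeal) := h1
  obtain ⟨i, hi, hiy⟩ := SetLike.not_le_iff_exists.1 h1'
  obtain ⟨h, hh0, hhi⟩ := exists_lift_ker hsq i (RingHom.mem_ker.1 hi)
  have key : ∀ (y : PrimeSpectrum A'), i ∉ y.asIdeal → ∀ a' : A',
      a' ∈ y.asIdeal ↔ ∀ c : B', algebraMap B' A' c = i * a' →
        c ∈ (comap (algebraMap B' A') y).asIdeal := by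
    intro y hy a'
    constructor
    · intro ha c hc
      rw [comap_asIdeal, Ideal.mem_comap, hc]
      exact y.asIdeal.mul_mem_left _ ha
    · intro hall
      obtain ⟨c, hc0, hc1⟩ := exists_lift_mul hsq h hh0 a'
      rw [hhi] at hc1
      have := hall c hc1
      rw [comap_asIdeal, Ideal.mem_comap, hc1] at this
      exact (y.isPrime.mem_or_mem this).resolve_left hy
  have hiy2 : i ∉ y₂.asIdeal := by
    intro hi2
    have : h ∈ (comap (algebraMap B' A') y₂).asIdeal := by
      rw [comap_asIdeal, Ideal.mem_comap, hhi]; exact hi2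
    rw [← hxy, comap_asIdeal, Ideal.mem_comap, hhi] at this
    exact hiy this
  ext a'
  rw [key y₁ hiy a', key y₂ hiy2 a', hxy]

/-- A subset of `Spec B'` whose preimages in `Spec B` and `Spec A'` are open is open. -/
theorem isOpen_of_preimages (hsq : EtMil.IsFibreSquare B' B A' A) (W : Set (PrimeSpectrum B'))
    (hV : IsOpen (comap (algebraMap B' B) ⁻¹' W))
    (hU : IsOpen (comap (algebraMap B' A') ⁻¹' W)) : IsOpen W := by
  rw [isOpen_iff_forall_mem_open]
  intro q hqW
  by_cases hker : RingHom.ker (algebraMap B' B) ≤ q.asIdeal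
  · -- `q` comes from `Spec B`
    have hqr : q ∈ Set.range (comap (algebraMap B' B)) := by
      rw [range_comap_of_surjective _ _ (surj_B hsq)]
      exact hker
    obtain ⟨v, rfl⟩ := hqr
    obtain ⟨_, ⟨g, rfl⟩, hvg, hgV⟩ :=
      (isTopologicalBasis_basic_opens (R := B)).isOpen_iff.1 hV v hqW
    obtain ⟨f', hf'⟩ := hsq.1 (algebraMap B A g)
    obtain ⟨K, hK⟩ := (isClosed_iff_zeroLocus_ideal _).1 hU.isClosed_compl
    -- `D(f') ∩ V(I) ⊆ U'`
    have hsub : zeroLocus ((RingHom.ker (algebraMap A' A) ⊔ K : Ideal A') : Set A') ⊆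
        zeroLocus {f'} := by
      intro y hy
      rw [mem_zeroLocus, SetLike.coe_subset_coe] at hy
      rw [mem_zeroLocus, Set.singleton_subset_iff]
      by_contra hf'y
      have hyI : y ∈ Set.range (comap (algebraMap A' A)) := by
        rw [range_comap_of_surjective _ _ hsq.1]
        exact le_trans le_sup_left hy
      obtain ⟨z, rfl⟩ := hyI
      have hgz : comap (algebraMap B A) z ∈ (basicOpen g : Set (PrimeSpectrum B)) := by
        intro hmem
        apply hf'y
        change f' ∈ (comap (algebraMap A' A) z).asIdeal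
        rw [comap_asIdeal, Ideal.mem_comap, hf']
        exact hmem
      have hW1 := hgV hgz
      rw [Set.mem_preimage, comap_comm (B' := B') (B := B) (A' := A') (A := A) z] at hW1
      have hyK : comap (algebraMap A' A) z ∈ zeroLocus (K : Set A') := by
        rw [mem_zeroLocus, SetLike.coe_subset_coe]
        exact le_trans le_sup_right hy
      rw [← hK] at hyK
      exact hyK hW1
    have hrad : f' ∈ (RingHom.ker (algebraMap A' A) ⊔ K).radical := by
      rw [← vanishingIdeal_zeroLocus_eq_radical, mem_vanishingIdeal]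
      intro y hy
      have := hsub hy
      rw [mem_zeroLocus, Set.singleton_subset_iff] at this
      exact this
    obtain ⟨n, hn⟩ := hrad
    obtain ⟨ι, hι, κ, hκ, hsum⟩ := Submodule.mem_sup.1 hn
    -- the element `(g^(n+1), f' κ)` of `B'`
    obtain ⟨h', hh'B, hh'A⟩ := exists_pair hsq (g ^ (n + 1)) (f' * κ) (by
      have : f' * κ = f' ^ (n + 1) - f' * ι := by rw [pow_succ', ← hsum]; ring
      rw [this, map_sub, map_pow, map_pow, map_mul, hf', RingHom.mem_ker.1 hι, mul_zero, sub_zero])
    refine ⟨(basicOpen h' : Set (PrimeSpectrum B')), ?_, (basicOpen h').isOpen, ?_⟩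
    · intro r hr
      rcases mem_range_or hsq r with ⟨x, rfl⟩ | ⟨y, rfl⟩
      · apply hgV
        intro hgx
        apply hr
        change h' ∈ (comap (algebraMap B' B) x).asIdeal
        rw [comap_asIdeal, Ideal.mem_comap, hh'B]
        exact Ideal.pow_mem_of_mem _ hgx (n + 1) (Nat.succ_pos n)
      · by_contra hyW
        have hyK : y ∈ zeroLocus (K : Set A') := by rw [← hK]; exact hyW
        apply hr
        change h' ∈ (comap (algebraMap B' A') y).asIdeal
        rw [comap_asIdeal, Ideal.mem_comap, hh'A]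
        exact y.asIdeal.mul_mem_left _ (hyK hκ)
    · intro hmem
      change h' ∈ (comap (algebraMap B' B) v).asIdeal at hmem
      rw [comap_asIdeal, Ideal.mem_comap, hh'B] at hmem
      exact hvg (v.isPrime.mem_of_pow_mem (n + 1) hmem)
  · -- `q` comes from `Spec A'` away from `Spec A`
    obtain ⟨h, hh, hq⟩ := SetLike.not_le_iff_exists.1 hker
    have hh0 : algebraMap B' B h = 0 := RingHom.mem_ker.1 hh
    obtain ⟨y, rfl⟩ := exists_comap_eq hsq q h hh0 hq
    obtain ⟨_, ⟨a', rfl⟩, hya, haU⟩ :=
      (isTopologicalBasis_basic_opens (R := A')).isOpen_iff.1 hU y hqW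
    obtain ⟨c, hc0, hc1⟩ := exists_lift_mul hsq h hh0 a'
    have hhy : algebraMap B' A' h ∉ y.asIdeal := hq
    refine ⟨(basicOpen c : Set (PrimeSpectrum B')), ?_, (basicOpen c).isOpen, ?_⟩
    · intro r hr
      have hcr : c ∉ r.asIdeal := hr
      obtain ⟨y', rfl⟩ := exists_comap_eq hsq r c hc0 hcr
      apply haU
      intro ha'
      apply hcr
      rw [comap_asIdeal, Ideal.mem_comap, hc1]
      exact y'.asIdeal.mul_mem_left _ ha'
    · intro hmem
      change c ∈ (comap (algebraMap B' A') y).asIdeal at hmem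
      rw [comap_asIdeal, Ideal.mem_comap, hc1] at hmem
      rcases y.isPrime.mem_or_mem hmem with h1 | h2
      · exact hhy h1
      · exact hya h2

end Groth.Agent.Lib.Milnor
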