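import Mathlib
import Groth.Prelude

set_option autoImplicit false
set_option linter.style.haveILetI false
set_option linter.unusedVariables false

universe u

open Polynomial

namespace Groth.Agent.Lib.MinAlgH4

section

variable (κ A : Type u) [Field κ] [CommRing A] [Algebra κ A] [IsSimpleOrder (Subalgebra κ A)]

theorem adjoin_top {x : A} (hx : x ∉ (⊥ : Subalgebra κ A)) : Algebra.adjoin κ {x} = ⊤ :=
  (eq_bot_or_eq_top (Algebra.adjoin κ {x})).resolve_left
    (fun h => hx (by rw [← h]; exact Algebra.self_mem_adjoin_singleton κ x))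

theorem exists_not_mem_bot : ∃ x : A, x ∉ (⊥ : Subalgebra κ A) := by
  by_contra hcon
  push_neg at hcon
  have h1 : (⊥ : Subalgebra κ A) = ⊤ := by
    rw [eq_top_iff]; intro x _; exact hcon x
  exact bot_ne_top h1

omit [IsSimpleOrder (Subalgebra κ A)] in
theorem nontriv {x : A} (hx : x ∉ (⊥ : Subalgebra κ A)) : Nontrivial A :=
  nontrivial_of_ne x 0 (fun h => hx (by rw [h]; exact zero_mem _))

theorem surj_of {B : Type*} [Semiring B] [Algebra κ B] (φ : B →ₐ[κ] A) (b : B)
    (hb : φ b ∉ (⊥ : Subalgebra κ A)) : Function.Surjective φ := by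
  have h1 : φ.range = ⊤ := (eq_bot_or_eq_top φ.range).resolve_left
    (fun h => hb (by rw [← h]; exact (AlgHom.mem_range φ).mpr ⟨b, rfl⟩))
  intro y
  have h2 : y ∈ φ.range := by rw [h1]; exact Algebra.mem_top
  exact (AlgHom.mem_range φ).mp h2

theorem isIntegral_of {x : A} (hx : x ∉ (⊥ : Subalgebra κ A)) : IsIntegral κ x := by
  by_cases h2 : x ^ 2 ∈ (⊥ : Subalgebra κ A)
  · obtain ⟨c, hc⟩ := Algebra.mem_bot.mp h2
    refine ⟨X ^ 2 - C c, monic_X_pow_sub_C c two_ne_zero, ?_⟩
    show Polynomial.eval₂ (algebraMap κ A) x (X ^ 2 - C c) = 0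
    rw [eval₂_sub, eval₂_pow, eval₂_X, eval₂_C, hc, sub_self]
  · have htop := adjoin_top κ A h2
    have hmem : x ∈ Algebra.adjoin κ {x ^ 2} := by rw [htop]; exact Algebra.mem_top
    rw [Algebra.adjoin_singleton_eq_range_aeval] at hmem
    obtain ⟨q, hq⟩ := (AlgHom.mem_range _).mp hmem
    apply IsAlgebraic.isIntegral
    refine ⟨X - expand κ 2 q, ?_, ?_⟩
    · intro h0
      have h1 : (X - expand κ 2 q).coeff 1 = 0 := by rw [h0, coeff_zero]
      rw [coeff_sub, coeff_X_one, coeff_expand (by norm_num : 0 < 2),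
        if_neg (by norm_num), sub_zero] at h1
      exact one_ne_zero h1
    · rw [map_sub, aeval_X, expand_aeval, hq, sub_self]

theorem finite_of {x : A} (hx : x ∉ (⊥ : Subalgebra κ A)) : Module.Finite κ A := by
  have h1 := (isIntegral_of κ A hx).fg_adjoin_singleton
  rw [adjoin_top κ A hx, Algebra.top_toSubmodule] at h1
  exact Module.finite_def.mpr h1

theorem dual_case [Nontrivial A] (ε : A) (hε0 : ε ≠ 0) (hε2 : ε * ε = 0) :
    Nonempty (A ≃ₐ[κ] DualNumber κ) := by
  obtain ⟨φ, hφ, hφε⟩ : ∃ φ : DualNumber κ →ₐ[κ] A,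
      (∀ z : DualNumber κ, φ z = algebraMap κ A z.fst + algebraMap κ A z.snd * ε) ∧
      φ DualNumber.eps = ε :=
    ⟨DualNumber.lift ⟨(Algebra.ofId κ A, ε), hε2, fun a => Commute.all _ _⟩,
      fun z => rfl, DualNumber.lift_apply_eps _⟩
  have hinj : Function.Injective φ := by
    rw [injective_iff_map_eq_zero]
    intro z hz
    rw [hφ] at hz
    have h1 : algebraMap κ A z.fst * ε = 0 := by
      linear_combination ε * hz - algebraMap κ A z.snd * hε2
    have hfst : z.fst = 0 := by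
      by_contra hne
      apply hε0
      have hu : IsUnit (algebraMap κ A z.fst) := (IsUnit.mk0 _ hne).map (algebraMap κ A)
      exact (hu.mul_right_eq_zero).mp h1
    rw [hfst, map_zero, zero_add] at hz
    have hsnd : z.snd = 0 := by
      by_contra hne
      apply hε0
      have hu : IsUnit (algebraMap κ A z.snd) := (IsUnit.mk0 _ hne).map (algebraMap κ A)
      exact (hu.mul_right_eq_zero).mp hz
    exact TrivSqZeroExt.ext hfst hsnd
  have hsurj : Function.Surjective φ := by
    apply surj_of κ A φ DualNumber.eps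
    rw [hφε]
    intro hmem
    obtain ⟨c, hc⟩ := Algebra.mem_bot.mp hmem
    have h1 : algebraMap κ A (c * c) = 0 := by rw [map_mul, hc, hε2]
    have h2 : c * c = 0 := (algebraMap κ A).injective (by rw [h1, map_zero])
    have h3 : c = 0 := mul_self_eq_zero.mp h2
    apply hε0
    rw [← hc, h3, map_zero]
  exact ⟨(AlgEquiv.ofBijective φ ⟨hinj, hsurj⟩).symm⟩

theorem prod_case [Nontrivial A] (e : A) (he : e * e = e) (he0 : e ≠ 0) (he1 : e ≠ 1) :
    Nonempty (A ≃ₐ[κ] (κ × κ)) := by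
  obtain ⟨φ, hφ⟩ : ∃ φ : (κ × κ) →ₐ[κ] A,
      ∀ z : κ × κ, φ z = algebraMap κ A z.1 * e + algebraMap κ A z.2 * (1 - e) := by
    refine ⟨AlgHom.ofLinearMap ((LinearMap.fst κ κ κ).smulRight e +
      (LinearMap.snd κ κ κ).smulRight (1 - e)) ?_ ?_, ?_⟩
    · show (1 : κ) • e + (1 : κ) • (1 - e) = 1
      rw [one_smul, one_smul]; ring
    · intro z w
      show (z.1 * w.1) • e + (z.2 * w.2) • (1 - e) =
        (z.1 • e + z.2 • (1 - e)) * (w.1 • e + w.2 • (1 - e))
      simp only [Algebra.smul_def, map_mul]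
      linear_combination (-(algebraMap κ A z.1 * algebraMap κ A w.1) +
        algebraMap κ A z.1 * algebraMap κ A w.2 + algebraMap κ A z.2 * algebraMap κ A w.1 -
        algebraMap κ A z.2 * algebraMap κ A w.2) * he
    · intro z
      show z.1 • e + z.2 • (1 - e) = _
      rw [Algebra.smul_def, Algebra.smul_def]
  have hinj : Function.Injective φ := by
    rw [injective_iff_map_eq_zero]
    intro z hz
    rw [hφ] at hz
    have h1 : algebraMap κ A z.1 * e = 0 := by
      linear_combination e * hz - (algebraMap κ A z.1 - algebraMap κ A z.2) * he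
    have hfst : z.1 = 0 := by
      by_contra hne
      apply he0
      have hu : IsUnit (algebraMap κ A z.1) := (IsUnit.mk0 _ hne).map (algebraMap κ A)
      exact (hu.mul_right_eq_zero).mp h1
    rw [hfst, map_zero, zero_mul, zero_add] at hz
    have hsnd : z.2 = 0 := by
      by_contra hne
      apply sub_ne_zero.mpr he1.symm
      have hu : IsUnit (algebraMap κ A z.2) := (IsUnit.mk0 _ hne).map (algebraMap κ A)
      exact (hu.mul_right_eq_zero).mp hz
    exact Prod.ext hfst hsnd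
  have hφ10 : φ (1, 0) = e := by
    rw [hφ]
    show algebraMap κ A 1 * e + algebraMap κ A 0 * (1 - e) = e
    rw [map_one, map_zero, one_mul, zero_mul, add_zero]
  have hsurj : Function.Surjective φ := by
    apply surj_of κ A φ (1, 0)
    rw [hφ10]
    intro hmem
    obtain ⟨c, hc⟩ := Algebra.mem_bot.mp hmem
    have h1 : algebraMap κ A (c * c) = algebraMap κ A c := by rw [map_mul, hc, he]
    have h2 : c * c = c := (algebraMap κ A).injective h1
    have h3 : c * (c - 1) = 0 := by rw [mul_sub, h2, mul_one, sub_self]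
    rcases mul_eq_zero.mp h3 with h | h
    · apply he0; rw [← hc, h, map_zero]
    · apply he1; rw [← hc, sub_eq_zero.mp h, map_one]
  exact ⟨(AlgEquiv.ofBijective φ ⟨hinj, hsurj⟩).symm⟩

end

section Artin

variable (A : Type u) [CommRing A]

theorem exists_pow_eq [IsArtinianRing A] (z : A) :
    ∃ (n : ℕ) (w : A), z ^ (n + 1) = w * z ^ (n + 2) := by
  obtain ⟨I, ⟨k, rfl⟩, hmin⟩ := (wellFounded_lt (α := Ideal A)).has_min
    (Set.range fun k : ℕ => Ideal.span {z ^ (k + 1)}) ⟨_, ⟨0, rfl⟩⟩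
  have hle : Ideal.span {z ^ (k + 1 + 1)} ≤ Ideal.span {z ^ (k + 1)} := by
    rw [Ideal.span_singleton_le_iff_mem, pow_succ z (k + 1)]
    exact Ideal.mul_mem_right z (Ideal.span {z ^ (k + 1)}) (Ideal.mem_span_singleton_self (z ^ (k + 1)))
  have heq : Ideal.span {z ^ (k + 1 + 1)} = Ideal.span {z ^ (k + 1)} :=
    eq_of_le_of_not_lt hle (hmin _ ⟨k + 1, rfl⟩)
  have hmem : z ^ (k + 1) ∈ Ideal.span {z ^ (k + 1 + 1)} := by
    rw [heq]; exact Ideal.mem_span_singleton_self _
  obtain ⟨w, hw⟩ := Ideal.mem_span_singleton'.mp hmem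
  exact ⟨k, w, hw.symm⟩

theorem unit_of (hnil : ∀ ε : A, ε * ε = 0 → ε = 0) (hidem : ∀ e : A, e * e = e → e = 0 ∨ e = 1)
    [IsArtinianRing A] (z : A) (hz : z ≠ 0) : ∃ b, z * b = 1 := by
  obtain ⟨n, w, hw⟩ := exists_pow_eq A z
  have hj : ∀ j : ℕ, z ^ (n + 1) = w ^ j * z ^ (n + 1 + j) := by
    intro j
    induction j with
    | zero => rw [pow_zero, one_mul, Nat.add_zero]
    | succ j ih =>
      calc z ^ (n + 1) = w ^ j * z ^ (n + 1 + j) := ih
        _ = w ^ j * (z ^ j * z ^ (n + 1)) := by ring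
        _ = w ^ j * (z ^ j * (w * z ^ (n + 2))) := by rw [← hw]
        _ = w ^ (j + 1) * z ^ (n + 1 + (j + 1)) := by ring
  have hjn := hj (n + 1)
  have he : (w ^ (n + 1) * z ^ (n + 1)) * (w ^ (n + 1) * z ^ (n + 1)) =
      w ^ (n + 1) * z ^ (n + 1) := by
    calc (w ^ (n + 1) * z ^ (n + 1)) * (w ^ (n + 1) * z ^ (n + 1))
        = w ^ (n + 1) * (w ^ (n + 1) * z ^ (n + 1 + (n + 1))) := by ring
      _ = w ^ (n + 1) * z ^ (n + 1) := by rw [← hjn]
  rcases hidem _ he with h0 | h1
  · exfalso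
    have h3 : z ^ (n + 1) = 0 := by
      calc z ^ (n + 1) = w ^ (n + 1) * z ^ (n + 1 + (n + 1)) := hjn
        _ = (w ^ (n + 1) * z ^ (n + 1)) * z ^ (n + 1) := by ring
        _ = 0 := by rw [h0, zero_mul]
    haveI : IsReduced A := (isReduced_iff_pow_one_lt 2 Nat.one_lt_two).mpr
      (fun x hx => hnil x (by rw [← sq]; exact hx))
    exact hz (IsNilpotent.eq_zero ⟨n + 1, h3⟩)
  · refine ⟨w ^ (n + 1) * z ^ n, ?_⟩
    calc z * (w ^ (n + 1) * z ^ n) = w ^ (n + 1) * z ^ (n + 1) := by ring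
      _ = 1 := h1

end Artin

section Field

variable (κ A : Type u) [Field κ] [CommRing A] [Algebra κ A] [IsSimpleOrder (Subalgebra κ A)]

omit [IsSimpleOrder (Subalgebra κ A)] in
theorem field_case (hnil : ∀ ε : A, ε * ε = 0 → ε = 0)
    (hidem : ∀ e : A, e * e = e → e = 0 ∨ e = 1) [Module.Finite κ A] [Nontrivial A] :
    IsField A := by
  haveI : IsArtinianRing A := IsArtinianRing.of_finite κ A
  exact { exists_pair_ne := ⟨0, 1, zero_ne_one⟩
          mul_comm := mul_comm
          mul_inv_cancel := fun {z} hz => unit_of A hnil hidem z hz }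

omit [IsSimpleOrder (Subalgebra κ A)] in
theorem finrank_of_top [Nontrivial A] (x : A) (hx : Algebra.adjoin κ {x} = ⊤)
    (hint : IsIntegral κ x) : Module.finrank κ A = (minpoly κ x).natDegree := by
  have e1 : A ≃ₐ[κ] AdjoinRoot (minpoly κ x) :=
    (Subalgebra.topEquiv.symm.trans (Subalgebra.equivOfEq _ _ hx.symm)).trans
      (AlgEquiv.adjoinSingletonEquivAdjoinRootMinpoly κ x)
  rw [e1.toLinearEquiv.finrank_eq, (AdjoinRoot.powerBasis (minpoly.ne_zero hint)).finrank,
    AdjoinRoot.powerBasis_dim]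

theorem sep_or (hF : IsField A) [Module.Finite κ A] [Nontrivial A] :
    Algebra.IsSeparable κ A ∨ ∃ (p : ℕ) (a : κ), p.Prime ∧ CharP κ p ∧ (∀ b : κ, b ^ p ≠ a) ∧
      Nonempty (A ≃ₐ[κ] AdjoinRoot (X ^ p - C a : κ[X])) := by
  haveI : IsDomain A := hF.isDomain
  by_cases hsep : ∀ x : A, (minpoly κ x).Separable
  · left; exact ⟨hsep⟩
  right
  push_neg at hsep
  obtain ⟨x, hx⟩ := hsep
  have hint : IsIntegral κ x := Algebra.IsIntegral.isIntegral x
  have hirr := minpoly.irreducible hint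
  obtain ⟨p, hp⟩ := CharP.exists κ
  haveI := hp
  rcases Polynomial.separable_or p hirr with h | ⟨_, g, hg, hgf⟩
  · exact absurd h hx
  have hpp : p.Prime := by
    rcases CharP.char_is_prime_or_zero κ p with h | h
    · exact h
    · exfalso
      subst h
      haveI : CharZero κ := CharP.charP_to_charZero κ
      exact hx hirr.separable
  haveI : Fact p.Prime := ⟨hpp⟩
  haveI : CharP A p := charP_of_injective_algebraMap (algebraMap κ A).injective p
  have hxbot : x ∉ (⊥ : Subalgebra κ A) := by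
    intro hmem
    obtain ⟨c, hc⟩ := Algebra.mem_bot.mp hmem
    apply hx
    rw [← hc, minpoly.eq_X_sub_C_of_algebraMap_inj c (algebraMap κ A).injective]
    exact Polynomial.separable_X_sub_C
  have hy : x ^ p ∈ (⊥ : Subalgebra κ A) := by
    by_contra hyb
    have h1 := finrank_of_top κ A x (adjoin_top κ A hxbot) hint
    have hinty : IsIntegral κ (x ^ p) := hint.pow p
    have h2 := finrank_of_top κ A (x ^ p) (adjoin_top κ A hyb) hinty
    have h3 : aeval (x ^ p) g = 0 := by rw [← expand_aeval, hgf, minpoly.aeval]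
    have hg0 : g ≠ 0 := hg.ne_zero
    have h4 : (minpoly κ (x ^ p)).natDegree ≤ g.natDegree :=
      Polynomial.natDegree_le_of_dvd (minpoly.dvd κ _ h3) hg0
    have h5 : (minpoly κ x).natDegree = g.natDegree * p := by rw [← hgf, natDegree_expand]
    have h6 : 0 < g.natDegree := hg.natDegree_pos
    have h7 : g.natDegree * p ≤ g.natDegree := by rw [← h5, ← h1, h2]; exact h4
    have h8 : g.natDegree * 2 ≤ g.natDegree * p := Nat.mul_le_mul_left _ hpp.two_le
    omega
  obtain ⟨a, ha⟩ := Algebra.mem_bot.mp hy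
  have hnp : ∀ b : κ, b ^ p ≠ a := by
    intro b hb
    apply hxbot
    have h1 : (x - algebraMap κ A b) ^ p = 0 := by
      rw [sub_pow_char, ← (algebraMap κ A).map_pow, hb, ha, sub_self]
    have h2 : x - algebraMap κ A b = 0 := (pow_eq_zero_iff hpp.ne_zero).mp h1
    rw [sub_eq_zero.mp h2]
    exact Subalgebra.algebraMap_mem _ b
  refine ⟨p, a, hpp, hp, hnp, ?_⟩
  have hmin : (X ^ p - C a : κ[X]) = minpoly κ x := by
    refine minpoly.eq_of_irreducible_of_monic (X_pow_sub_C_irreducible_of_prime hpp hnp) ?_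
      (monic_X_pow_sub_C a hpp.ne_zero)
    rw [map_sub, map_pow, aeval_X, aeval_C, ha, sub_self]
  rw [hmin]
  exact ⟨(Subalgebra.topEquiv.symm.trans
    (Subalgebra.equivOfEq _ _ (adjoin_top κ A hxbot).symm)).trans
      (AlgEquiv.adjoinSingletonEquivAdjoinRootMinpoly κ x)⟩

end Field

theorem main (κ A : Type u) [Field κ] [CommRing A] [Algebra κ A]
    (h : IsSimpleOrder (Subalgebra κ A)) :
    FiniteDimensional κ A ∧
    (Nonempty (A ≃ₐ[κ] DualNumber κ) ∨ Nonempty (A ≃ₐ[κ] (κ × κ)) ∨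
      (IsField A ∧ (Algebra.IsSeparable κ A ∨
        ∃ (p : ℕ) (a : κ), p.Prime ∧ CharP κ p ∧ (∀ b : κ, b ^ p ≠ a) ∧
          Nonempty (A ≃ₐ[κ] AdjoinRoot (X ^ p - C a))))) := by
  haveI := h
  obtain ⟨x, hx⟩ := exists_not_mem_bot κ A
  haveI : Nontrivial A := nontriv κ A hx
  haveI hfin : Module.Finite κ A := finite_of κ A hx
  refine ⟨hfin, ?_⟩
  by_cases ha : ∃ ε : A, ε ≠ 0 ∧ ε * ε = 0
  · obtain ⟨ε, hε0, hε2⟩ := ha
    exact Or.inl (dual_case κ A ε hε0 hε2)
  by_cases hb : ∃ e : A, e * e = e ∧ e ≠ 0 ∧ e ≠ 1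
  · obtain ⟨e, he, he0, he1⟩ := hb
    exact Or.inr (Or.inl (prod_case κ A e he he0 he1))
  right; right
  have hnil : ∀ ε : A, ε * ε = 0 → ε = 0 := by
    intro ε hε
    by_contra hne
    exact ha ⟨ε, hne, hε⟩
  have hidem : ∀ e : A, e * e = e → e = 0 ∨ e = 1 := by
    intro e he
    by_contra hne
    push_neg at hne
    exact hb ⟨e, he, hne.1, hne.2⟩
  have hF : IsField A := field_case κ A hnil hidem
  exact ⟨hF, sep_or κ A hF⟩

end Groth.Agent.Lib.MinAlgH4
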