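import Mathlib

/-!
# S9135: a finite-type algebra with finite fibre over a minimal prime is finite nearby (lead)
-/

set_option autoImplicit false
universe u

namespace Groth.Agent.Lib.MinPrimeFinite

open TensorProduct

variable {R S : Type*} [CommRing R] [CommRing S] [Algebra R S]

/-- the fibre over `p` is finite-dimensional if only finitely many primes lie over `p`. -/
theorem finite_fiber_of_finite_primesOver (p : Ideal R) [p.IsPrime] [Algebra.FiniteType R S]
    (hfin : (p.primesOver S).Finite) : Module.Finite p.ResidueField (p.Fiber S) := by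
  rw [Module.finite_iff_isArtinianRing, isArtinianRing_iff_isNoetherianRing_krullDimLE_zero]
  have : IsJacobsonRing (p.Fiber S) := isJacobsonRing_of_finiteType (A := p.ResidueField)
  have : Finite (PrimeSpectrum (p.Fiber S)) := by
    have := hfin.to_subtype
    exact Finite.of_equiv _ (PrimeSpectrum.primesOverOrderIsoFiber R S p).toEquiv
  exact ⟨Algebra.FiniteType.isNoetherianRing p.ResidueField _,
    (PrimeSpectrum.discreteTopology_iff_finite_and_krullDimLE_zero.mp inferInstance).right⟩

/-- elements of a minimal prime are nilpotent up to a multiplier outside the prime. -/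
theorem exists_mul_pow_eq_zero {p : Ideal R} (hp : p ∈ minimalPrimes R) {π : R} (hπ : π ∈ p) :
    ∃ u, u ∉ p ∧ ∃ N : ℕ, u * π ^ N = 0 := by
  haveI : p.IsPrime := hp.1.1
  have h := IsLocalization.AtPrime.radical_map_of_mem_minimalPrimes (Localization.AtPrime p) p ⊥ hp
  have hmem : algebraMap R (Localization.AtPrime p) π ∈
      ((⊥ : Ideal R).map (algebraMap R (Localization.AtPrime p))).radical := by
    rw [h]; exact Ideal.mem_map_of_mem _ hπ
  rw [Ideal.map_bot] at hmem
  obtain ⟨N, hN⟩ := hmem
  rw [Ideal.mem_bot, ← map_pow] at hN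
  obtain ⟨m, hm⟩ := (IsLocalization.map_eq_zero_iff p.primeCompl _ _).mp hN
  exact ⟨m.1, m.2, N, hm⟩

theorem exists_isNilpotent_mul {p : Ideal R} (hp : p ∈ minimalPrimes R) {w : S}
    (hw : w ∈ p.map (algebraMap R S)) :
    ∃ u, u ∉ p ∧ IsNilpotent (algebraMap R S u * w) := by
  haveI : p.IsPrime := hp.1.1
  have hw' : w ∈ Submodule.span S ((algebraMap R S) '' (p : Set R)) := hw
  clear hw
  induction hw' using Submodule.span_induction with
  | mem x hx =>
    obtain ⟨π, hπ, rfl⟩ := hx
    obtain ⟨u, hu, N, hN⟩ := exists_mul_pow_eq_zero hp hπ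
    refine ⟨u, hu, N + 1, ?_⟩
    rw [← map_mul, ← map_pow]
    have h0 : (u * π) ^ (N + 1) = 0 := by
      calc (u * π) ^ (N + 1) = u ^ N * π * (u * π ^ N) := by ring
        _ = 0 := by rw [hN, mul_zero]
    rw [h0, map_zero]
  | zero => exact ⟨1, fun h => (Ideal.IsPrime.ne_top inferInstance) ((Ideal.eq_top_iff_one p).mpr h),
      ⟨1, by simp⟩⟩
  | add x y _ _ hx hy =>
    obtain ⟨u, hu, nx, hxn⟩ := hx
    obtain ⟨v, hv, ny, hyn⟩ := hy
    refine ⟨u * v, fun h => (Ideal.IsPrime.mem_or_mem inferInstance h).elim hu hv, ?_⟩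
    rw [map_mul, mul_add]
    apply Commute.isNilpotent_add (Commute.all _ _)
    · refine ⟨nx, ?_⟩
      calc (algebraMap R S u * algebraMap R S v * x) ^ nx
          = (algebraMap R S v) ^ nx * (algebraMap R S u * x) ^ nx := by ring
        _ = 0 := by rw [hxn, mul_zero]
    · refine ⟨ny, ?_⟩
      calc (algebraMap R S u * algebraMap R S v * y) ^ ny
          = (algebraMap R S u) ^ ny * (algebraMap R S v * y) ^ ny := by ring
        _ = 0 := by rw [hyn, mul_zero]
  | smul a x _ hx =>
    obtain ⟨u, hu, nx, hxn⟩ := hx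
    refine ⟨u, hu, nx, ?_⟩
    calc (algebraMap R S u * a • x) ^ nx = a ^ nx * (algebraMap R S u * x) ^ nx := by
          rw [smul_eq_mul]; ring
      _ = 0 := by rw [hxn, mul_zero]

attribute [local instance] Algebra.TensorProduct.rightAlgebra in
/-- the kernel of `S → κ(p) ⊗ S`. -/
theorem exists_mul_mem_map_of_tmul_eq_zero (p : Ideal R) [p.IsPrime] (z : S)
    (hz : (1 : p.ResidueField) ⊗ₜ[R] z = 0) :
    ∃ t, t ∉ p ∧ algebraMap R S t * z ∈ p.map (algebraMap R S) := by
  have h1 : Ideal.Fiber.algEquivAux₁ p (algebraMap S (p.Fiber S) z) = 0 := by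
    rw [Algebra.TensorProduct.right_algebraMap_apply, hz, map_zero]
  rw [AlgEquiv.commutes] at h1
  rw [IsScalarTower.algebraMap_apply S
    (Localization (Algebra.algebraMapSubmonoid S p.primeCompl)) (_ ⧸ _),
    Ideal.Quotient.algebraMap_eq, Ideal.Quotient.eq_zero_iff_mem] at h1
  obtain ⟨⟨a, s⟩, has⟩ := (IsLocalization.mem_map_algebraMap_iff
    (Algebra.algebraMapSubmonoid S p.primeCompl) _).mp h1
  rw [← map_mul] at has
  obtain ⟨c, hc⟩ := (IsLocalization.eq_iff_exists
    (Algebra.algebraMapSubmonoid S p.primeCompl) _).mp has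
  obtain ⟨t1, ht1, hts⟩ : ∃ t ∈ p.primeCompl, algebraMap R S t = s := s.2
  obtain ⟨t2, ht2, htc⟩ : ∃ t ∈ p.primeCompl, algebraMap R S t = c := c.2
  refine ⟨t2 * t1, p.primeCompl.mul_mem ht2 ht1, ?_⟩
  rw [map_mul, hts, htc]
  have h2 : (c : S) * (s : S) * z = c * a := by
    have := hc
    calc (c : S) * (s : S) * z = c * (z * s) := by ring
      _ = c * a := hc
  rw [h2]
  exact Ideal.mul_mem_left _ _ a.2

/-- scaling a nilpotent "almost relation" into an integrality relation. -/
theorem isIntegral_mul_of_isNilpotent (c : R) (y : S) (Q : Polynomial R) (hQ : Q.Monic)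
    (hnil : IsNilpotent (algebraMap R S c * Polynomial.aeval y Q)) :
    ∃ M : ℕ, IsIntegral R (algebraMap R S (c ^ M) * y) := by
  obtain ⟨M, hM⟩ := hnil
  refine ⟨M, ?_⟩
  rw [mul_pow, ← map_pow, ← map_pow] at hM
  -- hM : algebraMap (c^M) * aeval y (Q^M) = 0
  refine ⟨Polynomial.X * (Q ^ M).scaleRoots (c ^ M),
    Polynomial.monic_X.mul ((Polynomial.monic_scaleRoots_iff _).mpr (hQ.pow M)), ?_⟩
  rw [Polynomial.eval₂_mul, Polynomial.eval₂_X, Polynomial.scaleRoots_eval₂_mul,
    ← Polynomial.aeval_def]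
  calc algebraMap R S (c ^ M) * y *
        (algebraMap R S (c ^ M) ^ (Q ^ M).natDegree * Polynomial.aeval y (Q ^ M))
      = y * algebraMap R S (c ^ M) ^ (Q ^ M).natDegree *
          (algebraMap R S (c ^ M) * Polynomial.aeval y (Q ^ M)) := by ring
    _ = 0 := by rw [hM, mul_zero]

/-- every element becomes integral after multiplying by something outside `p`. -/
theorem exists_isIntegral_mul [Algebra.FiniteType R S] {p : Ideal R} (hp : p ∈ minimalPrimes R)
    (hfin : (p.primesOver S).Finite) (x : S) :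
    ∃ g, g ∉ p ∧ IsIntegral R (algebraMap R S g * x) := by
  haveI : p.IsPrime := hp.1.1
  haveI := finite_fiber_of_finite_primesOver p hfin
  have h1 : IsIntegral p.ResidueField ((1 : p.ResidueField) ⊗ₜ[R] x : p.Fiber S) :=
    Algebra.IsIntegral.isIntegral _
  have h2 : IsIntegral (Localization.AtPrime p) ((1 : p.ResidueField) ⊗ₜ[R] x : p.Fiber S) :=
    isIntegral_trans _ h1
  obtain ⟨m, hm⟩ := IsIntegral.exists_multiple_integral_of_isLocalization p.primeCompl _ h2
  have hm' : IsIntegral R ((1 : p.ResidueField) ⊗ₜ[R] ((m : R) • x) : p.Fiber S) := by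
    have : (m • ((1 : p.ResidueField) ⊗ₜ[R] x) : p.Fiber S) =
        (1 : p.ResidueField) ⊗ₜ[R] ((m : R) • x) := by
      rw [Submonoid.smul_def, TensorProduct.tmul_smul]
    rwa [this] at hm
  obtain ⟨Q, hQmonic, hQ⟩ := hm'
  have hz : (1 : p.ResidueField) ⊗ₜ[R] (Polynomial.aeval ((m : R) • x) Q) = 0 := by
    have h3 := Polynomial.aeval_algHom_apply
      (Algebra.TensorProduct.includeRight : S →ₐ[R] p.Fiber S) ((m : R) • x) Q
    rw [Algebra.TensorProduct.includeRight_apply, Algebra.TensorProduct.includeRight_apply,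
      Polynomial.aeval_def, hQ] at h3
    exact h3.symm
  obtain ⟨t, ht, htz⟩ := exists_mul_mem_map_of_tmul_eq_zero p _ hz
  obtain ⟨u, hu, hnil⟩ := exists_isNilpotent_mul hp htz
  rw [← mul_assoc, ← map_mul] at hnil
  obtain ⟨M, hM⟩ := isIntegral_mul_of_isNilpotent (u * t) ((m : R) • x) Q hQmonic hnil
  refine ⟨(u * t) ^ M * m, ?_, ?_⟩
  · intro h
    rcases Ideal.IsPrime.mem_or_mem inferInstance h with h | h
    · rcases Ideal.IsPrime.mem_or_mem inferInstance (Ideal.IsPrime.mem_of_pow_mem inferInstance M h)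
        with h | h
      · exact hu h
      · exact ht h
    · exact m.2 h
  · rw [map_mul, mul_assoc, ← Algebra.smul_def (m : R) x]
    exact hM

/-- a single multiplier works for all elements, up to powers. -/
theorem exists_forall_isIntegral [Algebra.FiniteType R S] {p : Ideal R}
    (hp : p ∈ minimalPrimes R) (hfin : (p.primesOver S).Finite) :
    ∃ g, g ∉ p ∧ ∀ x : S, ∃ k : ℕ, IsIntegral R (algebraMap R S g ^ k * x) := by
  classical
  haveI : p.IsPrime := hp.1.1
  obtain ⟨s, hs⟩ := Algebra.FiniteType.out (R := R) (A := S)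
  choose g hg hgi using fun x : S => exists_isIntegral_mul hp hfin x
  refine ⟨∏ j ∈ s, g j, ?_, ?_⟩
  · intro h
    obtain ⟨j, _, hj⟩ := (Ideal.IsPrime.prod_mem_iff).mp h
    exact hg j hj
  · intro x
    have hx : x ∈ Algebra.adjoin R (s : Set S) := by rw [hs]; trivial
    have hG : IsIntegral R (algebraMap R S (∏ j ∈ s, g j)) := isIntegral_algebraMap
    induction hx using Algebra.adjoin_induction with
    | mem y hy =>
      refine ⟨1, ?_⟩
      rw [pow_one, ← Finset.mul_prod_erase s g (Finset.mem_coe.mp hy), map_mul,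
        mul_comm (algebraMap R S (g y)), mul_assoc]
      exact isIntegral_algebraMap.mul (hgi y)
    | algebraMap r =>
      exact ⟨0, by rw [pow_zero, one_mul]; exact isIntegral_algebraMap⟩
    | add y z _ _ hy hz =>
      obtain ⟨ky, hky⟩ := hy
      obtain ⟨kz, hkz⟩ := hz
      refine ⟨ky + kz, ?_⟩
      have : algebraMap R S (∏ j ∈ s, g j) ^ (ky + kz) * (y + z) =
          algebraMap R S (∏ j ∈ s, g j) ^ kz * (algebraMap R S (∏ j ∈ s, g j) ^ ky * y) +
          algebraMap R S (∏ j ∈ s, g j) ^ ky * (algebraMap R S (∏ j ∈ s, g j) ^ kz * z) := by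
        ring
      rw [this]
      exact ((hG.pow kz).mul hky).add ((hG.pow ky).mul hkz)
    | mul y z _ _ hy hz =>
      obtain ⟨ky, hky⟩ := hy
      obtain ⟨kz, hkz⟩ := hz
      refine ⟨ky + kz, ?_⟩
      have : algebraMap R S (∏ j ∈ s, g j) ^ (ky + kz) * (y * z) =
          (algebraMap R S (∏ j ∈ s, g j) ^ ky * y) *
          (algebraMap R S (∏ j ∈ s, g j) ^ kz * z) := by
        ring
      rw [this]
      exact hky.mul hkz

theorem main (R S : Type u) [CommRing R] [CommRing S]
    [Algebra R S] [Algebra.FiniteType R S] (p : Ideal R) (hp : p ∈ minimalPrimes R)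
    (hfin : (p.primesOver S).Finite) :
    ∃ g : R, g ∉ p ∧ (Localization.awayMap (algebraMap R S) g).Finite := by
  haveI : p.IsPrime := hp.1.1
  obtain ⟨g₀, hg₀, hint⟩ := exists_forall_isIntegral hp hfin
  have hsurj : Function.Surjective (Localization.awayMapₐ (integralClosure R S).val
      (algebraMap R (integralClosure R S) g₀)) := by
    change Function.Surjective (Localization.awayMap (integralClosure R S).val.toRingHom
      (algebraMap R (integralClosure R S) g₀))
    rw [Localization.awayMap_surjective_iff]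
    intro x
    obtain ⟨k, hk⟩ := hint x
    exact ⟨⟨algebraMap R S g₀ ^ k * x, hk⟩, k, rfl⟩
  have hunit : IsUnit (M := p.Fiber (integralClosure R S))
      ((1 : p.ResidueField) ⊗ₜ[R] (algebraMap R (integralClosure R S) g₀)) := by
    have h1 : ((1 : p.ResidueField) ⊗ₜ[R] (algebraMap R (integralClosure R S) g₀) :
        p.Fiber (integralClosure R S)) =
        Algebra.TensorProduct.includeLeft (R := R) (S := R) (A := p.ResidueField)
          (B := integralClosure R S) (algebraMap R p.ResidueField g₀) := by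
      rw [Algebra.TensorProduct.includeLeft_apply, Algebra.algebraMap_eq_smul_one,
        Algebra.algebraMap_eq_smul_one (A := p.ResidueField), TensorProduct.tmul_smul,
        TensorProduct.smul_tmul']
    rw [h1]
    apply IsUnit.map
    rw [isUnit_iff_ne_zero, ne_eq, Ideal.algebraMap_residueField_eq_zero]
    exact hg₀
  obtain ⟨r, hr, hfinr⟩ := Localization.exists_finite_awayMapₐ_of_surjective_awayMapₐ
    (integralClosure R S).val (algebraMap R (integralClosure R S) g₀) hsurj p hunit
  exact ⟨r, hr, hfinr⟩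

end Groth.Agent.Lib.MinPrimeFinite
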