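import Mathlib

/-!
# Minimal primes of a directed colimit of rings along faithfully flat transition maps
-/

set_option autoImplicit false
set_option maxSynthPendingDepth 3

namespace Groth.Agent.Lib.MinPrimesColimH3

universe u

/-- nilpotency at a minimal prime -/
theorem exists_mul_pow_eq_zero {R : Type*} [CommRing R] {p : Ideal R} (hp : p ∈ minimalPrimes R)
    {x : R} (hx : x ∈ p) :
    ∃ (n : ℕ) (s : R), s ∉ p ∧ s * x ^ n = 0 := by
  haveI := hp.1.1
  by_contra hcon
  push Not at hcon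
  obtain ⟨S, hSdef⟩ : ∃ S : Submonoid R, S = p.primeCompl ⊔ Submonoid.powers x := ⟨_, rfl⟩
  have hdisj : Disjoint (((⊥ : Ideal R) : Set R)) (S : Set R) := by
    rw [Set.disjoint_left]
    intro y hy hyS
    have hy0 : y = 0 := hy
    rw [hSdef] at hyS
    obtain ⟨s, hs, z, ⟨n, rfl⟩, hsz⟩ := Submonoid.mem_sup.1 hyS
    exact hcon n s hs (by rw [hsz, hy0])
  obtain ⟨Q, hQprime, _, hQS⟩ := Ideal.exists_le_prime_disjoint ⊥ S hdisj
  have hQp : Q ≤ p := by
    intro y hy
    by_contra hyp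
    exact (Set.disjoint_left.1 hQS) hy
      (by rw [hSdef]; exact Submonoid.mem_sup_left (show y ∈ p.primeCompl from hyp))
  have hpQ : p ≤ Q := hp.2 ⟨hQprime, bot_le⟩ hQp
  exact (Set.disjoint_left.1 hQS) (hpQ hx)
    (by rw [hSdef]; exact Submonoid.mem_sup_right (Submonoid.mem_powers x))

section

variable {ι : Type u} [Preorder ι] [IsDirected ι (· ≤ ·)] [Nonempty ι] (G : ι → Type u)
  [∀ i, CommRing (G i)] (f : ∀ i j, i ≤ j → G i →+* G j)
  [DirectedSystem G fun i j h => f i j h]

set_option quotPrecheck false in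
local notation "Rlim" => Ring.DirectLimit G fun i j h => ⇑(f i j h)
set_option quotPrecheck false in
local notation "ofR" => Ring.DirectLimit.of G fun i j h => ⇑(f i j h)

theorem comap_of_comap {i j : ι} (h : i ≤ j) (P : Ideal (Rlim)) :
    (P.comap (ofR j)).comap (f i j h) = P.comap (ofR i) := by
  ext x
  simp only [Ideal.mem_comap]
  rw [Ring.DirectLimit.of_f]

/-- L1: the contraction of a minimal prime of the colimit is a minimal prime (going down). -/
theorem comap_mem_minimalPrimes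
    (hf : ∀ i j (h : i ≤ j), letI := (f i j h).toAlgebra
      Module.Flat (G i) (G j))
    (P : Ideal (Rlim)) (hP : P ∈ minimalPrimes (Rlim)) (i : ι) :
    P.comap (ofR i) ∈ minimalPrimes (G i) := by
  haveI hPprime : P.IsPrime := hP.1.1
  refine ⟨⟨inferInstance, bot_le⟩, ?_⟩
  rintro p' ⟨hp'prime, -⟩ hp'le
  haveI := hp'prime
  by_contra hnot
  obtain ⟨x, hxP, hxp'⟩ := Set.not_subset.1 hnot
  have hxP' : ofR i x ∈ P := hxP
  obtain ⟨n, s, hsP, hs0⟩ := exists_mul_pow_eq_zero hP hxP'
  obtain ⟨j, t, rfl⟩ := Ring.DirectLimit.exists_of s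
  obtain ⟨l, hil, hjl⟩ := exists_ge_ge i j
  have h1 : ofR l (f j l hjl t * (f i l hil x) ^ n) = 0 := by
    rw [map_mul, map_pow, Ring.DirectLimit.of_f, Ring.DirectLimit.of_f]
    exact hs0
  obtain ⟨m, hlm, h2⟩ := Ring.DirectLimit.of.zero_exact h1
  have him : i ≤ m := hil.trans hlm
  have hjm : j ≤ m := hjl.trans hlm
  have h3 : f j m hjm t * (f i m him x) ^ n = 0 := by
    rw [map_mul, map_pow] at h2
    have e1 : f l m hlm (f j l hjl t) = f j m hjm t :=
      DirectedSystem.map_map (f := fun i j h => f i j h) hjl hlm t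
    have e2 : f l m hlm (f i l hil x) = f i m him x :=
      DirectedSystem.map_map (f := fun i j h => f i j h) hil hlm x
    rw [e1, e2] at h2
    exact h2
  have ht : f j m hjm t ∉ P.comap (ofR m) := by
    rw [Ideal.mem_comap, Ring.DirectLimit.of_f]
    exact hsP
  -- going down for G i → G m
  letI := (f i m him).toAlgebra
  haveI : Module.Flat (G i) (G m) := hf i m him
  haveI : (P.comap (ofR m)).LiesOver (P.comap (ofR i)) := ⟨(comap_of_comap G f him P).symm⟩
  obtain ⟨q', hq'le, hq'prime, hq'over⟩ :=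
    Ideal.exists_ideal_le_liesOver_of_le (p := p') (q := P.comap (ofR i)) (P.comap (ofR m)) hp'le
  have h4 : f j m hjm t * (f i m him x) ^ n ∈ q' := by
    rw [h3]
    exact q'.zero_mem
  rcases hq'prime.mem_or_mem h4 with h5 | h5
  · exact ht (hq'le h5)
  · have h6 : f i m him x ∈ q' := hq'prime.mem_of_pow_mem n h5
    apply hxp'
    have h7 : p' = q'.comap (f i m him) := hq'over.over
    rw [h7]
    exact h6


omit [IsDirected ι (· ≤ ·)] [Nonempty ι] in
theorem map_map_f {i j l : ι} (h : i ≤ j) (h' : j ≤ l) (p : Ideal (G i)) :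
    (p.map (f i j h)).map (f j l h') = p.map (f i l (h.trans h')) := by
  rw [Ideal.map_map]
  congr 1
  ext x
  exact DirectedSystem.map_map (f := fun i j h => f i j h) h h' x

omit [IsDirected ι (· ≤ ·)] [Nonempty ι] in
theorem f_mem_map {i j l : ι} (h : i ≤ j) (h' : j ≤ l) (p : Ideal (G i)) {y : G j}
    (hy : y ∈ p.map (f i j h)) : f j l h' y ∈ p.map (f i l (h.trans h')) := by
  rw [← map_map_f G f h h' p]
  exact Ideal.mem_map_of_mem _ hy

theorem exists_of_mem_map (i : ι) (p : Ideal (G i)) (z : Rlim) (hz : z ∈ p.map (ofR i)) :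
    ∃ (j : ι) (h : i ≤ j) (y : G j), y ∈ p.map (f i j h) ∧ ofR j y = z := by
  have hz' : z ∈ Submodule.span (Rlim) ((ofR i) '' (p : Set (G i))) := hz
  refine Submodule.span_induction (p := fun z _ => ∃ (j : ι) (h : i ≤ j) (y : G j),
    y ∈ p.map (f i j h) ∧ ofR j y = z) ?_ ?_ ?_ ?_ hz'
  · rintro z ⟨a, ha, rfl⟩
    exact ⟨i, le_rfl, f i i le_rfl a, Ideal.mem_map_of_mem _ ha, Ring.DirectLimit.of_f _ _⟩
  · exact ⟨i, le_rfl, 0, Ideal.zero_mem _, map_zero _⟩
  · rintro z1 z2 - - ⟨j1, hj1, y1, hy1, rfl⟩ ⟨j2, hj2, y2, hy2, rfl⟩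
    obtain ⟨l, h1l, h2l⟩ := exists_ge_ge j1 j2
    refine ⟨l, hj1.trans h1l, f j1 l h1l y1 + f j2 l h2l y2, ?_, ?_⟩
    · exact Ideal.add_mem _ (f_mem_map G f hj1 h1l p hy1) (f_mem_map G f hj2 h2l p hy2)
    · rw [map_add, Ring.DirectLimit.of_f, Ring.DirectLimit.of_f]
  · rintro r z - ⟨j, hj, y, hy, rfl⟩
    obtain ⟨j', r', rfl⟩ := Ring.DirectLimit.exists_of r
    obtain ⟨l, h1l, h2l⟩ := exists_ge_ge j j'
    refine ⟨l, hj.trans h1l, f j' l h2l r' * f j l h1l y, ?_, ?_⟩
    · exact Ideal.mul_mem_left _ _ (f_mem_map G f hj h1l p hy)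
    · rw [map_mul, Ring.DirectLimit.of_f, Ring.DirectLimit.of_f]
      rfl

/-- every prime of a stage is the contraction of a prime of the colimit (faithfully flat case) -/
theorem comap_map_of_le
    (hf : ∀ i j (h : i ≤ j), letI := (f i j h).toAlgebra
      Module.FaithfullyFlat (G i) (G j))
    (i : ι) (p : Ideal (G i)) : (p.map (ofR i)).comap (ofR i) ≤ p := by
  intro x hx
  rw [Ideal.mem_comap] at hx
  obtain ⟨j, hj, y, hy, hyx⟩ := exists_of_mem_map G f i p _ hx
  have h0 : ofR j (y - f i j hj x) = 0 := by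
    rw [map_sub, Ring.DirectLimit.of_f, hyx, sub_self]
  obtain ⟨l, hjl, h1⟩ := Ring.DirectLimit.of.zero_exact h0
  rw [map_sub, sub_eq_zero] at h1
  have e2 : f j l hjl (f i j hj x) = f i l (hj.trans hjl) x :=
    DirectedSystem.map_map (f := fun i j h => f i j h) hj hjl x
  have h2 : f i l (hj.trans hjl) x ∈ p.map (f i l (hj.trans hjl)) := by
    rw [← e2, ← h1]
    exact f_mem_map G f hj hjl p hy
  letI := (f i l (hj.trans hjl)).toAlgebra
  haveI : Module.FaithfullyFlat (G i) (G l) := hf i l (hj.trans hjl)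
  have h3 := Ideal.comap_map_eq_self_of_faithfullyFlat (B := G l) p
  rw [← h3]
  exact h2

/-- L2: every minimal prime of a stage is the contraction of a minimal prime of the colimit. -/
theorem exists_minimalPrimes_comap_eq
    (hf : ∀ i j (h : i ≤ j), letI := (f i j h).toAlgebra
      Module.FaithfullyFlat (G i) (G j))
    (i : ι) (p : Ideal (G i)) (hp : p ∈ minimalPrimes (G i)) :
    ∃ P ∈ minimalPrimes (Rlim), P.comap (ofR i) = p := by
  haveI : p.IsPrime := hp.1.1
  have h1 : (p.map (ofR i)).comap (ofR i) = p :=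
    le_antisymm (comap_map_of_le G f hf i p) Ideal.le_comap_map
  obtain ⟨Q, hQprime, hQ⟩ := (Ideal.comap_map_eq_self_iff_of_isPrime p).1 h1
  obtain ⟨P, hP, hPQ⟩ := Ideal.exists_minimalPrimes_le (show (⊥ : Ideal (Rlim)) ≤ Q from bot_le)
  haveI : P.IsPrime := hP.1.1
  refine ⟨P, hP, ?_⟩
  have hle : P.comap (ofR i) ≤ p := by
    rw [← hQ]
    exact Ideal.comap_mono hPQ
  exact le_antisymm hle (hp.2 ⟨inferInstance, bot_le⟩ hle)

theorem main
    (hf : ∀ i j (h : i ≤ j), letI := (f i j h).toAlgebra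
      Module.FaithfullyFlat (G i) (G j)) :
    (minimalPrimes (Rlim)).encard = ⨆ i, (minimalPrimes (G i)).encard := by
  classical
  have hflat : ∀ i j (h : i ≤ j), letI := (f i j h).toAlgebra
      Module.Flat (G i) (G j) := by
    intro i j h
    letI := (f i j h).toAlgebra
    haveI := hf i j h
    infer_instance
  apply le_antisymm
  · rw [← ENat.forall_natCast_le_iff_le]
    intro n hn
    obtain ⟨T, hTsub, hTcard⟩ := Set.exists_subset_encard_eq hn
    have hTfin : T.Finite := Set.finite_of_encard_eq_coe hTcard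
    have hsep : ∀ P ∈ T, ∀ P' ∈ T, P ≠ P' → ∃ i, P.comap (ofR i) ≠ P'.comap (ofR i) := by
      intro P hP P' hP' hne
      have hP1 := hTsub hP
      have hP'1 := hTsub hP'
      have hnle : ¬ (P ≤ P') := fun hle => hne (le_antisymm hle (hP'1.2 hP1.1 hle))
      obtain ⟨z, hzP, hzP'⟩ := Set.not_subset.1 hnle
      obtain ⟨i, x, rfl⟩ := Ring.DirectLimit.exists_of z
      refine ⟨i, fun heq => hzP' ?_⟩
      have h1 : x ∈ P.comap (ofR i) := hzP
      rw [heq] at h1
      exact h1
    let g : Ideal (Rlim) × Ideal (Rlim) → ι := fun PP =>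
      if h : PP.1 ∈ T ∧ PP.2 ∈ T ∧ PP.1 ≠ PP.2 then (hsep PP.1 h.1 PP.2 h.2.1 h.2.2).choose
      else Classical.arbitrary ι
    obtain ⟨i0, hi0⟩ := Finset.exists_le ((hTfin.toFinset ×ˢ hTfin.toFinset).image g)
    have hinj : Set.InjOn (fun P : Ideal (Rlim) => P.comap (ofR i0)) T := by
      intro P hP P' hP' heq
      by_contra hne
      have hcond : P ∈ T ∧ P' ∈ T ∧ P ≠ P' := ⟨hP, hP', hne⟩
      have hspec := (hsep P hP P' hP' hne).choose_spec
      have hg : g (P, P') = (hsep P hP P' hP' hne).choose := dif_pos hcond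
      have hle : g (P, P') ≤ i0 :=
        hi0 _ (Finset.mem_image_of_mem g (by simp [hP, hP']))
      apply hspec
      rw [← hg, ← comap_of_comap G f hle P, ← comap_of_comap G f hle P']
      exact congrArg (Ideal.comap (f _ _ hle)) heq
    calc (n : ℕ∞) = T.encard := hTcard.symm
      _ = ((fun P : Ideal (Rlim) => P.comap (ofR i0)) '' T).encard := (hinj.encard_image).symm
      _ ≤ (minimalPrimes (G i0)).encard := Set.encard_le_encard (by
          rintro _ ⟨P, hP, rfl⟩
          exact comap_mem_minimalPrimes G f hflat P (hTsub hP) i0)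
      _ ≤ ⨆ i, (minimalPrimes (G i)).encard :=
          le_iSup (fun i => (minimalPrimes (G i)).encard) i0
  · apply iSup_le
    intro i
    calc (minimalPrimes (G i)).encard
        ≤ ((fun P : Ideal (Rlim) => P.comap (ofR i)) '' minimalPrimes (Rlim)).encard :=
          Set.encard_le_encard (by
            intro p hp
            obtain ⟨P, hP, rfl⟩ := exists_minimalPrimes_comap_eq G f hf i p hp
            exact ⟨P, hP, rfl⟩)
      _ ≤ (minimalPrimes (Rlim)).encard := Set.encard_image_le _ _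

end

end Groth.Agent.Lib.MinPrimesColimH3
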