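import Mathlib
import Groth.Prelude.Def_W4sfdMinVersal
import Groth.Agent.Lib.ArtFunKT_helper1
import Groth.Agent.Lib.ArtFunMin_helper1
import Groth.Agent.S12720
import Groth.Agent.S12758

/-!
Helper library (helper1): Fitting idempotents of endomorphisms of formal couples, minimal versal
families as retracts, and the power series structure of a versal family over a minimal one.
APPEND-ONLY once landed.
-/

set_option autoImplicit false
universe u v

open CategoryTheory

namespace Groth.Agent.Lib.MinVersalH1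

open ArtFun ArtFun.Art MvPowerSeries Groth.Agent.Lib.ArtFunH1 Groth.Agent.Lib.SchlH1
  Groth.Agent.Lib.MinH1 Groth.Agent.Lib.ArtFunKT Groth.Agent.Lib.PSCompleteH1
  Groth.Agent.Lib.ObsH1

section Proj

/-- projection onto the range of `τ` along its kernel, as an algebra map -/
theorem exists_proj {Λ A : Type*} [CommRing Λ] [CommRing A] [Algebra Λ A] (τ : A →ₐ[Λ] A)
    (h1 : ∀ x, ∃ s, (∃ y, τ y = s) ∧ τ (x - s) = 0)
    (h2 : ∀ d, (∃ y, τ y = d) → τ d = 0 → d = 0) :
    ∃ e : A →ₐ[Λ] A, (∀ x, ∃ y, τ y = e x) ∧ (∀ x, τ (x - e x) = 0) := by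
  choose s hs1 hs2 using h1
  have huniq : ∀ x t, (∃ y, τ y = t) → τ (x - t) = 0 → t = s x := by
    intro x t ht1 ht
    obtain ⟨y, hy⟩ := ht1
    obtain ⟨y', hy'⟩ := hs1 x
    have h3 : t - s x = 0 := by
      apply h2 _ ⟨y - y', by rw [map_sub, hy, hy']⟩
      have e1 : t - s x = (x - s x) - (x - t) := by ring
      rw [e1, map_sub, hs2, ht, sub_zero]
    exact sub_eq_zero.1 h3
  refine ⟨{ toFun := s, map_one' := ?_, map_mul' := ?_, map_zero' := ?_, map_add' := ?_,
            commutes' := ?_ }, hs1, hs2⟩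
  · exact (huniq 1 1 ⟨1, map_one τ⟩ (by rw [sub_self, map_zero])).symm
  · intro x y
    obtain ⟨a, ha⟩ := hs1 x
    obtain ⟨b, hb⟩ := hs1 y
    refine (huniq (x * y) (s x * s y) ⟨a * b, by rw [map_mul, ha, hb]⟩ ?_).symm
    have e1 : x * y - s x * s y = (x - s x) * y + s x * (y - s y) := by ring
    rw [e1, map_add, map_mul, map_mul, hs2, hs2, zero_mul, mul_zero, add_zero]
  · exact (huniq 0 0 ⟨0, map_zero τ⟩ (by rw [sub_self, map_zero])).symm
  · intro x y
    obtain ⟨a, ha⟩ := hs1 x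
    obtain ⟨b, hb⟩ := hs1 y
    refine (huniq (x + y) (s x + s y) ⟨a + b, by rw [map_add, ha, hb]⟩ ?_).symm
    have e1 : x + y - (s x + s y) = (x - s x) + (y - s y) := by ring
    rw [e1, map_add, hs2, hs2, add_zero]
  · intro c
    exact (huniq _ _ ⟨algebraMap Λ A c, τ.commutes c⟩ (by rw [sub_self, map_zero])).symm

end Proj

variable {Λ : Type u} {k : Type u} [CommRing Λ] [Field k] [Algebra Λ k]

section Fit

/-- iterates of an endomorphism -/
def pw {A : Art Λ k} (θ : A ⟶ A) : ℕ → (A ⟶ A)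
  | 0 => 𝟙 A
  | (n + 1) => pw θ n ≫ θ

theorem pw_zero_apply {A : Art Λ k} (θ : A ⟶ A) (x : A) : pw θ 0 x = x := rfl

theorem pw_succ_apply {A : Art Λ k} (θ : A ⟶ A) (n : ℕ) (x : A) :
    pw θ (n + 1) x = θ (pw θ n x) := rfl

theorem pw_add_apply {A : Art Λ k} (θ : A ⟶ A) (m n : ℕ) (x : A) :
    pw θ (m + n) x = pw θ m (pw θ n x) := by
  induction m with
  | zero => rw [Nat.zero_add]; rfl
  | succ m ih => rw [Nat.add_right_comm, pw_succ_apply, ih, pw_succ_apply]

theorem pw_map_zero {A : Art Λ k} (θ : A ⟶ A) (n : ℕ) : pw θ n (0 : A) = 0 :=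
  map_zero (pw θ n).toAlgHom

theorem pw_map_sub {A : Art Λ k} (θ : A ⟶ A) (n : ℕ) (x y : A) :
    pw θ n (x - y) = pw θ n x - pw θ n y :=
  map_sub (pw θ n).toAlgHom x y

theorem pw_eq_zero_of_le {A : Art Λ k} (θ : A ⟶ A) {n m : ℕ} (h : n ≤ m) {x : A}
    (hx : pw θ n x = 0) : pw θ m x = 0 := by
  obtain ⟨d, rfl⟩ := Nat.exists_eq_add_of_le h
  rw [Nat.add_comm, pw_add_apply, hx, pw_map_zero]

theorem pw_lin {A : Art Λ k} (θ : A ⟶ A) (n : ℕ) (x : A) :
    ((θ.toAlgHom.toLinearMap : Module.End Λ A) ^ n) x = pw θ n x := by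
  induction n with
  | zero => rw [pow_zero]; rfl
  | succ n ih => rw [pow_succ', Module.End.mul_apply, ih]; rfl

theorem pw_comm {A A' : Art Λ k} (θ : A ⟶ A) (θ' : A' ⟶ A') (π : A ⟶ A')
    (h : ∀ x, π (θ x) = θ' (π x)) (n : ℕ) (x : A) : π (pw θ n x) = pw θ' n (π x) := by
  induction n with
  | zero => rfl
  | succ n ih => rw [pw_succ_apply, pw_succ_apply, h, ih]

theorem map_pw {F : Art Λ k ⥤ Type v} {A : Art Λ k} (θ : A ⟶ A) (ζ : F.obj A)
    (h : F.map θ ζ = ζ) (n : ℕ) : F.map (pw θ n) ζ = ζ := by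
  induction n with
  | zero => exact ArtFunH1.map_id_apply F A ζ
  | succ n ih =>
    show F.map (pw θ n ≫ θ) ζ = ζ
    rw [ArtFunH1.map_comp_apply, ih, h]

variable [IsNoetherianRing Λ] [Module.Finite Λ k]

theorem exists_fit {A : Art Λ k} (θ : A ⟶ A) :
    ∃ (e : A ⟶ A) (N : ℕ), (∀ x n, ∃ y, pw θ n y = e x) ∧ (∀ x, pw θ N (x - e x) = 0) ∧
      (∀ x n, ∃ y, pw θ n y = pw θ N x) := by
  have hfl := isFiniteLength_art A
  haveI hNo : IsNoetherian Λ A := (isFiniteLength_iff_isNoetherian_isArtinian.mp hfl).1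
  haveI hAr : IsArtinian Λ A := (isFiniteLength_iff_isNoetherian_isArtinian.mp hfl).2
  obtain ⟨f, hf⟩ : ∃ f : Module.End Λ A, f = θ.toAlgHom.toLinearMap := ⟨_, rfl⟩
  have hpw : ∀ n x, (f ^ n) x = pw θ n x := fun n x => by rw [hf]; exact pw_lin θ n x
  obtain ⟨N, hN'⟩ := Filter.eventually_atTop.mp
    ((LinearMap.eventually_isCompl_ker_pow_range_pow f).and
      (LinearMap.eventually_iInf_range_pow_eq f))
  obtain ⟨hc, hr⟩ := hN' N le_rfl
  have h1 : ∀ x, ∃ s, (∃ y, (pw θ N).toAlgHom y = s) ∧ (pw θ N).toAlgHom (x - s) = 0 := by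
    intro x
    have hx : x ∈ LinearMap.ker (f ^ N) ⊔ LinearMap.range (f ^ N) := by
      rw [hc.sup_eq_top]; trivial
    obtain ⟨a, ha, b, hb, hab⟩ := Submodule.mem_sup.1 hx
    obtain ⟨y, hy⟩ := LinearMap.mem_range.1 hb
    refine ⟨b, ⟨y, (hpw N y).symm.trans hy⟩, ?_⟩
    have e1 : x - b = a := by rw [← hab]; ring
    rw [e1]
    exact (hpw N a).symm.trans (LinearMap.mem_ker.1 ha)
  have h2 : ∀ d, (∃ y, (pw θ N).toAlgHom y = d) → (pw θ N).toAlgHom d = 0 → d = 0 := by
    intro d hd1 hd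
    obtain ⟨y, hy⟩ := hd1
    exact Submodule.disjoint_def.1 hc.disjoint d (LinearMap.mem_ker.2 ((hpw N d).trans hd))
      (LinearMap.mem_range.2 ⟨y, (hpw N y).trans hy⟩)
  obtain ⟨e₀, he1, he2⟩ := exists_proj (pw θ N).toAlgHom h1 h2
  have hres : A.res.comp e₀ = A.res := by
    apply AlgHom.ext
    intro x
    have h3 : A.res (x - e₀ x) = 0 := by
      rw [← Art.res_app (pw θ N) (x - e₀ x)]
      have h4 : (pw θ N) (x - e₀ x) = 0 := he2 x
      rw [h4, map_zero]
    rw [map_sub, sub_eq_zero] at h3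
    exact h3.symm
  refine ⟨⟨e₀, hres⟩, N, ?_, he2, ?_⟩
  · intro x n
    obtain ⟨y, hy⟩ := he1 x
    have h4 : e₀ x ∈ LinearMap.range (f ^ N) :=
      LinearMap.mem_range.2 ⟨y, (hpw N y).trans hy⟩
    rw [← hr] at h4
    obtain ⟨z, hz⟩ := LinearMap.mem_range.1 ((Submodule.mem_iInf _).1 h4 n)
    exact ⟨z, (hpw n z).symm.trans hz⟩
  · intro x n
    have h4 : pw θ N x ∈ LinearMap.range (f ^ N) :=
      LinearMap.mem_range.2 ⟨x, hpw N x⟩
    rw [← hr] at h4
    obtain ⟨z, hz⟩ := LinearMap.mem_range.1 ((Submodule.mem_iInf _).1 h4 n)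
    exact ⟨z, (hpw n z).symm.trans hz⟩

theorem fit_unique {A : Art Λ k} (θ : A ⟶ A) (x s s' : A)
    (hs : ∀ n, ∃ y, pw θ n y = s) (hs' : ∀ n, ∃ y, pw θ n y = s')
    (hk : ∃ n, pw θ n (x - s) = 0) (hk' : ∃ n, pw θ n (x - s') = 0) : s = s' := by
  have hfl := isFiniteLength_art A
  haveI hNo : IsNoetherian Λ A := (isFiniteLength_iff_isNoetherian_isArtinian.mp hfl).1
  obtain ⟨f, hf⟩ : ∃ f : Module.End Λ A, f = θ.toAlgHom.toLinearMap := ⟨_, rfl⟩
  have hpw : ∀ n x, (f ^ n) x = pw θ n x := fun n x => by rw [hf]; exact pw_lin θ n x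
  obtain ⟨M, hM⟩ := Filter.eventually_atTop.mp
    (Module.End.eventually_disjoint_ker_pow_range_pow f)
  obtain ⟨n1, h1⟩ := hk
  obtain ⟨n2, h2⟩ := hk'
  obtain ⟨m, hm⟩ : ∃ m, m = max M (max n1 n2) := ⟨_, rfl⟩
  have hmM : M ≤ m := by rw [hm]; exact le_max_left _ _
  have hm1 : n1 ≤ m := by rw [hm]; exact le_trans (le_max_left _ _) (le_max_right _ _)
  have hm2 : n2 ≤ m := by rw [hm]; exact le_trans (le_max_right _ _) (le_max_right _ _)
  have hd := hM m hmM
  obtain ⟨y, hy⟩ := hs m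
  obtain ⟨y', hy'⟩ := hs' m
  have hz : pw θ m (s - s') = 0 := by
    have e1 : s - s' = (x - s') - (x - s) := by ring
    rw [e1, pw_map_sub, pw_eq_zero_of_le θ hm1 h1, pw_eq_zero_of_le θ hm2 h2, sub_zero]
  have h0 : s - s' = 0 := by
    apply Submodule.disjoint_def.1 hd
    · exact LinearMap.mem_ker.2 ((hpw m _).trans hz)
    · refine LinearMap.mem_range.2 ⟨y - y', ?_⟩
      rw [hpw, ← hy, ← hy']
      exact pw_map_sub θ m y y'
  exact sub_eq_zero.1 h0

/-- the Fitting idempotent of an endomorphism -/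
noncomputable def fitE {A : Art Λ k} (θ : A ⟶ A) : A ⟶ A := (exists_fit θ).choose

/-- a stabilising exponent -/
noncomputable def fitN {A : Art Λ k} (θ : A ⟶ A) : ℕ := (exists_fit θ).choose_spec.choose

theorem fitE_range {A : Art Λ k} (θ : A ⟶ A) (x : A) (n : ℕ) : ∃ y, pw θ n y = fitE θ x :=
  (exists_fit θ).choose_spec.choose_spec.1 x n

theorem fitE_ker {A : Art Λ k} (θ : A ⟶ A) (x : A) : pw θ (fitN θ) (x - fitE θ x) = 0 :=
  (exists_fit θ).choose_spec.choose_spec.2.1 x

theorem fitN_range {A : Art Λ k} (θ : A ⟶ A) (x : A) (n : ℕ) :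
    ∃ y, pw θ n y = pw θ (fitN θ) x :=
  (exists_fit θ).choose_spec.choose_spec.2.2 x n

theorem fitE_unique {A : Art Λ k} (θ : A ⟶ A) (x s : A) (hs : ∀ n, ∃ y, pw θ n y = s)
    (hk : ∃ n, pw θ n (x - s) = 0) : s = fitE θ x :=
  fit_unique θ x s (fitE θ x) hs (fitE_range θ x) hk ⟨fitN θ, fitE_ker θ x⟩

theorem fitE_idem {A : Art Λ k} (θ : A ⟶ A) (x : A) : fitE θ (fitE θ x) = fitE θ x :=
  (fitE_unique θ (fitE θ x) (fitE θ x) (fitE_range θ x)
    ⟨0, by rw [sub_self]; exact pw_map_zero θ 0⟩).symm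

theorem fitE_pw {A : Art Λ k} (θ : A ⟶ A) (x : A) :
    fitE θ (pw θ (fitN θ) x) = pw θ (fitN θ) x :=
  (fitE_unique θ _ _ (fitN_range θ x) ⟨0, by rw [sub_self]; exact pw_map_zero θ 0⟩).symm

theorem fitE_map {F : Art Λ k ⥤ Type v} {A : Art Λ k} (θ : A ⟶ A) (ζ : F.obj A)
    (h : F.map θ ζ = ζ) : F.map (fitE θ) ζ = ζ := by
  have h1 : pw θ (fitN θ) ≫ fitE θ = pw θ (fitN θ) := by
    apply Art.hom_ext
    apply AlgHom.ext
    intro x
    exact fitE_pw θ x
  have h2 := map_pw θ ζ h (fitN θ)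
  calc F.map (fitE θ) ζ = F.map (fitE θ) (F.map (pw θ (fitN θ)) ζ) := by rw [h2]
    _ = F.map (pw θ (fitN θ) ≫ fitE θ) ζ := (ArtFunH1.map_comp_apply F _ _ ζ).symm
    _ = ζ := by rw [h1, h2]

theorem fitE_natural {A A' : Art Λ k} (θ : A ⟶ A) (θ' : A' ⟶ A') (π : A ⟶ A')
    (h : θ ≫ π = π ≫ θ') : fitE θ ≫ π = π ≫ fitE θ' := by
  have hc : ∀ x, π (θ x) = θ' (π x) := fun x => by
    have h1 := congrArg (fun f : A ⟶ A' => f x) h
    exact h1
  apply Art.hom_ext
  apply AlgHom.ext
  intro x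
  show π (fitE θ x) = fitE θ' (π x)
  apply fitE_unique θ' (π x) (π (fitE θ x))
  · intro n
    obtain ⟨y, hy⟩ := fitE_range θ x n
    exact ⟨π y, by rw [← pw_comm θ θ' π hc, hy]⟩
  · refine ⟨fitN θ, ?_⟩
    have e1 : π x - π (fitE θ x) = π (x - fitE θ x) := (map_sub π.toAlgHom _ _).symm
    rw [e1, ← pw_comm θ θ' π hc, fitE_ker]
    exact map_zero π.toAlgHom

theorem injective_of_fitE_eq_id {A : Art Λ k} (θ : A ⟶ A) (h : ∀ x, fitE θ x = x) :
    Function.Injective θ := by
  intro a b hab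
  have hx : θ (a - b) = 0 := by
    show θ.toAlgHom (a - b) = 0
    rw [map_sub, sub_eq_zero]
    exact hab
  have h0 : (0 : A) = fitE θ (a - b) := by
    apply fitE_unique θ (a - b) 0
    · intro n
      exact ⟨0, pw_map_zero θ n⟩
    · refine ⟨1, ?_⟩
      rw [sub_zero, pw_succ_apply]
      exact hx
  rw [h] at h0
  exact sub_eq_zero.1 h0.symm

end Fit

section Formal

variable [IsNoetherianRing Λ] [Module.Finite Λ k] {F : Art Λ k ⥤ Type v}

/-- the Fitting idempotent of an endomorphism of a formal couple -/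
theorem exists_idem (R : CRing Λ k) (ξ : Family R.carrier R.res F)
    (θ : R.carrier →ₐ[Λ] R.carrier) (hθ : R.res.comp θ = R.res)
    (hE : (ξ.along θ hθ).toFormalElt = ξ.toFormalElt) :
    ∃ (e : R.carrier →ₐ[Λ] R.carrier) (he : R.res.comp e = R.res),
      (∀ a, e (e a) = e a) ∧ (ξ.along e he).toFormalElt = ξ.toFormalElt ∧
      (Function.Surjective e → Function.Surjective θ) := by
  obtain ⟨θn, hθn⟩ : ∃ θn : ∀ n, R.trunc n ⟶ R.trunc n,
      θn = fun n => CRing.truncMapOfHom θ hθ n := ⟨_, rfl⟩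
  have hθmk : ∀ n a, θn n (Ideal.Quotient.mk (CRing.mpow R n) a) =
      Ideal.Quotient.mk (CRing.mpow R n) (θ a) := by
    intro n a
    rw [hθn]
    rfl
  have hcompat : ∀ n, θn (n + 1) ≫ R.truncMap n = R.truncMap n ≫ θn n := by
    intro n
    rw [hθn]
    exact CRing.truncMapOfHom_truncMap θ hθ n
  have hen : ∀ n, fitE (θn (n + 1)) ≫ R.truncMap n = R.truncMap n ≫ fitE (θn n) :=
    fun n => fitE_natural _ _ _ (hcompat n)
  obtain ⟨φ, hφdef⟩ : ∃ φ : ∀ n, HomSet R.carrier R.res (R.trunc n),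
      φ = fun n => HomSet.map (fitE (θn n)) (R.truncHom n) := ⟨_, rfl⟩
  have hφn : ∀ n, φ n = HomSet.map (fitE (θn n)) (R.truncHom n) := fun n => by rw [hφdef]
  have hφ : ∀ n, HomSet.map (R.truncMap n) (φ (n + 1)) = φ n := by
    intro n
    rw [hφn, hφn, ← hmap_comp, hen, hmap_comp, CRing.truncMap_truncHom]
  obtain ⟨e, he, heφ⟩ := exists_algHom_of_compatible R φ hφ
  have hemk : ∀ n a, Ideal.Quotient.mk (CRing.mpow R n) (e a) =
      fitE (θn n) (Ideal.Quotient.mk (CRing.mpow R n) a) := by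
    intro n a
    have h1 := congrArg (fun ψ : HomSet R.carrier R.res (R.trunc n) => ψ.1 a) (heφ n)
    rw [hφn] at h1
    exact h1
  have hidem : ∀ a, e (e a) = e a := by
    intro a
    rw [← sub_eq_zero]
    apply eq_zero_of_forall_mem_mpow
    intro n
    rw [← Ideal.Quotient.eq_zero_iff_mem, map_sub, hemk n (e a), hemk n a]
    exact sub_eq_zero.2 (fitE_idem (θn n) _)
  have hEe : (ξ.along e he).toFormalElt = ξ.toFormalElt := by
    apply FormalElt.ext'
    intro n
    have h1 : ((ξ.along e he).toFormalElt).elt n = ξ.app _ (φ n) :=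
      congrArg (ξ.app (R.trunc n)) (heφ n)
    rw [h1, hφn, ξ.natural]
    apply fitE_map
    rw [← ξ.natural]
    have h2 : HomSet.map (θn n) (R.truncHom n) =
        ⟨(R.truncHom n).1.comp θ, by rw [← AlgHom.comp_assoc, (R.truncHom n).2, hθ]⟩ := by
      apply Subtype.ext
      apply AlgHom.ext
      intro a
      exact hθmk n a
    rw [h2]
    exact congrArg (fun t => t.elt n) hE
  refine ⟨e, he, hidem, hEe, ?_⟩
  intro hs
  have hid : ∀ a, e a = a := by
    intro a
    obtain ⟨b, rfl⟩ := hs a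
    exact hidem b
  have h1 : ∀ x, fitE (θn 1) x = x := by
    intro x
    obtain ⟨a, rfl⟩ := Ideal.Quotient.mk_surjective x
    rw [← hemk, hid]
  have hinj : Function.Injective (θn 1) := injective_of_fitE_eq_id _ h1
  have hsur1 : Function.Surjective (θn 1) :=
    IsArtinian.surjective_of_injective_endomorphism (θn 1).toAlgHom.toLinearMap hinj
  have hcot : Ideal.map θ (IsLocalRing.maximalIdeal R.carrier) ⊔
      IsLocalRing.maximalIdeal R.carrier ^ 2 = IsLocalRing.maximalIdeal R.carrier := by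
    apply le_antisymm
    · refine sup_le ?_ (Ideal.pow_le_self two_ne_zero)
      rw [Ideal.map_le_iff_le_comap]
      exact CRing.maximalIdeal_le_comap θ hθ
    · intro a ha
      obtain ⟨y, hy⟩ := hsur1 (Ideal.Quotient.mk (CRing.mpow R 1) a)
      obtain ⟨b, rfl⟩ := Ideal.Quotient.mk_surjective y
      rw [hθmk] at hy
      have h2 : θ b - a ∈ CRing.mpow R 1 := Ideal.Quotient.eq.1 hy
      have h3 : θ b - a ∈ IsLocalRing.maximalIdeal R.carrier ^ 2 := h2
      have hb : b ∈ IsLocalRing.maximalIdeal R.carrier := by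
        rw [CRing.mem_maximalIdeal_iff, ← CRing.res_comp_apply θ hθ b]
        have h4 : θ b - a ∈ IsLocalRing.maximalIdeal R.carrier :=
          Ideal.pow_le_self two_ne_zero h3
        have h5 := (Submodule.sub_mem_iff_left _ ha).1 h4
        exact (CRing.mem_maximalIdeal_iff R _).1 h5
      have e1 : a = θ b - (θ b - a) := by ring
      rw [e1]
      exact Ideal.sub_mem _ (Ideal.mem_sup_left (Ideal.mem_map_of_mem θ hb))
        (Ideal.mem_sup_right h3)
  exact ((Groth.Agent.S12714.result R R θ hθ).out 1 0).1 hcot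

end Formal

section Retract

/-- a retraction of coefficient rings -/
structure Retract (R R' : CRing Λ k) where
  q : R.carrier →ₐ[Λ] R'.carrier
  hq : R'.res.comp q = R.res
  g : R'.carrier →ₐ[Λ] R.carrier
  hg : R.res.comp g = R'.res
  hqg : ∀ a, q (g a) = a

theorem Retract.he {R R' : CRing Λ k} (T : Retract R R') :
    R.res.comp (T.g.comp T.q) = R.res := by
  rw [← AlgHom.comp_assoc, T.hg, T.hq]

variable {F : Art Λ k ⥤ Type v}

/-- idempotent symmetries of a family -/
def IsIdemE {R : CRing Λ k} (ξ : Family R.carrier R.res F)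
    (e : R.carrier →ₐ[Λ] R.carrier) : Prop :=
  ∃ he : R.res.comp e = R.res, (∀ a, e (e a) = e a) ∧
    (ξ.along e he).toFormalElt = ξ.toFormalElt

theorem exists_max_idem (R : CRing Λ k) (ξ : Family R.carrier R.res F) :
    ∃ e : R.carrier →ₐ[Λ] R.carrier, IsIdemE ξ e ∧
      ∀ e' : R.carrier →ₐ[Λ] R.carrier, IsIdemE ξ e' →
        ¬ (RingHom.ker e < RingHom.ker e') := by
  let a : Set (Ideal R.carrier) :=
    {I | ∃ e : R.carrier →ₐ[Λ] R.carrier, IsIdemE ξ e ∧ RingHom.ker e = I}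
  have hid : IsIdemE ξ (AlgHom.id Λ R.carrier) := by
    refine ⟨AlgHom.comp_id _, fun _ => rfl, ?_⟩
    apply FormalElt.ext'
    intro n
    exact congrArg (ξ.app _) (Subtype.ext (AlgHom.ext fun _ => rfl))
  have hne : a.Nonempty := ⟨RingHom.ker (AlgHom.id Λ R.carrier), AlgHom.id Λ R.carrier, hid, rfl⟩
  obtain ⟨I, hIa, hmax⟩ := (set_has_maximal_iff_noetherian.2
    (inferInstance : IsNoetherian R.carrier R.carrier)) a hne
  obtain ⟨e, he, rfl⟩ := hIa
  exact ⟨e, he, fun e' he' hlt => hmax _ ⟨e', he', rfl⟩ hlt⟩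

variable [IsNoetherianRing Λ] [Module.Finite Λ k]

theorem exists_retract_of_idem (R : CRing Λ k) (e : R.carrier →ₐ[Λ] R.carrier)
    (he : R.res.comp e = R.res) (hidem : ∀ a, e (e a) = e a) :
    ∃ (R' : CRing Λ k) (T : Retract R R'), ∀ a, T.g (T.q a) = e a := by
  have hI : RingHom.ker e ≤ IsLocalRing.maximalIdeal R.carrier := by
    intro a ha
    rw [CRing.mem_maximalIdeal_iff, ← CRing.res_comp_apply e he a, (RingHom.mem_ker).1 ha,
      map_zero]
  refine ⟨quotC R (RingHom.ker e) hI,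
    { q := Ideal.Quotient.mkₐ Λ (RingHom.ker e)
      hq := quot_mk_res R _ hI
      g := Ideal.Quotient.liftₐ (RingHom.ker e) e (fun a ha => (RingHom.mem_ker).1 ha)
      hg := ?_
      hqg := ?_ }, fun a => rfl⟩
  · apply AlgHom.ext
    intro x
    obtain ⟨a, rfl⟩ := Ideal.Quotient.mk_surjective x
    exact AlgHom.congr_fun he a
  · intro x
    obtain ⟨a, rfl⟩ := Ideal.Quotient.mk_surjective x
    show Ideal.Quotient.mk (RingHom.ker e) (e a) = Ideal.Quotient.mk (RingHom.ker e) a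
    rw [Ideal.Quotient.eq, RingHom.mem_ker, map_sub, hidem, sub_self]

theorem retract_versal {R R' : CRing Λ k} (T : Retract R R') (ξ : Family R.carrier R.res F)
    (hv : IsVersal ξ)
    (hEe : (ξ.along (T.g.comp T.q) T.he).toFormalElt = ξ.toFormalElt) :
    IsVersal (ξ.along T.q T.hq) := by
  intro B A μ hμ φ' y hy
  obtain ⟨ψ, hψ1, hψ2⟩ := hv μ hμ (pull T.q T.hq φ') y hy
  have hh : B.res.comp (ψ.1.comp T.g) = R'.res := by
    rw [← AlgHom.comp_assoc, ψ.2, T.hg]
  refine ⟨⟨ψ.1.comp T.g, hh⟩, ?_, ?_⟩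
  · apply Subtype.ext
    apply AlgHom.ext
    intro a
    show μ (ψ.1 (T.g a)) = φ'.1 a
    have h1 : μ (ψ.1 (T.g a)) = φ'.1 (T.q (T.g a)) :=
      congrArg (fun χ : HomSet R.carrier R.res A => χ.1 (T.g a)) hψ1
    rw [h1, T.hqg]
  · have h2 := family_app_eq_of_toFormalElt_eq R _ _ hEe B ψ
    have h3 : (ξ.along T.q T.hq).app B ⟨ψ.1.comp T.g, hh⟩ =
        (ξ.along (T.g.comp T.q) T.he).app B ψ :=
      congrArg (ξ.app B) (Subtype.ext (AlgHom.ext fun _ => rfl))
    exact h3.trans (h2.trans hψ2)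

theorem retract_along_g {R R' : CRing Λ k} (T : Retract R R') (ξ : Family R.carrier R.res F)
    (hEe : (ξ.along (T.g.comp T.q) T.he).toFormalElt = ξ.toFormalElt) :
    ((ξ.along T.q T.hq).along T.g T.hg).toFormalElt = ξ.toFormalElt := by
  rw [← hEe]
  apply FormalElt.ext'
  intro n
  exact congrArg (ξ.app _) (Subtype.ext (AlgHom.ext fun _ => rfl))

theorem retract_minimal (h0 : H0 F) {R R' : CRing Λ k} (T : Retract R R')
    (ξ : Family R.carrier R.res F) (hv : IsVersal ξ)
    (hEe : (ξ.along (T.g.comp T.q) T.he).toFormalElt = ξ.toFormalElt)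
    (hmax : ∀ e' : R.carrier →ₐ[Λ] R.carrier, IsIdemE ξ e' →
      ¬ (RingHom.ker (T.g.comp T.q) < RingHom.ker e')) :
    (ξ.along T.q T.hq).IsMinimalVersal := by
  have hv' := retract_versal T ξ hv hEe
  refine ⟨hv', ?_⟩
  intro R'' u f hf hpush
  obtain ⟨h, hh, hhE⟩ := Groth.Agent.S12720.result h0 R' (ξ.along T.q T.hq) hv' R'' u
  have hθ₁ : R'.res.comp (f.comp h) = R'.res := by rw [← AlgHom.comp_assoc, hf, hh]
  have hE₁ : ((ξ.along T.q T.hq).along (f.comp h) hθ₁).toFormalElt =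
      (ξ.along T.q T.hq).toFormalElt := by
    rw [← hpush, ← hhE, Groth.Agent.S12758.push_toFormalElt]
    apply FormalElt.ext'
    intro n
    exact congrArg ((ξ.along T.q T.hq).app _) (Subtype.ext (AlgHom.ext fun _ => rfl))
  obtain ⟨e₁, he₁, hidem₁, hEe₁, hsurj₁⟩ :=
    exists_idem R' (ξ.along T.q T.hq) (f.comp h) hθ₁ hE₁
  by_cases hs : Function.Surjective e₁
  · have h1 := hsurj₁ hs
    intro b
    obtain ⟨a, ha⟩ := h1 b
    exact ⟨h a, ha⟩
  · exfalso
    have hex : ∃ b, e₁ b ≠ b := by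
      by_contra hcon
      push Not at hcon
      exact hs (fun b => ⟨b, hcon b⟩)
    obtain ⟨b, hb⟩ := hex
    obtain ⟨e', he'def⟩ : ∃ e' : R.carrier →ₐ[Λ] R.carrier, e' = T.g.comp (e₁.comp T.q) :=
      ⟨_, rfl⟩
    have he'a : ∀ a, e' a = T.g (e₁ (T.q a)) := fun a => by rw [he'def]; rfl
    have he' : R.res.comp e' = R.res := by
      rw [he'def, ← AlgHom.comp_assoc, T.hg, ← AlgHom.comp_assoc, he₁, T.hq]
    have hidem' : ∀ a, e' (e' a) = e' a := by
      intro a
      rw [he'a, he'a, T.hqg, hidem₁]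
    have hE' : (ξ.along e' he').toFormalElt = ξ.toFormalElt := by
      apply FormalElt.ext'
      intro n
      have hpg : (R.trunc n).res.comp ((R.truncHom n).1.comp T.g) = R'.res := by
        rw [← AlgHom.comp_assoc, (R.truncHom n).2, T.hg]
      have s1 : (ξ.along e' he').app _ (R.truncHom n) =
          ((ξ.along T.q T.hq).along e₁ he₁).app _
            (⟨(R.truncHom n).1.comp T.g, hpg⟩ : HomSet R'.carrier R'.res (R.trunc n)) := by
        apply congrArg (ξ.app _)
        apply Subtype.ext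
        apply AlgHom.ext
        intro a
        show (R.truncHom n).1 (e' a) = (R.truncHom n).1 (T.g (e₁ (T.q a)))
        rw [he'a]
      have s2 := family_app_eq_of_toFormalElt_eq R' _ _ hEe₁ _
        (⟨(R.truncHom n).1.comp T.g, hpg⟩ : HomSet R'.carrier R'.res (R.trunc n))
      have s3 : (ξ.along T.q T.hq).app _
          (⟨(R.truncHom n).1.comp T.g, hpg⟩ : HomSet R'.carrier R'.res (R.trunc n)) =
          (ξ.along (T.g.comp T.q) T.he).app _ (R.truncHom n) :=
        congrArg (ξ.app _) (Subtype.ext (AlgHom.ext fun _ => rfl))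
      have s4 := family_app_eq_of_toFormalElt_eq R _ _ hEe _ (R.truncHom n)
      exact s1.trans (s2.trans (s3.trans s4))
    have hlt : RingHom.ker (T.g.comp T.q) < RingHom.ker e' := by
      refine SetLike.lt_iff_le_and_exists.2 ⟨?_, T.g (b - e₁ b), ?_, ?_⟩
      · intro a ha
        rw [RingHom.mem_ker] at ha ⊢
        have h1 : T.q a = 0 := by
          have h2 := congrArg T.q ha
          have h3 : T.q ((T.g.comp T.q) a) = T.q a := T.hqg (T.q a)
          rw [h3, map_zero] at h2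
          exact h2
        rw [he'a, h1, map_zero, map_zero]
      · rw [RingHom.mem_ker, he'a, T.hqg, map_sub, hidem₁, sub_self, map_zero]
      · rw [RingHom.mem_ker]
        intro h0'
        have h2 := congrArg T.q h0'
        have h3 : T.q ((T.g.comp T.q) (T.g (b - e₁ b))) = b - e₁ b := by
          show T.q (T.g (T.q (T.g (b - e₁ b)))) = b - e₁ b
          rw [T.hqg, T.hqg]
        rw [h3, map_zero, sub_eq_zero] at h2
        exact hb h2.symm
    exact hmax e' ⟨he', hidem', hE'⟩ hlt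

end Retract

section PS

variable [IsNoetherianRing Λ] [Module.Finite Λ k] {F : Art Λ k ⥤ Type v}

/-- generating sets of the relative cotangent space inside the kernel of the retraction -/
def IsGenT {R R' : CRing Λ k} (T : Retract R R') (s : Finset R.carrier) : Prop :=
  (∀ x ∈ s, T.q x = 0) ∧
    Ideal.map T.g (IsLocalRing.maximalIdeal R'.carrier) ⊔ Ideal.span (s : Set R.carrier) ⊔
      IsLocalRing.maximalIdeal R.carrier ^ 2 = IsLocalRing.maximalIdeal R.carrier

omit [IsNoetherianRing Λ] [Module.Finite Λ k] in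
theorem ker_q_le {R R' : CRing Λ k} (T : Retract R R') (a : R.carrier) (ha : T.q a = 0) :
    a ∈ IsLocalRing.maximalIdeal R.carrier := by
  rw [CRing.mem_maximalIdeal_iff, ← CRing.res_comp_apply T.q T.hq a, ha, map_zero]

omit [IsNoetherianRing Λ] [Module.Finite Λ k] in
theorem map_g_le {R R' : CRing Λ k} (T : Retract R R') :
    Ideal.map T.g (IsLocalRing.maximalIdeal R'.carrier) ≤ IsLocalRing.maximalIdeal R.carrier :=
  Ideal.map_le_iff_le_comap.2 (CRing.maximalIdeal_le_comap T.g T.hg)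

omit [IsNoetherianRing Λ] [Module.Finite Λ k] in
theorem map_q_le {R R' : CRing Λ k} (T : Retract R R') :
    Ideal.map T.q (IsLocalRing.maximalIdeal R.carrier) ≤ IsLocalRing.maximalIdeal R'.carrier :=
  Ideal.map_le_iff_le_comap.2 (CRing.maximalIdeal_le_comap T.q T.hq)

omit [IsNoetherianRing Λ] [Module.Finite Λ k] in
theorem exists_isGenT {R R' : CRing Λ k} (T : Retract R R') :
    ∃ s : Finset R.carrier, IsGenT T s := by
  have hfg : (RingHom.ker T.q).FG :=
    (isNoetherianRing_iff_ideal_fg R.carrier).1 inferInstance _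
  obtain ⟨s, hs⟩ := hfg
  have hsq : ∀ x ∈ s, T.q x = 0 := fun x hx => by
    have h1 : x ∈ RingHom.ker T.q := by
      rw [← hs]
      exact Ideal.subset_span hx
    exact (RingHom.mem_ker).1 h1
  refine ⟨s, hsq, ?_⟩
  apply le_antisymm
  · refine sup_le (sup_le (map_g_le T) ?_) (Ideal.pow_le_self two_ne_zero)
    rw [Ideal.span_le]
    intro x hx
    exact ker_q_le T x (hsq x (Finset.mem_coe.1 hx))
  · intro a ha
    have ha' : T.q a ∈ IsLocalRing.maximalIdeal R'.carrier := by
      rw [CRing.mem_maximalIdeal_iff, CRing.res_comp_apply T.q T.hq a]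
      exact (CRing.mem_maximalIdeal_iff R a).1 ha
    have h1 : a - T.g (T.q a) ∈ Ideal.span (s : Set R.carrier) := by
      rw [hs, RingHom.mem_ker, map_sub, T.hqg, sub_self]
    have e1 : a = T.g (T.q a) + (a - T.g (T.q a)) := by ring
    rw [e1]
    exact Ideal.add_mem _
      (Ideal.mem_sup_left (Ideal.mem_sup_left (Ideal.mem_map_of_mem _ ha')))
      (Ideal.mem_sup_left (Ideal.mem_sup_right h1))

omit [IsNoetherianRing Λ] [Module.Finite Λ k] in
/-- a minimal system of generators of the relative cotangent space -/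
theorem exists_min_gen (R R' : CRing Λ k) (T : Retract R R') :
    ∃ (n : ℕ) (x : Fin n → R.carrier), (∀ i, T.q (x i) = 0) ∧
      (Ideal.map T.g (IsLocalRing.maximalIdeal R'.carrier) ⊔ Ideal.span (Set.range x) ⊔
        IsLocalRing.maximalIdeal R.carrier ^ 2 = IsLocalRing.maximalIdeal R.carrier) ∧
      (∀ c : Fin n → R'.carrier,
        ∑ i, T.g (c i) * x i ∈ IsLocalRing.maximalIdeal R.carrier ^ 2 →
        ∀ i, c i ∈ IsLocalRing.maximalIdeal R'.carrier) := by
  classical
  have hex : ∃ m, ∃ s : Finset R.carrier, s.card = m ∧ IsGenT T s := by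
    obtain ⟨s, hs⟩ := exists_isGenT T
    exact ⟨s.card, s, rfl, hs⟩
  obtain ⟨s, hcard, hgen⟩ := Nat.find_spec hex
  have hmin : ∀ s' : Finset R.carrier, IsGenT T s' → Nat.find hex ≤ s'.card :=
    fun s' hs' => Nat.find_min' hex ⟨s', rfl, hs'⟩
  obtain ⟨n, hn⟩ : ∃ n, n = Nat.find hex := ⟨_, rfl⟩
  rw [← hn] at hcard hmin
  let ee : ↥s ≃ Fin n := Fintype.equivFinOfCardEq (by rw [Fintype.card_coe]; exact hcard)
  let x : Fin n → R.carrier := fun i => ((ee.symm i : ↥s) : R.carrier)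
  have hxs : ∀ i, x i ∈ s := fun i => (ee.symm i).2
  have hxinj : Function.Injective x := fun i j h => ee.symm.injective (Subtype.ext h)
  have hxsurj : ∀ y ∈ s, ∃ i, x i = y := fun y hy =>
    ⟨ee ⟨y, hy⟩, by
      show ((ee.symm (ee ⟨y, hy⟩) : ↥s) : R.carrier) = y
      rw [Equiv.symm_apply_apply]⟩
  have hrange : Set.range x = (s : Set R.carrier) := by
    ext y
    constructor
    · rintro ⟨i, rfl⟩
      exact Finset.mem_coe.2 (hxs i)
    · intro hy
      exact hxsurj y (Finset.mem_coe.1 hy)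
  refine ⟨n, x, fun i => hgen.1 _ (hxs i), ?_, ?_⟩
  · rw [hrange]
    exact hgen.2
  · intro c hc i₀
    by_contra hunit
    have hcu : IsUnit (c i₀) := by
      by_contra h
      exact hunit ((IsLocalRing.mem_maximalIdeal _).2 h)
    have hgen' : IsGenT T (s.erase (x i₀)) := by
      refine ⟨fun y hy => hgen.1 y (Finset.mem_of_mem_erase hy), ?_⟩
      apply le_antisymm
      · refine sup_le (sup_le (map_g_le T) ?_) (Ideal.pow_le_self two_ne_zero)
        rw [Ideal.span_le]
        intro y hy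
        exact ker_q_le T y (hgen.1 y (Finset.mem_of_mem_erase (Finset.mem_coe.1 hy)))
      · obtain ⟨J', hJ'⟩ : ∃ J' : Ideal R.carrier, J' =
            Ideal.map T.g (IsLocalRing.maximalIdeal R'.carrier) ⊔
            Ideal.span ((s.erase (x i₀) : Finset R.carrier) : Set R.carrier) ⊔
            IsLocalRing.maximalIdeal R.carrier ^ 2 := ⟨_, rfl⟩
        rw [← hJ']
        have hxJ : ∀ i, i ≠ i₀ → x i ∈ J' := fun i hi => by
          rw [hJ']
          exact Ideal.mem_sup_left (Ideal.mem_sup_right (Ideal.subset_span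
            (Finset.mem_coe.2 (Finset.mem_erase.2 ⟨fun h => hi (hxinj h), hxs i⟩))))
        have hsqJ : IsLocalRing.maximalIdeal R.carrier ^ 2 ≤ J' := by
          rw [hJ']; exact le_sup_right
        have hmJ : Ideal.map T.g (IsLocalRing.maximalIdeal R'.carrier) ≤ J' := by
          rw [hJ']; exact le_sup_of_le_left le_sup_left
        have hx₀J : x i₀ ∈ J' := by
          have hsum : ∑ i, T.g (c i) * x i = T.g (c i₀) * x i₀ +
              ∑ i ∈ Finset.univ.erase i₀, T.g (c i) * x i :=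
            (Finset.add_sum_erase _ _ (Finset.mem_univ i₀)).symm
          have h1 : T.g (c i₀) * x i₀ ∈ J' := by
            have e1 : T.g (c i₀) * x i₀ = ∑ i, T.g (c i) * x i -
                ∑ i ∈ Finset.univ.erase i₀, T.g (c i) * x i := by
              rw [hsum]; ring
            rw [e1]
            exact Ideal.sub_mem _ (hsqJ hc) (Ideal.sum_mem _ fun i hi =>
              Ideal.mul_mem_left _ _ (hxJ i (Finset.ne_of_mem_erase hi)))
          have hu : IsUnit (T.g (c i₀)) := hcu.map T.g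
          exact (Ideal.unit_mul_mem_iff_mem _ hu).1 h1
        intro a ha
        have ha' : a ∈ Ideal.map T.g (IsLocalRing.maximalIdeal R'.carrier) ⊔
            Ideal.span (s : Set R.carrier) ⊔ IsLocalRing.maximalIdeal R.carrier ^ 2 := by
          rw [hgen.2]; exact ha
        have hspan : Ideal.span (s : Set R.carrier) ≤ J' := by
          rw [Ideal.span_le]
          intro y hy
          obtain ⟨i, rfl⟩ := hxsurj y (Finset.mem_coe.1 hy)
          by_cases hi : i = i₀
          · rw [hi]; exact hx₀J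
          · exact hxJ i hi
        exact (sup_le (sup_le hmJ hspan) hsqJ) ha'
    have hc' := hmin _ hgen'
    rw [Finset.card_erase_of_mem (hxs i₀), hcard] at hc'
    have hpos : 0 < n := Fin.pos i₀
    omega

/-- the power series map attached to elements of the maximal ideal -/
theorem exists_ps_hom (R R' : CRing Λ k) (T : Retract R R') (n : ℕ) (x : Fin n → R.carrier)
    (hxm : ∀ i, x i ∈ IsLocalRing.maximalIdeal R.carrier) :
    ∃ φ : MvPowerSeries (Fin n) R'.carrier →ₐ[Λ] R.carrier,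
      R.res.comp φ = (psCRing R' n).res ∧ (∀ r, φ (C r) = T.g r) ∧ (∀ i, φ (X i) = x i) := by
  letI : Algebra R'.carrier R.carrier := (T.g : R'.carrier →+* R.carrier).toAlgebra
  haveI : IsScalarTower Λ R'.carrier R.carrier :=
    IsScalarTower.of_algebraMap_eq fun c => (T.g.commutes c).symm
  have hloc : ∀ r, R.res (algebraMap R'.carrier R.carrier r) = R'.res r :=
    fun r => AlgHom.congr_fun T.hg r
  haveI := R.isAdicComplete
  obtain ⟨φ, hφ⟩ := exists_algHom_of_complete (k := R'.carrier) (σ := Fin n)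
    (IsLocalRing.maximalIdeal R.carrier) x hxm
  have hφm : ∀ i, φ (X i) ∈ IsLocalRing.maximalIdeal R.carrier := fun i => by
    rw [hφ]; exact hxm i
  refine ⟨φ.restrictScalars Λ, ?_, ?_, hφ⟩
  · apply AlgHom.ext
    intro p
    exact res_algHom hloc n φ hφm p
  · intro r
    show φ (C r) = T.g r
    rw [MvPowerSeries.c_eq_algebraMap, AlgHom.commutes]
    rfl

set_option maxHeartbeats 800000 in
/-- the power series map is surjective and injective on cotangent spaces -/
theorem ps_cot (R R' : CRing Λ k) (T : Retract R R') (n : ℕ) (x : Fin n → R.carrier)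
    (hxq : ∀ i, T.q (x i) = 0)
    (hgen : Ideal.map T.g (IsLocalRing.maximalIdeal R'.carrier) ⊔ Ideal.span (Set.range x) ⊔
        IsLocalRing.maximalIdeal R.carrier ^ 2 = IsLocalRing.maximalIdeal R.carrier)
    (hli : ∀ c : Fin n → R'.carrier,
        ∑ i, T.g (c i) * x i ∈ IsLocalRing.maximalIdeal R.carrier ^ 2 →
        ∀ i, c i ∈ IsLocalRing.maximalIdeal R'.carrier)
    (φ : MvPowerSeries (Fin n) R'.carrier →ₐ[Λ] R.carrier)
    (hf : R.res.comp φ = (psCRing R' n).res) (hφC : ∀ r, φ (C r) = T.g r)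
    (hφX : ∀ i, φ (X i) = x i) :
    Function.Surjective φ ∧ ∀ p : MvPowerSeries (Fin n) R'.carrier,
      φ p ∈ IsLocalRing.maximalIdeal R.carrier ^ 2 →
      p ∈ IsLocalRing.maximalIdeal (MvPowerSeries (Fin n) R'.carrier) ^ 2 := by
  have hCmem : ∀ r ∈ IsLocalRing.maximalIdeal R'.carrier,
      (C r : MvPowerSeries (Fin n) R'.carrier) ∈
        IsLocalRing.maximalIdeal (MvPowerSeries (Fin n) R'.carrier) := by
    intro r hr
    rw [Groth.Agent.Lib.PSCompleteH1.mem_maximalIdeal_iff, constantCoeff_C]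
    exact hr
  have hXmem : ∀ i, (X i : MvPowerSeries (Fin n) R'.carrier) ∈
      IsLocalRing.maximalIdeal (MvPowerSeries (Fin n) R'.carrier) := by
    intro i
    rw [Groth.Agent.Lib.PSCompleteH1.mem_maximalIdeal_iff, constantCoeff_X]
    exact Ideal.zero_mem _
  have hmaple : Ideal.map φ (IsLocalRing.maximalIdeal (MvPowerSeries (Fin n) R'.carrier)) ≤
      IsLocalRing.maximalIdeal R.carrier := by
    rw [Ideal.map_le_iff_le_comap]
    intro p hp
    rw [Ideal.mem_comap, CRing.mem_maximalIdeal_iff]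
    have h1 : R.res (φ p) = (psCRing R' n).res p := AlgHom.congr_fun hf p
    rw [h1, psCRing_res]
    exact (CRing.mem_maximalIdeal_iff R' _).1
      ((Groth.Agent.Lib.PSCompleteH1.mem_maximalIdeal_iff p).1 hp)
  have hmap : Ideal.map φ (IsLocalRing.maximalIdeal (MvPowerSeries (Fin n) R'.carrier)) ⊔
      IsLocalRing.maximalIdeal R.carrier ^ 2 = IsLocalRing.maximalIdeal R.carrier := by
    apply le_antisymm
    · exact sup_le hmaple (Ideal.pow_le_self two_ne_zero)
    · have h1 : Ideal.map T.g (IsLocalRing.maximalIdeal R'.carrier) ≤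
          Ideal.map φ (IsLocalRing.maximalIdeal (MvPowerSeries (Fin n) R'.carrier)) ⊔
            IsLocalRing.maximalIdeal R.carrier ^ 2 := by
        rw [Ideal.map_le_iff_le_comap]
        intro r hr
        rw [Ideal.mem_comap]
        apply Ideal.mem_sup_left
        rw [← hφC]
        exact Ideal.mem_map_of_mem φ (hCmem r hr)
      have h2 : Ideal.span (Set.range x) ≤
          Ideal.map φ (IsLocalRing.maximalIdeal (MvPowerSeries (Fin n) R'.carrier)) ⊔
            IsLocalRing.maximalIdeal R.carrier ^ 2 := by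
        rw [Ideal.span_le]
        rintro y ⟨i, rfl⟩
        apply Ideal.mem_sup_left
        rw [← hφX i]
        exact Ideal.mem_map_of_mem φ (hXmem i)
      intro a ha
      have ha' : a ∈ Ideal.map T.g (IsLocalRing.maximalIdeal R'.carrier) ⊔
          Ideal.span (Set.range x) ⊔ IsLocalRing.maximalIdeal R.carrier ^ 2 := by
        rw [hgen]; exact ha
      exact (sup_le (sup_le h1 h2) le_sup_right) ha'
  have hsurj : Function.Surjective φ :=
    ((Groth.Agent.S12714.result (psCRing R' n) R φ hf).out 1 0).1 hmap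
  refine ⟨hsurj, ?_⟩
  intro p hp
  have hq := sub_linear_mem_sq p
  have hφq : φ (p - C (constantCoeff p) -
      ∑ i, C (coeff (Finsupp.single i 1) p) * X i) ∈
      IsLocalRing.maximalIdeal R.carrier ^ 2 :=
    map_mem_pow_of_le (φ : MvPowerSeries (Fin n) R'.carrier →+* R.carrier) _ _ hmaple 2 hq
  have hexp : φ (p - C (constantCoeff p) -
      ∑ i, C (coeff (Finsupp.single i 1) p) * X i) =
      φ p - T.g (constantCoeff p) -
      ∑ i, T.g (coeff (Finsupp.single i 1) p) * x i := by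
    rw [map_sub, map_sub, hφC, map_sum]
    congr 1
    refine Finset.sum_congr rfl fun i _ => ?_
    rw [map_mul, hφC, hφX]
  have hL : T.g (constantCoeff p) + ∑ i, T.g (coeff (Finsupp.single i 1) p) * x i ∈
      IsLocalRing.maximalIdeal R.carrier ^ 2 := by
    have e1 : T.g (constantCoeff p) + ∑ i, T.g (coeff (Finsupp.single i 1) p) * x i =
        φ p - φ (p - C (constantCoeff p) -
          ∑ i, C (coeff (Finsupp.single i 1) p) * X i) := by
      rw [hexp]; ring
    rw [e1]
    exact Ideal.sub_mem _ hp hφq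
  have hc0 : constantCoeff p ∈ IsLocalRing.maximalIdeal R'.carrier ^ 2 := by
    have h1 := map_mem_pow_of_le (T.q : R.carrier →+* R'.carrier) _ _ (map_q_le T) 2 hL
    have e2 : (T.q : R.carrier →+* R'.carrier) (T.g (constantCoeff p) +
        ∑ i, T.g (coeff (Finsupp.single i 1) p) * x i) = constantCoeff p := by
      show T.q (T.g (constantCoeff p) +
        ∑ i, T.g (coeff (Finsupp.single i 1) p) * x i) = constantCoeff p
      rw [map_add, T.hqg, map_sum, Finset.sum_eq_zero, add_zero]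
      intro i _
      rw [map_mul, hxq, mul_zero]
    rw [e2] at h1
    exact h1
  have hgc0 : T.g (constantCoeff p) ∈ IsLocalRing.maximalIdeal R.carrier ^ 2 :=
    map_mem_pow_of_le (T.g : R'.carrier →+* R.carrier) _ _ (map_g_le T) 2 hc0
  have hsumsq : ∑ i, T.g (coeff (Finsupp.single i 1) p) * x i ∈
      IsLocalRing.maximalIdeal R.carrier ^ 2 :=
    (Submodule.add_mem_iff_right _ hgc0).1 hL
  have hlin := hli (fun i => coeff (Finsupp.single i 1) p) hsumsq
  have e3 : p = C (constantCoeff p) + ∑ i, C (coeff (Finsupp.single i 1) p) * X i +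
      (p - C (constantCoeff p) - ∑ i, C (coeff (Finsupp.single i 1) p) * X i) := by ring
  rw [e3]
  refine Ideal.add_mem _ (Ideal.add_mem _ ?_ ?_) hq
  · have hCle : Ideal.map (C : R'.carrier →+* MvPowerSeries (Fin n) R'.carrier)
        (IsLocalRing.maximalIdeal R'.carrier) ≤
        IsLocalRing.maximalIdeal (MvPowerSeries (Fin n) R'.carrier) :=
      Ideal.map_le_iff_le_comap.2 fun r hr => hCmem r hr
    exact map_mem_pow_of_le (C : R'.carrier →+* MvPowerSeries (Fin n) R'.carrier) _ _ hCle 2 hc0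
  · refine Ideal.sum_mem _ fun i _ => ?_
    rw [pow_two]
    exact Ideal.mul_mem_mul (hCmem _ (hlin i)) (hXmem i)

set_option maxHeartbeats 800000 in
/-- injectivity from versality -/
theorem inj_of_versal (R R' P : CRing Λ k) (T : Retract R R') (ξ : Family R.carrier R.res F)
    (hv : IsVersal ξ)
    (hEe : (ξ.along (T.g.comp T.q) T.he).toFormalElt = ξ.toFormalElt)
    (ι : R'.carrier →ₐ[Λ] P.carrier) (hι : P.res.comp ι = R'.res)
    (φ' : P.carrier →ₐ[Λ] R.carrier) (hf : R.res.comp φ' = P.res)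
    (hsurj : Function.Surjective φ') (hφ'ι : ∀ r', φ' (ι r') = T.g r')
    (hK : ∀ p : P.carrier, φ' p ∈ IsLocalRing.maximalIdeal R.carrier ^ 2 →
      p ∈ IsLocalRing.maximalIdeal P.carrier ^ 2) :
    Function.Injective φ' := by
  rw [injective_iff_map_eq_zero]
  intro p hp0
  apply eq_zero_of_forall_mem_mpow P
  intro j0
  suffices hmem : p ∈ CRing.mpow P (j0 + 1) from Ideal.pow_le_pow_right (Nat.le_succ _) hmem
  obtain ⟨j, hj⟩ : ∃ j, j = j0 + 1 := ⟨_, rfl⟩
  rw [← hj]
  obtain ⟨μ, hμdef⟩ : ∃ μ : P.trunc j ⟶ R.trunc j, μ = CRing.truncMapOfHom φ' hf j :=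
    ⟨_, rfl⟩
  have hμ' : ∀ a : P.carrier, μ (Ideal.Quotient.mk (CRing.mpow P j) a) =
      Ideal.Quotient.mk (CRing.mpow R j) (φ' a) := by
    intro a
    rw [hμdef]
    rfl
  have hμsurj : Function.Surjective μ := by
    intro t
    obtain ⟨a, rfl⟩ := Ideal.Quotient.mk_surjective t
    obtain ⟨b, rfl⟩ := hsurj a
    exact ⟨Ideal.Quotient.mk (CRing.mpow P j) b, hμ' b⟩
  have hιres : (P.trunc j).res.comp (((P.truncHom j).1.comp ι).comp T.q) = R.res := by
    rw [← AlgHom.comp_assoc, ← AlgHom.comp_assoc, (P.truncHom j).2, hι, T.hq]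
  obtain ⟨y0, hy0def⟩ : ∃ y0 : HomSet R.carrier R.res (P.trunc j),
      y0 = ⟨((P.truncHom j).1.comp ι).comp T.q, hιres⟩ := ⟨_, rfl⟩
  have hy0a : ∀ r, y0.1 r = Ideal.Quotient.mk (CRing.mpow P j) (ι (T.q r)) := by
    intro r
    rw [hy0def]
    rfl
  have hy0 : F.map μ (ξ.app _ y0) = ξ.app _ (R.truncHom j) := by
    rw [← ξ.natural]
    have h1 : HomSet.map μ y0 = ⟨(R.truncHom j).1.comp (T.g.comp T.q), by
        rw [← AlgHom.comp_assoc, (R.truncHom j).2, T.he]⟩ := by
      apply Subtype.ext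
      apply AlgHom.ext
      intro r
      show μ (y0.1 r) = Ideal.Quotient.mk (CRing.mpow R j) (T.g (T.q r))
      rw [hy0a, hμ', hφ'ι]
    rw [h1]
    exact family_app_eq_of_toFormalElt_eq R _ _ hEe _ (R.truncHom j)
  obtain ⟨ψ, hψ1, -⟩ := hv μ hμsurj (R.truncHom j) (ξ.app _ y0) hy0
  have hψ1' : ∀ r : R.carrier, μ (ψ.1 r) = Ideal.Quotient.mk (CRing.mpow R j) r :=
    fun r => AlgHom.congr_fun (congrArg Subtype.val hψ1) r
  have hTres : (P.trunc j).res.comp (ψ.1.comp φ') = P.res := by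
    rw [← AlgHom.comp_assoc, ψ.2, hf]
  obtain ⟨ē, hē⟩ := exists_truncLift P (P.trunc j) j (maximalIdeal_trunc_pow P j)
    ⟨ψ.1.comp φ', hTres⟩
  have hē' : ∀ a : P.carrier, ē (Ideal.Quotient.mk (CRing.mpow P j) a) = ψ.1 (φ' a) := hē
  have hμē : ∀ t, μ (ē t) = μ t := by
    intro t
    obtain ⟨a, rfl⟩ := Ideal.Quotient.mk_surjective t
    rw [hē', hψ1', hμ']
  have hmkm : ∀ a ∈ IsLocalRing.maximalIdeal P.carrier,
      Ideal.Quotient.mk (CRing.mpow P j) a ∈ IsLocalRing.maximalIdeal (P.trunc j) := by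
    intro a ha
    exact (Art.mem_maximalIdeal_iff (P.trunc j) _).2 ((CRing.mem_maximalIdeal_iff P a).1 ha)
  have hkerμ : ∀ t, μ t = 0 → t ∈ IsLocalRing.maximalIdeal (P.trunc j) ^ 2 := by
    intro t ht
    obtain ⟨a, rfl⟩ := Ideal.Quotient.mk_surjective t
    have ht' : Ideal.Quotient.mk (CRing.mpow R j) (φ' a) = 0 := (hμ' a).symm.trans ht
    have ht'' : φ' a ∈ CRing.mpow R j := Ideal.Quotient.eq_zero_iff_mem.1 ht'
    have h2 : φ' a ∈ IsLocalRing.maximalIdeal R.carrier ^ 2 :=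
      Ideal.pow_le_pow_right (by omega) ht''
    have h3 := hK a h2
    have hle : Ideal.map (Ideal.Quotient.mk (CRing.mpow P j))
        (IsLocalRing.maximalIdeal P.carrier) ≤ IsLocalRing.maximalIdeal (P.trunc j) :=
      Ideal.map_le_iff_le_comap.2 fun a ha => hmkm a ha
    exact map_mem_pow_of_le (Ideal.Quotient.mk (CRing.mpow P j))
      (IsLocalRing.maximalIdeal P.carrier) (IsLocalRing.maximalIdeal (P.trunc j)) hle 2 h3
  have hcot : Ideal.map ē.toAlgHom (IsLocalRing.maximalIdeal (P.trunc j)) ⊔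
      IsLocalRing.maximalIdeal (P.trunc j) ^ 2 = IsLocalRing.maximalIdeal (P.trunc j) := by
    apply le_antisymm
    · refine sup_le ?_ (Ideal.pow_le_self two_ne_zero)
      rw [Ideal.map_le_iff_le_comap]
      intro t ht
      rw [Ideal.mem_comap, Art.mem_maximalIdeal_iff]
      show (P.trunc j).res (ē t) = 0
      rw [Art.res_app]
      exact (Art.mem_maximalIdeal_iff _ t).1 ht
    · intro t ht
      have h1 : t - ē t ∈ IsLocalRing.maximalIdeal (P.trunc j) ^ 2 := by
        apply hkerμ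
        show μ.toAlgHom (t - ē t) = 0
        rw [map_sub, sub_eq_zero]
        exact (hμē t).symm
      have e1 : t = ē t + (t - ē t) := by ring
      rw [e1]
      exact Ideal.add_mem _ (Ideal.mem_sup_left (Ideal.mem_map_of_mem ē.toAlgHom ht))
        (Ideal.mem_sup_right h1)
  have hēsurj : Function.Surjective ē := ((Groth.Agent.S12709.result ē).out 0 1).2 hcot
  have hnoeth : IsNoetherian Λ (P.trunc j) :=
    (isFiniteLength_iff_isNoetherian_isArtinian.mp (isFiniteLength_art (P.trunc j))).1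
  have hēinj : Function.Injective ē :=
    IsNoetherian.injective_of_surjective_endomorphism ē.toAlgHom.toLinearMap hēsurj
  have h0 : ē (Ideal.Quotient.mk (CRing.mpow P j) p) = ē 0 := by
    rw [hē', hp0, map_zero]
    exact (map_zero ē.toAlgHom).symm
  exact Ideal.Quotient.eq_zero_iff_mem.1 (hēinj h0)

/-- a versal family over `R` which is pulled back from a retract `R'` makes `R` a power series
ring over `R'` -/
theorem retract_ps (R R' : CRing Λ k) (T : Retract R R') (ξ : Family R.carrier R.res F)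
    (hv : IsVersal ξ)
    (hEe : (ξ.along (T.g.comp T.q) T.he).toFormalElt = ξ.toFormalElt) :
    ∃ (n : ℕ) (e : R.carrier ≃ₐ[Λ] MvPowerSeries (Fin n) R'.carrier),
      ∀ a : R'.carrier, e (T.g a) = algebraMap R'.carrier (MvPowerSeries (Fin n) R'.carrier) a := by
  obtain ⟨n, x, hxq, hgen, hli⟩ := exists_min_gen R R' T
  have hxm : ∀ i, x i ∈ IsLocalRing.maximalIdeal R.carrier := fun i => ker_q_le T _ (hxq i)
  obtain ⟨φ, hf, hφC, hφX⟩ := exists_ps_hom R R' T n x hxm
  obtain ⟨hsurj, hK⟩ := ps_cot R R' T n x hxq hgen hli φ hf hφC hφX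
  have hinj : Function.Injective φ :=
    inj_of_versal R R' (psCRing R' n) T ξ hv hEe (psι R' n) (psι_res R' n) φ hf hsurj
      (fun r' => (congrArg φ (psι_apply R' n r')).trans (hφC r')) hK
  refine ⟨n, (AlgEquiv.ofBijective φ ⟨hinj, hsurj⟩).symm, fun a => ?_⟩
  apply (AlgEquiv.ofBijective φ ⟨hinj, hsurj⟩).injective
  rw [AlgEquiv.apply_symm_apply]
  show T.g a = φ (algebraMap R'.carrier (MvPowerSeries (Fin n) R'.carrier) a)
  rw [← MvPowerSeries.c_eq_algebraMap, hφC]

/-- the main theorem: a versal family is a power series extension of a minimal versal one -/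
theorem main12759 (h0 : H0 F) (V : VersalPair F) :
    ∃ (R' : CRing Λ k) (ξ' : Family R'.carrier R'.res F), ξ'.IsMinimalVersal ∧
      ∃ (g : R'.carrier →ₐ[Λ] V.ring.carrier) (hg : V.ring.res.comp g = R'.res)
        (n : ℕ) (e : V.ring.carrier ≃ₐ[Λ] MvPowerSeries (Fin n) R'.carrier),
        (∀ a : R'.carrier, e (g a) = algebraMap R'.carrier (MvPowerSeries (Fin n) R'.carrier) a) ∧
        (ξ'.along g hg).toFormalElt = V.family.toFormalElt := by
  obtain ⟨e, ⟨he, hidem, hEe⟩, hmax⟩ := exists_max_idem V.ring V.family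
  obtain ⟨R', T, hT⟩ := exists_retract_of_idem V.ring e he hidem
  have hcomp : T.g.comp T.q = e := AlgHom.ext hT
  have htr : ∀ (e' : V.ring.carrier →ₐ[Λ] V.ring.carrier)
      (h' : V.ring.res.comp e' = V.ring.res),
      e' = e → (V.family.along e' h').toFormalElt = V.family.toFormalElt := by
    intro e' h' heq
    subst heq
    exact hEe
  have hEe' : (V.family.along (T.g.comp T.q) T.he).toFormalElt = V.family.toFormalElt :=
    htr _ _ hcomp
  have hmax' : ∀ e' : V.ring.carrier →ₐ[Λ] V.ring.carrier, IsIdemE V.family e' →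
      ¬ (RingHom.ker (T.g.comp T.q) < RingHom.ker e') := by
    rw [hcomp]
    exact hmax
  refine ⟨R', V.family.along T.q T.hq, retract_minimal h0 T _ V.versal hEe' hmax', ?_⟩
  obtain ⟨n, eqv, heqv⟩ := retract_ps _ _ T _ V.versal hEe'
  exact ⟨T.g, T.hg, n, eqv, heqv, retract_along_g T _ hEe'⟩

end PS

end Groth.Agent.Lib.MinVersalH1
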