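import Mathlib

set_option autoImplicit false

namespace Groth.Agent.Lib.Minkowski

open Matrix Polynomial

theorem int_eq_zero_of_forall_pow_dvd (x : ℤ) (h : ∀ k : ℕ, (3 : ℤ) ^ k ∣ x) : x = 0 := by
  by_contra hx
  have h1 := h x.natAbs
  have h2 : (3 : ℤ) ^ x.natAbs ≤ |x| := Int.le_of_dvd (abs_pos.mpr hx) ((dvd_abs _ _).mpr h1)
  have h3 : ((x.natAbs : ℕ) : ℤ) < 3 ^ x.natAbs := by
    exact_mod_cast Nat.lt_pow_self (n := x.natAbs) (by norm_num : 1 < 3)
  rw [Int.abs_eq_natAbs] at h2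
  linarith

variable {n : ℕ}

theorem one_add_pow_expand (M : Matrix (Fin n) (Fin n) ℤ) (q : ℕ) :
    ∃ N : Matrix (Fin n) (Fin n) ℤ, (1 + M) ^ q = 1 + (q : ℤ) • M + M * M * N := by
  have hdvd : (X : ℤ[X]) ^ 2 ∣ (X + 1) ^ q - 1 - C (q : ℤ) * X := by
    rw [Polynomial.X_pow_dvd_iff]
    intro d hd
    rw [Polynomial.coeff_sub, Polynomial.coeff_sub, Polynomial.coeff_X_add_one_pow,
      Polynomial.coeff_C_mul, Polynomial.coeff_one, Polynomial.coeff_X]
    interval_cases d
    · simp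
    · simp
  obtain ⟨P, hP⟩ := hdvd
  refine ⟨Polynomial.aeval M P, ?_⟩
  have h := congrArg (Polynomial.aeval M) hP
  simp only [map_sub, map_pow, map_add, map_one, map_mul, Polynomial.aeval_X,
    Polynomial.aeval_C] at h
  have h2 : algebraMap ℤ (Matrix (Fin n) (Fin n) ℤ) (q : ℤ) * M = (q : ℤ) • M := by
    rw [Algebra.smul_def]
  rw [h2] at h
  rw [add_comm 1 M, ← sq, ← h]
  abel

theorem cube_expand (M : Matrix (Fin n) (Fin n) ℤ) :
    (1 + M) ^ 3 = 1 + (3 : ℤ) • M + (3 : ℤ) • (M * M) + M * M * M := by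
  have hP : ((X : ℤ[X]) + 1) ^ 3 = 1 + C (3 : ℤ) * X + C (3 : ℤ) * (X * X) + X * X * X := by
    have : (C (3 : ℤ) : ℤ[X]) = 3 := by simp
    rw [this]; ring
  have h := congrArg (Polynomial.aeval M) hP
  simp only [map_pow, map_add, map_one, map_mul, Polynomial.aeval_X, Polynomial.aeval_C] at h
  rw [add_comm 1 M, h, Algebra.smul_def, Algebra.smul_def]

theorem step (M : Matrix (Fin n) (Fin n) ℤ) (q : ℕ) (hq : q.Prime) (hM : (1 + M) ^ q = 1)
    (k : ℕ) (hk : 1 ≤ k) (X : Matrix (Fin n) (Fin n) ℤ) (hX : M = ((3 : ℤ) ^ k) • X) :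
    ∃ Y : Matrix (Fin n) (Fin n) ℤ, M = ((3 : ℤ) ^ (k + 1)) • Y := by
  obtain ⟨c', hc'⟩ : ∃ c' : ℤ, (3 : ℤ) ^ k = 3 * c' := ⟨3 ^ (k - 1), by
    rw [← pow_succ']; congr 1; omega⟩
  have hc0 : (3 : ℤ) ^ k ≠ 0 := by positivity
  have hdiv : ∀ i j, (3 : ℤ) ∣ X i j := by
    intro i j
    by_cases hq3 : q = 3
    · subst hq3
      rw [cube_expand, hX] at hM
      rw [add_assoc, add_assoc] at hM
      have h1 := add_left_cancel (hM.trans (add_zero _).symm)
      simp only [Matrix.smul_mul, Matrix.mul_smul, smul_smul] at h1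
      have h2 := congrFun (congrFun h1 i) j
      simp only [Matrix.add_apply, Matrix.smul_apply, Matrix.zero_apply, smul_eq_mul] at h2
      rw [hc'] at h2
      have h3 : (3 : ℤ) * c' ≠ 0 := hc' ▸ hc0
      have hc'0 : c' ≠ 0 := fun h => h3 (by rw [h, mul_zero])
      refine ⟨-(c' * (X * X) i j + c' * c' * (X * X * X) i j), ?_⟩
      have h4 : (3 * (3 * c')) * (X i j + 3 * (c' * (X * X) i j + c' * c' * (X * X * X) i j)) = 0 := by
        linear_combination h2
      have h5 := (mul_eq_zero.mp h4).resolve_left (by positivity)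
      linear_combination h5
    · obtain ⟨N, hN⟩ := one_add_pow_expand M q
      rw [hN] at hM
      rw [add_assoc] at hM
      have h1 := add_left_cancel (hM.trans (add_zero _).symm)
      rw [hX] at h1
      simp only [Matrix.smul_mul, Matrix.mul_smul, smul_smul] at h1
      have h2 := congrFun (congrFun h1 i) j
      simp only [Matrix.add_apply, Matrix.smul_apply, Matrix.zero_apply, smul_eq_mul] at h2
      rw [hc'] at h2
      have h3 : (3 : ℤ) * c' ≠ 0 := hc' ▸ hc0
      have h4 : (3 * c') * ((q : ℤ) * X i j + 3 * (c' * (X * X * N) i j)) = 0 := by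
        linear_combination h2
      have h5 := (mul_eq_zero.mp h4).resolve_left h3
      have h6 : (3 : ℤ) ∣ (q : ℤ) * X i j := ⟨-(c' * (X * X * N) i j), by linear_combination h5⟩
      rcases (Int.prime_three.dvd_or_dvd h6) with h7 | h7
      · exfalso
        have h8 : (3 : ℕ) ∣ q := by exact_mod_cast h7
        exact hq3 ((Nat.prime_dvd_prime_iff_eq Nat.prime_three hq).mp h8).symm
      · exact h7
  refine ⟨Matrix.of fun i j => X i j / 3, ?_⟩
  rw [hX]
  ext i j
  simp only [Matrix.smul_apply, Matrix.of_apply, smul_eq_mul]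
  rw [pow_succ, mul_assoc, Int.mul_ediv_cancel' (hdiv i j)]

theorem eq_one_of_prime_pow (g : Matrix (Fin n) (Fin n) ℤ)
    (hg : ∀ i j, (3 : ℤ) ∣ (g - 1) i j) (q : ℕ) (hq : q.Prime) (hgq : g ^ q = 1) : g = 1 := by
  obtain ⟨M, hMdef⟩ : ∃ M, M = g - 1 := ⟨_, rfl⟩
  have hg1 : g = 1 + M := by rw [hMdef]; abel
  have hM : (1 + M) ^ q = 1 := by rw [← hg1]; exact hgq
  have hall : ∀ k : ℕ, 1 ≤ k → ∃ X : Matrix (Fin n) (Fin n) ℤ, M = ((3 : ℤ) ^ k) • X := by
    intro k hk
    induction k, hk using Nat.le_induction with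
    | base =>
      refine ⟨Matrix.of fun i j => M i j / 3, ?_⟩
      ext i j
      simp only [Matrix.smul_apply, Matrix.of_apply, smul_eq_mul, pow_one]
      rw [Int.mul_ediv_cancel' (hMdef ▸ hg i j)]
    | succ k hk ih =>
      obtain ⟨X, hX⟩ := ih
      exact step M q hq hM k hk X hX
  have hM0 : M = 0 := by
    ext i j
    apply int_eq_zero_of_forall_pow_dvd
    intro k
    rcases Nat.eq_zero_or_pos k with rfl | hk
    · simp
    · obtain ⟨X, hX⟩ := hall k hk
      rw [hX]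
      exact ⟨X i j, by simp [Matrix.smul_apply]⟩
  rw [hg1, hM0, add_zero]

theorem bound (n : ℕ) :
    ∃ B : ℕ, ∀ H : Subgroup (Matrix.GeneralLinearGroup (Fin n) ℤ), Finite H → Nat.card H ≤ B := by
  refine ⟨Nat.card (Matrix.GeneralLinearGroup (Fin n) (ZMod 3)), fun H hH => ?_⟩
  have hcore : ∀ (g : Matrix.GeneralLinearGroup (Fin n) ℤ) (q : ℕ), q.Prime →
      Matrix.GeneralLinearGroup.map (Int.castRingHom (ZMod 3)) g = 1 → g ^ q = 1 → g = 1 := by
    intro g q hq hg1 hgq
    apply Units.ext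
    apply eq_one_of_prime_pow (g : Matrix (Fin n) (Fin n) ℤ) ?_ q hq ?_
    · intro i j
      have h1 : (Matrix.GeneralLinearGroup.map (Int.castRingHom (ZMod 3)) g) i j =
          (1 : Matrix.GeneralLinearGroup (Fin n) (ZMod 3)) i j := by rw [hg1]
      rw [Matrix.GeneralLinearGroup.map_apply] at h1
      have h1' : (((g : Matrix (Fin n) (Fin n) ℤ) i j : ℤ) : ZMod 3) =
          (1 : Matrix (Fin n) (Fin n) (ZMod 3)) i j := by simpa using h1
      have h3 : ((((g : Matrix (Fin n) (Fin n) ℤ) - 1) i j : ℤ) : ZMod 3) = 0 := by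
        rw [Matrix.sub_apply, Int.cast_sub, sub_eq_zero, h1', Matrix.one_apply, Matrix.one_apply]
        split_ifs <;> simp
      have h4 := (ZMod.intCast_zmod_eq_zero_iff_dvd _ 3).mp h3
      exact_mod_cast h4
    · have := congrArg (fun u : Matrix.GeneralLinearGroup (Fin n) ℤ => (u : Matrix (Fin n) (Fin n) ℤ)) hgq
      simpa using this
  have hker : ∀ g : Matrix.GeneralLinearGroup (Fin n) ℤ, IsOfFinOrder g →
      Matrix.GeneralLinearGroup.map (Int.castRingHom (ZMod 3)) g = 1 → g = 1 := by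
    intro g hfin hg1
    by_contra hne
    have hm0 : orderOf g ≠ 0 := (orderOf_pos_iff.mpr hfin).ne'
    have hm1 : orderOf g ≠ 1 := fun h => hne (orderOf_eq_one_iff.mp h)
    obtain ⟨q, hq, hqm⟩ := Nat.exists_prime_and_dvd hm1
    have hord := orderOf_pow_orderOf_div hm0 hqm
    have h1 : Matrix.GeneralLinearGroup.map (Int.castRingHom (ZMod 3)) (g ^ (orderOf g / q)) = 1 := by
      rw [map_pow, hg1, one_pow]
    have h2 : (g ^ (orderOf g / q)) ^ q = 1 := by
      have h5 := pow_orderOf_eq_one (g ^ (orderOf g / q))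
      rwa [hord] at h5
    have h3 := hcore _ q hq h1 h2
    rw [h3, orderOf_one] at hord
    exact hq.one_lt.ne hord
  apply Nat.card_le_card_of_injective
    (fun h : H => Matrix.GeneralLinearGroup.map (Int.castRingHom (ZMod 3)) (h : Matrix.GeneralLinearGroup (Fin n) ℤ))
  intro a b hab
  have hab' : Matrix.GeneralLinearGroup.map (Int.castRingHom (ZMod 3)) (a : Matrix.GeneralLinearGroup (Fin n) ℤ) =
      Matrix.GeneralLinearGroup.map (Int.castRingHom (ZMod 3)) (b : Matrix.GeneralLinearGroup (Fin n) ℤ) := hab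
  have h1 : Matrix.GeneralLinearGroup.map (Int.castRingHom (ZMod 3))
      ((a : Matrix.GeneralLinearGroup (Fin n) ℤ)⁻¹ * (b : Matrix.GeneralLinearGroup (Fin n) ℤ)) = 1 := by
    rw [map_mul, map_inv, hab', inv_mul_cancel]
  have h2 : IsOfFinOrder ((a : Matrix.GeneralLinearGroup (Fin n) ℤ)⁻¹ * b) := by
    have h3 : IsOfFinOrder (a⁻¹ * b : H) := isOfFinOrder_of_finite _
    exact H.subtype.isOfFinOrder h3
  have h4 := hker _ h2 h1
  exact Subtype.ext (inv_mul_eq_one.mp h4)

end Groth.Agent.Lib.Minkowski
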