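import Mathlib
import Groth.Prelude

set_option autoImplicit false
universe u
open CategoryTheory CategoryTheory.Limits Opposite

namespace Groth.Agent.Lib.ModColimH7

variable {A : Type u} [CommRing A] {J : Type u} [Preorder J] [IsDirected J (· ≤ ·)] [Nonempty J]
  (N : J ⥤ ModuleCat.{u} A)

/-- transition maps as linear maps -/
noncomputable def mapLE {j j' : J} (h : j ≤ j') : N.obj j →ₗ[A] N.obj j' := (N.map (homOfLE h)).hom

/-- structure maps to the colimit as linear maps -/
noncomputable def ιL (j : J) : N.obj j →ₗ[A] (colimit N : ModuleCat.{u} A) := (colimit.ι N j).hom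

theorem mapLE_trans {j j' j'' : J} (h : j ≤ j') (h' : j' ≤ j'') (y : N.obj j) :
    mapLE N (h.trans h') y = mapLE N h' (mapLE N h y) := by
  have : N.map (homOfLE (h.trans h')) = N.map (homOfLE h) ≫ N.map (homOfLE h') := by
    rw [← N.map_comp]; rfl
  simp only [mapLE, this, ModuleCat.hom_comp, LinearMap.comp_apply]

theorem ιL_mapLE {j j' : J} (h : j ≤ j') (y : N.obj j) : ιL N j' (mapLE N h y) = ιL N j y := by
  have : N.map (homOfLE h) ≫ colimit.ι N j' = colimit.ι N j := colimit.w N (homOfLE h)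
  simp only [ιL, mapLE, ← this, ModuleCat.hom_comp, LinearMap.comp_apply]

theorem exists_rep (x : (colimit N : ModuleCat.{u} A)) : ∃ (j : J) (y : N.obj j), ιL N j y = x :=
  Concrete.colimit_exists_rep N x

theorem exists_mapLE_eq {j : J} (y y' : N.obj j) (h : ιL N j y = ιL N j y') :
    ∃ (j' : J) (hjj' : j ≤ j'), mapLE N hjj' y = mapLE N hjj' y' := by
  obtain ⟨k, f, g, hfg⟩ := Concrete.colimit_exists_of_rep_eq N y y' h
  have hg : g = f := Subsingleton.elim _ _
  subst hg
  exact ⟨k, leOfHom g, hfg⟩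

theorem exists_mapLE_eq_finset {ι : Type*} (s : Finset ι) {j : J} (y y' : ι → N.obj j)
    (h : ∀ i ∈ s, ιL N j (y i) = ιL N j (y' i)) :
    ∃ (j' : J) (hjj' : j ≤ j'), ∀ i ∈ s, mapLE N hjj' (y i) = mapLE N hjj' (y' i) := by
  classical
  induction s using Finset.induction_on with
  | empty => exact ⟨j, le_refl j, fun i hi => absurd hi (Finset.notMem_empty i)⟩
  | insert a s has ih =>
    obtain ⟨j₁, h₁, hs⟩ := ih (fun i hi => h i (Finset.mem_insert_of_mem hi))
    obtain ⟨j₂, h₂, ha⟩ := exists_mapLE_eq N (y a) (y' a) (h a (Finset.mem_insert_self a s))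
    obtain ⟨j', h₁', h₂'⟩ := exists_ge_ge j₁ j₂
    refine ⟨j', h₁.trans h₁', fun i hi => ?_⟩
    rcases Finset.mem_insert.mp hi with rfl | hi
    · calc mapLE N (h₁.trans h₁') (y i) = mapLE N h₂' (mapLE N h₂ (y i)) :=
            mapLE_trans N h₂ h₂' (y i)
        _ = mapLE N h₂' (mapLE N h₂ (y' i)) := by rw [ha]
        _ = mapLE N (h₁.trans h₁') (y' i) := (mapLE_trans N h₂ h₂' (y' i)).symm
    · calc mapLE N (h₁.trans h₁') (y i) = mapLE N h₁' (mapLE N h₁ (y i)) :=
            mapLE_trans N h₁ h₁' (y i)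
        _ = mapLE N h₁' (mapLE N h₁ (y' i)) := by rw [hs i hi]
        _ = mapLE N (h₁.trans h₁') (y' i) := (mapLE_trans N h₁ h₁' (y' i)).symm

theorem exists_rep_family {n : ℕ} (x : Fin n → (colimit N : ModuleCat.{u} A)) :
    ∃ (j : J) (y : Fin n → N.obj j), ∀ i, ιL N j (y i) = x i := by
  classical
  choose j₀ y₀ hy₀ using fun i => exists_rep N (x i)
  obtain ⟨j, hj⟩ := (Finset.univ.image j₀).exists_le
  have hj' : ∀ i, j₀ i ≤ j := fun i => hj _ (Finset.mem_image_of_mem j₀ (Finset.mem_univ i))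
  exact ⟨j, fun i => mapLE N (hj' i) (y₀ i), fun i => (ιL_mapLE N (hj' i) (y₀ i)).trans (hy₀ i)⟩

variable (M : ModuleCat.{u} A)

theorem post_ι (j : J) (h : M ⟶ N.obj j) :
    colimit.post N (coyoneda.obj (op M)) (colimit.ι (N ⋙ coyoneda.obj (op M)) j h) =
      h ≫ colimit.ι N j := by
  have := ConcreteCategory.congr_hom (colimit.ι_post N (coyoneda.obj (op M)) j) h
  exact (types_comp_apply _ _ h).symm.trans (this.trans rfl)

theorem post_injective [Module.Finite A M] :
    Function.Injective (colimit.post N (coyoneda.obj (op M))) := by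
  classical
  intro x x' hxx'
  obtain ⟨j₁, h₁, rfl⟩ := Types.jointly_surjective' x
  obtain ⟨j₂, h₂, rfl⟩ := Types.jointly_surjective' x'
  rw [post_ι, post_ι] at hxx'
  obtain ⟨j, hj₁, hj₂⟩ := exists_ge_ge j₁ j₂
  obtain ⟨S, hS⟩ := (Module.Finite.fg_top : (⊤ : Submodule A M).FG)
  have hgen : ∀ m ∈ S, ιL N j (mapLE N hj₁ (h₁.hom m)) = ιL N j (mapLE N hj₂ (h₂.hom m)) := by
    intro m _
    rw [ιL_mapLE, ιL_mapLE]
    exact congrArg (fun (f : M ⟶ colimit N) => f.hom m) hxx'
  obtain ⟨j', hjj', hj'⟩ := exists_mapLE_eq_finset N S (fun m => mapLE N hj₁ (h₁.hom m))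
    (fun m => mapLE N hj₂ (h₂.hom m)) hgen
  have heq : h₁ ≫ N.map (homOfLE (hj₁.trans hjj')) = h₂ ≫ N.map (homOfLE (hj₂.trans hjj')) := by
    apply ModuleCat.hom_ext
    apply LinearMap.ext_on hS
    intro m hm
    have := hj' m hm
    simp only [ModuleCat.hom_comp, LinearMap.comp_apply]
    rw [← mapLE_trans, ← mapLE_trans] at this
    exact this
  exact Types.colimit_sound' (F := N ⋙ coyoneda.obj (op M)) (homOfLE (hj₁.trans hjj'))
    (homOfLE (hj₂.trans hjj')) (by simpa using heq)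

end Groth.Agent.Lib.ModColimH7
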