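import Mathlib
import Groth.Prelude
import Groth.Agent.Lib.ModColim_helper7

set_option autoImplicit false
universe u
open CategoryTheory CategoryTheory.Limits Opposite

namespace Groth.Agent.Lib.ModColimH7

variable {A : Type u} [CommRing A] {J : Type u} [Preorder J] [IsDirected J (· ≤ ·)] [Nonempty J]
  (N : J ⥤ ModuleCat.{u} A) (M : ModuleCat.{u} A)

theorem post_surjective [Module.FinitePresentation A M] :
    Function.Surjective (colimit.post N (coyoneda.obj (op M))) := by
  classical
  intro γ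
  obtain ⟨n, K, e, hK⟩ := Module.FinitePresentation.exists_fin A M
  obtain ⟨S, hS⟩ := hK
  let π : (Fin n → A) →ₗ[A] M := e.symm.toLinearMap ∘ₗ K.mkQ
  let γL : M →ₗ[A] (colimit N : ModuleCat.{u} A) := ModuleCat.Hom.hom γ
  obtain ⟨j, y, hy⟩ := exists_rep_family N (fun i => γL (π (Pi.single i 1)))
  let φ : (Fin n → A) →ₗ[A] N.obj j := Fintype.linearCombination A y
  have hφ : ∀ v, ιL N j (φ v) = γL (π v) := by
    have : (ιL N j) ∘ₗ φ = γL ∘ₗ π := by
      apply (Pi.basisFun A (Fin n)).ext
      intro i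
      simp only [LinearMap.comp_apply, Pi.basisFun_apply, φ,
        Fintype.linearCombination_apply_single, one_smul]
      exact hy i
    exact fun v => LinearMap.congr_fun this v
  have hπ : ∀ v ∈ K, π v = 0 := by
    intro v hvK
    simp [π, (Submodule.Quotient.mk_eq_zero K).mpr hvK]
  have hker : ∀ v ∈ S, ιL N j (φ v) = ιL N j 0 := by
    intro v hv
    have hvK : v ∈ K := hS ▸ Submodule.subset_span hv
    rw [hφ, hπ v hvK, map_zero, map_zero]
  obtain ⟨j', hjj', hj'⟩ := exists_mapLE_eq_finset N S (fun v => φ v) (fun _ => 0) hker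
  let φ' : (Fin n → A) →ₗ[A] N.obj j' := mapLE N hjj' ∘ₗ φ
  have hK' : K ≤ LinearMap.ker φ' := by
    rw [← hS, Submodule.span_le]
    intro v hv
    have := hj' v hv
    simp only [SetLike.mem_coe, LinearMap.mem_ker, φ', LinearMap.comp_apply]
    rw [this, map_zero]
  let h : M →ₗ[A] N.obj j' := (K.liftQ φ' hK') ∘ₗ e.toLinearMap
  refine ⟨colimit.ι (N ⋙ coyoneda.obj (op M)) j' (ModuleCat.ofHom h), ?_⟩
  rw [post_ι]
  apply ModuleCat.hom_ext
  apply LinearMap.ext
  intro m
  obtain ⟨v, rfl⟩ : ∃ v, π v = m := by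
    obtain ⟨v, hv⟩ := K.mkQ_surjective (e m)
    exact ⟨v, by simp [π, hv]⟩
  show ιL N j' (h (π v)) = γL (π v)
  have h1 : h (π v) = φ' v := by simp [h, π]
  rw [h1, ← hφ v]
  exact ιL_mapLE N hjj' (φ v)

theorem post_bijective [Module.FinitePresentation A M] :
    Function.Bijective (colimit.post N (coyoneda.obj (op M))) :=
  ⟨post_injective N M, post_surjective N M⟩

end Groth.Agent.Lib.ModColimH7
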