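import Mathlib
import Groth.Agent.Lib.ModColim2_helper7

/-!
# Converse characterisations of finite / finitely presented modules via filtered colimits (helper7)
-/

set_option autoImplicit false
universe u
open CategoryTheory CategoryTheory.Limits Opposite

namespace Groth.Agent.Lib.ModColimH7

section QuotF
variable {R : Type u} [CommRing R] {V : Type u} [AddCommGroup V] [Module R V]
  (p : Submodule R V → Prop)

/-- the system of quotients `V ⧸ K` for `K` in a family of submodules -/
noncomputable def quotF : {K : Submodule R V // p K} ⥤ ModuleCat.{u} R where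
  obj K := ModuleCat.of R (V ⧸ K.1)
  map {K K'} f := ModuleCat.ofHom (Submodule.factor (show K.1 ≤ K'.1 from leOfHom f))
  map_id K := by
    apply ModuleCat.hom_ext
    apply Submodule.linearMap_qext
    rfl
  map_comp f g := by
    apply ModuleCat.hom_ext
    apply Submodule.linearMap_qext
    rfl

variable [IsDirected {K : Submodule R V // p K} (· ≤ ·)] [Nonempty {K : Submodule R V // p K}]

theorem mapLE_quotF_mk {K K' : {K : Submodule R V // p K}} (h : K ≤ K') (v : V) :
    mapLE (quotF p) h (Submodule.Quotient.mk v : V ⧸ K.1) = (Submodule.Quotient.mk v : V ⧸ K'.1) :=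
  rfl

theorem ιL_quotF_mk_eq_zero {K K' : {K : Submodule R V // p K}} (h : K ≤ K') (v : V)
    (hv : v ∈ K'.1) : ιL (quotF p) K (Submodule.Quotient.mk v : V ⧸ K.1) = 0 := by
  rw [← ιL_mapLE (quotF p) h, mapLE_quotF_mk]
  have : (Submodule.Quotient.mk v : V ⧸ K'.1) = 0 := (Submodule.Quotient.mk_eq_zero _).mpr hv
  erw [this]
  exact map_zero _

end QuotF

section Finite
variable (R : Type u) [CommRing R] (N : Type u) [AddCommGroup N] [Module R N]

instance : IsDirected {K : Submodule R N // K.FG} (· ≤ ·) :=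
  ⟨fun K K' => ⟨⟨K.1 ⊔ K'.1, K.2.sup K'.2⟩, le_sup_left, le_sup_right⟩⟩

instance : Nonempty {K : Submodule R N // K.FG} := ⟨⟨⊥, Submodule.fg_bot⟩⟩

theorem finite_of_post_injective
    (h : Function.Injective (colimit.post (quotF (R := R) (V := N) (fun K => K.FG))
      (coyoneda.obj (op (ModuleCat.of R N))))) : Module.Finite R N := by
  classical
  let F := quotF (R := R) (V := N) (fun K => K.FG)
  let M := ModuleCat.of R N
  let b : {K : Submodule R N // K.FG} := ⟨⊥, Submodule.fg_bot⟩
  let q : M ⟶ F.obj b := ModuleCat.ofHom (Submodule.mkQ (⊥ : Submodule R N))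
  have hq0 : q ≫ colimit.ι F b = (0 : M ⟶ F.obj b) ≫ colimit.ι F b := by
    rw [zero_comp]
    apply ModuleCat.hom_ext
    apply LinearMap.ext
    intro n
    let Kn : {K : Submodule R N // K.FG} := ⟨Submodule.span R {n}, Submodule.fg_span_singleton n⟩
    have hle : b ≤ Kn := bot_le (a := Kn.1)
    exact ιL_quotF_mk_eq_zero (fun K => K.FG) hle n (Submodule.mem_span_singleton_self n)
  have hx : colimit.ι (F ⋙ coyoneda.obj (op M)) b q =
      colimit.ι (F ⋙ coyoneda.obj (op M)) b (0 : M ⟶ F.obj b) := by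
    apply h
    rw [post_ι, post_ι]
    exact hq0
  obtain ⟨k, f, g, hfg⟩ := (Types.FilteredColimit.colimit_eq_iff _).mp hx
  have hfg' : q ≫ F.map f = (0 : M ⟶ F.obj b) ≫ F.map g := hfg
  rw [zero_comp] at hfg'
  have htop : k.1 = ⊤ := by
    rw [eq_top_iff]
    intro n _
    have := congrArg (fun (φ : M ⟶ F.obj k) => φ.hom n) hfg'
    exact (Submodule.Quotient.mk_eq_zero _).mp this
  exact ⟨htop ▸ k.2⟩

end Finite

section FP
variable (R : Type u) [CommRing R] {n : ℕ} {N : Type u} [AddCommGroup N] [Module R N]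
  (π : (Fin n → R) →ₗ[R] N)

instance : IsDirected {K : Submodule R (Fin n → R) // K.FG ∧ K ≤ LinearMap.ker π} (· ≤ ·) :=
  ⟨fun K K' => ⟨⟨K.1 ⊔ K'.1, K.2.1.sup K'.2.1, sup_le K.2.2 K'.2.2⟩,
    show K.1 ≤ K.1 ⊔ K'.1 from le_sup_left, show K'.1 ≤ K.1 ⊔ K'.1 from le_sup_right⟩⟩

instance : Nonempty {K : Submodule R (Fin n → R) // K.FG ∧ K ≤ LinearMap.ker π} :=
  ⟨⟨⊥, Submodule.fg_bot, bot_le⟩⟩

theorem finitePresentation_of_post_surjective (hπ : Function.Surjective π)
    (h : Function.Surjective (colimit.post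
      (quotF (R := R) (V := Fin n → R) (fun K => K.FG ∧ K ≤ LinearMap.ker π))
      (coyoneda.obj (op (ModuleCat.of R N))))) : Module.FinitePresentation R N := by
  classical
  let F := quotF (R := R) (V := Fin n → R) (fun K => K.FG ∧ K ≤ LinearMap.ker π)
  let M := ModuleCat.of R N
  -- the cocone to `N`
  let cc : Cocone F :=
    { pt := M
      ι :=
        { app := fun K => ModuleCat.ofHom (K.1.liftQ π K.2.2)
          naturality := fun K K' f => by
            apply ModuleCat.hom_ext
            apply Submodule.linearMap_qext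
            rfl } }
  let d : colimit F ⟶ M := colimit.desc F cc
  have hd : ∀ K, colimit.ι F K ≫ d = ModuleCat.ofHom (K.1.liftQ π K.2.2) := fun K =>
    colimit.ι_desc cc K
  have hdι : ∀ (K : {K : Submodule R (Fin n → R) // K.FG ∧ K ≤ LinearMap.ker π})
      (v : Fin n → R), d.hom (ιL F K (Submodule.Quotient.mk v)) = π v := fun K v =>
    congrArg (fun (φ : F.obj K ⟶ M) => φ.hom (Submodule.Quotient.mk v)) (hd K)
  have hdinj : Function.Injective d.hom := by
    rw [← LinearMap.ker_eq_bot, eq_bot_iff]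
    intro x hx
    obtain ⟨K, y, rfl⟩ := exists_rep F x
    obtain ⟨v, rfl⟩ := Submodule.Quotient.mk_surjective _ y
    have hv : π v = 0 := (hdι K v).symm.trans hx
    let K' : {K : Submodule R (Fin n → R) // K.FG ∧ K ≤ LinearMap.ker π} :=
      ⟨K.1 ⊔ Submodule.span R {v}, K.2.1.sup (Submodule.fg_span_singleton v),
        sup_le K.2.2 ((Submodule.span_singleton_le_iff_mem v _).mpr hv)⟩
    have hle : K ≤ K' := le_sup_left (a := K.1)
    exact ιL_quotF_mk_eq_zero _ hle v
      (Submodule.mem_sup_right (Submodule.mem_span_singleton_self v))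
  have hdsurj : Function.Surjective d.hom := by
    intro y
    obtain ⟨v, rfl⟩ := hπ y
    exact ⟨ιL F ⟨⊥, Submodule.fg_bot, bot_le⟩ (Submodule.Quotient.mk v), hdι _ v⟩
  let e : (colimit F : ModuleCat.{u} R) ≃ₗ[R] N := LinearEquiv.ofBijective d.hom ⟨hdinj, hdsurj⟩
  let σ : M ⟶ colimit F := ModuleCat.ofHom e.symm.toLinearMap
  have hσd : σ ≫ d = 𝟙 M := by
    apply ModuleCat.hom_ext
    apply LinearMap.ext
    intro y
    exact e.apply_symm_apply y
  obtain ⟨x, hx⟩ := h σ
  obtain ⟨K, s, rfl⟩ := Types.jointly_surjective' x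
  rw [post_ι] at hx
  -- `s` is a section of `K.liftQ π`
  have hs : s ≫ ModuleCat.ofHom (K.1.liftQ π K.2.2) = 𝟙 M := by
    rw [← hd K, ← Category.assoc, hx, hσd]
  have hs' : ∀ y : N, K.1.liftQ π K.2.2 (s.hom y) = y := fun y =>
    congrArg (fun (φ : M ⟶ M) => φ.hom y) hs
  -- the quotient `P = R^n / K` is finitely presented
  haveI : Module.FinitePresentation R ((Fin n → R) ⧸ K.1) :=
    Module.finitePresentation_of_surjective K.1.mkQ (Submodule.mkQ_surjective _)
      (by rw [Submodule.ker_mkQ]; exact K.2.1)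
  let s' : N →ₗ[R] (Fin n → R) ⧸ K.1 := ModuleCat.Hom.hom (show M ⟶ F.obj K from s)
  have hs'' : ∀ y : N, K.1.liftQ π K.2.2 (s' y) = y := hs'
  refine Module.finitePresentation_of_surjective (K.1.liftQ π K.2.2) ?_ ?_
  · intro y
    exact ⟨s' y, hs'' y⟩
  · let ψ : ((Fin n → R) ⧸ K.1) →ₗ[R] ((Fin n → R) ⧸ K.1) :=
      LinearMap.id - s' ∘ₗ K.1.liftQ π K.2.2
    have hψ : ∀ z, ψ z = z - s' (K.1.liftQ π K.2.2 z) := fun z => rfl
    have hker : LinearMap.ker (K.1.liftQ π K.2.2) = LinearMap.range ψ := by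
      apply le_antisymm
      · intro z hz
        refine ⟨z, ?_⟩
        have hz' : K.1.liftQ π K.2.2 z = 0 := hz
        rw [hψ, hz', map_zero, sub_zero]
      · rintro _ ⟨z, rfl⟩
        show K.1.liftQ π K.2.2 (ψ z) = 0
        rw [hψ, map_sub, hs'', sub_self]
    rw [hker, LinearMap.range_eq_map]
    exact Submodule.FG.map _ Module.Finite.fg_top

end FP

end Groth.Agent.Lib.ModColimH7
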