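import Mathlib

/-!
# Every module is a direct limit of finitely presented modules (helper7)
-/

set_option autoImplicit false
set_option maxSynthPendingDepth 6
universe u
open Finsupp

namespace Groth.Agent.Lib.ModDirLimH7

variable (R : Type u) [CommRing R] (M : Type u) [AddCommGroup M] [Module R M]

/-- the evaluation map from the free module on `M` -/
noncomputable def ev : (M →₀ R) →ₗ[R] M := Finsupp.linearCombination R (id : M → M)

theorem ev_single (m : M) : ev R M (Finsupp.single m 1) = m := by
  simp [ev]

/-- index type: a finite subset `s` of `M` and a f.g. submodule of relations supported on `s` -/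
abbrev Idx : Type u :=
  {p : Finset M × Submodule R (M →₀ R) //
    p.2.FG ∧ p.2 ≤ Finsupp.supported R R (p.1 : Set M) ⊓ LinearMap.ker (ev R M)}

noncomputable instance decEqIdx : DecidableEq (Idx R M) := Classical.decEq _

instance : Nonempty (Idx R M) := ⟨⟨(∅, ⊥), Submodule.fg_bot, bot_le⟩⟩

instance : IsDirected (Idx R M) (· ≤ ·) := by
  classical
  refine ⟨fun p q => ⟨⟨(p.1.1 ∪ q.1.1, p.1.2 ⊔ q.1.2), p.2.1.sup q.2.1, ?_⟩, ?_, ?_⟩⟩
  · refine sup_le (p.2.2.trans (inf_le_inf_right _ (Finsupp.supported_mono ?_)))
      (q.2.2.trans (inf_le_inf_right _ (Finsupp.supported_mono ?_)))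
    · exact Finset.coe_subset.mpr Finset.subset_union_left
    · exact Finset.coe_subset.mpr Finset.subset_union_right
  · exact ⟨Finset.subset_union_left, le_sup_left⟩
  · exact ⟨Finset.subset_union_right, le_sup_right⟩

variable {R M}

/-- the ambient free module of a stage -/
abbrev A (p : Idx R M) : Submodule R (M →₀ R) := Finsupp.supported R R (p.1.1 : Set M)

/-- the relations of a stage, inside the ambient free module -/
noncomputable abbrev B (p : Idx R M) : Submodule R (A p) := p.1.2.comap (A p).subtype

/-- the stage modules -/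
noncomputable abbrev G (p : Idx R M) : Type u := (A p) ⧸ (B p)

theorem A_mono {p q : Idx R M} (h : p ≤ q) : A p ≤ A q :=
  Finsupp.supported_mono (Finset.coe_subset.mpr h.1)

/-- transition maps -/
noncomputable def f (p q : Idx R M) (h : p ≤ q) : G p →ₗ[R] G q :=
  Submodule.mapQ (B p) (B q) (Submodule.inclusion (A_mono h)) (fun x hx => h.2 hx)

theorem f_mk {p q : Idx R M} (h : p ≤ q) (x : A p) :
    f p q h (Submodule.Quotient.mk x) = Submodule.Quotient.mk (Submodule.inclusion (A_mono h) x) :=
  rfl

instance : DirectedSystem (G (R := R) (M := M)) fun i j h => f i j h where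
  map_self i x := by
    obtain ⟨x, rfl⟩ := Submodule.Quotient.mk_surjective _ x
    rfl
  map_map i j k hij hjk x := by
    obtain ⟨x, rfl⟩ := Submodule.Quotient.mk_surjective _ x
    rfl

theorem fg_B (p : Idx R M) : (B p).FG := by
  have e := Submodule.comapSubtypeEquivOfLe (p := p.1.2) (q := A p) (p.2.2.trans inf_le_left)
  haveI : Module.Finite R p.1.2 := Module.Finite.iff_fg.mpr p.2.1
  exact Module.Finite.iff_fg.mp (Module.Finite.equiv e.symm)

instance (p : Idx R M) : Module.FinitePresentation R (G p) := by
  let e := Finsupp.supportedEquivFinsupp (M := R) (R := R) (p.1.1 : Set M)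
  haveI : Module.FinitePresentation R (A p) := Module.FinitePresentation.of_equiv e.symm
  exact Module.finitePresentation_of_surjective (B p).mkQ (Submodule.mkQ_surjective _)
    (by rw [Submodule.ker_mkQ]; exact fg_B p)

/-- the maps to `M` -/
noncomputable def g (p : Idx R M) : G p →ₗ[R] M :=
  (B p).liftQ (ev R M ∘ₗ (A p).subtype) (fun x hx => (p.2.2 hx).2)

theorem g_mk (p : Idx R M) (x : A p) : g p (Submodule.Quotient.mk x) = ev R M x := rfl

theorem g_f {p q : Idx R M} (h : p ≤ q) (x : G p) : g q (f p q h x) = g p x := by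
  obtain ⟨x, rfl⟩ := Submodule.Quotient.mk_surjective _ x
  rfl

variable (R M)

/-- the comparison map -/
noncomputable def Φ : Module.DirectLimit (G (R := R) (M := M)) f →ₗ[R] M :=
  Module.DirectLimit.lift R (Idx R M) G f g (fun _ _ h x => g_f h x)

theorem Φ_bijective : Function.Bijective (Φ R M) := by
  constructor
  · refine (injective_iff_map_eq_zero (Φ R M)).mpr ?_
    intro z hz
    obtain ⟨p, x, rfl⟩ := Module.DirectLimit.exists_of z
    obtain ⟨x, rfl⟩ := Submodule.Quotient.mk_surjective _ x
    have hx : ev R M x = 0 := by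
      have : Φ R M (Module.DirectLimit.of R (Idx R M) G f p (Submodule.Quotient.mk x)) = 0 := hz
      rwa [Φ, Module.DirectLimit.lift_of, g_mk] at this
    let q : Idx R M := ⟨(p.1.1, p.1.2 ⊔ Submodule.span R {(x : M →₀ R)}),
      p.2.1.sup (Submodule.fg_span_singleton _),
      sup_le p.2.2 ((Submodule.span_singleton_le_iff_mem _ _).mpr ⟨x.2, hx⟩)⟩
    have hpq : p ≤ q := ⟨le_refl _, le_sup_left⟩
    rw [← Module.DirectLimit.of_f (hij := hpq), f_mk]
    have h0 : (Submodule.Quotient.mk (Submodule.inclusion (A_mono hpq) x) : G q) = 0 := by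
      rw [Submodule.Quotient.mk_eq_zero]
      exact Submodule.mem_sup_right (Submodule.mem_span_singleton_self _)
    rw [h0, map_zero]
  · intro m
    let p : Idx R M := ⟨({m}, ⊥), Submodule.fg_bot, bot_le⟩
    have hm : Finsupp.single m (1 : R) ∈ A p :=
      Finsupp.single_mem_supported R 1 (by simp [p])
    refine ⟨Module.DirectLimit.of R (Idx R M) G f p (Submodule.Quotient.mk ⟨_, hm⟩), ?_⟩
    rw [Φ, Module.DirectLimit.lift_of, g_mk]
    exact ev_single R M m

end Groth.Agent.Lib.ModDirLimH7
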