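import Mathlib
import Groth.Prelude
import Groth.Agent.Lib.HomColimDom_helper7
import Groth.Agent.Lib.LimBaseChange_helper7
import Groth.Agent.Lib.IdealFT_helper7

/-!
# Descending the modulus condition along limits (helper7)

`exists_comap_le`: an inclusion `A.comap π ≤ K.comap π` of pulled-back ideal sheaves on a limit
(with `A` locally finitely generated) already holds at a finite stage.
`main18745`: ambient morphisms of modulus pairs out of a limit descend.
-/

set_option autoImplicit false
set_option linter.style.haveILetI false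
universe u
open CategoryTheory CategoryTheory.Limits AlgebraicGeometry TopologicalSpace Opposite

namespace Groth.Agent.Lib.ModPairDescH7
open Groth.Agent.Lib.IdealFTH7 Groth.Agent.Lib.LimBaseChangeH7 Groth.Agent.Lib.HomColimDomH7

lemma ker_snd {X Y : Scheme.{u}} (K : Y.IdealSheafData) (g : X ⟶ Y) :
    (pullback.snd K.subschemeι g).ker = K.comap g := by
  have h : pullback.snd K.subschemeι g =
      (pullbackSymmetry K.subschemeι g).hom ≫ pullback.fst g K.subschemeι :=
    (pullbackSymmetry_hom_comp_fst _ _).symm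
  rw [h, Scheme.Hom.ker_comp_of_isIso]
  rfl

/-- An inclusion of pulled-back ideal sheaves on a limit descends to a finite stage. -/
theorem exists_comap_le {I : Type u} [SmallCategory I] [IsCofiltered I] (E : I ⥤ Scheme.{u})
    [∀ (i j : I) (f : i ⟶ j), IsAffineHom (E.map f)] (cE : Cone E) (hcE : IsLimit cE) (i : I)
    [CompactSpace (E.obj i)] [QuasiSeparatedSpace (E.obj i)]
    (A K : (E.obj i).IdealSheafData) (hA : FTloc A ⊤)
    (h : A.comap (cE.π.app i) ≤ K.comap (cE.π.app i)) :
    ∃ (j : I) (t : j ⟶ i), A.comap (E.map t) ≤ K.comap (E.map t) := by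
  haveI := lfp_of_ftloc A hA
  haveI : CompactSpace K.subscheme := QuasiCompact.compactSpace_of_compactSpace K.subschemeι
  haveI : QuasiSeparatedSpace K.subscheme := quasiSeparatedSpace_of_quasiSeparated K.subschemeι
  have hX := IsPullback.of_hasPullback K.subschemeι (cE.π.app i)
  have hle : (A.comap (cE.π.app i)).subschemeι.ker ≤
      (pullback.snd K.subschemeι (cE.π.app i)).ker := by
    rw [Scheme.IdealSheafData.ker_subschemeι, ker_snd]
    exact h
  obtain ⟨m, hm⟩ : ∃ m : pullback K.subschemeι (cE.π.app i) ⟶ (A.comap (cE.π.app i)).subscheme,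
      m ≫ (A.comap (cE.π.app i)).subschemeι = pullback.snd K.subschemeι (cE.π.app i) :=
    ⟨IsClosedImmersion.lift _ _ hle, IsClosedImmersion.lift_fac _ _ _⟩
  obtain ⟨a, ha⟩ : ∃ a : pullback K.subschemeι (cE.π.app i) ⟶ A.subscheme,
      a ≫ A.subschemeι = pullback.snd K.subschemeι (cE.π.app i) ≫ cE.π.app i := by
    refine ⟨m ≫ (A.comapIso (cE.π.app i)).hom ≫ pullback.snd (cE.π.app i) A.subschemeι, ?_⟩
    have hw := (isPullback_comap_subschemeι A (cE.π.app i)).w
    calc (m ≫ (A.comapIso (cE.π.app i)).hom ≫ pullback.snd (cE.π.app i) A.subschemeι) ≫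
          A.subschemeι
        = m ≫ (((A.comapIso (cE.π.app i)).hom ≫ pullback.snd (cE.π.app i) A.subschemeι) ≫
            A.subschemeι) := by simp only [Category.assoc]
      _ = m ≫ ((A.comap (cE.π.app i)).subschemeι ≫ cE.π.app i) := by rw [← hw]
      _ = _ := by rw [← Category.assoc, hm]
  obtain ⟨j, g, -, hg⟩ := Scheme.exists_π_app_comp_eq_of_locallyOfFinitePresentation
    (bcDiagram E i K.subschemeι) (bcDiagramBase E i K.subschemeι) A.subschemeι (bcCone cE hX)
    (isLimitBcCone cE hX hcE) a (by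
      ext k : 2
      show (bcCone cE hX).π.app k ≫ (bcDiagramBase E i K.subschemeι).app k = a ≫ A.subschemeι
      have e1 : (bcCone cE hX).π.app k ≫ pullback.fst K.subschemeι (E.map k.hom) =
          pullback.fst K.subschemeι (cE.π.app i) := bcCone_π_fst cE hX k
      calc (bcCone cE hX).π.app k ≫ (bcDiagramBase E i K.subschemeι).app k
          = ((bcCone cE hX).π.app k ≫ pullback.fst K.subschemeι (E.map k.hom)) ≫
              K.subschemeι := (Category.assoc _ _ _).symm
        _ = pullback.fst K.subschemeι (cE.π.app i) ≫ K.subschemeι :=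
            congrArg (· ≫ K.subschemeι) e1
        _ = _ := by rw [hX.w, ha])
  refine ⟨j.left, j.hom, ?_⟩
  rw [← Scheme.IdealSheafData.le_map_iff_comap_le]
  have h1 : g ≫ A.subschemeι = pullback.snd K.subschemeι (E.map j.hom) ≫ E.map j.hom := by
    rw [hg, bcDiagramBase_app, pullback.condition]
  calc A = A.subschemeι.ker := (Scheme.IdealSheafData.ker_subschemeι A).symm
    _ ≤ (g ≫ A.subschemeι).ker := Scheme.Hom.le_ker_comp g A.subschemeι
    _ = (pullback.snd K.subschemeι (E.map j.hom) ≫ E.map j.hom).ker :=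
        congrArg Scheme.Hom.ker h1
    _ = (pullback.snd K.subschemeι (E.map j.hom)).ker.map (E.map j.hom) :=
        Scheme.Hom.ker_comp _ _
    _ = (K.comap (E.map j.hom)).map (E.map j.hom) := by rw [ker_snd]

lemma ftloc_of_effCartier {X : Scheme.{u}} (A : X.IdealSheafData)
    (hA : BlowUp.IsEffCartierIdeal A) : FTloc A ⊤ := by
  intro x _
  obtain ⟨U, hxU, f, -, hf⟩ := hA x
  refine ⟨U, hxU, ?_⟩
  rw [hf]
  exact Submodule.fg_span_singleton f

attribute [local instance] IsCofiltered.isConnected in
/-- Morphisms from the limit to a finite type (dominant transitions) or finitely presented target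
factor through a stage. -/
theorem exists_factor {S : Scheme.{u}} [CompactSpace S] [QuasiSeparatedSpace S] {I : Type u}
    [SmallCategory I] [IsCofiltered I] (D : I ⥤ Over S) (c : Cone D) (hc : IsLimit c)
    [∀ (i j : I) (t : i ⟶ j), IsAffineHom (D.map t).left]
    [∀ i, CompactSpace (D.obj i).left] [∀ i, QuasiSeparatedSpace (D.obj i).left]
    (Y : Over S) [CompactSpace Y.left] [QuasiSeparatedSpace Y.left] [LocallyOfFiniteType Y.hom]
    (h : (∀ (i j : I) (t : i ⟶ j), IsSchemeTheoreticallyDominant (D.map t).left) ∨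
      LocallyOfFinitePresentation Y.hom)
    (φ : c.pt ⟶ Y) : ∃ (i : I) (φi : D.obj i ⟶ Y), c.π.app i ≫ φi = φ := by
  rcases h with h | h
  · haveI : ∀ (i j : I) (t : i ⟶ j), IsSchemeTheoreticallyDominant (D.map t).left := h
    exact (main18742 D c hc Y).1 φ
  · haveI := h
    have hcE : IsLimit ((Over.forget S).mapCone c) := isLimitOfPreserves (Over.forget S) hc
    haveI hAff : ∀ {i j : I} (a : i ⟶ j), IsAffineHom ((D ⋙ Over.forget S).map a) :=
      fun a => (inferInstance : IsAffineHom (D.map a).left)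
    haveI hCpt : ∀ i : I, CompactSpace ((D ⋙ Over.forget S).obj i) :=
      fun i => (inferInstance : CompactSpace (D.obj i).left)
    haveI hQs : ∀ i : I, QuasiSeparatedSpace ((D ⋙ Over.forget S).obj i) :=
      fun i => (inferInstance : QuasiSeparatedSpace (D.obj i).left)
    obtain ⟨t, ht⟩ : ∃ t : D ⋙ Over.forget S ⟶ (Functor.const I).obj S,
        ∀ i, t.app i = (D.obj i).hom :=
      ⟨{ app := fun i => (D.obj i).hom
         naturality := fun i j a => by simp }, fun _ => rfl⟩
    obtain ⟨i, g, hg1, hg2⟩ : ∃ (i : I) (g : (D.obj i).left ⟶ Y.left),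
        (c.π.app i).left ≫ g = φ.left ∧ g ≫ Y.hom = (D.obj i).hom := by
      obtain ⟨i, g, hg1, hg2⟩ := Scheme.exists_π_app_comp_eq_of_locallyOfFinitePresentation
        (D ⋙ Over.forget S) t Y.hom ((Over.forget S).mapCone c) hcE φ.left (by
          ext k : 2
          show (c.π.app k).left ≫ t.app k = φ.left ≫ Y.hom
          rw [ht, Over.w φ, Over.w (c.π.app k)]
          rfl)
      exact ⟨i, g, hg1, hg2.trans (ht i)⟩
    refine ⟨i, Over.homMk g hg2, ?_⟩
    apply Over.OverMorphism.ext
    exact hg1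

attribute [local instance] IsCofiltered.isConnected in
/-- **S18745** -/
theorem main18745 {S : Scheme.{u}}
    [CompactSpace S] [QuasiSeparatedSpace S] {I : Type u} [SmallCategory I] [IsCofiltered I]
    (D : I ⥤ Over S) (c : Cone D) (hc : IsLimit c)
    [∀ (i j : I) (t : i ⟶ j), IsAffineHom (D.map t).left]
    [∀ i, CompactSpace (D.obj i).left] [∀ i, QuasiSeparatedSpace (D.obj i).left]
    (J : ∀ i, (D.obj i).left.IdealSheafData) (hJ : ∀ i, BlowUp.IsEffCartierIdeal (J i))
    (hmin : ∀ (i j : I) (t : i ⟶ j), ModPair.IsMinimal (J i) (J j) (D.map t).left)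
    (IX : c.pt.left.IdealSheafData) (hIX : ∀ i, IX = (J i).comap (c.π.app i).left)
    (Y : Over S) [CompactSpace Y.left] [QuasiSeparatedSpace Y.left] [LocallyOfFiniteType Y.hom]
    (IY : Y.left.IdealSheafData)
    (h : (∀ (i j : I) (t : i ⟶ j), IsSchemeTheoreticallyDominant (D.map t).left) ∨
      LocallyOfFinitePresentation Y.hom)
    (φ : c.pt ⟶ Y) (hφ : ModPair.IsAmbient IX IY φ.left) :
    ∃ (i : I) (φi : D.obj i ⟶ Y), ModPair.IsAmbient (J i) IY φi.left ∧ c.π.app i ≫ φi = φ := by
  obtain ⟨i, φi, hφi⟩ := exists_factor D c hc Y h φ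
  have hcE : IsLimit ((Over.forget S).mapCone c) := isLimitOfPreserves (Over.forget S) hc
  haveI hAff : ∀ (i j : I) (a : i ⟶ j), IsAffineHom ((D ⋙ Over.forget S).map a) :=
    fun _ _ a => (inferInstance : IsAffineHom (D.map a).left)
  haveI hCpt : CompactSpace ((D ⋙ Over.forget S).obj i) :=
    (inferInstance : CompactSpace (D.obj i).left)
  haveI hQs : QuasiSeparatedSpace ((D ⋙ Over.forget S).obj i) :=
    (inferInstance : QuasiSeparatedSpace (D.obj i).left)
  have hle : (J i).comap (c.π.app i).left ≤ (IY.comap φi.left).comap (c.π.app i).left := by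
    rw [← hIX i, ← Scheme.IdealSheafData.comap_comp]
    have h1 : (c.π.app i).left ≫ φi.left = φ.left := congrArg (fun m => m.left) hφi
    rw [h1]
    exact hφ
  obtain ⟨j, t, hjt⟩ := exists_comap_le (D ⋙ Over.forget S) ((Over.forget S).mapCone c) hcE i
    (J i) (IY.comap φi.left) (ftloc_of_effCartier _ (hJ i)) hle
  refine ⟨j, D.map t ≫ φi, ?_, ?_⟩
  · show J j ≤ IY.comap ((D.map t).left ≫ φi.left)
    rw [Scheme.IdealSheafData.comap_comp, hmin j i t]
    exact hjt
  · rw [← Category.assoc, c.w t, hφi]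

end Groth.Agent.Lib.ModPairDescH7
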