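import Mathlib
import Groth.Prelude
import Groth.Agent.Lib.FinExt_helper7
import Groth.Agent.Lib.CartierDense_helper9
import Groth.Agent.Lib.LimSchDense_lead
import Groth.Agent.Lib.BlowIso2_helper8

/-!
# Extending finite surjective morphisms from the interior of a modulus pair (helper7)

`exists_finite_dense_extension`: a finite surjective morphism onto a quasi-compact
scheme-theoretically dense open `U ⊆ S` (`S` qcqs) extends to a finite surjective `T ⟶ S` in which
the preimage of `U` is scheme-theoretically dense.  `main19331`.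
-/

set_option autoImplicit false
set_option linter.style.haveILetI false
universe u
open CategoryTheory CategoryTheory.Limits AlgebraicGeometry TopologicalSpace Opposite

namespace Groth.Agent.Lib.ModPairFinExtH7
open Groth.Agent.Lib.ZMTFinH7 Groth.Agent.Lib.FinExtH7

theorem exists_finite_dense_extension {S : Scheme.{u}} [CompactSpace S] [QuasiSeparatedSpace S]
    (U : S.Opens) [QuasiCompact U.ι] [IsSchemeTheoreticallyDominant U.ι] {T₀ : Scheme.{u}}
    (t₀ : T₀ ⟶ (U : Scheme.{u})) [IsFinite t₀] [Surjective t₀] :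
    ∃ (T : Scheme.{u}) (t : T ⟶ S) (j : T₀ ⟶ T), IsFinite t ∧ Surjective t ∧
      IsSchemeTheoreticallyDominant (t ⁻¹ᵁ U).ι ∧ IsOpenImmersion j ∧
      Set.range j = ((t ⁻¹ᵁ U : T.Opens) : Set T) ∧ j ≫ t = t₀ ≫ U.ι := by
  haveI : LocallyQuasiFinite (t₀ ≫ U.ι) := inferInstance
  obtain ⟨T', j', π, hj, hjqc, hπ, hfac⟩ := main0385 (t₀ ≫ U.ι)
  haveI := hj
  haveI := hjqc
  haveI := hπ
  haveI : IsOpenImmersion j'.toImage := inferInstance
  obtain ⟨t, ht⟩ : ∃ t : j'.image ⟶ S, t = j'.imageι ≫ π := ⟨_, rfl⟩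
  haveI : IsFinite t := by
    rw [ht]
    infer_instance
  have hfac₂ : j'.toImage ≫ t = t₀ ≫ U.ι := by
    rw [ht, ← Category.assoc, j'.toImage_imageι, hfac]
  have hdense : Dense (Set.range j'.toImage) := j'.toImage.denseRange
  have hrange := range_eq_preimage U t₀ j'.toImage hdense t hfac₂
  haveI hdom : IsSchemeTheoreticallyDominant j'.toImage :=
    Groth.Agent.Lib.LimSchDense.toImage_dominant j'
  refine ⟨j'.image, t, j'.toImage, inferInstance, ?_, ?_, inferInstance, hrange, hfac₂⟩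
  · -- surjective
    have hcl : IsClosed (Set.range t) := t.isClosedMap.isClosed_range
    have hsub : (U : Set S) ⊆ Set.range t := by
      intro s hs
      obtain ⟨x, hx⟩ := t₀.surjective ⟨s, hs⟩
      refine ⟨j'.toImage x, ?_⟩
      have h1 : t (j'.toImage x) = U.ι (t₀ x) := by
        rw [← Scheme.Hom.comp_apply, ← Scheme.Hom.comp_apply, hfac₂]
      rw [h1, hx]
      rfl
    have hUd : Dense (U : Set S) := by
      have h := U.ι.denseRange
      rw [DenseRange, Scheme.Opens.range_ι] at h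
      exact h
    refine ⟨fun s => ?_⟩
    have h1 : closure (U : Set S) ⊆ Set.range t := hcl.closure_subset_iff.mpr hsub
    exact h1 (by rw [hUd.closure_eq]; trivial)
  · -- density of the preimage
    have hsub : Set.range j'.toImage ⊆ Set.range (t ⁻¹ᵁ U).ι := by
      rw [Scheme.Opens.range_ι, hrange]
    obtain ⟨ℓ, hℓ⟩ : ∃ ℓ : T₀ ⟶ ((t ⁻¹ᵁ U : j'.image.Opens) : Scheme.{u}),
        ℓ ≫ (t ⁻¹ᵁ U).ι = j'.toImage :=
      ⟨IsOpenImmersion.lift _ _ hsub, IsOpenImmersion.lift_fac _ _ _⟩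
    rw [isSchemeTheoreticallyDominant_iff, eq_bot_iff]
    calc (t ⁻¹ᵁ U).ι.ker ≤ (ℓ ≫ (t ⁻¹ᵁ U).ι).ker := Scheme.Hom.le_ker_comp _ _
      _ = j'.toImage.ker := by rw [hℓ]
      _ = ⊥ := j'.toImage.ker_eq_bot

/-- **S19331** -/
theorem main19331 {S : Scheme.{u}}
    [CompactSpace S] [QuasiSeparatedSpace S] (I : S.IdealSheafData)
    (hI : BlowUp.IsEffCartierIdeal I) {T₀ : Scheme.{u}}
    (t₀ : T₀ ⟶ (ModPair.interior I : Scheme.{u})) [IsFinite t₀] [Surjective t₀] :
    ∃ (T : Scheme.{u}) (t : T ⟶ S) (j : T₀ ⟶ T), IsFinite t ∧ Surjective t ∧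
      BlowUp.IsEffCartierIdeal (I.comap t) ∧ IsOpenImmersion j ∧
      Set.range j.base = t.base ⁻¹' (ModPair.interior I : Set S) ∧
      j ≫ t = t₀ ≫ (ModPair.interior I).ι := by
  haveI : IsAffineHom (ModPair.interior I).ι :=
    Groth.Agent.Lib.CartierDense.isAffineHom_interior_ι I hI
  haveI : QuasiCompact (ModPair.interior I).ι := inferInstance
  haveI hUdom : IsSchemeTheoreticallyDominant (ModPair.interior I).ι :=
    BlowIsoH8.dominant_of_effCartier I hI _ (fun y hy => hy)
  obtain ⟨T, t, j, h1, h2, h3, h4, h5, h6⟩ :=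
    exists_finite_dense_extension (ModPair.interior I) t₀
  haveI := h3
  exact ⟨T, t, j, h1, h2, (Groth.Agent.Lib.CartierDense.main I hI t).2, h4, h5, h6⟩

end Groth.Agent.Lib.ModPairFinExtH7
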