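import Mathlib
import Groth.Prelude
import Groth.Agent.Lib.LimCIStage_helper7
import Groth.Agent.Lib.BlowIso2_helper8

/-!
# A limit of finitely presented admissible blow-ups which is an admissible blow-up (helper7)

`main18754`: such a limit is isomorphic to a stage, hence of finite presentation.
-/

set_option autoImplicit false
set_option linter.style.haveILetI false
universe u
open CategoryTheory CategoryTheory.Limits AlgebraicGeometry TopologicalSpace Opposite

namespace Groth.Agent.Lib.ModPairLFPH7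
open Groth.Agent.Lib.LimCIStageH7

/-- A closed immersion `p : X ⟶ X'` of `Y`-schemes which are both isomorphisms over an open `V ⊆ Y`
whose preimage in `X'` is scheme-theoretically dense is an isomorphism. -/
theorem isIso_of_closedImmersion {X X' Y : Scheme.{u}} (p : X ⟶ X') [IsClosedImmersion p]
    (g : X' ⟶ Y) (V : Y.Opens) (ha : IsIso (g ∣_ V)) (hb : IsIso ((p ≫ g) ∣_ V))
    [IsSchemeTheoreticallyDominant (g ⁻¹ᵁ V).ι] : IsIso p := by
  haveI := ha
  haveI := hb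
  have e : (p ≫ g) ⁻¹ᵁ V ≤ p ⁻¹ᵁ (g ⁻¹ᵁ V) := le_of_eq (Scheme.Hom.comp_preimage p g V)
  obtain ⟨r, hrdef⟩ : ∃ r : ((p ≫ g) ⁻¹ᵁ V : Scheme.{u}) ⟶ (g ⁻¹ᵁ V : Scheme.{u}),
      r = p.resLE (g ⁻¹ᵁ V) ((p ≫ g) ⁻¹ᵁ V) e := ⟨_, rfl⟩
  have hr : r ≫ (g ⁻¹ᵁ V).ι = ((p ≫ g) ⁻¹ᵁ V).ι ≫ p := by
    rw [hrdef]
    exact Scheme.Hom.resLE_comp_ι _ _
  have hra : r ≫ (g ∣_ V) = (p ≫ g) ∣_ V := by
    rw [← cancel_mono V.ι, Category.assoc, morphismRestrict_ι, ← Category.assoc, hr,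
      Category.assoc, morphismRestrict_ι]
  haveI : IsIso r := by
    have h1 : r = ((p ≫ g) ∣_ V) ≫ inv (g ∣_ V) := by
      rw [← hra, Category.assoc, IsIso.hom_inv_id, Category.comp_id]
    rw [h1]
    infer_instance
  have hℓ : (inv r ≫ ((p ≫ g) ⁻¹ᵁ V).ι) ≫ p = (g ⁻¹ᵁ V).ι := by
    rw [Category.assoc, ← hr, IsIso.inv_hom_id_assoc]
  have hker : p.ker = ⊥ := by
    rw [eq_bot_iff]
    calc p.ker ≤ ((inv r ≫ ((p ≫ g) ⁻¹ᵁ V).ι) ≫ p).ker := Scheme.Hom.le_ker_comp _ _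
      _ = (g ⁻¹ᵁ V).ι.ker := by rw [hℓ]
      _ = ⊥ := (g ⁻¹ᵁ V).ι.ker_eq_bot
  exact IsClosedImmersion.isIso_of_ker_eq p (𝟙 X') p (Category.comp_id p)
    (hker.trans (Scheme.Hom.ker_eq_bot (𝟙 X')).symm)

attribute [local instance] IsCofiltered.isConnected in
/-- **S18754** -/
theorem main18754 {Y : Scheme.{u}}
    [CompactSpace Y] [QuasiSeparatedSpace Y] (IY : Y.IdealSheafData)
    {I : Type u} [SmallCategory I] [IsCofiltered I] (D : I ⥤ Over Y) (c : Cone D) (hc : IsLimit c)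
    [∀ (i j : I) (t : i ⟶ j), IsAffineHom (D.map t).left]
    [∀ i, CompactSpace (D.obj i).left] [∀ i, QuasiSeparatedSpace (D.obj i).left]
    (hI : ∀ i, BlowUp.IsEffCartierIdeal (IY.comap (D.obj i).hom))
    (hadm : ∀ i, ModPair.IsAdmBlowup (IY.comap (D.obj i).hom) IY (D.obj i).hom)
    [∀ i, LocallyOfFinitePresentation (D.obj i).hom]
    (hXadm : ModPair.IsAdmBlowup (IY.comap c.pt.hom) IY c.pt.hom) :
    LocallyOfFinitePresentation c.pt.hom := by
  have hcE : IsLimit ((Over.forget Y).mapCone c) := isLimitOfPreserves (Over.forget Y) hc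
  haveI hAff : ∀ {i j : I} (a : i ⟶ j), IsAffineHom ((D ⋙ Over.forget Y).map a) :=
    fun a => (inferInstance : IsAffineHom (D.map a).left)
  haveI hCpt : ∀ i : I, CompactSpace ((D ⋙ Over.forget Y).obj i) :=
    fun i => (inferInstance : CompactSpace (D.obj i).left)
  obtain ⟨f, hf⟩ : ∃ f : ((Over.forget Y).mapCone c).pt ⟶ Y, f = c.pt.hom := ⟨_, rfl⟩
  rw [← hf] at hXadm ⊢
  haveI : IsProper f := hXadm.2.1
  haveI : LocallyOfFiniteType f := inferInstance
  have hwk : ∀ k, (c.π.app k).left ≫ (D.obj k).hom = f := fun k => by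
    rw [hf]
    exact Over.w (c.π.app k)
  obtain ⟨i, hi⟩ : ∃ i : I, IsClosedImmersion (c.π.app i).left :=
    exists_isClosedImmersion_π (D ⋙ Over.forget Y) ((Over.forget Y).mapCone c) hcE
      (fun k => (D.obj k).hom) (fun a => Over.w (D.map a)) f hwk
  haveI := hi
  have hw : (c.π.app i).left ≫ (D.obj i).hom = f := hwk i
  haveI : IsSchemeTheoreticallyDominant ((D.obj i).hom ⁻¹ᵁ ModPair.interior IY).ι :=
    BlowIsoH8.dominant_of_effCartier (IY.comap (D.obj i).hom) (hI i) _ (fun y hy => by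
      rw [Scheme.IdealSheafData.support_comap] at hy
      exact hy)
  haveI : IsIso (c.π.app i).left :=
    isIso_of_closedImmersion (c.π.app i).left (D.obj i).hom (ModPair.interior IY) (hadm i).2.2
      (by rw [hw]; exact hXadm.2.2)
  rw [← hw]
  infer_instance

end Groth.Agent.Lib.ModPairLFPH7
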