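import Mathlib
import Groth.Agent.Lib.ModSite9_helper8
import Groth.Agent.Lib.AcyclicTensor_helper8

namespace Groth.Agent.Lib.ModSiteH8
open CategoryTheory Limits Opposite MonoidalCategory ModSite

universe u

lemma preservesFiniteLimits_of_isZero_obj {𝒜 ℬ : Type*} [Category 𝒜] [Category ℬ]
    (G : 𝒜 ⥤ ℬ) (h : ∀ X, IsZero (G.obj X)) : PreservesFiniteLimits G := by
  constructor
  intro J _ _
  constructor
  intro K
  constructor
  intro c hc
  exact ⟨{ lift := fun s => (h c.pt).from_ s.pt
           fac := fun s j => (h _).eq_of_tgt _ _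
           uniq := fun s m hm => (h _).eq_of_tgt _ _ }⟩

variable {C : Type u} [SmallCategory C] {J : GrothendieckTopology C}
variable (O : Sheaf J CommRingCat.{u})

theorem isFlat_of_isZero (X : Mod O) (hX : IsZero X) : ModSite.IsFlat X := by
  rw [isFlat_iff]
  apply preservesFiniteLimits_of_isZero_obj
  intro N
  exact Functor.map_isZero ((tensorBi O).obj N) hX

theorem acyclic_tensor_of_flat (M : ChainComplex (Mod O) ℤ) (F : Mod O)
    [((tensorBi O).flip.obj F).PreservesZeroMorphisms]
    (hb : ∃ i₀ : ℤ, ∀ i, i < i₀ → IsZero (M.X i)) (hM : ∀ i, ModSite.IsFlat (M.X i))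
    (hac : M.Acyclic) :
    ((((tensorBi O).flip.obj F).mapHomologicalComplex (ComplexShape.down ℤ)).obj M).Acyclic :=
  Groth.Agent.Lib.AcyclicTensorH8.acyclic_map_of_flat ((tensorBi O).flip.obj F) ModSite.IsFlat
    (fun X hX => isFlat_of_isZero O X hX)
    (fun S hS h2 h3 => ((isFlat_two_of_three O S hS h3).2 h2))
    (fun S hS h3 => tensor_shortExact_of_isFlat O S hS h3 F)
    M hb hM hac

end Groth.Agent.Lib.ModSiteH8
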