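import Mathlib
import Groth.Prelude.Def_ModSite

set_option autoImplicit false
set_option linter.unusedSectionVars false
set_option linter.style.haveILetI false
universe u

open CategoryTheory Limits Opposite

namespace Groth.Agent.Lib.ModSitePullH4

noncomputable section

section Sets

variable {C D : Type u} [SmallCategory C] [SmallCategory D]
  (J : GrothendieckTopology C) (K : GrothendieckTopology D)

/-- the terminal sheaf of sets -/
abbrev Tm : Sheaf J (Type u) := Sheaf.terminal J Types.isTerminalPUnit

/-- maps from the terminal sheaf are sections -/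
def secEquiv (P : Sheaf J (Type u)) : (Tm J ⟶ P) ≃ P.obj.sections :=
  ((fullyFaithfulSheafToPresheaf J (Type u)).homEquiv).trans (P.obj.sectionsEquivHom PUnit).symm

lemma secEquiv_apply (P : Sheaf J (Type u)) (s : Tm J ⟶ P) (X : Cᵒᵖ) :
    (secEquiv J P s).1 X = s.hom.app X PUnit.unit := rfl

variable {J K} (fn : D ⥤ C) [fn.IsContinuous K J]

/-- the unique map from the pullback of the terminal sheaf -/
def tmMap : (fn.sheafPullback (Type u) K J).obj (Tm K) ⟶ Tm J :=
  (Sheaf.isTerminalTerminal J Types.isTerminalPUnit).from _

instance isIso_tmMap [PreservesFiniteLimits (fn.sheafPullback (Type u) K J)] :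
    IsIso (tmMap (J := J) (K := K) fn) := by
  have h1 : IsTerminal ((fn.sheafPullback (Type u) K J).obj (Tm K)) :=
    IsTerminal.isTerminalObj _ _ (Sheaf.isTerminalTerminal K Types.isTerminalPUnit)
  exact ⟨⟨h1.from _, h1.hom_ext _ _,
    (Sheaf.isTerminalTerminal J Types.isTerminalPUnit).hom_ext _ _⟩⟩

/-- the composite bijection -/
def secPullEquiv [PreservesFiniteLimits (fn.sheafPullback (Type u) K J)] (P : Sheaf J (Type u)) :
    P.obj.sections ≃ ((fn.sheafPushforwardContinuous (Type u) K J).obj P).obj.sections :=
  (secEquiv J P).symm.trans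
    (((asIso (tmMap (J := J) (K := K) fn)).homFromEquiv (Z := P)).symm.trans
      (((fn.sheafAdjunctionContinuous (Type u) K J).homEquiv (Tm K) P).trans
        (secEquiv K _)))


lemma secEquiv_symm_app (P : Sheaf J (Type u)) (s : P.obj.sections) (X : Cᵒᵖ) (x : PUnit) :
    ((secEquiv J P).symm s).hom.app X x = s.1 X := rfl

lemma secPullEquiv_apply [PreservesFiniteLimits (fn.sheafPullback (Type u) K J)]
    (P : Sheaf J (Type u)) (s : P.obj.sections) (V : Dᵒᵖ) :
    (secPullEquiv (K := K) fn P s).1 V = s.1 (fn.op.obj V) := by
  have h1 : secPullEquiv (K := K) fn P s = secEquiv K _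
      ((fn.sheafAdjunctionContinuous (Type u) K J).homEquiv (Tm K) P
        (tmMap (J := J) (K := K) fn ≫ (secEquiv J P).symm s)) := rfl
  rw [h1, Adjunction.homEquiv_naturality_right, secEquiv_apply]
  rfl

lemma bijective_sectionsPrecomp [PreservesFiniteLimits (fn.sheafPullback (Type u) K J)]
    (P : Sheaf J (Type u)) :
    Function.Bijective (fn.op.sectionsPrecomp (P := P.obj)) := by
  have : fn.op.sectionsPrecomp (P := P.obj) = secPullEquiv (K := K) fn P := by
    funext s
    apply Subtype.ext
    funext V
    exact (secPullEquiv_apply fn P s V).symm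
  rw [this]
  exact (secPullEquiv (K := K) fn P).bijective

end Sets


section Modules

open ModSite

variable {C D : Type u} [SmallCategory C] [SmallCategory D]
  {J : GrothendieckTopology C} {K : GrothendieckTopology D}
  {O_C : Sheaf J CommRingCat.{u}} {O_D : Sheaf K CommRingCat.{u}} (f : RMor O_C O_D)

/-- the underlying sheaf of sets of a sheaf of modules -/
abbrev setSh {O : Sheaf J CommRingCat.{u}} (M : Mod O) : Sheaf J (Type u) :=
  (sheafCompose J (forget AddCommGrpCat.{u})).obj (toAb M)

lemma bijective_pushforwardSections (M : Mod O_C) :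
    Function.Bijective (SheafOfModules.pushforwardSections f.sharpR (M := M)) :=
  bijective_sectionsPrecomp (K := K) f.fn (setSh M)

set_option backward.isDefEq.respectTransparency.types false in
instance isIso_pullbackObjUnitToUnit :
    IsIso (SheafOfModules.pullbackObjUnitToUnit.{u} f.sharpR) := by
  rw [isIso_iff_coyoneda_map_bijective]
  intro M
  rw [← ((SheafOfModules.pullbackPushforwardAdjunction.{u} f.sharpR).homEquiv _ _).bijective.of_comp_iff',
    ← (SheafOfModules.unitHomEquiv _).bijective.of_comp_iff']
  convert! (bijective_pushforwardSections f M).comp (SheafOfModules.unitHomEquiv _).bijective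
  ext g : 1
  dsimp
  rw [SheafOfModules.pushforwardSections_unitHomEquiv, EmbeddingLike.apply_eq_iff_eq,
    Adjunction.homEquiv_naturality_right,
    SheafOfModules.pullbackPushforwardAdjunction_homEquiv_pullbackObjUnitToUnit]

/-- `f^* O_D ≅ O_C` -/
def pullUnitIso : f.pull.obj (unit O_D) ≅ unit O_C :=
  asIso (SheafOfModules.pullbackObjUnitToUnit.{u} f.sharpR)


/-- `f^*` of a free module is free -/
def pullFreeIso (I : Type u) :
    f.pull.obj (SheafOfModules.free (R := ringSh O_D) I) ≅ SheafOfModules.free (R := ringSh O_C) I :=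
  (asIso (sigmaComparison f.pull (fun (_ : I) => unit O_D))).symm ≪≫
    Sigma.mapIso (fun _ => pullUnitIso f)

instance pull_additive : f.pull.Additive := f.adj.left_adjoint_additive

end Modules

end

end Groth.Agent.Lib.ModSitePullH4
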