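import Mathlib
import Groth.Prelude.Def_ModSite
import Groth.Prelude.Def_AlgSpPerf
import Groth.Agent.Lib.ModSitePullA_helper4

set_option autoImplicit false
set_option linter.unusedSectionVars false
set_option linter.style.haveILetI false
universe u

open CategoryTheory Limits Opposite

namespace Groth.Agent.Lib.ModSitePullH4

noncomputable section

section Modules

open ModSite

variable {C D : Type u} [SmallCategory C] [SmallCategory D]
  {J : GrothendieckTopology C} {K : GrothendieckTopology D}
  {O_C : Sheaf J CommRingCat.{u}} {O_D : Sheaf K CommRingCat.{u}} (f : RMor O_C O_D)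

theorem finFreeSummand_pull (M : Mod O_D) (hM : DCoh.IsFinFreeSummandMod (ringSh O_D) M) :
    DCoh.IsFinFreeSummandMod (ringSh O_C) (f.pull.obj M) := by
  obtain ⟨n, i, p, hip⟩ := hM
  refine ⟨n, f.pull.map i ≫ (pullFreeIso f _).hom, (pullFreeIso f _).inv ≫ f.pull.map p, ?_⟩
  rw [Category.assoc, Iso.hom_inv_id_assoc, ← Functor.map_comp, hip, CategoryTheory.Functor.map_id]

theorem main9045 (E : CochainComplex (Mod O_D) ℤ)
    (hE : DCoh.IsStrictlyPerfectMod (ringSh O_D) E) :
    DCoh.IsStrictlyPerfectMod (ringSh O_C)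
      ((f.pull.mapHomologicalComplex (ComplexShape.up ℤ)).obj E) := by
  obtain ⟨⟨a, b, hab⟩, hfree⟩ := hE
  refine ⟨⟨a, b, fun i hi => ?_⟩, fun i => ?_⟩
  · exact f.pull.map_isZero (hab i hi)
  · exact finFreeSummand_pull f _ (hfree i)

end Modules

end

end Groth.Agent.Lib.ModSitePullH4
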