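import Mathlib
import Groth.Prelude.Def_ModSite
import Groth.Agent.Lib.ModSite2_helper8

set_option autoImplicit false
set_option linter.unusedSectionVars false
set_option linter.style.haveILetI false
universe u

open CategoryTheory Limits Opposite

namespace Groth.Agent.Lib.ModSitePullH4

open Groth.Agent.Lib.ModSiteH8 (isoOfHomEquiv)

noncomputable section

section SetsProd

variable {C D : Type u} [SmallCategory C] [SmallCategory D]
  (J : GrothendieckTopology C) (K : GrothendieckTopology D)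

/-- sheafification of presheaves of sets, hom-set form -/
def sa (X : Cᵒᵖ ⥤ Type u) (P : Sheaf J (Type u)) :
    ((presheafToSheaf J (Type u)).obj X ⟶ P) ≃ (X ⟶ P.obj) :=
  (sheafificationAdjunction J (Type u)).homEquiv X P

lemma sa_comp_left {X X' : Cᵒᵖ ⥤ Type u} (x : X' ⟶ X) (P : Sheaf J (Type u))
    (g : (presheafToSheaf J (Type u)).obj X ⟶ P) :
    sa J X' P ((presheafToSheaf J (Type u)).map x ≫ g) = x ≫ sa J X P g :=
  Adjunction.homEquiv_naturality_left _ _ _

lemma sa_comp_right (X : Cᵒᵖ ⥤ Type u) {P P' : Sheaf J (Type u)}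
    (g : (presheafToSheaf J (Type u)).obj X ⟶ P) (h : P ⟶ P') :
    sa J X P' (g ≫ h) = sa J X P g ≫ h.hom :=
  Adjunction.homEquiv_naturality_right _ _ _

/-- the sheafified representable sheaf -/
def yS (V : C) : Sheaf J (Type u) := (presheafToSheaf J (Type u)).obj (yoneda.obj V)

/-- the map induced on sheafified representables -/
def ySmap {T V : C} (a : T ⟶ V) : yS J T ⟶ yS J V :=
  (presheafToSheaf J (Type u)).map (yoneda.map a)

/-- maps out of a sheafified representable are sections -/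
def yEquiv (V : C) (P : Sheaf J (Type u)) : (yS J V ⟶ P) ≃ P.obj.obj (op V) :=
  (sa J (yoneda.obj V) P).trans yonedaEquiv

lemma yEquiv_comp (V : C) {P P' : Sheaf J (Type u)} (g : yS J V ⟶ P) (h : P ⟶ P') :
    yEquiv J V P' (g ≫ h) = h.hom.app (op V) (yEquiv J V P g) := by
  show yonedaEquiv (sa J _ P' (g ≫ h)) = _
  rw [sa_comp_right]
  rfl

lemma yEquiv_map {T V : C} (a : T ⟶ V) (P : Sheaf J (Type u)) (g : yS J V ⟶ P) :
    yEquiv J T P (ySmap J a ≫ g) = P.obj.map a.op (yEquiv J V P g) := by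
  show yonedaEquiv (sa J (yoneda.obj T) P ((presheafToSheaf J (Type u)).map (yoneda.map a) ≫ g)) = _
  rw [sa_comp_left]
  exact (yonedaEquiv_naturality (sa J (yoneda.obj V) P g) a).symm


variable {J K} (fn : D ⥤ C) [fn.IsContinuous K J]

/-- `f⁻¹` on sheaves of sets -/
abbrev pbS : Sheaf K (Type u) ⥤ Sheaf J (Type u) := fn.sheafPullback (Type u) K J

/-- `f_*` on sheaves of sets -/
abbrev pfS : Sheaf J (Type u) ⥤ Sheaf K (Type u) := fn.sheafPushforwardContinuous (Type u) K J

/-- the adjunction -/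
abbrev adjS : pbS (J := J) (K := K) fn ⊣ pfS fn := fn.sheafAdjunctionContinuous (Type u) K J

/-- maps out of the pullback of a sheafified representable -/
def kap (V : D) (Q : Sheaf J (Type u)) :
    ((pbS (J := J) (K := K) fn).obj (yS K V) ⟶ Q) ≃ Q.obj.obj (op (fn.obj V)) :=
  ((adjS fn).homEquiv _ _).trans (yEquiv K V ((pfS fn).obj Q))

lemma kap_comp (V : D) {Q Q' : Sheaf J (Type u)}
    (g : (pbS (J := J) (K := K) fn).obj (yS K V) ⟶ Q) (h : Q ⟶ Q') :
    kap fn V Q' (g ≫ h) = h.hom.app (op (fn.obj V)) (kap fn V Q g) := by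
  show yEquiv K V _ ((adjS fn).homEquiv _ _ (g ≫ h)) = _
  rw [Adjunction.homEquiv_naturality_right, yEquiv_comp]
  rfl

lemma kap_map {T V : D} (a : T ⟶ V) (Q : Sheaf J (Type u))
    (g : (pbS (J := J) (K := K) fn).obj (yS K V) ⟶ Q) :
    kap fn T Q ((pbS fn).map (ySmap K a) ≫ g) = Q.obj.map (fn.map a).op (kap fn V Q g) := by
  show yEquiv K T _ ((adjS fn).homEquiv _ _ (_ ≫ g)) = _
  rw [Adjunction.homEquiv_naturality_left, yEquiv_map]
  rfl

/-- `f⁻¹ (h_V^#) ≅ h_{fn V}^#` -/
def phiS (V : D) : (pbS (J := J) (K := K) fn).obj (yS K V) ≅ yS J (fn.obj V) :=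
  isoOfHomEquiv (fun Q => (kap fn V Q).trans (yEquiv J (fn.obj V) Q).symm) (by
    intro Q Q' h g
    apply (yEquiv J (fn.obj V) Q').injective
    show yEquiv J _ Q' ((yEquiv J _ Q').symm (kap fn V Q' (h ≫ g))) =
      yEquiv J _ Q' ((yEquiv J _ Q).symm (kap fn V Q h) ≫ g)
    rw [Equiv.apply_symm_apply, yEquiv_comp, Equiv.apply_symm_apply, kap_comp])

lemma kap_phiS (V : D) (Q : Sheaf J (Type u)) (g : yS J (fn.obj V) ⟶ Q) :
    kap fn V Q ((phiS (K := K) fn V).hom ≫ g) = yEquiv J (fn.obj V) Q g := by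
  have h1 : ((kap fn V (yS J (fn.obj V))).trans (yEquiv J (fn.obj V) _).symm)
      (phiS (K := K) fn V).hom = 𝟙 _ :=
    Equiv.apply_symm_apply ((kap fn V (yS J (fn.obj V))).trans (yEquiv J (fn.obj V) _).symm) (𝟙 _)
  have h2 : kap fn V _ (phiS (K := K) fn V).hom = yEquiv J (fn.obj V) _ (𝟙 _) := by
    have := congrArg (yEquiv J (fn.obj V) _) h1
    rwa [Equiv.trans_apply, Equiv.apply_symm_apply] at this
  rw [kap_comp, h2, ← yEquiv_comp, Category.id_comp]

lemma phiS_natural {T V : D} (a : T ⟶ V) :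
    (pbS fn).map (ySmap K a) ≫ (phiS (K := K) fn V).hom =
      (phiS (J := J) (K := K) fn T).hom ≫ ySmap J (fn.map a) := by
  apply (kap fn T _).injective
  rw [kap_map, kap_phiS]
  have := kap_phiS (K := K) fn V _ (𝟙 (yS J (fn.obj V)))
  rw [Category.comp_id] at this
  rw [this, ← yEquiv_map, Category.comp_id]


/-! ### products of representables -/

/-- the presheaf product of two representables -/
abbrev Pr (V V' : C) : Cᵒᵖ ⥤ Type u := FunctorToTypes.prod (yoneda.obj V) (yoneda.obj V')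

/-- the canonical map from a representable to the product -/
abbrev prLift {T V V' : C} (a : T ⟶ V) (b : T ⟶ V') : yoneda.obj T ⟶ Pr V V' :=
  FunctorToTypes.prod.lift (yoneda.map a) (yoneda.map b)

lemma yonedaEquiv_prLift_comp {T V V' : C} (a : T ⟶ V) (b : T ⟶ V') {X : Cᵒᵖ ⥤ Type u}
    (δ : Pr V V' ⟶ X) : yonedaEquiv (prLift a b ≫ δ) = δ.app (op T) (a, b) := by
  show δ.app (op T) ((prLift a b).app (op T) (𝟙 T)) = _
  congr 1
  show ((𝟙 T ≫ a, 𝟙 T ≫ b) : (T ⟶ V) × (T ⟶ V')) = (a, b)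
  rw [Category.id_comp, Category.id_comp]

variable (J) in
/-- the sheafified product -/
def PrS (V V' : C) : Sheaf J (Type u) := (presheafToSheaf J (Type u)).obj (Pr V V')

variable (J) in
/-- first projection -/
def fstS (V V' : C) : PrS J V V' ⟶ yS J V :=
  (presheafToSheaf J (Type u)).map FunctorToTypes.prod.fst

variable (J) in
/-- second projection -/
def sndS (V V' : C) : PrS J V V' ⟶ yS J V' :=
  (presheafToSheaf J (Type u)).map FunctorToTypes.prod.snd

variable (J) in
/-- the sheafified product is a product -/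
def isLimitPrS (V V' : C) : IsLimit (BinaryFan.mk (fstS J V V') (sndS J V V')) :=
  mapIsLimitOfPreservesOfIsLimit (presheafToSheaf J (Type u)) _ _
    (FunctorToTypes.binaryProductLimit (yoneda.obj V) (yoneda.obj V'))

variable (J) in
/-- the sheafified lift -/
def liftS {T V V' : C} (a : T ⟶ V) (b : T ⟶ V') : yS J T ⟶ PrS J V V' :=
  (presheafToSheaf J (Type u)).map (prLift a b)

lemma liftS_fst {T V V' : C} (a : T ⟶ V) (b : T ⟶ V') :
    liftS J a b ≫ fstS J V V' = ySmap J a := by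
  show (presheafToSheaf J (Type u)).map _ ≫ (presheafToSheaf J (Type u)).map _ = _
  rw [← Functor.map_comp]
  rfl

lemma liftS_snd {T V V' : C} (a : T ⟶ V) (b : T ⟶ V') :
    liftS J a b ≫ sndS J V V' = ySmap J b := by
  show (presheafToSheaf J (Type u)).map _ ≫ (presheafToSheaf J (Type u)).map _ = _
  rw [← Functor.map_comp]
  rfl

variable [PreservesFiniteLimits (pbS (J := J) (K := K) fn)]

/-- the pullback of the sheafified product is a product of the sheafified representables -/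
def isLimitPb (V V' : D) : IsLimit (BinaryFan.mk
    ((pbS fn).map (fstS K V V') ≫ (phiS (J := J) fn V).hom)
    ((pbS fn).map (sndS K V V') ≫ (phiS (J := J) fn V').hom)) :=
  BinaryFan.isLimitCompRightIso
    (BinaryFan.mk ((pbS fn).map (fstS K V V') ≫ (phiS (J := J) fn V).hom)
      ((pbS fn).map (sndS K V V'))) (phiS (J := J) fn V').hom
    (BinaryFan.isLimitCompLeftIso
      (BinaryFan.mk ((pbS fn).map (fstS K V V')) ((pbS fn).map (sndS K V V')))
      (phiS (J := J) fn V).hom
      (mapIsLimitOfPreservesOfIsLimit (pbS fn) _ _ (isLimitPrS K V V')))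

/-- `f⁻¹ ((h_V × h_V')^#) ≅ (h_{fn V} × h_{fn V'})^#` -/
def psiS (V V' : D) :
    (pbS (J := J) (K := K) fn).obj (PrS K V V') ≅ PrS J (fn.obj V) (fn.obj V') :=
  IsLimit.conePointUniqueUpToIso (isLimitPb fn V V') (isLimitPrS J (fn.obj V) (fn.obj V'))

lemma psiS_fst (V V' : D) :
    (psiS (J := J) (K := K) fn V V').hom ≫ fstS J (fn.obj V) (fn.obj V') =
      (pbS fn).map (fstS K V V') ≫ (phiS (J := J) fn V).hom :=
  IsLimit.conePointUniqueUpToIso_hom_comp (isLimitPb fn V V')
    (isLimitPrS J (fn.obj V) (fn.obj V')) ⟨WalkingPair.left⟩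

lemma psiS_snd (V V' : D) :
    (psiS (J := J) (K := K) fn V V').hom ≫ sndS J (fn.obj V) (fn.obj V') =
      (pbS fn).map (sndS K V V') ≫ (phiS (J := J) fn V').hom :=
  IsLimit.conePointUniqueUpToIso_hom_comp (isLimitPb fn V V')
    (isLimitPrS J (fn.obj V) (fn.obj V')) ⟨WalkingPair.right⟩

lemma pb_liftS_psiS {T V V' : D} (a : T ⟶ V) (b : T ⟶ V') :
    (pbS fn).map (liftS K a b) ≫ (psiS (J := J) (K := K) fn V V').hom =
      (phiS (J := J) fn T).hom ≫ liftS J (fn.map a) (fn.map b) := by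
  apply BinaryFan.IsLimit.hom_ext (isLimitPrS J (fn.obj V) (fn.obj V'))
  · show (_ ≫ _) ≫ fstS J _ _ = (_ ≫ _) ≫ fstS J _ _
    rw [Category.assoc, psiS_fst, Category.assoc, liftS_fst, ← Category.assoc,
      ← Functor.map_comp, liftS_fst, phiS_natural]
  · show (_ ≫ _) ≫ sndS J _ _ = (_ ≫ _) ≫ sndS J _ _
    rw [Category.assoc, psiS_snd, Category.assoc, liftS_snd, ← Category.assoc,
      ← Functor.map_comp, liftS_snd, phiS_natural]

/-- the key bijection: compatible families on `C` indexed by `(fn V, fn V')` against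
compatible families on `D` indexed by `(V, V')` -/
def Rfam (V V' : D) (P : Sheaf J (Type u)) :
    (Pr (fn.obj V) (fn.obj V') ⟶ P.obj) ≃ (Pr V V' ⟶ ((pfS (K := K) fn).obj P).obj) :=
  (sa J _ P).symm.trans
    (((psiS (J := J) (K := K) fn V V').homFromEquiv (Z := P)).symm.trans
      (((adjS fn).homEquiv _ _).trans (sa K _ _)))

lemma Rfam_apply (V V' : D) (P : Sheaf J (Type u)) (γ : Pr (fn.obj V) (fn.obj V') ⟶ P.obj)
    {T : D} (a : T ⟶ V) (b : T ⟶ V') :
    (Rfam (K := K) fn V V' P γ).app (op T) (a, b) =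
      γ.app (op (fn.obj T)) (fn.map a, fn.map b) := by
  rw [← yonedaEquiv_prLift_comp, ← yonedaEquiv_prLift_comp]
  have h1 : Rfam (K := K) fn V V' P γ = sa K _ _ ((adjS fn).homEquiv _ _
      ((psiS (J := J) (K := K) fn V V').hom ≫ (sa J _ P).symm γ)) := rfl
  rw [h1, ← sa_comp_left, ← Adjunction.homEquiv_naturality_left]
  show kap fn T P ((pbS fn).map (liftS K a b) ≫ (psiS (J := J) (K := K) fn V V').hom ≫
    (sa J _ P).symm γ) = _
  rw [← Category.assoc, pb_liftS_psiS, Category.assoc, kap_phiS]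
  show yonedaEquiv (sa J _ P ((presheafToSheaf J (Type u)).map (prLift (fn.map a) (fn.map b)) ≫
    (sa J _ P).symm γ)) = _
  rw [sa_comp_left, Equiv.apply_symm_apply]

end SetsProd

end

end Groth.Agent.Lib.ModSitePullH4
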