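import Mathlib
import Groth.Prelude.Def_ModSite
import Groth.Agent.Lib.ModSite9_helper8
import Groth.Agent.Lib.ModSitePullC_helper4

set_option autoImplicit false
set_option linter.unusedSectionVars false
set_option linter.style.haveILetI false
universe u

open CategoryTheory Limits Opposite MonoidalCategory ModSite TensorProduct
open Groth.Agent.Lib.ModSiteH8

namespace Groth.Agent.Lib.ModSitePullH4

noncomputable section

section PushBil

variable {C D : Type u} [SmallCategory C] [SmallCategory D]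
  {J : GrothendieckTopology C} {K : GrothendieckTopology D}
  {O_C : Sheaf J CommRingCat.{u}} {O_D : Sheaf K CommRingCat.{u}} (f : RMor O_C O_D)

/-- presheaf-level pushforward -/
def fp : PM O_C.obj ⥤ PM O_D.obj := PresheafOfModules.pushforward f.sharpR.hom

variable {A' B' Q' : PM O_C.obj}

/-- the scalar action on the pushforward -/
lemma fp_smul (A' : PM O_C.obj) (V : Dᵒᵖ) (r : (O_D.obj ⋙ forget₂ CommRingCat.{u} RingCat.{u}).obj V)
    (a : ((fp f).obj A').obj V) :
    r • a = (show A'.obj (f.fn.op.obj V) from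
      (show (O_C.obj ⋙ forget₂ CommRingCat.{u} RingCat.{u}).obj (f.fn.op.obj V) from
        (f.sharpR.hom.app V).hom r) • (show A'.obj (f.fn.op.obj V) from a)) := rfl


/-- elements of the pushforward are elements of the original module -/
abbrev dn {A' : PM O_C.obj} {V : Dᵒᵖ} (a : ((fp f).obj A').obj V) : A'.obj (f.fn.op.obj V) := a

/-- the tensor of two elements over the ring upstairs -/
abbrev tm {A' B' : PM O_C.obj} (X : Cᵒᵖ) (a : A'.obj X) (b : B'.obj X) : (A' ⊗ B').obj X :=
  a ⊗ₜ[(O_C.obj ⋙ forget₂ CommRingCat.{u} RingCat.{u}).obj X] b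

lemma tm_add_left {A' B' : PM O_C.obj} (X : Cᵒᵖ) (a a' : A'.obj X) (b : B'.obj X) :
    tm X (a + a') b = tm X a b + tm X a' b := TensorProduct.add_tmul _ _ _

lemma tm_add_right {A' B' : PM O_C.obj} (X : Cᵒᵖ) (a : A'.obj X) (b b' : B'.obj X) :
    tm X a (b + b') = tm X a b + tm X a b' := TensorProduct.tmul_add _ _ _

lemma tm_smul_left {A' B' : PM O_C.obj} (X : Cᵒᵖ)
    (s : (O_C.obj ⋙ forget₂ CommRingCat.{u} RingCat.{u}).obj X) (a : A'.obj X) (b : B'.obj X) :
    tm X (s • a) b = s • tm X a b := (TensorProduct.smul_tmul' _ _ _).symm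

lemma tm_smul_right {A' B' : PM O_C.obj} (X : Cᵒᵖ)
    (s : (O_C.obj ⋙ forget₂ CommRingCat.{u} RingCat.{u}).obj X) (a : A'.obj X) (b : B'.obj X) :
    tm X a (s • b) = s • tm X a b := TensorProduct.tmul_smul _ _ _

/-- the structure map on sections -/
abbrev sh (V : Dᵒᵖ) (r : (O_D.obj ⋙ forget₂ CommRingCat.{u} RingCat.{u}).obj V) :
    (O_C.obj ⋙ forget₂ CommRingCat.{u} RingCat.{u}).obj (f.fn.op.obj V) :=
  (f.sharpR.hom.app V).hom r

def pushBilApp (β : A' ⊗ B' ⟶ Q') (V : Dᵒᵖ) :
    ((fp f).obj A').obj V ⊗ ((fp f).obj B').obj V ⟶ ((fp f).obj Q').obj V :=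
  ModuleCat.MonoidalCategory.tensorLift
    (fun a b => β.app (f.fn.op.obj V) (tm (f.fn.op.obj V) (dn f a) (dn f b)))
    (by
      intro a a' b
      show β.app _ (tm _ (dn f a + dn f a') (dn f b)) = _
      rw [tm_add_left, map_add]
      rfl)
    (by
      intro r a b
      show β.app _ (tm _ (sh f V r • dn f a) (dn f b)) =
        dn f (r • (show ((fp f).obj Q').obj V from β.app _ (tm _ (dn f a) (dn f b))))
      rw [tm_smul_left, map_smul]
      rfl)
    (by
      intro a b b'
      show β.app _ (tm _ (dn f a) (dn f b + dn f b')) = _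
      rw [tm_add_right, map_add]
      rfl)
    (by
      intro r a b
      show β.app _ (tm _ (dn f a) (sh f V r • dn f b)) =
        dn f (r • (show ((fp f).obj Q').obj V from β.app _ (tm _ (dn f a) (dn f b))))
      rw [tm_smul_right, map_smul]
      rfl)

lemma pushBilApp_tmul (β : A' ⊗ B' ⟶ Q') (V : Dᵒᵖ) (a : ((fp f).obj A').obj V)
    (b : ((fp f).obj B').obj V) :
    pushBilApp f β V (a ⊗ₜ b) = β.app (f.fn.op.obj V) (tm (f.fn.op.obj V) (dn f a) (dn f b)) := rfl


def pushBil (β : A' ⊗ B' ⟶ Q') : (fp f).obj A' ⊗ (fp f).obj B' ⟶ (fp f).obj Q' where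
  app V := pushBilApp f β V
  naturality {V V'} g := by
    apply ModuleCat.MonoidalCategory.tensor_ext
    intro a b
    show β.app (f.fn.op.obj V') (tm _ (A'.map (f.fn.op.map g) (dn f a))
        (B'.map (f.fn.op.map g) (dn f b))) =
      Q'.map (f.fn.op.map g) (β.app (f.fn.op.obj V) (tm _ (dn f a) (dn f b)))
    rw [← PresheafOfModules.naturality_apply]
    rfl


lemma pushBil_app_tmul (β : A' ⊗ B' ⟶ Q') (V : Dᵒᵖ) (a : ((fp f).obj A').obj V)
    (b : ((fp f).obj B').obj V) :
    (pushBil f β).app V (a ⊗ₜ b) =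
      β.app (f.fn.op.obj V) (tm (f.fn.op.obj V) (dn f a) (dn f b)) := rfl

lemma pushBil_comp (β : A' ⊗ B' ⟶ Q') {Q'' : PM O_C.obj} (h : Q' ⟶ Q'') :
    pushBil f (β ≫ h) = pushBil f β ≫ (fp f).map h := by
  ext V : 1
  apply ModuleCat.MonoidalCategory.tensor_ext
  intro a b
  rfl

lemma pushBil_tensorHom {A'' B'' : PM O_C.obj} (x : A'' ⟶ A') (y : B'' ⟶ B')
    (β : A' ⊗ B' ⟶ Q') :
    pushBil f ((x ⊗ₘ y) ≫ β) = ((fp f).map x ⊗ₘ (fp f).map y) ≫ pushBil f β := by
  ext V : 1
  apply ModuleCat.MonoidalCategory.tensor_ext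
  intro a b
  rfl


end PushBil

section FreeProd

variable {C : Type u} [SmallCategory C] (R : Cᵒᵖ ⥤ CommRingCat.{u})

/-- the free presheaf of modules on a representable -/
abbrev frY (V : C) : PM R :=
  PresheafOfModules.freeObj (R := R ⋙ forget₂ CommRingCat.{u} RingCat.{u}) (yoneda.obj V)

/-- the free presheaf of modules on a product of representables -/
abbrev frPr (V V' : C) : PM R :=
  PresheafOfModules.freeObj (R := R ⋙ forget₂ CommRingCat.{u} RingCat.{u}) (Pr V V')

/-- `R[h_V × h_V'] ≅ R[h_V] ⊗ R[h_V']` -/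
def frProdIso (V V' : C) : frPr R V V' ≅ frY R V ⊗ frY R V' :=
  PresheafOfModules.isoMk
    (fun T => (ModuleCat.FreeMonoidal.μIso ((R ⋙ forget₂ CommRingCat.{u} RingCat.{u}).obj T)
      ((yoneda.obj V).obj T) ((yoneda.obj V').obj T)).symm)
    (by
      intro T T' g
      apply ModuleCat.free_hom_ext
      rintro ⟨a, b⟩
      have h1 : (frPr R V V').map g (ModuleCat.freeMk (a, b)) =
          ModuleCat.freeMk (R := (R ⋙ forget₂ CommRingCat.{u} RingCat.{u}).obj T')
            (((yoneda.obj V).map g a, (yoneda.obj V').map g b) :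
              (yoneda.obj V).obj T' × (yoneda.obj V').obj T') :=
        ModuleCat.freeDesc_apply _ _
      have h2 : (frY R V).map g (ModuleCat.freeMk a) =
          ModuleCat.freeMk (R := (R ⋙ forget₂ CommRingCat.{u} RingCat.{u}).obj T')
            ((yoneda.obj V).map g a) := ModuleCat.freeDesc_apply _ _
      have h3 : (frY R V').map g (ModuleCat.freeMk b) =
          ModuleCat.freeMk (R := (R ⋙ forget₂ CommRingCat.{u} RingCat.{u}).obj T')
            ((yoneda.obj V').map g b) := ModuleCat.freeDesc_apply _ _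
      show (ModuleCat.FreeMonoidal.μIso _ _ _).inv ((frPr R V V').map g (ModuleCat.freeMk (a, b))) =
        (frY R V ⊗ frY R V').map g
          ((ModuleCat.FreeMonoidal.μIso _ _ _).inv (ModuleCat.freeMk (a, b)))
      rw [h1, ModuleCat.FreeMonoidal.μIso_inv_freeMk, ModuleCat.FreeMonoidal.μIso_inv_freeMk]
      erw [PresheafOfModules.Monoidal.tensorObj_map_tmul]
      rw [h2, h3]
      rfl)


/-- the underlying presheaf of sets -/
abbrev uP (Q' : PM R) : Cᵒᵖ ⥤ Type u := Q'.presheaf ⋙ forget _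

/-- bilinear maps out of free modules on representables are compatible families -/
def c1 (V V' : C) (Q' : PM R) : (frY R V ⊗ frY R V' ⟶ Q') ≃ (Pr V V' ⟶ uP R Q') :=
  ((frProdIso R V V').homFromEquiv (Z := Q')).symm.trans PresheafOfModules.freeHomEquiv

lemma c1_apply (V V' : C) (Q' : PM R) (ψ : frY R V ⊗ frY R V' ⟶ Q') {T : C} (a : T ⟶ V)
    (b : T ⟶ V') :
    (c1 R V V' Q' ψ).app (op T) (a, b) =
      ψ.app (op T) ((ModuleCat.freeMk (R := (R ⋙ forget₂ CommRingCat.{u} RingCat.{u}).obj (op T))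
        (a : (yoneda.obj V).obj (op T))) ⊗ₜ
        (ModuleCat.freeMk (R := (R ⋙ forget₂ CommRingCat.{u} RingCat.{u}).obj (op T))
          (b : (yoneda.obj V').obj (op T)))) := by
  show ψ.app (op T) ((ModuleCat.FreeMonoidal.μIso _ _ _).inv (ModuleCat.freeMk (a, b))) = _
  rw [ModuleCat.FreeMonoidal.μIso_inv_freeMk]
  rfl


end FreeProd

end

end Groth.Agent.Lib.ModSitePullH4
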