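import Mathlib
import Groth.Prelude.Def_ModSite
import Groth.Agent.Lib.ModSite9_helper8
import Groth.Agent.Lib.ModSitePullD_helper4
import Groth.Agent.Lib.ModSitePullA_helper4

set_option autoImplicit false
set_option linter.unusedSectionVars false
set_option linter.style.haveILetI false
universe u

open CategoryTheory Limits Opposite MonoidalCategory ModSite TensorProduct
open Groth.Agent.Lib.ModSiteH8

namespace Groth.Agent.Lib.ModSitePullH4

noncomputable section

section Gen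

variable {C : Type u} [SmallCategory C] {J : GrothendieckTopology C} (O : Sheaf J CommRingCat.{u})

/-- the generators: sheafified free presheaves of modules on representables -/
def GV (V : C) : Mod O := (Lf O).obj (frY O.obj V)

/-- the sheafification unit on the free presheaf of modules -/
def etaG (V : C) : frY O.obj V ⟶ (iF O).obj (GV O V) := (adjLf O).unit.app _

/-- the basic sections of the generators -/
def eG (V : C) {T : C} (a : T ⟶ V) : (GV O V).val.obj (op T) :=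
  (etaG O V).app (op T)
    (ModuleCat.freeMk (R := (O.obj ⋙ forget₂ CommRingCat.{u} RingCat.{u}).obj (op T))
      (a : (yoneda.obj V).obj (op T)))

lemma eG_map (V : C) {T T' : C} (g : T' ⟶ T) (a : T ⟶ V) :
    (GV O V).val.map g.op (eG O V a) = eG O V (g ≫ a) := by
  have h1 := PresheafOfModules.naturality_apply (etaG O V) g.op
    (ModuleCat.freeMk (R := (O.obj ⋙ forget₂ CommRingCat.{u} RingCat.{u}).obj (op T))
      (a : (yoneda.obj V).obj (op T)))
  have h2 : (frY O.obj V).map g.op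
      (ModuleCat.freeMk (R := (O.obj ⋙ forget₂ CommRingCat.{u} RingCat.{u}).obj (op T))
        (a : (yoneda.obj V).obj (op T))) =
      ModuleCat.freeMk (R := (O.obj ⋙ forget₂ CommRingCat.{u} RingCat.{u}).obj (op T'))
        ((g ≫ a : T' ⟶ V) : (yoneda.obj V).obj (op T')) := ModuleCat.freeDesc_apply _ _
  rw [h2] at h1
  exact h1.symm

/-- maps out of a generator are sections -/
def gEquiv (V : C) (M : Mod O) : (GV O V ⟶ M) ≃ sect M V :=
  ((adjLf O).homEquiv _ _).trans PresheafOfModules.freeYonedaEquiv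

lemma gEquiv_apply (V : C) (M : Mod O) (h : GV O V ⟶ M) :
    gEquiv O V M h = h.val.app (op V) (eG O V (𝟙 V)) := by
  show PresheafOfModules.freeYonedaEquiv ((adjLf O).homEquiv _ _ h) = _
  rw [Adjunction.homEquiv_unit, PresheafOfModules.freeYonedaEquiv_comp]
  rfl

lemma gEquiv_comp (V : C) {M N : Mod O} (h : GV O V ⟶ M) (g : M ⟶ N) :
    gEquiv O V N (h ≫ g) = g.val.app (op V) (gEquiv O V M h) := by
  rw [gEquiv_apply, gEquiv_apply]
  rfl


/-- the tensor product of sheaves of modules, object level -/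
abbrev tObj (A B : Mod O) : Mod O := ((tensorBi O).obj A).obj B

/-- the tensor product of two morphisms -/
def tMap {A A' B B' : Mod O} (x : A' ⟶ A) (y : B' ⟶ B) : tObj O A' B' ⟶ tObj O A B :=
  (Lf O).map ((iF O).map x ⊗ₘ (iF O).map y)

lemma tMap_eq {A A' B B' : Mod O} (x : A' ⟶ A) (y : B' ⟶ B) :
    tMap O x y = ((tensorBi O).map x).app B' ≫ ((tensorBi O).obj A).map y := by
  exact (congrArg (Lf O).map (MonoidalCategory.tensorHom_def ((iF O).map x) ((iF O).map y))).trans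
    ((Lf O).map_comp _ _)

lemma tMap_id_right {A A' : Mod O} (x : A' ⟶ A) (B : Mod O) :
    tMap O x (𝟙 B) = ((tensorBi O).flip.obj B).map x := by
  rfl

lemma tMap_id_left (A : Mod O) {B B' : Mod O} (y : B' ⟶ B) :
    tMap O (𝟙 A) y = ((tensorBi O).obj A).map y := by
  rfl

lemma tMap_comp {A A' A'' B B' B'' : Mod O} (x' : A'' ⟶ A') (x : A' ⟶ A) (y' : B'' ⟶ B')
    (y : B' ⟶ B) : tMap O (x' ≫ x) (y' ≫ y) = tMap O x' y' ≫ tMap O x y := by
  have h : (iF O).map (x' ≫ x) ⊗ₘ (iF O).map (y' ≫ y) =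
      ((iF O).map x' ⊗ₘ (iF O).map y') ≫ ((iF O).map x ⊗ₘ (iF O).map y) := by
    rw [MonoidalCategory.tensorHom_comp_tensorHom, Functor.map_comp, Functor.map_comp]
  exact (congrArg (Lf O).map h).trans ((Lf O).map_comp _ _)

lemma tMap_id (A B : Mod O) : tMap O (𝟙 A) (𝟙 B) = 𝟙 (tObj O A B) := by
  have h : (iF O).map (𝟙 A) ⊗ₘ (iF O).map (𝟙 B) = 𝟙 ((iF O).obj A ⊗ (iF O).obj B) := by
    rw [CategoryTheory.Functor.map_id, CategoryTheory.Functor.map_id]
    exact MonoidalCategory.id_tensorHom_id _ _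
  exact (congrArg (Lf O).map h).trans ((Lf O).map_id _)

/-- the tensor product of two isomorphisms -/
def tMapIso {A A' B B' : Mod O} (x : A' ≅ A) (y : B' ≅ B) : tObj O A' B' ≅ tObj O A B where
  hom := tMap O x.hom y.hom
  inv := tMap O x.inv y.inv
  hom_inv_id := by rw [← tMap_comp, Iso.hom_inv_id, Iso.hom_inv_id, tMap_id]
  inv_hom_id := by rw [← tMap_comp, Iso.inv_hom_id, Iso.inv_hom_id, tMap_id]

/-- bilinear form of a map out of a tensor product -/
def bil (A B Q : Mod O) : (tObj O A B ⟶ Q) ≃ ((iF O).obj A ⊗ (iF O).obj B ⟶ (iF O).obj Q) :=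
  (adjLf O).homEquiv _ _

lemma bil_comp {A B Q Q' : Mod O} (β : tObj O A B ⟶ Q) (h : Q ⟶ Q') :
    bil O A B Q' (β ≫ h) = bil O A B Q β ≫ (iF O).map h :=
  Adjunction.homEquiv_naturality_right _ _ _

lemma bil_symm_comp {A B Q Q' : Mod O} (β : (iF O).obj A ⊗ (iF O).obj B ⟶ (iF O).obj Q)
    (h : Q ⟶ Q') :
    (bil O A B Q').symm (β ≫ (iF O).map h) = (bil O A B Q).symm β ≫ h :=
  Adjunction.homEquiv_naturality_right_symm _ _ _

lemma bil_tMap {A A' B B' Q : Mod O} (x : A' ⟶ A) (y : B' ⟶ B) (β : tObj O A B ⟶ Q) :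
    bil O A' B' Q (tMap O x y ≫ β) = ((iF O).map x ⊗ₘ (iF O).map y) ≫ bil O A B Q β :=
  Adjunction.homEquiv_naturality_left _ _ _

lemma bil_symm_tMap {A A' B B' Q : Mod O} (x : A' ⟶ A) (y : B' ⟶ B)
    (β : (iF O).obj A ⊗ (iF O).obj B ⟶ (iF O).obj Q) :
    (bil O A' B' Q).symm (((iF O).map x ⊗ₘ (iF O).map y) ≫ β) = tMap O x y ≫ (bil O A B Q).symm β :=
  Adjunction.homEquiv_naturality_left_symm _ _ _

/-- precomposition with a map which becomes invertible after sheafification -/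
lemma bijective_precomp_of_isIso_Lf {Z Z' : PM O.obj} (w : Z ⟶ Z') [IsIso ((Lf O).map w)]
    (Q : Mod O) : Function.Bijective (fun ψ : Z' ⟶ (iF O).obj Q => w ≫ ψ) := by
  have h : (fun ψ : Z' ⟶ (iF O).obj Q => w ≫ ψ) =
      (adjLf O).homEquiv Z Q ∘ (fun g => (Lf O).map w ≫ g) ∘ ((adjLf O).homEquiv Z' Q).symm := by
    funext ψ
    show _ = (adjLf O).homEquiv Z Q ((Lf O).map w ≫ ((adjLf O).homEquiv Z' Q).symm ψ)
    rw [Adjunction.homEquiv_naturality_left, Equiv.apply_symm_apply]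
  rw [h]
  refine ((adjLf O).homEquiv Z Q).bijective.comp (Function.Bijective.comp ?_
    ((adjLf O).homEquiv Z' Q).symm.bijective)
  exact ((asIso ((Lf O).map w)).homFromEquiv (Z := Q)).symm.bijective

/-- precomposition with the sheafification units -/
def unitsEquiv (V V' : C) (Q : Mod O) :
    ((iF O).obj (GV O V) ⊗ (iF O).obj (GV O V') ⟶ (iF O).obj Q) ≃
      (frY O.obj V ⊗ frY O.obj V' ⟶ (iF O).obj Q) :=
  haveI : IsIso ((Lf O).map (etaG O V ⊗ₘ etaG O V')) :=
    isIso_Lf_tensorHom_units O (frY O.obj V) (frY O.obj V')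
  Equiv.ofBijective (fun ψ => (etaG O V ⊗ₘ etaG O V') ≫ ψ)
    (bijective_precomp_of_isIso_Lf O (etaG O V ⊗ₘ etaG O V') Q)

/-- maps out of the tensor product of two generators are compatible families -/
def kfam (V V' : C) (Q : Mod O) :
    (tObj O (GV O V) (GV O V') ⟶ Q) ≃ (Pr V V' ⟶ uP O.obj ((iF O).obj Q)) :=
  (bil O _ _ Q).trans ((unitsEquiv O V V' Q).trans (c1 O.obj V V' _))

lemma kfam_apply (V V' : C) (Q : Mod O) (β : tObj O (GV O V) (GV O V') ⟶ Q) {T : C}
    (a : T ⟶ V) (b : T ⟶ V') :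
    (kfam O V V' Q β).app (op T) (a, b) =
      (bil O _ _ Q β).app (op T) (eG O V a ⊗ₜ eG O V' b) := by
  show (c1 O.obj V V' _ ((etaG O V ⊗ₘ etaG O V') ≫ bil O _ _ Q β)).app (op T) (a, b) = _
  rw [c1_apply]
  rfl

end Gen


section Pull

variable {C D : Type u} [SmallCategory C] [SmallCategory D]
  {J : GrothendieckTopology C} {K : GrothendieckTopology D}
  {O_C : Sheaf J CommRingCat.{u}} {O_D : Sheaf K CommRingCat.{u}} (f : RMor O_C O_D)

/-- maps out of the pullback of a generator are sections over the image object -/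
def pullGEquiv (V : D) (P : Mod O_C) : (f.pull.obj (GV O_D V) ⟶ P) ≃ sect P (f.fn.obj V) :=
  (f.adj.homEquiv _ _).trans (gEquiv O_D V (f.push.obj P))

lemma pullGEquiv_comp (V : D) {P P' : Mod O_C} (h : f.pull.obj (GV O_D V) ⟶ P) (g : P ⟶ P') :
    pullGEquiv f V P' (h ≫ g) = g.val.app (op (f.fn.obj V)) (pullGEquiv f V P h) := by
  show gEquiv O_D V _ (f.adj.homEquiv _ _ (h ≫ g)) = _
  rw [Adjunction.homEquiv_naturality_right, gEquiv_comp]
  rfl

/-- `f^*` of a generator is a generator -/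
def phiM (V : D) : f.pull.obj (GV O_D V) ≅ GV O_C (f.fn.obj V) :=
  isoOfHomEquiv (fun P => (pullGEquiv f V P).trans (gEquiv O_C (f.fn.obj V) P).symm) (by
    intro P P' h g
    apply (gEquiv O_C (f.fn.obj V) P').injective
    show gEquiv O_C _ P' ((gEquiv O_C _ P').symm (pullGEquiv f V P' (h ≫ g))) =
      gEquiv O_C _ P' ((gEquiv O_C _ P).symm (pullGEquiv f V P h) ≫ g)
    rw [Equiv.apply_symm_apply, gEquiv_comp, Equiv.apply_symm_apply, pullGEquiv_comp])

lemma pullGEquiv_phiM (V : D) :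
    pullGEquiv f V _ (phiM f V).hom = eG O_C (f.fn.obj V) (𝟙 _) := by
  have h1 : ((pullGEquiv f V (GV O_C (f.fn.obj V))).trans (gEquiv O_C (f.fn.obj V) _).symm)
      (phiM f V).hom = 𝟙 _ :=
    Equiv.apply_symm_apply
      ((pullGEquiv f V (GV O_C (f.fn.obj V))).trans (gEquiv O_C (f.fn.obj V) _).symm) (𝟙 _)
  have := congrArg (gEquiv O_C (f.fn.obj V) _) h1
  rw [Equiv.trans_apply, Equiv.apply_symm_apply, gEquiv_apply] at this
  exact this

/-- the unit of `f^* ⊣ f_*` on sections -/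
abbrev etaF (M : Mod O_D) {T : D} (m : sect M T) : sect (f.pull.obj M) (f.fn.obj T) :=
  (f.adj.unit.app M).val.app (op T) m

lemma phiM_etaF_eG (V : D) {T : D} (a : T ⟶ V) :
    (phiM f V).hom.val.app (op (f.fn.obj T)) (etaF f (GV O_D V) (eG O_D V a)) =
      eG O_C (f.fn.obj V) (f.fn.map a) := by
  have h0 : pullGEquiv f V _ (phiM f V).hom =
      (phiM f V).hom.val.app (op (f.fn.obj V)) (etaF f (GV O_D V) (eG O_D V (𝟙 V))) := by
    show gEquiv O_D V _ (f.adj.homEquiv _ _ (phiM f V).hom) = _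
    rw [gEquiv_apply, Adjunction.homEquiv_unit]
    rfl
  rw [pullGEquiv_phiM] at h0
  have h1 : eG O_D V a = (GV O_D V).val.map a.op (eG O_D V (𝟙 V)) := by
    rw [eG_map, Category.comp_id]
  have h2 : eG O_C (f.fn.obj V) (f.fn.map a) =
      (GV O_C (f.fn.obj V)).val.map (f.fn.map a).op (eG O_C (f.fn.obj V) (𝟙 _)) := by
    rw [eG_map, Category.comp_id]
  rw [h1, h2, h0]
  have n1 := PresheafOfModules.naturality_apply (f.adj.unit.app (GV O_D V)).val a.op
    (eG O_D V (𝟙 V))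
  have n2 := PresheafOfModules.naturality_apply (phiM f V).hom.val (f.fn.map a).op
    (etaF f (GV O_D V) (eG O_D V (𝟙 V)))
  rw [← n2]
  congr 1


/-- `pushBil` typed on sheaves of modules -/
def pushBilM {A B Q : Mod O_C} (β : (iF O_C).obj A ⊗ (iF O_C).obj B ⟶ (iF O_C).obj Q) :
    (iF O_D).obj (f.push.obj A) ⊗ (iF O_D).obj (f.push.obj B) ⟶ (iF O_D).obj (f.push.obj Q) :=
  pushBil f β

lemma pushBilM_comp {A B Q Q' : Mod O_C}
    (β : (iF O_C).obj A ⊗ (iF O_C).obj B ⟶ (iF O_C).obj Q) (h : Q ⟶ Q') :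
    pushBilM f (β ≫ (iF O_C).map h) = pushBilM f β ≫ (iF O_D).map (f.push.map h) :=
  pushBil_comp f β ((iF O_C).map h)

lemma pushBilM_tensorHom {A A' B B' Q : Mod O_C} (x : A' ⟶ A) (y : B' ⟶ B)
    (β : (iF O_C).obj A ⊗ (iF O_C).obj B ⟶ (iF O_C).obj Q) :
    pushBilM f (((iF O_C).map x ⊗ₘ (iF O_C).map y) ≫ β) =
      ((iF O_D).map (f.push.map x) ⊗ₘ (iF O_D).map (f.push.map y)) ≫ pushBilM f β :=
  pushBil_tensorHom f ((iF O_C).map x) ((iF O_C).map y) β

lemma pushBilM_app {A B Q : Mod O_C}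
    (β : (iF O_C).obj A ⊗ (iF O_C).obj B ⟶ (iF O_C).obj Q) {T : D}
    (a : sect (f.push.obj A) T) (b : sect (f.push.obj B) T) :
    (pushBilM f β).app (op T) (a ⊗ₜ b) =
      β.app (op (f.fn.obj T)) ((show sect A (f.fn.obj T) from a) ⊗ₜ
        (show sect B (f.fn.obj T) from b)) := rfl

/-- the comparison of bilinear maps: a map `f^*M ⊗ f^*N ⟶ P` gives a map `M ⊗ N ⟶ f_* P` -/
def rho (M N : Mod O_D) (P : Mod O_C)
    (β : tObj O_C (f.pull.obj M) (f.pull.obj N) ⟶ P) : tObj O_D M N ⟶ f.push.obj P :=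
  (bil O_D M N (f.push.obj P)).symm
    (((iF O_D).map (f.adj.unit.app M) ⊗ₘ (iF O_D).map (f.adj.unit.app N)) ≫
      pushBilM f (bil O_C _ _ P β))

lemma bil_rho (M N : Mod O_D) (P : Mod O_C)
    (β : tObj O_C (f.pull.obj M) (f.pull.obj N) ⟶ P) :
    bil O_D M N (f.push.obj P) (rho f M N P β) =
      ((iF O_D).map (f.adj.unit.app M) ⊗ₘ (iF O_D).map (f.adj.unit.app N)) ≫
        pushBilM f (bil O_C _ _ P β) :=
  Equiv.apply_symm_apply _ _

lemma bil_rho_app (M N : Mod O_D) (P : Mod O_C)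
    (β : tObj O_C (f.pull.obj M) (f.pull.obj N) ⟶ P) {T : D} (m : sect M T) (n : sect N T) :
    (bil O_D M N (f.push.obj P) (rho f M N P β)).app (op T) (m ⊗ₜ n) =
      (bil O_C _ _ P β).app (op (f.fn.obj T)) (etaF f M m ⊗ₜ etaF f N n) := by
  rw [bil_rho]
  rfl

lemma rho_comp (M N : Mod O_D) {P P' : Mod O_C}
    (β : tObj O_C (f.pull.obj M) (f.pull.obj N) ⟶ P) (h : P ⟶ P') :
    rho f M N P' (β ≫ h) = rho f M N P β ≫ f.push.map h := by
  apply (bil O_D M N (f.push.obj P')).injective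
  rw [bil_rho, bil_comp, bil_comp, bil_rho, pushBilM_comp, Category.assoc]

lemma rho_tMap {M M' N N' : Mod O_D} (x : M' ⟶ M) (y : N' ⟶ N) (P : Mod O_C)
    (β : tObj O_C (f.pull.obj M) (f.pull.obj N) ⟶ P) :
    rho f M' N' P (tMap O_C (f.pull.map x) (f.pull.map y) ≫ β) =
      tMap O_D x y ≫ rho f M N P β := by
  apply (bil O_D M' N' (f.push.obj P)).injective
  rw [bil_rho, bil_tMap, bil_tMap, bil_rho, pushBilM_tensorHom, ← Category.assoc,
    ← Category.assoc]
  congr 1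
  have hx : (iF O_D).map (f.adj.unit.app M') ≫ (iF O_D).map (f.push.map (f.pull.map x)) =
      (iF O_D).map x ≫ (iF O_D).map (f.adj.unit.app M) := by
    rw [← Functor.map_comp, ← Functor.map_comp]
    exact congrArg (iF O_D).map (f.adj.unit.naturality x).symm
  have hy : (iF O_D).map (f.adj.unit.app N') ≫ (iF O_D).map (f.push.map (f.pull.map y)) =
      (iF O_D).map y ≫ (iF O_D).map (f.adj.unit.app N) := by
    rw [← Functor.map_comp, ← Functor.map_comp]
    exact congrArg (iF O_D).map (f.adj.unit.naturality y).symm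
  rw [MonoidalCategory.tensorHom_comp_tensorHom, MonoidalCategory.tensorHom_comp_tensorHom, hx, hy]


variable [PreservesFiniteLimits (pbS (J := J) (K := K) f.fn)]

lemma kfam_rho_gen (V V' : D) (P : Mod O_C)
    (β : tObj O_C (GV O_C (f.fn.obj V)) (GV O_C (f.fn.obj V')) ⟶ P) :
    kfam O_D V V' (f.push.obj P)
        (rho f (GV O_D V) (GV O_D V') P (tMap O_C (phiM f V).hom (phiM f V').hom ≫ β)) =
      Rfam (K := K) f.fn V V' (setSh P) (kfam O_C (f.fn.obj V) (f.fn.obj V') P β) := by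
  apply NatTrans.ext
  funext T
  apply TypeCat.homEquiv.injective
  funext ab
  obtain ⟨a, b⟩ := ab
  have h1 := kfam_apply O_D V V' (f.push.obj P)
    (rho f (GV O_D V) (GV O_D V') P (tMap O_C (phiM f V).hom (phiM f V').hom ≫ β)) a b
  have h2 := Rfam_apply (K := K) f.fn V V' (setSh P)
    (kfam O_C (f.fn.obj V) (f.fn.obj V') P β) a b
  have h3 := kfam_apply O_C (f.fn.obj V) (f.fn.obj V') P β (f.fn.map a) (f.fn.map b)
  refine h1.trans (Eq.trans ?_ (h2.trans h3).symm)
  rw [bil_rho_app, bil_tMap]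
  show (bil O_C _ _ P β).app (op (f.fn.obj (unop T)))
    ((phiM f V).hom.val.app _ (etaF f (GV O_D V) (eG O_D V a)) ⊗ₜ
      (phiM f V').hom.val.app _ (etaF f (GV O_D V') (eG O_D V' b))) = _
  rw [phiM_etaF_eG, phiM_etaF_eG]

theorem rho_bijective_gen (V V' : D) (P : Mod O_C) :
    Function.Bijective (rho f (GV O_D V) (GV O_D V') P) := by
  let ι : (tObj O_C (GV O_C (f.fn.obj V)) (GV O_C (f.fn.obj V')) ⟶ P) ≃
      (tObj O_C (f.pull.obj (GV O_D V)) (f.pull.obj (GV O_D V')) ⟶ P) :=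
    ((tMapIso O_C (phiM f V) (phiM f V')).homFromEquiv (Z := P)).symm
  have h : rho f (GV O_D V) (GV O_D V') P =
      (kfam O_D V V' (f.push.obj P)).symm ∘
        (Rfam (K := K) f.fn V V' (setSh P)) ∘ (kfam O_C (f.fn.obj V) (f.fn.obj V') P) ∘ ι.symm := by
    funext β
    obtain ⟨β', rfl⟩ := ι.surjective β
    show _ = (kfam O_D V V' (f.push.obj P)).symm (Rfam (K := K) f.fn V V' (setSh P)
      (kfam O_C (f.fn.obj V) (f.fn.obj V') P (ι.symm (ι β'))))
    rw [Equiv.symm_apply_apply, ← kfam_rho_gen, Equiv.symm_apply_apply]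
    rfl
  rw [h]
  exact (kfam O_D V V' (f.push.obj P)).symm.bijective.comp
    ((Rfam (K := K) f.fn V V' (setSh P)).bijective.comp
      ((kfam O_C (f.fn.obj V) (f.fn.obj V') P).bijective.comp ι.symm.bijective))

end Pull

end

end Groth.Agent.Lib.ModSitePullH4
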