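import Mathlib
import Groth.Prelude.Def_ModSite
import Groth.Agent.Lib.ModSite9_helper8
import Groth.Agent.Lib.ModSitePullE_helper4

set_option autoImplicit false
set_option linter.unusedSectionVars false
set_option linter.style.haveILetI false
universe u

open CategoryTheory Limits Opposite MonoidalCategory ModSite TensorProduct
open Groth.Agent.Lib.ModSiteH8

namespace Groth.Agent.Lib.ModSitePullH4

noncomputable section

section Detect

universe v₁ v₂ v₃ u₁ u₂ u₃

variable {𝒜 : Type u₁} [Category.{v₁} 𝒜] {ℬ : Type u₂} [Category.{v₂} ℬ]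
  {ℬ' : Type u₃} [Category.{v₃} ℬ']

/-- abstract reduction of the bijectivity of a natural comparison of hom-sets to a detecting
family -/
theorem bijective_of_detecting
    {Φ : 𝒜 ⥤ ℬ} {Φ' : ℬ ⥤ 𝒜} (aΦ : Φ ⊣ Φ') {Ψ : 𝒜 ⥤ ℬ'} {Ψ' : ℬ' ⥤ 𝒜} (aΨ : Ψ ⊣ Ψ')
    (𝒢 : ObjectProperty 𝒜) (h𝒢 : 𝒢.IsDetecting) (P : ℬ) (P' : ℬ')
    (ρ : ∀ M : 𝒜, (Φ.obj M ⟶ P) → (Ψ.obj M ⟶ P'))
    (hρ : ∀ {M M' : 𝒜} (g : M' ⟶ M) (β : Φ.obj M ⟶ P), ρ M' (Φ.map g ≫ β) = Ψ.map g ≫ ρ M β)
    (hG : ∀ G, 𝒢 G → Function.Bijective (ρ G)) :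
    (∀ M, Function.Bijective (ρ M)) ∧ Nonempty (Φ'.obj P ≅ Ψ'.obj P') := by
  let τ : ∀ M : 𝒜, (M ⟶ Φ'.obj P) → (M ⟶ Ψ'.obj P') :=
    fun M x => aΨ.homEquiv _ _ (ρ M ((aΦ.homEquiv _ _).symm x))
  have hτ : ∀ {M M' : 𝒜} (g : M' ⟶ M) (x : M ⟶ Φ'.obj P), τ M' (g ≫ x) = g ≫ τ M x := by
    intro M M' g x
    show aΨ.homEquiv _ _ (ρ M' ((aΦ.homEquiv _ _).symm (g ≫ x))) =
      g ≫ aΨ.homEquiv _ _ (ρ M ((aΦ.homEquiv _ _).symm x))
    rw [Adjunction.homEquiv_naturality_left_symm, hρ, Adjunction.homEquiv_naturality_left]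
  let θ : Φ'.obj P ⟶ Ψ'.obj P' := τ _ (𝟙 _)
  have hθ : ∀ {M : 𝒜} (x : M ⟶ Φ'.obj P), τ M x = x ≫ θ := by
    intro M x
    have := hτ x (𝟙 _)
    rwa [Category.comp_id] at this
  have hτρ : ∀ M, Function.Bijective (τ M) ↔ Function.Bijective (ρ M) := by
    intro M
    have : τ M = (aΨ.homEquiv _ _) ∘ ρ M ∘ (aΦ.homEquiv _ _).symm := rfl
    rw [this]
    constructor
    · intro h
      have h1 := (aΨ.homEquiv M P').symm.bijective.comp (h.comp (aΦ.homEquiv M P).bijective)
      have h2 : (aΨ.homEquiv M P').symm ∘ ((aΨ.homEquiv _ _) ∘ ρ M ∘ (aΦ.homEquiv _ _).symm) ∘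
          (aΦ.homEquiv M P) = ρ M := by
        funext β
        simp
      rwa [h2] at h1
    · intro h
      exact (aΨ.homEquiv M P').bijective.comp (h.comp (aΦ.homEquiv M P).symm.bijective)
  have hiso : IsIso θ := by
    apply h𝒢
    intro G hGG h
    have hb := (hτρ G).2 (hG G hGG)
    obtain ⟨h', hh'⟩ := hb.2 h
    refine ⟨h', ?_, ?_⟩
    · show h' ≫ θ = h
      rw [← hθ, hh']
    · intro y hy
      apply hb.1
      rw [hθ, hθ, hy, ← hθ, hh']
  refine ⟨fun M => (hτρ M).1 ?_, ⟨asIso θ⟩⟩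
  have : τ M = fun x => x ≫ θ := funext fun x => hθ x
  rw [this]
  exact ((asIso θ).homToEquiv (Z := M)).bijective

end Detect


section Main

variable {C D : Type u} [SmallCategory C] [SmallCategory D]
  {J : GrothendieckTopology C} {K : GrothendieckTopology D}
  {O_C : Sheaf J CommRingCat.{u}} {O_D : Sheaf K CommRingCat.{u}} (f : RMor O_C O_D)

/-- the generators form a separating family -/
theorem GV_isSeparating (O : Sheaf J CommRingCat.{u}) :
    (ObjectProperty.ofObj fun V : C => GV O V).IsSeparating := by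
  intro M N a b hab
  apply SheafOfModules.hom_ext
  ext V m
  have h := hab (GV O V.unop) (ObjectProperty.ofObj_apply _ V.unop)
    ((gEquiv O V.unop M).symm m)
  have h2 := congrArg (gEquiv O V.unop N) h
  rw [gEquiv_comp, gEquiv_comp, Equiv.apply_symm_apply] at h2
  exact h2

theorem GV_isDetecting (O : Sheaf J CommRingCat.{u}) :
    (ObjectProperty.ofObj fun V : C => GV O V).IsDetecting :=
  (GV_isSeparating O).isDetecting

instance isLeftAdjoint_tensor_obj (O : Sheaf J CommRingCat.{u}) (A : Mod O) :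
    ((tensorBi O).obj A).IsLeftAdjoint := by
  haveI := preservesColimits_obj O A
  exact isLeftAdjoint_of_preservesColimits (ringSh O) _

lemma pull_map_id (M : Mod O_D) : f.pull.map (𝟙 M) = 𝟙 (f.pull.obj M) := f.pull.map_id M

variable [PreservesFiniteLimits (pbS (J := J) (K := K) f.fn)]

/-- Step 2: bijectivity for a generator in the first variable -/
theorem rho_bijective_left_gen (V : D) (N : Mod O_D) (P : Mod O_C) :
    Function.Bijective (rho f (GV O_D V) N P) := by
  have key := bijective_of_detecting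
    (Φ := f.pull ⋙ (tensorBi O_C).obj (f.pull.obj (GV O_D V)))
    (f.adj.comp (Adjunction.ofIsLeftAdjoint ((tensorBi O_C).obj (f.pull.obj (GV O_D V)))))
    (Ψ := (tensorBi O_D).obj (GV O_D V))
    (Adjunction.ofIsLeftAdjoint ((tensorBi O_D).obj (GV O_D V)))
    (ObjectProperty.ofObj fun V : D => GV O_D V) (GV_isDetecting O_D) P (f.push.obj P)
    (fun N => rho f (GV O_D V) N P)
    (by
      intro N N' g β
      have h := rho_tMap f (𝟙 (GV O_D V)) g P β
      rw [pull_map_id, tMap_id_left, tMap_id_left] at h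
      exact h)
    (by
      rintro _ ⟨V'⟩
      exact rho_bijective_gen f V V' P)
  exact key.1 N

/-- Step 1: bijectivity in general, and the comparison of internal homs -/
theorem rho_bijective_and_iso (N : Mod O_D) (P : Mod O_C)
    [HasSheafHom (f.pull.obj N)] [HasSheafHom N] :
    (∀ M, Function.Bijective (rho f M N P)) ∧
      Nonempty (f.push.obj ((sheafHom (f.pull.obj N)).obj P) ≅ (sheafHom N).obj (f.push.obj P)) := by
  exact bijective_of_detecting
    (Φ := f.pull ⋙ (tensorBi O_C).flip.obj (f.pull.obj N))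
    (f.adj.comp (sheafHomAdj (f.pull.obj N)))
    (Ψ := (tensorBi O_D).flip.obj N)
    (sheafHomAdj N)
    (ObjectProperty.ofObj fun V : D => GV O_D V) (GV_isDetecting O_D) P (f.push.obj P)
    (fun M => rho f M N P)
    (by
      intro M M' g β
      have h := rho_tMap f g (𝟙 N) P β
      rw [pull_map_id, tMap_id_right, tMap_id_right] at h
      exact h)
    (by
      rintro _ ⟨V⟩
      exact rho_bijective_left_gen f V N P)


omit [PreservesFiniteLimits (pbS (J := J) (K := K) f.fn)] in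
/-- S6157 -/
theorem main6157 (M : Mod O_C) (N : Mod O_D) [HasSheafHom (f.pull.obj N)] [HasSheafHom N] :
    Nonempty (toAb (f.push.obj ((sheafHom (f.pull.obj N)).obj M)) ≅
      toAb ((sheafHom N).obj (f.push.obj M))) := by
  obtain ⟨e⟩ := (rho_bijective_and_iso f N M).2
  exact ⟨(SheafOfModules.toSheaf (ringSh O_D)).mapIso e⟩

omit [PreservesFiniteLimits (pbS (J := J) (K := K) f.fn)] in
/-- S6158 -/
theorem main6158 (M N : Mod O_D) :
    Nonempty (((tensorBi O_C).obj (f.pull.obj M)).obj (f.pull.obj N) ≅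
      f.pull.obj (((tensorBi O_D).obj M).obj N)) := by
  haveI := hasSheafHom O_C (f.pull.obj N)
  haveI := hasSheafHom O_D N
  refine ⟨isoOfHomEquiv (fun P => (Equiv.ofBijective (rho f M N P)
    ((rho_bijective_and_iso f N P).1 M)).trans (f.adj.homEquiv _ _).symm) ?_⟩
  intro P P' h g
  show (f.adj.homEquiv _ _).symm (rho f M N P' (h ≫ g)) =
    (f.adj.homEquiv _ _).symm (rho f M N P h) ≫ g
  rw [rho_comp, Adjunction.homEquiv_naturality_right_symm]

end Main

end

end Groth.Agent.Lib.ModSitePullH4
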