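import Mathlib
import Groth.Prelude.Def_ModSite
import Groth.Agent.Lib.ModSite11_helper8
import Groth.Agent.Lib.ModSitePullF_helper4

set_option autoImplicit false
set_option linter.unusedSectionVars false
set_option linter.style.haveILetI false
universe u

open CategoryTheory Limits Opposite MonoidalCategory ModSite
open Groth.Agent.Lib.ModSiteH8

namespace Groth.Agent.Lib.ModSitePullH4

noncomputable section

variable {C D : Type u} [SmallCategory C] [SmallCategory D]
  {J : GrothendieckTopology C} {K : GrothendieckTopology D}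
  {O_C : Sheaf J CommRingCat.{u}} {O_D : Sheaf K CommRingCat.{u}} (f : RMor O_C O_D)

/-- the inverse image of an invertible module is invertible -/
theorem isEquivalence_tensor_pull (L : Mod O_D) (hL : ((tensorBi O_D).obj L).IsEquivalence) :
    ((tensorBi O_C).obj (f.pull.obj L)).IsEquivalence := by
  haveI := hL
  let E := ((tensorBi O_D).obj L).asEquivalence
  let L' : Mod O_D := E.inverse.obj (unit O_D)
  let e0 : ((tensorBi O_D).obj L).obj L' ≅ unit O_D := E.counitIso.app (unit O_D)
  obtain ⟨e6158⟩ := main6158 f L L'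
  let e1 : ((tensorBi O_C).obj (f.pull.obj L)).obj (f.pull.obj L') ≅ unit O_C :=
    e6158 ≪≫ f.pull.mapIso e0 ≪≫ pullUnitIso f
  let e2 : ((tensorBi O_C).obj (f.pull.obj L')).obj (f.pull.obj L) ≅ unit O_C :=
    (sigmaIso O_C (f.pull.obj L')).app (f.pull.obj L) ≪≫ e1
  let F := (tensorBi O_C).obj (f.pull.obj L)
  let F' := (tensorBi O_C).obj (f.pull.obj L')
  let η : F ⋙ F' ≅ 𝟭 (Mod O_C) :=
    (assocObj O_C (f.pull.obj L) (f.pull.obj L')).symm ≪≫ (tensorBi O_C).mapIso e1 ≪≫
      unitorObj O_C
  let ε : F' ⋙ F ≅ 𝟭 (Mod O_C) :=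
    (assocObj O_C (f.pull.obj L') (f.pull.obj L)).symm ≪≫ (tensorBi O_C).mapIso e2 ≪≫
      unitorObj O_C
  exact (CategoryTheory.Equivalence.mk F F' η.symm ε).isEquivalence_functor

end

end Groth.Agent.Lib.ModSitePullH4
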