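import Mathlib
import Groth.Prelude
import Groth.Agent.Lib.ZConn2_helper8

/-!
# Global functions of a proper flat model over a DVR (helper2)
APPEND-ONLY once landed.
-/

set_option autoImplicit false
universe u
open CategoryTheory CategoryTheory.Limits AlgebraicGeometry

namespace Groth.Agent.Lib.ModelConnH2

/-- an element integral over an integrally closed domain `R` lying in (an isomorphic copy of) the
fraction field lies in (the isomorphic copy of) `R` -/
theorem mem_range_of_isIntegralElem {R : Type*} [CommRing R] [IsDomain R] [IsIntegrallyClosed R]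
    {R₁ K₁ : Type*} [CommRing R₁] [CommRing K₁] (φ : R₁ →+* K₁) (eR : R₁ ≃+* R)
    (eK : K₁ ≃+* FractionRing R)
    (hcomm : ∀ r, eK (φ r) = algebraMap R (FractionRing R) (eR r)) (x : K₁)
    (hx : φ.IsIntegralElem x) : ∃ r, φ r = x := by
  obtain ⟨P, hP, hPx⟩ := hx
  have hint : IsIntegral R (eK x) := by
    refine ⟨P.map eR.toRingHom, hP.map _, ?_⟩
    rw [Polynomial.eval₂_map]
    have hc : (algebraMap R (FractionRing R)).comp eR.toRingHom = eK.toRingHom.comp φ := by
      ext r
      exact (hcomm r).symm
    rw [hc]
    exact (Polynomial.hom_eval₂ P φ eK.toRingHom x).symm.trans (by rw [hPx, map_zero])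
  obtain ⟨y, hy⟩ := IsIntegrallyClosed.isIntegral_iff.mp hint
  refine ⟨eR.symm y, ?_⟩
  apply eK.injective
  rw [hcomm, eR.apply_symm_apply, hy]

/-- the ring of global functions of a flat, universally closed `R`-scheme whose generic fibre has
`K` as ring of global functions is `R` itself (`R` a discrete valuation ring) -/
theorem isIso_appTop_model (R : Type u) [CommRing R] [IsDomain R] [IsDiscreteValuationRing R]
    {C X : Scheme.{u}} (f : C ⟶ Spec (CommRingCat.of (FractionRing R)))
    (p : X ⟶ Spec (CommRingCat.of R)) (g : C ⟶ X)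
    (hpb : IsPullback g f p (Spec.map (CommRingCat.ofHom (algebraMap R (FractionRing R)))))
    [Flat p] [UniversallyClosed p] (hH0 : IsIso f.appTop) : IsIso p.appTop := by
  set j : Spec (CommRingCat.of (FractionRing R)) ⟶ Spec (CommRingCat.of R) :=
    Spec.map (CommRingCat.ofHom (algebraMap R (FractionRing R))) with hj
  let eR : Γ(Spec (CommRingCat.of R), ⊤) ≃+* R :=
    (Scheme.ΓSpecIso (CommRingCat.of R)).commRingCatIsoToRingEquiv
  let eK : Γ(Spec (CommRingCat.of (FractionRing R)), ⊤) ≃+* FractionRing R :=
    (Scheme.ΓSpecIso (CommRingCat.of (FractionRing R))).commRingCatIsoToRingEquiv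
  have hcomm : ∀ r, eK (j.appTop.hom r) = algebraMap R (FractionRing R) (eR r) := by
    intro r
    have h := Scheme.ΓSpecIso_naturality (CommRingCat.ofHom (algebraMap R (FractionRing R)))
    have h2 := congrArg (fun m => m.hom r) h
    exact h2
  have hj_inj : Function.Injective j.appTop.hom := by
    intro a b hab
    apply eR.injective
    apply IsFractionRing.injective R (FractionRing R)
    rw [← hcomm, ← hcomm, hab]
  haveI : QuasiCompact j := inferInstance
  have hj_inj' : Function.Injective (j.app ⊤).hom := hj_inj
  haveI : IsSchemeTheoreticallyDominant j := by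
    refine ⟨Scheme.IdealSheafData.ext_of_isAffine ?_⟩
    rw [j.ker_apply ⟨⊤, isAffineOpen_top _⟩]
    rw [(RingHom.injective_iff_ker_eq_bot _).mp hj_inj']
    simp
  haveI : QuasiCompact j := inferInstance
  haveI : IsSchemeTheoreticallyDominant g := IsSchemeTheoreticallyDominant.of_isPullback hpb.flip
  haveI : QuasiCompact g :=
    MorphismProperty.of_isPullback (P := @QuasiCompact) hpb.flip inferInstance
  have hg_inj : Function.Injective g.appTop.hom := g.app_injective ⊤
  have hw : p.appTop ≫ g.appTop = j.appTop ≫ f.appTop := by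
    rw [← Scheme.Hom.comp_appTop, ← Scheme.Hom.comp_appTop, hpb.w]
  have hwe : ∀ r, g.appTop.hom (p.appTop.hom r) = f.appTop.hom (j.appTop.hom r) := by
    intro r
    exact congrArg (fun m => m.hom r) hw
  have hf_bij : Function.Bijective f.appTop.hom := ConcreteCategory.bijective_of_isIso f.appTop
  have hcompeq : f.appTop.hom.comp j.appTop.hom = g.appTop.hom.comp p.appTop.hom := by
    ext r
    exact (hwe r).symm
  rw [ConcreteCategory.isIso_iff_bijective]
  constructor
  · intro a b hab
    apply hj_inj
    apply hf_bij.1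
    have hab' : p.appTop.hom a = p.appTop.hom b := hab
    rw [← hwe, ← hwe, hab']
  · intro a
    have hint : p.appTop.hom.IsIntegralElem a := isIntegral_appTop_of_universallyClosed p a
    obtain ⟨k, hk⟩ := hf_bij.2 (g.appTop.hom a)
    have hkint : j.appTop.hom.IsIntegralElem k := by
      obtain ⟨P, hP, hPa⟩ := hint
      refine ⟨P, hP, ?_⟩
      apply hf_bij.1
      rw [map_zero, Polynomial.hom_eval₂ P j.appTop.hom f.appTop.hom k, hcompeq, hk,
        ← Polynomial.hom_eval₂, hPa, map_zero]
    obtain ⟨r, hr⟩ := mem_range_of_isIntegralElem j.appTop.hom eR eK hcomm k hkint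
    refine ⟨r, ?_⟩
    apply hg_inj
    show g.appTop.hom (p.appTop.hom r) = g.appTop.hom a
    rw [hwe, hr, hk]

end Groth.Agent.Lib.ModelConnH2
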