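import Mathlib
import Groth.Prelude.Def_Models
import Groth.Agent.Lib.Models3_helper5
import Groth.Agent.S3350

/-! Pair classification in terms of the Cartan integers `a i j / w i`. helper5. -/

namespace Groth.Agent.Lib.ModelsH5

open Finset Models

variable {n : ℕ} (T : NumericalType n)

lemma pair_class (hn : 2 < n) (i j : Fin n) (hij : i ≠ j) (hi : T.IsMinusTwo i)
    (hj : T.IsMinusTwo j) (P Q : ℤ) (hP : T.a i j = T.w i * P) (hQ : T.a j i = T.w j * Q) :
    (P = 0 ∧ Q = 0) ∨ (P = 1 ∧ Q = 1) ∨ (P = 2 ∧ Q = 1) ∨ (P = 1 ∧ Q = 2) ∨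
      (P = 3 ∧ Q = 1) ∨ (P = 1 ∧ Q = 3) := by
  have hwi := T.w_pos i
  have hwj := T.w_pos j
  have hs : T.a j i = T.a i j := T.symm.apply i j
  have cP : ∀ c : ℤ, T.a i j = c * T.w i → P = c := fun c h =>
    mul_left_cancel₀ hwi.ne' (by rw [← hP, h]; ring)
  have cQ : ∀ c : ℤ, T.a i j = c * T.w j → Q = c := fun c h =>
    mul_left_cancel₀ hwj.ne' (by rw [← hQ, hs, h]; ring)
  by_cases h0 : T.a i j = 0
  · left
    exact ⟨cP 0 (by rw [h0]; ring), cQ 0 (by rw [h0]; ring)⟩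
  · right
    have hpos : 0 < T.a i j := lt_of_le_of_ne (T.offDiag_nonneg i j hij) (Ne.symm h0)
    obtain ⟨i', j', hor, htype⟩ := Groth.Agent.S3350.result T hn i j hij hi hj hpos
    rcases hor with ⟨rfl, rfl⟩ | ⟨rfl, rfl⟩
    · rcases htype with ⟨hw, ha, -, -⟩ | ⟨hw, ha, -, -⟩ | ⟨hw, ha, -, -⟩
      · left; exact ⟨cP 1 (by linarith), cQ 1 (by linarith)⟩
      · right; left; exact ⟨cP 2 (by linarith), cQ 1 (by linarith)⟩
      · right; right; right; left; exact ⟨cP 3 (by linarith), cQ 1 (by linarith)⟩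
    · rcases htype with ⟨hw, ha, -, -⟩ | ⟨hw, ha, -, -⟩ | ⟨hw, ha, -, -⟩
      · left; exact ⟨cP 1 (by linarith), cQ 1 (by linarith)⟩
      · right; right; left; exact ⟨cP 1 (by linarith), cQ 2 (by linarith)⟩
      · right; right; right; right; exact ⟨cP 1 (by linarith), cQ 3 (by linarith)⟩

end Groth.Agent.Lib.ModelsH5
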