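import Mathlib
import Groth.Prelude.Def_Models
import Groth.Agent.Lib.Models3_helper5

/-! Row lower bounds for superharmonic checks with parametric index sets. helper5. -/

namespace Groth.Agent.Lib.ModelsH5

open Finset Models

variable {n : ℕ} (T : NumericalType n)

lemma row_general {t : ℕ} (v : Fin t ↪ Fin n) (hv : ∀ j, T.IsMinusTwo (v j)) (c : Fin t → ℤ)
    (hc : ∀ k, 0 ≤ c k) (j : Fin t) (S : Finset (Fin t)) (hjS : j ∉ S) (P : Fin t → ℤ)
    (hP : ∀ k ∈ S, P k * T.w (v j) ≤ T.a (v j) (v k))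
    (hsum : 2 * c j ≤ ∑ k ∈ S, P k * c k) :
    0 ≤ ∑ k, T.a (v j) (v k) * c k := by
  classical
  have h1 : ∑ k, T.a (v j) (v k) * c k =
      T.a (v j) (v j) * c j + ∑ k ∈ univ.erase j, T.a (v j) (v k) * c k :=
    (Finset.add_sum_erase univ (fun k => T.a (v j) (v k) * c k) (mem_univ j)).symm
  have hsub : S ⊆ univ.erase j := fun k hk => mem_erase.2 ⟨fun h => hjS (h ▸ hk), mem_univ k⟩
  have h2 : ∑ k ∈ S, T.a (v j) (v k) * c k ≤ ∑ k ∈ univ.erase j, T.a (v j) (v k) * c k :=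
    Finset.sum_le_sum_of_subset_of_nonneg hsub (fun k hk _ =>
      mul_nonneg (emb_offDiag_nonneg T v j k (Finset.ne_of_mem_erase hk).symm) (hc k))
  have h3 : ∑ k ∈ S, P k * T.w (v j) * c k ≤ ∑ k ∈ S, T.a (v j) (v k) * c k :=
    Finset.sum_le_sum fun k hk => mul_le_mul_of_nonneg_right (hP k hk) (hc k)
  have h4 : ∑ k ∈ S, P k * T.w (v j) * c k = T.w (v j) * ∑ k ∈ S, P k * c k := by
    rw [Finset.mul_sum]; exact Finset.sum_congr rfl fun k _ => by ring
  have h5 : T.w (v j) * (2 * c j) ≤ T.w (v j) * ∑ k ∈ S, P k * c k :=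
    mul_le_mul_of_nonneg_left hsum (T.w_pos _).le
  rw [h1, (hv j).2]
  linarith

lemma row1 {t : ℕ} (v : Fin t ↪ Fin n) (hv : ∀ j, T.IsMinusTwo (v j)) (c : Fin t → ℤ)
    (hc : ∀ k, 0 ≤ c k) (j k1 : Fin t) (hk1 : k1 ≠ j) (P1 : ℤ)
    (h1 : P1 * T.w (v j) ≤ T.a (v j) (v k1)) (hsum : 2 * c j ≤ P1 * c k1) :
    0 ≤ ∑ k, T.a (v j) (v k) * c k := by
  classical
  refine row_general T v hv c hc j {k1} (fun h => hk1 (Finset.mem_singleton.1 h).symm)
    (fun _ => P1) ?_ ?_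
  · intro k hk
    rw [Finset.mem_singleton] at hk
    subst hk
    exact h1
  · rw [Finset.sum_singleton]; exact hsum

lemma row2 {t : ℕ} (v : Fin t ↪ Fin n) (hv : ∀ j, T.IsMinusTwo (v j)) (c : Fin t → ℤ)
    (hc : ∀ k, 0 ≤ c k) (j k1 k2 : Fin t) (hk1 : k1 ≠ j) (hk2 : k2 ≠ j) (h12 : k1 ≠ k2)
    (P1 P2 : ℤ) (h1 : P1 * T.w (v j) ≤ T.a (v j) (v k1)) (h2 : P2 * T.w (v j) ≤ T.a (v j) (v k2))
    (hsum : 2 * c j ≤ P1 * c k1 + P2 * c k2) :
    0 ≤ ∑ k, T.a (v j) (v k) * c k := by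
  classical
  refine row_general T v hv c hc j {k1, k2} ?_ (fun k => if k = k1 then P1 else P2) ?_ ?_
  · intro h
    rw [Finset.mem_insert, Finset.mem_singleton] at h
    rcases h with h | h
    · exact hk1 h.symm
    · exact hk2 h.symm
  · intro k hk
    rw [Finset.mem_insert, Finset.mem_singleton] at hk
    rcases hk with rfl | rfl
    · simpa using h1
    · simpa [h12.symm] using h2
  · rw [Finset.sum_pair h12]
    simpa [h12.symm] using hsum

lemma row3 {t : ℕ} (v : Fin t ↪ Fin n) (hv : ∀ j, T.IsMinusTwo (v j)) (c : Fin t → ℤ)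
    (hc : ∀ k, 0 ≤ c k) (j k1 k2 k3 : Fin t) (hk1 : k1 ≠ j) (hk2 : k2 ≠ j) (hk3 : k3 ≠ j)
    (h12 : k1 ≠ k2) (h13 : k1 ≠ k3) (h23 : k2 ≠ k3)
    (P1 P2 P3 : ℤ) (h1 : P1 * T.w (v j) ≤ T.a (v j) (v k1))
    (h2 : P2 * T.w (v j) ≤ T.a (v j) (v k2)) (h3 : P3 * T.w (v j) ≤ T.a (v j) (v k3))
    (hsum : 2 * c j ≤ P1 * c k1 + P2 * c k2 + P3 * c k3) :
    0 ≤ ∑ k, T.a (v j) (v k) * c k := by
  classical
  refine row_general T v hv c hc j {k1, k2, k3} ?_
    (fun k => if k = k1 then P1 else if k = k2 then P2 else P3) ?_ ?_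
  · intro h
    simp only [Finset.mem_insert, Finset.mem_singleton] at h
    rcases h with h | h | h
    · exact hk1 h.symm
    · exact hk2 h.symm
    · exact hk3 h.symm
  · intro k hk
    simp only [Finset.mem_insert, Finset.mem_singleton] at hk
    rcases hk with rfl | rfl | rfl
    · simpa using h1
    · simpa [h12.symm] using h2
    · simpa [h13.symm, h23.symm] using h3
  · have hnot : k1 ∉ ({k2, k3} : Finset (Fin t)) := by
      intro h
      rw [Finset.mem_insert, Finset.mem_singleton] at h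
      rcases h with h | h
      · exact h12 h
      · exact h13 h
    rw [Finset.sum_insert hnot, Finset.sum_pair h23]
    simp only [if_true, if_neg h12.symm, if_neg h13.symm, if_neg h23.symm]
    linarith

/-- Edge bounds from positivity, both orientations. -/
lemma edge_bounds {t : ℕ} (v : Fin t ↪ Fin n) (hv : ∀ j, T.IsMinusTwo (v j)) (j k : Fin t)
    (hpos : T.a (v j) (v k) ≠ 0) (hjk : j ≠ k) :
    1 * T.w (v j) ≤ T.a (v j) (v k) ∧ 1 * T.w (v k) ≤ T.a (v k) (v j) := by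
  have hne : v j ≠ v k := fun h => hjk (v.injective h)
  have hsym : T.a (v k) (v j) = T.a (v j) (v k) := T.symm.apply _ _
  refine ⟨by rw [one_mul]; exact w_le_of_ne_zero T _ _ hne hpos, ?_⟩
  rw [one_mul, hsym]
  exact w_le_of_ne_zero' T _ _ hne hpos

end Groth.Agent.Lib.ModelsH5
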