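import Mathlib
import Groth.Prelude.Def_Models
import Groth.Agent.Lib.Models5_helper5

/-! The cycle lemma: a proper set of (-2)-indices contains no cycle. helper5. -/

namespace Groth.Agent.Lib.ModelsH5

open Finset Models

variable {n : ℕ} (T : NumericalType n)

theorem no_cycle {t : ℕ} (v : Fin t ↪ Fin n) (hv : ∀ j, T.IsMinusTwo (v j)) (ht : t < n)
    (S : Finset (Fin t)) (hS : S.Nonempty)
    (h : ∀ j ∈ S, ∃ k1 k2, k1 ∈ S ∧ k2 ∈ S ∧ k1 ≠ j ∧ k2 ≠ j ∧ k1 ≠ k2 ∧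
      T.a (v j) (v k1) ≠ 0 ∧ T.a (v j) (v k2) ≠ 0) : False := by
  classical
  let c : Fin t → ℤ := fun k => if k ∈ S then 1 else 0
  have c1 : ∀ k, k ∈ S → c k = 1 := fun k hk => if_pos hk
  have hc : ∀ k, 0 ≤ c k := fun k => by
    by_cases hk : k ∈ S
    · rw [c1 k hk]; norm_num
    · show 0 ≤ (if k ∈ S then (1 : ℤ) else 0)
      rw [if_neg hk]
  obtain ⟨j0, hj0⟩ := hS
  refine no_superharmonic T v ht c hc ⟨j0, by rw [c1 j0 hj0]; norm_num⟩ ?_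
  intro j hj
  have hjS : j ∈ S := by
    by_contra hn
    have : c j = 0 := if_neg hn
    rw [this] at hj
    exact lt_irrefl 0 hj
  obtain ⟨k1, k2, hk1, hk2, h1j, h2j, h12, ha1, ha2⟩ := h j hjS
  refine row2 T v hv c hc j k1 k2 h1j h2j h12 1 1
    (edge_bounds T v hv j k1 ha1 h1j.symm).1 (edge_bounds T v hv j k2 ha2 h2j.symm).1 ?_
  rw [c1 j hjS, c1 k1 hk1, c1 k2 hk2]
  norm_num

end Groth.Agent.Lib.ModelsH5
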