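import Mathlib
import Groth.Statements.S2178
import Groth.Agent.S2171

set_option autoImplicit false
open Finset
open Models Models.NumericalType

namespace Groth.Agent.Lib.PicRank

variable {n : ℕ} (T : Models.NumericalType n)

lemma w_mul_pic (x : Fin n → ℤ) (i : Fin n) :
    T.w i * (T.picMatrix.mulVec x) i = (T.a.mulVec x) i := by
  simp only [Matrix.mulVec, dotProduct, Models.NumericalType.picMatrix, Finset.mul_sum]
  refine Finset.sum_congr rfl (fun j _ => ?_)
  rw [← mul_assoc, Int.mul_ediv_cancel' (T.w_dvd i j)]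

lemma a_mulVec_eq_zero_of_pic (x : Fin n → ℤ) (hx : T.picMatrix.mulVec x = 0) :
    T.a.mulVec x = 0 := by
  funext i
  rw [← w_mul_pic, hx]
  simp

lemma pic_mulVec_m : T.picMatrix.mulVec T.m = 0 := by
  funext i
  have h := w_mul_pic T T.m i
  rw [T.mulVec_m] at h
  have hw : T.w i ≠ 0 := (T.w_pos i).ne'
  simpa [hw] using h

lemma real_prop (x : Fin n → ℤ) (hx : T.a.mulVec x = 0) :
    ∃ q : ℝ, (fun i => (x i : ℝ)) = q • (fun i => (T.m i : ℝ)) := by
  set A : Matrix (Fin n) (Fin n) ℝ := T.a.map (fun z : ℤ => (z : ℝ)) with hA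
  have hcast : ∀ y : Fin n → ℤ, A.mulVec (fun i => (y i : ℝ)) =
      fun i => ((T.a.mulVec y i : ℤ) : ℝ) := by
    intro y
    funext i
    simp [A, Matrix.mulVec, dotProduct]
  have key := Groth.Agent.S2171.result A (fun i => (T.m i : ℝ))
    (Matrix.IsSymm.ext (fun i j => by simp [A, T.symm.apply i j]))
    (fun i j hij => by
      have h0 : (0:ℝ) ≤ ((T.a i j : ℤ) : ℝ) := by exact_mod_cast T.offDiag_nonneg i j hij
      simpa [A] using h0)
    (fun i => by exact_mod_cast T.m_pos i)
    (by rw [hcast, T.mulVec_m]; funext i; simp)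
    (fun I hI hI' => by
      obtain ⟨i, hi, j, hj, hij⟩ := T.connected I hI hI'
      exact ⟨i, hi, j, hj, by simpa [A] using hij⟩)
    (fun i => (x i : ℝ))
  apply key.2.mp
  rw [hcast, hx]
  simp

theorem main {n : ℕ} (T : Models.NumericalType n) : Module.finrank ℤ T.Pic = 1 := by
  let f : (Fin n → ℤ) →ₗ[ℤ] (Fin n → ℤ) := Matrix.mulVecLin T.picMatrix
  show Module.finrank ℤ ((Fin n → ℤ) ⧸ LinearMap.range f) = 1
  have h1 := Submodule.finrank_quotient_add_finrank (LinearMap.range f)
  have h2 := Submodule.finrank_quotient_add_finrank (LinearMap.ker f)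
  have h2' : Module.finrank ℤ ((Fin n → ℤ) ⧸ LinearMap.ker f) =
      Module.finrank ℤ (LinearMap.range f) := (LinearMap.quotKerEquivRange f).finrank_eq
  let i0 : Fin n := ⟨0, T.pos⟩
  have hm_ker : T.m ∈ LinearMap.ker f := by
    rw [LinearMap.mem_ker]
    exact pic_mulVec_m T
  -- upper bound
  let φ : LinearMap.ker f →ₗ[ℤ] ℤ := (LinearMap.proj i0).comp (LinearMap.ker f).subtype
  have hφ : Function.Injective φ := by
    refine (injective_iff_map_eq_zero φ).mpr ?_
    rintro ⟨x, hx⟩ h0
    have hx' : T.picMatrix.mulVec x = 0 := LinearMap.mem_ker.mp hx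
    obtain ⟨q, hq⟩ := real_prop T x (a_mulVec_eq_zero_of_pic T x hx')
    have hx0 : x i0 = 0 := h0
    have h3 := congrFun hq i0
    simp only [Pi.smul_apply, smul_eq_mul] at h3
    rw [hx0, Int.cast_zero] at h3
    have hm0 : (T.m i0 : ℝ) ≠ 0 := by exact_mod_cast (T.m_pos i0).ne'
    have hq0 : q = 0 := by
      rcases mul_eq_zero.mp h3.symm with h | h
      · exact h
      · exact absurd h hm0
    rw [hq0, zero_smul] at hq
    apply Subtype.ext
    funext i
    have := congrFun hq i
    simpa using this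
  have hle : Module.finrank ℤ (LinearMap.ker f) ≤ 1 := by
    have := LinearMap.finrank_le_finrank_of_injective hφ
    rwa [Module.finrank_self] at this
  -- lower bound
  let ψ : ℤ →ₗ[ℤ] LinearMap.ker f := LinearMap.toSpanSingleton ℤ _ ⟨T.m, hm_ker⟩
  have hψ : Function.Injective ψ := by
    refine (injective_iff_map_eq_zero ψ).mpr ?_
    intro c hc
    have h3 : c • T.m = 0 := congrArg Subtype.val hc
    have h4 := congrFun h3 i0
    simp only [Pi.smul_apply, smul_eq_mul, Pi.zero_apply] at h4
    rcases mul_eq_zero.mp h4 with h | h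
    · exact h
    · exact absurd h (T.m_pos i0).ne'
  have hge : 1 ≤ Module.finrank ℤ (LinearMap.ker f) := by
    have := LinearMap.finrank_le_finrank_of_injective hψ
    rwa [Module.finrank_self] at this
  have hn : Module.finrank ℤ (Fin n → ℤ) = n := Module.finrank_fin_fun ℤ
  omega

end Groth.Agent.Lib.PicRank
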