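import Mathlib
import Groth.Prelude.Def_Models
import Groth.Agent.Lib.Models_helper5
import Groth.Agent.Lib.PicRank_lead

/-! Contraction of a (-1)-index of a numerical type (helper4): existence, genus, Picard groups. -/

set_option autoImplicit false
set_option linter.unusedVariables false
set_option linter.unusedTactic false
set_option linter.unreachableTactic false
set_option maxHeartbeats 800000

open Finset Models Models.NumericalType

namespace Groth.Agent.Lib.ModelsContrH4

/-- contracted weight -/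
def wc (wi wl b : ℤ) : ℤ := if 2 ∣ b / wl ∧ ¬ 2 ∣ b / wi then wi / 2 else wi

theorem wc_spec (wi wl b : ℤ) (hwi : 0 < wi) (hwl : 0 < wl) (h1 : wl ∣ b) (h2 : wi ∣ b) :
    ∃ ε : ℤ, (ε = 1 ∨ ε = 2) ∧ wi = ε * wc wi wl b ∧ 0 < wc wi wl b := by
  unfold wc
  split_ifs with hc
  · obtain ⟨hc1, hc2⟩ := hc
    have hb1 : wl * (b / wl) = b := Int.mul_ediv_cancel' h1
    have hb2 : wi * (b / wi) = b := Int.mul_ediv_cancel' h2
    have h2b : (2 : ℤ) ∣ b := by
      have := Dvd.dvd.mul_left hc1 wl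
      rwa [hb1] at this
    have h2w : (2 : ℤ) ∣ wi := by
      have : (2 : ℤ) ∣ wi * (b / wi) := by rw [hb2]; exact h2b
      exact (Int.prime_two.dvd_or_dvd this).resolve_right hc2
    obtain ⟨k, hk⟩ := h2w
    have hk2 : wi / 2 = k := by rw [hk]; exact Int.mul_ediv_cancel_left k two_ne_zero
    rw [hk2]
    exact ⟨2, Or.inr rfl, hk, by omega⟩
  · exact ⟨1, Or.inl rfl, (one_mul wi).symm, hwi⟩

theorem wc_dvd_key (wi wl b : ℤ) (hwi : 0 < wi) (hwl : 0 < wl) (h1 : wl ∣ b) (h2 : wi ∣ b) :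
    2 * wc wi wl b * wl ∣ b ^ 2 - wl * b := by
  obtain ⟨c, hb1⟩ := h1
  obtain ⟨e, hb2⟩ := h2
  have hc' : b / wl = c := by rw [hb1]; exact Int.mul_ediv_cancel_left c hwl.ne'
  have he' : b / wi = e := by rw [hb2]; exact Int.mul_ediv_cancel_left e hwi.ne'
  unfold wc
  rw [hc', he']
  split_ifs with hc
  · obtain ⟨hc1, hc2⟩ := hc
    have h2w : (2 : ℤ) ∣ wi := by
      have : (2 : ℤ) ∣ wi * e := by rw [← hb2, hb1]; exact Dvd.dvd.mul_left hc1 wl
      exact (Int.prime_two.dvd_or_dvd this).resolve_right hc2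
    obtain ⟨k, hk⟩ := h2w
    have hk2 : wi / 2 = k := by rw [hk]; exact Int.mul_ediv_cancel_left k two_ne_zero
    rw [hk2]
    refine ⟨e * (c - 1), ?_⟩
    have hb2' : b = 2 * k * e := by rw [hb2, hk]
    linear_combination (wl * (c - 1)) * hb2' + b * hb1
  · have h2ec : (2 : ℤ) ∣ e * (c - 1) := by
      by_cases h2c : (2 : ℤ) ∣ c
      · have h2e : (2 : ℤ) ∣ e := by
          by_contra hne
          exact hc ⟨h2c, hne⟩
        exact Dvd.dvd.mul_right h2e _
      · exact Dvd.dvd.mul_left (by omega) _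
    obtain ⟨t, ht⟩ := h2ec
    refine ⟨t, ?_⟩
    linear_combination (wl * (c - 1)) * hb2 + b * hb1 + (wi * wl) * ht

theorem contr_term (wi wl b g Aii : ℤ) (hwi : 0 < wi) (hwl : 0 < wl) (h1 : wl ∣ b) (h2 : wi ∣ b) :
    2 * wc wi wl b * ((wi / wc wi wl b * (g - 1) + 1 +
        (b ^ 2 - wl * b) / (2 * wc wi wl b * wl)) - 1) - (Aii - b * b / (-wl)) =
      2 * wi * (g - 1) - Aii - b := by
  obtain ⟨ε, -, hε, hpos⟩ := wc_spec wi wl b hwi hwl h1 h2
  have hkey := wc_dvd_key wi wl b hwi hwl h1 h2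
  obtain ⟨w', hw'⟩ : ∃ w', w' = wc wi wl b := ⟨_, rfl⟩
  rw [← hw'] at hε hpos hkey ⊢
  have hr : wi / w' = ε := Int.ediv_eq_of_eq_mul_left hpos.ne' hε
  have hq : 2 * w' * wl * ((b ^ 2 - wl * b) / (2 * w' * wl)) = b ^ 2 - wl * b :=
    Int.mul_ediv_cancel' hkey
  have hs1 : b * b / (-wl) = -(b * b / wl) := Int.ediv_neg _ _
  have hs2 : wl * (b * b / wl) = b * b := Int.mul_ediv_cancel' (Dvd.dvd.mul_right h1 b)
  rw [hr, hs1]
  obtain ⟨q, hqdef⟩ : ∃ q, q = (b ^ 2 - wl * b) / (2 * w' * wl) := ⟨_, rfl⟩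
  obtain ⟨s, hsdef⟩ : ∃ s, s = b * b / wl := ⟨_, rfl⟩
  rw [← hqdef] at hq ⊢
  rw [← hsdef] at hs2 ⊢
  have h0 : 2 * w' * q - s + b = 0 := by
    have : wl * (2 * w' * q - s + b) = 0 := by linear_combination hq - hs2
    exact (mul_eq_zero.mp this).resolve_left hwl.ne'
  linear_combination h0 - 2 * (g - 1) * hε

theorem contr_g_nonneg (wi wl b g : ℤ) (hwi : 0 < wi) (hwl : 0 < wl) (h1 : wl ∣ b) (h2 : wi ∣ b)
    (hb : 0 ≤ b) (hg : 0 ≤ g) :
    0 ≤ wi / wc wi wl b * (g - 1) + 1 + (b ^ 2 - wl * b) / (2 * wc wi wl b * wl) := by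
  obtain ⟨c, hb1⟩ := h1
  obtain ⟨e, hb2⟩ := h2
  have hc0 : 0 ≤ c := by
    by_contra hn
    push_neg at hn
    nlinarith
  have he0 : 0 ≤ e := by
    by_contra hn
    push_neg at hn
    nlinarith
  have hcc : 0 ≤ c * (c - 1) := by
    rcases hc0.eq_or_lt with h | h
    · rw [← h]; norm_num
    · exact mul_nonneg hc0 (by omega)
  have hnum : 0 ≤ b ^ 2 - wl * b := by
    have : b ^ 2 - wl * b = wl * wl * (c * (c - 1)) := by rw [hb1]; ring
    rw [this]
    exact mul_nonneg (mul_nonneg hwl.le hwl.le) hcc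
  have hc' : b / wl = c := by rw [hb1]; exact Int.mul_ediv_cancel_left c hwl.ne'
  have he' : b / wi = e := by rw [hb2]; exact Int.mul_ediv_cancel_left e hwi.ne'
  unfold wc
  rw [hc', he']
  split_ifs with hc
  · obtain ⟨hc1, hc2⟩ := hc
    have h2w : (2 : ℤ) ∣ wi := by
      have : (2 : ℤ) ∣ wi * e := by rw [← hb2, hb1]; exact Dvd.dvd.mul_left hc1 wl
      exact (Int.prime_two.dvd_or_dvd this).resolve_right hc2
    obtain ⟨k, hk⟩ := h2w
    have hk2 : wi / 2 = k := by rw [hk]; exact Int.mul_ediv_cancel_left k two_ne_zero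
    rw [hk2]
    have hk0 : 0 < k := by omega
    have hr : wi / k = 2 := Int.ediv_eq_of_eq_mul_left hk0.ne' hk
    rw [hr]
    have he1 : 1 ≤ e := by omega
    have hc2' : 2 ≤ c := by
      have hcne : c ≠ 0 := by
        intro hc00
        have hb0 : b = 0 := by rw [hb1, hc00]; ring
        rw [hb0] at hb2
        have he00 : e = 0 := by
          rcases mul_eq_zero.mp hb2.symm with h | h
          · omega
          · exact h
        exact hc2 (he00 ▸ dvd_zero 2)
      omega
    have hden : 0 < 2 * k * wl := mul_pos (mul_pos two_pos hk0) hwl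
    have hq1 : 1 ≤ (b ^ 2 - wl * b) / (2 * k * wl) := by
      apply Int.le_ediv_of_mul_le hden
      have hb2' : b = 2 * k * e := by rw [hb2, hk]
      have hfac : b ^ 2 - wl * b = 2 * k * wl * (e * (c - 1)) := by
        linear_combination (wl * (c - 1)) * hb2' + b * hb1
      rw [hfac, one_mul]
      have h1ec : 1 ≤ e * (c - 1) := by nlinarith
      exact le_mul_of_one_le_right hden.le h1ec
    linarith
  · have hr : wi / wi = 1 := Int.ediv_self hwi.ne'
    rw [hr]
    have hq0 : 0 ≤ (b ^ 2 - wl * b) / (2 * wi * wl) :=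
      Int.ediv_nonneg hnum (mul_pos (mul_pos two_pos hwi) hwl).le
    linarith

theorem E1 (wi wl b bj Aij : ℤ) (hwi : 0 < wi) (hwl : 0 < wl) (h1 : wl ∣ b) (h2 : wi ∣ b)
    (h3 : wl ∣ bj) (h4 : wi ∣ Aij) :
    (Aij - b * bj / (-wl)) / wc wi wl b =
      wi / wc wi wl b * (Aij / wi + b / wi * (bj / wl)) := by
  obtain ⟨ε, -, hε, hpos⟩ := wc_spec wi wl b hwi hwl h1 h2
  obtain ⟨w', hw'⟩ : ∃ w', w' = wc wi wl b := ⟨_, rfl⟩
  rw [← hw'] at hε hpos ⊢
  obtain ⟨α, hα⟩ := h4
  obtain ⟨e, he⟩ := h2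
  obtain ⟨c, hc⟩ := h3
  have r1 : Aij / wi = α := Int.ediv_eq_of_eq_mul_right hwi.ne' hα
  have r2 : b / wi = e := Int.ediv_eq_of_eq_mul_right hwi.ne' he
  have r3 : bj / wl = c := Int.ediv_eq_of_eq_mul_right hwl.ne' hc
  have r4 : wi / w' = ε := Int.ediv_eq_of_eq_mul_left hpos.ne' hε
  have r5 : b * bj / (-wl) = -(b * c) :=
    Int.ediv_eq_of_eq_mul_right (neg_ne_zero.mpr hwl.ne') (by rw [hc]; ring)
  rw [r1, r2, r3, r4, r5]
  exact Int.ediv_eq_of_eq_mul_right hpos.ne'
    (by linear_combination hα + c * he + (α + e * c) * hε)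

variable {n : ℕ}

theorem sym_last (T : NumericalType (n + 1)) (i : Fin n) :
    T.a (Fin.last n) i.castSucc = T.a i.castSucc (Fin.last n) :=
  T.symm.apply i.castSucc (Fin.last n)

theorem dvd_last (T : NumericalType (n + 1)) (i : Fin n) :
    T.w (Fin.last n) ∣ T.a i.castSucc (Fin.last n) := by
  rw [← sym_last]; exact T.w_dvd _ _

theorem row_last (T : NumericalType (n + 1)) (h : T.IsMinusOne (Fin.last n)) :
    ∑ i : Fin n, T.a i.castSucc (Fin.last n) * T.m i.castSucc =
      T.w (Fin.last n) * T.m (Fin.last n) := by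
  have := Groth.Agent.Lib.ModelsH5.row_sum T (Fin.last n)
  rw [Fin.sum_univ_castSucc, h.2] at this
  have h2 : ∑ i : Fin n, T.a (Fin.last n) i.castSucc * T.m i.castSucc =
      ∑ i : Fin n, T.a i.castSucc (Fin.last n) * T.m i.castSucc :=
    Finset.sum_congr rfl (fun i _ => by rw [sym_last])
  rw [h2] at this
  linarith

theorem row_cast (T : NumericalType (n + 1)) (i : Fin n) :
    ∑ j : Fin n, T.a i.castSucc j.castSucc * T.m j.castSucc =
      -(T.a i.castSucc (Fin.last n) * T.m (Fin.last n)) := by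
  have := Groth.Agent.Lib.ModelsH5.row_sum T i.castSucc
  rw [Fin.sum_univ_castSucc] at this
  linarith

theorem pos_n (T : NumericalType (n + 1)) (h : T.IsMinusOne (Fin.last n)) : 0 < n := by
  rcases Nat.eq_zero_or_pos n with rfl | hn
  · exfalso
    have := row_last T h
    simp only [Finset.univ_eq_empty, Finset.sum_empty] at this
    have h2 := mul_pos (T.w_pos (Fin.last 0)) (T.m_pos (Fin.last 0))
    linarith
  · exact hn

/-- contracted matrix -/
def cA (T : NumericalType (n + 1)) : Matrix (Fin n) (Fin n) ℤ := fun i j =>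
  T.a i.castSucc j.castSucc -
    T.a i.castSucc (Fin.last n) * T.a j.castSucc (Fin.last n) / T.a (Fin.last n) (Fin.last n)

/-- contracted weights -/
def cW (T : NumericalType (n + 1)) (i : Fin n) : ℤ :=
  wc (T.w i.castSucc) (T.w (Fin.last n)) (T.a i.castSucc (Fin.last n))

/-- contracted genera -/
def cG (T : NumericalType (n + 1)) (i : Fin n) : ℤ :=
  T.w i.castSucc / cW T i * (T.g i.castSucc - 1) + 1 +
    (T.a i.castSucc (Fin.last n) ^ 2 - T.w (Fin.last n) * T.a i.castSucc (Fin.last n)) /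
      (2 * cW T i * T.w (Fin.last n))

theorem cA_eq (T : NumericalType (n + 1)) (h : T.IsMinusOne (Fin.last n)) (i j : Fin n) :
    cA T i j = T.a i.castSucc j.castSucc +
      T.a i.castSucc (Fin.last n) / T.w (Fin.last n) * T.a j.castSucc (Fin.last n) := by
  show T.a i.castSucc j.castSucc -
    T.a i.castSucc (Fin.last n) * T.a j.castSucc (Fin.last n) / T.a (Fin.last n) (Fin.last n) = _
  rw [h.2, Int.ediv_neg, sub_neg_eq_add, Int.mul_ediv_assoc' _ (dvd_last T i)]

theorem cA_eq' (T : NumericalType (n + 1)) (h : T.IsMinusOne (Fin.last n)) (i j : Fin n) :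
    cA T i j = T.a i.castSucc j.castSucc +
      T.a i.castSucc (Fin.last n) * (T.a j.castSucc (Fin.last n) / T.w (Fin.last n)) := by
  show T.a i.castSucc j.castSucc -
    T.a i.castSucc (Fin.last n) * T.a j.castSucc (Fin.last n) / T.a (Fin.last n) (Fin.last n) = _
  rw [h.2, Int.ediv_neg, sub_neg_eq_add, Int.mul_ediv_assoc _ (dvd_last T j)]

theorem cA_pos (T : NumericalType (n + 1)) (h : T.IsMinusOne (Fin.last n)) (i j : Fin n)
    (hij : i ≠ j)
    (hne : T.a i.castSucc j.castSucc ≠ 0 ∨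
      (T.a i.castSucc (Fin.last n) ≠ 0 ∧ T.a j.castSucc (Fin.last n) ≠ 0)) :
    0 < cA T i j := by
  rw [cA_eq T h]
  have hwl := T.w_pos (Fin.last n)
  have hA : 0 ≤ T.a i.castSucc j.castSucc :=
    T.offDiag_nonneg _ _ (fun he => hij (Fin.castSucc_injective n he))
  have hbi : 0 ≤ T.a i.castSucc (Fin.last n) :=
    T.offDiag_nonneg _ _ (Fin.castSucc_lt_last i).ne
  have hbj : 0 ≤ T.a j.castSucc (Fin.last n) :=
    T.offDiag_nonneg _ _ (Fin.castSucc_lt_last j).ne
  have hci : 0 ≤ T.a i.castSucc (Fin.last n) / T.w (Fin.last n) := Int.ediv_nonneg hbi hwl.le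
  rcases hne with hne | ⟨h1, h2⟩
  · have h3 : 0 < T.a i.castSucc j.castSucc := lt_of_le_of_ne hA (Ne.symm hne)
    have h4 := mul_nonneg hci hbj
    linarith
  · have hbi' : 0 < T.a i.castSucc (Fin.last n) := lt_of_le_of_ne hbi (Ne.symm h1)
    have hbj' : 0 < T.a j.castSucc (Fin.last n) := lt_of_le_of_ne hbj (Ne.symm h2)
    have hci' : 0 < T.a i.castSucc (Fin.last n) / T.w (Fin.last n) := by
      obtain ⟨c, hc⟩ := dvd_last T i
      rw [hc] at hbi'
      rw [hc, Int.mul_ediv_cancel_left _ hwl.ne']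
      by_contra hn
      push_neg at hn
      nlinarith
    have h4 := mul_pos hci' hbj'
    linarith

theorem cA_nonneg (T : NumericalType (n + 1)) (h : T.IsMinusOne (Fin.last n)) (i j : Fin n)
    (hij : i ≠ j) : 0 ≤ cA T i j := by
  rw [cA_eq T h]
  have hwl := T.w_pos (Fin.last n)
  have hA : 0 ≤ T.a i.castSucc j.castSucc :=
    T.offDiag_nonneg _ _ (fun he => hij (Fin.castSucc_injective n he))
  have hbi : 0 ≤ T.a i.castSucc (Fin.last n) :=
    T.offDiag_nonneg _ _ (Fin.castSucc_lt_last i).ne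
  have hbj : 0 ≤ T.a j.castSucc (Fin.last n) :=
    T.offDiag_nonneg _ _ (Fin.castSucc_lt_last j).ne
  have hci : 0 ≤ T.a i.castSucc (Fin.last n) / T.w (Fin.last n) := Int.ediv_nonneg hbi hwl.le
  exact add_nonneg hA (mul_nonneg hci hbj)

theorem connected_aux (T : NumericalType (n + 1)) (h : T.IsMinusOne (Fin.last n))
    (I : Finset (Fin n)) (hI : I.Nonempty) (hI' : I ≠ Finset.univ) :
    ∃ i ∈ I, ∃ j ∉ I, cA T i j ≠ 0 := by
  classical
  obtain ⟨j₀, hj₀⟩ : ∃ j₀, j₀ ∉ I := by
    by_contra hcon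
    push_neg at hcon
    exact hI' (Finset.eq_univ_iff_forall.mpr hcon)
  have hJ1ne : (I.image Fin.castSucc).Nonempty := hI.image _
  have hJ1 : I.image Fin.castSucc ≠ Finset.univ := by
    intro hu
    have : Fin.last n ∈ I.image Fin.castSucc := hu ▸ Finset.mem_univ _
    obtain ⟨x, _, hx⟩ := Finset.mem_image.mp this
    exact (Fin.castSucc_lt_last x).ne hx
  obtain ⟨i', hi', j', hj', hij'⟩ := T.connected _ hJ1ne hJ1
  obtain ⟨i, hiI, rfl⟩ := Finset.mem_image.mp hi'
  rcases Fin.eq_castSucc_or_eq_last j' with ⟨j, rfl⟩ | rfl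
  · have hjI : j ∉ I := fun hj => hj' (Finset.mem_image_of_mem _ hj)
    have hne : i ≠ j := by
      intro he
      exact hjI (he ▸ hiI)
    exact ⟨i, hiI, j, hjI, (cA_pos T h i j hne (Or.inl hij')).ne'⟩
  · have hJ2ne : (insert (Fin.last n) (I.image Fin.castSucc)).Nonempty :=
      Finset.insert_nonempty _ _
    have hJ2 : insert (Fin.last n) (I.image Fin.castSucc) ≠ Finset.univ := by
      intro hu
      have : j₀.castSucc ∈ insert (Fin.last n) (I.image Fin.castSucc) := hu ▸ Finset.mem_univ _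
      rcases Finset.mem_insert.mp this with h1 | h1
      · exact (Fin.castSucc_lt_last j₀).ne h1
      · obtain ⟨x, hx, hxe⟩ := Finset.mem_image.mp h1
        exact hj₀ ((Fin.castSucc_injective n hxe) ▸ hx)
    obtain ⟨i'', hi'', j'', hj'', hij''⟩ := T.connected _ hJ2ne hJ2
    have hj''1 : j'' ≠ Fin.last n := fun he => hj'' (he ▸ Finset.mem_insert_self _ _)
    rcases Fin.eq_castSucc_or_eq_last j'' with ⟨j, rfl⟩ | hlast
    · have hjI : j ∉ I :=
        fun hj => hj'' (Finset.mem_insert_of_mem (Finset.mem_image_of_mem _ hj))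
      rcases Finset.mem_insert.mp hi'' with hil | hi2
      · have hbj : T.a j.castSucc (Fin.last n) ≠ 0 := by
          rw [← sym_last, ← hil]; exact hij''
        have hne : i ≠ j := by
          intro he
          exact hjI (he ▸ hiI)
        exact ⟨i, hiI, j, hjI, (cA_pos T h i j hne (Or.inr ⟨hij', hbj⟩)).ne'⟩
      · obtain ⟨i2, hi2I, rfl⟩ := Finset.mem_image.mp hi2
        have hne : i2 ≠ j := by
          intro he
          exact hjI (he ▸ hi2I)
        exact ⟨i2, hi2I, j, hjI, (cA_pos T h i2 j hne (Or.inl hij'')).ne'⟩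
    · exact absurd hlast hj''1

theorem cW_pos (T : NumericalType (n + 1)) (i : Fin n) : 0 < cW T i := by
  obtain ⟨_, _, _, h⟩ := wc_spec (T.w i.castSucc) (T.w (Fin.last n))
    (T.a i.castSucc (Fin.last n)) (T.w_pos _) (T.w_pos _) (dvd_last T i) (T.w_dvd _ _)
  exact h

theorem cW_dvd (T : NumericalType (n + 1)) (i : Fin n) : cW T i ∣ T.w i.castSucc := by
  obtain ⟨ε, _, hε, _⟩ := wc_spec (T.w i.castSucc) (T.w (Fin.last n))
    (T.a i.castSucc (Fin.last n)) (T.w_pos _) (T.w_pos _) (dvd_last T i) (T.w_dvd _ _)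
  refine ⟨ε, ?_⟩
  show T.w i.castSucc = wc _ _ _ * ε
  rw [mul_comm]; exact hε

/-- the contracted numerical type -/
noncomputable def contr (T : NumericalType (n + 1)) (h : T.IsMinusOne (Fin.last n)) :
    NumericalType n where
  m := fun i => T.m i.castSucc
  a := cA T
  w := cW T
  g := cG T
  pos := pos_n T h
  m_pos := fun i => T.m_pos _
  w_pos := fun i => cW_pos T i
  g_nonneg := fun i => contr_g_nonneg _ _ _ _ (T.w_pos _) (T.w_pos _) (dvd_last T i)
    (T.w_dvd _ _) (T.offDiag_nonneg _ _ (Fin.castSucc_lt_last i).ne) (T.g_nonneg _)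
  symm := Matrix.IsSymm.ext (fun i j => by
    show T.a j.castSucc i.castSucc -
        T.a j.castSucc (Fin.last n) * T.a i.castSucc (Fin.last n) / T.a (Fin.last n) (Fin.last n) =
      T.a i.castSucc j.castSucc -
        T.a i.castSucc (Fin.last n) * T.a j.castSucc (Fin.last n) / T.a (Fin.last n) (Fin.last n)
    rw [T.symm.apply i.castSucc j.castSucc, mul_comm (T.a j.castSucc (Fin.last n))])
  offDiag_nonneg := fun i j hij => cA_nonneg T h i j hij
  connected := connected_aux T h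
  mulVec_m := by
    funext i
    show ∑ j : Fin n, cA T i j * T.m j.castSucc = 0
    have h1 : ∀ j : Fin n, cA T i j * T.m j.castSucc =
        T.a i.castSucc j.castSucc * T.m j.castSucc +
          T.a i.castSucc (Fin.last n) / T.w (Fin.last n) *
            (T.a j.castSucc (Fin.last n) * T.m j.castSucc) := by
      intro j; rw [cA_eq T h]; ring
    rw [Finset.sum_congr rfl (fun j _ => h1 j), Finset.sum_add_distrib, ← Finset.mul_sum,
      row_cast, row_last T h]
    have := Int.mul_ediv_cancel' (dvd_last T i)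
    linear_combination (T.m (Fin.last n)) * this
  w_dvd := fun i j => by
    refine (cW_dvd T i).trans ?_
    rw [cA_eq' T h]
    exact dvd_add (T.w_dvd _ _) (Dvd.dvd.mul_right (T.w_dvd _ _) _)

theorem genus_eq (T : NumericalType (n + 1)) (h : T.IsMinusOne (Fin.last n))
    (T' : NumericalType n) (hT' : T.IsContraction T') : T'.genus = T.genus := by
  obtain ⟨hm, ha, hw, hg⟩ := hT'
  have h1 := Groth.Agent.Lib.ModelsH5.two_genus T'
  have h2 := Groth.Agent.Lib.ModelsH5.two_genus T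
  rw [Fin.sum_univ_castSucc] at h2
  have hterm : ∀ i : Fin n, T'.m i * (2 * T'.w i * (T'.g i - 1) - T'.a i i) =
      T.m i.castSucc * (2 * T.w i.castSucc * (T.g i.castSucc - 1) - T.a i.castSucc i.castSucc) -
        T.m i.castSucc * T.a i.castSucc (Fin.last n) := by
    intro i
    have hw' : T'.w i = wc (T.w i.castSucc) (T.w (Fin.last n)) (T.a i.castSucc (Fin.last n)) :=
      hw i
    have key := contr_term (T.w i.castSucc) (T.w (Fin.last n)) (T.a i.castSucc (Fin.last n))
      (T.g i.castSucc) (T.a i.castSucc i.castSucc) (T.w_pos _) (T.w_pos _) (dvd_last T i)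
      (T.w_dvd _ _)
    rw [hm i, hg i, ha i i, h.2, hw']
    linear_combination (T.m i.castSucc) * key
  have hR := row_last T h
  have hsum : ∑ i : Fin n, T'.m i * (2 * T'.w i * (T'.g i - 1) - T'.a i i) =
      ∑ i : Fin n, T.m i.castSucc *
        (2 * T.w i.castSucc * (T.g i.castSucc - 1) - T.a i.castSucc i.castSucc) -
      ∑ i : Fin n, T.a i.castSucc (Fin.last n) * T.m i.castSucc := by
    rw [← Finset.sum_sub_distrib]
    exact Finset.sum_congr rfl (fun i _ => by rw [hterm i]; ring)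
  rw [hsum, hR] at h1
  rw [h.1, h.2] at h2
  have : 2 * T'.genus = 2 * T.genus := by rw [h1, h2]; ring
  linarith

theorem main2175 (T : NumericalType (n + 1)) (h : T.IsMinusOne (Fin.last n)) :
    (∃ T' : NumericalType n, T.IsContraction T') ∧
      ∀ T' : NumericalType n, T.IsContraction T' → T'.genus = T.genus :=
  ⟨⟨contr T h, fun i => rfl, fun i j => rfl, fun i => rfl, fun i => rfl⟩, genus_eq T h⟩

/-! ### Picard groups -/

theorem eps_spec (T : NumericalType (n + 1)) (T' : NumericalType n)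
    (hw : ∀ i, T'.w i = cW T i) (i : Fin n) :
    ∃ ε : ℤ, (ε = 1 ∨ ε = 2) ∧ T.w i.castSucc = ε * T'.w i ∧ 0 < T'.w i ∧
      T.w i.castSucc / T'.w i = ε := by
  obtain ⟨ε, h1, h2, h3⟩ := wc_spec (T.w i.castSucc) (T.w (Fin.last n))
    (T.a i.castSucc (Fin.last n)) (T.w_pos _) (T.w_pos _) (dvd_last T i) (T.w_dvd _ _)
  rw [hw i]
  exact ⟨ε, h1, h2, h3, Int.ediv_eq_of_eq_mul_left h3.ne' h2⟩

/-- the map on `ℤ^(n+1) → ℤ^n` inducing the map of Picard groups -/
noncomputable def picF (T : NumericalType (n + 1)) (T' : NumericalType n) :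
    (Fin (n + 1) → ℤ) →ₗ[ℤ] (Fin n → ℤ) where
  toFun v := fun i => (T.w i.castSucc / T'.w i) *
    (v i.castSucc + (T.a i.castSucc (Fin.last n) / T.w i.castSucc) * v (Fin.last n))
  map_add' := by
    intro v w
    funext i
    simp only [Pi.add_apply]
    ring
  map_smul' := by
    intro c v
    funext i
    simp only [Pi.smul_apply, smul_eq_mul, RingHom.id_apply]
    ring

theorem pic_last (T : NumericalType (n + 1)) (h : T.IsMinusOne (Fin.last n))
    (u : Fin (n + 1) → ℤ) :
    Matrix.mulVecLin T.picMatrix u (Fin.last n) =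
      ∑ j : Fin n, T.a j.castSucc (Fin.last n) / T.w (Fin.last n) * u j.castSucc -
        u (Fin.last n) := by
  show ∑ j : Fin (n + 1), T.a (Fin.last n) j / T.w (Fin.last n) * u j = _
  rw [Fin.sum_univ_castSucc, h.2]
  have h1 : -T.w (Fin.last n) / T.w (Fin.last n) = -1 :=
    Int.ediv_eq_of_eq_mul_right (T.w_pos _).ne' (by ring)
  have hs : ∑ j : Fin n, T.a (Fin.last n) j.castSucc / T.w (Fin.last n) * u j.castSucc =
      ∑ j : Fin n, T.a j.castSucc (Fin.last n) / T.w (Fin.last n) * u j.castSucc :=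
    Finset.sum_congr rfl (fun j _ => by rw [sym_last])
  rw [h1, hs]
  ring

theorem picF_mulVec (T : NumericalType (n + 1)) (h : T.IsMinusOne (Fin.last n))
    (T' : NumericalType n) (hT' : T.IsContraction T') (u : Fin (n + 1) → ℤ) :
    picF T T' (Matrix.mulVecLin T.picMatrix u) =
      Matrix.mulVecLin T'.picMatrix (fun j => u j.castSucc) := by
  obtain ⟨hm, ha, hw, hg⟩ := hT'
  funext i
  have hwl := T.w_pos (Fin.last n)
  have hwi := T.w_pos i.castSucc
  have hE : ∀ j : Fin n, T'.picMatrix i j = T.w i.castSucc / T'.w i *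
      (T.a i.castSucc j.castSucc / T.w i.castSucc +
        T.a i.castSucc (Fin.last n) / T.w i.castSucc *
          (T.a j.castSucc (Fin.last n) / T.w (Fin.last n))) := by
    intro j
    have hw' : T'.w i = wc (T.w i.castSucc) (T.w (Fin.last n)) (T.a i.castSucc (Fin.last n)) :=
      hw i
    show T'.a i j / T'.w i = _
    rw [ha i j, h.2, hw']
    exact E1 _ _ _ _ _ hwi hwl (dvd_last T i) (T.w_dvd _ _) (dvd_last T j) (T.w_dvd _ _)
  show T.w i.castSucc / T'.w i * (Matrix.mulVecLin T.picMatrix u i.castSucc +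
      T.a i.castSucc (Fin.last n) / T.w i.castSucc *
        Matrix.mulVecLin T.picMatrix u (Fin.last n)) =
    ∑ j : Fin n, T'.picMatrix i j * u j.castSucc
  rw [pic_last T h u]
  have h1 : Matrix.mulVecLin T.picMatrix u i.castSucc =
      ∑ j : Fin n, T.a i.castSucc j.castSucc / T.w i.castSucc * u j.castSucc +
        T.a i.castSucc (Fin.last n) / T.w i.castSucc * u (Fin.last n) := by
    show ∑ j : Fin (n + 1), T.a i.castSucc j / T.w i.castSucc * u j = _
    rw [Fin.sum_univ_castSucc]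
  have hR : ∑ j : Fin n, T'.picMatrix i j * u j.castSucc = T.w i.castSucc / T'.w i *
      (∑ j : Fin n, T.a i.castSucc j.castSucc / T.w i.castSucc * u j.castSucc +
        T.a i.castSucc (Fin.last n) / T.w i.castSucc *
          ∑ j : Fin n, T.a j.castSucc (Fin.last n) / T.w (Fin.last n) * u j.castSucc) := by
    rw [Finset.mul_sum, ← Finset.sum_add_distrib, Finset.mul_sum]
    exact Finset.sum_congr rfl (fun j _ => by rw [hE j]; ring)
  rw [h1, hR]
  ring

theorem main2180 (T : NumericalType (n + 1)) (h : T.IsMinusOne (Fin.last n))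
    (T' : NumericalType n) (hT' : T.IsContraction T') :
    ∃ f : T.Pic →+ T'.Pic, Function.Injective f ∧ ∀ y : T'.Pic, ∃ x : T.Pic, 2 • y = f x := by
  have hF := picF_mulVec T h T' hT'
  obtain ⟨hm, ha, hw, hg⟩ := hT'
  have hle : LinearMap.range (Matrix.mulVecLin T.picMatrix) ≤
      (LinearMap.range (Matrix.mulVecLin T'.picMatrix)).comap (picF T T') := by
    rintro _ ⟨u, rfl⟩
    show picF T T' (Matrix.mulVecLin T.picMatrix u) ∈
      LinearMap.range (Matrix.mulVecLin T'.picMatrix)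
    rw [hF u]
    exact LinearMap.mem_range_self _ _
  refine ⟨(Submodule.mapQ _ _ (picF T T') hle).toAddMonoidHom, ?_, ?_⟩
  · rw [injective_iff_map_eq_zero]
    intro x hx
    obtain ⟨v, rfl⟩ := Submodule.Quotient.mk_surjective _ x
    rw [LinearMap.toAddMonoidHom_coe, Submodule.mapQ_apply, Submodule.Quotient.mk_eq_zero] at hx
    obtain ⟨u', hu'⟩ := hx
    rw [Submodule.Quotient.mk_eq_zero]
    obtain ⟨t, ht⟩ : ∃ t : ℤ, t = ∑ j : Fin n,
        T.a j.castSucc (Fin.last n) / T.w (Fin.last n) * u' j - v (Fin.last n) := ⟨_, rfl⟩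
    refine ⟨(Fin.snoc u' t : Fin (n + 1) → ℤ), ?_⟩
    have hsn : (fun j : Fin n => (Fin.snoc u' t : Fin (n + 1) → ℤ) j.castSucc) = u' := by
      funext j
      exact Fin.snoc_castSucc (α := fun _ => ℤ) t u' j
    have hlast : Matrix.mulVecLin T.picMatrix (Fin.snoc u' t : Fin (n + 1) → ℤ) (Fin.last n) =
        v (Fin.last n) := by
      rw [pic_last T h]
      simp only [Fin.snoc_castSucc, Fin.snoc_last]
      rw [ht]
      ring
    funext k
    rcases Fin.eq_castSucc_or_eq_last k with ⟨i, rfl⟩ | rfl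
    · have h1 := congrFun (hF (Fin.snoc u' t : Fin (n + 1) → ℤ)) i
      rw [hsn, hu'] at h1
      obtain ⟨ε, hε12, -, -, hεeq⟩ := eps_spec T T' hw i
      have h2 : T.w i.castSucc / T'.w i *
          (Matrix.mulVecLin T.picMatrix (Fin.snoc u' t : Fin (n + 1) → ℤ) i.castSucc +
            T.a i.castSucc (Fin.last n) / T.w i.castSucc *
              Matrix.mulVecLin T.picMatrix (Fin.snoc u' t : Fin (n + 1) → ℤ) (Fin.last n)) =
          T.w i.castSucc / T'.w i *
            (v i.castSucc + T.a i.castSucc (Fin.last n) / T.w i.castSucc * v (Fin.last n)) := h1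
      rw [hlast, hεeq] at h2
      have hε0 : ε ≠ 0 := by
        rcases hε12 with rfl | rfl <;> norm_num
      have h3 := mul_left_cancel₀ hε0 h2
      linarith
    · exact hlast
  · intro y
    obtain ⟨y₀, rfl⟩ := Submodule.Quotient.mk_surjective _ y
    refine ⟨Submodule.Quotient.mk
      (Fin.snoc (fun i : Fin n => 2 / (T.w i.castSucc / T'.w i) * y₀ i) 0 : Fin (n + 1) → ℤ), ?_⟩
    rw [LinearMap.toAddMonoidHom_coe, Submodule.mapQ_apply]
    have hval : picF T T'
        (Fin.snoc (fun i : Fin n => 2 / (T.w i.castSucc / T'.w i) * y₀ i) 0 : Fin (n + 1) → ℤ) =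
        2 • y₀ := by
      funext i
      show T.w i.castSucc / T'.w i *
        ((Fin.snoc (fun i : Fin n => 2 / (T.w i.castSucc / T'.w i) * y₀ i) 0 :
            Fin (n + 1) → ℤ) i.castSucc +
          T.a i.castSucc (Fin.last n) / T.w i.castSucc *
            (Fin.snoc (fun i : Fin n => 2 / (T.w i.castSucc / T'.w i) * y₀ i) 0 :
              Fin (n + 1) → ℤ) (Fin.last n)) = (2 • y₀) i
      rw [Fin.snoc_castSucc, Fin.snoc_last]
      obtain ⟨ε, hε12, -, -, hεeq⟩ := eps_spec T T' hw i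
      rw [hεeq]
      rcases hε12 with rfl | rfl
      · simp
      · simp
    rw [hval]
    exact (map_nsmul (Submodule.mkQ _) 2 y₀).symm

/-! ### Reindexing -/

/-- reindex a numerical type along a permutation -/
noncomputable def reindex {n : ℕ} (T : NumericalType n) (σ : Equiv.Perm (Fin n)) :
    NumericalType n where
  m := fun i => T.m (σ i)
  a := fun i j => T.a (σ i) (σ j)
  w := fun i => T.w (σ i)
  g := fun i => T.g (σ i)
  pos := T.pos
  m_pos := fun i => T.m_pos _
  w_pos := fun i => T.w_pos _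
  g_nonneg := fun i => T.g_nonneg _
  symm := Matrix.IsSymm.ext (fun i j => T.symm.apply (σ i) (σ j))
  offDiag_nonneg := fun i j hij => T.offDiag_nonneg _ _ (fun he => hij (σ.injective he))
  connected := by
    intro I hI hI'
    classical
    have h1 : (I.image σ).Nonempty := hI.image _
    have h2 : I.image σ ≠ Finset.univ := by
      intro hu
      apply hI'
      rw [Finset.eq_univ_iff_forall]
      intro x
      have : σ x ∈ I.image σ := hu ▸ Finset.mem_univ _
      obtain ⟨y, hy, hxy⟩ := Finset.mem_image.mp this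
      exact σ.injective hxy ▸ hy
    obtain ⟨i', hi', j', hj', hij⟩ := T.connected _ h1 h2
    obtain ⟨i, hi, rfl⟩ := Finset.mem_image.mp hi'
    refine ⟨i, hi, σ.symm j', ?_, ?_⟩
    · intro hj
      apply hj'
      exact Finset.mem_image.mpr ⟨σ.symm j', hj, σ.apply_symm_apply j'⟩
    · show T.a (σ i) (σ (σ.symm j')) ≠ 0
      rw [σ.apply_symm_apply]
      exact hij
  mulVec_m := by
    funext i
    show ∑ j : Fin n, T.a (σ i) (σ j) * T.m (σ j) = 0
    have e1 : ∑ j : Fin n, T.a (σ i) (σ j) * T.m (σ j) = ∑ k : Fin n, T.a (σ i) k * T.m k :=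
      Equiv.sum_comp σ (fun k => T.a (σ i) k * T.m k)
    rw [e1]
    exact Groth.Agent.Lib.ModelsH5.row_sum T (σ i)
  w_dvd := fun i j => T.w_dvd _ _

theorem genus_reindex {n : ℕ} (T : NumericalType n) (σ : Equiv.Perm (Fin n)) :
    (reindex T σ).genus = T.genus := by
  show 1 + (∑ i, T.m (σ i) * T.w (σ i) * (T.g (σ i) - 1)) -
      (∑ i, T.m (σ i) * T.a (σ i) (σ i)) / 2 =
    1 + (∑ i, T.m i * T.w i * (T.g i - 1)) - (∑ i, T.m i * T.a i i) / 2
  have e1 : ∑ i, T.m (σ i) * T.w (σ i) * (T.g (σ i) - 1) = ∑ i, T.m i * T.w i * (T.g i - 1) :=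
    Equiv.sum_comp σ (fun k => T.m k * T.w k * (T.g k - 1))
  have e2 : ∑ i, T.m (σ i) * T.a (σ i) (σ i) = ∑ i, T.m i * T.a i i :=
    Equiv.sum_comp σ (fun k => T.m k * T.a k k)
  rw [e1, e2]

theorem pic_reindex_inj {n : ℕ} (T : NumericalType n) (σ : Equiv.Perm (Fin n)) :
    ∃ f : T.Pic →ₗ[ℤ] (reindex T σ).Pic, Function.Injective f := by
  have hF : ∀ u : Fin n → ℤ, LinearMap.funLeft ℤ ℤ σ (Matrix.mulVecLin T.picMatrix u) =
      Matrix.mulVecLin (reindex T σ).picMatrix (fun j => u (σ j)) := by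
    intro u
    funext i
    show ∑ k : Fin n, T.a (σ i) k / T.w (σ i) * u k =
      ∑ j : Fin n, T.a (σ i) (σ j) / T.w (σ i) * u (σ j)
    exact (Equiv.sum_comp σ (fun k => T.a (σ i) k / T.w (σ i) * u k)).symm
  have hle : LinearMap.range (Matrix.mulVecLin T.picMatrix) ≤
      (LinearMap.range (Matrix.mulVecLin (reindex T σ).picMatrix)).comap
        (LinearMap.funLeft ℤ ℤ σ) := by
    rintro _ ⟨u, rfl⟩
    show LinearMap.funLeft ℤ ℤ σ (Matrix.mulVecLin T.picMatrix u) ∈
      LinearMap.range (Matrix.mulVecLin (reindex T σ).picMatrix)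
    rw [hF u]
    exact LinearMap.mem_range_self _ _
  refine ⟨Submodule.mapQ _ _ (LinearMap.funLeft ℤ ℤ σ) hle, ?_⟩
  rw [injective_iff_map_eq_zero]
  intro x hx
  obtain ⟨v, rfl⟩ := Submodule.Quotient.mk_surjective _ x
  rw [Submodule.mapQ_apply, Submodule.Quotient.mk_eq_zero] at hx
  obtain ⟨u', hu'⟩ := hx
  rw [Submodule.Quotient.mk_eq_zero]
  refine ⟨fun k => u' (σ.symm k), ?_⟩
  have h1 := hF (fun k => u' (σ.symm k))
  simp only [Equiv.symm_apply_apply] at h1
  rw [hu'] at h1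
  funext k
  have h2 := congrFun h1 (σ.symm k)
  simpa [LinearMap.funLeft_apply] using h2

theorem equiv_int_of_injective (M : Type*) [AddCommGroup M] [Nontrivial M] (φ : M →ₗ[ℤ] ℤ)
    (hφ : Function.Injective φ) : Nonempty (M ≃+ ℤ) := by
  haveI := IsPrincipalIdealRing.principal (LinearMap.range φ : Ideal ℤ)
  obtain ⟨a, ha⟩ := Submodule.IsPrincipal.principal (LinearMap.range φ)
  have ha0 : a ≠ 0 := by
    rintro rfl
    obtain ⟨x, y, hxy⟩ := exists_pair_ne M
    apply hxy
    apply hφ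
    have hx : φ x ∈ LinearMap.range φ := LinearMap.mem_range_self φ x
    have hy : φ y ∈ LinearMap.range φ := LinearMap.mem_range_self φ y
    rw [ha, Submodule.mem_span_singleton] at hx hy
    obtain ⟨c, hc⟩ := hx
    obtain ⟨d, hd⟩ := hy
    rw [← hc, ← hd, smul_zero, smul_zero]
  exact ⟨((LinearEquiv.ofInjective φ hφ).trans ((LinearEquiv.ofEq _ _ ha).trans
    (LinearEquiv.toSpanNonzeroSingleton ℤ ℤ a ha0).symm)).toAddEquiv⟩

theorem pic_one (T : NumericalType 1) : Nonempty (T.Pic ≃+ ℤ) := by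
  have ha : T.a 0 0 = 0 := by
    have := Groth.Agent.Lib.ModelsH5.row_sum T 0
    rw [Fin.sum_univ_one] at this
    rcases mul_eq_zero.mp this with h | h
    · exact h
    · exact absurd h (T.m_pos 0).ne'
  have hP : T.picMatrix = 0 := by
    ext i j
    show T.a i j / T.w i = 0
    rw [Subsingleton.elim i 0, Subsingleton.elim j 0, ha, Int.zero_ediv]
  have hbot : LinearMap.range (Matrix.mulVecLin T.picMatrix) = ⊥ := by
    rw [hP, Matrix.mulVecLin_zero, LinearMap.range_zero]
  exact ⟨((Submodule.quotEquivOfEqBot _ hbot).trans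
    (LinearEquiv.funUnique (Fin 1) ℤ ℤ)).toAddEquiv⟩

theorem main2181 : ∀ (n : ℕ) (T : NumericalType n), T.genus ≤ 0 → Nonempty (T.Pic ≃+ ℤ) := by
  intro n
  induction n with
  | zero => intro T; exact absurd T.pos (lt_irrefl 0)
  | succ k ih =>
    intro T hg
    rcases Nat.eq_zero_or_pos k with rfl | hk
    · exact pic_one T
    · obtain ⟨k', rfl⟩ : ∃ k', k = k' + 1 := ⟨k - 1, by omega⟩
      have hnm : ¬ T.IsMinimal := fun hmin => by
        have := Groth.Agent.Lib.ModelsH5.one_le_genus T hmin (by omega)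
        omega
      simp only [NumericalType.IsMinimal, not_forall, not_not] at hnm
      obtain ⟨i, hi⟩ := hnm
      obtain ⟨σ, hσ⟩ : ∃ σ : Equiv.Perm (Fin (k' + 1 + 1)), σ (Fin.last (k' + 1)) = i :=
        ⟨Equiv.swap (Fin.last (k' + 1)) i, Equiv.swap_apply_left _ _⟩
      have hl : (reindex T σ).IsMinusOne (Fin.last (k' + 1)) := by
        show T.g (σ (Fin.last (k' + 1))) = 0 ∧
          T.a (σ (Fin.last (k' + 1))) (σ (Fin.last (k' + 1))) = -T.w (σ (Fin.last (k' + 1)))
        rw [hσ]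
        exact hi
      obtain ⟨⟨T', hT'⟩, hgen⟩ := main2175 (reindex T σ) hl
      have hg' : T'.genus ≤ 0 := by
        rw [hgen T' hT', genus_reindex]
        exact hg
      obtain ⟨e'⟩ := ih T' hg'
      obtain ⟨f, hfinj, -⟩ := main2180 (reindex T σ) hl T' hT'
      obtain ⟨f0, hf0⟩ := pic_reindex_inj T σ
      haveI : Nontrivial T.Pic := Module.nontrivial_of_finrank_pos (R := ℤ)
        (by rw [Groth.Agent.Lib.PicRank.main T]; exact one_pos)
      refine equiv_int_of_injective T.Pic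
        ((e'.toAddMonoidHom.comp (f.comp f0.toAddMonoidHom)).toIntLinearMap) ?_
      rw [AddMonoidHom.coe_toIntLinearMap]
      exact e'.injective.comp (hfinj.comp hf0)

end Groth.Agent.Lib.ModelsContrH4
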