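import Mathlib
import Groth.Prelude.Def_Models
import Groth.Agent.Lib.Models4_helper5

set_option autoImplicit false
open Finset
open Models Models.NumericalType

namespace Groth.Agent.Lib.ModelsH5

theorem g1n4_branch3 (T : Models.NumericalType 4) (hmin : T.IsMinimal) (hg : T.genus = 1)
    (P01 P10 : ℤ) (hP01 : T.a 0 1 = T.w 0 * P01) (hP10 : T.a 1 0 = T.w 1 * P10)
    (h1 : P01 = 1) (h2 : P10 = 2) :
    (∀ i, T.g i = 0) ∧ ∃ (σ : Equiv.Perm (Fin 4)) (m w : ℤ),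
      ((T.m (σ 0) = m ∧ T.m (σ 1) = m ∧ T.m (σ 2) = m ∧ T.m (σ 3) = m ∧ T.w (σ 0) = w ∧ T.w (σ 1) = w ∧ T.w (σ 2) = w ∧ T.w (σ 3) = w ∧ T.a (σ 0) (σ 0) = -2 * w ∧ T.a (σ 0) (σ 1) = w ∧ T.a (σ 0) (σ 2) = 0 ∧ T.a (σ 0) (σ 3) = w ∧ T.a (σ 1) (σ 1) = -2 * w ∧ T.a (σ 1) (σ 2) = w ∧ T.a (σ 1) (σ 3) = 0 ∧ T.a (σ 2) (σ 2) = -2 * w ∧ T.a (σ 2) (σ 3) = w ∧ T.a (σ 3) (σ 3) = -2 * w) ∨
      (T.m (σ 0) = 2 * m ∧ T.m (σ 1) = 2 * m ∧ T.m (σ 2) = 2 * m ∧ T.m (σ 3) = m ∧ T.w (σ 0) = w ∧ T.w (σ 1) = 2 * w ∧ T.w (σ 2) = 2 * w ∧ T.w (σ 3) = 4 * w ∧ T.a (σ 0) (σ 0) = -2 * w ∧ T.a (σ 0) (σ 1) = 2 * w ∧ T.a (σ 0) (σ 2) = 0 ∧ T.a (σ 0) (σ 3) = 0 ∧ T.a (σ 1) (σ 1) = -4 * w ∧ T.a (σ 1) (σ 2) = 2 * w ∧ T.a (σ 1) (σ 3) = 0 ∧ T.a (σ 2) (σ 2) = -4 * w ∧ T.a (σ 2) (σ 3) = 4 * w ∧ T.a (σ 3) (σ 3) = -8 * w) ∨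
      (T.m (σ 0) = m ∧ T.m (σ 1) = m ∧ T.m (σ 2) = m ∧ T.m (σ 3) = m ∧ T.w (σ 0) = w ∧ T.w (σ 1) = 2 * w ∧ T.w (σ 2) = 2 * w ∧ T.w (σ 3) = w ∧ T.a (σ 0) (σ 0) = -2 * w ∧ T.a (σ 0) (σ 1) = 2 * w ∧ T.a (σ 0) (σ 2) = 0 ∧ T.a (σ 0) (σ 3) = 0 ∧ T.a (σ 1) (σ 1) = -4 * w ∧ T.a (σ 1) (σ 2) = 2 * w ∧ T.a (σ 1) (σ 3) = 0 ∧ T.a (σ 2) (σ 2) = -4 * w ∧ T.a (σ 2) (σ 3) = 2 * w ∧ T.a (σ 3) (σ 3) = -2 * w) ∨
      (T.m (σ 0) = m ∧ T.m (σ 1) = 2 * m ∧ T.m (σ 2) = 2 * m ∧ T.m (σ 3) = m ∧ T.w (σ 0) = 2 * w ∧ T.w (σ 1) = w ∧ T.w (σ 2) = w ∧ T.w (σ 3) = 2 * w ∧ T.a (σ 0) (σ 0) = -4 * w ∧ T.a (σ 0) (σ 1) = 2 * w ∧ T.a (σ 0) (σ 2) = 0 ∧ T.a (σ 0) (σ 3) = 0 ∧ T.a (σ 1) (σ 1) = -2 * w ∧ T.a (σ 1) (σ 2) = w ∧ T.a (σ 1) (σ 3) = 0 ∧ T.a (σ 2) (σ 2) = -2 * w ∧ T.a (σ 2) (σ 3) = 2 * w ∧ T.a (σ 3) (σ 3) = -4 * w) ∨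
      (T.m (σ 0) = 2 * m ∧ T.m (σ 1) = m ∧ T.m (σ 2) = m ∧ T.m (σ 3) = m ∧ T.w (σ 0) = w ∧ T.w (σ 1) = w ∧ T.w (σ 2) = w ∧ T.w (σ 3) = 2 * w ∧ T.a (σ 0) (σ 0) = -2 * w ∧ T.a (σ 0) (σ 1) = w ∧ T.a (σ 0) (σ 2) = w ∧ T.a (σ 0) (σ 3) = 2 * w ∧ T.a (σ 1) (σ 1) = -2 * w ∧ T.a (σ 1) (σ 2) = 0 ∧ T.a (σ 1) (σ 3) = 0 ∧ T.a (σ 2) (σ 2) = -2 * w ∧ T.a (σ 2) (σ 3) = 0 ∧ T.a (σ 3) (σ 3) = -4 * w) ∨
      (T.m (σ 0) = 2 * m ∧ T.m (σ 1) = m ∧ T.m (σ 2) = m ∧ T.m (σ 3) = 2 * m ∧ T.w (σ 0) = 2 * w ∧ T.w (σ 1) = 2 * w ∧ T.w (σ 2) = 2 * w ∧ T.w (σ 3) = w ∧ T.a (σ 0) (σ 0) = -4 * w ∧ T.a (σ 0) (σ 1) = 2 * w ∧ T.a (σ 0) (σ 2) = 2 * w ∧ T.a (σ 0) (σ 3) = 2 * w ∧ T.a (σ 1) (σ 1) = -4 * w ∧ T.a (σ 1) (σ 2) = 0 ∧ T.a (σ 1) (σ 3) = 0 ∧ T.a (σ 2) (σ 2) = -4 * w ∧ T.a (σ 2) (σ 3) = 0 ∧ T.a (σ 3) (σ 3) = -2 * w)) := by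
  subst h1 h2
  have hm2 := fun i => Groth.Agent.Lib.ModelsH5.genus_one_minusTwo T hmin (by norm_num) hg i
  refine ⟨fun i => (hm2 i).1, ?_⟩
  have hm_0 := T.m_pos 0
  have hw_0 := T.w_pos 0
  have D_0 : T.a 0 0 = -2 * T.w 0 := (hm2 0).2
  have hm_1 := T.m_pos 1
  have hw_1 := T.w_pos 1
  have D_1 : T.a 1 1 = -2 * T.w 1 := (hm2 1).2
  have hm_2 := T.m_pos 2
  have hw_2 := T.w_pos 2
  have D_2 : T.a 2 2 = -2 * T.w 2 := (hm2 2).2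
  have hm_3 := T.m_pos 3
  have hw_3 := T.w_pos 3
  have D_3 : T.a 3 3 = -2 * T.w 3 := (hm2 3).2
  obtain ⟨P02, hP02⟩ := T.w_dvd 0 2
  have Q02 : 0 ≤ P02 := by
    by_contra hneg
    push Not at hneg
    have h1 := mul_neg_of_pos_of_neg hw_0 hneg
    have h2 := T.offDiag_nonneg 0 2 (by decide)
    rw [hP02] at h2
    linarith
  have N02 : 0 ≤ P02 * T.m 2 := mul_nonneg Q02 hm_2.le
  obtain ⟨P03, hP03⟩ := T.w_dvd 0 3
  have Q03 : 0 ≤ P03 := by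
    by_contra hneg
    push Not at hneg
    have h1 := mul_neg_of_pos_of_neg hw_0 hneg
    have h2 := T.offDiag_nonneg 0 3 (by decide)
    rw [hP03] at h2
    linarith
  have N03 : 0 ≤ P03 * T.m 3 := mul_nonneg Q03 hm_3.le
  obtain ⟨P12, hP12⟩ := T.w_dvd 1 2
  have Q12 : 0 ≤ P12 := by
    by_contra hneg
    push Not at hneg
    have h1 := mul_neg_of_pos_of_neg hw_1 hneg
    have h2 := T.offDiag_nonneg 1 2 (by decide)
    rw [hP12] at h2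
    linarith
  have N12 : 0 ≤ P12 * T.m 2 := mul_nonneg Q12 hm_2.le
  obtain ⟨P13, hP13⟩ := T.w_dvd 1 3
  have Q13 : 0 ≤ P13 := by
    by_contra hneg
    push Not at hneg
    have h1 := mul_neg_of_pos_of_neg hw_1 hneg
    have h2 := T.offDiag_nonneg 1 3 (by decide)
    rw [hP13] at h2
    linarith
  have N13 : 0 ≤ P13 * T.m 3 := mul_nonneg Q13 hm_3.le
  obtain ⟨P20, hP20⟩ := T.w_dvd 2 0
  have Q20 : 0 ≤ P20 := by
    by_contra hneg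
    push Not at hneg
    have h1 := mul_neg_of_pos_of_neg hw_2 hneg
    have h2 := T.offDiag_nonneg 2 0 (by decide)
    rw [hP20] at h2
    linarith
  have N20 : 0 ≤ P20 * T.m 0 := mul_nonneg Q20 hm_0.le
  obtain ⟨P21, hP21⟩ := T.w_dvd 2 1
  have Q21 : 0 ≤ P21 := by
    by_contra hneg
    push Not at hneg
    have h1 := mul_neg_of_pos_of_neg hw_2 hneg
    have h2 := T.offDiag_nonneg 2 1 (by decide)
    rw [hP21] at h2
    linarith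
  have N21 : 0 ≤ P21 * T.m 1 := mul_nonneg Q21 hm_1.le
  obtain ⟨P23, hP23⟩ := T.w_dvd 2 3
  have Q23 : 0 ≤ P23 := by
    by_contra hneg
    push Not at hneg
    have h1 := mul_neg_of_pos_of_neg hw_2 hneg
    have h2 := T.offDiag_nonneg 2 3 (by decide)
    rw [hP23] at h2
    linarith
  have N23 : 0 ≤ P23 * T.m 3 := mul_nonneg Q23 hm_3.le
  obtain ⟨P30, hP30⟩ := T.w_dvd 3 0
  have Q30 : 0 ≤ P30 := by
    by_contra hneg
    push Not at hneg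
    have h1 := mul_neg_of_pos_of_neg hw_3 hneg
    have h2 := T.offDiag_nonneg 3 0 (by decide)
    rw [hP30] at h2
    linarith
  have N30 : 0 ≤ P30 * T.m 0 := mul_nonneg Q30 hm_0.le
  obtain ⟨P31, hP31⟩ := T.w_dvd 3 1
  have Q31 : 0 ≤ P31 := by
    by_contra hneg
    push Not at hneg
    have h1 := mul_neg_of_pos_of_neg hw_3 hneg
    have h2 := T.offDiag_nonneg 3 1 (by decide)
    rw [hP31] at h2
    linarith
  have N31 : 0 ≤ P31 * T.m 1 := mul_nonneg Q31 hm_1.le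
  obtain ⟨P32, hP32⟩ := T.w_dvd 3 2
  have Q32 : 0 ≤ P32 := by
    by_contra hneg
    push Not at hneg
    have h1 := mul_neg_of_pos_of_neg hw_3 hneg
    have h2 := T.offDiag_nonneg 3 2 (by decide)
    rw [hP32] at h2
    linarith
  have N32 : 0 ≤ P32 * T.m 2 := mul_nonneg Q32 hm_2.le
  have N01 : 0 ≤ (1 : ℤ) * T.m 1 := by positivity
  have N10 : 0 ≤ (2 : ℤ) * T.m 0 := by positivity
  have E0 : 2 * T.m 0 = 1 * T.m 1 + P02 * T.m 2 + P03 * T.m 3 := by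
    have r := Groth.Agent.Lib.ModelsH5.row_sum T 0
    rw [Fin.sum_univ_four, D_0, hP01, hP02, hP03] at r
    have : T.w 0 * (2 * T.m 0) = T.w 0 * (1 * T.m 1 + P02 * T.m 2 + P03 * T.m 3) := by linarith
    exact mul_left_cancel₀ hw_0.ne' this
  have E1 : 2 * T.m 1 = 2 * T.m 0 + P12 * T.m 2 + P13 * T.m 3 := by
    have r := Groth.Agent.Lib.ModelsH5.row_sum T 1
    rw [Fin.sum_univ_four, D_1, hP10, hP12, hP13] at r
    have : T.w 1 * (2 * T.m 1) = T.w 1 * (2 * T.m 0 + P12 * T.m 2 + P13 * T.m 3) := by linarith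
    exact mul_left_cancel₀ hw_1.ne' this
  have E2 : 2 * T.m 2 = P20 * T.m 0 + P21 * T.m 1 + P23 * T.m 3 := by
    have r := Groth.Agent.Lib.ModelsH5.row_sum T 2
    rw [Fin.sum_univ_four, D_2, hP20, hP21, hP23] at r
    have : T.w 2 * (2 * T.m 2) = T.w 2 * (P20 * T.m 0 + P21 * T.m 1 + P23 * T.m 3) := by linarith
    exact mul_left_cancel₀ hw_2.ne' this
  have E3 : 2 * T.m 3 = P30 * T.m 0 + P31 * T.m 1 + P32 * T.m 2 := by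
    have r := Groth.Agent.Lib.ModelsH5.row_sum T 3
    rw [Fin.sum_univ_four, D_3, hP30, hP31, hP32] at r
    have : T.w 3 * (2 * T.m 3) = T.w 3 * (P30 * T.m 0 + P31 * T.m 1 + P32 * T.m 2) := by linarith
    exact mul_left_cancel₀ hw_3.ne' this
  have S01 : T.w 0 * 1 = T.w 1 * 2 := by rw [← hP01, ← hP10]; exact (T.symm.apply 1 0)
  have S02 : T.w 0 * P02 = T.w 2 * P20 := by rw [← hP02, ← hP20]; exact (T.symm.apply 2 0)
  have S03 : T.w 0 * P03 = T.w 3 * P30 := by rw [← hP03, ← hP30]; exact (T.symm.apply 3 0)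
  have S12 : T.w 1 * P12 = T.w 2 * P21 := by rw [← hP12, ← hP21]; exact (T.symm.apply 2 1)
  have S13 : T.w 1 * P13 = T.w 3 * P31 := by rw [← hP13, ← hP31]; exact (T.symm.apply 3 1)
  have S23 : T.w 2 * P23 = T.w 3 * P32 := by rw [← hP23, ← hP32]; exact (T.symm.apply 3 2)
  rcases Groth.Agent.Lib.ModelsH5.pair_class T (by norm_num) 0 2 (by decide) (hm2 0) (hm2 2) P02 P20 hP02 hP20 with ⟨rfl, rfl⟩ | ⟨rfl, rfl⟩ | ⟨rfl, rfl⟩ | ⟨rfl, rfl⟩ | ⟨rfl, rfl⟩ | ⟨rfl, rfl⟩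
  ·
    rcases Groth.Agent.Lib.ModelsH5.pair_class T (by norm_num) 0 3 (by decide) (hm2 0) (hm2 3) P03 P30 hP03 hP30 with ⟨rfl, rfl⟩ | ⟨rfl, rfl⟩ | ⟨rfl, rfl⟩ | ⟨rfl, rfl⟩ | ⟨rfl, rfl⟩ | ⟨rfl, rfl⟩
    ·
      rcases Groth.Agent.Lib.ModelsH5.pair_class T (by norm_num) 1 2 (by decide) (hm2 1) (hm2 2) P12 P21 hP12 hP21 with ⟨rfl, rfl⟩ | ⟨rfl, rfl⟩ | ⟨rfl, rfl⟩ | ⟨rfl, rfl⟩ | ⟨rfl, rfl⟩ | ⟨rfl, rfl⟩
      ·
        rcases Groth.Agent.Lib.ModelsH5.pair_class T (by norm_num) 1 3 (by decide) (hm2 1) (hm2 3) P13 P31 hP13 hP31 with ⟨rfl, rfl⟩ | ⟨rfl, rfl⟩ | ⟨rfl, rfl⟩ | ⟨rfl, rfl⟩ | ⟨rfl, rfl⟩ | ⟨rfl, rfl⟩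
        · omega
        ·
          rcases Groth.Agent.Lib.ModelsH5.pair_class T (by norm_num) 2 3 (by decide) (hm2 2) (hm2 3) P23 P32 hP23 hP32 with ⟨rfl, rfl⟩ | ⟨rfl, rfl⟩ | ⟨rfl, rfl⟩ | ⟨rfl, rfl⟩ | ⟨rfl, rfl⟩ | ⟨rfl, rfl⟩
          · omega
          · omega
          ·
            exact ⟨(⟨![2, 3, 1, 0], ![3, 2, 0, 1], by decide, by decide⟩ : Equiv.Perm (Fin 4)), T.m 0, T.w 2, Or.inr (Or.inl ⟨(by omega : T.m 2 = 2 * T.m 0), (by omega : T.m 3 = 2 * T.m 0), (by omega : T.m 1 = 2 * T.m 0), (by omega : T.m 0 = T.m 0), (by omega : T.w 2 = T.w 2), (by omega : T.w 3 = 2 * T.w 2), (by omega : T.w 1 = 2 * T.w 2), (by omega : T.w 0 = 4 * T.w 2), (by omega : T.a 2 2 = -2 * T.w 2), (by omega : T.a 2 3 = 2 * T.w 2), (by omega : T.a 2 1 = 0), (by omega : T.a 2 0 = 0), (by omega : T.a 3 3 = -4 * T.w 2), (by omega : T.a 3 1 = 2 * T.w 2), (by omega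 : T.a 3 0 = 0), (by omega : T.a 1 1 = -4 * T.w 2), (by omega : T.a 1 0 = 4 * T.w 2), (by omega : T.a 0 0 = -8 * T.w 2)⟩)⟩
          ·
            exact ⟨(⟨![0, 1, 3, 2], ![0, 1, 3, 2], by decide, by decide⟩ : Equiv.Perm (Fin 4)), T.m 0, T.w 1, Or.inr (Or.inr (Or.inr (Or.inl ⟨(by omega : T.m 0 = T.m 0), (by omega : T.m 1 = 2 * T.m 0), (by omega : T.m 3 = 2 * T.m 0), (by omega : T.m 2 = T.m 0), (by omega : T.w 0 = 2 * T.w 1), (by omega : T.w 1 = T.w 1), (by omega : T.w 3 = T.w 1), (by omega : T.w 2 = 2 * T.w 1), (by omega : T.a 0 0 = -4 * T.w 1), (by omega : T.a 0 1 = 2 * T.w 1), (by omega : T.a 0 3 = 0), (by omega : T.a 0 2 = 0), (by omega : T.a 1 1 = -2 * T.w 1), (by omega : T.a 1 3 = T.w 1), (by omega : T.a 1 2 = 0), (by omega : T.a 3 3 = -2 * T.w 1), (by omega : T.a 3 2 = 2 * T.w 1), (by omega : T.a 2 2 = -4 * T.w 1)⟩)))⟩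
          · omega
          · omega
        ·
          rcases Groth.Agent.Lib.ModelsH5.pair_class T (by norm_num) 2 3 (by decide) (hm2 2) (hm2 3) P23 P32 hP23 hP32 with ⟨rfl, rfl⟩ | ⟨rfl, rfl⟩ | ⟨rfl, rfl⟩ | ⟨rfl, rfl⟩ | ⟨rfl, rfl⟩ | ⟨rfl, rfl⟩
          · omega
          · omega
          · omega
          · omega
          · omega
          · omega
        ·
          rcases Groth.Agent.Lib.ModelsH5.pair_class T (by norm_num) 2 3 (by decide) (hm2 2) (hm2 3) P23 P32 hP23 hP32 with ⟨rfl, rfl⟩ | ⟨rfl, rfl⟩ | ⟨rfl, rfl⟩ | ⟨rfl, rfl⟩ | ⟨rfl, rfl⟩ | ⟨rfl, rfl⟩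
          · omega
          · omega
          · omega
          · omega
          · omega
          · omega
        · omega
        · omega
      ·
        rcases Groth.Agent.Lib.ModelsH5.pair_class T (by norm_num) 1 3 (by decide) (hm2 1) (hm2 3) P13 P31 hP13 hP31 with ⟨rfl, rfl⟩ | ⟨rfl, rfl⟩ | ⟨rfl, rfl⟩ | ⟨rfl, rfl⟩ | ⟨rfl, rfl⟩ | ⟨rfl, rfl⟩
        ·
          rcases Groth.Agent.Lib.ModelsH5.pair_class T (by norm_num) 2 3 (by decide) (hm2 2) (hm2 3) P23 P32 hP23 hP32 with ⟨rfl, rfl⟩ | ⟨rfl, rfl⟩ | ⟨rfl, rfl⟩ | ⟨rfl, rfl⟩ | ⟨rfl, rfl⟩ | ⟨rfl, rfl⟩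
          · omega
          · omega
          ·
            exact ⟨(⟨![0, 1, 2, 3], ![0, 1, 2, 3], by decide, by decide⟩ : Equiv.Perm (Fin 4)), T.m 0, T.w 1, Or.inr (Or.inr (Or.inr (Or.inl ⟨(by omega : T.m 0 = T.m 0), (by omega : T.m 1 = 2 * T.m 0), (by omega : T.m 2 = 2 * T.m 0), (by omega : T.m 3 = T.m 0), (by omega : T.w 0 = 2 * T.w 1), (by omega : T.w 1 = T.w 1), (by omega : T.w 2 = T.w 1), (by omega : T.w 3 = 2 * T.w 1), (by omega : T.a 0 0 = -4 * T.w 1), (by omega : T.a 0 1 = 2 * T.w 1), (by omega : T.a 0 2 = 0), (by omega : T.a 0 3 = 0), (by omega : T.a 1 1 = -2 * T.w 1), (by omega : T.a 1 2 = T.w 1), (by omega : T.a 1 3 = 0), (by omega : T.a 2 2 = -2 * T.w 1), (by omega : T.a 2 3 = 2 * T.w 1), (by omega : T.a 3 3 = -4 * T.w 1)⟩)))⟩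
          ·
            exact ⟨(⟨![3, 2, 1, 0], ![3, 2, 1, 0], by decide, by decide⟩ : Equiv.Perm (Fin 4)), T.m 0, T.w 3, Or.inr (Or.inl ⟨(by omega : T.m 3 = 2 * T.m 0), (by omega : T.m 2 = 2 * T.m 0), (by omega : T.m 1 = 2 * T.m 0), (by omega : T.m 0 = T.m 0), (by omega : T.w 3 = T.w 3), (by omega : T.w 2 = 2 * T.w 3), (by omega : T.w 1 = 2 * T.w 3), (by omega : T.w 0 = 4 * T.w 3), (by omega : T.a 3 3 = -2 * T.w 3), (by omega : T.a 3 2 = 2 * T.w 3), (by omega : T.a 3 1 = 0), (by omega : T.a 3 0 = 0), (by omega : T.a 2 2 = -4 * T.w 3), (by omega : T.a 2 1 = 2 * T.w 3), (by omega : T.a 2 0 = 0), (by omega : T.a 1 1 = -4 * T.w 3), (by omega : T.a 1 0 = 4 * T.w 3), (by omega : T.a 0 0 = -8 * T.w 3)⟩)⟩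
          · omega
          · omega
        ·
          rcases Groth.Agent.Lib.ModelsH5.pair_class T (by norm_num) 2 3 (by decide) (hm2 2) (hm2 3) P23 P32 hP23 hP32 with ⟨rfl, rfl⟩ | ⟨rfl, rfl⟩ | ⟨rfl, rfl⟩ | ⟨rfl, rfl⟩ | ⟨rfl, rfl⟩ | ⟨rfl, rfl⟩
          ·
            exact ⟨(⟨![1, 2, 3, 0], ![3, 0, 1, 2], by decide, by decide⟩ : Equiv.Perm (Fin 4)), T.m 2, T.w 1, Or.inr (Or.inr (Or.inr (Or.inr (Or.inl ⟨(by omega : T.m 1 = 2 * T.m 2), (by omega : T.m 2 = T.m 2), (by omega : T.m 3 = T.m 2), (by omega : T.m 0 = T.m 2), (by omega : T.w 1 = T.w 1), (by omega : T.w 2 = T.w 1), (by omega : T.w 3 = T.w 1), (by omega : T.w 0 = 2 * T.w 1), (by omega : T.a 1 1 = -2 * T.w 1), (by omega : T.a 1 2 = T.w 1), (by omega : T.a 1 3 = T.w 1), (by omega : T.a 1 0 = 2 * T.w 1), (by omega : T.a 2 2 = -2 * T.w 1), (by omega : T.a 2 3 = 0), (by omega : T.a 2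 0 = 0), (by omega : T.a 3 3 = -2 * T.w 1), (by omega : T.a 3 0 = 0), (by omega : T.a 0 0 = -4 * T.w 1)⟩))))⟩
          · omega
          · omega
          · omega
          · omega
          · omega
        · omega
        · omega
        · omega
        · omega
      ·
        rcases Groth.Agent.Lib.ModelsH5.pair_class T (by norm_num) 1 3 (by decide) (hm2 1) (hm2 3) P13 P31 hP13 hP31 with ⟨rfl, rfl⟩ | ⟨rfl, rfl⟩ | ⟨rfl, rfl⟩ | ⟨rfl, rfl⟩ | ⟨rfl, rfl⟩ | ⟨rfl, rfl⟩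
        ·
          rcases Groth.Agent.Lib.ModelsH5.pair_class T (by norm_num) 2 3 (by decide) (hm2 2) (hm2 3) P23 P32 hP23 hP32 with ⟨rfl, rfl⟩ | ⟨rfl, rfl⟩ | ⟨rfl, rfl⟩ | ⟨rfl, rfl⟩ | ⟨rfl, rfl⟩ | ⟨rfl, rfl⟩
          · omega
          · omega
          · omega
          · omega
          · omega
          · omega
        · omega
        · omega
        · omega
        · omega
        · omega
      ·
        rcases Groth.Agent.Lib.ModelsH5.pair_class T (by norm_num) 1 3 (by decide) (hm2 1) (hm2 3) P13 P31 hP13 hP31 with ⟨rfl, rfl⟩ | ⟨rfl, rfl⟩ | ⟨rfl, rfl⟩ | ⟨rfl, rfl⟩ | ⟨rfl, rfl⟩ | ⟨rfl, rfl⟩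
        ·
          rcases Groth.Agent.Lib.ModelsH5.pair_class T (by norm_num) 2 3 (by decide) (hm2 2) (hm2 3) P23 P32 hP23 hP32 with ⟨rfl, rfl⟩ | ⟨rfl, rfl⟩ | ⟨rfl, rfl⟩ | ⟨rfl, rfl⟩ | ⟨rfl, rfl⟩ | ⟨rfl, rfl⟩
          · omega
          · omega
          · omega
          · omega
          · omega
          · omega
        · omega
        · omega
        · omega
        · omega
        · omega
      · omega
      · omega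
    ·
      rcases Groth.Agent.Lib.ModelsH5.pair_class T (by norm_num) 1 2 (by decide) (hm2 1) (hm2 2) P12 P21 hP12 hP21 with ⟨rfl, rfl⟩ | ⟨rfl, rfl⟩ | ⟨rfl, rfl⟩ | ⟨rfl, rfl⟩ | ⟨rfl, rfl⟩ | ⟨rfl, rfl⟩
      ·
        rcases Groth.Agent.Lib.ModelsH5.pair_class T (by norm_num) 1 3 (by decide) (hm2 1) (hm2 3) P13 P31 hP13 hP31 with ⟨rfl, rfl⟩ | ⟨rfl, rfl⟩ | ⟨rfl, rfl⟩ | ⟨rfl, rfl⟩ | ⟨rfl, rfl⟩ | ⟨rfl, rfl⟩
        ·
          rcases Groth.Agent.Lib.ModelsH5.pair_class T (by norm_num) 2 3 (by decide) (hm2 2) (hm2 3) P23 P32 hP23 hP32 with ⟨rfl, rfl⟩ | ⟨rfl, rfl⟩ | ⟨rfl, rfl⟩ | ⟨rfl, rfl⟩ | ⟨rfl, rfl⟩ | ⟨rfl, rfl⟩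
          · omega
          · omega
          ·
            exact ⟨(⟨![1, 0, 3, 2], ![1, 0, 3, 2], by decide, by decide⟩ : Equiv.Perm (Fin 4)), T.m 1, T.w 1, Or.inr (Or.inr (Or.inl ⟨(by omega : T.m 1 = T.m 1), (by omega : T.m 0 = T.m 1), (by omega : T.m 3 = T.m 1), (by omega : T.m 2 = T.m 1), (by omega : T.w 1 = T.w 1), (by omega : T.w 0 = 2 * T.w 1), (by omega : T.w 3 = 2 * T.w 1), (by omega : T.w 2 = T.w 1), (by omega : T.a 1 1 = -2 * T.w 1), (by omega : T.a 1 0 = 2 * T.w 1), (by omega : T.a 1 3 = 0), (by omega : T.a 1 2 = 0), (by omega : T.a 0 0 = -4 * T.w 1), (by omega : T.a 0 3 = 2 * T.w 1), (by omega : T.a 0 2 = 0), (by omega : T.a 3 3 = -4 * T.w 1), (by omega : T.a 3 2 = 2 * T.w 1), (by omega : T.a 2 2 = -2 * T.w 1)⟩))⟩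
          ·
            exact ⟨(⟨![1, 0, 3, 2], ![1, 0, 3, 2], by decide, by decide⟩ : Equiv.Perm (Fin 4)), T.m 2, T.w 1, Or.inr (Or.inl ⟨(by omega : T.m 1 = 2 * T.m 2), (by omega : T.m 0 = 2 * T.m 2), (by omega : T.m 3 = 2 * T.m 2), (by omega : T.m 2 = T.m 2), (by omega : T.w 1 = T.w 1), (by omega : T.w 0 = 2 * T.w 1), (by omega : T.w 3 = 2 * T.w 1), (by omega : T.w 2 = 4 * T.w 1), (by omega : T.a 1 1 = -2 * T.w 1), (by omega : T.a 1 0 = 2 * T.w 1), (by omega : T.a 1 3 = 0), (by omega : T.a 1 2 = 0), (by omega : T.a 0 0 = -4 * T.w 1), (by omega : T.a 0 3 = 2 * T.w 1), (by omega : T.a 0 2 = 0), (by omega : T.a 3 3 = -4 * T.w 1), (by omega : T.a 3 2 = 4 * T.w 1), (by omega : T.a 2 2 = -8 * T.w 1)⟩)⟩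
          · omega
          · omega
        · omega
        · omega
        · omega
        · omega
        · omega
      ·
        rcases Groth.Agent.Lib.ModelsH5.pair_class T (by norm_num) 1 3 (by decide) (hm2 1) (hm2 3) P13 P31 hP13 hP31 with ⟨rfl, rfl⟩ | ⟨rfl, rfl⟩ | ⟨rfl, rfl⟩ | ⟨rfl, rfl⟩ | ⟨rfl, rfl⟩ | ⟨rfl, rfl⟩
        ·
          rcases Groth.Agent.Lib.ModelsH5.pair_class T (by norm_num) 2 3 (by decide) (hm2 2) (hm2 3) P23 P32 hP23 hP32 with ⟨rfl, rfl⟩ | ⟨rfl, rfl⟩ | ⟨rfl, rfl⟩ | ⟨rfl, rfl⟩ | ⟨rfl, rfl⟩ | ⟨rfl, rfl⟩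
          · omega
          · omega
          · omega
          · omega
          · omega
          · omega
        · omega
        · omega
        · omega
        · omega
        · omega
      · omega
      · omega
      · omega
      · omega
    ·
      rcases Groth.Agent.Lib.ModelsH5.pair_class T (by norm_num) 1 2 (by decide) (hm2 1) (hm2 2) P12 P21 hP12 hP21 with ⟨rfl, rfl⟩ | ⟨rfl, rfl⟩ | ⟨rfl, rfl⟩ | ⟨rfl, rfl⟩ | ⟨rfl, rfl⟩ | ⟨rfl, rfl⟩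
      ·
        rcases Groth.Agent.Lib.ModelsH5.pair_class T (by norm_num) 1 3 (by decide) (hm2 1) (hm2 3) P13 P31 hP13 hP31 with ⟨rfl, rfl⟩ | ⟨rfl, rfl⟩ | ⟨rfl, rfl⟩ | ⟨rfl, rfl⟩ | ⟨rfl, rfl⟩ | ⟨rfl, rfl⟩
        ·
          rcases Groth.Agent.Lib.ModelsH5.pair_class T (by norm_num) 2 3 (by decide) (hm2 2) (hm2 3) P23 P32 hP23 hP32 with ⟨rfl, rfl⟩ | ⟨rfl, rfl⟩ | ⟨rfl, rfl⟩ | ⟨rfl, rfl⟩ | ⟨rfl, rfl⟩ | ⟨rfl, rfl⟩
          · omega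
          · omega
          · omega
          · omega
          · omega
          · omega
        · omega
        · omega
        · omega
        · omega
        · omega
      · omega
      · omega
      · omega
      · omega
      · omega
    ·
      rcases Groth.Agent.Lib.ModelsH5.pair_class T (by norm_num) 1 2 (by decide) (hm2 1) (hm2 2) P12 P21 hP12 hP21 with ⟨rfl, rfl⟩ | ⟨rfl, rfl⟩ | ⟨rfl, rfl⟩ | ⟨rfl, rfl⟩ | ⟨rfl, rfl⟩ | ⟨rfl, rfl⟩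
      ·
        rcases Groth.Agent.Lib.ModelsH5.pair_class T (by norm_num) 1 3 (by decide) (hm2 1) (hm2 3) P13 P31 hP13 hP31 with ⟨rfl, rfl⟩ | ⟨rfl, rfl⟩ | ⟨rfl, rfl⟩ | ⟨rfl, rfl⟩ | ⟨rfl, rfl⟩ | ⟨rfl, rfl⟩
        ·
          rcases Groth.Agent.Lib.ModelsH5.pair_class T (by norm_num) 2 3 (by decide) (hm2 2) (hm2 3) P23 P32 hP23 hP32 with ⟨rfl, rfl⟩ | ⟨rfl, rfl⟩ | ⟨rfl, rfl⟩ | ⟨rfl, rfl⟩ | ⟨rfl, rfl⟩ | ⟨rfl, rfl⟩
          · omega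
          · omega
          · omega
          · omega
          · omega
          · omega
        · omega
        · omega
        · omega
        · omega
        · omega
      · omega
      · omega
      · omega
      · omega
      · omega
    · omega
    · omega
  ·
    rcases Groth.Agent.Lib.ModelsH5.pair_class T (by norm_num) 0 3 (by decide) (hm2 0) (hm2 3) P03 P30 hP03 hP30 with ⟨rfl, rfl⟩ | ⟨rfl, rfl⟩ | ⟨rfl, rfl⟩ | ⟨rfl, rfl⟩ | ⟨rfl, rfl⟩ | ⟨rfl, rfl⟩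
    ·
      rcases Groth.Agent.Lib.ModelsH5.pair_class T (by norm_num) 1 2 (by decide) (hm2 1) (hm2 2) P12 P21 hP12 hP21 with ⟨rfl, rfl⟩ | ⟨rfl, rfl⟩ | ⟨rfl, rfl⟩ | ⟨rfl, rfl⟩ | ⟨rfl, rfl⟩ | ⟨rfl, rfl⟩
      ·
        rcases Groth.Agent.Lib.ModelsH5.pair_class T (by norm_num) 1 3 (by decide) (hm2 1) (hm2 3) P13 P31 hP13 hP31 with ⟨rfl, rfl⟩ | ⟨rfl, rfl⟩ | ⟨rfl, rfl⟩ | ⟨rfl, rfl⟩ | ⟨rfl, rfl⟩ | ⟨rfl, rfl⟩
        ·
          rcases Groth.Agent.Lib.ModelsH5.pair_class T (by norm_num) 2 3 (by decide) (hm2 2) (hm2 3) P23 P32 hP23 hP32 with ⟨rfl, rfl⟩ | ⟨rfl, rfl⟩ | ⟨rfl, rfl⟩ | ⟨rfl, rfl⟩ | ⟨rfl, rfl⟩ | ⟨rfl, rfl⟩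
          · omega
          · omega
          ·
            exact ⟨(⟨![1, 0, 2, 3], ![1, 0, 2, 3], by decide, by decide⟩ : Equiv.Perm (Fin 4)), T.m 3, T.w 1, Or.inr (Or.inl ⟨(by omega : T.m 1 = 2 * T.m 3), (by omega : T.m 0 = 2 * T.m 3), (by omega : T.m 2 = 2 * T.m 3), (by omega : T.m 3 = T.m 3), (by omega : T.w 1 = T.w 1), (by omega : T.w 0 = 2 * T.w 1), (by omega : T.w 2 = 2 * T.w 1), (by omega : T.w 3 = 4 * T.w 1), (by omega : T.a 1 1 = -2 * T.w 1), (by omega : T.a 1 0 = 2 * T.w 1), (by omega : T.a 1 2 = 0), (by omega : T.a 1 3 = 0), (by omega : T.a 0 0 = -4 * T.w 1), (by omega : T.a 0 2 = 2 * T.w 1), (by omega : T.a 0 3 = 0), (by omega : T.a 2 2 = -4 * T.w 1), (by omega : T.a 2 3 = 4 * T.w 1), (by omega : T.a 3 3 = -8 * T.w 1)⟩)⟩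
          ·
            exact ⟨(⟨![1, 0, 2, 3], ![1, 0, 2, 3], by decide, by decide⟩ : Equiv.Perm (Fin 4)), T.m 1, T.w 1, Or.inr (Or.inr (Or.inl ⟨(by omega : T.m 1 = T.m 1), (by omega : T.m 0 = T.m 1), (by omega : T.m 2 = T.m 1), (by omega : T.m 3 = T.m 1), (by omega : T.w 1 = T.w 1), (by omega : T.w 0 = 2 * T.w 1), (by omega : T.w 2 = 2 * T.w 1), (by omega : T.w 3 = T.w 1), (by omega : T.a 1 1 = -2 * T.w 1), (by omega : T.a 1 0 = 2 * T.w 1), (by omega : T.a 1 2 = 0), (by omega : T.a 1 3 = 0), (by omega : T.a 0 0 = -4 * T.w 1), (by omega : T.a 0 2 = 2 * T.w 1), (by omega : T.a 0 3 = 0), (by omega : T.a 2 2 = -4 * T.w 1), (by omega : T.a 2 3 = 2 * T.w 1), (by omega : T.a 3 3 = -2 * T.w 1)⟩))⟩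
          · omega
          · omega
        ·
          rcases Groth.Agent.Lib.ModelsH5.pair_class T (by norm_num) 2 3 (by decide) (hm2 2) (hm2 3) P23 P32 hP23 hP32 with ⟨rfl, rfl⟩ | ⟨rfl, rfl⟩ | ⟨rfl, rfl⟩ | ⟨rfl, rfl⟩ | ⟨rfl, rfl⟩ | ⟨rfl, rfl⟩
          · omega
          · omega
          · omega
          · omega
          · omega
          · omega
        · omega
        · omega
        · omega
        · omega
      · omega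
      · omega
      · omega
      · omega
      · omega
    ·
      rcases Groth.Agent.Lib.ModelsH5.pair_class T (by norm_num) 1 2 (by decide) (hm2 1) (hm2 2) P12 P21 hP12 hP21 with ⟨rfl, rfl⟩ | ⟨rfl, rfl⟩ | ⟨rfl, rfl⟩ | ⟨rfl, rfl⟩ | ⟨rfl, rfl⟩ | ⟨rfl, rfl⟩
      ·
        rcases Groth.Agent.Lib.ModelsH5.pair_class T (by norm_num) 1 3 (by decide) (hm2 1) (hm2 3) P13 P31 hP13 hP31 with ⟨rfl, rfl⟩ | ⟨rfl, rfl⟩ | ⟨rfl, rfl⟩ | ⟨rfl, rfl⟩ | ⟨rfl, rfl⟩ | ⟨rfl, rfl⟩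
        ·
          rcases Groth.Agent.Lib.ModelsH5.pair_class T (by norm_num) 2 3 (by decide) (hm2 2) (hm2 3) P23 P32 hP23 hP32 with ⟨rfl, rfl⟩ | ⟨rfl, rfl⟩ | ⟨rfl, rfl⟩ | ⟨rfl, rfl⟩ | ⟨rfl, rfl⟩ | ⟨rfl, rfl⟩
          ·
            exact ⟨(⟨![0, 2, 3, 1], ![0, 3, 1, 2], by decide, by decide⟩ : Equiv.Perm (Fin 4)), T.m 2, T.w 1, Or.inr (Or.inr (Or.inr (Or.inr (Or.inr (⟨(by omega : T.m 0 = 2 * T.m 2), (by omega : T.m 2 = T.m 2), (by omega : T.m 3 = T.m 2), (by omega : T.m 1 = 2 * T.m 2), (by omega : T.w 0 = 2 * T.w 1), (by omega : T.w 2 = 2 * T.w 1), (by omega : T.w 3 = 2 * T.w 1), (by omega : T.w 1 = T.w 1), (by omega : T.a 0 0 = -4 * T.w 1), (by omega : T.a 0 2 = 2 * T.w 1), (by omega : T.a 0 3 = 2 * T.w 1), (by omega : T.a 0 1 = 2 * T.w 1), (by omega : T.a 2 2 = -4 * T.w 1), (by omega : T.a 2 3 = 0), (by omega : T.a 2 1 = 0), (by omega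 : T.a 3 3 = -4 * T.w 1), (by omega : T.a 3 1 = 0), (by omega : T.a 1 1 = -2 * T.w 1)⟩)))))⟩
          · omega
          · omega
          · omega
          · omega
          · omega
        · omega
        · omega
        · omega
        · omega
        · omega
      · omega
      · omega
      · omega
      · omega
      · omega
    · omega
    · omega
    · omega
    · omega
  ·
    rcases Groth.Agent.Lib.ModelsH5.pair_class T (by norm_num) 0 3 (by decide) (hm2 0) (hm2 3) P03 P30 hP03 hP30 with ⟨rfl, rfl⟩ | ⟨rfl, rfl⟩ | ⟨rfl, rfl⟩ | ⟨rfl, rfl⟩ | ⟨rfl, rfl⟩ | ⟨rfl, rfl⟩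
    ·
      rcases Groth.Agent.Lib.ModelsH5.pair_class T (by norm_num) 1 2 (by decide) (hm2 1) (hm2 2) P12 P21 hP12 hP21 with ⟨rfl, rfl⟩ | ⟨rfl, rfl⟩ | ⟨rfl, rfl⟩ | ⟨rfl, rfl⟩ | ⟨rfl, rfl⟩ | ⟨rfl, rfl⟩
      ·
        rcases Groth.Agent.Lib.ModelsH5.pair_class T (by norm_num) 1 3 (by decide) (hm2 1) (hm2 3) P13 P31 hP13 hP31 with ⟨rfl, rfl⟩ | ⟨rfl, rfl⟩ | ⟨rfl, rfl⟩ | ⟨rfl, rfl⟩ | ⟨rfl, rfl⟩ | ⟨rfl, rfl⟩
        ·
          rcases Groth.Agent.Lib.ModelsH5.pair_class T (by norm_num) 2 3 (by decide) (hm2 2) (hm2 3) P23 P32 hP23 hP32 with ⟨rfl, rfl⟩ | ⟨rfl, rfl⟩ | ⟨rfl, rfl⟩ | ⟨rfl, rfl⟩ | ⟨rfl, rfl⟩ | ⟨rfl, rfl⟩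
          · omega
          · omega
          · omega
          · omega
          · omega
          · omega
        · omega
        · omega
        · omega
        · omega
        · omega
      · omega
      · omega
      · omega
      · omega
      · omega
    · omega
    · omega
    · omega
    · omega
    · omega
  ·
    rcases Groth.Agent.Lib.ModelsH5.pair_class T (by norm_num) 0 3 (by decide) (hm2 0) (hm2 3) P03 P30 hP03 hP30 with ⟨rfl, rfl⟩ | ⟨rfl, rfl⟩ | ⟨rfl, rfl⟩ | ⟨rfl, rfl⟩ | ⟨rfl, rfl⟩ | ⟨rfl, rfl⟩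
    ·
      rcases Groth.Agent.Lib.ModelsH5.pair_class T (by norm_num) 1 2 (by decide) (hm2 1) (hm2 2) P12 P21 hP12 hP21 with ⟨rfl, rfl⟩ | ⟨rfl, rfl⟩ | ⟨rfl, rfl⟩ | ⟨rfl, rfl⟩ | ⟨rfl, rfl⟩ | ⟨rfl, rfl⟩
      ·
        rcases Groth.Agent.Lib.ModelsH5.pair_class T (by norm_num) 1 3 (by decide) (hm2 1) (hm2 3) P13 P31 hP13 hP31 with ⟨rfl, rfl⟩ | ⟨rfl, rfl⟩ | ⟨rfl, rfl⟩ | ⟨rfl, rfl⟩ | ⟨rfl, rfl⟩ | ⟨rfl, rfl⟩
        ·
          rcases Groth.Agent.Lib.ModelsH5.pair_class T (by norm_num) 2 3 (by decide) (hm2 2) (hm2 3) P23 P32 hP23 hP32 with ⟨rfl, rfl⟩ | ⟨rfl, rfl⟩ | ⟨rfl, rfl⟩ | ⟨rfl, rfl⟩ | ⟨rfl, rfl⟩ | ⟨rfl, rfl⟩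
          · omega
          · omega
          · omega
          · omega
          · omega
          · omega
        · omega
        · omega
        · omega
        · omega
        · omega
      · omega
      · omega
      · omega
      · omega
      · omega
    · omega
    · omega
    · omega
    · omega
    · omega
  · omega
  · omega

end Groth.Agent.Lib.ModelsH5
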