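import Mathlib
import Groth.Prelude

set_option autoImplicit false
set_option linter.style.haveILetI false
set_option linter.unusedVariables false

universe u

namespace Groth.Agent.Lib.ModifKNH4

section generic

variable {A : Type*} [CommRing A] (π : A) {X : Type*} [AddCommGroup X] [Module A X]

theorem mem_piM (x : X) :
    x ∈ Ideal.span {π} • (⊤ : Submodule A X) ↔ ∃ m : X, π • m = x := by
  rw [Submodule.ideal_span_singleton_smul, Submodule.mem_smul_pointwise_iff_exists]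
  constructor
  · rintro ⟨b, _, h⟩
    exact ⟨b, h⟩
  · rintro ⟨b, h⟩
    exact ⟨b, Submodule.mem_top, h⟩

theorem mkQ_eq_zero_iff (x : X) :
    Submodule.mkQ (Ideal.span {π} • (⊤ : Submodule A X)) x = 0 ↔ ∃ m : X, π • m = x := by
  rw [Submodule.mkQ_apply, Submodule.Quotient.mk_eq_zero, mem_piM]

theorem smul_mkQ_eq_zero_iff (s : A) (x : X) :
    s • Submodule.mkQ (Ideal.span {π} • (⊤ : Submodule A X)) x = 0 ↔ ∃ m : X, π • m = s • x := by
  rw [← mkQ_eq_zero_iff π (s • x), LinearMap.map_smul]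

theorem mem_K {ι : Type*} (𝔓 : ι → Ideal A) [∀ i, (𝔓 i).IsPrime] (T : Set ι) (x : X) :
    x ∈ (⨅ i ∈ T, LinearMap.ker (LocalizedModule.mkLinearMap (𝔓 i).primeCompl X)) ↔
      ∀ i ∈ T, ∃ s, s ∉ 𝔓 i ∧ s • x = 0 := by
  simp only [Submodule.mem_iInf, LocalizedModule.mem_ker_mkLinearMap_iff]
  constructor
  · intro h i hi
    obtain ⟨s, hs, h0⟩ := h i hi
    exact ⟨s, hs, h0⟩
  · intro h i hi
    obtain ⟨s, hs, h0⟩ := h i hi
    exact ⟨s, hs, h0⟩

theorem mem_K_W {ι : Type*} (𝔓 : ι → Ideal A) [∀ i, (𝔓 i).IsPrime] (T : Set ι) (x : X) :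
    x ∈ (⨅ i ∈ T, LinearMap.ker (LocalizedModule.mkLinearMap (𝔓 i).primeCompl X)) ↔
      ∀ i ∈ T, x ∈ LinearMap.ker (LocalizedModule.mkLinearMap (𝔓 i).primeCompl X) := by
  simp only [Submodule.mem_iInf]

end generic

theorem nil_of_minimal {A : Type*} [CommRing A] {I q : Ideal A} [hq : q.IsPrime]
    (hmin : q ∈ I.minimalPrimes) {x : A} (hx : x ∈ q) :
    ∃ t, t ∉ q ∧ ∃ k : ℕ, t * x ^ k ∈ I := by
  have hrad := IsLocalization.AtPrime.radical_map_of_mem_minimalPrimes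
    (Localization.AtPrime q) q I hmin
  have h1 : algebraMap A (Localization.AtPrime q) x ∈
      (I.map (algebraMap A (Localization.AtPrime q))).radical := by
    rw [hrad]; exact Ideal.mem_map_of_mem _ hx
  obtain ⟨n, hn⟩ := h1
  rw [IsLocalization.mem_map_algebraMap_iff (M := q.primeCompl)] at hn
  obtain ⟨⟨a, b⟩, hab⟩ := hn
  rw [← map_pow, ← map_mul, IsLocalization.eq_iff_exists q.primeCompl] at hab
  obtain ⟨c, hc⟩ := hab
  refine ⟨(c : A) * (b : A), ?_, n, ?_⟩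
  · show (c : A) * (b : A) ∈ q.primeCompl
    exact mul_mem c.2 b.2
  · have h2 : (c : A) * (b : A) * x ^ n = c * (x ^ n * b) := by ring
    rw [h2, hc]
    exact I.mul_mem_left _ a.2

theorem exists_avoid {A : Type*} [CommRing A] (π : A) {ι : Type*} [Finite ι]
    (𝔓 : ι → Ideal A) [∀ i, (𝔓 i).IsPrime]
    (h𝔓 : ∀ i, 𝔓 i ∈ (Ideal.span {π}).minimalPrimes) (h𝔓inj : Function.Injective 𝔓) (i : ι) :
    ∃ s, s ∉ 𝔓 i ∧ ∀ j, j ≠ i → ∃ t, t ∉ 𝔓 j ∧ t * s ∈ Ideal.span {π} := by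
  classical
  letI := Fintype.ofFinite ι
  have h1 : ∀ j, ∃ (x t : A) (k : ℕ), j ≠ i →
      (x ∉ 𝔓 i ∧ t ∉ 𝔓 j ∧ t * x ^ k ∈ Ideal.span {π}) := by
    intro j
    by_cases hji : j = i
    · exact ⟨1, 1, 0, fun h => absurd hji h⟩
    · have hnle : ¬ (𝔓 j ≤ 𝔓 i) := by
        intro hle
        have hle' : 𝔓 i ≤ 𝔓 j := (h𝔓 i).2 ⟨inferInstance, (h𝔓 j).1.2⟩ hle
        exact hji (h𝔓inj (le_antisymm hle hle'))
      obtain ⟨x, hxj, hxi⟩ := SetLike.not_le_iff_exists.mp hnle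
      obtain ⟨t, ht, k, hk⟩ := nil_of_minimal (h𝔓 j) hxj
      exact ⟨x, t, k, fun _ => ⟨hxi, ht, hk⟩⟩
  choose x t k hxtk using h1
  refine ⟨∏ j ∈ Finset.univ.erase i, x j ^ k j, ?_, ?_⟩
  · intro hmem
    obtain ⟨j, hj, hjm⟩ := (Ideal.IsPrime.prod_mem_iff).mp hmem
    have hji : j ≠ i := Finset.ne_of_mem_erase hj
    exact (hxtk j hji).1 (Ideal.IsPrime.mem_of_pow_mem inferInstance _ hjm)
  · intro j hji
    refine ⟨t j, (hxtk j hji).2.1, ?_⟩
    obtain ⟨c, hc⟩ := Finset.dvd_prod_of_mem (fun j => x j ^ k j)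
      (Finset.mem_erase.mpr ⟨hji, Finset.mem_univ j⟩)
    rw [hc, ← mul_assoc]
    exact Ideal.mul_mem_right c _ (hxtk j hji).2.2

theorem main18364
    (A : Type u) [CommRing A] [IsNoetherianRing A] (π : A)
    (ι : Type) [Finite ι] (𝔓 : ι → Ideal A) [∀ i, (𝔓 i).IsPrime]
    (h𝔓 : ∀ i, 𝔓 i ∈ (Ideal.span {π}).minimalPrimes) (h𝔓inj : Function.Injective 𝔓)
    (h𝔓surj : ∀ 𝔔 ∈ (Ideal.span {π}).minimalPrimes, ∃ i, 𝔓 i = 𝔔)
    (M : Type u) [AddCommGroup M] [Module A M] [Module.Finite A M]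
    (K : Set ι → Submodule A (M ⧸ Ideal.span {π} • (⊤ : Submodule A M)))
    (hK : ∀ T : Set ι, K T = ⨅ i ∈ T, LinearMap.ker
      (LocalizedModule.mkLinearMap (𝔓 i).primeCompl (M ⧸ Ideal.span {π} • (⊤ : Submodule A M))))
    (htf : K Set.univ = ⊥)
    (N : Set ι → Submodule A M)
    (hN : ∀ T : Set ι, N T = (K T).comap (Submodule.mkQ (Ideal.span {π} • (⊤ : Submodule A M))))
    (Y : Set ι) :
    N Y ⊓ N Yᶜ = Ideal.span {π} • (⊤ : Submodule A M) ∧
    Submodule.map (N Y).subtype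
      ((⨅ i ∈ Yᶜ, LinearMap.ker (LocalizedModule.mkLinearMap (𝔓 i).primeCompl
          (↥(N Y) ⧸ Ideal.span {π} • (⊤ : Submodule A ↥(N Y))))).comap
        (Submodule.mkQ (Ideal.span {π} • (⊤ : Submodule A ↥(N Y)))))
      = N Y ⊓ N Yᶜ := by
  have memN : ∀ (T : Set ι) (m : M), m ∈ N T ↔
      ∀ i ∈ T, ∃ s, s ∉ 𝔓 i ∧ ∃ m' : M, π • m' = s • m := by
    intro T m
    rw [hN T, Submodule.mem_comap, hK T, mem_K]
    constructor
    · intro h i hi
      obtain ⟨s, hs, h0⟩ := h i hi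
      exact ⟨s, hs, (smul_mkQ_eq_zero_iff π s m).mp h0⟩
    · intro h i hi
      obtain ⟨s, hs, h0⟩ := h i hi
      exact ⟨s, hs, (smul_mkQ_eq_zero_iff π s m).mpr h0⟩
  have hpiN : ∀ T, Ideal.span {π} • (⊤ : Submodule A M) ≤ N T := by
    intro T x hx
    obtain ⟨m, rfl⟩ := (mem_piM π x).mp hx
    rw [memN]
    intro i _
    exact ⟨1, (Ideal.ne_top_iff_one (𝔓 i)).mp (Ideal.IsPrime.ne_top inferInstance), m,
      (one_smul _ _).symm⟩
  have part1 : N Y ⊓ N Yᶜ = Ideal.span {π} • (⊤ : Submodule A M) := by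
    apply le_antisymm
    · intro m hm
      have hm1 : m ∈ N Y := (Submodule.mem_inf.mp hm).1
      have hm2 : m ∈ N Yᶜ := (Submodule.mem_inf.mp hm).2
      have hu : m ∈ N Set.univ := by
        rw [memN] at hm1 hm2 ⊢
        intro i _
        by_cases hi : i ∈ Y
        · exact hm1 i hi
        · exact hm2 i (Set.mem_compl hi)
      rw [hN, Submodule.mem_comap, htf, Submodule.mem_bot] at hu
      exact (Submodule.Quotient.mk_eq_zero _).mp hu
    · exact le_inf (hpiN Y) (hpiN Yᶜ)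
  refine ⟨part1, ?_⟩
  apply le_antisymm
  · intro x hx
    obtain ⟨n, hn, rfl⟩ := Submodule.mem_map.mp hx
    rw [Submodule.mem_comap, mem_K] at hn
    refine Submodule.mem_inf.mpr ⟨n.2, ?_⟩
    rw [memN]
    intro i hi
    obtain ⟨s, hs, h0⟩ := hn i hi
    obtain ⟨n', hn'⟩ := (smul_mkQ_eq_zero_iff π s n).mp h0
    refine ⟨s, hs, (n' : M), ?_⟩
    show π • (n' : M) = s • (n : M)
    exact congrArg Subtype.val hn'
  · intro x hx
    have hxY : x ∈ N Y := (Submodule.mem_inf.mp hx).1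
    rw [part1] at hx
    obtain ⟨m, rfl⟩ := (mem_piM π x).mp hx
    refine Submodule.mem_map.mpr ⟨⟨π • m, hxY⟩, ?_, rfl⟩
    rw [Submodule.mem_comap, mem_K]
    intro i hi
    obtain ⟨s, hs, hst⟩ := exists_avoid π 𝔓 h𝔓 h𝔓inj i
    have hsm : s • m ∈ N Y := by
      rw [memN]
      intro j hj
      have hji : j ≠ i := fun h => (Set.mem_compl_iff Y i).mp hi (h ▸ hj)
      obtain ⟨t, ht, hts⟩ := hst j hji
      obtain ⟨a, ha⟩ := Ideal.mem_span_singleton'.mp hts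
      refine ⟨t, ht, a • m, ?_⟩
      rw [smul_smul, smul_smul, mul_comm π a, ha]
    refine ⟨s, hs, (smul_mkQ_eq_zero_iff π s _).mpr ⟨⟨s • m, hsm⟩, ?_⟩⟩
    apply Subtype.ext
    show π • (s • m) = s • (π • m)
    exact smul_comm π s m

theorem main18365
    (A : Type u) [CommRing A] [IsNoetherianRing A] (π : A)
    (ι : Type) [Finite ι] (𝔓 : ι → Ideal A) [∀ i, (𝔓 i).IsPrime]
    (h𝔓 : ∀ i, 𝔓 i ∈ (Ideal.span {π}).minimalPrimes) (h𝔓inj : Function.Injective 𝔓)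
    (h𝔓surj : ∀ 𝔔 ∈ (Ideal.span {π}).minimalPrimes, ∃ i, 𝔓 i = 𝔔)
    (M : Type u) [AddCommGroup M] [Module A M] [Module.Finite A M]
    (hπ : ∀ m : M, π • m = 0 → m = 0)
    (K : Set ι → Submodule A (M ⧸ Ideal.span {π} • (⊤ : Submodule A M)))
    (hK : ∀ T : Set ι, K T = ⨅ i ∈ T, LinearMap.ker
      (LocalizedModule.mkLinearMap (𝔓 i).primeCompl (M ⧸ Ideal.span {π} • (⊤ : Submodule A M))))
    (htf : K Set.univ = ⊥)
    (N : Set ι → Submodule A M)
    (hN : ∀ T : Set ι, N T = (K T).comap (Submodule.mkQ (Ideal.span {π} • (⊤ : Submodule A M))))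
    (Y Z : Set ι) (hY : K Y ⊔ K Yᶜ = ⊤)
    (K' : Set ι → Submodule A (↥(N Y) ⧸ Ideal.span {π} • (⊤ : Submodule A ↥(N Y))))
    (hK' : ∀ T : Set ι, K' T = ⨅ i ∈ T, LinearMap.ker
      (LocalizedModule.mkLinearMap (𝔓 i).primeCompl (↥(N Y) ⧸ Ideal.span {π} • (⊤ : Submodule A ↥(N Y)))))
    (hZ : K' Z ⊔ K' Zᶜ = ⊤) :
    K Z ⊔ K Zᶜ = ⊤ := by
  have memK : ∀ (T : Set ι) (x : M ⧸ Ideal.span {π} • (⊤ : Submodule A M)),
      x ∈ K T ↔ ∀ i ∈ T, ∃ s, s ∉ 𝔓 i ∧ s • x = 0 := by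
    intro T x; rw [hK T]; exact mem_K 𝔓 T x
  have memKW : ∀ (T : Set ι) (x : M ⧸ Ideal.span {π} • (⊤ : Submodule A M)),
      x ∈ K T ↔ ∀ i ∈ T, x ∈ LinearMap.ker (LocalizedModule.mkLinearMap (𝔓 i).primeCompl
        (M ⧸ Ideal.span {π} • (⊤ : Submodule A M))) := by
    intro T x; rw [hK T]; exact mem_K_W 𝔓 T x
  have memK' : ∀ (T : Set ι) (x : ↥(N Y) ⧸ Ideal.span {π} • (⊤ : Submodule A ↥(N Y))),
      x ∈ K' T ↔ ∀ i ∈ T, ∃ s, s ∉ 𝔓 i ∧ s • x = 0 := by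
    intro T x; rw [hK' T]; exact mem_K 𝔓 T x
  have memN : ∀ (m : M), m ∈ N Y ↔
      Submodule.mkQ (Ideal.span {π} • (⊤ : Submodule A M)) m ∈ K Y := by
    intro m; rw [hN Y]; exact Submodule.mem_comap
  have Kinf : ∀ (T : Set ι) (x : M ⧸ Ideal.span {π} • (⊤ : Submodule A M)),
      x ∈ K T → x ∈ K Tᶜ → x = 0 := by
    intro T x h1 h2
    have hu : x ∈ K Set.univ := by
      rw [memK] at h1 h2 ⊢
      intro i _
      by_cases hi : i ∈ T
      · exact h1 i hi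
      · exact h2 i (Set.mem_compl hi)
    rw [htf] at hu
    exact (Submodule.mem_bot A).mp hu
  have htopY : ∀ x : M ⧸ Ideal.span {π} • (⊤ : Submodule A M),
      ∃ a ∈ K Y, ∃ b ∈ K Yᶜ, a + b = x := by
    intro x
    have : x ∈ K Y ⊔ K Yᶜ := by rw [hY]; exact Submodule.mem_top
    exact Submodule.mem_sup.mp this
  have htopZ : ∀ x : ↥(N Y) ⧸ Ideal.span {π} • (⊤ : Submodule A ↥(N Y)),
      ∃ a ∈ K' Z, ∃ b ∈ K' Zᶜ, a + b = x := by
    intro x
    have : x ∈ K' Z ⊔ K' Zᶜ := by rw [hZ]; exact Submodule.mem_top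
    exact Submodule.mem_sup.mp this
  have hle : Ideal.span {π} • (⊤ : Submodule A ↥(N Y)) ≤
      (Ideal.span {π} • (⊤ : Submodule A M)).comap (N Y).subtype := by
    intro n hn
    obtain ⟨n', rfl⟩ := (mem_piM π n).mp hn
    exact (mem_piM π _).mpr ⟨(n' : M), rfl⟩
  obtain ⟨ib, hib⟩ : ∃ ib : (↥(N Y) ⧸ Ideal.span {π} • (⊤ : Submodule A ↥(N Y))) →ₗ[A]
      (M ⧸ Ideal.span {π} • (⊤ : Submodule A M)),
      ∀ n : ↥(N Y), ib (Submodule.mkQ _ n) = Submodule.mkQ _ (n : M) :=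
    ⟨Submodule.mapQ _ _ (N Y).subtype hle, fun n => rfl⟩
  have ib_K : ∀ (T : Set ι) (y : ↥(N Y) ⧸ Ideal.span {π} • (⊤ : Submodule A ↥(N Y))),
      y ∈ K' T → ib y ∈ K T := by
    intro T y hy
    rw [memK]
    intro i hi
    obtain ⟨s, hs, h0⟩ := (memK' T y).mp hy i hi
    refine ⟨s, hs, ?_⟩
    rw [← LinearMap.map_smul, h0, map_zero]
  have claimA : ∀ a, a ∈ K Y → a ∈ K Z ⊔ K Zᶜ := by
    intro a ha
    obtain ⟨m, rfl⟩ := Submodule.mkQ_surjective _ a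
    have hmN : m ∈ N Y := (memN m).mpr ha
    obtain ⟨a', ha', b', hb', hab⟩ := htopZ (Submodule.mkQ _ ⟨m, hmN⟩)
    have h1 : Submodule.mkQ (Ideal.span {π} • (⊤ : Submodule A M)) m = ib a' + ib b' := by
      rw [← map_add, hab, hib]
    rw [h1]
    exact Submodule.add_mem_sup (ib_K Z a' ha') (ib_K Zᶜ b' hb')
  have hpiN : ∀ m : M, π • m ∈ N Y := by
    intro m
    refine (memN _).mpr ?_
    rw [(mkQ_eq_zero_iff π (π • m)).mpr ⟨m, rfl⟩]
    exact Submodule.zero_mem _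
  have star : ∀ (T : Set ι) (n0 : ↥(N Y)) (m0 : M), π • m0 = (n0 : M) →
      Submodule.mkQ (Ideal.span {π} • (⊤ : Submodule A ↥(N Y))) n0 ∈ K' T →
      Submodule.mkQ (Ideal.span {π} • (⊤ : Submodule A M)) m0 ∈ K (T ∩ Y) := by
    intro T n0 m0 h0 hk
    rw [memK]
    rintro i ⟨hiT, hiY⟩
    obtain ⟨s, hs, hs0⟩ := (memK' T _).mp hk i hiT
    obtain ⟨n'', hn''⟩ := (smul_mkQ_eq_zero_iff π s n0).mp hs0
    have hn''M : π • (n'' : M) = s • (n0 : M) := congrArg Subtype.val hn''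
    have h3 : s • m0 = (n'' : M) := by
      apply sub_eq_zero.mp
      apply hπ
      rw [smul_sub, smul_comm π s m0, h0, hn''M, sub_self]
    have h4 : s • m0 ∈ N Y := by rw [h3]; exact n''.2
    obtain ⟨t, ht, ht0⟩ := (memK Y _).mp ((memN _).mp h4) i hiY
    refine ⟨t * s, ?_, ?_⟩
    · intro hmem
      exact (Ideal.IsPrime.mem_or_mem inferInstance hmem).elim ht hs
    · have h5 : (t * s) • Submodule.mkQ (Ideal.span {π} • (⊤ : Submodule A M)) m0 =
          t • Submodule.mkQ (Ideal.span {π} • (⊤ : Submodule A M)) (s • m0) := by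
        rw [mul_smul, LinearMap.map_smul]
      rw [h5]; exact ht0
  have claimC : ∀ b, b ∈ K Yᶜ → b ∈ K Z ⊔ K Zᶜ := by
    intro b hb
    obtain ⟨m, rfl⟩ := Submodule.mkQ_surjective _ b
    obtain ⟨a', ha', b', hb', hab⟩ := htopZ (Submodule.mkQ _ ⟨π • m, hpiN m⟩)
    obtain ⟨na, rfl⟩ := Submodule.mkQ_surjective _ a'
    obtain ⟨nb, rfl⟩ := Submodule.mkQ_surjective _ b'
    have hdiff : Submodule.mkQ (Ideal.span {π} • (⊤ : Submodule A ↥(N Y)))
        ((⟨π • m, hpiN m⟩ : ↥(N Y)) - (na + nb)) = 0 := by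
      rw [map_sub, map_add, hab, sub_self]
    obtain ⟨n', hn'⟩ := (mkQ_eq_zero_iff π _).mp hdiff
    have hn'M : π • (n' : M) = π • m - ((na : M) + (nb : M)) := congrArg Subtype.val hn'
    have hna : Submodule.mkQ (Ideal.span {π} • (⊤ : Submodule A M)) (na : M) ∈ K Z := by
      have h := ib_K Z _ ha'
      rw [hib] at h
      exact h
    have hnb : Submodule.mkQ (Ideal.span {π} • (⊤ : Submodule A M)) (nb : M) ∈ K Zᶜ := by
      have h := ib_K Zᶜ _ hb'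
      rw [hib] at h
      exact h
    have hsum0 : Submodule.mkQ (Ideal.span {π} • (⊤ : Submodule A M)) (na : M) +
        Submodule.mkQ (Ideal.span {π} • (⊤ : Submodule A M)) (nb : M) = 0 := by
      rw [← map_add]
      refine (mkQ_eq_zero_iff π _).mpr ⟨m - n', ?_⟩
      rw [smul_sub, hn'M]; abel
    have hna0 : Submodule.mkQ (Ideal.span {π} • (⊤ : Submodule A M)) (na : M) = 0 := by
      refine Kinf Z _ hna ?_
      rw [eq_neg_of_add_eq_zero_left hsum0]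
      exact Submodule.neg_mem _ hnb
    have hnb0 : Submodule.mkQ (Ideal.span {π} • (⊤ : Submodule A M)) (nb : M) = 0 := by
      rw [hna0, zero_add] at hsum0; exact hsum0
    obtain ⟨ma, hma⟩ := (mkQ_eq_zero_iff π _).mp hna0
    obtain ⟨mb, hmb⟩ := (mkQ_eq_zero_iff π _).mp hnb0
    have hm_eq : m = ma + mb + (n' : M) := by
      apply sub_eq_zero.mp
      apply hπ
      rw [smul_sub, smul_add, smul_add, hma, hmb, hn'M]; abel
    have hma_mem := star Z na ma hma ha'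
    have hmb_mem := star Zᶜ nb mb hmb hb'
    obtain ⟨α, hα, α', hα', hαs⟩ := htopY (Submodule.mkQ _ ma)
    obtain ⟨β, hβ, β', hβ', hβs⟩ := htopY (Submodule.mkQ _ mb)
    have hn'K : Submodule.mkQ (Ideal.span {π} • (⊤ : Submodule A M)) (n' : M) ∈ K Y :=
      (memN _).mp n'.2
    have hb_eq : Submodule.mkQ (Ideal.span {π} • (⊤ : Submodule A M)) m = α' + β' := by
      apply sub_eq_zero.mp
      refine Kinf Y _ ?_ ?_
      · have h6 : Submodule.mkQ (Ideal.span {π} • (⊤ : Submodule A M)) m - (α' + β') =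
            α + β + Submodule.mkQ (Ideal.span {π} • (⊤ : Submodule A M)) (n' : M) := by
          rw [hm_eq, map_add, map_add, ← hαs, ← hβs]; abel
        rw [h6]
        exact add_mem (add_mem hα hβ) hn'K
      · exact sub_mem hb (add_mem hα' hβ')
    rw [hb_eq]
    refine Submodule.add_mem_sup ?_ ?_
    · rw [memKW]
      intro i hi
      by_cases hiY : i ∈ Y
      · have h7 : α' = Submodule.mkQ (Ideal.span {π} • (⊤ : Submodule A M)) ma - α := by
          rw [← hαs]; abel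
        rw [h7]
        exact sub_mem ((memKW _ _).mp hma_mem i ⟨hi, hiY⟩) ((memKW _ _).mp hα i hiY)
      · exact (memKW _ _).mp hα' i (Set.mem_compl hiY)
    · rw [memKW]
      intro i hi
      by_cases hiY : i ∈ Y
      · have h7 : β' = Submodule.mkQ (Ideal.span {π} • (⊤ : Submodule A M)) mb - β := by
          rw [← hβs]; abel
        rw [h7]
        exact sub_mem ((memKW _ _).mp hmb_mem i ⟨hi, hiY⟩) ((memKW _ _).mp hβ i hiY)
      · exact (memKW _ _).mp hβ' i (Set.mem_compl hiY)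
  rw [eq_top_iff]
  intro x _
  obtain ⟨a, ha, b, hb, rfl⟩ := htopY x
  exact add_mem (claimA a ha) (claimC b hb)

end Groth.Agent.Lib.ModifKNH4
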