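import Mathlib

/-!
# Morphisms of monads and morphisms of their cohomology
-/

set_option autoImplicit false
universe w v u
open CategoryTheory Limits Abelian

namespace Groth.Agent.Lib.MonadHom

variable {C : Type u} [Category.{v} C] [Abelian C] [HasExt.{w} C]

/-- extension of a morphism along the mono of a short exact sequence when `Ext¹` vanishes -/
lemma exists_extend {S : ShortComplex C} (hS : S.ShortExact) {Y : C} (u : S.X₁ ⟶ Y)
    (h : Subsingleton (Ext.{w} S.X₃ Y 1)) : ∃ v : S.X₂ ⟶ Y, S.f ≫ v = u := by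
  obtain ⟨x₂, hx₂⟩ := Ext.contravariant_sequence_exact₁ hS Y (Ext.mk₀ u) (add_zero 1)
    (Subsingleton.elim _ _)
  obtain ⟨v, rfl⟩ := (Ext.mk₀_bijective _ _).2 x₂
  rw [Ext.mk₀_comp_mk₀] at hx₂
  exact ⟨v, (Ext.mk₀_bijective _ _).1 hx₂⟩

/-- lifting of a morphism along the epi of a short exact sequence when `Ext¹` vanishes -/
lemma exists_lift {S : ShortComplex C} (hS : S.ShortExact) {X : C} (t : X ⟶ S.X₃)
    (h : Subsingleton (Ext.{w} X S.X₁ 1)) : ∃ v : X ⟶ S.X₂, v ≫ S.g = t := by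
  obtain ⟨x₂, hx₂⟩ := Ext.covariant_sequence_exact₃ X hS (Ext.mk₀ t) (zero_add 1)
    (Subsingleton.elim _ _)
  obtain ⟨v, rfl⟩ := (Ext.mk₀_bijective _ _).2 x₂
  rw [Ext.mk₀_comp_mk₀] at hx₂
  exact ⟨v, (Ext.mk₀_bijective _ _).1 hx₂⟩

lemma subsingleton_ext_one {S : ShortComplex C} (hS : S.ShortExact) {Y : C}
    (h₂ : Subsingleton (Ext.{w} S.X₂ Y 1)) (h₃ : Subsingleton (Ext.{w} S.X₃ Y 2)) :
    Subsingleton (Ext.{w} S.X₁ Y 1) := by
  refine ⟨fun a b => ?_⟩
  have key : ∀ x : Ext.{w} S.X₁ Y 1, x = 0 := by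
    intro x
    obtain ⟨x₂, hx₂⟩ := Ext.contravariant_sequence_exact₁ hS Y x (rfl : 1 + 1 = 2)
      (Subsingleton.elim _ _)
    rw [← hx₂, Subsingleton.elim x₂ 0, Ext.comp_zero]
  rw [key a, key b]

section

variable (M : ShortComplex C)

omit [HasExt.{w} C] in
lemma shortExact_cycles [Epi M.g] : (ShortComplex.mk M.iCycles M.g M.iCycles_g).ShortExact :=
  ShortComplex.ShortExact.mk' (ShortComplex.exact_of_f_is_kernel _ M.cyclesIsKernel)
    (inferInstanceAs (Mono M.iCycles)) (inferInstanceAs (Epi M.g))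

omit [HasExt.{w} C] in
lemma shortExact_homology [Mono M.f] :
    (ShortComplex.mk M.toCycles M.homologyπ M.toCycles_comp_homologyπ).ShortExact := by
  have hm : Mono M.toCycles := mono_of_mono_fac M.toCycles_i
  exact ShortComplex.ShortExact.mk' (ShortComplex.exact_of_g_is_cokernel _ M.homologyIsCokernel)
    hm (inferInstanceAs (Epi M.homologyπ))

end

theorem monad_hom_bijective (M M' : ShortComplex C) [Mono M.f] [Epi M.g] [Mono M'.f] [Epi M'.g]
    (hBA : ∀ f : M.X₂ ⟶ M'.X₁, f = 0) (hCB : ∀ f : M.X₃ ⟶ M'.X₂, f = 0)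
    (hCA₁ : Subsingleton (Abelian.Ext.{w} M.X₃ M'.X₁ 1))
    (hBA₁ : Subsingleton (Abelian.Ext.{w} M.X₂ M'.X₁ 1))
    (hCB₁ : Subsingleton (Abelian.Ext.{w} M.X₃ M'.X₂ 1))
    (hCA₂ : Subsingleton (Abelian.Ext.{w} M.X₃ M'.X₁ 2)) :
    Function.Bijective (fun φ : M ⟶ M' => ShortComplex.homologyMap φ) := by
  have hK := shortExact_cycles M
  have hE' := shortExact_homology M'
  have hK' := shortExact_cycles M'
  constructor
  · -- injectivity
    have key : ∀ χ : M ⟶ M', ShortComplex.homologyMap χ = 0 → χ = 0 := by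
      intro χ hχ
      have h1 : ShortComplex.cyclesMap χ ≫ M'.homologyπ = 0 := by
        rw [← ShortComplex.homologyπ_naturality, hχ, comp_zero]
      haveI := hE'.mono_f
      obtain ⟨u, hu⟩ := hE'.exact.lift' (ShortComplex.cyclesMap χ) h1
      have hu' : u ≫ M'.toCycles = ShortComplex.cyclesMap χ := hu
      obtain ⟨v, hv⟩ := exists_extend hK u hCA₁
      have hv' : M.iCycles ≫ v = u := hv
      have hu0 : u = 0 := by rw [← hv', hBA v, comp_zero]
      have hc0 : ShortComplex.cyclesMap χ = 0 := by rw [← hu', hu0, zero_comp]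
      have h2 : M.iCycles ≫ χ.τ₂ = 0 := by
        rw [← ShortComplex.cyclesMap_i, hc0, zero_comp]
      haveI := hK.epi_g
      obtain ⟨t, ht⟩ := hK.exact.desc' χ.τ₂ h2
      have ht' : M.g ≫ t = χ.τ₂ := ht
      have h3 : χ.τ₂ = 0 := by rw [← ht', hCB t, comp_zero]
      have h4 : χ.τ₁ = 0 := by
        rw [← cancel_mono M'.f, χ.comm₁₂, h3, comp_zero, zero_comp]
      have h5 : χ.τ₃ = 0 := by
        rw [← cancel_epi M.g, ← χ.comm₂₃, h3, zero_comp, comp_zero]
      ext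
      · exact h4
      · exact h3
      · exact h5
    intro φ ψ hφψ
    have : ShortComplex.homologyMap (φ - ψ) = 0 := by
      rw [ShortComplex.homologyMap_sub]
      exact sub_eq_zero.2 hφψ
    exact sub_eq_zero.1 (key _ this)
  · -- surjectivity
    intro ε
    have hKA : Subsingleton (Abelian.Ext.{w} M.cycles M'.X₁ 1) :=
      subsingleton_ext_one hK hBA₁ hCA₂
    obtain ⟨κ, hκ⟩ := exists_lift hE' (M.homologyπ ≫ ε) hKA
    have hκ' : κ ≫ M'.homologyπ = M.homologyπ ≫ ε := hκ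
    obtain ⟨β, hβ⟩ := exists_extend hK (κ ≫ M'.iCycles) hCB₁
    have hβ' : M.iCycles ≫ β = κ ≫ M'.iCycles := hβ
    haveI := hK.epi_g
    have h1 : M.iCycles ≫ (β ≫ M'.g) = 0 := by
      rw [← Category.assoc, hβ', Category.assoc, M'.iCycles_g, comp_zero]
    obtain ⟨γ, hγ⟩ := hK.exact.desc' (β ≫ M'.g) h1
    have hγ' : M.g ≫ γ = β ≫ M'.g := hγ
    haveI := hE'.mono_f
    have h2 : (M.toCycles ≫ κ) ≫ M'.homologyπ = 0 := by
      rw [Category.assoc, hκ', ← Category.assoc, M.toCycles_comp_homologyπ, zero_comp]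
    obtain ⟨α, hα⟩ := hE'.exact.lift' (M.toCycles ≫ κ) h2
    have hα' : α ≫ M'.toCycles = M.toCycles ≫ κ := hα
    have c₁₂ : α ≫ M'.f = M.f ≫ β := by
      rw [← M'.toCycles_i, ← Category.assoc, hα', Category.assoc, ← hβ', ← Category.assoc,
        M.toCycles_i]
    let φ : M ⟶ M' :=
      { τ₁ := α
        τ₂ := β
        τ₃ := γ
        comm₁₂ := c₁₂
        comm₂₃ := hγ'.symm }
    refine ⟨φ, ?_⟩
    have hc : ShortComplex.cyclesMap φ = κ := by
      rw [← cancel_mono M'.iCycles, ShortComplex.cyclesMap_i]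
      exact hβ'
    show ShortComplex.homologyMap φ = ε
    rw [← cancel_epi M.homologyπ, ShortComplex.homologyπ_naturality, hc]
    exact hκ'

end Groth.Agent.Lib.MonadHom
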