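import Mathlib
import Groth.Prelude.Def_BigSite

/-!
# `f_big⁻¹ f_big,* F ⟶ F` is an isomorphism for a monomorphism `f` (helper7)
-/

set_option autoImplicit false
set_option backward.isDefEq.respectTransparency false
universe v' u' u
open CategoryTheory CategoryTheory.Limits Opposite

namespace Groth.Agent.Lib.MonoCounit_helper7

section General

variable {C D : Type*} [Category C] [Category D] {F : C ⥤ D} {G : D ⥤ C} (adj : F ⊣ G)
  (J : GrothendieckTopology C) (K : GrothendieckTopology D) [F.IsContinuous J K]
  [G.IsContinuous K J] (E : Type*) [Category E]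

theorem isIso_counit_of_isIso_unit [IsIso adj.unit] (P : Sheaf J E) :
    IsIso ((adj.sheafPushforwardContinuous (E := E) J K).counit.app P) := by
  haveI : IsIso adj.op.counit := by
    haveI : ∀ X, IsIso (adj.op.counit.app X) := fun X => by
      show IsIso (adj.unit.app X.unop).op
      infer_instance
    exact NatIso.isIso_of_isIso_app _
  haveI : IsIso ((adj.op.whiskerLeft E).counit.app P.obj) := by
    show IsIso ((Functor.associator _ _ _).inv ≫ Functor.whiskerRight adj.op.counit P.obj ≫
      (Functor.leftUnitor _).hom)
    infer_instance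
  haveI : IsIso ((sheafToPresheaf J E).map
      ((adj.sheafPushforwardContinuous (E := E) J K).counit.app P)) := by
    show IsIso ((adj.op.whiskerLeft E).counit.app P.obj)
    infer_instance
  exact isIso_of_reflects_iso _ (sheafToPresheaf J E)

end General

section Over

variable {𝒞 : Type*} [Category 𝒞] [HasPullbacks 𝒞] {X Y : 𝒞} (f : X ⟶ Y) [Mono f]

instance isIso_unit_mapPullbackAdj : IsIso (Over.mapPullbackAdj f).unit := by
  haveI : ∀ U : Over X, IsIso ((Over.mapPullbackAdj f).unit.app U) := fun U => by
    haveI : IsIso ((Over.forget X).map ((Over.mapPullbackAdj f).unit.app U)) := by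
      have h1 : pullback.fst (U.hom ≫ f) f ≫ U.hom = pullback.snd (U.hom ≫ f) f := by
        rw [← cancel_mono f, Category.assoc]
        exact pullback.condition
      refine ⟨pullback.fst (U.hom ≫ f) f, ?_, ?_⟩
      · simp
      · apply pullback.hom_ext
        · simp
        · simp [h1]
    exact isIso_of_reflects_iso _ (Over.forget X)
  exact NatIso.isIso_of_isIso_app _

end Over

section Scheme

open AlgebraicGeometry

theorem main {X Y : Scheme.{u}} (f : X ⟶ Y) [Mono f] (K : Precoverage Scheme.{u})
    (A : Type u') [Category.{v'} A] (F : Sheaf (QuotSh.J K X) A) :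
    IsIso ((BigSite.bigAdj K f A).counit.app F) :=
  isIso_counit_of_isIso_unit (Over.mapPullbackAdj f) (QuotSh.J K X) (QuotSh.J K Y) A F

end Scheme

end Groth.Agent.Lib.MonoCounit_helper7
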