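import Mathlib
import Groth.Agent.Lib.FibreUnram_helper4

set_option autoImplicit false
set_option linter.style.haveILetI false

universe u

open CategoryTheory CategoryTheory.Limits AlgebraicGeometry

namespace Groth.Agent.Lib.MonoFibH4

theorem isIso_diagonal_of_unram_of_univInj {X Y : Scheme.{u}} (f : X ⟶ Y) [LocallyOfFiniteType f]
    [FormallyUnramified f] [UniversallyInjective f] : Mono f := by
  haveI : IsOpenImmersion (pullback.diagonal f) := inferInstance
  haveI : Surjective (pullback.diagonal f) := (UniversallyInjective.iff_diagonal f).mp inferInstance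
  haveI : IsIso (pullback.diagonal f) :=
    (isIso_iff_isOpenImmersion_and_surjective _).mpr ⟨inferInstance, inferInstance⟩
  exact (pullback.isIso_diagonal_iff f).mp inferInstance

set_option maxHeartbeats 800000 in
theorem main3042 (X Y : Scheme.{u}) (f : X ⟶ Y) [LocallyOfFiniteType f] :
    Mono f ↔ ∀ y : Y, Mono (f.fiberToSpecResidueField y) := by
  constructor
  · intro h y
    exact inferInstanceAs (Mono (pullback.snd f (Y.fromSpecResidueField y)))
  · intro H
    have hsq : ∀ y, IsPullback (f.fiberι y) (f.fiberToSpecResidueField y) f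
        (Y.fromSpecResidueField y) := fun y => IsPullback.of_hasPullback _ _
    haveI : FormallyUnramified f := by
      apply Groth.Agent.Lib.UnramLocH4.formallyUnramified_of_forall_stalk
      intro x
      have hx' : (f.fiberι (f x)).base (f.asFiber x) = x := f.fiberι_asFiber x
      have h1 : ((f.fiberToSpecResidueField (f x)).stalkMap (f.asFiber x)).hom.FormallyUnramified := by
        haveI := H (f x)
        haveI : IsIso (pullback.diagonal (f.fiberToSpecResidueField (f x))) :=
          (pullback.isIso_diagonal_iff _).mpr inferInstance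
        haveI : FormallyUnramified (f.fiberToSpecResidueField (f x)) := inferInstance
        exact FormallyUnramified.stalkMap _ _
      have h2 := (Groth.Agent.Lib.UnramLocH4.stalk_unramified_iff_of_isPullback (hsq (f x))
        (f.asFiber x)).mp h1
      exact (Groth.Agent.Lib.UnramLocH4.stalk_congr_point
        (P := @RingHom.FormallyUnramified) f hx').mp h2
    haveI : UniversallyInjective f := by
      refine ((tfae_universallyInjective f).out 0 1).mpr ?_
      intro K _ g₁ g₂ hg
      dsimp only at hg
      obtain ⟨⟨y, φ⟩, hyφ⟩ : ∃ p : Σ y, Y.residueField y ⟶ .of K,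
          g₁ ≫ f = Spec.map p.2 ≫ Y.fromSpecResidueField p.1 :=
        ⟨Y.SpecToEquivOfField K (g₁ ≫ f), ((Y.SpecToEquivOfField K).symm_apply_apply (g₁ ≫ f)).symm⟩
      let g₁' : Spec (.of K) ⟶ f.fiber y := pullback.lift g₁ (Spec.map φ) hyφ
      let g₂' : Spec (.of K) ⟶ f.fiber y := pullback.lift g₂ (Spec.map φ) (hg ▸ hyφ)
      haveI := H y
      have h12 : g₁' = g₂' := by
        rw [← cancel_mono (f.fiberToSpecResidueField y)]
        exact (pullback.lift_snd _ _ _).trans (pullback.lift_snd _ _ _).symm
      calc g₁ = g₁' ≫ f.fiberι y := (pullback.lift_fst _ _ _).symm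
        _ = g₂' ≫ f.fiberι y := by rw [h12]
        _ = g₂ := pullback.lift_fst _ _ _
    exact isIso_diagonal_of_unram_of_univInj f

end Groth.Agent.Lib.MonoFibH4

namespace Groth.Agent.Lib.MonoFibH4

open MonoidalCategory CartesianMonoidalCategory MonObj

theorem main19465 (S : Scheme.{u}) (G : Over S)
    [GrpObj G] [LocallyOfFiniteType G.hom] :
    IsIso G.hom ↔ ∀ s : S, IsIso (G.hom.fiberToSpecResidueField s) := by
  constructor
  · intro h s
    exact inferInstanceAs (IsIso (pullback.snd G.hom (S.fromSpecResidueField s)))
  · intro H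
    haveI : Mono G.hom := (main3042 _ _ G.hom).mpr fun s => by haveI := H s; infer_instance
    have h1 : η[G].left ≫ G.hom = (𝟙_ (Over S)).hom := Over.w η[G]
    haveI : IsIso (𝟙_ (Over S)).hom := by
      show IsIso (𝟙 S)
      infer_instance
    refine ⟨⟨inv (𝟙_ (Over S)).hom ≫ η[G].left, ?_, ?_⟩⟩
    · rw [← cancel_mono G.hom]
      simp only [Category.assoc, h1, IsIso.inv_hom_id, Category.comp_id, Category.id_comp]
    · simp only [Category.assoc, h1, IsIso.inv_hom_id]

end Groth.Agent.Lib.MonoFibH4
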