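import Mathlib
import Groth.Prelude
import Groth.Agent.Lib.MonoFib_helper4
import Groth.Agent.Lib.MTN3_helper4

/-!
# Fibrewise monomorphisms out of a group of multiplicative type (helper4)

A morphism `u : H ⟶ G` of `S`-schemes with `H` locally of finite type over `S` is a monomorphism
as soon as all its fibres over points of `S` are (EGA IV 17.2.6 applied to `u`).
-/

set_option backward.isDefEq.respectTransparency.types false
set_option autoImplicit false
set_option linter.unusedVariables false
set_option linter.unusedTactic false
set_option linter.unreachableTactic false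
set_option linter.unusedSectionVars false
set_option linter.style.haveILetI false
set_option linter.deprecated false
set_option linter.unusedSimpArgs false
set_option linter.style.longLine false
set_option maxHeartbeats 1600000

universe u

open CategoryTheory CategoryTheory.Limits MonoidalCategory CartesianMonoidalCategory MonObj GrpObj
  AlgebraicGeometry Opposite

namespace Groth.Agent.Lib.MonoMTH4

open Groth.Agent.Lib.MTHomH4 Groth.Agent.Lib.MTNormH4

theorem mono_of_fibres_mono {S : Scheme.{u}} {H G : Over S} (u : H ⟶ G)
    [LocallyOfFiniteType H.hom]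
    (hfib : ∀ s : S, Mono ((Over.pullback (S.fromSpecResidueField s)).map u).left) :
    Mono u.left := by
  haveI : LocallyOfFiniteType (u.left ≫ G.hom) := by
    rw [Over.w u]
    infer_instance
  haveI : LocallyOfFiniteType u.left := locallyOfFiniteType_of_comp u.left G.hom
  rw [Groth.Agent.Lib.MonoFibH4.main3042]
  intro g
  show Mono (pullback.snd u.left (G.left.fromSpecResidueField g))
  obtain ⟨s, ρ, hρ⟩ : ∃ (s : S) (ρ : Spec (G.left.residueField g) ⟶ Spec (S.residueField s)),
      ρ ≫ S.fromSpecResidueField s = G.left.fromSpecResidueField g ≫ G.hom :=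
    ⟨_, _, Scheme.Hom.SpecMap_residueFieldMap_fromSpecResidueField G.hom g⟩
  haveI : Mono (bcL u (S.fromSpecResidueField s)) := hfib s
  have h1 : pullback.fst u.left (G.left.fromSpecResidueField g) ≫ H.hom =
      pullback.snd u.left (G.left.fromSpecResidueField g) ≫ ρ ≫ S.fromSpecResidueField s := by
    rw [hρ, ← Over.w u, ← Category.assoc, pullback.condition, Category.assoc]
  have hlift : ∀ {Z : Scheme.{u}} (c : Z ⟶ pullback u.left (G.left.fromSpecResidueField g)),
      ∃ c' : Z ⟶ pullback H.hom (S.fromSpecResidueField s),
        c' ≫ pullback.fst H.hom (S.fromSpecResidueField s) =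
          c ≫ pullback.fst u.left (G.left.fromSpecResidueField g) ∧
        c' ≫ pullback.snd H.hom (S.fromSpecResidueField s) =
          c ≫ pullback.snd u.left (G.left.fromSpecResidueField g) ≫ ρ ∧
        c' ≫ bcL u (S.fromSpecResidueField s) ≫ pullback.fst G.hom (S.fromSpecResidueField s) =
          c ≫ pullback.snd u.left (G.left.fromSpecResidueField g) ≫
            G.left.fromSpecResidueField g := by
    intro Z c
    have hc : (c ≫ pullback.fst u.left (G.left.fromSpecResidueField g)) ≫ H.hom =
        (c ≫ pullback.snd u.left (G.left.fromSpecResidueField g) ≫ ρ) ≫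
          S.fromSpecResidueField s := by
      simp only [Category.assoc]
      rw [h1]
    refine ⟨pullback.lift _ _ hc, pullback.lift_fst _ _ _, pullback.lift_snd _ _ _, ?_⟩
    rw [bcL_fst, ← Category.assoc, pullback.lift_fst, Category.assoc, pullback.condition]
  constructor
  intro Z a b hab
  obtain ⟨a', ha1, ha2, ha3⟩ := hlift a
  obtain ⟨b', hb1, hb2, hb3⟩ := hlift b
  have hab' : a' ≫ bcL u (S.fromSpecResidueField s) = b' ≫ bcL u (S.fromSpecResidueField s) := by
    apply pullback.hom_ext
    · rw [Category.assoc, Category.assoc, ha3, hb3, ← Category.assoc, hab, Category.assoc]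
    · rw [Category.assoc, Category.assoc, bcL_snd, ha2, hb2, ← Category.assoc, hab,
        Category.assoc]
  have heq : a' = b' := (cancel_mono (bcL u (S.fromSpecResidueField s))).mp hab'
  apply pullback.hom_ext
  · rw [← ha1, ← hb1, heq]
  · exact hab

/-- **SGA3 IX 6.8**: a homomorphism out of a group of multiplicative type and of finite type
which is a monomorphism on all fibres is a monomorphism. -/
theorem main5261 {S : Scheme.{u}} (H G : Over S) [GrpObj H] [GrpObj G]
    (hH : SGA3x.IsMultTypeFT H) (u : H ⟶ G)
    (hfib : ∀ s : S, Mono ((Over.pullback (S.fromSpecResidueField s)).map u).left) :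
    Mono u.left := by
  haveI : LocallyOfFinitePresentation H.hom := lfp_of_multType hH
  haveI : LocallyOfFiniteType H.hom := inferInstance
  exact mono_of_fibres_mono u hfib

end Groth.Agent.Lib.MonoMTH4
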