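import Mathlib
import Groth.Prelude

/-!
# Closed subgroups of diagonalizable groups: the algebra (helper4)

Let `J` be an ideal of the group algebra `R[M]` whose zero locus is a submonoid of `D(M)`
(the characters killing `J` are stable under products and contain the trivial character).
If the zero locus of `J` is trivial over a field `Km` then it is trivial over every field `Kp`
such that `ker (R → Kp) ≤ ker (R → Km)` (stability under generization).  The proof uses the
quotient bialgebra `Kp[M] / J` and the linear independence of group-like elements.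

We also prove a spreading-out lemma for finitely generated ideals killed by a localization.
-/

set_option backward.isDefEq.respectTransparency.types false
set_option autoImplicit false
set_option linter.unusedVariables false
set_option linter.unusedTactic false
set_option linter.unreachableTactic false
set_option linter.unusedSectionVars false
set_option linter.style.haveILetI false
set_option linter.deprecated false
set_option linter.unusedSimpArgs false
set_option linter.style.longLine false
set_option maxHeartbeats 1600000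

universe u

open TensorProduct

namespace Groth.Agent.Lib.MonoNbhdH4

/-! ### Lifts of characters and change of coefficients -/

section Lift

variable {R : Type u} [CommRing R]

theorem lift_comp_map {G : Type} [CommMonoid G] (K : Type u) [CommRing K] [Algebra R K]
    (C : Type u) [CommRing C] [Algebra R C] [Algebra K C] [IsScalarTower R K C] (ψ : G →* C)
    (x : MonoidAlgebra R G) :
    MonoidAlgebra.lift K C G ψ (MonoidAlgebra.mapRingHom G (algebraMap R K) x) =
      MonoidAlgebra.lift R C G ψ x := by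
  have h : ((MonoidAlgebra.lift K C G ψ : MonoidAlgebra K G →ₐ[K] C) :
      MonoidAlgebra K G →+* C).comp (MonoidAlgebra.mapRingHom G (algebraMap R K)) =
      ((MonoidAlgebra.lift R C G ψ : MonoidAlgebra R G →ₐ[R] C) : MonoidAlgebra R G →+* C) := by
    apply MonoidAlgebra.ringHom_ext
    · intro r
      simp only [RingHom.comp_apply, RingHom.coe_coe, MonoidAlgebra.mapRingHom_single,
        MonoidAlgebra.lift_single, map_one]
      rw [algebraMap_smul]
    · intro m
      simp only [RingHom.comp_apply, RingHom.coe_coe, MonoidAlgebra.mapRingHom_single,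
        MonoidAlgebra.lift_single, map_one, one_smul]
  exact RingHom.congr_fun h x

theorem algHom_ext_single {K : Type u} [CommRing K] {G : Type} [CommMonoid G] {B : Type u}
    [CommRing B] [Algebra K B] (φ₁ φ₂ : MonoidAlgebra K G →ₐ[K] B)
    (h : ∀ m, φ₁ (MonoidAlgebra.single m 1) = φ₂ (MonoidAlgebra.single m 1)) : φ₁ = φ₂ := by
  apply MonoidAlgebra.algHom_ext h
  apply AlgHom.ext
  intro x
  exact (AlgHom.commutes (φ₁.comp MonoidAlgebra.singleOneAlgHom) x).trans
    (AlgHom.commutes (φ₂.comp MonoidAlgebra.singleOneAlgHom) x).symm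

theorem lift_eq_of_single {G : Type} [CommMonoid G] (K : Type u) [CommRing K] [Algebra R K]
    (C : Type u) [CommRing C] [Algebra R C] [Algebra K C] [IsScalarTower R K C] (ψ : G →* C)
    (F : MonoidAlgebra K G →ₐ[K] C) (hF : ∀ m, F (MonoidAlgebra.single m 1) = ψ m)
    (x : MonoidAlgebra R G) :
    MonoidAlgebra.lift R C G ψ x = F (MonoidAlgebra.mapRingHom G (algebraMap R K) x) := by
  rw [← lift_comp_map K C ψ x]
  have h : MonoidAlgebra.lift K C G ψ = F := by
    apply algHom_ext_single
    intro m
    rw [MonoidAlgebra.lift_single, one_smul, hF]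
  rw [h]

end Lift

/-! ### Quotient bialgebras of group algebras over a field -/

section Field

variable (k : Type u) [Field k] {G : Type} [CommGroup G] (Jk : Ideal (MonoidAlgebra k G))

/-- the tautological character of the quotient, with values in units. -/
noncomputable def chiU : G →* (MonoidAlgebra k G ⧸ Jk)ˣ :=
  (((Ideal.Quotient.mk Jk : MonoidAlgebra k G →+* MonoidAlgebra k G ⧸ Jk) :
    MonoidAlgebra k G →* MonoidAlgebra k G ⧸ Jk).comp (MonoidAlgebra.of k G)).toHomUnits

theorem chiU_val (m : G) :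
    ((chiU k Jk m : (MonoidAlgebra k G ⧸ Jk)ˣ) : MonoidAlgebra k G ⧸ Jk) =
      Ideal.Quotient.mk Jk (MonoidAlgebra.single m 1) := rfl

/-- a coideal of `k[G]` is contained in the kernel of `k[G] → k[G/N]`, where `N` is the group of
elements becoming trivial in the quotient. -/
theorem quot_indep [(Jk.restrictScalars k).IsCoideal] (x : MonoidAlgebra k G) (hx : x ∈ Jk) :
    MonoidAlgebra.mapDomainRingHom k (QuotientGroup.mk' (chiU k Jk).ker) x = 0 := by
  classical
  have hgl : ∀ m : G,
      IsGroupLikeElem k (Ideal.Quotient.mk Jk (MonoidAlgebra.single m (1 : k))) := by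
    intro m
    have h1 := (MonoidAlgebra.isGroupLikeElem_of (R := k) (A := k) m).map
      (Bialgebra.Quotient.mkBialgHom (R := k) Jk)
    exact h1
  obtain ⟨χq, hχq⟩ : ∃ χq : (G ⧸ (chiU k Jk).ker) →* (MonoidAlgebra k G ⧸ Jk),
      ∀ c, χq c = ((QuotientGroup.kerLift (chiU k Jk) c : (MonoidAlgebra k G ⧸ Jk)ˣ) :
        MonoidAlgebra k G ⧸ Jk) :=
    ⟨(Units.coeHom _).comp (QuotientGroup.kerLift (chiU k Jk)), fun _ => rfl⟩
  have hvmk : ∀ m : G, χq (QuotientGroup.mk' (chiU k Jk).ker m) =
      Ideal.Quotient.mk Jk (MonoidAlgebra.single m 1) := by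
    intro m
    rw [hχq]
    rfl
  have hvgl : ∀ c, IsGroupLikeElem k (χq c) := by
    intro c
    obtain ⟨m, rfl⟩ := QuotientGroup.mk'_surjective (chiU k Jk).ker c
    rw [hvmk]
    exact hgl m
  have hvinj : Function.Injective χq := by
    intro c c' h
    rw [hχq, hχq] at h
    exact QuotientGroup.kerLift_injective (chiU k Jk) (Units.ext h)
  have hli : LinearIndependent k (fun c => χq c) := by
    have h0 : LinearIndependent k
        (fun a : {a : MonoidAlgebra k G ⧸ Jk | IsGroupLikeElem k a} =>
          (a : MonoidAlgebra k G ⧸ Jk)) :=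
      linearIndepOn_isGroupLikeElem (R := k) (A := MonoidAlgebra k G ⧸ Jk)
    exact h0.comp (fun c => ⟨χq c, hvgl c⟩) (fun c c' h => hvinj (congrArg Subtype.val h))
  obtain ⟨Λ, hΛ⟩ : ∃ Λ : MonoidAlgebra k (G ⧸ (chiU k Jk).ker) →ₐ[k] MonoidAlgebra k G ⧸ Jk,
      Λ = MonoidAlgebra.lift k _ _ χq := ⟨_, rfl⟩
  have hfac : ∀ y : MonoidAlgebra k G,
      Λ (MonoidAlgebra.mapDomainRingHom k (QuotientGroup.mk' (chiU k Jk).ker) y) =
        Ideal.Quotient.mk Jk y := by
    intro y
    have h1 : Λ.comp (MonoidAlgebra.mapDomainAlgHom k k (QuotientGroup.mk' (chiU k Jk).ker)) =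
        Ideal.Quotient.mkₐ k Jk := by
      apply algHom_ext_single
      intro m
      rw [AlgHom.comp_apply, MonoidAlgebra.mapDomainAlgHom_apply, MonoidAlgebra.mapDomain_single,
        hΛ, MonoidAlgebra.lift_single, one_smul, Ideal.Quotient.mkₐ_eq_mk]
      exact hvmk m
    exact AlgHom.congr_fun h1 y
  obtain ⟨y, hy⟩ : ∃ y, y =
      MonoidAlgebra.mapDomainRingHom k (QuotientGroup.mk' (chiU k Jk).ker) x := ⟨_, rfl⟩
  rw [← hy]
  have h0 : Λ y = 0 := by
    rw [hy, hfac]
    exact Ideal.Quotient.eq_zero_iff_mem.mpr hx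
  have h1 : ∑ c ∈ y.coeff.support, y.coeff c • χq c = 0 := by
    rw [← h0, hΛ, MonoidAlgebra.lift_apply]
    rfl
  have h2 := linearIndependent_iff'.mp hli y.coeff.support (fun c => y.coeff c) h1
  apply MonoidAlgebra.coeff_injective
  ext c
  rw [MonoidAlgebra.coeff_zero, Finsupp.zero_apply]
  by_cases hc : c ∈ y.coeff.support
  · exact h2 c hc
  · exact Finsupp.notMem_support_iff.mp hc

end Field

/-! ### Characters killing an ideal -/

section Alg

variable {R : Type u} [CommRing R] {M : Type} [AddCommGroup M]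

/-- the character `ψ` kills the ideal `J` of the group algebra. -/
def Kills (J : Ideal (MonoidAlgebra R (Multiplicative M))) {C : Type u} [CommRing C]
    [Algebra R C] (ψ : Multiplicative M →* C) : Prop :=
  ∀ x ∈ J, MonoidAlgebra.lift R C (Multiplicative M) ψ x = 0

variable (J : Ideal (MonoidAlgebra R (Multiplicative M)))
  (hmul : ∀ (C : Type u) [CommRing C] [Algebra R C] (ψ₁ ψ₂ : Multiplicative M →* C),
    Kills J ψ₁ → Kills J ψ₂ → Kills J (ψ₁ * ψ₂))
  (hone : ∀ (C : Type u) [CommRing C] [Algebra R C], Kills J (1 : Multiplicative M →* C))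
  (K : Type u) [Field K] [Algebra R K]

local notation "AK" => MonoidAlgebra K (Multiplicative M)

/-- the extension of `J` to the group algebra over `K`. -/
noncomputable def extId : Ideal (MonoidAlgebra K (Multiplicative M)) :=
  Ideal.map (MonoidAlgebra.mapRingHom (Multiplicative M) (algebraMap R K)) J

theorem map_mem_extId (j : MonoidAlgebra R (Multiplicative M)) (hj : j ∈ J) :
    MonoidAlgebra.mapRingHom (Multiplicative M) (algebraMap R K) j ∈ extId J K :=
  Ideal.mem_map_of_mem _ hj

theorem extId_le {D : Type u} [CommRing D] (f : MonoidAlgebra K (Multiplicative M) →+* D)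
    (hf : ∀ j ∈ J, f (MonoidAlgebra.mapRingHom (Multiplicative M) (algebraMap R K) j) = 0)
    (x : MonoidAlgebra K (Multiplicative M)) (hx : x ∈ extId J K) : f x = 0 := by
  have h1 : extId J K ≤ RingHom.ker f := by
    unfold extId
    rw [Ideal.map_le_iff_le_comap]
    intro j hj
    rw [Ideal.mem_comap, RingHom.mem_ker]
    exact hf j hj
  exact RingHom.mem_ker.mp (h1 hx)

include hmul in
theorem comul_kill (T : Type u) [CommRing T] [Algebra R T] [Algebra K T] [IsScalarTower R K T]
    (F₁ F₂ D : MonoidAlgebra K (Multiplicative M) →ₐ[K] T)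
    (hF₁ : ∀ x ∈ extId J K, F₁ x = 0) (hF₂ : ∀ x ∈ extId J K, F₂ x = 0)
    (hD : ∀ m : Multiplicative M, D (MonoidAlgebra.single m 1) =
      F₁ (MonoidAlgebra.single m 1) * F₂ (MonoidAlgebra.single m 1))
    (x : MonoidAlgebra K (Multiplicative M)) (hx : x ∈ extId J K) : D x = 0 := by
  obtain ⟨ψ₁, hψ₁⟩ : ∃ ψ₁ : Multiplicative M →* T, ∀ m, ψ₁ m = F₁ (MonoidAlgebra.single m 1) :=
    ⟨((F₁ : MonoidAlgebra K (Multiplicative M) →+* T) : MonoidAlgebra K (Multiplicative M) →* T).comp
      (MonoidAlgebra.of K (Multiplicative M)), fun _ => rfl⟩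
  obtain ⟨ψ₂, hψ₂⟩ : ∃ ψ₂ : Multiplicative M →* T, ∀ m, ψ₂ m = F₂ (MonoidAlgebra.single m 1) :=
    ⟨((F₂ : MonoidAlgebra K (Multiplicative M) →+* T) : MonoidAlgebra K (Multiplicative M) →* T).comp
      (MonoidAlgebra.of K (Multiplicative M)), fun _ => rfl⟩
  have h₁ : Kills J ψ₁ := by
    intro j hj
    rw [lift_eq_of_single K T ψ₁ F₁ (fun m => (hψ₁ m).symm) j]
    exact hF₁ _ (map_mem_extId J K j hj)
  have h₂ : Kills J ψ₂ := by
    intro j hj
    rw [lift_eq_of_single K T ψ₂ F₂ (fun m => (hψ₂ m).symm) j]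
    exact hF₂ _ (map_mem_extId J K j hj)
  have h12 := hmul T ψ₁ ψ₂ h₁ h₂
  refine extId_le J K (D : MonoidAlgebra K (Multiplicative M) →+* T) (fun j hj => ?_) x hx
  have h4 := lift_eq_of_single K T (ψ₁ * ψ₂) D (fun m => by
    rw [hD, MonoidHom.mul_apply, hψ₁, hψ₂]) j
  show D (MonoidAlgebra.mapRingHom (Multiplicative M) (algebraMap R K) j) = 0
  rw [← h4]
  exact h12 j hj

include hmul hone in
theorem coideal_extId : (Submodule.restrictScalars K (extId J K)).IsCoideal := by
  refine ⟨?_, ?_⟩
  · intro x hx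
    have hx' : x ∈ extId J K := hx
    have e1 : (Bialgebra.counitAlgHom K (MonoidAlgebra K (Multiplicative M))) =
        MonoidAlgebra.lift K K (Multiplicative M) 1 := by
      apply algHom_ext_single
      intro m
      rw [MonoidAlgebra.lift_single, one_smul, MonoidHom.one_apply]
      show Coalgebra.counit (R := K) (MonoidAlgebra.single m (1 : K)) = 1
      rw [MonoidAlgebra.counit_single, CommSemiring.counit_apply]
    have h2 := extId_le J K
      ((Bialgebra.counitAlgHom K (MonoidAlgebra K (Multiplicative M)) :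
        MonoidAlgebra K (Multiplicative M) →ₐ[K] K) : MonoidAlgebra K (Multiplicative M) →+* K)
      (fun j hj => by
        show (Bialgebra.counitAlgHom K (MonoidAlgebra K (Multiplicative M)))
          (MonoidAlgebra.mapRingHom (Multiplicative M) (algebraMap R K) j) = 0
        rw [e1, lift_comp_map]
        exact hone K j hj) x hx'
    exact h2
  · intro x hx
    have hx' : x ∈ extId J K := hx
    have key := comul_kill J hmul K ((AK ⧸ extId J K) ⊗[K] (AK ⧸ extId J K))
      ((Algebra.TensorProduct.includeLeft :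
          (AK ⧸ extId J K) →ₐ[K] (AK ⧸ extId J K) ⊗[K] (AK ⧸ extId J K)).comp
          (Ideal.Quotient.mkₐ K (extId J K)))
      ((Algebra.TensorProduct.includeRight :
          (AK ⧸ extId J K) →ₐ[K] (AK ⧸ extId J K) ⊗[K] (AK ⧸ extId J K)).comp
          (Ideal.Quotient.mkₐ K (extId J K)))
      ((Algebra.TensorProduct.map (Ideal.Quotient.mkₐ K (extId J K))
          (Ideal.Quotient.mkₐ K (extId J K))).comp (Bialgebra.comulAlgHom K AK))
      (fun y hy => by
        rw [AlgHom.comp_apply, Ideal.Quotient.mkₐ_eq_mk, Ideal.Quotient.eq_zero_iff_mem.mpr hy,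
          map_zero])
      (fun y hy => by
        rw [AlgHom.comp_apply, Ideal.Quotient.mkₐ_eq_mk, Ideal.Quotient.eq_zero_iff_mem.mpr hy,
          map_zero])
      (fun m => by
        rw [AlgHom.comp_apply, AlgHom.comp_apply, AlgHom.comp_apply]
        have h3 : Bialgebra.comulAlgHom K AK (MonoidAlgebra.single m 1) =
            (MonoidAlgebra.single m (1 : K)) ⊗ₜ[K] (MonoidAlgebra.single m (1 : K)) := by
          show Coalgebra.comul (R := K) (MonoidAlgebra.single m (1 : K)) = _
          rw [MonoidAlgebra.comul_single, CommSemiring.comul_apply, TensorProduct.map_tmul]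
          rfl
        rw [h3, Algebra.TensorProduct.map_tmul, Algebra.TensorProduct.includeLeft_apply,
          Algebra.TensorProduct.includeRight_apply, Algebra.TensorProduct.tmul_mul_tmul, mul_one,
          one_mul])
      x hx'
    exact key

/-- **Stability under generization.** -/
theorem gen_of_spec (J : Ideal (MonoidAlgebra R (Multiplicative M)))
    (hmul : ∀ (C : Type u) [CommRing C] [Algebra R C] (ψ₁ ψ₂ : Multiplicative M →* C),
      Kills J ψ₁ → Kills J ψ₂ → Kills J (ψ₁ * ψ₂))
    (hone : ∀ (C : Type u) [CommRing C] [Algebra R C], Kills J (1 : Multiplicative M →* C))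
    (Km Kp : Type u) [Field Km] [Field Kp] [Algebra R Km] [Algebra R Kp]
    (hker : RingHom.ker (algebraMap R Kp) ≤ RingHom.ker (algebraMap R Km))
    (hm : ∀ (C : Type u) [CommRing C] [Algebra R C] [Algebra Km C] [IsScalarTower R Km C]
      (ψ : Multiplicative M →* C), Kills J ψ → ψ = 1)
    (C : Type u) [CommRing C] [Algebra R C] [Algebra Kp C] [IsScalarTower R Kp C]
    (ψ : Multiplicative M →* C) (hψ : Kills J ψ) : ψ = 1 := by
  classical
  haveI hco : (Submodule.restrictScalars Kp (extId J Kp)).IsCoideal :=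
    coideal_extId J hmul hone Kp
  obtain ⟨qm, hqm⟩ : ∃ qm : Multiplicative M →* Multiplicative M ⧸ (chiU Kp (extId J Kp)).ker,
      qm = QuotientGroup.mk' (chiU Kp (extId J Kp)).ker := ⟨_, rfl⟩
  have hcoef : ∀ j ∈ J, ∀ c, (MonoidAlgebra.mapDomainRingHom R qm j).coeff c ∈
      RingHom.ker (algebraMap R Kp) := by
    intro j hj c
    have h1 : MonoidAlgebra.mapDomainRingHom Kp qm
        (MonoidAlgebra.mapRingHom (Multiplicative M) (algebraMap R Kp) j) = 0 := by
      rw [hqm]
      exact quot_indep Kp (extId J Kp) _ (map_mem_extId J Kp j hj)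
    have h2 : MonoidAlgebra.mapRingHom _ (algebraMap R Kp) (MonoidAlgebra.mapDomainRingHom R qm j) =
        MonoidAlgebra.mapDomainRingHom Kp qm
          (MonoidAlgebra.mapRingHom (Multiplicative M) (algebraMap R Kp) j) :=
      RingHom.congr_fun (MonoidAlgebra.mapRingHom_comp_mapDomainRingHom (algebraMap R Kp) qm) j
    rw [RingHom.mem_ker, ← MonoidAlgebra.coeff_mapRingHom, h2, h1, MonoidAlgebra.coeff_zero,
      Finsupp.zero_apply]
  obtain ⟨τ, hτ⟩ : ∃ τ : Multiplicative M →*
      MonoidAlgebra Km (Multiplicative M ⧸ (chiU Kp (extId J Kp)).ker),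
      ∀ m, τ m = MonoidAlgebra.single (qm m) 1 :=
    ⟨(MonoidAlgebra.of Km _).comp qm, fun _ => rfl⟩
  have hτk : Kills J τ := by
    intro j hj
    rw [lift_eq_of_single Km _ τ (MonoidAlgebra.mapDomainAlgHom Km Km qm) (fun m => by
      rw [MonoidAlgebra.mapDomainAlgHom_apply, MonoidAlgebra.mapDomain_single, hτ]) j]
    have h2 : MonoidAlgebra.mapDomainRingHom Km qm
        (MonoidAlgebra.mapRingHom (Multiplicative M) (algebraMap R Km) j) =
        MonoidAlgebra.mapRingHom _ (algebraMap R Km) (MonoidAlgebra.mapDomainRingHom R qm j) :=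
      (RingHom.congr_fun
        (MonoidAlgebra.mapRingHom_comp_mapDomainRingHom (algebraMap R Km) qm) j).symm
    show MonoidAlgebra.mapDomainRingHom Km qm
      (MonoidAlgebra.mapRingHom (Multiplicative M) (algebraMap R Km) j) = 0
    rw [h2]
    apply MonoidAlgebra.coeff_injective
    ext c
    rw [MonoidAlgebra.coeff_mapRingHom, MonoidAlgebra.coeff_zero, Finsupp.zero_apply]
    exact RingHom.mem_ker.mp (hker (hcoef j hj c))
  have hτ1 : τ = 1 := hm _ τ hτk
  have hN : ∀ m : Multiplicative M,
      Ideal.Quotient.mk (extId J Kp) (MonoidAlgebra.single m (1 : Kp)) = 1 := by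
    intro m
    have h1 : τ m = 1 := by
      rw [hτ1]
      rfl
    rw [hτ, MonoidAlgebra.one_def] at h1
    have h2 : qm m = 1 := MonoidAlgebra.single_left_injective (one_ne_zero) h1
    rw [hqm] at h2
    have h3 : m ∈ (chiU Kp (extId J Kp)).ker := (QuotientGroup.eq_one_iff m).mp h2
    have h4 : chiU Kp (extId J Kp) m = 1 := MonoidHom.mem_ker.mp h3
    have h5 := congrArg Units.val h4
    rw [chiU_val] at h5
    exact h5
  apply MonoidHom.ext
  intro m
  have h1 : MonoidAlgebra.single m (1 : Kp) - 1 ∈ extId J Kp := by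
    apply Ideal.Quotient.eq.mp
    rw [hN m, map_one]
  have h2 := extId_le J Kp
    ((MonoidAlgebra.lift Kp C (Multiplicative M) ψ : MonoidAlgebra Kp (Multiplicative M) →ₐ[Kp] C) :
      MonoidAlgebra Kp (Multiplicative M) →+* C) (fun j hj => by
    show MonoidAlgebra.lift Kp C (Multiplicative M) ψ
      (MonoidAlgebra.mapRingHom (Multiplicative M) (algebraMap R Kp) j) = 0
    rw [lift_comp_map]
    exact hψ j hj) _ h1
  have h3 : MonoidAlgebra.lift Kp C (Multiplicative M) ψ (MonoidAlgebra.single m 1 - 1) = 0 := h2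
  rw [map_sub, map_one, MonoidAlgebra.lift_single, one_smul, sub_eq_zero] at h3
  rw [h3]
  rfl

end Alg

/-! ### Spreading out the vanishing of a finitely generated ideal -/

theorem spread_ideal (R B : Type u) [CommRing R] [CommRing B] [Algebra R B] (J : Ideal B)
    (hJ : J.FG) (m : Ideal R) [m.IsPrime]
    (h : J ≤ RingHom.ker
      (Algebra.TensorProduct.includeLeftRingHom : B →+* B ⊗[R] Localization.AtPrime m)) :
    ∃ f : R, f ∉ m ∧ J ≤ RingHom.ker
      (Algebra.TensorProduct.includeLeftRingHom : B →+* B ⊗[R] Localization.Away f) := by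
  classical
  obtain ⟨s, hs⟩ := hJ
  have h1 : ∀ b ∈ J, ∃ t : R, t ∉ m ∧ t • b = 0 := by
    intro b hb
    have h2' := RingHom.mem_ker.mp (h hb)
    have h2 : (b ⊗ₜ[R] (1 : Localization.AtPrime m) : B ⊗[R] Localization.AtPrime m) = 0 := h2'
    have h3 : ((1 : Localization.AtPrime m) ⊗ₜ[R] b : Localization.AtPrime m ⊗[R] B) = 0 := by
      have h4 : (TensorProduct.comm R B (Localization.AtPrime m))
          (b ⊗ₜ[R] (1 : Localization.AtPrime m)) = 0 := by
        rw [h2, LinearEquiv.map_zero]
      rw [TensorProduct.comm_tmul] at h4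
      exact h4
    have h4 : (TensorProduct.mk R (Localization.AtPrime m) B 1) b = 0 := h3
    obtain ⟨t, ht⟩ := (IsLocalizedModule.eq_zero_iff m.primeCompl
      (TensorProduct.mk R (Localization.AtPrime m) B 1)).mp h4
    exact ⟨t.1, t.2, ht⟩
  have h2 : ∀ s' : Finset B, (∀ b ∈ s', b ∈ J) → ∃ f : R, f ∉ m ∧ ∀ b ∈ s', f • b = 0 := by
    intro s'
    induction s' using Finset.induction_on with
    | empty =>
      intro _
      exact ⟨1, fun h1m => (‹m.IsPrime›).ne_top ((Ideal.eq_top_iff_one m).mpr h1m),
        fun b hb => absurd hb (Finset.notMem_empty b)⟩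
    | insert a s' ha ih =>
      intro hmem
      obtain ⟨f', hf', hf'2⟩ := ih (fun b hb => hmem b (Finset.mem_insert_of_mem hb))
      obtain ⟨t, ht, ht2⟩ := h1 a (hmem a (Finset.mem_insert_self a s'))
      refine ⟨t * f', fun hmem' => ?_, ?_⟩
      · rcases (‹m.IsPrime›).mem_or_mem hmem' with h5 | h5
        · exact ht h5
        · exact hf' h5
      · intro b hb
        rcases Finset.mem_insert.mp hb with rfl | hb'
        · rw [mul_comm, mul_smul, ht2, smul_zero]
        · rw [mul_smul, hf'2 b hb', smul_zero]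
  obtain ⟨f, hf, hf2⟩ := h2 s (fun b hb => by
    rw [← hs]
    exact Ideal.subset_span (Finset.mem_coe.mpr hb))
  refine ⟨f, hf, ?_⟩
  have h5 : ∀ b ∈ J, f • b = 0 := by
    intro b hb
    rw [← hs] at hb
    refine Submodule.span_induction (p := fun b _ => f • b = 0) ?_ ?_ ?_ ?_ hb
    · intro x hx
      exact hf2 x (Finset.mem_coe.mp hx)
    · exact smul_zero f
    · intro x y _ _ hx hy
      rw [smul_add, hx, hy, add_zero]
    · intro a x _ hx
      rw [smul_comm, hx, smul_zero]
  intro b hb
  rw [RingHom.mem_ker]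
  show (b ⊗ₜ[R] (1 : Localization.Away f) : B ⊗[R] Localization.Away f) = 0
  have h6 : (1 : Localization.Away f) = f • IsLocalization.Away.invSelf (S := Localization.Away f) f := by
    rw [Algebra.smul_def, IsLocalization.Away.mul_invSelf]
  rw [h6, ← TensorProduct.smul_tmul, h5 b hb, TensorProduct.zero_tmul]

end Groth.Agent.Lib.MonoNbhdH4
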