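import Mathlib
import Groth.Prelude
import Groth.Agent.Lib.MonoNbhd1_helper4
import Groth.Agent.Lib.KerTriv6_helper4
import Groth.Agent.Lib.MonoMT1_helper4

/-!
# The kernel of a homomorphism out of a split group, read in a chart (helper4)

For a chart `PtIso H j' N` over `Spec R` and a homomorphism `u : H ⟶ G` into a separated group,
the points of `H` killed by `u` are the characters killing an ideal `J` of `R[N]`; the zero locus
of `J` is a subgroup.  Consequently, if `u` is a monomorphism at a field point `Km` of `Spec R`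
then it is a monomorphism at every field point `Kp` that generizes it.
-/

set_option backward.isDefEq.respectTransparency.types false
set_option autoImplicit false
set_option linter.unusedVariables false
set_option linter.unusedTactic false
set_option linter.unreachableTactic false
set_option linter.unusedSectionVars false
set_option linter.style.haveILetI false
set_option linter.deprecated false
set_option linter.unusedSimpArgs false
set_option linter.style.longLine false
set_option maxHeartbeats 1600000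

universe u

open CategoryTheory CategoryTheory.Limits MonoidalCategory CartesianMonoidalCategory MonObj GrpObj
  AlgebraicGeometry Opposite TensorProduct

namespace Groth.Agent.Lib.MonoNbhdH4

open Groth.Agent.Lib.RedDictH8 Groth.Agent.Lib.DSDict Groth.Agent.Lib.MultGa
  Groth.Agent.Lib.MultTrivH4 Groth.Agent.Lib.ConnActH4 Groth.Agent.Lib.TwConstFinH4
  Groth.Agent.Lib.MTHomH4 Groth.Agent.Lib.TorusQuotH4 Groth.Agent.Lib.KerTrivH4

/-! ### Closed conditions on affine points -/

theorem closed_eq {K X : Scheme.{u}} (k₀ : K ⟶ X) [IsClosedImmersion k₀] (A : Type u) [CommRing A]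
    (y₀ : Spec (CommRingCat.of A) ⟶ X) :
    ∃ J : Ideal A, ∀ (C : Type u) [CommRing C] (φ : A →+* C),
      (∃ l : Spec (CommRingCat.of C) ⟶ K, l ≫ k₀ = Spec.map (CommRingCat.ofHom φ) ≫ y₀) ↔
        J ≤ RingHom.ker φ := by
  obtain ⟨J, ε, hε⟩ := IsClosedImmersion.Spec_iff.mp
    (inferInstance : IsClosedImmersion (pullback.fst y₀ k₀))
  refine ⟨J, ?_⟩
  intro C _ φ
  constructor
  · rintro ⟨l, hl⟩
    obtain ⟨t, ht⟩ : ∃ t : Spec (CommRingCat.of C) ⟶ pullback y₀ k₀,
        t ≫ pullback.fst y₀ k₀ = Spec.map (CommRingCat.ofHom φ) :=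
      ⟨pullback.lift (Spec.map (CommRingCat.ofHom φ)) l hl.symm, pullback.lift_fst _ _ _⟩
    obtain ⟨ρ, hρ⟩ : ∃ ρ : CommRingCat.of (A ⧸ J) ⟶ CommRingCat.of C, Spec.map ρ = t ≫ ε.hom :=
      ⟨Spec.preimage (t ≫ ε.hom), Spec.map_preimage _⟩
    have heq : CommRingCat.ofHom (Ideal.Quotient.mk J) ≫ ρ = CommRingCat.ofHom φ := by
      apply Spec.map_injective
      rw [Spec.map_comp, hρ, Category.assoc, ← hε, ht]
    intro x hx
    rw [RingHom.mem_ker]
    have h3 := congrArg (fun f => f.hom x) heq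
    simp only [CommRingCat.hom_comp, CommRingCat.hom_ofHom, RingHom.comp_apply] at h3
    rw [← h3, Ideal.Quotient.eq_zero_iff_mem.mpr hx, map_zero]
  · intro hle
    have hker : ∀ a ∈ J, φ a = 0 := fun x hx => RingHom.mem_ker.mp (hle hx)
    obtain ⟨ρ, hρ⟩ : ∃ ρ : A ⧸ J →+* C, ρ.comp (Ideal.Quotient.mk J) = φ :=
      ⟨Ideal.Quotient.lift J φ hker, RingHom.ext (fun x => Ideal.Quotient.lift_mk J φ hker)⟩
    have heq : CommRingCat.ofHom (Ideal.Quotient.mk J) ≫ CommRingCat.ofHom ρ =
        CommRingCat.ofHom φ := by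
      rw [← CommRingCat.ofHom_comp, hρ]
    refine ⟨Spec.map (CommRingCat.ofHom ρ) ≫ ε.inv ≫ pullback.snd y₀ k₀, ?_⟩
    rw [Category.assoc, Category.assoc, ← pullback.condition, hε, ← heq, Spec.map_comp]
    simp only [Category.assoc, Iso.inv_hom_id_assoc]

theorem pt_one_iff {S : Scheme.{u}} {G : Over S} [GrpObj G] {W : Over S} (w : W ⟶ G) :
    w = 1 ↔ ∃ l : W.left ⟶ S, l ≫ unitSec G = w.left := by
  constructor
  · intro h
    exact ⟨W.hom, by rw [h, one_left]⟩
  · rintro ⟨l, hl⟩
    have h1 : l = W.hom := by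
      have h2 := congrArg (fun f => f ≫ G.hom) hl
      simp only [Category.assoc, unitSec_hom, Category.comp_id, Over.w] at h2
      exact h2
    apply Over.OverMorphism.ext
    rw [one_left, ← hl, h1]

theorem injOn_apply {S T : Scheme.{u}} {A B : Over S} (v : A ⟶ B) (g : T ⟶ S) (hi : InjOn v g)
    {W : Scheme.{u}} (h : W ⟶ T) (q : W ⟶ S) (hq : q = h ≫ g) (x x' : Over.mk q ⟶ A)
    (hxx : x ≫ v = x' ≫ v) : x = x' := by
  subst hq
  exact hi (Over.mk h) hxx

/-! ### Points of a chart with values in affine schemes -/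

section Chart

variable {S : Scheme.{u}} {H G : Over S} [GrpObj H] [GrpObj G] {R : Type u} [CommRing R]
  {j' : Spec (CommRingCat.of R) ⟶ S} {N : Type} [AddCommGroup N] (e : PtIso H j' N)

/-- `Spec C` as a scheme over `Spec R`. -/
noncomputable abbrev TB (R : Type u) [CommRing R] (C : Type u) [CommRing C] [Algebra R C] :
    Over (Spec (CommRingCat.of R)) :=
  Over.mk (Spec.map (CommRingCat.ofHom (algebraMap R C)))

theorem gamma_hom_inv (C : Type u) [CommRing C] (x : C) :
    (Scheme.ΓSpecIso (CommRingCat.of C)).hom.hom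
      ((Scheme.ΓSpecIso (CommRingCat.of C)).inv.hom x) = x := by
  have h := congrArg (fun f => f.hom x) (Scheme.ΓSpecIso (CommRingCat.of C)).inv_hom_id
  simp only [CommRingCat.hom_comp, RingHom.comp_apply, CommRingCat.hom_id, RingHom.id_apply] at h
  exact h

theorem gamma_inv_hom (C : Type u) [CommRing C] (y : Γ(Spec (CommRingCat.of C), ⊤)) :
    (Scheme.ΓSpecIso (CommRingCat.of C)).inv.hom
      ((Scheme.ΓSpecIso (CommRingCat.of C)).hom.hom y) = y := by
  have h := congrArg (fun f => f.hom y) (Scheme.ΓSpecIso (CommRingCat.of C)).hom_inv_id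
  simp only [CommRingCat.hom_comp, RingHom.comp_apply, CommRingCat.hom_id, RingHom.id_apply] at h
  exact h

theorem exists_dOf (C : Type u) [CommRing C] [Algebra R C] (ψ : Multiplicative N →* C) :
    ∃ d : TB R C ⟶ Red.DS (Spec (CommRingCat.of R)) N,
      ∀ m : N, chr d m =
        (Scheme.ΓSpecIso (CommRingCat.of C)).inv.hom (ψ (Multiplicative.ofAdd m)) :=
  exists_chr_eq (T := TB R C)
    ((((Scheme.ΓSpecIso (CommRingCat.of C)).inv.hom : C →+* Γ(Spec (CommRingCat.of C), ⊤)) :
      C →* Γ(Spec (CommRingCat.of C), ⊤)).comp ψ)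

/-- the point of `H` with character `ψ`. -/
noncomputable def zOf (C : Type u) [CommRing C] [Algebra R C] (ψ : Multiplicative N →* C) :
    (Over.map j').obj (TB R C) ⟶ H :=
  e.ofD (TB R C) (Classical.choose (exists_dOf (R := R) C ψ))

theorem chr_zOf (C : Type u) [CommRing C] [Algebra R C] (ψ : Multiplicative N →* C) (m : N) :
    chr (e.toD (TB R C) (zOf e C ψ)) m =
      (Scheme.ΓSpecIso (CommRingCat.of C)).inv.hom (ψ (Multiplicative.ofAdd m)) := by
  unfold zOf
  rw [e.to_of]
  exact Classical.choose_spec (exists_dOf (R := R) C ψ) m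

theorem pt_ext (C : Type u) [CommRing C] [Algebra R C] (x x' : (Over.map j').obj (TB R C) ⟶ H)
    (h : ∀ m, chr (e.toD (TB R C) x) m = chr (e.toD (TB R C) x') m) : x = x' :=
  e.to_inj _ _ _ (chr_injective _ _ h)

theorem zOf_mul (C : Type u) [CommRing C] [Algebra R C] (ψ₁ ψ₂ : Multiplicative N →* C) :
    zOf e C (ψ₁ * ψ₂) = zOf e C ψ₁ * zOf e C ψ₂ := by
  apply pt_ext e C
  intro m
  rw [e.to_mul, chr_mul, chr_zOf, chr_zOf, chr_zOf, MonoidHom.mul_apply, map_mul]

theorem zOf_one (C : Type u) [CommRing C] [Algebra R C] :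
    zOf e C (1 : Multiplicative N →* C) = 1 := by
  apply pt_ext e C
  intro m
  rw [e.to_one, chr_one, chr_zOf, MonoidHom.one_apply, map_one]

theorem zOf_eq_one (C : Type u) [CommRing C] [Algebra R C] (ψ : Multiplicative N →* C)
    (h : zOf e C ψ = 1) : ψ = 1 := by
  apply MonoidHom.ext
  intro m
  have h1 := chr_zOf e C ψ (Multiplicative.toAdd m)
  rw [h, e.to_one, chr_one] at h1
  have h2 := congrArg (Scheme.ΓSpecIso (CommRingCat.of C)).hom.hom h1
  rw [gamma_hom_inv, map_one] at h2
  exact h2.symm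

theorem exists_zOf (C : Type u) [CommRing C] [Algebra R C]
    (x : (Over.map j').obj (TB R C) ⟶ H) : ∃ ψ : Multiplicative N →* C, x = zOf e C ψ := by
  refine ⟨{ toFun := fun m => (Scheme.ΓSpecIso (CommRingCat.of C)).hom.hom
              (chr (e.toD (TB R C) x) (Multiplicative.toAdd m))
            map_one' := by simp only [toAdd_one, chr_zero, map_one]
            map_mul' := by
              intro a b
              simp only [toAdd_mul, chr_add, map_mul] }, ?_⟩
  apply pt_ext e C
  intro m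
  rw [chr_zOf]
  show _ = (Scheme.ΓSpecIso (CommRingCat.of C)).inv.hom
    ((Scheme.ΓSpecIso (CommRingCat.of C)).hom.hom (chr (e.toD (TB R C) x) m))
  rw [gamma_inv_hom]

/-- the morphism of `R`-schemes induced by an `R`-algebra map. -/
noncomputable def cOf {C C' : Type u} [CommRing C] [CommRing C'] [Algebra R C] [Algebra R C']
    (φ : C →ₐ[R] C') : TB R C' ⟶ TB R C :=
  Over.homMk (Spec.map (CommRingCat.ofHom φ.toRingHom)) (by
    show Spec.map (CommRingCat.ofHom φ.toRingHom) ≫
      Spec.map (CommRingCat.ofHom (algebraMap R C)) = Spec.map (CommRingCat.ofHom (algebraMap R C'))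
    rw [← Spec.map_comp, ← CommRingCat.ofHom_comp, AlgHom.toRingHom_eq_coe,
      AlgHom.comp_algebraMap])

theorem zOf_nat {C C' : Type u} [CommRing C] [CommRing C'] [Algebra R C] [Algebra R C']
    (φ : C →ₐ[R] C') (ψ : Multiplicative N →* C) :
    (Over.map j').map (cOf φ) ≫ zOf e C ψ = zOf e C' ((φ.toRingHom : C →* C').comp ψ) := by
  apply pt_ext e C'
  intro m
  rw [e.to_nat, chr_comp, chr_zOf, chr_zOf]
  have h := congrArg (fun f => f.hom (ψ (Multiplicative.ofAdd m)))
    (Scheme.ΓSpecIso_inv_naturality (CommRingCat.ofHom φ.toRingHom))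
  simp only [CommRingCat.hom_comp, RingHom.comp_apply, CommRingCat.hom_ofHom] at h
  exact h.symm

/-- the points of `H` killed by `u` are the characters killing an ideal. -/
theorem key_iff [IsSeparated G.hom] (u : H ⟶ G) :
    ∃ J : Ideal (MonoidAlgebra R (Multiplicative N)),
      ∀ (C : Type u) [CommRing C] [Algebra R C] (ψ : Multiplicative N →* C),
        zOf e C ψ ≫ u = 1 ↔ Kills J ψ := by
  haveI := closedImm_unitSec G
  obtain ⟨yA, hyA⟩ : ∃ yA : (Over.map j').obj (TB R (MonoidAlgebra R (Multiplicative N))) ⟶ H,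
      yA = zOf e (MonoidAlgebra R (Multiplicative N)) (MonoidAlgebra.of R (Multiplicative N)) :=
    ⟨_, rfl⟩
  obtain ⟨J, hJ⟩ := closed_eq (unitSec G) (MonoidAlgebra R (Multiplicative N))
    (yA.left ≫ u.left)
  refine ⟨J, ?_⟩
  intro C _ _ ψ
  have e1 : zOf e C ψ =
      (Over.map j').map (cOf (MonoidAlgebra.lift R C (Multiplicative N) ψ)) ≫ yA := by
    rw [hyA, zOf_nat]
    congr 1
    apply MonoidHom.ext
    intro m
    show ψ m = MonoidAlgebra.lift R C (Multiplicative N) ψ
      (MonoidAlgebra.of R (Multiplicative N) m)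
    rw [MonoidAlgebra.lift_of]
  rw [e1, pt_one_iff]
  have e2 : (((Over.map j').map (cOf (MonoidAlgebra.lift R C (Multiplicative N) ψ)) ≫ yA) ≫
      u).left = Spec.map (CommRingCat.ofHom
        (MonoidAlgebra.lift R C (Multiplicative N) ψ).toRingHom) ≫ yA.left ≫ u.left := by
    rw [Over.comp_left, Over.comp_left, Category.assoc]
    rfl
  rw [e2]
  exact (hJ C _).trans
    ⟨fun h x hx => RingHom.mem_ker.mp (h hx), fun h x hx => RingHom.mem_ker.mpr (h x hx)⟩

theorem aff_case [IsSeparated G.hom] (u : H ⟶ G) [IsMonHom u]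
    (J : Ideal (MonoidAlgebra R (Multiplicative N)))
    (hJ : ∀ (C : Type u) [CommRing C] [Algebra R C] (ψ : Multiplicative N →* C),
      zOf e C ψ ≫ u = 1 ↔ Kills J ψ)
    (Kp : Type u) [Field Kp] [Algebra R Kp]
    (hbp : ∀ (C : Type u) [CommRing C] [Algebra R C] [Algebra Kp C] [IsScalarTower R Kp C]
      (ψ : Multiplicative N →* C), Kills J ψ → ψ = 1)
    (C₀ : Type u) [CommRing C₀] [Algebra R C₀] [Algebra Kp C₀] [IsScalarTower R Kp C₀]
    (q : Spec (CommRingCat.of C₀) ⟶ S)
    (hq : q = Spec.map (CommRingCat.ofHom (algebraMap R C₀)) ≫ j')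
    (x x' : Over.mk q ⟶ H) (hxx : x ≫ u = x' ≫ u) : x = x' := by
  subst hq
  obtain ⟨ψ, hψ⟩ := exists_zOf e C₀ (x * x'⁻¹)
  have h1 : (x * x'⁻¹) ≫ u = 1 := by
    rw [MonObj.mul_comp, GrpObj.inv_comp, hxx, mul_inv_cancel]
  rw [hψ] at h1
  have h2 : ψ = 1 := hbp C₀ ψ ((hJ C₀ ψ).mp h1)
  rw [h2, zOf_one] at hψ
  exact mul_inv_eq_one.mp hψ

theorem aff_piece [IsSeparated G.hom] (u : H ⟶ G) [IsMonHom u]
    (J : Ideal (MonoidAlgebra R (Multiplicative N)))
    (hJ : ∀ (C : Type u) [CommRing C] [Algebra R C] (ψ : Multiplicative N →* C),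
      zOf e C ψ ≫ u = 1 ↔ Kills J ψ)
    (Kp : Type u) [Field Kp] [Algebra R Kp]
    (hbp : ∀ (C : Type u) [CommRing C] [Algebra R C] [Algebra Kp C] [IsScalarTower R Kp C]
      (ψ : Multiplicative N →* C), Kills J ψ → ψ = 1)
    (T'' : Over (Spec (CommRingCat.of Kp)))
    (x x' : (Over.map (Spec.map (CommRingCat.ofHom (algebraMap R Kp)) ≫ j')).obj T'' ⟶ H)
    (hxx : x ≫ u = x' ≫ u) (C : CommRingCat.{u}) (a' : Spec C ⟶ T''.left) :
    a' ≫ x.left = a' ≫ x'.left := by
  obtain ⟨C₀, iC, rfl⟩ : ∃ (C₀ : Type u) (_ : CommRing C₀), C = CommRingCat.of C₀ :=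
    ⟨C, inferInstance, rfl⟩
  obtain ⟨φ, hφ⟩ : ∃ φ : CommRingCat.of Kp ⟶ CommRingCat.of C₀, Spec.map φ = a' ≫ T''.hom :=
    ⟨Spec.preimage _, Spec.map_preimage _⟩
  letI : Algebra Kp C₀ := φ.hom.toAlgebra
  letI : Algebra R C₀ := (φ.hom.comp (algebraMap R Kp)).toAlgebra
  haveI : IsScalarTower R Kp C₀ := IsScalarTower.of_algebraMap_eq (fun _ => rfl)
  obtain ⟨π, hπ⟩ : ∃ π : Over.mk (a' ≫ T''.hom ≫
      Spec.map (CommRingCat.ofHom (algebraMap R Kp)) ≫ j') ⟶
      (Over.map (Spec.map (CommRingCat.ofHom (algebraMap R Kp)) ≫ j')).obj T'', π.left = a' :=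
    ⟨Over.homMk a' rfl, rfl⟩
  have hq : a' ≫ T''.hom ≫ Spec.map (CommRingCat.ofHom (algebraMap R Kp)) ≫ j' =
      Spec.map (CommRingCat.ofHom (algebraMap R C₀)) ≫ j' := by
    rw [← Category.assoc, ← hφ, ← Category.assoc, ← Spec.map_comp]
    rfl
  have h := aff_case e u J hJ Kp hbp C₀ _ hq (π ≫ x) (π ≫ x')
    (by rw [Category.assoc, Category.assoc, hxx])
  have h2 := congrArg (fun f => f.left) h
  simp only [Over.comp_left, hπ] at h2
  exact h2

include e in
/-- **Generization** in a chart, for field points given by algebra structures. -/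
theorem chart_gen [IsSeparated G.hom] (u : H ⟶ G) [IsMonHom u]
    (Km Kp : Type u) [Field Km] [Field Kp] [Algebra R Km] [Algebra R Kp]
    (hker : RingHom.ker (algebraMap R Kp) ≤ RingHom.ker (algebraMap R Km))
    (hm : Mono (bcL u (Spec.map (CommRingCat.ofHom (algebraMap R Km)) ≫ j'))) :
    Mono (bcL u (Spec.map (CommRingCat.ofHom (algebraMap R Kp)) ≫ j')) := by
  obtain ⟨J, hJ⟩ := key_iff e u
  have hmul : ∀ (C : Type u) [CommRing C] [Algebra R C] (ψ₁ ψ₂ : Multiplicative N →* C),
      Kills J ψ₁ → Kills J ψ₂ → Kills J (ψ₁ * ψ₂) := by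
    intro C _ _ ψ₁ ψ₂ h₁ h₂
    apply (hJ C _).mp
    rw [zOf_mul, MonObj.mul_comp, (hJ C ψ₁).mpr h₁, (hJ C ψ₂).mpr h₂, _root_.mul_one]
  have hone : ∀ (C : Type u) [CommRing C] [Algebra R C],
      Kills J (1 : Multiplicative N →* C) := by
    intro C _ _
    apply (hJ C _).mp
    rw [zOf_one, MonObj.one_comp]
  have hi_m : InjOn u (Spec.map (CommRingCat.ofHom (algebraMap R Km)) ≫ j') :=
    (mono_iff_injOn u _).mp ((mono_left_iff _).mp hm)
  have hbm : ∀ (C : Type u) [CommRing C] [Algebra R C] [Algebra Km C] [IsScalarTower R Km C]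
      (ψ : Multiplicative N →* C), Kills J ψ → ψ = 1 := by
    intro C _ _ _ _ ψ hψ
    have h1 : zOf e C ψ ≫ u = 1 := (hJ C ψ).mpr hψ
    have hq : Spec.map (CommRingCat.ofHom (algebraMap R C)) ≫ j' =
        Spec.map (CommRingCat.ofHom (algebraMap Km C)) ≫
          Spec.map (CommRingCat.ofHom (algebraMap R Km)) ≫ j' := by
      rw [← Category.assoc, ← Spec.map_comp, ← CommRingCat.ofHom_comp,
        ← IsScalarTower.algebraMap_eq]
    have h2 : zOf e C ψ = 1 :=
      injOn_apply u _ hi_m (Spec.map (CommRingCat.ofHom (algebraMap Km C))) _ hq (zOf e C ψ) 1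
        (by rw [h1, MonObj.one_comp])
    exact zOf_eq_one e C ψ h2
  have hbp := gen_of_spec J hmul hone Km Kp hker hbm
  apply (mono_left_iff _).mpr
  apply (mono_iff_injOn u _).mpr
  intro T'' x x' hxx
  have hxx' : x ≫ u = x' ≫ u := hxx
  apply Over.OverMorphism.ext
  apply Scheme.Cover.hom_ext T''.left.affineOpenCover.openCover
  intro i
  exact aff_piece e u J hJ Kp hbp T'' x x' hxx' (T''.left.affineOpenCover.X i)
    (T''.left.affineOpenCover.f i)

theorem ker_of_field_pt (K : Type u) [Field K] (φ : CommRingCat.of R ⟶ CommRingCat.of K)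
    (a : ↥(Spec (CommRingCat.of K))) :
    (show PrimeSpectrum R from (Spec.map φ).base a).asIdeal = RingHom.ker φ.hom := by
  have h1 : (show PrimeSpectrum R from (Spec.map φ).base a) =
      PrimeSpectrum.comap φ.hom (show PrimeSpectrum K from a) := rfl
  rw [h1, PrimeSpectrum.comap_asIdeal, RingHom.ker_eq_comap_bot]
  haveI := (show PrimeSpectrum K from a).isPrime
  rw [Ideal.eq_bot_of_prime (show PrimeSpectrum K from a).asIdeal]

include e in
/-- **Generization** in a chart, for arbitrary field points. -/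
theorem chart_gen' [IsSeparated G.hom] (u : H ⟶ G) [IsMonHom u]
    (Km Kp : Type u) [Field Km] [Field Kp]
    (zm : Spec (CommRingCat.of Km) ⟶ Spec (CommRingCat.of R))
    (zp : Spec (CommRingCat.of Kp) ⟶ Spec (CommRingCat.of R))
    (hsp : ∀ a b, zp.base a ⤳ zm.base b)
    (hm : Mono (bcL u (zm ≫ j'))) : Mono (bcL u (zp ≫ j')) := by
  obtain ⟨φm, hφm⟩ : ∃ φm : CommRingCat.of R ⟶ CommRingCat.of Km, Spec.map φm = zm :=
    ⟨Spec.preimage zm, Spec.map_preimage zm⟩
  obtain ⟨φp, hφp⟩ : ∃ φp : CommRingCat.of R ⟶ CommRingCat.of Kp, Spec.map φp = zp :=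
    ⟨Spec.preimage zp, Spec.map_preimage zp⟩
  subst hφm hφp
  letI : Algebra R Km := φm.hom.toAlgebra
  letI : Algebra R Kp := φp.hom.toAlgebra
  have hker : RingHom.ker (algebraMap R Kp) ≤ RingHom.ker (algebraMap R Km) := by
    obtain ⟨a⟩ : Nonempty (PrimeSpectrum Kp) := inferInstance
    obtain ⟨b⟩ : Nonempty (PrimeSpectrum Km) := inferInstance
    have h1 : (show PrimeSpectrum R from (Spec.map φp).base a) ≤
        (show PrimeSpectrum R from (Spec.map φm).base b) :=
      (PrimeSpectrum.le_iff_specializes _ _).mpr (hsp a b)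
    have h2 : (show PrimeSpectrum R from (Spec.map φp).base a).asIdeal ≤
        (show PrimeSpectrum R from (Spec.map φm).base b).asIdeal := h1
    rw [ker_of_field_pt, ker_of_field_pt] at h2
    exact h2
  exact chart_gen e u Km Kp hker hm

include e in
/-- **Generization** in a chart, for residue field points. -/
theorem chart_points [IsSeparated G.hom] (u : H ⟶ G) [IsMonHom u]
    (p m : ↥(Spec (CommRingCat.of R))) (hpm : p ⤳ m)
    (hm : Mono (bcL u ((Spec (CommRingCat.of R)).fromSpecResidueField m ≫ j'))) :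
    Mono (bcL u ((Spec (CommRingCat.of R)).fromSpecResidueField p ≫ j')) := by
  refine chart_gen' e u ((Spec (CommRingCat.of R)).residueField m)
    ((Spec (CommRingCat.of R)).residueField p)
    ((Spec (CommRingCat.of R)).fromSpecResidueField m)
    ((Spec (CommRingCat.of R)).fromSpecResidueField p) ?_ hm
  intro a b
  have ha : ((Spec (CommRingCat.of R)).fromSpecResidueField p).base a = p := by
    have h3 : ((Spec (CommRingCat.of R)).fromSpecResidueField p).base a ∈
        ({p} : Set ↥(Spec (CommRingCat.of R))) := by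
      rw [← Scheme.range_fromSpecResidueField]
      exact ⟨a, rfl⟩
    exact Set.mem_singleton_iff.mp h3
  have hb : ((Spec (CommRingCat.of R)).fromSpecResidueField m).base b = m := by
    have h3 : ((Spec (CommRingCat.of R)).fromSpecResidueField m).base b ∈
        ({m} : Set ↥(Spec (CommRingCat.of R))) := by
      rw [← Scheme.range_fromSpecResidueField]
      exact ⟨b, rfl⟩
    exact Set.mem_singleton_iff.mp h3
  rw [ha, hb]
  exact hpm

end Chart

end Groth.Agent.Lib.MonoNbhdH4
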