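import Mathlib
import Groth.Prelude
import Groth.Agent.Lib.MonoNbhd2_helper4
import Groth.Agent.Lib.MTN6_helper4

/-!
# A homomorphism out of a group of multiplicative type which is a monomorphism at a point is a
monomorphism in a neighbourhood (helper4)

SGA3 IX 6.6.  The locus of points where the fibre of `u : H ⟶ G` is a monomorphism is stable under
generization (read in charts through the quotient Hopf algebra, `MonoNbhd1/2`) and the triviality
of the kernel spreads out from a local ring because the unit section of the kernel is a closed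
immersion of finite presentation (`KerTrivH4.dict`).
-/

set_option backward.isDefEq.respectTransparency.types false
set_option autoImplicit false
set_option linter.unusedVariables false
set_option linter.unusedTactic false
set_option linter.unreachableTactic false
set_option linter.unusedSectionVars false
set_option linter.style.haveILetI false
set_option linter.deprecated false
set_option linter.unusedSimpArgs false
set_option linter.style.longLine false
set_option maxHeartbeats 1600000

universe u

open CategoryTheory CategoryTheory.Limits MonoidalCategory CartesianMonoidalCategory MonObj GrpObj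
  AlgebraicGeometry Opposite TensorProduct

namespace Groth.Agent.Lib.MonoNbhdH4

open Groth.Agent.Lib.RedDictH8 Groth.Agent.Lib.DSDict Groth.Agent.Lib.MultGa
  Groth.Agent.Lib.MultTrivH4 Groth.Agent.Lib.ConnActH4 Groth.Agent.Lib.TwConstFinH4
  Groth.Agent.Lib.MTHomH4 Groth.Agent.Lib.TorusQuotH4 Groth.Agent.Lib.KerTrivH4
  Groth.Agent.Lib.MTNormH4

/-! ### Generalities on base changes which are monomorphisms -/

section General

variable {S : Scheme.{u}} {H G : Over S} (u : H ⟶ G)

theorem mono_congr {T : Scheme.{u}} {g g' : T ⟶ S} (e : g = g') (h : Mono (bcL u g)) :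
    Mono (bcL u g') := by
  subst e
  exact h

theorem mono_bc {T T' : Scheme.{u}} (g : T ⟶ S) (h : T' ⟶ T) (hm : Mono (bcL u g)) :
    Mono (bcL u (h ≫ g)) :=
  (MorphismProperty.monomorphisms.iff _).mp
    (P_bc (P := MorphismProperty.monomorphisms Scheme.{u}) u g h
      ((MorphismProperty.monomorphisms.iff _).mpr hm))

theorem mono_field_iff {X : Scheme.{u}} (F : X ⟶ S) (x : X) :
    Mono (bcL u (X.fromSpecResidueField x ≫ F)) ↔
      Mono (bcL u (S.fromSpecResidueField (F.base x))) := by
  haveI : (MorphismProperty.monomorphisms Scheme.{u}).DescendsAlong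
      (@Surjective ⊓ @Flat ⊓ @QuasiCompact : MorphismProperty Scheme.{u}) := by
    rw [← MorphismProperty.diagonal_isomorphisms]
    infer_instance
  have h := P_field_iff (P := MorphismProperty.monomorphisms Scheme.{u}) u F x
  rw [MorphismProperty.monomorphisms.iff, MorphismProperty.monomorphisms.iff] at h
  exact h

theorem mono_nest {T T' : Scheme.{u}} (g : T ⟶ S) (h : T' ⟶ T) (hm : Mono (bcL u (h ≫ g))) :
    Mono (bcL ((Over.pullback g).map u) h) := by
  have hi : InjOn u (h ≫ g) := (mono_iff_injOn u _).mp ((mono_left_iff _).mp hm)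
  apply (mono_left_iff _).mpr
  apply (mono_iff_injOn _ _).mpr
  intro T'' x x' hxx
  have hxx' : x ≫ (Over.pullback g).map u = x' ≫ (Over.pullback g).map u := hxx
  have h1 : chk g x = chk g x' :=
    injOn_apply u (h ≫ g) hi T''.hom ((T''.hom ≫ h) ≫ g) (Category.assoc _ _ _) (chk g x)
      (chk g x') (by rw [← chk_postcomp, ← chk_postcomp, hxx'])
  have h2 := congrArg (fun w => unchk g w) h1
  simp only [unchk_chk] at h2
  exact h2

theorem mono_of_fibres [LocallyOfFiniteType H.hom] {T : Scheme.{u}} (g : T ⟶ S)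
    (hfib : ∀ t : T, Mono (bcL u (T.fromSpecResidueField t ≫ g))) : Mono (bcL u g) := by
  haveI : LocallyOfFiniteType ((Over.pullback g).obj H).hom := by
    show LocallyOfFiniteType (pullback.snd H.hom g)
    infer_instance
  exact Groth.Agent.Lib.MonoMTH4.mono_of_fibres_mono ((Over.pullback g).map u)
    (fun t => mono_nest u g (T.fromSpecResidueField t) (hfib t))

end General

/-! ### The unit section of the kernel -/

section KerUnit

variable {S : Scheme.{u}} {H G : Over S} [GrpObj H] [GrpObj G] (u : H ⟶ G) [IsMonHom u]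

theorem exists_kerUnit : ∃ eK : 𝟙_ (Over S) ⟶ kerObj u, eK ≫ kerι u = η[H] := by
  apply (ker_iff u η[H]).mpr
  rw [IsMonHom.one_hom, Hom.one_def, toUnit_unique (toUnit (𝟙_ (Over S))) (𝟙 _), Category.id_comp]

theorem mono_iff_unitIso (eK : 𝟙_ (Over S) ⟶ kerObj u) (heK : eK ≫ kerι u = η[H])
    {T : Scheme.{u}} (g : T ⟶ S) : Mono (bcL u g) ↔ IsIso (bcL eK g) := by
  haveI := mono_kerι u
  rw [mono_left_iff, mono_iff_injOn, isIso_left_iff, isIso_iff_injOn_surjOn]
  constructor
  · intro hi
    refine ⟨fun T'' x x' _ => toUnit_unique x x', fun T'' y => ⟨toUnit _, ?_⟩⟩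
    show toUnit _ ≫ eK = y
    apply (cancel_mono (kerι u)).mp
    rw [Category.assoc, heK]
    have h1 : (y ≫ kerι u) ≫ u = (1 : (Over.map g).obj T'' ⟶ H) ≫ u := by
      rw [Category.assoc, kerι_comp, MonObj.comp_one, MonObj.one_comp]
    have h2 : y ≫ kerι u = 1 := hi T'' h1
    rw [h2, Hom.one_def]
  · rintro ⟨-, hs⟩ T'' x x' hxx
    have hxx' : x ≫ u = x' ≫ u := hxx
    have h1 : (x * x'⁻¹) ≫ u = 1 := by
      rw [MonObj.mul_comp, GrpObj.inv_comp, hxx', mul_inv_cancel]
    obtain ⟨y, hy⟩ := (ker_iff u (x * x'⁻¹)).mpr h1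
    obtain ⟨t, ht⟩ := hs T'' y
    have ht' : t ≫ eK = y := ht
    have h2 : x * x'⁻¹ = 1 := by
      rw [← hy, ← ht', Category.assoc, heK, toUnit_unique t (toUnit _), ← Hom.one_def]
    exact mul_inv_eq_one.mp h2

theorem kerUnit_props [IsAffineHom H.hom] [LocallyOfFiniteType H.hom]
    [IsClosedImmersion (kerι u).left] [LocallyOfFinitePresentation (kerι u).left]
    (eK : 𝟙_ (Over S) ⟶ kerObj u) :
    IsClosedImmersion eK.left ∧ LocallyOfFinitePresentation eK.left ∧
      IsAffineHom (kerObj u).hom := by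
  have hK : (kerObj u).hom = (kerι u).left ≫ H.hom := (Over.w (kerι u)).symm
  haveI hA : IsAffineHom (kerObj u).hom := by
    rw [hK]
    infer_instance
  haveI hS : IsSeparated (kerObj u).hom := inferInstance
  haveI hT : LocallyOfFiniteType (kerObj u).hom := by
    rw [hK]
    infer_instance
  have hw : eK.left ≫ (kerObj u).hom = 𝟙 S := Over.w eK
  haveI : IsClosedImmersion (eK.left ≫ (kerObj u).hom) := by
    rw [hw]
    exact (inferInstance : IsClosedImmersion (𝟙 S))
  haveI : LocallyOfFinitePresentation (eK.left ≫ (kerObj u).hom) := by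
    rw [hw]
    exact (inferInstance : LocallyOfFinitePresentation (𝟙 S))
  exact ⟨IsClosedImmersion.of_comp eK.left (kerObj u).hom, lfp_of_comp' eK.left (kerObj u).hom, hA⟩

end KerUnit

/-! ### Affine coordinates on the base change of an affine `S`-scheme -/

theorem exists_coord_affine {S : Scheme.{u}} (K : Over S) [IsAffineHom K.hom] (R : Type u)
    [CommRing R] (g : Spec (CommRingCat.of R) ⟶ S) :
    ∃ (B : Type u) (_ : CommRing B) (_ : Algebra R B)
      (θ : pullback K.hom g ≅ Spec (CommRingCat.of B)),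
      θ.hom ≫ Spec.map (CommRingCat.ofHom (algebraMap R B)) = pullback.snd K.hom g := by
  haveI : IsAffineHom (pullback.snd K.hom g) := inferInstance
  haveI : IsAffine (pullback K.hom g) := isAffine_of_isAffineHom (pullback.snd K.hom g)
  obtain ⟨φ, hφ⟩ : ∃ φ : CommRingCat.of R ⟶ Γ(pullback K.hom g, ⊤),
      Spec.map φ = (pullback K.hom g).isoSpec.inv ≫ pullback.snd K.hom g :=
    ⟨Spec.preimage _, Spec.map_preimage _⟩
  letI : Algebra R Γ(pullback K.hom g, ⊤) := φ.hom.toAlgebra
  refine ⟨Γ(pullback K.hom g, ⊤), inferInstance, inferInstance, (pullback K.hom g).isoSpec, ?_⟩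
  show (pullback K.hom g).isoSpec.hom ≫ Spec.map φ = _
  rw [hφ, Iso.hom_inv_id_assoc]

/-! ### The monomorphism locus in a chart is open -/

theorem chart_open {S : Scheme.{u}} {H G : Over S} [GrpObj H] [GrpObj G] [IsAffineHom H.hom]
    [LocallyOfFiniteType H.hom] [IsSeparated G.hom] (u : H ⟶ G) [IsMonHom u]
    [IsClosedImmersion (kerι u).left] [LocallyOfFinitePresentation (kerι u).left]
    {R : Type u} [CommRing R] {j' : Spec (CommRingCat.of R) ⟶ S} {N : Type} [AddCommGroup N]
    (e : PtIso H j' N) (m : ↥(Spec (CommRingCat.of R)))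
    (hm : Mono (bcL u ((Spec (CommRingCat.of R)).fromSpecResidueField m ≫ j'))) :
    ∃ f : R, m ∈ (PrimeSpectrum.basicOpen f : (Spec (CommRingCat.of R)).Opens) ∧
      ∀ p : ↥(Spec (CommRingCat.of R)),
        p ∈ (PrimeSpectrum.basicOpen f : (Spec (CommRingCat.of R)).Opens) →
        Mono (bcL u ((Spec (CommRingCat.of R)).fromSpecResidueField p ≫ j')) := by
  obtain ⟨eK, heK⟩ := exists_kerUnit u
  obtain ⟨hc, hl, ha⟩ := kerUnit_props u eK
  haveI := hc
  haveI := hl
  haveI := ha
  obtain ⟨B, iB, iA, θ, hθ⟩ := exists_coord_affine (kerObj u) R j'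
  obtain ⟨J, hJ, hdict⟩ := dict eK R B j' θ hθ
  obtain ⟨mI, hmI⟩ : ∃ mI : Ideal R, mI = (show PrimeSpectrum R from m).asIdeal := ⟨_, rfl⟩
  haveI hprime : mI.IsPrime := by
    rw [hmI]
    exact (show PrimeSpectrum R from m).isPrime
  have hpt : ∀ {X : Scheme.{u}} (p : X) (a), (X.fromSpecResidueField p).base a = p := by
    intro X p a
    have h3 : (X.fromSpecResidueField p).base a ∈ ({p} : Set X) := by
      rw [← Scheme.range_fromSpecResidueField]
      exact ⟨a, rfl⟩
    exact Set.mem_singleton_iff.mp h3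
  -- the local ring
  have h2 : Mono (bcL u
      (Spec.map (CommRingCat.ofHom (algebraMap R (Localization.AtPrime mI))) ≫ j')) := by
    apply mono_of_fibres u
    intro t
    have e1 := Scheme.Hom.SpecMap_residueFieldMap_fromSpecResidueField
      (Spec.map (CommRingCat.ofHom (algebraMap R (Localization.AtPrime mI)))) t
    have hp : (Spec.map (CommRingCat.ofHom (algebraMap R (Localization.AtPrime mI)))).base t ⤳
        m := by
      apply (PrimeSpectrum.le_iff_specializes
        (show PrimeSpectrum R from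
          (Spec.map (CommRingCat.ofHom (algebraMap R (Localization.AtPrime mI)))).base t)
        (show PrimeSpectrum R from m)).mp
      show (PrimeSpectrum.comap (algebraMap R (Localization.AtPrime mI))
        (show PrimeSpectrum (Localization.AtPrime mI) from t)).asIdeal ≤
          (show PrimeSpectrum R from m).asIdeal
      intro r hr
      rw [← hmI]
      by_contra hrm
      have hu : IsUnit (algebraMap R (Localization.AtPrime mI) r) :=
        IsLocalization.map_units (Localization.AtPrime mI) (⟨r, hrm⟩ : mI.primeCompl)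
      exact (show PrimeSpectrum (Localization.AtPrime mI) from t).isPrime.ne_top
        (Ideal.eq_top_of_isUnit_mem _ hr hu)
    have h3 := chart_points e u _ m hp hm
    have h4 := mono_bc u _ (Spec.map (Scheme.Hom.residueFieldMap
      (Spec.map (CommRingCat.ofHom (algebraMap R (Localization.AtPrime mI)))) t)) h3
    refine mono_congr u ?_ h4
    rw [← Category.assoc, e1, Category.assoc]
  have h3 : IsIso (bcL eK
      (Spec.map (CommRingCat.ofHom (algebraMap R (Localization.AtPrime mI))) ≫ j')) :=
    (mono_iff_unitIso u eK heK _).mp h2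
  have h4 := (hdict (Localization.AtPrime mI)).mp h3
  obtain ⟨f, hf, hJf⟩ := spread_ideal R B J hJ mI h4
  have h5 : Mono (bcL u
      (Spec.map (CommRingCat.ofHom (algebraMap R (Localization.Away f))) ≫ j')) :=
    (mono_iff_unitIso u eK heK _).mpr ((hdict (Localization.Away f)).mpr hJf)
  refine ⟨f, ?_, ?_⟩
  · apply (PrimeSpectrum.mem_basicOpen _ _).mpr
    rw [← hmI]
    exact hf
  · intro p hp
    have hrange : Set.range ((Spec (CommRingCat.of R)).fromSpecResidueField p) ⊆
        Set.range (Spec.map (CommRingCat.ofHom (algebraMap R (Localization.Away f)))) := by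
      rintro _ ⟨a, rfl⟩
      rw [hpt p a]
      have h6 : (show PrimeSpectrum R from p) ∈
          Set.range (PrimeSpectrum.comap (algebraMap R (Localization.Away f))) := by
        rw [PrimeSpectrum.localization_away_comap_range (Localization.Away f) f]
        exact hp
      exact h6
    obtain ⟨l, hl⟩ : ∃ l : Spec ((Spec (CommRingCat.of R)).residueField p) ⟶
        Spec (CommRingCat.of (Localization.Away f)),
        l ≫ Spec.map (CommRingCat.ofHom (algebraMap R (Localization.Away f))) =
          (Spec (CommRingCat.of R)).fromSpecResidueField p :=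
      ⟨IsOpenImmersion.lift _ _ hrange, IsOpenImmersion.lift_fac _ _ _⟩
    have h6 := mono_bc u _ l h5
    refine mono_congr u ?_ h6
    rw [← Category.assoc, hl]

/-! ### The main theorem -/

theorem main_aux {S : Scheme.{u}} (H G : Over S) [GrpObj H] [GrpObj G]
    (hH : SGA3x.IsMultTypeFT H) [IsSeparated G.hom] [IsAffineHom H.hom]
    [LocallyOfFiniteType H.hom] (u : H ⟶ G) [IsMonHom u] [IsClosedImmersion (kerι u).left]
    [LocallyOfFinitePresentation (kerι u).left] (s : S)
    (hs : Mono (bcL u (S.fromSpecResidueField s))) :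
    ∃ U : S.Opens, s ∈ U ∧ Mono (bcL u U.ι) := by
  obtain ⟨X, F, hcov, hraw⟩ := setup_raw H H hH hH
  obtain ⟨A, hA⟩ : ∃ A : Set S, A = {t | Mono (bcL u (S.fromSpecResidueField t))} := ⟨_, rfl⟩
  have hAmem : ∀ t, t ∈ A ↔ Mono (bcL u (S.fromSpecResidueField t)) := by
    intro t
    rw [hA]
    exact Iff.rfl
  have hgen : ∀ t t' : S, t = t' → Mono (bcL u (S.fromSpecResidueField t)) →
      Mono (bcL u (S.fromSpecResidueField t')) := by
    intro t t' htt h
    subst htt
    exact h
  have hopenX : IsOpen (F.base ⁻¹' A) := by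
    rw [isOpen_iff_forall_mem_open]
    intro x hx
    have hx' : Mono (bcL u (S.fromSpecResidueField (F.base x))) := (hAmem _).mp hx
    obtain ⟨Bo, hxB, M, N, iM, iN, hNfg, -, ⟨eH⟩⟩ := hraw x
    obtain ⟨V, hVaff, hxV, hVB⟩ := exists_isAffineOpen_mem_and_subset (x := x) (U := Bo) hxB
    obtain ⟨R, iR, j, hjo, hjr⟩ : ∃ (R : Type u) (_ : CommRing R)
        (j : Spec (CommRingCat.of R) ⟶ X), IsOpenImmersion j ∧
          Set.range j.base = (V : Set X) :=
      ⟨Γ(X, V), inferInstance, hVaff.fromSpec, inferInstance, hVaff.range_fromSpec⟩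
    haveI := hjo
    have hjB : Set.range j ⊆ Set.range Bo.ι := by
      rintro _ ⟨t, rfl⟩
      have h1 : j.base t ∈ (V : Set X) := by
        rw [← hjr]
        exact ⟨t, rfl⟩
      exact ⟨⟨j.base t, hVB h1⟩, rfl⟩
    obtain ⟨ρ₀, hρ₀⟩ : ∃ ρ₀ : Spec (CommRingCat.of R) ⟶ (Bo : Scheme.{u}), ρ₀ ≫ Bo.ι = j :=
      ⟨IsOpenImmersion.lift Bo.ι j hjB, IsOpenImmersion.lift_fac _ _ _⟩
    obtain ⟨P₀⟩ := ptIso_pull eH ρ₀
    have hcast : ρ₀ ≫ Bo.ι ≫ F = j ≫ F := by rw [← Category.assoc, hρ₀]
    obtain ⟨x₀, hx₀⟩ : ∃ x₀ : ↥(Spec (CommRingCat.of R)), j.base x₀ = x := by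
      have h1 : x ∈ Set.range j.base := by
        rw [hjr]
        exact hxV
      exact h1
    have hm0 : Mono (bcL u ((Spec (CommRingCat.of R)).fromSpecResidueField x₀ ≫ j ≫ F)) := by
      apply (mono_field_iff u (j ≫ F) x₀).mpr
      refine hgen (F.base x) _ ?_ hx'
      rw [← hx₀]
      rfl
    obtain ⟨f, hfm, hfall⟩ := chart_open u (ptCast P₀ hcast) x₀ hm0
    obtain ⟨W, hW⟩ : ∃ W : (Spec (CommRingCat.of R)).Opens, W = PrimeSpectrum.basicOpen f :=
      ⟨_, rfl⟩
    rw [← hW] at hfm hfall
    refine ⟨j.base '' (W : Set ↥(Spec (CommRingCat.of R))), ?_,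
      j.isOpenEmbedding.isOpenMap _ W.isOpen, ⟨x₀, hfm, hx₀⟩⟩
    rintro _ ⟨p, hp, rfl⟩
    show F.base (j.base p) ∈ A
    rw [hAmem]
    exact (mono_field_iff u (j ≫ F) p).mp (hfall p hp)
  have hopen : IsOpen A := isOpen_of_cov F hcov A hopenX
  obtain ⟨U, hU⟩ : ∃ U : S.Opens, (U : Set S) = A := ⟨⟨A, hopen⟩, rfl⟩
  refine ⟨U, ?_, ?_⟩
  · have h1 : s ∈ (U : Set S) := by
      rw [hU]
      exact (hAmem s).mpr hs
    exact h1
  · apply mono_of_fibres u
    intro t
    have e1 := Scheme.Hom.SpecMap_residueFieldMap_fromSpecResidueField U.ι t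
    have ht : U.ι.base t ∈ A := by
      rw [← hU]
      exact t.2
    have h3 := mono_bc u _ (Spec.map (Scheme.Hom.residueFieldMap U.ι t)) ((hAmem _).mp ht)
    exact mono_congr u e1 h3

/-- **SGA3 IX 6.6**: a homomorphism from a group of multiplicative type and of finite type to a
separated group which is a monomorphism on the fibre at `s` is a monomorphism over a
neighbourhood of `s`. -/
theorem main6059 {S : Scheme.{u}} (H G : Over S) [GrpObj H] [GrpObj G]
    (hH : SGA3x.IsMultTypeFT H) [IsSeparated G.hom]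
    (hG : IsLocallyNoetherian S ∨ LocallyOfFinitePresentation G.hom)
    (u : H ⟶ G) [IsMonHom u] (s : S)
    (hs : Mono ((Over.pullback (S.fromSpecResidueField s)).map u).left) :
    ∃ U : S.Opens, s ∈ U ∧ Mono ((Over.pullback U.ι).map u).left := by
  haveI := closedImm_kerι u
  haveI hlfp : LocallyOfFinitePresentation (kerι u).left := by
    rcases hG with hN | hfp
    · haveI := hN
      exact lfp_kerι_of_noeth u hH
    · haveI := hfp
      exact lfp_kerι_of_fp u
  haveI : LocallyOfFiniteType H.hom := lft_of_multType hH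
  haveI : IsAffineHom H.hom := affine_of_multType hH
  exact main_aux H G hH u s hs

end Groth.Agent.Lib.MonoNbhdH4
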