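import Groth.Agent.Lib.AlgSpQfLocus2_helper7
import Groth.Agent.Lib.AlgSpOpenSub_helper7
import Groth.Agent.Lib.AlgSpQC_helper7
import Groth.Agent.Lib.AlgSpLocP_helper7

/-!
# S10389: finiteness of the points of a fibre product over a pair of points lying over a
monomorphic point, when one of the morphisms is quasi-finite at its point (helper7)
-/

set_option autoImplicit false
set_option linter.style.haveILetI false
universe u
open CategoryTheory CategoryTheory.Limits AlgebraicGeometry Opposite MorphismProperty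
open AlgSp Groth.Agent.Lib.AlgSpPoints_helper7 Groth.Agent.Lib.AlgSpPullback_helper7
  Groth.Agent.Lib.AlgSpLocP4_helper7 Groth.Agent.Lib.AlgSpLocP7_helper7
  Groth.Agent.Lib.UnramLocH7 Groth.Agent.Lib.AlgSpQfLocusH7 Groth.Agent.Lib.AlgSpQfLocus2H7
  Groth.Agent.Lib.AlgSpOpenSub_helper7 Groth.Agent.Lib.AlgSpQC_helper7
  Groth.Agent.Lib.AlgSpLocP_helper7

namespace Groth.Agent.Lib.MonoPtFinH7

variable {S : Scheme.{u}}

/-- Reduction to the fibre over a monomorphic point. -/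
theorem reduce_to_field {X Y Z W : Sp S} (f : X ⟶ Y) (g : Z ⟶ Y) (p : W ⟶ X) (q : W ⟶ Z)
    (hW : IsPullback p q f g) (r : FieldPt Y) [Mono r.toHom] (x : Points X) (z : Points Z)
    (hx : Points.map f x = Points.mk r)
    (H : ∀ (x' : Points (pullback f r.toHom)) (z' : Points (pullback g r.toHom)),
      Points.map (pullback.fst f r.toHom) x' = x → Points.map (pullback.fst g r.toHom) z' = z →
      ∀ {W' : Sp S} (p' : W' ⟶ pullback f r.toHom) (q' : W' ⟶ pullback g r.toHom),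
        IsPullback p' q' (pullback.snd f r.toHom) (pullback.snd g r.toHom) →
        {w' : Points W' | Points.map p' w' = x' ∧ Points.map q' w' = z'}.Finite) :
    {w : Points W | Points.map p w = x ∧ Points.map q w = z}.Finite := by
  obtain ⟨ρ, hρ⟩ : ∃ ρ, ρ = r.toHom := ⟨_, rfl⟩
  haveI : Mono ρ := by rw [hρ]; infer_instance
  rw [← hρ] at H
  have hptK : Points.map ρ (Points.mk (ofHom (𝟙 ((yon S).obj r.pt)))) = Points.mk r := by
    rw [map_mk_ofHom, Category.id_comp, hρ, ofHom_toHom]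
  have sqW := IsPullback.of_hasPullback (p ≫ f) ρ
  have sqX := IsPullback.of_hasPullback f ρ
  have sqZ := IsPullback.of_hasPullback g ρ
  obtain ⟨ω, hω⟩ : ∃ ω, ω = pullback.fst (p ≫ f) ρ := ⟨_, rfl⟩
  obtain ⟨sW, hsW⟩ : ∃ sW, sW = pullback.snd (p ≫ f) ρ := ⟨_, rfl⟩
  rw [← hω, ← hsW] at sqW
  obtain ⟨p', hp'1, hp'2⟩ : ∃ p' : pullback (p ≫ f) ρ ⟶ pullback f ρ,
      p' ≫ pullback.fst f ρ = ω ≫ p ∧ p' ≫ pullback.snd f ρ = sW :=
    ⟨sqX.lift (ω ≫ p) sW (by rw [Category.assoc]; exact sqW.w), sqX.lift_fst _ _ _,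
      sqX.lift_snd _ _ _⟩
  obtain ⟨q', hq'1, hq'2⟩ : ∃ q' : pullback (p ≫ f) ρ ⟶ pullback g ρ,
      q' ≫ pullback.fst g ρ = ω ≫ q ∧ q' ≫ pullback.snd g ρ = sW :=
    ⟨sqZ.lift (ω ≫ q) sW (by rw [Category.assoc, ← hW.w]; exact sqW.w), sqZ.lift_fst _ _ _,
      sqZ.lift_snd _ _ _⟩
  have sqA : IsPullback p' ω (pullback.fst f ρ) p := by
    refine IsPullback.of_right ?_ hp'1 sqX.flip
    rw [hp'2]
    exact sqW.flip
  have sqB : IsPullback (ω ≫ q) p' g (pullback.fst f ρ ≫ f) := sqA.flip.paste_horiz hW.flip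
  have sqC : IsPullback q' p' (pullback.snd g ρ) (pullback.snd f ρ) := by
    refine IsPullback.of_right ?_ (hq'2.trans hp'2.symm) sqZ
    rw [hq'1, ← sqX.w]
    exact sqB
  by_cases hne : {w : Points W | Points.map p w = x ∧ Points.map q w = z}.Nonempty
  swap
  · rw [Set.not_nonempty_iff_eq_empty] at hne
    rw [hne]
    exact Set.finite_empty
  obtain ⟨w₀, hw₀x, hw₀z⟩ := hne
  have lift : ∀ w : Points W, Points.map p w = x → ∃ w', Points.map ω w' = w := by
    intro w hw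
    obtain ⟨w', h1, -⟩ := exists_of_isPullback sqW w (Points.mk (ofHom (𝟙 ((yon S).obj r.pt))))
      (by rw [Points.map_comp, hw, hx, hptK])
    exact ⟨w', h1⟩
  have hpx : ∀ w', Points.map (pullback.fst f ρ) (Points.map p' w') =
      Points.map p (Points.map ω w') := by
    intro w'
    rw [← Points.map_comp, hp'1, Points.map_comp]
  have hqz : ∀ w', Points.map (pullback.fst g ρ) (Points.map q' w') =
      Points.map q (Points.map ω w') := by
    intro w'
    rw [← Points.map_comp, hq'1, Points.map_comp]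
  obtain ⟨w₀', hw₀'⟩ := lift w₀ hw₀x
  have fin := H (Points.map p' w₀') (Points.map q' w₀') (by rw [hpx, hw₀', hw₀x])
    (by rw [hqz, hw₀', hw₀z]) p' q' sqC.flip
  refine (fin.image (Points.map ω)).subset ?_
  rintro w ⟨hwx, hwz⟩
  obtain ⟨w', hw'⟩ := lift w hwx
  refine ⟨w', ⟨?_, ?_⟩, hw'⟩
  · apply map_injective_of_mono (pullback.fst f ρ)
    rw [hpx, hpx, hw', hw₀', hwx, hw₀x]
  · apply map_injective_of_mono (pullback.fst g ρ)
    rw [hqz, hqz, hw', hw₀', hwz, hw₀z]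

/-- Affine refinement of a neighbourhood on which a morphism is quasi-finite. -/
theorem exists_affine_near {T V : Over S} (h₀ : T ⟶ V) (t : ↥T.left) (hn : Near PQ h₀.left t) :
    ∃ (T' : Over S) (j : T' ⟶ T) (t' : ↥T'.left), IsAffine T'.left ∧ IsOpenImmersion j.left ∧
      j.left t' = t ∧ PQ (j ≫ h₀).left := by
  obtain ⟨O, htO, hPQ⟩ := hn
  have key : ∀ O' : T.left.Opens, IsAffineOpen O' → t ∈ O' → O' ≤ O →
      ∃ (T' : Over S) (j : T' ⟶ T) (t' : ↥T'.left), IsAffine T'.left ∧ IsOpenImmersion j.left ∧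
        j.left t' = t ∧ PQ (j ≫ h₀).left := by
    intro O' hO' htO' hle
    refine ⟨Over.mk (O'.ι ≫ T.hom), Over.homMk O'.ι rfl, ⟨t, htO'⟩, hO', ?_, rfl, ?_⟩
    · show IsOpenImmersion O'.ι
      infer_instance
    · show PQ (O'.ι ≫ h₀.left)
      have e : O'.ι ≫ h₀.left = T.left.homOfLE hle ≫ (O.ι ≫ h₀.left) := by
        rw [← Category.assoc, Scheme.homOfLE_ι]
      rw [e]
      exact etLocal_locallyQuasiFinite.precomp _ _ inferInstance hPQ
  obtain ⟨_, ⟨O', hO' : IsAffineOpen O', rfl⟩, htO', hsub⟩ :=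
    (T.left.isBasis_affineOpens).exists_subset_of_mem_open htO O.2
  exact key O' hO' htO' hsub

/-- The case of a base which is the spectrum of a field. -/
theorem core_field {k : Type u} [Field k] {str : Spec (CommRingCat.of k) ⟶ S} {X' Z' W' : Sp S}
    (hX' : IsAlgSpace X') (sX : X' ⟶ (yon S).obj (Over.mk str))
    (sZ : Z' ⟶ (yon S).obj (Over.mk str)) (p' : W' ⟶ X') (q' : W' ⟶ Z')
    (sq : IsPullback p' q' sX sZ) (x' : Points X') (z' : Points Z')
    (hz' : HasAtMor QQ sZ z') :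
    {w' : Points W' | Points.map p' w' = x' ∧ Points.map q' w' = z'}.Finite := by
  obtain ⟨T, V, c, b, h, t, hce, hbe, comm, ht, hnear⟩ := hz'
  obtain ⟨h₀, hh₀⟩ := (yon S).map_surjective (c ≫ sZ)
  have hid : ∀ A : Over S, RepWith @Etale (𝟙 ((yon S).obj A)) := by
    intro A
    rw [← (yon S).map_id]
    exact (repWith_yon_map_iff _ _).2 (by rw [Over.id_left]; infer_instance)
  have comm₀ : c ≫ sZ = (yon S).map h₀ ≫ 𝟙 _ := by rw [Category.comp_id, hh₀]
  have hn₀ : Near PQ h₀.left t :=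
    (near_chart_indep sZ c b h t c (𝟙 _) h₀ t hce hbe hce (hid _) comm comm₀ rfl).mp hnear
  obtain ⟨T', j, t', hT'aff, hjo, hjt, hlqf, hlft⟩ := exists_affine_near h₀ t hn₀
  haveI := hT'aff
  haveI := hjo
  haveI : LocallyQuasiFinite (j ≫ h₀).left := hlqf
  haveI : LocallyOfFiniteType (j ≫ h₀).left := hlft
  obtain ⟨h', hh'⟩ : ∃ h', h' = j ≫ h₀ := ⟨_, rfl⟩
  obtain ⟨c', hc'⟩ : ∃ c', c' = (yon S).map j ≫ c := ⟨_, rfl⟩
  rw [← hh'] at hlqf hlft
  haveI : LocallyQuasiFinite h'.left := hlqf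
  haveI : LocallyOfFiniteType h'.left := hlft
  have hc'e : RepWith @Etale c' := by
    rw [hc']
    exact repWith_comp _ ((repWith_yon_map_iff _ _).2 (inferInstance : Etale j.left)) hce
  have hc'z : Points.ofPt c' t' = z' := by rw [hc', ofPt_comp, hjt, ht]
  have hc's : c' ≫ sZ = (yon S).map h' := by
    rw [hc', hh', Category.assoc, ← hh₀, Functor.map_comp]
  have sqT := IsPullback.of_hasPullback q' c'
  obtain ⟨π₁, hπ₁⟩ : ∃ π₁, π₁ = pullback.fst q' c' := ⟨_, rfl⟩
  obtain ⟨π₂, hπ₂⟩ : ∃ π₂, π₂ = pullback.snd q' c' := ⟨_, rfl⟩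
  rw [← hπ₁, ← hπ₂] at sqT
  have sqO : IsPullback π₂ (π₁ ≫ p') ((yon S).map h') sX := by
    have := (sqT.paste_horiz sq).flip
    rw [hc's] at this
    exact this
  have hWT : IsAlgSpace (pullback q' c') :=
    isAlgSpace_of_isPullback (IsAlgSpace.yon_obj _).diag (IsAlgSpace.yon_obj T') hX' sqO
  haveI : IsAffine (Over.mk str).left := (inferInstance : IsAffine (Spec (CommRingCat.of k)))
  haveI : QuasiCompact h'.left := inferInstance
  have hft : IsFiniteTypeMor ((yon S).map h') :=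
    ⟨locP_of_repWith @LocallyOfFiniteType (fun _ _ g _ => inferInstance) _
        ((repWith_yon_map_iff _ _).2 (inferInstance : LocallyOfFiniteType h'.left)),
      isQuasiCompactMor_of_repWith _
        ((repWith_yon_map_iff _ _).2 (inferInstance : QuasiCompact h'.left))⟩
  have hqf : HasAtMor QQ ((yon S).map h') (Points.ofScheme T' t') :=
    ⟨T', Over.mk str, 𝟙 _, 𝟙 _, h', t', hid _, hid _, by simp, rfl, ⊤, trivial,
      etLocal_locallyQuasiFinite.precomp _ _ inferInstance ⟨hlqf, hlft⟩⟩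
  have fin := finite_fibre_pullback_of_finiteType_quasiFiniteAt
    (X := ⟨(yon S).obj T', IsAlgSpace.yon_obj T'⟩)
    (Y := ⟨(yon S).obj (Over.mk str), IsAlgSpace.yon_obj _⟩)
    (Z := ⟨X', hX'⟩) (W := ⟨pullback q' c', hWT⟩)
    (ObjectProperty.homMk ((yon S).map h')) (ObjectProperty.homMk sX)
    (ObjectProperty.homMk π₂) (ObjectProperty.homMk (π₁ ≫ p')) sqO
    (Points.ofScheme T' t') x' hft hqf
  refine (fin.image (Points.map π₁)).subset ?_
  rintro w' ⟨hw'x, hw'z⟩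
  obtain ⟨w'', h1, h2⟩ := exists_of_isPullback sqT w' (Points.ofScheme T' t')
    (by rw [hw'z, ← hc'z, Points.ofPt_eq_map_ofScheme])
  exact ⟨w'', ⟨h2, by
    show Points.map (π₁ ≫ p') w'' = x'
    rw [Points.map_comp, h1, hw'x]⟩, h1⟩

theorem main10389 {S : Scheme.{u}} {X Y Z W : AlgSp.Space S} (f : X ⟶ Y)
    (g : Z ⟶ Y) (p : W ⟶ X) (q : W ⟶ Z) (hW : IsPullback p.hom q.hom f.hom g.hom) (x : AlgSp.Points X.obj)
    (z : AlgSp.Points Z.obj) (hxz : AlgSp.Points.map f.hom x = AlgSp.Points.map g.hom z)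
    (hy : ∃ r : AlgSp.FieldPt Y.obj, AlgSp.Points.mk r = AlgSp.Points.map g.hom z ∧ Mono r.toHom)
    (hg : AlgSp.HasAtMor (fun U _ h u => ∃ W : U.Opens, u ∈ W ∧ LocallyQuasiFinite (W.ι ≫ h) ∧ LocallyOfFiniteType (W.ι ≫ h)) g.hom z) :
    {w : AlgSp.Points W.obj | AlgSp.Points.map p.hom w = x ∧ AlgSp.Points.map q.hom w = z}.Finite := by
  obtain ⟨r, hr, hm⟩ := hy
  haveI := hm
  refine reduce_to_field f.hom g.hom p.hom q.hom hW r x z (hxz.trans hr.symm) ?_
  intro x' z' hx' hz' W' p' q' sq'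
  have hX' : IsAlgSpace (pullback f.hom r.toHom) :=
    isAlgSpace_of_isPullback Y.property.diag X.property (IsAlgSpace.yon_obj _)
      (IsPullback.of_hasPullback _ _)
  have hZ' : IsAlgSpace (pullback g.hom r.toHom) :=
    isAlgSpace_of_isPullback Y.property.diag Z.property (IsAlgSpace.yon_obj _)
      (IsPullback.of_hasPullback _ _)
  refine core_field hX' _ _ p' q' sq' x' z' ?_
  exact qfLocus_baseChange (X := Z) (Y := Y) (Y' := ⟨_, IsAlgSpace.yon_obj r.pt⟩)
    (X' := ⟨pullback g.hom r.toHom, hZ'⟩) g (ObjectProperty.homMk r.toHom)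
    (ObjectProperty.homMk (pullback.fst g.hom r.toHom))
    (ObjectProperty.homMk (pullback.snd g.hom r.toHom)) (IsPullback.of_hasPullback _ _) z'
    (show HasAtMor QQ g.hom (Points.map (pullback.fst g.hom r.toHom) z') by rw [hz']; exact hg)

end Groth.Agent.Lib.MonoPtFinH7
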