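import Mathlib
import Groth.Prelude.Def_W4c1hilbpnTgt

/-! Tangent spaces of monomial ideals (helper9), part 1: exponent sets, coefficient functionals on the
quotient by a monomial ideal, values of `S`-linear maps `I → S/I` on monomials.
APPEND-ONLY once landed. -/

set_option linter.unusedSectionVars false
set_option linter.style.haveILetI false

open MvPolynomial W4c1hilbpn

namespace Groth.Agent.MonoTgt9

variable {σ : Type*} {k : Type*} [Field k]

section basic
variable (I : Ideal (MvPolynomial σ k))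

theorem mem_exps {β : σ →₀ ℕ} : β ∈ exps I ↔ monomial β (1:k) ∈ I := Iff.rfl

theorem exps_add {β : σ →₀ ℕ} (hβ : β ∈ exps I) (δ : σ →₀ ℕ) : β + δ ∈ exps I := by
  show monomial (β + δ) (1:k) ∈ I
  have : monomial (β + δ) (1:k) = monomial δ 1 * monomial β 1 := by
    rw [monomial_mul, one_mul, add_comm]
  rw [this]; exact I.mul_mem_left _ hβ

theorem exps_of_le {β γ : σ →₀ ℕ} (hβ : β ∈ exps I) (h : β ≤ γ) : γ ∈ exps I := by
  obtain ⟨δ, rfl⟩ := exists_add_of_le h
  exact exps_add I hβ δ

theorem monomial_mem {β : σ →₀ ℕ} (hβ : β ∈ exps I) (c : k) : monomial β c ∈ I := by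
  have : monomial β c = C c * monomial β 1 := by rw [C_mul_monomial, mul_one]
  rw [this]; exact I.mul_mem_left _ hβ

theorem mem_iff_support (hI : IsMonomial I) (p : MvPolynomial σ k) :
    p ∈ I ↔ ∀ β ∈ p.support, β ∈ exps I := by
  constructor
  · intro hp β hβ; exact hI p hp β hβ
  · intro h
    rw [as_sum p]
    exact I.sum_mem (fun β hβ => monomial_mem I (h β hβ) _)

theorem coeff_eq_zero_of_mem (hI : IsMonomial I) {p : MvPolynomial σ k} (hp : p ∈ I)
    {γ : σ →₀ ℕ} (hγ : γ ∉ exps I) : coeff γ p = 0 := by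
  by_contra h
  exact hγ (hI p hp γ (mem_support_iff.mpr h))

/-- The coefficient functional of the monomial `x^γ` on `S/I` (zero if `x^γ ∈ I`). -/
noncomputable def qc (hI : IsMonomial I) (γ : σ →₀ ℕ) : (MvPolynomial σ k ⧸ I) →ₗ[k] k := by
  classical
  exact if hγ : γ ∈ exps I then 0 else
    (Submodule.liftQ (I.restrictScalars k) (lcoeff k γ) (by
      intro p hp
      exact coeff_eq_zero_of_mem I hI hp hγ)) ∘ₗ
      (Submodule.Quotient.restrictScalarsEquiv k I).symm.toLinearMap

theorem qc_mk (hI : IsMonomial I) {γ : σ →₀ ℕ} (hγ : γ ∉ exps I) (p : MvPolynomial σ k) :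
    qc I hI γ (Ideal.Quotient.mk I p) = coeff γ p := by
  classical
  unfold qc
  rw [dif_neg hγ]
  rfl

theorem qc_of_mem (hI : IsMonomial I) {γ : σ →₀ ℕ} (hγ : γ ∈ exps I) (q : MvPolynomial σ k ⧸ I) :
    qc I hI γ q = 0 := by
  classical
  unfold qc
  rw [dif_pos hγ]
  rfl

theorem mk_monomial_eq_zero_iff {γ : σ →₀ ℕ} :
    Ideal.Quotient.mk I (monomial γ (1:k)) = 0 ↔ γ ∈ exps I :=
  Ideal.Quotient.eq_zero_iff_mem

end basic


section tgt
variable (I : Ideal (MvPolynomial σ k))

/-- The monomial `x^β` as an element of `I`. -/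
noncomputable def mon (β : σ →₀ ℕ) (hβ : β ∈ exps I) : ↥I := ⟨monomial β 1, hβ⟩

theorem mon_add (β δ : σ →₀ ℕ) (hβ : β ∈ exps I) :
    mon I (β + δ) (exps_add I hβ δ) = (monomial δ (1:k)) • mon I β hβ := by
  apply Subtype.ext
  show monomial (β + δ) (1:k) = monomial δ 1 * monomial β 1
  rw [monomial_mul, one_mul, add_comm]

theorem map_mon_add (φ : Tgt I) (β δ : σ →₀ ℕ) (hβ : β ∈ exps I) :
    φ (mon I (β + δ) (exps_add I hβ δ)) = (monomial δ (1:k)) • φ (mon I β hβ) := by
  rw [mon_add, map_smul]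

theorem smul_mk (s p : MvPolynomial σ k) :
    s • (Ideal.Quotient.mk I p) = Ideal.Quotient.mk I (s * p) := rfl

theorem qc_monomial_smul (hI : IsMonomial I) {γ : σ →₀ ℕ} (hγ : γ ∉ exps I) (δ : σ →₀ ℕ)
    (q : MvPolynomial σ k ⧸ I) :
    qc I hI γ (monomial δ (1:k) • q) = if δ ≤ γ then qc I hI (γ - δ) q else 0 := by
  classical
  obtain ⟨p, rfl⟩ := Ideal.Quotient.mk_surjective q
  rw [smul_mk, qc_mk I hI hγ, coeff_monomial_mul']
  split_ifs with h
  · have h2 : γ - δ ∉ exps I := by
      intro h3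
      apply hγ
      have := exps_add I h3 δ
      rwa [tsub_add_cancel_of_le h] at this
    rw [qc_mk I hI h2, one_mul]
  · rfl

theorem qc_smul_mk_monomial (hI : IsMonomial I) {γ : σ →₀ ℕ} (hγ : γ ∉ exps I) (a : k) :
    qc I hI γ (a • Ideal.Quotient.mk I (monomial γ (1:k))) = a := by
  classical
  rw [map_smul, qc_mk I hI hγ, coeff_monomial, if_pos rfl, smul_eq_mul, mul_one]

theorem C_smul_quot (a : k) (q : MvPolynomial σ k ⧸ I) : (C a : MvPolynomial σ k) • q = a • q := by
  rw [← MvPolynomial.algebraMap_eq, algebraMap_smul]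

/-- Elements of `I` are `k`-combinations of the monomials in `I`. -/
theorem eq_sum_mon (hI : IsMonomial I) (p : MvPolynomial σ k) (hp : p ∈ I) :
    (⟨p, hp⟩ : ↥I) = ∑ β ∈ p.support.attach,
      (C (coeff β.1 p) : MvPolynomial σ k) • mon I β.1 (hI p hp β.1 β.2) := by
  apply Subtype.ext
  rw [AddSubmonoidClass.coe_finsetSum]
  show p = _
  conv_lhs => rw [as_sum p]
  rw [← Finset.sum_attach]
  apply Finset.sum_congr rfl
  intro β _
  show _ = C (coeff β.1 p) * monomial β.1 1
  rw [C_mul_monomial, mul_one]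

/-- Two elements of `T(I)` agreeing on all monomials of `I` are equal. -/
theorem tgt_ext (hI : IsMonomial I) (φ ψ : Tgt I)
    (h : ∀ (β : σ →₀ ℕ) (hβ : β ∈ exps I), φ (mon I β hβ) = ψ (mon I β hβ)) : φ = ψ := by
  apply LinearMap.ext
  rintro ⟨p, hp⟩
  rw [eq_sum_mon I hI p hp, map_sum, map_sum]
  apply Finset.sum_congr rfl
  intro β _
  rw [map_smul, map_smul, h]

/-- Construction of an `S`-linear map `I → S/I` from its values on monomials. -/
theorem exists_tgt_of_monomial_values [DecidableEq σ] (hI : IsMonomial I)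
    (f : (σ →₀ ℕ) → MvPolynomial σ k ⧸ I)
    (hf : ∀ β ∈ exps I, ∀ i : σ, f (β + Finsupp.single i 1) = (X i : MvPolynomial σ k) • f β) :
    ∃ φ : Tgt I, ∀ (β : σ →₀ ℕ) (hβ : β ∈ exps I), φ (mon I β hβ) = f β := by
  classical
  let Φ : MvPolynomial σ k →ₗ[k] (MvPolynomial σ k ⧸ I) := (basisMonomials σ k).constr k f
  have hΦ : ∀ β, Φ (monomial β 1) = f β := by
    intro β
    have := (basisMonomials σ k).constr_basis k f β
    rwa [coe_basisMonomials] at this
  have hX : ∀ (i : σ) (p : MvPolynomial σ k), p ∈ I → Φ (X i * p) = (X i : MvPolynomial σ k) • Φ p := by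
    intro i p hp
    rw [as_sum p, Finset.mul_sum, map_sum, map_sum, Finset.smul_sum]
    apply Finset.sum_congr rfl
    intro β hβ
    have hβE : β ∈ exps I := hI p hp β hβ
    have e1 : (X i : MvPolynomial σ k) * monomial β (coeff β p) =
        (coeff β p) • monomial (β + Finsupp.single i 1) (1:k) := by
      rw [smul_monomial, smul_eq_mul, mul_one, monomial_add_single, pow_one, mul_comm]
    have e2 : monomial β (coeff β p) = (coeff β p) • monomial β (1:k) := by
      rw [smul_monomial, smul_eq_mul, mul_one]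
    rw [e1, e2, map_smul, map_smul, hΦ, hΦ, hf β hβE i, smul_comm]
  have hS : ∀ (s : MvPolynomial σ k), ∀ p ∈ I, Φ (s * p) = s • Φ p := by
    intro s
    induction s using MvPolynomial.induction_on with
    | C a =>
      intro p _
      rw [C_smul_quot, ← map_smul, MvPolynomial.C_mul']
    | add s t hs ht =>
      intro p hp
      rw [add_mul, map_add, hs p hp, ht p hp, add_smul]
    | mul_X s i hs =>
      intro p hp
      rw [mul_assoc, hs _ (I.mul_mem_left _ hp), hX i p hp, mul_smul]
  refine ⟨{ toFun := fun x => Φ x.1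
            map_add' := fun x y => by simp
            map_smul' := fun s x => by
              simp only [RingHom.id_apply]
              exact hS s x.1 x.2 }, ?_⟩
  intro β hβ
  exact hΦ β

end tgt

end Groth.Agent.MonoTgt9
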