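import Mathlib
import Groth.Prelude.Def_W4c1hilbpnTgt
import Groth.Agent.Lib.MonoTgt1_helper9

/-! Tangent spaces of monomial ideals (helper9), part 2: the region graph and the coefficient
function of a tangent vector.
APPEND-ONLY once landed. -/

set_option linter.unusedSectionVars false
set_option linter.style.haveILetI false

open MvPolynomial W4c1hilbpn

namespace Groth.Agent.MonoTgt9

variable {σ : Type*} [Fintype σ] [DecidableEq σ] {k : Type*} [Field k]

/-- The integer vector `β + α`. -/
def zv (β : σ →₀ ℕ) (α : σ → ℤ) : σ → ℤ := fun i => (β i : ℤ) + α i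

/-- All entries nonnegative. -/
def nn (γ : σ → ℤ) : Prop := ∀ i, 0 ≤ γ i

/-- Truncation of an integer vector to an exponent vector. -/
noncomputable def toN (γ : σ → ℤ) : σ →₀ ℕ := Finsupp.equivFunOnFinite.symm fun i => (γ i).toNat

theorem toN_apply (γ : σ → ℤ) (i : σ) : toN γ i = (γ i).toNat := rfl

theorem zv_apply (β : σ →₀ ℕ) (α : σ → ℤ) (i : σ) : zv β α i = (β i : ℤ) + α i := rfl

theorem shift_eq (β : σ →₀ ℕ) (α : σ → ℤ) : shift β α = toN (zv β α) := rfl

theorem zv_inj {β β' : σ →₀ ℕ} {α : σ → ℤ} (h : zv β α = zv β' α) : β = β' := by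
  ext i
  have := congrFun h i
  simp only [zv_apply] at this
  omega

theorem coe_toN {γ : σ → ℤ} (h : nn γ) (i : σ) : ((toN γ i : ℕ) : ℤ) = γ i := by
  rw [toN_apply]; exact Int.toNat_of_nonneg (h i)

theorem zv_add_single (β : σ →₀ ℕ) (α : σ → ℤ) (i : σ) :
    zv (β + Finsupp.single i 1) α = zv β α + Pi.single i 1 := by
  funext j
  simp only [zv_apply, Finsupp.coe_add, Pi.add_apply, Finsupp.single_apply, Pi.single_apply]
  by_cases h : j = i
  · subst h; simp; ring
  · have : ¬ i = j := fun h' => h h'.symm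
    simp [h, this]

theorem toN_add_single {γ : σ → ℤ} (i : σ) (h : 0 ≤ γ i) :
    toN (γ + Pi.single i 1) = toN γ + Finsupp.single i 1 := by
  ext j
  simp only [toN_apply, Finsupp.coe_add, Pi.add_apply, Finsupp.single_apply, Pi.single_apply]
  by_cases hj : j = i
  · subst hj; simp; omega
  · have : ¬ i = j := fun h' => hj h'.symm
    simp [hj, this]

theorem mem_region {I : Ideal (MvPolynomial σ k)} {α γ : σ → ℤ} :
    γ ∈ region I α ↔ (∃ β ∈ exps I, γ = zv β α) ∧ ¬ (nn γ ∧ toN γ ∈ exps I) := Iff.rfl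

theorem mem_tPiece_iff (I : Ideal (MvPolynomial σ k)) (α : σ → ℤ) (φ : Tgt I) :
    φ ∈ tPiece I α ↔ ∀ (β : σ →₀ ℕ) (hβ : β ∈ exps I),
      (nn (zv β α) → φ (mon I β hβ) ∈
        Submodule.span k {Ideal.Quotient.mk I (monomial (toN (zv β α)) (1:k))}) ∧
      (¬ nn (zv β α) → φ (mon I β hβ) = 0) := by
  constructor
  · intro h β hβ
    refine ⟨fun h1 => (h β hβ).1 h1, fun h2 => (h β hβ).2 ?_⟩
    unfold nn at h2
    simpa only [not_forall, not_le, zv_apply] using h2
  · intro h β hβ
    refine ⟨fun h1 => (h β hβ).1 h1, fun h2 => (h β hβ).2 ?_⟩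
    unfold nn
    simpa only [not_forall, not_le, zv_apply] using h2

theorem stepGraph_adj_iff (a b : σ → ℤ) :
    (stepGraph σ).Adj a b ↔ ∃ i, (b = a + Pi.single i 1 ∨ a = b + Pi.single i 1) := by
  have key : ∀ a b : σ → ℤ, ∑ i, |a i - b i| = 1 →
      ∃ i, (b = a + Pi.single i 1 ∨ a = b + Pi.single i 1) := by
    intro a b h
    have hne : ∃ i, a i ≠ b i := by
      by_contra hcon
      simp only [not_exists, not_not] at hcon
      have : ∑ i, |a i - b i| = 0 := Finset.sum_eq_zero (fun i _ => by rw [hcon i, sub_self, abs_zero])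
      omega
    obtain ⟨i, hi⟩ := hne
    have hsplit : |a i - b i| + ∑ j ∈ Finset.univ.erase i, |a j - b j| = ∑ j, |a j - b j| :=
      Finset.add_sum_erase Finset.univ (fun j => |a j - b j|) (Finset.mem_univ i)
    have hnonneg : 0 ≤ ∑ j ∈ Finset.univ.erase i, |a j - b j| :=
      Finset.sum_nonneg (fun j _ => abs_nonneg _)
    have hge : 1 ≤ |a i - b i| := by
      have : a i - b i ≠ 0 := sub_ne_zero.mpr hi
      exact Int.one_le_abs this
    have hi1 : |a i - b i| = 1 := by omega
    have hrest : ∑ j ∈ Finset.univ.erase i, |a j - b j| = 0 := by omega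
    have hrest' : ∀ j, j ≠ i → a j = b j := by
      intro j hj
      have := (Finset.sum_eq_zero_iff_of_nonneg (fun j _ => abs_nonneg _)).mp hrest j
        (Finset.mem_erase.mpr ⟨hj, Finset.mem_univ j⟩)
      have h0 : a j - b j = 0 := abs_eq_zero.mp this
      omega
    refine ⟨i, ?_⟩
    rcases (abs_eq (by norm_num : (0:ℤ) ≤ 1)).mp hi1 with h1 | h1
    · right
      funext j
      by_cases hj : j = i
      · subst hj; simp; omega
      · simp [hj, hrest' j hj]
    · left
      funext j
      by_cases hj : j = i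
      · subst hj; simp; omega
      · simp [hj, hrest' j hj]
  have key2 : ∀ (a : σ → ℤ) (i : σ), ∑ j, |a j - (a + Pi.single i (1:ℤ) : σ → ℤ) j| = 1 := by
    intro a i
    rw [Finset.sum_eq_single i]
    · simp
    · intro j _ hj
      simp [hj]
    · intro h; exact absurd (Finset.mem_univ i) h
  unfold stepGraph
  rw [SimpleGraph.fromRel_adj]
  constructor
  · rintro ⟨_, h | h⟩
    · exact key a b h
    · obtain ⟨i, hi⟩ := key b a h
      exact ⟨i, hi.symm⟩
  · rintro ⟨i, rfl | rfl⟩
    · refine ⟨?_, Or.inl (key2 a i)⟩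
      intro h
      have := congrFun h i
      simp at this
    · refine ⟨?_, Or.inr (key2 b i)⟩
      intro h
      have := congrFun h i
      simp at this

end Groth.Agent.MonoTgt9
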