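import Mathlib
import Groth.Prelude.Def_W4c1hilbpnTgt
import Groth.Agent.Lib.MonoTgt2_helper9

/-! Tangent spaces of monomial ideals (helper9), part 3: the multigraded piece `T(I)_α` is the space
of functions on the connected components of the region `(Ĩ + α) ∖ Ĩ` that contain no point with a
negative coordinate.
APPEND-ONLY once landed. -/

set_option linter.unusedSectionVars false
set_option linter.style.haveILetI false

open MvPolynomial W4c1hilbpn

namespace Groth.Agent.MonoTgt9

variable {σ : Type*} [Fintype σ] [DecidableEq σ] {k : Type*} [Field k]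

section core
variable (I : Ideal (MvPolynomial σ k)) (hI : IsMonomial I) (α : σ → ℤ)

/-- The region graph. -/
abbrev RG : SimpleGraph ↥(region I α) := (stepGraph σ).induce (region I α)

/-- The source exponent `β` of a region vertex `γ = β + α`. -/
noncomputable def src (v : ↥(region I α)) : σ →₀ ℕ := Classical.choose v.2.1

theorem src_mem (v : ↥(region I α)) : src I α v ∈ exps I := (Classical.choose_spec v.2.1).1

theorem src_spec (v : ↥(region I α)) : v.1 = zv (src I α v) α := (Classical.choose_spec v.2.1).2

theorem src_eq (v : ↥(region I α)) (β : σ →₀ ℕ) (h : v.1 = zv β α) : src I α v = β :=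
  zv_inj ((src_spec I α v).symm.trans h)

theorem not_exps_of_nn (v : ↥(region I α)) (h : nn v.1) : toN v.1 ∉ exps I :=
  fun h' => v.2.2 ⟨h, h'⟩

theorem mon_congr {β β' : σ →₀ ℕ} (h : β = β') (hβ : β ∈ exps I) :
    mon I β hβ = mon I β' (h ▸ hβ) := by
  subst h; rfl

/-- A vertex of the region from a source exponent. -/
theorem zv_mem_region {β : σ →₀ ℕ} (hβ : β ∈ exps I) (h : ¬ (nn (zv β α) ∧ toN (zv β α) ∈ exps I)) :
    zv β α ∈ region I α := ⟨⟨β, hβ, rfl⟩, h⟩

open Classical in
/-- The coefficient function of a tangent vector on the region. -/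
noncomputable def cf (φ : Tgt I) (v : ↥(region I α)) : k :=
  if nn v.1 then qc I hI (toN v.1) (φ (mon I (src I α v) (src_mem I α v))) else 0

theorem cf_of_not_nn (φ : Tgt I) (v : ↥(region I α)) (h : ¬ nn v.1) : cf I hI α φ v = 0 := by
  unfold cf; rw [if_neg h]

theorem cf_of_nn (φ : Tgt I) (v : ↥(region I α)) (h : nn v.1) :
    cf I hI α φ v = qc I hI (toN v.1) (φ (mon I (src I α v) (src_mem I α v))) := by
  unfold cf; rw [if_pos h]

theorem cf_step (φ : Tgt I) (u v : ↥(region I α)) (i : σ) (h : v.1 = u.1 + Pi.single i 1) :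
    cf I hI α φ u = cf I hI α φ v := by
  have hsrc : src I α v = src I α u + Finsupp.single i 1 := by
    apply src_eq
    rw [zv_add_single, ← src_spec, h]
  have hval : φ (mon I (src I α v) (src_mem I α v)) =
      (monomial (Finsupp.single i 1) (1:k)) • φ (mon I (src I α u) (src_mem I α u)) := by
    rw [mon_congr I hsrc, map_mon_add]
  have hvi : v.1 i = u.1 i + 1 := by rw [h]; simp
  have hvj : ∀ j, j ≠ i → v.1 j = u.1 j := by intro j hj; rw [h]; simp [hj]
  by_cases hv : nn v.1
  · rw [cf_of_nn I hI α φ v hv, hval, qc_monomial_smul I hI (not_exps_of_nn I α v hv)]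
    by_cases hu : nn u.1
    · rw [cf_of_nn I hI α φ u hu]
      have e : toN v.1 = toN u.1 + Finsupp.single i 1 := by
        rw [h]; exact toN_add_single i (hu i)
      rw [if_pos (by rw [e]; exact le_add_self), e, add_tsub_cancel_right]
    · rw [cf_of_not_nn I hI α φ u hu, if_neg]
      intro hle
      have h1 := hle i
      simp only [Finsupp.single_eq_same, toN_apply] at h1
      apply hu
      intro j
      by_cases hj : j = i
      · subst hj
        have := hv j
        omega
      · rw [← hvj j hj]; exact hv j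
  · have hu : ¬ nn u.1 := by
      intro hu
      apply hv
      intro j
      by_cases hj : j = i
      · subst hj; have := hu j; omega
      · rw [hvj j hj]; exact hu j
    rw [cf_of_not_nn I hI α φ u hu, cf_of_not_nn I hI α φ v hv]

theorem cf_adj (φ : Tgt I) (u v : ↥(region I α)) (h : (RG I α).Adj u v) :
    cf I hI α φ u = cf I hI α φ v := by
  have h' : (stepGraph σ).Adj u.1 v.1 := h
  rw [stepGraph_adj_iff] at h'
  obtain ⟨i, hi | hi⟩ := h'
  · exact cf_step I hI α φ u v i hi
  · exact (cf_step I hI α φ v u i hi).symm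

theorem const_of_walk {V : Type*} {G : SimpleGraph V} {X : Type*} (f : V → X)
    (hadj : ∀ u v, G.Adj u v → f u = f v) : ∀ (u v : V) (p : G.Walk u v), f u = f v := by
  intro u v p
  induction p with
  | nil => rfl
  | cons hadj' _ ih => exact (hadj _ _ hadj').trans ih

theorem const_of_reachable {V : Type*} {G : SimpleGraph V} {X : Type*} (f : V → X)
    (hadj : ∀ u v, G.Adj u v → f u = f v) {u v : V} (h : G.Reachable u v) : f u = f v := by
  obtain ⟨p⟩ := h
  exact const_of_walk f hadj u v p

/-- The coefficient function on connected components. -/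
noncomputable def cfK (φ : Tgt I) : (RG I α).ConnectedComponent → k :=
  SimpleGraph.ConnectedComponent.lift (cf I hI α φ)
    (fun u v p _ => const_of_walk (G := RG I α) _ (cf_adj I hI α φ) u v p)

theorem cfK_mk (φ : Tgt I) (v : ↥(region I α)) :
    cfK I hI α φ ((RG I α).connectedComponentMk v) = cf I hI α φ v := rfl

/-- A component is good when all its points have nonnegative coordinates. -/
def Good (K : (RG I α).ConnectedComponent) : Prop :=
  ∀ v : ↥(region I α), (RG I α).connectedComponentMk v = K → nn v.1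

theorem cf_of_not_good (φ : Tgt I) (v : ↥(region I α))
    (h : ¬ Good I α ((RG I α).connectedComponentMk v)) : cf I hI α φ v = 0 := by
  unfold Good at h
  simp only [not_forall] at h
  obtain ⟨w, hw, hnn⟩ := h
  rw [← cf_of_not_nn I hI α φ w hnn]
  exact (const_of_reachable _ (cf_adj I hI α φ) (SimpleGraph.ConnectedComponent.exact hw)).symm

theorem cf_add (φ ψ : Tgt I) (v : ↥(region I α)) :
    cf I hI α (φ + ψ) v = cf I hI α φ v + cf I hI α ψ v := by
  unfold cf
  split_ifs
  · rw [LinearMap.add_apply, map_add]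
  · rw [add_zero]

theorem cf_smul (a : k) (φ : Tgt I) (v : ↥(region I α)) :
    cf I hI α (a • φ) v = a * cf I hI α φ v := by
  unfold cf
  split_ifs
  · rw [LinearMap.smul_apply, map_smul, smul_eq_mul]
  · rw [mul_zero]

/-- Value of an element of `T(I)_α` on a monomial whose shift is a region vertex. -/
theorem tPiece_val (φ : Tgt I) (hφ : φ ∈ tPiece I α) (v : ↥(region I α)) :
    φ (mon I (src I α v) (src_mem I α v)) =
      cf I hI α φ v • Ideal.Quotient.mk I (monomial (toN v.1) (1:k)) := by
  have h := (mem_tPiece_iff I α φ).mp hφ (src I α v) (src_mem I α v)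
  rw [← src_spec] at h
  by_cases hv : nn v.1
  · obtain ⟨a, ha⟩ := Submodule.mem_span_singleton.mp (h.1 hv)
    rw [cf_of_nn I hI α φ v hv, ← ha, qc_smul_mk_monomial I hI (not_exps_of_nn I α v hv)]
  · rw [h.2 hv, cf_of_not_nn I hI α φ v hv, zero_smul]

/-- Value of an element of `T(I)_α` on an arbitrary monomial of `I`. -/
theorem tPiece_val' (φ : Tgt I) (hφ : φ ∈ tPiece I α) (β : σ →₀ ℕ) (hβ : β ∈ exps I) :
    (∃ h : zv β α ∈ region I α, φ (mon I β hβ) =
      cf I hI α φ ⟨zv β α, h⟩ • Ideal.Quotient.mk I (monomial (toN (zv β α)) (1:k))) ∨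
    (zv β α ∉ region I α ∧ φ (mon I β hβ) = 0) := by
  by_cases h : zv β α ∈ region I α
  · left
    refine ⟨h, ?_⟩
    have := tPiece_val I hI α φ hφ ⟨zv β α, h⟩
    have hs : src I α ⟨zv β α, h⟩ = β := src_eq I α _ β rfl
    rw [mon_congr I hs] at this
    exact this
  · right
    refine ⟨h, ?_⟩
    have h2 : nn (zv β α) ∧ toN (zv β α) ∈ exps I := by
      by_contra hcon
      exact h (zv_mem_region I α hβ hcon)
    have h3 := ((mem_tPiece_iff I α φ).mp hφ β hβ).1 h2.1
    rw [(mk_monomial_eq_zero_iff I).mpr h2.2] at h3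
    simpa using h3

end core


section equiv
variable (I : Ideal (MvPolynomial σ k)) (hI : IsMonomial I) (α : σ → ℤ)

/-- The type of good components. -/
abbrev GoodComp : Type _ := {K : (RG I α).ConnectedComponent // Good I α K}

/-- The coefficient map `T(I)_α → (good components → k)`. -/
noncomputable def Ψ : ↥(tPiece I α) →ₗ[k] (GoodComp I α → k) where
  toFun φ K := cfK I hI α φ.1 K.1
  map_add' φ ψ := by
    funext K
    obtain ⟨K, hK⟩ := K
    induction K using SimpleGraph.ConnectedComponent.ind with
    | h v => exact cf_add I hI α φ.1 ψ.1 v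
  map_smul' a φ := by
    funext K
    obtain ⟨K, hK⟩ := K
    induction K using SimpleGraph.ConnectedComponent.ind with
    | h v => exact cf_smul I hI α a φ.1 v

theorem Ψ_mk (φ : ↥(tPiece I α)) (v : ↥(region I α))
    (h : Good I α ((RG I α).connectedComponentMk v)) :
    Ψ I hI α φ ⟨_, h⟩ = cf I hI α φ.1 v := rfl

theorem Ψ_injective : Function.Injective (Ψ I hI α) := by
  rw [injective_iff_map_eq_zero]
  intro φ h0
  have hcf : ∀ v : ↥(region I α), cf I hI α φ.1 v = 0 := by
    intro v
    by_cases hG : Good I α ((RG I α).connectedComponentMk v)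
    · rw [← Ψ_mk I hI α φ v hG, h0]; rfl
    · exact cf_of_not_good I hI α φ.1 v hG
  apply Subtype.ext
  apply tgt_ext I hI
  intro β hβ
  rcases tPiece_val' I hI α φ.1 φ.2 β hβ with ⟨h, hv⟩ | ⟨_, hv⟩
  · rw [hv, hcf, zero_smul]; simp
  · rw [hv]; simp

open Classical in
/-- Extension of a function on good components to all integer vectors. -/
noncomputable def ext0 (g : GoodComp I α → k) (γ : σ → ℤ) : k :=
  if h : γ ∈ region I α then
    (if hG : Good I α ((RG I α).connectedComponentMk ⟨γ, h⟩) then g ⟨_, hG⟩ else 0)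
  else 0

theorem ext0_of_not_nn (g : GoodComp I α → k) (γ : σ → ℤ) (h : ¬ nn γ) : ext0 I α g γ = 0 := by
  unfold ext0
  split_ifs with h1 h2
  · exact absurd (h2 ⟨γ, h1⟩ rfl) h
  · rfl
  · rfl

theorem ext0_step (g : GoodComp I α → k) (γ : σ → ℤ) (i : σ) (h : γ ∈ region I α)
    (h' : γ + Pi.single i 1 ∈ region I α) : ext0 I α g γ = ext0 I α g (γ + Pi.single i 1) := by
  have hadj : (RG I α).Adj ⟨γ, h⟩ ⟨γ + Pi.single i 1, h'⟩ := by
    show (stepGraph σ).Adj γ (γ + Pi.single i 1)
    rw [stepGraph_adj_iff]
    exact ⟨i, Or.inl rfl⟩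
  have hK := SimpleGraph.ConnectedComponent.connectedComponentMk_eq_of_adj hadj
  unfold ext0
  rw [dif_pos h, dif_pos h']
  by_cases hG : Good I α ((RG I α).connectedComponentMk ⟨γ, h⟩)
  · have hG' : Good I α ((RG I α).connectedComponentMk ⟨γ + Pi.single i 1, h'⟩) := hK ▸ hG
    rw [dif_pos hG, dif_pos hG']
    congr 1
    exact Subtype.ext hK
  · have hG' : ¬ Good I α ((RG I α).connectedComponentMk ⟨γ + Pi.single i 1, h'⟩) := by
      intro h2; exact hG (hK ▸ h2)
    rw [dif_neg hG, dif_neg hG']

open Classical in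
/-- The values on monomials of the tangent vector attached to a function on good components. -/
noncomputable def valOf (g : GoodComp I α → k) (β : σ →₀ ℕ) : MvPolynomial σ k ⧸ I :=
  if nn (zv β α) then ext0 I α g (zv β α) • Ideal.Quotient.mk I (monomial (toN (zv β α)) (1:k))
  else 0

theorem valOf_step (g : GoodComp I α → k) (β : σ →₀ ℕ) (hβ : β ∈ exps I) (i : σ) :
    valOf I α g (β + Finsupp.single i 1) = (X i : MvPolynomial σ k) • valOf I α g β := by
  have hβ' : β + Finsupp.single i 1 ∈ exps I := exps_add I hβ _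
  have hX : (X i : MvPolynomial σ k) = monomial (Finsupp.single i 1) 1 := rfl
  unfold valOf
  rw [zv_add_single]
  set γ := zv β α with hγ
  by_cases hn : nn γ
  · have hn' : nn (γ + Pi.single i 1) := by
      intro j
      have := hn j
      by_cases hj : j = i
      · subst hj; simp; omega
      · simp [hj]; exact this
    rw [if_pos hn, if_pos hn', toN_add_single i (hn i), smul_comm, smul_mk, hX, monomial_mul,
      one_mul, add_comm (Finsupp.single i 1)]
    by_cases hE : toN γ + Finsupp.single i 1 ∈ exps I
    · rw [(mk_monomial_eq_zero_iff I).mpr hE, smul_zero, smul_zero]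
    · have hE0 : toN γ ∉ exps I := fun h => hE (exps_add I h _)
      have h1 : γ ∈ region I α := zv_mem_region I α hβ (fun h => hE0 h.2)
      have h2 : γ + Pi.single i 1 ∈ region I α := by
        rw [hγ, ← zv_add_single]
        apply zv_mem_region I α hβ'
        rw [zv_add_single, ← hγ, toN_add_single i (hn i)]
        exact fun h => hE h.2
      rw [ext0_step I α g γ i h1 h2]
  · rw [if_neg hn, smul_zero]
    by_cases hn' : nn (γ + Pi.single i 1)
    · rw [if_pos hn']
      by_cases hE : toN (γ + Pi.single i 1) ∈ exps I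
      · rw [(mk_monomial_eq_zero_iff I).mpr hE, smul_zero]
      · have h1 : γ ∈ region I α := zv_mem_region I α hβ (fun h => hn h.1)
        have h2 : γ + Pi.single i 1 ∈ region I α := by
          rw [hγ, ← zv_add_single]
          apply zv_mem_region I α hβ'
          rw [zv_add_single, ← hγ]
          exact fun h => hE h.2
        rw [← ext0_step I α g γ i h1 h2, ext0_of_not_nn I α g γ hn, zero_smul]
    · rw [if_neg hn']

theorem Ψ_surjective : Function.Surjective (Ψ I hI α) := by
  intro g
  obtain ⟨φ, hφ⟩ := exists_tgt_of_monomial_values I hI (valOf I α g)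
    (fun β hβ i => valOf_step I α g β hβ i)
  have hmem : φ ∈ tPiece I α := by
    rw [mem_tPiece_iff]
    intro β hβ
    rw [hφ β hβ]
    constructor
    · intro hn
      unfold valOf
      rw [if_pos hn]
      exact Submodule.smul_mem _ _ (Submodule.mem_span_singleton_self _)
    · intro hn
      unfold valOf
      rw [if_neg hn]
  refine ⟨⟨φ, hmem⟩, ?_⟩
  funext K
  obtain ⟨K, hK⟩ := K
  induction K using SimpleGraph.ConnectedComponent.ind with
  | h v =>
    rw [Ψ_mk]
    have hn : nn v.1 := hK v rfl
    rw [cf_of_nn I hI α φ v hn, hφ]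
    unfold valOf
    rw [← src_spec, if_pos hn, qc_smul_mk_monomial I hI (not_exps_of_nn I α v hn)]
    unfold ext0
    rw [dif_pos v.2, dif_pos hK]

/-- `T(I)_α` is the space of functions on the good components of the region. -/
noncomputable def tPieceEquiv : ↥(tPiece I α) ≃ₗ[k] (GoodComp I α → k) :=
  LinearEquiv.ofBijective (Ψ I hI α) ⟨Ψ_injective I hI α, Ψ_surjective I hI α⟩

include hI in
theorem finrank_tPiece [Finite (GoodComp I α)] :
    Module.finrank k ↥(tPiece I α) = Nat.card (GoodComp I α) := by
  haveI := Fintype.ofFinite (GoodComp I α)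
  rw [(tPieceEquiv I hI α).finrank_eq, Module.finrank_fintype_fun_eq_card, Nat.card_eq_fintype_card]

include hI in
theorem tPiece_eq_bot_of_isEmpty [IsEmpty (GoodComp I α)] : tPiece I α = ⊥ := by
  rw [eq_bot_iff]
  intro φ hφ
  have : (⟨φ, hφ⟩ : ↥(tPiece I α)) = 0 := by
    apply (tPieceEquiv I hI α).injective
    funext K
    exact isEmptyElim K
  exact congrArg Subtype.val this

end equiv

end Groth.Agent.MonoTgt9
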