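import Mathlib
import Groth.Prelude.Def_W4c1hilbpnTgt
import Groth.Agent.Lib.MonoTgt3_helper9

/-! Tangent spaces of monomial ideals (helper9), part 4: finite colength; bounded components are the
good components; the dimension of `T(I)_α` is the number of bounded components (S13452).
APPEND-ONLY once landed. -/

set_option linter.unusedSectionVars false
set_option linter.style.haveILetI false

open MvPolynomial W4c1hilbpn

namespace Groth.Agent.MonoTgt9

variable {σ : Type*} {k : Type*} [Field k]

theorem finite_nonexps (I : Ideal (MvPolynomial σ k))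
    (hI : IsMonomial I) [Module.Finite k (MvPolynomial σ k ⧸ I)] :
    Finite {β : σ →₀ ℕ // β ∉ exps I} := by
  classical
  have hli : LinearIndependent k (fun β : {β : σ →₀ ℕ // β ∉ exps I} =>
      Ideal.Quotient.mk I (monomial β.1 (1:k))) := by
    rw [linearIndependent_iff']
    intro s g hg β₀ hβ₀
    have h1 := congrArg (qc I hI β₀.1) hg
    rw [map_sum, map_zero, Finset.sum_eq_single β₀] at h1
    · rwa [qc_smul_mk_monomial I hI β₀.2] at h1
    · intro b _ hb
      rw [map_smul, qc_mk I hI β₀.2, coeff_monomial, if_neg, smul_zero]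
      intro h; exact hb (Subtype.ext h)
    · intro h; exact absurd hβ₀ h
  exact hli.finite_of_isNoetherian

variable [Fintype σ] [DecidableEq σ]

section fin
variable (I : Ideal (MvPolynomial σ k)) (hI : IsMonomial I) (α : σ → ℤ)

include hI in
/-- Along any coordinate direction one eventually enters the ideal. -/
theorem exists_add_single_mem [Module.Finite k (MvPolynomial σ k ⧸ I)] (γ : σ →₀ ℕ) (i : σ) :
    ∃ t : ℕ, γ + Finsupp.single i t ∈ exps I := by
  haveI := finite_nonexps I hI
  by_contra hcon
  simp only [not_exists] at hcon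
  let f : ℕ → {β : σ →₀ ℕ // β ∉ exps I} := fun t => ⟨γ + Finsupp.single i t, hcon t⟩
  have hf : Function.Injective f := by
    intro s t hst
    have h1 := congrArg (fun x => x.1 i) hst
    simp only [f, Finsupp.coe_add, Pi.add_apply, Finsupp.single_eq_same] at h1
    omega
  exact not_injective_infinite_finite f hf

theorem toN_inj {γ γ' : σ → ℤ} (h : nn γ) (h' : nn γ') (e : toN γ = toN γ') : γ = γ' := by
  funext i
  rw [← coe_toN h i, ← coe_toN h' i, e]

include hI in
theorem finite_goodComp [Module.Finite k (MvPolynomial σ k ⧸ I)] : Finite (GoodComp I α) := by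
  haveI := finite_nonexps I hI
  let f : GoodComp I α → {β : σ →₀ ℕ // β ∉ exps I} := fun K =>
    ⟨toN (Quot.out K.1).1, not_exps_of_nn I α _ (K.2 _ (Quot.out_eq K.1))⟩
  apply Finite.of_injective f
  intro K K' h
  have h1 : toN (Quot.out K.1).1 = toN (Quot.out K'.1).1 := congrArg Subtype.val h
  have h2 : (Quot.out K.1).1 = (Quot.out K'.1).1 :=
    toN_inj (K.2 _ (Quot.out_eq K.1)) (K'.2 _ (Quot.out_eq K'.1)) h1
  have h3 : Quot.out K.1 = Quot.out K'.1 := Subtype.ext h2
  apply Subtype.ext
  rw [← Quot.out_eq K.1, ← Quot.out_eq K'.1, h3]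

include hI in
theorem supp_finite_of_good [Module.Finite k (MvPolynomial σ k ⧸ I)]
    (K : (RG I α).ConnectedComponent) (hK : Good I α K) : K.supp.Finite := by
  haveI := finite_nonexps I hI
  let f : ↥K.supp → {β : σ →₀ ℕ // β ∉ exps I} := fun v =>
    ⟨toN v.1.1, not_exps_of_nn I α _ (hK v.1 v.2)⟩
  have hf : Function.Injective f := by
    intro v w h
    have h1 : toN v.1.1 = toN w.1.1 := congrArg Subtype.val h
    exact Subtype.ext (Subtype.ext (toN_inj (hK v.1 v.2) (hK w.1 w.2) h1))
  exact Set.finite_coe_iff.mp (Finite.of_injective f hf)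

theorem good_of_supp_finite [Nontrivial σ] (K : (RG I α).ConnectedComponent)
    (hK : K.supp.Finite) : Good I α K := by
  intro v hv
  by_contra hn
  unfold nn at hn
  simp only [not_forall, not_le] at hn
  obtain ⟨i, hi⟩ := hn
  obtain ⟨j, hj⟩ := exists_ne i
  -- the ray v + t e_j stays in the region and in the component
  have hmem : ∀ t : ℕ, v.1 + Pi.single j (t : ℤ) ∈ region I α := by
    intro t
    refine ⟨⟨src I α v + Finsupp.single j t, exps_add I (src_mem I α v) _, ?_⟩, ?_⟩
    · funext l
      have hs := congrFun (src_spec I α v) l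
      rw [zv_apply] at hs
      rw [Pi.add_apply, hs]
      by_cases hl : l = j
      · subst hl; simp; ring
      · have : ¬ j = l := fun h => hl h.symm
        simp [hl, this]
    · intro h
      have := h.1 i
      simp [hj.symm] at this
      omega
  have hcomp : ∀ t : ℕ, (RG I α).connectedComponentMk ⟨_, hmem t⟩ = K := by
    intro t
    induction t with
    | zero =>
      rw [← hv]
      congr 1
      apply Subtype.ext
      simp
    | succ t ih =>
      rw [← ih]
      symm
      apply SimpleGraph.ConnectedComponent.connectedComponentMk_eq_of_adj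
      show (stepGraph σ).Adj _ _
      rw [stepGraph_adj_iff]
      refine ⟨j, Or.inl ?_⟩
      funext l
      by_cases hl : l = j
      · subst hl; simp; ring
      · simp [hl]
  let f : ℕ → ↥K.supp := fun t => ⟨⟨_, hmem t⟩, hcomp t⟩
  have hf : Function.Injective f := by
    intro s t hst
    have h1 : (f s).1.1 j = (f t).1.1 j := by rw [hst]
    simp only [f, Pi.add_apply, Pi.single_eq_same] at h1
    omega
  haveI : Finite ↥K.supp := Set.finite_coe_iff.mpr hK
  exact not_injective_infinite_finite f hf

include hI in
theorem nBddComp_eq [Nontrivial σ] [Module.Finite k (MvPolynomial σ k ⧸ I)] :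
    nBddComp I α = Nat.card (GoodComp I α) := by
  unfold nBddComp
  apply Nat.card_congr
  exact Equiv.subtypeEquivRight (fun K =>
    ⟨fun h => good_of_supp_finite I α K h, fun h => supp_finite_of_good I hI α K h⟩)

include hI in
/-- S13452: the dimension of `T(I)_α` is the number of bounded components of the region. -/
theorem finrank_tPiece_eq_nBddComp [Nontrivial σ] [Module.Finite k (MvPolynomial σ k ⧸ I)] :
    Module.finrank k ↥(tPiece I α) = nBddComp I α := by
  haveI := finite_goodComp I hI α
  rw [finrank_tPiece I hI α, nBddComp_eq I hI α]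

end fin

end Groth.Agent.MonoTgt9
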