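import Mathlib
import Groth.Prelude.Def_W4c1hilbpnTgt
import Groth.Agent.Lib.MonoTgt4_helper9

/-! Tangent spaces of monomial ideals (helper9), part 5: tools for showing that region points reach
points with a negative coordinate; vanishing of `T(I)_α` for `α ≥ 0` and for `α < 0`.
APPEND-ONLY once landed. -/

set_option linter.unusedSectionVars false
set_option linter.style.haveILetI false

open MvPolynomial W4c1hilbpn

namespace Groth.Agent.MonoTgt9

variable {σ : Type*} {k : Type*} [Field k] [Fintype σ] [DecidableEq σ]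

section bad
variable (I : Ideal (MvPolynomial σ k)) (α : σ → ℤ)

/-- A region point whose component contains a point with a negative coordinate. -/
def BadPt (γ : σ → ℤ) : Prop :=
  ∃ h : γ ∈ region I α, ¬ Good I α ((RG I α).connectedComponentMk ⟨γ, h⟩)

theorem badPt_of_not_nn {γ : σ → ℤ} (h : γ ∈ region I α) (hn : ¬ nn γ) : BadPt I α γ :=
  ⟨h, fun hG => hn (hG ⟨γ, h⟩ rfl)⟩

theorem badPt_of_adj {γ γ' : σ → ℤ} (h : γ ∈ region I α) (hadj : (stepGraph σ).Adj γ γ')
    (h' : BadPt I α γ') : BadPt I α γ := by
  obtain ⟨hr, hb⟩ := h'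
  refine ⟨h, ?_⟩
  have : (RG I α).connectedComponentMk ⟨γ, h⟩ = (RG I α).connectedComponentMk ⟨γ', hr⟩ :=
    SimpleGraph.ConnectedComponent.connectedComponentMk_eq_of_adj (G := RG I α) hadj
  rw [this]; exact hb

theorem adj_single_mul (γ : σ → ℤ) (i : σ) (ε : ℤ) (hε : ε = 1 ∨ ε = -1) (s : ℕ) :
    (stepGraph σ).Adj (γ + Pi.single i (ε * (s : ℤ))) (γ + Pi.single i (ε * ((s + 1 : ℕ) : ℤ))) := by
  rw [stepGraph_adj_iff]
  refine ⟨i, ?_⟩
  rcases hε with rfl | rfl
  · left
    funext l
    by_cases hl : l = i
    · subst hl; simp; ring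
    · simp [hl]
  · right
    funext l
    by_cases hl : l = i
    · subst hl; simp; ring
    · simp [hl]

/-- Segment lemma: if a whole segment in a coordinate direction lies in the region and its end point
is bad, so is its starting point. -/
theorem badPt_segment (γ : σ → ℤ) (i : σ) (ε : ℤ) (hε : ε = 1 ∨ ε = -1) (L : ℕ)
    (h : ∀ s : ℕ, s ≤ L → γ + Pi.single i (ε * (s : ℤ)) ∈ region I α)
    (hend : BadPt I α (γ + Pi.single i (ε * (L : ℤ)))) : BadPt I α γ := by
  induction L with
  | zero => simpa using hend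
  | succ L ih =>
    apply ih (fun s hs => h s (Nat.le_succ_of_le hs))
    exact badPt_of_adj I α (h L (Nat.le_succ L)) (adj_single_mul γ i ε hε L) hend

theorem isEmpty_goodComp_of_forall_badPt
    (h : ∀ γ ∈ region I α, nn γ → BadPt I α γ) : IsEmpty (GoodComp I α) := by
  constructor
  rintro ⟨K, hK⟩
  induction K using SimpleGraph.ConnectedComponent.ind with
  | h v =>
    obtain ⟨_, hb⟩ := h v.1 v.2 (hK v rfl)
    exact hb hK

end bad

section vanish
variable (I : Ideal (MvPolynomial σ k)) (hI : IsMonomial I) (α : σ → ℤ)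

theorem toN_zv_ge {β : σ →₀ ℕ} (hα : ∀ i, 0 ≤ α i) : β ≤ toN (zv β α) := by
  intro i
  rw [toN_apply, zv_apply]
  have := hα i
  omega

include hI in
/-- `T(I)_α = 0` when all entries of `α` are nonnegative. -/
theorem tPiece_eq_bot_of_nonneg (hα : ∀ i, 0 ≤ α i) : tPiece I α = ⊥ := by
  haveI : IsEmpty (GoodComp I α) := by
    apply isEmpty_goodComp_of_forall_badPt
    intro γ hγ hn
    exfalso
    obtain ⟨⟨β, hβ, rfl⟩, h2⟩ := hγ
    exact h2 ⟨hn, exps_of_le I hβ (toN_zv_ge α hα)⟩
  exact tPiece_eq_bot_of_isEmpty I hI α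

theorem toN_add_single_nat {γ : σ → ℤ} (i : σ) (h : 0 ≤ γ i) (s : ℕ) :
    toN (γ + Pi.single i (s : ℤ)) = toN γ + Finsupp.single i s := by
  ext j
  simp only [toN_apply, Finsupp.coe_add, Pi.add_apply, Finsupp.single_apply, Pi.single_apply]
  by_cases hj : j = i
  · subst hj; simp; omega
  · have : ¬ i = j := fun h' => hj h'.symm
    simp [hj, this]

theorem zv_add_single_nat (β : σ →₀ ℕ) (i : σ) (s : ℕ) :
    zv (β + Finsupp.single i s) α = zv β α + Pi.single i (s : ℤ) := by
  funext j
  simp only [zv_apply, Finsupp.coe_add, Pi.add_apply, Finsupp.single_apply, Pi.single_apply]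
  by_cases h : j = i
  · subst h; simp; ring
  · have : ¬ i = j := fun h' => h h'.symm
    simp [h, this]

include hI in
/-- Every nonnegative region point reaches a point with a negative coordinate when all entries of
`α` are negative (at least two variables, finite colength). -/
theorem badPt_of_all_neg [Nontrivial σ] [Module.Finite k (MvPolynomial σ k ⧸ I)]
    (hα : ∀ i, α i < 0) : ∀ γ ∈ region I α, BadPt I α γ := by
  classical
  obtain ⟨i0, j0, hij⟩ := exists_pair_ne σ
  suffices H : ∀ m : ℕ, ∀ γ ∈ region I α, nn γ → γ i0 = (m : ℤ) → BadPt I α γ by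
    intro γ hγ
    by_cases hn : nn γ
    · exact H (γ i0).toNat γ hγ hn (Int.toNat_of_nonneg (hn i0)).symm
    · exact badPt_of_not_nn I α hγ hn
  intro m
  induction m using Nat.strong_induction_on with
  | _ m IH =>
  intro γ hγ hn hm
  have hγE : toN γ ∉ exps I := fun h => hγ.2 ⟨hn, h⟩
  obtain ⟨β, hβ, hβγ⟩ := hγ.1
  have hex := exists_add_single_mem I hI (toN γ) j0
  set t := Nat.find hex with ht
  have htE : toN γ + Finsupp.single j0 t ∈ exps I := Nat.find_spec hex
  have htmin : ∀ s, s < t → toN γ + Finsupp.single j0 s ∉ exps I := fun s hs => Nat.find_min hex hs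
  have ht0 : t ≠ 0 := by
    intro h0
    rw [h0] at htE
    simp at htE
    exact hγE htE
  -- the up segment
  have hup : ∀ s : ℕ, s ≤ t - 1 → γ + Pi.single j0 ((1:ℤ) * (s : ℤ)) ∈ region I α := by
    intro s hs
    rw [one_mul]
    refine mem_region.mpr ⟨⟨β + Finsupp.single j0 s, exps_add I hβ _, ?_⟩, ?_⟩
    · rw [zv_add_single_nat]
      congr 1
    · rw [toN_add_single_nat j0 (hn j0) s]
      exact fun h => htmin s (by omega) h.2
  apply badPt_segment I α γ j0 1 (Or.inl rfl) (t - 1) hup
  rw [one_mul]
  set γ' := γ + Pi.single j0 ((t - 1 : ℕ) : ℤ) with hγ'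
  have hn' : nn γ' := by
    intro l
    rw [hγ', Pi.add_apply]
    have := hn l
    by_cases hl : l = j0
    · subst hl; simp; omega
    · simp [hl]; exact this
  have hγ'N : toN γ' = toN γ + Finsupp.single j0 (t - 1) := toN_add_single_nat j0 (hn j0) _
  have hγ'E : toN γ' ∉ exps I := by rw [hγ'N]; exact htmin _ (by omega)
  have hγ'E1 : toN γ' + Finsupp.single j0 1 ∈ exps I := by
    rw [hγ'N, add_assoc, ← Finsupp.single_add]
    have : t - 1 + 1 = t := by omega
    rw [this]; exact htE
  have hγ'i0 : γ' i0 = m := by rw [hγ', Pi.add_apply]; simp [hij]; exact hm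
  -- the down segment
  set a0 := (-α i0).toNat with ha0
  have ha0pos : 1 ≤ a0 := by have := hα i0; omega
  have ha0z : (a0 : ℤ) = -α i0 := by have := hα i0; omega
  set L := min (m + 1) a0 with hL
  have hdown : ∀ s : ℕ, s ≤ L → γ' + Pi.single i0 ((-1:ℤ) * (s : ℤ)) ∈ region I α := by
    intro s hs
    have hsa : s ≤ a0 := le_trans hs (min_le_right _ _)
    refine mem_region.mpr ⟨⟨toN (fun l => γ' l + (Pi.single i0 ((-1:ℤ) * (s : ℤ)) : σ → ℤ) l - α l), ?_, ?_⟩, ?_⟩
    · apply exps_of_le I hγ'E1
      intro l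
      rw [toN_apply, Finsupp.coe_add, Pi.add_apply, toN_apply]
      have h1 := hn' l
      have h2 := hα l
      by_cases hl : l = i0
      · subst hl
        have : ¬ l = j0 := hij
        have h3 : (Finsupp.single j0 1 : σ →₀ ℕ) l = 0 := by simp [Finsupp.single_apply, Ne.symm this]
        rw [h3]
        simp
        omega
      · by_cases hl2 : l = j0
        · subst hl2
          simp [hl]
          omega
        · have h3 : (Finsupp.single j0 1 : σ →₀ ℕ) l = 0 := by
            simp [Finsupp.single_apply, Ne.symm hl2]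
          rw [h3]
          simp [hl]
          omega
    · funext l
      rw [zv_apply, toN_apply, Pi.add_apply]
      have h1 := hn' l
      have h2 := hα l
      by_cases hl : l = i0
      · subst hl
        simp
        omega
      · simp [hl]
        omega
    · intro h
      apply hγ'E
      apply exps_of_le I h.2
      intro l
      rw [toN_apply, toN_apply, Pi.add_apply]
      by_cases hl : l = i0
      · subst hl
        rw [Pi.single_eq_same]
        omega
      · simp [hl]
  apply badPt_segment I α γ' i0 (-1) (Or.inr rfl) L hdown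
  have hendmem := hdown L le_rfl
  by_cases hcase : m + 1 ≤ a0
  · have hLm : L = m + 1 := min_eq_left hcase
    apply badPt_of_not_nn I α hendmem
    intro hnn
    have := hnn i0
    rw [Pi.add_apply, Pi.single_eq_same, hγ'i0, hLm] at this
    push_cast at this
    omega
  · have hLa : L = a0 := min_eq_right (by omega)
    apply IH (m - a0) (by omega) _ hendmem
    · intro l
      rw [Pi.add_apply]
      by_cases hl : l = i0
      · subst hl
        rw [hγ'i0, hLa]
        simp
        omega
      · simp [hl]; exact hn' l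
    · rw [Pi.add_apply, hγ'i0, hLa]
      simp
      omega

include hI in
/-- `T(I)_α = 0` when all entries of `α` are negative. -/
theorem tPiece_eq_bot_of_neg [Nontrivial σ] [Module.Finite k (MvPolynomial σ k ⧸ I)]
    (hα : ∀ i, α i < 0) : tPiece I α = ⊥ := by
  haveI : IsEmpty (GoodComp I α) :=
    isEmpty_goodComp_of_forall_badPt I α (fun γ hγ _ => badPt_of_all_neg I hI α hα γ hγ)
  exact tPiece_eq_bot_of_isEmpty I hI α

end vanish

end Groth.Agent.MonoTgt9
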