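import Mathlib
import Groth.Prelude.Def_W4c1hilbpnTgt
import Groth.Agent.Lib.MonoTgt5_helper9

/-! Tangent spaces of monomial ideals (helper9), part 6: for a monomial ideal of finite colength,
`T(I)` is the sum of its multigraded pieces.
APPEND-ONLY once landed. -/

set_option linter.unusedSectionVars false
set_option linter.style.haveILetI false

open MvPolynomial W4c1hilbpn

namespace Groth.Agent.MonoTgt9

variable {σ : Type*} {k : Type*} [Field k]

section quot
variable (I : Ideal (MvPolynomial σ k)) (hI : IsMonomial I)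

theorem eq_zero_of_qc (q : MvPolynomial σ k ⧸ I) (h : ∀ γ, γ ∉ exps I → qc I hI γ q = 0) :
    q = 0 := by
  obtain ⟨p, rfl⟩ := Ideal.Quotient.mk_surjective q
  rw [Ideal.Quotient.eq_zero_iff_mem, mem_iff_support I hI]
  intro β hβ
  by_contra hE
  have := h β hE
  rw [qc_mk I hI hE] at this
  exact (mem_support_iff.mp hβ) this

theorem quot_eq_sum [Fintype {β : σ →₀ ℕ // β ∉ exps I}] (q : MvPolynomial σ k ⧸ I) :
    q = ∑ γ : {β : σ →₀ ℕ // β ∉ exps I},
      qc I hI γ.1 q • Ideal.Quotient.mk I (monomial γ.1 (1:k)) := by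
  classical
  rw [← sub_eq_zero]
  apply eq_zero_of_qc I hI
  intro γ' hγ'
  rw [map_sub, map_sum, Finset.sum_eq_single ⟨γ', hγ'⟩]
  · rw [qc_smul_mk_monomial I hI hγ', sub_self]
  · intro b _ hb
    rw [map_smul, qc_mk I hI hγ', coeff_monomial, if_neg, smul_zero]
    intro h; exact hb (Subtype.ext h)
  · intro h; exact absurd (Finset.mem_univ _) h

include hI in
theorem exists_finite_gens [Finite σ] : ∃ B : Finset (σ →₀ ℕ), (∀ β ∈ B, β ∈ exps I) ∧
    ∀ β ∈ exps I, ∃ β' ∈ B, β' ≤ β := by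
  classical
  have hfg : I.FG := IsNoetherian.noetherian I
  obtain ⟨s, hs⟩ := hfg
  refine ⟨s.biUnion (fun p => p.support), ?_, ?_⟩
  · intro β hβ
    obtain ⟨p, hp, hβp⟩ := Finset.mem_biUnion.mp hβ
    exact hI p (hs ▸ Ideal.subset_span hp) β hβp
  · intro β hβ
    have h1 : I ≤ Ideal.span ((fun s => monomial s (1:k)) ''
        (↑(s.biUnion (fun p => p.support)) : Set (σ →₀ ℕ))) := by
      rw [← hs, Ideal.span_le]
      intro p hp
      rw [SetLike.mem_coe, mem_ideal_span_monomial_image]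
      intro xi hxi
      exact ⟨xi, Finset.mem_coe.mpr (Finset.mem_biUnion.mpr ⟨p, hp, hxi⟩), le_rfl⟩
    have h2 := h1 hβ
    rw [mem_ideal_span_monomial_image] at h2
    obtain ⟨β', hβ', hle⟩ := h2 β (by
      rw [support_monomial, if_neg one_ne_zero]; exact Finset.mem_singleton_self _)
    exact ⟨β', Finset.mem_coe.mp hβ', hle⟩

end quot

variable [Fintype σ] [DecidableEq σ]

section decomp
variable (I : Ideal (MvPolynomial σ k)) (hI : IsMonomial I)

/-- The `α`-component of a tangent vector. -/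
noncomputable def comp (φ : Tgt I) (α : σ → ℤ) : ↥(tPiece I α) :=
  (tPieceEquiv I hI α).symm (fun K => cfK I hI α φ K.1)

theorem cf_comp (φ : Tgt I) (α : σ → ℤ) (v : ↥(region I α)) :
    cf I hI α (comp I hI φ α).1 v = cf I hI α φ v := by
  by_cases hG : Good I α ((RG I α).connectedComponentMk v)
  · exact congrFun ((tPieceEquiv I hI α).apply_symm_apply (fun K => cfK I hI α φ K.1)) ⟨_, hG⟩
  · rw [cf_of_not_good I hI α _ v hG, cf_of_not_good I hI α _ v hG]

open Classical in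
theorem comp_val (φ : Tgt I) (α : σ → ℤ) (β : σ →₀ ℕ) (hβ : β ∈ exps I) :
    (comp I hI φ α).1 (mon I β hβ) =
      if nn (zv β α) ∧ toN (zv β α) ∉ exps I then
        qc I hI (toN (zv β α)) (φ (mon I β hβ)) •
          Ideal.Quotient.mk I (monomial (toN (zv β α)) (1:k))
      else 0 := by
  rcases tPiece_val' I hI α (comp I hI φ α).1 (comp I hI φ α).2 β hβ with ⟨h, hv⟩ | ⟨h, hv⟩
  · rw [hv, cf_comp]
    by_cases hn : nn (zv β α)
    · have hE : toN (zv β α) ∉ exps I := fun h' => h.2 ⟨hn, h'⟩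
      rw [if_pos ⟨hn, hE⟩, cf_of_nn I hI α φ ⟨zv β α, h⟩ hn]
      have hs : src I α ⟨zv β α, h⟩ = β := src_eq I α _ β rfl
      rw [mon_congr I hs]
    · rw [if_neg (fun h' => hn h'.1), cf_of_not_nn I hI α φ ⟨zv β α, h⟩ hn, zero_smul]
  · rw [hv, if_neg]
    intro h'
    exact h (zv_mem_region I α hβ (fun h2 => h'.2 h2.2))

/-- The difference vector `γ - β`. -/
def dv (γ β : σ →₀ ℕ) : σ → ℤ := fun i => (γ i : ℤ) - (β i : ℤ)

theorem zv_dv (γ β : σ →₀ ℕ) : zv β (dv γ β) = fun i => (γ i : ℤ) := by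
  funext i
  simp only [zv_apply, dv]
  ring

theorem nn_zv_dv (γ β : σ →₀ ℕ) : nn (zv β (dv γ β)) := by
  rw [zv_dv]; intro i; exact Int.natCast_nonneg _

theorem toN_zv_dv (γ β : σ →₀ ℕ) : toN (zv β (dv γ β)) = γ := by
  rw [zv_dv]; ext i; simp [toN_apply]

theorem dv_toN_zv {β : σ →₀ ℕ} {α : σ → ℤ} (h : nn (zv β α)) : dv (toN (zv β α)) β = α := by
  funext i
  simp only [dv]
  rw [coe_toN h i, zv_apply]
  ring

theorem sum_comp [Fintype {β : σ →₀ ℕ // β ∉ exps I}] (φ : Tgt I) (β : σ →₀ ℕ) (hβ : β ∈ exps I)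
    (A : Finset (σ → ℤ)) (hA : ∀ γ, γ ∉ exps I → dv γ β ∈ A) :
    ∑ α ∈ A, (comp I hI φ α).1 (mon I β hβ) = φ (mon I β hβ) := by
  classical
  conv_rhs => rw [quot_eq_sum I hI (φ (mon I β hβ))]
  let j : {β : σ →₀ ℕ // β ∉ exps I} → (σ → ℤ) := fun γ => dv γ.1 β
  have hj : Function.Injective j := by
    intro γ γ' h
    apply Subtype.ext
    ext i
    have := congrFun h i
    simp only [j, dv] at this
    omega
  have hsub : Finset.univ.image j ⊆ A := by
    intro α hα
    obtain ⟨γ, _, rfl⟩ := Finset.mem_image.mp hα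
    exact hA γ.1 γ.2
  rw [← Finset.sum_subset hsub, Finset.sum_image (fun x _ y _ h => hj h)]
  · apply Finset.sum_congr rfl
    intro γ _
    rw [comp_val]
    simp only [j]
    rw [if_pos ⟨nn_zv_dv γ.1 β, by rw [toN_zv_dv]; exact γ.2⟩, toN_zv_dv]
  · intro α _ hα
    rw [comp_val, if_neg]
    intro h
    apply hα
    rw [Finset.mem_image]
    exact ⟨⟨toN (zv β α), h.2⟩, Finset.mem_univ _, dv_toN_zv h.1⟩

include hI in
/-- For a monomial ideal of finite colength, `T(I)` is the sum of its multigraded pieces. -/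
theorem iSup_tPiece_eq_top [Module.Finite k (MvPolynomial σ k ⧸ I)] :
    (⨆ α : σ → ℤ, tPiece I α) = ⊤ := by
  classical
  haveI := finite_nonexps I hI
  haveI := Fintype.ofFinite {β : σ →₀ ℕ // β ∉ exps I}
  rw [eq_top_iff]
  intro φ _
  obtain ⟨B, hB, hgen⟩ := exists_finite_gens I hI
  let A : Finset (σ → ℤ) :=
    (B ×ˢ (Finset.univ : Finset {β : σ →₀ ℕ // β ∉ exps I})).image (fun p => dv p.2.1 p.1)
  have hφ : φ = ∑ α ∈ A, (comp I hI φ α).1 := by
    apply tgt_ext I hI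
    intro β hβ
    obtain ⟨β', hβ', hle⟩ := hgen β hβ
    obtain ⟨δ, rfl⟩ := exists_add_of_le hle
    have hβ'E := hB β' hβ'
    rw [map_mon_add I φ β' δ hβ'E, map_mon_add I _ β' δ hβ'E, LinearMap.sum_apply,
      sum_comp I hI φ β' hβ'E A]
    intro γ hγ
    rw [Finset.mem_image]
    exact ⟨(β', ⟨γ, hγ⟩), Finset.mem_product.mpr ⟨hβ', Finset.mem_univ _⟩, rfl⟩
  rw [hφ]
  apply Submodule.sum_mem
  intro α _
  exact (le_iSup (fun α => tPiece I α) α) (comp I hI φ α).2

end decomp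

end Groth.Agent.MonoTgt9
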