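import Mathlib
import Groth.Prelude.Def_W4c1hilbpnTgt
import Groth.Agent.Lib.MonoTgt6_helper9

/-! Tangent spaces of monomial ideals (helper9), part 7: a minimal generator and a socle monomial give
a nonzero graded piece; three-variable helpers.
APPEND-ONLY once landed. -/

set_option linter.unusedSectionVars false
set_option linter.style.haveILetI false

open MvPolynomial W4c1hilbpn

namespace Groth.Agent.MonoTgt9

variable {σ : Type*} {k : Type*} [Field k] [Fintype σ] [DecidableEq σ]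

section isolated
variable (I : Ideal (MvPolynomial σ k)) (hI : IsMonomial I)

include hI in
theorem tPiece_ne_bot_of_goodComp (α : σ → ℤ) (K : GoodComp I α) : tPiece I α ≠ ⊥ := by
  intro h
  haveI : Subsingleton ↥(tPiece I α) := by rw [h]; infer_instance
  haveI : Subsingleton (GoodComp I α → k) := (tPieceEquiv I hI α).symm.injective.subsingleton
  have := congrFun (Subsingleton.elim (fun _ : GoodComp I α => (0:k)) (fun _ => 1)) K
  exact zero_ne_one this

include hI in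
/-- A minimal generator `β` and a socle monomial `γ` give a nonzero piece of degree `γ - β`. -/
theorem tPiece_ne_bot_of_isolated (β γ : σ →₀ ℕ) (hβ : β ∈ exps I)
    (hmin : ∀ i, 0 < β i → β - Finsupp.single i 1 ∉ exps I)
    (hγ : γ ∉ exps I) (hsoc : ∀ i, γ + Finsupp.single i 1 ∈ exps I) :
    tPiece I (dv γ β) ≠ ⊥ := by
  set α := dv γ β with hα
  have hnn : nn (zv β α) := nn_zv_dv γ β
  have htoN : toN (zv β α) = γ := toN_zv_dv γ β
  have hv : zv β α ∈ region I α := zv_mem_region I α hβ (fun h => hγ (htoN ▸ h.2))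
  -- the vertex has no neighbours
  have hiso : ∀ w : ↥(region I α), ¬ (RG I α).Adj ⟨zv β α, hv⟩ w := by
    intro w hadj
    have hadj' : (stepGraph σ).Adj (zv β α) w.1 := hadj
    rw [stepGraph_adj_iff] at hadj'
    obtain ⟨i, hi | hi⟩ := hadj'
    · apply w.2.2
      have hwn : nn w.1 := by
        intro l
        rw [hi, Pi.add_apply]
        have := hnn l
        by_cases hl : l = i
        · subst hl; simp; omega
        · simp [hl]; exact this
      refine ⟨hwn, ?_⟩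
      show toN w.1 ∈ exps I
      rw [hi, toN_add_single i (hnn i), htoN]
      exact hsoc i
    · obtain ⟨β'', hβ'', hw⟩ := w.2.1
      have h1 : zv β α = zv (β'' + Finsupp.single i 1) α := by
        rw [zv_add_single]
        rw [hi]
        congr 1
      have h2 : β = β'' + Finsupp.single i 1 := zv_inj h1
      have h3 : 0 < β i := by rw [h2]; simp
      apply hmin i h3
      rw [h2, add_tsub_cancel_right]
      exact hβ''
  have hgood : Good I α ((RG I α).connectedComponentMk ⟨zv β α, hv⟩) := by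
    intro w hw
    have hr : (RG I α).Reachable ⟨zv β α, hv⟩ w := (SimpleGraph.ConnectedComponent.exact hw).symm
    obtain ⟨p⟩ := hr
    cases p with
    | nil => exact hnn
    | cons h _ => exact absurd h (hiso _)
  exact tPiece_ne_bot_of_goodComp I hI α ⟨_, hgood⟩

include hI in
theorem exists_socle_ge [Module.Finite k (MvPolynomial σ k ⧸ I)] (γ0 : σ →₀ ℕ)
    (hγ0 : γ0 ∉ exps I) :
    ∃ γ : σ →₀ ℕ, γ0 ≤ γ ∧ γ ∉ exps I ∧ ∀ i, γ + Finsupp.single i 1 ∈ exps I := by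
  haveI := finite_nonexps I hI
  have hfin : {γ : σ →₀ ℕ | γ ∉ exps I}.Finite :=
    Set.finite_coe_iff.mp (inferInstanceAs (Finite {β : σ →₀ ℕ // β ∉ exps I}))
  obtain ⟨γ, hle, hmax⟩ := hfin.exists_le_maximal (a := γ0) hγ0
  refine ⟨γ, hle, hmax.1, ?_⟩
  intro i
  by_contra hcon
  have h1 : γ + Finsupp.single i 1 ≤ γ := hmax.2 (y := γ + Finsupp.single i 1) hcon le_self_add
  have := h1 i
  simp at this

include hI in
/-- A minimal generator `β` and a monomial `γ0` outside `I`: some socle monomial `γ ≥ γ0` gives a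
nonzero piece of degree `γ - β`. -/
theorem exists_tPiece_ne_bot [Module.Finite k (MvPolynomial σ k ⧸ I)] (β γ0 : σ →₀ ℕ)
    (hβ : β ∈ exps I) (hmin : ∀ i, 0 < β i → β - Finsupp.single i 1 ∉ exps I)
    (hγ0 : γ0 ∉ exps I) :
    ∃ γ : σ →₀ ℕ, γ0 ≤ γ ∧ γ ∉ exps I ∧ tPiece I (dv γ β) ≠ ⊥ := by
  obtain ⟨γ, hle, hγ, hsoc⟩ := exists_socle_ge I hI γ0 hγ0
  exact ⟨γ, hle, hγ, tPiece_ne_bot_of_isolated I hI β γ hβ hmin hγ hsoc⟩

theorem tPiece_le_sigPiece (α : σ → ℤ) (N : Set σ) (h : ∀ i, α i < 0 ↔ i ∈ N) :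
    tPiece I α ≤ sigPiece I N := by
  unfold sigPiece
  exact le_iSup (fun α : {α : σ → ℤ // ∀ i, α i < 0 ↔ i ∈ N} => tPiece I α.1) ⟨α, h⟩

theorem sigPiece_ne_bot_of_tPiece (α : σ → ℤ) (N : Set σ) (h : ∀ i, α i < 0 ↔ i ∈ N)
    (hne : tPiece I α ≠ ⊥) : sigPiece I N ≠ ⊥ := by
  intro h0
  apply hne
  rw [eq_bot_iff, ← h0]
  exact tPiece_le_sigPiece I α N h

end isolated

section three

theorem e3_apply0 (a b c : ℕ) : e3 a b c 0 = a := by simp [e3]
theorem e3_apply1 (a b c : ℕ) : e3 a b c 1 = b := by simp [e3]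
theorem e3_apply2 (a b c : ℕ) : e3 a b c 2 = c := by simp [e3]

theorem e3_le_iff (a b c : ℕ) (γ : Fin 3 →₀ ℕ) :
    e3 a b c ≤ γ ↔ a ≤ γ 0 ∧ b ≤ γ 1 ∧ c ≤ γ 2 := by
  constructor
  · intro h
    refine ⟨?_, ?_, ?_⟩
    · have := h 0; rwa [e3_apply0] at this
    · have := h 1; rwa [e3_apply1] at this
    · have := h 2; rwa [e3_apply2] at this
  · rintro ⟨h0, h1, h2⟩ i
    fin_cases i
    · show e3 a b c 0 ≤ γ 0; rwa [e3_apply0]
    · show e3 a b c 1 ≤ γ 1; rwa [e3_apply1]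
    · show e3 a b c 2 ≤ γ 2; rwa [e3_apply2]

theorem e3_le_e3 {a b c a' b' c' : ℕ} (h0 : a ≤ a') (h1 : b ≤ b') (h2 : c ≤ c') :
    e3 a b c ≤ e3 a' b' c' := by
  rw [e3_le_iff, e3_apply0, e3_apply1, e3_apply2]
  exact ⟨h0, h1, h2⟩

theorem e3_sub_single0 (a b c : ℕ) : e3 a b c - Finsupp.single 0 1 = e3 (a - 1) b c := by
  ext i
  fin_cases i
  · show (e3 a b c - Finsupp.single 0 1 : Fin 3 →₀ ℕ) 0 = e3 (a-1) b c 0
    rw [Finsupp.tsub_apply, e3_apply0, e3_apply0]; simp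
  · show (e3 a b c - Finsupp.single 0 1 : Fin 3 →₀ ℕ) 1 = e3 (a-1) b c 1
    rw [Finsupp.tsub_apply, e3_apply1, e3_apply1]; simp
  · show (e3 a b c - Finsupp.single 0 1 : Fin 3 →₀ ℕ) 2 = e3 (a-1) b c 2
    rw [Finsupp.tsub_apply, e3_apply2, e3_apply2]; simp

theorem e3_sub_single1 (a b c : ℕ) : e3 a b c - Finsupp.single 1 1 = e3 a (b - 1) c := by
  ext i
  fin_cases i
  · show (e3 a b c - Finsupp.single 1 1 : Fin 3 →₀ ℕ) 0 = e3 a (b-1) c 0
    rw [Finsupp.tsub_apply, e3_apply0, e3_apply0]; simp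
  · show (e3 a b c - Finsupp.single 1 1 : Fin 3 →₀ ℕ) 1 = e3 a (b-1) c 1
    rw [Finsupp.tsub_apply, e3_apply1, e3_apply1]; simp
  · show (e3 a b c - Finsupp.single 1 1 : Fin 3 →₀ ℕ) 2 = e3 a (b-1) c 2
    rw [Finsupp.tsub_apply, e3_apply2, e3_apply2]; simp

theorem e3_sub_single2 (a b c : ℕ) : e3 a b c - Finsupp.single 2 1 = e3 a b (c - 1) := by
  ext i
  fin_cases i
  · show (e3 a b c - Finsupp.single 2 1 : Fin 3 →₀ ℕ) 0 = e3 a b (c-1) 0
    rw [Finsupp.tsub_apply, e3_apply0, e3_apply0]; simp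
  · show (e3 a b c - Finsupp.single 2 1 : Fin 3 →₀ ℕ) 1 = e3 a b (c-1) 1
    rw [Finsupp.tsub_apply, e3_apply1, e3_apply1]; simp
  · show (e3 a b c - Finsupp.single 2 1 : Fin 3 →₀ ℕ) 2 = e3 a b (c-1) 2
    rw [Finsupp.tsub_apply, e3_apply2, e3_apply2]; simp

end three

end Groth.Agent.MonoTgt9
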