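import Mathlib
import Groth.Prelude.Def_W4c1hilbpnTgt
import Groth.Agent.Lib.MonoTgt7_helper9

/-! Tangent spaces of monomial ideals (helper9), part 8: more vanishing results (nonpositive degrees
with two negative entries; ideals containing a variable).
APPEND-ONLY once landed. -/

set_option linter.unusedSectionVars false
set_option linter.style.haveILetI false

open MvPolynomial W4c1hilbpn

namespace Groth.Agent.MonoTgt9

variable {σ : Type*} {k : Type*} [Field k] [Fintype σ] [DecidableEq σ]

section vanish2
variable (I : Ideal (MvPolynomial σ k)) (hI : IsMonomial I) (α : σ → ℤ)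

include hI in
/-- Every nonnegative region point reaches a point with a negative coordinate when all entries of
`α` are nonpositive and two of them are negative (finite colength). -/
theorem badPt_of_nonpos_two_neg [Module.Finite k (MvPolynomial σ k ⧸ I)]
    (hα' : ∀ i, α i ≤ 0) (i0 j0 : σ) (hij : i0 ≠ j0) (hi0 : α i0 < 0) (hj0 : α j0 < 0) :
    ∀ γ ∈ region I α, BadPt I α γ := by
  classical
  suffices H : ∀ m : ℕ, ∀ γ ∈ region I α, nn γ → γ i0 = (m : ℤ) → BadPt I α γ by
    intro γ hγ
    by_cases hn : nn γ
    · exact H (γ i0).toNat γ hγ hn (Int.toNat_of_nonneg (hn i0)).symm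
    · exact badPt_of_not_nn I α hγ hn
  intro m
  induction m using Nat.strong_induction_on with
  | _ m IH =>
  intro γ hγ hn hm
  have hγE : toN γ ∉ exps I := fun h => hγ.2 ⟨hn, h⟩
  obtain ⟨β, hβ, hβγ⟩ := hγ.1
  have hex := exists_add_single_mem I hI (toN γ) j0
  set t := Nat.find hex with ht
  have htE : toN γ + Finsupp.single j0 t ∈ exps I := Nat.find_spec hex
  have htmin : ∀ s, s < t → toN γ + Finsupp.single j0 s ∉ exps I := fun s hs => Nat.find_min hex hs
  have ht0 : t ≠ 0 := by
    intro h0
    rw [h0] at htE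
    simp at htE
    exact hγE htE
  -- the up segment
  have hup : ∀ s : ℕ, s ≤ t - 1 → γ + Pi.single j0 ((1:ℤ) * (s : ℤ)) ∈ region I α := by
    intro s hs
    rw [one_mul]
    refine mem_region.mpr ⟨⟨β + Finsupp.single j0 s, exps_add I hβ _, ?_⟩, ?_⟩
    · rw [zv_add_single_nat]
      congr 1
    · rw [toN_add_single_nat j0 (hn j0) s]
      exact fun h => htmin s (by omega) h.2
  apply badPt_segment I α γ j0 1 (Or.inl rfl) (t - 1) hup
  rw [one_mul]
  set γ' := γ + Pi.single j0 ((t - 1 : ℕ) : ℤ) with hγ'
  have hn' : nn γ' := by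
    intro l
    rw [hγ', Pi.add_apply]
    have := hn l
    by_cases hl : l = j0
    · subst hl; simp; omega
    · simp [hl]; exact this
  have hγ'N : toN γ' = toN γ + Finsupp.single j0 (t - 1) := toN_add_single_nat j0 (hn j0) _
  have hγ'E : toN γ' ∉ exps I := by rw [hγ'N]; exact htmin _ (by omega)
  have hγ'E1 : toN γ' + Finsupp.single j0 1 ∈ exps I := by
    rw [hγ'N, add_assoc, ← Finsupp.single_add]
    have : t - 1 + 1 = t := by omega
    rw [this]; exact htE
  have hγ'i0 : γ' i0 = m := by rw [hγ', Pi.add_apply]; simp [hij]; exact hm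
  -- the down segment
  set a0 := (-α i0).toNat with ha0
  have ha0pos : 1 ≤ a0 := by omega
  have ha0z : (a0 : ℤ) = -α i0 := by omega
  set L := min (m + 1) a0 with hL
  have hdown : ∀ s : ℕ, s ≤ L → γ' + Pi.single i0 ((-1:ℤ) * (s : ℤ)) ∈ region I α := by
    intro s hs
    have hsa : s ≤ a0 := le_trans hs (min_le_right _ _)
    refine mem_region.mpr ⟨⟨toN (fun l => γ' l + (Pi.single i0 ((-1:ℤ) * (s : ℤ)) : σ → ℤ) l - α l), ?_, ?_⟩, ?_⟩
    · apply exps_of_le I hγ'E1
      intro l
      rw [toN_apply, Finsupp.coe_add, Pi.add_apply, toN_apply]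
      have h1 := hn' l
      have h2 := hα' l
      by_cases hl : l = i0
      · subst hl
        have : ¬ l = j0 := hij
        have h3 : (Finsupp.single j0 1 : σ →₀ ℕ) l = 0 := by simp [Finsupp.single_apply, Ne.symm this]
        rw [h3]
        simp
        omega
      · by_cases hl2 : l = j0
        · subst hl2
          simp [hl]
          omega
        · have h3 : (Finsupp.single j0 1 : σ →₀ ℕ) l = 0 := by
            simp [Finsupp.single_apply, Ne.symm hl2]
          rw [h3]
          simp [hl]
          omega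
    · funext l
      rw [zv_apply, toN_apply, Pi.add_apply]
      have h1 := hn' l
      have h2 := hα' l
      by_cases hl : l = i0
      · subst hl
        simp
        omega
      · simp [hl]
        omega
    · intro h
      apply hγ'E
      apply exps_of_le I h.2
      intro l
      rw [toN_apply, toN_apply, Pi.add_apply]
      by_cases hl : l = i0
      · subst hl
        rw [Pi.single_eq_same]
        omega
      · simp [hl]
  apply badPt_segment I α γ' i0 (-1) (Or.inr rfl) L hdown
  have hendmem := hdown L le_rfl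
  by_cases hcase : m + 1 ≤ a0
  · have hLm : L = m + 1 := min_eq_left hcase
    apply badPt_of_not_nn I α hendmem
    intro hnn
    have := hnn i0
    rw [Pi.add_apply, Pi.single_eq_same, hγ'i0, hLm] at this
    push_cast at this
    omega
  · have hLa : L = a0 := min_eq_right (by omega)
    apply IH (m - a0) (by omega) _ hendmem
    · intro l
      rw [Pi.add_apply]
      by_cases hl : l = i0
      · subst hl
        rw [hγ'i0, hLa]
        simp
        omega
      · simp [hl]; exact hn' l
    · rw [Pi.add_apply, hγ'i0, hLa]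
      simp
      omega


include hI in
theorem tPiece_eq_bot_of_nonpos_two_neg [Module.Finite k (MvPolynomial σ k ⧸ I)]
    (hα' : ∀ i, α i ≤ 0) (i0 j0 : σ) (hij : i0 ≠ j0) (hi0 : α i0 < 0) (hj0 : α j0 < 0) :
    tPiece I α = ⊥ := by
  haveI : IsEmpty (GoodComp I α) :=
    isEmpty_goodComp_of_forall_badPt I α
      (fun γ hγ _ => badPt_of_nonpos_two_neg I hI α hα' i0 j0 hij hi0 hj0 γ hγ)
  exact tPiece_eq_bot_of_isEmpty I hI α

/-- If the variable `x_{i0}` lies in `I` and `α` is negative at `i0` and at another index, every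
nonnegative region point reaches a point with a negative coordinate. -/
theorem badPt_of_var_mem (i0 j0 : σ) (hij : i0 ≠ j0) (hx : Finsupp.single i0 1 ∈ exps I)
    (hi0 : α i0 < 0) (hj0 : α j0 < 0) : ∀ γ ∈ region I α, nn γ → BadPt I α γ := by
  intro γ hγ hn
  have hγE : toN γ ∉ exps I := fun h => hγ.2 ⟨hn, h⟩
  obtain ⟨β, hβ, hβγ⟩ := hγ.1
  have hβl : ∀ l, γ l = (β l : ℤ) + α l := fun l => congrFun hβγ l
  set L := (γ j0).toNat + 1 with hL
  have hγj : ((γ j0).toNat : ℤ) = γ j0 := Int.toNat_of_nonneg (hn j0)
  have hdown : ∀ s : ℕ, s ≤ L → γ + Pi.single j0 ((-1:ℤ) * (s : ℤ)) ∈ region I α := by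
    intro s hs
    refine mem_region.mpr ⟨⟨toN (fun l => γ l + (Pi.single j0 ((-1:ℤ) * (s : ℤ)) : σ → ℤ) l - α l),
      ?_, ?_⟩, ?_⟩
    · apply exps_of_le I hx
      intro l
      rw [toN_apply]
      by_cases hl : l = i0
      · subst hl
        have h1 := hβl l
        have h2 := hn l
        have : ¬ l = j0 := hij
        simp [this]
        omega
      · have : ¬ i0 = l := fun h => hl h.symm
        simp [this]
    · funext l
      rw [zv_apply, toN_apply, Pi.add_apply]
      have h1 := hβl l
      have h2 := hn l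
      by_cases hl : l = j0
      · subst hl
        simp
        omega
      · simp [hl]
        omega
    · intro h
      apply hγE
      apply exps_of_le I h.2
      intro l
      rw [toN_apply, toN_apply, Pi.add_apply]
      by_cases hl : l = j0
      · subst hl
        rw [Pi.single_eq_same]
        omega
      · simp [hl]
  apply badPt_segment I α γ j0 (-1) (Or.inr rfl) L hdown
  apply badPt_of_not_nn I α (hdown L le_rfl)
  intro hnn
  have := hnn j0
  rw [Pi.add_apply, Pi.single_eq_same, hL] at this
  push_cast at this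
  omega

include hI in
theorem tPiece_eq_bot_of_var_mem (i0 j0 : σ) (hij : i0 ≠ j0) (hx : Finsupp.single i0 1 ∈ exps I)
    (hi0 : α i0 < 0) (hj0 : α j0 < 0) : tPiece I α = ⊥ := by
  haveI : IsEmpty (GoodComp I α) :=
    isEmpty_goodComp_of_forall_badPt I α (badPt_of_var_mem I α i0 j0 hij hx hi0 hj0)
  exact tPiece_eq_bot_of_isEmpty I hI α

include hI in
/-- If `x_{i0} ∈ I` and `α` is positive at `i0`, then `T(I)_α = 0`. -/
theorem tPiece_eq_bot_of_var_mem_pos (i0 : σ) (hx : Finsupp.single i0 1 ∈ exps I)
    (hi0 : 0 < α i0) : tPiece I α = ⊥ := by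
  haveI : IsEmpty (GoodComp I α) := by
    apply isEmpty_goodComp_of_forall_badPt
    intro γ hγ hn
    exfalso
    apply hγ.2
    refine ⟨hn, exps_of_le I hx ?_⟩
    obtain ⟨β, hβ, hβγ⟩ := hγ.1
    have h1 : γ i0 = (β i0 : ℤ) + α i0 := congrFun hβγ i0
    intro l
    show Finsupp.single i0 1 l ≤ toN γ l
    rw [toN_apply]
    by_cases hl : l = i0
    · subst hl
      simp
      omega
    · have : ¬ i0 = l := fun h => hl h.symm
      simp [this]
  exact tPiece_eq_bot_of_isEmpty I hI α

end vanish2

end Groth.Agent.MonoTgt9
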