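import Mathlib
import Groth.Prelude.Def_W4c1hilbpnTgt
import Groth.Agent.Lib.MonoTgt8_helper9

/-! Tangent spaces of monomial ideals (helper9), part 9: three-variable exponent arithmetic and
strongly stable ideals not containing `x`.
APPEND-ONLY once landed. -/

set_option linter.unusedSectionVars false
set_option linter.style.haveILetI false

open MvPolynomial W4c1hilbpn

namespace Groth.Agent.MonoTgt9

variable {k : Type*} [Field k]

theorem e3_add_single0 (a b c t : ℕ) : e3 a b c + Finsupp.single 0 t = e3 (a + t) b c := by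
  ext i
  fin_cases i
  · show (e3 a b c + Finsupp.single 0 t : Fin 3 →₀ ℕ) 0 = e3 (a + t) b c 0
    rw [Finsupp.add_apply, e3_apply0, e3_apply0]; simp
  · show (e3 a b c + Finsupp.single 0 t : Fin 3 →₀ ℕ) 1 = e3 (a + t) b c 1
    rw [Finsupp.add_apply, e3_apply1, e3_apply1]; simp
  · show (e3 a b c + Finsupp.single 0 t : Fin 3 →₀ ℕ) 2 = e3 (a + t) b c 2
    rw [Finsupp.add_apply, e3_apply2, e3_apply2]; simp

theorem e3_add_single1 (a b c t : ℕ) : e3 a b c + Finsupp.single 1 t = e3 a (b + t) c := by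
  ext i
  fin_cases i
  · show (e3 a b c + Finsupp.single 1 t : Fin 3 →₀ ℕ) 0 = e3 a (b + t) c 0
    rw [Finsupp.add_apply, e3_apply0, e3_apply0]; simp
  · show (e3 a b c + Finsupp.single 1 t : Fin 3 →₀ ℕ) 1 = e3 a (b + t) c 1
    rw [Finsupp.add_apply, e3_apply1, e3_apply1]; simp
  · show (e3 a b c + Finsupp.single 1 t : Fin 3 →₀ ℕ) 2 = e3 a (b + t) c 2
    rw [Finsupp.add_apply, e3_apply2, e3_apply2]; simp

theorem e3_add_single2 (a b c t : ℕ) : e3 a b c + Finsupp.single 2 t = e3 a b (c + t) := by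
  ext i
  fin_cases i
  · show (e3 a b c + Finsupp.single 2 t : Fin 3 →₀ ℕ) 0 = e3 a b (c + t) 0
    rw [Finsupp.add_apply, e3_apply0, e3_apply0]; simp
  · show (e3 a b c + Finsupp.single 2 t : Fin 3 →₀ ℕ) 1 = e3 a b (c + t) 1
    rw [Finsupp.add_apply, e3_apply1, e3_apply1]; simp
  · show (e3 a b c + Finsupp.single 2 t : Fin 3 →₀ ℕ) 2 = e3 a b (c + t) 2
    rw [Finsupp.add_apply, e3_apply2, e3_apply2]; simp

theorem e3_100 : e3 1 0 0 = Finsupp.single 0 1 := by
  have := e3_add_single0 0 0 0 1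
  have h0 : e3 0 0 0 = 0 := by
    ext i
    fin_cases i
    · exact e3_apply0 0 0 0
    · exact e3_apply1 0 0 0
    · exact e3_apply2 0 0 0
  rw [h0, zero_add, zero_add] at this
  exact this.symm

theorem e3_000 : e3 0 0 0 = 0 := by
  ext i
  fin_cases i
  · exact e3_apply0 0 0 0
  · exact e3_apply1 0 0 0
  · exact e3_apply2 0 0 0

section ss
variable (I : Ideal (MvPolynomial (Fin 3) k)) (hI : IsStronglyStable I)

include hI in
theorem ss_yx {a b c : ℕ} (h : e3 a (b + 1) c ∈ exps I) : e3 (a + 1) b c ∈ exps I := by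
  have := hI.2 _ h 0 1 (by decide) (by rw [e3_apply1]; omega)
  rwa [e3_sub_single1, e3_add_single0, Nat.add_sub_cancel] at this

include hI in
theorem ss_zx {a b c : ℕ} (h : e3 a b (c + 1) ∈ exps I) : e3 (a + 1) b c ∈ exps I := by
  have := hI.2 _ h 0 2 (by decide) (by rw [e3_apply2]; omega)
  rwa [e3_sub_single2, e3_add_single0, Nat.add_sub_cancel] at this

include hI in
theorem ss_zy {a b c : ℕ} (h : e3 a b (c + 1) ∈ exps I) : e3 a (b + 1) c ∈ exps I := by
  have := hI.2 _ h 1 2 (by decide) (by rw [e3_apply2]; omega)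
  rwa [e3_sub_single2, e3_add_single1, Nat.add_sub_cancel] at this

include hI in
/-- A strongly stable ideal of finite colength not containing `x` has minimal generators
`x y^a`, `x z^b`, `y z^c` with `a, b, c ≥ 1`. -/
theorem ss_gens [Module.Finite k (MvPolynomial (Fin 3) k ⧸ I)] (hx : e3 1 0 0 ∉ exps I) :
    ∃ a b c : ℕ, 0 < a ∧ 0 < b ∧ 0 < c ∧
      (e3 1 a 0 ∈ exps I ∧ e3 (1 - 1) a 0 ∉ exps I ∧ e3 1 (a - 1) 0 ∉ exps I) ∧
      (e3 1 0 b ∈ exps I ∧ e3 (1 - 1) 0 b ∉ exps I ∧ e3 1 0 (b - 1) ∉ exps I) ∧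
      (e3 0 1 c ∈ exps I ∧ e3 0 (1 - 1) c ∉ exps I ∧ e3 0 1 (c - 1) ∉ exps I) := by
  classical
  have hmono := hI.1
  have h1 : e3 0 0 0 ∉ exps I := fun h => hx (exps_of_le I h (e3_le_e3 (by omega) le_rfl le_rfl))
  have hy : e3 0 1 0 ∉ exps I := fun h => hx (ss_yx I hI h)
  have hz : e3 0 0 1 ∉ exps I := fun h => hx (ss_zx I hI h)
  -- B
  have hexB : ∃ t, e3 0 t 0 ∈ exps I := by
    obtain ⟨t, ht⟩ := exists_add_single_mem I hmono (e3 0 0 0) 1
    rw [e3_add_single1, zero_add] at ht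
    exact ⟨t, ht⟩
  have hexC : ∃ t, e3 0 0 t ∈ exps I := by
    obtain ⟨t, ht⟩ := exists_add_single_mem I hmono (e3 0 0 0) 2
    rw [e3_add_single2, zero_add] at ht
    exact ⟨t, ht⟩
  set B := Nat.find hexB with hBdef
  set C := Nat.find hexC with hCdef
  have hBE : e3 0 B 0 ∈ exps I := Nat.find_spec hexB
  have hCE : e3 0 0 C ∈ exps I := Nat.find_spec hexC
  have hBmin : ∀ t, t < B → e3 0 t 0 ∉ exps I := fun t ht => Nat.find_min hexB ht
  have hCmin : ∀ t, t < C → e3 0 0 t ∉ exps I := fun t ht => Nat.find_min hexC ht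
  have hB2 : 2 ≤ B := by
    by_contra hc
    have : B = 0 ∨ B = 1 := by omega
    rcases this with h | h
    · rw [h] at hBE; exact h1 hBE
    · rw [h] at hBE; exact hy hBE
  have hC2 : 2 ≤ C := by
    by_contra hc
    have : C = 0 ∨ C = 1 := by omega
    rcases this with h | h
    · rw [h] at hCE; exact h1 hCE
    · rw [h] at hCE; exact hz hCE
  have hxyB : e3 1 (B - 1) 0 ∈ exps I := by
    have : e3 0 ((B - 1) + 1) 0 ∈ exps I := by rw [Nat.sub_add_cancel (by omega)]; exact hBE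
    exact ss_yx I hI this
  have hxzC : e3 1 0 (C - 1) ∈ exps I := by
    have : e3 0 0 ((C - 1) + 1) ∈ exps I := by rw [Nat.sub_add_cancel (by omega)]; exact hCE
    exact ss_zx I hI this
  have hyzC : e3 0 1 (C - 1) ∈ exps I := by
    have : e3 0 0 ((C - 1) + 1) ∈ exps I := by rw [Nat.sub_add_cancel (by omega)]; exact hCE
    exact ss_zy I hI this
  have hexa : ∃ t, e3 1 t 0 ∈ exps I := ⟨_, hxyB⟩
  have hexb : ∃ t, e3 1 0 t ∈ exps I := ⟨_, hxzC⟩
  have hexc : ∃ t, e3 0 1 t ∈ exps I := ⟨_, hyzC⟩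
  set a := Nat.find hexa with hadef
  set b := Nat.find hexb with hbdef
  set c := Nat.find hexc with hcdef
  have haE : e3 1 a 0 ∈ exps I := Nat.find_spec hexa
  have hbE : e3 1 0 b ∈ exps I := Nat.find_spec hexb
  have hcE : e3 0 1 c ∈ exps I := Nat.find_spec hexc
  have hale : a ≤ B - 1 := Nat.find_min' hexa hxyB
  have hble : b ≤ C - 1 := Nat.find_min' hexb hxzC
  have hcle : c ≤ C - 1 := Nat.find_min' hexc hyzC
  have ha0 : 0 < a := by
    rcases Nat.eq_zero_or_pos a with h | h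
    · rw [h] at haE; exact absurd haE hx
    · exact h
  have hb0 : 0 < b := by
    rcases Nat.eq_zero_or_pos b with h | h
    · rw [h] at hbE; exact absurd hbE hx
    · exact h
  have hc0 : 0 < c := by
    rcases Nat.eq_zero_or_pos c with h | h
    · rw [h] at hcE; exact absurd hcE hy
    · exact h
  refine ⟨a, b, c, ha0, hb0, hc0, ⟨haE, ?_, ?_⟩, ⟨hbE, ?_, ?_⟩, ⟨hcE, ?_, ?_⟩⟩
  · exact hBmin a (by omega)
  · exact Nat.find_min hexa (by omega)
  · exact hCmin b (by omega)
  · exact Nat.find_min hexb (by omega)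
  · exact hCmin c (by omega)
  · exact Nat.find_min hexc (by omega)

end ss

end Groth.Agent.MonoTgt9
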