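import Mathlib
import Groth.Prelude.Def_W4c1hilbpnTgt
import Groth.Agent.Lib.MonoTgt9_helper9

/-! Tangent spaces of monomial ideals (helper9), part 10: isolated vertices; powers of the irrelevant
ideal (S13435).
APPEND-ONLY once landed. -/

set_option linter.unusedSectionVars false
set_option linter.style.haveILetI false

open MvPolynomial W4c1hilbpn

namespace Groth.Agent.MonoTgt9

variable {σ : Type*} {k : Type*} [Field k] [Fintype σ] [DecidableEq σ]

section general
variable (I : Ideal (MvPolynomial σ k)) (hI : IsMonomial I) (α : σ → ℤ)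

theorem finite_goodComp' [Finite {β : σ →₀ ℕ // β ∉ exps I}] : Finite (GoodComp I α) := by
  let f : GoodComp I α → {β : σ →₀ ℕ // β ∉ exps I} := fun K =>
    ⟨toN (Quot.out K.1).1, not_exps_of_nn I α _ (K.2 _ (Quot.out_eq K.1))⟩
  apply Finite.of_injective f
  intro K K' h
  have h1 : toN (Quot.out K.1).1 = toN (Quot.out K'.1).1 := congrArg Subtype.val h
  have h2 : (Quot.out K.1).1 = (Quot.out K'.1).1 :=
    toN_inj (K.2 _ (Quot.out_eq K.1)) (K'.2 _ (Quot.out_eq K'.1)) h1
  have h3 : Quot.out K.1 = Quot.out K'.1 := Subtype.ext h2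
  apply Subtype.ext
  rw [← Quot.out_eq K.1, ← Quot.out_eq K'.1, h3]

theorem eq_of_reachable_of_isolated {v w : ↥(region I α)}
    (hiso : ∀ u, ¬ (RG I α).Adj v u) (h : (RG I α).Reachable v w) : v = w := by
  obtain ⟨p⟩ := h
  cases p with
  | nil => rfl
  | cons h _ => exact absurd h (hiso _)

/-- If all nonnegative vertices of the region are isolated, the good components are the nonnegative
vertices. -/
theorem good_of_isolated (v : ↥(region I α)) (hn : nn v.1) (hiso : ∀ u, ¬ (RG I α).Adj v u) :
    Good I α ((RG I α).connectedComponentMk v) := by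
  intro w hw
  have := eq_of_reachable_of_isolated I α hiso (SimpleGraph.ConnectedComponent.exact hw).symm
  rw [← this]; exact hn

end general

section powers
variable (r : ℕ) (α : σ → ℤ)

/-- The `r`-th power of the irrelevant ideal. -/
noncomputable abbrev mr (σ : Type*) (k : Type*) [Field k] (r : ℕ) : Ideal (MvPolynomial σ k) :=
  (Ideal.span (Set.range (MvPolynomial.X : σ → MvPolynomial σ k))) ^ r

theorem mem_exps_mr (β : σ →₀ ℕ) : β ∈ exps (mr σ k r) ↔ r ≤ β.degree :=
  monomial_mem_pow_idealOfVars_iff r β one_ne_zero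

theorem isMonomial_mr : IsMonomial (mr σ k r) := by
  intro p hp β hβ
  rw [mem_pow_idealOfVars_iff] at hp
  exact (mem_exps_mr r β).mpr (hp β hβ)

theorem finite_nonexps_mr : Finite {β : σ →₀ ℕ // β ∉ exps (mr σ k r)} := by
  let f : {β : σ →₀ ℕ // β ∉ exps (mr σ k r)} → (σ → Fin r) := fun β i =>
    ⟨β.1 i, by
      have h1 : β.1.degree < r := by
        have := β.2
        rw [mem_exps_mr] at this
        omega
      have h2 : β.1 i ≤ β.1.degree := by
        rw [Finsupp.degree_eq_sum]
        exact Finset.single_le_sum (f := fun i => β.1 i) (fun _ _ => Nat.zero_le _)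
          (Finset.mem_univ i)
      omega⟩
  apply Finite.of_injective f
  intro β β' h
  apply Subtype.ext
  ext i
  have := congrFun h i
  simp only [f, Fin.mk.injEq] at this
  exact this

/-- The sum of the entries. -/
def zsum (γ : σ → ℤ) : ℤ := ∑ i, γ i

theorem degree_toN {γ : σ → ℤ} (h : nn γ) : ((toN γ).degree : ℤ) = zsum γ := by
  rw [Finsupp.degree_eq_sum, zsum]
  push_cast
  apply Finset.sum_congr rfl
  intro i _
  exact coe_toN h i

theorem zsum_zv (β : σ →₀ ℕ) : zsum (zv β α) = (β.degree : ℤ) + zsum α := by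
  rw [Finsupp.degree_eq_sum, zsum, zsum]
  push_cast
  rw [← Finset.sum_add_distrib]
  rfl

theorem zsum_add_single (γ : σ → ℤ) (i : σ) (z : ℤ) : zsum (γ + Pi.single i z) = zsum γ + z := by
  rw [zsum, zsum]
  simp only [Pi.add_apply]
  rw [Finset.sum_add_distrib]
  congr 1
  rw [Finset.sum_eq_single i]
  · simp
  · intro j _ hj; simp [hj]
  · intro h; exact absurd (Finset.mem_univ i) h

theorem mem_region_mr {γ : σ → ℤ} :
    γ ∈ region (mr σ k r) α ↔
      (∃ β : σ →₀ ℕ, r ≤ β.degree ∧ γ = zv β α) ∧ ¬ (nn γ ∧ r ≤ (toN γ).degree) := by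
  rw [mem_region]
  constructor
  · rintro ⟨⟨β, hβ, rfl⟩, h2⟩
    exact ⟨⟨β, (mem_exps_mr r β).mp hβ, rfl⟩, fun h => h2 ⟨h.1, (mem_exps_mr r _).mpr h.2⟩⟩
  · rintro ⟨⟨β, hβ, rfl⟩, h2⟩
    exact ⟨⟨β, (mem_exps_mr r β).mpr hβ, rfl⟩, fun h => h2 ⟨h.1, (mem_exps_mr r _).mp h.2⟩⟩

/-- Membership in the region for vectors all of whose entries are at least those of `α`. -/
theorem mem_region_mr' {γ : σ → ℤ} :
    γ ∈ region (mr σ k r) α ↔
      ((∀ i, α i ≤ γ i) ∧ (r : ℤ) ≤ zsum γ - zsum α) ∧ ¬ (nn γ ∧ (r : ℤ) ≤ zsum γ) := by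
  rw [mem_region_mr]
  constructor
  · rintro ⟨⟨β, hβ, rfl⟩, h2⟩
    refine ⟨⟨fun i => ?_, ?_⟩, fun h => h2 ⟨h.1, ?_⟩⟩
    · rw [zv_apply]; have := Int.natCast_nonneg (β i); omega
    · rw [zsum_zv]; have : (r : ℤ) ≤ β.degree := by exact_mod_cast hβ
      omega
    · have := degree_toN h.1
      have h3 := h.2
      omega
  · rintro ⟨⟨h1, h3⟩, h2⟩
    have hnn : nn (fun i => γ i - α i) := fun i => by
      show 0 ≤ γ i - α i
      have := h1 i; omega
    refine ⟨⟨toN (fun i => γ i - α i), ?_, ?_⟩, fun h => h2 ⟨h.1, ?_⟩⟩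
    · have := degree_toN hnn
      have h4 : zsum (fun i => γ i - α i) = zsum γ - zsum α := by
        rw [zsum, zsum, zsum, ← Finset.sum_sub_distrib]
      omega
    · funext i
      rw [zv_apply, coe_toN hnn i]
      ring
    · have := degree_toN h.1
      have h3 := h.2
      omega

theorem isEmpty_goodComp_mr_of_nonneg (hs : 0 ≤ zsum α) : IsEmpty (GoodComp (mr σ k r) α) := by
  apply isEmpty_goodComp_of_forall_badPt
  intro γ hγ hn
  exfalso
  rw [mem_region_mr'] at hγ
  apply hγ.2
  refine ⟨hn, ?_⟩
  have := hγ.1.2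
  omega

theorem badPt_mr_of_le_neg_two [Nontrivial σ] (hs : zsum α ≤ -2) :
    ∀ γ ∈ region (mr σ k r) α, nn γ → BadPt (mr σ k r) α γ := by
  classical
  -- a negative coordinate of α
  have hex : ∃ i0, α i0 < 0 := by
    by_contra hcon
    simp only [not_exists, not_lt] at hcon
    have : 0 ≤ zsum α := Finset.sum_nonneg (fun i _ => hcon i)
    omega
  obtain ⟨i0, hi0⟩ := hex
  obtain ⟨j0, hj0⟩ := exists_ne i0
  suffices H : ∀ m : ℕ, ∀ γ ∈ region (mr σ k r) α, nn γ → γ i0 = (m : ℤ) →
      BadPt (mr σ k r) α γ by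
    intro γ hγ hn
    exact H (γ i0).toNat γ hγ hn (Int.toNat_of_nonneg (hn i0)).symm
  -- one step down in direction i0
  have down : ∀ γ ∈ region (mr σ k r) α, nn γ → (r : ℤ) < zsum γ - zsum α →
      γ + Pi.single i0 (-1) ∈ region (mr σ k r) α := by
    intro γ hγ hn hlt
    rw [mem_region_mr'] at hγ ⊢
    refine ⟨⟨fun i => ?_, ?_⟩, ?_⟩
    · by_cases hi : i = i0
      · subst hi; simp; have := hn i; omega
      · simp [hi]; exact hγ.1.1 i
    · rw [zsum_add_single]; omega
    · intro h
      apply hγ.2
      refine ⟨hn, ?_⟩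
      have := h.2
      rw [zsum_add_single] at this
      omega
  have hadj : ∀ γ : σ → ℤ, (stepGraph σ).Adj γ (γ + Pi.single i0 (-1)) := by
    intro γ
    rw [stepGraph_adj_iff]
    refine ⟨i0, Or.inr ?_⟩
    funext l
    by_cases hl : l = i0
    · subst hl; simp
    · simp [hl]
  have hadj2 : ∀ γ : σ → ℤ, (stepGraph σ).Adj γ (γ + Pi.single j0 1) := by
    intro γ
    rw [stepGraph_adj_iff]
    exact ⟨j0, Or.inl rfl⟩
  intro m
  induction m with
  | zero =>
    intro γ hγ hn hm
    have hγ' := hγ
    rw [mem_region_mr'] at hγ'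
    have hlt : zsum γ < r := by
      by_contra hc
      exact hγ'.2 ⟨hn, not_lt.mp hc⟩
    by_cases hcase : (r : ℤ) < zsum γ - zsum α
    · have h1 := down γ hγ hn hcase
      apply badPt_of_adj _ α hγ (hadj γ)
      apply badPt_of_not_nn _ α h1
      intro hnn
      have := hnn i0
      simp [hm] at this
    · -- go up first
      have hup : γ + Pi.single j0 1 ∈ region (mr σ k r) α := by
        rw [mem_region_mr']
        refine ⟨⟨fun i => ?_, ?_⟩, ?_⟩
        · by_cases hi : i = j0
          · subst hi; simp; have := hγ'.1.1 i; omega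
          · simp [hi]; exact hγ'.1.1 i
        · rw [zsum_add_single]; have := hγ'.1.2; omega
        · intro h
          have := h.2
          rw [zsum_add_single] at this
          have := hγ'.1.2
          omega
      have hnup : nn (γ + Pi.single j0 1) := by
        intro l
        by_cases hl : l = j0
        · subst hl; simp; have := hn l; omega
        · simp [hl]; exact hn l
      apply badPt_of_adj _ α hγ (hadj2 γ)
      have h1 := down _ hup hnup (by rw [zsum_add_single]; have := hγ'.1.2; omega)
      apply badPt_of_adj _ α hup (hadj _)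
      apply badPt_of_not_nn _ α h1
      intro hnn
      have := hnn i0
      simp [hm, hj0.symm] at this
  | succ m IH =>
    intro γ hγ hn hm
    have hγ' := hγ
    rw [mem_region_mr'] at hγ'
    have hlt : zsum γ < r := by
      by_contra hc
      exact hγ'.2 ⟨hn, not_lt.mp hc⟩
    by_cases hcase : (r : ℤ) < zsum γ - zsum α
    · have h1 := down γ hγ hn hcase
      apply badPt_of_adj _ α hγ (hadj γ)
      apply IH _ h1
      · intro l
        by_cases hl : l = i0
        · subst hl; simp; omega
        · simp [hl]; exact hn l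
      · simp [hm]
    · have hup : γ + Pi.single j0 1 ∈ region (mr σ k r) α := by
        rw [mem_region_mr']
        refine ⟨⟨fun i => ?_, ?_⟩, ?_⟩
        · by_cases hi : i = j0
          · subst hi; simp; have := hγ'.1.1 i; omega
          · simp [hi]; exact hγ'.1.1 i
        · rw [zsum_add_single]; have := hγ'.1.2; omega
        · intro h
          have := h.2
          rw [zsum_add_single] at this
          have := hγ'.1.2
          omega
      have hnup : nn (γ + Pi.single j0 1) := by
        intro l
        by_cases hl : l = j0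
        · subst hl; simp; have := hn l; omega
        · simp [hl]; exact hn l
      apply badPt_of_adj _ α hγ (hadj2 γ)
      have h1 := down _ hup hnup (by rw [zsum_add_single]; have := hγ'.1.2; omega)
      apply badPt_of_adj _ α hup (hadj _)
      apply IH _ h1
      · intro l
        by_cases hl : l = i0
        · subst hl; simp [hj0.symm]; omega
        · by_cases hl2 : l = j0
          · subst hl2; simp [hl]; have := hn l; omega
          · simp [hl, hl2]; exact hn l
      · simp [hm, hj0.symm]

end powers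


section powers2
variable (r : ℕ) (α : σ → ℤ)

theorem isolated_mr (hs : zsum α = -1) (v : ↥(region (mr σ k r) α)) (hn : nn v.1) :
    ∀ u, ¬ (RG (mr σ k r) α).Adj v u := by
  intro u hadj
  have hadj' : (stepGraph σ).Adj v.1 u.1 := hadj
  rw [stepGraph_adj_iff] at hadj'
  have hv := (mem_region_mr' r α).mp v.2
  have hu := (mem_region_mr' r α).mp u.2
  have hvlt : zsum v.1 < r := by
    by_contra hc; exact hv.2 ⟨hn, not_lt.mp hc⟩
  obtain ⟨i, hi | hi⟩ := hadj'
  · apply hu.2
    refine ⟨?_, ?_⟩
    · intro l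
      rw [hi]
      by_cases hl : l = i
      · subst hl; simp; have := hn l; omega
      · simp [hl]; exact hn l
    · rw [hi, zsum_add_single]; have := hv.1.2; omega
  · have h1 : zsum v.1 = zsum u.1 + 1 := by rw [hi, zsum_add_single]
    have := hu.1.2
    omega

/-- The vector of negative parts of `α`. -/
noncomputable def negPart (α : σ → ℤ) : σ →₀ ℕ := toN (fun i => -α i)

theorem negPart_apply (i : σ) : negPart α i = (-α i).toNat := rfl

theorem degree_negPart : (negPart α).degree = ∑ i, (-α i).toNat := by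
  rw [Finsupp.degree_eq_sum]; rfl

theorem nn_zv_iff (β : σ →₀ ℕ) : nn (zv β α) ↔ negPart α ≤ β := by
  constructor
  · intro h i
    have := h i
    rw [zv_apply] at this
    rw [negPart_apply]
    omega
  · intro h i
    have := h i
    rw [negPart_apply] at this
    rw [zv_apply]
    omega

/-- For `Σ α = -1`, the good components of the region of `m^r` are the exponents of degree `r`
above the negative part of `α`. -/
theorem card_goodComp_mr (hs : zsum α = -1) :
    Nat.card (GoodComp (mr σ k r) α) =
      Nat.card {β : σ →₀ ℕ // β.degree = r ∧ negPart α ≤ β} := by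
  symm
  have hmem : ∀ β : {β : σ →₀ ℕ // β.degree = r ∧ negPart α ≤ β},
      zv β.1 α ∈ region (mr σ k r) α := by
    intro β
    rw [mem_region_mr]
    refine ⟨⟨β.1, β.2.1.ge, rfl⟩, ?_⟩
    intro h
    have h1 := degree_toN h.1
    rw [zsum_zv, hs, β.2.1] at h1
    have h2 : ((toN (zv β.1 α)).degree : ℤ) ≥ r := by exact_mod_cast h.2
    omega
  let f : {β : σ →₀ ℕ // β.degree = r ∧ negPart α ≤ β} → GoodComp (mr σ k r) α := fun β =>
    ⟨(RG (mr σ k r) α).connectedComponentMk ⟨zv β.1 α, hmem β⟩,
      good_of_isolated _ α _ ((nn_zv_iff α β.1).mpr β.2.2)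
        (isolated_mr r α hs _ ((nn_zv_iff α β.1).mpr β.2.2))⟩
  apply Nat.card_congr
  apply Equiv.ofBijective f
  constructor
  · intro β β' h
    have h1 : (RG (mr σ k r) α).connectedComponentMk ⟨zv β.1 α, hmem β⟩ =
        (RG (mr σ k r) α).connectedComponentMk ⟨zv β'.1 α, hmem β'⟩ := congrArg Subtype.val h
    have h2 := eq_of_reachable_of_isolated _ α
      (isolated_mr r α hs _ ((nn_zv_iff α β.1).mpr β.2.2))
      (SimpleGraph.ConnectedComponent.exact h1)
    exact Subtype.ext (zv_inj (congrArg Subtype.val h2))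
  · rintro ⟨K, hK⟩
    induction K using SimpleGraph.ConnectedComponent.ind with
    | h v =>
      have hn : nn v.1 := hK v rfl
      have hv := (mem_region_mr' r α).mp v.2
      have hspec := src_spec (mr σ k r) α v
      have hdeg : (src (mr σ k r) α v).degree = r := by
        have h1 := hv.1.2
        have h2 : zsum v.1 < r := by
          by_contra hc; exact hv.2 ⟨hn, not_lt.mp hc⟩
        rw [hspec, zsum_zv, hs] at h1 h2
        omega
      have hle : negPart α ≤ src (mr σ k r) α v := by
        rw [← nn_zv_iff, ← hspec]; exact hn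
      refine ⟨⟨src (mr σ k r) α v, hdeg, hle⟩, ?_⟩
      apply Subtype.ext
      show (RG (mr σ k r) α).connectedComponentMk _ = (RG (mr σ k r) α).connectedComponentMk v
      congr 1
      exact Subtype.ext hspec.symm

theorem card_degree_eq (m : ℕ) :
    Nat.card {δ : σ →₀ ℕ // δ.degree = m} = Nat.choose (Fintype.card σ + m - 1) m := by
  rw [Nat.subtype_card (Finset.univ.finsuppAntidiag m)]
  · rw [Finset.card_finsuppAntidiag_nat_eq_choose, Finset.card_univ]
  · intro δ
    rw [Finset.mem_finsuppAntidiag, Finsupp.degree_eq_sum]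
    simp

theorem card_degree_ge (a : σ →₀ ℕ) :
    Nat.card {β : σ →₀ ℕ // β.degree = r ∧ a ≤ β} =
      if a.degree ≤ r then Nat.choose (Fintype.card σ + (r - a.degree) - 1) (r - a.degree)
      else 0 := by
  split_ifs with h
  · rw [← card_degree_eq]
    apply Nat.card_congr
    refine ⟨fun β => ⟨β.1 - a, ?_⟩, fun δ => ⟨δ.1 + a, ?_, ?_⟩, ?_, ?_⟩
    · have h1 : (β.1 - a + a).degree = r := by rw [tsub_add_cancel_of_le β.2.2]; exact β.2.1
      rw [map_add] at h1
      omega
    · rw [map_add, δ.2]; omega
    · exact le_add_self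
    · intro β
      apply Subtype.ext
      exact tsub_add_cancel_of_le β.2.2
    · intro δ
      apply Subtype.ext
      exact add_tsub_cancel_right _ _
  · haveI : IsEmpty {β : σ →₀ ℕ // β.degree = r ∧ a ≤ β} := by
      constructor
      rintro ⟨β, hd, hle⟩
      apply h
      rw [← hd]
      obtain ⟨c, rfl⟩ := exists_add_of_le hle
      rw [map_add]
      exact Nat.le_add_right _ _
    exact Nat.card_of_isEmpty

/-- S13435 in general form. -/
theorem finrank_tPiece_mr [Nontrivial σ] :
    Module.finrank k ↥(tPiece (mr σ k r) α) =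
      if (∑ i, α i = -1 ∧ ∑ i, (-α i).toNat ≤ r)
        then Nat.choose (Fintype.card σ + r - (∑ i, (-α i).toNat) - 1) (Fintype.card σ - 1)
        else 0 := by
  haveI := finite_nonexps_mr (σ := σ) (k := k) r
  haveI := finite_goodComp' (mr σ k r) α
  have hmono := isMonomial_mr (σ := σ) (k := k) r
  by_cases hs : zsum α = -1
  · rw [finrank_tPiece _ hmono α, card_goodComp_mr r α hs, card_degree_ge, degree_negPart]
    have hs' : ∑ i, α i = -1 := hs
    by_cases hw : ∑ i, (-α i).toNat ≤ r
    · rw [if_pos hw, if_pos ⟨hs', hw⟩]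
      have hc : 1 ≤ Fintype.card σ := Fintype.card_pos
      set w := ∑ i, (-α i).toNat
      have e1 : Fintype.card σ + (r - w) - 1 = Fintype.card σ + r - w - 1 := by omega
      rw [e1]
      apply Nat.choose_symm_of_eq_add
      omega
    · rw [if_neg hw, if_neg (fun h => hw h.2)]
  · have hs' : ¬ (∑ i, α i = -1) := hs
    rw [if_neg (fun h => hs' h.1)]
    have hbot : tPiece (mr σ k r) α = ⊥ := by
      rcases lt_or_ge (zsum α) 0 with hneg | hnonneg
      · have hle : zsum α ≤ -2 := by omega
        haveI : IsEmpty (GoodComp (mr σ k r) α) :=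
          isEmpty_goodComp_of_forall_badPt _ α (badPt_mr_of_le_neg_two r α hle)
        exact tPiece_eq_bot_of_isEmpty _ hmono α
      · haveI := isEmpty_goodComp_mr_of_nonneg (σ := σ) (k := k) r α hnonneg
        exact tPiece_eq_bot_of_isEmpty _ hmono α
    rw [hbot]
    exact finrank_bot k _

end powers2

end Groth.Agent.MonoTgt9
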