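import Mathlib
import Groth.Prelude.Def_W4c1hilbpnTgt
import Groth.Agent.Lib.MonoTgt10_helper9

/-! Tangent spaces of monomial ideals (helper9), part 11: the multigraded pieces are independent;
dimensions of sums of pieces.
APPEND-ONLY once landed. -/

set_option linter.unusedSectionVars false
set_option linter.style.haveILetI false

open MvPolynomial W4c1hilbpn

namespace Groth.Agent.MonoTgt9

section linalg
variable {k : Type*} [Field k] {V : Type*} [AddCommGroup V] [Module k V]

theorem finrank_iSup_of_indep {ι : Type*} [Fintype ι] [DecidableEq ι] (p : ι → Submodule k V)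
    (h : iSupIndep p) [∀ i, Module.Finite k (p i)] :
    Module.finrank k ↥(⨆ i, p i) = ∑ i, Module.finrank k (p i) := by
  have e : (Π₀ i, p i) ≃ₗ[k] ↥(⨆ i, p i) :=
    ((LinearEquiv.ofInjective (DFinsupp.lsum ℕ fun i => (p i).subtype)
      h.dfinsupp_lsum_injective).restrictScalars k).trans
      (LinearEquiv.ofEq _ _ (Submodule.iSup_eq_range_dfinsupp_lsum p).symm)
  rw [← e.finrank_eq]
  exact Module.finrank_directSum k (fun i => ↥(p i))

theorem finrank_iSup_subtype {ι : Type*} [DecidableEq ι] (P : ι → Prop) (p : ι → Submodule k V)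
    (hind : iSupIndep p) (F : Finset ι) (hF : ∀ i, P i → p i ≠ ⊥ → i ∈ F) (hFP : ∀ i ∈ F, P i)
    [∀ i, Module.Finite k (p i)] :
    Module.finrank k ↥(⨆ i : {i // P i}, p i.1) = ∑ i ∈ F, Module.finrank k (p i) := by
  have h1 : (⨆ i : {i // P i}, p i.1) = ⨆ i : ↥F, p i.1 := by
    apply le_antisymm
    · apply iSup_le
      rintro ⟨i, hi⟩
      by_cases hb : p i = ⊥
      · show p i ≤ _
        rw [hb]; exact bot_le
      · exact le_iSup (fun j : ↥F => p j.1) ⟨i, hF i hi hb⟩
    · apply iSup_le
      rintro ⟨i, hi⟩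
      exact le_iSup (fun j : {i // P i} => p j.1) ⟨i, hFP i hi⟩
  rw [h1]
  have hind' : iSupIndep (fun i : ↥F => p i.1) := hind.comp Subtype.val_injective
  rw [finrank_iSup_of_indep (fun i : ↥F => p i.1) hind']
  exact Finset.sum_coe_sort F (fun i => Module.finrank k (p i))

end linalg

variable {σ : Type*} {k : Type*} [Field k] [Fintype σ] [DecidableEq σ]

section indep
variable (I : Ideal (MvPolynomial σ k)) (hI : IsMonomial I)

theorem eq_zero_of_cf_eq_zero (α : σ → ℤ) (φ : Tgt I) (hφ : φ ∈ tPiece I α)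
    (h : ∀ v, cf I hI α φ v = 0) : φ = 0 := by
  apply tgt_ext I hI
  intro β hβ
  rcases tPiece_val' I hI α φ hφ β hβ with ⟨h1, hv⟩ | ⟨_, hv⟩
  · rw [hv, h, zero_smul]; simp
  · rw [hv]; simp

/-- The coefficient function as a linear map. -/
noncomputable def cfL (α : σ → ℤ) : Tgt I →ₗ[k] (↥(region I α) → k) where
  toFun φ := cf I hI α φ
  map_add' φ ψ := by funext v; exact cf_add I hI α φ ψ v
  map_smul' a φ := by funext v; exact cf_smul I hI α a φ v

theorem cf_eq_zero_of_ne (α α' : σ → ℤ) (hne : α ≠ α') (φ : Tgt I) (hφ : φ ∈ tPiece I α')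
    (v : ↥(region I α)) : cf I hI α φ v = 0 := by
  by_cases hn : nn v.1
  · rw [cf_of_nn I hI α φ v hn]
    have hspec := src_spec I α v
    have h := (mem_tPiece_iff I α' φ).mp hφ (src I α v) (src_mem I α v)
    by_cases hn' : nn (zv (src I α v) α')
    · obtain ⟨a, ha⟩ := Submodule.mem_span_singleton.mp (h.1 hn')
      rw [← ha, map_smul, qc_mk I hI (not_exps_of_nn I α v hn)]
      classical
      rw [coeff_monomial, if_neg, smul_zero]
      intro heq
      apply hne
      have h2 : zv (src I α v) α' = v.1 := toN_inj hn' hn heq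
      rw [hspec] at h2
      funext i
      have := congrFun h2 i
      simp only [zv_apply] at this
      omega
    · rw [h.2 hn', map_zero]
  · exact cf_of_not_nn I hI α φ v hn

include hI in
/-- The multigraded pieces of `T(I)` are independent. -/
theorem iSupIndep_tPiece : iSupIndep (fun α : σ → ℤ => tPiece I α) := by
  rw [iSupIndep_iff_finsetSum_eq_zero_imp_eq_zero]
  intro s v hv hsum α hα
  apply eq_zero_of_cf_eq_zero I hI α (v α) (hv α hα)
  intro w
  have h1 := congrArg (fun φ => cfL I hI α φ w) hsum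
  simp only [map_sum, map_zero, Finset.sum_apply, Pi.zero_apply] at h1
  rw [Finset.sum_eq_single α] at h1
  · exact h1
  · intro α' hα' hne
    exact cf_eq_zero_of_ne I hI α α' (Ne.symm hne) (v α') (hv α' hα') w
  · intro h; exact absurd hα h

include hI in
theorem finite_tPiece [Finite {β : σ →₀ ℕ // β ∉ exps I}] (α : σ → ℤ) :
    Module.Finite k ↥(tPiece I α) := by
  haveI := finite_goodComp' I α
  exact Module.Finite.equiv (tPieceEquiv I hI α).symm

end indep

end Groth.Agent.MonoTgt9
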