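import Mathlib
import Groth.Prelude.Def_W4c1hilbpnTgt
import Groth.Agent.Lib.MonoTgt11_helper9

/-! Tangent spaces of monomial ideals (helper9), part 12: three variables, staircase numbers, and
components of regions for degrees `(a1, a2, c)` with `c < 0` (towards S13440).
APPEND-ONLY once landed. -/

set_option linter.unusedSectionVars false
set_option linter.style.haveILetI false

open MvPolynomial W4c1hilbpn

namespace Groth.Agent.MonoTgt9

variable {k : Type*} [Field k]

theorem e3_eta (γ : Fin 3 →₀ ℕ) : e3 (γ 0) (γ 1) (γ 2) = γ := by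
  ext i
  fin_cases i
  · exact e3_apply0 _ _ _
  · exact e3_apply1 _ _ _
  · exact e3_apply2 _ _ _

section stair
variable (I : Ideal (MvPolynomial (Fin 3) k)) (hI : IsMonomial I)
  [Module.Finite k (MvPolynomial (Fin 3) k ⧸ I)]

include hI in
theorem exists_e3_mem (i j : ℕ) : ∃ c, e3 i j c ∈ exps I := by
  obtain ⟨t, ht⟩ := exists_add_single_mem I hI (e3 i j 0) 2
  rw [e3_add_single2, zero_add] at ht
  exact ⟨t, ht⟩

include hI in
/-- `x^i y^j z^c ∈ I` iff `c` is at least the staircase number `b_{i,j}`. -/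
theorem e3_mem_iff_stairZ_le (i j z : ℕ) : e3 i j z ∈ exps I ↔ stairZ I i j ≤ z := by
  classical
  have hex := exists_e3_mem I hI i j
  set m := Nat.find hex with hm
  have hmE : e3 i j m ∈ exps I := Nat.find_spec hex
  have hiff : ∀ c, e3 i j c ∉ exps I ↔ c < m := by
    intro c
    constructor
    · intro h
      by_contra hc
      exact h (exps_of_le I hmE (e3_le_e3 le_rfl le_rfl (not_lt.mp hc)))
    · intro h
      exact Nat.find_min hex h
  have hcard : stairZ I i j = m := by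
    unfold stairZ
    rw [Nat.card_congr (Equiv.subtypeEquivRight hiff), Nat.card_congr Fin.equivSubtype.symm,
      Nat.card_eq_fintype_card, Fintype.card_fin]
  rw [hcard]
  constructor
  · intro h
    by_contra hc
    exact (hiff z).mpr (not_le.mp hc) h
  · intro h
    by_contra hc
    have := (hiff z).mp hc
    omega

include hI in
theorem stairZ_succ_left_le (i j : ℕ) : stairZ I (i + 1) j ≤ stairZ I i j := by
  rw [← e3_mem_iff_stairZ_le I hI]
  exact exps_of_le I ((e3_mem_iff_stairZ_le I hI i j _).mpr le_rfl)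
    (e3_le_e3 (Nat.le_succ i) le_rfl le_rfl)

include hI in
theorem stairZ_succ_right_le (i j : ℕ) : stairZ I i (j + 1) ≤ stairZ I i j := by
  rw [← e3_mem_iff_stairZ_le I hI]
  exact exps_of_le I ((e3_mem_iff_stairZ_le I hI i j _).mpr le_rfl)
    (e3_le_e3 le_rfl (Nat.le_succ j) le_rfl)

end stair


section samecomp
variable {σ : Type*} [Fintype σ] [DecidableEq σ] (I : Ideal (MvPolynomial σ k)) (α : σ → ℤ)

/-- Two integer vectors are region points in the same component. -/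
def SameComp (γ γ' : σ → ℤ) : Prop :=
  ∃ (h : γ ∈ region I α) (h' : γ' ∈ region I α),
    (RG I α).connectedComponentMk ⟨γ, h⟩ = (RG I α).connectedComponentMk ⟨γ', h'⟩

theorem SameComp.refl' {γ : σ → ℤ} (h : γ ∈ region I α) : SameComp I α γ γ := ⟨h, h, rfl⟩

theorem SameComp.trans' {γ γ' γ'' : σ → ℤ} (h1 : SameComp I α γ γ') (h2 : SameComp I α γ' γ'') :
    SameComp I α γ γ'' := by
  obtain ⟨a, b, e⟩ := h1
  obtain ⟨b', c, e'⟩ := h2
  exact ⟨a, c, e.trans e'⟩

theorem sameComp_of_adj {γ γ' : σ → ℤ} (h : γ ∈ region I α) (h' : γ' ∈ region I α)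
    (hadj : (stepGraph σ).Adj γ γ') : SameComp I α γ γ' :=
  ⟨h, h', SimpleGraph.ConnectedComponent.connectedComponentMk_eq_of_adj (G := RG I α) hadj⟩

theorem sameComp_segment (γ : σ → ℤ) (i : σ) (ε : ℤ) (hε : ε = 1 ∨ ε = -1) (L : ℕ)
    (h : ∀ s : ℕ, s ≤ L → γ + Pi.single i (ε * (s : ℤ)) ∈ region I α) :
    SameComp I α γ (γ + Pi.single i (ε * (L : ℤ))) := by
  induction L with
  | zero =>
    have h0 := h 0 le_rfl
    have e : γ + Pi.single i (ε * ((0:ℕ) : ℤ)) = γ := by simp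
    rw [e] at h0 ⊢
    exact SameComp.refl' I α h0
  | succ L ih =>
    have ih' := ih (fun s hs => h s (Nat.le_succ_of_le hs))
    exact ih'.trans' I α (sameComp_of_adj I α (h L (Nat.le_succ L)) (h (L + 1) le_rfl)
      (adj_single_mul γ i ε hε L))

end samecomp

section Wset
variable (I : Ideal (MvPolynomial (Fin 3) k)) (hI : IsMonomial I)
  [Module.Finite k (MvPolynomial (Fin 3) k ⧸ I)] (a1 a2 : ℕ)

/-- Points of the staircase, in the quadrant above `(a1, a2)`, that leave it by one step in the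
`x` and in the `y` direction. -/
def Wpt (γ : Fin 3 →₀ ℕ) : Prop :=
  γ ∉ exps I ∧ a1 ≤ γ 0 ∧ a2 ≤ γ 1 ∧ γ + Finsupp.single 0 1 ∈ exps I ∧
    γ + Finsupp.single 1 1 ∈ exps I

include hI in
theorem finite_Wpt : {γ : Fin 3 →₀ ℕ | Wpt I a1 a2 γ}.Finite := by
  haveI := finite_nonexps I hI
  have hΛ : {γ : Fin 3 →₀ ℕ | γ ∉ exps I}.Finite :=
    Set.finite_coe_iff.mp (inferInstanceAs (Finite {β : Fin 3 →₀ ℕ // β ∉ exps I}))
  exact hΛ.subset (fun γ h => h.1)

/-- The summand on the right-hand side of S13440. -/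
noncomputable def gfun (p : ℕ × ℕ) : ℕ :=
  if a1 ≤ p.1 ∧ a2 ≤ p.2
    then stairZ I p.1 p.2 - max (stairZ I (p.1 + 1) p.2) (stairZ I p.1 (p.2 + 1)) else 0

include hI in
theorem wpt_e3_iff (i j z : ℕ) : Wpt I a1 a2 (e3 i j z) ↔
    a1 ≤ i ∧ a2 ≤ j ∧ max (stairZ I (i + 1) j) (stairZ I i (j + 1)) ≤ z ∧ z < stairZ I i j := by
  unfold Wpt
  rw [e3_add_single0, e3_add_single1, e3_mem_iff_stairZ_le I hI, e3_mem_iff_stairZ_le I hI,
    e3_mem_iff_stairZ_le I hI, e3_apply0, e3_apply1, max_le_iff]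
  constructor
  · rintro ⟨h1, h2, h3, h4, h5⟩
    exact ⟨h2, h3, ⟨h4, h5⟩, not_le.mp h1⟩
  · rintro ⟨h2, h3, ⟨h4, h5⟩, h1⟩
    exact ⟨not_le.mpr h1, h2, h3, h4, h5⟩

open Classical in
include hI in
theorem card_fiber (p : ℕ × ℕ) :
    (((finite_Wpt I hI a1 a2).toFinset).filter (fun γ => (γ 0, γ 1) = p)).card =
      gfun I a1 a2 p := by
  obtain ⟨i, j⟩ := p
  unfold gfun
  split_ifs with hcond
  · rw [← Nat.card_Ico]
    symm
    apply Finset.card_bij (fun z _ => e3 i j z)
    · intro z hz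
      rw [Finset.mem_Ico] at hz
      rw [Finset.mem_filter, Set.Finite.mem_toFinset, Set.mem_setOf_eq, wpt_e3_iff I hI]
      exact ⟨⟨hcond.1, hcond.2, hz.1, hz.2⟩, by rw [e3_apply0, e3_apply1]⟩
    · intro z _ z' _ h
      have := congrArg (fun γ : Fin 3 →₀ ℕ => γ 2) h
      simpa [e3_apply2] using this
    · intro γ hγ
      rw [Finset.mem_filter, Set.Finite.mem_toFinset, Set.mem_setOf_eq] at hγ
      obtain ⟨hW, hp⟩ := hγ
      have h0 : γ 0 = i := congrArg Prod.fst hp
      have h1 : γ 1 = j := congrArg Prod.snd hp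
      have hγe : e3 i j (γ 2) = γ := by rw [← h0, ← h1]; exact e3_eta γ
      rw [← hγe, wpt_e3_iff I hI] at hW
      exact ⟨γ 2, Finset.mem_Ico.mpr ⟨hW.2.2.1, hW.2.2.2⟩, hγe⟩
  · rw [Finset.card_eq_zero, Finset.filter_eq_empty_iff]
    intro γ hγ hp
    rw [Set.Finite.mem_toFinset, Set.mem_setOf_eq] at hγ
    apply hcond
    have h0 : γ 0 = i := congrArg Prod.fst hp
    have h1 : γ 1 = j := congrArg Prod.snd hp
    exact ⟨h0 ▸ hγ.2.1, h1 ▸ hγ.2.2.1⟩

open Classical in
include hI in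
theorem card_W_eq_finsum :
    ((finite_Wpt I hI a1 a2).toFinset).card = ∑ᶠ p : ℕ × ℕ, gfun I a1 a2 p := by
  set W := (finite_Wpt I hI a1 a2).toFinset with hW
  let f : (Fin 3 →₀ ℕ) → ℕ × ℕ := fun γ => (γ 0, γ 1)
  have h1 : W.card = ∑ p ∈ W.image f, (W.filter (fun γ => f γ = p)).card :=
    Finset.card_eq_sum_card_fiberwise (fun x hx => Finset.mem_image_of_mem f hx)
  rw [h1, finsum_eq_sum_of_support_subset (s := W.image f)]
  · apply Finset.sum_congr rfl
    intro p _
    exact card_fiber I hI a1 a2 p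
  · intro p hp
    rw [Function.mem_support, ← card_fiber I hI a1 a2 p] at hp
    obtain ⟨γ, hγ⟩ := Finset.card_pos.mp (Nat.pos_of_ne_zero hp)
    rw [Finset.mem_filter] at hγ
    exact Finset.mem_coe.mpr (Finset.mem_image.mpr ⟨γ, hγ.1, hγ.2⟩)

end Wset

end Groth.Agent.MonoTgt9
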