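import Mathlib
import Groth.Prelude.Def_W4c1hilbpnTgt
import Groth.Agent.Lib.MonoTgt12_helper9

/-! Tangent spaces of monomial ideals (helper9), part 13: every bounded component of the region for a
degree `(a1, a2, c)`, `c < 0`, contains the bottom point of a maximal column (towards S13440).
APPEND-ONLY once landed. -/

set_option linter.unusedSectionVars false
set_option linter.style.haveILetI false

open MvPolynomial W4c1hilbpn

namespace Groth.Agent.MonoTgt9

variable {k : Type*} [Field k]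

section core3
variable (I : Ideal (MvPolynomial (Fin 3) k)) (hI : IsMonomial I)
  [Module.Finite k (MvPolynomial (Fin 3) k ⧸ I)] (a1 a2 : ℕ)

/-- The degree `(a1, a2, c)`. -/
def αc (c : ℤ) : Fin 3 → ℤ := fun l => if l = 0 then (a1 : ℤ) else if l = 1 then (a2 : ℤ) else c

theorem αc_0 (c : ℤ) : αc a1 a2 c 0 = a1 := by simp [αc]
theorem αc_1 (c : ℤ) : αc a1 a2 c 1 = a2 := by simp [αc]
theorem αc_2 (c : ℤ) : αc a1 a2 c 2 = c := by simp [αc]

theorem eq_αc (α : Fin 3 → ℤ) (h0 : α 0 = a1) (h1 : α 1 = a2) : α = αc a1 a2 (α 2) := by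
  funext l
  fin_cases l
  · show α 0 = αc a1 a2 (α 2) 0
    rw [αc_0, h0]
  · show α 1 = αc a1 a2 (α 2) 1
    rw [αc_1, h1]
  · show α 2 = αc a1 a2 (α 2) 2
    rw [αc_2]

/-- An exponent vector as an integer vector. -/
def zc (γ : Fin 3 →₀ ℕ) : Fin 3 → ℤ := fun i => (γ i : ℤ)

theorem nn_zc (γ : Fin 3 →₀ ℕ) : nn (zc γ) := fun i => Int.natCast_nonneg _

theorem toN_zc (γ : Fin 3 →₀ ℕ) : toN (zc γ) = γ := by
  ext i; simp [toN_apply, zc]

/-- `γ` is the lowest point of its column in the region of degree `(a1, a2, c)`. -/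
def IsBot (c : ℤ) (γ : Fin 3 →₀ ℕ) : Prop :=
  ∃ t0 : ℕ, (t0 : ℤ) = (γ 2 : ℤ) - c ∧ e3 (γ 0 - a1) (γ 1 - a2) t0 ∈ exps I ∧
    ∀ t < t0, e3 (γ 0 - a1) (γ 1 - a2) t ∉ exps I

theorem isBot_unique {c c' : ℤ} {γ : Fin 3 →₀ ℕ} (h : IsBot I a1 a2 c γ)
    (h' : IsBot I a1 a2 c' γ) : c = c' := by
  obtain ⟨t, ht, hE, hmin⟩ := h
  obtain ⟨t', ht', hE', hmin'⟩ := h'
  have : t = t' := by
    rcases lt_trichotomy t t' with hlt | heq | hgt
    · exact absurd hE (hmin' t hlt)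
    · exact heq
    · exact absurd hE' (hmin t' hgt)
  subst this
  omega

include hI in
theorem exists_bot (c : ℤ) (K : GoodComp I (αc a1 a2 c)) :
    ∃ γ : Fin 3 →₀ ℕ, Wpt I a1 a2 γ ∧ IsBot I a1 a2 c γ ∧
      ∃ h : zc γ ∈ region I (αc a1 a2 c),
        (RG I (αc a1 a2 c)).connectedComponentMk ⟨zc γ, h⟩ = K.1 := by
  classical
  haveI := finite_nonexps I hI
  have hΛ : {γ : Fin 3 →₀ ℕ | γ ∉ exps I}.Finite :=
    Set.finite_coe_iff.mp (inferInstanceAs (Finite {β : Fin 3 →₀ ℕ // β ∉ exps I}))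
  let Cols : Set (ℕ × ℕ) := {p | ∃ v : ↥(region I (αc a1 a2 c)),
    (RG I (αc a1 a2 c)).connectedComponentMk v = K.1 ∧ v.1 0 = (p.1 : ℤ) ∧ v.1 1 = (p.2 : ℤ)}
  have hfin : Cols.Finite := by
    apply (hΛ.image (fun γ : Fin 3 →₀ ℕ => (γ 0, γ 1))).subset
    rintro p ⟨v, hv, h0, h1⟩
    have hn := K.2 v hv
    refine ⟨toN v.1, not_exps_of_nn I (αc a1 a2 c) v hn, ?_⟩
    apply Prod.ext
    · show toN v.1 0 = p.1
      rw [toN_apply, h0]; simp
    · show toN v.1 1 = p.2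
      rw [toN_apply, h1]; simp
  have hv0 : (RG I (αc a1 a2 c)).connectedComponentMk (Quot.out K.1) = K.1 := Quot.out_eq K.1
  have hn0 : nn (Quot.out K.1).1 := K.2 _ hv0
  have hp0 : (((Quot.out K.1).1 0).toNat, ((Quot.out K.1).1 1).toNat) ∈ Cols :=
    ⟨Quot.out K.1, hv0, (Int.toNat_of_nonneg (hn0 0)).symm, (Int.toNat_of_nonneg (hn0 1)).symm⟩
  obtain ⟨⟨i, j⟩, -, hmax⟩ := hfin.exists_le_maximal hp0
  obtain ⟨v, hv, hvi, hvj⟩ := hmax.1
  simp only at hvi hvj
  have hn : nn v.1 := K.2 v hv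
  have hvE : toN v.1 ∉ exps I := not_exps_of_nn I (αc a1 a2 c) v hn
  have hβ : src I (αc a1 a2 c) v ∈ exps I := src_mem I (αc a1 a2 c) v
  have hspec : v.1 = zv (src I (αc a1 a2 c) v) (αc a1 a2 c) := src_spec I (αc a1 a2 c) v
  set β := src I (αc a1 a2 c) v with hβdef
  have hs0 : (β 0 : ℤ) + a1 = i := by
    have := congrFun hspec 0
    rw [zv_apply, hvi, αc_0] at this
    omega
  have hs1 : (β 1 : ℤ) + a2 = j := by
    have := congrFun hspec 1
    rw [zv_apply, hvj, αc_1] at this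
    omega
  have hs2 : (β 2 : ℤ) + c = v.1 2 := by
    have := congrFun hspec 2
    rw [zv_apply, αc_2] at this
    omega
  have hz : 0 ≤ v.1 2 := hn 2
  have hβe : e3 (i - a1) (j - a2) (β 2) = β := by
    have e0 : i - a1 = β 0 := by omega
    have e1 : j - a2 = β 1 := by omega
    rw [e0, e1]; exact e3_eta β
  have hex : ∃ t, e3 (i - a1) (j - a2) t ∈ exps I := ⟨β 2, by rw [hβe]; exact hβ⟩
  set t0 := Nat.find hex with ht0
  have ht0E : e3 (i - a1) (j - a2) t0 ∈ exps I := Nat.find_spec hex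
  have ht0min : ∀ t < t0, e3 (i - a1) (j - a2) t ∉ exps I := fun t ht => Nat.find_min hex ht
  have ht0le : t0 ≤ β 2 := Nat.find_min' hex (by rw [hβe]; exact hβ)
  -- the vertical segment
  have seg : ∀ s : ℕ, (t0 : ℤ) ≤ v.1 2 - s - c →
      v.1 + Pi.single 2 ((-1 : ℤ) * (s : ℤ)) ∈ region I (αc a1 a2 c) := by
    intro s hs
    refine mem_region.mpr ⟨⟨e3 (i - a1) (j - a2) (β 2 - s), ?_, ?_⟩, ?_⟩
    · exact exps_of_le I ht0E (e3_le_e3 le_rfl le_rfl (by omega))
    · funext l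
      fin_cases l
      · show (v.1 + Pi.single 2 ((-1 : ℤ) * (s : ℤ)) : Fin 3 → ℤ) 0 = zv (e3 (i - a1) (j - a2) (β 2 - s)) (αc a1 a2 c) 0
        rw [zv_apply, e3_apply0, αc_0, Pi.add_apply, hvi]
        simp
        omega
      · show (v.1 + Pi.single 2 ((-1 : ℤ) * (s : ℤ)) : Fin 3 → ℤ) 1 = zv (e3 (i - a1) (j - a2) (β 2 - s)) (αc a1 a2 c) 1
        rw [zv_apply, e3_apply1, αc_1, Pi.add_apply, hvj]
        simp
        omega
      · show (v.1 + Pi.single 2 ((-1 : ℤ) * (s : ℤ)) : Fin 3 → ℤ) 2 = zv (e3 (i - a1) (j - a2) (β 2 - s)) (αc a1 a2 c) 2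
        rw [zv_apply, e3_apply2, αc_2, Pi.add_apply, Pi.single_eq_same]
        omega
    · intro h
      apply hvE
      apply exps_of_le I h.2
      intro l
      rw [toN_apply, toN_apply, Pi.add_apply]
      by_cases hl : l = 2
      · subst hl
        rw [Pi.single_eq_same]
        omega
      · simp [hl]
  -- the bottom of the column is nonnegative
  have hbot : 0 ≤ (t0 : ℤ) + c := by
    by_contra hcon
    have hcon' : (t0 : ℤ) + c ≤ -1 := by omega
    have hbad : BadPt I (αc a1 a2 c) v.1 := by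
      apply badPt_segment I (αc a1 a2 c) v.1 2 (-1) (Or.inr rfl) ((v.1 2).toNat + 1)
      · intro s hs
        apply seg
        have := Int.toNat_of_nonneg hz
        omega
      · apply badPt_of_not_nn
        · apply seg
          have := Int.toNat_of_nonneg hz
          push_cast
          omega
        · intro hnn
          have := hnn 2
          rw [Pi.add_apply, Pi.single_eq_same] at this
          have h2 := Int.toNat_of_nonneg hz
          push_cast at this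
          omega
    obtain ⟨h, hb⟩ := hbad
    apply hb
    have : (⟨v.1, h⟩ : ↥(region I (αc a1 a2 c))) = v := Subtype.ext rfl
    rw [this, hv]
    exact K.2
  set L := (v.1 2 - (t0 + c)).toNat with hL
  have hLz : (L : ℤ) = v.1 2 - (t0 + c) := by
    apply Int.toNat_of_nonneg
    omega
  have hsame := sameComp_segment I (αc a1 a2 c) v.1 2 (-1) (Or.inr rfl) L (fun s hs => seg s (by omega))
  -- the bottom point
  set g := e3 i j ((t0 : ℤ) + c).toNat with hg
  have hg2 : ((g 2 : ℕ) : ℤ) = t0 + c := by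
    rw [hg, e3_apply2]; exact Int.toNat_of_nonneg hbot
  have hzc : zc g = v.1 + Pi.single 2 ((-1 : ℤ) * (L : ℤ)) := by
    funext l
    fin_cases l
    · show ((g 0 : ℕ) : ℤ) = (v.1 + Pi.single 2 ((-1 : ℤ) * (L : ℤ)) : Fin 3 → ℤ) 0
      rw [hg, e3_apply0, Pi.add_apply, hvi]; simp
    · show ((g 1 : ℕ) : ℤ) = (v.1 + Pi.single 2 ((-1 : ℤ) * (L : ℤ)) : Fin 3 → ℤ) 1
      rw [hg, e3_apply1, Pi.add_apply, hvj]; simp
    · show ((g 2 : ℕ) : ℤ) = (v.1 + Pi.single 2 ((-1 : ℤ) * (L : ℤ)) : Fin 3 → ℤ) 2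
      rw [hg2, Pi.add_apply, Pi.single_eq_same]
      omega
  rw [← hzc] at hsame
  obtain ⟨hvmem, hgmem, hcomp⟩ := hsame
  have hgK : (RG I (αc a1 a2 c)).connectedComponentMk ⟨zc g, hgmem⟩ = K.1 := by
    rw [← hcomp]
    have : (⟨v.1, hvmem⟩ : ↥(region I (αc a1 a2 c))) = v := Subtype.ext rfl
    rw [this, hv]
  have hgE : g ∉ exps I := by
    have := not_exps_of_nn I (αc a1 a2 c) ⟨zc g, hgmem⟩ (nn_zc g)
    rwa [toN_zc] at this
  have ha1 : a1 ≤ i := by omega
  have ha2 : a2 ≤ j := by omega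
  have hg0 : g 0 = i := by rw [hg, e3_apply0]
  have hg1 : g 1 = j := by rw [hg, e3_apply1]
  -- the neighbouring columns
  have hstep : ∀ (d : Fin 3) (i' j' : ℕ), (d = 0 ∧ i' = i + 1 ∧ j' = j) ∨ (d = 1 ∧ i' = i ∧ j' = j + 1) →
      g + Finsupp.single d 1 ∈ exps I := by
    intro d i' j' hd
    by_contra hne
    have hmem' : zc g + Pi.single d 1 ∈ region I (αc a1 a2 c) := by
      refine mem_region.mpr ⟨⟨e3 (i' - a1) (j' - a2) t0, ?_, ?_⟩, ?_⟩
      · apply exps_of_le I ht0E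
        apply e3_le_e3 _ _ le_rfl
        · rcases hd with ⟨_, h1, _⟩ | ⟨_, h1, _⟩ <;> omega
        · rcases hd with ⟨_, _, h1⟩ | ⟨_, _, h1⟩ <;> omega
      · funext l
        rcases hd with ⟨rfl, h1, h2⟩ | ⟨rfl, h1, h2⟩
        · fin_cases l
          · show (zc g + Pi.single 0 1 : Fin 3 → ℤ) 0 = zv (e3 (i' - a1) (j' - a2) t0) (αc a1 a2 c) 0
            rw [zv_apply, e3_apply0, αc_0, Pi.add_apply, Pi.single_eq_same]
            show ((g 0 : ℕ) : ℤ) + 1 = _
            rw [hg0]; omega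
          · show (zc g + Pi.single 0 1 : Fin 3 → ℤ) 1 = zv (e3 (i' - a1) (j' - a2) t0) (αc a1 a2 c) 1
            rw [zv_apply, e3_apply1, αc_1, Pi.add_apply]
            show ((g 1 : ℕ) : ℤ) + _ = _
            rw [hg1]; simp; omega
          · show (zc g + Pi.single 0 1 : Fin 3 → ℤ) 2 = zv (e3 (i' - a1) (j' - a2) t0) (αc a1 a2 c) 2
            rw [zv_apply, e3_apply2, αc_2, Pi.add_apply]
            show ((g 2 : ℕ) : ℤ) + _ = _
            rw [hg2]; simp
        · fin_cases l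
          · show (zc g + Pi.single 1 1 : Fin 3 → ℤ) 0 = zv (e3 (i' - a1) (j' - a2) t0) (αc a1 a2 c) 0
            rw [zv_apply, e3_apply0, αc_0, Pi.add_apply]
            show ((g 0 : ℕ) : ℤ) + _ = _
            rw [hg0]; simp; omega
          · show (zc g + Pi.single 1 1 : Fin 3 → ℤ) 1 = zv (e3 (i' - a1) (j' - a2) t0) (αc a1 a2 c) 1
            rw [zv_apply, e3_apply1, αc_1, Pi.add_apply, Pi.single_eq_same]
            show ((g 1 : ℕ) : ℤ) + 1 = _
            rw [hg1]; omega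
          · show (zc g + Pi.single 1 1 : Fin 3 → ℤ) 2 = zv (e3 (i' - a1) (j' - a2) t0) (αc a1 a2 c) 2
            rw [zv_apply, e3_apply2, αc_2, Pi.add_apply]
            show ((g 2 : ℕ) : ℤ) + _ = _
            rw [hg2]; simp
      · intro h
        apply hne
        have := h.2
        rwa [toN_add_single d (nn_zc g d), toN_zc] at this
    have hsc := sameComp_of_adj I (αc a1 a2 c) hgmem hmem' (by
      rw [stepGraph_adj_iff]; exact ⟨d, Or.inl rfl⟩)
    obtain ⟨h1, h2, hcomp2⟩ := hsc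
    have hcol : (i', j') ∈ Cols := by
      refine ⟨⟨zc g + Pi.single d 1, h2⟩, ?_, ?_, ?_⟩
      · rw [← hcomp2]
        exact hgK
      · show (zc g + Pi.single d 1 : Fin 3 → ℤ) 0 = (i' : ℤ)
        rw [Pi.add_apply]
        show ((g 0 : ℕ) : ℤ) + _ = _
        rw [hg0]
        rcases hd with ⟨rfl, h1, _⟩ | ⟨rfl, h1, _⟩
        · simp [h1]
        · simp [h1]
      · show (zc g + Pi.single d 1 : Fin 3 → ℤ) 1 = (j' : ℤ)
        rw [Pi.add_apply]
        show ((g 1 : ℕ) : ℤ) + _ = _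
        rw [hg1]
        rcases hd with ⟨rfl, _, h1⟩ | ⟨rfl, _, h1⟩
        · simp [h1]
        · simp [h1]
    have hle : ((i, j) : ℕ × ℕ) ≤ (i', j') := by
      rcases hd with ⟨_, h1, h2⟩ | ⟨_, h1, h2⟩
      · exact ⟨by show i ≤ i'; omega, by show j ≤ j'; omega⟩
      · exact ⟨by show i ≤ i'; omega, by show j ≤ j'; omega⟩
    have hge := hmax.2 hcol hle
    rcases hd with ⟨_, h1, h2⟩ | ⟨_, h1, h2⟩
    · have : i' ≤ i := hge.1
      omega
    · have : j' ≤ j := hge.2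
      omega
  refine ⟨g, ⟨hgE, by rw [hg0]; exact ha1, by rw [hg1]; exact ha2,
    hstep 0 (i + 1) j (Or.inl ⟨rfl, rfl, rfl⟩), hstep 1 i (j + 1) (Or.inr ⟨rfl, rfl, rfl⟩)⟩,
    ⟨t0, by rw [hg2]; ring, by rw [hg0, hg1]; exact ht0E, by rw [hg0, hg1]; exact ht0min⟩,
    hgmem, hgK⟩

end core3

end Groth.Agent.MonoTgt9
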