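import Mathlib
import Groth.Prelude.Def_W4c1hilbpnTgt
import Groth.Agent.Lib.MonoTgt13_helper9

/-! Tangent spaces of monomial ideals (helper9), part 14: the bound of S13440.
APPEND-ONLY once landed. -/

set_option linter.unusedSectionVars false
set_option linter.style.haveILetI false

open MvPolynomial W4c1hilbpn

namespace Groth.Agent.MonoTgt9

variable {k : Type*} [Field k]

section bound
variable (I : Ideal (MvPolynomial (Fin 3) k)) (hI : IsMonomial I)
  [Module.Finite k (MvPolynomial (Fin 3) k ⧸ I)] (a1 a2 : ℕ)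

theorem αc_injective : Function.Injective (αc a1 a2) := by
  intro c c' h
  have := congrFun h 2
  rwa [αc_2, αc_2] at this

open Classical in
/-- The bottom points for the degree `(a1, a2, c)`. -/
noncomputable def Wc (c : ℤ) : Finset (Fin 3 →₀ ℕ) :=
  ((finite_Wpt I hI a1 a2).toFinset).filter (IsBot I a1 a2 c)

open Classical in
include hI in
theorem card_goodComp_le (c : ℤ) :
    Nat.card (GoodComp I (αc a1 a2 c)) ≤ (Wc I hI a1 a2 c).card := by
  haveI := finite_goodComp I hI (αc a1 a2 c)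
  let f : GoodComp I (αc a1 a2 c) → ↥(Wc I hI a1 a2 c) := fun K =>
    ⟨Classical.choose (exists_bot I hI a1 a2 c K), by
      have h := Classical.choose_spec (exists_bot I hI a1 a2 c K)
      unfold Wc
      rw [Finset.mem_filter, Set.Finite.mem_toFinset]
      exact ⟨h.1, h.2.1⟩⟩
  have hf : Function.Injective f := by
    intro K K' h
    have h1 : Classical.choose (exists_bot I hI a1 a2 c K) =
        Classical.choose (exists_bot I hI a1 a2 c K') := congrArg Subtype.val h
    obtain ⟨hm, hK⟩ := (Classical.choose_spec (exists_bot I hI a1 a2 c K)).2.2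
    obtain ⟨hm', hK'⟩ := (Classical.choose_spec (exists_bot I hI a1 a2 c K')).2.2
    apply Subtype.ext
    rw [← hK, ← hK']
    congr 1
    apply Subtype.ext
    show zc _ = zc _
    rw [h1]
  have := Nat.card_le_card_of_injective f hf
  rwa [Nat.card_eq_fintype_card (α := ↥(Wc I hI a1 a2 c)), Fintype.card_coe] at this

include hI in
/-- A nonzero piece of degree `(a1, a2, c)` forces `- b_{0,0} ≤ c`. -/
theorem ge_of_tPiece_ne_bot (c : ℤ) (h : tPiece I (αc a1 a2 c) ≠ ⊥) :
    -(stairZ I 0 0 : ℤ) ≤ c := by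
  by_cases hemp : IsEmpty (GoodComp I (αc a1 a2 c))
  · exact absurd (tPiece_eq_bot_of_isEmpty I hI (αc a1 a2 c)) h
  · rw [not_isEmpty_iff] at hemp
    obtain ⟨K⟩ := hemp
    obtain ⟨γ, _, ⟨t0, ht0, _, hmin⟩, _⟩ := exists_bot I hI a1 a2 c K
    have hle : t0 ≤ stairZ I 0 0 := by
      by_contra hcon
      apply hmin (stairZ I 0 0) (not_le.mp hcon)
      apply exps_of_le I ((e3_mem_iff_stairZ_le I hI 0 0 _).mpr le_rfl)
      exact e3_le_e3 (Nat.zero_le _) (Nat.zero_le _) le_rfl
    have : (0 : ℤ) ≤ (γ 2 : ℤ) := Int.natCast_nonneg _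
    omega

open Classical in
include hI in
/-- S13440. -/
theorem finrank_iSup_le :
    Module.finrank k ↥(⨆ α : {α : Fin 3 → ℤ // α 0 = (a1 : ℤ) ∧ α 1 = (a2 : ℤ) ∧ α 2 < 0},
      tPiece I α.1) ≤ ∑ᶠ p : ℕ × ℕ, gfun I a1 a2 p := by
  haveI := finite_nonexps I hI
  haveI : ∀ α : Fin 3 → ℤ, Module.Finite k ↥(tPiece I α) := fun α => finite_tPiece I hI α
  set C0 : Finset ℤ := Finset.Icc (-(stairZ I 0 0 : ℤ)) (-1) with hC0
  have hsum := finrank_iSup_subtype (k := k)
    (fun α : Fin 3 → ℤ => α 0 = (a1 : ℤ) ∧ α 1 = (a2 : ℤ) ∧ α 2 < 0)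
    (fun α => tPiece I α) (iSupIndep_tPiece I hI) (C0.image (αc a1 a2))
    (by
      rintro α ⟨h0, h1, h2⟩ hne
      rw [eq_αc a1 a2 α h0 h1] at hne ⊢
      apply Finset.mem_image_of_mem
      rw [hC0, Finset.mem_Icc]
      exact ⟨ge_of_tPiece_ne_bot I hI a1 a2 _ hne, by omega⟩)
    (by
      intro α hα
      obtain ⟨c, hc, rfl⟩ := Finset.mem_image.mp hα
      rw [hC0, Finset.mem_Icc] at hc
      exact ⟨αc_0 a1 a2 c, αc_1 a1 a2 c, by rw [αc_2]; omega⟩)
  rw [hsum, Finset.sum_image (fun x _ y _ h => αc_injective a1 a2 h),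
    ← card_W_eq_finsum I hI a1 a2]
  calc ∑ c ∈ C0, Module.finrank k ↥(tPiece I (αc a1 a2 c))
      = ∑ c ∈ C0, Nat.card (GoodComp I (αc a1 a2 c)) := by
        apply Finset.sum_congr rfl
        intro c _
        haveI := finite_goodComp I hI (αc a1 a2 c)
        exact finrank_tPiece I hI (αc a1 a2 c)
    _ ≤ ∑ c ∈ C0, (Wc I hI a1 a2 c).card :=
        Finset.sum_le_sum (fun c _ => card_goodComp_le I hI a1 a2 c)
    _ = (C0.biUnion (Wc I hI a1 a2)).card := by
        rw [Finset.card_biUnion]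
        intro c _ c' _ hne
        rw [Function.onFun, Finset.disjoint_left]
        intro γ hγ hγ'
        unfold Wc at hγ hγ'
        rw [Finset.mem_filter] at hγ hγ'
        exact hne (isBot_unique I a1 a2 hγ.2 hγ'.2)
    _ ≤ ((finite_Wpt I hI a1 a2).toFinset).card := by
        apply Finset.card_le_card
        intro γ hγ
        obtain ⟨c, _, hc⟩ := Finset.mem_biUnion.mp hγ
        unfold Wc at hc
        exact (Finset.mem_filter.mp hc).1

end bound

end Groth.Agent.MonoTgt9
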