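import Mathlib
import Groth.Prelude.Def_W4c1hilbpnTgt
import Groth.Agent.Lib.MonoTgt14_helper9

/-! Tangent spaces of monomial ideals (helper9), part 15: binomial sums and the sign-pattern pieces
of `T(m^r)` in three variables (S13442).
APPEND-ONLY once landed. -/

set_option linter.unusedSectionVars false
set_option linter.style.haveILetI false

open MvPolynomial W4c1hilbpn

namespace Groth.Agent.MonoTgt9

section binom

/-- Upper-index Vandermonde: `∑_{k ≤ n} C(k, a) C(n - k, b) = C(n + 1, a + b + 1)`. -/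
theorem sum_choose_mul_choose (a : ℕ) : ∀ (n b : ℕ),
    ∑ k ∈ Finset.range (n + 1), Nat.choose k a * Nat.choose (n - k) b =
      Nat.choose (n + 1) (a + b + 1) := by
  intro n
  induction n with
  | zero =>
    intro b
    simp only [zero_add, Finset.range_one, Finset.sum_singleton, Nat.sub_zero]
    rcases Nat.eq_zero_or_pos a with ha | ha
    · subst ha
      rcases Nat.eq_zero_or_pos b with hb | hb
      · subst hb; simp
      · rw [Nat.choose_eq_zero_of_lt hb, Nat.choose_eq_zero_of_lt (show 1 < 0 + b + 1 by omega),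
          mul_zero]
    · rw [Nat.choose_eq_zero_of_lt ha, Nat.choose_eq_zero_of_lt (show 1 < a + b + 1 by omega),
        zero_mul]
  | succ n ih =>
    intro b
    rw [Finset.sum_range_succ]
    rw [Nat.sub_self]
    rcases Nat.eq_zero_or_pos b with hb | hb
    · subst hb
      have h1 : ∑ k ∈ Finset.range (n + 1), Nat.choose k a * Nat.choose (n + 1 - k) 0 =
          ∑ k ∈ Finset.range (n + 1), Nat.choose k a * Nat.choose (n - k) 0 := by
        apply Finset.sum_congr rfl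
        intro k _
        simp
      rw [h1, ih 0]
      simp only [Nat.choose_zero_right, mul_one, add_zero]
      rw [Nat.choose_succ_succ' (n + 1) a]
      ring
    · obtain ⟨b', rfl⟩ : ∃ b', b = b' + 1 := ⟨b - 1, by omega⟩
      have h1 : ∑ k ∈ Finset.range (n + 1), Nat.choose k a * Nat.choose (n + 1 - k) (b' + 1) =
          ∑ k ∈ Finset.range (n + 1), Nat.choose k a * Nat.choose (n - k) b' +
          ∑ k ∈ Finset.range (n + 1), Nat.choose k a * Nat.choose (n - k) (b' + 1) := by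
        rw [← Finset.sum_add_distrib]
        apply Finset.sum_congr rfl
        intro k hk
        rw [Finset.mem_range] at hk
        have : n + 1 - k = (n - k) + 1 := by omega
        rw [this, Nat.choose_succ_succ' (n - k) b']
        ring
      rw [h1, ih b', ih (b' + 1)]
      rw [Nat.choose_eq_zero_of_lt (Nat.succ_pos b'), mul_zero, add_zero]
      have : a + (b' + 1) + 1 = (a + b' + 1) + 1 := by ring
      rw [this, Nat.choose_succ_succ' (n + 1) (a + b' + 1)]

theorem sum_Icc_mul_choose (r : ℕ) :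
    ∑ w ∈ Finset.Icc 1 r, w * Nat.choose (r - w + 2) 2 = Nat.choose (r + 3) 4 := by
  have h := sum_choose_mul_choose 1 (r + 2) 2
  rw [← h]
  have h2 : ∑ k ∈ Finset.range (r + 2 + 1), Nat.choose k 1 * Nat.choose (r + 2 - k) 2 =
      ∑ k ∈ Finset.Icc 1 r, Nat.choose k 1 * Nat.choose (r + 2 - k) 2 := by
    symm
    apply Finset.sum_subset
    · intro k hk
      rw [Finset.mem_Icc] at hk
      rw [Finset.mem_range]; omega
    · intro k hk hk'
      rw [Finset.mem_range] at hk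
      rw [Finset.mem_Icc] at hk'
      by_cases h0 : k = 0
      · subst h0; simp
      · have : r < k := by omega
        rw [Nat.choose_eq_zero_of_lt (show r + 2 - k < 2 by omega), mul_zero]
  rw [h2]
  apply Finset.sum_congr rfl
  intro w hw
  rw [Finset.mem_Icc] at hw
  rw [Nat.choose_one_right]
  congr 2
  omega

theorem sum_Icc_pred_mul_choose (r : ℕ) :
    ∑ w ∈ Finset.Icc 2 r, (w - 1) * Nat.choose (r - w + 2) 2 = Nat.choose (r + 2) 4 := by
  rcases Nat.eq_zero_or_pos r with h0 | hpos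
  · subst h0; rfl
  obtain ⟨r', rfl⟩ : ∃ r', r = r' + 1 := ⟨r - 1, by omega⟩
  rw [← sum_Icc_mul_choose r']
  symm
  apply Finset.sum_bij (fun w _ => w + 1)
  · intro w hw
    rw [Finset.mem_Icc] at hw ⊢
    omega
  · intro w _ w' _ h
    omega
  · intro w hw
    rw [Finset.mem_Icc] at hw
    exact ⟨w - 1, by rw [Finset.mem_Icc]; omega, by omega⟩
  · intro w hw
    rw [Finset.mem_Icc] at hw
    have : r' + 1 - (w + 1) + 2 = r' - w + 2 := by omega
    rw [this, Nat.add_sub_cancel]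

theorem choose4_formula (n : ℕ) : 24 * Nat.choose (n + 3) 4 = (n + 3) * (n + 2) * (n + 1) * n := by
  have h4 := Nat.add_one_mul_choose_eq (n + 2) 3
  have h3 := Nat.add_one_mul_choose_eq (n + 1) 2
  have h2 := Nat.add_one_mul_choose_eq n 1
  rw [Nat.choose_one_right] at h2
  -- h4 : (n+3) * C(n+2,3) = C(n+3,4) * 4, h3 : (n+2) * C(n+1,2) = C(n+2,3) * 3, h2 : (n+1) * n = C(n+1,2) * 2
  have e3 : 6 * Nat.choose (n + 2) 3 = (n + 2) * (n + 1) * n := by
    calc 6 * Nat.choose (n + 2) 3 = 2 * (Nat.choose (n + 2) 3 * 3) := by ring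
      _ = 2 * ((n + 2) * Nat.choose (n + 1) 2) := by rw [← h3]
      _ = (n + 2) * (Nat.choose (n + 1) 2 * 2) := by ring
      _ = (n + 2) * ((n + 1) * n) := by rw [← h2]
      _ = (n + 2) * (n + 1) * n := by ring
  calc 24 * Nat.choose (n + 3) 4 = 6 * (Nat.choose (n + 3) 4 * 4) := by ring
    _ = 6 * ((n + 3) * Nat.choose (n + 2) 3) := by rw [← h4]
    _ = (n + 3) * (6 * Nat.choose (n + 2) 3) := by ring
    _ = (n + 3) * ((n + 2) * (n + 1) * n) := by rw [e3]
    _ = (n + 3) * (n + 2) * (n + 1) * n := by ring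

theorem choose2_formula (n : ℕ) : 2 * Nat.choose (n + 1) 2 = (n + 1) * n := by
  have h2 := Nat.add_one_mul_choose_eq n 1
  rw [Nat.choose_one_right] at h2
  rw [h2]; ring

theorem three_mul_add_three_mul (r : ℕ) :
    3 * Nat.choose (r + 3) 4 + 3 * Nat.choose (r + 2) 4 =
      Nat.choose (r + 2) 2 * Nat.choose (r + 1) 2 := by
  rcases Nat.eq_zero_or_pos r with h0 | hpos
  · subst h0; rfl
  obtain ⟨n, rfl⟩ : ∃ n, r = n + 1 := ⟨r - 1, by omega⟩
  apply Nat.eq_of_mul_eq_mul_left (show 0 < 24 by norm_num)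
  have k4a := choose4_formula (n + 1)
  have k4b := choose4_formula n
  have k2a := choose2_formula (n + 2)
  have k2b := choose2_formula (n + 1)
  calc 24 * (3 * Nat.choose (n + 1 + 3) 4 + 3 * Nat.choose (n + 1 + 2) 4)
      = 3 * (24 * Nat.choose (n + 1 + 3) 4) + 3 * (24 * Nat.choose (n + 3) 4) := by ring
    _ = 3 * ((n + 1 + 3) * (n + 1 + 2) * (n + 1 + 1) * (n + 1)) +
          3 * ((n + 3) * (n + 2) * (n + 1) * n) := by rw [k4a, k4b]
    _ = 6 * ((n + 2 + 1) * (n + 2)) * ((n + 1 + 1) * (n + 1)) := by ring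
    _ = 6 * (2 * Nat.choose (n + 2 + 1) 2) * (2 * Nat.choose (n + 1 + 1) 2) := by rw [k2a, k2b]
    _ = 24 * (Nat.choose (n + 1 + 2) 2 * Nat.choose (n + 1 + 1) 2) := by ring

end binom


section fin3

theorem fin3_ne1 (i : Fin 3) : i + 1 ≠ i := by fin_cases i <;> decide
theorem fin3_ne2 (i : Fin 3) : i + 2 ≠ i := by fin_cases i <;> decide
theorem fin3_ne12 (i : Fin 3) : i + 2 ≠ i + 1 := by fin_cases i <;> decide

theorem fin3_cases (i l : Fin 3) : l = i ∨ l = i + 1 ∨ l = i + 2 := by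
  fin_cases i <;> fin_cases l <;> decide

theorem sum_fin3 {M : Type*} [AddCommMonoid M] (i : Fin 3) (f : Fin 3 → M) :
    ∑ l, f l = f i + f (i + 1) + f (i + 2) := by
  rw [Fin.sum_univ_three]
  fin_cases i
  · rfl
  · show f 0 + f 1 + f 2 = f 1 + f 2 + f 0
    abel
  · show f 0 + f 1 + f 2 = f 2 + f 0 + f 1
    abel

theorem forall_fin3 (i : Fin 3) (P : Fin 3 → Prop) : (∀ l, P l) ↔ P i ∧ P (i + 1) ∧ P (i + 2) := by
  constructor
  · intro h; exact ⟨h _, h _, h _⟩
  · rintro ⟨h0, h1, h2⟩ l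
    rcases fin3_cases i l with rfl | rfl | rfl
    · exact h0
    · exact h1
    · exact h2

/-- The vector with entries `x, y, z` at positions `i, i+1, i+2`. -/
def vec3 (i : Fin 3) (x y z : ℤ) : Fin 3 → ℤ :=
  fun l => if l = i then x else if l = i + 1 then y else z

theorem vec3_0 (i : Fin 3) (x y z : ℤ) : vec3 i x y z i = x := by simp [vec3]
theorem vec3_1 (i : Fin 3) (x y z : ℤ) : vec3 i x y z (i + 1) = y := by
  simp [vec3, fin3_ne1 i]
theorem vec3_2 (i : Fin 3) (x y z : ℤ) : vec3 i x y z (i + 2) = z := by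
  simp [vec3, fin3_ne2 i, fin3_ne12 i]

theorem vec3_eta (i : Fin 3) (α : Fin 3 → ℤ) : α = vec3 i (α i) (α (i + 1)) (α (i + 2)) := by
  funext l
  rcases fin3_cases i l with rfl | rfl | rfl
  · rw [vec3_0]
  · rw [vec3_1]
  · rw [vec3_2]

theorem vec3_inj (i : Fin 3) {x y z x' y' z' : ℤ} (h : vec3 i x y z = vec3 i x' y' z') :
    x = x' ∧ y = y' ∧ z = z' := by
  refine ⟨?_, ?_, ?_⟩
  · have := congrFun h i; rwa [vec3_0, vec3_0] at this
  · have := congrFun h (i + 1); rwa [vec3_1, vec3_1] at this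
  · have := congrFun h (i + 2); rwa [vec3_2, vec3_2] at this

end fin3

section three_mr
variable {k : Type*} [Field k] (r : ℕ)

/-- The dimension of `T(m^r)_α` in three variables. -/
theorem finrank_tPiece_mr3 (α : Fin 3 → ℤ) :
    Module.finrank k ↥(tPiece (mr (Fin 3) k r) α) =
      if (∑ l, α l = -1 ∧ ∑ l, (-α l).toNat ≤ r)
        then Nat.choose (r - (∑ l, (-α l).toNat) + 2) 2 else 0 := by
  rw [finrank_tPiece_mr r α, Fintype.card_fin]
  split_ifs with h
  · congr 1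
    omega
  · rfl

theorem finrank_vec3 (i : Fin 3) (x y z : ℤ) (hs : x + y + z = -1)
    (w : ℕ) (hw : (-x).toNat + (-y).toNat + (-z).toNat = w) (hwr : w ≤ r) :
    Module.finrank k ↥(tPiece (mr (Fin 3) k r) (vec3 i x y z)) = Nat.choose (r - w + 2) 2 := by
  rw [finrank_tPiece_mr3]
  have h1 : ∑ l, vec3 i x y z l = -1 := by
    rw [sum_fin3 i, vec3_0, vec3_1, vec3_2]; exact hs
  have h2 : ∑ l, (-vec3 i x y z l).toNat = w := by
    rw [sum_fin3 i, vec3_0, vec3_1, vec3_2]; exact hw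
  rw [if_pos ⟨h1, by rw [h2]; exact hwr⟩, h2]

theorem cond_of_ne_bot (α : Fin 3 → ℤ) (h : tPiece (mr (Fin 3) k r) α ≠ ⊥) :
    ∑ l, α l = -1 ∧ ∑ l, (-α l).toNat ≤ r := by
  by_contra hcon
  apply h
  haveI := finite_nonexps_mr (σ := Fin 3) (k := k) r
  haveI := finite_tPiece (mr (Fin 3) k r) (isMonomial_mr r) α
  have := finrank_tPiece_mr3 (k := k) r α
  rw [if_neg hcon] at this
  exact Submodule.finrank_eq_zero.mp this

/-- The index set for the pattern negative exactly at `i`. -/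
def idx1 (r : ℕ) : Finset (Σ _ : ℕ, ℕ) := Finset.sigma (Finset.Icc 1 r) (fun w => Finset.range w)

/-- The index set for the pattern negative exactly off `i`. -/
def idx2 (r : ℕ) : Finset (Σ _ : ℕ, ℕ) :=
  Finset.sigma (Finset.Icc 2 r) (fun w => Finset.Icc 1 (w - 1))

def par1 (i : Fin 3) (p : Σ _ : ℕ, ℕ) : Fin 3 → ℤ :=
  vec3 i (-(p.1 : ℤ)) (p.2 : ℤ) ((p.1 : ℤ) - 1 - p.2)

def par2 (i : Fin 3) (p : Σ _ : ℕ, ℕ) : Fin 3 → ℤ :=
  vec3 i ((p.1 : ℤ) - 1) (-(p.2 : ℤ)) (-((p.1 : ℤ) - p.2))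

theorem par1_inj (i : Fin 3) : Function.Injective (par1 i) := by
  rintro ⟨w, t⟩ ⟨w', t'⟩ h
  obtain ⟨h1, h2, _⟩ := vec3_inj i h
  simp only at h1 h2
  have e1 : w = w' := by omega
  have e2 : t = t' := by omega
  subst e1; subst e2; rfl

theorem par2_inj (i : Fin 3) : Function.Injective (par2 i) := by
  rintro ⟨w, t⟩ ⟨w', t'⟩ h
  obtain ⟨h1, h2, _⟩ := vec3_inj i h
  simp only at h1 h2
  have e1 : w = w' := by omega
  have e2 : t = t' := by omega
  subst e1; subst e2; rfl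

/-- sign pattern exactly `{i}` -/
def Pat1 (i : Fin 3) (α : Fin 3 → ℤ) : Prop := α i < 0 ∧ 0 ≤ α (i + 1) ∧ 0 ≤ α (i + 2)

/-- sign pattern exactly `{i}ᶜ` -/
def Pat2 (i : Fin 3) (α : Fin 3 → ℤ) : Prop := 0 ≤ α i ∧ α (i + 1) < 0 ∧ α (i + 2) < 0

theorem pat1_iff (i : Fin 3) (α : Fin 3 → ℤ) :
    (∀ l, α l < 0 ↔ l ∈ ({i} : Set (Fin 3))) ↔ Pat1 i α := by
  rw [forall_fin3 i]
  unfold Pat1
  simp only [Set.mem_singleton_iff, fin3_ne1 i, fin3_ne2 i, iff_false, not_lt, iff_true]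

theorem pat2_iff (i : Fin 3) (α : Fin 3 → ℤ) :
    (∀ l, α l < 0 ↔ l ∈ ({i}ᶜ : Set (Fin 3))) ↔ Pat2 i α := by
  rw [forall_fin3 i]
  unfold Pat2
  simp only [Set.mem_compl_iff, Set.mem_singleton_iff, fin3_ne1 i, fin3_ne2 i, not_true_eq_false,
    iff_false, not_lt, not_false_eq_true, iff_true]

theorem pat1_par1 (i : Fin 3) (p : Σ _ : ℕ, ℕ) (hp : p ∈ idx1 r) : Pat1 i (par1 i p) := by
  obtain ⟨w, t⟩ := p
  simp only [idx1, Finset.mem_sigma, Finset.mem_Icc, Finset.mem_range] at hp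
  unfold Pat1 par1
  rw [vec3_0, vec3_1, vec3_2]
  simp only
  omega

theorem pat2_par2 (i : Fin 3) (p : Σ _ : ℕ, ℕ) (hp : p ∈ idx2 r) : Pat2 i (par2 i p) := by
  obtain ⟨w, t⟩ := p
  simp only [idx2, Finset.mem_sigma, Finset.mem_Icc] at hp
  unfold Pat2 par2
  rw [vec3_0, vec3_1, vec3_2]
  simp only
  omega

theorem finrank_par1 (i : Fin 3) (p : Σ _ : ℕ, ℕ) (hp : p ∈ idx1 r) :
    Module.finrank k ↥(tPiece (mr (Fin 3) k r) (par1 i p)) = Nat.choose (r - p.1 + 2) 2 := by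
  obtain ⟨w, t⟩ := p
  simp only [idx1, Finset.mem_sigma, Finset.mem_Icc, Finset.mem_range] at hp
  unfold par1
  apply finrank_vec3 r i _ _ _ (by simp only; ring) w _ hp.1.2
  simp only
  omega

theorem finrank_par2 (i : Fin 3) (p : Σ _ : ℕ, ℕ) (hp : p ∈ idx2 r) :
    Module.finrank k ↥(tPiece (mr (Fin 3) k r) (par2 i p)) = Nat.choose (r - p.1 + 2) 2 := by
  obtain ⟨w, t⟩ := p
  simp only [idx2, Finset.mem_sigma, Finset.mem_Icc] at hp
  unfold par2
  apply finrank_vec3 r i _ _ _ (by simp only; ring) w _ hp.1.2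
  simp only
  omega

theorem mem_image_par1 (i : Fin 3) (α : Fin 3 → ℤ) (hP : Pat1 i α)
    (hne : tPiece (mr (Fin 3) k r) α ≠ ⊥) : α ∈ (idx1 r).image (par1 i) := by
  obtain ⟨hs, hw⟩ := cond_of_ne_bot r α hne
  rw [sum_fin3 i] at hs hw
  obtain ⟨h0, h1, h2⟩ := hP
  rw [Finset.mem_image]
  refine ⟨⟨(-α i).toNat, (α (i + 1)).toNat⟩, ?_, ?_⟩
  · simp only [idx1, Finset.mem_sigma, Finset.mem_Icc, Finset.mem_range]
    omega
  · unfold par1
    conv_rhs => rw [vec3_eta i α]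
    simp only
    congr 1 <;> omega

theorem mem_image_par2 (i : Fin 3) (α : Fin 3 → ℤ) (hP : Pat2 i α)
    (hne : tPiece (mr (Fin 3) k r) α ≠ ⊥) : α ∈ (idx2 r).image (par2 i) := by
  obtain ⟨hs, hw⟩ := cond_of_ne_bot r α hne
  rw [sum_fin3 i] at hs hw
  obtain ⟨h0, h1, h2⟩ := hP
  rw [Finset.mem_image]
  refine ⟨⟨(-α (i + 1)).toNat + (-α (i + 2)).toNat, (-α (i + 1)).toNat⟩, ?_, ?_⟩
  · simp only [idx2, Finset.mem_sigma, Finset.mem_Icc]
    omega
  · unfold par2
    conv_rhs => rw [vec3_eta i α]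
    simp only
    congr 1 <;> omega

theorem sum_idx1 : ∑ p ∈ idx1 r, Nat.choose (r - p.1 + 2) 2 = Nat.choose (r + 3) 4 := by
  unfold idx1
  rw [Finset.sum_sigma, ← sum_Icc_mul_choose r]
  apply Finset.sum_congr rfl
  intro w _
  simp only
  rw [Finset.sum_const, Finset.card_range, smul_eq_mul]

theorem sum_idx2 : ∑ p ∈ idx2 r, Nat.choose (r - p.1 + 2) 2 = Nat.choose (r + 2) 4 := by
  unfold idx2
  rw [Finset.sum_sigma, ← sum_Icc_pred_mul_choose r]
  apply Finset.sum_congr rfl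
  intro w _
  simp only
  rw [Finset.sum_const, Nat.card_Icc, smul_eq_mul]
  congr 1

end three_mr

end Groth.Agent.MonoTgt9
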