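import Mathlib
import Groth.Prelude.Def_W4c1hilbpnTgt
import Groth.Agent.Lib.MonoTgt15_helper9

/-! Tangent spaces of monomial ideals (helper9), part 16: dimensions of the sign-pattern pieces of
`T(m^r)` in three variables (S13442).
APPEND-ONLY once landed. -/

set_option linter.unusedSectionVars false
set_option linter.style.haveILetI false

open MvPolynomial W4c1hilbpn

namespace Groth.Agent.MonoTgt9

section general
variable {σ : Type*} {k : Type*} [Field k]

theorem moduleFinite_of_finite_nonexps (I : Ideal (MvPolynomial σ k)) (hI : IsMonomial I)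
    [Finite {β : σ →₀ ℕ // β ∉ exps I}] : Module.Finite k (MvPolynomial σ k ⧸ I) := by
  classical
  haveI := Fintype.ofFinite {β : σ →₀ ℕ // β ∉ exps I}
  refine ⟨⟨Finset.univ.image (fun γ : {β : σ →₀ ℕ // β ∉ exps I} =>
    Ideal.Quotient.mk I (monomial γ.1 (1:k))), ?_⟩⟩
  rw [eq_top_iff]
  intro q _
  rw [quot_eq_sum I hI q]
  apply Submodule.sum_mem
  intro γ _
  apply Submodule.smul_mem
  apply Submodule.subset_span
  rw [Finset.coe_image]
  exact ⟨γ, Finset.mem_coe.mpr (Finset.mem_univ _), rfl⟩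

theorem finrank_iSup_all {V : Type*} [AddCommGroup V] [Module k V] {ι : Type*} [DecidableEq ι]
    (p : ι → Submodule k V) (hind : iSupIndep p) (F : Finset ι) (hF : ∀ i, p i ≠ ⊥ → i ∈ F)
    [∀ i, Module.Finite k (p i)] :
    Module.finrank k ↥(⨆ i, p i) = ∑ i ∈ F, Module.finrank k (p i) := by
  have h := finrank_iSup_subtype (k := k) (fun i : ι => i ∈ F) p hind F (fun i _ h => hF i h)
    (fun i hi => hi)
  rw [← h]
  have e : (⨆ i, p i) = ⨆ i : {i // i ∈ F}, p i.1 := by
    apply le_antisymm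
    · apply iSup_le
      intro i
      by_cases hb : p i = ⊥
      · rw [hb]; exact bot_le
      · exact le_iSup (fun j : {i // i ∈ F} => p j.1) ⟨i, hF i hb⟩
    · apply iSup_le
      intro i
      exact le_iSup p i.1
  rw [e]

end general

section three_mr
variable {k : Type*} [Field k] (r : ℕ)

theorem finrank_sigPiece_mr_single (i : Fin 3) :
    Module.finrank k ↥(sigPiece (mr (Fin 3) k r) ({i} : Set (Fin 3))) = Nat.choose (r + 3) 4 := by
  classical
  haveI := finite_nonexps_mr (σ := Fin 3) (k := k) r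
  have hmono := isMonomial_mr (σ := Fin 3) (k := k) r
  haveI : ∀ α : Fin 3 → ℤ, Module.Finite k ↥(tPiece (mr (Fin 3) k r) α) :=
    fun α => finite_tPiece _ hmono α
  unfold sigPiece
  rw [finrank_iSup_subtype (k := k) (fun α : Fin 3 → ℤ => ∀ l, α l < 0 ↔ l ∈ ({i} : Set (Fin 3)))
    (fun α => tPiece (mr (Fin 3) k r) α) (iSupIndep_tPiece _ hmono) ((idx1 r).image (par1 i))
    (fun α hP hne => mem_image_par1 r i α ((pat1_iff i α).mp hP) hne)
    (fun α hα => by
      obtain ⟨p, hp, rfl⟩ := Finset.mem_image.mp hα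
      exact (pat1_iff i _).mpr (pat1_par1 r i p hp))]
  rw [Finset.sum_image (fun x _ y _ h => par1_inj i h), ← sum_idx1 r]
  exact Finset.sum_congr rfl (fun p hp => finrank_par1 r i p hp)

theorem finrank_sigPiece_mr_compl (i : Fin 3) :
    Module.finrank k ↥(sigPiece (mr (Fin 3) k r) ({i}ᶜ : Set (Fin 3))) = Nat.choose (r + 2) 4 := by
  classical
  haveI := finite_nonexps_mr (σ := Fin 3) (k := k) r
  have hmono := isMonomial_mr (σ := Fin 3) (k := k) r
  haveI : ∀ α : Fin 3 → ℤ, Module.Finite k ↥(tPiece (mr (Fin 3) k r) α) :=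
    fun α => finite_tPiece _ hmono α
  unfold sigPiece
  rw [finrank_iSup_subtype (k := k) (fun α : Fin 3 → ℤ => ∀ l, α l < 0 ↔ l ∈ ({i}ᶜ : Set (Fin 3)))
    (fun α => tPiece (mr (Fin 3) k r) α) (iSupIndep_tPiece _ hmono) ((idx2 r).image (par2 i))
    (fun α hP hne => mem_image_par2 r i α ((pat2_iff i α).mp hP) hne)
    (fun α hα => by
      obtain ⟨p, hp, rfl⟩ := Finset.mem_image.mp hα
      exact (pat2_iff i _).mpr (pat2_par2 r i p hp))]
  rw [Finset.sum_image (fun x _ y _ h => par2_inj i h), ← sum_idx2 r]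
  exact Finset.sum_congr rfl (fun p hp => finrank_par2 r i p hp)

theorem pat_disjoint (i j : Fin 3) (hij : i ≠ j) (α : Fin 3 → ℤ)
    (h : Pat1 i α ∨ Pat2 i α) (h' : Pat1 j α ∨ Pat2 j α) : False := by
  unfold Pat1 Pat2 at h h'
  fin_cases i <;> fin_cases j <;> simp at hij <;> simp at h h' <;> omega

theorem exists_pat (α : Fin 3 → ℤ) (hs : ∑ l, α l = -1) : ∃ i, Pat1 i α ∨ Pat2 i α := by
  rw [Fin.sum_univ_three] at hs
  unfold Pat1 Pat2
  by_cases h0 : α 0 < 0 <;> by_cases h1 : α 1 < 0 <;> by_cases h2 : α 2 < 0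
  · omega
  · exact ⟨2, Or.inr ⟨by omega, by simpa using h0, by simpa using h1⟩⟩
  · exact ⟨1, Or.inr ⟨by omega, by simpa using h2, by simpa using h0⟩⟩
  · exact ⟨0, Or.inl ⟨h0, by simp; omega, by simp; omega⟩⟩
  · exact ⟨0, Or.inr ⟨by omega, by simpa using h1, by simpa using h2⟩⟩
  · exact ⟨1, Or.inl ⟨h1, by simp; omega, by simp; omega⟩⟩
  · exact ⟨2, Or.inl ⟨h2, by simp; omega, by simp; omega⟩⟩
  · omega

theorem finrank_tgt_mr :
    Module.finrank k (Tgt (mr (Fin 3) k r)) = Nat.choose (r + 2) 2 * Nat.choose (r + 1) 2 := by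
  classical
  haveI := finite_nonexps_mr (σ := Fin 3) (k := k) r
  have hmono := isMonomial_mr (σ := Fin 3) (k := k) r
  haveI := moduleFinite_of_finite_nonexps (mr (Fin 3) k r) hmono
  haveI : ∀ α : Fin 3 → ℤ, Module.Finite k ↥(tPiece (mr (Fin 3) k r) α) :=
    fun α => finite_tPiece _ hmono α
  rw [← finrank_top k (Tgt (mr (Fin 3) k r)), ← iSup_tPiece_eq_top _ hmono]
  let F : Finset (Fin 3 → ℤ) := Finset.univ.biUnion
    (fun i : Fin 3 => (idx1 r).image (par1 i) ∪ (idx2 r).image (par2 i))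
  have hpat : ∀ (i : Fin 3) (α : Fin 3 → ℤ),
      α ∈ (idx1 r).image (par1 i) ∪ (idx2 r).image (par2 i) → Pat1 i α ∨ Pat2 i α := by
    intro i α hα
    rcases Finset.mem_union.mp hα with h | h
    · obtain ⟨p, hp, rfl⟩ := Finset.mem_image.mp h
      exact Or.inl (pat1_par1 r i p hp)
    · obtain ⟨p, hp, rfl⟩ := Finset.mem_image.mp h
      exact Or.inr (pat2_par2 r i p hp)
  rw [finrank_iSup_all (k := k) (fun α => tPiece (mr (Fin 3) k r) α) (iSupIndep_tPiece _ hmono) F
    (by
      intro α hne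
      obtain ⟨hs, _⟩ := cond_of_ne_bot r α hne
      obtain ⟨i, hi | hi⟩ := exists_pat α hs
      · exact Finset.mem_biUnion.mpr ⟨i, Finset.mem_univ i,
          Finset.mem_union_left _ (mem_image_par1 r i α hi hne)⟩
      · exact Finset.mem_biUnion.mpr ⟨i, Finset.mem_univ i,
          Finset.mem_union_right _ (mem_image_par2 r i α hi hne)⟩)]
  rw [Finset.sum_biUnion]
  · have hi : ∀ i : Fin 3, ∑ α ∈ (idx1 r).image (par1 i) ∪ (idx2 r).image (par2 i),
        Module.finrank k ↥(tPiece (mr (Fin 3) k r) α) =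
        Nat.choose (r + 3) 4 + Nat.choose (r + 2) 4 := by
      intro i
      rw [Finset.sum_union]
      · rw [Finset.sum_image (fun x _ y _ h => par1_inj i h),
          Finset.sum_image (fun x _ y _ h => par2_inj i h), ← sum_idx1 r, ← sum_idx2 r]
        congr 1
        · exact Finset.sum_congr rfl (fun p hp => finrank_par1 r i p hp)
        · exact Finset.sum_congr rfl (fun p hp => finrank_par2 r i p hp)
      · rw [Finset.disjoint_left]
        intro α h1 h2
        obtain ⟨p, hp, rfl⟩ := Finset.mem_image.mp h1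
        obtain ⟨p', hp', hpp⟩ := Finset.mem_image.mp h2
        have a := pat1_par1 r i p hp
        have b := pat2_par2 r i p' hp'
        rw [hpp] at b
        exact absurd a.1 (not_lt.mpr b.1)
    rw [Finset.sum_congr rfl (fun i _ => hi i), Finset.sum_const, Finset.card_univ,
      Fintype.card_fin, smul_eq_mul, ← three_mul_add_three_mul r]
    ring
  · intro i _ j _ hij
    rw [Function.onFun, Finset.disjoint_left]
    intro α h1 h2
    exact pat_disjoint i j hij α (hpat i α h1) (hpat j α h2)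

end three_mr

end Groth.Agent.MonoTgt9
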