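import Mathlib
import Groth.Prelude.Def_W4c1hilbpnTgt
import Groth.Agent.Lib.MonoTgt16_helper9

/-! Tangent spaces of monomial ideals (helper9), part 17: quotients by monomial ideals have the
monomials outside as a basis; the slices of an ideal of `k[x,y,z]` (towards S13454).
APPEND-ONLY once landed. -/

set_option linter.unusedSectionVars false
set_option linter.style.haveILetI false

open MvPolynomial W4c1hilbpn

namespace Groth.Agent.MonoTgt9

section basisquot
variable {σ : Type*} {k : Type*} [Field k] (I : Ideal (MvPolynomial σ k)) (hI : IsMonomial I)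

include hI in
theorem linearIndependent_mk_monomial :
    LinearIndependent k (fun β : {β : σ →₀ ℕ // β ∉ exps I} =>
      Ideal.Quotient.mk I (monomial β.1 (1:k))) := by
  classical
  rw [linearIndependent_iff']
  intro s g hg β₀ hβ₀
  have h1 := congrArg (qc I hI β₀.1) hg
  rw [map_sum, map_zero, Finset.sum_eq_single β₀] at h1
  · rwa [qc_smul_mk_monomial I hI β₀.2] at h1
  · intro b _ hb
    rw [map_smul, qc_mk I hI β₀.2, coeff_monomial, if_neg, smul_zero]
    intro h; exact hb (Subtype.ext h)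
  · intro h; exact absurd hβ₀ h

include hI in
theorem finrank_quot_eq_card [Finite {β : σ →₀ ℕ // β ∉ exps I}] :
    Module.finrank k (MvPolynomial σ k ⧸ I) = Nat.card {β : σ →₀ ℕ // β ∉ exps I} := by
  classical
  haveI := Fintype.ofFinite {β : σ →₀ ℕ // β ∉ exps I}
  have hli := linearIndependent_mk_monomial I hI
  have hspan : Submodule.span k (Set.range (fun β : {β : σ →₀ ℕ // β ∉ exps I} =>
      Ideal.Quotient.mk I (monomial β.1 (1:k)))) = ⊤ := by
    rw [eq_top_iff]
    intro q _
    rw [quot_eq_sum I hI q]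
    apply Submodule.sum_mem
    intro γ _
    exact Submodule.smul_mem _ _ (Submodule.subset_span ⟨γ, rfl⟩)
  rw [← finrank_top k (MvPolynomial σ k ⧸ I), ← hspan, finrank_span_eq_card hli,
    Nat.card_eq_fintype_card]

include hI in
theorem ideal_eq_of_exps_eq (J : Ideal (MvPolynomial σ k)) (hJ : IsMonomial J)
    (h : ∀ β, β ∈ exps I ↔ β ∈ exps J) : I = J := by
  ext p
  rw [mem_iff_support I hI, mem_iff_support J hJ]
  constructor
  · intro hp β hβ; exact (h β).mp (hp β hβ)
  · intro hp β hβ; exact (h β).mpr (hp β hβ)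

end basisquot

section slice
variable {k : Type*} [Field k] (I : Ideal (MvPolynomial (Fin 3) k)) (hI : IsMonomial I)

/-- The exponent `(a, β_0, β_1)`. -/
noncomputable def iota (a : ℕ) (β : Fin 2 →₀ ℕ) : Fin 3 →₀ ℕ := e3 a (β 0) (β 1)

theorem iota_eq (a : ℕ) (β : Fin 2 →₀ ℕ) :
    Finsupp.single 0 a + β.mapDomain Fin.succ = iota a β := by
  ext i
  fin_cases i
  · show (Finsupp.single 0 a + β.mapDomain Fin.succ : Fin 3 →₀ ℕ) 0 = iota a β 0
    rw [iota, e3_apply0, Finsupp.add_apply, Finsupp.single_eq_same]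
    have : (β.mapDomain Fin.succ : Fin 3 →₀ ℕ) 0 = 0 := by
      apply Finsupp.mapDomain_of_notMem_range
      rintro ⟨j, hj⟩
      exact Fin.succ_ne_zero j hj
    rw [this, add_zero]
  · show (Finsupp.single 0 a + β.mapDomain Fin.succ : Fin 3 →₀ ℕ) (Fin.succ 0) = iota a β 1
    rw [iota, e3_apply1, Finsupp.add_apply, Finsupp.mapDomain_apply (Fin.succ_injective 2)]
    simp
  · show (Finsupp.single 0 a + β.mapDomain Fin.succ : Fin 3 →₀ ℕ) (Fin.succ 1) = iota a β 2
    rw [iota, e3_apply2, Finsupp.add_apply, Finsupp.mapDomain_apply (Fin.succ_injective 2)]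
    simp

theorem mem_sliceX (a : ℕ) (p : MvPolynomial (Fin 2) k) :
    p ∈ sliceX I a ↔ (X 0 ^ a : MvPolynomial (Fin 3) k) * rename Fin.succ p ∈ I := by
  unfold sliceX
  rw [Ideal.mem_comap, Submodule.mem_colon_singleton, smul_eq_mul, mul_comm]
  rfl

theorem coeff_iota (a : ℕ) (p : MvPolynomial (Fin 2) k) (β : Fin 2 →₀ ℕ) :
    coeff (iota a β) ((X 0 ^ a : MvPolynomial (Fin 3) k) * rename Fin.succ p) = coeff β p := by
  rw [← iota_eq, X_pow_eq_monomial, coeff_monomial_mul, one_mul,
    coeff_rename_mapDomain Fin.succ (Fin.succ_injective 2)]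

theorem mem_exps_sliceX (a : ℕ) (β : Fin 2 →₀ ℕ) :
    β ∈ exps (sliceX I a) ↔ iota a β ∈ exps I := by
  show monomial β (1:k) ∈ sliceX I a ↔ monomial (iota a β) (1:k) ∈ I
  rw [mem_sliceX, rename_monomial, X_pow_eq_monomial, monomial_mul, one_mul, iota_eq]

include hI in
theorem isMonomial_sliceX (a : ℕ) : IsMonomial (sliceX I a) := by
  intro p hp β hβ
  rw [mem_sliceX] at hp
  show β ∈ exps (sliceX I a)
  rw [mem_exps_sliceX]
  apply hI _ hp
  rw [mem_support_iff, coeff_iota]
  exact mem_support_iff.mp hβ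

/-- The slice staircase as a set of pairs. -/
def sliceSet (a : ℕ) : Set (ℕ × ℕ) := {p | e3 a p.1 p.2 ∉ exps I}

/-- Pairs and exponent vectors in two variables. -/
noncomputable def pairEquiv : (Fin 2 →₀ ℕ) ≃ ℕ × ℕ where
  toFun β := (β 0, β 1)
  invFun p := Finsupp.equivFunOnFinite.symm ![p.1, p.2]
  left_inv β := by
    ext i
    fin_cases i <;> simp
  right_inv p := by
    simp

/-- Monomials outside the slice ideal and points of the slice staircase. -/
noncomputable def nonexpsSliceEquiv (a : ℕ) :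
    {β : Fin 2 →₀ ℕ // β ∉ exps (sliceX I a)} ≃ ↥(sliceSet I a) :=
  Equiv.subtypeEquiv pairEquiv (by
    intro β
    rw [mem_exps_sliceX]
    rfl)

theorem card_nonexps_sliceX (a : ℕ) :
    Nat.card {β : Fin 2 →₀ ℕ // β ∉ exps (sliceX I a)} = Nat.card ↥(sliceSet I a) :=
  Nat.card_congr (nonexpsSliceEquiv I a)

end slice

end Groth.Agent.MonoTgt9
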