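import Mathlib
import Groth.Prelude.Def_W4c1hilbpnTgt
import Groth.Agent.Lib.MonoTgt17_helper9

/-! Tangent spaces of monomial ideals (helper9), part 18: slices of strongly stable ideals (S13454).
APPEND-ONLY once landed. -/

set_option linter.unusedSectionVars false
set_option linter.style.haveILetI false

open MvPolynomial W4c1hilbpn

namespace Groth.Agent.MonoTgt9

section triangle

/-- The triangle `{(b, c) : b + c < t}`. -/
def Tri (t : ℕ) : Finset (ℕ × ℕ) := (Finset.range t).biUnion (fun s : ℕ => Finset.HasAntidiagonal.antidiagonal s)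

theorem mem_Tri (t : ℕ) (p : ℕ × ℕ) : p ∈ Tri t ↔ p.1 + p.2 < t := by
  unfold Tri
  rw [Finset.mem_biUnion]
  constructor
  · rintro ⟨s, hs, hp⟩
    rw [Finset.HasAntidiagonal.mem_antidiagonal] at hp
    rw [Finset.mem_range] at hs
    omega
  · intro h
    exact ⟨p.1 + p.2, Finset.mem_range.mpr h, Finset.HasAntidiagonal.mem_antidiagonal.mpr rfl⟩

theorem card_Tri (t : ℕ) : (Tri t).card = Nat.choose (t + 1) 2 := by
  unfold Tri
  rw [Finset.card_biUnion]
  · simp only [Finset.Nat.card_antidiagonal]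
    induction t with
    | zero => rfl
    | succ t ih =>
      rw [Finset.sum_range_succ, ih, Nat.choose_succ_succ' (t + 1) 1, Nat.choose_one_right]
      ring
  · intro s _ s' _ hne
    rw [Function.onFun, Finset.disjoint_left]
    intro p hp hp'
    rw [Finset.HasAntidiagonal.mem_antidiagonal] at hp hp'
    exact hne (hp.symm.trans hp')

theorem sum_range_choose_two (r : ℕ) :
    ∑ i ∈ Finset.range r, Nat.choose (r - i + 1) 2 = Nat.choose (r + 2) 3 := by
  induction r with
  | zero => rfl
  | succ r ih =>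
    rw [Finset.sum_range_succ']
    have : ∑ i ∈ Finset.range r, Nat.choose (r + 1 - (i + 1) + 1) 2 =
        ∑ i ∈ Finset.range r, Nat.choose (r - i + 1) 2 := by
      apply Finset.sum_congr rfl
      intro i _
      congr 1
      omega
    rw [this, ih, Nat.sub_zero, Nat.choose_succ_succ' (r + 2) 2]
    ring

end triangle

section sscomb
variable {k : Type*} [Field k] (I : Ideal (MvPolynomial (Fin 3) k)) (hI : IsStronglyStable I)
  [Module.Finite k (MvPolynomial (Fin 3) k ⧸ I)]

theorem e3_injective (a : ℕ) : Function.Injective (fun p : ℕ × ℕ => e3 a p.1 p.2) := by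
  intro p q h
  have h1 := congrArg (fun γ : Fin 3 →₀ ℕ => γ 1) h
  have h2 := congrArg (fun γ : Fin 3 →₀ ℕ => γ 2) h
  simp only [e3_apply1, e3_apply2] at h1 h2
  exact Prod.ext h1 h2

include hI in
theorem finite_sliceSet (a : ℕ) : (sliceSet I a).Finite := by
  haveI := finite_nonexps I hI.1
  have hΛ : {γ : Fin 3 →₀ ℕ | γ ∉ exps I}.Finite :=
    Set.finite_coe_iff.mp (inferInstanceAs (Finite {β : Fin 3 →₀ ℕ // β ∉ exps I}))
  apply Set.Finite.of_injOn (f := fun p : ℕ × ℕ => e3 a p.1 p.2) _ ((e3_injective a).injOn) hΛ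
  intro p hp
  exact hp

/-- The slice staircase as a finite set. -/
noncomputable def Lsl (a : ℕ) : Finset (ℕ × ℕ) := (finite_sliceSet I hI a).toFinset

theorem mem_Lsl (a : ℕ) (p : ℕ × ℕ) : p ∈ Lsl I hI a ↔ e3 a p.1 p.2 ∉ exps I := by
  unfold Lsl
  rw [Set.Finite.mem_toFinset]
  rfl

include hI in
theorem finrank_sliceX (a : ℕ) :
    Module.finrank k (MvPolynomial (Fin 2) k ⧸ sliceX I a) = (Lsl I hI a).card := by
  have hfin : Finite ↥(sliceSet I a) := Set.finite_coe_iff.mpr (finite_sliceSet I hI a)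
  haveI : Finite {β : Fin 2 →₀ ℕ // β ∉ exps (sliceX I a)} :=
    Finite.of_equiv _ (nonexpsSliceEquiv I a).symm
  rw [finrank_quot_eq_card (sliceX I a) (isMonomial_sliceX I hI.1 a), card_nonexps_sliceX,
    Nat.card_coe_set_eq, Set.ncard_eq_toFinset_card _ (finite_sliceSet I hI a)]
  rfl

include hI in
theorem finite_quot_sliceX (a : ℕ) :
    Module.Finite k (MvPolynomial (Fin 2) k ⧸ sliceX I a) := by
  have hfin : Finite ↥(sliceSet I a) := Set.finite_coe_iff.mpr (finite_sliceSet I hI a)
  haveI : Finite {β : Fin 2 →₀ ℕ // β ∉ exps (sliceX I a)} :=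
    Finite.of_equiv _ (nonexpsSliceEquiv I a).symm
  exact moduleFinite_of_finite_nonexps (sliceX I a) (isMonomial_sliceX I hI.1 a)

include hI in
/-- Moving `z`-degree into `y`-degree. -/
theorem ss_z_to_y (a : ℕ) : ∀ b c : ℕ, e3 a 0 (b + c) ∈ exps I → e3 a b c ∈ exps I := by
  intro b
  induction b with
  | zero => intro c h; rwa [zero_add] at h
  | succ b ih =>
    intro c h
    have h1 : e3 a b (c + 1) ∈ exps I := ih (c + 1) (by rwa [← add_assoc, add_right_comm])
    exact ss_zy I hI h1

include hI in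
theorem ss_slice_bound (a b c : ℕ) (h : e3 (a + 1) b c ∉ exps I) :
    b + c + 1 < stairZ I a 0 := by
  by_contra hcon
  apply h
  have h1 : e3 a 0 (b + c + 1) ∈ exps I :=
    (e3_mem_iff_stairZ_le I hI.1 a 0 _).mpr (not_lt.mp hcon)
  have h2 : e3 a b (c + 1) ∈ exps I := ss_z_to_y I hI a b (c + 1) (by rwa [add_assoc] at h1)
  exact ss_zx I hI h2

include hI in
/-- (I1) `d_{a+1} + b_{a,0} ≤ d_a`. -/
theorem card_Lsl_succ_add (a : ℕ) :
    (Lsl I hI (a + 1)).card + stairZ I a 0 ≤ (Lsl I hI a).card := by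
  classical
  let A := (Lsl I hI (a + 1)).image (fun p : ℕ × ℕ => (p.1 + 1, p.2))
  let B := (Finset.range (stairZ I a 0)).image (fun c : ℕ => ((0 : ℕ), c))
  have hA : A.card = (Lsl I hI (a + 1)).card := by
    apply Finset.card_image_of_injective
    intro p q h
    simp only [Prod.mk.injEq] at h
    exact Prod.ext (by omega) h.2
  have hB : B.card = stairZ I a 0 := by
    rw [Finset.card_image_of_injective, Finset.card_range]
    intro c c' h
    simp only [Prod.mk.injEq] at h
    exact h.2
  have hdisj : Disjoint A B := by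
    rw [Finset.disjoint_left]
    intro p hp hp'
    obtain ⟨q, _, rfl⟩ := Finset.mem_image.mp hp
    obtain ⟨c, _, hc⟩ := Finset.mem_image.mp hp'
    simp only [Prod.mk.injEq] at hc
    omega
  have hsub : A ∪ B ⊆ Lsl I hI a := by
    intro p hp
    rw [mem_Lsl]
    rcases Finset.mem_union.mp hp with h | h
    · obtain ⟨q, hq, rfl⟩ := Finset.mem_image.mp h
      rw [mem_Lsl] at hq
      exact fun hc => hq (ss_yx I hI hc)
    · obtain ⟨c, hc, rfl⟩ := Finset.mem_image.mp h
      rw [Finset.mem_range] at hc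
      show e3 a 0 c ∉ exps I
      rw [e3_mem_iff_stairZ_le I hI.1]
      omega
  calc (Lsl I hI (a + 1)).card + stairZ I a 0 = (A ∪ B).card := by
        rw [Finset.card_union_of_disjoint hdisj, hA, hB]
    _ ≤ (Lsl I hI a).card := Finset.card_le_card hsub

include hI in
/-- (I2) `d_{a+1} ≤ C(b_{a,0}, 2)`. -/
theorem card_Lsl_succ_le (a : ℕ) :
    (Lsl I hI (a + 1)).card ≤ Nat.choose (stairZ I a 0) 2 := by
  have hsub : Lsl I hI (a + 1) ⊆ Tri (stairZ I a 0 - 1) := by
    intro p hp
    rw [mem_Lsl] at hp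
    rw [mem_Tri]
    have := ss_slice_bound I hI a p.1 p.2 hp
    omega
  have h1 := Finset.card_le_card hsub
  rw [card_Tri] at h1
  rcases Nat.eq_zero_or_pos (stairZ I a 0) with h0 | hpos
  · rw [h0] at h1 ⊢
    simpa using h1
  · rwa [Nat.sub_add_cancel hpos] at h1

include hI in
/-- Downward propagation of excess. -/
theorem excess_step (r a : ℕ) (h : Nat.choose (r - (a + 1) + 1) 2 < (Lsl I hI (a + 1)).card) :
    Nat.choose (r - a + 1) 2 < (Lsl I hI a).card := by
  have h1 := card_Lsl_succ_add I hI a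
  have h2 := card_Lsl_succ_le I hI a
  have hlt : r - (a + 1) + 1 < stairZ I a 0 := by
    by_contra hc
    have := Nat.choose_le_choose 2 (not_lt.mp hc)
    omega
  rcases Nat.lt_or_ge a r with har | har
  · have e : r - a + 1 = (r - (a + 1) + 1) + 1 := by omega
    have hp : Nat.choose ((r - (a + 1) + 1) + 1) 2 =
        (r - (a + 1) + 1) + Nat.choose (r - (a + 1) + 1) 2 := by
      have := Nat.choose_succ_succ' (r - (a + 1) + 1) 1
      rw [Nat.choose_one_right] at this
      exact this
    rw [e, hp]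
    omega
  · have e : r - a + 1 = 1 := by omega
    rw [e]
    have : Nat.choose 1 2 = 0 := rfl
    omega

include hI in
theorem excess_down (r a : ℕ) (h : Nat.choose (r - a + 1) 2 < (Lsl I hI a).card) :
    ∀ a' ≤ a, Nat.choose (r - a' + 1) 2 < (Lsl I hI a').card := by
  induction a with
  | zero =>
    intro a' ha'
    have : a' = 0 := by omega
    subst this
    exact h
  | succ a ih =>
    intro a' ha'
    rcases Nat.lt_or_ge a' (a + 1) with hlt | hge
    · exact ih (excess_step I hI r a h) a' (by omega)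
    · have : a' = a + 1 := by omega
      subst this
      exact h

end sscomb

end Groth.Agent.MonoTgt9
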