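import Mathlib
import Groth.Prelude.Def_W4c1hilbpnTgt
import Groth.Agent.Lib.MonoTgt18_helper9

/-! Tangent spaces of monomial ideals (helper9), part 19: slice sums of strongly stable ideals of
bounded colength (S13454).
APPEND-ONLY once landed. -/

set_option linter.unusedSectionVars false
set_option linter.style.haveILetI false

open MvPolynomial W4c1hilbpn

namespace Groth.Agent.MonoTgt9

section ssfinal
variable {k : Type*} [Field k] (I : Ideal (MvPolynomial (Fin 3) k)) (hI : IsStronglyStable I)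
  [Module.Finite k (MvPolynomial (Fin 3) k ⧸ I)]

include hI in
theorem finite_nonexpsSet : {γ : Fin 3 →₀ ℕ | γ ∉ exps I}.Finite := by
  haveI := finite_nonexps I hI.1
  exact Set.finite_coe_iff.mp (inferInstanceAs (Finite {β : Fin 3 →₀ ℕ // β ∉ exps I}))

/-- All monomials outside `I`, as a finite set. -/
noncomputable def Lam : Finset (Fin 3 →₀ ℕ) := (finite_nonexpsSet I hI).toFinset

theorem mem_Lam (γ : Fin 3 →₀ ℕ) : γ ∈ Lam I hI ↔ γ ∉ exps I := by
  unfold Lam
  rw [Set.Finite.mem_toFinset]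
  rfl

include hI in
theorem finrank_eq_card_Lam :
    Module.finrank k (MvPolynomial (Fin 3) k ⧸ I) = (Lam I hI).card := by
  haveI := finite_nonexps I hI.1
  rw [finrank_quot_eq_card I hI.1]
  show Nat.card ↥{γ : Fin 3 →₀ ℕ | γ ∉ exps I} = _
  rw [Nat.card_coe_set_eq, Set.ncard_eq_toFinset_card _ (finite_nonexpsSet I hI)]
  rfl

/-- The monomials outside `I` with `x`-degree `< r`. -/
noncomputable def Ulay (r : ℕ) : Finset (Fin 3 →₀ ℕ) :=
  (Finset.range r).biUnion (fun i => (Lsl I hI i).image (fun p : ℕ × ℕ => e3 i p.1 p.2))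

theorem mem_Ulay (r : ℕ) (γ : Fin 3 →₀ ℕ) : γ ∈ Ulay I hI r ↔ γ 0 < r ∧ γ ∉ exps I := by
  unfold Ulay
  rw [Finset.mem_biUnion]
  constructor
  · rintro ⟨i, hi, hγ⟩
    obtain ⟨p, hp, rfl⟩ := Finset.mem_image.mp hγ
    rw [mem_Lsl] at hp
    rw [Finset.mem_range] at hi
    exact ⟨by rw [e3_apply0]; exact hi, hp⟩
  · rintro ⟨h0, hγ⟩
    refine ⟨γ 0, Finset.mem_range.mpr h0, Finset.mem_image.mpr ⟨(γ 1, γ 2), ?_, e3_eta γ⟩⟩
    rw [mem_Lsl]
    show e3 (γ 0) (γ 1) (γ 2) ∉ exps I
    rwa [e3_eta]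

theorem card_Ulay (r : ℕ) : (Ulay I hI r).card = ∑ i ∈ Finset.range r, (Lsl I hI i).card := by
  unfold Ulay
  rw [Finset.card_biUnion]
  · apply Finset.sum_congr rfl
    intro i _
    exact Finset.card_image_of_injective _ (e3_injective i)
  · intro i _ j _ hne
    rw [Function.onFun, Finset.disjoint_left]
    intro γ hγ hγ'
    obtain ⟨p, _, rfl⟩ := Finset.mem_image.mp hγ
    obtain ⟨q, _, hq⟩ := Finset.mem_image.mp hγ'
    have := congrArg (fun γ : Fin 3 →₀ ℕ => γ 0) hq
    simp only [e3_apply0] at this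
    exact hne this.symm

theorem Ulay_subset (r : ℕ) : Ulay I hI r ⊆ Lam I hI := by
  intro γ hγ
  rw [mem_Lam]
  exact ((mem_Ulay I hI r γ).mp hγ).2

include hI in
theorem sum_card_Lsl_le (r : ℕ) :
    ∑ i ∈ Finset.range r, (Lsl I hI i).card ≤ Module.finrank k (MvPolynomial (Fin 3) k ⧸ I) := by
  rw [← card_Ulay, finrank_eq_card_Lam I hI]
  exact Finset.card_le_card (Ulay_subset I hI r)

include hI in
/-- Part (a) of S13454 in staircase form. -/
theorem slice_sum_le (r : ℕ)
    (hd : Module.finrank k (MvPolynomial (Fin 3) k ⧸ I) ≤ Nat.choose (r + 2) 3)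
    (j : ℕ) (hj : j ≤ r) :
    ∑ i ∈ Finset.Ico j r, (Lsl I hI i).card ≤ ∑ i ∈ Finset.Ico j r, Nat.choose (r - i + 1) 2 := by
  by_contra hcon
  have hlt := not_le.mp hcon
  obtain ⟨i0, hi0, hi0lt⟩ := Finset.exists_lt_of_sum_lt hlt
  rw [Finset.mem_Ico] at hi0
  have hdown := excess_down I hI r i0 hi0lt
  have h1 : ∑ i ∈ Finset.range j, Nat.choose (r - i + 1) 2 ≤
      ∑ i ∈ Finset.range j, (Lsl I hI i).card := by
    apply Finset.sum_le_sum
    intro i hi
    rw [Finset.mem_range] at hi
    exact (hdown i (by omega)).le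
  have h2 := Finset.sum_range_add_sum_Ico (fun i => (Lsl I hI i).card) hj
  have h3 := Finset.sum_range_add_sum_Ico (fun i => Nat.choose (r - i + 1) 2) hj
  have h4 := sum_card_Lsl_le I hI r
  have h5 := sum_range_choose_two r
  omega

include hI in
/-- Under the equality hypothesis of S13454 (b), every slice has the colength of a power of the
maximal ideal. -/
theorem slice_card_eq (r : ℕ)
    (heq : ∀ j, j < r → ∑ i ∈ Finset.Ico j r, (Lsl I hI i).card =
      ∑ i ∈ Finset.Ico j r, Nat.choose (r - i + 1) 2)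
    (i : ℕ) (hi : i < r) : (Lsl I hI i).card = Nat.choose (r - i + 1) 2 := by
  have h1 := heq i hi
  rw [Finset.sum_eq_sum_Ico_succ_bot hi, Finset.sum_eq_sum_Ico_succ_bot hi] at h1
  rcases Nat.lt_or_ge (i + 1) r with h | h
  · have h2 := heq (i + 1) h
    omega
  · have : Finset.Ico (i + 1) r = ∅ := Finset.Ico_eq_empty (by omega)
    rw [this, Finset.sum_empty, Finset.sum_empty] at h1
    omega

include hI in
theorem x_lt_of_not_mem (r : ℕ)
    (hd : Module.finrank k (MvPolynomial (Fin 3) k ⧸ I) ≤ Nat.choose (r + 2) 3)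
    (hcard : ∀ i, i < r → (Lsl I hI i).card = Nat.choose (r - i + 1) 2)
    (γ : Fin 3 →₀ ℕ) (hγ : γ ∉ exps I) : γ 0 < r := by
  have h1 : (Lam I hI).card ≤ (Ulay I hI r).card := by
    rw [card_Ulay, ← finrank_eq_card_Lam I hI]
    have : ∑ i ∈ Finset.range r, (Lsl I hI i).card =
        ∑ i ∈ Finset.range r, Nat.choose (r - i + 1) 2 := by
      apply Finset.sum_congr rfl
      intro i hi
      exact hcard i (Finset.mem_range.mp hi)
    rw [this, sum_range_choose_two]
    exact hd
  have h2 := Finset.eq_of_subset_of_card_le (Ulay_subset I hI r) h1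
  have h3 : γ ∈ Ulay I hI r := by
    rw [h2, mem_Lam]; exact hγ
  exact ((mem_Ulay I hI r γ).mp h3).1

include hI in
theorem Lsl_eq_Tri (r : ℕ)
    (hd : Module.finrank k (MvPolynomial (Fin 3) k ⧸ I) ≤ Nat.choose (r + 2) 3)
    (hcard : ∀ i, i < r → (Lsl I hI i).card = Nat.choose (r - i + 1) 2) :
    ∀ n i : ℕ, i + n = r → Lsl I hI i = Tri n := by
  intro n
  induction n with
  | zero =>
    intro i hi
    ext p
    rw [mem_Lsl, mem_Tri]
    constructor
    · intro hp
      have := x_lt_of_not_mem I hI r hd hcard _ hp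
      rw [e3_apply0] at this
      omega
    · intro hp; omega
  | succ n ih =>
    intro i hi
    have hnext : Lsl I hI (i + 1) = Tri n := ih (i + 1) (by omega)
    have hc : (Lsl I hI i).card = Nat.choose (n + 1 + 1) 2 := by
      rw [hcard i (by omega)]
      congr 1
      omega
    have hne : (Lsl I hI i).Nonempty := by
      rw [← Finset.card_pos, hc]
      exact Nat.choose_pos (by omega)
    have hsub : Tri (n + 1) ⊆ Lsl I hI i := by
      rintro ⟨b, c⟩ hp
      rw [mem_Tri] at hp
      rw [mem_Lsl]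
      show e3 i b c ∉ exps I
      rcases b with _ | b
      · rcases c with _ | c
        · obtain ⟨q, hq⟩ := hne
          rw [mem_Lsl] at hq
          intro h0
          apply hq
          apply exps_of_le I h0
          rw [e3_le_iff, e3_apply0, e3_apply1, e3_apply2]
          exact ⟨le_rfl, Nat.zero_le _, Nat.zero_le _⟩
        · have : ((0, c) : ℕ × ℕ) ∈ Lsl I hI (i + 1) := by
            rw [hnext, mem_Tri]
            simp only at hp ⊢
            omega
          rw [mem_Lsl] at this
          exact fun h => this (ss_zx I hI h)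
      · have : ((b, c) : ℕ × ℕ) ∈ Lsl I hI (i + 1) := by
          rw [hnext, mem_Tri]
          simp only at hp ⊢
          omega
        rw [mem_Lsl] at this
        exact fun h => this (ss_yx I hI h)
    have hle : (Lsl I hI i).card ≤ (Tri (n + 1)).card := by
      rw [card_Tri, hc]
    exact (Finset.eq_of_subset_of_card_le hsub hle).symm

include hI in
/-- Part (b) of S13454 in staircase form. -/
theorem eq_mr_of_slice_eq (r : ℕ)
    (hd : Module.finrank k (MvPolynomial (Fin 3) k ⧸ I) ≤ Nat.choose (r + 2) 3)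
    (heq : ∀ j, j < r → ∑ i ∈ Finset.Ico j r, (Lsl I hI i).card =
      ∑ i ∈ Finset.Ico j r, Nat.choose (r - i + 1) 2) :
    I = mr (Fin 3) k r := by
  have hcard := slice_card_eq I hI r heq
  have hT := Lsl_eq_Tri I hI r hd hcard
  apply ideal_eq_of_exps_eq I hI.1 (mr (Fin 3) k r) (isMonomial_mr r)
  intro β
  rw [mem_exps_mr, Finsupp.degree_eq_sum, Fin.sum_univ_three]
  rcases Nat.lt_or_ge (β 0) r with h0 | h0
  · have hL := hT (r - β 0) (β 0) (by omega)
    have hmem : ((β 1, β 2) : ℕ × ℕ) ∈ Lsl I hI (β 0) ↔ β ∉ exps I := by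
      rw [mem_Lsl]
      show e3 (β 0) (β 1) (β 2) ∉ exps I ↔ _
      rw [e3_eta]
    rw [hL, mem_Tri] at hmem
    simp only at hmem
    constructor
    · intro hβ
      by_contra hlt
      exact (hmem.mp (by omega)) hβ
    · intro hβ
      by_contra hn
      have := hmem.mpr hn
      omega
  · constructor
    · intro _; omega
    · intro _
      by_contra hn
      have := x_lt_of_not_mem I hI r hd hcard β hn
      omega

end ssfinal

end Groth.Agent.MonoTgt9
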