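import Mathlib

open Polynomial IsLocalRing

namespace Groth.Agent.Lib.MonogenicUnram

universe u

variable {A B : Type u} [CommRing A] [IsLocalRing A] [CommRing B] [Algebra A B]

theorem mul_mem_W (b : B) {w : B} (hw : w ∈ maximalIdeal A • (⊤ : Submodule A B)) :
    b * w ∈ maximalIdeal A • (⊤ : Submodule A B) := by
  refine Submodule.smul_induction_on hw ?_ ?_
  · intro a ha x _
    rw [mul_smul_comm]
    exact Submodule.smul_mem_smul ha Submodule.mem_top
  · intro x y hx hy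
    rw [mul_add]; exact Submodule.add_mem _ hx hy

theorem smul_mem_W {a : A} (ha : a ∈ maximalIdeal A) (b : B) :
    a • b ∈ maximalIdeal A • (⊤ : Submodule A B) :=
  Submodule.smul_mem_smul ha Submodule.mem_top

theorem aeval_surj (u : B) (hu : Algebra.adjoin A ({u} : Set B) = ⊤) :
    Function.Surjective (aeval u : A[X] →ₐ[A] B) := by
  rw [← AlgHom.range_eq_top, ← Algebra.adjoin_singleton_eq_range_aeval, hu]

theorem coeff_mem_of_minimal (u : B) (d : ℕ)
    (hmin : ∀ Q : A[X], Q.Monic → aeval u Q ∈ maximalIdeal A • (⊤ : Submodule A B) →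
      d ≤ Q.natDegree) :
    ∀ k, k ≤ d → ∀ R : A[X], R.natDegree < k →
      aeval u R ∈ maximalIdeal A • (⊤ : Submodule A B) →
      ∀ i, R.coeff i ∈ maximalIdeal A := by
  intro k
  induction k with
  | zero => intro _ R hR; exact absurd hR (Nat.not_lt_zero _)
  | succ k ih =>
    intro hk R hR hRu i
    by_cases hc : R.leadingCoeff ∈ maximalIdeal A
    · have hsplit := R.eraseLead_add_monomial_natDegree_leadingCoeff
      have hlead : aeval u (monomial R.natDegree R.leadingCoeff) ∈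
          maximalIdeal A • (⊤ : Submodule A B) := by
        rw [aeval_monomial, ← Algebra.smul_def]
        exact smul_mem_W hc _
      have h3 : R.eraseLead = R - monomial R.natDegree R.leadingCoeff := eq_sub_of_add_eq hsplit
      have hR'u : aeval u R.eraseLead ∈ maximalIdeal A • (⊤ : Submodule A B) := by
        rw [h3, map_sub]; exact Submodule.sub_mem _ hRu hlead
      by_cases h : i = R.natDegree
      · rw [h, coeff_natDegree]; exact hc
      · rw [← eraseLead_coeff_of_ne i h]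
        rcases R.eraseLead_natDegree_lt_or_eraseLead_eq_zero with h1 | h1
        · exact ih (Nat.le_of_succ_le hk) R.eraseLead (by omega) hR'u i
        · rw [h1]; simp
    · exfalso
      have hunit : IsUnit R.leadingCoeff := (IsLocalRing.notMem_maximalIdeal).mp hc
      obtain ⟨c, hc'⟩ := hunit
      have hmonic : (C (↑c⁻¹ : A) * R).Monic :=
        monic_C_mul_of_mul_leadingCoeff_eq_one (by rw [← hc']; exact Units.inv_mul c)
      have hQu : aeval u (C (↑c⁻¹ : A) * R) ∈ maximalIdeal A • (⊤ : Submodule A B) := by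
        rw [map_mul]
        exact mul_mem_W _ hRu
      have h1 := hmin _ hmonic hQu
      have h2 := natDegree_C_mul_le (↑c⁻¹ : A) R
      omega

theorem exists_F [Module.Finite A B] (u : B) (hu : Algebra.adjoin A ({u} : Set B) = ⊤) :
    ∃ F : A[X], F.Monic ∧ aeval u F = 0 ∧
      ∀ G : A[X], aeval u G = 0 →
        ∃ H R : A[X], G = F * H + R ∧ ∀ i, R.coeff i ∈ maximalIdeal A := by
  classical
  have hsurj := aeval_surj u hu
  have hint : IsIntegral A u := Algebra.IsIntegral.isIntegral u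
  have hex : ∃ d, ∃ Q : A[X], Q.Monic ∧ Q.natDegree = d ∧
      aeval u Q ∈ maximalIdeal A • (⊤ : Submodule A B) := by
    obtain ⟨Q, hQ, hQu⟩ := hint
    have hQu' : aeval u Q = 0 := (aeval_def u Q).trans hQu
    exact ⟨_, Q, hQ, rfl, by rw [hQu']; exact Submodule.zero_mem _⟩
  obtain ⟨d, hd⟩ : ∃ d, d = Nat.find hex := ⟨_, rfl⟩
  obtain ⟨Q₀, hQ₀, hQ₀d, hQ₀u⟩ := Nat.find_spec hex
  rw [← hd] at hQ₀d
  have hmin : ∀ Q : A[X], Q.Monic → aeval u Q ∈ maximalIdeal A • (⊤ : Submodule A B) →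
      d ≤ Q.natDegree := fun Q hQ hQu => by
    rw [hd]; exact Nat.find_min' hex ⟨Q, hQ, rfl, hQu⟩
  have hQ₀deg : degree Q₀ = (d : WithBot ℕ) := by
    rw [degree_eq_natDegree hQ₀.ne_zero, hQ₀d]
  have hNW : (⊤ : Submodule A B) ≤
      Submodule.map (aeval u : A[X] →ₐ[A] B).toLinearMap (degreeLT A d) ⊔
        maximalIdeal A • (⊤ : Submodule A B) := by
    intro b _
    obtain ⟨P, rfl⟩ := hsurj b
    have hdiv := modByMonic_add_div P Q₀
    rw [← hdiv, map_add, map_mul]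
    refine Submodule.add_mem_sup ?_ ?_
    · refine ⟨P %ₘ Q₀, ?_, rfl⟩
      rw [SetLike.mem_coe, mem_degreeLT]
      exact lt_of_lt_of_eq (degree_modByMonic_lt P hQ₀) hQ₀deg
    · rw [mul_comm]; exact mul_mem_W _ hQ₀u
  have hjac : maximalIdeal A ≤ Ideal.jacobson ⊥ :=
    le_of_eq (IsLocalRing.jacobson_eq_maximalIdeal ⊥ bot_ne_top).symm
  have hN : (⊤ : Submodule A B) ≤
      Submodule.map (aeval u : A[X] →ₐ[A] B).toLinearMap (degreeLT A d) :=
    Submodule.le_of_le_smul_of_le_jacobson_bot Module.Finite.fg_top hjac hNW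
  obtain ⟨P, hP, hPu⟩ := hN (Submodule.mem_top : u ^ d ∈ (⊤ : Submodule A B))
  rw [SetLike.mem_coe, mem_degreeLT] at hP
  have hPu' : aeval u P = u ^ d := hPu
  have hFmonic : (X ^ d - P : A[X]).Monic := monic_X_pow_sub hP
  have hFdeg : degree (X ^ d - P : A[X]) = (d : WithBot ℕ) := by
    rw [degree_sub_eq_left_of_degree_lt (by rwa [degree_X_pow]), degree_X_pow]
  have hFu : aeval u (X ^ d - P : A[X]) = 0 := by
    rw [map_sub, map_pow, aeval_X, hPu', sub_self]
  refine ⟨X ^ d - P, hFmonic, hFu, ?_⟩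
  intro G hG
  refine ⟨G /ₘ (X ^ d - P), G %ₘ (X ^ d - P), ?_, ?_⟩
  · rw [add_comm]; exact (modByMonic_add_div G (X ^ d - P)).symm
  · intro i
    by_cases hR0 : G %ₘ (X ^ d - P) = 0
    · rw [hR0]; simp
    · have hnat : (G %ₘ (X ^ d - P)).natDegree < d :=
        (natDegree_lt_iff_degree_lt hR0).mpr
          (lt_of_lt_of_eq (degree_modByMonic_lt G hFmonic) hFdeg)
      have hRu : aeval u (G %ₘ (X ^ d - P)) = 0 := by
        have h1 := congrArg (aeval u) (modByMonic_add_div G (X ^ d - P))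
        rw [map_add, map_mul, hFu, zero_mul, add_zero, hG] at h1
        exact h1
      exact coeff_mem_of_minimal u d hmin d le_rfl _ hnat
        (by rw [hRu]; exact Submodule.zero_mem _) i

theorem exists_deriv_notMem (u : B) (hu : Algebra.adjoin A ({u} : Set B) = ⊤)
    (n : Ideal B) [n.IsMaximal] (hn : Algebra.IsUnramifiedAt A n) :
    ∃ G : A[X], aeval u G = 0 ∧ aeval u (derivative G) ∉ n := by
  by_contra hcon
  push_neg at hcon
  letI : Field (B ⧸ n) := Ideal.Quotient.field n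
  have hsurj := aeval_surj u hu
  let q : B →ₐ[A] (B ⧸ n) := Ideal.Quotient.mkₐ A n
  let θ₀ : B →ₐ[A] TrivSqZeroExt (B ⧸ n) (B ⧸ n) :=
    (TrivSqZeroExt.inlAlgHom A (B ⧸ n) (B ⧸ n)).comp q
  have hθ₀ : ∀ b, θ₀ b = TrivSqZeroExt.inl (q b) := fun b => rfl
  let ε : TrivSqZeroExt (B ⧸ n) (B ⧸ n) := TrivSqZeroExt.inr (1 : B ⧸ n)
  have hε : ε ^ 2 = 0 := by rw [pow_two]; exact TrivSqZeroExt.inr_mul_inr _ _ _
  let φ : A[X] →ₐ[A] TrivSqZeroExt (B ⧸ n) (B ⧸ n) := aeval (θ₀ u + ε)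
  have hφ : ∀ G : A[X], φ G = θ₀ (aeval u G) + θ₀ (aeval u (derivative G)) * ε := by
    intro G
    show aeval (θ₀ u + ε) G = _
    rw [aeval_add_of_sq_eq_zero G (θ₀ u) ε hε, aeval_algHom_apply, aeval_algHom_apply]
  have hker : ∀ G : A[X], G ∈ RingHom.ker (aeval u : A[X] →ₐ[A] B) → φ G = 0 := by
    intro G hG
    rw [RingHom.mem_ker] at hG
    have h1 : q (aeval u (derivative G)) = 0 := Ideal.Quotient.eq_zero_iff_mem.mpr (hcon G hG)
    rw [hφ, hG, map_zero, zero_add, hθ₀, h1, TrivSqZeroExt.inl_zero, zero_mul]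
  let φ' : (A[X] ⧸ RingHom.ker (aeval u : A[X] →ₐ[A] B)) →ₐ[A]
      TrivSqZeroExt (B ⧸ n) (B ⧸ n) := Ideal.Quotient.liftₐ _ φ hker
  let e := Ideal.quotientKerAlgEquivOfSurjective hsurj
  let θ : B →ₐ[A] TrivSqZeroExt (B ⧸ n) (B ⧸ n) := φ'.comp e.symm.toAlgHom
  have hθ : ∀ G : A[X], θ (aeval u G) = φ G := by
    intro G
    show φ' (e.symm ((aeval u : A[X] →ₐ[A] B) G)) = φ G
    rw [Ideal.quotientKerAlgEquivOfSurjective_symm_apply]
    rfl
  have hfst₀ : ∀ b, (θ₀ b).fst = q b := fun b => rfl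
  have hfst : ∀ b, (θ b).fst = q b := by
    intro b
    obtain ⟨G, rfl⟩ := hsurj b
    rw [hθ, hφ]
    simp [hθ₀, ε]
  have hunit₀ : ∀ y : n.primeCompl, IsUnit (θ₀ y) := by
    intro y
    rw [TrivSqZeroExt.isUnit_iff_isUnit_fst, hfst₀]
    exact IsUnit.mk0 _ (fun h0 => y.2 (Ideal.Quotient.eq_zero_iff_mem.mp h0))
  have hunit : ∀ y : n.primeCompl, IsUnit (θ y) := by
    intro y
    rw [TrivSqZeroExt.isUnit_iff_isUnit_fst, hfst]
    exact IsUnit.mk0 _ (fun h0 => y.2 (Ideal.Quotient.eq_zero_iff_mem.mp h0))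
  let Θ₀ : Localization.AtPrime n →ₐ[A] TrivSqZeroExt (B ⧸ n) (B ⧸ n) :=
    IsLocalization.liftAlgHom (M := n.primeCompl) (f := θ₀) hunit₀
  let Θ : Localization.AtPrime n →ₐ[A] TrivSqZeroExt (B ⧸ n) (B ⧸ n) :=
    IsLocalization.liftAlgHom (M := n.primeCompl) (f := θ) hunit
  have hΘ₀ : ∀ b : B, Θ₀ (algebraMap B (Localization.AtPrime n) b) = θ₀ b := fun b =>
    IsLocalization.lift_eq _ b
  have hΘ : ∀ b : B, Θ (algebraMap B (Localization.AtPrime n) b) = θ b := fun b =>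
    IsLocalization.lift_eq _ b
  haveI : Algebra.FormallyUnramified A (Localization.AtPrime n) := hn
  have hinj := Algebra.FormallyUnramified.comp_injective (R := A) (A := Localization.AtPrime n)
    (TrivSqZeroExt.kerIdeal (B ⧸ n) (B ⧸ n)) (TrivSqZeroExt.kerIdeal_sq (B ⧸ n) (B ⧸ n))
  have hρ : (TrivSqZeroExt.fstHom (B ⧸ n) (B ⧸ n) (B ⧸ n)).toRingHom.comp Θ₀.toRingHom =
      (TrivSqZeroExt.fstHom (B ⧸ n) (B ⧸ n) (B ⧸ n)).toRingHom.comp Θ.toRingHom := by
    apply IsLocalization.ringHom_ext n.primeCompl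
    ext b
    show (Θ₀ (algebraMap B (Localization.AtPrime n) b)).fst =
      (Θ (algebraMap B (Localization.AtPrime n) b)).fst
    rw [hΘ₀, hΘ, hfst₀, hfst]
  have heq : Θ₀ = Θ := by
    apply hinj
    apply AlgHom.ext
    intro z
    show Ideal.Quotient.mk _ (Θ₀ z) = Ideal.Quotient.mk _ (Θ z)
    rw [Ideal.Quotient.eq]
    show Θ₀ z - Θ z ∈ RingHom.ker (TrivSqZeroExt.fstHom (B ⧸ n) (B ⧸ n) (B ⧸ n))
    rw [RingHom.mem_ker, map_sub, sub_eq_zero]
    exact RingHom.congr_fun hρ z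
  have h1 : θ₀ u = θ u := by
    rw [← hΘ₀, ← hΘ, heq]
  have h2 : θ u = θ₀ u + ε := by
    have := hθ X
    rw [aeval_X] at this
    rw [this]
    show aeval (θ₀ u + ε) (X : A[X]) = _
    rw [aeval_X]
  rw [h2] at h1
  have h3 := congrArg TrivSqZeroExt.snd h1
  simp [hθ₀, ε] at h3

theorem main (A B : Type u) [CommRing A] [IsLocalRing A] [CommRing B] [Algebra A B]
    [Module.Finite A B] (u : B) (hu : Algebra.adjoin A ({u} : Set B) = ⊤) :
    ∃ F : Polynomial A, F.Monic ∧ Polynomial.aeval u F = 0 ∧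
      ∀ (n : Ideal B) [n.IsMaximal], Algebra.IsUnramifiedAt A n →
        Polynomial.aeval u (Polynomial.derivative F) ∉ n := by
  obtain ⟨F, hF, hFu, hP⟩ := exists_F u hu
  refine ⟨F, hF, hFu, ?_⟩
  intro n _ hn hFn
  obtain ⟨G, hG, hGn⟩ := exists_deriv_notMem u hu n hn
  obtain ⟨H, R, hGFR, hR⟩ := hP G hG
  apply hGn
  haveI : Algebra.IsIntegral A B := Algebra.IsIntegral.of_finite A B
  have hcomap : n.comap (algebraMap A B) = maximalIdeal A :=
    IsLocalRing.eq_maximalIdeal (Ideal.isMaximal_comap_of_isIntegral_of_isMaximal n)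
  have hmn : ∀ a ∈ maximalIdeal A, ∀ b : B, a • b ∈ n := by
    intro a ha b
    rw [Algebra.smul_def]
    apply Ideal.mul_mem_right
    have h0 : a ∈ n.comap (algebraMap A B) := by rw [hcomap]; exact ha
    exact h0
  have hR' : aeval u (derivative R) ∈ n := by
    rw [aeval_eq_sum_range]
    refine Ideal.sum_mem _ (fun i _ => ?_)
    apply hmn
    rw [coeff_derivative]
    exact Ideal.mul_mem_right _ _ (hR (i + 1))
  rw [hGFR, derivative_add, derivative_mul, map_add, map_add, map_mul, map_mul, hFu, zero_mul,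
    add_zero]
  exact Ideal.add_mem _ (Ideal.mul_mem_right _ _ hFn) hR'

end Groth.Agent.Lib.MonogenicUnram
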