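import Mathlib

/-! Monogenic finite torsion-free algebras over integrally closed domains (lead). -/

namespace Groth.Agent.Lib.Monogenic

open scoped TensorProduct
open Polynomial

universe u

theorem monogenic_result
    (A : Type u) [CommRing A] [IsDomain A] [IsIntegrallyClosed A]
    (B : Type u) [CommRing B] [Algebra A B] [Module.Finite A B] [NoZeroSMulDivisors A B]
    (x : B) (hx : Algebra.adjoin A {x} = ⊤) :
    ∃ P : Polynomial A, P.Monic ∧
      Polynomial.map (algebraMap A (FractionRing A)) P =
        (LinearMap.mulLeft (FractionRing A) ((1 : FractionRing A) ⊗ₜ[A] x)).charpoly ∧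
      RingHom.ker (Polynomial.aeval x).toRingHom = Ideal.span {P} := by
  obtain ⟨φ, hφ⟩ : ∃ φ : B →ₐ[A] FractionRing A ⊗[A] B,
      φ = Algebra.TensorProduct.includeRight := ⟨_, rfl⟩
  have hφx : ∀ b, φ b = (1 : FractionRing A) ⊗ₜ[A] b := fun b => by rw [hφ]; rfl
  -- injectivity of φ
  have hloc : IsLocalizedModule (nonZeroDivisors A) (TensorProduct.mk A (FractionRing A) B 1) :=
    (isLocalizedModule_iff_isBaseChange (nonZeroDivisors A) (FractionRing A) _).mpr
      (TensorProduct.isBaseChange A B (FractionRing A))
  have hφinj : Function.Injective φ := by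
    rw [injective_iff_map_eq_zero]
    intro b hb
    rw [hφx] at hb
    have h1 : TensorProduct.mk A (FractionRing A) B 1 b = 0 := hb
    obtain ⟨s, hs⟩ := (IsLocalizedModule.eq_zero_iff (nonZeroDivisors A)
      (TensorProduct.mk A (FractionRing A) B 1)).mp h1
    have hs' : (s : A) • b = 0 := hs
    rcases smul_eq_zero.mp hs' with h | h
    · exact absurd h (nonZeroDivisors.ne_zero s.2)
    · exact h
  -- integrality
  have hxint : IsIntegral A x := Algebra.IsIntegral.isIntegral x
  have hxbarA : IsIntegral A (φ x) := hxint.map φ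
  have hxbar : IsIntegral (FractionRing A) (φ x) := hxbarA.tower_top
  -- aeval compatibility
  have haev : ∀ f : Polynomial A,
      Polynomial.aeval (φ x) (f.map (algebraMap A (FractionRing A))) = φ (Polynomial.aeval x f) := by
    intro f
    rw [Polynomial.aeval_map_algebraMap, Polynomial.aeval_algHom_apply]
  -- the minimal polynomial descends
  have hdvd : minpoly (FractionRing A) (φ x) ∣
      (minpoly A x).map (algebraMap A (FractionRing A)) := by
    apply minpoly.dvd
    rw [haev, minpoly.aeval, map_zero]
  obtain ⟨P, hP⟩ := IsIntegrallyClosed.eq_map_mul_C_of_dvd (FractionRing A)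
    (minpoly.monic hxint) hdvd
  have hμmonic : (minpoly (FractionRing A) (φ x)).Monic := minpoly.monic hxbar
  rw [hμmonic.leadingCoeff, Polynomial.C_1, mul_one] at hP
  have hPmonic : P.Monic := by
    apply Polynomial.monic_of_injective (IsFractionRing.injective A (FractionRing A))
    rw [hP]
    exact hμmonic
  -- generation over K
  have hb : ∀ b : B, φ b ∈ Algebra.adjoin (FractionRing A) {φ x} := by
    intro b
    have h1 : (Algebra.adjoin A {x}).map φ ≤
        (Algebra.adjoin (FractionRing A) {φ x}).restrictScalars A := by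
      rw [AlgHom.map_adjoin, Algebra.adjoin_le_iff]
      rintro _ ⟨y, hy, rfl⟩
      rw [Set.mem_singleton_iff.mp hy]
      exact Algebra.subset_adjoin (Set.mem_singleton _)
    have h2 : φ b ∈ (Algebra.adjoin A {x}).map φ :=
      Subalgebra.mem_map.mpr ⟨b, by rw [hx]; exact Algebra.mem_top, rfl⟩
    exact h1 h2
  have htop : Algebra.adjoin (FractionRing A) {φ x} = ⊤ := by
    rw [eq_top_iff]
    rintro t -
    induction t using TensorProduct.induction_on with
    | zero => exact Subalgebra.zero_mem _
    | tmul k b =>
      have e : k ⊗ₜ[A] b = k • ((1 : FractionRing A) ⊗ₜ[A] b) := by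
        rw [TensorProduct.smul_tmul', smul_eq_mul, mul_one]
      rw [e, ← hφx]
      exact Subalgebra.smul_mem _ (hb b) k
    | add s t hs ht => exact Subalgebra.add_mem _ hs ht
  -- charpoly = minpoly
  have hchar : (LinearMap.mulLeft (FractionRing A) (φ x)).charpoly =
      minpoly (FractionRing A) (φ x) := by
    have h1 := charpoly_leftMulMatrix (PowerBasis.ofAdjoinEqTop hxbar htop)
    rw [PowerBasis.ofAdjoinEqTop_gen, Algebra.leftMulMatrix_apply,
      LinearMap.charpoly_toMatrix] at h1
    rw [← h1]
    congr 1
  refine ⟨P, hPmonic, ?_, ?_⟩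
  · rw [hP, ← hφx, hchar]
  · ext f
    rw [RingHom.mem_ker, Ideal.mem_span_singleton]
    show Polynomial.aeval x f = 0 ↔ P ∣ f
    constructor
    · intro hf
      have h1 : minpoly (FractionRing A) (φ x) ∣ f.map (algebraMap A (FractionRing A)) := by
        apply minpoly.dvd
        rw [haev, hf, map_zero]
      rw [← hP] at h1
      exact (Polynomial.map_dvd_map (algebraMap A (FractionRing A))
        (IsFractionRing.injective A (FractionRing A)) hPmonic).mp h1
    · rintro ⟨g, rfl⟩
      have hP0 : Polynomial.aeval x P = 0 := by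
        apply hφinj
        rw [← haev, hP, minpoly.aeval, map_zero]
      rw [map_mul, hP0, zero_mul]

end Groth.Agent.Lib.Monogenic
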