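import Mathlib
import Groth.Prelude

set_option autoImplicit false
set_option linter.style.haveILetI false
set_option linter.unusedVariables false

universe u

open CategoryTheory CategoryTheory.Limits AlgebraicGeometry

namespace Groth.Agent.Lib.MorSCoprodH4

variable {S Y : Scheme.{u}} {ι : Type u} [Finite ι] (X : ι → Scheme.{u}) (g : ∀ i, X i ⟶ S)
  (T : Over S)

noncomputable abbrev inc (i : ι) : pullback T.hom (g i) ⟶ pullback T.hom (Sigma.desc g) :=
  pullback.map T.hom (g i) T.hom (Sigma.desc g) (𝟙 T.left) (Sigma.ι X i) (𝟙 S)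
    ((Category.comp_id _).trans (Category.id_comp _).symm)
    ((Category.comp_id _).trans (Sigma.ι_desc g i).symm)

theorem inc_fst (i : ι) :
    inc X g T i ≫ pullback.fst T.hom (Sigma.desc g) = pullback.fst T.hom (g i) := by
  rw [inc, pullback.lift_fst, Category.comp_id]

theorem inc_snd (i : ι) :
    inc X g T i ≫ pullback.snd T.hom (Sigma.desc g) = pullback.snd T.hom (g i) ≫ Sigma.ι X i := by
  rw [inc, pullback.lift_snd]

theorem isPullback_inc (i : ι) :
    IsPullback (inc X g T i) (pullback.snd T.hom (g i)) (pullback.snd T.hom (Sigma.desc g))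
      (Sigma.ι X i) := by
  refine IsPullback.of_right ?_ (inc_snd X g T i) (IsPullback.of_hasPullback T.hom (Sigma.desc g))
  rw [inc_fst, Sigma.ι_desc]
  exact IsPullback.of_hasPullback T.hom (g i)

noncomputable def cofanT : Cofan (fun i => pullback T.hom (g i)) :=
  Cofan.mk (pullback T.hom (Sigma.desc g)) (inc X g T)

theorem isColimit_cofanT : Nonempty (IsColimit (cofanT X g T)) := by
  have hvk := FinitaryExtensive.isVanKampen_finiteCoproducts (coproductIsCoproduct X)
  refine (hvk (cofanT X g T) (Discrete.natTrans fun i => pullback.snd T.hom (g i.as))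
    (pullback.snd T.hom (Sigma.desc g)) ?_ (NatTrans.Equifibered.of_discrete _)).mpr ?_
  · ext ⟨i⟩
    exact (inc_snd X g T i).symm
  · rintro ⟨i⟩
    exact isPullback_inc X g T i

theorem main (gY : Y ⟶ S) (a : ∀ i, (Flatn.morS (g i) gY).obj (Opposite.op T)) :
    ∃! b : (Flatn.morS (Sigma.desc g) gY).obj (Opposite.op T),
      ∀ i, inc X g T i ≫ b.left = (a i).left := by
  obtain ⟨hc⟩ := isColimit_cofanT X g T
  let bl : pullback T.hom (Sigma.desc g) ⟶ Y :=
    Cofan.IsColimit.desc hc (fun i => (a i).left)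
  have hbl : ∀ i, inc X g T i ≫ bl = (a i).left := fun i => Cofan.IsColimit.fac hc _ i
  have hw : bl ≫ gY = pullback.snd T.hom (Sigma.desc g) ≫ Sigma.desc g := by
    refine Cofan.IsColimit.hom_ext hc _ _ (fun i => ?_)
    show inc X g T i ≫ bl ≫ gY = inc X g T i ≫ pullback.snd _ _ ≫ Sigma.desc g
    rw [← Category.assoc, hbl, ← Category.assoc, inc_snd, Category.assoc, Sigma.ι_desc]
    exact Over.w (a i)
  refine ⟨Over.homMk bl hw, fun i => hbl i, ?_⟩
  intro b' hb'
  apply Over.OverMorphism.ext
  refine Cofan.IsColimit.hom_ext hc _ _ (fun i => ?_)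
  show inc X g T i ≫ b'.left = inc X g T i ≫ bl
  rw [hb' i, hbl i]

end Groth.Agent.Lib.MorSCoprodH4
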