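import Mathlib

set_option autoImplicit false
set_option linter.style.haveILetI false
set_option linter.unusedSectionVars false

universe u v₁ v₂ u₁ u₂

namespace Groth.Agent.Lib.MoritaCommH4

open CategoryTheory CategoryTheory.Limits

section Center

variable (A : Type u) [CommRing A]

lemma toCatCenter_injective :
    Function.Injective (Linear.toCatCenter A (ModuleCat.{u} A)) := by
  intro a b h
  have h1 := congrArg
    (fun z : CatCenter (ModuleCat.{u} A) => (z.app (ModuleCat.of A A)).hom (1 : A)) h
  simpa using h1

lemma toCatCenter_surjective :
    Function.Surjective (Linear.toCatCenter A (ModuleCat.{u} A)) := by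
  intro z
  refine ⟨(z.app (ModuleCat.of A A)).hom (1 : A), ?_⟩
  apply CatCenter.ext
  intro M
  apply ModuleCat.hom_ext
  apply LinearMap.ext
  intro m
  let φ : ModuleCat.of A A ⟶ M := ModuleCat.ofHom (LinearMap.toSpanSingleton A M m)
  have hnat : φ ≫ z.app M = z.app (ModuleCat.of A A) ≫ φ := CatCenter.naturality z φ
  have h2 := congrArg (fun f : ModuleCat.of A A ⟶ M => f.hom (1 : A)) hnat
  simp [φ] at h2 ⊢
  exact h2.symm

end Center

section Transport

variable {C : Type u₁} [Category.{v₁} C] [Preadditive C] {D : Type u₂} [Category.{v₂} D]
  [Preadditive D] (e : C ≌ D)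

/-- pull back a central element along an equivalence -/
noncomputable def pull (w : CatCenter D) : CatCenter C where
  app X := e.functor.preimage (w.app (e.functor.obj X))
  naturality X Y f := by
    apply e.functor.map_injective
    simp only [Functor.id_obj, Functor.id_map, Functor.map_comp, Functor.map_preimage]
    exact (CatCenter.naturality w (e.functor.map f))

lemma map_pull_app (w : CatCenter D) (X : C) :
    e.functor.map ((pull e w).app X) = w.app (e.functor.obj X) :=
  Functor.map_preimage _ _

/-- push a central element along an equivalence -/
noncomputable def push (z : CatCenter C) : CatCenter D where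
  app Y := e.counitInv.app Y ≫ e.functor.map (z.app (e.inverse.obj Y)) ≫ e.counit.app Y
  naturality Y Y' g := by
    have h1 := CatCenter.naturality z (e.inverse.map g)
    have h2 := e.counitInv.naturality g
    have h3 := e.counit.naturality g
    dsimp only [Functor.id_obj, Functor.id_map, Functor.comp_obj, Functor.comp_map] at h1 h2 h3 ⊢
    rw [reassoc_of% h2, Category.assoc, Category.assoc, ← h3, ← e.functor.map_comp_assoc, h1,
      e.functor.map_comp_assoc]

lemma push_app_functor (z : CatCenter C) (X : C) :
    (push e z).app (e.functor.obj X) = e.functor.map (z.app X) := by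
  have h := CatCenter.naturality z (e.unit.app X)
  dsimp only [Functor.id_obj, Functor.comp_obj] at h
  change e.counitInv.app _ ≫ e.functor.map (z.app _) ≫ e.counit.app _ = _
  rw [e.counitInv_app_functor, e.counit_app_functor, ← Functor.map_comp, ← Functor.map_comp,
    reassoc_of% h]
  simp

variable [e.functor.Additive]

/-- an additive equivalence induces a ring isomorphism of centers -/
noncomputable def centerEquiv : CatCenter D ≃+* CatCenter C where
  toFun := pull e
  invFun := push e
  left_inv w := by
    apply CatCenter.ext
    intro Y
    change e.counitInv.app Y ≫ e.functor.map (e.functor.preimage (w.app _)) ≫ e.counit.app Y =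
      w.app Y
    rw [Functor.map_preimage]
    have := CatCenter.naturality w (e.counit.app Y)
    dsimp only [Functor.id_obj, Functor.comp_obj] at this
    rw [← this, Iso.inv_hom_id_app_assoc]
  right_inv z := by
    apply CatCenter.ext
    intro X
    apply e.functor.map_injective
    rw [map_pull_app, push_app_functor]
  map_mul' w w' := by
    apply CatCenter.ext
    intro X
    apply e.functor.map_injective
    rw [map_pull_app, CatCenter.mul_app, CatCenter.mul_app, Functor.map_comp, map_pull_app,
      map_pull_app]
  map_add' w w' := by
    apply CatCenter.ext
    intro X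
    apply e.functor.map_injective
    rw [map_pull_app, CatCenter.app_add, CatCenter.app_add, Functor.map_add, map_pull_app,
      map_pull_app]

end Transport

theorem main (A B : Type u) [CommRing A] [CommRing B]
    (F : ModuleCat.{u} A ≌ ModuleCat.{u} B) : Nonempty (A ≃+* B) := by
  haveI : F.functor.Additive := Functor.additive_of_preserves_binary_products _
  let eA := RingEquiv.ofBijective (Linear.toCatCenter A (ModuleCat.{u} A))
    ⟨toCatCenter_injective A, toCatCenter_surjective A⟩
  let eB := RingEquiv.ofBijective (Linear.toCatCenter B (ModuleCat.{u} B))
    ⟨toCatCenter_injective B, toCatCenter_surjective B⟩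
  exact ⟨eA.trans ((centerEquiv F).symm.trans eB.symm)⟩

end Groth.Agent.Lib.MoritaCommH4
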