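import Mathlib

set_option autoImplicit false

/-!
# Isomorphisms of endomorphism algebras of progenerators (helper3)

For finitely generated projective faithfully flat modules `F`, `G` over a commutative ring `A` and
an `A`-algebra isomorphism `φ : End F ≃ End G`, the module `L` of `End F`-linear maps `F → G`
(through `φ`) is invertible and evaluation `F ⊗ L → G` is an isomorphism inducing `φ`.
-/

namespace Groth.Agent.Lib.MoritaEndH3

open TensorProduct

universe u

variable {A : Type u} [CommRing A] {F : Type u} [AddCommGroup F] [Module A F]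
variable {N : Type u} [AddCommGroup N] [Module A N]

/-- `End F`-linear maps `F → N`, where `End F` acts on `N` through `ρ` -/
def H (ρ : Module.End A F →ₐ[A] Module.End A N) : Submodule A (F →ₗ[A] N) where
  carrier := {ξ | ∀ f : Module.End A F, ξ ∘ₗ f = ρ f ∘ₗ ξ}
  add_mem' := by
    intro a b ha hb f
    rw [LinearMap.add_comp, LinearMap.comp_add, ha f, hb f]
  zero_mem' := by
    intro f
    rw [LinearMap.zero_comp, LinearMap.comp_zero]
  smul_mem' := by
    intro c a ha f
    rw [LinearMap.smul_comp, LinearMap.comp_smul, ha f]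

theorem H_apply {ρ : Module.End A F →ₐ[A] Module.End A N} (ξ : H ρ) (f : Module.End A F)
    (x : F) : (ξ : F →ₗ[A] N) (f x) = ρ f ((ξ : F →ₗ[A] N) x) :=
  LinearMap.congr_fun (ξ.2 f) x

/-- evaluation `F ⊗ H → N` -/
noncomputable def ev (ρ : Module.End A F →ₐ[A] Module.End A N) : F ⊗[A] H ρ →ₗ[A] N :=
  TensorProduct.lift (LinearMap.mk₂ A (fun (x : F) (ξ : H ρ) => (ξ : F →ₗ[A] N) x)
    (by intro x y ξ; exact map_add _ x y)
    (by intro c x ξ; exact map_smul _ c x)
    (by intro x ξ η; rfl)
    (by intro c x ξ; rfl))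

theorem ev_tmul (ρ : Module.End A F →ₐ[A] Module.End A N) (x : F) (ξ : H ρ) :
    ev ρ (x ⊗ₜ[A] ξ) = (ξ : F →ₗ[A] N) x := by
  unfold ev
  rw [TensorProduct.lift.tmul]
  rfl

theorem ev_intertwine (ρ : Module.End A F →ₐ[A] Module.End A N) (f : Module.End A F)
    (t : F ⊗[A] H ρ) : ev ρ (LinearMap.rTensor _ f t) = ρ f (ev ρ t) := by
  induction t using TensorProduct.induction_on with
  | zero => rw [map_zero, map_zero, map_zero]
  | tmul x ξ => rw [LinearMap.rTensor_tmul, ev_tmul, ev_tmul, H_apply]
  | add a b ha hb => rw [map_add, map_add, map_add, map_add, ha, hb]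

theorem smulRight_apply_eq (μ : Module.Dual A F) (f : Module.End A F) (y : F) :
    LinearMap.smulRight μ (f y) = f * LinearMap.smulRight μ y := by
  ext w
  rw [Module.End.mul_apply, LinearMap.smulRight_apply, LinearMap.smulRight_apply, map_smul]

/-- for `n : N` and `μ : Dual F`, the `End F`-linear map `y ↦ ρ(μ(·)y) n` -/
noncomputable def xi (ρ : Module.End A F →ₐ[A] Module.End A N) (μ : Module.Dual A F) (n : N) :
    H ρ :=
  ⟨{ toFun := fun y => ρ (LinearMap.smulRight μ y) n
     map_add' := fun y z => by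
       have : LinearMap.smulRight μ (y + z) = LinearMap.smulRight μ y + LinearMap.smulRight μ z := by
         ext w
         simp
       rw [this, map_add, LinearMap.add_apply]
     map_smul' := fun c y => by
       have : LinearMap.smulRight μ (c • y) = c • LinearMap.smulRight μ y := by
         ext w
         rw [LinearMap.smul_apply, LinearMap.smulRight_apply, LinearMap.smulRight_apply, smul_comm]
       rw [this, map_smul, LinearMap.smul_apply, RingHom.id_apply] }, by
    intro f
    ext y
    change ρ (LinearMap.smulRight μ (f y)) n = ρ f (ρ (LinearMap.smulRight μ y) n)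
    rw [smulRight_apply_eq, map_mul, Module.End.mul_apply]⟩

theorem xi_apply (ρ : Module.End A F →ₐ[A] Module.End A N) (μ : Module.Dual A F) (n : N) (y : F) :
    (xi ρ μ n : F →ₗ[A] N) y = ρ (LinearMap.smulRight μ y) n := rfl

/-- `xi` as a linear map in `n` -/
noncomputable def Xi (ρ : Module.End A F →ₐ[A] Module.End A N) (μ : Module.Dual A F) :
    N →ₗ[A] H ρ where
  toFun n := xi ρ μ n
  map_add' n n' := by
    apply Subtype.ext
    ext y
    change ρ (LinearMap.smulRight μ y) (n + n') = ρ (LinearMap.smulRight μ y) n +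
      ρ (LinearMap.smulRight μ y) n'
    rw [map_add]
  map_smul' c n := by
    apply Subtype.ext
    ext y
    change ρ (LinearMap.smulRight μ y) (c • n) = c • ρ (LinearMap.smulRight μ y) n
    rw [map_smul]

theorem xi_of_apply (ρ : Module.End A F →ₐ[A] Module.End A N) (μ : Module.Dual A F) (ξ : H ρ)
    (x : F) : xi ρ μ ((ξ : F →ₗ[A] N) x) = μ x • ξ := by
  apply Subtype.ext
  ext y
  rw [xi_apply, ← H_apply, LinearMap.smulRight_apply, map_smul]
  rfl

section DualBasis

variable [Module.Finite A F] [Module.Projective A F]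

theorem exists_dualBasis : ∃ (k : ℕ) (y : Fin k → F) (μ : Fin k → Module.Dual A F),
    ∀ x : F, ∑ j, μ j x • y j = x := by
  obtain ⟨k, p, q, -, -, hpq⟩ := Module.Finite.exists_comp_eq_id_of_projective A F
  refine ⟨k, fun j => p (Pi.single j 1), fun j => LinearMap.proj j ∘ₗ q, fun x => ?_⟩
  have h1 : q x = ∑ j, q x j • (Pi.single j 1 : Fin k → A) := by
    funext i
    simp [Finset.sum_apply, Pi.single_apply]
  have h2 : p (q x) = x := LinearMap.congr_fun hpq x
  conv_rhs => rw [← h2, h1, map_sum]
  refine Finset.sum_congr rfl fun j _ => ?_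
  rw [map_smul]
  rfl

theorem ev_bijective (ρ : Module.End A F →ₐ[A] Module.End A N) : Function.Bijective (ev ρ) := by
  obtain ⟨k, y, μ, hdb⟩ := exists_dualBasis (A := A) (F := F)
  have hone : ∑ j, LinearMap.smulRight (μ j) (y j) = (1 : Module.End A F) := by
    ext x
    rw [LinearMap.sum_apply]
    simp only [LinearMap.smulRight_apply]
    exact hdb x
  set inv : N →ₗ[A] F ⊗[A] H ρ := ∑ j, (TensorProduct.mk A F (H ρ) (y j)) ∘ₗ (Xi ρ (μ j))
    with hinv
  have hinv_apply : ∀ n, inv n = ∑ j, y j ⊗ₜ[A] xi ρ (μ j) n := by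
    intro n
    rw [hinv, LinearMap.sum_apply]
    rfl
  have h1 : ∀ n, ev ρ (inv n) = n := by
    intro n
    rw [hinv_apply, map_sum]
    simp only [ev_tmul, xi_apply]
    rw [← LinearMap.sum_apply, ← map_sum, hone, map_one]
    rfl
  have h2 : ∀ t, inv (ev ρ t) = t := by
    intro t
    induction t using TensorProduct.induction_on with
    | zero => rw [map_zero, map_zero]
    | tmul x ξ =>
      rw [ev_tmul, hinv_apply]
      simp only [xi_of_apply, TensorProduct.tmul_smul, TensorProduct.smul_tmul']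
      rw [← TensorProduct.sum_tmul, hdb]
    | add a b ha hb => rw [map_add, map_add, ha, hb]
  exact ⟨Function.LeftInverse.injective h2, Function.RightInverse.surjective h1⟩

end DualBasis

section Generator

variable [Module.Finite A F] [Module.Projective A F] [Module.FaithfullyFlat A F]

theorem exists_gen : ∃ (k : ℕ) (lam : Fin k → Module.Dual A F) (x : Fin k → F),
    ∑ i, lam i (x i) = 1 := by
  set S : Set A := {a | ∃ (l : Module.Dual A F) (x : F), l x = a} with hS
  have htop : Ideal.span S = ⊤ := by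
    by_contra hne
    obtain ⟨m, hm, hle⟩ := Ideal.exists_le_maximal _ hne
    obtain ⟨k, y, μ, hdb⟩ := exists_dualBasis (A := A) (F := F)
    apply Module.FaithfullyFlat.submodule_ne_top (R := A) (M := F) hm
    rw [eq_top_iff]
    intro x _
    rw [← hdb x]
    refine Submodule.sum_mem _ fun j _ => ?_
    exact Submodule.smul_mem_smul (hle (Ideal.subset_span ⟨μ j, x, rfl⟩)) Submodule.mem_top
  have h1 : (1 : A) ∈ Submodule.span A S := by
    change (1 : A) ∈ Ideal.span S
    rw [htop]
    exact Submodule.mem_top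
  obtain ⟨k, c, g, hsum⟩ := Submodule.mem_span_set'.mp h1
  have hg : ∀ i, ∃ (l : Module.Dual A F) (x : F), l x = (g i : A) := fun i => (g i).2
  choose l x hlx using hg
  refine ⟨k, fun i => c i • l i, x, ?_⟩
  rw [← hsum]
  refine Finset.sum_congr rfl fun i _ => ?_
  rw [LinearMap.smul_apply, hlx]

variable {P : Type u} [AddCommGroup P] [Module A P]
  (ρ : Module.End A F →ₐ[A] Module.End A N) (θ : F ⊗[A] P ≃ₗ[A] N)
  (hθ : ∀ (f : Module.End A F) (t : F ⊗[A] P), θ (LinearMap.rTensor P f t) = ρ f (θ t))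

/-- `l ↦ (x ↦ θ (x ⊗ l))` -/
noncomputable def jmap : P →ₗ[A] H ρ where
  toFun l := ⟨θ.toLinearMap ∘ₗ (TensorProduct.mk A F P).flip l, by
    intro f
    ext x
    change θ ((f x) ⊗ₜ[A] l) = ρ f (θ (x ⊗ₜ[A] l))
    rw [← hθ, LinearMap.rTensor_tmul]⟩
  map_add' l l' := by
    apply Subtype.ext
    ext x
    change θ (x ⊗ₜ[A] (l + l')) = θ (x ⊗ₜ[A] l) + θ (x ⊗ₜ[A] l')
    rw [TensorProduct.tmul_add, map_add]
  map_smul' c l := by
    apply Subtype.ext
    ext x
    change θ (x ⊗ₜ[A] (c • l)) = c • θ (x ⊗ₜ[A] l)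
    rw [TensorProduct.tmul_smul, map_smul]

theorem jmap_apply (l : P) (x : F) : (jmap ρ θ hθ l : F →ₗ[A] N) x = θ (x ⊗ₜ[A] l) := rfl

theorem key_tmul (lam : Module.Dual A F) (y : F) (t : F ⊗[A] P) :
    y ⊗ₜ[A] (TensorProduct.lid A P (LinearMap.rTensor P lam t)) =
      LinearMap.rTensor P (LinearMap.smulRight lam y) t := by
  induction t using TensorProduct.induction_on with
  | zero => simp
  | tmul z p =>
    rw [LinearMap.rTensor_tmul, LinearMap.rTensor_tmul, TensorProduct.lid_tmul,
      LinearMap.smulRight_apply, TensorProduct.tmul_smul, TensorProduct.smul_tmul']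
  | add a b ha hb =>
    rw [map_add, map_add, TensorProduct.tmul_add, ha, hb, map_add]

theorem jmap_bijective : Function.Bijective (jmap ρ θ hθ) := by
  obtain ⟨k, lam, x, hgen⟩ := exists_gen (A := A) (F := F)
  set r : H ρ → P := fun ξ => ∑ i, TensorProduct.lid A P
    (LinearMap.rTensor P (lam i) (θ.symm ((ξ : F →ₗ[A] N) (x i)))) with hr
  have h1 : ∀ l, r (jmap ρ θ hθ l) = l := by
    intro l
    rw [hr]
    simp only [jmap_apply, LinearEquiv.symm_apply_apply, LinearMap.rTensor_tmul,
      TensorProduct.lid_tmul]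
    rw [← Finset.sum_smul, hgen, one_smul]
  refine ⟨Function.LeftInverse.injective h1, fun ξ => ⟨r ξ, ?_⟩⟩
  apply Subtype.ext
  ext y
  rw [jmap_apply, hr]
  simp only [TensorProduct.tmul_sum, key_tmul, map_sum, hθ, LinearEquiv.apply_symm_apply]
  simp only [← H_apply, LinearMap.smulRight_apply]
  rw [← map_sum, ← Finset.sum_smul, hgen, one_smul]

end Generator

section Main

variable {G : Type u} [AddCommGroup G] [Module A G]
  [Module.Finite A F] [Module.Projective A F] [Module.FaithfullyFlat A F]
  [Module.Finite A G] [Module.Projective A G] [Module.FaithfullyFlat A G]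

theorem main (φ : Module.End A F ≃ₐ[A] Module.End A G) :
    ∃ (L : Type u) (_ : AddCommGroup L) (_ : Module A L), Module.Invertible A L ∧
      ∃ ξ : F ⊗[A] L ≃ₗ[A] G, ∀ f : Module.End A F,
        φ f = ξ.conj (TensorProduct.map f LinearMap.id) := by
  set ρ : Module.End A F →ₐ[A] Module.End A G := (φ : Module.End A F →ₐ[A] Module.End A G)
    with hρ
  set ρ' : Module.End A G →ₐ[A] Module.End A F :=
    (φ.symm : Module.End A G →ₐ[A] Module.End A F) with hρ'
  have hρ_apply : ∀ f, ρ f = φ f := fun f => rfl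
  have hρ'_apply : ∀ g, ρ' g = φ.symm g := fun g => rfl
  set ξ₁ : F ⊗[A] H ρ ≃ₗ[A] G := LinearEquiv.ofBijective (ev ρ) (ev_bijective ρ) with hξ₁
  set ξ₂ : G ⊗[A] H ρ' ≃ₗ[A] F := LinearEquiv.ofBijective (ev ρ') (ev_bijective ρ') with hξ₂
  refine ⟨H ρ, inferInstance, inferInstance, ?_, ξ₁, ?_⟩
  · -- invertibility
    set θ : F ⊗[A] (H ρ ⊗[A] H ρ') ≃ₗ[A] F :=
      (TensorProduct.assoc A F (H ρ) (H ρ')).symm ≪≫ₗ
        (TensorProduct.congr ξ₁ (LinearEquiv.refl A (H ρ'))) ≪≫ₗ ξ₂ with hθdef
    have hθ_tmul : ∀ (x : F) (l : H ρ) (l' : H ρ'),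
        θ (x ⊗ₜ[A] (l ⊗ₜ[A] l')) = (l' : G →ₗ[A] F) ((l : F →ₗ[A] G) x) := by
      intro x l l'
      rw [hθdef]
      simp only [LinearEquiv.trans_apply, TensorProduct.assoc_symm_tmul, TensorProduct.congr_tmul,
        LinearEquiv.refl_apply]
      rw [hξ₁, hξ₂, LinearEquiv.ofBijective_apply, LinearEquiv.ofBijective_apply, ev_tmul, ev_tmul]
    have hθ : ∀ (f : Module.End A F) (t : F ⊗[A] (H ρ ⊗[A] H ρ')),
        θ (LinearMap.rTensor _ f t) = (AlgHom.id A (Module.End A F)) f (θ t) := by
      intro f t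
      rw [AlgHom.id_apply]
      induction t using TensorProduct.induction_on with
      | zero => rw [map_zero, map_zero, map_zero]
      | add a b ha hb => simp only [map_add, ha, hb]
      | tmul x w =>
        induction w using TensorProduct.induction_on with
        | zero => rw [TensorProduct.tmul_zero, map_zero, map_zero, map_zero]
        | add a b ha hb =>
          simp only [TensorProduct.tmul_add, map_add, ha, hb]
        | tmul l l' =>
          rw [LinearMap.rTensor_tmul, hθ_tmul, hθ_tmul, H_apply, H_apply, hρ_apply, hρ'_apply,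
            AlgEquiv.symm_apply_apply]
    have hrid : ∀ (f : Module.End A F) (t : F ⊗[A] A),
        (TensorProduct.rid A F) (LinearMap.rTensor _ f t) =
          (AlgHom.id A (Module.End A F)) f ((TensorProduct.rid A F) t) := by
      intro f t
      rw [AlgHom.id_apply]
      induction t using TensorProduct.induction_on with
      | zero => rw [map_zero, map_zero, map_zero]
      | add a b ha hb => simp only [map_add, ha, hb]
      | tmul x a =>
        rw [LinearMap.rTensor_tmul, TensorProduct.rid_tmul, TensorProduct.rid_tmul, map_smul]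
    have hb₁ := jmap_bijective (P := H ρ ⊗[A] H ρ') (AlgHom.id A (Module.End A F)) θ hθ
    have hb₂ := jmap_bijective (P := A) (AlgHom.id A (Module.End A F)) (TensorProduct.rid A F) hrid
    have e₁ : (H ρ ⊗[A] H ρ') ≃ₗ[A] H (AlgHom.id A (Module.End A F)) :=
      LinearEquiv.ofBijective _ hb₁
    have e₂ : A ≃ₗ[A] H (AlgHom.id A (Module.End A F)) :=
      LinearEquiv.ofBijective _ hb₂
    exact Module.Invertible.left (e₁ ≪≫ₗ e₂.symm)
  · intro f
    ext g
    rw [LinearEquiv.conj_apply]
    change φ f g = ξ₁ (LinearMap.rTensor _ f (ξ₁.symm g))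
    have := ev_intertwine ρ f (ξ₁.symm g)
    rw [hρ_apply] at this
    have h2 : ev ρ (ξ₁.symm g) = g := ξ₁.apply_symm_apply g
    rw [h2] at this
    exact this.symm

end Main

end Groth.Agent.Lib.MoritaEndH3
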