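import Mathlib

/-!
# Finitely generated projective modules over a strongly local ring are determined by their
endomorphism rings (helper1)
-/

set_option autoImplicit false
universe u v

namespace Groth.Agent.Lib.MoritaLenH1

open Module

section PartI

variable {A : Type u} [Ring A]

/-- `J • P` for `J` the Jacobson radical. -/
abbrev JP (P : Type v) [AddCommGroup P] [Module A P] : Submodule A P :=
  Ring.jacobson A • (⊤ : Submodule A P)

variable {P : Type v} [AddCommGroup P] [Module A P] {Q : Type v} [AddCommGroup Q] [Module A Q]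

theorem map_JP_le (g : P →ₗ[A] Q) : (JP (A := A) P).map g ≤ JP Q := by
  unfold JP
  rw [Submodule.map_smul'']
  exact Submodule.smul_mono le_rfl le_top

theorem JP_le_comap (g : P →ₗ[A] Q) : JP (A := A) P ≤ (JP Q).comap g :=
  Submodule.map_le_iff_le_comap.mp (map_JP_le g)

theorem eq_top_of_sup_JP [Module.Finite A P] (N : Submodule A P) (h : N ⊔ JP P = ⊤) : N = ⊤ := by
  have hfg : (⊤ : Submodule A (P ⧸ N)).FG := Module.Finite.fg_top
  have hle : (⊤ : Submodule A (P ⧸ N)) ≤ Ring.jacobson A • (⊤ : Submodule A (P ⧸ N)) := by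
    have h1 : (JP (A := A) P).map N.mkQ = ⊤ := by
      have := congrArg (Submodule.map N.mkQ) h
      rw [Submodule.map_sup, Submodule.map_top, Submodule.range_mkQ, Submodule.mkQ_map_self,
        bot_sup_eq] at this
      exact this
    calc (⊤ : Submodule A (P ⧸ N)) = (JP (A := A) P).map N.mkQ := h1.symm
      _ ≤ JP (P ⧸ N) := map_JP_le N.mkQ
  have h2 := Submodule.FG.eq_bot_of_le_jacobson_smul hfg hle
  rw [← Submodule.Quotient.subsingleton_iff]
  exact (Submodule.subsingleton_iff A).mp (subsingleton_of_bot_eq_top h2.symm)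

/-- `u ≡ 1` modulo `J P`. -/
def CongOne (u : P →ₗ[A] P) : Prop := ∀ x, u x - x ∈ JP (A := A) P

theorem surjective_of_congOne [Module.Finite A P] (u : P →ₗ[A] P) (hu : CongOne u) :
    Function.Surjective u := by
  rw [← LinearMap.range_eq_top]
  apply eq_top_of_sup_JP
  rw [eq_top_iff]
  intro x _
  have hx : x = u x - (u x - x) := by abel
  rw [hx]
  exact Submodule.sub_mem _ (Submodule.mem_sup_left ⟨x, rfl⟩) (Submodule.mem_sup_right (hu x))

theorem bijective_of_congOne [Module.Finite A P] [Module.Projective A P] (u : P →ₗ[A] P)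
    (hu : CongOne u) : Function.Bijective u := by
  have hs := surjective_of_congOne u hu
  obtain ⟨s, hs'⟩ := Module.projective_lifting_property u LinearMap.id hs
  have hus : ∀ x, u (s x) = x := fun x => LinearMap.congr_fun hs' x
  have hsc : CongOne s := by
    intro x
    have h1 := hu (s x)
    rw [hus] at h1
    have h2 : s x - x = -(x - s x) := by abel
    rw [h2]
    exact Submodule.neg_mem _ h1
  have hss := surjective_of_congOne s hsc
  refine ⟨?_, hs⟩
  intro x y hxy
  obtain ⟨x', rfl⟩ := hss x
  obtain ⟨y', rfl⟩ := hss y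
  rw [hus, hus] at hxy
  rw [hxy]

variable (P) in
/-- reduction of endomorphisms modulo the radical -/
noncomputable def rho : Module.End A P →+* Module.End A (P ⧸ JP (A := A) P) where
  toFun g := (JP P).mapQ (JP P) g (JP_le_comap g)
  map_one' := by
    apply Submodule.linearMap_qext
    ext x
    rfl
  map_mul' g h := by
    apply Submodule.linearMap_qext
    ext x
    rfl
  map_zero' := by
    apply Submodule.linearMap_qext
    ext x
    rfl
  map_add' g h := by
    apply Submodule.linearMap_qext
    ext x
    rfl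

theorem rho_apply_mk (g : Module.End A P) (x : P) :
    rho P g (Submodule.Quotient.mk x) = Submodule.Quotient.mk (g x) := rfl

theorem rho_eq_zero_iff (g : Module.End A P) : rho P g = 0 ↔ ∀ x, g x ∈ JP (A := A) P := by
  constructor
  · intro h x
    have h1 := LinearMap.congr_fun h (Submodule.Quotient.mk x)
    rw [rho_apply_mk, LinearMap.zero_apply] at h1
    exact (Submodule.Quotient.mk_eq_zero _).mp h1
  · intro h
    apply Submodule.linearMap_qext
    ext x
    exact (Submodule.Quotient.mk_eq_zero _).mpr (h x)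

theorem rho_surjective [Module.Projective A P] : Function.Surjective (rho (A := A) P) := by
  intro ψ
  obtain ⟨g, hg⟩ := Module.projective_lifting_property (JP (A := A) P).mkQ
    (ψ ∘ₗ (JP (A := A) P).mkQ) (Submodule.mkQ_surjective _)
  refine ⟨g, ?_⟩
  apply Submodule.linearMap_qext
  ext x
  exact LinearMap.congr_fun hg x

theorem mem_jacobson_of_rho_eq_zero [Module.Finite A P] [Module.Projective A P]
    (h : Module.End A P) (hh : rho P h = 0) : h ∈ Ring.jacobson (Module.End A P) := by
  rw [← Ideal.jacobson_bot, Ideal.mem_jacobson_iff]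
  intro y
  have hu : CongOne (y * h + 1 : Module.End A P) := by
    intro x
    have h1 : (y * h + 1 : Module.End A P) x - x = y (h x) := by
      rw [LinearMap.add_apply, Module.End.mul_apply, Module.End.one_apply, add_sub_cancel_right]
    rw [h1]
    exact JP_le_comap y ((rho_eq_zero_iff h).mp hh x)
  have hb := bijective_of_congOne _ hu
  obtain ⟨eq, heq⟩ : ∃ eq : P ≃ₗ[A] P, ∀ x, eq x = (y * h + 1 : Module.End A P) x :=
    ⟨LinearEquiv.ofBijective _ hb, fun x => rfl⟩
  refine ⟨eq.symm.toLinearMap, ?_⟩
  rw [Submodule.mem_bot]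
  have h2 : (eq.symm.toLinearMap : Module.End A P) * (y * h + 1) = 1 := by
    ext x
    rw [Module.End.mul_apply, Module.End.one_apply, ← heq]
    exact eq.symm_apply_apply x
  have h3 : (eq.symm.toLinearMap : Module.End A P) * y * h + eq.symm.toLinearMap - 1 =
      (eq.symm.toLinearMap : Module.End A P) * (y * h + 1) - 1 := by
    rw [mul_add, mul_one, mul_assoc]
  rw [h3, h2, sub_self]

theorem rho_eq_zero_of_mem_jacobson [IsSemisimpleModule A (P ⧸ JP (A := A) P)]
    [Module.Finite A P] [Module.Projective A P]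
    (h : Module.End A P) (hh : h ∈ Ring.jacobson (Module.End A P)) : rho P h = 0 := by
  haveI : RingHomSurjective (rho (A := A) P) := ⟨rho_surjective⟩
  haveI : IsSemisimpleRing (Module.End A (P ⧸ JP (A := A) P)) :=
    IsSemisimpleRing.moduleEnd A (P ⧸ JP (A := A) P)
  have h1 := Ring.le_comap_jacobson (rho (A := A) P) hh
  rw [Ideal.mem_comap, IsSemisimpleRing.jacobson_eq_bot, Ideal.mem_bot] at h1
  exact h1

theorem mem_jacobson_iff_rho [IsSemisimpleModule A (P ⧸ JP (A := A) P)]
    [Module.Finite A P] [Module.Projective A P] (h : Module.End A P) :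
    h ∈ Ring.jacobson (Module.End A P) ↔ rho P h = 0 :=
  ⟨rho_eq_zero_of_mem_jacobson h, mem_jacobson_of_rho_eq_zero h⟩

end PartI

section PartII

variable {R : Type*} [Ring R] {M : Type*} [AddCommGroup M] [Module R M]

/-- the left ideal of endomorphisms vanishing on `N` -/
def Phi (N : Submodule R M) : Submodule (Module.End R M) (Module.End R M) where
  carrier := {b | N ≤ LinearMap.ker b}
  add_mem' := by
    intro a b ha hb x hx
    rw [LinearMap.mem_ker, LinearMap.add_apply, LinearMap.mem_ker.mp (ha hx),
      LinearMap.mem_ker.mp (hb hx), add_zero]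
  zero_mem' := by
    intro x _
    simp
  smul_mem' := by
    intro c b hb x hx
    rw [LinearMap.mem_ker, smul_eq_mul, Module.End.mul_apply, LinearMap.mem_ker.mp (hb hx),
      map_zero]

theorem mem_Phi {N : Submodule R M} {b : Module.End R M} :
    b ∈ Phi N ↔ N ≤ LinearMap.ker b := Iff.rfl

/-- the common kernel of a left ideal of endomorphisms -/
def Psi (L : Submodule (Module.End R M) (Module.End R M)) : Submodule R M :=
  ⨅ b : L, LinearMap.ker (b : Module.End R M)

theorem mem_Psi {L : Submodule (Module.End R M) (Module.End R M)} {x : M} :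
    x ∈ Psi L ↔ ∀ b ∈ L, (b : Module.End R M) x = 0 := by
  unfold Psi
  rw [Submodule.mem_iInf]
  constructor
  · intro h b hb
    exact LinearMap.mem_ker.mp (h ⟨b, hb⟩)
  · intro h b
    exact LinearMap.mem_ker.mpr (h b.1 b.2)

theorem Psi_anti {L L' : Submodule (Module.End R M) (Module.End R M)} (h : L ≤ L') :
    Psi L' ≤ Psi L := by
  intro x hx
  rw [mem_Psi] at hx ⊢
  intro b hb
  exact hx b (h hb)

theorem Psi_Phi [IsSemisimpleModule R M] (N : Submodule R M) : Psi (Phi N) = N := by
  apply le_antisymm
  · obtain ⟨C, hC⟩ := exists_isCompl N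
    intro x hx
    rw [mem_Psi] at hx
    obtain ⟨π, hπ⟩ : ∃ π : Module.End R M, LinearMap.ker π = N := by
      exact ⟨C.projection N hC.symm, Submodule.ker_projection hC.symm⟩
    have h1 : π ∈ Phi N := by
      rw [mem_Phi, hπ]
    have h2 := hx π h1
    rw [← hπ]
    exact LinearMap.mem_ker.mpr h2
  · intro x hx
    rw [mem_Psi]
    intro b hb
    exact LinearMap.mem_ker.mp (hb hx)

theorem Phi_Psi [IsSemisimpleModule R M] [Module.Finite R M]
    (L : Submodule (Module.End R M) (Module.End R M)) : Phi (Psi L) = L := by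
  haveI : IsSemisimpleRing (Module.End R M) := IsSemisimpleRing.moduleEnd R M
  apply le_antisymm
  · obtain ⟨L', hL'⟩ := exists_isCompl L
    have h1 : (1 : Module.End R M) ∈ L ⊔ L' := by
      rw [hL'.sup_eq_top]
      trivial
    obtain ⟨e, he, e', he', hee⟩ := Submodule.mem_sup.mp h1
    have hxe : ∀ x ∈ L, x * e = x := by
      intro x hx
      have h3 : x * e + x * e' = x := by
        rw [← mul_add, hee, mul_one]
      have h2 : x * e' ∈ L ⊓ L' := by
        refine ⟨?_, ?_⟩
        · have h4 : x * e' = x - x * e := by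
            rw [eq_sub_iff_add_eq, add_comm]
            exact h3
          rw [h4]
          exact L.sub_mem hx (L.smul_mem x he)
        · exact L'.smul_mem x he'
      rw [hL'.inf_eq_bot, Submodule.mem_bot] at h2
      rw [h2, add_zero] at h3
      exact h3
    intro b hb
    rw [mem_Phi] at hb
    have hbe : b = b * e := by
      ext m
      rw [Module.End.mul_apply]
      have hm : m - e m ∈ Psi L := by
        rw [mem_Psi]
        intro x hx
        rw [map_sub, sub_eq_zero]
        conv_lhs => rw [← hxe x hx]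
        rfl
      have h5 := LinearMap.mem_ker.mp (hb hm)
      rw [map_sub, sub_eq_zero] at h5
      exact h5
    rw [hbe]
    exact L.smul_mem b he
  · intro b hb
    rw [mem_Phi]
    intro x hx
    exact LinearMap.mem_ker.mpr ((mem_Psi.mp hx) b hb)

/-- the annihilator anti-isomorphism between submodules of a semisimple module and left ideals
of its endomorphism ring -/
noncomputable def annIso [IsSemisimpleModule R M] [Module.Finite R M] :
    Submodule R M ≃o (Submodule (Module.End R M) (Module.End R M))ᵒᵈ where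
  toFun N := OrderDual.toDual (Phi N)
  invFun L := Psi (OrderDual.ofDual L)
  left_inv N := Psi_Phi N
  right_inv L := congrArg OrderDual.toDual (Phi_Psi (OrderDual.ofDual L))
  map_rel_iff' := by
    intro N N'
    constructor
    · intro h
      have h' : Phi N' ≤ Phi N := h
      have h2 : Psi (Phi N) ≤ Psi (Phi N') := Psi_anti h'
      rwa [Psi_Phi, Psi_Phi] at h2
    · intro h
      show Phi N' ≤ Phi N
      intro b hb
      exact le_trans h hb

theorem length_end [IsSemisimpleModule R M] [Module.Finite R M] :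
    Module.length (Module.End R M) (Module.End R M) = Module.length R M := by
  apply WithBot.coe_injective
  rw [Module.coe_length, Module.coe_length,
    Order.krullDim_eq_of_orderIso (annIso (R := R) (M := M)), Order.krullDim_orderDual]

theorem length_eq_of_ringEquiv {B₁ B₂ : Type*} [Ring B₁] [Ring B₂] (β : B₁ ≃+* B₂) :
    Module.length B₁ B₁ = Module.length B₂ B₂ := by
  haveI : RingHomSurjective (β : B₁ →+* B₂) := ⟨β.surjective⟩
  obtain ⟨f, hf⟩ : ∃ f : B₁ →ₛₗ[(β : B₁ →+* B₂)] B₂, Function.Bijective f :=
    ⟨{ toFun := β, map_add' := map_add β, map_smul' := fun r x => map_mul β r x }, β.bijective⟩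
  apply WithBot.coe_injective
  rw [Module.coe_length, Module.coe_length,
    Order.krullDim_eq_of_orderIso (Submodule.orderIsoMapComapOfBijective f hf)]

theorem mem_jacobson_iff_map {E₁ E₂ : Type*} [Ring E₁] [Ring E₂] (e : E₁ ≃+* E₂) (x : E₁) :
    x ∈ Ring.jacobson E₁ ↔ e x ∈ Ring.jacobson E₂ := by
  constructor
  · intro hx
    haveI : RingHomSurjective (e : E₁ →+* E₂) := ⟨e.surjective⟩
    exact Ring.le_comap_jacobson (e : E₁ →+* E₂) hx
  · intro hx
    haveI : RingHomSurjective (e.symm : E₂ →+* E₁) := ⟨e.symm.surjective⟩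
    have h1 := Ring.le_comap_jacobson (e.symm : E₂ →+* E₁) hx
    rw [Ideal.mem_comap] at h1
    simpa using h1

end PartII

section PartIV

variable {A : Type u} [Ring A] [IsSimpleRing (A ⧸ Ring.jacobson A)]
  [IsArtinianRing (A ⧸ Ring.jacobson A)]
  (P : Type v) [AddCommGroup P] [Module A P] (Q : Type v) [AddCommGroup Q] [Module A Q]

theorem isSemisimple_Pb : IsSemisimpleModule A (P ⧸ JP (A := A) P) :=
  (Module.isTorsionBySet_quotient_ideal_smul P (Ring.jacobson A)).isSemisimpleModule_iff.mp
    inferInstance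

/-- the identity as a semilinear map from the `A`-module to the `A/J`-module -/
def idSL : (P ⧸ JP (A := A) P) →ₛₗ[Ideal.Quotient.mk (Ring.jacobson A)] (P ⧸ JP (A := A) P) where
  toFun := id
  map_add' := fun _ _ => rfl
  map_smul' := fun _ _ => rfl

theorem finite_Pb_quot [Module.Finite A P] :
    Module.Finite (A ⧸ Ring.jacobson A) (P ⧸ JP (A := A) P) :=
  Module.Finite.of_surjective (idSL (A := A) P) Function.surjective_id

theorem length_Pb_quot :
    Module.length (A ⧸ Ring.jacobson A) (P ⧸ JP (A := A) P) =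
      Module.length A (P ⧸ JP (A := A) P) := by
  apply WithBot.coe_injective
  rw [Module.coe_length, Module.coe_length,
    Order.krullDim_eq_of_orderIso
      (Submodule.orderIsoMapComapOfBijective (idSL (A := A) P) Function.bijective_id)]

theorem exists_equiv_of_length_eq [Module.Finite A P] [Module.Finite A Q]
    (hlen : Module.length A (P ⧸ JP (A := A) P) = Module.length A (Q ⧸ JP (A := A) Q)) :
    Nonempty ((P ⧸ JP (A := A) P) ≃ₗ[A] (Q ⧸ JP (A := A) Q)) := by
  by_cases hP : Subsingleton (P ⧸ JP (A := A) P)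
  · have h0 : Module.length A (P ⧸ JP (A := A) P) = 0 := Module.length_eq_zero_iff.mpr hP
    rw [h0] at hlen
    haveI : Subsingleton (Q ⧸ JP (A := A) Q) := Module.length_eq_zero_iff.mp hlen.symm
    exact ⟨LinearEquiv.ofSubsingleton _ _⟩
  · rw [not_subsingleton_iff_nontrivial] at hP
    haveI := hP
    haveI := finite_Pb_quot (A := A) P
    haveI := finite_Pb_quot (A := A) Q
    have hiso : IsIsotypic (A ⧸ Ring.jacobson A)
        ((P ⧸ JP (A := A) P) × (Q ⧸ JP (A := A) Q)) :=
      IsSimpleRing.isIsotypic (A ⧸ Ring.jacobson A) _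
    obtain ⟨S, hS⟩ := IsAtomic.exists_atom
      (Submodule (A ⧸ Ring.jacobson A) ((P ⧸ JP (A := A) P) × (Q ⧸ JP (A := A) Q)))
    rw [← isSimpleModule_iff_isAtom] at hS
    haveI := hS
    have hPt : IsIsotypicOfType (A ⧸ Ring.jacobson A) (P ⧸ JP (A := A) P) S :=
      (hiso S).of_injective (LinearMap.inl _ _ _) LinearMap.inl_injective
    have hQt : IsIsotypicOfType (A ⧸ Ring.jacobson A) (Q ⧸ JP (A := A) Q) S :=
      (hiso S).of_injective (LinearMap.inr _ _ _) LinearMap.inr_injective
    obtain ⟨n, ⟨eP⟩⟩ := hPt.linearEquiv_fun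
    obtain ⟨n', ⟨eQ⟩⟩ := hQt.linearEquiv_fun
    have hlenS : ∀ k : ℕ, Module.length (A ⧸ Ring.jacobson A) (Fin k → S) = k := by
      intro k
      rw [Module.length_pi_of_fintype, Finset.sum_const, Module.length_eq_one_iff.mpr hS,
        Finset.card_univ, Fintype.card_fin, nsmul_eq_mul, mul_one]
    have hn : n = n' := by
      have h1 : (n : ℕ∞) = n' := by
        rw [← hlenS n, ← hlenS n', ← eP.length_eq, ← eQ.length_eq, length_Pb_quot,
          length_Pb_quot, hlen]
      exact_mod_cast h1
    subst hn
    obtain ⟨φ, hφ⟩ : ∃ φ : (P ⧸ JP (A := A) P) ≃ₗ[A ⧸ Ring.jacobson A] (Q ⧸ JP (A := A) Q),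
        True := ⟨eP.trans eQ.symm, trivial⟩
    exact ⟨{ toFun := φ
             invFun := φ.symm
             map_add' := φ.map_add
             map_smul' := fun a x => φ.map_smul (Ideal.Quotient.mk _ a) x
             left_inv := φ.left_inv
             right_inv := φ.right_inv }⟩

end PartIV

section PartV

variable {A : Type u} [Ring A]
  {P : Type v} [AddCommGroup P] [Module A P] {Q : Type v} [AddCommGroup Q] [Module A Q]

theorem nonempty_equiv_of_Pb_equiv [Module.Finite A P] [Module.Projective A P]
    [Module.Finite A Q] [Module.Projective A Q]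
    (φb : (P ⧸ JP (A := A) P) ≃ₗ[A] (Q ⧸ JP (A := A) Q)) : Nonempty (P ≃ₗ[A] Q) := by
  obtain ⟨φ, hφ⟩ := Module.projective_lifting_property (JP (A := A) Q).mkQ
    (φb.toLinearMap ∘ₗ (JP (A := A) P).mkQ) (Submodule.mkQ_surjective _)
  obtain ⟨ψ, hψ⟩ := Module.projective_lifting_property (JP (A := A) P).mkQ
    (φb.symm.toLinearMap ∘ₗ (JP (A := A) Q).mkQ) (Submodule.mkQ_surjective _)
  have e1 : ∀ y : Q, (Submodule.Quotient.mk (ψ y) : P ⧸ JP (A := A) P) =
      φb.symm (Submodule.Quotient.mk y) := fun y => LinearMap.congr_fun hψ y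
  have e2 : ∀ x : P, (Submodule.Quotient.mk (φ x) : Q ⧸ JP (A := A) Q) =
      φb (Submodule.Quotient.mk x) := fun x => LinearMap.congr_fun hφ x
  have h1 : CongOne (ψ ∘ₗ φ) := by
    intro x
    rw [← Submodule.Quotient.mk_eq_zero, Submodule.Quotient.mk_sub, LinearMap.comp_apply, e1, e2,
      LinearEquiv.symm_apply_apply, sub_self]
  have h2 : CongOne (φ ∘ₗ ψ) := by
    intro y
    rw [← Submodule.Quotient.mk_eq_zero, Submodule.Quotient.mk_sub, LinearMap.comp_apply, e2, e1,
      LinearEquiv.apply_symm_apply, sub_self]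
  have b1 := bijective_of_congOne _ h1
  have b2 := bijective_of_congOne _ h2
  rw [LinearMap.coe_comp] at b1 b2
  exact ⟨LinearEquiv.ofBijective φ ⟨Function.Injective.of_comp b1.1,
    Function.Surjective.of_comp b2.2⟩⟩

end PartV

section Main

theorem main13847 (A : Type u) [Ring A] [IsSimpleRing (A ⧸ Ring.jacobson A)]
    [IsArtinianRing (A ⧸ Ring.jacobson A)]
    (P Q : Type v) [AddCommGroup P] [Module A P] [Module.Finite A P] [Module.Projective A P]
    [AddCommGroup Q] [Module A Q] [Module.Finite A Q] [Module.Projective A Q]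
    (e : Module.End A P ≃+* Module.End A Q) : Nonempty (P ≃ₗ[A] Q) := by
  haveI := isSemisimple_Pb (A := A) P
  haveI := isSemisimple_Pb (A := A) Q
  have hker : RingHom.ker (rho (A := A) P) =
      RingHom.ker ((rho (A := A) Q).comp (e : Module.End A P →+* Module.End A Q)) := by
    ext x
    rw [RingHom.mem_ker, RingHom.mem_ker, RingHom.comp_apply, ← mem_jacobson_iff_rho,
      ← mem_jacobson_iff_rho]
    exact mem_jacobson_iff_map e x
  have hsurjQ : Function.Surjective
      ((rho (A := A) Q).comp (e : Module.End A P →+* Module.End A Q)) :=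
    (rho_surjective (A := A) (P := Q)).comp e.surjective
  obtain ⟨β⟩ : Nonempty (Module.End A (P ⧸ JP (A := A) P) ≃+*
      Module.End A (Q ⧸ JP (A := A) Q)) :=
    ⟨(RingHom.quotientKerEquivOfSurjective (rho_surjective (A := A) (P := P))).symm.trans
      ((Ideal.quotEquivOfEq hker).trans (RingHom.quotientKerEquivOfSurjective hsurjQ))⟩
  have hlen : Module.length A (P ⧸ JP (A := A) P) = Module.length A (Q ⧸ JP (A := A) Q) := by
    rw [← length_end (R := A) (M := P ⧸ JP (A := A) P),
      ← length_end (R := A) (M := Q ⧸ JP (A := A) Q)]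
    exact length_eq_of_ringEquiv β
  obtain ⟨φb⟩ := exists_equiv_of_length_eq (A := A) P Q hlen
  exact nonempty_equiv_of_Pb_equiv φb

end Main

end Groth.Agent.Lib.MoritaLenH1
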