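import Mathlib
import Groth.Prelude

set_option autoImplicit false
set_option linter.style.haveILetI false
set_option linter.unusedVariables false

universe u v

namespace Groth.Agent.Lib.MovSubstH4

section Top

variable {S : Type v} [CommRing S]

/-- `q` has degree at most `b` and coefficient `w` at `b`. -/
def Top (q : Polynomial S) (b : ℕ) (w : S) : Prop := q.natDegree ≤ b ∧ q.coeff b = w

theorem top_mul {p q : Polynomial S} {a b : ℕ} {u w : S} (hp : Top p a u) (hq : Top q b w) :
    Top (p * q) (a + b) (u * w) :=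
  ⟨Polynomial.natDegree_mul_le_of_le hp.1 hq.1, by
    rw [Polynomial.coeff_mul_add_eq_of_natDegree_le hp.1 hq.1, hp.2, hq.2]⟩

theorem top_add {p q : Polynomial S} {b : ℕ} {u w : S} (hp : Top p b u) (hq : Top q b w) :
    Top (p + q) b (u + w) :=
  ⟨Polynomial.natDegree_add_le_of_degree_le hp.1 hq.1, by
    rw [Polynomial.coeff_add, hp.2, hq.2]⟩

theorem top_sum {ι : Type*} (s : Finset ι) (p : ι → Polynomial S) (b : ℕ) (w : ι → S)
    (h : ∀ i ∈ s, Top (p i) b (w i)) : Top (∑ i ∈ s, p i) b (∑ i ∈ s, w i) :=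
  ⟨Polynomial.natDegree_sum_le_of_forall_le s p (fun i hi => (h i hi).1), by
    rw [Polynomial.finset_sum_coeff]
    exact Finset.sum_congr rfl fun i hi => (h i hi).2⟩

theorem top_lt {p : Polynomial S} {a b : ℕ} {u : S} (hp : Top p a u) (hab : a < b) :
    Top p b 0 :=
  ⟨hp.1.trans hab.le, Polynomial.coeff_eq_zero_of_natDegree_lt (lt_of_le_of_lt hp.1 hab)⟩

theorem top_one : Top (1 : Polynomial S) 0 1 :=
  ⟨le_of_eq Polynomial.natDegree_one, Polynomial.coeff_one_zero⟩

theorem top_pow {p : Polynomial S} {a : ℕ} {u : S} (hp : Top p a u) (n : ℕ) :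
    Top (p ^ n) (n * a) (u ^ n) := by
  induction n with
  | zero =>
      rw [pow_zero, pow_zero, Nat.zero_mul]
      exact top_one
  | succ n ih =>
      rw [pow_succ, pow_succ, Nat.succ_mul]
      exact top_mul ih hp

theorem top_prod {ι : Type*} (s : Finset ι) (p : ι → Polynomial S) (a : ι → ℕ) (w : ι → S)
    (h : ∀ i ∈ s, Top (p i) (a i) (w i)) :
    Top (∏ i ∈ s, p i) (∑ i ∈ s, a i) (∏ i ∈ s, w i) := by
  classical
  induction s using Finset.induction_on with
  | empty =>
      rw [Finset.prod_empty, Finset.sum_empty, Finset.prod_empty]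
      exact top_one
  | insert i s hi ih =>
      rw [Finset.prod_insert hi, Finset.sum_insert hi, Finset.prod_insert hi]
      exact top_mul (h i (Finset.mem_insert_self i s))
        (ih fun j hj => h j (Finset.mem_insert_of_mem hj))

theorem top_C (c : S) : Top (Polynomial.C c) 0 c :=
  ⟨le_of_eq (Polynomial.natDegree_C c), Polynomial.coeff_C_zero⟩

theorem top_X_pow (n : ℕ) : Top (Polynomial.X ^ n : Polynomial S) n 1 :=
  ⟨Polynomial.natDegree_X_pow_le n, by rw [Polynomial.coeff_X_pow, if_pos rfl]⟩

theorem top_gen (x c : S) (N : ℕ) (hN : 0 < N) :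
    Top (Polynomial.C x + Polynomial.C c * Polynomial.X ^ N) N c := by
  have h1 : Top (Polynomial.C x) N 0 := top_lt (top_C x) hN
  have h2 : Top (Polynomial.C c * Polynomial.X ^ N) N c := by
    have h := top_mul (top_C c) (top_X_pow (S := S) N)
    rwa [Nat.zero_add, mul_one] at h
  have h := top_add h1 h2
  rwa [zero_add] at h

end Top

theorem exists_top_monomial {σ : Type*} {R : Type*} [CommSemiring R] (p : MvPolynomial σ R)
    (hp : p ≠ 0) : ∃ m ∈ p.support, Finsupp.degree m = p.totalDegree := by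
  have hne : p.support.Nonempty :=
    Finset.nonempty_iff_ne_empty.mpr (fun h => hp (MvPolynomial.support_eq_empty.mp h))
  obtain ⟨m, hm, hsup⟩ := Finset.exists_mem_eq_sup p.support hne (fun s => s.sum fun _ e => e)
  exact ⟨m, hm, hsup.symm⟩

section Subst

variable {k : Type u} [Field k] {K : Type v} [Field K] [Algebra k K] {r : ℕ}

/-- the substitution `x_i ↦ x_i + g_i t^N` -/
noncomputable def Φ (g : Fin r → K) (N : ℕ) :
    MvPolynomial (Fin r) k →ₐ[k] Polynomial (MvPolynomial (Fin r) K) :=
  MvPolynomial.aeval (fun i : Fin r => Polynomial.C (MvPolynomial.X i) +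
    Polynomial.C (MvPolynomial.C (g i)) * Polynomial.X ^ N)

theorem top_monomial (g : Fin r → K) (N : ℕ) (hN : 0 < N) (m : Fin r →₀ ℕ) (c : k) :
    Top (Φ g N (MvPolynomial.monomial m c)) (N * Finsupp.degree m)
      (MvPolynomial.C (MvPolynomial.aeval g (MvPolynomial.monomial m c))) := by
  have hΦ : Φ g N (MvPolynomial.monomial m c) =
      algebraMap k (Polynomial (MvPolynomial (Fin r) K)) c *
        ∏ i, (Polynomial.C (MvPolynomial.X i) +
          Polynomial.C (MvPolynomial.C (g i)) * Polynomial.X ^ N) ^ m i := by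
    unfold Φ
    rw [MvPolynomial.aeval_monomial, Finsupp.prod_fintype _ _ (fun i => pow_zero _)]
  have hv : MvPolynomial.aeval g (MvPolynomial.monomial m c) =
      algebraMap k K c * ∏ i, g i ^ m i := by
    rw [MvPolynomial.aeval_monomial, Finsupp.prod_fintype _ _ (fun i => pow_zero _)]
  have h1 : Top (algebraMap k (Polynomial (MvPolynomial (Fin r) K)) c) 0
      (MvPolynomial.C (algebraMap k K c)) := by
    rw [Polynomial.algebraMap_apply, MvPolynomial.algebraMap_apply]
    exact top_C _
  have h2 : Top (∏ i, (Polynomial.C (MvPolynomial.X i) +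
      Polynomial.C (MvPolynomial.C (g i)) * Polynomial.X ^ N) ^ m i) (∑ i, m i * N)
      (∏ i, (MvPolynomial.C (g i) : MvPolynomial (Fin r) K) ^ m i) :=
    top_prod Finset.univ _ _ _ (fun i _ => top_pow (top_gen _ _ N hN) (m i))
  have h3 := top_mul h1 h2
  rw [Nat.zero_add] at h3
  have hdeg : ∑ i, m i * N = N * Finsupp.degree m := by
    rw [Finsupp.degree_eq_sum, Finset.mul_sum]
    exact Finset.sum_congr rfl fun i _ => Nat.mul_comm _ _
  have hval : (MvPolynomial.C (algebraMap k K c) : MvPolynomial (Fin r) K) *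
      ∏ i, (MvPolynomial.C (g i) : MvPolynomial (Fin r) K) ^ m i =
      MvPolynomial.C (algebraMap k K c * ∏ i, g i ^ m i) := by
    rw [map_mul, map_prod]
    congr 1
    exact Finset.prod_congr rfl fun i _ => (map_pow _ _ _).symm
  rw [hdeg, hval] at h3
  rw [hΦ, hv]
  exact h3

theorem top_poly (g : Fin r → K) (N : ℕ) (hN : 0 < N) (p : MvPolynomial (Fin r) k) (e : ℕ)
    (he : p.totalDegree ≤ e) :
    Top (Φ g N p) (N * e)
      (MvPolynomial.C (MvPolynomial.aeval g (MvPolynomial.homogeneousComponent e p))) := by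
  classical
  have hp : Φ g N p =
      ∑ m ∈ p.support, Φ g N (MvPolynomial.monomial m (MvPolynomial.coeff m p)) := by
    conv_lhs => rw [p.as_sum]
    rw [map_sum]
  have hv : (MvPolynomial.C (MvPolynomial.aeval g (MvPolynomial.homogeneousComponent e p)) :
      MvPolynomial (Fin r) K) =
      ∑ m ∈ p.support, (if Finsupp.degree m = e then
        (MvPolynomial.C (MvPolynomial.aeval g
          (MvPolynomial.monomial m (MvPolynomial.coeff m p))) : MvPolynomial (Fin r) K)
        else 0) := by
    rw [MvPolynomial.homogeneousComponent_apply, map_sum, map_sum, Finset.sum_filter]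
  rw [hp, hv]
  refine top_sum _ _ _ _ (fun m hm => ?_)
  have hle : Finsupp.degree m ≤ e := (MvPolynomial.le_totalDegree hm).trans he
  have ht := top_monomial g N hN m (MvPolynomial.coeff m p)
  by_cases hme : Finsupp.degree m = e
  · rw [if_pos hme, ← hme]
    exact ht
  · rw [if_neg hme]
    exact top_lt ht (mul_lt_mul_of_pos_left (lt_of_le_of_ne hle hme) hN)

end Subst

theorem main {k : Type u} [Field k] (r m : ℕ)
    (f : Polynomial (MvPolynomial (Fin r) k)) (hf : f ≠ 0) :
    ∃ h : MvPolynomial (Fin r) k, h ≠ 0 ∧ ∃ s₀ : ℕ, ∀ s : ℕ, s₀ ≤ s →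
      ∀ (K : Type v) [Field K] [Algebra k K] (g : Fin r → K), MvPolynomial.aeval g h ≠ 0 →
        ∃ c : K, c ≠ 0 ∧
          (Polynomial.eval₂ (MvPolynomial.aeval (fun i : Fin r =>
            Polynomial.C (MvPolynomial.X i) +
              Polynomial.C (MvPolynomial.C (g i)) * Polynomial.X ^ (s * (m + 1))) :
            MvPolynomial (Fin r) k →ₐ[k] Polynomial (MvPolynomial (Fin r) K)).toRingHom
            Polynomial.X f).leadingCoeff = MvPolynomial.C c := by
  classical
  have hS : f.support.Nonempty := Polynomial.nonempty_support_iff.mpr hf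
  obtain ⟨D, hD⟩ : ∃ D, D = f.support.sup (fun j => (f.coeff j).totalDegree) := ⟨_, rfl⟩
  have hDle : ∀ j ∈ f.support, (f.coeff j).totalDegree ≤ D := fun j hj =>
    hD ▸ Finset.le_sup (f := fun j => (f.coeff j).totalDegree) hj
  obtain ⟨j₁, hj₁S, hj₁⟩ : ∃ j ∈ f.support, D = (f.coeff j).totalDegree := by
    rw [hD]
    exact Finset.exists_mem_eq_sup _ hS _
  have hS' : (f.support.filter (fun j => (f.coeff j).totalDegree = D)).Nonempty :=
    ⟨j₁, Finset.mem_filter.mpr ⟨hj₁S, hj₁.symm⟩⟩
  obtain ⟨js, hjs⟩ : ∃ js, js =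
      (f.support.filter (fun j => (f.coeff j).totalDegree = D)).max' hS' := ⟨_, rfl⟩
  have hjsmem : js ∈ f.support.filter (fun j => (f.coeff j).totalDegree = D) :=
    hjs ▸ Finset.max'_mem _ _
  have hjsS : js ∈ f.support := (Finset.mem_filter.mp hjsmem).1
  have hjsD : (f.coeff js).totalDegree = D := (Finset.mem_filter.mp hjsmem).2
  have hjsmax : ∀ j ∈ f.support, (f.coeff j).totalDegree = D → j ≤ js := fun j hj hd =>
    hjs ▸ Finset.le_max' _ j (Finset.mem_filter.mpr ⟨hj, hd⟩)
  refine ⟨MvPolynomial.homogeneousComponent D (f.coeff js), ?_, f.natDegree + 1, ?_⟩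
  · intro h0
    have hne : f.coeff js ≠ 0 := Polynomial.mem_support_iff.mp hjsS
    obtain ⟨m₀, hm₀, hm₀d⟩ := exists_top_monomial (f.coeff js) hne
    have hc := MvPolynomial.coeff_homogeneousComponent (n := D) (φ := f.coeff js) m₀
    rw [h0, MvPolynomial.coeff_zero, if_pos (hm₀d.trans hjsD)] at hc
    exact (MvPolynomial.mem_support_iff.mp hm₀) hc.symm
  · intro s hs K _ _ g hg
    obtain ⟨N, hNdef⟩ : ∃ N, N = s * (m + 1) := ⟨_, rfl⟩
    have h1 : s ≤ s * (m + 1) := Nat.le_mul_of_pos_right s (Nat.succ_pos m)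
    have hNbig : f.natDegree < N := by
      rw [hNdef]
      exact lt_of_lt_of_le (Nat.lt_of_succ_le hs) h1
    have hN : 0 < N := lt_of_le_of_lt (Nat.zero_le _) hNbig
    refine ⟨MvPolynomial.aeval g (MvPolynomial.homogeneousComponent D (f.coeff js)), hg, ?_⟩
    rw [← hNdef]
    show (Polynomial.eval₂ (Φ g N).toRingHom Polynomial.X f).leadingCoeff = _
    have hF : Polynomial.eval₂ (Φ (k := k) g N).toRingHom Polynomial.X f =
        ∑ j ∈ f.support, Φ g N (f.coeff j) * Polynomial.X ^ j := by
      rw [Polynomial.eval₂_eq_sum, Polynomial.sum_def]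
      rfl
    have htop : Top (Polynomial.eval₂ (Φ (k := k) g N).toRingHom Polynomial.X f) (N * D + js)
        (∑ j ∈ f.support, if j = js then
          (MvPolynomial.C (MvPolynomial.aeval g
            (MvPolynomial.homogeneousComponent D (f.coeff js))) : MvPolynomial (Fin r) K)
          else 0) := by
      rw [hF]
      refine top_sum _ _ _ _ (fun j hj => ?_)
      have hjN : j < N := lt_of_le_of_lt (Polynomial.le_natDegree_of_mem_supp j hj) hNbig
      by_cases hjd : (f.coeff j).totalDegree = D
      · have ht := top_mul (top_poly g N hN (f.coeff j) D (le_of_eq hjd))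
          (top_X_pow (S := MvPolynomial (Fin r) K) j)
        rw [mul_one] at ht
        by_cases hjj : j = js
        · rw [if_pos hjj, ← hjj]
          exact ht
        · rw [if_neg hjj]
          have hlt : j < js := lt_of_le_of_ne (hjsmax j hj hjd) hjj
          exact top_lt ht (by omega)
      · have hjne : j ≠ js := fun h => hjd (h ▸ hjsD)
        rw [if_neg hjne]
        have hlt : (f.coeff j).totalDegree < D := lt_of_le_of_ne (hDle j hj) hjd
        have ht := top_mul (top_poly g N hN (f.coeff j) _ le_rfl)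
          (top_X_pow (S := MvPolynomial (Fin r) K) j)
        refine top_lt ht ?_
        have h2 : N * ((f.coeff j).totalDegree + 1) ≤ N * D := Nat.mul_le_mul_left N hlt
        rw [Nat.mul_succ] at h2
        omega
    rw [Finset.sum_ite_eq' f.support js, if_pos hjsS] at htop
    have hne : (Polynomial.eval₂ (Φ (k := k) g N).toRingHom Polynomial.X f).coeff (N * D + js) ≠ 0 := by
      rw [htop.2]
      intro h0
      exact hg (MvPolynomial.C_injective (Fin r) K (h0.trans MvPolynomial.C_0.symm))
    have hnd := Polynomial.natDegree_eq_of_le_of_coeff_ne_zero htop.1 hne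
    show Polynomial.coeff _ (Polynomial.natDegree _) = _
    rw [hnd]
    exact htop.2

end Groth.Agent.Lib.MovSubstH4
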