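import Mathlib
import Groth.Prelude
import Groth.Agent.Lib.MovSubst_helper4

set_option autoImplicit false
set_option linter.style.haveILetI false
set_option linter.unusedVariables false

universe u v

namespace Groth.Agent.Lib.MovSubstH4

theorem main_deg {k : Type u} [Field k] (r m : ℕ)
    (f : Polynomial (MvPolynomial (Fin r) k)) (hf : f ≠ 0) :
    ∃ h : MvPolynomial (Fin r) k, h ≠ 0 ∧ ∃ s₀ : ℕ, ∀ s : ℕ, s₀ ≤ s →
      ∀ (K : Type v) [Field K] [Algebra k K] (g : Fin r → K), MvPolynomial.aeval g h ≠ 0 →
        ∃ c : K, c ≠ 0 ∧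
          (Polynomial.eval₂ (MvPolynomial.aeval (fun i : Fin r =>
            Polynomial.C (MvPolynomial.X i) +
              Polynomial.C (MvPolynomial.C (g i)) * Polynomial.X ^ (s * (m + 1))) :
            MvPolynomial (Fin r) k →ₐ[k] Polynomial (MvPolynomial (Fin r) K)).toRingHom
            Polynomial.X f).leadingCoeff = MvPolynomial.C c ∧
          (1 ≤ f.natDegree → 1 ≤ (Polynomial.eval₂ (MvPolynomial.aeval (fun i : Fin r =>
            Polynomial.C (MvPolynomial.X i) +
              Polynomial.C (MvPolynomial.C (g i)) * Polynomial.X ^ (s * (m + 1))) :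
            MvPolynomial (Fin r) k →ₐ[k] Polynomial (MvPolynomial (Fin r) K)).toRingHom
            Polynomial.X f).natDegree) := by
  classical
  have hS : f.support.Nonempty := Polynomial.nonempty_support_iff.mpr hf
  obtain ⟨D, hD⟩ : ∃ D, D = f.support.sup (fun j => (f.coeff j).totalDegree) := ⟨_, rfl⟩
  have hDle : ∀ j ∈ f.support, (f.coeff j).totalDegree ≤ D := fun j hj =>
    hD ▸ Finset.le_sup (f := fun j => (f.coeff j).totalDegree) hj
  obtain ⟨j₁, hj₁S, hj₁⟩ : ∃ j ∈ f.support, D = (f.coeff j).totalDegree := by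
    rw [hD]
    exact Finset.exists_mem_eq_sup _ hS _
  have hS' : (f.support.filter (fun j => (f.coeff j).totalDegree = D)).Nonempty :=
    ⟨j₁, Finset.mem_filter.mpr ⟨hj₁S, hj₁.symm⟩⟩
  obtain ⟨js, hjs⟩ : ∃ js, js =
      (f.support.filter (fun j => (f.coeff j).totalDegree = D)).max' hS' := ⟨_, rfl⟩
  have hjsmem : js ∈ f.support.filter (fun j => (f.coeff j).totalDegree = D) :=
    hjs ▸ Finset.max'_mem _ _
  have hjsS : js ∈ f.support := (Finset.mem_filter.mp hjsmem).1
  have hjsD : (f.coeff js).totalDegree = D := (Finset.mem_filter.mp hjsmem).2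
  have hjsmax : ∀ j ∈ f.support, (f.coeff j).totalDegree = D → j ≤ js := fun j hj hd =>
    hjs ▸ Finset.le_max' _ j (Finset.mem_filter.mpr ⟨hj, hd⟩)
  refine ⟨MvPolynomial.homogeneousComponent D (f.coeff js), ?_, f.natDegree + 1, ?_⟩
  · intro h0
    have hne : f.coeff js ≠ 0 := Polynomial.mem_support_iff.mp hjsS
    obtain ⟨m₀, hm₀, hm₀d⟩ := exists_top_monomial (f.coeff js) hne
    have hc := MvPolynomial.coeff_homogeneousComponent (n := D) (φ := f.coeff js) m₀
    rw [h0, MvPolynomial.coeff_zero, if_pos (hm₀d.trans hjsD)] at hc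
    exact (MvPolynomial.mem_support_iff.mp hm₀) hc.symm
  · intro s hs K _ _ g hg
    obtain ⟨N, hNdef⟩ : ∃ N, N = s * (m + 1) := ⟨_, rfl⟩
    have h1 : s ≤ s * (m + 1) := Nat.le_mul_of_pos_right s (Nat.succ_pos m)
    have hNbig : f.natDegree < N := by
      rw [hNdef]
      exact lt_of_lt_of_le (Nat.lt_of_succ_le hs) h1
    have hN : 0 < N := lt_of_le_of_lt (Nat.zero_le _) hNbig
    refine ⟨MvPolynomial.aeval g (MvPolynomial.homogeneousComponent D (f.coeff js)), hg, ?_⟩
    rw [← hNdef]
    show (Polynomial.eval₂ (Φ g N).toRingHom Polynomial.X f).leadingCoeff = _ ∧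
      (1 ≤ f.natDegree → 1 ≤ (Polynomial.eval₂ (Φ g N).toRingHom Polynomial.X f).natDegree)
    have hF : Polynomial.eval₂ (Φ (k := k) g N).toRingHom Polynomial.X f =
        ∑ j ∈ f.support, Φ g N (f.coeff j) * Polynomial.X ^ j := by
      rw [Polynomial.eval₂_eq_sum, Polynomial.sum_def]
      rfl
    have htop : Top (Polynomial.eval₂ (Φ (k := k) g N).toRingHom Polynomial.X f) (N * D + js)
        (∑ j ∈ f.support, if j = js then
          (MvPolynomial.C (MvPolynomial.aeval g
            (MvPolynomial.homogeneousComponent D (f.coeff js))) : MvPolynomial (Fin r) K)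
          else 0) := by
      rw [hF]
      refine top_sum _ _ _ _ (fun j hj => ?_)
      have hjN : j < N := lt_of_le_of_lt (Polynomial.le_natDegree_of_mem_supp j hj) hNbig
      by_cases hjd : (f.coeff j).totalDegree = D
      · have ht := top_mul (top_poly g N hN (f.coeff j) D (le_of_eq hjd))
          (top_X_pow (S := MvPolynomial (Fin r) K) j)
        rw [mul_one] at ht
        by_cases hjj : j = js
        · rw [if_pos hjj, ← hjj]
          exact ht
        · rw [if_neg hjj]
          have hlt : j < js := lt_of_le_of_ne (hjsmax j hj hjd) hjj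
          exact top_lt ht (by omega)
      · have hjne : j ≠ js := fun h => hjd (h ▸ hjsD)
        rw [if_neg hjne]
        have hlt : (f.coeff j).totalDegree < D := lt_of_le_of_ne (hDle j hj) hjd
        have ht := top_mul (top_poly g N hN (f.coeff j) _ le_rfl)
          (top_X_pow (S := MvPolynomial (Fin r) K) j)
        refine top_lt ht ?_
        have h2 : N * ((f.coeff j).totalDegree + 1) ≤ N * D := Nat.mul_le_mul_left N hlt
        rw [Nat.mul_succ] at h2
        omega
    rw [Finset.sum_ite_eq' f.support js, if_pos hjsS] at htop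
    have hne : (Polynomial.eval₂ (Φ (k := k) g N).toRingHom Polynomial.X f).coeff (N * D + js) ≠ 0 := by
      rw [htop.2]
      intro h0
      exact hg (MvPolynomial.C_injective (Fin r) K (h0.trans MvPolynomial.C_0.symm))
    have hnd := Polynomial.natDegree_eq_of_le_of_coeff_ne_zero htop.1 hne
    constructor
    · show Polynomial.coeff _ (Polynomial.natDegree _) = _
      rw [hnd]
      exact htop.2
    · intro h1f
      rw [hnd]
      rcases Nat.eq_zero_or_pos D with hD0 | hDpos
      · have hmem : f.natDegree ∈ f.support := Polynomial.natDegree_mem_support_of_nonzero hf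
        have hle0 := hDle _ hmem
        have hle := hjsmax f.natDegree hmem (by omega)
        omega
      · have h3 : N * 1 ≤ N * D := Nat.mul_le_mul_left N hDpos
        omega


theorem finite_quot {R : Type*} [CommRing R] (F : Polynomial R) (u : R) (hu : IsUnit u)
    (hlc : F.leadingCoeff = u) :
    Module.Finite R (Polynomial R ⧸ Ideal.span {F}) := by
  obtain ⟨w, hw⟩ := hu.exists_left_inv
  have hmon : (Polynomial.C w * F).Monic :=
    Polynomial.monic_C_mul_of_mul_leadingCoeff_eq_one (by rw [hlc]; exact hw)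
  have hwu : IsUnit (Polynomial.C w) :=
    Polynomial.isUnit_C.mpr (IsUnit.of_mul_eq_one _ hw)
  have hspan : Ideal.span {Polynomial.C w * F} = Ideal.span {F} :=
    Ideal.span_singleton_mul_left_unit hwu F
  haveI := hmon.finite_quotient
  exact Module.Finite.equiv (Ideal.quotientEquivAlgOfEq R hspan).toLinearEquiv

theorem main79 {k : Type u} [Field k] (r m : ℕ)
    (f : Polynomial (MvPolynomial (Fin r) k)) (hirr : Irreducible f) (h0 : IsUnit (f.coeff 0)) :
    ∃ h : MvPolynomial (Fin r) k, h ≠ 0 ∧ ∃ s₀ : ℕ, ∀ s : ℕ, s₀ ≤ s →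
      ∀ (K : Type v) [Field K] [Algebra k K] (g : Fin r → K), MvPolynomial.aeval g h ≠ 0 →
        ∀ F : Polynomial (MvPolynomial (Fin r) K),
          F = Polynomial.eval₂ (MvPolynomial.aeval (fun i : Fin r =>
            Polynomial.C (MvPolynomial.X i) +
              Polynomial.C (MvPolynomial.C (g i)) * Polynomial.X ^ (s * (m + 1))) :
            MvPolynomial (Fin r) k →ₐ[k] Polynomial (MvPolynomial (Fin r) K)).toRingHom
            Polynomial.X f →
          Module.Finite (MvPolynomial (Fin r) K)
            (Polynomial (MvPolynomial (Fin r) K) ⧸ Ideal.span {F}) ∧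
          Function.Injective ((Ideal.Quotient.mk (Ideal.span {F})).comp
            (algebraMap (MvPolynomial (Fin r) K) (Polynomial (MvPolynomial (Fin r) K)))) := by
  have hf : f ≠ 0 := hirr.ne_zero
  have hdeg : 1 ≤ f.natDegree := by
    by_contra hcon
    have h00 : f.natDegree = 0 := by omega
    have hC : f = Polynomial.C (f.coeff 0) := Polynomial.eq_C_of_natDegree_eq_zero h00
    apply hirr.1
    rw [hC]
    exact Polynomial.isUnit_C.mpr h0
  obtain ⟨h, hh, s₀, H⟩ := main_deg.{u, v} r m f hf
  refine ⟨h, hh, s₀, fun s hs K _ _ g hg F hF => ?_⟩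
  obtain ⟨c, hc, hlc, hnat⟩ := H s hs K g hg
  rw [← hF] at hlc hnat
  have hnat' := hnat hdeg
  constructor
  · exact finite_quot F (MvPolynomial.C c) (IsUnit.map MvPolynomial.C hc.isUnit) hlc
  · rw [injective_iff_map_eq_zero]
    intro a ha
    have hmem : algebraMap (MvPolynomial (Fin r) K) (Polynomial (MvPolynomial (Fin r) K)) a ∈
        Ideal.span {F} := Ideal.Quotient.eq_zero_iff_mem.mp ha
    obtain ⟨q, hq⟩ := Ideal.mem_span_singleton.mp hmem
    by_contra hane
    have hCa : Polynomial.C a = F * q := (Polynomial.C_eq_algebraMap a).trans hq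
    have hq0 : q ≠ 0 := by
      rintro rfl
      rw [mul_zero] at hCa
      exact hane (Polynomial.C_eq_zero.mp hCa)
    have hF0 : F ≠ 0 := by
      rintro rfl
      rw [Polynomial.natDegree_zero] at hnat'
      omega
    have hnd := congrArg Polynomial.natDegree hCa
    rw [Polynomial.natDegree_C, Polynomial.natDegree_mul hF0 hq0] at hnd
    omega

end Groth.Agent.Lib.MovSubstH4
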