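import Mathlib
import Groth.Prelude
import Groth.Agent.Lib.IdemDiag_helper4
import Groth.Agent.Lib.IdemClass_helper4
import Groth.Agent.Lib.MTHomLoc_helper4

/-!
# Base change tools for homomorphisms `D(M) → GL_m` (helper4)
APPEND-ONLY once landed.
-/

set_option backward.isDefEq.respectTransparency.types false
set_option autoImplicit false
set_option linter.unusedVariables false
set_option linter.unusedTactic false
set_option linter.unreachableTactic false
set_option linter.unusedSectionVars false
set_option linter.style.haveILetI false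
set_option linter.deprecated false
set_option linter.unusedSimpArgs false
set_option linter.style.longLine false
set_option maxHeartbeats 1600000

universe u

open CategoryTheory CategoryTheory.Limits MonoidalCategory CartesianMonoidalCategory MonObj GrpObj
  AlgebraicGeometry Opposite TensorProduct

namespace Groth.Agent.Lib.MuConjH4

open Groth.Agent.Lib.RedDictH8 Groth.Agent.Lib.DSDict Groth.Agent.Lib.MultGa
  Groth.Agent.Lib.MultTrivH4 Groth.Agent.Lib.ConnActH4
  Groth.Agent.Lib.GLDictH4 Groth.Agent.Lib.IdemClassH4 Groth.Agent.Lib.IdemDiagH4 CoordGrp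

section Adj

variable {S U : Scheme.{u}} (e : U ⟶ S)

theorem chk_inj' {X : Over S} {T' : Over U} (a b : T' ⟶ Red.bc e X)
    (h : chk e a = chk e b) : a = b := by
  rw [← unchk_chk e a, ← unchk_chk e b, h]

theorem chk_inv'' {G : Over S} [GrpObj G] {X : Over U} (g : X ⟶ Red.bc e G) :
    chk e g⁻¹ = (chk e g)⁻¹ := by
  apply eq_inv_of_mul_eq_one_left
  rw [← chk_mul, _root_.inv_mul_cancel, chk_one']

theorem chk_post' {X Y : Over S} (φ : X ⟶ Y) {T' : Over U} (x' : T' ⟶ Red.bc e X) :
    chk e (x' ≫ (Over.pullback e).map φ) = chk e x' ≫ φ := by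
  unfold chk
  simp only [Functor.map_comp, Category.assoc, eps_nat]

theorem bc_mul_comp {X Y : Over S} [GrpObj X] [GrpObj Y] (v : X ⟶ Y) [IsMonHom v] {T' : Over U}
    (x y : T' ⟶ Red.bc e X) :
    (x * y) ≫ (Over.pullback e).map v =
      (x ≫ (Over.pullback e).map v) * (y ≫ (Over.pullback e).map v) := by
  apply chk_inj'
  rw [chk_post', chk_mul, chk_mul, chk_post', chk_post', MonObj.mul_comp]

theorem mono_bc {X Y : Over S} (v : X ⟶ Y) [Mono v] : Mono ((Over.pullback e).map v) := by
  constructor
  intro Z x y hxy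
  apply chk_inj' e
  have h1 := congrArg (chk e) hxy
  rw [chk_post', chk_post'] at h1
  exact (cancel_mono v).mp h1

end Adj

theorem comp_conjBy {S : Scheme.{u}} {G H T : Over S} [GrpObj G] (g : 𝟙_ (Over S) ⟶ G)
    (v : H ⟶ G) (z : T ⟶ H) :
    z ≫ AGF.conjBy g v = (toUnit T ≫ g) * (z ≫ v) * (toUnit T ≫ g)⁻¹ := by
  show z ≫ ((toUnit H ≫ g) * v * (toUnit H ≫ g)⁻¹) = _
  have e : z ≫ toUnit H ≫ g = toUnit T ≫ g := by
    rw [← Category.assoc]
    congr 1
    exact toUnit_unique _ _
  rw [MonObj.comp_mul, MonObj.comp_mul, GrpObj.comp_inv, e]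

section Transport

variable {U W : Scheme.{u}} (r : W ⟶ U) {M : Type} [AddCommGroup M]

theorem trUp_comp {T''' T'' : Over W} (c : T''' ⟶ T'') (x : T'' ⟶ Red.DS W M) :
    trUp r (c ≫ x) = (Over.map r).map c ≫ trUp r x := by
  apply chrU_injective r
  intro mm
  rw [chr_trUp, chrU_comp, chr_trUp, chr_comp]

/-- a trivialisation of `X` over the base gives a trivialisation of its functor of points over any
base change. -/
noncomputable def ptOfIso {X : Over U} [GrpObj X] (a : X ⟶ Red.DS U M) (a' : Red.DS U M ⟶ X)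
    [IsMonHom a] (h1 : a ≫ a' = 𝟙 _) (h2 : a' ≫ a = 𝟙 _) : PtIso X r M where
  toD := fun T'' x => trDown r (x ≫ a)
  ofD := fun T'' d => trUp r d ≫ a'
  of_to := fun T'' x => by
    show trUp r (trDown r (x ≫ a)) ≫ a' = x
    rw [trUp_trDown, Category.assoc, h1, Category.comp_id]
  to_of := fun T'' d => by
    show trDown r ((trUp r d ≫ a') ≫ a) = d
    rw [Category.assoc, h2, Category.comp_id, trDown_trUp]
  to_mul := fun T'' x y => by
    show trDown r ((x * y) ≫ a) = trDown r (x ≫ a) * trDown r (y ≫ a)
    rw [MonObj.mul_comp, trDown_mul]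
  to_nat := fun T''' T'' c x => by
    show trDown r (((Over.map r).map c ≫ x) ≫ a) = c ≫ trDown r (x ≫ a)
    rw [Category.assoc, trDown_comp]

end Transport

/-- the base change morphism `Spec K ⟶ Spec k`. -/
noncomputable abbrev fKk (k K : Type u) [Field k] [Field K] [Algebra k K] :
    Groth.Agent.Lib.DiagHom.Sk K ⟶ Groth.Agent.Lib.DiagHom.Sk k :=
  Spec.map (CommRingCat.ofHom (algebraMap k K))

open Groth.Agent.Lib.DiagHom in
theorem rho_map {k K : Type u} [Field k] [Field K] [Algebra k K] (T'' : Over (Sk K)) (c : k) :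
    rho (k := k) ((Over.map (fKk k K)).obj T'') c = rho (k := K) T'' (algebraMap k K c) := by
  rw [rho_apply, rho_apply]
  show ev (T''.hom ≫ Spec.map (CommRingCat.ofHom (algebraMap k K))) c = _
  exact ev_comp_specMap _ _ _

open Groth.Agent.Lib.DiagHom in
theorem map_rho_map {k K : Type u} [Field k] [Field K] [Algebra k K] {m : ℕ}
    (T'' : Over (Sk K)) (A : Matrix (Fin m) (Fin m) k) :
    A.map (rho (k := k) ((Over.map (fKk k K)).obj T'')) =
      (A.map (algebraMap k K)).map (rho (k := K) T'') := by
  ext i j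
  rw [Matrix.map_apply, Matrix.map_apply, Matrix.map_apply]
  exact rho_map T'' (A i j)

open Groth.Agent.Lib.DiagHom in
theorem coeff_extract {K : Type u} [Field K] {M : Type} [AddCommGroup M] [Fintype M]
    [DecidableEq M] (c c' : M → K)
    (h : ∑ a, (Scheme.ΓSpecIso (CommRingCat.of (MonoidAlgebra K (Multiplicative M)))).inv
          (MonoidAlgebra.single (Multiplicative.ofAdd a) 1) *
        (Scheme.ΓSpecIso (CommRingCat.of (MonoidAlgebra K (Multiplicative M)))).inv
          (algebraMap K (MonoidAlgebra K (Multiplicative M)) (c a)) =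
      ∑ a, (Scheme.ΓSpecIso (CommRingCat.of (MonoidAlgebra K (Multiplicative M)))).inv
          (MonoidAlgebra.single (Multiplicative.ofAdd a) 1) *
        (Scheme.ΓSpecIso (CommRingCat.of (MonoidAlgebra K (Multiplicative M)))).inv
          (algebraMap K (MonoidAlgebra K (Multiplicative M)) (c' a))) : c = c' := by
  classical
  have key : ∀ c : M → K,
      (Scheme.ΓSpecIso (CommRingCat.of (MonoidAlgebra K (Multiplicative M)))).hom
        (∑ a, (Scheme.ΓSpecIso (CommRingCat.of (MonoidAlgebra K (Multiplicative M)))).inv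
          (MonoidAlgebra.single (Multiplicative.ofAdd a) 1) *
        (Scheme.ΓSpecIso (CommRingCat.of (MonoidAlgebra K (Multiplicative M)))).inv
          (algebraMap K (MonoidAlgebra K (Multiplicative M)) (c a))) =
      ∑ a, MonoidAlgebra.single (Multiplicative.ofAdd a) (c a) := by
    intro c
    rw [map_sum]
    refine Finset.sum_congr rfl (fun a _ => ?_)
    rw [map_mul, Iso.inv_hom_id_apply, Iso.inv_hom_id_apply, mul_comm, ← single_eq_algebraMap_mul]
  have h2 := congrArg (Scheme.ΓSpecIso (CommRingCat.of (MonoidAlgebra K (Multiplicative M)))).hom h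
  rw [key, key] at h2
  funext a₀
  have h3 := congrArg (fun x : MonoidAlgebra K (Multiplicative M) =>
    x.coeff (Multiplicative.ofAdd a₀)) h2
  simp only [MonoidAlgebra.coeff_sum, Finsupp.finset_sum_apply,
    MonoidAlgebra.coeff_single_apply] at h3
  simpa using h3

end Groth.Agent.Lib.MuConjH4
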