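import Mathlib
import Groth.Prelude
import Groth.Agent.Lib.MuConjBase_helper4

/-!
# Conjugacy of finite diagonalisable subgroups of `GL_m` descends along field extensions (helper4)
APPEND-ONLY once landed.
-/

set_option backward.isDefEq.respectTransparency.types false
set_option autoImplicit false
set_option linter.unusedVariables false
set_option linter.unusedTactic false
set_option linter.unreachableTactic false
set_option linter.unusedSectionVars false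
set_option linter.style.haveILetI false
set_option linter.deprecated false
set_option linter.unusedSimpArgs false
set_option linter.style.longLine false
set_option maxHeartbeats 3200000

universe u

open CategoryTheory CategoryTheory.Limits MonoidalCategory CartesianMonoidalCategory MonObj GrpObj
  AlgebraicGeometry Opposite TensorProduct

namespace Groth.Agent.Lib.MuConjH4

open Groth.Agent.Lib.RedDictH8 Groth.Agent.Lib.DSDict Groth.Agent.Lib.MultGa
  Groth.Agent.Lib.MultTrivH4 Groth.Agent.Lib.ConnActH4 Groth.Agent.Lib.MTHomH4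
  Groth.Agent.Lib.GLDictH4 Groth.Agent.Lib.IdemClassH4 Groth.Agent.Lib.IdemDiagH4 CoordGrp

open Groth.Agent.Lib.DiagHom (Sk x0 chr_x0 DSmap_comp DSmap_id)

theorem conj_sum {R : Type*} [CommRing R] {m : ℕ} {M : Type*} [Fintype M]
    (G G' : Matrix (Fin m) (Fin m) R) (c : M → R) (P : M → Matrix (Fin m) (Fin m) R) :
    G * (∑ a, c a • P a) * G' = ∑ a, c a • (G * P a * G') := by
  rw [Matrix.mul_sum, Matrix.sum_mul]
  refine Finset.sum_congr rfl (fun a _ => ?_)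
  rw [Matrix.mul_smul, Matrix.smul_mul]

section Main

variable {k K : Type u} [Field k] [Field K] [Algebra k K] {m : ℕ} {M : Type} [AddCommGroup M]
  [Fintype M] [DecidableEq M]

theorem main19280 (σ τ : Over (Sk k)) [GrpObj σ] [GrpObj τ] (i : σ ⟶ Gk k m) (j : τ ⟶ Gk k m)
    [IsMonHom i] [IsMonHom j] [Mono j]
    (a : σ ⟶ Red.DS (Sk k) M) (a' : Red.DS (Sk k) M ⟶ σ) [IsMonHom a] [IsMonHom a']
    (ha1 : a ≫ a' = 𝟙 _) (ha2 : a' ≫ a = 𝟙 _)
    (b : τ ⟶ Red.DS (Sk k) M) (b' : Red.DS (Sk k) M ⟶ τ) [IsMonHom b] [IsMonHom b']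
    (hb1 : b ≫ b' = 𝟙 _) (hb2 : b' ≫ b = 𝟙 _)
    (gK : 𝟙_ (Over (Sk K)) ⟶ Red.bc (fKk k K) (Gk k m))
    (φK : Red.bc (fKk k K) σ ≅ Red.bc (fKk k K) τ)
    (h : AGF.conjBy gK ((Over.pullback (fKk k K)).map i) =
      φK.hom ≫ (Over.pullback (fKk k K)).map j) :
    ∃ (g : 𝟙_ (Over (Sk k)) ⟶ Gk k m) (φ : σ ≅ τ), AGF.conjBy g i = φ.hom ≫ j := by
  classical
  -- Step 1: classification over `k`
  let νi : ∀ T : Over (Sk k), (T ⟶ Red.DS (Sk k) M) → (T ⟶ Gk k m) := fun T d => d ≫ a' ≫ i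
  have νi_nat : ∀ (T' T : Over (Sk k)) (c : T' ⟶ T) (d : T ⟶ Red.DS (Sk k) M),
      c ≫ νi T d = νi T' (c ≫ d) := by
    intro T' T c d
    show c ≫ d ≫ a' ≫ i = (c ≫ d) ≫ a' ≫ i
    rw [Category.assoc]
  have νi_mul : ∀ (T : Over (Sk k)) (d d' : T ⟶ Red.DS (Sk k) M),
      νi T (d * d') = νi T d * νi T d' := by
    intro T d d'
    show (d * d') ≫ a' ≫ i = (d ≫ a' ≫ i) * (d' ≫ a' ≫ i)
    rw [MonObj.mul_comp]
  let νj : ∀ T : Over (Sk k), (T ⟶ Red.DS (Sk k) M) → (T ⟶ Gk k m) := fun T d => d ≫ b' ≫ j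
  have νj_nat : ∀ (T' T : Over (Sk k)) (c : T' ⟶ T) (d : T ⟶ Red.DS (Sk k) M),
      c ≫ νj T d = νj T' (c ≫ d) := by
    intro T' T c d
    show c ≫ d ≫ b' ≫ j = (c ≫ d) ≫ b' ≫ j
    rw [Category.assoc]
  have νj_mul : ∀ (T : Over (Sk k)) (d d' : T ⟶ Red.DS (Sk k) M),
      νj T (d * d') = νj T d * νj T d' := by
    intro T d d'
    show (d * d') ≫ b' ≫ j = (d ≫ b' ≫ j) * (d' ≫ b' ≫ j)
    rw [MonObj.mul_comp]
  obtain ⟨PP, hPP⟩ : ∃ PP : M → Matrix (Fin m) (Fin m) k, PP = Pc (mdGk k m) νi := ⟨_, rfl⟩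
  obtain ⟨QQ, hQQ⟩ : ∃ QQ : M → Matrix (Fin m) (Fin m) k, QQ = Pc (mdGk k m) νj := ⟨_, rfl⟩
  have hPmul : ∀ a b, PP a * PP b = if a = b then PP a else 0 := by
    rw [hPP]; exact Pc_mul (mdGk k m) νi νi_nat νi_mul
  have hPsum : ∑ a, PP a = 1 := by rw [hPP]; exact Pc_sum (mdGk k m) νi νi_nat νi_mul
  have hQmul : ∀ a b, QQ a * QQ b = if a = b then QQ a else 0 := by
    rw [hQQ]; exact Pc_mul (mdGk k m) νj νj_nat νj_mul
  have hQsum : ∑ a, QQ a = 1 := by rw [hQQ]; exact Pc_sum (mdGk k m) νj νj_nat νj_mul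
  have hPmat : ∀ (T : Over (Sk k)) (d : T ⟶ Red.DS (Sk k) M),
      GLDictH4.mat (νi T d) = ∑ a, chr d a • (PP a).map (rho T) := by
    rw [hPP]; exact mat_nu (mdGk k m) νi νi_nat
  have hQmat : ∀ (T : Over (Sk k)) (d : T ⟶ Red.DS (Sk k) M),
      GLDictH4.mat (νj T d) = ∑ a, chr d a • (QQ a).map (rho T) := by
    rw [hQQ]; exact mat_nu (mdGk k m) νj νj_nat
  -- Step 2: `φK` is multiplicative
  haveI hbcj : Mono ((Over.pullback (fKk k K)).map j) := mono_bc (fKk k K) j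
  have hφmul : ∀ (T'' : Over (Sk K)) (x y : T'' ⟶ Red.bc (fKk k K) σ),
      (x * y) ≫ φK.hom = (x ≫ φK.hom) * (y ≫ φK.hom) := by
    intro T'' x y
    have e1 : ∀ z : T'' ⟶ Red.bc (fKk k K) σ, (z ≫ φK.hom) ≫ (Over.pullback (fKk k K)).map j =
        (toUnit T'' ≫ gK) * (z ≫ (Over.pullback (fKk k K)).map i) * (toUnit T'' ≫ gK)⁻¹ := by
      intro z
      rw [Category.assoc, ← h, comp_conjBy]
    apply (cancel_mono ((Over.pullback (fKk k K)).map j)).mp
    rw [bc_mul_comp, e1, e1, e1, bc_mul_comp]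
    group
  -- Step 3: the automorphism of the character group
  let eσp : PtIso σ (fKk k K) M := ptOfIso (fKk k K) a a' ha1 ha2
  let eτp : PtIso τ (fKk k K) M := ptOfIso (fKk k K) b b' hb1 hb2
  let nu : ∀ T'' : Over (Sk K), (T'' ⟶ Red.DS (Sk K) M) → (T'' ⟶ Red.DS (Sk K) M) :=
    fun T'' d => eτp.toD T'' (chk (fKk k K) (unchk (fKk k K) (eσp.ofD T'' d) ≫ φK.hom))
  have nu_nat : ∀ (T''' T'' : Over (Sk K)) (c : T''' ⟶ T'') (x : T'' ⟶ Red.DS (Sk K) M),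
      c ≫ nu T'' x = nu T''' (c ≫ x) := by
    intro T''' T'' c x
    show c ≫ eτp.toD T'' (chk (fKk k K) (unchk (fKk k K) (eσp.ofD T'' x) ≫ φK.hom)) =
      eτp.toD T''' (chk (fKk k K) (unchk (fKk k K) (eσp.ofD T''' (c ≫ x)) ≫ φK.hom))
    rw [← eτp.to_nat, ← chk_comp, ← Category.assoc, ← unchk_comp, eσp.of_nat]
  have nu_hom : ∀ (T'' : Over (Sk K)) (x x' : T'' ⟶ Red.DS (Sk K) M),
      nu T'' (x * x') = nu T'' x * nu T'' x' := by
    intro T'' x x'
    show eτp.toD T'' (chk (fKk k K) (unchk (fKk k K) (eσp.ofD T'' (x * x')) ≫ φK.hom)) =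
      eτp.toD T'' (chk (fKk k K) (unchk (fKk k K) (eσp.ofD T'' x) ≫ φK.hom)) *
        eτp.toD T'' (chk (fKk k K) (unchk (fKk k K) (eσp.ofD T'' x') ≫ φK.hom))
    rw [eσp.of_mul, unchk_mul, hφmul, chk_mul, eτp.to_mul]
  have hFG : AddGroup.FG M := inferInstance
  obtain ⟨W₀, φ₀, hbW, hφ₀⟩ := local_const nu nu_nat nu_hom hFG (default : Sk K)
  have hφ₀' : ∀ (T'' : Over (Sk K)) (d : T'' ⟶ Red.DS (Sk K) M),
      nu T'' d = d ≫ Red.DSmap (Sk K) φ₀ := by
    intro T'' d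
    refine hφ₀ T'' (fun z => ?_) d
    have hz : T''.hom.base z = (default : Sk K) := Subsingleton.elim _ _
    rw [hz]
    exact hbW
  have nu_inj : ∀ (T'' : Over (Sk K)) (d d' : T'' ⟶ Red.DS (Sk K) M),
      nu T'' d = nu T'' d' → d = d' := by
    intro T'' d d' hh
    have h1 := eτp.to_inj T'' _ _ hh
    have h2 := chk_inj' (fKk k K) _ _ h1
    have h3 := (cancel_mono φK.hom).mp h2
    have h4 : eσp.ofD T'' d = eσp.ofD T'' d' := by
      rw [← chk_unchk (fKk k K) (eσp.ofD T'' d), h3, chk_unchk]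
    rw [← eσp.to_of T'' d, h4, eσp.to_of]
  have hsurj : Function.Surjective φ₀ :=
    surjective_of_inj (z := 𝟙 (Sk K)) φ₀ (fun C _ _ d d' hdd =>
      nu_inj _ d d' (by rw [hφ₀', hφ₀', hdd]))
  have hbij : Function.Bijective φ₀ := ⟨(Finite.injective_iff_surjective).mpr hsurj, hsurj⟩
  let ψe : M ≃+ M := AddEquiv.ofBijective φ₀ hbij
  have hψe : ∀ c, φ₀ (ψe.symm c) = c := fun c => ψe.apply_symm_apply c
  have hψe' : ∀ c, ψe.symm (φ₀ c) = c := fun c => ψe.symm_apply_apply c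
  -- Step 4: the matrix identity at the universal point
  let yg : (Over.map (fKk k K)).obj (𝟙_ (Over (Sk K))) ⟶ Gk k m := chk (fKk k K) gK
  let yg' : (Over.map (fKk k K)).obj (𝟙_ (Over (Sk K))) ⟶ Gk k m := chk (fKk k K) gK⁻¹
  let G0 : Matrix (Fin m) (Fin m) K :=
    (GLDictH4.mat yg).map (Scheme.ΓSpecIso (CommRingCat.of K)).hom.hom
  let G0' : Matrix (Fin m) (Fin m) K :=
    (GLDictH4.mat yg').map (Scheme.ΓSpecIso (CommRingCat.of K)).hom.hom
  have hG0 : G0 * G0' = 1 := by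
    show (GLDictH4.mat yg).map (Scheme.ΓSpecIso (CommRingCat.of K)).hom.hom *
      (GLDictH4.mat yg').map (Scheme.ΓSpecIso (CommRingCat.of K)).hom.hom = 1
    rw [← Matrix.map_mul, ← GLDictH4.mat_mul]
    have e1 : yg * yg' = 1 := by
      show chk (fKk k K) gK * chk (fKk k K) gK⁻¹ = 1
      rw [← chk_mul, _root_.mul_inv_cancel, chk_one']
    rw [e1, GLDictH4.mat_one, Matrix.map_one _ (map_zero _) (map_one _)]
  have hγ : ∀ (T'' : Over (Sk K)),
      GLDictH4.mat (chk (fKk k K) (toUnit T'' ≫ gK)) = G0.map (rho (k := K) T'') := by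
    intro T''
    ext i₁ j₁
    rw [chk_comp, GLDictH4.mat_nat, Matrix.map_apply]
    show ((Over.map (fKk k K)).map (toUnit T'')).left.appTop (GLDictH4.mat yg i₁ j₁) =
      T''.hom.appTop ((Scheme.ΓSpecIso (CommRingCat.of K)).inv
        ((Scheme.ΓSpecIso (CommRingCat.of K)).hom (GLDictH4.mat yg i₁ j₁)))
    rw [Iso.hom_inv_id_apply]
    rfl
  have hγ' : ∀ (T'' : Over (Sk K)),
      GLDictH4.mat (chk (fKk k K) (toUnit T'' ≫ gK)⁻¹) = G0'.map (rho (k := K) T'') := by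
    intro T''
    ext i₁ j₁
    rw [← GrpObj.comp_inv, chk_comp, GLDictH4.mat_nat, Matrix.map_apply]
    show ((Over.map (fKk k K)).map (toUnit T'')).left.appTop (GLDictH4.mat yg' i₁ j₁) =
      T''.hom.appTop ((Scheme.ΓSpecIso (CommRingCat.of K)).inv
        ((Scheme.ΓSpecIso (CommRingCat.of K)).hom (GLDictH4.mat yg' i₁ j₁)))
    rw [Iso.hom_inv_id_apply]
    rfl
  let T₀ : Over (Sk K) := Groth.Agent.Lib.DiagHom.TB K (MonoidAlgebra K (Multiplicative M))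
  let d₀ : T₀ ⟶ Red.DS (Sk K) M := x0 K M
  have hd₀ : ∀ c, chr d₀ c =
      (Scheme.ΓSpecIso (CommRingCat.of (MonoidAlgebra K (Multiplicative M)))).inv
        (MonoidAlgebra.single (Multiplicative.ofAdd c) 1) := fun c => chr_x0 c
  have hρ₀ : ∀ c : K, rho (k := K) T₀ c =
      (Scheme.ΓSpecIso (CommRingCat.of (MonoidAlgebra K (Multiplicative M)))).inv
        (algebraMap K (MonoidAlgebra K (Multiplicative M)) c) := fun c => rho_TB c
  let uu : (Over.map (fKk k K)).obj T₀ ⟶ Red.DS (Sk k) M := trUp (fKk k K) d₀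
  have huu : ∀ c, chr uu c = chr d₀ c := fun c => chr_trUp (fKk k K) d₀ c
  let x' : T₀ ⟶ Red.bc (fKk k K) σ := unchk (fKk k K) (uu ≫ a')
  let c₂ : (Over.map (fKk k K)).obj T₀ ⟶ Red.DS (Sk k) M := chk (fKk k K) (x' ≫ φK.hom) ≫ b
  have hc₂ : ∀ c, chr c₂ c = chr uu (φ₀ c) := by
    intro c
    have e1 : nu T₀ d₀ = trDown (fKk k K) c₂ := rfl
    have e2 : chr (trDown (fKk k K) c₂) c = chr c₂ c := chr_trDown (fKk k K) c₂ c
    rw [← e2, ← e1, hφ₀', chr_DSmap, huu]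
  have hL : chk (fKk k K) (x' ≫ AGF.conjBy gK ((Over.pullback (fKk k K)).map i)) =
      chk (fKk k K) (toUnit T₀ ≫ gK) * νi _ uu * chk (fKk k K) (toUnit T₀ ≫ gK)⁻¹ := by
    rw [comp_conjBy, chk_mul, chk_mul, chk_post']
    show _ * (chk (fKk k K) (unchk (fKk k K) (uu ≫ a')) ≫ i) * _ = _
    rw [chk_unchk, Category.assoc]
  have hR : chk (fKk k K) (x' ≫ φK.hom ≫ (Over.pullback (fKk k K)).map j) = νj _ c₂ := by
    rw [← Category.assoc, chk_post']
    show chk (fKk k K) (x' ≫ φK.hom) ≫ j = (chk (fKk k K) (x' ≫ φK.hom) ≫ b) ≫ b' ≫ j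
    rw [Category.assoc, ← Category.assoc b, hb1, Category.id_comp]
  have hmain : GLDictH4.mat (chk (fKk k K) (toUnit T₀ ≫ gK) * νi _ uu *
      chk (fKk k K) (toUnit T₀ ≫ gK)⁻¹) = GLDictH4.mat (νj _ c₂) := by
    rw [← hL, ← hR, h]
  rw [GLDictH4.mat_mul, GLDictH4.mat_mul, hγ, hγ', hPmat, hQmat] at hmain
  simp only [map_rho_map, huu, hc₂] at hmain
  have hmain1 := (conj_sum (G0.map (rho (k := K) T₀)) (G0'.map (rho (k := K) T₀))
    (fun c => chr d₀ c)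
    (fun c => ((PP c).map (algebraMap k K)).map (rho (k := K) T₀))).symm.trans hmain
  have hmain2 : ∑ c, chr d₀ c • ((G0 * (PP c).map (algebraMap k K) * G0').map (rho (k := K) T₀)) =
      ∑ c, chr d₀ c • (((QQ (ψe.symm c)).map (algebraMap k K)).map (rho (k := K) T₀)) := by
    have e3 : (∑ c, chr d₀ c •
        ((G0 * (PP c).map (algebraMap k K) * G0').map (rho (k := K) T₀))) =
        ∑ c, chr d₀ c • (G0.map (rho (k := K) T₀) *
          ((PP c).map (algebraMap k K)).map (rho (k := K) T₀) * G0'.map (rho (k := K) T₀)) :=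
      Finset.sum_congr rfl (fun c _ => by rw [Matrix.map_mul, Matrix.map_mul])
    rw [e3]
    refine hmain1.trans ?_
    rw [← Equiv.sum_comp ψe.symm.toEquiv
      (fun c => chr d₀ (φ₀ c) • ((QQ c).map (algebraMap k K)).map (rho (k := K) T₀))]
    refine Finset.sum_congr rfl (fun c _ => ?_)
    show chr d₀ (φ₀ (ψe.symm c)) • _ = _
    rw [hψe]
    rfl
  have hconj : ∀ c, G0 * (PP c).map (algebraMap k K) * G0' =
      (QQ (ψe.symm c)).map (algebraMap k K) := by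
    intro c
    ext i₁ j₁
    have e1 := congrFun (congrFun hmain2 i₁) j₁
    rw [Matrix.sum_apply, Matrix.sum_apply] at e1
    simp only [Matrix.smul_apply, Matrix.map_apply, smul_eq_mul, hd₀, hρ₀] at e1
    rw [Matrix.map_apply]
    exact congrFun (coeff_extract
      (fun c => (G0 * (PP c).map (algebraMap k K) * G0') i₁ j₁)
      (fun c => algebraMap k K (QQ (ψe.symm c) i₁ j₁)) e1) c
  -- Step 5: descent
  obtain ⟨w, w', hw1, hw2, hw3⟩ := conj_descent (algebraMap k K) PP QQ hPmul hPsum hQmul hQsum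
    ψe.symm ψe.symm.injective G0 G0' hG0 hconj
  -- Step 6: conclusion
  obtain ⟨g, hg⟩ := exists_cpt w w' hw1
  obtain ⟨g', hg'⟩ := exists_cpt w' w hw2
  have hgg' : g * g' = 1 := by
    apply cmat_inj (mdGk k m)
    rw [cmat_mul, cmat_one, hg, hg', hw1]
  have hg'inv : g' = g⁻¹ := eq_inv_of_mul_eq_one_right hgg'
  have hcomp1 : (φ₀.comp ψe.symm.toAddMonoidHom) = AddMonoidHom.id M := by
    ext c
    exact hψe c
  have hcomp2 : (ψe.symm.toAddMonoidHom.comp φ₀) = AddMonoidHom.id M := by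
    ext c
    exact hψe' c
  let φ : σ ≅ τ :=
    { hom := a ≫ Red.DSmap (Sk k) φ₀ ≫ b'
      inv := b ≫ Red.DSmap (Sk k) ψe.symm.toAddMonoidHom ≫ a'
      hom_inv_id := by
        calc (a ≫ Red.DSmap (Sk k) φ₀ ≫ b') ≫ b ≫ Red.DSmap (Sk k) ψe.symm.toAddMonoidHom ≫ a'
            = a ≫ Red.DSmap (Sk k) φ₀ ≫ (b' ≫ b) ≫ Red.DSmap (Sk k) ψe.symm.toAddMonoidHom ≫ a' := by
              simp only [Category.assoc]
          _ = a ≫ (Red.DSmap (Sk k) φ₀ ≫ Red.DSmap (Sk k) ψe.symm.toAddMonoidHom) ≫ a' := by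
              rw [hb2, Category.id_comp, Category.assoc]
          _ = 𝟙 _ := by rw [DSmap_comp, hcomp1, DSmap_id, Category.id_comp, ha1]
      inv_hom_id := by
        calc (b ≫ Red.DSmap (Sk k) ψe.symm.toAddMonoidHom ≫ a') ≫ a ≫ Red.DSmap (Sk k) φ₀ ≫ b'
            = b ≫ Red.DSmap (Sk k) ψe.symm.toAddMonoidHom ≫ (a' ≫ a) ≫ Red.DSmap (Sk k) φ₀ ≫ b' := by
              simp only [Category.assoc]
          _ = b ≫ (Red.DSmap (Sk k) ψe.symm.toAddMonoidHom ≫ Red.DSmap (Sk k) φ₀) ≫ b' := by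
              rw [ha2, Category.id_comp, Category.assoc]
          _ = 𝟙 _ := by rw [DSmap_comp, hcomp2, DSmap_id, Category.id_comp, hb1] }
  refine ⟨g, φ, ?_⟩
  apply GLDictH4.mat_inj
  have hi : i = νi σ a := by
    show i = a ≫ a' ≫ i
    rw [← Category.assoc, ha1, Category.id_comp]
  have hLHS : AGF.conjBy g i = (toUnit σ ≫ g) * νi σ a * (toUnit σ ≫ g') := by
    show (toUnit σ ≫ g) * i * (toUnit σ ≫ g)⁻¹ = _
    rw [← hi, hg'inv, GrpObj.comp_inv]
  have hRHS : φ.hom ≫ j = νj σ (a ≫ Red.DSmap (Sk k) φ₀) := by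
    show (a ≫ Red.DSmap (Sk k) φ₀ ≫ b') ≫ j = (a ≫ Red.DSmap (Sk k) φ₀) ≫ b' ≫ j
    simp only [Category.assoc]
  rw [hLHS, hRHS]
  have e1 := mat_conj (mdGk k m) νi νi_nat σ a g g'
  have e2 := hQmat σ (a ≫ Red.DSmap (Sk k) φ₀)
  refine e1.trans (Eq.trans ?_ e2.symm)
  rw [hg, hg', ← hPP, ← Equiv.sum_comp ψe.symm.toEquiv
    (fun c => chr (a ≫ Red.DSmap (Sk k) φ₀) c • (QQ c).map (rho σ))]
  refine Finset.sum_congr rfl (fun c _ => ?_)
  show _ = chr (a ≫ Red.DSmap (Sk k) φ₀) (ψe.symm c) • (QQ (ψe.symm c)).map (rho σ)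
  rw [chr_DSmap, hψe, hw3]

end Main

end Groth.Agent.Lib.MuConjH4
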