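import Mathlib
import Groth.Prelude
import Groth.Agent.Lib.MuConjBase_helper4

/-!
# Finite diagonalisable subgroups of `GL_m` over an extension field are conjugate to ones defined
over the base field (helper4)
APPEND-ONLY once landed.
-/

set_option backward.isDefEq.respectTransparency.types false
set_option autoImplicit false
set_option linter.unusedVariables false
set_option linter.unusedTactic false
set_option linter.unreachableTactic false
set_option linter.unusedSectionVars false
set_option linter.style.haveILetI false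
set_option linter.deprecated false
set_option linter.unusedSimpArgs false
set_option linter.style.longLine false
set_option maxHeartbeats 3200000

universe u

open CategoryTheory CategoryTheory.Limits MonoidalCategory CartesianMonoidalCategory MonObj GrpObj
  AlgebraicGeometry Opposite TensorProduct

namespace Groth.Agent.Lib.MuConjH4

open Groth.Agent.Lib.RedDictH8 Groth.Agent.Lib.DSDict Groth.Agent.Lib.MultGa
  Groth.Agent.Lib.MultTrivH4 Groth.Agent.Lib.ConnActH4 Groth.Agent.Lib.MTHomH4
  Groth.Agent.Lib.GLDictH4 Groth.Agent.Lib.IdemClassH4 Groth.Agent.Lib.IdemDiagH4 CoordGrp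

open Groth.Agent.Lib.DiagHom (Sk x0 chr_x0 isIso_x0 appTop_specMap_inv)

section Iota

variable {U W : Scheme.{u}} (r : W ⟶ U) (M : Type) [AddCommGroup M]

/-- the comparison `D_W(M) ⟶ D_U(M) ×_U W`. -/
noncomputable def iotaHom : Red.DS W M ⟶ Red.bc r (Red.DS U M) :=
  unchk r (trUp r (𝟙 (Red.DS W M)))

/-- the comparison `D_U(M) ×_U W ⟶ D_W(M)`. -/
noncomputable def iotaInv : Red.bc r (Red.DS U M) ⟶ Red.DS W M :=
  trDown r (chk r (𝟙 (Red.bc r (Red.DS U M))))

theorem chk_comp_iotaHom {T'' : Over W} (x : T'' ⟶ Red.DS W M) :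
    chk r (x ≫ iotaHom r M) = trUp r x := by
  unfold iotaHom
  rw [← unchk_comp, chk_unchk, ← trUp_comp, Category.comp_id]

theorem comp_iotaInv {T'' : Over W} (y : T'' ⟶ Red.bc r (Red.DS U M)) :
    y ≫ iotaInv r M = trDown r (chk r y) := by
  unfold iotaInv
  rw [← trDown_comp, ← chk_comp, Category.comp_id]

theorem iota_hom_inv : iotaHom r M ≫ iotaInv r M = 𝟙 _ := by
  rw [comp_iotaInv]
  have h1 := chk_comp_iotaHom r M (𝟙 (Red.DS W M))
  rw [Category.id_comp] at h1
  rw [h1, trDown_trUp]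

theorem iota_inv_hom : iotaInv r M ≫ iotaHom r M = 𝟙 _ := by
  apply chk_inj' r
  rw [chk_comp_iotaHom]
  have h1 : iotaInv r M = trDown r (chk r (𝟙 _)) := rfl
  rw [h1, trUp_trDown]

end Iota

section Main2

variable {k K : Type u} [Field k] [Field K] [Algebra k K] {m : ℕ}

/-- the matrix dictionary of the base change of `GL_m`. -/
noncomputable def mdBc (k K : Type u) [Field k] [Field K] [Algebra k K] (m : ℕ) :
    MatDict (Red.bc (fKk k K) (Gk k m)) m where
  mat := fun {T} y =>
    GLDictH4.mat (k := k) (T := (Over.map (fKk k K)).obj T) (chk (fKk k K) y)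
  mat_mul := fun x y => by
    show GLDictH4.mat (chk (fKk k K) (x * y)) = _
    rw [chk_mul]
    exact GLDictH4.mat_mul _ _
  mat_one := by
    intro T
    show GLDictH4.mat (chk (fKk k K) (1 : T ⟶ Red.bc (fKk k K) (Gk k m))) = _
    rw [chk_one']
    exact GLDictH4.mat_one
  mat_inj := fun x y h => chk_inj' _ _ _ (GLDictH4.mat_inj _ _ h)
  mat_nat := fun h y i j => by
    show GLDictH4.mat (chk (fKk k K) (h ≫ y)) i j = _
    rw [chk_comp, GLDictH4.mat_nat]
    rfl

variable {M : Type} [AddCommGroup M] [Fintype M] [DecidableEq M]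

theorem sum_E_diag {F : Type u} [Field F] {R : Type u} [CommRing R] (ρ : F →+* R) (t : Fin m → M)
    (c : M → R) :
    ∑ a, c a • (E F t a).map ρ = Matrix.diagonal (fun l => c (t l)) := by
  ext i j
  rw [Matrix.sum_apply]
  simp only [Matrix.smul_apply, Matrix.map_apply, smul_eq_mul]
  by_cases hij : i = j
  · subst hij
    rw [Matrix.diagonal_apply_eq, Finset.sum_eq_single (t i)]
    · unfold E
      rw [Matrix.diagonal_apply_eq, if_pos rfl, map_one, _root_.mul_one]
    · intro a _ ha
      unfold E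
      rw [Matrix.diagonal_apply_eq, if_neg (fun h => ha h.symm), map_zero, mul_zero]
    · intro h
      exact absurd (Finset.mem_univ _) h
  · rw [Matrix.diagonal_apply_ne _ hij]
    refine Finset.sum_eq_zero (fun a _ => ?_)
    unfold E
    rw [Matrix.diagonal_apply_ne _ hij, map_zero, mul_zero]

theorem main19281 (σ' : Over (Sk K)) [GrpObj σ'] (i' : σ' ⟶ Red.bc (fKk k K) (Gk k m))
    [IsMonHom i'] [Mono i']
    (a : σ' ⟶ Red.DS (Sk K) M) (a' : Red.DS (Sk K) M ⟶ σ') [IsMonHom a] [IsMonHom a']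
    (ha1 : a ≫ a' = 𝟙 _) (ha2 : a' ≫ a = 𝟙 _) :
    ∃ (it : Red.DS (Sk k) M ⟶ Gk k m) (_ : IsMonHom it), IsClosedImmersion it.left ∧
      ∃ (g : 𝟙_ (Over (Sk K)) ⟶ Red.bc (fKk k K) (Gk k m))
        (φ : σ' ≅ Red.bc (fKk k K) (Red.DS (Sk k) M)),
        AGF.conjBy g i' = φ.hom ≫ (Over.pullback (fKk k K)).map it := by
  classical
  obtain ⟨MDK, hMDK⟩ : ∃ MDK : MatDict (Red.bc (fKk k K) (Gk k m)) m, MDK = mdBc k K m := ⟨_, rfl⟩
  have hMDKmat : ∀ {T : Over (Sk K)} (y : T ⟶ Red.bc (fKk k K) (Gk k m)),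
      MDK.mat y = GLDictH4.mat (chk (fKk k K) y) := by
    intro T y
    rw [hMDK]
    rfl
  let ν : ∀ T : Over (Sk K), (T ⟶ Red.DS (Sk K) M) → (T ⟶ Red.bc (fKk k K) (Gk k m)) :=
    fun T d => d ≫ a' ≫ i'
  have ν_nat : ∀ (T' T : Over (Sk K)) (c : T' ⟶ T) (d : T ⟶ Red.DS (Sk K) M),
      c ≫ ν T d = ν T' (c ≫ d) := by
    intro T' T c d
    show c ≫ d ≫ a' ≫ i' = (c ≫ d) ≫ a' ≫ i'
    rw [Category.assoc]
  have ν_mul : ∀ (T : Over (Sk K)) (d d' : T ⟶ Red.DS (Sk K) M),
      ν T (d * d') = ν T d * ν T d' := by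
    intro T d d'
    show (d * d') ≫ a' ≫ i' = (d ≫ a' ≫ i') * (d' ≫ a' ≫ i')
    rw [MonObj.mul_comp]
  obtain ⟨PP, hPP⟩ : ∃ PP : M → Matrix (Fin m) (Fin m) K, PP = Pc MDK ν := ⟨_, rfl⟩
  have hPmul : ∀ a b, PP a * PP b = if a = b then PP a else 0 := by
    rw [hPP]; exact Pc_mul MDK ν ν_nat ν_mul
  have hPsum : ∑ a, PP a = 1 := by rw [hPP]; exact Pc_sum MDK ν ν_nat ν_mul
  have hPmat : ∀ (T : Over (Sk K)) (d : T ⟶ Red.DS (Sk K) M),
      MDK.mat (ν T d) = ∑ a, chr d a • (PP a).map (rho T) := by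
    rw [hPP]; exact mat_nu MDK ν ν_nat
  obtain ⟨g₁, g₁', t, hg1, hg2, hg3⟩ := exists_diag PP hPmul hPsum
  have hPP' : ∀ a, PP a = g₁' * E K t a * g₁ := by
    intro a
    rw [← hg3 a]
    calc PP a = (g₁' * g₁) * PP a * (g₁' * g₁) := by rw [hg2, Matrix.one_mul, Matrix.mul_one]
      _ = g₁' * (g₁ * PP a * g₁') * g₁ := by simp only [Matrix.mul_assoc]
  have hform : ∀ (T : Over (Sk K)) (d : T ⟶ Red.DS (Sk K) M),
      MDK.mat (ν T d) = g₁'.map (rho T) * Matrix.diagonal (fun l => chr d (t l)) *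
        g₁.map (rho T) := by
    intro T d
    rw [hPmat, ← sum_E_diag (rho T) t (fun a => chr d a), Matrix.mul_sum, Matrix.sum_mul]
    refine Finset.sum_congr rfl (fun a _ => ?_)
    rw [Matrix.mul_smul, Matrix.smul_mul, hPP', Matrix.map_mul, Matrix.map_mul]
  -- the types generate `M`
  let φt : (Fin m →₀ ℤ) →+ M := Finsupp.liftAddHom (fun l => zmultiplesHom M (t l))
  have hφt : ∀ (l : Fin m) (z : ℤ), φt (Finsupp.single l z) = z • t l := by
    intro l z
    show Finsupp.liftAddHom (fun l => zmultiplesHom M (t l)) (Finsupp.single l z) = _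
    rw [Finsupp.liftAddHom_apply_single]
    rfl
  have hsurj : Function.Surjective φt := by
    refine surjective_of_inj (z := 𝟙 (Sk K)) φt (fun C _ _ d d' hdd => ?_)
    have hc : ∀ l, chr d (t l) = chr d' (t l) := by
      intro l
      have e1 := chr_DSmap φt d (Finsupp.single l 1)
      have e2 := chr_DSmap φt d' (Finsupp.single l 1)
      rw [hφt, one_smul] at e1 e2
      rw [← e1, ← e2, hdd]
    have h1 : ν _ d = ν _ d' := by
      apply MDK.mat_inj
      rw [hform, hform]
      have e : (fun l => chr d (t l)) = fun l => chr d' (t l) := funext hc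
      rw [e]
    have h2 : d ≫ a' = d' ≫ a' := by
      apply (cancel_mono i').mp
      rw [Category.assoc, Category.assoc]
      exact h1
    have h3 := congrArg (fun z => z ≫ a) h2
    simp only [Category.assoc, ha2, Category.comp_id] at h3
    exact h3
  have hclosure : AddSubmonoid.closure (Set.range t) = ⊤ := by
    have h0 : ∀ n, φt n ∈ AddSubgroup.closure (Set.range t) := by
      intro n
      induction n using Finsupp.induction_linear with
      | zero =>
        rw [map_zero]
        exact zero_mem _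
      | add p q hp hq =>
        rw [map_add]
        exact add_mem hp hq
      | single l z =>
        rw [hφt]
        exact zsmul_mem (AddSubgroup.subset_closure (Set.mem_range_self l)) z
    have h1 : AddSubgroup.closure (Set.range t) = ⊤ := by
      rw [eq_top_iff]
      intro x _
      obtain ⟨n, rfl⟩ := hsurj x
      exact h0 n
    have h2 := AddSubgroup.closure_toAddSubmonoid_of_finite (s := Set.range t)
    rw [h1] at h2
    rw [← h2]
    rfl
  -- the standard homomorphism over `k`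
  obtain ⟨Dk, hDk⟩ : ∃ Dk : Over (Sk k), Dk = Red.DS (Sk k) M := ⟨_, rfl⟩
  have hAA' : Matrix.diagonal (fun l => chr (𝟙 (Red.DS (Sk k) M)) (t l)) *
      Matrix.diagonal (fun l => chr (𝟙 (Red.DS (Sk k) M)) (-(t l))) = 1 := by
    rw [Matrix.diagonal_mul_diagonal]
    have e : (fun l => chr (𝟙 (Red.DS (Sk k) M)) (t l) * chr (𝟙 (Red.DS (Sk k) M)) (-(t l))) =
        fun _ => 1 := by
      funext l
      exact chr_mul_neg _ _
    rw [e]
    exact Matrix.diagonal_one
  obtain ⟨it, hit⟩ := exists_mat (T := Red.DS (Sk k) M) _ _ hAA'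
  have hitd : ∀ (T : Over (Sk k)) (d : T ⟶ Red.DS (Sk k) M),
      GLDictH4.mat (d ≫ it) = Matrix.diagonal (fun l => chr d (t l)) := by
    intro T d
    ext i j
    rw [GLDictH4.mat_nat, hit]
    by_cases hij : i = j
    · subst hij
      rw [Matrix.diagonal_apply_eq, Matrix.diagonal_apply_eq]
      have e1 := chr_comp d (𝟙 (Red.DS (Sk k) M)) (t i)
      rw [Category.comp_id] at e1
      exact e1.symm
    · rw [Matrix.diagonal_apply_ne _ hij, Matrix.diagonal_apply_ne _ hij, map_zero]
  have hitmon : IsMonHom it := isMonHom_of_pointwise it (fun T x y => by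
    apply GLDictH4.mat_inj
    rw [hitd, GLDictH4.mat_mul, hitd, hitd, Matrix.diagonal_mul_diagonal]
    congr 1
    funext l
    exact chr_mul x y (t l))
  -- closed immersion
  have hcl : IsClosedImmersion it.left := by
    haveI := isIso_x0 (k := k) (N := M)
    obtain ⟨y, hy⟩ : ∃ y : Groth.Agent.Lib.DiagHom.TB k (MonoidAlgebra k (Multiplicative M)) ⟶
        Gk k m, y = x0 k M ≫ it := ⟨_, rfl⟩
    obtain ⟨φ', hφ'⟩ : ∃ φ' : CommRingCat.of (GLn m k) ⟶
        CommRingCat.of (MonoidAlgebra k (Multiplicative M)), Spec.map φ' = y.left :=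
      ⟨Spec.preimage y.left, Spec.map_preimage y.left⟩
    have hφ'ev : ∀ r, (Scheme.ΓSpecIso (CommRingCat.of (MonoidAlgebra k (Multiplicative M)))).inv
        (φ' r) = ev (B := CommRingCat.of (GLn m k)) y.left r := by
      intro r
      rw [← hφ']
      exact (appTop_specMap_inv φ' r).symm
    have hφ'X : ∀ l, φ' (GLn.X l l) = MonoidAlgebra.single (Multiplicative.ofAdd (t l)) 1 := by
      intro l
      have e1 := hφ'ev (GLn.X l l)
      have e2 : ev (B := CommRingCat.of (GLn m k)) y.left (GLn.X l l) = GLDictH4.mat y l l := rfl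
      rw [e2, hy, hitd, Matrix.diagonal_apply_eq, Groth.Agent.Lib.DiagHom.chr_x0] at e1
      have e3 := congrArg
        (Scheme.ΓSpecIso (CommRingCat.of (MonoidAlgebra k (Multiplicative M)))).hom e1
      rwa [Iso.inv_hom_id_apply, Iso.inv_hom_id_apply] at e3
    have hφ'alg : ∀ c : k, φ' (algebraMap k (GLn m k) c) =
        algebraMap k (MonoidAlgebra k (Multiplicative M)) c := by
      have hcomm : CommRingCat.ofHom (algebraMap k (GLn m k)) ≫ φ' =
          CommRingCat.ofHom (algebraMap k (MonoidAlgebra k (Multiplicative M))) := by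
        apply Spec.map_injective
        rw [Spec.map_comp, hφ']
        exact Over.w y
      intro c
      exact congrArg (fun f => f.hom c) hcomm
    have hs : ∀ a : M, ∃ p, φ' p = MonoidAlgebra.single (Multiplicative.ofAdd a) (1 : k) := by
      intro a
      have ha : a ∈ AddSubmonoid.closure (Set.range t) := by
        rw [hclosure]
        trivial
      induction ha using AddSubmonoid.closure_induction with
      | mem x hx =>
        obtain ⟨l, rfl⟩ := hx
        exact ⟨GLn.X l l, hφ'X l⟩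
      | zero => exact ⟨1, by rw [map_one]; rfl⟩
      | add x y _ _ hx hy =>
        obtain ⟨p, hp⟩ := hx
        obtain ⟨q, hq⟩ := hy
        refine ⟨p * q, ?_⟩
        rw [map_mul, hp, hq, MonoidAlgebra.single_mul_single, _root_.mul_one]
        rfl
    have hsurjφ : Function.Surjective φ' := by
      intro u
      induction u using MonoidAlgebra.induction_linear with
      | zero => exact ⟨0, map_zero _⟩
      | add x y hx hy =>
        obtain ⟨p, hp⟩ := hx
        obtain ⟨q, hq⟩ := hy
        exact ⟨p + q, by rw [map_add, hp, hq]⟩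
      | single g c =>
        obtain ⟨p, hp⟩ := hs (Multiplicative.toAdd g)
        refine ⟨algebraMap k (GLn m k) c * p, ?_⟩
        rw [map_mul, hφ'alg, hp]
        exact (single_eq_algebraMap_mul g c).symm
    have hcl_y : IsClosedImmersion y.left := by
      rw [← hφ']
      exact IsClosedImmersion.spec_of_surjective φ' hsurjφ
    have e : it = inv (x0 k M) ≫ y := by rw [hy, IsIso.inv_hom_id_assoc]
    rw [e, Over.comp_left]
    haveI : IsIso (inv (x0 k M)).left := by
      show IsIso ((Over.forget _).map (inv (x0 k M)))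
      infer_instance
    infer_instance
  refine ⟨it, hitmon, hcl, ?_⟩
  -- the conjugating point
  have hA1 : g₁.map (Scheme.ΓSpecIso (CommRingCat.of K)).inv.hom *
      g₁'.map (Scheme.ΓSpecIso (CommRingCat.of K)).inv.hom = 1 := by
    rw [← Matrix.map_mul, hg1, Matrix.map_one _ (map_zero _) (map_one _)]
  have hA2 : g₁'.map (Scheme.ΓSpecIso (CommRingCat.of K)).inv.hom *
      g₁.map (Scheme.ΓSpecIso (CommRingCat.of K)).inv.hom = 1 := by
    rw [← Matrix.map_mul, hg2, Matrix.map_one _ (map_zero _) (map_one _)]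
  obtain ⟨yg, hyg⟩ := exists_mat (k := k)
    (T := (Over.map (fKk k K)).obj (𝟙_ (Over (Sk K)))) _ _ hA1
  obtain ⟨yg', hyg'⟩ := exists_mat (k := k)
    (T := (Over.map (fKk k K)).obj (𝟙_ (Over (Sk K)))) _ _ hA2
  obtain ⟨g, hg⟩ : ∃ g : 𝟙_ (Over (Sk K)) ⟶ Red.bc (fKk k K) (Gk k m), g = unchk (fKk k K) yg :=
    ⟨_, rfl⟩
  obtain ⟨g', hg'⟩ : ∃ g' : 𝟙_ (Over (Sk K)) ⟶ Red.bc (fKk k K) (Gk k m),
      g' = unchk (fKk k K) yg' := ⟨_, rfl⟩
  have hcg : cmat MDK g = g₁ := by
    ext i₁ j₁
    show (Scheme.ΓSpecIso (CommRingCat.of K)).hom (MDK.mat g i₁ j₁) = g₁ i₁ j₁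
    rw [hMDKmat, hg, chk_unchk, hyg, Matrix.map_apply]
    exact Iso.inv_hom_id_apply _ _
  have hcg' : cmat MDK g' = g₁' := by
    ext i₁ j₁
    show (Scheme.ΓSpecIso (CommRingCat.of K)).hom (MDK.mat g' i₁ j₁) = g₁' i₁ j₁
    rw [hMDKmat, hg', chk_unchk, hyg', Matrix.map_apply]
    exact Iso.inv_hom_id_apply _ _
  have hgg' : g * g' = 1 := by
    apply cmat_inj MDK
    rw [cmat_mul, cmat_one, hcg, hcg', hg1]
  have hg'inv : g' = g⁻¹ := eq_inv_of_mul_eq_one_right hgg'
  let φ : σ' ≅ Red.bc (fKk k K) (Red.DS (Sk k) M) :=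
    { hom := a ≫ iotaHom (fKk k K) M
      inv := iotaInv (fKk k K) M ≫ a'
      hom_inv_id := by
        rw [Category.assoc, ← Category.assoc (iotaHom (fKk k K) M), iota_hom_inv, Category.id_comp,
          ha1]
      inv_hom_id := by
        rw [Category.assoc, ← Category.assoc a', ha2, Category.id_comp, iota_inv_hom] }
  refine ⟨g, φ, ?_⟩
  apply MDK.mat_inj
  have hi : i' = ν σ' a := by
    show i' = a ≫ a' ≫ i'
    rw [← Category.assoc, ha1, Category.id_comp]
  have hLHS : AGF.conjBy g i' = (toUnit σ' ≫ g) * ν σ' a * (toUnit σ' ≫ g') := by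
    show (toUnit σ' ≫ g) * i' * (toUnit σ' ≫ g)⁻¹ = _
    rw [← hi, hg'inv, GrpObj.comp_inv]
  rw [hLHS]
  have e1 := mat_conj MDK ν ν_nat σ' a g g'
  rw [hcg, hcg', ← hPP] at e1
  rw [e1]
  have e2 : ∀ c, g₁ * PP c * g₁' = E K t c := hg3
  simp only [e2]
  rw [sum_E_diag (rho σ') t (fun c => chr a c)]
  show _ = MDK.mat ((a ≫ iotaHom (fKk k K) M) ≫ (Over.pullback (fKk k K)).map it)
  rw [hMDKmat, chk_post', chk_comp_iotaHom, hitd]
  congr 1
  funext l
  exact (chr_trUp (fKk k K) a (t l)).symm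

end Main2

end Groth.Agent.Lib.MuConjH4
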