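import Mathlib
import Groth.Prelude.Def_GLin
import Groth.Prelude.Def_HopfRep

namespace Groth.Agent.Lib.MuLim

open TensorProduct LaurentPolynomial

universe u

section Generic

variable {k : Type u} [Field k] {ι : Type u} [Fintype ι]

def Wit (L : ι → k[T;T⁻¹]) (m : ℤ) (p : ι → Polynomial k) : Prop :=
  ∀ i, Polynomial.toLaurent (p i) = T m * L i

def PMu (L : ι → k[T;T⁻¹]) (m : ℤ) : Prop :=
  ∃ p : ι → Polynomial k, Wit L m p ∧ ∃ i, (p i).coeff 0 ≠ 0

def PHas (L : ι → k[T;T⁻¹]) : Prop := ∃ p : ι → Polynomial k, Wit L 0 p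

def PLim0 (L : ι → k[T;T⁻¹]) : Prop :=
  ∃ p : ι → Polynomial k, Wit L 0 p ∧ ∀ i, (p i).coeff 0 = 0

theorem wit_shift {L : ι → k[T;T⁻¹]} {m : ℤ} {p : ι → Polynomial k} (h : Wit L m p) (e : ℕ)
    (m' : ℤ) (hm' : m' = m + e) :
    Wit L m' (fun i => Polynomial.X ^ e * p i) := by
  intro i
  show Polynomial.toLaurent (Polynomial.X ^ e * p i) = T m' * L i
  rw [map_mul, Polynomial.toLaurent_X_pow, h i, ← mul_assoc, ← T_add, hm', add_comm]

theorem wit_inj {L : ι → k[T;T⁻¹]} {m : ℤ} {p p' : ι → Polynomial k} (h : Wit L m p)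
    (h' : Wit L m p') : p = p' := by
  funext i
  apply Polynomial.toLaurent_injective
  rw [h i, h' i]

theorem coeff_zero_X_pow_mul (e : ℕ) (he : e ≠ 0) (q : Polynomial k) :
    (Polynomial.X ^ e * q).coeff 0 = 0 := by
  rw [Polynomial.coeff_zero_eq_eval_zero, Polynomial.eval_mul, Polynomial.eval_pow,
    Polynomial.eval_X, zero_pow he, zero_mul]

theorem wit_shift_coeff {L : ι → k[T;T⁻¹]} {m m' : ℤ} {p p' : ι → Polynomial k}
    (h : Wit L m p) (h' : Wit L m' p') (hlt : m < m') : ∀ i, (p' i).coeff 0 = 0 := by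
  obtain ⟨e, he⟩ : ∃ e : ℕ, (e : ℤ) = m' - m :=
    ⟨(m' - m).toNat, Int.toNat_of_nonneg (by omega)⟩
  have he0 : e ≠ 0 := by omega
  have h2 := wit_shift h e m' (by omega)
  have := wit_inj h' h2
  intro i
  rw [this]
  exact coeff_zero_X_pow_mul e he0 (p i)

theorem exists_pMu (L : ι → k[T;T⁻¹]) (hL : ∃ i, L i ≠ 0) : ∃ m, PMu L m := by
  classical
  choose N q hq using fun i => LaurentPolynomial.exists_T_pow (L i)
  let NN : ℕ := ∑ i, N i
  have hN : ∀ i, N i ≤ NN := fun i => Finset.single_le_sum (fun _ _ => Nat.zero_le _)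
    (Finset.mem_univ i)
  let q' : ι → Polynomial k := fun i => q i * Polynomial.X ^ (NN - N i)
  have hq' : ∀ i, Polynomial.toLaurent (q' i) = L i * T NN := by
    intro i
    show Polynomial.toLaurent (q i * Polynomial.X ^ (NN - N i)) = L i * T NN
    rw [map_mul, hq i, Polynomial.toLaurent_X_pow, mul_assoc, ← T_add, ← Nat.cast_add,
      Nat.add_sub_of_le (hN i)]
  have hex : ∃ d, ∃ i, (q' i).coeff d ≠ 0 := by
    obtain ⟨i, hi⟩ := hL
    have hne : q' i ≠ 0 := by
      intro h0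
      have := hq' i
      rw [h0, map_zero] at this
      exact hi ((isUnit_T (NN : ℤ)).mul_left_eq_zero.mp this.symm)
    by_contra hall
    push_neg at hall
    apply hne
    ext d
    rw [Polynomial.coeff_zero]
    exact hall d i
  let d := Nat.find hex
  have hd : ∃ i, (q' i).coeff d ≠ 0 := Nat.find_spec hex
  have hmin : ∀ e, e < d → ∀ i, (q' i).coeff e = 0 := by
    intro e he i
    by_contra hne
    exact Nat.find_min hex he ⟨i, hne⟩
  have hdvd : ∀ i, Polynomial.X ^ d ∣ q' i := fun i =>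
    Polynomial.X_pow_dvd_iff.mpr (fun e he => hmin e he i)
  choose p hp using hdvd
  refine ⟨(NN : ℤ) - d, p, ?_, ?_⟩
  · intro i
    have h1 : T (d : ℤ) * Polynomial.toLaurent (p i) = L i * T NN := by
      rw [← hq' i, hp i, map_mul, Polynomial.toLaurent_X_pow]
    have h2 : Polynomial.toLaurent (p i) =
        T (-(d : ℤ)) * (T (d : ℤ) * Polynomial.toLaurent (p i)) := by
      rw [← mul_assoc, ← T_add, neg_add_cancel, T_zero, one_mul]
    rw [h2, h1, mul_comm (L i), ← mul_assoc, ← T_add]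
    congr 2
    ring
  · obtain ⟨i0, hi0⟩ := hd
    refine ⟨i0, ?_⟩
    rw [hp i0] at hi0
    have := Polynomial.coeff_X_pow_mul (p i0) d 0
    rw [zero_add] at this
    rwa [this] at hi0

theorem pMu_unique {L : ι → k[T;T⁻¹]} {m m' : ℤ} (h : PMu L m) (h' : PMu L m') : m = m' := by
  obtain ⟨p, hp, i, hi⟩ := h
  obtain ⟨p', hp', i', hi'⟩ := h'
  rcases lt_trichotomy m m' with hlt | heq | hgt
  · exact absurd (wit_shift_coeff hp hp' hlt i') hi'
  · exact heq
  · exact absurd (wit_shift_coeff hp' hp hgt i) hi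

theorem tri1 (L : ι → k[T;T⁻¹]) (hL : ∃ i, L i ≠ 0) :
    ¬ PHas L ↔ ∃ m, PMu L m ∧ 0 < m := by
  constructor
  · intro hnot
    obtain ⟨m₀, p₀, hw, hc⟩ := exists_pMu L hL
    refine ⟨m₀, ⟨p₀, hw, hc⟩, ?_⟩
    by_contra hle
    apply hnot
    obtain ⟨e, he⟩ : ∃ e : ℕ, (e : ℤ) = - m₀ := ⟨(- m₀).toNat, Int.toNat_of_nonneg (by omega)⟩
    exact ⟨_, wit_shift hw e 0 (by omega)⟩
  · rintro ⟨m, ⟨p, hw, i, hc⟩, hpos⟩ ⟨q, hq⟩
    exact hc (wit_shift_coeff hq hw hpos i)

theorem tri2 (L : ι → k[T;T⁻¹]) : (PHas L ∧ ¬ PLim0 L) ↔ PMu L 0 := by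
  constructor
  · rintro ⟨⟨p, hp⟩, hnl⟩
    refine ⟨p, hp, ?_⟩
    by_contra hall
    push_neg at hall
    exact hnl ⟨p, hp, hall⟩
  · rintro ⟨p, hp, i, hc⟩
    refine ⟨⟨p, hp⟩, ?_⟩
    rintro ⟨q, hq, hq0⟩
    have := wit_inj hq hp
    rw [this] at hq0
    exact hc (hq0 i)

theorem tri3 (L : ι → k[T;T⁻¹]) (hL : ∃ i, L i ≠ 0) :
    PLim0 L ↔ ∃ m, PMu L m ∧ m < 0 := by
  constructor
  · rintro ⟨q, hq, hq0⟩
    obtain ⟨m₀, p₀, hw, i0, hc⟩ := exists_pMu L hL
    refine ⟨m₀, ⟨p₀, hw, i0, hc⟩, ?_⟩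
    by_contra hge
    rcases eq_or_lt_of_le (not_lt.mp hge) with h0 | hpos
    · subst h0
      have := wit_inj hw hq
      rw [this] at hc
      exact hc (hq0 i0)
    · exact hc (wit_shift_coeff hq hw hpos i0)
  · rintro ⟨m, ⟨p, hw, _⟩, hneg⟩
    obtain ⟨e, he⟩ : ∃ e : ℕ, (e : ℤ) = - m := ⟨(- m).toNat, Int.toNat_of_nonneg (by omega)⟩
    have he0 : e ≠ 0 := by omega
    exact ⟨_, wit_shift hw e 0 (by omega), fun i => coeff_zero_X_pow_mul e he0 (p i)⟩

theorem comp_eq_iff (h : MvPolynomial ι k →ₐ[k] Polynomial k)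
    (Φ : MvPolynomial ι k →ₐ[k] k[T;T⁻¹]) :
    (Polynomial.toLaurentAlg (R := k)).comp h = Φ ↔
      ∀ i, Polynomial.toLaurent (h (MvPolynomial.X i)) = Φ (MvPolynomial.X i) := by
  constructor
  · intro H i
    rw [← H]
    rfl
  · intro H
    apply MvPolynomial.algHom_ext
    intro i
    rw [AlgHom.comp_apply, Polynomial.toLaurentAlg_apply]
    exact H i

theorem aeval0_comp_eq_iff (h : MvPolynomial ι k →ₐ[k] Polynomial k) :
    (Polynomial.aeval (0:k)).comp h = MvPolynomial.aeval (fun _ : ι => (0:k)) ↔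
      ∀ i, (h (MvPolynomial.X i)).coeff 0 = 0 := by
  constructor
  · intro H i
    have := AlgHom.congr_fun H (MvPolynomial.X i)
    rw [AlgHom.comp_apply, MvPolynomial.aeval_X, ← Polynomial.coeff_zero_eq_aeval_zero] at this
    exact this
  · intro H
    apply MvPolynomial.algHom_ext
    intro i
    rw [AlgHom.comp_apply, MvPolynomial.aeval_X, ← Polynomial.coeff_zero_eq_aeval_zero]
    exact H i

end Generic

section Bridge

variable {k : Type u} [Field k] {A : Type u} [CommRing A] [Bialgebra k A]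
  {ι : Type u} [Fintype ι] [HopfRep.Comod k A (MvPolynomial ι k)]
  [GLin.IsCoactAlg k A (MvPolynomial ι k)]

theorem counit_lamOrbit (lam : A →ₐc[k] k[T;T⁻¹]) (x : MvPolynomial ι k →ₐ[k] k)
    (f : MvPolynomial ι k) :
    Coalgebra.counit (R := k) (A := k[T;T⁻¹]) (GLin.lamOrbit k A lam x f) = x f := by
  have key : ∀ z : MvPolynomial ι k ⊗[k] A,
      Coalgebra.counit (R := k) ((Algebra.TensorProduct.lid k A)
        ((Algebra.TensorProduct.map x (AlgHom.id k A)) z)) =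
      TensorProduct.lid k k ((TensorProduct.map x.toLinearMap LinearMap.id)
        ((Coalgebra.counit (R := k) (A := A)).lTensor (MvPolynomial ι k) z)) := by
    intro z
    induction z using TensorProduct.induction_on with
    | zero => simp
    | tmul r a => simp
    | add z w hz hw => simp only [map_add, hz, hw]
  have hc := LinearMap.congr_fun
    (HopfRep.Comod.counit_comp (k := k) (A := A) (V := MvPolynomial ι k)) f
  rw [LinearMap.comp_apply] at hc
  show Coalgebra.counit (R := k) (A := k[T;T⁻¹]) (lam ((Algebra.TensorProduct.lid k A)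
    ((Algebra.TensorProduct.map x (AlgHom.id k A))
      (HopfRep.Comod.coact (k := k) (A := A) f)))) = x f
  rw [CoalgHomClass.counit_comp_apply, key, hc]
  simp

variable (lam : A →ₐc[k] k[T;T⁻¹]) (v : ι → k) (L : ι → k[T;T⁻¹])
  (hL : ∀ i, GLin.lamOrbit k A lam (GLin.vecPt k ι v) (MvPolynomial.X i) = L i)

include hL

theorem exists_L_ne_zero (hv : v ≠ 0) : ∃ i, L i ≠ 0 := by
  obtain ⟨i, hi⟩ := Function.ne_iff.mp hv
  refine ⟨i, fun h0 => hi ?_⟩
  have := counit_lamOrbit lam (GLin.vecPt k ι v) (MvPolynomial.X i)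
  rw [hL, h0, map_zero, MvPolynomial.aeval_X] at this
  exact this.symm

theorem lamOrbit_eq : GLin.lamOrbit k A lam (GLin.vecPt k ι v) = MvPolynomial.aeval L := by
  apply MvPolynomial.algHom_ext
  intro i
  rw [MvPolynomial.aeval_X, hL]

theorem isMu_iff (m : ℤ) : GLin.IsMu k A lam v m ↔ PMu L m := by
  have hsh : GLin.shiftedOrbit k A lam v m = MvPolynomial.aeval (fun i => T m * L i) := by
    unfold GLin.shiftedOrbit
    simp only [hL]
  unfold GLin.IsMu PMu Wit
  rw [hsh]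
  constructor
  · rintro ⟨h, h1, h2⟩
    refine ⟨fun i => h (MvPolynomial.X i), ?_, ?_⟩
    · intro i
      have := (comp_eq_iff h _).mp h1 i
      rw [MvPolynomial.aeval_X] at this
      exact this
    · by_contra hall
      push_neg at hall
      exact h2 ((aeval0_comp_eq_iff h).mpr hall)
  · rintro ⟨p, hp, i0, hc⟩
    refine ⟨MvPolynomial.aeval p, ?_, ?_⟩
    · rw [comp_eq_iff]
      intro i
      rw [MvPolynomial.aeval_X, MvPolynomial.aeval_X]
      exact hp i
    · intro H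
      have := (aeval0_comp_eq_iff _).mp H i0
      rw [MvPolynomial.aeval_X] at this
      exact hc this

theorem hasLimit_iff : GLin.HasLimit k A lam (GLin.vecPt k ι v) ↔ PHas L := by
  unfold GLin.HasLimit PHas Wit
  rw [lamOrbit_eq lam v L hL]
  constructor
  · rintro ⟨h, h1⟩
    refine ⟨fun i => h (MvPolynomial.X i), ?_⟩
    intro i
    have := (comp_eq_iff h _).mp h1 i
    rw [MvPolynomial.aeval_X] at this
    rw [T_zero, one_mul]
    exact this
  · rintro ⟨p, hp⟩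
    refine ⟨MvPolynomial.aeval p, ?_⟩
    rw [comp_eq_iff]
    intro i
    rw [MvPolynomial.aeval_X, MvPolynomial.aeval_X, hp i, T_zero, one_mul]

theorem isLimit0_iff :
    GLin.IsLimit k A lam (GLin.vecPt k ι v) (GLin.vecPt k ι (fun _ => (0 : k))) ↔ PLim0 L := by
  unfold GLin.IsLimit PLim0 Wit
  rw [lamOrbit_eq lam v L hL]
  constructor
  · rintro ⟨h, h1, h2⟩
    refine ⟨fun i => h (MvPolynomial.X i), ?_, ?_⟩
    · intro i
      have := (comp_eq_iff h _).mp h1 i
      rw [MvPolynomial.aeval_X] at this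
      rw [T_zero, one_mul]
      exact this
    · exact (aeval0_comp_eq_iff h).mp h2
  · rintro ⟨p, hp, hp0⟩
    refine ⟨MvPolynomial.aeval p, ?_, ?_⟩
    · rw [comp_eq_iff]
      intro i
      rw [MvPolynomial.aeval_X, MvPolynomial.aeval_X, hp i, T_zero, one_mul]
    · apply (aeval0_comp_eq_iff _).mpr
      intro i
      rw [MvPolynomial.aeval_X]
      exact hp0 i

end Bridge

theorem main44 (k : Type u) [Field k] (A : Type u) [CommRing A] [Bialgebra k A]
    (ι : Type u) [Fintype ι] [HopfRep.Comod k A (MvPolynomial ι k)]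
    [GLin.IsCoactAlg k A (MvPolynomial ι k)]
    (lam : A →ₐc[k] k[T;T⁻¹]) (v : ι → k) (hv : v ≠ 0) :
    ∃! m : ℤ, GLin.IsMu k A lam v m := by
  have hL : ∀ i, GLin.lamOrbit k A lam (GLin.vecPt k ι v) (MvPolynomial.X i) =
      (fun i => GLin.lamOrbit k A lam (GLin.vecPt k ι v) (MvPolynomial.X i)) i := fun i => rfl
  obtain ⟨m₀, hm₀⟩ := exists_pMu _ (exists_L_ne_zero lam v _ hL hv)
  refine ⟨m₀, (isMu_iff lam v _ hL m₀).mpr hm₀, ?_⟩
  intro m' hm'
  exact pMu_unique ((isMu_iff lam v _ hL m').mp hm') hm₀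

theorem main45 (k : Type u) [Field k] (A : Type u) [CommRing A] [Bialgebra k A]
    (ι : Type u) [Fintype ι] [HopfRep.Comod k A (MvPolynomial ι k)]
    [GLin.IsCoactAlg k A (MvPolynomial ι k)]
    (lam : A →ₐc[k] k[T;T⁻¹]) (v : ι → k) (hv : v ≠ 0) :
    (¬ GLin.HasLimit k A lam (GLin.vecPt k ι v) ↔ ∃ m : ℤ, GLin.IsMu k A lam v m ∧ 0 < m) ∧
      ((GLin.HasLimit k A lam (GLin.vecPt k ι v) ∧
          ¬ GLin.IsLimit k A lam (GLin.vecPt k ι v) (GLin.vecPt k ι (fun _ => (0 : k)))) ↔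
        GLin.IsMu k A lam v 0) ∧
      (GLin.IsLimit k A lam (GLin.vecPt k ι v) (GLin.vecPt k ι (fun _ => (0 : k))) ↔
        ∃ m : ℤ, GLin.IsMu k A lam v m ∧ m < 0) := by
  have hL : ∀ i, GLin.lamOrbit k A lam (GLin.vecPt k ι v) (MvPolynomial.X i) =
      (fun i => GLin.lamOrbit k A lam (GLin.vecPt k ι v) (MvPolynomial.X i)) i := fun i => rfl
  have hne := exists_L_ne_zero lam v _ hL hv
  have e1 := hasLimit_iff lam v _ hL
  have e2 := isLimit0_iff lam v _ hL
  have e3 := fun m => isMu_iff lam v _ hL m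
  refine ⟨?_, ?_, ?_⟩
  · rw [e1, tri1 _ hne]
    exact exists_congr fun m => by rw [e3 m]
  · rw [e1, e2, e3 0]
    exact tri2 _
  · rw [e2, tri3 _ hne]
    exact exists_congr fun m => by rw [e3 m]

end Groth.Agent.Lib.MuLim
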