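import Mathlib
import Groth.Prelude
import Groth.Agent.Lib.ShStab2_helper6

/-!
# Truncations to the two top coefficients and slopes (helper6)

`redLE_topPart_one_iff`, `redLT_topPart_one_iff`: the reduced comparison of the truncations
`topPart 1 n` is the comparison of `hatSlope n`.  `topPart_add`, `topPart_eventually_nonneg`.
APPEND-ONLY once landed.
-/

set_option autoImplicit false
set_option linter.all false
set_option maxHeartbeats 1600000

open Polynomial StabCat

namespace Groth.Agent.Lib.MuPoly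

open Groth.Agent.Lib.HilbCalc Groth.Agent.Lib.HilbCalc2

theorem topPart_add (ℓ d : ℕ) (P Q : ℚ[X]) :
    topPart ℓ d (P + Q) = topPart ℓ d P + topPart ℓ d Q := by
  ext j
  rw [coeff_add, coeff_topPart, coeff_topPart, coeff_topPart, coeff_add]
  split_ifs <;> simp

theorem topPart_neg (ℓ d : ℕ) (P : ℚ[X]) : topPart ℓ d (-P) = -topPart ℓ d P := by
  ext j
  rw [coeff_neg, coeff_topPart, coeff_topPart, coeff_neg]
  split_ifs <;> simp

/-- truncation preserves eventual nonnegativity. -/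
theorem topPart_eventually_nonneg {d : ℕ} {Q : ℚ[X]} (hdeg : Q.natDegree ≤ d) (ℓ : ℕ)
    (h : PolyLE 0 Q) : PolyLE 0 (topPart ℓ d Q) := by
  obtain ⟨N, hN⟩ := h
  have h1 : ∃ N : ℕ, ∀ m : ℕ, N ≤ m → (-Q).eval (m : ℚ) ≤ 0 :=
    ⟨N, fun m hm => by
      have := hN m hm
      rw [eval_zero] at this
      rw [eval_neg]; linarith⟩
  obtain ⟨N', hN'⟩ := topPart_eventually_nonpos (d := d) (Q := -Q)
    (by rw [natDegree_neg]; exact hdeg) ℓ h1
  refine ⟨N', fun m hm => ?_⟩
  have := hN' m hm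
  rw [topPart_neg, eval_neg] at this
  rw [eval_zero]; linarith

/-- evaluation of the truncation to the two top coefficients. -/
theorem eval_topPart_one {n : ℕ} (hn : 1 ≤ n) (P : ℚ[X]) (x : ℚ) :
    (topPart 1 n P).eval x = P.coeff n * x ^ n + P.coeff (n - 1) * x ^ (n - 1) := by
  unfold topPart
  have hIcc : Finset.Icc (n - 1) n = {n - 1, n} := by
    ext j
    simp only [Finset.mem_Icc, Finset.mem_insert, Finset.mem_singleton]
    omega
  rw [hIcc, Finset.sum_pair (by omega), eval_add, eval_monomial, eval_monomial]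
  ring

/-- the cross-multiplied difference of truncations. -/
theorem cross_eval {n : ℕ} (hn : 1 ≤ n) (P Q : ℚ[X]) (x : ℚ) :
    (alpha n (topPart 1 n P) • topPart 1 n Q).eval x -
      (alpha n (topPart 1 n Q) • topPart 1 n P).eval x =
      (alpha n P * Q.coeff (n - 1) - alpha n Q * P.coeff (n - 1)) * x ^ (n - 1) := by
  rw [eval_smul, eval_smul, alpha_topPart, alpha_topPart, eval_topPart_one hn, eval_topPart_one hn]
  unfold alpha
  simp only [smul_eq_mul]
  ring

theorem hatSlope_le_iff {n : ℕ} {P Q : ℚ[X]} (hP : 0 < alpha n P) (hQ : 0 < alpha n Q) :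
    hatSlope n P ≤ hatSlope n Q ↔
      0 ≤ alpha n P * Q.coeff (n - 1) - alpha n Q * P.coeff (n - 1) := by
  unfold hatSlope
  rw [div_le_div_iff₀ hP hQ]
  have hf : (0 : ℚ) < ((n - 1).factorial : ℚ) := by exact_mod_cast Nat.factorial_pos (n - 1)
  have h1 : alpha (n - 1) P = ((n - 1).factorial : ℚ) * P.coeff (n - 1) := rfl
  have h2 : alpha (n - 1) Q = ((n - 1).factorial : ℚ) * Q.coeff (n - 1) := rfl
  rw [h1, h2]
  constructor
  · intro h
    have : 0 ≤ ((n - 1).factorial : ℚ) *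
        (alpha n P * Q.coeff (n - 1) - alpha n Q * P.coeff (n - 1)) := by linarith
    exact nonneg_of_mul_nonneg_right this hf
  · intro h
    have := mul_nonneg hf.le h
    linarith

theorem hatSlope_lt_iff {n : ℕ} {P Q : ℚ[X]} (hP : 0 < alpha n P) (hQ : 0 < alpha n Q) :
    hatSlope n P < hatSlope n Q ↔
      0 < alpha n P * Q.coeff (n - 1) - alpha n Q * P.coeff (n - 1) := by
  unfold hatSlope
  rw [div_lt_div_iff₀ hP hQ]
  have hf : (0 : ℚ) < ((n - 1).factorial : ℚ) := by exact_mod_cast Nat.factorial_pos (n - 1)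
  have h1 : alpha (n - 1) P = ((n - 1).factorial : ℚ) * P.coeff (n - 1) := rfl
  have h2 : alpha (n - 1) Q = ((n - 1).factorial : ℚ) * Q.coeff (n - 1) := rfl
  rw [h1, h2]
  constructor
  · intro h
    have : 0 < ((n - 1).factorial : ℚ) *
        (alpha n P * Q.coeff (n - 1) - alpha n Q * P.coeff (n - 1)) := by linarith
    exact pos_of_mul_pos_right this hf.le
  · intro h
    have := mul_pos hf h
    linarith

theorem redLE_topPart_one_iff {n : ℕ} (hn : 1 ≤ n) {P Q : ℚ[X]} (hP : 0 < alpha n P)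
    (hQ : 0 < alpha n Q) :
    RedLE n (topPart 1 n P) (topPart 1 n Q) ↔ hatSlope n P ≤ hatSlope n Q := by
  rw [hatSlope_le_iff hP hQ]
  constructor
  · rintro ⟨N, hN⟩
    have h1 := hN (max N 1) (le_max_left _ _)
    have h2 := cross_eval hn P Q ((max N 1 : ℕ) : ℚ)
    have hpos : (0 : ℚ) < ((max N 1 : ℕ) : ℚ) ^ (n - 1) := by
      apply pow_pos
      exact_mod_cast (lt_of_lt_of_le Nat.zero_lt_one (le_max_right N 1))
    have h3 : 0 ≤ (alpha n P * Q.coeff (n - 1) - alpha n Q * P.coeff (n - 1)) *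
        ((max N 1 : ℕ) : ℚ) ^ (n - 1) := by rw [← h2]; linarith
    exact nonneg_of_mul_nonneg_left h3 hpos
  · intro h
    refine ⟨0, fun m _ => ?_⟩
    have h2 := cross_eval hn P Q (m : ℚ)
    have hpos : (0 : ℚ) ≤ (m : ℚ) ^ (n - 1) := pow_nonneg (by exact_mod_cast Nat.zero_le m) _
    have := mul_nonneg h hpos
    linarith

theorem redLT_topPart_one_iff {n : ℕ} (hn : 1 ≤ n) {P Q : ℚ[X]} (hP : 0 < alpha n P)
    (hQ : 0 < alpha n Q) :
    RedLT n (topPart 1 n P) (topPart 1 n Q) ↔ hatSlope n P < hatSlope n Q := by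
  rw [hatSlope_lt_iff hP hQ]
  constructor
  · rintro ⟨N, hN⟩
    have h1 := hN (max N 1) (le_max_left _ _)
    have h2 := cross_eval hn P Q ((max N 1 : ℕ) : ℚ)
    have hpos : (0 : ℚ) < ((max N 1 : ℕ) : ℚ) ^ (n - 1) := by
      apply pow_pos
      exact_mod_cast (lt_of_lt_of_le Nat.zero_lt_one (le_max_right N 1))
    have h3 : 0 < (alpha n P * Q.coeff (n - 1) - alpha n Q * P.coeff (n - 1)) *
        ((max N 1 : ℕ) : ℚ) ^ (n - 1) := by rw [← h2]; linarith
    exact pos_of_mul_pos_left h3 hpos.le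
  · intro h
    refine ⟨1, fun m hm => ?_⟩
    have h2 := cross_eval hn P Q (m : ℚ)
    have hpos : (0 : ℚ) < (m : ℚ) ^ (n - 1) := by
      apply pow_pos
      exact_mod_cast (lt_of_lt_of_le Nat.zero_lt_one hm)
    have := mul_pos h hpos
    linarith

end Groth.Agent.Lib.MuPoly
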