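import Groth.Agent.Lib.DSDict_lead

/-! # A closed subgroup `μ_r` of a non-trivial diagonalisable group of finite type (lead) -/

set_option linter.unusedSimpArgs false
set_option linter.unusedVariables false
set_option linter.unusedSectionVars false
set_option linter.style.longLine false
set_option maxHeartbeats 800000

universe u

open CategoryTheory CategoryTheory.Limits MonoidalCategory CartesianMonoidalCategory MonObj GrpObj
  AlgebraicGeometry Opposite

namespace Groth.Agent.Lib.MuPrime

open Groth.Agent.Lib.DSDict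

/-- A non-trivial finitely generated commutative group surjects onto some `ℤ/r`, `r` prime. -/
theorem exists_surj_zmod (M : Type) [AddCommGroup M] [AddGroup.FG M] [Nontrivial M] :
    ∃ (r : ℕ) (_ : r.Prime) (φ : M →+ ZMod r), Function.Surjective φ := by
  haveI : Module.Finite ℤ M := Module.Finite.iff_addGroup_fg.2 ‹_›
  obtain ⟨N, hN⟩ : ∃ N : Submodule ℤ M, IsCoatom N := by
    rcases eq_top_or_exists_le_coatom (⊥ : Submodule ℤ M) with h | ⟨N, hN, _⟩
    · exact absurd h bot_ne_top
    · exact ⟨N, hN⟩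
  have hs : IsSimpleModule ℤ (M ⧸ N) := isSimpleModule_iff_isCoatom.2 hN
  obtain ⟨I, hI, ⟨e⟩⟩ := isSimpleModule_iff_quot_maximal.1 hs
  obtain ⟨a, rfl⟩ : ∃ a : ℤ, I = Ideal.span {a} :=
    ⟨Submodule.IsPrincipal.generator I, (Ideal.span_singleton_generator I).symm⟩
  have ha0 : a ≠ 0 := by
    rintro rfl
    have h1 : (Ideal.span {(0 : ℤ)} : Ideal ℤ) < Ideal.span {(2 : ℤ)} := by
      rw [Ideal.span_singleton_eq_bot.2 rfl, bot_lt_iff_ne_bot, Ne, Ideal.span_singleton_eq_bot]
      norm_num
    have h2 := hI.1.2 _ h1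
    rw [Ideal.span_singleton_eq_top, Int.isUnit_iff] at h2
    omega
  have hp : Prime a := (Ideal.span_singleton_prime ha0).1 hI.isPrime
  refine ⟨a.natAbs, Int.prime_iff_natAbs_prime.1 hp,
    ((Int.quotientSpanEquivZMod a).toAddEquiv.toAddMonoidHom).comp
      ((e.toAddEquiv.toAddMonoidHom).comp N.mkQ.toAddMonoidHom), ?_⟩
  intro z
  obtain ⟨y, rfl⟩ := (Int.quotientSpanEquivZMod a).surjective z
  obtain ⟨x, rfl⟩ := e.surjective y
  obtain ⟨m, rfl⟩ := N.mkQ_surjective x
  exact ⟨m, rfl⟩

theorem mapDomain_surjective {R : Type*} [CommRing R] {G H : Type*} [CommMonoid G] [CommMonoid H]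
    (f : G →* H) (hf : Function.Surjective f) :
    Function.Surjective (MonoidAlgebra.mapDomainAlgHom R R f) := by
  intro y
  induction y using MonoidAlgebra.induction_linear with
  | zero => exact ⟨0, map_zero _⟩
  | add x y hx hy =>
    obtain ⟨x', rfl⟩ := hx
    obtain ⟨y', rfl⟩ := hy
    exact ⟨x' + y', map_add _ _ _⟩
  | single b c =>
    obtain ⟨a, rfl⟩ := hf b
    exact ⟨MonoidAlgebra.single a c, by simp [MonoidAlgebra.mapDomain_single]⟩

theorem main (S : Scheme.{u}) (M : Type) [AddCommGroup M] [AddGroup.FG M] [Nontrivial M] :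
    ∃ (r : ℕ) (_ : r.Prime) (j : Red.DS S (ZMod r) ⟶ Red.DS S M),
      IsMonHom j ∧ IsClosedImmersion j.left := by
  obtain ⟨r, hr, φ, hφ⟩ := exists_surj_zmod M
  refine ⟨r, hr, Red.DSmap S φ, inferInstance, ?_⟩
  have H : IsClosedImmersion (Red.diagMap (ULift.{u} ℤ) φ).left := by
    show IsClosedImmersion (Spec.map (CommRingCat.ofHom
      (MonoidAlgebra.mapDomainAlgHom (ULift.{u} ℤ) (ULift.{u} ℤ)
        (AddMonoidHom.toMultiplicative φ)).toRingHom))
    apply IsClosedImmersion.spec_of_surjective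
    exact mapDomain_surjective (AddMonoidHom.toMultiplicative φ)
      (fun z => by
        obtain ⟨m, hm⟩ := hφ (Multiplicative.toAdd z)
        exact ⟨Multiplicative.ofAdd m, congrArg Multiplicative.ofAdd hm⟩)
  exact MorphismProperty.overPullbackMap (P := @IsClosedImmersion) _ _ H

end Groth.Agent.Lib.MuPrime
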