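import Mathlib
import Groth.Prelude.Def_GLin
import Groth.Prelude.Def_HopfRep
import Groth.Agent.Lib.MuLim_lead

namespace Groth.Agent.Lib.MuWt

open TensorProduct LaurentPolynomial

universe u

section Coeff

variable {k : Type u} [Field k] {ι : Type u} [Fintype ι]

/-- coefficient-of-`X l` functional tensored with a module -/
noncomputable def Phi (M : Type u) [AddCommGroup M] [Module k M] (l : ι) :
    MvPolynomial ι k ⊗[k] M →ₗ[k] M :=
  (TensorProduct.lid k M).toLinearMap ∘ₗ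
    (MvPolynomial.lcoeff k (Finsupp.single l 1)).rTensor M

theorem Phi_X_tmul [DecidableEq ι] (M : Type u) [AddCommGroup M] [Module k M] (l j : ι) (m : M) :
    Phi (k := k) M l ((MvPolynomial.X j : MvPolynomial ι k) ⊗ₜ[k] m) =
      if j = l then m else 0 := by
  unfold Phi
  rw [LinearMap.comp_apply, LinearMap.rTensor_tmul, MvPolynomial.lcoeff_apply,
    MvPolynomial.coeff_X', LinearEquiv.coe_coe]
  by_cases h : j = l
  · subst h
    rw [if_pos rfl, if_pos rfl, TensorProduct.lid_tmul, one_smul]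
  · rw [if_neg h, if_neg (fun h' => h (Finsupp.single_left_injective one_ne_zero h')),
      TensorProduct.zero_tmul, map_zero]

theorem Phi_sum [DecidableEq ι] (M : Type u) [AddCommGroup M] [Module k M] (l : ι) (m : ι → M) :
    Phi (k := k) M l (∑ j, (MvPolynomial.X j : MvPolynomial ι k) ⊗ₜ[k] m j) = m l := by
  rw [map_sum]
  simp only [Phi_X_tmul]
  rw [Finset.sum_ite_eq' Finset.univ l m, if_pos (Finset.mem_univ l)]

theorem span_fin {A : Type u} [AddCommGroup A] [Module k A]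
    (X : Set A) (a : ι → ι → A) (h : ∀ i j, a i j ∈ Submodule.span k X) :
    ∃ (N : ℕ) (χ : Fin N → A), (∀ n, χ n ∈ X) ∧ Function.Injective χ ∧
      ∀ i j, a i j ∈ Submodule.span k (Set.range χ) := by
  classical
  choose t ht1 ht2 using fun i j => Submodule.mem_span_finite_of_mem_span (h i j)
  let S : Finset A := Finset.univ.biUnion fun i => Finset.univ.biUnion fun j => t i j
  have hsub : ∀ i j, t i j ⊆ S := fun i j x hx =>
    Finset.mem_biUnion.mpr ⟨i, Finset.mem_univ i,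
      Finset.mem_biUnion.mpr ⟨j, Finset.mem_univ j, hx⟩⟩
  have hS : ∀ x ∈ S, x ∈ X := by
    intro x hx
    obtain ⟨i, _, hx⟩ := Finset.mem_biUnion.mp hx
    obtain ⟨j, _, hx⟩ := Finset.mem_biUnion.mp hx
    exact ht1 i j hx
  refine ⟨S.card, fun n => ((S.equivFin.symm n : S) : A),
    fun n => hS _ (S.equivFin.symm n).2, ?_, ?_⟩
  · intro n n' hnn
    exact S.equivFin.symm.injective (Subtype.ext hnn)
  · intro i j
    have hr : Set.range (fun n => ((S.equivFin.symm n : S) : A)) = (S : Set A) := by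
      ext x
      constructor
      · rintro ⟨n, rfl⟩
        exact (S.equivFin.symm n).2
      · intro hx
        exact ⟨S.equivFin ⟨x, hx⟩, by simp⟩
    rw [hr]
    exact Submodule.span_mono (Finset.coe_subset.mpr (hsub i j)) (ht2 i j)

theorem pMu_of (N : ℕ) (w : Fin N → ι → k) (e : Fin N → ℤ) (I : Finset (Fin N))
    (hI : ∀ n, n ∉ I → ∀ i, w n i = 0) (m : ℤ) (hm1 : ∀ n ∈ I, -e n ≤ m)
    (hne : ∃ i, ∑ n ∈ I.filter (fun n => m + e n = 0), w n i ≠ 0) :
    MuLim.PMu (fun i => ∑ n, w n i • (T (e n) : k[T;T⁻¹])) m := by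
  unfold MuLim.PMu MuLim.Wit
  refine ⟨fun i => ∑ n ∈ I, Polynomial.C (w n i) * Polynomial.X ^ (m + e n).toNat, ?_, ?_⟩
  · intro i
    show Polynomial.toLaurent (∑ n ∈ I, Polynomial.C (w n i) * Polynomial.X ^ (m + e n).toNat) =
      T m * ∑ n, w n i • (T (e n) : k[T;T⁻¹])
    have hsub : ∑ n ∈ I, T m * (w n i • (T (e n) : k[T;T⁻¹])) =
        ∑ n, T m * (w n i • (T (e n) : k[T;T⁻¹])) := by
      apply Finset.sum_subset (Finset.subset_univ I)
      intro n _ hn
      rw [hI n hn i, zero_smul, mul_zero]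
    rw [Finset.mul_sum, ← hsub, map_sum]
    refine Finset.sum_congr rfl fun n hn => ?_
    have h0 : 0 ≤ m + e n := by have := hm1 n hn; omega
    rw [Polynomial.toLaurent_C_mul_X_pow, Int.toNat_of_nonneg h0, mul_smul_comm, ← T_add,
      LaurentPolynomial.smul_eq_C_mul]
  · obtain ⟨i, hi⟩ := hne
    refine ⟨i, ?_⟩
    have hcoef : (∑ n ∈ I, Polynomial.C (w n i) * Polynomial.X ^ (m + e n).toNat).coeff 0 =
        ∑ n ∈ I.filter (fun n => m + e n = 0), w n i := by
      rw [Polynomial.finset_sum_coeff, Finset.sum_filter]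
      refine Finset.sum_congr rfl fun n hn => ?_
      rw [Polynomial.coeff_C_mul_X_pow]
      have := hm1 n hn
      by_cases h : m + e n = 0
      · rw [if_pos h, if_pos (by omega)]
      · rw [if_neg h, if_neg (by omega)]
    show (∑ n ∈ I, Polynomial.C (w n i) * Polynomial.X ^ (m + e n).toNat).coeff 0 ≠ 0
    rw [hcoef]
    exact hi

end Coeff

section Main

variable {k : Type u} [Field k] {A : Type u} [CommRing A] [HopfAlgebra k A]
  {ι : Type u} [Fintype ι] [HopfRep.Comod k A (MvPolynomial ι k)]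
  [GLin.IsCoactAlg k A (MvPolynomial ι k)]

theorem comul_a (a : ι → ι → A)
    (ha : ∀ i, HopfRep.Comod.coact (k := k) (A := A) (MvPolynomial.X i : MvPolynomial ι k) =
      ∑ j, (MvPolynomial.X j : MvPolynomial ι k) ⊗ₜ[k] a i j) (i l : ι) :
    CoalgebraStruct.comul (R := k) (a i l) = ∑ j, a j l ⊗ₜ[k] a i j := by
  classical
  have h := LinearMap.congr_fun
    (HopfRep.Comod.coassoc (k := k) (A := A) (V := MvPolynomial ι k)) (MvPolynomial.X i)
  have hL : ((TensorProduct.assoc k (MvPolynomial ι k) A A).toLinearMap ∘ₗ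
      (HopfRep.Comod.coact (k := k) (A := A) (V := MvPolynomial ι k)).rTensor A ∘ₗ
      HopfRep.Comod.coact (k := k) (A := A)) (MvPolynomial.X i) =
      ∑ j, ∑ l', (MvPolynomial.X l' : MvPolynomial ι k) ⊗ₜ[k] (a j l' ⊗ₜ[k] a i j) := by
    simp only [LinearMap.comp_apply, ha, map_sum, LinearMap.rTensor_tmul, TensorProduct.sum_tmul,
      LinearEquiv.coe_coe, TensorProduct.assoc_tmul]
  have hR : ((CoalgebraStruct.comul (R := k) (A := A)).lTensor (MvPolynomial ι k) ∘ₗ
      HopfRep.Comod.coact (k := k) (A := A)) (MvPolynomial.X i) =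
      ∑ l', (MvPolynomial.X l' : MvPolynomial ι k) ⊗ₜ[k]
        CoalgebraStruct.comul (R := k) (a i l') := by
    simp only [LinearMap.comp_apply, ha, map_sum, LinearMap.lTensor_tmul]
  have h2 := hL.symm.trans (h.trans hR)
  have h3 := congrArg (Phi (k := k) (A ⊗[k] A) l) h2
  rw [map_sum] at h3
  simp only [Phi_sum] at h3
  exact h3.symm

theorem counit_a [DecidableEq ι] (a : ι → ι → A)
    (ha : ∀ i, HopfRep.Comod.coact (k := k) (A := A) (MvPolynomial.X i : MvPolynomial ι k) =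
      ∑ j, (MvPolynomial.X j : MvPolynomial ι k) ⊗ₜ[k] a i j) (i l : ι) :
    CoalgebraStruct.counit (R := k) (a i l) = if i = l then 1 else 0 := by
  have h := LinearMap.congr_fun
    (HopfRep.Comod.counit_comp (k := k) (A := A) (V := MvPolynomial ι k)) (MvPolynomial.X i)
  have hL : ((CoalgebraStruct.counit (R := k) (A := A)).lTensor (MvPolynomial ι k) ∘ₗ
      HopfRep.Comod.coact (k := k) (A := A)) (MvPolynomial.X i) =
      ∑ j, (MvPolynomial.X j : MvPolynomial ι k) ⊗ₜ[k]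
        CoalgebraStruct.counit (R := k) (a i j) := by
    simp only [LinearMap.comp_apply, ha, map_sum, LinearMap.lTensor_tmul]
  have hR : ((TensorProduct.mk k (MvPolynomial ι k) k).flip 1) (MvPolynomial.X i) =
      (MvPolynomial.X i : MvPolynomial ι k) ⊗ₜ[k] (1 : k) := by
    simp only [LinearMap.flip_apply, TensorProduct.mk_apply]
  have h2 := hL.symm.trans (h.trans hR)
  have h3 := congrArg (Phi (k := k) k l) h2
  rw [Phi_sum, Phi_X_tmul] at h3
  exact h3

theorem li_chi {N : ℕ} (χ : Fin N → A) (hχ : ∀ n, IsGroupLikeElem k (χ n))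
    (hinj : Function.Injective χ) : LinearIndependent k χ := by
  have h0 : LinearIndepOn k id {x : A | IsGroupLikeElem k x} := linearIndepOn_isGroupLikeElem
  have h1 : LinearIndependent k (fun x : {x : A | IsGroupLikeElem k x} => (x : A)) := h0
  exact h1.comp (fun n => ⟨χ n, hχ n⟩) (fun n n' h => hinj (congrArg Subtype.val h))

theorem tmul_expand {N : ℕ} (χ : Fin N → A) (f g : Fin N → k) :
    (∑ n, f n • χ n) ⊗ₜ[k] (∑ n, g n • χ n) =
      ∑ p : Fin N × Fin N, (f p.1 * g p.2) • (χ p.1 ⊗ₜ[k] χ p.2) := by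
  rw [TensorProduct.sum_tmul, Fintype.sum_prod_type]
  refine Finset.sum_congr rfl fun n _ => ?_
  rw [TensorProduct.tmul_sum]
  refine Finset.sum_congr rfl fun n' _ => ?_
  rw [TensorProduct.smul_tmul_smul]

theorem diag_expand {N : ℕ} (χ : Fin N → A) (f : Fin N → k) :
    ∑ n, f n • (χ n ⊗ₜ[k] χ n) =
      ∑ p : Fin N × Fin N, (if p.1 = p.2 then f p.1 else 0) • (χ p.1 ⊗ₜ[k] χ p.2) := by
  rw [Fintype.sum_prod_type]
  refine Finset.sum_congr rfl fun n _ => ?_
  simp only [ite_smul, zero_smul]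
  rw [Finset.sum_ite_eq Finset.univ n (fun n' => f n • (χ n ⊗ₜ[k] χ n')),
    if_pos (Finset.mem_univ n)]

theorem orth (a : ι → ι → A)
    (ha : ∀ i, HopfRep.Comod.coact (k := k) (A := A) (MvPolynomial.X i : MvPolynomial ι k) =
      ∑ j, (MvPolynomial.X j : MvPolynomial ι k) ⊗ₜ[k] a i j)
    {N : ℕ} (χ : Fin N → A) (hχ : ∀ n, IsGroupLikeElem k (χ n)) (hinj : Function.Injective χ)
    (c : ι → ι → Fin N → k) (hc : ∀ i j, a i j = ∑ n, c i j n • χ n) (i l : ι) (n n' : Fin N) :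
    (∑ j, c j l n * c i j n') = if n = n' then c i l n else 0 := by
  classical
  have hli := (li_chi χ hχ hinj).tmul_of_isDomain (li_chi χ hχ hinj)
  rw [Fintype.linearIndependent_iffₛ] at hli
  have e1 : ∑ p : Fin N × Fin N, (∑ j, c j l p.1 * c i j p.2) • (χ p.1 ⊗ₜ[k] χ p.2)
      = ∑ j, a j l ⊗ₜ[k] a i j := by
    simp_rw [Finset.sum_smul]
    rw [Finset.sum_comm]
    refine Finset.sum_congr rfl fun j _ => ?_
    rw [hc j l, hc i j]
    exact (tmul_expand χ _ _).symm
  have hΔ : ∀ n, CoalgebraStruct.comul (R := k) (χ n) = χ n ⊗ₜ[k] χ n :=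
    fun n => (hχ n).comul_eq_tmul_self
  have e2 : CoalgebraStruct.comul (R := k) (a i l) =
      ∑ p : Fin N × Fin N, (if p.1 = p.2 then c i l p.1 else 0) • (χ p.1 ⊗ₜ[k] χ p.2) := by
    rw [hc i l, map_sum]
    simp_rw [map_smul, hΔ]
    exact diag_expand χ _
  have key := hli (fun p => ∑ j, c j l p.1 * c i j p.2)
    (fun p => if p.1 = p.2 then c i l p.1 else 0)
    (e1.trans ((comul_a a ha i l).symm.trans e2))
  exact key (n, n')

theorem unit_rel [DecidableEq ι] (a : ι → ι → A)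
    (ha : ∀ i, HopfRep.Comod.coact (k := k) (A := A) (MvPolynomial.X i : MvPolynomial ι k) =
      ∑ j, (MvPolynomial.X j : MvPolynomial ι k) ⊗ₜ[k] a i j)
    {N : ℕ} (χ : Fin N → A) (hχ : ∀ n, IsGroupLikeElem k (χ n))
    (c : ι → ι → Fin N → k) (hc : ∀ i j, a i j = ∑ n, c i j n • χ n) (i j : ι) :
    (∑ n, c i j n) = if i = j then 1 else 0 := by
  rw [← counit_a a ha i j, hc i j, map_sum]
  refine Finset.sum_congr rfl fun n _ => ?_
  rw [map_smul, (hχ n).counit_eq_one, smul_eq_mul, mul_one]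

theorem P1 [DecidableEq ι] (a : ι → ι → A)
    (ha : ∀ i, HopfRep.Comod.coact (k := k) (A := A) (MvPolynomial.X i : MvPolynomial ι k) =
      ∑ j, (MvPolynomial.X j : MvPolynomial ι k) ⊗ₜ[k] a i j)
    {N : ℕ} (χ : Fin N → A) (hχ : ∀ n, IsGroupLikeElem k (χ n))
    (c : ι → ι → Fin N → k) (hc : ∀ i j, a i j = ∑ n, c i j n • χ n) (v : ι → k) (i : ι) :
    ∑ n, ∑ j, c i j n * v j = v i := by
  rw [Finset.sum_comm]
  simp_rw [← Finset.sum_mul, unit_rel a ha χ hχ c hc]
  simp only [ite_mul, one_mul, zero_mul]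
  rw [Finset.sum_ite_eq Finset.univ i v, if_pos (Finset.mem_univ i)]

theorem P2 (a : ι → ι → A)
    (ha : ∀ i, HopfRep.Comod.coact (k := k) (A := A) (MvPolynomial.X i : MvPolynomial ι k) =
      ∑ j, (MvPolynomial.X j : MvPolynomial ι k) ⊗ₜ[k] a i j)
    {N : ℕ} (χ : Fin N → A) (hχ : ∀ n, IsGroupLikeElem k (χ n)) (hinj : Function.Injective χ)
    (c : ι → ι → Fin N → k) (hc : ∀ i j, a i j = ∑ n, c i j n • χ n) (v : ι → k) (i : ι)
    (n n' : Fin N) :
    ∑ j, c i j n' * (∑ l, c j l n * v l) = if n = n' then ∑ l, c i l n * v l else 0 := by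
  classical
  simp_rw [Finset.mul_sum]
  rw [Finset.sum_comm]
  have hl : ∀ l, ∑ j, c i j n' * (c j l n * v l) = (if n = n' then c i l n else 0) * v l := by
    intro l
    rw [← orth a ha χ hχ hinj c hc i l n n', Finset.sum_mul]
    refine Finset.sum_congr rfl fun j _ => by ring
  simp_rw [hl]
  by_cases h : n = n'
  · simp only [if_pos h]
  · simp only [if_neg h, zero_mul, Finset.sum_const_zero]

theorem exists_coord_ne (a : ι → ι → A)
    (ha : ∀ i, HopfRep.Comod.coact (k := k) (A := A) (MvPolynomial.X i : MvPolynomial ι k) =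
      ∑ j, (MvPolynomial.X j : MvPolynomial ι k) ⊗ₜ[k] a i j)
    {N : ℕ} (χ : Fin N → A) (hχ : ∀ n, IsGroupLikeElem k (χ n)) (hinj : Function.Injective χ)
    (c : ι → ι → Fin N → k) (hc : ∀ i j, a i j = ∑ n, c i j n • χ n) (v : ι → k)
    (J : Finset (Fin N)) (n0 : Fin N) (hn0 : n0 ∈ J) (i0 : ι)
    (hw : ∑ l, c i0 l n0 * v l ≠ 0) : ∃ i, ∑ n ∈ J, ∑ l, c i l n * v l ≠ 0 := by
  classical
  by_contra hall
  push_neg at hall
  apply hw
  calc ∑ l, c i0 l n0 * v l
      = ∑ n ∈ J, (if n = n0 then ∑ l, c i0 l n * v l else 0) := by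
        rw [Finset.sum_ite_eq' J n0 (fun n => ∑ l, c i0 l n * v l), if_pos hn0]
    _ = ∑ n ∈ J, ∑ j, c i0 j n0 * (∑ l, c j l n * v l) := by
        refine Finset.sum_congr rfl fun n _ => ?_
        exact (P2 a ha χ hχ hinj c hc v i0 n n0).symm
    _ = ∑ j, c i0 j n0 * ∑ n ∈ J, ∑ l, c j l n * v l := by
        rw [Finset.sum_comm]
        refine Finset.sum_congr rfl fun j _ => ?_
        rw [Finset.mul_sum]
    _ = 0 := by
        simp_rw [hall, mul_zero, Finset.sum_const_zero]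

theorem L_eq (a : ι → ι → A)
    (ha : ∀ i, HopfRep.Comod.coact (k := k) (A := A) (MvPolynomial.X i : MvPolynomial ι k) =
      ∑ j, (MvPolynomial.X j : MvPolynomial ι k) ⊗ₜ[k] a i j)
    {N : ℕ} (χ : Fin N → A)
    (c : ι → ι → Fin N → k) (hc : ∀ i j, a i j = ∑ n, c i j n • χ n)
    (lam : A →ₐc[k] k[T;T⁻¹]) (e : Fin N → ℤ)
    (he : ∀ n, lam (χ n) = T (e n)) (v : ι → k) (i : ι) :
    GLin.lamOrbit k A lam (GLin.vecPt k ι v) (MvPolynomial.X i) =
      ∑ n, (∑ l, c i l n * v l) • (T (e n) : k[T;T⁻¹]) := by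
  show lam ((Algebra.TensorProduct.lid k A)
    ((Algebra.TensorProduct.map (GLin.vecPt k ι v) (AlgHom.id k A))
      (HopfRep.Comod.coact (k := k) (A := A) (MvPolynomial.X i : MvPolynomial ι k)))) = _
  rw [ha i]
  simp only [map_sum, Algebra.TensorProduct.map_tmul, Algebra.TensorProduct.lid_tmul,
    MvPolynomial.aeval_X, AlgHom.coe_id, id_eq, map_smul, hc, he]
  simp_rw [Finset.smul_sum, smul_smul]
  rw [Finset.sum_comm]
  refine Finset.sum_congr rfl fun n _ => ?_
  rw [Finset.sum_smul]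
  refine Finset.sum_congr rfl fun j _ => ?_
  rw [mul_comm]

end Main

theorem main (k : Type u) [Field k] (A : Type u) [CommRing A] [HopfAlgebra k A]
    (hdiag : HopfRep.IsDiagonalizable k A)
    (ι : Type u) [Fintype ι] [HopfRep.Comod k A (MvPolynomial ι k)]
    [GLin.IsCoactAlg k A (MvPolynomial ι k)]
    (hlin : GLin.IsLinear k A ι) :
    ∃ (N : ℕ) (χ : Fin N → A), (∀ j, IsGroupLikeElem k (χ j)) ∧
      ∀ v : ι → k, v ≠ 0 → ∃ I : Finset (Fin N), I.Nonempty ∧
        ∀ (lam : A →ₐc[k] k[T;T⁻¹]) (e : Fin N → ℤ),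
          (∀ j, lam (χ j) = LaurentPolynomial.T (e j)) →
          ∀ m : ℤ, GLin.IsMu k A lam v m ↔ ((∀ j ∈ I, -e j ≤ m) ∧ ∃ j ∈ I, m = -e j) := by
  classical
  choose a ha using hlin
  have hd : Submodule.span k {x : A | IsGroupLikeElem k x} = ⊤ := hdiag
  obtain ⟨N, χ, hχ, hinj, hspan⟩ := span_fin (k := k) {x : A | IsGroupLikeElem k x} a
    (fun i j => by rw [hd]; exact Submodule.mem_top)
  have hex : ∀ i j, ∃ c : Fin N → k, ∑ n, c n • χ n = a i j := fun i j =>
    (Submodule.mem_span_range_iff_exists_fun k).mp (hspan i j)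
  choose c hc' using hex
  have hc : ∀ i j, a i j = ∑ n, c i j n • χ n := fun i j => (hc' i j).symm
  refine ⟨N, χ, hχ, fun v hv => ?_⟩
  let w : Fin N → ι → k := fun n i => ∑ l, c i l n * v l
  let I : Finset (Fin N) := Finset.univ.filter (fun n => ∃ i, w n i ≠ 0)
  have hI0 : ∀ n, n ∉ I → ∀ i, w n i = 0 := by
    intro n hn i
    by_contra h
    exact hn (Finset.mem_filter.mpr ⟨Finset.mem_univ n, i, h⟩)
  have hIne : I.Nonempty := by
    obtain ⟨i, hi⟩ := Function.ne_iff.mp hv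
    by_contra hI
    rw [Finset.not_nonempty_iff_eq_empty] at hI
    apply hi
    have h1 := P1 a ha χ hχ c hc v i
    rw [Pi.zero_apply, ← h1]
    refine Finset.sum_eq_zero fun n _ => ?_
    exact hI0 n (by rw [hI]; exact Finset.notMem_empty n) i
  refine ⟨I, hIne, fun lam e he m => ?_⟩
  have hL : ∀ i, GLin.lamOrbit k A lam (GLin.vecPt k ι v) (MvPolynomial.X i) =
      (fun i => ∑ n, w n i • (T (e n) : k[T;T⁻¹])) i :=
    fun i => L_eq a ha χ c hc lam e he v i
  rw [MuLim.isMu_iff lam v _ hL m]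
  have hA : ∀ m' : ℤ, ((∀ j ∈ I, -e j ≤ m') ∧ ∃ j ∈ I, m' = -e j) →
      MuLim.PMu (fun i => ∑ n, w n i • (T (e n) : k[T;T⁻¹])) m' := by
    rintro m' ⟨h1, n0, hn0, h2⟩
    apply pMu_of N w e I hI0 m' h1
    obtain ⟨i0, hi0⟩ := (Finset.mem_filter.mp hn0).2
    exact exists_coord_ne a ha χ hχ hinj c hc v (I.filter (fun n => m' + e n = 0)) n0
      (Finset.mem_filter.mpr ⟨hn0, by omega⟩) i0 hi0
  constructor
  · intro hP
    obtain ⟨n0, hn0, hmax⟩ := Finset.exists_max_image I (fun n => -e n) hIne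
    have hP' := hA (-e n0) ⟨fun j hj => hmax j hj, n0, hn0, rfl⟩
    have hm := MuLim.pMu_unique hP hP'
    subst hm
    exact ⟨fun j hj => hmax j hj, n0, hn0, rfl⟩
  · exact hA m

end Groth.Agent.Lib.MuWt
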