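import Mathlib
import Groth.Prelude.Def_W4c1extbt15Mult
import Groth.Prelude.Def_CGrpSh

/-! # Alternating multilinear maps can be tested after an fppf epimorphism (lead) -/

set_option autoImplicit false
set_option linter.unusedSimpArgs false
set_option linter.unusedVariables false
set_option linter.unusedSectionVars false
set_option linter.style.longLine false
set_option linter.unnecessarySimpa false
set_option maxHeartbeats 1600000
set_option backward.isDefEq.respectTransparency false
set_option backward.isDefEq.respectTransparency.types false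
set_option backward.defeqAttrib.useBackward true

universe v u

open CategoryTheory CategoryTheory.Limits MonoidalCategory CartesianMonoidalCategory MonObj
  AlgebraicGeometry Opposite

namespace Groth.Agent.Lib.MultAlt

section gen

variable {C : Type u} [Category.{v} C] [CartesianMonoidalCategory C] [BraidedCategory C]

theorem comp_tuple {M T T' : C} (t : T' ⟶ T) :
    ∀ {n : ℕ} (x : Fin n → (T ⟶ M)), t ≫ MultSch.tuple x = MultSch.tuple (fun l => t ≫ x l)
  | 0, _ => toUnit_unique _ _
  | n + 1, x => by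
      show t ≫ lift (x 0) (MultSch.tuple fun i => x i.succ) =
        lift (t ≫ x 0) (MultSch.tuple fun i => t ≫ x i.succ)
      rw [comp_lift, comp_tuple t (fun i => x i.succ)]

theorem exists_common {D : Type*} [Category D] (J : GrothendieckTopology D) {T : D} {r : ℕ}
    (P : Fin r → ∀ ⦃T' : D⦄, (T' ⟶ T) → Prop)
    (h : ∀ l, ∃ R ∈ J T, ∀ ⦃T' : D⦄ (t : T' ⟶ T), R t → P l t) :
    ∃ R ∈ J T, ∀ ⦃T' : D⦄ (t : T' ⟶ T), R t → ∀ l, P l t := by
  choose R hR hP using h
  have key : ∀ s : Finset (Fin r), ∃ R' ∈ J T, ∀ ⦃T' : D⦄ (t : T' ⟶ T), R' t → ∀ l ∈ s, P l t := by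
    intro s
    induction s using Finset.induction_on with
    | empty => exact ⟨⊤, J.top_mem T, fun _ _ _ l hl => absurd hl (Finset.notMem_empty l)⟩
    | insert a s _ ih =>
      obtain ⟨R', hR', h'⟩ := ih
      refine ⟨R a ⊓ R', J.intersection_covering (hR a) hR', fun T' t ht l hl => ?_⟩
      rcases Finset.mem_insert.1 hl with rfl | hl
      · exact hP _ t ht.1
      · exact h' t ht.2 l hl
  obtain ⟨R', hR', h'⟩ := key Finset.univ
  exact ⟨R', hR', fun T' t ht l => h' t ht l (Finset.mem_univ l)⟩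

end gen

section main

variable {S : Scheme.{u}} {M M'' H : Over S} [GrpObj M] [IsCommMonObj M] [GrpObj M'']
  [IsCommMonObj M''] [GrpObj H] [IsCommMonObj H]

theorem exists_lift (π : M ⟶ M'') [IsMonHom π]
    (hπ : Epi (CGrpSh.ptsMap Scheme.fppfPrecoverage π)) {T : Over S} {r : ℕ}
    (x : Fin r → (T ⟶ M'')) :
    ∃ R ∈ QuotSh.J Scheme.fppfPrecoverage S T, ∀ ⦃T' : Over S⦄ (t : T' ⟶ T), R t →
      ∀ l, ∃ y : T' ⟶ M, y ≫ π = t ≫ x l := by
  haveI : Sheaf.IsLocallySurjective (CGrpSh.ptsMap Scheme.fppfPrecoverage π) :=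
    (Sheaf.isLocallySurjective_iff_epi' (φ := CGrpSh.ptsMap Scheme.fppfPrecoverage π)).2 hπ
  refine exists_common (QuotSh.J Scheme.fppfPrecoverage S)
    (fun l T' t => ∃ y : T' ⟶ M, y ≫ π = t ≫ x l) (fun l => ?_)
  refine ⟨Presheaf.imageSieve (CGrpSh.ptsMap Scheme.fppfPrecoverage π).hom (U := T)
    (ULift.up (Additive.ofMul (x l)) : ULift.{u + 1} (Additive (T ⟶ M''))),
    Presheaf.imageSieve_mem _ _ _, ?_⟩
  rintro T' t ⟨s, hs⟩
  let s₀ : ULift.{u + 1} (Additive (T' ⟶ M)) := s
  have h : Additive.toMul s₀.down ≫ π = t ≫ x l :=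
    congrArg (fun z : ULift.{u + 1} (Additive (T' ⟶ M'')) => Additive.toMul z.down) hs
  exact ⟨Additive.toMul s₀.down, h⟩

theorem main (π : M ⟶ M'') [IsMonHom π] (hπ : Epi (CGrpSh.ptsMap Scheme.fppfPrecoverage π))
    {r : ℕ} (φ : MultSch.pow M'' r ⟶ H)
    (halt : ∀ (T : Over S) (x : Fin r → (T ⟶ M)) (i j : Fin r), i ≠ j → x i = x j →
      MultSch.tuple (fun l => x l ≫ π) ≫ φ = 1) :
    MultSch.IsAlternating φ := by
  intro T x i j hij hxx
  obtain ⟨R, hR, hlift⟩ := exists_lift π hπ x
  haveI : (QuotSh.J Scheme.fppfPrecoverage S).Subcanonical :=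
    inferInstanceAs ((Scheme.fppfTopology.over S).Subcanonical)
  have hsh : Presieve.IsSheaf (QuotSh.J Scheme.fppfPrecoverage S) (yoneda.obj H) :=
    GrothendieckTopology.Subcanonical.isSheaf_of_isRepresentable _
  refine (hsh R hR).isSeparatedFor.ext (t₁ := (MultSch.tuple x ≫ φ : T ⟶ H))
    (t₂ := (1 : T ⟶ H)) ?_
  intro T' t ht
  show t ≫ (MultSch.tuple x ≫ φ) = t ≫ 1
  choose y hy using hlift t ht
  have hy' : ∀ l, Function.update y j (y i) l ≫ π = t ≫ x l := by
    intro l
    by_cases hl : l = j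
    · rw [hl, Function.update_self, hy i, hxx]
    · rw [Function.update_of_ne hl, hy l]
  have h1 := halt T' (Function.update y j (y i)) i j hij
    (by rw [Function.update_self, Function.update_of_ne hij])
  have h2 : (fun l => Function.update y j (y i) l ≫ π) = fun l => t ≫ x l := funext hy'
  rw [h2] at h1
  rw [← Category.assoc, comp_tuple, h1, MonObj.comp_one]

end main

end Groth.Agent.Lib.MultAlt
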