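import Mathlib
import Groth.Prelude.Def_W4c5qllcourbesmultMultCrv

/-!
# Modules over `R[X]/(X^n)`, `R` a discrete valuation ring: the two canonical filtrations
-/

set_option autoImplicit false

universe u v

namespace Groth.Agent.MultCrvQF

open Function

section Core

variable {A : Type u} [CommRing A] (z ϖ : A) (M : Type v) [AddCommGroup M] [Module A M]

/-- `M / z^i M` has no `ϖ`-torsion. -/
def Sc (i : ℕ) : Prop := ∀ w u : M, ϖ • w = z ^ i • u → ∃ u' : M, w = z ^ i • u'

/-- `M` has no `ϖ`-torsion. -/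
def TFc : Prop := ∀ w : M, ϖ • w = 0 → w = 0

/-- `z^i M / z^(i+1) M` has no `ϖ`-torsion. -/
def G1c (i : ℕ) : Prop :=
  ∀ w : M, (∃ u : M, z ^ (i + 1) • u = ϖ • (z ^ i • w)) → ∃ u' : M, z ^ (i + 1) • u' = z ^ i • w

/-- `Γ^(i)(M)` has no `ϖ`-torsion. -/
def Tc (i : ℕ) : Prop :=
  ∀ v : M, z ^ (i + 1) • v = 0 →
    (∃ b : M, z ^ (i + 2) • b = 0 ∧ z ^ i • (z • b - ϖ • v) = 0) →
    ∃ b' : M, z ^ (i + 2) • b' = 0 ∧ z ^ i • (z • b' - v) = 0

variable {z ϖ M}

lemma Sc_of_G1c {n : ℕ} (hnil : ∀ w : M, z ^ n • w = 0) (hG : ∀ i < n, G1c z ϖ M i) :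
    ∀ i, Sc z ϖ M i := by
  intro i
  induction i with
  | zero =>
    intro w u _
    exact ⟨w, by rw [pow_zero, one_smul]⟩
  | succ i ih =>
    intro w u hwu
    have h1 : ϖ • w = z ^ i • (z • u) := by rw [hwu, pow_succ, mul_smul]
    obtain ⟨w', rfl⟩ := ih w (z • u) h1
    by_cases hi : i < n
    · obtain ⟨u', hu'⟩ := hG i hi w' ⟨u, hwu.symm⟩
      exact ⟨u', hu'.symm⟩
    · have hz : z ^ i • w' = 0 := by
        obtain ⟨d, rfl⟩ := Nat.exists_eq_add_of_le (not_lt.1 hi)
        rw [pow_add, mul_comm, mul_smul, hnil, smul_zero]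
      exact ⟨0, by rw [hz, smul_zero]⟩

lemma TFc_of_Sc {n : ℕ} (hnil : ∀ w : M, z ^ n • w = 0) (hS : Sc z ϖ M n) : TFc ϖ M := by
  intro w hw
  obtain ⟨u', rfl⟩ := hS w 0 (by rw [hw, smul_zero])
  exact hnil u'

lemma G1c_of_Sc (i : ℕ) (hS : Sc z ϖ M (i + 1)) : G1c z ϖ M i := by
  rintro w ⟨u, hu⟩
  obtain ⟨u', hu'⟩ := hS (z ^ i • w) u hu.symm
  exact ⟨u', hu'.symm⟩

/-- `(G) ⟹ (Γ)`. -/
lemma Tc_of_Sc (hTF : TFc ϖ M) (j : ℕ) (hS : Sc z ϖ M (j + 1)) : Tc z ϖ M j := by
  rintro v hv ⟨b, hb, hab⟩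
  -- `ϖ • z^j v = z^(j+1) b`
  have h1 : ϖ • (z ^ j • v) = z ^ (j + 1) • b := by
    rw [smul_sub, sub_eq_zero] at hab
    rw [smul_comm, ← hab, pow_succ, mul_smul]
  obtain ⟨c, hc⟩ := hS (z ^ j • v) b h1
  refine ⟨c, ?_, ?_⟩
  · apply hTF
    have h2 : ϖ • (z ^ (j + 1) • c) = z ^ (j + 1) • b := by rw [← hc, h1]
    calc ϖ • z ^ (j + 2) • c = z • (ϖ • (z ^ (j + 1) • c)) := by
          rw [pow_succ (n := j + 1), mul_comm (z ^ (j + 1)) z, mul_smul, smul_comm ϖ z]
      _ = z ^ (j + 2) • b := by rw [h2, pow_succ (n := j + 1), mul_comm (z ^ (j + 1)) z, mul_smul]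
      _ = 0 := hb
  · rw [smul_sub, sub_eq_zero, ← mul_smul, ← pow_succ, ← hc]

/-- The "dual" form of `Tc`. -/
lemma Tc' (j : ℕ) (hT : Tc z ϖ M j) (u a b : M) (hu : z ^ (j + 2) • u = 0) (ha : z ^ j • a = 0)
    (hb : z ^ (j + 1) • b = 0) (h : z • u = a + ϖ • b) :
    ∃ c u' : M, z ^ (j + 1) • c = 0 ∧ z ^ (j + 2) • u' = 0 ∧ u = c + ϖ • u' := by
  obtain ⟨u', hu', hab⟩ := hT b hb ⟨u, hu, by
    have : z • u - ϖ • b = a := by rw [h]; abel
    rw [this, ha]⟩
  refine ⟨u - ϖ • u', u', ?_, hu', by abel⟩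
  -- `z (u - ϖ u') = a + ϖ (b - z u')`, killed by `z^j`
  have h3 : z • (u - ϖ • u') = a - ϖ • (z • u' - b) := by
    rw [smul_sub, h, smul_sub, smul_comm z ϖ u']
    abel
  rw [pow_succ, mul_smul, h3, smul_sub, ha, smul_comm, hab, smul_zero, sub_zero]

lemma Tc_trivial {n : ℕ} (hnil : ∀ w : M, z ^ n • w = 0) (j : ℕ) (hj : n ≤ j) : Tc z ϖ M j := by
  rintro v _ _
  refine ⟨0, by rw [smul_zero], ?_⟩
  obtain ⟨d, rfl⟩ := Nat.exists_eq_add_of_le hj
  rw [pow_add, mul_comm, mul_smul, hnil, smul_zero]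

/-- `G2(j+1)` has no `ϖ`-torsion. -/
lemma Q_of_Tc {n : ℕ} (hnil : ∀ w : M, z ^ n • w = 0) (hT : ∀ j, Tc z ϖ M j) :
    ∀ k j : ℕ, j + k = n → ∀ v : M, z ^ (j + 1) • v = 0 → ϖ • (z ^ j • v) = 0 → z ^ j • v = 0 := by
  intro k
  induction k with
  | zero =>
    intro j hj v _ _
    rw [add_zero] at hj
    rw [hj]
    exact hnil v
  | succ k ih =>
    intro j hj v hv hπ
    obtain ⟨b', hb', hab⟩ := hT j v hv ⟨0, by rw [smul_zero], by
      rw [smul_zero, zero_sub, smul_neg, smul_comm, hπ, neg_zero]⟩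
    have hQ := ih (j + 1) (by omega) b' hb' (by
      -- `ϖ z^(j+1) b' = ϖ z^j v = 0`
      rw [smul_sub, sub_eq_zero, ← mul_smul, ← pow_succ] at hab
      rw [hab, hπ])
    rw [smul_sub, sub_eq_zero, ← mul_smul, ← pow_succ] at hab
    rw [← hab, hQ]

lemma TFc_of_Tc {n : ℕ} (hnil : ∀ w : M, z ^ n • w = 0) (hT : ∀ j, Tc z ϖ M j) : TFc ϖ M := by
  have key : ∀ j : ℕ, ∀ w : M, z ^ j • w = 0 → ϖ • w = 0 → w = 0 := by
    intro j
    induction j with
    | zero =>
      intro w hw _
      rwa [pow_zero, one_smul] at hw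
    | succ j ih =>
      intro w hw hπ
      by_cases hjn : j ≤ n
      · obtain ⟨k, hk⟩ := Nat.exists_eq_add_of_le hjn
        have := Q_of_Tc hnil hT k j hk.symm w hw (by rw [smul_comm, hπ, smul_zero])
        exact ih w this hπ
      · have : z ^ j • w = 0 := by
          obtain ⟨d, rfl⟩ := Nat.exists_eq_add_of_le (not_le.1 hjn).le
          rw [pow_add, mul_comm, mul_smul, hnil, smul_zero]
        exact ih w this hπ
  intro w hw
  exact key n w (hnil w) hw

/-- `(Γ) ⟹ (G)`. -/
lemma Sc_of_Tc {n : ℕ} (hnil : ∀ w : M, z ^ n • w = 0) (hT : ∀ j, Tc z ϖ M j) (i : ℕ) :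
    Sc z ϖ M i := by
  have hTF := TFc_of_Tc hnil hT
  have key : ∀ j : ℕ, ∀ w u : M, z ^ j • w = 0 → ϖ • w = z ^ i • u → ∃ u' : M, w = z ^ i • u' := by
    intro j
    induction j with
    | zero =>
      intro w u hw _
      rw [pow_zero, one_smul] at hw
      exact ⟨0, by rw [hw, smul_zero]⟩
    | succ j ih =>
      intro w u hw hwu
      have hu : z ^ (i + j + 1) • u = 0 := by
        rw [show i + j + 1 = (j + 1) + i by omega, pow_add, mul_smul, ← hwu, smul_comm, hw,
          smul_zero]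
      have inner : ∀ s t : ℕ, s + t = i → ∃ c us : M, z ^ (j + s) • c = 0 ∧
          z ^ (j + s + 1) • us = 0 ∧ z ^ t • u = c + ϖ • us := by
        intro s
        induction s with
        | zero =>
          intro t ht
          rw [zero_add] at ht
          exact ⟨0, w, by rw [smul_zero], hw, by rw [ht, zero_add, hwu]⟩
        | succ s ihs =>
          intro t ht
          obtain ⟨c, us, hc, hus, hcu⟩ := ihs (t + 1) (by omega)
          have hx : z ^ (j + s + 2) • (z ^ t • u) = 0 := by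
            rw [← mul_smul, ← pow_add, show j + s + 2 + t = i + j + 1 by omega, hu]
          obtain ⟨c', u', hc', hu', hxe⟩ := Tc' (j + s) (hT (j + s)) (z ^ t • u) c us hx hc hus
            (by rw [← mul_smul, ← pow_succ', hcu])
          exact ⟨c', u', hc', hu', hxe⟩
      obtain ⟨c, us, hc, hus, hcu⟩ := inner i 0 (by omega)
      rw [pow_zero, one_smul] at hcu
      -- `ϖ (w - z^i us) = z^i c`
      have h1 : ϖ • (w - z ^ i • us) = z ^ i • c := by
        rw [smul_sub, hwu, hcu, smul_add, smul_comm ϖ (z ^ i) us]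
        abel
      have h2 : z ^ j • (w - z ^ i • us) = 0 := by
        apply hTF
        rw [smul_comm, h1, ← mul_smul, ← pow_add, hc]
      obtain ⟨u'', hu''⟩ := ih (w - z ^ i • us) c h2 h1
      exact ⟨u'' + us, by rw [smul_add, ← hu'']; abel⟩
  intro w u hwu
  exact key n w u (hnil w) hwu

/-- The equivalence of the two freeness conditions, elementwise. -/
theorem G1c_iff_Tc {n : ℕ} (hnil : ∀ w : M, z ^ n • w = 0) :
    (∀ i < n, G1c z ϖ M i) ↔ (∀ i < n, Tc z ϖ M i) := by
  constructor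
  · intro hG i _
    have hS := Sc_of_G1c hnil hG
    exact Tc_of_Sc (TFc_of_Sc hnil (hS n)) i (hS (i + 1))
  · intro hT i _
    have hT' : ∀ j, Tc z ϖ M j := by
      intro j
      by_cases hj : j < n
      · exact hT j hj
      · exact Tc_trivial hnil j (not_lt.1 hj)
    exact G1c_of_Sc i (Sc_of_Tc hnil hT' (i + 1))

end Core

section Translate

open MultCrv Polynomial

variable (R : Type u) [CommRing R] [IsDomain R] [IsDiscreteValuationRing R]

/-- Over a discrete valuation ring, a finite module is free iff it has no `π`-torsion. -/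
lemma free_iff_of_irreducible {π : R} (hπ : Irreducible π) (N : Type v) [AddCommGroup N]
    [Module R N] [Module.Finite R N] : Module.Free R N ↔ ∀ w : N, π • w = 0 → w = 0 := by
  rw [Module.free_iff_isTorsionFree]
  constructor
  · intro h w hw
    exact (smul_eq_zero.1 hw).resolve_left hπ.ne_zero
  · intro h
    have hpow : ∀ k : ℕ, ∀ w : N, π ^ k • w = 0 → w = 0 := by
      intro k
      induction k with
      | zero =>
        intro w hw
        rwa [pow_zero, one_smul] at hw
      | succ k ih =>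
        intro w hw
        rw [pow_succ, mul_smul] at hw
        exact h w (ih _ hw)
    refine ⟨fun r hr a b hab => ?_⟩
    have hr0 : r ≠ 0 := hr.ne_zero
    obtain ⟨k, u, hu⟩ := IsDiscreteValuationRing.eq_unit_mul_pow_irreducible hr0 hπ
    have h1 : r • (a - b) = 0 := by
      rw [smul_sub]
      exact sub_eq_zero.2 hab
    rw [hu, mul_smul] at h1
    have h2 : π ^ k • (a - b) = 0 := by
      have := congrArg (fun t => (↑u⁻¹ : R) • t) h1
      simpa [smul_smul] using this
    exact sub_eq_zero.1 (hpow k _ h2)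

variable (n : ℕ) (M : Type u) [AddCommGroup M] [Module (Rn R n) M] [Module R M]
  [IsScalarTower R (Rn R n) M]

omit [IsDomain R] [IsDiscreteValuationRing R] [Module R M] [IsScalarTower R (Rn R n) M] in
lemma z_pow_smul (w : M) : z R n ^ n • w = 0 := by
  have : z R n ^ n = 0 := by
    rw [← map_pow]
    exact Ideal.Quotient.eq_zero_iff_mem.2 (Ideal.mem_span_singleton_self _)
  rw [this]
  exact zero_smul (Rn R n) w

omit [IsDomain R] [IsDiscreteValuationRing R] in
lemma finite_of_finite [Module.Finite (Rn R n) M] : Module.Finite R M := by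
  have : Module.Finite R (Rn R n) := (monic_X_pow n).finite_quotient
  exact Module.Finite.trans (Rn R n) M

lemma finite_sub [Module.Finite (Rn R n) M] (P : Submodule (Rn R n) M) : Module.Finite R ↥P := by
  have := finite_of_finite R n M
  have : IsNoetherian R M := isNoetherian_of_isNoetherianRing_of_finite R M
  exact Module.Finite.of_injective (P.subtype.restrictScalars R) P.subtype_injective

omit [IsDomain R] [IsDiscreteValuationRing R] in
lemma finite_quot {N : Type u} [AddCommGroup N] [Module (Rn R n) N] [Module R N]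
    [IsScalarTower R (Rn R n) N] [Module.Finite R N] (P : Submodule (Rn R n) N) :
    Module.Finite R (N ⧸ P) :=
  Module.Finite.of_surjective (P.mkQ.restrictScalars R) P.mkQ_surjective

lemma free_G1_iff {π : R} (hπ : Irreducible π) [Module.Finite (Rn R n) M] (i : ℕ) :
    Module.Free R (G1 R n M i) ↔ G1c (z R n) (algebraMap R (Rn R n) π) M i := by
  have h1 := finite_sub R n M (filt R n M i)
  have h2 : Module.Finite R (G1 R n M i) := finite_quot R n _
  rw [free_iff_of_irreducible R hπ]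
  constructor
  · rintro h w ⟨u, hu⟩
    let x : ↥(filt R n M i) := ⟨z R n ^ i • w, ⟨w, rfl⟩⟩
    have hx : π • (Submodule.Quotient.mk x : G1 R n M i) = 0 := by
      rw [← Submodule.Quotient.mk_smul, Submodule.Quotient.mk_eq_zero, Submodule.mem_comap]
      refine ⟨u, ?_⟩
      show z R n ^ (i + 1) • u = π • (z R n ^ i • w)
      rw [hu, algebraMap_smul]
    have := h _ hx
    rw [Submodule.Quotient.mk_eq_zero, Submodule.mem_comap] at this
    obtain ⟨u', hu'⟩ := this
    exact ⟨u', hu'⟩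
  · intro h q hq
    induction q using Submodule.Quotient.induction_on with
    | H x =>
      obtain ⟨x, w, rfl⟩ := x
      rw [← Submodule.Quotient.mk_smul, Submodule.Quotient.mk_eq_zero, Submodule.mem_comap] at hq
      obtain ⟨u, hu⟩ := hq
      rw [Submodule.Quotient.mk_eq_zero, Submodule.mem_comap]
      have hu2 : z R n ^ (i + 1) • u = algebraMap R (Rn R n) π • (z R n ^ i • w) := by
        rw [algebraMap_smul]
        exact hu
      obtain ⟨u', hu'⟩ := h w ⟨u, hu2⟩
      exact ⟨u', hu'⟩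

end Translate

section Translate2

open MultCrv Polynomial

variable (R : Type u) [CommRing R] (n : ℕ) (M : Type u) [AddCommGroup M] [Module (Rn R n) M]

lemma mem_filt2 (j : ℕ) (v : M) : v ∈ filt2 R n M j ↔ z R n ^ j • v = 0 :=
  Submodule.mem_torsionBy_iff _ _

lemma Gam2_mk_eq_zero (i : ℕ) (v : M) (hv : v ∈ filt2 R n M (i + 1)) :
    (Submodule.Quotient.mk (Submodule.Quotient.mk ⟨v, hv⟩ : G2 R n M (i + 1)) : Gam2 R n M i) = 0 ↔
      ∃ b : M, z R n ^ (i + 2) • b = 0 ∧ z R n ^ i • (z R n • b - v) = 0 := by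
  rw [Submodule.Quotient.mk_eq_zero, LinearMap.mem_range]
  constructor
  · rintro ⟨q, hq⟩
    induction q using Submodule.Quotient.induction_on with
    | H x =>
      obtain ⟨b, hb⟩ := x
      refine ⟨b, (mem_filt2 R n M _ b).1 hb, ?_⟩
      have h1 : lamG2 R n M i (Submodule.Quotient.mk ⟨b, hb⟩) =
          Submodule.Quotient.mk (zDown R n M (i + 1) ⟨b, hb⟩) := Submodule.mapQ_apply _ _ _ _
      rw [h1, Submodule.Quotient.eq, Submodule.mem_comap] at hq
      have h2 : z R n • b - v ∈ filt2 R n M i := hq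
      exact (mem_filt2 R n M _ _).1 h2
  · rintro ⟨b, hb, hbv⟩
    have hb' : b ∈ filt2 R n M (i + 2) := (mem_filt2 R n M _ b).2 hb
    refine ⟨Submodule.Quotient.mk ⟨b, hb'⟩, ?_⟩
    have h1 : lamG2 R n M i (Submodule.Quotient.mk ⟨b, hb'⟩) =
        Submodule.Quotient.mk (zDown R n M (i + 1) ⟨b, hb'⟩) := Submodule.mapQ_apply _ _ _ _
    rw [h1, Submodule.Quotient.eq, Submodule.mem_comap]
    have h2 : z R n • b - v ∈ filt2 R n M i := (mem_filt2 R n M _ _).2 hbv
    exact h2

end Translate2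

section Translate3

open MultCrv Polynomial

variable (R : Type u) [CommRing R] [IsDomain R] [IsDiscreteValuationRing R]
  (n : ℕ) (M : Type u) [AddCommGroup M] [Module (Rn R n) M] [Module R M]
  [IsScalarTower R (Rn R n) M]

lemma free_Gam2_iff {π : R} (hπ : Irreducible π) [Module.Finite (Rn R n) M] (i : ℕ) :
    Module.Free R (Gam2 R n M i) ↔ Tc (z R n) (algebraMap R (Rn R n) π) M i := by
  have h1 := finite_sub R n M (filt2 R n M (i + 1))
  have h2 : Module.Finite R (G2 R n M (i + 1)) := finite_quot R n _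
  have h3 : Module.Finite R (Gam2 R n M i) := finite_quot R n _
  rw [free_iff_of_irreducible R hπ]
  have hsm : ∀ (v : M) (hv : v ∈ filt2 R n M (i + 1)),
      π • (Submodule.Quotient.mk (Submodule.Quotient.mk ⟨v, hv⟩ : G2 R n M (i + 1)) :
        Gam2 R n M i) =
      Submodule.Quotient.mk (Submodule.Quotient.mk
        ⟨π • v, (filt2 R n M (i + 1)).smul_of_tower_mem π hv⟩ : G2 R n M (i + 1)) := by
    intro v hv
    rw [← Submodule.Quotient.mk_smul, ← Submodule.Quotient.mk_smul]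
    rfl
  constructor
  · rintro h v hv ⟨b, hb, hbv⟩
    have hv' : v ∈ filt2 R n M (i + 1) := (mem_filt2 R n M _ v).2 hv
    have h0 := h (Submodule.Quotient.mk (Submodule.Quotient.mk ⟨v, hv'⟩)) (by
      rw [hsm, Gam2_mk_eq_zero]
      refine ⟨b, hb, ?_⟩
      rw [← algebraMap_smul (Rn R n) π v]
      exact hbv)
    exact (Gam2_mk_eq_zero R n M i v hv').1 h0
  · intro h q hq
    induction q using Submodule.Quotient.induction_on with
    | H q' =>
      induction q' using Submodule.Quotient.induction_on with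
      | H x =>
        obtain ⟨v, hv⟩ := x
        rw [hsm, Gam2_mk_eq_zero] at hq
        obtain ⟨b, hb, hbv⟩ := hq
        rw [Gam2_mk_eq_zero]
        apply h v ((mem_filt2 R n M _ v).1 hv)
        refine ⟨b, hb, ?_⟩
        rw [algebraMap_smul (Rn R n) π v]
        exact hbv

/-- The statement of S17944. -/
theorem G1_free_iff_Gam2_free [Module.Finite (Rn R n) M] :
    (∀ i : ℕ, i < n → Module.Free R (G1 R n M i)) ↔
      (∀ i : ℕ, i < n → Module.Free R (Gam2 R n M i)) := by
  obtain ⟨π, hπ⟩ := IsDiscreteValuationRing.exists_irreducible R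
  have key := G1c_iff_Tc (z := z R n) (ϖ := algebraMap R (Rn R n) π) (M := M) (n := n)
    (z_pow_smul R n M)
  constructor
  · intro h i hi
    rw [free_Gam2_iff R n M hπ]
    exact key.1 (fun j hj => (free_G1_iff R n M hπ j).1 (h j hj)) i hi
  · intro h i hi
    rw [free_G1_iff R n M hπ]
    exact key.2 (fun j hj => (free_Gam2_iff R n M hπ j).1 (h j hj)) i hi

end Translate3


section CoverIso

variable {A : Type u} [CommRing A] {z : A} {n : ℕ} (hz : z ^ n = 0)
  {P F Q : Type v} [AddCommGroup P] [Module A P] [AddCommGroup F] [Module A F]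
  [AddCommMonoid Q] [Module A Q] [Module.Projective A P] [Module.Projective A F]

include hz in
/-- Two "projective covers modulo a nilpotent `z`" of the same module are isomorphic, compatibly
with the maps; hence so are the kernels. -/
theorem exists_equiv_of_covers (π : F →ₗ[A] Q) (hπ : Surjective π)
    (hkπ : ∀ f f' : F, π f = π f' → ∃ g' : F, f = f' + z • g')
    (φ : P →ₗ[A] Q) (hφ : Surjective φ) (hkφ : ∀ a : P, φ a = 0 → ∃ b : P, a = z • b) :
    ∃ ψ : P ≃ₗ[A] F, ∀ a : P, π (ψ a) = φ a := by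
  obtain ⟨ψ, hψ⟩ := Module.projective_lifting_property π φ hπ
  have hψ' : ∀ a, π (ψ a) = φ a := fun a => LinearMap.congr_fun hψ a
  -- surjectivity
  have hstep : ∀ f : F, ∃ (a : P) (g : F), f = ψ a + z • g := by
    intro f
    obtain ⟨a, ha⟩ := hφ (π f)
    obtain ⟨g, hg⟩ := hkπ f (ψ a) (by rw [hψ', ha])
    exact ⟨a, g, hg⟩
  have hpow : ∀ k : ℕ, ∀ f : F, ∃ (a : P) (g : F), f = ψ a + z ^ k • g := by
    intro k
    induction k with
    | zero =>
      intro f
      exact ⟨0, f, by rw [map_zero, zero_add, pow_zero, one_smul]⟩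
    | succ k ih =>
      intro f
      obtain ⟨a, g, hag⟩ := ih f
      obtain ⟨a', g', hag'⟩ := hstep g
      refine ⟨a + z ^ k • a', g', ?_⟩
      rw [hag, hag', map_add, map_smul, smul_add, ← mul_smul, ← pow_succ, add_assoc]
  have hsurj : Surjective ψ := by
    intro f
    obtain ⟨a, g, hag⟩ := hpow n f
    exact ⟨a, by rw [hag, hz, zero_smul, add_zero]⟩
  -- injectivity
  obtain ⟨s, hs⟩ := Module.projective_lifting_property ψ (LinearMap.id : F →ₗ[A] F) hsurj
  have hs' : ∀ f, ψ (s f) = f := fun f => LinearMap.congr_fun hs f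
  have hker : ∀ a : P, ψ a = 0 → ∃ p : P, ψ p = 0 ∧ a = z • p := by
    intro a ha
    obtain ⟨b, hb⟩ := hkφ a (by rw [← hψ', ha, map_zero])
    refine ⟨b - s (ψ b), by rw [map_sub, hs', sub_self], ?_⟩
    have h1 : z • ψ b = 0 := by rw [← map_smul, ← hb, ha]
    rw [smul_sub, ← map_smul, h1, map_zero, sub_zero, hb]
  have hkpow : ∀ k : ℕ, ∀ a : P, ψ a = 0 → ∃ p : P, ψ p = 0 ∧ a = z ^ k • p := by
    intro k
    induction k with
    | zero =>
      intro a ha
      exact ⟨a, ha, by rw [pow_zero, one_smul]⟩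
    | succ k ih =>
      intro a ha
      obtain ⟨p, hp, hap⟩ := ih a ha
      obtain ⟨p', hp', hpp'⟩ := hker p hp
      exact ⟨p', hp', by rw [hap, hpp', ← mul_smul, ← pow_succ]⟩
  have hinj : Injective ψ := by
    rw [← LinearMap.ker_eq_bot, eq_bot_iff]
    intro a ha
    obtain ⟨p, _, hap⟩ := hkpow n a ha
    rw [hap, hz, zero_smul]
    exact Submodule.zero_mem _
  exact ⟨LinearEquiv.ofBijective ψ ⟨hinj, hsurj⟩, hψ'⟩

include hz in
theorem ker_equiv_of_covers (π : F →ₗ[A] Q) (hπ : Surjective π)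
    (hkπ : ∀ f f' : F, π f = π f' → ∃ g' : F, f = f' + z • g')
    (φ : P →ₗ[A] Q) (hφ : Surjective φ) (hkφ : ∀ a : P, φ a = 0 → ∃ b : P, a = z • b) :
    Nonempty (↥(LinearMap.ker φ) ≃ₗ[A] ↥(LinearMap.ker π)) := by
  obtain ⟨ψ, hψ⟩ := exists_equiv_of_covers hz π hπ hkπ φ hφ hkφ
  let ρ : ↥(LinearMap.ker φ) →ₗ[A] ↥(LinearMap.ker π) :=
    ψ.toLinearMap.restrict (p := LinearMap.ker φ) (q := LinearMap.ker π) (by
      intro a ha
      rw [LinearMap.mem_ker] at ha ⊢
      rw [LinearEquiv.coe_coe, hψ, ha])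
  refine ⟨LinearEquiv.ofBijective ρ ⟨?_, ?_⟩⟩
  · intro a b hab
    have := congrArg Subtype.val hab
    exact Subtype.ext (ψ.injective this)
  · intro g
    obtain ⟨a, ha⟩ := ψ.surjective g.1
    have hak : a ∈ LinearMap.ker φ := by
      rw [LinearMap.mem_ker, ← hψ, ha]
      exact g.2
    exact ⟨⟨a, hak⟩, Subtype.ext ha⟩

end CoverIso


section Model

open MultCrv Polynomial

variable (R : Type u) [CommRing R] (n : ℕ)

lemma z_pow_n : z R n ^ n = 0 := by
  rw [← map_pow]
  exact Ideal.Quotient.eq_zero_iff_mem.2 (Ideal.mem_span_singleton_self _)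

lemma z_pow_of_le {c : ℕ} (hc : n ≤ c) : z R n ^ c = 0 := by
  obtain ⟨d, rfl⟩ := Nat.exists_eq_add_of_le hc
  rw [pow_add, z_pow_n, zero_mul]

/-- The annihilator of `z^c` is `(z^d)` when `c + d = n`. -/
lemma mem_span_of_pow_mul_eq_zero [IsDomain R] {c d : ℕ} (hcd : c + d = n) (a : Rn R n)
    (h : z R n ^ c * a = 0) : a ∈ Ideal.span {z R n ^ d} := by
  obtain ⟨p, rfl⟩ := Ideal.Quotient.mk_surjective a
  rw [← map_pow, ← map_mul, Ideal.Quotient.eq_zero_iff_mem, Ideal.mem_span_singleton] at h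
  obtain ⟨q, hq⟩ := h
  have h1 : (X : R[X]) ^ c * p = X ^ c * (X ^ d * q) := by
    rw [hq, ← mul_assoc, ← pow_add, hcd]
  have h2 : p = X ^ d * q := mul_left_cancel₀ (pow_ne_zero c X_ne_zero) h1
  rw [h2, map_mul, map_pow, Ideal.mem_span_singleton']
  exact ⟨Ideal.Quotient.mk _ q, mul_comm _ _⟩

/-- Multiplication by `z^c` on `A/(z^d)` when `n ≤ c + d`. -/
noncomputable def mu (c d : ℕ) (hcd : n ≤ c + d) : Oi R n d →ₗ[Rn R n] Rn R n :=
  Submodule.liftQ (Ideal.span {z R n ^ d}) (LinearMap.mulLeft (Rn R n) (z R n ^ c)) (by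
    intro a ha
    rw [Ideal.mem_span_singleton'] at ha
    obtain ⟨b, rfl⟩ := ha
    rw [LinearMap.mem_ker, LinearMap.mulLeft_apply, mul_comm b, ← mul_assoc, ← pow_add,
      z_pow_of_le R n hcd, zero_mul])

lemma mu_mk (c d : ℕ) (hcd : n ≤ c + d) (a : Rn R n) :
    mu R n c d hcd (Ideal.Quotient.mk _ a) = z R n ^ c * a := rfl

variable {n} in
/-- The partner index `n - 2 - j`. -/
def partner (j : Fin n) (hj : j.1 + 1 < n) : Fin n := ⟨n - 2 - j.1, by omega⟩

variable {n} in
lemma partner_lt (j : Fin n) (hj : j.1 + 1 < n) : (partner j hj).1 + 1 < n := by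
  simp only [partner]
  omega

variable {n} in
lemma partner_partner (j : Fin n) (hj : j.1 + 1 < n) :
    partner (partner j hj) (partner_lt j hj) = j := by
  apply Fin.ext
  simp only [partner]
  omega

variable {n} in
lemma partner_add (j : Fin n) (hj : j.1 + 1 < n) : (j.1 + 1) + ((partner j hj).1 + 1) = n := by
  simp only [partner]
  omega

variable (m : Fin n → ℕ)

variable {n} in
lemma rev_eq (j : Fin n) (hj : j.1 + 1 < n) : revType n m j = m (partner j hj) := by
  unfold revType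
  rw [dif_pos hj]
  rfl

variable {n} in
lemma rev_partner (i : Fin n) (hi : i.1 + 1 < n) : revType n m (partner i hi) = m i := by
  rw [rev_eq m _ (partner_lt i hi), partner_partner]

variable {n} in
lemma rev_eq_zero (j : Fin n) (hj : ¬ j.1 + 1 < n) : revType n m j = 0 := by
  unfold revType
  rw [dif_neg hj]

/-- The componentwise quotient map. -/
noncomputable def piMap : ((i : Fin n) → Fin (m i) → Rn R n) →ₗ[Rn R n]
    ((i : Fin n) → Fin (m i) → Oi R n (i.1 + 1)) where
  toFun f := fun i l => Ideal.Quotient.mk _ (f i l)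
  map_add' f g := by
    ext i l
    rfl
  map_smul' a f := by
    ext i l
    rfl

lemma piMap_apply (f : (i : Fin n) → Fin (m i) → Rn R n) (i : Fin n) (l : Fin (m i)) :
    piMap R n m f i l = Ideal.Quotient.mk _ (f i l) := rfl

lemma piMap_surjective : Surjective (piMap R n m) := by
  intro q
  refine ⟨fun i l => Quotient.out (q i l), ?_⟩
  ext i l
  rw [piMap_apply]
  exact Ideal.Quotient.mk_out _

lemma piMap_ker (f f' : (i : Fin n) → Fin (m i) → Rn R n) (hg : piMap R n m f = piMap R n m f') :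
    ∃ g' : (i : Fin n) → Fin (m i) → Rn R n, f = f' + z R n • g' := by
  have h1 : ∀ i l, ∃ c : Rn R n, c * z R n ^ (i.1 + 1) = f i l - f' i l := by
    intro i l
    have := congrFun (congrFun hg i) l
    rw [piMap_apply, piMap_apply] at this
    exact Ideal.mem_span_singleton'.1 (Ideal.Quotient.eq.1 this)
  choose c hc using h1
  refine ⟨fun i l => c i l * z R n ^ i.1, ?_⟩
  ext i l
  have h2 : f i l = f' i l + c i l * z R n ^ (i.1 + 1) := by rw [hc]; ring
  rw [Pi.add_apply, Pi.add_apply, Pi.smul_apply, Pi.smul_apply, smul_eq_mul, h2, pow_succ]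
  ring

/-- The map from the model of reversed type onto the kernel of `piMap`. -/
noncomputable def Xi : ((j : Fin n) → Fin (revType n m j) → Oi R n (j.1 + 1)) →ₗ[Rn R n]
    ((i : Fin n) → Fin (m i) → Rn R n) :=
  LinearMap.pi fun i => LinearMap.pi fun l =>
    if hi : i.1 + 1 < n then
      (mu R n (i.1 + 1) ((partner i hi).1 + 1) (partner_add i hi).ge) ∘ₗ
        (LinearMap.proj (Fin.cast (rev_partner m i hi).symm l)) ∘ₗ (LinearMap.proj (partner i hi))
    else 0

lemma Xi_pos (h : (j : Fin n) → Fin (revType n m j) → Oi R n (j.1 + 1)) (i : Fin n)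
    (hi : i.1 + 1 < n) (l : Fin (m i)) :
    Xi R n m h i l = mu R n (i.1 + 1) ((partner i hi).1 + 1) (partner_add i hi).ge
      (h (partner i hi) (Fin.cast (rev_partner m i hi).symm l)) := by
  simp only [Xi, LinearMap.pi_apply, dif_pos hi, LinearMap.coe_comp, Function.comp_apply,
    LinearMap.proj_apply]

lemma Xi_neg (h : (j : Fin n) → Fin (revType n m j) → Oi R n (j.1 + 1)) (i : Fin n)
    (hi : ¬ i.1 + 1 < n) (l : Fin (m i)) : Xi R n m h i l = 0 := by
  simp only [Xi, LinearMap.pi_apply, dif_neg hi, LinearMap.zero_apply]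

lemma piMap_Xi (h : (j : Fin n) → Fin (revType n m j) → Oi R n (j.1 + 1)) :
    piMap R n m (Xi R n m h) = 0 := by
  ext i l
  rw [piMap_apply]
  by_cases hi : i.1 + 1 < n
  · rw [Xi_pos R n m h i hi]
    obtain ⟨a, ha⟩ := Ideal.Quotient.mk_surjective
      (h (partner i hi) (Fin.cast (rev_partner m i hi).symm l))
    rw [← ha, mu_mk]
    exact Ideal.Quotient.eq_zero_iff_mem.2
      (Ideal.mem_span_singleton'.2 ⟨a, mul_comm _ _⟩)
  · rw [Xi_neg R n m h i hi]
    exact map_zero _

end Model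






section Model2

open MultCrv Polynomial

variable (R : Type u) [CommRing R] (n : ℕ) (m : Fin n → ℕ)

lemma Xi_inj (hann : ∀ {c d : ℕ}, c + d = n → ∀ a : Rn R n, z R n ^ c * a = 0 →
    a ∈ Ideal.span {z R n ^ d}) (h h' : (j : Fin n) → Fin (revType n m j) → Oi R n (j.1 + 1))
    (hh : Xi R n m h = Xi R n m h') : h = h' := by
  have key : ∀ (i : Fin n) (hi : i.1 + 1 < n) (x : Fin (revType n m (partner i hi))),
      h (partner i hi) x = h' (partner i hi) x := by
    intro i hi x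
    have h1 := congrFun (congrFun hh i) (Fin.cast (rev_partner m i hi) x)
    rw [Xi_pos R n m h i hi, Xi_pos R n m h' i hi] at h1
    have hx : Fin.cast (rev_partner m i hi).symm (Fin.cast (rev_partner m i hi) x) = x :=
      Fin.ext rfl
    rw [hx] at h1
    obtain ⟨a, ha⟩ := Ideal.Quotient.mk_surjective (h (partner i hi) x)
    obtain ⟨a', ha'⟩ := Ideal.Quotient.mk_surjective (h' (partner i hi) x)
    rw [← ha, ← ha', mu_mk, mu_mk] at h1
    rw [← ha, ← ha']
    apply Ideal.Quotient.eq.2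
    apply hann (partner_add i hi)
    rw [mul_sub, h1, sub_self]
  ext j x
  by_cases hj : j.1 + 1 < n
  · have key2 : ∀ (J : Fin n), partner (partner j hj) (partner_lt j hj) = J →
        ∀ x : Fin (revType n m J), h J x = h' J x := by
      rintro J rfl x
      exact key _ _ x
    exact key2 j (partner_partner j hj) x
  · exact (Fin.cast (rev_eq_zero m j hj) x).elim0

lemma Xi_surjective_ker (g : (i : Fin n) → Fin (m i) → Rn R n) (hg : piMap R n m g = 0) :
    ∃ h, Xi R n m h = g := by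
  have h1 : ∀ i l, ∃ c : Rn R n, z R n ^ (i.1 + 1) * c = g i l := by
    intro i l
    have := congrFun (congrFun hg i) l
    rw [piMap_apply] at this
    obtain ⟨c, hc⟩ := Ideal.mem_span_singleton'.1 (Ideal.Quotient.eq_zero_iff_mem.1 this)
    exact ⟨c, by rw [mul_comm, hc]⟩
  choose c hc using h1
  have ctr : ∀ (i i' : Fin n) (e : i' = i) (y : Fin (m i')),
      c i' y = c i (Fin.cast (congrArg m e) y) := by
    rintro i _ rfl y
    rfl
  refine ⟨fun j x => if hj : j.1 + 1 < n then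
    Ideal.Quotient.mk _ (c (partner j hj) (Fin.cast (rev_eq m j hj) x)) else 0, ?_⟩
  ext i l
  by_cases hi : i.1 + 1 < n
  · rw [Xi_pos R n m _ i hi]
    simp only [dif_pos (partner_lt i hi)]
    rw [mu_mk, ← hc i l, ctr i _ (partner_partner i hi)]
    congr 2
  · rw [Xi_neg R n m _ i hi, ← hc i l, z_pow_of_le R n (by omega), zero_mul]

/-- The kernel of the componentwise quotient map is the model of the reversed type. -/
theorem ker_piMap_equiv (hann : ∀ {c d : ℕ}, c + d = n → ∀ a : Rn R n, z R n ^ c * a = 0 →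
    a ∈ Ideal.span {z R n ^ d}) :
    Nonempty (↥(LinearMap.ker (piMap R n m)) ≃ₗ[Rn R n]
      ((j : Fin n) → Fin (revType n m j) → Oi R n (j.1 + 1))) := by
  let Ξ' : ((j : Fin n) → Fin (revType n m j) → Oi R n (j.1 + 1)) →ₗ[Rn R n]
      ↥(LinearMap.ker (piMap R n m)) :=
    LinearMap.codRestrict _ (Xi R n m) (fun h => piMap_Xi R n m h)
  refine ⟨(LinearEquiv.ofBijective Ξ' ⟨?_, ?_⟩).symm⟩
  · intro a b hab
    exact Xi_inj R n m hann a b (congrArg Subtype.val hab)
  · intro g
    obtain ⟨h, hh⟩ := Xi_surjective_ker R n m g.1 g.2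
    exact ⟨h, Subtype.ext hh⟩

/-- The statement of S17940. -/
theorem isQuasiFreeOfType_ker (hann : ∀ {c d : ℕ}, c + d = n → ∀ a : Rn R n, z R n ^ c * a = 0 →
    a ∈ Ideal.span {z R n ^ d}) (M : Type u) [AddCommGroup M] [Module (Rn R n) M]
    (hM : IsQuasiFreeOfType R n M m) (r : ℕ) (φ : (Fin r → Rn R n) →ₗ[Rn R n] M)
    (hφ : Surjective φ)
    (hφz : ∀ f : Fin r → Rn R n, φ f ∈ filt R n M 1 → f ∈ filt R n (Fin r → Rn R n) 1) :
    IsQuasiFreeOfType R n ↥(LinearMap.ker φ) (revType n m) := by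
  obtain ⟨e⟩ := hM
  let e' : M ≃ₗ[Rn R n] ((i : Fin n) → Fin (m i) → Oi R n (i.1 + 1)) :=
    e.trans (QFModel.equivPi R n m)
  let φ' : (Fin r → Rn R n) →ₗ[Rn R n] ((i : Fin n) → Fin (m i) → Oi R n (i.1 + 1)) :=
    e'.toLinearMap ∘ₗ φ
  have hφ' : Surjective φ' := e'.surjective.comp hφ
  have hkφ : ∀ a : Fin r → Rn R n, φ' a = 0 → ∃ b : Fin r → Rn R n, a = z R n • b := by
    intro a ha
    have h0 : φ a = 0 := e'.injective (by rw [map_zero]; exact ha)
    have h1 : a ∈ filt R n (Fin r → Rn R n) 1 := hφz a (by rw [h0]; exact Submodule.zero_mem _)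
    obtain ⟨b, hb⟩ := h1
    refine ⟨b, ?_⟩
    rw [← hb, LinearMap.smul_apply, LinearMap.id_apply, pow_one]
  obtain ⟨E1⟩ := ker_equiv_of_covers (z_pow_n R n) (piMap R n m) (piMap_surjective R n m)
    (piMap_ker R n m) φ' hφ' hkφ
  obtain ⟨E2⟩ := ker_piMap_equiv R n m hann
  have hker : LinearMap.ker φ' = LinearMap.ker φ := LinearEquiv.ker_comp e' φ
  exact ⟨(LinearEquiv.ofEq _ _ hker.symm).trans
    ((E1.trans E2).trans (QFModel.equivPi R n (revType n m)).symm)⟩

end Model2

end Groth.Agent.MultCrvQF
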