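import Mathlib
import Groth.Prelude.Def_W4c5qllcourbesmultMultCrv

/-!
# Helper library for the local rings `R[X]/(X^(k+1))` of primitive multiple curves

`A = MultCrv.Rn R (k+1)` is a Frobenius `R`-algebra: the top-coefficient functional `eps : A → R`
induces a bijection between `A`-linear forms `M → A` and `R`-linear forms `M → R`.
-/

set_option autoImplicit false
universe u

open Polynomial MultCrv CategoryTheory

namespace Groth.Agent.MultCrvLib

section Basic
variable (R : Type u) [CommRing R] (k : ℕ)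

theorem z_pow_succ : z R (k+1) ^ (k+1) = 0 := by
  show (Ideal.Quotient.mk _ Polynomial.X) ^ (k+1) = 0
  rw [← map_pow, Ideal.Quotient.eq_zero_iff_mem]
  exact Ideal.subset_span rfl

theorem finite_Rn : Module.Finite R (Rn R (k+1)) :=
  (Polynomial.monic_X_pow (k+1)).finite_adjoinRoot

theorem free_Rn : Module.Free R (Rn R (k+1)) :=
  Module.Free.of_basis (AdjoinRoot.powerBasis' (Polynomial.monic_X_pow (k+1))).basis

/-- The top coefficient functional. -/
noncomputable def eps : Rn R (k+1) →ₗ[R] R :=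
  (Submodule.liftQ ((Ideal.span {(X : R[X]) ^ (k+1)}).restrictScalars R) (Polynomial.lcoeff R k)
    (fun f hf => by
      have hf' : f ∈ Ideal.span {(X : R[X]) ^ (k+1)} := hf
      rw [Ideal.mem_span_singleton] at hf'
      rw [LinearMap.mem_ker, Polynomial.lcoeff_apply]
      exact Polynomial.X_pow_dvd_iff.mp hf' k (Nat.lt_succ_self k))).comp
    (Submodule.Quotient.restrictScalarsEquiv R
      (Ideal.span {(X : R[X]) ^ (k+1)})).symm.toLinearMap

theorem eps_mk (p : R[X]) :
    eps R k (Ideal.Quotient.mk (Ideal.span {(X : R[X]) ^ (k+1)}) p) = p.coeff k := rfl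

theorem mk_C_mul_X_pow (r : R) (j : ℕ) :
    Ideal.Quotient.mk (Ideal.span {(X : R[X]) ^ (k+1)}) (C r * X ^ j) = r • z R (k+1) ^ j := by
  have h := map_smul (Ideal.Quotient.mkₐ R (Ideal.span {(X : R[X]) ^ (k+1)})) r (X ^ j)
  rw [Polynomial.smul_eq_C_mul, map_pow] at h
  exact h

theorem eps_z_pow (j : ℕ) : eps R k (z R (k+1) ^ j) = if k = j then 1 else 0 := by
  have : z R (k+1) ^ j = Ideal.Quotient.mk (Ideal.span {(X : R[X]) ^ (k+1)}) (X ^ j) :=
    (map_pow _ _ _).symm
  rw [this, eps_mk, Polynomial.coeff_X_pow]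

theorem expand (a : Rn R (k+1)) :
    a = ∑ j ∈ Finset.range (k+1), eps R k (z R (k+1) ^ (k - j) * a) • z R (k+1) ^ j := by
  obtain ⟨p, rfl⟩ := Ideal.Quotient.mk_surjective a
  have h1 : ∀ j ∈ Finset.range (k+1),
      eps R k (z R (k+1) ^ (k - j) * Ideal.Quotient.mk _ p) • z R (k+1) ^ j
        = Ideal.Quotient.mk (Ideal.span {(X : R[X]) ^ (k+1)}) (C (p.coeff j) * X ^ j) := by
    intro j hj
    rw [Finset.mem_range] at hj
    have h2 : z R (k+1) ^ (k - j) * Ideal.Quotient.mk _ p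
        = Ideal.Quotient.mk (Ideal.span {(X : R[X]) ^ (k+1)}) (X ^ (k-j) * p) := by
      rw [map_mul, map_pow]
    rw [h2, eps_mk, Polynomial.coeff_X_pow_mul', if_pos (Nat.sub_le k j), mk_C_mul_X_pow]
    have h3 : k - (k - j) = j := by omega
    rw [h3]
  rw [Finset.sum_congr rfl h1, ← map_sum, Ideal.Quotient.eq, Ideal.mem_span_singleton,
    Polynomial.X_pow_dvd_iff]
  intro d hd
  rw [Polynomial.coeff_sub, Polynomial.finsetSum_coeff]
  simp only [Polynomial.coeff_C_mul_X_pow]
  rw [Finset.sum_ite_eq, if_pos (Finset.mem_range.mpr hd), sub_self]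

theorem eq_of_eps (a b : Rn R (k+1))
    (h : ∀ j, eps R k (z R (k+1) ^ j * a) = eps R k (z R (k+1) ^ j * b)) : a = b := by
  calc a = ∑ j ∈ Finset.range (k+1), eps R k (z R (k+1) ^ (k - j) * a) • z R (k+1) ^ j :=
        expand R k a
    _ = ∑ j ∈ Finset.range (k+1), eps R k (z R (k+1) ^ (k - j) * b) • z R (k+1) ^ j :=
        Finset.sum_congr rfl (fun j _ => by rw [h])
    _ = b := (expand R k b).symm

end Basic

section Modules
variable {R : Type u} [CommRing R] {k : ℕ}

/-- An `R`-linear map between `A`-modules which commutes with `z` is `A`-linear. -/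
theorem linear_of_z {F N : Type*} [AddCommGroup F] [Module (Rn R (k+1)) F] [Module R F]
    [IsScalarTower R (Rn R (k+1)) F] [AddCommGroup N] [Module (Rn R (k+1)) N] [Module R N]
    [IsScalarTower R (Rn R (k+1)) N]
    (h : F →ₗ[R] N) (hz : ∀ x, h (z R (k+1) • x) = z R (k+1) • h x)
    (a : Rn R (k+1)) (x : F) : h (a • x) = a • h x := by
  have hpow : ∀ (i : ℕ) (x : F), h (z R (k+1) ^ i • x) = z R (k+1) ^ i • h x := by
    intro i
    induction i with
    | zero => intro x; rw [pow_zero, one_smul, one_smul]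
    | succ i ih =>
      intro x
      rw [pow_succ' (z R (k+1)) i, mul_smul, hz, ih, mul_smul]
  obtain ⟨q, rfl⟩ := Ideal.Quotient.mk_surjective a
  induction q using Polynomial.induction_on' with
  | add q₁ q₂ h₁ h₂ => rw [map_add, add_smul, map_add, h₁, h₂, add_smul]
  | monomial i r =>
    have hm : (Ideal.Quotient.mk (Ideal.span {(X : R[X]) ^ (k+1)})) (Polynomial.monomial i r)
        = r • z R (k+1) ^ i := by
      rw [← Polynomial.C_mul_X_pow_eq_monomial, mk_C_mul_X_pow]
    rw [hm, smul_assoc, map_smul, smul_assoc, hpow]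

variable {M : Type*} [AddCommGroup M] [Module (Rn R (k+1)) M] [Module R M]
  [IsScalarTower R (Rn R (k+1)) M]

/-- The `R`-linear map underlying `Phi`. -/
noncomputable def Phi0 (ℓ : M →ₗ[R] R) : M →ₗ[R] Rn R (k+1) where
  toFun m := ∑ j ∈ Finset.range (k+1), ℓ (z R (k+1) ^ (k - j) • m) • z R (k+1) ^ j
  map_add' m₁ m₂ := by simp only [smul_add, map_add, add_smul, Finset.sum_add_distrib]
  map_smul' r m := by
    simp only [RingHom.id_apply, Finset.smul_sum]
    refine Finset.sum_congr rfl (fun j _ => ?_)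
    rw [smul_comm (z R (k+1) ^ (k-j)) r m, map_smul, smul_eq_mul, mul_smul]

theorem Phi0_apply (ℓ : M →ₗ[R] R) (m : M) :
    Phi0 (k := k) ℓ m = ∑ j ∈ Finset.range (k+1), ℓ (z R (k+1) ^ (k - j) • m) • z R (k+1) ^ j := rfl

theorem Phi0_z (ℓ : M →ₗ[R] R) (m : M) :
    Phi0 (k := k) ℓ (z R (k+1) • m) = z R (k+1) • Phi0 (k := k) ℓ m := by
  rw [Phi0_apply, Phi0_apply, smul_eq_mul, Finset.sum_range_succ', Finset.mul_sum,
    Finset.sum_range_succ]
  have h0 : z R (k+1) ^ (k - 0) • z R (k+1) • m = 0 := by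
    rw [Nat.sub_zero, smul_smul, ← pow_succ, z_pow_succ]
    exact zero_smul (Rn R (k+1)) m
  have h1 : z R (k+1) * (ℓ (z R (k+1) ^ (k - k) • m) • z R (k+1) ^ k) = 0 := by
    rw [mul_smul_comm, ← pow_succ', z_pow_succ, smul_zero]
  rw [h0, map_zero, zero_smul, add_zero, h1, add_zero]
  refine Finset.sum_congr rfl (fun j hj => ?_)
  rw [Finset.mem_range] at hj
  rw [mul_smul_comm, ← pow_succ', smul_smul, ← pow_succ]
  have : k - (j + 1) + 1 = k - j := by omega
  rw [this]

/-- The `A`-linear form attached to an `R`-linear form. -/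
noncomputable def Phi (ℓ : M →ₗ[R] R) : M →ₗ[Rn R (k+1)] Rn R (k+1) where
  toFun := Phi0 ℓ
  map_add' := (Phi0 ℓ).map_add
  map_smul' a m := by
    rw [RingHom.id_apply]
    exact linear_of_z (Phi0 ℓ) (Phi0_z ℓ) a m

theorem Phi_apply (ℓ : M →ₗ[R] R) (m : M) :
    Phi (k := k) ℓ m = ∑ j ∈ Finset.range (k+1), ℓ (z R (k+1) ^ (k - j) • m) • z R (k+1) ^ j := rfl

theorem eps_Phi (ℓ : M →ₗ[R] R) (m : M) : eps R k (Phi (k := k) ℓ m) = ℓ m := by
  rw [Phi_apply, map_sum]
  simp only [map_smul, eps_z_pow, smul_eq_mul, mul_ite, mul_one, mul_zero]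
  rw [Finset.sum_ite_eq, if_pos (Finset.self_mem_range_succ k), Nat.sub_self, pow_zero, one_smul]

theorem Phi_eps (φ : M →ₗ[Rn R (k+1)] Rn R (k+1)) :
    Phi (k := k) ((eps R k).comp (φ.restrictScalars R)) = φ := by
  ext m
  rw [Phi_apply]
  conv_rhs => rw [expand R k (φ m)]
  refine Finset.sum_congr rfl (fun j _ => ?_)
  simp only [LinearMap.comp_apply, LinearMap.restrictScalars_apply, map_smul, smul_eq_mul]

/-- `Phi` as an `R`-linear map. -/
noncomputable def PhiL : (M →ₗ[R] R) →ₗ[R] (M →ₗ[Rn R (k+1)] Rn R (k+1)) where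
  toFun := Phi
  map_add' ℓ₁ ℓ₂ := by
    ext m
    simp only [Phi_apply, LinearMap.add_apply, add_smul, Finset.sum_add_distrib]
  map_smul' r ℓ := by
    ext m
    simp only [Phi_apply, LinearMap.smul_apply, RingHom.id_apply, Finset.smul_sum, smul_eq_mul,
      mul_smul]

theorem PhiL_apply (ℓ : M →ₗ[R] R) :
    (PhiL (k := k) ℓ : M →ₗ[Rn R (k+1)] Rn R (k+1)) = Phi (k := k) ℓ := rfl

end Modules

section Retraction

theorem exists_retraction {R : Type*} [CommRing R] {M' M M'' : Type*} [AddCommGroup M']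
    [Module R M'] [AddCommGroup M] [Module R M] [AddCommGroup M''] [Module R M'']
    [Module.Projective R M'']
    (f : M' →ₗ[R] M) (g : M →ₗ[R] M'') (hf : Function.Injective f) (hg : Function.Surjective g)
    (hgf : ∀ x, g (f x) = 0) (hfg : ∀ m, g m = 0 → ∃ x, f x = m) :
    ∃ ρ : M →ₗ[R] M', ∀ x, ρ (f x) = x := by
  obtain ⟨s, hs⟩ := Module.projective_lifting_property g LinearMap.id hg
  have hs' : ∀ y, g (s y) = y := fun y => LinearMap.congr_fun hs y
  have hmem : ∀ m, ((LinearMap.id : M →ₗ[R] M) - s.comp g) m ∈ LinearMap.range f := by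
    intro m
    rw [LinearMap.mem_range]
    apply hfg
    rw [LinearMap.sub_apply, LinearMap.id_apply, LinearMap.comp_apply, map_sub, hs', sub_self]
  let q : M →ₗ[R] LinearMap.range f :=
    ((LinearMap.id : M →ₗ[R] M) - s.comp g).codRestrict (LinearMap.range f) hmem
  let e := LinearEquiv.ofInjective f hf
  refine ⟨e.symm.toLinearMap.comp q, fun x => ?_⟩
  have hq : q (f x) = e x := by
    apply Subtype.ext
    show f x - s (g (f x)) = f x
    rw [hgf, map_zero, sub_zero]
  rw [LinearMap.comp_apply, hq]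
  exact e.symm_apply_apply x

end Retraction

section Extension
variable {R : Type u} [CommRing R] {k : ℕ}

/-- Forms extend along `R`-split injections. -/
theorem extend_form {M' M : Type*} [AddCommGroup M'] [Module (Rn R (k+1)) M'] [Module R M']
    [IsScalarTower R (Rn R (k+1)) M'] [AddCommGroup M] [Module (Rn R (k+1)) M] [Module R M]
    [IsScalarTower R (Rn R (k+1)) M]
    (f : M' →ₗ[Rn R (k+1)] M) (ρ : M →ₗ[R] M') (hρ : ∀ x, ρ (f x) = x)
    (φ : M' →ₗ[Rn R (k+1)] Rn R (k+1)) :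
    ∃ Φ : M →ₗ[Rn R (k+1)] Rn R (k+1), ∀ x, Φ (f x) = φ x := by
  refine ⟨Phi (((eps R k).comp (φ.restrictScalars R)).comp ρ), fun x => ?_⟩
  conv_rhs => rw [← Phi_eps φ]
  rw [Phi_apply, Phi_apply]
  refine Finset.sum_congr rfl (fun j _ => ?_)
  simp only [LinearMap.comp_apply, LinearMap.restrictScalars_apply]
  rw [← map_smul f, hρ]

theorem dual_surjective [IsDomain R] [IsPrincipalIdealRing R]
    {M' M M'' : Type*} [AddCommGroup M'] [Module (Rn R (k+1)) M']
    [AddCommGroup M] [Module (Rn R (k+1)) M] [Module R M] [IsScalarTower R (Rn R (k+1)) M]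
    [AddCommGroup M''] [Module (Rn R (k+1)) M''] [Module R M'']
    [IsScalarTower R (Rn R (k+1)) M''] [Module.Finite (Rn R (k+1)) M'']
    [Module.IsTorsionFree R M'']
    (f : M' →ₗ[Rn R (k+1)] M) (g : M →ₗ[Rn R (k+1)] M'') (hf : Function.Injective f)
    (hg : Function.Surjective g) (hfg : LinearMap.range f = LinearMap.ker g)
    (φ : M' →ₗ[Rn R (k+1)] Rn R (k+1)) :
    ∃ Φ : M →ₗ[Rn R (k+1)] Rn R (k+1), ∀ x, Φ (f x) = φ x := by
  letI : Module R M' := Module.compHom M' (algebraMap R (Rn R (k+1)))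
  haveI : IsScalarTower R (Rn R (k+1)) M' := ⟨fun r a m => by
    show (r • a) • m = (algebraMap R (Rn R (k+1)) r) • (a • m)
    rw [← mul_smul]
    congr 1
    exact Algebra.smul_def r a⟩
  haveI : Module.Finite R (Rn R (k+1)) := finite_Rn R k
  haveI : Module.Finite R M'' := Module.Finite.trans (Rn R (k+1)) M''
  haveI : Module.Free R M'' := Module.free_of_finite_type_torsion_free'
  have hgf : ∀ x, (g.restrictScalars R) ((f.restrictScalars R) x) = 0 := by
    intro x
    have : f x ∈ LinearMap.ker g := hfg ▸ LinearMap.mem_range_self f x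
    exact this
  have hfg' : ∀ m, (g.restrictScalars R) m = 0 → ∃ x, (f.restrictScalars R) x = m := by
    intro m hm
    have : m ∈ LinearMap.range f := hfg ▸ (LinearMap.mem_ker.mpr hm)
    exact LinearMap.mem_range.mp this
  obtain ⟨ρ, hρ⟩ := exists_retraction (f.restrictScalars R) (g.restrictScalars R) hf hg hgf hfg'
  exact extend_form f ρ hρ φ

end Extension

section ExtGeneral
variable {A : Type u} [CommRing A] {M : Type u} [AddCommGroup M] [Module A M]

/-- The extension class of a presentation `0 → ker p → F → M → 0` with `F` projective, together with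
the three pieces of the long exact `Ext` sequence that we use. -/
theorem exists_extClass {F : Type u} [AddCommGroup F] [Module A F] [Module.Projective A F]
    (p : F →ₗ[A] M) (hp : Function.Surjective p) :
    ∃ e : Abelian.Ext (ModuleCat.of A M) (ModuleCat.of A ↥(LinearMap.ker p)) 1,
      (∀ (Y : ModuleCat.{u} A) (j : ℕ) (x : Abelian.Ext (ModuleCat.of A M) Y (j+1)),
        ∃ x₁ : Abelian.Ext (ModuleCat.of A ↥(LinearMap.ker p)) Y j,
          e.comp x₁ (Nat.add_comm 1 j) = x) ∧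
      (∀ (Y : ModuleCat.{u} A) (Ψ : ModuleCat.of A F ⟶ Y),
        e.comp (Abelian.Ext.mk₀ (ModuleCat.ofHom (LinearMap.ker p).subtype ≫ Ψ))
          (add_zero 1) = 0) ∧
      (∀ (Y : ModuleCat.{u} A) (ψ : ModuleCat.of A ↥(LinearMap.ker p) ⟶ Y),
        e.comp (Abelian.Ext.mk₀ ψ) (add_zero 1) = 0 →
          ∃ Ψ : ModuleCat.of A F ⟶ Y, ModuleCat.ofHom (LinearMap.ker p).subtype ≫ Ψ = ψ) := by
  let S : ShortComplex (ModuleCat.{u} A) :=
    ShortComplex.mk (ModuleCat.ofHom (LinearMap.ker p).subtype) (ModuleCat.ofHom p)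
      (by ext x; exact LinearMap.mem_ker.mp x.2)
  have hS : S.ShortExact := by
    refine ShortComplex.ShortExact.mk' ?_ ?_ ?_
    · rw [ShortComplex.moduleCat_exact_iff]
      intro x₂ hx₂
      exact ⟨⟨x₂, LinearMap.mem_ker.mpr hx₂⟩, rfl⟩
    · exact (ModuleCat.mono_iff_injective _).mpr Subtype.val_injective
    · exact (ModuleCat.epi_iff_surjective _).mpr hp
  haveI : Projective (ModuleCat.of A F) := (IsProjective.iff_projective F).mp inferInstance
  refine ⟨hS.extClass, ?_, ?_, ?_⟩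
  · intro Y j x
    have h0 : (Abelian.Ext.mk₀ (ModuleCat.ofHom p)).comp x (zero_add (j+1)) = 0 :=
      Abelian.Ext.eq_zero_of_projective _
    exact Abelian.Ext.contravariant_sequence_exact₃ hS Y x h0 (Nat.add_comm 1 j)
  · intro Y Ψ
    have h1 : Abelian.Ext.mk₀ (ModuleCat.ofHom (LinearMap.ker p).subtype ≫ Ψ)
        = (Abelian.Ext.mk₀ S.f).comp (Abelian.Ext.mk₀ Ψ) (zero_add 0) :=
      (Abelian.Ext.mk₀_comp_mk₀ S.f Ψ).symm
    rw [h1]
    exact hS.extClass_comp_assoc (Abelian.Ext.mk₀ Ψ)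
  · intro Y ψ h
    obtain ⟨x₂, hx₂⟩ := Abelian.Ext.contravariant_sequence_exact₁ hS Y (Abelian.Ext.mk₀ ψ)
      (add_zero 1) h
    obtain ⟨Ψ, rfl⟩ := (Abelian.Ext.mk₀_bijective _ _).2 x₂
    rw [Abelian.Ext.mk₀_comp_mk₀] at hx₂
    exact ⟨Ψ, (Abelian.Ext.mk₀_bijective _ _).1 hx₂⟩

end ExtGeneral

section ExtVanish
variable {R : Type u} [CommRing R] [IsDomain R] [IsDiscreteValuationRing R] {k : ℕ}

/-- Instances for the kernel of a presentation. -/
theorem ker_instances {M : Type u} [AddCommGroup M] [Module (Rn R (k+1)) M] {r : ℕ}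
    (p : (Fin r → Rn R (k+1)) →ₗ[Rn R (k+1)] M) :
    Module.Finite (Rn R (k+1)) ↥(LinearMap.ker p) ∧ Module.IsTorsionFree R ↥(LinearMap.ker p) := by
  haveI : Module.Free R (Rn R (k+1)) := free_Rn R k
  constructor
  · exact Module.Finite.of_injective (LinearMap.ker p).subtype Subtype.val_injective
  · exact Function.Injective.moduleIsTorsionFree (Subtype.val) Subtype.val_injective
      (fun r m => rfl)

theorem ext_vanish (i : ℕ) (hi : 1 ≤ i) :
    ∀ (M : Type u) [AddCommGroup M] [Module (Rn R (k+1)) M] [Module R M]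
      [IsScalarTower R (Rn R (k+1)) M] [Module.Finite (Rn R (k+1)) M] [Module.IsTorsionFree R M],
      Subsingleton (Abelian.Ext (ModuleCat.of (Rn R (k+1)) M)
        (ModuleCat.of (Rn R (k+1)) (Rn R (k+1))) i) := by
  induction i, hi using Nat.le_induction with
  | base =>
    intro M _ _ _ _ _ _
    obtain ⟨r, p, hp⟩ := Module.Finite.exists_fin' (Rn R (k+1)) M
    obtain ⟨e, h1, h2, -⟩ := exists_extClass p hp
    have key : ∀ x : Abelian.Ext (ModuleCat.of (Rn R (k+1)) M)
        (ModuleCat.of (Rn R (k+1)) (Rn R (k+1))) 1, x = 0 := by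
      intro x
      obtain ⟨x₁, rfl⟩ := h1 (ModuleCat.of (Rn R (k+1)) (Rn R (k+1))) 0 x
      obtain ⟨ψ, rfl⟩ := (Abelian.Ext.mk₀_bijective _ _).2 x₁
      obtain ⟨Ψ, hΨ⟩ := dual_surjective (LinearMap.ker p).subtype p Subtype.val_injective hp
        (Submodule.range_subtype _) ψ.hom
      have h3 : ψ = ModuleCat.ofHom (LinearMap.ker p).subtype ≫ ModuleCat.ofHom Ψ := by
        ext x
        exact (hΨ x).symm
      rw [h3]
      exact h2 _ _
    exact ⟨fun x y => by rw [key x, key y]⟩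
  | succ i hi ih =>
    intro M _ _ _ _ _ _
    obtain ⟨r, p, hp⟩ := Module.Finite.exists_fin' (Rn R (k+1)) M
    obtain ⟨e, h1, -, -⟩ := exists_extClass p hp
    obtain ⟨hfin, htf⟩ := ker_instances (R := R) p
    haveI := hfin
    haveI := htf
    haveI := ih ↥(LinearMap.ker p)
    have key : ∀ x : Abelian.Ext (ModuleCat.of (Rn R (k+1)) M)
        (ModuleCat.of (Rn R (k+1)) (Rn R (k+1))) (i + 1), x = 0 := by
      intro x
      obtain ⟨x₁, rfl⟩ := h1 (ModuleCat.of (Rn R (k+1)) (Rn R (k+1))) i x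
      rw [Subsingleton.elim x₁ 0]
      exact Abelian.Ext.comp_zero _ _ _ _ _
    exact ⟨fun x y => by rw [key x, key y]⟩

/-- If all forms on the kernel of a presentation extend then the module is torsion-free. -/
theorem torsionFree_of_forms_extend {M : Type*} [AddCommGroup M] [Module (Rn R (k+1)) M]
    [Module R M] [IsScalarTower R (Rn R (k+1)) M] {r : ℕ}
    (p : (Fin r → Rn R (k+1)) →ₗ[Rn R (k+1)] M) (hp : Function.Surjective p)
    (hext : ∀ ψ : ↥(LinearMap.ker p) →ₗ[Rn R (k+1)] Rn R (k+1),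
      ∃ Ψ : (Fin r → Rn R (k+1)) →ₗ[Rn R (k+1)] Rn R (k+1),
        ∀ x : ↥(LinearMap.ker p), Ψ x = ψ x) : Module.IsTorsionFree R M := by
  haveI : Module.Finite R (Rn R (k+1)) := finite_Rn R k
  haveI : Module.Free R (Rn R (k+1)) := free_Rn R k
  haveI : Module.Finite R ↥(LinearMap.ker p) :=
    Module.Finite.of_injective ((LinearMap.ker p).subtype.restrictScalars R) Subtype.val_injective
  haveI : Module.IsTorsionFree R ↥(LinearMap.ker p) :=
    Function.Injective.moduleIsTorsionFree (Subtype.val) Subtype.val_injective (fun r m => rfl)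
  haveI : Module.Free R ↥(LinearMap.ker p) := Module.free_of_finite_type_torsion_free'
  let b := Module.Free.chooseBasis R ↥(LinearMap.ker p)
  rw [Module.isTorsionFree_iff_smul_eq_zero]
  intro r0 u hu
  by_cases hr0 : r0 = 0
  · exact Or.inl hr0
  right
  obtain ⟨v, rfl⟩ := hp u
  have hvK : r0 • v ∈ LinearMap.ker p := by
    rw [LinearMap.mem_ker, LinearMap.map_smul_of_tower]
    exact hu
  have hc : ∀ i, ∃ t : R, b.repr ⟨r0 • v, hvK⟩ i = r0 * t := by
    intro i
    obtain ⟨Ψ, hΨ⟩ := hext (Phi (k := k) (b.coord i))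
    refine ⟨eps R k (Ψ v), ?_⟩
    have h1 := hΨ ⟨r0 • v, hvK⟩
    have h2 := congrArg (eps R k) h1
    rw [eps_Phi] at h2
    have h3 : b.coord i ⟨r0 • v, hvK⟩ = b.repr ⟨r0 • v, hvK⟩ i := rfl
    rw [← h3, ← h2]
    show eps R k (Ψ (r0 • v)) = r0 * eps R k (Ψ v)
    rw [LinearMap.map_smul_of_tower, map_smul, smul_eq_mul]
  choose t ht using hc
  let w : ↥(LinearMap.ker p) := ∑ i, t i • b i
  have hw : r0 • w = ⟨r0 • v, hvK⟩ := by
    rw [← b.sum_repr ⟨r0 • v, hvK⟩, Finset.smul_sum]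
    refine Finset.sum_congr rfl (fun i _ => ?_)
    rw [smul_smul, ← ht i]
  have hvw : r0 • ((w : Fin r → Rn R (k+1)) - v) = 0 := by
    rw [smul_sub, sub_eq_zero]
    exact congrArg Subtype.val hw
  have h4 : (w : Fin r → Rn R (k+1)) - v = 0 := (smul_eq_zero_iff_right hr0).mp hvw
  have hv : v = w := (sub_eq_zero.mp h4).symm
  rw [hv]
  exact LinearMap.mem_ker.mp w.2

/-- Injectivity of the evaluation map into the double `A`-dual forces `R`-torsion-freeness. -/
theorem torsionFree_of_eval_injective {M : Type*} [AddCommGroup M] [Module (Rn R (k+1)) M]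
    [Module R M] [IsScalarTower R (Rn R (k+1)) M]
    (h : Function.Injective (Module.Dual.eval (Rn R (k+1)) M)) : Module.IsTorsionFree R M := by
  haveI : Module.Free R (Rn R (k+1)) := free_Rn R k
  rw [Module.isTorsionFree_iff_smul_eq_zero]
  intro r0 u hu
  by_cases hr0 : r0 = 0
  · exact Or.inl hr0
  right
  apply h
  rw [map_zero]
  ext φ
  show φ u = 0
  have h1 : r0 • φ u = 0 := by rw [← LinearMap.map_smul_of_tower, hu, map_zero]
  exact (smul_eq_zero_iff_right hr0).mp h1

theorem eval_bijective {M : Type*} [AddCommGroup M] [Module (Rn R (k+1)) M]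
    [Module R M] [IsScalarTower R (Rn R (k+1)) M] [Module.Finite (Rn R (k+1)) M]
    [Module.IsTorsionFree R M] :
    Function.Bijective (Module.Dual.eval (Rn R (k+1)) M) := by
  haveI : Module.Finite R (Rn R (k+1)) := finite_Rn R k
  haveI : Module.Finite R M := Module.Finite.trans (Rn R (k+1)) M
  haveI : Module.Free R M := Module.free_of_finite_type_torsion_free'
  constructor
  · rw [injective_iff_map_eq_zero]
    intro u hu
    let b := Module.Free.chooseBasis R M
    apply b.repr.injective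
    rw [map_zero]
    ext i
    have h1 : Module.Dual.eval (Rn R (k+1)) M u (Phi (k := k) (b.coord i)) = 0 := by
      rw [hu]; rfl
    have h2 : Phi (k := k) (b.coord i) u = 0 := h1
    have h3 := congrArg (eps R k) h2
    rw [eps_Phi, map_zero] at h3
    exact h3
  · intro ξ
    let Ξ : Module.Dual R (Module.Dual R M) :=
      { toFun := fun ℓ => eps R k (ξ (Phi (k := k) ℓ))
        map_add' := fun ℓ₁ ℓ₂ => by
          have : Phi (k := k) (ℓ₁ + ℓ₂) = Phi (k := k) ℓ₁ + Phi (k := k) ℓ₂ :=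
            (PhiL (k := k) (M := M)).map_add ℓ₁ ℓ₂
          rw [this, map_add, map_add]
        map_smul' := fun c ℓ => by
          have h5 : Phi (k := k) (c • ℓ) = c • Phi (k := k) ℓ :=
            (PhiL (k := k) (M := M)).map_smul c ℓ
          have h6 : c • Phi (k := k) ℓ = (algebraMap R (Rn R (k+1)) c) • Phi (k := k) ℓ := by
            ext m
            exact (algebraMap_smul (Rn R (k+1)) c ((Phi (k := k) ℓ) m)).symm
          rw [h5, h6, map_smul ξ, algebraMap_smul, map_smul (eps R k), RingHom.id_apply] }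
    have hΞ : ∀ ℓ : M →ₗ[R] R, Ξ ℓ = eps R k (ξ (Phi (k := k) ℓ)) := fun ℓ => rfl
    let m := (Module.evalEquiv R M).symm Ξ
    have hm : ∀ ℓ : M →ₗ[R] R, ℓ m = eps R k (ξ (Phi (k := k) ℓ)) := fun ℓ =>
      (Module.apply_evalEquiv_symm_apply R M ℓ Ξ).trans (hΞ ℓ)
    have h1 : ∀ φ : M →ₗ[Rn R (k+1)] Rn R (k+1), eps R k (ξ φ) = eps R k (φ m) := by
      intro φ
      have h2 := hm ((eps R k).comp (φ.restrictScalars R))
      rw [Phi_eps] at h2
      exact h2.symm
    refine ⟨m, ?_⟩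
    ext φ
    show φ m = ξ φ
    apply eq_of_eps
    intro j
    have h3 := h1 (z R (k+1) ^ j • φ)
    rw [map_smul, smul_eq_mul, LinearMap.smul_apply, smul_eq_mul] at h3
    exact h3.symm

end ExtVanish

section ZPow
variable {R : Type u} [CommRing R] {k : ℕ}

/-- The core computation: if `ψt` is an `R`-linear map on `F` which is `z`-linear on `ker p`, then
`z^k ψt` restricted to `ker p` extends to an `A`-linear map on `F`. -/
theorem extend_zpow_aux {F M N : Type*} [AddCommGroup F] [Module (Rn R (k+1)) F] [Module R F]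
    [IsScalarTower R (Rn R (k+1)) F] [AddCommGroup M] [Module (Rn R (k+1)) M] [Module R M]
    [IsScalarTower R (Rn R (k+1)) M] [AddCommGroup N] [Module (Rn R (k+1)) N] [Module R N]
    [IsScalarTower R (Rn R (k+1)) N]
    (p : F →ₗ[Rn R (k+1)] M) (hp : Function.Surjective p) (σ : M →ₗ[R] F)
    (hσ : ∀ m, p (σ m) = m)
    (T : M →ₗ[R] M) (hT1 : ∀ m, z R (k+1) ^ k • T m = 0)
    (hT2 : ∀ m, z R (k+1) ^ k • m = 0 → T m = m)
    (ψt : F →ₗ[R] N) (hψt : ∀ x, p x = 0 → ψt (z R (k+1) • x) = z R (k+1) • ψt x) :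
    ∃ Ψ : F →ₗ[Rn R (k+1)] N, ∀ x, p x = 0 → Ψ x = z R (k+1) ^ k • ψt x := by
  have hzpow : z R (k+1) ^ (k+1) = 0 := z_pow_succ R k
  let ct : F →ₗ[R] N := (DistribSMul.toLinearMap R N (z R (k+1))).comp ψt
    - ψt.comp (DistribSMul.toLinearMap R F (z R (k+1)))
  have hct : ∀ x, ct x = z R (k+1) • ψt x - ψt (z R (k+1) • x) := fun x => rfl
  let c : M →ₗ[R] N := ct.comp σ
  have hcp : ∀ x, c (p x) = ct x := by
    intro x
    have hy : p (x - σ (p x)) = 0 := by rw [map_sub, hσ, sub_self]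
    have h0 : ct (x - σ (p x)) = 0 := by rw [hct, hψt _ hy, sub_self]
    rw [map_sub, sub_eq_zero] at h0
    exact h0.symm
  have hP4 : ∀ m, ∑ i ∈ Finset.range (k+1), z R (k+1) ^ i • c (z R (k+1) ^ (k - i) • m) = 0 := by
    intro m
    obtain ⟨x, rfl⟩ := hp m
    have hterm : ∀ i ∈ Finset.range (k+1), z R (k+1) ^ i • c (z R (k+1) ^ (k - i) • p x)
        = z R (k+1) ^ (i+1) • ψt (z R (k+1) ^ (k + 1 - (i+1)) • x)
          - z R (k+1) ^ i • ψt (z R (k+1) ^ (k + 1 - i) • x) := by
      intro i hi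
      rw [Finset.mem_range] at hi
      have a1 : z R (k+1) ^ i • (z R (k+1) • ψt (z R (k+1) ^ (k - i) • x))
          = z R (k+1) ^ (i+1) • ψt (z R (k+1) ^ (k - i) • x) := by
        rw [smul_smul, ← pow_succ]
      have a2 : z R (k+1) • z R (k+1) ^ (k - i) • x = z R (k+1) ^ (k - i + 1) • x := by
        rw [smul_smul, ← pow_succ']
      have e1 : k + 1 - (i + 1) = k - i := by omega
      have e2 : k + 1 - i = k - i + 1 := by omega
      rw [← map_smul p, hcp, hct, smul_sub, a1, a2, e1, e2]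
    rw [Finset.sum_congr rfl hterm,
      Finset.sum_range_sub (fun i => z R (k+1) ^ i • ψt (z R (k+1) ^ (k + 1 - i) • x)) (k+1)]
    have f1 : z R (k+1) ^ (k+1) • ψt (z R (k+1) ^ (k + 1 - (k+1)) • x) = 0 := by
      rw [hzpow]
      exact zero_smul (Rn R (k+1)) (ψt (z R (k+1) ^ (k + 1 - (k+1)) • x))
    have f2 : ψt (z R (k+1) ^ (k + 1 - 0) • x) = 0 := by
      have f3 : z R (k+1) ^ (k + 1 - 0) • x = 0 := by
        rw [Nat.sub_zero, hzpow]
        exact zero_smul (Rn R (k+1)) x
      rw [f3, map_zero]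
    beta_reduce
    rw [f1, f2, smul_zero, sub_self]
  let D : M →ₗ[R] N := ∑ i ∈ Finset.range k,
    (DistribSMul.toLinearMap R N (z R (k+1) ^ i)).comp
      (c.comp (DistribSMul.toLinearMap R M (z R (k+1) ^ (k - 1 - i))))
  have hD : ∀ m, D m = ∑ i ∈ Finset.range k, z R (k+1) ^ i • c (z R (k+1) ^ (k - 1 - i) • m) := by
    intro m
    simp only [D, LinearMap.sum_apply, LinearMap.comp_apply, DistribSMul.toLinearMap_apply]
  have hP5 : ∀ m, z R (k+1) • D m = - c (z R (k+1) ^ k • m) := by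
    intro m
    have h4 := hP4 m
    rw [Finset.sum_range_succ', pow_zero, one_smul, Nat.sub_zero] at h4
    rw [hD, Finset.smul_sum, eq_neg_iff_add_eq_zero, ← h4]
    congr 1
    refine Finset.sum_congr rfl (fun i hi => ?_)
    rw [smul_smul, ← pow_succ']
    have e3 : k - 1 - i = k - (i+1) := by omega
    rw [e3]
  have hP6 : ∀ m, D (z R (k+1) • m) = - (z R (k+1) ^ k • c m) := by
    intro m
    have h4 := hP4 m
    rw [Finset.sum_range_succ, Nat.sub_self, pow_zero, one_smul] at h4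
    rw [hD, eq_neg_iff_add_eq_zero, ← h4]
    congr 1
    refine Finset.sum_congr rfl (fun i hi => ?_)
    rw [Finset.mem_range] at hi
    rw [smul_smul, ← pow_succ]
    have e4 : k - 1 - i + 1 = k - i := by omega
    rw [e4]
  let Ψ0 : F →ₗ[R] N := (DistribSMul.toLinearMap R N (z R (k+1) ^ k)).comp ψt
    - D.comp (T.comp (p.restrictScalars R))
  have hΨ0 : ∀ x, Ψ0 x = z R (k+1) ^ k • ψt x - D (T (p x)) := fun x => rfl
  have hTz : ∀ m, T (z R (k+1) • m) = z R (k+1) • m := by
    intro m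
    apply hT2
    rw [smul_smul, ← pow_succ, hzpow]
    exact zero_smul (Rn R (k+1)) m
  have hΨz : ∀ x, Ψ0 (z R (k+1) • x) = z R (k+1) • Ψ0 x := by
    intro x
    have l1 : Ψ0 (z R (k+1) • x) = 0 := by
      rw [hΨ0, map_smul p, hTz, hP6, sub_neg_eq_add, hcp, hct, smul_sub, add_sub_cancel,
        smul_smul, ← pow_succ, hzpow]
      exact zero_smul (Rn R (k+1)) (ψt x)
    have l2 : z R (k+1) • Ψ0 x = 0 := by
      rw [hΨ0, smul_sub, hP5, hT1, map_zero, neg_zero, sub_zero, smul_smul, ← pow_succ', hzpow]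
      exact zero_smul (Rn R (k+1)) (ψt x)
    rw [l1, l2]
  refine ⟨{ toFun := Ψ0, map_add' := Ψ0.map_add, map_smul' := fun a x => by
              rw [RingHom.id_apply]
              exact linear_of_z Ψ0 hΨz a x }, fun x hx => ?_⟩
  show Ψ0 x = _
  rw [hΨ0, hx, map_zero, map_zero, sub_zero]

variable [IsDomain R] [IsDiscreteValuationRing R]

theorem zpow_extends {M N : Type*} [AddCommGroup M] [Module (Rn R (k+1)) M] [Module R M]
    [IsScalarTower R (Rn R (k+1)) M] [Module.Finite (Rn R (k+1)) M] [Module.IsTorsionFree R M]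
    [AddCommGroup N] [Module (Rn R (k+1)) N] {r : ℕ}
    (p : (Fin r → Rn R (k+1)) →ₗ[Rn R (k+1)] M) (hp : Function.Surjective p)
    (ψ : ↥(LinearMap.ker p) →ₗ[Rn R (k+1)] N) :
    ∃ Ψ : (Fin r → Rn R (k+1)) →ₗ[Rn R (k+1)] N,
      ∀ x : ↥(LinearMap.ker p), Ψ x = z R (k+1) ^ k • ψ x := by
  letI : Module R N := Module.compHom N (algebraMap R (Rn R (k+1)))
  haveI : IsScalarTower R (Rn R (k+1)) N := ⟨fun r a m => by
    show (r • a) • m = (algebraMap R (Rn R (k+1)) r) • (a • m)
    rw [← mul_smul]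
    congr 1
    exact Algebra.smul_def r a⟩
  haveI : Module.Finite R (Rn R (k+1)) := finite_Rn R k
  haveI : Module.Finite R M := Module.Finite.trans (Rn R (k+1)) M
  haveI : Module.Free R M := Module.free_of_finite_type_torsion_free'
  -- the section σ
  obtain ⟨σ, hσ'⟩ := Module.projective_lifting_property (p.restrictScalars R) LinearMap.id hp
  have hσ : ∀ m, p (σ m) = m := fun m => LinearMap.congr_fun hσ' m
  -- the operator T
  let zk : M →ₗ[R] M := DistribSMul.toLinearMap R M (z R (k+1) ^ k)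
  have hzk : ∀ m, zk m = z R (k+1) ^ k • m := fun m => rfl
  haveI : Module.IsTorsionFree R ↥(LinearMap.range zk) :=
    Function.Injective.moduleIsTorsionFree (Subtype.val) Subtype.val_injective (fun r m => rfl)
  haveI : Module.Finite R ↥(LinearMap.range zk) :=
    Module.Finite.of_injective (LinearMap.range zk).subtype Subtype.val_injective
  haveI : Module.Free R ↥(LinearMap.range zk) := Module.free_of_finite_type_torsion_free'
  obtain ⟨s, hs'⟩ := Module.projective_lifting_property zk.rangeRestrict LinearMap.id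
    (LinearMap.surjective_rangeRestrict zk)
  have hs : ∀ y : ↥(LinearMap.range zk), z R (k+1) ^ k • s y = (y : M) := by
    intro y
    have := congrArg Subtype.val (LinearMap.congr_fun hs' y)
    exact this
  let T : M →ₗ[R] M := LinearMap.id - s.comp zk.rangeRestrict
  have hT : ∀ m, T m = m - s (zk.rangeRestrict m) := fun m => rfl
  have hT1 : ∀ m, z R (k+1) ^ k • T m = 0 := by
    intro m
    rw [hT, smul_sub, hs, sub_eq_zero]
    rfl
  have hT2 : ∀ m, z R (k+1) ^ k • m = 0 → T m = m := by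
    intro m hm
    have h0 : zk.rangeRestrict m = 0 := by
      apply Subtype.ext
      exact hm
    rw [hT, h0, map_zero, sub_zero]
  -- the R-linear extension of ψ
  have hρmem : ∀ x : Fin r → Rn R (k+1), x - σ (p x) ∈ LinearMap.ker p := by
    intro x
    rw [LinearMap.mem_ker, map_sub, hσ, sub_self]
  let ψt : (Fin r → Rn R (k+1)) →ₗ[R] N :=
    { toFun := fun x => ψ ⟨x - σ (p x), hρmem x⟩
      map_add' := fun x y => by
        rw [← map_add]
        congr 1
        apply Subtype.ext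
        show (x + y) - σ (p (x + y)) = (x - σ (p x)) + (y - σ (p y))
        rw [map_add, map_add]
        abel
      map_smul' := fun c x => by
        rw [RingHom.id_apply]
        show _ = (algebraMap R (Rn R (k+1)) c) • ψ ⟨x - σ (p x), hρmem x⟩
        rw [← map_smul]
        congr 1
        apply Subtype.ext
        show c • x - σ (p (c • x)) = (algebraMap R (Rn R (k+1)) c) • (x - σ (p x))
        rw [algebraMap_smul, LinearMap.map_smul_of_tower, map_smul, smul_sub] }
  have hψt0 : ∀ x (hx : p x = 0), ψt x = ψ ⟨x, LinearMap.mem_ker.mpr hx⟩ := by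
    intro x hx
    show ψ ⟨x - σ (p x), hρmem x⟩ = ψ ⟨x, LinearMap.mem_ker.mpr hx⟩
    congr 1
    apply Subtype.ext
    show x - σ (p x) = x
    rw [hx, map_zero, sub_zero]
  have hψt : ∀ x, p x = 0 → ψt (z R (k+1) • x) = z R (k+1) • ψt x := by
    intro x hx
    have hx' : p (z R (k+1) • x) = 0 := by rw [map_smul, hx, smul_zero]
    rw [hψt0 x hx, hψt0 _ hx', ← map_smul]
    rfl
  obtain ⟨Ψ, hΨ⟩ := extend_zpow_aux p hp σ hσ T hT1 hT2 ψt hψt
  refine ⟨Ψ, fun x => ?_⟩
  have hx : p x = 0 := LinearMap.mem_ker.mp x.2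
  rw [hΨ x hx, hψt0 x hx]

theorem zpow_kills_ext (N : Type u) [AddCommGroup N] [Module (Rn R (k+1)) N] (j : ℕ) :
    ∀ (M : Type u) [AddCommGroup M] [Module (Rn R (k+1)) M] [Module R M]
      [IsScalarTower R (Rn R (k+1)) M] [Module.Finite (Rn R (k+1)) M] [Module.IsTorsionFree R M]
      (x : Abelian.Ext (ModuleCat.of (Rn R (k+1)) M) (ModuleCat.of (Rn R (k+1)) N) (j+1)),
      (z R (k+1) ^ k) • x = 0 := by
  induction j with
  | zero =>
    intro M _ _ _ _ _ _ x
    obtain ⟨r, p, hp⟩ := Module.Finite.exists_fin' (Rn R (k+1)) M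
    obtain ⟨e, h1, h2, -⟩ := exists_extClass p hp
    obtain ⟨x₁, rfl⟩ := h1 (ModuleCat.of (Rn R (k+1)) N) 0 x
    obtain ⟨ψ, rfl⟩ := (Abelian.Ext.mk₀_bijective _ _).2 x₁
    rw [← Abelian.Ext.comp_smul, ← Abelian.Ext.mk₀_smul]
    obtain ⟨Ψ, hΨ⟩ := zpow_extends (R := R) p hp ψ.hom
    have h3 : (z R (k+1) ^ k) • ψ
        = ModuleCat.ofHom (LinearMap.ker p).subtype ≫ ModuleCat.ofHom Ψ := by
      ext x
      exact (hΨ x).symm
    rw [h3]
    exact h2 _ _
  | succ j ih =>
    intro M _ _ _ _ _ _ x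
    obtain ⟨r, p, hp⟩ := Module.Finite.exists_fin' (Rn R (k+1)) M
    obtain ⟨e, h1, -, -⟩ := exists_extClass p hp
    obtain ⟨x₁, rfl⟩ := h1 (ModuleCat.of (Rn R (k+1)) N) (j+1) x
    obtain ⟨hfin, htf⟩ := ker_instances (R := R) p
    haveI := hfin
    haveI := htf
    rw [← Abelian.Ext.comp_smul, ih ↥(LinearMap.ker p) x₁]
    exact Abelian.Ext.comp_zero _ _ _ _ _

end ZPow

end Groth.Agent.MultCrvLib
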