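import Mathlib
import Groth.Prelude.Def_W4c1extbt15Mult
import Groth.Prelude.Def_CGrpSh
import Groth.Agent.Lib.MultAlt_lead

/-! # Descent of (multi)linear morphisms of group schemes through an fppf quotient (lead) -/

set_option autoImplicit false
set_option linter.unusedSimpArgs false
set_option linter.unusedVariables false
set_option linter.unusedSectionVars false
set_option linter.style.longLine false
set_option linter.unnecessarySimpa false
set_option maxHeartbeats 1600000
set_option backward.isDefEq.respectTransparency false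
set_option backward.isDefEq.respectTransparency.types false
set_option backward.defeqAttrib.useBackward true

universe w v u

open CategoryTheory CategoryTheory.Limits MonoidalCategory CartesianMonoidalCategory MonObj
  AlgebraicGeometry Opposite

namespace Groth.Agent.Lib.MultDesc

/-! ## Pure algebra on functions -/

section alg

open Function

variable {II : Type*} [DecidableEq II]

theorem swap_mul_eq_one {G H : Type*} [Monoid G] [CommMonoid H] (f : (II → G) → H)
    (hmul : ∀ (x : II → G) (i : II) (a b : G),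
      f (update x i (a * b)) = f (update x i a) * f (update x i b))
    (halt : ∀ (x : II → G) (i k : II), i ≠ k → x i = x k → f x = 1)
    (x : II → G) {i k : II} (hik : i ≠ k) :
    f x * f (update (update x i (x k)) k (x i)) = 1 := by
  have hki : k ≠ i := hik.symm
  have h0 : f (update (update x i (x i * x k)) k (x i * x k)) = 1 := by
    refine halt _ i k hik ?_
    rw [update_of_ne hik, update_self, update_self]
  rw [hmul] at h0
  have h1 : f (update (update x i (x i * x k)) k (x i)) =
      f (update (update x i (x k)) k (x i)) := by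
    rw [update_comm hik (x i * x k) (x i) x, hmul,
      halt (update (update x k (x i)) i (x i)) i k hik
        (by rw [update_self, update_of_ne hki, update_self]),
      _root_.one_mul, update_comm hki (x i) (x k) x]
  have h2 : f (update (update x i (x i * x k)) k (x k)) = f x := by
    rw [update_comm hik (x i * x k) (x k) x, update_eq_self, hmul, update_eq_self,
      halt (update x i (x k)) i k hik (by rw [update_self, update_of_ne hki]), _root_.mul_one]
  rw [h1, h2] at h0
  rw [_root_.mul_comm]
  exact h0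

theorem eq_of_update_invariant [Fintype II] {α β : Type*} (f : (II → α) → β) (rel : α → α → Prop)
    (h : ∀ (x : II → α) (i : II) (v : α), rel (x i) v → f (update x i v) = f x)
    (y z : II → α) (hyz : ∀ l, rel (y l) (z l)) : f z = f y := by
  have key : ∀ s : Finset II, f (fun l => if l ∈ s then z l else y l) = f y := by
    intro s
    induction s using Finset.induction_on with
    | empty => simp
    | insert a s ha ih =>
      have e : (fun l => if l ∈ insert a s then z l else y l) =
          update (fun l => if l ∈ s then z l else y l) a (z a) := by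
        funext l
        by_cases hl : l = a
        · subst hl
          simp
        · rw [update_of_ne hl]
          simp [Finset.mem_insert, hl]
      have hr : rel ((fun l => if l ∈ s then z l else y l) a) (z a) := by
        show rel (if a ∈ s then z a else y a) (z a)
        rw [if_neg ha]
        exact hyz a
      rw [e, h _ a (z a) hr, ih]
  have := key Finset.univ
  simpa using this

end alg

/-! ## Powers in a cartesian monoidal category -/

section pow

variable {C : Type u} [Category.{v} C] [CartesianMonoidalCategory C] [BraidedCategory C]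

theorem lift₃_eta {A B D T : C} (z : T ⟶ A ⊗ (B ⊗ D)) :
    lift (z ≫ fst A (B ⊗ D)) (lift (z ≫ snd A (B ⊗ D) ≫ fst B D) (z ≫ snd A (B ⊗ D) ≫ snd B D)) =
      z := by
  apply CartesianMonoidalCategory.hom_ext
  · rw [lift_fst]
  · rw [lift_snd]
    apply CartesianMonoidalCategory.hom_ext
    · rw [lift_fst, Category.assoc]
    · rw [lift_snd, Category.assoc]

/-- The coordinate projections of a power. -/
def proj {M : C} : ∀ {n : ℕ}, Fin n → (MultSch.pow M n ⟶ M)
  | 0, l => Fin.elim0 l
  | n + 1, l => Fin.cases (fst M (MultSch.pow M n)) (fun i => snd M (MultSch.pow M n) ≫ proj i) l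

theorem proj_zero {M : C} {n : ℕ} :
    (proj (0 : Fin (n + 1)) : MultSch.pow M (n + 1) ⟶ M) = fst M (MultSch.pow M n) := by
  simp only [proj, Fin.cases_zero]

theorem proj_succ {M : C} {n : ℕ} (i : Fin n) :
    (proj i.succ : MultSch.pow M (n + 1) ⟶ M) = snd M (MultSch.pow M n) ≫ proj i := by
  simp only [proj, Fin.cases_succ]

theorem tuple_proj {M T : C} :
    ∀ {n : ℕ} (x : Fin n → (T ⟶ M)) (l : Fin n), MultSch.tuple x ≫ proj l = x l
  | 0, _, l => Fin.elim0 l
  | n + 1, x, l => by
      refine Fin.cases ?_ (fun i => ?_) l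
      · rw [proj_zero]
        show lift (x 0) (MultSch.tuple fun i => x i.succ) ≫ fst _ _ = x 0
        rw [lift_fst]
      · rw [proj_succ]
        show lift (x 0) (MultSch.tuple fun i => x i.succ) ≫ (snd _ _ ≫ proj i) = x i.succ
        rw [lift_snd_assoc, tuple_proj (fun i => x i.succ) i]

theorem tuple_eta {M T : C} :
    ∀ {n : ℕ} (a : T ⟶ MultSch.pow M n), MultSch.tuple (fun l => a ≫ proj l) = a
  | 0, a => toUnit_unique _ _
  | n + 1, a => by
      show lift (a ≫ proj 0) (MultSch.tuple fun i : Fin n => a ≫ proj i.succ) = a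
      have e : (fun i : Fin n => a ≫ proj i.succ) =
          fun i => (a ≫ snd M (MultSch.pow M n)) ≫ proj i :=
        funext fun i => by rw [proj_succ, Category.assoc]
      rw [e, tuple_eta (a ≫ snd M (MultSch.pow M n)), proj_zero]
      exact CartesianMonoidalCategory.hom_ext _ _ (by rw [lift_fst]) (by rw [lift_snd])

theorem pow_hom_ext {M N : C} {n : ℕ} {f g : MultSch.pow M n ⟶ N}
    (h : ∀ (T : C) (x : Fin n → (T ⟶ M)), MultSch.tuple x ≫ f = MultSch.tuple x ≫ g) : f = g := by
  have h1 := h (MultSch.pow M n) (fun l => proj l)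
  have e : MultSch.tuple (fun l : Fin n => (proj l : MultSch.pow M n ⟶ M)) = 𝟙 _ := by
    have := tuple_eta (𝟙 (MultSch.pow M n))
    simpa only [Category.id_comp] using this
  rwa [e, Category.id_comp, Category.id_comp] at h1

/-- The map on powers induced by a morphism. -/
def powMap {M M' : C} (π : M ⟶ M') (n : ℕ) : MultSch.pow M n ⟶ MultSch.pow M' n :=
  MultSch.tuple (fun l => proj l ≫ π)

theorem tuple_powMap {M M' T : C} (π : M ⟶ M') {n : ℕ} (x : Fin n → (T ⟶ M)) :
    MultSch.tuple x ≫ powMap π n = MultSch.tuple (fun l => x l ≫ π) := by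
  rw [powMap, MultAlt.comp_tuple]
  congr 1
  funext l
  rw [← Category.assoc, tuple_proj]

theorem powMap_proj {M M' : C} (π : M ⟶ M') {n : ℕ} (l : Fin n) :
    powMap π n ≫ proj l = proj l ≫ π :=
  tuple_proj _ l

theorem comp_update {T T' M : C} {n : ℕ} (t : T' ⟶ T) (x : Fin n → (T ⟶ M)) (i : Fin n)
    (u : T ⟶ M) :
    (fun l => t ≫ Function.update x i u l) = Function.update (fun l => t ≫ x l) i (t ≫ u) := by
  funext l
  by_cases hl : l = i
  · subst hl
    rw [Function.update_self, Function.update_self]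
  · rw [Function.update_of_ne hl, Function.update_of_ne hl]

theorem update_comp {T M M' : C} {n : ℕ} (π : M ⟶ M') (x : Fin n → (T ⟶ M)) (i : Fin n)
    (u : T ⟶ M) :
    (fun l => Function.update x i u l ≫ π) = Function.update (fun l => x l ≫ π) i (u ≫ π) := by
  funext l
  by_cases hl : l = i
  · subst hl
    rw [Function.update_self, Function.update_self]
  · rw [Function.update_of_ne hl, Function.update_of_ne hl]

end pow

/-! ## Descent along a locally surjective morphism in a subcanonical site -/

section descent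

variable {C : Type*} [Category C] (J : GrothendieckTopology C) [J.Subcanonical]

theorem hom_ext_of_mem {T N : C} {R : Sieve T} (hR : R ∈ J T) {f g : T ⟶ N}
    (h : ∀ ⦃T' : C⦄ (t : T' ⟶ T), R t → t ≫ f = t ≫ g) : f = g := by
  have hsh : Presieve.IsSheaf J (yoneda.obj N) :=
    GrothendieckTopology.Subcanonical.isSheaf_of_isRepresentable _
  exact (hsh R hR).isSeparatedFor.ext (t₁ := f) (t₂ := g) (fun T' t ht => h t ht)

theorem exists_unique_desc {A X N : C} (q : A ⟶ X) (ψ : A ⟶ N)
    (hsurj : ∀ ⦃T : C⦄ (x : T ⟶ X), ∃ R ∈ J T, ∀ ⦃T' : C⦄ (t : T' ⟶ T), R t →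
      ∃ a : T' ⟶ A, a ≫ q = t ≫ x)
    (hconst : ∀ ⦃T : C⦄ (a b : T ⟶ A), a ≫ q = b ≫ q → a ≫ ψ = b ≫ ψ) :
    ∃! ψ' : X ⟶ N, q ≫ ψ' = ψ := by
  have hsh : Presieve.IsSheaf J (yoneda.obj N) :=
    GrothendieckTopology.Subcanonical.isSheaf_of_isRepresentable _
  obtain ⟨R, hR, hl⟩ := hsurj (𝟙 X)
  choose a ha using hl
  have ha' : ∀ ⦃T' : C⦄ (t : T' ⟶ X) (ht : R t), a t ht ≫ q = t := fun T' t ht => by
    rw [ha t ht, Category.comp_id]
  let x : Presieve.FamilyOfElements (yoneda.obj N) R.arrows := fun T' t ht => a t ht ≫ ψ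
  have hcomp : x.Compatible := by
    intro Y₁ Y₂ Z g₁ g₂ t₁ t₂ h₁ h₂ e
    show g₁ ≫ a t₁ h₁ ≫ ψ = g₂ ≫ a t₂ h₂ ≫ ψ
    rw [← Category.assoc, ← Category.assoc]
    apply hconst
    rw [Category.assoc, Category.assoc, ha', ha', e]
  obtain ⟨ψ', hψ', -⟩ := hsh R hR x hcomp
  have hψ'' : ∀ ⦃T' : C⦄ (t : T' ⟶ X) (ht : R t), t ≫ ψ' = a t ht ≫ ψ := fun T' t ht => hψ' t ht
  have hfac : q ≫ ψ' = ψ := by
    refine hom_ext_of_mem J (J.pullback_stable q hR) (fun T' s hs => ?_)
    have hs' : R (s ≫ q) := hs
    rw [← Category.assoc, hψ'' _ hs']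
    exact hconst _ _ (ha' _ hs')
  refine ⟨ψ', hfac, fun ψ'' h'' => ?_⟩
  refine hom_ext_of_mem J hR (fun T' t ht => ?_)
  have h1 : t ≫ ψ'' = a t ht ≫ ψ := by
    rw [← h'', ← Category.assoc, ha']
  rw [h1, hψ'' t ht]

end descent

/-! ## Extraction of local lifts from exactness -/

section exact

variable {S : Scheme.{u}} (K : Precoverage Scheme.{u}) [(QuotSh.J K S).Subcanonical]
  {G H L : Over S} [GrpObj G] [IsCommMonObj G] [GrpObj H] [IsCommMonObj H] [GrpObj L]
  [IsCommMonObj L]

theorem exists_lift_of_exact (j : G ⟶ H) (π : H ⟶ L) [IsMonHom j] [IsMonHom π] (w : j ≫ π = 1)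
    (hex : (CGrpSh.seq K j π w).Exact) {T : Over S} (y : T ⟶ H) (hy : y ≫ π = 1) :
    ∃ R ∈ QuotSh.J K S T, ∀ ⦃T' : Over S⦄ (t : T' ⟶ T), R t → ∃ y' : T' ⟶ G, y' ≫ j = t ≫ y := by
  obtain ⟨F, hF⟩ : ∃ F : BigSite.Ab K S ⥤ AddCommGrpCat.{u + 1},
      F = sheafToPresheaf (QuotSh.J K S) AddCommGrpCat.{u + 1} ⋙
        (evaluation _ _).obj (op T) := ⟨_, rfl⟩
  haveI : F.PreservesZeroMorphisms := by
    subst hF
    infer_instance
  haveI : PreservesLimit (parallelPair (CGrpSh.seq K j π w).g 0) F := by
    subst hF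
    infer_instance
  have hlim : IsLimit ((KernelFork.ofι (kernel.ι (CGrpSh.seq K j π w).g)
      (kernel.condition (CGrpSh.seq K j π w).g)).map F) :=
    KernelFork.mapIsLimit _ (kernelIsKernel (CGrpSh.seq K j π w).g) F
  have hS' : (ShortComplex.mk (F.map (kernel.ι (CGrpSh.seq K j π w).g))
      (F.map (CGrpSh.seq K j π w).g)
      (by rw [← F.map_comp, kernel.condition, F.map_zero])).Exact :=
    ShortComplex.exact_of_f_is_kernel _ hlim
  subst hF
  have hx₂ : (CGrpSh.ptsMap K π).hom.app (op T)
      (ULift.up (Additive.ofMul y) : ULift.{u + 1} (Additive (T ⟶ H))) = 0 := by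
    apply ULift.ext
    show Additive.ofMul (y ≫ π) = 0
    rw [hy]
    rfl
  obtain ⟨c, hc⟩ := (ShortComplex.ab_exact_iff _).1 hS'
    (ULift.up (Additive.ofMul y) : ULift.{u + 1} (Additive (T ⟶ H))) hx₂
  obtain ⟨A', p, hp, x₁, fac⟩ := hex.exact_up_to_refinements
    (kernel.ι (CGrpSh.seq K j π w).g) (kernel.condition _)
  haveI : Sheaf.IsLocallySurjective p := (Sheaf.isLocallySurjective_iff_epi' (φ := p)).2 hp
  refine ⟨Presheaf.imageSieve p.hom (U := T) c, Presheaf.imageSieve_mem _ _ _, ?_⟩
  rintro T' t ⟨a, ha⟩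
  obtain ⟨b, hb⟩ : ∃ b : ULift.{u + 1} (Additive (T' ⟶ G)), b = x₁.hom.app (op T') a := ⟨_, rfl⟩
  refine ⟨Additive.toMul b.down, ?_⟩
  have h1 : (CGrpSh.ptsMap K j).hom.app (op T') (x₁.hom.app (op T') a) =
      (kernel.ι (CGrpSh.seq K j π w).g).hom.app (op T') (p.hom.app (op T') a) := by
    have := congrArg (fun m : A' ⟶ (CGrpSh.seq K j π w).X₂ => m.hom.app (op T') a) fac
    exact this.symm
  rw [ha] at h1
  have h2 : (kernel.ι (CGrpSh.seq K j π w).g).hom.app (op T')
      ((kernel (CGrpSh.seq K j π w).g).obj.map t.op c) =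
      (CGrpSh.pts K H).obj.map t.op ((kernel.ι (CGrpSh.seq K j π w).g).hom.app (op T) c) :=
    ConcreteCategory.congr_hom ((kernel.ι (CGrpSh.seq K j π w).g).hom.naturality t.op) c
  rw [h2] at h1
  have h3 : (kernel.ι (CGrpSh.seq K j π w).g).hom.app (op T) c =
      (ULift.up (Additive.ofMul y) : ULift.{u + 1} (Additive (T ⟶ H))) := hc
  rw [h3, ← hb] at h1
  exact congrArg (fun z : ULift.{u + 1} (Additive (T' ⟶ H)) => Additive.toMul z.down) h1

end exact

end Groth.Agent.Lib.MultDesc
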