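import Mathlib
import Groth.Prelude.Def_W4c1extbt15Mult
import Groth.Prelude.Def_CGrpSh
import Groth.Agent.Lib.MultAlt_lead
import Groth.Agent.Lib.MultDesc_lead

/-! # Descent of (multi)linear morphisms of group schemes through an fppf quotient, II (lead) -/

set_option autoImplicit false
set_option linter.unusedSimpArgs false
set_option linter.unusedVariables false
set_option linter.unusedSectionVars false
set_option linter.style.longLine false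
set_option linter.unnecessarySimpa false
set_option maxHeartbeats 1600000
set_option backward.isDefEq.respectTransparency false
set_option backward.isDefEq.respectTransparency.types false
set_option backward.defeqAttrib.useBackward true

universe w v u

open CategoryTheory CategoryTheory.Limits MonoidalCategory CartesianMonoidalCategory MonObj
  AlgebraicGeometry Opposite

namespace Groth.Agent.Lib.MultDesc

variable {S : Scheme.{u}}

/-! ## One slot -/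

section one

variable {R : Type w} [CommRing R] {P Q M' M M'' N : Over S}
  [GrpObj M'] [IsCommMonObj M'] [GrpObj M] [IsCommMonObj M] [GrpObj M''] [IsCommMonObj M'']
  [GrpObj N] [IsCommMonObj N]

theorem main36
    (ρ : MultSch.RMod R M) (ρ'' : MultSch.RMod R M'') (ρN : MultSch.RMod R N)
    (j : M' ⟶ M) (π : M ⟶ M'') [IsMonHom j] [IsMonHom π]
    (hπ : ∀ a : R, π ≫ ρ''.act a = ρ.act a ≫ π)
    (w : j ≫ π = 1) (hex : (CGrpSh.seq Scheme.fppfPrecoverage j π w).Exact)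
    (hepi : Epi (CGrpSh.ptsMap Scheme.fppfPrecoverage π))
    (ψ : P ⊗ (M ⊗ Q) ⟶ N)
    (hadd : ∀ (T : Over S) (p : T ⟶ P) (q : T ⟶ Q) (y z : T ⟶ M),
      lift p (lift (y * z) q) ≫ ψ = (lift p (lift y q) ≫ ψ) * (lift p (lift z q) ≫ ψ))
    (hlin : ∀ (T : Over S) (p : T ⟶ P) (q : T ⟶ Q) (y : T ⟶ M) (a : R),
      lift p (lift (y ≫ ρ.act a) q) ≫ ψ = (lift p (lift y q) ≫ ψ) ≫ ρN.act a)
    (hvan : ∀ (T : Over S) (p : T ⟶ P) (q : T ⟶ Q) (y' : T ⟶ M'),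
      lift p (lift (y' ≫ j) q) ≫ ψ = 1) :
    ∃ ψ' : P ⊗ (M'' ⊗ Q) ⟶ N,
      (P ◁ (π ▷ Q)) ≫ ψ' = ψ ∧
      (∀ (T : Over S) (p : T ⟶ P) (q : T ⟶ Q) (y z : T ⟶ M''),
        lift p (lift (y * z) q) ≫ ψ' = (lift p (lift y q) ≫ ψ') * (lift p (lift z q) ≫ ψ')) ∧
      (∀ (T : Over S) (p : T ⟶ P) (q : T ⟶ Q) (y : T ⟶ M'') (a : R),
        lift p (lift (y ≫ ρ''.act a) q) ≫ ψ' = (lift p (lift y q) ≫ ψ') ≫ ρN.act a) ∧
      ∀ ψ'' : P ⊗ (M'' ⊗ Q) ⟶ N, (P ◁ (π ▷ Q)) ≫ ψ'' = ψ → ψ'' = ψ' := by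
  have hq : ∀ {T : Over S} (p : T ⟶ P) (y : T ⟶ M) (q₀ : T ⟶ Q),
      lift p (lift y q₀) ≫ (P ◁ (π ▷ Q)) = lift p (lift (y ≫ π) q₀) := by
    intro T p y q₀
    rw [lift_whiskerLeft, lift_whiskerRight]
  have lift1 : ∀ {T : Over S} (x : T ⟶ M''), ∃ R₀ ∈ QuotSh.J Scheme.fppfPrecoverage S T,
      ∀ ⦃T' : Over S⦄ (t : T' ⟶ T), R₀ t → ∃ y : T' ⟶ M, y ≫ π = t ≫ x := by
    intro T x
    obtain ⟨R₀, hR₀, hl⟩ := MultAlt.exists_lift π hepi (fun _ : Fin 1 => x)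
    exact ⟨R₀, hR₀, fun T' t ht => hl t ht 0⟩
  have hker : ∀ {T : Over S} (p : T ⟶ P) (q₀ : T ⟶ Q) (u : T ⟶ M), u ≫ π = 1 →
      lift p (lift u q₀) ≫ ψ = 1 := by
    intro T p q₀ u hu
    obtain ⟨R₀, hR₀, hl⟩ := exists_lift_of_exact Scheme.fppfPrecoverage j π w hex u hu
    refine hom_ext_of_mem (QuotSh.J Scheme.fppfPrecoverage S) hR₀ (fun T' t ht => ?_)
    obtain ⟨y', hy'⟩ := hl t ht
    rw [← Category.assoc, comp_lift, comp_lift, ← hy', hvan, MonObj.comp_one]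
  have hfib : ∀ {T : Over S} (p : T ⟶ P) (q₀ : T ⟶ Q) (y z : T ⟶ M), y ≫ π = z ≫ π →
      lift p (lift y q₀) ≫ ψ = lift p (lift z q₀) ≫ ψ := by
    intro T p q₀ y z hyz
    have hu : (z⁻¹ * y) ≫ π = 1 := by
      have h1 : (z * (z⁻¹ * y)) ≫ π = z ≫ π := by
        rw [mul_inv_cancel_left]
        exact hyz
      rw [MonObj.mul_comp] at h1
      exact mul_left_cancel (h1.trans (_root_.mul_one _).symm)
    have h2 := hadd T p q₀ z (z⁻¹ * y)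
    rw [mul_inv_cancel_left, hker p q₀ _ hu, _root_.mul_one] at h2
    exact h2
  have hsurj : ∀ ⦃T : Over S⦄ (x : T ⟶ P ⊗ (M'' ⊗ Q)),
      ∃ R₀ ∈ QuotSh.J Scheme.fppfPrecoverage S T, ∀ ⦃T' : Over S⦄ (t : T' ⟶ T), R₀ t →
        ∃ a : T' ⟶ P ⊗ (M ⊗ Q), a ≫ (P ◁ (π ▷ Q)) = t ≫ x := by
    intro T x
    obtain ⟨R₀, hR₀, hl⟩ := lift1 (x ≫ snd P (M'' ⊗ Q) ≫ fst M'' Q)
    refine ⟨R₀, hR₀, fun T' t ht => ?_⟩
    obtain ⟨y, hy⟩ := hl t ht
    refine ⟨lift ((t ≫ x) ≫ fst P (M'' ⊗ Q)) (lift y ((t ≫ x) ≫ snd P (M'' ⊗ Q) ≫ snd M'' Q)), ?_⟩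
    have hy' : y ≫ π = (t ≫ x) ≫ snd P (M'' ⊗ Q) ≫ fst M'' Q := by
      rw [hy, Category.assoc]
    rw [hq, hy']
    exact lift₃_eta (t ≫ x)
  have hconst : ∀ ⦃T : Over S⦄ (a b : T ⟶ P ⊗ (M ⊗ Q)),
      a ≫ (P ◁ (π ▷ Q)) = b ≫ (P ◁ (π ▷ Q)) → a ≫ ψ = b ≫ ψ := by
    intro T a b hab
    have e1 : a ≫ (P ◁ (π ▷ Q)) = lift (a ≫ fst P (M ⊗ Q))
        (lift ((a ≫ snd P (M ⊗ Q) ≫ fst M Q) ≫ π) (a ≫ snd P (M ⊗ Q) ≫ snd M Q)) := by
      rw [← hq, lift₃_eta]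
    have e2 : b ≫ (P ◁ (π ▷ Q)) = lift (b ≫ fst P (M ⊗ Q))
        (lift ((b ≫ snd P (M ⊗ Q) ≫ fst M Q) ≫ π) (b ≫ snd P (M ⊗ Q) ≫ snd M Q)) := by
      rw [← hq, lift₃_eta]
    rw [e1, e2] at hab
    have hp : a ≫ fst P (M ⊗ Q) = b ≫ fst P (M ⊗ Q) := by
      simpa only [lift_fst] using congrArg (fun z => z ≫ fst P (M'' ⊗ Q)) hab
    have hy : (a ≫ snd P (M ⊗ Q) ≫ fst M Q) ≫ π = (b ≫ snd P (M ⊗ Q) ≫ fst M Q) ≫ π := by
      simpa only [lift_snd_assoc, lift_fst] using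
        congrArg (fun z => z ≫ snd P (M'' ⊗ Q) ≫ fst M'' Q) hab
    have hq₀ : a ≫ snd P (M ⊗ Q) ≫ snd M Q = b ≫ snd P (M ⊗ Q) ≫ snd M Q := by
      simpa only [lift_snd_assoc, lift_snd] using
        congrArg (fun z => z ≫ snd P (M'' ⊗ Q) ≫ snd M'' Q) hab
    calc a ≫ ψ = lift (a ≫ fst P (M ⊗ Q))
          (lift (a ≫ snd P (M ⊗ Q) ≫ fst M Q) (a ≫ snd P (M ⊗ Q) ≫ snd M Q)) ≫ ψ := by
            rw [lift₃_eta]
      _ = lift (b ≫ fst P (M ⊗ Q))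
          (lift (b ≫ snd P (M ⊗ Q) ≫ fst M Q) (b ≫ snd P (M ⊗ Q) ≫ snd M Q)) ≫ ψ := by
            rw [hp, hq₀]
            exact hfib _ _ _ _ hy
      _ = b ≫ ψ := by rw [lift₃_eta]
  obtain ⟨ψ', hψ', huniq⟩ := exists_unique_desc (QuotSh.J Scheme.fppfPrecoverage S)
    (P ◁ (π ▷ Q)) ψ hsurj hconst
  have key : ∀ {T : Over S} (p : T ⟶ P) (q₀ : T ⟶ Q) (y : T ⟶ M),
      lift p (lift (y ≫ π) q₀) ≫ ψ' = lift p (lift y q₀) ≫ ψ := by
    intro T p q₀ y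
    rw [← hq, Category.assoc, hψ']
  refine ⟨ψ', hψ', ?_, ?_, fun ψ'' h'' => huniq ψ'' h''⟩
  · intro T p q₀ y'' z''
    obtain ⟨R₁, hR₁, hl₁⟩ := lift1 y''
    obtain ⟨R₂, hR₂, hl₂⟩ := lift1 z''
    refine hom_ext_of_mem (QuotSh.J Scheme.fppfPrecoverage S)
      ((QuotSh.J Scheme.fppfPrecoverage S).intersection_covering hR₁ hR₂) (fun T' t ht => ?_)
    obtain ⟨y, hy⟩ := hl₁ t ht.1
    obtain ⟨z, hz⟩ := hl₂ t ht.2
    have e1 : t ≫ lift p (lift (y'' * z'') q₀) = lift (t ≫ p) (lift ((y * z) ≫ π) (t ≫ q₀)) := by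
      rw [comp_lift, comp_lift, MonObj.comp_mul, MonObj.mul_comp, hy, hz]
    have e2 : t ≫ lift p (lift y'' q₀) = lift (t ≫ p) (lift (y ≫ π) (t ≫ q₀)) := by
      rw [comp_lift, comp_lift, hy]
    have e3 : t ≫ lift p (lift z'' q₀) = lift (t ≫ p) (lift (z ≫ π) (t ≫ q₀)) := by
      rw [comp_lift, comp_lift, hz]
    rw [MonObj.comp_mul, ← Category.assoc, ← Category.assoc, ← Category.assoc, e1, e2, e3,
      key, key, key, hadd]
  · intro T p q₀ y'' a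
    obtain ⟨R₁, hR₁, hl₁⟩ := lift1 y''
    refine hom_ext_of_mem (QuotSh.J Scheme.fppfPrecoverage S) hR₁ (fun T' t ht => ?_)
    obtain ⟨y, hy⟩ := hl₁ t ht
    have hv : (y ≫ ρ.act a) ≫ π = t ≫ y'' ≫ ρ''.act a := by
      rw [Category.assoc, ← hπ a, ← Category.assoc, hy, Category.assoc]
    have e1 : t ≫ lift p (lift (y'' ≫ ρ''.act a) q₀) =
        lift (t ≫ p) (lift ((y ≫ ρ.act a) ≫ π) (t ≫ q₀)) := by
      rw [comp_lift, comp_lift, hv]
    have e2 : t ≫ lift p (lift y'' q₀) = lift (t ≫ p) (lift (y ≫ π) (t ≫ q₀)) := by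
      rw [comp_lift, comp_lift, hy]
    rw [← Category.assoc, e1, key, hlin, ← key, ← e2]
    simp only [Category.assoc]

end one

/-! ## All slots, alternating -/

section alt

variable {R : Type w} [CommRing R] {M₁ M₂ M₃ N : Over S}
  [GrpObj M₁] [IsCommMonObj M₁] [GrpObj M₂] [IsCommMonObj M₂] [GrpObj M₃] [IsCommMonObj M₃]
  [GrpObj N] [IsCommMonObj N]

theorem vanish_im (j : M₁ ⟶ M₂) {n : ℕ} (hn : 1 ≤ n) (φ : MultSch.pow M₂ n ⟶ N)
    (hmult : MultSch.IsMultilinear φ) (halt : MultSch.IsAlternating φ)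
    (hvan : ∀ (T : Over S) (y : T ⟶ M₁) (x : Fin n → (T ⟶ M₂)), x ⟨0, hn⟩ = y ≫ j →
      MultSch.tuple x ≫ φ = 1)
    (T : Over S) (x : Fin n → (T ⟶ M₂)) (i : Fin n) (y' : T ⟶ M₁) :
    MultSch.tuple (Function.update x i (y' ≫ j)) ≫ φ = 1 := by
  by_cases hi : i = ⟨0, hn⟩
  · exact hvan T y' _ (by rw [← hi, Function.update_self])
  · have h : (MultSch.tuple (Function.update x i (y' ≫ j)) ≫ φ) *
        (MultSch.tuple (Function.update (Function.update (Function.update x i (y' ≫ j)) i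
          (Function.update x i (y' ≫ j) ⟨0, hn⟩)) ⟨0, hn⟩
          (Function.update x i (y' ≫ j) i)) ≫ φ) = 1 :=
      swap_mul_eq_one (fun x : Fin n → (T ⟶ M₂) => MultSch.tuple x ≫ φ)
        (fun x i a b => hmult T x i a b) (fun x i k hik hx => halt T x i k hik hx)
        (Function.update x i (y' ≫ j)) hi
    have h3 : MultSch.tuple (Function.update (Function.update (Function.update x i (y' ≫ j)) i
          (Function.update x i (y' ≫ j) ⟨0, hn⟩)) ⟨0, hn⟩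
          (Function.update x i (y' ≫ j) i)) ≫ φ = 1 :=
      hvan T y' _ (by rw [Function.update_self, Function.update_self])
    rw [h3, _root_.mul_one] at h
    exact h

theorem vanish_ker (j : M₁ ⟶ M₂) (π : M₂ ⟶ M₃) [IsMonHom j] [IsMonHom π] (w : j ≫ π = 1)
    (hex : (CGrpSh.seq Scheme.fppfPrecoverage j π w).Exact)
    {n : ℕ} (hn : 1 ≤ n) (φ : MultSch.pow M₂ n ⟶ N)
    (hmult : MultSch.IsMultilinear φ) (halt : MultSch.IsAlternating φ)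
    (hvan : ∀ (T : Over S) (y : T ⟶ M₁) (x : Fin n → (T ⟶ M₂)), x ⟨0, hn⟩ = y ≫ j →
      MultSch.tuple x ≫ φ = 1)
    (T : Over S) (x : Fin n → (T ⟶ M₂)) (i : Fin n) (u : T ⟶ M₂) (hu : u ≫ π = 1) :
    MultSch.tuple (Function.update x i u) ≫ φ = 1 := by
  obtain ⟨R₀, hR₀, hl⟩ := exists_lift_of_exact Scheme.fppfPrecoverage j π w hex u hu
  refine hom_ext_of_mem (QuotSh.J Scheme.fppfPrecoverage S) hR₀ (fun T' t ht => ?_)
  obtain ⟨y', hy'⟩ := hl t ht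
  rw [← Category.assoc, MultAlt.comp_tuple, comp_update, ← hy', MonObj.comp_one]
  exact vanish_im j hn φ hmult halt hvan T' _ i y'

theorem const_fibres (j : M₁ ⟶ M₂) (π : M₂ ⟶ M₃) [IsMonHom j] [IsMonHom π] (w : j ≫ π = 1)
    (hex : (CGrpSh.seq Scheme.fppfPrecoverage j π w).Exact)
    {n : ℕ} (hn : 1 ≤ n) (φ : MultSch.pow M₂ n ⟶ N)
    (hmult : MultSch.IsMultilinear φ) (halt : MultSch.IsAlternating φ)
    (hvan : ∀ (T : Over S) (y : T ⟶ M₁) (x : Fin n → (T ⟶ M₂)), x ⟨0, hn⟩ = y ≫ j →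
      MultSch.tuple x ≫ φ = 1)
    (T : Over S) (y z : Fin n → (T ⟶ M₂)) (h : ∀ l, y l ≫ π = z l ≫ π) :
    MultSch.tuple z ≫ φ = MultSch.tuple y ≫ φ := by
  refine eq_of_update_invariant (fun x : Fin n → (T ⟶ M₂) => MultSch.tuple x ≫ φ)
    (fun a b => a ≫ π = b ≫ π) ?_ y z h
  intro x i v hv
  show MultSch.tuple (Function.update x i v) ≫ φ = MultSch.tuple x ≫ φ
  have hu : ((x i)⁻¹ * v) ≫ π = 1 := by
    have h1 : (x i * ((x i)⁻¹ * v)) ≫ π = x i ≫ π := by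
      rw [mul_inv_cancel_left]
      exact hv.symm
    rw [MonObj.mul_comp] at h1
    exact mul_left_cancel (h1.trans (_root_.mul_one _).symm)
  have h2 := hmult T x i (x i) ((x i)⁻¹ * v)
  rw [mul_inv_cancel_left, Function.update_eq_self,
    vanish_ker j π w hex hn φ hmult halt hvan T x i _ hu, _root_.mul_one] at h2
  exact h2

theorem main35
    (ρ₂ : MultSch.RMod R M₂) (ρ₃ : MultSch.RMod R M₃) (ρN : MultSch.RMod R N)
    (j : M₁ ⟶ M₂) (π : M₂ ⟶ M₃) [IsMonHom j] [IsMonHom π]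
    (hπ : ∀ a : R, π ≫ ρ₃.act a = ρ₂.act a ≫ π)
    (w : j ≫ π = 1) (hex : (CGrpSh.seq Scheme.fppfPrecoverage j π w).Exact)
    (hepi : Epi (CGrpSh.ptsMap Scheme.fppfPrecoverage π))
    {n : ℕ} (hn : 1 ≤ n) (φ : MultSch.pow M₂ n ⟶ N)
    (hmult : MultSch.IsMultilinear φ) (hlin : MultSch.IsRLinear ρ₂ ρN φ)
    (halt : MultSch.IsAlternating φ)
    (hvan : ∀ (T : Over S) (y : T ⟶ M₁) (x : Fin n → (T ⟶ M₂)), x ⟨0, hn⟩ = y ≫ j →
      MultSch.tuple x ≫ φ = 1) :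
    ∃ φ' : MultSch.pow M₃ n ⟶ N,
      (∀ (T : Over S) (x : Fin n → (T ⟶ M₂)),
        MultSch.tuple x ≫ φ = MultSch.tuple (fun l => x l ≫ π) ≫ φ') ∧
      MultSch.IsMultilinear φ' ∧ MultSch.IsRLinear ρ₃ ρN φ' ∧ MultSch.IsAlternating φ' ∧
      ∀ φ'' : MultSch.pow M₃ n ⟶ N,
        (∀ (T : Over S) (x : Fin n → (T ⟶ M₂)),
          MultSch.tuple x ≫ φ = MultSch.tuple (fun l => x l ≫ π) ≫ φ'') → φ'' = φ' := by
  have hsurj : ∀ ⦃T : Over S⦄ (x : T ⟶ MultSch.pow M₃ n),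
      ∃ R₀ ∈ QuotSh.J Scheme.fppfPrecoverage S T, ∀ ⦃T' : Over S⦄ (t : T' ⟶ T), R₀ t →
        ∃ a : T' ⟶ MultSch.pow M₂ n, a ≫ powMap π n = t ≫ x := by
    intro T x
    obtain ⟨R₀, hR₀, hl⟩ := MultAlt.exists_lift π hepi (fun l => x ≫ proj l)
    refine ⟨R₀, hR₀, fun T' t ht => ?_⟩
    choose y hy using hl t ht
    refine ⟨MultSch.tuple y, ?_⟩
    have e := MultAlt.comp_tuple t (fun l => x ≫ proj l)
    rw [tuple_eta] at e
    rw [tuple_powMap, e]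
    congr 1
    funext l
    exact hy l
  have hconst : ∀ ⦃T : Over S⦄ (a b : T ⟶ MultSch.pow M₂ n),
      a ≫ powMap π n = b ≫ powMap π n → a ≫ φ = b ≫ φ := by
    intro T a b hab
    have h1 : ∀ l, (b ≫ proj l) ≫ π = (a ≫ proj l) ≫ π := by
      intro l
      have := congrArg (fun z => z ≫ proj l) hab
      simp only [Category.assoc, powMap_proj] at this
      rw [Category.assoc, Category.assoc]
      exact this.symm
    calc a ≫ φ = MultSch.tuple (fun l => a ≫ proj l) ≫ φ := by rw [tuple_eta]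
      _ = MultSch.tuple (fun l => b ≫ proj l) ≫ φ :=
          const_fibres j π w hex hn φ hmult halt hvan T _ _ h1
      _ = b ≫ φ := by rw [tuple_eta]
  obtain ⟨φ', hφ', huniq⟩ := exists_unique_desc (QuotSh.J Scheme.fppfPrecoverage S)
    (powMap π n) φ hsurj hconst
  have hpt : ∀ (T : Over S) (x : Fin n → (T ⟶ M₂)),
      MultSch.tuple x ≫ φ = MultSch.tuple (fun l => x l ≫ π) ≫ φ' := by
    intro T x
    rw [← tuple_powMap, Category.assoc, hφ']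
  have pt_eq : ∀ {T T' : Over S} (t : T' ⟶ T) (x'' : Fin n → (T ⟶ M₃)) (x : Fin n → (T' ⟶ M₂))
      (i : Fin n) (v'' : T ⟶ M₃) (v : T' ⟶ M₂), (∀ l, x l ≫ π = t ≫ x'' l) → v ≫ π = t ≫ v'' →
      t ≫ MultSch.tuple (Function.update x'' i v'') ≫ φ' =
        MultSch.tuple (Function.update x i v) ≫ φ := by
    intro T T' t x'' x i v'' v hx hv
    rw [← Category.assoc, MultAlt.comp_tuple, comp_update, hpt, update_comp, hv,
      (funext hx : (fun l => x l ≫ π) = fun l => t ≫ x'' l)]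
  have pt_eq0 : ∀ {T T' : Over S} (t : T' ⟶ T) (x'' : Fin n → (T ⟶ M₃))
      (x : Fin n → (T' ⟶ M₂)), (∀ l, x l ≫ π = t ≫ x'' l) →
      t ≫ MultSch.tuple x'' ≫ φ' = MultSch.tuple x ≫ φ := by
    intro T T' t x'' x hx
    rw [← Category.assoc, MultAlt.comp_tuple, hpt,
      (funext hx : (fun l => x l ≫ π) = fun l => t ≫ x'' l)]
  refine ⟨φ', hpt, ?_, ?_, ?_, ?_⟩
  · intro T x'' i y'' z''
    obtain ⟨R₁, hR₁, hl₁⟩ := MultAlt.exists_lift π hepi x''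
    obtain ⟨R₂, hR₂, hl₂⟩ := MultAlt.exists_lift π hepi (fun _ : Fin 1 => y'')
    obtain ⟨R₃, hR₃, hl₃⟩ := MultAlt.exists_lift π hepi (fun _ : Fin 1 => z'')
    refine hom_ext_of_mem (QuotSh.J Scheme.fppfPrecoverage S)
      ((QuotSh.J Scheme.fppfPrecoverage S).intersection_covering hR₁
        ((QuotSh.J Scheme.fppfPrecoverage S).intersection_covering hR₂ hR₃)) (fun T' t ht => ?_)
    choose x hx using hl₁ t ht.1
    obtain ⟨y, hy⟩ := hl₂ t ht.2.1 0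
    obtain ⟨z, hz⟩ := hl₃ t ht.2.2 0
    rw [MonObj.comp_mul, pt_eq t x'' x i (y'' * z'') (y * z) hx
        (by rw [MonObj.mul_comp, hy, hz, MonObj.comp_mul]),
      pt_eq t x'' x i y'' y hx hy, pt_eq t x'' x i z'' z hx hz]
    exact hmult T' x i y z
  · intro T x'' i a
    obtain ⟨R₁, hR₁, hl₁⟩ := MultAlt.exists_lift π hepi x''
    refine hom_ext_of_mem (QuotSh.J Scheme.fppfPrecoverage S) hR₁ (fun T' t ht => ?_)
    choose x hx using hl₁ t ht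
    have hv : (x i ≫ ρ₂.act a) ≫ π = t ≫ (x'' i ≫ ρ₃.act a) := by
      rw [Category.assoc, ← hπ a, ← Category.assoc, hx i, Category.assoc]
    rw [pt_eq t x'' x i _ _ hx hv,
      ← Category.assoc t (MultSch.tuple x'' ≫ φ') (ρN.act a), pt_eq0 t x'' x hx]
    exact hlin T' x i a
  · exact MultAlt.main π hepi φ' (fun T x i k hik hx => by
      rw [← hpt]
      exact halt T x i k hik hx)
  · intro φ'' h''
    apply huniq
    apply pow_hom_ext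
    intro T x
    rw [← Category.assoc, tuple_powMap, ← h'']

end alt

end Groth.Agent.Lib.MultDesc
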