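import Groth.Agent.Lib.MultPrim_helper1
import Groth.Agent.Lib.MultQuot_helper1

/-!
# The largest subgroup of multiplicative type of a commutative affine algebraic group (helper1)
-/

set_option autoImplicit false
set_option maxHeartbeats 1000000

universe u

open TensorProduct

namespace MultMaxH1

open TrigStrH1 MultPrimH1 HopfNrmH1 Groth.Agent.Lib.HopfFFH1 Groth.Agent.Lib.Comod_helper9
  Groth.Agent.Lib.ComodFlag_helper9 Groth.Agent.Lib.ComodDual_helper9 ChevH1
  Groth.Agent.Lib.MultQuotH1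

section Basic

variable {k : Type u} [Field k] {A : Type u} [CommRing A] [HopfAlgebra k A]

theorem cm_comm [Coalgebra.IsCocomm k A] {R : Type u} [CommRing R] [Algebra k R]
    (a b : A →ₐ[k] R) : cm a b = cm b a := by
  unfold cm
  rw [mul_comm]

theorem nrm_of_cocomm [Coalgebra.IsCocomm k A] {K : Type u} [CommRing K] [HopfAlgebra k K]
    (π : A →ₐc[k] K) : Nrm π := by
  intro R _ _ g h hle
  have h1 : cm (cm g h) (ci g) = h := by
    rw [cm_comm g h, cm_cm_ci]
  rw [h1]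
  exact hle

theorem primitive_map {E F : Type u} [CommRing E] [HopfAlgebra k E] [CommRing F] [HopfAlgebra k F]
    (j : E →ₐc[k] F) (x : E)
    (hx : CoalgebraStruct.comul (R := k) x = x ⊗ₜ[k] (1 : E) + (1 : E) ⊗ₜ[k] x) :
    CoalgebraStruct.comul (R := k) (j x) = j x ⊗ₜ[k] (1 : F) + (1 : F) ⊗ₜ[k] j x := by
  have h1 := CoalgHomClass.map_comp_comul_apply j x
  rw [← h1, hx, map_add, TensorProduct.map_tmul, TensorProduct.map_tmul]
  simp

theorem isCocomm_of_surjective {B : Type u} [CommRing B] [HopfAlgebra k B] (f : A →ₐc[k] B)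
    (hf : Function.Surjective f) [Coalgebra.IsCocomm k A] : Coalgebra.IsCocomm k B := by
  constructor
  apply LinearMap.ext
  intro b
  obtain ⟨a, rfl⟩ := hf b
  have h := CoalgHomClass.map_comp_comul_apply f a
  have h2 : ∀ t : A ⊗[k] A, TensorProduct.comm k B B (TensorProduct.map (f : A →ₗ[k] B) (f : A →ₗ[k] B) t) =
      TensorProduct.map (f : A →ₗ[k] B) (f : A →ₗ[k] B) (TensorProduct.comm k A A t) := by
    intro t
    induction t using TensorProduct.induction_on with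
    | zero => simp
    | add x y hx hy => simp only [map_add, hx, hy]
    | tmul x y => simp
  rw [LinearMap.comp_apply, LinearEquiv.coe_coe, ← h, h2, Coalgebra.comm_comul]

theorem augIdeal_subVal_eq (B : Subalgebra k A) [IsHopfSub B] :
    augIdeal (subVal B) =
      Ideal.span {b : A | b ∈ B ∧ Coalgebra.counit (R := k) b = 0} := by
  apply le_antisymm
  · rw [augIdeal, Ideal.map_le_iff_le_comap]
    intro b hb
    rw [Ideal.mem_comap]
    apply Ideal.subset_span
    refine ⟨b.2, ?_⟩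
    rw [RingHom.mem_ker] at hb
    exact hb
  · rw [Ideal.span_le]
    rintro a ⟨haB, ha0⟩
    have h1 : (⟨a, haB⟩ : ↥B) ∈ RingHom.ker (Bialgebra.counitAlgHom k ↥B) := by
      rw [RingHom.mem_ker]
      exact ha0
    exact Ideal.mem_map_of_mem (subVal B : ↥B →ₐ[k] A) h1

theorem isUnipotent_adjoin_sub {E : Type u} [CommRing E] [HopfAlgebra k E] (x : E)
    [IsHopfSub (Algebra.adjoin k {x})]
    (hx : CoalgebraStruct.comul (R := k) x = x ⊗ₜ[k] (1 : E) + (1 : E) ⊗ₜ[k] x) :
    HopfRep.IsUnipotent k ↥(Algebra.adjoin k {x}) := by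
  apply isUnipotent_of_adjoin_primitive (⟨x, Algebra.subset_adjoin rfl⟩ : ↥(Algebra.adjoin k {x}))
    (primitive_sub _ x _ hx)
  have h1 := Algebra.adjoin_adjoin_coe_preimage (R := k) (s := ({x} : Set E))
  have h2 : ((↑) : Algebra.adjoin k ({x} : Set E) → E) ⁻¹' {x} =
      {⟨x, Algebra.subset_adjoin rfl⟩} := by
    ext z
    simp only [Set.mem_preimage, Set.mem_singleton_iff]
    constructor
    · intro hz
      exact Subtype.ext hz
    · intro hz
      rw [hz]
  rw [h2] at h1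
  exact h1

theorem primitive_eq_zero_of_isMultTypeConst (E : Type u) [CommRing E] [HopfAlgebra k E]
    (h : SGA3b.IsMultTypeConst k E) (f : E)
    (hf : CoalgebraStruct.comul (R := k) f = f ⊗ₜ[k] (1 : E) + (1 : E) ⊗ₜ[k] f) : f = 0 := by
  obtain ⟨R', instR', algR', hff, M, instM, ⟨e⟩⟩ := h
  haveI : Nontrivial R' := by
    by_contra hne
    rw [not_nontrivial_iff_subsingleton] at hne
    obtain ⟨m0, hm0⟩ := Ideal.exists_maximal k
    exact hff.submodule_ne_top hm0
      (eq_top_iff.mpr (fun x _ => by rw [Subsingleton.elim x 0]; exact zero_mem _))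
  obtain ⟨m, hm⟩ := Ideal.exists_maximal R'
  letI : Field (R' ⧸ m) := Ideal.Quotient.field m
  have h1 : Sp R' (R' ⊗[k] E) := sp_of_equiv e (sp_monoidAlgebra R' M)
  have h2 : Sp (R' ⧸ m) ((R' ⧸ m) ⊗[k] E) := sp_cc (Ideal.Quotient.mkₐ k m) h1
  have h3 := primitive_eq_zero_of_isDiagonalizable (K := R' ⧸ m) h2 _
    (primitive_one_tmul k (R' ⧸ m) E f hf)
  exact one_tmul_injective k (R' ⧸ m) _ _ (h3.trans (TensorProduct.tmul_zero _ _).symm)

end Basic

section Ext

variable {k : Type u} [Field k] {A C : Type u} [CommRing A] [HopfAlgebra k A] [CommRing C]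
  [HopfAlgebra k C]

/-- the extension lemma with the hypothesis on the quotient replaced by the existence of a fixed
vector for the quotient in the given comodule -/
theorem fixedPts_ne_bot_of_extension (ψ : C →ₐc[k] A) (hψ : Function.Injective ψ)
    (hC : HopfRep.IsUnipotent k C) {V : Type u} [AddCommGroup V] [Module k V]
    (cV : HopfRep.Comod k A V) [Module.Finite k V]
    (hfix : @HopfRep.fixedPts k (A ⧸ augIdeal ψ) _ _ _ V _ _
      (comodPush ((Bialgebra.Quotient.mkBialgHom (augIdeal ψ) :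
        A →ₐc[k] A ⧸ augIdeal ψ) : A →ₗc[k] A ⧸ augIdeal ψ) cV) ≠ ⊥) :
    @HopfRep.fixedPts k A _ _ _ V _ _ cV ≠ ⊥ := by
  obtain ⟨W, hWdef⟩ : ∃ W : Submodule k V, W = @HopfRep.fixedPts k (A ⧸ augIdeal ψ) _ _ _ V _ _
      (comodPush ((Bialgebra.Quotient.mkBialgHom (augIdeal ψ) :
        A →ₐc[k] A ⧸ augIdeal ψ) : A →ₗc[k] A ⧸ augIdeal ψ) cV) := ⟨_, rfl⟩
  have hmemW : ∀ v, v ∈ W ↔ LinearMap.lTensor V (Ideal.Quotient.mkₐ k (augIdeal ψ)).toLinearMap
      (cV.coact v) = v ⊗ₜ[k] (1 : A ⧸ augIdeal ψ) := by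
    intro v
    rw [hWdef]
    exact Iff.rfl
  have hWne : W ≠ ⊥ := by
    rw [hWdef]
    exact hfix
  have hWsub : HopfRep.IsSubcomod (k := k) (A := A) W :=
    PointAct9.isSubcomod_fixed_of_normal (augIdeal ψ) (normal_augIdeal ψ) W hmemW
  have hWfin : Module.Finite k W := inferInstance
  have hWnt : Nontrivial W := Submodule.nontrivial_iff_ne_bot.mpr hWne
  have hcoefW : ∀ (l : Module.Dual k W) (w : W),
      cf (ComodSub.Comod.restr cV W hWsub) l w ∈ (ψ : C →ₐ[k] A).range := by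
    intro l w
    apply mem_range_of_coinv ψ
    have hw : LinearMap.lTensor W (Ideal.Quotient.mkₐ k (augIdeal ψ)).toLinearMap
        ((ComodSub.Comod.restr cV W hWsub).coact w) = w ⊗ₜ[k] 1 := by
      have hinj : Function.Injective (W.subtype.rTensor (A ⧸ augIdeal ψ)) :=
        Module.Flat.rTensor_preserves_injective_linearMap _ W.injective_subtype
      apply hinj
      rw [← ComodTens.lTensor_rTensor_comm, ComodSub.restr_coact_coe, LinearMap.rTensor_tmul,
        Submodule.subtype_apply]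
      exact (hmemW w).mp w.2
    rw [comul_cf, ComodTens.lTensor_rTensor_comm, hw, LinearMap.rTensor_tmul]
  have hrange : ∀ w : W, (ComodSub.Comod.restr cV W hWsub).coact w ∈
      LinearMap.range (((ψ : C →ₗc[k] A) : C →ₗ[k] A).lTensor W) := by
    intro w
    choose b hb using fun i =>
      (AlgHom.mem_range _).mp (hcoefW ((Module.finBasis k W).coord i) w)
    refine ⟨∑ i, (Module.finBasis k W) i ⊗ₜ[k] b i, ?_⟩
    rw [map_sum, ← sum_coef (Module.finBasis k W) ((ComodSub.Comod.restr cV W hWsub).coact w)]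
    refine Finset.sum_congr rfl fun i _ => ?_
    rw [LinearMap.lTensor_tmul]
    congr 1
    exact hb i
  obtain ⟨c, hc⟩ := exists_comod_of_range (ψ : C →ₗc[k] A) hψ
    (ComodSub.Comod.restr cV W hWsub) hrange
  have hfixC := @hC W _ _ c hWfin hWnt
  obtain ⟨w, hw, hw0⟩ := (Submodule.ne_bot_iff _).mp hfixC
  have hw1 : c.coact w = w ⊗ₜ[k] (1 : C) := hw
  have hw2 : (ComodSub.Comod.restr cV W hWsub).coact w = w ⊗ₜ[k] (1 : A) := by
    rw [← hc w, hw1, LinearMap.lTensor_tmul]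
    congr 1
    exact map_one ψ
  have hw3 : cV.coact (w : V) = (w : V) ⊗ₜ[k] (1 : A) := by
    rw [← ComodSub.restr_coact_coe cV W hWsub w, hw2, LinearMap.rTensor_tmul,
      Submodule.subtype_apply]
  intro hbot
  have hmem : (w : V) ∈ HopfRep.fixedPts k A V := hw3
  rw [hbot] at hmem
  exact hw0 (Subtype.ext ((Submodule.mem_bot k).mp hmem))

end Ext

section Sub

variable {k : Type u} [Field k] {A : Type u} [CommRing A] [HopfAlgebra k A]

/-- a Hopf subalgebra `B₁` whose image in `A / B₀⁺A` lies in a unipotent Hopf subalgebra `C`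
is unipotent when `B₀` is -/
theorem isUnipotent_sub_of_image_le (B₀ : Subalgebra k A) [IsHopfSub B₀]
    (hU₀ : HopfRep.IsUnipotent k ↥B₀)
    (C : Subalgebra k (A ⧸ augIdeal (subVal B₀))) [IsHopfSub C] (hCU : HopfRep.IsUnipotent k ↥C)
    (B₁ : Subalgebra k A) [IsHopfSub B₁]
    (h : ∀ b ∈ B₁, Ideal.Quotient.mk (augIdeal (subVal B₀)) b ∈ C) :
    HopfRep.IsUnipotent k ↥B₁ := by
  intro V _ _ cV hfin hnt
  haveI := hfin
  have hrange : ∀ v : V, (comodPush ((Bialgebra.Quotient.mkBialgHom (augIdeal (subVal B₀)) :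
      A →ₐc[k] A ⧸ augIdeal (subVal B₀)) : A →ₗc[k] A ⧸ augIdeal (subVal B₀))
      (comodPush (subVal B₁ : ↥B₁ →ₗc[k] A) cV)).coact v ∈
      LinearMap.range (((subVal C : ↥C →ₗc[k] A ⧸ augIdeal (subVal B₀)) :
        ↥C →ₗ[k] A ⧸ augIdeal (subVal B₀)).lTensor V) := by
    intro v
    rw [comodPush_coact, comodPush_coact, ← LinearMap.lTensor_comp_apply]
    have hfac : (((Bialgebra.Quotient.mkBialgHom (augIdeal (subVal B₀)) :
        A →ₐc[k] A ⧸ augIdeal (subVal B₀)) : A →ₗc[k] A ⧸ augIdeal (subVal B₀)) :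
          A →ₗ[k] A ⧸ augIdeal (subVal B₀)) ∘ₗ ((subVal B₁ : ↥B₁ →ₗc[k] A) : ↥B₁ →ₗ[k] A) =
        ((subVal C : ↥C →ₗc[k] A ⧸ augIdeal (subVal B₀)) :
          ↥C →ₗ[k] A ⧸ augIdeal (subVal B₀)) ∘ₗ
        ((((Bialgebra.Quotient.mkBialgHom (augIdeal (subVal B₀)) :
          A →ₐc[k] A ⧸ augIdeal (subVal B₀)) : A →ₐ[k] A ⧸ augIdeal (subVal B₀)).comp
            B₁.val).codRestrict C (fun b => h b b.2)).toLinearMap := by
      apply LinearMap.ext
      intro b
      rfl
    rw [hfac, LinearMap.lTensor_comp_apply]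
    exact ⟨_, rfl⟩
  obtain ⟨cC, hcC⟩ := exists_comod_of_range (subVal C : ↥C →ₗc[k] A ⧸ augIdeal (subVal B₀))
    Subtype.val_injective _ hrange
  have hfixC := @hCU V _ _ cC hfin hnt
  obtain ⟨v, hv, hv0⟩ := (Submodule.ne_bot_iff _).mp hfixC
  have hv1 : cC.coact v = v ⊗ₜ[k] (1 : ↥C) := hv
  have hfixD : @HopfRep.fixedPts k (A ⧸ augIdeal (subVal B₀)) _ _ _ V _ _
      (comodPush ((Bialgebra.Quotient.mkBialgHom (augIdeal (subVal B₀)) :
        A →ₐc[k] A ⧸ augIdeal (subVal B₀)) : A →ₗc[k] A ⧸ augIdeal (subVal B₀))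
        (comodPush (subVal B₁ : ↥B₁ →ₗc[k] A) cV)) ≠ ⊥ := by
    intro hbot
    have hmem : v ∈ @HopfRep.fixedPts k (A ⧸ augIdeal (subVal B₀)) _ _ _ V _ _
        (comodPush ((Bialgebra.Quotient.mkBialgHom (augIdeal (subVal B₀)) :
          A →ₐc[k] A ⧸ augIdeal (subVal B₀)) : A →ₗc[k] A ⧸ augIdeal (subVal B₀))
          (comodPush (subVal B₁ : ↥B₁ →ₗc[k] A) cV)) := by
      show (comodPush ((Bialgebra.Quotient.mkBialgHom (augIdeal (subVal B₀)) :
          A →ₐc[k] A ⧸ augIdeal (subVal B₀)) : A →ₗc[k] A ⧸ augIdeal (subVal B₀))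
          (comodPush (subVal B₁ : ↥B₁ →ₗc[k] A) cV)).coact v = v ⊗ₜ[k] 1
      rw [← hcC v, hv1, LinearMap.lTensor_tmul]
      rfl
    rw [hbot] at hmem
    exact hv0 ((Submodule.mem_bot k).mp hmem)
  have hfixA := fixedPts_ne_bot_of_extension (subVal B₀) Subtype.val_injective hU₀
    (comodPush (subVal B₁ : ↥B₁ →ₗc[k] A) cV) hfixD
  obtain ⟨w, hw, hw0⟩ := (Submodule.ne_bot_iff _).mp hfixA
  have h1 : ((subVal B₁ : ↥B₁ →ₗc[k] A) : ↥B₁ →ₗ[k] A).lTensor V (cV.coact w) =
      w ⊗ₜ[k] (1 : A) := hw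
  have hinj : Function.Injective (((subVal B₁ : ↥B₁ →ₗc[k] A) : ↥B₁ →ₗ[k] A).lTensor V) :=
    Module.Flat.lTensor_preserves_injective_linearMap _ Subtype.val_injective
  have h2 : cV.coact w = w ⊗ₜ[k] (1 : ↥B₁) := by
    apply hinj
    rw [h1, LinearMap.lTensor_tmul]
    rfl
  intro hbot
  have hmem : w ∈ HopfRep.fixedPts k ↥B₁ V := h2
  rw [hbot] at hmem
  exact hw0 ((Submodule.mem_bot k).mp hmem)

end Sub

section Max

variable {k : Type u} [Field k] {A : Type u} [CommRing A] [HopfAlgebra k A]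

theorem exists_bigger [Coalgebra.IsCocomm k A] (B₀ : Subalgebra k A) [IsHopfSub B₀]
    (hU₀ : HopfRep.IsUnipotent k ↥B₀) (x : A ⧸ augIdeal (subVal B₀)) (hx0 : x ≠ 0)
    (hx : CoalgebraStruct.comul (R := k) x =
      x ⊗ₜ[k] (1 : A ⧸ augIdeal (subVal B₀)) + (1 : A ⧸ augIdeal (subVal B₀)) ⊗ₜ[k] x) :
    ∃ (B₁ : Subalgebra k A) (_ : IsHopfSub B₁), HopfRep.IsUnipotent k ↥B₁ ∧
      augIdeal (subVal B₀) < augIdeal (subVal B₁) := by
  haveI hCH : IsHopfSub (Algebra.adjoin k {x}) := isHopfSub_adjoin_primitive x hx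
  have hCU : HopfRep.IsUnipotent k ↥(Algebra.adjoin k {x}) := isUnipotent_adjoin_sub x hx
  obtain ⟨φ, hφ⟩ : ∃ φ : A →ₐc[k]
      (A ⧸ augIdeal (subVal B₀)) ⧸ augIdeal (subVal (Algebra.adjoin k {x})),
      ∀ a, φ a = Ideal.Quotient.mk (augIdeal (subVal (Algebra.adjoin k {x})))
        (Ideal.Quotient.mk (augIdeal (subVal B₀)) a) :=
    ⟨(Bialgebra.Quotient.mkBialgHom (augIdeal (subVal (Algebra.adjoin k {x})))).comp
      (Bialgebra.Quotient.mkBialgHom (augIdeal (subVal B₀))), fun a => rfl⟩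
  have hφsurj : Function.Surjective (φ : A →ₐ[k]
      (A ⧸ augIdeal (subVal B₀)) ⧸ augIdeal (subVal (Algebra.adjoin k {x}))) := by
    intro z
    obtain ⟨d, rfl⟩ := Ideal.Quotient.mk_surjective z
    obtain ⟨a, rfl⟩ := Ideal.Quotient.mk_surjective d
    exact ⟨a, hφ a⟩
  have hn : Nrm φ := nrm_of_cocomm φ
  have hB₁ := coinvR_isHopfSubalgebra hn hφsurj
  haveI hB₁' : IsHopfSub (coinvR φ) := isHopfSub_of_sga3 hB₁
  have hker := ker_eq_span hφsurj hn
  have haug : augIdeal (subVal (coinvR φ)) = RingHom.ker (φ : A →ₐ[k]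
      (A ⧸ augIdeal (subVal B₀)) ⧸ augIdeal (subVal (Algebra.adjoin k {x}))) := by
    rw [augIdeal_subVal_eq, hker]
  refine ⟨coinvR φ, hB₁', ?_, ?_⟩
  · apply isUnipotent_sub_of_image_le B₀ hU₀ (Algebra.adjoin k {x}) hCU (coinvR φ)
    intro b hb
    have hb' := (mem_coinvR φ).mp hb
    rw [rhoR_eq, AlgHom.comp_apply, Bialgebra.comulAlgHom_apply] at hb'
    have hmem := mem_range_of_coinv (subVal (Algebra.adjoin k {x}))
      (Ideal.Quotient.mk (augIdeal (subVal B₀)) b) (by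
        have h1 : CoalgebraStruct.comul (R := k) (Ideal.Quotient.mk (augIdeal (subVal B₀)) b) =
            TensorProduct.map
              (Ideal.Quotient.mkₐ k (augIdeal (subVal B₀))).toLinearMap
              (Ideal.Quotient.mkₐ k (augIdeal (subVal B₀))).toLinearMap
              (CoalgebraStruct.comul (R := k) b) :=
          (CoalgHomClass.map_comp_comul_apply
            (Bialgebra.Quotient.mkBialgHom (augIdeal (subVal B₀)) :
              A →ₐc[k] A ⧸ augIdeal (subVal B₀)) b).symm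
        rw [h1]
        have h2 : ∀ t : A ⊗[k] A,
            LinearMap.lTensor (A ⧸ augIdeal (subVal B₀))
              (Ideal.Quotient.mkₐ k (augIdeal (subVal (Algebra.adjoin k {x})))).toLinearMap
              (TensorProduct.map
                (Ideal.Quotient.mkₐ k (augIdeal (subVal B₀))).toLinearMap
                (Ideal.Quotient.mkₐ k (augIdeal (subVal B₀))).toLinearMap t) =
            LinearMap.rTensor _ (Ideal.Quotient.mkₐ k (augIdeal (subVal B₀))).toLinearMap
              ((Algebra.TensorProduct.map (AlgHom.id k A) (φ : A →ₐ[k]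
                (A ⧸ augIdeal (subVal B₀)) ⧸ augIdeal (subVal (Algebra.adjoin k {x})))) t) := by
          intro t
          induction t using TensorProduct.induction_on with
          | zero => simp
          | add x y hx hy => simp only [map_add, hx, hy]
          | tmul a a' =>
            rw [TensorProduct.map_tmul, LinearMap.lTensor_tmul, Algebra.TensorProduct.map_tmul,
              LinearMap.rTensor_tmul]
            congr 1
            exact (hφ a').symm
        rw [h2]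
        have hb'' : (Algebra.TensorProduct.map (AlgHom.id k A) (φ : A →ₐ[k]
            (A ⧸ augIdeal (subVal B₀)) ⧸ augIdeal (subVal (Algebra.adjoin k {x}))))
            (CoalgebraStruct.comul (R := k) b) = b ⊗ₜ[k] 1 := hb'
        rw [hb'', LinearMap.rTensor_tmul]
        rfl)
    obtain ⟨c, hc⟩ := (AlgHom.mem_range _).mp hmem
    rw [← hc]
    exact c.2
  · rw [haug, SetLike.lt_iff_le_and_exists]
    have hεx : CoalgebraStruct.counit (R := k) x = 0 := counit_of_primitive x hx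
    have hxJ : x ∈ augIdeal (subVal (Algebra.adjoin k {x})) := by
      have h1 := sub_counit_mem_augIdeal (subVal (Algebra.adjoin k {x}))
        (⟨x, Algebra.subset_adjoin rfl⟩ : ↥(Algebra.adjoin k {x}))
      have h2 : Coalgebra.counit (R := k)
          (⟨x, Algebra.subset_adjoin rfl⟩ : ↥(Algebra.adjoin k {x})) = 0 := by
        have h3 := CoalgHomClass.counit_comp_apply (subVal (Algebra.adjoin k {x}))
          (⟨x, Algebra.subset_adjoin rfl⟩ : ↥(Algebra.adjoin k {x}))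
        rw [← h3]
        exact hεx
      rw [h2, map_zero, sub_zero] at h1
      exact h1
    constructor
    · intro a ha
      rw [RingHom.mem_ker]
      show φ a = 0
      rw [hφ, Ideal.Quotient.eq_zero_iff_mem.mpr ha, map_zero]
    · obtain ⟨a, rfl⟩ := Ideal.Quotient.mk_surjective x
      refine ⟨a, ?_, fun ha => hx0 (Ideal.Quotient.eq_zero_iff_mem.mpr ha)⟩
      rw [RingHom.mem_ker]
      show φ a = 0
      rw [hφ]
      exact Ideal.Quotient.eq_zero_iff_mem.mpr hxJ

theorem exists_max_unipotent [Coalgebra.IsCocomm k A] [IsNoetherianRing A] :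
    ∃ (B₀ : Subalgebra k A) (_ : IsHopfSub B₀), HopfRep.IsUnipotent k ↥B₀ ∧
      ∀ f : A ⧸ augIdeal (subVal B₀), CoalgebraStruct.comul (R := k) f =
        f ⊗ₜ[k] (1 : A ⧸ augIdeal (subVal B₀)) + (1 : A ⧸ augIdeal (subVal B₀)) ⊗ₜ[k] f →
        f = 0 := by
  have hne : {J : Ideal A | ∃ (B : Subalgebra k A) (_ : IsHopfSub B),
      HopfRep.IsUnipotent k ↥B ∧ J = augIdeal (subVal B)}.Nonempty := by
    have h0 : CoalgebraStruct.comul (R := k) (0 : A) = (0 : A) ⊗ₜ[k] (1 : A) + (1 : A) ⊗ₜ[k] (0 : A) := by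
      simp
    haveI : IsHopfSub (Algebra.adjoin k {(0 : A)}) := isHopfSub_adjoin_primitive 0 h0
    exact ⟨_, Algebra.adjoin k {(0 : A)}, inferInstance, isUnipotent_adjoin_sub 0 h0, rfl⟩
  obtain ⟨J₀, ⟨B₀, hB₀, hU₀, rfl⟩, hmax⟩ :=
    (set_has_maximal_iff_noetherian (R := A) (M := A)).mpr inferInstance _ hne
  refine ⟨B₀, hB₀, hU₀, ?_⟩
  intro f hf
  by_contra hf0
  obtain ⟨B₁, hB₁, hU₁, hlt⟩ := exists_bigger B₀ hU₀ f hf0 hf
  exact hmax _ ⟨B₁, hB₁, hU₁, rfl⟩ hlt

end Max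

theorem s4130 (k : Type u) [Field k]
    (A : Type u) [CommRing A] [HopfAlgebra k A] [Algebra.FiniteType k A] [Coalgebra.IsCocomm k A] :
    ∃ (J : Ideal A) (_ : J.IsHopfIdeal k), SGA3b.IsMultTypeConst k (A ⧸ J) ∧
      (∀ (I : Ideal A) [I.IsHopfIdeal k], SGA3b.IsMultTypeConst k (A ⧸ I) → J ≤ I) ∧
      ∃ (B : Type u) (_ : CommRing B) (_ : HopfAlgebra k B) (φ : B →ₐc[k] A), Function.Injective φ ∧
        J = Ideal.map (φ : B →+* A) (RingHom.ker (Bialgebra.counitAlgHom k B)) ∧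
        HopfRep.IsUnipotent k B := by
  haveI : IsNoetherianRing A := Algebra.FiniteType.isNoetherianRing k A
  obtain ⟨B₀, hB₀, hU₀, hnp⟩ := exists_max_unipotent (k := k) (A := A)
  refine ⟨augIdeal (subVal B₀), augIdeal_isHopfIdeal (subVal B₀), ?_, ?_,
    ↥B₀, inferInstance, inferInstance, subVal B₀, Subtype.val_injective, rfl, hU₀⟩
  · haveI : Coalgebra.IsCocomm k (A ⧸ augIdeal (subVal B₀)) :=
      isCocomm_of_surjective (Bialgebra.Quotient.mkBialgHom (augIdeal (subVal B₀)))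
        (mkBialgHom_surjective (k := k) (augIdeal (subVal B₀)))
    have hD : HopfRep.IsDiagonalizable (AlgebraicClosure k)
        (AlgebraicClosure k ⊗[k] (A ⧸ augIdeal (subVal B₀))) :=
      (s7979 k (A ⧸ augIdeal (subVal B₀))).mpr ⟨inferInstance, hnp⟩
    exact ⟨AlgebraicClosure k, inferInstance, inferInstance, inferInstance,
      isDiag_of_sp _ _ hD⟩
  · intro I _ hI
    have hnpI := primitive_eq_zero_of_isMultTypeConst (k := k) (A ⧸ I) hI
    obtain ⟨θ, hθ⟩ : ∃ θ : ↥B₀ →ₐc[k] A ⧸ I, ∀ b : ↥B₀, θ b = Ideal.Quotient.mk I (b : A) :=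
      ⟨(Bialgebra.Quotient.mkBialgHom I).comp (subVal B₀), fun b => rfl⟩
    haveI hKH : (RingHom.ker (θ : ↥B₀ →+* A ⧸ I)).IsHopfIdeal k := ker_isHopfIdeal θ
    have hK : RingHom.ker (θ : ↥B₀ →+* A ⧸ I) = RingHom.ker (Bialgebra.counitAlgHom k ↥B₀) := by
      by_contra hne
      obtain ⟨y, hy0, hy⟩ := forall_primitive_of_isUnipotent hU₀ _ hne
      have hker : ∀ b ∈ RingHom.ker (θ : ↥B₀ →+* A ⧸ I), θ b = 0 := fun b hb => hb
      have h1 := hnpI _ (primitive_map (CoordGrp.quotBialgHom k _ θ hker) y hy)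
      obtain ⟨b, rfl⟩ := Ideal.Quotient.mk_surjective y
      rw [CoordGrp.quotBialgHom_mk] at h1
      exact hy0 (Ideal.Quotient.eq_zero_iff_mem.mpr h1)
    rw [augIdeal, Ideal.map_le_iff_le_comap]
    intro b hb
    rw [← hK] at hb
    have h2 : θ b = 0 := hb
    rw [hθ] at h2
    rw [Ideal.mem_comap]
    exact Ideal.Quotient.eq_zero_iff_mem.mp h2

end MultMaxH1
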