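import Mathlib
import Groth.Prelude.Def_SGA3b
import Groth.Agent.Lib.MultTors_helper1
import Groth.Agent.Lib.MultQuot_helper1
import Groth.Agent.Lib.DiagSub_helper1

set_option autoImplicit false
set_option maxHeartbeats 1000000

/-!
# Closed subgroups of groups of multiplicative type over a local base with trivial closed fibre
(helper1)
-/

namespace MultSubH1

open TensorProduct SGA3b MultFinH1 MultDenseH1 MultTorsH1 Groth.Agent.Lib.MultQuotH1

universe u

section AlgEquiv

theorem exists_algEquiv_of_ker_eq {S X Y₁ Y₂ : Type*} [CommRing S] [CommRing X] [CommRing Y₁]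
    [CommRing Y₂] [Algebra S X] [Algebra S Y₁] [Algebra S Y₂]
    (p₁ : X →ₐ[S] Y₁) (p₂ : X →ₐ[S] Y₂) (h₁ : Function.Surjective p₁)
    (h₂ : Function.Surjective p₂) (hker : ∀ x, p₁ x = 0 ↔ p₂ x = 0) :
    Nonempty (Y₁ ≃ₐ[S] Y₂) := by
  have hk : RingHom.ker p₁ = RingHom.ker p₂ := by
    ext x
    rw [RingHom.mem_ker, RingHom.mem_ker]
    exact hker x
  exact ⟨(Ideal.quotientKerAlgEquivOfSurjective h₁).symm.trans
    ((Ideal.quotientEquivAlgOfEq S hk).trans (Ideal.quotientKerAlgEquivOfSurjective h₂))⟩

end AlgEquiv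

section Fin

variable (R : Type u) [CommRing R] (A : Type u) [CommRing A] [HopfAlgebra R A]

theorem finite_quot_torsion (hft : Algebra.FiniteType R A) (h : IsMultType R A) (n : ℕ)
    (hn : 0 < n) : Module.Finite R (A ⧸ torsionIdeal R A n) := by
  obtain ⟨s, hs, hconst⟩ := h
  obtain ⟨t, hts, ht⟩ := (Ideal.span_eq_top_iff_finite s).mp hs
  have hloc : ∀ f ∈ s, Module.Finite (Localization.Away f)
      (Localization.Away f ⊗[R] (A ⧸ torsionIdeal R A n)) := by
    intro f hf
    obtain ⟨R', _, _, hff, M, _, ⟨θ⟩⟩ := hconst f hf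
    haveI := hff
    rcases subsingleton_or_nontrivial R' with hsub | hnt
    · haveI : Subsingleton (Localization.Away f) :=
        (FaithfulSMul.algebraMap_injective (Localization.Away f) R').subsingleton
      haveI : Subsingleton (Localization.Away f ⊗[R] (A ⧸ torsionIdeal R A n)) :=
        Module.subsingleton (Localization.Away f) _
      exact Module.Finite.of_finite
    · haveI := hft
      haveI : Algebra.FiniteType R' (R' ⊗[Localization.Away f] (Localization.Away f ⊗[R] A)) :=
        inferInstance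
      have h3 : Algebra.FiniteType R' (MonoidAlgebra R' M) :=
        Algebra.FiniteType.equiv inferInstance θ.toAlgEquiv
      haveI : Group.FG M := MonoidAlgebra.finiteType_iff_group_fg.mp h3
      haveI : Finite (M ⧸ Hn M n) := CommGroup.finite_of_fg_isMulTorsion (M ⧸ Hn M n)
        (fun c => by
          obtain ⟨m, rfl⟩ := QuotientGroup.mk'_surjective (Hn M n) c
          refine isOfFinOrder_iff_pow_eq_one.mpr ⟨n, hn, ?_⟩
          rw [← map_pow]
          exact (QuotientGroup.eq_one_iff _).mpr ⟨m, rfl⟩)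
      haveI : Module.Finite R' (MonoidAlgebra R' (M ⧸ Hn M n)) :=
        Module.Finite.of_basis (MonoidAlgebra.basis (M ⧸ Hn M n) R')
      let q : (Localization.Away f ⊗[R] A) →ₐ[Localization.Away f]
          (Localization.Away f ⊗[R] (A ⧸ torsionIdeal R A n)) :=
        Algebra.TensorProduct.map (AlgHom.id _ _) (Ideal.Quotient.mkₐ R (torsionIdeal R A n))
      let q₁ : R' ⊗[Localization.Away f] (Localization.Away f ⊗[R] A) →ₐ[R']
          R' ⊗[Localization.Away f] (Localization.Away f ⊗[R] (A ⧸ torsionIdeal R A n)) :=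
        Algebra.TensorProduct.map (AlgHom.id R' R') q
      let p₂ : R' ⊗[Localization.Away f] (Localization.Away f ⊗[R] A) →ₐ[R']
          MonoidAlgebra R' (M ⧸ Hn M n) :=
        (piN R' M n).comp
          ((θ : R' ⊗[Localization.Away f] (Localization.Away f ⊗[R] A) →ₐc[R'] MonoidAlgebra R' M) :
            R' ⊗[Localization.Away f] (Localization.Away f ⊗[R] A) →ₐ[R'] MonoidAlgebra R' M)
      have hq : Function.Surjective q := by
        intro y
        induction y using TensorProduct.induction_on with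
        | zero => exact ⟨0, map_zero _⟩
        | add y z hy hz =>
          obtain ⟨y', rfl⟩ := hy
          obtain ⟨z', rfl⟩ := hz
          exact ⟨y' + z', map_add _ _ _⟩
        | tmul t b =>
          obtain ⟨a, rfl⟩ := Ideal.Quotient.mk_surjective b
          exact ⟨t ⊗ₜ[R] a, rfl⟩
      have hq₁ : Function.Surjective q₁ := by
        intro y
        induction y using TensorProduct.induction_on with
        | zero => exact ⟨0, map_zero _⟩
        | add y z hy hz =>
          obtain ⟨y', rfl⟩ := hy
          obtain ⟨z', rfl⟩ := hz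
          exact ⟨y' + z', map_add _ _ _⟩
        | tmul t w =>
          obtain ⟨w', rfl⟩ := hq w
          exact ⟨t ⊗ₜ[Localization.Away f] w', rfl⟩
      have hp₂ : Function.Surjective p₂ := by
        intro y
        induction y using MonoidAlgebra.induction_linear with
        | zero => exact ⟨0, map_zero _⟩
        | add y z hy hz =>
          obtain ⟨y', rfl⟩ := hy
          obtain ⟨z', rfl⟩ := hz
          exact ⟨y' + z', map_add _ _ _⟩
        | single c r =>
          obtain ⟨m, rfl⟩ := QuotientGroup.mk'_surjective (Hn M n) c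
          refine ⟨θ.symm (MonoidAlgebra.single m r), ?_⟩
          show piN R' M n (θ (θ.symm (MonoidAlgebra.single m r))) = _
          rw [θ.apply_symm_apply]
          show MonoidAlgebra.mapDomain (QuotientGroup.mk' (Hn M n)) (MonoidAlgebra.single m r) = _
          rw [MonoidAlgebra.mapDomain_single]
      have hk1 : RingHom.ker q = (torsionIdeal R A n).map (Algebra.TensorProduct.includeRight :
          A →ₐ[R] Localization.Away f ⊗[R] A) := by
        have h1 := Algebra.TensorProduct.lTensor_ker (A := Localization.Away f)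
          (Ideal.Quotient.mkₐ R (torsionIdeal R A n))
          (Ideal.Quotient.mkₐ_surjective R (torsionIdeal R A n))
        have hker : RingHom.ker (Ideal.Quotient.mkₐ R (torsionIdeal R A n)) =
            torsionIdeal R A n := by
          ext x
          rw [RingHom.mem_ker]
          exact Ideal.Quotient.eq_zero_iff_mem
        rw [hker] at h1
        rw [← h1]
        rfl
      have hk2 : ∀ x, q₁ x = 0 ↔ x ∈ Tee R A (Localization.Away f) R' n := by
        intro x
        have h1 := Algebra.TensorProduct.lTensor_ker (A := R') q hq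
        rw [hk1] at h1
        unfold Tee
        rw [← h1, RingHom.mem_ker]
        rfl
      have hker : ∀ x, q₁ x = 0 ↔ p₂ x = 0 := fun x => (hk2 x).trans (kerEq θ n x)
      obtain ⟨ψ⟩ := @exists_algEquiv_of_ker_eq R'
        (R' ⊗[Localization.Away f] (Localization.Away f ⊗[R] A))
        (R' ⊗[Localization.Away f] (Localization.Away f ⊗[R] (A ⧸ torsionIdeal R A n)))
        (MonoidAlgebra R' (M ⧸ Hn M n)) _ _ _ _ _ _ _ q₁ p₂ hq₁ hp₂ hker
      haveI : Module.Finite R'
          (R' ⊗[Localization.Away f] (Localization.Away f ⊗[R] (A ⧸ torsionIdeal R A n))) :=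
        Module.Finite.equiv ψ.symm.toLinearEquiv
      exact Module.Finite.of_finite_tensorProduct_of_faithfullyFlat R'
  haveI : ∀ g : t, IsLocalizedModule.Away g.val
      (TensorProduct.mk R (Localization.Away g.val) (A ⧸ torsionIdeal R A n) 1) := fun g =>
    (isLocalizedModule_iff_isBaseChange (Submonoid.powers g.val) (Localization.Away g.val) _).mpr
      (TensorProduct.isBaseChange R (A ⧸ torsionIdeal R A n) (Localization.Away g.val))
  exact Module.Finite.of_localizationSpan_finite' t ht
    (fun g => TensorProduct.mk R (Localization.Away g.val) (A ⧸ torsionIdeal R A n) 1)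
    (fun g => hloc g.val (hts (Finset.mem_coe.mpr g.2)))

theorem counit_powConv (n : ℕ) (a : A) :
    Coalgebra.counit (R := R) (powConv R A n a) = Coalgebra.counit (R := R) a := by
  have h1 := MultFinH1.comp_pow (Bialgebra.counitAlgHom R A) (WithConv.toConv (AlgHom.id R A)) n
  have h2 : WithConv.toConv ((Bialgebra.counitAlgHom R A).comp
      (WithConv.toConv (AlgHom.id R A)).ofConv) = (1 : WithConv (A →ₐ[R] R)) := by
    apply WithConv.ofConv_injective
    apply AlgHom.ext
    intro x
    rfl
  rw [h2, one_pow] at h1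
  exact AlgHom.congr_fun h1 a

theorem torsion_le_aug (n : ℕ) :
    torsionIdeal R A n ≤ RingHom.ker (Bialgebra.counitAlgHom R A) := by
  unfold torsionIdeal
  rw [Ideal.map_le_iff_le_comap]
  intro z hz
  rw [Ideal.mem_comap, RingHom.mem_ker, Bialgebra.counitAlgHom_apply, counit_powConv]
  exact hz

end Fin

section Absorb

/-- `e` acts as the identity on the augmentation ideal -/
def Absorbs (S B : Type u) [CommRing S] [CommRing B] [HopfAlgebra S B] (e : B) : Prop :=
  ∀ b : B, e * (b - algebraMap S B (Coalgebra.counit (R := S) b)) =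
    b - algebraMap S B (Coalgebra.counit (R := S) b)

variable {S T B : Type u} [CommRing S] [CommRing T] [Algebra S T] [CommRing B] [HopfAlgebra S B]

theorem absorbs_baseChange {e : B} (he : Absorbs S B e) :
    Absorbs T (T ⊗[S] B) ((1 : T) ⊗ₜ[S] e) := by
  intro z
  induction z using TensorProduct.induction_on with
  | zero => simp
  | add x y hx hy => rw [map_add, map_add, add_sub_add_comm, mul_add, hx, hy]
  | tmul t b =>
    have h0 : t ⊗ₜ[S] b = t • ((1 : T) ⊗ₜ[S] b) := by
      rw [TensorProduct.smul_tmul', smul_eq_mul, mul_one]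
    have h1 : algebraMap T (T ⊗[S] B) (Coalgebra.counit (R := T) (t ⊗ₜ[S] b)) =
        t ⊗ₜ[S] algebraMap S B (Coalgebra.counit (R := S) b) := by
      rw [h0, map_smul, smul_eq_mul, map_mul, ← Algebra.smul_def, one_tmul_algebraMap,
        TensorProduct.smul_tmul', smul_eq_mul, mul_one]
    rw [h1, ← TensorProduct.tmul_sub, Algebra.TensorProduct.tmul_mul_tmul, one_mul, he b]

theorem absorbs_equiv {X Y : Type u} [CommRing X] [CommRing Y] [HopfAlgebra S X]
    [HopfAlgebra S Y] (ζ : X ≃ₐc[S] Y) {e : X} (he : Absorbs S X e) : Absorbs S Y (ζ e) := by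
  intro y
  obtain ⟨x, rfl⟩ := EquivLike.surjective ζ y
  have h1 : Coalgebra.counit (R := S) (ζ x) = Coalgebra.counit (R := S) x :=
    CoalgHomClass.counit_comp_apply ζ x
  rw [h1, ← AlgHomClass.commutes ζ (Coalgebra.counit (R := S) x), ← map_sub, ← map_mul, he x]

theorem sp_baseChange (K : Type u) [CommRing K] [Algebra S K] (h : Sp S B) :
    Sp K (K ⊗[S] B) := by
  unfold Sp at *
  have key : ∀ b : B, (1 : K) ⊗ₜ[S] b ∈
      Submodule.span K {a : K ⊗[S] B | IsGroupLikeElem K a} := by
    intro b
    have hb : b ∈ Submodule.span S {a : B | IsGroupLikeElem S a} := by rw [h]; trivial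
    induction hb using Submodule.span_induction with
    | mem x hx => exact Submodule.subset_span (DiagSubH1.groupLike_baseChange hx)
    | zero => rw [TensorProduct.tmul_zero]; exact zero_mem _
    | add x y _ _ hx hy => rw [TensorProduct.tmul_add]; exact add_mem hx hy
    | smul r x _ hx =>
      rw [TensorProduct.tmul_smul, ← algebraMap_smul K r ((1 : K) ⊗ₜ[S] x)]
      exact Submodule.smul_mem _ _ hx
  rw [Submodule.eq_top_iff']
  intro z
  induction z using TensorProduct.induction_on with
  | zero => exact zero_mem _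
  | add y z hy hz => exact add_mem hy hz
  | tmul c b =>
    have h0 : c ⊗ₜ[S] b = c • ((1 : K) ⊗ₜ[S] b) := by
      rw [TensorProduct.smul_tmul', smul_eq_mul, mul_one]
    rw [h0]
    exact Submodule.smul_mem _ _ (key b)

end Absorb

section Field

theorem field_step {S' B' : Type u} [CommRing S'] [CommRing B'] [HopfAlgebra S' B']
    (hft : Algebra.FiniteType S' B') (hsp : Sp S' B') (e' : B')
    (he0 : Coalgebra.counit (R := S') e' = 0) (he : Absorbs S' B' e')
    (htor : ∀ n : ℕ, 0 < n → e' ∈ torsionIdeal S' B' n)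
    (K : Type u) [Field K] [Algebra S' K] (β : B' →ₐ[S'] K) : β e' = 0 := by
  classical
  have hspK : Sp K (K ⊗[S'] B') := sp_baseChange K hsp
  obtain ⟨Q, _, ⟨ζ⟩⟩ := isDiag_of_sp K (K ⊗[S'] B') hspK
  haveI := hft
  haveI : Algebra.FiniteType K (K ⊗[S'] B') := inferInstance
  have h3 : Algebra.FiniteType K (MonoidAlgebra K Q) :=
    Algebra.FiniteType.equiv inferInstance ζ.toAlgEquiv
  haveI : Group.FG Q := MonoidAlgebra.finiteType_iff_group_fg.mp h3
  have habs : Absorbs K (MonoidAlgebra K Q) (ζ ((1 : K) ⊗ₜ[S'] e')) :=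
    absorbs_equiv ζ (absorbs_baseChange he)
  have htorQ : ∀ n : ℕ, 0 < n → piN K Q n (ζ ((1 : K) ⊗ₜ[S'] e')) = 0 := by
    intro n hn
    have h1 : (1 : K) ⊗ₜ[S'] e' ∈ torsionIdeal K (K ⊗[S'] B') n := push_baseChange n e' (htor n hn)
    have h2 := push_equiv (ζ : K ⊗[S'] B' →ₐc[K] MonoidAlgebra K Q) n _ h1
    exact torsion_le_ker n h2
  have hQ : ∀ q : Q, q = 1 := by
    intro q
    obtain ⟨n, hn, -, hinj⟩ := exists_injOn Q 0 (Or.inl rfl)
      (fun h => absurd h Nat.not_prime_zero) {q, 1}
    have h1 : piN K Q n (MonoidAlgebra.single q (1 : K) - 1) = 0 := by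
      have h2 := habs (MonoidAlgebra.single q (1 : K))
      rw [(MonoidAlgebra.isGroupLikeElem_single_one (R := K) (A := K) q).counit_eq_one,
        map_one] at h2
      rw [← h2, map_mul, htorQ n hn, zero_mul]
    rw [map_sub, map_one, sub_eq_zero] at h1
    have h4 : piN K Q n (MonoidAlgebra.single q (1 : K)) =
        MonoidAlgebra.single (QuotientGroup.mk' (Hn Q n) q) (1 : K) := by
      show MonoidAlgebra.mapDomain (QuotientGroup.mk' (Hn Q n)) (MonoidAlgebra.single q (1 : K)) = _
      rw [MonoidAlgebra.mapDomain_single]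
    rw [h4, MonoidAlgebra.one_def] at h1
    have h5 : QuotientGroup.mk' (Hn Q n) q = 1 :=
      MonoidAlgebra.single_left_injective (one_ne_zero (α := K)) h1
    apply hinj (by simp) (by simp)
    rw [h5, map_one]
  have hall : ∀ y : MonoidAlgebra K Q,
      y = algebraMap K (MonoidAlgebra K Q) (Coalgebra.counit (R := K) y) := by
    intro y
    induction y using MonoidAlgebra.induction_linear with
    | zero => simp
    | add y z hy hz => rw [map_add, map_add, ← hy, ← hz]
    | single q r =>
      rw [hQ q, MonoidAlgebra.counit_single, CommSemiring.counit_apply,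
        Algebra.algebraMap_eq_smul_one, MonoidAlgebra.one_def, MonoidAlgebra.smul_single,
        smul_eq_mul, mul_one]
  have h6 : ζ ((1 : K) ⊗ₜ[S'] e') = 0 := by
    rw [hall (ζ ((1 : K) ⊗ₜ[S'] e')), CoalgHomClass.counit_comp_apply ζ, counit_one_tmul, he0,
      map_zero, map_zero]
  have h7 : (1 : K) ⊗ₜ[S'] e' = 0 := (EquivLike.injective ζ) (by rw [h6, map_zero])
  have h8 := congrArg (Algebra.TensorProduct.lift (AlgHom.id K K) β
    (fun _ _ => Commute.all _ _)) h7
  rw [Algebra.TensorProduct.lift_tmul, map_zero, map_one, one_mul] at h8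
  exact h8

theorem eq_zero_of_absorbs {S' B' : Type u} [CommRing S'] [CommRing B'] [HopfAlgebra S' B']
    (hft : Algebra.FiniteType S' B') (hsp : Sp S' B') (e' : B')
    (he0 : Coalgebra.counit (R := S') e' = 0) (he : Absorbs S' B' e')
    (htor : ∀ n : ℕ, 0 < n → e' ∈ torsionIdeal S' B' n) : e' = 0 := by
  have hidem : e' * e' = e' := by
    have h1 := he e'
    rw [he0, map_zero, sub_zero] at h1
    exact h1
  by_contra hne
  have hnu : ¬ IsUnit (1 - e') := by
    intro hu
    have h1 : (1 - e') * e' = 0 := by rw [sub_mul, one_mul, hidem, sub_self]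
    exact hne ((IsUnit.mul_right_eq_zero hu).mp h1)
  obtain ⟨𝔫, h𝔫, hle⟩ := Ideal.exists_le_maximal (Ideal.span {1 - e'})
    (by rw [Ne, Ideal.span_singleton_eq_top]; exact hnu)
  haveI := h𝔫
  letI := Ideal.Quotient.field 𝔫
  have h2 := field_step hft hsp e' he0 he htor (B' ⧸ 𝔫) (Ideal.Quotient.mkₐ S' 𝔫)
  have h3 : e' ∈ 𝔫 := Ideal.Quotient.eq_zero_iff_mem.mp h2
  have h4 : 1 - e' ∈ 𝔫 := hle (Ideal.mem_span_singleton_self _)
  have h5 : (1 : B') ∈ 𝔫 := by
    have := 𝔫.add_mem h4 h3
    rwa [sub_add_cancel] at this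
  exact h𝔫.ne_top ((Ideal.eq_top_iff_one 𝔫).mpr h5)

end Field

section Main

theorem main5254 (R : Type u) [CommRing R] [IsLocalRing R]
    (A : Type u) [CommRing A] [HopfAlgebra R A] (hft : Algebra.FiniteType R A)
    (hH : IsMultType R A) (J : Ideal A) [J.IsHopfIdeal R]
    (hK : Algebra.FinitePresentation R (A ⧸ J))
    (hs : J ⊔ Ideal.map (algebraMap R A) (IsLocalRing.maximalIdeal R) =
      RingHom.ker (Bialgebra.counitAlgHom R A) ⊔
        Ideal.map (algebraMap R A) (IsLocalRing.maximalIdeal R)) :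
    J = RingHom.ker (Bialgebra.counitAlgHom R A) := by
  have hJle : J ≤ RingHom.ker (Bialgebra.counitAlgHom R A) := by
    intro a ha
    rw [RingHom.mem_ker, Bialgebra.counitAlgHom_apply]
    exact Submodule.IsCoideal.counit_eq_zero (I := J.restrictScalars R) ha
  -- augmentation ideal of the quotient
  obtain ⟨IB, hIB⟩ : ∃ IB : Ideal (A ⧸ J), IB = RingHom.ker (Bialgebra.counitAlgHom R (A ⧸ J)) :=
    ⟨_, rfl⟩
  obtain ⟨mB, hmB⟩ : ∃ mB : Ideal (A ⧸ J),
      mB = Ideal.map (algebraMap R (A ⧸ J)) (IsLocalRing.maximalIdeal R) := ⟨_, rfl⟩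
  have hsub : ∀ b : A ⧸ J, b - algebraMap R (A ⧸ J) (Coalgebra.counit (R := R) b) ∈ IB := by
    intro b
    rw [hIB, RingHom.mem_ker, map_sub, Bialgebra.counitAlgHom_apply, AlgHom.commutes, sub_eq_zero]
    rfl
  have hcounit0 : ∀ x ∈ IB, Coalgebra.counit (R := R) x = 0 := by
    intro x hx
    rw [hIB, RingHom.mem_ker, Bialgebra.counitAlgHom_apply] at hx
    exact hx
  -- step 2
  have hIm : ∀ x ∈ IB, x ∈ mB := by
    intro x hx
    obtain ⟨a, rfl⟩ := Ideal.Quotient.mk_surjective x
    have ha : a ∈ RingHom.ker (Bialgebra.counitAlgHom R A) := by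
      rw [RingHom.mem_ker, Bialgebra.counitAlgHom_apply]
      exact hcounit0 _ hx
    have ha2 : a ∈ J ⊔ Ideal.map (algebraMap R A) (IsLocalRing.maximalIdeal R) := by
      rw [hs]
      exact Ideal.mem_sup_left ha
    obtain ⟨j, hj, y, hy, rfl⟩ := Submodule.mem_sup.mp ha2
    have h1 : Ideal.Quotient.mk J (j + y) = Ideal.Quotient.mk J y := by
      rw [map_add, Ideal.Quotient.eq_zero_iff_mem.mpr hj, zero_add]
    rw [h1, hmB]
    have h2 := Ideal.mem_map_of_mem (Ideal.Quotient.mk J) hy
    rw [Ideal.map_map] at h2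
    exact h2
  have htop : ∀ x ∈ mB, x ∈ (IsLocalRing.maximalIdeal R) • (⊤ : Submodule R (A ⧸ J)) := by
    intro x hx
    rw [Ideal.smul_top_eq_map]
    rw [hmB] at hx
    exact hx
  have key2 : ∀ y ∈ (IsLocalRing.maximalIdeal R) • (⊤ : Submodule R (A ⧸ J)),
      y - algebraMap R (A ⧸ J) (Coalgebra.counit (R := R) y) ∈ mB * IB ∧
        Coalgebra.counit (R := R) y ∈ IsLocalRing.maximalIdeal R := by
    intro y hy
    refine Submodule.smul_induction_on hy (fun μ hμ b _ => ?_) (fun x y hx hy => ?_)
    · constructor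
      · have h1 : μ • b - algebraMap R (A ⧸ J) (Coalgebra.counit (R := R) (μ • b)) =
            algebraMap R (A ⧸ J) μ * (b - algebraMap R (A ⧸ J) (Coalgebra.counit (R := R) b)) := by
          rw [map_smul, smul_eq_mul, map_mul, Algebra.smul_def, mul_sub]
        rw [h1]
        apply Ideal.mul_mem_mul _ (hsub b)
        rw [hmB]
        exact Ideal.mem_map_of_mem _ hμ
      · rw [map_smul, smul_eq_mul]
        exact Ideal.mul_mem_right _ _ hμ
    · constructor
      · rw [map_add, map_add, add_sub_add_comm]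
        exact Ideal.add_mem _ hx.1 hy.1
      · rw [map_add]
        exact Ideal.add_mem _ hx.2 hy.2
  have hsm : IB ≤ mB • IB := by
    intro x hx
    have h1 := (key2 x (htop x (hIm x hx))).1
    rw [hcounit0 x hx, map_zero, sub_zero] at h1
    rw [smul_eq_mul]
    exact h1
  -- step 3
  haveI := hK
  have hsurj : Function.Surjective (Bialgebra.counitAlgHom R (A ⧸ J)) := by
    intro r
    exact ⟨algebraMap R (A ⧸ J) r, by rw [AlgHom.commutes]; rfl⟩
  have hfg : IB.FG := by
    rw [hIB]
    exact Algebra.FinitePresentation.ker_fG_of_surjective (Bialgebra.counitAlgHom R (A ⧸ J)) hsurj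
  obtain ⟨r, hr1, hr2⟩ :=
    Submodule.exists_sub_one_mem_and_smul_eq_zero_of_fg_of_le_smul mB IB hfg hsm
  have hu1 : Coalgebra.counit (R := R) r - 1 ∈ IsLocalRing.maximalIdeal R := by
    have h1 := (key2 (r - 1) (htop _ hr1)).2
    rw [map_sub, Bialgebra.counit_one] at h1
    exact h1
  have hunit : IsUnit (Coalgebra.counit (R := R) r) := by
    by_contra hnu
    have h1 : Coalgebra.counit (R := R) r ∈ IsLocalRing.maximalIdeal R :=
      (IsLocalRing.mem_maximalIdeal _).mpr hnu
    have h2 := Ideal.sub_mem _ h1 hu1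
    rw [sub_sub_cancel] at h2
    exact (Ideal.ne_top_iff_one _).mp (IsLocalRing.maximalIdeal.isMaximal R).ne_top h2
  obtain ⟨v, hv⟩ := hunit.exists_left_inv
  obtain ⟨e, he⟩ : ∃ e : A ⧸ J, e = 1 - algebraMap R (A ⧸ J) v * r := ⟨_, rfl⟩
  have he0 : Coalgebra.counit (R := R) e = 0 := by
    rw [he, map_sub, Bialgebra.counit_one, ← Algebra.smul_def, map_smul, smul_eq_mul, hv, sub_self]
  have heI : ∀ x ∈ IB, e * x = x := by
    intro x hx
    have h1 : r * x = 0 := hr2 x hx
    rw [he, sub_mul, one_mul, mul_assoc, h1, mul_zero, sub_zero]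
  have habs : Absorbs R (A ⧸ J) e := fun b => heI _ (hsub b)
  -- step 4
  have htor : ∀ n : ℕ, 0 < n → e ∈ torsionIdeal R (A ⧸ J) n := by
    intro n hn
    obtain ⟨TB, hTB⟩ : ∃ TB : Ideal (A ⧸ J),
        TB = Ideal.map (Ideal.Quotient.mk J) (torsionIdeal R A n) := ⟨_, rfl⟩
    have hTBle : TB ≤ torsionIdeal R (A ⧸ J) n := by
      rw [hTB, Ideal.map_le_iff_le_comap]
      intro a ha
      rw [Ideal.mem_comap]
      exact push_equiv (Bialgebra.Quotient.mkBialgHom J) n a ha
    haveI : Module.Finite R (A ⧸ torsionIdeal R A n) := finite_quot_torsion R A hft hH n hn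
    let g : (A ⧸ torsionIdeal R A n) →ₐ[R] ((A ⧸ J) ⧸ TB) :=
      Ideal.Quotient.liftₐ (torsionIdeal R A n)
        ((Ideal.Quotient.mkₐ R TB).comp (Ideal.Quotient.mkₐ R J)) (by
          intro a ha
          rw [AlgHom.comp_apply]
          apply Ideal.Quotient.eq_zero_iff_mem.mpr
          rw [hTB]
          exact Ideal.mem_map_of_mem _ ha)
    have hg : Function.Surjective g := by
      intro z
      obtain ⟨b, rfl⟩ := Ideal.Quotient.mk_surjective z
      obtain ⟨a, rfl⟩ := Ideal.Quotient.mk_surjective b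
      exact ⟨Ideal.Quotient.mk _ a, rfl⟩
    haveI : Module.Finite R ((A ⧸ J) ⧸ TB) := Module.Finite.of_surjective g.toLinearMap hg
    have hNN : (⊤ : Submodule R ((A ⧸ J) ⧸ TB)) ≤
        Submodule.span R {(1 : (A ⧸ J) ⧸ TB)} ⊔
          (IsLocalRing.maximalIdeal R) • (⊤ : Submodule R ((A ⧸ J) ⧸ TB)) := by
      intro z _
      obtain ⟨b, rfl⟩ := Ideal.Quotient.mk_surjective z
      have h1 : Ideal.Quotient.mk TB b =
          Ideal.Quotient.mk TB (algebraMap R (A ⧸ J) (Coalgebra.counit (R := R) b)) +
            Ideal.Quotient.mk TB (b - algebraMap R (A ⧸ J) (Coalgebra.counit (R := R) b)) := by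
        rw [← map_add, add_sub_cancel]
      rw [h1]
      apply Submodule.add_mem_sup
      · have h2 : Ideal.Quotient.mk TB (algebraMap R (A ⧸ J) (Coalgebra.counit (R := R) b)) =
            Coalgebra.counit (R := R) b • (1 : (A ⧸ J) ⧸ TB) :=
          Algebra.algebraMap_eq_smul_one (A := (A ⧸ J) ⧸ TB) (Coalgebra.counit (R := R) b)
        rw [h2]
        exact Submodule.smul_mem _ _ (Submodule.mem_span_singleton_self _)
      · have h2 := htop _ (hIm _ (hsub b))
        have key3 : ∀ y ∈ (IsLocalRing.maximalIdeal R) • (⊤ : Submodule R (A ⧸ J)),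
            Ideal.Quotient.mk TB y ∈
              (IsLocalRing.maximalIdeal R) • (⊤ : Submodule R ((A ⧸ J) ⧸ TB)) := by
          intro y hy
          refine Submodule.smul_induction_on hy (fun μ hμ b' _ => ?_) (fun x y hx hy => ?_)
          · have h3 : Ideal.Quotient.mk TB (μ • b') = μ • Ideal.Quotient.mk TB b' :=
              map_smul (Ideal.Quotient.mkₐ R TB) μ b'
            rw [h3]
            exact Submodule.smul_mem_smul hμ Submodule.mem_top
          · rw [map_add]
            exact add_mem hx hy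
        exact key3 _ h2
    have hjac : IsLocalRing.maximalIdeal R ≤ Ideal.jacobson ⊥ := by
      rw [IsLocalRing.jacobson_eq_maximalIdeal ⊥ bot_ne_top]
    have h4 := Submodule.le_of_le_smul_of_le_jacobson_bot (Module.Finite.fg_top) hjac hNN
    have h5 : Ideal.Quotient.mk TB e ∈ Submodule.span R {(1 : (A ⧸ J) ⧸ TB)} :=
      h4 Submodule.mem_top
    obtain ⟨c, hc⟩ := Submodule.mem_span_singleton.mp h5
    have h6 : algebraMap R (A ⧸ J) c - e ∈ TB := by
      rw [← Ideal.Quotient.eq, ← hc]
      exact Algebra.algebraMap_eq_smul_one (A := (A ⧸ J) ⧸ TB) c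
    have h7 := torsion_le_aug R (A ⧸ J) n (hTBle h6)
    rw [RingHom.mem_ker, map_sub, Bialgebra.counitAlgHom_apply, Bialgebra.counitAlgHom_apply,
      he0, sub_zero] at h7
    have h8 : c = 0 := by
      have h9 : Coalgebra.counit (R := R) (algebraMap R (A ⧸ J) c) = c :=
        Bialgebra.counit_algebraMap c
      rw [← h9]
      exact h7
    rw [h8, map_zero, zero_sub] at h6
    exact hTBle (by simpa using TB.neg_mem h6)
  -- step 5
  obtain ⟨s, hs1, hconst⟩ := hH
  have hex : ∃ f ∈ s, IsUnit f := by
    by_contra hno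
    push_neg at hno
    have hle : Ideal.span s ≤ IsLocalRing.maximalIdeal R :=
      Ideal.span_le.mpr (fun f hf => (IsLocalRing.mem_maximalIdeal f).mpr (hno f hf))
    rw [hs1] at hle
    exact (IsLocalRing.maximalIdeal.isMaximal R).ne_top (top_le_iff.mp hle)
  obtain ⟨f, hf, hfu⟩ := hex
  have hunits : Submonoid.powers f ≤ IsUnit.submonoid R := Submonoid.powers_le.mpr hfu
  let eS : R ≃ₐ[R] Localization.Away f := IsLocalization.atUnits R (Submonoid.powers f) hunits
  haveI : IsLocalRing (Localization.Away f) := eS.toRingEquiv.isLocalRing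
  haveI : Module.Free R (Localization.Away f) := Module.Free.of_equiv eS.toLinearEquiv
  haveI : Module.FaithfullyFlat R (Localization.Away f) := inferInstance
  obtain ⟨R', _, _, hff, M, _, ⟨θ⟩⟩ := hconst f hf
  haveI := hff
  have hft' : Algebra.FiniteType R (A ⧸ J) :=
    Algebra.FiniteType.of_surjective (Ideal.Quotient.mkₐ R J) (Ideal.Quotient.mkₐ_surjective R J)
  haveI := hft'
  haveI : Algebra.FiniteType (Localization.Away f) (Localization.Away f ⊗[R] (A ⧸ J)) :=
    inferInstance
  have hftB' : Algebra.FiniteType R'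
      (R' ⊗[Localization.Away f] (Localization.Away f ⊗[R] (A ⧸ J))) := inferInstance
  -- spanned by group-likes
  let q : (Localization.Away f ⊗[R] A) →ₐc[Localization.Away f]
      (Localization.Away f ⊗[R] (A ⧸ J)) :=
    Bialgebra.TensorProduct.map (BialgHom.id _ _) (Bialgebra.Quotient.mkBialgHom J)
  let p₁ : R' ⊗[Localization.Away f] (Localization.Away f ⊗[R] A) →ₐc[R']
      R' ⊗[Localization.Away f] (Localization.Away f ⊗[R] (A ⧸ J)) :=
    Bialgebra.TensorProduct.map (BialgHom.id R' R') q
  have hq : Function.Surjective q := by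
    intro y
    induction y using TensorProduct.induction_on with
    | zero => exact ⟨0, map_zero _⟩
    | add y z hy hz =>
      obtain ⟨y', rfl⟩ := hy
      obtain ⟨z', rfl⟩ := hz
      exact ⟨y' + z', map_add _ _ _⟩
    | tmul t b =>
      obtain ⟨a, rfl⟩ := Ideal.Quotient.mk_surjective b
      exact ⟨t ⊗ₜ[R] a, rfl⟩
  have hp₁ : Function.Surjective p₁ := by
    intro y
    induction y using TensorProduct.induction_on with
    | zero => exact ⟨0, map_zero _⟩
    | add y z hy hz =>
      obtain ⟨y', rfl⟩ := hy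
      obtain ⟨z', rfl⟩ := hz
      exact ⟨y' + z', map_add _ _ _⟩
    | tmul t w =>
      obtain ⟨w', rfl⟩ := hq w
      exact ⟨t ⊗ₜ[Localization.Away f] w', rfl⟩
  have hspX : Sp R' (R' ⊗[Localization.Away f] (Localization.Away f ⊗[R] A)) :=
    sp_of_equiv θ (sp_monoidAlgebra R' M)
  have hspB : Sp R' (R' ⊗[Localization.Away f] (Localization.Away f ⊗[R] (A ⧸ J))) :=
    sp_of_surjective p₁ hp₁ hspX
  -- the element
  obtain ⟨e', he'⟩ : ∃ e' : R' ⊗[Localization.Away f] (Localization.Away f ⊗[R] (A ⧸ J)),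
      e' = (1 : R') ⊗ₜ[Localization.Away f] ((1 : Localization.Away f) ⊗ₜ[R] e) := ⟨_, rfl⟩
  have he'0 : Coalgebra.counit (R := R') e' = 0 := by
    rw [he', counit_one_tmul, counit_one_tmul, he0, map_zero, map_zero]
  have habs' : Absorbs R' _ e' := by
    rw [he']
    exact absorbs_baseChange (absorbs_baseChange habs)
  have htor' : ∀ n : ℕ, 0 < n → e' ∈ torsionIdeal R' _ n := by
    intro n hn
    rw [he']
    exact push_baseChange n _ (push_baseChange n _ (htor n hn))
  have he'zero : e' = 0 := eq_zero_of_absorbs hftB' hspB e' he'0 habs' htor'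
  -- descend
  have h1e : (1 : Localization.Away f) ⊗ₜ[R] e = 0 := by
    have hinj := Module.FaithfullyFlat.tensorProduct_mk_injective (A := Localization.Away f)
      (B := R') (Localization.Away f ⊗[R] (A ⧸ J))
    apply hinj
    rw [map_zero]
    rw [he'] at he'zero
    exact he'zero
  have hezero : e = 0 := by
    have hinj := Module.FaithfullyFlat.tensorProduct_mk_injective (A := R)
      (B := Localization.Away f) (A ⧸ J)
    apply hinj
    rw [map_zero]
    exact h1e
  -- conclusion
  apply le_antisymm hJle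
  intro a ha
  have h1 : Ideal.Quotient.mk J a ∈ IB := by
    rw [hIB, RingHom.mem_ker]
    exact ha
  have h2 := heI _ h1
  rw [hezero, zero_mul] at h2
  exact Ideal.Quotient.eq_zero_iff_mem.mp h2.symm

end Main

end MultSubH1
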