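import Mathlib
import Groth.Prelude
import Groth.Agent.Lib.MultTriv_helper4

/-!
# A homomorphism from a group of multiplicative type which is central modulo a locally nilpotent
ideal is central (helper4)
-/

set_option autoImplicit false
set_option linter.unusedVariables false
set_option linter.unusedTactic false
set_option linter.unreachableTactic false
set_option linter.unusedSectionVars false
set_option linter.style.haveILetI false
set_option linter.deprecated false
set_option linter.unusedSimpArgs false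
set_option linter.style.longLine false
set_option maxHeartbeats 1600000

universe u

open CategoryTheory CategoryTheory.Limits MonoidalCategory CartesianMonoidalCategory MonObj GrpObj
  AlgebraicGeometry Opposite

namespace Groth.Agent.Lib.MultTrivH4

section Conj

variable {C : Type*} [Category C] [CartesianMonoidalCategory C] {G H : C} [GrpObj G] [GrpObj H]
  (u : G ⟶ H) [IsMonHom u]

/-- the conjugation action `(g, h) ↦ u(g) h u(g)⁻¹`. -/
noncomputable def conjAct : G ⊗ H ⟶ H := (fst G H ≫ u) * snd G H * (fst G H ≫ u)⁻¹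

theorem comp_conjAct {Z : C} (m : Z ⟶ G ⊗ H) :
    m ≫ conjAct u = (m ≫ fst G H ≫ u) * (m ≫ snd G H) * (m ≫ fst G H ≫ u)⁻¹ := by
  unfold conjAct
  rw [MonObj.comp_mul, MonObj.comp_mul, GrpObj.comp_inv]

theorem comp_conjAct' {Z : C} (m : Z ⟶ G ⊗ H) :
    m ≫ conjAct u = ((m ≫ fst G H) ≫ u) * (m ≫ snd G H) * ((m ≫ fst G H) ≫ u)⁻¹ := by
  rw [comp_conjAct]
  simp only [Category.assoc]

theorem lift_conjAct {Z : C} (g : Z ⟶ G) (h : Z ⟶ H) :
    lift g h ≫ conjAct u = (g ≫ u) * h * (g ≫ u)⁻¹ := by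
  rw [comp_conjAct, lift_fst_assoc, lift_snd]

theorem conjAct_one : (η[G] ▷ H) ≫ conjAct u = (λ_ H).hom := by
  rw [comp_conjAct, whiskerRight_fst_assoc, whiskerRight_snd, leftUnitor_hom]
  have h1 : fst (𝟙_ C) H ≫ η[G] ≫ u = 1 := by
    rw [IsMonHom.one_hom, toUnit_unique (fst (𝟙_ C) H) (toUnit _), ← Hom.one_def]
  rw [h1, _root_.one_mul, inv_one, _root_.mul_one]

theorem conjAct_mul :
    (μ[G] ▷ H) ≫ conjAct u = (α_ G G H).hom ≫ (G ◁ conjAct u) ≫ conjAct u := by
  have hL : (μ[G] ▷ H) ≫ conjAct u =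
      ((fst (G ⊗ G) H ≫ fst G G ≫ u) * (fst (G ⊗ G) H ≫ snd G G ≫ u)) * snd (G ⊗ G) H *
        ((fst (G ⊗ G) H ≫ fst G G ≫ u) * (fst (G ⊗ G) H ≫ snd G G ≫ u))⁻¹ := by
    rw [comp_conjAct, whiskerRight_fst_assoc, whiskerRight_snd]
    have h1 : fst (G ⊗ G) H ≫ μ[G] ≫ u =
        (fst (G ⊗ G) H ≫ fst G G ≫ u) * (fst (G ⊗ G) H ≫ snd G G ≫ u) := by
      rw [MonObj.mul_eq_mul G, ← Category.assoc, MonObj.comp_mul, MonObj.mul_comp,
        Category.assoc, Category.assoc]
    rw [h1]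
  have hR : (α_ G G H).hom ≫ (G ◁ conjAct u) ≫ conjAct u =
      (fst (G ⊗ G) H ≫ fst G G ≫ u) *
        ((fst (G ⊗ G) H ≫ snd G G ≫ u) * snd (G ⊗ G) H * (fst (G ⊗ G) H ≫ snd G G ≫ u)⁻¹) *
        (fst (G ⊗ G) H ≫ fst G G ≫ u)⁻¹ := by
    have h2 : ((α_ G G H).hom ≫ (G ◁ conjAct u)) ≫ fst G H = fst (G ⊗ G) H ≫ fst G G := by
      rw [Category.assoc, whiskerLeft_fst, associator_hom_fst]
    have h3 : ((α_ G G H).hom ≫ (G ◁ conjAct u)) ≫ snd G H =
        ((α_ G G H).hom ≫ snd G (G ⊗ H)) ≫ conjAct u := by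
      rw [Category.assoc, whiskerLeft_snd, Category.assoc]
    have h4 : ((α_ G G H).hom ≫ snd G (G ⊗ H)) ≫ fst G H = fst (G ⊗ G) H ≫ snd G G := by
      rw [Category.assoc, associator_hom_snd_fst]
    have h5 : ((α_ G G H).hom ≫ snd G (G ⊗ H)) ≫ snd G H = snd (G ⊗ G) H := by
      rw [Category.assoc, associator_hom_snd_snd]
    rw [← Category.assoc, comp_conjAct' u ((α_ G G H).hom ≫ (G ◁ conjAct u)), h2, h3,
      comp_conjAct' u ((α_ G G H).hom ≫ snd G (G ⊗ H)), h4, h5]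
    simp only [Category.assoc]
  rw [hL, hR]
  group

end Conj

section Main

/-- the conjugation action as an `AlgGrp.Action`. -/
noncomputable def conjAction {S : Scheme.{u}} {G H : Over S} [GrpObj G] [GrpObj H] (u : G ⟶ H)
    [IsMonHom u] : AlgGrp.Action G H where
  act := conjAct u
  one_act := conjAct_one u
  mul_act := conjAct_mul u

theorem main5280 {S S₀ : Scheme.{u}} (i₀ : S₀ ⟶ S) [IsClosedImmersion i₀]
    (hnil : ∀ x : S, ∃ U : S.affineOpens, x ∈ (U : S.Opens) ∧ IsNilpotent (i₀.ker.ideal U))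
    (G H : Over S) [GrpObj G] [GrpObj H]
    (hG : TwC.Locally S TwC.Topology.fpqc (fun S' f => ∃ (M : Type) (_ : AddCommGroup M),
      Nonempty (Grp.mk (Red.bc f G) ≅ Grp.mk (Red.DS S' M))))
    (u : G ⟶ H) [IsMonHom u]
    (h0 : ∀ (Y : Over S) (p : Y ⟶ Over.mk i₀) (g : Y ⟶ G) (h : Y ⟶ H),
      (g ≫ u) * h = h * (g ≫ u)) :
    ∀ (Y : Over S) (g : Y ⟶ G) (h : Y ⟶ H), (g ≫ u) * h = h * (g ≫ u) := by
  intro Y g h
  have key := main5279 i₀ hnil G H hG (conjAction u) (by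
    intro Y p g h
    show lift g h ≫ conjAct u = h
    rw [lift_conjAct, h0 Y p g h, mul_inv_cancel_right]) Y g h
  have key' : lift g h ≫ conjAct u = h := key
  rw [lift_conjAct] at key'
  exact mul_inv_eq_iff_eq_mul.mp key'

end Main

end Groth.Agent.Lib.MultTrivH4
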