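import Mathlib

/-!
Helper library (helper1): a telescoping identity for multilinear maps, proved without dividing by
the scalar via the universal (free) case.  APPEND-ONLY once landed.
-/

set_option autoImplicit false

namespace Groth.Agent.Lib.MultiTelescopeH1

open Finset

universe u v w

section Slot

variable {r : ℕ} {M : Fin r → Type*}

/-- `a` before slot `i`, `c` in slot `i`, `b` after slot `i`. -/
def slot (i : Fin r) (a c b : ∀ k, M k) : ∀ k, M k :=
  fun k => if k < i then a k else if k = i then c k else b k

theorem slot_eq_update (i : Fin r) (a c b : ∀ k, M k) :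
    slot i a c b = Function.update (slot i a b b) i (c i) := by
  funext k
  by_cases hk : k = i
  · subst hk
    rw [Function.update_self]
    simp [slot]
  · rw [Function.update_of_ne hk]
    simp [slot, hk]

end Slot

section Multi

variable {A : Type*} [CommRing A] {r : ℕ} {M : Fin r → Type*} {N : Type*}
  [∀ i, AddCommGroup (M i)] [∀ i, Module A (M i)] [AddCommGroup N] [Module A N]

theorem telescope (τ : MultilinearMap A M N) (a c b : ∀ k, M k) (hc : ∀ k, c k = a k - b k) :
    ∑ i : Fin r, τ (slot i a c b) = τ a - τ b := by
  classical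
  let H : ℕ → ∀ k, M k := fun m k => if k.val < m then a k else b k
  have h1 : ∀ i : Fin r, τ (slot i a c b) = τ (H (i.val + 1)) - τ (H i.val) := by
    intro i
    have e1 : slot i a c b = Function.update (H i.val) i (a i - b i) := by
      funext k
      by_cases hk : k = i
      · subst hk
        rw [Function.update_self]
        show (if k < k then a k else if k = k then c k else b k) = a k - b k
        rw [if_neg (lt_irrefl k), if_pos rfl, hc]
      · rw [Function.update_of_ne hk]
        simp only [slot, H, if_neg hk, Fin.lt_def]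
    have e2 : H (i.val + 1) = Function.update (H i.val) i (a i) := by
      funext k
      by_cases hk : k = i
      · subst hk
        rw [Function.update_self]
        simp [H]
      · rw [Function.update_of_ne hk]
        have hne : k.val ≠ i.val := fun h => hk (Fin.ext h)
        have hiff : k.val < i.val + 1 ↔ k.val < i.val := by omega
        simp [H, hiff]
    have e3 : H i.val = Function.update (H i.val) i (b i) := by
      funext k
      by_cases hk : k = i
      · subst hk
        rw [Function.update_self]
        simp [H]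
      · rw [Function.update_of_ne hk]
    rw [e1, MultilinearMap.map_update_sub, ← e2, ← e3]
  rw [Finset.sum_congr rfl (fun i _ => h1 i)]
  rw [Fin.sum_univ_eq_sum_range (fun m => τ (H (m + 1)) - τ (H m)) r,
    Finset.sum_range_sub (fun m => τ (H m))]
  have hr : H r = a := by
    funext k
    simp [H, k.isLt]
  have h0 : H 0 = b := by
    funext k
    simp [H]
  rw [hr, h0]

theorem smul_slot (φ : MultilinearMap A M N) (α : A) (i : Fin r) (a c b : ∀ k, M k) :
    α • φ (slot i a c b) = φ (slot i a (fun k => α • c k) b) := by
  classical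
  rw [slot_eq_update i a c b, slot_eq_update i a (fun k => α • c k) b]
  exact (MultilinearMap.map_update_smul φ _ i α (c i)).symm

theorem sum_slot (φ : MultilinearMap A M N) {ι : Type*} (s : Finset ι) (i : Fin r)
    (a b : ∀ k, M k) (c : ι → ∀ k, M k) :
    ∑ j ∈ s, φ (slot i a (c j) b) = φ (slot i a (fun k => ∑ j ∈ s, c j k) b) := by
  classical
  rw [slot_eq_update i a (fun k => ∑ j ∈ s, c j k) b]
  have h := MultilinearMap.map_update_sum φ s i (fun j => c j i) (slot i a b b)
  refine Eq.trans ?_ h.symm
  exact Finset.sum_congr rfl (fun j _ => by rw [slot_eq_update i a (c j) b])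

theorem alpha_lhs (α : A) (φ : MultilinearMap A M N) (n : ℕ) (y w : ∀ i, ℕ → M i)
    (hw : ∀ i, ∀ j < n, w i (j + 1) = w i j + α • y i j) :
    α • ∑ i : Fin r, ∑ j ∈ range n,
        φ (slot i (fun k => w k (j + 1)) (fun k => y k j) (fun k => w k j))
      = φ (fun k => w k n) - φ (fun k => w k 0) := by
  classical
  rw [Finset.smul_sum]
  simp only [Finset.smul_sum]
  rw [Finset.sum_comm]
  have step : ∀ j ∈ range n,
      ∑ i : Fin r, α • φ (slot i (fun k => w k (j + 1)) (fun k => y k j) (fun k => w k j))
      = φ (fun k => w k (j + 1)) - φ (fun k => w k j) := by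
    intro j hj
    have hj' : j < n := Finset.mem_range.mp hj
    rw [← telescope φ (fun k => w k (j + 1)) (fun k => α • y k j) (fun k => w k j)
      (fun k => by
        show α • y k j = w k (j + 1) - w k j
        rw [hw k j hj', add_sub_cancel_left])]
    exact Finset.sum_congr rfl (fun i _ => smul_slot φ α i _ _ _)
  rw [Finset.sum_congr rfl step]
  exact Finset.sum_range_sub (fun j => φ (fun k => w k j)) n

theorem alpha_rhs (α : A) (φ : MultilinearMap A M N) (n : ℕ) (y w : ∀ i, ℕ → M i)
    (hw : ∀ i, ∀ j < n, w i (j + 1) = w i j + α • y i j) :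
    α • ∑ i : Fin r, ∑ j ∈ range n,
        φ (slot i (fun k => w k n) (fun k => y k j) (fun k => w k 0))
      = φ (fun k => w k n) - φ (fun k => w k 0) := by
  classical
  have hsum : ∀ i, ∑ j ∈ range n, α • y i j = w i n - w i 0 := by
    intro i
    rw [← Finset.sum_range_sub (fun j => w i j) n]
    exact Finset.sum_congr rfl
      (fun j hj => by rw [hw i j (Finset.mem_range.mp hj), add_sub_cancel_left])
  rw [Finset.smul_sum]
  simp only [Finset.smul_sum]
  rw [← telescope φ (fun k => w k n) (fun k => ∑ j ∈ range n, α • y k j) (fun k => w k 0)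
    (fun k => hsum k)]
  refine Finset.sum_congr rfl (fun i _ => ?_)
  rw [← sum_slot φ (range n) i (fun k => w k n) (fun k => w k 0) (fun j k => α • y k j)]
  exact Finset.sum_congr rfl (fun j _ => smul_slot φ α i _ _ _)

end Multi

theorem main13682 {A : Type u} [CommRing A] (α : A) (hα : α ∈ nonZeroDivisors A)
    {r : ℕ} (M : Fin r → Type v) (N : Type w) [∀ i, AddCommGroup (M i)] [∀ i, Module A (M i)]
    [AddCommGroup N] [Module A N] (φ : MultilinearMap A M N) (n : ℕ)
    (y w : ∀ i, ℕ → M i) (hw : ∀ i, ∀ j < n, w i (j + 1) = w i j + α • y i j) :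
    (∑ i : Fin r, ∑ j ∈ Finset.range n,
        φ (fun k => if k < i then w k (j + 1) else if k = i then y k j else w k j)) =
      ∑ i : Fin r, ∑ j ∈ Finset.range n,
        φ (fun k => if k < i then w k n else if k = i then y k j else w k 0) := by
  classical
  let y' : ℕ → (ℕ →₀ A) := fun j => Finsupp.single (j + 1) 1
  let w' : ℕ → (ℕ →₀ A) := fun j => Finsupp.single 0 1 + α • ∑ l ∈ range j, y' l
  have hw' : ∀ j, w' (j + 1) = w' j + α • y' j := by
    intro j
    show Finsupp.single 0 1 + α • ∑ l ∈ range (j + 1), y' l =
      Finsupp.single 0 1 + α • ∑ l ∈ range j, y' l + α • y' j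
    rw [Finset.sum_range_succ, smul_add, add_assoc]
  let v : ∀ i : Fin r, ℕ → M i := fun i l => if l = 0 then w i 0 else y i (l - 1)
  let g : ∀ i : Fin r, (ℕ →₀ A) →ₗ[A] M i := fun i => Finsupp.linearCombination A (v i)
  have hgy : ∀ i j, g i (y' j) = y i j := by
    intro i j
    show Finsupp.linearCombination A (v i) (Finsupp.single (j + 1) 1) = y i j
    rw [Finsupp.linearCombination_single, one_smul]
    show (if j + 1 = 0 then w i 0 else y i (j + 1 - 1)) = y i j
    simp
  have hgw : ∀ i, ∀ j ≤ n, g i (w' j) = w i j := by
    intro i j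
    induction j with
    | zero =>
      intro _
      show g i (Finsupp.single 0 1 + α • ∑ l ∈ range 0, y' l) = w i 0
      rw [Finset.range_zero, Finset.sum_empty, smul_zero, add_zero]
      show Finsupp.linearCombination A (v i) (Finsupp.single 0 1) = w i 0
      rw [Finsupp.linearCombination_single, one_smul]
      show (if (0 : ℕ) = 0 then w i 0 else y i (0 - 1)) = w i 0
      simp
    | succ j ih =>
      intro hj
      rw [hw' j, map_add, map_smul, ih (by omega), hgy, hw i j (by omega)]
  let T : MultilinearMap A (fun _ : Fin r => ℕ →₀ A)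
      (PiTensorProduct A (fun _ : Fin r => ℕ →₀ A)) := PiTensorProduct.tprod A
  have hU := alpha_lhs (N := PiTensorProduct A (fun _ : Fin r => ℕ →₀ A)) α T n (fun _ => y') (fun _ => w') (fun _ j _ => hw' j)
  have hU' := alpha_rhs (N := PiTensorProduct A (fun _ : Fin r => ℕ →₀ A)) α T n (fun _ => y') (fun _ => w') (fun _ j _ => hw' j)
  have hfree : ∀ z : PiTensorProduct A (fun _ : Fin r => ℕ →₀ A), α • z = 0 → z = 0 := by
    intro z hz
    let B := Basis.piTensorProduct (R := A)
      (fun _ : Fin r => (Finsupp.basisSingleOne : Module.Basis ℕ A (ℕ →₀ A)))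
    apply B.repr.injective
    ext p
    have h := congrArg (fun t => B.repr t p) hz
    simp only [map_smul, Finsupp.smul_apply, smul_eq_mul, map_zero, Finsupp.zero_apply] at h
    rw [map_zero, Finsupp.zero_apply]
    exact (mul_left_mem_nonZeroDivisors_eq_zero_iff hα).mp h
  have hUeq : (∑ i : Fin r, ∑ j ∈ range n,
        T (slot i (fun _ => w' (j + 1)) (fun _ => y' j) (fun _ => w' j))) =
      ∑ i : Fin r, ∑ j ∈ range n,
        T (slot i (fun _ => w' n) (fun _ => y' j) (fun _ => w' 0)) := by
    have h0 : α • ((∑ i : Fin r, ∑ j ∈ range n,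
        T (slot i (fun _ => w' (j + 1)) (fun _ => y' j) (fun _ => w' j))) -
      ∑ i : Fin r, ∑ j ∈ range n,
        T (slot i (fun _ => w' n) (fun _ => y' j) (fun _ => w' 0))) = 0 := by
      rw [smul_sub, hU, hU', sub_self]
    exact sub_eq_zero.mp (hfree _ h0)
  let L := PiTensorProduct.lift (φ.compLinearMap g)
  have e1 : ∀ i : Fin r, ∀ j ∈ range n,
      φ (fun k => if k < i then w k (j + 1) else if k = i then y k j else w k j)
      = L (T (slot i (fun _ => w' (j + 1)) (fun _ => y' j) (fun _ => w' j))) := by
    intro i j hj
    have hj' := Finset.mem_range.mp hj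
    show _ = PiTensorProduct.lift (φ.compLinearMap g) (PiTensorProduct.tprod A _)
    rw [PiTensorProduct.lift.tprod, MultilinearMap.compLinearMap_apply]
    congr 1
    funext k
    simp only [slot]
    split_ifs
    · exact (hgw k (j + 1) (by omega)).symm
    · exact (hgy k j).symm
    · exact (hgw k j (by omega)).symm
  have e2 : ∀ i : Fin r, ∀ j ∈ range n,
      φ (fun k => if k < i then w k n else if k = i then y k j else w k 0)
      = L (T (slot i (fun _ => w' n) (fun _ => y' j) (fun _ => w' 0))) := by
    intro i j hj
    show _ = PiTensorProduct.lift (φ.compLinearMap g) (PiTensorProduct.tprod A _)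
    rw [PiTensorProduct.lift.tprod, MultilinearMap.compLinearMap_apply]
    congr 1
    funext k
    simp only [slot]
    split_ifs
    · exact (hgw k n le_rfl).symm
    · exact (hgy k j).symm
    · exact (hgw k 0 (by omega)).symm
  rw [Finset.sum_congr rfl (fun i _ => Finset.sum_congr rfl (fun j hj => e1 i j hj)),
    Finset.sum_congr rfl (fun i _ => Finset.sum_congr rfl (fun j hj => e2 i j hj))]
  simp only [← map_sum]
  rw [hUeq]

end Groth.Agent.Lib.MultiTelescopeH1
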