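import Groth.Agent.Lib.GorFlat3_helper9
import Groth.Agent.S0543

open IsLocalRing PowerSeries

namespace Groth.Agent.Lib.MulticrossH6

universe u

section core

variable {k : Type u} [Field k] {R : Type u} [CommRing R]
  {n : ℕ} (φ : R →+* (Fin n → PowerSeries k))

/-- the multicross subring as a set -/
def MC (k : Type u) [Field k] (n : ℕ) : Set (Fin n → PowerSeries k) :=
  {f | ∀ i j : Fin n, constantCoeff (f i) = constantCoeff (f j)}

variable {φ}

theorem exists_of_mem (hrange : Set.range φ = MC k n) {g : Fin n → PowerSeries k}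
    (hg : g ∈ MC k n) : ∃ r : R, φ r = g := by
  rw [← hrange] at hg; exact hg

theorem phi_mem (hrange : Set.range φ = MC k n) (r : R) : φ r ∈ MC k n := by
  rw [← hrange]; exact ⟨r, rfl⟩

theorem mem_MC_of_const_zero {g : Fin n → PowerSeries k} (hg : ∀ i, constantCoeff (g i) = 0) :
    g ∈ MC k n := fun i j => by rw [hg i, hg j]

theorem isUnit_of_constantCoeff_ne_zero (hinj : Function.Injective φ)
    (hrange : Set.range φ = MC k n) (r : R) (i₀ : Fin n) (h : constantCoeff (φ r i₀) ≠ 0) :
    IsUnit r := by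
  have hall : ∀ i, constantCoeff (φ r i) ≠ 0 := fun i => by
    rw [phi_mem hrange r i i₀]; exact h
  have hu : ∀ i, IsUnit (φ r i) := fun i =>
    PowerSeries.isUnit_iff_constantCoeff.2 (isUnit_iff_ne_zero.2 (hall i))
  let g : Fin n → PowerSeries k := fun i => ((hu i).unit⁻¹ : (PowerSeries k)ˣ)
  have hgm : g ∈ MC k n := by
    intro i j
    have hi : constantCoeff (φ r i) * constantCoeff (g i) = 1 := by
      rw [← map_mul]; simp [g]
    have hj : constantCoeff (φ r j) * constantCoeff (g j) = 1 := by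
      rw [← map_mul]; simp [g]
    rw [phi_mem hrange r i j] at hi
    exact mul_left_cancel₀ (hall j) (hi.trans hj.symm)
  obtain ⟨r', hr'⟩ := exists_of_mem hrange hgm
  have h1 : r * r' = 1 := by
    apply hinj
    rw [map_mul, map_one, hr']
    ext1 i
    simp [g]
  exact isUnit_iff_exists_inv.2 ⟨r', h1⟩

theorem mem_maximalIdeal_iff [IsLocalRing R] (hinj : Function.Injective φ) (hrange : Set.range φ = MC k n)
    (hn : 0 < n) (r : R) : r ∈ maximalIdeal R ↔ ∀ i, constantCoeff (φ r i) = 0 := by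
  rw [mem_maximalIdeal, mem_nonunits_iff]
  constructor
  · intro hr i
    by_contra h
    exact hr (isUnit_of_constantCoeff_ne_zero hinj hrange r i h)
  · intro h hu
    have h1 := (hu.map φ)
    have h2 : IsUnit (φ r ⟨0, hn⟩) := (Pi.isUnit_iff.1 h1) _
    rw [PowerSeries.isUnit_iff_constantCoeff, h ⟨0, hn⟩] at h2
    exact not_isUnit_zero h2

theorem exists_X_mul [IsLocalRing R] (hinj : Function.Injective φ) (hrange : Set.range φ = MC k n)
    (hn : 0 < n) {r : R} (hr : r ∈ maximalIdeal R) :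
    ∃ g : Fin n → PowerSeries k, φ r = fun i => X * g i := by
  have h := (mem_maximalIdeal_iff hinj hrange hn r).1 hr
  have h2 : ∀ i, ∃ gi, φ r i = X * gi := fun i => PowerSeries.X_dvd_iff.2 (h i)
  choose g hg using h2
  exact ⟨g, funext hg⟩


/-- the diagonal parameter -/
theorem exists_x (hrange : Set.range φ = MC k n) : ∃ x : R, φ x = fun _ => X :=
  exists_of_mem hrange (mem_MC_of_const_zero fun _ => by simp)

theorem mul_mem_span [IsLocalRing R] (hinj : Function.Injective φ) (hrange : Set.range φ = MC k n)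
    (hn : 0 < n) {x : R} (hx : φ x = fun _ => X) {a b : R} (ha : a ∈ maximalIdeal R)
    (hb : b ∈ maximalIdeal R) : a * b ∈ Ideal.span {x} := by
  obtain ⟨α, hα⟩ := exists_X_mul hinj hrange hn ha
  obtain ⟨β, hβ⟩ := exists_X_mul hinj hrange hn hb
  obtain ⟨c, hc⟩ := exists_of_mem (φ := φ) hrange
    (g := fun i => X * α i * β i) (mem_MC_of_const_zero fun i => by simp)
  rw [Ideal.mem_span_singleton']
  refine ⟨c, ?_⟩
  apply hinj
  rw [map_mul, map_mul, hc, hx, hα, hβ]
  ext1 i
  simp only [Pi.mul_apply]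
  ring

theorem x_mem [IsLocalRing R] (hinj : Function.Injective φ) (hrange : Set.range φ = MC k n)
    (hn : 0 < n) {x : R} (hx : φ x = fun _ => X) : x ∈ maximalIdeal R := by
  rw [mem_maximalIdeal_iff hinj hrange hn, hx]
  intro i; simp

theorem x_regular (hinj : Function.Injective φ) {x : R} (hx : φ x = fun _ => X) :
    IsSMulRegular R x := by
  intro a b hab
  simp only [smul_eq_mul] at hab
  apply hinj
  have h := congrArg φ hab
  rw [map_mul, map_mul, hx] at h
  ext1 i
  have hi := congrFun h i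
  simp only [Pi.mul_apply] at hi
  exact mul_left_cancel₀ PowerSeries.X_ne_zero hi

theorem dim_quot [IsLocalRing R] (hinj : Function.Injective φ) (hrange : Set.range φ = MC k n)
    (hn : 0 < n) {x : R} (hx : φ x = fun _ => X) :
    ringKrullDim (R ⧸ Ideal.span {x}) = 0 := by
  have hne : Ideal.span {x} ≠ ⊤ := by
    intro h
    have := x_mem hinj hrange hn hx
    have h2 : Ideal.span {x} ≤ maximalIdeal R := (Ideal.span_singleton_le_iff_mem _).2 this
    rw [h] at h2
    exact (maximalIdeal.isMaximal R).ne_top (top_le_iff.1 h2)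
  haveI : Nontrivial (R ⧸ Ideal.span {x}) := Ideal.Quotient.nontrivial_iff.2 hne
  haveI : IsLocalRing (R ⧸ Ideal.span {x}) :=
    IsLocalRing.of_surjective' (Ideal.Quotient.mk _) Ideal.Quotient.mk_surjective
  have key : ∀ z : R ⧸ Ideal.span {x}, IsNilpotent z ↔ ¬ IsUnit z := by
    intro z
    constructor
    · intro hz hu
      exact hz.not_isUnit hu  
    · intro hz
      obtain ⟨r, rfl⟩ := Ideal.Quotient.mk_surjective z
      have hr : r ∈ maximalIdeal R := by
        rw [mem_maximalIdeal, mem_nonunits_iff]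
        intro hu
        exact hz (hu.map _)
      refine ⟨2, ?_⟩
      rw [← map_pow, Ideal.Quotient.eq_zero_iff_mem, pow_two]
      exact mul_mem_span hinj hrange hn hx hr hr
  have h1 := ((Ring.krullDimLE_zero_and_isLocalRing_tfae (R ⧸ Ideal.span {x})).out 2 0 rfl rfl).1 key
  have h2 := Ring.krullDimLE_iff.1 h1.1
  exact le_antisymm (by exact_mod_cast h2) ringKrullDim_nonneg_of_nontrivial


theorem exists_y (hrange : Set.range φ = MC k n) (i : Fin n) :
    ∃ y : R, φ y = Pi.single i X := by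
  apply exists_of_mem hrange
  apply mem_MC_of_const_zero
  intro j
  by_cases h : j = i
  · subst h; simp
  · rw [Pi.single_eq_of_ne h]; simp

theorem y_mem [IsLocalRing R] (hinj : Function.Injective φ) (hrange : Set.range φ = MC k n)
    (hn : 0 < n) {i : Fin n} {y : R} (hy : φ y = Pi.single i X) : y ∈ maximalIdeal R := by
  rw [mem_maximalIdeal_iff hinj hrange hn, hy]
  intro j
  by_cases h : j = i
  · subst h; simp
  · rw [Pi.single_eq_of_ne h]; simp

/-- no element of the form `y_i - λ y_j` (`i ≠ j`, a third index `l`) lies in `(x)`. -/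
theorem not_mem_span (hrange : Set.range φ = MC k n)
    {x : R} (hx : φ x = fun _ => X) {i l : Fin n} (hil : i ≠ l) {z : R}
    (hzi : φ z i = X) (hzl : φ z l = 0) : z ∉ Ideal.span {x} := by
  intro h
  obtain ⟨d, hd⟩ := Ideal.mem_span_singleton'.1 h
  have h1 := congrArg φ hd
  rw [map_mul, hx] at h1
  have hi := congrFun h1 i
  have hl := congrFun h1 l
  simp only [Pi.mul_apply] at hi hl
  rw [hzi] at hi
  rw [hzl] at hl
  have hdi : φ d i = 1 := by
    have : φ d i * X = 1 * X := by rw [hi, one_mul]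
    exact mul_right_cancel₀ PowerSeries.X_ne_zero this
  have hdl : φ d l = 0 := by
    rcases mul_eq_zero.1 hl with h | h
    · exact h
    · exact absurd h PowerSeries.X_ne_zero
  have := phi_mem hrange d i l
  rw [hdi, hdl] at this
  simp at this

theorem n_le_two_of_typeOne [IsLocalRing R] (hinj : Function.Injective φ)
    (hrange : Set.range φ = MC k n) {x : R} (hx : φ x = fun _ => X)
    [IsLocalRing (R ⧸ Ideal.span {x})]
    (hT : Groth.Agent.GorFlat9.TypeOne (R ⧸ Ideal.span {x})) : n ≤ 2 := by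
  by_contra hlt
  push_neg at hlt
  have hn : 0 < n := by omega
  let i1 : Fin n := ⟨0, by omega⟩
  let i2 : Fin n := ⟨1, by omega⟩
  let i3 : Fin n := ⟨2, by omega⟩
  have h12 : i1 ≠ i2 := by simp [i1, i2, Fin.ext_iff]
  have h13 : i1 ≠ i3 := by simp [i1, i3, Fin.ext_iff]
  have h23 : i2 ≠ i3 := by simp [i2, i3, Fin.ext_iff]
  obtain ⟨y1, hy1⟩ := exists_y (φ := φ) hrange i1
  obtain ⟨y2, hy2⟩ := exists_y (φ := φ) hrange i2
  obtain ⟨s, hs0, hsm, hsgen⟩ := hT
  -- `mk a ∈ m̄ → a ∈ m`
  have hlift : ∀ a : R, Ideal.Quotient.mk (Ideal.span {x}) a ∈ maximalIdeal (R ⧸ Ideal.span {x}) →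
      a ∈ maximalIdeal R := by
    intro a ha
    rw [mem_maximalIdeal, mem_nonunits_iff] at ha ⊢
    intro hu
    exact ha (hu.map _)
  have hsoc : ∀ {y : R}, y ∈ maximalIdeal R →
      ∀ a ∈ maximalIdeal (R ⧸ Ideal.span {x}), a * Ideal.Quotient.mk (Ideal.span {x}) y = 0 := by
    intro y hy a ha
    obtain ⟨a, rfl⟩ := Ideal.Quotient.mk_surjective a
    rw [← map_mul, Ideal.Quotient.eq_zero_iff_mem]
    exact mul_mem_span hinj hrange hn hx (hlift a ha) hy
  obtain ⟨c1, hc1⟩ := hsgen _ (hsoc (y_mem hinj hrange hn hy1))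
  obtain ⟨c2, hc2⟩ := hsgen _ (hsoc (y_mem hinj hrange hn hy2))
  have hy1ne : Ideal.Quotient.mk (Ideal.span {x}) y1 ≠ 0 := by
    rw [Ne, Ideal.Quotient.eq_zero_iff_mem]
    apply not_mem_span hrange hx h12
    · rw [hy1]; simp
    · rw [hy1]; exact Pi.single_eq_of_ne h12.symm _
  have hc1u : IsUnit c1 := by
    by_contra hnu
    apply hy1ne
    rw [hc1]
    exact hsm c1 ((mem_maximalIdeal _).2 (mem_nonunits_iff.2 hnu))
  obtain ⟨u, rfl⟩ := hc1u
  have hs : s = (↑u⁻¹ : R ⧸ Ideal.span {x}) * Ideal.Quotient.mk (Ideal.span {x}) y1 := by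
    rw [hc1, ← mul_assoc, Units.inv_mul, one_mul]
  obtain ⟨lam, hlam⟩ := Ideal.Quotient.mk_surjective (c2 * (↑u⁻¹ : R ⧸ Ideal.span {x}))
  have hrel : y2 - lam * y1 ∈ Ideal.span {x} := by
    rw [← Ideal.Quotient.eq_zero_iff_mem, map_sub, map_mul, hlam, hc2, sub_eq_zero, hs]
    ring
  refine not_mem_span hrange hx h23 ?_ ?_ hrel
  · rw [map_sub, map_mul, hy1, hy2]
    simp only [Pi.sub_apply, Pi.mul_apply, Pi.single_eq_same]
    rw [Pi.single_eq_of_ne h12.symm, mul_zero, sub_zero]
  · rw [map_sub, map_mul, hy1, hy2]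
    simp only [Pi.sub_apply, Pi.mul_apply]
    rw [Pi.single_eq_of_ne h23.symm, Pi.single_eq_of_ne h13.symm, mul_zero, sub_zero]


theorem n_eq_two [IsLocalRing R] [IsNoetherianRing R] (hG : LocCoh.IsGorensteinLocalRing R)
    (hn : 2 ≤ n) (hinj : Function.Injective φ) (hrange : Set.range φ = MC k n) : n = 2 := by
  obtain ⟨x, hx⟩ := exists_x (φ := φ) hrange
  have hn0 : 0 < n := by omega
  have hxm := x_mem hinj hrange hn0 hx
  have hreg := x_regular hinj hx
  have hG' := (Groth.Agent.S0343.result R x hxm hreg).1 hG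
  have hne : Ideal.span {x} ≠ ⊤ := by
    intro h
    have h2 : Ideal.span {x} ≤ maximalIdeal R := (Ideal.span_singleton_le_iff_mem _).2 hxm
    rw [h] at h2
    exact (maximalIdeal.isMaximal R).ne_top (top_le_iff.1 h2)
  haveI : Nontrivial (R ⧸ Ideal.span {x}) := Ideal.Quotient.nontrivial_iff.2 hne
  haveI : IsLocalRing (R ⧸ Ideal.span {x}) :=
    IsLocalRing.of_surjective' (Ideal.Quotient.mk _) Ideal.Quotient.mk_surjective
  have hdim := dim_quot hinj hrange hn0 hx
  have hT := (Groth.Agent.GorFlat9.gorenstein_iff_typeOne (R ⧸ Ideal.span {x}) hdim).1 hG'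
  have := n_le_two_of_typeOne hinj hrange hx hT
  omega

end core


section completion

theorem gor_of_isField_quot {A : Type u} [CommRing A] (I : Ideal A) (h : IsField (A ⧸ I)) :
    LocCoh.IsGorensteinLocalRing (A ⧸ I) := by
  haveI : I.IsMaximal := Ideal.Quotient.maximal_of_isField I h
  letI : Field (A ⧸ I) := Ideal.Quotient.field I
  exact Groth.Agent.GorFlat9.gorenstein_of_injective (A ⧸ I)
    (Module.injective_of_isSemisimpleRing (A ⧸ I) (A ⧸ I))

theorem gorenstein_adicCompletion (A : Type u) [CommRing A] [IsLocalRing A] [IsNoetherianRing A]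
    (hA : LocCoh.IsGorensteinLocalRing A) :
    LocCoh.IsGorensteinLocalRing (AdicCompletion (maximalIdeal A) A) := by
  haveI : IsNoetherianRing (AdicCompletion (maximalIdeal A) A) := Groth.Agent.S0543.result A _
  refine (Groth.Agent.GorFlat9.gorenstein_iff A (AdicCompletion (maximalIdeal A) A)).2 ⟨hA, ?_⟩
  apply gor_of_isField_quot
  have hm : EGA4.mB A (AdicCompletion (maximalIdeal A) A) =
      maximalIdeal (AdicCompletion (maximalIdeal A) A) :=
    AdicCompletion.maximalIdeal_eq_map.symm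
  rw [hm]
  exact (Ideal.Quotient.maximal_ideal_iff_isField_quotient _).1 (maximalIdeal.isMaximal _)

end completion

end Groth.Agent.Lib.MulticrossH6
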