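import Mathlib
import Groth.Prelude.Def_Found

set_option autoImplicit false
universe u

namespace Groth.Agent.Lib.N1Laurent

open Polynomial

theorem main (R : Type u) [CommRing R] [IsDomain R] [IsNoetherianRing R]
    (S : Type u) [CommRing S] [IsDomain S] [Algebra (Polynomial R) S]
    [IsLocalization.Away (Polynomial.X : Polynomial R) S] (h : CAlg.IsN1 S) : CAlg.IsN1 R := by
  classical
  let φ : R →+* S := (algebraMap (Polynomial R) S).comp Polynomial.C
  have hXne : (Polynomial.X : Polynomial R) ≠ 0 := Polynomial.X_ne_zero
  have hφinj : Function.Injective φ := by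
    have h1 : Function.Injective (algebraMap (Polynomial R) S) :=
      IsLocalization.injective S (powers_le_nonZeroDivisors_of_noZeroDivisors hXne)
    exact h1.comp Polynomial.C_injective
  have hunit : IsUnit ((Polynomial.evalRingHom (1 : R)) (Polynomial.X : Polynomial R)) := by
    simp
  let ev : S →+* R := IsLocalization.Away.lift (Polynomial.X : Polynomial R) hunit
  have hev : ∀ a : R, ev (φ a) = a := by
    intro a
    show IsLocalization.Away.lift (Polynomial.X : Polynomial R) hunit
      (algebraMap (Polynomial R) S (Polynomial.C a)) = a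
    rw [IsLocalization.Away.lift_eq]
    simp
  let g : R →+* FractionRing S := (algebraMap S (FractionRing S)).comp φ
  have hginj : Function.Injective g := (IsFractionRing.injective S (FractionRing S)).comp hφinj
  let ι : FractionRing R →+* FractionRing S := IsFractionRing.lift hginj
  have hι : ∀ a : R, ι (algebraMap R (FractionRing R) a) = algebraMap S (FractionRing S) (φ a) :=
    fun a => IsFractionRing.lift_algebraMap hginj a
  have hιcomp : ι.comp (algebraMap R (FractionRing R)) =
      (algebraMap S (FractionRing S)).comp φ := RingHom.ext hι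
  haveI : IsNoetherianRing S :=
    IsLocalization.isNoetherianRing (Submonoid.powers (Polynomial.X : Polynomial R)) S
      inferInstance
  have hCfg : (integralClosure S (FractionRing S)).toSubmodule.FG :=
    (Module.Finite.iff_fg (N := (integralClosure S (FractionRing S)).toSubmodule)).mp h
  have hCN : IsNoetherian S ↥(integralClosure S (FractionRing S)).toSubmodule :=
    isNoetherian_of_fg_of_noetherian _ hCfg
  have hint : ∀ x : FractionRing R, IsIntegral R x → IsIntegral S (ι x) := by
    rintro x ⟨p, hp, hpx⟩
    refine ⟨p.map φ, hp.map φ, ?_⟩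
    rw [Polynomial.eval₂_map, ← hιcomp, ← Polynomial.hom_eval₂, hpx, map_zero]
  have hWle : Submodule.span S (ι '' (integralClosure R (FractionRing R) : Set (FractionRing R)))
      ≤ (integralClosure S (FractionRing S)).toSubmodule := by
    rw [Submodule.span_le]
    rintro _ ⟨x, hx, rfl⟩
    exact hint x hx
  have hWfg := isNoetherian_submodule.mp hCN _ hWle
  obtain ⟨s', hs'sub, hs'span⟩ := (Submodule.fg_span_iff_fg_span_finset_subset _).mp hWfg
  let T : Finset (FractionRing R) := s'.preimage ι ι.injective.injOn
  have hT : ∀ x ∈ T, IsIntegral R x := by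
    intro x hx
    rw [Finset.mem_preimage] at hx
    obtain ⟨y, hy, hyx⟩ := hs'sub hx
    rw [← ι.injective hyx]
    exact hy
  have hs'T : (s' : Set (FractionRing S)) ⊆ ι '' (T : Set (FractionRing R)) := by
    intro y hy
    obtain ⟨x, hx, rfl⟩ := hs'sub hy
    refine ⟨x, ?_, rfl⟩
    rw [Finset.mem_coe, Finset.mem_preimage]
    exact hy
  refine (Module.Finite.iff_fg (N := (integralClosure R (FractionRing R)).toSubmodule)).mpr
    ⟨T, le_antisymm ?_ ?_⟩
  · rw [Submodule.span_le]
    intro x hx
    exact hT x hx
  · intro r hr
    have hr' : IsIntegral R r := hr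
    have h1 : ι r ∈ Submodule.span S (ι '' (T : Set (FractionRing R))) := by
      apply Submodule.span_mono hs'T
      rw [← hs'span]
      exact Submodule.subset_span ⟨r, hr', rfl⟩
    obtain ⟨l, hl, hlr⟩ := (Finsupp.mem_span_image_iff_linearCombination S).mp h1
    have hlsupp : l.support ⊆ T := by
      intro x hx
      exact Finset.mem_coe.mp ((Finsupp.mem_supported S l).mp hl hx)
    have hsum : ι r = ∑ x ∈ T, l x • ι x := by
      rw [← hlr, Finsupp.linearCombination_apply,
        Finsupp.sum_of_support_subset l hlsupp (fun x c => c • ι x) (by simp)]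
    obtain ⟨d, hd⟩ := IsLocalization.exist_integer_multiples_of_finset (nonZeroDivisors R)
      (insert r T)
    have hd' : ∀ x ∈ insert r T, ∃ a : R, algebraMap R (FractionRing R) a = (d : R) • x :=
      fun x hx => RingHom.mem_rangeS.mp (hd x hx)
    choose! a ha using hd'
    have hd0 : algebraMap R (FractionRing R) (d : R) ≠ 0 := by
      intro h0
      have := (IsFractionRing.injective R (FractionRing R)) (h0.trans (map_zero _).symm)
      exact nonZeroDivisors.ne_zero d.2 this
    -- image of d • x
    have hιd : ∀ x ∈ insert r T, algebraMap S (FractionRing S) (φ (a x)) =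
        algebraMap S (FractionRing S) (φ (d : R)) * ι x := by
      intro x hx
      rw [← hι, ha x hx, Algebra.smul_def, map_mul, hι]
    have hkey : algebraMap S (FractionRing S) (φ (a r)) =
        algebraMap S (FractionRing S) (∑ x ∈ T, l x * φ (a x)) := by
      rw [hιd r (Finset.mem_insert_self r T), hsum, Finset.mul_sum, map_sum]
      apply Finset.sum_congr rfl
      intro x hx
      rw [map_mul, hιd x (Finset.mem_insert_of_mem hx), Algebra.smul_def]
      ring
    have hkey' : φ (a r) = ∑ x ∈ T, l x * φ (a x) :=
      IsFractionRing.injective S (FractionRing S) hkey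
    have hkey'' : a r = ∑ x ∈ T, ev (l x) * a x := by
      have := congrArg ev hkey'
      rw [hev, map_sum] at this
      rw [this]
      apply Finset.sum_congr rfl
      intro x _
      rw [map_mul, hev]
    have hfinal : algebraMap R (FractionRing R) (d : R) * r =
        algebraMap R (FractionRing R) (d : R) * ∑ x ∈ T, ev (l x) • x := by
      rw [← Algebra.smul_def, ← ha r (Finset.mem_insert_self r T), hkey'', map_sum,
        Finset.mul_sum]
      apply Finset.sum_congr rfl
      intro x hx
      rw [map_mul, ha x (Finset.mem_insert_of_mem hx), Algebra.smul_def, Algebra.smul_def]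
      ring
    have hr_eq : r = ∑ x ∈ T, ev (l x) • x := mul_left_cancel₀ hd0 hfinal
    rw [hr_eq]
    exact Submodule.sum_mem _ (fun x hx =>
      Submodule.smul_mem _ _ (Submodule.subset_span (Finset.mem_coe.mpr hx)))

end Groth.Agent.Lib.N1Laurent
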