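import Mathlib
import Groth.Prelude.Def_Found
import Groth.Agent.Lib.PSN2_helper3

/-!
# Descent of N-2 along finite injective maps; `R⟦X⟧` is N-2 for `R` Noetherian N-2 (helper3)
APPEND-ONLY once landed.
-/

set_option autoImplicit false
universe u

open TensorProduct

namespace Groth.Agent.Lib.N2DescentH3

section Descent

set_option maxHeartbeats 1000000 in
/-- If `R₁ ⊆ R₂` is a finite extension of domains, `R₁` Noetherian and `R₂` N-2, then `R₁` is
N-2. -/
theorem isN2_of_finite_injective_descent (R₁ R₂ : Type u) [CommRing R₁] [IsDomain R₁]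
    [IsNoetherianRing R₁] [CommRing R₂] [IsDomain R₂] [Algebra R₁ R₂] [Module.Finite R₁ R₂]
    (hinj : Function.Injective (algebraMap R₁ R₂)) (h : CAlg.IsN2 R₂) : CAlg.IsN2 R₁ := by
  classical
  intro L _ _ _ _ hfin
  haveI := hfin
  haveI : FaithfulSMul R₁ (FractionRing R₂) := by
    rw [faithfulSMul_iff_algebraMap_injective, IsScalarTower.algebraMap_eq R₁ R₂ (FractionRing R₂)]
    exact (IsFractionRing.injective R₂ (FractionRing R₂)).comp hinj
  letI : Algebra (FractionRing R₁) (FractionRing R₂) :=
    FractionRing.liftAlgebra R₁ (FractionRing R₂)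
  obtain ⟨m, hm⟩ := Ideal.exists_maximal (FractionRing R₂ ⊗[FractionRing R₁] L)
  haveI := hm
  letI : Field ((FractionRing R₂ ⊗[FractionRing R₁] L) ⧸ m) := Ideal.Quotient.field m
  have hfin2 : Module.Finite R₂
      (integralClosure R₂ ((FractionRing R₂ ⊗[FractionRing R₁] L) ⧸ m)) :=
    h ((FractionRing R₂ ⊗[FractionRing R₁] L) ⧸ m) inferInstance
  haveI : Module.Finite R₁ (integralClosure R₂ ((FractionRing R₂ ⊗[FractionRing R₁] L) ⧸ m)) :=
    Module.Finite.trans R₂ _
  haveI : IsNoetherian R₁ (integralClosure R₂ ((FractionRing R₂ ⊗[FractionRing R₁] L) ⧸ m)) :=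
    isNoetherian_of_isNoetherianRing_of_finite R₁ _
  -- the embedding of `L`
  let ι : L →+* (FractionRing R₂ ⊗[FractionRing R₁] L) ⧸ m :=
    (Ideal.Quotient.mk m).comp
      (Algebra.TensorProduct.includeRight :
        L →ₐ[FractionRing R₁] FractionRing R₂ ⊗[FractionRing R₁] L).toRingHom
  have hcomm : ∀ r : R₁, algebraMap R₁ ((FractionRing R₂ ⊗[FractionRing R₁] L) ⧸ m) r =
      ι (algebraMap R₁ L r) := by
    intro r
    show algebraMap R₁ _ r =
      Ideal.Quotient.mk m ((1 : FractionRing R₂) ⊗ₜ[FractionRing R₁] (algebraMap R₁ L r))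
    rw [IsScalarTower.algebraMap_apply R₁ (FractionRing R₂ ⊗[FractionRing R₁] L)
      ((FractionRing R₂ ⊗[FractionRing R₁] L) ⧸ m), Ideal.Quotient.algebraMap_eq]
    congr 1
    rw [Algebra.TensorProduct.algebraMap_apply,
      IsScalarTower.algebraMap_apply R₁ (FractionRing R₁) (FractionRing R₂),
      IsScalarTower.algebraMap_apply R₁ (FractionRing R₁) L,
      Algebra.algebraMap_eq_smul_one (algebraMap R₁ (FractionRing R₁) r),
      Algebra.algebraMap_eq_smul_one (A := L) (algebraMap R₁ (FractionRing R₁) r),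
      TensorProduct.smul_tmul]
  have hint : ∀ x : L, IsIntegral R₁ x → IsIntegral R₂ (ι x) := by
    intro x hx
    exact hx.map_of_comp_eq (algebraMap R₁ R₂) ι (RingHom.ext fun r => hcomm r)
  let J : integralClosure R₁ L →ₗ[R₁]
      integralClosure R₂ ((FractionRing R₂ ⊗[FractionRing R₁] L) ⧸ m) :=
    { toFun := fun x => ⟨ι x.1, hint x.1 x.2⟩
      map_add' := fun x y => Subtype.ext (map_add ι x.1 y.1)
      map_smul' := fun r x => Subtype.ext (by
        show ι ((r • x : integralClosure R₁ L) : L) = r • ι (x : L)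
        have h1 : ((r • x : integralClosure R₁ L) : L) = algebraMap R₁ L r * (x : L) := by
          rw [← Algebra.smul_def]
          rfl
        rw [h1, map_mul, ← hcomm, ← Algebra.smul_def]) }
  have hJ : Function.Injective J := by
    intro x y hxy
    exact Subtype.ext (ι.injective (congrArg Subtype.val hxy))
  exact Module.Finite.of_injective J hJ

end Descent

section PS

open PowerSeries

attribute [local instance] PSNormalH3.psAlg

theorem finite_powerSeries (R R' : Type u) [CommRing R] [CommRing R'] [Algebra R R']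
    [Module.Finite R R'] : Module.Finite R⟦X⟧ R'⟦X⟧ := by
  classical
  obtain ⟨n, e, he⟩ := Module.Finite.exists_fin (R := R) (M := R')
  refine ⟨⟨Finset.univ.image (fun i => (C (e i) : R'⟦X⟧)), ?_⟩⟩
  rw [eq_top_iff]
  intro p _
  have hc : ∀ k, ∃ a : Fin n → R, coeff k p = ∑ i, a i • e i := by
    intro k
    have h1 : coeff k p ∈ Submodule.span R (Set.range e) := he ▸ Submodule.mem_top
    obtain ⟨a, ha⟩ := (Submodule.mem_span_range_iff_exists_fun R).mp h1
    exact ⟨a, ha.symm⟩
  choose a ha using hc
  have hp : p = ∑ i, (mk fun k => a k i : R⟦X⟧) • (C (e i) : R'⟦X⟧) := by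
    ext k
    rw [map_sum, ha k]
    refine Finset.sum_congr rfl fun i _ => ?_
    rw [Algebra.smul_def]
    change _ = coeff k (map (algebraMap R R') (mk fun k => a k i) * C (e i))
    rw [coeff_mul_C, coeff_map, coeff_mk]
  rw [hp]
  exact Submodule.sum_mem _ fun i _ => Submodule.smul_mem _ _ (Submodule.subset_span (by simp))

set_option maxHeartbeats 1000000 in
/-- `R` Noetherian N-2 domain ⇒ `R⟦X⟧` is N-2. -/
theorem isN2_powerSeries (R : Type u) [CommRing R] [IsDomain R] [IsNoetherianRing R]
    (h : CAlg.IsN2 R) : CAlg.IsN2 R⟦X⟧ := by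
  have hN1 : Module.Finite R (integralClosure R (FractionRing R)) :=
    h (FractionRing R) inferInstance
  haveI := hN1
  haveI : IsNoetherianRing (integralClosure R (FractionRing R)) :=
    IsNoetherianRing.of_finite R _
  haveI : IsIntegrallyClosed (integralClosure R (FractionRing R)) :=
    integralClosure.isIntegrallyClosedOfFiniteExtension (FractionRing R)
  have hinj : Function.Injective (algebraMap R (integralClosure R (FractionRing R))) := by
    intro a b hab
    exact IsFractionRing.injective R (FractionRing R) (congrArg Subtype.val hab)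
  have hR' : CAlg.IsN2 (integralClosure R (FractionRing R)) :=
    N2QuasiFiniteH3.isN2_of_finite_injective R _ hinj h
  have hPS : CAlg.IsN2 (integralClosure R (FractionRing R))⟦X⟧ :=
    PSN2H3.isN2_powerSeries_of_normal _ hR'
  haveI : Module.Finite R⟦X⟧ (integralClosure R (FractionRing R))⟦X⟧ := finite_powerSeries R _
  exact isN2_of_finite_injective_descent R⟦X⟧ _ (PowerSeries.map_injective _ hinj) hPS

end PS

end Groth.Agent.Lib.N2DescentH3
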