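import Mathlib
import Groth.Agent.Lib.NApxG_helper7

/-!
# Noetherian approximation, module I: finite type schemes as limits of finitely presented ones
with closed immersions as transition maps (helper7)
-/

set_option autoImplicit false
set_option linter.style.haveILetI false
universe u
open CategoryTheory CategoryTheory.Limits AlgebraicGeometry TopologicalSpace Opposite

namespace Groth.Agent.Lib.NApxI_helper7
open Groth.Agent.Lib.NApxG_helper7

attribute [local instance] IsCofiltered.isConnected in
/-- **S7380** -/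
theorem main7380 {X S : Scheme.{u}} (f : X ⟶ S) [LocallyOfFiniteType f] [CompactSpace X]
    [QuasiSeparatedSpace X] [QuasiSeparatedSpace S] :
    ∃ (I : Type u) (_ : Preorder I) (_ : IsDirected I (fun a b => a ≤ b)) (_ : Nonempty I)
      (D : Iᵒᵖ ⥤ Over S) (c : Limits.Cone D) (_ : Limits.IsLimit c),
      (∀ i, LocallyOfFinitePresentation (D.obj i).hom ∧ QuasiCompact (D.obj i).hom ∧
        QuasiSeparated (D.obj i).hom ∧ CompactSpace (D.obj i).left ∧
        QuasiSeparatedSpace (D.obj i).left) ∧
      (∀ (i j : Iᵒᵖ) (a : i ⟶ j), IsClosedImmersion (D.map a).left) ∧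
      Nonempty (c.pt ≅ Over.mk f) := by
  obtain ⟨Y, g, ι, hg1, hg2, hg3, hι, hιg, hY1, hY2⟩ := closedImmersion_fp f
  haveI := hg1
  haveI := hg2
  haveI := hg3
  haveI := hι
  haveI := hY1
  haveI := hY2
  obtain ⟨I, iP, iD, iN, D, c, hc, hD, ⟨e⟩⟩ := Groth.Agent.Lib.IdealFTH7.main7379 ι
  haveI hDci : ∀ i, IsClosedImmersion (D.obj i).hom := fun i => (hD i).1
  haveI hDfp : ∀ i, LocallyOfFinitePresentation (D.obj i).hom := fun i => (hD i).2
  have hsep : ∀ i, IsSeparated (D.obj i).hom := fun i => by
    haveI := hDci i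
    infer_instance
  have htrans : ∀ {i j : Iᵒᵖ} (a : i ⟶ j), IsClosedImmersion (D.map a).left := by
    intro i j a
    have h1 : (D.map a).left ≫ (D.obj j).hom = (D.obj i).hom := Over.w (D.map a)
    have h2 : IsClosedImmersion ((D.map a).left ≫ (D.obj j).hom) := by
      rw [h1]
      exact hDci i
    exact @IsClosedImmersion.of_comp _ _ _ (D.map a).left (D.obj j).hom h2 (hsep j)
  have hc1 : IsLimit ((Over.forget Y).mapCone c) := isLimitOfPreserves (Over.forget Y) hc
  have hc2 : IsLimit ((Over.forget S).mapCone ((Over.map g).mapCone c)) := hc1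
  have hc' : IsLimit ((Over.map g).mapCone c) := isLimitOfReflects (Over.forget S) hc2
  subst hιg
  refine ⟨I, iP, iD, iN, D ⋙ Over.map g, (Over.map g).mapCone c, hc', fun i => ?_,
    fun i j a => htrans a, ⟨(Over.map g).mapIso e⟩⟩
  show LocallyOfFinitePresentation ((D.obj i).hom ≫ g) ∧ QuasiCompact ((D.obj i).hom ≫ g) ∧
    QuasiSeparated ((D.obj i).hom ≫ g) ∧ CompactSpace (D.obj i).left ∧
    QuasiSeparatedSpace (D.obj i).left
  haveI := hDci i
  haveI := hDfp i
  refine ⟨inferInstance, inferInstance, inferInstance, ?_, ?_⟩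
  · exact QuasiCompact.compactSpace_of_compactSpace (D.obj i).hom
  · exact quasiSeparatedSpace_of_quasiSeparated (D.obj i).hom

end Groth.Agent.Lib.NApxI_helper7
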