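import Mathlib
import Groth.Agent.Lib.NApxK_helper7
import Groth.Agent.Lib.LimSep2_helper7

/-!
# Noetherian approximation, module L: factoring a morphism of qcqs schemes as affine followed by
finitely presented (helper7)
-/

set_option autoImplicit false
set_option linter.style.haveILetI false
universe u
open CategoryTheory CategoryTheory.Limits AlgebraicGeometry TopologicalSpace Opposite

namespace Groth.Agent.Lib.NApxL_helper7
open Groth.Agent.Lib.NApxJ_helper7

attribute [local instance] IsCofiltered.isConnected in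
/-- **S17880** -/
theorem main17880 {X Y : Scheme.{u}} (f : Y ⟶ X)
    [CompactSpace X] [QuasiSeparatedSpace X] [CompactSpace Y] [QuasiSeparatedSpace Y] :
    ∃ (Z : Scheme.{u}) (g : Y ⟶ Z) (h : Z ⟶ X), IsAffineHom g ∧ LocallyOfFinitePresentation h ∧
      QuasiCompact h ∧ QuasiSeparated h ∧ (IsSeparated f → IsSeparated h) ∧ g ≫ h = f := by
  obtain ⟨I, iP, iD, iN, D, c, hc, h1, h2, ⟨e⟩⟩ := main7383 f
  have hc' : IsLimit ((Over.forget X).mapCone c) := isLimitOfPreserves (Over.forget X) hc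
  haveI hAff : ∀ (i j : Iᵒᵖ) (a : i ⟶ j), IsAffineHom ((D ⋙ Over.forget X).map a) :=
    fun i j a => h2 i j a
  haveI hAff' : ∀ {i j : Iᵒᵖ} (a : i ⟶ j), IsAffineHom ((D ⋙ Over.forget X).map a) :=
    fun {i j} a => h2 i j a
  haveI : ∀ i, CompactSpace ((D ⋙ Over.forget X).obj i) := fun i => by
    have hX : CompactSpace X := inferInstance
    exact @QuasiCompact.compactSpace_of_compactSpace _ _ (D.obj i).hom (h1 i).2.1 hX
  haveI : ∀ i, QuasiSeparatedSpace ((D ⋙ Over.forget X).obj i) := fun i => by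
    have hX : QuasiSeparatedSpace X := inferInstance
    exact @quasiSeparatedSpace_of_quasiSeparated _ _ (D.obj i).hom hX (h1 i).2.2
  have key : ∀ i : Iᵒᵖ, IsAffineHom (e.inv.left ≫ (c.π.app i).left) ∧
      (e.inv.left ≫ (c.π.app i).left) ≫ (D.obj i).hom = f := by
    intro i
    constructor
    · haveI h3 : IsAffineHom (((Over.forget X).mapCone c).π.app i) :=
        isAffineHom_π_app _ _ hc' i
      haveI : IsAffineHom (c.π.app i).left := h3
      haveI : IsIso e.inv.left := inferInstance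
      infer_instance
    · exact Over.w (e.inv ≫ c.π.app i)
  by_cases hf : IsSeparated f
  · obtain ⟨i₀⟩ : Nonempty Iᵒᵖ := ⟨op (Classical.arbitrary I)⟩
    haveI : IsSeparated (((Over.forget X).mapCone c).π.app i₀ ≫ (D.obj i₀).hom) := by
      have h3 : (c.π.app i₀).left ≫ (D.obj i₀).hom = c.pt.hom := Over.w (c.π.app i₀)
      have h4 : e.hom.left ≫ f = c.pt.hom := Over.w e.hom
      show IsSeparated ((c.π.app i₀).left ≫ (D.obj i₀).hom)
      rw [h3, ← h4]
      haveI : IsIso e.hom.left := inferInstance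
      infer_instance
    obtain ⟨i₁, hi₁⟩ := Groth.Agent.Lib.LimSep2H7.relative X (D ⋙ Over.forget X)
      (fun i => (D.obj i).hom) (fun {i j} φ => Over.w (D.map φ))
      ((Over.forget X).mapCone c) hc' i₀
    exact ⟨(D.obj i₁).left, _, (D.obj i₁).hom, (key i₁).1, (h1 i₁).1, (h1 i₁).2.1, (h1 i₁).2.2,
      fun _ => hi₁ i₁ (𝟙 _), (key i₁).2⟩
  · obtain ⟨i₁⟩ : Nonempty Iᵒᵖ := ⟨op (Classical.arbitrary I)⟩
    exact ⟨(D.obj i₁).left, _, (D.obj i₁).hom, (key i₁).1, (h1 i₁).1, (h1 i₁).2.1, (h1 i₁).2.2,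
      fun h => absurd h hf, (key i₁).2⟩

end Groth.Agent.Lib.NApxL_helper7
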