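import Mathlib
import Groth.Prelude.Def_NCTr
import Groth.Agent.S4239

namespace Groth.Agent.Lib.NCTrG

theorem main (Λ : Type*) [Ring Λ] (G : Type*) [Group G] [Fintype G]
    (P : Type*) [AddCommGroup P] [Module Λ P] [Module (MonoidAlgebra Λ G) P]
    [IsScalarTower Λ (MonoidAlgebra Λ G) P]
    {ι κ : Type*} [Fintype ι] [Fintype κ]
    (b : Module.Basis ι (MonoidAlgebra Λ G) P) (c : Module.Basis κ Λ P)
    (u : P →ₗ[MonoidAlgebra Λ G] P) :
    NCTr.hsTrace c (u.restrictScalars Λ) =
      Fintype.card G • ∑ i, (QuotientAddGroup.mk ((b.repr (u (b i)) i).coeff 1) : NCTr.Abel Λ) := by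
  classical
  let B : Module.Basis (G × ι) Λ P := (MonoidAlgebra.basis G Λ).smulTower b
  rw [Groth.Agent.S4239.result Λ P c B (u.restrictScalars Λ)]
  unfold NCTr.hsTrace
  rw [Fintype.sum_prod_type]
  have hterm : ∀ (g : G) (i : ι), B.repr ((u.restrictScalars Λ) (B (g, i))) (g, i) =
      (b.repr (u (b i)) i).coeff 1 := by
    intro g i
    have h1 : B (g, i) = MonoidAlgebra.single g (1:Λ) • b i := by
      simp [B, Module.Basis.smulTower_apply]
    rw [h1, LinearMap.restrictScalars_apply, map_smul, Module.Basis.smulTower_repr]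
    simp only [map_smul, Finsupp.smul_apply, smul_eq_mul]
    show (MonoidAlgebra.single g (1:Λ) * b.repr (u (b i)) i).coeff g = _
    rw [MonoidAlgebra.coeff_single_mul_apply, one_mul, inv_mul_cancel]
  simp_rw [hterm]
  rw [Finset.sum_const, Finset.card_univ]

end Groth.Agent.Lib.NCTrG
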