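import Mathlib

open scoped Classical
open Polynomial UniqueFactorizationMonoid

namespace Groth.Agent.Lib.NFBaseChange

universe u v
variable {K : Type u} {L : Type v} [Field K] [Field L] [Algebra K L]

local notation "φ" => algebraMap K L

theorem monic_of_normalize_eq {F : Type*} [Field F] {P : F[X]} (h0 : P ≠ 0)
    (hn : normalize P = P) : P.Monic := by
  rw [← hn]; exact monic_normalize h0

theorem count_map_eq [PerfectField K] {Q : K[X]} (hQ : Irreducible Q) (hQn : normalize Q = Q)
    {P : L[X]} (hP : Irreducible P) (hPn : normalize P = P) (hPQ : P ∣ Q.map φ)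
    {g : K[X]} (hg : g ≠ 0) :
    (normalizedFactors (g.map φ)).count P = (normalizedFactors g).count Q := by
  obtain ⟨m, hm⟩ : ∃ m, (normalizedFactors g).count Q = m := ⟨_, rfl⟩
  rw [hm]
  have hmult : emultiplicity Q g = m := by
    rw [emultiplicity_eq_count_normalizedFactors hQ hg, hQn, hm]
  obtain ⟨hle, hlt⟩ := emultiplicity_eq_coe.mp hmult
  obtain ⟨h, hgh⟩ := hle
  have hQh : ¬ Q ∣ h := by
    intro hd
    apply hlt
    obtain ⟨h', hh'⟩ := hd
    exact ⟨h', by rw [hgh, hh', pow_succ]; ring⟩
  have hcop : IsCoprime Q h := (hQ.coprime_iff_not_dvd).mpr hQh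
  have hcopL : IsCoprime (Q.map φ) (h.map φ) := by
    have := hcop.map (Polynomial.mapRingHom φ)
    simpa using this
  obtain ⟨P', hP'⟩ := hPQ
  have hsep : (Q.map φ).Separable := (PerfectField.separable_of_irreducible hQ).map
  have hsq : Squarefree (Q.map φ) := hsep.squarefree
  have hPprime : Prime P := hP.prime
  apply count_normalizedFactors_eq hP hPn
  · rw [hgh, Polynomial.map_mul, Polynomial.map_pow]
    exact Dvd.dvd.mul_right (pow_dvd_pow_of_dvd ⟨P', hP'⟩ m) _
  · intro hd
    rw [hgh, Polynomial.map_mul, Polynomial.map_pow, hP', mul_pow, mul_assoc, pow_succ] at hd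
    have hPm : P ^ m ≠ 0 := pow_ne_zero _ hP.ne_zero
    have hd' : P ∣ P' ^ m * h.map φ := (mul_dvd_mul_iff_left hPm).mp hd
    rcases hPprime.dvd_or_dvd hd' with h1 | h1
    · have h2 : P ∣ P' := hPprime.dvd_of_dvd_pow h1
      obtain ⟨c, hc⟩ := h2
      have h3 : P * P ∣ Q.map φ := ⟨c, by rw [hP', hc]; ring⟩
      exact hP.not_isUnit (hsq P h3)
    · have h2 : P ∣ Q.map φ := ⟨P', hP'⟩
      exact hP.not_isUnit (hcopL.isUnit_of_dvd' h2 h1)

theorem mem_nf_map_iff {f : K[X]} (hf : f ≠ 0) (P : L[X]) :
    P ∈ normalizedFactors (f.map φ) ↔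
      ∃ Q ∈ normalizedFactors f, P ∈ normalizedFactors (Q.map φ) := by
  have hfL : f.map φ ≠ 0 := Polynomial.map_ne_zero hf
  constructor
  · intro hP
    obtain ⟨hirr, hnorm, hdvd⟩ := (mem_normalizedFactors_iff' hfL).mp hP
    have hassoc := prod_normalizedFactors hf
    have h1 : Associated (((normalizedFactors f).prod).map φ) (f.map φ) := by
      have := hassoc.map (Polynomial.mapRingHom φ)
      simpa using this
    have h2 : P ∣ ((normalizedFactors f).prod).map φ := (h1.dvd_iff_dvd_right).mpr hdvd
    rw [Polynomial.map_multiset_prod] at h2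
    obtain ⟨Q, hQ, hPQ⟩ := hirr.prime.exists_mem_multiset_map_dvd h2
    have hQL : Q.map φ ≠ 0 := Polynomial.map_ne_zero (irreducible_of_normalized_factor Q hQ).ne_zero
    exact ⟨Q, hQ, (mem_normalizedFactors_iff' hQL).mpr ⟨hirr, hnorm, hPQ⟩⟩
  · rintro ⟨Q, hQ, hP⟩
    have hQL : Q.map φ ≠ 0 := Polynomial.map_ne_zero (irreducible_of_normalized_factor Q hQ).ne_zero
    obtain ⟨hirr, hnorm, hdvd⟩ := (mem_normalizedFactors_iff' hQL).mp hP
    exact (mem_normalizedFactors_iff' hfL).mpr
      ⟨hirr, hnorm, hdvd.trans (Polynomial.map_dvd φ (dvd_of_mem_normalizedFactors hQ))⟩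

theorem disjoint_nf {Q Q' : K[X]} (hQ : Irreducible Q) (hQn : normalize Q = Q)
    (hQ' : Irreducible Q') (hQ'n : normalize Q' = Q') (hne : Q ≠ Q') :
    Disjoint (normalizedFactors (Q.map φ)).toFinset (normalizedFactors (Q'.map φ)).toFinset := by
  rw [Finset.disjoint_left]
  intro P h1 h2
  rw [Multiset.mem_toFinset] at h1 h2
  obtain ⟨hirr, -, hd1⟩ := (mem_normalizedFactors_iff' (Polynomial.map_ne_zero hQ.ne_zero)).mp h1
  obtain ⟨-, -, hd2⟩ := (mem_normalizedFactors_iff' (Polynomial.map_ne_zero hQ'.ne_zero)).mp h2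
  have hnd : ¬ Q ∣ Q' := by
    intro hd
    have hassoc : Associated Q Q' := hQ.associated_of_dvd hQ' hd
    have := normalize_eq_normalize_iff_associated.mpr hassoc
    rw [hQn, hQ'n] at this
    exact hne this
  have hcop : IsCoprime Q Q' := hQ.coprime_iff_not_dvd.mpr hnd
  have hcopL : IsCoprime (Q.map φ) (Q'.map φ) := by
    have := hcop.map (Polynomial.mapRingHom φ)
    simpa using this
  exact hirr.not_isUnit (hcopL.isUnit_of_dvd' hd1 hd2)

theorem sum_natDegree_nf [PerfectField K] {Q : K[X]} (hQ : Irreducible Q) :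
    ∑ P ∈ (normalizedFactors (Q.map φ)).toFinset, P.natDegree = Q.natDegree := by
  have hQL : Q.map φ ≠ 0 := Polynomial.map_ne_zero hQ.ne_zero
  have hsq : Squarefree (Q.map φ) :=
    ((PerfectField.separable_of_irreducible hQ).map).squarefree
  have hnd : (normalizedFactors (Q.map φ)).Nodup :=
    (squarefree_iff_nodup_normalizedFactors hQL).mp hsq
  have hval : (normalizedFactors (Q.map φ)).toFinset.val = normalizedFactors (Q.map φ) := by
    rw [Multiset.toFinset_val]; exact Multiset.dedup_eq_self.mpr hnd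
  have hmonic : ∀ P ∈ normalizedFactors (Q.map φ), P.Monic := by
    intro P hP
    exact monic_of_normalize_eq (irreducible_of_normalized_factor P hP).ne_zero
      (normalize_normalized_factor P hP)
  calc ∑ P ∈ (normalizedFactors (Q.map φ)).toFinset, P.natDegree
      = ((normalizedFactors (Q.map φ)).map natDegree).sum := by
        rw [Finset.sum_eq_multiset_sum, hval]
    _ = (normalizedFactors (Q.map φ)).prod.natDegree :=
        (natDegree_multiset_prod_of_monic (t := normalizedFactors (Q.map φ)) hmonic).symm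
    _ = (Q.map φ).natDegree := by
        have := prod_normalizedFactors hQL
        exact natDegree_eq_of_degree_eq (degree_eq_degree_of_associated this)
    _ = Q.natDegree := Polynomial.natDegree_map φ

theorem main [PerfectField K] (f₁ f₂ : K[X]) (h₁ : f₁ ≠ 0) (h₂ : f₂ ≠ 0) :
    ∑ P ∈ (normalizedFactors (f₁.map (algebraMap K L))).toFinset,
        (normalizedFactors (f₁.map (algebraMap K L))).count P *
          (normalizedFactors (f₂.map (algebraMap K L))).count P * P.natDegree =
      ∑ P ∈ (normalizedFactors f₁).toFinset,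
        (normalizedFactors f₁).count P * (normalizedFactors f₂).count P * P.natDegree := by
  have hset : (normalizedFactors (f₁.map φ)).toFinset =
      (normalizedFactors f₁).toFinset.biUnion
        (fun Q => (normalizedFactors (Q.map φ)).toFinset) := by
    ext P
    simp only [Multiset.mem_toFinset, Finset.mem_biUnion]
    exact mem_nf_map_iff h₁ P
  rw [hset, Finset.sum_biUnion]
  · apply Finset.sum_congr rfl
    intro Q hQ
    rw [Multiset.mem_toFinset] at hQ
    have hQi := irreducible_of_normalized_factor Q hQ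
    have hQn := normalize_normalized_factor Q hQ
    rw [← sum_natDegree_nf (L := L) hQi, Finset.mul_sum]
    apply Finset.sum_congr rfl
    intro P hP
    rw [Multiset.mem_toFinset] at hP
    obtain ⟨hPi, hPn, hPd⟩ :=
      (mem_normalizedFactors_iff' (Polynomial.map_ne_zero hQi.ne_zero)).mp hP
    rw [count_map_eq hQi hQn hPi hPn hPd h₁, count_map_eq hQi hQn hPi hPn hPd h₂]
  · intro Q hQ Q' hQ' hne
    rw [Finset.mem_coe, Multiset.mem_toFinset] at hQ hQ'
    exact disjoint_nf (irreducible_of_normalized_factor Q hQ) (normalize_normalized_factor Q hQ)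
      (irreducible_of_normalized_factor Q' hQ') (normalize_normalized_factor Q' hQ') hne

end Groth.Agent.Lib.NFBaseChange
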