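import Mathlib
import Groth.Prelude

set_option autoImplicit false
set_option linter.unusedVariables false
set_option linter.style.haveILetI false

universe u

open TensorProduct MvPolynomial

namespace Groth.Agent.Lib.NLBcSurjH4

variable {R S R' S' : Type u} [CommRing R] [CommRing S] [CommRing R'] [CommRing S']
  [Algebra R S] [Algebra R' S'] [Algebra R R'] [Algebra S S'] [Algebra R S']
  [IsScalarTower R R' S'] [IsScalarTower R S S']

/-- Diagram chase: surjective in degree `-1`, injective in degree `0` gives surjective on `H^{-1}`. -/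
theorem bcH1Map_surjective_of {P : Algebra.Extension.{u} R S} {P' : Algebra.Extension.{u} R' S'}
    (f : P.Hom P')
    (h1 : Function.Surjective (LinearMap.liftBaseChange S' (Algebra.Extension.Cotangent.map f)))
    (h0 : Function.Injective
      (LinearMap.liftBaseChange S' (Algebra.Extension.CotangentSpace.map f))) :
    Function.Surjective (NLCx.bcH1Map f) := by
  intro z'
  obtain ⟨z, hz⟩ := h1 z'.1
  have key : P'.cotangentComplex ∘ₗ
      LinearMap.liftBaseChange S' (Algebra.Extension.Cotangent.map f) =
      LinearMap.liftBaseChange S' (Algebra.Extension.CotangentSpace.map f) ∘ₗ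
        P.cotangentComplex.baseChange S' := by
    ext y
    simpa using (Algebra.Extension.CotangentSpace.map_cotangentComplex f y).symm
  have hz' : P'.cotangentComplex z'.1 = 0 := z'.2
  have hzk : z ∈ NLCx.bcH1 P S' := by
    change P.cotangentComplex.baseChange S' z = 0
    apply h0
    have := congr($key z)
    simp only [LinearMap.coe_comp, Function.comp_apply] at this
    rw [map_zero, ← this, hz, hz']
  refine ⟨⟨z, hzk⟩, ?_⟩
  refine Algebra.Extension.h1Cotangentι_ext _ _ ?_
  exact hz

/-- The kernel of the base-changed presentation is generated by the image of the kernel. -/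
theorem ker_le_map {ι : Type u} [Algebra.IsPushout R R' S S'] (v : ι → S)
    (hv : Function.Surjective (aeval v : MvPolynomial ι R →ₐ[R] S)) (v' : ι → S')
    (h : ∀ i, v' i = algebraMap S S' (v i)) :
    RingHom.ker (aeval v' : MvPolynomial ι R' →ₐ[R'] S') ≤
      Ideal.map (MvPolynomial.map (algebraMap R R'))
        (RingHom.ker (aeval v : MvPolynomial ι R →ₐ[R] S)) := by
  obtain ⟨J, hJ⟩ : ∃ J : Ideal (MvPolynomial ι R'),
      J = Ideal.map (MvPolynomial.map (algebraMap R R'))
        (RingHom.ker (aeval v : MvPolynomial ι R →ₐ[R] S)) := ⟨_, rfl⟩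
  rw [← hJ]
  obtain ⟨φ₀, hφ₀⟩ : ∃ φ₀ : MvPolynomial ι R →ₐ[R] (MvPolynomial ι R' ⧸ J),
      ∀ p, φ₀ p = Ideal.Quotient.mk J (MvPolynomial.map (algebraMap R R') p) := by
    refine ⟨aeval (fun i => Ideal.Quotient.mk J (X i)), fun p => ?_⟩
    have : ((aeval (fun i => Ideal.Quotient.mk J (X i)) :
        MvPolynomial ι R →ₐ[R] (MvPolynomial ι R' ⧸ J)) :
          MvPolynomial ι R →+* (MvPolynomial ι R' ⧸ J)) =
        (Ideal.Quotient.mk J).comp (MvPolynomial.map (algebraMap R R')) := by
      apply MvPolynomial.ringHom_ext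
      · intro r
        show aeval (fun i => Ideal.Quotient.mk J (X i)) (C r) =
          Ideal.Quotient.mk J (MvPolynomial.map (algebraMap R R') (C r))
        rw [MvPolynomial.map_C, MvPolynomial.aeval_C, ← MvPolynomial.algebraMap_apply,
          Ideal.Quotient.mk_algebraMap]
      · intro i
        show aeval (fun i => Ideal.Quotient.mk J (X i)) (X i) =
          Ideal.Quotient.mk J (MvPolynomial.map (algebraMap R R') (X i))
        rw [MvPolynomial.map_X, MvPolynomial.aeval_X]
    exact DFunLike.congr_fun this p
  have hker : RingHom.ker (aeval v : MvPolynomial ι R →ₐ[R] S).toRingHom ≤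
      RingHom.ker φ₀.toRingHom := by
    intro p hp
    rw [RingHom.mem_ker] at hp ⊢
    show φ₀ p = 0
    rw [hφ₀, Ideal.Quotient.eq_zero_iff_mem, hJ]
    exact Ideal.mem_map_of_mem _ (by rw [RingHom.mem_ker]; exact hp)
  obtain ⟨gS, hgS⟩ : ∃ gS : S →ₐ[R] (MvPolynomial ι R' ⧸ J), ∀ p, gS (aeval v p) = φ₀ p :=
    ⟨AlgHom.liftOfSurjective (aeval v) hv φ₀ hker,
      fun p => AlgHom.liftOfSurjective_apply _ hv φ₀ hker p⟩
  obtain ⟨ψ, hψl, hψr⟩ : ∃ ψ : S' →ₐ[R] (MvPolynomial ι R' ⧸ J),
      (∀ r : R', ψ (algebraMap R' S' r) = algebraMap R' (MvPolynomial ι R' ⧸ J) r) ∧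
      (∀ s : S, ψ (algebraMap S S' s) = gS s) :=
    ⟨Algebra.pushoutDesc S' (IsScalarTower.toAlgHom R R' (MvPolynomial ι R' ⧸ J)) gS
        (fun x y => mul_comm _ _),
      fun r => Algebra.pushoutDesc_left S' _ gS _ r,
      fun s => Algebra.pushoutDesc_right S' _ gS _ s⟩
  have hψ : ∀ x : MvPolynomial ι R', ψ (aeval v' x) = Ideal.Quotient.mk J x := by
    intro x
    have : (ψ : S' →+* (MvPolynomial ι R' ⧸ J)).comp
        ((aeval v' : MvPolynomial ι R' →ₐ[R'] S') : MvPolynomial ι R' →+* S') =
        Ideal.Quotient.mk J := by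
      apply MvPolynomial.ringHom_ext
      · intro r
        show ψ (aeval v' (C r)) = Ideal.Quotient.mk J (C r)
        rw [MvPolynomial.aeval_C, hψl]
        exact (Ideal.Quotient.mk_algebraMap R' J r).symm
      · intro i
        show ψ (aeval v' (X i)) = Ideal.Quotient.mk J (X i)
        rw [MvPolynomial.aeval_X, h i, hψr]
        have e : gS (v i) = gS ((aeval v : MvPolynomial ι R →ₐ[R] S) (X i)) := by
          rw [MvPolynomial.aeval_X]
        rw [e, hgS, hφ₀, MvPolynomial.map_X]
    exact DFunLike.congr_fun this x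
  intro x hx
  rw [RingHom.mem_ker] at hx
  rw [← Ideal.Quotient.eq_zero_iff_mem, ← hψ x, hx, map_zero]

theorem liftBaseChange_cotangentSpace_injective {ι : Type u} (G : Algebra.Generators R S ι)
    (G' : Algebra.Generators R' S' ι) (h : ∀ i, G'.val i = algebraMap S S' (G.val i)) :
    Function.Injective (LinearMap.liftBaseChange S'
      (Algebra.Extension.CotangentSpace.map (NLCx.sameVarsHom G G' h).toExtensionHom)) := by
  have hb : ∀ i, LinearMap.liftBaseChange S'
      (Algebra.Extension.CotangentSpace.map (NLCx.sameVarsHom G G' h).toExtensionHom)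
      ((G.cotangentSpaceBasis.baseChange S') i) = G'.cotangentSpaceBasis i := by
    intro i
    classical
    rw [Module.Basis.baseChange_apply, LinearMap.liftBaseChange_tmul, one_smul]
    apply G'.cotangentSpaceBasis.repr.injective
    ext j
    rw [Algebra.Generators.repr_CotangentSpaceMap, Module.Basis.repr_self]
    show aeval G'.val (pderiv j (X i)) = Finsupp.single i 1 j
    rw [MvPolynomial.pderiv_X, Finsupp.single_apply, Pi.single_apply]
    by_cases hij : i = j
    · rw [if_pos hij, if_pos hij, map_one]
    · rw [if_neg hij, if_neg hij, map_zero]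
  have heq : LinearMap.liftBaseChange S'
      (Algebra.Extension.CotangentSpace.map (NLCx.sameVarsHom G G' h).toExtensionHom) =
      ((G.cotangentSpaceBasis.baseChange S').equiv G'.cotangentSpaceBasis
        (Equiv.refl ι)).toLinearMap := by
    apply (G.cotangentSpaceBasis.baseChange S').ext
    intro i
    rw [hb i, LinearEquiv.coe_coe, Module.Basis.equiv_apply, Equiv.refl_apply]
  rw [heq]
  exact LinearEquiv.injective _

theorem liftBaseChange_cotangent_surjective {ι : Type u} [Algebra.IsPushout R R' S S']
    (G : Algebra.Generators R S ι) (G' : Algebra.Generators R' S' ι)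
    (h : ∀ i, G'.val i = algebraMap S S' (G.val i)) :
    Function.Surjective (LinearMap.liftBaseChange S'
      (Algebra.Extension.Cotangent.map (NLCx.sameVarsHom G G' h).toExtensionHom)) := by
  obtain ⟨f, hf⟩ : ∃ f : G.toExtension.Hom G'.toExtension,
      f = (NLCx.sameVarsHom G G' h).toExtensionHom := ⟨_, rfl⟩
  rw [← hf]
  have hfr' : f.toRingHom = MvPolynomial.map (algebraMap R R') := by
    rw [hf]
    apply MvPolynomial.ringHom_ext
    · intro r
      show (NLCx.sameVarsHom G G' h).toAlgHom (C r) =
        MvPolynomial.map (algebraMap R R') (C r)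
      rw [Algebra.Generators.Hom.toAlgHom_C, MvPolynomial.map_C]
    · intro i
      show (NLCx.sameVarsHom G G' h).toAlgHom (X i) =
        MvPolynomial.map (algebraMap R R') (X i)
      rw [Algebra.Generators.Hom.toAlgHom_X, MvPolynomial.map_X]
      rfl
  have hK := ker_le_map (R := R) (S := S) (R' := R') (S' := S') G.val
    G.aeval_val_surjective G'.val h
  have hK' : ∀ y : G'.toExtension.Ring, y ∈ G'.toExtension.ker →
      y ∈ Ideal.map f.toRingHom G.toExtension.ker := by
    have e1 : G.toExtension.ker = RingHom.ker (aeval G.val) :=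
      Algebra.Generators.ker_eq_ker_aeval_val G
    have e2 : G'.toExtension.ker = RingHom.ker (aeval G'.val) :=
      Algebra.Generators.ker_eq_ker_aeval_val G'
    rw [hfr', e1]
    intro y hy
    rw [e2] at hy
    exact hK hy
  have hJle : Ideal.map f.toRingHom G.toExtension.ker ≤ G'.toExtension.ker := by
    rw [Ideal.map_le_iff_le_comap]
    intro a ha
    rw [Ideal.mem_comap]
    rw [RingHom.mem_ker] at ha ⊢
    rw [Algebra.Extension.Hom.algebraMap_toRingHom, ha, map_zero]
  have key : ∀ y : G'.toExtension.Ring,
      y ∈ Ideal.map f.toRingHom G.toExtension.ker →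
      ∀ hy : y ∈ G'.toExtension.ker, Algebra.Extension.Cotangent.mk ⟨y, hy⟩ ∈
        LinearMap.range (LinearMap.liftBaseChange S' (Algebra.Extension.Cotangent.map f)) := by
    intro y hy
    refine Submodule.span_induction (p := fun y _ => ∀ hy : y ∈ G'.toExtension.ker,
      Algebra.Extension.Cotangent.mk ⟨y, hy⟩ ∈
        LinearMap.range (LinearMap.liftBaseChange S' (Algebra.Extension.Cotangent.map f)))
      ?_ ?_ ?_ ?_ hy
    · rintro _ ⟨a, ha, rfl⟩ hy
      refine ⟨(1 : S') ⊗ₜ[S] Algebra.Extension.Cotangent.mk ⟨a, ha⟩, ?_⟩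
      rw [LinearMap.liftBaseChange_tmul, one_smul, Algebra.Extension.Cotangent.map_mk]
      rfl
    · intro hy
      have : (⟨0, hy⟩ : G'.toExtension.ker) = 0 := rfl
      rw [this, map_zero]
      exact zero_mem _
    · intro y1 y2 h1 h2 ih1 ih2 hy
      have hy1 : y1 ∈ G'.toExtension.ker := hJle h1
      have hy2 : y2 ∈ G'.toExtension.ker := hJle h2
      have : (⟨y1 + y2, hy⟩ : G'.toExtension.ker) = ⟨y1, hy1⟩ + ⟨y2, hy2⟩ := rfl
      rw [this, map_add]
      exact add_mem (ih1 hy1) (ih2 hy2)
    · intro a y hy0 ih hy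
      have hy1 : y ∈ G'.toExtension.ker := hJle hy0
      have : (⟨a • y, hy⟩ : G'.toExtension.ker) = a • ⟨y, hy1⟩ := rfl
      rw [this, map_smul, ← algebraMap_smul S' a
        (Algebra.Extension.Cotangent.mk (⟨y, hy1⟩ : G'.toExtension.ker))]
      exact Submodule.smul_mem _ _ (ih hy1)
  intro c
  obtain ⟨x, rfl⟩ := Algebra.Extension.Cotangent.mk_surjective c
  obtain ⟨z, hz⟩ := key x.1 (hK' x.1 x.2) x.2
  exact ⟨z, hz⟩

theorem part1 {ι : Type u} [Algebra.IsPushout R R' S S']
    (G : Algebra.Generators R S ι) (G' : Algebra.Generators R' S' ι)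
    (h : ∀ i, G'.val i = algebraMap S S' (G.val i)) :
    Function.Surjective (NLCx.bcH1Map (NLCx.sameVarsHom G G' h).toExtensionHom) :=
  bcH1Map_surjective_of _ (liftBaseChange_cotangent_surjective G G' h)
    (liftBaseChange_cotangentSpace_injective G G' h)

theorem aeval_surjective_of_isPushout [Algebra.IsPushout R R' S S'] :
    Function.Surjective
      (aeval (fun s : S => algebraMap S S' s) : MvPolynomial S R' →ₐ[R'] S') := by
  intro y
  have hbc : IsBaseChange R' (IsScalarTower.toAlgHom R S S').toLinearMap :=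
    Algebra.IsPushout.out (R := R) (S := R') (R' := S) (S' := S')
  refine hbc.inductionOn y (fun y => ∃ q,
    (aeval (fun s : S => algebraMap S S' s) : MvPolynomial S R' →ₐ[R'] S') q = y)
    ⟨0, map_zero _⟩ ?_ ?_ ?_
  · intro m
    exact ⟨X m, by rw [aeval_X]; rfl⟩
  · rintro r' n ⟨q, rfl⟩
    exact ⟨r' • q, map_smul _ _ _⟩
  · rintro n1 n2 ⟨q1, rfl⟩ ⟨q2, rfl⟩
    exact ⟨q1 + q2, map_add _ _ _⟩

theorem part2 [Algebra.IsPushout R R' S S'] :
    Function.Surjective (NLCx.bcH1Map
      ((Algebra.Generators.self R S).defaultHom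
        (Algebra.Generators.self R' S')).toExtensionHom) := by
  obtain ⟨G₁, hG₁⟩ : ∃ G₁ : Algebra.Generators R' S' S, ∀ s, G₁.val s = algebraMap S S' s :=
    ⟨Algebra.Generators.ofSurjective (fun s : S => algebraMap S S' s)
      (aeval_surjective_of_isPushout (R := R)), fun s => rfl⟩
  have h1 : ∀ s, G₁.val s = algebraMap S S' ((Algebra.Generators.self R S).val s) :=
    fun s => hG₁ s
  have hp1 := part1 (Algebra.Generators.self R S) G₁ h1
  obtain ⟨g, hg⟩ : ∃ g : G₁.Hom (Algebra.Generators.self R' S'),
      ∀ s, g.val s = X (algebraMap S S' s) :=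
    ⟨⟨fun s => X (algebraMap S S' s), fun s => by rw [aeval_X, hG₁]; rfl⟩, fun s => rfl⟩
  have hsurj2 : Function.Surjective (Algebra.Extension.H1Cotangent.map g.toExtensionHom) := by
    intro z'
    refine ⟨(Algebra.Generators.H1Cotangent.equiv G₁
      (Algebra.Generators.self R' S')).symm z', ?_⟩
    rw [Algebra.Extension.H1Cotangent.map_eq g.toExtensionHom
      (G₁.defaultHom (Algebra.Generators.self R' S')).toExtensionHom]
    exact (Algebra.Generators.H1Cotangent.equiv G₁
      (Algebra.Generators.self R' S')).apply_symm_apply z'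
  have hring : ∀ p : MvPolynomial S R,
      ((Algebra.Generators.self R S).defaultHom
        (Algebra.Generators.self R' S')).toExtensionHom.toRingHom p =
      g.toExtensionHom.toRingHom
        ((NLCx.sameVarsHom (Algebra.Generators.self R S) G₁ h1).toExtensionHom.toRingHom p) := by
    intro p
    have : ((Algebra.Generators.self R S).defaultHom
        (Algebra.Generators.self R' S')).toExtensionHom.toRingHom =
        g.toExtensionHom.toRingHom.comp
          (NLCx.sameVarsHom (Algebra.Generators.self R S) G₁ h1).toExtensionHom.toRingHom := by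
      apply MvPolynomial.ringHom_ext
      · intro r
        show ((Algebra.Generators.self R S).defaultHom
            (Algebra.Generators.self R' S')).toAlgHom (C r) =
          g.toAlgHom ((NLCx.sameVarsHom (Algebra.Generators.self R S) G₁ h1).toAlgHom (C r))
        rw [Algebra.Generators.Hom.toAlgHom_C, Algebra.Generators.Hom.toAlgHom_C,
          Algebra.Generators.Hom.toAlgHom_C]
        rfl
      · intro s
        show ((Algebra.Generators.self R S).defaultHom
            (Algebra.Generators.self R' S')).toAlgHom (X s) =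
          g.toAlgHom ((NLCx.sameVarsHom (Algebra.Generators.self R S) G₁ h1).toAlgHom (X s))
        rw [Algebra.Generators.Hom.toAlgHom_X, Algebra.Generators.Hom.toAlgHom_X,
          show (NLCx.sameVarsHom (Algebra.Generators.self R S) G₁ h1).val s = X s from rfl,
          Algebra.Generators.Hom.toAlgHom_X, hg]
        rfl
    exact DFunLike.congr_fun this p
  have hcot : ∀ c : (Algebra.Generators.self R S).toExtension.Cotangent,
      Algebra.Extension.Cotangent.map ((Algebra.Generators.self R S).defaultHom
        (Algebra.Generators.self R' S')).toExtensionHom c =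
      Algebra.Extension.Cotangent.map g.toExtensionHom
        (Algebra.Extension.Cotangent.map
          (NLCx.sameVarsHom (Algebra.Generators.self R S) G₁ h1).toExtensionHom c) := by
    intro c
    obtain ⟨x, rfl⟩ := Algebra.Extension.Cotangent.mk_surjective c
    rw [Algebra.Extension.Cotangent.map_mk, Algebra.Extension.Cotangent.map_mk,
      Algebra.Extension.Cotangent.map_mk]
    congr 1
    exact Subtype.ext (hring x.1)
  have hcomp : ∀ t : S' ⊗[S] (Algebra.Generators.self R S).toExtension.Cotangent,
      LinearMap.liftBaseChange S' (Algebra.Extension.Cotangent.map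
        ((Algebra.Generators.self R S).defaultHom
          (Algebra.Generators.self R' S')).toExtensionHom) t =
      Algebra.Extension.Cotangent.map g.toExtensionHom
        (LinearMap.liftBaseChange S' (Algebra.Extension.Cotangent.map
          (NLCx.sameVarsHom (Algebra.Generators.self R S) G₁ h1).toExtensionHom) t) := by
    intro t
    induction t using TensorProduct.induction_on with
    | zero => rw [map_zero, map_zero, map_zero]
    | tmul s' c =>
      rw [LinearMap.liftBaseChange_tmul, LinearMap.liftBaseChange_tmul, map_smul, hcot c]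
    | add a b ha hb => rw [map_add, map_add, map_add, ha, hb]
  intro z'
  obtain ⟨z₁, hz₁⟩ := hsurj2 z'
  obtain ⟨z, hz⟩ := hp1 z₁
  refine ⟨z, ?_⟩
  refine Algebra.Extension.h1Cotangentι_ext _ _ ?_
  rw [← hz₁, ← hz]
  exact hcomp z.1

theorem main7221 (R S R' S' : Type u) [CommRing R] [CommRing S] [CommRing R']
    [CommRing S'] [Algebra R S] [Algebra R' S'] [Algebra R R'] [Algebra S S'] [Algebra R S']
    [IsScalarTower R R' S'] [IsScalarTower R S S'] [Algebra.IsPushout R R' S S']
    {ι : Type u} (G : Algebra.Generators R S ι) (G' : Algebra.Generators R' S' ι)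
    (h : ∀ i, G'.val i = algebraMap S S' (G.val i)) :
    Function.Surjective (NLCx.bcH1Map (NLCx.sameVarsHom G G' h).toExtensionHom) ∧
      Function.Surjective (NLCx.bcH1Map
        ((Algebra.Generators.self R S).defaultHom
          (Algebra.Generators.self R' S')).toExtensionHom) :=
  ⟨part1 G G' h, part2⟩

end Groth.Agent.Lib.NLBcSurjH4
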