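import Mathlib

/-!
# Base change of the conormal module along a non-flat base change, when the quotient is flat
(helper6).
-/

set_option autoImplicit false
universe u
open TensorProduct

namespace Groth.Agent.Lib.NLTorAmpH6

section L2

/-- If `R' = T ⊗[A] P₀` and `P₀ ⧸ I` is flat over `A`, then `R' ⊗[P₀] I → R' ⊗[P₀] P₀` is
injective. -/
theorem baseChange_subtype_injective (A T : Type u) {P₀ R' : Type u} [CommRing A] [CommRing T]
    [CommRing P₀] [CommRing R']
    [Algebra A T] [Algebra A P₀] [Algebra A R'] [Algebra T R'] [Algebra P₀ R']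
    [IsScalarTower A T R'] [IsScalarTower A P₀ R'] [Algebra.IsPushout A T P₀ R']
    (I : Ideal P₀) [Module.Flat A (P₀ ⧸ I)] :
    Function.Injective ((I.subtype).baseChange R') := by
  let eI : R' ⊗[P₀] I ≃ₗ[T] T ⊗[A] I := Algebra.IsPushout.cancelBaseChange A T P₀ R' I
  let eP : R' ⊗[P₀] P₀ ≃ₗ[T] T ⊗[A] P₀ := Algebra.IsPushout.cancelBaseChange A T P₀ R' P₀
  let ι : (I : Type u) →ₗ[A] P₀ := I.subtype.restrictScalars A
  have hι : Function.Injective (ι.lTensor T) := by
    refine LinearMap.lTensor_injective_of_exact_of_flat (R := A) (P := P₀ ⧸ I)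
      ((Ideal.Quotient.mkₐ A I).toLinearMap) ?_ ι I.subtype_injective ?_ T
    · exact Ideal.Quotient.mk_surjective
    · intro x
      constructor
      · intro hx
        exact ⟨⟨x, Ideal.Quotient.eq_zero_iff_mem.mp hx⟩, rfl⟩
      · rintro ⟨y, rfl⟩
        exact Ideal.Quotient.eq_zero_iff_mem.mpr y.2
  have hsq : ∀ y : T ⊗[A] I, (I.subtype).baseChange R' (eI.symm y) = eP.symm (ι.lTensor T y) := by
    intro y
    induction y with
    | zero => simp
    | add x y hx hy => simp only [map_add, hx, hy]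
    | tmul s m =>
      simp [eI, eP, ι]
  intro x y hxy
  apply eI.injective
  apply hι
  apply eP.symm.injective
  rw [← hsq, ← hsq]
  simpa using hxy

end L2

section L1

variable {P₀ R' B S' : Type u} [CommRing P₀] [CommRing R'] [CommRing B] [CommRing S']
  [Algebra P₀ R'] [Algebra P₀ B] [Algebra R' S'] [Algebra B S'] [Algebra P₀ S']
  [IsScalarTower P₀ R' S'] [IsScalarTower P₀ B S']

/-- `R' ⊗[P₀] I ≃ I R'` if the base change of the inclusion is injective. -/
noncomputable def mapEquivOfInjective (I : Ideal P₀)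
    (hinj : Function.Injective ((I.subtype).baseChange R')) :
    R' ⊗[P₀] I ≃ₗ[R'] ↥(I.map (algebraMap P₀ R')) := by
  let φ : R' ⊗[P₀] I →ₗ[R'] R' :=
    (AlgebraTensorModule.rid P₀ R' R').toLinearMap ∘ₗ (I.subtype).baseChange R'
  have hφ : ∀ x, φ x ∈ I.map (algebraMap P₀ R') := by
    intro x
    induction x with
    | zero => simp
    | add x y hx hy => rw [map_add]; exact Ideal.add_mem _ hx hy
    | tmul s m =>
      have : φ (s ⊗ₜ m) = s * algebraMap P₀ R' (m : P₀) := by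
        simp [φ, Algebra.smul_def, mul_comm]
      rw [this]
      exact Ideal.mul_mem_left _ _ (Ideal.mem_map_of_mem _ m.2)
  let ψ : R' ⊗[P₀] I →ₗ[R'] ↥(I.map (algebraMap P₀ R')) := φ.codRestrict _ hφ
  refine LinearEquiv.ofBijective ψ ⟨?_, ?_⟩
  · intro x y hxy
    apply hinj
    apply (AlgebraTensorModule.rid P₀ R' R').injective
    exact congrArg Subtype.val hxy
  · rintro ⟨z, hz⟩
    have : z ∈ Submodule.map φ ⊤ := by
      have hle : I.map (algebraMap P₀ R') ≤ (Submodule.map φ ⊤ : Submodule R' R') := by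
        rw [Ideal.map, Ideal.span_le]
        rintro _ ⟨m, hm, rfl⟩
        refine ⟨1 ⊗ₜ ⟨m, hm⟩, trivial, ?_⟩
        simp [φ, Algebra.smul_def]
      exact hle hz
    obtain ⟨x, -, rfl⟩ := this
    exact ⟨x, Subtype.ext rfl⟩

/-- Key flatness transfer: if `B ⊗[P₀] I` is `B`-flat and `R' ⊗[P₀] I ≃ I R'`, then
`S' ⊗[R'] (I R')` is `S'`-flat. -/
theorem flat_tensor_map (I : Ideal P₀)
    (hinj : Function.Injective ((I.subtype).baseChange R'))
    [Module.Flat B (B ⊗[P₀] I)] :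
    Module.Flat S' (S' ⊗[R'] ↥(I.map (algebraMap P₀ R'))) := by
  let e₁ : S' ⊗[R'] (R' ⊗[P₀] I) ≃ₗ[S'] S' ⊗[R'] ↥(I.map (algebraMap P₀ R')) :=
    AlgebraTensorModule.congr (LinearEquiv.refl S' S') (mapEquivOfInjective I hinj)
  let e₂ : S' ⊗[R'] (R' ⊗[P₀] I) ≃ₗ[S'] S' ⊗[P₀] I :=
    AlgebraTensorModule.cancelBaseChange P₀ R' S' S' I
  let e₃ : S' ⊗[B] (B ⊗[P₀] I) ≃ₗ[S'] S' ⊗[P₀] I :=
    AlgebraTensorModule.cancelBaseChange P₀ B S' S' I
  have h0 : Module.Flat S' (S' ⊗[B] (B ⊗[P₀] I)) := inferInstance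
  exact Module.Flat.of_linearEquiv (e₁.symm ≪≫ₗ e₂ ≪≫ₗ e₃.symm)

end L1

end Groth.Agent.Lib.NLTorAmpH6
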