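import Mathlib
import Groth.Prelude.Def_SheafNL
import Groth.Agent.Lib.NLBcSurj_helper4
import Groth.Agent.Lib.NLTorAmp2_helper6

/-!
# Base change of the naive cotangent complex when `Tor_1^R(S, R') = 0` (helper6), part 1

The base change of the conormal module `S' ⊗_S I/I² → I'/I'²` is injective as soon as
`P' ⊗_P I → P'` is injective.
-/

set_option autoImplicit false
universe u
open TensorProduct

namespace Groth.Agent.Lib.NLFlatBCH6

section abstract

variable {A A' : Type u} [CommRing A] [CommRing A'] [Algebra A A'] (I : Ideal A)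

/-- `A' ⊗[A] I → A'`, `p ⊗ a ↦ p * a`. -/
noncomputable def mu : A' ⊗[A] I →ₗ[A'] A' :=
  (AlgebraTensorModule.rid A A' A').toLinearMap ∘ₗ (I.subtype).baseChange A'

lemma mu_tmul (p : A') (a : I) : mu (A' := A') I (p ⊗ₜ a) = p * algebraMap A A' a := by
  simp [mu, Algebra.smul_def, mul_comm]

/-- the additive subgroup generated by the tensors `p ⊗ c` with `c ∈ I²`. -/
def sqGrp : AddSubgroup (A' ⊗[A] I) :=
  AddSubgroup.closure {t | ∃ (p : A') (c : I), (c : A) ∈ I ^ 2 ∧ t = p ⊗ₜ c}

lemma smul_mem_sqGrp (p : A') {z : A' ⊗[A] I} (hz : z ∈ sqGrp (A' := A') I) :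
    p • z ∈ sqGrp (A' := A') I := by
  unfold sqGrp at hz ⊢
  induction hz using AddSubgroup.closure_induction with
  | mem x hx =>
    obtain ⟨q, c, hc, rfl⟩ := hx
    exact AddSubgroup.subset_closure ⟨p * q, c, hc, by rw [smul_tmul', smul_eq_mul]⟩
  | zero => rw [smul_zero]; exact zero_mem _
  | add x y _ _ hx hy => rw [smul_add]; exact add_mem hx hy
  | neg x _ hx => rw [smul_neg]; exact neg_mem hx

theorem mem_sqGrp_of_mu_mem (hinj : Function.Injective ((I.subtype).baseChange A'))
    (z : A' ⊗[A] I) (hz : mu (A' := A') I z ∈ (I.map (algebraMap A A')) ^ 2) :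
    z ∈ sqGrp (A' := A') I := by
  have hmu : Function.Injective (mu (A' := A') I) :=
    (AlgebraTensorModule.rid A A' A').injective.comp hinj
  rw [← Ideal.map_pow] at hz
  obtain ⟨z₀, hz₀, hμ⟩ : ∃ z₀ ∈ sqGrp (A' := A') I, mu (A' := A') I z₀ = mu (A' := A') I z := by
    refine Submodule.span_induction
      (p := fun w _ => ∃ z₀ ∈ sqGrp (A' := A') I, mu (A' := A') I z₀ = w) ?_ ?_ ?_ ?_ hz
    · rintro _ ⟨c, hc, rfl⟩
      refine ⟨1 ⊗ₜ ⟨c, Ideal.pow_le_self two_ne_zero hc⟩,
        AddSubgroup.subset_closure ⟨1, _, hc, rfl⟩, ?_⟩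
      rw [mu_tmul, one_mul]
    · exact ⟨0, zero_mem _, map_zero _⟩
    · rintro x y _ _ ⟨a, ha, rfl⟩ ⟨b, hb, rfl⟩
      exact ⟨a + b, add_mem ha hb, map_add _ _ _⟩
    · rintro p x _ ⟨a, ha, rfl⟩
      exact ⟨p • a, smul_mem_sqGrp I p ha, map_smul _ _ _⟩
  rw [← hmu hμ]
  exact hz₀

end abstract

section ext

variable {R S R' S' : Type u} [CommRing R] [CommRing S] [CommRing R'] [CommRing S']
  [Algebra R S] [Algebra R' S'] [Algebra R R'] [Algebra S S'] [Algebra R S']
  [IsScalarTower R R' S'] [IsScalarTower R S S']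
  {P : Algebra.Extension.{u} R S} {P' : Algebra.Extension.{u} R' S'} (f : P.Hom P')
  [Algebra P.Ring P'.Ring]

/-- `p' ↦ (a ↦ [p'] ⊗ [a])`. -/
noncomputable def thetaAux : P'.Ring →+ P.ker →+ S' ⊗[S] P.Cotangent :=
  AddMonoidHom.mk' (fun p' =>
    ((TensorProduct.mk S S' P.Cotangent (algebraMap P'.Ring S' p')).toAddMonoidHom).comp
      (Algebra.Extension.Cotangent.mk (P := P)).toAddMonoidHom)
    (fun p q => by
      ext a
      change (algebraMap P'.Ring S' (p + q)) ⊗ₜ[S] Algebra.Extension.Cotangent.mk a =
        (algebraMap P'.Ring S' p) ⊗ₜ[S] Algebra.Extension.Cotangent.mk a +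
          (algebraMap P'.Ring S' q) ⊗ₜ[S] Algebra.Extension.Cotangent.mk a
      rw [map_add, add_tmul])

lemma thetaAux_apply (p' : P'.Ring) (a : P.ker) :
    thetaAux (S := S) (P := P) (P' := P') p' a =
      (algebraMap P'.Ring S' p') ⊗ₜ[S] Algebra.Extension.Cotangent.mk a := rfl

variable (hf : ∀ x, algebraMap P.Ring P'.Ring x = f.toRingHom x)

/-- `P' ⊗[P] I → S' ⊗[S] I/I²`, `p' ⊗ a ↦ [p'] ⊗ [a]`. -/
noncomputable def theta : P'.Ring ⊗[P.Ring] P.ker →+ S' ⊗[S] P.Cotangent :=
  TensorProduct.liftAddHom (thetaAux (S := S) (P := P) (P' := P')) (fun r p' a => by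
    rw [thetaAux_apply, thetaAux_apply, Algebra.smul_def, map_mul, hf,
      Algebra.Extension.Hom.algebraMap_toRingHom, map_smul, ← algebraMap_smul S r
        (Algebra.Extension.Cotangent.mk a), tmul_smul, smul_tmul', Algebra.smul_def])

lemma theta_tmul (p' : P'.Ring) (a : P.ker) :
    theta f hf (p' ⊗ₜ a) = (algebraMap P'.Ring S' p') ⊗ₜ[S] Algebra.Extension.Cotangent.mk a :=
  rfl

lemma theta_surjective : Function.Surjective (theta f hf) := by
  intro x
  induction x using TensorProduct.induction_on with
  | zero => exact ⟨0, map_zero _⟩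
  | tmul s' c =>
    obtain ⟨a, rfl⟩ := Algebra.Extension.Cotangent.mk_surjective c
    obtain ⟨p', rfl⟩ := P'.algebraMap_surjective s'
    exact ⟨p' ⊗ₜ a, theta_tmul f hf p' a⟩
  | add x y hx hy =>
    obtain ⟨a, rfl⟩ := hx
    obtain ⟨b, rfl⟩ := hy
    exact ⟨a + b, map_add _ _ _⟩

lemma theta_eq_zero_of_mem_sqGrp (z : P'.Ring ⊗[P.Ring] P.ker)
    (hz : z ∈ sqGrp (A' := P'.Ring) P.ker) : theta f hf z = 0 := by
  unfold sqGrp at hz
  induction hz using AddSubgroup.closure_induction with
  | mem x hx =>
    obtain ⟨q, c, hc, rfl⟩ := hx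
    rw [theta_tmul, (Algebra.Extension.Cotangent.mk_eq_zero_iff c).mpr hc, tmul_zero]
  | zero => exact map_zero _
  | add x y _ _ hx hy => rw [map_add, hx, hy, add_zero]
  | neg x _ hx => rw [map_neg, hx, neg_zero]

include hf in
lemma mu_mem_ker (z : P'.Ring ⊗[P.Ring] P.ker) : mu (A' := P'.Ring) P.ker z ∈ P'.ker := by
  induction z using TensorProduct.induction_on with
  | zero => rw [map_zero]; exact zero_mem _
  | tmul p' a =>
    rw [mu_tmul]
    refine Ideal.mul_mem_left _ _ ?_
    rw [hf, Algebra.Extension.ker, RingHom.mem_ker, Algebra.Extension.Hom.algebraMap_toRingHom]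
    have ha : algebraMap P.Ring S a = 0 := a.2
    rw [ha, map_zero]
  | add x y hx hy => rw [map_add]; exact add_mem hx hy

lemma lift_theta (z : P'.Ring ⊗[P.Ring] P.ker) :
    LinearMap.liftBaseChange S' (Algebra.Extension.Cotangent.map f) (theta f hf z) =
      Algebra.Extension.Cotangent.mk ⟨mu (A' := P'.Ring) P.ker z, mu_mem_ker f hf z⟩ := by
  induction z using TensorProduct.induction_on with
  | zero =>
    rw [map_zero, map_zero]
    symm
    rw [Algebra.Extension.Cotangent.mk_eq_zero_iff]
    simp
  | tmul p' a =>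
    rw [theta_tmul, LinearMap.liftBaseChange_tmul, Algebra.Extension.Cotangent.map_mk,
      algebraMap_smul, ← map_smul]
    congr 1
    apply Subtype.ext
    change p' • (f.toAlgHom a : P'.Ring) = mu (A' := P'.Ring) P.ker (p' ⊗ₜ a)
    rw [mu_tmul, hf, smul_eq_mul]
    rfl
  | add x y hx hy =>
    rw [map_add, map_add, hx, hy, ← map_add]
    congr 1
    apply Subtype.ext
    change _ + _ = mu (A' := P'.Ring) P.ker (x + y)
    rw [map_add]

include hf in
/-- injectivity of the base change of the conormal module. -/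
theorem liftBaseChange_cotangent_injective
    (hker : P'.ker ≤ P.ker.map (algebraMap P.Ring P'.Ring))
    (hinj : Function.Injective ((P.ker.subtype).baseChange P'.Ring)) :
    Function.Injective (LinearMap.liftBaseChange S' (Algebra.Extension.Cotangent.map f)) := by
  rw [injective_iff_map_eq_zero]
  intro x hx
  obtain ⟨z, rfl⟩ := theta_surjective f hf x
  rw [lift_theta f hf z, Algebra.Extension.Cotangent.mk_eq_zero_iff] at hx
  have h2 : mu (A' := P'.Ring) P.ker z ∈ (P.ker.map (algebraMap P.Ring P'.Ring)) ^ 2 :=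
    Ideal.pow_right_mono hker 2 hx
  exact theta_eq_zero_of_mem_sqGrp f hf z (mem_sqGrp_of_mu_mem P.ker hinj z h2)

end ext

section sameVars

open MvPolynomial

attribute [local instance] MvPolynomial.algebraMvPolynomial

variable {R S R' S' : Type u} [CommRing R] [CommRing S] [CommRing R'] [CommRing S']
  [Algebra R S] [Algebra R' S'] [Algebra R R'] [Algebra S S'] [Algebra R S']
  [IsScalarTower R R' S'] [IsScalarTower R S S']
  {ι : Type u} (G : Algebra.Generators R S ι) (G' : Algebra.Generators R' S' ι)
  (h : ∀ i, G'.val i = algebraMap S S' (G.val i))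

lemma toRingHom_sameVars :
    (NLCx.sameVarsHom G G' h).toExtensionHom.toRingHom = MvPolynomial.map (algebraMap R R') := by
  apply MvPolynomial.ringHom_ext
  · intro r
    change (NLCx.sameVarsHom G G' h).toAlgHom (C r) = MvPolynomial.map (algebraMap R R') (C r)
    rw [Algebra.Generators.Hom.toAlgHom_C, MvPolynomial.map_C]
  · intro i
    change (NLCx.sameVarsHom G G' h).toAlgHom (X i) = MvPolynomial.map (algebraMap R R') (X i)
    rw [Algebra.Generators.Hom.toAlgHom_X, MvPolynomial.map_X]
    rfl

/-- degree `0`: the base change of the cotangent space map is bijective. -/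
theorem cotangentSpace_bijective :
    Function.Bijective (LinearMap.liftBaseChange S'
      (Algebra.Extension.CotangentSpace.map (NLCx.sameVarsHom G G' h).toExtensionHom)) := by
  have hb : ∀ i, LinearMap.liftBaseChange S'
      (Algebra.Extension.CotangentSpace.map (NLCx.sameVarsHom G G' h).toExtensionHom)
      ((G.cotangentSpaceBasis.baseChange S') i) = G'.cotangentSpaceBasis i := by
    intro i
    classical
    rw [Module.Basis.baseChange_apply, LinearMap.liftBaseChange_tmul, one_smul]
    apply G'.cotangentSpaceBasis.repr.injective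
    ext j
    rw [Algebra.Generators.repr_CotangentSpaceMap, Module.Basis.repr_self]
    change aeval G'.val (pderiv j (X i)) = Finsupp.single i 1 j
    rw [MvPolynomial.pderiv_X, Finsupp.single_apply, Pi.single_apply]
    by_cases hij : i = j
    · rw [if_pos hij, if_pos hij, map_one]
    · rw [if_neg hij, if_neg hij, map_zero]
  have heq : LinearMap.liftBaseChange S'
      (Algebra.Extension.CotangentSpace.map (NLCx.sameVarsHom G G' h).toExtensionHom) =
      ((G.cotangentSpaceBasis.baseChange S').equiv G'.cotangentSpaceBasis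
        (Equiv.refl ι)).toLinearMap := by
    apply (G.cotangentSpaceBasis.baseChange S').ext
    intro i
    rw [hb i, LinearEquiv.coe_coe, Module.Basis.equiv_apply, Equiv.refl_apply]
  rw [heq]
  exact LinearEquiv.bijective _

variable [Algebra.IsPushout R R' S S']

/-- `P' ⊗[P] I → P'` is injective if `S` or `R'` is flat over `R`. -/
theorem baseChange_ker_injective (I : Ideal (MvPolynomial ι R)) (hI : I = G.toExtension.ker)
    (hflat : Module.Flat R S ∨ Module.Flat R R') :
    Function.Injective ((I.subtype).baseChange (MvPolynomial ι R')) := by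
  rcases hflat with hS | hR'
  · haveI : Module.Flat R (MvPolynomial ι R ⧸ I) := by
      have hk : RingHom.ker (aeval G.val : MvPolynomial ι R →ₐ[R] S) = I := by
        rw [hI]
        exact (Algebra.Generators.ker_eq_ker_aeval_val G).symm
      have e : (MvPolynomial ι R ⧸ I) ≃ₗ[R] S :=
        ((Ideal.quotientEquivAlgOfEq R hk.symm).trans
          (Ideal.quotientKerAlgEquivOfSurjective G.aeval_val_surjective)).toLinearEquiv
      exact Module.Flat.of_linearEquiv e
    exact Groth.Agent.Lib.NLTorAmpH6.baseChange_subtype_injective R R'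
      (P₀ := MvPolynomial ι R) (R' := MvPolynomial ι R') I
  · haveI : Module.Flat (MvPolynomial ι R) (MvPolynomial ι R') :=
      Module.Flat.isBaseChange R (MvPolynomial ι R) R' (MvPolynomial ι R')
        (Algebra.IsPushout.out (R := R) (S := MvPolynomial ι R) (R' := R')
          (S' := MvPolynomial ι R'))
    rw [LinearMap.baseChange_eq_ltensor]
    exact Module.Flat.lTensor_preserves_injective_linearMap _ Subtype.val_injective

/-- degree `-1`: the base change of the conormal module map is bijective when `Tor` vanishes. -/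
theorem cotangent_bijective (hflat : Module.Flat R S ∨ Module.Flat R R') :
    Function.Bijective (LinearMap.liftBaseChange S'
      (Algebra.Extension.Cotangent.map (NLCx.sameVarsHom G G' h).toExtensionHom)) := by
  refine ⟨?_, Groth.Agent.Lib.NLBcSurjH4.liftBaseChange_cotangent_surjective G G' h⟩
  letI : Algebra G.toExtension.Ring G'.toExtension.Ring :=
    MvPolynomial.algebraMvPolynomial (σ := ι) (R := R) (S := R')
  have hf : ∀ x, algebraMap G.toExtension.Ring G'.toExtension.Ring x =
      (NLCx.sameVarsHom G G' h).toExtensionHom.toRingHom x := by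
    intro x
    rw [toRingHom_sameVars]
    rfl
  have hker : G'.toExtension.ker ≤
      G.toExtension.ker.map (algebraMap G.toExtension.Ring G'.toExtension.Ring) := by
    have hK := Groth.Agent.Lib.NLBcSurjH4.ker_le_map (R := R) (S := S) (R' := R') (S' := S') G.val
      G.aeval_val_surjective G'.val h
    have e1 : G.toExtension.ker = RingHom.ker (aeval G.val) :=
      Algebra.Generators.ker_eq_ker_aeval_val G
    have e2 : G'.toExtension.ker = RingHom.ker (aeval G'.val) :=
      Algebra.Generators.ker_eq_ker_aeval_val G'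
    rw [e1, e2]
    exact hK
  exact liftBaseChange_cotangent_injective _ hf hker (baseChange_ker_injective G G.toExtension.ker rfl hflat)

end sameVars

end Groth.Agent.Lib.NLFlatBCH6
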