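import Mathlib

/-!
# Homotopy equivalences of two-term complexes `HomologicalComplex.double` (helper2)

For two-term cochain complexes in degrees `-1, 0`: maps `dmap`, homotopies `dhtpy`, and the
homotopy equivalence `dequiv` built from termwise data.
APPEND-ONLY once landed.
-/

set_option autoImplicit false
universe v w

namespace Groth.Agent.Lib.TwoTerm

open CategoryTheory HomologicalComplex

variable {V : Type w} [Category.{v} V] [Preadditive V] [Limits.HasZeroObject V]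

lemma rel : (ComplexShape.up ℤ).Rel (-1) 0 := by simp

lemma ne : (-1 : ℤ) ≠ 0 := by decide

variable {X₀ X₁ Y₀ Y₁ Z₀ Z₁ : V}

/-- chain map between two-term complexes -/
noncomputable def dmap (f : X₀ ⟶ X₁) (g : Y₀ ⟶ Y₁) (a₀ : X₀ ⟶ Y₀) (a₁ : X₁ ⟶ Y₁)
    (comm : a₀ ≫ g = f ≫ a₁) : double f rel ⟶ double g rel :=
  mkHomFromDouble rel ne (a₀ ≫ (doubleXIso₀ g rel).inv) (a₁ ≫ (doubleXIso₁ g rel ne).inv)
    (by
      rw [double_d _ _ ne, Category.assoc, Iso.inv_hom_id_assoc, reassoc_of% comm])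
    (by
      intro k _
      rw [double_d_eq_zero₀ g rel 0 k (by decide), Limits.comp_zero])

@[simp]
lemma dmap_f₀ (f : X₀ ⟶ X₁) (g : Y₀ ⟶ Y₁) (a₀ : X₀ ⟶ Y₀) (a₁ : X₁ ⟶ Y₁)
    (comm : a₀ ≫ g = f ≫ a₁) :
    (dmap f g a₀ a₁ comm).f (-1) =
      (doubleXIso₀ f rel).hom ≫ a₀ ≫ (doubleXIso₀ g rel).inv := by
  rw [dmap, mkHomFromDouble_f₀]

@[simp]
lemma dmap_f₁ (f : X₀ ⟶ X₁) (g : Y₀ ⟶ Y₁) (a₀ : X₀ ⟶ Y₀) (a₁ : X₁ ⟶ Y₁)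
    (comm : a₀ ≫ g = f ≫ a₁) :
    (dmap f g a₀ a₁ comm).f 0 =
      (doubleXIso₁ f rel ne).hom ≫ a₁ ≫ (doubleXIso₁ g rel ne).inv := by
  rw [dmap, mkHomFromDouble_f₁]

lemma dmap_comp (f : X₀ ⟶ X₁) (g : Y₀ ⟶ Y₁) (k : Z₀ ⟶ Z₁) (a₀ : X₀ ⟶ Y₀) (a₁ : X₁ ⟶ Y₁)
    (comm : a₀ ≫ g = f ≫ a₁) (b₀ : Y₀ ⟶ Z₀) (b₁ : Y₁ ⟶ Z₁) (comm' : b₀ ≫ k = g ≫ b₁) :
    dmap f g a₀ a₁ comm ≫ dmap g k b₀ b₁ comm' =
      dmap f k (a₀ ≫ b₀) (a₁ ≫ b₁) (by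
        rw [Category.assoc, comm', reassoc_of% comm]) := by
  apply from_double_hom_ext
  · simp
  · simp

lemma dmap_id (f : X₀ ⟶ X₁) :
    dmap f f (𝟙 X₀) (𝟙 X₁) (by simp) = 𝟙 (double f rel) := by
  apply from_double_hom_ext
  · simp
  · simp

/-- the only component of a homotopy between maps of two-term complexes -/
noncomputable def dhom (f : X₀ ⟶ X₁) (g : Y₀ ⟶ Y₁) (h : X₁ ⟶ Y₀) (i j : ℤ) :
    (double f rel).X i ⟶ (double g rel).X j :=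
  if hij : i = 0 ∧ j = -1 then
    eqToHom (by rw [hij.1]) ≫ (doubleXIso₁ f rel ne).hom ≫ h ≫ (doubleXIso₀ g rel).inv ≫
      eqToHom (by rw [hij.2])
  else 0

lemma dhom_pos (f : X₀ ⟶ X₁) (g : Y₀ ⟶ Y₁) (h : X₁ ⟶ Y₀) :
    dhom f g h 0 (-1) = (doubleXIso₁ f rel ne).hom ≫ h ≫ (doubleXIso₀ g rel).inv := by
  rw [dhom, dif_pos ⟨rfl, rfl⟩]
  simp

lemma dhom_neg (f : X₀ ⟶ X₁) (g : Y₀ ⟶ Y₁) (h : X₁ ⟶ Y₀) (i j : ℤ)
    (hij : ¬ (i = 0 ∧ j = -1)) : dhom f g h i j = 0 := by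
  rw [dhom, dif_neg hij]

/-- homotopy between chain maps of two-term complexes -/
noncomputable def dhtpy (f : X₀ ⟶ X₁) (g : Y₀ ⟶ Y₁) (a₀ a₀' : X₀ ⟶ Y₀) (a₁ a₁' : X₁ ⟶ Y₁)
    (comm : a₀ ≫ g = f ≫ a₁) (comm' : a₀' ≫ g = f ≫ a₁') (h : X₁ ⟶ Y₀)
    (h₀ : a₀ = f ≫ h + a₀') (h₁ : a₁ = h ≫ g + a₁') :
    Homotopy (dmap f g a₀ a₁ comm) (dmap f g a₀' a₁' comm') where
  hom := dhom f g h
  zero i j hij := by
    apply dhom_neg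
    rintro ⟨rfl, rfl⟩
    exact hij (by simp)
  comm i := by
    by_cases h0 : i = -1
    · subst h0
      rw [dNext_eq _ (show (ComplexShape.up ℤ).Rel (-1) 0 by simp),
        prevD_eq _ (show (ComplexShape.up ℤ).Rel (-2) (-1) by simp)]
      rw [dhom_pos, dhom_neg f g h (-1) (-2) (by decide), Limits.zero_comp, add_zero, dmap_f₀,
        dmap_f₀, double_d _ _ ne, h₀]
      simp
    · by_cases h1 : i = 0
      · subst h1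
        rw [dNext_eq _ (show (ComplexShape.up ℤ).Rel 0 1 by simp),
          prevD_eq _ (show (ComplexShape.up ℤ).Rel (-1) 0 by simp)]
        rw [dhom_pos, dhom_neg f g h 1 0 (by decide), Limits.comp_zero, zero_add, dmap_f₁,
          dmap_f₁, double_d _ _ ne, h₁]
        simp
      · exact (isZero_double_X f rel i h0 h1).eq_of_src _ _

/-- homotopy equivalence of two-term complexes from termwise data -/
noncomputable def dequiv (f : X₀ ⟶ X₁) (g : Y₀ ⟶ Y₁) (a₀ : X₀ ⟶ Y₀) (a₁ : X₁ ⟶ Y₁)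
    (comm : a₀ ≫ g = f ≫ a₁) (b₀ : Y₀ ⟶ X₀) (b₁ : Y₁ ⟶ X₁) (comm' : b₀ ≫ f = g ≫ b₁)
    (h : X₁ ⟶ X₀) (h₀ : a₀ ≫ b₀ = f ≫ h + 𝟙 X₀) (h₁ : a₁ ≫ b₁ = h ≫ f + 𝟙 X₁)
    (h' : Y₁ ⟶ Y₀) (h₀' : b₀ ≫ a₀ = g ≫ h' + 𝟙 Y₀) (h₁' : b₁ ≫ a₁ = h' ≫ g + 𝟙 Y₁) :
    HomotopyEquiv (double f rel) (double g rel) where
  hom := dmap f g a₀ a₁ comm
  inv := dmap g f b₀ b₁ comm'
  homotopyHomInvId :=
    (Homotopy.ofEq (dmap_comp f g f a₀ a₁ comm b₀ b₁ comm')).trans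
      ((dhtpy f f (a₀ ≫ b₀) (𝟙 X₀) (a₁ ≫ b₁) (𝟙 X₁) _ (by simp) h h₀ h₁).trans
        (Homotopy.ofEq (dmap_id f)))
  homotopyInvHomId :=
    (Homotopy.ofEq (dmap_comp g f g b₀ b₁ comm' a₀ a₁ comm)).trans
      ((dhtpy g g (b₀ ≫ a₀) (𝟙 Y₀) (b₁ ≫ a₁) (𝟙 Y₁) _ (by simp) h' h₀' h₁').trans
        (Homotopy.ofEq (dmap_id g)))

end Groth.Agent.Lib.TwoTerm
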