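import Mathlib
import Groth.Prelude.Def_LCI2
import Groth.Agent.Lib.TwoTermHtpy_helper2
import Groth.Agent.Lib.H1CotLCI_helper2
import Groth.Agent.Lib.LCIPerf_helper2

/-!
# The naive cotangent complex of an lci ring map is perfect of tor amplitude `[-1, 0]` (helper2): S7072.
APPEND-ONLY once landed.
-/

set_option autoImplicit false
universe u

namespace Groth.Agent.Lib.NLPerf

open CategoryTheory HomologicalComplex Groth.Agent.Lib.TwoTerm

attribute [local instance] HasDerivedCategory.standard

variable {A B : Type u} [CommRing A] [CommRing B] [Algebra A B]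

section maps

variable {P P' : Algebra.Extension.{u} A B}

/-- `Cotangent.map` with the native module structures. -/
noncomputable def cotMap (f : P.Hom P') : P.Cotangent →ₗ[B] P'.Cotangent where
  toFun x := Algebra.Extension.Cotangent.map f x
  map_add' x y := map_add _ x y
  map_smul' r x := (Algebra.Extension.Cotangent.map f).map_smul r x

/-- `CotangentSpace.map` with the native module structures. -/
noncomputable def spMap (f : P.Hom P') : P.CotangentSpace →ₗ[B] P'.CotangentSpace where
  toFun x := Algebra.Extension.CotangentSpace.map f x
  map_add' x y := map_add _ x y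
  map_smul' r x := (Algebra.Extension.CotangentSpace.map f).map_smul r x

/-- `Hom.sub` with the native module structures. -/
noncomputable def subMap (f g : P.Hom P') : P.CotangentSpace →ₗ[B] P'.Cotangent where
  toFun x := f.sub g x
  map_add' x y := map_add _ x y
  map_smul' r x := (f.sub g).map_smul r x

lemma spMap_d (f : P.Hom P') (x : P.Cotangent) :
    spMap f (P.cotangentComplex x) = P'.cotangentComplex (cotMap f x) :=
  Algebra.Extension.CotangentSpace.map_cotangentComplex f x

lemma cotMap_cotMap (f : P.Hom P') (g : P'.Hom P) (x : P.Cotangent) :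
    cotMap g (cotMap f x) = subMap (g.comp f) (.id P) (P.cotangentComplex x) + x := by
  have h1 := LinearMap.congr_fun (Algebra.Extension.Cotangent.map_sub_map (g.comp f) (.id P)) x
  have h2 := LinearMap.congr_fun (Algebra.Extension.Cotangent.map_comp (f := f) (g := g)) x
  rw [LinearMap.sub_apply, Algebra.Extension.Cotangent.map_id, LinearMap.id_apply, h2] at h1
  exact sub_eq_iff_eq_add.mp h1

lemma spMap_spMap (f : P.Hom P') (g : P'.Hom P) (y : P.CotangentSpace) :
    spMap g (spMap f y) = P.cotangentComplex (subMap (g.comp f) (.id P) y) + y := by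
  have h1 := LinearMap.congr_fun
    (Algebra.Extension.CotangentSpace.map_sub_map (g.comp f) (.id P)) y
  have h2 := Algebra.Extension.CotangentSpace.map_comp_apply f g y
  rw [LinearMap.sub_apply, Algebra.Extension.CotangentSpace.map_id, LinearMap.id_apply, h2] at h1
  exact sub_eq_iff_eq_add.mp h1

end maps

/-- the two-term cotangent complex of an extension, as a cochain complex -/
noncomputable def cx (P : Algebra.Extension.{u} A B) : DRing.Cx B :=
  HomologicalComplex.double (ModuleCat.ofHom P.cotangentComplex) rel

/-- homotopy equivalence of cotangent complexes of two extensions -/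
noncomputable def cxEquiv (P P' : Algebra.Extension.{u} A B) (f : P.Hom P') (g : P'.Hom P) :
    HomotopyEquiv (cx P) (cx P') :=
  dequiv (ModuleCat.ofHom P.cotangentComplex) (ModuleCat.ofHom P'.cotangentComplex)
    (ModuleCat.ofHom (cotMap f)) (ModuleCat.ofHom (spMap f))
    (by
      apply ModuleCat.hom_ext
      apply LinearMap.ext
      intro x
      exact (spMap_d f x).symm)
    (ModuleCat.ofHom (cotMap g)) (ModuleCat.ofHom (spMap g))
    (by
      apply ModuleCat.hom_ext
      apply LinearMap.ext
      intro x
      exact (spMap_d g x).symm)
    (ModuleCat.ofHom (subMap (g.comp f) (.id P)))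
    (by
      apply ModuleCat.hom_ext
      apply LinearMap.ext
      intro x
      exact cotMap_cotMap f g x)
    (by
      apply ModuleCat.hom_ext
      apply LinearMap.ext
      intro x
      exact spMap_spMap f g x)
    (ModuleCat.ofHom (subMap (f.comp g) (.id P')))
    (by
      apply ModuleCat.hom_ext
      apply LinearMap.ext
      intro x
      exact cotMap_cotMap g f x)
    (by
      apply ModuleCat.hom_ext
      apply LinearMap.ext
      intro x
      exact spMap_spMap g f x)

/-- the cotangent complexes of two extensions are isomorphic in the derived category. -/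
theorem nonempty_iso (P P' : Algebra.Extension.{u} A B) (f : P.Hom P') (g : P'.Hom P) :
    Nonempty (DRing.toD (cx P) ≅ DRing.toD (cx P')) := by
  let e := cxEquiv P P' f g
  haveI : QuasiIso e.hom := inferInstance
  haveI : IsIso (DerivedCategory.Q.map e.hom) :=
    (DerivedCategory.isIso_Q_map_iff_quasiIso (φ := e.hom)).mpr inferInstance
  exact ⟨asIso (DerivedCategory.Q.map e.hom)⟩

section terms

variable (P : Algebra.Extension.{u} A B)

theorem vanishesOutside : DRing.VanishesOutside (cx P) (-1) 0 := by
  intro i hi
  apply isZero_double_X
  · rcases hi with h | h <;> omega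
  · rcases hi with h | h <;> omega

theorem term_finite_projective [Module.Finite B P.Cotangent] [Module.Projective B P.Cotangent]
    [Module.Finite B P.CotangentSpace] [Module.Projective B P.CotangentSpace] (i : ℤ) :
    Module.Finite B ((cx P).X i) ∧ Module.Projective B ((cx P).X i) := by
  by_cases h0 : i = -1
  · subst h0
    let e := (doubleXIso₀ (ModuleCat.ofHom P.cotangentComplex) rel).toLinearEquiv
    exact ⟨Module.Finite.equiv e.symm, Module.Projective.of_equiv' e.symm⟩
  · by_cases h1 : i = 0
    · subst h1
      let e := (doubleXIso₁ (ModuleCat.ofHom P.cotangentComplex) rel ne).toLinearEquiv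
      exact ⟨Module.Finite.equiv e.symm, Module.Projective.of_equiv' e.symm⟩
    · have hz : Limits.IsZero ((cx P).X i) := isZero_double_X _ _ i h0 h1
      haveI : Subsingleton ((cx P).X i) := ModuleCat.subsingleton_of_isZero hz
      exact ⟨inferInstance, inferInstance⟩

end terms

theorem main7072 (h : LCI.IsLCI A B) :
    DRing.IsPerfect B (LCI.NL A B) ∧ DRing.HasTorAmplitudeIn B (-1) 0 (LCI.NL A B) := by
  haveI hfp : Algebra.FinitePresentation A B :=
    Groth.Agent.Lib.LCIPerf.finitePresentation_of_isLCI A B h
  obtain ⟨-, n, f, hf, hK⟩ := h
  let G : Algebra.Generators A B (Fin n) := Algebra.Generators.ofAlgHom f hf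
  let P := G.toExtension
  let Pself := (Algebra.Generators.self A B).toExtension
  have hker : P.ker = RingHom.ker f.toRingHom := Algebra.Generators.ker_ofAlgHom f hf
  have hK' : LCI.IsKoszulRegularIdeal P.ker := by
    rw [hker]
    exact hK
  haveI hproj : Module.Projective B P.Cotangent :=
    Groth.Agent.Lib.H1CotLCI.cotangent_projective _
      (Groth.Agent.Lib.H1CotLCI.cotangent_projective_of_koszulRegular _ hK').2
  haveI hfin : Module.Finite B P.Cotangent := by
    apply Algebra.Extension.Cotangent.finite
    rw [hker]
    exact Algebra.FinitePresentation.ker_fG_of_surjective f hf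
  haveI : Module.Free B P.CotangentSpace := Module.Free.of_basis G.cotangentSpaceBasis
  haveI : Module.Finite B P.CotangentSpace := Module.Finite.of_basis G.cotangentSpaceBasis
  obtain ⟨e⟩ := nonempty_iso P Pself (G.defaultHom (Algebra.Generators.self A B)).toExtensionHom
    (Algebra.Extension.defaultHom (P := P))
  have he : Nonempty (DRing.toD (cx P) ≅ LCI.NL A B) := ⟨e⟩
  refine ⟨⟨cx P, -1, 0, vanishesOutside P, term_finite_projective P, he⟩,
    ⟨cx P, vanishesOutside P, fun i => ?_, he⟩⟩
  haveI := (term_finite_projective P i).2
  infer_instance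

end Groth.Agent.Lib.NLPerf
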