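import Mathlib
import Groth.Prelude.Def_SheafNL
import Groth.Agent.Lib.NLFlatBC1_helper6
import Groth.Agent.Lib.NLPerf_helper2

/-!
# Base change of the naive cotangent complex when `Tor_1^R(S, R') = 0` (helper6), part 2

`bcMap` for the base-changed presentation is an isomorphism of complexes, and `bcMapSelf` is a
homotopy equivalence.
-/

set_option autoImplicit false
universe u
open TensorProduct CategoryTheory

namespace Groth.Agent.Lib.NLFlatBCH6

variable {R S R' S' : Type u} [CommRing R] [CommRing S] [CommRing R'] [CommRing S']
  [Algebra R S] [Algebra R' S'] [Algebra R R'] [Algebra S S'] [Algebra R S']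
  [IsScalarTower R R' S'] [IsScalarTower R S S']

section iso

variable {P : Algebra.Extension.{u} R S} {P' : Algebra.Extension.{u} R' S'} (f : P.Hom P')

lemma isIso_of_isZero {C : Type*} [Category C] [Limits.HasZeroMorphisms C] {X Y : C}
    (hX : Limits.IsZero X) (hY : Limits.IsZero Y) (g : X ⟶ Y) : IsIso g :=
  ⟨⟨0, hX.eq_of_src _ _, hY.eq_of_src _ _⟩⟩

theorem isIso_bcMap_of_bijective
    (h1 : Function.Bijective (LinearMap.liftBaseChange S' (Algebra.Extension.Cotangent.map f)))
    (h0 : Function.Bijective
      (LinearMap.liftBaseChange S' (Algebra.Extension.CotangentSpace.map f))) :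
    IsIso (NLCx.bcMap (S' := S') f) := by
  haveI : ∀ n : ℤ, IsIso ((NLCx.bcMap (S' := S') f).f n) := by
    intro n
    by_cases hn1 : n = -1
    · subst hn1
      unfold NLCx.bcMap
      rw [HomologicalComplex.mkHomFromDouble_f₀]
      have hiso : IsIso (ModuleCat.ofHom
          (LinearMap.liftBaseChange S' (Algebra.Extension.Cotangent.map f))) :=
        (ConcreteCategory.isIso_iff_bijective _).mpr h1
      exact IsIso.comp_isIso' inferInstance (IsIso.comp_isIso' hiso inferInstance)
    · by_cases hn0 : n = 0
      · subst hn0
        unfold NLCx.bcMap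
        rw [HomologicalComplex.mkHomFromDouble_f₁]
        have hiso : IsIso (ModuleCat.ofHom
            (LinearMap.liftBaseChange S' (Algebra.Extension.CotangentSpace.map f))) :=
          (ConcreteCategory.isIso_iff_bijective _).mpr h0
        exact IsIso.comp_isIso' inferInstance (IsIso.comp_isIso' hiso inferInstance)
      · exact isIso_of_isZero (HomologicalComplex.isZero_double_X _ _ n hn1 hn0)
          (HomologicalComplex.isZero_double_X _ _ n hn1 hn0) _
  exact HomologicalComplex.Hom.isIso_of_components _

end iso

/-- S7224, first part: for the base-changed presentation, `bcMap` is an isomorphism of complexes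
when `S` or `R'` is flat over `R`. -/
theorem isIso_bcMap_sameVars [Algebra.IsPushout R R' S S'] {ι : Type u}
    (G : Algebra.Generators R S ι) (G' : Algebra.Generators R' S' ι)
    (h : ∀ i, G'.val i = algebraMap S S' (G.val i))
    (hflat : Module.Flat R S ∨ Module.Flat R R') :
    IsIso (NLCx.bcMap (S' := S') (NLCx.sameVarsHom G G' h).toExtensionHom) :=
  isIso_bcMap_of_bijective _ (cotangent_bijective G G' h hflat) (cotangentSpace_bijective G G' h)

section comp

variable {P : Algebra.Extension.{u} R S} {P' P'' : Algebra.Extension.{u} R' S'}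
  (f : P.Hom P') (g : P'.Hom P'')

theorem bcMap_comp :
    NLCx.bcMap (S' := S') (g.comp f) = NLCx.bcMap (S' := S') f ≫ NLCx.map g := by
  apply HomologicalComplex.from_double_hom_ext
  · rw [HomologicalComplex.comp_f]
    unfold NLCx.bcMap NLCx.map NLCx.cx NLCx.bcCx
    rw [HomologicalComplex.mkHomFromDouble_f₀, HomologicalComplex.mkHomFromDouble_f₀,
      HomologicalComplex.mkHomFromDouble_f₀]
    simp only [Category.assoc, Iso.inv_hom_id_assoc]
    congr 1
    rw [← Category.assoc]
    congr 1
    apply ModuleCat.hom_ext
    apply LinearMap.ext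
    intro t
    induction t using TensorProduct.induction_on with
    | zero => rw [map_zero, map_zero]
    | tmul s' c =>
      rw [ModuleCat.hom_comp, ModuleCat.hom_ofHom, ModuleCat.hom_ofHom, ModuleCat.hom_ofHom,
        LinearMap.comp_apply, LinearMap.liftBaseChange_tmul, LinearMap.liftBaseChange_tmul,
        map_smul, Algebra.Extension.Cotangent.map_comp]
      rfl
    | add a b ha hb => rw [map_add, map_add, ha, hb]
  · rw [HomologicalComplex.comp_f]
    unfold NLCx.bcMap NLCx.map NLCx.cx NLCx.bcCx
    rw [HomologicalComplex.mkHomFromDouble_f₁, HomologicalComplex.mkHomFromDouble_f₁,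
      HomologicalComplex.mkHomFromDouble_f₁]
    simp only [Category.assoc, Iso.inv_hom_id_assoc]
    congr 1
    rw [← Category.assoc]
    congr 1
    apply ModuleCat.hom_ext
    apply LinearMap.ext
    intro t
    induction t using TensorProduct.induction_on with
    | zero => rw [map_zero, map_zero]
    | tmul s' c =>
      rw [ModuleCat.hom_comp, ModuleCat.hom_ofHom, ModuleCat.hom_ofHom, ModuleCat.hom_ofHom,
        LinearMap.comp_apply, LinearMap.liftBaseChange_tmul, LinearMap.liftBaseChange_tmul,
        map_smul, Algebra.Extension.CotangentSpace.map_comp]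
      rfl
    | add a b ha hb => rw [map_add, map_add, ha, hb]

end comp

section self

open MvPolynomial

variable (R S R' S') [Algebra.IsPushout R R' S S']

/-- the base change of the presentation on all elements. -/
noncomputable def G₁ : Algebra.Generators R' S' S :=
  Algebra.Generators.ofSurjective (fun s : S => algebraMap S S' s)
    (Groth.Agent.Lib.NLBcSurjH4.aeval_surjective_of_isPushout (R := R))

lemma G₁_val (s : S) :
    (G₁ R S R' S').val s = algebraMap S S' ((Algebra.Generators.self R S).val s) := rfl

theorem defaultHom_eq :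
    ((Algebra.Generators.self R S).defaultHom (Algebra.Generators.self R' S')).toExtensionHom =
      ((G₁ R S R' S').defaultHom (Algebra.Generators.self R' S')).toExtensionHom.comp
        (NLCx.sameVarsHom (Algebra.Generators.self R S) (G₁ R S R' S')
          (G₁_val R S R' S')).toExtensionHom := by
  apply Algebra.Extension.Hom.ext
  apply MvPolynomial.ringHom_ext
  · intro r
    change ((Algebra.Generators.self R S).defaultHom (Algebra.Generators.self R' S')).toAlgHom
        (C r) =
      ((G₁ R S R' S').defaultHom (Algebra.Generators.self R' S')).toAlgHom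
        ((NLCx.sameVarsHom (Algebra.Generators.self R S) (G₁ R S R' S')
          (G₁_val R S R' S')).toAlgHom (C r))
    rw [Algebra.Generators.Hom.toAlgHom_C, Algebra.Generators.Hom.toAlgHom_C,
      Algebra.Generators.Hom.toAlgHom_C]
    rfl
  · intro s
    change ((Algebra.Generators.self R S).defaultHom (Algebra.Generators.self R' S')).toAlgHom
        (X s) =
      ((G₁ R S R' S').defaultHom (Algebra.Generators.self R' S')).toAlgHom
        ((NLCx.sameVarsHom (Algebra.Generators.self R S) (G₁ R S R' S')
          (G₁_val R S R' S')).toAlgHom (X s))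
    rw [Algebra.Generators.Hom.toAlgHom_X, Algebra.Generators.Hom.toAlgHom_X,
      show (NLCx.sameVarsHom (Algebra.Generators.self R S) (G₁ R S R' S')
        (G₁_val R S R' S')).val s = X s from rfl,
      Algebra.Generators.Hom.toAlgHom_X]
    rfl

theorem cxEquiv_hom {P P' : Algebra.Extension.{u} R' S'} (g : P.Hom P') (g' : P'.Hom P) :
    (Groth.Agent.Lib.NLPerf.cxEquiv P P' g g').hom = NLCx.map g := rfl

end self

section main

variable (R S R' S') [Algebra.IsPushout R R' S S']

/-- `bcMapSelf` is (the `hom` of) a homotopy equivalence when `S` or `R'` is flat over `R`. -/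
theorem exists_homotopyEquiv_bcMapSelf (hflat : Module.Flat R S ∨ Module.Flat R R') :
    ∃ e : HomotopyEquiv (NLCx.bcCx (Algebra.Generators.self R S).toExtension S')
        (NLCx.cx (Algebra.Generators.self R' S').toExtension),
      e.hom = NLCx.bcMapSelf R S R' S' := by
  haveI := isIso_bcMap_sameVars (Algebra.Generators.self R S) (G₁ R S R' S')
    (G₁_val R S R' S') hflat
  obtain ⟨e₁, he₁⟩ : ∃ e₁ : HomotopyEquiv
      (NLCx.bcCx (Algebra.Generators.self R S).toExtension S')
      (NLCx.cx (G₁ R S R' S').toExtension),
      e₁.hom = NLCx.bcMap (S' := S') (NLCx.sameVarsHom (Algebra.Generators.self R S)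
        (G₁ R S R' S') (G₁_val R S R' S')).toExtensionHom :=
    ⟨HomotopyEquiv.ofIso (asIso (NLCx.bcMap (S' := S')
      (NLCx.sameVarsHom (Algebra.Generators.self R S) (G₁ R S R' S')
        (G₁_val R S R' S')).toExtensionHom)), rfl⟩
  obtain ⟨e₂, he₂⟩ : ∃ e₂ : HomotopyEquiv (NLCx.cx (G₁ R S R' S').toExtension)
      (NLCx.cx (Algebra.Generators.self R' S').toExtension),
      e₂.hom = NLCx.map
        ((G₁ R S R' S').defaultHom (Algebra.Generators.self R' S')).toExtensionHom :=
    ⟨Groth.Agent.Lib.NLPerf.cxEquiv (G₁ R S R' S').toExtension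
      (Algebra.Generators.self R' S').toExtension
      ((G₁ R S R' S').defaultHom (Algebra.Generators.self R' S')).toExtensionHom
      ((Algebra.Generators.self R' S').defaultHom (G₁ R S R' S')).toExtensionHom, rfl⟩
  refine ⟨e₁.trans e₂, ?_⟩
  change e₁.hom ≫ e₂.hom = _
  rw [he₁, he₂, ← bcMap_comp]
  unfold NLCx.bcMapSelf
  rw [defaultHom_eq]

end main

end Groth.Agent.Lib.NLFlatBCH6
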