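import Mathlib
import Groth.Prelude.Def_LCI2
import Groth.Agent.Lib.NLPerf_helper2
import Groth.Agent.Lib.BrutalTrunc_helper2
import Groth.Agent.Lib.DMod42_helper6
import Groth.Agent.Lib.DMod50_helper6
import Groth.Agent.Lib.DMod61_helper6

/-!
# Tor amplitude `[-1, 0]` of a two-term complex with flat degree-zero term forces the degree `-1`
term to be flat (helper6).  Application to the naive cotangent complex of an extension.
-/

set_option autoImplicit false
universe u
open CategoryTheory CategoryTheory.Limits Pretriangulated DerivedCategory ZeroObject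
attribute [local instance] HasDerivedCategory.standard

namespace Groth.Agent.Lib.NLTorAmpH6

open DRing CochainComplex Groth.Agent.Lib.DMod_helper6 Groth.Agent.Lib.BrutalTrunc

variable {B : Type u} [CommRing B]

/-- A module placed in degree `-1` with tor amplitude in `[-1, 0]` is flat. -/
theorem flat_of_single_neg_one (M : ModuleCat.{u} B)
    (h : HasTorAmplitudeIn B (-1) 0
      (toD ((HomologicalComplex.single (ModuleCat.{u} B) (ComplexShape.up ℤ) (-1)).obj M))) :
    Module.Flat B M := by
  have e1 : toD ((HomologicalComplex.single (ModuleCat.{u} B) (ComplexShape.up ℤ) (-1)).obj M) ≅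
      (DerivedCategory.singleFunctor (ModuleCat.{u} B) (-1)).obj M :=
    ((singleFunctorIsoCompQ (ModuleCat.{u} B) (-1)).app M).symm
  have h1 := hasTorAmplitudeIn_of_iso e1 _ _ h
  have h2 := hasTorAmplitudeIn_shift _ (-1) 0 0 1 (-1) (by norm_num) (by norm_num) h1
  have e2 : ((DerivedCategory.singleFunctor (ModuleCat.{u} B) (-1)).obj M)⟦(-1 : ℤ)⟧ ≅
      (DerivedCategory.singleFunctor (ModuleCat.{u} B) 0).obj M :=
    ((DerivedCategory.singleFunctors (ModuleCat.{u} B)).shiftIso (-1) 0 (-1) (by norm_num)).app M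
  have h3 : HasTorAmplitudeIn B 0 1 (Dual.inD B M) := hasTorAmplitudeIn_of_iso e2 _ _ h2
  have h4 := hasTorDimLE_of_hasTorAmplitudeIn (A := B) M 0 1 0 (by simp) h3
  exact (hasTorDimLE_iff_and_flat (A := B) M 0).2.mp h4

/-- If a complex `K` concentrated in degrees `[-1, 0]` with `K⁰` flat has tor amplitude in
`[-1, 0]`, then `K⁻¹` is flat. -/
theorem flat_X_neg_one (K : Cx B) (hK : VanishesOutside K (-1) 0) (h0 : Module.Flat B (K.X 0))
    (h : HasTorAmplitudeIn B (-1) 0 (toD K)) : Module.Flat B (K.X (-1)) := by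
  have hS := sc_shortExact K (-1) 0 (by norm_num)
  have hT := triangleOfSES_distinguished hS
  -- the first term
  have h1 : HasTorAmplitudeIn B 0 1 (toD (sigmaGE K 0)) := by
    refine ⟨sigmaGE K 0, ?_, ?_, ⟨Iso.refl _⟩⟩
    · intro i hi
      rcases hi with hi | hi
      · exact isZero_sigmaGE_X K (by omega)
      · exact isZero_sigmaGE_X' K 0 i (hK i (Or.inr (by omega)))
    · intro i
      by_cases hi : 0 ≤ i
      · haveI := isIso_ι K hi
        have e : (sigmaGE K 0).X i ≅ K.X i := asIso (ι K 0 i)
        by_cases hi0 : i = 0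
        · subst hi0
          exact Module.Flat.of_linearEquiv e.toLinearEquiv
        · exact flat_of_isZero _ (IsZero.of_iso (hK i (Or.inr (by omega))) e)
      · exact flat_of_isZero _ (isZero_sigmaGE_X K hi)
  -- the middle term
  have h2 : HasTorAmplitudeIn B (-1) 0 (toD (sigmaGE K (-1))) := by
    haveI : ∀ n : ℤ, IsIso ((incl K (-1)).f n) := by
      intro n
      rw [incl_f]
      by_cases hn : -1 ≤ n
      · exact isIso_ι K hn
      · exact ⟨0, (isZero_sigmaGE_X K hn).eq_of_src _ _,
          (hK n (Or.inl (by omega))).eq_of_src _ _⟩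
    haveI : IsIso (incl K (-1)) := HomologicalComplex.Hom.isIso_of_components _
    exact hasTorAmplitudeIn_of_iso (asIso (Q.map (incl K (-1)))).symm _ _ h
  have h1' : HasTorAmplitudeIn B (-1 + 1) (0 + 1) (toD (sigmaGE K 0)) := by
    norm_num
    exact h1
  have h3 := hasTorAmplitudeIn_cone _ hT (-1) 0 h1' h2
  exact flat_of_single_neg_one (K.X (-1)) h3

variable {A : Type u} [CommRing A] [Algebra A B]

/-- If the two-term cotangent complex of an extension with flat cotangent space has tor
amplitude in `[-1, 0]`, then the cotangent module `I/I²` is flat. -/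
theorem cotangent_flat_of_torAmp (P : Algebra.Extension.{u} A B) [Module.Flat B P.CotangentSpace]
    (h : HasTorAmplitudeIn B (-1) 0 (toD (Groth.Agent.Lib.NLPerf.cx P))) :
    Module.Flat B P.Cotangent := by
  have hflat0 : Module.Flat B ((Groth.Agent.Lib.NLPerf.cx P).X 0) := by
    let e := (HomologicalComplex.doubleXIso₁ (ModuleCat.ofHom P.cotangentComplex)
      Groth.Agent.Lib.TwoTerm.rel Groth.Agent.Lib.TwoTerm.ne).toLinearEquiv
    exact Module.Flat.of_linearEquiv e
  have h1 := flat_X_neg_one (Groth.Agent.Lib.NLPerf.cx P)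
    (Groth.Agent.Lib.NLPerf.vanishesOutside P) hflat0 h
  let e := (HomologicalComplex.doubleXIso₀ (ModuleCat.ofHom P.cotangentComplex)
    Groth.Agent.Lib.TwoTerm.rel).toLinearEquiv
  haveI : Module.Flat B ↑((HomologicalComplex.double (ModuleCat.ofHom P.cotangentComplex)
    Groth.Agent.Lib.TwoTerm.rel).X (-1)) := h1
  exact Module.Flat.of_linearEquiv e.symm

end Groth.Agent.Lib.NLTorAmpH6
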