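import Mathlib
import Groth.Prelude.Def_SheafNL
import Groth.Agent.Lib.NLFlatBC2_helper6
import Groth.Agent.Lib.NLTorAmp1_helper6
import Groth.Agent.Lib.DMod48_helper6

/-!
# Base change of the naive cotangent complex when `Tor_1^R(S, R') = 0` (helper6), part 3

The derived base change of `NL_{B/A}` for flat `B` of tor-amplitude `[-1, 0]`.
-/

set_option autoImplicit false
universe u v w v' w'
open CategoryTheory HomologicalComplex Groth.Agent.Lib.TwoTerm

namespace Groth.Agent.Lib.NLFlatBCH6

section twoTerm

variable {V : Type w} [Category.{v} V] [Preadditive V] [Limits.HasZeroObject V]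
  {W : Type w'} [Category.{v'} W] [Preadditive W] [Limits.HasZeroObject W]

/-- an isomorphism of arrows gives an isomorphism of two-term complexes. -/
noncomputable def doubleIso {X₀ X₁ Y₀ Y₁ : V} (f : X₀ ⟶ X₁) (g : Y₀ ⟶ Y₁) (a₀ : X₀ ≅ Y₀)
    (a₁ : X₁ ≅ Y₁) (comm : a₀.hom ≫ g = f ≫ a₁.hom) : double f rel ≅ double g rel where
  hom := dmap f g a₀.hom a₁.hom comm
  inv := dmap g f a₀.inv a₁.inv (by
    rw [Iso.inv_comp_eq, ← Category.assoc, Iso.eq_comp_inv]
    exact comm.symm)
  hom_inv_id := by
    rw [dmap_comp]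
    simp only [Iso.hom_inv_id]
    exact dmap_id f
  inv_hom_id := by
    rw [dmap_comp]
    simp only [Iso.inv_hom_id]
    exact dmap_id g

/-- comparison of the double of `F.map f` with the image of the double of `f`. -/
noncomputable def mapDoubleHom (F : V ⥤ W) [F.Additive] {X₀ X₁ : V} (f : X₀ ⟶ X₁) :
    double (F.map f) rel ⟶
      (F.mapHomologicalComplex (ComplexShape.up ℤ)).obj (double f rel) :=
  mkHomFromDouble rel ne (F.map (doubleXIso₀ f rel).inv) (F.map (doubleXIso₁ f rel ne).inv)
    (by
      change F.map _ ≫ F.map ((double f rel).d (-1) 0) = _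
      rw [← F.map_comp, double_d f rel ne, Iso.inv_hom_id_assoc, F.map_comp]
      rfl)
    (by
      intro k _
      change F.map _ ≫ F.map ((double f rel).d 0 k) = 0
      rw [double_d_eq_zero₀ f rel 0 k (by decide), F.map_zero, Limits.comp_zero])

instance isIso_mapDoubleHom (F : V ⥤ W) [F.Additive] {X₀ X₁ : V} (f : X₀ ⟶ X₁) :
    IsIso (mapDoubleHom F f) := by
  haveI : ∀ n : ℤ, IsIso ((mapDoubleHom F f).f n) := by
    intro n
    by_cases hn1 : n = -1
    · subst hn1
      unfold mapDoubleHom
      rw [mkHomFromDouble_f₀]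
      exact IsIso.comp_isIso' inferInstance (Functor.map_isIso F (doubleXIso₀ f rel).inv)
    · by_cases hn0 : n = 0
      · subst hn0
        unfold mapDoubleHom
        rw [mkHomFromDouble_f₁]
        exact IsIso.comp_isIso' inferInstance (Functor.map_isIso F (doubleXIso₁ f rel ne).inv)
      · exact isIso_of_isZero (isZero_double_X _ _ n hn1 hn0)
          (F.map_isZero (isZero_double_X _ _ n hn1 hn0)) _
  exact HomologicalComplex.Hom.isIso_of_components _

end twoTerm

section derived

open DRing Groth.Agent.Lib.DMod_helper6 Groth.Agent.ExtendScalarsLib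
attribute [local instance] HasDerivedCategory.standard

variable {B B' : Type u} [CommRing B] [CommRing B'] [Algebra B B']

/-- the termwise base change of a two-term complex, as a `double`. -/
theorem nonempty_ESc_double_iso {M N : Type u} [AddCommGroup M] [Module B M] [AddCommGroup N]
    [Module B N] (d : M →ₗ[B] N) :
    Nonempty (((ModuleCat.extendScalars.{u, u, u} (algebraMap B B')).mapHomologicalComplex
        (ComplexShape.up ℤ)).obj (double (ModuleCat.ofHom d) rel) ≅
      double (ModuleCat.ofHom (d.baseChange B')) rel) := by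
  have comm : (extendScalarsEquivTensor (S := B') (ModuleCat.of B M)).toModuleIso.hom ≫
      ModuleCat.ofHom (d.baseChange B') =
      (ES B B').map (ModuleCat.ofHom d) ≫
        (extendScalarsEquivTensor (S := B') (ModuleCat.of B N)).toModuleIso.hom := by
    apply ModuleCat.hom_ext
    apply LinearMap.ext
    intro x
    exact (ES_map_comm (ModuleCat.ofHom d) x).symm
  exact ⟨(asIso (mapDoubleHom (ES B B') (ModuleCat.ofHom d))).symm ≪≫
    doubleIso _ _ (extendScalarsEquivTensor (S := B') (ModuleCat.of B M)).toModuleIso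
      (extendScalarsEquivTensor (S := B') (ModuleCat.of B N)).toModuleIso comm⟩

end derived

section main

open DRing Groth.Agent.Lib.DMod_helper6
attribute [local instance] HasDerivedCategory.standard

/-- S7222, second part. -/
theorem nonempty_lBaseChange_NL_iso (A B A' B' : Type u) [CommRing A] [CommRing B]
    [CommRing A'] [CommRing B'] [Algebra A B] [Algebra A' B'] [Algebra A A'] [Algebra B B']
    [Algebra A B'] [IsScalarTower A A' B'] [IsScalarTower A B B'] [Algebra.IsPushout A A' B B']
    [Module.Flat A B] (hTor : DRing.HasTorAmplitudeIn B (-1) 0 (LCI.NL A B))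
    [DRing.HasLBaseChange (algebraMap B B')] :
    Nonempty ((DRing.LBaseChange (algebraMap B B')).obj (LCI.NL A B) ≅ LCI.NL A' B') := by
  obtain ⟨P, hP⟩ : ∃ P : Algebra.Extension.{u} A B,
      P = (Algebra.Generators.self A B).toExtension := ⟨_, rfl⟩
  have hV : VanishesOutside (Groth.Agent.Lib.NLPerf.cx P) (-1) 0 :=
    Groth.Agent.Lib.NLPerf.vanishesOutside P
  haveI : Module.Flat B P.CotangentSpace := by
    rw [hP]
    exact Module.Flat.of_free
  have hTor' : HasTorAmplitudeIn B (-1) 0 (toD (Groth.Agent.Lib.NLPerf.cx P)) := by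
    rw [hP]
    exact hTor
  have h1 : Module.Flat B P.Cotangent :=
    Groth.Agent.Lib.NLTorAmpH6.cotangent_flat_of_torAmp P hTor'
  have hflat : TermwiseFlat (Groth.Agent.Lib.NLPerf.cx P) := by
    intro i
    by_cases hn1 : i = -1
    · subst hn1
      exact Module.Flat.of_linearEquiv
        (doubleXIso₀ (ModuleCat.ofHom P.cotangentComplex) rel).toLinearEquiv
    · by_cases hn0 : i = 0
      · subst hn0
        exact Module.Flat.of_linearEquiv
          (doubleXIso₁ (ModuleCat.ofHom P.cotangentComplex) rel ne).toLinearEquiv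
      · haveI : Subsingleton ((Groth.Agent.Lib.NLPerf.cx P).X i) :=
          ModuleCat.subsingleton_of_isZero (isZero_double_X _ _ i hn1 hn0)
        infer_instance
  obtain ⟨e1⟩ := nonempty_lBaseChange_iso_of_flat (algebraMap B B')
    (Groth.Agent.Lib.NLPerf.cx P) 0 (fun i hi => hV i (Or.inr hi)) hflat
  obtain ⟨e2⟩ := nonempty_ESc_double_iso (B' := B') P.cotangentComplex
  obtain ⟨e, he⟩ := exists_homotopyEquiv_bcMapSelf A B A' B' (Or.inl inferInstance)
  haveI : QuasiIso e.hom := inferInstance
  have hiso : IsIso (DerivedCategory.Q.map e.hom) :=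
    (DerivedCategory.isIso_Q_map_iff_quasiIso (φ := e.hom)).mpr inferInstance
  obtain ⟨e3, -⟩ : ∃ e3 : toD (NLCx.bcCx (Algebra.Generators.self A B).toExtension B') ≅
      toD (NLCx.cx (Algebra.Generators.self A' B').toExtension),
      e3.hom = DerivedCategory.Q.map e.hom := ⟨@asIso _ _ _ _ _ hiso, rfl⟩
  subst hP
  exact ⟨e1 ≪≫ DerivedCategory.Q.mapIso e2 ≪≫ e3⟩

end main

end Groth.Agent.Lib.NLFlatBCH6
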