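import Mathlib

set_option autoImplicit false
universe u v

namespace Groth.Agent.Lib.NLHensH5

open CategoryTheory Limits HomologicalComplex

section SC

variable {R : Type u} [Ring R]

/-- elementwise criterion for a morphism of short complexes of modules to be a quasi-isomorphism. -/
theorem shortComplex_quasiIso_of {S₁ S₂ : ShortComplex (ModuleCat.{v} R)} (φ : S₁ ⟶ S₂)
    (hs : ∀ y : S₂.X₂, S₂.g.hom y = 0 →
      ∃ x : S₁.X₂, S₁.g.hom x = 0 ∧ ∃ z : S₂.X₁, φ.τ₂.hom x - y = S₂.f.hom z)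
    (hi : ∀ x : S₁.X₂, S₁.g.hom x = 0 → (∃ z : S₂.X₁, φ.τ₂.hom x = S₂.f.hom z) →
      ∃ w : S₁.X₁, x = S₁.f.hom w) :
    ShortComplex.QuasiIso φ := by
  rw [ShortComplex.quasiIso_iff_isIso_leftHomologyMap' φ S₁.moduleCatLeftHomologyData
    S₂.moduleCatLeftHomologyData]
  rw [ConcreteCategory.isIso_iff_bijective]
  have hπ := ShortComplex.leftHomologyπ_naturality' φ S₁.moduleCatLeftHomologyData
    S₂.moduleCatLeftHomologyData
  have hι := ShortComplex.cyclesMap'_i φ S₁.moduleCatLeftHomologyData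
    S₂.moduleCatLeftHomologyData
  let cK : LinearMap.ker S₁.g.hom →ₗ[R] LinearMap.ker S₂.g.hom :=
    (ShortComplex.cyclesMap' φ S₁.moduleCatLeftHomologyData S₂.moduleCatLeftHomologyData).hom
  let cH : (LinearMap.ker S₁.g.hom ⧸ LinearMap.range S₁.moduleCatToCycles) →ₗ[R]
      (LinearMap.ker S₂.g.hom ⧸ LinearMap.range S₂.moduleCatToCycles) :=
    (ShortComplex.leftHomologyMap' φ S₁.moduleCatLeftHomologyData
      S₂.moduleCatLeftHomologyData).hom
  have hπ' : ∀ k : LinearMap.ker S₁.g.hom,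
      cH (Submodule.Quotient.mk k) = Submodule.Quotient.mk (cK k) := by
    intro k
    exact (congr(($hπ).hom k))
  have hι' : ∀ k : LinearMap.ker S₁.g.hom, ((cK k : LinearMap.ker S₂.g.hom) : S₂.X₂) =
      φ.τ₂.hom k.1 := by
    intro k
    exact congr(($hι).hom k)
  show Function.Bijective cH
  constructor
  · rw [injective_iff_map_eq_zero]
    intro xb hxb
    obtain ⟨k, rfl⟩ := Submodule.Quotient.mk_surjective _ xb
    rw [hπ' k, Submodule.Quotient.mk_eq_zero] at hxb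
    obtain ⟨z, hz⟩ := hxb
    have h1 : φ.τ₂.hom k.1 = S₂.f.hom z := by
      rw [← hι' k, ← hz]
      rfl
    obtain ⟨w, hw⟩ := hi k.1 k.2 ⟨z, h1⟩
    rw [Submodule.Quotient.mk_eq_zero]
    exact ⟨w, Subtype.ext hw.symm⟩
  · intro yb
    obtain ⟨k₂, rfl⟩ := Submodule.Quotient.mk_surjective _ yb
    obtain ⟨x, hx, z, hz⟩ := hs k₂.1 k₂.2
    refine ⟨Submodule.Quotient.mk ⟨x, hx⟩, ?_⟩
    rw [hπ', Submodule.Quotient.eq]
    refine ⟨z, Subtype.ext ?_⟩
    rw [Submodule.coe_sub, hι']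
    exact hz.symm

end SC

section TwoTerm

variable {R : Type u} [Ring R]

theorem quasiIso_of_twoTerm {K L : CochainComplex (ModuleCat.{v} R) ℤ} (ψ : K ⟶ L)
    (hK : ∀ n : ℤ, n ≠ -1 → n ≠ 0 → IsZero (K.X n)) (hL : ∀ n : ℤ, n ≠ -1 → n ≠ 0 → IsZero (L.X n))
    (h1s : ∀ y : L.X (-1), (L.d (-1) 0).hom y = 0 →
      ∃ x : K.X (-1), (K.d (-1) 0).hom x = 0 ∧ (ψ.f (-1)).hom x = y)
    (h1i : ∀ x : K.X (-1), (K.d (-1) 0).hom x = 0 → (ψ.f (-1)).hom x = 0 → x = 0)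
    (h0s : ∀ y : L.X 0, ∃ (x : K.X 0) (z : L.X (-1)), (ψ.f 0).hom x - y = (L.d (-1) 0).hom z)
    (h0i : ∀ x : K.X 0, (∃ z : L.X (-1), (ψ.f 0).hom x = (L.d (-1) 0).hom z) →
      ∃ w : K.X (-1), x = (K.d (-1) 0).hom w) :
    QuasiIso ψ := by
  refine ⟨fun n => ?_⟩
  by_cases hn1 : n = -1
  · subst hn1
    rw [quasiIsoAt_iff' ψ (-2) (-1) 0 (by simp) (by simp)]
    haveI : Subsingleton (L.X (-2)) := ModuleCat.subsingleton_of_isZero (hL _ (by decide) (by decide))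
    apply shortComplex_quasiIso_of
    · intro y hy
      obtain ⟨x, hx, hxy⟩ := h1s y hy
      refine ⟨x, hx, 0, ?_⟩
      rw [map_zero]
      exact sub_eq_zero.2 hxy
    · intro x hx ⟨z, hz⟩
      refine ⟨0, ?_⟩
      rw [map_zero]
      apply h1i x hx
      have hz0 : z = 0 := (inferInstance : Subsingleton (L.X (-2))).elim z 0
      rw [hz0, map_zero] at hz
      exact hz
  · by_cases hn0 : n = 0
    · subst hn0
      rw [quasiIsoAt_iff' ψ (-1) 0 1 (by simp) (by simp)]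
      haveI : Subsingleton (K.X 1) := ModuleCat.subsingleton_of_isZero (hK _ (by decide) (by decide))
      apply shortComplex_quasiIso_of
      · intro y _
        obtain ⟨x, z, hxz⟩ := h0s y
        exact ⟨x, (inferInstance : Subsingleton (K.X 1)).elim _ _, z, hxz⟩
      · intro x _ hz
        exact h0i x hz
    · have h1 : K.ExactAt n := ShortComplex.exact_of_isZero_X₂ _ (hK n hn1 hn0)
      have h2 : L.ExactAt n := ShortComplex.exact_of_isZero_X₂ _ (hL n hn1 hn0)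
      rw [quasiIsoAt_iff_exactAt ψ n h1]
      exact h2

end TwoTerm

section Double

variable {R : Type u} [Ring R]

theorem iso_hom_inv_apply {X Y : ModuleCat.{v} R} (e : X ≅ Y) (y : Y) : e.hom.hom (e.inv.hom y) = y := by
  rw [← LinearMap.comp_apply, ← ModuleCat.hom_comp, e.inv_hom_id]; rfl

theorem iso_inv_hom_apply {X Y : ModuleCat.{v} R} (e : X ≅ Y) (x : X) : e.inv.hom (e.hom.hom x) = x := by
  rw [← LinearMap.comp_apply, ← ModuleCat.hom_comp, e.hom_inv_id]; rfl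

theorem iso_inv_eq_zero {X Y : ModuleCat.{v} R} (e : X ≅ Y) (y : Y) (h : e.inv.hom y = 0) : y = 0 := by
  rw [← iso_hom_inv_apply e y, h, map_zero]

theorem hrel : (ComplexShape.up ℤ).Rel (-1) 0 := by simp

theorem hne : (-1 : ℤ) ≠ 0 := by decide

theorem quasiIso_double {M₁ M₀ N₁ N₀ : ModuleCat.{v} R} (d : M₁ ⟶ M₀) (d' : N₁ ⟶ N₀)
    (a₁ : M₁ ⟶ N₁) (a₀ : M₀ ⟶ N₀)
    (ψ : double d hrel ⟶ double d' hrel)
    (hψ₁ : ψ.f (-1) = (doubleXIso₀ d hrel).hom ≫ a₁ ≫ (doubleXIso₀ d' hrel).inv)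
    (hψ₀ : ψ.f 0 = (doubleXIso₁ d hrel hne).hom ≫ a₀ ≫ (doubleXIso₁ d' hrel hne).inv)
    (h1s : ∀ y : N₁, d'.hom y = 0 → ∃ x : M₁, d.hom x = 0 ∧ a₁.hom x = y)
    (h1i : ∀ x : M₁, d.hom x = 0 → a₁.hom x = 0 → x = 0)
    (h0s : ∀ y : N₀, ∃ (x : M₀) (z : N₁), a₀.hom x - y = d'.hom z)
    (h0i : ∀ x : M₀, (∃ z : N₁, a₀.hom x = d'.hom z) → ∃ w : M₁, x = d.hom w) :
    QuasiIso ψ := by
  have hKd : ∀ x : (double d hrel).X (-1), ((double d hrel).d (-1) 0).hom x =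
      (doubleXIso₁ d hrel hne).inv.hom (d.hom ((doubleXIso₀ d hrel).hom.hom x)) := by
    intro x
    rw [double_d d hrel hne]
    rfl
  have hLd : ∀ x : (double d' hrel).X (-1), ((double d' hrel).d (-1) 0).hom x =
      (doubleXIso₁ d' hrel hne).inv.hom (d'.hom ((doubleXIso₀ d' hrel).hom.hom x)) := by
    intro x
    rw [double_d d' hrel hne]
    rfl
  have hf₁ : ∀ x : (double d hrel).X (-1), (ψ.f (-1)).hom x =
      (doubleXIso₀ d' hrel).inv.hom (a₁.hom ((doubleXIso₀ d hrel).hom.hom x)) := by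
    intro x
    rw [hψ₁]
    rfl
  have hf₀ : ∀ x : (double d hrel).X 0, (ψ.f 0).hom x =
      (doubleXIso₁ d' hrel hne).inv.hom (a₀.hom ((doubleXIso₁ d hrel hne).hom.hom x)) := by
    intro x
    rw [hψ₀]
    rfl
  apply quasiIso_of_twoTerm ψ
  · intro n h1 h0
    exact isZero_double_X d hrel n h1 h0
  · intro n h1 h0
    exact isZero_double_X d' hrel n h1 h0
  · intro y hy
    rw [hLd] at hy
    obtain ⟨x, hx, hxy⟩ := h1s _ (iso_inv_eq_zero _ _ hy)
    refine ⟨(doubleXIso₀ d hrel).inv.hom x, ?_, ?_⟩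
    · rw [hKd, iso_hom_inv_apply, hx, map_zero]
    · rw [hf₁, iso_hom_inv_apply, hxy, iso_inv_hom_apply]
  · intro x hx hx0
    rw [hKd] at hx
    rw [hf₁] at hx0
    have h1 := h1i _ (iso_inv_eq_zero _ _ hx) (iso_inv_eq_zero _ _ hx0)
    rw [← iso_inv_hom_apply (doubleXIso₀ d hrel) x, h1, map_zero]
  · intro y
    obtain ⟨x, z, hxz⟩ := h0s ((doubleXIso₁ d' hrel hne).hom.hom y)
    refine ⟨(doubleXIso₁ d hrel hne).inv.hom x, (doubleXIso₀ d' hrel).inv.hom z, ?_⟩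
    rw [hf₀, hLd, iso_hom_inv_apply, iso_hom_inv_apply, ← hxz, map_sub, iso_inv_hom_apply]
  · intro x ⟨z, hz⟩
    rw [hf₀, hLd] at hz
    have h2 : a₀.hom ((doubleXIso₁ d hrel hne).hom.hom x) =
        d'.hom ((doubleXIso₀ d' hrel).hom.hom z) := by
      have := congrArg (doubleXIso₁ d' hrel hne).hom.hom hz
      rwa [iso_hom_inv_apply, iso_hom_inv_apply] at this
    obtain ⟨w, hw⟩ := h0i _ ⟨_, h2⟩
    refine ⟨(doubleXIso₀ d hrel).inv.hom w, ?_⟩
    rw [hKd, iso_hom_inv_apply, ← hw, iso_inv_hom_apply]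

end Double

end Groth.Agent.Lib.NLHensH5
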