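import Mathlib
import Groth.Prelude.Def_SheafNL
import Groth.Agent.Lib.NLHens1_helper5

set_option autoImplicit false
universe u v

namespace Groth.Agent.Lib.NLHensH5

open CategoryTheory Limits HomologicalComplex TensorProduct Algebra

section BcMap

variable {R S R' S' : Type u} [CommRing R] [CommRing S] [CommRing R'] [CommRing S']
  [Algebra R S] [Algebra R' S'] [Algebra R R'] [Algebra S S'] [Algebra R S']
  [IsScalarTower R R' S'] [IsScalarTower R S S']
  {P : Algebra.Extension.{u} R S} {P' : Algebra.Extension.{u} R' S'} (f : P.Hom P')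

theorem quasiIso_bcMap
    (h1s : ∀ y : P'.Cotangent, P'.cotangentComplex y = 0 →
      ∃ x : S' ⊗[S] P.Cotangent, P.cotangentComplex.baseChange S' x = 0 ∧
        LinearMap.liftBaseChange S' (Algebra.Extension.Cotangent.map f) x = y)
    (h1i : ∀ x : S' ⊗[S] P.Cotangent, P.cotangentComplex.baseChange S' x = 0 →
      LinearMap.liftBaseChange S' (Algebra.Extension.Cotangent.map f) x = 0 → x = 0)
    (h0s : ∀ y : P'.CotangentSpace, ∃ (x : S' ⊗[S] P.CotangentSpace) (z : P'.Cotangent),
      LinearMap.liftBaseChange S' (Algebra.Extension.CotangentSpace.map f) x - y =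
        P'.cotangentComplex z)
    (h0i : ∀ x : S' ⊗[S] P.CotangentSpace,
      (∃ z : P'.Cotangent, LinearMap.liftBaseChange S' (Algebra.Extension.CotangentSpace.map f) x =
        P'.cotangentComplex z) →
      ∃ w : S' ⊗[S] P.Cotangent, x = P.cotangentComplex.baseChange S' w) :
    QuasiIso (NLCx.bcMap (S' := S') f) := by
  refine quasiIso_double (ModuleCat.ofHom (P.cotangentComplex.baseChange S'))
    (ModuleCat.ofHom P'.cotangentComplex)
    (ModuleCat.ofHom (LinearMap.liftBaseChange S' (Algebra.Extension.Cotangent.map f)))
    (ModuleCat.ofHom (LinearMap.liftBaseChange S' (Algebra.Extension.CotangentSpace.map f)))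
    (NLCx.bcMap (S' := S') f) ?_ ?_ h1s h1i h0s h0i
  · unfold NLCx.bcMap
    rw [mkHomFromDouble_f₀]
    rfl
  · unfold NLCx.bcMap
    rw [mkHomFromDouble_f₁]
    rfl

end BcMap

section BcMap2

variable {R S R' S' : Type u} [CommRing R] [CommRing S] [CommRing R'] [CommRing S']
  [Algebra R S] [Algebra R' S'] [Algebra R R'] [Algebra S S'] [Algebra R S']
  [IsScalarTower R R' S'] [IsScalarTower R S S']
  {P : Algebra.Extension.{u} R S} {P' : Algebra.Extension.{u} R' S'} (f : P.Hom P')

theorem toKaehler_map (c : P.CotangentSpace) :
    P'.toKaehler (Extension.CotangentSpace.map f c) =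
      KaehlerDifferential.map R R' S S' (P.toKaehler c) := by
  induction c using TensorProduct.induction_on with
  | zero => simp only [map_zero]
  | add x y hx hy => simp only [map_add, hx, hy]
  | tmul x y =>
    obtain ⟨y, rfl⟩ := KaehlerDifferential.tensorProductTo_surjective _ _ y
    induction y using TensorProduct.induction_on with
    | zero => simp only [map_zero, tmul_zero]
    | add a b ha hb => simp only [map_add, tmul_add, ha, hb]
    | tmul a b =>
      simp only [Derivation.tensorProductTo_tmul, tmul_smul, smul_tmul', Extension.CotangentSpace.map_tmul,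
        KaehlerDifferential.mapBaseChange_tmul, KaehlerDifferential.map_D, map_smul,
        Extension.Hom.toAlgHom_apply, f.algebraMap_toRingHom]
      rw [algebraMap_smul]

theorem liftBaseChange_h1 (t : S' ⊗[S] P.H1Cotangent) :
    LinearMap.liftBaseChange S' (Extension.Cotangent.map f)
      (Extension.h1Cotangentι.baseChange S' t) =
    Extension.h1Cotangentι ((Extension.H1Cotangent.map f).liftBaseChange S' t) := by
  induction t using TensorProduct.induction_on with
  | zero => simp only [map_zero]
  | add x y hx hy => simp only [map_add, hx, hy]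
  | tmul s h =>
    simp only [LinearMap.baseChange_tmul, LinearMap.liftBaseChange_tmul, map_smul]
    rfl

theorem liftBaseChange_toKaehler (x : S' ⊗[S] P.CotangentSpace) :
    P'.toKaehler (LinearMap.liftBaseChange S' (Extension.CotangentSpace.map f) x) =
      LinearMap.liftBaseChange S' (KaehlerDifferential.map R R' S S')
        (P.toKaehler.baseChange S' x) := by
  induction x using TensorProduct.induction_on with
  | zero => simp only [map_zero]
  | add x y hx hy => simp only [map_add, hx, hy]
  | tmul s c =>
    simp only [LinearMap.baseChange_tmul, LinearMap.liftBaseChange_tmul, map_smul, toKaehler_map]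

theorem quasiIso_bcMap_of_bijective [Module.Flat S S']
    (hα : Function.Bijective ((Extension.H1Cotangent.map f).liftBaseChange S'))
    (hβ : Function.Bijective (LinearMap.liftBaseChange S' (KaehlerDifferential.map R R' S S'))) :
    QuasiIso (NLCx.bcMap (S' := S') f) := by
  have hex1 : Function.Exact (Extension.h1Cotangentι.baseChange S')
      (P.cotangentComplex.baseChange S') :=
    Module.Flat.lTensor_exact S' (LinearMap.exact_subtype_ker_map _)
  have hex0 : Function.Exact (P.cotangentComplex.baseChange S') (P.toKaehler.baseChange S') :=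
    lTensor_exact S' P.exact_cotangentComplex_toKaehler P.toKaehler_surjective
  have hsurj0 : Function.Surjective (P.toKaehler.baseChange S') :=
    LinearMap.lTensor_surjective S' P.toKaehler_surjective
  apply quasiIso_bcMap f
  · intro y hy
    obtain ⟨t, ht⟩ := hα.2 (⟨y, hy⟩ : P'.H1Cotangent)
    refine ⟨Extension.h1Cotangentι.baseChange S' t, hex1.apply_apply_eq_zero t, ?_⟩
    rw [liftBaseChange_h1, ht]
    rfl
  · intro x hx hx0
    obtain ⟨t, rfl⟩ := (hex1 x).1 hx
    rw [liftBaseChange_h1] at hx0
    have h1 : (Extension.H1Cotangent.map f).liftBaseChange S' t = 0 :=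
      Extension.h1Cotangentι_injective (hx0.trans (map_zero _).symm)
    rw [hα.1 (h1.trans (map_zero _).symm), map_zero]
  · intro y
    obtain ⟨ω, hω⟩ := hβ.2 (P'.toKaehler y)
    obtain ⟨x, rfl⟩ := hsurj0 ω
    have h1 : P'.toKaehler
        (LinearMap.liftBaseChange S' (Extension.CotangentSpace.map f) x - y) = 0 := by
      rw [map_sub, liftBaseChange_toKaehler, hω, sub_self]
    obtain ⟨z, hz⟩ := (P'.exact_cotangentComplex_toKaehler _).1 h1
    exact ⟨x, z, hz.symm⟩
  · intro x ⟨z, hz⟩
    have h1 : LinearMap.liftBaseChange S' (KaehlerDifferential.map R R' S S')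
        (P.toKaehler.baseChange S' x) = 0 := by
      rw [← liftBaseChange_toKaehler, hz]
      exact P'.exact_cotangentComplex_toKaehler.apply_apply_eq_zero z
    have h2 : P.toKaehler.baseChange S' x = 0 := hβ.1 (h1.trans (map_zero _).symm)
    obtain ⟨w, hw⟩ := (hex0 x).1 h2
    exact ⟨w, hw.symm⟩

end BcMap2

end Groth.Agent.Lib.NLHensH5
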