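import Mathlib
import Groth.Prelude.Def_SheafNL
import Groth.Agent.Lib.NLHens2_helper5

set_option autoImplicit false
universe u v

namespace Groth.Agent.Lib.NLHensH5

open TensorProduct Algebra

section Omega

variable (A B A' B' : Type u) [CommRing A] [CommRing B] [CommRing A'] [CommRing B']
  [Algebra A B] [Algebra A' B'] [Algebra A A'] [Algebra B B'] [Algebra A B']
  [IsScalarTower A A' B'] [IsScalarTower A B B']

theorem map_map_eq (ω : Ω[B⁄A]) :
    KaehlerDifferential.map A A' B' B' (KaehlerDifferential.map A A B B' ω) =
      KaehlerDifferential.map A A' B B' ω := by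
  obtain ⟨y, rfl⟩ := KaehlerDifferential.tensorProductTo_surjective _ _ ω
  induction y using TensorProduct.induction_on with
  | zero => simp only [map_zero]
  | add a b ha hb => simp only [map_add, ha, hb]
  | tmul a b =>
    simp only [Derivation.tensorProductTo_tmul, map_smul, KaehlerDifferential.map_D]
    rw [← algebraMap_smul B' a, map_smul, KaehlerDifferential.map_D, algebraMap_smul]
    rfl

theorem bijective_bcH0 [Algebra.FormallyEtale B B'] [Algebra.FormallyUnramified A A'] :
    Function.Bijective (LinearMap.liftBaseChange B' (KaehlerDifferential.map A A' B B')) := by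
  have h1 : ∀ x : B' ⊗[B] Ω[B⁄A], LinearMap.liftBaseChange B' (KaehlerDifferential.map A A' B B') x =
      KaehlerDifferential.map A A' B' B' (KaehlerDifferential.mapBaseChange A B B' x) := by
    intro x
    induction x using TensorProduct.induction_on with
    | zero => simp only [map_zero]
    | add a b ha hb => simp only [map_add, ha, hb]
    | tmul b ω =>
      rw [LinearMap.liftBaseChange_tmul, KaehlerDifferential.mapBaseChange_tmul, map_smul,
        map_map_eq]
  have h2 : Function.Bijective (KaehlerDifferential.mapBaseChange A B B') :=
    (KaehlerDifferential.tensorKaehlerEquivOfFormallyEtale A B B').bijective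
  have h3 : Function.Bijective (KaehlerDifferential.map A A' B' B') := by
    refine ⟨?_, KaehlerDifferential.map_surjective A A' B'⟩
    rw [injective_iff_map_eq_zero]
    intro x hx
    obtain ⟨y, rfl⟩ := (KaehlerDifferential.exact_mapBaseChange_map A A' B' x).1 hx
    rw [Subsingleton.elim y 0, map_zero]
  have h4 : (LinearMap.liftBaseChange B' (KaehlerDifferential.map A A' B B') : _ → _) =
      (KaehlerDifferential.map A A' B' B') ∘ (KaehlerDifferential.mapBaseChange A B B') := by
    funext x
    exact h1 x
  rw [h4]
  exact h3.comp h2

end Omega

section RestrictBase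

variable {A A' B' : Type u} [CommRing A] [CommRing A'] [CommRing B']
  [Algebra A' B'] [Algebra A A'] [Algebra A B'] [IsScalarTower A A' B']

/-- an extension over `A'` viewed as an extension over `A`. -/
@[reducible] noncomputable def restrictBase (P' : Extension.{u} A' B') : Extension.{u} A B' where
  Ring := P'.Ring
  σ := P'.σ
  algebraMap_σ := P'.algebraMap_σ

/-- the identity as a morphism of extensions over `A → A'`. -/
noncomputable def idHom (P' : Extension.{u} A' B') : (restrictBase (A := A) P').Hom P' where
  toRingHom := RingHom.id _
  toRingHom_algebraMap _ := rfl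
  algebraMap_toRingHom _ := rfl

variable (P' : Extension.{u} A' B')

theorem cotangent_map_idHom_bijective :
    Function.Bijective (Extension.Cotangent.map (idHom (A := A) P')) := by
  constructor
  · rw [injective_iff_map_eq_zero]
    intro x hx
    obtain ⟨x, rfl⟩ := Extension.Cotangent.mk_surjective x
    rw [Extension.Cotangent.map_mk, Extension.Cotangent.mk_eq_zero_iff] at hx
    rw [Extension.Cotangent.mk_eq_zero_iff]
    exact hx
  · intro y
    obtain ⟨y, rfl⟩ := Extension.Cotangent.mk_surjective y
    exact ⟨Extension.Cotangent.mk ⟨y.1, y.2⟩, rfl⟩

theorem kaehler_map_bijective [Algebra.FormallyUnramified A A'] (T : Type u) [CommRing T] [Algebra A' T]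
    [Algebra A T] [IsScalarTower A A' T] :
    Function.Bijective (KaehlerDifferential.map A A' T T) := by
  refine ⟨?_, KaehlerDifferential.map_surjective A A' T⟩
  rw [injective_iff_map_eq_zero]
  intro x hx
  obtain ⟨y, rfl⟩ := (KaehlerDifferential.exact_mapBaseChange_map A A' T x).1 hx
  rw [Subsingleton.elim y 0, map_zero]

theorem cotangentSpace_map_idHom (x : (restrictBase (A := A) P').CotangentSpace) :
    Extension.CotangentSpace.map (idHom (A := A) P') x =
      (KaehlerDifferential.map A A' P'.Ring P'.Ring).lTensor B' x := by
  induction x using TensorProduct.induction_on with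
  | zero => simp only [map_zero]
  | add x y hx hy => simp only [map_add, hx, hy]
  | tmul x y =>
    obtain ⟨y, rfl⟩ := KaehlerDifferential.tensorProductTo_surjective _ _ y
    induction y using TensorProduct.induction_on with
    | zero => simp only [map_zero, tmul_zero]
    | add a b ha hb => simp only [map_add, tmul_add, ha, hb]
    | tmul a b =>
      rw [Derivation.tensorProductTo_tmul, ← TensorProduct.smul_tmul, LinearMap.lTensor_tmul,
        KaehlerDifferential.map_D]
      exact Extension.CotangentSpace.map_tmul (idHom (A := A) P') (a • x) b

theorem cotangentSpace_map_idHom_injective [Algebra.FormallyUnramified A A'] :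
    Function.Injective (Extension.CotangentSpace.map (idHom (A := A) P')) := by
  have h1 : Function.Injective ((KaehlerDifferential.map A A' P'.Ring P'.Ring).lTensor B') :=
    (LinearEquiv.lTensor B' (LinearEquiv.ofBijective _
      (kaehler_map_bijective (A := A) (A' := A') P'.Ring))).injective
  intro x y hxy
  apply h1
  rw [← cotangentSpace_map_idHom, ← cotangentSpace_map_idHom, hxy]

theorem h1_map_idHom_bijective [Algebra.FormallyUnramified A A'] :
    Function.Bijective (Extension.H1Cotangent.map (idHom (A := A) P')) := by
  constructor
  · intro x y hxy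
    apply Extension.h1Cotangentι_injective
    apply (cotangent_map_idHom_bijective (A := A) P').1
    exact congrArg Extension.h1Cotangentι hxy
  · intro y
    obtain ⟨x, hx⟩ := (cotangent_map_idHom_bijective (A := A) P').2 y.1
    have hx0 : (restrictBase (A := A) P').cotangentComplex x = 0 := by
      apply cotangentSpace_map_idHom_injective (A := A) P'
      rw [Extension.CotangentSpace.map_cotangentComplex, hx, map_zero]
      exact y.2
    exact ⟨⟨x, hx0⟩, Subtype.ext hx⟩

theorem formallySmooth_restrictBase [Algebra.FormallySmooth A A']
    [Algebra.FormallySmooth A' P'.Ring] :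
    Algebra.FormallySmooth A (restrictBase (A := A) P').Ring :=
  Algebra.FormallySmooth.comp A A' P'.Ring

end RestrictBase

section Alpha

variable (A B A' B' : Type u) [CommRing A] [CommRing B] [CommRing A'] [CommRing B']
  [Algebra A B] [Algebra A' B'] [Algebra A A'] [Algebra B B'] [Algebra A B']
  [IsScalarTower A A' B'] [IsScalarTower A B B']

theorem alpha_bijective [Module.Flat B B'] [Algebra.FormallyEtale A A']
    (Q : Extension.{u} A B') (f₁ : (Generators.self A B).toExtension.Hom Q)
    (H₁ : f₁.toRingHom.FormallyEtale)
    (H₂ : letI : Algebra (Generators.self A B).toExtension.Ring Q.Ring := f₁.toRingHom.toAlgebra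
      Function.Bijective ((f₁.mapKer rfl).liftBaseChange Q.Ring)) :
    Function.Bijective ((Extension.H1Cotangent.map
      ((Generators.self A B).defaultHom (Generators.self A' B')).toExtensionHom).liftBaseChange
        B') := by
  haveI hsm0 : Algebra.FormallySmooth A (Generators.self A B).toExtension.Ring :=
    inferInstanceAs (Algebra.FormallySmooth A (MvPolynomial B A))
  haveI : Algebra.FormallySmooth A (Generators.self A B').toExtension.Ring :=
    inferInstanceAs (Algebra.FormallySmooth A (MvPolynomial B' A))
  haveI : Algebra.FormallySmooth A' (Generators.self A' B').toExtension.Ring :=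
    inferInstanceAs (Algebra.FormallySmooth A' (MvPolynomial B' A'))
  letI : Algebra (Generators.self A B).toExtension.Ring Q.Ring := f₁.toRingHom.toAlgebra
  haveI : Algebra.FormallyEtale (Generators.self A B).toExtension.Ring Q.Ring := H₁
  haveI : IsScalarTower A (Generators.self A B).toExtension.Ring Q.Ring :=
    IsScalarTower.of_algebraMap_eq fun r => (f₁.toRingHom_algebraMap r).symm
  haveI : Algebra.FormallySmooth A Q.Ring :=
    Algebra.FormallySmooth.comp A (Generators.self A B).toExtension.Ring Q.Ring
  haveI : Algebra.FormallySmooth A
      (restrictBase (A := A) (Generators.self A' B').toExtension).Ring :=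
    formallySmooth_restrictBase _
  let e₁ := Extension.tensorH1CotangentOfFormallyEtale f₁ rfl H₁ H₂
  let eWQ := Extension.H1Cotangent.equivOfFormallySmooth (Generators.self A B').toExtension Q
  let eWV := Extension.H1Cotangent.equivOfFormallySmooth (Generators.self A B').toExtension
    (restrictBase (A := A) (Generators.self A' B').toExtension)
  let gQ := Algebra.Extension.defaultHom A B' Q
  let gV := Algebra.Extension.defaultHom A B' (restrictBase (A := A) (Generators.self A' B').toExtension)
  let fPW := ((Generators.self A B).defaultHom (Generators.self A B')).toExtensionHom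
  have hid := h1_map_idHom_bijective (A := A) (Generators.self A' B').toExtension
  have key : ∀ t : B' ⊗[B] (Generators.self A B).toExtension.H1Cotangent,
      (Extension.H1Cotangent.map
        ((Generators.self A B).defaultHom (Generators.self A' B')).toExtensionHom).liftBaseChange
          B' t =
      Extension.H1Cotangent.map (idHom (A := A) (Generators.self A' B').toExtension)
        (eWV (eWQ.symm (e₁ t))) := by
    intro t
    induction t using TensorProduct.induction_on with
    | zero => simp only [map_zero]
    | add x y hx hy => simp only [map_add, hx, hy]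
    | tmul b h =>
      have h1 : e₁ (b ⊗ₜ h) = b • eWQ (Extension.H1Cotangent.map fPW h) := by
        show (Extension.H1Cotangent.map f₁).liftBaseChange B' (b ⊗ₜ h) = _
        rw [LinearMap.liftBaseChange_tmul,
          Extension.H1Cotangent.equivOfFormallySmooth_apply gQ,
          ← Extension.H1Cotangent.map_comp_apply,
          Extension.H1Cotangent.map_eq f₁ (gQ.comp fPW)]
      rw [h1, map_smul, LinearEquiv.symm_apply_apply, map_smul, map_smul,
        LinearMap.liftBaseChange_tmul,
        Extension.H1Cotangent.equivOfFormallySmooth_apply gV,
        ← Extension.H1Cotangent.map_comp_apply, ← Extension.H1Cotangent.map_comp_apply]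
      congr 1
      exact congrFun (congrArg DFunLike.coe (Extension.H1Cotangent.map_eq _ _)) h
  have hfun : ((Extension.H1Cotangent.map
      ((Generators.self A B).defaultHom (Generators.self A' B')).toExtensionHom).liftBaseChange
        B' : _ → _) =
      (Extension.H1Cotangent.map (idHom (A := A) (Generators.self A' B').toExtension)) ∘
        eWV ∘ eWQ.symm ∘ e₁ := by
    funext t
    exact key t
  rw [hfun]
  exact hid.comp (eWV.bijective.comp (eWQ.symm.bijective.comp e₁.bijective))

theorem quasiIso_bcMapSelf_of [Module.Flat B B'] [Algebra.FormallyEtale A A']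
    [Algebra.FormallyEtale B B']
    (Q : Extension.{u} A B') (f₁ : (Generators.self A B).toExtension.Hom Q)
    (H₁ : f₁.toRingHom.FormallyEtale)
    (H₂ : letI : Algebra (Generators.self A B).toExtension.Ring Q.Ring := f₁.toRingHom.toAlgebra
      Function.Bijective ((f₁.mapKer rfl).liftBaseChange Q.Ring)) :
    QuasiIso (NLCx.bcMapSelf A B A' B') := by
  unfold NLCx.bcMapSelf
  exact quasiIso_bcMap_of_bijective _ (alpha_bijective A B A' B' Q f₁ H₁ H₂)
    (bijective_bcH0 A B A' B')

end Alpha

end Groth.Agent.Lib.NLHensH5
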