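import Mathlib
import Groth.Prelude.Def_Hensel
import Groth.Agent.Lib.HensFEt_lead
import Groth.Agent.Lib.HenselVal_lead

set_option autoImplicit false
universe u

namespace Groth.Agent.Lib.NLHensH5

open IsLocalRing

section HensQuot

variable {R₁ B Bh : Type u} [CommRing R₁] [IsLocalRing R₁] [CommRing B] [IsLocalRing B]
  [CommRing Bh] [IsLocalRing Bh] [Algebra B Bh] [IsLocalHom (algebraMap B Bh)]
  [hBh : Hensel.IsHenselization B Bh]
  (Q₀ : Type u) [CommRing Q₀] [IsLocalRing Q₀] [Algebra R₁ Q₀] [IsLocalHom (algebraMap R₁ Q₀)]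
  [hQ₀ : Hensel.IsHenselization R₁ Q₀]

include hBh hQ₀ in
/-- the henselization of a quotient is the quotient of the henselization. -/
theorem exists_hens_quot (π₁ : R₁ →+* B) (hπ₁ : Function.Surjective π₁) :
    ∃ φ : Q₀ →+* Bh, φ.comp (algebraMap R₁ Q₀) = (algebraMap B Bh).comp π₁ ∧
      Function.Surjective φ ∧ RingHom.ker φ = (RingHom.ker π₁).map (algebraMap R₁ Q₀) := by
  haveI : HenselianLocalRing Bh := hBh.henselian
  haveI : HenselianLocalRing Q₀ := hQ₀.henselian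
  haveI hπloc : IsLocalHom π₁ := IsLocalHom.of_surjective π₁ hπ₁
  have hfloc : IsLocalHom ((algebraMap B Bh).comp π₁) := RingHom.isLocalHom_comp _ _
  obtain ⟨φ, hφ, -⟩ := hQ₀.universal Bh ((algebraMap B Bh).comp π₁) hfloc
  set J : Ideal Q₀ := (RingHom.ker π₁).map (algebraMap R₁ Q₀) with hJ
  have hJφ : J ≤ RingHom.ker φ := by
    rw [hJ, Ideal.map_le_iff_le_comap]
    intro r hr
    rw [Ideal.mem_comap, RingHom.mem_ker]
    have := DFunLike.congr_fun hφ r
    rw [RingHom.comp_apply, RingHom.comp_apply, RingHom.mem_ker.1 hr, map_zero] at this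
    exact this
  have hJtop : J ≠ ⊤ := fun h => RingHom.ker_ne_top φ (top_le_iff.1 (h ▸ hJφ))
  haveI : Nontrivial (Q₀ ⧸ J) := Ideal.Quotient.nontrivial_iff.2 hJtop
  haveI : HenselianLocalRing (Q₀ ⧸ J) :=
    Groth.Agent.Lib.HenselValLead.henselian_of_surjective (Ideal.Quotient.mk J)
      Ideal.Quotient.mk_surjective
  -- ψ₀ : B → Q₀/J
  let g₀ : R₁ →+* Q₀ ⧸ J := (Ideal.Quotient.mk J).comp (algebraMap R₁ Q₀)
  have hg₀ker : RingHom.ker π₁ ≤ RingHom.ker g₀ := by
    intro r hr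
    rw [RingHom.mem_ker, RingHom.comp_apply, Ideal.Quotient.eq_zero_iff_mem]
    exact Ideal.mem_map_of_mem _ hr
  let ψ₀ : B →+* Q₀ ⧸ J := RingHom.liftOfSurjective π₁ hπ₁ ⟨g₀, hg₀ker⟩
  have hψ₀ : ψ₀.comp π₁ = g₀ := RingHom.liftOfRightInverse_comp _ _ _ _
  haveI hmkloc : IsLocalHom (Ideal.Quotient.mk J) :=
    IsLocalHom.of_surjective _ Ideal.Quotient.mk_surjective
  have hg₀loc : IsLocalHom g₀ := RingHom.isLocalHom_comp _ _
  have hψ₀loc : IsLocalHom ψ₀ := by
    constructor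
    intro b hb
    obtain ⟨r, rfl⟩ := hπ₁ b
    have h1 : IsUnit (g₀ r) := by
      rw [← hψ₀]
      exact hb
    exact (hg₀loc.map_nonunit r h1).map π₁
  -- u : Bh → Q₀/J
  obtain ⟨u, hu, -⟩ := hBh.universal (Q₀ ⧸ J) ψ₀ hψ₀loc
  -- φ̄ : Q₀/J → Bh
  let φb : Q₀ ⧸ J →+* Bh := Ideal.Quotient.lift J φ (fun x hx => RingHom.mem_ker.1 (hJφ hx))
  have hφb : φb.comp (Ideal.Quotient.mk J) = φ := Ideal.Quotient.lift_comp_mk _ _ _
  -- φ̄ ∘ u = id
  have h3 : φb.comp u = RingHom.id Bh := by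
    obtain ⟨w, -, hwuniq⟩ := hBh.universal Bh (algebraMap B Bh) inferInstance
    have e1 : (φb.comp u).comp (algebraMap B Bh) = algebraMap B Bh := by
      rw [RingHom.comp_assoc, hu]
      apply RingHom.cancel_right hπ₁ |>.1
      rw [RingHom.comp_assoc, hψ₀, ← RingHom.comp_assoc, hφb, hφ]
    rw [hwuniq _ e1, hwuniq (RingHom.id Bh) (RingHom.id_comp _)]
  -- u ∘ φ = mk
  have h4 : u.comp φ = Ideal.Quotient.mk J := by
    obtain ⟨w, -, hwuniq⟩ := hQ₀.universal (Q₀ ⧸ J) g₀ hg₀loc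
    have e1 : (u.comp φ).comp (algebraMap R₁ Q₀) = g₀ := by
      rw [RingHom.comp_assoc, hφ, ← RingHom.comp_assoc, hu, hψ₀]
    rw [hwuniq _ e1, hwuniq (Ideal.Quotient.mk J) rfl]
  have h5 : ∀ x : Q₀, φ x = 0 → x ∈ J := by
    intro x hx
    have := DFunLike.congr_fun h4 x
    rw [RingHom.comp_apply, hx, map_zero] at this
    exact Ideal.Quotient.eq_zero_iff_mem.1 this.symm
  refine ⟨φ, hφ, ?_, le_antisymm (fun x hx => h5 x (RingHom.mem_ker.1 hx)) hJφ⟩
  intro b
  obtain ⟨x, hx⟩ := Ideal.Quotient.mk_surjective (u b)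
  refine ⟨x, ?_⟩
  have h6 := DFunLike.congr_fun h3 b
  rw [RingHom.comp_apply, ← hx, RingHom.id_apply] at h6
  rw [← hφb, RingHom.comp_apply]
  exact h6

end HensQuot

section HensLift

open Groth.Agent.Lib.HenselizationH3

variable {P B Bh : Type u} [CommRing P] [CommRing B] [IsLocalRing B]
  [CommRing Bh] [IsLocalRing Bh] [Algebra B Bh] [IsLocalHom (algebraMap B Bh)]
  [hBh : Hensel.IsHenselization B Bh]

include hBh in
theorem exists_hens_lift (π : P →+* B) (hπ : Function.Surjective π) :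
    ∃ (Q₀ : Type u) (_ : CommRing Q₀) (ι : P →+* Q₀) (φ : Q₀ →+* Bh),
      ι.FormallyEtale ∧ ι.Flat ∧ φ.comp ι = (algebraMap B Bh).comp π ∧
      Function.Surjective φ ∧ RingHom.ker φ = (RingHom.ker π).map ι := by
  let q : Ideal P := (maximalIdeal B).comap π
  haveI : q.IsPrime := Ideal.comap_isPrime π _
  let R₁ := Localization.AtPrime q
  have hunits : ∀ y : q.primeCompl, IsUnit (π y) := by
    intro y
    by_contra h
    exact y.2 ((mem_maximalIdeal _).2 h)
  let π₁ : R₁ →+* B := IsLocalization.lift hunits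
  have hπ₁comp : π₁.comp (algebraMap P R₁) = π := IsLocalization.lift_comp hunits
  have hπ₁ : Function.Surjective π₁ := by
    intro b
    obtain ⟨p, rfl⟩ := hπ b
    exact ⟨algebraMap P R₁ p, DFunLike.congr_fun hπ₁comp p⟩
  have hker₁ : RingHom.ker π₁ = (RingHom.ker π).map (algebraMap P R₁) := by
    rw [← hπ₁comp, ← RingHom.comap_ker, IsLocalization.map_under q.primeCompl R₁]
  haveI : Hensel.IsHenselization R₁ (Hens R₁) := isHenselization_hens
  obtain ⟨φ, hφ, hφs, hφk⟩ := exists_hens_quot (Bh := Bh) (Hens R₁) π₁ hπ₁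
  refine ⟨Hens R₁, inferInstance, (algebraMap R₁ (Hens R₁)).comp (algebraMap P R₁), φ,
    ?_, ?_, ?_, hφs, ?_⟩
  · letI : Algebra P (Hens R₁) :=
      ((algebraMap R₁ (Hens R₁)).comp (algebraMap P R₁)).toAlgebra
    haveI : IsScalarTower P R₁ (Hens R₁) := IsScalarTower.of_algebraMap_eq' rfl
    haveI : Algebra.FormallyEtale P R₁ := Algebra.FormallyEtale.of_isLocalization q.primeCompl
    haveI : Algebra.FormallyEtale R₁ (Hens R₁) := Groth.Agent.Lib.HensFEt.formallyEtale_hens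
    show Algebra.FormallyEtale P (Hens R₁)
    exact Algebra.FormallyEtale.comp P R₁ (Hens R₁)
  · letI : Algebra P (Hens R₁) :=
      ((algebraMap R₁ (Hens R₁)).comp (algebraMap P R₁)).toAlgebra
    haveI : IsScalarTower P R₁ (Hens R₁) := IsScalarTower.of_algebraMap_eq' rfl
    haveI : Module.Flat P R₁ := IsLocalization.flat R₁ q.primeCompl
    show Module.Flat P (Hens R₁)
    exact Module.Flat.trans P R₁ (Hens R₁)
  · rw [← RingHom.comp_assoc, hφ, RingHom.comp_assoc, hπ₁comp]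
  · rw [hφk, hker₁, Ideal.map_map]

end HensLift

end Groth.Agent.Lib.NLHensH5
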