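import Mathlib
import Groth.Prelude.Def_SheafNL
import Groth.Agent.Lib.NLHens3_helper5

set_option autoImplicit false
universe u v

namespace Groth.Agent.Lib.NLHensH5

open TensorProduct Algebra

section MapKer

variable {R S T : Type u} [CommRing R] [CommRing S] [CommRing T] [Algebra R S] [Algebra R T]
  [Algebra S T] [IsScalarTower R S T]
  {P : Extension.{u} R S} {Q : Extension.{u} R T} (f : P.Hom Q)

theorem mapKer_bijective (hflat : f.toRingHom.Flat) (hker : Q.ker = P.ker.map f.toRingHom) :
    letI : Algebra P.Ring Q.Ring := f.toRingHom.toAlgebra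
    Function.Bijective ((f.mapKer rfl).liftBaseChange Q.Ring) := by
  letI : Algebra P.Ring Q.Ring := f.toRingHom.toAlgebra
  haveI : Module.Flat P.Ring Q.Ring := hflat
  have hval : ∀ x : Q.Ring ⊗[P.Ring] P.ker,
      (((f.mapKer rfl).liftBaseChange Q.Ring x : Q.ker) : Q.Ring) =
        TensorProduct.rid P.Ring Q.Ring ((P.ker.subtype.restrictScalars P.Ring).lTensor Q.Ring x) := by
    intro x
    induction x using TensorProduct.induction_on with
    | zero => simp only [map_zero, ZeroMemClass.coe_zero]
    | add x y hx hy => simp only [map_add, Submodule.coe_add, hx, hy]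
    | tmul q i =>
      rw [LinearMap.liftBaseChange_tmul, LinearMap.lTensor_tmul, TensorProduct.rid_tmul]
      show q • f.toRingHom i.1 = i.1 • q
      rw [smul_eq_mul, Algebra.smul_def (i.1 : P.Ring) q, mul_comm]
      rfl
  constructor
  · rw [injective_iff_map_eq_zero]
    intro x hx
    have h1 := hval x
    rw [hx, ZeroMemClass.coe_zero] at h1
    have h2 : (P.ker.subtype.restrictScalars P.Ring).lTensor Q.Ring x = 0 := by
      apply (TensorProduct.rid P.Ring Q.Ring).injective
      rw [← h1, map_zero]
    exact Module.Flat.lTensor_preserves_injective_linearMap (M := Q.Ring)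
      (P.ker.subtype.restrictScalars P.Ring) Subtype.val_injective (h2.trans (map_zero _).symm)
  · rintro ⟨y, hy⟩
    have hy' : y ∈ P.ker.map f.toRingHom := hker ▸ hy
    revert hy
    refine Submodule.span_induction (p := fun y _ => ∀ hy : y ∈ Q.ker,
      ∃ a, (f.mapKer rfl).liftBaseChange Q.Ring a = ⟨y, hy⟩) ?_ ?_ ?_ ?_ hy'
    · rintro _ ⟨i, hi, rfl⟩ hy
      refine ⟨1 ⊗ₜ ⟨i, hi⟩, ?_⟩
      rw [LinearMap.liftBaseChange_tmul, one_smul]
      rfl
    · intro hy
      exact ⟨0, by rw [map_zero]; rfl⟩
    · intro a b ha' hb' ha hb hy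
      have haK : a ∈ Q.ker := hker ▸ ha'
      have hbK : b ∈ Q.ker := hker ▸ hb'
      obtain ⟨x₁, hx₁⟩ := ha haK
      obtain ⟨x₂, hx₂⟩ := hb hbK
      exact ⟨x₁ + x₂, by rw [map_add, hx₁, hx₂]; rfl⟩
    · intro c a ha' ha hy
      have haK : a ∈ Q.ker := hker ▸ ha'
      obtain ⟨x₁, hx₁⟩ := ha haK
      exact ⟨c • x₁, by rw [map_smul, hx₁]; rfl⟩

end MapKer

section Final

variable (A B A' B' : Type u) [CommRing A] [CommRing B] [CommRing A'] [CommRing B']
  [Algebra A B] [Algebra A' B'] [Algebra A A'] [Algebra B B'] [Algebra A B']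
  [IsScalarTower A A' B'] [IsScalarTower A B B']

theorem quasiIso_of_lift [Module.Flat B B'] [Algebra.FormallyEtale A A']
    [Algebra.FormallyEtale B B']
    (Q₀ : Type u) [CommRing Q₀] (ι : (Generators.self A B).toExtension.Ring →+* Q₀)
    (φ : Q₀ →+* B') (hι₁ : ι.FormallyEtale) (hι₂ : ι.Flat)
    (hφι : φ.comp ι = (algebraMap B B').comp
      (algebraMap (Generators.self A B).toExtension.Ring B))
    (hφs : Function.Surjective φ)
    (hφk : RingHom.ker φ =
      (RingHom.ker (algebraMap (Generators.self A B).toExtension.Ring B)).map ι) :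
    QuasiIso (NLCx.bcMapSelf A B A' B') := by
  letI algAQ : Algebra A Q₀ :=
    (ι.comp (algebraMap A (Generators.self A B).toExtension.Ring)).toAlgebra
  let φA : Q₀ →ₐ[A] B' :=
    { φ with
      commutes' := fun a => by
        show φ (ι (algebraMap A (Generators.self A B).toExtension.Ring a)) = algebraMap A B' a
        have h1 := DFunLike.congr_fun hφι (algebraMap A (Generators.self A B).toExtension.Ring a)
        rw [RingHom.comp_apply, RingHom.comp_apply,
          ← IsScalarTower.algebraMap_apply A (Generators.self A B).toExtension.Ring B,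
          ← IsScalarTower.algebraMap_apply A B B'] at h1
        exact h1 }
  let Q : Extension.{u} A B' := Extension.ofSurjective φA hφs
  let f₁ : (Generators.self A B).toExtension.Hom Q :=
    { toRingHom := ι
      toRingHom_algebraMap := fun a => rfl
      algebraMap_toRingHom := fun x => DFunLike.congr_fun hφι x }
  have H₂ := mapKer_bijective f₁ hι₂ hφk
  exact quasiIso_bcMapSelf_of A B A' B' Q f₁ hι₁ H₂

end Final

end Groth.Agent.Lib.NLHensH5
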