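import Mathlib
import Groth.Prelude.Def_Hensel
import Groth.Agent.Lib.StrictHensFEt_helper3
import Groth.Agent.Lib.HenselVal_lead

set_option autoImplicit false
universe u

namespace Groth.Agent.Lib.NLHensH5

open IsLocalRing

section SHensQuot

theorem residueMap_eq_algebraMap {R S : Type u} [CommRing R] [IsLocalRing R] [CommRing S]
    [IsLocalRing S] [Algebra R S] [IsLocalHom (algebraMap R S)] (x : ResidueField R) :
    ResidueField.map (algebraMap R S) x = algebraMap (ResidueField R) (ResidueField S) x := by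
  obtain ⟨r, rfl⟩ := residue_surjective x
  rfl

theorem residueMap_bijective_of_surjective {R S : Type u} [CommRing R] [IsLocalRing R]
    [CommRing S] [IsLocalRing S] (f : R →+* S) [IsLocalHom f] (hf : Function.Surjective f) :
    Function.Bijective (ResidueField.map f) := by
  refine ⟨(ResidueField.map f).injective, fun y => ?_⟩
  obtain ⟨s, rfl⟩ := residue_surjective y
  obtain ⟨r, rfl⟩ := hf s
  exact ⟨residue R r, rfl⟩

variable {R₁ B Bsh : Type u} [CommRing R₁] [IsLocalRing R₁] [CommRing B] [IsLocalRing B]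
  [CommRing Bsh] [IsLocalRing Bsh] [Algebra B Bsh] [IsLocalHom (algebraMap B Bsh)]
  [hBsh : Hensel.IsStrictHenselization B Bsh]
  (Q₀ : Type u) [CommRing Q₀] [IsLocalRing Q₀] [Algebra R₁ Q₀] [IsLocalHom (algebraMap R₁ Q₀)]
  [hQ₀ : Hensel.IsStrictHenselization R₁ Q₀]

include hBsh hQ₀ in
/-- a residue field isomorphism compatible with a surjection. -/
theorem exists_residue_equiv (π₁ : R₁ →+* B) [IsLocalHom π₁] (hπ₁ : Function.Surjective π₁) :
    ∃ τ : ResidueField Q₀ ≃+* ResidueField Bsh,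
      (τ : ResidueField Q₀ →+* ResidueField Bsh).comp (ResidueField.map (algebraMap R₁ Q₀)) =
        (ResidueField.map (algebraMap B Bsh)).comp (ResidueField.map π₁) := by
  let e₁ : ResidueField R₁ ≃+* ResidueField B :=
    RingEquiv.ofBijective (ResidueField.map π₁) (residueMap_bijective_of_surjective π₁ hπ₁)
  letI algS : Algebra (ResidueField R₁) (ResidueField Bsh) :=
    ((ResidueField.map (algebraMap B Bsh)).comp (ResidueField.map π₁)).toAlgebra
  haveI h1 : IsSepClosure (ResidueField B) (ResidueField Bsh) := hBsh.isSepClosure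
  haveI h2 : IsSepClosure (ResidueField R₁) (ResidueField Q₀) := hQ₀.isSepClosure
  haveI h3 : Algebra.IsSeparable (ResidueField B) (ResidueField Bsh) := h1.separable
  haveI h4 : IsSepClosure (ResidueField R₁) (ResidueField Bsh) := by
    refine ⟨h1.sep_closed, ?_⟩
    refine Algebra.IsSeparable.of_equiv_equiv (A₁ := ResidueField B) (B₁ := ResidueField Bsh)
      e₁.symm (RingEquiv.refl _) ?_
    refine RingHom.ext fun x => ?_
    show (ResidueField.map (algebraMap B Bsh)) ((ResidueField.map π₁) (e₁.symm x)) =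
      algebraMap (ResidueField B) (ResidueField Bsh) x
    have h5 : (ResidueField.map π₁) (e₁.symm x) = x := e₁.apply_symm_apply x
    rw [h5, residueMap_eq_algebraMap]
  let ε : ResidueField Q₀ ≃ₐ[ResidueField R₁] ResidueField Bsh :=
    IsSepClosure.equiv (ResidueField R₁) (ResidueField Q₀) (ResidueField Bsh)
  refine ⟨ε.toRingEquiv, RingHom.ext fun x => ?_⟩
  show ε (ResidueField.map (algebraMap R₁ Q₀) x) = _
  rw [residueMap_eq_algebraMap, ε.commutes]
  rfl

include hBsh hQ₀ in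
/-- the strict henselization of a quotient is the quotient of the strict henselization. -/
theorem exists_shens_quot (π₁ : R₁ →+* B) (hπ₁ : Function.Surjective π₁) :
    ∃ φ : Q₀ →+* Bsh, φ.comp (algebraMap R₁ Q₀) = (algebraMap B Bsh).comp π₁ ∧
      Function.Surjective φ ∧ RingHom.ker φ = (RingHom.ker π₁).map (algebraMap R₁ Q₀) := by
  haveI : HenselianLocalRing Bsh := hBsh.henselian
  haveI : HenselianLocalRing Q₀ := hQ₀.henselian
  haveI hπloc : IsLocalHom π₁ := IsLocalHom.of_surjective π₁ hπ₁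
  haveI hfloc : IsLocalHom ((algebraMap B Bsh).comp π₁) := RingHom.isLocalHom_comp _ _
  obtain ⟨τ, hτ⟩ := exists_residue_equiv (Bsh := Bsh) Q₀ π₁ hπ₁
  have hτ' : (τ : ResidueField Q₀ →+* ResidueField Bsh).comp
      (ResidueField.map (algebraMap R₁ Q₀)) = ResidueField.map ((algebraMap B Bsh).comp π₁) := by
    rw [hτ, ResidueField.map_comp]
  obtain ⟨φ, ⟨hφ, hφres⟩, -⟩ := hQ₀.universal Bsh ((algebraMap B Bsh).comp π₁) _ hτ'
  set J : Ideal Q₀ := (RingHom.ker π₁).map (algebraMap R₁ Q₀) with hJ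
  have hJφ : J ≤ RingHom.ker φ := by
    rw [hJ, Ideal.map_le_iff_le_comap]
    intro r hr
    rw [Ideal.mem_comap, RingHom.mem_ker]
    have := DFunLike.congr_fun hφ r
    rw [RingHom.comp_apply, RingHom.comp_apply, RingHom.mem_ker.1 hr, map_zero] at this
    exact this
  have hJtop : J ≠ ⊤ := fun h => RingHom.ker_ne_top φ (top_le_iff.1 (h ▸ hJφ))
  haveI : Nontrivial (Q₀ ⧸ J) := Ideal.Quotient.nontrivial_iff.2 hJtop
  haveI : HenselianLocalRing (Q₀ ⧸ J) :=
    Groth.Agent.Lib.HenselValLead.henselian_of_surjective (Ideal.Quotient.mk J)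
      Ideal.Quotient.mk_surjective
  let g₀ : R₁ →+* Q₀ ⧸ J := (Ideal.Quotient.mk J).comp (algebraMap R₁ Q₀)
  have hg₀ker : RingHom.ker π₁ ≤ RingHom.ker g₀ := by
    intro r hr
    rw [RingHom.mem_ker, RingHom.comp_apply, Ideal.Quotient.eq_zero_iff_mem]
    exact Ideal.mem_map_of_mem _ hr
  let ψ₀ : B →+* Q₀ ⧸ J := RingHom.liftOfSurjective π₁ hπ₁ ⟨g₀, hg₀ker⟩
  have hψ₀ : ψ₀.comp π₁ = g₀ := RingHom.liftOfRightInverse_comp _ _ _ _
  haveI hmkloc : IsLocalHom (Ideal.Quotient.mk J) :=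
    IsLocalHom.of_surjective _ Ideal.Quotient.mk_surjective
  haveI hg₀loc : IsLocalHom g₀ := RingHom.isLocalHom_comp _ _
  haveI hψ₀loc : IsLocalHom ψ₀ := by
    constructor
    intro b hb
    obtain ⟨r, rfl⟩ := hπ₁ b
    have h1 : IsUnit (g₀ r) := by
      rw [← hψ₀]
      exact hb
    exact (hg₀loc.map_nonunit r h1).map π₁
  -- residue field maps
  let κmk : ResidueField Q₀ →+* ResidueField (Q₀ ⧸ J) := ResidueField.map (Ideal.Quotient.mk J)
  let τ' : ResidueField Bsh →+* ResidueField (Q₀ ⧸ J) :=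
    κmk.comp (τ.symm : ResidueField Bsh →+* ResidueField Q₀)
  have hκπ : Function.Surjective (ResidueField.map π₁) :=
    (residueMap_bijective_of_surjective π₁ hπ₁).2
  have hτ'comp : τ'.comp (ResidueField.map (algebraMap B Bsh)) = ResidueField.map ψ₀ := by
    apply (RingHom.cancel_right hκπ).1
    rw [RingHom.comp_assoc, ← hτ, ← ResidueField.map_comp π₁ ψ₀]
    refine RingHom.ext fun x => ?_
    show κmk (τ.symm (τ (ResidueField.map (algebraMap R₁ Q₀) x))) =
      ResidueField.map (ψ₀.comp π₁) x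
    rw [RingEquiv.symm_apply_apply]
    obtain ⟨r, rfl⟩ := residue_surjective x
    show residue _ ((Ideal.Quotient.mk J) (algebraMap R₁ Q₀ r)) = residue _ ((ψ₀.comp π₁) r)
    rw [hψ₀]
    rfl
  -- u : Bsh → Q₀/J
  obtain ⟨u, ⟨hu, hures⟩, -⟩ := hBsh.universal (Q₀ ⧸ J) ψ₀ τ' hτ'comp
  let φb : Q₀ ⧸ J →+* Bsh := Ideal.Quotient.lift J φ (fun x hx => RingHom.mem_ker.1 (hJφ hx))
  have hφb : φb.comp (Ideal.Quotient.mk J) = φ := Ideal.Quotient.lift_comp_mk _ _ _
  have hκmkinj : Function.Injective κmk := κmk.injective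
  -- φ̄ ∘ u = id
  have h3 : φb.comp u = RingHom.id Bsh := by
    obtain ⟨w, -, hwuniq⟩ := hBsh.universal Bsh (algebraMap B Bsh) (RingHom.id _)
      (RingHom.id_comp _)
    have e1 : (φb.comp u).comp (algebraMap B Bsh) = algebraMap B Bsh := by
      rw [RingHom.comp_assoc, hu]
      apply RingHom.cancel_right hπ₁ |>.1
      rw [RingHom.comp_assoc, hψ₀, ← RingHom.comp_assoc, hφb, hφ]
    have e2 : ∀ x : Bsh, residue Bsh ((φb.comp u) x) = RingHom.id _ (residue Bsh x) := by
      intro x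
      obtain ⟨q, hq⟩ := Ideal.Quotient.mk_surjective (u x)
      have h6 : κmk (residue Q₀ q) = κmk (τ.symm (residue Bsh x)) := by
        have := hures x
        rw [← hq] at this
        exact this
      have h7 : residue Q₀ q = τ.symm (residue Bsh x) := hκmkinj h6
      show residue Bsh (φb (u x)) = residue Bsh x
      rw [← hq]
      show residue Bsh ((φb.comp (Ideal.Quotient.mk J)) q) = residue Bsh x
      rw [hφb, hφres, h7]
      exact τ.apply_symm_apply _
    rw [hwuniq _ ⟨e1, e2⟩, hwuniq (RingHom.id Bsh) ⟨RingHom.id_comp _, fun x => rfl⟩]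
  -- u ∘ φ = mk
  have h4 : u.comp φ = Ideal.Quotient.mk J := by
    have hκ : κmk.comp (ResidueField.map (algebraMap R₁ Q₀)) = ResidueField.map g₀ :=
      (ResidueField.map_comp (algebraMap R₁ Q₀) (Ideal.Quotient.mk J)).symm
    obtain ⟨w, -, hwuniq⟩ := hQ₀.universal (Q₀ ⧸ J) g₀ κmk hκ
    have e1 : (u.comp φ).comp (algebraMap R₁ Q₀) = g₀ := by
      rw [RingHom.comp_assoc, hφ, ← RingHom.comp_assoc, hu, hψ₀]
    have e2 : ∀ x : Q₀, residue (Q₀ ⧸ J) ((u.comp φ) x) = κmk (residue Q₀ x) := by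
      intro x
      show residue (Q₀ ⧸ J) (u (φ x)) = κmk (residue Q₀ x)
      rw [hures, hφres]
      show κmk (τ.symm (τ (residue Q₀ x))) = _
      rw [RingEquiv.symm_apply_apply]
    rw [hwuniq _ ⟨e1, e2⟩, hwuniq (Ideal.Quotient.mk J) ⟨rfl, fun x => rfl⟩]
  have h5 : ∀ x : Q₀, φ x = 0 → x ∈ J := by
    intro x hx
    have := DFunLike.congr_fun h4 x
    rw [RingHom.comp_apply, hx, map_zero] at this
    exact Ideal.Quotient.eq_zero_iff_mem.1 this.symm
  refine ⟨φ, hφ, ?_, le_antisymm (fun x hx => h5 x (RingHom.mem_ker.1 hx)) hJφ⟩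
  intro b
  obtain ⟨x, hx⟩ := Ideal.Quotient.mk_surjective (u b)
  refine ⟨x, ?_⟩
  have h6 := DFunLike.congr_fun h3 b
  rw [RingHom.comp_apply, ← hx, RingHom.id_apply] at h6
  rw [← hφb, RingHom.comp_apply]
  exact h6

end SHensQuot

section SHensLift

open Groth.Agent.Lib.StrictHens

variable {P B Bsh : Type u} [CommRing P] [CommRing B] [IsLocalRing B]
  [CommRing Bsh] [IsLocalRing Bsh] [Algebra B Bsh] [IsLocalHom (algebraMap B Bsh)]
  [hBsh : Hensel.IsStrictHenselization B Bsh]

include hBsh in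
theorem exists_shens_lift (π : P →+* B) (hπ : Function.Surjective π) :
    ∃ (Q₀ : Type u) (_ : CommRing Q₀) (ι : P →+* Q₀) (φ : Q₀ →+* Bsh),
      ι.FormallyEtale ∧ ι.Flat ∧ φ.comp ι = (algebraMap B Bsh).comp π ∧
      Function.Surjective φ ∧ RingHom.ker φ = (RingHom.ker π).map ι := by
  let q : Ideal P := (maximalIdeal B).comap π
  haveI : q.IsPrime := Ideal.comap_isPrime π _
  let R₁ := Localization.AtPrime q
  have hunits : ∀ y : q.primeCompl, IsUnit (π y) := by
    intro y
    by_contra h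
    exact y.2 ((mem_maximalIdeal _).2 h)
  let π₁ : R₁ →+* B := IsLocalization.lift hunits
  have hπ₁comp : π₁.comp (algebraMap P R₁) = π := IsLocalization.lift_comp hunits
  have hπ₁ : Function.Surjective π₁ := by
    intro b
    obtain ⟨p, rfl⟩ := hπ b
    exact ⟨algebraMap P R₁ p, DFunLike.congr_fun hπ₁comp p⟩
  have hker₁ : RingHom.ker π₁ = (RingHom.ker π).map (algebraMap P R₁) := by
    rw [← hπ₁comp, ← RingHom.comap_ker, IsLocalization.map_under q.primeCompl R₁]
  haveI : Hensel.IsStrictHenselization R₁ (SHens R₁) := isStrictHenselization_shens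
  obtain ⟨φ, hφ, hφs, hφk⟩ := exists_shens_quot (Bsh := Bsh) (SHens R₁) π₁ hπ₁
  refine ⟨SHens R₁, inferInstance, (algebraMap R₁ (SHens R₁)).comp (algebraMap P R₁), φ,
    ?_, ?_, ?_, hφs, ?_⟩
  · letI : Algebra P (SHens R₁) :=
      ((algebraMap R₁ (SHens R₁)).comp (algebraMap P R₁)).toAlgebra
    haveI : IsScalarTower P R₁ (SHens R₁) := IsScalarTower.of_algebraMap_eq' rfl
    haveI : Algebra.FormallyEtale P R₁ := Algebra.FormallyEtale.of_isLocalization q.primeCompl
    haveI : Algebra.FormallyEtale R₁ (SHens R₁) := formallyEtale_sh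
    show Algebra.FormallyEtale P (SHens R₁)
    exact Algebra.FormallyEtale.comp P R₁ (SHens R₁)
  · letI : Algebra P (SHens R₁) :=
      ((algebraMap R₁ (SHens R₁)).comp (algebraMap P R₁)).toAlgebra
    haveI : IsScalarTower P R₁ (SHens R₁) := IsScalarTower.of_algebraMap_eq' rfl
    haveI : Module.Flat P R₁ := IsLocalization.flat R₁ q.primeCompl
    show Module.Flat P (SHens R₁)
    exact Module.Flat.trans P R₁ (SHens R₁)
  · rw [← RingHom.comp_assoc, hφ, RingHom.comp_assoc, hπ₁comp]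
  · rw [hφk, hker₁, Ideal.map_map]

end SHensLift

end Groth.Agent.Lib.NLHensH5
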