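import Mathlib
import Groth.Prelude

/-!
# `H^{-1}` of the naive cotangent complex of an immersion chart: algebra (helper7)

For `A → B` and an element `a` of the kernel, the class `clsC a` of the constant polynomial `C a`
in `H¹(L_{B/A})` (computed with the standard presentation).  Naturality of these classes, a
criterion for the induced map `B ⊗_A K → H¹(L_{B/A})` to be bijective (`good_bij`), and a
local-to-global principle for bijectivity (`bijective_of_local`).
APPEND-ONLY once landed.
-/

set_option autoImplicit false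
set_option linter.style.haveILetI false

universe u

open TensorProduct

namespace Groth.Agent.Lib.NLImmH7

section Cls

variable {A B : Type u} [CommRing A] [CommRing B] [Algebra A B]

theorem C_mem_ker (a : A) (ha : algebraMap A B a = 0) :
    (MvPolynomial.C a : (Algebra.Generators.self A B).Ring) ∈
      (Algebra.Generators.self A B).ker := by
  rw [Algebra.Generators.ker_eq_ker_aeval_val, RingHom.mem_ker, MvPolynomial.aeval_C]
  exact ha

/-- The class in `H¹(L_{B/A})` of an element of the kernel of `A → B`. -/
noncomputable def clsC (a : A) (ha : algebraMap A B a = 0) : Algebra.H1Cotangent A B :=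
  (⟨Algebra.Extension.Cotangent.mk ⟨MvPolynomial.C a, C_mem_ker a ha⟩,
    Algebra.Extension.Cotangent.mk_C_mem_ker_cotangentComplex (Algebra.Generators.self A B)
      (C_mem_ker a ha)⟩ :
    LinearMap.ker (Algebra.Generators.self A B).toExtension.cotangentComplex)

theorem clsC_val (a : A) (ha : algebraMap A B a = 0) :
    (clsC a ha).1 = Algebra.Extension.Cotangent.mk ⟨MvPolynomial.C a, C_mem_ker a ha⟩ := rfl

theorem clsC_congr {a a' : A} (h : a = a') (ha : algebraMap A B a = 0)
    (ha' : algebraMap A B a' = 0) : clsC a ha = clsC a' ha' := by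
  subst h
  rfl

/-- `clsC` on the image of a linear map into the kernel, as a linear map. -/
noncomputable def clsLin {K : Type u} [AddCommGroup K] [Module A K] (κ : K →ₗ[A] A)
    (hκ : ∀ k, algebraMap A B (κ k) = 0) : K →ₗ[A] Algebra.H1Cotangent A B where
  toFun k := clsC (κ k) (hκ k)
  map_add' x y := by
    apply Subtype.ext
    show Algebra.Extension.Cotangent.mk _ =
      Algebra.Extension.Cotangent.mk _ + Algebra.Extension.Cotangent.mk _
    rw [← map_add]
    congr 1
    apply Subtype.ext
    show MvPolynomial.C (κ (x + y)) = MvPolynomial.C (κ x) + MvPolynomial.C (κ y)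
    exact (congrArg MvPolynomial.C (map_add κ x y)).trans (map_add MvPolynomial.C _ _)
  map_smul' r x := by
    apply Subtype.ext
    have hC : (MvPolynomial.C (κ (r • x)) : (Algebra.Generators.self A B).Ring) =
        MvPolynomial.C r * MvPolynomial.C (κ x) := by
      rw [map_smul, smul_eq_mul, map_mul]
    have h1 : (⟨MvPolynomial.C (κ (r • x)), C_mem_ker _ (hκ (r • x))⟩ :
        (Algebra.Generators.self A B).ker) =
        (MvPolynomial.C r : (Algebra.Generators.self A B).Ring) •
          (⟨MvPolynomial.C (κ x), C_mem_ker _ (hκ x)⟩ : (Algebra.Generators.self A B).ker) :=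
      Subtype.ext hC
    show Algebra.Extension.Cotangent.mk _ = r • Algebra.Extension.Cotangent.mk _
    refine (congrArg (Algebra.Extension.Cotangent.mk
      (P := (Algebra.Generators.self A B).toExtension)) h1).trans ?_
    refine (map_smul (Algebra.Extension.Cotangent.mk
      (P := (Algebra.Generators.self A B).toExtension)) _ _).trans ?_
    exact algebraMap_smul (Algebra.Generators.self A B).toExtension.Ring r
      (Algebra.Extension.Cotangent.mk (P := (Algebra.Generators.self A B).toExtension)
        ⟨MvPolynomial.C (κ x), C_mem_ker _ (hκ x)⟩)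

theorem clsLin_apply {K : Type u} [AddCommGroup K] [Module A K] (κ : K →ₗ[A] A)
    (hκ : ∀ k, algebraMap A B (κ k) = 0) (k : K) : clsLin κ hκ k = clsC (κ k) (hκ k) := rfl

end Cls

section Nat

/-- Naturality of `clsC`. -/
theorem map_clsC {R S S' T : Type u} [CommRing R] [CommRing S] [CommRing S'] [CommRing T]
    [Algebra R S] [Algebra R S'] [Algebra R T] [Algebra S T] [IsScalarTower R S T]
    [Algebra S' T] [IsScalarTower R S' T] (a : R) (ha : algebraMap R S' a = 0)
    (ha' : algebraMap S T (algebraMap R S a) = 0) :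
    Algebra.H1Cotangent.map R S S' T (clsC a ha) = clsC (algebraMap R S a) ha' := by
  apply Subtype.ext
  show Algebra.Extension.Cotangent.map _ (Algebra.Extension.Cotangent.mk _) =
    Algebra.Extension.Cotangent.mk _
  rw [Algebra.Extension.Cotangent.map_mk]
  congr 1
  apply Subtype.ext
  show (Algebra.Generators.defaultHom (Algebra.Generators.self R S')
    (Algebra.Generators.self S T)).toExtensionHom.toAlgHom (MvPolynomial.C a) =
      MvPolynomial.C (algebraMap R S a)
  rw [Algebra.Generators.Hom.toExtensionHom_toAlgHom_apply, Algebra.Generators.Hom.toAlgHom_C]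

end Nat

section Good

/-- **Good charts.**  If `A → A'` is formally smooth, `A' → B` is surjective, `K → N` is a base
change along `A → B`, `K' ≃ ker (A' → B)` and `K' → N` is a base change along `A' → B`,
compatibly, then `N → H¹(L_{B/A})` is bijective. -/
theorem good_bij {A A' B : Type u} [CommRing A] [CommRing A'] [CommRing B]
    [Algebra A A'] [Algebra A B] [Algebra A' B] [IsScalarTower A A' B]
    [Algebra.FormallySmooth A A']
    (hsurj : Function.Surjective (algebraMap A' B))
    {K K' N : Type u} [AddCommGroup K] [Module A K] [AddCommGroup K'] [Module A' K']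
    [AddCommGroup N] [Module A N] [Module A' N] [Module B N]
    [IsScalarTower A B N] [IsScalarTower A' B N]
    (κ : K →ₗ[A] A) (hκ : ∀ k, algebraMap A B (κ k) = 0)
    (e' : K' ≃ₗ[A'] (RingHom.ker (algebraMap A' B)))
    (c : K →ₗ[A] N) (hbc : IsBaseChange B c)
    (c' : K' →ₗ[A'] N) (hbc' : IsBaseChange B c')
    (ρ : K → K')
    (hρ : ∀ k, ((e' (ρ k) : RingHom.ker (algebraMap A' B)) : A') = algebraMap A A' (κ k))
    (hcρ : ∀ k, c' (ρ k) = c k) :
    Function.Bijective (hbc.lift (clsLin κ hκ)) := by
  let P : Algebra.Extension.{u} A B :=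
    { Ring := A'
      σ := fun b => (hsurj b).choose
      algebraMap_σ := fun b => (hsurj b).choose_spec }
  haveI : Algebra.FormallySmooth A P.Ring := ‹Algebra.FormallySmooth A A'›
  haveI : Algebra.FormallySmooth A (Algebra.Generators.self A B).toExtension.Ring :=
    inferInstanceAs (Algebra.FormallySmooth A (MvPolynomial B A))
  let c'' : P.ker →ₗ[A'] N := c'.comp e'.symm.toLinearMap
  have hbc'' : IsBaseChange B c'' := IsBaseChange.comp_equiv e'.symm c' hbc'
  let Θ'' : N ≃ₗ[B] P.Cotangent := hbc''.equiv.symm ≪≫ₗ P.cotangentEquiv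
  let E : Algebra.H1Cotangent A B ≃ₗ[B] P.H1Cotangent :=
    Algebra.Extension.H1Cotangent.equivOfFormallySmooth
      (Algebra.Generators.self A B).toExtension P
  let g : Algebra.H1Cotangent A B →ₗ[B] P.Cotangent := P.h1Cotangentι ∘ₗ E.toLinearMap
  have hg : Function.Injective g := P.h1Cotangentι_injective.comp E.injective
  have key : ∀ n : N, g (hbc.lift (clsLin κ hκ) n) = Θ'' n := by
    have key' : g ∘ₗ hbc.lift (clsLin κ hκ) = Θ''.toLinearMap := by
      apply hbc.algHom_ext
      intro k
      show g (hbc.lift (clsLin κ hκ) (c k)) = Θ'' (c k)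
      rw [hbc.lift_eq]
      have h1 : Θ'' (c k) = Algebra.Extension.Cotangent.mk (e' (ρ k)) := by
        have h0 : c k = c'' (e' (ρ k)) := by
          show c k = c' (e'.symm (e' (ρ k)))
          rw [e'.symm_apply_apply, hcρ]
        rw [h0]
        show P.cotangentEquiv (hbc''.equiv.symm (c'' (e' (ρ k)))) = _
        rw [hbc''.equiv_symm_apply, Algebra.Extension.contangentEquiv_tmul, one_smul]
      rw [h1]
      show (E (clsC (κ k) (hκ k))).1 = _
      have h2 : E (clsC (κ k) (hκ k)) =
          Algebra.Extension.H1Cotangent.map (Algebra.Extension.defaultHom A B P)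
            (clsC (κ k) (hκ k)) :=
        Algebra.Extension.H1Cotangent.equivOfFormallySmooth_apply
          (Algebra.Extension.defaultHom A B P) _
      rw [h2]
      show Algebra.Extension.Cotangent.map _ (Algebra.Extension.Cotangent.mk _) = _
      rw [Algebra.Extension.Cotangent.map_mk]
      congr 1
      apply Subtype.ext
      show (Algebra.Extension.defaultHom A B P).toAlgHom (MvPolynomial.C (κ k)) =
        ((e' (ρ k) : RingHom.ker (algebraMap A' B)) : A')
      rw [hρ]
      exact MvPolynomial.aeval_C _ _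
    intro n
    exact LinearMap.congr_fun key' n
  refine ⟨?_, ?_⟩
  · intro x y hxy
    apply Θ''.injective
    rw [← key x, ← key y, hxy]
  · intro h
    refine ⟨Θ''.symm (g h), ?_⟩
    apply hg
    rw [key, Θ''.apply_symm_apply]

end Good

section Local

/-- Local-to-global principle for bijectivity, in elementary form. -/
theorem bijective_of_local {R M N : Type u} [CommRing R] [AddCommGroup M] [Module R M]
    [AddCommGroup N] [Module R N] (F : M →ₗ[R] N) (S : Set R) (hS : Ideal.span S = ⊤)
    (H : ∀ r ∈ S, ∃ (Rr Mr Nr : Type u) (_ : CommRing Rr) (_ : AddCommGroup Mr)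
        (_ : AddCommGroup Nr) (_ : Module Rr Mr) (_ : Module Rr Nr)
        (ρ : R →+* Rr) (l : M →+ Mr) (k : N →+ Nr) (Fr : Mr →ₗ[Rr] Nr),
        Function.Bijective Fr ∧ (∀ m, Fr (l m) = k (F m)) ∧
        (∀ x m, l (x • m) = ρ x • l m) ∧ (∀ x n, k (x • n) = ρ x • k n) ∧
        (∀ m', ∃ (n : ℕ) (m : M), ρ r ^ n • m' = l m) ∧
        (∀ m, l m = 0 → ∃ n : ℕ, r ^ n • m = 0) ∧
        (∀ y, k y = 0 → ∃ n : ℕ, r ^ n • y = 0)) :
    Function.Bijective F := by
  refine ⟨?_, ?_⟩
  · rw [injective_iff_map_eq_zero]
    intro m hm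
    have hmem : m ∈ (⊥ : Submodule R M) := by
      refine Submodule.mem_of_span_eq_top_of_smul_pow_mem ⊥ S hS m (fun r => ?_)
      obtain ⟨Rr, Mr, Nr, _, _, _, _, _, ρ, l, k, Fr, hbij, hcomm, hl, hk, hsurj, hker, hkerN⟩ :=
        H r.1 r.2
      have h1 : Fr (l m) = 0 := by rw [hcomm, hm, map_zero]
      have h2 : l m = 0 := hbij.1 (h1.trans (map_zero Fr).symm)
      obtain ⟨n, hn⟩ := hker m h2
      exact ⟨n, by rw [hn]; exact Submodule.zero_mem _⟩
    exact (Submodule.mem_bot R).mp hmem
  · intro y
    have hmem : y ∈ LinearMap.range F := by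
      refine Submodule.mem_of_span_eq_top_of_smul_pow_mem _ S hS y (fun r => ?_)
      obtain ⟨Rr, Mr, Nr, _, _, _, _, _, ρ, l, k, Fr, hbij, hcomm, hl, hk, hsurj, hker, hkerN⟩ :=
        H r.1 r.2
      obtain ⟨m', hm'⟩ := hbij.2 (k y)
      obtain ⟨n, m, hnm⟩ := hsurj m'
      have h1 : k ((r.1 ^ n) • y - F m) = 0 := by
        rw [map_sub, hk, ← hcomm, ← hnm, map_smul, hm', map_pow, sub_self]
      obtain ⟨n', hn'⟩ := hkerN _ h1
      refine ⟨n' + n, (r.1 ^ n') • m, ?_⟩
      rw [map_smul]
      rw [smul_sub, sub_eq_zero] at hn'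
      rw [← hn', pow_add, mul_smul]
    exact hmem

end Local

section LocKer

/-- The kernel of `H¹(L_{S/R}) → H¹(L_{S_b/R})` is `b`-power torsion; stated for an arbitrary
algebra instance `R → R` whose structure map is the identity. -/
theorem h1map_ker {R S T : Type u} [CommRing R] [CommRing S] [CommRing T] [Algebra R S]
    [Algebra R T] [Algebra S T] [IsScalarTower R S T] (instRR : Algebra R R)
    (hRR : ∀ r : R, @algebraMap R R _ _ instRR r = r)
    (tw : @IsScalarTower R R T instRR.toSMul Algebra.toSMul Algebra.toSMul)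
    (b : S) [IsLocalization.Away b T] (y : Algebra.H1Cotangent R S)
    (hy : @Algebra.H1Cotangent.map R R _ _ instRR S _ _ T _ _ _ tw _ _ y = 0) :
    ∃ n : ℕ, b ^ n • y = 0 := by
  have hinst : instRR = Algebra.id R := Algebra.algebra_ext _ _ (fun r => (hRR r).trans rfl)
  subst hinst
  obtain ⟨⟨_, n, rfl⟩, hc⟩ :=
    (IsLocalizedModule.eq_zero_iff (Submonoid.powers b)
      (Algebra.H1Cotangent.map R R S T)).mp hy
  exact ⟨n, hc⟩

end LocKer

end Groth.Agent.Lib.NLImmH7
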