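import Mathlib
import Groth.Prelude
import Groth.Agent.Lib.NLImm1_helper7
import Groth.Agent.Lib.ConormTrans3_helper7

/-!
# `H^{-1}(NL)` of a quasi-compact immersion is the conormal sheaf (helper7)

For a quasi-compact immersion `i : Z ⟶ X` and an affine chart pair `(U, V)`, the canonical map
`theta : Γ(C_{Z/X}, U) → H¹(L_{Γ(Z,U)/Γ(X,V)})` sending the class of a section `t` of the ideal
to the class of the constant polynomial `t`; it is linear, compatible with restriction of charts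
and bijective.  APPEND-ONLY once landed.
-/

set_option autoImplicit false
set_option linter.style.haveILetI false

universe u

open CategoryTheory CategoryTheory.Limits AlgebraicGeometry Opposite TopologicalSpace

namespace Groth.Agent.Lib.NLImmH7

open PBH8 Groth.Agent.Lib.ConormSeqH4 Groth.Agent.Lib.OmegaAffH4 Groth.Agent.Lib.ConormOpenH4

section Basic

variable {Z X : Scheme.{u}} (i : Z ⟶ X)

/-- The inclusion of the sections of the ideal module into the functions. -/
noncomputable abbrev kap (V : X.Opens) : Γ(ClSub.idealMod i.ker, V) →ₗ[Γ(X, V)] Γ(X, V) :=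
  KoszSh.secForm (ClSub.idealModι i.ker) V

theorem kap_eq (V : X.Opens) (t : Γ(ClSub.idealMod i.ker, V)) :
    kap i V t = OmegaSh.idealSect i.ker V t := rfl

theorem surj_of_eq {O O' : X.Opens} (h : O = O')
    (hs : Function.Surjective (i.app O).hom) : Function.Surjective (i.app O').hom := by
  subst h
  exact hs

variable [QuasiCompact i]

theorem app_kap {V : X.Opens} (hV : IsAffineOpen V) (t : Γ(ClSub.idealMod i.ker, V)) :
    (i.app V).hom (kap i V t) = 0 := by
  have h : kap i V t ∈ i.ker.ideal ⟨V, hV⟩ := TensH8.idealModι_mem i.ker hV t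
  rw [Scheme.Hom.ker_apply, RingHom.mem_ker] at h
  exact h

theorem appLE_kap {U : Z.Opens} {V : X.Opens} (hV : IsAffineOpen V) (e : U ≤ i ⁻¹ᵁ V)
    (t : Γ(ClSub.idealMod i.ker, V)) : (i.appLE V U e).hom (kap i V t) = 0 := by
  show (Z.presheaf.map (homOfLE e).op).hom ((i.app V).hom (kap i V t)) = 0
  rw [app_kap i hV t, map_zero]

end Basic

section Theta

variable {Z X : Scheme.{u}} (i : Z ⟶ X) [QuasiCompact i]

/-- The canonical map from the sections of the conormal sheaf over `U` to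
`H¹(L_{Γ(Z,U)/Γ(X,V)})`. -/
noncomputable def theta {U : Z.Opens} {V : X.Opens} (hU : IsAffineOpen U) (hV : IsAffineOpen V)
    (e : U ≤ i ⁻¹ᵁ V) :
    letI := (i.appLE V U e).hom.toAlgebra
    Γ(Omega.conormal i, U) →ₗ[Γ(Z, U)] Algebra.H1Cotangent Γ(X, V) Γ(Z, U) :=
  letI := (i.appLE V U e).hom.toAlgebra
  letI : Module Γ(X, V) Γ((Scheme.Modules.pullback i).obj (ClSub.idealMod i.ker), U) :=
    Module.compHom _ (i.appLE V U e).hom
  haveI : IsScalarTower Γ(X, V) Γ(Z, U)
      Γ((Scheme.Modules.pullback i).obj (ClSub.idealMod i.ker), U) :=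
    IsScalarTower.of_algebraMap_smul fun _ _ => rfl
  haveI : (ClSub.idealMod i.ker).IsQuasicoherent := isQuasicoherent_idealMod _
  (isBaseChange_cUV i (ClSub.idealMod i.ker) e hU hV).lift
    (clsLin (kap i V) (fun t => appLE_kap i hV e t))

theorem theta_cUV {U : Z.Opens} {V : X.Opens} (hU : IsAffineOpen U) (hV : IsAffineOpen V)
    (e : U ≤ i ⁻¹ᵁ V) (t : Γ(ClSub.idealMod i.ker, V)) :
    letI := (i.appLE V U e).hom.toAlgebra
    theta i hU hV e (cUV i (ClSub.idealMod i.ker) e t) =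
      clsC (kap i V t) (appLE_kap i hV e t) := by
  letI := (i.appLE V U e).hom.toAlgebra
  letI : Module Γ(X, V) Γ((Scheme.Modules.pullback i).obj (ClSub.idealMod i.ker), U) :=
    Module.compHom _ (i.appLE V U e).hom
  haveI : IsScalarTower Γ(X, V) Γ(Z, U)
      Γ((Scheme.Modules.pullback i).obj (ClSub.idealMod i.ker), U) :=
    IsScalarTower.of_algebraMap_smul fun _ _ => rfl
  haveI : (ClSub.idealMod i.ker).IsQuasicoherent := isQuasicoherent_idealMod _
  exact IsBaseChange.lift_eq (isBaseChange_cUV i (ClSub.idealMod i.ker) e hU hV)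
    (clsLin (kap i V) (fun t => appLE_kap i hV e t)) t

end Theta

section ChartRes

variable {Z X : Scheme.{u}} {i : Z ⟶ X}

theorem chartRes_clsC {U U' : Z.affineOpens} {V V' : X.affineOpens}
    (e : (U : Z.Opens) ≤ i ⁻¹ᵁ (V : X.Opens)) (e' : (U' : Z.Opens) ≤ i ⁻¹ᵁ (V' : X.Opens))
    (hU : (U' : Z.Opens) ≤ (U : Z.Opens)) (hV : (V' : X.Opens) ≤ (V : X.Opens))
    (a : Γ(X, (V : X.Opens)))
    (ha : (i.appLE (V : X.Opens) (U : Z.Opens) e).hom a = 0)
    (ha' : (i.appLE (V' : X.Opens) (U' : Z.Opens) e').hom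
      ((X.presheaf.map (homOfLE hV).op).hom a) = 0) :
    NLCx.chartRes e e' hU hV
      (letI := (i.appLE (V : X.Opens) (U : Z.Opens) e).hom.toAlgebra; clsC a ha) =
      (letI := (i.appLE (V' : X.Opens) (U' : Z.Opens) e').hom.toAlgebra;
        clsC ((X.presheaf.map (homOfLE hV).op).hom a) ha') := by
  letI := (i.appLE (V : X.Opens) (U : Z.Opens) e).hom.toAlgebra
  letI := (i.appLE (V' : X.Opens) (U' : Z.Opens) e').hom.toAlgebra
  letI := (i.appLE (V : X.Opens) (U' : Z.Opens) (hU.trans e)).hom.toAlgebra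
  letI := (Z.presheaf.map (homOfLE hU).op).hom.toAlgebra
  letI := (X.presheaf.map (homOfLE hV).op).hom.toAlgebra
  haveI : IsScalarTower Γ(X, (V : X.Opens)) Γ(X, (V' : X.Opens)) Γ(Z, (U' : Z.Opens)) :=
    IsScalarTower.of_algebraMap_eq' (by
      change (i.appLE _ _ _).hom = (i.appLE _ _ _).hom.comp (X.presheaf.map _).hom
      rw [← CommRingCat.hom_comp, Scheme.Hom.map_appLE])
  haveI : IsScalarTower Γ(X, (V : X.Opens)) Γ(Z, (U : Z.Opens)) Γ(Z, (U' : Z.Opens)) :=
    IsScalarTower.of_algebraMap_eq' (by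
      change (i.appLE _ _ _).hom = (Z.presheaf.map _).hom.comp (i.appLE _ _ _).hom
      rw [← CommRingCat.hom_comp, Scheme.Hom.appLE_map])
  exact map_clsC a ha ha'

theorem chartRes_smul {U U' : Z.affineOpens} {V V' : X.affineOpens}
    (e : (U : Z.Opens) ≤ i ⁻¹ᵁ (V : X.Opens)) (e' : (U' : Z.Opens) ≤ i ⁻¹ᵁ (V' : X.Opens))
    (hU : (U' : Z.Opens) ≤ (U : Z.Opens)) (hV : (V' : X.Opens) ≤ (V : X.Opens))
    (b : Γ(Z, (U : Z.Opens))) (y : NLCx.ChartH1 i U V e) :
    NLCx.chartRes e e' hU hV (b • y) =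
      (Z.presheaf.map (homOfLE hU).op).hom b • NLCx.chartRes e e' hU hV y := by
  letI := (i.appLE (V : X.Opens) (U : Z.Opens) e).hom.toAlgebra
  letI := (i.appLE (V' : X.Opens) (U' : Z.Opens) e').hom.toAlgebra
  letI := (i.appLE (V : X.Opens) (U' : Z.Opens) (hU.trans e)).hom.toAlgebra
  letI := (Z.presheaf.map (homOfLE hU).op).hom.toAlgebra
  letI := (X.presheaf.map (homOfLE hV).op).hom.toAlgebra
  haveI : IsScalarTower Γ(X, (V : X.Opens)) Γ(X, (V' : X.Opens)) Γ(Z, (U' : Z.Opens)) :=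
    IsScalarTower.of_algebraMap_eq' (by
      change (i.appLE _ _ _).hom = (i.appLE _ _ _).hom.comp (X.presheaf.map _).hom
      rw [← CommRingCat.hom_comp, Scheme.Hom.map_appLE])
  haveI : IsScalarTower Γ(X, (V : X.Opens)) Γ(Z, (U : Z.Opens)) Γ(Z, (U' : Z.Opens)) :=
    IsScalarTower.of_algebraMap_eq' (by
      change (i.appLE _ _ _).hom = (Z.presheaf.map _).hom.comp (i.appLE _ _ _).hom
      rw [← CommRingCat.hom_comp, Scheme.Hom.appLE_map])
  have h := (Algebra.H1Cotangent.map Γ(X, (V : X.Opens)) Γ(X, (V' : X.Opens))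
    Γ(Z, (U : Z.Opens)) Γ(Z, (U' : Z.Opens))).map_smul b y
  refine h.trans ?_
  exact (algebraMap_smul Γ(Z, (U' : Z.Opens)) b _).symm

theorem chartRes_ker {U U' : Z.affineOpens} {V : X.affineOpens}
    (e : (U : Z.Opens) ≤ i ⁻¹ᵁ (V : X.Opens)) (e' : (U' : Z.Opens) ≤ i ⁻¹ᵁ (V : X.Opens))
    (hU : (U' : Z.Opens) ≤ (U : Z.Opens)) (b : Γ(Z, (U : Z.Opens)))
    (hU' : (U' : Z.Opens) = Z.basicOpen b) (y : NLCx.ChartH1 i U V e)
    (hy : NLCx.chartRes e e' hU (le_refl (V : X.Opens)) y = 0) : ∃ n : ℕ, b ^ n • y = 0 := by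
  letI a1 := (i.appLE (V : X.Opens) (U : Z.Opens) e).hom.toAlgebra
  letI a2 := (i.appLE (V : X.Opens) (U' : Z.Opens) e').hom.toAlgebra
  letI a4 := (Z.presheaf.map (homOfLE hU).op).hom.toAlgebra
  haveI tw2 : IsScalarTower Γ(X, (V : X.Opens)) Γ(Z, (U : Z.Opens)) Γ(Z, (U' : Z.Opens)) :=
    IsScalarTower.of_algebraMap_eq' (by
      change (i.appLE _ _ _).hom = (Z.presheaf.map _).hom.comp (i.appLE _ _ _).hom
      rw [← CommRingCat.hom_comp, Scheme.Hom.appLE_map])
  haveI : IsLocalization.Away b Γ(Z, (U' : Z.Opens)) :=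
    U.2.isLocalization_of_eq_basicOpen b (homOfLE hU) hU'
  have hRR : ∀ r : Γ(X, (V : X.Opens)),
      @algebraMap Γ(X, (V : X.Opens)) Γ(X, (V : X.Opens)) _ _
        (X.presheaf.map (homOfLE (le_refl (V : X.Opens))).op).hom.toAlgebra r = r := by
    intro r
    show (X.presheaf.map (homOfLE (le_refl (V : X.Opens))).op).hom r = r
    have h0 : (homOfLE (le_refl (V : X.Opens))).op = 𝟙 (op (V : X.Opens)) := rfl
    rw [h0, X.presheaf.map_id]
    rfl
  have tw1 : @IsScalarTower Γ(X, (V : X.Opens)) Γ(X, (V : X.Opens)) Γ(Z, (U' : Z.Opens))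
      (X.presheaf.map (homOfLE (le_refl (V : X.Opens))).op).hom.toAlgebra.toSMul
      Algebra.toSMul Algebra.toSMul :=
    letI := (X.presheaf.map (homOfLE (le_refl (V : X.Opens))).op).hom.toAlgebra
    IsScalarTower.of_algebraMap_eq' (by
      change (i.appLE _ _ _).hom = (i.appLE _ _ _).hom.comp (X.presheaf.map _).hom
      rw [← CommRingCat.hom_comp, Scheme.Hom.map_appLE])
  exact h1map_ker (X.presheaf.map (homOfLE (le_refl (V : X.Opens))).op).hom.toAlgebra hRR tw1 b y hy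

end ChartRes

section Res

variable {Z X : Scheme.{u}} (i : Z ⟶ X) [QuasiCompact i]

theorem theta_res {U U' : Z.affineOpens} {V V' : X.affineOpens}
    (e : (U : Z.Opens) ≤ i ⁻¹ᵁ (V : X.Opens)) (e' : (U' : Z.Opens) ≤ i ⁻¹ᵁ (V' : X.Opens))
    (hU : (U' : Z.Opens) ≤ (U : Z.Opens)) (hV : (V' : X.Opens) ≤ (V : X.Opens))
    (m : Γ(Omega.conormal i, (U : Z.Opens))) :
    theta i U'.2 V'.2 e' (((Omega.conormal i).presheaf.map (homOfLE hU).op).hom m) =
      NLCx.chartRes e e' hU hV (theta i U.2 V.2 e m) := by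
  letI aUV := (i.appLE (V : X.Opens) (U : Z.Opens) e).hom.toAlgebra
  letI mUV : Module Γ(X, (V : X.Opens))
      Γ((Scheme.Modules.pullback i).obj (ClSub.idealMod i.ker), (U : Z.Opens)) :=
    Module.compHom _ (i.appLE (V : X.Opens) (U : Z.Opens) e).hom
  haveI tUV : IsScalarTower Γ(X, (V : X.Opens)) Γ(Z, (U : Z.Opens))
      Γ((Scheme.Modules.pullback i).obj (ClSub.idealMod i.ker), (U : Z.Opens)) :=
    IsScalarTower.of_algebraMap_smul fun _ _ => rfl
  haveI : (ClSub.idealMod i.ker).IsQuasicoherent := isQuasicoherent_idealMod _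
  have hbc := isBaseChange_cUV i (ClSub.idealMod i.ker) e U.2 V.2
  refine hbc.inductionOn m
    (fun m => theta i U'.2 V'.2 e' (((Omega.conormal i).presheaf.map (homOfLE hU).op).hom m) =
      NLCx.chartRes e e' hU hV (theta i U.2 V.2 e m)) ?_ ?_ ?_ ?_
  · have h1 : ((Omega.conormal i).presheaf.map (homOfLE hU).op).hom
        (0 : Γ(Omega.conormal i, (U : Z.Opens))) = 0 := map_zero _
    have h2 : theta i U'.2 V'.2 e' 0 = 0 := map_zero _
    have h3 : theta i U.2 V.2 e 0 = 0 := map_zero _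
    have h4 : NLCx.chartRes e e' hU hV 0 = 0 := map_zero _
    exact ((congrArg (theta i U'.2 V'.2 e') h1).trans h2).trans
      ((congrArg (NLCx.chartRes e e' hU hV) h3).trans h4).symm
  · intro t
    have h1 : ((Omega.conormal i).presheaf.map (homOfLE hU).op).hom
        (cUV i (ClSub.idealMod i.ker) e t) =
        cUV i (ClSub.idealMod i.ker) e'
          ((ClSub.idealMod i.ker).presheaf.map (homOfLE hV).op t) :=
      (cUV_res i (ClSub.idealMod i.ker) e hU t).trans
        (cUV_src_res i (ClSub.idealMod i.ker) hV e' t).symm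
    have h2 := theta_cUV i U'.2 V'.2 e' ((ClSub.idealMod i.ker).presheaf.map (homOfLE hV).op t)
    have h3 := theta_cUV i U.2 V.2 e t
    have h4 : kap i (V' : X.Opens) ((ClSub.idealMod i.ker).presheaf.map (homOfLE hV).op t) =
        (X.presheaf.map (homOfLE hV).op).hom (kap i (V : X.Opens) t) :=
      idealSect_res i.ker hV t
    have ha' : (i.appLE (V' : X.Opens) (U' : Z.Opens) e').hom
        ((X.presheaf.map (homOfLE hV).op).hom (kap i (V : X.Opens) t)) = 0 := by
      rw [← h4]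
      exact appLE_kap i V'.2 e' _
    have h5 := chartRes_clsC e e' hU hV (kap i (V : X.Opens) t) (appLE_kap i V.2 e t) ha'
    have h6 : (letI := (i.appLE (V' : X.Opens) (U' : Z.Opens) e').hom.toAlgebra;
        clsC (kap i (V' : X.Opens) ((ClSub.idealMod i.ker).presheaf.map (homOfLE hV).op t))
          (appLE_kap i V'.2 e' _)) =
        (letI := (i.appLE (V' : X.Opens) (U' : Z.Opens) e').hom.toAlgebra;
          clsC ((X.presheaf.map (homOfLE hV).op).hom (kap i (V : X.Opens) t)) ha') := by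
      letI := (i.appLE (V' : X.Opens) (U' : Z.Opens) e').hom.toAlgebra
      exact clsC_congr h4 _ _
    exact ((congrArg (theta i U'.2 V'.2 e') h1).trans (h2.trans h6)).trans
      ((congrArg (NLCx.chartRes e e' hU hV) h3).trans h5).symm
  · intro b n ih
    have h1 : ((Omega.conormal i).presheaf.map (homOfLE hU).op).hom (b • n) =
        (Z.presheaf.map (homOfLE hU).op).hom b •
          ((Omega.conormal i).presheaf.map (homOfLE hU).op).hom n :=
      Scheme.Modules.map_smul (Omega.conormal i) (homOfLE hU) b n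
    have h2 : theta i U'.2 V'.2 e' ((Z.presheaf.map (homOfLE hU).op).hom b •
          ((Omega.conormal i).presheaf.map (homOfLE hU).op).hom n) =
        (Z.presheaf.map (homOfLE hU).op).hom b •
          theta i U'.2 V'.2 e' (((Omega.conormal i).presheaf.map (homOfLE hU).op).hom n) :=
      map_smul _ _ _
    have h3 : theta i U.2 V.2 e (b • n) = b • theta i U.2 V.2 e n := map_smul _ _ _
    have h4 := chartRes_smul e e' hU hV b (theta i U.2 V.2 e n)
    exact ((congrArg (theta i U'.2 V'.2 e') h1).trans h2).trans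
      ((congrArg (fun z => (Z.presheaf.map (homOfLE hU).op).hom b • z) ih).trans
        ((congrArg (NLCx.chartRes e e' hU hV) h3).trans h4).symm)
  · intro n₁ n₂ ih₁ ih₂
    have h1 : ((Omega.conormal i).presheaf.map (homOfLE hU).op).hom (n₁ + n₂) =
        ((Omega.conormal i).presheaf.map (homOfLE hU).op).hom n₁ +
          ((Omega.conormal i).presheaf.map (homOfLE hU).op).hom n₂ := map_add _ _ _
    have h2 := map_add (theta i U'.2 V'.2 e')
      (((Omega.conormal i).presheaf.map (homOfLE hU).op).hom n₁)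
      (((Omega.conormal i).presheaf.map (homOfLE hU).op).hom n₂)
    have h3 := map_add (theta i U.2 V.2 e) n₁ n₂
    have h4 := map_add (NLCx.chartRes e e' hU hV) (theta i U.2 V.2 e n₁) (theta i U.2 V.2 e n₂)
    exact ((congrArg (theta i U'.2 V'.2 e') h1).trans h2).trans
      ((congrArg₂ (· + ·) ih₁ ih₂).trans
        ((congrArg (NLCx.chartRes e e' hU hV) h3).trans h4).symm)

end Res

section Cover

variable {Z X : Scheme.{u}} (i : Z ⟶ X) [QuasiCompact i] [IsImmersion i]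

/-- The basic opens of `U` which are preimages of basic opens of `V` over which `i` is a closed
immersion cover `U`. -/
theorem span_good {U : Z.Opens} {V : X.Opens} (hU : IsAffineOpen U) (hV : IsAffineOpen V)
    (e : U ≤ i ⁻¹ᵁ V) :
    Ideal.span {b : Γ(Z, U) | ∃ g : Γ(X, V), b = (i.appLE V U e).hom g ∧
      Z.basicOpen b = i ⁻¹ᵁ (X.basicOpen g) ∧
      Function.Surjective (i.app (X.basicOpen g)).hom} = ⊤ := by
  rw [← hU.self_le_iSup_basicOpen_iff]
  intro z hz
  obtain ⟨OX, hOX, hOXeq⟩ := i.isEmbedding.isInducing.isOpen_iff.mp U.isOpen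
  have hzO : i z ∈ (⟨OX, hOX⟩ : X.Opens) := by
    have h0 : z ∈ i ⁻¹' OX := by
      rw [hOXeq]
      exact hz
    exact h0
  obtain ⟨W, hW, hzW, hWO, hVW, hsW⟩ :=
    exists_good_affine i z ((⟨OX, hOX⟩ : X.Opens) ⊓ V) ⟨hzO, e hz⟩
  obtain ⟨f, g, hfg, hzf⟩ := exists_basicOpen_le_affine_inter hW hV (i z) ⟨hzW, e hz⟩
  obtain ⟨hUf, hsf⟩ := Groth.Agent.Lib.ConormTrans3H7.good_basicOpen i hVW hsW f
  have hsg : Function.Surjective (i.app (X.basicOpen g)).hom := surj_of_eq i hfg hsf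
  have hle : i ⁻¹ᵁ (X.basicOpen g) ≤ U := by
    intro z' hz'
    have h1 : i z' ∈ X.basicOpen f := by
      rw [hfg]
      exact hz'
    have h2 : i z' ∈ W := X.basicOpen_le f h1
    have h3 : i z' ∈ OX := (hWO h2).1
    have h4 : z' ∈ i ⁻¹' OX := h3
    rw [hOXeq] at h4
    exact h4
  have hb : Z.basicOpen ((i.appLE V U e).hom g) = i ⁻¹ᵁ (X.basicOpen g) :=
    (Scheme.basicOpen_appLE i U V e g).trans (inf_eq_right.mpr hle)
  refine Opens.mem_iSup.mpr ⟨⟨(i.appLE V U e).hom g, g, rfl, hb, hsg⟩, ?_⟩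
  show z ∈ Z.basicOpen ((i.appLE V U e).hom g)
  rw [hb]
  show i z ∈ X.basicOpen g
  rw [← hfg]
  exact hzf

end Cover

section Bij

variable {Z X : Scheme.{u}} (i : Z ⟶ X) [QuasiCompact i]

set_option maxHeartbeats 1600000 in
theorem theta_bijective_good {U' : Z.Opens} {V : X.Opens} (hU' : IsAffineOpen U')
    (hV : IsAffineOpen V) (e : U' ≤ i ⁻¹ᵁ V) (g : Γ(X, V))
    (hU'eq : U' = i ⁻¹ᵁ (X.basicOpen g))
    (hs : Function.Surjective (i.app (X.basicOpen g)).hom) :
    Function.Bijective (theta i hU' hV e) := by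
  subst hU'eq
  have hV' : IsAffineOpen (X.basicOpen g) := hV.basicOpen g
  have hVV' : X.basicOpen g ≤ V := X.basicOpen_le g
  letI aAB := (i.appLE V (i ⁻¹ᵁ (X.basicOpen g)) e).hom.toAlgebra
  letI aAA' := (X.presheaf.map (homOfLE hVV').op).hom.toAlgebra
  letI aA'B := (i.appLE (X.basicOpen g) (i ⁻¹ᵁ (X.basicOpen g)) le_rfl).hom.toAlgebra
  haveI tAA'B : IsScalarTower Γ(X, V) Γ(X, X.basicOpen g) Γ(Z, i ⁻¹ᵁ (X.basicOpen g)) :=
    IsScalarTower.of_algebraMap_eq' (by
      change (i.appLE _ _ _).hom = (i.appLE _ _ _).hom.comp (X.presheaf.map _).hom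
      rw [← CommRingCat.hom_comp, Scheme.Hom.map_appLE])
  haveI : IsLocalization.Away g Γ(X, X.basicOpen g) := hV.isLocalization_basicOpen g
  haveI : Algebra.FormallySmooth Γ(X, V) Γ(X, X.basicOpen g) :=
    Algebra.FormallySmooth.of_isLocalization (Submonoid.powers g)
  letI mAN : Module Γ(X, V) Γ((Scheme.Modules.pullback i).obj (ClSub.idealMod i.ker),
      i ⁻¹ᵁ (X.basicOpen g)) := Module.compHom _ (i.appLE V (i ⁻¹ᵁ (X.basicOpen g)) e).hom
  haveI tABN : IsScalarTower Γ(X, V) Γ(Z, i ⁻¹ᵁ (X.basicOpen g))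
      Γ((Scheme.Modules.pullback i).obj (ClSub.idealMod i.ker), i ⁻¹ᵁ (X.basicOpen g)) :=
    IsScalarTower.of_algebraMap_smul fun _ _ => rfl
  letI mA'N : Module Γ(X, X.basicOpen g) Γ((Scheme.Modules.pullback i).obj (ClSub.idealMod i.ker),
      i ⁻¹ᵁ (X.basicOpen g)) :=
    Module.compHom _ (i.appLE (X.basicOpen g) (i ⁻¹ᵁ (X.basicOpen g)) le_rfl).hom
  haveI tA'BN : IsScalarTower Γ(X, X.basicOpen g) Γ(Z, i ⁻¹ᵁ (X.basicOpen g))
      Γ((Scheme.Modules.pullback i).obj (ClSub.idealMod i.ker), i ⁻¹ᵁ (X.basicOpen g)) :=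
    IsScalarTower.of_algebraMap_smul fun _ _ => rfl
  haveI : (ClSub.idealMod i.ker).IsQuasicoherent := isQuasicoherent_idealMod _
  have hbc := isBaseChange_cUV i (ClSub.idealMod i.ker) e hU' hV
  have hbc' := isBaseChange_cUV i (ClSub.idealMod i.ker)
    (le_refl (i ⁻¹ᵁ (X.basicOpen g))) hU' hV'
  have happ : ∀ a : Γ(X, X.basicOpen g),
      algebraMap Γ(X, X.basicOpen g) Γ(Z, i ⁻¹ᵁ (X.basicOpen g)) a =
        (i.app (X.basicOpen g)).hom a := fun a =>
    (congrArg (fun k => k.hom a) (Scheme.Hom.app_eq_appLE i (U := X.basicOpen g))).symm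
  have hsurj : Function.Surjective
      (algebraMap Γ(X, X.basicOpen g) Γ(Z, i ⁻¹ᵁ (X.basicOpen g))) := by
    intro z
    obtain ⟨a, ha⟩ := hs z
    exact ⟨a, (happ a).trans ha⟩
  have hk : i.ker.ideal ⟨X.basicOpen g, hV'⟩ =
      RingHom.ker (algebraMap Γ(X, X.basicOpen g) Γ(Z, i ⁻¹ᵁ (X.basicOpen g))) := by
    ext a
    rw [Scheme.Hom.ker_apply, RingHom.mem_ker, RingHom.mem_ker, happ a]
  let e' : Γ(ClSub.idealMod i.ker, X.basicOpen g) ≃ₗ[Γ(X, X.basicOpen g)]
      RingHom.ker (algebraMap Γ(X, X.basicOpen g) Γ(Z, i ⁻¹ᵁ (X.basicOpen g))) :=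
    (idealModEquiv i.ker hV').trans (LinearEquiv.ofEq _ _ hk)
  have hρ : ∀ k : Γ(ClSub.idealMod i.ker, V),
      ((e' ((ClSub.idealMod i.ker).presheaf.map (homOfLE hVV').op k) :
        RingHom.ker (algebraMap Γ(X, X.basicOpen g) Γ(Z, i ⁻¹ᵁ (X.basicOpen g)))) :
        Γ(X, X.basicOpen g)) = algebraMap Γ(X, V) Γ(X, X.basicOpen g) (kap i V k) :=
    fun k => idealSect_res i.ker hVV' k
  have hcρ : ∀ k : Γ(ClSub.idealMod i.ker, V),
      cUVLin i (ClSub.idealMod i.ker) (le_refl (i ⁻¹ᵁ (X.basicOpen g)))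
        ((ClSub.idealMod i.ker).presheaf.map (homOfLE hVV').op k) =
      cUVLin i (ClSub.idealMod i.ker) e k :=
    fun k => cUV_src_res i (ClSub.idealMod i.ker) hVV' (le_refl _) k
  exact good_bij hsurj (kap i V) (fun t => appLE_kap i hV e t) e'
    (cUVLin i (ClSub.idealMod i.ker) e) hbc
    (cUVLin i (ClSub.idealMod i.ker) (le_refl (i ⁻¹ᵁ (X.basicOpen g)))) hbc'
    (fun k => (ClSub.idealMod i.ker).presheaf.map (homOfLE hVV').op k) hρ hcρ

variable [IsImmersion i]

set_option maxHeartbeats 1600000 in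
theorem theta_bijective {U : Z.Opens} {V : X.Opens} (hU : IsAffineOpen U) (hV : IsAffineOpen V)
    (e : U ≤ i ⁻¹ᵁ V) : Function.Bijective (theta i hU hV e) := by
  letI aAB := (i.appLE V U e).hom.toAlgebra
  refine bijective_of_local (theta i hU hV e) _ (span_good i hU hV e) ?_
  rintro b ⟨g, rfl, hb, hsg⟩
  have hUb : IsAffineOpen (Z.basicOpen ((i.appLE V U e).hom g)) := hU.basicOpen _
  have hle : Z.basicOpen ((i.appLE V U e).hom g) ≤ U := Z.basicOpen_le _
  have eb : Z.basicOpen ((i.appLE V U e).hom g) ≤ i ⁻¹ᵁ V := hle.trans e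
  haveI : (ClSub.idealMod i.ker).IsQuasicoherent := isQuasicoherent_idealMod _
  have hloc := locOnU_pullback i (ClSub.idealMod i.ker) hU hV e ((i.appLE V U e).hom g)
  refine ⟨Γ(Z, Z.basicOpen ((i.appLE V U e).hom g)),
    Γ(Omega.conormal i, Z.basicOpen ((i.appLE V U e).hom g)),
    NLCx.ChartH1 i ⟨_, hUb⟩ ⟨V, hV⟩ eb, inferInstance, inferInstance, inferInstance,
    inferInstance, inferInstance,
    (Z.presheaf.map (homOfLE hle).op).hom,
    ((Omega.conormal i).presheaf.map (homOfLE hle).op).hom,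
    NLCx.chartRes (U := ⟨U, hU⟩) (U' := ⟨_, hUb⟩) (V := ⟨V, hV⟩) (V' := ⟨V, hV⟩)
      e eb hle (le_refl V),
    theta i hUb hV eb, ?_, ?_, ?_, ?_, ?_, ?_, ?_⟩
  · exact theta_bijective_good i hUb hV eb g hb hsg
  · intro m
    exact theta_res i (U := ⟨U, hU⟩) (U' := ⟨_, hUb⟩) (V := ⟨V, hV⟩) (V' := ⟨V, hV⟩)
      e eb hle (le_refl V) m
  · intro x m
    exact Scheme.Modules.map_smul (Omega.conormal i) (homOfLE hle) x m
  · intro x n
    exact chartRes_smul (U := ⟨U, hU⟩) (U' := ⟨_, hUb⟩) (V := ⟨V, hV⟩) (V' := ⟨V, hV⟩)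
      e eb hle (le_refl V) x n
  · exact hloc.surj
  · exact hloc.ker
  · intro y hy
    exact chartRes_ker (U := ⟨U, hU⟩) (U' := ⟨_, hUb⟩) (V := ⟨V, hV⟩) e eb hle _ rfl y hy

end Bij

section Final

variable {Z X : Scheme.{u}} (i : Z ⟶ X) [QuasiCompact i] [IsImmersion i]

/-- The conormal sheaf of a quasi-compact immersion is `H^{-1}` of the naive cotangent complex. -/
noncomputable def h1Sheaf : NLCx.H1Sheaf i (Omega.conormal i) where
  iso U V e := AddEquiv.ofBijective (theta i U.2 V.2 e) (theta_bijective i U.2 V.2 e)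
  map_smul U V e a m := (theta i U.2 V.2 e).map_smul a m
  map_res e e' hU hV m := theta_res i e e' hU hV m

theorem onCharts_omega :
    NLCx.OnCharts i (fun A B _ _ _ => Subsingleton (Ω[B⁄A])) := by
  intro U V e
  letI := (i.appLE (V : X.Opens) (U : Z.Opens) e).hom.toAlgebra
  haveI : IsIso (pullback.diagonal i) := inferInstance
  have h : (i.appLE (V : X.Opens) (U : Z.Opens) e).hom.FormallyUnramified :=
    i.formallyUnramified_appLE V.2 U.2 e
  haveI : Algebra.FormallyUnramified Γ(X, (V : X.Opens)) Γ(Z, (U : Z.Opens)) := h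
  infer_instance

end Final

end Groth.Agent.Lib.NLImmH7
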