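import Mathlib
import Groth.Prelude.Def_SheafNL
import Groth.Agent.Lib.NLBcSurj_helper4

/-!
# The map `H^{-1}(NL(P) ⊗ S') → H^{-1}(NL(P'))` (helper6)

General facts on `NLCx.bcH1Map`: independence of the morphism of extensions, compatibility with
composition on both sides, invariance of `NLCx.bcH1` under change of presentation; the kernel
for the base-changed presentation when the conormal modules are finite projective.
-/

set_option autoImplicit false
universe u
open TensorProduct

namespace Groth.Agent.Lib.NLKerProjH6

section general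

variable {R S R' S' : Type u} [CommRing R] [CommRing S] [CommRing R'] [CommRing S']
  [Algebra R S] [Algebra R' S'] [Algebra R R'] [Algebra S S'] [Algebra R S']
  [IsScalarTower R R' S'] [IsScalarTower R S S']

variable {Q P : Algebra.Extension.{u} R S} {P' P'' : Algebra.Extension.{u} R' S'}

lemma bcH1Map_val (f : P.Hom P') (x : NLCx.bcH1 P S') :
    (NLCx.bcH1Map f x).1 =
      LinearMap.liftBaseChange S' (Algebra.Extension.Cotangent.map f) x.1 := rfl

lemma mem_bcH1 (t : S' ⊗[S] P.Cotangent) :
    t ∈ NLCx.bcH1 P S' ↔ P.cotangentComplex.baseChange S' t = 0 := Iff.rfl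

/-- the homotopy formula, after base change. -/
lemma liftBaseChange_sub (f g : P.Hom P') (t : S' ⊗[S] P.Cotangent) :
    LinearMap.liftBaseChange S' (Algebra.Extension.Cotangent.map f) t -
      LinearMap.liftBaseChange S' (Algebra.Extension.Cotangent.map g) t =
    LinearMap.liftBaseChange S' (f.sub g) (P.cotangentComplex.baseChange S' t) := by
  induction t using TensorProduct.induction_on with
  | zero => simp only [map_zero, sub_self]
  | tmul s c =>
    rw [LinearMap.liftBaseChange_tmul, LinearMap.liftBaseChange_tmul, LinearMap.baseChange_tmul,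
      LinearMap.liftBaseChange_tmul, ← smul_sub]
    congr 1
    exact congr($(Algebra.Extension.Cotangent.map_sub_map f g) c)
  | add a b ha hb =>
    rw [map_add, map_add, map_add, map_add, ← ha, ← hb]
    abel

/-- `bcH1Map` does not depend on the morphism of extensions. -/
theorem bcH1Map_eq (f g : P.Hom P') : NLCx.bcH1Map f = NLCx.bcH1Map g := by
  apply LinearMap.ext
  intro x
  apply Algebra.Extension.h1Cotangentι_ext
  rw [bcH1Map_val, bcH1Map_val, ← sub_eq_zero, liftBaseChange_sub, (mem_bcH1 x.1).mp x.2, map_zero]

/-- compatibility with composition on the target side. -/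
theorem bcH1Map_comp (f : P.Hom P') (g : P'.Hom P'') :
    NLCx.bcH1Map (g.comp f) = (Algebra.Extension.H1Cotangent.map g) ∘ₗ NLCx.bcH1Map f := by
  apply LinearMap.ext
  intro x
  apply Algebra.Extension.h1Cotangentι_ext
  rw [bcH1Map_val, LinearMap.comp_apply, Algebra.Extension.H1Cotangent.map_apply_coe, bcH1Map_val]
  generalize x.1 = t
  induction t using TensorProduct.induction_on with
  | zero => rw [map_zero, map_zero, map_zero]
  | tmul s c =>
    rw [LinearMap.liftBaseChange_tmul, LinearMap.liftBaseChange_tmul, map_smul,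
      Algebra.Extension.Cotangent.map_comp]
    rfl
  | add a b ha hb => rw [map_add, map_add, map_add, ha, hb]

section pre

/-- the map on `H^{-1}(NL ⊗ S')` induced by a morphism of extensions of `S` over `R`. -/
noncomputable def bcH1Pre (u : Q.Hom P) : NLCx.bcH1 Q S' →ₗ[S'] NLCx.bcH1 P S' :=
  ((Algebra.Extension.Cotangent.map u).baseChange S').restrict
    (p := NLCx.bcH1 Q S') (q := NLCx.bcH1 P S') (fun x hx => by
      rw [mem_bcH1] at hx ⊢
      have key : P.cotangentComplex.baseChange S' ∘ₗ
          (Algebra.Extension.Cotangent.map u).baseChange S' =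
          (Algebra.Extension.CotangentSpace.map u).baseChange S' ∘ₗ
            Q.cotangentComplex.baseChange S' := by
        rw [← LinearMap.baseChange_comp, ← LinearMap.baseChange_comp]
        congr 1
        ext y
        exact (Algebra.Extension.CotangentSpace.map_cotangentComplex u y).symm
      have := congr($key x)
      simp only [LinearMap.coe_comp, Function.comp_apply, hx, map_zero] at this
      exact this)

lemma bcH1Pre_val (u : Q.Hom P) (x : NLCx.bcH1 Q S') :
    (bcH1Pre (S' := S') u x).1 = (Algebra.Extension.Cotangent.map u).baseChange S' x.1 := rfl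

/-- the homotopy formula for morphisms of extensions of `S` over `R`, after base change. -/
lemma baseChange_sub (u₁ u₂ : Q.Hom P) (t : S' ⊗[S] Q.Cotangent) :
    (Algebra.Extension.Cotangent.map u₁).baseChange S' t -
      (Algebra.Extension.Cotangent.map u₂).baseChange S' t =
    (u₁.sub u₂).baseChange S' (Q.cotangentComplex.baseChange S' t) := by
  induction t using TensorProduct.induction_on with
  | zero => simp only [map_zero, sub_self]
  | tmul s c =>
    rw [LinearMap.baseChange_tmul, LinearMap.baseChange_tmul, LinearMap.baseChange_tmul,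
      LinearMap.baseChange_tmul, ← TensorProduct.tmul_sub]
    congr 1
    exact congr($(Algebra.Extension.Cotangent.map_sub_map u₁ u₂) c)
  | add a b ha hb =>
    rw [map_add, map_add, map_add, map_add, ← ha, ← hb]
    abel

theorem bcH1Pre_eq (u₁ u₂ : Q.Hom P) : bcH1Pre (S' := S') u₁ = bcH1Pre (S' := S') u₂ := by
  apply LinearMap.ext
  intro x
  apply Subtype.ext
  rw [bcH1Pre_val, bcH1Pre_val, ← sub_eq_zero, baseChange_sub, (mem_bcH1 x.1).mp x.2, map_zero]

theorem bcH1Pre_id : bcH1Pre (S' := S') (Algebra.Extension.Hom.id P) = LinearMap.id := by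
  apply LinearMap.ext
  intro x
  apply Subtype.ext
  rw [bcH1Pre_val, Algebra.Extension.Cotangent.map_id, LinearMap.baseChange_id]
  rfl

theorem bcH1Pre_comp {Q' : Algebra.Extension.{u} R S} (u : Q.Hom P) (v : P.Hom Q') :
    bcH1Pre (S' := S') (v.comp u) = bcH1Pre (S' := S') v ∘ₗ bcH1Pre (S' := S') u := by
  apply LinearMap.ext
  intro x
  apply Subtype.ext
  rw [LinearMap.comp_apply, bcH1Pre_val, bcH1Pre_val, bcH1Pre_val,
    Algebra.Extension.Cotangent.map_comp]
  generalize x.1 = t
  induction t using TensorProduct.induction_on with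
  | zero => rw [map_zero, map_zero, map_zero]
  | tmul s c =>
    rw [LinearMap.baseChange_tmul, LinearMap.baseChange_tmul, LinearMap.baseChange_tmul]
    rfl
  | add a b ha hb => rw [map_add, map_add, map_add, ha, hb]

/-- `H^{-1}(NL(P) ⊗ S')` does not depend on the extension `P`. -/
noncomputable def bcH1Equiv (u : Q.Hom P) (v : P.Hom Q) : NLCx.bcH1 Q S' ≃ₗ[S'] NLCx.bcH1 P S' :=
  LinearEquiv.ofLinear (bcH1Pre u) (bcH1Pre v)
    (by rw [← bcH1Pre_comp, bcH1Pre_eq (u.comp v) (Algebra.Extension.Hom.id P), bcH1Pre_id])
    (by rw [← bcH1Pre_comp, bcH1Pre_eq (v.comp u) (Algebra.Extension.Hom.id Q), bcH1Pre_id])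

lemma bcH1Equiv_apply (u : Q.Hom P) (v : P.Hom Q) (x : NLCx.bcH1 Q S') :
    bcH1Equiv (S' := S') u v x = bcH1Pre u x := rfl

/-- compatibility with composition on the source side. -/
theorem bcH1Map_comp_pre (u : Q.Hom P) (f : P.Hom P') :
    NLCx.bcH1Map (f.comp u) = NLCx.bcH1Map f ∘ₗ bcH1Pre (S' := S') u := by
  apply LinearMap.ext
  intro x
  apply Algebra.Extension.h1Cotangentι_ext
  rw [bcH1Map_val, LinearMap.comp_apply, bcH1Map_val, bcH1Pre_val,
    Algebra.Extension.Cotangent.map_comp]
  generalize x.1 = t
  induction t using TensorProduct.induction_on with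
  | zero => rw [map_zero, map_zero, map_zero]
  | tmul s c =>
    rw [LinearMap.liftBaseChange_tmul, LinearMap.baseChange_tmul, LinearMap.liftBaseChange_tmul]
    rfl
  | add a b ha hb => rw [map_add, map_add, map_add, ha, hb]

end pre

end general

section split

variable {R M N : Type u} [CommRing R] [AddCommGroup M] [Module R M] [AddCommGroup N] [Module R N]

/-- the kernel of a surjection of finite projective modules is finite projective. -/
theorem ker_finite_projective (φ : M →ₗ[R] N) (hφ : Function.Surjective φ)
    [Module.Finite R M] [Module.Projective R M] [Module.Projective R N] :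
    Module.Finite R (LinearMap.ker φ) ∧ Module.Projective R (LinearMap.ker φ) := by
  obtain ⟨σ, hσ⟩ := Module.projective_lifting_property φ LinearMap.id hφ
  have hσ' : ∀ y, φ (σ y) = y := fun y => congr($hσ y)
  obtain ⟨π, hπ⟩ : ∃ π : M →ₗ[R] LinearMap.ker φ, ∀ x, (π x : M) = x - σ (φ x) :=
    ⟨(LinearMap.id - σ ∘ₗ φ).codRestrict (LinearMap.ker φ) (fun x => by
      rw [LinearMap.mem_ker, LinearMap.sub_apply, LinearMap.id_apply, LinearMap.comp_apply,
        map_sub, hσ', sub_self]), fun x => rfl⟩
  have hsplit : π ∘ₗ (LinearMap.ker φ).subtype = LinearMap.id := by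
    apply LinearMap.ext
    intro x
    apply Subtype.ext
    rw [LinearMap.comp_apply, hπ, Submodule.subtype_apply, LinearMap.id_apply,
      (LinearMap.mem_ker).mp x.2, map_zero, sub_zero]
  refine ⟨Module.Finite.of_surjective π (fun x => ⟨x.1, ?_⟩),
    Module.Projective.of_split (LinearMap.ker φ).subtype π hsplit⟩
  exact congr($hsplit x)

end split

section sameVars

variable {R S R' S' : Type u} [CommRing R] [CommRing S] [CommRing R'] [CommRing S']
  [Algebra R S] [Algebra R' S'] [Algebra R R'] [Algebra S S'] [Algebra R S']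
  [IsScalarTower R R' S'] [IsScalarTower R S S'] [Algebra.IsPushout R R' S S']

/-- for the base-changed presentation with finite projective conormal modules, the kernel of
`bcH1Map` is finite projective. -/
theorem ker_bcH1Map_sameVars {ι : Type u} (G : Algebra.Generators R S ι)
    (G' : Algebra.Generators R' S' ι) (h : ∀ i, G'.val i = algebraMap S S' (G.val i))
    [Module.Finite S G.toExtension.Cotangent] [Module.Projective S G.toExtension.Cotangent]
    [Module.Projective S' G'.toExtension.Cotangent] :
    Module.Finite S' (LinearMap.ker (NLCx.bcH1Map (NLCx.sameVarsHom G G' h).toExtensionHom)) ∧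
      Module.Projective S'
        (LinearMap.ker (NLCx.bcH1Map (NLCx.sameVarsHom G G' h).toExtensionHom)) := by
  obtain ⟨f, hf⟩ : ∃ f : G.toExtension.Hom G'.toExtension,
      f = (NLCx.sameVarsHom G G' h).toExtensionHom := ⟨_, rfl⟩
  rw [← hf]
  obtain ⟨φ₁, hφ₁⟩ : ∃ φ₁ : S' ⊗[S] G.toExtension.Cotangent →ₗ[S'] G'.toExtension.Cotangent,
      φ₁ = LinearMap.liftBaseChange S' (Algebra.Extension.Cotangent.map f) := ⟨_, rfl⟩
  have hsurj : Function.Surjective φ₁ := by
    rw [hφ₁, hf]
    exact Groth.Agent.Lib.NLBcSurjH4.liftBaseChange_cotangent_surjective G G' h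
  have hinj : Function.Injective (LinearMap.liftBaseChange S'
      (Algebra.Extension.CotangentSpace.map f)) := by
    rw [hf]
    exact Groth.Agent.Lib.NLBcSurjH4.liftBaseChange_cotangentSpace_injective G G' h
  have hle : LinearMap.ker φ₁ ≤ NLCx.bcH1 G.toExtension S' := by
    intro t ht
    rw [mem_bcH1]
    apply hinj
    have key : G'.toExtension.cotangentComplex ∘ₗ
        LinearMap.liftBaseChange S' (Algebra.Extension.Cotangent.map f) =
        LinearMap.liftBaseChange S' (Algebra.Extension.CotangentSpace.map f) ∘ₗ
          G.toExtension.cotangentComplex.baseChange S' := by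
      ext y
      simpa using (Algebra.Extension.CotangentSpace.map_cotangentComplex f y).symm
    have := congr($key t)
    simp only [LinearMap.coe_comp, Function.comp_apply] at this
    rw [map_zero, ← this, ← hφ₁, (LinearMap.mem_ker).mp ht, map_zero]
  have heq : LinearMap.ker (NLCx.bcH1Map f) =
      Submodule.comap (NLCx.bcH1 G.toExtension S').subtype (LinearMap.ker φ₁) := by
    ext x
    rw [LinearMap.mem_ker, Submodule.mem_comap, LinearMap.mem_ker, Submodule.subtype_apply, hφ₁,
      ← bcH1Map_val]
    constructor
    · intro hx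
      rw [hx]
      rfl
    · intro hx
      exact Algebra.Extension.h1Cotangentι_ext _ _ hx
  obtain ⟨hfin, hproj⟩ := ker_finite_projective φ₁ hsurj
  rw [heq]
  exact ⟨Module.Finite.equiv (Submodule.comapSubtypeEquivOfLe hle).symm,
    Module.Projective.of_equiv (Submodule.comapSubtypeEquivOfLe hle).symm⟩

end sameVars

end Groth.Agent.Lib.NLKerProjH6
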