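import Mathlib
import Groth.Prelude.Def_SheafNL
import Groth.Prelude.Def_LCI2
import Groth.Agent.Lib.NLKerProj1_helper6
import Groth.Agent.Lib.LCIPres_helper2
import Groth.Agent.Lib.H1CotLCI_helper2

/-!
# The kernel of `H^{-1}(NL_{B/A} ⊗ B') → H^{-1}(NL_{B'/A'})` for lci maps (helper6): S7223
-/

set_option autoImplicit false
universe u
open TensorProduct MvPolynomial

namespace Groth.Agent.Lib.NLKerProjH6

section ulift

variable {A B : Type u} [CommRing A] [CommRing B] [Algebra A B]

lemma aeval_ulift_eq (n : ℕ) (f : MvPolynomial (Fin n) A →ₐ[A] B) (v : ULift.{u} (Fin n) → B)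
    (hv : ∀ i, v i = f (X i.down)) :
    (aeval v : MvPolynomial (ULift.{u} (Fin n)) A →ₐ[A] B) =
      f.comp (rename (Equiv.ulift.{u} (α := Fin n))) := by
  apply MvPolynomial.algHom_ext
  intro i
  rw [aeval_X, AlgHom.comp_apply, rename_X, hv]
  rfl

lemma aeval_ulift_surjective (n : ℕ) (f : MvPolynomial (Fin n) A →ₐ[A] B)
    (hf : Function.Surjective f) (v : ULift.{u} (Fin n) → B) (hv : ∀ i, v i = f (X i.down)) :
    Function.Surjective (aeval v : MvPolynomial (ULift.{u} (Fin n)) A →ₐ[A] B) := by
  rw [aeval_ulift_eq n f v hv]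
  exact hf.comp (renameEquiv A (Equiv.ulift.{u} (α := Fin n))).surjective

/-- transporting Koszul-regularity of the kernel to `ULift`-indexed variables. -/
theorem kr_ker_ulift (n : ℕ) (f : MvPolynomial (Fin n) A →ₐ[A] B) (v : ULift.{u} (Fin n) → B)
    (hv : ∀ i, v i = f (X i.down)) (I : Ideal (MvPolynomial (ULift.{u} (Fin n)) A))
    (hI : ∀ p, p ∈ I ↔ aeval v p = 0)
    (h : LCI.IsKoszulRegularIdeal (RingHom.ker f.toRingHom)) :
    LCI.IsKoszulRegularIdeal I := by
  rw [Groth.Agent.Lib.KRegIdeal.kr_iff] at h ⊢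
  have hk : I = (RingHom.ker f.toRingHom).comap
      ((renameEquiv A (Equiv.ulift.{u} (α := Fin n))).toRingEquiv : _ →+* _) := by
    ext p
    rw [Ideal.mem_comap, RingHom.mem_ker, hI, aeval_ulift_eq n f v hv]
    rfl
  rw [hk]
  exact (Groth.Agent.Lib.LCIPres.kr_comap_equiv_iff _ _).mpr h

end ulift

section pushout

variable {R S R' S' : Type u} [CommRing R] [CommRing S] [CommRing R'] [CommRing S']
  [Algebra R S] [Algebra R' S'] [Algebra R R'] [Algebra S S'] [Algebra R S']
  [IsScalarTower R R' S'] [IsScalarTower R S S'] [Algebra.IsPushout R R' S S']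

theorem aeval_surjective_of_isPushout {ι : Type*} (v : ι → S)
    (hv : Function.Surjective (aeval v : MvPolynomial ι R →ₐ[R] S)) :
    Function.Surjective
      (aeval (fun i => algebraMap S S' (v i)) : MvPolynomial ι R' →ₐ[R'] S') := by
  intro y
  have hbc : IsBaseChange R' (IsScalarTower.toAlgHom R S S').toLinearMap :=
    Algebra.IsPushout.out (R := R) (S := R') (R' := S) (S' := S')
  refine hbc.inductionOn y (fun y => ∃ q,
    (aeval (fun i => algebraMap S S' (v i)) : MvPolynomial ι R' →ₐ[R'] S') q = y)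
    ⟨0, map_zero _⟩ ?_ ?_ ?_
  · intro m
    obtain ⟨p, rfl⟩ := hv m
    refine ⟨MvPolynomial.map (algebraMap R R') p, ?_⟩
    rw [MvPolynomial.aeval_map_algebraMap R']
    exact MvPolynomial.aeval_algebraMap_apply S' v p
  · rintro r' n ⟨q, rfl⟩
    exact ⟨r' • q, map_smul _ _ _⟩
  · rintro n1 n2 ⟨q1, rfl⟩ ⟨q2, rfl⟩
    exact ⟨q1 + q2, map_add _ _ _⟩

end pushout

section cot

attribute [local instance] RingHomInvPair.of_ringEquiv RingHomInvPair.of_ringEquiv_symm in
theorem cotangent_finite {A P : Type u} [CommRing A] [CommRing P] [Algebra A P]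
    (E : Algebra.Extension.{u} A P)
    (h : Module.Finite (E.Ring ⧸ E.ker) E.ker.Cotangent) :
    Module.Finite P E.Cotangent := by
  obtain ⟨e, he⟩ : ∃ e : (E.Ring ⧸ E.ker) ≃+* P,
      ∀ r, e (Ideal.Quotient.mk E.ker r) = algebraMap E.Ring P r :=
    ⟨RingHom.quotientKerEquivOfSurjective E.algebraMap_surjective, fun r => rfl⟩
  have hsmul : ∀ (r : E.Ring ⧸ E.ker) (m : E.ker.Cotangent),
      (Algebra.Extension.Cotangent.of (r • m) : E.Cotangent) =
        e r • Algebra.Extension.Cotangent.of m := by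
    intro r m
    obtain ⟨r, rfl⟩ := Ideal.Quotient.mk_surjective r
    apply Algebra.Extension.Cotangent.ext
    rw [he, algebraMap_smul, Algebra.Extension.Cotangent.val_smul']
    rfl
  exact Module.Finite.of_surjective (σ := (e : (E.Ring ⧸ E.ker) →+* P))
    ({ toFun := Algebra.Extension.Cotangent.of
       map_add' := fun _ _ => rfl
       map_smul' := hsmul } : E.ker.Cotangent →ₛₗ[(e : (E.Ring ⧸ E.ker) →+* P)] E.Cotangent)
    (fun x => ⟨x.val, rfl⟩)

end cot

section main

open Groth.Agent.Lib.H1CotLCI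

theorem main7223 (A B A' B' : Type u) [CommRing A] [CommRing B]
    [CommRing A'] [CommRing B'] [Algebra A B] [Algebra A' B'] [Algebra A A'] [Algebra B B']
    [Algebra A B'] [IsScalarTower A A' B'] [IsScalarTower A B B'] [Algebra.IsPushout A A' B B']
    (hB : LCI.IsLCI A B) (hB' : LCI.IsLCI A' B') :
    Module.Finite B' (LinearMap.ker (NLCx.bcH1Map
        ((Algebra.Generators.self A B).defaultHom
          (Algebra.Generators.self A' B')).toExtensionHom)) ∧
      Module.Projective B' (LinearMap.ker (NLCx.bcH1Map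
        ((Algebra.Generators.self A B).defaultHom
          (Algebra.Generators.self A' B')).toExtensionHom)) := by
  obtain ⟨-, n, f, hf, hK⟩ := hB
  obtain ⟨-, m, f', hf', hK'⟩ := hB'
  -- the presentation `G` of `B` over `A`
  obtain ⟨G, hG⟩ : ∃ G : Algebra.Generators A B (ULift.{u} (Fin n)),
      ∀ i, G.val i = f (X i.down) :=
    ⟨Algebra.Generators.ofSurjective (fun i => f (X i.down))
      (aeval_ulift_surjective n f hf _ (fun i => rfl)), fun i => rfl⟩
  have hKG : LCI.IsKoszulRegularIdeal G.toExtension.ker :=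
    kr_ker_ulift n f G.val hG _ (fun p => by
      rw [← Algebra.Generators.algebraMap_apply]; exact RingHom.mem_ker) hK
  -- the base-changed presentation `G'` of `B'` over `A'`
  obtain ⟨β, hβ⟩ : ∃ β : MvPolynomial (Fin n) A' →ₐ[A'] B',
      ∀ j, β (X j) = algebraMap B B' (f (X j)) :=
    ⟨aeval (fun j => algebraMap B B' (f (X j))), fun j => aeval_X _ j⟩
  have hβs : Function.Surjective β := by
    have h1 : (aeval (fun j => f (X j)) : MvPolynomial (Fin n) A →ₐ[A] B) = f := by
      apply MvPolynomial.algHom_ext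
      intro j
      rw [aeval_X]
    have h2 : β = aeval (fun j => algebraMap B B' (f (X j))) := by
      apply MvPolynomial.algHom_ext
      intro j
      rw [aeval_X, hβ]
    rw [h2]
    exact aeval_surjective_of_isPushout (R := A) (fun j => f (X j)) (by rw [h1]; exact hf)
  have hKβ := Groth.Agent.Lib.LCIPres.main9269 m n f' hf' β hβs hK'
  obtain ⟨G', hG'⟩ : ∃ G' : Algebra.Generators A' B' (ULift.{u} (Fin n)),
      ∀ i, G'.val i = algebraMap B B' (G.val i) :=
    ⟨Algebra.Generators.ofSurjective (fun i => algebraMap B B' (G.val i))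
      (aeval_surjective_of_isPushout (R := A) G.val G.aeval_val_surjective), fun i => rfl⟩
  have hKG' : LCI.IsKoszulRegularIdeal G'.toExtension.ker :=
    kr_ker_ulift n β G'.val (fun i => by rw [hG', hG, hβ]) _ (fun p => by
      rw [← Algebra.Generators.algebraMap_apply]; exact RingHom.mem_ker) hKβ
  -- the conormal modules are finite projective
  obtain ⟨hfin0, hproj0⟩ := cotangent_projective_of_koszulRegular _ hKG
  haveI : Module.Projective B G.toExtension.Cotangent := cotangent_projective _ hproj0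
  haveI : Module.Finite B G.toExtension.Cotangent := cotangent_finite _ hfin0
  haveI : Module.Projective B' G'.toExtension.Cotangent :=
    cotangent_projective _ (cotangent_projective_of_koszulRegular _ hKG').2
  obtain ⟨hfin, hproj⟩ := ker_bcH1Map_sameVars G G' hG'
  -- transfer to the presentations on all elements
  obtain ⟨fs, hfs⟩ : ∃ fs : (Algebra.Generators.self A B).toExtension.Hom
      (Algebra.Generators.self A' B').toExtension,
      fs = ((Algebra.Generators.self A B).defaultHom
        (Algebra.Generators.self A' B')).toExtensionHom := ⟨_, rfl⟩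
  rw [← hfs]
  obtain ⟨s, hs⟩ : ∃ s : G.toExtension.Hom G'.toExtension,
      s = (NLCx.sameVarsHom G G' hG').toExtensionHom := ⟨_, rfl⟩
  rw [← hs] at hfin hproj
  obtain ⟨u, -⟩ : ∃ u : G.toExtension.Hom (Algebra.Generators.self A B).toExtension, u = u :=
    ⟨(G.defaultHom (Algebra.Generators.self A B)).toExtensionHom, rfl⟩
  obtain ⟨v, -⟩ : ∃ v : (Algebra.Generators.self A B).toExtension.Hom G.toExtension, v = v :=
    ⟨((Algebra.Generators.self A B).defaultHom G).toExtensionHom, rfl⟩
  obtain ⟨w, -⟩ : ∃ w : (Algebra.Generators.self A' B').toExtension.Hom G'.toExtension, w = w :=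
    ⟨((Algebra.Generators.self A' B').defaultHom G').toExtensionHom, rfl⟩
  obtain ⟨w', -⟩ : ∃ w' : G'.toExtension.Hom (Algebra.Generators.self A' B').toExtension,
      w' = w' :=
    ⟨(G'.defaultHom (Algebra.Generators.self A' B')).toExtensionHom, rfl⟩
  have h1 : NLCx.bcH1Map s =
      (Algebra.Extension.H1Cotangent.map w) ∘ₗ (NLCx.bcH1Map fs ∘ₗ bcH1Pre (S' := B') u) := by
    rw [bcH1Map_eq s (w.comp (fs.comp u)), bcH1Map_comp, bcH1Map_comp_pre]
  have heq : LinearMap.ker (NLCx.bcH1Map s) =
      Submodule.comap ((bcH1Equiv (S' := B') u v : _ ≃ₗ[B'] _) : _ →ₗ[B'] _)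
        (LinearMap.ker (NLCx.bcH1Map fs)) := by
    ext x
    rw [LinearMap.mem_ker, Submodule.mem_comap, LinearMap.mem_ker, h1, LinearMap.comp_apply,
      LinearMap.comp_apply]
    constructor
    · intro hx
      apply (Algebra.Extension.H1Cotangent.equiv w w').injective
      rw [map_zero]
      exact hx
    · intro hx
      have hx' : NLCx.bcH1Map fs (bcH1Pre (S' := B') u x) = 0 := hx
      rw [hx', map_zero]
  rw [heq] at hfin hproj
  exact ⟨Module.Finite.equiv
      ((bcH1Equiv (S' := B') u v).ofSubmodule' (LinearMap.ker (NLCx.bcH1Map fs))),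
    Module.Projective.of_equiv
      ((bcH1Equiv (S' := B') u v).ofSubmodule' (LinearMap.ker (NLCx.bcH1Map fs)))⟩

end main

end Groth.Agent.Lib.NLKerProjH6
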