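import Mathlib

/-!
# Naive cotangent complex and localization of the base (helper3)

For `A → A' = M⁻¹A → B` and presentations `G` of `B/A`, `G'` of `B/A'` on the same variables, the
maps `I/I² → I'/I'²` and `B ⊗ Ω_{A[x]/A} → B ⊗ Ω_{A'[x]/A'}` are bijective.
-/

namespace Groth.Agent.Lib.NLLocH3

open MvPolynomial Algebra

section General

variable {A A' B : Type*} [CommRing A] [CommRing A'] [CommRing B]
  [Algebra A A'] [Algebra A' B] [Algebra A B] [IsScalarTower A A' B]

theorem cotangent_map_bijective_of
    (P : Extension A B) (P' : Extension A' B) (f : P.Hom P')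
    (N : Submonoid P.Ring) [Algebra P.Ring P'.Ring] [IsLocalization N P'.Ring]
    (hφ : ∀ p, f.toRingHom p = algebraMap P.Ring P'.Ring p)
    (hN : ∀ s ∈ N, IsUnit (algebraMap P.Ring B s)) :
    Function.Bijective (Extension.Cotangent.map f) := by
  have hcompat : ∀ p : P.Ring, algebraMap P'.Ring B (algebraMap P.Ring P'.Ring p)
      = algebraMap P.Ring B p := by
    intro p
    rw [← hφ, f.algebraMap_toRingHom p]
    rfl
  have hcomap : P.ker = Ideal.comap (algebraMap P.Ring P'.Ring) P'.ker := by
    ext p
    rw [Ideal.mem_comap]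
    show algebraMap P.Ring B p = 0 ↔ algebraMap P'.Ring B (algebraMap P.Ring P'.Ring p) = 0
    rw [hcompat]
  have hmap : P'.ker = Ideal.map (algebraMap P.Ring P'.Ring) P.ker := by
    rw [hcomap]
    exact (IsLocalization.map_comap N P'.Ring _).symm
  constructor
  · rw [injective_iff_map_eq_zero]
    intro z hz
    obtain ⟨⟨x, hx⟩, rfl⟩ := Extension.Cotangent.mk_surjective z
    rw [Extension.Cotangent.map_mk, Extension.Cotangent.mk_eq_zero_iff] at hz
    have hz' : algebraMap P.Ring P'.Ring x ∈ Ideal.map (algebraMap P.Ring P'.Ring) (P.ker ^ 2) := by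
      rw [Ideal.map_pow, ← hmap, ← hφ]
      exact hz
    rw [IsLocalization.algebraMap_mem_map_algebraMap_iff N] at hz'
    obtain ⟨s, hs, hsx⟩ := hz'
    have h1 : Extension.Cotangent.mk (s • (⟨x, hx⟩ : P.ker)) = 0 := by
      rw [Extension.Cotangent.mk_eq_zero_iff]
      exact hsx
    rw [map_smul, ← algebraMap_smul B s] at h1
    exact (hN s hs).smul_eq_zero.mp h1
  · intro z'
    obtain ⟨⟨y, hy⟩, rfl⟩ := Extension.Cotangent.mk_surjective z'
    obtain ⟨⟨x, s⟩, hxs⟩ := IsLocalization.surj N y
    have hxker : x ∈ P.ker := by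
      show algebraMap P.Ring B x = 0
      rw [← hcompat, ← hxs, map_mul]
      have hy' : algebraMap P'.Ring B y = 0 := hy
      rw [hy', zero_mul]
    obtain ⟨u, hu⟩ := hN s s.2
    refine ⟨((u⁻¹ : Bˣ) : B) • Extension.Cotangent.mk ⟨x, hxker⟩, ?_⟩
    rw [map_smul, Extension.Cotangent.map_mk]
    have h3 : (⟨f.toAlgHom x, by
        simpa using RingHom.congr_arg (algebraMap B B) hxker⟩ : P'.ker)
        = (algebraMap P.Ring P'.Ring s) • (⟨y, hy⟩ : P'.ker) := by
      apply Subtype.ext
      simp only [Extension.Hom.toAlgHom_apply, SetLike.val_smul, smul_eq_mul]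
      rw [hφ, ← hxs, mul_comm]
    rw [h3, map_smul, ← algebraMap_smul B (algebraMap P.Ring P'.Ring (s : P.Ring)), hcompat, ← hu,
      smul_smul, Units.inv_mul, one_smul]

end General

theorem isUnit_algebraMap {A A' B : Type*} [CommRing A] [CommRing A'] [CommRing B]
    [Algebra A A'] (M : Submonoid A) [IsLocalization M A'] [Algebra A' B] [Algebra A B]
    [IsScalarTower A A' B] (m : A) (hm : m ∈ M) : IsUnit (algebraMap A B m) := by
  rw [IsScalarTower.algebraMap_apply A A' B]
  exact (IsLocalization.map_units A' ⟨m, hm⟩).map _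

section Gen

variable {A A' B : Type*} [CommRing A] [CommRing A'] [CommRing B]
  [Algebra A A'] (M : Submonoid A) [IsLocalization M A'] [Algebra A' B] [Algebra A B]
  [IsScalarTower A A' B]
  {ι : Type*} {G : Generators A B ι} {G' : Generators A' B ι} (f : G.Hom G')
  (hf : ∀ i, f.val i = X i)

include hf in
lemma toAlgHom_eq (p : MvPolynomial ι A) :
    f.toAlgHom p = MvPolynomial.map (algebraMap A A') p := by
  induction p using MvPolynomial.induction_on with
  | C a => rw [Generators.Hom.toAlgHom_C, MvPolynomial.map_C]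
  | add p q hp hq => rw [map_add, map_add, hp, hq]
  | mul_X p i hp =>
    rw [map_mul, map_mul, hp, Generators.Hom.toAlgHom_X, hf, MvPolynomial.map_X]

attribute [local instance] MvPolynomial.algebraMvPolynomial

include M hf in
theorem cotangent_map_bijective :
    Function.Bijective (Extension.Cotangent.map f.toExtensionHom) := by
  letI alg : Algebra G.toExtension.Ring G'.toExtension.Ring :=
    (MvPolynomial.algebraMvPolynomial : Algebra (MvPolynomial ι A) (MvPolynomial ι A'))
  have hloc : @IsLocalization G.toExtension.Ring _ (M.map (C (σ := ι))) G'.toExtension.Ring _ alg :=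
    (MvPolynomial.isLocalization M A' : IsLocalization (M.map (C (σ := ι))) (MvPolynomial ι A'))
  refine @cotangent_map_bijective_of A A' B _ _ _ _ _ _ _ G.toExtension G'.toExtension
    f.toExtensionHom (M.map (C (σ := ι))) alg hloc ?_ ?_
  · intro p
    show f.toAlgHom p = MvPolynomial.map (algebraMap A A') p
    exact toAlgHom_eq f hf p
  · rintro s ⟨m, hm, rfl⟩
    have : algebraMap G.toExtension.Ring B (C m) = algebraMap A B m := by
      show algebraMap G.Ring B (C m) = algebraMap A B m
      rw [Generators.algebraMap_apply, aeval_C]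
    have hu : IsUnit (algebraMap A B m) := isUnit_algebraMap (A' := A') M m hm
    exact this ▸ hu

include hf in
theorem cotangentSpace_map_bijective :
    Function.Bijective (Extension.CotangentSpace.map f.toExtensionHom) := by
  classical
  have h : ∀ i, Extension.CotangentSpace.map f.toExtensionHom (G.cotangentSpaceBasis i)
      = G'.cotangentSpaceBasis i := by
    intro i
    apply G'.cotangentSpaceBasis.repr.injective
    ext j
    rw [Generators.repr_CotangentSpaceMap, hf, Module.Basis.repr_self, pderiv_X]
    by_cases hij : i = j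
    · subst hij; simp
    · simp [hij, Ne.symm hij]
  have h2 : Extension.CotangentSpace.map f.toExtensionHom =
      (G.cotangentSpaceBasis.equiv G'.cotangentSpaceBasis (Equiv.refl ι)).toLinearMap := by
    apply G.cotangentSpaceBasis.ext
    intro i
    rw [h]
    simp
  rw [h2]
  exact LinearEquiv.bijective _

end Gen

end Groth.Agent.Lib.NLLocH3
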