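import Mathlib
import Groth.Prelude.Def_LCI2
import Groth.Agent.Lib.NLTorAmp2_helper6
import Groth.Agent.Lib.Vasc5_helper9
import Groth.Agent.Lib.Serre2_helper5
import Groth.Agent.Lib.KoszulTop_helper7

/-!
# Vasconcelos ⇒ Koszul-regular ideals; fibres of a flat algebra with flat conormal module are
local complete intersections (helper6).
-/

set_option autoImplicit false
universe u
open TensorProduct

namespace Groth.Agent.Lib.NLTorAmpH6

/-- In a regular ring, an ideal with projective conormal module is Koszul-regular. -/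
theorem isKoszulRegularIdeal_of_projective_cotangent {R : Type u} [CommRing R] [IsRegularRing R]
    (J : Ideal R) [Module.Projective (R ⧸ J) J.Cotangent] : LCI.IsKoszulRegularIdeal J := by
  intro 𝔭 h𝔭
  obtain ⟨d, hd⟩ := Groth.Agent.Serre.exists_pd_bound R J
  obtain ⟨g, hg, rs, hreg, heq⟩ :=
    Groth.Agent.Vasc9.isRegularIdeal_of_projective_cotangent 𝔭.asIdeal J (d + 1) hd h𝔭
  refine ⟨g, hg, rs, (Groth.Agent.Lib.KoszulTopH7.koszulRegular rs hreg.toIsWeaklyRegular).1, ?_⟩
  rw [← heq]

/-- The conormal module as a tensor product. -/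
noncomputable def cotangentEquivTensor {R : Type u} [CommRing R] (J : Ideal R) :
    (R ⧸ J) ⊗[R] J ≃ₗ[R ⧸ J] J.Cotangent :=
  LinearEquiv.extendScalarsOfSurjective (R := R) (S := R ⧸ J) Ideal.Quotient.mk_surjective
    (show (R ⧸ J) ⊗[R] J ≃ₗ[R] J.Cotangent from TensorProduct.quotTensorEquivQuotSMul J J)

/-- Over a Noetherian ring, if `(R ⧸ J) ⊗ J` is flat then the conormal module is projective. -/
theorem projective_cotangent_of_flat_tensor {R : Type u} [CommRing R] [IsNoetherianRing R]
    (J : Ideal R) [Module.Flat (R ⧸ J) ((R ⧸ J) ⊗[R] J)] :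
    Module.Projective (R ⧸ J) J.Cotangent := by
  haveI : Module.Flat (R ⧸ J) J.Cotangent := Module.Flat.of_linearEquiv (cotangentEquivTensor J).symm
  haveI : Module.Finite R J := Module.IsNoetherian.finite R J
  haveI : Module.Finite R J.Cotangent :=
    Module.Finite.of_surjective J.toCotangent J.toCotangent_surjective
  haveI : Module.Finite (R ⧸ J) J.Cotangent := Module.Finite.of_restrictScalars_finite R _ _
  haveI : Module.FinitePresentation (R ⧸ J) J.Cotangent := Module.finitePresentation_of_finite _ _
  exact Module.Flat.projective_of_finitePresentation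

end Groth.Agent.Lib.NLTorAmpH6
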