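import Mathlib
import Groth.Prelude.Def_LCI2
import Groth.Agent.Lib.NLTorAmp3_helper6

/-!
# Fibres of a flat algebra with flat conormal module are local complete intersections (helper6).
-/

set_option autoImplicit false
universe u
open TensorProduct

namespace Groth.Agent.Lib.NLTorAmpH6

attribute [local instance] MvPolynomial.algebraMvPolynomial

/-- the kernel of the base-changed presentation. -/
theorem ker_baseChange_presentation {A B : Type u} [CommRing A] [CommRing B] [Algebra A B]
    (n : ℕ) (fA : MvPolynomial (Fin n) A →ₐ[A] B) (hsurj : Function.Surjective fA)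
    (κ : Type u) [CommRing κ] [Algebra A κ] :
    RingHom.ker ((Algebra.TensorProduct.map (AlgHom.id κ κ) fA).comp
      (MvPolynomial.algebraTensorAlgEquiv (σ := Fin n) A κ).symm.toAlgHom).toRingHom =
    (RingHom.ker fA.toRingHom).map
      (algebraMap (MvPolynomial (Fin n) A) (MvPolynomial (Fin n) κ)) := by
  set e := MvPolynomial.algebraTensorAlgEquiv (σ := Fin n) A κ with he
  have h1 : RingHom.ker ((Algebra.TensorProduct.map (AlgHom.id κ κ) fA).comp
      e.symm.toAlgHom).toRingHom =
      Ideal.comap (e.symm : MvPolynomial (Fin n) κ →+* κ ⊗[A] MvPolynomial (Fin n) A)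
        (RingHom.ker (Algebra.TensorProduct.map (AlgHom.id κ κ) fA)) := by
    ext x
    simp [RingHom.mem_ker]
  have h0 : RingHom.ker (Algebra.TensorProduct.map (AlgHom.id κ κ) fA) =
      RingHom.ker (Algebra.TensorProduct.map (AlgHom.id A κ) fA) := by
    ext x
    rw [RingHom.mem_ker, RingHom.mem_ker]
    rfl
  rw [h1, h0, Algebra.TensorProduct.lTensor_ker _ hsurj]
  have h2 : Ideal.comap (e.symm : MvPolynomial (Fin n) κ →+* κ ⊗[A] MvPolynomial (Fin n) A)
      ((RingHom.ker fA).map (Algebra.TensorProduct.includeRight :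
        MvPolynomial (Fin n) A →ₐ[A] κ ⊗[A] MvPolynomial (Fin n) A)) =
      Ideal.map (e : κ ⊗[A] MvPolynomial (Fin n) A →+* MvPolynomial (Fin n) κ)
      ((RingHom.ker fA).map (Algebra.TensorProduct.includeRight :
        MvPolynomial (Fin n) A →ₐ[A] κ ⊗[A] MvPolynomial (Fin n) A)) := by
    exact (Ideal.map_comap_of_equiv (e : κ ⊗[A] MvPolynomial (Fin n) A ≃+* MvPolynomial (Fin n) κ)).symm
  have h3 : Ideal.map (Algebra.TensorProduct.includeRight :
        MvPolynomial (Fin n) A →ₐ[A] κ ⊗[A] MvPolynomial (Fin n) A) (RingHom.ker fA) =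
      Ideal.map (Algebra.TensorProduct.includeRight :
        MvPolynomial (Fin n) A →ₐ[A] κ ⊗[A] MvPolynomial (Fin n) A).toRingHom
        (RingHom.ker fA.toRingHom) := rfl
  rw [h2, h3, Ideal.map_map]
  congr 1
  ext x
  · simp [he]
  · simp [he]

end Groth.Agent.Lib.NLTorAmpH6

namespace Groth.Agent.Lib.NLTorAmpH6

attribute [local instance] MvPolynomial.algebraMvPolynomial

/-- **Fibres are lci**: if `B` is flat over `A`, presented as a quotient of `A[X₁..Xₙ]` by `I`
with `B ⊗ I` flat over `B`, then every base change to a field is a local complete intersection. -/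
theorem isLCI_fibre {A B : Type u} [CommRing A] [CommRing B] [Algebra A B] [Module.Flat A B]
    (n : ℕ) [Algebra (MvPolynomial (Fin n) A) B] [IsScalarTower A (MvPolynomial (Fin n) A) B]
    (hsurj : Function.Surjective (algebraMap (MvPolynomial (Fin n) A) B))
    [Module.Flat B (B ⊗[MvPolynomial (Fin n) A]
      (RingHom.ker (algebraMap (MvPolynomial (Fin n) A) B)))]
    (κ : Type u) [Field κ] [Algebra A κ] : LCI.IsLCI κ (κ ⊗[A] B) := by
  classical
  let fA : MvPolynomial (Fin n) A →ₐ[A] B := IsScalarTower.toAlgHom A (MvPolynomial (Fin n) A) B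
  have hfA : Function.Surjective fA := hsurj
  let I : Ideal (MvPolynomial (Fin n) A) := RingHom.ker (algebraMap (MvPolynomial (Fin n) A) B)
  have hIker : I = RingHom.ker fA.toRingHom := rfl
  haveI : Module.Flat A (MvPolynomial (Fin n) A ⧸ I) :=
    Module.Flat.of_linearEquiv (Ideal.quotientKerAlgEquivOfSurjective hfA).toLinearEquiv
  have hinj := baseChange_subtype_injective A κ (R' := MvPolynomial (Fin n) κ) I
  let J : Ideal (MvPolynomial (Fin n) κ) :=
    I.map (algebraMap (MvPolynomial (Fin n) A) (MvPolynomial (Fin n) κ))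
  let φ : B →+* MvPolynomial (Fin n) κ ⧸ J :=
    (Ideal.quotientMap J (algebraMap (MvPolynomial (Fin n) A) (MvPolynomial (Fin n) κ))
      Ideal.le_comap_map).comp
      (RingHom.quotientKerEquivOfSurjective hsurj).symm.toRingHom
  letI : Algebra B (MvPolynomial (Fin n) κ ⧸ J) := φ.toAlgebra
  haveI : IsScalarTower (MvPolynomial (Fin n) A) B (MvPolynomial (Fin n) κ ⧸ J) := by
    refine IsScalarTower.of_algebraMap_eq (fun x => ?_)
    have h1 : (RingHom.quotientKerEquivOfSurjective hsurj).symm
        (algebraMap (MvPolynomial (Fin n) A) B x) = Ideal.Quotient.mk _ x := by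
      rw [RingEquiv.symm_apply_eq]
      rfl
    show _ = φ (algebraMap (MvPolynomial (Fin n) A) B x)
    simp only [φ, RingHom.comp_apply, RingEquiv.toRingHom_eq_coe, RingHom.coe_coe, h1]
    rfl
  haveI : Module.Flat (MvPolynomial (Fin n) κ ⧸ J) ((MvPolynomial (Fin n) κ ⧸ J) ⊗[MvPolynomial (Fin n) κ] J) :=
    flat_tensor_map (B := B) I hinj
  haveI := projective_cotangent_of_flat_tensor J
  have hKR := isKoszulRegularIdeal_of_projective_cotangent J
  let g' : MvPolynomial (Fin n) κ →ₐ[κ] κ ⊗[A] B :=
    (Algebra.TensorProduct.map (AlgHom.id κ κ) fA).comp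
      (MvPolynomial.algebraTensorAlgEquiv (σ := Fin n) A κ).symm.toAlgHom
  have hg' : Function.Surjective g' := by
    have h1 : Function.Surjective (Algebra.TensorProduct.map (AlgHom.id κ κ) fA) :=
      Algebra.TensorProduct.map_surjective _ _ Function.surjective_id hfA
    have h2 : Function.Surjective (MvPolynomial.algebraTensorAlgEquiv (σ := Fin n) A κ).symm :=
      AlgEquiv.surjective _
    exact h1.comp h2
  refine ⟨Algebra.FiniteType.of_surjective g' hg', n, g', hg', ?_⟩
  have hker := ker_baseChange_presentation n fA hfA κ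
  rw [hker, ← hIker]
  exact hKR

end Groth.Agent.Lib.NLTorAmpH6
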