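import Mathlib
import Groth.Prelude.Def_LCI2
import Groth.Agent.Lib.NLPerf_helper2
import Groth.Agent.Lib.NLTorAmp1_helper6
import Groth.Agent.Lib.NLTorAmp4_helper6
import Groth.Agent.Lib.SyntTA2_helper2
import Groth.Agent.Lib.SyntTA3_helper2
import Groth.Agent.Lib.DMod42_helper6

/-!
# `NL_{B/A}` of tor-amplitude `[-1,0]` and `B` flat of finite presentation ⟹ lci (helper6).
-/

set_option autoImplicit false
universe u
open TensorProduct
attribute [local instance] HasDerivedCategory.standard

namespace Groth.Agent.Lib.NLTorAmpH6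

variable {A B : Type u} [CommRing A] [CommRing B] [Algebra A B]

set_option backward.isDefEq.respectTransparency false in
/-- flat conormal module (for a finite polynomial presentation) + `B` flat ⟹ fibres lci. -/
theorem isLCI_fibre_of_generators [Module.Flat A B] (n : ℕ) (G : Algebra.Generators A B (Fin n))
    [Module.Flat B G.toExtension.Cotangent] (κ : Type u) [Field κ] [Algebra A κ] :
    LCI.IsLCI κ (κ ⊗[A] B) := by
  haveI hflat2 : Module.Flat B (B ⊗[G.toExtension.Ring] G.toExtension.ker) :=
    Module.Flat.of_linearEquiv G.toExtension.cotangentEquiv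
  have hsurj : Function.Surjective (algebraMap G.toExtension.Ring B) :=
    G.toExtension.algebraMap_surjective
  exact @isLCI_fibre A B _ _ _ _ n
    G.toExtension.algebra₂ G.toExtension.isScalarTower
    hsurj hflat2 κ _ _

/-- the direction (⇒) of S2234. -/
theorem isLCI_of_torAmp [Module.Flat A B] [Algebra.FinitePresentation A B]
    (h : DRing.HasTorAmplitudeIn B (-1) 0 (LCI.NL A B)) : LCI.IsLCI A B := by
  classical
  obtain ⟨n, f, hf, -⟩ := (inferInstance : Algebra.FinitePresentation A B).out
  obtain ⟨G, hG⟩ : ∃ G : Algebra.Generators A B (Fin n), G = Algebra.Generators.ofAlgHom f hf :=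
    ⟨_, rfl⟩
  haveI : Module.Free B G.toExtension.CotangentSpace := Module.Free.of_basis G.cotangentSpaceBasis
  obtain ⟨e⟩ := Groth.Agent.Lib.NLPerf.nonempty_iso G.toExtension
    (Algebra.Generators.self A B).toExtension
    (G.defaultHom (Algebra.Generators.self A B)).toExtensionHom
    (Algebra.Extension.defaultHom (P := G.toExtension))
  have e' : DRing.toD (Groth.Agent.Lib.NLPerf.cx G.toExtension) ≅ LCI.NL A B := e
  have h' : DRing.HasTorAmplitudeIn B (-1) 0 (DRing.toD (Groth.Agent.Lib.NLPerf.cx G.toExtension)) :=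
    Groth.Agent.Lib.DMod_helper6.hasTorAmplitudeIn_of_iso e'.symm _ _ h
  haveI hflat : Module.Flat B G.toExtension.Cotangent := cotangent_flat_of_torAmp G.toExtension h'
  have hsynt : Synt.IsSyntomic A B := by
    refine ⟨inferInstance, inferInstance, fun p => ?_⟩
    exact Groth.Agent.Lib.SyntTA.isLCIOver_of_isLCI _ _
      (isLCI_fibre_of_generators n G p.asIdeal.ResidueField)
  exact ((Groth.Agent.Lib.SyntTA.main9287 A B).mp hsynt).2

end Groth.Agent.Lib.NLTorAmpH6
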