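import Mathlib
import Groth.Prelude.Def_LCI2
import Groth.Prelude.Def_MoreMor
import Groth.Agent.Lib.NLPerf_helper2
import Groth.Agent.Lib.NLTorAmp1_helper6
import Groth.Agent.Lib.NLTorAmp3_helper6
import Groth.Agent.Lib.DMod5_helper6
import Groth.Agent.Lib.DMod25_helper6
import Groth.Agent.Lib.DMod61_helper6

/-!
# `NL_{B/A}` of tor-amplitude `[-1,0]` for a perfect ring map over a Noetherian base ⟹ lci
(helper6).
-/

set_option autoImplicit false
universe u
open TensorProduct CategoryTheory
attribute [local instance] HasDerivedCategory.standard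

namespace Groth.Agent.Lib.NLTorAmpH6

/-- In a Noetherian ring, an ideal of finite projective dimension with projective conormal
module is Koszul-regular. -/
theorem isKoszulRegularIdeal_of_pd {R : Type u} [CommRing R] [IsNoetherianRing R]
    (J : Ideal R) (n : ℕ) (hpd : HasProjectiveDimensionLT (ModuleCat.of R J) n)
    [Module.Projective (R ⧸ J) J.Cotangent] : LCI.IsKoszulRegularIdeal J := by
  intro 𝔭 h𝔭
  obtain ⟨g, hg, rs, hreg, heq⟩ :=
    Groth.Agent.Vasc9.isRegularIdeal_of_projective_cotangent 𝔭.asIdeal J n hpd h𝔭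
  refine ⟨g, hg, rs, (Groth.Agent.Lib.KoszulTopH7.koszulRegular rs hreg.toIsWeaklyRegular).1, ?_⟩
  rw [← heq]

/-- A perfect module has finite projective dimension. -/
theorem exists_pd_of_isPerfectModule {R : Type u} [CommRing R] (M : Type u) [AddCommGroup M]
    [Module R M] (h : DRing.IsPerfectModule R M) :
    ∃ n : ℕ, HasProjectiveDimensionLT (ModuleCat.of R M) n := by
  obtain ⟨E, a, b, hE, hfp, ⟨e⟩⟩ := h
  refine ⟨(-a).toNat + 1, ?_⟩
  rw [hasProjectiveDimensionLT_iff]
  intro i hi Y x
  have hs := Groth.Agent.Lib.DMod_helper6.hom_subsingleton_of_projAmp E a b hE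
    (fun j => (hfp j).2) (Dual.inD R M) e Y (i : ℤ) (Or.inr (by omega))
  exact Abelian.Ext.homEquiv.injective (@Subsingleton.elim _ hs _ _)

/-- the kernel of a surjection from a ring onto a module of finite projective dimension has
finite projective dimension. -/
theorem exists_pd_ker {R : Type u} [CommRing R] {M : Type u} [AddCommGroup M] [Module R M]
    (f : R →ₗ[R] M) (hf : Function.Surjective f)
    (h : ∃ n : ℕ, HasProjectiveDimensionLT (ModuleCat.of R M) n) :
    ∃ n : ℕ, HasProjectiveDimensionLT (ModuleCat.of R (LinearMap.ker f)) n := by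
  obtain ⟨n, hn⟩ := h
  have hS := ModuleCat.shortComplex_shortExact
    (ShortComplex.moduleCatMk (LinearMap.ker f).subtype f
      (LinearMap.exact_subtype_ker_map f).linearMap_comp_eq_zero)
    (LinearMap.exact_subtype_ker_map f) (LinearMap.ker f).injective_subtype hf
  haveI : Module.Projective R R := inferInstance
  haveI hproj : Projective (ModuleCat.of R R) :=
    (IsProjective.iff_projective (R := R) (P := R)).mp inferInstance
  refine ⟨n + 1, hS.hasProjectiveDimensionLT_X₁ (n + 1) ?_ ?_⟩
  · haveI h1 : HasProjectiveDimensionLT (ModuleCat.of R R) 1 :=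
      projective_iff_hasProjectiveDimensionLT_one.mp hproj
    exact hasProjectiveDimensionLT_of_ge (ModuleCat.of R R) 1 (n + 1) (by omega)
  · haveI : HasProjectiveDimensionLT (ModuleCat.of R M) n := hn
    exact hasProjectiveDimensionLT_of_ge (ModuleCat.of R M) n (n + 1 + 1) (by omega)

end Groth.Agent.Lib.NLTorAmpH6

namespace Groth.Agent.Lib.NLTorAmpH6

/-- For an extension with Noetherian ring, a flat cotangent module gives a projective conormal
module of the kernel. -/
theorem projective_cotangent_of_flat {A B : Type u} [CommRing A] [CommRing B] [Algebra A B]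
    (P : Algebra.Extension.{u} A B) [IsNoetherianRing P.Ring] [Module.Flat B P.Cotangent] :
    Module.Projective (P.Ring ⧸ P.ker) P.ker.Cotangent := by
  haveI hflat2 : Module.Flat B (B ⊗[P.Ring] P.ker) := Module.Flat.of_linearEquiv P.cotangentEquiv
  let φ : B →+* P.Ring ⧸ P.ker :=
    (RingHom.quotientKerEquivOfSurjective P.algebraMap_surjective).symm.toRingHom
  letI : Algebra B (P.Ring ⧸ P.ker) := φ.toAlgebra
  haveI : IsScalarTower P.Ring B (P.Ring ⧸ P.ker) := by
    refine IsScalarTower.of_algebraMap_eq (fun x => ?_)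
    have h1 : (RingHom.quotientKerEquivOfSurjective P.algebraMap_surjective).symm
        (algebraMap P.Ring B x) = Ideal.Quotient.mk _ x := by
      rw [RingEquiv.symm_apply_eq]
      rfl
    show _ = φ (algebraMap P.Ring B x)
    simp only [φ, RingEquiv.toRingHom_eq_coe, RingHom.coe_coe, h1]
    rfl
  let e₃ : (P.Ring ⧸ P.ker) ⊗[B] (B ⊗[P.Ring] P.ker) ≃ₗ[P.Ring ⧸ P.ker]
      (P.Ring ⧸ P.ker) ⊗[P.Ring] P.ker :=
    AlgebraTensorModule.cancelBaseChange P.Ring B (P.Ring ⧸ P.ker) (P.Ring ⧸ P.ker) P.ker
  haveI : Module.Flat (P.Ring ⧸ P.ker) ((P.Ring ⧸ P.ker) ⊗[P.Ring] P.ker) :=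
    Module.Flat.of_linearEquiv e₃.symm
  exact projective_cotangent_of_flat_tensor P.ker

variable {A B : Type u} [CommRing A] [CommRing B] [Algebra A B]

/-- the direction (⇒) of S2236. -/
theorem isLCI_of_torAmp_of_finiteTorDim [IsNoetherianRing A] [Algebra.FiniteType A B]
    (hB : DRing.HasFiniteTorDim A B)
    (h : DRing.HasTorAmplitudeIn B (-1) 0 (LCI.NL A B)) : LCI.IsLCI A B := by
  classical
  -- `A → B` is perfect
  have hperf : MoreMor.IsPerfectHom A B := by
    obtain ⟨n₀, φ₀, hφ₀⟩ := Algebra.FiniteType.iff_quotient_mvPolynomial''.1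
      (inferInstance : Algebra.FiniteType A B)
    refine ⟨⟨n₀, φ₀, hφ₀, ?_⟩, hB⟩
    letI : Algebra (MvPolynomial (Fin n₀) A) B := φ₀.toRingHom.toAlgebra
    haveI : Module.Finite (MvPolynomial (Fin n₀) A) B :=
      Module.Finite.of_surjective (Algebra.linearMap (MvPolynomial (Fin n₀) A) B) hφ₀
    exact Groth.Agent.Lib.DMod_helper6.isPseudoCoherentModule'_of_finite B
  obtain ⟨n, φ, hφ, hpm⟩ := (Groth.Agent.Lib.DMod_helper6.isPerfectHom_iff A B).mp hperf
  -- finite projective dimension of the kernel
  have hpd : ∃ m : ℕ, HasProjectiveDimensionLT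
      (ModuleCat.of (MvPolynomial (Fin n) A) (RingHom.ker φ.toRingHom)) m := by
    letI : Algebra (MvPolynomial (Fin n) A) B := φ.toRingHom.toAlgebra
    have h1 := exists_pd_of_isPerfectModule (R := MvPolynomial (Fin n) A) B hpm
    exact exists_pd_ker (Algebra.linearMap (MvPolynomial (Fin n) A) B) hφ h1
  obtain ⟨m, hm⟩ := hpd
  -- flat conormal module
  obtain ⟨G, hG⟩ : ∃ G : Algebra.Generators A B (Fin n), G = Algebra.Generators.ofAlgHom φ hφ :=
    ⟨_, rfl⟩
  have hker : G.toExtension.ker = RingHom.ker φ.toRingHom := by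
    rw [hG]
    exact Algebra.Generators.ker_ofAlgHom φ hφ
  haveI : Module.Free B G.toExtension.CotangentSpace := Module.Free.of_basis G.cotangentSpaceBasis
  obtain ⟨e⟩ := Groth.Agent.Lib.NLPerf.nonempty_iso G.toExtension
    (Algebra.Generators.self A B).toExtension
    (G.defaultHom (Algebra.Generators.self A B)).toExtensionHom
    (Algebra.Extension.defaultHom (P := G.toExtension))
  have e' : DRing.toD (Groth.Agent.Lib.NLPerf.cx G.toExtension) ≅ LCI.NL A B := e
  have h' : DRing.HasTorAmplitudeIn B (-1) 0 (DRing.toD (Groth.Agent.Lib.NLPerf.cx G.toExtension)) :=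
    Groth.Agent.Lib.DMod_helper6.hasTorAmplitudeIn_of_iso e'.symm _ _ h
  haveI hflat : Module.Flat B G.toExtension.Cotangent := cotangent_flat_of_torAmp G.toExtension h'
  haveI hnoeth : IsNoetherianRing (MvPolynomial (Fin n) A) := MvPolynomial.isNoetherianRing
  haveI : IsNoetherianRing G.toExtension.Ring := hnoeth
  haveI hproj := projective_cotangent_of_flat G.toExtension
  have hm' : HasProjectiveDimensionLT
      (ModuleCat.of G.toExtension.Ring G.toExtension.ker) m := by
    rw [hker]
    exact hm
  have hKR : LCI.IsKoszulRegularIdeal G.toExtension.ker :=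
    isKoszulRegularIdeal_of_pd (R := G.toExtension.Ring) G.toExtension.ker m hm'
  rw [hker] at hKR
  exact ⟨inferInstance, n, φ, hφ, hKR⟩

end Groth.Agent.Lib.NLTorAmpH6
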