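import Mathlib
import Groth.Prelude

/-!
# Openness of integral extensions over normal and unibranch bases, part 1: normal base (helper8)
APPEND-ONLY once landed.
-/

set_option autoImplicit false
set_option linter.all false
set_option maxHeartbeats 1600000

universe u

open Polynomial

namespace Groth.Agent.Lib.UnibrOpenH8

/-- lying over for injective integral maps of domains, as surjectivity on spectra -/
theorem comap_surjective_of_isIntegral (R S : Type*) [CommRing R] [CommRing S] [IsDomain S]
    [Algebra R S] [Algebra.IsIntegral R S] (hinj : Function.Injective (algebraMap R S)) :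
    Function.Surjective (PrimeSpectrum.comap (algebraMap R S)) := by
  intro P
  have hker : RingHom.ker (algebraMap R S) ≤ P.asIdeal := by
    rw [(RingHom.injective_iff_ker_eq_bot _).mp hinj]
    exact bot_le
  obtain ⟨Q, hQ, hQP⟩ := Ideal.exists_ideal_over_prime_of_isIntegral_of_isDomain P.asIdeal hker
  exact ⟨⟨Q, hQ⟩, PrimeSpectrum.ext hQP⟩

/-- a monogenic integral extension of a normal domain inside a domain is finitely presented -/
theorem finitePresentation_adjoin (A D : Type*) [CommRing A] [IsDomain A] [IsIntegrallyClosed A]
    [CommRing D] [IsDomain D] [Algebra A D] [FaithfulSMul A D] (d : D) (hd : IsIntegral A d) :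
    Algebra.FinitePresentation A (Algebra.adjoin A ({d} : Set D)) := by
  have e := minpoly.equivAdjoin hd
  haveI : Algebra.FinitePresentation A (AdjoinRoot (minpoly A d)) := by
    unfold AdjoinRoot
    exact Algebra.FinitePresentation.quotient (Submodule.fg_span_singleton _)
  exact Algebra.FinitePresentation.equiv e

/-- **normal base**: an integral extension of domains over an integrally closed domain induces an
open map on spectra. -/
theorem isOpenMap_comap_of_isIntegrallyClosed (A D : Type*) [CommRing A] [IsDomain A]
    [IsIntegrallyClosed A] [CommRing D] [IsDomain D] [Algebra A D]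
    (hinj : Function.Injective (algebraMap A D)) [Algebra.IsIntegral A D] :
    IsOpenMap (PrimeSpectrum.comap (algebraMap A D)) := by
  haveI : FaithfulSMul A D := (faithfulSMul_iff_algebraMap_injective A D).mpr hinj
  rw [PrimeSpectrum.isTopologicalBasis_basic_opens.isOpenMap_iff]
  rintro _ ⟨d, rfl⟩
  have hd : IsIntegral A d := Algebra.IsIntegral.isIntegral d
  -- the monogenic subalgebra
  obtain ⟨E, hE⟩ : ∃ E : Subalgebra A D, E = Algebra.adjoin A ({d} : Set D) := ⟨_, rfl⟩
  have hdE : d ∈ E := by rw [hE]; exact Algebra.subset_adjoin (Set.mem_singleton d)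
  haveI : Algebra.FinitePresentation A E := by
    rw [hE]; exact finitePresentation_adjoin A D d hd
  haveI : Algebra.IsIntegral A E := by
    refine ⟨fun x => ?_⟩
    have h1 : IsIntegral A (x : D) := Algebra.IsIntegral.isIntegral _
    exact (isIntegral_algHom_iff E.val Subtype.val_injective).mp h1
  haveI : Algebra.IsIntegral E D := Algebra.IsIntegral.tower_top (R := A)
  haveI : FaithfulSMul A E := by
    rw [faithfulSMul_iff_algebraMap_injective]
    intro a b hab
    apply hinj
    have := congrArg (Subtype.val) hab
    exact this
  have hopen : IsOpenMap (PrimeSpectrum.comap (algebraMap A E)) :=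
    PrimeSpectrum.isOpenMap_comap_of_hasGoingDown_of_finitePresentation
  have hsurj : Function.Surjective (PrimeSpectrum.comap (algebraMap E D)) :=
    comap_surjective_of_isIntegral E D Subtype.val_injective
  have hcomp : PrimeSpectrum.comap (algebraMap A D) =
      PrimeSpectrum.comap (algebraMap A E) ∘ PrimeSpectrum.comap (algebraMap E D) := by
    rw [← PrimeSpectrum.comap_comp]
    rfl
  have himg : PrimeSpectrum.comap (algebraMap E D) '' (PrimeSpectrum.basicOpen d : Set _) =
      (PrimeSpectrum.basicOpen (⟨d, hdE⟩ : E) : Set _) := by
    have h1 : (PrimeSpectrum.basicOpen d : Set (PrimeSpectrum D)) =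
        PrimeSpectrum.comap (algebraMap E D) ⁻¹' (PrimeSpectrum.basicOpen (⟨d, hdE⟩ : E) : Set _) := by
      ext Q
      rfl
    rw [h1, Set.image_preimage_eq _ hsurj]
  rw [hcomp, Set.image_comp, himg]
  exact hopen _ (PrimeSpectrum.basicOpen _).isOpen

end Groth.Agent.Lib.UnibrOpenH8
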