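import Mathlib
import Groth.Prelude
import Groth.Agent.Lib.UniOpen1_helper8
import Groth.Agent.Lib.UnibrOpen1_helper8

/-!
# Openness of integral extensions over normal and unibranch bases, part 2: uniqueness of the
prime of the normalization over a unibranch point (helper8)
APPEND-ONLY once landed.
-/

set_option autoImplicit false
set_option linter.all false
set_option maxHeartbeats 1600000

universe u

open Polynomial IsLocalRing

namespace Groth.Agent.Lib.UnibrOpenH8

/-- for a local domain, unibranch means that the integral closure in the fraction field is local -/
theorem isLocalRing_integralClosure_of_isUnibranch (R : Type u) [CommRing R] [IsDomain R]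
    [IsLocalRing R] (K : Type u) [Field K] [Algebra R K] [IsFractionRing R K]
    (hu : CAlg2.IsUnibranch R) : IsLocalRing (integralClosure R K) := by
  obtain ⟨hdom, hloc⟩ := hu
  haveI := hdom
  have hnil : nilradical R = ⊥ := nilradical_eq_bot_iff.mpr inferInstance
  let e : CAlg2.red R ≃+* R := (Ideal.quotEquivOfEq hnil).trans (RingEquiv.quotientBot R)
  exact Groth.Agent.Lib.UniOpenH8.isLocalRing_integralClosure_of_ringEquiv e hloc

theorem unique_prime_over_of_isUnibranch (A : Type u) [CommRing A] [IsDomain A] (p : Ideal A)
    [p.IsPrime] (hu : CAlg2.IsUnibranch (Localization.AtPrime p))
    (P₁ P₂ : Ideal (integralClosure A (FractionRing A))) [P₁.IsPrime] [P₂.IsPrime]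
    (h₁ : P₁.comap (algebraMap A (integralClosure A (FractionRing A))) = p)
    (h₂ : P₂.comap (algebraMap A (integralClosure A (FractionRing A))) = p) : P₁ = P₂ := by
  haveI hC : IsLocalRing (integralClosure (Localization.AtPrime p) (FractionRing A)) :=
    isLocalRing_integralClosure_of_isUnibranch (Localization.AtPrime p) (FractionRing A) hu
  -- the inclusion of integral closures
  let φ : integralClosure A (FractionRing A) →+*
      integralClosure (Localization.AtPrime p) (FractionRing A) :=
    { toFun := fun x => ⟨x.1, x.2.tower_top⟩
      map_one' := rfl
      map_mul' := fun _ _ => rfl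
      map_zero' := rfl
      map_add' := fun _ _ => rfl }
  letI : Algebra (integralClosure A (FractionRing A))
      (integralClosure (Localization.AtPrime p) (FractionRing A)) := φ.toAlgebra
  haveI : IsScalarTower (integralClosure A (FractionRing A))
      (integralClosure (Localization.AtPrime p) (FractionRing A)) (FractionRing A) :=
    IsScalarTower.of_algebraMap_eq (fun x => rfl)
  haveI : IsScalarTower A (integralClosure A (FractionRing A))
      (integralClosure (Localization.AtPrime p) (FractionRing A)) :=
    IsScalarTower.of_algebraMap_eq (fun x => by
      apply Subtype.ext
      rfl)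
  haveI : IsLocalization (Algebra.algebraMapSubmonoid (FractionRing A) p.primeCompl)
      (FractionRing A) := by
    apply IsLocalization.self
    rintro _ ⟨a, ha, rfl⟩
    have ha0 : a ≠ 0 := fun h => ha (h ▸ p.zero_mem)
    show IsUnit (algebraMap A (FractionRing A) a)
    exact IsUnit.mk0 _ (by
      rw [Ne, map_eq_zero_iff _ (IsFractionRing.injective A (FractionRing A))]
      exact ha0)
  haveI hloc : IsLocalization (Algebra.algebraMapSubmonoid (integralClosure A (FractionRing A))
      p.primeCompl) (integralClosure (Localization.AtPrime p) (FractionRing A)) :=
    IsLocalization.integralClosure (R := A) (S := FractionRing A)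
      (Rf := Localization.AtPrime p) (Sf := FractionRing A) p.primeCompl
  haveI : Algebra.IsIntegral A (integralClosure A (FractionRing A)) := inferInstance
  haveI : Algebra.IsIntegral (Localization.AtPrime p)
      (integralClosure (Localization.AtPrime p) (FractionRing A)) := inferInstance
  have hover : ((maximalIdeal (integralClosure (Localization.AtPrime p) (FractionRing A))).comap
      (algebraMap (integralClosure A (FractionRing A))
        (integralClosure (Localization.AtPrime p) (FractionRing A)))).comap
      (algebraMap A (integralClosure A (FractionRing A))) = p := by
    rw [Ideal.comap_comap, ← IsScalarTower.algebraMap_eq]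
    have h1 : algebraMap A (integralClosure (Localization.AtPrime p) (FractionRing A)) =
        (algebraMap (Localization.AtPrime p)
          (integralClosure (Localization.AtPrime p) (FractionRing A))).comp
          (algebraMap A (Localization.AtPrime p)) := by
      ext x
      exact IsScalarTower.algebraMap_apply A (Localization.AtPrime p) (FractionRing A) x
    rw [h1, ← Ideal.comap_comap]
    haveI hmax := Ideal.isMaximal_comap_of_isIntegral_of_isMaximal (R := Localization.AtPrime p)
      (maximalIdeal (integralClosure (Localization.AtPrime p) (FractionRing A)))
    rw [IsLocalRing.eq_maximalIdeal hmax]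
    exact Localization.AtPrime.under_maximalIdeal
  have key : ∀ (P : Ideal (integralClosure A (FractionRing A))) [P.IsPrime],
      P.comap (algebraMap A (integralClosure A (FractionRing A))) = p →
      P = (maximalIdeal (integralClosure (Localization.AtPrime p) (FractionRing A))).comap
        (algebraMap (integralClosure A (FractionRing A))
          (integralClosure (Localization.AtPrime p) (FractionRing A))) := by
    intro P hPprime hP
    have hdisj : Disjoint (Algebra.algebraMapSubmonoid (integralClosure A (FractionRing A))
        p.primeCompl : Set (integralClosure A (FractionRing A))) (P : Set _) := by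
      rw [Set.disjoint_left]
      rintro _ ⟨a, ha, rfl⟩ haP
      apply ha
      rw [← hP]
      exact haP
    have hQ : (P.map (algebraMap (integralClosure A (FractionRing A))
        (integralClosure (Localization.AtPrime p) (FractionRing A)))).IsPrime :=
      IsLocalization.isPrime_of_isPrime_disjoint _ _ P hPprime hdisj
    have hcomap : (P.map (algebraMap (integralClosure A (FractionRing A))
        (integralClosure (Localization.AtPrime p) (FractionRing A)))).comap
        (algebraMap (integralClosure A (FractionRing A))
        (integralClosure (Localization.AtPrime p) (FractionRing A))) = P :=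
      IsLocalization.under_map_of_isPrime_disjoint _ _ hPprime hdisj
    have hle : P ≤ (maximalIdeal (integralClosure (Localization.AtPrime p)
        (FractionRing A))).comap (algebraMap (integralClosure A (FractionRing A))
          (integralClosure (Localization.AtPrime p) (FractionRing A))) := by
      conv_lhs => rw [← hcomap]
      exact Ideal.comap_mono (IsLocalRing.le_maximalIdeal hQ.ne_top)
    by_contra hne
    have hlt := lt_of_le_of_ne hle hne
    have h2 := Ideal.IsIntegral.comap_lt_comap (R := A) hlt
    rw [hP, hover] at h2
    exact lt_irrefl _ h2
  rw [key P₁ h₁, key P₂ h₂]

end Groth.Agent.Lib.UnibrOpenH8
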