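import Mathlib
import Groth.Prelude
import Groth.Agent.Lib.UnibrOpen2_helper8

/-!
# Openness of integral extensions over normal and unibranch bases, part 3: the unibranch case
(helper8)
APPEND-ONLY once landed.
-/

set_option autoImplicit false
set_option linter.all false
set_option maxHeartbeats 1600000

universe u

open Polynomial IsLocalRing Topology

namespace Groth.Agent.Lib.UnibrOpenH8

/-- the topological skeleton of the argument -/
theorem isOpenAt_of_square {SB SA SD SA' : Type*} [TopologicalSpace SB] [TopologicalSpace SA]
    [TopologicalSpace SD] [TopologicalSpace SA'] (f : SB → SA) (πB : SD → SB) (πA : SD → SA')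
    (g : SA' → SA) (hπB : Continuous πB) (hπBs : Function.Surjective πB) (hπA : IsOpenMap πA)
    (hg : IsClosedMap g) (hgs : Function.Surjective g) (hcomm : ∀ Q, f (πB Q) = g (πA Q)) (q : SB)
    (huniq : ∀ v₁ v₂, g v₁ = f q → g v₂ = f q → v₁ = v₂) : EGA43.IsOpenAt f q := by
  intro U hU
  obtain ⟨U₀, hU₀U, hU₀o, hqU₀⟩ := mem_nhds_iff.mp hU
  have hVo : IsOpen (πA '' (πB ⁻¹' U₀)) := hπA _ (hU₀o.preimage hπB)
  have hWo : IsOpen (g '' (πA '' (πB ⁻¹' U₀))ᶜ)ᶜ := (hg _ hVo.isClosed_compl).isOpen_compl
  obtain ⟨Q, hQ⟩ := hπBs q
  have hp'V : πA Q ∈ πA '' (πB ⁻¹' U₀) := ⟨Q, by rw [Set.mem_preimage, hQ]; exact hqU₀, rfl⟩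
  have hgQ : g (πA Q) = f q := by rw [← hcomm, hQ]
  have hqW : f q ∈ (g '' (πA '' (πB ⁻¹' U₀))ᶜ)ᶜ := by
    rintro ⟨v, hv, hgv⟩
    exact hv (huniq v (πA Q) hgv hgQ ▸ hp'V)
  refine Filter.mem_of_superset (hWo.mem_nhds hqW) ?_
  intro a ha
  obtain ⟨a', rfl⟩ := hgs a
  have ha'V : a' ∈ πA '' (πB ⁻¹' U₀) := by
    by_contra hn
    exact ha ⟨a', hn, rfl⟩
  obtain ⟨Q', hQ'U, rfl⟩ := ha'V
  exact ⟨πB Q', hU₀U hQ'U, hcomm Q'⟩

/-- **unibranch base**: an integral extension of domains is open at the primes lying over a
unibranch point. -/
theorem isOpenAt_comap_of_isUnibranch (A B : Type u) [CommRing A] [IsDomain A] [CommRing B]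
    [IsDomain B] [Algebra A B] (hinj : Function.Injective (algebraMap A B))
    [Algebra.IsIntegral A B] (q : PrimeSpectrum B)
    (hu : CAlg2.IsUnibranch (Localization.AtPrime (q.asIdeal.comap (algebraMap A B)))) :
    EGA43.IsOpenAt (PrimeSpectrum.comap (algebraMap A B)) q := by
  haveI : FaithfulSMul A B := (faithfulSMul_iff_algebraMap_injective A B).mpr hinj
  -- fraction fields
  haveI : IsScalarTower A B (FractionRing B) := inferInstance
  haveI : FaithfulSMul A (FractionRing B) := by
    rw [faithfulSMul_iff_algebraMap_injective, IsScalarTower.algebraMap_eq A B (FractionRing B)]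
    exact (IsFractionRing.injective B (FractionRing B)).comp hinj
  letI : Algebra (FractionRing A) (FractionRing B) := FractionRing.liftAlgebra A (FractionRing B)
  haveI : IsScalarTower A (FractionRing A) (FractionRing B) :=
    FractionRing.isScalarTower_liftAlgebra A (FractionRing B)
  haveI : IsIntegrallyClosed (integralClosure A (FractionRing A)) :=
    integralClosure.isIntegrallyClosedOfFiniteExtension (FractionRing A)
  -- the two maps into the big integral closure
  let ι : integralClosure A (FractionRing A) →+* integralClosure A (FractionRing B) :=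
    { toFun := fun x => ⟨algebraMap (FractionRing A) (FractionRing B) x.1,
        x.2.map (IsScalarTower.toAlgHom A (FractionRing A) (FractionRing B))⟩
      map_one' := Subtype.ext (map_one _)
      map_mul' := fun _ _ => Subtype.ext (map_mul _ _ _)
      map_zero' := Subtype.ext (map_zero _)
      map_add' := fun _ _ => Subtype.ext (map_add _ _ _) }
  let β : B →+* integralClosure A (FractionRing B) :=
    { toFun := fun b => ⟨algebraMap B (FractionRing B) b,
        (Algebra.IsIntegral.isIntegral (R := A) b).map (IsScalarTower.toAlgHom A B (FractionRing B))⟩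
      map_one' := Subtype.ext (map_one _)
      map_mul' := fun _ _ => Subtype.ext (map_mul _ _ _)
      map_zero' := Subtype.ext (map_zero _)
      map_add' := fun _ _ => Subtype.ext (map_add _ _ _) }
  have hι : Function.Injective ι := by
    intro x y hxy
    apply Subtype.ext
    exact (algebraMap (FractionRing A) (FractionRing B)).injective (congrArg Subtype.val hxy)
  have hβ : Function.Injective β := by
    intro x y hxy
    exact IsFractionRing.injective B (FractionRing B) (congrArg Subtype.val hxy)
  have hcomm : ι.comp (algebraMap A (integralClosure A (FractionRing A))) =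
      β.comp (algebraMap A B) := by
    ext x
    show algebraMap (FractionRing A) (FractionRing B) (algebraMap A (FractionRing A) x) =
      algebraMap B (FractionRing B) (algebraMap A B x)
    rw [← IsScalarTower.algebraMap_apply, ← IsScalarTower.algebraMap_apply]
  have hopen : IsOpenMap (PrimeSpectrum.comap ι) := by
    letI : Algebra (integralClosure A (FractionRing A)) (integralClosure A (FractionRing B)) :=
      ι.toAlgebra
    haveI : IsScalarTower A (integralClosure A (FractionRing A))
        (integralClosure A (FractionRing B)) :=
      IsScalarTower.of_algebraMap_eq (fun x => Subtype.ext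
        (IsScalarTower.algebraMap_apply A (FractionRing A) (FractionRing B) x))
    haveI : Algebra.IsIntegral (integralClosure A (FractionRing A))
        (integralClosure A (FractionRing B)) := Algebra.IsIntegral.tower_top (R := A)
    exact isOpenMap_comap_of_isIntegrallyClosed (integralClosure A (FractionRing A))
      (integralClosure A (FractionRing B)) hι
  have hsurj : Function.Surjective (PrimeSpectrum.comap β) := by
    letI : Algebra B (integralClosure A (FractionRing B)) := β.toAlgebra
    haveI : IsScalarTower A B (integralClosure A (FractionRing B)) :=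
      IsScalarTower.of_algebraMap_eq (fun x => Subtype.ext
        (IsScalarTower.algebraMap_apply A B (FractionRing B) x))
    haveI : Algebra.IsIntegral B (integralClosure A (FractionRing B)) :=
      Algebra.IsIntegral.tower_top (R := A)
    exact comap_surjective_of_isIntegral B (integralClosure A (FractionRing B)) hβ
  have hclosed : IsClosedMap (PrimeSpectrum.comap
      (algebraMap A (integralClosure A (FractionRing A)))) :=
    PrimeSpectrum.isClosedMap_comap_of_isIntegral _
      (algebraMap_isIntegral_iff.mpr inferInstance)
  have hgs : Function.Surjective (PrimeSpectrum.comap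
      (algebraMap A (integralClosure A (FractionRing A)))) :=
    comap_surjective_of_isIntegral A (integralClosure A (FractionRing A))
      (FaithfulSMul.algebraMap_injective A _)
  refine isOpenAt_of_square (PrimeSpectrum.comap (algebraMap A B)) (PrimeSpectrum.comap β)
    (PrimeSpectrum.comap ι) (PrimeSpectrum.comap (algebraMap A (integralClosure A (FractionRing A))))
    (PrimeSpectrum.continuous_comap β) hsurj hopen hclosed hgs ?_ q ?_
  · intro Q
    rw [← PrimeSpectrum.comap_comp_apply, ← PrimeSpectrum.comap_comp_apply, hcomm]
  · intro v₁ v₂ h₁ h₂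
    apply PrimeSpectrum.ext
    exact unique_prime_over_of_isUnibranch A (q.asIdeal.comap (algebraMap A B)) hu
      v₁.asIdeal v₂.asIdeal (congrArg PrimeSpectrum.asIdeal h₁) (congrArg PrimeSpectrum.asIdeal h₂)

end Groth.Agent.Lib.UnibrOpenH8
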