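import Mathlib
import Groth.Prelude
import Groth.Agent.Lib.UnibrOpen3_helper8
import Groth.Agent.Lib.UniOpen1_helper8

/-!
# Openness at quasi-finite points over a unibranch base, part 4: ring level, domains (helper8)
APPEND-ONLY once landed.
-/

set_option autoImplicit false
set_option linter.all false
set_option maxHeartbeats 1600000

universe u

open Polynomial IsLocalRing Topology

namespace Groth.Agent.Lib.UnibrOpenH8

theorem isOpenAt_comp {α β γ : Type*} [TopologicalSpace α] [TopologicalSpace β]
    [TopologicalSpace γ] (f : α → β) (g : β → γ) (x : α) (hf : EGA43.IsOpenAt f x)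
    (hg : EGA43.IsOpenAt g (f x)) : EGA43.IsOpenAt (g ∘ f) x := by
  intro U hU
  rw [Set.image_comp]
  exact hg _ (hf U hU)

/-- transfer of openness at a point along open embeddings -/
theorem isOpenAt_of_openEmbedding_square {SB SA X Y : Type*} [TopologicalSpace SB]
    [TopologicalSpace SA] [TopologicalSpace X] [TopologicalSpace Y] (f : X → Y) (g : SB → SA)
    (jB : SB → X) (jA : SA → Y) (hjB : Continuous jB) (hjA : IsOpenMap jA)
    (hcomm : ∀ b, f (jB b) = jA (g b)) (b : SB) (h : EGA43.IsOpenAt g b) :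
    EGA43.IsOpenAt f (jB b) := by
  intro N hN
  have h1 : jB ⁻¹' N ∈ nhds b := hjB.continuousAt hN
  have h2 := h _ h1
  have h3 : jA '' (g '' (jB ⁻¹' N)) ∈ nhds (jA (g b)) := hjA.image_mem_nhds h2
  rw [hcomm]
  refine Filter.mem_of_superset h3 ?_
  rintro _ ⟨_, ⟨b', hb', rfl⟩, rfl⟩
  exact ⟨jB b', hb', hcomm b'⟩

/-- transfer of isolatedness in the fibre -/
theorem isOpen_singleton_fiber_of_square {SB SA X Y : Type*} [TopologicalSpace SB]
    [TopologicalSpace SA] [TopologicalSpace X] [TopologicalSpace Y] (f : X → Y) (g : SB → SA)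
    (jB : SB → X) (jA : SA → Y) (hjB : Continuous jB) (hjBi : Function.Injective jB)
    (hcomm : ∀ b, f (jB b) = jA (g b)) (b : SB)
    (h : nhdsWithin (jB b) (f ⁻¹' {f (jB b)}) = pure (jB b)) :
    IsOpen (X := g ⁻¹' {g b}) {⟨b, rfl⟩} := by
  have h1 : ({jB b} : Set X) ∈ nhdsWithin (jB b) (f ⁻¹' {f (jB b)}) := by
    rw [h]; exact Filter.mem_pure.mpr rfl
  obtain ⟨N, hNo, hbN, hN⟩ := mem_nhdsWithin.mp h1
  have h2 : ({⟨b, rfl⟩} : Set (g ⁻¹' {g b})) = Subtype.val ⁻¹' (jB ⁻¹' N) := by
    ext ⟨b', hb'⟩
    simp only [Set.mem_singleton_iff, Subtype.mk.injEq, Set.mem_preimage]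
    constructor
    · rintro rfl; exact hbN
    · intro hb'N
      have h3 : jB b' ∈ N ∩ f ⁻¹' {f (jB b)} := by
        refine ⟨hb'N, ?_⟩
        simp only [Set.mem_preimage, Set.mem_singleton_iff]
        rw [hcomm, hcomm]
        exact congrArg jA hb'
      exact hjBi (hN h3)
  rw [h2]
  exact (hNo.preimage hjB).preimage continuous_subtype_val

theorem isUnibranch_of_ideal_eq {A : Type u} [CommRing A] (p p' : Ideal A) [p.IsPrime]
    [p'.IsPrime] (h : p = p') (hu : CAlg2.IsUnibranch (Localization.AtPrime p)) :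
    CAlg2.IsUnibranch (Localization.AtPrime p') := by
  subst h
  exact hu

/-- **quasi-finite over a unibranch point**: ring level, domains. -/
theorem isOpenAt_comap_of_quasiFiniteAt (A B : Type u) [CommRing A] [IsDomain A] [CommRing B]
    [IsDomain B] [Algebra A B] (hinj : Function.Injective (algebraMap A B))
    [Algebra.FiniteType A B] (q : PrimeSpectrum B) [Algebra.QuasiFiniteAt A q.asIdeal]
    (hu : CAlg2.IsUnibranch (Localization.AtPrime (q.asIdeal.comap (algebraMap A B)))) :
    EGA43.IsOpenAt (PrimeSpectrum.comap (algebraMap A B)) q := by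
  have hZ := Algebra.ZariskisMainProperty.of_finiteType (R := A) q.asIdeal
  obtain ⟨r, hrq, hrint, hr⟩ := Algebra.zariskisMainProperty_iff.mp hZ
  have hinj' : Function.Injective (algebraMap A (integralClosure A B)) := by
    intro x y hxy
    apply hinj
    exact congrArg Subtype.val hxy
  haveI : Algebra.IsIntegral A (integralClosure A B) := inferInstance
  haveI : IsDomain (integralClosure A B) := inferInstance
  let q' : PrimeSpectrum (integralClosure A B) :=
    PrimeSpectrum.comap (algebraMap (integralClosure A B) B) q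
  have h1 : EGA43.IsOpenAt (PrimeSpectrum.comap (algebraMap A (integralClosure A B))) q' := by
    refine isOpenAt_comap_of_isUnibranch A (integralClosure A B) hinj' q' ?_
    exact isUnibranch_of_ideal_eq _ _ rfl hu
  have h2 : EGA43.IsOpenAt (PrimeSpectrum.comap (algebraMap (integralClosure A B) B)) q := by
    intro U hU
    obtain ⟨_, ⟨b, rfl⟩, hqb, hbU⟩ :=
      (PrimeSpectrum.isTopologicalBasis_basic_opens.mem_nhds_iff).mp hU
    obtain ⟨m, hm⟩ := hr b
    let c : integralClosure A B := ⟨r, hrint⟩ * ⟨r ^ m * b, hm⟩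
    have hqc : q' ∈ (PrimeSpectrum.basicOpen c : Set (PrimeSpectrum (integralClosure A B))) := by
      show c ∉ q'.asIdeal
      intro hc
      have hc' : r * (r ^ m * b) ∈ q.asIdeal := hc
      rcases q.2.mem_or_mem hc' with h | h
      · exact hrq h
      · rcases q.2.mem_or_mem h with h | h
        · exact hrq (q.2.mem_of_pow_mem _ h)
        · exact hqb h
    refine Filter.mem_of_superset ((PrimeSpectrum.basicOpen c).isOpen.mem_nhds hqc) ?_
    intro a ha
    have hca : c ∉ a.asIdeal := ha
    have hra : (⟨r, hrint⟩ : integralClosure A B) ∉ a.asIdeal := fun h =>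
      hca (a.asIdeal.mul_mem_right _ h)
    obtain ⟨Q, hQ, hQa⟩ := UniOpenH8.exists_prime_over r hrint hr a.asIdeal hra
    refine ⟨⟨Q, hQ⟩, hbU ?_, PrimeSpectrum.ext hQa⟩
    show b ∉ Q
    intro hbQ
    apply hca
    have : r * (r ^ m * b) ∈ Q := Q.mul_mem_left _ (Q.mul_mem_left _ hbQ)
    rw [← hQa]
    exact this
  have h3 := isOpenAt_comp _ _ q h2 h1
  have h4 : PrimeSpectrum.comap (algebraMap A B) =
      PrimeSpectrum.comap (algebraMap A (integralClosure A B)) ∘
        PrimeSpectrum.comap (algebraMap (integralClosure A B) B) := by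
    funext Q
    rfl
  rw [h4]
  exact h3

end Groth.Agent.Lib.UnibrOpenH8
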