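import Mathlib
import Groth.Prelude
import Groth.Agent.Lib.UnibrOpen4_helper8
import Groth.Agent.Lib.UniOpen1_helper8

/-!
# Openness at quasi-finite points over a unibranch base, part 5: passing to reductions (helper8)
APPEND-ONLY once landed.
-/

set_option autoImplicit false
set_option linter.all false
set_option maxHeartbeats 1600000

universe u

open Polynomial IsLocalRing Topology

namespace Groth.Agent.Lib.UnibrOpenH8

/-- unibranchness only depends on the reduction: it passes along a surjection with nil kernel -/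
theorem isUnibranch_of_surjective_of_ker_le_nilradical {R S : Type u} [CommRing R] [CommRing S]
    [IsLocalRing R] [IsLocalRing S] (g : R →+* S) (hg : Function.Surjective g)
    (hker : RingHom.ker g ≤ nilradical R) (h : CAlg2.IsUnibranch R) : CAlg2.IsUnibranch S := by
  obtain ⟨hdom, hloc⟩ := h
  have hle : nilradical R ≤ (nilradical S).comap g := by
    intro x hx
    rw [Ideal.mem_comap, mem_nilradical]
    exact (mem_nilradical.mp hx).map g
  let φ : (R ⧸ nilradical R) →+* (S ⧸ nilradical S) := Ideal.quotientMap (nilradical S) g hle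
  have hφ : Function.Bijective φ := by
    constructor
    · rw [injective_iff_map_eq_zero]
      intro x hx
      obtain ⟨r, rfl⟩ := Ideal.Quotient.mk_surjective x
      rw [Ideal.quotientMap_mk, Ideal.Quotient.eq_zero_iff_mem, mem_nilradical] at hx
      obtain ⟨n, hn⟩ := hx
      rw [Ideal.Quotient.eq_zero_iff_mem, mem_nilradical]
      have h1 : r ^ n ∈ RingHom.ker g := by rw [RingHom.mem_ker, map_pow]; exact hn
      obtain ⟨k, hk⟩ := mem_nilradical.mp (hker h1)
      exact ⟨n * k, by rw [pow_mul]; exact hk⟩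
    · exact Ideal.quotientMap_surjective hg
  let e' : (R ⧸ nilradical R) ≃+* (S ⧸ nilradical S) := RingEquiv.ofBijective φ hφ
  haveI := hdom
  haveI hdom' : IsDomain (S ⧸ nilradical S) := e'.symm.toMulEquiv.isDomain
  exact ⟨hdom', UniOpenH8.isLocalRing_integralClosure_of_ringEquiv e' hloc⟩

/-- localization at a prime of the reduction. -/
theorem isUnibranch_localization_quotient_nilradical (A₀ : Type u) [CommRing A₀]
    (p : Ideal (A₀ ⧸ nilradical A₀)) [p.IsPrime] (p₀ : Ideal A₀) [p₀.IsPrime]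
    (hp : p₀ = p.comap (Ideal.Quotient.mk (nilradical A₀)))
    (hu : CAlg2.IsUnibranch (Localization.AtPrime p₀)) :
    CAlg2.IsUnibranch (Localization.AtPrime p) := by
  refine isUnibranch_of_surjective_of_ker_le_nilradical
    (Localization.localRingHom p₀ p (Ideal.Quotient.mk (nilradical A₀)) hp) ?_ ?_ hu
  · subst hp
    exact RingHom.surjectiveOnStalks_of_surjective Ideal.Quotient.mk_surjective p inferInstance
  · intro x hx
    rw [RingHom.mem_ker] at hx
    obtain ⟨a, s, rfl⟩ := IsLocalization.exists_mk'_eq p₀.primeCompl x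
    rw [Localization.localRingHom_mk', IsLocalization.mk'_eq_zero_iff] at hx
    obtain ⟨⟨t, ht⟩, hta⟩ := hx
    obtain ⟨t₀, rfl⟩ := Ideal.Quotient.mk_surjective t
    have ht₀ : t₀ ∈ p₀.primeCompl := by
      intro h
      apply ht
      rw [hp] at h
      exact h
    have h1 : t₀ * a ∈ nilradical A₀ := by
      rw [← Ideal.Quotient.eq_zero_iff_mem, map_mul]
      exact hta
    obtain ⟨n, hn⟩ := mem_nilradical.mp h1
    rw [mem_nilradical]
    refine ⟨n, ?_⟩
    rw [← IsLocalization.mk'_pow, IsLocalization.mk'_eq_zero_iff]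
    refine ⟨⟨t₀, ht₀⟩ ^ n, ?_⟩
    show t₀ ^ n * a ^ n = 0
    rw [← mul_pow]
    exact hn

theorem isHomeomorph_comap_quotient_nilradical (R : Type u) [CommRing R] :
    IsHomeomorph (PrimeSpectrum.comap (Ideal.Quotient.mk (nilradical R))) := by
  rw [isHomeomorph_iff_isEmbedding_surjective]
  refine ⟨(PrimeSpectrum.isClosedEmbedding_comap_of_surjective _ _
    Ideal.Quotient.mk_surjective).isEmbedding, ?_⟩
  rw [← Set.range_eq_univ, _root_.range_comap_of_surjective _ _ Ideal.Quotient.mk_surjective,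
    Ideal.mk_ker]
  ext x
  simp only [PrimeSpectrum.mem_zeroLocus, Set.mem_univ, iff_true]
  exact nilradical_le_prime x.asIdeal

/-- **quasi-finite over a unibranch point**: ring level, irreducible spectra. -/
theorem isOpenAt_comap_of_isolated (A₀ B₀ : Type u) [CommRing A₀] [CommRing B₀] [Algebra A₀ B₀]
    [Algebra.FiniteType A₀ B₀] (hA : (nilradical A₀).IsPrime) (hB : (nilradical B₀).IsPrime)
    (hker : RingHom.ker (algebraMap A₀ B₀) ≤ nilradical A₀) (q₀ : PrimeSpectrum B₀)
    (hiso : nhdsWithin q₀ (PrimeSpectrum.comap (algebraMap A₀ B₀) ⁻¹'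
      {PrimeSpectrum.comap (algebraMap A₀ B₀) q₀}) = pure q₀)
    (hu : CAlg2.IsUnibranch (Localization.AtPrime (q₀.asIdeal.comap (algebraMap A₀ B₀)))) :
    EGA43.IsOpenAt (PrimeSpectrum.comap (algebraMap A₀ B₀)) q₀ := by
  haveI := hA
  haveI := hB
  have hle : nilradical A₀ ≤ (nilradical B₀).comap (algebraMap A₀ B₀) := by
    intro x hx
    rw [Ideal.mem_comap, mem_nilradical]
    exact (mem_nilradical.mp hx).map _
  letI : Algebra (A₀ ⧸ nilradical A₀) (B₀ ⧸ nilradical B₀) :=
    (Ideal.quotientMap (nilradical B₀) (algebraMap A₀ B₀) hle).toAlgebra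
  haveI : IsScalarTower A₀ (A₀ ⧸ nilradical A₀) (B₀ ⧸ nilradical B₀) :=
    IsScalarTower.of_algebraMap_eq (fun x => rfl)
  haveI : Algebra.FiniteType A₀ (B₀ ⧸ nilradical B₀) :=
    Algebra.FiniteType.of_surjective (Ideal.Quotient.mkₐ A₀ (nilradical B₀))
      (Ideal.Quotient.mkₐ_surjective A₀ _)
  haveI : Algebra.FiniteType (A₀ ⧸ nilradical A₀) (B₀ ⧸ nilradical B₀) :=
    Algebra.FiniteType.of_restrictScalars_finiteType A₀ _ _
  have hinj : Function.Injective (algebraMap (A₀ ⧸ nilradical A₀) (B₀ ⧸ nilradical B₀)) := by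
    rw [injective_iff_map_eq_zero]
    intro x hx
    obtain ⟨a, rfl⟩ := Ideal.Quotient.mk_surjective x
    have hx' : Ideal.Quotient.mk (nilradical B₀) (algebraMap A₀ B₀ a) = 0 := hx
    rw [Ideal.Quotient.eq_zero_iff_mem, mem_nilradical] at hx'
    obtain ⟨n, hn⟩ := hx'
    rw [Ideal.Quotient.eq_zero_iff_mem, mem_nilradical]
    have h1 : a ^ n ∈ RingHom.ker (algebraMap A₀ B₀) := by
      rw [RingHom.mem_ker, map_pow]; exact hn
    obtain ⟨k, hk⟩ := mem_nilradical.mp (hker h1)
    exact ⟨n * k, by rw [pow_mul]; exact hk⟩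
  have hB' := isHomeomorph_comap_quotient_nilradical B₀
  have hA' := isHomeomorph_comap_quotient_nilradical A₀
  obtain ⟨q, rfl⟩ := hB'.surjective q₀
  have hcomm : ∀ b, PrimeSpectrum.comap (algebraMap A₀ B₀)
      (PrimeSpectrum.comap (Ideal.Quotient.mk (nilradical B₀)) b) =
      PrimeSpectrum.comap (Ideal.Quotient.mk (nilradical A₀))
        (PrimeSpectrum.comap (algebraMap (A₀ ⧸ nilradical A₀) (B₀ ⧸ nilradical B₀)) b) := by
    intro b
    rfl
  have hopen := isOpen_singleton_fiber_of_square (PrimeSpectrum.comap (algebraMap A₀ B₀))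
    (PrimeSpectrum.comap (algebraMap (A₀ ⧸ nilradical A₀) (B₀ ⧸ nilradical B₀)))
    (PrimeSpectrum.comap (Ideal.Quotient.mk (nilradical B₀)))
    (PrimeSpectrum.comap (Ideal.Quotient.mk (nilradical A₀))) hB'.continuous hB'.injective hcomm q
    hiso
  haveI : Algebra.QuasiFiniteAt (A₀ ⧸ nilradical A₀) q.asIdeal :=
    Algebra.QuasiFiniteAt.of_isOpen_singleton_fiber q hopen
  have hu' : CAlg2.IsUnibranch (Localization.AtPrime
      (q.asIdeal.comap (algebraMap (A₀ ⧸ nilradical A₀) (B₀ ⧸ nilradical B₀)))) :=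
    isUnibranch_localization_quotient_nilradical A₀ _ _ rfl hu
  have h := isOpenAt_comap_of_quasiFiniteAt (A₀ ⧸ nilradical A₀) (B₀ ⧸ nilradical B₀) hinj q hu'
  exact isOpenAt_of_openEmbedding_square (PrimeSpectrum.comap (algebraMap A₀ B₀))
    (PrimeSpectrum.comap (algebraMap (A₀ ⧸ nilradical A₀) (B₀ ⧸ nilradical B₀)))
    (PrimeSpectrum.comap (Ideal.Quotient.mk (nilradical B₀)))
    (PrimeSpectrum.comap (Ideal.Quotient.mk (nilradical A₀))) hB'.continuous hA'.isOpenMap hcomm q h

end Groth.Agent.Lib.UnibrOpenH8
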