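import Mathlib
import Groth.Prelude
import Groth.Agent.Lib.UnibrOpen5_helper8

/-!
# Openness at quasi-finite points over a unibranch base, part 6: schemes (helper8)
APPEND-ONLY once landed.
-/

set_option autoImplicit false
set_option linter.all false
set_option maxHeartbeats 1600000

universe u

open Polynomial IsLocalRing Topology AlgebraicGeometry CategoryTheory

namespace Groth.Agent.Lib.UnibrOpenH8

/-- transfer of isolatedness in the fibre, filter form -/
theorem nhdsWithin_fiber_eq_pure_of_square {SB SA X Y : Type*} [TopologicalSpace SB]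
    [TopologicalSpace SA] [TopologicalSpace X] [TopologicalSpace Y] (f : X → Y) (g : SB → SA)
    (jB : SB → X) (jA : SA → Y) (hjB : Continuous jB) (hjBi : Function.Injective jB)
    (hcomm : ∀ b, f (jB b) = jA (g b)) (b : SB)
    (h : nhdsWithin (jB b) (f ⁻¹' {f (jB b)}) = pure (jB b)) :
    nhdsWithin b (g ⁻¹' {g b}) = pure b := by
  apply le_antisymm _ (pure_le_nhdsWithin (show b ∈ g ⁻¹' {g b} from rfl))
  rw [Filter.le_pure_iff]
  have h1 : ({jB b} : Set X) ∈ nhdsWithin (jB b) (f ⁻¹' {f (jB b)}) := by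
    rw [h]; exact Filter.mem_pure.mpr rfl
  obtain ⟨N, hNo, hbN, hN⟩ := mem_nhdsWithin.mp h1
  rw [mem_nhdsWithin]
  refine ⟨jB ⁻¹' N, hNo.preimage hjB, hbN, ?_⟩
  rintro b' ⟨hb'N, hb'⟩
  have h3 : jB b' ∈ N ∩ f ⁻¹' {f (jB b)} := by
    refine ⟨hb'N, ?_⟩
    simp only [Set.mem_preimage, Set.mem_singleton_iff]
    rw [hcomm, hcomm]
    exact congrArg jA hb'
  exact hjBi (hN h3)

/-- a nonempty space openly embedded in a preirreducible space is irreducible -/
theorem irreducibleSpace_of_isOpenMap_injective {S X : Type*} [TopologicalSpace S]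
    [TopologicalSpace X] [PreirreducibleSpace X] [Nonempty S] (j : S → X) (hj : IsOpenMap j)
    (hji : Function.Injective j) : IrreducibleSpace S := by
  haveI : PreirreducibleSpace S := by
    refine ⟨?_⟩
    rintro u v hu hv ⟨a, -, hau⟩ ⟨b, -, hbv⟩
    obtain ⟨y, ⟨a', ha', rfl⟩, ⟨b', hb', hab⟩⟩ :=
      nonempty_preirreducible_inter (hj u hu) (hj v hv) ⟨j a, a, hau, rfl⟩ ⟨j b, b, hbv, rfl⟩
    have := hji hab
    subst this
    exact ⟨_, Set.mem_univ _, ha', hb'⟩
  exact ⟨inferInstance⟩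

/-- dominance passes to open pieces of an irreducible source -/
theorem denseRange_of_square {SB SA X Y : Type*} [TopologicalSpace SB]
    [TopologicalSpace SA] [TopologicalSpace X] [TopologicalSpace Y] [PreirreducibleSpace X]
    [Nonempty SB] (f : X → Y) (g : SB → SA)
    (jB : SB → X) (jA : SA → Y) (hf : Continuous f) (hjB : IsOpenMap jB) (hjA : IsOpenMap jA)
    (hjAi : Function.Injective jA) (hcomm : ∀ b, f (jB b) = jA (g b)) (hd : DenseRange f) :
    DenseRange g := by
  rw [DenseRange, dense_iff_inter_open]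
  intro O hO ⟨a, ha⟩
  have h1 : IsOpen (f ⁻¹' (jA '' O)) := (hjA O hO).preimage hf
  have h2 : (f ⁻¹' (jA '' O)).Nonempty := by
    obtain ⟨_, hy, ⟨x, rfl⟩⟩ := (dense_iff_inter_open.mp hd) (jA '' O) (hjA O hO) ⟨jA a, a, ha, rfl⟩
    exact ⟨x, hy⟩
  have h3 : IsOpen (Set.range jB) := hjB.isOpen_range
  obtain ⟨_, ⟨a', ha', ha'eq⟩, ⟨b, rfl⟩⟩ :=
    nonempty_preirreducible_inter h1 h3 h2 (Set.range_nonempty jB)
  rw [hcomm] at ha'eq
  have := hjAi ha'eq
  subst this
  exact ⟨g b, ha', b, rfl⟩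

/-- **EGA IV 14.4.1.2-3, scheme form**: a dominant morphism locally of finite type of irreducible
schemes is open at the points isolated in their fibre lying over unibranch points. -/
theorem isOpenAt_of_isolated_of_isUnibranch (X Y : Scheme.{u}) (f : X ⟶ Y) [IrreducibleSpace X]
    [IrreducibleSpace Y] [LocallyOfFiniteType f] (hd : DenseRange f.base) (x : X)
    (hiso : nhdsWithin x (f.base ⁻¹' {f.base x}) = pure x)
    (hu : CAlg2.IsUnibranch (Y.presheaf.stalk (f.base x))) : EGA43.IsOpenAt f.base x := by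
  obtain ⟨_, ⟨V, hV, rfl⟩, hxV, -⟩ := Y.isBasis_affineOpens.exists_subset_of_mem_open
    (Set.mem_univ (f x)) isOpen_univ
  obtain ⟨_, ⟨U, hU, rfl⟩, hxU, hUV : U ≤ f ⁻¹ᵁ V⟩ :=
    X.isBasis_affineOpens.exists_subset_of_mem_open hxV (f ⁻¹ᵁ V).2
  have hft : (f.appLE V U hUV).hom.FiniteType := f.finiteType_appLE hV hU hUV
  algebraize [(f.appLE V U hUV).hom]
  -- the square
  have hsq : Spec.map (f.appLE V U hUV) ≫ hV.fromSpec = hU.fromSpec ≫ f :=
    IsAffineOpen.SpecMap_appLE_fromSpec f hV hU hUV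
  have hcomm : ∀ b : PrimeSpectrum Γ(X, U), f.base (hU.fromSpec.base b) =
      hV.fromSpec.base (PrimeSpectrum.comap (algebraMap Γ(Y, V) Γ(X, U)) b) := by
    intro b
    have := congrArg (fun h => h.base b) hsq
    exact this.symm
  have hjB : IsOpenEmbedding hU.fromSpec.base := hU.fromSpec.isOpenEmbedding
  have hjA : IsOpenEmbedding hV.fromSpec.base := hV.fromSpec.isOpenEmbedding
  set q₀ : PrimeSpectrum Γ(X, U) := hU.primeIdealOf ⟨x, hxU⟩ with hq₀
  have hxq : hU.fromSpec.base q₀ = x := hU.fromSpec_primeIdealOf ⟨x, hxU⟩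
  haveI : Nonempty (PrimeSpectrum Γ(X, U)) := ⟨q₀⟩
  haveI : Nonempty (PrimeSpectrum Γ(Y, V)) := ⟨hV.primeIdealOf ⟨f x, hxV⟩⟩
  have hB : (nilradical Γ(X, U)).IsPrime :=
    PrimeSpectrum.irreducibleSpace_iff_isPrime_nilradical.mp
      (irreducibleSpace_of_isOpenMap_injective _ hjB.isOpenMap hjB.injective)
  have hA : (nilradical Γ(Y, V)).IsPrime :=
    PrimeSpectrum.irreducibleSpace_iff_isPrime_nilradical.mp
      (irreducibleSpace_of_isOpenMap_injective _ hjA.isOpenMap hjA.injective)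
  have hker : RingHom.ker (algebraMap Γ(Y, V) Γ(X, U)) ≤ nilradical Γ(Y, V) :=
    (PrimeSpectrum.denseRange_comap_iff_ker_le_nilRadical _).mp
      (denseRange_of_square f.base _ hU.fromSpec.base hV.fromSpec.base f.continuous
        hjB.isOpenMap hjA.isOpenMap hjA.injective hcomm hd)
  have hiso' : nhdsWithin q₀ (PrimeSpectrum.comap (algebraMap Γ(Y, V) Γ(X, U)) ⁻¹'
      {PrimeSpectrum.comap (algebraMap Γ(Y, V) Γ(X, U)) q₀}) = pure q₀ := by
    refine nhdsWithin_fiber_eq_pure_of_square f.base _ hU.fromSpec.base hV.fromSpec.base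
      hjB.continuous hjB.injective hcomm q₀ ?_
    rw [hxq]
    exact hiso
  have hp : q₀.asIdeal.comap (algebraMap Γ(Y, V) Γ(X, U)) =
      (hV.primeIdealOf ⟨f x, hxV⟩).asIdeal :=
    congrArg PrimeSpectrum.asIdeal (IsAffineOpen.comap_primeIdealOf_appLE V hV U hU hUV hxU)
  have hu' : CAlg2.IsUnibranch
      (Localization.AtPrime (q₀.asIdeal.comap (algebraMap Γ(Y, V) Γ(X, U)))) := by
    letI := Y.presheaf.algebra_section_stalk ⟨f x, hxV⟩
    haveI := hV.isLocalization_stalk ⟨f x, hxV⟩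
    have e := IsLocalization.algEquiv (hV.primeIdealOf ⟨f x, hxV⟩).asIdeal.primeCompl
      (Y.presheaf.stalk (f x)) (Localization.AtPrime (hV.primeIdealOf ⟨f x, hxV⟩).asIdeal)
    have h1 := UniOpenH8.isUnibranch_of_ringEquiv e.toRingEquiv hu
    exact isUnibranch_of_ideal_eq _ _ hp.symm h1
  have h := isOpenAt_comap_of_isolated Γ(Y, V) Γ(X, U) hA hB hker q₀ hiso' hu'
  have h2 := isOpenAt_of_openEmbedding_square f.base _ hU.fromSpec.base hV.fromSpec.base
    hjB.continuous hjA.isOpenMap hcomm q₀ h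
  rw [hxq] at h2
  exact h2

end Groth.Agent.Lib.UnibrOpenH8
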