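import Mathlib
import Groth.Prelude
import Groth.Agent.Lib.UnibrOpen6_helper8
import Groth.Agent.Lib.EquidimAt2_helper8
import Groth.Agent.Lib.EquidimIrr_helper8
import Groth.Agent.Lib.FieldExt3_helper8
import Groth.Agent.Lib.UO4_helper8
import Groth.Agent.S4936

/-!
# Chevalley's criterion for universal openness without Noetherian hypotheses, irreducible case
(helper8)
APPEND-ONLY once landed.
-/

set_option autoImplicit false
set_option linter.all false
set_option maxHeartbeats 1600000

universe u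

open AlgebraicGeometry CategoryTheory Limits Topology

namespace Groth.Agent.Lib.NNChevH8

open Groth.Agent.Lib.UnibrOpenH8

theorem nhdsWithin_eq_pure_of_isOpen_singleton {T : Type*} [TopologicalSpace T] (s : Set T) (a : T)
    (ha : a ∈ s) (h : IsOpen ({⟨a, ha⟩} : Set s)) : nhdsWithin a s = pure a := by
  rw [nhdsWithin_eq_map_subtype_coe ha, (isOpen_singleton_iff_nhds_eq_pure _).mp h, Filter.map_pure]

/-- maximal points of an irreducible scheme map to maximal points under a dominant map -/
theorem isMax_map_of_denseRange {X Y : Scheme.{u}} [IrreducibleSpace X] (f : X ⟶ Y)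
    (hd : DenseRange f.base) (ζ : X) (hζ : ∀ z : X, z ⤳ ζ → z = ζ) :
    ∀ b : Y, b ⤳ f.base ζ → b = f.base ζ := by
  have h1 : genericPoint X = ζ := hζ _ (genericPoint_specializes ζ)
  have h2 : closure {ζ} = (Set.univ : Set X) := by
    rw [← h1]; exact genericPoint_spec X
  have h3 : closure {f.base ζ} = (Set.univ : Set Y) := by
    have h4 : f.base '' closure {ζ} ⊆ closure (f.base '' {ζ}) :=
      image_closure_subset_closure_image f.continuous
    rw [h2, Set.image_univ, Set.image_singleton] at h4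
    exact Set.eq_univ_of_univ_subset (hd.closure_eq ▸ closure_minimal h4 isClosed_closure)
  intro b hb
  have h5 : f.base ζ ⤳ b := by
    rw [specializes_iff_mem_closure, h3]; exact Set.mem_univ _
  exact (hb.antisymm h5).eq

/-- **Chevalley's criterion, openness**: irreducible source and base, constant fibre dimension. -/
theorem isOpenMap_of_fibreDimAt_const {X Y : Scheme.{u}} [IrreducibleSpace X] [IrreducibleSpace Y]
    (hY : ∀ y : Y, CAlg2.IsGeomUnibranch (Y.presheaf.stalk y)) (f : X ⟶ Y)
    [LocallyOfFiniteType f] (hd : DenseRange f.base) (e : ℕ)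
    (h : ∀ x : X, FlatMor.fibreDimAt f x = e) : IsOpenMap f.base := by
  apply IsOpenMap.of_nhds_le
  intro x
  rw [Filter.le_map_iff]
  intro N hN
  obtain ⟨U, g, hxU, -, hg, hlqf⟩ :=
    Groth.Agent.Lib.EquidimAtH8.exists_lqf_to_affineSpace f x e ⊤ trivial (fun u _ => h u)
  haveI := hlqf
  let x₁ : (U : Scheme.{u}) := ⟨x, hxU⟩
  haveI : Nonempty (U : Scheme.{u}) := ⟨x₁⟩
  haveI : IrreducibleSpace (U : Scheme.{u}) :=
    irreducibleSpace_of_isOpenMap_injective U.ι.base U.ι.isOpenEmbedding.isOpenMap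
      U.ι.isOpenEmbedding.injective
  haveI : LocallyOfFiniteType (g ≫ (𝔸(ULift.{u} (Fin e); Y) ↘ Y)) := by rw [hg]; infer_instance
  haveI : LocallyOfFiniteType g := locallyOfFiniteType_of_comp g (𝔸(ULift.{u} (Fin e); Y) ↘ Y)
  have hpt : ∀ u : (U : Scheme.{u}),
      (𝔸(ULift.{u} (Fin e); Y) ↘ Y).base (g.base u) = f.base (U.ι.base u) := fun u =>
    congrArg (fun k : (U : Scheme.{u}) ⟶ Y => k.base u) hg
  -- `g` is dominant
  have hgd : DenseRange g.base := by
    have huniv : (Set.univ : Set (U : Scheme.{u})) ∈ irreducibleComponents (U : Scheme.{u}) := by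
      rw [irreducibleComponents_eq_singleton]; rfl
    have h1 := Groth.Agent.Lib.EquidimAtH8.closure_image_mem_irreducibleComponents (U.ι ≫ f) e g hg
      (fun ζ _ => by
        rw [Groth.Agent.Lib.EquidimAtH8.fibreDimAt_ι_comp]; exact h _)
      (fun ζ hζ => by
        have h2 := isMax_map_of_denseRange f hd (U.ι.base ζ)
          ((Groth.Agent.Lib.EquidimAtH8.isMax_ι_iff U ζ).mp hζ)
        exact h2)
      Set.univ huniv
    rw [irreducibleComponents_eq_singleton, Set.mem_singleton_iff, Set.image_univ] at h1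
    rw [DenseRange, dense_iff_closure_eq]
    exact h1
  -- `x₁` is isolated in its fibre
  have hiso : nhdsWithin x₁ (g.base ⁻¹' {g.base x₁}) = pure x₁ := by
    have h1 : IsOpen {g.asFiber x₁} :=
      Scheme.Hom.quasiFiniteAt_iff_isOpen_singleton_asFiber.mp (g.quasiFiniteAt x₁)
    rw [← (g.fiberHomeo (g x₁)).isOpen_image] at h1
    simp only [Set.image_singleton, Scheme.Hom.asFiber, Homeomorph.apply_symm_apply] at h1
    exact nhdsWithin_eq_pure_of_isOpen_singleton _ x₁ rfl h1
  have hu : CAlg2.IsUnibranch ((𝔸(ULift.{u} (Fin e); Y)).presheaf.stalk (g.base x₁)) :=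
    (Groth.Agent.S4936.result e (g.base x₁) (hY _)).1
  have hopen := isOpenAt_of_isolated_of_isUnibranch (U : Scheme.{u}) _ g hgd x₁ hiso hu
  have h1 : U.ι.base ⁻¹' N ∈ nhds x₁ := U.ι.continuous.continuousAt hN
  have h2 := hopen _ h1
  have h3 := (AffineSpace.isOpenMap_over (n := ULift.{u} (Fin e)) (S := Y)).image_mem_nhds h2
  have h4 : (𝔸(ULift.{u} (Fin e); Y) ↘ Y).base (g.base x₁) = f.base x := hpt x₁
  rw [h4] at h3
  refine Filter.mem_of_superset h3 ?_
  rintro _ ⟨_, ⟨u, hu', rfl⟩, rfl⟩
  exact ⟨U.ι.base u, hu', (hpt u).symm⟩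

end Groth.Agent.Lib.NNChevH8
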