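import Mathlib
import Groth.Prelude
import Groth.Agent.Lib.NNChev1_helper8

/-!
# Chevalley's criterion for universal openness without Noetherian hypotheses, part 2 (helper8)
APPEND-ONLY once landed.
-/

set_option autoImplicit false
set_option linter.all false
set_option maxHeartbeats 1600000

universe u

open AlgebraicGeometry CategoryTheory Limits Topology

namespace Groth.Agent.Lib.NNChevH8

open Groth.Agent.Lib.UnibrOpenH8

/-- dominance is stable under base change along an open map -/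
theorem denseRange_of_isPullback {P X Y Z : Scheme.{u}} {fst : P ⟶ X} {snd : P ⟶ Z}
    {f : X ⟶ Y} {g : Z ⟶ Y} (hpb : IsPullback fst snd f g) (hg : IsOpenMap g.base)
    (hd : DenseRange f.base) : DenseRange snd.base := by
  rw [DenseRange, dense_iff_inter_open]
  intro O hO ⟨a, ha⟩
  obtain ⟨_, ⟨o, hoO, rfl⟩, ⟨x, hx⟩⟩ :=
    (dense_iff_inter_open.mp hd) (g.base '' O) (hg O hO) ⟨g.base a, a, ha, rfl⟩
  obtain ⟨z, hz1, hz2⟩ := Scheme.Pullback.exists_preimage_pullback x o hx
  let e := hpb.isoPullback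
  refine ⟨o, hoO, e.inv.base z, ?_⟩
  have : e.inv ≫ snd = pullback.snd f g := hpb.isoPullback_inv_snd
  rw [← hz2, ← this]
  rfl

/-- **Chevalley's criterion** (EGA IV 14.4.4) for irreducible source and base, no Noetherian
hypotheses. -/
theorem universallyOpen_of_fibreDimAt_const {X Y : Scheme.{u}} [IrreducibleSpace X]
    [IrreducibleSpace Y] (hY : ∀ y : Y, CAlg2.IsGeomUnibranch (Y.presheaf.stalk y)) (f : X ⟶ Y)
    [LocallyOfFiniteType f] (hd : DenseRange f.base) (e : ℕ)
    (h : ∀ x : X, FlatMor.fibreDimAt f x = e) : UniversallyOpen f := by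
  apply UOH8.universallyOpen_of_affineSpace f
  intro d _
  have hpb : IsPullback (pullback.fst f (𝔸(ULift.{u} (Fin d); Y) ↘ Y))
      (pullback.snd f (𝔸(ULift.{u} (Fin d); Y) ↘ Y)) f (𝔸(ULift.{u} (Fin d); Y) ↘ Y) :=
    IsPullback.of_hasPullback _ _
  -- the source is an affine space over `X`
  have hpb' : IsPullback (𝔸(ULift.{u} (Fin d); X) ↘ X) (AffineSpace.map (ULift.{u} (Fin d)) f) f
      (𝔸(ULift.{u} (Fin d); Y) ↘ Y) := (AffineSpace.isPullback_map (n := ULift.{u} (Fin d)) f).flip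
  let ε : 𝔸(ULift.{u} (Fin d); X) ≅ pullback f (𝔸(ULift.{u} (Fin d); Y) ↘ Y) := hpb'.isoPullback
  haveI : Nonempty ↥(pullback f (𝔸(ULift.{u} (Fin d); Y) ↘ Y)) :=
    ⟨ε.hom.base (Classical.arbitrary _)⟩
  haveI : IrreducibleSpace ↥(pullback f (𝔸(ULift.{u} (Fin d); Y) ↘ Y)) :=
    irreducibleSpace_of_isOpenMap_injective ε.inv.base
      (Scheme.homeoOfIso ε.symm).isOpenMap (Scheme.homeoOfIso ε.symm).injective
  refine isOpenMap_of_fibreDimAt_const (Y := 𝔸(ULift.{u} (Fin d); Y))
    (fun y' => Groth.Agent.S4936.result d y' (hY _))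
    (pullback.snd f (𝔸(ULift.{u} (Fin d); Y) ↘ Y)) ?_ e ?_
  · exact denseRange_of_isPullback hpb (AffineSpace.isOpenMap_over (n := ULift.{u} (Fin d)) (S := Y)) hd
  · intro x'
    rw [FieldExtH8.fibreDimAt_baseChange f _ _ _ hpb x']
    exact h _

end Groth.Agent.Lib.NNChevH8
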