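import Mathlib
import Groth.Prelude
import Groth.Agent.Lib.NNChev2_helper8
import Groth.Agent.Lib.UnramGU3_helper3

/-!
# Chevalley's criterion for universal openness without Noetherian hypotheses, part 3 (helper8)
APPEND-ONLY once landed.
-/

set_option autoImplicit false
set_option linter.all false
set_option maxHeartbeats 1600000

universe u

open AlgebraicGeometry CategoryTheory Limits Topology

namespace Groth.Agent.Lib.NNChevH8

open Groth.Agent.Lib.UnibrOpenH8

/-- universal openness can be tested on a jointly surjective family of morphisms to the source -/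
theorem universallyOpen_of_jointly {X S : Scheme.{u}} (f : X ⟶ S)
    (h : ∀ x : X, ∃ (T : Scheme.{u}) (j : T ⟶ X), x ∈ Set.range j.base ∧ UniversallyOpen (j ≫ f)) :
    UniversallyOpen f := by
  rw [UniversallyOpen.eq]
  intro X' S' i₁ i₂ f' hpb
  show IsOpenMap f'.base
  apply IsOpenMap.of_nhds_le
  intro x'
  rw [Filter.le_map_iff]
  intro N hN
  obtain ⟨T, j, ⟨t, ht⟩, hUO⟩ := h (i₁.base x')
  have hpb1 : IsPullback (pullback.snd j i₁) (pullback.fst j i₁) i₁ j :=
    (IsPullback.of_hasPullback j i₁).flip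
  have hpb2 : IsPullback (pullback.snd j i₁ ≫ f') (pullback.fst j i₁) i₂ (j ≫ f) :=
    hpb1.paste_horiz hpb
  have hopen : IsOpenMap (pullback.snd j i₁ ≫ f').base :=
    hUO.universally_isOpenMap _ _ _ hpb2
  obtain ⟨t', -, ht'⟩ := Scheme.Pullback.exists_preimage_pullback t x' ht
  have h1 : (pullback.snd j i₁).base ⁻¹' N ∈ nhds t' :=
    (pullback.snd j i₁).continuous.continuousAt (by rw [ht']; exact hN)
  have h2 := hopen.image_mem_nhds h1
  have h3 : (pullback.snd j i₁ ≫ f').base t' = f'.base x' := by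
    rw [← ht']; rfl
  rw [h3] at h2
  refine Filter.mem_of_superset h2 ?_
  rintro _ ⟨t'', ht'', rfl⟩
  exact ⟨(pullback.snd j i₁).base t'', ht'', rfl⟩

/-- if all local rings have prime nilradical, two irreducible components meeting in a point
coincide. -/
theorem eq_of_mem_irreducibleComponents {Y : Scheme.{u}}
    (hY : ∀ y : Y, (nilradical (Y.presheaf.stalk y)).IsPrime) (Z₁ Z₂ : Set Y)
    (h₁ : Z₁ ∈ irreducibleComponents Y) (h₂ : Z₂ ∈ irreducibleComponents Y) (y : Y)
    (hy₁ : y ∈ Z₁) (hy₂ : y ∈ Z₂) : Z₁ = Z₂ := by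
  haveI : IrreducibleSpace (Spec (Y.presheaf.stalk y)) :=
    PrimeSpectrum.irreducibleSpace_iff_isPrime_nilradical.mpr (hY y)
  have key : ∀ Z : Set Y, Z ∈ irreducibleComponents Y → y ∈ Z →
      Z = closure {(Y.fromSpecStalk y).base (genericPoint (Spec (Y.presheaf.stalk y)))} := by
    intro Z hZ hyZ
    obtain ⟨η, hη⟩ := QuasiSober.sober hZ.1 (isClosed_of_mem_irreducibleComponents Z hZ)
    have hηy : η ⤳ y := by
      rw [specializes_iff_mem_closure, hη.def]; exact hyZ
    have hηmax : ∀ z : Y, z ⤳ η → z = η :=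
      (Groth.Agent.SchFTH8.closure_mem_irreducibleComponents_iff η).mp (hη.def ▸ hZ)
    obtain ⟨ξ, hξ⟩ : η ∈ Set.range (Y.fromSpecStalk y).base := by
      rw [Scheme.range_fromSpecStalk]; exact hηy
    have h1 : (Y.fromSpecStalk y).base (genericPoint (Spec (Y.presheaf.stalk y))) ⤳ η := by
      rw [← hξ]
      exact (genericPoint_specializes ξ).map (Y.fromSpecStalk y).continuous
    rw [hηmax _ h1, hη.def]
  rw [key Z₁ h₁ hy₁, key Z₂ h₂ hy₂]

/-- finitely many irreducible components + locally irreducible ⇒ the components are open -/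
theorem isOpen_of_mem_irreducibleComponents {Y : Scheme.{u}}
    (hY : ∀ y : Y, (nilradical (Y.presheaf.stalk y)).IsPrime)
    (hfin : (irreducibleComponents (Y : Type u)).Finite) (Z : Set Y)
    (hZ : Z ∈ irreducibleComponents Y) : IsOpen Z := by
  have h1 : Zᶜ = ⋃ Z' ∈ (irreducibleComponents (Y : Type u)) \ {Z}, Z' := by
    ext y
    simp only [Set.mem_compl_iff, Set.mem_iUnion, Set.mem_diff, Set.mem_singleton_iff,
      exists_prop]
    constructor
    · intro hy
      obtain ⟨Z', hZ', hyZ'⟩ := exists_mem_irreducibleComponents_subset_of_isIrreducible {y}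
        isIrreducible_singleton
      exact ⟨Z', ⟨hZ', fun h => hy (h ▸ hyZ' rfl)⟩, hyZ' rfl⟩
    · rintro ⟨Z', ⟨hZ', hne⟩, hyZ'⟩ hyZ
      exact hne (eq_of_mem_irreducibleComponents hY Z' Z hZ' hZ y hyZ' hyZ)
  rw [← isClosed_compl_iff, h1]
  exact (hfin.subset Set.diff_subset).isClosed_biUnion
    (fun Z' hZ' => isClosed_of_mem_irreducibleComponents Z' hZ'.1)

end Groth.Agent.Lib.NNChevH8
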