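import Mathlib
import Groth.Prelude
import Groth.Agent.Lib.NNChev3_helper8

/-!
# Chevalley's criterion for universal openness without Noetherian hypotheses, part 4 (helper8)
APPEND-ONLY once landed.
-/

set_option autoImplicit false
set_option linter.all false
set_option maxHeartbeats 1600000

universe u

open AlgebraicGeometry CategoryTheory Limits Topology

namespace Groth.Agent.Lib.NNChevH8

open Groth.Agent.Lib.UnibrOpenH8

theorem preirreducibleSpace_of_isInducing {T X : Type*} [TopologicalSpace T] [TopologicalSpace X]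
    (j : T → X) (hj : IsInducing j) (h : IsPreirreducible (Set.range j)) :
    PreirreducibleSpace T := by
  refine ⟨?_⟩
  rintro u v hu hv ⟨a, -, hau⟩ ⟨b, -, hbv⟩
  obtain ⟨u', hu', rfl⟩ := hj.isOpen_iff.mp hu
  obtain ⟨v', hv', rfl⟩ := hj.isOpen_iff.mp hv
  obtain ⟨_, ⟨c, rfl⟩, hcu, hcv⟩ := h u' v' hu' hv' ⟨j a, ⟨a, rfl⟩, hau⟩ ⟨j b, ⟨b, rfl⟩, hbv⟩
  exact ⟨c, Set.mem_univ _, hcu, hcv⟩

/-- local form of Chevalley's criterion: irreducible source, base with finitely many irreducible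
components and geometrically unibranch local rings. -/
theorem exists_opens_universallyOpen {W Y : Scheme.{u}} [IrreducibleSpace W]
    (hY : ∀ y : Y, CAlg2.IsGeomUnibranch (Y.presheaf.stalk y))
    (hfin : (irreducibleComponents (Y : Type u)).Finite) (g : W ⟶ Y) [LocallyOfFiniteType g]
    (w : W) (h : EGA43.IsEquidimAt g w) :
    ∃ U₀ : W.Opens, w ∈ U₀ ∧ UniversallyOpen (U₀.ι ≫ g) := by
  obtain ⟨e, U₀, hwU₀, H1, H2⟩ := h
  have hdim : ∀ u : W, u ∈ U₀ → FlatMor.fibreDimAt g u = e := by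
    intro u hu
    have h1 := Groth.Agent.Lib.EquidimAtH8.fibreDimAt_of_equidim_fibres (U₀.ι ≫ g) e H2 ⟨u, hu⟩
    rw [Groth.Agent.Lib.EquidimAtH8.fibreDimAt_ι_comp] at h1
    exact h1
  refine ⟨U₀, hwU₀, ?_⟩
  let w₁ : (U₀ : Scheme.{u}) := ⟨w, hwU₀⟩
  haveI : Nonempty (U₀ : Scheme.{u}) := ⟨w₁⟩
  haveI : IrreducibleSpace (U₀ : Scheme.{u}) :=
    irreducibleSpace_of_isOpenMap_injective U₀.ι.base U₀.ι.isOpenEmbedding.isOpenMap
      U₀.ι.isOpenEmbedding.injective
  have huniv : (Set.univ : Set (U₀ : Scheme.{u})) ∈ irreducibleComponents (U₀ : Scheme.{u}) := by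
    rw [irreducibleComponents_eq_singleton]; rfl
  obtain ⟨W', hW', hgw, hcl⟩ := H1 Set.univ huniv
  have hnil : ∀ y : Y, (nilradical (Y.presheaf.stalk y)).IsPrime := fun y =>
    (Ideal.Quotient.isDomain_iff_prime _).mp (hY y).1.1
  have hW'o : IsOpen W' := isOpen_of_mem_irreducibleComponents hnil hfin W' hW'
  let Y₀ : Y.Opens := ⟨W', hW'o⟩
  have hrange : Set.range (U₀.ι ≫ g).base ⊆ Set.range Y₀.ι.base := by
    rw [Scheme.Opens.range_ι]
    rintro _ ⟨u, rfl⟩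
    show _ ∈ W'
    rw [← hcl]
    exact subset_closure ⟨u, Set.mem_univ _, rfl⟩
  let h₀ : (U₀ : Scheme.{u}) ⟶ (Y₀ : Scheme.{u}) := IsOpenImmersion.lift Y₀.ι (U₀.ι ≫ g) hrange
  have hh₀ : h₀ ≫ Y₀.ι = U₀.ι ≫ g := IsOpenImmersion.lift_fac _ _ _
  have hpt : ∀ u : (U₀ : Scheme.{u}), Y₀.ι.base (h₀.base u) = (U₀.ι ≫ g).base u := fun u =>
    congrArg (fun k : (U₀ : Scheme.{u}) ⟶ Y => k.base u) hh₀
  haveI : Nonempty (Y₀ : Scheme.{u}) := ⟨h₀.base w₁⟩
  haveI : IrreducibleSpace (Y₀ : Scheme.{u}) := by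
    haveI : PreirreducibleSpace (Y₀ : Scheme.{u}) := by
      apply preirreducibleSpace_of_isInducing Y₀.ι.base Y₀.ι.isOpenEmbedding.isInducing
      rw [Scheme.Opens.range_ι]
      exact hW'.1.2
    exact ⟨inferInstance⟩
  have hY₀ : ∀ y₀ : (Y₀ : Scheme.{u}), CAlg2.IsGeomUnibranch ((Y₀ : Scheme.{u}).presheaf.stalk y₀) :=
    fun y₀ => Groth.Agent.Lib.UnramGUH3.isGeomUnibranch_of_ringEquiv
      (asIso (Y₀.ι.stalkMap y₀)).commRingCatIsoToRingEquiv (hY (Y₀.ι.base y₀))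
  haveI : LocallyOfFiniteType (h₀ ≫ Y₀.ι) := by rw [hh₀]; infer_instance
  haveI : LocallyOfFiniteType h₀ := locallyOfFiniteType_of_comp h₀ Y₀.ι
  have hd : DenseRange h₀.base := by
    rw [DenseRange, dense_iff_inter_open]
    rintro O hO ⟨o, ho⟩
    have h1 : IsOpen (Y₀.ι.base '' O) := Y₀.ι.isOpenEmbedding.isOpenMap O hO
    have h2 : Y₀.ι.base o ∈ W' := by
      have : Y₀.ι.base o ∈ Set.range Y₀.ι.base := ⟨o, rfl⟩
      rw [Scheme.Opens.range_ι] at this
      exact this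
    rw [← hcl] at h2
    obtain ⟨_, ⟨o', ho', rfl⟩, ⟨u, -, hu⟩⟩ := mem_closure_iff.mp h2 _ h1 ⟨o, ho, rfl⟩
    rw [← hpt] at hu
    have := Y₀.ι.isOpenEmbedding.injective hu
    subst this
    exact ⟨_, ho', u, rfl⟩
  have hdim₀ : ∀ u : (U₀ : Scheme.{u}), FlatMor.fibreDimAt h₀ u = e := by
    intro u
    have h1 := FibCohH8.fibreDimAt_etale_local (U₀.ι ≫ g) h₀ (𝟙 _) Y₀.ι
      (by rw [hh₀, Category.id_comp]) u
    rw [← h1]
    have h2 : (𝟙 (U₀ : Scheme.{u}) : (U₀ : Scheme.{u}) ⟶ (U₀ : Scheme.{u})).base u = u := rfl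
    rw [h2, Groth.Agent.Lib.EquidimAtH8.fibreDimAt_ι_comp]
    exact hdim _ u.2
  haveI : UniversallyOpen h₀ := universallyOpen_of_fibreDimAt_const hY₀ h₀ hd e hdim₀
  rw [← hh₀]
  infer_instance

/-- **S14070** -/
theorem main14070 {X S : Scheme.{u}}
    (hS : ∀ s : S, CAlg2.IsGeomUnibranch (S.presheaf.stalk s))
    (hfin : (irreducibleComponents (S : Type u)).Finite)
    (f : X ⟶ S) [LocallyOfFiniteType f]
    (hT : ∀ x : X, ∃ W : TopologicalSpace.Closeds X, (W : Set X) ∈ irreducibleComponents (X : Type u) ∧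
      ∃ w : ↥((Scheme.IdealSheafData.vanishingIdeal W).subscheme),
        (Scheme.IdealSheafData.vanishingIdeal W).subschemeι.base w = x ∧
        EGA43.IsEquidimAt ((Scheme.IdealSheafData.vanishingIdeal W).subschemeι ≫ f) w) :
    UniversallyOpen f := by
  apply universallyOpen_of_jointly
  intro x
  obtain ⟨W, hW, w, hwx, heq⟩ := hT x
  haveI : Nonempty ↥((Scheme.IdealSheafData.vanishingIdeal W).subscheme) := ⟨w⟩
  haveI : IrreducibleSpace ↥((Scheme.IdealSheafData.vanishingIdeal W).subscheme) := by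
    haveI : PreirreducibleSpace ↥((Scheme.IdealSheafData.vanishingIdeal W).subscheme) := by
      apply preirreducibleSpace_of_isInducing
        (Scheme.IdealSheafData.vanishingIdeal W).subschemeι.base
        (Scheme.IdealSheafData.vanishingIdeal W).subschemeι.isClosedEmbedding.isInducing
      rw [Scheme.IdealSheafData.range_subschemeι,
        Scheme.IdealSheafData.coe_support_vanishingIdeal]
      exact hW.1.2
    exact ⟨inferInstance⟩
  obtain ⟨U₀, hwU₀, hUO⟩ := exists_opens_universallyOpen hS hfin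
    ((Scheme.IdealSheafData.vanishingIdeal W).subschemeι ≫ f) w heq
  refine ⟨U₀, U₀.ι ≫ (Scheme.IdealSheafData.vanishingIdeal W).subschemeι, ⟨⟨w, hwU₀⟩, hwx⟩, ?_⟩
  rw [Category.assoc]
  exact hUO

end Groth.Agent.Lib.NNChevH8
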