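import Mathlib
import Groth.Agent.Lib.FlatDesc8_helper8

/-!
# Noetherian proper flat models, part 1: flatness of base changes of affine pieces (helper8)
APPEND-ONLY once landed.
-/

set_option autoImplicit false
set_option linter.all false
set_option maxHeartbeats 1600000

universe u

open CategoryTheory AlgebraicGeometry CategoryTheory.Limits TensorProduct

namespace Groth.Agent.Lib.NPFH8

theorem flat_fst_iff (R C B : Type u) [CommRing R] [CommRing C] [CommRing B] [Algebra R C]
    [Algebra R B] :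
    Flat (pullback.fst (Spec.map (CommRingCat.ofHom (algebraMap R C)))
      (Spec.map (CommRingCat.ofHom (algebraMap R B)))) ↔ Module.Flat C (C ⊗[R] B) := by
  rw [← MorphismProperty.cancel_left_of_respectsIso (P := @Flat) (pullbackSpecIso R C B).inv,
    pullbackSpecIso_inv_fst', HasRingHomProperty.Spec_iff (P := @Flat)]
  exact RingHom.flat_algebraMap_iff

theorem flat_tensor_of_tower (R C C' M : Type u) [CommRing R] [CommRing C] [CommRing C']
    [Algebra R C] [Algebra R C'] [Algebra C C'] [IsScalarTower R C C'] [AddCommGroup M] [Module R M]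
    [Module.Flat C (C ⊗[R] M)] : Module.Flat C' (C' ⊗[R] M) := by
  have e : C' ⊗[C] (C ⊗[R] M) ≃ₗ[C'] C' ⊗[R] M :=
    TensorProduct.AlgebraTensorModule.cancelBaseChange R C C' C' M
  exact Module.Flat.of_linearEquiv e.symm

/-- an affine scheme over `Spec R₁`: its coordinate ring as an `R₁`-algebra, and the flatness
criterion for its base changes. -/
theorem exists_algebra_of_isAffine {R₁ : Type u} [CommRing R₁] {U : Scheme.{u}} [IsAffine U]
    (g : U ⟶ Spec (CommRingCat.of R₁)) :
    ∃ (B : Type u) (_ : CommRing B) (_ : Algebra R₁ B),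
      (LocallyOfFiniteType g → Algebra.FiniteType R₁ B) ∧
      ∀ (C : Type u) [CommRing C] [Algebra R₁ C],
        Flat (pullback.fst (Spec.map (CommRingCat.ofHom (algebraMap R₁ C))) g) ↔
          Module.Flat C (C ⊗[R₁] B) := by
  obtain ⟨ψ, hψ⟩ : ∃ ψ : CommRingCat.of R₁ ⟶ Γ(U, ⊤), Spec.map ψ = U.isoSpec.inv ≫ g :=
    ⟨Spec.preimage _, Spec.map_preimage _⟩
  letI : Algebra R₁ Γ(U, ⊤) := ψ.hom.toAlgebra
  have hψ' : Spec.map (CommRingCat.ofHom (algebraMap R₁ Γ(U, ⊤))) = U.isoSpec.inv ≫ g := hψ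
  refine ⟨Γ(U, ⊤), inferInstance, inferInstance, ?_, ?_⟩
  · intro hg
    haveI := hg
    have h1 : LocallyOfFiniteType (Spec.map ψ) := by rw [hψ]; infer_instance
    exact (HasRingHomProperty.Spec_iff (P := @LocallyOfFiniteType)).mp h1
  · intro C _ _
    rw [← flat_fst_iff R₁ C Γ(U, ⊤), hψ']
    have hmap : pullback.map (Spec.map (CommRingCat.ofHom (algebraMap R₁ C))) (U.isoSpec.inv ≫ g)
        (Spec.map (CommRingCat.ofHom (algebraMap R₁ C))) g (𝟙 _) U.isoSpec.inv (𝟙 _)
        (by simp) (by simp) ≫ pullback.fst (Spec.map (CommRingCat.ofHom (algebraMap R₁ C))) g =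
        pullback.fst (Spec.map (CommRingCat.ofHom (algebraMap R₁ C))) (U.isoSpec.inv ≫ g) := by
      rw [pullback.lift_fst, Category.comp_id]
    rw [← hmap, MorphismProperty.cancel_left_of_respectsIso (P := @Flat)]

theorem fg_iSup_of_finite {R A : Type*} [CommRing R] [CommRing A] [Algebra R A] {ι : Type*}
    [Finite ι] (S : ι → Subalgebra R A) (h : ∀ i, (S i).FG) : (⨆ i, S i).FG := by
  classical
  haveI := Fintype.ofFinite ι
  have key : ∀ t : Finset ι, (⨆ i ∈ t, S i).FG := by
    intro t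
    induction t using Finset.induction_on with
    | empty =>
      simp only [Finset.notMem_empty, iSup_false, iSup_bot]
      exact Subalgebra.fg_bot
    | insert a t ha ih =>
      rw [Finset.iSup_insert]
      exact (h a).sup ih
  have := key Finset.univ
  simpa using this

/-- **flatness of a base change of a finite type scheme descends to a finitely generated
subalgebra.** -/
theorem exists_fg_subalgebra_flat_scheme {R₁ A : Type u} [CommRing R₁] [IsNoetherianRing R₁]
    [CommRing A] [Algebra R₁ A] {X₁ : Scheme.{u}} (f₁ : X₁ ⟶ Spec (CommRingCat.of R₁))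
    [LocallyOfFiniteType f₁] [QuasiCompact f₁]
    (hflat : Flat (pullback.fst (Spec.map (CommRingCat.ofHom (algebraMap R₁ A))) f₁)) :
    ∃ R' : Subalgebra R₁ A, R'.FG ∧
      Flat (pullback.fst (Spec.map (CommRingCat.ofHom (algebraMap R₁ R'))) f₁) := by
  haveI : CompactSpace ↥X₁ := QuasiCompact.compactSpace_of_compactSpace f₁
  obtain ⟨𝒰, h𝒰⟩ : ∃ 𝒰 : X₁.OpenCover, 𝒰 = X₁.affineCover.finiteSubcover := ⟨_, rfl⟩
  haveI : Finite 𝒰.I₀ := by rw [h𝒰]; infer_instance
  haveI : ∀ j, IsAffine (𝒰.X j) := by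
    intro j
    subst h𝒰
    exact Scheme.isAffine_affineCover X₁ _
  choose B hB1 hB2 hB3 hB4 using fun j => exists_algebra_of_isAffine (𝒰.f j ≫ f₁)
  -- the criterion through the cover
  have hcov : ∀ (C : Type u) [CommRing C] [Algebra R₁ C],
      Flat (pullback.fst (Spec.map (CommRingCat.ofHom (algebraMap R₁ C))) f₁) ↔
        ∀ j, letI := hB1 j; letI := hB2 j; Module.Flat C (C ⊗[R₁] B j) := by
    intro C _ _
    rw [IsZariskiLocalAtSource.iff_of_openCover (P := @Flat)
      (Scheme.Pullback.openCoverOfRight 𝒰 (Spec.map (CommRingCat.ofHom (algebraMap R₁ C))) f₁)]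
    have h1 : ∀ j : 𝒰.I₀, pullback.map (Spec.map (CommRingCat.ofHom (algebraMap R₁ C))) (𝒰.f j ≫ f₁)
        (Spec.map (CommRingCat.ofHom (algebraMap R₁ C))) f₁ (𝟙 _) (𝒰.f j) (𝟙 _)
        (by simp) (by simp) ≫
        pullback.fst (Spec.map (CommRingCat.ofHom (algebraMap R₁ C))) f₁ =
        pullback.fst (Spec.map (CommRingCat.ofHom (algebraMap R₁ C))) (𝒰.f j ≫ f₁) := by
      intro j
      rw [pullback.lift_fst, Category.comp_id]
    constructor
    · intro h j
      rw [← hB4 j C, ← h1 j]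
      exact h j
    · intro h j
      have h2 := (hB4 j C).mpr (h j)
      rw [← h1 j] at h2
      exact h2
  have hA := (hcov A).mp hflat
  have hex : ∀ j, ∃ A' : Subalgebra R₁ A, A'.FG ∧
      (letI := hB1 j; letI := hB2 j; Module.Flat A' (A' ⊗[R₁] B j)) := by
    intro j
    letI := hB1 j
    letI := hB2 j
    haveI : Algebra.FiniteType R₁ (B j) := hB3 j inferInstance
    haveI := hA j
    exact FlatDescH8.exists_fg_subalgebra_flat' (A₁ := R₁) (B₁ := B j) (B j) A
  choose R' hR'fg hR'flat using hex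
  refine ⟨⨆ j, R' j, fg_iSup_of_finite R' hR'fg, ?_⟩
  rw [hcov]
  intro j
  letI := hB1 j
  letI := hB2 j
  letI : Algebra (R' j) (⨆ j, R' j : Subalgebra R₁ A) :=
    (Subalgebra.inclusion (le_iSup R' j)).toRingHom.toAlgebra
  haveI : IsScalarTower R₁ (R' j) (⨆ j, R' j : Subalgebra R₁ A) :=
    IsScalarTower.of_algebraMap_eq (fun x => rfl)
  haveI := hR'flat j
  exact flat_tensor_of_tower R₁ (R' j) (⨆ j, R' j : Subalgebra R₁ A) (B j)

end Groth.Agent.Lib.NPFH8
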