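import Mathlib
import Groth.Agent.Lib.NPF1_helper8
import Groth.Agent.Lib.LimDescFP4_helper7
import Groth.Agent.Lib.NApxO_helper7

/-!
# Noetherian proper flat models, part 2 (helper8)
A proper flat finitely presented `X ⟶ Spec A` is the base change of a proper flat
`X' ⟶ Spec R'` with `R'` Noetherian.
APPEND-ONLY once landed.
-/

set_option autoImplicit false
set_option linter.all false
set_option maxHeartbeats 1600000

universe u

open CategoryTheory AlgebraicGeometry CategoryTheory.Limits TensorProduct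

namespace Groth.Agent.Lib.NPFH8

open Groth.Agent.Lib.LimDescFPH7

theorem descendsProp_isProper : DescendsProp.{u} @IsProper := by
  intro I _ _ D c hc _ i₀ _ _ X₀ Y₀ f₀ g₀ _ _ _ _ _ X Y f g qY qX hY hX hP
  haveI : IsProper f := hP
  haveI : LocallyOfFiniteType f₀ := inferInstance
  exact Groth.Agent.Lib.NApxO_helper7.main2074 D c hc i₀ f₀ g₀ f g qY qX hY hX

theorem exists_noetherian_proper_flat_model (A : Type u) [CommRing A] {X : Scheme.{u}}
    (f : X ⟶ Spec (CommRingCat.of A)) [IsProper f] [Flat f] [LocallyOfFinitePresentation f] :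
    ∃ (R' : Type u) (_ : CommRing R') (_ : IsNoetherianRing R') (ρ : R' →+* A) (X' : Scheme.{u})
      (f' : X' ⟶ Spec (CommRingCat.of R')) (q : X ⟶ X'),
      IsProper f' ∧ Flat f' ∧ LocallyOfFinitePresentation f' ∧
        IsPullback q f f' (Spec.map (CommRingCat.ofHom ρ)) := by
  obtain ⟨A₀, hA₀fg, X₀, f₀, g, hP₀, hlfp₀, hqc₀, hpb⟩ :=
    exists_model_fg descendsProp_isProper A f (inferInstance : IsProper f)
  haveI := hlfp₀
  haveI := hqc₀
  haveI : IsProper f₀ := hP₀
  haveI : Algebra.FiniteType ℤ A₀ := (Subalgebra.fg_iff_finiteType A₀).mp hA₀fg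
  haveI : IsNoetherianRing A₀ := Algebra.FiniteType.isNoetherianRing ℤ A₀
  have hflat : Flat (pullback.fst (Spec.map (CommRingCat.ofHom (algebraMap A₀ A))) f₀) := by
    have h1 : hpb.flip.isoPullback.hom ≫
        pullback.fst (Spec.map (CommRingCat.ofHom (algebraMap A₀ A))) f₀ = f :=
      hpb.flip.isoPullback_hom_fst
    have h2 : Flat (hpb.flip.isoPullback.hom ≫
        pullback.fst (Spec.map (CommRingCat.ofHom (algebraMap A₀ A))) f₀) := by
      rw [h1]; infer_instance
    exact (MorphismProperty.cancel_left_of_respectsIso (P := @Flat) _ _).mp h2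
  obtain ⟨R', hR'fg, hR'flat⟩ := exists_fg_subalgebra_flat_scheme f₀ hflat
  haveI : Algebra.FiniteType A₀ R' := (Subalgebra.fg_iff_finiteType R').mp hR'fg
  haveI : IsNoetherianRing R' := Algebra.FiniteType.isNoetherianRing A₀ R'
  have hcomp : CommRingCat.ofHom (algebraMap A₀ R') ≫ CommRingCat.ofHom (algebraMap R' A) =
      CommRingCat.ofHom (algebraMap A₀ A) := by
    ext x
    rfl
  have hw : (f ≫ Spec.map (CommRingCat.ofHom (algebraMap R' A))) ≫
      Spec.map (CommRingCat.ofHom (algebraMap A₀ R')) = g ≫ f₀ := by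
    rw [Category.assoc, ← Spec.map_comp, hcomp]
    exact hpb.w.symm
  refine ⟨R', inferInstance, inferInstance, algebraMap R' A,
    pullback (Spec.map (CommRingCat.ofHom (algebraMap A₀ R'))) f₀, pullback.fst _ _,
    pullback.lift (f ≫ Spec.map (CommRingCat.ofHom (algebraMap R' A))) g hw,
    MorphismProperty.pullback_fst (P := @IsProper) _ _ inferInstance, hR'flat, inferInstance, ?_⟩
  refine IsPullback.of_right ?_ (pullback.lift_fst _ _ _)
    (IsPullback.of_hasPullback (Spec.map (CommRingCat.ofHom (algebraMap A₀ R'))) f₀).flip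
  rw [pullback.lift_snd, ← Spec.map_comp, hcomp]
  exact hpb

end Groth.Agent.Lib.NPFH8
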