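import Mathlib
import Groth.Prelude
import Groth.Agent.Lib.NPF2_helper8
import Groth.Agent.Lib.ProperUsc3_helper8
import Groth.Agent.Lib.GeomRedCons1_helper8
import Groth.Agent.S1335
import Groth.Agent.Lib.DisjComp3_helper8

/-!
# Noetherian proper flat models, part 3: the number of geometric connected components of
the fibres of a proper flat finitely presented morphism (helper8)
APPEND-ONLY once landed.
-/

set_option autoImplicit false
set_option linter.all false
set_option maxHeartbeats 1600000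

universe u

open CategoryTheory AlgebraicGeometry CategoryTheory.Limits TensorProduct Topology

namespace Groth.Agent.Lib.NPFH8

/-- a local Noetherian proper flat model around a point of the base. -/
theorem exists_local_model {X S : Scheme.{u}} (f : X ⟶ S) [IsProper f] [Flat f]
    [LocallyOfFinitePresentation f] (s : S) :
    ∃ (R' : Type u) (_ : CommRing R') (_ : IsNoetherianRing R') (X' : Scheme.{u})
      (f' : X' ⟶ Spec (CommRingCat.of R')) (T : Scheme.{u}) (ι : T ⟶ S)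
      (h : T ⟶ Spec (CommRingCat.of R')) (XT : Scheme.{u}) (fT : XT ⟶ T) (e₁ : XT ⟶ X)
      (e₂ : XT ⟶ X') (a : T),
      IsOpenImmersion ι ∧ ι a = s ∧ IsProper f' ∧ Flat f' ∧ LocallyOfFinitePresentation f' ∧
        IsPullback e₁ fT f ι ∧ IsPullback e₂ fT f' h := by
  obtain ⟨_, ⟨U, hU : IsAffineOpen U, rfl⟩, hsU, -⟩ :=
    S.isBasis_affineOpens.exists_subset_of_mem_open (Set.mem_univ s) isOpen_univ
  obtain ⟨a, ha⟩ : ∃ a, hU.fromSpec a = s := by
    have : s ∈ Set.range hU.fromSpec := by rw [hU.range_fromSpec]; exact hsU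
    exact this
  obtain ⟨R', hR1, hR2, ρ, X', f', q, h1, h2, h3, h4⟩ :=
    exists_noetherian_proper_flat_model Γ(S, U) (pullback.snd f hU.fromSpec)
  exact ⟨R', hR1, hR2, X', f', _, hU.fromSpec, Spec.map (CommRingCat.ofHom ρ), _,
    pullback.snd f hU.fromSpec, pullback.fst f hU.fromSpec, q, a, inferInstance, ha, h1, h2, h3,
    IsPullback.of_hasPullback _ _, h4⟩

theorem image_preimage_mem_nhds {S T S' : Scheme.{u}} (ι : T ⟶ S) [IsOpenImmersion ι]
    (h : T ⟶ S') (a : T) {V' : Set S'} (hV' : V' ∈ 𝓝 (h a)) :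
    ι '' (h ⁻¹' V') ∈ 𝓝 (ι a) :=
  ι.isOpenEmbedding.isOpenMap.image_mem_nhds (h.continuous.continuousAt hV')

theorem nGeomConnComp_lsc_at {X S : Scheme.{u}} (f : X ⟶ S) [IsProper f] [Flat f]
    [LocallyOfFinitePresentation f] (s : S) :
    ∃ V ∈ 𝓝 s, ∀ z ∈ V, MoreMor.nGeomConnComp f s ≤ MoreMor.nGeomConnComp f z := by
  obtain ⟨R', _, _, X', f', T, ι, h, XT, fT, e₁, e₂, a, hι, ha, hp, hfl, hlfp, sq₁, sq₂⟩ :=
    exists_local_model f s
  haveI := hι; haveI := hp; haveI := hfl; haveI := hlfp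
  obtain ⟨V', hV', hle⟩ := ProperLscH8.main3415 f' (h a)
    (fun x _ => DisjCompH8.isUnivOpenAt_of_universallyOpen f' x)
  refine ⟨ι '' (h ⁻¹' V'), ?_, ?_⟩
  · rw [← ha]; exact image_preimage_mem_nhds ι h a hV'
  · rintro _ ⟨w, hw, rfl⟩
    rw [← ha, ← Groth.Agent.S1335.result f fT e₁ ι sq₁ a,
      ← Groth.Agent.S1335.result f fT e₁ ι sq₁ w,
      Groth.Agent.S1335.result f' fT e₂ h sq₂ a, Groth.Agent.S1335.result f' fT e₂ h sq₂ w]
    exact hle _ hw

theorem nGeomConnComp_const_at {X S : Scheme.{u}} (f : X ⟶ S) [IsProper f] [Flat f]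
    [LocallyOfFinitePresentation f] (s : S)
    (hred : GeometricallyReduced (f.fiberToSpecResidueField s)) :
    ∃ V ∈ 𝓝 s, ∀ z ∈ V, MoreMor.nGeomConnComp f z = MoreMor.nGeomConnComp f s := by
  obtain ⟨R', _, _, X', f', T, ι, h, XT, fT, e₁, e₂, a, hι, ha, hp, hfl, hlfp, sq₁, sq₂⟩ :=
    exists_local_model f s
  haveI := hι; haveI := hp; haveI := hfl; haveI := hlfp
  have hred' : GeometricallyReduced (f'.fiberToSpecResidueField (h a)) := by
    rw [← ConsPropH7.locus_baseChange GeomRedConsH8.isFieldStable_geomRed f' h e₂ fT sq₂ a,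
      ConsPropH7.locus_baseChange GeomRedConsH8.isFieldStable_geomRed f ι e₁ fT sq₁ a, ha]
    exact hred
  obtain ⟨V', hV', heq⟩ := ProperUscH8.main3416 f' (h a)
    (fun x _ => DisjCompH8.isUnivOpenAt_of_universallyOpen f' x) hred'
  refine ⟨ι '' (h ⁻¹' V'), ?_, ?_⟩
  · rw [← ha]; exact image_preimage_mem_nhds ι h a hV'
  · rintro _ ⟨w, hw, rfl⟩
    rw [← ha, ← Groth.Agent.S1335.result f fT e₁ ι sq₁ a,
      ← Groth.Agent.S1335.result f fT e₁ ι sq₁ w,
      Groth.Agent.S1335.result f' fT e₂ h sq₂ a, Groth.Agent.S1335.result f' fT e₂ h sq₂ w]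
    exact heq _ hw

end Groth.Agent.Lib.NPFH8
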