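import Mathlib
import Groth.Prelude

set_option autoImplicit false
set_option linter.style.haveILetI false
set_option linter.unusedVariables false

universe u

open W4c1frobunstiva

namespace Groth.Agent.Lib.NRFreeH4

theorem core {R : Type u} [CommRing R] [IsLocalRing R] (r s l : ℕ)
    (φt : (Fin r → R) →ₗ[R] (Fin s → R)) (τ : (Fin l → R) →ₗ[R] (Fin s → R))
    (hsurj : ∀ z, ∃ x y, φt x + τ y = z)
    (hτ : ∀ y, τ y = 0 → ∀ i, IsNilpotent (y i))
    (Kφ : Submodule R (Fin r → R)) (hK : ∀ x, x ∈ Kφ ↔ ∃ y, φt x + τ y = 0) :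
    IsNRFree R Kφ (r + l - s) ∧ (l = 0 → Nonempty (Module.Basis (Fin (r - s)) R Kφ)) := by
  classical
  obtain ⟨ψ, hψ⟩ : ∃ ψ : ((Fin r → R) × (Fin l → R)) →ₗ[R] (Fin s → R),
      ∀ w, ψ w = φt w.1 + τ w.2 := ⟨φt.coprod τ, fun w => LinearMap.coprod_apply φt τ w⟩
  have hψsurj : Function.Surjective ψ := fun z => by
    obtain ⟨x, y, hxy⟩ := hsurj z
    exact ⟨(x, y), by rw [hψ]; exact hxy⟩
  obtain ⟨σ, hσ'⟩ := Module.projective_lifting_property ψ LinearMap.id hψsurj
  have hσ : ∀ z, ψ (σ z) = z := fun z => LinearMap.congr_fun hσ' z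
  obtain ⟨p, hp⟩ : ∃ p : ((Fin r → R) × (Fin l → R)) →ₗ[R] LinearMap.ker ψ,
      ∀ w, ((p w : LinearMap.ker ψ) : (Fin r → R) × (Fin l → R)) = w - σ (ψ w) :=
    ⟨LinearMap.codRestrict (LinearMap.ker ψ) (LinearMap.id - σ.comp ψ) (fun w => by
        rw [LinearMap.mem_ker]
        show ψ (w - σ (ψ w)) = 0
        rw [map_sub, hσ, sub_self]), fun w => rfl⟩
  have hpK : ∀ k : LinearMap.ker ψ, p k.1 = k := fun k => by
    apply Subtype.ext
    rw [hp, LinearMap.mem_ker.mp k.2, map_zero, sub_zero]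
  haveI : Module.Finite R (LinearMap.ker ψ) :=
    Module.Finite.of_surjective p (fun k => ⟨k.1, hpK k⟩)
  haveI : Module.Projective R (LinearMap.ker ψ) :=
    Module.Projective.of_split (LinearMap.ker ψ).subtype p (LinearMap.ext fun k => hpK k)
  haveI : Module.Free R (LinearMap.ker ψ) := Module.free_of_flat_of_isLocalRing
  have hrank : Module.finrank R (LinearMap.ker ψ) = r + l - s := by
    have hinj : Function.Injective (p.prod ψ) := by
      rw [injective_iff_map_eq_zero]
      intro w hw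
      have h1 : p w = 0 := congrArg Prod.fst hw
      have h2 : ψ w = 0 := congrArg Prod.snd hw
      have h3 := hp w
      rw [h1, h2, map_zero, sub_zero] at h3
      exact h3.symm
    have hsur : Function.Surjective (p.prod ψ) := by
      rintro ⟨k, z⟩
      refine ⟨k.1 + σ z, ?_⟩
      have h1 : ψ (k.1 + σ z) = z := by
        rw [map_add, LinearMap.mem_ker.mp k.2, hσ, zero_add]
      have h2 : p (k.1 + σ z) = k := by
        apply Subtype.ext
        rw [hp, h1, add_sub_cancel_right]
      exact Prod.ext h2 h1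
    have e : ((Fin r → R) × (Fin l → R)) ≃ₗ[R] (LinearMap.ker ψ × (Fin s → R)) :=
      LinearEquiv.ofBijective (p.prod ψ) ⟨hinj, hsur⟩
    have h1 := e.finrank_eq
    rw [Module.finrank_prod, Module.finrank_prod, Module.finrank_fin_fun,
      Module.finrank_fin_fun, Module.finrank_fin_fun] at h1
    omega
  obtain ⟨B⟩ : Nonempty (Module.Basis (Fin (r + l - s)) R (LinearMap.ker ψ)) :=
    ⟨Module.finBasisOfFinrankEq R _ hrank⟩
  obtain ⟨q, hq⟩ : ∃ q : LinearMap.ker ψ →ₗ[R] Kφ,
      ∀ k, ((q k : Kφ) : Fin r → R) = k.1.1 :=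
    ⟨LinearMap.codRestrict Kφ ((LinearMap.fst R _ _).comp (LinearMap.ker ψ).subtype)
      (fun k => (hK _).mpr ⟨k.1.2, (hψ k.1).symm.trans (LinearMap.mem_ker.mp k.2)⟩),
      fun k => rfl⟩
  have hqsurj : Function.Surjective q := by
    intro x
    obtain ⟨y, hy⟩ := (hK x.1).mp x.2
    refine ⟨⟨(x.1, y), ?_⟩, ?_⟩
    · rw [LinearMap.mem_ker, hψ]; exact hy
    · apply Subtype.ext
      rw [hq]
  refine ⟨⟨fun j => q (B j), ?_, ?_⟩, ?_⟩
  · have h1 : (Set.range fun j => q (B j)) = q '' Set.range B := by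
      rw [← Set.range_comp]; rfl
    rw [h1, ← Submodule.map_span, B.span_eq, Submodule.map_top, LinearMap.range_eq_top]
    exact hqsurj
  · intro a ha j
    obtain ⟨w, hw⟩ : ∃ w : LinearMap.ker ψ, w = ∑ j, a j • B j := ⟨_, rfl⟩
    have hqw : q w = 0 := by
      rw [hw, map_sum]
      simp only [map_smul]
      exact ha
    have hw1 : w.1.1 = 0 := by
      have h1 := congrArg (fun x : Kφ => (x : Fin r → R)) hqw
      exact (hq w).symm.trans h1
    have hτy : τ w.1.2 = 0 := by
      have h1 := LinearMap.mem_ker.mp w.2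
      rw [hψ, hw1, map_zero, zero_add] at h1
      exact h1
    have hnil := hτ _ hτy
    have haj : a j = B.repr w j := by rw [hw, B.repr_sum_self]
    have hw2 : w = p (LinearMap.inr R (Fin r → R) (Fin l → R) w.1.2) :=
      (hpK w).symm.trans (congrArg p (Prod.ext hw1 rfl))
    have haj' : a j = ((B.coord j).comp (p.comp (LinearMap.inr R (Fin r → R) (Fin l → R))))
        w.1.2 := by
      rw [haj]
      show B.repr w j = B.repr (p (LinearMap.inr R (Fin r → R) (Fin l → R) w.1.2)) j
      rw [← hw2]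
    rw [← mem_nilradical, haj', LinearMap.pi_apply_eq_sum_univ]
    refine Ideal.sum_mem _ fun i _ => ?_
    rw [smul_eq_mul]
    exact Ideal.mul_mem_right _ _ (mem_nilradical.mpr (hnil i))
  · intro hl0
    subst hl0
    have hqinj : Function.Injective q := by
      rw [injective_iff_map_eq_zero]
      intro k hk
      have hk1 : k.1.1 = 0 := by
        have h1 := congrArg (fun x : Kφ => (x : Fin r → R)) hk
        exact (hq k).symm.trans h1
      apply Subtype.ext
      exact Prod.ext hk1 (Subsingleton.elim _ _)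
    exact ⟨(B.map (LinearEquiv.ofBijective q ⟨hqinj, hqsurj⟩)).reindex (finCongr (by omega))⟩

theorem main (R : Type u)
    [CommRing R] [IsNoetherianRing R] [IsLocalRing R] (f : R)
    (hann : ∀ a : R, a * f = 0 → IsNilpotent a) (r s l : ℕ) (hls : l ≤ s)
    (φ : (Fin r → R) →ₗ[R]
      ((Fin s → R) ⧸ Submodule.span R (Set.range fun i : Fin l => (Pi.single (Fin.castLE hls i) f : Fin s → R))))
    (hφ : Function.Surjective φ) :
    W4c1frobunstiva.IsNRFree R (LinearMap.ker φ) (r + l - s) ∧
      (l = 0 → Nonempty (Module.Basis (Fin (r - s)) R (LinearMap.ker φ))) := by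
  classical
  obtain ⟨τ, hτdef, hτrange⟩ : ∃ τ : (Fin l → R) →ₗ[R] (Fin s → R),
      (∀ y, τ y = ∑ i, y i • (Pi.single (Fin.castLE hls i) f : Fin s → R)) ∧
      LinearMap.range τ = Submodule.span R (Set.range fun i : Fin l =>
        (Pi.single (Fin.castLE hls i) f : Fin s → R)) :=
    ⟨Fintype.linearCombination R _, fun y => by rw [Fintype.linearCombination_apply],
      Fintype.range_linearCombination R _⟩
  obtain ⟨φt, hφt⟩ := Module.projective_lifting_property (Submodule.mkQ _) φ
    (Submodule.mkQ_surjective _)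
  have hφt' : ∀ x, (Submodule.Quotient.mk (φt x) : (Fin s → R) ⧸ Submodule.span R (Set.range
      fun i : Fin l => (Pi.single (Fin.castLE hls i) f : Fin s → R))) = φ x :=
    fun x => LinearMap.congr_fun hφt x
  refine core r s l φt τ ?_ ?_ (LinearMap.ker φ) ?_
  · intro z
    obtain ⟨x, hx⟩ := hφ (Submodule.Quotient.mk z)
    have h1 : z - φt x ∈ Submodule.span R (Set.range fun i : Fin l =>
        (Pi.single (Fin.castLE hls i) f : Fin s → R)) :=
      (Submodule.Quotient.eq _).mp (hx.symm.trans (hφt' x).symm)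
    rw [← hτrange] at h1
    obtain ⟨y, hy⟩ := h1
    exact ⟨x, y, by rw [hy]; abel⟩
  · intro y hy i0
    apply hann
    have h1 := congrFun hy (Fin.castLE hls i0)
    rw [hτdef, Finset.sum_apply, Finset.sum_eq_single i0] at h1
    · simpa [Pi.smul_apply, Pi.single_eq_same] using h1
    · intro i _ hi
      rw [Pi.smul_apply, Pi.single_eq_of_ne (fun h => hi (Fin.castLE_injective hls h).symm),
        smul_zero]
    · intro h; exact absurd (Finset.mem_univ _) h
  · intro x
    rw [LinearMap.mem_ker, ← hφt' x, Submodule.Quotient.mk_eq_zero, ← hτrange,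
      LinearMap.mem_range]
    constructor
    · rintro ⟨y, hy⟩
      exact ⟨-y, by rw [map_neg, hy, add_neg_cancel]⟩
    · rintro ⟨y, hy⟩
      exact ⟨-y, by rw [map_neg]; exact (eq_neg_of_add_eq_zero_left hy).symm⟩

end Groth.Agent.Lib.NRFreeH4
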