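import Mathlib
import Groth.Agent.Lib.GDomain_helper6

/-!
# Curve selection in the spectrum of a Noetherian ring (helper7)
Artin–Tate type lemma and the choice of a "curve" `p ⊂ t` through a point `t` closed in a basic open,
lying outside a constructible set `E` but with `p ∈ E`.
-/

set_option autoImplicit false
universe u
open PrimeSpectrum Topology

namespace Groth.Agent.Lib.NagCurveH7

/-- For `p ≤ q`, contracting the image of `q` in `C ⧸ p` gives back `q`. -/
theorem comap_map_mk {C : Type u} [CommRing C] (p q : Ideal C) (hpq : p ≤ q) :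
    (q.map (Ideal.Quotient.mk p)).comap (Ideal.Quotient.mk p) = q := by
  rw [Ideal.comap_map_of_surjective _ Ideal.Quotient.mk_surjective]
  refine sup_eq_left.2 ?_
  rw [← RingHom.ker_eq_comap_bot, Ideal.mk_ker]
  exact hpq

/-- Artin–Tate, domain version: if every nonzero prime below `m` contains `h ≠ 0`, then `m` is
the only nonzero prime below `m`. -/
theorem at_dom {R : Type u} [CommRing R] [IsDomain R] [IsNoetherianRing R] (m : Ideal R)
    [hm : m.IsPrime] (h : R) (hh : h ≠ 0)
    (H : ∀ q : Ideal R, q.IsPrime → q ≠ ⊥ → q ≤ m → h ∈ q) :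
    ∀ q : Ideal R, q.IsPrime → q ≠ ⊥ → q ≤ m → q = m := by
  intro q hq hq0 hqm
  have hM : m.primeCompl ≤ nonZeroDivisors R :=
    le_nonZeroDivisors_of_noZeroDivisors (fun h0 => h0 m.zero_mem)
  haveI : IsDomain (Localization.AtPrime m) := IsLocalization.isDomain_localization hM
  haveI : IsNoetherianRing (Localization.AtPrime m) :=
    IsLocalization.isNoetherianRing m.primeCompl _ inferInstance
  have hinj : Function.Injective (algebraMap R (Localization.AtPrime m)) :=
    IsLocalization.injective _ hM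
  have hhB : algebraMap R (Localization.AtPrime m) h ≠ 0 := (map_ne_zero_iff _ hinj).2 hh
  have hmax : (IsLocalRing.maximalIdeal (Localization.AtPrime m)).comap
      (algebraMap R (Localization.AtPrime m)) = m :=
    IsLocalization.AtPrime.under_maximalIdeal (Localization.AtPrime m) m
  have HB : ∀ P : Ideal (Localization.AtPrime m), P.IsPrime → P ≠ ⊥ →
      algebraMap R (Localization.AtPrime m) h ∈ P := by
    intro P hP hP0
    have h1 : P.comap (algebraMap R (Localization.AtPrime m)) ≤ m :=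
      le_trans (Ideal.comap_mono (IsLocalRing.le_maximalIdeal hP.ne_top)) (le_of_eq hmax)
    have h2 : P.comap (algebraMap R (Localization.AtPrime m)) ≠ ⊥ := by
      intro h0
      apply hP0
      have := IsLocalization.map_under m.primeCompl (Localization.AtPrime m) P
      rw [← this]
      change Ideal.map _ (P.comap _) = ⊥
      rw [h0, Ideal.map_bot]
    exact H _ (hP.comap _) h2 h1
  have hd : Disjoint (m.primeCompl : Set R) (q : Set R) :=
    Set.disjoint_left.2 fun x hx hxq => hx (hqm hxq)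
  have hPprime : (q.map (algebraMap R (Localization.AtPrime m))).IsPrime :=
    IsLocalization.isPrime_of_isPrime_disjoint m.primeCompl _ q hq hd
  have hPcomap : (q.map (algebraMap R (Localization.AtPrime m))).comap
      (algebraMap R (Localization.AtPrime m)) = q :=
    IsLocalization.under_map_of_isPrime_disjoint m.primeCompl _ hq hd
  have hP0 : q.map (algebraMap R (Localization.AtPrime m)) ≠ ⊥ := by
    intro h0
    apply hq0
    rw [← hPcomap, h0, Ideal.comap_bot_of_injective _ hinj]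
  have hPle : q.map (algebraMap R (Localization.AtPrime m)) ≤
      IsLocalRing.maximalIdeal (Localization.AtPrime m) :=
    IsLocalRing.le_maximalIdeal hPprime.ne_top
  have hM0 : IsLocalRing.maximalIdeal (Localization.AtPrime m) ≠ ⊥ := by
    intro h0
    rw [h0] at hPle
    exact hP0 (le_bot_iff.1 hPle)
  have hPmin := Groth.Agent.Lib.GDomain.mem_minimalPrimes_span_of_forall_mem hhB HB
    (q.map (algebraMap R (Localization.AtPrime m))) hP0
  have hMmin := Groth.Agent.Lib.GDomain.mem_minimalPrimes_span_of_forall_mem hhB HB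
    (IsLocalRing.maximalIdeal (Localization.AtPrime m)) hM0
  have hle : IsLocalRing.maximalIdeal (Localization.AtPrime m) ≤
      q.map (algebraMap R (Localization.AtPrime m)) := hMmin.2 hPmin.1 hPle
  have heq : q.map (algebraMap R (Localization.AtPrime m)) =
      IsLocalRing.maximalIdeal (Localization.AtPrime m) := le_antisymm hPle hle
  rw [← hPcomap, heq, hmax]

/-- Curve selection: `E` constructible in the spectrum of a Noetherian ring, `y ∈ E`, `y ⤳ y'`,
`y' ∉ E`.  Then there are primes `p ≤ t` and `f₁ ∉ t` with `p ∈ E`, `t ∉ E`, `t` closed in `D(f₁)`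
and no prime strictly between `p` and `t`. -/
theorem exists_curve_primes {C : Type u} [CommRing C] [IsNoetherianRing C]
    (E : Set (PrimeSpectrum C)) (hE : IsConstructible E) (y y' : PrimeSpectrum C)
    (hy : y ∈ E) (hyy' : y.asIdeal ≤ y'.asIdeal) (hy' : y' ∉ E) :
    ∃ (p t : PrimeSpectrum C) (f₁ : C), p ∈ E ∧ t ∉ E ∧ p.asIdeal ≤ t.asIdeal ∧
      f₁ ∉ t.asIdeal ∧
      (∀ q : Ideal C, q.IsPrime → t.asIdeal ≤ q → f₁ ∉ q → q = t.asIdeal) ∧
      (∀ q : Ideal C, q.IsPrime → p.asIdeal < q → q ≤ t.asIdeal → q = t.asIdeal) := by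
  classical
  -- the closed set `V(y)` is constructible
  have hV : IsConstructible (zeroLocus (y.asIdeal : Set C)) := by
    obtain ⟨s, hs⟩ := (isNoetherianRing_iff_ideal_fg C).1 inferInstance y.asIdeal
    have h1 : zeroLocus (y.asIdeal : Set C) = zeroLocus (s : Set C) := by
      rw [← hs, zeroLocus_span]
    rw [h1, ← isConstructible_compl]
    exact (isRetrocompact_zeroLocus_compl s.finite_toSet).isConstructible
      (isClosed_zeroLocus _).isOpen_compl
  have hT : IsConstructible (zeroLocus (y.asIdeal : Set C) \ E) := hV.sdiff hE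
  obtain ⟨S, hS⟩ := exists_constructibleSetData_iff.mpr hT
  have hy'T : y' ∈ S.toSet := by
    rw [hS]
    exact ⟨(mem_zeroLocus _ _).2 hyy', hy'⟩
  obtain ⟨Cd, hCdS, hy'Cd⟩ := Set.mem_iUnion₂.1 hy'T
  -- a maximal element of the piece
  obtain ⟨I₀, ⟨t, htCd, rfl⟩, hmax⟩ :=
    set_has_maximal_iff_noetherian.mpr (inferInstance : IsNoetherian C C)
      {I : Ideal C | ∃ q : PrimeSpectrum C, q ∈ Cd.toSet ∧ q.asIdeal = I} ⟨_, y', hy'Cd, rfl⟩
  have htT : t ∈ zeroLocus (y.asIdeal : Set C) \ E := by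
    rw [← hS]
    exact Set.mem_iUnion₂.2 ⟨Cd, hCdS, htCd⟩
  have hyt : y.asIdeal ≤ t.asIdeal := (mem_zeroLocus _ _).1 htT.1
  have hf₁ : Cd.f ∉ t.asIdeal := by
    intro hmem
    apply htCd.2
    rw [mem_zeroLocus, Set.singleton_subset_iff]
    exact hmem
  have hgt : Set.range Cd.g ⊆ (t.asIdeal : Set C) := (mem_zeroLocus _ _).1 htCd.1
  have h3 : ∀ q : Ideal C, q.IsPrime → t.asIdeal ≤ q → Cd.f ∉ q → q = t.asIdeal := by
    intro q hq htq hfq
    have hmem : (⟨q, hq⟩ : PrimeSpectrum C) ∈ Cd.toSet := by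
      refine ⟨(mem_zeroLocus _ _).2 (hgt.trans htq), ?_⟩
      intro hmem
      rw [mem_zeroLocus, Set.singleton_subset_iff] at hmem
      exact hfq hmem
    have := hmax q ⟨⟨q, hq⟩, hmem, rfl⟩
    exact (eq_of_le_of_not_lt htq this).symm
  -- a dense open of `V(y)` inside `E`
  obtain ⟨SE, hSE⟩ := exists_constructibleSetData_iff.mpr hE
  have hySE : y ∈ SE.toSet := by rw [hSE]; exact hy
  obtain ⟨Ce, hCeS, hyCe⟩ := Set.mem_iUnion₂.1 hySE
  have hh : Ce.f ∉ y.asIdeal := by
    intro hmem
    apply hyCe.2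
    rw [mem_zeroLocus, Set.singleton_subset_iff]
    exact hmem
  have hgy : Set.range Ce.g ⊆ (y.asIdeal : Set C) := (mem_zeroLocus _ _).1 hyCe.1
  have key : ∀ q : PrimeSpectrum C, y.asIdeal ≤ q.asIdeal → Ce.f ∉ q.asIdeal → q ∈ E := by
    intro q hyq hfq
    rw [← hSE]
    refine Set.mem_iUnion₂.2 ⟨Ce, hCeS, (mem_zeroLocus _ _).2 (hgy.trans hyq), ?_⟩
    intro hmem
    rw [mem_zeroLocus, Set.singleton_subset_iff] at hmem
    exact hfq hmem
  have hht : Ce.f ∈ t.asIdeal := by
    by_contra hn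
    exact htT.2 (key t hyt hn)
  -- a maximal prime between `y` and `t` avoiding `h`
  obtain ⟨_, ⟨p, rfl, hyp, hpt, hhp⟩, hmaxp⟩ :=
    set_has_maximal_iff_noetherian.mpr (inferInstance : IsNoetherian C C)
      {I : Ideal C | ∃ q : PrimeSpectrum C, q.asIdeal = I ∧ y.asIdeal ≤ I ∧ I ≤ t.asIdeal ∧
        Ce.f ∉ I} ⟨_, y, rfl, le_rfl, hyt, hh⟩
  refine ⟨p, t, Cd.f, key p hyp hhp, htT.2, hpt, hf₁, h3, ?_⟩
  -- Artin–Tate in `C ⧸ p`
  haveI : (t.asIdeal.map (Ideal.Quotient.mk p.asIdeal)).IsPrime :=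
    Ideal.map_isPrime_of_surjective Ideal.Quotient.mk_surjective (by rw [Ideal.mk_ker]; exact hpt)
  have hhbar : Ideal.Quotient.mk p.asIdeal Ce.f ≠ 0 := by
    rw [Ne, Ideal.Quotient.eq_zero_iff_mem]
    exact hhp
  have HR : ∀ q : Ideal (C ⧸ p.asIdeal), q.IsPrime → q ≠ ⊥ →
      q ≤ t.asIdeal.map (Ideal.Quotient.mk p.asIdeal) → Ideal.Quotient.mk p.asIdeal Ce.f ∈ q := by
    intro q hq hq0 hqm
    by_contra hn
    have hpq : p.asIdeal ≤ q.comap (Ideal.Quotient.mk p.asIdeal) := by
      intro x hx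
      rw [Ideal.mem_comap, Ideal.Quotient.eq_zero_iff_mem.2 hx]
      exact q.zero_mem
    have hqt : q.comap (Ideal.Quotient.mk p.asIdeal) ≤ t.asIdeal := by
      rw [← comap_map_mk p.asIdeal t.asIdeal hpt]
      exact Ideal.comap_mono hqm
    have hne : q.comap (Ideal.Quotient.mk p.asIdeal) ≠ p.asIdeal := by
      intro he
      apply hq0
      rw [← Ideal.map_comap_of_surjective _ Ideal.Quotient.mk_surjective q, he,
        Ideal.map_quotient_self]
    have hmem : q.comap (Ideal.Quotient.mk p.asIdeal) ∈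
        {I : Ideal C | ∃ q : PrimeSpectrum C, q.asIdeal = I ∧ y.asIdeal ≤ I ∧ I ≤ t.asIdeal ∧
          Ce.f ∉ I} :=
      ⟨⟨_, hq.comap _⟩, rfl, hyp.trans hpq, hqt, fun hmem => hn hmem⟩
    exact hmaxp _ hmem (lt_of_le_of_ne hpq (Ne.symm hne))
  have hAT := at_dom (t.asIdeal.map (Ideal.Quotient.mk p.asIdeal))
    (Ideal.Quotient.mk p.asIdeal Ce.f) hhbar HR
  intro q hq hpq hqt
  haveI : (q.map (Ideal.Quotient.mk p.asIdeal)).IsPrime :=
    Ideal.map_isPrime_of_surjective Ideal.Quotient.mk_surjective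
      (by rw [Ideal.mk_ker]; exact hpq.le)
  have hq0 : q.map (Ideal.Quotient.mk p.asIdeal) ≠ ⊥ := by
    intro h0
    have := comap_map_mk p.asIdeal q hpq.le
    rw [h0, ← RingHom.ker_eq_comap_bot, Ideal.mk_ker] at this
    exact hpq.ne this
  have := hAT _ inferInstance hq0 (Ideal.map_mono hqt)
  rw [← comap_map_mk p.asIdeal q hpq.le, this, comap_map_mk p.asIdeal t.asIdeal hpt]

end Groth.Agent.Lib.NagCurveH7
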