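import Mathlib

/-!
# Algebraic curve data over a Japanese domain (helper7)
Given a Noetherian domain `R`, a prime `m` of height one closed in `D(f₁)`, and a finite type
`R`-algebra `D₀` mapping to a finite extension `L` of `Frac R`, we produce a normal domain `A` of
finite type over `R` (a localisation of the integral closure of `R` in `L`), a maximal ideal `cA` of
height one over `m`, and `sA ∈ A` with `V(sA) = {cA}` such that `D₀ → L` factors through `A[1/sA]`.
-/

set_option autoImplicit false
universe u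

namespace Groth.Agent.Lib.NagCurveH7

/-- Factor a ring hom through an injective ring hom containing its range. -/
theorem exists_factor {B A' L : Type*} [CommRing B] [CommRing A'] [CommRing L] (ι : A' →+* L)
    (hι : Function.Injective ι) (ψ : B →+* L) (h : ∀ b, ∃ a, ι a = ψ b) :
    ∃ ψ' : B →+* A', ι.comp ψ' = ψ := by
  choose θ hθ using h
  refine ⟨{ toFun := θ
            map_one' := hι (by rw [hθ, map_one, map_one])
            map_mul' := fun a b => hι (by rw [hθ, map_mul, map_mul, hθ, hθ])
            map_zero' := hι (by rw [hθ, map_zero, map_zero])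
            map_add' := fun a b => hι (by rw [hθ, map_add, map_add, hθ, hθ]) }, ?_⟩
  exact RingHom.ext hθ

/-- A point of the generic fibre with finite residue field. -/
theorem exists_finite_point {R D₀ : Type u} [CommRing R] [IsDomain R] [CommRing D₀] [IsDomain D₀]
    [Algebra R D₀] [Algebra.FiniteType R D₀] (hinj : Function.Injective (algebraMap R D₀)) :
    ∃ (L : Type u) (_ : Field L) (_ : Algebra R L) (_ : Algebra (FractionRing R) L)
      (_ : IsScalarTower R (FractionRing R) L) (_ : FiniteDimensional (FractionRing R) L),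
      Nonempty (D₀ →ₐ[R] L) := by
  classical
  have hinj' : Function.Injective (Algebra.ofId R (FractionRing D₀)) := by
    change Function.Injective (algebraMap R (FractionRing D₀))
    rw [IsScalarTower.algebraMap_eq R D₀ (FractionRing D₀)]
    exact (IsFractionRing.injective D₀ (FractionRing D₀)).comp hinj
  haveI : Nontrivial (TensorProduct R (FractionRing R) D₀) :=
    RingHom.domain_nontrivial (Algebra.TensorProduct.productMap
      (IsFractionRing.liftAlgHom (K := FractionRing R) hinj')
      (IsScalarTower.toAlgHom R D₀ (FractionRing D₀))).toRingHom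
  obtain ⟨n, hn⟩ := Ideal.exists_maximal (TensorProduct R (FractionRing R) D₀)
  letI : Field (TensorProduct R (FractionRing R) D₀ ⧸ n) := Ideal.Quotient.field n
  haveI : Algebra.FiniteType (FractionRing R) (TensorProduct R (FractionRing R) D₀ ⧸ n) :=
    Algebra.FiniteType.of_surjective (Ideal.Quotient.mkₐ (FractionRing R) n)
      (Ideal.Quotient.mkₐ_surjective _ n)
  haveI : Module.Finite (FractionRing R) (TensorProduct R (FractionRing R) D₀ ⧸ n) :=
    finite_of_finite_type_of_isJacobsonRing _ _
  exact ⟨TensorProduct R (FractionRing R) D₀ ⧸ n, inferInstance, inferInstance, inferInstance,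
    inferInstance, inferInstance,
    ⟨(Ideal.Quotient.mkₐ R n).comp Algebra.TensorProduct.includeRight⟩⟩

/-- Curve data, with an abstract model `R'` of the integral closure of `R` in `L`. -/
theorem curve_data_aux {R : Type u} [CommRing R] [IsDomain R] [IsNoetherianRing R]
    {R' : Type u} [CommRing R'] [IsDomain R'] [IsIntegrallyClosed R'] [Algebra R R']
    [Module.Finite R R'] (hinj : Function.Injective (algebraMap R R'))
    {L : Type u} [Field L] [Algebra R L] (val : R' →+* L) (hval : Function.Injective val)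
    (hvalR : ∀ r : R, val (algebraMap R R' r) = algebraMap R L r)
    (hint : ∀ x : L, IsIntegral R x → ∃ r' : R', val r' = x)
    [Algebra.IsAlgebraic R L]
    {D₀ : Type u} [CommRing D₀] [Algebra R D₀] [Algebra.FiniteType R D₀] (ψ : D₀ →ₐ[R] L)
    (m : Ideal R) [hm : m.IsPrime] (hm0 : m ≠ ⊥) (f₁ : R) (hf₁ : f₁ ∉ m)
    (h3 : ∀ q : Ideal R, q.IsPrime → m ≤ q → f₁ ∉ q → q = m)
    (h4 : ∀ q : Ideal R, q.IsPrime → q ≠ ⊥ → q ≤ m → q = m) :
    ∃ (A : Type u) (_ : CommRing A) (_ : IsDomain A) (_ : IsIntegrallyClosed A)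
      (γ : R →+* A) (cA : Ideal A) (sA : A) (ψ' : D₀ →+* Localization.Away sA),
      γ.FiniteType ∧ cA.IsMaximal ∧ cA.comap γ = m ∧ cA.height = 1 ∧
      (∀ q : Ideal A, q.IsPrime → (sA ∈ q ↔ q = cA)) ∧
      ψ'.comp (algebraMap R D₀) = (algebraMap A (Localization.Away sA)).comp γ := by
  classical
  haveI : Algebra.IsIntegral R R' := Algebra.IsIntegral.of_finite R R'
  haveI : IsNoetherianRing R' := Algebra.FiniteType.isNoetherianRing R R'
  -- a prime over `m`
  obtain ⟨c, -, hc, hcm⟩ := Ideal.exists_ideal_over_prime_of_isIntegral (S := R') m ⊥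
    (by rw [Ideal.comap_bot_of_injective _ hinj]; exact bot_le)
  -- incomparability
  have hincomp : ∀ q q' : Ideal R', q.IsPrime → q ≤ q' →
      q.comap (algebraMap R R') = q'.comap (algebraMap R R') → q = q' := by
    intro q q' hq hle heq
    by_contra hne
    have hlt : q < q' := lt_of_le_of_ne hle hne
    obtain ⟨x, hxq', hxq⟩ := Set.exists_of_ssubset hlt
    have := Ideal.comap_lt_comap_of_integral_mem_sdiff (R := R) hle ⟨hxq', hxq⟩
      (Algebra.IsIntegral.isIntegral x)
    exact this.ne heq
  have hcmax : ∀ q : Ideal R', q.IsPrime → c ≤ q → algebraMap R R' f₁ ∉ q → q = c := by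
    intro q hq hcq hfq
    have h1 : q.comap (algebraMap R R') = m :=
      h3 _ (hq.comap _) (hcm ▸ Ideal.comap_mono hcq) (fun hmem => hfq hmem)
    exact (hincomp c q hc hcq (hcm.trans h1.symm)).symm
  have hcht : ∀ q : Ideal R', q.IsPrime → q ≠ ⊥ → q ≤ c → q = c := by
    intro q hq hq0 hqc
    have h0 : q.comap (algebraMap R R') ≠ ⊥ := fun h0 => hq0 (Ideal.eq_bot_of_comap_eq_bot h0)
    have h1 : q.comap (algebraMap R R') = m :=
      h4 _ (hq.comap _) h0 (hcm ▸ Ideal.comap_mono hqc)
    exact hincomp q c hq hqc (h1.trans hcm.symm)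
  have hc0 : c ≠ ⊥ := by
    intro h0
    apply hm0
    rw [← hcm, h0, Ideal.comap_bot_of_injective _ hinj]
  have hcheight : c.height = 1 := by
    refine le_antisymm ?_ (ENat.one_le_iff_ne_zero.2 (fun h0 => hc0 (Ideal.height_eq_zero_iff_eq_bot.1 h0)))
    have : c.height ≤ ((1 : ℕ) : ℕ∞) := by
      rw [Ideal.height_le_iff]
      intro q hq hqc
      have hq0 : q = ⊥ := by
        by_contra hq0
        exact hqc.ne (hcht q hq hq0 hqc.le)
      rw [hq0, Ideal.height_bot]
      exact_mod_cast zero_lt_one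
    exact_mod_cast this
  -- denominators
  obtain ⟨G, hG⟩ := (Algebra.FiniteType.out : (⊤ : Subalgebra R D₀).FG)
  obtain ⟨y, hy0, hyint⟩ := Algebra.IsAlgebraic.exists_integral_multiples R (G.image ψ)
  obtain ⟨m₀, hm₀m, hm₀0⟩ := Submodule.exists_mem_ne_zero_of_ne_bot hm0
  obtain ⟨s, hsdef⟩ : ∃ s : R, s = m₀ * y := ⟨_, rfl⟩
  have hs0 : s ≠ 0 := hsdef ▸ mul_ne_zero hm₀0 hy0
  have hsm : s ∈ m := hsdef ▸ m.mul_mem_right _ hm₀m
  have hsint : ∀ g ∈ G, IsIntegral R (s • ψ g) := by
    intro g hg
    rw [hsdef, mul_smul]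
    exact (hyint _ (Finset.mem_image_of_mem _ hg)).smul _
  obtain ⟨sR', hsR'def⟩ : ∃ sR' : R', sR' = algebraMap R R' s := ⟨_, rfl⟩
  have hsR'0 : sR' ≠ 0 := hsR'def ▸ (map_ne_zero_iff _ hinj).2 hs0
  have hsR'c : sR' ∈ c := by
    rw [hsR'def, ← Ideal.mem_comap, hcm]
    exact hsm
  -- the element `s'`
  have hfinmin := Ideal.finite_minimalPrimes_of_isNoetherianRing R' (Ideal.span {sR'})
  obtain ⟨s', hs'prod, hs'c⟩ : ∃ s' : R', s' ∈ ∏ q ∈ hfinmin.toFinset.erase c, q ∧ s' ∉ c := by
    by_contra hcon
    push_neg at hcon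
    have hle : (∏ q ∈ hfinmin.toFinset.erase c, q) ≤ c := fun x hx => hcon x hx
    obtain ⟨q, hq, hqc⟩ := (Ideal.IsPrime.prod_le hc).1 hle
    have hq' := Finset.mem_erase.1 hq
    have hqmin : q ∈ (Ideal.span {sR'}).minimalPrimes := hfinmin.mem_toFinset.1 hq'.2
    have hqprime : q.IsPrime := hqmin.1.1
    have hq0 : q ≠ ⊥ := by
      intro h0
      have : sR' ∈ q := hqmin.1.2 (Ideal.mem_span_singleton_self _)
      rw [h0, Ideal.mem_bot] at this
      exact hsR'0 this
    exact hq'.1 (hcht q hqprime hq0 hqc)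
  have key5 : ∀ q : Ideal R', q.IsPrime → sR' ∈ q → s' ∉ q → c ≤ q := by
    intro q hq hsq hs'q
    obtain ⟨q₀, hq₀min, hq₀q⟩ := Ideal.exists_minimalPrimes_le (I := Ideal.span {sR'}) (J := q)
      ((Ideal.span_singleton_le_iff_mem _).2 hsq)
    by_cases h : q₀ = c
    · exact h ▸ hq₀q
    · exfalso
      apply hs'q
      apply hq₀q
      have hmem : q₀ ∈ hfinmin.toFinset.erase c :=
        Finset.mem_erase.2 ⟨h, hfinmin.mem_toFinset.2 hq₀min⟩
      exact (Ideal.prod_le_inf.trans (Finset.inf_le hmem)) hs'prod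
  -- the ring `A`
  obtain ⟨a₁, ha₁def⟩ : ∃ a₁ : R', a₁ = algebraMap R R' f₁ * s' := ⟨_, rfl⟩
  have hfa : ∀ I : Ideal R', algebraMap R R' f₁ ∈ I → a₁ ∈ I := by
    intro I hmem
    rw [ha₁def]
    exact Ideal.mul_mem_right _ _ hmem
  have hsa : ∀ I : Ideal R', s' ∈ I → a₁ ∈ I := by
    intro I hmem
    rw [ha₁def]
    exact Ideal.mul_mem_left _ _ hmem
  have hf₁c : algebraMap R R' f₁ ∉ c := by
    intro hmem
    apply hf₁
    rw [← hcm]
    exact hmem
  have ha₁c : a₁ ∉ c := by
    rw [ha₁def]
    intro hmem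
    rcases hc.mem_or_mem hmem with h | h
    · exact hf₁c h
    · exact hs'c h
  have ha₁0 : a₁ ≠ 0 := fun h0 => ha₁c (h0 ▸ c.zero_mem)
  have hM : Submonoid.powers a₁ ≤ nonZeroDivisors R' :=
    powers_le_nonZeroDivisors_of_noZeroDivisors ha₁0
  haveI : IsDomain (Localization.Away a₁) := IsLocalization.isDomain_localization hM
  haveI : IsIntegrallyClosed (Localization.Away a₁) :=
    isIntegrallyClosed_of_isLocalization (Localization.Away a₁) (Submonoid.powers a₁) hM
  have hinjA : Function.Injective (algebraMap R' (Localization.Away a₁)) :=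
    IsLocalization.injective _ hM
  have hdc : Disjoint (Submonoid.powers a₁ : Set R') (c : Set R') :=
    (Ideal.disjoint_powers_iff_notMem_of_isPrime a₁).2 ha₁c
  have hcAprime : (c.map (algebraMap R' (Localization.Away a₁))).IsPrime :=
    IsLocalization.isPrime_of_isPrime_disjoint (Submonoid.powers a₁) _ c hc hdc
  have hcAcomap : (c.map (algebraMap R' (Localization.Away a₁))).comap
      (algebraMap R' (Localization.Away a₁)) = c :=
    IsLocalization.under_map_of_isPrime_disjoint (Submonoid.powers a₁) _ hc hdc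
  have hAux : ∀ q : Ideal (Localization.Away a₁), q.IsPrime →
      c ≤ q.comap (algebraMap R' (Localization.Away a₁)) →
      q = c.map (algebraMap R' (Localization.Away a₁)) := by
    intro q hq hcq
    have ha₁q : a₁ ∉ q.comap (algebraMap R' (Localization.Away a₁)) := by
      intro hmem
      exact hq.ne_top (Ideal.eq_top_of_isUnit_mem _ hmem
        (IsLocalization.Away.algebraMap_isUnit a₁))
    have hfq : algebraMap R R' f₁ ∉ q.comap (algebraMap R' (Localization.Away a₁)) := by
      intro hmem
      exact ha₁q (hfa _ hmem)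
    have h1 := hcmax _ (hq.comap _) hcq hfq
    have h2 := IsLocalization.map_under (Submonoid.powers a₁) (Localization.Away a₁) q
    rw [← h2]
    change Ideal.map _ (q.comap _) = _
    rw [h1]
  have hcAmax : (c.map (algebraMap R' (Localization.Away a₁))).IsMaximal := by
    obtain ⟨M, hMmax, hcAM⟩ := Ideal.exists_le_maximal _ hcAprime.ne_top
    have : M = c.map (algebraMap R' (Localization.Away a₁)) :=
      hAux M hMmax.isPrime (by rw [← hcAcomap]; exact Ideal.comap_mono hcAM)
    exact this ▸ hMmax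
  obtain ⟨sA, hsAdef⟩ : ∃ sA : Localization.Away a₁, sA = algebraMap R' _ sR' := ⟨_, rfl⟩
  have hsA0 : sA ≠ 0 := hsAdef ▸ (map_ne_zero_iff _ hinjA).2 hsR'0
  have hiff : ∀ q : Ideal (Localization.Away a₁), q.IsPrime →
      (sA ∈ q ↔ q = c.map (algebraMap R' (Localization.Away a₁))) := by
    intro q hq
    constructor
    · intro hsq
      have ha₁q : a₁ ∉ q.comap (algebraMap R' (Localization.Away a₁)) := by
        intro hmem
        exact hq.ne_top (Ideal.eq_top_of_isUnit_mem _ hmem
          (IsLocalization.Away.algebraMap_isUnit a₁))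
      have hs'q : s' ∉ q.comap (algebraMap R' (Localization.Away a₁)) := by
        intro hmem
        exact ha₁q (hsa _ hmem)
      have hsq' : sR' ∈ q.comap (algebraMap R' (Localization.Away a₁)) := by
        rw [Ideal.mem_comap, ← hsAdef]
        exact hsq
      exact hAux q hq (key5 _ (hq.comap _) hsq' hs'q)
    · rintro rfl
      rw [hsAdef]
      exact Ideal.mem_map_of_mem _ hsR'c
  -- finite type
  have hγft : ((algebraMap R' (Localization.Away a₁)).comp (algebraMap R R')).FiniteType := by
    refine RingHom.FiniteType.comp ?_ ?_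
    · haveI := IsLocalization.Away.finitePresentation (S := Localization.Away a₁) a₁
      exact RingHom.finiteType_algebraMap.2 inferInstance
    · exact RingHom.finiteType_algebraMap.2 inferInstance
  -- embeddings into `L`
  have hu1 : IsUnit (val a₁) := isUnit_iff_ne_zero.2 ((map_ne_zero_iff _ hval).2 ha₁0)
  obtain ⟨ιA, hιAdef⟩ : ∃ ιA : Localization.Away a₁ →+* L,
      ιA = IsLocalization.Away.lift a₁ hu1 := ⟨_, rfl⟩
  have hιA : ∀ r', ιA (algebraMap R' _ r') = val r' := by
    intro r'
    rw [hιAdef]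
    exact IsLocalization.Away.lift_eq a₁ hu1 r'
  have hιAinj : Function.Injective ιA := by
    rw [IsLocalization.injective_iff_map_algebraMap_eq (Submonoid.powers a₁) ιA]
    intro x y
    rw [hιA, hιA]
    exact ⟨fun h => congrArg val (hinjA h), fun h => congrArg _ (hval h)⟩
  have hMs : Submonoid.powers sA ≤ nonZeroDivisors (Localization.Away a₁) :=
    powers_le_nonZeroDivisors_of_noZeroDivisors hsA0
  have hinjs : Function.Injective (algebraMap (Localization.Away a₁) (Localization.Away sA)) :=
    IsLocalization.injective _ hMs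
  have hu2 : IsUnit (ιA sA) := isUnit_iff_ne_zero.2 ((map_ne_zero_iff _ hιAinj).2 hsA0)
  obtain ⟨ιs, hιsdef⟩ : ∃ ιs : Localization.Away sA →+* L,
      ιs = IsLocalization.Away.lift sA hu2 := ⟨_, rfl⟩
  have hιs : ∀ a, ιs (algebraMap _ _ a) = ιA a := by
    intro a
    rw [hιsdef]
    exact IsLocalization.Away.lift_eq sA hu2 a
  have hιsinj : Function.Injective ιs := by
    rw [IsLocalization.injective_iff_map_algebraMap_eq (Submonoid.powers sA) ιs]
    intro x y
    rw [hιs, hιs]
    exact ⟨fun h => congrArg ιA (hinjs h), fun h => congrArg _ (hιAinj h)⟩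
  have hιAsA : ιA sA = algebraMap R L s := by
    rw [hsAdef, hιA, hsR'def, hvalR]
  have hsL0 : algebraMap R L s ≠ 0 := by
    rw [← hιAsA]
    exact (map_ne_zero_iff _ hιAinj).2 hsA0
  -- the range of `ψ`
  have hrange : ∀ d : D₀, ∃ a, ιs a = ψ d := by
    let 𝒰 : Subalgebra R D₀ :=
      { carrier := {d | ∃ a, ιs a = ψ d}
        mul_mem' := by
          rintro a b ⟨a', ha'⟩ ⟨b', hb'⟩
          exact ⟨a' * b', by rw [map_mul, ha', hb', map_mul]⟩
        add_mem' := by
          rintro a b ⟨a', ha'⟩ ⟨b', hb'⟩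
          exact ⟨a' + b', by rw [map_add, ha', hb', map_add]⟩
        one_mem' := ⟨1, by rw [map_one, map_one]⟩
        zero_mem' := ⟨0, by rw [map_zero, map_zero]⟩
        algebraMap_mem' := fun r =>
          ⟨algebraMap _ _ (algebraMap R' (Localization.Away a₁) (algebraMap R R' r)), by
            rw [hιs, hιA, hvalR, AlgHom.commutes]⟩ }
    have hG𝒰 : (G : Set D₀) ⊆ 𝒰 := by
      intro g hg
      obtain ⟨r', hr'⟩ := hint _ (hsint g hg)
      refine ⟨algebraMap _ _ (algebraMap R' (Localization.Away a₁) r') *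
        IsLocalization.Away.invSelf sA, ?_⟩
      have h1 : ιs (algebraMap _ _ sA) * ιs (IsLocalization.Away.invSelf sA) = 1 := by
        rw [← map_mul, IsLocalization.Away.mul_invSelf, map_one]
      rw [hιs, hιAsA] at h1
      have h2 : ιs (IsLocalization.Away.invSelf sA) = (algebraMap R L s)⁻¹ :=
        eq_inv_of_mul_eq_one_right h1
      rw [map_mul, hιs, hιA, hr', h2, Algebra.smul_def, mul_comm, inv_mul_cancel_left₀ hsL0]
    have h𝒰 : (⊤ : Subalgebra R D₀) ≤ 𝒰 := hG ▸ Algebra.adjoin_le hG𝒰
    intro d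
    exact h𝒰 (Algebra.mem_top : d ∈ (⊤ : Subalgebra R D₀))
  obtain ⟨ψ', hψ'⟩ := exists_factor ιs hιsinj ψ.toRingHom hrange
  refine ⟨Localization.Away a₁, inferInstance, inferInstance, inferInstance,
    (algebraMap R' (Localization.Away a₁)).comp (algebraMap R R'),
    c.map (algebraMap R' (Localization.Away a₁)), sA, ψ', hγft, hcAmax, ?_, ?_, hiff, ?_⟩
  · rw [← Ideal.comap_comap, hcAcomap, hcm]
  · rw [IsLocalization.height_map_of_disjoint (Submonoid.powers a₁) c hdc, hcheight]
  · refine RingHom.ext fun r => hιsinj ?_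
    have h1 : ιs (ψ' (algebraMap R D₀ r)) = ψ (algebraMap R D₀ r) :=
      RingHom.congr_fun hψ' (algebraMap R D₀ r)
    change ιs (ψ' (algebraMap R D₀ r)) = ιs (algebraMap (Localization.Away a₁)
      (Localization.Away sA) (algebraMap R' (Localization.Away a₁) (algebraMap R R' r)))
    rw [h1, hιs, hιA, hvalR, AlgHom.commutes]

end Groth.Agent.Lib.NagCurveH7
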