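import Mathlib
import Groth.Prelude.Def_Found
import Groth.Agent.Lib.NagCurveA_helper7
import Groth.Agent.Lib.NagCurveB_helper7

/-!
# Algebraic curve data over a Nagata ring (helper7)
-/

set_option autoImplicit false
universe u

namespace Groth.Agent.Lib.NagCurveH7

/-- Curve data over a Japanese Noetherian domain. -/
theorem curve_data {R : Type u} [CommRing R] [IsDomain R] [IsNoetherianRing R]
    (hN2 : CAlg.IsN2 R)
    {D₀ : Type u} [CommRing D₀] [IsDomain D₀] [Algebra R D₀] [Algebra.FiniteType R D₀]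
    (hinj : Function.Injective (algebraMap R D₀))
    (m : Ideal R) [hm : m.IsPrime] (hm0 : m ≠ ⊥) (f₁ : R) (hf₁ : f₁ ∉ m)
    (h3 : ∀ q : Ideal R, q.IsPrime → m ≤ q → f₁ ∉ q → q = m)
    (h4 : ∀ q : Ideal R, q.IsPrime → q ≠ ⊥ → q ≤ m → q = m) :
    ∃ (A : Type u) (_ : CommRing A) (_ : IsDomain A) (_ : IsIntegrallyClosed A)
      (γ : R →+* A) (cA : Ideal A) (sA : A) (ψ' : D₀ →+* Localization.Away sA),
      γ.FiniteType ∧ cA.IsMaximal ∧ cA.comap γ = m ∧ cA.height = 1 ∧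
      (∀ q : Ideal A, q.IsPrime → (sA ∈ q ↔ q = cA)) ∧
      ψ'.comp (algebraMap R D₀) = (algebraMap A (Localization.Away sA)).comp γ := by
  obtain ⟨L, instF, instRL, instKL, instT, instFD, ⟨ψ⟩⟩ := exists_finite_point hinj
  haveI hfin : Module.Finite R (integralClosure R L) := hN2 L instFD
  haveI : IsIntegrallyClosed (integralClosure R L) :=
    integralClosure.isIntegrallyClosedOfFiniteExtension (FractionRing R)
  have hinjL : Function.Injective (algebraMap R L) := by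
    rw [IsScalarTower.algebraMap_eq R (FractionRing R) L]
    exact (algebraMap (FractionRing R) L).injective.comp
      (IsFractionRing.injective R (FractionRing R))
  have hinj' : Function.Injective (algebraMap R (integralClosure R L)) := by
    intro a b hab
    apply hinjL
    exact congrArg Subtype.val hab
  haveI : Algebra.IsAlgebraic (FractionRing R) L := Algebra.IsAlgebraic.of_finite _ _
  haveI : Algebra.IsAlgebraic R (FractionRing R) :=
    IsLocalization.isAlgebraic (FractionRing R) (nonZeroDivisors R)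
  haveI : Algebra.IsAlgebraic R L := Algebra.IsAlgebraic.trans R (FractionRing R) L
  exact curve_data_aux hinj' (integralClosure R L).val.toRingHom Subtype.val_injective
    (fun r => rfl) (fun x hx => ⟨⟨x, hx⟩, rfl⟩) ψ m hm0 f₁ hf₁ h3 h4

/-- Curve data over a Nagata ring, in terms of a finite type ring map `φ₀ : C → B₀`, a prime `𝔷`
of `B₀` and a height one extension `𝔷 ∩ C < t` with `t` closed in `D(f₁)`. -/
theorem curve_data_ring {C B₀ : Type u} [CommRing C] [IsNoetherianRing C] (hN : CAlg.IsNagata C)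
    [CommRing B₀] (φ₀ : C →+* B₀) (hφ₀ : φ₀.FiniteType) (𝔷 : Ideal B₀) [h𝔷 : 𝔷.IsPrime]
    (t : Ideal C) [ht : t.IsPrime] (f₁ : C) (hpt : 𝔷.comap φ₀ ≤ t) (hne : 𝔷.comap φ₀ ≠ t)
    (hf₁ : f₁ ∉ t)
    (h3 : ∀ q : Ideal C, q.IsPrime → t ≤ q → f₁ ∉ q → q = t)
    (h4 : ∀ q : Ideal C, q.IsPrime → 𝔷.comap φ₀ < q → q ≤ t → q = t) :
    ∃ (A : Type u) (_ : CommRing A) (_ : IsDomain A) (_ : IsIntegrallyClosed A)
      (γ : C →+* A) (cA : Ideal A) (sA : A) (ψ' : B₀ →+* Localization.Away sA),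
      γ.FiniteType ∧ cA.IsMaximal ∧ cA.comap γ = t ∧ cA.height = 1 ∧
      (∀ q : Ideal A, q.IsPrime → (sA ∈ q ↔ q = cA)) ∧
      ψ'.comp φ₀ = (algebraMap A (Localization.Away sA)).comp γ ∧ 𝔷 ≤ RingHom.ker ψ' := by
  haveI hpprime : (𝔷.comap φ₀).IsPrime := h𝔷.comap φ₀
  haveI : IsDomain (C ⧸ 𝔷.comap φ₀) := Ideal.Quotient.isDomain _
  haveI : IsDomain (B₀ ⧸ 𝔷) := Ideal.Quotient.isDomain _
  obtain ⟨φb, hφbdef⟩ : ∃ φb : C ⧸ 𝔷.comap φ₀ →+* B₀ ⧸ 𝔷,
      φb = Ideal.quotientMap 𝔷 φ₀ le_rfl := ⟨_, rfl⟩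
  have hφbmk : ∀ c : C, φb (Ideal.Quotient.mk _ c) = Ideal.Quotient.mk 𝔷 (φ₀ c) := by
    intro c
    rw [hφbdef, Ideal.quotientMap_mk]
  have hφbinj : Function.Injective φb := by
    rw [hφbdef]
    exact Ideal.quotientMap_injective
  have hφbft : φb.FiniteType := by
    have h1 : (φb.comp (Ideal.Quotient.mk (𝔷.comap φ₀))).FiniteType := by
      have h2 : φb.comp (Ideal.Quotient.mk (𝔷.comap φ₀)) = (Ideal.Quotient.mk 𝔷).comp φ₀ :=
        RingHom.ext hφbmk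
      rw [h2]
      exact (RingHom.FiniteType.of_surjective _ Ideal.Quotient.mk_surjective).comp hφ₀
    exact RingHom.FiniteType.of_comp_finiteType h1
  letI : Algebra (C ⧸ 𝔷.comap φ₀) (B₀ ⧸ 𝔷) := φb.toAlgebra
  haveI : Algebra.FiniteType (C ⧸ 𝔷.comap φ₀) (B₀ ⧸ 𝔷) := hφbft
  have hinj : Function.Injective (algebraMap (C ⧸ 𝔷.comap φ₀) (B₀ ⧸ 𝔷)) := hφbinj
  haveI hmprime : (t.map (Ideal.Quotient.mk (𝔷.comap φ₀))).IsPrime :=
    Ideal.map_isPrime_of_surjective Ideal.Quotient.mk_surjective (by rw [Ideal.mk_ker]; exact hpt)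
  have hcm := comap_map_mk (𝔷.comap φ₀) t hpt
  have hm0 : t.map (Ideal.Quotient.mk (𝔷.comap φ₀)) ≠ ⊥ := by
    intro h0
    apply hne
    rw [← hcm, h0, ← RingHom.ker_eq_comap_bot, Ideal.mk_ker]
  have hf₁' : Ideal.Quotient.mk (𝔷.comap φ₀) f₁ ∉ t.map (Ideal.Quotient.mk (𝔷.comap φ₀)) := by
    intro hmem
    apply hf₁
    rw [← hcm]
    exact hmem
  have h3R : ∀ q : Ideal (C ⧸ 𝔷.comap φ₀), q.IsPrime →
      t.map (Ideal.Quotient.mk (𝔷.comap φ₀)) ≤ q → Ideal.Quotient.mk (𝔷.comap φ₀) f₁ ∉ q →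
      q = t.map (Ideal.Quotient.mk (𝔷.comap φ₀)) := by
    intro q hq hmq hfq
    have h1 : q.comap (Ideal.Quotient.mk (𝔷.comap φ₀)) = t :=
      h3 _ (hq.comap _) (hcm ▸ Ideal.comap_mono hmq) (fun hmem => hfq hmem)
    rw [← Ideal.map_comap_of_surjective _ Ideal.Quotient.mk_surjective q, h1]
  have h4R : ∀ q : Ideal (C ⧸ 𝔷.comap φ₀), q.IsPrime → q ≠ ⊥ →
      q ≤ t.map (Ideal.Quotient.mk (𝔷.comap φ₀)) →
      q = t.map (Ideal.Quotient.mk (𝔷.comap φ₀)) := by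
    intro q hq hq0 hqm
    have hpq : 𝔷.comap φ₀ ≤ q.comap (Ideal.Quotient.mk (𝔷.comap φ₀)) := by
      intro x hx
      rw [Ideal.mem_comap, Ideal.Quotient.eq_zero_iff_mem.2 hx]
      exact q.zero_mem
    have hne' : q.comap (Ideal.Quotient.mk (𝔷.comap φ₀)) ≠ 𝔷.comap φ₀ := by
      intro he
      apply hq0
      rw [← Ideal.map_comap_of_surjective _ Ideal.Quotient.mk_surjective q, he,
        Ideal.map_quotient_self]
    have h1 : q.comap (Ideal.Quotient.mk (𝔷.comap φ₀)) = t :=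
      h4 _ (hq.comap _) (lt_of_le_of_ne hpq (Ne.symm hne')) (hcm ▸ Ideal.comap_mono hqm)
    rw [← Ideal.map_comap_of_surjective _ Ideal.Quotient.mk_surjective q, h1]
  obtain ⟨A, instA, instD, instIC, γ, cA, sA, ψ', hγ, hcAmax, hcAm, hcAh, hiff, hcomp⟩ :=
    curve_data (hN.2 (𝔷.comap φ₀)) hinj (t.map (Ideal.Quotient.mk (𝔷.comap φ₀))) hm0
      (Ideal.Quotient.mk (𝔷.comap φ₀) f₁) hf₁' h3R h4R
  refine ⟨A, instA, instD, instIC, γ.comp (Ideal.Quotient.mk (𝔷.comap φ₀)), cA, sA,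
    ψ'.comp (Ideal.Quotient.mk 𝔷),
    hγ.comp (RingHom.FiniteType.of_surjective _ Ideal.Quotient.mk_surjective), hcAmax, ?_, hcAh,
    hiff, ?_, ?_⟩
  · rw [← Ideal.comap_comap, hcAm, hcm]
  · refine RingHom.ext fun c => ?_
    have h1 := RingHom.congr_fun hcomp (Ideal.Quotient.mk (𝔷.comap φ₀) c)
    rw [RingHom.comp_apply, RingHom.algebraMap_toAlgebra, hφbmk] at h1
    exact h1
  · intro x hx
    rw [RingHom.mem_ker, RingHom.comp_apply, Ideal.Quotient.eq_zero_iff_mem.2 hx, map_zero]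

end Groth.Agent.Lib.NagCurveH7
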