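import Mathlib

/-!
# A ring is the filtered colimit of its finitely generated subalgebras; Spec version (helper6)
-/

set_option autoImplicit false
universe u

open CategoryTheory CategoryTheory.Limits AlgebraicGeometry

namespace Groth.Agent.Lib.ValCrit

variable (B R : Type u) [CommRing B] [CommRing R] [Algebra B R]

/-- The subalgebra generated by a finite set. -/
abbrev fgSub (s : Finset R) : Subalgebra B R := Algebra.adjoin B (s : Set R)

theorem fgSub_mono {s t : Finset R} (h : s ≤ t) : fgSub B R s ≤ fgSub B R t :=
  Algebra.adjoin_mono (by exact_mod_cast h)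

instance finiteType_fgSub (s : Finset R) : Algebra.FiniteType B (fgSub B R s) :=
  (Subalgebra.fg_iff_finiteType _).1 (Subalgebra.fg_adjoin_finset s)

/-- The diagram of finitely generated subalgebras. -/
noncomputable def fgDiagram : Finset R ⥤ CommRingCat.{u} where
  obj s := CommRingCat.of (fgSub B R s)
  map {s t} h := CommRingCat.ofHom (Subalgebra.inclusion (fgSub_mono B R (leOfHom h))).toRingHom
  map_id s := by
    apply CommRingCat.hom_ext
    ext x
    rfl
  map_comp f g := by
    apply CommRingCat.hom_ext
    ext x
    rfl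

/-- The cocone of inclusions. -/
noncomputable def fgCocone : Cocone (fgDiagram B R) where
  pt := CommRingCat.of R
  ι :=
    { app := fun s => CommRingCat.ofHom (fgSub B R s).val.toRingHom
      naturality := fun s t h => by
        apply CommRingCat.hom_ext
        ext x
        rfl }

theorem fgCocone_ι_apply (s : Finset R) (x : fgSub B R s) :
    (fgCocone B R).ι.app s x = (x : R) := rfl


/-- `R` is the colimit of its finitely generated subalgebras. -/
noncomputable def fgCoconeIsColimit : IsColimit (fgCocone B R) := by
  haveI : ReflectsColimitsOfShape (Finset R) (forget CommRingCat.{u}) :=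
    reflectsColimitsOfShape_of_reflectsIsomorphisms
  refine isColimitOfReflects (forget CommRingCat.{u}) ?_
  refine Types.FilteredColimit.isColimitOf' _ _ ?_ ?_
  · intro x
    refine ⟨{x}, ⟨x, Algebra.subset_adjoin (Finset.mem_coe.2 (Finset.mem_singleton_self x))⟩, rfl⟩
  · intro s x y hxy
    refine ⟨s, 𝟙 s, ?_⟩
    have h1 : ((fgCocone B R).ι.app s x : R) = (fgCocone B R).ι.app s y := hxy
    have h2 : x = y := Subtype.ext h1
    rw [h2]

end Groth.Agent.Lib.ValCrit

namespace Groth.Agent.Lib.ValCrit

variable (B R : Type u) [CommRing B] [CommRing R] [Algebra B R]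

/-- The diagram `s ↦ Spec B[s]`. -/
noncomputable def specDiagram : (Finset R)ᵒᵖ ⥤ Scheme.{u} where
  obj s := Spec (CommRingCat.of (fgSub B R s.unop))
  map h := Spec.map ((fgDiagram B R).map h.unop)
  map_id s := by
    change Spec.map ((fgDiagram B R).map (𝟙 s.unop)) = _
    rw [(fgDiagram B R).map_id]
    exact Spec.map_id _
  map_comp f g := by
    change Spec.map ((fgDiagram B R).map (g.unop ≫ f.unop)) = _
    rw [(fgDiagram B R).map_comp]
    exact Spec.map_comp _ _

/-- The cone with vertex `Spec R`. -/
noncomputable def specCone : Cone (specDiagram B R) where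
  pt := Spec (CommRingCat.of R)
  π :=
    { app := fun s => Spec.map ((fgCocone B R).ι.app s.unop)
      naturality := fun s t h => by
        change 𝟙 _ ≫ Spec.map ((fgCocone B R).ι.app t.unop) =
          Spec.map ((fgCocone B R).ι.app s.unop) ≫ Spec.map ((fgDiagram B R).map h.unop)
        rw [Category.id_comp, ← Spec.map_comp, (fgCocone B R).w] }

/-- `Spec R = lim Spec B[s]`. -/
noncomputable def specConeIsLimit : IsLimit (specCone B R) :=
  show IsLimit (Scheme.Spec.mapCone (fgCocone B R).op) from
    isLimitOfPreserves Scheme.Spec (fgCoconeIsColimit B R).op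

instance isAffineHom_specDiagram_map {s t : (Finset R)ᵒᵖ} (h : s ⟶ t) :
    IsAffineHom ((specDiagram B R).map h) := by
  change IsAffineHom (Spec.map ((fgDiagram B R).map h.unop))
  infer_instance

instance isCofiltered_finset_op : IsCofiltered (Finset R)ᵒᵖ := inferInstance

/-- The structure map `Spec B[s] ⟶ Spec B`. -/
noncomputable def specStr (s : (Finset R)ᵒᵖ) :
    (specDiagram B R).obj s ⟶ Spec (CommRingCat.of B) :=
  Spec.map (CommRingCat.ofHom (algebraMap B (fgSub B R s.unop)))

theorem specDiagram_map_specStr {s t : (Finset R)ᵒᵖ} (h : s ⟶ t) :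
    (specDiagram B R).map h ≫ specStr B R t = specStr B R s := by
  change Spec.map ((fgDiagram B R).map h.unop) ≫
    Spec.map (CommRingCat.ofHom (algebraMap B (fgSub B R t.unop))) =
    Spec.map (CommRingCat.ofHom (algebraMap B (fgSub B R s.unop)))
  rw [← Spec.map_comp]
  rfl

theorem specCone_π_specStr (s : (Finset R)ᵒᵖ) :
    (specCone B R).π.app s ≫ specStr B R s =
      Spec.map (CommRingCat.ofHom (algebraMap B R)) := by
  change Spec.map ((fgCocone B R).ι.app s.unop) ≫
    Spec.map (CommRingCat.ofHom (algebraMap B (fgSub B R s.unop))) = _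
  rw [← Spec.map_comp]
  rfl

end Groth.Agent.Lib.ValCrit
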