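import Mathlib

/-!
# Base change of a cofiltered limit of schemes over a fixed base (helper6)
-/

set_option autoImplicit false
set_option backward.isDefEq.respectTransparency false
universe u

open CategoryTheory CategoryTheory.Limits AlgebraicGeometry

namespace Groth.Agent.Lib.ValCrit

variable {I : Type u} [SmallCategory I] (G : I ⥤ Scheme.{u}) {Y X : Scheme.{u}}
  (t : G ⟶ (Functor.const I).obj Y) (f : X ⟶ Y)

theorem map_comp_t {i j : I} (h : i ⟶ j) : G.map h ≫ t.app j = t.app i := by
  have := t.naturality h
  simpa using this

/-- The diagram `i ↦ G i ×_Y X`. -/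
noncomputable def pbDiagram : I ⥤ Scheme.{u} where
  obj i := pullback (t.app i) f
  map {i j} h := pullback.lift (pullback.fst _ _ ≫ G.map h) (pullback.snd _ _)
    (by rw [Category.assoc, map_comp_t, pullback.condition])
  map_id i := by
    apply pullback.hom_ext <;> simp
  map_comp g h := by
    apply pullback.hom_ext <;> simp

@[reassoc (attr := simp)]
theorem pbDiagram_map_fst {i j : I} (h : i ⟶ j) :
    (pbDiagram G t f).map h ≫ pullback.fst (t.app j) f = pullback.fst (t.app i) f ≫ G.map h := by
  simp [pbDiagram]

@[reassoc (attr := simp)]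
theorem pbDiagram_map_snd {i j : I} (h : i ⟶ j) :
    (pbDiagram G t f).map h ≫ pullback.snd (t.app j) f = pullback.snd (t.app i) f := by
  simp [pbDiagram]

/-- The projection to `G`. -/
noncomputable def pbDiagramFst : pbDiagram G t f ⟶ G where
  app i := pullback.fst (t.app i) f
  naturality i j h := by simp

theorem isPullback_pbDiagram_map {i j : I} (h : i ⟶ j) :
    IsPullback ((pbDiagram G t f).map h) (pullback.fst (t.app i) f) (pullback.fst (t.app j) f)
      (G.map h) := by
  refine IsPullback.of_right ?_ (pbDiagram_map_fst G t f h)
    (IsPullback.of_hasPullback (t.app j) f).flip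
  rw [pbDiagram_map_snd, map_comp_t]
  exact (IsPullback.of_hasPullback (t.app i) f).flip

instance isAffineHom_pbDiagram_map [∀ {i j : I} (h : i ⟶ j), IsAffineHom (G.map h)]
    {i j : I} (h : i ⟶ j) : IsAffineHom ((pbDiagram G t f).map h) :=
  MorphismProperty.of_isPullback (P := @IsAffineHom) (isPullback_pbDiagram_map G t f h).flip
    (inferInstance : IsAffineHom (G.map h))

variable {G t} (c : Cone G) (s : c.pt ⟶ Y) (hs : ∀ i, c.π.app i ≫ t.app i = s)

/-- The cone over `pbDiagram` with vertex `c.pt ×_Y X`. -/
noncomputable def pbCone : Cone (pbDiagram G t f) where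
  pt := pullback s f
  π :=
    { app := fun i => pullback.lift (pullback.fst s f ≫ c.π.app i) (pullback.snd s f)
        (by rw [Category.assoc, hs, pullback.condition])
      naturality := fun i j h => by
        apply pullback.hom_ext <;> simp }

@[reassoc (attr := simp)]
theorem pbCone_π_fst (i : I) :
    (pbCone f c s hs).π.app i ≫ pullback.fst (t.app i) f = pullback.fst s f ≫ c.π.app i := by
  simp [pbCone]

@[reassoc (attr := simp)]
theorem pbCone_π_snd (i : I) :
    (pbCone f c s hs).π.app i ≫ pullback.snd (t.app i) f = pullback.snd s f := by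
  simp [pbCone]

theorem isPullback_pbCone_π (i : I) :
    IsPullback ((pbCone f c s hs).π.app i) (pullback.fst s f) (pullback.fst (t.app i) f)
      (c.π.app i) := by
  refine IsPullback.of_right ?_ (pbCone_π_fst f c s hs i)
    (IsPullback.of_hasPullback (t.app i) f).flip
  rw [pbCone_π_snd, hs]
  exact (IsPullback.of_hasPullback s f).flip

/-- The base change of a limit cone is a limit cone. -/
noncomputable def pbConeIsLimit [IsCofiltered I] (hc : IsLimit c) : IsLimit (pbCone f c s hs) :=
  haveI : IsConnected I := IsCofiltered.isConnected I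
  isLimitOfIsPullbackOfIsConnected (pbDiagramFst G t f) (pbCone f c s hs) c
    { hom := pullback.fst s f
      w := fun i => by simp [pbDiagramFst] }
    (fun i => isPullback_pbCone_π f c s hs i) hc

end Groth.Agent.Lib.ValCrit
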