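import Mathlib
import Groth.Agent.Lib.ValCrit4_helper6

/-!
# Closedness of a base change to a cofiltered limit from closedness at the stages (helper6)
-/

set_option autoImplicit false
set_option backward.isDefEq.respectTransparency false
universe u

open CategoryTheory CategoryTheory.Limits AlgebraicGeometry

namespace Groth.Agent.Lib.ValCrit

variable {I : Type u} [SmallCategory I] [IsCofiltered I] {G : I ⥤ Scheme.{u}}
  [∀ {i j : I} (h : i ⟶ j), IsAffineHom (G.map h)] {Y X : Scheme.{u}}
  {t : G ⟶ (Functor.const I).obj Y} (f : X ⟶ Y) [QuasiCompact f]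
  (c : Cone G) (hc : IsLimit c) (s : c.pt ⟶ Y)

include hc in
/-- If all the stage base changes `G i ×_Y X ⟶ G i` are closed maps, so is the base change to the
limit. -/
theorem isClosedMap_fst_of_limit (hs : ∀ i, c.π.app i ≫ t.app i = s)
    (H : ∀ i, IsClosedMap (pullback.fst (t.app i) f)) :
    IsClosedMap (pullback.fst s f) := by
  intro Z hZ
  rw [← closure_subset_iff_isClosed]
  intro s' hs'
  -- notation
  obtain ⟨τ, hτdef⟩ : ∃ τ : Spec (c.pt.residueField s') ⟶ c.pt,
      τ = c.pt.fromSpecResidueField s' := ⟨_, rfl⟩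
  have hτ : ∀ p, τ p = s' := fun p => by rw [hτdef]; exact Scheme.fromSpecResidueField_apply _ _
  obtain ⟨ρ, hρdef⟩ : ∃ ρ : pullback τ (pullback.fst s f) ⟶ pullback s f,
      ρ = pullback.snd τ (pullback.fst s f) := ⟨_, rfl⟩
  have hleft : IsPullback ρ (pullback.fst τ (pullback.fst s f)) (pullback.fst s f) τ := by
    rw [hρdef]; exact (IsPullback.of_hasPullback τ (pullback.fst s f)).flip
  haveI : CompactSpace ↥(pullback τ (pullback.fst s f)) :=
    QuasiCompact.compactSpace_of_compactSpace (pullback.fst τ (pullback.fst s f))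
  have hpaste : ∀ i, IsPullback (ρ ≫ (pbCone f c s hs).π.app i)
      (pullback.fst τ (pullback.fst s f)) (pullback.fst (t.app i) f) (τ ≫ c.π.app i) :=
    fun i => hleft.paste_horiz (isPullback_pbCone_π f c s hs i)
  -- the closed sets
  let Zi : ∀ i, Set ↥((pbDiagram G t f).obj i) := fun i =>
    closure ((pbCone f c s hs).π.app i '' Z)
  let Z' : I → Set ↥(pullback τ (pullback.fst s f)) := fun i =>
    (ρ ≫ (pbCone f c s hs).π.app i) ⁻¹' Zi i
  have hZ'closed : ∀ i, IsClosed (Z' i) := fun i =>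
    isClosed_closure.preimage (ρ ≫ (pbCone f c s hs).π.app i).continuous
  have hmap : ∀ {i j : I} (h : i ⟶ j), Set.MapsTo ((pbDiagram G t f).map h) (Zi i) (Zi j) := by
    intro i j h
    have h1 : (pbCone f c s hs).π.app j '' Z =
        (pbDiagram G t f).map h '' ((pbCone f c s hs).π.app i '' Z) := by
      rw [← Set.image_comp]
      congr 1
      ext z
      rw [← (pbCone f c s hs).w h]
      rfl
    intro w hw
    have h2 := image_closure_subset_closure_image ((pbDiagram G t f).map h).continuous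
      (s := (pbCone f c s hs).π.app i '' Z) ⟨w, hw, rfl⟩
    change (pbDiagram G t f).map h w ∈ closure ((pbCone f c s hs).π.app j '' Z)
    rw [h1]
    exact h2
  have hmono : ∀ {i j : I} (h : i ⟶ j), Z' i ⊆ Z' j := by
    intro i j h p hp
    change (ρ ≫ (pbCone f c s hs).π.app j) p ∈ Zi j
    rw [← (pbCone f c s hs).w h, ← Category.assoc]
    exact hmap h hp
  have hdir : Directed (· ⊇ ·) Z' := by
    intro i j
    exact ⟨IsCofiltered.min i j, hmono (IsCofiltered.minToLeft i j),
      hmono (IsCofiltered.minToRight i j)⟩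
  have hne : ∀ i, (Z' i).Nonempty := by
    intro i
    -- `c.π.app i s'` lies in the closed set `fst (Zi i)`
    have hcl : IsClosed (pullback.fst (t.app i) f '' Zi i) := H i _ isClosed_closure
    have h1 : c.π.app i '' (pullback.fst s f '' Z) ⊆ pullback.fst (t.app i) f '' Zi i := by
      rintro _ ⟨_, ⟨z, hz, rfl⟩, rfl⟩
      refine ⟨(pbCone f c s hs).π.app i z, subset_closure ⟨z, hz, rfl⟩, ?_⟩
      exact congr($(pbCone_π_fst f c s hs i) z)
    have h2 : c.π.app i s' ∈ pullback.fst (t.app i) f '' Zi i := by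
      have h3 := image_closure_subset_closure_image (c.π.app i).continuous
        (s := pullback.fst s f '' Z) ⟨s', hs', rfl⟩
      exact (closure_minimal h1 hcl) h3
    obtain ⟨w, hw, hwfst⟩ := h2
    obtain ⟨p₀⟩ : Nonempty ↥(Spec (c.pt.residueField s')) := inferInstance
    obtain ⟨p, hp1, -⟩ := Scheme.exists_preimage_of_isPullback (hpaste i) w p₀ (by
      rw [Scheme.Hom.comp_apply, hτ]; exact hwfst)
    exact ⟨p, by change (ρ ≫ (pbCone f c s hs).π.app i) p ∈ Zi i; rw [hp1]; exact hw⟩
  haveI : Nonempty I := IsCofiltered.nonempty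
  obtain ⟨p, hp⟩ := IsCompact.nonempty_iInter_of_directed_nonempty_isCompact_isClosed Z' hdir hne
    (fun i => (hZ'closed i).isCompact) hZ'closed
  rw [Set.mem_iInter] at hp
  refine ⟨ρ p, ?_, ?_⟩
  · -- `ρ p ∈ Z`
    by_contra hnot
    have hbasis := isBasis_preimage_isAffineOpen (pbDiagram G t f) (pbCone f c s hs)
      (pbConeIsLimit f c s hs hc)
    obtain ⟨_, ⟨i, V, -, rfl⟩, hpV, hVZ⟩ :=
      TopologicalSpace.Opens.isBasis_iff_nbhd.mp hbasis
        (U := ⟨Zᶜ, hZ.isOpen_compl⟩) (x := ρ p) hnot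
    have h1 : (ρ ≫ (pbCone f c s hs).π.app i) p ∈ Zi i := hp i
    have h2 : (ρ ≫ (pbCone f c s hs).π.app i) p ∈ (V : Set _) := hpV
    have h3 : Disjoint (V : Set ↥((pbDiagram G t f).obj i))
        ((pbCone f c s hs).π.app i '' Z) := by
      rw [Set.disjoint_left]
      rintro _ hv ⟨z, hz, rfl⟩
      exact (hVZ (show z ∈ (pbCone f c s hs).π.app i ⁻¹ᵁ V from hv)) hz
    have h4 := h3.closure_right V.2
    exact Set.disjoint_left.1 h4 h2 h1
  · rw [← Scheme.Hom.comp_apply, hleft.w, Scheme.Hom.comp_apply, hτ]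

end Groth.Agent.Lib.ValCrit
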