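import Mathlib
import Groth.Agent.Lib.ValCrit3_helper6
import Groth.Agent.Lib.ValCrit5_helper6

/-!
# Universal closedness from closedness after finite type affine base changes (helper6)
-/

set_option autoImplicit false
universe u

open CategoryTheory CategoryTheory.Limits AlgebraicGeometry IsLocalRing

namespace Groth.Agent.Lib.ValCrit

set_option backward.isDefEq.respectTransparency false in
/-- The existence part of the valuative criterion follows from the specialization property of the
base changes to spectra of local rings (copy of Mathlib's `of_specializingMap`). -/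
theorem existence_of_specializing_local {X Y : Scheme.{u}} (f : X ⟶ Y)
    (H : ∀ (R : Type u) [CommRing R] [IsLocalRing R] (g : Spec (CommRingCat.of R) ⟶ Y),
      SpecializingMap (pullback.fst g f)) :
    ValuativeCriterion.Existence f := by
  rintro ⟨R, K, i₁, i₂, ⟨w⟩⟩
  have : IsDomain (CommRingCat.of R) := ‹_›
  have : ValuationRing (CommRingCat.of R) := ‹_›
  let : Field (CommRingCat.of K) := ‹_›
  replace H := H R i₂
  let lft := pullback.lift (Spec.map (CommRingCat.ofHom (algebraMap R K))) i₁ w.symm
  obtain ⟨x, h₁, h₂⟩ := @H (lft (closedPoint _)) _ (specializes_closedPoint (R := R) _)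
  let e : CommRingCat.of R ≅ (Spec <| .of R).presheaf.stalk (pullback.fst i₂ f x) :=
    (stalkClosedPointIso (.of R)).symm ≪≫
      (Spec <| .of R).presheaf.stalkCongr (.of_eq h₂.symm)
  let α := e.hom ≫ (pullback.fst i₂ f).stalkMap x
  have : IsLocalHom e.hom.hom := isLocalHom_of_isIso e.hom
  have : IsLocalHom α.hom := inferInstanceAs
    (IsLocalHom (((pullback.fst i₂ f).stalkMap x).hom.comp e.hom.hom))
  let β := (pullback i₂ f).presheaf.stalkSpecializes h₁ ≫ Scheme.stalkClosedPointTo lft
  have hαβ : α ≫ β = CommRingCat.ofHom (algebraMap R K) := by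
    simp only [CommRingCat.coe_of, Iso.trans_hom, Iso.symm_hom, TopCat.Presheaf.stalkCongr_hom,
      Category.assoc, α, e, β, stalkClosedPointIso_inv, StructureSheaf.toStalk]
    change (Scheme.ΓSpecIso (.of R)).inv ≫ (Spec <| .of R).presheaf.germ _ _ _ ≫ _ = _
    simp only [TopCat.Presheaf.germ_stalkSpecializes_assoc, Scheme.Hom.germ_stalkMap_assoc]
    simp only [TopologicalSpace.Opens.map_top]
    rw [Scheme.germ_stalkClosedPointTo lft ⊤ trivial]
    erw [← Scheme.Hom.comp_app_assoc lft (pullback.fst i₂ f)]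
    rw [pullback.lift_fst]
    simp
  have hbij := (bijective_rangeRestrict_comp_of_valuationRing (R := R) (K := K) α.hom β.hom
    (CommRingCat.hom_ext_iff.mp hαβ))
  let φ : (pullback i₂ f).presheaf.stalk x ⟶ CommRingCat.of R := CommRingCat.ofHom <|
    (RingEquiv.ofBijective _ hbij).symm.toRingHom.comp β.hom.rangeRestrict
  have hαφ : α ≫ φ = 𝟙 _ := by ext x; exact (RingEquiv.ofBijective _ hbij).symm_apply_apply x
  have hαφ' : (pullback.fst i₂ f).stalkMap x ≫ φ = e.inv := by
    rw [← cancel_epi e.hom, ← Category.assoc, hαφ, e.hom_inv_id]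
  have hφβ : φ ≫ CommRingCat.ofHom (algebraMap R K) = β :=
    hαβ ▸ CommRingCat.hom_ext (RingHom.ext fun x ↦ congr_arg Subtype.val
      ((RingEquiv.ofBijective _ hbij).apply_symm_apply (β.hom.rangeRestrict x)))
  refine ⟨⟨⟨Spec.map ((pullback.snd i₂ f).stalkMap x ≫ φ) ≫ X.fromSpecStalk _, ?_, ?_⟩⟩⟩
  · simp only [← Spec.map_comp_assoc, Category.assoc, hφβ]
    simp only [Spec.map_comp, Category.assoc, Scheme.SpecMap_stalkMap_fromSpecStalk,
      Scheme.SpecMap_stalkSpecializes_fromSpecStalk_assoc, β]
    rw [Scheme.Spec_stalkClosedPointTo_fromSpecStalk_assoc]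
    simp [lft]
  · simp only [Spec.map_comp, Category.assoc, Scheme.SpecMap_stalkMap_fromSpecStalk,
      ← pullback.condition]
    rw [← Scheme.SpecMap_stalkMap_fromSpecStalk_assoc, ← Spec.map_comp_assoc, hαφ']
    simp only [Iso.trans_inv, TopCat.Presheaf.stalkCongr_inv, Iso.symm_inv, Spec.map_comp,
      Category.assoc, Scheme.SpecMap_stalkSpecializes_fromSpecStalk_assoc, e]
    rw [← Spec_stalkClosedPointIso, ← Spec.map_comp_assoc,
      Iso.inv_hom_id, Spec.map_id, Category.id_comp]

end Groth.Agent.Lib.ValCrit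

namespace Groth.Agent.Lib.ValCrit

/-- The structure transformation of the diagram `s ↦ Spec B[s]` to `Y`, for `B = Γ(Y, V)`. -/
noncomputable def specT {Y : Scheme.{u}} (V : Y.Opens) (hV : IsAffineOpen V)
    (R : Type u) [CommRing R] [Algebra Γ(Y, V) R] :
    specDiagram Γ(Y, V) R ⟶ (Functor.const _).obj Y where
  app s := specStr Γ(Y, V) R s ≫ hV.fromSpec
  naturality s t h := by
    rw [← Category.assoc, specDiagram_map_specStr]
    simp

/-- Closedness of the base change to `Spec R` from closedness of the base changes to the spectra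
of the finitely generated subalgebras. -/
theorem isClosedMap_fst_of_finiteType {X Y : Scheme.{u}} (f : X ⟶ Y) [QuasiCompact f]
    (V : Y.Opens) (hV : IsAffineOpen V)
    (H : ∀ (C : Type u) [CommRing C] [Algebra Γ(Y, V) C], Algebra.FiniteType Γ(Y, V) C →
      IsClosedMap (pullback.fst
        (Spec.map (CommRingCat.ofHom (algebraMap Γ(Y, V) C)) ≫ hV.fromSpec) f))
    (R : Type u) [CommRing R] [Algebra Γ(Y, V) R] :
    IsClosedMap (pullback.fst
      (Spec.map (CommRingCat.ofHom (algebraMap Γ(Y, V) R)) ≫ hV.fromSpec) f) := by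
  refine isClosedMap_fst_of_limit (G := specDiagram Γ(Y, V) R) (t := specT V hV R) f
    (specCone Γ(Y, V) R) (specConeIsLimit Γ(Y, V) R)
    (Spec.map (CommRingCat.ofHom (algebraMap Γ(Y, V) R)) ≫ hV.fromSpec) ?_ ?_
  · intro i
    change (specCone Γ(Y, V) R).π.app i ≫ specStr Γ(Y, V) R i ≫ hV.fromSpec = _
    rw [← Category.assoc, specCone_π_specStr]
  · intro i
    exact H (fgSub Γ(Y, V) R i.unop) inferInstance

/-- A quasi-compact morphism is universally closed as soon as its base changes to the spectra
of finite type algebras over the affine opens of the target are closed maps. -/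
theorem universallyClosed_of_finiteType_closed {X Y : Scheme.{u}} (f : X ⟶ Y) [QuasiCompact f]
    (H : ∀ (V : Y.Opens) (hV : IsAffineOpen V) (C : Type u) [CommRing C] [Algebra Γ(Y, V) C],
      Algebra.FiniteType Γ(Y, V) C →
      IsClosedMap (pullback.fst
        (Spec.map (CommRingCat.ofHom (algebraMap Γ(Y, V) C)) ≫ hV.fromSpec) f)) :
    UniversallyClosed f := by
  apply UniversallyClosed.of_valuativeCriterion
  apply existence_of_specializing_local
  intro R _ _ g
  obtain ⟨_, ⟨V, hV : IsAffineOpen V, rfl⟩, hy₀, -⟩ :=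
    Y.isBasis_affineOpens.exists_subset_of_mem_open (Set.mem_univ (g (closedPoint R)))
      isOpen_univ
  obtain ⟨ψ, hψdef⟩ : ∃ ψ : Γ(Y, V) ⟶ CommRingCat.of R,
      ψ = Y.presheaf.germ V _ hy₀ ≫ Scheme.stalkClosedPointTo g := ⟨_, rfl⟩
  have hg : Spec.map ψ ≫ hV.fromSpec = g := by
    have h1 := hV.fromSpecStalk_eq_fromSpecStalk hy₀
    unfold IsAffineOpen.fromSpecStalk at h1
    rw [hψdef, Spec.map_comp, Category.assoc, h1, Scheme.Spec_stalkClosedPointTo_fromSpecStalk]
  letI : Algebra Γ(Y, V) R := ψ.hom.toAlgebra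
  have hcl := isClosedMap_fst_of_finiteType f V hV (H V hV) R
  have hcl' : IsClosedMap (pullback.fst g f) := by
    have h2 : Spec.map (CommRingCat.ofHom (algebraMap Γ(Y, V) R)) ≫ hV.fromSpec = g := hg
    rw [← h2]
    exact hcl
  exact hcl'.specializingMap

end Groth.Agent.Lib.ValCrit
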