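import Mathlib
import Groth.Prelude.Def_Found
import Groth.Agent.Lib.NagCurveC_helper7
import Groth.Agent.Lib.ValCrit6_helper6
import Groth.Agent.S0566
import Groth.Agent.S9833

/-!
# Valuative criteria over a Nagata base tested on curves (helper7)
-/

set_option autoImplicit false
universe u

open CategoryTheory CategoryTheory.Limits AlgebraicGeometry Topology

namespace Groth.Agent.Lib.NagCurveH7

/-- The existence part of the valuative criterion tested on germs of normal curves of finite type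
over `S` at closed points. -/
def CurveExistence (S : Scheme.{u}) {X Y : Scheme.{u}} (q : Y ⟶ S) (f : X ⟶ Y) : Prop :=
  ∀ (C : Scheme.{u}) (r : C ⟶ S) [IsIntegral C] [LocallyOfFiniteType r] [QuasiCompact r],
    (∀ x : C, IsIntegrallyClosed (C.presheaf.stalk x)) →
    ∀ (c : C), IsClosed ({c} : Set C) → ringKrullDim (C.presheaf.stalk c) = 1 →
    ∀ (U : C.Opens), (U : Set C) = {c}ᶜ →
    ∀ (u : (U : Scheme.{u}) ⟶ X) (g : C ⟶ Y), g ≫ q = r → u ≫ f = U.ι ≫ g →
    ∀ (k : Spec (CommRingCat.of (FractionRing (C.presheaf.stalk c))) ⟶ (U : Scheme.{u})),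
      k ≫ U.ι = Spec.map (CommRingCat.ofHom (algebraMap (C.presheaf.stalk c)
        (FractionRing (C.presheaf.stalk c)))) ≫ C.fromSpecStalk c →
    ∃ l : Spec (C.presheaf.stalk c) ⟶ X, l ≫ f = C.fromSpecStalk c ≫ g ∧
      Spec.map (CommRingCat.ofHom (algebraMap (C.presheaf.stalk c)
        (FractionRing (C.presheaf.stalk c)))) ≫ l = k ≫ u

/-- Locally of finite type over a locally Noetherian scheme implies locally of finite
presentation. -/
theorem lfp_of_lft_noeth {X Y : Scheme.{u}} (f : X ⟶ Y) [IsLocallyNoetherian Y]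
    [LocallyOfFiniteType f] : LocallyOfFinitePresentation f := by
  rw [HasRingHomProperty.iff_appLE (P := @LocallyOfFinitePresentation)]
  intro U V e
  have h1 := HasRingHomProperty.appLE (P := @LocallyOfFiniteType) f inferInstance U V e
  haveI : IsNoetherianRing Γ(Y, U.1) := IsLocallyNoetherian.component_noetherian U
  exact RingHom.FinitePresentation.of_finiteType.1 h1

/-- Affine opens of a scheme locally of finite type over a Nagata scheme have Nagata rings. -/
theorem nagata_affine (S : Scheme.{u}) (hS : ∀ W : S.affineOpens, CAlg.IsNagata Γ(S, W))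
    {Y : Scheme.{u}} (q : Y ⟶ S) [LocallyOfFiniteType q] (V : Y.Opens) (hV : IsAffineOpen V) :
    CAlg.IsNagata Γ(Y, V) := by
  have hex : ∀ y : Y, ∃ U : Y.Opens, y ∈ U ∧ IsAffineOpen U ∧ CAlg.IsNagata Γ(Y, U) := by
    intro y
    obtain ⟨_, ⟨W, hW : IsAffineOpen W, rfl⟩, hqW, -⟩ :=
      S.isBasis_affineOpens.exists_subset_of_mem_open (Set.mem_univ (q y)) isOpen_univ
    obtain ⟨_, ⟨U, hU : IsAffineOpen U, rfl⟩, hyU, hUW⟩ :=
      Y.isBasis_affineOpens.exists_subset_of_mem_open
        (show y ∈ ((q ⁻¹ᵁ W : Y.Opens) : Set Y) from hqW) (q ⁻¹ᵁ W).isOpen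
    have e : U ≤ q ⁻¹ᵁ W := hUW
    have hft := HasRingHomProperty.appLE (P := @LocallyOfFiniteType) q inferInstance
      ⟨W, hW⟩ ⟨U, hU⟩ e
    letI : Algebra Γ(S, W) Γ(Y, U) := (q.appLE W U e).hom.toAlgebra
    haveI : Algebra.FiniteType Γ(S, W) Γ(Y, U) := hft
    exact ⟨U, hyU, hU, Groth.Agent.S0566.result Γ(S, W) (hS ⟨W, hW⟩) Γ(Y, U)⟩
  choose U hyU hUaff hUN using hex
  exact Groth.Agent.S9833.result Y U
    (eq_top_iff.2 fun y _ => TopologicalSpace.Opens.mem_iSup.2 ⟨y, hyU y⟩) hUaff hUN V hV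

end Groth.Agent.Lib.NagCurveH7
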