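import Mathlib
import Groth.Prelude.Def_Found
import Groth.Agent.Lib.NagCurveD_helper7

/-!
# Valuative criteria over a Nagata base tested on curves: the geometric step (helper7)
-/

set_option autoImplicit false
universe u

open CategoryTheory CategoryTheory.Limits AlgebraicGeometry Topology

namespace Groth.Agent.Lib.NagCurveH7

/-- From algebraic curve data over a chart of the base change, the curve criterion produces a point
of the base change over the closed point of the curve, which is a specialization of a point in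
the image of the chart map. -/
theorem exists_point_of_curve_data (S : Scheme.{u}) [IsLocallyNoetherian S] {X Y : Scheme.{u}}
    (q : Y ⟶ S) [LocallyOfFiniteType q] (f : X ⟶ Y) (H : CurveExistence S q f)
    (C' : Type u) [CommRing C'] (g' : Spec (CommRingCat.of C') ⟶ Y) [LocallyOfFiniteType g']
    (U₀ : (pullback g' f).Opens) (hU₀ : IsAffineOpen U₀)
    (φ₀ : CommRingCat.of C' ⟶ Γ(pullback g' f, U₀))
    (hφ₀ : Spec.map φ₀ = hU₀.fromSpec ≫ pullback.fst g' f)
    (A : Type u) [CommRing A] [IsDomain A] [IsIntegrallyClosed A] (γ : C' →+* A)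
    (hγ : γ.FiniteType) (cA : Ideal A) (hcAmax : cA.IsMaximal) (hcAh : cA.height = 1) (sA : A)
    (hiff : ∀ q : Ideal A, q.IsPrime → (sA ∈ q ↔ q = cA))
    (ψ' : Γ(pullback g' f, U₀) →+* Localization.Away sA)
    (hcomp : ψ'.comp φ₀.hom = (algebraMap A (Localization.Away sA)).comp γ) :
    ∃ x' : ↥(pullback g' f),
      (∃ v : Spec (CommRingCat.of (Localization.Away sA)),
        (Spec.map (CommRingCat.ofHom ψ') ≫ hU₀.fromSpec) v ⤳ x') ∧
      ((pullback.fst g' f) x').asIdeal = cA.comap γ := by
  classical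
  haveI hcAprime : cA.IsPrime := hcAmax.isPrime
  -- the curve
  obtain ⟨gC, hgCdef⟩ : ∃ gC : Spec (CommRingCat.of A) ⟶ Spec (CommRingCat.of C'),
      gC = Spec.map (CommRingCat.ofHom γ) := ⟨_, rfl⟩
  haveI : LocallyOfFiniteType gC := by
    rw [hgCdef, HasRingHomProperty.Spec_iff (P := @LocallyOfFiniteType)]
    exact hγ
  haveI : IsIntegral (Spec (CommRingCat.of A)) := inferInstance
  haveI : LocallyOfFiniteType ((gC ≫ g') ≫ q) := inferInstance
  haveI : QuasiCompact ((gC ≫ g') ≫ q) := inferInstance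
  obtain ⟨c, hcdef⟩ : ∃ c : Spec (CommRingCat.of A), c = ⟨cA, hcAprime⟩ := ⟨_, rfl⟩
  have hcI : c.asIdeal = cA := by rw [hcdef]
  have hcclosed : IsClosed ({c} : Set (Spec (CommRingCat.of A))) := by
    have hmax : c.asIdeal.IsMaximal := by rw [hcI]; exact hcAmax
    exact (PrimeSpectrum.isClosed_singleton_iff_isMaximal (c : PrimeSpectrum A)).2 hmax
  have hnorm : ∀ x : Spec (CommRingCat.of A),
      IsIntegrallyClosed ((Spec (CommRingCat.of A)).presheaf.stalk x) := by
    intro x
    letI : Algebra A ((Spec (CommRingCat.of A)).presheaf.stalk x) :=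
      StructureSheaf.stalkAlgebra A x
    haveI : IsLocalization.AtPrime ((Spec (CommRingCat.of A)).presheaf.stalk x) x.asIdeal :=
      StructureSheaf.IsLocalization.to_stalk (CommRingCat.of A) x
    exact isIntegrallyClosed_of_isLocalization ((Spec (CommRingCat.of A)).presheaf.stalk x)
      x.asIdeal.primeCompl
      (le_nonZeroDivisors_of_noZeroDivisors (fun h0 => h0 x.asIdeal.zero_mem))
  have hdim : ringKrullDim ((Spec (CommRingCat.of A)).presheaf.stalk c) = 1 := by
    letI : Algebra A ((Spec (CommRingCat.of A)).presheaf.stalk c) :=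
      StructureSheaf.stalkAlgebra A c
    haveI : IsLocalization.AtPrime ((Spec (CommRingCat.of A)).presheaf.stalk c) c.asIdeal :=
      StructureSheaf.IsLocalization.to_stalk (CommRingCat.of A) c
    rw [IsLocalization.AtPrime.ringKrullDim_eq_height c.asIdeal
      ((Spec (CommRingCat.of A)).presheaf.stalk c), hcI, hcAh]
    rfl
  obtain ⟨U, hUdef⟩ : ∃ U : (Spec (CommRingCat.of A)).Opens,
      U = ⟨{c}ᶜ, hcclosed.isOpen_compl⟩ := ⟨_, rfl⟩
  have hUc : (U : Set (Spec (CommRingCat.of A))) = {c}ᶜ := by rw [hUdef]; rfl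
  -- the open immersion `j`
  obtain ⟨j, hjdef⟩ : ∃ j : Spec (CommRingCat.of (Localization.Away sA)) ⟶ Spec (CommRingCat.of A),
      j = Spec.map (CommRingCat.ofHom (algebraMap A (Localization.Away sA))) := ⟨_, rfl⟩
  haveI : IsOpenImmersion j := by rw [hjdef]; infer_instance
  have hjrange : Set.range j = (U : Set (Spec (CommRingCat.of A))) := by
    have h1 : Set.range j = (PrimeSpectrum.basicOpen sA : Set (PrimeSpectrum A)) := by
      rw [hjdef]
      exact PrimeSpectrum.localization_away_comap_range (Localization.Away sA) sA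
    rw [h1, hUc]
    apply Set.ext
    intro x
    have hx1 : x ∈ (PrimeSpectrum.basicOpen sA : Set (PrimeSpectrum A)) ↔ sA ∉ x.asIdeal :=
      PrimeSpectrum.mem_basicOpen sA x
    have hx2 : sA ∈ x.asIdeal ↔ x.asIdeal = cA := hiff x.asIdeal x.isPrime
    have hx3 : x = c ↔ x.asIdeal = cA :=
      ⟨fun h => by rw [h, hcI], fun h => PrimeSpectrum.ext (h.trans hcI.symm)⟩
    constructor
    · intro hx hxc
      exact (hx1.1 hx) (hx2.2 (hx3.1 hxc))
    · intro hx
      exact hx1.2 (fun hs => hx (hx3.2 (hx2.1 hs)))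
  have hrange : Set.range U.ι = Set.range j := by rw [hjrange, Scheme.Opens.range_ι]
  obtain ⟨e, hedef⟩ : ∃ e : (U : Scheme.{u}) ≅ Spec (CommRingCat.of (Localization.Away sA)),
      e = IsOpenImmersion.isoOfRangeEq U.ι j hrange := ⟨_, rfl⟩
  have he : e.hom ≫ j = U.ι := by
    rw [hedef]
    exact IsOpenImmersion.isoOfRangeEq_hom_fac _ _ _
  -- the map to the base change
  obtain ⟨w, hwdef⟩ : ∃ w : Spec (CommRingCat.of (Localization.Away sA)) ⟶ pullback g' f,
      w = Spec.map (CommRingCat.ofHom ψ') ≫ hU₀.fromSpec := ⟨_, rfl⟩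
  have hwf : w ≫ pullback.fst g' f = j ≫ gC := by
    rw [hwdef, Category.assoc, ← hφ₀, ← Spec.map_comp, hjdef, hgCdef, ← Spec.map_comp]
    congr 1
    apply CommRingCat.hom_ext
    exact hcomp
  have hu : (e.hom ≫ w ≫ pullback.snd g' f) ≫ f = U.ι ≫ gC ≫ g' := by
    rw [Category.assoc, Category.assoc, ← pullback.condition, ← Category.assoc w, hwf,
      Category.assoc, ← Category.assoc e.hom, he]
  -- the generic point
  have hξ : Set.range (Spec.map (CommRingCat.ofHom (algebraMap
      ((Spec (CommRingCat.of A)).presheaf.stalk c)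
      (FractionRing ((Spec (CommRingCat.of A)).presheaf.stalk c)))) ≫
      (Spec (CommRingCat.of A)).fromSpecStalk c) ⊆ Set.range U.ι := by
    rw [Scheme.Opens.range_ι, hUc]
    rintro _ ⟨v, rfl⟩
    rw [Set.mem_compl_iff, Set.mem_singleton_iff]
    intro hv
    rw [Scheme.Hom.comp_apply] at hv
    have hcl : (Spec (CommRingCat.of A)).fromSpecStalk c
        (IsLocalRing.closedPoint ((Spec (CommRingCat.of A)).presheaf.stalk c)) = c :=
      Scheme.fromSpecStalk_closedPoint
    have hinj := ((Spec (CommRingCat.of A)).fromSpecStalk c).isEmbedding.injective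
    have h1 := hinj (hv.trans hcl.symm)
    have h2 : (IsLocalRing.maximalIdeal ((Spec (CommRingCat.of A)).presheaf.stalk c)) =
        Ideal.comap (algebraMap ((Spec (CommRingCat.of A)).presheaf.stalk c)
          (FractionRing ((Spec (CommRingCat.of A)).presheaf.stalk c))) v.asIdeal :=
      (congrArg PrimeSpectrum.asIdeal h1).symm
    have h3 : v.asIdeal = ⊥ := by
      have := v.isPrime
      exact (Ideal.eq_bot_or_top v.asIdeal).resolve_right this.ne_top
    rw [h3, Ideal.comap_bot_of_injective _ (IsFractionRing.injective _ _)] at h2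
    have h4 := IsLocalRing.maximalIdeal_height_eq_ringKrullDim
      (R := (Spec (CommRingCat.of A)).presheaf.stalk c)
    rw [h2, Ideal.height_bot, hdim] at h4
    exact zero_ne_one (WithBot.coe_injective h4)
  obtain ⟨k, hkdef⟩ : ∃ k : Spec (CommRingCat.of
      (FractionRing ((Spec (CommRingCat.of A)).presheaf.stalk c))) ⟶ (U : Scheme.{u}),
      k = IsOpenImmersion.lift U.ι _ hξ := ⟨_, rfl⟩
  have hk : k ≫ U.ι = Spec.map (CommRingCat.ofHom (algebraMap
      ((Spec (CommRingCat.of A)).presheaf.stalk c)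
      (FractionRing ((Spec (CommRingCat.of A)).presheaf.stalk c)))) ≫
      (Spec (CommRingCat.of A)).fromSpecStalk c := by
    rw [hkdef]
    exact IsOpenImmersion.lift_fac _ _ _
  -- apply the criterion
  obtain ⟨l, hl1, hl2⟩ := H (Spec (CommRingCat.of A)) ((gC ≫ g') ≫ q) hnorm c hcclosed hdim U hUc
    (e.hom ≫ w ≫ pullback.snd g' f) (gC ≫ g') rfl hu k hk
  obtain ⟨l', hl'def⟩ : ∃ l' : Spec ((Spec (CommRingCat.of A)).presheaf.stalk c) ⟶ pullback g' f,
      l' = pullback.lift ((Spec (CommRingCat.of A)).fromSpecStalk c ≫ gC) l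
        (by rw [Category.assoc]; exact hl1.symm) := ⟨_, rfl⟩
  have hl'1 : l' ≫ pullback.fst g' f = (Spec (CommRingCat.of A)).fromSpecStalk c ≫ gC := by
    rw [hl'def]; exact pullback.lift_fst _ _ _
  have hl'2 : l' ≫ pullback.snd g' f = l := by
    rw [hl'def]; exact pullback.lift_snd _ _ _
  have hgen : Spec.map (CommRingCat.ofHom (algebraMap
      ((Spec (CommRingCat.of A)).presheaf.stalk c)
      (FractionRing ((Spec (CommRingCat.of A)).presheaf.stalk c)))) ≫ l' = k ≫ e.hom ≫ w := by
    apply pullback.hom_ext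
    · rw [Category.assoc, hl'1, ← Category.assoc, ← hk, Category.assoc, Category.assoc,
        Category.assoc, hwf, ← Category.assoc e.hom, he]
    · rw [Category.assoc, hl'2, hl2, Category.assoc, Category.assoc]
  refine ⟨l' (IsLocalRing.closedPoint ((Spec (CommRingCat.of A)).presheaf.stalk c)),
    ⟨(k ≫ e.hom) (IsLocalRing.closedPoint
      (FractionRing ((Spec (CommRingCat.of A)).presheaf.stalk c))), ?_⟩, ?_⟩
  · have h1 := (IsLocalRing.specializes_closedPoint
      (R := (Spec (CommRingCat.of A)).presheaf.stalk c)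
      (Spec.map (CommRingCat.ofHom (algebraMap
        ((Spec (CommRingCat.of A)).presheaf.stalk c)
        (FractionRing ((Spec (CommRingCat.of A)).presheaf.stalk c))))
        (IsLocalRing.closedPoint
          (FractionRing ((Spec (CommRingCat.of A)).presheaf.stalk c))))).map l'.continuous
    rw [← Scheme.Hom.comp_apply, hgen] at h1
    rw [← hwdef, ← Scheme.Hom.comp_apply, Category.assoc]
    exact h1
  · rw [← Scheme.Hom.comp_apply, hl'1, Scheme.Hom.comp_apply, Scheme.fromSpecStalk_closedPoint,
      hgCdef, ← hcI]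
    rfl

end Groth.Agent.Lib.NagCurveH7
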