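import Mathlib
import Groth.Prelude.Def_Found
import Groth.Agent.Lib.NagCurveE_helper7

/-!
# Valuative criteria over a Nagata base tested on curves: universal closedness (helper7)
-/

set_option autoImplicit false
universe u

open CategoryTheory CategoryTheory.Limits AlgebraicGeometry Topology

namespace Groth.Agent.Lib.NagCurveH7

/-- The base change of `f` to the spectrum of a Nagata ring of finite type over `Y` is
specializing, when `f` satisfies the curve criterion. -/
theorem specializingMap_fst (S : Scheme.{u}) [IsLocallyNoetherian S] {X Y : Scheme.{u}}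
    (q : Y ⟶ S) [LocallyOfFiniteType q] (f : X ⟶ Y) [LocallyOfFiniteType f] [QuasiCompact f]
    (H : CurveExistence S q f) (C' : Type u) [CommRing C'] [IsNoetherianRing C']
    (hN : CAlg.IsNagata C') (g' : Spec (CommRingCat.of C') ⟶ Y) [LocallyOfFiniteType g'] :
    SpecializingMap (pullback.fst g' f) := by
  classical
  haveI : IsLocallyNoetherian (pullback g' f) :=
    LocallyOfFiniteType.isLocallyNoetherian (pullback.fst g' f)
  haveI : CompactSpace ↥(pullback g' f) :=
    QuasiCompact.compactSpace_of_compactSpace (pullback.fst g' f)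
  haveI : IsNoetherian (pullback g' f) := {}
  haveI : LocallyOfFinitePresentation (pullback.fst g' f) := lfp_of_lft_noeth _
  intro x y' hsp
  by_contra hcon
  have hZc : IsConstructible (closure {x} : Set ↥(pullback g' f)) := by
    rw [← isConstructible_compl]
    refine IsRetrocompact.isConstructible isClosed_closure.isOpen_compl ?_
    intro V _ _
    exact TopologicalSpace.NoetherianSpace.isCompact _
  have hEc : IsConstructible ((pullback.fst g' f) '' closure {x}) :=
    (pullback.fst g' f).isConstructible_image hZc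
  have hxE : (pullback.fst g' f) x ∈ (pullback.fst g' f) '' closure {x} :=
    ⟨x, subset_closure rfl, rfl⟩
  have hy'E : y' ∉ (pullback.fst g' f) '' closure {x} := by
    rintro ⟨x', hx'Z, rfl⟩
    exact hcon ⟨x', specializes_iff_mem_closure.2 hx'Z, rfl⟩
  have hle : ((pullback.fst g' f) x).asIdeal ≤ y'.asIdeal :=
    (PrimeSpectrum.le_iff_specializes _ _).2 hsp
  obtain ⟨p, t, f₁, hpE, htE, hpt, hf₁, h3, h4⟩ := exists_curve_primes (C := C')
    ((pullback.fst g' f) '' closure {x}) hEc ((pullback.fst g' f) x) y' hxE hle hy'E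
  obtain ⟨z, hzZ, hzp⟩ := hpE
  obtain ⟨_, ⟨U₀, hU₀ : IsAffineOpen U₀, rfl⟩, hzU₀, -⟩ :=
    (pullback g' f).isBasis_affineOpens.exists_subset_of_mem_open (Set.mem_univ z) isOpen_univ
  obtain ⟨φ₀, hφ₀⟩ : ∃ φ₀ : CommRingCat.of C' ⟶ Γ(pullback g' f, U₀),
      Spec.map φ₀ = hU₀.fromSpec ≫ pullback.fst g' f := ⟨Spec.preimage _, Spec.map_preimage _⟩
  have hφ₀ft : φ₀.hom.FiniteType := by
    have : LocallyOfFiniteType (Spec.map φ₀) := by rw [hφ₀]; infer_instance
    exact (HasRingHomProperty.Spec_iff (P := @LocallyOfFiniteType)).1 this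
  obtain ⟨𝔷, h𝔷⟩ : ∃ 𝔷 : Spec Γ(pullback g' f, U₀), hU₀.fromSpec 𝔷 = z := by
    have : z ∈ Set.range hU₀.fromSpec := by rw [hU₀.range_fromSpec]; exact hzU₀
    exact this
  have h1 : (Spec.map φ₀) 𝔷 = p := by
    rw [hφ₀, Scheme.Hom.comp_apply, h𝔷, hzp]
  have h2 : 𝔷.asIdeal.comap φ₀.hom = p.asIdeal := congrArg PrimeSpectrum.asIdeal h1
  haveI : 𝔷.asIdeal.IsPrime := 𝔷.isPrime
  haveI : t.asIdeal.IsPrime := t.isPrime
  have hne : 𝔷.asIdeal.comap φ₀.hom ≠ t.asIdeal := by
    intro he
    apply htE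
    have : p = t := PrimeSpectrum.ext (h2.symm.trans he)
    rw [← this]
    exact ⟨z, hzZ, hzp⟩
  obtain ⟨A, instA, instD, instIC, γ, cA, sA, ψ', hγ, hcAmax, hcAt, hcAh, hiff, hcomp, hker⟩ :=
    curve_data_ring hN φ₀.hom hφ₀ft 𝔷.asIdeal t.asIdeal f₁ (h2 ▸ hpt) hne hf₁ h3 (h2 ▸ h4)
  obtain ⟨x', ⟨v, hv⟩, hx'⟩ := exists_point_of_curve_data S q f H C' g' U₀ hU₀ φ₀ hφ₀ A γ hγ cA
    hcAmax hcAh sA hiff ψ' hcomp
  apply htE
  refine ⟨x', ?_, ?_⟩
  · have h3 : z ⤳ (Spec.map (CommRingCat.ofHom ψ') ≫ hU₀.fromSpec) v := by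
      rw [Scheme.Hom.comp_apply, ← h𝔷]
      apply Specializes.map _ hU₀.fromSpec.continuous
      refine (PrimeSpectrum.le_iff_specializes (𝔷 : PrimeSpectrum Γ(pullback g' f, U₀)) _).1 ?_
      change 𝔷.asIdeal ≤ Ideal.comap ψ' v.asIdeal
      intro b hb
      rw [Ideal.mem_comap, (RingHom.mem_ker).1 (hker hb)]
      exact v.asIdeal.zero_mem
    exact isClosed_closure.stableUnderSpecialization (h3.trans hv) hzZ
  · exact PrimeSpectrum.ext (hx'.trans hcAt)

/-- **Main theorem**: over a Nagata base, a quasi-compact morphism between schemes locally of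
finite type satisfying the curve criterion is universally closed. -/
theorem universallyClosed_of_curveExistence (S : Scheme.{u})
    (hS : ∀ W : S.affineOpens, CAlg.IsNagata Γ(S, W))
    {X Y : Scheme.{u}} (p : X ⟶ S) (q : Y ⟶ S) [LocallyOfFiniteType p] [LocallyOfFiniteType q]
    (f : X ⟶ Y) (hf : f ≫ q = p) [QuasiCompact f] (H : CurveExistence S q f) :
    UniversallyClosed f := by
  haveI : IsLocallyNoetherian S := ⟨fun W => (hS W).1⟩
  haveI : LocallyOfFiniteType f := by
    haveI : LocallyOfFiniteType (f ≫ q) := by rw [hf]; infer_instance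
    exact locallyOfFiniteType_of_comp f q
  apply Groth.Agent.Lib.ValCrit.universallyClosed_of_finiteType_closed
  intro V hV C' _ _ hC'
  have hNV := nagata_affine S hS q V hV
  have hNC : CAlg.IsNagata C' := Groth.Agent.S0566.result Γ(Y, V) hNV C'
  haveI : IsNoetherianRing C' := hNC.1
  haveI : LocallyOfFiniteType (Spec.map (CommRingCat.ofHom (algebraMap Γ(Y, V) C'))) := by
    rw [HasRingHomProperty.Spec_iff (P := @LocallyOfFiniteType)]
    exact RingHom.finiteType_algebraMap.mpr hC'
  rw [isClosedMap_iff_specializingMap]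
  exact specializingMap_fst S q f H C' hNC _

end Groth.Agent.Lib.NagCurveH7
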