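import Mathlib
import Groth.Prelude.Def_Found
import Groth.Agent.Lib.NagCurveF_helper7

/-!
# Valuative criteria over a Nagata base tested on curves: converse directions and
separatedness (helper7)
-/

set_option autoImplicit false
universe u

open CategoryTheory CategoryTheory.Limits AlgebraicGeometry Topology

namespace Groth.Agent.Lib.NagCurveH7

/-- The local ring of a normal integral scheme of finite type over a Nagata scheme at a point of
codimension one is a valuation ring. -/
theorem valuationRing_stalk (S : Scheme.{u}) (hS : ∀ W : S.affineOpens, CAlg.IsNagata Γ(S, W))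
    {C : Scheme.{u}} (r : C ⟶ S) [IsIntegral C] [LocallyOfFiniteType r] (c : C)
    (hnorm : IsIntegrallyClosed (C.presheaf.stalk c))
    (hdim : ringKrullDim (C.presheaf.stalk c) = 1) : ValuationRing (C.presheaf.stalk c) := by
  haveI : IsLocallyNoetherian S := ⟨fun W => (hS W).1⟩
  haveI : IsLocallyNoetherian C := LocallyOfFiniteType.isLocallyNoetherian r
  haveI : Ring.KrullDimLE 1 (C.presheaf.stalk c) := by
    rw [Ring.krullDimLE_iff, hdim]
    rfl
  have h13 : ValuationRing (C.presheaf.stalk c) ↔
      (IsIntegrallyClosed (C.presheaf.stalk c) ∧ ∀ P : Ideal (C.presheaf.stalk c), P ≠ ⊥ →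
        P.IsPrime → P = IsLocalRing.maximalIdeal (C.presheaf.stalk c)) :=
    (tfae_of_isNoetherianRing_of_isLocalRing_of_isDomain (C.presheaf.stalk c)).out 1 3
  exact h13.2 ⟨hnorm, fun P hP0 hP => IsLocalRing.eq_maximalIdeal (hP.isMaximal_of_ne_bot hP0)⟩

/-- Universally closed morphisms satisfy the curve criterion. -/
theorem curveExistence_of_universallyClosed (S : Scheme.{u})
    (hS : ∀ W : S.affineOpens, CAlg.IsNagata Γ(S, W)) {X Y : Scheme.{u}} (q : Y ⟶ S) (f : X ⟶ Y)
    [UniversallyClosed f] : CurveExistence S q f := by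
  intro C r _ _ _ hnorm c hc hdim U hU u g hg hu k hk
  haveI := valuationRing_stalk S hS r c (hnorm c) hdim
  have hE : ValuativeCriterion.Existence f := by
    have h1 : (ValuativeCriterion.Existence ⊓ @QuasiCompact) f := by
      rw [← UniversallyClosed.eq_valuativeCriterion]; infer_instance
    exact h1.1
  let Sq : ValuativeCommSq f :=
    { R := C.presheaf.stalk c
      commRing := (C.presheaf.stalk c).commRing
      domain := inferInstance
      valuationRing := inferInstance
      K := FractionRing (C.presheaf.stalk c)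
      i₁ := k ≫ u
      i₂ := C.fromSpecStalk c ≫ g
      commSq := ⟨by rw [Category.assoc, hu, ← Category.assoc, hk, Category.assoc]⟩ }
  obtain ⟨l, hl₁, hl₂⟩ := (hE Sq).exists_lift
  exact ⟨l, hl₂, hl₁⟩

/-- The uniqueness part of the valuative criterion tested on germs of normal curves of finite type
over `S` at closed points. -/
def CurveUniqueness (S : Scheme.{u}) {X Y : Scheme.{u}} (q : Y ⟶ S) (f : X ⟶ Y) : Prop :=
  ∀ (C : Scheme.{u}) (r : C ⟶ S) [IsIntegral C] [LocallyOfFiniteType r] [QuasiCompact r],
    (∀ x : C, IsIntegrallyClosed (C.presheaf.stalk x)) →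
    ∀ (c : C), IsClosed ({c} : Set C) → ringKrullDim (C.presheaf.stalk c) = 1 →
    ∀ (U : C.Opens), (U : Set C) = {c}ᶜ →
    ∀ (u : (U : Scheme.{u}) ⟶ X) (g : C ⟶ Y), g ≫ q = r → u ≫ f = U.ι ≫ g →
    ∀ (k : Spec (CommRingCat.of (FractionRing (C.presheaf.stalk c))) ⟶ (U : Scheme.{u})),
      k ≫ U.ι = Spec.map (CommRingCat.ofHom (algebraMap (C.presheaf.stalk c)
        (FractionRing (C.presheaf.stalk c)))) ≫ C.fromSpecStalk c →
    ∀ l l' : Spec (C.presheaf.stalk c) ⟶ X,
      l ≫ f = C.fromSpecStalk c ≫ g →
      Spec.map (CommRingCat.ofHom (algebraMap (C.presheaf.stalk c)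
        (FractionRing (C.presheaf.stalk c)))) ≫ l = k ≫ u →
      l' ≫ f = C.fromSpecStalk c ≫ g →
      Spec.map (CommRingCat.ofHom (algebraMap (C.presheaf.stalk c)
        (FractionRing (C.presheaf.stalk c)))) ≫ l' = k ≫ u → l = l'

/-- Separated morphisms satisfy the uniqueness curve criterion. -/
theorem curveUniqueness_of_isSeparated (S : Scheme.{u})
    (hS : ∀ W : S.affineOpens, CAlg.IsNagata Γ(S, W)) {X Y : Scheme.{u}} (q : Y ⟶ S) (f : X ⟶ Y)
    [IsSeparated f] : CurveUniqueness S q f := by
  intro C r _ _ _ hnorm c hc hdim U hU u g hg hu k hk l l' h1 h2 h1' h2'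
  haveI := valuationRing_stalk S hS r c (hnorm c) hdim
  have hUq : ValuativeCriterion.Uniqueness f := IsSeparated.valuativeCriterion f
  let Sq : ValuativeCommSq f :=
    { R := C.presheaf.stalk c
      commRing := (C.presheaf.stalk c).commRing
      domain := inferInstance
      valuationRing := inferInstance
      K := FractionRing (C.presheaf.stalk c)
      i₁ := k ≫ u
      i₂ := C.fromSpecStalk c ≫ g
      commSq := ⟨by rw [Category.assoc, hu, ← Category.assoc, hk, Category.assoc]⟩ }
  haveI := hUq Sq
  exact congrArg CommSq.LiftStruct.l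
    (Subsingleton.elim (⟨l, h2, h1⟩ : Sq.commSq.LiftStruct) ⟨l', h2', h1'⟩)

/-- Over a Nagata base, the uniqueness curve criterion implies separatedness. -/
theorem isSeparated_of_curveUniqueness (S : Scheme.{u})
    (hS : ∀ W : S.affineOpens, CAlg.IsNagata Γ(S, W))
    {X Y : Scheme.{u}} (p : X ⟶ S) (q : Y ⟶ S) [LocallyOfFiniteType p] [LocallyOfFiniteType q]
    (f : X ⟶ Y) (hf : f ≫ q = p) (H : CurveUniqueness S q f) : IsSeparated f := by
  haveI : IsLocallyNoetherian S := ⟨fun W => (hS W).1⟩
  haveI : IsLocallyNoetherian X := LocallyOfFiniteType.isLocallyNoetherian p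
  haveI : LocallyOfFiniteType f := by
    haveI : LocallyOfFiniteType (f ≫ q) := by rw [hf]; infer_instance
    exact locallyOfFiniteType_of_comp f q
  haveI : QuasiSeparated f := inferInstance
  haveI : QuasiCompact (pullback.diagonal f) := QuasiSeparated.quasiCompact_diagonal
  haveI : LocallyOfFiniteType (pullback.fst f f ≫ p) := inferInstance
  have hΔ : pullback.diagonal f ≫ pullback.fst f f ≫ p = p := by
    rw [← Category.assoc, pullback.diagonal_fst, Category.id_comp]
  have HE : CurveExistence S (pullback.fst f f ≫ p) (pullback.diagonal f) := by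
    intro C r _ _ _ hnorm c hc hdim U hU u g hg hu k hk
    have hua : U.ι ≫ g ≫ pullback.fst f f = u := by
      rw [← Category.assoc, ← hu, Category.assoc, pullback.diagonal_fst, Category.comp_id]
    have hub : U.ι ≫ g ≫ pullback.snd f f = u := by
      rw [← Category.assoc, ← hu, Category.assoc, pullback.diagonal_snd, Category.comp_id]
    have hgY : (g ≫ pullback.fst f f ≫ f) ≫ q = r := by
      rw [← hg, Category.assoc, Category.assoc, hf]
    have huY : u ≫ f = U.ι ≫ g ≫ pullback.fst f f ≫ f := by
      rw [← hua]
      simp only [Category.assoc]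
    have key := H C r hnorm c hc hdim U hU u (g ≫ pullback.fst f f ≫ f) hgY huY k hk
      (C.fromSpecStalk c ≫ g ≫ pullback.fst f f) (C.fromSpecStalk c ≫ g ≫ pullback.snd f f)
      (by simp only [Category.assoc])
      (by rw [← Category.assoc, ← hk, Category.assoc, hua])
      (by simp only [Category.assoc]; rw [pullback.condition])
      (by rw [← Category.assoc, ← hk, Category.assoc, hub])
    refine ⟨C.fromSpecStalk c ≫ g ≫ pullback.fst f f, ?_, ?_⟩
    · apply pullback.hom_ext
      · simp only [Category.assoc, pullback.diagonal_fst, Category.comp_id]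
      · rw [Category.assoc, pullback.diagonal_snd, Category.comp_id, key]
        simp only [Category.assoc]
    · rw [← Category.assoc, ← hk, Category.assoc, hua]
  have hUC := universallyClosed_of_curveExistence S hS p (pullback.fst f f ≫ p)
    (pullback.diagonal f) hΔ HE
  haveI : IsClosedImmersion (pullback.diagonal f) :=
    IsClosedImmersion.of_isPreimmersion _ (pullback.diagonal f).isClosedMap.isClosed_range
  exact ⟨inferInstance⟩

end Groth.Agent.Lib.NagCurveH7
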