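import Mathlib
import Groth.Agent.Lib.CTens6_helper3
import Groth.Agent.Lib.CTens7_helper3
import Groth.Agent.Lib.ComplTensor_helper3

/-!
# Nagata's criterion TFAE (S3851), part 1 (helper3): completed base change along a finite map

* `ringHom_ext_adic`: two ring maps out of an adic completion into a Hausdorff ring agreeing on the
  dense subring agree.
* `CBC`: for Noetherian local `k`-algebras `A`, `B` with residue fields finite over `k`, an ideal
  `J` of `A` and a finite `B`-algebra structure on `A/J` (compatible with `k`, local), the completed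
  tensor products `A' = A ⊗̂_k k'` and `B' = B ⊗̂_k k'` satisfy `A'/JA' ≃ B' ⊗_B A/J`.
APPEND-ONLY once landed.
-/

set_option autoImplicit false

namespace Groth.Agent.Lib.NagTfaeH3

open TensorProduct IsLocalRing
open Groth.Agent.Lib.CTensH3 Groth.Agent.Lib.ComplTensorH3

universe u

section Ext

variable {C : Type u} [CommRing C] (K : Ideal C)

/-- uniqueness of extensions from a dense subring -/
theorem ringHom_ext_adic (fg : K.FG) {W : Type*} [CommRing W]
    (f g : AdicCompletion K C →+* W)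
    (hH : IsHausdorff (K.map (f.comp (algebraMap C (AdicCompletion K C)))) W)
    (hfg : ∀ c, f (AdicCompletion.of K C c) = g (AdicCompletion.of K C c)) : f = g := by
  have hcomp : f.comp (algebraMap C (AdicCompletion K C)) =
      g.comp (algebraMap C (AdicCompletion K C)) := by
    ext c
    exact hfg c
  ext x
  rw [← sub_eq_zero]
  apply hH.haus'
  intro n
  rw [SModEq.zero, smul_eq_mul, Ideal.mul_top]
  obtain ⟨c, hc⟩ := CTensH3.exists_sub_mem C K fg n x
  have h1 : f x - g x = f (x - AdicCompletion.of K C c) - g (x - AdicCompletion.of K C c) := by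
    rw [map_sub, map_sub, hfg]; ring
  rw [h1]
  have hf : f (x - AdicCompletion.of K C c) ∈
      (K.map (f.comp (algebraMap C (AdicCompletion K C)))) ^ n := by
    have := Ideal.mem_map_of_mem f hc
    rwa [Ideal.map_map, Ideal.map_pow] at this
  have hg : g (x - AdicCompletion.of K C c) ∈
      (K.map (f.comp (algebraMap C (AdicCompletion K C)))) ^ n := by
    have := Ideal.mem_map_of_mem g hc
    rwa [Ideal.map_map, Ideal.map_pow, ← hcomp] at this
  exact Ideal.sub_mem _ hf hg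

end Ext

section CBC

variable (k A B k' : Type u) [Field k] [Field k'] [Algebra k k']
  [CommRing A] [IsLocalRing A] [IsNoetherianRing A] [Algebra k A]
  [Module.Finite k (ResidueField A)]
  [CommRing B] [IsLocalRing B] [IsNoetherianRing B] [Algebra k B]
  [Module.Finite k (ResidueField B)]
  (J : Ideal A) [Algebra B (A ⧸ J)] [IsScalarTower k B (A ⧸ J)] [Module.Finite B (A ⧸ J)]

local notation "𝓟A" => (A ⊗[k] k')
local notation "𝓙A" => (EGA4.cTensorIdeal k A k')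
local notation "𝓒A" => (AdicCompletion (EGA4.cTensorIdeal k A k') (A ⊗[k] k'))
local notation "𝓟B" => (B ⊗[k] k')
local notation "𝓙B" => (EGA4.cTensorIdeal k B k')
local notation "𝓒B" => (AdicCompletion (EGA4.cTensorIdeal k B k') (B ⊗[k] k'))
local notation "𝓦" => (AdicCompletion (EGA4.cTensorIdeal k B k') (B ⊗[k] k') ⊗[B] (A ⧸ J))
local notation "𝓠" => (AdicCompletion (EGA4.cTensorIdeal k A k') (A ⊗[k] k') ⧸
  J.map (algebraMap A (AdicCompletion (EGA4.cTensorIdeal k A k') (A ⊗[k] k'))))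

/-- `k' → B'` -/
noncomputable def kB : k' →ₐ[k] 𝓒B :=
  (IsScalarTower.toAlgHom k 𝓟B 𝓒B).comp (Algebra.TensorProduct.includeRight : k' →ₐ[k] 𝓟B)

/-- `k' → A'` -/
noncomputable def kA : k' →ₐ[k] 𝓒A :=
  (IsScalarTower.toAlgHom k 𝓟A 𝓒A).comp (Algebra.TensorProduct.includeRight : k' →ₐ[k] 𝓟A)

theorem kB_apply (c : k') : kB k B k' c = AdicCompletion.of 𝓙B 𝓟B (1 ⊗ₜ c) := rfl

theorem kA_apply (c : k') : kA k A k' c = AdicCompletion.of 𝓙A 𝓟A (1 ⊗ₜ c) := rfl

/-- `A ⊗ k' → B' ⊗_B A/J` -/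
noncomputable def phi0 : 𝓟A →ₐ[k] 𝓦 :=
  Algebra.TensorProduct.lift
    (((Algebra.TensorProduct.includeRight : (A ⧸ J) →ₐ[B] 𝓦).restrictScalars k).comp
      (Ideal.Quotient.mkₐ k J))
    (((Algebra.TensorProduct.includeLeft : 𝓒B →ₐ[B] 𝓦).restrictScalars k).comp (kB k B k'))
    (fun _ _ => Commute.all _ _)

theorem phi0_tmul (a : A) (c : k') :
    phi0 k A B k' J (a ⊗ₜ c) = (kB k B k' c) ⊗ₜ[B] (Ideal.Quotient.mk J a) := by
  rw [phi0, Algebra.TensorProduct.lift_tmul]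
  show ((1 : 𝓒B) ⊗ₜ[B] (Ideal.Quotient.mk J a)) * ((kB k B k' c) ⊗ₜ[B] (1 : A ⧸ J)) = _
  rw [Algebra.TensorProduct.tmul_mul_tmul, one_mul, mul_one]

/-- the ideal of `𝓦` generated by `𝔪_A` -/
theorem map_phi0 : (𝓙A).map (phi0 k A B k' J).toRingHom =
    ((maximalIdeal A).map (Ideal.Quotient.mk J)).map
      (Algebra.TensorProduct.includeRight : (A ⧸ J) →ₐ[B] 𝓦).toRingHom := by
  rw [cTensorIdeal_field k A k', Ideal.map_map, Ideal.map_map]
  congr 1
  ext a
  show phi0 k A B k' J (a ⊗ₜ (1 : k')) = (1 : 𝓒B) ⊗ₜ[B] (Ideal.Quotient.mk J a)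
  rw [phi0_tmul, map_one]

/-- the ideal of `𝓦` generated by `𝔪_B` -/
theorem map_maximalIdeal_W :
    ((maximalIdeal B).map (algebraMap B 𝓒B)).map (algebraMap 𝓒B 𝓦) =
      ((maximalIdeal B).map (algebraMap B (A ⧸ J))).map
        (Algebra.TensorProduct.includeRight : (A ⧸ J) →ₐ[B] 𝓦).toRingHom := by
  rw [Ideal.map_map, Ideal.map_map]
  congr 1
  ext b
  show (algebraMap B 𝓒B b) ⊗ₜ[B] (1 : A ⧸ J) = (1 : 𝓒B) ⊗ₜ[B] (algebraMap B (A ⧸ J) b)
  rw [Algebra.algebraMap_eq_smul_one, Algebra.algebraMap_eq_smul_one, TensorProduct.smul_tmul]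

variable (hloc : (maximalIdeal B).map (algebraMap B (A ⧸ J)) ≤
  (maximalIdeal A).map (Ideal.Quotient.mk J))
  (c : ℕ) (hpow : ((maximalIdeal A).map (Ideal.Quotient.mk J)) ^ c ≤
    (maximalIdeal B).map (algebraMap B (A ⧸ J)))

include hloc hpow in
theorem isAdicComplete_W : IsAdicComplete ((𝓙A).map (phi0 k A B k' J).toRingHom) 𝓦 := by
  haveI := isNoetherianRing_cTensor k B k'
  haveI := isAdicComplete_cTensor_field k B k'
  have h1 : IsAdicComplete ((maximalIdeal B).map (algebraMap B 𝓒B)) 𝓦 :=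
    isAdicComplete_of_finite' 𝓒B _ 𝓦
  have h2 : IsAdicComplete (((maximalIdeal B).map (algebraMap B 𝓒B)).map (algebraMap 𝓒B 𝓦)) 𝓦 :=
    (IsAdicComplete.map_algebraMap_iff _ _).mpr h1
  rw [map_maximalIdeal_W] at h2
  haveI := h2
  rw [map_phi0]
  refine Groth.Agent.Lib.CompleteFiniteH3.isAdicComplete_of_pow_le _ _ c
    (Ideal.map_mono hloc) ?_
  rw [← Ideal.map_pow]
  exact Ideal.map_mono hpow

/-- the algebra structure on `𝓦` over `A ⊗ k'` -/
@[reducible] noncomputable def algW : Algebra 𝓟A 𝓦 := (phi0 k A B k' J).toRingHom.toAlgebra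

/-- `Φ : A' → B' ⊗_B A/J` -/
noncomputable def Phi : 𝓒A →+* 𝓦 :=
  letI := algW k A B k' J
  haveI : IsAdicComplete ((𝓙A).map (algebraMap 𝓟A 𝓦)) 𝓦 :=
    isAdicComplete_W k A B k' J hloc c hpow
  psi 𝓙A 𝓦

theorem Phi_of (x : 𝓟A) :
    Phi k A B k' J hloc c hpow (AdicCompletion.of 𝓙A 𝓟A x) = phi0 k A B k' J x := by
  letI := algW k A B k' J
  haveI : IsAdicComplete ((𝓙A).map (algebraMap 𝓟A 𝓦)) 𝓦 :=
    isAdicComplete_W k A B k' J hloc c hpow
  exact psi_of 𝓙A 𝓦 x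

theorem Phi_algebraMap (a : A) :
    Phi k A B k' J hloc c hpow (algebraMap A 𝓒A a) = (1 : 𝓒B) ⊗ₜ[B] (Ideal.Quotient.mk J a) := by
  rw [AdicCompletion.algebraMap_apply, Phi_of]
  show phi0 k A B k' J (a ⊗ₜ (1 : k')) = _
  rw [phi0_tmul, map_one]

/-- `A/J → A'/JA'` -/
noncomputable def lamBar : (A ⧸ J) →+* 𝓠 :=
  Ideal.Quotient.lift J ((Ideal.Quotient.mk _).comp (algebraMap A 𝓒A)) (fun a ha => by
    rw [RingHom.comp_apply, Ideal.Quotient.eq_zero_iff_mem]
    exact Ideal.mem_map_of_mem _ ha)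

theorem lamBar_mk (a : A) :
    lamBar k A k' J (Ideal.Quotient.mk J a) = Ideal.Quotient.mk _ (algebraMap A 𝓒A a) := rfl

/-- `B → A'/JA'` -/
noncomputable def rhoB : B →ₐ[k] 𝓠 :=
  { (lamBar k A k' J).comp (algebraMap B (A ⧸ J)) with
    commutes' := fun x => by
      show lamBar k A k' J (algebraMap B (A ⧸ J) (algebraMap k B x)) = algebraMap k 𝓠 x
      rw [← IsScalarTower.algebraMap_apply k B (A ⧸ J), IsScalarTower.algebraMap_apply k A (A ⧸ J),
        Ideal.Quotient.algebraMap_eq, lamBar_mk, ← IsScalarTower.algebraMap_apply k A 𝓒A]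
      rfl }

theorem rhoB_apply (b : B) : rhoB k A B k' J b = lamBar k A k' J (algebraMap B (A ⧸ J) b) := rfl

/-- `B ⊗ k' → A'/JA'` -/
noncomputable def psi0B : 𝓟B →ₐ[k] 𝓠 :=
  Algebra.TensorProduct.lift (rhoB k A B k' J)
    ((Ideal.Quotient.mkₐ k _).comp (kA k A k'))
    (fun _ _ => Commute.all _ _)

theorem psi0B_tmul (b : B) (x : k') :
    psi0B k A B k' J (b ⊗ₜ x) = rhoB k A B k' J b * Ideal.Quotient.mk _ (kA k A k' x) := by
  rw [psi0B, Algebra.TensorProduct.lift_tmul]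
  rfl

/-- `A'/JA'` is complete for the ideal generated by `𝔪_A` -/
theorem isAdicComplete_Q :
    IsAdicComplete (((maximalIdeal A).map (algebraMap A 𝓒A)).map
      (Ideal.Quotient.mk (J.map (algebraMap A 𝓒A)))) 𝓠 := by
  haveI := isNoetherianRing_cTensor k A k'
  haveI := isAdicComplete_cTensor_field k A k'
  have h1 : IsAdicComplete ((maximalIdeal A).map (algebraMap A 𝓒A)) 𝓠 :=
    isAdicComplete_of_finite' 𝓒A _ 𝓠
  exact (IsAdicComplete.map_algebraMap_iff _ _).mpr h1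

theorem map_psi0B : (𝓙B).map (psi0B k A B k' J).toRingHom =
    ((maximalIdeal B).map (algebraMap B (A ⧸ J))).map (lamBar k A k' J) := by
  rw [cTensorIdeal_field k B k', Ideal.map_map, Ideal.map_map]
  congr 1
  ext b
  show psi0B k A B k' J (b ⊗ₜ (1 : k')) = lamBar k A k' J (algebraMap B (A ⧸ J) b)
  rw [psi0B_tmul, map_one, map_one, mul_one, rhoB_apply]

theorem map_lamBar : ((maximalIdeal A).map (Ideal.Quotient.mk J)).map (lamBar k A k' J) =
    ((maximalIdeal A).map (algebraMap A 𝓒A)).map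
      (Ideal.Quotient.mk (J.map (algebraMap A 𝓒A))) := by
  rw [Ideal.map_map, Ideal.map_map]
  rfl

include hloc in
theorem isAdicComplete_Q_B : IsAdicComplete ((𝓙B).map (psi0B k A B k' J).toRingHom) 𝓠 := by
  haveI := isNoetherianRing_cTensor k A k'
  haveI := isAdicComplete_Q k A k' J
  refine isAdicComplete_of_le _ (((maximalIdeal A).map (algebraMap A 𝓒A)).map
      (Ideal.Quotient.mk (J.map (algebraMap A 𝓒A)))) ?_
  rw [map_psi0B, ← map_lamBar]
  exact Ideal.map_mono hloc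

/-- the algebra structure on `A'/JA'` over `B ⊗ k'` -/
@[reducible] noncomputable def algQ : Algebra 𝓟B 𝓠 := (psi0B k A B k' J).toRingHom.toAlgebra

/-- `ψ_B : B' → A'/JA'` -/
noncomputable def psiB : 𝓒B →+* 𝓠 :=
  letI := algQ k A B k' J
  haveI : IsAdicComplete ((𝓙B).map (algebraMap 𝓟B 𝓠)) 𝓠 :=
    isAdicComplete_Q_B k A B k' J hloc
  psi 𝓙B 𝓠

theorem psiB_of (x : 𝓟B) :
    psiB k A B k' J hloc (AdicCompletion.of 𝓙B 𝓟B x) = psi0B k A B k' J x := by
  letI := algQ k A B k' J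
  haveI : IsAdicComplete ((𝓙B).map (algebraMap 𝓟B 𝓠)) 𝓠 :=
    isAdicComplete_Q_B k A B k' J hloc
  exact psi_of 𝓙B 𝓠 x

/-- the `B`-algebra structure on `A'/JA'` -/
@[reducible] noncomputable def algBQ : Algebra B 𝓠 := (rhoB k A B k' J).toRingHom.toAlgebra

/-- `Ψ : B' ⊗_B A/J → A'/JA'` -/
noncomputable def Psi : 𝓦 →+* 𝓠 :=
  letI := algBQ k A B k' J
  (Algebra.TensorProduct.lift
    ({ psiB k A B k' J hloc with
        commutes' := fun b => by
          show psiB k A B k' J hloc (algebraMap B 𝓒B b) = rhoB k A B k' J b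
          rw [AdicCompletion.algebraMap_apply, psiB_of]
          show psi0B k A B k' J (b ⊗ₜ (1 : k')) = _
          rw [psi0B_tmul, map_one, map_one, mul_one] } : 𝓒B →ₐ[B] 𝓠)
    ({ lamBar k A k' J with commutes' := fun b => rfl } : (A ⧸ J) →ₐ[B] 𝓠)
    (fun _ _ => Commute.all _ _)).toRingHom

theorem Psi_tmul (y : 𝓒B) (a : A ⧸ J) :
    Psi k A B k' J hloc (y ⊗ₜ[B] a) = psiB k A B k' J hloc y * lamBar k A k' J a := by
  letI := algBQ k A B k' J
  show (Algebra.TensorProduct.lift _ _ _) (y ⊗ₜ[B] a) = _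
  rw [Algebra.TensorProduct.lift_tmul]
  rfl

theorem Psi_phi0 (x : 𝓟A) :
    Psi k A B k' J hloc (phi0 k A B k' J x) =
      Ideal.Quotient.mk (J.map (algebraMap A 𝓒A)) (AdicCompletion.of 𝓙A 𝓟A x) := by
  induction x using TensorProduct.induction_on with
  | zero => rw [map_zero, map_zero, map_zero, map_zero]
  | add x y hx hy => rw [map_add, map_add, hx, hy, map_add, map_add]
  | tmul a x =>
    rw [phi0_tmul, Psi_tmul, kB_apply, psiB_of, psi0B_tmul, map_one, one_mul, lamBar_mk, kA_apply]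
    show Ideal.Quotient.mk (J.map (algebraMap A 𝓒A)) (algebraMap 𝓟A 𝓒A ((1 : A) ⊗ₜ[k] x)) *
      Ideal.Quotient.mk (J.map (algebraMap A 𝓒A)) (algebraMap 𝓟A 𝓒A (a ⊗ₜ[k] (1 : k'))) =
      Ideal.Quotient.mk (J.map (algebraMap A 𝓒A)) (algebraMap 𝓟A 𝓒A (a ⊗ₜ[k] x))
    rw [← map_mul, ← map_mul, Algebra.TensorProduct.tmul_mul_tmul, one_mul, mul_one]

theorem Psi_Phi (x : 𝓒A) :
    Psi k A B k' J hloc (Phi k A B k' J hloc c hpow x) =
      Ideal.Quotient.mk (J.map (algebraMap A 𝓒A)) x := by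
  have hH : IsHausdorff ((𝓙A).map ((Ideal.Quotient.mk (J.map (algebraMap A 𝓒A))).comp
      (algebraMap 𝓟A 𝓒A))) 𝓠 := by
    rw [← Ideal.map_map, map_cTensorIdeal_field k A k']
    haveI := isAdicComplete_Q k A k' J
    infer_instance
  have h := ringHom_ext_adic 𝓙A (cTensorIdeal_fg k A k')
    (Ideal.Quotient.mk (J.map (algebraMap A 𝓒A)))
    ((Psi k A B k' J hloc).comp (Phi k A B k' J hloc c hpow)) hH (fun x => by
      rw [RingHom.comp_apply, Phi_of, Psi_phi0])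
  exact (RingHom.congr_fun h x).symm

theorem map_le_ker_Phi :
    J.map (algebraMap A 𝓒A) ≤ RingHom.ker (Phi k A B k' J hloc c hpow) := by
  rw [Ideal.map_le_iff_le_comap]
  intro j hj
  rw [Ideal.mem_comap, RingHom.mem_ker, Phi_algebraMap, Ideal.Quotient.eq_zero_iff_mem.2 hj,
    tmul_zero]

/-- `Φ̄ : A'/JA' → B' ⊗_B A/J` -/
noncomputable def PhiBar : 𝓠 →+* 𝓦 :=
  Ideal.Quotient.lift _ (Phi k A B k' J hloc c hpow)
    (fun x hx => map_le_ker_Phi k A B k' J hloc c hpow hx)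

theorem PhiBar_mk (x : 𝓒A) :
    PhiBar k A B k' J hloc c hpow (Ideal.Quotient.mk _ x) = Phi k A B k' J hloc c hpow x := rfl

theorem PhiBar_lamBar (a : A ⧸ J) :
    PhiBar k A B k' J hloc c hpow (lamBar k A k' J a) = (1 : 𝓒B) ⊗ₜ[B] a := by
  obtain ⟨a, rfl⟩ := Ideal.Quotient.mk_surjective a
  rw [lamBar_mk, PhiBar_mk, Phi_algebraMap]

theorem isAdicComplete_W_B :
    IsAdicComplete (((maximalIdeal B).map (algebraMap B 𝓒B)).map (algebraMap 𝓒B 𝓦)) 𝓦 := by
  haveI := isNoetherianRing_cTensor k B k'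
  haveI := isAdicComplete_cTensor_field k B k'
  have h1 : IsAdicComplete ((maximalIdeal B).map (algebraMap B 𝓒B)) 𝓦 :=
    isAdicComplete_of_finite' 𝓒B _ 𝓦
  exact (IsAdicComplete.map_algebraMap_iff _ _).mpr h1

theorem PhiBar_psi0B (x : 𝓟B) :
    PhiBar k A B k' J hloc c hpow (psi0B k A B k' J x) =
      (AdicCompletion.of 𝓙B 𝓟B x) ⊗ₜ[B] (1 : A ⧸ J) := by
  induction x using TensorProduct.induction_on with
  | zero => rw [map_zero, map_zero, map_zero, zero_tmul]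
  | add x y hx hy => rw [map_add, map_add, hx, hy, map_add, add_tmul]
  | tmul b x =>
    rw [psi0B_tmul, map_mul, rhoB_apply, PhiBar_lamBar, PhiBar_mk, kA_apply, Phi_of]
    have h1 : phi0 k A B k' J ((1 : A) ⊗ₜ[k] x) = (kB k B k' x) ⊗ₜ[B] (1 : A ⧸ J) := by
      rw [phi0_tmul, map_one]
    rw [h1, Algebra.TensorProduct.tmul_mul_tmul, one_mul, mul_one]
    have h2 : AdicCompletion.of 𝓙B 𝓟B (b ⊗ₜ[k] x) = b • kB k B k' x := by
      show algebraMap 𝓟B 𝓒B (b ⊗ₜ[k] x) = b • algebraMap 𝓟B 𝓒B ((1 : B) ⊗ₜ[k] x)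
      rw [Algebra.smul_def, IsScalarTower.algebraMap_apply B 𝓟B 𝓒B, ← map_mul]
      congr 1
      show b ⊗ₜ[k] x = (b ⊗ₜ[k] (1 : k')) * ((1 : B) ⊗ₜ[k] x)
      rw [Algebra.TensorProduct.tmul_mul_tmul, mul_one, one_mul]
    rw [h2, TensorProduct.smul_tmul, Algebra.smul_def, mul_one]

theorem PhiBar_psiB (y : 𝓒B) :
    PhiBar k A B k' J hloc c hpow (psiB k A B k' J hloc y) = y ⊗ₜ[B] (1 : A ⧸ J) := by
  have hH : IsHausdorff ((𝓙B).map ((algebraMap 𝓒B 𝓦).comp (algebraMap 𝓟B 𝓒B))) 𝓦 := by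
    rw [← Ideal.map_map, map_cTensorIdeal_field k B k']
    haveI := isAdicComplete_W_B k A B k' J
    infer_instance
  have h := ringHom_ext_adic 𝓙B (cTensorIdeal_fg k B k') (algebraMap 𝓒B 𝓦)
    ((PhiBar k A B k' J hloc c hpow).comp (psiB k A B k' J hloc)) hH (fun x => by
      rw [RingHom.comp_apply, psiB_of, PhiBar_psi0B]
      rfl)
  exact (RingHom.congr_fun h y).symm

theorem PhiBar_Psi (w : 𝓦) :
    PhiBar k A B k' J hloc c hpow (Psi k A B k' J hloc w) = w := by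
  induction w using TensorProduct.induction_on with
  | zero => rw [map_zero, map_zero]
  | add x y hx hy => rw [map_add, map_add, hx, hy]
  | tmul y a =>
    rw [Psi_tmul, map_mul, PhiBar_psiB, PhiBar_lamBar, Algebra.TensorProduct.tmul_mul_tmul,
      one_mul, mul_one]

include hloc hpow in
/-- **Completed base change along a finite map.** -/
theorem CBC : ∃ Φ : 𝓒A →+* 𝓦, Function.Surjective Φ ∧
    RingHom.ker Φ = J.map (algebraMap A 𝓒A) ∧
    ∀ a : A, Φ (algebraMap A 𝓒A a) = (1 : 𝓒B) ⊗ₜ[B] (Ideal.Quotient.mk J a) := by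
  refine ⟨Phi k A B k' J hloc c hpow, ?_, ?_, Phi_algebraMap k A B k' J hloc c hpow⟩
  · intro w
    obtain ⟨x, hx⟩ := Ideal.Quotient.mk_surjective (Psi k A B k' J hloc w)
    refine ⟨x, ?_⟩
    rw [← PhiBar_mk, hx, PhiBar_Psi]
  · refine le_antisymm ?_ (map_le_ker_Phi k A B k' J hloc c hpow)
    intro x hx
    rw [RingHom.mem_ker] at hx
    have h := Psi_Phi k A B k' J hloc c hpow x
    rw [hx, map_zero] at h
    exact Ideal.Quotient.eq_zero_iff_mem.1 h.symm

end CBC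

end Groth.Agent.Lib.NagTfaeH3
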