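import Mathlib
import Groth.Agent.Lib.NagTfae1_helper3
import Groth.Agent.Lib.ComplKaehlerGeomReg_helper3

/-!
# Nagata's criterion TFAE (S3851), part 2 (helper3): regularity of `(A ⊗̂_k k')_{p'}` from an
étale finite map `B → A/J`

* `isRegularLocalRing_cTensor`: for `B` regular local with residue field `k`, `B ⊗̂_k k'` is a
  regular local ring.
* `locEquivOfSurjective`: `R_{p'} ≃ S_{Φ p'}` for surjective `Φ : R → S` whose kernel dies in
  `R_{p'}`.
* `isRegularLocalRing_of_etaleAt`: the main result.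
APPEND-ONLY once landed.
-/

set_option autoImplicit false

namespace Groth.Agent.Lib.NagTfaeH3

open TensorProduct IsLocalRing
open Groth.Agent.Lib.CTensH3

universe u

section RegB

variable (k B k' : Type u) [Field k] [Field k'] [Algebra k k']
  [CommRing B] [IsLocalRing B] [IsNoetherianRing B] [Algebra k B]
  [Module.Finite k (ResidueField B)]
  (hres : Function.Surjective (algebraMap k (B ⧸ maximalIdeal B)))

local notation "𝓟B" => (B ⊗[k] k')
local notation "𝓒B" => (AdicCompletion (EGA4.cTensorIdeal k B k') (B ⊗[k] k'))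

include hres in
theorem isMaximal_map_cTensor : ((maximalIdeal B).map (algebraMap B 𝓒B)).IsMaximal := by
  haveI := isAdicComplete_field k'
  have hmax := Groth.Agent.Lib.ComplKaehlerGeomRegH3.isMaximal_map_tensor k B k' hres
  have hfield : IsField (𝓟B ⧸ (maximalIdeal B).map (algebraMap B 𝓟B)) :=
    (Ideal.Quotient.maximal_ideal_iff_isField_quotient _).1 hmax
  exact Ideal.Quotient.maximal_of_isField _
    (MulEquiv.isField hfield
      (cquotEquiv k B k' (maximalIdeal B) 1 (by rw [pow_one])).toRingEquiv.toMulEquiv)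

include hres in
theorem isLocalRing_cTensor_field : IsLocalRing 𝓒B := by
  haveI := isAdicComplete_field k'
  haveI hmax := isMaximal_map_cTensor k B k' hres
  letI : Field (𝓒B ⧸ (maximalIdeal B).map (algebraMap B 𝓒B)) := Ideal.Quotient.field _
  refine isLocalRing_of_surjective_of_ker_le
    (Ideal.Quotient.mk ((maximalIdeal B).map (algebraMap B 𝓒B))) Ideal.Quotient.mk_surjective ?_
  rw [Ideal.mk_ker]
  exact map_maximalIdeal_le_jacobson k B k'

include hres in
theorem maximalIdeal_cTensor_field [IsLocalRing 𝓒B] :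
    (maximalIdeal B).map (algebraMap B 𝓒B) = maximalIdeal 𝓒B := by
  haveI := isAdicComplete_field k'
  haveI hmax := isMaximal_map_cTensor k B k' hres
  exact IsLocalRing.eq_maximalIdeal hmax

include hres in
theorem isRegularLocalRing_cTensor (hreg : IsRegularLocalRing B) :
    ∃ (_ : IsLocalRing 𝓒B), IsRegularLocalRing 𝓒B := by
  haveI := isAdicComplete_field k'
  haveI := isLocalRing_cTensor_field k B k' hres
  refine ⟨inferInstance, ?_⟩
  haveI := isNoetherianRing_cTensor k B k'
  haveI := flat_left k B k'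
  have hm := maximalIdeal_cTensor_field k B k' hres
  haveI : IsLocalHom (algebraMap B 𝓒B) :=
    ((IsLocalRing.local_hom_TFAE (algebraMap B 𝓒B)).out 0 2).2 hm.le
  exact (Groth.Agent.EtStalk.isRegularLocalRing_iff_of_flat hm).2 inferInstance

end RegB

section LocQuot

variable {R S : Type u} [CommRing R] [CommRing S] (Φ : R →+* S) (hΦ : Function.Surjective Φ)
  (p' : Ideal R) [p'.IsPrime] (hker : RingHom.ker Φ ≤ p')
  (hkill : ∀ x ∈ RingHom.ker Φ, ∃ s : R, s ∉ p' ∧ s * x = 0)

include hΦ hker in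
theorem comap_map_of_ker_le : (p'.map Φ).comap Φ = p' := by
  rw [Ideal.comap_map_of_surjective' Φ hΦ]
  exact sup_eq_left.mpr hker

include hΦ hker in
theorem isPrime_map_of_ker_le : (p'.map Φ).IsPrime :=
  Ideal.map_isPrime_of_surjective hΦ hker

include hΦ hker hkill in
/-- `R_{p'} ≃ S_{Φ p'}` for a surjection whose kernel dies in `R_{p'}` -/
theorem nonempty_locEquiv [(p'.map Φ).IsPrime] :
    Nonempty (Localization.AtPrime p' ≃+* Localization.AtPrime (p'.map Φ)) := by
  have hcomap := comap_map_of_ker_le Φ hΦ p' hker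
  letI : Algebra R (Localization.AtPrime (p'.map Φ)) :=
    ((algebraMap S (Localization.AtPrime (p'.map Φ))).comp Φ).toAlgebra
  have halg : ∀ x : R, algebraMap R (Localization.AtPrime (p'.map Φ)) x =
      algebraMap S (Localization.AtPrime (p'.map Φ)) (Φ x) := fun x => rfl
  have hnot : ∀ y : R, y ∉ p' → Φ y ∉ p'.map Φ := by
    intro y hy hmem
    apply hy
    rw [← hcomap]
    exact hmem
  haveI : IsLocalization.AtPrime (Localization.AtPrime (p'.map Φ)) p' := by
    refine ⟨?_, ?_, ?_⟩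
    · rintro ⟨y, hy⟩
      rw [halg]
      exact IsLocalization.map_units (M := (p'.map Φ).primeCompl) _ ⟨Φ y, hnot y hy⟩
    · intro z
      obtain ⟨⟨s, t⟩, hz⟩ := IsLocalization.surj (p'.map Φ).primeCompl z
      obtain ⟨x, hx⟩ := hΦ s
      obtain ⟨y, hy⟩ := hΦ (t : S)
      have hyp : y ∉ p' := by
        intro hmem
        apply t.2
        rw [← hy]
        exact Ideal.mem_map_of_mem Φ hmem
      refine ⟨⟨x, ⟨y, hyp⟩⟩, ?_⟩
      show z * algebraMap R _ y = algebraMap R _ x
      rw [halg, halg, hx, hy]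
      exact hz
    · intro x₁ x₂ h
      rw [halg, halg] at h
      obtain ⟨t, ht⟩ := (IsLocalization.eq_iff_exists (p'.map Φ).primeCompl _).1 h
      obtain ⟨y, hy⟩ := hΦ (t : S)
      have hyp : y ∉ p' := by
        intro hmem
        apply t.2
        rw [← hy]
        exact Ideal.mem_map_of_mem Φ hmem
      have hk : y * (x₁ - x₂) ∈ RingHom.ker Φ := by
        rw [RingHom.mem_ker, map_mul, map_sub, hy, mul_sub, ht, sub_self]
      obtain ⟨s, hs, hs0⟩ := hkill _ hk
      refine ⟨⟨s * y, ?_⟩, ?_⟩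
      · show s * y ∈ p'.primeCompl
        exact (Ideal.IsPrime.mul_notMem inferInstance hs hyp)
      · show s * y * x₁ = s * y * x₂
        have : s * y * x₁ - s * y * x₂ = s * (y * (x₁ - x₂)) := by ring
        rw [← sub_eq_zero, this, hs0]
  exact ⟨(IsLocalization.algEquiv p'.primeCompl (Localization.AtPrime p')
    (Localization.AtPrime (p'.map Φ))).toRingEquiv⟩

end LocQuot

section Reg

variable (k A B k' : Type u) [Field k] [Field k'] [Algebra k k']
  [CommRing A] [IsLocalRing A] [IsNoetherianRing A] [Algebra k A]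
  [Module.Finite k (ResidueField A)]
  [CommRing B] [IsLocalRing B] [IsNoetherianRing B] [Algebra k B]
  [Module.Finite k (ResidueField B)]
  (J : Ideal A) [Algebra B (A ⧸ J)] [IsScalarTower k B (A ⧸ J)] [Module.Finite B (A ⧸ J)]
  (hloc : (maximalIdeal B).map (algebraMap B (A ⧸ J)) ≤
    (maximalIdeal A).map (Ideal.Quotient.mk J))
  (c : ℕ) (hpow : ((maximalIdeal A).map (Ideal.Quotient.mk J)) ^ c ≤
    (maximalIdeal B).map (algebraMap B (A ⧸ J)))
  (hreg : IsRegularLocalRing B) (hres : Function.Surjective (algebraMap k (B ⧸ maximalIdeal B)))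
  (p : Ideal A) [p.IsPrime] (hJp : J ≤ p) (hJ : ∀ j ∈ J, ∃ s : A, s ∉ p ∧ s * j = 0)
  [(p.map (Ideal.Quotient.mk J)).IsPrime]
  (het : Algebra.IsEtaleAt B (p.map (Ideal.Quotient.mk J)))

local notation "𝓒A" => (AdicCompletion (EGA4.cTensorIdeal k A k') (A ⊗[k] k'))
local notation "𝓒B" => (AdicCompletion (EGA4.cTensorIdeal k B k') (B ⊗[k] k'))
local notation "𝓦" => (AdicCompletion (EGA4.cTensorIdeal k B k') (B ⊗[k] k') ⊗[B] (A ⧸ J))

variable (p' : Ideal (AdicCompletion (EGA4.cTensorIdeal k A k') (A ⊗[k] k'))) [p'.IsPrime]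
  (hp' : p'.comap (algebraMap A (AdicCompletion (EGA4.cTensorIdeal k A k') (A ⊗[k] k'))) = p)

include hloc hpow hreg hres hJp hJ het hp' in
theorem isRegularLocalRing_of_etaleAt : IsRegularLocalRing (Localization.AtPrime p') := by
  obtain ⟨Φ, hΦs, hΦk, hΦa⟩ := CBC k A B k' J hloc c hpow
  have hker : RingHom.ker Φ ≤ p' := by
    rw [hΦk, Ideal.map_le_iff_le_comap, hp']
    exact hJp
  have hkill : ∀ x ∈ RingHom.ker Φ, ∃ s : 𝓒A, s ∉ p' ∧ s * x = 0 := by
    intro x hx
    rw [hΦk] at hx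
    change x ∈ Ideal.span (algebraMap A 𝓒A '' (J : Set A)) at hx
    refine Submodule.span_induction (p := fun x _ => ∃ s : 𝓒A, s ∉ p' ∧ s * x = 0)
      ?_ ?_ ?_ ?_ hx
    · rintro _ ⟨j, hj, rfl⟩
      obtain ⟨s, hs, hsj⟩ := hJ j hj
      refine ⟨algebraMap A 𝓒A s, fun h => hs ?_, ?_⟩
      · rw [← hp']
        exact h
      · rw [← map_mul, hsj, map_zero]
    · exact ⟨1, fun h => (inferInstance : p'.IsPrime).ne_top ((Ideal.eq_top_iff_one _).2 h),
        mul_zero _⟩
    · rintro x y _ _ ⟨s, hs, hsx⟩ ⟨t, ht, hty⟩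
      refine ⟨s * t, Ideal.IsPrime.mul_notMem inferInstance hs ht, ?_⟩
      have : s * t * (x + y) = t * (s * x) + s * (t * y) := by ring
      rw [this, hsx, hty, mul_zero, mul_zero, add_zero]
    · rintro a x _ ⟨s, hs, hsx⟩
      refine ⟨s, hs, ?_⟩
      rw [smul_eq_mul, mul_left_comm, hsx, mul_zero]
  haveI hPprime : (p'.map Φ).IsPrime := isPrime_map_of_ker_le Φ hΦs p' hker
  have hcomap := comap_map_of_ker_le Φ hΦs p' hker
  obtain ⟨e⟩ := nonempty_locEquiv Φ hΦs p' hker hkill
  suffices h : IsRegularLocalRing (Localization.AtPrime (p'.map Φ)) from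
    IsRegularLocalRing.of_ringEquiv e.symm
  obtain ⟨hlocC, hregC⟩ := isRegularLocalRing_cTensor k B k' hres hreg
  haveI : IsRegularRing 𝓒B :=
    Groth.Agent.Lib.NagataCritH3.isRegularRing_of_isRegularLocalRing 𝓒B
  obtain ⟨pbar, hpbar⟩ : ∃ q : Ideal (A ⧸ J), q = p.map (Ideal.Quotient.mk J) := ⟨_, rfl⟩
  haveI hpbarPrime : pbar.IsPrime := by rw [hpbar]; infer_instance
  have het' : Algebra.IsEtaleAt B pbar := by subst hpbar; exact het
  haveI : Algebra.FinitePresentation B (A ⧸ J) :=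
    Algebra.FinitePresentation.of_finiteType.1 inferInstance
  haveI : Module.Flat B (Localization.AtPrime pbar) :=
    Groth.Agent.Lib.ComplKaehlerGeomRegH3.flat_of_isEtaleAt B (A ⧸ J) pbar het'
  haveI : Algebra.FormallyEtale B (Localization.AtPrime pbar) := het'
  haveI : IsRegularRing (𝓒B ⊗[B] Localization.AtPrime pbar) :=
    Groth.Agent.Lib.ComplKaehlerGeomRegH3.isRegularRing_of_flat_of_formallyUnramified 𝓒B _
  letI : Algebra 𝓦 (𝓒B ⊗[B] Localization.AtPrime pbar) :=
    (Algebra.TensorProduct.map (AlgHom.id B 𝓒B)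
      (IsScalarTower.toAlgHom B (A ⧸ J) (Localization.AtPrime pbar))).toRingHom.toAlgebra
  haveI : IsScalarTower 𝓒B 𝓦 (𝓒B ⊗[B] Localization.AtPrime pbar) :=
    IsScalarTower.of_algebraMap_eq (R := 𝓒B) (S := 𝓦)
      (A := 𝓒B ⊗[B] Localization.AtPrime pbar) <| by
      intro x
      show x ⊗ₜ[B] (1 : Localization.AtPrime pbar) =
        Algebra.TensorProduct.map (AlgHom.id B 𝓒B)
          (IsScalarTower.toAlgHom B (A ⧸ J) (Localization.AtPrime pbar)) (x ⊗ₜ[B] (1 : A ⧸ J))
      rw [Algebra.TensorProduct.map_tmul, map_one]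
      rfl
  haveI hlocT : IsLocalization
      (pbar.primeCompl.map (Algebra.TensorProduct.includeRight (R := B) (A := 𝓒B)))
      (𝓒B ⊗[B] Localization.AtPrime pbar) :=
    IsLocalization.tensorProduct_tensorProduct_right B 𝓒B pbar.primeCompl
      (Localization.AtPrime pbar) (by ext; simp [RingHom.algebraMap_toAlgebra])
  have hd : Disjoint ((pbar.primeCompl.map
      (Algebra.TensorProduct.includeRight (R := B) (A := 𝓒B)) : Submonoid 𝓦) : Set 𝓦)
      (p'.map Φ : Set 𝓦) := by
    rw [Set.disjoint_left]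
    rintro x hx hxP
    obtain ⟨t, ht, rfl⟩ := Submonoid.mem_map.1 hx
    obtain ⟨a, rfl⟩ := Ideal.Quotient.mk_surjective t
    apply ht
    rw [hpbar]
    apply Ideal.mem_map_of_mem
    have h1 : algebraMap A 𝓒A a ∈ p' := by
      rw [← hcomap]
      show Φ (algebraMap A 𝓒A a) ∈ p'.map Φ
      rw [hΦa]
      exact hxP
    rw [← hp']
    exact h1
  haveI : ((p'.map Φ).map (algebraMap 𝓦 (𝓒B ⊗[B] Localization.AtPrime pbar))).IsPrime :=
    IsLocalization.isPrime_of_isPrime_disjoint _ _ _ hPprime hd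
  exact (Groth.Agent.Lib.NagataCritH3.isRegularLocalRing_iff_map_of_disjoint 𝓦 _
    (𝓒B ⊗[B] Localization.AtPrime pbar) (p'.map Φ) hd).2 inferInstance

end Reg

end Groth.Agent.Lib.NagTfaeH3
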