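import Mathlib
import Groth.Agent.Lib.NagTfae1_helper3

/-!
# Nagata's criterion TFAE (S3851), part 3 (helper3): extension of derivations to a localization
of an adic completion

`exists_derivation_extension`: `C` a ring, `K` a f.g. ideal, `M` a prime of `Ĉ`, `R = Ĉ_M`
Noetherian and `K R`-adically complete, `N` a finite `R`-module, `d : C → N` a derivation (over
`C → R`).  Then `d` extends to a derivation `R → N`.  (Proof: the ring map `C → R ⊕ N`,
`c ↦ (c, d c)` into the trivial square-zero extension extends to `Ĉ` by completeness and then to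
`R` since units lift along square-zero extensions.)
APPEND-ONLY once landed.
-/

set_option autoImplicit false

namespace Groth.Agent.Lib.NagTfaeH3

open TensorProduct IsLocalRing TrivSqZeroExt
open Groth.Agent.Lib.CTensH3 Groth.Agent.Lib.ComplTensorH3

universe u

section DerExt

/-- the `Rᵐᵒᵖ`-module structure on a module over a commutative ring -/
@[reducible] def mopModule (R : Type u) [CommRing R] (N : Type u) [AddCommGroup N] [Module R N] :
    Module Rᵐᵒᵖ N :=
  Module.compHom N ((RingHom.id R).fromOpposite fun _ _ => mul_comm _ _)

variable {C : Type u} [CommRing C] (K : Ideal C) (R : Type u) [CommRing R] [Algebra C R]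
  (N : Type u) [AddCommGroup N] [Module R N]
  (d : C →+ N)
  (hmul : ∀ x y, d (x * y) = algebraMap C R x • d y + algebraMap C R y • d x)

attribute [local instance] mopModule

instance : IsCentralScalar R N := ⟨fun _ _ => rfl⟩

include hmul in
theorem d_one : d 1 = 0 := by
  have h := hmul 1 1
  rw [mul_one, (algebraMap C R).map_one, one_smul] at h
  exact (add_eq_left (a := d 1)).1 h.symm

/-- `c ↦ (c, d c)` -/
noncomputable def theta : C →+* TrivSqZeroExt R N where
  toFun c := inl (algebraMap C R c) + inr (d c)
  map_one' := by
    rw [d_one R N d hmul, map_one, inr_zero, add_zero, inl_one]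
  map_mul' x y := by
    refine TrivSqZeroExt.ext ?_ ?_
    · simp only [fst_add, fst_inl, fst_inr, add_zero, fst_mul, map_mul]
    · simp only [snd_add, snd_inl, snd_inr, zero_add, snd_mul, fst_add, fst_inl, fst_inr,
        add_zero, hmul]
      rfl
  map_zero' := by
    rw [map_zero, map_zero, inr_zero, add_zero, inl_zero]
  map_add' x y := by
    rw [map_add, map_add, inl_add, inr_add]
    abel

theorem fst_theta (c : C) : (theta R N d hmul c).fst = algebraMap C R c := by
  simp [theta]

theorem snd_theta (c : C) : (theta R N d hmul c).snd = d c := by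
  simp [theta]

section Compl

variable [IsNoetherianRing R] [Module.Finite R N]
  (hR : IsAdicComplete (K.map (algebraMap C R)) R)

include hR in
theorem isAdicComplete_tsze :
    IsAdicComplete (K.map (theta R N d hmul)) (TrivSqZeroExt R N) := by
  haveI : Module.Finite R (TrivSqZeroExt R N) := inferInstanceAs (Module.Finite R (R × N))
  haveI : IsNoetherianRing (TrivSqZeroExt R N) := IsNoetherianRing.of_finite R _
  haveI := hR
  have h1 : IsAdicComplete (K.map (algebraMap C R)) (TrivSqZeroExt R N) :=
    isAdicComplete_of_finite' R _ _
  have h2 : IsAdicComplete ((K.map (algebraMap C R)).map (algebraMap R (TrivSqZeroExt R N)))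
      (TrivSqZeroExt R N) := (IsAdicComplete.map_algebraMap_iff _ _).mpr h1
  haveI := h2
  have h3 : IsAdicComplete ((K.map (algebraMap C R)).map (algebraMap R (TrivSqZeroExt R N)) ⊔
      kerIdeal R N) (TrivSqZeroExt R N) := by
    refine Groth.Agent.Lib.CompleteFiniteH3.isAdicComplete_of_pow_le
      ((K.map (algebraMap C R)).map (algebraMap R (TrivSqZeroExt R N))) _ 3 le_sup_left ?_
    refine (Ideal.sup_pow_add_le_pow_sup_pow (n := 1) (m := 2)).trans ?_
    rw [pow_one, kerIdeal_sq, sup_bot_eq]
  haveI := h3
  refine isAdicComplete_of_le _ ((K.map (algebraMap C R)).map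
    (algebraMap R (TrivSqZeroExt R N)) ⊔ kerIdeal R N) ?_
  rw [Ideal.map_le_iff_le_comap]
  intro c hc
  rw [Ideal.mem_comap]
  have h4 : theta R N d hmul c =
      algebraMap R (TrivSqZeroExt R N) (algebraMap C R c) + inr (d c) := rfl
  rw [h4]
  refine Submodule.add_mem_sup (Ideal.mem_map_of_mem _ (Ideal.mem_map_of_mem _ hc)) ?_
  show inr (d c) ∈ RingHom.ker (fstHom R R N)
  rw [RingHom.mem_ker]
  exact fst_inr R (d c)

end Compl

end DerExt

section Main

attribute [local instance] mopModule

variable {C : Type u} [CommRing C] (K : Ideal C) (fg : K.FG)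
  (M : Ideal (AdicCompletion K C)) [M.IsPrime]
  [IsNoetherianRing (Localization.AtPrime M)]
  (hR : IsAdicComplete (K.map (algebraMap C (Localization.AtPrime M))) (Localization.AtPrime M))
  (N : Type u) [AddCommGroup N] [Module (Localization.AtPrime M) N]
  [Module.Finite (Localization.AtPrime M) N]
  (d : C →+ N)
  (hmul : ∀ x y, d (x * y) = algebraMap C (Localization.AtPrime M) x • d y +
    algebraMap C (Localization.AtPrime M) y • d x)

include fg hR hmul in
/-- **Extension of derivations** to a localization of the completion. -/
theorem exists_derivation_extension :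
    ∃ D : Localization.AtPrime M →+ N,
      (∀ x y, D (x * y) = x • D y + y • D x) ∧
      ∀ c, D (algebraMap C (Localization.AtPrime M) c) = d c := by
  letI : Algebra C (TrivSqZeroExt (Localization.AtPrime M) N) :=
    (theta (Localization.AtPrime M) N d hmul).toAlgebra
  haveI : IsAdicComplete (K.map (algebraMap C (TrivSqZeroExt (Localization.AtPrime M) N)))
      (TrivSqZeroExt (Localization.AtPrime M) N) :=
    isAdicComplete_tsze K (Localization.AtPrime M) N d hmul hR
  obtain ⟨ψ, hψ⟩ : ∃ ψ : AdicCompletion K C →+* TrivSqZeroExt (Localization.AtPrime M) N,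
      ψ = psi K (TrivSqZeroExt (Localization.AtPrime M) N) := ⟨_, rfl⟩
  have hψof : ∀ c, ψ (AdicCompletion.of K C c) = theta (Localization.AtPrime M) N d hmul c := by
    intro c
    rw [hψ]
    exact psi_of K _ c
  -- first component
  have hfst : ∀ x, (ψ x).fst = algebraMap (AdicCompletion K C) (Localization.AtPrime M) x := by
    have hH : IsHausdorff (K.map ((algebraMap (AdicCompletion K C) (Localization.AtPrime M)).comp
        (algebraMap C (AdicCompletion K C)))) (Localization.AtPrime M) := by
      rw [← IsScalarTower.algebraMap_eq]
      haveI := hR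
      infer_instance
    have h := ringHom_ext_adic K fg
      (algebraMap (AdicCompletion K C) (Localization.AtPrime M))
      ((fstHom (Localization.AtPrime M) (Localization.AtPrime M) N).toRingHom.comp ψ) hH
      (fun c => by
        rw [RingHom.comp_apply, hψof]
        show _ = (theta (Localization.AtPrime M) N d hmul c).fst
        rw [fst_theta]
        exact (IsScalarTower.algebraMap_apply C (AdicCompletion K C)
          (Localization.AtPrime M) c).symm)
    intro x
    exact (RingHom.congr_fun h x).symm
  -- units
  have hunits : ∀ s : M.primeCompl, IsUnit (ψ s) := by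
    intro s
    rw [isUnit_iff_isUnit_fst, hfst]
    exact IsLocalization.map_units _ s
  obtain ⟨Ψ, hΨ⟩ : ∃ Ψ : Localization.AtPrime M →+* TrivSqZeroExt (Localization.AtPrime M) N,
      ∀ x, Ψ (algebraMap (AdicCompletion K C) (Localization.AtPrime M) x) = ψ x :=
    ⟨IsLocalization.lift hunits, fun x => IsLocalization.lift_eq hunits x⟩
  have hΨfst : ∀ x, (Ψ x).fst = x := by
    have h : (fstHom (Localization.AtPrime M) (Localization.AtPrime M) N).toRingHom.comp Ψ =
        RingHom.id _ := by
      refine IsLocalization.ringHom_ext M.primeCompl ?_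
      ext x
      show (Ψ (algebraMap (AdicCompletion K C) (Localization.AtPrime M) x)).fst = _
      rw [hΨ, hfst]
      rfl
    intro x
    exact RingHom.congr_fun h x
  refine ⟨{ toFun := fun x => (Ψ x).snd
            map_zero' := by rw [map_zero, snd_zero]
            map_add' := fun x y => by rw [map_add, snd_add] }, ?_, ?_⟩
  · intro x y
    show (Ψ (x * y)).snd = x • (Ψ y).snd + y • (Ψ x).snd
    rw [map_mul, snd_mul, hΨfst, hΨfst]
    rfl
  · intro c
    show (Ψ (algebraMap C (Localization.AtPrime M) c)).snd = d c
    rw [IsScalarTower.algebraMap_apply C (AdicCompletion K C) (Localization.AtPrime M), hΨ,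
      AdicCompletion.algebraMap_apply]
    have : algebraMap C C c = c := rfl
    rw [this, hψof, snd_theta]

end Main

end Groth.Agent.Lib.NagTfaeH3
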