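import Mathlib
import Groth.Agent.Lib.ComplKaehlerGeomReg_helper3
import Groth.Agent.Lib.Equi133_helper8

/-!
# Nagata's criterion TFAE (S3851), part 4 (helper3): reduction to `A/J`, `J = ker (A → A_p)`

* `kerLoc p`, `mem_kerLoc`, `kerLoc_le`, `kerLoc_le_of_isPrime`.
* `minimalPrimes_quot`: minimal primes of `A/J` come from minimal primes of `A` below `p`.
* `ringKrullDim_quot_kerLoc`: `dim A/J = n` (the largest dimension of a component through `p`).
APPEND-ONLY once landed.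
-/

set_option autoImplicit false

namespace Groth.Agent.Lib.NagTfaeH3

open TensorProduct IsLocalRing

universe u

section KerLoc

variable {A : Type u} [CommRing A] (p : Ideal A) [p.IsPrime]

/-- the kernel of `A → A_p` -/
def kerLoc : Ideal A := RingHom.ker (algebraMap A (Localization.AtPrime p))

theorem mem_kerLoc (x : A) : x ∈ kerLoc p ↔ ∃ s : A, s ∉ p ∧ s * x = 0 := by
  rw [kerLoc, RingHom.mem_ker, IsLocalization.map_eq_zero_iff p.primeCompl]
  constructor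
  · rintro ⟨m, hm⟩
    exact ⟨m, m.2, hm⟩
  · rintro ⟨s, hs, hsx⟩
    exact ⟨⟨s, hs⟩, hsx⟩

theorem kerLoc_le_of_isPrime (q : Ideal A) [q.IsPrime] (hqp : q ≤ p) : kerLoc p ≤ q := by
  intro x hx
  obtain ⟨s, hs, hsx⟩ := (mem_kerLoc p x).1 hx
  have h1 : s * x ∈ q := by rw [hsx]; exact q.zero_mem
  rcases Ideal.IsPrime.mem_or_mem inferInstance h1 with h | h
  · exact absurd (hqp h) hs
  · exact h

theorem kerLoc_le : kerLoc p ≤ p := kerLoc_le_of_isPrime p p le_rfl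

theorem kerLoc_ne_top : kerLoc p ≠ ⊤ := fun h =>
  (inferInstance : p.IsPrime).ne_top (top_le_iff.1 (h ▸ kerLoc_le p))

/-- elements outside `p` are nonzerodivisors modulo `J` -/
theorem mk_mem_nonZeroDivisors (s : A) (hs : s ∉ p) :
    Ideal.Quotient.mk (kerLoc p) s ∈ nonZeroDivisors (A ⧸ kerLoc p) := by
  rw [mem_nonZeroDivisors_iff_right]
  intro y hy
  obtain ⟨x, rfl⟩ := Ideal.Quotient.mk_surjective y
  rw [← map_mul, Ideal.Quotient.eq_zero_iff_mem, mem_kerLoc] at hy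
  obtain ⟨t, ht, htx⟩ := hy
  rw [Ideal.Quotient.eq_zero_iff_mem, mem_kerLoc]
  exact ⟨t * s, Ideal.IsPrime.mul_notMem inferInstance ht hs, by rw [← htx]; ring⟩

/-- minimal primes of `A/J` are the images of the minimal primes of `A` below `p` -/
theorem minimalPrimes_quot (Q : Ideal (A ⧸ kerLoc p)) (hQ : Q ∈ minimalPrimes (A ⧸ kerLoc p)) :
    Q.comap (Ideal.Quotient.mk (kerLoc p)) ∈ minimalPrimes A ∧
      Q.comap (Ideal.Quotient.mk (kerLoc p)) ≤ p := by
  haveI : Q.IsPrime := Ideal.minimalPrimes_isPrime hQ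
  have hle : Q.comap (Ideal.Quotient.mk (kerLoc p)) ≤ p := by
    intro s hs
    by_contra hsp
    have h1 := mk_mem_nonZeroDivisors p s hsp
    exact Set.disjoint_left.mp (Ideal.disjoint_nonZeroDivisors_of_mem_minimalPrimes hQ) hs h1
  refine ⟨?_, hle⟩
  have hmin : Q.comap (Ideal.Quotient.mk (kerLoc p)) ∈ (kerLoc p).minimalPrimes := by
    rw [Ideal.minimalPrimes_eq_comap]
    exact ⟨Q, hQ, rfl⟩
  obtain ⟨q₀, hq₀, hq₀le⟩ := Ideal.exists_minimalPrimes_le
    (I := (⊥ : Ideal A)) (J := Q.comap (Ideal.Quotient.mk (kerLoc p))) bot_le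
  haveI : q₀.IsPrime := Ideal.minimalPrimes_isPrime hq₀
  have h2 : kerLoc p ≤ q₀ := kerLoc_le_of_isPrime p q₀ (hq₀le.trans hle)
  have h3 : Q.comap (Ideal.Quotient.mk (kerLoc p)) ≤ q₀ := hmin.2 ⟨inferInstance, h2⟩ hq₀le
  have h4 : Q.comap (Ideal.Quotient.mk (kerLoc p)) = q₀ := le_antisymm h3 hq₀le
  rw [h4]
  exact hq₀

theorem map_mk_mem_minimalPrimes (q : Ideal A) (hq : q ∈ minimalPrimes A) (hqp : q ≤ p) :
    q.map (Ideal.Quotient.mk (kerLoc p)) ∈ minimalPrimes (A ⧸ kerLoc p) := by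
  haveI : q.IsPrime := Ideal.minimalPrimes_isPrime hq
  have hJq : kerLoc p ≤ q := kerLoc_le_of_isPrime p q hqp
  have hmin : q ∈ (kerLoc p).minimalPrimes :=
    ⟨⟨inferInstance, hJq⟩, fun r hr hrq => hq.2 ⟨hr.1, bot_le⟩ hrq⟩
  rw [Ideal.minimalPrimes_eq_comap] at hmin
  obtain ⟨Q, hQ, hQq⟩ := hmin
  rw [← hQq, Ideal.map_comap_of_surjective _ Ideal.Quotient.mk_surjective]
  exact hQ

theorem isPrime_map_mk : (p.map (Ideal.Quotient.mk (kerLoc p))).IsPrime :=
  Ideal.map_isPrime_of_surjective Ideal.Quotient.mk_surjective (by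
    rw [Ideal.mk_ker]; exact kerLoc_le p)

theorem comap_map_mk : (p.map (Ideal.Quotient.mk (kerLoc p))).comap
    (Ideal.Quotient.mk (kerLoc p)) = p := by
  rw [Ideal.comap_map_of_surjective' _ Ideal.Quotient.mk_surjective, Ideal.mk_ker]
  exact sup_eq_left.mpr (kerLoc_le p)

theorem ringKrullDim_quot_map (q : Ideal A) (hJq : kerLoc p ≤ q) :
    ringKrullDim ((A ⧸ kerLoc p) ⧸ q.map (Ideal.Quotient.mk (kerLoc p))) =
      ringKrullDim (A ⧸ q) :=
  ringKrullDim_eq_of_ringEquiv (DoubleQuot.quotQuotEquivQuotOfLE hJq)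

end KerLoc

section Dim

variable {A : Type u} [CommRing A] [IsLocalRing A] [IsNoetherianRing A] (p : Ideal A) [p.IsPrime]
  (n : ℕ) (hn₁ : ∀ q ∈ minimalPrimes A, q ≤ p → ringKrullDim (A ⧸ q) ≤ n)
  (hn₂ : ∃ q ∈ minimalPrimes A, q ≤ p ∧ ringKrullDim (A ⧸ q) = n)

instance : Nontrivial (A ⧸ kerLoc p) := Ideal.Quotient.nontrivial_iff.2 (kerLoc_ne_top p)

instance : IsLocalRing (A ⧸ kerLoc p) :=
  IsLocalRing.of_surjective' (Ideal.Quotient.mk (kerLoc p)) Ideal.Quotient.mk_surjective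

include hn₁ hn₂ in
theorem ringKrullDim_quot_kerLoc : ringKrullDim (A ⧸ kerLoc p) = n := by
  apply le_antisymm
  · obtain ⟨Q, hQ, hQdim⟩ := Equi133H8.exists_minimalPrimes_dim_eq (A ⧸ kerLoc p)
    obtain ⟨hmin, hle⟩ := minimalPrimes_quot p Q hQ
    haveI : Q.IsPrime := Ideal.minimalPrimes_isPrime hQ
    haveI : (Q.comap (Ideal.Quotient.mk (kerLoc p))).IsPrime := Ideal.minimalPrimes_isPrime hmin
    have h1 := ringKrullDim_quot_map p (Q.comap (Ideal.Quotient.mk (kerLoc p)))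
      (kerLoc_le_of_isPrime p _ hle)
    rw [Ideal.map_comap_of_surjective _ Ideal.Quotient.mk_surjective] at h1
    rw [← hQdim, h1]
    exact hn₁ _ hmin hle
  · obtain ⟨q, hq, hqp, hqdim⟩ := hn₂
    haveI : q.IsPrime := Ideal.minimalPrimes_isPrime hq
    have hJq : kerLoc p ≤ q := kerLoc_le_of_isPrime p q hqp
    rw [← hqdim]
    exact ringKrullDim_le_of_surjective (Ideal.Quotient.factor hJq)
      (Ideal.Quotient.factor_surjective hJq)

include hn₂ in
theorem exists_minimalPrimes_quot :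
    ∃ Q ∈ minimalPrimes (A ⧸ kerLoc p), Q ≤ p.map (Ideal.Quotient.mk (kerLoc p)) ∧
      ringKrullDim ((A ⧸ kerLoc p) ⧸ Q) = n := by
  obtain ⟨q, hq, hqp, hqdim⟩ := hn₂
  haveI : q.IsPrime := Ideal.minimalPrimes_isPrime hq
  refine ⟨q.map (Ideal.Quotient.mk (kerLoc p)), map_mk_mem_minimalPrimes p q hq hqp,
    Ideal.map_mono hqp, ?_⟩
  rw [ringKrullDim_quot_map p q (kerLoc_le_of_isPrime p q hqp), hqdim]

theorem map_mk_ne_maximalIdeal (hp : p ≠ maximalIdeal A) :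
    p.map (Ideal.Quotient.mk (kerLoc p)) ≠ maximalIdeal (A ⧸ kerLoc p) := by
  intro h
  apply hp
  have h1 := comap_map_mk p
  rw [h, ← Groth.Agent.Lib.MonomialCharPH3.map_mk_maximalIdeal A (kerLoc p),
    Ideal.comap_map_of_surjective' _ Ideal.Quotient.mk_surjective, Ideal.mk_ker] at h1
  rw [← h1]
  exact sup_eq_left.mpr ((kerLoc_le p).trans (IsLocalRing.le_maximalIdeal
    (inferInstance : p.IsPrime).ne_top))

end Dim

end Groth.Agent.Lib.NagTfaeH3
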