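import Mathlib
import Groth.Agent.Lib.NagTfae2_helper3
import Groth.Agent.Lib.NagTfae4_helper3
import Groth.Agent.Lib.ComplKaehlerDim3_helper3
import Groth.Agent.Lib.ComplKaehlerFree1_helper3

/-!
# Nagata's criterion TFAE (S3851), part 5 (helper3): `(b) ⇒ (d)` and `(b) ⇒ (a)`

* `exists_span_of_finrank_le`: fibre rank `≤ n` ⇒ the localization is generated by `n` elements.
* `finrank_quot_le`: the fibre rank of `Ω̂` can only drop on passing to `A/J`.
* `exists_algEquiv_loc`: `A_p ≃ₐ[k] (A/J)_{p/J}`.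
* `free_imp`: if `Ω̂_p` is free of rank `n` then `A_p` is geometrically regular and all
  `(A ⊗̂_k k')_{p'}` are regular.
APPEND-ONLY once landed.
-/

set_option autoImplicit false

namespace Groth.Agent.Lib.NagTfaeH3

open TensorProduct IsLocalRing KaehlerDifferential
open Groth.Agent.Lib.CTensH3

universe u

section Span

variable {A : Type u} [CommRing A] (p : Ideal A) [p.IsPrime] (N : Type u) [AddCommGroup N]
  [Module A N] [Module.Finite A N]

theorem exists_span_of_finrank_le (n : ℕ)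
    (h : Module.finrank p.ResidueField (p.ResidueField ⊗[A] N) ≤ n) :
    ∃ s : Fin n → LocalizedModule p.primeCompl N,
      Submodule.span (Localization.AtPrime p) (Set.range s) = ⊤ := by
  classical
  have h0 := Groth.Agent.Lib.ComplKaehlerFreeH3.finrank_tensor_localizedModule p N p.ResidueField
  rw [← h0] at h
  obtain ⟨d, hd⟩ : ∃ d : ℕ, Module.finrank p.ResidueField
      (p.ResidueField ⊗[Localization.AtPrime p] LocalizedModule p.primeCompl N) = d := ⟨_, rfl⟩
  rw [hd] at h
  let b : Module.Basis (Fin d) (ResidueField (Localization.AtPrime p))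
      (ResidueField (Localization.AtPrime p) ⊗[Localization.AtPrime p]
        LocalizedModule p.primeCompl N) :=
    Module.finBasisOfFinrankEq _ _ hd
  have hsurj : Function.Surjective (TensorProduct.mk (Localization.AtPrime p)
      (ResidueField (Localization.AtPrime p)) (LocalizedModule p.primeCompl N) 1) :=
    TensorProduct.mk_surjective _ _ _ IsLocalRing.residue_surjective
  choose f hf using fun i => hsurj (b i)
  have hspan : Submodule.span (Localization.AtPrime p) (Set.range f) = ⊤ :=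
    IsLocalRing.span_eq_top_of_tmul_eq_basis f b hf
  refine ⟨fun i => if hi : (i : ℕ) < d then f ⟨i, hi⟩ else 0, ?_⟩
  rw [eq_top_iff, ← hspan, Submodule.span_le]
  rintro _ ⟨j, rfl⟩
  apply Submodule.subset_span
  refine ⟨⟨j, lt_of_lt_of_le j.2 h⟩, ?_⟩
  simp

end Span

section Quot

variable (k A : Type u) [Field k] [CommRing A] [IsLocalRing A] [IsNoetherianRing A] [Algebra k A]
  [IsAdicComplete (maximalIdeal A) A] [Module.Finite k (ResidueField A)]
  (J : Ideal A) [IsLocalRing (A ⧸ J)] (p : Ideal A) [p.IsPrime]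
  [(p.map (Ideal.Quotient.mk J)).IsPrime]
  (hcomap : (p.map (Ideal.Quotient.mk J)).comap (Ideal.Quotient.mk J) = p)

open Groth.Agent.Lib.ComplKaehlerDimH3 in
include hcomap in
/-- the fibre rank of the completed differentials can only drop on passing to a quotient -/
theorem finrank_quot_le :
    haveI : IsAdicComplete (maximalIdeal (A ⧸ J)) (A ⧸ J) :=
      Groth.Agent.Lib.MonomialCharPH3.isAdicComplete_quotient A J
    Module.finrank (p.map (Ideal.Quotient.mk J)).ResidueField
        ((p.map (Ideal.Quotient.mk J)).ResidueField ⊗[A ⧸ J]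
          AdicCompletion (maximalIdeal (A ⧸ J)) (Ω[(A ⧸ J)⁄k])) ≤
      Module.finrank p.ResidueField
        (p.ResidueField ⊗[A] AdicCompletion (maximalIdeal A) (Ω[A⁄k])) := by
  haveI : IsAdicComplete (maximalIdeal (A ⧸ J)) (A ⧸ J) :=
    Groth.Agent.Lib.MonomialCharPH3.isAdicComplete_quotient A J
  haveI : Module.Finite k (ResidueField (A ⧸ J)) := finite_residueField_quotient k A J
  haveI : Module.Finite (A ⧸ J) (AdicCompletion (maximalIdeal (A ⧸ J)) (Ω[(A ⧸ J)⁄k])) :=
    Groth.Agent.Lib.ComplKaehlerGenH3.finite_completed k (A ⧸ J)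
  haveI : Module.Finite A (AdicCompletion (maximalIdeal (A ⧸ J)) (Ω[(A ⧸ J)⁄k])) :=
    Module.Finite.trans (A ⧸ J) _
  obtain ⟨φ, hφ⟩ := exists_lift_derivation
    ((((AdicCompletion.of (maximalIdeal (A ⧸ J)) (Ω[(A ⧸ J)⁄k])).compDer
      (D k (A ⧸ J))).compAlgebraMap A))
  have hφs : Function.Surjective φ := by
    rw [← LinearMap.range_eq_top, ← top_le_iff]
    have h1 := Groth.Agent.Lib.ComplKaehlerGenH3.span_of_D k (A ⧸ J)
    have h2 := Submodule.restrictScalars_span A (A ⧸ J) Ideal.Quotient.mk_surjective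
      (Set.range fun a : A ⧸ J =>
        AdicCompletion.of (maximalIdeal (A ⧸ J)) (Ω[(A ⧸ J)⁄k]) (D k (A ⧸ J) a))
    rw [h1, Submodule.restrictScalars_top] at h2
    rw [h2, Submodule.span_le]
    rintro _ ⟨b, rfl⟩
    obtain ⟨a, rfl⟩ := Ideal.Quotient.mk_surjective b
    exact ⟨AdicCompletion.of (maximalIdeal A) (Ω[A⁄k]) (D k A a), hφ a⟩
  haveI := Groth.Agent.Lib.ComplKaehlerGenH3.finite_completed k A
  have h3 := finrank_tensor_le_of_surjective (A := A) (A' := A ⧸ J)
    (p.map (Ideal.Quotient.mk J)).ResidueField φ hφs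
  have h4 := finrank_tensor_le_residueField p (AdicCompletion (maximalIdeal A) (Ω[A⁄k]))
    (p.map (Ideal.Quotient.mk J)).ResidueField (fun a ha h0 => by
      rw [IsScalarTower.algebraMap_apply A (A ⧸ J) (p.map (Ideal.Quotient.mk J)).ResidueField,
        Ideal.algebraMap_residueField_eq_zero] at h0
      apply ha
      rw [← hcomap]
      exact h0)
  exact h3.trans h4

end Quot

section LocEquiv

variable {R S : Type u} [CommRing R] [CommRing S] (Φ : R →+* S) (hΦ : Function.Surjective Φ)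
  (p' : Ideal R) [p'.IsPrime] (hker : RingHom.ker Φ ≤ p')
  (hkill : ∀ x ∈ RingHom.ker Φ, ∃ s : R, s ∉ p' ∧ s * x = 0)

include hΦ hker hkill in
/-- `R_{p'} ≃ S_{Φ p'}` compatibly with `Φ` -/
theorem exists_locEquiv [(p'.map Φ).IsPrime] :
    ∃ e : Localization.AtPrime p' ≃+* Localization.AtPrime (p'.map Φ),
      ∀ x : R, e (algebraMap R (Localization.AtPrime p') x) =
        algebraMap S (Localization.AtPrime (p'.map Φ)) (Φ x) := by
  have hcomap := comap_map_of_ker_le Φ hΦ p' hker
  letI : Algebra R (Localization.AtPrime (p'.map Φ)) :=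
    ((algebraMap S (Localization.AtPrime (p'.map Φ))).comp Φ).toAlgebra
  have halg : ∀ x : R, algebraMap R (Localization.AtPrime (p'.map Φ)) x =
      algebraMap S (Localization.AtPrime (p'.map Φ)) (Φ x) := fun x => rfl
  have hnot : ∀ y : R, y ∉ p' → Φ y ∉ p'.map Φ := by
    intro y hy hmem
    apply hy
    rw [← hcomap]
    exact hmem
  haveI : IsLocalization.AtPrime (Localization.AtPrime (p'.map Φ)) p' := by
    refine ⟨?_, ?_, ?_⟩
    · rintro ⟨y, hy⟩
      rw [halg]
      exact IsLocalization.map_units (M := (p'.map Φ).primeCompl) _ ⟨Φ y, hnot y hy⟩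
    · intro z
      obtain ⟨⟨s, t⟩, hz⟩ := IsLocalization.surj (p'.map Φ).primeCompl z
      obtain ⟨x, hx⟩ := hΦ s
      obtain ⟨y, hy⟩ := hΦ (t : S)
      have hyp : y ∉ p' := by
        intro hmem
        apply t.2
        rw [← hy]
        exact Ideal.mem_map_of_mem Φ hmem
      refine ⟨⟨x, ⟨y, hyp⟩⟩, ?_⟩
      show z * algebraMap R _ y = algebraMap R _ x
      rw [halg, halg, hx, hy]
      exact hz
    · intro x₁ x₂ h
      rw [halg, halg] at h
      obtain ⟨t, ht⟩ := (IsLocalization.eq_iff_exists (p'.map Φ).primeCompl _).1 h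
      obtain ⟨y, hy⟩ := hΦ (t : S)
      have hyp : y ∉ p' := by
        intro hmem
        apply t.2
        rw [← hy]
        exact Ideal.mem_map_of_mem Φ hmem
      have hk : y * (x₁ - x₂) ∈ RingHom.ker Φ := by
        rw [RingHom.mem_ker, map_mul, map_sub, hy, mul_sub, ht, sub_self]
      obtain ⟨s, hs, hs0⟩ := hkill _ hk
      refine ⟨⟨s * y, ?_⟩, ?_⟩
      · show s * y ∈ p'.primeCompl
        exact (Ideal.IsPrime.mul_notMem inferInstance hs hyp)
      · show s * y * x₁ = s * y * x₂
        have : s * y * x₁ - s * y * x₂ = s * (y * (x₁ - x₂)) := by ring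
        rw [← sub_eq_zero, this, hs0]
  refine ⟨(IsLocalization.algEquiv p'.primeCompl (Localization.AtPrime p')
    (Localization.AtPrime (p'.map Φ))).toRingEquiv, fun x => ?_⟩
  exact (IsLocalization.algEquiv p'.primeCompl (Localization.AtPrime p')
    (Localization.AtPrime (p'.map Φ))).commutes x

end LocEquiv

section GeomReg

theorem isGeometricallyRegular_of_ringEquiv (k S₁ S₂ : Type u) [Field k] [CommRing S₁] [CommRing S₂]
    [Algebra k S₁] [Algebra k S₂] (e : S₁ ≃+* S₂)
    (he : ∀ c : k, e (algebraMap k S₁ c) = algebraMap k S₂ c)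
    (h : CAlg.IsGeometricallyRegular k S₁) : CAlg.IsGeometricallyRegular k S₂ := by
  intro k' _ _ hfin
  haveI := h k' hfin
  let e' : S₁ ≃ₐ[k] S₂ := AlgEquiv.ofRingEquiv (f := e) he
  exact IsRegularRing.of_ringEquiv
    (Algebra.TensorProduct.congr (AlgEquiv.refl : k' ≃ₐ[k] k') e').toRingEquiv

end GeomReg

section FreeImp

open Groth.Agent.Lib.ComplKaehlerGeomRegH3 Groth.Agent.Lib.ComplKaehlerDimH3

variable (k A : Type u) [Field k] [CommRing A] [IsLocalRing A] [IsNoetherianRing A] [Algebra k A]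
  [IsAdicComplete (maximalIdeal A) A] [Module.Finite k (ResidueField A)]
  (p : Ideal A) [p.IsPrime] (hp : p ≠ maximalIdeal A) (n : ℕ)
  (hn₁ : ∀ q ∈ minimalPrimes A, q ≤ p → ringKrullDim (A ⧸ q) ≤ n)
  (hn₂ : ∃ q ∈ minimalPrimes A, q ≤ p ∧ ringKrullDim (A ⧸ q) = n)
  (hgen : Module.finrank p.ResidueField
    (p.ResidueField ⊗[A] AdicCompletion (maximalIdeal A) (Ω[A⁄k])) ≤ n)

instance instIsPrimeMapMk : (p.map (Ideal.Quotient.mk (kerLoc p))).IsPrime := isPrime_map_mk p

include hp hn₁ hn₂ hgen in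
/-- if the fibre of `Ω̂` at `p` has dimension `≤ n`, then `A/J` is finite over a power series ring
in `n` variables and étale over it at `p/J`. -/
theorem exists_etale_quot :
    ∃ (_ : Algebra (MvPowerSeries (Fin n) k) (A ⧸ kerLoc p))
      (_ : IsScalarTower k (MvPowerSeries (Fin n) k) (A ⧸ kerLoc p)),
      IsLocalHom (algebraMap (MvPowerSeries (Fin n) k) (A ⧸ kerLoc p)) ∧
        Module.Finite (MvPowerSeries (Fin n) k) (A ⧸ kerLoc p) ∧
        Algebra.IsEtaleAt (MvPowerSeries (Fin n) k) (p.map (Ideal.Quotient.mk (kerLoc p))) := by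
  haveI : IsAdicComplete (maximalIdeal (A ⧸ kerLoc p)) (A ⧸ kerLoc p) :=
    Groth.Agent.Lib.MonomialCharPH3.isAdicComplete_quotient A (kerLoc p)
  haveI : Module.Finite k (ResidueField (A ⧸ kerLoc p)) :=
    finite_residueField_quotient k A (kerLoc p)
  haveI : Module.Finite (A ⧸ kerLoc p)
      (AdicCompletion (maximalIdeal (A ⧸ kerLoc p)) (Ω[(A ⧸ kerLoc p)⁄k])) :=
    Groth.Agent.Lib.ComplKaehlerGenH3.finite_completed k (A ⧸ kerLoc p)
  have hdim := ringKrullDim_quot_kerLoc p n hn₁ hn₂
  have hq := exists_minimalPrimes_quot p n hn₂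
  have hpbar := map_mk_ne_maximalIdeal p hp
  have hle := finrank_quot_le k A (kerLoc p) p (comap_map_mk p)
  have hgen' := exists_span_of_finrank_le (p.map (Ideal.Quotient.mk (kerLoc p)))
    (AdicCompletion (maximalIdeal (A ⧸ kerLoc p)) (Ω[(A ⧸ kerLoc p)⁄k])) n (hle.trans hgen)
  exact exists_algebra_etale k (A ⧸ kerLoc p) (p.map (Ideal.Quotient.mk (kerLoc p))) n hdim hpbar
    hq hgen'

include hp hn₁ hn₂ hgen in
/-- `(b) ⇒ (d)` -/
theorem isGeometricallyRegular_of_finrank_le :
    CAlg.IsGeometricallyRegular k (Localization.AtPrime p) := by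
  obtain ⟨alg, tow, hloc, hfin, het⟩ := exists_etale_quot k A p hp n hn₁ hn₂ hgen
  letI := alg
  haveI := tow
  haveI := hfin
  haveI : IsRegularLocalRing (MvPowerSeries (Fin n) k) :=
    Groth.Agent.Lib.RegPSH3.isRegularLocalRing_mvPowerSeries k n
  have hgr := isGeometricallyRegular_of_isEtaleAt k (MvPowerSeries (Fin n) k) (A ⧸ kerLoc p)
    (residue_surjective k n) (p.map (Ideal.Quotient.mk (kerLoc p))) het
  obtain ⟨e, he⟩ := exists_locEquiv (Ideal.Quotient.mk (kerLoc p)) Ideal.Quotient.mk_surjective p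
    (by rw [Ideal.mk_ker]; exact kerLoc_le p)
    (fun x hx => by
      rw [Ideal.mk_ker] at hx
      exact (mem_kerLoc p x).1 hx)
  refine isGeometricallyRegular_of_ringEquiv k _ _ e.symm (fun c => ?_) hgr
  rw [RingEquiv.symm_apply_eq, IsScalarTower.algebraMap_apply k A (Localization.AtPrime p), he,
    IsScalarTower.algebraMap_apply k (A ⧸ kerLoc p)
      (Localization.AtPrime (p.map (Ideal.Quotient.mk (kerLoc p))))]
  rfl

include hp hn₁ hn₂ hgen in
/-- `(b) ⇒ (a)` -/
theorem isRegularLocalRing_of_finrank_le (k' : Type u) [Field k'] [Algebra k k']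
    (p' : Ideal (AdicCompletion (EGA4.cTensorIdeal k A k') (A ⊗[k] k'))) [p'.IsPrime]
    (hp' : p'.comap (algebraMap A (AdicCompletion (EGA4.cTensorIdeal k A k') (A ⊗[k] k'))) = p) :
    IsRegularLocalRing (Localization.AtPrime p') := by
  obtain ⟨alg, tow, hloc, hfin, het⟩ := exists_etale_quot k A p hp n hn₁ hn₂ hgen
  letI := alg
  haveI := tow
  haveI := hfin
  have hreg : IsRegularLocalRing (MvPowerSeries (Fin n) k) :=
    Groth.Agent.Lib.RegPSH3.isRegularLocalRing_mvPowerSeries k n
  haveI : IsNoetherianRing (MvPowerSeries (Fin n) k) := by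
    haveI := hreg
    infer_instance
  have hres := residue_surjective k n
  haveI : Module.Finite k (ResidueField (MvPowerSeries (Fin n) k)) :=
    Module.Finite.of_surjective
      (Algebra.linearMap k (MvPowerSeries (Fin n) k ⧸ maximalIdeal (MvPowerSeries (Fin n) k))) hres
  have hmax := Groth.Agent.Lib.MonomialCharPH3.map_mk_maximalIdeal A (kerLoc p)
  have hloc' : (maximalIdeal (MvPowerSeries (Fin n) k)).map
      (algebraMap (MvPowerSeries (Fin n) k) (A ⧸ kerLoc p)) ≤
      (maximalIdeal A).map (Ideal.Quotient.mk (kerLoc p)) := by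
    rw [hmax]
    exact ((IsLocalRing.local_hom_TFAE
      (algebraMap (MvPowerSeries (Fin n) k) (A ⧸ kerLoc p))).out 0 2).1 hloc
  obtain ⟨c, hc⟩ := Groth.Agent.Lib.ComplTensorH3.exists_jacobson_pow_le
    (MvPowerSeries (Fin n) k) (A ⧸ kerLoc p)
  rw [IsLocalRing.jacobson_eq_maximalIdeal ⊥ bot_ne_top, ← hmax] at hc
  exact isRegularLocalRing_of_etaleAt k A (MvPowerSeries (Fin n) k) k' (kerLoc p) hloc' c hc hreg
    hres p (kerLoc_le p) (fun j hj => (mem_kerLoc p j).1 hj) het p' hp'

end FreeImp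

end Groth.Agent.Lib.NagTfaeH3
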