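import Mathlib
import Groth.Agent.Lib.ComplKaehlerFree4_helper3
import Groth.Agent.Lib.ComplKaehlerGeomReg_helper3

/-!
# Nagata's criterion TFAE (S3851), part 6 (helper3): general lemmas for `(a') ⇒ (b)`

* `finrank_tensor_eq_of_ker`: the fibre dimension at `p` may be computed over any field `K'` over
  `A` with `ker (A → K') = p`.
* `isGeometricallyRegular_of_perfectField`: a regular algebra over a perfect field is geometrically
  regular.
* `free_of_finrank_le_of_isDomain`: `A_P` a domain, `q ⊆ P` minimal with `dim A/q = n`, fibre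
  dimension of `Ω̂` at `P` at most `n` ⇒ `Ω̂_P` free of rank `n`.
APPEND-ONLY once landed.
-/

set_option autoImplicit false

namespace Groth.Agent.Lib.NagTfaeH3

open TensorProduct IsLocalRing KaehlerDifferential

universe u

section Rank

variable {A : Type u} [CommRing A] (p : Ideal A) [p.IsPrime] (N : Type u) [AddCommGroup N]
  [Module A N] (K' : Type u) [Field K'] [Algebra A K']

theorem finrank_tensor_eq_of_ker (hK : ∀ a : A, algebraMap A K' a = 0 ↔ a ∈ p) :
    Module.finrank K' (K' ⊗[A] N) = Module.finrank p.ResidueField (p.ResidueField ⊗[A] N) := by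
  have hf₁ : p ≤ RingHom.ker (algebraMap A K') := fun a ha => RingHom.mem_ker.2 ((hK a).2 ha)
  have hf₂ : p.primeCompl ≤ (IsUnit.submonoid K').comap (algebraMap A K') := fun a ha => by
    rw [Submonoid.mem_comap]
    exact IsUnit.mk0 _ (fun h0 => ha ((hK a).1 h0))
  let φ : p.ResidueField →+* K' := Ideal.ResidueField.lift p (algebraMap A K') hf₁ hf₂
  letI : Algebra p.ResidueField K' := φ.toAlgebra
  haveI : IsScalarTower A p.ResidueField K' :=
    IsScalarTower.of_algebraMap_eq (fun a =>
      (Ideal.ResidueField.lift_algebraMap p (algebraMap A K') hf₁ hf₂ a).symm)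
  have e₁ := AlgebraTensorModule.cancelBaseChange A p.ResidueField K' K' N
  rw [← e₁.finrank_eq]
  exact Module.finrank_baseChange

end Rank

section Perfect

theorem isGeometricallyRegular_of_perfectField (k' S : Type u) [Field k'] [PerfectField k']
    [CommRing S] [Algebra k' S] [IsRegularRing S] : CAlg.IsGeometricallyRegular k' S := by
  intro k'' _ _ hfin
  haveI := hfin
  haveI : Algebra.IsSeparable k' k'' := inferInstance
  haveI : Algebra.FormallyEtale k' k'' := Algebra.FormallyEtale.of_isSeparable k' k''
  haveI : IsRegularRing (S ⊗[k'] k'') :=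
    Groth.Agent.Lib.ComplKaehlerGeomRegH3.isRegularRing_of_flat_of_formallyUnramified S _
  exact IsRegularRing.of_ringEquiv (Algebra.TensorProduct.comm k' S k'').toRingEquiv

end Perfect

section FreeLe

open Groth.Agent.Lib.ComplKaehlerFreeH3

variable (k A : Type u) [Field k] [CommRing A] [IsLocalRing A] [IsNoetherianRing A] [Algebra k A]
  [IsAdicComplete (maximalIdeal A) A] [Module.Finite k (ResidueField A)]
  (P : Ideal A) [P.IsPrime] [IsDomain (Localization.AtPrime P)]
  (q : Ideal A) (hq : q ∈ minimalPrimes A) (hqP : q ≤ P) (n : ℕ)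
  (hn : ringKrullDim (A ⧸ q) = n)
  (hU : Module.finrank P.ResidueField
      (P.ResidueField ⊗[A] AdicCompletion (maximalIdeal A) (Ω[A⁄k])) ≤ n)

include hq hqP hn hU in
theorem free_of_finrank_le_of_isDomain :
    Module.Free (Localization.AtPrime P)
        (LocalizedModule P.primeCompl (AdicCompletion (maximalIdeal A) (Ω[A⁄k]))) ∧
      Module.finrank (Localization.AtPrime P)
        (LocalizedModule P.primeCompl (AdicCompletion (maximalIdeal A) (Ω[A⁄k]))) = n := by
  classical
  haveI : q.IsPrime := Ideal.minimalPrimes_isPrime hq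
  haveI := ComplKaehlerGenH3.finite_completed k A
  have hL := Groth.Agent.Lib.ComplKaehlerDimH3.main3847 k A q q hq le_rfl
  rw [hn, ← Module.finrank_eq_rank, Cardinal.toENat_nat] at hL
  have hL' : n ≤ Module.finrank q.ResidueField
      (q.ResidueField ⊗[A] AdicCompletion (maximalIdeal A) (Ω[A⁄k])) := by exact_mod_cast hL
  obtain ⟨alg, htower, hinj⟩ := exists_algebra_residueField P q hq hqP
  letI := alg
  haveI := htower
  refine free_of_finrank_le (LocalizedModule P.primeCompl
    (AdicCompletion (maximalIdeal A) (Ω[A⁄k]))) q.ResidueField hinj n ?_ ?_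
  · rw [finrank_tensor_localizedModule P (AdicCompletion (maximalIdeal A) (Ω[A⁄k]))
      P.ResidueField]
    exact hU
  · rw [finrank_tensor_localizedModule P (AdicCompletion (maximalIdeal A) (Ω[A⁄k]))
      q.ResidueField]
    exact hL'

end FreeLe

end Groth.Agent.Lib.NagTfaeH3
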