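import Mathlib
import Groth.Agent.Lib.NagTfae3_helper3
import Groth.Agent.Lib.ComplKaehlerDim1_helper3
import Groth.Agent.Lib.ComplKaehlerGen_helper3

/-!
# Nagata's criterion TFAE (S3851), part 7 (helper3): the completed differentials of `A ⊗̂_k k'`
dominate the base change of the completed differentials of `A`

`R' = (A ⊗̂_k k')_M` for a maximal ideal `M`.  The derivation `a ↦ 1 ⊗ d̂a` of `A` into
`N' = R' ⊗_A Ω̂_{A/k}` extends to a `k'`-derivation of `R'`; the induced map `Ω̂_{R'/k'} → N'` is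
surjective.  Consequence (`finrank_le_finrank_loc`): for every field `K'` over `R'`,
`dim_{K'} K' ⊗_A Ω̂_{A/k} ≤ dim_{K'} K' ⊗_{R'} Ω̂_{R'/k'}`.
APPEND-ONLY once landed.
-/

set_option autoImplicit false

namespace Groth.Agent.Lib.NagTfaeH3

open TensorProduct IsLocalRing KaehlerDifferential
open Groth.Agent.Lib.CTensH3

universe u

section Der

attribute [local instance] Algebra.TensorProduct.rightAlgebra

variable (k A k' : Type u) [Field k] [CommRing A] [IsNoetherianRing A] [IsLocalRing A] [Algebra k A]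
  [IsAdicComplete (maximalIdeal A) A] [Module.Finite k (ResidueField A)] [Field k'] [Algebra k k']
  (M : Ideal (AdicCompletion (EGA4.cTensorIdeal k A k') (A ⊗[k] k'))) [M.IsMaximal]

local notation "𝓟" => (A ⊗[k] k')
local notation "𝓙" => (EGA4.cTensorIdeal k A k')
local notation "𝓒" => (AdicCompletion (EGA4.cTensorIdeal k A k') (A ⊗[k] k'))
local notation "𝓡" => (Localization.AtPrime M)
local notation "Ωh" => (AdicCompletion (maximalIdeal A) (Ω[A⁄k]))
local notation "𝓝" => (Localization.AtPrime M ⊗[A] AdicCompletion (maximalIdeal A) (Ω[A⁄k]))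

/-- `d̂ : A → Ω̂` -/
noncomputable def dhat : A →+ Ωh :=
  ((AdicCompletion.of (maximalIdeal A) (Ω[A⁄k])).toAddMonoidHom).comp (D k A).toLinearMap.toAddMonoidHom

theorem dhat_apply (a : A) : dhat k A a = AdicCompletion.of (maximalIdeal A) (Ω[A⁄k]) (D k A a) :=
  rfl

theorem dhat_mul (a b : A) : dhat k A (a * b) = a • dhat k A b + b • dhat k A a := by
  rw [dhat_apply, dhat_apply, dhat_apply, Derivation.leibniz, map_add, map_smul, map_smul]

theorem dhat_algebraMap (c : k) : dhat k A (algebraMap k A c) = 0 := by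
  rw [dhat_apply, Derivation.map_algebraMap, map_zero]

theorem dhat_smul (c : k) (a : A) : dhat k A (c • a) = algebraMap k A c • dhat k A a := by
  rw [Algebra.smul_def, dhat_mul, dhat_algebraMap, smul_zero, add_zero]

/-- compatibility of the two structure maps of `k` -/
theorem algebraMap_comm (c : k) :
    algebraMap A 𝓡 (algebraMap k A c) = algebraMap k' 𝓡 (algebraMap k k' c) := by
  rw [IsScalarTower.algebraMap_apply A 𝓟 𝓡, IsScalarTower.algebraMap_apply k' 𝓟 𝓡]
  congr 1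
  show (algebraMap k A c) ⊗ₜ[k] (1 : k') = (1 : A) ⊗ₜ[k] (algebraMap k k' c)
  rw [Algebra.algebraMap_eq_smul_one, Algebra.algebraMap_eq_smul_one, TensorProduct.smul_tmul]

/-- `(a, y) ↦ y • (1 ⊗ d̂ a)` -/
noncomputable def dP₂ : A →+ k' →+ 𝓝 where
  toFun := fun a =>
    { toFun := fun y => algebraMap k' 𝓡 y • ((1 : 𝓡) ⊗ₜ[A] dhat k A a)
      map_zero' := by rw [map_zero, zero_smul]
      map_add' := fun y z => by rw [map_add, add_smul] }
  map_zero' := by
    ext y
    show algebraMap k' 𝓡 y • ((1 : 𝓡) ⊗ₜ[A] dhat k A 0) = 0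
    rw [map_zero, tmul_zero, smul_zero]
  map_add' := fun a b => by
    ext y
    show algebraMap k' 𝓡 y • ((1 : 𝓡) ⊗ₜ[A] dhat k A (a + b)) =
      algebraMap k' 𝓡 y • ((1 : 𝓡) ⊗ₜ[A] dhat k A a) +
      algebraMap k' 𝓡 y • ((1 : 𝓡) ⊗ₜ[A] dhat k A b)
    rw [map_add, tmul_add, smul_add]

theorem dP₂_apply (a : A) (y : k') :
    dP₂ k A k' M a y = algebraMap k' 𝓡 y • ((1 : 𝓡) ⊗ₜ[A] dhat k A a) := rfl

theorem dP₂_balanced (c : k) (a : A) (y : k') :
    dP₂ k A k' M (c • a) y = dP₂ k A k' M a (c • y) := by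
  rw [dP₂_apply, dP₂_apply, dhat_smul, TensorProduct.tmul_smul]
  have h1 : algebraMap k A c • ((1 : 𝓡) ⊗ₜ[A] dhat k A a) =
      algebraMap A 𝓡 (algebraMap k A c) • ((1 : 𝓡) ⊗ₜ[A] dhat k A a) :=
    (algebraMap_smul 𝓡 (algebraMap k A c) ((1 : 𝓡) ⊗ₜ[A] dhat k A a)).symm
  rw [h1, algebraMap_comm k A k' M c, smul_smul, Algebra.smul_def c y, map_mul, mul_comm]

/-- `a ⊗ y ↦ y • (1 ⊗ d̂ a)` -/
noncomputable def dP : 𝓟 →+ 𝓝 :=
  TensorProduct.liftAddHom (dP₂ k A k' M) (dP₂_balanced k A k' M)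

theorem dP_tmul (a : A) (y : k') :
    dP k A k' M (a ⊗ₜ[k] y) = algebraMap k' 𝓡 y • ((1 : 𝓡) ⊗ₜ[A] dhat k A a) := rfl

theorem algebraMap_tmul (a : A) (y : k') :
    algebraMap 𝓟 𝓡 (a ⊗ₜ[k] y) = algebraMap A 𝓡 a * algebraMap k' 𝓡 y := by
  rw [IsScalarTower.algebraMap_apply A 𝓟 𝓡, IsScalarTower.algebraMap_apply k' 𝓟 𝓡, ← map_mul]
  congr 1
  show a ⊗ₜ[k] y = (a ⊗ₜ[k] (1 : k')) * ((1 : A) ⊗ₜ[k] y)
  rw [Algebra.TensorProduct.tmul_mul_tmul, mul_one, one_mul]

theorem one_tmul_smul (a : A) (ω : Ωh) :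
    ((1 : 𝓡) ⊗ₜ[A] (a • ω) : 𝓝) = algebraMap A 𝓡 a • ((1 : 𝓡) ⊗ₜ[A] ω) := by
  rw [TensorProduct.tmul_smul, algebraMap_smul]

theorem dP_mul (x x' : 𝓟) :
    dP k A k' M (x * x') =
      algebraMap 𝓟 𝓡 x • dP k A k' M x' + algebraMap 𝓟 𝓡 x' • dP k A k' M x := by
  induction x using TensorProduct.induction_on with
  | zero => rw [zero_mul, map_zero, map_zero, zero_smul, smul_zero, add_zero]
  | add x₁ x₂ h₁ h₂ =>
    rw [add_mul, map_add, h₁, h₂, map_add, map_add, add_smul, smul_add]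
    abel
  | tmul a y =>
    induction x' using TensorProduct.induction_on with
    | zero => rw [mul_zero, map_zero, map_zero, zero_smul, smul_zero, add_zero]
    | add x₁ x₂ h₁ h₂ =>
      rw [mul_add, map_add, h₁, h₂, map_add, map_add, add_smul, smul_add]
      abel
    | tmul a' y' =>
      rw [Algebra.TensorProduct.tmul_mul_tmul, dP_tmul, dP_tmul, dP_tmul, dhat_mul, tmul_add,
        one_tmul_smul, one_tmul_smul, algebraMap_tmul, algebraMap_tmul, map_mul]
      rw [smul_add, smul_smul, smul_smul, smul_smul, smul_smul]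
      congr 1
      · congr 1
        ring
      · congr 1
        ring

theorem dhat_one : dhat k A 1 = 0 := by
  rw [← map_one (algebraMap k A), dhat_algebraMap]

theorem isAdicComplete_loc : IsAdicComplete ((𝓙).map (algebraMap 𝓟 𝓡)) 𝓡 := by
  haveI := isNoetherianRing_cTensor k A k'
  haveI : IsNoetherianRing 𝓡 := IsLocalization.isNoetherianRing M.primeCompl _ inferInstance
  haveI := isAdicComplete_localization_field k A k' M
  refine isAdicComplete_of_le _ (maximalIdeal 𝓡) ?_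
  have h : (𝓙).map (algebraMap 𝓟 𝓡) = (maximalIdeal A).map (algebraMap A 𝓡) :=
    calc (𝓙).map (algebraMap 𝓟 𝓡)
        = ((maximalIdeal A).map (algebraMap A 𝓟)).map (algebraMap 𝓟 𝓡) :=
          congrArg (fun J => Ideal.map (algebraMap 𝓟 𝓡) J) (cTensorIdeal_field k A k')
      _ = (maximalIdeal A).map (algebraMap A 𝓡) := by
          rw [Ideal.map_map, ← IsScalarTower.algebraMap_eq]
  rw [h]
  exact map_le_maximalIdeal_localization k A k' M

/-- the `k'`-derivation of `R'` into `R' ⊗_A Ω̂_{A/k}` extending `a ↦ 1 ⊗ d̂a` -/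
theorem exists_derivation : ∃ E : Derivation k' 𝓡 𝓝,
    ∀ a : A, E (algebraMap A 𝓡 a) = (1 : 𝓡) ⊗ₜ[A] dhat k A a := by
  haveI := isNoetherianRing_cTensor k A k'
  haveI : IsNoetherianRing 𝓡 := IsLocalization.isNoetherianRing M.primeCompl _ inferInstance
  haveI := Groth.Agent.Lib.ComplKaehlerGenH3.finite_completed k A
  obtain ⟨D, hDmul, hDext⟩ := exists_derivation_extension 𝓙 (cTensorIdeal_fg k A k') M
    (isAdicComplete_loc k A k' M) 𝓝 (dP k A k' M) (dP_mul k A k' M)
  have hDk : ∀ y : k', D (algebraMap k' 𝓡 y) = 0 := by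
    intro y
    rw [IsScalarTower.algebraMap_apply k' 𝓟 𝓡, hDext]
    show dP k A k' M ((1 : A) ⊗ₜ[k] y) = 0
    rw [dP_tmul, dhat_one, tmul_zero, smul_zero]
  refine ⟨Derivation.mk' { toFun := D
                           map_add' := D.map_add
                           map_smul' := fun y r => ?_ } hDmul, fun a => ?_⟩
  · show D (y • r) = y • D r
    rw [Algebra.smul_def, hDmul, hDk, smul_zero, add_zero, algebraMap_smul]
  · show D (algebraMap A 𝓡 a) = _
    rw [IsScalarTower.algebraMap_apply A 𝓟 𝓡, hDext]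
    show dP k A k' M (a ⊗ₜ[k] (1 : k')) = _
    rw [dP_tmul, map_one, one_smul]

theorem finite_residueField_loc : Module.Finite k' (ResidueField 𝓡) := by
  haveI := isAdicComplete_field k'
  haveI := finite_residue k A k' M
  let f : 𝓒 →ₐ[k'] ResidueField 𝓡 :=
    (IsScalarTower.toAlgHom k' 𝓡 (ResidueField 𝓡)).comp (IsScalarTower.toAlgHom k' 𝓒 𝓡)
  have hf : ∀ x ∈ M, f x = 0 := by
    intro x hx
    show residue 𝓡 (algebraMap 𝓒 𝓡 x) = 0
    rw [residue_eq_zero_iff, ← Localization.AtPrime.map_eq_maximalIdeal]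
    exact Ideal.mem_map_of_mem _ hx
  let g : (𝓒 ⧸ M) →ₐ[k'] ResidueField 𝓡 := Ideal.Quotient.liftₐ M f hf
  have hg : Function.Surjective g := by
    intro y
    obtain ⟨r, rfl⟩ := residue_surjective y
    obtain ⟨x, rfl⟩ := surjective_algebraMap_localization_field k A k' M r
    exact ⟨Ideal.Quotient.mk _ x, rfl⟩
  exact Module.Finite.of_surjective g.toLinearMap hg

open Groth.Agent.Lib.ComplKaehlerDimH3 in
/-- the fibre dimension of `Ω̂_{A/k}` is bounded by that of `Ω̂_{R'/k'}` -/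
theorem finrank_le_finrank_loc (K' : Type u) [Field K'] [Algebra 𝓡 K'] [Algebra A K']
    [IsScalarTower A 𝓡 K'] :
    haveI := isAdicComplete_localization_field k A k' M
    Module.finrank K' (K' ⊗[A] Ωh) ≤
      Module.finrank K' (K' ⊗[𝓡] AdicCompletion (maximalIdeal 𝓡) (Ω[𝓡⁄k'])) := by
  haveI := isNoetherianRing_cTensor k A k'
  haveI : IsNoetherianRing 𝓡 := IsLocalization.isNoetherianRing M.primeCompl _ inferInstance
  haveI := isAdicComplete_localization_field k A k' M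
  haveI := finite_residueField_loc k A k' M
  haveI := Groth.Agent.Lib.ComplKaehlerGenH3.finite_completed k A
  haveI := Groth.Agent.Lib.ComplKaehlerGenH3.finite_completed k' 𝓡
  obtain ⟨E, hE⟩ := exists_derivation k A k' M
  obtain ⟨Ê, hÊ⟩ := exists_lift_derivation E
  have hsurj : Function.Surjective Ê := by
    rw [← LinearMap.range_eq_top, ← top_le_iff]
    have h1 := Groth.Agent.Lib.ComplKaehlerGenH3.span_of_D k A
    have h3 := Submodule.baseChange_span (R := A) (A := 𝓡) (Set.range fun a : A =>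
      AdicCompletion.of (maximalIdeal A) (Ω[A⁄k]) (D k A a))
    rw [h1, Submodule.baseChange_top, ← Set.range_comp] at h3
    rw [h3, Submodule.span_le]
    rintro _ ⟨a, rfl⟩
    refine ⟨AdicCompletion.of (maximalIdeal 𝓡) (Ω[𝓡⁄k']) (D k' 𝓡 (algebraMap A 𝓡 a)), ?_⟩
    rw [hÊ, hE]
    rfl
  have h3 := finrank_tensor_le_of_surjective (A := 𝓡) (A' := 𝓡) K' Ê hsurj
  have e₁ := AlgebraTensorModule.cancelBaseChange A 𝓡 K' K' Ωh
  rw [← e₁.finrank_eq]
  exact h3

end Der

end Groth.Agent.Lib.NagTfaeH3
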