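import Mathlib
import Groth.Agent.Lib.NagTfae6_helper3
import Groth.Agent.Lib.NagTfae7_helper3
import Groth.Agent.Lib.HensBranches3_helper3
import Groth.Agent.Lib.NagataCrit_helper3

/-!
# Nagata's criterion TFAE (S3851), part 8 (helper3): `(a') ⇒ (b)`

* `ringKrullDim_quot_le_of_artinian`: for a local homomorphism `A → B` of Noetherian local rings
  with Artinian closed fibre and a prime `Q` of `B`, `dim B/Q ≤ dim A/(Q ∩ A)`.
* `free_of_regular_perfect`: if `(A ⊗̂_k k')_{p'}` is regular for a perfect `k'` and a prime `p'`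
  over `p`, then `Ω̂_p` is free of rank `n`.
APPEND-ONLY once landed.
-/

set_option autoImplicit false

namespace Groth.Agent.Lib.NagTfaeH3

open TensorProduct IsLocalRing KaehlerDifferential
open Groth.Agent.Lib.CTensH3

universe u

section DimLe

variable {A B : Type u} [CommRing A] [CommRing B] [IsLocalRing A] [IsLocalRing B]
  [IsNoetherianRing A] [IsNoetherianRing B] [Algebra A B] [IsLocalHom (algebraMap A B)]

theorem ringKrullDim_quot_le_of_artinian
    (hart : IsArtinianRing (B ⧸ (maximalIdeal A).map (algebraMap A B))) (Q : Ideal B) [Q.IsPrime] :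
    ringKrullDim (B ⧸ Q) ≤ ringKrullDim (A ⧸ Q.comap (algebraMap A B)) := by
  haveI : IsLocalRing (A ⧸ Q.comap (algebraMap A B)) :=
    IsLocalRing.of_surjective' (Ideal.Quotient.mk _) Ideal.Quotient.mk_surjective
  haveI : IsLocalRing (B ⧸ Q) :=
    IsLocalRing.of_surjective' (Ideal.Quotient.mk _) Ideal.Quotient.mk_surjective
  have hmk : ∀ a : A, algebraMap (A ⧸ Q.comap (algebraMap A B)) (B ⧸ Q)
      (Ideal.Quotient.mk _ a) = Ideal.Quotient.mk Q (algebraMap A B a) := fun a => rfl
  have hle : (maximalIdeal (A ⧸ Q.comap (algebraMap A B))).map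
      (algebraMap (A ⧸ Q.comap (algebraMap A B)) (B ⧸ Q)) ≤ maximalIdeal (B ⧸ Q) := by
    rw [← Groth.Agent.Lib.MonomialCharPH3.map_mk_maximalIdeal A (Q.comap (algebraMap A B)),
      Ideal.map_map, Ideal.map_le_iff_le_comap]
    intro a ha
    rw [Ideal.mem_comap, RingHom.comp_apply, hmk,
      ← Groth.Agent.Lib.MonomialCharPH3.map_mk_maximalIdeal B Q]
    apply Ideal.mem_map_of_mem
    have hlocAB : IsLocalHom (algebraMap A B) := inferInstance
    have hmapAB : (maximalIdeal A).map (algebraMap A B) ≤ maximalIdeal B :=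
      ((IsLocalRing.local_hom_TFAE (algebraMap A B)).out 0 2).1 hlocAB
    exact hmapAB (Ideal.mem_map_of_mem _ ha)
  haveI : IsLocalHom (algebraMap (A ⧸ Q.comap (algebraMap A B)) (B ⧸ Q)) :=
    ((IsLocalRing.local_hom_TFAE _).out 0 2).2 hle
  obtain ⟨I, hI⟩ : ∃ I : Ideal (B ⧸ Q), I = (maximalIdeal (A ⧸ Q.comap (algebraMap A B))).map
      (algebraMap (A ⧸ Q.comap (algebraMap A B)) (B ⧸ Q)) := ⟨_, rfl⟩
  have hIne : I ≠ ⊤ := by
    rw [hI]
    exact ne_top_of_le_ne_top (maximalIdeal.isMaximal _).ne_top hle
  haveI : Nontrivial ((B ⧸ Q) ⧸ I) := Ideal.Quotient.nontrivial_iff.mpr hIne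
  haveI : IsLocalRing ((B ⧸ Q) ⧸ I) :=
    IsLocalRing.of_surjective' (Ideal.Quotient.mk I) Ideal.Quotient.mk_surjective
  have h := Groth.Agent.Lib.RegFlatH3.ringKrullDim_le_add (A := A ⧸ Q.comap (algebraMap A B))
    (B := B ⧸ Q) I hI
  haveI : IsArtinianRing ((B ⧸ Q) ⧸ I) := by
    haveI := hart
    have hkill : ∀ x ∈ (maximalIdeal A).map (algebraMap A B),
        ((Ideal.Quotient.mk I).comp (Ideal.Quotient.mk Q)) x = 0 := by
      intro x hx
      have : (maximalIdeal A).map (algebraMap A B) ≤
          RingHom.ker ((Ideal.Quotient.mk I).comp (Ideal.Quotient.mk Q)) := by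
        rw [Ideal.map_le_iff_le_comap]
        intro a ha
        rw [Ideal.mem_comap, RingHom.mem_ker, RingHom.comp_apply, ← hmk,
          Ideal.Quotient.eq_zero_iff_mem, hI]
        apply Ideal.mem_map_of_mem
        rw [← Groth.Agent.Lib.MonomialCharPH3.map_mk_maximalIdeal A (Q.comap (algebraMap A B))]
        exact Ideal.mem_map_of_mem _ ha
      exact this hx
    have hs : Function.Surjective (Ideal.Quotient.lift ((maximalIdeal A).map (algebraMap A B))
        ((Ideal.Quotient.mk I).comp (Ideal.Quotient.mk Q)) hkill) := by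
      intro y
      obtain ⟨z, rfl⟩ := Ideal.Quotient.mk_surjective y
      obtain ⟨b, rfl⟩ := Ideal.Quotient.mk_surjective z
      exact ⟨Ideal.Quotient.mk _ b, rfl⟩
    exact hs.isArtinianRing
  have h0 : ringKrullDim ((B ⧸ Q) ⧸ I) = 0 :=
    ringKrullDimZero_iff_ringKrullDim_eq_zero.mp
      (isArtinianRing_iff_isNoetherianRing_krullDimLE_zero.mp inferInstance).2
  rw [h0, add_zero] at h
  exact h

theorem exists_nat_dim (R : Type u) [CommRing R] [IsNoetherianRing R] [IsLocalRing R] :
    ∃ n : ℕ, ringKrullDim R = (n : WithBot ℕ∞) := by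
  have h1 : ringKrullDim R < ⊤ := ringKrullDim_lt_top
  have h0 : (0 : WithBot ℕ∞) ≤ ringKrullDim R := ringKrullDim_nonneg_of_nontrivial
  generalize ringKrullDim R = y at h0 h1
  induction y using WithBot.recBotCoe with
  | bot => exact absurd (lt_of_lt_of_le (WithBot.bot_lt_coe (0 : ℕ∞)) h0) (not_lt_bot)
  | coe e =>
    induction e using ENat.recTopCoe with
    | top => exact absurd h1 (lt_irrefl _)
    | coe m => exact ⟨m, rfl⟩

end DimLe

section Main

attribute [local instance] Algebra.TensorProduct.rightAlgebra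

variable (k A : Type u) [Field k] [CommRing A] [IsNoetherianRing A] [IsLocalRing A] [Algebra k A]
  [IsAdicComplete (maximalIdeal A) A] [Module.Finite k (ResidueField A)]
  (k' : Type u) [Field k'] [Algebra k k']

local notation "𝓟" => (A ⊗[k] k')
local notation "𝓙" => (EGA4.cTensorIdeal k A k')
local notation "𝓒" => (AdicCompletion (EGA4.cTensorIdeal k A k') (A ⊗[k] k'))
local notation "Ωh" => (AdicCompletion (maximalIdeal A) (Ω[A⁄k]))

theorem isArtinianRing_loc_quot (M : Ideal 𝓒) [M.IsMaximal] :
    IsArtinianRing (Localization.AtPrime M ⧸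
      (maximalIdeal A).map (algebraMap A (Localization.AtPrime M))) := by
  haveI := isArtinianRing_quot_field k A k'
  have hle : (𝓙).map (algebraMap 𝓟 𝓒) ≤
      ((maximalIdeal A).map (algebraMap A (Localization.AtPrime M))).comap
        (algebraMap 𝓒 (Localization.AtPrime M)) := by
    rw [map_cTensorIdeal_field, ← Ideal.map_le_iff_le_comap, Ideal.map_map,
      ← IsScalarTower.algebraMap_eq]
  exact (Ideal.quotientMap_surjective (H := hle)
    (surjective_algebraMap_localization_field k A k' M)).isArtinianRing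

variable (p : Ideal A) [p.IsPrime] (n : ℕ)
  (hn₁ : ∀ q ∈ minimalPrimes A, q ≤ p → ringKrullDim (A ⧸ q) ≤ n)
  (hn₂ : ∃ q ∈ minimalPrimes A, q ≤ p ∧ ringKrullDim (A ⧸ q) = n)
  [PerfectField k']
  (p' : Ideal (AdicCompletion (EGA4.cTensorIdeal k A k') (A ⊗[k] k'))) [p'.IsPrime]
  (hp' : p'.comap (algebraMap A (AdicCompletion (EGA4.cTensorIdeal k A k') (A ⊗[k] k'))) = p)
  (hreg : IsRegularLocalRing (Localization.AtPrime p'))

include hp' hreg in
theorem isDomain_of_regular : IsDomain (Localization.AtPrime p) := by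
  haveI := isAdicComplete_field k'
  haveI := hreg
  haveI : IsDomain (Localization.AtPrime p') := Groth.Agent.RegularLib.isDomain _
  haveI : p'.LiesOver p := ⟨hp'.symm⟩
  letI := Localization.AtPrime.algebraOfLiesOver p p'
  haveI : Module.Flat A 𝓒 := flat_left k A k'
  haveI : Module.Flat 𝓒 (Localization.AtPrime p') := IsLocalization.flat _ p'.primeCompl
  haveI : Module.Flat A (Localization.AtPrime p') := Module.Flat.trans A 𝓒 _
  haveI : Module.Flat (Localization.AtPrime p) (Localization.AtPrime p') := by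
    rw [Module.flat_iff_of_isLocalization (Localization.AtPrime p) p.primeCompl]
    infer_instance
  haveI : IsLocalHom (algebraMap (Localization.AtPrime p) (Localization.AtPrime p')) :=
    Localization.isLocalHom_localRingHom p p' (algebraMap A 𝓒) Ideal.LiesOver.over
  haveI : Module.FaithfullyFlat (Localization.AtPrime p) (Localization.AtPrime p') :=
    Module.FaithfullyFlat.of_flat_of_isLocalHom
  exact (FaithfulSMul.algebraMap_injective (Localization.AtPrime p)
    (Localization.AtPrime p')).isDomain _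

include hn₁ hn₂ hp' hreg in
/-- `(a') ⇒ (b)` -/
theorem free_of_regular_perfect :
    Module.Free (Localization.AtPrime p) (LocalizedModule p.primeCompl Ωh) ∧
      Module.finrank (Localization.AtPrime p) (LocalizedModule p.primeCompl Ωh) = n := by
  classical
  haveI := isAdicComplete_field k'
  haveI hN𝓒 := isNoetherianRing_cTensor k A k'
  haveI hdomA : IsDomain (Localization.AtPrime p) := isDomain_of_regular k A k' p p' hp' hreg
  obtain ⟨M, hMmax, hp'M⟩ := Ideal.exists_le_maximal p' (inferInstance : p'.IsPrime).ne_top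
  haveI := hMmax
  haveI : IsNoetherianRing (Localization.AtPrime M) :=
    IsLocalization.isNoetherianRing M.primeCompl _ inferInstance
  haveI := isAdicComplete_localization_field k A k' M
  haveI := finite_residueField_loc k A k' M
  have hd : Disjoint (M.primeCompl : Set 𝓒) (p' : Set 𝓒) := by
    rw [Set.disjoint_left]
    intro x hx hxp
    exact hx (hp'M hxp)
  obtain ⟨P', hP'def⟩ : ∃ P' : Ideal (Localization.AtPrime M),
      P' = p'.map (algebraMap 𝓒 (Localization.AtPrime M)) := ⟨_, rfl⟩
  haveI hP'prime : P'.IsPrime := by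
    rw [hP'def]
    exact IsLocalization.isPrime_of_isPrime_disjoint M.primeCompl _ p' inferInstance hd
  have hP'comap : P'.comap (algebraMap 𝓒 (Localization.AtPrime M)) = p' := by
    rw [hP'def]
    exact IsLocalization.under_map_of_isPrime_disjoint M.primeCompl _ inferInstance hd
  haveI hregP' : IsRegularLocalRing (Localization.AtPrime P') := by
    subst hP'def
    exact (Groth.Agent.Lib.NagataCritH3.isRegularLocalRing_iff_map_of_disjoint 𝓒 M.primeCompl
      (Localization.AtPrime M) p' hd).1 hreg
  haveI : IsRegularRing (Localization.AtPrime P') :=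
    Groth.Agent.Lib.NagataCritH3.isRegularRing_of_isRegularLocalRing _
  have hgeom := isGeometricallyRegular_of_perfectField k' (Localization.AtPrime P')
  obtain ⟨q', hq'min, hq'le⟩ := Ideal.exists_minimalPrimes_le
    (I := (⊥ : Ideal (Localization.AtPrime M))) (J := P') bot_le
  haveI : q'.IsPrime := Ideal.minimalPrimes_isPrime hq'min
  haveI : IsLocalRing (Localization.AtPrime M ⧸ q') :=
    IsLocalRing.of_surjective' (Ideal.Quotient.mk q') Ideal.Quotient.mk_surjective
  obtain ⟨n', hn'⟩ := exists_nat_dim (Localization.AtPrime M ⧸ q')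
  obtain ⟨pp, hpp⟩ := ExpChar.exists k'
  haveI := hpp
  have hfrob : (frobenius k' pp).Finite :=
    RingHom.Finite.of_surjective _ (bijective_frobenius k' pp).2
  obtain ⟨hfree, hrank⟩ := Groth.Agent.Lib.ComplKaehlerFreeH3.main5074 pp k'
    (Localization.AtPrime M) hfrob P' hgeom q' hq'min hq'le n' hn'
  haveI := hfree
  haveI := Groth.Agent.Lib.ComplKaehlerGenH3.finite_completed k' (Localization.AtPrime M)
  let bas := Module.finBasisOfFinrankEq (Localization.AtPrime P')
    (LocalizedModule P'.primeCompl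
      (AdicCompletion (maximalIdeal (Localization.AtPrime M)) (Ω[Localization.AtPrime M⁄k'])))
    hrank
  have h8 := Groth.Agent.Lib.ComplKaehlerUnramH3.finrank_tensor_le_of_span P'
    (AdicCompletion (maximalIdeal (Localization.AtPrime M)) (Ω[Localization.AtPrime M⁄k']))
    n' bas bas.span_eq
  have h9 := finrank_le_finrank_loc k A k' M P'.ResidueField
  have hK : ∀ a : A, algebraMap A P'.ResidueField a = 0 ↔ a ∈ p := by
    intro a
    rw [IsScalarTower.algebraMap_apply A (Localization.AtPrime M) P'.ResidueField,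
      Ideal.algebraMap_residueField_eq_zero]
    have h1 : algebraMap A (Localization.AtPrime M) a ∈ P' ↔ algebraMap A 𝓒 a ∈ p' := by
      have h2 : algebraMap A 𝓒 a ∈ P'.comap (algebraMap 𝓒 (Localization.AtPrime M)) ↔
          algebraMap A 𝓒 a ∈ p' := by rw [hP'comap]
      rw [← h2, Ideal.mem_comap, ← IsScalarTower.algebraMap_apply]
    have h3 : a ∈ p'.comap (algebraMap A 𝓒) ↔ a ∈ p := by rw [hp']
    rw [h1, ← h3, Ideal.mem_comap]
  have h10 := finrank_tensor_eq_of_ker p Ωh P'.ResidueField hK
  have h11 : n' ≤ n := by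
    haveI : Module.Flat A (Localization.AtPrime M) := flat_localization_field k A k' M
    haveI : IsLocalHom (algebraMap A (Localization.AtPrime M)) := isLocalHom_localization k A k' M
    have hmin := Groth.Agent.Lib.HensBranchesH3.comap_mem_minimalPrimes_of_flat (S := A) q' hq'min
    have hle : q'.comap (algebraMap A (Localization.AtPrime M)) ≤ p := by
      intro a ha
      rw [← hK a, IsScalarTower.algebraMap_apply A (Localization.AtPrime M) P'.ResidueField,
        Ideal.algebraMap_residueField_eq_zero]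
      exact hq'le ha
    have h1 := ringKrullDim_quot_le_of_artinian (isArtinianRing_loc_quot k A k' M) q'
    have h2 := hn₁ _ hmin hle
    rw [hn'] at h1
    exact_mod_cast h1.trans h2
  obtain ⟨q, hq, hqp, hqn⟩ := hn₂
  refine free_of_finrank_le_of_isDomain k A p q hq hqp n hqn ?_
  rw [← h10]
  exact (h9.trans h8).trans h11

end Main

end Groth.Agent.Lib.NagTfaeH3
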