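import Mathlib
import Groth.Agent.Lib.NagTfae5_helper3
import Groth.Agent.Lib.NagTfae8_helper3

/-!
# Nagata's criterion TFAE (S3851), part 9 (helper3): assembling

* `finrank_le_of_free`: `(b)` gives the bound on the fibre dimension of `Ω̂` at `p`.
* `exists_prime_over`: for every field extension `k'` there is a prime of `A ⊗̂_k k'` over `p`.
* `main3851`: the statement.
APPEND-ONLY once landed.
-/

set_option autoImplicit false

namespace Groth.Agent.Lib.NagTfaeH3

open TensorProduct IsLocalRing KaehlerDifferential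
open Groth.Agent.Lib.CTensH3

universe u

section Asm

variable (k A : Type u) [Field k] [CommRing A] [IsLocalRing A] [IsNoetherianRing A] [Algebra k A]
  [IsAdicComplete (maximalIdeal A) A] [Module.Finite k (ResidueField A)]
  (p : Ideal A) [p.IsPrime] (hp : p ≠ maximalIdeal A) (n : ℕ)
  (hn₁ : ∀ q ∈ minimalPrimes A, q ≤ p → ringKrullDim (A ⧸ q) ≤ n)
  (hn₂ : ∃ q ∈ minimalPrimes A, q ≤ p ∧ ringKrullDim (A ⧸ q) = n)

local notation "Ωh" => (AdicCompletion (maximalIdeal A) (Ω[A⁄k]))

theorem finrank_le_of_free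
    (hb : Module.Free (Localization.AtPrime p) (LocalizedModule p.primeCompl Ωh) ∧
      Module.finrank (Localization.AtPrime p) (LocalizedModule p.primeCompl Ωh) = n) :
    Module.finrank p.ResidueField (p.ResidueField ⊗[A] Ωh) ≤ n := by
  obtain ⟨hfree, hrank⟩ := hb
  haveI := hfree
  haveI := Groth.Agent.Lib.ComplKaehlerGenH3.finite_completed k A
  let bas := Module.finBasisOfFinrankEq (Localization.AtPrime p)
    (LocalizedModule p.primeCompl Ωh) hrank
  exact Groth.Agent.Lib.ComplKaehlerUnramH3.finrank_tensor_le_of_span p Ωh n bas bas.span_eq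

variable (k' : Type u) [Field k'] [Algebra k k']

local notation "𝓟" => (A ⊗[k] k')
local notation "𝓙" => (EGA4.cTensorIdeal k A k')
local notation "𝓒" => (AdicCompletion (EGA4.cTensorIdeal k A k') (A ⊗[k] k'))

omit [IsNoetherianRing A] [IsAdicComplete (maximalIdeal A) A]
  [Module.Finite k (ResidueField A)] in
theorem map_includeLeft_eq :
    (maximalIdeal A).map (Algebra.TensorProduct.includeLeft : A →ₐ[k] A ⊗[k] k') = 𝓙 := by
  rw [cTensorIdeal_field k A k']
  rfl

omit [IsNoetherianRing A] [IsAdicComplete (maximalIdeal A) A]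
  [Module.Finite k (ResidueField A)] in
theorem cTensorIdeal_ne_top : 𝓙 ≠ ⊤ := by
  intro htop
  let g : 𝓟 →ₐ[k] (ResidueField A) ⊗[k] k' :=
    Algebra.TensorProduct.map (IsScalarTower.toAlgHom k A (ResidueField A)) (AlgHom.id k k')
  haveI : Nontrivial ((ResidueField A) ⊗[k] k') :=
    Algebra.TensorProduct.nontrivial_of_algebraMap_injective_of_flat_left k (ResidueField A) k'
      (algebraMap k k').injective
  have hle : 𝓙 ≤ RingHom.ker g.toRingHom := by
    rw [cTensorIdeal_field k A k', Ideal.map_le_iff_le_comap]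
    intro a ha
    rw [Ideal.mem_comap, RingHom.mem_ker]
    have h1 : algebraMap A 𝓟 a = a ⊗ₜ[k] (1 : k') := rfl
    rw [h1]
    show g (a ⊗ₜ[k] (1 : k')) = 0
    rw [Algebra.TensorProduct.map_tmul]
    have h2 : (IsScalarTower.toAlgHom k A (ResidueField A)) a = 0 := by
      rw [IsScalarTower.coe_toAlgHom']
      exact (IsLocalRing.residue_eq_zero_iff a).2 ha
    rw [h2, zero_tmul]
  have h1 : (1 : 𝓟) ∈ RingHom.ker g.toRingHom := hle (htop ▸ Submodule.mem_top)
  rw [RingHom.mem_ker, map_one] at h1
  exact one_ne_zero h1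

omit [IsNoetherianRing A] [IsAdicComplete (maximalIdeal A) A]
  [Module.Finite k (ResidueField A)] in
theorem nontrivial_cTensor : Nontrivial 𝓒 := by
  haveI : Nontrivial (𝓟 ⧸ 𝓙) := Ideal.Quotient.nontrivial_iff.mpr (cTensorIdeal_ne_top k A k')
  exact (AdicCompletion.evalOneₐ_surjective 𝓙).nontrivial

omit [IsAdicComplete (maximalIdeal A) A] in
theorem exists_prime_over :
    ∃ p' : Ideal 𝓒, p'.IsPrime ∧ p'.comap (algebraMap A 𝓒) = p := by
  haveI := nontrivial_cTensor k A k'
  obtain ⟨M, hM⟩ := Ideal.exists_maximal 𝓒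
  haveI := hM
  haveI := faithfullyFlat_localization k A k' M
  obtain ⟨Q, hQ, hQp⟩ := Ideal.exists_isPrime_liesOver_of_faithfullyFlat
    (B := Localization.AtPrime M) p
  refine ⟨Q.comap (algebraMap 𝓒 (Localization.AtPrime M)), inferInstance, ?_⟩
  rw [Ideal.comap_comap, ← IsScalarTower.algebraMap_eq]
  exact hQp.over.symm

omit [IsLocalRing A] [IsNoetherianRing A] [IsAdicComplete (maximalIdeal A) A]
  [Module.Finite k (ResidueField A)] in
theorem comap_bridge (I : Ideal 𝓟) (p' : Ideal (AdicCompletion I 𝓟)) :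
    (p'.comap (algebraMap 𝓟 (AdicCompletion I 𝓟))).comap
      (Algebra.TensorProduct.includeLeft : A →ₐ[k] A ⊗[k] k').toRingHom =
      p'.comap (algebraMap A (AdicCompletion I 𝓟)) := by
  ext a
  rfl

include hp hn₁ hn₂ in
/-- `(b) ⇒ (a)`, in the statement's form. -/
theorem regular_of_free
    (hb : Module.Free (Localization.AtPrime p) (LocalizedModule p.primeCompl Ωh) ∧
      Module.finrank (Localization.AtPrime p) (LocalizedModule p.primeCompl Ωh) = n)
    (I : Ideal 𝓟) (hI : I = 𝓙) (p' : Ideal (AdicCompletion I 𝓟)) [p'.IsPrime]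
    (hp' : (p'.comap (algebraMap 𝓟 (AdicCompletion I 𝓟))).comap
      (Algebra.TensorProduct.includeLeft : A →ₐ[k] A ⊗[k] k').toRingHom = p) :
    IsRegularLocalRing (Localization.AtPrime p') := by
  subst hI
  rw [comap_bridge] at hp'
  exact isRegularLocalRing_of_finrank_le k A p hp n hn₁ hn₂ (finrank_le_of_free k A p n hb) k' p' hp'

include hn₁ hn₂ in
/-- `(a') ⇒ (b)`, in the statement's form. -/
theorem free_of_regular [PerfectField k']
    (I : Ideal 𝓟) (hI : I = 𝓙) (p' : Ideal (AdicCompletion I 𝓟)) [p'.IsPrime]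
    (hp' : (p'.comap (algebraMap 𝓟 (AdicCompletion I 𝓟))).comap
      (Algebra.TensorProduct.includeLeft : A →ₐ[k] A ⊗[k] k').toRingHom = p)
    (hreg : IsRegularLocalRing (Localization.AtPrime p')) :
    Module.Free (Localization.AtPrime p) (LocalizedModule p.primeCompl Ωh) ∧
      Module.finrank (Localization.AtPrime p) (LocalizedModule p.primeCompl Ωh) = n := by
  subst hI
  rw [comap_bridge] at hp'
  exact free_of_regular_perfect k A k' p n hn₁ hn₂ p' hp' hreg

omit [IsAdicComplete (maximalIdeal A) A] in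
/-- existence of a prime over `p`, in the statement's form. -/
theorem exists_prime_over' (I : Ideal 𝓟) (hI : I = 𝓙) :
    ∃ p' : Ideal (AdicCompletion I 𝓟), p'.IsPrime ∧
      (p'.comap (algebraMap 𝓟 (AdicCompletion I 𝓟))).comap
        (Algebra.TensorProduct.includeLeft : A →ₐ[k] A ⊗[k] k').toRingHom = p := by
  subst hI
  obtain ⟨p', hp', h⟩ := exists_prime_over k A p k'
  exact ⟨p', hp', by rw [comap_bridge]; exact h⟩

end Asm

section Main

variable (k A : Type u) [Field k] [CommRing A] [IsLocalRing A] [IsNoetherianRing A] [Algebra k A]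
  [IsAdicComplete (maximalIdeal A) A] [Module.Finite k (ResidueField A)]
  (p : Ideal A) [p.IsPrime] (hp : p ≠ maximalIdeal A) (n : ℕ)
  (hn₁ : ∀ q ∈ minimalPrimes A, q ≤ p → ringKrullDim (A ⧸ q) ≤ n)
  (hn₂ : ∃ q ∈ minimalPrimes A, q ≤ p ∧ ringKrullDim (A ⧸ q) = n)

include hp hn₁ hn₂ in
theorem main3851 :
    List.TFAE [
      ∀ (k' : Type u) [Field k'] [Algebra k k']
        (p' : Ideal (AdicCompletion ((IsLocalRing.maximalIdeal A).map
          (Algebra.TensorProduct.includeLeft : A →ₐ[k] A ⊗[k] k')) (A ⊗[k] k'))) [p'.IsPrime],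
        (p'.comap (algebraMap (A ⊗[k] k') _)).comap
            (Algebra.TensorProduct.includeLeft : A →ₐ[k] A ⊗[k] k').toRingHom = p →
          IsRegularLocalRing (Localization.AtPrime p'),
      ∃ (k' : Type u) (_ : Field k') (_ : Algebra k k') (_ : PerfectField k')
        (p' : Ideal (AdicCompletion ((IsLocalRing.maximalIdeal A).map
          (Algebra.TensorProduct.includeLeft : A →ₐ[k] A ⊗[k] k')) (A ⊗[k] k'))) (_ : p'.IsPrime),
        (p'.comap (algebraMap (A ⊗[k] k') _)).comap
            (Algebra.TensorProduct.includeLeft : A →ₐ[k] A ⊗[k] k').toRingHom = p ∧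
          IsRegularLocalRing (Localization.AtPrime p'),
      Module.Free (Localization.AtPrime p)
          (LocalizedModule p.primeCompl (AdicCompletion (IsLocalRing.maximalIdeal A) (KaehlerDifferential k A))) ∧
        Module.finrank (Localization.AtPrime p)
          (LocalizedModule p.primeCompl (AdicCompletion (IsLocalRing.maximalIdeal A) (KaehlerDifferential k A))) = n] ∧
    ((Module.Free (Localization.AtPrime p)
          (LocalizedModule p.primeCompl (AdicCompletion (IsLocalRing.maximalIdeal A) (KaehlerDifferential k A))) ∧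
        Module.finrank (Localization.AtPrime p)
          (LocalizedModule p.primeCompl (AdicCompletion (IsLocalRing.maximalIdeal A) (KaehlerDifferential k A))) = n) →
      CAlg.IsGeometricallyRegular k (Localization.AtPrime p)) := by
  refine ⟨?_, fun hb => isGeometricallyRegular_of_finrank_le k A p hp n hn₁ hn₂
    (finrank_le_of_free k A p n hb)⟩
  tfae_have 1 → 2 := by
    intro ha
    obtain ⟨p', hp'prime, hp'⟩ := exists_prime_over' k A p (AlgebraicClosure k) _
      (map_includeLeft_eq k A (AlgebraicClosure k))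
    haveI := hp'prime
    exact ⟨AlgebraicClosure k, inferInstance, inferInstance, inferInstance, p', hp'prime, hp',
      ha (AlgebraicClosure k) p' hp'⟩
  tfae_have 2 → 3 := by
    rintro ⟨k', hF, hA, hP, p', hp'prime, hp', hreg⟩
    letI := hF
    letI := hA
    haveI := hP
    haveI := hp'prime
    exact free_of_regular k A p n hn₁ hn₂ k' _ (map_includeLeft_eq k A k') p' hp' hreg
  tfae_have 3 → 1 := by
    intro hb k' _ _ p' _ hp'
    exact regular_of_free k A p hp n hn₁ hn₂ k' hb _ (map_includeLeft_eq k A k') p' hp'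
  tfae_finish

end Main

end Groth.Agent.Lib.NagTfaeH3
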