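import Mathlib

/-!
# Modules over valuation rings (helper4)

* `fg_ker_of_torsionFree`: the kernel of a linear map from a finite module to a torsion-free module
  over a valuation ring is finitely generated;
* `exists_eq_smul_of_mem_map`: over a valuation ring every element of `𝔞 B` is `m • b'` with
  `m ∈ 𝔞`;
* quotients of valuation rings by primes are valuation rings.
-/

set_option autoImplicit false
set_option linter.style.haveILetI false

namespace Groth.Agent.Lib.NagataH4

variable {R : Type*} [CommRing R] [IsDomain R] [ValuationRing R]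

theorem flat_of_torsionFree {N : Type*} [AddCommGroup N] [Module R N]
    (htf : ∀ (r : R) (m : N), r ≠ 0 → r • m = 0 → m = 0) : Module.Flat R N := by
  rw [Module.Flat.flat_iff_torsion_eq_bot_of_isBezout, eq_bot_iff]
  intro m hm
  rw [Submodule.mem_torsion_iff] at hm
  obtain ⟨a, ha⟩ := hm
  exact (Submodule.mem_bot R).mpr (htf a m (nonZeroDivisors.coe_ne_zero a) ha)

theorem fg_ker_of_torsionFree {M N : Type*} [AddCommGroup M] [Module R M] [Module.Finite R M]
    [AddCommGroup N] [Module R N]
    (htf : ∀ (r : R) (m : N), r ≠ 0 → r • m = 0 → m = 0) (g : M →ₗ[R] N) :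
    (LinearMap.ker g).FG := by
  haveI : Module.Flat R (LinearMap.range g) := flat_of_torsionFree (fun r m hr h => by
    apply Subtype.ext
    apply htf r m hr
    simpa using congrArg Subtype.val h)
  haveI : Module.Free R (LinearMap.range g) := Module.free_of_flat_of_isLocalRing
  obtain ⟨s, hs⟩ := Module.projective_lifting_property g.rangeRestrict LinearMap.id
    g.surjective_rangeRestrict
  have hs' : ∀ q, g.rangeRestrict (s q) = q := fun q => LinearMap.congr_fun hs q
  have hker : LinearMap.ker g = LinearMap.range (LinearMap.id - s ∘ₗ g.rangeRestrict) := by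
    ext m
    constructor
    · intro hm
      refine ⟨m, ?_⟩
      have h0 : g.rangeRestrict m = 0 := Subtype.ext (by simpa using hm)
      simp [h0]
    · rintro ⟨m', rfl⟩
      rw [LinearMap.mem_ker]
      have h1 : g (s (g.rangeRestrict m')) = g m' := by
        have := congrArg Subtype.val (hs' (g.rangeRestrict m'))
        simpa using this
      simp [h1]
  rw [hker]
  exact (Module.Finite.iff_fg).mp inferInstance

theorem exists_eq_smul_of_mem_map {B : Type*} [CommRing B] [Algebra R B] (𝔞 : Ideal R) (b : B)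
    (hb : b ∈ 𝔞.map (algebraMap R B)) : ∃ m ∈ 𝔞, ∃ b' : B, b = m • b' := by
  have hb' : b ∈ (𝔞 • ⊤ : Submodule R B) := by
    rw [Ideal.smul_top_eq_map]; exact hb
  refine Submodule.smul_induction_on hb' (fun r hr n _ => ⟨r, hr, n, rfl⟩) ?_
  rintro x y ⟨m1, h1, b1, rfl⟩ ⟨m2, h2, b2, rfl⟩
  rcases ValuationRing.dvd_total m1 m2 with ⟨c, rfl⟩ | ⟨c, rfl⟩
  · exact ⟨m1, h1, b1 + c • b2, by rw [smul_add, mul_smul]⟩
  · exact ⟨m2, h2, c • b1 + b2, by rw [smul_add, mul_smul]⟩

instance valuationRing_quotient (𝔭 : Ideal R) [𝔭.IsPrime] : ValuationRing (R ⧸ 𝔭) where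
  cond' a b := by
    obtain ⟨a, rfl⟩ := Ideal.Quotient.mk_surjective a
    obtain ⟨b, rfl⟩ := Ideal.Quotient.mk_surjective b
    obtain ⟨c, h | h⟩ := ValuationRing.cond a b
    · exact ⟨Ideal.Quotient.mk 𝔭 c, Or.inl (by rw [← map_mul, h])⟩
    · exact ⟨Ideal.Quotient.mk 𝔭 c, Or.inr (by rw [← map_mul, h])⟩

end Groth.Agent.Lib.NagataH4
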