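import Mathlib

/-!
# A Noetherian stabilisation lemma for degree-filtered subspaces of a polynomial ring (helper4)

Let `J d ⊆ k[x₁,…,xₙ]_{≤ d}` be an increasing family of subspaces with `xᵢ J d ⊆ J (d+1)`.
Then `J (d+1) = J d + ∑ xᵢ J d` for `d` large.  (Rees algebra trick.)
-/

set_option autoImplicit false
set_option linter.style.haveILetI false

namespace Groth.Agent.Lib.NagataH4

section General

variable {σ : Type*} {A : Type*} [CommSemiring A]

lemma mul_mem_of_forall_X_mul_mem (N : Submodule A (MvPolynomial σ A))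
    (hX : ∀ o, ∀ x ∈ N, MvPolynomial.X o * x ∈ N) (g x : MvPolynomial σ A) (hx : x ∈ N) :
    g * x ∈ N := by
  induction g using MvPolynomial.induction_on generalizing x with
  | C a => rw [MvPolynomial.C_mul']; exact N.smul_mem a hx
  | add p q hp hq => rw [add_mul]; exact N.add_mem (hp x hx) (hq x hx)
  | mul_X p o hp => rw [mul_assoc]; exact hp _ (hX o x hx)

/-- A subspace of a polynomial ring stable under multiplication by the variables is an ideal. -/
def idealOfSubmodule (N : Submodule A (MvPolynomial σ A))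
    (hX : ∀ o, ∀ x ∈ N, MvPolynomial.X o * x ∈ N) : Ideal (MvPolynomial σ A) where
  carrier := N
  add_mem' := N.add_mem
  zero_mem' := N.zero_mem
  smul_mem' g x hx := mul_mem_of_forall_X_mul_mem N hX g x hx

lemma mem_idealOfSubmodule (N : Submodule A (MvPolynomial σ A))
    (hX : ∀ o, ∀ x ∈ N, MvPolynomial.X o * x ∈ N) (x : MvPolynomial σ A) :
    x ∈ idealOfSubmodule N hX ↔ x ∈ N := Iff.rfl

end General

section Rees

variable (k : Type*) [Field k] (n : ℕ)

/-- The map `k[y₀, y₁, …, yₙ] → k[x₁,…,xₙ][T]`, `y₀ ↦ T`, `yᵢ ↦ xᵢ T`. -/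
noncomputable def reesMap :
    MvPolynomial (Option (Fin n)) k →ₐ[k] Polynomial (MvPolynomial (Fin n) k) :=
  MvPolynomial.aeval (fun o : Option (Fin n) =>
    Option.elim o Polynomial.X (fun i => Polynomial.C (MvPolynomial.X i) * Polynomial.X))

variable {k n}

lemma reesMap_X_none : reesMap k n (MvPolynomial.X none) = Polynomial.X := by
  simp [reesMap]

lemma reesMap_X_some (i : Fin n) :
    reesMap k n (MvPolynomial.X (some i)) = Polynomial.C (MvPolynomial.X i) * Polynomial.X := by
  simp [reesMap]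

lemma reesMap_C (c : k) :
    reesMap k n (MvPolynomial.C c) = Polynomial.C (MvPolynomial.C c) := by
  simp [reesMap]

lemma monomial_mem_range (m : Fin n →₀ ℕ) (c : k) :
    Polynomial.C (MvPolynomial.monomial m c) * Polynomial.X ^ (m.sum fun _ e => e) ∈
      (reesMap k n).range := by
  induction m using Finsupp.induction_linear generalizing c with
  | zero =>
    refine (AlgHom.mem_range _).mpr ⟨MvPolynomial.C c, ?_⟩
    rw [reesMap_C]
    simp
  | add f g hf hg =>
    have h := (reesMap k n).range.mul_mem (hf c) (hg 1)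
    convert h using 1
    rw [Finsupp.sum_add_index' (by simp) (by simp), pow_add,
      show MvPolynomial.monomial (f + g) c =
        MvPolynomial.monomial f c * MvPolynomial.monomial g 1 by
          rw [MvPolynomial.monomial_mul, mul_one], map_mul]
    ring
  | single i j =>
    have h1 : Polynomial.C (MvPolynomial.C c) ∈ (reesMap k n).range :=
      (AlgHom.mem_range _).mpr ⟨MvPolynomial.C c, reesMap_C c⟩
    have h2 : Polynomial.C (MvPolynomial.X i) * Polynomial.X ∈ (reesMap k n).range :=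
      (AlgHom.mem_range _).mpr ⟨MvPolynomial.X (some i), reesMap_X_some i⟩
    have h := (reesMap k n).range.mul_mem h1 ((reesMap k n).range.pow_mem h2 j)
    convert h using 1
    rw [Finsupp.sum_single_index rfl, ← MvPolynomial.C_mul_X_pow_eq_monomial, map_mul, map_pow,
      mul_pow]
    ring

lemma exists_reesMap_eq (u : MvPolynomial (Fin n) k) (e : ℕ) (hu : u.totalDegree ≤ e) :
    ∃ v, reesMap k n v = Polynomial.C u * Polynomial.X ^ e := by
  suffices h : Polynomial.C u * Polynomial.X ^ e ∈ (reesMap k n).range from (AlgHom.mem_range _).mp h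
  have hsum : u = ∑ m ∈ u.support, MvPolynomial.monomial m (u.coeff m) :=
    (MvPolynomial.support_sum_monomial_coeff u).symm
  rw [hsum, map_sum, Finset.sum_mul]
  refine Subalgebra.sum_mem _ fun m hm => ?_
  have hle : (m.sum fun _ e => e) ≤ e := (MvPolynomial.le_totalDegree hm).trans hu
  have h1 := monomial_mem_range m (u.coeff m)
  have h2 : (Polynomial.X : Polynomial (MvPolynomial (Fin n) k)) ^ (e - m.sum fun _ e => e) ∈
      (reesMap k n).range :=
    (reesMap k n).range.pow_mem ((AlgHom.mem_range _).mpr ⟨MvPolynomial.X none, reesMap_X_none⟩) _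
  have h := Subalgebra.mul_mem _ h1 h2
  rwa [mul_assoc, ← pow_add, Nat.add_sub_cancel' hle] at h

variable (J : ℕ → Submodule k (MvPolynomial (Fin n) k))

/-- `J d + ∑ xᵢ J d` -/
def stab (d : ℕ) : Submodule k (MvPolynomial (Fin n) k) where
  carrier := {w | ∃ w0 ∈ J d, ∃ wi : Fin n → MvPolynomial (Fin n) k,
    (∀ i, wi i ∈ J d) ∧ w = w0 + ∑ i, MvPolynomial.X i * wi i}
  zero_mem' := ⟨0, (J d).zero_mem, fun _ => 0, fun _ => (J d).zero_mem, by simp⟩
  add_mem' := by
    rintro _ _ ⟨a0, ha0, ai, hai, rfl⟩ ⟨b0, hb0, bi, hbi, rfl⟩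
    refine ⟨a0 + b0, (J d).add_mem ha0 hb0, fun i => ai i + bi i,
      fun i => (J d).add_mem (hai i) (hbi i), ?_⟩
    simp only [mul_add, Finset.sum_add_distrib]
    abel
  smul_mem' := by
    rintro c _ ⟨a0, ha0, ai, hai, rfl⟩
    refine ⟨c • a0, (J d).smul_mem c ha0, fun i => c • ai i,
      fun i => (J d).smul_mem c (hai i), ?_⟩
    simp only [smul_add, Finset.smul_sum, mul_smul_comm]

lemma mem_stab_of_mem {d : ℕ} {w : MvPolynomial (Fin n) k} (hw : w ∈ J d) : w ∈ stab J d :=
  ⟨w, hw, fun _ => 0, fun _ => (J d).zero_mem, by simp⟩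

lemma X_mul_mem_stab {d : ℕ} (i : Fin n) {w : MvPolynomial (Fin n) k} (hw : w ∈ J d) :
    MvPolynomial.X i * w ∈ stab J d := by
  classical
  refine ⟨0, (J d).zero_mem, fun j => if j = i then w else 0, fun j => ?_, ?_⟩
  · by_cases h : j = i
    · simp only [h, if_true]; exact hw
    · simp only [h, if_false]; exact (J d).zero_mem
  · simp

/-- the subspace of `k[y]` of elements all of whose `T`-coefficients lie in `J` -/
def reesSub : Submodule k (MvPolynomial (Option (Fin n)) k) where
  carrier := {h | ∀ d, (reesMap k n h).coeff d ∈ J d}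
  zero_mem' := fun d => by simp
  add_mem' := fun {a b} ha hb d => by
    rw [map_add, Polynomial.coeff_add]; exact (J d).add_mem (ha d) (hb d)
  smul_mem' := fun c a ha d => by
    rw [map_smul, Polynomial.coeff_smul]; exact (J d).smul_mem c (ha d)

/-- the subspace of `reesSub` of elements whose coefficients in degree `> D` lie in `stab` -/
def reesSub' (D : ℕ) : Submodule k (MvPolynomial (Option (Fin n)) k) where
  carrier := {h | h ∈ reesSub J ∧ ∀ d, D ≤ d → (reesMap k n h).coeff (d + 1) ∈ stab J d}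
  zero_mem' := ⟨(reesSub J).zero_mem, fun d _ => by simp⟩
  add_mem' := fun {a b} ha hb => ⟨(reesSub J).add_mem ha.1 hb.1, fun d hd => by
    rw [map_add, Polynomial.coeff_add]; exact (stab J d).add_mem (ha.2 d hd) (hb.2 d hd)⟩
  smul_mem' := fun c a ha => ⟨(reesSub J).smul_mem c ha.1, fun d hd => by
    rw [map_smul, Polynomial.coeff_smul]; exact (stab J d).smul_mem c (ha.2 d hd)⟩

variable {J}

lemma coeff_reesMap_X_mul (o : Option (Fin n)) (x : MvPolynomial (Option (Fin n)) k) (d : ℕ) :
    (reesMap k n (MvPolynomial.X o * x)).coeff (d + 1) =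
      Option.elim o ((reesMap k n x).coeff d)
        (fun i => MvPolynomial.X i * (reesMap k n x).coeff d) := by
  cases o with
  | none => rw [map_mul, reesMap_X_none, Polynomial.coeff_X_mul]; rfl
  | some i =>
    rw [map_mul, reesMap_X_some, mul_assoc, Polynomial.coeff_C_mul, Polynomial.coeff_X_mul]; rfl

lemma coeff_zero_reesMap_X_mul (o : Option (Fin n)) (x : MvPolynomial (Option (Fin n)) k) :
    (reesMap k n (MvPolynomial.X o * x)).coeff 0 = 0 := by
  cases o with
  | none => rw [map_mul, reesMap_X_none, Polynomial.coeff_X_mul_zero]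
  | some i =>
    rw [map_mul, reesMap_X_some, mul_assoc, Polynomial.coeff_C_mul, Polynomial.coeff_X_mul_zero,
      mul_zero]

lemma X_mul_mem_reesSub (hmono : ∀ d, J d ≤ J (d + 1))
    (hX : ∀ d (i : Fin n), ∀ w ∈ J d, MvPolynomial.X i * w ∈ J (d + 1))
    (o : Option (Fin n)) (x : MvPolynomial (Option (Fin n)) k) (hx : x ∈ reesSub J) :
    MvPolynomial.X o * x ∈ reesSub J := by
  intro d
  cases d with
  | zero => rw [coeff_zero_reesMap_X_mul]; exact (J 0).zero_mem
  | succ d =>
    rw [coeff_reesMap_X_mul]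
    cases o with
    | none => exact hmono d (hx d)
    | some i => exact hX d i _ (hx d)

lemma X_mul_mem_reesSub' (hmono : ∀ d, J d ≤ J (d + 1))
    (hX : ∀ d (i : Fin n), ∀ w ∈ J d, MvPolynomial.X i * w ∈ J (d + 1)) (D : ℕ)
    (o : Option (Fin n)) (x : MvPolynomial (Option (Fin n)) k) (hx : x ∈ reesSub' J D) :
    MvPolynomial.X o * x ∈ reesSub' J D := by
  refine ⟨X_mul_mem_reesSub hmono hX o x hx.1, fun d _ => ?_⟩
  rw [coeff_reesMap_X_mul]
  cases o with
  | none => exact mem_stab_of_mem J (hx.1 d)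
  | some i => exact X_mul_mem_stab J i (hx.1 d)

theorem exists_stable (J : ℕ → Submodule k (MvPolynomial (Fin n) k))
    (hdeg : ∀ d, ∀ w ∈ J d, w.totalDegree ≤ d)
    (hmono : ∀ d, J d ≤ J (d + 1))
    (hX : ∀ d (i : Fin n), ∀ w ∈ J d, MvPolynomial.X i * w ∈ J (d + 1)) :
    ∃ D, ∀ d, D ≤ d → ∀ w ∈ J (d + 1), ∃ w0 ∈ J d, ∃ wi : Fin n → MvPolynomial (Fin n) k,
      (∀ i, wi i ∈ J d) ∧ w = w0 + ∑ i, MvPolynomial.X i * wi i := by
  let 𝒥 : Ideal (MvPolynomial (Option (Fin n)) k) :=
    idealOfSubmodule (reesSub J) (X_mul_mem_reesSub hmono hX)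
  obtain ⟨G, hG⟩ : 𝒥.FG := IsNoetherian.noetherian 𝒥
  let D : ℕ := G.sup fun h => (reesMap k n h).natDegree
  let 𝒥' : Ideal (MvPolynomial (Option (Fin n)) k) :=
    idealOfSubmodule (reesSub' J D) (X_mul_mem_reesSub' hmono hX D)
  have hle : 𝒥 ≤ 𝒥' := by
    rw [← hG, Ideal.span_le]
    intro h hh
    have h𝒥 : h ∈ 𝒥 := by rw [← hG]; exact Ideal.subset_span hh
    refine ⟨h𝒥, fun d hd => ?_⟩
    have hdeg' : (reesMap k n h).natDegree ≤ D :=
      Finset.le_sup (f := fun h => (reesMap k n h).natDegree) hh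
    rw [Polynomial.coeff_eq_zero_of_natDegree_lt (by omega)]
    exact (stab J d).zero_mem
  refine ⟨D, fun d hd w hw => ?_⟩
  obtain ⟨v, hv⟩ := exists_reesMap_eq w (d + 1) (hdeg _ w hw)
  have hv𝒥 : v ∈ 𝒥 := by
    intro d'
    rw [hv, Polynomial.coeff_C_mul_X_pow]
    split_ifs with h
    · rw [h]; exact hw
    · exact (J d').zero_mem
  have h2 := (hle hv𝒥).2 d hd
  rw [hv, Polynomial.coeff_C_mul_X_pow, if_pos rfl] at h2
  exact h2

end Rees

end Groth.Agent.Lib.NagataH4
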