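import Mathlib
import Groth.Agent.Lib.Nagata1_helper4
import Groth.Agent.Lib.Nagata2_helper4

/-!
# Nagata's theorem (helper4)

Let `R` be a valuation ring and `I` an ideal of `R[x₁,…,xₙ]` such that `R[x]/I` is torsion-free
over `R`.  Then `I` is finitely generated.
-/

set_option autoImplicit false
set_option linter.style.haveILetI false
set_option linter.unusedSectionVars false

namespace Groth.Agent.Lib.NagataH4

section Main

variable {R : Type*} [CommRing R] [IsDomain R] [ValuationRing R] {n : ℕ}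

variable (I : Ideal (MvPolynomial (Fin n) R))

/-- `I ∩ R[x]_{≤ d}` as an `R`-module -/
noncomputable def degPart (d : ℕ) : Submodule R (MvPolynomial (Fin n) R) :=
  I.restrictScalars R ⊓ MvPolynomial.restrictTotalDegree (Fin n) R d

variable {I}

lemma mem_degPart {d : ℕ} {p : MvPolynomial (Fin n) R} :
    p ∈ degPart I d ↔ p ∈ I ∧ p.totalDegree ≤ d := by
  rw [degPart, Submodule.mem_inf, Submodule.restrictScalars_mem,
    MvPolynomial.mem_restrictTotalDegree]

lemma degPart_mono {d e : ℕ} (h : d ≤ e) : degPart I d ≤ degPart I e := fun _ hp =>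
  mem_degPart.mpr ⟨(mem_degPart.mp hp).1, (mem_degPart.mp hp).2.trans h⟩

lemma X_mul_mem_degPart {d : ℕ} (i : Fin n) {p : MvPolynomial (Fin n) R} (hp : p ∈ degPart I d) :
    MvPolynomial.X i * p ∈ degPart I (d + 1) := by
  refine mem_degPart.mpr ⟨I.mul_mem_left _ (mem_degPart.mp hp).1, ?_⟩
  refine (MvPolynomial.totalDegree_mul _ _).trans ?_
  rw [MvPolynomial.totalDegree_X, add_comm]
  exact Nat.add_le_add_right (mem_degPart.mp hp).2 1

variable (I)

lemma degPart_fg
    (hsat : ∀ (r : R) (p : MvPolynomial (Fin n) R), r ≠ 0 → MvPolynomial.C r * p ∈ I → p ∈ I)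
    (d : ℕ) : (degPart I d).FG := by
  have htf : ∀ (r : R) (m : MvPolynomial (Fin n) R ⧸ I.restrictScalars R), r ≠ 0 → r • m = 0 →
      m = 0 := by
    intro r m hr h
    obtain ⟨p, rfl⟩ := Submodule.Quotient.mk_surjective _ m
    rw [← Submodule.Quotient.mk_smul, Submodule.Quotient.mk_eq_zero] at h
    rw [Submodule.Quotient.mk_eq_zero]
    have h' : r • p ∈ I := h
    rw [MvPolynomial.smul_eq_C_mul] at h'
    exact hsat r p hr h'
  have hker := fg_ker_of_torsionFree htf
    ((I.restrictScalars R).mkQ ∘ₗ (MvPolynomial.restrictTotalDegree (Fin n) R d).subtype)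
  have h : degPart I d = (LinearMap.ker ((I.restrictScalars R).mkQ ∘ₗ
      (MvPolynomial.restrictTotalDegree (Fin n) R d).subtype)).map
      (MvPolynomial.restrictTotalDegree (Fin n) R d).subtype := by
    rw [LinearMap.ker_comp, Submodule.ker_mkQ, Submodule.map_comap_subtype, inf_comm]
    rfl
  rw [h]
  exact hker.map _

/-- the image of `degPart` in `k[x]` -/
def resPart (d : ℕ) : Submodule (IsLocalRing.ResidueField R)
    (MvPolynomial (Fin n) (IsLocalRing.ResidueField R)) where
  carrier := {u | ∃ v ∈ degPart I d, MvPolynomial.map (IsLocalRing.residue R) v = u}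
  zero_mem' := ⟨0, (degPart I d).zero_mem, map_zero _⟩
  add_mem' := by
    rintro _ _ ⟨a, ha, rfl⟩ ⟨b, hb, rfl⟩
    exact ⟨a + b, (degPart I d).add_mem ha hb, map_add _ _ _⟩
  smul_mem' := by
    rintro c _ ⟨a, ha, rfl⟩
    obtain ⟨r, rfl⟩ := IsLocalRing.residue_surjective c
    refine ⟨r • a, (degPart I d).smul_mem r ha, ?_⟩
    rw [MvPolynomial.smul_eq_C_mul, map_mul, MvPolynomial.map_C, ← MvPolynomial.smul_eq_C_mul]

lemma resPart_deg (d : ℕ) : ∀ w ∈ resPart I d, w.totalDegree ≤ d := by
  rintro _ ⟨v, hv, rfl⟩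
  exact (Finset.sup_mono (MvPolynomial.support_map_subset _ v)).trans (mem_degPart.mp hv).2

lemma resPart_mono (d : ℕ) : resPart I d ≤ resPart I (d + 1) := by
  rintro _ ⟨v, hv, rfl⟩
  exact ⟨v, degPart_mono (Nat.le_succ d) hv, rfl⟩

lemma resPart_X (d : ℕ) (i : Fin n) : ∀ w ∈ resPart I d, MvPolynomial.X i * w ∈ resPart I (d + 1) := by
  rintro _ ⟨v, hv, rfl⟩
  exact ⟨MvPolynomial.X i * v, X_mul_mem_degPart i hv, by rw [map_mul, MvPolynomial.map_X]⟩

lemma mem_smul_of_map_eq_zero
    (hsat : ∀ (r : R) (p : MvPolynomial (Fin n) R), r ≠ 0 → MvPolynomial.C r * p ∈ I → p ∈ I)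
    {d : ℕ} {z : MvPolynomial (Fin n) R} (hz : z ∈ degPart I d)
    (hz0 : MvPolynomial.map (IsLocalRing.residue R) z = 0) :
    z ∈ IsLocalRing.maximalIdeal R • degPart I d := by
  by_cases h0 : z = 0
  · rw [h0]; exact Submodule.zero_mem _
  have hcoeff : ∀ m, z.coeff m ∈ IsLocalRing.maximalIdeal R := by
    intro m
    have h := congrArg (MvPolynomial.coeff m) hz0
    rw [MvPolynomial.coeff_map, MvPolynomial.coeff_zero] at h
    exact (IsLocalRing.residue_eq_zero_iff _).mp h
  classical
  let 𝔞 : Ideal R := Ideal.span ((z.support.image z.coeff : Finset R) : Set R)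
  have hfg : 𝔞.FG := ⟨_, rfl⟩
  haveI : 𝔞.IsPrincipal := IsBezout.isPrincipal_of_FG 𝔞 hfg
  let c := Submodule.IsPrincipal.generator 𝔞
  have hc𝔞 : c ∈ 𝔞 := Submodule.IsPrincipal.generator_mem 𝔞
  have h𝔞le : 𝔞 ≤ IsLocalRing.maximalIdeal R := by
    rw [Ideal.span_le]
    intro r hr
    obtain ⟨m, -, rfl⟩ := Finset.mem_image.mp (Finset.mem_coe.mp hr)
    exact hcoeff m
  have hdvd : ∀ m, c ∣ z.coeff m := by
    intro m
    by_cases hm : m ∈ z.support
    · have h1 : z.coeff m ∈ 𝔞 :=
        Ideal.subset_span (Finset.mem_coe.mpr (Finset.mem_image_of_mem _ hm))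
      rw [← Ideal.span_singleton_generator 𝔞] at h1
      exact Ideal.mem_span_singleton.mp h1
    · rw [MvPolynomial.notMem_support_iff.mp hm]; exact dvd_zero _
  have hc0 : c ≠ 0 := by
    intro hc
    apply h0
    ext m
    obtain ⟨s, hs⟩ := hdvd m
    rw [hs, hc, zero_mul, MvPolynomial.coeff_zero]
  obtain ⟨z', hz'⟩ := (MvPolynomial.C_dvd_iff_dvd_coeff c z).mpr hdvd
  have hz'I : z' ∈ I := hsat c z' hc0 (hz' ▸ (mem_degPart.mp hz).1)
  have hz'0 : z' ≠ 0 := by
    rintro rfl
    exact h0 (by rw [hz', mul_zero])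
  have hdeg : z'.totalDegree ≤ d := by
    have hC : (MvPolynomial.C c : MvPolynomial (Fin n) R) ≠ 0 := by
      rw [Ne, MvPolynomial.C_eq_zero]; exact hc0
    have h1 := MvPolynomial.totalDegree_mul_of_isDomain hC hz'0
    rw [← hz', MvPolynomial.totalDegree_C, zero_add] at h1
    rw [← h1]; exact (mem_degPart.mp hz).2
  rw [hz', ← MvPolynomial.smul_eq_C_mul]
  exact Submodule.smul_mem_smul (h𝔞le hc𝔞) (mem_degPart.mpr ⟨hz'I, hdeg⟩)

/-- **Nagata's theorem**: an ideal of a polynomial ring over a valuation ring with torsion-free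
quotient is finitely generated. -/
theorem fg_of_saturated
    (hsat : ∀ (r : R) (p : MvPolynomial (Fin n) R), r ≠ 0 → MvPolynomial.C r * p ∈ I → p ∈ I) :
    I.FG := by
  obtain ⟨D, hD⟩ := exists_stable (resPart I) (resPart_deg I) (resPart_mono I) (resPart_X I)
  have hstep : ∀ d, D ≤ d → degPart I (d + 1) ≤ degPart I d ⊔
      ⨆ i : Fin n, (degPart I d).map (LinearMap.mulLeft R (MvPolynomial.X i)) := by
    intro d hd
    apply Submodule.le_of_le_smul_of_le_jacobson_bot (degPart_fg I hsat (d + 1))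
      (IsLocalRing.maximalIdeal_le_jacobson ⊥)
    intro v hv
    have hv' : MvPolynomial.map (IsLocalRing.residue R) v ∈ resPart I (d + 1) := ⟨v, hv, rfl⟩
    obtain ⟨w0, ⟨v0, hv0, rfl⟩, wi, hwi, hw⟩ := hD d hd _ hv'
    choose vi hvi hvi' using hwi
    have hy : v0 + ∑ i, MvPolynomial.X i * vi i ∈ degPart I d ⊔
        ⨆ i : Fin n, (degPart I d).map (LinearMap.mulLeft R (MvPolynomial.X i)) :=
      Submodule.add_mem _ (Submodule.mem_sup_left hv0) (Submodule.sum_mem _ fun i _ =>
        Submodule.mem_sup_right (Submodule.mem_iSup_of_mem i ⟨vi i, hvi i, rfl⟩))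
    have hy' : v0 + ∑ i, MvPolynomial.X i * vi i ∈ degPart I (d + 1) :=
      Submodule.add_mem _ (degPart_mono (Nat.le_succ d) hv0) (Submodule.sum_mem _ fun i _ =>
        X_mul_mem_degPart i (hvi i))
    have hz : v - (v0 + ∑ i, MvPolynomial.X i * vi i) ∈ degPart I (d + 1) :=
      Submodule.sub_mem _ hv hy'
    have hz0 : MvPolynomial.map (IsLocalRing.residue R)
        (v - (v0 + ∑ i, MvPolynomial.X i * vi i)) = 0 := by
      rw [map_sub, hw, map_add, map_sum, sub_eq_zero]
      congr 1
      refine Finset.sum_congr rfl fun i _ => ?_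
      rw [map_mul, MvPolynomial.map_X, hvi' i]
    rw [Submodule.mem_sup]
    exact ⟨_, hy, _, mem_smul_of_map_eq_zero I hsat hz hz0, by abel⟩
  let T : Submodule R (MvPolynomial (Fin n) R) :=
    (Ideal.span (degPart I D : Set (MvPolynomial (Fin n) R))).restrictScalars R
  have hT : ∀ d, degPart I d ≤ T := by
    intro d
    induction d with
    | zero => exact fun p hp => Ideal.subset_span (degPart_mono (Nat.zero_le D) hp)
    | succ d ih =>
      by_cases hd : D ≤ d
      · refine (hstep d hd).trans (sup_le ih (iSup_le fun i => ?_))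
        rw [Submodule.map_le_iff_le_comap]
        intro p hp
        exact (Ideal.span (degPart I D : Set (MvPolynomial (Fin n) R))).mul_mem_left _ (ih hp)
      · exact fun p hp => Ideal.subset_span (degPart_mono (by omega) hp)
  obtain ⟨G, hG⟩ := degPart_fg I hsat D
  refine ⟨G, le_antisymm ?_ ?_⟩
  · rw [Ideal.span_le]
    intro g hg
    have h1 : g ∈ degPart I D := by rw [← hG]; exact Submodule.subset_span hg
    exact (mem_degPart.mp h1).1
  · intro p hp
    have h1 : p ∈ T := hT p.totalDegree (mem_degPart.mpr ⟨hp, le_rfl⟩)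
    have h2 : Ideal.span (degPart I D : Set (MvPolynomial (Fin n) R)) ≤ Ideal.span (G : Set _) := by
      rw [Ideal.span_le]
      intro q hq
      have hq' : q ∈ Submodule.span R (G : Set (MvPolynomial (Fin n) R)) := by rw [hG]; exact hq
      have h3 : Submodule.span R (G : Set (MvPolynomial (Fin n) R)) ≤
          (Ideal.span (G : Set (MvPolynomial (Fin n) R))).restrictScalars R :=
        Submodule.span_le.mpr fun x hx => Ideal.subset_span hx
      exact h3 hq'
    exact h2 h1

end Main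

end Groth.Agent.Lib.NagataH4
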