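import Mathlib
import Groth.Prelude.Def_Found
import Groth.Agent.Lib.Dim1N2_helper3
import Groth.Agent.Lib.GenericFFN2_helper3
import Groth.Agent.Lib.FFTransfer_helper3
import Groth.Agent.Lib.ComplReduced_helper3
import Groth.Agent.Lib.PerfectRed_lead

/-!
# The Nagata property descends along separable extensions of discrete valuation rings (helper3)

If `A → B` is an extension of DVRs with separable (algebraic) extension of fraction fields and
`B` is Nagata, then `A` is Nagata.  Proof: for a finite domain extension `C` of `A`,
`C ⊗ Â ↪ C ⊗ B̂ = (C ⊗ B) ⊗_B B̂`, and `C ⊗ B ↪ Frac C ⊗_K L` is reduced.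
-/

set_option autoImplicit false
universe u

namespace Groth.Agent.Lib.NagataDescDVRH3

open IsLocalRing TensorProduct

/-- A domain containing a principal ideal domain is flat over it. -/
theorem flat_of_injective_domain (A C : Type u) [CommRing A] [IsDomain A] [IsPrincipalIdealRing A]
    [CommRing C] [IsDomain C] [Algebra A C] (h : Function.Injective (algebraMap A C)) :
    Module.Flat A C := by
  rw [Module.Flat.flat_iff_torsion_eq_bot_of_isBezout, eq_bot_iff]
  intro c hc
  obtain ⟨a, hac⟩ := (Submodule.mem_torsion_iff c).mp hc
  have ha0 : (a : A) ≠ 0 := nonZeroDivisors.ne_zero a.2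
  have h1 : algebraMap A C (a : A) * c = 0 := by
    rw [← Algebra.smul_def]; exact hac
  rcases mul_eq_zero.mp h1 with h2 | h2
  · exact absurd (h (h2.trans (map_zero _).symm)) ha0
  · exact h2

theorem main (A B K L : Type u) [CommRing A] [IsDomain A] [IsDiscreteValuationRing A]
    [CommRing B] [IsDomain B] [IsDiscreteValuationRing B] [Algebra A B]
    [IsLocalHom (algebraMap A B)] (hinj : Function.Injective (algebraMap A B))
    [Field K] [Field L] [Algebra A K] [IsFractionRing A K] [Algebra B L] [IsFractionRing B L]
    [Algebra K L] [Algebra A L] [IsScalarTower A K L] [IsScalarTower A B L]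
    [Algebra.IsSeparable K L] (hB : CAlg.IsNagata B) : CAlg.IsNagata A := by
  have hdim : ringKrullDim A = 1 := IsDiscreteValuationRing.ringKrullDim_eq_one A
  apply Dim1N2H3.isNagata_of_isN2 A hdim
  apply GenericFFN2H3.isN2_of_forall_finite_injective_isN1
  intro C _ _ _ hfin hinjC
  haveI := hfin
  apply GenericFFN2H3.isN1_of_finite_of_isReduced_tensor A C
  haveI : Module.Flat A B := flat_of_injective_domain A B hinj
  haveI : Module.Flat A C := flat_of_injective_domain A C hinjC
  -- `B ⊗[A] C` is reduced
  have hinjCK' : Function.Injective (algebraMap A (FractionRing C)) := by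
    rw [IsScalarTower.algebraMap_eq A C (FractionRing C)]
    exact (IsFractionRing.injective C (FractionRing C)).comp hinjC
  letI : Algebra K (FractionRing C) := (IsFractionRing.lift hinjCK').toAlgebra
  haveI : IsScalarTower A K (FractionRing C) :=
    IsScalarTower.of_algebraMap_eq fun a => (IsFractionRing.lift_algebraMap hinjCK' a).symm
  haveI h1 : IsReduced (L ⊗[K] FractionRing C) :=
    Groth.Agent.Lib.PerfectRed.isReduced_tensor_of_isSeparable K L (FractionRing C)
  haveI h2 : IsReduced (L ⊗[A] FractionRing C) :=
    isReduced_of_injective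
      (IsLocalization.algebraTensorEquiv (nonZeroDivisors A) K L (FractionRing C)).symm
      (AlgEquiv.injective _)
  haveI : Module.Flat A K := IsLocalization.flat K (nonZeroDivisors A)
  haveI : Module.Flat A L := Module.Flat.trans A K L
  have hBL : Function.Injective (IsScalarTower.toAlgHom A B L) := IsFractionRing.injective B L
  have hCK : Function.Injective (IsScalarTower.toAlgHom A C (FractionRing C)) :=
    IsFractionRing.injective C (FractionRing C)
  haveI h3 : IsReduced (B ⊗[A] C) := by
    have hf1 : Function.Injective (Algebra.TensorProduct.map (IsScalarTower.toAlgHom A B L)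
        (AlgHom.id A C)) :=
      Module.Flat.rTensor_preserves_injective_linearMap (M := C)
        (IsScalarTower.toAlgHom A B L).toLinearMap hBL
    have hf2 : Function.Injective (Algebra.TensorProduct.map (AlgHom.id A L)
        (IsScalarTower.toAlgHom A C (FractionRing C))) :=
      Module.Flat.lTensor_preserves_injective_linearMap (M := L)
        (IsScalarTower.toAlgHom A C (FractionRing C)).toLinearMap hCK
    exact isReduced_of_injective
      ((Algebra.TensorProduct.map (AlgHom.id A L)
        (IsScalarTower.toAlgHom A C (FractionRing C))).comp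
        (Algebra.TensorProduct.map (IsScalarTower.toAlgHom A B L) (AlgHom.id A C)))
      (hf2.comp hf1)
  haveI h4 : IsReduced ((B ⊗[A] C) ⊗[B] AdicCompletion (maximalIdeal B) B) :=
    ComplReducedH3.isReduced_tensor_of_isNagata B (B ⊗[A] C) hB
  haveI := FFTransferH3.tower' A B
  have h5 : IsReduced (EGA4.Cpl B ⊗[B] (B ⊗[A] C)) :=
    FFTransferH3.isReduced_of_ringEquiv
      (Algebra.TensorProduct.comm B (B ⊗[A] C) (EGA4.Cpl B)).toRingEquiv h4
  have h6 : IsReduced (EGA4.Cpl B ⊗[A] C) :=
    FFTransferH3.isReduced_of_ringEquiv
      (Algebra.TensorProduct.cancelBaseChange A B (EGA4.Cpl B) (EGA4.Cpl B) C).toRingEquiv h5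
  have h7 : IsReduced (C ⊗[A] EGA4.Cpl B) :=
    FFTransferH3.isReduced_of_ringEquiv (Algebra.TensorProduct.comm A (EGA4.Cpl B) C).toRingEquiv h6
  letI := FFTransferH3.algCpl A B
  haveI := FFTransferH3.tower A B
  haveI := FFTransferH3.faithfullyFlat_cpl A B
  exact FFTransferH3.descent_isReduced A (EGA4.Cpl A) (EGA4.Cpl B) C h7

end Groth.Agent.Lib.NagataDescDVRH3
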