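import Mathlib
import Groth.Prelude.Def_CAlgX
import Groth.Agent.Lib.NagataJac2_helper3
import Groth.Agent.Lib.SmoothRegField_helper3
import Groth.Agent.Lib.GeomRegFS_helper3
import Groth.Agent.Lib.GeomRegAdic_helper3
import Groth.Agent.Lib.FSRegular_helper3
import Groth.Agent.Lib.MonomialCharP_helper3
import Groth.Agent.Lib.PSComplete_helper1

/-!
# Nagata's Jacobian criterion for quotients of power series rings, part 3 (helper3)

* `tfae_core`, `tfae_of_injective` : abstract TFAE.
* `main4612` : the criterion for `k[[T_1..T_r]]/q` at a prime `p` with a separable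
  Noether normalisation of `k[[T]]/p`.

APPEND-ONLY once landed.
-/

set_option autoImplicit false
set_option maxSynthPendingDepth 3

namespace Groth.Agent.Lib.NagataJacH3

open IsLocalRing KaehlerDifferential TensorProduct Matrix

universe u

section Core

variable {k P : Type u} [Field k] [CommRing P] [IsRegularLocalRing P] [Algebra k P]
  {r : ℕ} (der : Fin r → Derivation k P P) (X : Fin r → P)
  (hder : ∀ l j, der j (X l) = if l = j then 1 else 0)
  (p q : Ideal P) [p.IsPrime] (hqp : q ≤ p) [(p.map (Ideal.Quotient.mk q)).IsPrime]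
  (K : Type u) [Field K] [Algebra P K] [Algebra (P ⧸ p) K] [IsScalarTower P (P ⧸ p) K]
  [Algebra k K] [IsScalarTower k P K] [IsScalarTower k (P ⧸ p) K]
  [IsLocalRing (P ⧸ p)] [IsNoetherianRing (P ⧸ p)]
  [IsAdicComplete (maximalIdeal (P ⧸ p)) (P ⧸ p)] [Module.Finite k (ResidueField (P ⧸ p))]

include hder hqp in
theorem tfae_core
    [Algebra (Localization.AtPrime p) K] [IsScalarTower P (Localization.AtPrime p) K]
    [IsScalarTower k (Localization.AtPrime p) K]
    (hkillK : ∀ z ∈ maximalIdeal (Localization.AtPrime p),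
      algebraMap (Localization.AtPrime p) K z = 0)
    (s : ℕ) (hrank : Module.finrank K
      (K ⊗[P ⧸ p] AdicCompletion (maximalIdeal (P ⧸ p)) (Ω[(P ⧸ p)⁄k])) = s)
    (hdim : ringKrullDim (Localization.AtPrime p) + (s : WithBot ℕ∞) ≤ (r : WithBot ℕ∞))
    (hS : CAlgX.IsAdicFormallySmooth k (Localization.AtPrime p)
      (maximalIdeal (Localization.AtPrime p))) :
    [CAlgX.IsAdicFormallySmooth k (Localization.AtPrime (p.map (Ideal.Quotient.mk q)))
        (maximalIdeal (Localization.AtPrime (p.map (Ideal.Quotient.mk q)))),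
     ∃ (m : ℕ) (D : Fin m → Derivation k P P) (f : Fin m → P), (∀ i, f i ∈ q) ∧
        q.map (algebraMap P (Localization.AtPrime p)) =
          Ideal.span (Set.range fun i => algebraMap P (Localization.AtPrime p) (f i)) ∧
        Matrix.det (Matrix.of fun i j => D i (f j)) ∉ p,
     IsRegularLocalRing (Localization.AtPrime (p.map (Ideal.Quotient.mk q)))].TFAE := by
  classical
  have hp : p = (p.map (Ideal.Quotient.mk q)).comap (Ideal.Quotient.mk q) := by
    rw [Ideal.comap_map_of_surjective _ Ideal.Quotient.mk_surjective, ← RingHom.ker_eq_comap_bot,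
      Ideal.mk_ker]
    exact (sup_eq_left.2 hqp).symm
  obtain ⟨hsurj, hker⟩ := localRingHom_surjective_ker (Ideal.Quotient.mk q)
    Ideal.Quotient.mk_surjective p (p.map (Ideal.Quotient.mk q)) hp
  rw [Ideal.mk_ker] at hker
  let ρ : Localization.AtPrime p →ₐ[k] Localization.AtPrime (p.map (Ideal.Quotient.mk q)) :=
    { Localization.localRingHom p (p.map (Ideal.Quotient.mk q)) (Ideal.Quotient.mk q) hp with
      commutes' := fun c => by
        show Localization.localRingHom p (p.map (Ideal.Quotient.mk q)) (Ideal.Quotient.mk q) hp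
          (algebraMap k (Localization.AtPrime p) c) = _
        rw [IsScalarTower.algebraMap_apply k P (Localization.AtPrime p),
          Localization.localRingHom_to_map,
          IsScalarTower.algebraMap_apply k (P ⧸ q)
            (Localization.AtPrime (p.map (Ideal.Quotient.mk q)))]
        rfl }
  haveI : IsNoetherianRing (Localization.AtPrime (p.map (Ideal.Quotient.mk q))) :=
    IsLocalization.isNoetherianRing (p.map (Ideal.Quotient.mk q)).primeCompl _ inferInstance
  tfae_have 2 → 1 := by
    rintro ⟨m, D, f, hfq, hspan, hdet⟩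
    exact adic_of_jacobian p _ ρ hsurj hS D f (by rw [← hspan]; exact hker) hdet
  tfae_have 1 → 3 := fun h =>
    Groth.Agent.Lib.SmoothRegFieldH3.regular_of_adic_field (k := k) h
  tfae_have 3 → 2 := by
    intro h3
    haveI := h3
    haveI : IsRegularLocalRing
        (Localization.AtPrime p ⧸ q.map (algebraMap P (Localization.AtPrime p))) :=
      IsRegularLocalRing.of_ringEquiv
        ((RingHom.quotientKerEquivOfSurjective hsurj).symm.trans (Ideal.quotEquivOfEq hker))
    exact jacobian_of_regular der X p q K hder hkillK s hrank hdim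
  tfae_finish

include hder hqp in
theorem tfae_of_injective (hKinj : Function.Injective (algebraMap (P ⧸ p) K))
    (s : ℕ) (hrank : Module.finrank K
      (K ⊗[P ⧸ p] AdicCompletion (maximalIdeal (P ⧸ p)) (Ω[(P ⧸ p)⁄k])) = s)
    (hdim : ringKrullDim (Localization.AtPrime p) + (s : WithBot ℕ∞) ≤ (r : WithBot ℕ∞))
    (hS : CAlgX.IsAdicFormallySmooth k (Localization.AtPrime p)
      (maximalIdeal (Localization.AtPrime p))) :
    [CAlgX.IsAdicFormallySmooth k (Localization.AtPrime (p.map (Ideal.Quotient.mk q)))
        (maximalIdeal (Localization.AtPrime (p.map (Ideal.Quotient.mk q)))),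
     ∃ (m : ℕ) (D : Fin m → Derivation k P P) (f : Fin m → P), (∀ i, f i ∈ q) ∧
        q.map (algebraMap P (Localization.AtPrime p)) =
          Ideal.span (Set.range fun i => algebraMap P (Localization.AtPrime p) (f i)) ∧
        Matrix.det (Matrix.of fun i j => D i (f j)) ∉ p,
     IsRegularLocalRing (Localization.AtPrime (p.map (Ideal.Quotient.mk q)))].TFAE := by
  have hunits : ∀ y : p.primeCompl, IsUnit (algebraMap P K y) := fun y => by
    rw [isUnit_iff_ne_zero, IsScalarTower.algebraMap_apply P (P ⧸ p) K]
    intro h0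
    have h1 := hKinj (h0.trans (map_zero _).symm)
    rw [Ideal.Quotient.algebraMap_eq, Ideal.Quotient.eq_zero_iff_mem] at h1
    exact y.2 h1
  letI : Algebra (Localization.AtPrime p) K := (IsLocalization.lift hunits).toAlgebra
  have halg : ∀ x : P, algebraMap (Localization.AtPrime p) K
      (algebraMap P (Localization.AtPrime p) x) = algebraMap P K x :=
    fun x => IsLocalization.lift_eq hunits x
  haveI : IsScalarTower P (Localization.AtPrime p) K :=
    IsScalarTower.of_algebraMap_eq fun x => (halg x).symm
  haveI : IsScalarTower k (Localization.AtPrime p) K :=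
    IsScalarTower.of_algebraMap_eq fun c => by
      rw [IsScalarTower.algebraMap_apply k P (Localization.AtPrime p), halg,
        ← IsScalarTower.algebraMap_apply k P K]
  have hkillK : ∀ z ∈ maximalIdeal (Localization.AtPrime p),
      algebraMap (Localization.AtPrime p) K z = 0 := by
    intro z hz
    rw [← IsLocalization.AtPrime.map_eq_maximalIdeal p (Localization.AtPrime p)] at hz
    have hle : p.map (algebraMap P (Localization.AtPrime p)) ≤
        RingHom.ker (algebraMap (Localization.AtPrime p) K) := by
      rw [Ideal.map_le_iff_le_comap]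
      intro a ha
      rw [Ideal.mem_comap, RingHom.mem_ker, halg, IsScalarTower.algebraMap_apply P (P ⧸ p) K,
        Ideal.Quotient.algebraMap_eq, Ideal.Quotient.eq_zero_iff_mem.2 ha, map_zero]
    exact hle hz
  exact tfae_core der X hder p q hqp K hkillK s hrank hdim hS

end Core

section Main

open MvPowerSeries

theorem main4612 {k : Type u} [Field k] (r : ℕ)
    (q p : Ideal (MvPowerSeries (Fin r) k)) [p.IsPrime] (hqp : q ≤ p)
    [(p.map (Ideal.Quotient.mk q)).IsPrime]
    (s : ℕ) [Algebra (MvPowerSeries (Fin s) k) (MvPowerSeries (Fin r) k ⧸ p)]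
    [IsScalarTower k (MvPowerSeries (Fin s) k) (MvPowerSeries (Fin r) k ⧸ p)]
    [Module.Finite (MvPowerSeries (Fin s) k) (MvPowerSeries (Fin r) k ⧸ p)]
    (hinj : Function.Injective
      (algebraMap (MvPowerSeries (Fin s) k) (MvPowerSeries (Fin r) k ⧸ p)))
    {L' L : Type u} [Field L'] [Field L]
    [Algebra (MvPowerSeries (Fin s) k) L'] [IsFractionRing (MvPowerSeries (Fin s) k) L']
    [Algebra (MvPowerSeries (Fin r) k ⧸ p) L] [IsFractionRing (MvPowerSeries (Fin r) k ⧸ p) L]
    [Algebra L' L] [Algebra (MvPowerSeries (Fin s) k) L]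
    [IsScalarTower (MvPowerSeries (Fin s) k) (MvPowerSeries (Fin r) k ⧸ p) L]
    [IsScalarTower (MvPowerSeries (Fin s) k) L' L] [Algebra.IsSeparable L' L] :
    [CAlgX.IsAdicFormallySmooth k (Localization.AtPrime (p.map (Ideal.Quotient.mk q)))
        (maximalIdeal (Localization.AtPrime (p.map (Ideal.Quotient.mk q)))),
     ∃ (m : ℕ) (D : Fin m → Derivation k (MvPowerSeries (Fin r) k) (MvPowerSeries (Fin r) k))
        (f : Fin m → MvPowerSeries (Fin r) k), (∀ i, f i ∈ q) ∧
        q.map (algebraMap (MvPowerSeries (Fin r) k) (Localization.AtPrime p)) =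
          Ideal.span (Set.range fun i =>
            algebraMap (MvPowerSeries (Fin r) k) (Localization.AtPrime p) (f i)) ∧
        Matrix.det (Matrix.of fun i j => D i (f j)) ∉ p,
     IsRegularLocalRing (Localization.AtPrime (p.map (Ideal.Quotient.mk q)))].TFAE := by
  classical
  haveI hreg : IsRegularLocalRing (MvPowerSeries (Fin r) k) :=
    Groth.Agent.Lib.RegPSH3.isRegularLocalRing_mvPowerSeries k r
  haveI : IsDomain (MvPowerSeries (Fin s) k) := NoZeroDivisors.to_isDomain _
  haveI : IsAdicComplete (maximalIdeal k) k := by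
    rw [IsLocalRing.maximalIdeal_eq_bot]
    infer_instance
  haveI : IsAdicComplete (maximalIdeal (MvPowerSeries (Fin r) k)) (MvPowerSeries (Fin r) k) :=
    Groth.Agent.Lib.PSCompleteH1.isAdicComplete_maximalIdeal (σ := Fin r) (R := k)
  haveI : IsLocalRing (MvPowerSeries (Fin r) k ⧸ p) :=
    IsLocalRing.of_surjective' (Ideal.Quotient.mk p) Ideal.Quotient.mk_surjective
  haveI : IsAdicComplete (maximalIdeal (MvPowerSeries (Fin r) k ⧸ p))
      (MvPowerSeries (Fin r) k ⧸ p) :=
    Groth.Agent.Lib.MonomialCharPH3.isAdicComplete_quotient _ p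
  haveI : FaithfulSMul (MvPowerSeries (Fin s) k) (MvPowerSeries (Fin r) k ⧸ p) :=
    (faithfulSMul_iff_algebraMap_injective _ _).2 hinj
  haveI : Algebra.IsIntegral (MvPowerSeries (Fin s) k) (MvPowerSeries (Fin r) k ⧸ p) :=
    Algebra.IsIntegral.of_finite _ _
  have hloc : IsLocalHom (algebraMap (MvPowerSeries (Fin s) k) (MvPowerSeries (Fin r) k ⧸ p)) :=
    inferInstance
  haveI : Module.Finite k (ResidueField (MvPowerSeries (Fin r) k ⧸ p)) :=
    Groth.Agent.Lib.ComplKaehlerSepH3.finite_residueField_of_finite k s _ hloc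
  obtain ⟨_, hic⟩ := Groth.Agent.Lib.ComplKaehlerEtaleH3.isIntegrallyClosed_mvPowerSeries_field k s
  haveI := hic
  have hsep' : ∀ a : MvPowerSeries (Fin r) k ⧸ p, ∃ Pl : Polynomial (MvPowerSeries (Fin s) k),
      Polynomial.aeval a Pl = 0 ∧ (Pl.map (algebraMap (MvPowerSeries (Fin s) k)
        (FractionRing (MvPowerSeries (Fin s) k)))).Separable := by
    intro a
    have hint : IsIntegral (MvPowerSeries (Fin s) k) a := Algebra.IsIntegral.isIntegral a
    refine ⟨minpoly (MvPowerSeries (Fin s) k) a, minpoly.aeval _ _, ?_⟩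
    have h1 : (minpoly L' (algebraMap (MvPowerSeries (Fin r) k ⧸ p) L a)).Separable :=
      Algebra.IsSeparable.isSeparable L' _
    rw [minpoly.isIntegrallyClosed_eq_field_fractions L' L hint] at h1
    have h2 := h1.map (f := ((FractionRing.algEquiv (MvPowerSeries (Fin s) k) L').symm :
      L' →+* FractionRing (MvPowerSeries (Fin s) k)))
    have h3 : ((FractionRing.algEquiv (MvPowerSeries (Fin s) k) L').symm :
        L' →+* FractionRing (MvPowerSeries (Fin s) k)).comp
          (algebraMap (MvPowerSeries (Fin s) k) L') =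
        algebraMap (MvPowerSeries (Fin s) k) (FractionRing (MvPowerSeries (Fin s) k)) := by
      apply RingHom.ext
      intro c
      exact (FractionRing.algEquiv (MvPowerSeries (Fin s) k) L').symm.commutes c
    rw [Polynomial.map_map, h3] at h2
    exact h2
  have hrank := Groth.Agent.Lib.ComplKaehlerSepH3.main4557 k s (MvPowerSeries (Fin r) k ⧸ p)
    hinj hsep'
  have hdim : ringKrullDim (Localization.AtPrime p) + (s : WithBot ℕ∞) ≤ (r : WithBot ℕ∞) := by
    rw [IsLocalization.AtPrime.ringKrullDim_eq_height p (Localization.AtPrime p)]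
    have h1 := Groth.Agent.RegularLib.height_add_ringKrullDim_quotient_le p
    have h2 : ringKrullDim (MvPowerSeries (Fin r) k ⧸ p) = (s : WithBot ℕ∞) := by
      rw [Groth.Agent.IntegralHeight.ringKrullDim_eq_of_isIntegral_of_injective
        (MvPowerSeries (Fin s) k) _ hinj,
        Groth.Agent.Lib.RegPSH3.ringKrullDim_mvPowerSeries_regular k s,
        IsLocalRing.maximalIdeal_eq_bot, Submodule.spanFinrank_bot, zero_add]
    rw [h2] at h1
    exact h1.trans (Groth.Agent.Lib.RegPSH3.ringKrullDim_mvPowerSeries_field_le k r)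
  have hS : CAlgX.IsAdicFormallySmooth k (Localization.AtPrime p)
      (maximalIdeal (Localization.AtPrime p)) := by
    have h1 := Groth.Agent.Lib.FSRegularH3.isAdicFormallySmooth_mvPowerSeries k k r
    have h2 := Groth.Agent.Lib.GeomRegAdicH3.isGeometricallyRegular_of_adic h1
    exact (Groth.Agent.Lib.GeomRegFSH3.isGeometricallyRegular_iff_forall_adic).1 h2 p
  have hder : ∀ l j : Fin r, MvPowerSeries.pderiv k j (MvPowerSeries.X l : MvPowerSeries (Fin r) k) =
      if l = j then 1 else 0 := by
    intro l j
    by_cases h : l = j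
    · subst h
      rw [MvPowerSeries.pderiv_X_self, if_pos rfl]
    · rw [MvPowerSeries.pderiv_X_of_ne h, if_neg h]
  exact tfae_of_injective (MvPowerSeries.pderiv k) MvPowerSeries.X hder p q hqp
    (FractionRing (MvPowerSeries (Fin r) k ⧸ p)) (IsFractionRing.injective _ _) s hrank hdim hS

end Main

end Groth.Agent.Lib.NagataJacH3
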