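import Mathlib
import Groth.Prelude.Def_Found
import Groth.Agent.Lib.FiniteIC_helper3
import Groth.Agent.Lib.Japanese6_helper9
import Groth.Agent.Lib.Japanese4_helper9
import Groth.Agent.Lib.Japanese2_helper9

/-!
# Nagata rings: local + generic criterion (EGA IV 7.7-type) (helper3)

A Noetherian ring `A` is Nagata iff all `A_m` (`m` maximal) are Nagata and, for every prime `p`,
finite purely inseparable extensions of `Frac (A/p)` satisfy a generic normality condition.
APPEND-ONLY once landed.
-/

set_option autoImplicit false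
set_option maxSynthPendingDepth 3
universe u

namespace Groth.Agent.Lib.NagataLocalH3

open Groth.Agent.Lib.FiniteICH3 Groth.Agent.Lib.Japanese

/-- Clearing denominators: if the integral closure of `M⁻¹R` in `L` is finite, the integral closure
of `R` in `L` is finite up to denominators in `M`. -/
theorem exists_finset_of_fg_localization {R : Type u} [CommRing R] (M : Submonoid R) (S : Type u)
    [CommRing S] [Algebra R S] [IsLocalization M S] (L : Type u) [CommRing L] [Algebra R L]
    [Algebra S L] [IsScalarTower R S L]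
    (hS : (Subalgebra.toSubmodule (integralClosure S L)).FG) :
    ∃ T : Finset L, (∀ z ∈ T, IsIntegral R z) ∧
      ∀ t : L, IsIntegral R t → ∃ s ∈ M, s • t ∈ Submodule.span R (T : Set L) := by
  classical
  obtain ⟨Y, hY⟩ := hS
  have hYint : ∀ y ∈ Y, IsIntegral S y := by
    intro y hy
    have : y ∈ Subalgebra.toSubmodule (integralClosure S L) := hY ▸ Submodule.subset_span hy
    exact this
  have hmul : ∀ y : L, IsIntegral S y → ∃ s : M, IsIntegral R (s • y) := fun y hy =>
    IsIntegral.exists_multiple_integral_of_isLocalization M y hy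
  choose! sy hsy using hmul
  refine ⟨Y.image (fun y => sy y • y), ?_, ?_⟩
  · intro z hz
    obtain ⟨y, hy, rfl⟩ := Finset.mem_image.mp hz
    exact hsy y (hYint y hy)
  · intro t ht
    have ht' : t ∈ Submodule.span S (Y : Set L) := by
      rw [hY]
      exact (ht.tower_top : IsIntegral S t)
    have key : ∀ t ∈ Submodule.span S (Y : Set L), ∃ s ∈ M,
        s • t ∈ Submodule.span R ((Y.image (fun y => sy y • y) : Finset L) : Set L) := by
      intro t ht
      induction ht using Submodule.span_induction with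
      | mem y hy =>
        refine ⟨sy y, (sy y).2, Submodule.subset_span ?_⟩
        exact Finset.mem_coe.mpr (Finset.mem_image.mpr ⟨y, hy, rfl⟩)
      | zero => exact ⟨1, M.one_mem, by rw [smul_zero]; exact Submodule.zero_mem _⟩
      | add x y _ _ hx hy =>
        obtain ⟨s1, hs1, h1⟩ := hx
        obtain ⟨s2, hs2, h2⟩ := hy
        refine ⟨s1 * s2, M.mul_mem hs1 hs2, ?_⟩
        rw [smul_add]
        apply Submodule.add_mem
        · rw [mul_comm, mul_smul]; exact Submodule.smul_mem _ _ h1
        · rw [mul_smul]; exact Submodule.smul_mem _ _ h2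
      | smul c x _ hx =>
        obtain ⟨s1, hs1, h1⟩ := hx
        obtain ⟨⟨a, u⟩, hau⟩ := IsLocalization.surj M c
        refine ⟨u * s1, M.mul_mem u.2 hs1, ?_⟩
        have h3 : ((u : R) * s1) • c • x = a • (s1 • x) := by
          rw [mul_smul, smul_comm s1 c x, ← smul_assoc (u : R) c, Algebra.smul_def (u : R) c,
            mul_comm, hau, algebraMap_smul]
        rw [h3]
        exact Submodule.smul_mem _ _ h1
    exact key t ht'

section Generic

variable (B : Type u) [CommRing B] [IsDomain B] (K' : Type u) [Field K'] [Algebra B K']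

/-- A finite subalgebra `B'` of `K'` with fraction field `K'` is N-1 as soon as the integral closure
of `B` in `K'` is finite. -/
theorem isN1_of_finite_integralClosure (B' : Subalgebra B K') (hfin : Module.Finite B B')
    [IsFractionRing B' K'] (h : Module.Finite B (integralClosure B K')) : CAlg.IsN1 B' := by
  haveI := hfin
  haveI : Algebra.IsIntegral B B' := Algebra.IsIntegral.of_finite B B'
  rw [FiniteICH3.isN1_iff B' K']
  obtain ⟨T, hT⟩ := (Module.Finite.iff_fg (N := (integralClosure B K').toSubmodule)).mp h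
  refine ⟨T, le_antisymm ?_ ?_⟩
  · rw [Submodule.span_le]
    intro x hx
    have hx1 : x ∈ Subalgebra.toSubmodule (integralClosure B K') := hT ▸ Submodule.subset_span hx
    have hx2 : IsIntegral B x := hx1
    exact (hx2.tower_top : IsIntegral B' x)
  · intro x hx
    have hx1 : IsIntegral B' x := hx
    have hx2 : IsIntegral B x := isIntegral_trans (A := B') x hx1
    have hx3 : x ∈ Submodule.span B (T : Set K') := by
      rw [hT]
      exact hx2
    exact Submodule.span_subset_span B B' _ hx3

/-- generic finiteness data from an integrally closed principal localization of `B'`. -/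
theorem exists_generic (hinj : Function.Injective (algebraMap B K')) (B' : Subalgebra B K')
    (hfin : Module.Finite B B') [IsFractionRing B' K'] (f' : B') (hf' : f' ≠ 0)
    (hic : IsIntegrallyClosed (Localization.Away f')) :
    ∃ (f : B), f ≠ 0 ∧ ∃ (T₀ : Finset K'), (∀ z ∈ T₀, IsIntegral B z) ∧
      ∀ t : K', IsIntegral B t → ∃ n : ℕ, f ^ n • t ∈ Submodule.span B (T₀ : Set K') := by
  haveI := hfin
  haveI := hic
  haveI : Algebra.IsIntegral B B' := Algebra.IsIntegral.of_finite B B'
  haveI : Nontrivial B := inferInstance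
  -- a nonzero multiple of `f'` in `B`
  have hcomap : (Ideal.span {f'}).comap (algebraMap B B') ≠ ⊥ :=
    Ideal.comap_ne_bot_of_integral_mem hf' (Ideal.mem_span_singleton_self f')
      (Algebra.IsIntegral.isIntegral f')
  obtain ⟨f, hfmem, hf0⟩ := Submodule.exists_mem_ne_zero_of_ne_bot hcomap
  obtain ⟨g, hg⟩ := Ideal.mem_span_singleton'.mp (Ideal.mem_comap.mp hfmem)
  obtain ⟨T₀, hT₀⟩ := (Module.Finite.iff_fg (N := B'.toSubmodule)).mp hfin
  refine ⟨f, hf0, T₀, ?_, ?_⟩
  · intro z hz
    have hz1 : z ∈ Subalgebra.toSubmodule B' := hT₀ ▸ Submodule.subset_span hz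
    have hz2 : z ∈ B' := hz1
    have := Algebra.IsIntegral.isIntegral (R := B) (⟨z, hz2⟩ : B')
    exact this.map (B'.val)
  · intro t ht
    have ht' : IsIntegral B' t := ht.tower_top
    have hM : Submonoid.powers f' ≤ nonZeroDivisors B' :=
      powers_le_nonZeroDivisors_of_noZeroDivisors hf'
    obtain ⟨s, ⟨n, rfl⟩, r, hr⟩ := exists_smul_of_isIntegrallyClosed B' K' (Submonoid.powers f') hM
      (Localization.Away f') t ht'
    refine ⟨n, ?_⟩
    rw [hT₀]
    show f ^ n • t ∈ B'
    have h1 : f ^ n • t = ((g ^ n * r : B') : K') := by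
      have h2 : (algebraMap B K' f) = ((g * f' : B') : K') := by
        rw [hg]
        rfl
      have h3 : ((r : B') : K') = ((f' ^ n : B') : K') * t := by
        have := hr
        rw [Algebra.smul_def] at this
        exact this
      rw [Algebra.smul_def, map_pow, h2]
      push_cast
      rw [h3]
      push_cast
      ring
    rw [h1]
    exact (g ^ n * r).2

end Generic

section Local

variable (A : Type u) [CommRing A] [IsNoetherianRing A]

/-- local data: for a maximal ideal `m` of `A/p` the N-2 property of `A_M/pA_M` gives finiteness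
up to denominators outside `m`. -/
theorem exists_local (p : Ideal A) [p.IsPrime] (K' : Type u) [Field K'] [Algebra (A ⧸ p) K']
    [Algebra (FractionRing (A ⧸ p)) K'] [IsScalarTower (A ⧸ p) (FractionRing (A ⧸ p)) K']
    (hfin : FiniteDimensional (FractionRing (A ⧸ p)) K')
    (h1 : ∀ (m : Ideal A) [m.IsMaximal] (P : Ideal (Localization.AtPrime m)) [P.IsPrime],
          CAlg.IsN2 (Localization.AtPrime m ⧸ P))
    (m : Ideal (A ⧸ p)) (hm : m.IsMaximal) :
    ∃ T : Finset K', (∀ z ∈ T, IsIntegral (A ⧸ p) z) ∧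
      ∀ t : K', IsIntegral (A ⧸ p) t → ∃ s ∉ m, s • t ∈ Submodule.span (A ⧸ p) (T : Set K') := by
  haveI := hm
  let M : Ideal A := m.comap (Ideal.Quotient.mk p)
  haveI hMmax : M.IsMaximal := Ideal.comap_isMaximal_of_surjective _ Ideal.Quotient.mk_surjective
  have hpM : p ≤ M := by
    intro x hx
    show Ideal.Quotient.mk p x ∈ m
    rw [Ideal.Quotient.eq_zero_iff_mem.mpr hx]
    exact m.zero_mem
  let S := Localization.AtPrime M
  let P : Ideal S := p.map (algebraMap A S)
  have hdisj : Disjoint (M.primeCompl : Set A) (p : Set A) := by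
    rw [Set.disjoint_left]
    intro x hx hxp
    exact hx (hpM hxp)
  haveI hP : P.IsPrime := IsLocalization.isPrime_of_isPrime_disjoint M.primeCompl S p inferInstance
    hdisj
  have hN2 : CAlg.IsN2 (S ⧸ P) := h1 M P
  let M' : Submonoid (A ⧸ p) := Algebra.algebraMapSubmonoid (A ⧸ p) M.primeCompl
  haveI : IsLocalization M' (S ⧸ P) := inferInstance
  have hM' : M' ≤ nonZeroDivisors (A ⧸ p) := le_nonZeroDivisors_of_isLocalization M' (S ⧸ P)
  let K := FractionRing (A ⧸ p)
  obtain ⟨alg, tower, frac⟩ := exists_algebra_of_isLocalization (A ⧸ p) K M' hM' (S ⧸ P)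
  letI := alg
  haveI := tower
  haveI := frac
  letI : Algebra (S ⧸ P) K' := ((algebraMap K K').comp (algebraMap (S ⧸ P) K)).toAlgebra
  haveI : IsScalarTower (S ⧸ P) K K' := IsScalarTower.of_algebraMap_eq (fun x => rfl)
  haveI : IsScalarTower (A ⧸ p) (S ⧸ P) K' := IsScalarTower.of_algebraMap_eq (fun x => by
    rw [IsScalarTower.algebraMap_apply (A ⧸ p) K K', IsScalarTower.algebraMap_apply (A ⧸ p) (S ⧸ P) K]
    rfl)
  have hfinS : Module.Finite (S ⧸ P) (integralClosure (S ⧸ P) K') :=
    (isN2_iff_isN2' (S ⧸ P)).mp hN2 K K' hfin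
  obtain ⟨T, hT, hTt⟩ := exists_finset_of_fg_localization M' (S ⧸ P) K'
    ((Module.Finite.iff_fg (N := (integralClosure (S ⧸ P) K').toSubmodule)).mp hfinS)
  refine ⟨T, hT, fun t ht => ?_⟩
  obtain ⟨s, hs, hst⟩ := hTt t ht
  refine ⟨s, ?_, hst⟩
  intro hsm
  obtain ⟨a, ha, rfl⟩ := hs
  exact ha hsm

/-- the hard direction for a fixed prime. -/
theorem isN2_quotient (p : Ideal A) [p.IsPrime]
    (h1 : ∀ (m : Ideal A) [m.IsMaximal] (P : Ideal (Localization.AtPrime m)) [P.IsPrime],
          CAlg.IsN2 (Localization.AtPrime m ⧸ P))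
    (h2 : ∀ (K' : Type u) [Field K'] [Algebra (A ⧸ p) K']
          [Algebra (FractionRing (A ⧸ p)) K'] [IsScalarTower (A ⧸ p) (FractionRing (A ⧸ p)) K']
          [FiniteDimensional (FractionRing (A ⧸ p)) K'] [IsPurelyInseparable (FractionRing (A ⧸ p)) K']
          (B' : Subalgebra (A ⧸ p) K'), Module.Finite (A ⧸ p) B' → IsFractionRing B' K' →
            ∃ f : B', f ≠ 0 ∧ IsIntegrallyClosed (Localization.Away f)) :
    CAlg.IsN2 (A ⧸ p) := by
  apply isN2_of_forall_purelyInseparable
  intro K' _ _ _ _ hfin hpi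
  haveI := hfin
  haveI := hpi
  have hinj : Function.Injective (algebraMap (A ⧸ p) K') := by
    rw [IsScalarTower.algebraMap_eq (A ⧸ p) (FractionRing (A ⧸ p)) K']
    exact (algebraMap (FractionRing (A ⧸ p)) K').injective.comp
      (IsFractionRing.injective (A ⧸ p) (FractionRing (A ⧸ p)))
  -- the finite subalgebra B'
  obtain ⟨s, b, hb⟩ := FiniteDimensional.exists_is_basis_integral (A ⧸ p)
    (FractionRing (A ⧸ p)) K'
  let B' : Subalgebra (A ⧸ p) K' := Algebra.adjoin (A ⧸ p) (Set.range b)
  have hfg : Module.Finite (A ⧸ p) B' := (Module.Finite.iff_fg (N := B'.toSubmodule)).mpr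
    (fg_adjoin_of_finite (Set.finite_range b) (by rintro _ ⟨i, rfl⟩; exact hb i))
  haveI hfrac : IsFractionRing B' K' :=
    isFractionRing_of_basis_mem (A ⧸ p) (FractionRing (A ⧸ p)) K' b B'
      (fun i => Algebra.subset_adjoin ⟨i, rfl⟩)
  obtain ⟨f', hf', hic⟩ := h2 K' B' hfg hfrac
  obtain ⟨f, hf0, T₀, hT₀, h0⟩ := exists_generic (A ⧸ p) K' hinj B' hfg f' hf' hic
  have hfgic := fg_integralClosure_of_local_of_generic (A ⧸ p) K' hinj f hf0 T₀ hT₀ h0
    (fun m hm => exists_local A p K' hfin h1 m hm)
  exact (Module.Finite.iff_fg (N := (integralClosure (A ⧸ p) K').toSubmodule)).mpr hfgic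

theorem main :
    CAlg.IsNagata A ↔
      ((∀ (m : Ideal A) [m.IsMaximal] (P : Ideal (Localization.AtPrime m)) [P.IsPrime],
          CAlg.IsN2 (Localization.AtPrime m ⧸ P)) ∧
        ∀ (p : Ideal A) [p.IsPrime] (K' : Type u) [Field K'] [Algebra (A ⧸ p) K']
          [Algebra (FractionRing (A ⧸ p)) K'] [IsScalarTower (A ⧸ p) (FractionRing (A ⧸ p)) K']
          [FiniteDimensional (FractionRing (A ⧸ p)) K'] [IsPurelyInseparable (FractionRing (A ⧸ p)) K']
          (B' : Subalgebra (A ⧸ p) K'), Module.Finite (A ⧸ p) B' → IsFractionRing B' K' →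
            ∃ f : B', f ≠ 0 ∧ IsIntegrallyClosed (Localization.Away f)) := by
  constructor
  · intro hA
    refine ⟨?_, ?_⟩
    · intro m _ P _
      exact (isNagata_of_isLocalization A hA m.primeCompl (Localization.AtPrime m)).2 P
    · intro p _ K' _ _ _ _ hfin _ B' hB'fin hfrac
      haveI := hfrac
      have hN2 : CAlg.IsN2 (A ⧸ p) := hA.2 p
      have h3 : Module.Finite (A ⧸ p) (integralClosure (A ⧸ p) K') := hN2 K' hfin
      have hN1 : CAlg.IsN1 B' := isN1_of_finite_integralClosure (A ⧸ p) K' B' hB'fin h3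
      exact exists_isIntegrallyClosed_away B' hN1
  · rintro ⟨h1, h2⟩
    refine ⟨inferInstance, fun p _ => ?_⟩
    exact isN2_quotient A p h1 (h2 p)

end Local

end Groth.Agent.Lib.NagataLocalH3
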