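import Mathlib
import Groth.Prelude.Def_Found
import Groth.Agent.Lib.N2QuasiFinite_helper3
import Groth.Agent.S9835

/-!
# Nagata schemes vs Japanese integral closed subschemes (helper1)

APPEND-ONLY once landed.
-/

set_option autoImplicit false
universe u

open CategoryTheory AlgebraicGeometry TopologicalSpace

namespace Groth.Agent.Lib.NagataSchH1

open Groth.Agent.Lib.N2QuasiFiniteH3

lemma irreducibleSpace_of_isEmbedding {Y X : Type*} [TopologicalSpace Y] [TopologicalSpace X]
    (f : Y → X) (hf : Topology.IsEmbedding f) (h : IsIrreducible (Set.range f)) :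
    IrreducibleSpace Y := by
  have := Subtype.irreducibleSpace h
  exact (hf.toHomeomorph.irreducibleSpace_iff).mpr this

/-- The reduced induced structure on a closed subset is reduced. -/
lemma isReduced_subscheme_vanishingIdeal {X : Scheme.{u}} (Z₀ : Closeds X) :
    AlgebraicGeometry.IsReduced (Scheme.IdealSheafData.vanishingIdeal Z₀).subscheme := by
  have h : ∀ U : X.affineOpens, AlgebraicGeometry.IsReduced
      ((Scheme.IdealSheafData.vanishingIdeal Z₀).subschemeCover.openCover.X U) := by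
    intro U
    have hred : _root_.IsReduced
        (Γ(X, U) ⧸ (Scheme.IdealSheafData.vanishingIdeal Z₀).ideal U) := by
      rw [← Ideal.isRadical_iff_quotient_reduced]
      rw [Scheme.IdealSheafData.vanishingIdeal_ideal]
      exact PrimeSpectrum.isRadical_vanishingIdeal _
    change AlgebraicGeometry.IsReduced
      (Spec (.of (Γ(X, U) ⧸ (Scheme.IdealSheafData.vanishingIdeal Z₀).ideal U)))
    infer_instance
  haveI : ∀ U, AlgebraicGeometry.IsReduced
      ((Scheme.IdealSheafData.vanishingIdeal Z₀).subschemeCover.openCover.X U) := h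
  exact AlgebraicGeometry.IsReduced.of_openCover _
    (Scheme.IdealSheafData.vanishingIdeal Z₀).subschemeCover.openCover

/-- The reduced induced structure on an irreducible closed subset is integral. -/
lemma isIntegral_subscheme_vanishingIdeal {X : Scheme.{u}} (Z₀ : Closeds X)
    (h : IsIrreducible (Z₀ : Set X)) :
    IsIntegral (Scheme.IdealSheafData.vanishingIdeal Z₀).subscheme := by
  haveI := isReduced_subscheme_vanishingIdeal Z₀
  haveI : IrreducibleSpace (Scheme.IdealSheafData.vanishingIdeal Z₀).subscheme := by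
    refine irreducibleSpace_of_isEmbedding
      (Scheme.IdealSheafData.vanishingIdeal Z₀).subschemeι
      (Scheme.IdealSheafData.vanishingIdeal Z₀).subschemeι.isEmbedding ?_
    rw [Scheme.IdealSheafData.range_subschemeι]
    simpa using h
  exact isIntegral_of_irreducibleSpace_of_isReduced _

/-- The vanishing ideal of the closure of the point of a prime `p` in an affine open, on that
affine open, is `p`. -/
lemma vanishingIdeal_closure_ideal {X : Scheme.{u}} (U : X.Opens) (hU : IsAffineOpen U)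
    (P : PrimeSpectrum Γ(X, U)) :
    (Scheme.IdealSheafData.vanishingIdeal
      ⟨closure {hU.fromSpec P}, isClosed_closure⟩).ideal ⟨U, hU⟩ = P.asIdeal := by
  have h1 : (hU.fromSpec ⁻¹' (closure {hU.fromSpec P})) = closure {P} := by
    rw [hU.fromSpec.isOpenEmbedding.isOpenMap.preimage_closure_eq_closure_preimage
      hU.fromSpec.continuous]
    congr 1
    ext Q
    simp only [Set.mem_preimage, Set.mem_singleton_iff]
    exact hU.fromSpec.isOpenEmbedding.injective.eq_iff
  have h2 : PrimeSpectrum.vanishingIdeal (closure {P}) = P.asIdeal := by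
    rw [PrimeSpectrum.vanishingIdeal_closure, PrimeSpectrum.vanishingIdeal_singleton]
  exact (congrArg PrimeSpectrum.vanishingIdeal h1).trans h2

theorem nagata_of_japanese (X : Scheme.{u}) [IsLocallyNoetherian X]
    (H : ∀ (Z : Scheme.{u}) (i : Z ⟶ X) [IsClosedImmersion i] [IsIntegral Z]
        (V : Z.Opens) [Nonempty V], IsAffineOpen V → CAlg.IsN2 Γ(Z, V))
    (U : X.Opens) (hU : IsAffineOpen U) : CAlg.IsNagata Γ(X, U) := by
  refine ⟨IsLocallyNoetherian.component_noetherian ⟨U, hU⟩, ?_⟩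
  intro p hp
  obtain ⟨P, hP⟩ : ∃ P : PrimeSpectrum Γ(X, U), P = ⟨p, hp⟩ := ⟨_, rfl⟩
  obtain ⟨UU, hUU⟩ : ∃ UU : X.affineOpens, UU = ⟨U, hU⟩ := ⟨_, rfl⟩
  obtain ⟨Z₀, hZ₀⟩ : ∃ Z₀ : Closeds X,
      Z₀ = ⟨closure {hU.fromSpec P}, isClosed_closure⟩ := ⟨_, rfl⟩
  obtain ⟨I, hI⟩ : ∃ I : X.IdealSheafData, I = Scheme.IdealSheafData.vanishingIdeal Z₀ :=
    ⟨_, rfl⟩
  have hirr : IsIrreducible (Z₀ : Set X) := by
    rw [hZ₀]
    exact isIrreducible_singleton.closure
  haveI : IsIntegral I.subscheme := by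
    rw [hI]; exact isIntegral_subscheme_vanishingIdeal Z₀ hirr
  have hideal : I.ideal ⟨U, hU⟩ = p := by
    rw [hI, hZ₀]
    have := vanishingIdeal_closure_ideal (X := X) U hU P
    rw [this, hP]
  have hmem : hU.fromSpec P ∈ Set.range I.subschemeι := by
    rw [Scheme.IdealSheafData.range_subschemeι, hI]
    have : ((Scheme.IdealSheafData.vanishingIdeal Z₀).support : Set X) = Z₀ := by simp
    rw [this, hZ₀]
    exact subset_closure rfl
  obtain ⟨z, hz⟩ := hmem
  haveI : Nonempty (I.subschemeι ⁻¹ᵁ U) := by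
    refine ⟨⟨z, ?_⟩⟩
    change I.subschemeι z ∈ U
    rw [hz]
    have := hU.range_fromSpec
    have h2 : hU.fromSpec P ∈ Set.range hU.fromSpec := ⟨P, rfl⟩
    rw [this] at h2
    exact h2
  have hN2 := H I.subscheme I.subschemeι (I.subschemeι ⁻¹ᵁ U) (hU.preimage I.subschemeι)
  exact isN2_of_ringEquiv
    ((I.subschemeObjIso ⟨U, hU⟩).commRingCatIsoToRingEquiv.trans (Ideal.quotEquivOfEq hideal))
    hN2

theorem japanese_of_nagata (X : Scheme.{u}) [IsLocallyNoetherian X]
    (H : ∀ U : X.Opens, IsAffineOpen U → CAlg.IsNagata Γ(X, U))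
    (Z : Scheme.{u}) (i : Z ⟶ X) [IsClosedImmersion i] [IsIntegral Z]
    (V : Z.Opens) [Nonempty V] (hV : IsAffineOpen V) : CAlg.IsN2 Γ(Z, V) := by
  haveI : ∀ W : {W : X.affineOpens // Nonempty (i ⁻¹ᵁ W.1)}, Nonempty (i ⁻¹ᵁ W.1.1) :=
    fun W => W.2
  refine Groth.Agent.S9835.result Z
    (ι := {W : X.affineOpens // Nonempty (i ⁻¹ᵁ W.1)})
    (fun W => i ⁻¹ᵁ W.1.1) (hU := ?_) (haff := fun W => W.1.2.preimage i) (hJ := ?_) V hV
  · rw [eq_top_iff]
    intro z _
    obtain ⟨_, ⟨W, hW, rfl⟩, hzW, -⟩ :=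
      X.isBasis_affineOpens.exists_subset_of_mem_open (Set.mem_univ (i z)) isOpen_univ
    have hz : z ∈ i ⁻¹ᵁ W := hzW
    exact Opens.mem_iSup.mpr ⟨⟨⟨W, hW⟩, ⟨⟨z, hz⟩⟩⟩, hz⟩
  · intro W
    haveI : Nonempty (i ⁻¹ᵁ W.1.1) := W.2
    have hsurj : Function.Surjective (i.app W.1.1).hom := i.app_surjective W.1.1 W.1.2
    haveI : (RingHom.ker (i.app W.1.1).hom).IsPrime := RingHom.ker_isPrime _
    have h1 := (H W.1.1 W.1.2).2 (RingHom.ker (i.app W.1.1).hom)
    exact isN2_of_ringEquiv (RingHom.quotientKerEquivOfSurjective hsurj) h1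

end Groth.Agent.Lib.NagataSchH1
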