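import Mathlib

/-!
# Enough injectives in the category of `ℕ`-indexed inverse systems (helper9)
-/

set_option autoImplicit false
universe v u
open CategoryTheory CategoryTheory.Limits Opposite

noncomputable section

namespace Groth.Agent.Lib.NatInj

variable {A : Type u} [Category.{v} A] [Abelian A]
open ZeroObject

section Forward

/-- Objects of the system with `X` in degree `0` and zero elsewhere. -/
def LX (X : A) : ℕ → A
  | 0 => X
  | _ + 1 => 0

/-- The system with `X` in degree `0` and zero elsewhere. -/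
def L (X : A) : ℕᵒᵖ ⥤ A := Functor.ofOpSequence (X := LX X) (fun _ => 0)

lemma L_isZero (X : A) (n : ℕ) : IsZero ((L X).obj (op (n + 1))) := isZero_zero A

/-- Components of `L f`. -/
def LmapApp {X Y : A} (f : X ⟶ Y) : ∀ n : ℕ, (L X).obj (op n) ⟶ (L Y).obj (op n)
  | 0 => f
  | _ + 1 => 0

/-- `L` on morphisms. -/
def Lmap {X Y : A} (f : X ⟶ Y) : L X ⟶ L Y :=
  NatTrans.ofOpSequence (LmapApp f) (fun n => (L_isZero X n).eq_of_src _ _)

lemma Lmap_app_zero {X Y : A} (f : X ⟶ Y) : (Lmap f).app (op 0) = f := rfl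

instance {X Y : A} (f : X ⟶ Y) [Mono f] : Mono (Lmap f) := by
  haveI : ∀ k, Mono ((Lmap f).app k) := fun k => by
    obtain ⟨n⟩ := k
    cases n with
    | zero => exact (inferInstance : Mono f)
    | succ n => exact (L_isZero X n).mono _
  exact NatTrans.mono_of_mono_app _

/-- Components of the map `L X ⟶ Q` induced by `X ⟶ Q_0`. -/
def LtoApp {X : A} (Q : ℕᵒᵖ ⥤ A) (g : X ⟶ Q.obj (op 0)) : ∀ n : ℕ, (L X).obj (op n) ⟶ Q.obj (op n)
  | 0 => g
  | _ + 1 => 0

/-- The map `L X ⟶ Q` induced by `X ⟶ Q_0`. -/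
def Lto {X : A} (Q : ℕᵒᵖ ⥤ A) (g : X ⟶ Q.obj (op 0)) : L X ⟶ Q :=
  NatTrans.ofOpSequence (LtoApp Q g) (fun n => (L_isZero X n).eq_of_src _ _)

lemma Lto_app_zero {X : A} (Q : ℕᵒᵖ ⥤ A) (g : X ⟶ Q.obj (op 0)) : (Lto Q g).app (op 0) = g := rfl

lemma injective_obj_zero (Q : ℕᵒᵖ ⥤ A) [Injective Q] : Injective (Q.obj (op 0)) where
  factors {X Y} g f _ := by
    refine ⟨(Injective.factorThru (Lto Q g) (Lmap f)).app (op 0), ?_⟩
    have h := congr_app (Injective.comp_factorThru (Lto Q g) (Lmap f)) (op 0)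
    rw [NatTrans.comp_app, Lmap_app_zero, Lto_app_zero] at h
    exact h

theorem enough_of_functor [EnoughInjectives (ℕᵒᵖ ⥤ A)] : EnoughInjectives A where
  presentation X := by
    obtain ⟨pres⟩ := EnoughInjectives.presentation (L X)
    haveI := pres.injective
    haveI := pres.mono
    exact ⟨{ J := pres.J.obj (op 0)
             injective := injective_obj_zero pres.J
             f := pres.f.app (op 0)
             mono := (inferInstance : Mono (pres.f.app (op 0))) }⟩

end Forward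

section Backward

variable [EnoughInjectives A] (X : ℕᵒᵖ ⥤ A)

/-- An injective object containing `X_n`. -/
abbrev I (n : ℕ) : A := Injective.under (X.obj (op n))

/-- Objects of the injective system: `J_n = I_0 ⊞ ⋯ ⊞ I_n`. -/
def JX : ℕ → A
  | 0 => I X 0
  | n + 1 => JX n ⊞ I X (n + 1)

instance injective_JX : ∀ n, Injective (JX X n)
  | 0 => (inferInstance : Injective (I X 0))
  | n + 1 => by
    haveI := injective_JX n
    exact (inferInstance : Injective (JX X n ⊞ I X (n + 1)))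

/-- The injective system. -/
def J : ℕᵒᵖ ⥤ A := Functor.ofOpSequence (X := JX X) (fun _ => biprod.fst)

/-- The projection `J_{n+1} ⟶ J_n`. -/
def jfst (n : ℕ) : (J X).obj (op (n + 1)) ⟶ (J X).obj (op n) :=
  (biprod.fst : JX X n ⊞ I X (n + 1) ⟶ JX X n)

/-- The projection `J_{n+1} ⟶ I_{n+1}`. -/
def jsnd (n : ℕ) : (J X).obj (op (n + 1)) ⟶ I X (n + 1) :=
  (biprod.snd : JX X n ⊞ I X (n + 1) ⟶ I X (n + 1))

/-- Maps into `J_{n+1}`. -/
def jlift {T : A} (n : ℕ) (a : T ⟶ (J X).obj (op n)) (b : T ⟶ I X (n + 1)) :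
    T ⟶ (J X).obj (op (n + 1)) :=
  (biprod.lift a b : T ⟶ JX X n ⊞ I X (n + 1))

@[reassoc (attr := simp)]
lemma jlift_jfst {T : A} (n : ℕ) (a : T ⟶ (J X).obj (op n)) (b : T ⟶ I X (n + 1)) :
    jlift X n a b ≫ jfst X n = a := biprod.lift_fst _ _

@[reassoc (attr := simp)]
lemma jlift_jsnd {T : A} (n : ℕ) (a : T ⟶ (J X).obj (op n)) (b : T ⟶ I X (n + 1)) :
    jlift X n a b ≫ jsnd X n = b := biprod.lift_snd _ _

lemma j_ext {T : A} (n : ℕ) (a b : T ⟶ (J X).obj (op (n + 1)))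
    (h₁ : a ≫ jfst X n = b ≫ jfst X n) (h₂ : a ≫ jsnd X n = b ≫ jsnd X n) : a = b :=
  biprod.hom_ext (f := (a : T ⟶ JX X n ⊞ I X (n + 1))) (g := b) h₁ h₂

lemma J_map_succ (n : ℕ) : (J X).map (homOfLE (Nat.le_add_right n 1)).op = jfst X n :=
  Functor.ofOpSequence_map_homOfLE_succ _ n

variable {X}

/-- Components of the map `P ⟶ J` with prescribed `I`-components. -/
def toJApp (P : ℕᵒᵖ ⥤ A) (a : ∀ n, P.obj (op n) ⟶ I X n) : ∀ n : ℕ, P.obj (op n) ⟶ (J X).obj (op n)
  | 0 => a 0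
  | n + 1 => jlift X n (P.map (homOfLE (Nat.le_add_right n 1)).op ≫ toJApp P a n) (a (n + 1))

lemma toJApp_succ (P : ℕᵒᵖ ⥤ A) (a : ∀ n, P.obj (op n) ⟶ I X n) (n : ℕ) :
    toJApp P a (n + 1) =
      jlift X n (P.map (homOfLE (Nat.le_add_right n 1)).op ≫ toJApp P a n) (a (n + 1)) := rfl

/-- The map `P ⟶ J` with prescribed `I`-components. -/
def toJ (P : ℕᵒᵖ ⥤ A) (a : ∀ n, P.obj (op n) ⟶ I X n) : P ⟶ J X :=
  NatTrans.ofOpSequence (toJApp P a) (fun n => by
    rw [J_map_succ, toJApp_succ, jlift_jfst])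

lemma toJ_app (P : ℕᵒᵖ ⥤ A) (a : ∀ n, P.obj (op n) ⟶ I X n) (n : ℕ) :
    (toJ P a).app (op n) = toJApp P a n := rfl

/-- The `I`-components of a map `P ⟶ J`. -/
def compI {P : ℕᵒᵖ ⥤ A} (g : P ⟶ J X) : ∀ n, P.obj (op n) ⟶ I X n
  | 0 => g.app (op 0)
  | n + 1 => g.app (op (n + 1)) ≫ jsnd X n

lemma eq_toJ {P : ℕᵒᵖ ⥤ A} (g : P ⟶ J X) : g = toJ P (compI g) := by
  ext k
  obtain ⟨n⟩ := k
  induction n with
  | zero => rfl
  | succ n ih =>
    rw [toJ_app, toJApp_succ]
    apply j_ext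
    · rw [jlift_jfst, ← toJ_app, ← ih, ← J_map_succ]
      exact (g.naturality _).symm
    · rw [jlift_jsnd]
      rfl

lemma comp_toJ {P Q : ℕᵒᵖ ⥤ A} (f : P ⟶ Q) (b : ∀ n, Q.obj (op n) ⟶ I X n) :
    f ≫ toJ Q b = toJ P (fun n => f.app (op n) ≫ b n) := by
  ext k
  obtain ⟨n⟩ := k
  induction n with
  | zero => rfl
  | succ n ih =>
    rw [NatTrans.comp_app, toJ_app, toJ_app, toJApp_succ, toJApp_succ]
    apply j_ext
    · rw [Category.assoc, jlift_jfst, jlift_jfst, ← toJ_app, ← toJ_app, ← ih, NatTrans.comp_app,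
        ← Category.assoc, ← Category.assoc, f.naturality]
    · rw [Category.assoc, jlift_jsnd, jlift_jsnd]

variable (X)

instance injective_J : Injective (J X) where
  factors {P Q} g f _ := by
    haveI : ∀ n, Mono (f.app (op n)) := fun n => inferInstance
    refine ⟨toJ Q (fun n => Injective.factorThru (compI g n) (f.app (op n))), ?_⟩
    rw [comp_toJ]
    conv_rhs => rw [eq_toJ g]
    congr 1
    funext n
    exact Injective.comp_factorThru _ _

/-- The embedding `X ⟶ J`. -/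
def emb : X ⟶ J X := toJ X (fun n => Injective.ι (X.obj (op n)))

instance mono_emb : Mono (emb X) := by
  haveI : ∀ k, Mono ((emb X).app k) := fun k => by
    obtain ⟨n⟩ := k
    cases n with
    | zero => exact (inferInstance : Mono (Injective.ι (X.obj (op 0))))
    | succ n =>
      have h : (emb X).app (op (n + 1)) ≫ jsnd X n = Injective.ι (X.obj (op (n + 1))) := by
        show toJApp X _ (n + 1) ≫ jsnd X n = _
        rw [toJApp_succ, jlift_jsnd]
      exact mono_of_mono_fac h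
  exact NatTrans.mono_of_mono_app _

theorem functor_enough : EnoughInjectives (ℕᵒᵖ ⥤ A) where
  presentation X := ⟨{ J := J X, injective := injective_J X, f := emb X, mono := mono_emb X }⟩

end Backward

theorem main : EnoughInjectives (ℕᵒᵖ ⥤ A) ↔ EnoughInjectives A :=
  ⟨fun _ => enough_of_functor, fun _ => functor_enough⟩

end Groth.Agent.Lib.NatInj

end
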