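import Groth.Agent.Lib.TotTools_helper7

/-!
# Total complexes of double complexes of shape `(up ℕ, up ℤ)` (helper7)

Double complexes `K : HomologicalComplex₂ C (up ℕ) (up ℤ)` (outer index `q : ℕ`, inner index
`p : ℤ`) with `K^{q,p} = 0` for `p < a`.

* the `TotalComplexShape (up ℕ) (up ℤ) (up ℤ)` instance: `π (q, p) = q + p`, `ε₁ = 1`,
  `ε₂ (q, p) = (-1)^q`;
* `hasTotal_of_bdd`, `isZero_total_X`;
* projections `proj` and the decomposition of the identity `id_eq_sum`;
* `epi_app_total`: a natural transformation between additive functors which is an epimorphism on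
  all `K^{q,p}` is an epimorphism on the terms of the total complex.
-/

set_option autoImplicit false
set_option backward.isDefEq.respectTransparency false
set_option backward.isDefEq.respectTransparency.types false
set_option linter.style.haveILetI false
set_option linter.unusedSectionVars false

open CategoryTheory CategoryTheory.Limits HomologicalComplex

namespace Groth.Agent.Lib.NatIntTotH7

open Groth.Agent.Lib.TotToolsH7

instance totalShape :
    TotalComplexShape (ComplexShape.up ℕ) (ComplexShape.up ℤ) (ComplexShape.up ℤ) where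
  π := fun ⟨q, p⟩ => (q : ℤ) + p
  ε₁ := fun _ => 1
  ε₂ := fun ⟨q, _⟩ => (q : ℤ).negOnePow
  rel₁ {q q'} h p := by
    have h' : q + 1 = q' := h
    show (q : ℤ) + p + 1 = (q' : ℤ) + p
    rw [← h']
    push_cast
    ring
  rel₂ q {p p'} h := by
    have h' : p + 1 = p' := h
    show (q : ℤ) + p + 1 = (q : ℤ) + p'
    rw [← h']
    ring
  ε₂_ε₁ {q q' p p'} h₁ h₂ := by
    have h' : q + 1 = q' := h₁
    show (q : ℤ).negOnePow * 1 = -1 * (q' : ℤ).negOnePow
    rw [← h']
    push_cast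
    rw [Int.negOnePow_succ]
    simp

universe v u
variable {C : Type u} [Category.{v} C] [Abelian C]

/-- double complexes of shape `(up ℕ, up ℤ)` -/
abbrev NI (C : Type u) [Category.{v} C] [Abelian C] :=
  HomologicalComplex₂ C (ComplexShape.up ℕ) (ComplexShape.up ℤ)

theorem π_def (q : ℕ) (p : ℤ) :
    ComplexShape.π (ComplexShape.up ℕ) (ComplexShape.up ℤ) (ComplexShape.up ℤ) (q, p) =
      (q : ℤ) + p := rfl

theorem ε₁_def (q : ℕ) (p : ℤ) :
    ComplexShape.ε₁ (ComplexShape.up ℕ) (ComplexShape.up ℤ) (ComplexShape.up ℤ) (q, p) = 1 := rfl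

theorem ε₂_def (q : ℕ) (p : ℤ) :
    ComplexShape.ε₂ (ComplexShape.up ℕ) (ComplexShape.up ℤ) (ComplexShape.up ℤ) (q, p) =
      (q : ℤ).negOnePow := rfl

/-- `K^{q,p} = 0` for `p < a` -/
def Bdd (K : NI C) (a : ℤ) : Prop := ∀ (q : ℕ) (p : ℤ), p < a → IsZero ((K.X q).X p)

theorem hasTotal_of_bdd (K : NI C) (a : ℤ) (hK : Bdd K a) : K.HasTotal (ComplexShape.up ℤ) := by
  intro n
  classical
  let mk : ℕ → ↥((ComplexShape.π (ComplexShape.up ℕ) (ComplexShape.up ℤ) (ComplexShape.up ℤ)) ⁻¹'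
      {n}) := fun q => ⟨(q, n - q), by
    show (q : ℤ) + (n - q) = n
    ring⟩
  refine hasCoproduct_of_finite_support _ ((Finset.range ((n - a).toNat + 1)).image mk) ?_
  rintro ⟨⟨q, p⟩, hi⟩ hns
  have hqp : (q : ℤ) + p = n := hi
  apply hK q p
  by_contra hcon
  rw [not_lt] at hcon
  apply hns
  rw [Finset.mem_image]
  refine ⟨q, Finset.mem_range.2 (by omega), ?_⟩
  apply Subtype.ext
  show (q, n - (q : ℤ)) = (q, p)
  rw [show n - (q : ℤ) = p by omega]

variable (K : NI C) [K.HasTotal (ComplexShape.up ℤ)]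

theorem isZero_total_X (a : ℤ) (hK : Bdd K a) (n : ℤ) (hn : n < a) :
    IsZero ((K.total (ComplexShape.up ℤ)).X n) := by
  rw [IsZero.iff_id_eq_zero]
  apply HomologicalComplex₂.total.hom_ext (ComplexShape.up ℤ)
  intro q p h
  have h' : (q : ℤ) + p = n := h
  apply (hK q p ?_).eq_of_src
  omega

/-! ### Projections -/

/-- the projection of the total complex onto a summand -/
noncomputable def proj (n : ℤ) (q : ℕ) :
    (K.total (ComplexShape.up ℤ)).X n ⟶ (K.X q).X (n - q) :=
  K.totalDesc (fun q' p' h' =>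
    if hq : q' = q then
      (HomologicalComplex₂.XXIsoOfEq C _ _ K hq (by
        have h'' : (q' : ℤ) + p' = n := h'
        rw [← hq]
        omega : p' = n - q)).hom
    else 0)

theorem π_sub (n : ℤ) (q : ℕ) :
    ComplexShape.π (ComplexShape.up ℕ) (ComplexShape.up ℤ) (ComplexShape.up ℤ) (q, n - q) = n := by
  show (q : ℤ) + (n - q) = n
  ring

theorem ι_proj_of_ne (n : ℤ) (q q' : ℕ) (p' : ℤ)
    (h' : ComplexShape.π (ComplexShape.up ℕ) (ComplexShape.up ℤ) (ComplexShape.up ℤ) (q', p') = n)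
    (hq : q' ≠ q) :
    K.ιTotal (ComplexShape.up ℤ) q' p' n h' ≫ proj K n q = 0 := by
  unfold proj
  rw [HomologicalComplex₂.ι_totalDesc, dif_neg hq]

theorem ι_proj_self (n : ℤ) (q : ℕ) (p : ℤ)
    (h : ComplexShape.π (ComplexShape.up ℕ) (ComplexShape.up ℤ) (ComplexShape.up ℤ) (q, p) = n) :
    K.ιTotal (ComplexShape.up ℤ) q p n h ≫ proj K n q ≫
      K.ιTotal (ComplexShape.up ℤ) q (n - q) n (π_sub n q) =
    K.ιTotal (ComplexShape.up ℤ) q p n h := by
  unfold proj
  rw [HomologicalComplex₂.ι_totalDesc_assoc, dif_pos rfl]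
  exact HomologicalComplex₂.XXIsoOfEq_hom_ιTotal K (ComplexShape.up ℤ) rfl _ n (π_sub n q)

theorem id_eq_sum (n : ℤ) (N : ℕ) (hN : ∀ q : ℕ, N ≤ q → IsZero ((K.X q).X (n - q))) :
    𝟙 ((K.total (ComplexShape.up ℤ)).X n) =
      ∑ q ∈ Finset.range N, proj K n q ≫
        K.ιTotal (ComplexShape.up ℤ) q (n - q) n (π_sub n q) := by
  apply HomologicalComplex₂.total.hom_ext (ComplexShape.up ℤ)
  intro q' p' h'
  have h'' : (q' : ℤ) + p' = n := h'
  rw [Category.comp_id, Preadditive.comp_sum]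
  by_cases hq' : q' < N
  · rw [Finset.sum_eq_single q']
    · exact (ι_proj_self K n q' p' h').symm
    · intro q _ hne
      rw [← Category.assoc, ι_proj_of_ne K n q q' p' h' (Ne.symm hne), zero_comp]
    · intro hnot
      exact absurd (Finset.mem_range.2 hq') hnot
  · have hp : p' = n - q' := by omega
    have hz : IsZero ((K.X q').X p') := by
      rw [hp]
      exact hN q' (by omega)
    exact hz.eq_of_src _ _

theorem exists_bound (a : ℤ) (hK : Bdd K a) (n : ℤ) :
    ∃ N : ℕ, ∀ q : ℕ, N ≤ q → IsZero ((K.X q).X (n - q)) :=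
  ⟨(n - a).toNat + 1, fun q hq => hK q _ (by omega)⟩


/-! ### The differential on summands -/

theorem ι_total_d (q : ℕ) (p n : ℤ) (h : (q : ℤ) + p = n) :
    K.ιTotal (ComplexShape.up ℤ) q p n h ≫ (K.total (ComplexShape.up ℤ)).d n (n + 1) =
      (K.d q (q + 1)).f p ≫ K.ιTotal (ComplexShape.up ℤ) (q + 1) p (n + 1) (by
        show ((q + 1 : ℕ) : ℤ) + p = n + 1
        push_cast
        omega) +
      ((q : ℤ).negOnePow : ℤˣ) • ((K.X q).d p (p + 1) ≫
        K.ιTotal (ComplexShape.up ℤ) q (p + 1) (n + 1) (by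
          show (q : ℤ) + (p + 1) = n + 1
          omega)) := by
  rw [HomologicalComplex₂.total_d, Preadditive.comp_add, HomologicalComplex₂.ι_D₁,
    HomologicalComplex₂.ι_D₂,
    HomologicalComplex₂.d₁_eq K (ComplexShape.up ℤ)
      (show (ComplexShape.up ℕ).Rel q (q + 1) from rfl) p (n + 1) (by
        show ((q + 1 : ℕ) : ℤ) + p = n + 1
        push_cast
        omega),
    HomologicalComplex₂.d₂_eq K (ComplexShape.up ℤ) q
      (show (ComplexShape.up ℤ).Rel p (p + 1) from rfl) (n + 1) (by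
        show (q : ℤ) + (p + 1) = n + 1
        omega),
    ε₁_def, ε₂_def, one_smul]

/-! ### Epimorphisms on the total complex -/

theorem epi_app_total {D : Type*} [Category D] [Preadditive D] (Γ₁ Γ₂ : C ⥤ D) [Γ₁.Additive]
    [Γ₂.Additive] (ρ : Γ₁ ⟶ Γ₂) (a : ℤ) (hK : Bdd K a)
    (hρ : ∀ (q : ℕ) (p : ℤ), Epi (ρ.app ((K.X q).X p))) (n : ℤ) :
    Epi (ρ.app ((K.total (ComplexShape.up ℤ)).X n)) := by
  obtain ⟨N, hN⟩ := exists_bound K a hK n
  constructor
  intro Z u v huv
  have key : ∀ (q : ℕ) (p : ℤ)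
      (h : ComplexShape.π (ComplexShape.up ℕ) (ComplexShape.up ℤ) (ComplexShape.up ℤ) (q, p) = n),
      Γ₂.map (K.ιTotal (ComplexShape.up ℤ) q p n h) ≫ u =
        Γ₂.map (K.ιTotal (ComplexShape.up ℤ) q p n h) ≫ v := by
    intro q p h
    haveI := hρ q p
    rw [← cancel_epi (ρ.app ((K.X q).X p)), ← Category.assoc, ← Category.assoc,
      ← ρ.naturality, Category.assoc, Category.assoc, huv]
  have hid := id_eq_sum K n N hN
  have hu : ∀ w : Γ₂.obj ((K.total (ComplexShape.up ℤ)).X n) ⟶ Z,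
      w = ∑ q ∈ Finset.range N, Γ₂.map (proj K n q) ≫
        Γ₂.map (K.ιTotal (ComplexShape.up ℤ) q (n - q) n (π_sub n q)) ≫ w := by
    intro w
    have h1 : w = Γ₂.map (𝟙 _) ≫ w := by rw [Γ₂.map_id, Category.id_comp]
    rw [hid, Functor.map_sum, Preadditive.sum_comp] at h1
    refine h1.trans (Finset.sum_congr rfl (fun q _ => ?_))
    rw [Functor.map_comp, Category.assoc]
  rw [hu u, hu v]
  exact Finset.sum_congr rfl (fun q _ => by rw [key])

end Groth.Agent.Lib.NatIntTotH7
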