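import Mathlib
import Groth.Prelude
import Groth.Agent.Lib.PjCx21_helper3
import Groth.Agent.Lib.DualSch2_helper3

/-!
# The projection formula, naturally in the `X`-variable (helper3)

* `nonempty_natIso_of_zigzag`: an abstract descent lemma: a zig-zag `L ⋙ Φ ⟵ Φ₀ ⟶ L ⋙ Ψ` of natural
  transformations on `C` which are isomorphisms on a class `S` of objects of `C` such that `L` is
  surjective on morphisms between objects of `S` and every object of `P ⊆ D` is represented by an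
  object of `S` induces `Φ|_P ≅ Ψ|_P`.
* `nonempty_projFormula_natIso_kflat`, `nonempty_projFormula_natIso`: for `f` qcqs and
  `K ∈ D_QCoh(Y)`: `Rf_*(-) ⊗^L K ≅ Rf_*(- ⊗^L Lf^*K)` as functors `D_QCoh(X) ⥤ D(Y)`.
-/

set_option autoImplicit false
set_option linter.all false
set_option maxHeartbeats 1600000
set_option backward.isDefEq.respectTransparency false
set_option backward.isDefEq.respectTransparency.types false
set_option backward.defeqAttrib.useBackward true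

universe u
open CategoryTheory CategoryTheory.Limits AlgebraicGeometry Opposite TopologicalSpace

attribute [local instance] HasDerivedCategory.standard

namespace Groth.Agent.Lib.NatProjH3

section Abstract

variable {C D E : Type*} [Category C] [Category D] [Category E]

theorem nonempty_natIso_of_zigzag (L : C ⥤ D) (S : C → Prop) (P : ObjectProperty D)
    (hrep : ∀ T : D, P T → ∃ s : C, S s ∧ Nonempty (L.obj s ≅ T))
    (hsurj : ∀ s s' : C, S s → S s' → ∀ g : L.obj s ⟶ L.obj s', ∃ γ : s ⟶ s', L.map γ = g)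
    (Φ Ψ : D ⥤ E) (Φ₀ : C ⥤ E) (u : Φ₀ ⟶ L ⋙ Φ) (lam : Φ₀ ⟶ L ⋙ Ψ)
    (hu : ∀ s, S s → IsIso (u.app s)) (hlam : ∀ s, S s → IsIso (lam.app s)) :
    Nonempty (P.ι ⋙ Φ ≅ P.ι ⋙ Ψ) := by
  choose s hS e using fun T : P.FullSubcategory => hrep T.obj T.property
  let e' : ∀ T : P.FullSubcategory, L.obj (s T) ≅ T.obj := fun T => (e T).some
  haveI : ∀ T, IsIso (u.app (s T)) := fun T => hu _ (hS T)
  haveI : ∀ T, IsIso (lam.app (s T)) := fun T => hlam _ (hS T)
  refine ⟨NatIso.ofComponents (fun T => (Φ.mapIso (e' T)).symm ≪≫ (asIso (u.app (s T))).symm ≪≫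
    asIso (lam.app (s T)) ≪≫ Ψ.mapIso (e' T)) ?_⟩
  intro T T' g
  obtain ⟨γ, hγ⟩ := hsurj (s T) (s T') (hS T) (hS T') ((e' T).hom ≫ P.ι.map g ≫ (e' T').inv)
  have h1 : Φ.map (P.ι.map g) ≫ Φ.map (e' T').inv = Φ.map (e' T).inv ≫ Φ.map (L.map γ) := by
    rw [← Φ.map_comp, ← Φ.map_comp, hγ, Iso.inv_hom_id_assoc]
  have h2 : Φ.map (L.map γ) ≫ inv (u.app (s T')) = inv (u.app (s T)) ≫ Φ₀.map γ := by
    rw [IsIso.comp_inv_eq, Category.assoc, IsIso.eq_inv_comp]
    exact (u.naturality γ).symm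
  have h3 : Φ₀.map γ ≫ lam.app (s T') = lam.app (s T) ≫ Ψ.map (L.map γ) := lam.naturality γ
  have h4 : Ψ.map (L.map γ) ≫ Ψ.map (e' T').hom = Ψ.map (e' T).hom ≫ Ψ.map (P.ι.map g) := by
    rw [← Ψ.map_comp, ← Ψ.map_comp, hγ, Category.assoc, Category.assoc, Iso.inv_hom_id,
      Category.comp_id]
  show Φ.map (P.ι.map g) ≫ Φ.map (e' T').inv ≫ inv (u.app (s T')) ≫ lam.app (s T') ≫
      Ψ.map (e' T').hom =
    (Φ.map (e' T).inv ≫ inv (u.app (s T)) ≫ lam.app (s T) ≫ Ψ.map (e' T).hom) ≫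
      Ψ.map (P.ι.map g)
  rw [reassoc_of% h1, reassoc_of% h2, reassoc_of% h3, h4]
  simp only [Category.assoc]

end Abstract

open Groth.Agent.Lib.ProjFormulaH3 Groth.Agent.Lib.LpullLocH3 Groth.Agent.Lib.PjCxH3
open Groth.Agent.Lib.StalkTensH3 Groth.Agent.Lib.PjShriekH3 Groth.Agent.Lib.DualSchH3
open DerivedCategory

noncomputable section

lemma exists_Q_map_eq {A : Type*} [Category A] [Abelian A] [HasDerivedCategory A]
    {E F : CochainComplex A ℤ} [F.IsKInjective]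
    (φ : Q.obj E ⟶ Q.obj F) : ∃ f : E ⟶ F, Q.map f = φ := by
  obtain ⟨g, hg⟩ := (CochainComplex.IsKInjective.Qh_map_bijective
    ((HomotopyCategory.quotient _ _).obj E) F).surjective
    ((quotientCompQhIso A).hom.app E ≫ φ ≫ (quotientCompQhIso A).inv.app F)
  obtain ⟨f, rfl⟩ := (HomotopyCategory.quotient _ _).map_surjective g
  refine ⟨f, ?_⟩
  have h1 := (quotientCompQhIso A).hom.naturality f
  simp only [Functor.comp_map] at h1
  rw [hg] at h1
  simp only [Category.assoc, Iso.inv_hom_id_app, Category.comp_id] at h1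
  exact ((cancel_epi _).1 h1).symm

variable {X Y : Scheme.{u}} (f : X ⟶ Y) [DCoh.HasRpush f]

/-- naturality of the derived projection morphism in the first variable -/
lemma Lam_natural_left {I I' : CochainComplex X.Modules ℤ} (φ : I ⟶ I')
    (P : CochainComplex Y.Modules ℤ) :
    Q.map ((DCoh.tensorCx.map ((pushCx f).map φ)).app P) ≫ Lam f I' P =
      Lam f I P ≫ (DCoh.Rpush f).map (Q.map ((DCoh.tensorCx.map φ).app ((pullCx f).obj P))) := by
  unfold Lam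
  rw [← Category.assoc, ← Functor.map_comp, pjCx_natural_left, Functor.map_comp, Category.assoc,
    unitAt_naturality, Category.assoc]

section KFlat

variable (P : CochainComplex Y.Modules ℤ) [DCoh.HasLTensorCx P]
  [DCoh.HasLTensorCx ((pullCx f).obj P)]
  (e1 : Q ⋙ DCoh.LTensorCx P ≅ (DCoh.tensorCx (X := Y)).flip.obj P ⋙ Q)
  (e2 : Q ⋙ DCoh.LTensorCx ((pullCx f).obj P) ≅
    (DCoh.tensorCx (X := X)).flip.obj ((pullCx f).obj P) ⋙ Q)

/-- the source of the zig-zag: `I ↦ Q (f_* I ⊗ P)` -/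
abbrev Phi0 : CochainComplex X.Modules ℤ ⥤ DCoh.D Y :=
  pushCx f ⋙ (DCoh.tensorCx (X := Y)).flip.obj P ⋙ Q

/-- `Q (f_* I ⊗ P) ⟶ Rf_* (Q I) ⊗^L P` -/
def uNat : Phi0 f P ⟶ Q ⋙ (DCoh.Rpush f ⋙ DCoh.LTensorCx P) where
  app I := e1.inv.app ((pushCx f).obj I) ≫ (DCoh.LTensorCx P).map (unitAt f I)
  naturality I I' φ := by
    have h1 := e1.inv.naturality ((pushCx f).map φ)
    have h2 := unitAt_naturality f φ
    show ((DCoh.tensorCx (X := Y)).flip.obj P ⋙ Q).map ((pushCx f).map φ) ≫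
        e1.inv.app ((pushCx f).obj I') ≫ (DCoh.LTensorCx P).map (unitAt f I') =
      (e1.inv.app ((pushCx f).obj I) ≫ (DCoh.LTensorCx P).map (unitAt f I)) ≫
        (DCoh.LTensorCx P).map ((DCoh.Rpush f).map (Q.map φ))
    rw [← Category.assoc, h1, Category.assoc, Category.assoc, ← Functor.map_comp, ← h2,
      Functor.map_comp]
    rfl

/-- `Q (f_* I ⊗ P) ⟶ Rf_* (Q I ⊗^L f^* P)` -/
def lamNat : Phi0 f P ⟶ Q ⋙ (DCoh.LTensorCx ((pullCx f).obj P) ⋙ DCoh.Rpush f) where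
  app I := Lam f I P ≫ (DCoh.Rpush f).map (e2.inv.app I)
  naturality I I' φ := by
    have h1 := e2.inv.naturality φ
    have h2 := Lam_natural_left f φ P
    show Q.map ((DCoh.tensorCx.map ((pushCx f).map φ)).app P) ≫
        Lam f I' P ≫ (DCoh.Rpush f).map (e2.inv.app I') =
      (Lam f I P ≫ (DCoh.Rpush f).map (e2.inv.app I)) ≫
        (DCoh.Rpush f).map ((DCoh.LTensorCx ((pullCx f).obj P)).map (Q.map φ))
    rw [reassoc_of% h2, Category.assoc, ← Functor.map_comp, ← Functor.map_comp]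
    exact congrArg (fun t => Lam f I P ≫ (DCoh.Rpush f).map t) h1

end KFlat

/-- **the projection formula, naturally in the `X`-variable** (K-flat form) -/
theorem nonempty_projFormula_natIso_kflat [QuasiCompact f] [QuasiSeparated f]
    (P : CochainComplex Y.Modules ℤ) (hP : DCoh.IsKFlat P) (hPq : DCoh.IsQCohD (Q.obj P))
    [DCoh.HasLTensorCx P] [DCoh.HasLTensorCx ((pullCx f).obj P)] :
    Nonempty ((DCoh.IsQCohD (X := X)).ι ⋙ (DCoh.Rpush f ⋙ DCoh.LTensorCx P) ≅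
      (DCoh.IsQCohD (X := X)).ι ⋙ (DCoh.LTensorCx ((pullCx f).obj P) ⋙ DCoh.Rpush f)) := by
  have hfP := isKFlat_pullback f P hP
  obtain ⟨e1⟩ := nonempty_ltNatIso P P (𝟙 P) hP
  obtain ⟨e2⟩ := nonempty_ltNatIso ((pullCx f).obj P) ((pullCx f).obj P) (𝟙 _) hfP
  refine nonempty_natIso_of_zigzag (Q : CochainComplex X.Modules ℤ ⥤ DCoh.D X)
    (fun I => I.IsKInjective ∧ DCoh.IsQCohD (Q.obj I)) (DCoh.IsQCohD (X := X)) ?_ ?_
    (DCoh.Rpush f ⋙ DCoh.LTensorCx P) (DCoh.LTensorCx ((pullCx f).obj P) ⋙ DCoh.Rpush f)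
    (Phi0 f P) (uNat f P e1) (lamNat f P e2) ?_ ?_
  · intro T hT
    obtain ⟨I, s, hI, hs⟩ := exists_kinj_resolution (Q.objPreimage T)
    haveI := hs
    haveI : IsIso (Q.map s) := by rw [DerivedCategory.isIso_Q_map_iff_quasiIso]; infer_instance
    let eT : Q.obj I ≅ T := (asIso (Q.map s)).symm ≪≫ Q.objObjPreimageIso T
    exact ⟨I, ⟨hI, Groth.Agent.Lib.DSectX.isQCohD_of_iso eT.symm hT⟩, ⟨eT⟩⟩
  · intro I I' _ hI' g
    haveI := hI'.1
    exact exists_Q_map_eq g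
  · intro I hI
    haveI := hI.1
    show IsIso (e1.inv.app ((pushCx f).obj I) ≫ (DCoh.LTensorCx P).map (unitAt f I))
    infer_instance
  · intro I hI
    haveI := hI.1
    haveI : IsIso (Lam f I P) := PF_qcoh_unbdd f I hI.2 P hP hPq
    show IsIso (Lam f I P ≫ (DCoh.Rpush f).map (e2.inv.app I))
    infer_instance

/-- **the projection formula, naturally in the `X`-variable**:
`Rf_*(-) ⊗^L K ≅ Rf_*(- ⊗^L Lf^*K)` as functors `D_QCoh(X) ⥤ D(Y)` -/
theorem nonempty_projFormula_natIso [QuasiCompact f] [QuasiSeparated f] [DCoh.HasLpull f]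
    (K : CochainComplex Y.Modules ℤ) (hK : DCoh.IsQCohD (DCoh.toD Y K)) [DCoh.HasLTensorCx K]
    (M : CochainComplex X.Modules ℤ)
    (hM : Nonempty (DCoh.toD X M ≅ (DCoh.Lpull f).obj (DCoh.toD Y K))) [DCoh.HasLTensorCx M] :
    Nonempty ((DCoh.IsQCohD (X := X)).ι ⋙ (DCoh.Rpush f ⋙ DCoh.LTensorCx K) ≅
      (DCoh.IsQCohD (X := X)).ι ⋙ (DCoh.LTensorCx M ⋙ DCoh.Rpush f)) := by
  obtain ⟨eM⟩ := hM
  obtain ⟨P, qP, hP, hq⟩ := Groth.Agent.Lib.DTorCmp.exists_kflat_resolution' K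
  haveI := hq
  haveI : IsIso (Q.map qP) := by rw [DerivedCategory.isIso_Q_map_iff_quasiIso]; infer_instance
  let eP : Q.obj P ≅ Q.obj K := asIso (Q.map qP)
  have hPq : DCoh.IsQCohD (Q.obj P) := Groth.Agent.Lib.DSectX.isQCohD_of_iso eP.symm hK
  have hfP := isKFlat_pullback f P hP
  haveI : DCoh.HasLTensorCx P := hasLTensorCx_of_isKFlat P hP
  haveI : DCoh.HasLTensorCx ((pullCx f).obj P) := hasLTensorCx_of_isKFlat _ hfP
  obtain ⟨a⟩ := nonempty_LTensorCx_iso_of_Q_iso K P eP.symm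
  let eMP : Q.obj M ≅ Q.obj ((pullCx f).obj P) :=
    eM ≪≫ (DCoh.Lpull f).mapIso eP.symm ≪≫ LpullQIso f P hP
  obtain ⟨b⟩ := nonempty_LTensorCx_iso_of_Q_iso M ((pullCx f).obj P) eMP
  obtain ⟨c⟩ := nonempty_projFormula_natIso_kflat f P hP hPq
  exact ⟨Functor.isoWhiskerLeft _ (Functor.isoWhiskerLeft (DCoh.Rpush f) a) ≪≫ c ≪≫
    Functor.isoWhiskerLeft _ (Functor.isoWhiskerRight b.symm (DCoh.Rpush f))⟩

end

end Groth.Agent.Lib.NatProjH3
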