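import Groth.Agent.Lib.GradedGen_helper3

/-! The graded ring `S♮ = ⊕ S_{≥ n}` (EGA II 8.7): presented as a graded ring `B` with an injective homomorphism
`φ : B → A[X]` carrying `ℬ n` onto `A_{≥ n} X^n`. -/

open DirectSum Polynomial

namespace Groth.Agent.Lib.Natural_helper3

section
variable {R A : Type*} [CommRing R] [CommRing A] [Algebra R A] (𝒜 : ℕ → Submodule R A) [GradedAlgebra 𝒜]

/-- `A_{≥ n} = ⊕_{m ≥ n} A_m`. -/
def geN (n : ℕ) : Submodule R A := ⨆ (m : ℕ) (_ : n ≤ m), 𝒜 m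

omit [GradedAlgebra 𝒜] in
theorem le_geN {n m : ℕ} (h : n ≤ m) : 𝒜 m ≤ geN 𝒜 n := le_iSup₂_of_le m h le_rfl

/-- Elements all of whose components of degree `< n` vanish. -/
def lowVanish (n : ℕ) : Submodule R A where
  carrier := {a | ∀ i < n, (decompose 𝒜 a i : A) = 0}
  zero_mem' := fun i _ => by simp
  add_mem' := fun {a b} ha hb i hi => by
    rw [decompose_add, DirectSum.add_apply, Submodule.coe_add, ha i hi, hb i hi, add_zero]
  smul_mem' := fun r a ha i hi => by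
    rw [decompose_smul, DirectSum.smul_apply, Submodule.coe_smul, ha i hi, smul_zero]

theorem geN_eq_lowVanish (n : ℕ) : geN 𝒜 n = lowVanish 𝒜 n := by
  classical
  apply le_antisymm
  · refine iSup₂_le fun m hm a ha i hi => ?_
    rw [decompose_of_mem_ne 𝒜 ha (by omega)]
  · intro a ha
    rw [← sum_support_decompose 𝒜 a]
    refine sum_mem fun i hi => ?_
    by_cases hin : n ≤ i
    · exact le_geN 𝒜 hin (SetLike.coe_mem _)
    · have := ha i (by omega)
      rw [this]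
      exact zero_mem _

theorem mem_geN_iff {n : ℕ} {a : A} : a ∈ geN 𝒜 n ↔ ∀ i < n, (decompose 𝒜 a i : A) = 0 := by
  rw [geN_eq_lowVanish]; rfl

theorem geN_zero : geN 𝒜 0 = ⊤ := by
  rw [eq_top_iff]
  intro a _
  rw [mem_geN_iff]
  intro i hi
  omega

theorem geN_anti {n m : ℕ} (h : n ≤ m) : geN 𝒜 m ≤ geN 𝒜 n := by
  intro a ha
  rw [mem_geN_iff] at ha ⊢
  exact fun i hi => ha i (by omega)

theorem geN_one_eq_irrelevant : (geN 𝒜 1 : Set A) = (HomogeneousIdeal.irrelevant 𝒜).toIdeal := by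
  ext a
  rw [SetLike.mem_coe, mem_geN_iff, SetLike.mem_coe]
  change _ ↔ a ∈ HomogeneousIdeal.irrelevant 𝒜
  rw [HomogeneousIdeal.mem_irrelevant_iff, GradedRing.proj_apply]
  constructor
  · intro h; exact h 0 one_pos
  · intro h i hi
    obtain rfl : i = 0 := by omega
    exact h

theorem mul_mem_geN {n m : ℕ} {a b : A} (ha : a ∈ geN 𝒜 n) (hb : b ∈ geN 𝒜 m) : a * b ∈ geN 𝒜 (n + m) := by
  classical
  have key : ∀ (k : ℕ) (y : A), y ∈ 𝒜 k → m ≤ k → a * y ∈ geN 𝒜 (n + m) := by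
    intro k y hy hk
    have : ∀ (j : ℕ) (x : A), x ∈ 𝒜 j → n ≤ j → x * y ∈ geN 𝒜 (n + m) := by
      intro j x hx hj
      exact le_geN 𝒜 (by omega : n + m ≤ j + k) (SetLike.mul_mem_graded hx hy)
    have ha' : a ∈ geN 𝒜 n := ha
    unfold geN at ha'
    refine Submodule.iSup_induction _ (motive := fun x => x * y ∈ geN 𝒜 (n + m)) ha' ?_ ?_ ?_
    · intro j x hx
      refine Submodule.iSup_induction _ (motive := fun x => x * y ∈ geN 𝒜 (n + m)) hx ?_ ?_ ?_
      · intro hj x hx; exact this j x hx hj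
      · simp
      · intro x₁ x₂ h₁ h₂; rw [add_mul]; exact add_mem h₁ h₂
    · simp
    · intro x₁ x₂ h₁ h₂; rw [add_mul]; exact add_mem h₁ h₂
  have hb' : b ∈ geN 𝒜 m := hb
  unfold geN at hb'
  refine Submodule.iSup_induction _ (motive := fun y => a * y ∈ geN 𝒜 (n + m)) hb' ?_ ?_ ?_
  · intro k y hy
    refine Submodule.iSup_induction _ (motive := fun y => a * y ∈ geN 𝒜 (n + m)) hy ?_ ?_ ?_
    · intro hk y hy; exact key k y hy hk
    · simp
    · intro y₁ y₂ h₁ h₂; rw [mul_add]; exact add_mem h₁ h₂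
  · simp
  · intro y₁ y₂ h₁ h₂; rw [mul_add]; exact add_mem h₁ h₂

theorem geN_mul_le (n m : ℕ) : geN 𝒜 n * geN 𝒜 m ≤ geN 𝒜 (n + m) :=
  Submodule.mul_le.mpr fun _ ha _ hb => mul_mem_geN 𝒜 ha hb

/-- Removing the lowest component. -/
theorem sub_decompose_mem_geN {n : ℕ} {a : A} (ha : a ∈ geN 𝒜 n) : a - (decompose 𝒜 a n : A) ∈ geN 𝒜 (n + 1) := by
  classical
  rw [mem_geN_iff] at ha ⊢
  intro i hi
  rw [decompose_sub, DirectSum.sub_apply, Submodule.coe_sub]
  rcases Nat.lt_succ_iff_lt_or_eq.mp hi with h | rfl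
  · rw [ha i h, decompose_of_mem_ne 𝒜 (SetLike.coe_mem _) (by omega : n ≠ i), sub_zero]
  · rw [decompose_coe, of_eq_same, sub_self]

/-- The component of degree `n + m` of a product of elements of `A_{≥ n}` and `A_{≥ m}`. -/
theorem decompose_mul_of_mem_geN {n m : ℕ} {a b : A} (ha : a ∈ geN 𝒜 n) (hb : b ∈ geN 𝒜 m) :
    (decompose 𝒜 (a * b) (n + m) : A) = (decompose 𝒜 a n : A) * (decompose 𝒜 b m : A) := by
  classical
  have h1 := sub_decompose_mem_geN 𝒜 ha
  have h2 := sub_decompose_mem_geN 𝒜 hb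
  have hab : a * b = (decompose 𝒜 a n : A) * (decompose 𝒜 b m : A) +
      ((a - (decompose 𝒜 a n : A)) * b + (decompose 𝒜 a n : A) * (b - (decompose 𝒜 b m : A))) := by ring
  have h3 : (a - (decompose 𝒜 a n : A)) * b + (decompose 𝒜 a n : A) * (b - (decompose 𝒜 b m : A)) ∈
      geN 𝒜 (n + m + 1) := by
    refine add_mem ?_ ?_
    · have := mul_mem_geN 𝒜 h1 hb
      rwa [show n + 1 + m = n + m + 1 by omega] at this
    · have := mul_mem_geN 𝒜 (le_geN 𝒜 le_rfl (SetLike.coe_mem (decompose 𝒜 a n))) h2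
      rwa [show n + (m + 1) = n + m + 1 by omega] at this
  rw [hab, decompose_add, DirectSum.add_apply, Submodule.coe_add, (mem_geN_iff 𝒜).mp h3 (n + m) (by omega), add_zero]
  exact decompose_of_mem_same 𝒜 (SetLike.mul_mem_graded (SetLike.coe_mem _) (SetLike.coe_mem _))

end

end Groth.Agent.Lib.Natural_helper3

namespace Groth.Agent.Lib.Natural_helper3

section
variable {R A : Type*} [CommRing R] [CommRing A] [Algebra R A] (𝒜 : ℕ → Submodule R A) [GradedAlgebra 𝒜]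

theorem one_pow_le (k : ℕ) : (𝒜 1) ^ k ≤ 𝒜 k := by
  induction k with
  | zero =>
    rw [pow_zero, Submodule.one_le]
    exact SetLike.GradedOne.one_mem
  | succ k ih =>
    rw [pow_succ]
    refine (mul_le_mul' ih le_rfl).trans ?_
    exact Submodule.mul_le.mpr fun a ha b hb => SetLike.mul_mem_graded ha hb

theorem geN_one_pow_le (k : ℕ) : (geN 𝒜 1) ^ k ≤ geN 𝒜 k := by
  induction k with
  | zero => rw [geN_zero]; exact le_top
  | succ k ih =>
    rw [pow_succ]
    exact (mul_le_mul' ih le_rfl).trans (geN_mul_le 𝒜 k 1)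

/-- `S_{≥ n+1} = S_{≥ 1} S_{≥ n}` for `n ≥ n₀` iff `S_{n+1} = S_1 S_n` for `n ≥ n₀`. -/
theorem geN_succ_eq_iff (n₀ : ℕ) :
    (∀ n : ℕ, n₀ ≤ n → geN 𝒜 (n + 1) = geN 𝒜 1 * geN 𝒜 n) ↔ (∀ n : ℕ, n₀ ≤ n → 𝒜 (n + 1) = 𝒜 1 * 𝒜 n) := by
  classical
  constructor
  · intro h n hn
    apply le_antisymm
    · intro x hx
      have hx' : x ∈ geN 𝒜 1 * geN 𝒜 n := by
        rw [← h n hn]; exact le_geN 𝒜 le_rfl hx
      have key : ∀ y ∈ geN 𝒜 1 * geN 𝒜 n, (decompose 𝒜 y (1 + n) : A) ∈ 𝒜 1 * 𝒜 n := by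
        intro y hy
        refine Submodule.mul_induction_on hy ?_ ?_
        · intro u hu v hv
          rw [decompose_mul_of_mem_geN 𝒜 hu hv]
          exact Submodule.mul_mem_mul (SetLike.coe_mem _) (SetLike.coe_mem _)
        · intro y z hy hz
          rw [decompose_add, DirectSum.add_apply, Submodule.coe_add]
          exact add_mem hy hz
      have := key x hx'
      rwa [add_comm 1 n, decompose_of_mem_same 𝒜 hx] at this
    · refine Submodule.mul_le.mpr fun a ha b hb => ?_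
      have := SetLike.mul_mem_graded ha hb
      rwa [add_comm 1 n] at this
  · intro h n hn
    apply le_antisymm
    · refine iSup₂_le fun m hm => ?_
      obtain ⟨k, rfl⟩ : ∃ k, m = k + 1 := ⟨m - 1, by omega⟩
      rw [h k (by omega)]
      exact mul_le_mul' (le_geN 𝒜 le_rfl) (le_geN 𝒜 (by omega))
    · have := geN_mul_le 𝒜 1 n
      rwa [add_comm 1 n] at this

/-- `S_{≥ n} = (S_{≥ 1})^n` for `n ≥ n₀` iff `S_n = S_1^n` for `n ≥ n₀` (`n₀ ≥ 1`). -/
theorem geN_eq_pow_iff (n₀ : ℕ) (hn₀ : 1 ≤ n₀) :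
    (∀ n : ℕ, n₀ ≤ n → geN 𝒜 n = geN 𝒜 1 ^ n) ↔ (∀ n : ℕ, n₀ ≤ n → 𝒜 n = 𝒜 1 ^ n) := by
  classical
  constructor
  · intro h n hn
    apply le_antisymm _ (one_pow_le 𝒜 n)
    have key : ∀ k : ℕ, ∀ y ∈ geN 𝒜 1 ^ k, (decompose 𝒜 y k : A) ∈ 𝒜 1 ^ k := by
      intro k
      induction k with
      | zero =>
        intro y hy
        rw [pow_zero, Submodule.one_eq_span] at hy
        obtain ⟨r, rfl⟩ := Submodule.mem_span_singleton.mp hy
        rw [pow_zero, Submodule.one_eq_span]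
        have h1 : (1 : A) ∈ 𝒜 0 := SetLike.GradedOne.one_mem
        rw [decompose_smul, DirectSum.smul_apply, Submodule.coe_smul, decompose_of_mem_same 𝒜 h1]
        exact Submodule.mem_span_singleton.mpr ⟨r, rfl⟩
      | succ k ih =>
        intro y hy
        rw [pow_succ] at hy ⊢
        refine Submodule.mul_induction_on hy ?_ ?_
        · intro u hu v hv
          rw [decompose_mul_of_mem_geN 𝒜 (geN_one_pow_le 𝒜 k hu) hv]
          exact Submodule.mul_mem_mul (ih u hu) (SetLike.coe_mem _)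
        · intro y z hy hz
          rw [decompose_add, DirectSum.add_apply, Submodule.coe_add]
          exact add_mem hy hz
    intro x hx
    have hx' : x ∈ geN 𝒜 1 ^ n := by
      rw [← h n hn]; exact le_geN 𝒜 le_rfl hx
    have := key n x hx'
    rwa [decompose_of_mem_same 𝒜 hx] at this
  · intro h n hn
    apply le_antisymm _ (geN_one_pow_le 𝒜 n)
    refine iSup₂_le fun m hm => ?_
    obtain ⟨k, rfl⟩ : ∃ k, n = k + 1 := ⟨n - 1, by omega⟩
    obtain ⟨j, rfl⟩ : ∃ j, m = k + (j + 1) := ⟨m - k - 1, by omega⟩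
    rw [h (k + (j + 1)) (by omega), pow_add, pow_succ (geN 𝒜 1) k]
    refine mul_le_mul' (pow_le_pow_left' (le_geN 𝒜 le_rfl) k) ?_
    exact (one_pow_le 𝒜 (j + 1)).trans (le_geN 𝒜 (by omega))

end

end Groth.Agent.Lib.Natural_helper3

namespace Groth.Agent.Lib.Natural_helper3

section
variable {R A : Type*} [CommRing R] [CommRing A] [Algebra R A]

/-- `S X^i · T X^j = (S T) X^{i+j}` for submodules `S`, `T` of `A`. -/
theorem map_monomial_mul (S T : Submodule R A) (i j : ℕ) :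
    Submodule.map ((monomial i : A →ₗ[A] A[X]).restrictScalars R) S *
      Submodule.map ((monomial j : A →ₗ[A] A[X]).restrictScalars R) T =
    Submodule.map ((monomial (i + j) : A →ₗ[A] A[X]).restrictScalars R) (S * T) := by
  apply le_antisymm
  · refine Submodule.mul_le.mpr ?_
    rintro _ ⟨s, hs, rfl⟩ _ ⟨t, ht, rfl⟩
    refine ⟨s * t, Submodule.mul_mem_mul hs ht, ?_⟩
    simp only [LinearMap.coe_restrictScalars, monomial_mul_monomial]
  · rw [Submodule.map_le_iff_le_comap]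
    refine Submodule.mul_le.mpr fun s hs t ht => ?_
    rw [Submodule.mem_comap]
    have : ((monomial (i + j) : A →ₗ[A] A[X]).restrictScalars R) (s * t) =
        ((monomial i : A →ₗ[A] A[X]).restrictScalars R) s * ((monomial j : A →ₗ[A] A[X]).restrictScalars R) t := by
      simp only [LinearMap.coe_restrictScalars, monomial_mul_monomial]
    rw [this]
    exact Submodule.mul_mem_mul ⟨s, hs, rfl⟩ ⟨t, ht, rfl⟩

theorem map_monomial_pow (S : Submodule R A) (k : ℕ) :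
    Submodule.map ((monomial 1 : A →ₗ[A] A[X]).restrictScalars R) S ^ k =
    Submodule.map ((monomial k : A →ₗ[A] A[X]).restrictScalars R) (S ^ k) := by
  induction k with
  | zero =>
    rw [pow_zero, pow_zero, Submodule.one_eq_span, Submodule.one_eq_span, Submodule.map_span, Set.image_singleton]
    simp
  | succ k ih =>
    rw [pow_succ, pow_succ, ih, map_monomial_mul]

theorem map_monomial_injective (k : ℕ) :
    Function.Injective (Submodule.map ((monomial k : A →ₗ[A] A[X]).restrictScalars R)) :=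
  Submodule.map_injective_of_injective (f := (monomial k : A →ₗ[A] A[X]).restrictScalars R)
    (monomial_injective k)
end

section
variable {R A B : Type*} [CommRing R] [CommRing A] [Algebra R A] (𝒜 : ℕ → Submodule R A) [GradedAlgebra 𝒜]
  [CommRing B] [Algebra R B] (ℬ : ℕ → Submodule R B)
  (φ : B →ₐ[R] Polynomial A) (hφ : Function.Injective φ)
  (hdeg : ∀ n : ℕ, Submodule.map φ.toLinearMap (ℬ n) =
      Submodule.map ((Polynomial.monomial n : A →ₗ[A] Polynomial A).restrictScalars R) (⨆ (m : ℕ) (_ : n ≤ m), 𝒜 m))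

include hdeg

omit [GradedAlgebra 𝒜] in
theorem exists_of_mem_deg {n : ℕ} {b : B} (hb : b ∈ ℬ n) : ∃ a ∈ geN 𝒜 n, φ b = monomial n a := by
  have : φ b ∈ Submodule.map φ.toLinearMap (ℬ n) := ⟨b, hb, rfl⟩
  rw [hdeg n] at this
  obtain ⟨a, ha, h⟩ := this
  exact ⟨a, ha, h.symm⟩

omit [GradedAlgebra 𝒜] in
theorem exists_of_mem_geN {n : ℕ} {a : A} (ha : a ∈ geN 𝒜 n) : ∃ b ∈ ℬ n, φ b = monomial n a := by
  have : monomial n a ∈ Submodule.map ((Polynomial.monomial n : A →ₗ[A] Polynomial A).restrictScalars R)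
      (⨆ (m : ℕ) (_ : n ≤ m), 𝒜 m) := ⟨a, ha, rfl⟩
  rw [← hdeg n] at this
  obtain ⟨b, hb, h⟩ := this
  exact ⟨b, hb, h⟩

include hφ

omit [GradedAlgebra 𝒜] in
theorem deg_eq_mul_iff (i j : ℕ) : ℬ (i + j) = ℬ i * ℬ j ↔ geN 𝒜 (i + j) = geN 𝒜 i * geN 𝒜 j := by
  rw [← (Submodule.map_injective_of_injective (f := φ.toLinearMap) hφ).eq_iff, Submodule.map_mul, hdeg, hdeg, hdeg,
    map_monomial_mul, (map_monomial_injective (i + j)).eq_iff]
  rfl

omit [GradedAlgebra 𝒜] in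
theorem deg_eq_pow_iff (k : ℕ) : ℬ k = ℬ 1 ^ k ↔ geN 𝒜 k = geN 𝒜 1 ^ k := by
  rw [← (Submodule.map_injective_of_injective (f := φ.toLinearMap) hφ).eq_iff, Submodule.map_pow, hdeg, hdeg,
    map_monomial_pow, (map_monomial_injective k).eq_iff]
  rfl

theorem succ_eq_one_mul_iff (n₀ : ℕ) :
    (∀ n : ℕ, n₀ ≤ n → ℬ (n + 1) = ℬ 1 * ℬ n) ↔ (∀ n : ℕ, n₀ ≤ n → 𝒜 (n + 1) = 𝒜 1 * 𝒜 n) := by
  rw [← geN_succ_eq_iff 𝒜 n₀]
  refine forall₂_congr fun n _ => ?_
  rw [add_comm n 1, deg_eq_mul_iff 𝒜 ℬ φ hφ hdeg 1 n]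

theorem eq_one_pow_iff (n₀ : ℕ) (hn₀ : 1 ≤ n₀) :
    (∀ n : ℕ, n₀ ≤ n → ℬ n = ℬ 1 ^ n) ↔ (∀ n : ℕ, n₀ ≤ n → 𝒜 n = 𝒜 1 ^ n) := by
  rw [← geN_eq_pow_iff 𝒜 n₀ hn₀]
  refine forall₂_congr fun n _ => ?_
  rw [deg_eq_pow_iff 𝒜 ℬ φ hφ hdeg n]

end

end Groth.Agent.Lib.Natural_helper3

namespace Groth.Agent.Lib.Natural_helper3

section
variable {A σ : Type*} [CommRing A] [SetLike σ A] [AddSubgroupClass σ A] (𝒜 : ℕ → σ) [GradedRing 𝒜]

/-- A homogeneous element of the ideal generated by homogeneous elements `f i` is a combination of the `f i` with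
homogeneous coefficients of the complementary degrees. -/
theorem exists_homogeneous_coeff {ι : Type*} (d : ι → ℕ) (f : ι → A) (hf : ∀ i, f i ∈ 𝒜 (d i)) {M : ℕ} {x : A}
    (hx : x ∈ 𝒜 M) (hxs : x ∈ Ideal.span (Set.range f)) :
    ∃ (F : Finset ι) (c : ι → A), (∀ i ∈ F, d i ≤ M ∧ c i ∈ 𝒜 (M - d i)) ∧ x = ∑ i ∈ F, c i * f i := by
  classical
  obtain ⟨c, hc⟩ := Finsupp.mem_ideal_span_range_iff_exists_finsupp.mp hxs
  refine ⟨c.support.filter fun i => d i ≤ M, fun i => (decompose 𝒜 (c i) (M - d i) : A),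
    fun i hi => ⟨(Finset.mem_filter.mp hi).2, SetLike.coe_mem _⟩, ?_⟩
  have h1 : (decompose 𝒜 x M : A) = x := decompose_of_mem_same 𝒜 hx
  rw [← h1, ← hc, Finsupp.sum, decompose_sum, DFinsupp.finsetSum_apply, AddSubmonoidClass.coe_finsetSum,
    Finset.sum_filter]
  refine Finset.sum_congr rfl fun i _ => ?_
  rw [coe_decompose_mul_of_right_mem 𝒜 M (hf i)]
end

end Groth.Agent.Lib.Natural_helper3

namespace Groth.Agent.Lib.Natural_helper3

open Groth.Agent.Lib.GradedGen_helper3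

section
variable {R A B : Type*} [CommRing R] [CommRing A] [Algebra R A] (𝒜 : ℕ → Submodule R A) [GradedAlgebra 𝒜]
  [CommRing B] [Algebra R B] (ℬ : ℕ → Submodule R B) [GradedAlgebra ℬ]
  (φ : B →ₐ[R] Polynomial A) (hφ : Function.Injective φ)
  (hdeg : ∀ n : ℕ, Submodule.map φ.toLinearMap (ℬ n) =
      Submodule.map ((Polynomial.monomial n : A →ₗ[A] Polynomial A).restrictScalars R) (⨆ (m : ℕ) (_ : n ≤ m), 𝒜 m))

include hφ hdeg

/-- To show that an additive subgroup of `B` is everything it suffices to treat the elements `a X^n` with `a`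
homogeneous. -/
theorem forall_mem_of_forall_homogeneous (S : AddSubgroup B)
    (H : ∀ (m n : ℕ) (a : A) (b : B), n ≤ m → a ∈ 𝒜 m → b ∈ ℬ n → φ b = monomial n a → b ∈ S) (x : B) : x ∈ S := by
  classical
  have key : ∀ (n : ℕ) (b : B), b ∈ ℬ n → b ∈ S := by
    intro n b hb
    obtain ⟨a, ha, hab⟩ := exists_of_mem_deg 𝒜 ℬ φ hdeg hb
    have hex : ∀ m : ℕ, ∃ b' : B, b' ∈ S ∧ φ b' = monomial n (decompose 𝒜 a m : A) := by
      intro m
      by_cases hnm : n ≤ m
      · obtain ⟨b', hb', hφb'⟩ := exists_of_mem_geN 𝒜 ℬ φ hdeg (le_geN 𝒜 hnm (SetLike.coe_mem (decompose 𝒜 a m)))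
        exact ⟨b', H m n _ b' hnm (SetLike.coe_mem _) hb' hφb', hφb'⟩
      · refine ⟨0, zero_mem _, ?_⟩
        rw [(mem_geN_iff 𝒜).mp ha m (by omega), map_zero, map_zero]
    choose b' hb'S hb'φ using hex
    have : b = ∑ m ∈ (decompose 𝒜 a).support, b' m := by
      apply hφ
      rw [map_sum, hab]
      conv_lhs => rw [← sum_support_decompose 𝒜 a]
      rw [map_sum]
      exact Finset.sum_congr rfl fun m _ => (hb'φ m).symm
    rw [this]
    exact sum_mem fun m _ => hb'S m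
  rw [← sum_support_decompose ℬ x]
  exact sum_mem fun n _ => key n _ (SetLike.coe_mem _)

theorem finiteType_natural_of_finiteType (h : Algebra.FiniteType (𝒜 0) A) : Algebra.FiniteType (ℬ 0) B := by
  classical
  obtain ⟨E, hE, hspan⟩ := exists_finset_homogeneous_of_fg 𝒜 ((irrelevant_fg_iff_finiteType 𝒜).mpr h)
  choose! d hd0 hd using hE
  have hg : ∀ e ∈ E, ∀ j ≤ d e, ∃ g ∈ ℬ j, φ g = monomial j e := fun e he j hj =>
    exists_of_mem_geN 𝒜 ℬ φ hdeg (le_geN 𝒜 hj (hd e he))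
  choose! g hgmem hgφ using hg
  let G : Set B := ⋃ e ∈ E, ⋃ j ∈ Finset.range (d e + 1), {g e j}
  have hGfin : G.Finite :=
    Set.Finite.biUnion E.finite_toSet fun e _ =>
      Set.Finite.biUnion (Finset.finite_toSet _) fun j _ => Set.finite_singleton _
  have hGmem : ∀ e ∈ E, ∀ j ≤ d e, g e j ∈ G := by
    intro e he j hj
    simp only [G, Set.mem_iUnion, Set.mem_singleton_iff, Finset.mem_range]
    exact ⟨e, he, j, by omega, rfl⟩
  refine ⟨Subalgebra.fg_def.mpr ⟨G, hGfin, ?_⟩⟩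
  set S := Algebra.adjoin (ℬ 0) G with hS
  have key : ∀ m : ℕ, ∀ n ≤ m, ∀ a ∈ 𝒜 m, ∀ b ∈ ℬ n, φ b = monomial n a → b ∈ S := by
    intro m
    induction m using Nat.strong_induction_on with
    | _ m ih =>
      intro n hn a ha b hb hab
      rcases Nat.eq_zero_or_pos m with rfl | hm
      · obtain rfl : n = 0 := by omega
        exact Subalgebra.algebraMap_mem S (⟨b, hb⟩ : ℬ 0)
      · have haE : a ∈ Ideal.span (Set.range (fun e : E => (e : A))) := by
          have hr : Set.range (fun e : E => (e : A)) = (E : Set A) := by ext; simp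
          rw [hr, ← hspan]
          exact HomogeneousIdeal.mem_irrelevant_of_mem 𝒜 hm ha
        obtain ⟨F, c, hc, hsum⟩ := exists_homogeneous_coeff 𝒜 (fun e : E => d e) (fun e : E => (e : A))
          (fun e => hd e e.2) ha haE
        have hβ : ∀ e ∈ F, ∃ β ∈ ℬ (n - min n (d e)), φ β = monomial (n - min n (d e)) (c e) ∧ β ∈ S := by
          intro e he
          obtain ⟨hde, hce⟩ := hc e he
          have hle : n - min n (d e) ≤ m - d e := by omega
          obtain ⟨β, hβ, hφβ⟩ := exists_of_mem_geN 𝒜 ℬ φ hdeg (le_geN 𝒜 hle hce)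
          have hpos := hd0 e e.2
          exact ⟨β, hβ, hφβ, ih (m - d e) (by omega) _ hle (c e) hce β hβ hφβ⟩
        choose! β hβmem hβφ hβS using hβ
        have hb_eq : b = ∑ e ∈ F, β e * g e (min n (d e)) := by
          apply hφ
          rw [hab, map_sum, hsum, map_sum]
          refine Finset.sum_congr rfl fun e he => ?_
          rw [map_mul φ, hβφ e he, hgφ e e.2 _ (min_le_right _ _), monomial_mul_monomial]
          have hn' : n - min n (d e) + min n (d e) = n := by omega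
          rw [hn']
        rw [hb_eq]
        exact sum_mem fun e he => mul_mem (hβS e he)
          (Algebra.subset_adjoin (hGmem e e.2 _ (min_le_right _ _)))
  rw [eq_top_iff]
  intro x _
  exact forall_mem_of_forall_homogeneous 𝒜 ℬ φ hφ hdeg S.toSubring.toAddSubgroup
    (fun m n a b hnm ha hb hab => key m n hnm a ha b hb hab) x

omit hφ in
theorem finiteType_of_finiteType_natural (h : Algebra.FiniteType (ℬ 0) B) : Algebra.FiniteType (𝒜 0) A := by
  classical
  obtain ⟨E, hE, hspan⟩ := exists_finset_homogeneous_of_fg ℬ ((irrelevant_fg_iff_finiteType ℬ).mpr h)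
  choose! d hd0 hd using hE
  have hτ : ∀ e : B, e ∈ ℬ 1 → ∃ a ∈ geN 𝒜 1, φ e = monomial 1 a := fun e he =>
    exists_of_mem_deg 𝒜 ℬ φ hdeg he
  choose! τ hτmem hτφ using hτ
  rw [← irrelevant_fg_iff_finiteType]
  refine ⟨(E.filter fun e => e ∈ ℬ 1).image τ, ?_⟩
  apply le_antisymm
  · rw [Ideal.span_le]
    intro t ht
    simp only [Finset.coe_image, Finset.coe_filter, Set.mem_image, Set.mem_ofPred_eq] at ht
    obtain ⟨e, ⟨-, he1⟩, rfl⟩ := ht
    have := hτmem e he1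
    rw [← SetLike.mem_coe, geN_one_eq_irrelevant] at this
    exact this
  · intro x hx
    have hx1 : x ∈ geN 𝒜 1 := by
      rw [← SetLike.mem_coe, geN_one_eq_irrelevant]; exact hx
    obtain ⟨b, hb, hbx⟩ := exists_of_mem_geN 𝒜 ℬ φ hdeg hx1
    have hbE : b ∈ Ideal.span (Set.range (fun e : E => (e : B))) := by
      have hr : Set.range (fun e : E => (e : B)) = (E : Set B) := by ext; simp
      rw [hr, ← hspan]
      exact HomogeneousIdeal.mem_irrelevant_of_mem ℬ one_pos hb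
    obtain ⟨F, c, hc, hsum⟩ := exists_homogeneous_coeff ℬ (fun e : E => d e) (fun e : E => (e : B))
      (fun e => hd e e.2) hb hbE
    have hγ : ∀ e ∈ F, ∃ γ : A, φ (c e) = monomial 0 γ ∧ (e : B) ∈ ℬ 1 := by
      intro e he
      obtain ⟨hde, hce⟩ := hc e he
      have hpos := hd0 e e.2
      have hd1 : d e = 1 := by omega
      rw [hd1] at hce
      obtain ⟨γ, -, hγ⟩ := exists_of_mem_deg 𝒜 ℬ φ hdeg hce
      have he1 := hd e e.2
      rw [hd1] at he1
      exact ⟨γ, hγ, he1⟩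
    choose! γ hγφ hγ1 using hγ
    have hx_eq : x = ∑ e ∈ F, γ e * τ e := by
      apply monomial_injective 1
      rw [← hbx, hsum, map_sum, map_sum]
      refine Finset.sum_congr rfl fun e he => ?_
      rw [map_mul φ, hγφ e he, hτφ e (hγ1 e he), monomial_mul_monomial, zero_add]
    rw [hx_eq]
    refine sum_mem fun e he => Ideal.mul_mem_left _ _ (Ideal.subset_span ?_)
    simp only [Finset.coe_image, Finset.coe_filter, Set.mem_image, Set.mem_ofPred_eq]
    exact ⟨e, ⟨e.2, hγ1 e he⟩, rfl⟩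

end

end Groth.Agent.Lib.Natural_helper3

namespace Groth.Agent.Lib.Natural_helper3

open Groth.Agent.Lib.GradedGen_helper3

section
variable {R A B : Type*} [CommRing R] [CommRing A] [Algebra R A] (𝒜 : ℕ → Submodule R A) [GradedAlgebra 𝒜]
  [CommRing B] [Algebra R B] (ℬ : ℕ → Submodule R B) [GradedAlgebra ℬ]
  (φ : B →ₐ[R] Polynomial A) (hφ : Function.Injective φ)
  (hdeg : ∀ n : ℕ, Submodule.map φ.toLinearMap (ℬ n) =
      Submodule.map ((Polynomial.monomial n : A →ₗ[A] Polynomial A).restrictScalars R) (⨆ (m : ℕ) (_ : n ≤ m), 𝒜 m))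

/-- The ring homomorphism `B₀ → A`, `b ↦ (φ b)(0)`. -/
noncomputable def zeroHom : ℬ 0 →+* A := (Polynomial.constantCoeff.comp φ.toRingHom).comp (algebraMap (ℬ 0) B)

include hdeg

theorem zeroHom_surjective : Function.Surjective (zeroHom ℬ φ) := by
  intro a
  have ha : a ∈ geN 𝒜 0 := by rw [geN_zero]; trivial
  obtain ⟨b, hb, hba⟩ := exists_of_mem_geN 𝒜 ℬ φ hdeg ha
  refine ⟨⟨b, hb⟩, ?_⟩
  change Polynomial.constantCoeff (φ b) = a
  rw [hba]
  simp

omit [GradedAlgebra 𝒜] in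
include hφ in
theorem zeroHom_injective : Function.Injective (zeroHom ℬ φ) := by
  rw [injective_iff_map_eq_zero]
  intro b hb
  obtain ⟨a, -, hba⟩ := exists_of_mem_deg 𝒜 ℬ φ hdeg b.2
  have h1 : Polynomial.constantCoeff (φ (b : B)) = 0 := hb
  rw [hba] at h1
  have ha : a = 0 := by simpa using h1
  rw [ha, map_zero] at hba
  exact Subtype.ext (hφ (hba.trans (map_zero φ).symm))

include hφ in
theorem isNoetherianRing_natural_iff : IsNoetherianRing B ↔ IsNoetherianRing A := by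
  constructor
  · intro h
    have hs : Function.Surjective (Polynomial.constantCoeff.comp φ.toRingHom) := by
      intro a
      obtain ⟨b, hb⟩ := zeroHom_surjective 𝒜 ℬ φ hdeg a
      exact ⟨b, hb⟩
    exact isNoetherianRing_of_surjective B A _ hs
  · intro h
    have hft : Algebra.FiniteType (ℬ 0) B :=
      finiteType_natural_of_finiteType 𝒜 ℬ φ hφ hdeg (finiteType_of_isNoetherianRing 𝒜)
    have e : ℬ 0 ≃+* A := RingEquiv.ofBijective (zeroHom ℬ φ)
      ⟨zeroHom_injective 𝒜 ℬ φ hφ hdeg, zeroHom_surjective 𝒜 ℬ φ hdeg⟩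
    have : IsNoetherianRing (ℬ 0) := isNoetherianRing_of_ringEquiv A e.symm
    exact Algebra.FiniteType.isNoetherianRing (ℬ 0) B

end

end Groth.Agent.Lib.Natural_helper3

namespace Groth.Agent.Lib.Natural_helper3

section
variable {R A B : Type*} [CommRing R] [CommRing A] [Algebra R A] (𝒜 : ℕ → Submodule R A) [GradedAlgebra 𝒜]
  [CommRing B] [Algebra R B] (ℬ : ℕ → Submodule R B) [GradedAlgebra ℬ]
  (φ : B →ₐ[R] Polynomial A) (hφ : Function.Injective φ)
  (hdeg : ∀ n : ℕ, Submodule.map φ.toLinearMap (ℬ n) =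
      Submodule.map ((Polynomial.monomial n : A →ₗ[A] Polynomial A).restrictScalars R) (⨆ (m : ℕ) (_ : n ≤ m), 𝒜 m))

include hφ hdeg

omit [GradedAlgebra ℬ] in
/-- Degreewise version of `forall_mem_of_forall_homogeneous`. -/
theorem mem_of_forall_homogeneous_deg (S : AddSubgroup B) (n : ℕ)
    (H : ∀ (m : ℕ) (a : A) (b : B), n ≤ m → a ∈ 𝒜 m → b ∈ ℬ n → φ b = monomial n a → b ∈ S)
    (b : B) (hb : b ∈ ℬ n) : b ∈ S := by
  classical
  obtain ⟨a, ha, hab⟩ := exists_of_mem_deg 𝒜 ℬ φ hdeg hb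
  have hex : ∀ m : ℕ, ∃ b' : B, b' ∈ S ∧ φ b' = monomial n (decompose 𝒜 a m : A) := by
    intro m
    by_cases hnm : n ≤ m
    · obtain ⟨b', hb', hφb'⟩ := exists_of_mem_geN 𝒜 ℬ φ hdeg (le_geN 𝒜 hnm (SetLike.coe_mem (decompose 𝒜 a m)))
      exact ⟨b', H m _ b' hnm (SetLike.coe_mem _) hb' hφb', hφb'⟩
    · refine ⟨0, zero_mem _, ?_⟩
      rw [(mem_geN_iff 𝒜).mp ha m (by omega), map_zero, map_zero]
  choose b' hb'S hb'φ using hex
  have : b = ∑ m ∈ (decompose 𝒜 a).support, b' m := by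
    apply hφ
    rw [map_sum, hab]
    conv_lhs => rw [← sum_support_decompose 𝒜 a]
    rw [map_sum]
    exact Finset.sum_congr rfl fun m _ => (hb'φ m).symm
  rw [this]
  exact sum_mem fun m _ => hb'S m

/-- If `S₊` is the radical (in `S₊`) of the ideal generated by homogeneous `f_α`, then `S♮₊` is the radical of the ideal
generated by the `f_α♮`. -/
theorem radical_natural {ι : Type*} (d : ι → ℕ) (f : ι → A) (hf : ∀ a, f a ∈ 𝒜 (d a))
    (hrad : ∀ g ∈ (HomogeneousIdeal.irrelevant 𝒜).toIdeal, ∃ n : ℕ, 0 < n ∧ g ^ n ∈ Ideal.span (Set.range f))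
    (fn : ι → B) (hfn : ∀ a, φ (fn a) = Polynomial.monomial (d a) (f a)) :
    ∀ g ∈ (HomogeneousIdeal.irrelevant ℬ).toIdeal, ∃ n : ℕ, 0 < n ∧ g ^ n ∈ Ideal.span (Set.range fn) := by
  classical
  set I := Ideal.span (Set.range fn) with hI
  have hradI : ∀ g : B, g ∈ I.radical → ∃ n : ℕ, 0 < n ∧ g ^ n ∈ I := by
    rintro g ⟨n, hn⟩
    rcases Nat.eq_zero_or_pos n with rfl | hn0
    · refine ⟨1, one_pos, ?_⟩
      rw [pow_zero] at hn
      rw [(Ideal.eq_top_iff_one I).mpr hn]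
      trivial
    · exact ⟨n, hn0, hn⟩
  have core : ∀ n : ℕ, 0 < n → ∀ (m : ℕ) (a : A) (b : B), n ≤ m → a ∈ 𝒜 m → b ∈ ℬ n → φ b = monomial n a →
      b ∈ I.radical.toAddSubgroup := by
    intro n hn m a b hnm ha hb hab
    have hm : 0 < m := by omega
    obtain ⟨N, hN, haN⟩ := hrad a (HomogeneousIdeal.mem_irrelevant_of_mem 𝒜 hm ha)
    have haN' : a ^ N ∈ 𝒜 (N • m) := SetLike.pow_mem_graded N ha
    obtain ⟨F, c, hc, hsum⟩ := exists_homogeneous_coeff 𝒜 d f hf haN' haN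
    set D := F.sup d with hD
    have hβ : ∀ i ∈ F, ∃ β : B, φ β = monomial (n * (N + D) - d i) (a ^ D * c i) := by
      intro i hi
      obtain ⟨hdi, hci⟩ := hc i hi
      have hDi : d i ≤ D := Finset.le_sup hi
      have h1 : a ^ D * c i ∈ 𝒜 (D • m + (N • m - d i)) := SetLike.mul_mem_graded (SetLike.pow_mem_graded D ha) hci
      have hle : n * (N + D) - d i ≤ D • m + (N • m - d i) := by
        simp only [smul_eq_mul] at hdi ⊢
        have : n * (N + D) ≤ m * (N + D) := Nat.mul_le_mul_right _ hnm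
        have h2 : m * (N + D) = D * m + N * m := by ring
        omega
      obtain ⟨β, -, hβ⟩ := exists_of_mem_geN 𝒜 ℬ φ hdeg (le_geN 𝒜 hle h1)
      exact ⟨β, hβ⟩
    choose! β hβφ using hβ
    have hpow : b ^ (N + D) = ∑ i ∈ F, β i * fn i := by
      apply hφ
      rw [map_pow, hab, monomial_pow, map_sum]
      have h3 : a ^ (N + D) = ∑ i ∈ F, a ^ D * c i * f i := by
        rw [pow_add, hsum, Finset.sum_mul]
        refine Finset.sum_congr rfl fun i _ => ?_
        ring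
      rw [h3, map_sum]
      refine Finset.sum_congr rfl fun i hi => ?_
      rw [map_mul φ, hβφ i hi, hfn i, monomial_mul_monomial]
      have hDi : d i ≤ D := Finset.le_sup hi
      have h4 : n * (N + D) - d i + d i = n * (N + D) := by
        have : d i ≤ n * (N + D) := by
          calc d i ≤ D := hDi
            _ ≤ N + D := Nat.le_add_left _ _
            _ ≤ n * (N + D) := Nat.le_mul_of_pos_left _ hn
        omega
      rw [h4]
    change b ∈ I.radical
    refine ⟨N + D, ?_⟩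
    rw [hpow]
    exact sum_mem fun i _ => Ideal.mul_mem_left _ _ (Ideal.subset_span ⟨i, rfl⟩)
  intro g hg
  apply hradI
  have hg0 : (decompose ℬ g 0 : B) = 0 := by
    have := (HomogeneousIdeal.mem_irrelevant_iff ℬ g).mp hg
    rwa [GradedRing.proj_apply] at this
  rw [← sum_support_decompose ℬ g]
  refine sum_mem fun n _ => ?_
  rcases Nat.eq_zero_or_pos n with rfl | hn
  · rw [hg0]; exact zero_mem _
  · exact mem_of_forall_homogeneous_deg 𝒜 ℬ φ hφ hdeg I.radical.toAddSubgroup n (core n hn) _ (SetLike.coe_mem _)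

end

end Groth.Agent.Lib.Natural_helper3

namespace Groth.Agent.Lib.Natural_helper3

section
variable {R A B : Type*} [CommRing R] [CommRing A] [Algebra R A] (𝒜 : ℕ → Submodule R A) [GradedAlgebra 𝒜]
  [CommRing B] [Algebra R B] (ℬ : ℕ → Submodule R B) [GradedAlgebra ℬ]
  (φ : B →ₐ[R] Polynomial A) (hφ : Function.Injective φ)
  (hdeg : ∀ n : ℕ, Submodule.map φ.toLinearMap (ℬ n) =
      Submodule.map ((Polynomial.monomial n : A →ₗ[A] Polynomial A).restrictScalars R) (⨆ (m : ℕ) (_ : n ≤ m), 𝒜 m))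

include hφ hdeg

omit [GradedAlgebra ℬ] in
/-- Variant of `mem_of_forall_homogeneous_deg` for elements `a X^n` with `a ∈ A_{≥ k}`. -/
theorem mem_of_forall_homogeneous_ge (S : AddSubgroup B) (n k : ℕ) (hk : n ≤ k)
    (H : ∀ (m : ℕ) (a : A) (b : B), k ≤ m → a ∈ 𝒜 m → b ∈ ℬ n → φ b = monomial n a → b ∈ S)
    (b : B) (a : A) (ha : a ∈ geN 𝒜 k) (hab : φ b = monomial n a) : b ∈ S := by
  classical
  have hex : ∀ m : ℕ, ∃ b' : B, b' ∈ S ∧ φ b' = monomial n (decompose 𝒜 a m : A) := by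
    intro m
    by_cases hkm : k ≤ m
    · obtain ⟨b', hb', hφb'⟩ := exists_of_mem_geN 𝒜 ℬ φ hdeg
        (le_geN 𝒜 (hk.trans hkm) (SetLike.coe_mem (decompose 𝒜 a m)))
      exact ⟨b', H m _ b' hkm (SetLike.coe_mem _) hb' hφb', hφb'⟩
    · refine ⟨0, zero_mem _, ?_⟩
      rw [(mem_geN_iff 𝒜).mp ha m (by omega), map_zero, map_zero]
  choose b' hb'S hb'φ using hex
  have : b = ∑ m ∈ (decompose 𝒜 a).support, b' m := by
    apply hφ
    rw [map_sum, hab]
    conv_lhs => rw [← sum_support_decompose 𝒜 a]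
    rw [map_sum]
    exact Finset.sum_congr rfl fun m _ => (hb'φ m).symm
  rw [this]
  exact sum_mem fun m _ => hb'S m

variable {C : Type*} [CommRing C] [Algebra R C] (𝒞 : ℕ → Submodule R C) [GradedAlgebra 𝒞]
  (π : ℬ →+*ᵍ 𝒞) (hπ : Function.Surjective π)
  (hker : RingHom.ker π.toRingHom =
      Ideal.span (⇑φ ⁻¹' (⇑(Polynomial.C : A →+* Polynomial A) '' ((HomogeneousIdeal.irrelevant 𝒜).toIdeal : Set A))))
  (ρ : 𝒞 →+*ᵍ 𝒜) (hρ : ∀ (n : ℕ) (b : B), b ∈ ℬ n → ρ (π b) = GradedRing.proj 𝒜 n ((φ b).coeff n))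

include hρ in
omit hφ [GradedAlgebra ℬ] [GradedAlgebra 𝒞] in
theorem rho_surjOn (n : ℕ) (a : A) (ha : a ∈ 𝒜 n) : ∃ t ∈ 𝒞 n, ρ t = a := by
  obtain ⟨b, hb, hba⟩ := exists_of_mem_geN 𝒜 ℬ φ hdeg (le_geN 𝒜 le_rfl ha)
  refine ⟨π b, π.map_mem hb, ?_⟩
  rw [hρ n b hb, hba, coeff_monomial, if_pos rfl, GradedRing.proj_apply, decompose_of_mem_same 𝒜 ha]

include hρ in
omit hφ [GradedAlgebra ℬ] [GradedAlgebra 𝒞] in
theorem rho_surjective : Function.Surjective ρ := by
  classical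
  intro a
  have : ∀ n : ℕ, ∃ t : C, ρ t = (decompose 𝒜 a n : A) := fun n => by
    obtain ⟨t, -, ht⟩ := rho_surjOn 𝒜 ℬ φ hdeg 𝒞 π ρ hρ n _ (SetLike.coe_mem (decompose 𝒜 a n))
    exact ⟨t, ht⟩
  choose t ht using this
  refine ⟨∑ n ∈ (decompose 𝒜 a).support, t n, ?_⟩
  rw [map_sum]
  conv_rhs => rw [← sum_support_decompose 𝒜 a]
  exact Finset.sum_congr rfl fun n _ => ht n

include hπ hρ in
omit hφ in
/-- A homogeneous element of the kernel of `ρ` comes from some `a X^n` with `a ∈ A_{≥ n+1}`. -/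
theorem exists_of_rho_eq_zero (n : ℕ) (t : C) (ht : t ∈ 𝒞 n) (hρt : ρ t = 0) :
    ∃ b ∈ ℬ n, ∃ a ∈ geN 𝒜 (n + 1), φ b = monomial n a ∧ π b = t := by
  classical
  obtain ⟨b0, hb0⟩ := hπ t
  let b : B := (decompose ℬ b0 n : B)
  have hb : b ∈ ℬ n := SetLike.coe_mem _
  have hπb : π b = t := by
    change π (decompose ℬ b0 n : B) = t
    rw [GradedRingHom.map_directSumDecompose, hb0, decompose_of_mem_same 𝒞 ht]
  obtain ⟨a, ha, hba⟩ := exists_of_mem_deg 𝒜 ℬ φ hdeg hb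
  refine ⟨b, hb, a, ?_, hba, hπb⟩
  have h1 := hρ n b hb
  rw [hπb, hρt, hba, coeff_monomial, if_pos rfl, GradedRing.proj_apply] at h1
  rw [mem_geN_iff] at ha ⊢
  intro i hi
  rcases Nat.lt_succ_iff_lt_or_eq.mp hi with h | rfl
  · exact ha i h
  · exact h1.symm

include hπ hker hρ in
/-- The kernel of `ρ` consists of nilpotent elements. -/
theorem isNilpotent_of_rho_eq_zero (t : C) (hρt : ρ t = 0) : IsNilpotent t := by
  classical
  -- reduce to homogeneous elements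
  rw [← mem_nilradical, ← sum_support_decompose 𝒞 t]
  refine sum_mem fun n _ => ?_
  have hρtn : ρ (decompose 𝒞 t n : C) = 0 := by
    rw [GradedRingHom.map_directSumDecompose, hρt, decompose_zero, DirectSum.zero_apply, ZeroMemClass.coe_zero]
  obtain ⟨b, hb, a, ha, hba, hπb⟩ :=
    exists_of_rho_eq_zero 𝒜 ℬ φ hdeg 𝒞 π hπ ρ hρ n _ (SetLike.coe_mem (decompose 𝒞 t n)) hρtn
  rw [← hπb]
  have key : b ∈ ((nilradical C).comap π.toRingHom).toAddSubgroup := by
    refine mem_of_forall_homogeneous_ge 𝒜 ℬ φ hφ hdeg _ n (n + 1) (Nat.le_succ n) ?_ b a ha hba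
    intro m a b hm ha hb hba
    change π b ∈ nilradical C
    rw [mem_nilradical]
    refine ⟨n + 1, ?_⟩
    -- b^(n+1) = b₁ * b₀ with b₀ in the kernel of π
    have ha0 : a ∈ geN 𝒜 0 := by rw [geN_zero]; trivial
    obtain ⟨b₀, hb₀, hφb₀⟩ := exists_of_mem_geN 𝒜 ℬ φ hdeg ha0
    have han : a ^ n ∈ 𝒜 (n • m) := SetLike.pow_mem_graded n ha
    have hle : n * (n + 1) ≤ n • m := by
      rw [smul_eq_mul]; exact Nat.mul_le_mul_left _ hm
    obtain ⟨b₁, hb₁, hφb₁⟩ := exists_of_mem_geN 𝒜 ℬ φ hdeg (le_geN 𝒜 hle han)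
    have hpow : b ^ (n + 1) = b₁ * b₀ := by
      apply hφ
      rw [map_pow, hba, monomial_pow, map_mul φ, hφb₁, hφb₀, monomial_mul_monomial, add_zero, pow_succ]
    have hb₀ker : π b₀ = 0 := by
      have : b₀ ∈ RingHom.ker π.toRingHom := by
        rw [hker]
        refine Ideal.subset_span ⟨a, ?_, ?_⟩
        · exact HomogeneousIdeal.mem_irrelevant_of_mem 𝒜 (by omega) ha
        · rw [hφb₀]; simp
      exact this
    rw [← map_pow, hpow, map_mul, hb₀ker, mul_zero]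
  exact key

include hπ hker hρ in
/-- If `S_{k+1} = S_1 S_k` for `k ≥ n₀`, then `ρ` is injective in degrees `≥ n₀`. -/
theorem rho_injOn_of_gen (n₀ : ℕ) (hgen : ∀ n : ℕ, n₀ ≤ n → 𝒜 (n + 1) = 𝒜 1 * 𝒜 n) (n : ℕ) (hn : n₀ ≤ n)
    (t : C) (ht : t ∈ 𝒞 n) (hρt : ρ t = 0) : t = 0 := by
  classical
  obtain ⟨b, hb, a, ha, hba, hπb⟩ := exists_of_rho_eq_zero 𝒜 ℬ φ hdeg 𝒞 π hπ ρ hρ n t ht hρt
  rw [← hπb]
  have key : b ∈ (RingHom.ker π.toRingHom).toAddSubgroup := by
    refine mem_of_forall_homogeneous_ge 𝒜 ℬ φ hφ hdeg _ n (n + 1) (Nat.le_succ n) ?_ b a ha hba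
    intro m a b hm ha hb hba
    obtain ⟨k, rfl⟩ : ∃ k, m = k + 1 := ⟨m - 1, by omega⟩
    rw [hgen k (by omega)] at ha
    have hP : ∃ b' ∈ RingHom.ker π.toRingHom, φ b' = monomial n a := by
      refine Submodule.mul_induction_on ha ?_ ?_
      · intro u hu v hv
        have hu0 : u ∈ geN 𝒜 0 := by rw [geN_zero]; trivial
        obtain ⟨bu, -, hbu⟩ := exists_of_mem_geN 𝒜 ℬ φ hdeg hu0
        obtain ⟨bv, -, hbv⟩ := exists_of_mem_geN 𝒜 ℬ φ hdeg (le_geN 𝒜 (by omega : n ≤ k) hv)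
        refine ⟨bu * bv, Ideal.mul_mem_right _ _ ?_, ?_⟩
        · rw [hker]
          refine Ideal.subset_span ⟨u, HomogeneousIdeal.mem_irrelevant_of_mem 𝒜 one_pos hu, ?_⟩
          rw [hbu]; simp
        · rw [map_mul φ, hbu, hbv, monomial_mul_monomial, zero_add]
      · rintro x y ⟨bx, hbx, hφx⟩ ⟨by', hby, hφy⟩
        exact ⟨bx + by', add_mem hbx hby, by rw [map_add φ, hφx, hφy, map_add]⟩
    obtain ⟨b', hb', hφb'⟩ := hP
    have : b = b' := hφ (hba.trans hφb'.symm)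
    rw [this]
    exact hb'
  exact key

end

end Groth.Agent.Lib.Natural_helper3
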