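import Mathlib
import Groth.Prelude
import Groth.Agent.Lib.NbhdIso2_helper2
import Groth.Agent.Lib.FibLift5_helper2
import Groth.Agent.Lib.HHVan_helper9

/-!
# Isomorphisms near a fibre, III: the main theorem (helper2)

`f : X ⟶ Y` proper flat, `Y` locally Noetherian, `F`, `G` finite locally free with `F_y ≅ G_y` and
`H^1(X_y, 𝓗om(F_y, F_y)) = 0`: then `F ≅ G` over `f⁻¹ U` for a neighbourhood `U` of `y`.
APPEND-ONLY once landed.
-/

set_option autoImplicit false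
set_option maxHeartbeats 1600000
set_option linter.style.haveILetI false
universe u
open CategoryTheory CategoryTheory.Limits AlgebraicGeometry TopologicalSpace Opposite TensorProduct

namespace Groth.Agent.Lib.NbhdIsoH2

open Groth.Agent.Lib.FlatBCH2 Groth.Agent.Lib.CBCH2 Groth.Agent.Lib.BCLocH2
  Groth.Agent.Lib.PullFnH2 QcqsLoc SecOrdH8 FLFH8 QCohExtn RefHullH8 HomLinH8
  Groth.Agent.Lib.StalkFam Groth.Agent.Lib.PullDualH2 Groth.Agent.Lib.HomShAdjH2 PBH8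

section Alg

lemma bijective_smul_of_isUnit {R M N : Type*} [CommRing R] [AddCommGroup M] [Module R M]
    [AddCommGroup N] [Module R N] (r : R) (hr : IsUnit r) (l : M →ₗ[R] N)
    (hl : Function.Bijective l) : Function.Bijective (r • l) := by
  obtain ⟨v, rfl⟩ := hr
  have h1 : (((v : R) • l : M →ₗ[R] N) : M → N) = (fun n => v • n) ∘ l := by
    funext a
    rfl
  rw [h1]
  exact (MulAction.bijective v).comp hl

end Alg

section Van

variable {X Y : Scheme.{u}} (f : X ⟶ Y) (y : Y) (F G : X.Modules)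

/-- `H^1(X_y, (G ⊗ F^∨)_y) = 0` -/
theorem subsingleton_fiberH_tensor_dual (hF : FlatMod.IsFinLocFree F)
    [DCoh.HasSheafHom (CohIII.fiberMod f F y)]
    (h1 : Subsingleton (Coh.HH (f.fiber y)
      ((DCoh.sheafHom (CohIII.fiberMod f F y)).obj (CohIII.fiberMod f F y)) 1))
    (u₀ : CohIII.fiberMod f F y ≅ CohIII.fiberMod f G y) :
    Subsingleton (CohIII.fiberH f (CohB1.tensorMod G (RefHull.dual F)) y 1) := by
  haveI hFq : F.IsQuasicoherent := isQuasicoherent_of_finLocFree F hF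
  have hfpF : CohB1.IsFP F := isFinitePresentation_of_finLocFree F hF
  have hD : FlatMod.IsFinLocFree (RefHull.dual F) := isFinLocFree_dual hF
  haveI hDq : (RefHull.dual F).IsQuasicoherent := isQuasicoherent_of_finLocFree _ hD
  haveI hξ : IsIso (xi (f.fiberι y) (evPair F) G) :=
    isIso_xi (f.fiberι y) (evPair F) G hF (isPerfect_evPair hfpF)
  let e : (DCoh.sheafHom (CohIII.fiberMod f F y)).obj (CohIII.fiberMod f F y) ≅
      CohIII.fiberMod f (CohB1.tensorMod G (RefHull.dual F)) y :=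
    (dcohSheafHomIso (CohIII.fiberMod f F y)).app (CohIII.fiberMod f F y) ≪≫
      (RefFun.homFunctor (CohIII.fiberMod f F y)).mapIso u₀ ≪≫
      (asIso (xi (f.fiberι y) (evPair F) G)).symm
  exact Groth.Agent.HHVan.subsingleton_of_iso e 1 h1

end Van

section Lift

variable {X Y : Scheme.{u}} (f : X ⟶ Y) (y : Y) (F G : X.Modules)

/-- if base change holds near `y` in degree `0` for `G ⊗ F^∨`, an isomorphism `F_y ≅ G_y` is, up to
a unit, the restriction of a section of `𝓗om(F, G)` over the inverse image of an affine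
neighbourhood of `y`, bijective at the points of the fibre -/
theorem exists_section_bijective_on_fibre (hF : FlatMod.IsFinLocFree F)
    (hG : FlatMod.IsFinLocFree G) (u₀ : CohIII.fiberMod f F y ≅ CohIII.fiberMod f G y)
    (hgood : GoodAt f (CohB1.tensorMod G (RefHull.dual F)) 0 y) :
    ∃ (T : Y.Opens) (_ : y ∈ T) (u : Γ(RefHull.homSh F G, f ⁻¹ᵁ T)),
      ∀ z : f.fiber y, ∃ hz : (f.fiberι y) z ∈ f ⁻¹ᵁ T,
        Function.Bijective (u.1 ⟨(f.fiberι y) z, hz⟩) := by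
  obtain ⟨T, hT, g₀, hyg, H⟩ := hgood
  have hs : y ∈ T := Y.basicOpen_le g₀ hyg
  haveI : IsAffine (T : Scheme.{u}) := hT
  haveI hFq : F.IsQuasicoherent := isQuasicoherent_of_finLocFree F hF
  haveI hGq : G.IsQuasicoherent := isQuasicoherent_of_finLocFree G hG
  have hfpF : CohB1.IsFP F := isFinitePresentation_of_finLocFree F hF
  have hD : FlatMod.IsFinLocFree (RefHull.dual F) := isFinLocFree_dual hF
  haveI hDq : (RefHull.dual F).IsQuasicoherent := isQuasicoherent_of_finLocFree _ hD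
  haveI hξ : IsIso (xi (f.fiberι y) (evPair F) G) :=
    isIso_xi (f.fiberι y) (evPair F) G hF (isPerfect_evPair hfpF)
  letI oU := overRes f T (f ⁻¹ᵁ T) le_rfl
  letI aK := algRes T y hs
  letI oF := overFib f y
  -- the base change property for the fibre
  have hBC : IsBC Γ(Y, T) (Y.residueField y) (CohPull.pullMod (gy f T y hs)
      ((CohB1.tensorMod G (RefHull.dual F)).restrict (f ⁻¹ᵁ T).ι) 0) := by
    have hunit : IsUnit (algebraMap Γ(Y, T) (Y.residueField y) g₀) := by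
      have h0 : evalRes T y hs g₀ ≠ 0 :=
        (IsLocalRing.residue_ne_zero_iff_isUnit _).mpr ((Scheme.mem_basicOpen _ _ _ hs).mp hyg)
      exact h0.isUnit
    exact H (Y.residueField y) hunit (f.fiber y) (gy f T y hs) (isPullback_fibRes f T hT y hs)
  have h₂ : (⊤ : (f.fiber y).Opens) ≤ (f.fiberι y) ⁻¹ᵁ (f ⁻¹ᵁ T) := by
    intro z _
    have hz : (f.fiberι y) z ∈ f ⁻¹' {y} := by
      rw [← f.range_fiberι y]
      exact ⟨z, rfl⟩
    have hz' : f ((f.fiberι y) z) = y := hz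
    show f ((f.fiberι y) z) ∈ T
    rw [hz']
    exact hs
  have hle : (f ⁻¹ᵁ T).ι ''ᵁ ⊤ ≤ f ⁻¹ᵁ T := le_of_eq (Scheme.Opens.ι_image_top _)
  have hge : f ⁻¹ᵁ T ≤ (f ⁻¹ᵁ T).ι ''ᵁ ⊤ := ge_of_eq (Scheme.Opens.ι_image_top _)
  obtain ⟨σ₀, hσ₀⟩ : ∃ σ₀ : Γ((Scheme.Modules.pullback (f.fiberι y)).obj
      (CohB1.tensorMod G (RefHull.dual F)), ⊤),
      (xi (f.fiberι y) (evPair F) G).app ⊤ σ₀ = RefHull.ofHom u₀.hom ⊤ :=
    ⟨(inv (xi (f.fiberι y) (evPair F) G)).app ⊤ (RefHull.ofHom u₀.hom ⊤), by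
      rw [← comp_app', IsIso.inv_hom_id]
      rfl⟩
  obtain ⟨σ₀', hσ₀'⟩ : ∃ σ₀' : Γ((Scheme.Modules.pullback (gy f T y hs)).obj
      ((CohB1.tensorMod G (RefHull.dual F)).restrict (f ⁻¹ᵁ T).ι), ⊤),
      (fibModIsoRes f T y hs (CohB1.tensorMod G (RefHull.dual F))).hom.app ⊤ σ₀' = σ₀ :=
    ⟨(fibModIsoRes f T y hs (CohB1.tensorMod G (RefHull.dual F))).inv.app ⊤ σ₀, by
      rw [← comp_app', Iso.inv_hom_id]
      rfl⟩
  obtain ⟨b, hb, x, hx⟩ := exists_denominator_of_isBC hBC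
    (fun k => exists_frac_evalRes hT y hs k)
    ((Sheaf.H.equiv₀ (Coh.toAb ((Scheme.Modules.pullback (gy f T y hs)).obj
      ((CohB1.tensorMod G (RefHull.dual F)).restrict (f ⁻¹ᵁ T).ι)))
      (isTerminalTop : IsTerminal (⊤ : (f.fiber y).Opens))).symm σ₀')
  obtain ⟨ĉ, hĉdef⟩ : ∃ ĉ : Γ(f.fiber y, ⊤),
      ĉ = Coh.toGlobal (f.fiberToSpecResidueField y) (evalRes T y hs b) := ⟨_, rfl⟩
  have hĉ : IsUnit ĉ := by
    rw [hĉdef]
    exact (Ne.isUnit hb).map (Coh.toGlobal (f.fiberToSpecResidueField y))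
  obtain ⟨t', ht⟩ : ∃ t' : Γ(CohB1.tensorMod G (RefHull.dual F), f ⁻¹ᵁ T),
      (show Γ((CohB1.tensorMod G (RefHull.dual F)).restrict (f ⁻¹ᵁ T).ι, ⊤) from
        (CohB1.tensorMod G (RefHull.dual F)).presheaf.map (homOfLE hle).op t') =
        Sheaf.H.equiv₀ (Coh.toAb ((CohB1.tensorMod G (RefHull.dual F)).restrict (f ⁻¹ᵁ T).ι))
          (isTerminalTop : IsTerminal (⊤ : (f ⁻¹ᵁ T).toScheme.Opens)) x := by
    refine ⟨(CohB1.tensorMod G (RefHull.dual F)).presheaf.map (homOfLE hge).op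
      (show Γ(CohB1.tensorMod G (RefHull.dual F), (f ⁻¹ᵁ T).ι ''ᵁ ⊤) from
        Sheaf.H.equiv₀ (Coh.toAb ((CohB1.tensorMod G (RefHull.dual F)).restrict (f ⁻¹ᵁ T).ι))
          (isTerminalTop : IsTerminal (⊤ : (f ⁻¹ᵁ T).toScheme.Opens)) x), ?_⟩
    refine (Groth.Agent.Lib.LimMod.map_map_sec _ hle hge _).trans ?_
    exact map_self _ _ _
  have hA : cUV (gy f T y hs) ((CohB1.tensorMod G (RefHull.dual F)).restrict (f ⁻¹ᵁ T).ι)
      (U := ⊤) (V := ⊤) le_top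
      (show Γ((CohB1.tensorMod G (RefHull.dual F)).restrict (f ⁻¹ᵁ T).ι, ⊤) from
        (CohB1.tensorMod G (RefHull.dual F)).presheaf.map (homOfLE hle).op t') = ĉ • σ₀' := by
    refine (congrArg (cUV (gy f T y hs)
      ((CohB1.tensorMod G (RefHull.dual F)).restrict (f ⁻¹ᵁ T).ι) (U := ⊤) (V := ⊤) le_top)
      ht).trans ?_
    refine (equiv₀_pullMod_cUV (gy f T y hs)
      ((CohB1.tensorMod G (RefHull.dual F)).restrict (f ⁻¹ᵁ T).ι) x).symm.trans ?_
    rw [hx]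
    have e2 := equiv₀_smul ((Scheme.Modules.pullback (gy f T y hs)).obj
      ((CohB1.tensorMod G (RefHull.dual F)).restrict (f ⁻¹ᵁ T).ι))
      (Coh.toGlobal (f.fiberToSpecResidueField y) (evalRes T y hs b))
      ((Sheaf.H.equiv₀ (Coh.toAb ((Scheme.Modules.pullback (gy f T y hs)).obj
        ((CohB1.tensorMod G (RefHull.dual F)).restrict (f ⁻¹ᵁ T).ι)))
        (isTerminalTop : IsTerminal (⊤ : (f.fiber y).Opens))).symm σ₀')
    rw [AddEquiv.apply_symm_apply] at e2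
    rw [hĉdef]
    exact e2
  have hB : cUV (f.fiberι y) (CohB1.tensorMod G (RefHull.dual F)) h₂ t' = ĉ • σ₀ :=
    (fibModIsoRes_cUV f T y hs (CohB1.tensorMod G (RefHull.dual F)) t' hle h₂).symm.trans
      ((congrArg ((fibModIsoRes f T y hs (CohB1.tensorMod G (RefHull.dual F))).hom.app ⊤)
        hA).trans ((Scheme.Modules.Hom.app_smul _ ĉ σ₀').trans (congrArg (ĉ • ·) hσ₀')))
  have hC : (xi (f.fiberι y) (evPair F) G).app ⊤
      (cUV (f.fiberι y) (CohB1.tensorMod G (RefHull.dual F)) h₂ t') =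
        ĉ • RefHull.ofHom u₀.hom ⊤ :=
    (congrArg ((xi (f.fiberι y) (evPair F) G).app ⊤) hB).trans
      ((Scheme.Modules.Hom.app_smul _ ĉ σ₀).trans (congrArg (ĉ • ·) hσ₀))
  refine ⟨T, hs, (cMapP (evPair F) G).app (f ⁻¹ᵁ T) t', fun z => ?_⟩
  have hz : (f.fiberι y) z ∈ f ⁻¹ᵁ T := h₂ (Set.mem_univ z)
  refine ⟨hz, ?_⟩
  apply bijective_of_pbSec_bijective (f.fiberι y) hF hG
    ((cMapP (evPair F) G).app (f ⁻¹ᵁ T) t') ⟨z, hz⟩
  rw [← xi_cUV_val (f.fiberι y) (evPair F) G (f ⁻¹ᵁ T) t' z hz]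
  have e4 : cUV (f.fiberι y) (CohB1.tensorMod G (RefHull.dual F)) h₂ t' =
      ((Scheme.Modules.pullback (f.fiberι y)).obj
        (CohB1.tensorMod G (RefHull.dual F))).presheaf.map (homOfLE h₂).op
        (cUV (f.fiberι y) (CohB1.tensorMod G (RefHull.dual F)) le_rfl t') := by
    have h5 := Groth.Agent.Lib.LimMod.cUV_res_base (f.fiberι y)
      (CohB1.tensorMod G (RefHull.dual F))
      (le_rfl : (f.fiberι y) ⁻¹ᵁ (f ⁻¹ᵁ T) ≤ (f.fiberι y) ⁻¹ᵁ (f ⁻¹ᵁ T)) h₂ h₂ le_rfl t'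
    rwa [map_self] at h5
  have e5 : ((xi (f.fiberι y) (evPair F) G).app ⊤
      (cUV (f.fiberι y) (CohB1.tensorMod G (RefHull.dual F)) h₂ t')).1 ⟨z, Set.mem_univ z⟩ =
      ((xi (f.fiberι y) (evPair F) G).app ((f.fiberι y) ⁻¹ᵁ (f ⁻¹ᵁ T))
        (cUV (f.fiberι y) (CohB1.tensorMod G (RefHull.dual F)) le_rfl t')).1 ⟨z, hz⟩ := by
    rw [e4]
    have h6 := ap_rF (xi (f.fiberι y) (evPair F) G) h₂
      (cUV (f.fiberι y) (CohB1.tensorMod G (RefHull.dual F)) le_rfl t')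
    exact congrArg (fun l => l.1 ⟨z, Set.mem_univ z⟩) h6
  rw [← e5, hC, homSh_smul_apply]
  exact bijective_smul_of_isUnit _ (hĉ.map ((f.fiber y).presheaf.germ ⊤ z (Set.mem_univ z)).hom)
    _ (stalkMapₗ_bijective_of_iso u₀ z)

end Lift

section Main

variable {X Y : Scheme.{u}} (f : X ⟶ Y) [IsProper f] [Flat f] [IsLocallyNoetherian Y] (y : Y)
  (F G : X.Modules)

open Groth.Agent.TensInv in
/-- **S4477** -/
theorem main4477 (hF : FlatMod.IsFinLocFree F) (hG : FlatMod.IsFinLocFree G)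
    [DCoh.HasSheafHom (CohIII.fiberMod f F y)]
    (h1 : Subsingleton (Coh.HH (f.fiber y)
      ((DCoh.sheafHom (CohIII.fiberMod f F y)).obj (CohIII.fiberMod f F y)) 1))
    (u₀ : CohIII.fiberMod f F y ≅ CohIII.fiberMod f G y) :
    ∃ U : Y.Opens, y ∈ U ∧ Nonempty (F.restrict (f ⁻¹ᵁ U).ι ≅ G.restrict (f ⁻¹ᵁ U).ι) := by
  haveI : LocallyOfFinitePresentation f :=
    LocallyOfFinitePresentation.iff_locallyOfFiniteType.mpr inferInstance
  haveI : IsLocallyNoetherian X := LocallyOfFiniteType.isLocallyNoetherian f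
  haveI hFq : F.IsQuasicoherent := isQuasicoherent_of_finLocFree F hF
  haveI hGq : G.IsQuasicoherent := isQuasicoherent_of_finLocFree G hG
  have hfpF : CohB1.IsFP F := isFinitePresentation_of_finLocFree F hF
  have hfpG : CohB1.IsFP G := isFinitePresentation_of_finLocFree G hG
  have hD : FlatMod.IsFinLocFree (RefHull.dual F) := isFinLocFree_dual hF
  have hvan := subsingleton_fiberH_tensor_dual f y F G hF h1 u₀
  have hMc : Coh.IsCoh (CohB1.tensorMod G (RefHull.dual F)) :=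
    TensBasis.isCoh_tensorMod_finLocFree (KerFreeH8.isCoh_of_finLocFree hG) hD
  haveI := hMc.1
  haveI := hMc.2
  haveI : Coh.IsQCoh (CohB1.tensorMod G (RefHull.dual F)) := hMc.1
  have hfpM : CohB1.IsFP (CohB1.tensorMod G (RefHull.dual F)) :=
    isFinitePresentation_of_isCoh (CohB1.tensorMod G (RefHull.dual F))
  have hDfl : FlatMod.IsFlatOver f (RefHull.dual F) :=
    Groth.Agent.Lib.RelPerfTensH3.isFlatOver_of_iso _ (rightUnit (RefHull.dual F))
      (Groth.Agent.Lib.RelPerfTensH3.isFlatOver_tensor _ (RefHull.dual F)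
        (Coh.structureModule X) hD (Groth.Agent.Lib.BCFunH2.isFlatOver_unit f))
  have hfl : FlatMod.IsFlatOver f (CohB1.tensorMod G (RefHull.dual F)) :=
    Groth.Agent.Lib.RelPerfTensH3.isFlatOver_tensor _ G (RefHull.dual F) hG hDfl
  have hgood : GoodAt f (CohB1.tensorMod G (RefHull.dual F)) 0 y :=
    (goodAt_of_subsingleton_fiberH f (CohB1.tensorMod G (RefHull.dual F)) hfpM hfl 1 y hvan).2 0
      rfl
  obtain ⟨T, hyT, u, hu⟩ := exists_section_bijective_on_fibre f y F G hF hG u₀ hgood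
  -- the open locus where `u` is bijective
  have hB : IsOpen {x : X | ∃ hx : x ∈ f ⁻¹ᵁ T, Function.Bijective (u.1 ⟨x, hx⟩)} :=
    isOpen_bijective_locus hfpF hfpG u
  have hC : IsClosed (f '' {x : X | ∃ hx : x ∈ f ⁻¹ᵁ T, Function.Bijective (u.1 ⟨x, hx⟩)}ᶜ) :=
    f.isClosedMap _ hB.isClosed_compl
  have hyC : y ∉ f '' {x : X | ∃ hx : x ∈ f ⁻¹ᵁ T, Function.Bijective (u.1 ⟨x, hx⟩)}ᶜ := by
    rintro ⟨x, hxB, hxy⟩
    have hxr : x ∈ Set.range (f.fiberι y) := by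
      rw [f.range_fiberι y]
      exact hxy
    obtain ⟨z, rfl⟩ := hxr
    exact hxB (hu z)
  refine ⟨T ⊓ ⟨_, hC.isOpen_compl⟩, ⟨hyT, hyC⟩, ?_⟩
  have hUT : f ⁻¹ᵁ (T ⊓ ⟨_, hC.isOpen_compl⟩) ≤ f ⁻¹ᵁ T := fun x hx => hx.1
  refine nonempty_iso_restrict_of_bijective F G _ (resSec hUT u) (fun x => ?_)
  have hx2 : f x.1 ∉ f '' {x : X | ∃ hx : x ∈ f ⁻¹ᵁ T, Function.Bijective (u.1 ⟨x, hx⟩)}ᶜ :=
    x.2.2
  have hxB : x.1 ∈ {x : X | ∃ hx : x ∈ f ⁻¹ᵁ T, Function.Bijective (u.1 ⟨x, hx⟩)} := by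
    by_contra hn
    exact hx2 ⟨x.1, hn, rfl⟩
  obtain ⟨hx', hb⟩ := hxB
  exact hb

end Main

end Groth.Agent.Lib.NbhdIsoH2
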