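import Mathlib.Algebra.Module.Projective
import Mathlib.LinearAlgebra.Dual.Lemmas
import Mathlib.RingTheory.Finiteness.Basic
import Mathlib.LinearAlgebra.Finsupp.Supported

/-!
# Maps factoring through projective modules ("near projective" modules)

* `factors_finite_free`: a map from a finite module factoring through a projective module factors
  through a finite free module `↥J → R` (`J` a finset).
* `smul_id_kernel_factors`: for `0 → K → P → M → 0` with `P` projective, if `a • id_M` factors through
  a projective module then `a • id_K` factors through `P`.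
* `smul_id_dual_factors`: if `M` is finite and `a • id_M` factors through a projective module, then
  `a • id` on the dual of `M` factors through a finite projective module.
-/

set_option autoImplicit false
universe u

namespace Groth.Agent.Lib.NearProj_helper5

open Module

theorem factors_finite_free (R : Type u) [CommRing R] {M N P : Type u} [AddCommGroup M]
    [Module R M] [Module.Finite R M] [AddCommGroup N] [Module R N] [AddCommGroup P] [Module R P]
    [Module.Projective R P] (f : M →ₗ[R] P) (g : P →ₗ[R] N) :
    ∃ (J : Finset P) (α : M →ₗ[R] (↥J → R)) (β : (↥J → R) →ₗ[R] N), β ∘ₗ α = g ∘ₗ f := by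
  classical
  obtain ⟨s, hs⟩ := Module.projective_def'.mp (inferInstance : Module.Projective R P)
  obtain ⟨S, hS⟩ := (Module.Finite.fg_top : (⊤ : Submodule R M).FG)
  let J : Finset P := S.biUnion (fun m => (s (f m)).support)
  have hsupp : ∀ m : M, s (f m) ∈ Finsupp.supported R R (J : Set P) := by
    have hle : Submodule.span R (S : Set M) ≤
        (Finsupp.supported R R (J : Set P)).comap (s ∘ₗ f) := by
      rw [Submodule.span_le]
      intro m hm
      simp only [SetLike.mem_coe, Submodule.mem_comap, LinearMap.comp_apply,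
        Finsupp.mem_supported]
      intro p hp
      exact Finset.mem_biUnion.mpr ⟨m, hm, hp⟩
    intro m
    have : m ∈ Submodule.span R (S : Set M) := by rw [hS]; trivial
    exact hle this
  refine ⟨J, LinearMap.pi (fun j => (Finsupp.lapply j.1) ∘ₗ s ∘ₗ f),
    Fintype.linearCombination R (fun j : ↥J => g j.1), ?_⟩
  ext m
  simp only [LinearMap.comp_apply, Fintype.linearCombination_apply, LinearMap.pi_apply,
    Finsupp.lapply_apply]
  have h1 : f m = Finsupp.linearCombination R id (s (f m)) := by
    have := LinearMap.congr_fun hs (f m)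
    simpa using this.symm
  conv_rhs => rw [h1]
  rw [Finsupp.linearCombination_apply, Finsupp.sum_of_support_subset _
    ((Finsupp.mem_supported R _).mp (hsupp m)) _ (by simp), map_sum]
  rw [← Finset.sum_coe_sort J]
  simp

theorem smul_id_kernel_factors (R : Type u) [CommRing R]
    {K P M P₀ : Type u} [AddCommGroup K] [Module R K] [AddCommGroup P] [Module R P]
    [Module.Projective R P] [AddCommGroup M] [Module R M] [AddCommGroup P₀] [Module R P₀]
    [Module.Projective R P₀]
    (f : K →ₗ[R] P) (g : P →ₗ[R] M) (hf : Function.Injective f)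
    (hg : Function.Surjective g) (hfg : LinearMap.range f = LinearMap.ker g)
    (a : R) (f₀ : M →ₗ[R] P₀) (g₀ : P₀ →ₗ[R] M) (h₀ : g₀ ∘ₗ f₀ = a • LinearMap.id) :
    ∃ ψ : P →ₗ[R] K, ψ ∘ₗ f = a • LinearMap.id := by
  obtain ⟨h, hh⟩ := Module.projective_lifting_property g g₀ hg
  -- `θ = a - h f₀ g` maps into `ker g = range f`
  let θ : P →ₗ[R] P := a • LinearMap.id - h ∘ₗ f₀ ∘ₗ g
  have hθ : ∀ x, θ x ∈ LinearMap.range f := by
    intro x
    rw [hfg, LinearMap.mem_ker]
    have h1 : g (h (f₀ (g x))) = a • g x := by
      have := LinearMap.congr_fun hh (f₀ (g x))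
      simp only [LinearMap.comp_apply] at this
      rw [this]
      have := LinearMap.congr_fun h₀ (g x)
      simpa using this
    simp [θ, h1]
  let e := LinearEquiv.ofInjective f hf
  let ψ : P →ₗ[R] K := e.symm.toLinearMap ∘ₗ θ.codRestrict (LinearMap.range f) hθ
  refine ⟨ψ, ?_⟩
  ext k
  apply hf
  have h2 : f (ψ (f k)) = θ (f k) := by
    have := e.apply_symm_apply (θ.codRestrict (LinearMap.range f) hθ (f k))
    exact congrArg Subtype.val this
  rw [LinearMap.comp_apply, h2]
  have h3 : g (f k) = 0 := by
    have : f k ∈ LinearMap.ker g := hfg ▸ LinearMap.mem_range_self f k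
    exact this
  simp [θ, h3]

theorem smul_id_dual_factors (R : Type u) [CommRing R] (M : Type u) [AddCommGroup M]
    [Module R M] [Module.Finite R M] {P₀ : Type u} [AddCommGroup P₀] [Module R P₀]
    [Module.Projective R P₀] (a : R) (f₀ : M →ₗ[R] P₀) (g₀ : P₀ →ₗ[R] M)
    (h₀ : g₀ ∘ₗ f₀ = a • LinearMap.id) :
    ∃ (P : Type u) (_ : AddCommGroup P) (_ : Module R P) (_ : Module.Projective R P)
      (f : Module.Dual R M →ₗ[R] P) (g : P →ₗ[R] Module.Dual R M), g ∘ₗ f = a • LinearMap.id := by
  obtain ⟨J, α, β, hαβ⟩ := factors_finite_free R f₀ g₀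
  refine ⟨Module.Dual R (↥J → R), inferInstance, inferInstance, inferInstance,
    β.dualMap, α.dualMap, ?_⟩
  rw [LinearMap.dualMap_comp_dualMap, hαβ, h₀]
  ext φ m
  simp

end Groth.Agent.Lib.NearProj_helper5
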