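import Mathlib
import Groth.Prelude
import Groth.Agent.Lib.CurveSD9_helper9
import Groth.Agent.Lib.CurveG12b_helper9

/-!
# Global generation of `E ⊗ H` for `E` nef and `deg H ≥ 2g` on a regular curve (helper9)
APPEND-ONLY once landed.
-/

set_option autoImplicit false
universe u
open CategoryTheory CategoryTheory.Limits AlgebraicGeometry Opposite TopologicalSpace

namespace CurveSD

open QcqsLoc QCohExtn GenLocH8 TensH8 FLFH8 CohB1 Groth.Agent.HHVan CurveAmple CurveGG
  Groth.Agent.TensInv Groth.Agent.CMMul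

variable {k : Type u} [Field k] [IsAlgClosed k] {X : Scheme.{u}} [X.Over (Spec (CommRingCat.of k))]
  [IsIntegral X] [IsProper (X ↘ Spec (CommRingCat.of k))]

/-- if every invertible quotient of the finite locally free module `E` has nonnegative degree and
`deg H ≥ 2g`, then `E ⊗ H` is globally generated -/
theorem gg_tensor_of_nef (hdim : topologicalKrullDim X = 1)
    (hreg : ∀ x : X, IsRegularLocalRing (X.presheaf.stalk x)) {E : X.Modules}
    (hE : FlatMod.IsFinLocFree E)
    (hnef : ∀ M : X.Modules, PicF.IsInvertible M → ∀ q : E ⟶ M, Epi q → 0 ≤ Curv2.deg k X M 1)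
    {H : X.Modules} (hH : PicF.IsInvertible H)
    (hdeg : 2 * (Curv2.genus k X : ℤ) ≤ Curv2.deg k X H 1) :
    Curv2.IsGloballyGenerated (CohB1.tensorMod E H) := by
  haveI : IsLocallyNoetherian X :=
    LocallyOfFiniteType.isLocallyNoetherian (X ↘ Spec (CommRingCat.of k))
  haveI : Nonempty X := inferInstance
  obtain ⟨r, hEr⟩ := VBCurve.exists_rank hE
  obtain ⟨D⟩ := exists_dualData (k := k) hdim hreg
  have hEc : Coh.IsCoh E := KerFreeH8.isCoh_of_finLocFree hE
  have hTc : Coh.IsCoh (CohB1.tensorMod E H) := isCoh_tensorMod X hEc hH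
  obtain ⟨H', hH', ⟨θ⟩⟩ := Groth.Agent.InvTensP.exists_inverse H hH
  have dH' : Curv2.deg k X H' 1 = -Curv2.deg k X H 1 := by
    have h1 := CurveTens.deg_tensorMod k X hdim.le hH hH'
    rw [CurveTens.deg_of_iso k X θ 1, CurveDeg.deg_structureModule] at h1
    linarith
  obtain ⟨θ'⟩ := swap (⟨θ⟩ : Nonempty (CohB1.tensorMod H H' ≅ Coh.structureModule X))
  haveI := isEquivalence_tR (⟨θ⟩ : Nonempty (CohB1.tensorMod H H' ≅ Coh.structureModule X))
  have h3 := D.deg_le hdim
  refine gg_of_HH1_twist k X hdim.le _ hTc (fun p hp =>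
    HH1_twist_subsingleton hdim hreg D hTc (fun M hM dM φ => ?_) p hp)
  let ε : CohB1.tensorMod (CohB1.tensorMod M H') H ≅ M :=
    assoc M H' H ≪≫ mapL M θ' ≪≫ rightUnit M
  have hM₂ : PicF.IsInvertible (CohB1.tensorMod M H') := isInvertible_tensorMod hM hH'
  have dM₂ := CurveTens.deg_tensorMod k X hdim.le hM hH'
  rw [dH', dM] at dM₂
  have hfull : ∀ g : (tR H).obj E ⟶ (tR H).obj (CohB1.tensorMod M H'),
      ∃ χ : E ⟶ CohB1.tensorMod M H', (tR H).map χ = g :=
    fun g => (tR H).map_surjective g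
  obtain ⟨χ, hχ⟩ := hfull (φ ≫ ε.inv)
  have hχ0 : χ = 0 := by
    by_contra hχ0
    have hM1 := FLFH8.finLocFreeOfRank_one_of_isInvertible hM₂
    obtain ⟨rK, rI, hK, hI, hrr, hrI, -, -⟩ := VBCurve.exists_kerIm_data k X hreg hdim.le χ
      hχ0 hEr (FLFH8.IsFinLocFreeOfRank.isFinLocFree _ hM1)
    obtain ⟨h1, h2⟩ := sub_invertible_deg_le (k := k) hdim hM₂ (Abelian.image.ι χ) hrI hI
    subst h1
    have hIinv := CurveG12.isInvertible_of_rank_one hI
    have h5 := hnef _ hIinv (Abelian.factorThruImage χ) inferInstance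
    linarith
  have h1 : φ ≫ ε.inv = 0 :=
    hχ.symm.trans ((congrArg (fun c => (tR H).map c) hχ0).trans (Functor.map_zero _ _ _))
  have h2 : (φ ≫ ε.inv) ≫ ε.hom = φ :=
    (Category.assoc _ _ _).trans ((congrArg (fun l => φ ≫ l) ε.inv_hom_id).trans
      (Category.comp_id _))
  rw [← h2, h1, zero_comp]

end CurveSD
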