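import Mathlib
import Groth.Prelude
import Groth.Agent.Lib.VBCurve5_helper9
import Groth.Agent.Lib.PB9_helper8
import Groth.Agent.Lib.CurveG12b_helper9

/-!
# Nefness (curve test) in short exact sequences (helper9)

`NefSES.deg_nonneg_of_rightExact`: on a regular integral proper curve, an invertible quotient of the
middle term of a right exact sequence has nonnegative degree as soon as invertible quotients of the
outer terms do.  `NefSES.main` is the statement of S17280.
APPEND-ONLY once landed.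
-/

set_option autoImplicit false
universe u
open CategoryTheory CategoryTheory.Limits AlgebraicGeometry Opposite TopologicalSpace

namespace NefSES

section Curve

variable (k : Type u) [Field k] (C : Scheme.{u}) [C.Over (Spec (CommRingCat.of k))]
  [IsProper (C ↘ Spec (CommRingCat.of k))] [IsIntegral C]

theorem deg_nonneg_of_rightExact (hreg : ∀ x : C, IsRegularLocalRing (C.presheaf.stalk x))
    (hdim : topologicalKrullDim C = 1)
    {A B D M : C.Modules} (a : A ⟶ B) (b : B ⟶ D) (w : a ≫ b = 0)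
    (hex : (ShortComplex.mk a b w).Exact) [Epi b]
    (hA : FlatMod.IsFinLocFree A) (hM : PicF.IsInvertible M) (q : B ⟶ M) [Epi q]
    (h₁ : ∀ (N : C.Modules), PicF.IsInvertible N → ∀ (p : A ⟶ N), Epi p → 0 ≤ Curv2.deg k C N 1)
    (h₃ : ∀ (N : C.Modules), PicF.IsInvertible N → ∀ (p : D ⟶ N), Epi p → 0 ≤ Curv2.deg k C N 1) :
    0 ≤ Curv2.deg k C M 1 := by
  haveI : IsLocallyNoetherian C :=
    LocallyOfFiniteType.isLocallyNoetherian (C ↘ Spec (CommRingCat.of k))
  haveI : Nonempty C := inferInstance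
  have hM1 := FLFH8.finLocFreeOfRank_one_of_isInvertible hM
  by_cases h0 : a ≫ q = 0
  · haveI : Epi (ShortComplex.mk a b w).g := ‹Epi b›
    have hcok := hex.gIsCokernel
    obtain ⟨q', hq'⟩ : ∃ q' : D ⟶ M, b ≫ q' = q :=
      ⟨hcok.desc (CokernelCofork.ofπ q h0), hcok.fac _ WalkingParallelPair.one⟩
    haveI : Epi (b ≫ q') := by rw [hq']; infer_instance
    haveI : Epi q' := epi_of_epi b q'
    exact h₃ M hM q' inferInstance
  · obtain ⟨rA, hrA⟩ := VBCurve.exists_rank hA
    obtain ⟨rK, rI, hK, hI, hr, hrI, -, -⟩ := VBCurve.exists_kerIm_data k C hreg hdim.le (a ≫ q) h0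
      hrA (FLFH8.IsFinLocFreeOfRank.isFinLocFree _ hM1)
    have hle := CurveSub.rank_le_of_mono (Abelian.image.ι (a ≫ q)) hI hM1
    have h1 : rI = 1 := by omega
    subst h1
    have hIinv := CurveG12.isInvertible_of_rank_one hI
    have h2 := h₁ _ hIinv (Abelian.factorThruImage (a ≫ q)) inferInstance
    have h3 := (VBCurve.deg_le_of_mono_same_rank k C hdim (Abelian.image.ι (a ≫ q)) hI hM1).1
    linarith

end Curve

section Main

variable (k : Type u) [Field k] (X : Scheme.{u}) [X.Over (Spec (CommRingCat.of k))]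

/-- **statement of S17280** -/
theorem main (S : ShortComplex X.Modules) (hS : S.ShortExact)
    (h₁ : FlatMod.IsFinLocFree S.X₁)
    (hnef₁ : ∀ (C : Scheme.{u}) [C.Over (Spec (CommRingCat.of k))]
      [IsProper (C ↘ (Spec (CommRingCat.of k)))] [IsIntegral C],
      topologicalKrullDim C = 1 → (∀ x : C, IsRegularLocalRing (C.presheaf.stalk x)) →
      ∀ (f : C ⟶ X), f ≫ (X ↘ (Spec (CommRingCat.of k))) = C ↘ (Spec (CommRingCat.of k)) →
      ∀ (M : C.Modules), PicF.IsInvertible M →
      ∀ (q : (Scheme.Modules.pullback f).obj S.X₁ ⟶ M), Epi q → 0 ≤ Curv2.deg k C M 1)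
    (hnef₃ : ∀ (C : Scheme.{u}) [C.Over (Spec (CommRingCat.of k))]
      [IsProper (C ↘ (Spec (CommRingCat.of k)))] [IsIntegral C],
      topologicalKrullDim C = 1 → (∀ x : C, IsRegularLocalRing (C.presheaf.stalk x)) →
      ∀ (f : C ⟶ X), f ≫ (X ↘ (Spec (CommRingCat.of k))) = C ↘ (Spec (CommRingCat.of k)) →
      ∀ (M : C.Modules), PicF.IsInvertible M →
      ∀ (q : (Scheme.Modules.pullback f).obj S.X₃ ⟶ M), Epi q → 0 ≤ Curv2.deg k C M 1) :
    ∀ (C : Scheme.{u}) [C.Over (Spec (CommRingCat.of k))]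
      [IsProper (C ↘ (Spec (CommRingCat.of k)))] [IsIntegral C],
    topologicalKrullDim C = 1 → (∀ x : C, IsRegularLocalRing (C.presheaf.stalk x)) →
    ∀ (f : C ⟶ X), f ≫ (X ↘ (Spec (CommRingCat.of k))) = C ↘ (Spec (CommRingCat.of k)) →
    ∀ (M : C.Modules), PicF.IsInvertible M →
    ∀ (q : (Scheme.Modules.pullback f).obj S.X₂ ⟶ M), Epi q → 0 ≤ Curv2.deg k C M 1 := by
  intro C _ _ _ hdim hreg f hf M hM q hq
  haveI := hq
  haveI := hS.epi_g
  have hex : (S.map (Scheme.Modules.pullback f)).Exact :=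
    hS.exact.map_of_epi_of_preservesCokernel (Scheme.Modules.pullback f) hS.epi_g inferInstance
  haveI : Epi ((Scheme.Modules.pullback f).map S.g) := inferInstance
  exact deg_nonneg_of_rightExact k C hreg hdim ((Scheme.Modules.pullback f).map S.f)
    ((Scheme.Modules.pullback f).map S.g) (S.map (Scheme.Modules.pullback f)).zero hex
    (PBH8.isFinLocFree_pullback f h₁) hM q
    (fun N hN p hp => hnef₁ C hdim hreg f hf N hN p hp)
    (fun N hN p hp => hnef₃ C hdim hreg f hf N hN p hp)

end Main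

end NefSES
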