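import Mathlib
import Groth.Prelude.Def_GrLC
import Groth.Prelude.Def_GrLC2
import Groth.Prelude.Def_CAlg
import Groth.Prelude.Def_Wider
import Groth.Agent.Lib.GrEG13_helper1
import Groth.Agent.Lib.AInvPoly_helper1
import Groth.Agent.Lib.GrHS4_helper1
import Groth.Agent.Lib.AInv_helper1
import Groth.Agent.Lib.GorTop2_helper1
import Groth.Agent.Lib.GrConv_helper1

/-! `a(R) ≥ -dim R` for standard graded CM rings over an Artinian base (helper1, S17771):
`R` is generated in degrees `≤ reg R`, so `reg R ≥ 0`. -/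

set_option autoImplicit false

namespace Groth.Agent.Lib.NegDimH1

open DirectSum GrLC Groth.Agent.Lib.GrStarH1 Groth.Agent.Lib.GrHS3H1 Groth.Agent.Lib.AInvPolyH1

universe u

theorem main17771 (R : Type u) [CommRing R] [hCM : LocCoh.IsCohenMacaulayRing R]
    (𝒜 : ℤ → AddSubgroup R) [GradedRing 𝒜] (hpos : ∀ n : ℤ, n < 0 → 𝒜 n = ⊥)
    (hstd : Ideal.span (⋃ n ∈ Set.Ioi (0 : ℤ), (𝒜 n : Set R)) =
      Ideal.span ((𝒜 1 : AddSubgroup R) : Set R)) [IsArtinianRing (GrLC.deg0 𝒜)]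
    (m : HomogeneousIdeal 𝒜) (hm : GrLC.IsStarLocal 𝒜 m) (d : ℕ) (hd : ringKrullDim R = d)
    (I : GrLC.StarInjRes 𝒜 𝒜) :
    (((-(d : ℤ) : ℤ) : WithTop ℤ) : WithBot (WithTop ℤ)) ≤ GrLC.endDeg (I.Hgr m d) := by
  classical
  haveI : IsNoetherianRing R := hCM.toIsNoetherian
  by_contra hcon
  have hht : m.toIdeal.height = d := by
    have h1 := Groth.Agent.Lib.GrHS4H1.ringKrullDim_eq_height_art 𝒜 hpos m hm
    rw [hd] at h1
    exact (WithBot.coe_injective h1).symm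
  have hvan_d : ∀ n : ℤ, -(d : ℤ) ≤ n → I.Hgr m d n = ⊥ := by
    intro n hn
    by_contra hne
    apply hcon
    have h1 : ((n : WithTop ℤ) : WithBot (WithTop ℤ)) ≤ endDeg (I.Hgr m d) :=
      le_iSup₂ (f := fun (k : ℤ) (_ : I.Hgr m d k ≠ ⊥) =>
        ((k : WithTop ℤ) : WithBot (WithTop ℤ))) n hne
    exact le_trans (WithBot.coe_le_coe.2 (WithTop.coe_le_coe.2 hn)) h1
  have hsub : ∀ i : ℕ, i ≠ d → Subsingleton (I.H m i) := by
    intro i hi
    rcases lt_or_gt_of_ne hi with h | h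
    · exact Groth.Agent.Lib.AInvH1.H_subsingleton_of_lt 𝒜 m hm d hht I i h
    · exact Groth.Agent.Lib.GorTop2H1.H_subsingleton_of_gt 𝒜 m hm d hht I i h
  have hgam : ∀ i, gam m.toIdeal (I.X i).carrier = gam (Rp 𝒜).toIdeal (I.X i).carrier :=
    fun i => gam_eq 𝒜 hpos hm _
  have hhom : (Rp 𝒜).toIdeal = Ideal.span ((𝒜 1 : AddSubgroup R) : Set R) := hstd
  have hreg : (⨆ i : ℕ, endDeg (I.Hgr (Rp 𝒜) i) + ((i : ℤ) : WithTop ℤ)) ≤
      (((-1 : ℤ) : WithTop ℤ) : WithBot (WithTop ℤ)) := by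
    refine iSup_le fun i => ?_
    rw [Groth.Agent.Lib.GrConvH1.endDeg_add_le_iff]
    intro n hn
    apply Hgr_eq_bot_of_gam_eq I m (Rp 𝒜) hgam i n
    by_cases hi : i = d
    · subst hi
      exact hvan_d n (by omega)
    · haveI := hsub i hi
      rw [eq_bot_iff]
      intro w _
      rw [AddSubgroup.mem_bot]
      exact Subsingleton.elim _ _
  have hgen := Groth.Agent.Lib.GrEG13H1.gen_of_reg_le R 𝒜 hpos (Rp 𝒜) hhom R 𝒜 I (-1) hreg
  have hbot : Submodule.span R (⋃ (n : ℤ) (_ : n ≤ -1), (𝒜 n : Set R)) = ⊥ := by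
    rw [Submodule.span_eq_bot]
    intro y hy
    simp only [Set.mem_iUnion] at hy
    obtain ⟨n, hn, hy⟩ := hy
    rw [hpos n (by omega)] at hy
    exact hy
  rw [hbot] at hgen
  have h1 : (1 : R) ∈ (⊥ : Submodule R R) := by
    rw [hgen]
    exact Submodule.mem_top
  have h2 : (1 : R) = 0 := (Submodule.mem_bot R).1 h1
  exact one_notMem 𝒜 hm (by rw [h2]; exact m.toIdeal.zero_mem)

end Groth.Agent.Lib.NegDimH1
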