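import Mathlib

/-!
# Maps from negative objects to the top cohomology (helper9)
-/

open CategoryTheory CategoryTheory.Limits

namespace Groth.Agent.Lib.NegTop

universe w v u

variable {A : Type u} [Category.{v} A] [Abelian A] [HasDerivedCategory.{w} A]

open DerivedCategory

theorem main (hneg : ∀ X : A, ∃ (N : A) (p : N ⟶ X), Epi p ∧ ∀ f : X ⟶ N, f = 0)
    (X X' : DerivedCategory A) (f : X ⟶ X') (b : ℤ) [X.IsLE b] [X'.IsLE (b - 1)] :
    ∃ (N : A) (g : (DerivedCategory.singleFunctor A b).obj N ⟶ X),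
      Epi ((DerivedCategory.homologyFunctor A b).map g) ∧
        (∀ φ : (DerivedCategory.homologyFunctor A b).obj X ⟶ N, φ = 0) ∧ g ≫ f = 0 := by
  obtain ⟨K, hK, ⟨eX⟩⟩ := X.exists_iso_Q_obj_of_isLE b
  obtain ⟨K', hK', ⟨eX'⟩⟩ := X'.exists_iso_Q_obj_of_isLE (b - 1)
  obtain ⟨K'', hK'', s, hs, φ, hφ⟩ := right_fac_of_isStrictlyLE (eX.inv ≫ f ≫ eX'.hom) b
  haveI := hs
  obtain ⟨N, p, hp, hN⟩ := hneg (K''.X b)
  haveI := hp
  have hz : IsZero (K''.X (b + 1)) := K''.isZero_of_isStrictlyLE b (b + 1) (by omega)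
  have hz' : IsZero (K'.X b) := K'.isZero_of_isStrictlyLE (b - 1) b (by omega)
  let g₀ : (HomologicalComplex.single A (ComplexShape.up ℤ) b).obj N ⟶ K'' :=
    HomologicalComplex.mkHomFromSingle p (fun k hk => by
      obtain rfl : b + 1 = k := hk
      exact hz.eq_of_tgt _ _)
  haveI hS : IsIso (((HomologicalComplex.single A (ComplexShape.up ℤ) b).obj N).iCycles b) :=
    HomologicalComplex.isIso_iCycles _ b (b + 1) (by simp) (by simp)
  haveI hK''i : IsIso (K''.iCycles b) :=
    HomologicalComplex.isIso_iCycles _ b (b + 1) (by simp) (hz.eq_of_tgt _ _)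
  have hg₀f : g₀.f b = (HomologicalComplex.singleObjXSelf (ComplexShape.up ℤ) b N).hom ≫ p :=
    HomologicalComplex.mkHomFromSingle_f _ _
  have hcyc : Epi (HomologicalComplex.cyclesMap g₀ b) := by
    have h1 : HomologicalComplex.cyclesMap g₀ b ≫ K''.iCycles b =
        ((HomologicalComplex.single A (ComplexShape.up ℤ) b).obj N).iCycles b ≫ g₀.f b :=
      HomologicalComplex.cyclesMap_i g₀ b
    have h3 : HomologicalComplex.cyclesMap g₀ b =
        (((HomologicalComplex.single A (ComplexShape.up ℤ) b).obj N).iCycles b ≫ g₀.f b) ≫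
          inv (K''.iCycles b) := (IsIso.eq_comp_inv _).2 h1
    rw [h3, hg₀f]
    exact epi_comp' (epi_comp' (IsIso.epi_of_iso _) (epi_comp' (IsIso.epi_of_iso _) hp))
      (IsIso.epi_of_iso _)
  have hhom : Epi (HomologicalComplex.homologyMap g₀ b) := by
    haveI := hcyc
    haveI : Epi (HomologicalComplex.cyclesMap g₀ b ≫ K''.homologyπ b) :=
      epi_comp' hcyc inferInstance
    exact epi_of_epi_fac (HomologicalComplex.homologyπ_naturality g₀ b)
  have e1 : Epi ((DerivedCategory.homologyFunctor A b).map (Q.map g₀)) := by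
    have h3 : (DerivedCategory.homologyFunctor A b).map (Q.map g₀) =
        (homologyFunctorFactors A b).hom.app
          ((HomologicalComplex.single A (ComplexShape.up ℤ) b).obj N) ≫
          HomologicalComplex.homologyMap g₀ b ≫ (homologyFunctorFactors A b).inv.app K'' :=
      (NatIso.naturality_2 (homologyFunctorFactors A b) g₀).symm
    rw [h3]
    exact epi_comp' (IsIso.epi_of_iso _) (epi_comp' hhom
      (inferInstance : Epi ((homologyFunctorFactors A b).app K'').inv))
  let g₁ : (CochainComplex.singleFunctor A b).obj N ⟶ K'' := g₀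
  have e1' : Epi ((DerivedCategory.homologyFunctor A b).map (Q.map g₁)) := e1
  refine ⟨N, (singleFunctorIsoCompQ A b).hom.app N ≫ Q.map g₁ ≫ Q.map s ≫ eX.inv, ?_, ?_, ?_⟩
  · rw [Functor.map_comp, Functor.map_comp, Functor.map_comp]
    exact epi_comp' (IsIso.epi_of_iso _) (epi_comp' e1'
      (epi_comp' (IsIso.epi_of_iso _) (IsIso.epi_of_iso _)))
  · intro ψ
    have hπ : Epi ((inv (K''.iCycles b) ≫ K''.homologyπ b) ≫
        (homologyFunctorFactors A b).inv.app K'' ≫
          (DerivedCategory.homologyFunctor A b).map (Q.map s ≫ eX.inv)) :=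
      epi_comp' (epi_comp' (IsIso.epi_of_iso _) inferInstance)
        (epi_comp' (inferInstance : Epi ((homologyFunctorFactors A b).app K'').inv)
          (IsIso.epi_of_iso _))
    rw [← cancel_epi ((inv (K''.iCycles b) ≫ K''.homologyπ b) ≫
        (homologyFunctorFactors A b).inv.app K'' ≫
          (DerivedCategory.homologyFunctor A b).map (Q.map s ≫ eX.inv)), comp_zero]
    exact hN _
  · have hf : f = eX.hom ≫ (eX.inv ≫ f ≫ eX'.hom) ≫ eX'.inv := by simp
    have h0 : g₁ ≫ φ = 0 := by
      apply HomologicalComplex.from_single_hom_ext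
      exact hz'.eq_of_tgt _ _
    rw [hf, hφ]
    simp only [Category.assoc, Iso.inv_hom_id_assoc, IsIso.hom_inv_id_assoc]
    rw [← Functor.map_comp_assoc, h0, Functor.map_zero, zero_comp, comp_zero]

end Groth.Agent.Lib.NegTop
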