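import Mathlib
import Groth.Prelude.Def_Neron

set_option autoImplicit false
set_option linter.style.haveILetI false
universe u v
open CategoryTheory CategoryTheory.Limits AlgebraicGeometry
open scoped nonZeroDivisors

namespace Groth.Agent.Lib.NeronBC2H4

section Cat
variable {C : Type u} [Category.{v} C] [HasPullbacks C]

/-- a morphism into a base-changed object is determined by its first component -/
theorem hom_ext_pullback {S S' : C} (f : S' ⟶ S) (N : Over S) {Z : Over S'}
    (g₁ g₂ : Z ⟶ (Over.pullback f).obj N)
    (h : g₁.left ≫ pullback.fst N.hom f = g₂.left ≫ pullback.fst N.hom f) : g₁ = g₂ := by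
  apply Over.OverMorphism.ext
  apply pullback.hom_ext h
  have h1 := Over.w g₁
  have h2 := Over.w g₂
  exact h1.trans h2.symm

theorem pullback_map_left_fst {S T : C} (f : T ⟶ S) {X Y : Over S}
    (k : X ⟶ Y) : ((Over.pullback f).map k).left ≫ pullback.fst Y.hom f = pullback.fst X.hom f ≫ k.left :=
  (congrArg (· ≫ pullback.fst Y.hom f) (Over.pullback_map_left f X)).trans (pullback.lift_fst _ _ _)

theorem bijective_bc_of_isPullback {S S' T T' : C} {f : S' ⟶ S} {ι : T ⟶ S} {ι' : T' ⟶ S'} {fK : T' ⟶ T}
    (sq : IsPullback ι' fK f ι) (N : Over S) (Y' : Over S')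
    (h : Function.Bijective (fun g : (Over.map f).obj Y' ⟶ N => (Over.pullback ι).map g)) :
    Function.Bijective (fun g : Y' ⟶ (Over.pullback f).obj N => (Over.pullback ι').map g) := by
  -- the comparison of generic fibres
  have big : IsPullback (pullback.fst Y'.hom ι') (pullback.snd Y'.hom ι' ≫ fK) (Y'.hom ≫ f) ι :=
    (IsPullback.of_hasPullback Y'.hom ι').paste_vert sq
  obtain ⟨θ, hθ⟩ : ∃ θ : pullback Y'.hom ι' ≅ pullback ((Over.map f).obj Y').hom ι,
      θ = big.isoPullback := ⟨_, rfl⟩
  have hθ1 : θ.hom ≫ pullback.fst ((Over.map f).obj Y').hom ι = pullback.fst Y'.hom ι' := by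
    rw [hθ]; exact big.isoPullback_hom_fst
  have hθ2 : θ.hom ≫ pullback.snd ((Over.map f).obj Y').hom ι = pullback.snd Y'.hom ι' ≫ fK := by
    rw [hθ]; exact big.isoPullback_hom_snd
  -- transposition
  have tr : ∀ g : Y' ⟶ (Over.pullback f).obj N, ∃ gt : (Over.map f).obj Y' ⟶ N,
      gt.left = g.left ≫ pullback.fst N.hom f := by
    intro g
    refine ⟨Over.homMk (g.left ≫ pullback.fst N.hom f) ?_, rfl⟩
    have := Over.w g
    change g.left ≫ pullback.snd N.hom f = Y'.hom at this
    change (g.left ≫ pullback.fst N.hom f) ≫ N.hom = Y'.hom ≫ f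
    rw [Category.assoc, pullback.condition, ← Category.assoc, this]
  constructor
  · -- injectivity
    intro g₁ g₂ h12
    change (Over.pullback ι').map g₁ = (Over.pullback ι').map g₂ at h12
    obtain ⟨gt₁, h1⟩ := tr g₁
    obtain ⟨gt₂, h2⟩ := tr g₂
    have key : (Over.pullback ι).map gt₁ = (Over.pullback ι).map gt₂ := by
      apply hom_ext_pullback
      rw [← cancel_epi θ.hom]
      rw [pullback_map_left_fst, pullback_map_left_fst, ← Category.assoc, ← Category.assoc, hθ1, h1, h2]
      have e : ((Over.pullback ι').map g₁).left ≫ pullback.fst _ _ ≫ pullback.fst N.hom f =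
          ((Over.pullback ι').map g₂).left ≫ pullback.fst _ _ ≫ pullback.fst N.hom f := by rw [h12]
      rw [← Category.assoc, ← Category.assoc, pullback_map_left_fst, pullback_map_left_fst] at e
      simpa only [Category.assoc] using e
    have : gt₁ = gt₂ := h.1 key
    apply hom_ext_pullback
    rw [← h1, ← h2, this]
  · -- surjectivity
    intro hh
    have hhw : hh.left ≫ pullback.snd (pullback.snd N.hom f) ι' = pullback.snd Y'.hom ι' := Over.w hh
    have hcond : (pullback.fst (pullback.snd N.hom f) ι' ≫ pullback.fst N.hom f) ≫ N.hom =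
        (pullback.snd (pullback.snd N.hom f) ι' ≫ fK) ≫ ι := by
      rw [Category.assoc, pullback.condition, ← Category.assoc, pullback.condition, Category.assoc, sq.w,
        Category.assoc]
    obtain ⟨ρ, hρ1, hρ2⟩ : ∃ ρ : pullback (pullback.snd N.hom f) ι' ⟶ pullback N.hom ι,
        ρ ≫ pullback.fst N.hom ι = pullback.fst (pullback.snd N.hom f) ι' ≫ pullback.fst N.hom f ∧
        ρ ≫ pullback.snd N.hom ι = pullback.snd (pullback.snd N.hom f) ι' ≫ fK :=
      ⟨pullback.lift _ _ hcond, pullback.lift_fst _ _ _, pullback.lift_snd _ _ _⟩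
    have hθinv : θ.inv ≫ pullback.snd Y'.hom ι' ≫ fK = pullback.snd ((Over.map f).obj Y').hom ι := by
      rw [← hθ2, Iso.inv_hom_id_assoc]
    obtain ⟨ht, hht⟩ : ∃ ht : (Over.pullback ι).obj ((Over.map f).obj Y') ⟶ (Over.pullback ι).obj N,
        ht.left = θ.inv ≫ hh.left ≫ ρ := by
      refine ⟨Over.homMk (θ.inv ≫ hh.left ≫ ρ) ?_, rfl⟩
      change (θ.inv ≫ hh.left ≫ ρ) ≫ pullback.snd N.hom ι = pullback.snd ((Over.map f).obj Y').hom ι
      rw [Category.assoc, Category.assoc, hρ2, ← Category.assoc hh.left, hhw, hθinv]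
    obtain ⟨gt, hgt⟩ := h.2 ht
    change (Over.pullback ι).map gt = ht at hgt
    have hgtw : gt.left ≫ N.hom = Y'.hom ≫ f := Over.w gt
    obtain ⟨g, hg⟩ : ∃ g : Y' ⟶ (Over.pullback f).obj N, g.left = pullback.lift gt.left Y'.hom hgtw :=
      ⟨Over.homMk (pullback.lift gt.left Y'.hom hgtw) (pullback.lift_snd _ _ _), rfl⟩
    refine ⟨g, ?_⟩
    change (Over.pullback ι').map g = hh
    apply hom_ext_pullback
    rw [pullback_map_left_fst]
    apply pullback.hom_ext
    · -- first components
      have e1 : ((Over.pullback ι).map gt).left ≫ pullback.fst N.hom ι =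
          pullback.fst ((Over.map f).obj Y').hom ι ≫ gt.left := pullback_map_left_fst ι gt
      rw [hgt, hht] at e1
      have e2 := congrArg (fun t => θ.hom ≫ t) e1
      simp only [Category.assoc, Iso.hom_inv_id_assoc] at e2
      rw [hρ1, ← Category.assoc θ.hom, hθ1] at e2
      rw [Category.assoc, hg, pullback.lift_fst, ← e2, Category.assoc]
      rfl
    · -- second components
      rw [Category.assoc, hg, pullback.lift_snd, Category.assoc]
      have : pullback.fst ((Over.pullback f).obj N).hom ι' ≫ pullback.snd N.hom f =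
          pullback.snd ((Over.pullback f).obj N).hom ι' ≫ ι' := pullback.condition
      have hhw' : hh.left ≫ pullback.snd ((Over.pullback f).obj N).hom ι' = pullback.snd Y'.hom ι' := hhw
      rw [this, ← Category.assoc, hhw']
      exact pullback.condition

end Cat

section Alg
variable (R R' : Type u) [CommRing R] [IsDedekindDomain R]
    [CommRing R'] [IsDedekindDomain R'] [Algebra R R'] [Module.Finite R R'] [Algebra.Etale R R']

theorem isPullback_genPt :
    ∃ fK : Spec (CommRingCat.of (FractionRing R')) ⟶ Spec (CommRingCat.of (FractionRing R)),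
      IsPullback (Neron.genPt R') fK (Spec.map (CommRingCat.ofHom (algebraMap R R'))) (Neron.genPt R) := by
  haveI : FaithfulSMul R (FractionRing R') := inferInstance
  letI : Algebra (FractionRing R) (FractionRing R') := FractionRing.liftAlgebra R (FractionRing R')
  haveI : IsScalarTower R (FractionRing R) (FractionRing R') := FractionRing.isScalarTower_liftAlgebra R _
  haveI : IsIntegralClosure R' R (FractionRing R') := IsIntegralClosure.of_isIntegrallyClosed _ _ _
  haveI : Algebra.IsAlgebraic (FractionRing R) (FractionRing R') :=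
    isAlgebraic_of_isFractionRing R R' _ _
  haveI : IsLocalization (Algebra.algebraMapSubmonoid R' R⁰) (FractionRing R') :=
    IsIntegralClosure.isLocalization R (FractionRing R) (FractionRing R') R'
  haveI : IsLocalization (Submonoid.map (algebraMap R R') R⁰) (FractionRing R') :=
    ‹IsLocalization (Algebra.algebraMapSubmonoid R' R⁰) (FractionRing R')›
  refine ⟨Spec.map (CommRingCat.ofHom (algebraMap (FractionRing R) (FractionRing R'))), ?_⟩
  have hpo := CommRingCat.isPushout_of_isLocalization (algebraMap R R')
    (algebraMap (FractionRing R) (FractionRing R')) (by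
      ext x
      simp only [RingHom.comp_apply]
      rw [← IsScalarTower.algebraMap_apply, ← IsScalarTower.algebraMap_apply]) R⁰
  exact (isPullback_SpecMap_of_isPushout _ _ _ _ hpo)

theorem main11103 (N : Over (Spec (CommRingCat.of R)))
    (hN : Neron.IsNeronModelOf R N ((Neron.genericFibre R).obj N) (Iso.refl _)) :
    Neron.IsNeronModelOf R'
      ((Over.pullback (Spec.map (CommRingCat.ofHom (algebraMap R R')))).obj N)
      ((Neron.genericFibre R').obj ((Over.pullback (Spec.map (CommRingCat.ofHom (algebraMap R R')))).obj N))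
      (Iso.refl _) := by
  obtain ⟨hs, hsep, hlft, hqc, hmap⟩ := hN
  obtain ⟨fK, sq⟩ := isPullback_genPt R R'
  haveI : Etale (Spec.map (CommRingCat.ofHom (algebraMap R R'))) := by
    rw [HasRingHomProperty.Spec_iff (P := @Etale)]
    exact RingHom.etale_algebraMap.mpr inferInstance
  refine ⟨?_, ?_, ?_, ?_, fun Y' hY' => ?_⟩
  · exact MorphismProperty.pullback_snd _ _ hs
  · exact MorphismProperty.pullback_snd _ _ hsep
  · exact MorphismProperty.pullback_snd _ _ hlft
  · exact MorphismProperty.pullback_snd _ _ hqc
  · haveI : Smooth Y'.hom := hY'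
    have hsm : Smooth ((Over.map (Spec.map (CommRingCat.ofHom (algebraMap R R')))).obj Y').hom := by
      change Smooth (Y'.hom ≫ Spec.map (CommRingCat.ofHom (algebraMap R R')))
      infer_instance
    have h1 := hmap _ hsm
    have h2 : Function.Bijective (fun g : (Over.map (Spec.map (CommRingCat.ofHom (algebraMap R R')))).obj Y' ⟶ N =>
        (Over.pullback (Neron.genPt R)).map g) := by
      convert h1 using 2
      exact (Category.comp_id _).symm
    have h3 := bijective_bc_of_isPullback sq N Y' h2
    convert h3 using 2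
    exact Category.comp_id _

end Alg

end Groth.Agent.Lib.NeronBC2H4
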