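import Mathlib
import Groth.Prelude.Def_CInt

set_option autoImplicit false
set_option linter.style.haveILetI false

universe u

open CategoryTheory CategoryTheory.Limits AlgebraicGeometry

namespace Groth.Agent.Lib.NeronBCH4

lemma map_left_fst {X Y : Scheme.{u}} (f : X ⟶ Y) {A B : Over Y} (k : A ⟶ B) :
    ((Over.pullback f).map k).left ≫ pullback.fst B.hom f = pullback.fst A.hom f ≫ k.left :=
  pullback.lift_fst _ _ _

lemma map_left_snd {X Y : Scheme.{u}} (f : X ⟶ Y) {A B : Over Y} (k : A ⟶ B) :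
    ((Over.pullback f).map k).left ≫ pullback.snd B.hom f = pullback.snd A.hom f :=
  pullback.lift_snd _ _ _

section

variable {S S' : Scheme.{u}} (g : S' ⟶ S) (U : S.Opens) (N : Over S) (Y' : Over S')

lemma range_eq : Set.range (pullback.fst (Y'.hom ≫ g) U.ι) =
    Set.range (pullback.fst Y'.hom (g ⁻¹ᵁ U).ι) := by
  rw [Scheme.Pullback.range_fst, Scheme.Pullback.range_fst, Scheme.Opens.range_ι,
    Scheme.Opens.range_ι]
  ext x
  simp only [Set.mem_preimage, Scheme.Hom.comp_apply]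
  rfl

/-- The iso between the two descriptions of the restriction of `Y'` over `g⁻¹ U`. -/
noncomputable def kIso : pullback (Y'.hom ≫ g) U.ι ≅ pullback Y'.hom (g ⁻¹ᵁ U).ι :=
  IsOpenImmersion.isoOfRangeEq (pullback.fst (Y'.hom ≫ g) U.ι)
    (pullback.fst Y'.hom (g ⁻¹ᵁ U).ι) (range_eq g U Y')

lemma kIso_hom_fst : (kIso g U Y').hom ≫ pullback.fst Y'.hom (g ⁻¹ᵁ U).ι =
    pullback.fst (Y'.hom ≫ g) U.ι :=
  IsOpenImmersion.isoOfRangeEq_hom_fac _ _ _

/-- transfer along the adjunction -/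
noncomputable def tilde (f : Y' ⟶ (Over.pullback g).obj N) : Over.mk (Y'.hom ≫ g) ⟶ N :=
  Over.homMk (f.left ≫ pullback.fst N.hom g) (by
    have h := Over.w f
    simp only [Over.pullback_obj_hom] at h
    rw [Category.assoc, pullback.condition, ← Category.assoc, h]
    rfl)

lemma tilde_left (f : Y' ⟶ (Over.pullback g).obj N) :
    (tilde g N Y' f).left = f.left ≫ pullback.fst N.hom g := rfl

lemma eq_of_tilde_eq (f₁ f₂ : Y' ⟶ (Over.pullback g).obj N)
    (h : tilde g N Y' f₁ = tilde g N Y' f₂) : f₁ = f₂ := by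
  apply Over.OverMorphism.ext
  have h1 := Over.w f₁
  have h2 := Over.w f₂
  simp only [Over.pullback_obj_hom] at h1 h2
  apply pullback.hom_ext
  · have := congrArg (fun k => k.left) h
    simpa only [tilde_left] using this
  · rw [h1, h2]

lemma restrict_fst (f : Y' ⟶ (Over.pullback g).obj N) :
    ((Over.pullback (g ⁻¹ᵁ U).ι).map f).left ≫
      pullback.fst (pullback.snd N.hom g) (g ⁻¹ᵁ U).ι =
    pullback.fst Y'.hom (g ⁻¹ᵁ U).ι ≫ f.left :=
  map_left_fst (g ⁻¹ᵁ U).ι f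

lemma tilde_restrict_eq (f₁ f₂ : Y' ⟶ (Over.pullback g).obj N)
    (h : (Over.pullback (g ⁻¹ᵁ U).ι).map f₁ = (Over.pullback (g ⁻¹ᵁ U).ι).map f₂) :
    (Over.pullback U.ι).map (tilde g N Y' f₁) = (Over.pullback U.ι).map (tilde g N Y' f₂) := by
  have hQ : pullback.fst Y'.hom (g ⁻¹ᵁ U).ι ≫ f₁.left =
      pullback.fst Y'.hom (g ⁻¹ᵁ U).ι ≫ f₂.left := by
    rw [← restrict_fst, ← restrict_fst, h]
  have hP : pullback.fst (Y'.hom ≫ g) U.ι ≫ f₁.left =
      pullback.fst (Y'.hom ≫ g) U.ι ≫ f₂.left := by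
    rw [← kIso_hom_fst, Category.assoc, hQ, Category.assoc]
  apply Over.OverMorphism.ext
  refine pullback.hom_ext (f := N.hom) (g := U.ι) ?_ ?_
  · rw [map_left_fst, map_left_fst, tilde_left, tilde_left]
    show pullback.fst (Y'.hom ≫ g) U.ι ≫ f₁.left ≫ _ = pullback.fst (Y'.hom ≫ g) U.ι ≫ f₂.left ≫ _
    rw [← Category.assoc, hP, Category.assoc]
  · rw [map_left_snd, map_left_snd]

end

theorem main17731 {S S' : Scheme.{u}} (g : S' ⟶ S) [Smooth g]
    (U : S.Opens) (hU : CInt.IsSchematicallyDense U) (N : Over S) [Smooth N.hom]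
    (hN : ∀ Y : Over S, Smooth Y.hom →
      Function.Injective (fun f : Y ⟶ N => (Over.pullback U.ι).map f))
    (Y' : Over S') [Smooth Y'.hom] :
    Function.Injective (fun f : Y' ⟶ (Over.pullback g).obj N =>
      (Over.pullback (g ⁻¹ᵁ U).ι).map f) := by
  intro f₁ f₂ h
  have hsm : Smooth (Over.mk (Y'.hom ≫ g)).hom := by
    show Smooth (Y'.hom ≫ g)
    infer_instance
  exact eq_of_tilde_eq g N Y' f₁ f₂ (hN _ hsm (tilde_restrict_eq g U N Y' f₁ f₂ h))

set_option maxHeartbeats 1600000 in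
theorem main13203 {S S' : Scheme.{u}} (g : S' ⟶ S) [Smooth g]
    (U : S.Opens) (hU : CInt.IsSchematicallyDense U) (N : Over S) [Smooth N.hom]
    (hN : ∀ Y : Over S, Smooth Y.hom →
      Function.Bijective (fun f : Y ⟶ N => (Over.pullback U.ι).map f))
    (Y' : Over S') [Smooth Y'.hom] :
    Function.Bijective (fun f : Y' ⟶ (Over.pullback g).obj N =>
      (Over.pullback (g ⁻¹ᵁ U).ι).map f) := by
  refine ⟨main17731 g U hU N (fun Y hY => (hN Y hY).1) Y', ?_⟩
  intro φ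
  have hsm : Smooth (Over.mk (Y'.hom ≫ g)).hom := by
    show Smooth (Y'.hom ≫ g)
    infer_instance
  have hφw := Over.w φ
  simp only [Over.pullback_obj_hom] at hφw
  -- hφw : φ.left ≫ pullback.snd (pullback.snd N.hom g) (g⁻¹U).ι = pullback.snd Y'.hom (g⁻¹U).ι
  have hφl : φ.left ≫ pullback.snd (pullback.snd N.hom g) (g ⁻¹ᵁ U).ι =
      pullback.snd Y'.hom (g ⁻¹ᵁ U).ι := hφw
  have hcond : ((kIso g U Y').hom ≫ φ.left ≫ pullback.fst (pullback.snd N.hom g) (g ⁻¹ᵁ U).ι ≫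
      pullback.fst N.hom g) ≫ N.hom = pullback.snd (Y'.hom ≫ g) U.ι ≫ U.ι := by
    simp only [Category.assoc]
    rw [pullback.condition (f := N.hom) (g := g), pullback.condition_assoc, reassoc_of% hφl,
      ← pullback.condition_assoc, reassoc_of% (kIso_hom_fst g U Y'), ← pullback.condition]
  let ψ : (Over.pullback U.ι).obj (Over.mk (Y'.hom ≫ g)) ⟶ (Over.pullback U.ι).obj N :=
    Over.homMk (pullback.lift ((kIso g U Y').hom ≫ φ.left ≫
      pullback.fst (pullback.snd N.hom g) (g ⁻¹ᵁ U).ι ≫ pullback.fst N.hom g)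
      (pullback.snd (Y'.hom ≫ g) U.ι) hcond) (pullback.lift_snd _ _ _)
  obtain ⟨ft, hft⟩ := (hN _ hsm).2 ψ
  have hftw : ft.left ≫ N.hom = Y'.hom ≫ g := Over.w ft
  let f : Y' ⟶ (Over.pullback g).obj N :=
    Over.homMk (pullback.lift ft.left Y'.hom hftw) (pullback.lift_snd _ _ _)
  have hf1 : f.left ≫ pullback.fst N.hom g = ft.left := pullback.lift_fst _ _ _
  have hf2 : f.left ≫ pullback.snd N.hom g = Y'.hom := pullback.lift_snd _ _ _
  refine ⟨f, ?_⟩
  apply Over.OverMorphism.ext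
  have hft' : pullback.fst (Y'.hom ≫ g) U.ι ≫ ft.left = (kIso g U Y').hom ≫ φ.left ≫
      pullback.fst (pullback.snd N.hom g) (g ⁻¹ᵁ U).ι ≫ pullback.fst N.hom g := by
    have := congrArg (fun k => k.left ≫ pullback.fst N.hom U.ι) hft
    exact (map_left_fst U.ι ft).symm.trans (this.trans (pullback.lift_fst _ _ _))
  have hft'' : pullback.fst Y'.hom (g ⁻¹ᵁ U).ι ≫ ft.left = φ.left ≫
      pullback.fst (pullback.snd N.hom g) (g ⁻¹ᵁ U).ι ≫ pullback.fst N.hom g := by
    rw [← cancel_epi (kIso g U Y').hom, ← Category.assoc, kIso_hom_fst, hft']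
  show ((Over.pullback (g ⁻¹ᵁ U).ι).map f).left = φ.left
  refine pullback.hom_ext (f := pullback.snd N.hom g) (g := (g ⁻¹ᵁ U).ι) ?_ ?_
  · refine (map_left_fst (g ⁻¹ᵁ U).ι f).trans ?_
    refine pullback.hom_ext (f := N.hom) (g := g) ?_ ?_
    · rw [Category.assoc, hf1, hft'', Category.assoc]
    · rw [Category.assoc, hf2, Category.assoc]
      rw [pullback.condition (f := pullback.snd N.hom g) (g := (g ⁻¹ᵁ U).ι), reassoc_of% hφl]
      exact pullback.condition
  · exact (map_left_snd (g ⁻¹ᵁ U).ι f).trans hφl.symm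

end Groth.Agent.Lib.NeronBCH4
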