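import Mathlib
import Groth.Prelude.Def_Neron

universe u
open CategoryTheory CategoryTheory.Limits AlgebraicGeometry

namespace Groth.Agent.Lib.NeronGenExt

theorem genPt_appTop_injective (R : Type u) [CommRing R] [IsDomain R] :
    Function.Injective ((Neron.genPt R).appTop) := by
  have hnat := Scheme.ΓSpecIso_naturality (CommRingCat.ofHom (algebraMap R (FractionRing R)))
  have e : (Neron.genPt R).appTop = (Scheme.ΓSpecIso (CommRingCat.of R)).hom ≫
      CommRingCat.ofHom (algebraMap R (FractionRing R)) ≫
      (Scheme.ΓSpecIso (CommRingCat.of (FractionRing R))).inv := by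
    rw [← Category.assoc, ← hnat, Category.assoc, Iso.hom_inv_id, Category.comp_id]
  intro a b hab
  rw [e] at hab
  simp only [CommRingCat.comp_apply] at hab
  have h1 := (ConcreteCategory.bijective_of_isIso
    (Scheme.ΓSpecIso (CommRingCat.of (FractionRing R))).inv).1 hab
  have h2 := IsFractionRing.injective R (FractionRing R) h1
  exact (ConcreteCategory.bijective_of_isIso (Scheme.ΓSpecIso (CommRingCat.of R)).hom).1 h2

theorem main (R : Type u) [CommRing R] [IsDedekindDomain R]
    (X Y : Over (Spec (CommRingCat.of R))) [Flat X.hom] [IsSeparated Y.hom] (f g : X ⟶ Y)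
    (h : (Neron.genericFibre R).map f = (Neron.genericFibre R).map g) : f = g := by
  have hdom : IsDominant (Neron.genPt R) :=
    isDominant_of_of_appTop_injective (genPt_appTop_injective R)
  have hst : IsSchemeTheoreticallyDominant (Neron.genPt R) :=
    IsSchemeTheoreticallyDominant.of_isDominant _
  let ι : pullback X.hom (Neron.genPt R) ⟶ X.left := pullback.fst X.hom (Neron.genPt R)
  have hιd : IsSchemeTheoreticallyDominant ι := inferInstance
  have hι : ι ≫ f.left = ι ≫ g.left := by
    have h1 : ((Neron.genericFibre R).map f).left ≫ pullback.fst Y.hom (Neron.genPt R) =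
        ((Neron.genericFibre R).map g).left ≫ pullback.fst Y.hom (Neron.genPt R) := by rw [h]
    have e1 : ((Neron.genericFibre R).map f).left ≫ pullback.fst Y.hom (Neron.genPt R) =
        ι ≫ f.left := pullback.lift_fst _ _ _
    have e2 : ((Neron.genericFibre R).map g).left ≫ pullback.fst Y.hom (Neron.genPt R) =
        ι ≫ g.left := pullback.lift_fst _ _ _
    exact e1.symm.trans (h1.trans e2)
  let U' : Over (Spec (CommRingCat.of R)) := Over.mk (ι ≫ X.hom)
  let ι' : U' ⟶ X := Over.homMk ι rfl
  have hι' : ι' ≫ f = ι' ≫ g := by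
    ext1
    exact hι
  have hl : (equalizer.lift ι' hι').left ≫ (equalizer.ι f g).left = ι := by
    rw [← Over.comp_left, equalizer.lift_ι]
    rfl
  have hker : (equalizer.ι f g).left.ker = ⊥ := by
    have h2 := (equalizer.lift ι' hι').left.le_ker_comp (equalizer.ι f g).left
    rw [hl, IsSchemeTheoreticallyDominant.ker_eq_bot ι] at h2
    exact le_bot_iff.mp h2
  have hiso : IsIso (equalizer.ι f g).left := IsClosedImmersion.isIso_iff_ker_eq_bot.mpr hker
  ext1
  rw [← cancel_epi (equalizer.ι f g).left]
  exact congr($(equalizer.condition f g).left)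

end Groth.Agent.Lib.NeronGenExt
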