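import Groth.Statements.S18484
import Groth.Agent.Lib.NeronTorsorGen_lead
import Groth.Agent.Lib.NeronGenExt_lead

/-! # A smooth closed subscheme of a Néron model is a Néron model (lead) -/

set_option backward.isDefEq.respectTransparency false
set_option backward.isDefEq.respectTransparency.types false
set_option linter.unusedSimpArgs false
set_option linter.unusedVariables false
set_option linter.unusedSectionVars false
set_option linter.style.longLine false
set_option linter.style.haveILetI false
set_option maxHeartbeats 800000

universe u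

open CategoryTheory CategoryTheory.Limits MonoidalCategory CartesianMonoidalCategory MonObj GrpObj
  AlgebraicGeometry Opposite Topology

namespace Groth.Agent.Lib.NeronClosed

open Groth.Agent.Lib.NeronTorsorGen Groth.Agent.Lib.NeronGenExt

theorem mono_genPt (R : Type u) [CommRing R] [IsDomain R] : Mono (Neron.genPt R) := by
  haveI : Epi (CommRingCat.ofHom (algebraMap R (FractionRing R))) :=
    IsLocalization.epi (nonZeroDivisors R) (FractionRing R)
  haveI : Mono (CommRingCat.ofHom (algebraMap R (FractionRing R))).op := inferInstance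
  exact inferInstanceAs
    (Mono (Scheme.Spec.map (CommRingCat.ofHom (algebraMap R (FractionRing R))).op))

/-- A morphism from a flat `R`-scheme whose generic fibre factors through a closed immersion
factors through it. -/
theorem factor_closed (R : Type u) [CommRing R] [IsDedekindDomain R]
    (Y X G : Over (Spec (CommRingCat.of R))) [Flat Y.hom] (i : G ⟶ X) [IsClosedImmersion i.left]
    (φ : Y ⟶ X)
    (g₀ : pullback Y.hom (Neron.genPt R) ⟶ G.left)
    (h : pullback.fst Y.hom (Neron.genPt R) ≫ φ.left = g₀ ≫ i.left) :
    ∃ g : Y ⟶ G, g ≫ i = φ := by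
  have hdom : IsDominant (Neron.genPt R) :=
    isDominant_of_of_appTop_injective (genPt_appTop_injective R)
  have hst : IsSchemeTheoreticallyDominant (Neron.genPt R) :=
    IsSchemeTheoreticallyDominant.of_isDominant _
  have hιd : IsSchemeTheoreticallyDominant (pullback.fst Y.hom (Neron.genPt R)) := inferInstance
  have hl : pullback.lift (pullback.fst Y.hom (Neron.genPt R)) g₀ h ≫ pullback.fst φ.left i.left
      = pullback.fst Y.hom (Neron.genPt R) := pullback.lift_fst _ _ _
  have hker : (pullback.fst φ.left i.left).ker = ⊥ := by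
    have h2 := (pullback.lift (pullback.fst Y.hom (Neron.genPt R)) g₀ h).le_ker_comp
      (pullback.fst φ.left i.left)
    rw [hl, IsSchemeTheoreticallyDominant.ker_eq_bot (pullback.fst Y.hom (Neron.genPt R))] at h2
    exact le_bot_iff.mp h2
  haveI hiso : IsIso (pullback.fst φ.left i.left) :=
    IsClosedImmersion.isIso_iff_ker_eq_bot.mpr hker
  have hw : (inv (pullback.fst φ.left i.left) ≫ pullback.snd φ.left i.left) ≫ G.hom = Y.hom := by
    rw [← Over.w i, Category.assoc, ← Category.assoc (pullback.snd φ.left i.left),
      ← pullback.condition, Category.assoc, Over.w φ, IsIso.inv_hom_id_assoc]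
  refine ⟨Over.homMk (inv (pullback.fst φ.left i.left) ≫ pullback.snd φ.left i.left) hw, ?_⟩
  ext
  show (inv (pullback.fst φ.left i.left) ≫ pullback.snd φ.left i.left) ≫ i.left = φ.left
  rw [Category.assoc, ← pullback.condition, IsIso.inv_hom_id_assoc]

theorem main (R : Type u) [CommRing R] [IsDedekindDomain R]
    (X G : Over (Spec (CommRingCat.of R)))
    (hX : Neron.IsNeronModelOf R X ((Neron.genericFibre R).obj X) (Iso.refl _))
    (i : G ⟶ X) [IsClosedImmersion i.left] [Smooth G.hom] :
    Neron.IsNeronModelOf R G ((Neron.genericFibre R).obj G) (Iso.refl _) := by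
  obtain ⟨h1, h2, h3, h4, h5⟩ := hX
  haveI := h2
  haveI := h3
  haveI := h4
  haveI := mono_genPt R
  have hw : i.left ≫ X.hom = G.hom := Over.w i
  haveI : Mono i := by
    haveI : Mono i.left := inferInstance
    exact Over.mono_of_mono_left _
  refine ⟨inferInstance, ?_, ?_, ?_, ?_⟩
  · rw [← hw]; infer_instance
  · rw [← hw]; infer_instance
  · rw [← hw]; infer_instance
  have h5' : ∀ Z : Over (Spec (CommRingCat.of R)), Smooth Z.hom →
      ∀ gam : res (Neron.genPt R) Z ⟶ X, ∃! g : Z ⟶ X, eps (Neron.genPt R) Z ≫ g = gam := by
    intro Z hZ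
    have := h5 Z hZ
    simp only [Iso.refl_hom, Category.comp_id] at this
    exact (bij_iff (Neron.genPt R) Z X).1 this
  intro Y hY
  haveI := hY
  have goal : Function.Bijective
      (fun g : Y ⟶ G => (Over.pullback (Neron.genPt R)).map g) := by
    rw [bij_iff]
    intro gam
    obtain ⟨φ, hφ, -⟩ := h5' Y hY (gam ≫ i)
    have hφl : pullback.fst Y.hom (Neron.genPt R) ≫ φ.left = gam.left ≫ i.left :=
      congrArg (fun k => k.left) hφ
    obtain ⟨g, hg⟩ := factor_closed R Y X G i φ gam.left hφl
    refine ⟨g, ?_, ?_⟩
    · show eps (Neron.genPt R) Y ≫ g = gam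
      rw [← cancel_mono i, Category.assoc, hg, hφ]
    · intro g' hg'
      have hg'' : eps (Neron.genPt R) Y ≫ g' = gam := hg'
      rw [← cancel_mono i]
      apply (h5' Y hY (gam ≫ i)).unique
      · rw [← Category.assoc, hg'']
      · rw [hg, hφ]
  simpa only [Iso.refl_hom, Category.comp_id] using goal

end Groth.Agent.Lib.NeronClosed
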