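import Groth.Statements.S4070
import Groth.Agent.Lib.SepClosedPts_lead
import Groth.Agent.Lib.HensSm1_helper8

/-! # Component group of the special fibre of a smooth group over a strictly henselian local ring
(lead) -/

set_option backward.isDefEq.respectTransparency false
set_option backward.isDefEq.respectTransparency.types false
set_option linter.unusedSimpArgs false
set_option linter.unusedVariables false
set_option linter.unusedSectionVars false
set_option linter.style.longLine false
set_option linter.style.haveILetI false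
set_option linter.unnecessarySimpa false
set_option maxHeartbeats 800000

universe u

open CategoryTheory CategoryTheory.Limits MonoidalCategory CartesianMonoidalCategory MonObj GrpObj
  AlgebraicGeometry Opposite Topology TopologicalSpace

namespace Groth.Agent.Lib.NeronCompGrp

attribute [local instance] Curv2.resAlgebra

/-- over a separably closed field, every nonempty open of a smooth scheme contains a rational
point -/
theorem exists_ratPt_mem_open (k : Type u) [Field k] [IsSepClosed k]
    (X : Over (Spec (CommRingCat.of k))) [Smooth X.hom] (o : Set X.left) (ho : IsOpen o)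
    (hne : o.Nonempty) :
    ∃ t : Spec (CommRingCat.of k) ⟶ X.left, t ≫ X.hom = 𝟙 _ ∧ ∀ pt, t pt ∈ o := by
  letI : X.left.Over (Spec (CommRingCat.of k)) := ⟨X.hom⟩
  haveI : Smooth (X.left ↘ Spec (CommRingCat.of k)) := ‹Smooth X.hom›
  have hD := Groth.Agent.Lib.SepPts_helper6.dense_sepPts k X.left
  obtain ⟨x, hxo, -, -, hsep⟩ := hD.inter_open_nonempty o ho hne
  haveI := hsep
  let φ : X.left.residueField x →ₐ[k] k := IsSepClosed.lift
  have h1 := RatPtsH4.fromSpecResidueField_comp k X.left x
  have h2 : X.left.fromSpecResidueField x ≫ X.hom =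
      Spec.map (CommRingCat.ofHom (Curv2.resMap k X.left x)) := h1
  have h3 : CommRingCat.ofHom (Curv2.resMap k X.left x) ≫ CommRingCat.ofHom φ.toRingHom =
      𝟙 (CommRingCat.of k) := by
    ext a
    exact φ.commutes a
  refine ⟨Spec.map (CommRingCat.ofHom φ.toRingHom) ≫ X.left.fromSpecResidueField x, ?_, ?_⟩
  · rw [Category.assoc, h2, ← Spec.map_comp, h3, Spec.map_id]
  · intro pt
    rw [Scheme.Hom.comp_apply]
    have hx' : (X.left.fromSpecResidueField x) ((Spec.map (CommRingCat.ofHom φ.toRingHom)) pt) = x :=
      Scheme.fromSpecResidueField_apply x _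
    exact Set.mem_of_eq_of_mem hx' hxo

section Local

variable (R : Type u) [CommRing R] [IsLocalRing R]

theorem residue_apply (q : Spec (CommRingCat.of (IsLocalRing.ResidueField R))) :
    (Spec.map (CommRingCat.ofHom (IsLocalRing.residue R))) q = IsLocalRing.closedPoint R := by
  haveI : Subsingleton (Spec (CommRingCat.of (IsLocalRing.ResidueField R))) :=
    inferInstanceAs (Subsingleton (PrimeSpectrum (IsLocalRing.ResidueField R)))
  have hq : q = IsLocalRing.closedPoint (IsLocalRing.ResidueField R) := Subsingleton.elim _ _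
  rw [hq]
  exact IsLocalRing.comap_closedPoint (IsLocalRing.residue R)

theorem section_mem (N : Over (Spec (CommRingCat.of R)))
    (x : 𝟙_ (Over (Spec (CommRingCat.of R))) ⟶ N) :
    x.left.base (IsLocalRing.closedPoint R) ∈ SGA7.specialFibreSet R N := by
  show N.hom.base (x.left.base (IsLocalRing.closedPoint R)) = IsLocalRing.closedPoint R
  have h2 := congrArg (fun m : (𝟙_ (Over (Spec (CommRingCat.of R)))).left ⟶
    Spec (CommRingCat.of R) => m.base (IsLocalRing.closedPoint R)) (Over.w x)
  exact h2

/-- the special fibre has finitely many connected components -/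
theorem finite_range_secComp [IsNoetherianRing R] (N : Over (Spec (CommRingCat.of R)))
    [LocallyOfFiniteType N.hom] [QuasiCompact N.hom] :
    (Set.range (SGA7.secComp R N)).Finite := by
  haveI : IsNoetherianRing (CommRingCat.of R) := inferInstanceAs (IsNoetherianRing R)
  haveI : IsLocallyNoetherian N.left := LocallyOfFiniteType.isLocallyNoetherian N.hom
  haveI : CompactSpace N.left := QuasiCompact.compactSpace_of_compactSpace N.hom
  haveI : IsNoetherian N.left := {}
  haveI : NoetherianSpace N.left := inferInstance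
  obtain ⟨F, hF⟩ : ∃ F : Set N.left, F = SGA7.specialFibreSet R N := ⟨_, rfl⟩
  haveI : NoetherianSpace ↥F := inferInstance
  have hfin : (irreducibleComponents ↥F).Finite := NoetherianSpace.finite_irreducibleComponents
  classical
  let c : Set ↥F → Set N.left := fun Z =>
    if h : Z.Nonempty then connectedComponentIn F (h.some : ↥F).1 else ∅
  refine (hfin.image c).subset ?_
  rintro _ ⟨x, rfl⟩
  have hxF : x.left.base (IsLocalRing.closedPoint R) ∈ F := hF ▸ section_mem R N x
  obtain ⟨p, hp⟩ : ∃ p : ↥F, p = ⟨_, hxF⟩ := ⟨_, rfl⟩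
  have hp1 : p.1 = x.left.base (IsLocalRing.closedPoint R) := by rw [hp]
  refine ⟨irreducibleComponent p, irreducibleComponent_mem_irreducibleComponents p, ?_⟩
  have hne : (irreducibleComponent p).Nonempty := ⟨p, mem_irreducibleComponent⟩
  show c (irreducibleComponent p) = connectedComponentIn (SGA7.specialFibreSet R N) _
  rw [← hF, ← hp1]
  simp only [c, dif_pos hne]
  symm
  apply connectedComponentIn_eq
  have hpre : _root_.IsPreconnected (Subtype.val '' irreducibleComponent p) :=
    (isIrreducible_irreducibleComponent.isConnected.isPreconnected).image _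
      continuous_subtype_val.continuousOn
  exact hpre.subset_connectedComponentIn ⟨p, mem_irreducibleComponent, rfl⟩
    (by rintro _ ⟨q, -, rfl⟩; exact q.2) ⟨_, hne.some_mem, rfl⟩

/-- two sections meet the same component iff their quotient meets the unit component -/
theorem secComp_eq_iff (N : Over (Spec (CommRingCat.of R))) [GrpObj N]
    (x y : 𝟙_ (Over (Spec (CommRingCat.of R))) ⟶ N) :
    SGA7.secComp R N x = SGA7.secComp R N y ↔ x * y⁻¹ ∈ SGA7.secUnitComp R N := by
  obtain ⟨s, hs⟩ : ∃ s : ↥(𝟙_ (Over (Spec (CommRingCat.of R)))).left,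
    s = IsLocalRing.closedPoint R := ⟨_, rfl⟩
  obtain ⟨F, hF⟩ : ∃ F : Set N.left, F = SGA7.specialFibreSet R N := ⟨_, rfl⟩
  have hmem : ∀ a : 𝟙_ (Over (Spec (CommRingCat.of R))) ⟶ N, a.left.base s ∈ F := by
    intro a; rw [hs, hF]; exact section_mem R N a
  have key : ∀ (c a b : 𝟙_ (Over (Spec (CommRingCat.of R))) ⟶ N),
      a.left.base s ∈ connectedComponentIn F (b.left.base s) →
      (a * c).left.base s ∈ connectedComponentIn F ((b * c).left.base s) := by
    intro c a b hab
    obtain ⟨ρ, hρdef⟩ : ∃ ρ : N ⟶ N, ρ = 𝟙 N * (toUnit N ≫ c) := ⟨_, rfl⟩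
    have hρ : ∀ a : 𝟙_ (Over (Spec (CommRingCat.of R))) ⟶ N, a ≫ ρ = a * c := by
      intro a
      have h0 : a ≫ toUnit N = 𝟙 _ := toUnit_unique _ _
      rw [hρdef, MonObj.comp_mul, Category.comp_id, ← Category.assoc, h0, Category.id_comp]
    have hρF : ∀ w ∈ F, ρ.left.base w ∈ F := by
      intro w hw
      rw [hF] at hw ⊢
      show N.hom.base (ρ.left.base w) = IsLocalRing.closedPoint R
      have h := congrArg (fun m : N.left ⟶ Spec (CommRingCat.of R) => m.base w) (Over.w ρ)
      exact h.trans hw
    have hpre : _root_.IsPreconnected (ρ.left.base '' connectedComponentIn F (b.left.base s)) :=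
      isPreconnected_connectedComponentIn.image _ ρ.left.continuous.continuousOn
    have hsub := hpre.subset_connectedComponentIn (x := ρ.left.base (b.left.base s)) (F := F)
      ⟨_, mem_connectedComponentIn (hmem b), rfl⟩
      (by rintro _ ⟨w, hw, rfl⟩; exact hρF w (connectedComponentIn_subset _ _ hw))
    have h1 := hsub ⟨_, hab, rfl⟩
    rw [← hρ a, ← hρ b]
    exact h1
  have h1η : (1 : 𝟙_ (Over (Spec (CommRingCat.of R))) ⟶ N) = η[N] := by
    rw [Hom.one_def, show toUnit (𝟙_ (Over (Spec (CommRingCat.of R)))) = 𝟙 _ from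
      toUnit_unique _ _, Category.id_comp]
  show connectedComponentIn (SGA7.specialFibreSet R N) (x.left.base (IsLocalRing.closedPoint R)) =
      connectedComponentIn (SGA7.specialFibreSet R N) (y.left.base (IsLocalRing.closedPoint R)) ↔
    (x * y⁻¹).left.base (IsLocalRing.closedPoint R) ∈
      connectedComponentIn (SGA7.specialFibreSet R N) (η[N].left.base (IsLocalRing.closedPoint R))
  rw [← hF, ← hs]
  constructor
  · intro h
    have hx : x.left.base s ∈ connectedComponentIn F (y.left.base s) := by
      rw [← h]; exact mem_connectedComponentIn (hmem x)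
    have h2 := key y⁻¹ x y hx
    rw [_root_.mul_inv_cancel, h1η] at h2
    exact h2
  · intro h
    have h' : (x * y⁻¹).left.base s ∈
        connectedComponentIn F ((1 : 𝟙_ (Over (Spec (CommRingCat.of R))) ⟶ N).left.base s) := by
      rw [h1η]; exact h
    have h2 := key y (x * y⁻¹) 1 h'
    rw [_root_.inv_mul_cancel_right, _root_.one_mul] at h2
    exact (connectedComponentIn_eq h2).symm

end Local

/-- every point of the special fibre of a smooth quasi-compact scheme over a strictly henselian
local ring lies in a connected component met by a section -/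
theorem exists_section_secComp (R : Type u) [CommRing R] [HenselianLocalRing R]
    [IsSepClosed (IsLocalRing.ResidueField R)]
    (N : Over (Spec (CommRingCat.of R))) [Smooth N.hom] [QuasiCompact N.hom]
    (z : N.left) (hz : z ∈ SGA7.specialFibreSet R N) :
    ∃ x : 𝟙_ (Over (Spec (CommRingCat.of R))) ⟶ N, z ∈ SGA7.secComp R N x := by
  obtain ⟨ι₀, hι₀⟩ : ∃ ι₀ : Spec (CommRingCat.of (IsLocalRing.ResidueField R)) ⟶
    Spec (CommRingCat.of R), ι₀ = Spec.map (CommRingCat.ofHom (IsLocalRing.residue R)) := ⟨_, rfl⟩
  have hι₀pt : ∀ q, ι₀ q = IsLocalRing.closedPoint R := by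
    intro q; rw [hι₀]; exact residue_apply R q
  let X : Over (Spec (CommRingCat.of (IsLocalRing.ResidueField R))) :=
    Over.mk (pullback.snd N.hom ι₀)
  haveI : Smooth X.hom := inferInstanceAs (Smooth (pullback.snd N.hom ι₀))
  haveI : QuasiCompact X.hom := inferInstanceAs (QuasiCompact (pullback.snd N.hom ι₀))
  haveI : IsNoetherianRing (CommRingCat.of (IsLocalRing.ResidueField R)) :=
    inferInstanceAs (IsNoetherianRing (IsLocalRing.ResidueField R))
  haveI : LocallyOfFiniteType X.hom := inferInstance
  haveI : IsLocallyNoetherian X.left := LocallyOfFiniteType.isLocallyNoetherian X.hom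
  haveI : CompactSpace X.left := QuasiCompact.compactSpace_of_compactSpace X.hom
  haveI : IsNoetherian X.left := {}
  haveI : NoetherianSpace X.left := inferInstance
  obtain ⟨i, hi⟩ : ∃ i : X.left ⟶ N.left, i = pullback.fst N.hom ι₀ := ⟨_, rfl⟩
  have hcond : i ≫ N.hom = X.hom ≫ ι₀ := by rw [hi]; exact pullback.condition
  have hiF : ∀ q : X.left, i q ∈ SGA7.specialFibreSet R N := by
    intro q
    show N.hom (i q) = IsLocalRing.closedPoint R
    rw [← Scheme.Hom.comp_apply, hcond, Scheme.Hom.comp_apply]
    exact hι₀pt _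
  obtain ⟨pt⟩ : Nonempty (Spec (CommRingCat.of (IsLocalRing.ResidueField R))) :=
    inferInstanceAs (Nonempty (PrimeSpectrum (IsLocalRing.ResidueField R)))
  obtain ⟨qz, hqz⟩ : ∃ qz : X.left, i qz = z := by
    have : z ∈ Set.range i := by
      rw [hi]
      have hr := Scheme.Pullback.range_fst (f := N.hom) (g := ι₀)
      have hmem : z ∈ N.hom ⁻¹' Set.range ι₀ := by
        refine ⟨pt, ?_⟩
        rw [hι₀pt]; exact hz.symm
      exact hr.ge hmem
    exact this
  obtain ⟨o, ho, hone, hoZ⟩ :=
    NoetherianSpace.exists_isOpen_nonempty_subset_irreducibleComponent (irreducibleComponent qz)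
      (irreducibleComponent_mem_irreducibleComponents qz)
  obtain ⟨t, ht, hto⟩ := exists_ratPt_mem_open _ X o ho hone
  have hq : t pt ∈ connectedComponent qz :=
    irreducibleComponent_subset_connectedComponent (hoZ (hto pt))
  have hp : i (t pt) ∈ connectedComponentIn (SGA7.specialFibreSet R N) z := by
    have hpre : _root_.IsPreconnected (i '' connectedComponent qz) :=
      isPreconnected_connectedComponent.image _ i.continuous.continuousOn
    have hsub := hpre.subset_connectedComponentIn (x := z) (F := SGA7.specialFibreSet R N)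
      ⟨qz, mem_connectedComponent, hqz⟩ (by rintro _ ⟨q, -, rfl⟩; exact hiF q)
    exact hsub ⟨t pt, hq, rfl⟩
  have h₀ : (t ≫ i) ≫ N.hom = Spec.map (CommRingCat.ofHom (IsLocalRing.residue R)) := by
    rw [Category.assoc, hcond, ← Category.assoc, ht, Category.id_comp, hι₀]
  obtain ⟨u, hu1, hu2⟩ := Groth.Agent.HensSmH8.exists_section_of_smooth R N.hom (t ≫ i) h₀
  have hus : u.base (IsLocalRing.closedPoint R) = i (t pt) := by
    have h3 := congrArg (fun m : Spec (CommRingCat.of (IsLocalRing.ResidueField R)) ⟶ N.left =>
      m pt) hu2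
    simp only [Scheme.Hom.comp_apply] at h3
    rw [residue_apply] at h3
    exact h3
  have huw : u ≫ N.hom = (𝟙_ (Over (Spec (CommRingCat.of R)))).hom := hu1
  refine ⟨Over.homMk u huw, ?_⟩
  show z ∈ connectedComponentIn (SGA7.specialFibreSet R N) (u.base (IsLocalRing.closedPoint R))
  rw [hus, ← connectedComponentIn_eq hp]
  exact mem_connectedComponentIn hz

theorem main4070 (R K : Type u) [CommRing R] [IsDomain R] [IsDiscreteValuationRing R]
    [HenselianLocalRing R]
    [IsSepClosed (IsLocalRing.ResidueField R)] [Field K] [Algebra R K]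
    (N : Over (Spec (CommRingCat.of R))) [GrpObj N] (hN : SGA7.IsNeron R K N) :
    (Set.range (SGA7.secComp R N)).Finite ∧
    (∀ z ∈ SGA7.specialFibreSet R N, ∃ x : 𝟙_ (Over (Spec (CommRingCat.of R))) ⟶ N,
      z ∈ SGA7.secComp R N x) ∧
      ∀ x y : 𝟙_ (Over (Spec (CommRingCat.of R))) ⟶ N,
        SGA7.secComp R N x = SGA7.secComp R N y ↔ x * y⁻¹ ∈ SGA7.secUnitComp R N := by
  obtain ⟨hsm, hsep, hqc, -⟩ := hN
  haveI := hsm
  haveI := hqc
  haveI : IsNoetherianRing R := inferInstance
  haveI : LocallyOfFiniteType N.hom := inferInstance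
  exact ⟨finite_range_secComp R N, fun z hz => exists_section_secComp R N z hz,
    fun x y => secComp_eq_iff R N x y⟩

end Groth.Agent.Lib.NeronCompGrp
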