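import Groth.Statements.S13421
import Groth.Agent.Lib.NeronTorsorGen_lead

/-! # The Néron mapping property is transitive along an étale morphism of bases (lead) -/

set_option backward.isDefEq.respectTransparency false
set_option backward.isDefEq.respectTransparency.types false
set_option linter.unusedSimpArgs false
set_option linter.unusedVariables false
set_option linter.unusedSectionVars false
set_option linter.style.longLine false
set_option linter.style.haveILetI false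
set_option maxHeartbeats 800000

universe u

open CategoryTheory CategoryTheory.Limits MonoidalCategory CartesianMonoidalCategory MonObj GrpObj
  AlgebraicGeometry Opposite Topology

namespace Groth.Agent.Lib.NeronComp

open Groth.Agent.Lib.NeronTorsorGen

theorem smooth_of_comp_etale {X Y Z : Scheme.{u}} (h : X ⟶ Y) (f : Y ⟶ Z) [Etale f]
    [Smooth (h ≫ f)] : Smooth h := by
  haveI : MorphismProperty.IsMultiplicative @Smooth :=
    { id_mem := fun _ => inferInstance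
      comp_mem := fun _ _ hf hg => by
        haveI := hf
        haveI := hg
        exact inferInstanceAs (Smooth (_ ≫ _)) }
  haveI : MorphismProperty.HasOfPostcompProperty @Smooth @Etale := by
    rw [MorphismProperty.hasOfPostcompProperty_iff_le_diagonal]
    intro X Y f hf
    haveI : Etale f := hf
    exact inferInstanceAs <| Smooth (pullback.diagonal f)
  exact MorphismProperty.of_postcomp (W := @Smooth) (W' := @Etale) h f ‹_› ‹_›

theorem main {T S N : Scheme.{u}} (T₀ : T.Opens) (f : S ⟶ T) [Etale f] (g : N ⟶ S) [Smooth g]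
    (hS : ∀ Z : Over T, Smooth Z.hom →
      Function.Bijective (fun g' : Z ⟶ Over.mk f => (Over.pullback T₀.ι).map g'))
    (hN : ∀ Z : Over S, Smooth Z.hom →
      Function.Bijective (fun g' : Z ⟶ Over.mk g => (Over.pullback (f ⁻¹ᵁ T₀).ι).map g')) :
    ∀ Z : Over T, Smooth Z.hom →
      Function.Bijective (fun g' : Z ⟶ Over.mk (g ≫ f) => (Over.pullback T₀.ι).map g') := by
  intro Z hZ
  haveI := hZ
  have hS' := fun Z hZ => (bij_iff T₀.ι Z (Over.mk f)).1 (hS Z hZ)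
  have hN' := fun W hW => (bij_iff (f ⁻¹ᵁ T₀).ι W (Over.mk g)).1 (hN W hW)
  rw [bij_iff]
  intro gam
  have hgamw : gam.left ≫ g ≫ f = pullback.snd Z.hom T₀.ι ≫ T₀.ι := Over.w gam
  have hgamw' : (gam.left ≫ g) ≫ f = pullback.snd Z.hom T₀.ι ≫ T₀.ι := by
    rw [Category.assoc]; exact hgamw
  obtain ⟨h, hh, hhuniq⟩ := hS' Z hZ
    (Over.homMk (gam.left ≫ g) hgamw' : res T₀.ι Z ⟶ Over.mk f)
  have hhw : h.left ≫ f = Z.hom := Over.w h
  have hh' : pullback.fst Z.hom T₀.ι ≫ h.left = gam.left ≫ g := congrArg (fun z => z.left) hh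
  haveI : Smooth (h.left ≫ f) := by rw [hhw]; exact hZ
  have hsm : Smooth h.left := smooth_of_comp_etale h.left f
  have sqR := isPullback_morphismRestrict f T₀
  have hθw : pullback.fst h.left (f ⁻¹ᵁ T₀).ι ≫ Z.hom
      = (pullback.snd h.left (f ⁻¹ᵁ T₀).ι ≫ (f ∣_ T₀)) ≫ T₀.ι := by
    rw [Category.assoc, morphismRestrict_ι, ← hhw,
      ← Category.assoc (pullback.fst h.left (f ⁻¹ᵁ T₀).ι), pullback.condition, Category.assoc]
  obtain ⟨θ, hθ1, hθ2⟩ : ∃ θ : pullback h.left (f ⁻¹ᵁ T₀).ι ⟶ pullback Z.hom T₀.ι,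
      θ ≫ pullback.fst Z.hom T₀.ι = pullback.fst h.left (f ⁻¹ᵁ T₀).ι ∧
      θ ≫ pullback.snd Z.hom T₀.ι = pullback.snd h.left (f ⁻¹ᵁ T₀).ι ≫ (f ∣_ T₀) :=
    ⟨pullback.lift _ _ hθw, pullback.lift_fst _ _ _, pullback.lift_snd _ _ _⟩
  have hψw : pullback.snd Z.hom T₀.ι ≫ T₀.ι = (pullback.fst Z.hom T₀.ι ≫ h.left) ≫ f := by
    rw [Category.assoc, hhw, pullback.condition]
  obtain ⟨ψ₀, hψ₀1, hψ₀2⟩ : ∃ ψ₀ : pullback Z.hom T₀.ι ⟶ (f ⁻¹ᵁ T₀ : Scheme.{u}),
      ψ₀ ≫ (f ∣_ T₀) = pullback.snd Z.hom T₀.ι ∧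
      ψ₀ ≫ (f ⁻¹ᵁ T₀).ι = pullback.fst Z.hom T₀.ι ≫ h.left :=
    ⟨sqR.lift _ _ hψw, sqR.lift_fst _ _ _, sqR.lift_snd _ _ _⟩
  obtain ⟨ψ, hψ1, hψ2⟩ : ∃ ψ : pullback Z.hom T₀.ι ⟶ pullback h.left (f ⁻¹ᵁ T₀).ι,
      ψ ≫ pullback.fst h.left (f ⁻¹ᵁ T₀).ι = pullback.fst Z.hom T₀.ι ∧
      ψ ≫ pullback.snd h.left (f ⁻¹ᵁ T₀).ι = ψ₀ :=
    ⟨pullback.lift _ _ hψ₀2.symm, pullback.lift_fst _ _ _, pullback.lift_snd _ _ _⟩
  have hψθ : ψ ≫ θ = 𝟙 _ := by
    apply pullback.hom_ext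
    · rw [Category.assoc, hθ1, hψ1, Category.id_comp]
    · rw [Category.assoc, hθ2, ← Category.assoc, hψ2, hψ₀1, Category.id_comp]
  haveI : IsSplitEpi θ := IsSplitEpi.mk' ⟨ψ, hψθ⟩
  have hγw : (θ ≫ gam.left) ≫ g
      = pullback.snd h.left (f ⁻¹ᵁ T₀).ι ≫ (f ⁻¹ᵁ T₀).ι := by
    rw [Category.assoc, ← hh', ← Category.assoc, hθ1, pullback.condition]
  obtain ⟨n, hn, hnuniq⟩ := hN' (Over.mk h.left) hsm
    (Over.homMk (θ ≫ gam.left) hγw : res (f ⁻¹ᵁ T₀).ι (Over.mk h.left) ⟶ Over.mk g)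
  have hn' : pullback.fst h.left (f ⁻¹ᵁ T₀).ι ≫ n.left = θ ≫ gam.left :=
    congrArg (fun z => z.left) hn
  have hnw : n.left ≫ g = h.left := Over.w n
  have hGw : n.left ≫ g ≫ f = Z.hom := by
    rw [← Category.assoc, hnw, hhw]
  refine ⟨(Over.homMk n.left hGw : Z ⟶ Over.mk (g ≫ f)), ?_, ?_⟩
  · apply Over.OverMorphism.ext
    show pullback.fst Z.hom T₀.ι ≫ n.left = gam.left
    rw [← cancel_epi θ, ← Category.assoc, hθ1, hn']
  · intro G'' hG''
    have e0 : pullback.fst Z.hom T₀.ι ≫ G''.left = gam.left := congrArg (fun z => z.left) hG''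
    have hG''w : G''.left ≫ g ≫ f = Z.hom := Over.w G''
    have hG''w' : (G''.left ≫ g) ≫ f = Z.hom := by rw [Category.assoc]; exact hG''w
    have h1 : (Over.homMk (G''.left ≫ g) hG''w' : Z ⟶ Over.mk f) = h := by
      refine hhuniq _ ?_
      apply Over.OverMorphism.ext
      show pullback.fst Z.hom T₀.ι ≫ G''.left ≫ g = gam.left ≫ g
      rw [← Category.assoc, e0]
    have h2 : G''.left ≫ g = h.left := congrArg (fun z => z.left) h1
    have h3 : (Over.homMk G''.left h2 : Over.mk h.left ⟶ Over.mk g) = n := by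
      refine hnuniq _ ?_
      apply Over.OverMorphism.ext
      show pullback.fst h.left (f ⁻¹ᵁ T₀).ι ≫ G''.left = θ ≫ gam.left
      rw [← hθ1, Category.assoc, e0]
    apply Over.OverMorphism.ext
    show G''.left = n.left
    exact congrArg (fun z => z.left) h3

end Groth.Agent.Lib.NeronComp
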