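import Mathlib

/-!
# Localising a restriction-bijectivity property along a cofiltered limit (helper6)

`ResP t U q`: every `S`-morphism `t⁻¹U ⟶ N` extends uniquely to an `S`-morphism `T ⟶ N`.
We show that `ResP` passes to cofiltered limits (affine transition maps, Noetherian-like stages,
`N` locally of finite presentation over `S`).
-/

set_option autoImplicit false
set_option linter.all false
set_option backward.isDefEq.respectTransparency false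
universe u
open CategoryTheory CategoryTheory.Limits AlgebraicGeometry Opposite TopologicalSpace

namespace Groth.Agent.Lib.NeronLocH6

/-- every `S`-morphism `t⁻¹U ⟶ N` extends uniquely to an `S`-morphism `T ⟶ N`. -/
def ResP {T S N : Scheme.{u}} (t : T ⟶ S) (U : S.Opens) (q : N ⟶ S) : Prop :=
  ∀ g : (t ⁻¹ᵁ U : Scheme.{u}) ⟶ N, g ≫ q = (t ⁻¹ᵁ U).ι ≫ t →
    ∃! f : T ⟶ N, f ≫ q = t ∧ (t ⁻¹ᵁ U).ι ≫ f = g

section Limit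

variable {I : Type u} [Category.{u} I] [IsCofiltered I] {S N : Scheme.{u}} (q : N ⟶ S)
  [LocallyOfFinitePresentation q]
  (D : I ⥤ Scheme.{u}) [∀ {i j : I} (f : i ⟶ j), IsAffineHom (D.map f)]
  [∀ i, CompactSpace (D.obj i)] [∀ i, QuasiSeparatedSpace (D.obj i)]
  (tS : D ⟶ (Functor.const I).obj S) (c : Cone D) (hc : IsLimit c) (U : S.Opens)

/-- the structure maps of the diagram of `U`-parts -/
noncomputable def tU (i₀ : I) :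
    opensDiagram D i₀ (tS.app i₀ ⁻¹ᵁ U) ⟶ (Functor.const (Over i₀)).obj S where
  app j := (D.map j.hom ⁻¹ᵁ (tS.app i₀ ⁻¹ᵁ U)).ι ≫ tS.app j.left
  naturality j k f := by
    have hn : D.map f.left ≫ tS.app k.left = tS.app j.left :=
      (tS.naturality f.left).trans (Category.comp_id _)
    refine Eq.trans ?_ (Category.comp_id _).symm
    show (D.map f.left).resLE _ _ _ ≫ (D.map k.hom ⁻¹ᵁ (tS.app i₀ ⁻¹ᵁ U)).ι ≫ tS.app k.left =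
      (D.map j.hom ⁻¹ᵁ (tS.app i₀ ⁻¹ᵁ U)).ι ≫ tS.app j.left
    rw [Scheme.Hom.resLE_comp_ι_assoc, hn]

lemma tU_app (i₀ : I) (j : Over i₀) :
    (tU D tS U i₀).app j = (D.map j.hom ⁻¹ᵁ (tS.app i₀ ⁻¹ᵁ U)).ι ≫ tS.app j.left := rfl

lemma tS_nat {i j : I} (f : i ⟶ j) : D.map f ≫ tS.app j = tS.app i :=
  (tS.naturality f).trans (Category.comp_id _)

include hc in
theorem resP_limit (hcpt : ∀ (i : I) (O : (D.obj i).Opens), CompactSpace O)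
    (hD : ∀ (i : I) (t : D.obj i ⟶ S), t = tS.app i → ResP t U q) (i₀ : I) :
    ResP (c.π.app i₀ ≫ tS.app i₀) U q := by
  classical
  haveI hcptU : ∀ K : Over i₀, CompactSpace ((opensDiagram D i₀ (tS.app i₀ ⁻¹ᵁ U)).obj K) :=
    fun K => hcpt K.left (D.map K.hom ⁻¹ᵁ (tS.app i₀ ⁻¹ᵁ U))
  haveI hqsU : ∀ K : Over i₀,
      QuasiSeparatedSpace ((opensDiagram D i₀ (tS.app i₀ ⁻¹ᵁ U)).obj K) :=
    fun K => quasiSeparatedSpace_of_quasiSeparated (D.map K.hom ⁻¹ᵁ (tS.app i₀ ⁻¹ᵁ U)).ι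
  have hπι : ∀ K : Over i₀, (opensCone D c i₀ (tS.app i₀ ⁻¹ᵁ U)).π.app K ≫
      (D.map K.hom ⁻¹ᵁ (tS.app i₀ ⁻¹ᵁ U)).ι =
      (c.π.app i₀ ⁻¹ᵁ (tS.app i₀ ⁻¹ᵁ U)).ι ≫ c.π.app K.left :=
    fun K => Scheme.Hom.resLE_comp_ι _ _
  have hcK : ∀ K : Over i₀, c.π.app K.left ≫ D.map K.hom ≫ tS.app i₀ =
      c.π.app i₀ ≫ tS.app i₀ := fun K => by rw [← Category.assoc, c.w]
  intro g hg
  -- existence
  have hgt : (opensCone D c i₀ (tS.app i₀ ⁻¹ᵁ U)).π ≫ tU D tS U i₀ =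
      (Functor.const _).map (g ≫ q) := by
    ext K
    rw [NatTrans.comp_app, tU_app, ← Category.assoc, hπι K, Category.assoc, hg]
    show _ = (c.π.app i₀ ⁻¹ᵁ (tS.app i₀ ⁻¹ᵁ U)).ι ≫ c.π.app i₀ ≫ tS.app i₀
    rw [← tS_nat D tS K.hom, hcK K]
  obtain ⟨K, gK, hgK1, hgK2⟩ := Scheme.exists_π_app_comp_eq_of_locallyOfFinitePresentation
    (opensDiagram D i₀ (tS.app i₀ ⁻¹ᵁ U)) (tU D tS U i₀) q
    (opensCone D c i₀ (tS.app i₀ ⁻¹ᵁ U)) (isLimitOpensCone D c hc i₀ (tS.app i₀ ⁻¹ᵁ U)) g hgt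
  have hgK2' : gK ≫ q = ((D.map K.hom ≫ tS.app i₀) ⁻¹ᵁ U).ι ≫ (D.map K.hom ≫ tS.app i₀) :=
    hgK2.trans (congrArg (fun t => (D.map K.hom ⁻¹ᵁ (tS.app i₀ ⁻¹ᵁ U)).ι ≫ t)
      (tS_nat D tS K.hom).symm)
  obtain ⟨fK, ⟨hfK1, hfK2⟩, -⟩ :=
    hD K.left (D.map K.hom ≫ tS.app i₀) (tS_nat D tS K.hom) gK hgK2'
  have hτ : ∀ i, c.π.app i ≫ tS.app i = c.π.app i₀ ≫ tS.app i₀ := by
    intro i
    rw [← c.w (IsCofiltered.minToLeft i i₀), Category.assoc, tS_nat D tS,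
      ← tS_nat D tS (IsCofiltered.minToRight i i₀), ← Category.assoc, c.w]
  have key : ∀ f₁ f₂ : c.pt ⟶ N, f₁ ≫ q = c.π.app i₀ ≫ tS.app i₀ →
      f₂ ≫ q = c.π.app i₀ ≫ tS.app i₀ →
      ((c.π.app i₀ ≫ tS.app i₀) ⁻¹ᵁ U).ι ≫ f₁ = ((c.π.app i₀ ≫ tS.app i₀) ⁻¹ᵁ U).ι ≫ f₂ →
      f₁ = f₂ := by
    intro f₁ f₂ h₁ h₂ h₁₂
    have hft : ∀ f : c.pt ⟶ N, f ≫ q = c.π.app i₀ ≫ tS.app i₀ →
        c.π ≫ tS = (Functor.const _).map (f ≫ q) := by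
      intro f hf
      ext i
      rw [NatTrans.comp_app, hf, hτ i]
      rfl
    obtain ⟨i₁, a₁, ha₁, ha₁q⟩ := Scheme.exists_π_app_comp_eq_of_locallyOfFinitePresentation
      D tS q c hc f₁ (hft f₁ h₁)
    obtain ⟨i₂, a₂, ha₂, ha₂q⟩ := Scheme.exists_π_app_comp_eq_of_locallyOfFinitePresentation
      D tS q c hc f₂ (hft f₂ h₂)
    -- a common stage over `i₀`, `i₁`, `i₂`
    obtain ⟨k₀, u₀, u₁, u₂⟩ : ∃ (k₀ : I) (_ : k₀ ⟶ i₀) (_ : k₀ ⟶ i₁), Nonempty (k₀ ⟶ i₂) :=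
      ⟨IsCofiltered.min (IsCofiltered.min i₀ i₁) i₂,
        IsCofiltered.minToLeft _ _ ≫ IsCofiltered.minToLeft _ _,
        IsCofiltered.minToLeft _ _ ≫ IsCofiltered.minToRight _ _,
        ⟨IsCofiltered.minToRight _ _⟩⟩
    obtain ⟨u₂⟩ := u₂
    have hb₁ : c.π.app k₀ ≫ (D.map u₁ ≫ a₁) = f₁ := by rw [← Category.assoc, c.w, ha₁]
    have hb₂ : c.π.app k₀ ≫ (D.map u₂ ≫ a₂) = f₂ := by rw [← Category.assoc, c.w, ha₂]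
    have hb₁q : (D.map u₁ ≫ a₁) ≫ q = tS.app k₀ := by rw [Category.assoc, ha₁q, tS_nat D tS]
    have hb₂q : (D.map u₂ ≫ a₂) ≫ q = tS.app k₀ := by rw [Category.assoc, ha₂q, tS_nat D tS]
    have hr₁ : (tU D tS U i₀).app (Over.mk u₀) =
        ((D.map (Over.mk u₀).hom ⁻¹ᵁ (tS.app i₀ ⁻¹ᵁ U)).ι ≫ (D.map u₁ ≫ a₁)) ≫ q := by
      rw [Category.assoc, hb₁q]
      rfl
    have hr₂ : (tU D tS U i₀).app (Over.mk u₀) =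
        ((D.map (Over.mk u₀).hom ⁻¹ᵁ (tS.app i₀ ⁻¹ᵁ U)).ι ≫ (D.map u₂ ≫ a₂)) ≫ q := by
      rw [Category.assoc, hb₂q]
      rfl
    have hr₁₂ : (opensCone D c i₀ (tS.app i₀ ⁻¹ᵁ U)).π.app (Over.mk u₀) ≫
          ((D.map (Over.mk u₀).hom ⁻¹ᵁ (tS.app i₀ ⁻¹ᵁ U)).ι ≫ (D.map u₁ ≫ a₁)) =
        (opensCone D c i₀ (tS.app i₀ ⁻¹ᵁ U)).π.app (Over.mk u₀) ≫
          ((D.map (Over.mk u₀).hom ⁻¹ᵁ (tS.app i₀ ⁻¹ᵁ U)).ι ≫ (D.map u₂ ≫ a₂)) := by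
      have e2 : ∀ a : D.obj k₀ ⟶ N,
          (opensCone D c i₀ (tS.app i₀ ⁻¹ᵁ U)).π.app (Over.mk u₀) ≫
            ((D.map (Over.mk u₀).hom ⁻¹ᵁ (tS.app i₀ ⁻¹ᵁ U)).ι ≫ a) =
          ((c.π.app i₀ ≫ tS.app i₀) ⁻¹ᵁ U).ι ≫ (c.π.app k₀ ≫ a) := by
        intro a
        rw [← Category.assoc, hπι (Over.mk u₀), Category.assoc]
        rfl
      rw [e2, e2, hb₁, hb₂]
      exact h₁₂
    obtain ⟨K', hK', hKeq⟩ := Scheme.exists_hom_comp_eq_comp_of_locallyOfFiniteType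
      (opensDiagram D i₀ (tS.app i₀ ⁻¹ᵁ U)) (tU D tS U i₀) q
      (opensCone D c i₀ (tS.app i₀ ⁻¹ᵁ U)) (isLimitOpensCone D c hc i₀ (tS.app i₀ ⁻¹ᵁ U))
      (i := Over.mk u₀)
      ((D.map (Over.mk u₀).hom ⁻¹ᵁ (tS.app i₀ ⁻¹ᵁ U)).ι ≫ (D.map u₁ ≫ a₁))
      ((D.map (Over.mk u₀).hom ⁻¹ᵁ (tS.app i₀ ⁻¹ᵁ U)).ι ≫ (D.map u₂ ≫ a₂)) hr₁ hr₂ hr₁₂
    have hm : (opensDiagram D i₀ (tS.app i₀ ⁻¹ᵁ U)).map hK' ≫
        (D.map (Over.mk u₀).hom ⁻¹ᵁ (tS.app i₀ ⁻¹ᵁ U)).ι =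
        (D.map K'.hom ⁻¹ᵁ (tS.app i₀ ⁻¹ᵁ U)).ι ≫ D.map hK'.left :=
      Scheme.Hom.resLE_comp_ι _ _
    have hKq : ∀ a : D.obj k₀ ⟶ N, a ≫ q = tS.app k₀ →
        (D.map hK'.left ≫ a) ≫ q = D.map K'.hom ≫ tS.app i₀ := by
      intro a ha
      have hn1 : D.map hK'.left ≫ tS.app k₀ = tS.app K'.left := tS_nat D tS hK'.left
      rw [Category.assoc, ha, hn1, tS_nat D tS K'.hom]
    have hres : ((D.map K'.hom ≫ tS.app i₀) ⁻¹ᵁ U).ι ≫ (D.map hK'.left ≫ (D.map u₁ ≫ a₁)) =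
        ((D.map K'.hom ≫ tS.app i₀) ⁻¹ᵁ U).ι ≫ (D.map hK'.left ≫ (D.map u₂ ≫ a₂)) := by
      have e1 : ∀ a : D.obj k₀ ⟶ N,
          ((D.map K'.hom ≫ tS.app i₀) ⁻¹ᵁ U).ι ≫ (D.map hK'.left ≫ a) =
          (opensDiagram D i₀ (tS.app i₀ ⁻¹ᵁ U)).map hK' ≫
            ((D.map (Over.mk u₀).hom ⁻¹ᵁ (tS.app i₀ ⁻¹ᵁ U)).ι ≫ a) := by
        intro a
        rw [← Category.assoc, ← Category.assoc, hm]
        rfl
      rw [e1, e1, hKeq]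
    obtain ⟨fu, -, hfu⟩ := hD K'.left (D.map K'.hom ≫ tS.app i₀) (tS_nat D tS K'.hom)
      (((D.map K'.hom ≫ tS.app i₀) ⁻¹ᵁ U).ι ≫ (D.map hK'.left ≫ (D.map u₁ ≫ a₁)))
      (by rw [Category.assoc, hKq _ hb₁q])
    have e₁ := hfu (D.map hK'.left ≫ (D.map u₁ ≫ a₁)) ⟨hKq _ hb₁q, rfl⟩
    have e₂ := hfu (D.map hK'.left ≫ (D.map u₂ ≫ a₂)) ⟨hKq _ hb₂q, hres.symm⟩
    have hcw : c.π.app K'.left ≫ D.map hK'.left = c.π.app k₀ := c.w hK'.left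
    rw [← hb₁, ← hb₂, ← hcw, Category.assoc, Category.assoc, e₁, e₂]
  refine ⟨c.π.app K.left ≫ fK, ⟨?_, ?_⟩, ?_⟩
  · rw [Category.assoc, hfK1, hcK K]
  · have h1 : ((c.π.app i₀ ≫ tS.app i₀) ⁻¹ᵁ U).ι ≫ c.π.app K.left =
        (opensCone D c i₀ (tS.app i₀ ⁻¹ᵁ U)).π.app K ≫
          ((D.map K.hom ≫ tS.app i₀) ⁻¹ᵁ U).ι := (hπι K).symm
    rw [← Category.assoc, h1, Category.assoc, hfK2, hgK1]
  · -- uniqueness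
    rintro f' ⟨hf'1, hf'2⟩
    refine key _ _ hf'1 (by rw [Category.assoc, hfK1, hcK K]) ?_
    have h1 : ((c.π.app i₀ ≫ tS.app i₀) ⁻¹ᵁ U).ι ≫ c.π.app K.left =
        (opensCone D c i₀ (tS.app i₀ ⁻¹ᵁ U)).π.app K ≫
          ((D.map K.hom ≫ tS.app i₀) ⁻¹ᵁ U).ι := (hπι K).symm
    rw [hf'2, ← Category.assoc, h1, Category.assoc, hfK2, hgK1]

end Limit

end Groth.Agent.Lib.NeronLocH6
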