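import Mathlib
import Groth.Agent.Lib.NeronLoc1_helper6

/-!
# Restriction-bijectivity: independence of the open immersion, gluing along an open cover (helper6)
-/

set_option autoImplicit false
set_option linter.all false
set_option backward.isDefEq.respectTransparency false
universe u
open CategoryTheory CategoryTheory.Limits AlgebraicGeometry Opposite TopologicalSpace

namespace Groth.Agent.Lib.NeronLocH6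

/-- every `S`-morphism `V ⟶ N` (through `j : V ⟶ T`) extends uniquely to an `S`-morphism
`T ⟶ N`. -/
def ResPj {T S N V : Scheme.{u}} (t : T ⟶ S) (j : V ⟶ T) (q : N ⟶ S) : Prop :=
  ∀ g : V ⟶ N, g ≫ q = j ≫ t → ∃! f : T ⟶ N, f ≫ q = t ∧ j ≫ f = g

lemma resP_iff_resPj {T S N : Scheme.{u}} (t : T ⟶ S) (U : S.Opens) (q : N ⟶ S) :
    ResP t U q ↔ ResPj t (t ⁻¹ᵁ U).ι q := Iff.rfl

lemma resPj_of_iso {T S N V₁ V₂ : Scheme.{u}} (t : T ⟶ S) (q : N ⟶ S) (j₁ : V₁ ⟶ T)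
    (j₂ : V₂ ⟶ T) (e : V₁ ≅ V₂) (he : e.hom ≫ j₂ = j₁) (h : ResPj t j₁ q) : ResPj t j₂ q := by
  intro g hg
  obtain ⟨f, ⟨hf1, hf2⟩, hfu⟩ := h (e.hom ≫ g) (by rw [Category.assoc, hg, ← Category.assoc, he])
  refine ⟨f, ⟨hf1, ?_⟩, ?_⟩
  · rw [← cancel_epi e.hom, ← Category.assoc, he, hf2]
  · rintro f' ⟨hf'1, hf'2⟩
    exact hfu f' ⟨hf'1, by rw [← he, Category.assoc, hf'2]⟩

lemma resPj_iff_of_range_eq {T S N V₁ V₂ : Scheme.{u}} (t : T ⟶ S) (q : N ⟶ S) (j₁ : V₁ ⟶ T)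
    (j₂ : V₂ ⟶ T) [IsOpenImmersion j₁] [IsOpenImmersion j₂]
    (h : Set.range j₁ = Set.range j₂) : ResPj t j₁ q ↔ ResPj t j₂ q :=
  ⟨resPj_of_iso t q j₁ j₂ (IsOpenImmersion.isoOfRangeEq j₁ j₂ h)
      (IsOpenImmersion.isoOfRangeEq_hom_fac j₁ j₂ h),
    resPj_of_iso t q j₂ j₁ (IsOpenImmersion.isoOfRangeEq j₂ j₁ h.symm)
      (IsOpenImmersion.isoOfRangeEq_hom_fac j₂ j₁ h.symm)⟩

section Glue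

variable {T S N : Scheme.{u}} (t : T ⟶ S) (U : S.Opens) (q : N ⟶ S)

lemma restrict_ι' {T₁ : Scheme.{u}} (f₁ : T₁ ⟶ T) :
    ((f₁ ≫ t) ⁻¹ᵁ U).ι ≫ f₁ = (f₁ ∣_ (t ⁻¹ᵁ U)) ≫ (t ⁻¹ᵁ U).ι :=
  (morphismRestrict_ι f₁ (t ⁻¹ᵁ U)).symm

/-- the key computation for gluing -/
lemma glue_aux {T₁ : Scheme.{u}} (f₁ : T₁ ⟶ T) (g : (t ⁻¹ᵁ U : Scheme.{u}) ⟶ N)
    (F₁ : T₁ ⟶ N) (hF₁ : ((f₁ ≫ t) ⁻¹ᵁ U).ι ≫ F₁ = (f₁ ∣_ (t ⁻¹ᵁ U)) ≫ g)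
    {Z : Scheme.{u}} (z : Z ⟶ T₁) (z₀ : Z ⟶ (t ⁻¹ᵁ U : Scheme.{u}))
    (hz : z ≫ f₁ = z₀ ≫ (t ⁻¹ᵁ U).ι) : z ≫ F₁ = z₀ ≫ g := by
  have hrange : Set.range z ⊆ Set.range ((f₁ ≫ t) ⁻¹ᵁ U).ι := by
    rw [Scheme.Opens.range_ι]
    rintro _ ⟨p, rfl⟩
    show (f₁ ≫ t) (z p) ∈ U
    rw [Scheme.Hom.comp_apply, ← Scheme.Hom.comp_apply z f₁, hz, Scheme.Hom.comp_apply]
    exact (z₀ p).2
  have hfac := IsOpenImmersion.lift_fac ((f₁ ≫ t) ⁻¹ᵁ U).ι z hrange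
  have h1 : IsOpenImmersion.lift ((f₁ ≫ t) ⁻¹ᵁ U).ι z hrange ≫ (f₁ ∣_ (t ⁻¹ᵁ U)) = z₀ := by
    rw [← cancel_mono (t ⁻¹ᵁ U).ι, Category.assoc, morphismRestrict_ι, ← hz]
    exact (Category.assoc _ _ _).symm.trans (congrArg (· ≫ f₁) hfac)
  calc z ≫ F₁ = (IsOpenImmersion.lift ((f₁ ≫ t) ⁻¹ᵁ U).ι z hrange ≫ ((f₁ ≫ t) ⁻¹ᵁ U).ι) ≫ F₁ := by
        rw [hfac]
    _ = IsOpenImmersion.lift ((f₁ ≫ t) ⁻¹ᵁ U).ι z hrange ≫ (f₁ ∣_ (t ⁻¹ᵁ U)) ≫ g := by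
        rw [Category.assoc, hF₁]
    _ = z₀ ≫ g := by rw [← Category.assoc, h1]

theorem resP_of_cover (𝒰 : T.OpenCover)
    (h1 : ∀ x, ResP (𝒰.f x ≫ t) U q)
    (h2 : ∀ x y, ResP ((pullback.fst (𝒰.f x) (𝒰.f y) ≫ 𝒰.f x) ≫ t) U q) : ResP t U q := by
  intro g hg
  have hr : ∀ x, ((𝒰.f x) ∣_ (t ⁻¹ᵁ U) ≫ g) ≫ q = ((𝒰.f x ≫ t) ⁻¹ᵁ U).ι ≫ 𝒰.f x ≫ t := by
    intro x
    rw [Category.assoc, hg, ← Category.assoc, ← restrict_ι' t U (𝒰.f x), Category.assoc]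
  have hex : ∀ x, ∃ F : 𝒰.X x ⟶ N, (F ≫ q = 𝒰.f x ≫ t ∧
      ((𝒰.f x ≫ t) ⁻¹ᵁ U).ι ≫ F = (𝒰.f x) ∣_ (t ⁻¹ᵁ U) ≫ g) ∧
      ∀ y : 𝒰.X x ⟶ N, y ≫ q = 𝒰.f x ≫ t →
        ((𝒰.f x ≫ t) ⁻¹ᵁ U).ι ≫ y = (𝒰.f x) ∣_ (t ⁻¹ᵁ U) ≫ g → y = F := by
    intro x
    obtain ⟨F, hF, hFu⟩ := h1 x ((𝒰.f x) ∣_ (t ⁻¹ᵁ U) ≫ g) (hr x)
    exact ⟨F, hF, fun y hy1 hy2 => hFu y ⟨hy1, hy2⟩⟩
  choose F hF hFu using hex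
  have hF1 : ∀ x, F x ≫ q = 𝒰.f x ≫ t := fun x => (hF x).1
  have hF2 : ∀ x, ((𝒰.f x ≫ t) ⁻¹ᵁ U).ι ≫ F x = (𝒰.f x) ∣_ (t ⁻¹ᵁ U) ≫ g := fun x => (hF x).2
  have hcompat : ∀ x y, pullback.fst (𝒰.f x) (𝒰.f y) ≫ F x = pullback.snd _ _ ≫ F y := by
    intro x y
    obtain ⟨Fu, -, hFuu⟩ := h2 x y
      ((((pullback.fst (𝒰.f x) (𝒰.f y) ≫ 𝒰.f x) ≫ t) ⁻¹ᵁ U).ι ≫
        pullback.fst (𝒰.f x) (𝒰.f y) ≫ F x)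
      (by simp only [Category.assoc, hF1])
    have e1 := hFuu (pullback.fst (𝒰.f x) (𝒰.f y) ≫ F x)
      ⟨by simp only [Category.assoc, hF1], rfl⟩
    have ey := glue_aux t U (𝒰.f y) g (F y) (hF2 y)
      ((((pullback.fst (𝒰.f x) (𝒰.f y) ≫ 𝒰.f x) ≫ t) ⁻¹ᵁ U).ι ≫ pullback.snd _ _)
      ((pullback.fst (𝒰.f x) (𝒰.f y) ≫ 𝒰.f x) ∣_ (t ⁻¹ᵁ U))
      ((Category.assoc _ _ _).trans ((congrArg (fun k =>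
        (((pullback.fst (𝒰.f x) (𝒰.f y) ≫ 𝒰.f x) ≫ t) ⁻¹ᵁ U).ι ≫ k) pullback.condition.symm).trans
          (restrict_ι' t U (pullback.fst (𝒰.f x) (𝒰.f y) ≫ 𝒰.f x))))
    have ex := glue_aux t U (𝒰.f x) g (F x) (hF2 x)
      ((((pullback.fst (𝒰.f x) (𝒰.f y) ≫ 𝒰.f x) ≫ t) ⁻¹ᵁ U).ι ≫ pullback.fst _ _)
      ((pullback.fst (𝒰.f x) (𝒰.f y) ≫ 𝒰.f x) ∣_ (t ⁻¹ᵁ U))
      ((Category.assoc _ _ _).trans (restrict_ι' t U (pullback.fst (𝒰.f x) (𝒰.f y) ≫ 𝒰.f x)))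
    have e2 := hFuu (pullback.snd (𝒰.f x) (𝒰.f y) ≫ F y)
      ⟨by rw [Category.assoc, hF1 y, ← Category.assoc, ← pullback.condition],
        (Category.assoc _ _ _).symm.trans (ey.trans (ex.symm.trans (Category.assoc _ _ _)))⟩
    rw [e1, e2]
  refine ⟨𝒰.glueMorphisms F hcompat, ⟨?_, ?_⟩, ?_⟩
  · refine Scheme.Cover.hom_ext 𝒰 _ _ fun x => ?_
    rw [← Category.assoc, Scheme.Cover.ι_glueMorphisms, hF1 x]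
  · refine Scheme.Cover.hom_ext (𝒰.pullback₁ (t ⁻¹ᵁ U).ι) _ _ fun x => ?_
    show pullback.fst (t ⁻¹ᵁ U).ι (𝒰.f x) ≫ (t ⁻¹ᵁ U).ι ≫ 𝒰.glueMorphisms F hcompat =
      pullback.fst (t ⁻¹ᵁ U).ι (𝒰.f x) ≫ g
    rw [← Category.assoc, pullback.condition, Category.assoc, Scheme.Cover.ι_glueMorphisms]
    exact glue_aux t U (𝒰.f x) g (F x) (hF2 x) (pullback.snd _ _) (pullback.fst _ _)
      pullback.condition.symm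
  · rintro F' ⟨hF'1, hF'2⟩
    refine Scheme.Cover.hom_ext 𝒰 _ _ fun x => ?_
    rw [Scheme.Cover.ι_glueMorphisms]
    refine hFu x (𝒰.f x ≫ F') (by rw [Category.assoc, hF'1]) ?_
    rw [← Category.assoc, restrict_ι' t U (𝒰.f x), Category.assoc, hF'2]

end Glue

end Groth.Agent.Lib.NeronLocH6
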