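import Mathlib
import Groth.Agent.Lib.NeronLoc1_helper6
import Groth.Agent.Lib.LimBaseChange_helper7
import Groth.Agent.Lib.LimDescFP3_helper7

/-!
# `ResP` for smooth quasi-compact schemes over a cofiltered limit of Noetherian schemes (helper6)
-/

set_option autoImplicit false
set_option linter.all false
set_option backward.isDefEq.respectTransparency false
universe u
open CategoryTheory CategoryTheory.Limits AlgebraicGeometry Opposite TopologicalSpace

namespace Groth.Agent.Lib.NeronLocH6

open Groth.Agent.Lib.LimBaseChangeH7 Groth.Agent.Lib.LimDescFPH7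

lemma resP_congr {T S N : Scheme.{u}} {t t' : T ⟶ S} (h : t = t') (U : S.Opens) (q : N ⟶ S)
    (H : ResP t U q) : ResP t' U q := h ▸ H

/-- the structure maps of the base-changed diagram -/
noncomputable def tBC {I : Type u} [SmallCategory I] {S : Scheme.{u}} (D : I ⥤ Scheme.{u})
    (tB : D ⟶ (Functor.const I).obj S) (j : I) {Xj : Scheme.{u}} (fj : Xj ⟶ D.obj j) :
    bcDiagram D j fj ⟶ (Functor.const (Over j)).obj S where
  app k := pullback.snd fj (D.map k.hom) ≫ tB.app k.left
  naturality k l g := by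
    have hn : D.map g.left ≫ tB.app l.left = tB.app k.left :=
      (tB.naturality g.left).trans (Category.comp_id _)
    refine Eq.trans ?_ (Category.comp_id _).symm
    rw [bcDiagram_map_snd_assoc, hn]

lemma tBC_app {I : Type u} [SmallCategory I] {S : Scheme.{u}} (D : I ⥤ Scheme.{u})
    (tB : D ⟶ (Functor.const I).obj S) (j : I) {Xj : Scheme.{u}} (fj : Xj ⟶ D.obj j)
    (k : Over j) : (tBC D tB j fj).app k = pullback.snd fj (D.map k.hom) ≫ tB.app k.left := rfl

theorem resP_bc {I : Type u} [SmallCategory I] [IsCofiltered I] {S N : Scheme.{u}} (q : N ⟶ S)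
    [LocallyOfFinitePresentation q] (D : I ⥤ Scheme.{u})
    [∀ (i j : I) (f : i ⟶ j), IsAffineHom (D.map f)]
    [∀ i, IsNoetherian (D.obj i)]
    (tB : D ⟶ (Functor.const I).obj S) [∀ i, Smooth (tB.app i)]
    (c : Cone D) (hc : IsLimit c) (U : S.Opens) (i₀ : I)
    {V : Scheme.{u}} (v : V ⟶ c.pt) [Smooth v] [QuasiCompact v] [QuasiSeparated v]
    (hP : ∀ (Y : Scheme.{u}) (y : Y ⟶ S), Smooth y → ResP y U q) :
    ResP (v ≫ c.π.app i₀ ≫ tB.app i₀) U q := by
  obtain ⟨j, φ, Xj, fj, q', hlfp, hqc, hqs, hsm, hpb⟩ :=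
    exists_descend_with descendsProp_smooth D c hc i₀ v ‹Smooth v›
  haveI := hlfp
  haveI := hqc
  haveI := hqs
  haveI : Smooth fj := hsm
  haveI : CompactSpace Xj := QuasiCompact.compactSpace_of_compactSpace fj
  haveI : QuasiSeparatedSpace Xj := quasiSeparatedSpace_of_quasiSeparated fj
  haveI hLN : ∀ k : Over j, IsLocallyNoetherian ((bcDiagram D j fj).obj k) := fun k =>
    LocallyOfFiniteType.isLocallyNoetherian (pullback.snd fj (D.map k.hom))
  haveI hN : ∀ k : Over j, IsNoetherian ((bcDiagram D j fj).obj k) := fun k => { }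
  have hcpt : ∀ (k : Over j) (O : ((bcDiagram D j fj).obj k).Opens), CompactSpace O := fun k O =>
    isCompact_iff_compactSpace.mp (NoetherianSpace.isCompact _)
  have hD : ∀ (k : Over j) (t : (bcDiagram D j fj).obj k ⟶ S),
      t = (tBC D tB j fj).app k → ResP t U q := by
    intro k t ht
    subst ht
    refine hP _ _ ?_
    rw [tBC_app]
    infer_instance
  have hmain := resP_limit q (bcDiagram D j fj) (tBC D tB j fj) (bcCone c hpb)
    (isLimitBcCone c hpb hc) U hcpt hD (Over.mk (𝟙 j))
  refine resP_congr ?_ U q hmain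
  rw [tBC_app, bcCone_π_snd_assoc]
  have h1 : c.π.app j ≫ tB.app j = c.π.app i₀ ≫ tB.app i₀ := by
    rw [← c.w φ, Category.assoc]
    congr 1
    exact ((tB.naturality φ).trans (Category.comp_id _)).symm
  exact congrArg (fun z => v ≫ z) h1

end Groth.Agent.Lib.NeronLocH6
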