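import Mathlib
import Groth.Agent.Lib.NeronLoc2_helper6
import Groth.Agent.Lib.NeronLoc3_helper6
import Groth.Agent.Lib.LocAwayLim2_helper7

/-!
# `ResP` over the local ring of a locally Noetherian scheme (helper6)
-/

set_option autoImplicit false
set_option linter.all false
set_option backward.isDefEq.respectTransparency false
universe u
open CategoryTheory CategoryTheory.Limits AlgebraicGeometry Opposite TopologicalSpace

namespace Groth.Agent.Lib.NeronLocH6

open Groth.Agent.Lib.LocAwayLimH7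

theorem resP_loc {S N : Scheme.{u}} (q : N ⟶ S) [LocallyOfFinitePresentation q]
    (A : Type u) [CommRing A] (𝔭 : Ideal A) [𝔭.IsPrime] (L : Type u) [CommRing L] [Algebra A L]
    [IsLocalization.AtPrime L 𝔭]
    (φ₀ : Spec (CommRingCat.of A) ⟶ S) [IsOpenImmersion φ₀] [IsNoetherianRing A]
    (U : S.Opens)
    (hP : ∀ (Y : Scheme.{u}) (y : Y ⟶ S), Smooth y → ResP y U q)
    {V : Scheme.{u}} (v : V ⟶ Spec (CommRingCat.of L)) [Smooth v] [QuasiCompact v]
    [QuasiSeparated v] :
    ResP (v ≫ Spec.map (CommRingCat.ofHom (algebraMap A L)) ≫ φ₀) U q := by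
  haveI : ∀ i, Smooth ((toBase A 𝔭 ≫ (Functor.const _).map φ₀).app i) := fun i => by
    show Smooth (Spec.map (CommRingCat.ofHom
      (algebraMap A (Localization.Away i.unop.val))) ≫ φ₀)
    infer_instance
  haveI : ∀ i, IsNoetherian ((DS A 𝔭).obj i) := fun i => by
    haveI : IsNoetherianRing (Localization.Away i.unop.val) :=
      IsLocalization.isNoetherianRing (Submonoid.powers i.unop.val) _ inferInstance
    show IsNoetherian (Spec (CommRingCat.of (Localization.Away i.unop.val)))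
    infer_instance
  let v' : V ⟶ (coneSL A 𝔭 L).pt := v
  haveI : Smooth v' := ‹Smooth v›
  haveI : QuasiCompact v' := ‹QuasiCompact v›
  haveI : QuasiSeparated v' := ‹QuasiSeparated v›
  have hmain := resP_bc q (DS A 𝔭) (toBase A 𝔭 ≫ (Functor.const _).map φ₀) (coneSL A 𝔭 L)
    (isLimitConeSL A 𝔭 L) U (op (one A 𝔭)) v' hP
  refine resP_congr ?_ U q hmain
  have hσ : (coneSL A 𝔭 L).π.app (op (one A 𝔭)) ≫
      (toBase A 𝔭 ≫ (Functor.const _).map φ₀).app (op (one A 𝔭)) =
      Spec.map (CommRingCat.ofHom (algebraMap A L)) ≫ φ₀ := by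
    show (coneSL A 𝔭 L).π.app _ ≫ (toBase A 𝔭).app _ ≫ φ₀ = _
    rw [← Category.assoc, coneSL_π_toBase]
  exact congrArg (fun z => v' ≫ z) hσ

theorem resP_stalk {S N : Scheme.{u}} [IsLocallyNoetherian S] (q : N ⟶ S)
    [LocallyOfFinitePresentation q] (U : S.Opens)
    (hP : ∀ (Y : Scheme.{u}) (y : Y ⟶ S), Smooth y → ResP y U q) (s : S)
    {V : Scheme.{u}} (v : V ⟶ Spec (S.presheaf.stalk s)) [Smooth v] [QuasiCompact v]
    [QuasiSeparated v] :
    ResP (v ≫ S.fromSpecStalk s) U q := by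
  obtain ⟨_, ⟨W₀, hW₀, rfl⟩, hxW₀, -⟩ := S.isBasis_affineOpens.exists_subset_of_mem_open
    (Set.mem_univ s) isOpen_univ
  letI : Algebra ↑Γ(S, W₀) ↑(S.presheaf.stalk s) :=
    TopCat.Presheaf.algebra_section_stalk S.presheaf ⟨s, hxW₀⟩
  haveI : IsLocalization.AtPrime ↑(S.presheaf.stalk s)
      (hW₀.primeIdealOf ⟨s, hxW₀⟩).asIdeal := hW₀.isLocalization_stalk ⟨s, hxW₀⟩
  have hσeq : Spec.map (CommRingCat.ofHom (algebraMap ↑Γ(S, W₀) ↑(S.presheaf.stalk s))) ≫
      hW₀.fromSpec = S.fromSpecStalk s := hW₀.fromSpecStalk_eq_fromSpecStalk hxW₀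
  haveI : IsNoetherianRing ↑Γ(S, W₀) :=
    (inferInstance : IsLocallyNoetherian S).component_noetherian ⟨W₀, hW₀⟩
  rw [← hσeq]
  exact resP_loc q ↑Γ(S, W₀) (hW₀.primeIdealOf ⟨s, hxW₀⟩).asIdeal
    ↑(S.presheaf.stalk s) hW₀.fromSpec U hP v

theorem resP_stalk_gen {S N : Scheme.{u}} [IsLocallyNoetherian S] (q : N ⟶ S)
    [LocallyOfFinitePresentation q] (U : S.Opens)
    (hP : ∀ (Y : Scheme.{u}) (y : Y ⟶ S), Smooth y → ResP y U q) (s : S)
    {V : Scheme.{u}} (v : V ⟶ Spec (S.presheaf.stalk s)) [Smooth v] :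
    ResP (v ≫ S.fromSpecStalk s) U q := by
  haveI : IsLocallyNoetherian V := LocallyOfFiniteType.isLocallyNoetherian v
  refine resP_of_cover _ U q V.affineCover ?_ ?_
  · intro x
    have h := resP_stalk q U hP s (V.affineCover.f x ≫ v)
    exact resP_congr (Category.assoc _ _ _) U q h
  · intro x y
    haveI : CompactSpace ↥(pullback (V.affineCover.f x) (V.affineCover.f y)) :=
      QuasiCompact.compactSpace_of_compactSpace
        (pullback.fst (V.affineCover.f x) (V.affineCover.f y))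
    haveI : QuasiSeparatedSpace ↥(pullback (V.affineCover.f x) (V.affineCover.f y)) :=
      quasiSeparatedSpace_of_quasiSeparated
        (pullback.fst (V.affineCover.f x) (V.affineCover.f y))
    have h := resP_stalk q U hP s
      ((pullback.fst (V.affineCover.f x) (V.affineCover.f y) ≫ V.affineCover.f x) ≫ v)
    exact resP_congr (Category.assoc _ _ _) U q h

end Groth.Agent.Lib.NeronLocH6
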