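import Mathlib
import Groth.Agent.Lib.NeronLoc4_helper6

/-!
# The Néron mapping property localises (helper6)
-/

set_option autoImplicit false
set_option linter.all false
set_option backward.isDefEq.respectTransparency false
universe u
open CategoryTheory CategoryTheory.Limits AlgebraicGeometry Opposite TopologicalSpace

namespace Groth.Agent.Lib.NeronLocH6

lemma pullback_map_left_fst {S V : Scheme.{u}} (j : V ⟶ S) {Y N : Over S} (f : Y ⟶ N) :
    Over.Hom.left ((Over.pullback j).map f) ≫ pullback.fst N.hom j =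
      pullback.fst Y.hom j ≫ Over.Hom.left f :=
  (congrArg (fun z => z ≫ pullback.fst N.hom j) (Over.pullback_map_left j Y)).trans
    (pullback.lift_fst _ _ _)

lemma pullback_map_left_snd {S V : Scheme.{u}} (j : V ⟶ S) {Y N : Over S} (f : Y ⟶ N) :
    Over.Hom.left ((Over.pullback j).map f) ≫ pullback.snd N.hom j = pullback.snd Y.hom j :=
  (congrArg (fun z => z ≫ pullback.snd N.hom j) (Over.pullback_map_left j Y)).trans
    (pullback.lift_snd _ _ _)

lemma resPj_of_bij {S V : Scheme.{u}} (j : V ⟶ S) (Y N : Over S)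
    (h : Function.Bijective (fun f : Y ⟶ N => (Over.pullback j).map f)) :
    ResPj Y.hom (pullback.fst Y.hom j) N.hom := by
  intro g hg
  have hw : g ≫ N.hom = pullback.snd Y.hom j ≫ j := by rw [hg, pullback.condition]
  let hh : (Over.pullback j).obj Y ⟶ (Over.pullback j).obj N :=
    Over.homMk (pullback.lift g (pullback.snd Y.hom j) hw) (pullback.lift_snd _ _ _)
  obtain ⟨f, hf⟩ := h.2 hh
  have hf : (Over.pullback j).map f = hh := hf
  have hfl : ((Over.pullback j).map f).left = hh.left := congrArg (fun z => z.left) hf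
  have hfl1 : ((Over.pullback j).map f).left ≫ pullback.fst N.hom j =
      pullback.fst Y.hom j ≫ f.left := pullback_map_left_fst j f
  have hfl2 : hh.left ≫ pullback.fst N.hom j = g := pullback.lift_fst _ _ _
  refine ⟨f.left, ⟨Over.w f, ?_⟩, ?_⟩
  · rw [← hfl1, hfl, hfl2]
  · rintro f' ⟨hf'1, hf'2⟩
    have : Over.homMk f' hf'1 = f := by
      apply h.1
      show (Over.pullback j).map (Over.homMk f' hf'1) = (Over.pullback j).map f
      rw [hf]
      ext
      apply pullback.hom_ext
      · rw [pullback_map_left_fst, hfl2]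
        exact hf'2
      · rw [pullback_map_left_snd]
        exact (pullback.lift_snd _ _ _).symm
    rw [← this]
    rfl

lemma bij_of_resPj {S V : Scheme.{u}} (j : V ⟶ S) (Y N : Over S)
    (h : ResPj Y.hom (pullback.fst Y.hom j) N.hom) :
    Function.Bijective (fun f : Y ⟶ N => (Over.pullback j).map f) := by
  have hfl1 : ∀ f : Y ⟶ N, ((Over.pullback j).map f).left ≫ pullback.fst N.hom j =
      pullback.fst Y.hom j ≫ f.left := by
    intro f
    exact pullback_map_left_fst j f
  constructor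
  · intro f₁ f₂ h12
    have h12' : ((Over.pullback j).map f₁).left = ((Over.pullback j).map f₂).left :=
      congrArg (fun z => z.left) h12
    have hg : (pullback.fst Y.hom j ≫ f₁.left) ≫ N.hom = pullback.fst Y.hom j ≫ Y.hom := by
      rw [Category.assoc, Over.w f₁]
    obtain ⟨f, -, hfu⟩ := h (pullback.fst Y.hom j ≫ f₁.left) hg
    have e1 : f₁.left = f := hfu _ ⟨Over.w f₁, rfl⟩
    have e2 : f₂.left = f := hfu _ ⟨Over.w f₂, by rw [← hfl1, ← h12', hfl1]⟩
    ext
    rw [e1, e2]
  · intro hh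
    have hw : (hh.left ≫ pullback.fst N.hom j) ≫ N.hom = pullback.fst Y.hom j ≫ Y.hom := by
      have := Over.w hh
      have h2 : hh.left ≫ pullback.snd N.hom j = pullback.snd Y.hom j := this
      rw [Category.assoc, pullback.condition, ← Category.assoc, h2, pullback.condition]
    obtain ⟨f, ⟨hf1, hf2⟩, -⟩ := h (hh.left ≫ pullback.fst N.hom j) hw
    refine ⟨Over.homMk f hf1, ?_⟩
    ext
    show ((Over.pullback j).map (Over.homMk f hf1)).left = hh.left
    apply pullback.hom_ext
    · rw [pullback_map_left_fst]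
      exact hf2
    · rw [pullback_map_left_snd]
      exact (Over.w hh).symm

lemma resPj_bc {T S S' N V : Scheme.{u}} (t : T ⟶ S') (σ : S' ⟶ S) (j : V ⟶ T) (q : N ⟶ S)
    (h : ResPj (t ≫ σ) j q) : ResPj t j (pullback.snd q σ) := by
  intro g hg
  have hg₀ : (g ≫ pullback.fst q σ) ≫ q = j ≫ t ≫ σ := by
    rw [Category.assoc, pullback.condition, ← Category.assoc, hg, Category.assoc]
  obtain ⟨f₀, ⟨hf₀1, hf₀2⟩, hf₀u⟩ := h (g ≫ pullback.fst q σ) hg₀
  refine ⟨pullback.lift f₀ t hf₀1, ⟨pullback.lift_snd _ _ _, ?_⟩, ?_⟩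
  · apply pullback.hom_ext
    · rw [Category.assoc, pullback.lift_fst, hf₀2]
    · rw [Category.assoc, pullback.lift_snd, hg]
  · rintro f' ⟨hf'1, hf'2⟩
    have e : f' ≫ pullback.fst q σ = f₀ := by
      apply hf₀u
      refine ⟨?_, ?_⟩
      · rw [Category.assoc, pullback.condition, ← Category.assoc, hf'1]
      · rw [← Category.assoc, hf'2]
    apply pullback.hom_ext
    · rw [pullback.lift_fst, e]
    · rw [pullback.lift_snd, hf'1]

lemma resP_iff_resPj_fst {T S N : Scheme.{u}} (t : T ⟶ S) (U : S.Opens) (q : N ⟶ S) :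
    ResP t U q ↔ ResPj t (pullback.fst t U.ι) q := by
  rw [resP_iff_resPj]
  apply resPj_iff_of_range_eq
  rw [Scheme.Pullback.range_fst, Scheme.Opens.range_ι, Scheme.Opens.range_ι]
  rfl

theorem main13750 {S : Scheme.{u}} [IsLocallyNoetherian S] (U : S.Opens)
    (N : Over S) [Smooth N.hom] [IsSeparated N.hom] [QuasiCompact N.hom]
    (hN : ∀ Y : Over S, Smooth Y.hom →
      Function.Bijective (fun f : Y ⟶ N => (Over.pullback U.ι).map f))
    (s : S) (Y' : Over (Spec (S.presheaf.stalk s))) [Smooth Y'.hom] :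
    Function.Bijective (fun f : Y' ⟶ (Over.pullback (S.fromSpecStalk s)).obj N =>
      (Over.pullback ((S.fromSpecStalk s) ⁻¹ᵁ U).ι).map f) := by
  have hP : ∀ (Y : Scheme.{u}) (y : Y ⟶ S), Smooth y → ResP y U N.hom := by
    intro Y y hy
    rw [resP_iff_resPj_fst]
    exact resPj_of_bij U.ι (Over.mk y) N (hN (Over.mk y) hy)
  have h1 : ResP (Y'.hom ≫ S.fromSpecStalk s) U N.hom :=
    resP_stalk_gen N.hom U hP s Y'.hom
  apply bij_of_resPj
  show ResPj Y'.hom (pullback.fst Y'.hom ((S.fromSpecStalk s) ⁻¹ᵁ U).ι)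
    (pullback.snd N.hom (S.fromSpecStalk s))
  apply resPj_bc
  rw [resP_iff_resPj] at h1
  refine (resPj_iff_of_range_eq _ _ _ _ ?_).mp h1
  rw [Scheme.Pullback.range_fst, Scheme.Opens.range_ι, Scheme.Opens.range_ι]
  rfl

end Groth.Agent.Lib.NeronLocH6
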