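import Mathlib
import Groth.Prelude.Def_CInt
import Groth.Agent.Lib.NeronLoc5_helper6
import Groth.Agent.Lib.RatExt4_helper6
import Groth.Agent.Lib.SchDenseExt_helper4
import Groth.Agent.Lib.SchDenseFlat_helper5

/-!
# Descent of extensions of morphisms along flat surjective morphisms (helper6)

`S` locally Noetherian, `U ⊆ S` schematically dense, `t : T ⟶ S` flat, `q : N ⟶ S` separated
and locally of finite presentation, `h : t⁻¹U ⟶ N` an `S`-morphism.  If `h` extends after a flat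
surjective base change `p : P ⟶ T`, then it extends over `T`.
-/

set_option autoImplicit false
set_option linter.all false
set_option backward.isDefEq.respectTransparency false
universe u
open CategoryTheory CategoryTheory.Limits AlgebraicGeometry Opposite TopologicalSpace

namespace Groth.Agent.Lib.NeronLocH6

/-- `F : P ⟶ N` restricts to `h` on the part of `P` lying over `V ⊆ T`. -/
def Factors {P T N : Scheme.{u}} (p : P ⟶ T) (V : T.Opens) (h : (V : Scheme.{u}) ⟶ N)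
    (F : P ⟶ N) : Prop :=
  ∀ ⦃Z : Scheme.{u}⦄ (z : Z ⟶ P) (z₀ : Z ⟶ (V : Scheme.{u})), z ≫ p = z₀ ≫ V.ι → z ≫ F = z₀ ≫ h

lemma factors_of_open {P T N : Scheme.{u}} (p : P ⟶ T) (V : T.Opens) (h : (V : Scheme.{u}) ⟶ N)
    (F : P ⟶ N) (W : P.Opens) (hW : p ⁻¹ᵁ V ≤ W) (k : (W : Scheme.{u}) ⟶ (V : Scheme.{u}))
    (hk : k ≫ V.ι = W.ι ≫ p) (hF : W.ι ≫ F = k ≫ h) : Factors p V h F := by
  intro Z z z₀ hz
  have hrange : Set.range z ⊆ Set.range W.ι := by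
    rw [Scheme.Opens.range_ι]
    rintro _ ⟨a, rfl⟩
    apply hW
    show p (z a) ∈ V
    rw [← Scheme.Hom.comp_apply, hz, Scheme.Hom.comp_apply]
    exact (z₀ a).2
  have hfac := IsOpenImmersion.lift_fac W.ι z hrange
  have h1 : IsOpenImmersion.lift W.ι z hrange ≫ k = z₀ := by
    rw [← cancel_mono V.ι, Category.assoc, hk, ← Category.assoc, hfac, hz]
  calc z ≫ F = (IsOpenImmersion.lift W.ι z hrange ≫ W.ι) ≫ F := by rw [hfac]
    _ = IsOpenImmersion.lift W.ι z hrange ≫ k ≫ h := by rw [Category.assoc, hF]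
    _ = z₀ ≫ h := by rw [← Category.assoc, h1]

lemma factors_of_homOfLE {T N : Scheme.{u}} (U₁ V : T.Opens) (h : (U₁ : Scheme.{u}) ⟶ N)
    (v : (V : Scheme.{u}) ⟶ N)
    (hv : T.homOfLE (inf_le_right : U₁ ⊓ V ≤ V) ≫ v =
      T.homOfLE (inf_le_left : U₁ ⊓ V ≤ U₁) ≫ h) : Factors V.ι U₁ h v := by
  intro Z z z₀ hz
  have hrange : Set.range (z ≫ V.ι) ⊆ Set.range (U₁ ⊓ V).ι := by
    rw [Scheme.Opens.range_ι]
    rintro _ ⟨a, rfl⟩
    refine ⟨?_, ?_⟩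
    · rw [hz, Scheme.Hom.comp_apply]
      exact (z₀ a).2
    · rw [Scheme.Hom.comp_apply]
      exact (z a).2
  have hfac := IsOpenImmersion.lift_fac (U₁ ⊓ V).ι (z ≫ V.ι) hrange
  have h1 : IsOpenImmersion.lift (U₁ ⊓ V).ι (z ≫ V.ι) hrange ≫
      T.homOfLE (inf_le_right : U₁ ⊓ V ≤ V) = z := by
    rw [← cancel_mono V.ι, Category.assoc, Scheme.homOfLE_ι, hfac]
  have h2 : IsOpenImmersion.lift (U₁ ⊓ V).ι (z ≫ V.ι) hrange ≫
      T.homOfLE (inf_le_left : U₁ ⊓ V ≤ U₁) = z₀ := by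
    rw [← cancel_mono U₁.ι, Category.assoc, Scheme.homOfLE_ι, hfac, hz]
  calc z ≫ v = (IsOpenImmersion.lift (U₁ ⊓ V).ι (z ≫ V.ι) hrange ≫
        T.homOfLE (inf_le_right : U₁ ⊓ V ≤ V)) ≫ v := by rw [h1]
    _ = IsOpenImmersion.lift (U₁ ⊓ V).ι (z ≫ V.ι) hrange ≫
        T.homOfLE (inf_le_left : U₁ ⊓ V ≤ U₁) ≫ h := by rw [Category.assoc, hv]
    _ = z₀ ≫ h := by rw [← Category.assoc, h2]

theorem flat_fromSpecStalk (X : Scheme.{u}) (x : X) : Flat (X.fromSpecStalk x) := by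
  obtain ⟨_, ⟨U, hU, rfl⟩, hxU, -⟩ := X.isBasis_affineOpens.exists_subset_of_mem_open
    (Set.mem_univ x) isOpen_univ
  rw [← IsAffineOpen.fromSpecStalk_eq_fromSpecStalk hU hxU, IsAffineOpen.fromSpecStalk]
  haveI : Flat (Spec.map (X.presheaf.germ U x hxU)) := by
    rw [Flat.SpecMap_iff]
    letI := TopCat.Presheaf.algebra_section_stalk X.presheaf (⟨x, hxU⟩ : U)
    haveI := hU.isLocalization_stalk ⟨x, hxU⟩
    have hfl : Module.Flat Γ(X, U) (X.presheaf.stalk x) :=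
      IsLocalization.flat _ (hU.primeIdealOf ⟨x, hxU⟩).asIdeal.primeCompl
    exact RingHom.flat_algebraMap_iff.mpr hfl
  infer_instance

section Dense

variable {T S N : Scheme.{u}} [IsLocallyNoetherian S] (t : T ⟶ S) [Flat t] (U : S.Opens)
  (hU : CInt.IsSchematicallyDense U) (q : N ⟶ S) [IsSeparated q]

include hU in
lemma ext_of_dense (f₁ f₂ : T ⟶ N) (h₁ : f₁ ≫ q = t) (h₂ : f₂ ≫ q = t)
    (h : (t ⁻¹ᵁ U).ι ≫ f₁ = (t ⁻¹ᵁ U).ι ≫ f₂) : f₁ = f₂ := by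
  haveI := Groth.Agent.Lib.SchDenseExtH4.isSchemeTheoreticallyDominant_of_isSchematicallyDense
    (t ⁻¹ᵁ U) (Groth.Agent.SchDenseFlat.main t U hU)
  exact Groth.Agent.Lib.SchDenseExtH4.ext_of_schDominant_of_isSeparated q (h₁.trans h₂.symm)
    (t ⁻¹ᵁ U).ι h

include hU in
/-- two `S`-morphisms out of a flat `S`-scheme `Z ⟶ T ⟶ S` which both factor `h` agree -/
lemma ext_of_factors (h : ((t ⁻¹ᵁ U : T.Opens) : Scheme.{u}) ⟶ N) {Z : Scheme.{u}} (z : Z ⟶ T)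
    [Flat z] (f₁ f₂ : Z ⟶ N) (h₁ : f₁ ≫ q = z ≫ t) (h₂ : f₂ ≫ q = z ≫ t)
    (hf₁ : Factors z (t ⁻¹ᵁ U) h f₁) (hf₂ : Factors z (t ⁻¹ᵁ U) h f₂) : f₁ = f₂ := by
  refine ext_of_dense (z ≫ t) U hU q f₁ f₂ h₁ h₂ ?_
  have hz : ((z ≫ t) ⁻¹ᵁ U).ι ≫ z = (z ∣_ (t ⁻¹ᵁ U)) ≫ (t ⁻¹ᵁ U).ι := restrict_ι' t U z
  rw [hf₁ _ _ hz, hf₂ _ _ hz]

end Dense

end Groth.Agent.Lib.NeronLocH6
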