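import Mathlib
import Groth.Agent.Lib.NeronDesc1_helper6

/-!
# Descent of extensions of morphisms along flat surjective morphisms, local step (helper6)
-/

set_option autoImplicit false
set_option linter.all false
set_option backward.isDefEq.respectTransparency false
universe u
open CategoryTheory CategoryTheory.Limits AlgebraicGeometry Opposite TopologicalSpace

namespace Groth.Agent.Lib.NeronLocH6

section LocalDescent

variable {T S N P : Scheme.{u}} [IsLocallyNoetherian S] (t : T ⟶ S) [Flat t] (U : S.Opens)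
  (hU : CInt.IsSchematicallyDense U) (q : N ⟶ S) [IsSeparated q]
  (h : ((t ⁻¹ᵁ U : T.Opens) : Scheme.{u}) ⟶ N) (p : P ⟶ T) [Flat p] (F : P ⟶ N)
  (hF : F ≫ q = p ≫ t) (hFh : Factors p (t ⁻¹ᵁ U) h F)

include hU hF hFh in
theorem exists_stalk_ext (x' : P) :
    ∃ w : Spec (T.presheaf.stalk (p x')) ⟶ N, w ≫ q = T.fromSpecStalk (p x') ≫ t ∧
      pullback.fst (T.fromSpecStalk (p x')) (t ⁻¹ᵁ U).ι ≫ w =
        pullback.snd (T.fromSpecStalk (p x')) (t ⁻¹ᵁ U).ι ≫ h := by
  have hπ : Spec.map (p.stalkMap x') ≫ T.fromSpecStalk (p x') = P.fromSpecStalk x' ≫ p :=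
    Scheme.SpecMap_stalkMap_fromSpecStalk p
  have hff : (p.stalkMap x').hom.FaithfullyFlat := by
    algebraize [(p.stalkMap x').hom]
    exact @Module.FaithfullyFlat.of_flat_of_isLocalHom _ _ _ _ _ _ _
      (Flat.stalkMap p x') (p.toLRSHom.prop x')
  obtain ⟨hfl, hsurj⟩ := (flat_and_surjective_SpecMap_iff (p.stalkMap x')).mpr hff
  haveI := hfl
  haveI := hsurj
  haveI := flat_fromSpecStalk T (p x')
  haveI : IsRegularEpi (Spec.map (p.stalkMap x')) :=
    isRegularEpi_of_flat_of_surjective_of_isAffine _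
  haveI : Epi (Spec.map (p.stalkMap x')) := Flat.epi_of_flat_of_surjective _
  have hπ' : ∀ {W : Scheme.{u}} (k : T ⟶ W), P.fromSpecStalk x' ≫ p ≫ k =
      Spec.map (p.stalkMap x') ≫ T.fromSpecStalk (p x') ≫ k := fun k => by
    rw [← Category.assoc, ← hπ, Category.assoc]
  -- the kernel pair condition
  have hker : pullback.fst (Spec.map (p.stalkMap x')) (Spec.map (p.stalkMap x')) ≫
      (P.fromSpecStalk x' ≫ F) =
      pullback.snd (Spec.map (p.stalkMap x')) (Spec.map (p.stalkMap x')) ≫
        (P.fromSpecStalk x' ≫ F) := by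
    refine ext_of_factors t U hU q h
      (pullback.fst (Spec.map (p.stalkMap x')) (Spec.map (p.stalkMap x')) ≫
        Spec.map (p.stalkMap x') ≫ T.fromSpecStalk (p x')) _ _ ?_ ?_ ?_ ?_
    · simp only [Category.assoc]
      rw [hF, hπ' t]
    · simp only [Category.assoc]
      rw [hF, hπ' t, ← pullback.condition_assoc]
    · intro Z z z₀ hz
      rw [← Category.assoc, ← Category.assoc]
      apply hFh
      rw [← hz]
      simp only [Category.assoc]
      rw [hπ]
    · intro Z z z₀ hz
      rw [← Category.assoc, ← Category.assoc]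
      apply hFh
      rw [← hz]
      simp only [Category.assoc]
      rw [← hπ, pullback.condition_assoc]
  -- descend
  have hcond : ∀ {Z : Scheme.{u}} (g₁ g₂ : Z ⟶ Spec (P.presheaf.stalk x')),
      g₁ ≫ Spec.map (p.stalkMap x') = g₂ ≫ Spec.map (p.stalkMap x') →
      g₁ ≫ (P.fromSpecStalk x' ≫ F) = g₂ ≫ (P.fromSpecStalk x' ≫ F) := by
    intro Z g₁ g₂ hg
    have e1 : pullback.lift g₁ g₂ hg ≫ pullback.fst _ _ = g₁ := pullback.lift_fst _ _ _
    have e2 : pullback.lift g₁ g₂ hg ≫ pullback.snd _ _ = g₂ := pullback.lift_snd _ _ _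
    rw [← e1, Category.assoc, hker, ← Category.assoc, e2]
  have hfac : Spec.map (p.stalkMap x') ≫
      EffectiveEpi.desc (Spec.map (p.stalkMap x')) (P.fromSpecStalk x' ≫ F) hcond =
      P.fromSpecStalk x' ≫ F := EffectiveEpi.fac _ _ _
  refine ⟨EffectiveEpi.desc (Spec.map (p.stalkMap x')) (P.fromSpecStalk x' ≫ F) hcond, ?_, ?_⟩
  · rw [← cancel_epi (Spec.map (p.stalkMap x')), ← Category.assoc, hfac, Category.assoc, hF,
      ← Category.assoc, ← hπ, Category.assoc]
  · haveI : Epi (pullback.fst (pullback.fst (T.fromSpecStalk (p x')) (t ⁻¹ᵁ U).ι)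
        (Spec.map (p.stalkMap x'))) := Flat.epi_of_flat_of_surjective _
    rw [← cancel_epi (pullback.fst (pullback.fst (T.fromSpecStalk (p x')) (t ⁻¹ᵁ U).ι)
        (Spec.map (p.stalkMap x')))]
    rw [← Category.assoc, pullback.condition, Category.assoc, hfac, ← Category.assoc,
      ← Category.assoc]
    apply hFh
    rw [Category.assoc, ← hπ, ← Category.assoc, ← pullback.condition, Category.assoc,
      Category.assoc, pullback.condition]

end LocalDescent

end Groth.Agent.Lib.NeronLocH6
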