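import Mathlib
import Groth.Agent.Lib.NeronDesc2_helper6

/-!
# The Néron mapping property descends along flat surjective base change (helper6)
-/

set_option autoImplicit false
set_option linter.all false
set_option backward.isDefEq.respectTransparency false
universe u
open CategoryTheory CategoryTheory.Limits AlgebraicGeometry Opposite TopologicalSpace

namespace Groth.Agent.Lib.NeronLocH6

section Glue

variable {T S N : Scheme.{u}} [IsLocallyNoetherian S] (t : T ⟶ S) [Flat t] (U : S.Opens)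
  (hU : CInt.IsSchematicallyDense U) (q : N ⟶ S) [IsSeparated q]
  (h : ((t ⁻¹ᵁ U : T.Opens) : Scheme.{u}) ⟶ N)

include hU in
theorem exists_of_cover (𝒰 : T.OpenCover) (v : ∀ x, 𝒰.X x ⟶ N)
    (hv : ∀ x, v x ≫ q = 𝒰.f x ≫ t) (hvh : ∀ x, Factors (𝒰.f x) (t ⁻¹ᵁ U) h (v x)) :
    ∃ f : T ⟶ N, f ≫ q = t ∧ (t ⁻¹ᵁ U).ι ≫ f = h := by
  have hcompat : ∀ x y, pullback.fst (𝒰.f x) (𝒰.f y) ≫ v x =
      pullback.snd (𝒰.f x) (𝒰.f y) ≫ v y := by
    intro x y
    refine ext_of_factors t U hU q h (pullback.fst (𝒰.f x) (𝒰.f y) ≫ 𝒰.f x) _ _ ?_ ?_ ?_ ?_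
    · rw [Category.assoc, hv x, Category.assoc]
    · rw [Category.assoc, hv y, ← pullback.condition_assoc, Category.assoc]
    · intro Z z z₀ hz
      rw [← Category.assoc]
      apply hvh x
      rw [← hz, Category.assoc]
    · intro Z z z₀ hz
      rw [← Category.assoc]
      apply hvh y
      rw [← hz, Category.assoc, pullback.condition]
  refine ⟨𝒰.glueMorphisms v hcompat, ?_, ?_⟩
  · refine Scheme.Cover.hom_ext 𝒰 _ _ fun x => ?_
    rw [← Category.assoc, Scheme.Cover.ι_glueMorphisms, hv x]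
  · refine Scheme.Cover.hom_ext (𝒰.pullback₁ (t ⁻¹ᵁ U).ι) _ _ fun x => ?_
    show pullback.fst (t ⁻¹ᵁ U).ι (𝒰.f x) ≫ (t ⁻¹ᵁ U).ι ≫ 𝒰.glueMorphisms v hcompat =
      pullback.fst (t ⁻¹ᵁ U).ι (𝒰.f x) ≫ h
    rw [← Category.assoc, pullback.condition, Category.assoc, Scheme.Cover.ι_glueMorphisms]
    exact hvh x _ _ pullback.condition.symm

include hU in
theorem exists_of_local
    (hloc : ∀ x : T, ∃ (V : T.Opens) (v : (V : Scheme.{u}) ⟶ N), x ∈ V ∧ v ≫ q = V.ι ≫ t ∧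
      Factors V.ι (t ⁻¹ᵁ U) h v) :
    ∃ f : T ⟶ N, f ≫ q = t ∧ (t ⁻¹ᵁ U).ι ≫ f = h := by
  choose V v hxV hv hvh using hloc
  have hcov : IsOpenCover V := by
    show iSup V = ⊤
    rw [eq_top_iff]
    intro x _
    exact Opens.mem_iSup.mpr ⟨x, hxV x⟩
  exact exists_of_cover t U hU q h (T.openCoverOfIsOpenCover V hcov) v hv hvh

end Glue

section Main

variable {T S N P : Scheme.{u}} [IsLocallyNoetherian S] (t : T ⟶ S) [Flat t]
  [LocallyOfFiniteType t] (U : S.Opens)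
  (hU : CInt.IsSchematicallyDense U) (q : N ⟶ S) [IsSeparated q] [LocallyOfFinitePresentation q]
  (h : ((t ⁻¹ᵁ U : T.Opens) : Scheme.{u}) ⟶ N) (hh : h ≫ q = (t ⁻¹ᵁ U).ι ≫ t)
  (p : P ⟶ T) [Flat p] [Surjective p] (F : P ⟶ N)
  (hF : F ≫ q = p ≫ t) (hFh : Factors p (t ⁻¹ᵁ U) h F)

include hU hh hF hFh in
/-- descent of an extension along a flat surjective morphism -/
theorem exists_ext_of_flat_surjective : ∃ f : T ⟶ N, f ≫ q = t ∧ (t ⁻¹ᵁ U).ι ≫ f = h := by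
  haveI : IsLocallyNoetherian T := LocallyOfFiniteType.isLocallyNoetherian t
  refine exists_of_local t U hU q h ?_
  intro x
  obtain ⟨x', rfl⟩ := ‹Surjective p›.surj x
  obtain ⟨w, hw1, hw2⟩ := exists_stalk_ext t U hU q h p F hF hFh x'
  obtain ⟨V, v, hxV, hv, hvh⟩ := (Groth.Agent.Lib.RatExtH6.main5104 t q (Or.inl inferInstance)
    (t ⁻¹ᵁ U) h hh (p x')).mpr ⟨w, hw1, hw2⟩
  exact ⟨V, v, hxV, hv, factors_of_homOfLE (t ⁻¹ᵁ U) V h v hvh⟩

end Main

end Groth.Agent.Lib.NeronLocH6
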