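import Mathlib
import Groth.Agent.Lib.NeronDesc3_helper6

/-!
# The Néron mapping property descends along flat surjective base change (helper6)
-/

set_option autoImplicit false
set_option linter.all false
set_option backward.isDefEq.respectTransparency false
universe u
open CategoryTheory CategoryTheory.Limits AlgebraicGeometry Opposite TopologicalSpace

namespace Groth.Agent.Lib.NeronLocH6

theorem main13749 {S S' : Scheme.{u}} [IsLocallyNoetherian S] (g : S' ⟶ S) [Flat g] [Surjective g]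
    (U : S.Opens) (hU : CInt.IsSchematicallyDense U)
    (N : Over S) [Smooth N.hom] [IsSeparated N.hom] [QuasiCompact N.hom]
    (hN' : ∀ Y' : Over S', Smooth Y'.hom →
      Function.Bijective (fun f : Y' ⟶ (Over.pullback g).obj N =>
        (Over.pullback (g ⁻¹ᵁ U).ι).map f))
    (Y : Over S) [Smooth Y.hom] :
    Function.Bijective (fun f : Y ⟶ N => (Over.pullback U.ι).map f) := by
  apply bij_of_resPj
  rw [← resP_iff_resPj_fst]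
  intro h hh
  -- uniqueness
  have huniq : ∀ f₁ f₂ : Y.left ⟶ N.left,
      (f₁ ≫ N.hom = Y.hom ∧ (Y.hom ⁻¹ᵁ U).ι ≫ f₁ = h) →
      (f₂ ≫ N.hom = Y.hom ∧ (Y.hom ⁻¹ᵁ U).ι ≫ f₂ = h) → f₁ = f₂ := by
    rintro f₁ f₂ ⟨h11, h12⟩ ⟨h21, h22⟩
    exact ext_of_dense Y.hom U hU N.hom f₁ f₂ h11 h21 (h12.trans h22.symm)
  -- the hypothesis over `S'`
  have hR' : ResP (pullback.snd Y.hom g) (g ⁻¹ᵁ U) (pullback.snd N.hom g) := by
    rw [resP_iff_resPj_fst]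
    exact resPj_of_bij (g ⁻¹ᵁ U).ι (Over.mk (pullback.snd Y.hom g)) ((Over.pullback g).obj N)
      (hN' (Over.mk (pullback.snd Y.hom g))
        (show Smooth (pullback.snd Y.hom g) from inferInstance))
  have hle : (pullback.snd Y.hom g) ⁻¹ᵁ (g ⁻¹ᵁ U) ≤
      (pullback.fst Y.hom g) ⁻¹ᵁ (Y.hom ⁻¹ᵁ U) := by
    rw [← Scheme.Hom.comp_preimage, ← Scheme.Hom.comp_preimage, pullback.condition]
  have hge : (pullback.fst Y.hom g) ⁻¹ᵁ (Y.hom ⁻¹ᵁ U) ≤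
      (pullback.snd Y.hom g) ⁻¹ᵁ (g ⁻¹ᵁ U) := by
    rw [← Scheme.Hom.comp_preimage, ← Scheme.Hom.comp_preimage, pullback.condition]
  have hk : (pullback.fst Y.hom g).resLE (Y.hom ⁻¹ᵁ U)
      ((pullback.snd Y.hom g) ⁻¹ᵁ (g ⁻¹ᵁ U)) hle ≫ (Y.hom ⁻¹ᵁ U).ι =
      ((pullback.snd Y.hom g) ⁻¹ᵁ (g ⁻¹ᵁ U)).ι ≫ pullback.fst Y.hom g :=
    Scheme.Hom.resLE_comp_ι _ _
  have hcond : ((pullback.fst Y.hom g).resLE (Y.hom ⁻¹ᵁ U)
      ((pullback.snd Y.hom g) ⁻¹ᵁ (g ⁻¹ᵁ U)) hle ≫ h) ≫ N.hom =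
      (((pullback.snd Y.hom g) ⁻¹ᵁ (g ⁻¹ᵁ U)).ι ≫ pullback.snd Y.hom g) ≫ g := by
    rw [Category.assoc, hh, ← Category.assoc, hk, Category.assoc, Category.assoc,
      pullback.condition]
  obtain ⟨f', ⟨hf'1, hf'2⟩, -⟩ := hR'
    (pullback.lift ((pullback.fst Y.hom g).resLE (Y.hom ⁻¹ᵁ U)
      ((pullback.snd Y.hom g) ⁻¹ᵁ (g ⁻¹ᵁ U)) hle ≫ h)
      (((pullback.snd Y.hom g) ⁻¹ᵁ (g ⁻¹ᵁ U)).ι ≫ pullback.snd Y.hom g) hcond)
    (pullback.lift_snd _ _ _)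
  have hF : (f' ≫ pullback.fst N.hom g) ≫ N.hom = pullback.fst Y.hom g ≫ Y.hom := by
    rw [Category.assoc, pullback.condition, ← Category.assoc, hf'1, pullback.condition]
  have hFh : Factors (pullback.fst Y.hom g) (Y.hom ⁻¹ᵁ U) h (f' ≫ pullback.fst N.hom g) := by
    refine factors_of_open _ _ _ _ ((pullback.snd Y.hom g) ⁻¹ᵁ (g ⁻¹ᵁ U)) hge _ hk ?_
    rw [← Category.assoc, hf'2, pullback.lift_fst]
  obtain ⟨f, hf1, hf2⟩ := exists_ext_of_flat_surjective Y.hom U hU N.hom h hh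
    (pullback.fst Y.hom g) _ hF hFh
  exact ⟨f, ⟨hf1, hf2⟩, fun f₂ hf₂ => huniq f₂ f ⟨hf₂.1, hf₂.2⟩ ⟨hf1, hf2⟩⟩

end Groth.Agent.Lib.NeronLocH6
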