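import Mathlib
import Groth.Prelude
import Groth.Agent.Lib.Norm1_helper8
import Groth.Agent.Lib.LocIntegral_helper4

/-!
# Relative normalization is trivial over a normal base for birational quasi-finite maps (helper6)

* `isIso_fromNormalization_of_cover`: if `Y` is covered by affine opens `U` on which `f.app U` is
  injective with integrally closed range, then `f.fromNormalization` is an isomorphism.
* `exists_section_of_isIntegralElem`: on a normal integral scheme, a section over a nonempty open
  which is integral over the global sections extends to a global section.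
* `isOpenImmersion_of_birational`: quasi-finite separated `g : P ⟶ X` with `P` reduced, `X` affine
  integral normal, iso over a nonempty open `X₀` with `g⁻¹ X₀` dense: `g` is an open immersion.
* `isOpenImmersion_of_iso_over_dense`: the same over a locally Noetherian normal base.
APPEND-ONLY once landed.
-/

set_option autoImplicit false
set_option linter.all false
set_option backward.isDefEq.respectTransparency false
set_option maxHeartbeats 1600000

universe u

open CategoryTheory CategoryTheory.Limits AlgebraicGeometry TopologicalSpace Opposite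

namespace Groth.Agent.Lib.NeronEt1_helper6

/-- If `Y` is covered by affine opens on which `O_Y(U) → O_X(f⁻¹U)` is injective with integrally
closed image, then the relative normalization of `Y` in `X` is `Y`. -/
theorem isIso_fromNormalization_of_cover {X Y : Scheme.{u}} (f : X ⟶ Y) [QuasiCompact f]
    [QuasiSeparated f]
    (h : ∀ y : Y, ∃ U : Y.Opens, IsAffineOpen U ∧ y ∈ U ∧ Function.Injective (f.app U).hom ∧
      ∀ b : Γ(X, f ⁻¹ᵁ U), (f.app U).hom.IsIntegralElem b → b ∈ Set.range (f.app U).hom) :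
    IsIso f.fromNormalization := by
  choose U hU hyU hinj hic using h
  have hsup : ⨆ y, U y = ⊤ := by
    rw [eq_top_iff]
    intro y _
    exact Opens.mem_iSup.mpr ⟨y, hyU y⟩
  rw [← MorphismProperty.isomorphisms.iff,
    IsZariskiLocalAtTarget.iff_of_iSup_eq_top (P := MorphismProperty.isomorphisms Scheme.{u}) _ hsup]
  intro y
  rw [MorphismProperty.isomorphisms.iff, isIso_morphismRestrict_iff_isIso_app _ (hU y),
    Scheme.Hom.fromNormalization_app f (hU y)]
  letI := (f.app (U y)).hom.toAlgebra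
  suffices hb : Function.Bijective (algebraMap Γ(Y, U y)
      (integralClosure Γ(Y, U y) Γ(X, f ⁻¹ᵁ U y))) by
    haveI : IsIso (CommRingCat.ofHom (algebraMap Γ(Y, U y)
        (integralClosure Γ(Y, U y) Γ(X, f ⁻¹ᵁ U y)))) :=
      (ConcreteCategory.isIso_iff_bijective _).mpr hb
    infer_instance
  constructor
  · intro a b hab
    apply hinj y
    have := congrArg (Subalgebra.val _) hab
    exact this
  · intro b
    obtain ⟨a, ha⟩ := hic y b.1 b.2
    exact ⟨a, Subtype.ext ha⟩

/-- If `f` restricted over `A` is an isomorphism, so is `f` restricted over any `B ≤ A`. -/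
theorem isIso_morphismRestrict_of_le {X Y : Scheme.{u}} (f : X ⟶ Y) {A B : Y.Opens} (h : B ≤ A)
    [IsIso (f ∣_ A)] : IsIso (f ∣_ B) := by
  have h1 : IsIso ((f ∣_ A) ∣_ (A.ι ⁻¹ᵁ B)) := inferInstance
  have e : A.ι ''ᵁ (A.ι ⁻¹ᵁ B) = B := by
    rw [Scheme.Hom.image_preimage_eq_opensRange_inf, Scheme.Opens.opensRange_ι]
    exact inf_eq_right.mpr h
  rw [← MorphismProperty.isomorphisms.iff] at h1 ⊢
  rw [(MorphismProperty.isomorphisms Scheme.{u}).arrow_mk_iso_iff
    (morphismRestrictRestrict f A (A.ι ⁻¹ᵁ B) ≪≫ morphismRestrictEq f e)] at h1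
  exact h1

/-- If `f` restricted over `A` is an isomorphism, then `f.app B` is an isomorphism for `B ≤ A`. -/
theorem isIso_app_of_le {X Y : Scheme.{u}} (f : X ⟶ Y) {A B : Y.Opens} (h : B ≤ A)
    [IsIso (f ∣_ A)] : IsIso (f.app B) := by
  haveI := isIso_morphismRestrict_of_le f h
  have h1 : IsIso ((f ∣_ B).app ⊤) := inferInstance
  rw [morphismRestrict_app] at h1
  have h2 : IsIso (f.app (B.ι ''ᵁ ⊤)) := by
    have := IsIso.of_isIso_comp_right (f.app (B.ι ''ᵁ ⊤))
      (X.presheaf.map (eqToHom (image_morphismRestrict_preimage f B ⊤)).op)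
    exact this
  have e : B.ι ''ᵁ ⊤ = B := by
    rw [Scheme.Hom.image_top_eq_opensRange, Scheme.Opens.opensRange_ι]
  rw [e] at h2
  exact h2

/-- On a reduced scheme, a section vanishing on a dense open vanishes. -/
theorem eq_zero_of_dense {P : Scheme.{u}} [IsReduced P] (D : P.Opens) (hD : Dense (D : Set P))
    (V : P.Opens) (hDV : D ≤ V) (s : Γ(P, V))
    (hs : P.presheaf.map (homOfLE hDV).op s = 0) : s = 0 := by
  rw [← basicOpen_eq_bot_iff]
  have h1 : P.basicOpen (P.presheaf.map (homOfLE hDV).op s) = D ⊓ P.basicOpen s :=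
    Scheme.basicOpen_res _ _ _
  rw [hs, Scheme.basicOpen_zero] at h1
  by_contra hne
  have hne' : ((P.basicOpen s : P.Opens) : Set P).Nonempty := by
    rw [Set.nonempty_iff_ne_empty]
    intro h0
    apply hne
    ext x
    simp only [Opens.coe_bot, Set.mem_empty_iff_false, iff_false]
    intro hx
    have : x ∈ ((P.basicOpen s : P.Opens) : Set P) := hx
    rw [h0] at this
    exact this
  obtain ⟨x, hx1, hx2⟩ := hD.inter_open_nonempty _ (P.basicOpen s).2 hne'
  have : x ∈ D ⊓ P.basicOpen s := ⟨hx2, hx1⟩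
  rw [← h1] at this
  exact this

/-- On a normal integral scheme, a section over a nonempty open that is integral over the global
sections is the restriction of a global section. -/
theorem exists_section_of_isIntegralElem {X : Scheme.{u}} [IsIntegral X]
    (hX : ∀ x : X, IsIntegrallyClosed (X.presheaf.stalk x)) (W : X.Opens) [Nonempty W]
    (c : Γ(X, W))
    (hc : (X.presheaf.map (homOfLE (le_top : W ≤ ⊤)).op).hom.IsIntegralElem c) :
    ∃ r : Γ(X, ⊤), X.presheaf.map (homOfLE (le_top : W ≤ ⊤)).op r = c := by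
  haveI : Nonempty (⊤ : X.Opens) := by
    obtain ⟨w⟩ := ‹Nonempty W›
    exact ⟨⟨w.1, trivial⟩⟩
  obtain ⟨p, hpm, hp⟩ := hc
  have hcomp : (X.germToFunctionField W).hom.comp
      (X.presheaf.map (homOfLE (le_top : W ≤ ⊤)).op).hom = (X.germToFunctionField ⊤).hom := by
    rw [← CommRingCat.hom_comp]
    congr 1
    exact X.presheaf.germ_res (homOfLE (le_top : W ≤ ⊤)) _ _
  have h : ∀ x ∈ (⊤ : X.Opens), ∃ r : X.presheaf.stalk x,
      algebraMap (X.presheaf.stalk x) X.functionField r = X.germToFunctionField W c := by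
    intro x hx
    have hint : IsIntegral (X.presheaf.stalk x) ((X.germToFunctionField W).hom c) := by
      refine ⟨p.map (X.presheaf.germ ⊤ x hx).hom, hpm.map _, ?_⟩
      rw [Polynomial.eval₂_map]
      have hcomp2 : (algebraMap (X.presheaf.stalk x) X.functionField).comp
          (X.presheaf.germ ⊤ x hx).hom = (X.germToFunctionField ⊤).hom := by
        ext f
        exact Scheme.algebraMap_germ_eq_germToFunctionField X hx f
      rw [hcomp2, ← hcomp, ← Polynomial.hom_eval₂, hp, map_zero]
    exact (isIntegrallyClosed_iff X.functionField).1 (hX x) hint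
  obtain ⟨r, hr⟩ := NormH8.exists_section_of_forall_stalk (⊤ : X.Opens) _ h
  refine ⟨r, ?_⟩
  apply X.germToFunctionField_injective W
  have := congrArg (fun φ => φ r) hcomp
  simp only [RingHom.comp_apply] at this
  exact this.trans hr

/-- A quasi-finite separated morphism from a reduced scheme to a normal integral affine scheme,
which is an isomorphism over a nonempty open with dense preimage, is an open immersion. -/
theorem isOpenImmersion_of_birational {P X : Scheme.{u}} (g : P ⟶ X) [IsAffine X] [IsIntegral X]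
    (hX : ∀ x : X, IsIntegrallyClosed (X.presheaf.stalk x))
    [LocallyQuasiFinite g] [LocallyOfFiniteType g] [IsSeparated g] [QuasiCompact g] [IsReduced P]
    (X₀ : X.Opens) [IsIso (g ∣_ X₀)]
    (hd : Dense ((g ⁻¹ᵁ X₀ : P.Opens) : Set P)) : IsOpenImmersion g := by
  by_cases hne : (X₀ : Set X).Nonempty
  swap
  · haveI : IsEmpty P := by
      constructor
      intro p
      obtain ⟨q, hq⟩ := hd.nonempty_iff.mpr ⟨p⟩
      exact hne ⟨g q, hq⟩
    infer_instance
  haveI : Nonempty X₀ := by
    obtain ⟨x, hx⟩ := hne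
    exact ⟨⟨x, hx⟩⟩
  haveI hisoapp : IsIso (g.app X₀) := isIso_app_of_le g (le_refl X₀)
  have hbij : Function.Bijective (g.app X₀).hom := ConcreteCategory.bijective_of_isIso (g.app X₀)
  -- naturality
  have hnat : ∀ a : Γ(X, ⊤), (g.app X₀).hom ((X.presheaf.map (homOfLE (le_top : X₀ ≤ ⊤)).op).hom a) =
      (P.presheaf.map (homOfLE (g.preimage_mono (le_top : X₀ ≤ ⊤))).op).hom ((g.app ⊤).hom a) := by
    intro a
    have := g.naturality (homOfLE (le_top : X₀ ≤ ⊤)).op
    have h2 := congrArg (fun φ => φ.hom a) this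
    simp only [CommRingCat.hom_comp, RingHom.comp_apply] at h2
    exact h2
  haveI : IsIso g.fromNormalization := by
    refine isIso_fromNormalization_of_cover g (fun y => ⟨⊤, isAffineOpen_top X, trivial, ?_, ?_⟩)
    · -- injectivity
      rw [injective_iff_map_eq_zero]
      intro a ha
      have h1 : (X.presheaf.map (homOfLE (le_top : X₀ ≤ ⊤)).op).hom a = 0 := by
        apply hbij.1
        rw [hnat a, ha, map_zero, map_zero]
      have hinj := map_injective_of_isIntegral X (homOfLE (le_top : X₀ ≤ ⊤))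
      apply hinj
      rw [map_zero]
      exact h1
    · -- integrally closed image
      intro b hb
      obtain ⟨p, hpm, hp⟩ := hb
      obtain ⟨c, hcb⟩ := hbij.2
        ((P.presheaf.map (homOfLE (g.preimage_mono (le_top : X₀ ≤ ⊤))).op).hom b)
      have hc : (X.presheaf.map (homOfLE (le_top : X₀ ≤ ⊤)).op).hom.IsIntegralElem c := by
        refine ⟨p, hpm, ?_⟩
        apply hbij.1
        rw [map_zero, Polynomial.hom_eval₂, hcb]
        have hcomp : (g.app X₀).hom.comp (X.presheaf.map (homOfLE (le_top : X₀ ≤ ⊤)).op).hom =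
            (P.presheaf.map (homOfLE (g.preimage_mono (le_top : X₀ ≤ ⊤))).op).hom.comp
              (g.app ⊤).hom := by
          ext a
          exact hnat a
        rw [hcomp, ← Polynomial.hom_eval₂, hp, map_zero]
      obtain ⟨r, hr⟩ := exists_section_of_isIntegralElem hX X₀ c hc
      refine ⟨r, ?_⟩
      have hz : b - (g.app ⊤).hom r = 0 := by
        apply eq_zero_of_dense (g ⁻¹ᵁ X₀) hd (g ⁻¹ᵁ ⊤) (g.preimage_mono (le_top : X₀ ≤ ⊤))
        rw [map_sub, sub_eq_zero]
        have h3 := hnat r
        have hr' : (X.presheaf.map (homOfLE (le_top : X₀ ≤ ⊤)).op).hom r = c := hr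
        rw [hr'] at h3
        exact hcb.symm.trans h3
      exact (sub_eq_zero.mp hz).symm
  rw [← g.toNormalization_fromNormalization]
  infer_instance

/-- A normal scheme is reduced. -/
theorem isReduced_of_isNormalScheme {Y : Scheme.{u}} (hY : Pi1.IsNormalScheme Y) : IsReduced Y := by
  haveI : ∀ y : Y, _root_.IsReduced (Y.presheaf.stalk y) := fun y => by
    haveI := (hY y).1
    infer_instance
  exact isReduced_of_isReduced_stalk Y

/-- A quasi-finite separated morphism `φ : M ⟶ N` from a reduced scheme to a locally Noetherian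
normal scheme which is an isomorphism over an open `N₀` with `φ⁻¹ N₀` dense in `M` is an open
immersion. -/
theorem isOpenImmersion_of_iso_over_dense {M N : Scheme.{u}} (φ : M ⟶ N) [IsLocallyNoetherian N]
    (hN : Pi1.IsNormalScheme N) [IsReduced M]
    [LocallyQuasiFinite φ] [LocallyOfFiniteType φ] [IsSeparated φ] [QuasiCompact φ]
    (N₀ : N.Opens) (hM₀ : Dense ((φ ⁻¹ᵁ N₀ : M.Opens) : Set M))
    [IsIso (φ ∣_ N₀)] : IsOpenImmersion φ := by
  haveI := isReduced_of_isNormalScheme hN
  have key : ∀ y : N, ∃ U : N.Opens, y ∈ U ∧ IsOpenImmersion (φ ∣_ U) := by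
    intro y
    haveI := (hN y).1
    obtain ⟨W, hyW, hW⟩ := Groth.Agent.Lib.LocIntegralH4.exists_irreducible_open_nhds N y
    obtain ⟨U, hU', hyU', hUW⟩ :=
      exists_isAffineOpen_mem_and_subset (X := N) (x := y) (U := W) hyW
    refine ⟨U, hyU', ?_⟩
    have hUirr : IsIrreducible (U : Set N) :=
      ⟨⟨y, hyU'⟩, hW.2.open_subset U.2 hUW⟩
    haveI : IsAffine (U : Scheme.{u}) := hU'
    haveI : IrreducibleSpace ↥(U : Scheme.{u}) := by
      have : IrreducibleSpace ↥(U : Set N) := (irreducibleSpace_def _).mpr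
        ((isIrreducible_iff_irreducibleSpace).mp hUirr |> fun h => by
          exact (irreducibleSpace_def _).mp h)
      exact this
    haveI : IsIntegral (U : Scheme.{u}) := isIntegral_of_irreducibleSpace_of_isReduced _
    have hst : ∀ x : (U : Scheme.{u}), IsIntegrallyClosed ((U : Scheme.{u}).presheaf.stalk x) := by
      intro x
      haveI := (hN x.1).2
      exact IsIntegrallyClosed.of_equiv (U.stalkIso x).commRingCatIsoToRingEquiv.symm
    haveI : IsIso ((φ ∣_ U) ∣_ (U.ι ⁻¹ᵁ N₀)) := by
      have e : U.ι ''ᵁ (U.ι ⁻¹ᵁ N₀) = U ⊓ N₀ := by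
        rw [Scheme.Hom.image_preimage_eq_opensRange_inf, Scheme.Opens.opensRange_ι]
      haveI : IsIso (φ ∣_ (U ⊓ N₀)) := isIso_morphismRestrict_of_le φ (inf_le_right : U ⊓ N₀ ≤ N₀)
      rw [← MorphismProperty.isomorphisms.iff,
        (MorphismProperty.isomorphisms Scheme.{u}).arrow_mk_iso_iff
          (morphismRestrictRestrict φ U (U.ι ⁻¹ᵁ N₀) ≪≫ morphismRestrictEq φ e)]
      exact (inferInstance : IsIso (φ ∣_ (U ⊓ N₀)))
    have hd : Dense (((φ ∣_ U) ⁻¹ᵁ (U.ι ⁻¹ᵁ N₀) : (φ ⁻¹ᵁ U : M.Opens).toScheme.Opens) :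
        Set ↥(φ ⁻¹ᵁ U : M.Opens).toScheme) := by
      have h1 : Dense ((Subtype.val : ↥(φ ⁻¹ᵁ U : M.Opens) → M) ⁻¹' ((φ ⁻¹ᵁ N₀ : M.Opens) : Set M)) :=
        hM₀.preimage (φ ⁻¹ᵁ U).2.isOpenMap_subtype_val
      have h2 : (((φ ∣_ U) ⁻¹ᵁ (U.ι ⁻¹ᵁ N₀) : (φ ⁻¹ᵁ U : M.Opens).toScheme.Opens) :
          Set ↥(φ ⁻¹ᵁ U : M.Opens).toScheme) =
          ((Subtype.val : ↥(φ ⁻¹ᵁ U : M.Opens) → M) ⁻¹' ((φ ⁻¹ᵁ N₀ : M.Opens) : Set M)) := by
        ext x
        have hx : U.ι ((φ ∣_ U) x) = φ ((φ ⁻¹ᵁ U).ι x) := by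
          rw [← Scheme.Hom.comp_apply, morphismRestrict_ι, Scheme.Hom.comp_apply]
        change U.ι ((φ ∣_ U) x) ∈ N₀ ↔ φ x.1 ∈ N₀
        rw [hx]
        rfl
      rw [h2]
      exact h1
    exact isOpenImmersion_of_birational (φ ∣_ U) hst (U.ι ⁻¹ᵁ N₀) hd
  choose U hyU hU using key
  have hsup : ⨆ y, U y = ⊤ := by
    rw [eq_top_iff]
    intro y _
    exact Opens.mem_iSup.mpr ⟨y, hyU y⟩
  exact (IsZariskiLocalAtTarget.iff_of_iSup_eq_top (P := @IsOpenImmersion) U hsup).mpr hU

end Groth.Agent.Lib.NeronEt1_helper6
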