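import Mathlib
import Groth.Prelude
import Groth.Agent.Lib.NeronEt1_helper6
import Groth.Agent.Lib.EtNormal5_helper4

/-!
# Étale extensions inside a smooth model over a normal base are open (helper6, S13428)
APPEND-ONLY once landed.
-/

set_option autoImplicit false
set_option linter.all false
set_option backward.isDefEq.respectTransparency false
set_option maxHeartbeats 1600000

universe u

open CategoryTheory CategoryTheory.Limits AlgebraicGeometry TopologicalSpace Opposite

namespace Groth.Agent.Lib.NeronEt2_helper6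

open Groth.Agent.Lib.NeronEt1_helper6

/-- Unramified morphisms are locally quasi-finite. -/
theorem locallyQuasiFinite_of_unramified {X Y : Scheme.{u}} (f : X ⟶ Y) [LocallyOfFiniteType f]
    [FormallyUnramified f] : LocallyQuasiFinite f := by
  refine ⟨fun {U} hU {V} hV e => ?_⟩
  have h1 : (f.appLE U V e).hom.FiniteType := f.finiteType_appLE hU hV e
  have h2 : (f.appLE U V e).hom.FormallyUnramified := f.formallyUnramified_appLE hU hV e
  algebraize [(f.appLE U V e).hom]
  change Algebra.QuasiFinite _ _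
  infer_instance

/-- Smooth over normal is normal. -/
theorem isNormalScheme_of_smooth {X S : Scheme.{u}} (f : X ⟶ S) [Smooth f]
    (hS : Pi1.IsNormalScheme S) : Pi1.IsNormalScheme X :=
  fun x => (Groth.Agent.Lib.EtNormal5H4.stalk_of_smooth f x).2 (hS (f x))

/-- A schematically dense open is dense. -/
theorem dense_of_isSchematicallyDense {S : Scheme.{u}} (S₀ : S.Opens)
    (h : CInt.IsSchematicallyDense S₀) : Dense (S₀ : Set S) := by
  rw [dense_iff_inter_open]
  intro V hV hVne
  by_contra hcon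
  rw [Set.not_nonempty_iff_eq_empty] at hcon
  let V' : S.Opens := ⟨V, hV⟩
  have hbot : V' ⊓ S₀ = ⊥ := by
    ext x
    simp only [Opens.coe_inf, Opens.coe_bot, Set.mem_empty_iff_false, iff_false]
    intro hx
    have : x ∈ V ∩ (S₀ : Set S) := hx
    rw [hcon] at this
    exact this
  have hinj := h V'
  haveI hss : Subsingleton Γ(S, V' ⊓ S₀) := by
    rw [hbot]
    infer_instance
  have h10 : (1 : Γ(S, V')) = 0 := hinj (Subsingleton.elim _ _)
  have h1 : S.basicOpen (1 : Γ(S, V')) = V' := S.basicOpen_of_isUnit isUnit_one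
  rw [h10, Scheme.basicOpen_zero] at h1
  obtain ⟨x, hx⟩ := hVne
  have : x ∈ V' := hx
  rw [← h1] at this
  exact this

/-- If the base change of `φ` to `S₀` is an isomorphism, then `φ` is an isomorphism over the
preimage of `S₀`. -/
theorem isIso_morphismRestrict_of_isIso_pullback_map {S : Scheme.{u}} (S₀ : S.Opens)
    {M N : Over S} (φ : M ⟶ N) [IsIso ((Over.pullback S₀.ι).map φ)] :
    IsIso (φ.left ∣_ (N.hom ⁻¹ᵁ S₀)) := by
  obtain ⟨m, hm⟩ : ∃ m : pullback M.hom S₀.ι ⟶ pullback N.hom S₀.ι,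
      m = ((Over.pullback S₀.ι).map φ).left := ⟨_, rfl⟩
  haveI : IsIso m := by
    rw [hm]
    exact inferInstanceAs (IsIso ((Over.forget _).map ((Over.pullback S₀.ι).map φ)))
  have hm1 : m ≫ pullback.fst N.hom S₀.ι = pullback.fst M.hom S₀.ι ≫ φ.left := by
    rw [hm]; simp
  have hm2 : m ≫ pullback.snd N.hom S₀.ι = pullback.snd M.hom S₀.ι := by
    rw [hm]; simp
  have hw : φ.left ≫ N.hom = M.hom := Over.w φ
  have hsq : IsPullback m (pullback.fst M.hom S₀.ι) (pullback.fst N.hom S₀.ι) φ.left := by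
    refine IsPullback.of_right (h₁₂ := pullback.snd N.hom S₀.ι) (v₁₃ := S₀.ι) (h₂₂ := N.hom)
      ?_ hm1 (IsPullback.of_hasPullback N.hom S₀.ι).flip
    rw [hm2, hw]
    exact (IsPullback.of_hasPullback M.hom S₀.ι).flip
  -- identify the pullback of `N` with the open subscheme
  have hrange : Set.range (pullback.fst N.hom S₀.ι) = Set.range (N.hom ⁻¹ᵁ S₀).ι := by
    rw [Scheme.Pullback.range_fst, Scheme.Opens.range_ι, Scheme.Opens.range_ι]
    rfl
  let e : pullback N.hom S₀.ι ≅ (N.hom ⁻¹ᵁ S₀ : N.left.Opens).toScheme :=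
    IsOpenImmersion.isoOfRangeEq (pullback.fst N.hom S₀.ι) (N.hom ⁻¹ᵁ S₀).ι hrange
  have he : e.hom ≫ (N.hom ⁻¹ᵁ S₀).ι = pullback.fst N.hom S₀.ι :=
    IsOpenImmersion.isoOfRangeEq_hom_fac _ _ _
  have hsq2 : IsPullback (m ≫ e.hom) (pullback.fst M.hom S₀.ι) (N.hom ⁻¹ᵁ S₀).ι φ.left := by
    refine IsPullback.of_iso hsq (Iso.refl _) e (Iso.refl _) (Iso.refl _) ?_ ?_ ?_ ?_
    · simp
    · simp
    · simp [he]
    · simp
  have hsq3 := isPullback_morphismRestrict φ.left (N.hom ⁻¹ᵁ S₀)
  let i := hsq2.isoIsPullback _ _ hsq3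
  have hi : i.hom ≫ (φ.left ∣_ (N.hom ⁻¹ᵁ S₀)) = m ≫ e.hom :=
    IsPullback.isoIsPullback_hom_fst _ _ hsq2 hsq3
  have : φ.left ∣_ (N.hom ⁻¹ᵁ S₀) = i.inv ≫ m ≫ e.hom := by
    rw [← hi, Iso.inv_hom_id_assoc]
  rw [this]
  infer_instance

/-- **S13428**: a separated quasi-compact étale `S`-scheme mapping to a smooth separated
`S`-scheme by a morphism which is an isomorphism over a schematically dense open of the normal
Noetherian base is an open subscheme. -/
theorem main13428 {S : Scheme.{u}} [IsNoetherian S] (hS : Pi1.IsNormalScheme S) (S₀ : S.Opens)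
    (hS₀ : CInt.IsSchematicallyDense S₀)
    (N : Over S) [Smooth N.hom] [IsSeparated N.hom]
    (M : Over S) [Etale M.hom] [IsSeparated M.hom] [QuasiCompact M.hom]
    (φ : M ⟶ N) [IsIso ((Over.pullback S₀.ι).map φ)] : IsOpenImmersion φ.left := by
  have hw : φ.left ≫ N.hom = M.hom := Over.w φ
  haveI : IsLocallyNoetherian N.left := LocallyOfFiniteType.isLocallyNoetherian N.hom
  have hN' := isNormalScheme_of_smooth N.hom hS
  have hM' := isNormalScheme_of_smooth M.hom hS
  haveI : IsReduced M.left := isReduced_of_isNormalScheme hM'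
  haveI : LocallyOfFiniteType (φ.left ≫ N.hom) := by rw [hw]; infer_instance
  haveI : LocallyOfFiniteType φ.left := locallyOfFiniteType_of_comp φ.left N.hom
  haveI : LocallyQuasiFinite M.hom := locallyQuasiFinite_of_unramified M.hom
  haveI : LocallyQuasiFinite (φ.left ≫ N.hom) := by rw [hw]; infer_instance
  haveI : LocallyQuasiFinite φ.left := LocallyQuasiFinite.of_comp φ.left N.hom
  haveI : IsSeparated (φ.left ≫ N.hom) := by rw [hw]; infer_instance
  haveI : IsSeparated φ.left := IsSeparated.of_comp φ.left N.hom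
  haveI : QuasiCompact (φ.left ≫ N.hom) := by rw [hw]; infer_instance
  haveI : QuasiCompact φ.left := QuasiCompact.of_comp φ.left N.hom
  have hS₀d := dense_of_isSchematicallyDense S₀ hS₀
  have hM₀ : Dense ((φ.left ⁻¹ᵁ (N.hom ⁻¹ᵁ S₀) : M.left.Opens) : Set M.left) := by
    have h1 : Dense ((M.hom ⁻¹ᵁ S₀ : M.left.Opens) : Set M.left) :=
      hS₀d.preimage M.hom.isOpenMap
    have h2 : φ.left ⁻¹ᵁ (N.hom ⁻¹ᵁ S₀) = M.hom ⁻¹ᵁ S₀ := by
      rw [← Scheme.Hom.comp_preimage, hw]
    rw [h2]
    exact h1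
  haveI := isIso_morphismRestrict_of_isIso_pullback_map S₀ φ
  exact isOpenImmersion_of_iso_over_dense φ.left hN' (N.hom ⁻¹ᵁ S₀) hM₀

end Groth.Agent.Lib.NeronEt2_helper6
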