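import Mathlib
import Groth.Prelude
import Groth.Agent.Lib.EtNormal5_helper4
import Groth.Agent.Lib.FibreUnram_helper4

/-!
# Smooth + locally quasi-finite ⇒ étale, in characteristic zero (helper6)

* `formallyUnramified_of_finite_reduced_charZero`: a finite reduced algebra over a field of
  characteristic zero is formally unramified.
* `formallyUnramified_of_smooth_of_lqf_field`: smooth + locally quasi-finite over a field of
  characteristic zero is formally unramified.
* `etale_of_smooth_of_lqf`: smooth + locally quasi-finite over a base whose residue fields have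
  characteristic zero is étale.
APPEND-ONLY once landed.
-/

set_option autoImplicit false
set_option linter.all false
set_option backward.isDefEq.respectTransparency false
set_option maxHeartbeats 1600000

universe u

open CategoryTheory CategoryTheory.Limits AlgebraicGeometry TopologicalSpace Opposite

namespace Groth.Agent.Lib.NeronEt3_helper6

/-- A finite reduced algebra over a field of characteristic zero is formally unramified. -/
theorem formallyUnramified_of_finite_reduced_charZero (K A : Type u) [Field K] [CharZero K]
    [CommRing A] [Algebra K A] [Module.Finite K A] [IsReduced A] :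
    Algebra.FormallyUnramified K A := by
  haveI : IsArtinianRing A := .of_finite K A
  letI : ∀ I : MaximalSpectrum A, Field (A ⧸ I.asIdeal) := fun I =>
    Ideal.Quotient.field I.asIdeal
  let e : A ≃ₐ[K] ∀ I : MaximalSpectrum A, A ⧸ I.asIdeal :=
    (IsArtinianRing.equivPi A).restrictScalars K
  haveI : ∀ I : MaximalSpectrum A, Algebra.FormallyUnramified K (A ⧸ I.asIdeal) := fun I => by
    haveI : Module.Finite K (A ⧸ I.asIdeal) :=
      Module.Finite.of_surjective (Ideal.Quotient.mkₐ K I.asIdeal).toLinearMap
        Ideal.Quotient.mk_surjective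
    haveI : Algebra.IsAlgebraic K (A ⧸ I.asIdeal) := Algebra.IsAlgebraic.of_finite _ _
    haveI : Algebra.IsSeparable K (A ⧸ I.asIdeal) := inferInstance
    exact Algebra.FormallyUnramified.of_isSeparable K _
  haveI : Finite (MaximalSpectrum A) := inferInstance
  exact Algebra.FormallyUnramified.of_equiv e.symm

/-- Smooth and locally quasi-finite over a field of characteristic zero implies formally
unramified. -/
theorem formallyUnramified_of_smooth_of_lqf_field {K₀ : Type u} [Field K₀] [CharZero K₀]
    {Q : Scheme.{u}} (q : Q ⟶ Spec (CommRingCat.of K₀)) [Smooth q] [LocallyQuasiFinite q] :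
    FormallyUnramified q := by
  obtain ⟨K, hK⟩ : ∃ K : CommRingCat.{u}, K = CommRingCat.of K₀ := ⟨_, rfl⟩
  haveI : IsReduced Q := by
    haveI : IsReduced (Spec (CommRingCat.of K₀)) :=
      (affine_isReduced_iff (CommRingCat.of K₀)).mpr (inferInstanceAs (_root_.IsReduced K₀))
    haveI : ∀ x : Q, _root_.IsReduced (Q.presheaf.stalk x) := fun x =>
      (Groth.Agent.Lib.EtNormal5H4.stalk_of_smooth q x).1 inferInstance
    exact isReduced_of_isReduced_stalk Q
  rw [HasRingHomProperty.iff_of_source_openCover (P := @FormallyUnramified) Q.affineCover]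
  intro i
  have h2 : RingHom.QuasiFinite ((Q.affineCover.f i ≫ q).appTop).hom :=
    (HasRingHomProperty.iff_of_source_openCover (P := @LocallyQuasiFinite) Q.affineCover).mp
      inferInstance i
  haveI : IsReduced (Q.affineCover.X i) := isReduced_of_isOpenImmersion (Q.affineCover.f i)
  obtain ⟨ψ, hψ⟩ : ∃ ψ : CommRingCat.of K₀ ⟶ Γ(Q.affineCover.X i, ⊤),
      ψ = (Scheme.ΓSpecIso (CommRingCat.of K₀)).inv ≫ (Q.affineCover.f i ≫ q).appTop := ⟨_, rfl⟩
  have hq : ψ.hom.QuasiFinite := by
    rw [hψ]
    exact (RingHom.QuasiFinite.respectsIso.cancel_left_isIso _ _).mpr h2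
  rw [← RingHom.FormallyUnramified.respectsIso.cancel_left_isIso
    (Scheme.ΓSpecIso (CommRingCat.of K₀)).inv, ← CommRingCat.hom_comp, ← hψ]
  obtain ⟨ψ', hψ'⟩ : ∃ ψ' : K₀ →+* Γ(Q.affineCover.X i, ⊤), ψ' = ψ.hom := ⟨_, rfl⟩
  rw [← hψ'] at hq ⊢
  algebraize [ψ']
  haveI : Module.Finite K₀ Γ(Q.affineCover.X i, ⊤) := Module.Finite.of_quasiFinite
  exact formallyUnramified_of_finite_reduced_charZero K₀ Γ(Q.affineCover.X i, ⊤)

/-- Smooth and locally quasi-finite over a base with residue fields of characteristic zero
implies formally unramified. -/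
theorem formallyUnramified_of_smooth_of_lqf {X Y : Scheme.{u}} (f : X ⟶ Y) [Smooth f]
    [LocallyQuasiFinite f] (hchar : ∀ y : Y, CharZero (Y.residueField y)) :
    FormallyUnramified f := by
  apply Groth.Agent.Lib.UnramLocH4.formallyUnramified_of_forall_stalk
  intro x
  haveI := hchar (f x)
  have sq : IsPullback (f.fiberι (f x)) (f.fiberToSpecResidueField (f x)) f
      (Y.fromSpecResidueField (f x)) := IsPullback.of_hasPullback _ _
  haveI : Smooth (f.fiberToSpecResidueField (f x)) :=
    inferInstanceAs (Smooth (pullback.snd f (Y.fromSpecResidueField (f x))))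
  haveI : LocallyQuasiFinite (f.fiberToSpecResidueField (f x)) :=
    inferInstanceAs (LocallyQuasiFinite (pullback.snd f (Y.fromSpecResidueField (f x))))
  haveI := formallyUnramified_of_smooth_of_lqf_field (K₀ := Y.residueField (f x))
    (f.fiberToSpecResidueField (f x))
  have h := (Groth.Agent.Lib.UnramLocH4.stalk_unramified_iff_of_isPullback sq (f.asFiber x)).mp
    (FormallyUnramified.stalkMap _ _)
  exact (Groth.Agent.Lib.UnramLocH4.stalk_congr_point (P := RingHom.FormallyUnramified) f
    (f.fiberι_asFiber x)).mp h

/-- Smooth and locally quasi-finite over a base with residue fields of characteristic zero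
implies étale. -/
theorem etale_of_smooth_of_lqf {X Y : Scheme.{u}} (f : X ⟶ Y) [Smooth f]
    [LocallyQuasiFinite f] (hchar : ∀ y : Y, CharZero (Y.residueField y)) : Etale f := by
  haveI := formallyUnramified_of_smooth_of_lqf f hchar
  exact Etale.of_formallyUnramified_of_flat f

/-- Residue fields of a scheme over a field of characteristic zero have characteristic zero. -/
theorem charZero_residueField {k : Type u} [Field k] [CharZero k] {S : Scheme.{u}}
    (σ : S ⟶ Spec (CommRingCat.of k)) (s : S) : CharZero (S.residueField s) := by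
  -- a ring hom `k →+* κ(s)`
  let φ : k →+* S.residueField s :=
    ((Scheme.ΓSpecIso (CommRingCat.of k)).inv ≫ σ.appTop ≫ S.Γevaluation s).hom
  exact charZero_of_injective_ringHom φ.injective

end Groth.Agent.Lib.NeronEt3_helper6
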