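import Mathlib
import Groth.Prelude
import Groth.Agent.Lib.NeronEt2_helper6
import Groth.Agent.Lib.NeronEt3_helper6
import Groth.Agent.Lib.SmoothDesc_helper4

/-!
# Néron mapping property of the smooth locus of a finite normal scheme (S13432)

helper6.  Extension of rational sections of finite morphisms over normal bases, and the
Néron mapping property for the étale locus of a finite morphism from a normal scheme.
-/

set_option autoImplicit false
set_option linter.all false
set_option backward.isDefEq.respectTransparency false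
set_option maxHeartbeats 1600000

universe u
open CategoryTheory CategoryTheory.Limits AlgebraicGeometry TopologicalSpace

namespace Groth.Agent.Lib.NeronEt4_helper6

open Groth.Agent.Lib.NeronEt1_helper6 Groth.Agent.Lib.NeronEt2_helper6
  Groth.Agent.Lib.NeronEt3_helper6

/-- The scheme-theoretic image of a quasi-compact morphism from a reduced scheme is reduced.
(Copy of helper7's `SectionExtH7.isReduced_image`, to avoid a heavy import.) -/
theorem isReduced_image {X Y : Scheme.{u}} (f : X ⟶ Y) [QuasiCompact f] [IsReduced X] :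
    IsReduced f.image := by
  have hred : ∀ U : Y.affineOpens, _root_.IsReduced (Γ(Y, U) ⧸ f.ker.ideal U) := by
    intro U
    rw [f.ker_apply U]
    exact isReduced_of_injective (RingHom.kerLift (f.app U).hom) (RingHom.kerLift_injective _)
  haveI : ∀ U : Y.affineOpens, IsReduced (f.ker.subschemeCover.openCover.X U) := by
    intro U
    haveI := hred U
    change IsReduced (Spec (.of (Γ(Y, U) ⧸ f.ker.ideal U)))
    infer_instance
  exact IsReduced.of_openCover (X := f.image) f.ker.subschemeCover.openCover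

/-- A section of an étale morphism is an open immersion.
(Copy of helper4's `SmoothSectionH4.isOpenImmersion_of_section`, to avoid a heavy import.) -/
theorem isOpenImmersion_of_section {P S : Scheme.{u}} (g : P ⟶ S) [Etale g] (σ : S ⟶ P)
    (h : σ ≫ g = 𝟙 S) : IsOpenImmersion σ := by
  have sq := pullback_lift_diagonal_isPullback σ g
  haveI : IsOpenImmersion (pullback.lift (𝟙 S) σ (by simp) : S ⟶ pullback (σ ≫ g) g) :=
    MorphismProperty.of_isPullback (P := @IsOpenImmersion) sq inferInstance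
  haveI : IsIso (σ ≫ g) := by
    rw [h]
    infer_instance
  have e : σ = pullback.lift (𝟙 S) σ (by simp) ≫ pullback.snd (σ ≫ g) g :=
    (pullback.lift_snd _ _ _).symm
  rw [e]
  infer_instance

/-- A finite morphism from a reduced scheme onto a normal locally Noetherian scheme which admits
a dominant section over a dense open is an isomorphism. -/
theorem isIso_of_finite_of_section {Γ Z : Scheme.{u}} (p : Γ ⟶ Z) [IsFinite p] [IsReduced Γ]
    [IsLocallyNoetherian Z] (hZ : Pi1.IsNormalScheme Z) (Z₀ : Z.Opens)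
    (hZ₀ : Dense (Z₀ : Set Z)) (t : (Z₀ : Scheme.{u}) ⟶ Γ) (ht : t ≫ p = Z₀.ι)
    [IsDominant t] : IsIso p := by
  -- the section over `Z₀`
  let s : (Z₀ : Scheme.{u}) ⟶ (p ⁻¹ᵁ Z₀ : Γ.Opens) :=
    (isPullback_morphismRestrict p Z₀).lift (𝟙 _) t (by rw [ht, Category.id_comp])
  have hs1 : s ≫ (p ⁻¹ᵁ Z₀).ι = t := (isPullback_morphismRestrict p Z₀).lift_snd _ _ _
  have hs2 : s ≫ (p ∣_ Z₀) = 𝟙 _ := (isPullback_morphismRestrict p Z₀).lift_fst _ _ _
  have hrange : Set.range t ⊆ ((p ⁻¹ᵁ Z₀ : Γ.Opens) : Set Γ) := by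
    rintro _ ⟨z, rfl⟩
    change p (t z) ∈ Z₀
    rw [← Scheme.Hom.comp_apply, ht]
    exact z.2
  have hdense : Dense ((p ⁻¹ᵁ Z₀ : Γ.Opens) : Set Γ) :=
    (IsDominant.denseRange (f := t)).mono hrange
  haveI : IsDominant s := by
    constructor
    intro x
    have hemb := (p ⁻¹ᵁ Z₀).ι.isOpenEmbedding
    rw [hemb.isInducing.closure_eq_preimage_closure_image, ← Set.range_comp]
    have : (⇑(p ⁻¹ᵁ Z₀).ι ∘ ⇑s) = ⇑t := by
      rw [← hs1]; rfl
    rw [this, (IsDominant.denseRange (f := t)).closure_range]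
    trivial
  haveI : IsIso (p ∣_ Z₀) := by
    have h2 : (p ∣_ Z₀) ≫ s = 𝟙 _ := by
      apply ext_of_isDominant_of_isSeparated (p ∣_ Z₀) _ s _
      · rw [Category.assoc, hs2, Category.comp_id, Category.id_comp]
      · rw [reassoc_of% hs2, Category.comp_id]
    exact ⟨s, h2, hs2⟩
  haveI : IsOpenImmersion p := isOpenImmersion_of_iso_over_dense p hZ Z₀ hdense
  haveI : Surjective p := by
    constructor
    rw [← Set.range_eq_univ]
    have hcl : IsClosed (Set.range p) := p.isClosedMap.isClosed_range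
    have hsub : (Z₀ : Set Z) ⊆ Set.range p := by
      intro z hz
      refine ⟨t ⟨z, hz⟩, ?_⟩
      rw [← Scheme.Hom.comp_apply, ht]
      rfl
    exact Set.eq_univ_of_univ_subset (hZ₀.closure_eq ▸ hcl.closure_subset_iff.mpr hsub)
  exact (isIso_iff_isOpenImmersion_and_surjective p).mpr ⟨inferInstance, inferInstance⟩

/-- **Extension of rational sections of finite morphisms.**  Let `π : T ⟶ S` be finite, `Z` a
normal locally Noetherian `S`-scheme and `Z₀ ⊆ Z` a dense open.  Every `S`-morphism `Z₀ ⟶ T`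
extends to a section of `T ×_S Z ⟶ Z`. -/
theorem exists_extension {T S Z : Scheme.{u}} (π : T ⟶ S) [IsFinite π] (h : Z ⟶ S)
    [IsLocallyNoetherian Z] (hZ : Pi1.IsNormalScheme Z) (Z₀ : Z.Opens)
    (hZ₀ : Dense (Z₀ : Set Z)) (g₀ : (Z₀ : Scheme.{u}) ⟶ T) (hg₀ : g₀ ≫ π = Z₀.ι ≫ h) :
    ∃ σ : Z ⟶ pullback π h, σ ≫ pullback.snd π h = 𝟙 Z ∧
      Z₀.ι ≫ σ = pullback.lift g₀ Z₀.ι hg₀ := by
  haveI := isReduced_of_isNormalScheme hZ
  obtain ⟨σ₀, hσ₀⟩ : ∃ σ₀ : (Z₀ : Scheme.{u}) ⟶ pullback π h,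
      σ₀ = pullback.lift g₀ Z₀.ι hg₀ := ⟨_, rfl⟩
  have hσ₀2 : σ₀ ≫ pullback.snd π h = Z₀.ι := by rw [hσ₀, pullback.lift_snd]
  haveI : QuasiCompact (σ₀ ≫ pullback.snd π h) := by
    rw [hσ₀2]; infer_instance
  haveI : QuasiCompact σ₀ := QuasiCompact.of_comp σ₀ (pullback.snd π h)
  haveI : IsReduced σ₀.image := isReduced_image σ₀
  let p : σ₀.image ⟶ Z := σ₀.imageι ≫ pullback.snd π h
  have ht : σ₀.toImage ≫ p = Z₀.ι := by
    change σ₀.toImage ≫ σ₀.imageι ≫ _ = _
    rw [Scheme.Hom.toImage_imageι_assoc, hσ₀2]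
  haveI : IsFinite p := by
    change IsFinite (σ₀.imageι ≫ pullback.snd π h)
    infer_instance
  haveI : IsIso p := isIso_of_finite_of_section p hZ Z₀ hZ₀ σ₀.toImage ht
  refine ⟨inv p ≫ σ₀.imageι, ?_, ?_⟩
  · rw [Category.assoc]
    change inv p ≫ p = _
    rw [IsIso.inv_hom_id]
  · rw [← hσ₀, ← ht, Category.assoc, IsIso.hom_inv_id_assoc, Scheme.Hom.toImage_imageι]

/-- A closed immersion from a reduced scheme into a normal locally Noetherian scheme which is an
open immersion over a dense open of the source is an open immersion. -/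
theorem isOpenImmersion_of_closedImmersion {Z Z' : Scheme.{u}} (σ : Z ⟶ Z')
    [IsClosedImmersion σ] [IsReduced Z] [IsLocallyNoetherian Z'] (hZ' : Pi1.IsNormalScheme Z')
    (Z₀ : Z.Opens) (hZ₀ : Dense (Z₀ : Set Z)) [IsOpenImmersion (Z₀.ι ≫ σ)] :
    IsOpenImmersion σ := by
  haveI := isReduced_of_isNormalScheme hZ'
  let W : Z'.Opens := (Z₀.ι ≫ σ).opensRange
  have hpre : σ ⁻¹ᵁ W = Z₀ := by
    ext z
    constructor
    · rintro ⟨z₀, hz₀⟩
      have : σ (Z₀.ι z₀) = σ z := hz₀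
      have h2 := σ.isClosedEmbedding.injective this
      rw [← h2]
      exact z₀.2
    · intro hz
      exact ⟨⟨z, hz⟩, rfl⟩
  haveI : IsIso (σ ∣_ W) := by
    haveI : IsClosedImmersion (σ ∣_ W) :=
      MorphismProperty.of_isPullback (P := @IsClosedImmersion)
        (isPullback_morphismRestrict σ W).flip inferInstance
    haveI : Surjective (σ ∣_ W) := by
      constructor
      rintro ⟨w, z₀, hz₀⟩
      have hz : Z₀.ι z₀ ∈ σ ⁻¹ᵁ W := ⟨z₀, rfl⟩
      refine ⟨⟨Z₀.ι z₀, hz⟩, ?_⟩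
      apply Subtype.ext
      have := congr($(morphismRestrict_ι σ W) ⟨Z₀.ι z₀, hz⟩)
      simp only [Scheme.Hom.comp_apply] at this
      exact this.trans hz₀
    exact isIso_of_isClosedImmersion_of_surjective _
  have hdense : Dense ((σ ⁻¹ᵁ W : Z.Opens) : Set Z) := by rw [hpre]; exact hZ₀
  exact isOpenImmersion_of_iso_over_dense σ hZ' W hdense

/-- The restriction of a morphism to its smooth locus is smooth. -/
theorem smooth_smoothLocus_ι_comp {T S : Scheme.{u}} (π : T ⟶ S)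
    [LocallyOfFinitePresentation π] : Smooth (π.smoothLocus.ι ≫ π) := by
  rw [← Scheme.Hom.smoothLocus_eq_top_iff, ← Scheme.Hom.preimage_smoothLocus_eq]
  exact Scheme.Opens.ι_preimage_self _

/-- If the base change of `π` along a flat morphism `h` has a section which is an open
immersion, then the section lands in the (pullback of the) smooth locus of `π`. -/
theorem mem_smoothLocus_of_section {T S Z : Scheme.{u}} (π : T ⟶ S)
    [LocallyOfFinitePresentation π] (h : Z ⟶ S) [Flat h] (σ : Z ⟶ pullback π h)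
    (hσ : σ ≫ pullback.snd π h = 𝟙 Z) [IsOpenImmersion σ] (z : Z) :
    (σ ≫ pullback.fst π h) z ∈ π.smoothLocus := by
  have h1 : IsIso ((pullback.snd π h).stalkMap (σ z)) := by
    have e := Scheme.Hom.stalkMap_comp σ (pullback.snd π h) z
    haveI : IsIso (σ ≫ pullback.snd π h) := by rw [hσ]; infer_instance
    have h3 : IsIso ((σ ≫ pullback.snd π h).stalkMap z) := inferInstance
    rw [e] at h3
    exact IsIso.of_isIso_comp_right _ (σ.stalkMap z)
  have h2 : ((pullback.snd π h).stalkMap (σ z)).hom.FormallySmooth :=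
    RingHom.FormallySmooth.of_bijective
      ((ConcreteCategory.isIso_iff_bijective _).mp h1)
  exact Groth.Agent.Lib.UnramLocH4.stalk_smooth_descent_of_flat π h (σ z) h2

/-- **S13432**, with the characteristic-zero hypothesis expressed on residue fields. -/
theorem main13432 {S : Scheme.{u}} [IsNoetherian S] (hS : Pi1.IsNormalScheme S)
    (hchar : ∀ s : S, CharZero (S.residueField s))
    (S₀ : S.Opens) (hS₀ : CInt.IsSchematicallyDense S₀)
    {T : Scheme.{u}} (π : T ⟶ S) [IsFinite π] [LocallyOfFinitePresentation π]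
    (hT : Pi1.IsNormalScheme T) (Z : Over S) (hZ : Smooth Z.hom) :
    Function.Bijective
      (fun g : Z ⟶ Over.mk (π.smoothLocus.ι ≫ π) => (Over.pullback S₀.ι).map g) := by
  haveI := hZ
  obtain ⟨N, hN⟩ : ∃ N : Over S, N = Over.mk (π.smoothLocus.ι ≫ π) := ⟨_, rfl⟩
  have hdS₀ : Dense (S₀ : Set S) := dense_of_isSchematicallyDense S₀ hS₀
  haveI : Smooth (π.smoothLocus.ι ≫ π) := smooth_smoothLocus_ι_comp π
  haveI : Etale (π.smoothLocus.ι ≫ π) := etale_of_smooth_of_lqf _ hchar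
  haveI : IsLocallyNoetherian Z.left := LocallyOfFiniteType.isLocallyNoetherian Z.hom
  have hZn : Pi1.IsNormalScheme Z.left := isNormalScheme_of_smooth Z.hom hS
  haveI : IsReduced Z.left := isReduced_of_isNormalScheme hZn
  have hopen : IsOpenMap Z.hom := Z.hom.isOpenMap
  have hdZ₀ : Dense ((Z.hom ⁻¹ᵁ S₀ : Z.left.Opens) : Set Z.left) :=
    hdS₀.preimage hopen
  constructor
  · -- injectivity
    intro g₁ g₂ hg
    simp only at hg
    apply Over.OverMorphism.ext
    haveI : IsDominant (pullback.fst Z.hom S₀.ι) := by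
      constructor
      rw [DenseRange, Scheme.Pullback.range_fst, Scheme.Opens.range_ι]
      exact hdZ₀
    refine ext_of_isDominant_of_isSeparated (π.smoothLocus.ι ≫ π) ?_
      (pullback.fst Z.hom S₀.ι) ?_
    · exact (Over.w g₁).trans (Over.w g₂).symm
    · have h1 : ((Over.pullback S₀.ι).map g₁).left ≫ pullback.fst _ S₀.ι =
          pullback.fst Z.hom S₀.ι ≫ g₁.left := by simp
      have h2 : ((Over.pullback S₀.ι).map g₂).left ≫ pullback.fst _ S₀.ι =
          pullback.fst Z.hom S₀.ι ≫ g₂.left := by simp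
      rw [← h1, ← h2, hg]
  · -- surjectivity
    intro g₀'
    simp only
    let Ñ : T.Opens := π.smoothLocus
    let Z₀ : Z.left.Opens := Z.hom ⁻¹ᵁ S₀
    let eZ : pullback Z.hom S₀.ι ≅ (Z₀ : Scheme.{u}) := pullbackRestrictIsoRestrict Z.hom S₀
    have heZ1 : eZ.inv ≫ pullback.fst Z.hom S₀.ι = Z₀.ι :=
      pullbackRestrictIsoRestrict_inv_fst Z.hom S₀
    have heZ2 : eZ.hom ≫ Z₀.ι = pullback.fst Z.hom S₀.ι :=
      pullbackRestrictIsoRestrict_hom_ι Z.hom S₀
    -- the given morphism over `S₀`, as a morphism of schemes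
    obtain ⟨γ, hγ⟩ : ∃ γ : pullback Z.hom S₀.ι ⟶ pullback (Ñ.ι ≫ π) S₀.ι, γ = g₀'.left :=
      ⟨_, rfl⟩
    have hγw : γ ≫ pullback.snd (Ñ.ι ≫ π) S₀.ι = pullback.snd Z.hom S₀.ι := by
      rw [hγ]; exact Over.w g₀'
    let g₀'' : (Z₀ : Scheme.{u}) ⟶ (Ñ : Scheme.{u}) :=
      eZ.inv ≫ γ ≫ pullback.fst (Ñ.ι ≫ π) S₀.ι
    have hg₀'' : g₀'' ≫ (Ñ.ι ≫ π) = Z₀.ι ≫ Z.hom := by
      change (eZ.inv ≫ γ ≫ pullback.fst (Ñ.ι ≫ π) S₀.ι) ≫ (Ñ.ι ≫ π) = _
      rw [Category.assoc, Category.assoc, pullback.condition, reassoc_of% hγw,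
        ← pullback.condition, reassoc_of% heZ1]
    let g₀ : (Z₀ : Scheme.{u}) ⟶ T := g₀'' ≫ Ñ.ι
    have hg₀ : g₀ ≫ π = Z₀.ι ≫ Z.hom := by
      change (g₀'' ≫ Ñ.ι) ≫ π = _
      rw [Category.assoc, hg₀'']
    obtain ⟨σ, hσ1, hσ2⟩ := exists_extension π Z.hom hZn Z₀ hdZ₀ g₀ hg₀
    -- `Z₀.ι ≫ σ` is an open immersion
    haveI : IsOpenImmersion (Z₀.ι ≫ σ) := by
      let s : (Z₀ : Scheme.{u}) ⟶ pullback (Ñ.ι ≫ π) (Z₀.ι ≫ Z.hom) :=
        pullback.lift g₀'' (𝟙 _) (by rw [hg₀'', Category.id_comp])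
      haveI : IsOpenImmersion s :=
        isOpenImmersion_of_section (pullback.snd (Ñ.ι ≫ π) (Z₀.ι ≫ Z.hom)) s
          (pullback.lift_snd _ _ _)
      let m : pullback (Ñ.ι ≫ π) (Z₀.ι ≫ Z.hom) ⟶ pullback π Z.hom :=
        pullback.map (Ñ.ι ≫ π) (Z₀.ι ≫ Z.hom) π Z.hom Ñ.ι Z₀.ι (𝟙 S)
          (by rw [Category.comp_id]) (by rw [Category.comp_id])
      have : Z₀.ι ≫ σ = s ≫ m := by
        rw [hσ2]
        apply pullback.hom_ext
        · simp [s, m, g₀]
        · simp [s, m]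
          exact (Category.id_comp _).symm
      rw [this]
      infer_instance
    haveI : IsClosedImmersion (σ ≫ pullback.snd π Z.hom) := by rw [hσ1]; infer_instance
    haveI : IsClosedImmersion σ := IsClosedImmersion.of_comp σ (pullback.snd π Z.hom)
    haveI : IsLocallyNoetherian (pullback π Z.hom) :=
      LocallyOfFiniteType.isLocallyNoetherian (pullback.snd π Z.hom)
    have hZ'n : Pi1.IsNormalScheme (pullback π Z.hom) :=
      isNormalScheme_of_smooth (pullback.fst π Z.hom) hT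
    haveI : IsOpenImmersion σ := isOpenImmersion_of_closedImmersion σ hZ'n Z₀ hdZ₀
    have hmem : ∀ z : Z.left, (σ ≫ pullback.fst π Z.hom) z ∈ Ñ :=
      fun z => mem_smoothLocus_of_section π Z.hom σ hσ1 z
    have hrange : Set.range (σ ≫ pullback.fst π Z.hom) ⊆ Set.range Ñ.ι := by
      rw [Scheme.Opens.range_ι]
      rintro _ ⟨z, rfl⟩
      exact hmem z
    let g' : Z.left ⟶ (Ñ : Scheme.{u}) :=
      IsOpenImmersion.lift Ñ.ι (σ ≫ pullback.fst π Z.hom) hrange
    have hg' : g' ≫ Ñ.ι = σ ≫ pullback.fst π Z.hom := IsOpenImmersion.lift_fac _ _ _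
    have hg'w : g' ≫ (Ñ.ι ≫ π) = Z.hom := by
      rw [reassoc_of% hg', pullback.condition, reassoc_of% hσ1]
    refine ⟨Over.homMk g' hg'w, ?_⟩
    apply Over.OverMorphism.ext
    obtain ⟨μ, hμ⟩ : ∃ μ : pullback Z.hom S₀.ι ⟶ pullback (Ñ.ι ≫ π) S₀.ι,
      μ = ((Over.pullback S₀.ι).map (Over.homMk g' hg'w :
        Z ⟶ Over.mk (π.smoothLocus.ι ≫ π))).left := ⟨_, rfl⟩
    have hμ1 : μ ≫ pullback.fst (Ñ.ι ≫ π) S₀.ι = pullback.fst Z.hom S₀.ι ≫ g' := by
      rw [hμ]; simp
      exact pullback.lift_fst _ _ _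
    have hμ2 : μ ≫ pullback.snd (Ñ.ι ≫ π) S₀.ι = pullback.snd Z.hom S₀.ι := by
      rw [hμ]; simp
      exact pullback.lift_snd _ _ _
    have key : μ = γ := by
      apply pullback.hom_ext
      · rw [← cancel_mono Ñ.ι, Category.assoc, Category.assoc, reassoc_of% hμ1, hg',
          ← heZ2, Category.assoc, reassoc_of% hσ2, pullback.lift_fst]
        change _ ≫ (eZ.inv ≫ γ ≫ pullback.fst (Ñ.ι ≫ π) S₀.ι) ≫ Ñ.ι = _
        simp
      · rw [hμ2, hγw]
    rw [hμ, hγ] at key
    exact key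

end Groth.Agent.Lib.NeronEt4_helper6
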