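import Mathlib
import Groth.Agent.Lib.NormalizationNormal_helper7

/-!
# Ring-level core for "the normalization of `X` in a normal scheme is normal" (helper7)
APPEND-ONLY once landed.
-/

set_option backward.isDefEq.respectTransparency false
set_option backward.isDefEq.respectTransparency.types false
set_option linter.style.haveILetI false
set_option linter.unusedSectionVars false
set_option linter.unusedVariables false
set_option autoImplicit false
set_option maxHeartbeats 1600000
set_option maxSynthPendingDepth 3

universe u v

namespace Groth.Agent.Lib.NormNormalH7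

/-- Images of integral elements are integral for the composite ring hom. -/
theorem isIntegralElem_map {A B C : Type*} [CommRing A] [CommRing B] [CommRing C]
    (α : A →+* B) (ρ : B →+* C) {b : B} (hb : α.IsIntegralElem b) :
    (ρ.comp α).IsIntegralElem (ρ b) := by
  obtain ⟨p, hp, hp0⟩ := hb
  refine ⟨p, hp, ?_⟩
  rw [← Polynomial.hom_eval₂, hp0, map_zero]

/-- The ring-level core: let `R ↪ B` be the integral closure of `A` in `B`, and suppose `B` is
a finite product of integrally closed domains `Bj j`. Then there are elements `s j : R` summing
to `1`, restricting to the standard idempotents of `B`, such that every localization of `R`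
away from an `s j` is an integrally closed domain. -/
theorem ring_core {A R B : Type u} [CommRing A] [CommRing R] [CommRing B]
    (α : A →+* B) (ι : R →+* B) (hι : Function.Injective ι)
    (hrange : ∀ b : B, b ∈ Set.range ι ↔ α.IsIntegralElem b)
    {J : Type v} [Fintype J] [DecidableEq J] (Bj : J → Type u) [∀ j, CommRing (Bj j)]
    [∀ j, IsDomain (Bj j)] [∀ j, IsIntegrallyClosed (Bj j)] (ρ : ∀ j, B →+* Bj j)
    (hρ : Function.Bijective (fun (b : B) (j : J) => ρ j b)) :
    ∃ s : J → R, (∑ j, s j = 1) ∧ (∀ j k, ρ k (ι (s j)) = if j = k then 1 else 0) ∧
      ∀ (j : J) (L : Type u) [CommRing L] [Algebra R L] [IsLocalization.Away (s j) L],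
        IsDomain L ∧ IsIntegrallyClosed L := by
  have hinj : ∀ b b' : B, (∀ k, ρ k b = ρ k b') → b = b' := fun b b' h =>
    hρ.1 (funext h)
  -- the idempotents
  have hex : ∀ j : J, ∃ e : B, ∀ k, ρ k e = if j = k then 1 else 0 := by
    intro j
    obtain ⟨e, he⟩ := hρ.2 (fun k => if j = k then (1 : Bj k) else 0)
    exact ⟨e, fun k => congrFun he k⟩
  choose e he using hex
  have hint : ∀ j, α.IsIntegralElem (e j) := by
    intro j
    refine ⟨Polynomial.X ^ 2 - Polynomial.X, ?_, ?_⟩
    · exact Polynomial.monic_X_pow_sub (by
        haveI : Nontrivial B := by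
          by_contra hB
          rw [not_nontrivial_iff_subsingleton] at hB
          haveI := hB
          have h1 := he j j
          rw [if_pos rfl, Subsingleton.elim (e j) 0, map_zero] at h1
          exact zero_ne_one h1
        haveI : Nontrivial A := α.domain_nontrivial
        rw [Polynomial.degree_X]
        norm_num)
    · rw [Polynomial.eval₂_sub, Polynomial.eval₂_pow, Polynomial.eval₂_X]
      apply hinj
      intro k
      rw [map_sub, map_pow, he, map_zero]
      split_ifs <;> simp
  have hs : ∀ j, ∃ s : R, ι s = e j := fun j => (hrange (e j)).2 (hint j)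
  choose s hs using hs
  refine ⟨s, ?_, ?_, ?_⟩
  · apply hι
    rw [map_sum, map_one]
    apply hinj
    intro k
    rw [map_sum, map_one]
    simp only [hs, he]
    simp
  · intro j k
    rw [hs, he]
  · intro j L _ _ _
    letI : Algebra A (Bj j) := ((ρ j).comp α).toAlgebra
    -- the map to the integral closure in `Bj j`
    have hmem : ∀ r : R, ρ j (ι r) ∈ integralClosure A (Bj j) := by
      intro r
      have h1 : α.IsIntegralElem (ι r) := (hrange _).1 ⟨r, rfl⟩
      exact isIntegralElem_map α (ρ j) h1
    let ψ : R →+* integralClosure A (Bj j) :=
      ((ρ j).comp ι).codRestrict (integralClosure A (Bj j)).toSubring hmem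
    have hψ : ∀ r : R, ((ψ r : integralClosure A (Bj j)) : Bj j) = ρ j (ι r) := fun r => rfl
    letI : Algebra R (integralClosure A (Bj j)) := ψ.toAlgebra
    have hidem : IsIdempotentElem (s j) := by
      apply hι
      rw [map_mul, hs]
      apply hinj
      intro k
      rw [map_mul, he]
      split_ifs <;> simp
    have hsurj : Function.Surjective (algebraMap R (integralClosure A (Bj j))) := by
      rintro ⟨b, hb⟩
      obtain ⟨b', hb'⟩ := hρ.2 (fun k => if h : j = k then h ▸ b else 0)
      have hb'j : ρ j b' = b := by
        have := congrFun hb' j
        simpa using this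
      have hb'k : ∀ k, j ≠ k → ρ k b' = 0 := by
        intro k hk
        have := congrFun hb' k
        simpa [hk] using this
      have hb'int : α.IsIntegralElem b' := by
        obtain ⟨p, hp, hp0⟩ := hb
        refine ⟨Polynomial.X * p, Polynomial.Monic.mul Polynomial.monic_X hp, ?_⟩
        apply hinj
        intro k
        rw [map_zero, Polynomial.hom_eval₂, Polynomial.eval₂_mul, Polynomial.eval₂_X]
        by_cases hk : j = k
        · subst hk
          rw [hb'j]
          have : Polynomial.eval₂ ((ρ j).comp α) b p = 0 := hp0
          rw [this, mul_zero]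
        · rw [hb'k k hk, zero_mul]
      obtain ⟨r, hr⟩ := (hrange b').2 hb'int
      refine ⟨r, ?_⟩
      apply Subtype.ext
      change ρ j (ι r) = b
      rw [hr, hb'j]
    have hker : ∀ x y : R, algebraMap R (integralClosure A (Bj j)) x =
        algebraMap R (integralClosure A (Bj j)) y ↔ s j * x = s j * y := by
      intro x y
      constructor
      · intro h
        have h1 : ρ j (ι x) = ρ j (ι y) := congrArg Subtype.val h
        apply hι
        rw [map_mul, map_mul, hs]
        apply hinj
        intro k
        rw [map_mul, map_mul, he]
        by_cases hk : j = k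
        · subst hk
          rw [h1]
        · simp [hk]
      · intro h
        apply Subtype.ext
        change ρ j (ι x) = ρ j (ι y)
        have h1 := congrArg (fun r => ρ j (ι r)) h
        simp only [map_mul, hs, he] at h1
        simpa using h1
    haveI : IsLocalization.Away (s j) (integralClosure A (Bj j)) :=
      IsLocalization.away_of_isIdempotentElem_of_mul hidem hker hsurj
    haveI : IsIntegrallyClosed (integralClosure A (Bj j)) :=
      Groth.Agent.Lib.NormalizationNormalH7.isIntegrallyClosed_integralClosure A (Bj j)
    let eq : L ≃ₐ[R] integralClosure A (Bj j) :=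
      IsLocalization.algEquiv (Submonoid.powers (s j)) L (integralClosure A (Bj j))
    exact ⟨eq.toRingEquiv.toMulEquiv.isDomain _, IsIntegrallyClosed.of_equiv eq.toRingEquiv.symm⟩

end Groth.Agent.Lib.NormNormalH7
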