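import Mathlib
import Groth.Prelude.Def_Pi1
import Groth.Agent.Lib.BrEtNbhd2_helper3
import Groth.Agent.Lib.Norm1_helper8

/-!
# Normal schemes with locally finite components: topology and sections (helper7)
APPEND-ONLY once landed.
-/

set_option backward.isDefEq.respectTransparency false
set_option backward.isDefEq.respectTransparency.types false
set_option linter.style.haveILetI false
set_option linter.unusedSectionVars false
set_option linter.unusedVariables false
set_option autoImplicit false
set_option maxHeartbeats 1600000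
set_option maxSynthPendingDepth 3

universe u

open AlgebraicGeometry CategoryTheory TopologicalSpace Opposite

namespace Groth.Agent.Lib.NormNormalH7

variable {Y : Scheme.{u}}

/-- A point of a normal scheme lies on exactly one irreducible component. -/
theorem component_unique (hY : Pi1.IsNormalScheme Y) (y : Y) {Z Z' : Set Y}
    (hZ : Z ∈ irreducibleComponents Y) (hZ' : Z' ∈ irreducibleComponents Y)
    (hy : y ∈ Z) (hy' : y ∈ Z') : Z = Z' := by
  have h := Groth.Agent.Lib.BrEtNbhdH3.encard_components_through_eq Y y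
  haveI := (hY y).1
  rw [IsDomain.minimalPrimes_eq_singleton_bot, Set.encard_singleton] at h
  obtain ⟨Z₀, hZ₀⟩ := Set.encard_eq_one.mp h
  have h1 : Z ∈ {Z : Set Y | Z ∈ irreducibleComponents Y ∧ y ∈ Z} := ⟨hZ, hy⟩
  have h2 : Z' ∈ {Z : Set Y | Z ∈ irreducibleComponents Y ∧ y ∈ Z} := ⟨hZ', hy'⟩
  rw [hZ₀, Set.mem_singleton_iff] at h1 h2
  rw [h1, h2]

/-- In a normal scheme whose irreducible components are locally finite, the irreducible
components are open. -/
theorem component_isOpen (hY : Pi1.IsNormalScheme Y)
    (hfin : LocallyFinite (fun Z : ↥(irreducibleComponents ↥Y) => (Z : Set ↥Y)))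
    {Z : Set Y} (hZ : Z ∈ irreducibleComponents Y) : IsOpen Z := by
  have hcl : IsClosed (⋃ i : {Z' : ↥(irreducibleComponents ↥Y) // (Z' : Set Y) ≠ Z},
      ((i : ↥(irreducibleComponents ↥Y)) : Set Y)) := by
    apply LocallyFinite.isClosed_iUnion
    · exact hfin.comp_injective Subtype.val_injective
    · intro i
      exact isClosed_of_mem_irreducibleComponents _ i.1.2
  have hEq : Z = (⋃ i : {Z' : ↥(irreducibleComponents ↥Y) // (Z' : Set Y) ≠ Z},
      ((i : ↥(irreducibleComponents ↥Y)) : Set Y))ᶜ := by
    ext y
    constructor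
    · intro hy hmem
      obtain ⟨i, hi⟩ := Set.mem_iUnion.mp hmem
      exact i.2 (component_unique hY y i.1.2 hZ hi hy)
    · intro hy
      by_contra hyZ
      apply hy
      have hmem : irreducibleComponent y ∈ irreducibleComponents Y :=
        irreducibleComponent_mem_irreducibleComponents y
      refine Set.mem_iUnion.mpr ⟨⟨⟨irreducibleComponent y, hmem⟩, ?_⟩, mem_irreducibleComponent⟩
      intro h
      apply hyZ
      have h' : irreducibleComponent y = Z := h
      rw [← h']
      exact mem_irreducibleComponent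
  rw [hEq]
  exact hcl.isOpen_compl

/-- A normal scheme is reduced. -/
theorem isReduced_of_normal (hY : Pi1.IsNormalScheme Y) : IsReduced Y := by
  haveI : ∀ y : Y, _root_.IsReduced (Y.presheaf.stalk y) := fun y => by
    haveI := (hY y).1
    infer_instance
  exact isReduced_of_isReduced_stalk Y

/-- Sections of a normal scheme over an irreducible open form an integrally closed domain. -/
theorem sections_normal_of_irreducible (hY : Pi1.IsNormalScheme Y) (W : Y.Opens)
    (hW : IsIrreducible (W : Set Y)) : IsDomain Γ(Y, W) ∧ IsIntegrallyClosed Γ(Y, W) := by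
  haveI := isReduced_of_normal hY
  haveI : IrreducibleSpace ↥(W : Scheme.{u}) := by
    have : IrreducibleSpace ↥(W : Set Y) := (irreducibleSpace_def _).mpr
      ((isIrreducible_iff_irreducibleSpace).mp hW |> fun h => by
        exact (irreducibleSpace_def _).mp h)
    exact this
  haveI : IsIntegral (W : Scheme.{u}) := isIntegral_of_irreducibleSpace_of_isReduced _
  haveI : Nonempty (⊤ : (W : Scheme.{u}).Opens) := by
    obtain ⟨x⟩ := (inferInstance : Nonempty ↥(W : Scheme.{u}))
    exact ⟨⟨x, trivial⟩⟩
  haveI hdom : IsDomain Γ((W : Scheme.{u}), ⊤) := inferInstance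
  have hst : ∀ x : (W : Scheme.{u}), IsIntegrallyClosed ((W : Scheme.{u}).presheaf.stalk x) := by
    intro x
    haveI := (hY x.1).2
    exact IsIntegrallyClosed.of_equiv (W.stalkIso x).commRingCatIsoToRingEquiv.symm
  haveI hic : IsIntegrallyClosed Γ((W : Scheme.{u}), ⊤) := NormH8.isIntegrallyClosed_sections hst ⊤
  let e : Γ((W : Scheme.{u}), ⊤) ≃+* Γ(Y, W) := W.topIso.commRingCatIsoToRingEquiv
  exact ⟨e.symm.toMulEquiv.isDomain _, IsIntegrallyClosed.of_equiv e⟩

/-- Decomposition of a quasi-compact open of a normal scheme with locally finite components into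
finitely many pairwise disjoint irreducible opens. -/
theorem exists_decomp (hY : Pi1.IsNormalScheme Y)
    (hfin : LocallyFinite (fun Z : ↥(irreducibleComponents ↥Y) => (Z : Set ↥Y)))
    (V : Y.Opens) (hV : IsCompact (V : Set Y)) :
    ∃ (J : Type u) (_ : Fintype J) (_ : DecidableEq J) (W : J → Y.Opens),
      (∀ j, W j ≤ V) ∧ (∀ j, IsIrreducible (W j : Set Y)) ∧ (V ≤ ⨆ j, W j) ∧
        (∀ j k, j ≠ k → W j ⊓ W k = ⊥) := by
  have hJfin : {Z : ↥(irreducibleComponents ↥Y) | ((Z : Set Y) ∩ (V : Set Y)).Nonempty}.Finite :=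
    hfin.finite_nonempty_inter_compact hV
  let J : Type u := {Z : ↥(irreducibleComponents ↥Y) // ((Z : Set Y) ∩ (V : Set Y)).Nonempty}
  haveI : Finite J := hJfin.to_subtype
  letI : Fintype J := Fintype.ofFinite J
  letI : DecidableEq J := Classical.decEq J
  let W : J → Y.Opens := fun j =>
    ⟨(j.1 : Set Y) ∩ (V : Set Y), (component_isOpen hY hfin j.1.2).inter V.2⟩
  refine ⟨J, inferInstance, inferInstance, W, ?_, ?_, ?_, ?_⟩
  · intro j y hy
    exact hy.2
  · intro j
    refine ⟨j.2, ?_⟩
    exact (j.1.2.1.2).open_subset ((component_isOpen hY hfin j.1.2).inter V.2)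
      Set.inter_subset_left
  · intro y hy
    have hmem : irreducibleComponent y ∈ irreducibleComponents Y :=
      irreducibleComponent_mem_irreducibleComponents y
    refine Opens.mem_iSup.mpr ⟨⟨⟨irreducibleComponent y, hmem⟩, ⟨y, mem_irreducibleComponent, hy⟩⟩,
      ?_⟩
    exact ⟨mem_irreducibleComponent, hy⟩
  · intro j k hjk
    rw [eq_bot_iff]
    intro y hy
    exfalso
    apply hjk
    have h1 : y ∈ (j.1 : Set Y) := hy.1.1
    have h2 : y ∈ (k.1 : Set Y) := hy.2.1
    have := component_unique hY y j.1.2 k.1.2 h1 h2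
    exact Subtype.ext (Subtype.ext this)

/-- Sections over a finite disjoint union of opens are the product of the sections. -/
theorem restrict_bijective (V : Y.Opens) {J : Type u} (W : J → Y.Opens)
    (hWV : ∀ j, W j ≤ V) (hcov : V ≤ ⨆ j, W j) (hdisj : ∀ j k, j ≠ k → W j ⊓ W k = ⊥) :
    Function.Bijective (fun (b : Γ(Y, V)) (j : J) =>
      (Y.presheaf.map (homOfLE (hWV j)).op).hom b) := by
  constructor
  · intro b b' h
    exact Y.sheaf.eq_of_locally_eq' W V (fun j => homOfLE (hWV j)) hcov b b'
      (fun j => congrFun h j)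
  · intro c
    have hcompat : TopCat.Presheaf.IsCompatible Y.sheaf.1 W c := by
      intro i j
      by_cases hij : i = j
      · subst hij
        rfl
      · have hss : Subsingleton Γ(Y, W i ⊓ W j) := by
          rw [hdisj i j hij]
          infer_instance
        exact @Subsingleton.elim _ hss _ _
    obtain ⟨b, hb, -⟩ := Y.sheaf.existsUnique_gluing' W V (fun j => homOfLE (hWV j)) hcov c hcompat
    exact ⟨b, funext hb⟩

end Groth.Agent.Lib.NormNormalH7
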