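import Mathlib
import Groth.Prelude.Def_Pi1
import Groth.Agent.Lib.NormNormal1_helper7
import Groth.Agent.Lib.NormNormal2_helper7

/-!
# The normalization of `X` in a normal scheme `Y` is normal (helper7, S9673)
APPEND-ONLY once landed.
-/

set_option backward.isDefEq.respectTransparency false
set_option backward.isDefEq.respectTransparency.types false
set_option linter.style.haveILetI false
set_option linter.unusedSectionVars false
set_option linter.unusedVariables false
set_option autoImplicit false
set_option maxHeartbeats 1600000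
set_option maxSynthPendingDepth 3

universe u

open AlgebraicGeometry CategoryTheory TopologicalSpace Opposite

namespace Groth.Agent.Lib.NormNormalH7

section Top

variable {T : Type*} [TopologicalSpace T] [T0Space T] [QuasiSober T]

/-- An irreducible open subset has a generic point. -/
theorem exists_generic_of_irreducible_open {W : Set T} (hWo : IsOpen W) (hW : IsIrreducible W) :
    ∃ ξ ∈ W, ∀ w ∈ W, ξ ⤳ w := by
  have hgen := hW.closure.isGenericPoint_genericPoint_closure
  rw [closure_closure] at hgen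
  refine ⟨hW.closure.genericPoint, ?_, ?_⟩
  · rw [hgen.mem_open_set_iff hWo]
    obtain ⟨w, hw⟩ := hW.1
    exact ⟨w, subset_closure hw, hw⟩
  · intro w hw
    rw [specializes_iff_mem_closure, hgen.def]
    exact subset_closure hw

/-- A point without proper generizations in an irreducible open set specializes to every point
of that set. -/
theorem specializes_of_generic {W : Set T} (hWo : IsOpen W) (hW : IsIrreducible W) {y : T}
    (hy : ∀ z : T, z ⤳ y → z = y) (hyW : y ∈ W) : ∀ w ∈ W, y ⤳ w := by
  obtain ⟨ξ, hξW, hξ⟩ := exists_generic_of_irreducible_open hWo hW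
  have := hy ξ (hξ y hyW)
  subst this
  exact hξ

end Top

variable {X Y : Scheme.{u}} (f : Y ⟶ X) [QuasiCompact f] [QuasiSeparated f]

/-- Local structure of the normalization in a normal scheme with locally finite components. -/
theorem exists_local (hY : Pi1.IsNormalScheme Y)
    (hfin : LocallyFinite (fun Z : ↥(irreducibleComponents ↥Y) => (Z : Set ↥Y)))
    (x' : f.normalization) :
    ∃ (D : f.normalization.Opens) (W : Y.Opens), IsAffineOpen D ∧ x' ∈ D ∧
      IsDomain Γ(f.normalization, D) ∧ IsIntegrallyClosed Γ(f.normalization, D) ∧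
      f.toNormalization ⁻¹ᵁ D = W ∧ IsIrreducible (W : Set Y) := by
  obtain ⟨_, ⟨(U : X.Opens), hU, rfl⟩, hyU, -⟩ :=
    X.isBasis_affineOpens.exists_subset_of_mem_open
      (Set.mem_univ (f.fromNormalization x')) isOpen_univ
  have hV' : IsAffineOpen (f.fromNormalization ⁻¹ᵁ U) := hU.preimage f.fromNormalization
  have hx'V : x' ∈ f.fromNormalization ⁻¹ᵁ U := hyU
  have hVc : IsCompact ((f ⁻¹ᵁ U : Y.Opens) : Set Y) :=
    QuasiCompact.isCompact_preimage (f := f) _ U.isOpen hU.isCompact
  obtain ⟨J, hJ1, hJ2, W, hWV, hWirr, hcov, hdisj⟩ := exists_decomp hY hfin (f ⁻¹ᵁ U) hVc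
  have hle : f ⁻¹ᵁ U ≤ f.toNormalization ⁻¹ᵁ (f.fromNormalization ⁻¹ᵁ U) := by
    rw [← Scheme.Hom.comp_preimage, f.toNormalization_fromNormalization]
  letI := (f.app U).hom.toAlgebra
  obtain ⟨ι, hιdef⟩ : ∃ ι : Γ(f.normalization, f.fromNormalization ⁻¹ᵁ U) →+* Γ(Y, f ⁻¹ᵁ U),
      ι = (f.toNormalization.appLE _ _ hle).hom := ⟨_, rfl⟩
  have hval := f.normalizationObjIso_hom_val hU
  have hι_apply : ∀ r, ι r =
      (((f.normalizationObjIso hU).hom.hom r : integralClosure Γ(X, U) Γ(Y, f ⁻¹ᵁ U)) :
        Γ(Y, f ⁻¹ᵁ U)) := by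
    intro r
    rw [hιdef, ← hval]
    rfl
  have hιinj : Function.Injective ι := by
    intro r r' h
    rw [hι_apply, hι_apply] at h
    have h1 := Subtype.ext h
    exact (ConcreteCategory.bijective_of_isIso (f.normalizationObjIso hU).hom).1 h1
  have hrange : ∀ b : Γ(Y, f ⁻¹ᵁ U), b ∈ Set.range ι ↔ (f.app U).hom.IsIntegralElem b := by
    intro b
    constructor
    · rintro ⟨r, rfl⟩
      rw [hι_apply]
      exact ((f.normalizationObjIso hU).hom.hom r).2
    · intro hb
      obtain ⟨r, hr⟩ := (ConcreteCategory.bijective_of_isIso (f.normalizationObjIso hU).hom).2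
        (⟨b, hb⟩ : integralClosure Γ(X, U) Γ(Y, f ⁻¹ᵁ U))
      refine ⟨r, ?_⟩
      rw [hι_apply]
      exact congrArg Subtype.val hr
  haveI : ∀ j, IsDomain Γ(Y, W j) := fun j => (sections_normal_of_irreducible hY _ (hWirr j)).1
  haveI : ∀ j, IsIntegrallyClosed Γ(Y, W j) := fun j =>
    (sections_normal_of_irreducible hY _ (hWirr j)).2
  obtain ⟨s, hsum, hsρ, hloc⟩ := ring_core (f.app U).hom ι hιinj hrange
    (fun j => Γ(Y, W j)) (fun j => (Y.presheaf.map (homOfLE (hWV j)).op).hom)
    (restrict_bijective (f ⁻¹ᵁ U) W hWV hcov hdisj)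
  -- find the index
  have hex : ∃ j, IsUnit (f.normalization.presheaf.germ _ x' hx'V (s j)) := by
    by_contra hall
    push Not at hall
    have h1 : ∑ j, (f.normalization.presheaf.germ _ x' hx'V).hom (s j) ∈
        IsLocalRing.maximalIdeal (f.normalization.presheaf.stalk x') :=
      Ideal.sum_mem _ (fun j _ => (IsLocalRing.mem_maximalIdeal _).2 (hall j))
    rw [← map_sum, hsum, map_one] at h1
    exact (Ideal.ne_top_iff_one _).1 (IsLocalRing.maximalIdeal.isMaximal _).ne_top h1
  obtain ⟨j, hj⟩ := hex
  refine ⟨f.normalization.basicOpen (s j), W j, hV'.basicOpen (s j),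
    (Scheme.mem_basicOpen _ _ x' hx'V).2 hj, ?_, ?_, ?_, hWirr j⟩
  · haveI := hV'.isLocalization_basicOpen (s j)
    exact (hloc j Γ(f.normalization, f.normalization.basicOpen (s j))).1
  · haveI := hV'.isLocalization_basicOpen (s j)
    exact (hloc j Γ(f.normalization, f.normalization.basicOpen (s j))).2
  · have h1 := Scheme.basicOpen_appLE f.toNormalization (f ⁻¹ᵁ U) (f.fromNormalization ⁻¹ᵁ U) hle (s j)
    have h2 : f.toNormalization ⁻¹ᵁ (f.normalization.basicOpen (s j)) ≤ f ⁻¹ᵁ U := by
      intro y hy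
      have h3 : f.toNormalization y ∈ f.fromNormalization ⁻¹ᵁ U :=
        f.normalization.basicOpen_le (s j) hy
      have h4 : (f.toNormalization ≫ f.fromNormalization) y ∈ U := h3
      rw [f.toNormalization_fromNormalization] at h4
      exact h4
    have h5 : f.toNormalization ⁻¹ᵁ (f.normalization.basicOpen (s j)) = Y.basicOpen (ι (s j)) := by
      rw [hιdef]
      change _ = Y.basicOpen ((f.toNormalization.appLE _ _ hle) (s j))
      rw [h1]
      exact (inf_eq_right.mpr h2).symm
    rw [h5]
    have hres : ∀ k, W k ⊓ Y.basicOpen (ι (s j)) =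
        Y.basicOpen ((Y.presheaf.map (homOfLE (hWV k)).op).hom (ι (s j))) := fun k =>
      (Y.basicOpen_res (ι (s j)) (homOfLE (hWV k)).op).symm
    apply le_antisymm
    · intro y hy
      have hyV : y ∈ f ⁻¹ᵁ U := Y.basicOpen_le _ hy
      obtain ⟨k, hk⟩ := Opens.mem_iSup.mp (hcov hyV)
      have h6 : y ∈ W k ⊓ Y.basicOpen (ι (s j)) := ⟨hk, hy⟩
      rw [hres k, hsρ j k] at h6
      by_cases hjk : j = k
      · subst hjk
        exact hk
      · rw [if_neg hjk, Scheme.basicOpen_zero] at h6
        exact absurd h6 (by simp)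
    · intro y hy
      have h6 : y ∈ Y.basicOpen ((Y.presheaf.map (homOfLE (hWV j)).op).hom (ι (s j))) := by
        rw [hsρ j j, if_pos rfl, Scheme.basicOpen_one]
        exact hy
      rw [← hres j] at h6
      exact h6.2

/-- Key specialization property. -/
theorem key_specializes {D : f.normalization.Opens} {W : Y.Opens}
    (hDW : f.toNormalization ⁻¹ᵁ D = W) (hW : IsIrreducible (W : Set Y)) {y : Y}
    (hy : ∀ z : Y, z ⤳ y → z = y) (hyW : y ∈ W) :
    ∀ d ∈ D, f.toNormalization y ⤳ d := by
  have hsp := specializes_of_generic W.2 hW hy hyW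
  have hdense : Dense (Set.range f.toNormalization) := f.toNormalization.denseRange
  have h1 : (D : Set f.normalization) ⊆
      closure ((D : Set f.normalization) ∩ Set.range f.toNormalization) :=
    hdense.open_subset_closure_inter D.2
  have h2 : (D : Set f.normalization) ∩ Set.range f.toNormalization ⊆
      closure {f.toNormalization y} := by
    rintro _ ⟨hd, w, rfl⟩
    have hwW : w ∈ W := by
      rw [← hDW]
      exact hd
    have h3 : f.toNormalization y ⤳ f.toNormalization w :=
      (hsp w hwW).map f.toNormalization.continuous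
    exact specializes_iff_mem_closure.mp h3
  intro d hd
  rw [specializes_iff_mem_closure]
  exact closure_minimal h2 isClosed_closure (h1 hd)

/-- **S9673**. -/
theorem main9673 (hY : Pi1.IsNormalScheme Y)
    (hfin : LocallyFinite (fun Z : ↥(irreducibleComponents ↥Y) => (Z : Set ↥Y))) :
    Pi1.IsNormalScheme f.normalization ∧
    LocallyFinite (fun Z : ↥(irreducibleComponents ↥f.normalization) =>
      (Z : Set ↥f.normalization)) ∧
    (∀ y : Y, closure {y} ∈ irreducibleComponents ↥Y →
      closure {f.toNormalization.base y} ∈ irreducibleComponents ↥f.normalization) ∧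
    (∀ x' : ↥f.normalization, closure {x'} ∈ irreducibleComponents ↥f.normalization →
      ∃! y : Y, closure {y} ∈ irreducibleComponents ↥Y ∧ f.toNormalization.base y = x') := by
  have hgenY : ∀ y : Y, closure {y} ∈ irreducibleComponents ↥Y ↔ ∀ z : Y, z ⤳ y → z = y :=
    fun y => Groth.Agent.Lib.BrEtNbhdH3.closure_singleton_mem_irreducibleComponents_iff y
  have hgenN : ∀ x' : f.normalization, closure {x'} ∈ irreducibleComponents ↥f.normalization ↔
      ∀ z : f.normalization, z ⤳ x' → z = x' :=
    fun y => Groth.Agent.Lib.BrEtNbhdH3.closure_singleton_mem_irreducibleComponents_iff y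
  -- statement (3) in "no generization" form
  have h3 : ∀ y : Y, (∀ z : Y, z ⤳ y → z = y) →
      ∀ z : f.normalization, z ⤳ f.toNormalization y → z = f.toNormalization y := by
    intro y hy z hz
    obtain ⟨D, W, hD, hxD, -, -, hDW, hW⟩ := exists_local f hY hfin (f.toNormalization y)
    have hyW : y ∈ W := by
      rw [← hDW]
      exact hxD
    have hzD : z ∈ D := hz.mem_open D.2 hxD
    exact ((key_specializes f hDW hW hy hyW z hzD).antisymm hz).eq.symm
  refine ⟨?_, ?_, ?_, ?_⟩
  · intro x'
    obtain ⟨D, W, hD, hxD, hdom, hic, -, -⟩ := exists_local f hY hfin x'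
    haveI := hdom
    haveI := hic
    refine ⟨?_, NormH8.isIntegrallyClosed_stalk_of_sections hD x' hxD⟩
    letI := TopCat.Presheaf.algebra_section_stalk f.normalization.presheaf (U := D) ⟨x', hxD⟩
    haveI := hD.isLocalization_stalk ⟨x', hxD⟩
    exact IsLocalization.isDomain_of_le_nonZeroDivisors _
      (Ideal.primeCompl_le_nonZeroDivisors (hD.primeIdealOf ⟨x', hxD⟩).asIdeal)
  · intro x'
    obtain ⟨D, W, hD, hxD, -, -, hDW, hW⟩ := exists_local f hY hfin x'
    refine ⟨D, D.2.mem_nhds hxD, ?_⟩
    obtain ⟨ξ, hξW, hξ⟩ := exists_generic_of_irreducible_open W.2 hW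
    have hξgen : ∀ z : Y, z ⤳ ξ → z = ξ := fun z hz =>
      ((hξ z (hz.mem_open W.2 hξW)).antisymm hz).eq.symm
    have hkey := key_specializes f hDW hW hξgen hξW
    apply Set.Finite.subset (Set.finite_singleton
      (⟨closure {f.toNormalization ξ}, (hgenN _).2 (h3 ξ hξgen)⟩ :
        ↥(irreducibleComponents ↥f.normalization)))
    rintro ⟨Z, hZ⟩ ⟨d, hdZ, hdD⟩
    rw [Set.mem_singleton_iff]
    apply Subtype.ext
    change Z = closure {f.toNormalization ξ}
    -- generic point of Z lies in D
    have hZcl : IsClosed Z := isClosed_of_mem_irreducibleComponents Z hZ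
    have hgen := hZ.1.isGenericPoint_genericPoint_closure
    rw [hZcl.closure_eq] at hgen
    have hζD : hZ.1.genericPoint ∈ D := by
      have := (hgen.mem_open_set_iff D.2).2 ⟨d, hdZ, hdD⟩
      exact this
    have h4 : f.toNormalization ξ ⤳ hZ.1.genericPoint := hkey _ hζD
    have h5 : Z ⊆ closure {f.toNormalization ξ} := by
      rw [← hgen.def]
      exact closure_minimal (Set.singleton_subset_iff.2 (specializes_iff_mem_closure.mp h4))
        isClosed_closure
    exact (hZ.2 isIrreducible_singleton.closure h5).antisymm h5 |>.symm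
  · intro y hy
    exact (hgenN _).2 (h3 y ((hgenY y).1 hy))
  · intro x' hx'
    have hx'gen := (hgenN x').1 hx'
    obtain ⟨D, W, hD, hxD, -, -, hDW, hW⟩ := exists_local f hY hfin x'
    obtain ⟨ξ, hξW, hξ⟩ := exists_generic_of_irreducible_open W.2 hW
    have hξgen : ∀ z : Y, z ⤳ ξ → z = ξ := fun z hz =>
      ((hξ z (hz.mem_open W.2 hξW)).antisymm hz).eq.symm
    have hkey := key_specializes f hDW hW hξgen hξW
    have hfx : f.toNormalization ξ = x' := hx'gen _ (hkey x' hxD)
    refine ⟨ξ, ⟨(hgenY ξ).2 hξgen, hfx⟩, ?_⟩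
    rintro y₁ ⟨hy₁, hy₁x⟩
    have hy₁gen := (hgenY y₁).1 hy₁
    have hy₁W : y₁ ∈ W := by
      rw [← hDW]
      change f.toNormalization y₁ ∈ D
      have : f.toNormalization y₁ = x' := hy₁x
      rw [this]
      exact hxD
    exact (hy₁gen ξ (hξ y₁ hy₁W)).symm

end Groth.Agent.Lib.NormNormalH7
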