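import Mathlib
import Groth.Prelude
import Groth.Agent.Lib.NeronEt4_helper6
import Groth.Agent.Lib.NormNormal3_helper7

/-!
# Finiteness of the normalization of a normal Noetherian scheme in an étale scheme

helper6.  For `f : X ⟶ S` étale and quasi-compact, quasi-separated over a normal locally Noetherian
scheme `S`, the relative normalization `f.fromNormalization` is finite.
-/

set_option autoImplicit false
set_option linter.all false
set_option backward.isDefEq.respectTransparency false
set_option maxHeartbeats 1600000

universe u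
open CategoryTheory CategoryTheory.Limits AlgebraicGeometry TopologicalSpace

namespace Groth.Agent.Lib.NeronEt5_helper6

open Groth.Agent.Lib.NeronEt1_helper6 Groth.Agent.Lib.NeronEt2_helper6
  Groth.Agent.Lib.NeronEt3_helper6 Groth.Agent.Lib.NeronEt4_helper6

section Ring

/-- The integral closure of a Noetherian integrally closed domain `A` in a field `L` which is
essentially of finite type and formally unramified over `A` (and into which `A` injects) is a
finite `A`-module. -/
theorem finite_integralClosure_field (A L : Type u) [CommRing A] [IsDomain A]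
    [IsIntegrallyClosed A] [IsNoetherianRing A] [Field L] [Algebra A L]
    (hinj : Function.Injective (algebraMap A L))
    [Algebra.EssFiniteType A L] [Algebra.FormallyUnramified A L] :
    Module.Finite A (integralClosure A L) := by
  haveI : FaithfulSMul A L := (faithfulSMul_iff_algebraMap_injective A L).mpr hinj
  letI : Algebra (FractionRing A) L := FractionRing.liftAlgebra A L
  haveI : IsScalarTower A (FractionRing A) L := FractionRing.isScalarTower_liftAlgebra A L
  haveI : Algebra.EssFiniteType (FractionRing A) L :=
    Algebra.EssFiniteType.of_comp A (FractionRing A) L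
  haveI : Algebra.FormallyUnramified (FractionRing A) L :=
    Algebra.FormallyUnramified.of_restrictScalars A (FractionRing A) L
  haveI : Module.Finite (FractionRing A) L :=
    Algebra.FormallyUnramified.finite_of_free (R := FractionRing A) (S := L)
  haveI : Algebra.IsSeparable (FractionRing A) L :=
    Algebra.FormallyUnramified.isSeparable (FractionRing A) L
  exact IsIntegralClosure.finite A (FractionRing A) L (integralClosure A L)

/-- If `B` maps jointly injectively to finitely many `A`-algebras `C i` in each of which `A` has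
finite integral closure, then the integral closure of `A` in `B` is finite (`A` Noetherian).
(Adapted from helper3's `NormFinite2H3.finite_integralClosure_of_ringHoms_ess`.) -/
theorem finite_integralClosure_of_ringHoms {A B : Type u} [CommRing A] [CommRing B]
    [Algebra A B] [IsNoetherianRing A] {ι : Type*} [Finite ι] (C : ι → Type u)
    [∀ i, CommRing (C i)] (φ : ∀ i, B →+* C i)
    (hfin : ∀ i, letI := ((φ i).comp (algebraMap A B)).toAlgebra
      Module.Finite A (integralClosure A (C i)))
    (hφ : ∀ b : B, (∀ i, φ i b = 0) → b = 0) :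
    Module.Finite A (integralClosure A B) := by
  letI : ∀ i, Algebra A (C i) := fun i => ((φ i).comp (algebraMap A B)).toAlgebra
  let φa : ∀ i, B →ₐ[A] C i := fun i => { φ i with commutes' := fun r => rfl }
  haveI : ∀ i, Module.Finite A (integralClosure A (C i)) := fun i => hfin i
  let ψ : integralClosure A B →ₗ[A] (∀ i, integralClosure A (C i)) :=
    { toFun := fun x i => ⟨φa i x.1, (x.2 : IsIntegral A x.1).map (φa i)⟩
      map_add' := fun x y => by
        funext i
        apply Subtype.ext
        simp
      map_smul' := fun r x => by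
        funext i
        apply Subtype.ext
        show φa i (r • x.1) = r • φa i x.1
        rw [map_smul] }
  have hψ : Function.Injective ψ := by
    intro x y hxy
    apply Subtype.ext
    rw [← sub_eq_zero]
    apply hφ
    intro i
    have h1 := congrFun hxy i
    have h2 : φa i x.1 = φa i y.1 := congrArg Subtype.val h1
    have h3 : φ i x.1 = φ i y.1 := h2
    rw [map_sub, h3, sub_self]
  cases nonempty_fintype ι
  haveI : IsNoetherian A (∀ i, integralClosure A (C i)) :=
    isNoetherian_of_isNoetherianRing_of_finite A _
  exact Module.Finite.of_injective ψ hψ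

end Ring

section Scheme

/-- Sections over an irreducible open of a reduced scheme form a domain. -/
theorem isDomain_sections_of_isIrreducible {S : Scheme.{u}} [IsReduced S] (U : S.Opens)
    (hUirr : IsIrreducible (U : Set S)) : IsDomain Γ(S, U) := by
  haveI : IrreducibleSpace ↥(U : Scheme.{u}) := by
    have : IrreducibleSpace ↥(U : Set S) := (irreducibleSpace_def _).mpr
      ((isIrreducible_iff_irreducibleSpace).mp hUirr |> fun h => by
        exact (irreducibleSpace_def _).mp h)
    exact this
  haveI : IsIntegral (U : Scheme.{u}) := isIntegral_of_irreducibleSpace_of_isReduced _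
  haveI : IsDomain Γ((U : Scheme.{u}), ⊤) := inferInstance
  exact (U.topIso.commRingCatIsoToRingEquiv.symm.toMulEquiv).isDomain _

/-- Sections over an affine open of a normal scheme which form a domain are integrally
closed.  (Adapted from helper5's `NormEt.isIntegrallyClosed_of_stalks`.) -/
theorem isIntegrallyClosed_sections {S : Scheme.{u}} (hS : Pi1.IsNormalScheme S)
    {V : S.Opens} (hV : IsAffineOpen V) [IsDomain Γ(S, V)] : IsIntegrallyClosed Γ(S, V) := by
  apply IsIntegrallyClosed.of_localization_maximal
  intro P _ hP
  have hy : hV.fromSpec ⟨P, hP.isPrime⟩ ∈ V := by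
    have := hV.range_fromSpec
    rw [← SetLike.mem_coe, ← this]
    exact ⟨_, rfl⟩
  letI := TopCat.Presheaf.algebra_section_stalk S.presheaf ⟨hV.fromSpec ⟨P, hP.isPrime⟩, hy⟩
  haveI hloc : IsLocalization P.primeCompl (S.presheaf.stalk (hV.fromSpec ⟨P, hP.isPrime⟩)) :=
    hV.isLocalization_stalk' ⟨P, hP.isPrime⟩ hy
  haveI := (hS (hV.fromSpec ⟨P, hP.isPrime⟩)).2
  exact IsIntegrallyClosed.of_equiv (IsLocalization.algEquiv P.primeCompl
    (S.presheaf.stalk (hV.fromSpec ⟨P, hP.isPrime⟩)) (Localization.AtPrime P)).toRingEquiv

/-- Evaluation at a point of an affine open is essentially of finite type.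
(Copy of helper3's `NormFinite2H3.essFiniteType_evaluation`.) -/
theorem essFiniteType_evaluation {S : Scheme.{u}} {U : S.Opens} (hU : IsAffineOpen U) (y : S)
    (hy : y ∈ U) : (S.evaluation U y hy).hom.EssFiniteType := by
  have h1 : (S.presheaf.germ U y hy).hom.EssFiniteType := by
    letI : Algebra Γ(S, U) (S.presheaf.stalk y) :=
      TopCat.Presheaf.algebra_section_stalk S.presheaf ⟨y, hy⟩
    haveI := hU.isLocalization_stalk ⟨y, hy⟩
    exact Algebra.EssFiniteType.of_isLocalization (S.presheaf.stalk y)
      (hU.primeIdealOf ⟨y, hy⟩).asIdeal.primeCompl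
  have h2 : (S.residue y).hom.EssFiniteType :=
    (RingHom.FiniteType.of_surjective _ (S.residue_surjective y)).essFiniteType
  exact h1.comp h2

/-- Evaluation at a point of an affine open is formally unramified. -/
theorem formallyUnramified_evaluation {S : Scheme.{u}} {U : S.Opens} (hU : IsAffineOpen U)
    (y : S) (hy : y ∈ U) : (S.evaluation U y hy).hom.FormallyUnramified := by
  have h1 : (S.presheaf.germ U y hy).hom.FormallyUnramified := by
    letI : Algebra Γ(S, U) (S.presheaf.stalk y) :=
      TopCat.Presheaf.algebra_section_stalk S.presheaf ⟨y, hy⟩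
    haveI := hU.isLocalization_stalk ⟨y, hy⟩
    exact Algebra.FormallyUnramified.of_isLocalization
      (hU.primeIdealOf ⟨y, hy⟩).asIdeal.primeCompl
  have h2 : (S.residue y).hom.FormallyUnramified :=
    RingHom.FormallyUnramified.of_surjective (S.residue_surjective y)
  exact h1.comp h2

/-- Residue field extensions of a formally unramified morphism locally of finite type are
formally unramified. -/
theorem formallyUnramified_residueFieldMap {X S : Scheme.{u}} (f : X ⟶ S)
    [FormallyUnramified f] [LocallyOfFiniteType f] (x : X) :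
    (f.residueFieldMap x).hom.FormallyUnramified := by
  letI : Algebra (S.residueField (f x)) (X.residueField x) :=
    (f.residueFieldMap x).hom.toAlgebra
  haveI : Algebra.IsSeparable (S.residueField (f x)) (X.residueField x) := inferInstance
  exact Algebra.FormallyUnramified.of_isSeparable _ _

end Scheme

section Main

variable {X S : Scheme.{u}} (f : X ⟶ S)

/-- Over an irreducible affine open of a normal locally Noetherian scheme, the integral closure
of the sections in the sections of a flat unramified quasi-compact scheme is finite. -/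
theorem finite_integralClosure_app [QuasiCompact f]
    [Flat f] [LocallyOfFiniteType f] [FormallyUnramified f] [IsLocallyNoetherian S]
    (hS : Pi1.IsNormalScheme S) [IsReduced X]
    (hfin : LocallyFinite (fun Z : ↥(irreducibleComponents ↥X) => (Z : Set ↥X)))
    (U : S.Opens) (hU : IsAffineOpen U) (hUirr : IsIrreducible (U : Set S)) :
    letI := (f.app U).hom.toAlgebra
    Module.Finite Γ(S, U) (integralClosure Γ(S, U) Γ(X, f ⁻¹ᵁ U)) := by
  letI := (f.app U).hom.toAlgebra
  haveI := isReduced_of_isNormalScheme hS
  haveI : IsNoetherianRing Γ(S, U) := IsLocallyNoetherian.component_noetherian ⟨U, hU⟩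
  haveI : IsDomain Γ(S, U) := isDomain_sections_of_isIrreducible U hUirr
  haveI : IsIntegrallyClosed Γ(S, U) := isIntegrallyClosed_sections hS hU
  have hc : IsCompact ((f ⁻¹ᵁ U : X.Opens) : Set X) :=
    QuasiCompact.isCompact_preimage (f := f) _ U.isOpen hU.isCompact
  have hI : {Z : irreducibleComponents X |
      ((Z : Set X) ∩ ((f ⁻¹ᵁ U : X.Opens) : Set X)).Nonempty}.Finite :=
    hfin.finite_nonempty_inter_compact hc
  let I : Set (irreducibleComponents X) := {Z : irreducibleComponents X |
      ((Z : Set X) ∩ ((f ⁻¹ᵁ U : X.Opens) : Set X)).Nonempty}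
  haveI : Finite I := hI
  have hirr : ∀ Z : I, IsIrreducible (Z.1.1 : Set X) := fun Z => Z.1.2.1
  have hcl : ∀ Z : I, IsClosed (Z.1.1 : Set X) := fun Z =>
    isClosed_of_mem_irreducibleComponents _ Z.1.2
  let g : I → X := fun Z => (hirr Z).genericPoint
  have hg : ∀ Z : I, IsGenericPoint (g Z) (Z.1.1 : Set X) := fun Z =>
    (hirr Z).isGenericPoint_genericPoint (hcl Z)
  have hgU : ∀ Z : I, g Z ∈ f ⁻¹ᵁ U := fun Z =>
    ((hg Z).mem_open_set_iff (f ⁻¹ᵁ U).isOpen).mpr Z.2
  have hgc : ∀ Z : I, closure {g Z} ∈ irreducibleComponents X := fun Z => by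
    rw [(hg Z).def]
    exact Z.1.2
  refine finite_integralClosure_of_ringHoms (fun Z : I => X.residueField (g Z))
    (fun Z => (X.evaluation (f ⁻¹ᵁ U) (g Z) (hgU Z)).hom) ?_ ?_
  · intro Z
    letI : Algebra Γ(S, U) (X.residueField (g Z)) :=
      ((X.evaluation (f ⁻¹ᵁ U) (g Z) (hgU Z)).hom.comp
        (algebraMap Γ(S, U) Γ(X, f ⁻¹ᵁ U))).toAlgebra
    have hcomp : ((X.evaluation (f ⁻¹ᵁ U) (g Z) (hgU Z)).hom.comp
        (algebraMap Γ(S, U) Γ(X, f ⁻¹ᵁ U))) =
        (S.evaluation U (f (g Z)) (hgU Z) ≫ f.residueFieldMap (g Z)).hom := by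
      rw [Scheme.evaluation_naturality f (g Z) (hgU Z)]
      rfl
    haveI : Algebra.EssFiniteType Γ(S, U) (X.residueField (g Z)) := by
      have h := (essFiniteType_evaluation hU (f (g Z)) (hgU Z)).comp
        (RingHom.EssFiniteType.residueFieldMap (LocallyOfFiniteType.stalkMap f (g Z)))
      change (algebraMap Γ(S, U) (X.residueField (g Z))).EssFiniteType
      rw [RingHom.algebraMap_toAlgebra, hcomp]
      exact h
    haveI : Algebra.FormallyUnramified Γ(S, U) (X.residueField (g Z)) := by
      have h := (formallyUnramified_evaluation hU (f (g Z)) (hgU Z)).comp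
        (formallyUnramified_residueFieldMap f (g Z))
      rw [← RingHom.formallyUnramified_algebraMap, RingHom.algebraMap_toAlgebra, hcomp]
      exact h
    apply finite_integralClosure_field
    -- injectivity of `Γ(S, U) → κ(g Z)`
    rw [injective_iff_map_eq_zero]
    intro a ha
    have ha' : (X.evaluation (f ⁻¹ᵁ U) (g Z) (hgU Z)).hom ((f.app U).hom a) = 0 := ha
    rw [Scheme.evaluation_eq_zero_iff_notMem_basicOpen, ← Scheme.preimage_basicOpen] at ha'
    rw [← basicOpen_eq_bot_iff]
    by_contra hne
    obtain ⟨s, hs⟩ : ∃ s, s ∈ S.basicOpen a := by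
      by_contra h
      push Not at h
      apply hne
      ext y
      simp [h y]
    have hsU : s ∈ U := S.basicOpen_le a hs
    obtain ⟨ξ, hξU, hξ⟩ :=
      Groth.Agent.Lib.NormNormalH7.exists_generic_of_irreducible_open U.2 hUirr
    have hξa : ξ ∈ S.basicOpen a := (hξ s hsU).mem_open (S.basicOpen a).2 hs
    obtain ⟨η', hη'1, hη'2⟩ := (Flat.generalizingMap (f := f)) (hξ (f (g Z)) (hgU Z))
    have hgen := (Groth.Agent.Lib.BrEtNbhdH3.closure_singleton_mem_irreducibleComponents_iff
      (g Z)).mp (hgc Z)
    have h1 : η' = g Z := hgen η' hη'1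
    rw [h1] at hη'2
    apply ha'
    change f (g Z) ∈ S.basicOpen a
    rw [hη'2]
    exact hξa
  · intro b hb
    rw [← basicOpen_eq_bot_iff]
    by_contra hne
    obtain ⟨y, hy⟩ : ∃ y, y ∈ X.basicOpen b := by
      by_contra h
      push Not at h
      apply hne
      ext y
      simp [h y]
    have hyW : y ∈ f ⁻¹ᵁ U := X.basicOpen_le b hy
    let Z₀ : irreducibleComponents X :=
      ⟨irreducibleComponent y, irreducibleComponent_mem_irreducibleComponents y⟩
    have hZ₀ : Z₀ ∈ I := ⟨y, mem_irreducibleComponent, hyW⟩
    have h1 : g ⟨Z₀, hZ₀⟩ ∈ X.basicOpen b :=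
      ((hg ⟨Z₀, hZ₀⟩).mem_open_set_iff (X.basicOpen b).isOpen).mpr
        ⟨y, mem_irreducibleComponent, hy⟩
    have h2 := hb ⟨Z₀, hZ₀⟩
    rw [Scheme.evaluation_eq_zero_iff_notMem_basicOpen] at h2
    exact h2 h1

end Main

section Finite

variable {X S : Scheme.{u}} (f : X ⟶ S)

/-- The restriction of the relative normalization to an affine open is finite as soon as the
corresponding integral closure is a finite module.
(Adapted from helper3's `NormFiniteH3.isFinite_fromNormalization_of_forall`.) -/
theorem isFinite_morphismRestrict_fromNormalization [QuasiCompact f] [QuasiSeparated f]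
    (U : S.affineOpens)
    (H : letI := (f.app U.1).hom.toAlgebra
      Module.Finite Γ(S, U.1) (integralClosure Γ(S, U.1) Γ(X, f ⁻¹ᵁ U.1))) :
    IsFinite (f.fromNormalization ∣_ U.1) := by
  let e := IsOpenImmersion.isoOfRangeEq (f.fromNormalization ⁻¹ᵁ U).ι (f.normalizationOpenCover.f U)
      (by simpa using congr($(f.fromNormalization_preimage U).1))
  rw [← MorphismProperty.cancel_left_of_respectsIso @IsFinite e.inv,
    ← MorphismProperty.cancel_right_of_respectsIso @IsFinite _ U.2.isoSpec.hom]
  have : (f.normalizationDiagramMap.app (.op U)).hom.Finite := by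
    let := (f.app U).hom.toAlgebra
    change (algebraMap Γ(S, U) (integralClosure Γ(S, U) Γ(X, f ⁻¹ᵁ U))).Finite
    exact RingHom.finite_algebraMap.mpr H
  convert! (IsFinite.SpecMap_iff _).mpr this
  rw [← cancel_mono U.2.fromSpec]
  simp [IsAffineOpen.isoSpec_hom, e, Scheme.Hom.ι_fromNormalization]

/-- Every point of a normal locally Noetherian scheme has an irreducible affine open
neighbourhood. -/
theorem exists_irreducible_affine_nhds [IsLocallyNoetherian S] (hS : Pi1.IsNormalScheme S)
    (y : S) : ∃ U : S.Opens, y ∈ U ∧ IsAffineOpen U ∧ IsIrreducible (U : Set S) := by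
  haveI := (hS y).1
  obtain ⟨W, hyW, hW⟩ := Groth.Agent.Lib.LocIntegralH4.exists_irreducible_open_nhds S y
  obtain ⟨U, hU', hyU', hUW⟩ :=
    exists_isAffineOpen_mem_and_subset (X := S) (x := y) (U := W) hyW
  exact ⟨U, hyU', hU', ⟨⟨y, hyU'⟩, hW.2.open_subset U.2 hUW⟩⟩

/-- **Finiteness of the normalization of a normal locally Noetherian scheme in a flat unramified
scheme** (e.g. an étale one). -/
theorem isFinite_fromNormalization [QuasiCompact f] [QuasiSeparated f]
    [Flat f] [LocallyOfFiniteType f] [FormallyUnramified f] [IsLocallyNoetherian S]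
    (hS : Pi1.IsNormalScheme S) [IsReduced X]
    (hfin : LocallyFinite (fun Z : ↥(irreducibleComponents ↥X) => (Z : Set ↥X))) :
    IsFinite f.fromNormalization := by
  choose U hyU hUaff hUirr using exists_irreducible_affine_nhds (S := S) hS
  have hsup : ⨆ y, U y = ⊤ := by
    rw [eq_top_iff]
    intro y _
    exact Opens.mem_iSup.mpr ⟨y, hyU y⟩
  rw [IsZariskiLocalAtTarget.iff_of_iSup_eq_top (P := @IsFinite) U hsup]
  intro y
  exact isFinite_morphismRestrict_fromNormalization f ⟨U y, hUaff y⟩
    (finite_integralClosure_app f hS hfin (U y) (hUaff y) (hUirr y))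

end Finite

end Groth.Agent.Lib.NeronEt5_helper6
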