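import Mathlib
import Groth.Prelude
import Groth.Agent.Lib.NeronEt5_helper6

/-!
# Existence of quasi-projective étale Néron models over normal bases in characteristic zero

helper6.  S13429.
-/

set_option autoImplicit false
set_option linter.all false
set_option backward.isDefEq.respectTransparency false
set_option maxHeartbeats 1600000

universe u
open CategoryTheory CategoryTheory.Limits AlgebraicGeometry TopologicalSpace

namespace Groth.Agent.Lib.NeronEt6_helper6

open Groth.Agent.Lib.NeronEt1_helper6 Groth.Agent.Lib.NeronEt2_helper6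
  Groth.Agent.Lib.NeronEt3_helper6 Groth.Agent.Lib.NeronEt4_helper6
  Groth.Agent.Lib.NeronEt5_helper6

/-- If `f ≫ g` is smooth and `g` is étale then `f` is smooth. -/
theorem smooth_of_comp_etale {X Y Z : Scheme.{u}} (f : X ⟶ Y) (g : Y ⟶ Z) [Smooth (f ≫ g)]
    [Etale g] : Smooth f := by
  haveI : MorphismProperty.IsMultiplicative @Smooth :=
    { id_mem := fun X => inferInstanceAs (Smooth (𝟙 X)) }
  haveI : MorphismProperty.HasOfPostcompProperty @Smooth @Etale := by
    rw [MorphismProperty.hasOfPostcompProperty_iff_le_diagonal]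
    intro X Y f hf
    haveI : Etale f := hf
    exact inferInstanceAs <| Smooth (pullback.diagonal f)
  exact MorphismProperty.of_postcomp (W := @Smooth) (W' := @Etale) f g ‹_› ‹_›

/-- The Néron mapping property passes from an étale open `V ⊆ T` to a smaller open `U ⊆ V`
obtained by removing the closure of a set `C` lying over `S₀` and disjoint from `U`. -/
theorem nmp_of_open {S : Scheme.{u}} (S₀ : S.Opens) {T : Scheme.{u}} (π : T ⟶ S)
    (V U : T.Opens) (hUV : U ≤ V) [Etale (V.ι ≫ π)]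
    (C : Set T) (hC : C ⊆ π ⁻¹' (S₀ : Set S)) (hCU : Disjoint (U : Set T) C)
    (hVU : ∀ t ∈ V, t ∉ U → t ∈ closure C)
    (Z : Over S) [Smooth Z.hom]
    (hV : Function.Bijective
      (fun g : Z ⟶ Over.mk (V.ι ≫ π) => (Over.pullback S₀.ι).map g)) :
    Function.Bijective
      (fun g : Z ⟶ Over.mk (U.ι ≫ π) => (Over.pullback S₀.ι).map g) := by
  let i : Over.mk (U.ι ≫ π) ⟶ Over.mk (V.ι ≫ π) := Over.homMk (T.homOfLE hUV) (by simp)
  haveI : Mono i := by
    haveI : Mono i.left := by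
      change Mono (T.homOfLE hUV)
      infer_instance
    exact Over.mono_of_mono_left i
  haveI : Mono ((Over.pullback S₀.ι).map i) := inferInstance
  constructor
  · intro g₁ g₂ hg
    simp only at hg
    have h1 : (Over.pullback S₀.ι).map (g₁ ≫ i) = (Over.pullback S₀.ι).map (g₂ ≫ i) := by
      rw [Functor.map_comp, Functor.map_comp, hg]
    have h2 := hV.1 h1
    exact (cancel_mono i).mp h2
  · intro g₀'
    obtain ⟨g, hg⟩ := hV.2 (g₀' ≫ (Over.pullback S₀.ι).map i)
    simp only at hg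
    have hGw : g.left ≫ V.ι ≫ π = Z.hom := Over.w g
    haveI : Smooth (g.left ≫ V.ι ≫ π) := by rw [hGw]; infer_instance
    haveI : Smooth g.left := smooth_of_comp_etale g.left (V.ι ≫ π)
    have hopen : IsOpenMap (g.left ≫ V.ι) := (g.left ≫ V.ι).isOpenMap
    -- the key identity over `S₀`
    obtain ⟨μ, hμ⟩ : ∃ μ : pullback Z.hom S₀.ι ⟶ pullback (V.ι ≫ π) S₀.ι,
      μ = ((Over.pullback S₀.ι).map g).left := ⟨_, rfl⟩
    have hμ1 : μ ≫ pullback.fst (V.ι ≫ π) S₀.ι = pullback.fst Z.hom S₀.ι ≫ g.left := by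
      rw [hμ]; simp
    obtain ⟨ν, hν⟩ : ∃ ν : pullback (U.ι ≫ π) S₀.ι ⟶ pullback (V.ι ≫ π) S₀.ι,
      ν = ((Over.pullback S₀.ι).map i).left := ⟨_, rfl⟩
    have hν1 : ν ≫ pullback.fst (V.ι ≫ π) S₀.ι =
        pullback.fst (U.ι ≫ π) S₀.ι ≫ T.homOfLE hUV := by
      rw [hν]; simp
      rfl
    obtain ⟨γ, hγ⟩ : ∃ γ : pullback Z.hom S₀.ι ⟶ pullback (U.ι ≫ π) S₀.ι, γ = g₀'.left :=
      ⟨_, rfl⟩
    have hμν : μ = γ ≫ ν := by
      rw [hμ, hγ, hν, hg]
      rfl
    have key : pullback.fst Z.hom S₀.ι ≫ g.left ≫ V.ι =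
        γ ≫ pullback.fst (U.ι ≫ π) S₀.ι ≫ U.ι := by
      rw [← reassoc_of% hμ1, hμν, Category.assoc, reassoc_of% hν1, Scheme.homOfLE_ι]
    have hmem : ∀ z : Z.left, (g.left ≫ V.ι) z ∈ U := by
      intro z
      by_contra hz
      have hzV : (g.left ≫ V.ι) z ∈ V := by
        rw [Scheme.Hom.comp_apply]
        exact (g.left z).2
      have hcl := hVU _ hzV hz
      rw [mem_closure_iff] at hcl
      obtain ⟨t, ⟨z', rfl⟩, htC⟩ :=
        hcl (Set.range (g.left ≫ V.ι)) hopen.isOpen_range ⟨z, rfl⟩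
      have hz'S₀ : Z.hom z' ∈ S₀ := by
        have h1 : π ((g.left ≫ V.ι) z') ∈ S₀ := hC htC
        rw [← hGw]
        simpa [Scheme.Hom.comp_apply] using h1
      obtain ⟨p, hp1, hp2⟩ :=
        Scheme.Pullback.exists_preimage_pullback (f := Z.hom) (g := S₀.ι) z'
          ⟨Z.hom z', hz'S₀⟩ rfl
      have h3 : (g.left ≫ V.ι) z' ∈ U := by
        rw [← hp1, ← Scheme.Hom.comp_apply, key, Scheme.Hom.comp_apply, Scheme.Hom.comp_apply]
        exact ((pullback.fst (U.ι ≫ π) S₀.ι) (γ p)).2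
      exact Set.disjoint_left.mp hCU h3 htC
    have hrange : Set.range (g.left ≫ V.ι) ⊆ Set.range U.ι := by
      rw [Scheme.Opens.range_ι]
      rintro _ ⟨z, rfl⟩
      exact hmem z
    let g' : Z.left ⟶ (U : Scheme.{u}) := IsOpenImmersion.lift U.ι (g.left ≫ V.ι) hrange
    have hg' : g' ≫ U.ι = g.left ≫ V.ι := IsOpenImmersion.lift_fac _ _ _
    have hg'w : g' ≫ U.ι ≫ π = Z.hom := by
      rw [reassoc_of% hg', hGw]
    let gt : Z ⟶ Over.mk (U.ι ≫ π) := Over.homMk g' hg'w
    have hgi : gt ≫ i = g := by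
      apply Over.OverMorphism.ext
      rw [← cancel_mono V.ι]
      change (g' ≫ T.homOfLE hUV) ≫ V.ι = g.left ≫ V.ι
      rw [Category.assoc, Scheme.homOfLE_ι, hg']
    refine ⟨gt, ?_⟩
    simp only
    rw [← cancel_mono ((Over.pullback S₀.ι).map i), ← Functor.map_comp, hgi, hg]

/-- Over a locally Noetherian base, locally of finite type implies locally of finite
presentation. -/
theorem locallyOfFinitePresentation_of_isLocallyNoetherian {X Y : Scheme.{u}} (f : X ⟶ Y)
    [LocallyOfFiniteType f] [IsLocallyNoetherian Y] : LocallyOfFinitePresentation f :=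
  ⟨fun {U} hU {V} hV e => by
    haveI : IsNoetherianRing Γ(Y, U) := IsLocallyNoetherian.component_noetherian ⟨U, hU⟩
    exact RingHom.FinitePresentation.of_finiteType.mp (f.finiteType_appLE hU hV e)⟩

/-- The restriction of a morphism to an open inside its smooth locus is smooth. -/
theorem smooth_ι_comp_of_le_smoothLocus {T S : Scheme.{u}} (π : T ⟶ S)
    [LocallyOfFinitePresentation π] (U : T.Opens) (hU : U ≤ π.smoothLocus) :
    Smooth (U.ι ≫ π) := by
  rw [← Scheme.Hom.smoothLocus_eq_top_iff, ← Scheme.Hom.preimage_smoothLocus_eq, eq_top_iff]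
  intro x _
  exact hU x.2

/-- **S13429**, with the characteristic-zero hypothesis expressed on residue fields. -/
theorem main13429 {S : Scheme.{u}} [IsNoetherian S] (hS : Pi1.IsNormalScheme S)
    (hchar : ∀ s : S, CharZero (S.residueField s))
    (S₀ : S.Opens) (hS₀ : CInt.IsSchematicallyDense S₀)
    (N₀ : Over (S₀ : Scheme.{u})) [Etale N₀.hom] [IsSeparated N₀.hom] [QuasiCompact N₀.hom] :
    ∃ (N : Over S) (e : (Over.pullback S₀.ι).obj N ≅ N₀), Etale N.hom ∧ IsSeparated N.hom ∧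
      QuasiCompact N.hom ∧ ∀ Z : Over S, Smooth Z.hom →
        Function.Bijective (fun g : Z ⟶ N => (Over.pullback S₀.ι).map g) := by
  obtain ⟨f, hf⟩ : ∃ f : N₀.left ⟶ S, f = N₀.hom ≫ S₀.ι := ⟨_, rfl⟩
  haveI : Etale f := by rw [hf]; infer_instance
  haveI : IsSeparated f := by rw [hf]; infer_instance
  haveI : QuasiCompact f := by rw [hf]; infer_instance
  haveI : LocallyQuasiFinite f := locallyQuasiFinite_of_unramified f
  haveI : IsLocallyNoetherian N₀.left := LocallyOfFiniteType.isLocallyNoetherian f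
  haveI : CompactSpace N₀.left := QuasiCompact.compactSpace_of_compactSpace f
  haveI : IsNoetherian N₀.left := {}
  have hXn : Pi1.IsNormalScheme N₀.left := isNormalScheme_of_smooth f hS
  haveI : IsReduced N₀.left := isReduced_of_isNormalScheme hXn
  have hfin : LocallyFinite
      (fun Z : ↥(irreducibleComponents ↥N₀.left) => (Z : Set ↥N₀.left)) := by
    haveI : Finite (irreducibleComponents ↥N₀.left) :=
      TopologicalSpace.NoetherianSpace.finite_irreducibleComponents
    exact locallyFinite_of_finite _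
  obtain ⟨T, j, π, hjπ, hjo, hπfin, hT⟩ : ∃ (T : Scheme.{u}) (j : N₀.left ⟶ T) (π : T ⟶ S),
      j ≫ π = f ∧ IsOpenImmersion j ∧ IsFinite π ∧ Pi1.IsNormalScheme T :=
    ⟨f.normalization, f.toNormalization, f.fromNormalization,
      f.toNormalization_fromNormalization, inferInstance,
      isFinite_fromNormalization f hS hfin,
      (Groth.Agent.Lib.NormNormalH7.main9673 f hXn hfin).1⟩
  haveI := hjo
  haveI := hπfin
  haveI : LocallyOfFinitePresentation π := locallyOfFinitePresentation_of_isLocallyNoetherian π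
  haveI : IsLocallyNoetherian T := LocallyOfFiniteType.isLocallyNoetherian π
  -- the open `U`
  let V : T.Opens := π.smoothLocus
  let C : Set T := (π ⁻¹' (S₀ : Set S)) \ Set.range j
  let U : T.Opens := V ⊓ ⟨(closure C)ᶜ, isClosed_closure.isOpen_compl⟩
  have hUV : U ≤ V := inf_le_left
  have hC : C ⊆ π ⁻¹' (S₀ : Set S) := Set.diff_subset
  have hUC : ∀ t ∈ U, t ∉ closure C := fun t ht => ht.2
  have hCU : Disjoint (U : Set T) C :=
    Set.disjoint_left.mpr fun t ht htC => hUC t ht (subset_closure htC)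
  have hVU : ∀ t ∈ V, t ∉ U → t ∈ closure C := by
    intro t htV htU
    by_contra h
    exact htU ⟨htV, h⟩
  -- `j` lands in `U`
  have hjV : ∀ n : N₀.left, j n ∈ V := by
    haveI : Smooth (j ≫ π) := by rw [hjπ]; infer_instance
    have h : j ⁻¹ᵁ π.smoothLocus = ⊤ := by
      rw [Scheme.Hom.preimage_smoothLocus_eq]
      exact Scheme.Hom.smoothLocus_eq_top (j ≫ π)
    intro n
    have : n ∈ j ⁻¹ᵁ π.smoothLocus := by rw [h]; trivial
    exact this
  have hjC : Disjoint (Set.range j) (closure C) :=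
    Disjoint.closure_right (Set.disjoint_left.mpr fun t ht htC => htC.2 ht)
      j.isOpenEmbedding.isOpen_range
  have hjU : Set.range j ⊆ Set.range U.ι := by
    rw [Scheme.Opens.range_ι]
    rintro _ ⟨n, rfl⟩
    exact ⟨hjV n, Set.disjoint_left.mp hjC ⟨n, rfl⟩⟩
  let j' : N₀.left ⟶ (U : Scheme.{u}) := IsOpenImmersion.lift U.ι j hjU
  have hj' : j' ≫ U.ι = j := IsOpenImmersion.lift_fac _ _ _
  haveI : IsOpenImmersion (j' ≫ U.ι) := by rw [hj']; infer_instance
  haveI : IsOpenImmersion j' := IsOpenImmersion.of_comp j' U.ι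
  have hj'w : j' ≫ (U.ι ≫ π) = N₀.hom ≫ S₀.ι := by
    rw [reassoc_of% hj', hjπ, hf]
  -- the Néron model
  haveI : Smooth (U.ι ≫ π) := smooth_ι_comp_of_le_smoothLocus π U hUV
  haveI : Etale (U.ι ≫ π) := etale_of_smooth_of_lqf _ hchar
  haveI : Smooth (V.ι ≫ π) := smooth_smoothLocus_ι_comp π
  haveI : Etale (V.ι ≫ π) := etale_of_smooth_of_lqf _ hchar
  -- the identification over `S₀`
  let a : N₀.left ⟶ pullback (U.ι ≫ π) S₀.ι := pullback.lift j' N₀.hom hj'w
  have ha1 : a ≫ pullback.fst (U.ι ≫ π) S₀.ι = j' := pullback.lift_fst _ _ _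
  have ha2 : a ≫ pullback.snd (U.ι ≫ π) S₀.ι = N₀.hom := pullback.lift_snd _ _ _
  haveI : IsOpenImmersion (a ≫ pullback.fst (U.ι ≫ π) S₀.ι) := by rw [ha1]; infer_instance
  haveI : IsOpenImmersion a := IsOpenImmersion.of_comp a (pullback.fst (U.ι ≫ π) S₀.ι)
  haveI : Surjective a := by
    constructor
    intro p
    obtain ⟨x, hx⟩ : ∃ x : (U : Scheme.{u}), x = pullback.fst (U.ι ≫ π) S₀.ι p := ⟨_, rfl⟩
    have hxS₀ : π (U.ι x) ∈ S₀ := by
      have h1 : (U.ι ≫ π) x = S₀.ι (pullback.snd (U.ι ≫ π) S₀.ι p) := by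
        rw [hx, ← Scheme.Hom.comp_apply, ← Scheme.Hom.comp_apply, pullback.condition]
      rw [← Scheme.Hom.comp_apply, h1]
      exact (pullback.snd (U.ι ≫ π) S₀.ι p).2
    have hxC : U.ι x ∉ C := fun h => hUC _ x.2 (subset_closure h)
    have hxj : U.ι x ∈ Set.range j := by
      by_contra h
      exact hxC ⟨hxS₀, h⟩
    obtain ⟨n, hn⟩ := hxj
    refine ⟨n, ?_⟩
    apply (pullback.fst (U.ι ≫ π) S₀.ι).isOpenEmbedding.injective
    rw [← Scheme.Hom.comp_apply, ha1, ← hx]
    apply U.ι.isOpenEmbedding.injective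
    rw [← Scheme.Hom.comp_apply, hj', hn]
  haveI : IsIso a := (isIso_iff_isOpenImmersion_and_surjective a).mpr ⟨inferInstance, inferInstance⟩
  refine ⟨Over.mk (U.ι ≫ π), Over.isoMk (asIso a).symm ?_, ‹_›,
    (inferInstance : IsSeparated (U.ι ≫ π)), (inferInstance : QuasiCompact (U.ι ≫ π)), ?_⟩
  · change inv a ≫ N₀.hom = pullback.snd (U.ι ≫ π) S₀.ι
    rw [← ha2, IsIso.inv_hom_id_assoc]
  · intro Z hZ
    haveI := hZ
    exact nmp_of_open S₀ π V U hUV C hC hCU hVU Z (main13432 hS hchar S₀ hS₀ π hT Z hZ)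

end Groth.Agent.Lib.NeronEt6_helper6
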