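import Mathlib
import Groth.Agent.Lib.NeronLoc5_helper6
import Groth.Agent.Lib.SchDenseExt_helper4

/-!
# Extending morphisms defined over a scheme-theoretically dominant part (helper6)

`FactorsJ p jT h F`: the morphism `F : P ⟶ N` restricts to `h : T₀ ⟶ N` on `P ×_T T₀`.
-/

set_option autoImplicit false
set_option linter.all false
set_option backward.isDefEq.respectTransparency false
universe u
open CategoryTheory CategoryTheory.Limits AlgebraicGeometry Opposite TopologicalSpace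

namespace Groth.Agent.Lib.NeronLocH6

/-- `F : P ⟶ N` restricts to `h` on the part of `P` lying over `jT : T₀ ⟶ T`. -/
def FactorsJ {P T T₀ N : Scheme.{u}} (p : P ⟶ T) (jT : T₀ ⟶ T) (h : T₀ ⟶ N) (F : P ⟶ N) : Prop :=
  ∀ ⦃Z : Scheme.{u}⦄ (z : Z ⟶ P) (z₀ : Z ⟶ T₀), z ≫ p = z₀ ≫ jT → z ≫ F = z₀ ≫ h

lemma factorsJ_iff {P T T₀ N : Scheme.{u}} (p : P ⟶ T) (jT : T₀ ⟶ T) (h : T₀ ⟶ N) (F : P ⟶ N) :
    FactorsJ p jT h F ↔ pullback.fst p jT ≫ F = pullback.snd p jT ≫ h := by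
  constructor
  · intro H
    exact H _ _ pullback.condition
  · intro H Z z z₀ hz
    have e1 : pullback.lift z z₀ hz ≫ pullback.fst p jT = z := pullback.lift_fst _ _ _
    have e2 : pullback.lift z z₀ hz ≫ pullback.snd p jT = z₀ := pullback.lift_snd _ _ _
    rw [← e1, Category.assoc, H, ← Category.assoc, e2]

lemma factorsJ_comp {P P' T T₀ N : Scheme.{u}} (p : P ⟶ T) (jT : T₀ ⟶ T) (h : T₀ ⟶ N)
    (F : P ⟶ N) (r : P' ⟶ P) (hF : FactorsJ p jT h F) : FactorsJ (r ≫ p) jT h (r ≫ F) := by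
  intro Z z z₀ hz
  rw [← Category.assoc]
  apply hF
  rw [Category.assoc, hz]

section

variable {T S N T₀ : Scheme.{u}} (t : T ⟶ S) (q : N ⟶ S) [IsSeparated q] (jT : T₀ ⟶ T)
  [QuasiCompact jT] [IsSchemeTheoreticallyDominant jT] (h : T₀ ⟶ N)

lemma ext_of_factorsJ {Z : Scheme.{u}} (z : Z ⟶ T) [Flat z] (f₁ f₂ : Z ⟶ N)
    (h₁ : f₁ ≫ q = z ≫ t) (h₂ : f₂ ≫ q = z ≫ t)
    (hf₁ : FactorsJ z jT h f₁) (hf₂ : FactorsJ z jT h f₂) : f₁ = f₂ := by
  haveI : IsSchemeTheoreticallyDominant (pullback.fst z jT) := inferInstance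
  refine Groth.Agent.Lib.SchDenseExtH4.ext_of_schDominant_of_isSeparated q (h₁.trans h₂.symm)
    (pullback.fst z jT) ?_
  rw [hf₁ _ _ pullback.condition, hf₂ _ _ pullback.condition]

theorem exists_of_coverJ (𝒰 : T.OpenCover) (v : ∀ x, 𝒰.X x ⟶ N)
    (hv : ∀ x, v x ≫ q = 𝒰.f x ≫ t) (hvh : ∀ x, FactorsJ (𝒰.f x) jT h (v x)) :
    ∃ f : T ⟶ N, f ≫ q = t ∧ jT ≫ f = h := by
  have hcompat : ∀ x y, pullback.fst (𝒰.f x) (𝒰.f y) ≫ v x =
      pullback.snd (𝒰.f x) (𝒰.f y) ≫ v y := by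
    intro x y
    refine ext_of_factorsJ t q jT h (pullback.fst (𝒰.f x) (𝒰.f y) ≫ 𝒰.f x) _ _ ?_ ?_ ?_ ?_
    · rw [Category.assoc, hv x, Category.assoc]
    · rw [Category.assoc, hv y, ← pullback.condition_assoc, Category.assoc]
    · intro Z z z₀ hz
      rw [← Category.assoc]
      apply hvh x
      rw [← hz, Category.assoc]
    · intro Z z z₀ hz
      rw [← Category.assoc]
      apply hvh y
      rw [← hz, Category.assoc, pullback.condition]
  refine ⟨𝒰.glueMorphisms v hcompat, ?_, ?_⟩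
  · refine Scheme.Cover.hom_ext 𝒰 _ _ fun x => ?_
    rw [← Category.assoc, Scheme.Cover.ι_glueMorphisms, hv x]
  · refine Scheme.Cover.hom_ext (𝒰.pullback₁ jT) _ _ fun x => ?_
    show pullback.fst jT (𝒰.f x) ≫ jT ≫ 𝒰.glueMorphisms v hcompat =
      pullback.fst jT (𝒰.f x) ≫ h
    rw [← Category.assoc, pullback.condition, Category.assoc, Scheme.Cover.ι_glueMorphisms]
    exact hvh x _ _ pullback.condition.symm

theorem exists_of_localJ
    (hloc : ∀ x : T, ∃ (V : T.Opens) (v : (V : Scheme.{u}) ⟶ N), x ∈ V ∧ v ≫ q = V.ι ≫ t ∧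
      FactorsJ V.ι jT h v) :
    ∃ f : T ⟶ N, f ≫ q = t ∧ jT ≫ f = h := by
  choose V v hxV hv hvh using hloc
  have hcov : IsOpenCover V := by
    show iSup V = ⊤
    rw [eq_top_iff]
    intro x _
    exact Opens.mem_iSup.mpr ⟨x, hxV x⟩
  exact exists_of_coverJ t q jT h (T.openCoverOfIsOpenCover V hcov) v hv hvh

/-- uniqueness of the extension -/
lemma unique_ext (f₁ f₂ : T ⟶ N) (h₁ : f₁ ≫ q = t) (h₂ : f₂ ≫ q = t)
    (hf₁ : jT ≫ f₁ = h) (hf₂ : jT ≫ f₂ = h) : f₁ = f₂ := by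
  refine Groth.Agent.Lib.SchDenseExtH4.ext_of_schDominant_of_isSeparated q (h₁.trans h₂.symm)
    jT (hf₁.trans hf₂.symm)

end

end Groth.Agent.Lib.NeronLocH6
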