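import Mathlib
import Groth.Agent.Lib.NeronGen1_helper6

/-!
# Extensions over a localisation of the base from a mapping property there (helper6)
-/

set_option autoImplicit false
set_option linter.all false
set_option backward.isDefEq.respectTransparency false
universe u
open CategoryTheory CategoryTheory.Limits AlgebraicGeometry Opposite TopologicalSpace

namespace Groth.Agent.Lib.NeronLocH6

section

variable {S Sp Sη T N : Scheme.{u}} (σ : Sp ⟶ S) [Mono σ] (jp : Sη ⟶ Sp) (j : Sη ⟶ S)
  (hj : jp ≫ σ = j) (t : T ⟶ S) (q : N ⟶ S)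
  (g : pullback t j ⟶ N) (hg : g ≫ q = pullback.fst t j ≫ t)

include hj hg in
/-- if `N ×_S Sp` has the unique extension property for `T ×_S Sp` along `jp`, then `g` extends
over `T ×_S Sp`. -/
theorem exists_ext_loc
    (HP : ResPj (pullback.snd t σ) (pullback.fst (pullback.snd t σ) jp) (pullback.snd q σ)) :
    ∃ F : pullback t σ ⟶ N, F ≫ q = pullback.fst t σ ≫ t ∧
      FactorsJ (pullback.fst t σ) (pullback.fst t j) g F := by
  have hc1 : (pullback.fst (pullback.snd t σ) jp ≫ pullback.fst t σ) ≫ t =
      pullback.snd (pullback.snd t σ) jp ≫ j := by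
    rw [Category.assoc, pullback.condition, ← Category.assoc, pullback.condition, Category.assoc,
      hj]
  have hθ1 : pullback.lift (pullback.fst (pullback.snd t σ) jp ≫ pullback.fst t σ)
      (pullback.snd (pullback.snd t σ) jp) hc1 ≫ pullback.fst t j =
      pullback.fst (pullback.snd t σ) jp ≫ pullback.fst t σ := pullback.lift_fst _ _ _
  have hθ2 : pullback.lift (pullback.fst (pullback.snd t σ) jp ≫ pullback.fst t σ)
      (pullback.snd (pullback.snd t σ) jp) hc1 ≫ pullback.snd t j =
      pullback.snd (pullback.snd t σ) jp := pullback.lift_snd _ _ _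
  have hc2 : (pullback.lift (pullback.fst (pullback.snd t σ) jp ≫ pullback.fst t σ)
      (pullback.snd (pullback.snd t σ) jp) hc1 ≫ g) ≫ q =
      (pullback.fst (pullback.snd t σ) jp ≫ pullback.snd t σ) ≫ σ := by
    rw [Category.assoc, hg, ← Category.assoc, hθ1, Category.assoc, Category.assoc,
      pullback.condition]
  obtain ⟨fp, ⟨hfp1, hfp2⟩, -⟩ := HP
    (pullback.lift (pullback.lift (pullback.fst (pullback.snd t σ) jp ≫ pullback.fst t σ)
      (pullback.snd (pullback.snd t σ) jp) hc1 ≫ g)
      (pullback.fst (pullback.snd t σ) jp ≫ pullback.snd t σ) hc2) (pullback.lift_snd _ _ _)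
  refine ⟨fp ≫ pullback.fst q σ, ?_, ?_⟩
  · rw [Category.assoc, pullback.condition, ← Category.assoc, hfp1, pullback.condition]
  · intro Z z z₀ hz
    have hc3 : z ≫ pullback.snd t σ = (z₀ ≫ pullback.snd t j) ≫ jp := by
      rw [← cancel_mono σ, Category.assoc, ← pullback.condition, ← Category.assoc, hz,
        Category.assoc, Category.assoc, Category.assoc, hj, pullback.condition]
    have hζ1 : pullback.lift z (z₀ ≫ pullback.snd t j) hc3 ≫
        pullback.fst (pullback.snd t σ) jp = z := pullback.lift_fst _ _ _
    have hζ2 : pullback.lift z (z₀ ≫ pullback.snd t j) hc3 ≫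
        pullback.snd (pullback.snd t σ) jp = z₀ ≫ pullback.snd t j := pullback.lift_snd _ _ _
    have hζθ : pullback.lift z (z₀ ≫ pullback.snd t j) hc3 ≫
        pullback.lift (pullback.fst (pullback.snd t σ) jp ≫ pullback.fst t σ)
          (pullback.snd (pullback.snd t σ) jp) hc1 = z₀ := by
      apply pullback.hom_ext
      · rw [Category.assoc, hθ1, ← Category.assoc, hζ1, hz]
      · rw [Category.assoc, hθ2, hζ2]
    calc z ≫ fp ≫ pullback.fst q σ
        = (pullback.lift z (z₀ ≫ pullback.snd t j) hc3 ≫
            pullback.fst (pullback.snd t σ) jp) ≫ fp ≫ pullback.fst q σ := by rw [hζ1]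
      _ = pullback.lift z (z₀ ≫ pullback.snd t j) hc3 ≫
            (pullback.fst (pullback.snd t σ) jp ≫ fp) ≫ pullback.fst q σ := by
          simp only [Category.assoc]
      _ = pullback.lift z (z₀ ≫ pullback.snd t j) hc3 ≫
            pullback.lift (pullback.fst (pullback.snd t σ) jp ≫ pullback.fst t σ)
              (pullback.snd (pullback.snd t σ) jp) hc1 ≫ g := by
          rw [hfp2, pullback.lift_fst]
      _ = z₀ ≫ g := by rw [← Category.assoc, hζθ]

end

end Groth.Agent.Lib.NeronLocH6
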