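import Mathlib
import Groth.Agent.Lib.NeronGen2_helper6
import Groth.Agent.Lib.RatExt4_helper6
import Groth.Agent.Lib.IrrLocFin_lead
import Groth.Agent.Lib.EtaleReduced_helper7

/-!
# Spreading out an extension from a local ring, generic fibre version (helper6)
-/

set_option autoImplicit false
set_option linter.all false
set_option backward.isDefEq.respectTransparency false
universe u
open CategoryTheory CategoryTheory.Limits AlgebraicGeometry Opposite TopologicalSpace

namespace Groth.Agent.Lib.NeronLocH6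

lemma eq_genericPoint_of_specializes {S : Scheme.{u}} [IrreducibleSpace S] {s : S}
    (h : s ⤳ genericPoint S) : s = genericPoint S :=
  (h.antisymm (genericPoint_specializes s)).eq

lemma apply_eq_genericPoint {S T : Scheme.{u}} [IrreducibleSpace S] (t : T ⟶ S)
    (a : ↥(pullback t (S.fromSpecStalk (genericPoint S)))) :
    t (pullback.fst t (S.fromSpecStalk (genericPoint S)) a) = genericPoint S := by
  apply eq_genericPoint_of_specializes
  rw [← Scheme.Hom.comp_apply, pullback.condition, Scheme.Hom.comp_apply]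
  have : (S.fromSpecStalk (genericPoint S)) (pullback.snd t (S.fromSpecStalk (genericPoint S)) a) ∈
      Set.range (S.fromSpecStalk (genericPoint S)) := ⟨_, rfl⟩
  rw [Scheme.range_fromSpecStalk] at this
  exact this

section

variable {S T N : Scheme.{u}} [IsIntegral S] (t : T ⟶ S) [Smooth t] [IsLocallyNoetherian T]
  (q : N ⟶ S) [IsSeparated q] [LocallyOfFiniteType q]
  (g : pullback t (S.fromSpecStalk (genericPoint S)) ⟶ N)
  (hg : g ≫ q = pullback.fst t (S.fromSpecStalk (genericPoint S)) ≫ t)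

include hg in
theorem exists_nhd_of_stalkJ (y : T) (w : Spec (T.presheaf.stalk y) ⟶ N)
    (hw : w ≫ q = T.fromSpecStalk y ≫ t)
    (hwg : FactorsJ (T.fromSpecStalk y) (pullback.fst t (S.fromSpecStalk (genericPoint S))) g w) :
    ∃ (V : T.Opens) (v : (V : Scheme.{u}) ⟶ N), y ∈ V ∧ v ≫ q = V.ι ≫ t ∧
      FactorsJ V.ι (pullback.fst t (S.fromSpecStalk (genericPoint S))) g v := by
  obtain ⟨U, hyU, f, hwf, hf⟩ := spread_out_of_isGermInjective' t q w hw
  -- a neighbourhood all of whose components pass through `y`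
  obtain ⟨_, ⟨W₀, hW₀, rfl⟩, hyW₀, -⟩ := T.isBasis_affineOpens.exists_subset_of_mem_open
    (Set.mem_univ y) isOpen_univ
  haveI : NoetherianSpace (W₀ : Set T) := by
    haveI : IsNoetherianRing Γ(T, W₀) :=
      (inferInstance : IsLocallyNoetherian T).component_noetherian ⟨W₀, hW₀⟩
    haveI : NoetherianSpace (Spec Γ(T, W₀)) := by
      show NoetherianSpace (PrimeSpectrum Γ(T, W₀))
      infer_instance
    exact (noetherianSpace_iff_of_homeomorph hW₀.isoSpec.hom.homeomorph).mpr inferInstance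
  have hfin := Groth.Agent.Lib.IrrLocFin.finite_components_meeting (W₀ : Set T) W₀.2
  obtain ⟨N₀, hN₀o, hyN₀, hN₀⟩ := Groth.Agent.Lib.RatExtH6.exists_nhd_components y
    (W₀ : Set T) W₀.2 hyW₀ hfin
  have hyV : y ∈ U ⊓ ⟨N₀, hN₀o⟩ := ⟨hyU, hyN₀⟩
  have hVU : U ⊓ ⟨N₀, hN₀o⟩ ≤ U := inf_le_left
  refine ⟨U ⊓ ⟨N₀, hN₀o⟩, T.homOfLE hVU ≫ f, hyV, ?_, ?_⟩
  · rw [Category.assoc, hf, ← Category.assoc, Scheme.homOfLE_ι]
  · rw [factorsJ_iff]
    -- the stalk map to `V`
    have hφV : (U ⊓ ⟨N₀, hN₀o⟩).fromSpecStalkOfMem y hyV ≫ T.homOfLE hVU =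
        U.fromSpecStalkOfMem y hyU := by
      rw [← cancel_mono U.ι, Category.assoc, Scheme.homOfLE_ι,
        Scheme.Opens.fromSpecStalkOfMem_ι, Scheme.Opens.fromSpecStalkOfMem_ι]
    have hφw : (U ⊓ ⟨N₀, hN₀o⟩).fromSpecStalkOfMem y hyV ≫ T.homOfLE hVU ≫ f = w := by
      rw [← Category.assoc, hφV, ← hwf]
    -- reducedness
    haveI : IsReduced (Spec (S.presheaf.stalk (genericPoint S))) := inferInstance
    haveI : IsReduced (pullback t (S.fromSpecStalk (genericPoint S))) :=
      Groth.Agent.Lib.EtaleReduced_helper7.isReduced_of_smooth_scheme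
        (pullback.snd t (S.fromSpecStalk (genericPoint S)))
    haveI : IsReduced (pullback (U ⊓ ⟨N₀, hN₀o⟩).ι
        (pullback.fst t (S.fromSpecStalk (genericPoint S)))) :=
      isReduced_of_isOpenImmersion (pullback.snd (U ⊓ ⟨N₀, hN₀o⟩).ι
        (pullback.fst t (S.fromSpecStalk (genericPoint S))))
    -- the comparison map `κ`
    have hcκ : (pullback.fst (T.fromSpecStalk y)
        (pullback.fst t (S.fromSpecStalk (genericPoint S))) ≫
        (U ⊓ ⟨N₀, hN₀o⟩).fromSpecStalkOfMem y hyV) ≫ (U ⊓ ⟨N₀, hN₀o⟩).ι =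
        pullback.snd (T.fromSpecStalk y) (pullback.fst t (S.fromSpecStalk (genericPoint S))) ≫
          pullback.fst t (S.fromSpecStalk (genericPoint S)) := by
      rw [Category.assoc, Scheme.Opens.fromSpecStalkOfMem_ι, pullback.condition]
    have hκ1 : pullback.lift _ _ hcκ ≫ pullback.fst (U ⊓ ⟨N₀, hN₀o⟩).ι
        (pullback.fst t (S.fromSpecStalk (genericPoint S))) =
        pullback.fst (T.fromSpecStalk y) (pullback.fst t (S.fromSpecStalk (genericPoint S))) ≫
          (U ⊓ ⟨N₀, hN₀o⟩).fromSpecStalkOfMem y hyV := pullback.lift_fst _ _ _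
    have hκ2 : pullback.lift _ _ hcκ ≫ pullback.snd (U ⊓ ⟨N₀, hN₀o⟩).ι
        (pullback.fst t (S.fromSpecStalk (genericPoint S))) =
        pullback.snd (T.fromSpecStalk y) (pullback.fst t (S.fromSpecStalk (genericPoint S))) :=
      pullback.lift_snd _ _ _
    haveI : IsDominant (pullback.lift _ _ hcκ) := by
      refine ⟨fun q₀ => ?_⟩
      -- the image of `q₀` in `T`
      have hv₁V : ((pullback.fst (U ⊓ ⟨N₀, hN₀o⟩).ι
          (pullback.fst t (S.fromSpecStalk (genericPoint S))) ≫ (U ⊓ ⟨N₀, hN₀o⟩).ι) q₀) ∈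
          U ⊓ ⟨N₀, hN₀o⟩ := by
        rw [Scheme.Hom.comp_apply]
        exact (pullback.fst (U ⊓ ⟨N₀, hN₀o⟩).ι
          (pullback.fst t (S.fromSpecStalk (genericPoint S))) q₀).2
      have htv₁ : t ((pullback.fst (U ⊓ ⟨N₀, hN₀o⟩).ι
          (pullback.fst t (S.fromSpecStalk (genericPoint S))) ≫ (U ⊓ ⟨N₀, hN₀o⟩).ι) q₀) =
          genericPoint S := by
        rw [pullback.condition, Scheme.Hom.comp_apply]
        exact apply_eq_genericPoint t _
      obtain ⟨ξ, hξ⟩ := QuasiSober.sober (isIrreducible_irreducibleComponent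
        (x := (pullback.fst (U ⊓ ⟨N₀, hN₀o⟩).ι
          (pullback.fst t (S.fromSpecStalk (genericPoint S))) ≫ (U ⊓ ⟨N₀, hN₀o⟩).ι) q₀))
        isClosed_irreducibleComponent
      have hξv : ξ ⤳ (pullback.fst (U ⊓ ⟨N₀, hN₀o⟩).ι
          (pullback.fst t (S.fromSpecStalk (genericPoint S))) ≫ (U ⊓ ⟨N₀, hN₀o⟩).ι) q₀ :=
        hξ.specializes mem_irreducibleComponent
      have hξy : ξ ⤳ y := hξ.specializes
        (hN₀ _ (irreducibleComponent_mem_irreducibleComponents _)
          ⟨_, mem_irreducibleComponent, hv₁V.2⟩)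
      have htξ : t ξ = genericPoint S := by
        apply eq_genericPoint_of_specializes
        rw [← htv₁]
        exact hξv.map t.continuous
      -- points
      obtain ⟨a₁, ha₁⟩ : ξ ∈ Set.range (T.fromSpecStalk y) := by
        rw [Scheme.range_fromSpecStalk]
        exact hξy
      obtain ⟨a₂, ha₂⟩ : ξ ∈ Set.range (pullback.fst t (S.fromSpecStalk (genericPoint S))) := by
        rw [Scheme.Pullback.range_fst]
        show t ξ ∈ Set.range (S.fromSpecStalk (genericPoint S))
        rw [htξ]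
        exact ⟨_, Scheme.fromSpecStalk_closedPoint⟩
      obtain ⟨q', hq'1, hq'2⟩ := Scheme.Pullback.exists_preimage_pullback a₁ a₂ (ha₁.trans ha₂.symm)
      have himg : (pullback.fst (U ⊓ ⟨N₀, hN₀o⟩).ι
          (pullback.fst t (S.fromSpecStalk (genericPoint S))) ≫ (U ⊓ ⟨N₀, hN₀o⟩).ι)
          (pullback.lift _ _ hcκ q') = ξ := by
        rw [← Scheme.Hom.comp_apply, ← Category.assoc, hκ1, Category.assoc,
          Scheme.Opens.fromSpecStalkOfMem_ι, Scheme.Hom.comp_apply, hq'1, ha₁]
      have hsp : pullback.lift _ _ hcκ q' ⤳ q₀ := by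
        rw [← (pullback.fst (U ⊓ ⟨N₀, hN₀o⟩).ι
          (pullback.fst t (S.fromSpecStalk (genericPoint S))) ≫
            (U ⊓ ⟨N₀, hN₀o⟩).ι).isEmbedding.isInducing.specializes_iff, himg]
        exact hξv
      exact hsp.mem_closed isClosed_closure (subset_closure ⟨q', rfl⟩)
    refine ext_of_isDominant_of_isSeparated q ?_ (pullback.lift _ _ hcκ) ?_
    · rw [Category.assoc, Category.assoc, hf, ← Category.assoc (T.homOfLE hVU),
        Scheme.homOfLE_ι, Category.assoc, hg, pullback.condition_assoc]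
    · rw [← Category.assoc, hκ1, Category.assoc, hφw, ← Category.assoc, hκ2]
      exact hwg _ _ pullback.condition

end

end Groth.Agent.Lib.NeronLocH6
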