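import Mathlib
import Groth.Agent.Lib.NeronGen3_helper6

/-!
# Néron lft-property from the localisations at closed points (helper6)
-/

set_option autoImplicit false
set_option linter.all false
set_option backward.isDefEq.respectTransparency false
universe u
open CategoryTheory CategoryTheory.Limits AlgebraicGeometry Opposite TopologicalSpace

namespace Groth.Agent.Lib.NeronLocH6

theorem main15942 {S : Scheme.{u}} [IsIntegral S] [IsNoetherian S]
    (G : Over S) [Smooth G.hom] [IsSeparated G.hom]
    (hloc : ∀ p : S, IsClosed ({p} : Set S) →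
      ∀ Y : Over (Spec (S.presheaf.stalk p)), Smooth Y.hom →
        Function.Bijective (fun g : Y ⟶ (Over.pullback (S.fromSpecStalk p)).obj G =>
          (Over.pullback (Spec.map (S.presheaf.stalkSpecializes
            (genericPoint_specializes p)))).map g)) :
    ∀ Y : Over S, Smooth Y.hom →
      Function.Bijective (fun g : Y ⟶ G =>
        (Over.pullback (S.fromSpecStalk (genericPoint S))).map g) := by
  intro Y hY
  haveI := hY
  apply bij_of_resPj
  haveI : IsLocallyNoetherian Y.left := LocallyOfFiniteType.isLocallyNoetherian Y.hom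
  -- `j` is quasi-compact and scheme-theoretically dominant
  haveI : IsDominant (S.fromSpecStalk (genericPoint S)) := by
    refine ⟨fun s => ?_⟩
    exact (genericPoint_specializes s).mem_closed isClosed_closure
      (subset_closure ⟨_, Scheme.fromSpecStalk_closedPoint⟩)
  haveI : IsSchemeTheoreticallyDominant (S.fromSpecStalk (genericPoint S)) :=
    IsSchemeTheoreticallyDominant.of_isDominant _
  intro g hg
  -- local extensions
  have hlocal : ∀ y : Y.left, ∃ (V : Y.left.Opens) (v : (V : Scheme.{u}) ⟶ G.left), y ∈ V ∧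
      v ≫ G.hom = V.ι ≫ Y.hom ∧
      FactorsJ V.ι (pullback.fst Y.hom (S.fromSpecStalk (genericPoint S))) g v := by
    intro y
    obtain ⟨p, hp1, hp2⟩ := (isClosed_closure (s := ({Y.hom y} : Set S))).exists_closed_singleton
      ⟨Y.hom y, subset_closure rfl⟩
    have hsp : Y.hom y ⤳ p := specializes_iff_mem_closure.mpr hp1
    -- the extension over `Spec 𝒪_{S,p}`
    have hHP : ResPj (pullback.snd Y.hom (S.fromSpecStalk p))
        (pullback.fst (pullback.snd Y.hom (S.fromSpecStalk p))
          (Spec.map (S.presheaf.stalkSpecializes (genericPoint_specializes p))))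
        (pullback.snd G.hom (S.fromSpecStalk p)) :=
      resPj_of_bij (Spec.map (S.presheaf.stalkSpecializes (genericPoint_specializes p)))
        (Over.mk (pullback.snd Y.hom (S.fromSpecStalk p)))
        ((Over.pullback (S.fromSpecStalk p)).obj G)
        (hloc p hp2 (Over.mk (pullback.snd Y.hom (S.fromSpecStalk p)))
          (show Smooth (pullback.snd Y.hom (S.fromSpecStalk p)) from inferInstance))
    obtain ⟨F, hF1, hF2⟩ := exists_ext_loc (S.fromSpecStalk p)
      (Spec.map (S.presheaf.stalkSpecializes (genericPoint_specializes p)))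
      (S.fromSpecStalk (genericPoint S))
      (Scheme.SpecMap_stalkSpecializes_fromSpecStalk (genericPoint_specializes p))
      Y.hom G.hom g hg hHP
    -- the point `Spec 𝒪_{Y,y} ⟶ Y_p`
    have hca : Y.left.fromSpecStalk y ≫ Y.hom =
        (Spec.map (Y.hom.stalkMap y) ≫ Spec.map (S.presheaf.stalkSpecializes hsp)) ≫
          S.fromSpecStalk p := by
      rw [Category.assoc, Scheme.SpecMap_stalkSpecializes_fromSpecStalk,
        Scheme.SpecMap_stalkMap_fromSpecStalk]
    have ha1 : pullback.lift _ _ hca ≫ pullback.fst Y.hom (S.fromSpecStalk p) =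
        Y.left.fromSpecStalk y := pullback.lift_fst _ _ _
    refine exists_nhd_of_stalkJ Y.hom G.hom g hg y (pullback.lift _ _ hca ≫ F) ?_ ?_
    · rw [Category.assoc, hF1, ← Category.assoc, ha1]
    · have := factorsJ_comp (pullback.fst Y.hom (S.fromSpecStalk p))
        (pullback.fst Y.hom (S.fromSpecStalk (genericPoint S))) g F (pullback.lift _ _ hca) hF2
      rwa [ha1] at this
  obtain ⟨f, hf1, hf2⟩ := exists_of_localJ Y.hom G.hom
    (pullback.fst Y.hom (S.fromSpecStalk (genericPoint S))) g hlocal
  refine ⟨f, ⟨hf1, hf2⟩, ?_⟩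
  rintro f₂ ⟨hf₂1, hf₂2⟩
  exact unique_ext Y.hom G.hom (pullback.fst Y.hom (S.fromSpecStalk (genericPoint S))) g f₂ f
    hf₂1 hf1 hf₂2 hf2

end Groth.Agent.Lib.NeronLocH6
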