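import Mathlib
import Groth.Prelude.Def_CInt

set_option autoImplicit false
set_option linter.style.haveILetI false

universe u

open CategoryTheory CategoryTheory.Limits MonoidalCategory CartesianMonoidalCategory MonObj
  AlgebraicGeometry

namespace Groth.Agent.Lib.NeronHomH4

/-- A multiplicative morphism between group objects is a homomorphism. -/
theorem isMonHom_of_mul {C : Type*} [Category C] [CartesianMonoidalCategory C] {G H : C}
    [GrpObj G] [GrpObj H] (f : H ⟶ G) (hmul : μ[H] ≫ f = (f ⊗ₘ f) ≫ μ[G]) : IsMonHom f := by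
  refine ⟨?_, hmul⟩
  have h1 : (η[H] : 𝟙_ C ⟶ H) = 1 := by rw [Hom.one_def, toUnit_unit, Category.id_comp]
  have h1' : (η[G] : 𝟙_ C ⟶ G) = 1 := by rw [Hom.one_def, toUnit_unit, Category.id_comp]
  have hh : (η[H] ≫ f) * (η[H] ≫ f) = (η[H] ≫ f) := by
    rw [Hom.mul_def, ← lift_map, Category.assoc, ← hmul, ← Category.assoc, ← Hom.mul_def, h1,
      _root_.mul_one]
  rw [h1']
  have := mul_left_cancel (a := η[H] ≫ f) (b := η[H] ≫ f) (c := 1)
    (by rw [hh, _root_.mul_one])
  exact this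

theorem main19557 {k : Type u} [Field k] [CharZero k] {S : Scheme.{u}}
    (σ : S ⟶ Spec (CommRingCat.of k)) [IsLocallyNoetherian S] (S₀ : S.Opens)
    (hS₀ : CInt.IsSchematicallyDense S₀)
    (G H : Over S) [GrpObj G] [GrpObj H] [Smooth G.hom] [Smooth H.hom]
    (hG : ∀ Z : Over S, Smooth Z.hom →
      Function.Bijective (fun g : Z ⟶ G => (Over.pullback S₀.ι).map g))
    (f : H ⟶ G)
    (hf : (Over.pullback S₀.ι).map (μ[H] ≫ f) = (Over.pullback S₀.ι).map ((f ⊗ₘ f) ≫ μ[G])) :
    IsMonHom f := by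
  have hsm : Smooth (H ⊗ H).hom := by
    show Smooth (pullback.fst H.hom H.hom ≫ H.hom)
    infer_instance
  exact isMonHom_of_mul f ((hG (H ⊗ H) hsm).1 hf)

end Groth.Agent.Lib.NeronHomH4
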