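import Groth.Statements.S18489
import Groth.Agent.Lib.GrpFlatLocus_lead
import Groth.Agent.Lib.HomLqf_lead
import Groth.Agent.Lib.IsogFib2_lead
import Groth.Agent.Lib.IsogFibre_lead
import Groth.Agent.Lib.IsogFibre2_lead
import Groth.Agent.Lib.FibCoh7_helper8
import Groth.Agent.Lib.FibCoh3_helper8
import Groth.Agent.Lib.AlgSpSmDim_helper7
import Groth.Agent.Lib.SmoothFibDim_helper4
import Groth.Agent.Lib.EquidimAt2_helper8
import Groth.Agent.Lib.FieldExt3_helper8
import Groth.Agent.Lib.FlatFibDim_helper8

/-! # Homomorphisms of Néron models which are generically isogenies: quasi-finite iff flat (lead) -/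

set_option backward.isDefEq.respectTransparency false
set_option backward.isDefEq.respectTransparency.types false
set_option linter.unusedSimpArgs false
set_option linter.unusedVariables false
set_option linter.unusedSectionVars false
set_option linter.style.longLine false
set_option linter.style.haveILetI false
set_option linter.unnecessarySimpa false
set_option maxHeartbeats 800000

universe u

open CategoryTheory CategoryTheory.Limits MonoidalCategory CartesianMonoidalCategory MonObj GrpObj
  AlgebraicGeometry Opposite Topology TopologicalSpace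

namespace Groth.Agent.Lib.NeronLqfFlat

open Groth.Agent.Lib.AssocBundle Groth.Agent.Lib.IsogKernel Groth.Agent.Lib.TorsorSeq

section arith

theorem cancel_aux (a : WithBot ℕ∞) (d : ℕ) (h : (d : WithBot ℕ∞) = a + d) : a = 0 := by
  induction a using WithBot.recBotCoe with
  | bot =>
    rw [WithBot.bot_add] at h
    exact absurd h (WithBot.natCast_ne_bot d)
  | coe b =>
    have h' : (d : ℕ∞) = b + d := by exact_mod_cast h
    have hb : b = 0 := by
      induction b using ENat.recTopCoe with
      | top => simp at h'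
      | coe n =>
        have : d = n + d := by exact_mod_cast h'
        have : n = 0 := by omega
        simp [this]
    rw [hb]; rfl

theorem cancel_aux2 (c : ℕ∞) (n d : ℕ)
    (h : ((c : ℕ∞) : WithBot ℕ∞) + ((n : ℕ∞) : WithBot ℕ∞) = (d : WithBot ℕ∞)) (hn : n = d) :
    c = 0 := by
  subst hn
  have h' : c + n = (n : ℕ∞) := by exact_mod_cast h
  induction c using ENat.recTopCoe with
  | top => simp at h'
  | coe m =>
    have : m + n = n := by exact_mod_cast h'
    have : m = 0 := by omega
    simp [this]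

theorem aux3 (c : ℕ∞) (n : ℕ)
    (h : ((c : ℕ∞) : WithBot ℕ∞) + ((n : ℕ∞) : WithBot ℕ∞) = 0) : n = 0 := by
  have h' : c + n = (0 : ℕ∞) := by exact_mod_cast h
  have := (add_eq_zero.mp h').2
  exact_mod_cast this

theorem aux4 (n1 n2 d : ℕ)
    (h : (d : WithBot ℕ∞) = (((0 : ℕ∞)) : WithBot ℕ∞) +
      (((n2 : ℕ∞) + (n1 : ℕ∞) : ℕ∞) : WithBot ℕ∞)) : n2 + n1 = d := by
  have h' : (d : ℕ∞) = 0 + ((n2 : ℕ∞) + (n1 : ℕ∞)) := by exact_mod_cast h
  rw [zero_add] at h'
  exact_mod_cast h'.symm

end arith

section field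

variable {k : Type u} [Field k]

/-- a locally quasi-finite morphism between schemes locally of finite type over a field, of the
same constant local dimension, sends maximal points to maximal points -/
theorem isMax_image {G H : Over (Spec (CommRingCat.of k))} (ψ : G ⟶ H)
    [LocallyOfFiniteType G.hom] [LocallyOfFiniteType H.hom] [LocallyOfFiniteType ψ.left]
    [LocallyQuasiFinite ψ.left]
    (d : ℕ) (hG : ∀ x : G.left, FlatMor.fibreDimAt G.hom x = d)
    (hH : ∀ y : H.left, FlatMor.fibreDimAt H.hom y = d) (ξ : G.left) (hξ : IsMax ξ) :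
    IsMax (ψ.left ξ) := by
  haveI hsub : Subsingleton ↥(Spec (CommRingCat.of k)) :=
    inferInstanceAs (Subsingleton (PrimeSpectrum k))
  obtain ⟨n1, hn1⟩ := Groth.Agent.ResQuot2H8.exists_trdeg_nat ψ.left ξ
  obtain ⟨n2, hn2⟩ := Groth.Agent.ResQuot2H8.exists_trdeg_nat H.hom (ψ.left ξ)
  have h1 : Dual3.resTrdeg ψ.left ξ = (n1 : Cardinal.{u}) := hn1
  have h2 : Dual3.resTrdeg H.hom (ψ.left ξ) = (n2 : Cardinal.{u}) := hn2
  have h3 : Dual3.resTrdeg G.hom ξ = (n2 : Cardinal.{u}) + (n1 : Cardinal.{u}) := by
    rw [← ResTrdegH8.resTrdeg_congr (Over.w ψ) ξ, ResTrdegH8.resTrdeg_comp, h1, h2]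
  have hc0 : FibCohH8.fibCoh G.hom ξ = 0 := by
    unfold FibCohH8.fibCoh
    rw [Order.coheight_eq_zero]
    intro b hb
    exact hξ hb
  have e1 := FibCohH8.fibreDimAt_eq G.hom ξ
  rw [hG ξ, hc0, h3, map_add, Cardinal.toENat_nat, Cardinal.toENat_nat] at e1
  have e2 := FibCohH8.fibreDimAt_eq ψ.left ξ
  rw [FibCohH8.fibreDimAt_eq_zero_of_lqf ψ.left ξ, h1, Cardinal.toENat_nat] at e2
  have hn1z : n1 = 0 := aux3 _ _ e2.symm
  have hsum : n2 + n1 = d := aux4 n1 n2 d e1
  have hd : n2 = d := by omega
  have e3 := FibCohH8.fibreDimAt_eq H.hom (ψ.left ξ)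
  rw [hH, h2, Cardinal.toENat_nat] at e3
  have hc : FibCohH8.fibCoh H.hom (ψ.left ξ) = 0 := cancel_aux2 _ n2 d e3.symm hd
  unfold FibCohH8.fibCoh at hc
  rw [Order.coheight_eq_zero] at hc
  intro y hy
  exact hc (b := ⟨y, Subsingleton.elim _ _⟩) hy

/-- for a homomorphism of reduced group schemes locally of finite type over a field of the same
constant dimension, locally quasi-finite is equivalent to flat -/
theorem lqf_iff_flat_field {G H : Over (Spec (CommRingCat.of k))} [GrpObj G] [GrpObj H]
    (ψ : G ⟶ H) [IsMonHom ψ] [LocallyOfFiniteType G.hom] [LocallyOfFiniteType H.hom]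
    [IsReduced H.left] (d : ℕ) (hG : ∀ x : G.left, FlatMor.fibreDimAt G.hom x = d)
    (hH : ∀ y : H.left, FlatMor.fibreDimAt H.hom y = d) :
    LocallyQuasiFinite ψ.left ↔ Flat ψ.left := by
  haveI : LocallyOfFiniteType ψ.left := Groth.Agent.Lib.GenFlatHom.lft_hom ψ
  constructor
  · intro hlqf
    haveI := hlqf
    obtain ⟨pt⟩ : Nonempty ↥(𝟙_ (Over (Spec (CommRingCat.of k)))).left :=
      (inferInstance : Nonempty (PrimeSpectrum k))
    obtain ⟨ξ, -, hξmax, -⟩ :=
      Groth.Agent.FlatFibDimH8.exists_generic_of_mem_irreducibleComponents G.left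
        (irreducibleComponent ((η[G]).left.base pt))
        (irreducibleComponent_mem_irreducibleComponents _)
    exact Groth.Agent.Lib.NeronIsogFlat.flat_hom_of_generic ψ (ψ.left ξ)
      (isMax_image ψ d hG hH ξ hξmax) ξ rfl
  · intro hflat
    haveI := hflat
    refine FibCohH8.lqf_of_forall_fibreDimAt_eq_zero ψ.left (fun x => ?_)
    have h := (FibCohH8.fibreDimAt_comp ψ.left H.hom x).2 (Flat.stalkMap ψ.left x)
    have e : FlatMor.fibreDimAt (ψ.left ≫ H.hom) x = FlatMor.fibreDimAt G.hom x := by
      rw [Over.w ψ]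
    rw [e, hG, hH] at h
    exact cancel_aux _ d h

end field

section base

variable {S : Scheme.{u}}

/-- the relative dimension of a group scheme is constant along each fibre -/
theorem fibreDim_fibre_const (G : Over S) [GrpObj G] [LocallyOfFiniteType G.hom] (x : G.left) :
    FlatMor.fibreDimAt G.hom x = FlatMor.fibreDimAt G.hom (η[G].left (G.hom x)) := by
  haveI : LocallyOfFiniteType (toUnit G).left := by rw [Over.toUnit_left]; infer_instance
  have h := Groth.Agent.Lib.HomLqf.fibreDimAt_const_rel (toUnit G) x (η[G].left (G.hom x))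
    (Groth.Agent.Lib.HomLqf.hom_unit (G.hom x)).symm
  rwa [Over.toUnit_left] at h

/-- the relative dimension of a smooth group scheme at the unit section is locally constant -/
theorem exists_nhd_const (G : Over S) [GrpObj G] [Smooth G.hom] (s : S) :
    ∃ (W : Set S) (n : ℕ), IsOpen W ∧ s ∈ W ∧
      ∀ t ∈ W, FlatMor.fibreDimAt G.hom (η[G].left t) = n := by
  obtain ⟨P', n, hw, hsm⟩ :=
    Groth.Agent.Lib.AlgSpSmDimH7.exists_smoothOfRelDim_nhd G.hom (η[G].left s)
  haveI := hsm
  refine ⟨(fun t : S => η[G].left t) ⁻¹' (P' : Set G.left), n, ?_, hw, ?_⟩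
  · exact P'.2.preimage η[G].left.continuous
  · intro t ht
    have h1 := Groth.Agent.Lib.EquidimAtH8.fibreDimAt_ι_comp G.hom P' ⟨η[G].left t, ht⟩
    have h2 := Groth.Agent.Lib.SmoothFibDimH4.main2768 n (P'.ι ≫ G.hom) ⟨η[G].left t, ht⟩
    exact h1.symm.trans h2

/-- the relative dimension of a smooth group scheme over an irreducible base is constant -/
theorem fibreDim_const [IrreducibleSpace ↥S] (G : Over S) [GrpObj G] [Smooth G.hom] :
    ∃ n : ℕ, ∀ x : G.left, FlatMor.fibreDimAt G.hom x = n := by
  obtain ⟨s₀⟩ : Nonempty ↥S := inferInstance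
  obtain ⟨W₀, n₀, hW₀, hs₀, hc₀⟩ := exists_nhd_const G s₀
  refine ⟨n₀, fun x => ?_⟩
  obtain ⟨W, n, hW, hs, hc⟩ := exists_nhd_const G (G.hom x)
  obtain ⟨t, ht₀, ht⟩ := nonempty_preirreducible_inter hW₀ hW ⟨s₀, hs₀⟩ ⟨_, hs⟩
  have hn : (n : WithBot ℕ∞) = n₀ := (hc t ht).symm.trans (hc₀ t ht₀)
  rw [fibreDim_fibre_const G x, hc _ hs, hn]

/-- for a homomorphism of smooth group schemes of the same constant relative dimension,
locally quasi-finite is equivalent to flat -/
theorem lqf_iff_flat_of_const (A B : Over S) [GrpObj A] [GrpObj B] [Smooth A.hom] [Smooth B.hom]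
    (φ : A ⟶ B) [IsMonHom φ] (n : ℕ) (hnA : ∀ x : A.left, FlatMor.fibreDimAt A.hom x = n)
    (hnB : ∀ y : B.left, FlatMor.fibreDimAt B.hom y = n) :
    LocallyQuasiFinite φ.left ↔ Flat φ.left := by
  haveI : LocallyOfFinitePresentation (φ.left ≫ B.hom) := by rw [Over.w φ]; infer_instance
  haveI : LocallyOfFinitePresentation φ.left :=
    Groth.Agent.Lib.AlgSpLocP9_helper7.locallyOfFinitePresentation_of_comp φ.left B.hom
  haveI : LocallyOfFiniteType φ.left := inferInstance
  have hfib : ∀ s : S,
      LocallyQuasiFinite ((Over.pullback (S.fromSpecResidueField s)).map φ).left ↔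
        Flat ((Over.pullback (S.fromSpecResidueField s)).map φ).left := by
    intro s
    haveI : Smooth (Red.bc (S.fromSpecResidueField s) B).hom :=
      (inferInstance : Smooth (pullback.snd B.hom (S.fromSpecResidueField s)))
    haveI : LocallyOfFiniteType (Red.bc (S.fromSpecResidueField s) A).hom :=
      (inferInstance : LocallyOfFiniteType (pullback.snd A.hom (S.fromSpecResidueField s)))
    haveI : LocallyOfFiniteType (Red.bc (S.fromSpecResidueField s) B).hom := inferInstance
    haveI : IsReduced (Red.bc (S.fromSpecResidueField s) B).left :=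
      Groth.Agent.Lib.GenFlatHom.isReduced_of_smooth (k := ↑(S.residueField s)) _
    refine lqf_iff_flat_field (k := ↑(S.residueField s))
      ((Over.pullback (S.fromSpecResidueField s)).map φ) n ?_ ?_
    · intro x
      exact (FieldExtH8.fibreDimAt_baseChange A.hom (S.fromSpecResidueField s) _ _
        (IsPullback.of_hasPullback A.hom (S.fromSpecResidueField s)) x).trans (hnA _)
    · intro y
      exact (FieldExtH8.fibreDimAt_baseChange B.hom (S.fromSpecResidueField s) _ _
        (IsPullback.of_hasPullback B.hom (S.fromSpecResidueField s)) y).trans (hnB _)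
  constructor
  · intro hlqf
    have h1 := (Groth.Agent.Lib.IsogFib.lqf_iff_forall_fibre φ).mp hlqf
    apply Flat.of_stalkMap
    intro x
    exact Groth.Agent.Lib.GrpFlatLocus.stalk_flat_of_fibre A B φ x ((hfib _).mp (h1 _))
  · intro hflat
    rw [Groth.Agent.Lib.IsogFib.lqf_iff_forall_fibre φ]
    intro s
    rw [hfib s]
    exact MorphismProperty.of_isPullback (P := @Flat)
      (Groth.Agent.Lib.TorsorBC.isPullback_map_left (S.fromSpecResidueField s) φ).flip hflat

end base

theorem main18489 (R : Type u) [CommRing R]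
    [IsDedekindDomain R] (A B : Over (Spec (CommRingCat.of R))) [GrpObj A] [GrpObj B]
    (hA : Neron.IsNeronModelOf R A ((Neron.genericFibre R).obj A) (Iso.refl _))
    (hB : Neron.IsNeronModelOf R B ((Neron.genericFibre R).obj B) (Iso.refl _))
    (φ : A ⟶ B) [IsMonHom φ] (hφ : SGA7.IsIsogenyOver ((Neron.genericFibre R).map φ)) :
    LocallyQuasiFinite φ.left ↔ Flat φ.left := by
  obtain ⟨hAsm, hAsep, hAlft, hAqc, -⟩ := hA
  obtain ⟨hBsm, hBsep, hBlft, hBqc, -⟩ := hB
  haveI := hAsm
  haveI := hBsm
  haveI := hAlft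
  haveI := hBlft
  haveI := hAqc
  haveI := hBsep
  haveI : IrreducibleSpace ↥(Spec (CommRingCat.of R)) :=
    inferInstanceAs (IrreducibleSpace (PrimeSpectrum R))
  obtain ⟨nA, hnA⟩ := fibreDim_const A
  obtain ⟨nB, hnB⟩ := fibreDim_const B
  have hAB : nA = nB := by
    obtain ⟨φK, hφK⟩ : ∃ φK : (Neron.genericFibre R).obj A ⟶ (Neron.genericFibre R).obj B,
        φK = (Neron.genericFibre R).map φ := ⟨_, rfl⟩
    haveI : IsMonHom φK := by rw [hφK]; infer_instance
    rw [← hφK] at hφ
    haveI : Surjective φK.left := hφ.1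
    haveI : Smooth ((Neron.genericFibre R).obj B).hom :=
      (inferInstance : Smooth (pullback.snd B.hom (Neron.genPt R)))
    haveI : LocallyOfFiniteType ((Neron.genericFibre R).obj A).hom :=
      (inferInstance : LocallyOfFiniteType (pullback.snd A.hom (Neron.genPt R)))
    haveI : LocallyOfFiniteType ((Neron.genericFibre R).obj B).hom := inferInstance
    haveI : IsReduced ((Neron.genericFibre R).obj B).left :=
      Groth.Agent.Lib.GenFlatHom.isReduced_of_smooth _
    haveI hflatK : Flat φK.left := Groth.Agent.Lib.IsogFibre.flat_hom' (k := FractionRing R) φK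
    haveI : QuasiCompact ((Neron.genericFibre R).obj A).hom :=
      (inferInstance : QuasiCompact (pullback.snd A.hom (Neron.genPt R)))
    haveI : QuasiCompact (φK.left ≫ ((Neron.genericFibre R).obj B).hom) := by
      rw [Over.w φK]; infer_instance
    haveI : IsSeparated ((Neron.genericFibre R).obj B).hom :=
      (inferInstance : IsSeparated (pullback.snd B.hom (Neron.genPt R)))
    haveI : QuasiCompact φK.left :=
      QuasiCompact.of_comp φK.left ((Neron.genericFibre R).obj B).hom
    obtain ⟨N, i, hker⟩ : ∃ (N : Over (Spec (CommRingCat.of (FractionRing R))))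
        (i : N ⟶ (Neron.genericFibre R).obj A), AlgGrp.IsKernel i φK := by
      refine ⟨pullback φK η[(Neron.genericFibre R).obj B],
        pullback.fst φK η[(Neron.genericFibre R).obj B], ?_⟩
      have h := IsPullback.of_hasPullback φK η[(Neron.genericFibre R).obj B]
      have e : pullback.snd φK η[(Neron.genericFibre R).obj B] = toUnit _ := toUnit_unique _ _
      rw [e] at h
      exact h
    have h3 : IsFinite N.hom := hφ.2 N i hker
    haveI := Groth.Agent.Lib.SchDescent_helper6.descendsAlong_isFinite.{u}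
    haveI hfin : IsFinite φK.left :=
      Groth.Agent.Lib.IsogKernel.prop_of_kernel i φK hker @IsFinite h3
    haveI : LocallyQuasiFinite φK.left := inferInstance
    haveI : LocallyOfFiniteType φK.left := inferInstance
    have hAK : ∀ x : ((Neron.genericFibre R).obj A).left,
        FlatMor.fibreDimAt ((Neron.genericFibre R).obj A).hom x = nA := fun x =>
      (FieldExtH8.fibreDimAt_baseChange A.hom (Neron.genPt R) _ _
        (IsPullback.of_hasPullback A.hom (Neron.genPt R)) x).trans (hnA _)
    have hBK : ∀ y : ((Neron.genericFibre R).obj B).left,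
        FlatMor.fibreDimAt ((Neron.genericFibre R).obj B).hom y = nB := fun y =>
      (FieldExtH8.fibreDimAt_baseChange B.hom (Neron.genPt R) _ _
        (IsPullback.of_hasPullback B.hom (Neron.genPt R)) y).trans (hnB _)
    obtain ⟨pt⟩ : Nonempty ↥(𝟙_ (Over (Spec (CommRingCat.of (FractionRing R))))).left :=
      (inferInstance : Nonempty (PrimeSpectrum (FractionRing R)))
    obtain ⟨x₀, hx₀⟩ : ∃ x₀ : ((Neron.genericFibre R).obj A).left,
        x₀ = (η[(Neron.genericFibre R).obj A]).left.base pt := ⟨_, rfl⟩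
    have h := (FibCohH8.fibreDimAt_comp φK.left ((Neron.genericFibre R).obj B).hom x₀).2
      (Flat.stalkMap φK.left x₀)
    have e : FlatMor.fibreDimAt (φK.left ≫ ((Neron.genericFibre R).obj B).hom) x₀ =
        FlatMor.fibreDimAt ((Neron.genericFibre R).obj A).hom x₀ := by
      rw [Over.w φK]
    rw [e, FibCohH8.fibreDimAt_eq_zero_of_lqf φK.left x₀, zero_add, hAK, hBK] at h
    exact_mod_cast h
  subst hAB
  exact lqf_iff_flat_of_const A B φ nA hnA hnB

end Groth.Agent.Lib.NeronLqfFlat
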