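import Groth.Agent.Lib.AlgSpEpi_helper7
import Groth.Agent.Lib.AlgSpOpenSub_helper7
import Groth.Agent.Lib.AlgSpRepBySp_helper7

/-!
# Descent along epimorphisms of fppf sheaves, part 1 (helper7)

* `epi_fst_of_isPullback`: epimorphisms of fppf sheaves are stable under base change;
* `mono_of_isPullback_of_epi`, `isIso_of_isPullback_of_epi`: being a monomorphism / an
  isomorphism descends along epimorphisms;
* `exists_iso_yon_of_openImmersion_pullback`: a sheaf over a scheme `E` which becomes an open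
  subscheme after an fppf base change `E' ⟶ E` is (represented by) an open subscheme of `E`.
-/

set_option autoImplicit false
set_option linter.style.haveILetI false
set_option backward.isDefEq.respectTransparency false
set_option backward.isDefEq.respectTransparency.types false
universe u
open CategoryTheory CategoryTheory.Limits AlgebraicGeometry Opposite MorphismProperty
open AlgSp Groth.Agent.Lib.AlgSpEpi_helper7 Groth.Agent.Lib.AlgSpOpenSub_helper7
  Groth.Agent.Lib.AlgSpRepBySp_helper7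

namespace Groth.Agent.Lib.ShDescH7

variable {S : Scheme.{u}}

theorem isPullback_of_factor_gen {C : Type*} [Category C] {A B D : C} (g₁ : A ⟶ B) (j : B ⟶ D)
    [Mono j] : IsPullback (𝟙 A) g₁ (g₁ ≫ j) j :=
  isPullback_of_existsUnique (by simp) (fun {W} α β h => ⟨α, ⟨Category.comp_id _, by
    rw [← cancel_mono j, Category.assoc, h]⟩, fun m hm => by rw [← hm.1, Category.comp_id]⟩)

/-- Epimorphisms of fppf sheaves are stable under base change. -/
theorem epi_fst_of_isPullback {P X Y Z : Sp S} {fst : P ⟶ X} {snd : P ⟶ Y} {f : X ⟶ Z}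
    {g : Y ⟶ Z} (sq : IsPullback fst snd f g) [Epi g] : Epi fst := by
  haveI hg : Sheaf.IsLocallySurjective g := (Sheaf.isLocallySurjective_iff_epi g).2 inferInstance
  haveI : Sheaf.IsLocallySurjective fst := by
    refine ⟨fun {T} s => ?_⟩
    refine (J S).superset_covering ?_ (Presheaf.imageSieve_mem (J S) g.hom (f.hom.app _ s))
    intro T' i hi
    obtain ⟨y, hy⟩ := hi
    have w : yE.symm (X.obj.map i.op s) ≫ f = yE.symm y ≫ g := by
      apply yE.injective
      rw [yE_comp, yE_comp, Equiv.apply_symm_apply, Equiv.apply_symm_apply, hy]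
      exact NatTrans.naturality_apply f.hom i.op s
    refine ⟨yE (sq.lift _ _ w), ?_⟩
    show yE (sq.lift _ _ w ≫ fst) = _
    rw [sq.lift_fst, Equiv.apply_symm_apply]
  infer_instance

theorem epi_snd_of_isPullback {P X Y Z : Sp S} {fst : P ⟶ X} {snd : P ⟶ Y} {f : X ⟶ Z}
    {g : Y ⟶ Z} (sq : IsPullback fst snd f g) [Epi f] : Epi snd :=
  epi_fst_of_isPullback sq.flip

/-- Being a monomorphism descends along epimorphisms of fppf sheaves. -/
theorem mono_of_isPullback_of_epi {P' P Q' Q : Sp S} {a : P' ⟶ P} {b : P' ⟶ Q'} {φ : P ⟶ Q}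
    {c : Q' ⟶ Q} (sq : IsPullback a b φ c) [Epi c] [Mono b] : Mono φ := by
  refine ⟨fun {W} x y hxy => ?_⟩
  have sqW := IsPullback.of_hasPullback (x ≫ φ) c
  haveI : Epi (pullback.fst (x ≫ φ) c) := epi_fst_of_isPullback sqW
  have w₁ : (pullback.fst (x ≫ φ) c ≫ x) ≫ φ = pullback.snd (x ≫ φ) c ≫ c := by
    rw [Category.assoc]
    exact pullback.condition
  have w₂ : (pullback.fst (x ≫ φ) c ≫ y) ≫ φ = pullback.snd (x ≫ φ) c ≫ c := by
    rw [Category.assoc, ← hxy]
    exact pullback.condition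
  have h1 : sq.lift _ _ w₁ = sq.lift _ _ w₂ := by
    rw [← cancel_mono b, sq.lift_snd, sq.lift_snd]
  have h2 : pullback.fst (x ≫ φ) c ≫ x = pullback.fst (x ≫ φ) c ≫ y := by
    rw [← sq.lift_fst _ _ w₁, h1, sq.lift_fst]
  exact (cancel_epi _).1 h2

/-- Being an isomorphism descends along epimorphisms of fppf sheaves. -/
theorem isIso_of_isPullback_of_epi {P' P Q' Q : Sp S} {a : P' ⟶ P} {b : P' ⟶ Q'} {φ : P ⟶ Q}
    {c : Q' ⟶ Q} (sq : IsPullback a b φ c) [Epi c] [IsIso b] : IsIso φ := by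
  haveI : Epi φ := by
    have h : (inv b ≫ a) ≫ φ = c := by
      rw [Category.assoc, sq.w, IsIso.inv_hom_id_assoc]
    haveI hE : Epi ((inv b ≫ a) ≫ φ) := by
      rw [h]
      infer_instance
    exact epi_of_epi (inv b ≫ a) φ
  haveI : Mono φ := mono_of_isPullback_of_epi sq
  exact isIso_of_mono_of_epi φ

/-- A sheaf over a scheme `E` which becomes an open subscheme after an fppf base change is an
open subscheme of `E`. -/
theorem exists_iso_yon_of_openImmersion_pullback {P : Sp S} {E E' V' : Over S}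
    (φ : P ⟶ (yon S).obj E) (c₀ : E' ⟶ E) (hs : Surjective c₀.left) (hfl : Flat c₀.left)
    (hfp : LocallyOfFinitePresentation c₀.left)
    (ι : V' ⟶ E') (hι : IsOpenImmersion ι.left) (a : (yon S).obj V' ⟶ P)
    (sq : IsPullback a ((yon S).map ι) φ ((yon S).map c₀)) :
    ∃ (O : Over S) (j : O ⟶ E) (e : P ≅ (yon S).obj O), IsOpenImmersion j.left ∧
      e.hom ≫ (yon S).map j = φ := by
  haveI := hι
  haveI := hfl
  haveI := hfp
  haveI : Epi ((yon S).map c₀) := epi_yon_map c₀ hs hfl hfp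
  haveI : Epi a := epi_fst_of_isPullback sq
  haveI : Mono ι.left := inferInstance
  haveI : Mono ι := (Over.forget S).mono_of_mono_map ‹_›
  haveI : Mono ((yon S).map ι) := inferInstance
  haveI : Mono φ := mono_of_isPullback_of_epi sq
  -- the open image
  have hopen : IsOpen (Set.range (ι.left ≫ c₀.left)) :=
    (ι.left ≫ c₀.left).isOpenMap.isOpen_range
  obtain ⟨Oo, hOo⟩ : ∃ Oo : E.left.Opens, (Oo : Set ↥E.left) = Set.range (ι.left ≫ c₀.left) :=
    ⟨⟨_, hopen⟩, rfl⟩
  let O : Over S := Over.mk (Oo.ι ≫ E.hom)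
  let j : O ⟶ E := Over.homMk Oo.ι rfl
  have hj : IsOpenImmersion j.left := inferInstanceAs (IsOpenImmersion Oo.ι)
  have hsub : Set.range (ι.left ≫ c₀.left) ⊆ Set.range Oo.ι := by
    rw [Scheme.Opens.range_ι, hOo]
  let c₂l : V'.left ⟶ Oo.toScheme := IsOpenImmersion.lift Oo.ι (ι.left ≫ c₀.left) hsub
  have hc₂l : c₂l ≫ Oo.ι = ι.left ≫ c₀.left := IsOpenImmersion.lift_fac _ _ _
  let c₂ : V' ⟶ O := Over.homMk c₂l (by
    show c₂l ≫ Oo.ι ≫ E.hom = V'.hom
    rw [← Category.assoc, hc₂l, Category.assoc, Over.w c₀, Over.w ι])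
  have hc₂j : c₂ ≫ j = ι ≫ c₀ := by
    ext
    exact hc₂l
  have sqL : IsPullback (𝟙 V'.left) c₂l (c₂l ≫ Oo.ι) Oo.ι := isPullback_of_factor_gen c₂l Oo.ι
  have hflc : Flat (c₂l ≫ Oo.ι) := by
    rw [hc₂l]
    infer_instance
  have hfpc : LocallyOfFinitePresentation (c₂l ≫ Oo.ι) := by
    rw [hc₂l]
    infer_instance
  have hc₂fl : Flat c₂.left := MorphismProperty.of_isPullback (P := @Flat) sqL hflc
  have hc₂fp : LocallyOfFinitePresentation c₂.left :=
    MorphismProperty.of_isPullback (P := @LocallyOfFinitePresentation) sqL hfpc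
  have hc₂s : Surjective c₂.left := by
    refine ⟨fun o => ?_⟩
    have ho : Oo.ι o ∈ Set.range (ι.left ≫ c₀.left) := by
      rw [← hOo]
      exact o.2
    obtain ⟨v, hv⟩ := ho
    refine ⟨v, Oo.ι.injective ?_⟩
    rw [← hv, ← hc₂l]
    rfl
  haveI : Epi ((yon S).map c₂) := epi_yon_map c₂ hc₂s hc₂fl hc₂fp
  haveI : Mono j.left := inferInstance
  haveI : Mono j := (Over.forget S).mono_of_mono_map ‹_›
  haveI : Mono ((yon S).map j) := inferInstance
  -- the comparison
  have sqQ := IsPullback.of_hasPullback φ ((yon S).map j)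
  have wa : a ≫ φ = (yon S).map c₂ ≫ (yon S).map j := by
    rw [← Functor.map_comp, hc₂j, Functor.map_comp]
    exact sq.w
  obtain ⟨a', ha'⟩ : ∃ a' : (yon S).obj V' ⟶ pullback φ ((yon S).map j), a' = sqQ.lift _ _ wa :=
    ⟨_, rfl⟩
  have ha'1 : a' ≫ pullback.fst φ ((yon S).map j) = a := by
    rw [ha', sqQ.lift_fst]
  have ha'2 : a' ≫ pullback.snd φ ((yon S).map j) = (yon S).map c₂ := by
    rw [ha', sqQ.lift_snd]
  have sq1 : IsPullback a' (𝟙 _) (pullback.fst φ ((yon S).map j)) a := by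
    have := (isPullback_of_factor_gen a' (pullback.fst φ ((yon S).map j))).flip
    rwa [ha'1] at this
  have sq2 : IsPullback a' (𝟙 _) (pullback.snd φ ((yon S).map j)) ((yon S).map c₂) := by
    have := (isPullback_of_factor_gen a' (pullback.snd φ ((yon S).map j))).flip
    rwa [ha'2] at this
  haveI h1 : IsIso (pullback.fst φ ((yon S).map j)) := isIso_of_isPullback_of_epi sq1
  haveI h2 : IsIso (pullback.snd φ ((yon S).map j)) := isIso_of_isPullback_of_epi sq2
  refine ⟨O, j, (asIso (pullback.fst φ ((yon S).map j))).symm ≪≫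
    asIso (pullback.snd φ ((yon S).map j)), hj, ?_⟩
  rw [Iso.trans_hom, Iso.symm_hom, asIso_inv, asIso_hom, Category.assoc, ← pullback.condition,
    IsIso.inv_hom_id_assoc]

end Groth.Agent.Lib.ShDescH7
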