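import Groth.Agent.S9872
import Groth.Agent.Lib.ShDesc1_helper7
import Groth.Agent.Lib.AlgSpRepBySp_helper7

/-!
# The Néron mapping property for smooth algebraic spaces (helper7)
-/

set_option autoImplicit false
set_option linter.style.haveILetI false
universe u
open CategoryTheory CategoryTheory.Limits AlgebraicGeometry Opposite MorphismProperty
open AlgSp Groth.Agent.Lib.AlgSpIso_helper7 Groth.Agent.Lib.ShDescH7
  Groth.Agent.Lib.AlgSpBasic_helper7

namespace Groth.Agent.Lib.NeronSpH7

variable {S : Scheme.{u}} (U : S.Opens)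

/-- `Y ×_S U` as a scheme over `S`. -/
noncomputable abbrev YU (Y : Over S) : Over S :=
  (Over.map U.ι).obj ((Over.pullback U.ι).obj Y)

/-- The projection `Y ×_S U ⟶ Y`. -/
noncomputable abbrev ε (Y : Over S) : YU U Y ⟶ Y := (Over.mapPullbackAdj U.ι).counit.app Y

/-- The projection `Y ×_S U ⟶ U`. -/
noncomputable def str (Y : Over S) : YU U Y ⟶ Over.mk U.ι :=
  Over.homMk (pullback.snd Y.hom U.ι) (by simp)

/-- The comparison `h_{Y ×_S U} ⟶ h_Y × h_U`. -/
noncomputable def θ (Y : Over S) :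
    (yon S).obj (YU U Y) ⟶ (yon S).obj Y ⨯ (yon S).obj (Over.mk U.ι) :=
  prod.lift ((yon S).map (ε U Y)) ((yon S).map (str U Y))

lemma ε_left (Y : Over S) : (ε U Y).left = pullback.fst Y.hom U.ι := by
  simp [ε]

lemma exists_lift {Y T : Over S} (a : T ⟶ Y) (b : T ⟶ Over.mk U.ι) :
    ∃ m : T ⟶ YU U Y, m ≫ ε U Y = a ∧ m ≫ str U Y = b := by
  have hw : a.left ≫ Y.hom = b.left ≫ U.ι := by
    rw [Over.w a]
    exact (Over.w b).symm
  refine ⟨Over.homMk (pullback.lift a.left b.left hw) ?_, ?_, ?_⟩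
  · show pullback.lift a.left b.left hw ≫ (pullback.snd Y.hom U.ι ≫ U.ι) = T.hom
    rw [← Category.assoc, pullback.lift_snd]
    exact Over.w b
  · apply Over.OverMorphism.ext
    rw [Over.comp_left, ε_left]
    exact pullback.lift_fst _ _ _
  · apply Over.OverMorphism.ext
    rw [Over.comp_left]
    exact pullback.lift_snd _ _ _

instance epi_θ (Y : Over S) : Epi (θ U Y) := by
  refine ⟨fun {Z} α β h => ?_⟩
  refine GrothendieckTopology.hom_ext_uliftYoneda.{u + 1} _ (fun T x => ?_)
  obtain ⟨a, ha⟩ := (yon S).map_surjective (x ≫ prod.fst)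
  obtain ⟨b, hb⟩ := (yon S).map_surjective (x ≫ prod.snd)
  obtain ⟨m, hm1, hm2⟩ := exists_lift U a b
  have hx : x = (yon S).map m ≫ θ U Y := by
    apply prod.hom_ext
    · rw [Category.assoc, θ, prod.lift_fst, ← Functor.map_comp, hm1, ha]
    · rw [Category.assoc, θ, prod.lift_snd, ← Functor.map_comp, hm2, hb]
  rw [hx, Category.assoc, Category.assoc, h]

lemma θ_naturality {Y Y' : Over S} (m : Y ⟶ Y') :
    (yon S).map ((Over.map U.ι).map ((Over.pullback U.ι).map m)) ≫ θ U Y' =
      θ U Y ≫ prod.map ((yon S).map m) (𝟙 _) := by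
  have h1 : (Over.map U.ι).map ((Over.pullback U.ι).map m) ≫ ε U Y' = ε U Y ≫ m :=
    (Over.mapPullbackAdj U.ι).counit.naturality m
  have h2 : (Over.map U.ι).map ((Over.pullback U.ι).map m) ≫ str U Y' = str U Y := by
    apply Over.OverMorphism.ext
    rw [Over.comp_left]
    exact pullback.lift_snd _ _ _
  apply prod.hom_ext
  · rw [Category.assoc, Category.assoc, θ, θ, prod.lift_fst, prod.map_fst, prod.lift_fst_assoc,
      ← Functor.map_comp, ← Functor.map_comp, h1]
  · rw [Category.assoc, Category.assoc, θ, θ, prod.lift_snd, prod.map_snd, Category.comp_id,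
      prod.lift_snd, ← Functor.map_comp, h2]

set_option backward.isDefEq.respectTransparency false in
/-- The Néron mapping property for smooth algebraic spaces follows from that for smooth
schemes. -/
theorem main13209 (N : Over S)
    (hN : ∀ Y : Over S, Smooth Y.hom →
      Function.Bijective (fun g : Y ⟶ N => (Over.mapPullbackAdj U.ι).counit.app Y ≫ g))
    (F : Sp S) (hF : IsAlgSpace F)
    (sF : F ⟶ (yon S).obj (Over.mk (𝟙 S))) (hsm : LocP @Smooth sF) :
    Function.Bijective (fun φ : F ⟶ (yon S).obj N =>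
      (prod.fst : F ⨯ (yon S).obj (Over.mk U.ι) ⟶ F) ≫ φ) := by
  obtain ⟨V, c, hce, hcs⟩ := hF.atlas
  obtain ⟨R, s, fst, sqR⟩ := hce.rep c
  obtain ⟨t, rfl⟩ := (yon S).map_surjective fst
  obtain ⟨hEq, ⟨hcolim⟩⟩ := Groth.Agent.S9872.result S F hF c hce hcs s t sqR
  haveI hcepi : Epi c := epi_of_atlas c hce hcs
  -- smoothness of the charts
  have hV : Smooth V.hom := by
    obtain ⟨k, hk⟩ := (yon S).map_surjective (c ≫ sF)
    have h1 : Smooth k.left := hsm c (𝟙 _) k hce (repWith_id _ _) (by rw [hk, Category.comp_id])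
    have h2 : k.left = V.hom := by
      have := Over.w k
      simpa using this
    rwa [h2] at h1
  have hR : Smooth R.hom := by
    haveI := hV
    haveI : Etale s.left := hEq.etale_left
    rw [← Over.w s]
    infer_instance
  -- the key identity
  have hK : ∀ χ : F ⟶ (yon S).obj N, (yon S).map (ε U V) ≫ c ≫ χ =
      θ U V ≫ prod.map c (𝟙 _) ≫ prod.fst ≫ χ := by
    intro χ
    rw [prod.map_fst_assoc, θ, prod.lift_fst_assoc]
  haveI : Epi (prod.map c (𝟙 ((yon S).obj (Over.mk U.ι)))) :=
    epi_snd_of_isPullback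
      (Groth.Agent.Lib.AlgSpRepBySp_helper7.isPullback_prod_fst_map c _)
  constructor
  · intro φ φ' h
    have h' : (prod.fst : F ⨯ (yon S).obj (Over.mk U.ι) ⟶ F) ≫ φ = prod.fst ≫ φ' := h
    rw [← cancel_epi c]
    obtain ⟨g, hg⟩ := (yon S).map_surjective (c ≫ φ)
    obtain ⟨g', hg'⟩ := (yon S).map_surjective (c ≫ φ')
    rw [← hg, ← hg']
    congr 1
    apply (hN V hV).1
    show ε U V ≫ g = ε U V ≫ g'
    apply (yon S).map_injective
    rw [Functor.map_comp, Functor.map_comp, hg, hg', hK, hK, h']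
  · intro ψ
    obtain ⟨gU, hgU⟩ := (yon S).map_surjective (θ U V ≫ prod.map c (𝟙 _) ≫ ψ)
    obtain ⟨g, hg⟩ := (hN V hV).2 gU
    have hg' : ε U V ≫ g = gU := hg
    have hcoeq : t ≫ g = s ≫ g := by
      apply (hN R hR).1
      show ε U R ≫ t ≫ g = ε U R ≫ s ≫ g
      have n1 : ε U R ≫ t = (Over.map U.ι).map ((Over.pullback U.ι).map t) ≫ ε U V :=
        ((Over.mapPullbackAdj U.ι).counit.naturality t).symm
      have n2 : ε U R ≫ s = (Over.map U.ι).map ((Over.pullback U.ι).map s) ≫ ε U V :=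
        ((Over.mapPullbackAdj U.ι).counit.naturality s).symm
      rw [← Category.assoc, ← Category.assoc, n1, n2, Category.assoc, Category.assoc, hg']
      have e_t : (yon S).map ((Over.map U.ι).map ((Over.pullback U.ι).map t)) ≫ θ U V ≫
          prod.map c (𝟙 _) = θ U R ≫ prod.map ((yon S).map t ≫ c) (𝟙 _) := by
        rw [← Category.assoc, θ_naturality, Category.assoc, prod.map_map, Category.comp_id]
      have e_s : (yon S).map ((Over.map U.ι).map ((Over.pullback U.ι).map s)) ≫ θ U V ≫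
          prod.map c (𝟙 _) = θ U R ≫ prod.map ((yon S).map s ≫ c) (𝟙 _) := by
        rw [← Category.assoc, θ_naturality, Category.assoc, prod.map_map, Category.comp_id]
      have e_ts : (yon S).map ((Over.map U.ι).map ((Over.pullback U.ι).map t)) ≫ θ U V ≫
          prod.map c (𝟙 _) = (yon S).map ((Over.map U.ι).map ((Over.pullback U.ι).map s)) ≫
            θ U V ≫ prod.map c (𝟙 _) := by
        rw [e_t, e_s, sqR.w]
      apply (yon S).map_injective
      rw [Functor.map_comp, Functor.map_comp, hgU]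
      have := congrArg (· ≫ ψ) e_ts
      simpa only [Category.assoc] using this
    have hcoeq' : (yon S).map t ≫ (yon S).map g = (yon S).map s ≫ (yon S).map g := by
      rw [← Functor.map_comp, ← Functor.map_comp, hcoeq]
    refine ⟨hcolim.desc (Cofork.ofπ ((yon S).map g) hcoeq'), ?_⟩
    have hφ : c ≫ hcolim.desc (Cofork.ofπ ((yon S).map g) hcoeq') = (yon S).map g :=
      Cofork.IsColimit.π_desc hcolim
    show prod.fst ≫ hcolim.desc (Cofork.ofπ ((yon S).map g) hcoeq') = ψ
    rw [← cancel_epi (prod.map c (𝟙 ((yon S).obj (Over.mk U.ι)))), ← cancel_epi (θ U V)]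
    exact (hK _).symm.trans (by rw [hφ, ← Functor.map_comp, hg', hgU])

end Groth.Agent.Lib.NeronSpH7
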