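import Groth.Statements.S13430
import Groth.Agent.Lib.NeronTorsor_lead

/-! # Pseudo-torsors extend across a dense open under the Néron mapping property (lead) -/

set_option backward.isDefEq.respectTransparency false
set_option backward.isDefEq.respectTransparency.types false
set_option linter.unusedSimpArgs false
set_option linter.unusedVariables false
set_option linter.unusedSectionVars false
set_option linter.style.longLine false
set_option linter.style.haveILetI false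
set_option maxHeartbeats 800000

universe u

open CategoryTheory CategoryTheory.Limits MonoidalCategory CartesianMonoidalCategory MonObj GrpObj
  AlgebraicGeometry Opposite Topology

namespace Groth.Agent.Lib.NeronTorsor

open Groth.Agent.Lib.AssocBundle Groth.Agent.Lib.GeomQuotSep Groth.Agent.Lib.BundleStages
  Groth.Agent.Lib.TorsorSeq SchFpqcCovH7

variable {S : Scheme.{u}} (S₀ : S.Opens)

noncomputable def Lmap {A B : Over S}
    (g₁ : (Over.pullback S₀.ι).obj A ⟶ (Over.pullback S₀.ι).obj B) : res S₀ A ⟶ res S₀ B :=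
  Over.homMk g₁.left (by
    have h : g₁.left ≫ pullback.snd B.hom S₀.ι = pullback.snd A.hom S₀.ι := Over.w g₁
    show g₁.left ≫ (pullback.snd B.hom S₀.ι ≫ S₀.ι) = pullback.snd A.hom S₀.ι ≫ S₀.ι
    rw [← Category.assoc, h])

theorem Lmap_fromR {A B Y : Over S}
    (g₁ : (Over.pullback S₀.ι).obj A ⟶ (Over.pullback S₀.ι).obj B)
    (g₂ : (Over.pullback S₀.ι).obj B ⟶ (Over.pullback S₀.ι).obj Y) :
    Lmap S₀ g₁ ≫ fromR S₀ g₂ = fromR S₀ (g₁ ≫ g₂) := by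
  ext
  show g₁.left ≫ (g₂.left ≫ pullback.fst Y.hom S₀.ι) = (g₁ ≫ g₂).left ≫ pullback.fst Y.hom S₀.ι
  rw [Over.comp_left, Category.assoc]

theorem Lmap_eps {A B : Over S}
    (g₁ : (Over.pullback S₀.ι).obj A ⟶ (Over.pullback S₀.ι).obj B) :
    Lmap S₀ g₁ ≫ eps S₀ B = fromR S₀ g₁ := by
  ext
  rfl

theorem fromR_id (A : Over S) : fromR S₀ (𝟙 ((Over.pullback S₀.ι).obj A)) = eps S₀ A := by
  ext
  show (𝟙 ((Over.pullback S₀.ι).obj A) : _ ⟶ _).left ≫ pullback.fst A.hom S₀.ι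
    = pullback.fst A.hom S₀.ι
  rw [Over.id_left]
  exact Category.id_comp _

theorem fromR_comp_map {A B Y : Over S}
    (g₀ : (Over.pullback S₀.ι).obj A ⟶ (Over.pullback S₀.ι).obj B) (f : B ⟶ Y) :
    fromR S₀ g₀ ≫ f = fromR S₀ (g₀ ≫ (Over.pullback S₀.ι).map f) := by
  ext
  show (g₀.left ≫ pullback.fst B.hom S₀.ι) ≫ f.left
    = (g₀ ≫ (Over.pullback S₀.ι).map f).left ≫ pullback.fst Y.hom S₀.ι
  rw [Over.comp_left, Category.assoc, Category.assoc]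
  congr 1
  exact (pullback.lift_fst _ _ _).symm

theorem inj_prod {A B Z : Over S}
    (hA : ∀ u v : Z ⟶ A, eps S₀ Z ≫ u = eps S₀ Z ≫ v → u = v)
    (hB : ∀ u v : Z ⟶ B, eps S₀ Z ≫ u = eps S₀ Z ≫ v → u = v)
    (u v : Z ⟶ A ⊗ B) (h : eps S₀ Z ≫ u = eps S₀ Z ≫ v) : u = v := by
  apply CartesianMonoidalCategory.hom_ext
  · apply hA
    rw [← Category.assoc, h, Category.assoc]
  · apply hB
    rw [← Category.assoc, h, Category.assoc]

theorem ex_prod {A B Z : Over S}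
    (hA : ∀ gam : res S₀ Z ⟶ A, ∃ g : Z ⟶ A, eps S₀ Z ≫ g = gam)
    (hB : ∀ gam : res S₀ Z ⟶ B, ∃ g : Z ⟶ B, eps S₀ Z ≫ g = gam)
    (gam : res S₀ Z ⟶ A ⊗ B) : ∃ g : Z ⟶ A ⊗ B, eps S₀ Z ≫ g = gam := by
  obtain ⟨g₁, h₁⟩ := hA (gam ≫ fst A B)
  obtain ⟨g₂, h₂⟩ := hB (gam ≫ snd A B)
  refine ⟨lift g₁ g₂, ?_⟩
  rw [comp_lift, h₁, h₂]
  exact (lift_eta gam).symm

theorem main2 {S : Scheme.{u}} (S₀ : S.Opens)
    (G : Over S) [GrpObj G] [Smooth G.hom]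
    (hG : ∀ Z : Over S, Smooth Z.hom → Function.Bijective (fun g : Z ⟶ G => (Over.pullback S₀.ι).map g))
    (N : Over S) [Smooth N.hom]
    (hN : ∀ Z : Over S, Smooth Z.hom → Function.Bijective (fun g : Z ⟶ N => (Over.pullback S₀.ι).map g))
    (a : AlgGrp.Action G N)
    (h0 : IsIso ((Over.pullback S₀.ι).map (lift a.act (snd G N)))) :
    NonAbH1.IsPseudoTorsorSch a := by
  haveI := h0
  have hG' : ∀ (Z' : Over S), Smooth Z'.hom →
      ∀ gam : res S₀ Z' ⟶ G, ∃! g : Z' ⟶ G, eps S₀ Z' ≫ g = gam :=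
    fun Z' hZ' => (bij_iff S₀ Z' G).1 (hG Z' hZ')
  have hN' : ∀ (Z' : Over S), Smooth Z'.hom →
      ∀ gam : res S₀ Z' ⟶ N, ∃! g : Z' ⟶ N, eps S₀ Z' ≫ g = gam :=
    fun Z' hZ' => (bij_iff S₀ Z' N).1 (hN Z' hZ')
  have hGinj : ∀ (Z' : Over S), Smooth Z'.hom →
      ∀ u v : Z' ⟶ G, eps S₀ Z' ≫ u = eps S₀ Z' ≫ v → u = v :=
    fun Z' hZ' u v h => (hG' Z' hZ' (eps S₀ Z' ≫ v)).unique h rfl
  have hNinj : ∀ (Z' : Over S), Smooth Z'.hom →
      ∀ u v : Z' ⟶ N, eps S₀ Z' ≫ u = eps S₀ Z' ≫ v → u = v :=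
    fun Z' hZ' u v h => (hN' Z' hZ' (eps S₀ Z' ≫ v)).unique h rfl
  obtain ⟨Φ, hΦ⟩ := ex_prod S₀ (fun gam => (hG' (N ⊗ N) inferInstance gam).exists)
    (fun gam => (hN' (N ⊗ N) inferInstance gam).exists)
    (fromR S₀ (inv ((Over.pullback S₀.ι).map (lift a.act (snd G N)))))
  have h1 : fromR S₀ (inv ((Over.pullback S₀.ι).map (lift a.act (snd G N))))
      ≫ lift a.act (snd G N) = eps S₀ (N ⊗ N) := by
    rw [fromR_comp_map, IsIso.inv_hom_id, fromR_id]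
  have h2 : eps S₀ (G ⊗ N) ≫ lift a.act (snd G N)
      = Lmap S₀ ((Over.pullback S₀.ι).map (lift a.act (snd G N))) ≫ eps S₀ (N ⊗ N) := by
    rw [Lmap_eps, fromR_map]
  have h3 : Lmap S₀ ((Over.pullback S₀.ι).map (lift a.act (snd G N)))
      ≫ fromR S₀ (inv ((Over.pullback S₀.ι).map (lift a.act (snd G N)))) = eps S₀ (G ⊗ N) := by
    rw [Lmap_fromR, IsIso.hom_inv_id, fromR_id]
  have hΦΨ : Φ ≫ lift a.act (snd G N) = 𝟙 _ := by
    apply inj_prod S₀ (hNinj (N ⊗ N) inferInstance) (hNinj (N ⊗ N) inferInstance)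
    rw [← Category.assoc, hΦ, h1, Category.comp_id]
  have hΨΦ : lift a.act (snd G N) ≫ Φ = 𝟙 _ := by
    apply inj_prod S₀ (hGinj (G ⊗ N) inferInstance) (hNinj (G ⊗ N) inferInstance)
    rw [← Category.assoc, h2, Category.assoc, hΦ, h3, Category.comp_id]
  show IsIso (lift a.act (snd G N))
  exact ⟨⟨Φ, hΨΦ, hΦΨ⟩⟩

end Groth.Agent.Lib.NeronTorsor
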