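import Mathlib
import Groth.Agent.Lib.PSEval_helper1

/-!
# A Weierstrass equation in residue characteristic 2 (type II): the cotangent computation (S14909)

`R` a DVR with uniformizer `ϖ`, `a₁ = u₁ ϖ^v`, `a₆ = u₆ ϖ`, `2 ∈ (ϖ^v)`.  In `R[[x,y]]`,
`M = (ϖ, x, y)`, `I = (F, F_y, F_x)`.  We show `M^i + I = (y^i, x y^(i-1)) + I` by Nakayama and
the independence statement through an explicit model ring
`(R/ϖ^(v+1))[ε][ρ] / (ε², ρ² - u₆ϖ)`.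
-/

set_option autoImplicit false
set_option maxHeartbeats 1000000

universe u

namespace Groth.Agent.Lib.NeronW2H1

open MvPowerSeries

noncomputable section

lemma sup_mul_le {A : Type*} [CommRing A] (P I Q : Ideal A) : (P ⊔ I) * Q ≤ P * Q ⊔ I := by
  rw [Ideal.sup_mul]
  exact sup_le_sup le_rfl Ideal.mul_le_left

lemma three_isUnit {R : Type*} [CommRing R] [IsLocalRing R] (v : ℕ) (hv : 1 ≤ v)
    (h2 : (2 : R) ∈ IsLocalRing.maximalIdeal R ^ v) : IsUnit (3 : R) := by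
  by_contra h
  have h3 : (3 : R) ∈ IsLocalRing.maximalIdeal R :=
    (IsLocalRing.mem_maximalIdeal _).mpr (mem_nonunits_iff.mpr h)
  have h2' : (2 : R) ∈ IsLocalRing.maximalIdeal R := Ideal.pow_le_self (by omega) h2
  have h1 : (1 : R) ∈ IsLocalRing.maximalIdeal R := by
    have := Ideal.sub_mem _ h3 h2'
    have e : (3 : R) - 2 = 1 := by norm_num
    rwa [e] at this
  exact (IsLocalRing.maximalIdeal.isMaximal R).ne_top ((Ideal.eq_top_iff_one _).mpr h1)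

variable {R : Type u} [CommRing R]

/-- the ring of power series in two variables -/
abbrev PS (R : Type u) [CommRing R] := MvPowerSeries (Fin 2) R

variable (ϖ : R) (v : ℕ) (u₁ u₆ : Rˣ)

/-- the Weierstrass equation -/
def Fw : PS R :=
  (X 1 : PS R) ^ 2 + ((u₁ : R) * ϖ ^ v) • ((X 0 : PS R) * X 1) - (X 0 : PS R) ^ 3 -
    algebraMap R (PS R) ((u₆ : R) * ϖ)

/-- its `y`-derivative -/
def Gw : PS R := 2 * (X 1 : PS R) + ((u₁ : R) * ϖ ^ v) • (X 0 : PS R)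

/-- minus its `x`-derivative -/
def Hw : PS R := 3 * (X 0 : PS R) ^ 2 - ((u₁ : R) * ϖ ^ v) • (X 1 : PS R)

/-- the ideal `I` -/
def Iw : Ideal (PS R) := Ideal.span {Fw ϖ v u₁ u₆, Gw ϖ v u₁, Hw ϖ v u₁}

/-- the ideal `M` -/
def Mw : Ideal (PS R) := Ideal.span {algebraMap R (PS R) ϖ, X 0, X 1}

lemma X0_mem : (X 0 : PS R) ∈ Mw ϖ := Ideal.subset_span (Or.inr (Or.inl rfl))
lemma X1_mem : (X 1 : PS R) ∈ Mw ϖ := Ideal.subset_span (Or.inr (Or.inr rfl))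
lemma Fw_mem : Fw ϖ v u₁ u₆ ∈ Iw ϖ v u₁ u₆ := Ideal.subset_span (Or.inl rfl)
lemma Gw_mem : Gw ϖ v u₁ ∈ Iw ϖ v u₁ u₆ := Ideal.subset_span (Or.inr (Or.inl rfl))
lemma Hw_mem : Hw ϖ v u₁ ∈ Iw ϖ v u₁ u₆ := Ideal.subset_span (Or.inr (Or.inr rfl))

section Gen

lemma varpi_mem : algebraMap R (PS R) ϖ ∈ Mw ϖ ^ 2 ⊔ Iw ϖ v u₁ u₆ := by
  have hx := X0_mem ϖ
  have hy := X1_mem ϖ
  have hu : algebraMap R (PS R) (↑u₆⁻¹ : R) * algebraMap R (PS R) (u₆ : R) = 1 := by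
    rw [← map_mul, Units.inv_mul, map_one]
  have key : algebraMap R (PS R) ϖ =
      algebraMap R (PS R) (↑u₆⁻¹ : R) *
        ((X 1 : PS R) ^ 2 + ((u₁ : R) * ϖ ^ v) • ((X 0 : PS R) * X 1) - (X 0 : PS R) ^ 3)
        - algebraMap R (PS R) (↑u₆⁻¹ : R) * Fw ϖ v u₁ u₆ := by
    rw [Fw, map_mul]
    linear_combination (-(algebraMap R (PS R) ϖ)) * hu
  rw [key]
  refine Ideal.sub_mem _ (Ideal.mem_sup_left (Ideal.mul_mem_left _ _ ?_))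
    (Ideal.mem_sup_right (Ideal.mul_mem_left _ _ (Fw_mem ϖ v u₁ u₆)))
  refine Ideal.sub_mem _ (Ideal.add_mem _ ?_ ?_) ?_
  · rw [sq, sq]; exact Ideal.mul_mem_mul hy hy
  · rw [Algebra.smul_def, sq]; exact Ideal.mul_mem_left _ _ (Ideal.mul_mem_mul hx hy)
  · have h3 : (X 0 : PS R) ^ 3 = X 0 * (X 0 * X 0) := by ring
    rw [h3, sq]; exact Ideal.mul_mem_left _ _ (Ideal.mul_mem_mul hx hx)

lemma xsq_mem (hv : 1 ≤ v) (h3 : IsUnit (3 : R)) :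
    (X 0 : PS R) ^ 2 ∈ Mw ϖ ^ 3 ⊔ Iw ϖ v u₁ u₆ := by
  obtain ⟨w, hw⟩ := h3
  have e3 : (3 : PS R) = algebraMap R (PS R) (w : R) := by rw [hw, map_ofNat]
  have hwi : algebraMap R (PS R) (↑w⁻¹ : R) * algebraMap R (PS R) (w : R) = 1 := by
    rw [← map_mul, Units.inv_mul, map_one]
  have hpow : ϖ ^ v = ϖ * ϖ ^ (v - 1) := by
    rw [← pow_succ']; congr 1; omega
  have key : (X 0 : PS R) ^ 2 = algebraMap R (PS R) (↑w⁻¹ : R) * Hw ϖ v u₁ +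
      algebraMap R (PS R) ((↑w⁻¹ : R) * u₁) *
        (algebraMap R (PS R) ϖ * (algebraMap R (PS R) (ϖ ^ (v - 1)) * X 1)) := by
    rw [Hw, Algebra.smul_def, e3, hpow]
    simp only [map_mul]
    linear_combination (-(X 0 : PS R) ^ 2) * hwi
  rw [key]
  refine Ideal.add_mem _ (Ideal.mem_sup_right (Ideal.mul_mem_left _ _ (Hw_mem ϖ v u₁ u₆)))
    (Ideal.mul_mem_left _ _ ?_)
  have h1 := Ideal.mul_mem_mul (varpi_mem ϖ v u₁ u₆)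
    (Ideal.mul_mem_left _ (algebraMap R (PS R) (ϖ ^ (v - 1))) (X1_mem ϖ))
  have h2 := sup_mul_le _ _ _ h1
  rwa [← pow_succ] at h2

lemma varpi_mul_mem {z : PS R} {n : ℕ} (hz : z ∈ Mw ϖ ^ n) :
    algebraMap R (PS R) ϖ * z ∈ Mw ϖ ^ (n + 2) ⊔ Iw ϖ v u₁ u₆ := by
  have h1 := Ideal.mul_mem_mul (varpi_mem ϖ v u₁ u₆) hz
  have h2 := sup_mul_le _ _ _ h1
  rwa [← pow_add, add_comm 2 n] at h2

lemma xsq_mul_mem (hv : 1 ≤ v) (h3 : IsUnit (3 : R)) {z : PS R} {n : ℕ} (hz : z ∈ Mw ϖ ^ n) :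
    (X 0 : PS R) ^ 2 * z ∈ Mw ϖ ^ (n + 3) ⊔ Iw ϖ v u₁ u₆ := by
  have h1 := Ideal.mul_mem_mul (xsq_mem ϖ v u₁ u₆ hv h3) hz
  have h2 := sup_mul_le _ _ _ h1
  rwa [← pow_add, add_comm 3 n] at h2

lemma pow_le_step (hv : 1 ≤ v) (h3 : IsUnit (3 : R)) (j : ℕ) :
    Mw ϖ ^ (j + 1) ≤ Ideal.span {(X 1 : PS R) ^ (j + 1), (X 0 : PS R) * X 1 ^ j} ⊔
      Iw ϖ v u₁ u₆ ⊔ Mw ϖ ^ (j + 2) := by
  have hMI : ∀ (k : ℕ) (J : Ideal (PS R)),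
      Mw ϖ ^ k ⊔ Iw ϖ v u₁ u₆ ≤ J ⊔ Iw ϖ v u₁ u₆ ⊔ Mw ϖ ^ k :=
    fun k J => sup_le le_sup_right (le_sup_of_le_left le_sup_right)
  induction j with
  | zero =>
    simp only [zero_add, pow_one, pow_zero, mul_one]
    refine Ideal.span_le.mpr ?_
    rintro z (rfl | rfl | rfl)
    · exact hMI 2 _ (varpi_mem ϖ v u₁ u₆)
    · exact Ideal.mem_sup_left (Ideal.mem_sup_left (Ideal.subset_span (Or.inr rfl)))
    · exact Ideal.mem_sup_left (Ideal.mem_sup_left (Ideal.subset_span (Or.inl rfl)))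
  | succ j ih =>
    have hx := X0_mem ϖ
    have hy := X1_mem ϖ
    have hyp : ∀ n, (X 1 : PS R) ^ n ∈ Mw ϖ ^ n := fun n => Ideal.pow_mem_pow hy n
    have hxy : (X 0 : PS R) * X 1 ^ j ∈ Mw ϖ ^ (j + 1) := by
      rw [pow_succ']; exact Ideal.mul_mem_mul hx (hyp j)
    set T := Ideal.span {(X 1 : PS R) ^ (j + 1 + 1), (X 0 : PS R) * X 1 ^ (j + 1)} ⊔
      Iw ϖ v u₁ u₆ ⊔ Mw ϖ ^ (j + 1 + 2) with hT
    have hJ1 : (X 1 : PS R) ^ (j + 1 + 1) ∈ T :=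
      Ideal.mem_sup_left (Ideal.mem_sup_left (Ideal.subset_span (Or.inl rfl)))
    have hJ2 : (X 0 : PS R) * X 1 ^ (j + 1) ∈ T :=
      Ideal.mem_sup_left (Ideal.mem_sup_left (Ideal.subset_span (Or.inr rfl)))
    have hMI' : Mw ϖ ^ (j + 1 + 2) ⊔ Iw ϖ v u₁ u₆ ≤ T := hMI _ _
    have h1 : Mw ϖ * Ideal.span {(X 1 : PS R) ^ (j + 1), (X 0 : PS R) * X 1 ^ j} ≤ T := by
      rw [Mw, Ideal.span_mul_span', Ideal.span_le]
      rintro _ ⟨a, ha, b, hb, rfl⟩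
      beta_reduce
      rcases ha with rfl | rfl | rfl
      · rcases hb with rfl | rfl
        · exact hMI' (varpi_mul_mem ϖ v u₁ u₆ (hyp (j + 1)))
        · exact hMI' (varpi_mul_mem ϖ v u₁ u₆ hxy)
      · rcases hb with rfl | rfl
        · exact hJ2
        · have e : (X 0 : PS R) * (X 0 * X 1 ^ j) = X 0 ^ 2 * X 1 ^ j := by ring
          have h4 := xsq_mul_mem ϖ v u₁ u₆ hv h3 (hyp j)
          have e' : j + 3 = j + 1 + 2 := by omega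
          rw [e'] at h4
          rw [SetLike.mem_coe, e]
          exact hMI' h4
      · rcases hb with rfl | rfl
        · have e : (X 1 : PS R) * X 1 ^ (j + 1) = X 1 ^ (j + 1 + 1) := (pow_succ' _ _).symm
          rw [SetLike.mem_coe, e]; exact hJ1
        · have e : (X 1 : PS R) * (X 0 * X 1 ^ j) = X 0 * X 1 ^ (j + 1) := by ring
          rw [SetLike.mem_coe, e]; exact hJ2
    have h2 : Mw ϖ * Iw ϖ v u₁ u₆ ≤ T :=
      Ideal.mul_le_right.trans (le_sup_of_le_left le_sup_right)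
    have h3' : Mw ϖ * Mw ϖ ^ (j + 2) ≤ T := by
      have e : Mw ϖ * Mw ϖ ^ (j + 2) = Mw ϖ ^ (j + 1 + 2) :=
        (pow_succ' (Mw ϖ) (j + 2)).symm.trans (congrArg (fun n => Mw ϖ ^ n) (by omega))
      rw [e]; exact le_sup_right
    calc Mw ϖ ^ (j + 1 + 1) = Mw ϖ * Mw ϖ ^ (j + 1) := pow_succ' _ _
      _ ≤ Mw ϖ * (Ideal.span {(X 1 : PS R) ^ (j + 1), (X 0 : PS R) * X 1 ^ j} ⊔
            Iw ϖ v u₁ u₆ ⊔ Mw ϖ ^ (j + 2)) := Ideal.mul_mono_right ih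
      _ = Mw ϖ * Ideal.span {(X 1 : PS R) ^ (j + 1), (X 0 : PS R) * X 1 ^ j} ⊔
            Mw ϖ * Iw ϖ v u₁ u₆ ⊔ Mw ϖ * Mw ϖ ^ (j + 2) := by rw [Ideal.mul_sup, Ideal.mul_sup]
      _ ≤ T := sup_le (sup_le h1 h2) h3'

lemma Mw_le_jacobson [IsDomain R] [IsDiscreteValuationRing R] (hϖ : Irreducible ϖ) :
    Mw ϖ ≤ (⊥ : Ideal (PS R)).jacobson := by
  rw [IsLocalRing.jacobson_eq_maximalIdeal ⊥ bot_ne_top]
  refine Ideal.span_le.mpr ?_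
  rintro z (rfl | rfl | rfl)
  · rw [SetLike.mem_coe, IsLocalRing.mem_maximalIdeal, mem_nonunits_iff,
      MvPowerSeries.isUnit_iff_constantCoeff]
    have : constantCoeff (algebraMap R (PS R) ϖ) = ϖ := by
      simp [MvPowerSeries.algebraMap_apply]
    rw [this]
    exact hϖ.not_isUnit
  · rw [SetLike.mem_coe, IsLocalRing.mem_maximalIdeal, mem_nonunits_iff,
      MvPowerSeries.isUnit_iff_constantCoeff, constantCoeff_X]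
    exact not_isUnit_zero
  · rw [SetLike.mem_coe, IsLocalRing.mem_maximalIdeal, mem_nonunits_iff,
      MvPowerSeries.isUnit_iff_constantCoeff, constantCoeff_X]
    exact not_isUnit_zero

lemma pow_le_span [IsDomain R] [IsDiscreteValuationRing R] (hϖ : Irreducible ϖ)
    (hv : 1 ≤ v) (h3 : IsUnit (3 : R)) (j : ℕ) :
    Mw ϖ ^ (j + 1) ≤ Ideal.span {(X 1 : PS R) ^ (j + 1), (X 0 : PS R) * X 1 ^ j} ⊔
      Iw ϖ v u₁ u₆ := by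
  apply Submodule.le_of_le_smul_of_le_jacobson_bot (I := Mw ϖ)
  · exact Ideal.FG.pow (Submodule.fg_span (Set.toFinite _))
  · exact Mw_le_jacobson ϖ hϖ
  · have h := pow_le_step ϖ v u₁ u₆ hv h3 j
    have e : Mw ϖ • Mw ϖ ^ (j + 1) = Mw ϖ ^ (j + 2) :=
      (Ideal.smul_eq_mul _ _).trans ((pow_succ' (Mw ϖ) (j + 1)).symm)
    rw [e]
    exact h

end Gen

section Model

/-- the truncated base ring -/
abbrev Rbar := R ⧸ Ideal.span {ϖ ^ (v + 1)}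

/-- dual numbers over it -/
abbrev Dn := DualNumber (Rbar ϖ v)

/-- `u₆ ϖ` in the dual numbers -/
def cD : Dn ϖ v := TrivSqZeroExt.inl (Ideal.Quotient.mk _ ((u₆ : R) * ϖ))

@[simp] lemma fst_cD : (cD ϖ v u₆).fst = Ideal.Quotient.mk _ ((u₆ : R) * ϖ) := rfl
@[simp] lemma snd_cD : (cD ϖ v u₆).snd = 0 := rfl

/-- the model ring -/
abbrev Tm := QuadraticAlgebra (Dn ϖ v) (cD ϖ v u₆) 0

/-- image of `x` -/
def xb : Tm ϖ v u₆ := ⟨TrivSqZeroExt.inr 1, 0⟩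

/-- image of `y` -/
def yb : Tm ϖ v u₆ := ⟨0, 1⟩

@[simp] lemma re_xb : (xb ϖ v u₆).re = TrivSqZeroExt.inr 1 := rfl
@[simp] lemma im_xb : (xb ϖ v u₆).im = 0 := rfl
@[simp] lemma re_yb : (yb ϖ v u₆).re = 0 := rfl
@[simp] lemma im_yb : (yb ϖ v u₆).im = 1 := rfl

@[simp] lemma re_algMap (r : R) :
    (algebraMap R (Tm ϖ v u₆) r).re = TrivSqZeroExt.inl (Ideal.Quotient.mk _ r) := rfl
@[simp] lemma im_algMap (r : R) : (algebraMap R (Tm ϖ v u₆) r).im = 0 := rfl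

lemma xb_sq : xb ϖ v u₆ * xb ϖ v u₆ = 0 := by
  ext <;> simp

lemma yb_sq : yb ϖ v u₆ * yb ϖ v u₆ = algebraMap R (Tm ϖ v u₆) ((u₆ : R) * ϖ) := by
  ext <;> simp

lemma algMap_eq_zero {r : R} (hr : ϖ ^ (v + 1) ∣ r) : algebraMap R (Tm ϖ v u₆) r = 0 := by
  have : (Ideal.Quotient.mk (Ideal.span {ϖ ^ (v + 1)}) r) = 0 :=
    Ideal.Quotient.eq_zero_iff_mem.mpr (Ideal.mem_span_singleton.mpr hr)
  ext <;> simp [this]

lemma yb_pow_even (n : ℕ) :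
    yb ϖ v u₆ ^ (2 * n) = algebraMap R (Tm ϖ v u₆) (((u₆ : R) * ϖ) ^ n) := by
  rw [pow_mul, sq, yb_sq, map_pow]

lemma yb_pow_odd (n : ℕ) :
    yb ϖ v u₆ ^ (2 * n + 1) = algebraMap R (Tm ϖ v u₆) (((u₆ : R) * ϖ) ^ n) * yb ϖ v u₆ := by
  rw [pow_succ, yb_pow_even]

lemma nilp : ∀ s : Fin 2, IsNilpotent ((![xb ϖ v u₆, yb ϖ v u₆] : Fin 2 → Tm ϖ v u₆) s) := by
  intro s
  fin_cases s
  · exact ⟨2, by simp [sq, xb_sq]⟩
  · refine ⟨2 * (v + 1), ?_⟩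
    show yb ϖ v u₆ ^ (2 * (v + 1)) = 0
    rw [yb_pow_even]
    exact algMap_eq_zero ϖ v u₆ ⟨(u₆ : R) ^ (v + 1), by rw [mul_pow]; ring⟩

/-- the evaluation map to the model ring -/
def Th : PS R →ₐ[R] Tm ϖ v u₆ := Groth.Agent.Lib.PSEvalH1.evalNil _ (nilp ϖ v u₆)

lemma Th_X0 : Th ϖ v u₆ (X 0) = xb ϖ v u₆ := by
  rw [Th, Groth.Agent.Lib.PSEvalH1.evalNil_X]; rfl

lemma Th_X1 : Th ϖ v u₆ (X 1) = yb ϖ v u₆ := by
  rw [Th, Groth.Agent.Lib.PSEvalH1.evalNil_X]; rfl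

/-- the image of `M^(2v+1) + I` -/
def bI : Ideal (Tm ϖ v u₆) :=
  Ideal.span {algebraMap R (Tm ϖ v u₆) (ϖ ^ v) * xb ϖ v u₆,
    algebraMap R (Tm ϖ v u₆) (ϖ ^ v) * yb ϖ v u₆}

/-- the image of `M` -/
def nI : Ideal (Tm ϖ v u₆) := Ideal.span {xb ϖ v u₆, yb ϖ v u₆}

lemma gx_mem : algebraMap R (Tm ϖ v u₆) (ϖ ^ v) * xb ϖ v u₆ ∈ bI ϖ v u₆ :=
  Ideal.subset_span (Or.inl rfl)

lemma gy_mem : algebraMap R (Tm ϖ v u₆) (ϖ ^ v) * yb ϖ v u₆ ∈ bI ϖ v u₆ :=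
  Ideal.subset_span (Or.inr rfl)

lemma nI_pow_le (n : ℕ) : nI ϖ v u₆ ^ (n + 1) ≤
    Ideal.span {yb ϖ v u₆ ^ (n + 1), xb ϖ v u₆ * yb ϖ v u₆ ^ n} := by
  induction n with
  | zero =>
    simp only [zero_add, pow_one, pow_zero, mul_one]
    rw [nI, Ideal.span_le]
    rintro z (rfl | rfl)
    · exact Ideal.subset_span (Or.inr rfl)
    · exact Ideal.subset_span (Or.inl rfl)
  | succ n ih =>
    rw [pow_succ' (nI ϖ v u₆) (n + 1)]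
    refine (Ideal.mul_mono_right ih).trans ?_
    rw [nI, Ideal.span_mul_span', Ideal.span_le]
    rintro _ ⟨a, ha, b, hb, rfl⟩
    beta_reduce
    rcases ha with rfl | rfl
    · rcases hb with rfl | rfl
      · exact Ideal.subset_span (Or.inr rfl)
      · have e : xb ϖ v u₆ * (xb ϖ v u₆ * yb ϖ v u₆ ^ n) = 0 := by
          rw [← mul_assoc, xb_sq, zero_mul]
        rw [SetLike.mem_coe, e]; exact Ideal.zero_mem _
    · rcases hb with rfl | rfl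
      · have e : yb ϖ v u₆ * yb ϖ v u₆ ^ (n + 1) = yb ϖ v u₆ ^ (n + 1 + 1) :=
          (pow_succ' _ _).symm
        rw [SetLike.mem_coe, e]; exact Ideal.subset_span (Or.inl rfl)
      · have e : yb ϖ v u₆ * (xb ϖ v u₆ * yb ϖ v u₆ ^ n) =
            xb ϖ v u₆ * yb ϖ v u₆ ^ (n + 1) := by ring
        rw [SetLike.mem_coe, e]; exact Ideal.subset_span (Or.inr rfl)

lemma nI_pow_le_bI : nI ϖ v u₆ ^ (2 * v + 1) ≤ bI ϖ v u₆ := by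
  refine (nI_pow_le ϖ v u₆ (2 * v)).trans ?_
  rw [Ideal.span_le]
  rintro z (rfl | rfl)
  · rw [SetLike.mem_coe, yb_pow_odd, mul_pow, map_mul, mul_assoc]
    exact Ideal.mul_mem_left _ _ (gy_mem ϖ v u₆)
  · rw [SetLike.mem_coe, yb_pow_even, mul_pow, map_mul]
    have e : xb ϖ v u₆ * (algebraMap R (Tm ϖ v u₆) ((u₆ : R) ^ v) *
        algebraMap R (Tm ϖ v u₆) (ϖ ^ v)) =
        algebraMap R (Tm ϖ v u₆) ((u₆ : R) ^ v) *
          (algebraMap R (Tm ϖ v u₆) (ϖ ^ v) * xb ϖ v u₆) := by ring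
    rw [e]
    exact Ideal.mul_mem_left _ _ (gx_mem ϖ v u₆)

lemma Mw_le_comap : Mw ϖ ≤ Ideal.comap (Th ϖ v u₆) (nI ϖ v u₆) := by
  refine Ideal.span_le.mpr ?_
  rintro z (rfl | rfl | rfl)
  · rw [SetLike.mem_coe, Ideal.mem_comap, AlgHom.commutes]
    have e : algebraMap R (Tm ϖ v u₆) ϖ =
        algebraMap R (Tm ϖ v u₆) (↑u₆⁻¹ : R) * yb ϖ v u₆ * yb ϖ v u₆ := by
      rw [mul_assoc, yb_sq, ← map_mul, ← mul_assoc, Units.inv_mul, one_mul]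
    rw [e]
    exact Ideal.mul_mem_left _ _ (Ideal.subset_span (Or.inr rfl))
  · rw [SetLike.mem_coe, Ideal.mem_comap, Th_X0]; exact Ideal.subset_span (Or.inl rfl)
  · rw [SetLike.mem_coe, Ideal.mem_comap, Th_X1]; exact Ideal.subset_span (Or.inr rfl)

lemma Th_Fw : Th ϖ v u₆ (Fw ϖ v u₁ u₆) ∈ bI ϖ v u₆ := by
  have e : Th ϖ v u₆ (Fw ϖ v u₁ u₆) =
      (algebraMap R (Tm ϖ v u₆) (u₁ : R) * yb ϖ v u₆) *
        (algebraMap R (Tm ϖ v u₆) (ϖ ^ v) * xb ϖ v u₆) := by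
    rw [Fw, Algebra.smul_def]
    simp only [map_sub, map_add, map_pow, map_mul, AlgHom.commutes, Th_X0, Th_X1]
    have h1 : yb ϖ v u₆ ^ 2 =
        algebraMap R (Tm ϖ v u₆) (u₆ : R) * algebraMap R (Tm ϖ v u₆) ϖ := by
      rw [sq, yb_sq, map_mul]
    have h2 : xb ϖ v u₆ ^ 3 = 0 := by
      have e3 : xb ϖ v u₆ ^ 3 = xb ϖ v u₆ * xb ϖ v u₆ * xb ϖ v u₆ := by ring
      rw [e3, xb_sq, zero_mul]
    rw [h1, h2]
    ring
  rw [e]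
  exact Ideal.mul_mem_left _ _ (gx_mem ϖ v u₆)

lemma Th_Gw (e : R) (he : (2 : R) = ϖ ^ v * e) : Th ϖ v u₆ (Gw ϖ v u₁) ∈ bI ϖ v u₆ := by
  have e1 : Th ϖ v u₆ (Gw ϖ v u₁) =
      algebraMap R (Tm ϖ v u₆) e * (algebraMap R (Tm ϖ v u₆) (ϖ ^ v) * yb ϖ v u₆) +
      algebraMap R (Tm ϖ v u₆) (u₁ : R) * (algebraMap R (Tm ϖ v u₆) (ϖ ^ v) * xb ϖ v u₆) := by
    rw [Gw, Algebra.smul_def]
    simp only [map_add, map_mul, AlgHom.commutes, Th_X0, Th_X1, map_ofNat]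
    have h2 : (2 : Tm ϖ v u₆) =
        algebraMap R (Tm ϖ v u₆) (ϖ ^ v) * algebraMap R (Tm ϖ v u₆) e := by
      rw [← map_mul, ← he, map_ofNat]
    rw [h2]
    ring
  rw [e1]
  exact Ideal.add_mem _ (Ideal.mul_mem_left _ _ (gy_mem ϖ v u₆))
    (Ideal.mul_mem_left _ _ (gx_mem ϖ v u₆))

lemma Th_Hw : Th ϖ v u₆ (Hw ϖ v u₁) ∈ bI ϖ v u₆ := by
  have e1 : Th ϖ v u₆ (Hw ϖ v u₁) =
      -(algebraMap R (Tm ϖ v u₆) (u₁ : R) *
        (algebraMap R (Tm ϖ v u₆) (ϖ ^ v) * yb ϖ v u₆)) := by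
    rw [Hw, Algebra.smul_def]
    simp only [map_sub, map_mul, map_pow, AlgHom.commutes, Th_X0, Th_X1, map_ofNat]
    rw [sq, xb_sq]
    ring
  rw [e1]
  exact Submodule.neg_mem _ (Ideal.mul_mem_left _ _ (gy_mem ϖ v u₆))

lemma Iw_le_comap (e : R) (he : (2 : R) = ϖ ^ v * e) :
    Iw ϖ v u₁ u₆ ≤ Ideal.comap (Th ϖ v u₆) (bI ϖ v u₆) := by
  refine Ideal.span_le.mpr ?_
  rintro z (rfl | rfl | rfl)
  · exact Th_Fw ϖ v u₁ u₆
  · exact Th_Gw ϖ v u₁ u₆ e he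
  · exact Th_Hw ϖ v u₁ u₆

lemma sup_le_comap (e : R) (he : (2 : R) = ϖ ^ v * e) :
    Mw ϖ ^ (2 * v + 1) ⊔ Iw ϖ v u₁ u₆ ≤ Ideal.comap (Th ϖ v u₆) (bI ϖ v u₆) := by
  refine sup_le ?_ (Iw_le_comap ϖ v u₁ u₆ e he)
  calc Mw ϖ ^ (2 * v + 1) ≤ (Ideal.comap (Th ϖ v u₆) (nI ϖ v u₆)) ^ (2 * v + 1) :=
        Ideal.pow_right_mono (Mw_le_comap ϖ v u₆) _
    _ ≤ Ideal.comap (Th ϖ v u₆) (nI ϖ v u₆ ^ (2 * v + 1)) := Ideal.le_comap_pow _ _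
    _ ≤ Ideal.comap (Th ϖ v u₆) (bI ϖ v u₆) := Ideal.comap_mono (nI_pow_le_bI ϖ v u₆)

lemma mem_span_coords (r : R)
    (hc : (Ideal.Quotient.mk (Ideal.span {ϖ ^ (v + 1)}) (u₆ : R)) *
      Ideal.Quotient.mk (Ideal.span {ϖ ^ (v + 1)}) ϖ *
      Ideal.Quotient.mk (Ideal.span {ϖ ^ (v + 1)}) r = 0)
    {w : Tm ϖ v u₆}
    (hw : w ∈ Ideal.span {algebraMap R (Tm ϖ v u₆) r * xb ϖ v u₆,
      algebraMap R (Tm ϖ v u₆) r * yb ϖ v u₆}) :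
    w.re.fst = 0 ∧ ∃ s : Rbar ϖ v, w.im.snd = Ideal.Quotient.mk _ r * s := by
  rw [Ideal.mem_span_pair] at hw
  obtain ⟨t₁, t₂, rfl⟩ := hw
  constructor
  · simp
    linear_combination (TrivSqZeroExt.fst t₂.im) * hc
  · refine ⟨t₁.im.fst + t₂.re.snd, ?_⟩
    simp
    ring

lemma mem_bI_coords {w : Tm ϖ v u₆} (hw : w ∈ bI ϖ v u₆) :
    w.re.fst = 0 ∧ ∃ s : Rbar ϖ v, w.im.snd = Ideal.Quotient.mk _ (ϖ ^ v) * s := by
  apply mem_span_coords ϖ v u₆ (ϖ ^ v) _ hw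
  rw [← map_mul, ← map_mul]
  exact Ideal.Quotient.eq_zero_iff_mem.mpr (Ideal.mem_span_singleton.mpr ⟨(u₆ : R), by ring⟩)

lemma elt (a b q q' : R) :
    (algebraMap R (Tm ϖ v u₆) a * algebraMap R (Tm ϖ v u₆) q +
      algebraMap R (Tm ϖ v u₆) b *
        (xb ϖ v u₆ * (algebraMap R (Tm ϖ v u₆) q' * yb ϖ v u₆)) : Tm ϖ v u₆) =
      ⟨TrivSqZeroExt.inl (Ideal.Quotient.mk _ (a * q)),
       TrivSqZeroExt.inr (Ideal.Quotient.mk _ (b * q'))⟩ := by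
  ext <;> simp

lemma Th_elt (m : ℕ) (a b : R) :
    Th ϖ (m + 1) u₆ (a • (X 1 : PS R) ^ (2 * (m + 1)) +
      b • ((X 0 : PS R) * X 1 ^ (2 * (m + 1) - 1))) =
      ⟨TrivSqZeroExt.inl (Ideal.Quotient.mk _ (a * ((u₆ : R) * ϖ) ^ (m + 1))),
       TrivSqZeroExt.inr (Ideal.Quotient.mk _ (b * ((u₆ : R) * ϖ) ^ m))⟩ := by
  have h21 : 2 * (m + 1) - 1 = 2 * m + 1 := by omega
  rw [h21, Algebra.smul_def, Algebra.smul_def]
  conv_lhs => simp only [map_add, map_mul, map_pow, AlgHom.commutes, Th_X0, Th_X1]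
  rw [yb_pow_even, yb_pow_odd]
  exact elt ϖ (m + 1) u₆ a b _ _

lemma final [IsDomain R] (hϖ : ϖ ≠ 0) (m : ℕ) (a b : R)
    (hz : Th ϖ (m + 1) u₆ (a • (X 1 : PS R) ^ (2 * (m + 1)) +
      b • ((X 0 : PS R) * X 1 ^ (2 * (m + 1) - 1))) ∈ bI ϖ (m + 1) u₆) :
    ϖ ∣ a ∧ ϖ ∣ b := by
  obtain ⟨h1, s', h2⟩ := mem_bI_coords ϖ (m + 1) u₆ hz
  rw [Th_elt] at h1 h2
  obtain ⟨s, rfl⟩ := Ideal.Quotient.mk_surjective s'
  constructor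
  · have h1' : Ideal.Quotient.mk (Ideal.span {ϖ ^ (m + 1 + 1)})
        (a * ((u₆ : R) * ϖ) ^ (m + 1)) = 0 := h1
    rw [Ideal.Quotient.eq_zero_iff_mem, Ideal.mem_span_singleton] at h1'
    obtain ⟨q, hq⟩ := h1'
    have h3 : ϖ ^ (m + 1) * (a * (u₆ : R) ^ (m + 1)) = ϖ ^ (m + 1) * (ϖ * q) := by
      rw [mul_pow] at hq
      linear_combination hq
    have h4 := mul_left_cancel₀ (pow_ne_zero (m + 1) hϖ) h3
    exact (IsUnit.dvd_mul_right (u₆.isUnit.pow (m + 1))).mp ⟨q, h4⟩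
  · have h2' : Ideal.Quotient.mk (Ideal.span {ϖ ^ (m + 1 + 1)})
        (b * ((u₆ : R) * ϖ) ^ m) =
        Ideal.Quotient.mk (Ideal.span {ϖ ^ (m + 1 + 1)}) (ϖ ^ (m + 1)) *
          Ideal.Quotient.mk (Ideal.span {ϖ ^ (m + 1 + 1)}) s := h2
    rw [← map_mul, Ideal.Quotient.eq, Ideal.mem_span_singleton] at h2'
    obtain ⟨q, hq⟩ := h2'
    have h3 : ϖ ^ m * (b * (u₆ : R) ^ m) = ϖ ^ m * (ϖ * (s + ϖ * q)) := by
      rw [mul_pow] at hq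
      linear_combination hq
    have h4 := mul_left_cancel₀ (pow_ne_zero m hϖ) h3
    exact (IsUnit.dvd_mul_right (u₆.isUnit.pow m)).mp ⟨_, h4⟩

end Model

theorem main14909 (R : Type u) [CommRing R] [IsDomain R] [IsDiscreteValuationRing R]
    (ϖ a₁ a₆ : R) (hϖ : Irreducible ϖ) (v : ℕ) (hv : 1 ≤ v) (u₁ u₆ : Rˣ)
    (ha₁ : a₁ = u₁ * ϖ ^ v) (ha₆ : a₆ = u₆ * ϖ)
    (h2 : (2 : R) ∈ IsLocalRing.maximalIdeal R ^ v)
    (x y : MvPowerSeries (Fin 2) R) (hx : x = MvPowerSeries.X 0) (hy : y = MvPowerSeries.X 1)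
    (I M : Ideal (MvPowerSeries (Fin 2) R))
    (hI : I = Ideal.span {y ^ 2 + a₁ • (x * y) - x ^ 3 -
      algebraMap R (MvPowerSeries (Fin 2) R) a₆, 2 * y + a₁ • x, 3 * x ^ 2 - a₁ • y})
    (hM : M = Ideal.span {algebraMap R (MvPowerSeries (Fin 2) R) ϖ, x, y}) :
    M ^ (2 * v) ⊔ I = Ideal.span {y ^ (2 * v), x * y ^ (2 * v - 1)} ⊔ I ∧
      ∀ a b : R, a • y ^ (2 * v) + b • (x * y ^ (2 * v - 1)) ∈ M ^ (2 * v + 1) ⊔ I →
        a ∈ IsLocalRing.maximalIdeal R ∧ b ∈ IsLocalRing.maximalIdeal R := by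
  subst ha₁ ha₆ hx hy
  have hI' : I = Iw ϖ v u₁ u₆ := hI
  have hM' : M = Mw ϖ := hM
  subst hI' hM'
  have h3 : IsUnit (3 : R) := three_isUnit v hv h2
  obtain ⟨e, he⟩ : ∃ e, (2 : R) = ϖ ^ v * e := by
    rw [hϖ.maximalIdeal_eq, Ideal.span_singleton_pow, Ideal.mem_span_singleton] at h2
    exact h2
  constructor
  · obtain ⟨j, hj⟩ : ∃ j, 2 * v = j + 1 := ⟨2 * v - 1, by omega⟩
    have hj' : 2 * v - 1 = j := by omega
    rw [hj', hj]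
    apply le_antisymm
    · exact sup_le (pow_le_span ϖ v u₁ u₆ hϖ hv h3 j) le_sup_right
    · refine sup_le (le_sup_of_le_left ?_) le_sup_right
      rw [Ideal.span_le]
      rintro z (rfl | rfl)
      · exact Ideal.pow_mem_pow (X1_mem ϖ) _
      · rw [SetLike.mem_coe, pow_succ']
        exact Ideal.mul_mem_mul (X0_mem ϖ) (Ideal.pow_mem_pow (X1_mem ϖ) _)
  · intro a b hab
    have hz := sup_le_comap ϖ v u₁ u₆ e he hab
    obtain ⟨m, rfl⟩ : ∃ m, v = m + 1 := ⟨v - 1, by omega⟩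
    obtain ⟨ha, hb⟩ := final ϖ u₆ hϖ.ne_zero m a b hz
    rw [hϖ.maximalIdeal_eq, Ideal.mem_span_singleton, Ideal.mem_span_singleton]
    exact ⟨ha, hb⟩

end

end Groth.Agent.Lib.NeronW2H1
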