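import Mathlib

/-!
# Neighbourhood of a fibre contained in a closed subscheme, from infinitesimal data (helper1)
-/

set_option autoImplicit false
universe u

namespace Groth.Agent.Lib.NhdFibreH1

open CategoryTheory CategoryTheory.Limits AlgebraicGeometry IsLocalRing

variable {X : Scheme.{u}}

lemma exists_open_res_eq_zero (V : X.Opens) (x : X) (hx : x ∈ V) (G : Finset Γ(X, V))
    (h0 : ∀ a ∈ G, X.presheaf.germ V x hx a = 0) :
    ∃ (W : X.Opens) (hle : W ≤ V), x ∈ W ∧ ∀ a ∈ G, X.presheaf.map (homOfLE hle).op a = 0 := by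
  classical
  induction G using Finset.induction_on with
  | empty => exact ⟨V, le_rfl, hx, fun a ha => by simp at ha⟩
  | insert a G _ ih =>
    obtain ⟨W₁, hle₁, hx₁, h₁⟩ := ih (fun b hb => h0 b (Finset.mem_insert_of_mem hb))
    obtain ⟨W₂, hx₂, iU, iV, e⟩ := X.presheaf.germ_eq x hx hx a 0
      (by rw [h0 a (Finset.mem_insert_self a G), map_zero])
    refine ⟨W₁ ⊓ W₂, inf_le_left.trans hle₁, ⟨hx₁, hx₂⟩, fun b hb => ?_⟩
    rcases Finset.mem_insert.mp hb with rfl | hb
    · have : (homOfLE (inf_le_left.trans hle₁ : W₁ ⊓ W₂ ≤ V)) =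
          homOfLE (inf_le_right : W₁ ⊓ W₂ ≤ W₂) ≫ iU := Subsingleton.elim _ _
      rw [this, op_comp, X.presheaf.map_comp, CommRingCat.comp_apply, e, map_zero, map_zero]
    · have : (homOfLE (inf_le_left.trans hle₁ : W₁ ⊓ W₂ ≤ V)) =
          homOfLE (inf_le_left : W₁ ⊓ W₂ ≤ W₁) ≫ homOfLE hle₁ := Subsingleton.elim _ _
      rw [this, op_comp, X.presheaf.map_comp, CommRingCat.comp_apply, h₁ b hb, map_zero]

theorem exists_basicOpen_ideal_eq_bot [IsLocallyNoetherian X] (I : X.IdealSheafData)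
    (V : X.affineOpens) (x : X) (hx : x ∈ V.1)
    (h0 : ∀ s ∈ I.ideal V, X.presheaf.germ V.1 x hx s = 0) :
    ∃ f : Γ(X, V.1), x ∈ X.basicOpen f ∧ I.ideal (X.affineBasicOpen f) = ⊥ := by
  haveI : IsNoetherianRing Γ(X, V.1) := IsLocallyNoetherian.component_noetherian V
  obtain ⟨G, hG⟩ := (IsNoetherian.noetherian (I.ideal V) : (I.ideal V).FG)
  obtain ⟨W, hle, hxW, hW⟩ := exists_open_res_eq_zero V.1 x hx G
    (fun a ha => h0 a (hG ▸ Submodule.subset_span ha))
  obtain ⟨f, hfW, hxf⟩ := V.2.exists_basicOpen_le ⟨x, hxW⟩ hx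
  refine ⟨f, hxf, ?_⟩
  rw [← I.map_ideal_basicOpen V f, ← hG]
  show Ideal.map _ (Ideal.span (G : Set Γ(X, V.1))) = ⊥
  rw [Ideal.map_span, Ideal.span_eq_bot]
  rintro _ ⟨a, ha, rfl⟩
  have : homOfLE (X.basicOpen_le f) = homOfLE hfW ≫ homOfLE hle := Subsingleton.elim _ _
  show (X.presheaf.map (homOfLE (X.basicOpen_le f)).op).hom a = 0
  rw [this, op_comp, X.presheaf.map_comp, CommRingCat.hom_comp, RingHom.comp_apply]
  have h1 : (X.presheaf.map (homOfLE hle).op).hom a = 0 := hW a ha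
  rw [h1, map_zero]

set_option backward.isDefEq.respectTransparency.types false in
theorem germ_eq_zero_of_factors [IsLocallyNoetherian X] (I : X.IdealSheafData) (x : X)
    (hfac : ∀ n : ℕ, ∃ g' : Spec (CommRingCat.of (X.presheaf.stalk x ⧸
        maximalIdeal (X.presheaf.stalk x) ^ (n + 1))) ⟶ I.subscheme,
      g' ≫ I.subschemeι = Spec.map (CommRingCat.ofHom (Ideal.Quotient.mk
        (maximalIdeal (X.presheaf.stalk x) ^ (n + 1)))) ≫ X.fromSpecStalk x)
    (V : X.affineOpens) (hx : x ∈ V.1) (s : Γ(X, V.1)) (hs : s ∈ I.ideal V) :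
    X.presheaf.germ V.1 x hx s = 0 := by
  have key : ∀ n : ℕ, X.presheaf.germ V.1 x hx s ∈ maximalIdeal (X.presheaf.stalk x) ^ (n + 1) := by
    intro n
    obtain ⟨g', hg'⟩ := hfac n
    have hne : maximalIdeal (X.presheaf.stalk x) ^ (n + 1) ≠ ⊤ := by
      intro htop
      have h1 : maximalIdeal (X.presheaf.stalk x) ^ (n + 1) ≤ maximalIdeal (X.presheaf.stalk x) :=
        Ideal.pow_le_self (Nat.succ_ne_zero n)
      rw [htop] at h1
      exact (maximalIdeal.isMaximal _).ne_top (top_le_iff.mp h1)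
    haveI : Nontrivial (X.presheaf.stalk x ⧸ maximalIdeal (X.presheaf.stalk x) ^ (n + 1)) :=
      Ideal.Quotient.nontrivial_iff.mpr hne
    haveI : IsLocalRing (X.presheaf.stalk x ⧸ maximalIdeal (X.presheaf.stalk x) ^ (n + 1)) :=
      IsLocalRing.of_surjective' (Ideal.Quotient.mk _) Ideal.Quotient.mk_surjective
    haveI hql : IsLocalHom (Ideal.Quotient.mk (maximalIdeal (X.presheaf.stalk x) ^ (n + 1))) :=
      IsLocalHom.of_surjective _ Ideal.Quotient.mk_surjective
    haveI : IsLocalHom (CommRingCat.ofHom (Ideal.Quotient.mk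
        (maximalIdeal (X.presheaf.stalk x) ^ (n + 1)))).hom := hql
    set q := CommRingCat.ofHom (Ideal.Quotient.mk
        (maximalIdeal (X.presheaf.stalk x) ^ (n + 1))) with hq
    have hI : I ≤ (Spec.map q ≫ X.fromSpecStalk x).ker := by
      rw [← hg']
      calc I = I.subschemeι.ker := I.ker_subschemeι.symm
        _ ≤ _ := Scheme.Hom.le_ker_comp g' I.subschemeι
    have h1 : ((Spec.map q ≫ X.fromSpecStalk x).app V.1).hom s = 0 :=
      RingHom.mem_ker.mp ((Spec.map q ≫ X.fromSpecStalk x).ideal_ker_le V (hI V hs))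
    have e0 : (Spec.map q) (closedPoint (X.presheaf.stalk x ⧸
        maximalIdeal (X.presheaf.stalk x) ^ (n + 1))) = closedPoint (X.presheaf.stalk x) :=
      Spec_closedPoint (f := q)
    have hpt : (Spec.map q ≫ X.fromSpecStalk x) (closedPoint (X.presheaf.stalk x ⧸
        maximalIdeal (X.presheaf.stalk x) ^ (n + 1))) = x :=
      (congrArg (fun y => (X.fromSpecStalk x) y) e0).trans Scheme.fromSpecStalk_closedPoint
    have hV' : (Spec.map q ≫ X.fromSpecStalk x) (closedPoint (X.presheaf.stalk x ⧸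
        maximalIdeal (X.presheaf.stalk x) ^ (n + 1))) ∈ V.1 := hpt.symm ▸ hx
    have e1 := Scheme.germ_stalkClosedPointTo_Spec_fromSpecStalk q V.1 hV'
    have e2 := Scheme.germ_stalkClosedPointTo (Spec.map q ≫ X.fromSpecStalk x) V.1 hV'
    have e3 := e1.symm.trans e2
    have e4 := congrArg (fun φ => φ.hom s) e3
    simp only [CommRingCat.hom_comp, RingHom.comp_apply] at e4
    rw [h1, map_zero] at e4
    exact Ideal.Quotient.eq_zero_iff_mem.mp e4
  have hK := Ideal.iInf_pow_eq_bot_of_isLocalRing (maximalIdeal (X.presheaf.stalk x))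
    Ideal.IsPrime.ne_top'
  have hmem : X.presheaf.germ V.1 x hx s ∈ ⨅ i, maximalIdeal (X.presheaf.stalk x) ^ i := by
    rw [Ideal.mem_iInf]
    intro i
    cases i with
    | zero => simp
    | succ n => exact key n
  rw [hK] at hmem
  exact hmem

theorem factors_of_hyp {S : Scheme.{u}} (p : X ⟶ S) (x : X) (I : X.IdealSheafData) (n : ℕ)
    (h : ∃ g : pullback p (Spec.map (CommRingCat.ofHom (Ideal.Quotient.mk
        (maximalIdeal ↑(S.presheaf.stalk (p.base x)) ^ (n + 1)))) ≫ S.fromSpecStalk (p.base x)) ⟶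
        I.subscheme, g ≫ I.subschemeι = pullback.fst p _) :
    ∃ g' : Spec (CommRingCat.of (X.presheaf.stalk x ⧸
        maximalIdeal (X.presheaf.stalk x) ^ (n + 1))) ⟶ I.subscheme,
      g' ≫ I.subschemeι = Spec.map (CommRingCat.ofHom (Ideal.Quotient.mk
        (maximalIdeal (X.presheaf.stalk x) ^ (n + 1)))) ≫ X.fromSpecStalk x := by
  obtain ⟨g, hg⟩ := h
  have hloc : maximalIdeal (S.presheaf.stalk (p.base x)) ≤
      (maximalIdeal (X.presheaf.stalk x)).comap (p.stalkMap x).hom :=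
    ((local_hom_TFAE (p.stalkMap x).hom).out 0 3 rfl rfl).mp
      (inferInstance : IsLocalHom (p.stalkMap x).hom)
  have hle : maximalIdeal (S.presheaf.stalk (p.base x)) ^ (n + 1) ≤
      (maximalIdeal (X.presheaf.stalk x) ^ (n + 1)).comap (p.stalkMap x).hom :=
    (Ideal.pow_right_mono hloc (n + 1)).trans (Ideal.le_comap_pow _ (n + 1))
  have hsq : p.stalkMap x ≫ CommRingCat.ofHom (Ideal.Quotient.mk
        (maximalIdeal (X.presheaf.stalk x) ^ (n + 1))) =
      CommRingCat.ofHom (Ideal.Quotient.mk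
        (maximalIdeal (S.presheaf.stalk (p.base x)) ^ (n + 1))) ≫
      CommRingCat.ofHom (Ideal.quotientMap _ (p.stalkMap x).hom hle) := by
    ext r
    rfl
  have hcompat : (Spec.map (CommRingCat.ofHom (Ideal.Quotient.mk
        (maximalIdeal (X.presheaf.stalk x) ^ (n + 1)))) ≫ X.fromSpecStalk x) ≫ p =
      Spec.map (CommRingCat.ofHom (Ideal.quotientMap _ (p.stalkMap x).hom hle)) ≫
        (Spec.map (CommRingCat.ofHom (Ideal.Quotient.mk
          (maximalIdeal ↑(S.presheaf.stalk (p.base x)) ^ (n + 1)))) ≫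
          S.fromSpecStalk (p.base x)) := by
    have hsq' : Spec.map (CommRingCat.ofHom (Ideal.Quotient.mk
          (maximalIdeal (X.presheaf.stalk x) ^ (n + 1)))) ≫ Spec.map (p.stalkMap x) =
        Spec.map (CommRingCat.ofHom (Ideal.quotientMap _ (p.stalkMap x).hom hle)) ≫
          Spec.map (CommRingCat.ofHom (Ideal.Quotient.mk
            (maximalIdeal ↑(S.presheaf.stalk (p.base x)) ^ (n + 1)))) :=
      (Spec.map_comp (p.stalkMap x) (CommRingCat.ofHom (Ideal.Quotient.mk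
          (maximalIdeal (X.presheaf.stalk x) ^ (n + 1))))).symm.trans
        ((congrArg Spec.map hsq).trans (Spec.map_comp _ _))
    calc (Spec.map (CommRingCat.ofHom (Ideal.Quotient.mk
          (maximalIdeal (X.presheaf.stalk x) ^ (n + 1)))) ≫ X.fromSpecStalk x) ≫ p
        = Spec.map (CommRingCat.ofHom (Ideal.Quotient.mk
          (maximalIdeal (X.presheaf.stalk x) ^ (n + 1)))) ≫ (X.fromSpecStalk x ≫ p) :=
          Category.assoc _ _ _
      _ = Spec.map (CommRingCat.ofHom (Ideal.Quotient.mk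
          (maximalIdeal (X.presheaf.stalk x) ^ (n + 1)))) ≫
            (Spec.map (p.stalkMap x) ≫ S.fromSpecStalk (p.base x)) := by
          rw [Scheme.SpecMap_stalkMap_fromSpecStalk]
      _ = (Spec.map (CommRingCat.ofHom (Ideal.Quotient.mk
          (maximalIdeal (X.presheaf.stalk x) ^ (n + 1)))) ≫ Spec.map (p.stalkMap x)) ≫
            S.fromSpecStalk (p.base x) := (Category.assoc _ _ _).symm
      _ = (Spec.map (CommRingCat.ofHom (Ideal.quotientMap _ (p.stalkMap x).hom hle)) ≫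
          Spec.map (CommRingCat.ofHom (Ideal.Quotient.mk
            (maximalIdeal ↑(S.presheaf.stalk (p.base x)) ^ (n + 1))))) ≫
            S.fromSpecStalk (p.base x) :=
          congrArg (fun φ => φ ≫ S.fromSpecStalk (p.base x)) hsq'
      _ = _ := Category.assoc _ _ _
  refine ⟨pullback.lift _ _ hcompat ≫ g, ?_⟩
  rw [Category.assoc, hg, pullback.lift_fst]

theorem main18384 {S : Scheme.{u}} [IsLocallyNoetherian X] (p : X ⟶ S) (t : S)
    (I : X.IdealSheafData)
    (h : ∀ n : ℕ, ∃ g : pullback p (Spec.map (CommRingCat.ofHom (Ideal.Quotient.mk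
        (IsLocalRing.maximalIdeal ↑(S.presheaf.stalk t) ^ (n + 1)))) ≫ S.fromSpecStalk t) ⟶
        I.subscheme, g ≫ I.subschemeι = pullback.fst p _) :
    ∃ U : X.Opens, (∀ x : X, p.base x = t → x ∈ U) ∧
      ∃ g : (U : Scheme.{u}) ⟶ I.subscheme, g ≫ I.subschemeι = U.ι := by
  let U : X.Opens := ⨆ W : {W : X.affineOpens // I.ideal W = ⊥}, (W.1 : X.affineOpens).1
  refine ⟨U, ?_, ?_⟩
  · intro x hx
    subst hx
    obtain ⟨V, hV, hxV, -⟩ := exists_isAffineOpen_mem_and_subset (x := x) (U := ⊤) trivial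
    have h0 : ∀ s ∈ I.ideal ⟨V, hV⟩, X.presheaf.germ V x hxV s = 0 := fun s hs =>
      germ_eq_zero_of_factors I x (fun n => factors_of_hyp p x I n (h n)) ⟨V, hV⟩ hxV s hs
    obtain ⟨f, hxf, hf⟩ := exists_basicOpen_ideal_eq_bot I ⟨V, hV⟩ x hxV h0
    exact TopologicalSpace.Opens.mem_iSup.mpr ⟨⟨X.affineBasicOpen f, hf⟩, hxf⟩
  · have hker : I.subschemeι.ker ≤ U.ι.ker := by
      rw [I.ker_subschemeι]
      refine Scheme.IdealSheafData.le_ofIdeals_iff.mpr fun V s hs => ?_
      rw [RingHom.mem_ker, Scheme.Opens.ι_app]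
      refine X.sheaf.eq_of_locally_eq'
        (fun i : {W' : X.affineOpens // W'.1 ≤ U.ι ''ᵁ U.ι ⁻¹ᵁ V.1 ∧ I.ideal W' = ⊥} => i.1.1)
        (U.ι ''ᵁ U.ι ⁻¹ᵁ V.1) (fun i => homOfLE i.2.1) ?_ _ 0 (fun i => ?_)
      · intro y hy
        obtain ⟨z, hz, rfl⟩ := hy
        obtain ⟨W, hzW⟩ := TopologicalSpace.Opens.mem_iSup.mp z.2
        obtain ⟨W', hW', hzW', hW'le⟩ := exists_isAffineOpen_mem_and_subset (x := z.1)
          (U := (U.ι ''ᵁ U.ι ⁻¹ᵁ V.1) ⊓ W.1.1) ⟨⟨z, hz, rfl⟩, hzW⟩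
        have hle1 : W' ≤ U.ι ''ᵁ U.ι ⁻¹ᵁ V.1 := fun a ha => (hW'le ha).1
        have hle2 : (⟨W', hW'⟩ : X.affineOpens) ≤ W.1 := fun a ha => (hW'le ha).2
        have hbot : I.ideal ⟨W', hW'⟩ = ⊥ := by
          rw [← I.map_ideal hle2, W.2, Ideal.map_bot]
        exact TopologicalSpace.Opens.mem_iSup.mpr ⟨⟨⟨W', hW'⟩, hle1, hbot⟩, hzW'⟩
      · have hle3 : i.1 ≤ V := by
          show i.1.1 ≤ V.1
          intro a ha
          obtain ⟨z, hz, rfl⟩ := i.2.1 ha
          exact hz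
        have h1 := I.ideal_le_comap_ideal hle3 hs
        rw [Ideal.mem_comap, i.2.2, Ideal.mem_bot] at h1
        change (X.presheaf.map (homOfLE i.2.1).op).hom
          ((X.presheaf.map (homOfLE _).op).hom s) = (X.presheaf.map (homOfLE i.2.1).op).hom 0
        rw [map_zero, ← h1, ← RingHom.comp_apply, ← CommRingCat.hom_comp, ← X.presheaf.map_comp]
        rfl
    exact ⟨IsClosedImmersion.lift I.subschemeι U.ι hker, IsClosedImmersion.lift_fac _ _ _⟩

end Groth.Agent.Lib.NhdFibreH1
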