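import Groth.Agent.Lib.Nil4_helper8

/-!
# Finite / proper morphisms across thickenings with locally nilpotent ideals (helper8)
-/

set_option autoImplicit false
universe u

open AlgebraicGeometry CategoryTheory CategoryTheory.Limits
open Groth.Agent.Lib.NilThick_helper6

namespace NilH8

variable {X X' Y Y' : Scheme.{u}} (iX : X ⟶ X') (iY : Y ⟶ Y') (f : X ⟶ Y) (f' : X' ⟶ Y')

theorem locallyOfFiniteType_of_thickening_of_nil (hY : MoreMor.IsThickening iY)
    (hc : IsPullback iX f f' iY)
    (hnil : ∀ U : Y'.affineOpens, IsNilpotent (RingHom.ker (iY.app U.1).hom))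
    [LocallyOfFiniteType f] : LocallyOfFiniteType f' := by
  haveI := hY.1
  refine of_isPullback_affineHom (P := @LocallyOfFiniteType) iX iY f f' hc ?_ inferInstance
  intro U' V' e B b ψ po hb
  exact finiteType_of_pushout_nilpotent (iY.app U'.1).hom (iY.app_surjective U'.1 U'.2) (hnil U')
    _ b.hom ψ.hom po hb

theorem isNilpotent_ker_app_of_isLocallyNoetherian [Surjective iY] [IsLocallyNoetherian Y']
    (U : Y'.affineOpens) : IsNilpotent (RingHom.ker (iY.app U.1).hom) := by
  haveI : IsNoetherianRing Γ(Y', U.1) := IsLocallyNoetherian.component_noetherian U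
  exact isNilpotent_of_le (ker_app_le_nilradical iY U) (IsNoetherianRing.isNilpotent_nilradical _)

theorem isProper_of_thickenings (hY : MoreMor.IsThickening iY) (hc : IsPullback iX f f' iY)
    [LocallyOfFiniteType f'] [IsProper f] : IsProper f' := by
  haveI := hY.1
  haveI := hY.2
  haveI : IsClosedImmersion iX :=
    MorphismProperty.of_isPullback (P := @IsClosedImmersion) hc.flip inferInstance
  haveI : Surjective iX := MorphismProperty.of_isPullback (P := @Surjective) hc.flip inferInstance
  have hX : MoreMor.IsThickening iX := ⟨inferInstance, inferInstance⟩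
  haveI : QuasiCompact f' :=
    (Groth.Agent.Lib.Thickening_helper7.quasiCompact_iff_of_thickenings iX iY f f' hc.w).1
      inferInstance
  haveI : IsSeparated f' := isSeparated_of_thickenings iX iY f f' hc.w
  haveI : UniversallyClosed f' :=
    (Groth.Agent.S1304.result iX iY f f' hX hY hc.w).1 inferInstance
  exact {}

end NilH8
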