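import Groth.Agent.Lib.Nil5_helper8

/-!
# Smoothness of flat morphisms across thickenings with locally nilpotent ideals (helper8)
-/

set_option autoImplicit false
universe u

open AlgebraicGeometry CategoryTheory CategoryTheory.Limits
open Groth.Agent.Lib.NilThick_helper6

namespace NilH8

/-- Ring-level: a flat finitely presented lift of a smooth map along a nilpotent surjection is
smooth. -/
theorem smooth_of_pushout_nilpotent_of_flat {C D A B : Type u} [CommRing C] [CommRing D]
    [CommRing A] [CommRing B] (π : C →+* D) (hπ : Function.Surjective π)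
    (hnil : IsNilpotent (RingHom.ker π)) (a : C →+* A) (b : D →+* B) (ψ : A →+* B)
    (h : IsPushout (CommRingCat.ofHom π) (CommRingCat.ofHom a) (CommRingCat.ofHom b)
      (CommRingCat.ofHom ψ)) (hflat : a.Flat) (hfp : a.FinitePresentation) (hb : b.Smooth) :
    a.Smooth := by
  rw [RingHom.smooth_def] at hb ⊢
  refine ⟨?_, hfp⟩
  obtain ⟨hψ, hker⟩ := pushout_surjective_ker π hπ a b ψ h
  have hw : ψ.comp a = b.comp π := (congrArg CommRingCat.Hom.hom h.w).symm
  obtain ⟨k, hk⟩ := hnil
  refine Groth.Agent.Lib.FSNilpH3.formallySmooth_of_flat_of_nilpotent k a π ψ b hflat hπ hψ hw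
    hk (le_antisymm hker ?_) hb.1
  rw [Ideal.map_le_iff_le_comap]
  intro x hx
  rw [Ideal.mem_comap, RingHom.mem_ker, ← RingHom.comp_apply, hw, RingHom.comp_apply,
    RingHom.mem_ker.1 hx, map_zero]

variable {X X' Y Y' : Scheme.{u}} (iX : X ⟶ X') (iY : Y ⟶ Y') (f : X ⟶ Y) (f' : X' ⟶ Y')

theorem smooth_of_thickening_of_nil_of_flat (hY : MoreMor.IsThickening iY)
    (hc : IsPullback iX f f' iY)
    (hnil : ∀ U : Y'.affineOpens, IsNilpotent (RingHom.ker (iY.app U.1).hom))
    [Flat f'] [LocallyOfFinitePresentation f'] [Smooth f] : Smooth f' := by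
  haveI := hY.1
  refine of_isPullback_affineHom (P := @Smooth) iX iY f f' hc ?_ inferInstance
  intro U' V' e B b ψ po hb
  exact smooth_of_pushout_nilpotent_of_flat (iY.app U'.1).hom (iY.app_surjective U'.1 U'.2) (hnil U')
    _ b.hom ψ.hom po (HasRingHomProperty.appLE (P := @Flat) f' inferInstance U' V' e)
    (HasRingHomProperty.appLE (P := @LocallyOfFinitePresentation) f' inferInstance U' V' e) hb

end NilH8
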