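import Mathlib

/-!
# Closed immersions can be checked after a bijective closed immersion of the base
-/

universe u

open CategoryTheory CategoryTheory.Limits AlgebraicGeometry

namespace Groth.Agent.Lib.NilClosedImm

section ring

/-- Nakayama for finite type algebras and nil ideals. -/
theorem surjective_of_nil (A B : Type*) [CommRing A] [CommRing B] [Algebra A B]
    [Algebra.FiniteType A B] (I : Ideal A) (hI : I ≤ nilradical A)
    (h : ∀ b : B, ∃ a : A, b - algebraMap A B a ∈ I.map (algebraMap A B)) :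
    Function.Surjective (algebraMap A B) := by
  classical
  have hmap : I.map (algebraMap A B) ≤ nilradical B := by
    rw [Ideal.map_le_iff_le_comap]
    intro a ha
    have : IsNilpotent a := hI ha
    exact this.map (algebraMap A B)
  have hint : ∀ b : B, IsIntegral A b := by
    intro b
    obtain ⟨a, ha⟩ := h b
    have hn : IsNilpotent (b - algebraMap A B a) := hmap ha
    have h1 : IsIntegral A (b - algebraMap A B a) := by
      obtain ⟨n, hn⟩ := hn
      exact ⟨Polynomial.X ^ n, Polynomial.monic_X_pow n, by simp [hn]⟩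
    have h2 : IsIntegral A (algebraMap A B a) := isIntegral_algebraMap
    have := h1.add h2
    rwa [sub_add_cancel] at this
  haveI : Algebra.IsIntegral A B := ⟨hint⟩
  haveI : Module.Finite A B := Algebra.IsIntegral.finite
  have hN : (⊤ : Submodule A B) ≤ LinearMap.range (Algebra.linearMap A B) := by
    refine Submodule.le_of_le_smul_of_le_jacobson_bot (I := I) Module.Finite.fg_top ?_ ?_
    · rw [Ideal.jacobson_bot]
      exact hI.trans (nilradical_le_jacobson A)
    · intro b _
      obtain ⟨a, ha⟩ := h b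
      rw [Submodule.mem_sup]
      refine ⟨algebraMap A B a, ⟨a, rfl⟩, b - algebraMap A B a, ?_, by ring⟩
      rw [Ideal.smul_top_eq_map]
      exact ha
  intro b
  obtain ⟨a, ha⟩ := hN (Submodule.mem_top (x := b))
  exact ⟨a, ha⟩

/-- In a pushout square of rings with `ψ` surjective, the kernel of `ι₁` is generated by the
kernel of `ψ`. -/
theorem mem_map_ker_of_isPushout {A B A' B' : CommRingCat.{u}} (φ : A ⟶ B) (ψ : A ⟶ A')
    (ι₁ : B ⟶ B') (ι₂ : A' ⟶ B') (H : IsPushout φ ψ ι₁ ι₂) (hψ : Function.Surjective ψ)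
    (x : B) (hx : ι₁ x = 0) : x ∈ (RingHom.ker ψ.hom).map φ.hom := by
  let J : Ideal B := (RingHom.ker ψ.hom).map φ.hom
  let g : A →+* B ⧸ J := (Ideal.Quotient.mk J).comp φ.hom
  have hg : RingHom.ker ψ.hom ≤ RingHom.ker g := by
    intro a ha
    rw [RingHom.mem_ker]
    show Ideal.Quotient.mk J (φ.hom a) = 0
    rw [Ideal.Quotient.eq_zero_iff_mem]
    exact Ideal.mem_map_of_mem _ ha
  let l : A' →+* B ⧸ J := RingHom.liftOfSurjective ψ.hom hψ ⟨g, hg⟩
  have hl : l.comp ψ.hom = g := RingHom.liftOfRightInverse_comp _ _ _ _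
  let d : B' ⟶ CommRingCat.of (B ⧸ J) :=
    H.desc (CommRingCat.ofHom (Ideal.Quotient.mk J)) (CommRingCat.ofHom l) (by
      ext a
      show Ideal.Quotient.mk J (φ.hom a) = l (ψ.hom a)
      exact (RingHom.congr_fun hl a).symm)
  have hd : ι₁ ≫ d = CommRingCat.ofHom (Ideal.Quotient.mk J) := H.inl_desc _ _ _
  have h1 : d (ι₁ x) = Ideal.Quotient.mk J x := by
    have := congrArg (fun m => m.hom x) hd
    simpa using this
  rw [hx, map_zero] at h1
  exact Ideal.Quotient.eq_zero_iff_mem.mp h1.symm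

end ring

section scheme

variable {X S S' : Scheme.{u}} (f : X ⟶ S) (i : S' ⟶ S)

theorem isClosedEmbedding_of_bijective [IsClosedImmersion i] (hi : Function.Bijective i)
    [IsClosedImmersion (pullback.snd f i)] : Topology.IsClosedEmbedding f := by
  haveI : Surjective i := ⟨hi.2⟩
  have hj : Topology.IsClosedEmbedding (pullback.fst f i) := (pullback.fst f i).isClosedEmbedding
  have hjs : Function.Surjective (pullback.fst f i) := (pullback.fst f i).surjective
  let e : ↥(pullback f i) ≃ₜ ↥X := hj.isEmbedding.toHomeomorphOfSurjective hjs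
  have h2 : Topology.IsClosedEmbedding (pullback.snd f i ≫ i) :=
    (pullback.snd f i ≫ i).isClosedEmbedding
  have h3 : (fun x => f x) = (fun x => (pullback.snd f i ≫ i) x) ∘ e.symm := by
    funext x
    obtain ⟨x', rfl⟩ := hjs x
    show f (pullback.fst f i x') = (pullback.snd f i ≫ i) (e.symm (e x'))
    rw [e.symm_apply_apply, ← Scheme.Hom.comp_apply, pullback.condition]
  show Topology.IsClosedEmbedding (fun x => f x)
  rw [h3]
  exact h2.comp e.symm.isClosedEmbedding

lemma ker_app_le_nilradical [IsClosedImmersion i] (hi : Function.Surjective i) (U : S.Opens)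
    (hU : IsAffineOpen U) : RingHom.ker (i.app U).hom ≤ nilradical Γ(S, U) := by
  intro a ha
  show IsNilpotent a
  rw [Scheme.isNilpotent_iff_basicOpen_eq_bot_of_isCompact hU.isCompact]
  have h1 : i ⁻¹ᵁ S.basicOpen a = ⊥ := by
    rw [Scheme.preimage_basicOpen]
    have : (i.app U) a = 0 := ha
    rw [this]
    exact Scheme.basicOpen_zero _ _
  ext s
  simp only [TopologicalSpace.Opens.coe_bot, Set.mem_empty_iff_false, iff_false]
  intro hs
  obtain ⟨s', rfl⟩ := hi s
  have : s' ∈ i ⁻¹ᵁ S.basicOpen a := hs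
  rw [h1] at this
  exact this

set_option backward.isDefEq.respectTransparency false in
theorem isClosedImmersion_of_bijective [IsClosedImmersion i] (hi : Function.Bijective i)
    [LocallyOfFiniteType f] [IsClosedImmersion (pullback.snd f i)] : IsClosedImmersion f := by
  have hemb := isClosedEmbedding_of_bijective f i hi
  haveI : IsAffineHom f := isAffineHom_of_isInducing f hemb.isInducing hemb.isClosed_range
  rw [isClosedImmersion_iff_isAffineHom]
  refine ⟨inferInstance, fun U hU => ?_⟩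
  have hUT : IsAffineOpen (i ⁻¹ᵁ U) := hU.preimage i
  have hUX : IsAffineOpen (f ⁻¹ᵁ U) := hU.preimage f
  have H := IsPullback.of_hasPullback f i
  have hpo := (isIso_pushoutSection_iff H (US := U) (UT := i ⁻¹ᵁ U) (UX := f ⁻¹ᵁ U) le_rfl le_rfl
    rfl).mp (isIso_pushoutSection_of_isAffineOpen H le_rfl le_rfl rfl hU hUT hUX)
  have hψ : Function.Surjective (i.appLE U (i ⁻¹ᵁ U) le_rfl) := by
    rw [Scheme.Hom.appLE_eq_app]
    exact i.app_surjective U hU
  have hUY : (pullback.fst f i) ⁻¹ᵁ (f ⁻¹ᵁ U) ⊓ (pullback.snd f i) ⁻¹ᵁ (i ⁻¹ᵁ U) =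
      (pullback.snd f i) ⁻¹ᵁ (i ⁻¹ᵁ U) := by
    have : (pullback.fst f i) ⁻¹ᵁ (f ⁻¹ᵁ U) = (pullback.snd f i) ⁻¹ᵁ (i ⁻¹ᵁ U) := by
      rw [← Scheme.Hom.comp_preimage, ← Scheme.Hom.comp_preimage, pullback.condition]
    rw [this, inf_idem]
  have hι₂ : Function.Surjective ((pullback.snd f i).appLE (i ⁻¹ᵁ U)
      ((pullback.fst f i) ⁻¹ᵁ (f ⁻¹ᵁ U) ⊓ (pullback.snd f i) ⁻¹ᵁ (i ⁻¹ᵁ U)) (by simp)) := by
    rw [Scheme.Hom.appLE_congr (pullback.snd f i) _ rfl hUY
      (fun m => Function.Surjective m), Scheme.Hom.appLE_eq_app]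
    exact (pullback.snd f i).app_surjective _ hUT
  haveI hft : (f.appLE U (f ⁻¹ᵁ U) le_rfl).hom.FiniteType := f.finiteType_appLE hU hUX le_rfl
  have key : Function.Surjective (f.appLE U (f ⁻¹ᵁ U) le_rfl) := by
    algebraize [(f.appLE U (f ⁻¹ᵁ U) le_rfl).hom]
    refine surjective_of_nil Γ(S, U) Γ(X, f ⁻¹ᵁ U) (RingHom.ker (i.appLE U (i ⁻¹ᵁ U) le_rfl).hom)
      ?_ ?_
    · rw [Scheme.Hom.appLE_eq_app]
      exact ker_app_le_nilradical i hi.2 U hU
    · intro b
      obtain ⟨a', ha'⟩ := hι₂ (((pullback.fst f i).appLE (f ⁻¹ᵁ U) _ (by simp)) b)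
      obtain ⟨a, rfl⟩ := hψ a'
      refine ⟨a, ?_⟩
      refine mem_map_ker_of_isPushout _ _ _ _ hpo hψ _ ?_
      rw [map_sub, sub_eq_zero, ← ha']
      have hw := congrArg (fun m => m.hom a) hpo.w
      exact hw.symm
  rw [Scheme.Hom.appLE_eq_app] at key
  exact key

end scheme

end Groth.Agent.Lib.NilClosedImm
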