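import Mathlib

/-!
# Nilpotent matrices are conjugate to strictly upper triangular ones (helper1)
-/

set_option autoImplicit false
universe u

namespace Groth.Agent.Lib.NilConeH1

open Module

/-- A nilpotent endomorphism of a finite-dimensional space has a basis in which it is strictly
upper triangular. -/
theorem exists_basis_strictUpper (k : Type u) [Field k] :
    ∀ (d : ℕ) (V : Type u) [AddCommGroup V] [Module k V] [FiniteDimensional k V]
      (_ : finrank k V = d) (f : V →ₗ[k] V) (_ : IsNilpotent f),
      ∃ b : Basis (Fin d) k V, ∀ j : Fin d,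
        f (b j) ∈ Submodule.span k (b '' {i | i < j}) := by
  intro d
  induction d with
  | zero =>
    intro V _ _ _ hd f _
    exact ⟨finBasisOfFinrankEq k V hd, fun j => j.elim0⟩
  | succ d ih =>
    intro V _ _ _ hd f hf
    have hne : LinearMap.range f ≠ ⊤ := by
      intro htop
      obtain ⟨m, hm⟩ := hf
      have hs : Function.Surjective f := LinearMap.range_eq_top.1 htop
      have hs' : Function.Surjective (f ^ m) := by
        rw [Module.End.coe_pow]
        exact hs.iterate m
      have hsub : Subsingleton V := ⟨fun a b => by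
        obtain ⟨a', rfl⟩ := hs' a
        obtain ⟨b', rfl⟩ := hs' b
        simp [hm]⟩
      have := Module.finrank_zero_of_subsingleton (R := k) (M := V)
      omega
    obtain ⟨φ, hφ0, hφ⟩ := Submodule.exists_le_ker_of_lt_top (LinearMap.range f)
      (lt_top_iff_ne_top.2 hne)
    have hmaps : Set.MapsTo f (LinearMap.ker φ : Set V) (LinearMap.ker φ : Set V) :=
      fun x _ => hφ (LinearMap.mem_range_self f x)
    have hfH : IsNilpotent (f.restrict hmaps) := Module.End.isNilpotent.restrict hmaps hf
    have hdH : finrank k (LinearMap.ker φ) = d := by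
      have := Module.Dual.finrank_ker_add_one_of_ne_zero (f := φ) hφ0
      omega
    obtain ⟨b', hb'⟩ := ih (LinearMap.ker φ) hdH (f.restrict hmaps) hfH
    obtain ⟨y, hy⟩ : ∃ y, φ y ≠ 0 := by
      by_contra hcon
      apply hφ0
      ext v
      by_contra hv
      exact hcon ⟨v, hv⟩
    set y₁ : V := (φ y)⁻¹ • y with hy₁def
    have hy₁ : φ y₁ = 1 := by
      rw [hy₁def, map_smul, smul_eq_mul, inv_mul_cancel₀ hy]
    have hli : ∀ (c : k), ∀ x ∈ LinearMap.ker φ, c • y₁ + x = 0 → c = 0 := by
      intro c x hx hc
      have := congrArg φ hc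
      rw [map_add, map_smul, hy₁, LinearMap.mem_ker.1 hx, map_zero, add_zero, smul_eq_mul,
        mul_one] at this
      exact this
    have hsp : ∀ z : V, ∃ c : k, z + c • y₁ ∈ LinearMap.ker φ := by
      intro z
      refine ⟨-φ z, ?_⟩
      rw [LinearMap.mem_ker, map_add, map_smul, hy₁, smul_eq_mul, mul_one, add_neg_cancel]
    set b : Basis (Fin (d + 1)) k V := Basis.mkFinSnoc b' y₁ hli hsp with hbdef
    have hbcoe : (b : Fin (d + 1) → V) = Fin.snoc ((↑) ∘ b') y₁ := Basis.coe_mkFinSnoc b' y₁ hli hsp
    have hb : ∀ i : Fin d, b i.castSucc = (b' i : V) := by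
      intro i
      rw [hbcoe]
      simp
    have hblast : b (Fin.last d) = y₁ := by
      rw [hbcoe]
      simp
    refine ⟨b, fun j => ?_⟩
    refine Fin.lastCases ?_ (fun j' => ?_) j
    · -- last
      rw [hblast]
      have h1 : f y₁ ∈ LinearMap.ker φ := hφ (LinearMap.mem_range_self f y₁)
      have h2 : (⟨f y₁, h1⟩ : LinearMap.ker φ) ∈ Submodule.span k (Set.range b') := by
        rw [b'.span_eq]
        exact Submodule.mem_top
      have h3 := Submodule.mem_map_of_mem (f := (LinearMap.ker φ).subtype) h2
      rw [Submodule.map_span] at h3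
      refine Submodule.span_mono ?_ h3
      rintro _ ⟨_, ⟨i, rfl⟩, rfl⟩
      exact ⟨i.castSucc, Fin.castSucc_lt_last i, hb i⟩
    · rw [hb j']
      have h2 := hb' j'
      have h3 := Submodule.mem_map_of_mem (f := (LinearMap.ker φ).subtype) h2
      rw [Submodule.map_span] at h3
      have h4 : (LinearMap.ker φ).subtype ((f.restrict hmaps) (b' j')) = f (b' j' : V) := rfl
      rw [h4] at h3
      refine Submodule.span_mono ?_ h3
      rintro _ ⟨_, ⟨i, hi, rfl⟩, rfl⟩
      exact ⟨i.castSucc, Fin.castSucc_lt_castSucc_iff.2 hi, hb i⟩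

/-- A nilpotent square matrix over a field is conjugate to a strictly upper triangular one. -/
theorem exists_conj_strictUpper (k : Type u) [Field k] (n : ℕ)
    (N : Matrix (Fin n) (Fin n) k) (hN : IsNilpotent N) :
    ∃ (g u : Matrix (Fin n) (Fin n) k), IsUnit g.det ∧ (∀ i j, j ≤ i → u i j = 0) ∧
      N * g = g * u := by
  classical
  set f : (Fin n → k) →ₗ[k] (Fin n → k) := Matrix.toLin' N with hfdef
  have hf : IsNilpotent f := by
    have := hN.map (Matrix.toLinAlgEquiv' (R := k) (n := Fin n))
    exact this
  obtain ⟨b, hb⟩ := exists_basis_strictUpper k n (Fin n → k) (Module.finrank_fin_fun k) f hf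
  refine ⟨(Pi.basisFun k (Fin n)).toMatrix b, Matrix.of fun i j => b.repr (f (b j)) i, ?_, ?_, ?_⟩
  · haveI := Basis.invertibleToMatrix (Pi.basisFun k (Fin n)) b
    exact Matrix.isUnit_det_of_invertible _
  · intro i j hji
    rw [Matrix.of_apply]
    by_contra hne
    have h1 := (b.mem_span_image).1 (hb j)
    have h2 : i ∈ (b.repr (f (b j))).support := Finsupp.mem_support_iff.2 hne
    have h3 : i < j := h1 h2
    exact absurd hji (not_le.2 h3)
  · ext i j
    simp only [Matrix.mul_apply, Matrix.of_apply, Basis.toMatrix_apply, Pi.basisFun_repr]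
    have h1 : (f (b j)) i = ∑ l, N i l * b j l := by
      simp [hfdef, Matrix.toLin'_apply, Matrix.mulVec, dotProduct]
    have h2 : f (b j) = ∑ l, (b.repr (f (b j))) l • b l := (b.sum_repr _).symm
    rw [← h1]
    conv_lhs => rw [h2]
    simp [Finset.sum_apply, mul_comm]

end Groth.Agent.Lib.NilConeH1
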