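import Mathlib
import Groth.Agent.Lib.NilCone1_helper1

/-!
# The nilpotent cone is irreducible (helper1)

Parametrisation `(g, u) ↦ g u adj(g)` of the nilpotent matrices by an affine space, and the
Nullstellensatz.
-/

set_option autoImplicit false
universe u

namespace Groth.Agent.Lib.NilConeH1

noncomputable section

variable (k : Type u) [Field k] (n : ℕ)

/-- The polynomial ring of the matrix entries. -/
abbrev PolyN := MvPolynomial (Fin n × Fin n) k

/-- The parameter ring. -/
abbrev ParN := MvPolynomial ((Fin n × Fin n) ⊕ (Fin n × Fin n)) k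

/-- generic matrix `g` -/
def Gm : Matrix (Fin n) (Fin n) (ParN k n) := Matrix.of fun i j => MvPolynomial.X (Sum.inl (i, j))

/-- generic strictly upper triangular matrix `u` -/
def Um : Matrix (Fin n) (Fin n) (ParN k n) :=
  Matrix.of fun i j => if i < j then MvPolynomial.X (Sum.inr (i, j)) else 0

/-- `g u adj(g)` -/
def Psi : Matrix (Fin n) (Fin n) (ParN k n) := Gm k n * Um k n * (Gm k n).adjugate

/-- the comorphism of the parametrisation -/
def psiHom : PolyN k n →ₐ[k] ParN k n := MvPolynomial.aeval fun p => Psi k n p.1 p.2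

/-- The coefficients of the generic characteristic polynomial. -/
def cc (i : Fin n) : PolyN k n :=
  (Matrix.charpoly (Matrix.mvPolynomialX (Fin n) (Fin n) k)).coeff (i : ℕ)

/-- The ideal of the nilpotent cone. -/
def II : Ideal (PolyN k n) := Ideal.span (Set.range (cc k n))

theorem map_psiHom :
    (Matrix.mvPolynomialX (Fin n) (Fin n) k).map (psiHom k n : PolyN k n →+* ParN k n) =
      Psi k n := by
  ext i j
  simp [psiHom, Matrix.mvPolynomialX_apply]

theorem charpoly_Psi : (Psi k n).charpoly = Polynomial.X ^ n := by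
  have h1 : (Psi k n).charpoly = ((Gm k n).det • Um k n).charpoly := by
    unfold Psi
    rw [Matrix.mul_assoc, Matrix.charpoly_mul_comm, Matrix.mul_assoc, Matrix.adjugate_mul,
      Matrix.mul_smul, Matrix.mul_one]
  rw [h1, Matrix.charpoly_of_isUpperTriangular]
  · have : ∀ i : Fin n, ((Gm k n).det • Um k n) i i = 0 := by
      intro i
      simp [Um]
    simp [this]
  · intro i j hji
    have hji' : j < i := hji
    have : ¬ i < j := not_lt.2 (le_of_lt hji')
    simp [Um, this]

theorem cc_mem_ker (i : Fin n) : psiHom k n (cc k n i) = 0 := by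
  have h := Matrix.charpoly_map (Matrix.mvPolynomialX (Fin n) (Fin n) k)
    (psiHom k n : PolyN k n →+* ParN k n)
  rw [map_psiHom, charpoly_Psi] at h
  have h2 := congrArg (fun q => q.coeff (i : ℕ)) h
  simp only [Polynomial.coeff_map, Polynomial.coeff_X_pow] at h2
  rw [if_neg (Nat.ne_of_lt i.2)] at h2
  exact h2.symm

theorem II_le_ker : II k n ≤ RingHom.ker (psiHom k n) := by
  unfold II
  rw [Ideal.span_le]
  rintro _ ⟨i, rfl⟩
  exact RingHom.mem_ker.2 (cc_mem_ker k n i)

theorem exists_param (x : Fin n × Fin n → k)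
    (hx : ∀ i : Fin n, MvPolynomial.aeval x (cc k n i) = 0) :
    ∃ y : (Fin n × Fin n) ⊕ (Fin n × Fin n) → k,
      ∀ p : PolyN k n, MvPolynomial.aeval x p = MvPolynomial.aeval y (psiHom k n p) := by
  classical
  set N : Matrix (Fin n) (Fin n) k := Matrix.of fun i j => x (i, j) with hNdef
  have hmap : (Matrix.mvPolynomialX (Fin n) (Fin n) k).map
      ((MvPolynomial.aeval x : PolyN k n →ₐ[k] k) : PolyN k n →+* k) = N := by
    ext i j
    simp [hNdef, Matrix.mvPolynomialX_apply]
  have hchar : N.charpoly = Polynomial.X ^ n := by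
    have h := Matrix.charpoly_map (Matrix.mvPolynomialX (Fin n) (Fin n) k)
      ((MvPolynomial.aeval x : PolyN k n →ₐ[k] k) : PolyN k n →+* k)
    rw [hmap] at h
    apply Polynomial.ext
    intro m
    rw [Polynomial.coeff_X_pow]
    rcases lt_trichotomy m n with hlt | heq | hgt
    · rw [if_neg (Nat.ne_of_lt hlt), h, Polynomial.coeff_map]
      exact hx ⟨m, hlt⟩
    · subst heq
      rw [if_pos rfl]
      have hmonic := Matrix.charpoly_monic N
      have hdeg : N.charpoly.natDegree = m := by
        rw [Matrix.charpoly_natDegree_eq_dim, Fintype.card_fin]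
      have h3 : N.charpoly.coeff N.charpoly.natDegree = 1 := hmonic
      rwa [hdeg] at h3
    · rw [if_neg (Nat.ne_of_gt hgt)]
      apply Polynomial.coeff_eq_zero_of_natDegree_lt
      rw [Matrix.charpoly_natDegree_eq_dim, Fintype.card_fin]
      exact hgt
  have hnil : IsNilpotent N := by
    refine ⟨n, ?_⟩
    have := Matrix.aeval_self_charpoly N
    rw [hchar] at this
    simpa using this
  obtain ⟨g, u, hg, hu, hNg⟩ := exists_conj_strictUpper k n N hnil
  have hδ : g.det ≠ 0 := hg.ne_zero
  set y : (Fin n × Fin n) ⊕ (Fin n × Fin n) → k :=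
    Sum.elim (fun p => g p.1 p.2) (fun p => g.det⁻¹ * u p.1 p.2) with hydef
  have hG : ((MvPolynomial.aeval y : ParN k n →ₐ[k] k) : ParN k n →+* k).mapMatrix (Gm k n) = g := by
    ext i j
    simp [Gm, hydef]
  have hU : ((MvPolynomial.aeval y : ParN k n →ₐ[k] k) : ParN k n →+* k).mapMatrix (Um k n) = g.det⁻¹ • u := by
    ext i j
    by_cases hij : i < j
    · simp [Um, hydef, hij]
    · simp [Um, hydef, hij, hu i j (not_lt.1 hij)]
  have hPsi : ((MvPolynomial.aeval y : ParN k n →ₐ[k] k) : ParN k n →+* k).mapMatrix (Psi k n) = N := by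
    unfold Psi
    rw [map_mul, map_mul, RingHom.map_adjugate, hG, hU]
    rw [Matrix.mul_smul, Matrix.smul_mul, ← hNg, Matrix.mul_assoc, Matrix.mul_adjugate,
      Matrix.mul_smul, Matrix.mul_one, smul_smul, inv_mul_cancel₀ hδ, one_smul]
  refine ⟨y, fun p => ?_⟩
  have hcomp : (MvPolynomial.aeval y).comp (psiHom k n) =
      (MvPolynomial.aeval x : PolyN k n →ₐ[k] k) := by
    apply MvPolynomial.algHom_ext
    intro s
    rw [AlgHom.comp_apply, MvPolynomial.aeval_X]
    unfold psiHom
    rw [MvPolynomial.aeval_X]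
    have := congrFun (congrFun hPsi s.1) s.2
    simpa [hNdef] using this
  rw [← hcomp]
  rfl

theorem ker_le_radical [IsAlgClosed k] : RingHom.ker (psiHom k n) ≤ (II k n).radical := by
  rw [← MvPolynomial.vanishingIdeal_zeroLocus_eq_radical (K := k)]
  intro p hp x hx
  have hx' : ∀ i, MvPolynomial.aeval x (cc k n i) = 0 :=
    fun i => hx _ (Ideal.subset_span ⟨i, rfl⟩)
  obtain ⟨y, hy⟩ := exists_param k n x hx'
  rw [hy p, RingHom.mem_ker.1 hp, map_zero]

theorem radical_eq_ker [IsAlgClosed k] : (II k n).radical = RingHom.ker (psiHom k n) :=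
  le_antisymm ((Ideal.IsPrime.radical_le_iff (RingHom.ker_isPrime _)).2 (II_le_ker k n))
    (ker_le_radical k n)

theorem radical_isPrime [IsAlgClosed k] : (II k n).radical.IsPrime := by
  rw [radical_eq_ker]
  exact RingHom.ker_isPrime _

end

theorem nilradical_quot_isPrime {R : Type*} [CommRing R] (I : Ideal R) (h : I.radical.IsPrime) :
    (nilradical (R ⧸ I)).IsPrime := by
  have key : ∀ p : R, Ideal.Quotient.mk I p ∈ nilradical (R ⧸ I) ↔ p ∈ I.radical := by
    intro p
    rw [mem_nilradical]
    constructor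
    · rintro ⟨m, hm⟩
      rw [← map_pow, Ideal.Quotient.eq_zero_iff_mem] at hm
      exact ⟨m, hm⟩
    · rintro ⟨m, hm⟩
      exact ⟨m, by rw [← map_pow, Ideal.Quotient.eq_zero_iff_mem]; exact hm⟩
  refine Ideal.isPrime_iff.2 ⟨?_, ?_⟩
  · intro htop
    have h1 : (1 : R ⧸ I) ∈ nilradical (R ⧸ I) := htop ▸ Submodule.mem_top
    rw [← map_one (Ideal.Quotient.mk I), key] at h1
    exact h.ne_top ((Ideal.eq_top_iff_one _).2 h1)
  · intro a b hab
    obtain ⟨p, rfl⟩ := Ideal.Quotient.mk_surjective a
    obtain ⟨q, rfl⟩ := Ideal.Quotient.mk_surjective b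
    rw [← map_mul, key] at hab
    rw [key, key]
    exact h.mem_or_mem hab

theorem irreducibleSpace (k : Type u) [Field k] [IsAlgClosed k] (n : ℕ) :
    IrreducibleSpace (PrimeSpectrum (PolyN k n ⧸ II k n)) := by
  rw [PrimeSpectrum.irreducibleSpace_iff_isPrime_nilradical]
  exact nilradical_quot_isPrime _ (radical_isPrime k n)

end Groth.Agent.Lib.NilConeH1
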