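import Mathlib
import Groth.Agent.Lib.NilCone2_helper1
import Groth.Agent.Lib.IntegralHeight_helper5

/-!
# Dimension of the nilpotent cone (helper1)

* upper bound: `k[x_ij]/I` is a finite module over the polynomial ring in the off-diagonal
  entries;
* lower bound: Krull's height theorem at the origin.
-/

set_option autoImplicit false
universe u

namespace Groth.Agent.Lib.NilConeH1

noncomputable section

open Finset

variable (k : Type u) [Field k] (n : ℕ)

/-! ### upper bound -/

/-- off-diagonal indices -/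
abbrev OffD := {p : Fin n × Fin n // p.1 ≠ p.2}

/-- polynomial ring in the off-diagonal entries -/
abbrev QN := MvPolynomial (OffD n) k

/-- the coordinate ring of the nilpotent cone -/
abbrev AN := PolyN k n ⧸ II k n

/-- the structure map from the off-diagonal polynomial ring -/
def phi : QN k n →ₐ[k] AN k n :=
  MvPolynomial.aeval fun o : OffD n => Ideal.Quotient.mk (II k n) (MvPolynomial.X o.1)

/-- the algebra structure of the coordinate ring over the off-diagonal polynomial ring -/
@[reducible] def algQA : Algebra (QN k n) (AN k n) := (phi k n).toRingHom.toAlgebra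

/-- the module structure -/
@[reducible] def modQA : Module (QN k n) (AN k n) := (algQA k n).toModule

attribute [local instance 2000] algQA modQA

theorem smul_eq (q : QN k n) (a : AN k n) : q • a = phi k n q * a := rfl

/-- exponent vector of a diagonal monomial -/
def dvec (α : Fin n → Fin n) : (Fin n × Fin n) →₀ ℕ :=
  Finsupp.equivFunOnFinite.symm fun p => if p.1 = p.2 then ((α p.1 : Fin n) : ℕ) else 0

/-- the generators -/
def gen (α : Fin n → Fin n) : AN k n :=
  Ideal.Quotient.mk (II k n) (MvPolynomial.monomial (dvec n α) 1)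

/-- the submodule they span -/
def TT : Submodule (QN k n) (AN k n) := Submodule.span (QN k n) (Set.range (gen k n))

/-- good polynomials -/
def GG (p : PolyN k n) : Prop := Ideal.Quotient.mk (II k n) p ∈ TT k n

theorem G_add {p q : PolyN k n} (hp : GG k n p) (hq : GG k n q) : GG k n (p + q) := by
  unfold GG
  rw [map_add]
  exact (TT k n).add_mem hp hq

theorem G_sum {ι : Type*} (s : Finset ι) (f : ι → PolyN k n) (h : ∀ i ∈ s, GG k n (f i)) :
    GG k n (∑ i ∈ s, f i) := by
  unfold GG
  rw [map_sum]
  exact (TT k n).sum_mem h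

theorem G_X_mul (o : Fin n × Fin n) (ho : o.1 ≠ o.2) {p : PolyN k n} (hp : GG k n p) :
    GG k n (MvPolynomial.X o * p) := by
  unfold GG
  have h1 : Ideal.Quotient.mk (II k n) (MvPolynomial.X o * p) =
      (MvPolynomial.X (⟨o, ho⟩ : OffD n) : QN k n) • Ideal.Quotient.mk (II k n) p := by
    rw [smul_eq, map_mul]
    congr 1
    simp [phi]
  rw [h1]
  exact (TT k n).smul_mem _ hp

theorem G_C_mul (c : k) {p : PolyN k n} (hp : GG k n p) :
    GG k n (MvPolynomial.C c * p) := by
  unfold GG
  have h1 : Ideal.Quotient.mk (II k n) (MvPolynomial.C c * p) =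
      (MvPolynomial.C c : QN k n) • Ideal.Quotient.mk (II k n) p := by
    rw [smul_eq, map_mul]
    congr 1
    simp only [phi, MvPolynomial.aeval_C]
    rfl
  rw [h1]
  exact (TT k n).smul_mem _ hp

theorem G_congr {p p' : PolyN k n} (h : p - p' ∈ II k n) (hp' : GG k n p') : GG k n p := by
  unfold GG at hp' ⊢
  rw [Ideal.Quotient.eq.2 h]
  exact hp'

theorem G_gen (α : Fin n → Fin n) : GG k n (MvPolynomial.monomial (dvec n α) 1) :=
  Submodule.subset_span ⟨α, rfl⟩

theorem G_of_monomials (p : PolyN k n)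
    (h : ∀ γ ∈ p.support, GG k n (MvPolynomial.monomial γ 1)) : GG k n p := by
  rw [p.as_sum]
  refine G_sum k n _ _ fun γ hγ => ?_
  have : MvPolynomial.monomial γ (MvPolynomial.coeff γ p) =
      MvPolynomial.C (MvPolynomial.coeff γ p) * MvPolynomial.monomial γ (1 : k) := by
    rw [MvPolynomial.C_mul_monomial, mul_one]
  rw [this]
  exact G_C_mul k n _ (h γ hγ)

/-- the key relation: `x_ii ^ n` is, modulo `I`, a combination of off-diagonal variables with
coefficients of degree at most `n - 1`. -/
theorem relation (i : Fin n) :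
    ∃ (s : Finset (Equiv.Perm (Fin n))) (o : Equiv.Perm (Fin n) → Fin n × Fin n)
      (w : Equiv.Perm (Fin n) → PolyN k n),
      (∀ π ∈ s, (o π).1 ≠ (o π).2) ∧ (∀ π ∈ s, (w π).totalDegree ≤ n - 1) ∧
      MvPolynomial.X (i, i) ^ n - ∑ π ∈ s, MvPolynomial.X (o π) * w π ∈ II k n := by
  classical
  set t : PolyN k n := MvPolynomial.X (i, i) with ht
  set M := Matrix.mvPolynomialX (Fin n) (Fin n) k with hM
  set B : Matrix (Fin n) (Fin n) (PolyN k n) := Matrix.scalar (Fin n) t - M with hB
  have hBapp : ∀ a b, B a b = (if a = b then t else 0) - MvPolynomial.X (a, b) := by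
    intro a b
    simp [hB, hM, Matrix.sub_apply, Matrix.diagonal_apply]
  have hR1 : t ^ n - B.det ∈ II k n := by
    have h1 : B.det = Polynomial.eval t M.charpoly := (Matrix.eval_charpoly M t).symm
    have hmonic := Matrix.charpoly_monic M
    have hdeg : M.charpoly.natDegree = n := by
      rw [Matrix.charpoly_natDegree_eq_dim, Fintype.card_fin]
    have h2 := hmonic.as_sum
    rw [hdeg] at h2
    have h3 : Polynomial.eval t M.charpoly =
        t ^ n + ∑ j ∈ Finset.range n, M.charpoly.coeff j * t ^ j := by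
      conv_lhs => rw [h2]
      simp [Polynomial.eval_finsetSum]
    rw [h1, h3, sub_add_cancel_left]
    refine (II k n).neg_mem (Ideal.sum_mem _ fun j hj => Ideal.mul_mem_right _ _ ?_)
    exact Ideal.subset_span ⟨⟨j, Finset.mem_range.1 hj⟩, rfl⟩
  have hne : ∀ π : Equiv.Perm (Fin n), π ≠ 1 → ∃ j, π j ≠ j := by
    intro π hπ
    by_contra hcon
    apply hπ
    refine Equiv.ext fun j => ?_
    by_contra hj
    exact hcon ⟨j, hj⟩
  haveI : Nonempty (Fin n) := ⟨i⟩
  choose! j₀ hj₀ using hne
  let s : Finset (Equiv.Perm (Fin n)) := Finset.univ.filter (· ≠ 1)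
  let o : Equiv.Perm (Fin n) → Fin n × Fin n := fun π => (π (j₀ π), j₀ π)
  let w : Equiv.Perm (Fin n) → PolyN k n := fun π =>
    -(((Equiv.Perm.sign π : ℤ) : PolyN k n) * ∏ j ∈ Finset.univ.erase (j₀ π), B (π j) j)
  have hBdeg : ∀ a b, (B a b).totalDegree ≤ 1 := by
    intro a b
    rw [hBapp]
    refine (MvPolynomial.totalDegree_sub _ _).trans (max_le ?_ ?_)
    · split_ifs
      · rw [ht, MvPolynomial.totalDegree_X]
      · simp
    · rw [MvPolynomial.totalDegree_X]
  refine ⟨s, o, w, ?_, ?_, ?_⟩
  · intro π hπ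
    exact hj₀ π (Finset.mem_filter.1 hπ).2
  · intro π _
    show (-(((Equiv.Perm.sign π : ℤ) : PolyN k n) *
      ∏ j ∈ Finset.univ.erase (j₀ π), B (π j) j)).totalDegree ≤ n - 1
    rw [MvPolynomial.totalDegree_neg]
    refine (MvPolynomial.totalDegree_mul _ _).trans ?_
    have h1 : (((Equiv.Perm.sign π : ℤ) : PolyN k n)).totalDegree = 0 := by
      rw [← map_intCast (MvPolynomial.C : k →+* PolyN k n), MvPolynomial.totalDegree_C]
    rw [h1, zero_add]
    refine (MvPolynomial.totalDegree_finsetProd _ _).trans ?_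
    calc ∑ j ∈ Finset.univ.erase (j₀ π), (B (π j) j).totalDegree
        ≤ ∑ j ∈ Finset.univ.erase (j₀ π), 1 := Finset.sum_le_sum fun j _ => hBdeg _ _
      _ = n - 1 := by simp [Finset.card_erase_of_mem]
  · have hterm1 : ∏ j, B ((1 : Equiv.Perm (Fin n)) j) j = 0 :=
      Finset.prod_eq_zero (Finset.mem_univ i) (by rw [hBapp]; simp [ht])
    have hterm : ∀ π ∈ s, ((Equiv.Perm.sign π : ℤ) : PolyN k n) * ∏ j, B (π j) j =
        MvPolynomial.X (o π) * w π := by
      intro π hπ
      have hπ1 := (Finset.mem_filter.1 hπ).2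
      rw [← Finset.mul_prod_erase Finset.univ _ (Finset.mem_univ (j₀ π))]
      have hBo : B (π (j₀ π)) (j₀ π) = - MvPolynomial.X (π (j₀ π), j₀ π) := by
        rw [hBapp, if_neg (hj₀ π hπ1), zero_sub]
      rw [hBo]
      show _ = MvPolynomial.X (π (j₀ π), j₀ π) * -(((Equiv.Perm.sign π : ℤ) : PolyN k n) *
        ∏ j ∈ Finset.univ.erase (j₀ π), B (π j) j)
      ring
    have hdet : B.det = ∑ π ∈ s, MvPolynomial.X (o π) * w π := by
      rw [Matrix.det_apply']
      rw [← Finset.sum_congr rfl hterm]
      symm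
      apply Finset.sum_filter_of_ne
      intro π _ hf hπ
      apply hf
      rw [hπ, hterm1, mul_zero]
    rw [← hdet]
    exact hR1

/-- inductive step -/
theorem G_step (e : ℕ) (IH : ∀ p : PolyN k n, p.totalDegree < e → GG k n p)
    (γ : (Fin n × Fin n) →₀ ℕ) (hγ : Finsupp.degree γ = e) :
    GG k n (MvPolynomial.monomial γ 1) := by
  classical
  have hmondeg : ∀ δ : (Fin n × Fin n) →₀ ℕ,
      (MvPolynomial.monomial δ (1 : k)).totalDegree ≤ Finsupp.degree δ :=
    fun δ => MvPolynomial.totalDegree_monomial_le δ 1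
  by_cases h1 : ∃ o : Fin n × Fin n, o.1 ≠ o.2 ∧ γ o ≠ 0
  · obtain ⟨o, ho, hγo⟩ := h1
    have hle : Finsupp.single o 1 ≤ γ := Finsupp.single_le_iff.2 (Nat.one_le_iff_ne_zero.2 hγo)
    have hγeq : γ = (γ - Finsupp.single o 1) + Finsupp.single o 1 :=
      (tsub_add_cancel_of_le hle).symm
    have hdeg : Finsupp.degree γ = Finsupp.degree (γ - Finsupp.single o 1) + 1 := by
      conv_lhs => rw [hγeq]
      rw [map_add, Finsupp.degree_single]
    have hmon : MvPolynomial.monomial γ (1 : k) =
        MvPolynomial.X o * MvPolynomial.monomial (γ - Finsupp.single o 1) 1 := by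
      conv_lhs => rw [hγeq]
      rw [MvPolynomial.monomial_add_single, pow_one, mul_comm]
    rw [hmon]
    refine G_X_mul k n o ho (IH _ ?_)
    have := hmondeg (γ - Finsupp.single o 1)
    omega
  · have h1' : ∀ o : Fin n × Fin n, o.1 ≠ o.2 → γ o = 0 := by
      intro o ho
      by_contra hne
      exact h1 ⟨o, ho, hne⟩
    by_cases h2 : ∃ i : Fin n, n ≤ γ (i, i)
    · obtain ⟨i, hi⟩ := h2
      have hnpos : 0 < n := i.pos
      have hle : Finsupp.single (i, i) n ≤ γ := Finsupp.single_le_iff.2 hi
      have hγeq : γ = (γ - Finsupp.single (i, i) n) + Finsupp.single (i, i) n :=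
        (tsub_add_cancel_of_le hle).symm
      have hdeg : Finsupp.degree γ = Finsupp.degree (γ - Finsupp.single (i, i) n) + n := by
        conv_lhs => rw [hγeq]
        rw [map_add, Finsupp.degree_single]
      have hmon : MvPolynomial.monomial γ (1 : k) =
          MvPolynomial.monomial (γ - Finsupp.single (i, i) n) 1 * MvPolynomial.X (i, i) ^ n := by
        conv_lhs => rw [hγeq]
        rw [MvPolynomial.monomial_add_single]
      obtain ⟨s, o, w, ho, hw, hrel⟩ := relation k n i
      set m'' : PolyN k n := MvPolynomial.monomial (γ - Finsupp.single (i, i) n) 1 with hm''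
      have hdiff : MvPolynomial.monomial γ (1 : k) -
          ∑ π ∈ s, MvPolynomial.X (o π) * (m'' * w π) =
          m'' * (MvPolynomial.X (i, i) ^ n - ∑ π ∈ s, MvPolynomial.X (o π) * w π) := by
        rw [hmon, mul_sub, Finset.mul_sum]
        congr 1
        refine Finset.sum_congr rfl fun π _ => ?_
        ring
      refine G_congr k n (p' := ∑ π ∈ s, MvPolynomial.X (o π) * (m'' * w π)) ?_ ?_
      · rw [hdiff]
        exact Ideal.mul_mem_left _ _ hrel
      · refine G_sum k n _ _ fun π hπ => G_X_mul k n (o π) (ho π hπ) (IH _ ?_)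
        have h3 := MvPolynomial.totalDegree_mul m'' (w π)
        have h4 : m''.totalDegree ≤ Finsupp.degree (γ - Finsupp.single (i, i) n) :=
          hmondeg (γ - Finsupp.single (i, i) n)
        have h5 := hw π hπ
        omega
    · have h2' : ∀ i : Fin n, γ (i, i) < n := by
        intro i
        by_contra hne
        exact h2 ⟨i, not_lt.1 hne⟩
      have hγeq : γ = dvec n (fun i => ⟨γ (i, i), h2' i⟩) := by
        ext p
        obtain ⟨a, b⟩ := p
        by_cases hab : a = b
        · subst hab
          simp [dvec]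
        · simp [dvec, hab, h1' (a, b) hab]
      rw [hγeq]
      exact G_gen k n _

theorem G_monomial : ∀ (e : ℕ) (γ : (Fin n × Fin n) →₀ ℕ), Finsupp.degree γ = e →
    GG k n (MvPolynomial.monomial γ 1) := by
  intro e
  induction e using Nat.strong_induction_on with
  | _ e ih =>
    intro γ hγ
    refine G_step k n e (fun p hp => ?_) γ hγ
    refine G_of_monomials k n p fun δ hδ => ?_
    have h1 : Finsupp.degree δ ≤ p.totalDegree := MvPolynomial.le_totalDegree hδ
    exact ih (Finsupp.degree δ) (lt_of_le_of_lt h1 hp) δ rfl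

theorem G_all (p : PolyN k n) : GG k n p :=
  G_of_monomials k n p fun γ _ => G_monomial k n _ γ rfl

theorem TT_eq_top : TT k n = ⊤ :=
  eq_top_iff.2 fun a _ => by
    obtain ⟨p, rfl⟩ := Ideal.Quotient.mk_surjective a
    exact G_all k n p

theorem finite_QA : Module.Finite (QN k n) (AN k n) :=
  ⟨⟨(Set.finite_range (gen k n)).toFinset, by
    rw [Set.Finite.coe_toFinset]
    exact TT_eq_top k n⟩⟩

theorem card_offD : Nat.card (OffD n) = n ^ 2 - n := by
  classical
  rw [Nat.card_eq_fintype_card, Fintype.card_subtype]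
  have : (Finset.univ.filter fun p : Fin n × Fin n => p.1 ≠ p.2) =
      (Finset.univ : Finset (Fin n)).offDiag := by
    ext p
    simp
  rw [this, Finset.offDiag_card, Finset.card_univ, Fintype.card_fin, sq]

theorem dim_le : ringKrullDim (AN k n) ≤ ((n ^ 2 - n : ℕ) : WithBot ℕ∞) := by
  haveI := finite_QA k n
  haveI : Algebra.IsIntegral (QN k n) (AN k n) := Algebra.IsIntegral.of_finite _ _
  refine (Groth.Agent.IntegralHeight.ringKrullDim_le_of_isIntegral (QN k n) (AN k n)).trans ?_
  rw [MvPolynomial.ringKrullDim_of_isNoetherianRing, ringKrullDim_eq_zero_of_field, zero_add,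
    card_offD]

end

/-! ### lower bound -/

section lower

variable (k : Type u) [Field k]

/-- translation automorphism of a polynomial ring -/
noncomputable def transl {σ : Type*} (x : σ → k) : MvPolynomial σ k ≃ₐ[k] MvPolynomial σ k :=
  AlgEquiv.ofAlgHom (MvPolynomial.aeval fun s => MvPolynomial.X s + MvPolynomial.C (x s))
    (MvPolynomial.aeval fun s => MvPolynomial.X s - MvPolynomial.C (x s))
    (by
      apply MvPolynomial.algHom_ext
      intro s
      simp)
    (by
      apply MvPolynomial.algHom_ext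
      intro s
      simp)

theorem vanishing_eq_comap {σ : Type*} (x : σ → k) :
    MvPolynomial.vanishingIdeal k {x} =
      Ideal.comap (transl k x).toRingEquiv (MvPolynomial.vanishingIdeal k {(0 : σ → k)}) := by
  ext p
  rw [Ideal.mem_comap, MvPolynomial.mem_vanishingIdeal_singleton_iff,
    MvPolynomial.mem_vanishingIdeal_singleton_iff]
  have : (MvPolynomial.aeval (0 : σ → k)).comp
      (transl k x : MvPolynomial σ k →ₐ[k] MvPolynomial σ k) = MvPolynomial.aeval x := by
    apply MvPolynomial.algHom_ext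
    intro s
    simp [transl]
  rw [← this]
  rfl

theorem height_vanishing {σ : Type*} (x : σ → k) :
    (MvPolynomial.vanishingIdeal k {x}).height =
      (MvPolynomial.vanishingIdeal k {(0 : σ → k)}).height := by
  rw [vanishing_eq_comap, RingEquiv.height_comap]

theorem height_origin [IsAlgClosed k] {σ : Type*} [Finite σ] :
    (MvPolynomial.vanishingIdeal k {(0 : σ → k)}).height = Nat.card σ := by
  have h1 := Ideal.sup_isMaximal_height_eq_ringKrullDim (R := MvPolynomial σ k)
  rw [MvPolynomial.ringKrullDim_of_isNoetherianRing, ringKrullDim_eq_zero_of_field, zero_add] at h1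
  have h2 : (⨆ (I : Ideal (MvPolynomial σ k)) (_ : I.IsMaximal), I.height) =
      (MvPolynomial.vanishingIdeal k {(0 : σ → k)}).height := by
    apply le_antisymm
    · refine iSup₂_le fun I hI => ?_
      obtain ⟨x, rfl⟩ := MvPolynomial.isMaximal_iff_eq_vanishingIdeal_singleton.1 hI
      rw [height_vanishing]
    · exact le_iSup₂ (f := fun (I : Ideal (MvPolynomial σ k)) (_ : I.IsMaximal) => I.height)
        (MvPolynomial.vanishingIdeal k {(0 : σ → k)}) inferInstance
  rw [h2] at h1
  exact_mod_cast h1

theorem cc_mem_origin (n : ℕ) (i : Fin n) :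
    cc k n i ∈ MvPolynomial.vanishingIdeal k {(0 : Fin n × Fin n → k)} := by
  rw [MvPolynomial.mem_vanishingIdeal_singleton_iff]
  have h := Matrix.charpoly_map (Matrix.mvPolynomialX (Fin n) (Fin n) k)
    ((MvPolynomial.aeval (0 : Fin n × Fin n → k) : PolyN k n →ₐ[k] k) : PolyN k n →+* k)
  have hmap : (Matrix.mvPolynomialX (Fin n) (Fin n) k).map
      ((MvPolynomial.aeval (0 : Fin n × Fin n → k) : PolyN k n →ₐ[k] k) : PolyN k n →+* k) = 0 := by
    ext a b
    simp [Matrix.mvPolynomialX_apply]
  rw [hmap, Matrix.charpoly_zero, Fintype.card_fin] at h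
  have h2 := congrArg (fun q => q.coeff (i : ℕ)) h
  simp only [Polynomial.coeff_map, Polynomial.coeff_X_pow] at h2
  rw [if_neg (Nat.ne_of_lt i.2)] at h2
  exact h2.symm

theorem le_dim [IsAlgClosed k] (n : ℕ) :
    ((n ^ 2 - n : ℕ) : WithBot ℕ∞) ≤ ringKrullDim (PolyN k n ⧸ II k n) := by
  have hs : Set.range (cc k n) ⊆
      (MvPolynomial.vanishingIdeal k {(0 : Fin n × Fin n → k)} : Set (PolyN k n)) := by
    rintro _ ⟨i, rfl⟩
    exact cc_mem_origin k n i
  have h : ((MvPolynomial.vanishingIdeal k {(0 : Fin n × Fin n → k)}).height : WithBot ℕ∞) ≤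
      ringKrullDim (PolyN k n ⧸ II k n) + ((Set.range (cc k n)).encard : WithBot ℕ∞) :=
    Ideal.height_le_ringKrullDim_quotient_add_encard (Set.range (cc k n)) hs
  rw [height_origin, Nat.card_eq_fintype_card, Fintype.card_prod, Fintype.card_fin] at h
  have he : (Set.range (cc k n)).encard ≤ (n : ℕ∞) := by
    rw [← Set.image_univ]
    refine (Set.encard_image_le _ _).trans ?_
    rw [Set.encard_univ, ENat.card_eq_coe_fintype_card, Fintype.card_fin]
  have h2 : ((n * n : ℕ) : WithBot ℕ∞) ≤ ringKrullDim (PolyN k n ⧸ II k n) + (n : WithBot ℕ∞) := by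
    refine le_trans (by exact_mod_cast h) ?_
    gcongr
    exact_mod_cast he
  generalize ringKrullDim (PolyN k n ⧸ II k n) = d at h2 ⊢
  induction d using WithBot.recBotCoe with
  | bot =>
    rw [WithBot.bot_add] at h2
    exact absurd (le_bot_iff.1 h2) (WithBot.natCast_ne_bot _)
  | coe d =>
    induction d using ENat.recTopCoe with
    | top => simp
    | coe m =>
      have h3 : n * n ≤ m + n := by exact_mod_cast h2
      have h4 : n ^ 2 - n ≤ m := by
        rw [sq]
        exact Nat.sub_le_of_le_add h3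
      obtain ⟨q, hq⟩ : ∃ q, q = n ^ 2 - n := ⟨_, rfl⟩
      rw [← hq] at h4 ⊢
      exact_mod_cast h4

end lower

/-- The nilpotent cone is irreducible of dimension `n² - n`. -/
theorem main (k : Type u) [Field k] [IsAlgClosed k] (n : ℕ) :
    IrreducibleSpace (PrimeSpectrum (PolyN k n ⧸ II k n)) ∧
      ringKrullDim (PolyN k n ⧸ II k n) = ((n ^ 2 - n : ℕ) : WithBot ℕ∞) :=
  ⟨irreducibleSpace k n, le_antisymm (dim_le k n) (le_dim k n)⟩

end Groth.Agent.Lib.NilConeH1
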