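import Mathlib
import Groth.Prelude

set_option autoImplicit false
set_option linter.style.haveILetI false
set_option linter.unusedVariables false

universe u

open TensorProduct

namespace Groth.Agent.Lib.NilFibH4

section alg
variable {K R : Type*} [Field K] [CommRing R] [Algebra K R]

/-- the `K`-subspace `P·R` -/
noncomputable def W (K : Type*) {R : Type*} [Field K] [CommRing R] [Algebra K R] (P : R) :
    Submodule K R :=
  LinearMap.range (LinearMap.mulLeft K P)

theorem self_mem_W (P : R) : P ∈ W K P := ⟨1, by simp⟩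

theorem W_mul_le (P y : R) : W K (P * y) ≤ W K P := by
  rintro _ ⟨b, rfl⟩
  exact ⟨y * b, by simp [mul_assoc]⟩

theorem W_mul_lt (P y : R) (hP : P ≠ 0) (hy : IsNilpotent y) : W K (P * y) < W K P := by
  refine lt_of_le_of_ne (W_mul_le P y) ?_
  intro heq
  have h1 : P ∈ W K (P * y) := by rw [heq]; exact self_mem_W P
  obtain ⟨b, hb⟩ := h1
  have hb' : P * y * b = P := hb
  have hyb : IsNilpotent (y * b) :=
    mem_nilradical.mp (Ideal.mul_mem_right b (nilradical R) (mem_nilradical.mpr hy))
  have hu : IsUnit (1 - y * b) := IsNilpotent.isUnit_one_sub hyb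
  have hz : P * (1 - y * b) = 0 := by rw [mul_sub, mul_one, ← mul_assoc, hb', sub_self]
  obtain ⟨v, hv⟩ := hu.exists_right_inv
  have : P = 0 := by
    calc P = P * ((1 - y * b) * v) := by rw [hv, mul_one]
      _ = (P * (1 - y * b)) * v := by rw [mul_assoc]
      _ = 0 := by rw [hz, zero_mul]
  exact hP this

theorem mul_eq_zero_of_finrank_le [Module.Finite K R] (n : Ideal R) (hn : n ≤ nilradical R) :
    ∀ (j : ℕ) (P : R), Module.finrank K (W K P) ≤ j → ∀ z ∈ n ^ j, P * z = 0 := by
  intro j
  induction j with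
  | zero =>
    intro P hP z _
    have hbot : W K P = ⊥ := Submodule.finrank_eq_zero.mp (Nat.le_zero.mp hP)
    have h0 : P ∈ (⊥ : Submodule K R) := by rw [← hbot]; exact self_mem_W P
    have hP0 : P = 0 := (Submodule.mem_bot K).mp h0
    rw [hP0, zero_mul]
  | succ j ih =>
    intro P hP z hz
    by_cases hP0 : P = 0
    · rw [hP0, zero_mul]
    rw [pow_succ', ← Ideal.smul_eq_mul] at hz
    refine Submodule.smul_induction_on hz (fun y hy w hw => ?_) (fun a b ha hb => ?_)
    · have hy' : IsNilpotent y := mem_nilradical.mp (hn hy)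
      have hlt := Submodule.finrank_lt_finrank_of_lt (W_mul_lt (K := K) P y hP0 hy')
      have hle : Module.finrank K (W K (P * y)) ≤ j := by omega
      have h3 := ih (P * y) hle w hw
      rw [smul_eq_mul, ← mul_assoc]; exact h3
    · rw [mul_add, ha, hb, add_zero]

theorem pow_finrank_eq_bot [Module.Finite K R] (n : Ideal R) (hn : n ≤ nilradical R) (d : ℕ)
    (hd : Module.finrank K R ≤ d) : ∀ z ∈ n ^ d, z = 0 := by
  intro z hz
  have h1 : Module.finrank K (W K (1 : R)) ≤ d := le_trans (Submodule.finrank_le _) hd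
  have h2 := mul_eq_zero_of_finrank_le (K := K) n hn d 1 h1 z hz
  rwa [one_mul] at h2

end alg

theorem main (A : Type u) [CommRing A] [IsReduced A]
    (S : Type u) [CommRing S] [Algebra A S] (π : S →ₐ[A] A) (I : Ideal S) (d : ℕ)
    [Module.Finite A (S ⧸ I)] [Module.Projective A (S ⧸ I)]
    (hrank : ∀ p : PrimeSpectrum A, Module.rankAtStalk (R := A) (S ⧸ I) p = d)
    (hsupp : RingHom.ker π ≤ I.radical) :
    RingHom.ker π ^ d ≤ I := by
  intro x hx
  rw [← Ideal.Quotient.eq_zero_iff_mem]
  have h1 : ∀ p : PrimeSpectrum A,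
      ((1 : p.asIdeal.ResidueField) ⊗ₜ[A] (Ideal.Quotient.mk I x) :
        p.asIdeal.ResidueField ⊗[A] (S ⧸ I)) = 0 := by
    intro p
    let ψ : S →+* p.asIdeal.ResidueField ⊗[A] (S ⧸ I) :=
      (Algebra.TensorProduct.includeRight :
        (S ⧸ I) →ₐ[A] p.asIdeal.ResidueField ⊗[A] (S ⧸ I)).toRingHom.comp (Ideal.Quotient.mk I)
    have hψ : ∀ s, ψ s = (1 : p.asIdeal.ResidueField) ⊗ₜ[A] (Ideal.Quotient.mk I s) :=
      fun s => rfl
    have hnil : Ideal.map ψ (RingHom.ker π) ≤ nilradical _ := by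
      rw [Ideal.map_le_iff_le_comap]
      intro y hy
      obtain ⟨k, hk⟩ := Ideal.mem_radical_iff.mp (hsupp hy)
      rw [Ideal.mem_comap, mem_nilradical]
      refine ⟨k, ?_⟩
      rw [← map_pow, hψ, Ideal.Quotient.eq_zero_iff_mem.mpr hk, tmul_zero]
    have hmem : ψ x ∈ (Ideal.map ψ (RingHom.ker π)) ^ d := by
      rw [← Ideal.map_pow]; exact Ideal.mem_map_of_mem ψ hx
    have hfr : Module.finrank p.asIdeal.ResidueField
        (p.asIdeal.ResidueField ⊗[A] (S ⧸ I)) ≤ d := by
      have h := Module.rankAtStalk_eq (M := S ⧸ I) p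
      rw [hrank p] at h
      exact le_of_eq h.symm
    exact pow_finrank_eq_bot (K := p.asIdeal.ResidueField) _ hnil d hfr _ hmem
  obtain ⟨n, f, g, -, -, hfg⟩ := Module.Finite.exists_comp_eq_id_of_projective A (S ⧸ I)
  have hg : g (Ideal.Quotient.mk I x) = 0 := by
    funext j
    have hred : (g (Ideal.Quotient.mk I x) j) ∈ nilradical A := by
      rw [nilradical_eq_sInf, Ideal.mem_sInf]
      intro J hJ
      have hJ' : J.IsPrime := hJ
      let p : PrimeSpectrum A := ⟨J, hJ'⟩
      let ℓ : (S ⧸ I) →ₗ[A] A := (LinearMap.proj (R := A) (φ := fun _ : Fin n => A) j).comp g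
      have h2 := congrArg (LinearMap.baseChange p.asIdeal.ResidueField ℓ) (h1 p)
      rw [LinearMap.baseChange_tmul, map_zero] at h2
      have h3 := congrArg (TensorProduct.rid A p.asIdeal.ResidueField) h2
      rw [TensorProduct.rid_tmul, map_zero, ← Algebra.algebraMap_eq_smul_one] at h3
      exact Ideal.algebraMap_residueField_eq_zero.mp h3
    rw [nilradical_eq_zero] at hred
    exact hred
  have hb : Ideal.Quotient.mk I x = f (g (Ideal.Quotient.mk I x)) := by
    rw [← LinearMap.comp_apply, hfg, LinearMap.id_apply]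
  rw [hb, hg, map_zero]

end Groth.Agent.Lib.NilFibH4
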