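import Mathlib

/-! Nilpotent Nakayama-type helpers (lead). -/

namespace Groth.Agent.Lib.NilFree

open TensorProduct

theorem ker_eq_bot_of_split_of_nilpotent {A F P : Type*} [CommRing A] [AddCommGroup F] [Module A F]
    [AddCommGroup P] [Module A P]
    (J : Ideal A) (hJ : IsNilpotent J) (ψ : F →ₗ[A] P) (s : P →ₗ[A] F)
    (hs : ∀ y, ψ (s y) = y)
    (hK : LinearMap.ker ψ ≤ J • (⊤ : Submodule A F)) : LinearMap.ker ψ = ⊥ := by
  set π : F →ₗ[A] F := LinearMap.id - s ∘ₗ ψ with hπ
  have hπK : ∀ y ∈ LinearMap.ker ψ, π y = y := by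
    intro y hy
    simp [hπ, LinearMap.mem_ker.mp hy]
  have hπr : ∀ y, π y ∈ LinearMap.ker ψ := by
    intro y
    rw [LinearMap.mem_ker]
    simp [hπ, hs]
  have hstep : ∀ n : ℕ, LinearMap.ker ψ ≤ J ^ n • (⊤ : Submodule A F) := by
    intro n
    induction n with
    | zero => simp
    | succ n ih =>
      intro y hy
      have h1 : y ∈ J • (⊤ : Submodule A F) := hK hy
      have h2 : π y ∈ Submodule.map π (J • (⊤ : Submodule A F)) := Submodule.mem_map_of_mem h1
      rw [Submodule.map_smul'', hπK y hy] at h2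
      have h3 : Submodule.map π ⊤ ≤ J ^ n • (⊤ : Submodule A F) := by
        rintro _ ⟨z, -, rfl⟩
        exact ih (hπr z)
      have h4 := Submodule.smul_mono (le_refl J) h3 h2
      rwa [← Submodule.mul_smul, ← pow_succ'] at h4
  obtain ⟨n, hn⟩ := hJ
  rw [eq_bot_iff]
  have := hstep n
  rw [hn] at this
  simpa using this

theorem eq_top_of_sup_smul_top_of_nilpotent {A M : Type*} [CommRing A] [AddCommGroup M] [Module A M]
    (J : Ideal A) (hJ : IsNilpotent J) (R' : Submodule A M)
    (h : ⊤ ≤ R' ⊔ J • (⊤ : Submodule A M)) : R' = ⊤ := by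
  have hstep : ∀ n : ℕ, ⊤ ≤ R' ⊔ J ^ n • (⊤ : Submodule A M) := by
    intro n
    induction n with
    | zero => simp
    | succ n ih =>
      calc ⊤ ≤ R' ⊔ J ^ n • (⊤ : Submodule A M) := ih
        _ ≤ R' ⊔ J ^ n • (R' ⊔ J • (⊤ : Submodule A M)) :=
            sup_le_sup_left (Submodule.smul_mono le_rfl h) _
        _ = R' ⊔ (J ^ n • R' ⊔ J ^ n • J • (⊤ : Submodule A M)) := by rw [Submodule.smul_sup]
        _ ≤ R' ⊔ J ^ (n + 1) • (⊤ : Submodule A M) := by
            rw [← Submodule.mul_smul, ← pow_succ]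
            exact sup_le le_sup_left
              (sup_le (le_sup_of_le_left Submodule.smul_le_right) le_sup_right)
  obtain ⟨n, hn⟩ := hJ
  have := hstep n
  rw [hn] at this
  rw [eq_top_iff]
  simpa using this

end Groth.Agent.Lib.NilFree
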