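import Mathlib
import Groth.Prelude
import Groth.Agent.Lib.NilThick2_helper6
import Groth.Agent.Lib.ChevGen_helper7

set_option autoImplicit false
set_option linter.unusedVariables false
set_option linter.unusedTactic false
set_option linter.unreachableTactic false
set_option linter.unusedSectionVars false
set_option linter.style.haveILetI false
set_option linter.deprecated false
set_option maxHeartbeats 1600000

universe u

open CategoryTheory CategoryTheory.Limits AlgebraicGeometry MonoidalCategory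
  CartesianMonoidalCategory TensorProduct

namespace Groth.Agent.Lib.NilGrpLawH4

/-! ### Algebra: maps to flat modules which are bijective modulo a nilpotent ideal -/

section Alg

variable {R : Type*} [CommRing R]

theorem one_tmul_eq_zero_iff (I : Ideal R) (M : Type*) [AddCommGroup M] [Module R M] (x : M) :
    ((1 : R ⧸ I) ⊗ₜ[R] x = 0) ↔ x ∈ I • (⊤ : Submodule R M) := by
  rw [← (TensorProduct.quotTensorEquivQuotSMul M I).map_eq_zero_iff,
    TensorProduct.quotTensorEquivQuotSMul_mk_one_tmul, Submodule.Quotient.mk_eq_zero]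

/-- Nakayama for a nilpotent ideal. -/
theorem eq_top_of_sup_smul_eq_top (I : Ideal R) (hI : IsNilpotent I) {Y : Type*} [AddCommGroup Y]
    [Module R Y] (N : Submodule R Y) (h : N ⊔ I • (⊤ : Submodule R Y) = ⊤) : N = ⊤ := by
  obtain ⟨k, hk⟩ := hI
  have key : ∀ k : ℕ, N ⊔ I ^ k • (⊤ : Submodule R Y) = ⊤ := by
    intro k
    induction k with
    | zero => rw [pow_zero, Ideal.one_eq_top, Submodule.top_smul, sup_top_eq]
    | succ k ih =>
      have h1 : I ^ k • (⊤ : Submodule R Y) ≤ N ⊔ I ^ (k + 1) • (⊤ : Submodule R Y) := by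
        calc I ^ k • (⊤ : Submodule R Y) = I ^ k • (N ⊔ I • (⊤ : Submodule R Y)) := by rw [h]
          _ = I ^ k • N ⊔ I ^ k • (I • (⊤ : Submodule R Y)) := Submodule.smul_sup _ _ _
          _ ≤ N ⊔ I ^ (k + 1) • (⊤ : Submodule R Y) :=
            sup_le_sup Submodule.smul_le_right (by rw [← Submodule.mul_smul, ← pow_succ])
      apply le_antisymm le_top
      calc (⊤ : Submodule R Y) = N ⊔ I ^ k • (⊤ : Submodule R Y) := ih.symm
        _ ≤ N ⊔ I ^ (k + 1) • (⊤ : Submodule R Y) := sup_le le_sup_left h1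
  have h2 := key k
  rw [hk, Ideal.zero_eq_bot, Submodule.bot_smul, sup_bot_eq] at h2
  exact h2

theorem subsingleton_of_smul_top_eq_top (I : Ideal R) (hI : IsNilpotent I) (Y : Type*)
    [AddCommGroup Y] [Module R Y] (h : I • (⊤ : Submodule R Y) = ⊤) : Subsingleton Y := by
  have h1 : (⊥ : Submodule R Y) ⊔ I • (⊤ : Submodule R Y) = ⊤ := by rw [bot_sup_eq, h]
  have h2 := eq_top_of_sup_smul_eq_top I hI ⊥ h1
  exact (Submodule.subsingleton_iff R).1 (subsingleton_of_bot_eq_top h2)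

/-- A linear map to a flat module which is bijective modulo a nilpotent ideal is bijective. -/
theorem bijective_of_flat_of_nilpotent (I : Ideal R) (hI : IsNilpotent I)
    {C B : Type*} [AddCommGroup C] [Module R C] [AddCommGroup B] [Module R B] [Module.Flat R B]
    (θ : C →ₗ[R] B)
    (hsurj : ∀ b : B, ∃ c : C, b - θ c ∈ I • (⊤ : Submodule R B))
    (hinj : ∀ c : C, θ c = 0 → c ∈ I • (⊤ : Submodule R C)) :
    Function.Bijective θ := by
  have hθs : Function.Surjective θ := by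
    rw [← LinearMap.range_eq_top]
    apply eq_top_of_sup_smul_eq_top I hI
    rw [eq_top_iff]
    intro b _
    obtain ⟨c, hc⟩ := hsurj b
    have : b = θ c + (b - θ c) := by abel
    rw [this]
    exact Submodule.add_mem_sup (LinearMap.mem_range_self θ c) hc
  refine ⟨?_, hθs⟩
  obtain ⟨K, hK⟩ : ∃ K : Submodule R C, K = LinearMap.ker θ := ⟨_, rfl⟩
  have hex : Function.Exact K.subtype θ := by
    rw [hK]; exact LinearMap.exact_subtype_ker_map θ
  have hinjT : Function.Injective (K.subtype.lTensor (R ⧸ I)) :=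
    LinearMap.lTensor_injective_of_exact_of_flat θ hθs K.subtype (Submodule.injective_subtype K)
      hex (R ⧸ I)
  have hKtop : I • (⊤ : Submodule R K) = ⊤ := by
    rw [eq_top_iff]
    intro y _
    rw [← one_tmul_eq_zero_iff I K y]
    apply hinjT
    rw [LinearMap.lTensor_tmul, map_zero, one_tmul_eq_zero_iff I C]
    apply hinj
    have hy : (y : C) ∈ LinearMap.ker θ := hK ▸ y.2
    exact LinearMap.mem_ker.mp hy
  haveI : Subsingleton K := subsingleton_of_smul_top_eq_top I hI K hKtop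
  rw [← LinearMap.ker_eq_bot, ← hK]
  exact (Submodule.subsingleton_iff_eq_bot).mp inferInstance

theorem bijective_of_isPushout_flat {R₁ B C R₀ B₀ C₀ : CommRingCat.{u}}
    {αB : R₁ ⟶ B} {αC : R₁ ⟶ C} {π : R₁ ⟶ R₀} {ψB : B ⟶ B₀} {βB : R₀ ⟶ B₀}
    {ψC : C ⟶ C₀} {βC : R₀ ⟶ C₀}
    (poB : IsPushout αB π ψB βB) (poC : IsPushout αC π ψC βC)
    (hπ : Function.Surjective π.hom) (hnil : IsNilpotent (RingHom.ker π.hom))
    (hflat : αB.hom.Flat)
    (θ : C ⟶ B) (h1 : αC ≫ θ = αB)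
    (θ₀ : C₀ ⟶ B₀) (hθ₀ : Function.Bijective θ₀.hom) (h2 : θ ≫ ψB = ψC ≫ θ₀) :
    Function.Bijective θ.hom := by
  obtain ⟨hψBs, hψBk⟩ := Groth.Agent.Lib.NilThick_helper6.pushout_surjective_ker π.hom hπ αB.hom
    βB.hom ψB.hom poB.flip
  obtain ⟨hψCs, hψCk⟩ := Groth.Agent.Lib.NilThick_helper6.pushout_surjective_ker π.hom hπ αC.hom
    βC.hom ψC.hom poC.flip
  letI : Algebra R₁ B := αB.hom.toAlgebra
  letI : Algebra R₁ C := αC.hom.toAlgebra
  haveI : Module.Flat R₁ B := hflat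
  have h1' : ∀ r : R₁, θ.hom (αC.hom r) = αB.hom r := fun r => congrArg (fun g => g.hom r) h1
  have h2' : ∀ c : C, ψB.hom (θ.hom c) = θ₀.hom (ψC.hom c) :=
    fun c => congrArg (fun g => g.hom c) h2
  let θl : C →ₗ[R₁] B :=
    { toFun := θ.hom
      map_add' := map_add _
      map_smul' := fun r c => by
        show θ.hom (αC.hom r * c) = αB.hom r * θ.hom c
        rw [map_mul, h1'] }
  have hθl : ∀ c, θl c = θ.hom c := fun c => rfl
  have key := bijective_of_flat_of_nilpotent (RingHom.ker π.hom) hnil θl ?_ ?_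
  · exact key
  · intro b
    obtain ⟨c₀, hc₀⟩ := hθ₀.2 (ψB.hom b)
    obtain ⟨c, hc⟩ := hψCs c₀
    refine ⟨c, ?_⟩
    have hk : b - θ.hom c ∈ RingHom.ker ψB.hom := by
      rw [RingHom.mem_ker, map_sub, h2', hc, hc₀, sub_self]
    rw [hθl, Ideal.smul_top_eq_map]
    exact hψBk hk
  · intro c hc
    rw [hθl] at hc
    have hk : c ∈ RingHom.ker ψC.hom := by
      rw [RingHom.mem_ker]
      apply hθ₀.1
      rw [← h2', hc, map_zero, map_zero]
    rw [Ideal.smul_top_eq_map]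
    exact hψCk hk

end Alg

/-! ### Schemes: a morphism of flat schemes which is an isomorphism modulo a nilpotent ideal -/

section Sch

set_option backward.isDefEq.respectTransparency false in
theorem isIso_of_forall_affine {Y Z : Scheme.{u}} (φ : Y ⟶ Z)
    (key : ∀ V : Z.Opens, IsAffineOpen V → IsAffineOpen (φ ⁻¹ᵁ V) ∧ IsIso (φ.app V)) : IsIso φ := by
  change MorphismProperty.isomorphisms Scheme φ
  rw [HasAffineProperty.iff_of_iSup_eq_top (P := MorphismProperty.isomorphisms Scheme)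
    (fun V : Z.affineOpens => V) (iSup_affineOpens_eq_top Z)]
  intro V
  refine ⟨?_, ?_⟩
  · change IsAffineOpen (φ ⁻¹ᵁ V.1)
    exact (key V.1 V.2).1
  · rw [morphismRestrict_appTop]
    have hV' : IsAffineOpen (V.1.ι ''ᵁ ⊤) := by
      rw [Scheme.Opens.ι_image_top]
      exact V.2
    have hk := (key _ hV').2
    have h2 : IsIso (Y.presheaf.map (eqToHom (image_morphismRestrict_preimage φ V.1 ⊤)).op) := by
      infer_instance
    exact @IsIso.comp_isIso _ _ _ _ _ _ _ hk h2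

theorem isIso_of_thickening {S S₀ : Scheme.{u}} (i : S₀ ⟶ S) [IsClosedImmersion i] [Surjective i]
    [IsAffine S] [IsAffine S₀]
    (hπ : Function.Surjective (i.appLE ⊤ ⊤ le_top).hom)
    (hnil : IsNilpotent (RingHom.ker (i.appLE ⊤ ⊤ le_top).hom))
    {Y Z : Scheme.{u}} (pY : Y ⟶ S) (pZ : Z ⟶ S) [Flat pY] (φ : Y ⟶ Z) (hφ : φ ≫ pZ = pY)
    (φ₀ : pullback pY i ⟶ pullback pZ i) [IsIso φ₀]
    (hsq : φ₀ ≫ pullback.fst pZ i = pullback.fst pY i ≫ φ)
    (hsq2 : φ₀ ≫ pullback.snd pZ i = pullback.snd pY i) : IsIso φ := by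
  have key : ∀ V : Z.Opens, IsAffineOpen V → IsAffineOpen (φ ⁻¹ᵁ V) ∧ IsIso (φ.app V) := by
    intro V hV
    have hpre : pullback.fst pY i ⁻¹ᵁ (φ ⁻¹ᵁ V) = φ₀ ⁻¹ᵁ (pullback.fst pZ i ⁻¹ᵁ V) := by
      rw [← Scheme.Hom.comp_preimage, ← Scheme.Hom.comp_preimage, hsq]
    have hW : IsAffineOpen (pullback.fst pY i ⁻¹ᵁ (φ ⁻¹ᵁ V)) := by
      rw [hpre]
      exact (hV.preimage (pullback.fst pZ i)).preimage φ₀
    have hU : IsAffineOpen (φ ⁻¹ᵁ V) := by
      haveI : IsAffine ((pullback.fst pY i ⁻¹ᵁ (φ ⁻¹ᵁ V)).toScheme) := hW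
      haveI : Surjective (pullback.fst pY i ∣_ (φ ⁻¹ᵁ V)) :=
        IsZariskiLocalAtTarget.restrict (P := @Surjective) inferInstance _
      exact Groth.Agent.Lib.ChevGenH7.isAffine_of_surjective_universallyClosed
        (pullback.fst pY i ∣_ (φ ⁻¹ᵁ V))
    refine ⟨hU, ?_⟩
    have hUS : (φ ⁻¹ᵁ V) ≤ pY ⁻¹ᵁ ⊤ := le_top
    have hVS : V ≤ pZ ⁻¹ᵁ ⊤ := le_top
    have hiV : (⊤ : S₀.Opens) ≤ i ⁻¹ᵁ ⊤ := le_top
    obtain ⟨haffB, poB⟩ := Groth.Agent.Lib.NilThick_helper6.isPushout_appLE_of_isPullback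
      (IsPullback.of_hasPullback pY i) (isAffineOpen_top S) (isAffineOpen_top S₀) hU hiV hUS
    obtain ⟨haffC, poC⟩ := Groth.Agent.Lib.NilThick_helper6.isPushout_appLE_of_isPullback
      (IsPullback.of_hasPullback pZ i) (isAffineOpen_top S) (isAffineOpen_top S₀) hV hiV hVS
    have hUV₀ : pullback.fst pY i ⁻¹ᵁ (φ ⁻¹ᵁ V) ⊓ pullback.snd pY i ⁻¹ᵁ ⊤ =
        φ₀ ⁻¹ᵁ (pullback.fst pZ i ⁻¹ᵁ V ⊓ pullback.snd pZ i ⁻¹ᵁ ⊤) := by
      rw [hpre]
      have h3 : pullback.snd pY i ⁻¹ᵁ ⊤ = φ₀ ⁻¹ᵁ (pullback.snd pZ i ⁻¹ᵁ ⊤) := by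
        rw [← Scheme.Hom.comp_preimage, hsq2]
      rw [h3]
      rfl
    have e₀ : pullback.fst pY i ⁻¹ᵁ (φ ⁻¹ᵁ V) ⊓ pullback.snd pY i ⁻¹ᵁ ⊤ ≤
        φ₀ ⁻¹ᵁ (pullback.fst pZ i ⁻¹ᵁ V ⊓ pullback.snd pZ i ⁻¹ᵁ ⊤) := hUV₀.le
    have hiso : ∀ (W : (pullback pY i).Opens)
        (hW : W = φ₀ ⁻¹ᵁ (pullback.fst pZ i ⁻¹ᵁ V ⊓ pullback.snd pZ i ⁻¹ᵁ ⊤))
        (e : W ≤ φ₀ ⁻¹ᵁ (pullback.fst pZ i ⁻¹ᵁ V ⊓ pullback.snd pZ i ⁻¹ᵁ ⊤)),
        IsIso (φ₀.appLE (pullback.fst pZ i ⁻¹ᵁ V ⊓ pullback.snd pZ i ⁻¹ᵁ ⊤) W e) := by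
      intro W hW e
      subst hW
      rw [Scheme.Hom.appLE_eq_app]
      infer_instance
    haveI := hiso _ hUV₀ e₀
    have hθ₀ : Function.Bijective (φ₀.appLE (pullback.fst pZ i ⁻¹ᵁ V ⊓ pullback.snd pZ i ⁻¹ᵁ ⊤)
        (pullback.fst pY i ⁻¹ᵁ (φ ⁻¹ᵁ V) ⊓ pullback.snd pY i ⁻¹ᵁ ⊤) e₀).hom :=
      (ConcreteCategory.isIso_iff_bijective _).mp inferInstance
    have hflat : (pY.appLE ⊤ (φ ⁻¹ᵁ V) hUS).hom.Flat :=
      HasRingHomProperty.appLE (P := @Flat) pY inferInstance ⟨⊤, isAffineOpen_top S⟩ ⟨_, hU⟩ hUS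
    have h1 : pZ.appLE ⊤ V hVS ≫ φ.appLE V (φ ⁻¹ᵁ V) le_rfl = pY.appLE ⊤ (φ ⁻¹ᵁ V) hUS := by
      rw [Scheme.Hom.appLE_comp_appLE]
      have : ∀ (q : Y ⟶ S) (hq : q = pY) (e1 : (φ ⁻¹ᵁ V) ≤ q ⁻¹ᵁ ⊤),
          q.appLE ⊤ (φ ⁻¹ᵁ V) e1 = pY.appLE ⊤ (φ ⁻¹ᵁ V) hUS := by
        rintro _ rfl _; rfl
      exact this _ hφ _
    have h2 : φ.appLE V (φ ⁻¹ᵁ V) le_rfl ≫ (pullback.fst pY i).appLE (φ ⁻¹ᵁ V)
          (pullback.fst pY i ⁻¹ᵁ (φ ⁻¹ᵁ V) ⊓ pullback.snd pY i ⁻¹ᵁ ⊤) inf_le_left =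
        (pullback.fst pZ i).appLE V (pullback.fst pZ i ⁻¹ᵁ V ⊓ pullback.snd pZ i ⁻¹ᵁ ⊤)
          inf_le_left ≫
        φ₀.appLE (pullback.fst pZ i ⁻¹ᵁ V ⊓ pullback.snd pZ i ⁻¹ᵁ ⊤)
          (pullback.fst pY i ⁻¹ᵁ (φ ⁻¹ᵁ V) ⊓ pullback.snd pY i ⁻¹ᵁ ⊤) e₀ := by
      rw [Scheme.Hom.appLE_comp_appLE, Scheme.Hom.appLE_comp_appLE]
      have : ∀ (q q' : pullback pY i ⟶ Z) (hq : q = q')
          (e1 : pullback.fst pY i ⁻¹ᵁ (φ ⁻¹ᵁ V) ⊓ pullback.snd pY i ⁻¹ᵁ ⊤ ≤ q ⁻¹ᵁ V)
          (e2 : pullback.fst pY i ⁻¹ᵁ (φ ⁻¹ᵁ V) ⊓ pullback.snd pY i ⁻¹ᵁ ⊤ ≤ q' ⁻¹ᵁ V),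
          q.appLE V _ e1 = q'.appLE V _ e2 := by
        rintro _ _ rfl _ _; rfl
      exact this _ _ hsq.symm _ _
    have hbij := bijective_of_isPushout_flat poB poC hπ hnil hflat
      (φ.appLE V (φ ⁻¹ᵁ V) le_rfl) h1 _ hθ₀ h2
    have : IsIso (φ.appLE V (φ ⁻¹ᵁ V) le_rfl) := (ConcreteCategory.isIso_iff_bijective _).mpr hbij
    rw [Scheme.Hom.appLE_eq_app] at this
    exact this
  exact isIso_of_forall_affine φ key

variable {R : Type u} [CommRing R] (I : Ideal R)

theorem surjective_Spec_mk (hI : IsNilpotent I) :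
    Surjective (Spec.map (CommRingCat.ofHom (Ideal.Quotient.mk I))) := by
  constructor
  intro q
  have hle : I ≤ (show PrimeSpectrum R from q).asIdeal := by
    intro x hx
    obtain ⟨n, hn⟩ := hI
    have h0 : x ^ n ∈ (show PrimeSpectrum R from q).asIdeal := by
      have : x ^ n ∈ I ^ n := Ideal.pow_mem_pow hx n
      rw [hn, Ideal.zero_eq_bot, Ideal.mem_bot] at this
      rw [this]; exact Ideal.zero_mem _
    exact (show PrimeSpectrum R from q).2.mem_of_pow_mem n h0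
  have hr : (show PrimeSpectrum R from q) ∈
      Set.range (PrimeSpectrum.comap (Ideal.Quotient.mk I)) := by
    rw [range_comap_of_surjective _ _ Ideal.Quotient.mk_surjective,
      PrimeSpectrum.mem_zeroLocus, Ideal.mk_ker]
    exact hle
  obtain ⟨q', hq'⟩ := hr
  exact ⟨q', hq'⟩

theorem isClosedImmersion_Spec_mk :
    IsClosedImmersion (Spec.map (CommRingCat.ofHom (Ideal.Quotient.mk I))) :=
  IsClosedImmersion.spec_of_surjective _ Ideal.Quotient.mk_surjective

theorem appLE_top_data (hI : IsNilpotent I) :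
    Function.Surjective ((Spec.map (CommRingCat.ofHom (Ideal.Quotient.mk I))).appLE ⊤ ⊤ le_top).hom ∧
      IsNilpotent (RingHom.ker
        ((Spec.map (CommRingCat.ofHom (Ideal.Quotient.mk I))).appLE ⊤ ⊤ le_top).hom) := by
  obtain ⟨i, hi⟩ : ∃ i, i = Spec.map (CommRingCat.ofHom (Ideal.Quotient.mk I)) := ⟨_, rfl⟩
  rw [← hi]
  have hiV : (⊤ : (Spec (CommRingCat.of (R ⧸ I))).Opens) ≤ i ⁻¹ᵁ ⊤ := fun _ _ => trivial
  have hi3 : i.appLE ⊤ ⊤ hiV = (Scheme.ΓSpecIso (CommRingCat.of R)).hom ≫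
      CommRingCat.ofHom (Ideal.Quotient.mk I) ≫
        (Scheme.ΓSpecIso (CommRingCat.of (R ⧸ I))).inv := by
    subst hi
    rw [← Scheme.ΓSpecIso_naturality_assoc, Iso.hom_inv_id, Category.comp_id]
    have h5 : ∀ (f : Spec (CommRingCat.of (R ⧸ I)) ⟶ Spec (CommRingCat.of R))
        (e : (⊤ : (Spec (CommRingCat.of (R ⧸ I))).Opens) ≤ f ⁻¹ᵁ ⊤), f.appLE ⊤ ⊤ e = f.appTop := by
      intro f e
      have h6 : f.appLE ⊤ ⊤ e = f.appTop ≫
          (Spec (CommRingCat.of (R ⧸ I))).presheaf.map (𝟙 (Opposite.op ⊤)) := rfl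
      rw [h6, CategoryTheory.Functor.map_id]
      exact Category.comp_id _
    exact h5 _ _
  have hπ : Function.Surjective (i.appLE ⊤ ⊤ hiV).hom := by
    intro y
    obtain ⟨x, hx⟩ := Ideal.Quotient.mk_surjective
      ((Scheme.ΓSpecIso (CommRingCat.of (R ⧸ I))).hom y)
    refine ⟨(Scheme.ΓSpecIso (CommRingCat.of R)).inv x, ?_⟩
    rw [hi3]
    change (Scheme.ΓSpecIso (CommRingCat.of (R ⧸ I))).inv (Ideal.Quotient.mk I
      ((Scheme.ΓSpecIso (CommRingCat.of R)).hom ((Scheme.ΓSpecIso (CommRingCat.of R)).inv x))) = y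
    rw [Iso.inv_hom_id_apply, hx, Iso.hom_inv_id_apply]
  have hmemJ : ∀ a, a ∈ RingHom.ker (i.appLE ⊤ ⊤ hiV).hom →
      (Scheme.ΓSpecIso (CommRingCat.of R)).hom a ∈ I := by
    intro a ha
    rw [RingHom.mem_ker, hi3] at ha
    change (Scheme.ΓSpecIso (CommRingCat.of (R ⧸ I))).inv (Ideal.Quotient.mk I
      ((Scheme.ΓSpecIso (CommRingCat.of R)).hom a)) = 0 at ha
    have h3 := congrArg (Scheme.ΓSpecIso (CommRingCat.of (R ⧸ I))).hom ha
    rw [Iso.inv_hom_id_apply, map_zero] at h3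
    exact Ideal.Quotient.eq_zero_iff_mem.mp h3
  refine ⟨hπ, ?_⟩
  obtain ⟨n, hn⟩ := hI
  refine ⟨n, ?_⟩
  rw [Ideal.zero_eq_bot, ← le_bot_iff]
  have hle : RingHom.ker (i.appLE ⊤ ⊤ hiV).hom ≤
      Ideal.comap (Scheme.ΓSpecIso (CommRingCat.of R)).hom.hom I := fun a ha => hmemJ a ha
  calc RingHom.ker (i.appLE ⊤ ⊤ hiV).hom ^ n
      ≤ (Ideal.comap (Scheme.ΓSpecIso (CommRingCat.of R)).hom.hom I) ^ n :=
        Ideal.pow_right_mono hle n
    _ ≤ Ideal.comap (Scheme.ΓSpecIso (CommRingCat.of R)).hom.hom (I ^ n) := Ideal.le_comap_pow _ n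
    _ ≤ ⊥ := by
        intro a ha
        rw [hn, Ideal.zero_eq_bot, Ideal.mem_comap, Ideal.mem_bot] at ha
        have h4 := congrArg (Scheme.ΓSpecIso (CommRingCat.of R)).inv ha
        rw [Iso.hom_inv_id_apply, map_zero] at h4
        rw [Ideal.mem_bot]
        exact h4

theorem isIso_over (hI : IsNilpotent I) {Y Z : Over (Spec (CommRingCat.of R))} [Flat Y.hom]
    (φ : Y ⟶ Z)
    (h : IsIso ((Over.pullback (Spec.map (CommRingCat.ofHom (Ideal.Quotient.mk I)))).map φ)) :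
    IsIso φ := by
  haveI := surjective_Spec_mk I hI
  haveI := isClosedImmersion_Spec_mk I
  obtain ⟨hπ, hnil⟩ := appLE_top_data I hI
  haveI : IsIso ((Over.pullback (Spec.map (CommRingCat.ofHom (Ideal.Quotient.mk I)))).map φ).left :=
    (inferInstance : IsIso ((Over.forget _).map
      ((Over.pullback (Spec.map (CommRingCat.ofHom (Ideal.Quotient.mk I)))).map φ)))
  haveI : IsIso φ.left := isIso_of_thickening
    (Spec.map (CommRingCat.ofHom (Ideal.Quotient.mk I))) hπ hnil Y.hom Z.hom φ.left (Over.w φ)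
    ((Over.pullback (Spec.map (CommRingCat.ofHom (Ideal.Quotient.mk I)))).map φ).left
    (pullback.lift_fst _ _ _) (pullback.lift_snd _ _ _)
  haveI : IsIso ((Over.forget (Spec (CommRingCat.of R))).map φ) := this
  exact isIso_of_reflects_iso φ (Over.forget _)

end Sch

/-! ### Abstract: an associative law with invertible shear maps and a unit is a group law -/

section Abstract

variable {C : Type*} [Category C] [CartesianMonoidalCategory C] {X : C} (P : X ⊗ X ⟶ X)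

/-- The product of two `T`-points. -/
def star {T : C} (a b : T ⟶ X) : T ⟶ X := lift a b ≫ P

theorem comp_star {T T' : C} (f : T' ⟶ T) (a b : T ⟶ X) :
    f ≫ star P a b = star P (f ≫ a) (f ≫ b) := by
  rw [star, star, ← Category.assoc, comp_lift]

theorem star_assoc (hassoc : (P ▷ X) ≫ P = (α_ X X X).hom ≫ (X ◁ P) ≫ P) {T : C}
    (a b c : T ⟶ X) : star P (star P a b) c = star P a (star P b c) := by
  have h1 : lift (lift a b ≫ P) c = lift (lift a b) c ≫ (P ▷ X) := (lift_whiskerRight _ _ _).symm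
  have h2 : lift (lift a b) c ≫ (α_ X X X).hom = lift a (lift b c) := by
    ext <;> simp
  calc star P (star P a b) c = lift (lift a b ≫ P) c ≫ P := rfl
    _ = lift (lift a b) c ≫ (P ▷ X) ≫ P := by rw [h1, Category.assoc]
    _ = lift (lift a b) c ≫ (α_ X X X).hom ≫ (X ◁ P) ≫ P := by rw [hassoc]
    _ = (lift (lift a b) c ≫ (α_ X X X).hom) ≫ (X ◁ P) ≫ P := by rw [Category.assoc]
    _ = lift a (lift b c) ≫ (X ◁ P) ≫ P := by rw [h2]
    _ = (lift a (lift b c) ≫ (X ◁ P)) ≫ P := by rw [Category.assoc]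
    _ = lift a (lift b c ≫ P) ≫ P := by rw [lift_whiskerLeft]
    _ = star P a (star P b c) := rfl

theorem lift_comp_sigma {T : C} (a b : T ⟶ X) :
    lift a b ≫ lift (fst X X) P = lift a (star P a b) := by
  rw [comp_lift, lift_fst]; rfl

theorem lift_comp_tau {T : C} (a b : T ⟶ X) :
    lift a b ≫ lift P (snd X X) = lift (star P a b) b := by
  rw [comp_lift, lift_snd]; rfl

theorem star_left_cancel [IsIso (lift (fst X X) P)] {T : C} (a b b' : T ⟶ X)
    (h : star P a b = star P a b') : b = b' := by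
  have h1 : lift a b ≫ lift (fst X X) P = lift a b' ≫ lift (fst X X) P := by
    rw [lift_comp_sigma, lift_comp_sigma, h]
  have h2 : lift a b = lift a b' := (cancel_mono _).mp h1
  have h3 : lift a b ≫ snd X X = lift a b' ≫ snd X X := by rw [h2]
  rw [lift_snd, lift_snd] at h3
  exact h3

theorem star_right_cancel [IsIso (lift P (snd X X))] {T : C} (a a' b : T ⟶ X)
    (h : star P a b = star P a' b) : a = a' := by
  have h1 : lift a b ≫ lift P (snd X X) = lift a' b ≫ lift P (snd X X) := by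
    rw [lift_comp_tau, lift_comp_tau, h]
  have h2 : lift a b = lift a' b := (cancel_mono _).mp h1
  have h3 : lift a b ≫ fst X X = lift a' b ≫ fst X X := by rw [h2]
  rw [lift_fst, lift_fst] at h3
  exact h3

theorem exists_star_right [IsIso (lift (fst X X) P)] {T : C} (a c : T ⟶ X) :
    ∃ b : T ⟶ X, star P a b = c := by
  obtain ⟨w, hw⟩ : ∃ w : T ⟶ X ⊗ X, w = lift a c ≫ inv (lift (fst X X) P) := ⟨_, rfl⟩
  have h0 : w ≫ lift (fst X X) P = lift a c := by
    rw [hw, Category.assoc, IsIso.inv_hom_id, Category.comp_id]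
  have h1 : w ≫ fst X X = a := by
    have h := congrArg (fun g => g ≫ fst X X) h0
    simp only [Category.assoc, lift_fst] at h
    exact h
  have h2 : w ≫ P = c := by
    have h := congrArg (fun g => g ≫ snd X X) h0
    simp only [Category.assoc, lift_snd] at h
    exact h
  refine ⟨w ≫ snd X X, ?_⟩
  have h3 : lift a (w ≫ snd X X) = w := by
    apply CartesianMonoidalCategory.hom_ext
    · rw [lift_fst, h1]
    · rw [lift_snd]
  rw [star, h3, h2]

theorem exists_star_left [IsIso (lift P (snd X X))] {T : C} (b c : T ⟶ X) :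
    ∃ a : T ⟶ X, star P a b = c := by
  obtain ⟨w, hw⟩ : ∃ w : T ⟶ X ⊗ X, w = lift c b ≫ inv (lift P (snd X X)) := ⟨_, rfl⟩
  have h0 : w ≫ lift P (snd X X) = lift c b := by
    rw [hw, Category.assoc, IsIso.inv_hom_id, Category.comp_id]
  have h1 : w ≫ snd X X = b := by
    have h := congrArg (fun g => g ≫ snd X X) h0
    simp only [Category.assoc, lift_snd] at h
    exact h
  have h2 : w ≫ P = c := by
    have h := congrArg (fun g => g ≫ fst X X) h0
    simp only [Category.assoc, lift_fst] at h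
    exact h
  refine ⟨w ≫ fst X X, ?_⟩
  have h3 : lift (w ≫ fst X X) b = w := by
    apply CartesianMonoidalCategory.hom_ext
    · rw [lift_fst]
    · rw [lift_snd, h1]
  rw [star, h3, h2]

theorem e_const (hassoc : (P ▷ X) ≫ P = (α_ X X X).hom ≫ (X ◁ P) ≫ P)
    [IsIso (lift (fst X X) P)] [IsIso (lift P (snd X X))] (e : X ⟶ X)
    (he : star P (𝟙 X) e = 𝟙 X) {T : C} (a a' : T ⟶ X) : a ≫ e = a' ≫ e := by
  have h1 : ∀ a : T ⟶ X, star P a (a ≫ e) = a := by
    intro a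
    have h := comp_star P a (𝟙 X) e
    simp only [he, Category.comp_id] at h
    exact h.symm
  have h2 : ∀ a z : T ⟶ X, star P z (a ≫ e) = z := by
    intro a z
    obtain ⟨y, hy⟩ := exists_star_left P a z
    rw [← hy, star_assoc P hassoc, h1]
  apply star_left_cancel P a
  rw [h1, h2]

theorem exists_grpObj (hassoc : (P ▷ X) ≫ P = (α_ X X X).hom ≫ (X ◁ P) ≫ P)
    (hσ : IsIso (lift (fst X X) P)) (hτ : IsIso (lift P (snd X X))) (η : 𝟙_ C ⟶ X)
    (hη : star P (𝟙 X) (toUnit X ≫ η) = 𝟙 X) : ∃ G : GrpObj X, G.toMonObj.mul = P := by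
  haveI := hσ
  haveI := hτ
  have hone : ∀ {T : C} (z : T ⟶ X), star P z (toUnit T ≫ η) = z := by
    intro T z
    have h := comp_star P z (𝟙 X) (toUnit X ≫ η)
    simp only [hη, Category.comp_id] at h
    rw [← Category.assoc, toUnit_unique (z ≫ toUnit X) (toUnit T)] at h
    exact h.symm
  have hone' : ∀ {T : C} (z : T ⟶ X), star P (toUnit T ≫ η) z = z := by
    intro T z
    apply star_left_cancel P z
    rw [← star_assoc P hassoc, hone]
  obtain ⟨iv, hiv⟩ := exists_star_right P (𝟙 X) (toUnit X ≫ η)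
  have hiv' : star P iv (𝟙 X) = toUnit X ≫ η := by
    apply star_left_cancel P (𝟙 X)
    rw [← star_assoc P hassoc, hiv, hone', hone]
  refine ⟨{ one := η, mul := P, one_mul := ?_, mul_one := ?_, mul_assoc := hassoc, inv := iv,
            left_inv := ?_, right_inv := ?_ }, rfl⟩
  · rw [leftUnitor_hom]
    have h1 : η ▷ X = lift (fst (𝟙_ C) X ≫ η) (snd (𝟙_ C) X) := by
      apply CartesianMonoidalCategory.hom_ext
      · rw [whiskerRight_fst, lift_fst]
      · rw [whiskerRight_snd, lift_snd]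
    rw [h1, toUnit_unique (fst (𝟙_ C) X) (toUnit _)]
    exact hone' _
  · rw [rightUnitor_hom]
    have h1 : X ◁ η = lift (fst X (𝟙_ C)) (snd X (𝟙_ C) ≫ η) := by
      apply CartesianMonoidalCategory.hom_ext
      · rw [whiskerLeft_fst, lift_fst]
      · rw [whiskerLeft_snd, lift_snd]
    rw [h1, toUnit_unique (snd X (𝟙_ C)) (toUnit _)]
    exact hone _
  · exact hiv'
  · exact hiv

end Abstract

/-! ### Shear maps of a group object, and transfer along a monoidal functor -/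

section Shear

open MonObj

variable {D : Type*} [Category D] [CartesianMonoidalCategory D]

theorem isIso_shearL (G : D) [GrpObj G] : IsIso (lift (fst G G) μ[G]) := by
  have hμ : (μ[G] : G ⊗ G ⟶ G) = fst G G * snd G G := MonObj.mul_eq_mul G
  refine ⟨lift (fst G G) ((fst G G)⁻¹ * snd G G), ?_, ?_⟩
  · apply CartesianMonoidalCategory.hom_ext
    · rw [Category.assoc, lift_fst, lift_fst, Category.id_comp]
    · rw [Category.assoc, lift_snd, MonObj.comp_mul, GrpObj.comp_inv, lift_fst, lift_snd, hμ,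
        Category.id_comp, inv_mul_cancel_left]
  · apply CartesianMonoidalCategory.hom_ext
    · rw [Category.assoc, lift_fst, lift_fst, Category.id_comp]
    · rw [Category.assoc, lift_snd, Category.id_comp, hμ, MonObj.comp_mul, lift_fst, lift_snd,
        mul_inv_cancel_left]

theorem isIso_shearR (G : D) [GrpObj G] : IsIso (lift μ[G] (snd G G)) := by
  have hμ : (μ[G] : G ⊗ G ⟶ G) = fst G G * snd G G := MonObj.mul_eq_mul G
  refine ⟨lift (fst G G * (snd G G)⁻¹) (snd G G), ?_, ?_⟩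
  · apply CartesianMonoidalCategory.hom_ext
    · rw [Category.assoc, lift_fst, MonObj.comp_mul, GrpObj.comp_inv, lift_fst, lift_snd, hμ,
        Category.id_comp, mul_inv_cancel_right]
    · rw [Category.assoc, lift_snd, lift_snd, Category.id_comp]
  · apply CartesianMonoidalCategory.hom_ext
    · rw [Category.assoc, lift_fst, Category.id_comp, hμ, MonObj.comp_mul, lift_fst, lift_snd,
        inv_mul_cancel_right]
    · rw [Category.assoc, lift_snd, lift_snd, Category.id_comp]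

variable {C : Type*} [Category C] [CartesianMonoidalCategory C]

theorem isIso_map_shearL (F : C ⥤ D) [F.Monoidal] {X : C} (P : X ⊗ X ⟶ X) [GrpObj (F.obj X)]
    (hμ : μ[F.obj X] = Functor.LaxMonoidal.μ F X X ≫ F.map P) :
    IsIso (F.map (lift (fst X X) P)) := by
  have h1 : F.map (lift (fst X X) P) =
      lift (F.map (fst X X)) (F.map P) ≫ Functor.LaxMonoidal.μ F X X :=
    (Functor.Monoidal.lift_μ (F := F) (fst X X) P).symm
  have h2 : Functor.LaxMonoidal.μ F X X ≫ lift (F.map (fst X X)) (F.map P) =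
      lift (fst (F.obj X) (F.obj X)) μ[F.obj X] := by
    rw [comp_lift, Functor.Monoidal.μ_fst, ← hμ]
  haveI := isIso_shearL (F.obj X)
  have h3 : IsIso (lift (F.map (fst X X)) (F.map P)) := by
    have h4 : lift (F.map (fst X X)) (F.map P) =
        inv (Functor.LaxMonoidal.μ F X X) ≫ lift (fst (F.obj X) (F.obj X)) μ[F.obj X] := by
      rw [← h2, IsIso.inv_hom_id_assoc]
    rw [h4]
    infer_instance
  rw [h1]
  infer_instance

theorem isIso_map_shearR (F : C ⥤ D) [F.Monoidal] {X : C} (P : X ⊗ X ⟶ X) [GrpObj (F.obj X)]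
    (hμ : μ[F.obj X] = Functor.LaxMonoidal.μ F X X ≫ F.map P) :
    IsIso (F.map (lift P (snd X X))) := by
  have h1 : F.map (lift P (snd X X)) =
      lift (F.map P) (F.map (snd X X)) ≫ Functor.LaxMonoidal.μ F X X :=
    (Functor.Monoidal.lift_μ (F := F) P (snd X X)).symm
  have h2 : Functor.LaxMonoidal.μ F X X ≫ lift (F.map P) (F.map (snd X X)) =
      lift μ[F.obj X] (snd (F.obj X) (F.obj X)) := by
    rw [comp_lift, Functor.Monoidal.μ_snd, ← hμ]
  haveI := isIso_shearR (F.obj X)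
  have h3 : IsIso (lift (F.map P) (F.map (snd X X))) := by
    have h4 : lift (F.map P) (F.map (snd X X)) =
        inv (Functor.LaxMonoidal.μ F X X) ≫ lift μ[F.obj X] (snd (F.obj X) (F.obj X)) := by
      rw [← h2, IsIso.inv_hom_id_assoc]
    rw [h4]
    infer_instance
  rw [h1]
  infer_instance

end Shear

/-! ### Descent of the unit section -/

section Descent

theorem exists_unit_of_const {S : Scheme.{u}} (X : Over S) [Flat X.hom] [Surjective X.hom]
    (hX : QuasiCompact X.hom ∨ LocallyOfFinitePresentation X.hom) (e : X ⟶ X)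
    (hconst : ∀ (T : Over S) (a a' : T ⟶ X), a ≫ e = a' ≫ e) :
    ∃ η : 𝟙_ (Over S) ⟶ X, toUnit X ≫ η = e := by
  haveI : EffectiveEpi X.hom := by
    rcases hX with h | h
    · haveI := h; infer_instance
    · haveI := h; infer_instance
  have hcoeq : ∀ {Z : Scheme.{u}} (g₁ g₂ : Z ⟶ X.left), g₁ ≫ X.hom = g₂ ≫ X.hom →
      g₁ ≫ e.left = g₂ ≫ e.left := by
    intro Z g₁ g₂ h
    have h' := hconst (Over.mk (g₁ ≫ X.hom)) (Over.homMk g₁ rfl) (Over.homMk g₂ h.symm)
    exact congrArg CommaMorphism.left h'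
  obtain ⟨η₀, hη₀⟩ : ∃ η₀ : S ⟶ X.left, X.hom ≫ η₀ = e.left :=
    ⟨EffectiveEpi.desc X.hom e.left hcoeq, EffectiveEpi.fac X.hom e.left hcoeq⟩
  have hsec : η₀ ≫ X.hom = 𝟙 S := by
    haveI : Epi X.hom := inferInstance
    rw [← cancel_epi X.hom, ← Category.assoc, hη₀, Over.w e, Category.comp_id]
  refine ⟨(Over.homMk η₀ hsec : 𝟙_ (Over S) ⟶ X), ?_⟩
  apply Over.OverMorphism.ext
  show (toUnit X).left ≫ η₀ = e.left
  rw [Over.toUnit_left, hη₀]

end Descent

/-! ### Main theorem -/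

section Main

open MonObj

theorem main8366 (R : Type u) [CommRing R] (I : Ideal R)
    (hI : IsNilpotent I) (X : Over (Spec (CommRingCat.of R))) [Flat X.hom]
    (hX : QuasiCompact X.hom ∨ LocallyOfFinitePresentation X.hom) (P : X ⊗ X ⟶ X)
    (hassoc : (P ▷ X) ≫ P = (α_ X X X).hom ≫ (X ◁ P) ≫ P)
    (h0 : ∃ _ : GrpObj ((Over.pullback (Spec.map (CommRingCat.ofHom (Ideal.Quotient.mk I)))).obj X),
      μ[(Over.pullback (Spec.map (CommRingCat.ofHom (Ideal.Quotient.mk I)))).obj X] =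
        Functor.LaxMonoidal.μ (Over.pullback (Spec.map (CommRingCat.ofHom (Ideal.Quotient.mk I)))) X X ≫ (Over.pullback (Spec.map (CommRingCat.ofHom (Ideal.Quotient.mk I)))).map P) :
    ∃ _ : GrpObj X, μ[X] = P := by
  obtain ⟨G₀, hG₀⟩ := h0
  haveI : Flat (X ⊗ X).hom := by
    show Flat (pullback.fst X.hom X.hom ≫ X.hom)
    infer_instance
  have hσ : IsIso (lift (fst X X) P) := isIso_over I hI _
    (isIso_map_shearL (Over.pullback (Spec.map (CommRingCat.ofHom (Ideal.Quotient.mk I)))) P hG₀)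
  have hτ : IsIso (lift P (snd X X)) := isIso_over I hI _
    (isIso_map_shearR (Over.pullback (Spec.map (CommRingCat.ofHom (Ideal.Quotient.mk I)))) P hG₀)
  haveI := hσ
  haveI := hτ
  -- surjectivity of the structure morphism
  haveI hsurj : Surjective X.hom := by
    haveI := surjective_Spec_mk I hI
    obtain ⟨v, hv⟩ : ∃ v : Spec (CommRingCat.of (R ⧸ I)) ⟶ X.left,
        v ≫ X.hom = Spec.map (CommRingCat.ofHom (Ideal.Quotient.mk I)) := by
      refine ⟨(η[(Over.pullback (Spec.map (CommRingCat.ofHom (Ideal.Quotient.mk I)))).obj X]).left ≫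
        pullback.fst X.hom (Spec.map (CommRingCat.ofHom (Ideal.Quotient.mk I))), ?_⟩
      have hu := Over.w (η[(Over.pullback (Spec.map (CommRingCat.ofHom (Ideal.Quotient.mk I)))).obj X])
      have hu' : (η[(Over.pullback (Spec.map (CommRingCat.ofHom (Ideal.Quotient.mk I)))).obj X]).left ≫
          pullback.snd X.hom (Spec.map (CommRingCat.ofHom (Ideal.Quotient.mk I))) = 𝟙 _ := hu
      rw [Category.assoc, pullback.condition, ← Category.assoc, hu']
      exact Category.id_comp _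
    constructor
    intro s
    obtain ⟨s', rfl⟩ := (Spec.map (CommRingCat.ofHom (Ideal.Quotient.mk I))).surjective s
    refine ⟨v s', ?_⟩
    have h := congrArg (fun g => g.base s') hv
    simpa using h
  obtain ⟨e, he⟩ := exists_star_right P (𝟙 X) (𝟙 X)
  have hconst : ∀ (T : Over (Spec (CommRingCat.of R))) (a a' : T ⟶ X), a ≫ e = a' ≫ e :=
    fun T a a' => e_const P hassoc e he a a'
  obtain ⟨η', hη'⟩ := exists_unit_of_const X hX e hconst
  have hη'' : star P (𝟙 X) (toUnit X ≫ η') = 𝟙 X := by rw [hη']; exact he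
  exact exists_grpObj P hassoc hσ hτ η' hη''

end Main

end Groth.Agent.Lib.NilGrpLawH4
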