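import Mathlib
import Groth.Prelude.Def_FlatCA

/-!
# Limits of rings along surjections with locally nilpotent kernels (algebra part)

`A = lim A' n` with surjective transition maps `φ n : A' (n+1) → A' n` with locally nilpotent
kernels.  Then `π 0 : A → A' 0` is surjective, its kernel lies in the Jacobson radical, and
compatible families of ring maps `B → A' n` lift to `B → A`.
-/

set_option autoImplicit false
universe u

namespace Groth.Agent.Lib.NilLimitH6

variable {A : Type u} [CommRing A] (A' : ℕ → Type u) [∀ n, CommRing (A' n)]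
    (φ : ∀ n, A' (n + 1) →+* A' n) (π : ∀ n, A →+* A' n)

/-- The composite `A' n → A' 0`. -/
def ψ : ∀ n, A' n →+* A' 0
  | 0 => RingHom.id _
  | n + 1 => (ψ n).comp (φ n)

variable {A' φ π}

lemma ψ_comp_π (hlim : FlatCA.IsRingLimit A A' φ π) : ∀ n, (ψ A' φ n).comp (π n) = π 0
  | 0 => by simp [ψ]
  | n + 1 => by
    rw [ψ, RingHom.comp_assoc, hlim.1 n, ψ_comp_π hlim n]

lemma ψ_surjective (hsurj : ∀ n, Function.Surjective (φ n)) :
    ∀ n, Function.Surjective (ψ A' φ n)
  | 0 => Function.surjective_id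
  | n + 1 => (ψ_surjective hsurj n).comp (hsurj n)

lemma ψ_ker_nil (hnil : ∀ n, ∀ x ∈ RingHom.ker (φ n), IsNilpotent x) :
    ∀ n, ∀ x ∈ RingHom.ker (ψ A' φ n), IsNilpotent x
  | 0 => fun x hx => by
    have : x = 0 := by simpa [ψ] using hx
    subst this; exact IsNilpotent.zero
  | n + 1 => fun x hx => by
    have h1 : φ n x ∈ RingHom.ker (ψ A' φ n) := by
      simpa [ψ, RingHom.mem_ker] using hx
    obtain ⟨k, hk⟩ := ψ_ker_nil hnil n _ h1
    have h2 : x ^ k ∈ RingHom.ker (φ n) := by
      rw [RingHom.mem_ker, map_pow, hk]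
    obtain ⟨l, hl⟩ := hnil n _ h2
    exact ⟨k * l, by rw [pow_mul, hl]⟩

/-- `Spec (A' 0) → Spec (A' n)` is surjective. -/
lemma comap_ψ_surjective (hsurj : ∀ n, Function.Surjective (φ n))
    (hnil : ∀ n, ∀ x ∈ RingHom.ker (φ n), IsNilpotent x) (n : ℕ) :
    Function.Surjective (PrimeSpectrum.comap (ψ A' φ n)) := by
  intro p
  have hp : p ∈ Set.range (PrimeSpectrum.comap (ψ A' φ n)) := by
    rw [range_comap_of_surjective _ _ (ψ_surjective hsurj n)]
    intro x hx
    obtain ⟨k, hk⟩ := ψ_ker_nil hnil n x hx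
    exact p.2.mem_of_pow_mem k (by rw [hk]; exact Ideal.zero_mem _)
  exact hp

/-- `π 0` is surjective. -/
lemma π_zero_surjective (hlim : FlatCA.IsRingLimit A A' φ π)
    (hsurj : ∀ n, Function.Surjective (φ n)) : Function.Surjective (π 0) := by
  intro x₀
  let x : ∀ n, A' n := fun n => Nat.rec (motive := fun n => A' n) x₀
    (fun n y => Classical.choose (hsurj n y)) n
  have hx : ∀ n, φ n (x (n + 1)) = x n := fun n => Classical.choose_spec (hsurj n (x n))
  obtain ⟨a, ha⟩ := hlim.2.2 x hx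
  exact ⟨a, ha 0⟩

/-- Elements of `1 + ker (π 0)` are units. -/
lemma isUnit_one_add (hlim : FlatCA.IsRingLimit A A' φ π)
    (hnil : ∀ n, ∀ x ∈ RingHom.ker (φ n), IsNilpotent x) {x : A} (hx : π 0 x = 0) :
    IsUnit (1 + x) := by
  have hnilx : ∀ n, IsNilpotent (π n x) := fun n => by
    apply ψ_ker_nil hnil n
    rw [RingHom.mem_ker, ← RingHom.comp_apply, ψ_comp_π hlim n, hx]
  have hu : ∀ n, IsUnit (π n (1 + x)) := fun n => by
    rw [map_add, map_one, add_comm]
    exact (hnilx n).isUnit_add_one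
  let v : ∀ n, A' n := fun n => ((hu n).unit⁻¹ : (A' n)ˣ)
  have hv : ∀ n, v n * π n (1 + x) = 1 := fun n => by
    simp only [v]; exact (hu n).val_inv_mul
  have hcompat : ∀ n, φ n (v (n + 1)) = v n := fun n => by
    have h1 : φ n (v (n + 1)) * π n (1 + x) = 1 := by
      have := congrArg (φ n) (hv (n + 1))
      rw [map_mul, map_one, ← RingHom.comp_apply, hlim.1 n] at this
      exact this
    calc φ n (v (n + 1)) = φ n (v (n + 1)) * (π n (1 + x) * v n) := by
          rw [mul_comm (π n (1 + x)), hv n, mul_one]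
      _ = (φ n (v (n + 1)) * π n (1 + x)) * v n := by ring
      _ = v n := by rw [h1, one_mul]
  obtain ⟨a, ha⟩ := hlim.2.2 v hcompat
  refine IsUnit.of_mul_eq_one a ?_
  apply hlim.2.1
  intro n
  rw [map_mul, map_one, mul_comm, ha n, hv n]

lemma ker_le_jacobson (hlim : FlatCA.IsRingLimit A A' φ π)
    (hnil : ∀ n, ∀ x ∈ RingHom.ker (φ n), IsNilpotent x) :
    RingHom.ker (π 0) ≤ Ideal.jacobson ⊥ := by
  intro x hx
  rw [Ideal.mem_jacobson_bot]
  intro y
  rw [add_comm]
  apply isUnit_one_add hlim hnil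
  rw [map_mul, (RingHom.mem_ker).mp hx, zero_mul]

/-- An open subset of `Spec A` containing the image of `Spec (A' 0)` is everything. -/
lemma eq_univ_of_range_subset (hlim : FlatCA.IsRingLimit A A' φ π)
    (hsurj : ∀ n, Function.Surjective (φ n))
    (hnil : ∀ n, ∀ x ∈ RingHom.ker (φ n), IsNilpotent x)
    (U : Set (PrimeSpectrum A)) (hU : IsOpen U)
    (hr : Set.range (PrimeSpectrum.comap (π 0)) ⊆ U) : U = Set.univ := by
  rw [Set.eq_univ_iff_forall]
  intro p
  by_contra hp
  obtain ⟨m, hm, hpm⟩ := Ideal.exists_le_maximal p.asIdeal p.2.ne_top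
  let q : PrimeSpectrum A := ⟨m, hm.isPrime⟩
  have hq : q ∈ U := by
    apply hr
    rw [range_comap_of_surjective _ _ (π_zero_surjective hlim hsurj)]
    intro x hx
    have := ker_le_jacobson hlim hnil hx
    rw [Ideal.jacobson, Ideal.mem_sInf] at this
    exact this ⟨bot_le, hm⟩
  -- `q` is a specialization of `p`; opens are stable under generization
  have hspec : p ⤳ q := by
    rw [← PrimeSpectrum.le_iff_specializes]
    exact hpm
  exact hp (hspec.mem_open hU hq)

/-- Compatible families of ring maps into the `A' n` lift to `A`. -/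
lemma exists_lift (hlim : FlatCA.IsRingLimit A A' φ π) {B : Type*} [CommRing B]
    (β : ∀ n, B →+* A' n) (hβ : ∀ n, (φ n).comp (β (n + 1)) = β n) :
    ∃ b : B →+* A, ∀ n, (π n).comp b = β n := by
  have hex : ∀ y : B, ∃ a : A, ∀ n, π n a = β n y := fun y =>
    hlim.2.2 (fun n => β n y) (fun n => by rw [← hβ n]; rfl)
  choose b hb using hex
  have huniq : ∀ {a a' : A}, (∀ n, π n a = π n a') → a = a' := fun h => hlim.2.1 _ _ h
  refine ⟨{ toFun := b, map_one' := ?_, map_mul' := ?_, map_zero' := ?_, map_add' := ?_ }, ?_⟩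
  · apply huniq; intro n; rw [hb, map_one, map_one]
  · intro x y; apply huniq; intro n; rw [hb, map_mul, map_mul, hb, hb]
  · apply huniq; intro n; rw [hb, map_zero, map_zero]
  · intro x y; apply huniq; intro n; rw [hb, map_add, map_add, hb, hb]
  · intro n; ext y; exact hb y n

end Groth.Agent.Lib.NilLimitH6
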