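import Mathlib
import Groth.Agent.Lib.NilLimit1_helper6

/-!
# Monomorphisms locally of finite type to `Spec (lim A' n)` with sections over each `A' n`
-/

set_option autoImplicit false
set_option backward.isDefEq.respectTransparency false
set_option backward.isDefEq.respectTransparency.types false
universe u

open AlgebraicGeometry CategoryTheory

namespace Groth.Agent.Lib.NilLimitH6

theorem isIso_of_sections {A : Type u} [CommRing A] (A' : ℕ → Type u) [∀ n, CommRing (A' n)]
    (φ : ∀ n, A' (n + 1) →+* A' n) (π : ∀ n, A →+* A' n) (hlim : FlatCA.IsRingLimit A A' φ π)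
    (hsurj : ∀ n, Function.Surjective (φ n)) (hnil : ∀ n, ∀ x ∈ RingHom.ker (φ n), IsNilpotent x)
    {T : Scheme.{u}} (h : T ⟶ Spec (CommRingCat.of A)) [Mono h] [LocallyOfFiniteType h]
    (hsec : ∀ n, ∃ g : Spec (CommRingCat.of (A' n)) ⟶ T,
      g ≫ h = Spec.map (CommRingCat.ofHom (π n))) :
    IsIso h := by
  choose g hg using hsec
  have hgψ : ∀ n, Spec.map (CommRingCat.ofHom (ψ A' φ n)) ≫ g n = g 0 := fun n => by
    rw [← cancel_mono h, Category.assoc, hg, hg, ← Spec.map_comp, ← CommRingCat.ofHom_comp,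
      ψ_comp_π hlim n]
  have hgφ : ∀ n, Spec.map (CommRingCat.ofHom (φ n)) ≫ g (n + 1) = g n := fun n => by
    rw [← cancel_mono h, Category.assoc, hg, hg, ← Spec.map_comp, ← CommRingCat.ofHom_comp,
      hlim.1 n]
  have hrange : ∀ n, Set.range (g n) ⊆ Set.range (g 0) := by
    rintro n _ ⟨x, rfl⟩
    obtain ⟨y, rfl⟩ := comap_ψ_surjective hsurj hnil n x
    refine ⟨y, ?_⟩
    rw [← hgψ n]
    rfl
  obtain ⟨W, hWc, hWo, hKW, -⟩ := PrespectralSpace.exists_isCompact_and_isOpen_between
    (isCompact_range (g 0).continuous) isOpen_univ (Set.subset_univ _)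
  let T' : T.Opens := ⟨W, hWo⟩
  haveI : CompactSpace T' := isCompact_iff_compactSpace.mp hWc
  let h' : (T' : Scheme) ⟶ Spec (CommRingCat.of A) := T'.ι ≫ h
  have hg' : ∀ n, ∃ g' : Spec (CommRingCat.of (A' n)) ⟶ T', g' ≫ T'.ι = g n := fun n =>
    ⟨IsOpenImmersion.lift T'.ι (g n) (by
      rw [Scheme.Opens.range_ι]; exact (hrange n).trans hKW), IsOpenImmersion.lift_fac _ _ _⟩
  choose g' hg' using hg'
  let N := h'.normalization
  haveI : IsAffine N := isAffine_of_isAffineHom h'.fromNormalization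
  let k : ∀ n, Spec (CommRingCat.of (A' n)) ⟶ N := fun n => g' n ≫ h'.toNormalization
  have hk : ∀ n, k n ≫ h'.fromNormalization = Spec.map (CommRingCat.ofHom (π n)) := fun n => by
    simp only [k, Category.assoc, Scheme.Hom.toNormalization_fromNormalization, h']
    rw [← Category.assoc, hg', hg]
  have hkφ : ∀ n, Spec.map (CommRingCat.ofHom (φ n)) ≫ k (n + 1) = k n := fun n => by
    simp only [k]
    rw [← Category.assoc]
    congr 1
    rw [← cancel_mono T'.ι, Category.assoc, hg', hg', hgφ]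
  -- ring maps `β n : Γ(N) → A' n`
  let B : CommRingCat := Γ(N, ⊤)
  let β : ∀ n, B ⟶ CommRingCat.of (A' n) := fun n => Spec.preimage (k n ≫ N.isoSpec.hom)
  have hβ : ∀ n, Spec.map (β n) = k n ≫ N.isoSpec.hom := fun n => Spec.map_preimage _
  have hβφ : ∀ n, (φ n).comp (β (n + 1)).hom = (β n).hom := fun n => by
    have h1 : β (n + 1) ≫ CommRingCat.ofHom (φ n) = β n := by
      apply Spec.map_injective
      rw [Spec.map_comp, hβ, hβ, ← Category.assoc, hkφ]
    exact congrArg CommRingCat.Hom.hom h1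
  obtain ⟨b, hb⟩ := exists_lift hlim (fun n => (β n).hom) hβφ
  let σ : Spec (CommRingCat.of A) ⟶ N := Spec.map (CommRingCat.ofHom b) ≫ N.isoSpec.inv
  have hσ : ∀ n, Spec.map (CommRingCat.ofHom (π n)) ≫ σ = k n := fun n => by
    simp only [σ]
    rw [← Category.assoc, ← Spec.map_comp, ← CommRingCat.ofHom_comp, hb n, CommRingCat.ofHom_hom,
      hβ, Category.assoc, Iso.hom_inv_id, Category.comp_id]
  -- `σ ≫ fromNormalization = 𝟙`
  have hσ1 : σ ≫ h'.fromNormalization = 𝟙 _ := by
    obtain ⟨r, hr⟩ := Spec.map_surjective (σ ≫ h'.fromNormalization)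
    have hr1 : r = 𝟙 _ := by
      ext a
      apply hlim.2.1
      intro n
      have h2 : r ≫ CommRingCat.ofHom (π n) = CommRingCat.ofHom (π n) := by
        apply Spec.map_injective
        rw [Spec.map_comp, hr, ← Category.assoc, hσ, hk]
      exact congrArg (fun f => f.hom a) h2
    rw [← hr, hr1, Spec.map_id]
  -- the preimage of the open `T' ⊆ N` under `σ` is everything
  have hU : σ ⁻¹ᵁ h'.toNormalization.opensRange = ⊤ := by
    apply TopologicalSpace.Opens.ext
    refine eq_univ_of_range_subset hlim hsurj hnil _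
      (σ ⁻¹ᵁ h'.toNormalization.opensRange).2 ?_
    rintro _ ⟨x, rfl⟩
    change σ (Spec.map (CommRingCat.ofHom (π 0)) x) ∈ h'.toNormalization.opensRange
    rw [← Scheme.Hom.comp_apply, hσ 0]
    exact ⟨g' 0 x, rfl⟩
  let τ : Spec (CommRingCat.of A) ⟶ T' := IsOpenImmersion.lift h'.toNormalization σ (by
    intro x hx
    obtain ⟨y, rfl⟩ := hx
    have : y ∈ σ ⁻¹ᵁ h'.toNormalization.opensRange := by rw [hU]; trivial
    exact this)
  have hτ : τ ≫ h'.toNormalization = σ := IsOpenImmersion.lift_fac _ _ _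
  have hτ1 : (τ ≫ T'.ι) ≫ h = 𝟙 _ := by
    rw [Category.assoc]
    change τ ≫ h' = _
    rw [← h'.toNormalization_fromNormalization, ← Category.assoc, hτ, hσ1]
  haveI : IsSplitEpi h := ⟨⟨⟨τ ≫ T'.ι, hτ1⟩⟩⟩
  exact isIso_of_mono_of_isSplitEpi h

end Groth.Agent.Lib.NilLimitH6
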