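import Mathlib
import Groth.Agent.Lib.NilThick2_helper6
set_option autoImplicit false
universe u

namespace Groth.Agent.Lib.NilThick_helper6

open CategoryTheory CategoryTheory.Limits AlgebraicGeometry MorphismProperty

theorem surjective_of_comp_surjective_of_ker_eq_sq {A B C : Type u} [CommRing A] [CommRing B]
    [CommRing C] (φ : A →+* B) (π : B →+* C) (J : Ideal B) (hJ : IsNilpotent J)
    (hker : RingHom.ker π = J ^ 2) (h : Function.Surjective (π.comp φ)) :
    Function.Surjective φ := by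
  have hQ : ∀ x : B, ∃ a : A, x - φ a ∈ J ^ 2 := by
    intro x
    obtain ⟨a, ha⟩ := h (π x)
    refine ⟨a, ?_⟩
    rw [← hker, RingHom.mem_ker, map_sub, sub_eq_zero]
    exact ha.symm
  have hP : ∀ k : ℕ, ∀ x ∈ J ^ (k + 1),
      ∃ a : A, φ a ∈ J ^ (k + 1) ∧ x - φ a ∈ J ^ (k + 1 + 1) := by
    intro k
    induction k with
    | zero =>
      intro x hx
      obtain ⟨a, ha⟩ := hQ x
      refine ⟨a, ?_, ha⟩
      have : φ a = x - (x - φ a) := by ring
      rw [this]
      exact Ideal.sub_mem _ hx (Ideal.pow_le_pow_right (by norm_num) ha)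
    | succ k ih =>
      intro x hx
      rw [pow_succ] at hx
      refine Submodule.smul_induction_on hx ?_ ?_
      · intro r hr n hn
        obtain ⟨a, ha1, ha2⟩ := ih r hr
        obtain ⟨c, hc⟩ := hQ n
        have hc1 : φ c ∈ J := by
          have : φ c = n - (n - φ c) := by ring
          rw [this]
          exact Ideal.sub_mem _ hn (Ideal.pow_le_self two_ne_zero hc)
        refine ⟨a * c, ?_, ?_⟩
        · rw [map_mul, pow_succ]
          exact Ideal.mul_mem_mul ha1 hc1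
        · have : r • n - φ (a * c) = (r - φ a) * n + φ a * (n - φ c) := by
            rw [smul_eq_mul, map_mul]
            ring
          rw [this]
          refine Ideal.add_mem _ ?_ ?_
          · have := Ideal.mul_mem_mul ha2 hn
            rwa [← pow_succ] at this
          · have e : k + 1 + 1 + 1 = k + 1 + 2 := rfl
            rw [e, pow_add]
            exact Ideal.mul_mem_mul ha1 hc
      · rintro x y ⟨a, ha1, ha2⟩ ⟨b, hb1, hb2⟩
        refine ⟨a + b, ?_, ?_⟩
        · rw [map_add]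
          exact Ideal.add_mem _ ha1 hb1
        · have : x + y - φ (a + b) = (x - φ a) + (y - φ b) := by
            rw [map_add]
            ring
          rw [this]
          exact Ideal.add_mem _ ha2 hb2
  have hR : ∀ k : ℕ, ∀ x : B, ∃ a : A, x - φ a ∈ J ^ (k + 1 + 1) := by
    intro k
    induction k with
    | zero => exact hQ
    | succ k ih =>
      intro x
      obtain ⟨a, ha⟩ := ih x
      obtain ⟨a', -, ha'⟩ := hP (k + 1) _ ha
      refine ⟨a + a', ?_⟩
      have : x - φ (a + a') = x - φ a - φ a' := by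
        rw [map_add]
        ring
      rw [this]
      exact ha'
  obtain ⟨n, hn⟩ := hJ
  intro x
  obtain ⟨a, ha⟩ := hR n x
  refine ⟨a, ?_⟩
  have h0 : J ^ (n + 1 + 1) = ⊥ := by
    have e : n + 1 + 1 = n + 2 := rfl
    rw [e, pow_add, hn]
    simp
  rw [h0, Ideal.mem_bot, sub_eq_zero] at ha
  exact ha.symm

theorem isAffine_of_surjective_closedImmersion {W₁ W : Scheme.{u}} (ι : W₁ ⟶ W)
    [IsClosedImmersion ι] [Surjective ι] [IsAffine W₁]
    (hsurj : Function.Surjective ι.appTop) : IsAffine W := by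
  haveI : CompactSpace W := by
    refine ⟨?_⟩
    rw [← Set.range_eq_univ.mpr ι.surjective]
    exact isCompact_range ι.continuous
  obtain ⟨s, hs⟩ : ∃ s : Set Γ(W, ⊤), s = {g | IsAffineOpen (W.basicOpen g)} := ⟨_, rfl⟩
  refine isAffine_of_isAffineOpen_basicOpen s ?_ (fun g hg => by rw [hs] at hg; exact hg)
  have hcover : ∀ x₁ : W₁, ∃ g ∈ s, x₁ ∈ W₁.basicOpen (ι.appTop g) := by
    intro x₁
    obtain ⟨_, ⟨W', hW', rfl⟩, hxW', -⟩ :=
      W.isBasis_affineOpens.exists_subset_of_mem_open (Set.mem_univ (ι x₁)) isOpen_univ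
    have hx₁ : x₁ ∈ ι ⁻¹ᵁ W' := hxW'
    obtain ⟨_, ⟨_, ⟨g₁, rfl⟩, rfl⟩, hx, hle⟩ :=
      (isBasis_basicOpen W₁).exists_subset_of_mem_open hx₁ (ι ⁻¹ᵁ W').isOpen
    obtain ⟨g, rfl⟩ := hsurj g₁
    refine ⟨g, ?_, hx⟩
    have hgW' : W.basicOpen g ≤ W' := by
      intro y hy
      obtain ⟨y₁, rfl⟩ := ι.surjective y
      have h1 : y₁ ∈ ι ⁻¹ᵁ W.basicOpen g := hy
      rw [Scheme.preimage_basicOpen_top] at h1
      exact hle h1
    rw [hs]
    show IsAffineOpen (W.basicOpen g)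
    have h2 : W.basicOpen g =
        W.basicOpen (W.presheaf.map (homOfLE (le_top : W' ≤ ⊤)).op g) := by
      rw [Scheme.basicOpen_res]
      exact (inf_eq_right.mpr hgW').symm
    rw [h2]
    exact hW'.basicOpen _
  have h1 : Ideal.span (ι.appTop.hom '' s) = ⊤ := by
    rw [← (isAffineOpen_top W₁).self_le_iSup_basicOpen_iff]
    intro x₁ _
    obtain ⟨g, hg, hx⟩ := hcover x₁
    exact TopologicalSpace.Opens.mem_iSup.mpr ⟨⟨ι.appTop.hom g, g, hg, rfl⟩, hx⟩
  have h2 : (1 : Γ(W₁, ⊤)) ∈ Ideal.map ι.appTop.hom (Ideal.span s) := by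
    rw [Ideal.map_span, h1]
    trivial
  obtain ⟨a, ha, ha1⟩ := (Ideal.mem_map_iff_of_surjective _ hsurj).mp h2
  have hν : IsNilpotent (1 - a) := by
    rw [Scheme.isNilpotent_iff_basicOpen_eq_bot, eq_bot_iff]
    intro y hy
    obtain ⟨y₁, rfl⟩ := ι.surjective y
    have h3 : y₁ ∈ ι ⁻¹ᵁ W.basicOpen (1 - a) := hy
    rw [Scheme.preimage_basicOpen_top] at h3
    have h4 : ι.appTop.hom (1 - a) = 0 := by rw [map_sub, map_one, ha1, sub_self]
    have h5 : W₁.basicOpen (ι.appTop.hom (1 - a)) = ⊥ := by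
      rw [h4]
      exact Scheme.basicOpen_zero _ _
    have : y₁ ∈ (⊥ : W₁.Opens) := h5 ▸ h3
    exact this.elim
  have hu : IsUnit a := by
    have := hν.isUnit_one_sub
    simpa using this
  exact Ideal.eq_top_of_isUnit_mem _ ha hu

theorem isClosedImmersion_of_comp_subschemeι_sq (X Y : Scheme.{u}) (f : X ⟶ Y)
    (I : X.IdealSheafData) (hI : IsNilpotent I)
    (h : IsClosedImmersion ((I ^ 2).subschemeι ≫ f)) : IsClosedImmersion f := by
  obtain ⟨ι, hι⟩ : ∃ ι : (I ^ 2).subscheme ⟶ X, ι = (I ^ 2).subschemeι := ⟨_, rfl⟩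
  rw [← hι] at h
  haveI : IsClosedImmersion ι := hι ▸ inferInstance
  haveI : Surjective ι := by
    refine ⟨fun x => ?_⟩
    have hr : Set.range ι = Set.univ := by
      obtain ⟨n, hn⟩ := hI
      have e1 : (I ^ 2).support = I.support :=
        Scheme.IdealSheafData.support_pow (I := I) 2 (by simp)
      have e2 : (I ^ (n + 1)).support = I.support :=
        Scheme.IdealSheafData.support_pow (I := I) (n + 1) (by simp)
      have e3 : I ^ (n + 1) = ⊥ := by
        rw [pow_succ, hn]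
        simp
      rw [hι, Scheme.IdealSheafData.range_subschemeι, e1, ← e2, e3,
        Scheme.IdealSheafData.support_bot]
      rfl
    have hx : x ∈ Set.range ι := hr ▸ Set.mem_univ x
    exact hx
  rw [isClosedImmersion_iff_isAffineHom]
  have key : ∀ V : Y.Opens, IsAffineOpen V →
      IsAffineOpen (f ⁻¹ᵁ V) ∧ Function.Surjective (f.app V) := by
    intro V hV
    have hsurj : Function.Surjective (ι.app (f ⁻¹ᵁ V)) := by
      have h1 : Function.Surjective ((ι ≫ f).app V) := (ι ≫ f).app_surjective V hV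
      rw [Scheme.Hom.comp_app] at h1
      exact Function.Surjective.of_comp h1
    have haff : IsAffineOpen (f ⁻¹ᵁ V) := by
      haveI : IsAffine (ι ⁻¹ᵁ f ⁻¹ᵁ V).toScheme := hV.preimage (ι ≫ f)
      haveI : Surjective (ι ∣_ (f ⁻¹ᵁ V)) :=
        MorphismProperty.of_isPullback (P := @Surjective)
          (isPullback_morphismRestrict ι (f ⁻¹ᵁ V)).flip inferInstance
      refine isAffine_of_surjective_closedImmersion (ι ∣_ (f ⁻¹ᵁ V)) ?_
      have e := resLE_appTop_topIso ι (f ⁻¹ᵁ V) (ι ⁻¹ᵁ f ⁻¹ᵁ V) le_rfl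
      rw [Scheme.Hom.appLE_eq_app, Scheme.Hom.resLE_eq_morphismRestrict] at e
      have e' : (ι ∣_ (f ⁻¹ᵁ V)).appTop = (f ⁻¹ᵁ V).topIso.hom ≫ ι.app (f ⁻¹ᵁ V) ≫
          (ι ⁻¹ᵁ f ⁻¹ᵁ V).topIso.inv := by
        rw [← Category.assoc, ← e, Category.assoc, Iso.hom_inv_id, Category.comp_id]
      rw [e']
      intro y
      obtain ⟨x₃, rfl⟩ := (ConcreteCategory.bijective_of_isIso (ι ⁻¹ᵁ f ⁻¹ᵁ V).topIso.inv).2 y
      obtain ⟨x₂, rfl⟩ := hsurj x₃
      obtain ⟨x₁, rfl⟩ := (ConcreteCategory.bijective_of_isIso (f ⁻¹ᵁ V).topIso.hom).2 x₂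
      exact ⟨x₁, rfl⟩
    refine ⟨haff, ?_⟩
    have hker : RingHom.ker (ι.app (f ⁻¹ᵁ V)).hom = (I.ideal ⟨f ⁻¹ᵁ V, haff⟩) ^ 2 := by
      rw [hι]
      exact Scheme.IdealSheafData.ker_subschemeι_app (I ^ 2) ⟨f ⁻¹ᵁ V, haff⟩
    have hnil : IsNilpotent (I.ideal ⟨f ⁻¹ᵁ V, haff⟩) := by
      obtain ⟨n, hn⟩ := hI
      refine ⟨n, ?_⟩
      have := congrArg (fun J => J.ideal ⟨f ⁻¹ᵁ V, haff⟩) hn
      simpa using this
    refine surjective_of_comp_surjective_of_ker_eq_sq (f.app V).hom (ι.app (f ⁻¹ᵁ V)).hom _ hnil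
      hker ?_
    have h1 : Function.Surjective ((ι ≫ f).app V) := (ι ≫ f).app_surjective V hV
    rw [Scheme.Hom.comp_app] at h1
    exact h1
  exact ⟨⟨fun V hV => (key V hV).1⟩, fun V hV => (key V hV).2⟩

end Groth.Agent.Lib.NilThick_helper6
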