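import Mathlib
import Groth.Prelude.Def_MoreMor
set_option autoImplicit false
universe u

namespace Groth.Agent.Lib.NilThick_helper6

open CategoryTheory CategoryTheory.Limits AlgebraicGeometry

/-- If `R → B → C` with `B → C` surjective with finitely generated nilpotent kernel and
`R → C` of finite type, then `R → B` is of finite type. -/
theorem finiteType_of_comp_surjective_of_nilpotent {R B C : Type u} [CommRing R] [CommRing B]
    [CommRing C] (φ : R →+* B) (π : B →+* C) (hπ : Function.Surjective π)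
    (hfg : (RingHom.ker π).FG) (hnil : IsNilpotent (RingHom.ker π))
    (h : (π.comp φ).FiniteType) : φ.FiniteType := by
  classical
  letI : Algebra R B := φ.toAlgebra
  letI : Algebra R C := (π.comp φ).toAlgebra
  let πa : B →ₐ[R] C := { π with commutes' := fun r => rfl }
  obtain ⟨n, f, hf⟩ := Algebra.FiniteType.iff_quotient_mvPolynomial''.mp h
  obtain ⟨m, g, hg⟩ := Submodule.fg_iff_exists_fin_generating_family.mp hfg
  choose b hb using fun i : Fin n => hπ (f (MvPolynomial.X i))
  let Φ : MvPolynomial (Fin n ⊕ Fin m) R →ₐ[R] B := MvPolynomial.aeval (Sum.elim b g)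
  have hgI : ∀ j, g j ∈ RingHom.ker π := fun j => hg ▸ Submodule.subset_span ⟨j, rfl⟩
  have hcomp : πa.comp (Φ.comp (MvPolynomial.rename Sum.inl)) = f := by
    refine MvPolynomial.algHom_ext fun i => ?_
    simp only [AlgHom.comp_apply, MvPolynomial.rename_X, Φ, MvPolynomial.aeval_X, Sum.elim_inl]
    exact hb i
  have hA : Φ.range.toSubmodule ⊔ (RingHom.ker π).restrictScalars R = ⊤ := by
    rw [eq_top_iff]
    rintro x -
    obtain ⟨p, hp⟩ := hf (π x)
    have hx : x = Φ (MvPolynomial.rename Sum.inl p) +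
        (x - Φ (MvPolynomial.rename Sum.inl p)) := by abel
    rw [hx]
    refine Submodule.add_mem _
      (Submodule.mem_sup_left ((Subalgebra.mem_toSubmodule _).mpr (AlgHom.mem_range_self Φ _)))
      (Submodule.mem_sup_right ?_)
    have h1 : π (Φ (MvPolynomial.rename Sum.inl p)) = f p := DFunLike.congr_fun hcomp p
    rw [Submodule.restrictScalars_mem, RingHom.mem_ker, map_sub, h1, hp, sub_self]
  have hstep : ∀ J : Ideal B, Φ.range.toSubmodule ⊔ J.restrictScalars R = ⊤ →
      Φ.range.toSubmodule ⊔ (RingHom.ker π * J).restrictScalars R = ⊤ := by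
    intro J hJ
    rw [eq_top_iff]
    refine hA.ge.trans ?_
    refine sup_le le_sup_left ?_
    intro x hx
    rw [Submodule.restrictScalars_mem, ← hg] at hx
    obtain ⟨c, rfl⟩ := Ideal.mem_span_range_iff_exists_fun.mp hx
    refine Submodule.sum_mem _ fun j _ => ?_
    have hc : c j ∈ Φ.range.toSubmodule ⊔ J.restrictScalars R := hJ ▸ Submodule.mem_top
    obtain ⟨y, hy, z, hz, hyz⟩ := Submodule.mem_sup.mp hc
    rw [← hyz, add_mul]
    refine Submodule.add_mem _ (Submodule.mem_sup_left ?_) (Submodule.mem_sup_right ?_)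
    · refine (Subalgebra.mem_toSubmodule _).mpr
        (Φ.range.mul_mem ((Subalgebra.mem_toSubmodule _).mp hy) ?_)
      exact ⟨MvPolynomial.X (Sum.inr j), by simp [Φ]⟩
    · rw [Submodule.restrictScalars_mem]
      exact Ideal.mul_mem_mul_rev (hgI j) hz
  have hpow : ∀ k : ℕ,
      Φ.range.toSubmodule ⊔ ((RingHom.ker π) ^ (k + 1)).restrictScalars R = ⊤ := by
    intro k
    induction k with
    | zero => simpa using hA
    | succ k ih =>
      rw [pow_succ']
      exact hstep _ ih
  obtain ⟨k, hk⟩ := hnil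
  have hk' : (RingHom.ker π) ^ (k + 1) = ⊥ := by
    rw [pow_succ, hk]
    simp
  have htop := hpow k
  rw [hk', Submodule.restrictScalars_bot, sup_bot_eq] at htop
  have hsurj : Function.Surjective Φ := by
    intro x
    have : x ∈ Φ.range.toSubmodule := htop ▸ Submodule.mem_top
    exact this
  exact Algebra.FiniteType.of_surjective Φ hsurj

/-- `F` is locally of finite type as soon as `i ≫ F` is, for `i` a closed immersion with
finitely generated nilpotent ideal (on affine opens). -/
theorem locallyOfFiniteType_of_comp_thickening {X Y Y₀ : Scheme.{u}} (F : Y ⟶ X) (i : Y₀ ⟶ Y)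
    [IsClosedImmersion i]
    (hinil : ∀ U : Y.affineOpens, IsNilpotent (i.ker.ideal U))
    (hfg : ∀ U : Y.affineOpens, (i.ker.ideal U).FG)
    [LocallyOfFiniteType (i ≫ F)] : LocallyOfFiniteType F := by
  rw [HasRingHomProperty.iff_appLE (P := @LocallyOfFiniteType)]
  intro U V e
  have hV₀ : IsAffineOpen (i ⁻¹ᵁ V.1) := V.2.preimage i
  have h2 := Scheme.Hom.appLE_comp_appLE i F U.1 V.1 (i ⁻¹ᵁ V.1) e le_rfl
  rw [Scheme.Hom.appLE_eq_app] at h2
  have h1 := HasRingHomProperty.appLE (P := @LocallyOfFiniteType) (i ≫ F) inferInstance U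
    ⟨_, hV₀⟩ (le_rfl.trans ((TopologicalSpace.Opens.map i.base).map (homOfLE e)).le)
  refine finiteType_of_comp_surjective_of_nilpotent (F.appLE U.1 V.1 e).hom (i.app V.1).hom
    (i.app_surjective V.1 V.2) ?_ ?_ ?_
  · have := hfg V
    rwa [Scheme.Hom.ker_apply] at this
  · have := hinil V
    rwa [Scheme.Hom.ker_apply] at this
  · rw [← CommRingCat.hom_comp, h2]
    exact h1

theorem locallyOfFiniteType_iff_of_thickening {X X₀ Y Y₀ : Scheme.{u}}
    (F : Y ⟶ X) (F₀ : Y₀ ⟶ X₀) (i : Y₀ ⟶ Y) (j : X₀ ⟶ X)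
    (hi : MoreMor.IsThickening i) (hj : MoreMor.IsThickening j)
    (hinil : ∀ U : Y.affineOpens, IsNilpotent (i.ker.ideal U))
    (hfg : ∀ U : Y.affineOpens, (i.ker.ideal U).FG)
    (w : F₀ ≫ j = i ≫ F) :
    LocallyOfFiniteType F ↔ LocallyOfFiniteType F₀ := by
  haveI := hi.1
  haveI := hj.1
  constructor
  · intro hF
    haveI : LocallyOfFiniteType (F₀ ≫ j) := by rw [w]; infer_instance
    exact locallyOfFiniteType_of_comp F₀ j
  · intro hF₀
    haveI : LocallyOfFiniteType (i ≫ F) := by rw [← w]; infer_instance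
    exact locallyOfFiniteType_of_comp_thickening F i hinil hfg

end Groth.Agent.Lib.NilThick_helper6
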