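import Mathlib
import Groth.Prelude
import Groth.Agent.Lib.NilpFlat_helper4

/-!
# Local flatness criterion (nilpotent case) in graded form (helper4).
APPEND-ONLY once landed.
-/

set_option autoImplicit false
set_option linter.style.haveILetI false

universe u

open TensorProduct

namespace Groth.Agent.Lib.NilpFlatGrH4

theorem exists_fin_sum {R : Type*} [CommRing R] {X Y : Type*} [AddCommGroup X] [Module R X]
    [AddCommGroup Y] [Module R Y] (z : X ⊗[R] Y) :
    ∃ (k : ℕ) (a : Fin k → X) (x : Fin k → Y), z = ∑ i, a i ⊗ₜ[R] x i := by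
  induction z using TensorProduct.induction_on with
  | zero => exact ⟨0, Fin.elim0, Fin.elim0, by simp⟩
  | tmul a x => exact ⟨1, fun _ => a, fun _ => x, by simp⟩
  | add z1 z2 h1 h2 =>
    obtain ⟨k1, a1, x1, rfl⟩ := h1
    obtain ⟨k2, a2, x2, rfl⟩ := h2
    refine ⟨k1 + k2, Fin.append a1 a2, Fin.append x1 x2, ?_⟩
    rw [Fin.sum_univ_add]
    simp [Fin.append_left, Fin.append_right]

theorem rTensor_injective_congr {A : Type u} [CommRing A] (M : Type u) [AddCommGroup M] [Module A M]
    (J J' : Ideal A) (h : J = J') (hJ : Function.Injective ((Submodule.subtype J).rTensor M)) :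
    Function.Injective ((Submodule.subtype J').rTensor M) := by
  subst h
  exact hJ

theorem rTensor_injective_of_eq_bot {A : Type u} [CommRing A] (M : Type u) [AddCommGroup M]
    [Module A M] (J : Ideal A) (h : J = ⊥) :
    Function.Injective ((Submodule.subtype J).rTensor M) := by
  have hall : ∀ z : ↥J ⊗[A] M, z = 0 := by
    intro z
    induction z using TensorProduct.induction_on with
    | zero => rfl
    | tmul a m =>
      have : a = 0 := Subtype.ext (by
        have h1 : (a : A) ∈ (⊥ : Ideal A) := h ▸ a.2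
        exact (Submodule.mem_bot A).mp h1)
      rw [this, TensorProduct.zero_tmul]
    | add z1 z2 h1 h2 => rw [h1, h2, add_zero]
  intro z1 z2 _
  rw [hall z1, hall z2]

section

variable {A : Type u} [CommRing A] (I : Ideal A) (M : Type u) [AddCommGroup M] [Module A M]

/-- `I` kills the graded pieces. -/
theorem smul_gr_eq_zero (n : ℕ) (a : A) (ha : a ∈ I)
    (g : ↥(AssocGr.gr (FiltBl.IdealFiltration.adic I) n)) : a • g = 0 := by
  obtain ⟨b, rfl⟩ := AssocGr.inDeg_surjective (FiltBl.IdealFiltration.adic I) n g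
  rw [← map_smul, AssocGr.inDeg_eq_zero_iff]
  show a * (b : A) ∈ I ^ (n + 1)
  rw [pow_succ']
  exact Ideal.mul_mem_mul ha b.2

/-- `gr_n ⊗ M → gr_n ⊗ M/IM` is injective. -/
theorem lTensor_mkQ_injective (n : ℕ) :
    Function.Injective ((Submodule.mkQ (I • (⊤ : Submodule A M))).lTensor
      ↥(AssocGr.gr (FiltBl.IdealFiltration.adic I) n)) := by
  have hex := lTensor_exact ↥(AssocGr.gr (FiltBl.IdealFiltration.adic I) n)
    (LinearMap.exact_subtype_mkQ (I • (⊤ : Submodule A M))) (Submodule.mkQ_surjective _)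
  have hzero : ∀ v : ↥(AssocGr.gr (FiltBl.IdealFiltration.adic I) n) ⊗[A]
      ↥(I • (⊤ : Submodule A M)),
      ((Submodule.subtype (I • (⊤ : Submodule A M))).lTensor
        ↥(AssocGr.gr (FiltBl.IdealFiltration.adic I) n)) v = 0 := by
    intro v
    induction v using TensorProduct.induction_on with
    | zero => exact map_zero _
    | tmul g y =>
      rw [LinearMap.lTensor_tmul]
      obtain ⟨y, hy⟩ := y
      show g ⊗ₜ[A] y = 0
      refine Submodule.smul_induction_on hy (fun a ha m _ => ?_) (fun y1 y2 h1 h2 => ?_)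
      · rw [← TensorProduct.smul_tmul, smul_gr_eq_zero I n a ha g, TensorProduct.zero_tmul]
      · rw [TensorProduct.tmul_add, h1, h2, add_zero]
    | add v1 v2 h1 h2 => rw [map_add, h1, h2, add_zero]
  rw [injective_iff_map_eq_zero]
  intro w hw
  obtain ⟨v, rfl⟩ := (hex w).mp hw
  exact hzero v

theorem mem_N_zero (m : M) : m ∈ (Rees.powFilt I M).N 0 := by
  show m ∈ I ^ 0 • (⊤ : Submodule A M)
  rw [pow_zero, Ideal.one_eq_top, Submodule.top_smul]
  trivial

variable (hinj : ∀ (n k : ℕ) (a : Fin k → ↥((FiltBl.IdealFiltration.adic I).F n))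
      (x : Fin k → ↥((Rees.powFilt I M).N 0)),
      (∑ i, (AssocGr.inDeg (FiltBl.IdealFiltration.adic I) n (a i) :
          AssocGr.GrRing (FiltBl.IdealFiltration.adic I)) •
        (AssocGr.inDegM (Rees.powFilt I M) 0 (x i) : AssocGr.GrMod (Rees.powFilt I M))) = 0 →
      (∑ i, (AssocGr.inDeg (FiltBl.IdealFiltration.adic I) n (a i)) ⊗ₜ[A]
          (Submodule.Quotient.mk (x i : M)) :
        ↥(AssocGr.gr (FiltBl.IdealFiltration.adic I) n) ⊗[A] (M ⧸ (I • (⊤ : Submodule A M)))) = 0)

include hinj in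
/-- the inductive step. -/
theorem step (i : ℕ)
    (h : Function.Injective ((Submodule.subtype (I ^ (i + 1))).rTensor M)) :
    Function.Injective ((Submodule.subtype (I ^ i)).rTensor M) := by
  rw [injective_iff_map_eq_zero]
  intro z hz
  -- the exact sequence
  let π : ↥(I ^ i) →ₗ[A] ↥(AssocGr.gr (FiltBl.IdealFiltration.adic I) i) :=
    AssocGr.inDeg (FiltBl.IdealFiltration.adic I) i
  let ι : ↥(I ^ (i + 1)) →ₗ[A] ↥(I ^ i) :=
    Submodule.inclusion (Ideal.pow_le_pow_right (Nat.le_succ i))
  have hex : Function.Exact ι π := by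
    intro y
    constructor
    · intro hy
      have hy' : (y : A) ∈ I ^ (i + 1) :=
        (AssocGr.inDeg_eq_zero_iff (FiltBl.IdealFiltration.adic I) i y).mp hy
      exact ⟨⟨y, hy'⟩, Subtype.ext rfl⟩
    · rintro ⟨y', rfl⟩
      exact (AssocGr.inDeg_eq_zero_iff (FiltBl.IdealFiltration.adic I) i _).mpr y'.2
  have hπ : Function.Surjective π := AssocGr.inDeg_surjective (FiltBl.IdealFiltration.adic I) i
  have hexT := rTensor_exact M hex hπ
  -- write z as a sum
  obtain ⟨k, a, m, rfl⟩ := exists_fin_sum z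
  have hsum : ∑ j, (a j : A) • m j = 0 := by
    have h1 := congrArg (TensorProduct.lid A M) hz
    rw [map_sum, map_sum, map_zero] at h1
    simpa [LinearMap.rTensor_tmul, TensorProduct.lid_tmul] using h1
  -- apply the hypothesis
  have hpre : (∑ j, (AssocGr.inDeg (FiltBl.IdealFiltration.adic I) i (a j) :
          AssocGr.GrRing (FiltBl.IdealFiltration.adic I)) •
        (AssocGr.inDegM (Rees.powFilt I M) 0 (⟨m j, mem_N_zero I M (m j)⟩ :
          ↥((Rees.powFilt I M).N 0)) : AssocGr.GrMod (Rees.powFilt I M))) = 0 := by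
    have e1 : ∀ j, (AssocGr.inDeg (FiltBl.IdealFiltration.adic I) i (a j) :
          AssocGr.GrRing (FiltBl.IdealFiltration.adic I)) •
        (AssocGr.inDegM (Rees.powFilt I M) 0 (⟨m j, mem_N_zero I M (m j)⟩ :
          ↥((Rees.powFilt I M).N 0)) : AssocGr.GrMod (Rees.powFilt I M)) =
        (AddSubgroup.subtype (AssocGr.grM (Rees.powFilt I M) (i + 0)))
          (AssocGr.inDegM (Rees.powFilt I M) (i + 0) ⟨(a j : A) • m j,
            (Rees.powFilt I M).pow_smul_le i 0 (Submodule.smul_mem_smul
              (show (a j : A) ∈ I ^ i from (a j).2) (mem_N_zero I M (m j)))⟩) :=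
      fun j => AssocGr.inDeg_smul_inDegM (Rees.powFilt I M) i 0 (a j) ⟨m j, mem_N_zero I M (m j)⟩
    rw [Finset.sum_congr rfl (fun j _ => e1 j), ← map_sum, ← map_sum]
    have e2 : (∑ j, (⟨(a j : A) • m j,
            (Rees.powFilt I M).pow_smul_le i 0 (Submodule.smul_mem_smul
              (show (a j : A) ∈ I ^ i from (a j).2) (mem_N_zero I M (m j)))⟩ :
            ↥((Rees.powFilt I M).N (i + 0)))) = 0 := by
      apply Subtype.ext
      rw [Submodule.coe_sum]
      exact hsum
    rw [e2, map_zero, map_zero]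
  have hcon := hinj i k a (fun j => ⟨m j, mem_N_zero I M (m j)⟩) hpre
  have hπz : (π.rTensor M) (∑ j, a j ⊗ₜ[A] m j) = 0 := by
    apply lTensor_mkQ_injective I M i
    rw [map_zero, map_sum, map_sum]
    simp only [LinearMap.rTensor_tmul, LinearMap.lTensor_tmul]
    exact hcon
  obtain ⟨z', hz'⟩ := (hexT _).mp hπz
  have hz'0 : ((Submodule.subtype (I ^ (i + 1))).rTensor M) z' = 0 := by
    have e3 : (Submodule.subtype (I ^ (i + 1))) = (Submodule.subtype (I ^ i)).comp ι := rfl
    rw [e3, LinearMap.rTensor_comp, LinearMap.comp_apply, hz']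
    exact hz
  have hz'' : z' = 0 := (injective_iff_map_eq_zero _).mp h z' hz'0
  rw [← hz', hz'', map_zero]

include hinj in
theorem all_injective (N : ℕ) (hN : I ^ N = ⊥) :
    ∀ d i : ℕ, N ≤ i + d → Function.Injective ((Submodule.subtype (I ^ i)).rTensor M) := by
  intro d
  induction d with
  | zero =>
    intro i hi
    refine rTensor_injective_of_eq_bot M (I ^ i) ?_
    rw [eq_bot_iff, ← hN]
    exact Ideal.pow_le_pow_right (by omega)
  | succ d ih =>
    intro i hi
    exact step I M hinj i (ih (i + 1) (by omega))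

include hinj in
theorem main16454 (hI : IsNilpotent I)
    (hflat : Module.Flat (A ⧸ I) (M ⧸ (I • (⊤ : Submodule A M)))) : Module.Flat A M := by
  obtain ⟨N, hN⟩ := hI
  have hN' : I ^ N = ⊥ := hN
  have h1 := all_injective I M hinj N hN' N 1 (by omega)
  have h2 := rTensor_injective_congr M (I ^ 1) I (pow_one I) h1
  have e : ((A ⧸ I) ⊗[A] M) ≃ₗ[A ⧸ I] (M ⧸ (I • (⊤ : Submodule A M))) :=
    (TensorProduct.quotTensorEquivQuotSMul M I).extendScalarsOfSurjective
      Ideal.Quotient.mk_surjective
  have hflat' : Module.Flat (A ⧸ I) ((A ⧸ I) ⊗[A] M) := Module.Flat.of_linearEquiv e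
  exact Groth.Agent.Lib.NilpFlatH4.flat_of_nilpotent I N hN' M hflat' h2

end

end Groth.Agent.Lib.NilpFlatGrH4
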