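import Mathlib
import Groth.Prelude.Def_AlgGrp
import Groth.Prelude.Def_Red
import Groth.Prelude.Def_Red2
import Groth.Prelude.Def_AGF
import Groth.Agent.Lib.CommFibre_lead

/-! # Nilpotency and solvability spread from a schematically dense fibre (lead) -/

set_option backward.isDefEq.respectTransparency false
set_option backward.isDefEq.respectTransparency.types false
set_option linter.unusedSimpArgs false
set_option linter.unusedVariables false
set_option linter.unusedSectionVars false
set_option linter.style.longLine false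
set_option linter.style.haveILetI false
set_option maxHeartbeats 800000

universe u

open CategoryTheory CategoryTheory.Limits MonoidalCategory CartesianMonoidalCategory MonObj GrpObj
  AlgebraicGeometry Opposite Topology
open scoped commutatorElement

namespace Groth.Agent.Lib.NilpSolv

open Groth.Agent.Lib.MultGa Groth.Agent.Lib.CommFibre

section grp

variable {H H' : Type*} [Group H] [Group H']

theorem mem_ucs_equiv (e : H ≃* H') : ∀ (n : ℕ) (x : H),
    x ∈ Subgroup.upperCentralSeries H n ↔ e x ∈ Subgroup.upperCentralSeries H' n := by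
  intro n
  induction n with
  | zero =>
    intro x
    rw [Subgroup.upperCentralSeries_zero, Subgroup.upperCentralSeries_zero, Subgroup.mem_bot,
      Subgroup.mem_bot]
    exact (map_eq_one_iff e e.injective).symm
  | succ n ih =>
    intro x
    rw [Subgroup.mem_upperCentralSeries_succ_iff, Subgroup.mem_upperCentralSeries_succ_iff]
    constructor
    · intro h y'
      obtain ⟨y, rfl⟩ := e.surjective y'
      rw [← map_commutatorElement]
      exact (ih _).1 (h y)
    · intro h y
      rw [ih, map_commutatorElement]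
      exact h (e y)

theorem ucs_top_of_equiv (e : H ≃* H') (n : ℕ) (h : Subgroup.upperCentralSeries H n = ⊤) :
    Subgroup.upperCentralSeries H' n = ⊤ := by
  rw [eq_top_iff]
  intro y' _
  obtain ⟨y, rfl⟩ := e.surjective y'
  exact (mem_ucs_equiv e n y).1 (h ▸ Subgroup.mem_top y)

theorem ds_bot_of_equiv (e : H ≃* H') (n : ℕ) (h : derivedSeries H n = ⊥) :
    derivedSeries H' n = ⊥ := by
  rw [← map_derivedSeries_eq (f := e.toMonoidHom) e.surjective n, h, Subgroup.map_bot]

end grp

section pts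

variable {S : Scheme.{u}} (G : Over S) [GrpObj G]

/-- pulling back points is a group homomorphism -/
noncomputable def pre {X' X : Over S} (t : X' ⟶ X) : (X ⟶ G) →* (X' ⟶ G) :=
  MonoidHom.mk' (fun z => t ≫ z) (fun a b => by rw [MonObj.comp_mul])

theorem comp_comm {X' X : Over S} (t : X' ⟶ X) (a b : X ⟶ G) :
    t ≫ ⁅a, b⁆ = ⁅t ≫ a, t ≫ b⁆ :=
  map_commutatorElement (pre G t) a b

theorem pre_mem_ds {X' X : Over S} (t : X' ⟶ X) (z : X ⟶ G) (n : ℕ)
    (hz : z ∈ derivedSeries (X ⟶ G) n) : t ≫ z ∈ derivedSeries (X' ⟶ G) n :=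
  map_derivedSeries_le_derivedSeries (pre G t) n (Subgroup.mem_map_of_mem _ hz)

/-- universally `m`-central points -/
def UC (m : ℕ) {X : Over S} (z : X ⟶ G) : Prop :=
  ∀ (X' : Over S) (t : X' ⟶ X), t ≫ z ∈ Subgroup.upperCentralSeries (X' ⟶ G) m

theorem uc_zero {X : Over S} (z : X ⟶ G) : UC G 0 z ↔ z = 1 := by
  constructor
  · intro h
    have := h X (𝟙 X)
    rw [Subgroup.upperCentralSeries_zero, Subgroup.mem_bot, Category.id_comp] at this
    exact this
  · rintro rfl X' t
    rw [MonObj.comp_one]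
    exact one_mem _

theorem uc_comp (m : ℕ) {X' X : Over S} (s : X' ⟶ X) (z : X ⟶ G) (h : UC G m z) :
    UC G m (s ≫ z) := by
  intro X'' t
  rw [← Category.assoc]
  exact h X'' (t ≫ s)

theorem uc_succ (m : ℕ) {X : Over S} (z : X ⟶ G) :
    UC G (m + 1) z ↔ UC G m ⁅fst X G ≫ z, snd X G⁆ := by
  constructor
  · intro h X' t
    have h1 := h X' (t ≫ fst X G)
    rw [Subgroup.mem_upperCentralSeries_succ_iff] at h1
    have h2 := h1 (t ≫ snd X G)
    rw [comp_comm, ← Category.assoc]
    exact h2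
  · intro h X' t
    rw [Subgroup.mem_upperCentralSeries_succ_iff]
    intro y
    have h1 := h X' (lift t y)
    rw [comp_comm, lift_fst_assoc, lift_snd] at h1
    exact h1

theorem all_uc_iff (n : ℕ) :
    (∀ X : Over S, Subgroup.upperCentralSeries (X ⟶ G) n = ⊤) ↔
      ∀ (X : Over S) (z : X ⟶ G), UC G n z := by
  constructor
  · intro h X z X' t
    rw [h X']
    exact Subgroup.mem_top _
  · intro h X
    rw [eq_top_iff]
    intro z _
    have := h X z X (𝟙 X)
    rwa [Category.id_comp] at this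

/-- every element of the `n`-th derived subgroup of `G(X)` is pulled back from a flat universal
one -/
theorem ds_univ [Flat G.hom] (n : ℕ) : ∀ (X : Over S) (x : X ⟶ G), x ∈ derivedSeries (X ⟶ G) n →
    ∃ (P : Over S) (d : P ⟶ G) (t : X ⟶ P),
      Flat P.hom ∧ d ∈ derivedSeries (P ⟶ G) n ∧ t ≫ d = x := by
  induction n with
  | zero =>
    intro X x _
    exact ⟨G, 𝟙 G, x, inferInstance, Subgroup.mem_top _, Category.comp_id x⟩
  | succ n ih =>
    intro X x hx
    rw [derivedSeries_succ, Subgroup.commutator_def] at hx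
    induction hx using Subgroup.closure_induction with
    | mem y hy =>
      obtain ⟨a, ha, b, hb, rfl⟩ := hy
      obtain ⟨Pa, da, ta, hPa, hda, rfl⟩ := ih X a ha
      obtain ⟨Pb, db, tb, hPb, hdb, rfl⟩ := ih X b hb
      haveI := hPa
      haveI := hPb
      refine ⟨Pa ⊗ Pb, ⁅fst Pa Pb ≫ da, snd Pa Pb ≫ db⁆, lift ta tb, ?_, ?_, ?_⟩
      · rw [Over.tensorObj_hom]
        infer_instance
      · rw [derivedSeries_succ]
        exact Subgroup.commutator_mem_commutator (pre_mem_ds G _ _ n hda) (pre_mem_ds G _ _ n hdb)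
      · rw [comp_comm, lift_fst_assoc, lift_snd_assoc]
    | one =>
      refine ⟨𝟙_ (Over S), 1, toUnit X, ?_, one_mem _, MonObj.comp_one _⟩
      rw [Over.tensorUnit_hom]
      exact MorphismProperty.id_mem _ S
    | mul y z hy hz ihy ihz =>
      obtain ⟨P1, d1, t1, hP1, hd1, rfl⟩ := ihy
      obtain ⟨P2, d2, t2, hP2, hd2, rfl⟩ := ihz
      haveI := hP1
      haveI := hP2
      refine ⟨P1 ⊗ P2, (fst P1 P2 ≫ d1) * (snd P1 P2 ≫ d2), lift t1 t2, ?_,
        mul_mem (pre_mem_ds G _ _ _ hd1) (pre_mem_ds G _ _ _ hd2), ?_⟩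
      · rw [Over.tensorObj_hom]
        infer_instance
      · rw [MonObj.comp_mul, lift_fst_assoc, lift_snd_assoc]
    | inv y hy ihy =>
      obtain ⟨P, d, t, hP, hd, rfl⟩ := ihy
      exact ⟨P, d⁻¹, t, hP, inv_mem hd, GrpObj.comp_inv _ _⟩

end pts

section bc

variable {S U : Scheme.{u}} (g : U ⟶ S) (G : Over S) [GrpObj G]

theorem chk_eq_symm {X : Over S} {T' : Over U} (x' : T' ⟶ Red.bc g X) :
    chk g x' = ((Over.mapPullbackAdj g).homEquiv T' X).symm x' := by
  rw [Adjunction.homEquiv_counit]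
  rfl

theorem chk_inj {X : Over S} {T' : Over U} {x' y' : T' ⟶ Red.bc g X}
    (h : chk g x' = chk g y') : x' = y' := by
  rw [chk_eq_symm, chk_eq_symm] at h
  exact (Equiv.injective _) h

theorem chk_surj {X : Over S} {T' : Over U} (y : (Over.map g).obj T' ⟶ X) :
    ∃ x' : T' ⟶ Red.bc g X, chk g x' = y :=
  ⟨(Over.mapPullbackAdj g).homEquiv T' X y, by
    rw [chk_eq_symm, Equiv.symm_apply_apply]⟩

/-- points of the base change are points over the base -/
noncomputable def chkEquiv (Y : Over U) : (Y ⟶ Red.bc g G) ≃* ((Over.map g).obj Y ⟶ G) :=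
  MulEquiv.ofBijective (MonoidHom.mk' (chk g) (fun a b => chk_mul g a b))
    ⟨fun a b h => chk_inj g h, fun y => chk_surj g y⟩

theorem nilp_bc (h : AGF.IsNilpotentGrp G) : AGF.IsNilpotentGrp (Red.bc g G) := by
  obtain ⟨n, hn⟩ := h
  exact ⟨n, fun Y => ucs_top_of_equiv (chkEquiv g G Y).symm n (hn _)⟩

theorem solv_bc (h : Red.IsSolvableGrp G) : Red.IsSolvableGrp (Red.bc g G) := by
  obtain ⟨n, hn⟩ := h
  exact ⟨n, fun Y => ds_bot_of_equiv (chkEquiv g G Y).symm n (hn _)⟩

theorem ucs_top_mk (n : ℕ)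
    (hK : ∀ Y : Over U, Subgroup.upperCentralSeries (Y ⟶ Red.bc g G) n = ⊤)
    {l : Scheme.{u}} (f : l ⟶ U) :
    Subgroup.upperCentralSeries (Over.mk (f ≫ g) ⟶ G) n = ⊤ :=
  ucs_top_of_equiv (chkEquiv g G (Over.mk f)) n (hK _)

theorem ucs_top_of_over (n : ℕ)
    (hK : ∀ Y : Over U, Subgroup.upperCentralSeries (Y ⟶ Red.bc g G) n = ⊤)
    (X' : Over S) (f : X'.left ⟶ U) (hf : f ≫ g = X'.hom) :
    Subgroup.upperCentralSeries (X' ⟶ G) n = ⊤ := by
  have e : X' = Over.mk (f ≫ g) := by
    rw [hf]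
    rfl
  rw [e]
  exact ucs_top_mk g G n hK f

theorem uc_eps (n : ℕ)
    (hK : ∀ Y : Over U, Subgroup.upperCentralSeries (Y ⟶ Red.bc g G) n = ⊤)
    (X : Over S) (z : X ⟶ G) : UC G n (eps g X ≫ z) := by
  intro X' t
  have := ucs_top_of_over g G n hK X' (t.left ≫ (Red.bc g X).hom) (by
    rw [Category.assoc]
    exact Over.w t)
  rw [this]
  exact Subgroup.mem_top _

variable [IsSchemeTheoreticallyDominant g] [QuasiCompact g]

theorem dense_eps (X : Over S) [Flat X.hom] : IsSchemeTheoreticallyDominant (eps g X).left := by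
  rw [eps_left]
  infer_instance

variable [Flat G.hom] [IsSeparated G.hom]

theorem uc_of_generic (m : ℕ) : ∀ (X : Over S) [Flat X.hom] (z : X ⟶ G),
    UC G m (eps g X ≫ z) → UC G m z := by
  induction m with
  | zero =>
    intro X _ z h
    rw [uc_zero] at h ⊢
    haveI := dense_eps g X
    apply Groth.Agent.Lib.AMonDense.eq_of_dense (eps g X)
    rw [h, MonObj.comp_one]
  | succ m ih =>
    intro X _ z h
    rw [uc_succ] at h ⊢
    haveI : Flat (X ⊗ G).hom := by
      rw [Over.tensorObj_hom]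
      infer_instance
    apply ih (X ⊗ G)
    have e1 : lift ((Over.map g).map ((Over.pullback g).map (fst X G)))
        (eps g (X ⊗ G) ≫ snd X G) ≫ fst _ G ≫ eps g X ≫ z = eps g (X ⊗ G) ≫ fst X G ≫ z := by
      rw [lift_fst_assoc, ← Category.assoc, eps_nat, Category.assoc]
    have e2 : lift ((Over.map g).map ((Over.pullback g).map (fst X G)))
        (eps g (X ⊗ G) ≫ snd X G) ≫ snd _ G = eps g (X ⊗ G) ≫ snd X G := lift_snd _ _
    have e : eps g (X ⊗ G) ≫ ⁅fst X G ≫ z, snd X G⁆ =
        lift ((Over.map g).map ((Over.pullback g).map (fst X G))) (eps g (X ⊗ G) ≫ snd X G) ≫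
          ⁅fst _ G ≫ eps g X ≫ z, snd _ G⁆ := by
      rw [comp_comm, comp_comm, e1, e2]
    rw [e]
    exact uc_comp G m _ _ h

theorem nilp_of_generic (hK : AGF.IsNilpotentGrp (Red.bc g G)) : AGF.IsNilpotentGrp G := by
  obtain ⟨n, hn⟩ := hK
  refine ⟨n, (all_uc_iff G n).2 ?_⟩
  intro X z
  have h1 : UC G n (𝟙 G) := uc_of_generic g G n G (𝟙 G) (uc_eps g G n hn G (𝟙 G))
  have := uc_comp G n z (𝟙 G) h1
  rwa [Category.comp_id] at this

theorem solv_of_generic (hK : Red.IsSolvableGrp (Red.bc g G)) : Red.IsSolvableGrp G := by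
  obtain ⟨n, hn⟩ := hK
  refine ⟨n, fun X => ?_⟩
  rw [eq_bot_iff]
  intro x hx
  obtain ⟨P, d, t, hP, hd, rfl⟩ := ds_univ G n X x hx
  haveI := hP
  have h1 : eps g P ≫ d = 1 := by
    have h2 : eps g P ≫ d ∈ derivedSeries ((Over.map g).obj (Red.bc g P) ⟶ G) n :=
      pre_mem_ds G _ _ n hd
    have h3 : derivedSeries ((Over.map g).obj (Red.bc g P) ⟶ G) n = ⊥ :=
      ds_bot_of_equiv (chkEquiv g G _) n (hn _)
    rw [h3, Subgroup.mem_bot] at h2
    exact h2
  haveI := dense_eps g P
  have h4 : d = 1 := by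
    apply Groth.Agent.Lib.AMonDense.eq_of_dense (eps g P)
    rw [h1, MonObj.comp_one]
  rw [h4, MonObj.comp_one]
  exact one_mem _

end bc

theorem main18082 (A : Type u) [CommRing A] [IsDomain A]
    (K : Type u) [Field K] [Algebra A K] [IsFractionRing A K]
    {U : Scheme.{u}} (s : U ⟶ Spec (CommRingCat.of A))
    (G : Over (Spec (CommRingCat.of A))) [GrpObj G] [Flat G.hom] [IsSeparated G.hom] :
    (AGF.IsNilpotentGrp (Red.bc (Spec.map (CommRingCat.ofHom (algebraMap A K))) G) →
      AGF.IsNilpotentGrp (Red.bc s G)) ∧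
    (Red.IsSolvableGrp (Red.bc (Spec.map (CommRingCat.ofHom (algebraMap A K))) G) →
      Red.IsSolvableGrp (Red.bc s G)) := by
  haveI := dominant_frac A K
  exact ⟨fun h => nilp_bc s G (nilp_of_generic _ G h), fun h => solv_bc s G (solv_of_generic _ G h)⟩

end Groth.Agent.Lib.NilpSolv
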