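import Mathlib

set_option autoImplicit false
universe u v
open CategoryTheory CategoryTheory.Limits

namespace Groth.Agent.Lib.NineHomH7

theorem main' {C : Type u} [Category.{v} C] [Abelian C] (T : ShortComplex C) {A₂ A₃ C₁ C₂ : C}
    (i₁ : T.X₁ ⟶ A₂) (p₁ : A₂ ⟶ A₃) (wA : i₁ ≫ p₁ = 0)
    (hA : (ShortComplex.mk i₁ p₁ wA).ShortExact)
    (i₂ : A₂ ⟶ T.X₂) (π₂ : T.X₂ ⟶ C₂) (wB : i₂ ≫ π₂ = 0)
    (hB : (ShortComplex.mk i₂ π₂ wB).ShortExact)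
    (j : C₁ ⟶ C₂) (q : C₂ ⟶ T.X₃) (wC : j ≫ q = 0) (hC : (ShortComplex.mk j q wC).ShortExact)
    (hTf' : T.f = i₁ ≫ i₂) (hTg' : T.g = π₂ ≫ q)
    (h₂ : i₂ ≫ T.g = 0) (h₃ : T.f ≫ π₂ = 0)
    (f : A₃ ⟶ T.homology) (g : T.homology ⟶ C₁)
    (hf : p₁ ≫ f = T.liftCycles i₂ h₂ ≫ T.homologyπ)
    (hg : g ≫ j = T.homologyι ≫ T.descOpcycles π₂ h₃) :
    ∃ wfg : f ≫ g = 0, (ShortComplex.mk f g wfg).ShortExact := by
  haveI : Epi p₁ := hA.epi_g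
  haveI : Mono i₁ := hA.mono_f
  haveI : Mono i₂ := hB.mono_f
  haveI : Epi π₂ := hB.epi_g
  haveI : Mono j := hC.mono_f
  haveI : Epi q := hC.epi_g
  have hι : T.homologyπ ≫ g ≫ j = T.iCycles ≫ π₂ := by
    rw [hg, ← Category.assoc, T.homology_π_ι, Category.assoc, T.p_descOpcycles]
  have e1 : p₁ ≫ f ≫ g ≫ j = 0 := by
    calc p₁ ≫ f ≫ g ≫ j = (p₁ ≫ f) ≫ g ≫ j := by rw [Category.assoc]
      _ = (T.liftCycles i₂ h₂ ≫ T.homologyπ) ≫ g ≫ j := by rw [hf]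
      _ = T.liftCycles i₂ h₂ ≫ (T.homologyπ ≫ g ≫ j) := by rw [Category.assoc]
      _ = T.liftCycles i₂ h₂ ≫ T.iCycles ≫ π₂ := by rw [hι]
      _ = i₂ ≫ π₂ := by rw [← Category.assoc, T.liftCycles_i]
      _ = 0 := wB
  have wfg : f ≫ g = 0 := by
    rw [← cancel_epi p₁, ← cancel_mono j]
    simpa only [Category.assoc, comp_zero, zero_comp] using e1
  have hmono : Mono f := by
    apply Preadditive.mono_of_cancel_zero
    intro P x hx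
    obtain ⟨P₁, π₁, hπ₁, y, hy⟩ := surjective_up_to_refinements_of_epi p₁ x
    have h1 : (y ≫ T.liftCycles i₂ h₂) ≫ T.homologyπ = 0 := by
      rw [Category.assoc, ← hf, ← Category.assoc, ← hy, Category.assoc, hx, comp_zero]
    have hex : (ShortComplex.mk T.toCycles T.homologyπ T.toCycles_comp_homologyπ).Exact :=
      ShortComplex.exact_of_g_is_cokernel _ T.homologyIsCokernel
    obtain ⟨P₂, π₂', hπ₂', z, hz⟩ := hex.exact_up_to_refinements _ h1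
    have hz' : π₂' ≫ y ≫ T.liftCycles i₂ h₂ = z ≫ T.toCycles := hz
    have h2 : π₂' ≫ y = z ≫ i₁ := by
      rw [← cancel_mono i₂]
      have := congrArg (· ≫ T.iCycles) hz'
      simp only [Category.assoc, T.liftCycles_i, T.toCycles_i, hTf'] at this
      simpa only [Category.assoc] using this
    have h3 : (π₂' ≫ π₁) ≫ x = 0 := by
      rw [Category.assoc, hy, ← Category.assoc, h2, Category.assoc, wA, comp_zero]
    haveI := hπ₁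
    haveI := hπ₂'
    haveI : Epi (π₂' ≫ π₁) := epi_comp _ _
    exact (cancel_epi (π₂' ≫ π₁)).mp (by rw [h3, comp_zero])
  have hepi : Epi g := by
    rw [epi_iff_surjective_up_to_refinements]
    intro P c
    obtain ⟨P₁, π₁, hπ₁, b, hb⟩ := surjective_up_to_refinements_of_epi π₂ (c ≫ j)
    have hb0 : b ≫ T.g = 0 := by
      rw [hTg', ← Category.assoc, ← hb, Category.assoc, Category.assoc, wC, comp_zero, comp_zero]
    refine ⟨P₁, π₁, hπ₁, T.liftCycles b hb0 ≫ T.homologyπ, ?_⟩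
    apply (cancel_mono j).mp
    symm
    calc ((T.liftCycles b hb0 ≫ T.homologyπ) ≫ g) ≫ j
        = T.liftCycles b hb0 ≫ (T.homologyπ ≫ g ≫ j) := by simp only [Category.assoc]
      _ = T.liftCycles b hb0 ≫ T.iCycles ≫ π₂ := by rw [hι]
      _ = b ≫ π₂ := by rw [← Category.assoc, T.liftCycles_i]
      _ = π₁ ≫ c ≫ j := hb.symm
      _ = (π₁ ≫ c) ≫ j := (Category.assoc _ _ _).symm
  have hexact : (ShortComplex.mk f g wfg).Exact := by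
    rw [ShortComplex.exact_iff_exact_up_to_refinements]
    intro P x hx
    have hx' : x ≫ g = 0 := hx
    obtain ⟨P₁, π₁, hπ₁, k, hk⟩ := surjective_up_to_refinements_of_epi T.homologyπ x
    have hb : (k ≫ T.iCycles) ≫ π₂ = 0 := by
      calc (k ≫ T.iCycles) ≫ π₂ = k ≫ (T.iCycles ≫ π₂) := Category.assoc _ _ _
        _ = k ≫ T.homologyπ ≫ g ≫ j := by rw [hι]
        _ = (k ≫ T.homologyπ) ≫ g ≫ j := (Category.assoc _ _ _).symm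
        _ = (π₁ ≫ x) ≫ g ≫ j := by rw [hk]
        _ = π₁ ≫ (x ≫ g) ≫ j := by simp only [Category.assoc]
        _ = 0 := by rw [hx', zero_comp, comp_zero]
    obtain ⟨P₂, π₂', hπ₂', a, ha⟩ := hB.exact.exact_up_to_refinements (k ≫ T.iCycles) hb
    have ha' : π₂' ≫ k ≫ T.iCycles = a ≫ i₂ := ha
    haveI := hπ₁
    haveI := hπ₂'
    refine ⟨P₂, π₂' ≫ π₁, epi_comp _ _, a ≫ p₁, ?_⟩
    have h1 : a ≫ T.liftCycles i₂ h₂ = π₂' ≫ k := by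
      rw [← cancel_mono T.iCycles, Category.assoc, T.liftCycles_i, Category.assoc, ha']
    calc (π₂' ≫ π₁) ≫ x = π₂' ≫ (π₁ ≫ x) := Category.assoc _ _ _
      _ = π₂' ≫ k ≫ T.homologyπ := by rw [hk]
      _ = (π₂' ≫ k) ≫ T.homologyπ := (Category.assoc _ _ _).symm
      _ = (a ≫ T.liftCycles i₂ h₂) ≫ T.homologyπ := by rw [h1]
      _ = a ≫ (p₁ ≫ f) := by rw [Category.assoc, hf]
      _ = (a ≫ p₁) ≫ f := (Category.assoc _ _ _).symm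
  exact ⟨wfg, { exact := hexact, mono_f := hmono, epi_g := hepi }⟩

theorem main {C : Type u} [Category.{v} C] [Abelian C] {A₁ A₂ A₃ B₂ C₁ C₂ C₃ : C}
    (i₁ : A₁ ⟶ A₂) (p₁ : A₂ ⟶ A₃) (wA : i₁ ≫ p₁ = 0)
    (hA : (ShortComplex.mk i₁ p₁ wA).ShortExact)
    (i₂ : A₂ ⟶ B₂) (π₂ : B₂ ⟶ C₂) (wB : i₂ ≫ π₂ = 0)
    (hB : (ShortComplex.mk i₂ π₂ wB).ShortExact)
    (j : C₁ ⟶ C₂) (q : C₂ ⟶ C₃) (wC : j ≫ q = 0) (hC : (ShortComplex.mk j q wC).ShortExact)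
    (w : (i₁ ≫ i₂) ≫ (π₂ ≫ q) = 0) (h₂ : i₂ ≫ (π₂ ≫ q) = 0) (h₃ : (i₁ ≫ i₂) ≫ π₂ = 0)
    (f : A₃ ⟶ (ShortComplex.mk (i₁ ≫ i₂) (π₂ ≫ q) w).homology)
    (g : (ShortComplex.mk (i₁ ≫ i₂) (π₂ ≫ q) w).homology ⟶ C₁)
    (hf : p₁ ≫ f = (ShortComplex.mk (i₁ ≫ i₂) (π₂ ≫ q) w).liftCycles i₂ h₂ ≫
      (ShortComplex.mk (i₁ ≫ i₂) (π₂ ≫ q) w).homologyπ)
    (hg : g ≫ j = (ShortComplex.mk (i₁ ≫ i₂) (π₂ ≫ q) w).homologyι ≫
      (ShortComplex.mk (i₁ ≫ i₂) (π₂ ≫ q) w).descOpcycles π₂ h₃) :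
    ∃ wfg : f ≫ g = 0, (ShortComplex.mk f g wfg).ShortExact :=
  main' (ShortComplex.mk (i₁ ≫ i₂) (π₂ ≫ q) w) i₁ p₁ wA hA i₂ π₂ wB hB j q wC hC rfl rfl
    h₂ h₃ f g hf hg

end Groth.Agent.Lib.NineHomH7
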