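import Mathlib
import Groth.Prelude.Def_W4c5algebraiztannakaNis

set_option autoImplicit false
set_option linter.unusedSimpArgs false
set_option linter.unusedVariables false
set_option linter.unusedSectionVars false
set_option linter.style.longLine false
set_option linter.unnecessarySimpa false
set_option linter.deprecated false
set_option linter.style.haveILetI false
set_option maxHeartbeats 1600000
set_option backward.isDefEq.respectTransparency false
set_option backward.isDefEq.respectTransparency.types false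
set_option backward.defeqAttrib.useBackward true

open CategoryTheory AlgebraicGeometry Topology CategoryTheory.Limits

universe u

noncomputable section

namespace Groth.Agent.Lib.NisCompL

open W4c5algebraiztannaka

/-! ### Topological lemmas -/

lemma isCompact_of_isConstructible {X : Scheme.{u}} [CompactSpace X] [QuasiSeparatedSpace X]
    {s : Set X} (hs : IsConstructible s) : IsCompact s := by
  haveI : Nonempty X.affineOpens := ⟨⟨⊥, isAffineOpen_bot X⟩⟩
  have hb : TopologicalSpace.IsTopologicalBasis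
      (Set.range (fun U : X.affineOpens => ((U : X.Opens) : Set X))) := by
    have := X.isBasis_affineOpens
    unfold TopologicalSpace.Opens.IsBasis at this
    rwa [Set.image_eq_range] at this
  exact IsConstructible.induction_of_isTopologicalBasis (P := fun s _ => IsCompact s)
    (fun U : X.affineOpens => ((U : X.Opens) : Set X)) hb (fun U => U.2.isCompact)
    (fun i s _ => (i.2.isCompact).diff (isOpen_biUnion fun j _ => j.1.2))
    (fun s _ t _ h1 h2 => h1.union h2) s hs

lemma isRetrocompact_compl {X : Scheme.{u}} [CompactSpace X]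
    [QuasiSeparatedSpace X] {Z : Set X} (hZ : IsClosed Z) (hZc : IsConstructible Z) :
    IsRetrocompact Zᶜ :=
  (isCompact_of_isConstructible hZc.compl).isRetrocompact hZ.isOpen_compl

lemma top_image_constructible {T X : Type*} [TopologicalSpace T] [TopologicalSpace X]
    {γ : T → X} (hγ : IsEmbedding γ) {Z Z' : Set X} (hZ : IsClosed Z) (hZ' : IsClosed Z')
    (hO : IsRetrocompact Zᶜ) (hO' : IsRetrocompact Z'ᶜ) (hr : Set.range γ = Z' \ Z)
    {C : Set T} (hC : IsConstructible C) : IsConstructible (γ '' C) := by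
  have hmem : ∀ t, γ t ∈ Z' \ Z := fun t => by rw [← hr]; exact Set.mem_range_self t
  let j : T → ↥(Zᶜ) := fun t => ⟨γ t, (hmem t).2⟩
  have hval : IsOpenEmbedding (Subtype.val : ↥(Zᶜ) → X) :=
    hZ.isOpen_compl.isOpenEmbedding_subtypeVal
  have hjc : Continuous j := hγ.continuous.subtype_mk _
  have hjemb : IsEmbedding j :=
    IsEmbedding.of_comp (g := Subtype.val) hjc continuous_subtype_val hγ
  have hjrange : Set.range j = Subtype.val ⁻¹' Z' := by
    ext x; constructor
    · rintro ⟨t, rfl⟩; exact (hmem t).1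
    · intro hx
      have : x.1 ∈ Set.range γ := by rw [hr]; exact ⟨hx, x.2⟩
      obtain ⟨t, ht⟩ := this
      exact ⟨t, Subtype.ext ht⟩
  have hjclosed : IsClosedEmbedding j :=
    ⟨hjemb, by rw [hjrange]; exact hZ'.preimage continuous_subtype_val⟩
  have h1 : IsConstructible (j '' C) := hC.image_of_isClosedEmbedding hjclosed (by
    rw [hjrange, ← Set.preimage_compl]; exact hO'.preimage_of_isOpenEmbedding hval)
  have h2 : IsConstructible (Subtype.val '' (j '' C)) := h1.image_of_isOpenEmbedding hval (by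
    rw [Subtype.range_coe]; exact hO)
  rw [← Set.image_comp] at h2
  exact h2

lemma top_closed_union {T X : Type*} [TopologicalSpace T] [TopologicalSpace X]
    {γ : T → X} (hγ : IsInducing γ) {Z Z' : Set X} (hZ : IsClosed Z) (hZ' : IsClosed Z')
    (hr : Set.range γ = Z' \ Z) {C : Set T} (hC : IsClosed C) : IsClosed (Z ∪ γ '' C) := by
  obtain ⟨K, hK, rfl⟩ := hγ.isClosed_iff.mp hC
  have : Z ∪ γ '' (γ ⁻¹' K) = Z ∪ (K ∩ Z') := by
    rw [Set.image_preimage_eq_inter_range, hr]
    ext x; constructor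
    · rintro (h | ⟨h1, h2, _⟩)
      · exact Or.inl h
      · exact Or.inr ⟨h1, h2⟩
    · rintro (h | ⟨h1, h2⟩)
      · exact Or.inl h
      · by_cases hx : x ∈ Z
        · exact Or.inl hx
        · exact Or.inr ⟨h1, h2, hx⟩
  rw [this]; exact hZ.union (hK.inter hZ')

lemma set_identity {T X : Type*} {γ : T → X} (hinj : Function.Injective γ) {Bk Bk1 : Set X}
    (hr : Set.range γ = Bk1 \ Bk) (P P' : Set T) :
    (Bk ∪ γ '' P') \ (Bk ∪ γ '' P) = γ '' (P' \ P) := by
  ext x
  constructor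
  · rintro ⟨h1, h2⟩
    rcases h1 with h1 | ⟨t, ht, rfl⟩
    · exact absurd (Or.inl h1) h2
    · exact ⟨t, ⟨ht, fun htP => h2 (Or.inr ⟨t, htP, rfl⟩)⟩, rfl⟩
  · rintro ⟨t, ⟨ht1, ht2⟩, rfl⟩
    refine ⟨Or.inr ⟨t, ht1, rfl⟩, ?_⟩
    rintro (h | ⟨t', ht', hEq⟩)
    · have : γ t ∈ Bk1 \ Bk := by rw [← hr]; exact Set.mem_range_self t
      exact this.2 h
    · rw [hinj hEq] at ht'; exact ht2 ht'

/-! ### Sections of a composite -/

lemma hasSectOver_comp {Y₁ Y₂ Y₃ : Scheme.{u}} (g₁ : Y₁ ⟶ Y₂) (g₂ : Y₂ ⟶ Y₃)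
    {T : Scheme.{u}} (γ : T ⟶ Y₃) (s : T ⟶ Y₂) [IsImmersion γ] (hs : s ≫ g₂ = γ)
    {W : Set Y₂} (hW : HasSectOver g₁ W) : HasSectOver (g₁ ≫ g₂) (γ '' (s ⁻¹' W)) := by
  obtain ⟨T', γ', s', hγ', hr', hs'⟩ := hW
  haveI := hγ'
  refine ⟨pullback s γ', pullback.fst s γ' ≫ γ, pullback.snd s γ' ≫ s', inferInstance, ?_, ?_⟩
  · have h1 : Set.range (pullback.fst s γ') = s ⁻¹' Set.range γ' :=
      Scheme.Pullback.range_fst s γ'
    have h2 : Set.range (fun t => (pullback.fst s γ' ≫ γ) t)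
        = γ '' Set.range (pullback.fst s γ') := by
      ext x; constructor
      · rintro ⟨t, rfl⟩
        exact ⟨pullback.fst s γ' t, ⟨t, rfl⟩, (Scheme.Hom.comp_apply _ _ _).symm⟩
      · rintro ⟨_, ⟨t, rfl⟩, rfl⟩
        exact ⟨t, Scheme.Hom.comp_apply _ _ _⟩
    have hr'' : Set.range γ' = W := hr'
    rw [h2, h1, hr'']
  · rw [Category.assoc, reassoc_of% hs', ← pullback.condition_assoc, hs]

/-! ### Chains indexed by `ℕ` -/

def Reach {U Y : Scheme.{u}} (f : U ⟶ Y) (n : ℕ) (Z' : Set Y) : Prop :=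
  ∃ Zs : ℕ → Set Y, Zs 0 = ∅ ∧ Zs n = Z' ∧ (∀ i, i < n → Zs i ⊆ Zs (i+1)) ∧
    (∀ i, i ≤ n → IsClosed (Zs i) ∧ IsConstructible (Zs i)) ∧
    ∀ i, i < n → HasSectOver f (Zs (i+1) \ Zs i)

lemma reach_zero {U Y : Scheme.{u}} (f : U ⟶ Y) : Reach f 0 ∅ :=
  ⟨fun _ => ∅, rfl, rfl, fun i hi => absurd hi (Nat.not_lt_zero i),
    fun i _ => ⟨isClosed_empty, IsConstructible.empty⟩,
    fun i hi => absurd hi (Nat.not_lt_zero i)⟩

lemma reach_step {U Y : Scheme.{u}} (f : U ⟶ Y) {n : ℕ} {Z Z' : Set Y} (h : Reach f n Z)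
    (hsub : Z ⊆ Z') (hcl : IsClosed Z') (hco : IsConstructible Z')
    (hsec : HasSectOver f (Z' \ Z)) : Reach f (n+1) Z' := by
  obtain ⟨Zs, h0, hn, hmono, hcc, hs⟩ := h
  refine ⟨fun i => if i ≤ n then Zs i else Z', ?_, ?_, ?_, ?_, ?_⟩
  · show (if 0 ≤ n then Zs 0 else Z') = ∅
    rw [if_pos (Nat.zero_le n)]; exact h0
  · show (if n + 1 ≤ n then Zs (n+1) else Z') = Z'
    rw [if_neg (Nat.not_succ_le_self n)]
  · intro i hi
    have hi' : i ≤ n := Nat.lt_succ_iff.mp hi
    show (if i ≤ n then Zs i else Z') ⊆ (if i + 1 ≤ n then Zs (i+1) else Z')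
    rw [if_pos hi']
    by_cases h1 : i + 1 ≤ n
    · rw [if_pos h1]; exact hmono i h1
    · have hin : i = n := by omega
      rw [if_neg h1, hin, hn]; exact hsub
  · intro i hi
    show IsClosed (if i ≤ n then Zs i else Z') ∧ IsConstructible (if i ≤ n then Zs i else Z')
    by_cases h1 : i ≤ n
    · rw [if_pos h1]; exact hcc i h1
    · rw [if_neg h1]; exact ⟨hcl, hco⟩
  · intro i hi
    have hi' : i ≤ n := Nat.lt_succ_iff.mp hi
    show HasSectOver f ((if i + 1 ≤ n then Zs (i+1) else Z') \ (if i ≤ n then Zs i else Z'))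
    rw [if_pos hi']
    by_cases h1 : i + 1 ≤ n
    · rw [if_pos h1]; exact hs i h1
    · have hin : i = n := by omega
      rw [if_neg h1, hin, hn]; exact hsec

lemma seq_of_cover {U Y : Scheme.{u}} {f : U ⟶ Y} {m : ℕ} (h : IsNisCoverLen f m) :
    ∃ Zs : ℕ → Set Y, Zs 0 = ∅ ∧ Zs m = Set.univ ∧ (∀ i, i < m → Zs i ⊆ Zs (i+1)) ∧
    (∀ i, i ≤ m → IsClosed (Zs i) ∧ IsConstructible (Zs i)) ∧
    ∀ i, i < m → HasSectOver f (Zs (i+1) \ Zs i) := by
  obtain ⟨_, Z, h0, hl, hmono, hcc, hs⟩ := h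
  refine ⟨fun i => if h : i < m + 1 then Z ⟨i, h⟩ else Set.univ, ?_, ?_, ?_, ?_, ?_⟩
  · show (if h : 0 < m + 1 then Z ⟨0, h⟩ else Set.univ) = ∅
    rw [dif_pos (Nat.succ_pos m)]; exact h0
  · show (if h : m < m + 1 then Z ⟨m, h⟩ else Set.univ) = Set.univ
    rw [dif_pos (Nat.lt_succ_self m)]; exact hl
  · intro i hi
    show (if h : i < m + 1 then Z ⟨i, h⟩ else Set.univ)
      ⊆ (if h : i + 1 < m + 1 then Z ⟨i + 1, h⟩ else Set.univ)
    rw [dif_pos (by omega : i < m + 1), dif_pos (by omega : i + 1 < m + 1)]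
    exact hmono (Fin.mk_le_mk.mpr (Nat.le_succ i))
  · intro i hi
    show IsClosed (if h : i < m + 1 then Z ⟨i, h⟩ else Set.univ)
      ∧ IsConstructible (if h : i < m + 1 then Z ⟨i, h⟩ else Set.univ)
    rw [dif_pos (by omega : i < m + 1)]; exact hcc _
  · intro i hi
    show HasSectOver f ((if h : i + 1 < m + 1 then Z ⟨i + 1, h⟩ else Set.univ)
      \ (if h : i < m + 1 then Z ⟨i, h⟩ else Set.univ))
    rw [dif_pos (by omega : i < m + 1), dif_pos (by omega : i + 1 < m + 1)]
    exact hs ⟨i, hi⟩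

lemma cover_of_reach {U Y : Scheme.{u}} {f : U ⟶ Y} [Etale f] {m : ℕ}
    (h : Reach f m Set.univ) : IsNisCoverLen f m := by
  obtain ⟨Zs, h0, hn, hmono, hcc, hs⟩ := h
  refine ⟨inferInstance, fun k => Zs k.val, ?_, ?_, ?_, ?_, ?_⟩
  · show Zs (0 : Fin (m+1)).val = ∅
    rw [Fin.val_zero]; exact h0
  · show Zs (Fin.last m).val = Set.univ
    rw [Fin.val_last]; exact hn
  · rw [Fin.monotone_iff_le_succ]
    intro i
    show Zs i.castSucc.val ⊆ Zs i.succ.val
    rw [Fin.val_castSucc, Fin.val_succ]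
    exact hmono i.val i.2
  · intro k; exact hcc k.val (Nat.lt_succ_iff.mp k.2)
  · intro k
    show HasSectOver f (Zs k.succ.val \ Zs k.castSucc.val)
    rw [Fin.val_castSucc, Fin.val_succ]
    exact hs k.val k.2

/-! ### Main theorem -/

theorem main {Y₁ Y₂ Y₃ : Scheme.{u}} (g₁ : Y₁ ⟶ Y₂) (g₂ : Y₂ ⟶ Y₃)
    [CompactSpace Y₂] [QuasiSeparatedSpace Y₂]
    [CompactSpace Y₃] [QuasiSeparatedSpace Y₃] (m₁ m₂ : ℕ)
    (h₁ : IsNisCoverLen g₁ m₁) (h₂ : IsNisCoverLen g₂ m₂) :
    IsNisCoverLen (g₁ ≫ g₂) (m₁ * m₂) := by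
  haveI := h₁.etale
  haveI := h₂.etale
  obtain ⟨A, hA0, hAm, hAmono, hAcc, hAs⟩ := seq_of_cover h₁
  obtain ⟨B, hB0, hBm, hBmono, hBcc, hBs⟩ := seq_of_cover h₂
  have key : ∀ k, k ≤ m₂ → Reach (g₁ ≫ g₂) (k * m₁) (B k) := by
    intro k
    induction k with
    | zero => intro _; rw [Nat.zero_mul, hB0]; exact reach_zero _
    | succ k ih =>
      intro hk
      have hk' : k < m₂ := hk
      have ihk := ih (Nat.le_of_lt hk')
      obtain ⟨T, γ, s, hγ, hr, hs⟩ := hBs k hk'
      haveI := hγ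
      have hr' : Set.range γ = B (k+1) \ B k := hr
      have hBk := hBcc k (Nat.le_of_lt hk')
      have hBk1 := hBcc (k+1) hk
      have inner : ∀ l, l ≤ m₁ →
          Reach (g₁ ≫ g₂) (k * m₁ + l) (B k ∪ γ '' (s ⁻¹' A l)) := by
        intro l
        induction l with
        | zero =>
          intro _
          rw [hA0, Set.preimage_empty, Set.image_empty, Set.union_empty, Nat.add_zero]
          exact ihk
        | succ l ihl =>
          intro hl
          have hl' : l < m₁ := hl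
          have ihl' := ihl (Nat.le_of_lt hl')
          rw [← Nat.add_assoc]
          refine reach_step _ ihl' ?_ ?_ ?_ ?_
          · exact Set.union_subset_union_right _
              (Set.image_mono (Set.preimage_mono (hAmono l hl')))
          · exact top_closed_union γ.isEmbedding.isInducing hBk.1 hBk1.1 hr'
              ((hAcc (l+1) hl).1.preimage s.continuous)
          · refine hBk.2.union ?_
            exact top_image_constructible γ.isEmbedding hBk.1 hBk1.1
              (isRetrocompact_compl hBk.1 hBk.2) (isRetrocompact_compl hBk1.1 hBk1.2) hr'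
              (s.isConstructible_preimage (hAcc (l+1) hl).2)
          · have hset : (B k ∪ γ '' (s ⁻¹' A (l+1))) \ (B k ∪ γ '' (s ⁻¹' A l))
                = γ '' (s ⁻¹' (A (l+1) \ A l)) := by
              rw [Set.preimage_diff]
              exact set_identity γ.isEmbedding.injective hr' _ _
            rw [hset]
            exact hasSectOver_comp g₁ g₂ γ s hs (hAs l hl')
      have hfin := inner m₁ le_rfl
      rw [hAm, Set.preimage_univ, Set.image_univ, hr',
        Set.union_diff_cancel (hBmono k hk')] at hfin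
      rw [Nat.succ_mul]
      exact hfin
  have hfin := key m₂ le_rfl
  rw [hBm, Nat.mul_comm] at hfin
  exact cover_of_reach hfin

end Groth.Agent.Lib.NisCompL
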