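import Mathlib
import Groth.Prelude

/-!
# Uniform affine covers of base changes along `Spec B ⟶ Y` (helper3)

For a quasi-compact morphism `j : W ⟶ Y` with `Y` quasi-compact, there is `m` such that every base
change `W ×_Y Spec B` is a union of `m` affine opens (`exists_uniform_affine_cover`).  The point is
a partition of unity on `Spec B` subordinate to the preimages of a finite affine cover of `Y`.
-/

set_option autoImplicit false
set_option linter.all false
set_option maxHeartbeats 1600000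

universe u
open CategoryTheory CategoryTheory.Limits AlgebraicGeometry TopologicalSpace Opposite

namespace Groth.Agent.Lib.UnifAffCovH3

/-- a quasi-compact open is a finite union of affine opens, indexed by `Fin m` -/
theorem exists_fin_cover {X : Scheme.{u}} (U : X.Opens) (hU : IsCompact (U : Set X)) :
    ∃ (m : ℕ) (O : Fin m → X.Opens), (∀ a, IsAffineOpen (O a)) ∧ ⨆ a, O a = U := by
  obtain ⟨s, hs, e⟩ := isCompact_iff_finite_and_eq_biUnion_affineOpens.mp hU
  haveI := hs.fintype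
  let eq := Fintype.equivFin s
  refine ⟨Fintype.card s, fun a => ((eq.symm a : s) : X.affineOpens), fun a => (eq.symm a).1.2, ?_⟩
  rw [e]
  apply le_antisymm
  · refine iSup_le (fun a => ?_)
    exact le_iSup₂_of_le (eq.symm a).1 (eq.symm a).2 le_rfl
  · refine iSup₂_le (fun i hi => ?_)
    refine le_iSup_of_le (eq ⟨i, hi⟩) ?_
    simp

/-- basic opens of `Spec B`, typed as opens of the scheme -/
def bo (B : CommRingCat.{u}) (b : B) : (Spec B).Opens := PrimeSpectrum.basicOpen b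

theorem isAffineOpen_bo (B : CommRingCat.{u}) (b : B) : IsAffineOpen (bo B b) :=
  IsAffineOpen.Spec_basicOpen b

theorem iSup_bo_eq_top (B : CommRingCat.{u}) {ι : Type*} (b : ι → B)
    (h : Ideal.span (Set.range b) = ⊤) : ⨆ k, bo B (b k) = ⊤ :=
  PrimeSpectrum.iSup_basicOpen_eq_top_iff.mpr h

theorem mem_bo (B : CommRingCat.{u}) (b : B) (p : PrimeSpectrum B) :
    p ∈ (PrimeSpectrum.basicOpen b : Opens (PrimeSpectrum B)) ↔ b ∉ p.asIdeal := Iff.rfl

/-- partition of unity on an affine scheme subordinate to a finite open cover -/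
theorem exists_partition (B : CommRingCat.{u}) {n : ℕ} (T : Fin n → (Spec B).Opens)
    (hT : ⨆ k, T k = ⊤) :
    ∃ b : Fin n → B, (∀ k, bo B (b k) ≤ T k) ∧ ⨆ k, bo B (b k) = ⊤ := by
  let I : Fin n → Ideal B := fun k => PrimeSpectrum.vanishingIdeal ((T k : Set (Spec B))ᶜ)
  have hz : ∀ k, PrimeSpectrum.zeroLocus (I k : Set B) = ((T k : Set (Spec B))ᶜ) := fun k => by
    rw [PrimeSpectrum.zeroLocus_vanishingIdeal_eq_closure]
    exact (T k).isOpen.isClosed_compl.closure_eq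
  have htop : ⨆ k, I k = ⊤ := by
    rw [← PrimeSpectrum.zeroLocus_empty_iff_eq_top, PrimeSpectrum.zeroLocus_iSup]
    rw [Set.eq_empty_iff_forall_notMem]
    intro p hp
    have hp' : p ∈ (⨆ k, T k : (Spec B).Opens) := by rw [hT]; trivial
    obtain ⟨k, hk⟩ := Opens.mem_iSup.mp hp'
    have := Set.mem_iInter.mp hp k
    rw [hz k] at this
    exact this hk
  have h1 : (1 : B) ∈ ⨆ k, I k := by rw [htop]; trivial
  obtain ⟨f, hf, hsum⟩ := (Submodule.mem_iSup_iff_exists_finsupp I 1).mp h1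
  refine ⟨fun k => f k, fun k p hp => ?_, ?_⟩
  · by_contra hpk
    have hp2 : p ∈ PrimeSpectrum.zeroLocus (I k : Set B) := by rw [hz k]; exact hpk
    have hp3 : f k ∉ p.asIdeal := hp
    exact hp3 (hp2 (hf k))
  · apply iSup_bo_eq_top
    rw [Ideal.eq_top_iff_one, ← hsum]
    refine Ideal.sum_mem _ (fun k _ => Ideal.subset_span ⟨k, rfl⟩)

section Pullback

variable {W Y : Scheme.{u}} (j : W ⟶ Y) {T : Scheme.{u}} (g : T ⟶ Y)

/-- the open `fst⁻¹ W' ∩ snd⁻¹ D` of the fibre product -/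
noncomputable def boxMap (V : Y.Opens) (W' : W.Opens) (hW' : W' ≤ j ⁻¹ᵁ V) (D : T.Opens)
    (hD : D ≤ g ⁻¹ᵁ V) :
    pullback (j.resLE V W' hW') (g.resLE V D hD) ⟶ pullback j g :=
  pullback.map (j.resLE V W' hW') (g.resLE V D hD) j g W'.ι D.ι V.ι
    (by rw [Scheme.Hom.resLE_comp_ι]) (by rw [Scheme.Hom.resLE_comp_ι])

instance (V : Y.Opens) (W' : W.Opens) (hW' : W' ≤ j ⁻¹ᵁ V) (D : T.Opens)
    (hD : D ≤ g ⁻¹ᵁ V) : IsOpenImmersion (boxMap j g V W' hW' D hD) := by
  unfold boxMap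
  infer_instance

theorem mem_opensRange_boxMap (V : Y.Opens) (W' : W.Opens) (hW' : W' ≤ j ⁻¹ᵁ V) (D : T.Opens)
    (hD : D ≤ g ⁻¹ᵁ V) (x : ↥(pullback j g)) :
    x ∈ (boxMap j g V W' hW' D hD).opensRange ↔
      pullback.fst j g x ∈ W' ∧ pullback.snd j g x ∈ D := by
  have h := Scheme.Pullback.range_map (j.resLE V W' hW') (g.resLE V D hD) j g W'.ι D.ι V.ι
    (by rw [Scheme.Hom.resLE_comp_ι]) (by rw [Scheme.Hom.resLE_comp_ι])
  have hx : x ∈ (boxMap j g V W' hW' D hD).opensRange ↔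
      x ∈ Set.range (boxMap j g V W' hW' D hD) := Iff.rfl
  rw [hx]
  unfold boxMap
  rw [h]
  simp only [Set.mem_inter_iff, Set.mem_preimage, Scheme.Opens.range_ι, SetLike.mem_coe]

theorem isAffineOpen_boxMap (V : Y.Opens) (hV : IsAffineOpen V) (W' : W.Opens)
    (hWa : IsAffineOpen W') (hW' : W' ≤ j ⁻¹ᵁ V) (D : T.Opens) (hDa : IsAffineOpen D)
    (hD : D ≤ g ⁻¹ᵁ V) : IsAffineOpen (boxMap j g V W' hW' D hD).opensRange := by
  haveI : IsAffine (V : Scheme.{u}) := hV
  haveI : IsAffine (W' : Scheme.{u}) := hWa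
  haveI : IsAffine (D : Scheme.{u}) := hDa
  exact isAffineOpen_opensRange _

end Pullback

/-- **uniform affine covers of base changes** -/
theorem exists_uniform_affine_cover {W Y : Scheme.{u}} (j : W ⟶ Y) [QuasiCompact j]
    [CompactSpace Y] :
    ∃ m : ℕ, ∀ (B : CommRingCat.{u}) (g : Spec B ⟶ Y),
      ∃ U : Fin m → (pullback j g).Opens, (∀ k, IsAffineOpen (U k)) ∧ ⨆ k, U k = ⊤ := by
  obtain ⟨n, V, hV, hVtop⟩ := exists_fin_cover (⊤ : Y.Opens)
    (by simpa using CompactSpace.isCompact_univ (X := Y))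
  have hW : ∀ k : Fin n, ∃ (m : ℕ) (O : Fin m → W.Opens), (∀ a, IsAffineOpen (O a)) ∧
      ⨆ a, O a = j ⁻¹ᵁ V k := fun k =>
    exists_fin_cover (j ⁻¹ᵁ V k) (QuasiCompact.isCompact_preimage (f := j) _ (V k).isOpen
      (hV k).isCompact)
  choose mk O hOa hOsup using hW
  let e := Fintype.equivFin (Σ k : Fin n, Fin (mk k))
  refine ⟨Fintype.card (Σ k : Fin n, Fin (mk k)), fun B g => ?_⟩
  have hT : ⨆ k, g ⁻¹ᵁ V k = (⊤ : (Spec B).Opens) := by
    rw [eq_top_iff]
    rintro x -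
    have hx : g x ∈ (⨆ k, V k : Y.Opens) := by rw [hVtop]; trivial
    obtain ⟨k, hk⟩ := Opens.mem_iSup.mp hx
    exact Opens.mem_iSup.mpr ⟨k, hk⟩
  obtain ⟨b, hb, hbtop⟩ := exists_partition B (fun k => g ⁻¹ᵁ V k) hT
  have hOle : ∀ k a, O k a ≤ j ⁻¹ᵁ V k := fun k a => by
    rw [← hOsup k]; exact le_iSup (O k) a
  refine ⟨fun i => (boxMap j g (V (e.symm i).1) (O (e.symm i).1 (e.symm i).2)
      (hOle _ _) (bo B (b (e.symm i).1)) (hb _)).opensRange, fun i => ?_, ?_⟩
  · exact isAffineOpen_boxMap j g _ (hV _) _ (hOa _ _) _ _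
      (isAffineOpen_bo B (b (e.symm i).1)) _
  · rw [eq_top_iff]
    rintro x -
    have hx : pullback.snd j g x ∈ (⨆ k, bo B (b k) : (Spec B).Opens) := by
      rw [hbtop]; trivial
    obtain ⟨k, hk⟩ := Opens.mem_iSup.mp hx
    have hgk : g (pullback.snd j g x) ∈ V k := hb k hk
    have hjk : pullback.fst j g x ∈ j ⁻¹ᵁ V k := by
      show j (pullback.fst j g x) ∈ V k
      have hc : j (pullback.fst j g x) = g (pullback.snd j g x) := by
        rw [← Scheme.Hom.comp_apply, ← Scheme.Hom.comp_apply, pullback.condition]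
      rw [hc]; exact hgk
    rw [← hOsup k] at hjk
    obtain ⟨a, ha⟩ := Opens.mem_iSup.mp hjk
    have key : ∀ (s : Σ k : Fin n, Fin (mk k)), pullback.fst j g x ∈ O s.1 s.2 →
        pullback.snd j g x ∈ bo B (b s.1) → ∀ i, e.symm i = s →
        x ∈ (boxMap j g (V (e.symm i).1) (O (e.symm i).1 (e.symm i).2)
          (hOle _ _) (bo B (b (e.symm i).1)) (hb _)).opensRange := by
      intro s h1 h2 i hi
      subst hi
      rw [mem_opensRange_boxMap]
      exact ⟨h1, h2⟩
    exact Opens.mem_iSup.mpr ⟨e ⟨k, a⟩, key ⟨k, a⟩ ha hk _ (e.symm_apply_apply _)⟩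

end Groth.Agent.Lib.UnifAffCovH3
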