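import Mathlib
import Groth.Prelude

set_option autoImplicit false
set_option linter.style.haveILetI false
set_option linter.unusedVariables false

universe u

open CategoryTheory AlgebraicGeometry TopologicalSpace Limits

namespace Groth.Agent.Lib.ZarNisH4

theorem main {U : Scheme.{u}} [CompactSpace U] [QuasiSeparatedSpace U]
    (k : ℕ) (V : Fin k → U.Opens) (hV : ∀ i, IsCompact (V i : Set U)) (hcov : ⨆ i, V i = ⊤) :
    W4c5algebraiztannaka.IsNisCoverLen
      (Limits.Sigma.desc (fun i => (V i).ι) :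
        (∐ fun i => ((V i : U.Opens) : Scheme.{u})) ⟶ U) k := by
  classical
  let W : Fin (k + 1) → Set U := fun j =>
    ⋃ i ∈ {i : Fin k | (j : ℕ) ≤ (i : ℕ)}, (V i : Set U)
  have hWopen : ∀ j, IsOpen (W j) := fun j => isOpen_biUnion fun i _ => (V i).isOpen
  have hWcomp : ∀ j, IsCompact (W j) := fun j =>
    (Set.toFinite {i : Fin k | (j : ℕ) ≤ (i : ℕ)}).isCompact_biUnion fun i _ => hV i
  have hWmem : ∀ (j : Fin (k + 1)) (x : U),
      x ∈ W j ↔ ∃ i : Fin k, (j : ℕ) ≤ (i : ℕ) ∧ x ∈ (V i : Set U) := by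
    intro j x
    simp only [W, Set.mem_iUnion, Set.mem_setOf_eq, exists_prop]
  refine ⟨IsZariskiLocalAtSource.sigmaDesc (fun i => inferInstance), ?_⟩
  refine ⟨fun j => (W j)ᶜ, ?_, ?_, ?_, ?_, ?_⟩
  · rw [Set.compl_empty_iff]
    ext x
    simp only [Set.mem_univ, iff_true]
    have hx : x ∈ ((⨆ i, V i : U.Opens) : Set U) := by rw [hcov]; trivial
    rw [Opens.coe_iSup, Set.mem_iUnion] at hx
    obtain ⟨i, hi⟩ := hx
    exact (hWmem 0 x).mpr ⟨i, by simp, hi⟩
  · rw [Set.compl_univ_iff]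
    ext x
    simp only [Set.mem_empty_iff_false, iff_false]
    intro hx
    obtain ⟨i, hi, _⟩ := (hWmem _ x).mp hx
    have h1 : ((Fin.last k : Fin (k + 1)) : ℕ) = k := Fin.val_last k
    have h2 := i.2
    omega
  · intro a b hab
    show (W a)ᶜ ≤ (W b)ᶜ
    apply Set.compl_subset_compl.mpr
    intro x hx
    obtain ⟨i, hi, hxi⟩ := (hWmem b x).mp hx
    exact (hWmem a x).mpr ⟨i, le_trans (show (a : ℕ) ≤ (b : ℕ) from hab) hi, hxi⟩
  · intro j
    exact ⟨(hWopen j).isClosed_compl, ((hWcomp j).isConstructible (hWopen j)).compl⟩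
  · intro j
    let Cset : Set (V j : Scheme.{u}) := (V j).ι ⁻¹' (W j.succ)ᶜ
    have hCcl : IsClosed Cset := (hWopen j.succ).isClosed_compl.preimage (V j).ι.continuous
    let C : Closeds (V j : Scheme.{u}) := ⟨Cset, hCcl⟩
    let I := Scheme.IdealSheafData.vanishingIdeal C
    refine ⟨I.subscheme, I.subschemeι ≫ (V j).ι,
      I.subschemeι ≫ Sigma.ι (fun i => ((V i : U.Opens) : Scheme.{u})) j, inferInstance, ?_, ?_⟩
    · have h1 : Set.range (fun t : I.subscheme => (I.subschemeι ≫ (V j).ι) t) =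
          (V j).ι '' Set.range I.subschemeι := by
        ext x
        constructor
        · rintro ⟨t, rfl⟩
          exact ⟨I.subschemeι t, ⟨t, rfl⟩, (Scheme.Hom.comp_apply I.subschemeι (V j).ι t).symm⟩
        · rintro ⟨_, ⟨t, rfl⟩, rfl⟩
          exact ⟨t, Scheme.Hom.comp_apply I.subschemeι (V j).ι t⟩
      rw [h1, Scheme.IdealSheafData.range_subschemeι,
        Scheme.IdealSheafData.coe_support_vanishingIdeal]
      ext x
      constructor
      · rintro ⟨y, hy, rfl⟩
        refine ⟨hy, fun hn => hn ((hWmem _ _).mpr ⟨j, by simp, ?_⟩)⟩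
        rw [Scheme.Opens.ι_apply]
        exact y.2
      · rintro ⟨hx1, hx2⟩
        have hx3 : x ∈ W j.castSucc := not_not.mp hx2
        obtain ⟨i, hi, hxi⟩ := (hWmem _ x).mp hx3
        have hij : i = j := by
          by_contra hne
          apply hx1
          refine (hWmem _ x).mpr ⟨i, ?_, hxi⟩
          have h1 : ((j.castSucc : Fin (k + 1)) : ℕ) = j := Fin.val_castSucc j
          have h2 : ((j.succ : Fin (k + 1)) : ℕ) = j + 1 := Fin.val_succ j
          have h3 : (i : ℕ) ≠ j := fun h => hne (Fin.ext h)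
          omega
        have hxj : x ∈ (V j : Set U) := hij ▸ hxi
        refine ⟨⟨x, hxj⟩, ?_, Scheme.Opens.ι_apply _ _⟩
        show (V j).ι ⟨x, hxj⟩ ∈ (W j.succ)ᶜ
        rw [Scheme.Opens.ι_apply]
        exact hx1
    · rw [Category.assoc, Sigma.ι_desc]

end Groth.Agent.Lib.ZarNisH4
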