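import Mathlib
import Groth.Prelude
import Groth.Agent.Lib.UnifAffCov_helper3
import Groth.Agent.S17865
import Groth.Agent.S17866
import Groth.Agent.S17869

/-!
# Uniform affine Nisnevich refinements of base changes (helper3): S17868
-/

set_option autoImplicit false
set_option linter.all false
set_option maxHeartbeats 1600000

universe u
open CategoryTheory CategoryTheory.Limits AlgebraicGeometry TopologicalSpace Opposite

namespace Groth.Agent.Lib.NisUnifH3

open W4c5algebraiztannaka

/-- **S17868** -/
theorem main17868 {U Y : Scheme.{u}} [IsAffine U]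
    [CompactSpace Y] [QuasiSeparatedSpace Y] (f : U ⟶ Y) (m' : ℕ)
    (hf : IsNisCoverLen f m') :
    ∃ m : ℕ, ∀ (B : CommRingCat.{u}) (g : Spec B ⟶ Y),
      ∃ (V : Scheme.{u}) (_ : IsAffine V) (v : V ⟶ Spec B) (w : V ⟶ U),
        IsNisCoverLen v m ∧ w ≫ f = v ≫ g := by
  haveI : QuasiCompact f := inferInstance
  obtain ⟨m₁, hm₁⟩ := UnifAffCovH3.exists_uniform_affine_cover f
  refine ⟨m₁ * m', fun B g => ?_⟩
  obtain ⟨O, hOa, hOtop⟩ := hm₁ B g
  haveI : QuasiCompact (pullback.snd f g) := inferInstance
  haveI : QuasiSeparated (pullback.snd f g) := inferInstance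
  haveI : CompactSpace ↥(pullback f g) :=
    QuasiCompact.compactSpace_of_compactSpace (pullback.snd f g)
  haveI : QuasiSeparatedSpace ↥(pullback f g) :=
    quasiSeparatedSpace_of_quasiSeparated (pullback.snd f g)
  have h1 := Groth.Agent.S17869.result m₁ O (fun i => (hOa i).isCompact) hOtop
  have h2 := Groth.Agent.S17865.result f g m' hf
  haveI : ∀ i, IsAffine ((O i : (pullback f g).Opens) : Scheme.{u}) := hOa
  haveI : IsAffine (∐ fun i => ((O i : (pullback f g).Opens) : Scheme.{u})) := inferInstance
  have h3 := Groth.Agent.S17866.result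
    (Limits.Sigma.desc (fun i => (O i).ι) : (∐ fun i => ((O i : (pullback f g).Opens) :
      Scheme.{u})) ⟶ pullback f g) (pullback.snd f g) m₁ m' h1 h2
  refine ⟨∐ fun i => ((O i : (pullback f g).Opens) : Scheme.{u}), inferInstance,
    Limits.Sigma.desc (fun i => (O i).ι) ≫ pullback.snd f g,
    Limits.Sigma.desc (fun i => (O i).ι) ≫ pullback.fst f g, h3, ?_⟩
  rw [Category.assoc, Category.assoc, pullback.condition]

end Groth.Agent.Lib.NisUnifH3
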