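import Mathlib
import Groth.Prelude.Def_W4c2brnrinvarInvFld
import Groth.Agent.Lib.NoName_helper1
import Groth.Agent.Lib.NoName2_helper1

/-! Stable purity of the field of invariants of a faithful linear representation of the symmetric
group (no-name lemma + fundamental theorem of symmetric polynomials), helper1. -/

set_option autoImplicit false

universe u

namespace Groth.Agent.Lib.NoName3H1

open IntermediateField
open Groth.Agent.Lib.NoName2H1

section sym

variable (k : Type u) [Field k] (n : ℕ)

theorem rho_one : incl (k := k) (⇑(1 : Equiv.Perm (Fin n))) (1 : Equiv.Perm (Fin n)).injective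
    = AlgHom.id k _ := by
  apply fld_algHom_ext
  intro i
  rw [incl_X]
  rfl

theorem rho_mul (π π' : Equiv.Perm (Fin n)) :
    incl (k := k) ⇑(π * π') (π * π').injective
      = (incl ⇑π π.injective).comp (incl ⇑π' π'.injective) := by
  apply fld_algHom_ext
  intro i
  rw [AlgHom.comp_apply, incl_X, incl_X, incl_X]
  rfl

/-- The permutation representation of `S_n` on `k(x_1, …, x_n)`. -/
noncomputable def rhoAut :
    Equiv.Perm (Fin n) →* (InvFld.Fld (Fin n) k ≃ₐ[k] InvFld.Fld (Fin n) k) :=
  toAut (fun π => incl (k := k) ⇑π π.injective) (rho_one k n) (rho_mul k n)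

theorem rhoAut_X (π : Equiv.Perm (Fin n)) (i : Fin n) :
    rhoAut k n π (InvFld.X i) = InvFld.X (π i) := by
  show (incl (k := k) ⇑π π.injective) (InvFld.X i) = InvFld.X (π i)
  exact incl_X _ _ i

theorem rhoAut_alg (π : Equiv.Perm (Fin n)) (Q : MvPolynomial (Fin n) k) :
    rhoAut k n π (algebraMap _ _ Q)
      = algebraMap _ (InvFld.Fld (Fin n) k) (MvPolynomial.rename π Q) := by
  have h : ((rhoAut k n π).toAlgHom).comp
      (IsScalarTower.toAlgHom k (MvPolynomial (Fin n) k) (InvFld.Fld (Fin n) k))
      = (IsScalarTower.toAlgHom k (MvPolynomial (Fin n) k) (InvFld.Fld (Fin n) k)).comp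
        (MvPolynomial.rename π) := by
    apply MvPolynomial.algHom_ext
    intro i
    show rhoAut k n π (InvFld.X i)
      = algebraMap (MvPolynomial (Fin n) k) (InvFld.Fld (Fin n) k)
        (MvPolynomial.rename π (MvPolynomial.X i))
    rw [rhoAut_X, MvPolynomial.rename_X]
  exact DFunLike.congr_fun h Q

theorem rhoAut_injective : Function.Injective (rhoAut k n) := by
  intro π π' h
  refine Equiv.ext (fun i => ?_)
  have h1 : (InvFld.X (π i) : InvFld.Fld (Fin n) k) = InvFld.X (π' i) := by
    rw [← rhoAut_X, ← rhoAut_X, h]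
  exact (X_AI (k := k) (Fin n)).injective h1

/-- Elementary symmetric polynomials `e_1, …, e_n`. -/
noncomputable def sp (i : Fin n) : MvPolynomial (Fin n) k := MvPolynomial.esymm (Fin n) k (i + 1)

/-- Elementary symmetric polynomials in the rational function field. -/
noncomputable def s (i : Fin n) : InvFld.Fld (Fin n) k :=
  algebraMap (MvPolynomial (Fin n) k) (InvFld.Fld (Fin n) k) (sp k n i)

theorem sp_AI : AlgebraicIndependent k (sp k n) := by
  rw [algebraicIndependent_iff_injective_aeval]
  intro P Q h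
  apply MvPolynomial.esymmAlgHom_fin_injective k (le_refl n)
  apply Subtype.ext
  rw [MvPolynomial.esymmAlgHom_apply, MvPolynomial.esymmAlgHom_apply]
  exact h

theorem sp_surj (A : MvPolynomial (Fin n) k) (hA : A.IsSymmetric) :
    ∃ P : MvPolynomial (Fin n) k, MvPolynomial.aeval (sp k n) P = A := by
  obtain ⟨P, hP⟩ := (MvPolynomial.esymmAlgHom_fin_bijective k n).2 ⟨A, hA⟩
  refine ⟨P, ?_⟩
  have := congrArg Subtype.val hP
  rw [MvPolynomial.esymmAlgHom_apply] at this
  exact this

theorem s_AI : AlgebraicIndependent k (s k n) :=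
  (sp_AI k n).map'
    (f := IsScalarTower.toAlgHom k (MvPolynomial (Fin n) k) (InvFld.Fld (Fin n) k))
    (IsFractionRing.injective _ _)

theorem fixed_sym : IntermediateField.fixedField (rhoAut k n).range
    = IntermediateField.adjoin k (Set.range (s k n)) := by
  classical
  have hinj := IsFractionRing.injective (MvPolynomial (Fin n) k) (InvFld.Fld (Fin n) k)
  apply le_antisymm
  · intro z hz
    rw [IntermediateField.mem_fixedField_iff] at hz
    obtain ⟨P, Q, hQ, rfl⟩ := IsFractionRing.div_surjective (A := MvPolynomial (Fin n) k) z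
    have hQ0 : Q ≠ 0 := nonZeroDivisors.ne_zero hQ
    obtain ⟨N, hNdef⟩ : ∃ N : MvPolynomial (Fin n) k,
        N = ∏ π : Equiv.Perm (Fin n), MvPolynomial.rename π Q := ⟨_, rfl⟩
    have hN0 : N ≠ 0 := by
      rw [hNdef, Finset.prod_ne_zero_iff]
      intro π _
      exact fun h => hQ0 ((MvPolynomial.rename_injective _ π.injective)
        (h.trans (map_zero _).symm))
    have hNsym : N.IsSymmetric := by
      intro τ
      rw [hNdef, map_prod]
      simp_rw [MvPolynomial.rename_rename]
      exact Fintype.prod_equiv (Equiv.mulLeft τ) _ _ (fun π => rfl)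
    obtain ⟨C, hC⟩ : Q ∣ N := by
      have := Finset.dvd_prod_of_mem
        (fun π : Equiv.Perm (Fin n) => MvPolynomial.rename π Q) (Finset.mem_univ 1)
      rw [hNdef]
      simpa using this
    have hC0 : C ≠ 0 := fun h => hN0 (by rw [hC, h, mul_zero])
    have hC0' : algebraMap _ (InvFld.Fld (Fin n) k) C ≠ 0 :=
      fun h => hC0 (hinj (h.trans (map_zero _).symm))
    have hN0' : algebraMap _ (InvFld.Fld (Fin n) k) N ≠ 0 :=
      fun h => hN0 (hinj (h.trans (map_zero _).symm))
    have hz' : algebraMap _ (InvFld.Fld (Fin n) k) P / algebraMap _ _ Q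
        = algebraMap _ _ (P * C) / algebraMap _ _ N := by
      rw [hC, map_mul, map_mul, mul_div_mul_right _ _ hC0']
    have hAsym : (P * C).IsSymmetric := by
      intro π
      apply hinj
      rw [← rhoAut_alg]
      have h1 : algebraMap _ (InvFld.Fld (Fin n) k) (P * C)
          = (algebraMap _ _ P / algebraMap _ _ Q) * algebraMap _ _ N := by
        rw [hz', div_mul_cancel₀ _ hN0']
      rw [h1, map_mul, hz _ ⟨π, rfl⟩, rhoAut_alg, hNsym π]
    obtain ⟨PA, hPA⟩ := sp_surj k n _ hAsym
    obtain ⟨PN, hPN⟩ := sp_surj k n _ hNsym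
    have hcomp : ∀ R : MvPolynomial (Fin n) k, algebraMap (MvPolynomial (Fin n) k)
        (InvFld.Fld (Fin n) k) (MvPolynomial.aeval (sp k n) R)
        = MvPolynomial.aeval (s k n) R := by
      intro R
      have h : (IsScalarTower.toAlgHom k (MvPolynomial (Fin n) k)
          (InvFld.Fld (Fin n) k)).comp (MvPolynomial.aeval (sp k n))
          = MvPolynomial.aeval (s k n) := by
        apply MvPolynomial.algHom_ext
        intro i
        simp [s]
      exact DFunLike.congr_fun h R
    have hmem : ∀ R : MvPolynomial (Fin n) k, MvPolynomial.aeval (s k n) R ∈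
        IntermediateField.adjoin k (Set.range (s k n)) := by
      intro R
      apply IntermediateField.algebra_adjoin_le_adjoin k _
      rw [Algebra.adjoin_range_eq_range_aeval]
      exact ⟨R, rfl⟩
    rw [hz', ← hPA, ← hPN, hcomp, hcomp]
    exact div_mem (hmem _) (hmem _)
  · rw [IntermediateField.adjoin_le_iff]
    rintro _ ⟨j, rfl⟩
    show s k n j ∈ IntermediateField.fixedField _
    rw [IntermediateField.mem_fixedField_iff]
    rintro _ ⟨π, rfl⟩
    show rhoAut k n π (algebraMap _ _ (sp k n j)) = _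
    rw [rhoAut_alg]
    congr 1
    exact MvPolynomial.esymm_isSymmetric _ _ _ π

end sym

theorem adjoin_adjoin_eq {k L : Type*} [Field k] [Field L] [Algebra k L] (S T : Set L)
    (F : IntermediateField k L) (hF : F = IntermediateField.adjoin k S) :
    IntermediateField.restrictScalars k (IntermediateField.adjoin ↥F T)
      = IntermediateField.adjoin k (S ∪ T) := by
  subst hF
  exact IntermediateField.adjoin_adjoin_left k S T

theorem main15698 (k : Type u) [Field k] [CharZero k] (n m : ℕ)
    (G : Subgroup (InvFld.Fld (Fin m) k ≃ₐ[k] InvFld.Fld (Fin m) k)) [Finite G]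
    (e : G ≃* Equiv.Perm (Fin n))
    (hG : ∀ σ ∈ G, ∀ i : Fin m, σ (InvFld.X i) ∈ Submodule.span k (Set.range fun j : Fin m => (InvFld.X j : InvFld.Fld (Fin m) k))) :
    ∃ (r N : ℕ) (t : Fin N → InvFld.Fld (Fin r) (IntermediateField.fixedField G)),
      AlgebraicIndependent k t ∧ IntermediateField.adjoin k (Set.range t) = ⊤ := by
  classical
  haveI hHfin : Finite (rhoAut k n).range :=
    Finite.of_surjective (rhoAut k n).rangeRestrict (MonoidHom.rangeRestrict_surjective _)
  let e' : G ≃* (rhoAut k n).range := e.trans (MonoidHom.ofInjective (rhoAut_injective k n))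
  have hH : ∀ τ ∈ (rhoAut k n).range, IsLin τ := by
    rintro _ ⟨π, rfl⟩ i
    rw [rhoAut_X]
    exact Submodule.subset_span ⟨π i, rfl⟩
  obtain ⟨Γ, hfin, hx, hy, hf1, hf2, hF1, hF2⟩ := diag G (rhoAut k n).range e' hG hH
  haveI := hfin
  obtain ⟨t, htAI, htE⟩ := NoNameH1.main15697 k m n Γ hx hy hf1
  obtain ⟨t', ht'AI, ht'E⟩ := main_swap k m n Γ hx hy hf2
  have hK1 : ∀ z, z ∈ IntermediateField.adjoin k (Set.range fun j : Fin m => (InvFld.X (Sum.inl j) : InvFld.Fld (Fin m ⊕ Fin n) k)) ↔ ∃ a, i1 k m n a = z := by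
    intro z
    rw [← incl_fieldRange Sum.inl Sum.inl_injective, AlgHom.mem_fieldRange]
  have hK2 : ∀ z, z ∈ IntermediateField.adjoin k (Set.range fun j : Fin n => (InvFld.X (Sum.inr j) : InvFld.Fld (Fin m ⊕ Fin n) k)) ↔ ∃ a, i2 k m n a = z := by
    intro z
    rw [← incl_fieldRange Sum.inr Sum.inr_injective, AlgHom.mem_fieldRange]
  obtain ⟨Ψ₁, hΨ₁, -, -⟩ := fld_equiv _ t htAI ↥(IntermediateField.fixedField G)
    ((i1 k m n).comp (IntermediateField.fixedField G).val)
    (fun a => IntermediateField.mem_inf.mpr ⟨(hK1 _).mpr ⟨a.1, rfl⟩, (hF1 a.1).mpr a.2⟩)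
    (fun b hb => by
      obtain ⟨hb1, hb2⟩ := IntermediateField.mem_inf.mp hb
      obtain ⟨a, rfl⟩ := (hK1 b).mp hb1
      exact ⟨⟨a, (hF1 a).mp hb2⟩, rfl⟩)
  have h3 : ∀ z, z ∈ IntermediateField.restrictScalars k (IntermediateField.adjoin (↥(IntermediateField.adjoin k (Set.range fun j : Fin m => (InvFld.X (Sum.inl j) : InvFld.Fld (Fin m ⊕ Fin n) k)) ⊓ IntermediateField.fixedField Γ)) (Set.range t)) ↔ z ∈ IntermediateField.fixedField Γ := by
    intro z
    rw [htE]
  have hΨrange : ∀ z, (∃ a, Ψ₁ a = z) ↔ z ∈ IntermediateField.fixedField Γ := by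
    intro z
    rw [← AlgHom.mem_range, hΨ₁]
    exact ((IntermediateField.mem_restrictScalars (K := k)).symm).trans (h3 z)
  have hF2eq : IntermediateField.adjoin k (Set.range fun j : Fin n => (InvFld.X (Sum.inr j) : InvFld.Fld (Fin m ⊕ Fin n) k)) ⊓ IntermediateField.fixedField Γ
      = IntermediateField.adjoin k (Set.range (fun j => i2 k m n (s k n j))) := by
    have h5 : IntermediateField.adjoin k (Set.range (fun j => i2 k m n (s k n j)))
        = (IntermediateField.fixedField (rhoAut k n).range).map (i2 k m n) := by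
      rw [fixed_sym, IntermediateField.adjoin_map, ← Set.range_comp]
      rfl
    rw [h5]
    ext z
    rw [IntermediateField.mem_inf, hK2, IntermediateField.mem_map]
    constructor
    · rintro ⟨⟨a, rfl⟩, h⟩
      exact ⟨a, (hF2 a).mp h, rfl⟩
    · rintro ⟨a, ha, rfl⟩
      exact ⟨⟨a, rfl⟩, (hF2 a).mpr ha⟩
  obtain ⟨w, hw⟩ : ∃ w : Fin m ⊕ Fin n → InvFld.Fld (Fin m ⊕ Fin n) k,
      w = Sum.elim t' (fun j => i2 k m n (s k n j)) := ⟨_, rfl⟩
  have hwrange : IntermediateField.adjoin k (Set.range w) = IntermediateField.fixedField Γ := by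
    have h5 := adjoin_adjoin_eq (Set.range (fun j => i2 k m n (s k n j))) (Set.range t') _ hF2eq
    have h6 : IntermediateField.adjoin k (Set.range w)
        = IntermediateField.adjoin k
          (Set.range (fun j => i2 k m n (s k n j)) ∪ Set.range t') := by
      rw [hw, Set.Sum.elim_range, Set.union_comm]
    exact h6.trans (h5.symm.trans ht'E)
  have hwAI : AlgebraicIndependent k w := by
    rw [hw, AlgebraicIndependent.sumElim_iff]
    refine ⟨(s_AI k n).map' (f := i2 k m n) (i2 k m n).toRingHom.injective, ?_⟩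
    have hle : ∀ a ∈ Algebra.adjoin k (Set.range (fun j => i2 k m n (s k n j))),
        a ∈ IntermediateField.adjoin k (Set.range fun j : Fin n => (InvFld.X (Sum.inr j) : InvFld.Fld (Fin m ⊕ Fin n) k)) ⊓ IntermediateField.fixedField Γ := by
      intro a ha
      rw [hF2eq]
      exact IntermediateField.algebra_adjoin_le_adjoin k _ ha
    let ι : ↥(Algebra.adjoin k (Set.range (fun j => i2 k m n (s k n j)))) →+*
        ↥(IntermediateField.adjoin k (Set.range fun j : Fin n => (InvFld.X (Sum.inr j) : InvFld.Fld (Fin m ⊕ Fin n) k)) ⊓ IntermediateField.fixedField Γ) :=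
      { toFun := fun a => ⟨a.1, hle a.1 a.2⟩
        map_one' := rfl
        map_mul' := fun _ _ => rfl
        map_zero' := rfl
        map_add' := fun _ _ => rfl }
    letI : Algebra ↥(Algebra.adjoin k (Set.range (fun j => i2 k m n (s k n j))))
        ↥(IntermediateField.adjoin k (Set.range fun j : Fin n => (InvFld.X (Sum.inr j) : InvFld.Fld (Fin m ⊕ Fin n) k)) ⊓ IntermediateField.fixedField Γ) :=
      ι.toAlgebra
    haveI : IsScalarTower ↥(Algebra.adjoin k (Set.range (fun j => i2 k m n (s k n j))))
        ↥(IntermediateField.adjoin k (Set.range fun j : Fin n => (InvFld.X (Sum.inr j) : InvFld.Fld (Fin m ⊕ Fin n) k)) ⊓ IntermediateField.fixedField Γ)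
        (InvFld.Fld (Fin m ⊕ Fin n) k) :=
      IsScalarTower.of_algebraMap_eq (fun x => rfl)
    exact ht'AI.restrictScalars (fun a b h => by
      have h' := congrArg Subtype.val h
      exact Subtype.ext h')
  have hwmem : ∀ i, ∃ a, Ψ₁ a = w i := by
    intro i
    rw [hΨrange, ← hwrange]
    exact IntermediateField.subset_adjoin k _ ⟨i, rfl⟩
  choose v hv using hwmem
  have hΨv : ⇑Ψ₁ ∘ v = w := funext hv
  refine ⟨n, m + n, v ∘ finSumFinEquiv.symm, ?_, ?_⟩
  · have h6 : AlgebraicIndependent k v :=
      AlgebraicIndependent.of_comp Ψ₁ (by rw [hΨv]; exact hwAI)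
    exact h6.comp _ finSumFinEquiv.symm.injective
  · have hrange : Set.range (v ∘ finSumFinEquiv.symm) = Set.range v :=
      finSumFinEquiv.symm.surjective.range_comp v
    rw [hrange]
    apply IntermediateField.map_injective Ψ₁
    rw [IntermediateField.adjoin_map, ← Set.range_comp, hΨv, hwrange,
      ← AlgHom.fieldRange_eq_map]
    ext z
    rw [AlgHom.mem_fieldRange]
    exact (hΨrange z).symm

end Groth.Agent.Lib.NoName3H1
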