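import Mathlib
import Groth.Agent.Lib.InsepRam2_helper3

/-!
# Local factors of `Ω ⊗[k] κ` for an arbitrary (not necessarily algebraic) extension `Ω/k`
(helper3)

For `κ/k` a finite field extension and `Ω/k` any field extension:

* `isField_localization_of_isSeparable` : if `κ/k` is separable, every local factor of `Ω ⊗[k] κ`
  is a field.
* `isSeparable_of_isField_localization` : if `Ω` is algebraically closed and one local factor of
  `Ω ⊗[k] κ` is a field, then `κ/k` is separable.
* `length_quot_tensor_eq_one_iff` : for a local `k`-algebra `R` with residue field `κ`, and a prime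
  `q` of `R ⊗[k] Ω` over the maximal ideal, `𝔪_R (R ⊗ Ω)_q` is the maximal ideal iff `κ/k` is
  separable.

APPEND-ONLY once landed.
-/

set_option autoImplicit false
set_option linter.style.haveILetI false
universe u
open scoped TensorProduct
open IsLocalRing

namespace Groth.Agent.Lib.NodeBCH3

attribute [local instance] Algebra.TensorProduct.rightAlgebra

section tensor

variable {k κ Ω : Type u} [Field k] [Field κ] [Field Ω] [Algebra k κ] [Algebra k Ω]
  [Module.Finite k κ]

theorem finite_localization (q : Ideal (Ω ⊗[k] κ)) [q.IsPrime] :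
    Module.Finite Ω (Localization.AtPrime q) := by
  haveI : IsArtinianRing (Ω ⊗[k] κ) := IsArtinianRing.of_finite Ω _
  exact Module.Finite.of_surjective
    (Algebra.algHom Ω (Ω ⊗[k] κ) (Localization.AtPrime q)).toLinearMap
    (IsArtinianRing.localization_surjective q.primeCompl (Localization.AtPrime q))

theorem isField_localization_of_isSeparable [Algebra.IsSeparable k κ] (q : Ideal (Ω ⊗[k] κ))
    [q.IsPrime] : IsField (Localization.AtPrime q) := by
  haveI : Algebra.FormallyUnramified k κ := Algebra.FormallyUnramified.of_isSeparable k κ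
  haveI : Algebra.FormallyUnramified Ω (Ω ⊗[k] κ) := inferInstance
  haveI : IsReduced (Ω ⊗[k] κ) := Algebra.FormallyUnramified.isReduced_of_field Ω (Ω ⊗[k] κ)
  haveI := finite_localization (k := k) (κ := κ) (Ω := Ω) q
  haveI : IsArtinianRing (Localization.AtPrime q) := IsArtinianRing.of_finite Ω _
  exact IsArtinianRing.isField_of_isReduced_of_isLocalRing _

set_option maxHeartbeats 800000 in
theorem isSeparable_of_isField_localization [IsAlgClosed Ω] (q : Ideal (Ω ⊗[k] κ)) [q.IsPrime]
    (h : IsField (Localization.AtPrime q)) : Algebra.IsSeparable k κ := by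
  classical
  rw [← Algebra.FormallyUnramified.iff_isSeparable]
  refine ⟨?_⟩
  by_contra hns
  rw [not_subsingleton_iff_nontrivial] at hns
  obtain ⟨v, hv⟩ := exists_ne (0 : Ω[κ⁄k])
  obtain ⟨l, hl⟩ : ∃ f : Module.Dual κ Ω[κ⁄k], f v ≠ 0 := by
    by_contra hcon
    push_neg at hcon
    exact hv ((Module.forall_dual_apply_eq_zero_iff κ v).1 hcon)
  haveI hfinF := finite_localization (k := k) (κ := κ) (Ω := Ω) q
  haveI : IsDomain (Localization.AtPrime q) := h.isDomain
  haveI : Algebra.IsIntegral Ω (Localization.AtPrime q) := Algebra.IsIntegral.of_finite _ _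
  have hbij : Function.Bijective (algebraMap Ω (Localization.AtPrime q)) :=
    IsAlgClosed.algebraMap_bijective_of_isIntegral
  haveI : Algebra.FormallyUnramified Ω (Localization.AtPrime q) :=
    Algebra.FormallyUnramified.of_surjective (Algebra.ofId Ω (Localization.AtPrime q)) hbij.2
  let e := KaehlerDifferential.tensorKaehlerEquiv k Ω κ (Ω ⊗[k] κ)
  let π : (Ω ⊗[k] κ) ⊗[κ] Ω[κ⁄k] →ₗ[Ω ⊗[k] κ] (Ω ⊗[k] κ) :=
    (TensorProduct.AlgebraTensorModule.rid κ (Ω ⊗[k] κ) (Ω ⊗[k] κ)).toLinearMap ∘ₗ
      (LinearMap.baseChange (Ω ⊗[k] κ) (l : Ω[κ⁄k] →ₗ[κ] κ))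
  have h0 : KaehlerDifferential.map Ω Ω (Ω ⊗[k] κ) (Localization.AtPrime q)
      (e ((1 : Ω ⊗[k] κ) ⊗ₜ[κ] v)) = 0 := Subsingleton.elim _ _
  obtain ⟨s, hs⟩ := (IsLocalizedModule.eq_zero_iff q.primeCompl
    (KaehlerDifferential.map Ω Ω (Ω ⊗[k] κ) (Localization.AtPrime q))).1 h0
  have h1 : (s : Ω ⊗[k] κ) • ((1 : Ω ⊗[k] κ) ⊗ₜ[κ] v) = 0 := by
    apply e.injective
    rw [map_smul, map_zero]
    exact hs
  have h2 := congrArg π h1
  rw [map_smul, map_zero] at h2
  have h3 : π ((1 : Ω ⊗[k] κ) ⊗ₜ[κ] v) = algebraMap κ (Ω ⊗[k] κ) (l v) := by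
    simp [π, Algebra.smul_def]
  rw [h3, smul_eq_mul] at h2
  have hu : IsUnit (algebraMap κ (Ω ⊗[k] κ) (l v)) := (isUnit_iff_ne_zero.2 hl).map _
  have hs0 : (s : Ω ⊗[k] κ) = 0 := (hu.mul_left_eq_zero).1 h2
  exact s.2 (hs0 ▸ q.zero_mem)

end tensor

section local_

variable {k : Type u} [Field k] {R : Type u} [CommRing R] [IsLocalRing R] [Algebra k R]
  {Ω : Type u} [Field Ω] [Algebra k Ω]

open Groth.Agent.Lib.InsepRamH3 in
set_option maxHeartbeats 800000 in
/-- The fibre of `R → (R ⊗[k] Ω)_q` over the closed point is a local factor of `Ω ⊗[k] κ`. -/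
theorem length_quot_tensor' (q : Ideal (R ⊗[k] Ω)) [q.IsPrime]
    (hq : q.comap (algebraMap R (R ⊗[k] Ω)) = maximalIdeal R) :
    ∃ (q' : Ideal (Ω ⊗[k] ResidueField R)) (_ : q'.IsPrime),
      Module.length (Localization.AtPrime q)
          (Localization.AtPrime q ⧸
            (maximalIdeal R).map (algebraMap R (Localization.AtPrime q))) =
        Module.length (Localization.AtPrime q') (Localization.AtPrime q') := by
  let f : R →ₐ[k] ResidueField R := IsScalarTower.toAlgHom k R (ResidueField R)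
  have hf : Function.Surjective f := residue_surjective
  have hkerf : RingHom.ker f = maximalIdeal R := ker_residue (R := R)
  let ψ₀ : R ⊗[k] Ω →ₐ[k] ResidueField R ⊗[k] Ω := Algebra.TensorProduct.map f (AlgHom.id k Ω)
  have hψ₀ : Function.Surjective ψ₀ :=
    Algebra.TensorProduct.map_surjective f (AlgHom.id k Ω) hf Function.surjective_id
  have hkerψ₀ : RingHom.ker ψ₀ = (maximalIdeal R).map (algebraMap R (R ⊗[k] Ω)) := by
    have h := Algebra.TensorProduct.rTensor_ker (R := k) (C := Ω) f hf
    rw [hkerf] at h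
    exact h
  let c : ResidueField R ⊗[k] Ω ≃ₐ[k] Ω ⊗[k] ResidueField R :=
    Algebra.TensorProduct.comm k (ResidueField R) Ω
  let ψ : R ⊗[k] Ω →+* Ω ⊗[k] ResidueField R :=
    (c : ResidueField R ⊗[k] Ω →+* Ω ⊗[k] ResidueField R).comp
      (ψ₀ : R ⊗[k] Ω →+* ResidueField R ⊗[k] Ω)
  have hψ : Function.Surjective ψ := c.surjective.comp hψ₀
  have hkerψ : RingHom.ker ψ = (maximalIdeal R).map (algebraMap R (R ⊗[k] Ω)) := by
    rw [← hkerψ₀]
    ext x
    rw [RingHom.mem_ker, RingHom.mem_ker]
    show c (ψ₀ x) = 0 ↔ ψ₀ x = 0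
    exact map_eq_zero_iff c c.injective
  have hle : RingHom.ker ψ ≤ q := by
    rw [hkerψ, Ideal.map_le_iff_le_comap, hq]
  haveI hq'prime : (q.map ψ).IsPrime := Ideal.map_isPrime_of_surjective hψ hle
  have hq' : q = (q.map ψ).comap ψ := by
    rw [Ideal.comap_map_of_surjective ψ hψ q]
    refine le_antisymm le_sup_left (sup_le le_rfl ?_)
    exact hle
  have h1 := length_quot_eq ψ hψ q (q.map ψ) hq'
  refine ⟨q.map ψ, hq'prime, ?_⟩
  rw [← h1, hkerψ, Ideal.map_map, ← IsScalarTower.algebraMap_eq]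

theorem selfLength_eq_one_iff (S : Type u) [CommRing S] [Nontrivial S] :
    Module.length S S = 1 ↔ IsField S := by
  rw [Module.length_eq_one_iff, isSimpleModule_self_iff_isUnit]
  constructor
  · rintro ⟨-, h⟩
    exact ⟨exists_pair_ne S, mul_comm, fun {a} ha => (h a ha).exists_right_inv⟩
  · intro h
    refine ⟨inferInstance, fun x hx => ?_⟩
    letI := h.toField
    exact isUnit_iff_ne_zero.2 hx

/-- For `Ω` algebraically closed (not necessarily algebraic over `k`): `𝔪_R` generates the maximal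
ideal of `(R ⊗[k] Ω)_q` iff the residue field of `R` is separable over `k`. -/
theorem length_quot_tensor_eq_one_iff [Module.Finite k (ResidueField R)] [IsAlgClosed Ω] (q : Ideal (R ⊗[k] Ω)) [q.IsPrime]
    (hq : q.comap (algebraMap R (R ⊗[k] Ω)) = maximalIdeal R) :
    Module.length (Localization.AtPrime q)
        (Localization.AtPrime q ⧸
          (maximalIdeal R).map (algebraMap R (Localization.AtPrime q))) = 1 ↔
      Algebra.IsSeparable k (ResidueField R) := by
  obtain ⟨q', hq', h⟩ := length_quot_tensor' (k := k) (R := R) (Ω := Ω) q hq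
  rw [h, selfLength_eq_one_iff]
  constructor
  · intro hF
    exact isSeparable_of_isField_localization q' hF
  · intro hsep
    exact isField_localization_of_isSeparable q'

end local_

end Groth.Agent.Lib.NodeBCH3
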