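import Mathlib
import Groth.Agent.Lib.RegPS_helper3

/-!
# Formal structure of nodes: successive approximation (helper3)

For complete Noetherian local rings `Λ → R` with the same residue field and `u, v ∈ 𝔪_R` with
`uv ∈ 𝔪_Λ R`, `𝔪_R = (u, v) + 𝔪_Λ R`, there are `u' ≡ u`, `v' ≡ v` mod `𝔪_Λ R` and `α ∈ 𝔪_Λ` with
`u' v' = α`.
-/

set_option autoImplicit false
universe u

namespace Groth.Agent.Lib.NodeFormalH3

open IsLocalRing

section limit

/-- Limits of sequences with `f (n+1) - f n ∈ I^n`. -/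
theorem exists_limit {R : Type*} [CommRing R] (I : Ideal R) [IsPrecomplete I R] (f : ℕ → R)
    (h : ∀ n, f (n + 1) - f n ∈ I ^ n) : ∃ L : R, ∀ n, L - f n ∈ I ^ n := by
  have hc : AdicCompletion.IsAdicCauchy I R f := by
    rw [AdicCompletion.isAdicCauchy_iff]
    intro n
    rw [SModEq.sub_mem, smul_eq_mul, Ideal.mul_top, ← neg_sub]
    exact neg_mem (h n)
  obtain ⟨L, hL⟩ := IsPrecomplete.prec (inferInstance : IsPrecomplete I R) hc
  refine ⟨L, fun n => ?_⟩
  have := hL n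
  rw [SModEq.sub_mem, smul_eq_mul, Ideal.mul_top] at this
  rw [← neg_sub]
  exact neg_mem this

/-- Ideals of a Noetherian local ring are closed. -/
theorem mem_of_forall_mem_sup_pow {R : Type*} [CommRing R] [IsLocalRing R] [IsNoetherianRing R]
    (J : Ideal R) (x : R) (h : ∀ n, x ∈ J ⊔ maximalIdeal R ^ n) : x ∈ J := by
  by_cases hJ : J = ⊤
  · rw [hJ]; trivial
  haveI : Nontrivial (R ⧸ J) := Ideal.Quotient.nontrivial_iff.2 hJ
  haveI : IsLocalRing (R ⧸ J) :=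
    IsLocalRing.of_surjective' (Ideal.Quotient.mk J) Ideal.Quotient.mk_surjective
  have hne : (maximalIdeal R).map (Ideal.Quotient.mk J) ≠ ⊤ := by
    intro htop
    have h1 : (1 : R ⧸ J) ∈ (maximalIdeal R).map (Ideal.Quotient.mk J) := htop ▸ trivial
    obtain ⟨y, hy, hy1⟩ := (Ideal.mem_map_iff_of_surjective _ Ideal.Quotient.mk_surjective).1 h1
    have h2 : y - 1 ∈ J := by
      rw [← Ideal.Quotient.eq, hy1, map_one]
    have h3 : J ≤ maximalIdeal R := IsLocalRing.le_maximalIdeal hJ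
    have h4 : (1 : R) ∈ maximalIdeal R := by
      have := Ideal.sub_mem _ hy (h3 h2)
      simpa using this
    exact (Ideal.IsPrime.ne_top' (I := maximalIdeal R)) ((Ideal.eq_top_iff_one _).2 h4)
  have hbot := Ideal.iInf_pow_eq_bot_of_isLocalRing _ hne
  rw [← Ideal.Quotient.eq_zero_iff_mem, ← Ideal.mem_bot, ← hbot, Ideal.mem_iInf]
  intro n
  obtain ⟨j, hj, m, hm, hjm⟩ := Submodule.mem_sup.1 (h n)
  rw [← hjm, map_add, Ideal.Quotient.eq_zero_iff_mem.2 hj, zero_add, ← Ideal.map_pow]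
  exact Ideal.mem_map_of_mem _ hm

end limit

section core

variable {Λ R : Type u} [CommRing Λ] [IsLocalRing Λ] [CommRing R] [IsLocalRing R]
  [IsNoetherianRing R] [Algebra Λ R]

/-- The decomposition `R = Λ + uR + vR`. -/
theorem exists_decomp [IsPrecomplete (maximalIdeal Λ) Λ]
    (hres : Function.Surjective ((residue R).comp (algebraMap Λ R)))
    (hloc : (maximalIdeal Λ).map (algebraMap Λ R) ≤ maximalIdeal R)
    (u v : R) (hu : u ∈ maximalIdeal R) (hv : v ∈ maximalIdeal R)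
    (hgen : maximalIdeal R ≤ Ideal.span {u, v} ⊔ (maximalIdeal Λ).map (algebraMap Λ R)) (b : R) :
    ∃ (c : Λ) (p q : R), b = algebraMap Λ R c + u * p + v * q := by
  obtain ⟨K, hK⟩ : ∃ K : Ideal R, K = Ideal.span {u, v} := ⟨_, rfl⟩
  have hKm : K ≤ maximalIdeal R := by
    rw [hK, Ideal.span_le]
    rintro x hx
    rcases hx with rfl | hx
    · exact hu
    · rw [Set.mem_singleton_iff] at hx; rw [hx]; exact hv
  have hKtop : K ≠ ⊤ := fun h =>
    (Ideal.IsPrime.ne_top' (I := maximalIdeal R)) (top_le_iff.1 (h ▸ hKm))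
  haveI : Nontrivial (R ⧸ K) := Ideal.Quotient.nontrivial_iff.2 hKtop
  haveI : IsLocalRing (R ⧸ K) :=
    IsLocalRing.of_surjective' (Ideal.Quotient.mk K) Ideal.Quotient.mk_surjective
  obtain ⟨f, hf⟩ : ∃ f : Λ →+* R ⧸ K, f = (Ideal.Quotient.mk K).comp (algebraMap Λ R) := ⟨_, rfl⟩
  have hmapeq : (maximalIdeal Λ).map f =
      ((maximalIdeal Λ).map (algebraMap Λ R)).map (Ideal.Quotient.mk K) := by
    rw [hf, Ideal.map_map]
  have hmapf : (maximalIdeal Λ).map f ≠ ⊤ := by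
    intro htop
    have h1 : (1 : R ⧸ K) ∈ ((maximalIdeal Λ).map (algebraMap Λ R)).map (Ideal.Quotient.mk K) := by
      rw [← hmapeq, htop]; trivial
    obtain ⟨y, hy, hy1⟩ := (Ideal.mem_map_iff_of_surjective _ Ideal.Quotient.mk_surjective).1 h1
    have h2 : y - 1 ∈ K := by
      rw [← Ideal.Quotient.eq, hy1, map_one]
    have h4 : (1 : R) ∈ maximalIdeal R := by
      have := Ideal.sub_mem _ (hloc hy) (hKm h2)
      simpa using this
    exact (Ideal.IsPrime.ne_top' (I := maximalIdeal R)) ((Ideal.eq_top_iff_one _).2 h4)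
  haveI : IsHausdorff ((maximalIdeal Λ).map f) (R ⧸ K) := IsHausdorff.of_isLocalRing _ _ hmapf
  have hsurj : Function.Surjective f := by
    apply surjective_of_mk_map_comp_surjective (I := maximalIdeal Λ) f
    intro z
    obtain ⟨z', rfl⟩ := Ideal.Quotient.mk_surjective z
    obtain ⟨r, rfl⟩ := Ideal.Quotient.mk_surjective z'
    obtain ⟨l, hl⟩ := hres (residue R r)
    refine ⟨l, ?_⟩
    rw [RingHom.comp_apply, Ideal.Quotient.eq]
    have h1 : algebraMap Λ R l - r ∈ maximalIdeal R := by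
      rw [← residue_eq_zero_iff, map_sub, ← hl, RingHom.comp_apply, sub_self]
    obtain ⟨k, hk, j, hj, hkj⟩ := Submodule.mem_sup.1 (hgen h1)
    have h2 : f l - Ideal.Quotient.mk K r = Ideal.Quotient.mk K j := by
      rw [hf, RingHom.comp_apply, ← map_sub, ← hkj, map_add, Ideal.Quotient.eq_zero_iff_mem.2
        (hK ▸ hk), zero_add]
    rw [h2, hmapeq]
    exact Ideal.mem_map_of_mem _ hj
  obtain ⟨c, hc⟩ := hsurj (Ideal.Quotient.mk K b)
  have h2 : b - algebraMap Λ R c ∈ K := by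
    rw [← Ideal.Quotient.eq, ← hc, hf, RingHom.comp_apply]
  rw [hK, Ideal.mem_span_pair] at h2
  obtain ⟨p, q, hpq⟩ := h2
  refine ⟨c, p, q, ?_⟩
  have : b = algebraMap Λ R c + (b - algebraMap Λ R c) := by ring
  rw [this, ← hpq]; ring

/-- One step of the approximation. -/
theorem step [IsPrecomplete (maximalIdeal Λ) Λ]
    (hres : Function.Surjective ((residue R).comp (algebraMap Λ R)))
    (hloc : (maximalIdeal Λ).map (algebraMap Λ R) ≤ maximalIdeal R)
    (u v : R) (hu : u ∈ maximalIdeal R) (hv : v ∈ maximalIdeal R)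
    (hgen : maximalIdeal R ≤ Ideal.span {u, v} ⊔ (maximalIdeal Λ).map (algebraMap Λ R))
    (n : ℕ) (hn : 1 ≤ n) (u₁ v₁ : R) (α₁ : Λ)
    (hu₁ : u₁ - u ∈ (maximalIdeal Λ).map (algebraMap Λ R))
    (hv₁ : v₁ - v ∈ (maximalIdeal Λ).map (algebraMap Λ R))
    (he : u₁ * v₁ - algebraMap Λ R α₁ ∈ ((maximalIdeal Λ) ^ n).map (algebraMap Λ R)) :
    ∃ (u₂ v₂ : R) (α₂ : Λ), u₂ - u₁ ∈ ((maximalIdeal Λ) ^ n).map (algebraMap Λ R) ∧
      v₂ - v₁ ∈ ((maximalIdeal Λ) ^ n).map (algebraMap Λ R) ∧ α₂ - α₁ ∈ (maximalIdeal Λ) ^ n ∧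
      u₂ * v₂ - algebraMap Λ R α₂ ∈ ((maximalIdeal Λ) ^ (n + 1)).map (algebraMap Λ R) := by
  have hu₁m : u₁ ∈ maximalIdeal R := by
    have : u₁ = u + (u₁ - u) := by ring
    rw [this]; exact Ideal.add_mem _ hu (hloc hu₁)
  have hv₁m : v₁ ∈ maximalIdeal R := by
    have : v₁ = v + (v₁ - v) := by ring
    rw [this]; exact Ideal.add_mem _ hv (hloc hv₁)
  have hgen₁ : maximalIdeal R ≤
      Ideal.span {u₁, v₁} ⊔ (maximalIdeal Λ).map (algebraMap Λ R) := by
    intro x hx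
    obtain ⟨k, hk, j, hj, hkj⟩ := Submodule.mem_sup.1 (hgen hx)
    obtain ⟨a, b, hab⟩ := Ideal.mem_span_pair.1 hk
    have hx' : x = (a * u₁ + b * v₁) + (j - a * (u₁ - u) - b * (v₁ - v)) := by
      rw [← hkj, ← hab]; ring
    rw [hx']
    refine Submodule.add_mem_sup (Ideal.mem_span_pair.2 ⟨a, b, rfl⟩) ?_
    exact Ideal.sub_mem _ (Ideal.sub_mem _ hj (Ideal.mul_mem_left _ _ hu₁))
      (Ideal.mul_mem_left _ _ hv₁)
  -- every element of `𝔪^n R` decomposes
  have hQ : ∀ e ∈ ((maximalIdeal Λ) ^ n).map (algebraMap Λ R),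
      ∃ c ∈ (maximalIdeal Λ) ^ n, ∃ p ∈ ((maximalIdeal Λ) ^ n).map (algebraMap Λ R),
        ∃ q ∈ ((maximalIdeal Λ) ^ n).map (algebraMap Λ R),
          e = algebraMap Λ R c + u₁ * p + v₁ * q := by
    intro e hemem
    refine Submodule.span_induction (p := fun e _ => ∃ c ∈ (maximalIdeal Λ) ^ n,
      ∃ p ∈ ((maximalIdeal Λ) ^ n).map (algebraMap Λ R),
        ∃ q ∈ ((maximalIdeal Λ) ^ n).map (algebraMap Λ R),
          e = algebraMap Λ R c + u₁ * p + v₁ * q) ?_ ?_ ?_ ?_ hemem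
    · rintro _ ⟨a, ha, rfl⟩
      exact ⟨a, ha, 0, Ideal.zero_mem _, 0, Ideal.zero_mem _, by ring⟩
    · exact ⟨0, Ideal.zero_mem _, 0, Ideal.zero_mem _, 0, Ideal.zero_mem _, by simp⟩
    · rintro x y _ _ ⟨c, hc, p, hp, q, hq, rfl⟩ ⟨c', hc', p', hp', q', hq', rfl⟩
      exact ⟨c + c', Ideal.add_mem _ hc hc', p + p', Ideal.add_mem _ hp hp', q + q',
        Ideal.add_mem _ hq hq', by rw [map_add]; ring⟩
    · rintro r x _ ⟨c, hc, p, hp, q, hq, rfl⟩
      obtain ⟨c', p', q', hr⟩ := exists_decomp hres hloc u₁ v₁ hu₁m hv₁m hgen₁ r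
      have hcm : algebraMap Λ R c ∈ ((maximalIdeal Λ) ^ n).map (algebraMap Λ R) :=
        Ideal.mem_map_of_mem _ hc
      refine ⟨c' * c, Ideal.mul_mem_left _ _ hc, p' * algebraMap Λ R c + r * p,
        Ideal.add_mem _ (Ideal.mul_mem_left _ _ hcm) (Ideal.mul_mem_left _ _ hp),
        q' * algebraMap Λ R c + r * q,
        Ideal.add_mem _ (Ideal.mul_mem_left _ _ hcm) (Ideal.mul_mem_left _ _ hq), ?_⟩
      have hrc : r * algebraMap Λ R c =
          (algebraMap Λ R c' + u₁ * p' + v₁ * q') * algebraMap Λ R c := by rw [← hr]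
      rw [smul_eq_mul, map_mul]
      linear_combination hrc
  obtain ⟨c, hc, p, hp, q, hq, hcpq⟩ := hQ _ he
  refine ⟨u₁ - q, v₁ - p, α₁ + c, ?_, ?_, ?_, ?_⟩
  · have : u₁ - q - u₁ = -q := by ring
    rw [this]; exact neg_mem hq
  · have : v₁ - p - v₁ = -p := by ring
    rw [this]; exact neg_mem hp
  · have : α₁ + c - α₁ = c := by ring
    rw [this]; exact hc
  · have h1 : (u₁ - q) * (v₁ - p) - algebraMap Λ R (α₁ + c) = p * q := by
      have : u₁ * v₁ = algebraMap Λ R α₁ + (algebraMap Λ R c + u₁ * p + v₁ * q) := by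
        rw [← hcpq]; ring
      rw [map_add]
      linear_combination this
    rw [h1]
    have h2 : p * q ∈ ((maximalIdeal Λ) ^ n).map (algebraMap Λ R) *
        ((maximalIdeal Λ) ^ n).map (algebraMap Λ R) := Ideal.mul_mem_mul hp hq
    rw [← Ideal.map_mul, ← pow_add] at h2
    exact Ideal.map_mono (Ideal.pow_le_pow_right (by omega)) h2

/-- The successive approximation. -/
theorem exists_node_approx [IsNoetherianRing Λ] [IsAdicComplete (maximalIdeal Λ) Λ]
    [IsAdicComplete (maximalIdeal R) R]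
    (hres : Function.Surjective ((residue R).comp (algebraMap Λ R)))
    (hloc : (maximalIdeal Λ).map (algebraMap Λ R) ≤ maximalIdeal R)
    (u v : R) (hu : u ∈ maximalIdeal R) (hv : v ∈ maximalIdeal R)
    (huv : u * v ∈ (maximalIdeal Λ).map (algebraMap Λ R))
    (hgen : maximalIdeal R ≤ Ideal.span {u, v} ⊔ (maximalIdeal Λ).map (algebraMap Λ R)) :
    ∃ (α : Λ) (u' v' : R), α ∈ maximalIdeal Λ ∧
      u' - u ∈ (maximalIdeal Λ).map (algebraMap Λ R) ∧
      v' - v ∈ (maximalIdeal Λ).map (algebraMap Λ R) ∧ u' * v' = algebraMap Λ R α := by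
  classical
  let P : ℕ → R × R × Λ → Prop := fun n t =>
    t.1 - u ∈ (maximalIdeal Λ).map (algebraMap Λ R) ∧
    t.2.1 - v ∈ (maximalIdeal Λ).map (algebraMap Λ R) ∧ t.2.2 ∈ maximalIdeal Λ ∧
    t.1 * t.2.1 - algebraMap Λ R t.2.2 ∈ ((maximalIdeal Λ) ^ (n + 1)).map (algebraMap Λ R)
  have hstep : ∀ (n : ℕ) (t : {t // P n t}), ∃ t' : {t // P (n + 1) t},
      t'.1.1 - t.1.1 ∈ ((maximalIdeal Λ) ^ (n + 1)).map (algebraMap Λ R) ∧
      t'.1.2.1 - t.1.2.1 ∈ ((maximalIdeal Λ) ^ (n + 1)).map (algebraMap Λ R) ∧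
      t'.1.2.2 - t.1.2.2 ∈ (maximalIdeal Λ) ^ (n + 1) := by
    rintro n ⟨⟨u₁, v₁, α₁⟩, h1, h2, h3, h4⟩
    obtain ⟨u₂, v₂, α₂, g1, g2, g3, g4⟩ := step hres hloc u v hu hv hgen (n + 1) (by omega)
      u₁ v₁ α₁ h1 h2 h4
    have hle : ((maximalIdeal Λ) ^ (n + 1)).map (algebraMap Λ R) ≤
        (maximalIdeal Λ).map (algebraMap Λ R) :=
      Ideal.map_mono (Ideal.pow_le_self (by omega))
    refine ⟨⟨(u₂, v₂, α₂), ?_, ?_, ?_, g4⟩, g1, g2, g3⟩
    · have : u₂ - u = (u₂ - u₁) + (u₁ - u) := by ring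
      show u₂ - u ∈ _
      rw [this]; exact Ideal.add_mem _ (hle g1) h1
    · have : v₂ - v = (v₂ - v₁) + (v₁ - v) := by ring
      show v₂ - v ∈ _
      rw [this]; exact Ideal.add_mem _ (hle g2) h2
    · have : α₂ = (α₂ - α₁) + α₁ := by ring
      show α₂ ∈ _
      rw [this]; exact Ideal.add_mem _ (Ideal.pow_le_self (by omega) g3) h3
  choose g hg using hstep
  have h0 : P 0 (u, v, 0) := by
    refine ⟨by simp, by simp, Ideal.zero_mem _, ?_⟩
    show u * v - algebraMap Λ R 0 ∈ _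
    rw [map_zero, sub_zero, zero_add, pow_one]
    exact huv
  let s : (n : ℕ) → {t // P n t} := fun n => Nat.rec ⟨(u, v, 0), h0⟩ (fun n t => g n t) n
  have hs : ∀ n, s (n + 1) = g n (s n) := fun n => rfl
  have hmappow : ∀ k, ((maximalIdeal Λ) ^ k).map (algebraMap Λ R) ≤ maximalIdeal R ^ k := by
    intro k
    rw [Ideal.map_pow]
    exact Ideal.pow_right_mono hloc k
  obtain ⟨U, hU⟩ := exists_limit (maximalIdeal R) (fun n => (s n).1.1) (fun n => by
    show (s (n + 1)).1.1 - (s n).1.1 ∈ _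
    rw [hs]
    exact Ideal.pow_le_pow_right (Nat.le_succ n) (hmappow _ (hg n (s n)).1))
  obtain ⟨V, hV⟩ := exists_limit (maximalIdeal R) (fun n => (s n).1.2.1) (fun n => by
    show (s (n + 1)).1.2.1 - (s n).1.2.1 ∈ _
    rw [hs]
    exact Ideal.pow_le_pow_right (Nat.le_succ n) (hmappow _ (hg n (s n)).2.1))
  obtain ⟨α, hα⟩ := exists_limit (maximalIdeal Λ) (fun n => (s n).1.2.2) (fun n => by
    show (s (n + 1)).1.2.2 - (s n).1.2.2 ∈ _
    rw [hs]
    exact Ideal.pow_le_pow_right (Nat.le_succ n) (hg n (s n)).2.2)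
  refine ⟨α, U, V, ?_, ?_, ?_, ?_⟩
  · have h1 := hα 1
    rw [pow_one] at h1
    have : α = (α - (s 1).1.2.2) + (s 1).1.2.2 := by ring
    rw [this]
    exact Ideal.add_mem _ h1 (s 1).2.2.2.1
  · apply mem_of_forall_mem_sup_pow
    intro n
    have : U - u = ((s n).1.1 - u) + (U - (s n).1.1) := by ring
    rw [this]
    exact Submodule.add_mem_sup (s n).2.1 (hU n)
  · apply mem_of_forall_mem_sup_pow
    intro n
    have : V - v = ((s n).1.2.1 - v) + (V - (s n).1.2.1) := by ring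
    rw [this]
    exact Submodule.add_mem_sup (s n).2.2.1 (hV n)
  · rw [← sub_eq_zero]
    apply IsHausdorff.haus' (I := maximalIdeal R)
    intro n
    rw [SModEq.zero, smul_eq_mul, Ideal.mul_top]
    have e : U * V - algebraMap Λ R α = (U - (s n).1.1) * V + (s n).1.1 * (V - (s n).1.2.1) +
        ((s n).1.1 * (s n).1.2.1 - algebraMap Λ R (s n).1.2.2) -
        algebraMap Λ R (α - (s n).1.2.2) := by
      rw [map_sub]; ring
    rw [e]
    refine Ideal.sub_mem _ (Ideal.add_mem _ (Ideal.add_mem _ (Ideal.mul_mem_right _ _ (hU n))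
      (Ideal.mul_mem_left _ _ (hV n))) ?_) ?_
    · exact Ideal.pow_le_pow_right (Nat.le_succ n) (hmappow _ (s n).2.2.2.2)
    · exact hmappow n (Ideal.mem_map_of_mem _ (hα n))

end core

end Groth.Agent.Lib.NodeFormalH3
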