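import Mathlib
import Groth.Agent.Lib.NodeFormal1_helper3

/-!
# Nondegenerate binary quadratic forms in complete local rings: successive approximation (helper3)

* `span_pair_eq_of_sub_mem` : generators `x, y` of `𝔪` may be perturbed by elements of `𝔪²`.
* `exists_of_mem_mul_span_pair` : `E ∈ I * (X, Y)` is `s X + t Y` with `s, t ∈ I`.
* `quad_step`, `exists_quad_zero` : if `4ac - b²` is a unit, `𝔪 = (x, y)` and
  `a x² + b x y + c y² ∈ 𝔪³`, there are `x' ≡ x`, `y' ≡ y` mod `𝔪²` with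
  `a x'² + b x' y' + c y'² = 0`.

APPEND-ONLY once landed.
-/

set_option autoImplicit false

namespace Groth.Agent.Lib.QuadNodeH3

open IsLocalRing

section Gen

variable {R : Type*} [CommRing R] [IsLocalRing R] [IsNoetherianRing R]

/-- Nakayama: generators of `𝔪` can be perturbed by elements of `𝔪²`. -/
theorem span_pair_eq_of_sub_mem {x y x' y' : R} (h : Ideal.span {x, y} = maximalIdeal R)
    (hx : x' - x ∈ maximalIdeal R ^ 2) (hy : y' - y ∈ maximalIdeal R ^ 2) :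
    Ideal.span {x', y'} = maximalIdeal R := by
  have hsq : maximalIdeal R ^ 2 ≤ maximalIdeal R := Ideal.pow_le_self (by norm_num)
  have hxm : x ∈ maximalIdeal R := by
    rw [← h]; exact Ideal.subset_span (by simp)
  have hym : y ∈ maximalIdeal R := by
    rw [← h]; exact Ideal.subset_span (by simp)
  have hx'm : x' ∈ maximalIdeal R := by
    have : x' = x + (x' - x) := by ring
    rw [this]; exact Ideal.add_mem _ hxm (hsq hx)
  have hy'm : y' ∈ maximalIdeal R := by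
    have : y' = y + (y' - y) := by ring
    rw [this]; exact Ideal.add_mem _ hym (hsq hy)
  apply le_antisymm
  · rw [Ideal.span_le]
    rintro z (rfl | rfl)
    · exact hx'm
    · exact hy'm
  · apply Submodule.le_of_le_smul_of_le_jacobson_bot (I := maximalIdeal R)
      (IsNoetherian.noetherian _)
      (by rw [IsLocalRing.jacobson_eq_maximalIdeal ⊥ bot_ne_top])
    intro z hz
    rw [← h] at hz
    obtain ⟨p, q, rfl⟩ := Ideal.mem_span_pair.1 hz
    have e : p * x + q * y = (p * x' + q * y') + (-(p * (x' - x)) - q * (y' - y)) := by ring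
    rw [e]
    refine Submodule.add_mem_sup (Ideal.mem_span_pair.2 ⟨p, q, rfl⟩) ?_
    rw [smul_eq_mul, ← pow_two]
    exact Ideal.sub_mem _ (neg_mem (Ideal.mul_mem_left _ _ hx)) (Ideal.mul_mem_left _ _ hy)

omit [IsLocalRing R] [IsNoetherianRing R] in
theorem exists_of_mem_mul_span_pair {I : Ideal R} {X Y E : R} (h : E ∈ I * Ideal.span {X, Y}) :
    ∃ s ∈ I, ∃ t ∈ I, E = s * X + t * Y := by
  refine Submodule.mul_induction_on h ?_ ?_
  · intro m hm z hz
    obtain ⟨p, q, rfl⟩ := Ideal.mem_span_pair.1 hz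
    exact ⟨m * p, Ideal.mul_mem_right _ _ hm, m * q, Ideal.mul_mem_right _ _ hm, by ring⟩
  · rintro u v ⟨s, hs, t, ht, rfl⟩ ⟨s', hs', t', ht', rfl⟩
    exact ⟨s + s', Ideal.add_mem _ hs hs', t + t', Ideal.add_mem _ ht ht', by ring⟩

/-- One step of the approximation. -/
theorem quad_step (a b c δi : R) (hδ : (4 * a * c - b ^ 2) * δi = 1) (X Y : R)
    (hgen : Ideal.span {X, Y} = maximalIdeal R) (n : ℕ)
    (hE : a * X ^ 2 + b * X * Y + c * Y ^ 2 ∈ maximalIdeal R ^ (n + 3)) :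
    ∃ α β, α ∈ maximalIdeal R ^ (n + 2) ∧ β ∈ maximalIdeal R ^ (n + 2) ∧
      a * (X + α) ^ 2 + b * (X + α) * (Y + β) + c * (Y + β) ^ 2 ∈ maximalIdeal R ^ (n + 4) := by
  have h1 : maximalIdeal R ^ (n + 3) = maximalIdeal R ^ (n + 2) * Ideal.span {X, Y} := by
    rw [hgen, ← pow_succ]
  rw [h1] at hE
  obtain ⟨s, hs, t, ht, hst⟩ := exists_of_mem_mul_span_pair hE
  refine ⟨-δi * (2 * c * s - b * t), -δi * (2 * a * t - b * s), ?_, ?_, ?_⟩
  · exact Ideal.mul_mem_left _ _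
      (Ideal.sub_mem _ (Ideal.mul_mem_left _ _ hs) (Ideal.mul_mem_left _ _ ht))
  · exact Ideal.mul_mem_left _ _
      (Ideal.sub_mem _ (Ideal.mul_mem_left _ _ ht) (Ideal.mul_mem_left _ _ hs))
  · obtain ⟨α, hα⟩ : ∃ α, α = -δi * (2 * c * s - b * t) := ⟨_, rfl⟩
    obtain ⟨β, hβ⟩ : ∃ β, β = -δi * (2 * a * t - b * s) := ⟨_, rfl⟩
    have hαm : α ∈ maximalIdeal R ^ (n + 2) := by
      rw [hα]
      exact Ideal.mul_mem_left _ _
        (Ideal.sub_mem _ (Ideal.mul_mem_left _ _ hs) (Ideal.mul_mem_left _ _ ht))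
    have hβm : β ∈ maximalIdeal R ^ (n + 2) := by
      rw [hβ]
      exact Ideal.mul_mem_left _ _
        (Ideal.sub_mem _ (Ideal.mul_mem_left _ _ ht) (Ideal.mul_mem_left _ _ hs))
    rw [← hα, ← hβ]
    have key : a * (X + α) ^ 2 + b * (X + α) * (Y + β) + c * (Y + β) ^ 2 =
        a * α ^ 2 + b * α * β + c * β ^ 2 := by
      rw [hα, hβ]
      linear_combination hst - (s * X + t * Y) * hδ
    rw [key]
    have hle : maximalIdeal R ^ (n + 2) * maximalIdeal R ^ (n + 2) ≤ maximalIdeal R ^ (n + 4) := by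
      rw [← pow_add]
      exact Ideal.pow_le_pow_right (by omega)
    refine Ideal.add_mem _ (Ideal.add_mem _ ?_ ?_) ?_
    · rw [pow_two, ← mul_assoc]
      exact hle (Ideal.mul_mem_mul (Ideal.mul_mem_left _ _ hαm) hαm)
    · exact hle (Ideal.mul_mem_mul (Ideal.mul_mem_left _ _ hαm) hβm)
    · rw [pow_two, ← mul_assoc]
      exact hle (Ideal.mul_mem_mul (Ideal.mul_mem_left _ _ hβm) hβm)

/-- The successive approximation: a nondegenerate quadratic relation modulo `𝔪³` between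
generators of `𝔪` can be made exact. -/
theorem exists_quad_zero [IsAdicComplete (maximalIdeal R) R] (a b c x y : R)
    (hδ : IsUnit (4 * a * c - b ^ 2)) (hgen : Ideal.span {x, y} = maximalIdeal R)
    (hQ : a * x ^ 2 + b * x * y + c * y ^ 2 ∈ maximalIdeal R ^ 3) :
    ∃ x' y', x' - x ∈ maximalIdeal R ^ 2 ∧ y' - y ∈ maximalIdeal R ^ 2 ∧
      a * x' ^ 2 + b * x' * y' + c * y' ^ 2 = 0 := by
  classical
  obtain ⟨δi, hδi⟩ := hδ.exists_right_inv
  let P : ℕ → R × R → Prop := fun n t =>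
    t.1 - x ∈ maximalIdeal R ^ 2 ∧ t.2 - y ∈ maximalIdeal R ^ 2 ∧
      a * t.1 ^ 2 + b * t.1 * t.2 + c * t.2 ^ 2 ∈ maximalIdeal R ^ (n + 3)
  have hstep : ∀ (n : ℕ) (t : {t // P n t}), ∃ t' : {t // P (n + 1) t},
      t'.1.1 - t.1.1 ∈ maximalIdeal R ^ (n + 2) ∧ t'.1.2 - t.1.2 ∈ maximalIdeal R ^ (n + 2) := by
    rintro n ⟨⟨X, Y⟩, h1, h2, h3⟩
    have hgen' : Ideal.span {X, Y} = maximalIdeal R := span_pair_eq_of_sub_mem hgen h1 h2
    obtain ⟨α, β, hα, hβ, hαβ⟩ := quad_step a b c δi hδi X Y hgen' n h3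
    have hle : maximalIdeal R ^ (n + 2) ≤ maximalIdeal R ^ 2 := Ideal.pow_le_pow_right (by omega)
    refine ⟨⟨(X + α, Y + β), ?_, ?_, hαβ⟩, ?_, ?_⟩
    · show X + α - x ∈ _
      have : X + α - x = (X - x) + α := by ring
      rw [this]; exact Ideal.add_mem _ h1 (hle hα)
    · show Y + β - y ∈ _
      have : Y + β - y = (Y - y) + β := by ring
      rw [this]; exact Ideal.add_mem _ h2 (hle hβ)
    · show X + α - X ∈ _
      rw [add_sub_cancel_left]; exact hα
    · show Y + β - Y ∈ _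
      rw [add_sub_cancel_left]; exact hβ
  choose g hg using hstep
  have h0 : P 0 (x, y) := ⟨by simp, by simp, by simpa using hQ⟩
  let s : (n : ℕ) → {t // P n t} := fun n => Nat.rec ⟨(x, y), h0⟩ (fun n t => g n t) n
  have hs : ∀ n, s (n + 1) = g n (s n) := fun n => rfl
  obtain ⟨U, hU⟩ := Groth.Agent.Lib.NodeFormalH3.exists_limit (maximalIdeal R)
    (fun n => (s n).1.1) (fun n => by
      show (s (n + 1)).1.1 - (s n).1.1 ∈ _
      rw [hs]
      exact Ideal.pow_le_pow_right (by omega) (hg n (s n)).1)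
  obtain ⟨V, hV⟩ := Groth.Agent.Lib.NodeFormalH3.exists_limit (maximalIdeal R)
    (fun n => (s n).1.2) (fun n => by
      show (s (n + 1)).1.2 - (s n).1.2 ∈ _
      rw [hs]
      exact Ideal.pow_le_pow_right (by omega) (hg n (s n)).2)
  refine ⟨U, V, ?_, ?_, ?_⟩
  · have : U - x = (U - (s 2).1.1) + ((s 2).1.1 - x) := by ring
    rw [this]
    exact Ideal.add_mem _ (hU 2) (s 2).2.1
  · have : V - y = (V - (s 2).1.2) + ((s 2).1.2 - y) := by ring
    rw [this]
    exact Ideal.add_mem _ (hV 2) (s 2).2.2.1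
  · apply IsHausdorff.haus' (I := maximalIdeal R)
    intro n
    rw [SModEq.zero, smul_eq_mul, Ideal.mul_top]
    obtain ⟨X, hX⟩ : ∃ X, X = (s n).1.1 := ⟨_, rfl⟩
    obtain ⟨Y, hY⟩ : ∃ Y, Y = (s n).1.2 := ⟨_, rfl⟩
    have hUX : U - X ∈ maximalIdeal R ^ n := by rw [hX]; exact hU n
    have hVY : V - Y ∈ maximalIdeal R ^ n := by rw [hY]; exact hV n
    have hXY : a * X ^ 2 + b * X * Y + c * Y ^ 2 ∈ maximalIdeal R ^ n := by
      rw [hX, hY]
      exact Ideal.pow_le_pow_right (by omega) (s n).2.2.2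
    have e : a * U ^ 2 + b * U * V + c * V ^ 2 =
        (a * (U + X) + b * V) * (U - X) + (b * X + c * (V + Y)) * (V - Y) +
          (a * X ^ 2 + b * X * Y + c * Y ^ 2) := by ring
    rw [e]
    exact Ideal.add_mem _ (Ideal.add_mem _ (Ideal.mul_mem_left _ _ hUX)
      (Ideal.mul_mem_left _ _ hVY)) hXY

end Gen

end Groth.Agent.Lib.QuadNodeH3
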