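import Mathlib
import Groth.Agent.Lib.Regular_helper5

/-!
# Kernels of surjections from two-dimensional regular local rings (helper3)

* `exists_regular_not_mem_sq` : a reduced Noetherian local ring which is not a field has a regular
  element in `𝔪 \ 𝔪²`.
* `isPrincipal_ker` : if `Φ : P → S` is surjective, `Φ τ` is `S`-regular and `P/τ` is a principal
  ideal ring, then `ker Φ` is principal (`P` Noetherian local).
* `ker_eq_span_of_regular` : for `P` regular local of dimension two, `S` of embedding dimension two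
  with a regular element in `𝔪_S \ 𝔪_S²`, and `q ∈ ker Φ`, `q ∉ 𝔪_P³`: `ker Φ = (q)`.

APPEND-ONLY once landed.
-/

set_option autoImplicit false

namespace Groth.Agent.Lib.QuadNodeH3

open IsLocalRing

universe u

section Regular

variable (A : Type*) [CommRing A] [IsLocalRing A] [IsNoetherianRing A] [IsReduced A]

/-- A reduced Noetherian local ring which is not a field has a regular element in `𝔪 \ 𝔪²`. -/
theorem exists_regular_not_mem_sq (hne : maximalIdeal A ≠ ⊥) :
    ∃ t ∈ maximalIdeal A, t ∉ maximalIdeal A ^ 2 ∧ IsSMulRegular A t := by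
  classical
  have hfin : (minimalPrimes A).Finite := minimalPrimes.finite_of_isNoetherianRing A
  -- an element outside all minimal primes is regular
  have hreg : ∀ t : A, (∀ 𝔮 ∈ minimalPrimes A, t ∉ 𝔮) → IsSMulRegular A t := by
    intro t ht
    rw [isSMulRegular_iff_right_eq_zero_of_smul]
    intro s hs
    rw [smul_eq_mul] at hs
    have h1 : s ∈ sInf (minimalPrimes A) := by
      rw [Ideal.mem_sInf]
      intro 𝔮 h𝔮
      haveI : 𝔮.IsPrime := h𝔮.1.1
      have h2 : t * s ∈ 𝔮 := by rw [hs]; exact Ideal.zero_mem _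
      exact ((Ideal.IsPrime.mem_or_mem inferInstance h2).resolve_left (ht 𝔮 h𝔮))
    have h3 : sInf (minimalPrimes A) = (⊥ : Ideal A).radical := Ideal.sInf_minimalPrimes
    rw [h3] at h1
    have h4 : (⊥ : Ideal A).radical = ⊥ := by
      have := nilradical_eq_zero A
      rwa [nilradical] at this
    rw [h4, Ideal.mem_bot] at h1
    exact h1
  by_contra hcon
  push Not at hcon
  have hsub : ((maximalIdeal A : Ideal A) : Set A) ⊆
      ((maximalIdeal A ^ 2 : Ideal A) : Set A) ∪ ((maximalIdeal A ^ 2 : Ideal A) : Set A) ∪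
        ⋃ 𝔮 ∈ ((hfin.toFinset : Finset (Ideal A)) : Set (Ideal A)), ((𝔮 : Ideal A) : Set A) := by
    intro t ht
    by_cases h2 : t ∈ maximalIdeal A ^ 2
    · exact Or.inl (Or.inl h2)
    · right
      have h3 : ¬ IsSMulRegular A t := hcon t ht h2
      by_contra h4
      apply h3
      apply hreg
      intro 𝔮 h𝔮 ht𝔮
      apply h4
      simp only [Set.mem_iUnion]
      exact ⟨𝔮, by simpa using h𝔮, ht𝔮⟩
  have hcases := (Ideal.subset_union_prime' (R := A) (f := fun 𝔮 : Ideal A => 𝔮)
    (s := hfin.toFinset) (a := maximalIdeal A ^ 2) (b := maximalIdeal A ^ 2)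
    (fun 𝔮 h𝔮 => by
      have : 𝔮 ∈ minimalPrimes A := by simpa using h𝔮
      exact this.1.1)).1 hsub
  have hsq : ¬ maximalIdeal A ≤ maximalIdeal A ^ 2 := by
    intro hle
    apply hne
    apply Submodule.eq_bot_of_le_smul_of_le_jacobson_bot (maximalIdeal A) (maximalIdeal A)
      (IsNoetherian.noetherian _)
    · rw [smul_eq_mul, ← pow_two]; exact hle
    · rw [IsLocalRing.jacobson_eq_maximalIdeal ⊥ bot_ne_top]
  rcases hcases with h | h | ⟨𝔮, h𝔮, h⟩
  · exact hsq h
  · exact hsq h
  · have h𝔮' : 𝔮 ∈ minimalPrimes A := by simpa using h𝔮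
    haveI : 𝔮.IsPrime := h𝔮'.1.1
    have heq : 𝔮 = maximalIdeal A :=
      le_antisymm (IsLocalRing.le_maximalIdeal (Ideal.IsPrime.ne_top inferInstance)) h
    -- then `𝔪` is the only prime, so it is the nilradical
    apply hne
    have h5 : ∀ 𝔭 ∈ minimalPrimes A, 𝔭 = maximalIdeal A := by
      intro 𝔭 h𝔭
      haveI : 𝔭.IsPrime := h𝔭.1.1
      have h6 : 𝔭 ≤ 𝔮 := by
        rw [heq]; exact IsLocalRing.le_maximalIdeal (Ideal.IsPrime.ne_top inferInstance)
      have h7 : 𝔮 ≤ 𝔭 := h𝔮'.2 ⟨inferInstance, bot_le⟩ h6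
      rw [← heq]
      exact le_antisymm h6 h7
    have h8 : sInf (minimalPrimes A) = maximalIdeal A := by
      apply le_antisymm
      · exact sInf_le (heq ▸ h𝔮')
      · apply le_sInf
        intro 𝔭 h𝔭
        rw [h5 𝔭 h𝔭]
    have h3 : sInf (minimalPrimes A) = (⊥ : Ideal A).radical := Ideal.sInf_minimalPrimes
    have h4 : (⊥ : Ideal A).radical = ⊥ := by
      have := nilradical_eq_zero A
      rwa [nilradical] at this
    rw [← h8, h3, h4]

end Regular

section Ker

variable {P S : Type*} [CommRing P] [IsLocalRing P] [IsNoetherianRing P] [CommRing S]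

/-- principal kernels -/
theorem isPrincipal_ker (Φ : P →+* S) (hΦ : Function.Surjective Φ) (τ : P)
    (hτ : IsSMulRegular S (Φ τ)) (hτm : τ ∈ maximalIdeal P)
    [IsPrincipalIdealRing (P ⧸ Ideal.span {τ})] :
    ∃ g₀ : P, RingHom.ker Φ = Ideal.span {g₀} := by
  obtain ⟨J, hJ⟩ : ∃ J : Ideal P, J = RingHom.ker Φ := ⟨_, rfl⟩
  rw [← hJ]
  obtain ⟨γ, hγ⟩ := (IsPrincipalIdealRing.principal (J.map (Ideal.Quotient.mk (Ideal.span {τ})))).1
  have hγmem : γ ∈ J.map (Ideal.Quotient.mk (Ideal.span {τ})) := by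
    rw [hγ]; exact Submodule.mem_span_singleton_self γ
  obtain ⟨g₀, hg₀, hg₀γ⟩ :=
    (Ideal.mem_map_iff_of_surjective _ Ideal.Quotient.mk_surjective).1 hγmem
  refine ⟨g₀, le_antisymm ?_ ?_⟩
  · apply Submodule.le_of_le_smul_of_le_jacobson_bot (I := maximalIdeal P)
      (IsNoetherian.noetherian _)
      (by rw [IsLocalRing.jacobson_eq_maximalIdeal ⊥ bot_ne_top])
    intro j hj
    have h1 : Ideal.Quotient.mk (Ideal.span {τ}) j ∈
        J.map (Ideal.Quotient.mk (Ideal.span {τ})) := Ideal.mem_map_of_mem _ hj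
    rw [hγ] at h1
    obtain ⟨r', hr'⟩ := Submodule.mem_span_singleton.1 h1
    obtain ⟨r, rfl⟩ := Ideal.Quotient.mk_surjective r'
    rw [smul_eq_mul, ← hg₀γ, ← map_mul, Ideal.Quotient.eq, Ideal.mem_span_singleton'] at hr'
    obtain ⟨p, hp⟩ := hr'
    -- `p * τ = r * g₀ - j`
    have hpJ : p ∈ J := by
      rw [hJ, RingHom.mem_ker]
      apply hτ
      show Φ τ • Φ p = Φ τ • 0
      rw [smul_zero, smul_eq_mul, ← map_mul, mul_comm, hp, map_sub, map_mul]
      have h2 : Φ g₀ = 0 := by rw [← RingHom.mem_ker, ← hJ]; exact hg₀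
      have h3 : Φ j = 0 := by rw [← RingHom.mem_ker, ← hJ]; exact hj
      rw [h2, h3, mul_zero, sub_zero]
    have e : j = r * g₀ + (-(τ * p)) := by
      have : τ * p = r * g₀ - j := by rw [mul_comm, hp]
      rw [this]; ring
    rw [e]
    refine Submodule.add_mem_sup (Ideal.mem_span_singleton'.2 ⟨r, rfl⟩) (neg_mem ?_)
    exact Submodule.smul_mem_smul hτm hpJ
  · rw [Ideal.span_le]
    rintro _ rfl
    exact hg₀

end Ker

section Main

variable {P S : Type u} [CommRing P] [IsRegularLocalRing P] [CommRing S] [IsLocalRing S]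
  [IsNoetherianRing S]

/-- the kernel of a surjection from a two-dimensional regular local ring onto a local ring of
embedding dimension two with a regular element in `𝔪 \ 𝔪²` is generated by any of its elements
outside `𝔪³`. -/
theorem ker_eq_span_of_regular (h2 : (maximalIdeal P).spanFinrank = 2)
    (Φ : P →+* S) (hΦ : Function.Surjective Φ) (hS : (maximalIdeal S).spanFinrank = 2)
    (t : S) (ht : IsSMulRegular S t) (htm : t ∈ maximalIdeal S) (ht2 : t ∉ maximalIdeal S ^ 2)
    (q : P) (hq : Φ q = 0) (hq3 : q ∉ maximalIdeal P ^ 3) :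
    RingHom.ker Φ = Ideal.span {q} := by
  classical
  have hmap : (maximalIdeal P).map Φ = maximalIdeal S :=
    IsLocalRing.map_maximalIdeal_of_surjective Φ hΦ
  obtain ⟨τ, rfl⟩ := hΦ t
  have hτm : τ ∈ maximalIdeal P := by
    by_contra hcon
    have hu : IsUnit τ := by
      by_contra h; exact hcon ((IsLocalRing.mem_maximalIdeal _).2 h)
    exact (IsLocalRing.mem_maximalIdeal _).1 htm (hu.map Φ)
  have hτ2 : τ ∉ maximalIdeal P ^ 2 := by
    intro hcon
    apply ht2
    rw [← hmap, ← Ideal.map_pow]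
    exact Ideal.mem_map_of_mem _ hcon
  obtain ⟨hreg, hfr⟩ := Groth.Agent.RegularLib.quotient_of_not_mem_sq P τ hτm hτ2
  haveI := hreg
  haveI : IsDomain (P ⧸ Ideal.span {τ}) := Groth.Agent.RegularLib.isDomain _
  haveI : IsPrincipalIdealRing (P ⧸ Ideal.span {τ}) := by
    apply ((tfae_of_isNoetherianRing_of_isLocalRing_of_isDomain (P ⧸ Ideal.span {τ})).out 5 0).1
    rw [← IsLocalRing.spanFinrank_maximalIdeal_eq_finrank_cotangentSpace]
    omega
  obtain ⟨g₀, hg₀⟩ := isPrincipal_ker Φ hΦ τ ht hτm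
  have hqmem : q ∈ Ideal.span {g₀} := by rw [← hg₀, RingHom.mem_ker]; exact hq
  obtain ⟨s, hs⟩ := Ideal.mem_span_singleton'.1 hqmem
  have hg₀m : g₀ ∈ maximalIdeal P := by
    by_contra hcon
    have hu : IsUnit g₀ := by
      by_contra h; exact hcon ((IsLocalRing.mem_maximalIdeal _).2 h)
    have h1 : (1 : P) ∈ RingHom.ker Φ := by
      rw [hg₀]
      exact Ideal.mem_span_singleton'.2 ⟨((hu.unit⁻¹ : Pˣ) : P), by simp⟩
    rw [RingHom.mem_ker, map_one] at h1
    exact one_ne_zero h1
  have hsu : IsUnit s := by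
    by_contra hsn
    have hsm : s ∈ maximalIdeal P := (IsLocalRing.mem_maximalIdeal _).2 hsn
    by_cases hg2 : g₀ ∈ maximalIdeal P ^ 2
    · apply hq3
      rw [← hs, pow_succ', ]
      exact Ideal.mul_mem_mul hsm hg2
    · obtain ⟨T, hTcard, hTspan⟩ := Groth.Agent.RegularLib.exists_finset_insert g₀ hg₀m hg2
      have h3 : maximalIdeal S = Ideal.span (Φ '' (T : Set P)) := by
        rw [← hmap, ← hTspan, Ideal.map_span, Set.image_insert_eq]
        have : Φ g₀ = 0 := by
          rw [← RingHom.mem_ker, hg₀]; exact Ideal.mem_span_singleton_self g₀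
        rw [this]
        exact Submodule.span_insert_zero
      have h4 : (maximalIdeal S).spanFinrank ≤ T.card := by
        rw [h3]
        calc _ ≤ (Φ '' (T : Set P)).ncard :=
              Submodule.spanFinrank_span_le_ncard_of_finite (T.finite_toSet.image _)
          _ ≤ (T : Set P).ncard := Set.ncard_image_le T.finite_toSet
          _ = T.card := Set.ncard_coe_finset T
      omega
  rw [hg₀]
  apply le_antisymm
  · rw [Ideal.span_le]
    rintro _ rfl
    obtain ⟨u, rfl⟩ := hsu
    refine Ideal.mem_span_singleton'.2 ⟨↑u⁻¹, ?_⟩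
    rw [← hs, ← mul_assoc, Units.inv_mul, one_mul]
  · rw [Ideal.span_le]
    rintro _ rfl
    exact hqmem

end Main

end Groth.Agent.Lib.QuadNodeH3
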