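import Mathlib
import Groth.Agent.Lib.QuadNode1_helper3
import Groth.Agent.Lib.QuadNode2_helper3
import Groth.Agent.Lib.RegPS_helper3

/-!
# Complete local rings with a nondegenerate quadratic relation: presentation (helper3)

* `le_order_of_mem_pow`, `coeff_quad_*`, `quad_not_mem_cube` : the quadratic form
  `a X₀² + b X₀ X₁ + c X₁²` over a field is not in `𝔪³` unless `a = b = c = 0`.
* `spanFinrank_mvPowerSeries_two` : `κ[[X₀, X₁]]` has embedding dimension two.
* `exists_presentation` : a complete Noetherian local `κ`-algebra `R` with residue field `κ`,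
  embedding dimension two, a regular element in `𝔪 \ 𝔪²`, generators `x, y` of `𝔪` and
  `a x² + b x y + c y² ∈ 𝔪³` with `4ac - b² ≠ 0` is `κ[[X₀, X₁]]/(a X₀² + b X₀ X₁ + c X₁²)`.

APPEND-ONLY once landed.
-/

set_option autoImplicit false

namespace Groth.Agent.Lib.QuadNodeH3

open IsLocalRing MvPowerSeries

universe u

section Coeff

variable {κ : Type*} [Field κ]

theorem le_order_of_mem_pow {σ : Type*} (n : ℕ) (f : MvPowerSeries σ κ)
    (hf : f ∈ maximalIdeal (MvPowerSeries σ κ) ^ n) : (n : ℕ∞) ≤ f.order := by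
  induction n generalizing f with
  | zero => simp
  | succ n ih =>
    rw [pow_succ] at hf
    refine Submodule.mul_induction_on hf ?_ ?_
    · intro p hp m hm
      have h1 : (1 : ℕ∞) ≤ m.order := by
        rw [one_le_order_iff_constCoeff_eq_zero]
        by_contra hne
        have hu : IsUnit m := by
          rw [MvPowerSeries.isUnit_iff_constantCoeff]
          exact isUnit_iff_ne_zero.2 hne
        exact (IsLocalRing.mem_maximalIdeal _).1 hm hu
      calc ((n + 1 : ℕ) : ℕ∞) = (n : ℕ∞) + 1 := by push_cast; rfl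
        _ ≤ p.order + m.order := add_le_add (ih p hp) h1
        _ ≤ (p * m).order := le_order_mul
    · intro p q hp hq
      exact le_trans (le_min hp hq) min_order_le_add

/-- the quadratic form -/
noncomputable def quad (a b c : κ) : MvPowerSeries (Fin 2) κ :=
  C a * X 0 ^ 2 + C b * X 0 * X 1 + C c * X 1 ^ 2

theorem quad_eq_monomial (a b c : κ) :
    quad a b c = monomial (Finsupp.single 0 2) a +
      monomial (Finsupp.single 0 1 + Finsupp.single 1 1) b + monomial (Finsupp.single 1 2) c := by
  classical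
  have h1 : (C a : MvPowerSeries (Fin 2) κ) * X 0 ^ 2 = monomial (Finsupp.single 0 2) a := by
    rw [X_pow_eq, ← monomial_zero_eq_C_apply, monomial_mul_monomial, zero_add, mul_one]
  have h2 : (C b : MvPowerSeries (Fin 2) κ) * X 0 * X 1 =
      monomial (Finsupp.single 0 1 + Finsupp.single 1 1) b := by
    rw [X_def, X_def, ← monomial_zero_eq_C_apply, monomial_mul_monomial, monomial_mul_monomial,
      zero_add, mul_one, mul_one]
  have h3 : (C c : MvPowerSeries (Fin 2) κ) * X 1 ^ 2 = monomial (Finsupp.single 1 2) c := by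
    rw [X_pow_eq, ← monomial_zero_eq_C_apply, monomial_mul_monomial, zero_add, mul_one]
  rw [quad, h1, h2, h3]

theorem single_ne_aux1 : (Finsupp.single (0 : Fin 2) 2 : Fin 2 →₀ ℕ) ≠
    Finsupp.single 0 1 + Finsupp.single 1 1 := by
  intro h
  have := DFunLike.congr_fun h 1
  simp at this

theorem single_ne_aux2 : (Finsupp.single (0 : Fin 2) 2 : Fin 2 →₀ ℕ) ≠ Finsupp.single 1 2 := by
  intro h
  have := DFunLike.congr_fun h 1
  simp at this

theorem single_ne_aux3 : (Finsupp.single (0 : Fin 2) 1 + Finsupp.single 1 1 : Fin 2 →₀ ℕ) ≠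
    Finsupp.single 1 2 := by
  intro h
  have := DFunLike.congr_fun h 0
  simp at this

theorem coeff_quad_0 (a b c : κ) : coeff (Finsupp.single 0 2) (quad a b c) = a := by
  classical
  rw [quad_eq_monomial, map_add, map_add, coeff_monomial_same,
    coeff_monomial_ne single_ne_aux1, coeff_monomial_ne single_ne_aux2, add_zero, add_zero]

theorem coeff_quad_1 (a b c : κ) :
    coeff (Finsupp.single 0 1 + Finsupp.single 1 1) (quad a b c) = b := by
  classical
  rw [quad_eq_monomial, map_add, map_add, coeff_monomial_same,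
    coeff_monomial_ne single_ne_aux1.symm, coeff_monomial_ne single_ne_aux3, add_zero, zero_add]

theorem coeff_quad_2 (a b c : κ) : coeff (Finsupp.single 1 2) (quad a b c) = c := by
  classical
  rw [quad_eq_monomial, map_add, map_add, coeff_monomial_same,
    coeff_monomial_ne single_ne_aux2.symm, coeff_monomial_ne single_ne_aux3.symm, zero_add,
    zero_add]

theorem quad_not_mem_cube (a b c : κ) (h : 4 * a * c - b ^ 2 ≠ 0) :
    quad a b c ∉ maximalIdeal (MvPowerSeries (Fin 2) κ) ^ 3 := by
  intro hmem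
  have h3 := le_order_of_mem_pow 3 _ hmem
  have hlt : ∀ d : Fin 2 →₀ ℕ, d.degree = 2 → coeff d (quad a b c) = 0 := by
    intro d hd
    apply coeff_of_lt_order
    refine lt_of_lt_of_le ?_ h3
    rw [hd]
    norm_num
  have ha : a = 0 := by
    rw [← coeff_quad_0 a b c]
    exact hlt _ (by simp [Finsupp.degree_single])
  have hb : b = 0 := by
    rw [← coeff_quad_1 a b c]
    exact hlt _ (by rw [map_add]; simp [Finsupp.degree_single])
  apply h
  rw [ha, hb]
  ring

end Coeff

section Dim

theorem spanFinrank_mvPowerSeries_two (κ : Type*) [Field κ] :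
    haveI := Groth.Agent.Lib.RegPSH3.isRegularLocalRing_mvPowerSeries κ 2
    (maximalIdeal (MvPowerSeries (Fin 2) κ)).spanFinrank = 2 := by
  haveI := Groth.Agent.Lib.RegPSH3.isRegularLocalRing_mvPowerSeries κ 2
  have h1 := Groth.Agent.Lib.RegPSH3.ringKrullDim_mvPowerSeries_regular κ 2
  rw [← IsRegularLocalRing.spanFinrank_maximalIdeal, IsLocalRing.maximalIdeal_eq_bot,
    Submodule.spanFinrank_bot, zero_add] at h1
  exact_mod_cast h1

end Dim

section Pres

variable {κ R : Type u} [Field κ] [CommRing R] [IsLocalRing R] [IsNoetherianRing R]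
  [IsAdicComplete (maximalIdeal R) R] [Algebra κ R]

theorem exists_presentation
    (hres : Function.Surjective ((residue R).comp (algebraMap κ R)))
    (hS : (maximalIdeal R).spanFinrank = 2)
    (t : R) (ht : IsSMulRegular R t) (htm : t ∈ maximalIdeal R) (ht2 : t ∉ maximalIdeal R ^ 2)
    (a b c : κ) (hdisc : 4 * a * c - b ^ 2 ≠ 0) (x y : R)
    (hgen : Ideal.span {x, y} = maximalIdeal R)
    (hQ : algebraMap κ R a * x ^ 2 + algebraMap κ R b * x * y + algebraMap κ R c * y ^ 2 ∈
      maximalIdeal R ^ 3) :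
    ∃ Φ : MvPowerSeries (Fin 2) κ →ₐ[κ] R, Function.Surjective Φ ∧
      RingHom.ker Φ.toRingHom = Ideal.span {quad a b c} := by
  classical
  haveI : IsAdicComplete (maximalIdeal κ) κ := by
    rw [IsLocalRing.maximalIdeal_eq_bot]
    infer_instance
  have hu : IsUnit (4 * algebraMap κ R a * algebraMap κ R c - algebraMap κ R b ^ 2) := by
    have h1 := (isUnit_iff_ne_zero.2 hdisc).map (algebraMap κ R)
    have h2 : algebraMap κ R (4 * a * c - b ^ 2) =
        4 * algebraMap κ R a * algebraMap κ R c - algebraMap κ R b ^ 2 := by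
      rw [map_sub, map_mul, map_mul, map_pow, map_ofNat]
    rwa [h2] at h1
  obtain ⟨x', y', hx', hy', hzero⟩ := exists_quad_zero _ _ _ x y hu hgen hQ
  have hgen' : Ideal.span {x', y'} = maximalIdeal R := span_pair_eq_of_sub_mem hgen hx' hy'
  have hx'm : x' ∈ maximalIdeal R := by rw [← hgen']; exact Ideal.subset_span (by simp)
  have hy'm : y' ∈ maximalIdeal R := by rw [← hgen']; exact Ideal.subset_span (by simp)
  obtain ⟨Φ, hΦX⟩ := Groth.Agent.Lib.RegPSH3.exists_algHom_X (Λ := κ) (R := R) 2 ![x', y']
    (fun i => by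
      fin_cases i
      · exact hx'm
      · exact hy'm)
  have hΦ0 : Φ (X 0) = x' := by simpa using hΦX 0
  have hΦ1 : Φ (X 1) = y' := by simpa using hΦX 1
  have hrange : Set.range (fun i : Fin 2 => Φ (X i)) = {x', y'} := by
    ext z
    constructor
    · rintro ⟨i, rfl⟩
      fin_cases i
      · left; exact hΦ0
      · right; exact hΦ1
    · rintro (rfl | rfl)
      · exact ⟨0, hΦ0⟩
      · exact ⟨1, hΦ1⟩
  have hsurj : Function.Surjective Φ := by
    apply Groth.Agent.Lib.RegPSH3.surjective_of_span_eq 2 Φ _ hres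
    · intro z hz
      rw [IsLocalRing.maximalIdeal_eq_bot, Ideal.mem_bot] at hz
      rw [hz, map_zero]
      exact Ideal.zero_mem _
    · rw [hrange, hgen']
  refine ⟨Φ, hsurj, ?_⟩
  haveI := Groth.Agent.Lib.RegPSH3.isRegularLocalRing_mvPowerSeries κ 2
  have hC : ∀ r : κ, Φ (C r) = algebraMap κ R r := fun r => by
    rw [c_eq_algebraMap, AlgHom.commutes]
  have hq : Φ.toRingHom (quad a b c) = 0 := by
    show Φ (quad a b c) = 0
    rw [quad, map_add, map_add, map_mul, map_mul, map_mul, map_mul, map_pow, map_pow, hC, hC, hC,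
      hΦ0, hΦ1]
    exact hzero
  exact ker_eq_span_of_regular (spanFinrank_mvPowerSeries_two κ) Φ.toRingHom hsurj hS t ht htm ht2
    (quad a b c) hq (quad_not_mem_cube a b c hdisc)

end Pres

end Groth.Agent.Lib.QuadNodeH3
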