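import Mathlib
import Groth.Agent.Lib.QuadNode3_helper3
import Groth.Agent.Lib.PSComplete_helper1

/-!
# `κ[[X₀, X₁]]/(a X₀² + b X₀ X₁ + c X₁²)` is reduced for a nondegenerate form (helper3)

* `isRadical_span_of_separable` : `D[X]/(g)` is reduced for `D` a domain and `g` monic, separable
  over the fraction field.
* `separable_quadratic`, `isDistinguishedAt_quadratic`.
* `isReduced_powerSeries_quadratic` : `D[[X]]/(X² + pX + q)` is reduced for a complete local
  domain `D`, `p, q ∈ 𝔪_D`, `p² - 4q ≠ 0` (Weierstrass division).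
* `isReduced_quad` : the statement of the title.

APPEND-ONLY once landed.
-/

set_option autoImplicit false

namespace Groth.Agent.Lib.QuadNodeH3

open IsLocalRing

universe u

section Poly

open Polynomial

theorem isRadical_span_of_separable {D : Type*} [CommRing D] [IsDomain D] (g : D[X])
    (hg : g.Monic) (hsep : (g.map (algebraMap D (FractionRing D))).Separable) :
    (Ideal.span {g}).IsRadical := by
  rintro p ⟨n, hn⟩
  rw [Ideal.mem_span_singleton] at hn ⊢
  have h1 : g.map (algebraMap D (FractionRing D)) ∣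
      (p.map (algebraMap D (FractionRing D))) ^ n := by
    rw [← Polynomial.map_pow]
    exact Polynomial.map_dvd _ hn
  have h2 : g.map (algebraMap D (FractionRing D)) ∣ p.map (algebraMap D (FractionRing D)) :=
    hsep.squarefree.isRadical n _ h1
  exact (Polynomial.map_dvd_map _ (IsFractionRing.injective D (FractionRing D)) hg).1 h2

theorem separable_quadratic {K : Type*} [Field K] (p q : K) (h : p ^ 2 - 4 * q ≠ 0) :
    (X ^ 2 + C p * X + C q : K[X]).Separable := by
  rw [Polynomial.separable_def]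
  have hd : derivative (X ^ 2 + C p * X + C q : K[X]) = 2 * X + C p := by
    rw [derivative_add, derivative_add, derivative_X_pow, derivative_C_mul, derivative_X,
      derivative_C]
    simp
    exact map_ofNat C 2
  rw [hd]
  obtain ⟨u, hu⟩ : ∃ u : K[X], (C p ^ 2 - 4 * C q) * u = 1 := by
    refine ⟨C (p ^ 2 - 4 * q)⁻¹, ?_⟩
    have : (C p ^ 2 - 4 * C q : K[X]) = C (p ^ 2 - 4 * q) := by
      rw [C_sub, C_mul, C_pow, C_ofNat]
    rw [this, ← C_mul, mul_inv_cancel₀ h, C_1]
  refine ⟨-4 * u, u * (2 * X + C p), ?_⟩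
  linear_combination hu

theorem isDistinguishedAt_quadratic {D : Type*} [CommRing D] [Nontrivial D] (I : Ideal D)
    (p q : D) (hp : p ∈ I) (hq : q ∈ I) :
    (X ^ 2 + C p * X + C q : D[X]).IsDistinguishedAt I := by
  have hdeg : degree (C p * X + C q : D[X]) < ((2 : ℕ) : WithBot ℕ) :=
    lt_of_le_of_lt degree_linear_le (by norm_num)
  have hmon : (X ^ 2 + C p * X + C q : D[X]).Monic := by
    rw [add_assoc]
    exact monic_X_pow_add hdeg
  have hnat : (X ^ 2 + C p * X + C q : D[X]).natDegree = 2 := by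
    rw [add_assoc, natDegree_add_eq_left_of_degree_lt, natDegree_X_pow]
    rw [degree_X_pow]
    exact hdeg
  refine ⟨⟨fun {n} hn => ?_⟩, hmon⟩
  rw [hnat] at hn
  interval_cases n
  · simpa using hq
  · simpa [coeff_X] using hp

end Poly

section PS

variable {D : Type*} [CommRing D] [IsDomain D] [IsLocalRing D]
  [IsAdicComplete (maximalIdeal D) D]

theorem isReduced_powerSeries_quadratic (p q : D) (hp : p ∈ maximalIdeal D)
    (hq : q ∈ maximalIdeal D) (h : p ^ 2 - 4 * q ≠ 0) :
    IsReduced (PowerSeries D ⧸ Ideal.span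
      {(PowerSeries.X ^ 2 + PowerSeries.C p * PowerSeries.X + PowerSeries.C q :
        PowerSeries D)}) := by
  have hdist := isDistinguishedAt_quadratic (maximalIdeal D) p q hp hq
  have hcoe : ((Polynomial.X ^ 2 + Polynomial.C p * Polynomial.X + Polynomial.C q :
      Polynomial D) : PowerSeries D) =
      PowerSeries.X ^ 2 + PowerSeries.C p * PowerSeries.X + PowerSeries.C q := by
    simp
  have hsep : ((Polynomial.X ^ 2 + Polynomial.C p * Polynomial.X + Polynomial.C q :
      Polynomial D).map (algebraMap D (FractionRing D))).Separable := by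
    have : (Polynomial.X ^ 2 + Polynomial.C p * Polynomial.X + Polynomial.C q :
        Polynomial D).map (algebraMap D (FractionRing D)) =
        Polynomial.X ^ 2 + Polynomial.C (algebraMap D (FractionRing D) p) * Polynomial.X +
          Polynomial.C (algebraMap D (FractionRing D) q) := by
      simp
    rw [this]
    apply separable_quadratic
    have h2 : algebraMap D (FractionRing D) (p ^ 2 - 4 * q) ≠ 0 := by
      rw [Ne, map_eq_zero_iff _ (IsFractionRing.injective D (FractionRing D))]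
      exact h
    rwa [map_sub, map_mul, map_pow, map_ofNat] at h2
  haveI : IsReduced (Polynomial D ⧸ Ideal.span
      {(Polynomial.X ^ 2 + Polynomial.C p * Polynomial.X + Polynomial.C q : Polynomial D)}) :=
    (Ideal.isRadical_iff_quotient_reduced _).1
      (isRadical_span_of_separable _ hdist.monic hsep)
  rw [← hcoe]
  exact isReduced_of_injective hdist.algEquivQuotient.symm.toRingEquiv.toRingHom
    hdist.algEquivQuotient.symm.injective

end PS

section Quad

open MvPowerSeries

variable (κ : Type u) [Field κ]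

/-- unit multiples generate the same ideal -/
theorem quad_smul (a b c r : κ) :
    quad (r * a) (r * b) (r * c) = C r * quad a b c := by
  rw [quad, quad, map_mul, map_mul, map_mul]
  ring

theorem span_quad_smul (a b c r : κ) (hr : r ≠ 0) :
    Ideal.span {quad (r * a) (r * b) (r * c)} = Ideal.span {quad a b c} := by
  rw [quad_smul]
  exact Ideal.span_singleton_mul_left_unit
    ((isUnit_iff_ne_zero.2 hr).map (C : κ →+* MvPowerSeries (Fin 2) κ)) _

/-- the case `a = 1` -/
theorem isReduced_quad_monic (β γ : κ) (h : β ^ 2 - 4 * γ ≠ 0) :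
    IsReduced (MvPowerSeries (Fin 2) κ ⧸ Ideal.span {quad 1 β γ}) := by
  classical
  haveI : IsAdicComplete (maximalIdeal κ) κ := by
    rw [IsLocalRing.maximalIdeal_eq_bot]
    infer_instance
  haveI : IsDomain (MvPowerSeries (Fin 1) κ) := NoZeroDivisors.to_isDomain _
  haveI : IsAdicComplete (maximalIdeal (MvPowerSeries (Fin 1) κ)) (MvPowerSeries (Fin 1) κ) :=
    Groth.Agent.Lib.PSCompleteH1.isAdicComplete_maximalIdeal (σ := Fin 1) (R := κ)
  obtain ⟨v, hv⟩ : ∃ v : MvPowerSeries (Fin 1) κ, v = X 0 := ⟨_, rfl⟩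
  have hvm : v ∈ maximalIdeal (MvPowerSeries (Fin 1) κ) := by
    rw [hv, Groth.Agent.Lib.PSCompleteH1.mem_maximalIdeal_iff, constantCoeff_X]
    exact Ideal.zero_mem _
  have hv0 : v ≠ 0 := by
    rw [hv]
    intro h0
    have := congrArg (coeff (Finsupp.single (0 : Fin 1) 1)) h0
    rw [coeff_X, if_pos rfl, map_zero] at this
    exact one_ne_zero this
  have hp : (C β : MvPowerSeries (Fin 1) κ) * v ∈ maximalIdeal (MvPowerSeries (Fin 1) κ) :=
    Ideal.mul_mem_left _ _ hvm
  have hq : (C γ : MvPowerSeries (Fin 1) κ) * v ^ 2 ∈ maximalIdeal (MvPowerSeries (Fin 1) κ) :=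
    Ideal.mul_mem_left _ _ (Ideal.pow_mem_of_mem _ hvm 2 (by norm_num))
  have hne : ((C β : MvPowerSeries (Fin 1) κ) * v) ^ 2 - 4 * ((C γ : MvPowerSeries (Fin 1) κ) *
      v ^ 2) ≠ 0 := by
    have e1 : ((C β : MvPowerSeries (Fin 1) κ) * v) ^ 2 - 4 * ((C γ : MvPowerSeries (Fin 1) κ) *
        v ^ 2) = C (β ^ 2 - 4 * γ) * v ^ 2 := by
      rw [map_sub, map_mul, map_pow, map_ofNat]
      ring
    rw [e1]
    refine mul_ne_zero ?_ (pow_ne_zero 2 hv0)
    rw [Ne, map_eq_zero_iff _ (C_injective (σ := Fin 1) (R := κ))]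
    exact h
  have hred := isReduced_powerSeries_quadratic _ _ hp hq hne
  have himg : (finSuccEquiv κ 1) (quad 1 β γ) =
      PowerSeries.X ^ 2 + PowerSeries.C ((C β : MvPowerSeries (Fin 1) κ) * v) * PowerSeries.X +
        PowerSeries.C ((C γ : MvPowerSeries (Fin 1) κ) * v ^ 2) := by
    have h1 : (X 1 : MvPowerSeries (Fin 2) κ) = X (Fin.succ 0) := rfl
    rw [quad, h1, map_add, map_add, map_mul, map_mul, map_mul, map_mul, map_pow, map_pow,
      finSuccEquiv_X_zero, finSuccEquiv_X_succ, finSuccEquiv_C, finSuccEquiv_C, finSuccEquiv_C,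
      map_one, map_one, ← hv, map_mul, map_mul, map_pow]
    ring
  have hideal : Ideal.span {PowerSeries.X ^ 2 +
      PowerSeries.C ((C β : MvPowerSeries (Fin 1) κ) * v) * PowerSeries.X +
        PowerSeries.C ((C γ : MvPowerSeries (Fin 1) κ) * v ^ 2)} =
      (Ideal.span {quad 1 β γ}).map ((finSuccEquiv κ 1).toRingEquiv : _ →+* _) := by
    rw [Ideal.map_span, Set.image_singleton]
    congr 2
    exact himg.symm
  haveI := hred
  exact isReduced_of_injective (Ideal.quotientEquiv _ _ (finSuccEquiv κ 1).toRingEquiv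
    hideal).toRingHom (Ideal.quotientEquiv _ _ (finSuccEquiv κ 1).toRingEquiv hideal).injective

/-- the case `a ≠ 0` -/
theorem isReduced_quad_left (a b c : κ) (ha : a ≠ 0) (h : 4 * a * c - b ^ 2 ≠ 0) :
    IsReduced (MvPowerSeries (Fin 2) κ ⧸ Ideal.span {quad a b c}) := by
  have h1 : Ideal.span {quad a b c} = Ideal.span {quad 1 (a⁻¹ * b) (a⁻¹ * c)} := by
    have := span_quad_smul κ 1 (a⁻¹ * b) (a⁻¹ * c) a ha
    rw [mul_one, ← mul_assoc, ← mul_assoc, mul_inv_cancel₀ ha, one_mul, one_mul] at this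
    exact this
  rw [h1]
  apply isReduced_quad_monic
  intro h0
  apply h
  have : 4 * a * c - b ^ 2 = -(a ^ 2 * ((a⁻¹ * b) ^ 2 - 4 * (a⁻¹ * c))) := by
    field_simp
    ring
  rw [this, h0, mul_zero, neg_zero]

/-- swapping the variables -/
theorem swap_quad (a b c : κ) :
    renameEquiv κ (Equiv.swap (0 : Fin 2) 1) (quad a b c) = quad c b a := by
  show rename (Equiv.swap (0 : Fin 2) 1) (quad a b c) = quad c b a
  rw [quad, quad, map_add, map_add, map_mul, map_mul, map_mul, map_mul,
    map_pow, map_pow, rename_C, rename_C, rename_C, rename_X, rename_X]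
  simp only [Equiv.swap_apply_left, Equiv.swap_apply_right]
  ring

/-- the case `c ≠ 0` -/
theorem isReduced_quad_right (a b c : κ) (hc : c ≠ 0) (h : 4 * a * c - b ^ 2 ≠ 0) :
    IsReduced (MvPowerSeries (Fin 2) κ ⧸ Ideal.span {quad a b c}) := by
  haveI := isReduced_quad_left κ c b a hc (by rwa [mul_assoc, mul_comm c a, ← mul_assoc])
  have hideal : Ideal.span {quad c b a} =
      (Ideal.span {quad a b c}).map
        ((renameEquiv κ (Equiv.swap (0 : Fin 2) 1)).toRingEquiv : _ →+* _) := by
    rw [Ideal.map_span, Set.image_singleton]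
    congr 2
    exact (swap_quad κ a b c).symm
  exact isReduced_of_injective (Ideal.quotientEquiv _ _
    (renameEquiv κ (Equiv.swap (0 : Fin 2) 1)).toRingEquiv hideal).toRingHom
    (Ideal.quotientEquiv _ _ (renameEquiv κ (Equiv.swap (0 : Fin 2) 1)).toRingEquiv
      hideal).injective

theorem prime_X_zero : Prime (X 0 : MvPowerSeries (Fin 2) κ) := by
  haveI : IsDomain (MvPowerSeries (Fin 1) κ) := NoZeroDivisors.to_isDomain _
  have h1 : Prime ((finSuccEquiv κ 1) (X 0 : MvPowerSeries (Fin 2) κ)) := by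
    rw [finSuccEquiv_X_zero]
    exact PowerSeries.X_prime
  exact (MulEquiv.prime_iff (finSuccEquiv κ 1).toMulEquiv).1 h1

theorem prime_X_one : Prime (X 1 : MvPowerSeries (Fin 2) κ) := by
  have h1 : Prime ((renameEquiv κ (Equiv.swap (0 : Fin 2) 1)) (X 1 : MvPowerSeries (Fin 2) κ)) := by
    show Prime (rename (Equiv.swap (0 : Fin 2) 1) (X 1 : MvPowerSeries (Fin 2) κ))
    rw [rename_X, Equiv.swap_apply_right]
    exact prime_X_zero κ
  exact (MulEquiv.prime_iff (renameEquiv κ (Equiv.swap (0 : Fin 2) 1)).toMulEquiv).1 h1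

/-- the case `a = c = 0` -/
theorem isReduced_quad_mid (b : κ) (hb : b ≠ 0) :
    IsReduced (MvPowerSeries (Fin 2) κ ⧸ Ideal.span {quad 0 b 0}) := by
  classical
  rw [← Ideal.isRadical_iff_quotient_reduced]
  rintro p ⟨n, hn⟩
  rw [Ideal.mem_span_singleton] at hn ⊢
  have hq : quad 0 b 0 = C b * (X 0 * X 1) := by
    rw [quad, map_zero]
    ring
  rw [hq] at hn ⊢
  have h0 : (X 0 : MvPowerSeries (Fin 2) κ) ∣ p :=
    (prime_X_zero κ).dvd_of_dvd_pow (dvd_trans ⟨C b * X 1, by ring⟩ hn)
  have h1 : (X 1 : MvPowerSeries (Fin 2) κ) ∣ p :=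
    (prime_X_one κ).dvd_of_dvd_pow (dvd_trans ⟨C b * X 0, by ring⟩ hn)
  obtain ⟨p₁, rfl⟩ := h0
  have h2 : (X 1 : MvPowerSeries (Fin 2) κ) ∣ p₁ := by
    rcases (prime_X_one κ).dvd_or_dvd h1 with h3 | h3
    · exfalso
      rw [X_dvd_iff] at h3
      have := h3 (Finsupp.single 0 1) (by simp)
      rw [coeff_X, if_pos rfl] at this
      exact one_ne_zero this
    · exact h3
  obtain ⟨p₂, rfl⟩ := h2
  have hbb : (C b : MvPowerSeries (Fin 2) κ) * C b⁻¹ = 1 := by
    rw [← map_mul, mul_inv_cancel₀ hb, map_one]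
  refine ⟨C b⁻¹ * p₂, ?_⟩
  linear_combination (-(X 0 * X 1 * p₂)) * hbb

/-- **Reducedness** of `κ[[X₀, X₁]]/(a X₀² + b X₀ X₁ + c X₁²)` for `4ac - b² ≠ 0`. -/
theorem isReduced_quad (a b c : κ) (h : 4 * a * c - b ^ 2 ≠ 0) :
    IsReduced (MvPowerSeries (Fin 2) κ ⧸ Ideal.span {quad a b c}) := by
  by_cases ha : a = 0
  · by_cases hc : c = 0
    · subst ha hc
      apply isReduced_quad_mid
      rintro rfl
      exact h (by ring)
    · exact isReduced_quad_right κ a b c hc h
  · exact isReduced_quad_left κ a b c ha h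

end Quad

end Groth.Agent.Lib.QuadNodeH3
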