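import Mathlib
import Groth.Agent.Lib.QuadNode4_helper3
import Groth.Agent.Lib.QuadNode5_helper3

/-!
# Algebraic nodes: from the completion to the algebraic description, and S1631 (helper3)

* `spanFinrank_maximalIdeal_ringEquiv`, `spanFinrank_quotient_of_le_sq` : embedding dimension.
* `exists_lift_data` : a nondegenerate quadratic relation between generators of `𝔪̂` descends to
  `A` modulo `𝔪³`.
* `ii_to_i`, `main1631`.

APPEND-ONLY once landed.
-/

set_option autoImplicit false

namespace Groth.Agent.Lib.QuadNodeH3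

open IsLocalRing MvPowerSeries

universe u

section Emb

theorem spanFinrank_maximalIdeal_ringEquiv {R S : Type*} [CommRing R] [CommRing S] [IsLocalRing R]
    [IsLocalRing S] [IsNoetherianRing R] [IsNoetherianRing S] (e : R ≃+* S) :
    (maximalIdeal R).spanFinrank = (maximalIdeal S).spanFinrank := by
  apply le_antisymm
  · have h1 := Ideal.spanFinrank_map_le_of_fg (e.symm : S →+* R)
      (IsNoetherian.noetherian (maximalIdeal S))
    rwa [IsLocalRing.map_maximalIdeal_of_surjective (e.symm : S →+* R) e.symm.surjective] at h1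
  · have h1 := Ideal.spanFinrank_map_le_of_fg (e : R →+* S)
      (IsNoetherian.noetherian (maximalIdeal R))
    rwa [IsLocalRing.map_maximalIdeal_of_surjective (e : R →+* S) e.surjective] at h1

theorem spanFinrank_quotient_of_le_sq {R : Type*} [CommRing R] [IsLocalRing R] [IsNoetherianRing R]
    (I : Ideal R) (hI : I ≤ maximalIdeal R ^ 2) [IsLocalRing (R ⧸ I)] :
    (maximalIdeal (R ⧸ I)).spanFinrank = (maximalIdeal R).spanFinrank := by
  classical
  have hmap : (maximalIdeal R).map (Ideal.Quotient.mk I) = maximalIdeal (R ⧸ I) :=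
    IsLocalRing.map_maximalIdeal_of_surjective _ Ideal.Quotient.mk_surjective
  apply le_antisymm
  · have h1 := Ideal.spanFinrank_map_le_of_fg (Ideal.Quotient.mk I)
      (IsNoetherian.noetherian (maximalIdeal R))
    rwa [hmap] at h1
  · obtain ⟨s, hscard, hsspan⟩ := Submodule.FG.exists_span_finset_card_eq_spanFinrank
      (IsNoetherian.noetherian (maximalIdeal (R ⧸ I)))
    obtain ⟨out, hout⟩ : ∃ out : R ⧸ I → R, ∀ z, Ideal.Quotient.mk I (out z) = z :=
      ⟨Function.surjInv Ideal.Quotient.mk_surjective,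
        Function.surjInv_eq Ideal.Quotient.mk_surjective⟩
    let s' : Finset R := s.image out
    have hs' : (Ideal.span (s' : Set R)).map (Ideal.Quotient.mk I) = maximalIdeal (R ⧸ I) := by
      rw [Ideal.map_span, ← hsspan]
      congr 1
      ext z
      simp only [Finset.coe_image, Set.mem_image, Finset.mem_coe, s']
      constructor
      · rintro ⟨_, ⟨w, hw, rfl⟩, rfl⟩
        rw [hout]
        exact hw
      · intro hz
        exact ⟨out z, ⟨z, hz, rfl⟩, hout z⟩
    have hle : maximalIdeal R ≤ Ideal.span (s' : Set R) := by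
      apply Submodule.le_of_le_smul_of_le_jacobson_bot (I := maximalIdeal R)
        (IsNoetherian.noetherian _)
        (by rw [IsLocalRing.jacobson_eq_maximalIdeal ⊥ bot_ne_top])
      intro m hm
      have h1 : Ideal.Quotient.mk I m ∈ (Ideal.span (s' : Set R)).map (Ideal.Quotient.mk I) := by
        rw [hs', ← hmap]
        exact Ideal.mem_map_of_mem _ hm
      obtain ⟨z, hz, hzm⟩ := (Ideal.mem_map_iff_of_surjective _ Ideal.Quotient.mk_surjective).1 h1
      have h2 : m - z ∈ I := by
        rw [← Ideal.Quotient.eq, hzm]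
      have e1 : m = z + (m - z) := by ring
      rw [e1]
      refine Submodule.add_mem_sup hz ?_
      rw [smul_eq_mul, ← pow_two]
      exact hI h2
    have hge : Ideal.span (s' : Set R) ≤ maximalIdeal R := by
      rw [Ideal.span_le]
      intro z hz
      simp only [Finset.coe_image, Set.mem_image, Finset.mem_coe, s'] at hz
      obtain ⟨w, hw, rfl⟩ := hz
      have hwm : w ∈ maximalIdeal (R ⧸ I) := by
        rw [← hsspan]; exact Submodule.subset_span hw
      by_contra hcon
      have hu : IsUnit (out w) := by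
        by_contra h; exact hcon ((IsLocalRing.mem_maximalIdeal _).2 h)
      have := hu.map (Ideal.Quotient.mk I)
      rw [hout] at this
      exact (IsLocalRing.mem_maximalIdeal _).1 hwm this
    have heq : maximalIdeal R = Ideal.span (s' : Set R) := le_antisymm hle hge
    calc (maximalIdeal R).spanFinrank = (Ideal.span (s' : Set R)).spanFinrank := by rw [← heq]
      _ ≤ (s' : Set R).ncard := Submodule.spanFinrank_span_le_ncard_of_finite s'.finite_toSet
      _ = s'.card := Set.ncard_coe_finset s'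
      _ ≤ s.card := Finset.card_image_le
      _ = _ := hscard

theorem quad_mem_sq (κ : Type*) [Field κ] (a b c : κ) :
    quad a b c ∈ maximalIdeal (MvPowerSeries (Fin 2) κ) ^ 2 := by
  have hX : ∀ i : Fin 2, (X i : MvPowerSeries (Fin 2) κ) ∈
      maximalIdeal (MvPowerSeries (Fin 2) κ) := by
    intro i
    rw [IsLocalRing.mem_maximalIdeal, mem_nonunits_iff, MvPowerSeries.isUnit_iff_constantCoeff,
      constantCoeff_X]
    exact not_isUnit_zero
  rw [quad]
  refine Ideal.add_mem _ (Ideal.add_mem _ ?_ ?_) ?_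
  · exact Ideal.mul_mem_left _ _ (Ideal.pow_mem_pow (hX 0) 2)
  · rw [mul_assoc, pow_two]
    exact Ideal.mul_mem_left _ _ (Ideal.mul_mem_mul (hX 0) (hX 1))
  · exact Ideal.mul_mem_left _ _ (Ideal.pow_mem_pow (hX 1) 2)

end Emb

section Lift

variable (A : Type u) [CommRing A] [IsLocalRing A] [IsNoetherianRing A]

set_option maxHeartbeats 1600000 in
theorem exists_lift_data (ξ η α β γ : AdicCompletion (maximalIdeal A) A)
    (hξη : Ideal.span {ξ, η} = maximalIdeal (AdicCompletion (maximalIdeal A) A))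
    (hu : IsUnit (4 * α * γ - β ^ 2)) (h0 : α * ξ ^ 2 + β * ξ * η + γ * η ^ 2 = 0) :
    ∃ x y a b c : A, x ∈ maximalIdeal A ∧ y ∈ maximalIdeal A ∧
      Ideal.span {x, y} ⊔ maximalIdeal A ^ 2 = maximalIdeal A ∧
      residue A (4 * a * c - b ^ 2) ≠ 0 ∧
      a * x ^ 2 + b * x * y + c * y ^ 2 ∈ maximalIdeal A ^ 3 := by
  classical
  have fg : (maximalIdeal A).FG := IsNoetherian.noetherian _
  have hmap : maximalIdeal (AdicCompletion (maximalIdeal A) A) =
      (maximalIdeal A).map (algebraMap A (AdicCompletion (maximalIdeal A) A)) :=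
    AdicCompletion.maximalIdeal_eq_map
  obtain ⟨M, hM⟩ : ∃ M : Ideal (AdicCompletion (maximalIdeal A) A),
      M = maximalIdeal (AdicCompletion (maximalIdeal A) A) := ⟨_, rfl⟩
  have hMmap : (maximalIdeal A).map (algebraMap A (AdicCompletion (maximalIdeal A) A)) = M := by
    rw [hM, hmap]
  have happrox : ∀ (n : ℕ) (z : AdicCompletion (maximalIdeal A) A), ∃ p : A,
      z - algebraMap A (AdicCompletion (maximalIdeal A) A) p ∈ M ^ n := by
    intro n z
    obtain ⟨p, hp⟩ := exists_sub_mem_pow (maximalIdeal A) fg n z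
    exact ⟨p, by rw [← hMmap]; exact hp⟩
  have hdesc : ∀ (n : ℕ) (p : A), algebraMap A (AdicCompletion (maximalIdeal A) A) p ∈ M ^ n →
      p ∈ maximalIdeal A ^ n := by
    intro n p hp
    rw [← hMmap] at hp
    exact mem_pow_of_algebraMap_mem (maximalIdeal A) fg n p hp
  have hξm : ξ ∈ M := by rw [hM, ← hξη]; exact Ideal.subset_span (by simp)
  have hηm : η ∈ M := by rw [hM, ← hξη]; exact Ideal.subset_span (by simp)
  obtain ⟨x, hx⟩ := happrox 2 ξ
  obtain ⟨y, hy⟩ := happrox 2 η
  obtain ⟨a, ha⟩ := happrox 1 α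
  obtain ⟨b, hb⟩ := happrox 1 β
  obtain ⟨c, hc⟩ := happrox 1 γ
  rw [pow_one] at ha hb hc
  obtain ⟨X, hX⟩ : ∃ X, X = algebraMap A (AdicCompletion (maximalIdeal A) A) x := ⟨_, rfl⟩
  obtain ⟨Y, hY⟩ : ∃ Y, Y = algebraMap A (AdicCompletion (maximalIdeal A) A) y := ⟨_, rfl⟩
  obtain ⟨a₁, ha₁⟩ : ∃ a₁, a₁ = algebraMap A (AdicCompletion (maximalIdeal A) A) a := ⟨_, rfl⟩
  obtain ⟨b₁, hb₁⟩ : ∃ b₁, b₁ = algebraMap A (AdicCompletion (maximalIdeal A) A) b := ⟨_, rfl⟩
  obtain ⟨c₁, hc₁⟩ : ∃ c₁, c₁ = algebraMap A (AdicCompletion (maximalIdeal A) A) c := ⟨_, rfl⟩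
  rw [← hX] at hx
  rw [← hY] at hy
  rw [← ha₁] at ha
  rw [← hb₁] at hb
  rw [← hc₁] at hc
  have hsq : M ^ 2 ≤ M := Ideal.pow_le_self (by norm_num)
  have hXm : X ∈ M := by
    have : X = ξ - (ξ - X) := by ring
    rw [this]; exact Ideal.sub_mem _ hξm (hsq hx)
  have hYm : Y ∈ M := by
    have : Y = η - (η - Y) := by ring
    rw [this]; exact Ideal.sub_mem _ hηm (hsq hy)
  have hxm : x ∈ maximalIdeal A := by
    have := hdesc 1 x (by rw [pow_one, ← hX]; exact hXm)
    rwa [pow_one] at this
  have hym : y ∈ maximalIdeal A := by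
    have := hdesc 1 y (by rw [pow_one, ← hY]; exact hYm)
    rwa [pow_one] at this
  have h3 : ∀ u v w : AdicCompletion (maximalIdeal A) A, u ∈ M → v ∈ M → w ∈ M →
      u * (v * w) ∈ M ^ 3 := by
    intro u v w hu hv hw
    rw [pow_succ', pow_two]
    exact Ideal.mul_mem_mul hu (Ideal.mul_mem_mul hv hw)
  have h21 : ∀ u v : AdicCompletion (maximalIdeal A) A, u ∈ M ^ 2 → v ∈ M →
      u * v ∈ M ^ 3 := by
    intro u v hu hv
    rw [pow_succ]
    exact Ideal.mul_mem_mul hu hv
  refine ⟨x, y, a, b, c, hxm, hym, ?_, ?_, ?_⟩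
  · -- generation
    apply le_antisymm
    · refine sup_le ?_ (Ideal.pow_le_self (by norm_num))
      rw [Ideal.span_le]
      rintro z (rfl | rfl)
      · exact hxm
      · exact hym
    · intro m hm
      have hmM : algebraMap A (AdicCompletion (maximalIdeal A) A) m ∈ Ideal.span {ξ, η} := by
        rw [hξη, hmap]
        exact Ideal.mem_map_of_mem _ hm
      obtain ⟨r, s, hrs⟩ := Ideal.mem_span_pair.1 hmM
      obtain ⟨r₀, hr₀⟩ := happrox 1 r
      obtain ⟨s₀, hs₀⟩ := happrox 1 s
      rw [pow_one] at hr₀ hs₀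
      have hkey : algebraMap A (AdicCompletion (maximalIdeal A) A) (m - (r₀ * x + s₀ * y)) ∈
          M ^ 2 := by
        rw [map_sub, map_add, map_mul, map_mul, ← hX, ← hY, ← hrs]
        have e1 : r * ξ + s * η - (algebraMap A (AdicCompletion (maximalIdeal A) A) r₀ * X +
            algebraMap A (AdicCompletion (maximalIdeal A) A) s₀ * Y) =
            (r - algebraMap A (AdicCompletion (maximalIdeal A) A) r₀) * ξ +
            algebraMap A (AdicCompletion (maximalIdeal A) A) r₀ * (ξ - X) +
            (s - algebraMap A (AdicCompletion (maximalIdeal A) A) s₀) * η +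
            algebraMap A (AdicCompletion (maximalIdeal A) A) s₀ * (η - Y) := by ring
        rw [e1]
        refine Ideal.add_mem _ (Ideal.add_mem _ (Ideal.add_mem _ ?_ ?_) ?_) ?_
        · rw [pow_two]; exact Ideal.mul_mem_mul hr₀ hξm
        · exact Ideal.mul_mem_left _ _ hx
        · rw [pow_two]; exact Ideal.mul_mem_mul hs₀ hηm
        · exact Ideal.mul_mem_left _ _ hy
      have h4 := hdesc 2 _ hkey
      have e2 : m = (r₀ * x + s₀ * y) + (m - (r₀ * x + s₀ * y)) := by ring
      rw [e2]
      exact Submodule.add_mem_sup (Ideal.mem_span_pair.2 ⟨r₀, s₀, rfl⟩) h4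
  · -- discriminant
    intro hres
    rw [residue_eq_zero_iff] at hres
    have h4 : algebraMap A (AdicCompletion (maximalIdeal A) A) (4 * a * c - b ^ 2) ∈ M := by
      rw [← hMmap]; exact Ideal.mem_map_of_mem _ hres
    rw [map_sub, map_mul, map_mul, map_pow, map_ofNat, ← ha₁, ← hb₁, ← hc₁] at h4
    have h5 : 4 * α * γ - β ^ 2 - (4 * a₁ * c₁ - b₁ ^ 2) ∈ M := by
      have e1 : 4 * α * γ - β ^ 2 - (4 * a₁ * c₁ - b₁ ^ 2) =
          4 * γ * (α - a₁) + 4 * a₁ * (γ - c₁) - (β + b₁) * (β - b₁) := by ring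
      rw [e1]
      exact Ideal.sub_mem _ (Ideal.add_mem _ (Ideal.mul_mem_left _ _ ha)
        (Ideal.mul_mem_left _ _ hc)) (Ideal.mul_mem_left _ _ hb)
    have h6 : 4 * α * γ - β ^ 2 ∈ M := by
      have := Ideal.add_mem _ h5 h4
      rwa [sub_add_cancel] at this
    rw [hM] at h6
    exact (IsLocalRing.mem_maximalIdeal _).1 h6 hu
  · -- the relation
    apply hdesc 3
    rw [map_add, map_add, map_mul, map_mul, map_mul, map_mul, map_pow, map_pow, ← hX, ← hY,
      ← ha₁, ← hb₁, ← hc₁]
    have e1 : a₁ * X ^ 2 + b₁ * X * Y + c₁ * Y ^ 2 =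
        (α * ξ ^ 2 + β * ξ * η + γ * η ^ 2) -
        ((α - a₁) * (X * X) + (ξ - X) * (α * (ξ + X)) +
          (β - b₁) * (X * Y) + (ξ - X) * (β * η) + (η - Y) * (β * X) +
          (γ - c₁) * (Y * Y) + (η - Y) * (γ * (η + Y))) := by ring
    rw [e1, h0, zero_sub]
    apply neg_mem
    have hαξX : α * (ξ + X) ∈ M := Ideal.mul_mem_left _ _ (Ideal.add_mem _ hξm hXm)
    have hγηY : γ * (η + Y) ∈ M := Ideal.mul_mem_left _ _ (Ideal.add_mem _ hηm hYm)
    refine Ideal.add_mem _ (Ideal.add_mem _ (Ideal.add_mem _ (Ideal.add_mem _ (Ideal.add_mem _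
      (Ideal.add_mem _ ?_ ?_) ?_) ?_) ?_) ?_) ?_
    · exact h3 _ _ _ ha hXm hXm
    · exact h21 _ _ hx hαξX
    · exact h3 _ _ _ hb hXm hYm
    · exact h21 _ _ hx (Ideal.mul_mem_left _ _ hηm)
    · exact h21 _ _ hy (Ideal.mul_mem_left _ _ hXm)
    · exact h3 _ _ _ hc hYm hYm
    · exact h21 _ _ hy hγηY

end Lift

section Main

variable (k : Type u) [Field k] (A : Type u) [CommRing A] [IsLocalRing A] [IsNoetherianRing A]
  [Algebra k A]

set_option maxHeartbeats 1600000 in
theorem ii_to_i (a' b' c' : ResidueField A) (hdisc : 4 * a' * c' - b' ^ 2 ≠ 0)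
    (e : AdicCompletion (maximalIdeal A) A ≃+*
      (MvPowerSeries (Fin 2) (ResidueField A) ⧸ Ideal.span
        {(C a' * X 0 ^ 2 + C b' * X 0 * X 1 + C c' * X 1 ^ 2 :
          MvPowerSeries (Fin 2) (ResidueField A))})) :
    IsReduced A ∧ Module.finrank (ResidueField A) (CotangentSpace A) = 2 ∧
      ∃ x y a b c : A, x ∈ maximalIdeal A ∧ y ∈ maximalIdeal A ∧
        Ideal.span {x, y} ⊔ maximalIdeal A ^ 2 = maximalIdeal A ∧
        residue A (4 * a * c - b ^ 2) ≠ 0 ∧
        a * x ^ 2 + b * x * y + c * y ^ 2 ∈ maximalIdeal A ^ 3 := by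
  classical
  haveI := Groth.Agent.RegularLib.isNoetherianRing_adicCompletion A (maximalIdeal A)
  have hI : maximalIdeal A ≠ ⊤ := Ideal.IsPrime.ne_top'
  change AdicCompletion (maximalIdeal A) A ≃+*
      (MvPowerSeries (Fin 2) (ResidueField A) ⧸ Ideal.span {quad a' b' c'}) at e
  haveI hredB := isReduced_quad (ResidueField A) a' b' c' hdisc
  haveI hlocB : IsLocalRing (MvPowerSeries (Fin 2) (ResidueField A) ⧸
      Ideal.span {quad a' b' c'}) := e.isLocalRing
  haveI := Groth.Agent.Lib.RegPSH3.isRegularLocalRing_mvPowerSeries (ResidueField A) 2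
  refine ⟨?_, ?_, ?_⟩
  · haveI : IsReduced (AdicCompletion (maximalIdeal A) A) :=
      isReduced_of_injective e.toRingHom e.injective
    haveI : IsHausdorff (maximalIdeal A) A := inferInstance
    exact isReduced_of_injective (algebraMap A (AdicCompletion (maximalIdeal A) A))
      (AdicCompletion.of_injective (maximalIdeal A) A)
  · rw [← IsLocalRing.spanFinrank_maximalIdeal_eq_finrank_cotangentSpace,
      ← AdicCompletion.spanFinrank_maximalIdeal_eq, spanFinrank_maximalIdeal_ringEquiv e,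
      spanFinrank_quotient_of_le_sq _ (by
        rw [Ideal.span_le]
        rintro _ rfl
        exact quad_mem_sq _ a' b' c')]
    exact spanFinrank_mvPowerSeries_two (ResidueField A)
  · -- lifting data
    obtain ⟨mk, hmk⟩ : ∃ mk : MvPowerSeries (Fin 2) (ResidueField A) →+*
        (MvPowerSeries (Fin 2) (ResidueField A) ⧸ Ideal.span {quad a' b' c'}),
        mk = Ideal.Quotient.mk _ := ⟨_, rfl⟩
    have hmks : Function.Surjective mk := by rw [hmk]; exact Ideal.Quotient.mk_surjective
    apply exists_lift_data A (e.symm (mk (X 0))) (e.symm (mk (X 1))) (e.symm (mk (C a')))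
      (e.symm (mk (C b'))) (e.symm (mk (C c')))
    · -- generation
      have h1 : maximalIdeal (MvPowerSeries (Fin 2) (ResidueField A)) =
          Ideal.span {X 0, X 1} := by
        rw [Groth.Agent.Lib.RegPSH3.maximalIdeal_eq, IsLocalRing.maximalIdeal_eq_bot,
          Ideal.map_bot, bot_sup_eq]
        congr 1
        ext z
        constructor
        · rintro ⟨i, rfl⟩
          fin_cases i
          · left; rfl
          · right; rfl
        · rintro (rfl | rfl)
          · exact ⟨0, rfl⟩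
          · exact ⟨1, rfl⟩
      have h2 : maximalIdeal (MvPowerSeries (Fin 2) (ResidueField A) ⧸
          Ideal.span {quad a' b' c'}) = Ideal.span {mk (X 0), mk (X 1)} := by
        rw [← IsLocalRing.map_maximalIdeal_of_surjective mk hmks, h1, Ideal.map_span,
          Set.image_pair]
      rw [← IsLocalRing.map_maximalIdeal_of_surjective
        (e.symm : (MvPowerSeries (Fin 2) (ResidueField A) ⧸ Ideal.span {quad a' b' c'}) →+*
          AdicCompletion (maximalIdeal A) A) e.symm.surjective, h2, Ideal.map_span, Set.image_pair]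
      rfl
    · have h1 : 4 * e.symm (mk (C a')) * e.symm (mk (C c')) - e.symm (mk (C b')) ^ 2 =
          e.symm (mk (C (4 * a' * c' - b' ^ 2))) := by
        simp only [map_sub, map_mul, map_pow, map_ofNat]
      rw [h1]
      exact (((isUnit_iff_ne_zero.2 hdisc).map (C : ResidueField A →+* _)).map mk).map e.symm
    · have h1 : e.symm (mk (C a')) * e.symm (mk (X 0)) ^ 2 +
          e.symm (mk (C b')) * e.symm (mk (X 0)) * e.symm (mk (X 1)) +
          e.symm (mk (C c')) * e.symm (mk (X 1)) ^ 2 = e.symm (mk (quad a' b' c')) := by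
        rw [← map_pow, ← map_pow, ← map_pow, ← map_pow, ← map_mul, ← map_mul, ← map_mul, ← map_mul,
          ← map_mul, ← map_mul, ← map_mul, ← map_mul, ← map_add, ← map_add, ← map_add, ← map_add]
        rfl
      rw [h1, hmk, Ideal.Quotient.eq_zero_iff_mem.2 (Ideal.mem_span_singleton_self _), map_zero]

theorem main1631 :
    (Algebra.IsSeparable k (IsLocalRing.ResidueField A) ∧ IsReduced A ∧
      Module.finrank (IsLocalRing.ResidueField A) (IsLocalRing.CotangentSpace A) = 2 ∧
      ∃ x y a b c : A, x ∈ IsLocalRing.maximalIdeal A ∧ y ∈ IsLocalRing.maximalIdeal A ∧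
        Ideal.span {x, y} ⊔ IsLocalRing.maximalIdeal A ^ 2 = IsLocalRing.maximalIdeal A ∧
        IsLocalRing.residue A (4 * a * c - b ^ 2) ≠ 0 ∧
        a * x ^ 2 + b * x * y + c * y ^ 2 ∈ IsLocalRing.maximalIdeal A ^ 3) ↔
    (Algebra.IsSeparable k (IsLocalRing.ResidueField A) ∧
      ∃ a b c : IsLocalRing.ResidueField A, 4 * a * c - b ^ 2 ≠ 0 ∧
        ∃ e : AdicCompletion (IsLocalRing.maximalIdeal A) A ≃+*
            (MvPowerSeries (Fin 2) (IsLocalRing.ResidueField A) ⧸ Ideal.span
              {(MvPowerSeries.C a * MvPowerSeries.X 0 ^ 2 +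
                MvPowerSeries.C b * MvPowerSeries.X 0 * MvPowerSeries.X 1 +
                MvPowerSeries.C c * MvPowerSeries.X 1 ^ 2 :
                  MvPowerSeries (Fin 2) (IsLocalRing.ResidueField A))}),
          ∀ t : k, e (algebraMap A _ (algebraMap k A t)) =
            Ideal.Quotient.mk _ (MvPowerSeries.C
              (algebraMap A (IsLocalRing.ResidueField A) (algebraMap k A t)))) := by
  constructor
  · rintro ⟨hsep, hred, hcot, x, y, a, b, c, hx, hy, hgen, hdisc, hQ⟩
    exact ⟨hsep, i_to_ii k A hsep hred hcot x y a b c hx hy hgen hdisc hQ⟩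
  · rintro ⟨hsep, a', b', c', hdisc, e, -⟩
    exact ⟨hsep, ii_to_i A a' b' c' hdisc e⟩

end Main

end Groth.Agent.Lib.QuadNodeH3
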