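import Mathlib
import Groth.Agent.Lib.QuadNode6_helper3

/-!
# Algebraic nodes: variant of S1631 (i) ⇒ (ii) with a regular element (helper3)

* `i_to_ii_reg` : as `i_to_ii`, with the reducedness hypothesis replaced by a regular element of
  `𝔪 ∖ 𝔪²` and with the explicit quadratic form `(ā, b̄, c̄)`.

APPEND-ONLY once landed.
-/

set_option autoImplicit false

namespace Groth.Agent.Lib.QuadNodeH3

open IsLocalRing MvPowerSeries

universe u

section Main

variable (k : Type u) [Field k] (A : Type u) [CommRing A] [IsLocalRing A] [IsNoetherianRing A]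
  [Algebra k A]

set_option maxHeartbeats 1600000 in
theorem i_to_ii_reg (hsep : Algebra.IsSeparable k (ResidueField A))
    (τ : A) (hτm : τ ∈ maximalIdeal A) (hτ2 : τ ∉ maximalIdeal A ^ 2) (hτreg : IsSMulRegular A τ)
    (hcot : Module.finrank (ResidueField A) (CotangentSpace A) = 2)
    (x y a b c : A) (hx : x ∈ maximalIdeal A) (hy : y ∈ maximalIdeal A)
    (hgen : Ideal.span {x, y} ⊔ maximalIdeal A ^ 2 = maximalIdeal A)
    (hdisc : residue A (4 * a * c - b ^ 2) ≠ 0)
    (hQ : a * x ^ 2 + b * x * y + c * y ^ 2 ∈ maximalIdeal A ^ 3) :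
    ∃ e : AdicCompletion (maximalIdeal A) A ≃+*
          (MvPowerSeries (Fin 2) (ResidueField A) ⧸ Ideal.span
            {(C (residue A a) * X 0 ^ 2 + C (residue A b) * X 0 * X 1 + C (residue A c) * X 1 ^ 2 :
              MvPowerSeries (Fin 2) (ResidueField A))}),
        ∀ t : k, e (algebraMap A _ (algebraMap k A t)) =
          Ideal.Quotient.mk _ (C (algebraMap A (ResidueField A) (algebraMap k A t))) := by
  classical
  have fg : (maximalIdeal A).FG := IsNoetherian.noetherian _
  haveI := Groth.Agent.RegularLib.isNoetherianRing_adicCompletion A (maximalIdeal A)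
  have hmap : maximalIdeal (AdicCompletion (maximalIdeal A) A) =
      (maximalIdeal A).map (algebraMap A (AdicCompletion (maximalIdeal A) A)) :=
    AdicCompletion.maximalIdeal_eq_map
  haveI : IsScalarTower k A (AdicCompletion (maximalIdeal A) A) :=
    IsScalarTower.of_algebraMap_eq (fun t => rfl)
  -- the coefficient field
  haveI : Algebra.FormallyEtale k (ResidueField A) := Algebra.FormallyEtale.of_isSeparable k _
  let g : A →ₐ[k] (AdicCompletion (maximalIdeal A) A ⧸
      maximalIdeal (AdicCompletion (maximalIdeal A) A)) :=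
    (Ideal.Quotient.mkₐ k (maximalIdeal (AdicCompletion (maximalIdeal A) A))).comp
      (IsScalarTower.toAlgHom k A (AdicCompletion (maximalIdeal A) A))
  have hg : ∀ z ∈ maximalIdeal A, g z = 0 := by
    intro z hz
    show Ideal.Quotient.mk _ (algebraMap A (AdicCompletion (maximalIdeal A) A) z) = 0
    rw [Ideal.Quotient.eq_zero_iff_mem, hmap]
    exact Ideal.mem_map_of_mem _ hz
  let f : ResidueField A →ₐ[k] (AdicCompletion (maximalIdeal A) A ⧸
      maximalIdeal (AdicCompletion (maximalIdeal A) A)) :=
    Ideal.Quotient.liftₐ (maximalIdeal A) g hg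
  have hf : ∀ z : A, f (residue A z) =
      Ideal.Quotient.mk _ (algebraMap A (AdicCompletion (maximalIdeal A) A) z) := fun z => rfl
  obtain ⟨σ, hσ⟩ := Algebra.FormallySmooth.exists_mkₐ_comp_eq_of_isAdicComplete f
  have hσres : ∀ z : A, σ (residue A z) - algebraMap A (AdicCompletion (maximalIdeal A) A) z ∈
      maximalIdeal (AdicCompletion (maximalIdeal A) A) := by
    intro z
    rw [← Ideal.Quotient.eq, ← hf z, ← hσ]
    rfl
  letI : Algebra (ResidueField A) (AdicCompletion (maximalIdeal A) A) := σ.toRingHom.toAlgebra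
  have halg : ∀ r : ResidueField A,
      algebraMap (ResidueField A) (AdicCompletion (maximalIdeal A) A) r = σ r := fun r => rfl
  -- residue field
  have hres : Function.Surjective ((residue (AdicCompletion (maximalIdeal A) A)).comp
      (algebraMap (ResidueField A) (AdicCompletion (maximalIdeal A) A))) := by
    intro w
    obtain ⟨z, rfl⟩ := residue_surjective w
    obtain ⟨p, hp⟩ := exists_sub_mem_pow (maximalIdeal A) fg 1 z
    rw [pow_one, ← hmap] at hp
    refine ⟨residue A p, ?_⟩
    rw [RingHom.comp_apply, halg]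
    symm
    rw [← sub_eq_zero, ← map_sub, residue_eq_zero_iff]
    have e1 : z - σ (residue A p) =
        (z - algebraMap A (AdicCompletion (maximalIdeal A) A) p) -
          (σ (residue A p) - algebraMap A (AdicCompletion (maximalIdeal A) A) p) := by ring
    rw [e1]
    exact Ideal.sub_mem _ hp (hσres p)
  -- embedding dimension
  have hS : (maximalIdeal (AdicCompletion (maximalIdeal A) A)).spanFinrank = 2 := by
    rw [AdicCompletion.spanFinrank_maximalIdeal_eq,
      IsLocalRing.spanFinrank_maximalIdeal_eq_finrank_cotangentSpace, hcot]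
  -- the regular element
  obtain ⟨t, htm, ht2, htreg⟩ : ∃ t, t ∈ maximalIdeal A ∧ t ∉ maximalIdeal A ^ 2 ∧ IsSMulRegular A t :=
    ⟨τ, hτm, hτ2, hτreg⟩
  have htreg' : IsSMulRegular (AdicCompletion (maximalIdeal A) A)
      (algebraMap A (AdicCompletion (maximalIdeal A) A) t) := htreg.of_flat
  have htm' : algebraMap A (AdicCompletion (maximalIdeal A) A) t ∈
      maximalIdeal (AdicCompletion (maximalIdeal A) A) := by
    rw [hmap]; exact Ideal.mem_map_of_mem _ htm
  have ht2' : algebraMap A (AdicCompletion (maximalIdeal A) A) t ∉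
      maximalIdeal (AdicCompletion (maximalIdeal A) A) ^ 2 := by
    intro hcon
    rw [hmap] at hcon
    exact ht2 (mem_pow_of_algebraMap_mem (maximalIdeal A) fg 2 t hcon)
  -- generators
  have hgenA : Ideal.span {x, y} = maximalIdeal A := span_pair_eq_of_sup hx hy hgen
  have hgen' : Ideal.span {algebraMap A (AdicCompletion (maximalIdeal A) A) x,
      algebraMap A (AdicCompletion (maximalIdeal A) A) y} =
      maximalIdeal (AdicCompletion (maximalIdeal A) A) := by
    rw [hmap, ← hgenA, Ideal.map_span, Set.image_pair]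
  -- coefficients
  have hdisc' : 4 * residue A a * residue A c - residue A b ^ 2 ≠ 0 := by
    rw [map_sub, map_mul, map_mul, map_pow, map_ofNat] at hdisc
    exact hdisc
  have hxm' : algebraMap A (AdicCompletion (maximalIdeal A) A) x ∈
      maximalIdeal (AdicCompletion (maximalIdeal A) A) := by
    rw [hmap]; exact Ideal.mem_map_of_mem _ hx
  have hym' : algebraMap A (AdicCompletion (maximalIdeal A) A) y ∈
      maximalIdeal (AdicCompletion (maximalIdeal A) A) := by
    rw [hmap]; exact Ideal.mem_map_of_mem _ hy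
  have hQ' : algebraMap (ResidueField A) (AdicCompletion (maximalIdeal A) A) (residue A a) *
        algebraMap A (AdicCompletion (maximalIdeal A) A) x ^ 2 +
      algebraMap (ResidueField A) (AdicCompletion (maximalIdeal A) A) (residue A b) *
        algebraMap A (AdicCompletion (maximalIdeal A) A) x *
        algebraMap A (AdicCompletion (maximalIdeal A) A) y +
      algebraMap (ResidueField A) (AdicCompletion (maximalIdeal A) A) (residue A c) *
        algebraMap A (AdicCompletion (maximalIdeal A) A) y ^ 2 ∈
      maximalIdeal (AdicCompletion (maximalIdeal A) A) ^ 3 := by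
    rw [halg, halg, halg]
    obtain ⟨X, hX⟩ : ∃ X, X = algebraMap A (AdicCompletion (maximalIdeal A) A) x := ⟨_, rfl⟩
    obtain ⟨Y, hY⟩ : ∃ Y, Y = algebraMap A (AdicCompletion (maximalIdeal A) A) y := ⟨_, rfl⟩
    rw [← hX, ← hY]
    have e1 : σ (residue A a) * X ^ 2 + σ (residue A b) * X * Y + σ (residue A c) * Y ^ 2 =
        (σ (residue A a) - algebraMap A (AdicCompletion (maximalIdeal A) A) a) * (X * X) +
        (σ (residue A b) - algebraMap A (AdicCompletion (maximalIdeal A) A) b) * (X * Y) +
        (σ (residue A c) - algebraMap A (AdicCompletion (maximalIdeal A) A) c) * (Y * Y) +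
        algebraMap A (AdicCompletion (maximalIdeal A) A) (a * x ^ 2 + b * x * y + c * y ^ 2) := by
      rw [map_add, map_add, map_mul, map_mul, map_mul, map_mul, map_pow, map_pow, ← hX, ← hY]
      ring
    rw [e1]
    have hXm : X ∈ maximalIdeal (AdicCompletion (maximalIdeal A) A) := hX ▸ hxm'
    have hYm : Y ∈ maximalIdeal (AdicCompletion (maximalIdeal A) A) := hY ▸ hym'
    have h3 : ∀ u v w : AdicCompletion (maximalIdeal A) A,
        u ∈ maximalIdeal (AdicCompletion (maximalIdeal A) A) →
        v ∈ maximalIdeal (AdicCompletion (maximalIdeal A) A) →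
        w ∈ maximalIdeal (AdicCompletion (maximalIdeal A) A) →
        u * (v * w) ∈ maximalIdeal (AdicCompletion (maximalIdeal A) A) ^ 3 := by
      intro u v w hu hv hw
      rw [pow_succ', pow_two]
      exact Ideal.mul_mem_mul hu (Ideal.mul_mem_mul hv hw)
    refine Ideal.add_mem _ (Ideal.add_mem _ (Ideal.add_mem _ (h3 _ _ _ (hσres a) hXm hXm)
      (h3 _ _ _ (hσres b) hXm hYm)) (h3 _ _ _ (hσres c) hYm hYm)) ?_
    rw [hmap, ← Ideal.map_pow]
    exact Ideal.mem_map_of_mem _ hQ
  obtain ⟨Φ, hΦsurj, hΦker⟩ := exists_presentation hres hS _ htreg' htm' ht2'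
    (residue A a) (residue A b) (residue A c) hdisc' _ _ hgen' hQ'
  have hker' : Ideal.span {(C (residue A a) * X 0 ^ 2 + C (residue A b) * X 0 * X 1 +
      C (residue A c) * X 1 ^ 2 : MvPowerSeries (Fin 2) (ResidueField A))} =
      RingHom.ker Φ.toRingHom := hΦker.symm
  let e₀ : (MvPowerSeries (Fin 2) (ResidueField A) ⧸ Ideal.span
      {(C (residue A a) * X 0 ^ 2 + C (residue A b) * X 0 * X 1 +
        C (residue A c) * X 1 ^ 2 : MvPowerSeries (Fin 2) (ResidueField A))}) ≃+*
      AdicCompletion (maximalIdeal A) A :=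
    (Ideal.quotEquivOfEq hker').trans
      (RingHom.quotientKerEquivOfSurjective (f := Φ.toRingHom) hΦsurj)
  have he₀ : ∀ p : MvPowerSeries (Fin 2) (ResidueField A),
      e₀ (Ideal.Quotient.mk _ p) = Φ p := fun p => rfl
  refine ⟨e₀.symm, fun t => ?_⟩
  rw [RingEquiv.symm_apply_eq, he₀, c_eq_algebraMap, AlgHom.commutes, halg]
  have h1 : algebraMap A (ResidueField A) (algebraMap k A t) = algebraMap k (ResidueField A) t :=
    (IsScalarTower.algebraMap_apply k A (ResidueField A) t).symm
  rw [h1, AlgHom.commutes]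
  rfl

end Main

end Groth.Agent.Lib.QuadNodeH3
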