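import Mathlib
import Groth.Agent.Lib.QuadNode7_helper3

/-!
# Nodes and flat local extensions with trivial closed fibre, part 1 (helper3)

* `exists_factor_of_sum_mem` : equational criterion of flatness modulo an ideal.
* `indep_of_spanFinrank` : generators of `𝔪` modulo `𝔪²` in embedding dimension two are independent.
* `regular_up`, `not_mem_sq_up`, `indep_up`, `spanFinrank_up` : transfer along a flat local
  homomorphism `A → A'` with `𝔪_A A' = 𝔪_{A'}`.
* `exists_split` : over an algebraically closed residue field a nondegenerate quadratic relation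
  can be brought to the form `x y ∈ 𝔪³`.

APPEND-ONLY once landed.
-/

set_option autoImplicit false
universe u

namespace Groth.Agent.Lib.NodeCritH3

open IsLocalRing

section Flat

/-- Equational criterion of flatness, modulo an ideal. -/
theorem exists_factor_of_sum_mem {A M : Type*} [CommRing A] [AddCommGroup M] [Module A M]
    [Module.Flat A M] (I : Ideal A) {n : ℕ} (f : Fin n → A) (α : Fin n → M)
    (h : ∑ i, f i • α i ∈ I • (⊤ : Submodule A M)) :
    ∃ (k : ℕ) (a : Fin n → Fin k → A) (y : Fin k → M),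
      (∀ i, α i = ∑ j, a i j • y j) ∧ ∀ j, ∑ i, f i * a i j ∈ I := by
  classical
  have hspan : (⊤ : Submodule A M) = Submodule.span A (Set.range (id : M → M)) := by simp
  rw [hspan] at h
  obtain ⟨c, hc, hcg⟩ := (Submodule.mem_ideal_smul_span_iff_exists_sum I (id : M → M) _).mp h
  have hcg' : ∑ d ∈ c.support, c d • d = ∑ i, f i • α i := hcg
  -- the relation on `Fin n ⊕ c.support`
  obtain ⟨f', hf'⟩ : ∃ f' : Fin n ⊕ c.support → A, f' = Sum.elim f (fun d => -c d.1) := ⟨_, rfl⟩
  obtain ⟨x', hx'⟩ : ∃ x' : Fin n ⊕ c.support → M, x' = Sum.elim α (fun d => d.1) := ⟨_, rfl⟩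
  have hrel : ∑ i, f' i • x' i = 0 := by
    rw [Fintype.sum_sum_type, hf', hx']
    simp only [Sum.elim_inl, Sum.elim_inr, neg_smul, Finset.sum_neg_distrib]
    rw [Finset.sum_coe_sort c.support (fun d => c d • d), hcg', add_neg_cancel]
  obtain ⟨k, a, y, hxy, hfa⟩ := Module.Flat.isTrivialRelation_of_sum_smul_eq_zero hrel
  refine ⟨k, fun i j => a (Sum.inl i) j, y, fun i => ?_, fun j => ?_⟩
  · have := hxy (Sum.inl i)
    rw [hx'] at this
    exact this
  · have h1 := hfa j
    rw [Fintype.sum_sum_type, hf'] at h1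
    simp only [Sum.elim_inl, Sum.elim_inr, neg_mul, Finset.sum_neg_distrib] at h1
    rw [add_neg_eq_zero] at h1
    rw [h1]
    exact Ideal.sum_mem _ (fun d _ => Ideal.mul_mem_right _ _ (hc d.1))

end Flat

section Indep

variable {A : Type*} [CommRing A] [IsLocalRing A] [IsNoetherianRing A]

/-- In embedding dimension two, generators of `𝔪` modulo `𝔪²` are independent modulo `𝔪²`. -/
theorem indep_of_spanFinrank (h2 : (maximalIdeal A).spanFinrank = 2) (x y : A)
    (hgen : Ideal.span {x, y} ⊔ maximalIdeal A ^ 2 = maximalIdeal A) (r s : A)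
    (h : r * x + s * y ∈ maximalIdeal A ^ 2) : r ∈ maximalIdeal A ∧ s ∈ maximalIdeal A := by
  classical
  have key : ∀ (x y r s : A), Ideal.span {x, y} ⊔ maximalIdeal A ^ 2 = maximalIdeal A →
      r * x + s * y ∈ maximalIdeal A ^ 2 → r ∈ maximalIdeal A := by
    intro x y r s hgen h
    by_contra hr
    have hru : IsUnit r := by
      by_contra hnu; exact hr ((IsLocalRing.mem_maximalIdeal _).2 hnu)
    obtain ⟨u, hu⟩ := hru.exists_left_inv
    have hx : x ∈ Ideal.span {y} ⊔ maximalIdeal A ^ 2 := by
      have e1 : x = (-(u * s)) * y + u * (r * x + s * y) := by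
        linear_combination (-x) * hu
      rw [e1]
      exact Submodule.add_mem_sup (Ideal.mem_span_singleton'.2 ⟨_, rfl⟩)
        (Ideal.mul_mem_left _ _ h)
    have hle : maximalIdeal A ≤ Ideal.span {y} ⊔ maximalIdeal A ^ 2 := by
      have h0 : Ideal.span {x, y} ⊔ maximalIdeal A ^ 2 ≤ Ideal.span {y} ⊔ maximalIdeal A ^ 2 := by
        refine sup_le ?_ le_sup_right
        rw [Ideal.span_le]
        rintro z (rfl | rfl)
        · exact hx
        · exact le_sup_left (α := Ideal A) (Ideal.mem_span_singleton_self _)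
      exact hgen.symm.le.trans h0
    have hle2 : maximalIdeal A ≤ Ideal.span {y} := by
      apply Submodule.le_of_le_smul_of_le_jacobson_bot (I := maximalIdeal A)
        (IsNoetherian.noetherian _)
        (by rw [IsLocalRing.jacobson_eq_maximalIdeal ⊥ bot_ne_top])
      rw [smul_eq_mul, ← pow_two]
      exact hle
    have hym : y ∈ maximalIdeal A := by
      rw [← hgen]
      exact le_sup_left (α := Ideal A) (Ideal.subset_span (by simp))
    have heq : maximalIdeal A = Ideal.span {y} :=
      le_antisymm hle2 ((Ideal.span_singleton_le_iff_mem _).2 hym)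
    have h3 : (maximalIdeal A).spanFinrank ≤ 1 := by
      calc (maximalIdeal A).spanFinrank = (Ideal.span ({y} : Set A)).spanFinrank := by rw [← heq]
        _ ≤ ({y} : Set A).ncard :=
          Submodule.spanFinrank_span_le_ncard_of_finite (Set.finite_singleton y)
        _ = 1 := Set.ncard_singleton y
    omega
  refine ⟨key x y r s hgen h, key y x s r ?_ ?_⟩
  · rw [Set.pair_comm]; exact hgen
  · rw [add_comm]; exact h

end Indep

section Up

variable {A A' : Type u} [CommRing A] [IsLocalRing A] [IsNoetherianRing A] [CommRing A']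
  [IsLocalRing A'] [IsNoetherianRing A'] [Algebra A A'] [Module.Flat A A']
  [IsLocalHom (algebraMap A A')]

theorem regular_up (t : A) (ht : IsSMulRegular A t) : IsSMulRegular A' (algebraMap A A' t) :=
  ht.of_flat

theorem not_mem_pow_up (hmap : (maximalIdeal A).map (algebraMap A A') = maximalIdeal A')
    (n : ℕ) (t : A) (ht : t ∉ maximalIdeal A ^ n) :
    algebraMap A A' t ∉ maximalIdeal A' ^ n := by
  haveI : Module.FaithfullyFlat A A' := Module.FaithfullyFlat.of_flat_of_isLocalHom
  intro hcon
  rw [← hmap, ← Ideal.map_pow] at hcon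
  apply ht
  have h1 : t ∈ ((maximalIdeal A ^ n).map (algebraMap A A')).comap (algebraMap A A') := hcon
  rwa [Ideal.comap_map_eq_self_of_faithfullyFlat] at h1

theorem mem_pow_up (hmap : (maximalIdeal A).map (algebraMap A A') = maximalIdeal A')
    (n : ℕ) (t : A) (ht : t ∈ maximalIdeal A ^ n) :
    algebraMap A A' t ∈ maximalIdeal A' ^ n := by
  rw [← hmap, ← Ideal.map_pow]
  exact Ideal.mem_map_of_mem _ ht

/-- Independence modulo `𝔪²` goes up. -/
theorem indep_up (hmap : (maximalIdeal A).map (algebraMap A A') = maximalIdeal A')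
    (x y : A) (hind : ∀ r s : A, r * x + s * y ∈ maximalIdeal A ^ 2 →
      r ∈ maximalIdeal A ∧ s ∈ maximalIdeal A) (α β : A')
    (h : α * algebraMap A A' x + β * algebraMap A A' y ∈ maximalIdeal A' ^ 2) :
    α ∈ maximalIdeal A' ∧ β ∈ maximalIdeal A' := by
  classical
  have h1 : ∑ i : Fin 2, (![x, y] : Fin 2 → A) i • (![α, β] : Fin 2 → A') i ∈
      (maximalIdeal A ^ 2) • (⊤ : Submodule A A') := by
    rw [Ideal.smul_top_eq_map, Submodule.restrictScalars_mem, Ideal.map_pow, hmap,
      Fin.sum_univ_two]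
    simp only [Matrix.cons_val_zero, Matrix.cons_val_one, Algebra.smul_def]
    have e1 : algebraMap A A' x * α + algebraMap A A' y * β =
        α * algebraMap A A' x + β * algebraMap A A' y := by ring
    rw [e1]
    exact h
  obtain ⟨k, a, w, haw, hfa⟩ := exists_factor_of_sum_mem _ _ _ h1
  have hmem : ∀ j, a 0 j ∈ maximalIdeal A ∧ a 1 j ∈ maximalIdeal A := by
    intro j
    have := hfa j
    rw [Fin.sum_univ_two] at this
    simp only [Matrix.cons_val_zero, Matrix.cons_val_one] at this
    apply hind
    have e1 : a 0 j * x + a 1 j * y = x * a 0 j + y * a 1 j := by ring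
    rw [e1]
    exact this
  have hin : ∀ i : Fin 2, (![α, β] : Fin 2 → A') i ∈ maximalIdeal A' := by
    intro i
    rw [haw i]
    refine Ideal.sum_mem _ (fun j _ => ?_)
    rw [Algebra.smul_def]
    refine Ideal.mul_mem_right _ _ ?_
    rw [← hmap]
    apply Ideal.mem_map_of_mem
    fin_cases i
    · exact (hmem j).1
    · exact (hmem j).2
  exact ⟨hin 0, hin 1⟩

/-- Embedding dimension two goes up. -/
theorem spanFinrank_up (hmap : (maximalIdeal A).map (algebraMap A A') = maximalIdeal A')
    (h2 : (maximalIdeal A).spanFinrank = 2) (x y : A)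
    (hgen : Ideal.span {x, y} ⊔ maximalIdeal A ^ 2 = maximalIdeal A) :
    (maximalIdeal A').spanFinrank = 2 := by
  classical
  have hxm : x ∈ maximalIdeal A := by
    rw [← hgen]; exact le_sup_left (α := Ideal A) (Ideal.subset_span (by simp))
  have hym : y ∈ maximalIdeal A := by
    rw [← hgen]; exact le_sup_left (α := Ideal A) (Ideal.subset_span (by simp))
  have hgenA : Ideal.span {x, y} = maximalIdeal A :=
    Groth.Agent.Lib.QuadNodeH3.span_pair_eq_of_sup hxm hym hgen
  obtain ⟨X, hX⟩ : ∃ X, X = algebraMap A A' x := ⟨_, rfl⟩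
  obtain ⟨Y, hY⟩ : ∃ Y, Y = algebraMap A A' y := ⟨_, rfl⟩
  have hgen' : Ideal.span {X, Y} = maximalIdeal A' := by
    rw [← hmap, ← hgenA, Ideal.map_span, Set.image_pair, hX, hY]
  have hind := indep_up hmap x y (indep_of_spanFinrank h2 x y hgen)
  rw [← hX, ← hY] at hind
  have h1m : (1 : A') ∉ maximalIdeal A' :=
    (Ideal.ne_top_iff_one _).1 (IsLocalRing.maximalIdeal.isMaximal A').ne_top
  apply le_antisymm
  · calc (maximalIdeal A').spanFinrank = (Ideal.span ({X, Y} : Set A')).spanFinrank := by
          rw [hgen']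
      _ ≤ ({X, Y} : Set A').ncard :=
          Submodule.spanFinrank_span_le_ncard_of_finite (Set.toFinite _)
      _ ≤ 2 := (Set.ncard_insert_le X {Y}).trans (by rw [Set.ncard_singleton])
  · by_contra hlt
    have hle1 : (maximalIdeal A').spanFinrank ≤ 1 := by omega
    obtain ⟨s, hscard, hsspan⟩ := Submodule.FG.exists_span_finset_card_eq_spanFinrank
      (IsNoetherian.noetherian (maximalIdeal A'))
    -- `𝔫` is principal
    obtain ⟨z, hz⟩ : ∃ z : A', maximalIdeal A' = Ideal.span {z} := by
      rw [← hscard] at hle1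
      rcases Nat.lt_or_ge s.card 1 with h0 | h0
      · have : s = ∅ := Finset.card_eq_zero.1 (by omega)
        refine ⟨0, ?_⟩
        rw [← hsspan, this]
        simp
      · obtain ⟨z, hz⟩ := Finset.card_eq_one.1 (le_antisymm hle1 h0)
        refine ⟨z, ?_⟩
        rw [← hsspan, hz]
        simp
    have hXz : X ∈ Ideal.span {z} := by
      rw [← hz, ← hgen']; exact Ideal.subset_span (by simp)
    have hYz : Y ∈ Ideal.span {z} := by
      rw [← hz, ← hgen']; exact Ideal.subset_span (by simp)
    obtain ⟨α, hα⟩ := Ideal.mem_span_singleton'.1 hXz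
    obtain ⟨β, hβ⟩ := Ideal.mem_span_singleton'.1 hYz
    have hzm : z ∈ Ideal.span {X, Y} := by
      rw [hgen', hz]; exact Ideal.mem_span_singleton_self z
    obtain ⟨γ, δ, hγδ⟩ := Ideal.mem_span_pair.1 hzm
    -- `(1 - γ α - δ β) z = 0`
    have hrel : (1 - γ * α - δ * β) * z = 0 := by
      rw [← hα, ← hβ] at hγδ
      linear_combination (-1 : A') * hγδ
    by_cases hu : IsUnit (1 - γ * α - δ * β)
    · have hz0 : z = 0 := by
        obtain ⟨v, hv⟩ := hu.exists_left_inv
        have : z = v * ((1 - γ * α - δ * β) * z) := by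
          rw [← mul_assoc, hv, one_mul]
        rw [this, hrel, mul_zero]
      have hX0 : X = 0 := by rw [← hα, hz0, mul_zero]
      have := (hind 1 0 (by rw [hX0]; simp)).1
      exact h1m this
    · have hmem : 1 - γ * α - δ * β ∈ maximalIdeal A' := (IsLocalRing.mem_maximalIdeal _).2 hu
      have hαβ : ¬ (α ∈ maximalIdeal A' ∧ β ∈ maximalIdeal A') := by
        rintro ⟨ha, hb⟩
        apply h1m
        have e1 : (1 : A') = (1 - γ * α - δ * β) + γ * α + δ * β := by ring
        rw [e1]
        exact Ideal.add_mem _ (Ideal.add_mem _ hmem (Ideal.mul_mem_left _ _ ha))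
          (Ideal.mul_mem_left _ _ hb)
      by_cases ha : α ∈ maximalIdeal A'
      · have hb : β ∉ maximalIdeal A' := fun hb => hαβ ⟨ha, hb⟩
        have hbu : IsUnit β := by
          by_contra hnu; exact hb ((IsLocalRing.mem_maximalIdeal _).2 hnu)
        obtain ⟨v, hv⟩ := hbu.exists_left_inv
        -- `z = v Y`, `X = α v Y`
        have hzY : z = v * Y := by rw [← hβ, ← mul_assoc, hv, one_mul]
        have h0 : (1 : A') * X + (-(α * v)) * Y = 0 := by
          rw [← hα, hzY]; ring
        have := (hind 1 (-(α * v)) (by rw [h0]; exact Ideal.zero_mem _)).1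
        exact h1m this
      · have hau : IsUnit α := by
          by_contra hnu; exact ha ((IsLocalRing.mem_maximalIdeal _).2 hnu)
        obtain ⟨v, hv⟩ := hau.exists_left_inv
        have hzX : z = v * X := by rw [← hα, ← mul_assoc, hv, one_mul]
        have h0 : (-(β * v)) * X + (1 : A') * Y = 0 := by
          rw [← hβ, hzX]; ring
        have := (hind (-(β * v)) 1 (by rw [h0]; exact Ideal.zero_mem _)).2
        exact h1m this

end Up

section Split

variable {B : Type*} [CommRing B] [IsLocalRing B]

/-- Over an algebraically closed residue field, a nondegenerate quadratic relation modulo `𝔪³`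
can be brought to the form `x y ∈ 𝔪³`. -/
theorem exists_split [IsAlgClosed (ResidueField B)] (x y a b c : B)
    (hx : x ∈ maximalIdeal B) (hy : y ∈ maximalIdeal B)
    (hgen : Ideal.span {x, y} ⊔ maximalIdeal B ^ 2 = maximalIdeal B)
    (hdisc : residue B (4 * a * c - b ^ 2) ≠ 0)
    (hQ : a * x ^ 2 + b * x * y + c * y ^ 2 ∈ maximalIdeal B ^ 3) :
    ∃ x' y' : B, x' ∈ maximalIdeal B ∧ y' ∈ maximalIdeal B ∧
      Ideal.span {x', y'} ⊔ maximalIdeal B ^ 2 = maximalIdeal B ∧
      x' * y' ∈ maximalIdeal B ^ 3 := by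
  classical
  have h3 : ∀ u v w : B, u ∈ maximalIdeal B → v ∈ maximalIdeal B → w ∈ maximalIdeal B →
      u * (v * w) ∈ maximalIdeal B ^ 3 := by
    intro u v w hu hv hw
    rw [pow_succ', pow_two]
    exact Ideal.mul_mem_mul hu (Ideal.mul_mem_mul hv hw)
  -- a general criterion: an invertible linear change of generators
  have hchange : ∀ (p q r s d' : B), (p * s - q * r) * d' = 1 →
      Ideal.span {p * x + q * y, r * x + s * y} ⊔ maximalIdeal B ^ 2 = maximalIdeal B := by
    intro p q r s d' hd
    have hle : Ideal.span {x, y} ≤ Ideal.span {p * x + q * y, r * x + s * y} := by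
      rw [Ideal.span_le]
      rintro z (rfl | rfl)
      · refine Ideal.mem_span_pair.2 ⟨d' * s, -(d' * q), ?_⟩
        linear_combination (z) * hd
      · refine Ideal.mem_span_pair.2 ⟨-(d' * r), d' * p, ?_⟩
        linear_combination (z) * hd
    apply le_antisymm
    · refine sup_le ?_ (Ideal.pow_le_self (by norm_num))
      rw [Ideal.span_le]
      rintro z (rfl | rfl)
      · exact Ideal.add_mem _ (Ideal.mul_mem_left _ _ hx) (Ideal.mul_mem_left _ _ hy)
      · exact Ideal.add_mem _ (Ideal.mul_mem_left _ _ hx) (Ideal.mul_mem_left _ _ hy)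
    · have h0 : Ideal.span {x, y} ⊔ maximalIdeal B ^ 2 ≤
          Ideal.span {p * x + q * y, r * x + s * y} ⊔ maximalIdeal B ^ 2 :=
        sup_le (hle.trans le_sup_left) le_sup_right
      exact hgen.symm.le.trans h0
  have hunit_of_res : ∀ z : B, residue B z ≠ 0 → ∃ z' : B, z * z' = 1 := by
    intro z hz
    have : IsUnit z := by
      by_contra hnu
      exact hz ((residue_eq_zero_iff z).2 ((IsLocalRing.mem_maximalIdeal _).2 hnu))
    exact this.exists_right_inv
  by_cases ha : residue B a = 0
  · -- `a ∈ 𝔪`, so `b` is a unit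
    have ham : a ∈ maximalIdeal B := (residue_eq_zero_iff a).1 ha
    have hb : residue B b ≠ 0 := by
      intro hb
      apply hdisc
      rw [map_sub, map_mul, map_mul, map_pow, ha, hb]
      ring
    obtain ⟨b', hb'⟩ := hunit_of_res b hb
    refine ⟨0 * x + 1 * y, b * x + c * y, ?_, ?_, ?_, ?_⟩
    · rw [zero_mul, zero_add, one_mul]; exact hy
    · exact Ideal.add_mem _ (Ideal.mul_mem_left _ _ hx) (Ideal.mul_mem_left _ _ hy)
    · exact hchange 0 1 b c (-b') (by linear_combination hb')
    · have e1 : (0 * x + 1 * y) * (b * x + c * y) =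
          (a * x ^ 2 + b * x * y + c * y ^ 2) - a * (x * x) := by ring
      rw [e1]
      exact Ideal.sub_mem _ hQ (h3 _ _ _ ham hx hx)
  · -- `a` is a unit: find the roots of `ā T² + b̄ T + c̄`
    obtain ⟨a', ha'⟩ := hunit_of_res a ha
    obtain ⟨ρ₁, hρ₁⟩ : ∃ ρ : ResidueField B,
        residue B a * ρ ^ 2 + residue B b * ρ + residue B c = 0 := by
      have hdeg : (Polynomial.C (residue B a) * Polynomial.X ^ 2 +
          Polynomial.C (residue B b) * Polynomial.X + Polynomial.C (residue B c)).degree ≠ 0 := by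
        rw [Polynomial.degree_quadratic ha]
        norm_num
      obtain ⟨ρ, hρ⟩ := IsAlgClosed.exists_root _ hdeg
      refine ⟨ρ, ?_⟩
      simpa [Polynomial.IsRoot] using hρ
    obtain ⟨r₁, hr₁⟩ := residue_surjective ρ₁
    -- the second root is `-b/a - ρ₁`
    obtain ⟨r₂, hr₂⟩ : ∃ r₂ : B, r₂ = -(a' * b) - r₁ := ⟨_, rfl⟩
    have hres_a' : residue B a * residue B a' = 1 := by rw [← map_mul, ha', map_one]
    -- coefficient comparisons
    have hcoef1 : -(a * (r₁ + r₂)) - b ∈ maximalIdeal B := by
      rw [← residue_eq_zero_iff, hr₂]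
      have : -(a * (r₁ + (-(a' * b) - r₁))) - b = (a * a' - 1) * b := by ring
      rw [this, ha', sub_self, zero_mul, map_zero]
    have hcoef2 : a * (r₁ * r₂) - c ∈ maximalIdeal B := by
      rw [← residue_eq_zero_iff, hr₂, map_sub, map_mul, map_mul, map_sub, map_neg, map_mul, hr₁]
      linear_combination (-1 : ResidueField B) * hρ₁ - (ρ₁ * residue B b) * hres_a'
    -- distinct roots
    have hdist : residue B (a * (r₁ - r₂)) ≠ 0 := by
      intro h0
      apply hdisc
      have h1 : residue B a * (ρ₁ - residue B r₂) = 0 := by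
        rw [← hr₁, ← map_sub, ← map_mul]; exact h0
      have h2 : ρ₁ = residue B r₂ := by
        rcases mul_eq_zero.1 h1 with h | h
        · exact absurd h ha
        · exact sub_eq_zero.1 h
      have h3' : residue B r₂ = -(residue B a' * residue B b) - ρ₁ := by
        rw [hr₂, map_sub, map_neg, map_mul, hr₁]
      rw [map_sub, map_mul, map_mul, map_pow, map_ofNat]
      have h4 : residue B b = -(2 * residue B a * ρ₁) := by
        have : ρ₁ = -(residue B a' * residue B b) - ρ₁ := by rw [← h3', ← h2]
        linear_combination (residue B a) * this - (residue B b) * hres_a'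
      have h5 : residue B c = residue B a * ρ₁ ^ 2 := by
        linear_combination hρ₁ - ρ₁ * h4
      rw [h4, h5]
      ring
    obtain ⟨d', hd'⟩ := hunit_of_res _ hdist
    refine ⟨a * x + (-(a * r₁)) * y, 1 * x + (-r₂) * y, ?_, ?_, ?_, ?_⟩
    · exact Ideal.add_mem _ (Ideal.mul_mem_left _ _ hx) (Ideal.mul_mem_left _ _ hy)
    · exact Ideal.add_mem _ (Ideal.mul_mem_left _ _ hx) (Ideal.mul_mem_left _ _ hy)
    · exact hchange a (-(a * r₁)) 1 (-r₂) d' (by linear_combination hd')
    · have e1 : (a * x + (-(a * r₁)) * y) * (1 * x + (-r₂) * y) =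
          (a * x ^ 2 + b * x * y + c * y ^ 2) + (-(a * (r₁ + r₂)) - b) * (x * y) +
            (a * (r₁ * r₂) - c) * (y * y) := by ring
      rw [e1]
      exact Ideal.add_mem _ (Ideal.add_mem _ hQ (h3 _ _ _ hcoef1 hx hy)) (h3 _ _ _ hcoef2 hy hy)

end Split

end Groth.Agent.Lib.NodeCritH3
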