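import Mathlib
import Groth.Prelude
import Groth.Agent.Lib.CplEtale_helper3

/-!
# Completions of étale local homomorphisms with trivial residue extension; ordinary double points
(helper3)

APPEND-ONLY once landed.
-/

set_option autoImplicit false
universe u

open IsLocalRing

namespace Groth.Agent.Lib.NodeEtaleH3

open Groth.Agent.Lib.FFTransferH3 Groth.Agent.Lib.CplEtaleH3

section Cpl

variable (A B : Type u) [CommRing A] [CommRing B] [IsNoetherianRing A] [IsNoetherianRing B]
  [IsLocalRing A] [IsLocalRing B] [Algebra A B] [IsLocalHom (algebraMap A B)]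

set_option maxHeartbeats 800000 in
set_option synthInstance.maxHeartbeats 200000 in
/-- An étale local homomorphism with trivial residue field extension induces an isomorphism of
completions. -/
theorem psi_bijective [Module.Flat A B] [Algebra.EssFiniteType A B]
    [Algebra.FormallyUnramified A B]
    (hres : ∀ b : B, ∃ a : A, b - algebraMap A B a ∈ maximalIdeal B) :
    Function.Bijective (psi A B) := by
  letI := algCpl A B
  haveI := tower A B
  haveI := tower' A B
  haveI := faithfullyFlat_cpl A B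
  haveI := isLocalHom_cpl A B
  haveI := noeth_cpl A
  haveI := noeth_cpl B
  obtain ⟨hfin, -⟩ := etale_cpl A B
  haveI := hfin
  have hmA : (maximalIdeal A).map (algebraMap A (EGA4.Cpl A)) = maximalIdeal (EGA4.Cpl A) :=
    AdicCompletion.maximalIdeal_eq_map.symm
  have hmB : (maximalIdeal B).map (algebraMap B (EGA4.Cpl B)) = maximalIdeal (EGA4.Cpl B) :=
    AdicCompletion.maximalIdeal_eq_map.symm
  have hmAB : (maximalIdeal A).map (algebraMap A B) = maximalIdeal B :=
    Algebra.FormallyUnramified.map_maximalIdeal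
  have hmap : (maximalIdeal (EGA4.Cpl A)).map (algebraMap (EGA4.Cpl A) (EGA4.Cpl B)) =
      maximalIdeal (EGA4.Cpl B) := by
    rw [← hmA, Ideal.map_map, ← IsScalarTower.algebraMap_eq A (EGA4.Cpl A) (EGA4.Cpl B),
      IsScalarTower.algebraMap_eq A B (EGA4.Cpl B), ← Ideal.map_map, hmAB, hmB]
  refine ⟨FaithfulSMul.algebraMap_injective (EGA4.Cpl A) (EGA4.Cpl B), ?_⟩
  -- surjectivity by Nakayama
  have hle : (⊤ : Submodule (EGA4.Cpl A) (EGA4.Cpl B)) ≤
      LinearMap.range (Algebra.linearMap (EGA4.Cpl A) (EGA4.Cpl B)) := by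
    apply Submodule.le_of_le_smul_of_le_jacobson_bot (I := maximalIdeal (EGA4.Cpl A))
      Module.Finite.fg_top (IsLocalRing.maximalIdeal_le_jacobson _)
    rintro z -
    -- z ≡ image of some b ∈ B mod m_B̂, b ≡ a mod m_B
    have hbij := AdicCompletion.residueField_map_bijective B
    obtain ⟨bbar, hb⟩ := hbij.2 (residue (EGA4.Cpl B) z)
    obtain ⟨b, rfl⟩ := residue_surjective bbar
    obtain ⟨a, ha⟩ := hres b
    have h1 : z - algebraMap B (EGA4.Cpl B) b ∈ maximalIdeal (EGA4.Cpl B) := by
      rw [← Ideal.Quotient.eq]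
      exact hb.symm
    have h2 : algebraMap B (EGA4.Cpl B) (b - algebraMap A B a) ∈ maximalIdeal (EGA4.Cpl B) := by
      rw [← hmB]
      exact Ideal.mem_map_of_mem _ ha
    have h3 : z - algebraMap (EGA4.Cpl A) (EGA4.Cpl B) (algebraMap A (EGA4.Cpl A) a) ∈
        maximalIdeal (EGA4.Cpl B) := by
      have : z - algebraMap (EGA4.Cpl A) (EGA4.Cpl B) (algebraMap A (EGA4.Cpl A) a) =
          (z - algebraMap B (EGA4.Cpl B) b) +
            algebraMap B (EGA4.Cpl B) (b - algebraMap A B a) := by
        rw [← IsScalarTower.algebraMap_apply A (EGA4.Cpl A) (EGA4.Cpl B),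
          IsScalarTower.algebraMap_apply A B (EGA4.Cpl B), map_sub]
        ring
      rw [this]
      exact Ideal.add_mem _ h1 h2
    have h4 : z - algebraMap (EGA4.Cpl A) (EGA4.Cpl B) (algebraMap A (EGA4.Cpl A) a) ∈
        (maximalIdeal (EGA4.Cpl A) • ⊤ : Submodule (EGA4.Cpl A) (EGA4.Cpl B)) := by
      rw [Ideal.smul_top_eq_map, hmap]
      exact h3
    have h5 : z = algebraMap (EGA4.Cpl A) (EGA4.Cpl B) (algebraMap A (EGA4.Cpl A) a) +
        (z - algebraMap (EGA4.Cpl A) (EGA4.Cpl B) (algebraMap A (EGA4.Cpl A) a)) := by ring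
    rw [h5]
    exact Submodule.add_mem_sup ⟨_, rfl⟩ h4
  intro z
  obtain ⟨w, hw⟩ := hle (Submodule.mem_top : z ∈ ⊤)
  exact ⟨w, hw⟩

end Cpl

section ODP

variable (K A B : Type u) [Field K] [CommRing A] [CommRing B] [IsNoetherianRing A]
  [IsNoetherianRing B] [IsLocalRing A] [IsLocalRing B] [Algebra A B] [IsLocalHom (algebraMap A B)]
  [Algebra K A] [Algebra K B] [IsScalarTower K A B]

/-- Ordinary double points transfer along a local homomorphism inducing an isomorphism of
completions. -/
theorem isOrdDoublePt_iff (h : Function.Bijective (psi A B)) :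
    Curv2.IsOrdDoublePt K A ↔ Curv2.IsOrdDoublePt K B := by
  let Ψ : EGA4.Cpl A ≃+* EGA4.Cpl B := RingEquiv.ofBijective (psi A B) h
  have hΨ : ∀ a : A, Ψ (algebraMap A (EGA4.Cpl A) a) =
      algebraMap B (EGA4.Cpl B) (algebraMap A B a) := fun a => psi_of A B a
  constructor
  · rintro ⟨e, he⟩
    refine ⟨Ψ.symm.trans e, fun c => ?_⟩
    rw [RingEquiv.trans_apply, IsScalarTower.algebraMap_apply K A B, ← hΨ,
      RingEquiv.symm_apply_apply]
    exact he c
  · rintro ⟨e, he⟩
    refine ⟨Ψ.trans e, fun c => ?_⟩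
    rw [RingEquiv.trans_apply, hΨ, ← IsScalarTower.algebraMap_apply K A B]
    exact he c

end ODP

end Groth.Agent.Lib.NodeEtaleH3
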