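import Mathlib

/-!
# A differential criterion for unramifiedness of local homomorphisms over a field (helper3)

`A → B` a local homomorphism of local `k`-algebras such that `Ω[B⁄k]` is cyclic, the residue field
extension is separable and `κ(B)/k` is not formally unramified: then `B` is formally unramified over
`A`.

APPEND-ONLY once landed.
-/

set_option autoImplicit false
universe u

open IsLocalRing TensorProduct KaehlerDifferential

namespace Groth.Agent.Lib.TameSepH3

variable (k A B : Type u) [Field k] [CommRing A] [CommRing B] [IsLocalRing A] [IsLocalRing B]
  [Algebra k A] [Algebra k B] [Algebra A B] [IsScalarTower k A B] [IsLocalHom (algebraMap A B)]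

instance isScalarTower_residueField : IsScalarTower k (ResidueField A) (ResidueField B) :=
  IsScalarTower.of_algebraMap_eq (fun c => by
    show residue B (algebraMap k B c) =
      ResidueField.map (algebraMap A B) (residue A (algebraMap k A c))
    rw [ResidueField.map_residue, ← IsScalarTower.algebraMap_apply])

theorem formallyUnramified_of_cyclic_kaehler
    (hcyc : ∃ ω : Ω[B⁄k], Submodule.span B {ω} = ⊤)
    [Algebra.IsSeparable (ResidueField A) (ResidueField B)]
    (hins : ¬ Algebra.FormallyUnramified k (ResidueField B)) :
    Algebra.FormallyUnramified A B := by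
  obtain ⟨ω, hω⟩ := hcyc
  have hN : LinearMap.range (mapBaseChange k A B) = ⊤ := by
    by_contra hne
    -- the range lies in `𝔪 • ⊤`
    have h1 : LinearMap.range (mapBaseChange k A B) ≤
        (maximalIdeal B) • (⊤ : Submodule B Ω[B⁄k]) := by
      intro n hn
      have hn' : n ∈ Submodule.span B {ω} := by rw [hω]; trivial
      obtain ⟨b, rfl⟩ := Submodule.mem_span_singleton.mp hn'
      by_cases hb : IsUnit b
      · exfalso
        apply hne
        rw [eq_top_iff, ← hω, Submodule.span_le, Set.singleton_subset_iff]
        have : ω = (hb.unit⁻¹ : Bˣ) • (b • ω) := by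
          rw [Units.smul_def, smul_smul, IsUnit.val_inv_mul, one_smul]
        rw [this]
        exact Submodule.smul_mem _ _ hn
      · exact Submodule.smul_mem_smul ((mem_maximalIdeal b).mpr hb) trivial
    -- the map to `Ω[κ(B)/k]` kills `𝔪 • ⊤`
    have h2 : ∀ z ∈ (maximalIdeal B) • (⊤ : Submodule B Ω[B⁄k]),
        KaehlerDifferential.map k k B (ResidueField B) z = 0 := by
      intro z hz
      refine Submodule.smul_induction_on hz ?_ ?_
      · intro b hb y _
        rw [map_smul, ← algebraMap_smul (ResidueField B) b]
        have : algebraMap B (ResidueField B) b = 0 := (residue_eq_zero_iff b).mpr hb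
        rw [this, zero_smul]
      · intro x y hx hy
        rw [map_add, hx, hy, add_zero]
    -- hence `D` vanishes on the image of `κ(A)`
    have h3 : ∀ a : ResidueField A,
        D k (ResidueField B) (algebraMap (ResidueField A) (ResidueField B) a) = 0 := by
      intro a
      obtain ⟨a, rfl⟩ := residue_surjective a
      have hmem : D k B (algebraMap A B a) ∈ LinearMap.range (mapBaseChange k A B) :=
        ⟨(1 : B) ⊗ₜ[A] D k A a, by rw [mapBaseChange_tmul, one_smul, map_D]⟩
      have h4 := h2 _ (h1 hmem)
      rw [map_D] at h4
      exact h4
    -- so `Ω[κ(B)/k] = 0`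
    haveI : Algebra.FormallyUnramified (ResidueField A) (ResidueField B) :=
      Algebra.FormallyUnramified.of_isSeparable _ _
    have h5 : ∀ y : Ω[ResidueField B⁄k], y = 0 := by
      intro y
      have hy : y ∈ LinearMap.ker
          (KaehlerDifferential.map k (ResidueField A) (ResidueField B) (ResidueField B)) :=
        Subsingleton.elim _ _
      rw [← range_mapBaseChange] at hy
      obtain ⟨t, rfl⟩ := hy
      induction t using TensorProduct.induction_on with
      | zero => simp
      | tmul b w =>
        rw [mapBaseChange_tmul]
        have hw : w ∈ Submodule.span (ResidueField A)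
            (Set.range (D k (ResidueField A))) := by
          rw [span_range_derivation]; trivial
        have : KaehlerDifferential.map k k (ResidueField A) (ResidueField B) w = 0 := by
          refine Submodule.span_induction ?_ ?_ ?_ ?_ hw
          · rintro _ ⟨a, rfl⟩
            rw [map_D]
            exact h3 a
          · simp
          · intro x y _ _ hx hy
            rw [map_add, hx, hy, add_zero]
          · intro a x _ hx
            rw [map_smul, hx, smul_zero]
        rw [this, smul_zero]
      | add x y hx hy => rw [map_add, hx, hy, add_zero]
    apply hins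
    exact ⟨⟨fun x y => (h5 x).trans (h5 y).symm⟩⟩
  refine ⟨⟨fun x y => ?_⟩⟩
  have h0 : ∀ z : Ω[B⁄A], z = 0 := by
    intro z
    obtain ⟨w, rfl⟩ := KaehlerDifferential.map_surjective k A B z
    have hw : w ∈ LinearMap.range (mapBaseChange k A B) := by rw [hN]; trivial
    rw [range_mapBaseChange] at hw
    exact hw
  rw [h0 x, h0 y]

end Groth.Agent.Lib.TameSepH3
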