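import Mathlib
import Groth.Prelude.Def_CurvBase
import Groth.Agent.Lib.TameSep1_helper3
import Groth.Agent.Lib.SchFT_helper8
import Groth.Agent.Lib.EtaleDiffCrit_helper3

/-!
# Tame ramification on smooth curves forces separable residue fields (helper3)

APPEND-ONLY once landed.
-/

set_option autoImplicit false
set_option maxSynthPendingDepth 3
universe u

attribute [local instance] Curv2.stalkAlgebra Curv2.resAlgebra

namespace Groth.Agent.Lib.TameSepH3

open AlgebraicGeometry CategoryTheory IsLocalRing Groth.Agent.SchFTH8 KaehlerDifferential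

section Gen

variable (k : Type u) [Field k] (X : Scheme.{u}) [X.Over (Spec (CommRingCat.of k))]

theorem isScalarTower_stalk (V : X.Opens) (x : X) (hx : x ∈ V) :
    letI := secAlgebra k X V
    letI := X.presheaf.algebra_section_stalk ⟨x, hx⟩
    IsScalarTower k Γ(X, V) (X.presheaf.stalk x) := by
  letI := secAlgebra k X V
  letI := X.presheaf.algebra_section_stalk ⟨x, hx⟩
  refine IsScalarTower.of_algebraMap_eq (fun c => ?_)
  show Curv2.stalkMap k X x c = (X.presheaf.germ V x hx).hom (secMap k X V c)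
  simp only [Curv2.stalkMap, secMap, RingHom.comp_apply]
  exact (TopCat.Presheaf.germ_res_apply X.presheaf (homOfLE (le_top : V ≤ ⊤)) x hx _).symm

/-- compatibility of the structure maps of the local rings along a `k`-morphism -/
theorem stalkMap_stalkMap {Y : Scheme.{u}} [Y.Over (Spec (CommRingCat.of k))] (f : X ⟶ Y)
    (hf : f ≫ (Y ↘ Spec (CommRingCat.of k)) = X ↘ Spec (CommRingCat.of k)) (x : X) (c : k) :
    (f.stalkMap x).hom (Curv2.stalkMap k Y (f x) c) = Curv2.stalkMap k X x c := by
  simp only [Curv2.stalkMap, Coh.toGlobal, RingHom.comp_apply]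
  have h1 := Scheme.Hom.germ_stalkMap_apply f ⊤ x trivial
    ((Y ↘ Spec (CommRingCat.of k)).appTop.hom ((Scheme.ΓSpecIso (CommRingCat.of k)).inv.hom c))
  rw [h1]
  congr 1
  rw [← hf, Scheme.Hom.comp_appTop]
  rfl

theorem exists_chart [SmoothOfRelativeDimension 1 (X ↘ Spec (CommRingCat.of k))] (x : X) :
    ∃ (V : X.Opens) (_ : IsAffineOpen V) (_ : x ∈ V),
      @Algebra.IsStandardSmoothOfRelativeDimension 1 k Γ(X, V) _ _ (secAlgebra k X V) := by
  obtain ⟨U, hU, V, hV, hzV, e, hstd⟩ :=
    SmoothOfRelativeDimension.exists_isStandardSmoothOfRelativeDimension (n := 1)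
      (f := X ↘ Spec (CommRingCat.of k)) x
  haveI : Subsingleton (Spec (CommRingCat.of k)) :=
    inferInstanceAs (Subsingleton (PrimeSpectrum k))
  have hUtop : U = ⊤ := by
    ext p
    simp only [TopologicalSpace.Opens.coe_top, Set.mem_univ, iff_true, SetLike.mem_coe]
    have hp : p = (X ↘ Spec (CommRingCat.of k)) x := Subsingleton.elim _ _
    rw [hp]
    exact e hzV
  subst hUtop
  obtain ⟨e', he'⟩ : ∃ e' : k ≃+* Γ(Spec (CommRingCat.of k), ⊤), e' =
      (Scheme.ΓSpecIso (CommRingCat.of k)).symm.commRingCatIsoToRingEquiv := ⟨_, rfl⟩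
  have hψ : (((X ↘ Spec (CommRingCat.of k)).appLE ⊤ V e).hom.comp
      e'.toRingHom).IsStandardSmoothOfRelativeDimension 1 :=
    (RingHom.isStandardSmoothOfRelativeDimension_respectsIso (n := 1)).2 _ e' hstd
  have h2 : secMap k X V = ((X ↘ Spec (CommRingCat.of k)).appLE ⊤ V e).hom.comp
      e'.toRingHom := by
    subst he'
    ext a
    simp only [secMap, Coh.toGlobal, Scheme.Hom.appLE, Scheme.Hom.appTop]
    rfl
  refine ⟨V, hV, hzV, ?_⟩
  rw [← h2] at hψ
  exact hψ

variable {X} in
theorem isMaximal_primeIdealOf {V : X.Opens} (hV : IsAffineOpen V) (x : X) (hx : x ∈ V)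
    (hcl : IsClosed ({x} : Set X)) : (hV.primeIdealOf ⟨x, hx⟩).asIdeal.IsMaximal := by
  rw [← PrimeSpectrum.isClosed_singleton_iff_isMaximal]
  have hpre : ({hV.primeIdealOf ⟨x, hx⟩} : Set (PrimeSpectrum Γ(X, V))) =
      hV.fromSpec ⁻¹' {x} := by
    ext z
    simp only [Set.mem_singleton_iff, Set.mem_preimage]
    constructor
    · rintro rfl
      exact hV.fromSpec_primeIdealOf ⟨x, hx⟩
    · intro h
      apply hV.fromSpec.isOpenEmbedding.injective
      rw [h]
      exact (hV.fromSpec_primeIdealOf ⟨x, hx⟩).symm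
  rw [hpre]
  exact hcl.preimage hV.fromSpec.continuous

variable [SmoothOfRelativeDimension 1 (X ↘ Spec (CommRingCat.of k))]

theorem cyclic_kaehler_stalk (x : X) :
    ∃ ω : Ω[X.presheaf.stalk x⁄k], Submodule.span (X.presheaf.stalk x) {ω} = ⊤ := by
  obtain ⟨V, hV, hx, hstd⟩ := exists_chart k X x
  letI := secAlgebra k X V
  letI := X.presheaf.algebra_section_stalk ⟨x, hx⟩
  haveI := isScalarTower_stalk k X V x hx
  haveI := hstd
  haveI hloc := hV.isLocalization_stalk ⟨x, hx⟩
  haveI : Nontrivial Γ(X, V) := (X.presheaf.germ V x hx).hom.domain_nontrivial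
  haveI : Algebra.IsStandardSmooth k Γ(X, V) :=
    Algebra.IsStandardSmoothOfRelativeDimension.isStandardSmooth 1
  have hrank := Algebra.IsStandardSmoothOfRelativeDimension.rank_kaehlerDifferential
    (R := k) (S := Γ(X, V)) 1
  obtain ⟨ω₀, hω₀⟩ := rank_le_one_iff.mp (le_of_eq (by exact_mod_cast hrank) :
    Module.rank Γ(X, V) Ω[Γ(X, V)⁄k] ≤ 1)
  haveI hlm : IsLocalizedModule (hV.primeIdealOf ⟨x, hx⟩).asIdeal.primeCompl
      (KaehlerDifferential.map k k Γ(X, V) (X.presheaf.stalk x)) :=
    KaehlerDifferential.isLocalizedModule_map k Γ(X, V) (X.presheaf.stalk x)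
      (hV.primeIdealOf ⟨x, hx⟩).asIdeal.primeCompl
  refine ⟨KaehlerDifferential.map k k Γ(X, V) (X.presheaf.stalk x) ω₀, ?_⟩
  rw [eq_top_iff]
  intro z _
  obtain ⟨⟨n, s⟩, hns⟩ := IsLocalizedModule.surj (hV.primeIdealOf ⟨x, hx⟩).asIdeal.primeCompl
    (KaehlerDifferential.map k k Γ(X, V) (X.presheaf.stalk x)) z
  obtain ⟨r, rfl⟩ := hω₀ n
  have hu : IsUnit (algebraMap Γ(X, V) (X.presheaf.stalk x) s) :=
    IsLocalization.map_units _ s
  have h1 : (algebraMap Γ(X, V) (X.presheaf.stalk x) s) • z =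
      (algebraMap Γ(X, V) (X.presheaf.stalk x) r) •
        KaehlerDifferential.map k k Γ(X, V) (X.presheaf.stalk x) ω₀ := by
    rw [algebraMap_smul, algebraMap_smul, ← map_smul]
    exact hns
  have h2 : z = ((hu.unit⁻¹ : (X.presheaf.stalk x)ˣ) : X.presheaf.stalk x) •
      ((algebraMap Γ(X, V) (X.presheaf.stalk x) s) • z) := by
    rw [smul_smul, IsUnit.val_inv_mul, one_smul]
  rw [h2, h1, smul_smul]
  exact Submodule.smul_mem _ _ (Submodule.mem_span_singleton_self _)

include k in
theorem ringKrullDim_stalk_of_isClosed (x : X) (hcl : IsClosed ({x} : Set X)) :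
    ringKrullDim (X.presheaf.stalk x) = 1 := by
  obtain ⟨V, hV, hx, hstd⟩ := exists_chart k X x
  letI := secAlgebra k X V
  letI := X.presheaf.algebra_section_stalk ⟨x, hx⟩
  haveI := hstd
  haveI hloc := hV.isLocalization_stalk ⟨x, hx⟩
  haveI hmax := isMaximal_primeIdealOf hV x hx hcl
  obtain ⟨g, hg⟩ := Algebra.IsStandardSmoothOfRelativeDimension.exists_etale_mvPolynomial
    1 k Γ(X, V)
  letI algPF : Algebra (MvPolynomial (Fin 1) k) Γ(X, V) := g.toRingHom.toAlgebra
  haveI : IsScalarTower k (MvPolynomial (Fin 1) k) Γ(X, V) :=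
    IsScalarTower.of_algebraMap_eq' g.comp_algebraMap.symm
  haveI hEt : Algebra.Etale (MvPolynomial (Fin 1) k) Γ(X, V) := hg
  have h1 := Groth.Agent.Lib.EtaleDiffCritH3.ringKrullDim_of_etale k 1 Γ(X, V)
    (hV.primeIdealOf ⟨x, hx⟩).asIdeal
  let e : Localization.AtPrime (hV.primeIdealOf ⟨x, hx⟩).asIdeal ≃+* X.presheaf.stalk x :=
    (IsLocalization.algEquiv (hV.primeIdealOf ⟨x, hx⟩).asIdeal.primeCompl _ _).toRingEquiv
  rw [← ringKrullDim_eq_of_ringEquiv e, h1]
  rfl

end Gen

section Main

variable (k : Type u) [Field k] (X Y : Scheme.{u}) [X.Over (Spec (CommRingCat.of k))]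
  [Y.Over (Spec (CommRingCat.of k))]
  [SmoothOfRelativeDimension 1 (X ↘ Spec (CommRingCat.of k))]

theorem main16548 (f : X ⟶ Y) [LocallyOfFiniteType f]
    (hf : f ≫ (Y ↘ Spec (CommRingCat.of k)) = X ↘ Spec (CommRingCat.of k))
    (x : X) (hx : IsClosed ({x} : Set X)) (e : ℕ)
    (he : (IsLocalRing.maximalIdeal (Y.presheaf.stalk (f.base x))).map (f.stalkMap x).hom =
      IsLocalRing.maximalIdeal (X.presheaf.stalk x) ^ e)
    (h2 : 2 ≤ e)
    (hsep : @Algebra.IsSeparable (Y.residueField (f.base x)) (X.residueField x) _ _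
      (f.residueFieldMap x).hom.toAlgebra) :
    Algebra.IsSeparable k (X.residueField x) := by
  by_contra hns
  haveI : Smooth (X ↘ Spec (CommRingCat.of k)) := SmoothOfRelativeDimension.smooth 1 _
  haveI : IsLocallyNoetherian X :=
    LocallyOfFiniteType.isLocallyNoetherian (X ↘ Spec (CommRingCat.of k))
  letI algAB : Algebra (Y.presheaf.stalk (f x)) (X.presheaf.stalk x) :=
    (f.stalkMap x).hom.toAlgebra
  haveI hloc : IsLocalHom (algebraMap (Y.presheaf.stalk (f x)) (X.presheaf.stalk x)) :=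
    inferInstanceAs (IsLocalHom (f.stalkMap x).hom)
  haveI tower : IsScalarTower k (Y.presheaf.stalk (f x)) (X.presheaf.stalk x) :=
    IsScalarTower.of_algebraMap_eq (fun c => (stalkMap_stalkMap k X f hf x c).symm)
  haveI hess : Algebra.EssFiniteType (Y.presheaf.stalk (f x)) (X.presheaf.stalk x) :=
    LocallyOfFiniteType.stalkMap f x
  haveI hsep' : Algebra.IsSeparable (ResidueField (Y.presheaf.stalk (f x)))
      (ResidueField (X.presheaf.stalk x)) := by
    have halg : (ResidueField.instAlgebra : Algebra (ResidueField (Y.presheaf.stalk (f x)))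
        (ResidueField (X.presheaf.stalk x))) =
        (ResidueField.map (f.stalkMap x).hom).toAlgebra :=
      Algebra.algebra_ext _ _ (fun r => by
        obtain ⟨r, rfl⟩ := residue_surjective r
        rfl)
    rw [halg]
    exact hsep
  -- `κ(x)` is essentially of finite type over `k`
  haveI hessk : Algebra.EssFiniteType k (X.presheaf.stalk x) := by
    have h1 : (Curv2.stalkMap k X x).EssFiniteType := by
      obtain ⟨V, hV, hxV, -⟩ := exists_chart k X x
      letI := secAlgebra k X V
      letI := X.presheaf.algebra_section_stalk ⟨x, hxV⟩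
      haveI := isScalarTower_stalk k X V x hxV
      haveI hloc := hV.isLocalization_stalk ⟨x, hxV⟩
      haveI : Algebra.FiniteType k Γ(X, V) := finiteType_sec k X V hV
      haveI : Algebra.EssFiniteType Γ(X, V) (X.presheaf.stalk x) :=
        Algebra.EssFiniteType.of_isLocalization _ (hV.primeIdealOf ⟨x, hxV⟩).asIdeal.primeCompl
      exact Algebra.EssFiniteType.comp k Γ(X, V) (X.presheaf.stalk x)
    exact h1
  haveI : Algebra.EssFiniteType k (ResidueField (X.presheaf.stalk x)) :=
    Algebra.EssFiniteType.comp k (X.presheaf.stalk x) _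
  have hins : ¬ Algebra.FormallyUnramified k (ResidueField (X.presheaf.stalk x)) := by
    intro hfu
    apply hns
    exact (Algebra.FormallyUnramified.iff_isSeparable k
      (ResidueField (X.presheaf.stalk x))).mp hfu
  haveI hunr : Algebra.FormallyUnramified (Y.presheaf.stalk (f x)) (X.presheaf.stalk x) :=
    formallyUnramified_of_cyclic_kaehler k _ _ (cyclic_kaehler_stalk k X x) hins
  have hmap : (maximalIdeal (Y.presheaf.stalk (f x))).map
      (algebraMap (Y.presheaf.stalk (f x)) (X.presheaf.stalk x)) =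
      maximalIdeal (X.presheaf.stalk x) := Algebra.FormallyUnramified.map_maximalIdeal
  have hme : maximalIdeal (X.presheaf.stalk x) = maximalIdeal (X.presheaf.stalk x) ^ e :=
    hmap.symm.trans he
  have hle : maximalIdeal (X.presheaf.stalk x) ≤
      maximalIdeal (X.presheaf.stalk x) • maximalIdeal (X.presheaf.stalk x) := by
    rw [smul_eq_mul, ← pow_two]
    calc maximalIdeal (X.presheaf.stalk x) = maximalIdeal (X.presheaf.stalk x) ^ e := hme
      _ ≤ maximalIdeal (X.presheaf.stalk x) ^ 2 := Ideal.pow_le_pow_right h2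
  have hbot : maximalIdeal (X.presheaf.stalk x) = ⊥ :=
    Submodule.eq_bot_of_le_smul_of_le_jacobson_bot _ _ (IsNoetherian.noetherian _) hle
      (IsLocalRing.maximalIdeal_le_jacobson _)
  have hfield : IsField (X.presheaf.stalk x) :=
    IsLocalRing.isField_iff_maximalIdeal_eq.mpr hbot
  have hdim := ringKrullDim_stalk_of_isClosed k X x hx
  rw [ringKrullDim_eq_zero_of_isField hfield] at hdim
  exact zero_ne_one hdim

end Main

end Groth.Agent.Lib.TameSepH3
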