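import Mathlib
import Groth.Agent.Lib.WeakAssSch3_helper4

/-!
# Weakly associated points, part 4 (helper4)

* `KerOn F U`: the kernel half of `LocOn`; holds for the pushforward of a quasi-coherent module along
  a quasi-compact morphism on affine opens of the target.
* `exists_isWeakAssPoint_of_pushforward_qc`: a weakly associated point of `f_* F` (`f` quasi-compact,
  `F` quasi-coherent) is the image of a weakly associated point of `F`.
* `isWeakAssPoint_pushforward_of_noetherian'`: local form of the Noetherian converse.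
* `eq_of_specializes_of_isIntegralHom`: incomparability for integral morphisms.
-/

set_option autoImplicit false
universe u

namespace Groth.Agent.Lib.WeakAssSch4_helper4

open AlgebraicGeometry CategoryTheory TopologicalSpace Opposite FlatCA
open Groth.Agent.Lib.WeakAss_helper4 Groth.Agent.Lib.QCohLoc_helper4
open Groth.Agent.Lib.WeakAssSch_helper4 Groth.Agent.Lib.WeakAssSch2_helper4
open Groth.Agent.Lib.WeakAssSch3_helper4

section Abstract

variable {A : Type*} [CommRing A] (p : Ideal A) [hp : p.IsPrime] {M : Type*} [AddCommGroup M]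
  [Module A M] {B : Type*} [CommRing B] [IsLocalRing B] {N : Type*} [AddCommGroup N] [Module B N]
  (ρ : A →+* B) (γ : M →+ N)

/-- One direction of the bridge, for an explicit representative, needing only the kernel
condition. -/
theorem mem_minimalPrimes_ann_of_germ
    (hunit : ∀ a, a ∉ p → IsUnit (ρ a)) (hmem : ∀ a ∈ p, ρ a ∈ IsLocalRing.maximalIdeal B)
    (hγ : ∀ a m, γ (a • m) = ρ a • γ m)
    (hker : ∀ m, γ m = 0 → ∃ s, s ∉ p ∧ s • m = 0)
    (m : M)
    (hz : Ideal.radical (LinearMap.ker (LinearMap.toSpanSingleton B N (γ m))) =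
      IsLocalRing.maximalIdeal B) :
    p ∈ (ann A m).minimalPrimes := by
  have hmemker : ∀ (z : N) (b : B),
      b ∈ LinearMap.ker (LinearMap.toSpanSingleton B N z) ↔ b • z = 0 := by
    intro z b; rw [LinearMap.mem_ker, LinearMap.toSpanSingleton_apply]
  refine ⟨⟨hp, ?_⟩, ?_⟩
  · intro a ha
    by_contra hap
    rw [mem_ann] at ha
    have h1 : ρ a • γ m = 0 := by rw [← hγ, ha, map_zero]
    have h2 : γ m = 0 := (hunit a hap).smul_eq_zero.mp h1
    have : (1 : B) ∈ IsLocalRing.maximalIdeal B := by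
      rw [← hz]; apply Ideal.le_radical; rw [hmemker, h2, smul_zero]
    exact (IsLocalRing.maximalIdeal.isMaximal B).ne_top ((Ideal.eq_top_iff_one _).mpr this)
  · rintro q ⟨hq, hqa⟩ hqp
    intro a ha
    have h1 : ρ a ∈ Ideal.radical (LinearMap.ker (LinearMap.toSpanSingleton B N (γ m))) := by
      rw [hz]; exact hmem a ha
    obtain ⟨n, hn⟩ := h1
    rw [hmemker, ← map_pow, ← hγ] at hn
    obtain ⟨t, ht, htm⟩ := hker _ hn
    have h2 : t * a ^ n ∈ q := hqa (by rw [mem_ann, mul_smul]; exact htm)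
    rcases hq.mem_or_mem h2 with h3 | h3
    · exact absurd (hqp h3) ht
    · exact hq.mem_of_pow_mem n h3

omit hp in
/-- Over a Noetherian ring a weakly associated prime is the annihilator of an element. -/
theorem exists_eq_ann_of_mem_weakAss [IsNoetherianRing A] {p : Ideal A} (hp : p ∈ weakAss A M) :
    ∃ m : M, p = ann A m := by
  obtain ⟨m0, hm0⟩ := hp
  have hcolon : ∀ y : M, Submodule.colon (⊥ : Submodule A M) {y} = ann A y := by
    intro y; ext r
    rw [Submodule.mem_colon_singleton, Submodule.mem_bot, mem_ann]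
  have hm0' : p ∈ (Submodule.colon (⊥ : Submodule A M) {m0}).minimalPrimes := by
    rw [hcolon]; exact hm0
  obtain ⟨y, hy⟩ := Submodule.exists_eq_colon_of_mem_minimalPrimes hm0'
  rw [hcolon] at hy
  exact ⟨y, hy⟩

end Abstract

section KerOn

variable {X : Scheme.{u}} (F : X.Modules)

/-- The kernel half of `LocOn`. -/
def KerOn (U : X.Opens) : Prop :=
  ∀ (f : Γ(X, U)) (t : Γ(F, U)),
    F.presheaf.map (homOfLE (X.basicOpen_le f)).op t = 0 → ∃ n : ℕ, f ^ n • t = 0

variable {F} {U : X.Opens}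

theorem kerOn_of_locOn (h : LocOn F U) : KerOn F U := h.ker

theorem KerOn.exists_smul_eq_zero_of_germ_eq_zero (h : KerOn F U) (hU : IsAffineOpen U) {x : X}
    (hx : x ∈ U) (t : Γ(F, U))
    (ht : F.presheaf.germ U x hx t = 0) : ∃ g : Γ(X, U), x ∈ X.basicOpen g ∧ g • t = 0 := by
  have ht' : F.presheaf.germ U x hx t = F.presheaf.germ U x hx 0 := by rw [ht, map_zero]
  obtain ⟨W, hxW, iU, iV, hW⟩ := TopCat.Presheaf.germ_eq F.presheaf x hx hx t 0 ht'
  rw [map_zero] at hW
  obtain ⟨g, hgW, hxg⟩ := hU.exists_basicOpen_le ⟨x, hxW⟩ hx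
  have hxg' : x ∈ X.basicOpen g := hxg
  obtain ⟨n, hn⟩ := h g t (by
    have := congrArg (F.presheaf.map (homOfLE hgW).op) hW
    rw [map_zero] at this
    exact (map_map_eq F iU.op (homOfLE hgW).op _ t).symm.trans this)
  refine ⟨g ^ n, ?_, hn⟩
  rw [Scheme.mem_basicOpen _ _ _ hx, map_pow]
  exact ((Scheme.mem_basicOpen _ _ _ hx).mp hxg').pow n

theorem KerOn.mem_minimalPrimes_ann_of_germ (h : KerOn F U) (hU : IsAffineOpen U) {x : X}
    (hx : x ∈ U) (m : Γ(F, U))
    (hz : Ideal.radical (LinearMap.ker (LinearMap.toSpanSingleton (X.presheaf.stalk x)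
      (F.presheaf.stalk x) (F.presheaf.germ U x hx m))) =
      IsLocalRing.maximalIdeal (X.presheaf.stalk x)) :
    (hU.primeIdealOf ⟨x, hx⟩).asIdeal ∈ (ann Γ(X, U) m).minimalPrimes := by
  refine _root_.Groth.Agent.Lib.WeakAssSch4_helper4.mem_minimalPrimes_ann_of_germ
    (hU.primeIdealOf ⟨x, hx⟩).asIdeal
    (X.presheaf.germ U x hx).hom (F.presheaf.germ U x hx).hom ?_ ?_ ?_ ?_ m hz
  · intro a ha
    exact (Scheme.mem_basicOpen _ _ _ hx).mp ((notMem_primeIdealOf_iff hU hx a).mp ha)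
  · intro a ha
    exact (mem_primeIdealOf_iff hU hx a).mp ha
  · intro a m
    exact germ_smul F U x hx a m
  · intro m hm
    obtain ⟨g, hg, hgm⟩ := h.exists_smul_eq_zero_of_germ_eq_zero hU hx m hm
    exact ⟨g, (notMem_primeIdealOf_iff hU hx g).mpr hg, hgm⟩

end KerOn

section QCPush

variable {X S : Scheme.{u}} (f : X ⟶ S) (F : X.Modules)

/-- A finite affine cover of the preimage of an affine open under a quasi-compact morphism. -/
theorem exists_finite_affine_cover_preimage [QuasiCompact f] {V : S.Opens} (hV : IsAffineOpen V) :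
    ∃ s : Set X.affineOpens, s.Finite ∧ (∀ W ∈ s, (W : X.Opens) ≤ f ⁻¹ᵁ V) ∧
      f ⁻¹ᵁ V ≤ ⨆ W : s, (W.1 : X.Opens) := by
  have hc : IsCompact (f ⁻¹ᵁ V : Set X) := f.isCompact_preimage hV.isCompact
  obtain ⟨s, hs, hcov⟩ := isCompact_iff_finite_and_eq_biUnion_affineOpens.mp hc
  refine ⟨s, hs, ?_, ?_⟩
  · intro W hW
    rw [hcov]
    exact le_iSup₂ (f := fun (i : X.affineOpens) (_ : i ∈ s) => (i : X.Opens)) W hW
  · intro x hx
    have hx' : x ∈ (⨆ i ∈ s, (i : X.Opens) : X.Opens) := by rw [← hcov]; exact hx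
    simp only [Opens.mem_iSup] at hx' ⊢
    obtain ⟨W, hW, hxW⟩ := hx'
    exact ⟨⟨W, hW⟩, hxW⟩

theorem kerOn_pushforward_of_quasiCompact [QuasiCompact f] [F.IsQuasicoherent] {V : S.Opens}
    (hV : IsAffineOpen V) : KerOn ((Scheme.Modules.pushforward f).obj F) V := by
  intro g t ht
  obtain ⟨s, hs, hle, hcov⟩ := exists_finite_affine_cover_preimage f hV
  have hle' : ∀ W : s, (W.1 : X.Opens) ≤ f ⁻¹ᵁ V := fun W => hle W.1 W.2
  set a : Γ(X, f ⁻¹ᵁ V) := (f.app V).hom g with ha
  let t' : Γ(F, f ⁻¹ᵁ V) := t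
  have key : ∀ W : s, ∃ n : ℕ, (X.presheaf.map (homOfLE (hle' W)).op).hom a ^ n •
      F.presheaf.map (homOfLE (hle' W)).op t' = 0 := by
    intro W
    have hloc := locOn_of_isQuasicoherent F W.1.2
    apply hloc.ker
    have hbo : X.basicOpen ((X.presheaf.map (homOfLE (hle' W)).op).hom a) ≤
        f ⁻¹ᵁ S.basicOpen g :=
      (Scheme.basicOpen_res _ a (homOfLE (hle' W)).op).le.trans
        (inf_le_right.trans (Scheme.preimage_basicOpen f g).ge)
    have h0 : F.presheaf.map ((Opens.map f.base).map (homOfLE (S.basicOpen_le g))).op t' = 0 := ht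
    have h1 := congrArg (F.presheaf.map (homOfLE hbo).op) h0
    rw [map_zero] at h1
    exact (map_map_eq F _ _
      (homOfLE ((X.basicOpen_le _).trans (hle' W))).op t').trans
      ((map_map_eq F _ _ _ t').symm.trans h1)
  choose nfun hn using key
  have : Finite s := hs.to_subtype
  haveI : Fintype s := Fintype.ofFinite s
  refine ⟨Finset.univ.sup nfun, ?_⟩
  show (f.app V).hom (g ^ (Finset.univ.sup nfun)) • t' = 0
  rw [map_pow]
  refine TopCat.Sheaf.eq_of_locally_eq' ⟨F.presheaf, F.isSheaf⟩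
    (fun W : s => (W.1 : X.Opens)) (f ⁻¹ᵁ V) (fun W => homOfLE (hle' W)) hcov _ 0 ?_
  intro W
  rw [map_zero]
  have h1 : F.presheaf.map (homOfLE (hle' W)).op (a ^ (Finset.univ.sup nfun) • t') =
      (X.presheaf.map (homOfLE (hle' W)).op).hom (a ^ (Finset.univ.sup nfun)) •
        F.presheaf.map (homOfLE (hle' W)).op t' :=
    Scheme.Modules.map_smul F (homOfLE (hle' W)) _ t'
  have hle2 : nfun W ≤ Finset.univ.sup nfun := Finset.le_sup (Finset.mem_univ W)
  refine h1.trans ?_
  rw [map_pow, ← Nat.sub_add_cancel hle2, pow_add, mul_smul, hn W, smul_zero]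

variable {f F}

/-- A weakly associated point of the pushforward of a quasi-coherent module along a quasi-compact
morphism is the image of a weakly associated point. -/
theorem exists_isWeakAssPoint_of_pushforward_qc [QuasiCompact f] [F.IsQuasicoherent] (y : S)
    (hy : Curv2.IsWeakAssPoint ((Scheme.Modules.pushforward f).obj F) y) :
    ∃ x : X, f x = y ∧ Curv2.IsWeakAssPoint F x := by
  obtain ⟨z, hz⟩ := hy
  obtain ⟨W0, hyW0, s0, rfl⟩ :=
    TopCat.Presheaf.exists_germ_eq ((Scheme.Modules.pushforward f).obj F).presheaf z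
  obtain ⟨V, hV, hyV, hVW⟩ := (Opens.isBasis_iff_nbhd.mp S.isBasis_affineOpens) hyW0
  let m : Γ((Scheme.Modules.pushforward f).obj F, V) :=
    ((Scheme.Modules.pushforward f).obj F).presheaf.map (homOfLE hVW).op s0
  have hm : ((Scheme.Modules.pushforward f).obj F).presheaf.germ V y hyV m =
      ((Scheme.Modules.pushforward f).obj F).presheaf.germ W0 y hyW0 s0 :=
    TopCat.Presheaf.germ_res_apply ((Scheme.Modules.pushforward f).obj F).presheaf
      (homOfLE hVW) y hyV s0
  rw [← hm] at hz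
  have hmin := (kerOn_pushforward_of_quasiCompact f F hV).mem_minimalPrimes_ann_of_germ hV hyV m hz
  obtain ⟨s, hs, hle, hcov⟩ := exists_finite_affine_cover_preimage f hV
  have hle' : ∀ W : s, (W.1 : X.Opens) ≤ f ⁻¹ᵁ V := fun W => hle W.1 W.2
  have : Finite s := hs.to_subtype
  haveI : Fintype s := Fintype.ofFinite s
  let m' : Γ(F, f ⁻¹ᵁ V) := m
  let I : s → Ideal Γ(S, V) := fun W =>
    (ann Γ(X, W.1) (F.presheaf.map (homOfLE (hle' W)).op m')).comap (f.appLE V W.1 (hle' W)).hom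
  have hres : ∀ (W : s) (a : Γ(S, V)),
      F.presheaf.map (homOfLE (hle' W)).op ((f.app V).hom a • m') =
        (f.appLE V W.1 (hle' W)).hom a • F.presheaf.map (homOfLE (hle' W)).op m' :=
    fun W a => Scheme.Modules.map_smul F (homOfLE (hle' W)) _ m'
  have hann : ann Γ(S, V) m = Finset.univ.inf I := by
    ext a
    rw [mem_ann, Submodule.mem_finsetInf]
    constructor
    · intro h W _
      show (f.appLE V W.1 (hle' W)).hom a ∈ ann Γ(X, W.1) _
      rw [mem_ann, ← hres]
      have h' : (f.app V).hom a • m' = 0 := h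
      rw [h', map_zero]
    · intro h
      show (f.app V).hom a • m' = 0
      refine TopCat.Sheaf.eq_of_locally_eq' ⟨F.presheaf, F.isSheaf⟩
        (fun W : s => (W.1 : X.Opens)) (f ⁻¹ᵁ V) (fun W => homOfLE (hle' W)) hcov _ 0 ?_
      intro W
      rw [map_zero]
      have h2 : (f.appLE V W.1 (hle' W)).hom a ∈ ann Γ(X, W.1) _ := h W (Finset.mem_univ W)
      rw [mem_ann] at h2
      exact (hres W a).trans h2
  have hprime : (hV.primeIdealOf ⟨y, hyV⟩).asIdeal.IsPrime := inferInstance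
  have hle1 : Finset.univ.inf I ≤ (hV.primeIdealOf ⟨y, hyV⟩).asIdeal := hann ▸ hmin.1.2
  obtain ⟨W, -, hW⟩ := (Ideal.IsPrime.inf_le' hprime).mp hle1
  have hminW : (hV.primeIdealOf ⟨y, hyV⟩).asIdeal ∈ (I W).minimalPrimes :=
    mem_minimalPrimes_of_le hmin (by rw [hann]; exact Finset.inf_le (Finset.mem_univ W)) hW
  obtain ⟨p', hp'prime, hle2, hp'⟩ := Ideal.exists_comap_eq_of_mem_minimalPrimes
    (f.appLE V W.1 (hle' W)).hom _ hminW
  obtain ⟨q, hq, hqp'⟩ := Ideal.exists_minimalPrimes_le hle2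
  haveI hqprime : q.IsPrime := hq.1.1
  have hqp : q.comap (f.appLE V W.1 (hle' W)).hom = (hV.primeIdealOf ⟨y, hyV⟩).asIdeal := by
    refine le_antisymm ?_ ?_
    · rw [← hp']; exact Ideal.comap_mono hqp'
    · exact hminW.2 ⟨Ideal.comap_isPrime _ q, Ideal.comap_mono hq.1.2⟩
        (by rw [← hp']; exact Ideal.comap_mono hqp')
  obtain ⟨x, hxW, hxq⟩ := exists_point_of_prime W.1.2 ⟨q, hqprime⟩
  refine ⟨x, ?_, (isWeakAssPoint_iff (locOn_of_isQuasicoherent F W.1.2) W.1.2 hxW).mpr ?_⟩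
  · have h2 := IsAffineOpen.comap_primeIdealOf_appLE (f := f) V hV W.1 W.1.2 (hle' W) hxW
    apply primeIdealOf_injective hV (show f x ∈ V from hle' W hxW) hyV
    rw [← h2, hxq]
    apply PrimeSpectrum.ext
    exact hqp
  · rw [hxq]
    exact ⟨_, hq⟩

/-- Local form of `isWeakAssPoint_pushforward_of_noetherian`: only the preimage of one affine open
is assumed affine (with Noetherian ring of sections). -/
theorem isWeakAssPoint_pushforward_of_noetherian' {V : S.Opens} (hV : IsAffineOpen V)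
    (hU : IsAffineOpen (f ⁻¹ᵁ V)) [IsNoetherianRing Γ(X, f ⁻¹ᵁ V)]
    [F.IsQuasicoherent] (x : X) (hxU : x ∈ f ⁻¹ᵁ V) (hx : Curv2.IsWeakAssPoint F x) :
    Curv2.IsWeakAssPoint ((Scheme.Modules.pushforward f).obj F) (f x) := by
  have hsV : f x ∈ V := hxU
  have hlocF := locOn_of_isQuasicoherent F hU
  have hlocP : LocOn ((Scheme.Modules.pushforward f).obj F) V := locOn_pushforward hlocF
  have h1 := (isWeakAssPoint_iff hlocF hU hxU).mp hx
  have h2 := comap_mem_weakAss_of_noetherian (f.app V).hom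
    (N := Γ((Scheme.Modules.pushforward f).obj F, V)) (N' := Γ(F, f ⁻¹ᵁ V))
    (AddMonoidHom.id _) (fun _ _ => rfl) (fun _ _ h => h) (fun y => ⟨y, rfl⟩) h1
  rw [isWeakAssPoint_iff hlocP hV hsV]
  have h3 := IsAffineOpen.comap_primeIdealOf_appLE (f := f) V hV (f ⁻¹ᵁ V) hU le_rfl hxU
  have h4 : f.appLE V (f ⁻¹ᵁ V) le_rfl = f.app V := by rw [Scheme.Hom.app_eq_appLE]
  rw [h4] at h3
  rw [← h3]
  exact h2

end QCPush

section Integral

variable {X Y : Scheme.{u}} (f : X ⟶ Y)

/-- Incomparability: an integral morphism has no nontrivial specializations in its fibres. -/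
theorem eq_of_specializes_of_isIntegralHom [IsIntegralHom f] {x y : X} (hxy : y ⤳ x)
    (hf : f x = f y) : x = y := by
  obtain ⟨V, hV, hxV, -⟩ := (Opens.isBasis_iff_nbhd.mp Y.isBasis_affineOpens)
    (show f x ∈ (⊤ : Y.Opens) from trivial)
  have hU : IsAffineOpen (f ⁻¹ᵁ V) := IsAffineHom.isAffine_preimage _ hV
  have hxU : x ∈ f ⁻¹ᵁ V := hxV
  have hyU : y ∈ f ⁻¹ᵁ V := hxy.mem_open (f ⁻¹ᵁ V).isOpen hxU
  have hle := (specializes_iff_primeIdealOf_le hU hxU hyU).mp hxy
  have h3x := IsAffineOpen.comap_primeIdealOf_appLE (f := f) V hV (f ⁻¹ᵁ V) hU le_rfl hxU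
  have h3y := IsAffineOpen.comap_primeIdealOf_appLE (f := f) V hV (f ⁻¹ᵁ V) hU le_rfl hyU
  have h4 : f.appLE V (f ⁻¹ᵁ V) le_rfl = f.app V := by rw [Scheme.Hom.app_eq_appLE]
  rw [h4] at h3x h3y
  have hcomap : (hU.primeIdealOf ⟨y, hyU⟩).asIdeal.comap (f.app V).hom =
      (hU.primeIdealOf ⟨x, hxU⟩).asIdeal.comap (f.app V).hom := by
    have e1 := congrArg PrimeSpectrum.asIdeal h3x
    have e2 := congrArg PrimeSpectrum.asIdeal h3y
    have e3 : hV.primeIdealOf ⟨f y, hyU⟩ = hV.primeIdealOf ⟨f x, hxU⟩ := by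
      congr 1; exact Subtype.ext hf.symm
    rw [e3] at e2
    exact e2.trans e1.symm
  have hint : (f.app V).hom.IsIntegral := IsIntegralHom.isIntegral_app f V hV
  by_contra hne
  have hne' : (hU.primeIdealOf ⟨y, hyU⟩).asIdeal ≠ (hU.primeIdealOf ⟨x, hxU⟩).asIdeal := by
    intro h
    exact hne (primeIdealOf_injective hU hxU hyU (PrimeSpectrum.ext h.symm))
  have hlt : (hU.primeIdealOf ⟨y, hyU⟩).asIdeal < (hU.primeIdealOf ⟨x, hxU⟩).asIdeal :=
    lt_of_le_of_ne hle hne'
  obtain ⟨-, b, hbx, hby⟩ := SetLike.lt_iff_le_and_exists.mp hlt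
  letI : Algebra Γ(Y, V) Γ(X, f ⁻¹ᵁ V) := (f.app V).hom.toAlgebra
  have hb : IsIntegral Γ(Y, V) b := hint b
  have := Ideal.comap_lt_comap_of_integral_mem_sdiff (R := Γ(Y, V)) hle ⟨hbx, hby⟩ hb
  exact (ne_of_lt this) hcomap

end Integral

section Images

variable {X S : Scheme.{u}} (f : X ⟶ S) (F : X.Modules)

/-- For an affine morphism with locally Noetherian source, the weakly associated points of the
pushforward are exactly the images of the weakly associated points. -/
theorem isWeakAssPoint_pushforward_iff [IsAffineHom f] [IsLocallyNoetherian X]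
    [F.IsQuasicoherent] (y : S) :
    Curv2.IsWeakAssPoint ((Scheme.Modules.pushforward f).obj F) y ↔
      ∃ x : X, f x = y ∧ Curv2.IsWeakAssPoint F x :=
  ⟨fun h => exists_isWeakAssPoint_of_pushforward y h,
    fun ⟨x, hx, hxw⟩ => hx ▸ isWeakAssPoint_pushforward_of_noetherian x hxw⟩

end Images

end Groth.Agent.Lib.WeakAssSch4_helper4
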