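import Mathlib
import Groth.Prelude
import Groth.Agent.Lib.NodeEtale1_helper3
import Groth.Agent.Lib.TameSep2_helper3
import Groth.Agent.Lib.InsepRam3_helper3
import Groth.Agent.Lib.WeakAssSch4_helper4

/-!
# Nodes and étale morphisms (helper3)

APPEND-ONLY once landed.
-/

set_option autoImplicit false
set_option linter.style.haveILetI false
universe u

open AlgebraicGeometry CategoryTheory CategoryTheory.Limits IsLocalRing

namespace Groth.Agent.Lib.NodeEtaleH3

/-- unramified morphisms are locally quasi-finite. -/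
theorem lqf_of_unramified {X Y : Scheme.{u}} (f : X ⟶ Y) [LocallyOfFiniteType f]
    [FormallyUnramified f] : LocallyQuasiFinite f := by
  refine ⟨fun {U} hU {V} hV e => ?_⟩
  have h1 : (f.appLE U V e).hom.FiniteType := f.finiteType_appLE hU hV e
  have h2 : (f.appLE U V e).hom.FormallyUnramified := f.formallyUnramified_appLE hU hV e
  algebraize [(f.appLE U V e).hom]
  change Algebra.QuasiFinite _ _
  infer_instance

/-- closedness of points along an unramified morphism of schemes, target Jacobson. -/
theorem isClosed_singleton_iff_of_unramified {X Y : Scheme.{u}} (π : Y ⟶ X) [LocallyOfFiniteType π]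
    [FormallyUnramified π] [JacobsonSpace X] (y : Y) :
    IsClosed ({π y} : Set X) ↔ IsClosed ({y} : Set Y) := by
  haveI := lqf_of_unramified π
  constructor
  · intro h
    refine isClosed_of_subset_discrete_closed (t := π ⁻¹' {π y}) ?_
      (π.isDiscrete_preimage_singleton (π y)) (h.preimage π.continuous)
    intro z hz
    rw [Set.mem_singleton_iff] at hz
    rw [hz]; rfl
  · intro h
    exact π.closePoints_subset_preimage_closedPoints h

section Gen

variable (K : Type u) [Field K] [IsAlgClosed K] {P Q : Scheme.{u}}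
  [P.Over (Spec (CommRingCat.of K))] [Q.Over (Spec (CommRingCat.of K))]
  [LocallyOfFiniteType (P ↘ Spec (CommRingCat.of K))]
  [LocallyOfFiniteType (Q ↘ Spec (CommRingCat.of K))]
  (g : Q ⟶ P) [Etale g] (hg : g ≫ (P ↘ Spec (CommRingCat.of K)) = Q ↘ Spec (CommRingCat.of K))

include hg in
set_option maxHeartbeats 800000 in
/-- For an étale morphism of schemes locally of finite type over an algebraically closed field
and a closed point `q` of the source: `g q` is an ordinary double point iff `q` is. -/
theorem isOrdDoublePt_iff_of_etale (q : Q) (hq : IsClosed ({q} : Set Q)) :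
    @Curv2.IsOrdDoublePt K _ (P.presheaf.stalk (g q)) _ (Curv2.stalkAlgebra K P (g q)) _ ↔
      @Curv2.IsOrdDoublePt K _ (Q.presheaf.stalk q) _ (Curv2.stalkAlgebra K Q q) _ := by
  letI algKA := Curv2.stalkAlgebra K P (g q)
  letI algKB := Curv2.stalkAlgebra K Q q
  letI algAB : Algebra (P.presheaf.stalk (g q)) (Q.presheaf.stalk q) :=
    (g.stalkMap q).hom.toAlgebra
  haveI : IsScalarTower K (P.presheaf.stalk (g q)) (Q.presheaf.stalk q) :=
    IsScalarTower.of_algebraMap_eq
      (fun c => (Groth.Agent.Lib.TameSepH3.stalkMap_stalkMap K Q g hg q c).symm)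
  haveI : IsLocalHom (algebraMap (P.presheaf.stalk (g q)) (Q.presheaf.stalk q)) :=
    inferInstanceAs (IsLocalHom (g.stalkMap q).hom)
  haveI : IsLocallyNoetherian P :=
    LocallyOfFiniteType.isLocallyNoetherian (P ↘ Spec (CommRingCat.of K))
  haveI : IsLocallyNoetherian Q :=
    LocallyOfFiniteType.isLocallyNoetherian (Q ↘ Spec (CommRingCat.of K))
  haveI : Module.Flat (P.presheaf.stalk (g q)) (Q.presheaf.stalk q) := Flat.stalkMap g q
  haveI : Algebra.EssFiniteType (P.presheaf.stalk (g q)) (Q.presheaf.stalk q) :=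
    LocallyOfFiniteType.stalkMap g q
  haveI : Algebra.FormallyUnramified (P.presheaf.stalk (g q)) (Q.presheaf.stalk q) :=
    FormallyUnramified.stalkMap g q
  have hres : ∀ b : Q.presheaf.stalk q, ∃ a : P.presheaf.stalk (g q),
      b - algebraMap (P.presheaf.stalk (g q)) (Q.presheaf.stalk q) a ∈
        maximalIdeal (Q.presheaf.stalk q) := by
    intro b
    have hfin := Groth.Agent.Lib.InsepRamH3.finite_resMap K Q q hq
    letI := Curv2.resAlgebra K Q q
    haveI : Module.Finite K (Q.residueField q) := hfin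
    have hsurj : Function.Surjective (algebraMap K (Q.residueField q)) :=
      (IsAlgClosed.algebraMap_bijective_of_isIntegral (k := K) (K := Q.residueField q)).2
    obtain ⟨c, hc⟩ := hsurj ((Q.residue q).hom b)
    refine ⟨algebraMap K (P.presheaf.stalk (g q)) c, ?_⟩
    rw [← IsScalarTower.algebraMap_apply K (P.presheaf.stalk (g q)) (Q.presheaf.stalk q)]
    rw [← Ideal.Quotient.eq]
    exact hc.symm
  exact isOrdDoublePt_iff K (P.presheaf.stalk (g q)) (Q.presheaf.stalk q)
    (psi_bijective (P.presheaf.stalk (g q)) (Q.presheaf.stalk q) hres)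

end Gen

/-- points over closed points along an integral morphism are closed. -/
theorem isClosed_of_integral {N U : Scheme.{u}} (φ : N ⟶ U) [IsIntegralHom φ] (n : N)
    (h : IsClosed ({φ n} : Set U)) : IsClosed ({n} : Set N) := by
  rw [← closure_subset_iff_isClosed]
  intro n' hn'
  have hsp : n ⤳ n' := specializes_iff_mem_closure.2 hn'
  have h1 : φ n ⤳ φ n' := hsp.map φ.continuous
  have h2 : φ n' ∈ closure ({φ n} : Set U) := specializes_iff_mem_closure.1 h1
  rw [h.closure_eq, Set.mem_singleton_iff] at h2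
  rw [Set.mem_singleton_iff]
  exact Groth.Agent.Lib.WeakAssSch4_helper4.eq_of_specializes_of_isIntegralHom φ hsp h2

section BC

variable (k : Type u) [Field k] (X : Scheme.{u}) [X.Over (Spec (CommRingCat.of k))]
  [LocallyOfFiniteType (X ↘ Spec (CommRingCat.of k))] {Y : Scheme.{u}} (π : Y ⟶ X) [Etale π]
  (K : Type u) [Field K] [Algebra k K]

/-- the morphism induced by `π` on base changes to `K`. -/
noncomputable def pibar :
    pullback (π ≫ (X ↘ Spec (CommRingCat.of k))) (Spec.map (CommRingCat.ofHom (algebraMap k K))) ⟶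
      Curv2.bc k X K :=
  (pullbackRightPullbackFstIso (X ↘ Spec (CommRingCat.of k))
    (Spec.map (CommRingCat.ofHom (algebraMap k K))) π).inv ≫ pullback.snd π (Curv2.bcFst k X K)

instance : Etale (pibar k X π K) := by
  unfold pibar
  infer_instance

theorem pibar_fst : pibar k X π K ≫ Curv2.bcFst k X K = pullback.fst _ _ ≫ π := by
  unfold pibar
  rw [Category.assoc]
  exact pullbackRightPullbackFstIso_inv_snd_fst _ _ _

theorem pibar_snd : pibar k X π K ≫ Curv2.bcSnd k X K = pullback.snd _ _ := by
  unfold pibar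
  rw [Category.assoc]
  exact pullbackRightPullbackFstIso_inv_snd_snd _ _ _

theorem exists_point (y : Y) (xb : Curv2.bc k X K) (h : Curv2.bcFst k X K xb = π y) :
    ∃ yb : ↥(pullback (π ≫ (X ↘ Spec (CommRingCat.of k)))
        (Spec.map (CommRingCat.ofHom (algebraMap k K)))),
      (pullback.fst (π ≫ (X ↘ Spec (CommRingCat.of k)))
        (Spec.map (CommRingCat.ofHom (algebraMap k K)))) yb = y ∧ pibar k X π K yb = xb := by
  obtain ⟨z, hz1, hz2⟩ := Scheme.Pullback.exists_preimage_pullback (f := π)
    (g := Curv2.bcFst k X K) y xb h.symm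
  refine ⟨(pullbackRightPullbackFstIso (X ↘ Spec (CommRingCat.of k))
    (Spec.map (CommRingCat.ofHom (algebraMap k K))) π).hom z, ?_, ?_⟩
  · rw [← Scheme.Hom.comp_apply, pullbackRightPullbackFstIso_hom_fst]
    exact hz1
  · unfold pibar
    rw [← Scheme.Hom.comp_apply, Iso.hom_inv_id_assoc]
    exact hz2

variable [IsAlgClosed K] [Algebra.IsAlgebraic k K]

set_option maxHeartbeats 800000 in
/-- **S6552** (for any algebraically closed algebraic extension `K`, in particular the algebraic
closure). -/
theorem isNode_iff_aux (y : Y) :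
    (IsClosed ({π y} : Set X) ∧
      ∃ xb : Curv2.bc k X K, Curv2.bcFst k X K xb = π y ∧
        letI : (Curv2.bc k X K).Over (Spec (CommRingCat.of K)) := ⟨Curv2.bcSnd k X K⟩
        letI := Curv2.stalkAlgebra K (Curv2.bc k X K) xb
        Curv2.IsOrdDoublePt K ((Curv2.bc k X K).presheaf.stalk xb)) ↔
    (IsClosed ({y} : Set Y) ∧
      ∃ yb : ↥(pullback (π ≫ (X ↘ Spec (CommRingCat.of k)))
          (Spec.map (CommRingCat.ofHom (algebraMap k K)))),
        (pullback.fst (π ≫ (X ↘ Spec (CommRingCat.of k)))
          (Spec.map (CommRingCat.ofHom (algebraMap k K)))) yb = y ∧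
        @Curv2.IsOrdDoublePt K _ ((pullback (π ≫ (X ↘ Spec (CommRingCat.of k)))
          (Spec.map (CommRingCat.ofHom (algebraMap k K)))).presheaf.stalk yb) _
          (@Curv2.stalkAlgebra K _ (pullback (π ≫ (X ↘ Spec (CommRingCat.of k)))
            (Spec.map (CommRingCat.ofHom (algebraMap k K))))
            ⟨pullback.snd (π ≫ (X ↘ Spec (CommRingCat.of k)))
              (Spec.map (CommRingCat.ofHom (algebraMap k K)))⟩ yb) _) := by
  haveI : JacobsonSpace X := LocallyOfFiniteType.jacobsonSpace (X ↘ Spec (CommRingCat.of k))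
  letI ovXb : (Curv2.bc k X K).Over (Spec (CommRingCat.of K)) := ⟨Curv2.bcSnd k X K⟩
  letI ovYb : (pullback (π ≫ (X ↘ Spec (CommRingCat.of k)))
      (Spec.map (CommRingCat.ofHom (algebraMap k K)))).Over (Spec (CommRingCat.of K)) :=
    ⟨pullback.snd _ _⟩
  haveI : LocallyOfFiniteType (Curv2.bc k X K ↘ Spec (CommRingCat.of K)) :=
    inferInstanceAs (LocallyOfFiniteType (pullback.snd _ _))
  haveI : LocallyOfFiniteType (π ≫ (X ↘ Spec (CommRingCat.of k))) := inferInstance
  haveI : LocallyOfFiniteType ((pullback (π ≫ (X ↘ Spec (CommRingCat.of k)))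
      (Spec.map (CommRingCat.ofHom (algebraMap k K)))) ↘ Spec (CommRingCat.of K)) :=
    inferInstanceAs (LocallyOfFiniteType (pullback.snd _ _))
  have hg : pibar k X π K ≫ (Curv2.bc k X K ↘ Spec (CommRingCat.of K)) =
      ((pullback (π ≫ (X ↘ Spec (CommRingCat.of k)))
        (Spec.map (CommRingCat.ofHom (algebraMap k K)))) ↘ Spec (CommRingCat.of K)) :=
    pibar_snd k X π K
  haveI : IsIntegralHom (Spec.map (CommRingCat.ofHom (algebraMap k K))) := by
    rw [IsIntegralHom.SpecMap_iff]
    exact algebraMap_isIntegral_iff.mpr inferInstance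
  haveI : IsIntegralHom (pullback.fst (π ≫ (X ↘ Spec (CommRingCat.of k)))
      (Spec.map (CommRingCat.ofHom (algebraMap k K)))) := inferInstance
  have hcl := isClosed_singleton_iff_of_unramified π y
  constructor
  · rintro ⟨hc, xb, hxb, hodp⟩
    refine ⟨hcl.1 hc, ?_⟩
    obtain ⟨yb, hyb1, hyb2⟩ := exists_point k X π K y xb hxb
    subst hyb2
    have hybcl : IsClosed ({yb} : Set ↥(pullback (π ≫ (X ↘ Spec (CommRingCat.of k)))
        (Spec.map (CommRingCat.ofHom (algebraMap k K))))) :=
      isClosed_of_integral (pullback.fst (π ≫ (X ↘ Spec (CommRingCat.of k)))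
        (Spec.map (CommRingCat.ofHom (algebraMap k K)))) yb (by rw [hyb1]; exact hcl.1 hc)
    exact ⟨yb, hyb1, (isOrdDoublePt_iff_of_etale K (pibar k X π K) hg yb hybcl).1 hodp⟩
  · rintro ⟨hc, yb, hyb, hodp⟩
    refine ⟨hcl.2 hc, pibar k X π K yb, ?_, ?_⟩
    · rw [← Scheme.Hom.comp_apply, pibar_fst, Scheme.Hom.comp_apply]
      exact congrArg π hyb
    · have hybcl : IsClosed ({yb} : Set ↥(pullback (π ≫ (X ↘ Spec (CommRingCat.of k)))
          (Spec.map (CommRingCat.ofHom (algebraMap k K))))) :=
        isClosed_of_integral (pullback.fst (π ≫ (X ↘ Spec (CommRingCat.of k)))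
          (Spec.map (CommRingCat.ofHom (algebraMap k K)))) yb (by rw [hyb]; exact hc)
      exact (isOrdDoublePt_iff_of_etale K (pibar k X π K) hg yb hybcl).2 hodp

end BC

end Groth.Agent.Lib.NodeEtaleH3
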