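import Mathlib
import Groth.Prelude
import Groth.Agent.Lib.NodeEtale2_helper3

/-!
# Semilinear transfer of ordinary double points (helper3)

APPEND-ONLY once landed.
-/

set_option autoImplicit false
set_option linter.style.haveILetI false
universe u

open AlgebraicGeometry CategoryTheory CategoryTheory.Limits IsLocalRing

namespace Groth.Agent.Lib.NodeSemiH3

open Groth.Agent.Lib.FFTransferH3 Groth.Agent.Lib.NodeEtaleH3

section Alg

variable {K K' : Type u} [Field K] [Field K'] (τ : K ≃+* K')

/-- the isomorphism of power series rings induced by an isomorphism of coefficient fields. -/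
noncomputable def mvEquiv : MvPowerSeries (Fin 2) K ≃+* MvPowerSeries (Fin 2) K' :=
  RingEquiv.ofRingHom (MvPowerSeries.map (τ : K →+* K')) (MvPowerSeries.map (τ.symm : K' →+* K))
    (by ext p n; simp) (by ext p n; simp)

theorem mvEquiv_apply (p : MvPowerSeries (Fin 2) K) :
    mvEquiv τ p = MvPowerSeries.map (τ : K →+* K') p := rfl

/-- the node ideal `(xy)`. -/
noncomputable abbrev nodeIdeal (K : Type u) [Field K] : Ideal (MvPowerSeries (Fin 2) K) :=
  Ideal.span {(MvPowerSeries.X 0 * MvPowerSeries.X 1 : MvPowerSeries (Fin 2) K)}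

theorem nodeIdeal_map : nodeIdeal K' = (nodeIdeal K).map (mvEquiv τ : _ →+* _) := by
  rw [nodeIdeal, nodeIdeal, Ideal.map_span, Set.image_singleton]
  congr 2
  show _ = mvEquiv τ _
  rw [mvEquiv_apply, map_mul, MvPowerSeries.map_X, MvPowerSeries.map_X]

/-- the induced isomorphism of node algebras. -/
noncomputable def quotEquiv :
    (MvPowerSeries (Fin 2) K ⧸ nodeIdeal K) ≃+* (MvPowerSeries (Fin 2) K' ⧸ nodeIdeal K') :=
  Ideal.quotientEquiv _ _ (mvEquiv τ) (nodeIdeal_map τ)

theorem quotEquiv_mk_C (c : K) :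
    quotEquiv τ (Ideal.Quotient.mk _ (MvPowerSeries.C c)) =
      Ideal.Quotient.mk _ (MvPowerSeries.C (τ c)) := by
  unfold quotEquiv
  rw [Ideal.quotientEquiv_mk, mvEquiv_apply, MvPowerSeries.map_C]
  rfl

/-- change of coefficient field along an isomorphism. -/
theorem isOrdDoublePt_of_field_equiv (A : Type u) [CommRing A] [IsLocalRing A] [Algebra K A]
    [Algebra K' A] (h : ∀ c, algebraMap K A c = algebraMap K' A (τ c)) :
    Curv2.IsOrdDoublePt K A → Curv2.IsOrdDoublePt K' A := by
  rintro ⟨e, he⟩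
  refine ⟨e.trans (quotEquiv τ), fun c' => ?_⟩
  obtain ⟨c, rfl⟩ := τ.surjective c'
  rw [RingEquiv.trans_apply, ← h, he, quotEquiv_mk_C]

set_option maxHeartbeats 800000 in
/-- ordinary double points transfer along semilinear ring isomorphisms. -/
theorem isOrdDoublePt_of_ringEquiv (A A' : Type u) [CommRing A] [CommRing A']
    [IsNoetherianRing A] [IsNoetherianRing A'] [IsLocalRing A] [IsLocalRing A']
    [Algebra K A] [Algebra K' A'] (e : A ≃+* A')
    (he : ∀ c, e (algebraMap K A c) = algebraMap K' A' (τ c)) :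
    Curv2.IsOrdDoublePt K A → Curv2.IsOrdDoublePt K' A' := by
  intro h
  letI algAA' : Algebra A A' := (e : A →+* A').toAlgebra
  letI algK : Algebra K A' := ((algebraMap K' A').comp (τ : K →+* K')).toAlgebra
  haveI : IsScalarTower K A A' := IsScalarTower.of_algebraMap_eq (fun c => (he c).symm)
  haveI : IsLocalHom (algebraMap A A') := by
    show IsLocalHom (e : A →+* A')
    infer_instance
  have hsurj : Function.Surjective (Algebra.ofId A A') := e.surjective
  haveI : Module.Flat A A' := by
    let l : A' ≃ₗ[A] A :=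
      { e.symm.toAddEquiv with
        map_smul' := fun a b => by
          show e.symm (e a * b) = a * e.symm b
          rw [map_mul, RingEquiv.symm_apply_apply] }
    exact Module.Flat.of_linearEquiv l
  haveI : Algebra.FiniteType A A' := Algebra.FiniteType.of_surjective (Algebra.ofId A A') hsurj
  haveI : Algebra.FormallyUnramified A A' :=
    Algebra.FormallyUnramified.of_surjective (Algebra.ofId A A') hsurj
  have hres : ∀ b : A', ∃ a : A, b - algebraMap A A' a ∈ maximalIdeal A' := by
    intro b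
    refine ⟨e.symm b, ?_⟩
    have : algebraMap A A' (e.symm b) = b := e.apply_symm_apply b
    rw [this, sub_self]
    exact Ideal.zero_mem _
  have h1 : Curv2.IsOrdDoublePt K A' :=
    (isOrdDoublePt_iff K A A' (psi_bijective A A' hres)).1 h
  exact isOrdDoublePt_of_field_equiv τ A' (fun c => rfl) h1

end Alg

section Sch

variable (K K' : Type u) [Field K] [Field K'] {P Q : Scheme.{u}}
  [P.Over (Spec (CommRingCat.of K))] [Q.Over (Spec (CommRingCat.of K'))]

/-- semilinear compatibility of the structure maps of local rings. -/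
theorem stalkMap_semilinear (τ : K →+* K') (Φ : Q ⟶ P)
    (hΦ : Φ ≫ (P ↘ Spec (CommRingCat.of K)) =
      (Q ↘ Spec (CommRingCat.of K')) ≫ Spec.map (CommRingCat.ofHom τ)) (q : Q) (c : K) :
    (Φ.stalkMap q).hom (Curv2.stalkMap K P (Φ q) c) = Curv2.stalkMap K' Q q (τ c) := by
  simp only [Curv2.stalkMap, Coh.toGlobal, RingHom.comp_apply]
  have h1 := Scheme.Hom.germ_stalkMap_apply Φ ⊤ q trivial
    ((P ↘ Spec (CommRingCat.of K)).appTop.hom ((Scheme.ΓSpecIso (CommRingCat.of K)).inv.hom c))
  rw [h1]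
  congr 1
  have h2 : (Φ ≫ (P ↘ Spec (CommRingCat.of K))).appTop =
      ((Q ↘ Spec (CommRingCat.of K')) ≫ Spec.map (CommRingCat.ofHom τ)).appTop := by rw [hΦ]
  rw [Scheme.Hom.comp_appTop, Scheme.Hom.comp_appTop] at h2
  have h3 := congrArg (fun m => m.hom ((Scheme.ΓSpecIso (CommRingCat.of K)).inv.hom c)) h2
  simp only [CommRingCat.hom_comp, RingHom.comp_apply] at h3
  refine h3.trans ?_
  congr 1
  have h4 := Scheme.ΓSpecIso_inv_naturality (CommRingCat.ofHom τ)
  have h5 := congrArg (fun m => m.hom c) h4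
  simp only [CommRingCat.hom_comp, RingHom.comp_apply] at h5
  exact h5.symm

variable [LocallyOfFiniteType (P ↘ Spec (CommRingCat.of K))]
  [LocallyOfFiniteType (Q ↘ Spec (CommRingCat.of K'))]

/-- ordinary double points transfer along semilinear isomorphisms of schemes. -/
theorem isOrdDoublePt_of_iso (τ : K ≃+* K') (Φ : Q ⟶ P) [IsIso Φ]
    (hΦ : Φ ≫ (P ↘ Spec (CommRingCat.of K)) =
      (Q ↘ Spec (CommRingCat.of K')) ≫ Spec.map (CommRingCat.ofHom (τ : K →+* K'))) (q : Q) :
    @Curv2.IsOrdDoublePt K _ (P.presheaf.stalk (Φ q)) _ (Curv2.stalkAlgebra K P (Φ q)) _ →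
      @Curv2.IsOrdDoublePt K' _ (Q.presheaf.stalk q) _ (Curv2.stalkAlgebra K' Q q) _ := by
  letI algKA := Curv2.stalkAlgebra K P (Φ q)
  letI algKB := Curv2.stalkAlgebra K' Q q
  haveI : IsLocallyNoetherian P :=
    LocallyOfFiniteType.isLocallyNoetherian (P ↘ Spec (CommRingCat.of K))
  haveI : IsLocallyNoetherian Q :=
    LocallyOfFiniteType.isLocallyNoetherian (Q ↘ Spec (CommRingCat.of K'))
  let e : P.presheaf.stalk (Φ q) ≃+* Q.presheaf.stalk q :=
    (asIso (Φ.stalkMap q)).commRingCatIsoToRingEquiv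
  refine isOrdDoublePt_of_ringEquiv τ _ _ e (fun c => ?_)
  exact stalkMap_semilinear K K' (τ : K →+* K') Φ hΦ q c

end Sch

end Groth.Agent.Lib.NodeSemiH3
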