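import Mathlib
import Groth.Prelude
import Groth.Agent.Lib.NodeCrit1_helper3
import Groth.Agent.Lib.NodeSemi1_helper3

/-!
# Nodes and flat local extensions with trivial closed fibre, part 2: going up (helper3)

* `isOrdDoublePt_up` : let `A → A'` be a flat local homomorphism of Noetherian local rings with
  `𝔪_A A' = 𝔪_{A'}`, where `A'` is an algebra over an algebraically closed field `K` mapping
  isomorphically onto its residue field.  If the completion of `A` is
  `κ[[u, v]]/(a u² + b u v + c v²)` with nondegenerate quadratic form, then `A'` is an ordinary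
  double point over `K`.

APPEND-ONLY once landed.
-/

set_option autoImplicit false
universe u

namespace Groth.Agent.Lib.NodeCritH3

open IsLocalRing MvPowerSeries Groth.Agent.Lib.QuadNodeH3

section Up

variable (K : Type u) [Field K] [IsAlgClosed K]
  (A : Type u) [CommRing A] [IsLocalRing A] [IsNoetherianRing A]
  (A' : Type u) [CommRing A'] [IsLocalRing A'] [IsNoetherianRing A'] [Algebra K A']
  [Algebra A A'] [Module.Flat A A'] [IsLocalHom (algebraMap A A')]

set_option maxHeartbeats 1600000 in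
theorem isOrdDoublePt_up
    (hmap : (maximalIdeal A).map (algebraMap A A') = maximalIdeal A')
    (hK : Function.Bijective ((residue A').comp (algebraMap K A')))
    (a₀ b₀ c₀ : ResidueField A) (hdisc₀ : 4 * a₀ * c₀ - b₀ ^ 2 ≠ 0)
    (e₀ : AdicCompletion (maximalIdeal A) A ≃+*
      (MvPowerSeries (Fin 2) (ResidueField A) ⧸ Ideal.span
        {(C a₀ * X 0 ^ 2 + C b₀ * X 0 * X 1 + C c₀ * X 1 ^ 2 :
          MvPowerSeries (Fin 2) (ResidueField A))})) :
    Curv2.IsOrdDoublePt K A' := by
  classical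
  obtain ⟨hred, hcot, x, y, a, b, c, hx, hy, hgen, hdisc, hQ⟩ := ii_to_i A a₀ b₀ c₀ hdisc₀ e₀
  haveI := hred
  have h2 : (maximalIdeal A).spanFinrank = 2 := by
    rw [IsLocalRing.spanFinrank_maximalIdeal_eq_finrank_cotangentSpace, hcot]
  have hne : maximalIdeal A ≠ ⊥ := by
    intro h0
    rw [h0, Submodule.spanFinrank_bot] at h2
    omega
  obtain ⟨t, htm, ht2, htreg⟩ := exists_regular_not_mem_sq A hne
  -- notation
  obtain ⟨φ, hφ⟩ : ∃ φ : A →+* A', φ = algebraMap A A' := ⟨_, rfl⟩
  have hmem : ∀ (n : ℕ) (z : A), z ∈ maximalIdeal A ^ n → φ z ∈ maximalIdeal A' ^ n := by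
    intro n z hz
    rw [hφ]
    exact mem_pow_up hmap n z hz
  have hmem1 : ∀ z : A, z ∈ maximalIdeal A → φ z ∈ maximalIdeal A' := by
    intro z hz
    have := hmem 1 z (by rwa [pow_one])
    rwa [pow_one] at this
  -- the residue field of `A'`
  let τ : K ≃+* ResidueField A' := RingEquiv.ofBijective _ hK
  have hτ : ∀ c : K, τ c = residue A' (algebraMap K A' c) := fun c => rfl
  haveI : IsAlgClosed (ResidueField A') := IsAlgClosed.of_ringEquiv K (ResidueField A') τ
  have hsep' : Algebra.IsSeparable K (ResidueField A') := by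
    refine ⟨fun z => ?_⟩
    obtain ⟨c, rfl⟩ := hK.2 z
    exact isSeparable_algebraMap c
  -- transfer
  have htreg' : IsSMulRegular A' (φ t) := by rw [hφ]; exact regular_up t htreg
  have htm' : φ t ∈ maximalIdeal A' := hmem1 t htm
  have ht2' : φ t ∉ maximalIdeal A' ^ 2 := by rw [hφ]; exact not_mem_pow_up hmap 2 t ht2
  have h2' : (maximalIdeal A').spanFinrank = 2 := spanFinrank_up hmap h2 x y hgen
  have hcot' : Module.finrank (ResidueField A') (CotangentSpace A') = 2 := by
    rw [← IsLocalRing.spanFinrank_maximalIdeal_eq_finrank_cotangentSpace, h2']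
  have hgen' : Ideal.span {φ x, φ y} ⊔ maximalIdeal A' ^ 2 = maximalIdeal A' := by
    have := congrArg (Ideal.map φ) hgen
    rw [Ideal.map_sup, Ideal.map_span, Set.image_pair, Ideal.map_pow] at this
    rw [hφ] at this ⊢
    rw [hmap] at this
    exact this
  have hdisc' : residue A' (4 * φ a * φ c - φ b ^ 2) ≠ 0 := by
    have h1 : residue A' (4 * φ a * φ c - φ b ^ 2) =
        IsLocalRing.ResidueField.map (algebraMap A A') (residue A (4 * a * c - b ^ 2)) := by
      rw [IsLocalRing.ResidueField.map_residue]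
      congr 1
      rw [hφ]
      simp only [map_sub, map_mul, map_pow, map_ofNat]
    rw [h1]
    intro h0
    exact hdisc ((_root_.map_eq_zero _).1 h0)
  have hQ' : φ a * φ x ^ 2 + φ b * φ x * φ y + φ c * φ y ^ 2 ∈ maximalIdeal A' ^ 3 := by
    have := hmem 3 _ hQ
    rwa [map_add, map_add, map_mul, map_mul, map_mul, map_mul, map_pow, map_pow] at this
  obtain ⟨x', y', hx', hy', hgen'', hxy⟩ :=
    exists_split (φ x) (φ y) (φ a) (φ b) (φ c) (hmem1 x hx) (hmem1 y hy) hgen' hdisc' hQ'
  have hdisc'' : residue A' (4 * 0 * 0 - 1 ^ 2) ≠ 0 := by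
    rw [mul_zero, zero_sub, one_pow, map_neg, map_one]
    exact neg_ne_zero.2 one_ne_zero
  have hQ'' : (0 : A') * x' ^ 2 + 1 * x' * y' + 0 * y' ^ 2 ∈ maximalIdeal A' ^ 3 := by
    rw [zero_mul, zero_mul, zero_add, add_zero, one_mul]
    exact hxy
  obtain ⟨e, he⟩ := i_to_ii_reg K A' hsep' (φ t) htm' ht2' htreg' hcot' x' y' 0 1 0 hx' hy'
    hgen'' hdisc'' hQ''
  -- the ideal is `(X 0 * X 1)`
  have hJ : Ideal.span {(C (residue A' 0) * X 0 ^ 2 + C (residue A' 1) * X 0 * X 1 +
      C (residue A' 0) * X 1 ^ 2 : MvPowerSeries (Fin 2) (ResidueField A'))} =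
      Groth.Agent.Lib.NodeSemiH3.nodeIdeal (ResidueField A') := by
    unfold Groth.Agent.Lib.NodeSemiH3.nodeIdeal
    congr 2
    simp
  let e₁ : AdicCompletion (maximalIdeal A') A' ≃+*
      (MvPowerSeries (Fin 2) (ResidueField A') ⧸
        Groth.Agent.Lib.NodeSemiH3.nodeIdeal (ResidueField A')) :=
    e.trans (Ideal.quotEquivOfEq hJ)
  have he₁ : ∀ c : K, e₁ (algebraMap A' (AdicCompletion (maximalIdeal A') A')
      (algebraMap K A' c)) = Ideal.Quotient.mk _ (C (τ c)) := by
    intro c
    show Ideal.quotEquivOfEq hJ (e _) = _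
    rw [he c]
    rfl
  refine ⟨e₁.trans (Groth.Agent.Lib.NodeSemiH3.quotEquiv τ.symm), fun c => ?_⟩
  rw [RingEquiv.trans_apply, he₁, Groth.Agent.Lib.NodeSemiH3.quotEquiv_mk_C,
    RingEquiv.symm_apply_apply]

end Up

end Groth.Agent.Lib.NodeCritH3
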