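import Mathlib
import Groth.Prelude
import Groth.Agent.Lib.NodeCrit1_helper3
import Groth.Agent.Lib.Fitt2_helper8

/-!
# Nodes, part 3: the first Fitting ideal of the Kähler differentials of a node (helper3)

* `D_mem_pow_smul` : a derivation maps `I ^ (n + 1)` into `I ^ n • ⊤`.
* `fitt_kaehler_of_split` : let `B` be a Noetherian local `K`-algebra with `K ≃ B/𝔪`, with
  `𝔪 = (x, y)` minimally generated by two elements with `x y ∈ 𝔪³`, and with `Ω_{B/K}` finite.
  Then `Fitt₁(Ω_{B/K}) = 𝔪`.

APPEND-ONLY once landed.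
-/

set_option autoImplicit false
universe u

namespace Groth.Agent.Lib.NodeCritH3

open IsLocalRing

section Der

theorem D_mem_pow_smul {R S M : Type*} [CommRing R] [CommRing S] [Algebra R S] [AddCommGroup M]
    [Module R M] [Module S M] [IsScalarTower R S M] (D : Derivation R S M) (I : Ideal S) :
    ∀ (n : ℕ) (w : S), w ∈ I ^ (n + 1) → D w ∈ (I ^ n) • (⊤ : Submodule S M) := by
  intro n
  induction n with
  | zero =>
    intro w _
    rw [pow_zero, Ideal.one_eq_top, Submodule.top_smul]
    trivial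
  | succ n ih =>
    intro w hw
    rw [pow_succ] at hw
    refine Submodule.mul_induction_on hw ?_ ?_
    · intro u hu v hv
      rw [Derivation.leibniz]
      refine Submodule.add_mem _ ?_ ?_
      · exact Submodule.smul_mem_smul hu Submodule.mem_top
      · rw [pow_succ', Submodule.mul_smul]
        exact Submodule.smul_mem_smul hv (ih u hu)
    · intro a b ha hb
      rw [map_add]
      exact Submodule.add_mem _ ha hb

end Der

section Fitt

variable (K : Type u) [Field K] (B : Type u) [CommRing B] [IsLocalRing B] [IsNoetherianRing B]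
  [Algebra K B]

/-- The first Fitting ideal of a module with two generators is generated by the coefficients of
the relations. -/
theorem mem_fitt_one_of_rel {M : Type u} [AddCommGroup M] [Module B M] (m₁ m₂ : M)
    (hspan : Submodule.span B {m₁, m₂} = ⊤) (α β : B) (h : α • m₁ + β • m₂ = 0) :
    α ∈ Fitt.ideal B M 1 ∧ β ∈ Fitt.ideal B M 1 := by
  classical
  have hspan' : Submodule.span B (Set.range (![m₁, m₂] : Fin 2 → M)) = ⊤ := by
    rw [← hspan]
    congr 1
    ext z
    simp [eq_comm, or_comm]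
  rw [FittH8.fitt_eq_minorIdeal (![m₁, m₂] : Fin 2 → M) hspan' 1]
  have hrel : ∀ j : Fin (2 - 1), ∑ i, (fun _ : Fin (2 - 1) => (![α, β] : Fin 2 → B)) j i •
      (![m₁, m₂] : Fin 2 → M) i = 0 := by
    intro j
    rw [Fin.sum_univ_two]
    simpa using h
  constructor
  · apply Ideal.subset_span
    refine ⟨fun _ => ![α, β], fun _ => 0, hrel, ?_⟩
    show α = (Matrix.of fun (a b : Fin 1) => (![α, β] : Fin 2 → B) 0).det
    rw [Matrix.det_fin_one]
    rfl
  · apply Ideal.subset_span
    refine ⟨fun _ => ![α, β], fun _ => 1, hrel, ?_⟩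
    show β = (Matrix.of fun (a b : Fin 1) => (![α, β] : Fin 2 → B) 1).det
    rw [Matrix.det_fin_one]
    rfl

theorem fitt_one_le_of_rel {M : Type u} [AddCommGroup M] [Module B M] (m₁ m₂ : M)
    (hspan : Submodule.span B {m₁, m₂} = ⊤) (J : Ideal B)
    (h : ∀ α β : B, α • m₁ + β • m₂ = 0 → α ∈ J ∧ β ∈ J) :
    Fitt.ideal B M 1 ≤ J := by
  classical
  have hspan' : Submodule.span B (Set.range (![m₁, m₂] : Fin 2 → M)) = ⊤ := by
    rw [← hspan]
    congr 1
    ext z
    simp [eq_comm, or_comm]
  rw [FittH8.fitt_eq_minorIdeal (![m₁, m₂] : Fin 2 → M) hspan' 1]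
  apply Ideal.span_le.mpr
  rintro d ⟨z, e, hrel, rfl⟩
  have h0 := hrel (0 : Fin 1)
  rw [Fin.sum_univ_two] at h0
  have h1 := h (z (0 : Fin 1) 0) (z (0 : Fin 1) 1) (by simpa using h0)
  show (Matrix.of fun (a b : Fin 1) => z b (e a)).det ∈ J
  rw [Matrix.det_fin_one]
  show z (0 : Fin 1) (e (0 : Fin 1)) ∈ J
  obtain h2 | h2 : e (0 : Fin 1) = 0 ∨ e (0 : Fin 1) = 1 := by
    generalize e (0 : Fin 1) = i
    fin_cases i
    · left; rfl
    · right; rfl
  · rw [h2]; exact h1.1
  · rw [h2]; exact h1.2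

set_option maxHeartbeats 1600000 in
theorem fitt_kaehler_of_split [Module.Finite B Ω[B⁄K]]
    (hK : Function.Bijective ((residue B).comp (algebraMap K B)))
    (h2 : (maximalIdeal B).spanFinrank = 2)
    (x y : B) (hx : x ∈ maximalIdeal B) (hy : y ∈ maximalIdeal B)
    (hgen : Ideal.span {x, y} ⊔ maximalIdeal B ^ 2 = maximalIdeal B)
    (hxy : x * y ∈ maximalIdeal B ^ 3) :
    Fitt.ideal B Ω[B⁄K] 1 = maximalIdeal B := by
  classical
  have hspan0 : Ideal.span {x, y} = maximalIdeal B :=
    Groth.Agent.Lib.QuadNodeH3.span_pair_eq_of_sup hx hy hgen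
  have hsq_le : maximalIdeal B ^ 2 ≤ maximalIdeal B := Ideal.pow_le_self two_ne_zero
  -- the retraction
  let ρ : K ≃+* ResidueField B := RingEquiv.ofBijective _ hK
  have hρ : ∀ c, ρ c = residue B (algebraMap K B c) := fun c => rfl
  let πhom : B →+* K := (ρ.symm : ResidueField B →+* K).comp (residue B)
  have hπ1 : ∀ a : B, a - algebraMap K B (πhom a) ∈ maximalIdeal B := by
    intro a
    rw [← Ideal.Quotient.eq_zero_iff_mem]
    show residue B (a - algebraMap K B (πhom a)) = 0
    rw [map_sub, ← hρ]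
    show residue B a - ρ (ρ.symm (residue B a)) = 0
    rw [ρ.apply_symm_apply, sub_self]
  have hπ2 : ∀ c : K, πhom (algebraMap K B c) = c := by
    intro c
    show ρ.symm (residue B (algebraMap K B c)) = c
    rw [← hρ, ρ.symm_apply_apply]
  have hπ3 : ∀ z ∈ maximalIdeal B, πhom z = 0 := by
    intro z hz
    show ρ.symm (residue B z) = 0
    rw [(residue_eq_zero_iff z).2 hz, map_zero]
  -- the square zero extension
  obtain ⟨J, hJ⟩ : ∃ J : Ideal B, J = maximalIdeal B ^ 2 := ⟨_, rfl⟩
  let I : Ideal (B ⧸ J) := (maximalIdeal B).map (Ideal.Quotient.mk J)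
  have hI : I ^ 2 = ⊥ := by
    show ((maximalIdeal B).map (Ideal.Quotient.mk J)) ^ 2 = ⊥
    rw [← Ideal.map_pow, ← hJ, Ideal.map_quotient_self]
  let f : B →ₐ[K] (B ⧸ J) :=
    { toRingHom := (algebraMap K (B ⧸ J)).comp πhom
      commutes' := fun c => by
        show algebraMap K (B ⧸ J) (πhom (algebraMap K B c)) = algebraMap K (B ⧸ J) c
        rw [hπ2] }
  have hf : ∀ a : B, f a = Ideal.Quotient.mk J (algebraMap K B (πhom a)) := fun a => rfl
  have e : (Ideal.Quotient.mkₐ K I).comp f = IsScalarTower.toAlgHom K B ((B ⧸ J) ⧸ I) := by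
    ext a
    show Ideal.Quotient.mk I (f a) = Ideal.Quotient.mk I (Ideal.Quotient.mk J a)
    rw [Ideal.Quotient.eq, hf, ← map_sub]
    apply Ideal.mem_map_of_mem
    have := hπ1 a
    rw [← neg_sub]
    exact neg_mem this
  let D' : Derivation K B I := derivationToSquareZeroOfLift I hI f e
  have hD' : ∀ z ∈ maximalIdeal B, ((D' z : I) : B ⧸ J) = - Ideal.Quotient.mk J z := by
    intro z hz
    have h1 : ((D' z : I) : B ⧸ J) = f z - algebraMap B (B ⧸ J) z :=
      derivationToSquareZeroOfLift_apply I hI f e z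
    rw [h1, hf, hπ3 z hz, map_zero, map_zero, zero_sub]
    rfl
  -- notation
  obtain ⟨dx, hdx⟩ : ∃ dx, dx = KaehlerDifferential.D K B x := ⟨_, rfl⟩
  obtain ⟨dy, hdy⟩ : ∃ dy, dy = KaehlerDifferential.D K B y := ⟨_, rfl⟩
  -- independence
  have hind : ∀ α β : B, α • dx + β • dy = 0 → α ∈ maximalIdeal B ∧ β ∈ maximalIdeal B := by
    intro α β h
    have h1 := congrArg D'.liftKaehlerDifferential h
    rw [map_add, map_smul, map_smul, map_zero, hdx, hdy,
      Derivation.liftKaehlerDifferential_comp_D, Derivation.liftKaehlerDifferential_comp_D] at h1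
    have h3 : Ideal.Quotient.mk J α * ((D' x : I) : B ⧸ J) +
        Ideal.Quotient.mk J β * ((D' y : I) : B ⧸ J) = 0 := by
      have h4 := congrArg (fun w : I => (w : B ⧸ J)) h1
      simpa [Algebra.smul_def] using h4
    rw [hD' x hx, hD' y hy] at h3
    have h5 : α * x + β * y ∈ J := by
      rw [← Ideal.Quotient.eq_zero_iff_mem, map_add, map_mul, map_mul]
      linear_combination (-1 : B ⧸ J) * h3
    rw [hJ] at h5
    exact indep_of_spanFinrank h2 x y hgen α β h5
  -- spanning
  have hspan : Submodule.span B {dx, dy} = ⊤ := by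
    rw [eq_top_iff]
    apply Submodule.le_of_le_smul_of_le_jacobson_bot (I := maximalIdeal B)
      (Module.Finite.fg_top)
      (by rw [IsLocalRing.jacobson_eq_maximalIdeal ⊥ bot_ne_top])
    intro m _
    have hm : m ∈ Submodule.span B (Set.range (KaehlerDifferential.D K B)) := by
      rw [KaehlerDifferential.span_range_derivation]; trivial
    refine Submodule.span_le.2 ?_ hm
    rintro _ ⟨a, rfl⟩
    have hz := hπ1 a
    rw [← hspan0] at hz
    obtain ⟨p, q, hpq⟩ := Ideal.mem_span_pair.1 hz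
    have ha : a = algebraMap K B (πhom a) + (p * x + q * y) := by
      rw [hpq]; ring
    have hDa : KaehlerDifferential.D K B a =
        (p • dx + q • dy) + (x • KaehlerDifferential.D K B p + y • KaehlerDifferential.D K B q) := by
      conv_lhs => rw [ha]
      rw [map_add, Derivation.map_algebraMap, zero_add, map_add, Derivation.leibniz,
        Derivation.leibniz, hdx, hdy]
      abel
    rw [SetLike.mem_coe, hDa]
    refine Submodule.add_mem _ (Submodule.mem_sup_left ?_) (Submodule.mem_sup_right ?_)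
    · exact Submodule.add_mem _
        (Submodule.smul_mem _ _ (Submodule.subset_span (by simp)))
        (Submodule.smul_mem _ _ (Submodule.subset_span (by simp)))
    · exact Submodule.add_mem _ (Submodule.smul_mem_smul hx Submodule.mem_top)
        (Submodule.smul_mem_smul hy Submodule.mem_top)
  -- the relation
  have hDw : KaehlerDifferential.D K B (x * y) ∈
      (maximalIdeal B ^ 2) • (⊤ : Submodule B Ω[B⁄K]) :=
    D_mem_pow_smul (KaehlerDifferential.D K B) (maximalIdeal B) 2 (x * y) hxy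
  have hmem : ∀ m ∈ (maximalIdeal B ^ 2) • (⊤ : Submodule B Ω[B⁄K]),
      ∃ γ ∈ maximalIdeal B ^ 2, ∃ δ ∈ maximalIdeal B ^ 2, m = γ • dx + δ • dy := by
    intro m hm
    refine Submodule.smul_induction_on hm ?_ ?_
    · intro r hr n _
      have hn : n ∈ Submodule.span B {dx, dy} := by rw [hspan]; trivial
      obtain ⟨p, q, rfl⟩ := Submodule.mem_span_pair.1 hn
      refine ⟨r * p, Ideal.mul_mem_right _ _ hr, r * q, Ideal.mul_mem_right _ _ hr, ?_⟩
      rw [smul_add, smul_smul, smul_smul]
    · rintro m₁ m₂ ⟨γ₁, hγ₁, δ₁, hδ₁, rfl⟩ ⟨γ₂, hγ₂, δ₂, hδ₂, rfl⟩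
      refine ⟨γ₁ + γ₂, add_mem hγ₁ hγ₂, δ₁ + δ₂, add_mem hδ₁ hδ₂, ?_⟩
      rw [add_smul, add_smul]; abel
  obtain ⟨γ, hγ, δ, hδ, hrel⟩ := hmem _ hDw
  rw [Derivation.leibniz, ← hdx, ← hdy] at hrel
  have hrel' : (y - γ) • dx + (x - δ) • dy = 0 := by
    rw [sub_smul, sub_smul]
    have h0 := sub_eq_zero.2 hrel
    rw [← h0]; abel
  obtain ⟨h1, h2'⟩ := mem_fitt_one_of_rel B dx dy hspan (y - γ) (x - δ) hrel'
  apply le_antisymm
  · exact fitt_one_le_of_rel B dx dy hspan _ hind
  · have hym : y - γ ∈ maximalIdeal B := sub_mem hy (hsq_le hγ)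
    have hxm : x - δ ∈ maximalIdeal B := sub_mem hx (hsq_le hδ)
    have hgen' : Ideal.span {y - γ, x - δ} ⊔ maximalIdeal B ^ 2 = maximalIdeal B := by
      apply le_antisymm
      · refine sup_le ?_ hsq_le
        rw [Ideal.span_le]
        rintro z (rfl | rfl)
        · exact hym
        · exact hxm
      · refine hgen.symm.le.trans (sup_le ?_ le_sup_right)
        rw [Ideal.span_le]
        rintro z (hz | hz)
        · have e1 : z = (x - δ) + δ := by rw [hz]; ring
          rw [SetLike.mem_coe, e1]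
          exact add_mem (Ideal.mem_sup_left (Ideal.subset_span (by simp)))
            (Ideal.mem_sup_right hδ)
        · have hz' : z = y := hz
          have e1 : z = (y - γ) + γ := by rw [hz']; ring
          rw [SetLike.mem_coe, e1]
          exact add_mem (Ideal.mem_sup_left (Ideal.subset_span (by simp)))
            (Ideal.mem_sup_right hγ)
    rw [← Groth.Agent.Lib.QuadNodeH3.span_pair_eq_of_sup hym hxm hgen', Ideal.span_le]
    rintro z (rfl | rfl)
    · exact h1
    · exact h2'

end Fitt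

end Groth.Agent.Lib.NodeCritH3
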