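import Mathlib
import Groth.Agent.Lib.NodeCrit1_helper3

/-!
# Nodes, part 4: descent of the quadratic relation along a flat local homomorphism (helper3)

Let `A → A'` be a flat local homomorphism of Noetherian local rings with `𝔪_A A' = 𝔪_{A'}`.
If `𝔪_{A'}` is minimally generated by two elements `x', y'` with `x' y' ∈ 𝔪_{A'}³`, then `𝔪_A`
is minimally generated by two elements `x, y` satisfying a nondegenerate quadratic relation modulo
`𝔪_A³` (`node_descend`).

APPEND-ONLY once landed.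
-/

set_option autoImplicit false
universe u

namespace Groth.Agent.Lib.NodeCritH3

open IsLocalRing

section Sum

theorem sum_mem_of_symm {R : Type*} [CommRing R] (𝔞 : Ideal R) :
    ∀ (n : ℕ) (m : Fin n → Fin n → R) (y : Fin n → R), (∀ j, m j j ∈ 𝔞) →
      (∀ j l, m j l + m l j ∈ 𝔞) → ∑ j, ∑ l, y j * y l * m j l ∈ 𝔞 := by
  intro n
  induction n with
  | zero => intro m y _ _; simp
  | succ n ih =>
    intro m y hd hs
    have ih' := ih (fun j l => m j.succ l.succ) (fun j => y j.succ) (fun j => hd _)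
      (fun j l => hs _ _)
    have e : ∑ j, ∑ l, y j * y l * m j l =
        y 0 * y 0 * m 0 0 + ∑ l : Fin n, y 0 * y l.succ * (m 0 l.succ + m l.succ 0) +
          ∑ j : Fin n, ∑ l : Fin n, y j.succ * y l.succ * m j.succ l.succ := by
      rw [Fin.sum_univ_succ, Fin.sum_univ_succ]
      have e1 : ∑ j : Fin n, ∑ l : Fin (n + 1), y j.succ * y l * m j.succ l =
          ∑ j : Fin n, y 0 * y j.succ * m j.succ 0 +
            ∑ j : Fin n, ∑ l : Fin n, y j.succ * y l.succ * m j.succ l.succ := by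
        rw [← Finset.sum_add_distrib]
        refine Finset.sum_congr rfl (fun j _ => ?_)
        rw [Fin.sum_univ_succ]
        ring
      rw [e1]
      have e2 : ∑ l : Fin n, y 0 * y l.succ * (m 0 l.succ + m l.succ 0) =
          ∑ l : Fin n, y 0 * y l.succ * m 0 l.succ + ∑ l : Fin n, y 0 * y l.succ * m l.succ 0 := by
        rw [← Finset.sum_add_distrib]
        refine Finset.sum_congr rfl (fun l _ => ?_)
        ring
      rw [e2]
      ring
    rw [e]
    exact add_mem (add_mem (Ideal.mul_mem_left _ _ (hd 0))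
      (Ideal.sum_mem _ (fun l _ => Ideal.mul_mem_left _ _ (hs _ _)))) ih'

end Sum

section Gen

variable {B : Type u} [CommRing B] [IsLocalRing B] [IsNoetherianRing B]

/-- Two elements of `𝔫`, independent modulo `𝔫²`, generate `𝔫` in embedding dimension two. -/
theorem span_pair_of_indep (h2 : (maximalIdeal B).spanFinrank = 2) (x' y' : B)
    (hx' : x' ∈ maximalIdeal B) (hy' : y' ∈ maximalIdeal B)
    (hgen' : Ideal.span {x', y'} ⊔ maximalIdeal B ^ 2 = maximalIdeal B)
    (u v : B) (hu : u ∈ maximalIdeal B) (hv : v ∈ maximalIdeal B)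
    (hu2 : u ∉ maximalIdeal B ^ 2)
    (hv2 : v ∉ Ideal.span {u} ⊔ maximalIdeal B ^ 2) :
    Ideal.span {u, v} = maximalIdeal B := by
  classical
  have hspan : Ideal.span {x', y'} = maximalIdeal B :=
    Groth.Agent.Lib.QuadNodeH3.span_pair_eq_of_sup hx' hy' hgen'
  have hu' := hu
  have hv' := hv
  rw [← hspan] at hu' hv'
  obtain ⟨α, β, hueq⟩ := Ideal.mem_span_pair.1 hu'
  obtain ⟨γ, δ, hveq⟩ := Ideal.mem_span_pair.1 hv'
  by_cases hΔ : IsUnit (α * δ - β * γ)
  · obtain ⟨w, hw⟩ := hΔ.exists_left_inv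
    apply le_antisymm
    · rw [Ideal.span_le]
      rintro z (rfl | rfl)
      · exact hu
      · exact hv
    · rw [← hspan, Ideal.span_le]
      rintro z (hz | hz)
      · have hz' : z = x' := hz
        rw [hz']
        refine Ideal.mem_span_pair.2 ⟨w * δ, -(w * β), ?_⟩
        linear_combination (x') * hw + (-(w * δ)) * hueq + (w * β) * hveq
      · have hz' : z = y' := hz
        rw [hz']
        refine Ideal.mem_span_pair.2 ⟨-(w * γ), w * α, ?_⟩
        linear_combination (y') * hw + (w * γ) * hueq + (-(w * α)) * hveq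
  · exfalso
    have hΔm : α * δ - β * γ ∈ maximalIdeal B := (IsLocalRing.mem_maximalIdeal _).2 hΔ
    have h1 : δ * u - β * v ∈ maximalIdeal B ^ 2 := by
      have e1 : δ * u - β * v = (α * δ - β * γ) * x' := by
        rw [← hueq, ← hveq]; ring
      rw [e1, pow_two]
      exact Ideal.mul_mem_mul hΔm hx'
    have h3 : α * v - γ * u ∈ maximalIdeal B ^ 2 := by
      have e1 : α * v - γ * u = (α * δ - β * γ) * y' := by
        rw [← hueq, ← hveq]; ring
      rw [e1, pow_two]
      exact Ideal.mul_mem_mul hΔm hy'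
    have hα : α ∈ maximalIdeal B := by
      by_contra hα
      have hαu : IsUnit α := by
        by_contra hnu; exact hα ((IsLocalRing.mem_maximalIdeal _).2 hnu)
      obtain ⟨w, hw⟩ := hαu.exists_left_inv
      apply hv2
      have e1 : v = (w * γ) * u + w * (α * v - γ * u) := by
        linear_combination (-v) * hw
      rw [e1]
      exact add_mem (Ideal.mem_sup_left (Ideal.mem_span_singleton'.2 ⟨_, rfl⟩))
        (Ideal.mem_sup_right (Ideal.mul_mem_left _ _ h3))
    have hβ : β ∈ maximalIdeal B := by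
      by_contra hβ
      have hβu : IsUnit β := by
        by_contra hnu; exact hβ ((IsLocalRing.mem_maximalIdeal _).2 hnu)
      obtain ⟨w, hw⟩ := hβu.exists_left_inv
      apply hv2
      have e1 : v = (w * δ) * u + (-w) * (δ * u - β * v) := by
        linear_combination (-v) * hw
      rw [e1]
      exact add_mem (Ideal.mem_sup_left (Ideal.mem_span_singleton'.2 ⟨_, rfl⟩))
        (Ideal.mem_sup_right (Ideal.mul_mem_left _ _ h1))
    apply hu2
    rw [← hueq, pow_two]
    exact add_mem (Ideal.mul_mem_mul hα hx') (Ideal.mul_mem_mul hβ hy')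

/-- The change of basis between two systems of generators of `𝔫` modulo `𝔫²` is invertible. -/
theorem det_not_mem_of_span (h2 : (maximalIdeal B).spanFinrank = 2) (x' y' : B)
    (hgen' : Ideal.span {x', y'} ⊔ maximalIdeal B ^ 2 = maximalIdeal B)
    (u v p q r s : B) (hu : u ∈ maximalIdeal B) (hv : v ∈ maximalIdeal B)
    (hx'eq : p * u + q * v = x') (hy'eq : r * u + s * v = y') :
    p * s - q * r ∉ maximalIdeal B := by
  intro hΔ
  have h1 : s * x' + (-q) * y' ∈ maximalIdeal B ^ 2 := by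
    have e1 : s * x' + (-q) * y' = (p * s - q * r) * u := by
      rw [← hx'eq, ← hy'eq]; ring
    rw [e1, pow_two]
    exact Ideal.mul_mem_mul hΔ hu
  have h3 : (-r) * x' + p * y' ∈ maximalIdeal B ^ 2 := by
    have e1 : (-r) * x' + p * y' = (p * s - q * r) * v := by
      rw [← hx'eq, ← hy'eq]; ring
    rw [e1, pow_two]
    exact Ideal.mul_mem_mul hΔ hv
  obtain ⟨hs, hq⟩ := indep_of_spanFinrank h2 x' y' hgen' s (-q) h1
  obtain ⟨hr, hp⟩ := indep_of_spanFinrank h2 x' y' hgen' (-r) p h3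
  have hq' : q ∈ maximalIdeal B := by
    have := neg_mem hq
    rwa [neg_neg] at this
  have hx2 : (1 : B) * x' + 0 * y' ∈ maximalIdeal B ^ 2 := by
    rw [one_mul, zero_mul, add_zero, ← hx'eq, pow_two]
    exact add_mem (Ideal.mul_mem_mul hp hu) (Ideal.mul_mem_mul hq' hv)
  obtain ⟨h1m, -⟩ := indep_of_spanFinrank h2 x' y' hgen' 1 0 hx2
  exact (Ideal.ne_top_iff_one _).1 (Ideal.IsPrime.ne_top') h1m

end Gen

section Descend

variable {A : Type u} [CommRing A] [IsLocalRing A] [IsNoetherianRing A]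
  {A' : Type u} [CommRing A'] [IsLocalRing A'] [IsNoetherianRing A']
  [Algebra A A'] [Module.Flat A A'] [IsLocalHom (algebraMap A A')]

set_option maxHeartbeats 1600000 in
/-- Descent of a nondegenerate quadratic relation. -/
theorem exists_quad_descend
    (hmap : (maximalIdeal A).map (algebraMap A A') = maximalIdeal A') (x y : A) (P Q R : A')
    (hrel : P * algebraMap A A' x ^ 2 + Q * (algebraMap A A' x * algebraMap A A' y) +
      R * algebraMap A A' y ^ 2 ∈ maximalIdeal A' ^ 3)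
    (hdisc : Q ^ 2 - 4 * P * R ∉ maximalIdeal A') :
    ∃ a b c : A, a * x ^ 2 + b * x * y + c * y ^ 2 ∈ maximalIdeal A ^ 3 ∧
      b ^ 2 - 4 * a * c ∉ maximalIdeal A := by
  classical
  by_contra hcon
  push_neg at hcon
  obtain ⟨φ, hφ⟩ : ∃ φ : A →+* A', φ = algebraMap A A' := ⟨_, rfl⟩
  rw [← hφ] at hrel
  have hφm : ∀ z ∈ maximalIdeal A, φ z ∈ maximalIdeal A' := by
    intro z hz
    rw [← hmap, hφ]
    exact Ideal.mem_map_of_mem _ hz
  have h1 : ∑ i : Fin 3, (![x ^ 2, x * y, y ^ 2] : Fin 3 → A) i • (![P, Q, R] : Fin 3 → A') i ∈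
      (maximalIdeal A ^ 3) • (⊤ : Submodule A A') := by
    rw [Ideal.smul_top_eq_map, Submodule.restrictScalars_mem, Ideal.map_pow, hmap,
      Fin.sum_univ_three]
    show (x ^ 2) • P + (x * y) • Q + (y ^ 2) • R ∈ maximalIdeal A' ^ 3
    rw [Algebra.smul_def, Algebra.smul_def, Algebra.smul_def, ← hφ]
    have e1 : φ (x ^ 2) * P + φ (x * y) * Q + φ (y ^ 2) * R =
        P * φ x ^ 2 + Q * (φ x * φ y) + R * φ y ^ 2 := by
      rw [map_pow, map_mul, map_pow]; ring
    rw [e1]
    exact hrel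
  obtain ⟨k, a, yy, hα, hW⟩ := exists_factor_of_sum_mem (maximalIdeal A ^ 3)
    (![x ^ 2, x * y, y ^ 2] : Fin 3 → A) (![P, Q, R] : Fin 3 → A') h1
  have hP : P = ∑ j, φ (a 0 j) * yy j := by
    have h := hα 0
    change P = _ at h
    rw [h]
    refine Finset.sum_congr rfl (fun j _ => ?_)
    rw [Algebra.smul_def, hφ]
  have hQ : Q = ∑ j, φ (a 1 j) * yy j := by
    have h := hα 1
    change Q = _ at h
    rw [h]
    refine Finset.sum_congr rfl (fun j _ => ?_)
    rw [Algebra.smul_def, hφ]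
  have hR : R = ∑ j, φ (a 2 j) * yy j := by
    have h := hα 2
    change R = _ at h
    rw [h]
    refine Finset.sum_congr rfl (fun j _ => ?_)
    rw [Algebra.smul_def, hφ]
  have hform : ∀ j, a 0 j * x ^ 2 + a 1 j * x * y + a 2 j * y ^ 2 ∈ maximalIdeal A ^ 3 := by
    intro j
    have := hW j
    rw [Fin.sum_univ_three] at this
    have this' : x ^ 2 * a 0 j + x * y * a 1 j + y ^ 2 * a 2 j ∈ maximalIdeal A ^ 3 := this
    have e1 : a 0 j * x ^ 2 + a 1 j * x * y + a 2 j * y ^ 2 =
        x ^ 2 * a 0 j + x * y * a 1 j + y ^ 2 * a 2 j := by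
      ring
    rw [e1]
    exact this'
  -- the bilinear form
  obtain ⟨m, hm⟩ : ∃ m : Fin k → Fin k → A, m = fun j l => a 1 j * a 1 l - 4 * a 0 j * a 2 l :=
    ⟨_, rfl⟩
  have hd : ∀ j, m j j ∈ maximalIdeal A := by
    intro j
    have := hcon (a 0 j) (a 1 j) (a 2 j) (hform j)
    rw [hm]
    show a 1 j * a 1 j - 4 * a 0 j * a 2 j ∈ maximalIdeal A
    rwa [← pow_two]
  have hs : ∀ j l, m j l + m l j ∈ maximalIdeal A := by
    intro j l
    have h3 : (a 0 j + a 0 l) * x ^ 2 + (a 1 j + a 1 l) * x * y + (a 2 j + a 2 l) * y ^ 2 ∈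
        maximalIdeal A ^ 3 := by
      have := add_mem (hform j) (hform l)
      have e1 : (a 0 j + a 0 l) * x ^ 2 + (a 1 j + a 1 l) * x * y + (a 2 j + a 2 l) * y ^ 2 =
          (a 0 j * x ^ 2 + a 1 j * x * y + a 2 j * y ^ 2) +
            (a 0 l * x ^ 2 + a 1 l * x * y + a 2 l * y ^ 2) := by ring
      rw [e1]; exact this
    have h4 := hcon _ _ _ h3
    have e2 : m j l + m l j = ((a 1 j + a 1 l) ^ 2 - 4 * (a 0 j + a 0 l) * (a 2 j + a 2 l)) -
        m j j - m l l := by
      rw [hm]; ring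
    rw [e2]
    exact sub_mem (sub_mem h4 (hd j)) (hd l)
  have hsum := sum_mem_of_symm (maximalIdeal A') k (fun j l => φ (m j l)) yy
    (fun j => hφm _ (hd j)) (fun j l => by
      show φ (m j l) + φ (m l j) ∈ maximalIdeal A'
      rw [← map_add]; exact hφm _ (hs j l))
  apply hdisc
  have e : Q ^ 2 - 4 * P * R = ∑ j, ∑ l, yy j * yy l * φ (m j l) := by
    rw [hP, hQ, hR, pow_two, Finset.sum_mul_sum, mul_assoc, Finset.sum_mul_sum, Finset.mul_sum,
      ← Finset.sum_sub_distrib]
    refine Finset.sum_congr rfl (fun j _ => ?_)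
    rw [Finset.mul_sum, ← Finset.sum_sub_distrib]
    refine Finset.sum_congr rfl (fun l _ => ?_)
    rw [hm]
    simp only [map_sub, map_mul, map_ofNat]
    ring
  rw [e]
  exact hsum

set_option maxHeartbeats 1600000 in
/-- Descent of the node data along a flat local homomorphism with trivial closed fibre. -/
theorem node_descend
    (hmap : (maximalIdeal A).map (algebraMap A A') = maximalIdeal A')
    (h2' : (maximalIdeal A').spanFinrank = 2) (x' y' : A')
    (hx' : x' ∈ maximalIdeal A') (hy' : y' ∈ maximalIdeal A')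
    (hgen' : Ideal.span {x', y'} ⊔ maximalIdeal A' ^ 2 = maximalIdeal A')
    (hxy : x' * y' ∈ maximalIdeal A' ^ 3) :
    (maximalIdeal A).spanFinrank = 2 ∧
      ∃ x y a b c : A, x ∈ maximalIdeal A ∧ y ∈ maximalIdeal A ∧
        Ideal.span {x, y} ⊔ maximalIdeal A ^ 2 = maximalIdeal A ∧
        residue A (4 * a * c - b ^ 2) ≠ 0 ∧
        a * x ^ 2 + b * x * y + c * y ^ 2 ∈ maximalIdeal A ^ 3 := by
  classical
  haveI : Module.FaithfullyFlat A A' := Module.FaithfullyFlat.of_flat_of_isLocalHom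
  obtain ⟨φ, hφ⟩ : ∃ φ : A →+* A', φ = algebraMap A A' := ⟨_, rfl⟩
  have hfg : (maximalIdeal A).FG := IsNoetherian.noetherian _
  have hφm : ∀ z ∈ maximalIdeal A, φ z ∈ maximalIdeal A' := by
    intro z hz
    rw [← hmap, hφ]
    exact Ideal.mem_map_of_mem _ hz
  have hx'2 : x' ∉ maximalIdeal A' ^ 2 := by
    intro h
    have hx2 : (1 : A') * x' + 0 * y' ∈ maximalIdeal A' ^ 2 := by
      rwa [one_mul, zero_mul, add_zero]
    obtain ⟨h1m, -⟩ := indep_of_spanFinrank h2' x' y' hgen' 1 0 hx2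
    exact (Ideal.ne_top_iff_one _).1 (Ideal.IsPrime.ne_top') h1m
  -- step 1
  obtain ⟨x, hx, hx2⟩ : ∃ x ∈ maximalIdeal A, φ x ∉ maximalIdeal A' ^ 2 := by
    by_contra h
    push_neg at h
    have h1 : (maximalIdeal A).map φ ≤ maximalIdeal A' ^ 2 :=
      Ideal.map_le_iff_le_comap.2 (fun z hz => h z hz)
    rw [hφ, hmap] at h1
    exact hx'2 (h1 hx')
  -- step 2
  obtain ⟨y, hy, hy2⟩ : ∃ y ∈ maximalIdeal A, φ y ∉ Ideal.span {φ x} ⊔ maximalIdeal A' ^ 2 := by
    by_contra h
    push_neg at h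
    have h1 : (maximalIdeal A).map φ ≤ Ideal.span {φ x} ⊔ maximalIdeal A' ^ 2 :=
      Ideal.map_le_iff_le_comap.2 (fun z hz => h z hz)
    rw [hφ, hmap, ← hφ] at h1
    obtain ⟨s1, hs1, n1, hn1, e1⟩ := Submodule.mem_sup.1 (h1 hx')
    obtain ⟨s2, hs2, n2, hn2, e2⟩ := Submodule.mem_sup.1 (h1 hy')
    obtain ⟨a1, rfl⟩ := Ideal.mem_span_singleton'.1 hs1
    obtain ⟨a2, rfl⟩ := Ideal.mem_span_singleton'.1 hs2
    have h3 : a2 * x' + (-a1) * y' ∈ maximalIdeal A' ^ 2 := by
      have e3 : a2 * x' + (-a1) * y' = a2 * n1 - a1 * n2 := by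
        rw [← e1, ← e2]; ring
      rw [e3]
      exact sub_mem (Ideal.mul_mem_left _ _ hn1) (Ideal.mul_mem_left _ _ hn2)
    obtain ⟨-, ha1⟩ := indep_of_spanFinrank h2' x' y' hgen' a2 (-a1) h3
    have ha1' : a1 ∈ maximalIdeal A' := by
      have := neg_mem ha1
      rwa [neg_neg] at this
    apply hx'2
    rw [← e1]
    refine add_mem ?_ hn1
    rw [pow_two]
    exact Ideal.mul_mem_mul ha1' (hφm x hx)
  -- step 3
  have hspan' : Ideal.span {φ x, φ y} = maximalIdeal A' :=
    span_pair_of_indep h2' x' y' hx' hy' hgen' (φ x) (φ y) (hφm x hx) (hφm y hy) hx2 hy2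
  -- step 4
  have hspan : Ideal.span {x, y} = maximalIdeal A := by
    have h1 : (Ideal.span {x, y}).map (algebraMap A A') =
        (maximalIdeal A).map (algebraMap A A') := by
      rw [Ideal.map_span, Set.image_pair, hmap, ← hφ]
      exact hspan'
    have h3 := congrArg (Ideal.comap (algebraMap A A')) h1
    rwa [Ideal.comap_map_eq_self_of_faithfullyFlat,
      Ideal.comap_map_eq_self_of_faithfullyFlat] at h3
  have hgen : Ideal.span {x, y} ⊔ maximalIdeal A ^ 2 = maximalIdeal A := by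
    rw [hspan]
    exact sup_eq_left.2 (Ideal.pow_le_self two_ne_zero)
  have hrank : (maximalIdeal A).spanFinrank = 2 := by
    apply le_antisymm
    · have h1 : (Ideal.span {x, y} : Ideal A).spanFinrank ≤ ({x, y} : Set A).ncard :=
        Submodule.spanFinrank_span_le_ncard_of_finite (Set.toFinite _)
      rw [hspan] at h1
      refine h1.trans ?_
      refine (Set.ncard_insert_le x {y}).trans ?_
      rw [Set.ncard_singleton]
    · have h1 := Ideal.spanFinrank_map_le_of_fg (algebraMap A A') hfg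
      rwa [hmap, h2'] at h1
  refine ⟨hrank, ?_⟩
  -- step 5
  have hx'' := hx'
  have hy'' := hy'
  rw [← hspan'] at hx'' hy''
  obtain ⟨p, q, hpq⟩ := Ideal.mem_span_pair.1 hx''
  obtain ⟨r, s, hrs⟩ := Ideal.mem_span_pair.1 hy''
  have hdet := det_not_mem_of_span h2' x' y' hgen' (φ x) (φ y) p q r s (hφm x hx) (hφm y hy)
    hpq hrs
  have hrel : (p * r) * algebraMap A A' x ^ 2 + (p * s + q * r) *
      (algebraMap A A' x * algebraMap A A' y) + (q * s) * algebraMap A A' y ^ 2 ∈
      maximalIdeal A' ^ 3 := by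
    rw [← hφ]
    have e1 : (p * r) * φ x ^ 2 + (p * s + q * r) * (φ x * φ y) + (q * s) * φ y ^ 2 = x' * y' := by
      rw [← hpq, ← hrs]; ring
    rw [e1]
    exact hxy
  have hdisc : (p * s + q * r) ^ 2 - 4 * (p * r) * (q * s) ∉ maximalIdeal A' := by
    have e1 : (p * s + q * r) ^ 2 - 4 * (p * r) * (q * s) = (p * s - q * r) ^ 2 := by ring
    rw [e1]
    intro h
    exact hdet (Ideal.IsPrime.mem_of_pow_mem inferInstance 2 h)
  obtain ⟨a, b, c, hQ, hd⟩ := exists_quad_descend hmap x y _ _ _ hrel hdisc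
  refine ⟨x, y, a, b, c, hx, hy, hgen, ?_, hQ⟩
  intro h0
  apply hd
  have := (residue_eq_zero_iff _).1 h0
  have e1 : b ^ 2 - 4 * a * c = -(4 * a * c - b ^ 2) := by ring
  rw [e1]
  exact neg_mem this

end Descend

end Groth.Agent.Lib.NodeCritH3
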