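import Mathlib
import Groth.Prelude
import Groth.Agent.Lib.ComapId2_helper8
import Groth.Agent.Lib.OmegaFitt_helper4
import Groth.Agent.Lib.OmegaSec_helper4
import Groth.Agent.Lib.FlatBC3_helper8
import Groth.Agent.Lib.PB7_helper8

/-!
# Fitting ideals of `Ω_{X/S}` commute with base change (helper3)
APPEND-ONLY once landed.
-/

set_option autoImplicit false

universe u

open CategoryTheory CategoryTheory.Limits AlgebraicGeometry Opposite TopologicalSpace TensorProduct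

namespace Groth.Agent.Lib.OmegaFittBCH3

/-- Fitting ideals of Kähler differentials commute with base change (algebra form). -/
theorem fitt_kaehler_baseChange (R A S B : Type u) [CommRing R] [CommRing A] [CommRing S]
    [CommRing B] [Algebra R A] [Algebra R S] [Algebra A B] [Algebra S B] [Algebra R B]
    [IsScalarTower R A B] [IsScalarTower R S B] [Algebra.IsPushout R S A B]
    [Algebra.FiniteType R A] (i : ℕ) :
    Fitt.ideal B Ω[B⁄S] i = (Fitt.ideal A Ω[A⁄R] i).map (algebraMap A B) := by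
  haveI : Module.Finite A Ω[A⁄R] := inferInstance
  rw [← FittH8.fitt_baseChange (R := A) (M := Ω[A⁄R]) B i]
  exact (FittH8.fitt_eq_of_linearEquiv (KaehlerDifferential.tensorKaehlerEquiv R S A B) i).symm

/-- The ring-hom version, with all algebra structures coming from a pushout square of
commutative rings. -/
theorem fitt_kaehler_of_isPushout {R A S B : CommRingCat.{u}} {φ : R ⟶ A} {ψ : R ⟶ S}
    {α : A ⟶ B} {β : S ⟶ B} (hpo : IsPushout φ ψ α β) (hft : φ.hom.FiniteType) (i : ℕ) :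
    letI := φ.hom.toAlgebra
    letI := β.hom.toAlgebra
    Fitt.ideal B Ω[B⁄S] i = (Fitt.ideal A Ω[A⁄R] i).map α.hom := by
  letI := φ.hom.toAlgebra
  letI := β.hom.toAlgebra
  letI := ψ.hom.toAlgebra
  letI := α.hom.toAlgebra
  letI : Algebra R B := (φ ≫ α).hom.toAlgebra
  haveI : IsScalarTower R A B := .of_algebraMap_eq' rfl
  haveI : IsScalarTower R S B := .of_algebraMap_eq' (congrArg CommRingCat.Hom.hom hpo.w)
  haveI : Algebra.FiniteType R A := hft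
  have h1 : Algebra.IsPushout R A S B := CommRingCat.isPushout_iff_isPushout.mp hpo
  haveI : Algebra.IsPushout R S A B := h1.symm
  exact fitt_kaehler_baseChange R A S B i

section Geom

variable {X S S' : Scheme.{u}} (f : X ⟶ S) [LocallyOfFiniteType f] [QuasiSeparated f]
  (g : S' ⟶ S)

theorem main8917 (i : ℕ) :
    (Fitt.sheafIdeal (Omega.sheaf f) i).comap (pullback.fst f g) =
      Fitt.sheafIdeal (Omega.sheaf (pullback.snd f g)) i := by
  have hc : IsPullback (pullback.fst f g) (pullback.snd f g) f g := IsPullback.of_hasPullback f g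
  set g' := pullback.fst f g with hg'
  set f' := pullback.snd f g with hf'
  haveI : LocallyOfFiniteType f' := MorphismProperty.pullback_snd _ _ inferInstance
  haveI : QuasiSeparated f' := MorphismProperty.pullback_snd _ _ inferInstance
  haveI := OmegaFittH4.isQuasicoherent_omega f
  haveI := OmegaFittH4.isFiniteType_omega f
  haveI := OmegaFittH4.isQuasicoherent_omega f'
  haveI := OmegaFittH4.isFiniteType_omega f'
  let ι := {p : S.affineOpens × X.affineOpens × S'.affineOpens //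
    (p.2.1 : X.Opens) ≤ f ⁻¹ᵁ (p.1 : S.Opens) ∧ (p.2.2 : S'.Opens) ≤ g ⁻¹ᵁ (p.1 : S.Opens)}
  have haff : ∀ j : ι, IsAffineOpen (g' ⁻¹ᵁ (j.1.2.1 : X.Opens) ⊓ f' ⁻¹ᵁ (j.1.2.2 : S'.Opens)) :=
    fun j => (FlatBC2H8.affine_pushout hc j.1.1.2 j.1.2.1.2 j.1.2.2.2 j.2.1 j.2.2).1
  let W : ι → (pullback f g).affineOpens := fun j =>
    ⟨g' ⁻¹ᵁ (j.1.2.1 : X.Opens) ⊓ f' ⁻¹ᵁ (j.1.2.2 : S'.Opens), haff j⟩
  have hcov : ⨆ j : ι, ((W j : (pullback f g).affineOpens) : (pullback f g).Opens) = ⊤ := by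
    rw [eq_top_iff]
    intro x _
    obtain ⟨_, ⟨V, hV : IsAffineOpen V, rfl⟩, hxV, -⟩ :=
      (S.isBasis_affineOpens).exists_subset_of_mem_open (Set.mem_univ (f (g' x))) isOpen_univ
    obtain ⟨_, ⟨U, hU : IsAffineOpen U, rfl⟩, hxU, hUV⟩ :=
      (X.isBasis_affineOpens).exists_subset_of_mem_open (show g' x ∈ f ⁻¹ᵁ V from hxV)
        (f ⁻¹ᵁ V).isOpen
    have hxV' : f' x ∈ g ⁻¹ᵁ V := by
      show g (f' x) ∈ V
      have : g (f' x) = f (g' x) := by
        rw [← Scheme.Hom.comp_apply, ← Scheme.Hom.comp_apply, hc.w]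
      rw [this]
      exact hxV
    obtain ⟨_, ⟨V', hV' : IsAffineOpen V', rfl⟩, hxV'', hV'V⟩ :=
      (S'.isBasis_affineOpens).exists_subset_of_mem_open hxV' (g ⁻¹ᵁ V).isOpen
    exact Opens.mem_iSup.mpr ⟨⟨⟨⟨V, hV⟩, ⟨U, hU⟩, ⟨V', hV'⟩⟩, hUV, hV'V⟩, ⟨hxU, hxV''⟩⟩
  refine Scheme.IdealSheafData.ext_of_iSup_eq_top W hcov ?_
  rintro ⟨⟨V, U, V'⟩, hUV, hV'V⟩
  obtain ⟨hW, hpo⟩ := FlatBC2H8.affine_pushout hc V.2 U.2 V'.2 hUV hV'V
  show ((Fitt.sheafIdeal (Omega.sheaf f) i).comap g').ideal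
      ⟨g' ⁻¹ᵁ (U : X.Opens) ⊓ f' ⁻¹ᵁ (V' : S'.Opens), hW⟩ =
    (Fitt.sheafIdeal (Omega.sheaf f') i).ideal ⟨g' ⁻¹ᵁ (U : X.Opens) ⊓ f' ⁻¹ᵁ (V' : S'.Opens), hW⟩
  rw [ComapIdH8.comap_ideal g' _ ⟨_, hW⟩ U inf_le_left, SDivFittH8.sheafIdeal_ideal,
    SDivFittH8.sheafIdeal_ideal]
  letI := (f.appLE V U hUV).hom.toAlgebra
  letI := (f'.appLE V' (g' ⁻¹ᵁ (U : X.Opens) ⊓ f' ⁻¹ᵁ (V' : S'.Opens)) inf_le_right).hom.toAlgebra
  obtain ⟨e1⟩ := OmegaSecH4.omegaSections f U.2 V.2 hUV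
  obtain ⟨e2⟩ := OmegaSecH4.omegaSections f' hW V'.2 inf_le_right
  haveI : Module.Finite Γ(X, (U : X.Opens)) Γ(Omega.sheaf f, (U : X.Opens)) :=
    QCohFT.finite_of_isFiniteType _ U.2
  haveI : Module.Finite Γ(pullback f g, g' ⁻¹ᵁ (U : X.Opens) ⊓ f' ⁻¹ᵁ (V' : S'.Opens))
      Γ(Omega.sheaf f', g' ⁻¹ᵁ (U : X.Opens) ⊓ f' ⁻¹ᵁ (V' : S'.Opens)) :=
    QCohFT.finite_of_isFiniteType _ hW
  rw [FittH8.fitt_eq_of_linearEquiv e1 i, FittH8.fitt_eq_of_linearEquiv e2 i]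
  exact (fitt_kaehler_of_isPushout hpo (f.finiteType_appLE V.2 U.2 hUV) i).symm

end Geom

end Groth.Agent.Lib.OmegaFittBCH3
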