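import Mathlib
import Groth.Prelude
import Groth.Agent.Lib.OmegaFittBC_helper3
import Groth.Agent.Lib.Fitt6_helper8
import Groth.Agent.Lib.FlatBC3_helper8

/-!
# Nodes, part 5: the first Fitting ideal of `Ω` at a point of a base change (helper3)

* `fitt_stalk` : for `X` locally of finite type over `k` and a point `xb` of `X_K`, the first
  Fitting ideal of `Ω_{𝒪_{X_K, xb}/K}` is extended from an ideal of `𝒪_{X, x}`.

APPEND-ONLY once landed.
-/

set_option autoImplicit false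
set_option linter.style.haveILetI false
universe u

open CategoryTheory CategoryTheory.Limits AlgebraicGeometry IsLocalRing

namespace Groth.Agent.Lib.NodeCritH3

section Chart

variable (k : Type u) [Field k] (X : Scheme.{u}) [X.Over (Spec (CommRingCat.of k))]
  [LocallyOfFiniteType (X ↘ Spec (CommRingCat.of k))]
  (K : Type u) [Field K] [Algebra k K]

set_option maxHeartbeats 1600000 in
theorem fitt_stalk (xb : Curv2.bc k X K) :
    letI : (Curv2.bc k X K).Over (Spec (CommRingCat.of K)) := ⟨Curv2.bcSnd k X K⟩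
    letI := Curv2.stalkAlgebra K (Curv2.bc k X K) xb
    Module.Finite ((Curv2.bc k X K).presheaf.stalk xb)
        Ω[(Curv2.bc k X K).presheaf.stalk xb⁄K] ∧
      ∃ I : Ideal (X.presheaf.stalk (Curv2.bcFst k X K xb)),
        Fitt.ideal ((Curv2.bc k X K).presheaf.stalk xb)
            Ω[(Curv2.bc k X K).presheaf.stalk xb⁄K] 1 =
          I.map ((Curv2.bcFst k X K).stalkMap xb).hom := by
  letI ovB : (Curv2.bc k X K).Over (Spec (CommRingCat.of K)) := ⟨Curv2.bcSnd k X K⟩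
  letI algKA' := Curv2.stalkAlgebra K (Curv2.bc k X K) xb
  obtain ⟨_, ⟨U, hU : IsAffineOpen U, rfl⟩, hxU, -⟩ :=
    (X.isBasis_affineOpens).exists_subset_of_mem_open
      (Set.mem_univ (Curv2.bcFst k X K xb)) isOpen_univ
  have hc : IsPullback (Curv2.bcFst k X K) (Curv2.bcSnd k X K) (X ↘ Spec (CommRingCat.of k))
      (Spec.map (CommRingCat.ofHom (algebraMap k K))) := IsPullback.of_hasPullback _ _
  have hW : IsAffineOpen (⊤ : (Spec (CommRingCat.of k)).Opens) := isAffineOpen_top _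
  have hW' : IsAffineOpen (⊤ : (Spec (CommRingCat.of K)).Opens) := isAffineOpen_top _
  have hUW : U ≤ (X ↘ Spec (CommRingCat.of k)) ⁻¹ᵁ ⊤ := fun _ _ => trivial
  have hW'W : (⊤ : (Spec (CommRingCat.of K)).Opens) ≤
      (Spec.map (CommRingCat.ofHom (algebraMap k K))) ⁻¹ᵁ ⊤ := fun _ _ => trivial
  obtain ⟨U', hxbU', hU'U, hU'W', hU', hpo⟩ : ∃ (U' : (Curv2.bc k X K).Opens) (_ : xb ∈ U')
      (h1 : U' ≤ (Curv2.bcFst k X K) ⁻¹ᵁ U) (h2 : U' ≤ (Curv2.bcSnd k X K) ⁻¹ᵁ ⊤),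
      IsAffineOpen U' ∧ IsPushout ((X ↘ Spec (CommRingCat.of k)).appLE ⊤ U hUW)
        ((Spec.map (CommRingCat.ofHom (algebraMap k K))).appLE ⊤ ⊤ hW'W)
        ((Curv2.bcFst k X K).appLE U U' h1) ((Curv2.bcSnd k X K).appLE ⊤ U' h2) :=
    ⟨(Curv2.bcFst k X K) ⁻¹ᵁ U ⊓ (Curv2.bcSnd k X K) ⁻¹ᵁ ⊤, ⟨hxU, trivial⟩, inf_le_left,
      inf_le_right, FlatBC2H8.affine_pushout hc hW hU hW' hUW hW'W⟩
  -- transport the pushout square to `k` and `K`
  have hpo' : IsPushout
      ((Scheme.ΓSpecIso (CommRingCat.of k)).inv ≫ (X ↘ Spec (CommRingCat.of k)).appLE ⊤ U hUW)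
      (CommRingCat.ofHom (algebraMap k K))
      ((Curv2.bcFst k X K).appLE U U' hU'U)
      ((Scheme.ΓSpecIso (CommRingCat.of K)).inv ≫ (Curv2.bcSnd k X K).appLE ⊤ U' hU'W') := by
    refine hpo.of_iso (Scheme.ΓSpecIso (CommRingCat.of k)) (Iso.refl _)
      (Scheme.ΓSpecIso (CommRingCat.of K)) (Iso.refl _) ?_ ?_ ?_ ?_
    · simp
    · have h1 : (Spec.map (CommRingCat.ofHom (algebraMap k K))).appLE ⊤ ⊤ hW'W =
          (Spec.map (CommRingCat.ofHom (algebraMap k K))).appTop := by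
        simp [Scheme.Hom.appLE, Scheme.Hom.appTop]
      rw [h1, Scheme.ΓSpecIso_naturality]
    · simp
    · simp
  -- finite type
  have hft : ((Scheme.ΓSpecIso (CommRingCat.of k)).inv ≫
      (X ↘ Spec (CommRingCat.of k)).appLE ⊤ U hUW).hom.FiniteType := by
    rw [CommRingCat.hom_comp]
    refine RingHom.FiniteType.comp (Scheme.Hom.finiteType_appLE _ hW hU hUW) ?_
    exact RingHom.FiniteType.of_surjective _
      (ConcreteCategory.bijective_of_isIso (Scheme.ΓSpecIso (CommRingCat.of k)).inv).2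
  haveI : LocallyOfFiniteType (Curv2.bcSnd k X K) :=
    MorphismProperty.pullback_snd (P := @LocallyOfFiniteType) _ _ inferInstance
  have hft' : ((Scheme.ΓSpecIso (CommRingCat.of K)).inv ≫
      (Curv2.bcSnd k X K).appLE ⊤ U' hU'W').hom.FiniteType := by
    rw [CommRingCat.hom_comp]
    refine RingHom.FiniteType.comp (Scheme.Hom.finiteType_appLE _ hW' hU' hU'W') ?_
    exact RingHom.FiniteType.of_surjective _
      (ConcreteCategory.bijective_of_isIso (Scheme.ΓSpecIso (CommRingCat.of K)).inv).2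
  -- the algebra structures
  letI algkR : Algebra k Γ(X, U) := ((Scheme.ΓSpecIso (CommRingCat.of k)).inv ≫
      (X ↘ Spec (CommRingCat.of k)).appLE ⊤ U hUW).hom.toAlgebra
  letI algKB : Algebra K Γ(Curv2.bc k X K, U') := ((Scheme.ΓSpecIso (CommRingCat.of K)).inv ≫
      (Curv2.bcSnd k X K).appLE ⊤ U' hU'W').hom.toAlgebra
  have h1 : Fitt.ideal Γ(Curv2.bc k X K, U') Ω[Γ(Curv2.bc k X K, U')⁄K] 1 =
      (Fitt.ideal Γ(X, U) Ω[Γ(X, U)⁄k] 1).map ((Curv2.bcFst k X K).appLE U U' hU'U).hom :=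
    Groth.Agent.Lib.OmegaFittBCH3.fitt_kaehler_of_isPushout hpo' hft 1
  haveI : Algebra.FiniteType K Γ(Curv2.bc k X K, U') := hft'
  letI algBA' : Algebra Γ(Curv2.bc k X K, U') ((Curv2.bc k X K).presheaf.stalk xb) :=
    TopCat.Presheaf.algebra_section_stalk (Curv2.bc k X K).presheaf ⟨xb, hxbU'⟩
  haveI hloc : IsLocalization.AtPrime ((Curv2.bc k X K).presheaf.stalk xb)
      (hU'.primeIdealOf ⟨xb, hxbU'⟩).asIdeal := hU'.isLocalization_stalk ⟨xb, hxbU'⟩
  haveI : IsScalarTower K Γ(Curv2.bc k X K, U') ((Curv2.bc k X K).presheaf.stalk xb) := by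
    refine IsScalarTower.of_algebraMap_eq (fun c => ?_)
    show ((Curv2.bc k X K).presheaf.germ ⊤ xb trivial).hom
        (Coh.toGlobal (Curv2.bcSnd k X K) c) =
      ((Curv2.bc k X K).presheaf.germ U' xb hxbU').hom
        (((Curv2.bcSnd k X K).appLE ⊤ U' hU'W').hom
          ((Scheme.ΓSpecIso (CommRingCat.of K)).inv.hom c))
    have e1 : ((Curv2.bcSnd k X K).appLE ⊤ U' hU'W').hom
        ((Scheme.ΓSpecIso (CommRingCat.of K)).inv.hom c) =
        ((Curv2.bc k X K).presheaf.map (homOfLE hU'W').op).hom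
          (((Curv2.bcSnd k X K).app ⊤).hom ((Scheme.ΓSpecIso (CommRingCat.of K)).inv.hom c)) := rfl
    rw [e1]
    exact (TopCat.Presheaf.germ_res_apply (Curv2.bc k X K).presheaf (homOfLE hU'W') xb hxbU'
      _).symm
  haveI hfinB : Module.Finite Γ(Curv2.bc k X K, U') Ω[Γ(Curv2.bc k X K, U')⁄K] := inferInstance
  have h2 : Fitt.ideal ((Curv2.bc k X K).presheaf.stalk xb)
      Ω[(Curv2.bc k X K).presheaf.stalk xb⁄K] 1 =
      (Fitt.ideal Γ(Curv2.bc k X K, U') Ω[Γ(Curv2.bc k X K, U')⁄K] 1).map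
        (algebraMap Γ(Curv2.bc k X K, U') ((Curv2.bc k X K).presheaf.stalk xb)) :=
    FittH8.fitt_localization (hU'.primeIdealOf ⟨xb, hxbU'⟩).asIdeal.primeCompl
      ((Curv2.bc k X K).presheaf.stalk xb) Ω[(Curv2.bc k X K).presheaf.stalk xb⁄K]
      (KaehlerDifferential.map K K Γ(Curv2.bc k X K, U') ((Curv2.bc k X K).presheaf.stalk xb)) 1
  have hfin : Module.Finite ((Curv2.bc k X K).presheaf.stalk xb)
      Ω[(Curv2.bc k X K).presheaf.stalk xb⁄K] :=
    Module.Finite.of_isLocalizedModule (hU'.primeIdealOf ⟨xb, hxbU'⟩).asIdeal.primeCompl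
      (KaehlerDifferential.map K K Γ(Curv2.bc k X K, U') ((Curv2.bc k X K).presheaf.stalk xb))
  have hcomp : (algebraMap Γ(Curv2.bc k X K, U') ((Curv2.bc k X K).presheaf.stalk xb)).comp
      ((Curv2.bcFst k X K).appLE U U' hU'U).hom =
      ((Curv2.bcFst k X K).stalkMap xb).hom.comp
        (X.presheaf.germ U (Curv2.bcFst k X K xb) hxU).hom := by
    ext r
    show ((Curv2.bc k X K).presheaf.germ U' xb hxbU').hom
        (((Curv2.bc k X K).presheaf.map (homOfLE hU'U).op).hom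
          (((Curv2.bcFst k X K).app U).hom r)) =
      ((Curv2.bcFst k X K).stalkMap xb).hom
        ((X.presheaf.germ U (Curv2.bcFst k X K xb) hxU).hom r)
    rw [TopCat.Presheaf.germ_res_apply]
    exact (Scheme.Hom.germ_stalkMap_apply (Curv2.bcFst k X K) U xb hxU r).symm
  refine ⟨hfin, (Fitt.ideal Γ(X, U) Ω[Γ(X, U)⁄k] 1).map
    (X.presheaf.germ U (Curv2.bcFst k X K xb) hxU).hom, ?_⟩
  rw [h2, h1, Ideal.map_map, Ideal.map_map, hcomp]

end Chart

end Groth.Agent.Lib.NodeCritH3
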