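import Mathlib
import Groth.Prelude
import Groth.Agent.Lib.NodeSemi1_helper3

/-!
# All geometric points over a node are ordinary double points (helper3)

APPEND-ONLY once landed.
-/

set_option autoImplicit false
set_option linter.style.haveILetI false
set_option linter.unusedSectionVars false
universe u

open AlgebraicGeometry CategoryTheory CategoryTheory.Limits IsLocalRing

namespace Groth.Agent.Lib.NodeSemiH3

open Groth.Agent.Lib.NodeEtaleH3

section Pts

variable (k : Type u) [Field k] (X : Scheme.{u}) [X.Over (Spec (CommRingCat.of k))]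

/-- the composite `Spec κ(x) ⟶ X ⟶ Spec k`. -/
theorem fromSpecResidueField_over (x : X) :
    X.fromSpecResidueField x ≫ (X ↘ Spec (CommRingCat.of k)) =
      Spec.map (CommRingCat.ofHom (Curv2.resMap k X x)) := by
  rw [Scheme.fromSpecResidueField, Category.assoc, Groth.Agent.Lib.StalkDictH4.fromSpecStalk_comp, ← Spec.map_comp]
  rfl

variable (K : Type u) [Field K]

/-- a morphism from the spectrum of a field factors through the residue field of its image. -/
theorem exists_factor (a : Spec (CommRingCat.of K) ⟶ X) (x : X)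
    (h : a (closedPoint K) = x) :
    ∃ σ : X.residueField x ⟶ CommRingCat.of K, a = Spec.map σ ≫ X.fromSpecResidueField x := by
  subst h
  exact ⟨_, (Scheme.descResidueField_stalkClosedPointTo_fromSpecResidueField K X a).symm⟩

variable [Algebra k K]

/-- the factorisation is `k`-linear for `k`-morphisms. -/
theorem factor_comm (x : X) (σ : X.residueField x ⟶ CommRingCat.of K)
    (h : (Spec.map σ ≫ X.fromSpecResidueField x) ≫ (X ↘ Spec (CommRingCat.of k)) =
      Spec.map (CommRingCat.ofHom (algebraMap k K))) (c : k) :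
    σ.hom (Curv2.resMap k X x c) = algebraMap k K c := by
  rw [Category.assoc, fromSpecResidueField_over, ← Spec.map_comp] at h
  have h2 := Spec.map_injective h
  have h3 := congrArg (fun m => m.hom c) h2
  exact h3

end Pts

section RatPt

variable (K : Type u) [Field K] [IsAlgClosed K] (B : Scheme.{u}) [B.Over (Spec (CommRingCat.of K))]
  [LocallyOfFiniteType (B ↘ Spec (CommRingCat.of K))]

/-- a closed point of a scheme locally of finite type over an algebraically closed field is a
rational point. -/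
theorem exists_point (b : B) (hb : IsClosed ({b} : Set B)) :
    ∃ p : Spec (CommRingCat.of K) ⟶ B, p ≫ (B ↘ Spec (CommRingCat.of K)) = 𝟙 _ ∧
      ∀ z, p z = b := by
  have hfin := Groth.Agent.Lib.InsepRamH3.finite_resMap K B b hb
  letI := Curv2.resAlgebra K B b
  haveI : Module.Finite K (B.residueField b) := hfin
  have hbij : Function.Bijective (Curv2.resMap K B b) :=
    IsAlgClosed.algebraMap_bijective_of_isIntegral (k := K) (K := B.residueField b)
  let ρ : K ≃+* B.residueField b := RingEquiv.ofBijective (Curv2.resMap K B b) hbij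
  refine ⟨Spec.map (CommRingCat.ofHom (ρ.symm : B.residueField b →+* K)) ≫
    B.fromSpecResidueField b, ?_, ?_⟩
  · rw [Category.assoc, fromSpecResidueField_over, ← Spec.map_comp]
    have : CommRingCat.ofHom (Curv2.resMap K B b) ≫
        CommRingCat.ofHom (ρ.symm : B.residueField b →+* K) = 𝟙 (CommRingCat.of K) := by
      ext c
      exact ρ.symm_apply_apply c
    rw [this, Spec.map_id]
  · intro z
    rw [Scheme.Hom.comp_apply]
    exact Scheme.fromSpecResidueField_apply _ _

end RatPt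

section Main

variable (k : Type u) [Field k] (X : Scheme.{u}) [X.Over (Spec (CommRingCat.of k))]
  [LocallyOfFiniteType (X ↘ Spec (CommRingCat.of k))]
  (K : Type u) [Field K] [Algebra k K] [IsAlgClosed K] [Algebra.IsAlgebraic k K]

/-- the automorphism of `X_K` induced by a `k`-automorphism of `K`. -/
noncomputable def conj (φ : K ≃ₐ[k] K) : Curv2.bc k X K ⟶ Curv2.bc k X K :=
  pullback.map _ _ _ _ (𝟙 X) (Spec.map (CommRingCat.ofHom (φ : K →+* K))) (𝟙 _)
    (by simp)
    (by
      rw [Category.comp_id, ← Spec.map_comp]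
      congr 1
      ext c
      exact (φ.commutes c).symm)

instance (φ : K ≃ₐ[k] K) : IsIso (conj k X K φ) := by
  haveI : IsIso (Spec.map (CommRingCat.ofHom (φ : K →+* K))) := by
    have : IsIso (CommRingCat.ofHom (φ : K →+* K)) :=
      (φ.toRingEquiv.toCommRingCatIso).isIso_hom
    infer_instance
  unfold conj
  infer_instance

theorem conj_fst (φ : K ≃ₐ[k] K) : conj k X K φ ≫ Curv2.bcFst k X K = Curv2.bcFst k X K := by
  unfold conj
  rw [pullback.lift_fst, Category.comp_id]

theorem conj_snd (φ : K ≃ₐ[k] K) : conj k X K φ ≫ Curv2.bcSnd k X K =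
    Curv2.bcSnd k X K ≫ Spec.map (CommRingCat.ofHom (φ : K →+* K)) := by
  unfold conj
  rw [pullback.lift_snd]

set_option maxHeartbeats 800000 in
/-- `Aut_k(K)` acts transitively on the points of `X_K` over a closed point of `X`. -/
theorem exists_conj (x : X) (hx : IsClosed ({x} : Set X)) (b₁ b₂ : Curv2.bc k X K)
    (h₁ : Curv2.bcFst k X K b₁ = x) (h₂ : Curv2.bcFst k X K b₂ = x) :
    ∃ φ : K ≃ₐ[k] K, conj k X K φ b₂ = b₁ := by
  letI ovB : (Curv2.bc k X K).Over (Spec (CommRingCat.of K)) := ⟨Curv2.bcSnd k X K⟩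
  haveI : LocallyOfFiniteType ((Curv2.bc k X K) ↘ Spec (CommRingCat.of K)) :=
    MorphismProperty.pullback_snd (P := @LocallyOfFiniteType) _ _ inferInstance
  haveI : IsIntegralHom (Spec.map (CommRingCat.ofHom (algebraMap k K))) := by
    rw [IsIntegralHom.SpecMap_iff]
    exact algebraMap_isIntegral_iff.mpr inferInstance
  haveI : IsIntegralHom (Curv2.bcFst k X K) := inferInstance
  have hc₁ : IsClosed ({b₁} : Set (Curv2.bc k X K)) :=
    isClosed_of_integral (Curv2.bcFst k X K) b₁ (by rw [h₁]; exact hx)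
  have hc₂ : IsClosed ({b₂} : Set (Curv2.bc k X K)) :=
    isClosed_of_integral (Curv2.bcFst k X K) b₂ (by rw [h₂]; exact hx)
  obtain ⟨p₁, hp₁, hp₁'⟩ := exists_point K (Curv2.bc k X K) b₁ hc₁
  obtain ⟨p₂, hp₂, hp₂'⟩ := exists_point K (Curv2.bc k X K) b₂ hc₂
  have hp₁s : p₁ ≫ Curv2.bcSnd k X K = 𝟙 _ := hp₁
  have hp₂s : p₂ ≫ Curv2.bcSnd k X K = 𝟙 _ := hp₂
  obtain ⟨σ₁, hσ₁⟩ := exists_factor X K (p₁ ≫ Curv2.bcFst k X K) x (by
    rw [Scheme.Hom.comp_apply, hp₁', h₁])
  obtain ⟨σ₂, hσ₂⟩ := exists_factor X K (p₂ ≫ Curv2.bcFst k X K) x (by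
    rw [Scheme.Hom.comp_apply, hp₂', h₂])
  have hov : ∀ p : Spec (CommRingCat.of K) ⟶ Curv2.bc k X K, p ≫ Curv2.bcSnd k X K = 𝟙 _ →
      (p ≫ Curv2.bcFst k X K) ≫ (X ↘ Spec (CommRingCat.of k)) =
        Spec.map (CommRingCat.ofHom (algebraMap k K)) := by
    intro p hp
    rw [Category.assoc, pullback.condition, ← Category.assoc]
    have : p ≫ pullback.snd (X ↘ Spec (CommRingCat.of k))
        (Spec.map (CommRingCat.ofHom (algebraMap k K))) = 𝟙 _ := hp
    rw [this, Category.id_comp]
  have hl₁ := factor_comm k X K x σ₁ (by rw [← hσ₁]; exact hov p₁ hp₁s)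
  have hl₂ := factor_comm k X K x σ₂ (by rw [← hσ₂]; exact hov p₂ hp₂s)
  letI := Curv2.resAlgebra k X x
  let s₁ : X.residueField x →ₐ[k] K := { σ₁.hom with commutes' := hl₁ }
  let s₂ : X.residueField x →ₐ[k] K := { σ₂.hom with commutes' := hl₂ }
  obtain ⟨φ, hφ⟩ := Groth.Agent.Lib.InsepRamH3.exists_aut s₁ s₂
  refine ⟨φ, ?_⟩
  have hσ : σ₂ = σ₁ ≫ CommRingCat.ofHom (φ : K →+* K) := by
    ext a
    exact (hφ a).symm
  have key : p₂ ≫ conj k X K φ = Spec.map (CommRingCat.ofHom (φ : K →+* K)) ≫ p₁ := by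
    apply pullback.hom_ext
    · have e1 : (p₂ ≫ conj k X K φ) ≫ pullback.fst _ _ = p₂ ≫ Curv2.bcFst k X K := by
        rw [Category.assoc]
        congr 1
        exact conj_fst k X K φ
      have e2 : (Spec.map (CommRingCat.ofHom (φ : K →+* K)) ≫ p₁) ≫ pullback.fst _ _ =
          Spec.map (CommRingCat.ofHom (φ : K →+* K)) ≫ (p₁ ≫ Curv2.bcFst k X K) := by
        rw [Category.assoc]
      rw [e1, e2, hσ₁, hσ₂, hσ, Spec.map_comp, Category.assoc]
    · have e1 : (p₂ ≫ conj k X K φ) ≫ pullback.snd _ _ =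
          (p₂ ≫ Curv2.bcSnd k X K) ≫ Spec.map (CommRingCat.ofHom (φ : K →+* K)) := by
        rw [Category.assoc, Category.assoc]
        congr 1
        exact conj_snd k X K φ
      have e2 : (Spec.map (CommRingCat.ofHom (φ : K →+* K)) ≫ p₁) ≫ pullback.snd _ _ =
          Spec.map (CommRingCat.ofHom (φ : K →+* K)) ≫ (p₁ ≫ Curv2.bcSnd k X K) := by
        rw [Category.assoc]
      rw [e1, e2, hp₁s, hp₂s, Category.id_comp, Category.comp_id]
  have h3 := congrArg (fun m : Spec (CommRingCat.of K) ⟶ Curv2.bc k X K => m (closedPoint K)) key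
  simp only [Scheme.Hom.comp_apply] at h3
  rw [hp₂', hp₁'] at h3
  exact h3

set_option maxHeartbeats 800000 in
/-- **S1586**: every point of `X_K` over a node is an ordinary double point. -/
theorem main1586 (x : X)
    (hx : IsClosed ({x} : Set X) ∧
      ∃ xb : Curv2.bc k X K, Curv2.bcFst k X K xb = x ∧
        letI : (Curv2.bc k X K).Over (Spec (CommRingCat.of K)) := ⟨Curv2.bcSnd k X K⟩
        letI := Curv2.stalkAlgebra K (Curv2.bc k X K) xb
        Curv2.IsOrdDoublePt K ((Curv2.bc k X K).presheaf.stalk xb))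
    (xb : Curv2.bc k X K) (hxb : Curv2.bcFst k X K xb = x) :
    @Curv2.IsOrdDoublePt K _ ((Curv2.bc k X K).presheaf.stalk xb) _
      (@Curv2.stalkAlgebra K _ (Curv2.bc k X K) ⟨Curv2.bcSnd k X K⟩ xb) _ := by
  obtain ⟨hcl, xb₀, hxb₀, hodp⟩ := hx
  obtain ⟨φ, hφ⟩ := exists_conj k X K x hcl xb₀ xb hxb₀ hxb
  subst hφ
  letI ovB : (Curv2.bc k X K).Over (Spec (CommRingCat.of K)) := ⟨Curv2.bcSnd k X K⟩
  haveI : LocallyOfFiniteType ((Curv2.bc k X K) ↘ Spec (CommRingCat.of K)) :=
    MorphismProperty.pullback_snd (P := @LocallyOfFiniteType) _ _ inferInstance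
  exact isOrdDoublePt_of_iso K K φ.toRingEquiv (conj k X K φ) (conj_snd k X K φ) xb hodp

end Main

end Groth.Agent.Lib.NodeSemiH3
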