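import Mathlib
import Groth.Prelude
import Groth.Agent.Lib.NodeCrit2_helper3
import Groth.Agent.Lib.NodeCrit3_helper3
import Groth.Agent.Lib.NodeCrit4_helper3
import Groth.Agent.Lib.NodeCrit5_helper3
import Groth.Agent.Lib.InsepRam3_helper3
import Groth.Agent.Lib.NodeSemi2_helper3

/-!
# Nodes, part 6: the local ring of `X_K` over a closed point of `X` (helper3)

* `split_of_isOrdDoublePt` : an ordinary double point over an algebraically closed field has
  `𝔪 = (x, y)` with `x y ∈ 𝔪³`.
* `geom_package` : the stalk map of `X_K → X` at a point over a closed point.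
* `map_maximalIdeal_iff_isSeparable`.

APPEND-ONLY once landed.
-/

set_option autoImplicit false
set_option linter.style.haveILetI false
universe u

open CategoryTheory CategoryTheory.Limits AlgebraicGeometry IsLocalRing

namespace Groth.Agent.Lib.NodeCritH3

open MvPowerSeries Groth.Agent.Lib.QuadNodeH3

section Alg

variable (K : Type u) [Field K] [IsAlgClosed K]
  (B : Type u) [CommRing B] [IsLocalRing B] [IsNoetherianRing B] [Algebra K B]

set_option maxHeartbeats 1600000 in
theorem split_of_isOrdDoublePt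
    (hK : Function.Bijective ((residue B).comp (algebraMap K B)))
    (h : Curv2.IsOrdDoublePt K B) :
    IsReduced B ∧ (maximalIdeal B).spanFinrank = 2 ∧
      ∃ x y : B, x ∈ maximalIdeal B ∧ y ∈ maximalIdeal B ∧
        Ideal.span {x, y} ⊔ maximalIdeal B ^ 2 = maximalIdeal B ∧
        x * y ∈ maximalIdeal B ^ 3 := by
  classical
  obtain ⟨e, -⟩ := h
  let τ : K ≃+* ResidueField B := RingEquiv.ofBijective _ hK
  haveI : IsAlgClosed (ResidueField B) := IsAlgClosed.of_ringEquiv K (ResidueField B) τ
  have hJ : Ideal.span {(C (0 : ResidueField B) * X 0 ^ 2 + C (1 : ResidueField B) * X 0 * X 1 +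
      C (0 : ResidueField B) * X 1 ^ 2 : MvPowerSeries (Fin 2) (ResidueField B))} =
      Groth.Agent.Lib.NodeSemiH3.nodeIdeal (ResidueField B) := by
    unfold Groth.Agent.Lib.NodeSemiH3.nodeIdeal
    congr 2
    simp
  let e₀ : AdicCompletion (maximalIdeal B) B ≃+*
      (MvPowerSeries (Fin 2) (ResidueField B) ⧸ Ideal.span
        {(C (0 : ResidueField B) * X 0 ^ 2 + C (1 : ResidueField B) * X 0 * X 1 +
          C (0 : ResidueField B) * X 1 ^ 2 : MvPowerSeries (Fin 2) (ResidueField B))}) :=
    (e.trans (Groth.Agent.Lib.NodeSemiH3.quotEquiv τ)).trans (Ideal.quotEquivOfEq hJ.symm)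
  have hdisc₀ : 4 * (0 : ResidueField B) * 0 - 1 ^ 2 ≠ 0 := by
    rw [mul_zero, zero_sub, one_pow]
    exact neg_ne_zero.2 one_ne_zero
  obtain ⟨hred, hcot, x, y, a, b, c, hx, hy, hgen, hdisc, hQ⟩ := ii_to_i B 0 1 0 hdisc₀ e₀
  have h2 : (maximalIdeal B).spanFinrank = 2 := by
    rw [IsLocalRing.spanFinrank_maximalIdeal_eq_finrank_cotangentSpace, hcot]
  obtain ⟨x', y', hx', hy', hgen', hxy⟩ := exists_split x y a b c hx hy hgen hdisc hQ
  exact ⟨hred, h2, x', y', hx', hy', hgen', hxy⟩

end Alg

section Len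

variable {A : Type u} [CommRing A] [IsLocalRing A] {A' : Type u} [CommRing A'] [IsLocalRing A']
  [Algebra A A'] [IsLocalHom (algebraMap A A')]

theorem map_maximalIdeal_eq_iff_length :
    (maximalIdeal A).map (algebraMap A A') = maximalIdeal A' ↔
      Module.length A' (A' ⧸ (maximalIdeal A).map (algebraMap A A')) = 1 := by
  rw [Module.length_eq_one_iff, isSimpleModule_iff_isCoatom]
  constructor
  · intro h
    rw [h]
    exact Ideal.isMaximal_def.mp (maximalIdeal.isMaximal A')
  · intro h
    exact IsLocalRing.eq_maximalIdeal (Ideal.isMaximal_def.mpr h)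

end Len

section Sep

theorem isSeparable_congr {F E : Type*} [Field F] [Field E] (a b : Algebra F E)
    (h : ∀ r, @algebraMap F E _ _ a r = @algebraMap F E _ _ b r)
    (hs : @Algebra.IsSeparable F E _ _ a) : @Algebra.IsSeparable F E _ _ b := by
  have : a = b := Algebra.algebra_ext a b h
  subst this; exact hs

theorem finInsepDegree_eq_one_iff (F E : Type*) [Field F] [Field E] [Algebra F E]
    [FiniteDimensional F E] : Field.finInsepDegree F E = 1 ↔ Algebra.IsSeparable F E := by
  rw [← Field.finSepDegree_eq_finrank_iff]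
  have h1 := Field.finSepDegree_mul_finInsepDegree F E
  have hpos : 0 < Field.finSepDegree F E := by
    have : 0 < Module.finrank F E := Module.finrank_pos
    rw [← h1] at this
    exact Nat.pos_of_mul_pos_right this
  constructor
  · intro h
    rw [h, mul_one] at h1
    exact h1
  · intro h
    rw [h] at h1
    have : Module.finrank F E * Field.finInsepDegree F E = Module.finrank F E * 1 := by
      rw [h1, mul_one]
    rw [h] at hpos
    exact Nat.eq_of_mul_eq_mul_left hpos this

end Sep

section Geom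

variable (k : Type u) [Field k] (X : Scheme.{u}) [X.Over (Spec (CommRingCat.of k))]
  [LocallyOfFiniteType (X ↘ Spec (CommRingCat.of k))]
  (K : Type u) [Field K] [Algebra k K] [IsAlgClosed K] [Algebra.IsAlgebraic k K]

open Groth.Agent.Lib.InsepRamH3 Groth.Agent.Lib.LocDegH4 in
set_option maxHeartbeats 1600000 in
theorem length_bcFst (xb : Curv2.bc k X K)
    (hcl : IsClosed ({Curv2.bcFst k X K xb} : Set X)) :
    letI := ((Curv2.bcFst k X K).stalkMap xb).hom.toAlgebra
    letI := Curv2.resAlgebra k X (Curv2.bcFst k X K xb)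
    Module.length ((Curv2.bc k X K).presheaf.stalk xb)
        ((Curv2.bc k X K).presheaf.stalk xb ⧸
          (maximalIdeal (X.presheaf.stalk (Curv2.bcFst k X K xb))).map
            (algebraMap (X.presheaf.stalk (Curv2.bcFst k X K xb))
              ((Curv2.bc k X K).presheaf.stalk xb))) =
      (Field.finInsepDegree k (X.residueField (Curv2.bcFst k X K xb)) : ℕ∞) := by
  letI alg := ((Curv2.bcFst k X K).stalkMap xb).hom.toAlgebra
  letI := Curv2.stalkAlgebra k X (Curv2.bcFst k X K xb)
  have hfin := finite_resMap k X _ hcl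
  haveI : Module.Finite k (ResidueField (X.presheaf.stalk (Curv2.bcFst k X K xb))) :=
    finite_congr (Curv2.resAlgebra k X (Curv2.bcFst k X K xb)) _ (fun r => rfl) hfin
  obtain ⟨q, hqp, hq, he⟩ := eIdx_bcFst k X K (Curv2.bcFst k X K xb) xb rfl
  have hlen := length_quot_tensor (k := k) (R := X.presheaf.stalk (Curv2.bcFst k X K xb))
    (K := K) q hq
  have he' : Module.length ((Curv2.bc k X K).presheaf.stalk xb)
        ((Curv2.bc k X K).presheaf.stalk xb ⧸
          (maximalIdeal (X.presheaf.stalk (Curv2.bcFst k X K xb))).map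
            (algebraMap (X.presheaf.stalk (Curv2.bcFst k X K xb))
              ((Curv2.bc k X K).presheaf.stalk xb))) = eIdx (Curv2.bcFst k X K) xb := rfl
  rw [he', he, hlen]
  congr 1

set_option maxHeartbeats 1600000 in
/-- `𝔪_x 𝒪_{X_K, xb} = 𝔪_{xb}` iff `κ(x)/k` is separable. -/
theorem map_maximalIdeal_iff_isSeparable (xb : Curv2.bc k X K)
    (hcl : IsClosed ({Curv2.bcFst k X K xb} : Set X)) :
    letI := Curv2.resAlgebra k X (Curv2.bcFst k X K xb)
    (maximalIdeal (X.presheaf.stalk (Curv2.bcFst k X K xb))).map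
        ((Curv2.bcFst k X K).stalkMap xb).hom = maximalIdeal ((Curv2.bc k X K).presheaf.stalk xb) ↔
      Algebra.IsSeparable k (X.residueField (Curv2.bcFst k X K xb)) := by
  letI alg := ((Curv2.bcFst k X K).stalkMap xb).hom.toAlgebra
  letI := Curv2.resAlgebra k X (Curv2.bcFst k X K xb)
  haveI : IsLocalHom (algebraMap (X.presheaf.stalk (Curv2.bcFst k X K xb))
      ((Curv2.bc k X K).presheaf.stalk xb)) :=
    show IsLocalHom ((Curv2.bcFst k X K).stalkMap xb).hom from inferInstance
  have hfin := Groth.Agent.Lib.InsepRamH3.finite_resMap k X _ hcl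
  haveI : FiniteDimensional k (X.residueField (Curv2.bcFst k X K xb)) := hfin
  have h1 := length_bcFst k X K xb hcl
  rw [← finInsepDegree_eq_one_iff]
  have h2 := map_maximalIdeal_eq_iff_length (A := X.presheaf.stalk (Curv2.bcFst k X K xb))
    (A' := (Curv2.bc k X K).presheaf.stalk xb)
  show (maximalIdeal (X.presheaf.stalk (Curv2.bcFst k X K xb))).map
      (algebraMap (X.presheaf.stalk (Curv2.bcFst k X K xb))
        ((Curv2.bc k X K).presheaf.stalk xb)) = _ ↔ _
  rw [h2, h1]
  exact_mod_cast Iff.rfl

set_option maxHeartbeats 1600000 in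
/-- The structure of the stalk map of `X_K → X` at a point over a closed point. -/
theorem geom_package (xb : Curv2.bc k X K)
    (hcl : IsClosed ({Curv2.bcFst k X K xb} : Set X)) :
    letI : (Curv2.bc k X K).Over (Spec (CommRingCat.of K)) := ⟨Curv2.bcSnd k X K⟩
    letI := Curv2.stalkAlgebra K (Curv2.bc k X K) xb
    letI := ((Curv2.bcFst k X K).stalkMap xb).hom.toAlgebra
    IsNoetherianRing (X.presheaf.stalk (Curv2.bcFst k X K xb)) ∧
      IsNoetherianRing ((Curv2.bc k X K).presheaf.stalk xb) ∧
      Module.Flat (X.presheaf.stalk (Curv2.bcFst k X K xb))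
        ((Curv2.bc k X K).presheaf.stalk xb) ∧
      Function.Bijective ((residue ((Curv2.bc k X K).presheaf.stalk xb)).comp
        (algebraMap K ((Curv2.bc k X K).presheaf.stalk xb))) := by
  letI ovB : (Curv2.bc k X K).Over (Spec (CommRingCat.of K)) := ⟨Curv2.bcSnd k X K⟩
  letI algKA' := Curv2.stalkAlgebra K (Curv2.bc k X K) xb
  letI alg := ((Curv2.bcFst k X K).stalkMap xb).hom.toAlgebra
  haveI : LocallyOfFiniteType ((Curv2.bc k X K) ↘ Spec (CommRingCat.of K)) :=
    MorphismProperty.pullback_snd (P := @LocallyOfFiniteType) _ _ inferInstance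
  haveI : IsLocallyNoetherian X :=
    LocallyOfFiniteType.isLocallyNoetherian (X ↘ Spec (CommRingCat.of k))
  haveI : IsLocallyNoetherian (Curv2.bc k X K) :=
    LocallyOfFiniteType.isLocallyNoetherian ((Curv2.bc k X K) ↘ Spec (CommRingCat.of K))
  haveI : Flat (Spec.map (CommRingCat.ofHom (algebraMap k K))) :=
    Flat.SpecMap_iff.mpr (RingHom.flat_algebraMap_iff.mpr inferInstance)
  haveI : Flat (Curv2.bcFst k X K) :=
    MorphismProperty.pullback_fst (P := @Flat) _ _ inferInstance
  haveI : IsIntegralHom (Spec.map (CommRingCat.ofHom (algebraMap k K))) := by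
    rw [IsIntegralHom.SpecMap_iff]
    exact algebraMap_isIntegral_iff.mpr inferInstance
  haveI : IsIntegralHom (Curv2.bcFst k X K) := inferInstance
  have hxbcl : IsClosed ({xb} : Set (Curv2.bc k X K)) :=
    Groth.Agent.Lib.NodeEtaleH3.isClosed_of_integral (Curv2.bcFst k X K) xb hcl
  refine ⟨inferInstance, inferInstance, Flat.stalkMap (Curv2.bcFst k X K) xb, ?_⟩
  have hfin := Groth.Agent.Lib.InsepRamH3.finite_resMap K (Curv2.bc k X K) xb hxbcl
  letI := Curv2.resAlgebra K (Curv2.bc k X K) xb
  haveI : Module.Finite K ((Curv2.bc k X K).residueField xb) := hfin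
  have hbij : Function.Bijective (Curv2.resMap K (Curv2.bc k X K) xb) :=
    IsAlgClosed.algebraMap_bijective_of_isIntegral (k := K)
      (K := (Curv2.bc k X K).residueField xb)
  exact hbij

end Geom

end Groth.Agent.Lib.NodeCritH3
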