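import Mathlib
import Groth.Prelude
import Groth.Agent.Lib.NodeBC1_helper3
import Groth.Agent.Lib.NodeCrit6_helper3

/-!
# Nodes and arbitrary algebraically closed base extensions, part 2 (helper3)

For `X` locally of finite type over `k`, and `K/k` an arbitrary field extension:

* `isClosed_of_isClosed_bcFst` : a point of `X_K` over a closed point of `X` is closed.
* `geom_package'` : the structure of the stalk map of `X_K → X` at a closed point (`K`
  algebraically closed, not necessarily algebraic over `k`).
* `map_maximalIdeal_iff_isSeparable'` : `𝔪_x 𝒪_{X_K, xb} = 𝔪_{xb}` iff `κ(x)/k` is separable (`K`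
  algebraically closed, not necessarily algebraic over `k`).

APPEND-ONLY once landed.
-/

set_option autoImplicit false
set_option linter.style.haveILetI false
universe u

open CategoryTheory CategoryTheory.Limits AlgebraicGeometry IsLocalRing

namespace Groth.Agent.Lib.NodeBCH3

open Groth.Agent.Lib.NodeCritH3

section Closed

variable (k : Type u) [Field k] (X : Scheme.{u}) [X.Over (Spec (CommRingCat.of k))]
  [LocallyOfFiniteType (X ↘ Spec (CommRingCat.of k))]
  (K : Type u) [Field K] [Algebra k K]

set_option maxHeartbeats 1600000 in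
/-- A point of `X_K` over a closed point of `X` is closed (`K/k` arbitrary). -/
theorem isClosed_of_isClosed_bcFst (z : Curv2.bc k X K)
    (hx : IsClosed ({Curv2.bcFst k X K z} : Set X)) :
    IsClosed ({z} : Set (Curv2.bc k X K)) := by
  obtain ⟨x, hxz⟩ : ∃ x, x = Curv2.bcFst k X K z := ⟨_, rfl⟩
  rw [← hxz] at hx
  haveI hci : IsClosedImmersion (X.fromSpecResidueField x) :=
    isClosed_singleton_iff_isClosedImmersion.mp hx
  have hpt : X.fromSpecResidueField x (IsLocalRing.closedPoint (X.residueField x)) =
      Curv2.bcFst k X K z := by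
    rw [← hxz]
    have := Scheme.range_fromSpecResidueField x
    have h1 : X.fromSpecResidueField x (IsLocalRing.closedPoint (X.residueField x)) ∈
        Set.range (X.fromSpecResidueField x) := ⟨_, rfl⟩
    rw [this] at h1
    exact h1
  obtain ⟨w, -, hw2⟩ := Scheme.Pullback.exists_preimage_pullback
    (f := X.fromSpecResidueField x) (g := Curv2.bcFst k X K) _ z hpt
  haveI : IsClosedImmersion (pullback.snd (X.fromSpecResidueField x) (Curv2.bcFst k X K)) :=
    MorphismProperty.pullback_snd (P := @IsClosedImmersion) _ _ inferInstance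
  -- the composite `Spec κ(x) → X → Spec k` is finite
  have hfin0 : IsFinite (X.fromSpecResidueField x ≫ (X ↘ Spec (CommRingCat.of k))) := by
    rw [isFinite_iff_locallyOfFiniteType_of_jacobsonSpace]
    infer_instance
  haveI : IsFinite (pullback.snd (X.fromSpecResidueField x ≫ (X ↘ Spec (CommRingCat.of k)))
      (Spec.map (CommRingCat.ofHom (algebraMap k K)))) :=
    MorphismProperty.pullback_snd (P := @IsFinite) _ _ hfin0
  have hcomp : pullback.snd (X.fromSpecResidueField x) (Curv2.bcFst k X K) ≫ Curv2.bcSnd k X K =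
      (pullbackRightPullbackFstIso (X ↘ Spec (CommRingCat.of k))
        (Spec.map (CommRingCat.ofHom (algebraMap k K))) (X.fromSpecResidueField x)).hom ≫
        pullback.snd _ _ :=
    (pullbackRightPullbackFstIso_hom_snd _ _ _).symm
  haveI : IsFinite (pullback.snd (X.fromSpecResidueField x) (Curv2.bcFst k X K) ≫
      Curv2.bcSnd k X K) := by
    rw [hcomp]
    infer_instance
  have hwcl : IsClosed ({w} : Set ↑(pullback (X.fromSpecResidueField x) (Curv2.bcFst k X K))) := by
    refine Groth.Agent.Lib.NodeEtaleH3.isClosed_of_integral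
      (pullback.snd (X.fromSpecResidueField x) (Curv2.bcFst k X K) ≫ Curv2.bcSnd k X K) w ?_
    have : (pullback.snd (X.fromSpecResidueField x) (Curv2.bcFst k X K) ≫ Curv2.bcSnd k X K) w =
        IsLocalRing.closedPoint K := Subsingleton.elim (α := PrimeSpectrum K) _ _
    rw [this]
    exact IsLocalRing.isClosed_singleton_closedPoint K
  have := (pullback.snd (X.fromSpecResidueField x)
    (Curv2.bcFst k X K)).isClosedEmbedding.isClosedMap _ hwcl
  rw [Set.image_singleton, hw2] at this
  exact this

end Closed

section Geom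

variable (k : Type u) [Field k] (X : Scheme.{u}) [X.Over (Spec (CommRingCat.of k))]
  [LocallyOfFiniteType (X ↘ Spec (CommRingCat.of k))]
  (K : Type u) [Field K] [Algebra k K] [IsAlgClosed K]

open Groth.Agent.Lib.InsepRamH3 Groth.Agent.Lib.LocDegH4 in
set_option maxHeartbeats 1600000 in
/-- `𝔪_x 𝒪_{X_K, xb} = 𝔪_{xb}` iff `κ(x)/k` is separable (`K` algebraically closed, arbitrary). -/
theorem map_maximalIdeal_iff_isSeparable' (xb : Curv2.bc k X K)
    (hcl : IsClosed ({Curv2.bcFst k X K xb} : Set X)) :
    letI := Curv2.resAlgebra k X (Curv2.bcFst k X K xb)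
    (maximalIdeal (X.presheaf.stalk (Curv2.bcFst k X K xb))).map
        ((Curv2.bcFst k X K).stalkMap xb).hom = maximalIdeal ((Curv2.bc k X K).presheaf.stalk xb) ↔
      Algebra.IsSeparable k (X.residueField (Curv2.bcFst k X K xb)) := by
  letI alg := ((Curv2.bcFst k X K).stalkMap xb).hom.toAlgebra
  letI algk := Curv2.stalkAlgebra k X (Curv2.bcFst k X K xb)
  haveI : IsLocalHom (algebraMap (X.presheaf.stalk (Curv2.bcFst k X K xb))
      ((Curv2.bc k X K).presheaf.stalk xb)) :=
    show IsLocalHom ((Curv2.bcFst k X K).stalkMap xb).hom from inferInstance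
  have hfin := finite_resMap k X _ hcl
  haveI : Module.Finite k (ResidueField (X.presheaf.stalk (Curv2.bcFst k X K xb))) :=
    finite_congr (Curv2.resAlgebra k X (Curv2.bcFst k X K xb)) _ (fun r => rfl) hfin
  obtain ⟨q, hqp, hq, he⟩ := eIdx_bcFst k X K (Curv2.bcFst k X K xb) xb rfl
  have hiff := length_quot_tensor_eq_one_iff (k := k)
    (R := X.presheaf.stalk (Curv2.bcFst k X K xb)) (Ω := K) q hq
  have he' : Module.length ((Curv2.bc k X K).presheaf.stalk xb)
        ((Curv2.bc k X K).presheaf.stalk xb ⧸
          (maximalIdeal (X.presheaf.stalk (Curv2.bcFst k X K xb))).map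
            (algebraMap (X.presheaf.stalk (Curv2.bcFst k X K xb))
              ((Curv2.bc k X K).presheaf.stalk xb))) = eIdx (Curv2.bcFst k X K) xb := rfl
  have h2 := map_maximalIdeal_eq_iff_length (A := X.presheaf.stalk (Curv2.bcFst k X K xb))
    (A' := (Curv2.bc k X K).presheaf.stalk xb)
  show (maximalIdeal (X.presheaf.stalk (Curv2.bcFst k X K xb))).map
      (algebraMap (X.presheaf.stalk (Curv2.bcFst k X K xb))
        ((Curv2.bc k X K).presheaf.stalk xb)) = _ ↔ _
  rw [h2, he', he, hiff]
  constructor
  · intro h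
    exact isSeparable_congr _ _ (fun r => rfl) h
  · intro h
    exact isSeparable_congr _ _ (fun r => rfl) h

set_option maxHeartbeats 1600000 in
/-- The structure of the stalk map of `X_K → X` at a closed point of `X_K`. -/
theorem geom_package' (xb : Curv2.bc k X K)
    (hxbcl : IsClosed ({xb} : Set (Curv2.bc k X K))) :
    letI : (Curv2.bc k X K).Over (Spec (CommRingCat.of K)) := ⟨Curv2.bcSnd k X K⟩
    letI := Curv2.stalkAlgebra K (Curv2.bc k X K) xb
    letI := ((Curv2.bcFst k X K).stalkMap xb).hom.toAlgebra
    IsNoetherianRing (X.presheaf.stalk (Curv2.bcFst k X K xb)) ∧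
      IsNoetherianRing ((Curv2.bc k X K).presheaf.stalk xb) ∧
      Module.Flat (X.presheaf.stalk (Curv2.bcFst k X K xb))
        ((Curv2.bc k X K).presheaf.stalk xb) ∧
      Function.Bijective ((residue ((Curv2.bc k X K).presheaf.stalk xb)).comp
        (algebraMap K ((Curv2.bc k X K).presheaf.stalk xb))) := by
  letI ovB : (Curv2.bc k X K).Over (Spec (CommRingCat.of K)) := ⟨Curv2.bcSnd k X K⟩
  letI algKA' := Curv2.stalkAlgebra K (Curv2.bc k X K) xb
  letI alg := ((Curv2.bcFst k X K).stalkMap xb).hom.toAlgebra
  haveI : LocallyOfFiniteType ((Curv2.bc k X K) ↘ Spec (CommRingCat.of K)) :=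
    MorphismProperty.pullback_snd (P := @LocallyOfFiniteType) _ _ inferInstance
  haveI : IsLocallyNoetherian X :=
    LocallyOfFiniteType.isLocallyNoetherian (X ↘ Spec (CommRingCat.of k))
  haveI : IsLocallyNoetherian (Curv2.bc k X K) :=
    LocallyOfFiniteType.isLocallyNoetherian ((Curv2.bc k X K) ↘ Spec (CommRingCat.of K))
  haveI : Flat (Spec.map (CommRingCat.ofHom (algebraMap k K))) :=
    Flat.SpecMap_iff.mpr (RingHom.flat_algebraMap_iff.mpr inferInstance)
  haveI : Flat (Curv2.bcFst k X K) :=
    MorphismProperty.pullback_fst (P := @Flat) _ _ inferInstance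
  refine ⟨inferInstance, inferInstance, Flat.stalkMap (Curv2.bcFst k X K) xb, ?_⟩
  have hfin := Groth.Agent.Lib.InsepRamH3.finite_resMap K (Curv2.bc k X K) xb hxbcl
  letI := Curv2.resAlgebra K (Curv2.bc k X K) xb
  haveI : Module.Finite K ((Curv2.bc k X K).residueField xb) := hfin
  have hbij : Function.Bijective (Curv2.resMap K (Curv2.bc k X K) xb) :=
    IsAlgClosed.algebraMap_bijective_of_isIntegral (k := K)
      (K := (Curv2.bc k X K).residueField xb)
  exact hbij

end Geom

end Groth.Agent.Lib.NodeBCH3
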