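import Mathlib
import Groth.Prelude
import Groth.Agent.Lib.NodeEtale2_helper3

/-!
# Nodes and arbitrary base extensions, part 3: dimension one and towers (helper3)

* `maximalIdeal_eq_bot_of_not_isClosed` : on a scheme of dimension `≤ 1`, the local ring at a
  non-closed point has a single prime; if it is reduced, it is a field.
* `towerIso` : `(X_K)_L ≅ X_L` for a tower `k → K → L`, compatible with the projections.
* `isOrdDoublePt_tower_iff` : transport of ordinary double points along `towerIso`.

APPEND-ONLY once landed.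
-/

set_option autoImplicit false
set_option linter.style.haveILetI false
universe u

open CategoryTheory CategoryTheory.Limits AlgebraicGeometry IsLocalRing

namespace Groth.Agent.Lib.NodeBCH3

section Dim

/-- the irreducible closed subset `closure {p}`. -/
def ptClosure {T : Type*} [TopologicalSpace T] (p : T) : TopologicalSpace.IrreducibleCloseds T :=
  ⟨closure {p}, isIrreducible_singleton.closure, isClosed_closure⟩

theorem ptClosure_lt {T : Type*} [TopologicalSpace T] [T0Space T] {a b : T} (h : b ⤳ a)
    (hne : a ≠ b) : ptClosure a < ptClosure b := by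
  have hle : closure ({a} : Set T) ⊆ closure {b} :=
    closure_minimal (Set.singleton_subset_iff.2 (specializes_iff_mem_closure.1 h)) isClosed_closure
  refine lt_of_le_of_ne hle ?_
  intro heq
  apply hne
  have h1 : closure ({a} : Set T) = closure {b} := congrArg (fun c => c.carrier) heq
  have hb : b ∈ closure ({a} : Set T) := h1 ▸ subset_closure (Set.mem_singleton b)
  exact (h.antisymm (specializes_iff_mem_closure.2 hb)).eq.symm

theorem maximalIdeal_eq_bot_of_not_isClosed (X : Scheme.{u}) (hdim : topologicalKrullDim X ≤ 1)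
    (x : X) (hx : ¬ IsClosed ({x} : Set X)) [IsReduced (X.presheaf.stalk x)] :
    maximalIdeal (X.presheaf.stalk x) = ⊥ := by
  -- a point in the closure of `x`
  obtain ⟨z, hz, hzx⟩ : ∃ z ∈ closure ({x} : Set X), z ≠ x := by
    by_contra hcon
    push_neg at hcon
    apply hx
    rw [← closure_subset_iff_isClosed]
    intro z hz
    exact hcon z hz
  have hxz : x ⤳ z := specializes_iff_mem_closure.2 hz
  have hprime : ∀ J : Ideal (X.presheaf.stalk x), J.IsPrime →
      maximalIdeal (X.presheaf.stalk x) ≤ J := by
    intro J hJ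
    by_contra hle
    let P : PrimeSpectrum (X.presheaf.stalk x) := ⟨J, hJ⟩
    have hPne : P ≠ IsLocalRing.closedPoint (X.presheaf.stalk x) := by
      intro h
      apply hle
      have : J = maximalIdeal (X.presheaf.stalk x) := congrArg PrimeSpectrum.asIdeal h
      rw [this]
    obtain ⟨η, hη⟩ : ∃ η, η = X.fromSpecStalk x P := ⟨_, rfl⟩
    have hηx : η ⤳ x := by
      have h1 : η ∈ Set.range (X.fromSpecStalk x) := ⟨P, hη.symm⟩
      rw [Scheme.range_fromSpecStalk] at h1
      exact h1
    have hηne : x ≠ η := by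
      intro h
      apply hPne
      apply (X.fromSpecStalk x).isEmbedding.injective
      rw [← hη, ← h, Scheme.fromSpecStalk_closedPoint]
    have h1 : ptClosure z < ptClosure x := ptClosure_lt hxz hzx
    have h2 : ptClosure x < ptClosure η := ptClosure_lt hηx hηne
    let l : LTSeries (TopologicalSpace.IrreducibleCloseds X) :=
      ((RelSeries.singleton _ (ptClosure z)).snoc (ptClosure x) h1).snoc (ptClosure η) (by
        rw [RelSeries.last_snoc]
        exact h2)
    have hl : l.length = 2 := rfl
    have h3 := Order.LTSeries.length_le_krullDim l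
    rw [hl] at h3
    have h4 : ((2 : ℕ) : WithBot ℕ∞) ≤ 1 := h3.trans hdim
    exact absurd h4 (by norm_cast)
  have h1 : maximalIdeal (X.presheaf.stalk x) ≤ nilradical (X.presheaf.stalk x) := by
    rw [nilradical_eq_sInf]
    exact le_sInf (fun J hJ => hprime J hJ)
  rw [nilradical_eq_zero] at h1
  exact le_bot_iff.1 h1

end Dim

section Tower

variable (k : Type u) [Field k] (X : Scheme.{u}) [X.Over (Spec (CommRingCat.of k))]
  (K : Type u) [Field K] [Algebra k K] (L : Type u) [Field L] [Algebra K L] [Algebra k L]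
  [IsScalarTower k K L]

/-- `(X_K)_L` as a scheme. -/
noncomputable abbrev bcbc : Scheme.{u} :=
  @Curv2.bc K _ (Curv2.bc k X K) ⟨Curv2.bcSnd k X K⟩ L _ _

/-- the projection `(X_K)_L ⟶ X_K`. -/
noncomputable abbrev bcbcFst : bcbc k X K L ⟶ Curv2.bc k X K :=
  @Curv2.bcFst K _ (Curv2.bc k X K) ⟨Curv2.bcSnd k X K⟩ L _ _

/-- the projection `(X_K)_L ⟶ Spec L`. -/
noncomputable abbrev bcbcSnd : bcbc k X K L ⟶ Spec (CommRingCat.of L) :=
  @Curv2.bcSnd K _ (Curv2.bc k X K) ⟨Curv2.bcSnd k X K⟩ L _ _

theorem specMap_tower :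
    Spec.map (CommRingCat.ofHom (algebraMap K L)) ≫ Spec.map (CommRingCat.ofHom (algebraMap k K)) =
      Spec.map (CommRingCat.ofHom (algebraMap k L)) := by
  rw [← Spec.map_comp]
  congr 1
  ext c
  exact (IsScalarTower.algebraMap_apply k K L c).symm

/-- `(X_K)_L ≅ X_L`. -/
noncomputable def towerIso : bcbc k X K L ≅ Curv2.bc k X L :=
  pullbackLeftPullbackSndIso (X ↘ Spec (CommRingCat.of k))
      (Spec.map (CommRingCat.ofHom (algebraMap k K)))
      (Spec.map (CommRingCat.ofHom (algebraMap K L))) ≪≫
    pullback.congrHom rfl (specMap_tower k K L)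

@[reassoc]
theorem towerIso_hom_fst :
    (towerIso k X K L).hom ≫ Curv2.bcFst k X L = bcbcFst k X K L ≫ Curv2.bcFst k X K := by
  show ((pullbackLeftPullbackSndIso (X ↘ Spec (CommRingCat.of k))
      (Spec.map (CommRingCat.ofHom (algebraMap k K)))
      (Spec.map (CommRingCat.ofHom (algebraMap K L)))) ≪≫
    pullback.congrHom rfl (specMap_tower k K L)).hom ≫ pullback.fst _ _ =
      pullback.fst _ _ ≫ pullback.fst _ _
  rw [Iso.trans_hom, pullback.congrHom_hom, Category.assoc, pullback.lift_fst, Category.comp_id,
    pullbackLeftPullbackSndIso_hom_fst]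

@[reassoc]
theorem towerIso_hom_snd :
    (towerIso k X K L).hom ≫ Curv2.bcSnd k X L = bcbcSnd k X K L := by
  show ((pullbackLeftPullbackSndIso (X ↘ Spec (CommRingCat.of k))
      (Spec.map (CommRingCat.ofHom (algebraMap k K)))
      (Spec.map (CommRingCat.ofHom (algebraMap K L)))) ≪≫
    pullback.congrHom rfl (specMap_tower k K L)).hom ≫ pullback.snd _ _ =
      pullback.snd _ _
  rw [Iso.trans_hom, pullback.congrHom_hom, Category.assoc, pullback.lift_snd, Category.comp_id,
    pullbackLeftPullbackSndIso_hom_snd]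

theorem isClosed_towerIso_iff (t : bcbc k X K L) :
    IsClosed ({(towerIso k X K L).hom t} : Set (Curv2.bc k X L)) ↔
      IsClosed ({t} : Set (bcbc k X K L)) := by
  constructor
  · intro h
    have h1 := h.preimage (towerIso k X K L).hom.continuous
    have h2 : (towerIso k X K L).hom ⁻¹' {(towerIso k X K L).hom t} = {t} := by
      ext t'
      simp only [Set.mem_preimage, Set.mem_singleton_iff]
      constructor
      · intro h3
        have := congrArg (towerIso k X K L).inv h3
        rwa [Scheme.hom_inv_apply, Scheme.hom_inv_apply] at this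
      · intro h3
        rw [h3]
    rwa [h2] at h1
  · intro h
    have h1 := h.preimage (towerIso k X K L).inv.continuous
    have h2 : (towerIso k X K L).inv ⁻¹' {t} = {(towerIso k X K L).hom t} := by
      ext t'
      simp only [Set.mem_preimage, Set.mem_singleton_iff]
      constructor
      · intro h3
        rw [← h3, Scheme.inv_hom_apply]
      · intro h3
        rw [h3, Scheme.hom_inv_apply]
    rwa [h2] at h1

variable [LocallyOfFiniteType (X ↘ Spec (CommRingCat.of k))] [IsAlgClosed L]

set_option maxHeartbeats 1600000 in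
/-- Ordinary double points transfer along `towerIso`. -/
theorem isOrdDoublePt_tower_iff (t : bcbc k X K L) (ht : IsClosed ({t} : Set (bcbc k X K L))) :
    @Curv2.IsOrdDoublePt L _ ((Curv2.bc k X L).presheaf.stalk ((towerIso k X K L).hom t)) _
        (@Curv2.stalkAlgebra L _ (Curv2.bc k X L) ⟨Curv2.bcSnd k X L⟩ ((towerIso k X K L).hom t)) _ ↔
      @Curv2.IsOrdDoublePt L _ ((bcbc k X K L).presheaf.stalk t) _
        (@Curv2.stalkAlgebra L _ (bcbc k X K L) ⟨bcbcSnd k X K L⟩ t) _ := by
  letI ovP : (Curv2.bc k X L).Over (Spec (CommRingCat.of L)) := ⟨Curv2.bcSnd k X L⟩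
  letI ovY : (Curv2.bc k X K).Over (Spec (CommRingCat.of K)) := ⟨Curv2.bcSnd k X K⟩
  letI ovQ : (bcbc k X K L).Over (Spec (CommRingCat.of L)) := ⟨bcbcSnd k X K L⟩
  haveI : LocallyOfFiniteType ((Curv2.bc k X L) ↘ Spec (CommRingCat.of L)) :=
    MorphismProperty.pullback_snd (P := @LocallyOfFiniteType) _ _ inferInstance
  haveI : LocallyOfFiniteType ((Curv2.bc k X K) ↘ Spec (CommRingCat.of K)) :=
    MorphismProperty.pullback_snd (P := @LocallyOfFiniteType) _ _ inferInstance
  haveI : LocallyOfFiniteType ((bcbc k X K L) ↘ Spec (CommRingCat.of L)) :=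
    MorphismProperty.pullback_snd (P := @LocallyOfFiniteType) _ _ inferInstance
  exact Groth.Agent.Lib.NodeEtaleH3.isOrdDoublePt_iff_of_etale L (towerIso k X K L).hom
    (towerIso_hom_snd k X K L) t ht

end Tower

end Groth.Agent.Lib.NodeBCH3
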