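import Mathlib
import Groth.Prelude
import Groth.Agent.Lib.NodeCrit6_helper3

/-!
# Nodes, part 7: a closed point is a node iff `κ(x)/k` is separable and the completion of the local
ring is a nondegenerate quadratic cone `κ[[u, v]]/(a u² + b u v + c v²)` (helper3)

* `main1587`.

APPEND-ONLY once landed.
-/

set_option autoImplicit false
set_option linter.style.haveILetI false
universe u

open CategoryTheory CategoryTheory.Limits AlgebraicGeometry IsLocalRing

attribute [local instance] Curv2.resAlgebra Curv2.stalkAlgebra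

namespace Groth.Agent.Lib.NodeCritH3

set_option maxHeartbeats 3200000 in
theorem main1587 (k : Type u) [Field k] (X : Scheme.{u}) [X.Over (Spec (CommRingCat.of k))]
    [LocallyOfFiniteType (X ↘ (Spec (CommRingCat.of k)))]
    (x : X) (hx : IsClosed ({x} : Set X)) :
    Curv2.IsNode k X x ↔
      (Algebra.IsSeparable k (X.residueField x) ∧
        ∃ a b c : X.residueField x, 4 * a * c - b ^ 2 ≠ 0 ∧
          ∃ e : AdicCompletion (IsLocalRing.maximalIdeal (X.presheaf.stalk x)) (X.presheaf.stalk x) ≃+*
              (MvPowerSeries (Fin 2) (X.residueField x) ⧸ Ideal.span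
                {(MvPowerSeries.C a * MvPowerSeries.X 0 ^ 2 + MvPowerSeries.C b * MvPowerSeries.X 0 * MvPowerSeries.X 1 +
                  MvPowerSeries.C c * MvPowerSeries.X 1 ^ 2 : MvPowerSeries (Fin 2) (X.residueField x))}),
            ∀ t : k, e (algebraMap (X.presheaf.stalk x) _ (algebraMap k (X.presheaf.stalk x) t)) =
              Ideal.Quotient.mk _ (MvPowerSeries.C (algebraMap k (X.residueField x) t))) := by
  constructor
  · rintro ⟨-, xb, rfl, hodp⟩
    letI ovB : (Curv2.bc k X (AlgebraicClosure k)).Over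
        (Spec (CommRingCat.of (AlgebraicClosure k))) := ⟨Curv2.bcSnd k X (AlgebraicClosure k)⟩
    letI algKA' := Curv2.stalkAlgebra (AlgebraicClosure k) (Curv2.bc k X (AlgebraicClosure k)) xb
    letI algAA' : Algebra (X.presheaf.stalk (Curv2.bcFst k X (AlgebraicClosure k) xb))
        ((Curv2.bc k X (AlgebraicClosure k)).presheaf.stalk xb) :=
      ((Curv2.bcFst k X (AlgebraicClosure k)).stalkMap xb).hom.toAlgebra
    obtain ⟨hNA, hNA', hflat, hK⟩ := geom_package k X (AlgebraicClosure k) xb hx
    haveI := hNA
    haveI := hNA'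
    haveI := hflat
    haveI : IsLocalHom (algebraMap (X.presheaf.stalk (Curv2.bcFst k X (AlgebraicClosure k) xb))
        ((Curv2.bc k X (AlgebraicClosure k)).presheaf.stalk xb)) :=
      show IsLocalHom ((Curv2.bcFst k X (AlgebraicClosure k)).stalkMap xb).hom from inferInstance
    obtain ⟨hred', h2', x', y', hx', hy', hgen', hxy⟩ :=
      split_of_isOrdDoublePt (AlgebraicClosure k)
        ((Curv2.bc k X (AlgebraicClosure k)).presheaf.stalk xb) hK hodp
    obtain ⟨hfinΩ, I, hI⟩ := fitt_stalk k X (AlgebraicClosure k) xb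
    haveI := hfinΩ
    have hfitt := fitt_kaehler_of_split (AlgebraicClosure k)
      ((Curv2.bc k X (AlgebraicClosure k)).presheaf.stalk xb) hK h2' x' y' hx' hy' hgen' hxy
    rw [hfitt] at hI
    have hIle : I ≤ maximalIdeal (X.presheaf.stalk (Curv2.bcFst k X (AlgebraicClosure k) xb)) := by
      apply IsLocalRing.le_maximalIdeal
      rintro rfl
      rw [Ideal.map_top] at hI
      exact Ideal.IsPrime.ne_top' hI
    have hmap : (maximalIdeal (X.presheaf.stalk (Curv2.bcFst k X (AlgebraicClosure k) xb))).map
        (algebraMap (X.presheaf.stalk (Curv2.bcFst k X (AlgebraicClosure k) xb))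
          ((Curv2.bc k X (AlgebraicClosure k)).presheaf.stalk xb)) =
        maximalIdeal ((Curv2.bc k X (AlgebraicClosure k)).presheaf.stalk xb) := by
      apply le_antisymm
      · have hloc : IsLocalHom (algebraMap
            (X.presheaf.stalk (Curv2.bcFst k X (AlgebraicClosure k) xb))
            ((Curv2.bc k X (AlgebraicClosure k)).presheaf.stalk xb)) := inferInstance
        exact ((local_hom_TFAE (algebraMap
          (X.presheaf.stalk (Curv2.bcFst k X (AlgebraicClosure k) xb))
          ((Curv2.bc k X (AlgebraicClosure k)).presheaf.stalk xb))).out 0 2).mp hloc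
      · rw [hI]
        exact Ideal.map_mono hIle
    have hsep : Algebra.IsSeparable k
        (X.residueField (Curv2.bcFst k X (AlgebraicClosure k) xb)) :=
      (map_maximalIdeal_iff_isSeparable k X (AlgebraicClosure k) xb hx).1 hmap
    obtain ⟨hrank, x0, y0, a, b, c, hx0, hy0, hgen, hdisc, hQ⟩ :=
      node_descend hmap h2' x' y' hx' hy' hgen' hxy
    haveI : Module.FaithfullyFlat (X.presheaf.stalk (Curv2.bcFst k X (AlgebraicClosure k) xb))
        ((Curv2.bc k X (AlgebraicClosure k)).presheaf.stalk xb) :=
      Module.FaithfullyFlat.of_flat_of_isLocalHom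
    have hredA : IsReduced (X.presheaf.stalk (Curv2.bcFst k X (AlgebraicClosure k) xb)) := by
      haveI := hred'
      exact isReduced_of_injective
        (algebraMap (X.presheaf.stalk (Curv2.bcFst k X (AlgebraicClosure k) xb))
          ((Curv2.bc k X (AlgebraicClosure k)).presheaf.stalk xb))
        (FaithfulSMul.algebraMap_injective _ _)
    have hcot : Module.finrank
        (ResidueField (X.presheaf.stalk (Curv2.bcFst k X (AlgebraicClosure k) xb)))
        (CotangentSpace (X.presheaf.stalk (Curv2.bcFst k X (AlgebraicClosure k) xb))) = 2 := by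
      rw [← IsLocalRing.spanFinrank_maximalIdeal_eq_finrank_cotangentSpace, hrank]
    obtain ⟨-, a', b', c', hd, e, he⟩ :=
      (Groth.Agent.Lib.QuadNodeH3.main1631 k
        (X.presheaf.stalk (Curv2.bcFst k X (AlgebraicClosure k) xb))).1
        ⟨isSeparable_congr _ _ (fun r => rfl) hsep, hredA, hcot, x0, y0, a, b, c, hx0, hy0, hgen,
          hdisc, hQ⟩
    exact ⟨hsep, a', b', c', hd, e, he⟩
  · rintro ⟨hsep, a, b, c, hdisc, e, -⟩
    haveI : Surjective (Spec.map (CommRingCat.ofHom (algebraMap k (AlgebraicClosure k)))) :=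
      ⟨fun x => ⟨IsLocalRing.closedPoint (AlgebraicClosure k),
        Subsingleton.elim (α := PrimeSpectrum k) _ _⟩⟩
    haveI : Surjective (Curv2.bcFst k X (AlgebraicClosure k)) :=
      MorphismProperty.pullback_fst (P := @Surjective) _ _ inferInstance
    obtain ⟨xb, rfl⟩ := (Curv2.bcFst k X (AlgebraicClosure k)).surjective x
    letI ovB : (Curv2.bc k X (AlgebraicClosure k)).Over
        (Spec (CommRingCat.of (AlgebraicClosure k))) := ⟨Curv2.bcSnd k X (AlgebraicClosure k)⟩
    letI algKA' := Curv2.stalkAlgebra (AlgebraicClosure k) (Curv2.bc k X (AlgebraicClosure k)) xb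
    letI algAA' : Algebra (X.presheaf.stalk (Curv2.bcFst k X (AlgebraicClosure k) xb))
        ((Curv2.bc k X (AlgebraicClosure k)).presheaf.stalk xb) :=
      ((Curv2.bcFst k X (AlgebraicClosure k)).stalkMap xb).hom.toAlgebra
    obtain ⟨hNA, hNA', hflat, hK⟩ := geom_package k X (AlgebraicClosure k) xb hx
    haveI := hNA
    haveI := hNA'
    haveI := hflat
    haveI : IsLocalHom (algebraMap (X.presheaf.stalk (Curv2.bcFst k X (AlgebraicClosure k) xb))
        ((Curv2.bc k X (AlgebraicClosure k)).presheaf.stalk xb)) :=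
      show IsLocalHom ((Curv2.bcFst k X (AlgebraicClosure k)).stalkMap xb).hom from inferInstance
    have hmap := (map_maximalIdeal_iff_isSeparable k X (AlgebraicClosure k) xb hx).2 hsep
    have hodp := isOrdDoublePt_up (AlgebraicClosure k)
      (X.presheaf.stalk (Curv2.bcFst k X (AlgebraicClosure k) xb))
      ((Curv2.bc k X (AlgebraicClosure k)).presheaf.stalk xb) hmap hK a b c hdisc e
    exact ⟨hx, xb, rfl, hodp⟩

end Groth.Agent.Lib.NodeCritH3
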