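import Mathlib
import Groth.Prelude
import Groth.Agent.Lib.NodeBC2_helper3
import Groth.Agent.Lib.NodeBC3_helper3
import Groth.Agent.Lib.NodeCrit7_helper3

/-!
# Nodes and arbitrary base extensions, part 4 (helper3)

* `node_down` : `X` locally of finite type over `k` of dimension `≤ 1`, `Ω/k` an arbitrary
  algebraically closed extension, `z` a closed point of `X_Ω` whose local ring is an ordinary double
  point over `Ω`; then the image of `z` in `X` is a node.
* `node_up` : conversely every point of `X_Ω` over a node of `X` is closed with local ring an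
  ordinary double point.
* `main1588` : `x` is a node of `X` iff `y` is a node of `X_K` (`K/k` arbitrary, `y ↦ x`).

APPEND-ONLY once landed.
-/

set_option autoImplicit false
set_option linter.style.haveILetI false
universe u

open CategoryTheory CategoryTheory.Limits AlgebraicGeometry IsLocalRing

attribute [local instance] Curv2.resAlgebra Curv2.stalkAlgebra

namespace Groth.Agent.Lib.NodeBCH3

open Groth.Agent.Lib.NodeCritH3

section Down

variable (k : Type u) [Field k] (X : Scheme.{u}) [X.Over (Spec (CommRingCat.of k))]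
  [LocallyOfFiniteType (X ↘ Spec (CommRingCat.of k))]
  (Ω : Type u) [Field Ω] [Algebra k Ω] [IsAlgClosed Ω]

set_option maxHeartbeats 3200000 in
theorem node_down (hdim : topologicalKrullDim X ≤ 1) (xb : Curv2.bc k X Ω)
    (hxb : IsClosed ({xb} : Set (Curv2.bc k X Ω)))
    (hodp : @Curv2.IsOrdDoublePt Ω _ ((Curv2.bc k X Ω).presheaf.stalk xb) _
      (@Curv2.stalkAlgebra Ω _ (Curv2.bc k X Ω) ⟨Curv2.bcSnd k X Ω⟩ xb) _) :
    Curv2.IsNode k X (Curv2.bcFst k X Ω xb) := by
  letI ovB : (Curv2.bc k X Ω).Over (Spec (CommRingCat.of Ω)) := ⟨Curv2.bcSnd k X Ω⟩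
  letI algKA' := Curv2.stalkAlgebra Ω (Curv2.bc k X Ω) xb
  letI algAA' : Algebra (X.presheaf.stalk (Curv2.bcFst k X Ω xb))
      ((Curv2.bc k X Ω).presheaf.stalk xb) :=
    ((Curv2.bcFst k X Ω).stalkMap xb).hom.toAlgebra
  obtain ⟨hNA, hNA', hflat, hK⟩ := geom_package' k X Ω xb hxb
  haveI := hNA
  haveI := hNA'
  haveI := hflat
  haveI : IsLocalHom (algebraMap (X.presheaf.stalk (Curv2.bcFst k X Ω xb))
      ((Curv2.bc k X Ω).presheaf.stalk xb)) :=
    show IsLocalHom ((Curv2.bcFst k X Ω).stalkMap xb).hom from inferInstance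
  obtain ⟨hred', h2', x', y', hx', hy', hgen', hxy⟩ :=
    split_of_isOrdDoublePt Ω ((Curv2.bc k X Ω).presheaf.stalk xb) hK hodp
  obtain ⟨hfinΩ, I, hI⟩ := fitt_stalk k X Ω xb
  haveI := hfinΩ
  have hfitt := fitt_kaehler_of_split Ω
    ((Curv2.bc k X Ω).presheaf.stalk xb) hK h2' x' y' hx' hy' hgen' hxy
  rw [hfitt] at hI
  have hIle : I ≤ maximalIdeal (X.presheaf.stalk (Curv2.bcFst k X Ω xb)) := by
    apply IsLocalRing.le_maximalIdeal
    rintro rfl
    rw [Ideal.map_top] at hI
    exact Ideal.IsPrime.ne_top' hI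
  have hmap : (maximalIdeal (X.presheaf.stalk (Curv2.bcFst k X Ω xb))).map
      (algebraMap (X.presheaf.stalk (Curv2.bcFst k X Ω xb))
        ((Curv2.bc k X Ω).presheaf.stalk xb)) =
      maximalIdeal ((Curv2.bc k X Ω).presheaf.stalk xb) := by
    apply le_antisymm
    · have hloc : IsLocalHom (algebraMap
          (X.presheaf.stalk (Curv2.bcFst k X Ω xb))
          ((Curv2.bc k X Ω).presheaf.stalk xb)) := inferInstance
      exact ((local_hom_TFAE (algebraMap
        (X.presheaf.stalk (Curv2.bcFst k X Ω xb))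
        ((Curv2.bc k X Ω).presheaf.stalk xb))).out 0 2).mp hloc
    · rw [hI]
      exact Ideal.map_mono hIle
  obtain ⟨hrank, x0, y0, a, b, c, hx0, hy0, hgen, hdisc, hQ⟩ :=
    node_descend hmap h2' x' y' hx' hy' hgen' hxy
  haveI : Module.FaithfullyFlat (X.presheaf.stalk (Curv2.bcFst k X Ω xb))
      ((Curv2.bc k X Ω).presheaf.stalk xb) :=
    Module.FaithfullyFlat.of_flat_of_isLocalHom
  have hredA : IsReduced (X.presheaf.stalk (Curv2.bcFst k X Ω xb)) := by
    haveI := hred'
    exact isReduced_of_injective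
      (algebraMap (X.presheaf.stalk (Curv2.bcFst k X Ω xb))
        ((Curv2.bc k X Ω).presheaf.stalk xb))
      (FaithfulSMul.algebraMap_injective _ _)
  -- the image point is closed
  have hx : IsClosed ({Curv2.bcFst k X Ω xb} : Set X) := by
    by_contra hncl
    haveI := hredA
    have h0 := maximalIdeal_eq_bot_of_not_isClosed X hdim (Curv2.bcFst k X Ω xb) hncl
    rw [h0, Submodule.spanFinrank_bot] at hrank
    omega
  have hsep : Algebra.IsSeparable k
      (X.residueField (Curv2.bcFst k X Ω xb)) :=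
    (map_maximalIdeal_iff_isSeparable' k X Ω xb hx).1 hmap
  have hcot : Module.finrank
      (ResidueField (X.presheaf.stalk (Curv2.bcFst k X Ω xb)))
      (CotangentSpace (X.presheaf.stalk (Curv2.bcFst k X Ω xb))) = 2 := by
    rw [← IsLocalRing.spanFinrank_maximalIdeal_eq_finrank_cotangentSpace, hrank]
  obtain ⟨-, a', b', c', hd, e, he⟩ :=
    (Groth.Agent.Lib.QuadNodeH3.main1631 k
      (X.presheaf.stalk (Curv2.bcFst k X Ω xb))).1
      ⟨isSeparable_congr _ _ (fun r => rfl) hsep, hredA, hcot, x0, y0, a, b, c, hx0, hy0, hgen,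
        hdisc, hQ⟩
  exact (main1587 k X (Curv2.bcFst k X Ω xb) hx).2 ⟨hsep, a', b', c', hd, e, he⟩

set_option maxHeartbeats 3200000 in
theorem node_up (xb : Curv2.bc k X Ω) (hnode : Curv2.IsNode k X (Curv2.bcFst k X Ω xb)) :
    IsClosed ({xb} : Set (Curv2.bc k X Ω)) ∧
      @Curv2.IsOrdDoublePt Ω _ ((Curv2.bc k X Ω).presheaf.stalk xb) _
        (@Curv2.stalkAlgebra Ω _ (Curv2.bc k X Ω) ⟨Curv2.bcSnd k X Ω⟩ xb) _ := by
  have hx : IsClosed ({Curv2.bcFst k X Ω xb} : Set X) := hnode.1
  obtain ⟨hsep, a, b, c, hdisc, e, -⟩ := (main1587 k X (Curv2.bcFst k X Ω xb) hx).1 hnode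
  have hxb : IsClosed ({xb} : Set (Curv2.bc k X Ω)) := isClosed_of_isClosed_bcFst k X Ω xb hx
  refine ⟨hxb, ?_⟩
  letI ovB : (Curv2.bc k X Ω).Over (Spec (CommRingCat.of Ω)) := ⟨Curv2.bcSnd k X Ω⟩
  letI algKA' := Curv2.stalkAlgebra Ω (Curv2.bc k X Ω) xb
  letI algAA' : Algebra (X.presheaf.stalk (Curv2.bcFst k X Ω xb))
      ((Curv2.bc k X Ω).presheaf.stalk xb) :=
    ((Curv2.bcFst k X Ω).stalkMap xb).hom.toAlgebra
  obtain ⟨hNA, hNA', hflat, hK⟩ := geom_package' k X Ω xb hxb
  haveI := hNA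
  haveI := hNA'
  haveI := hflat
  haveI : IsLocalHom (algebraMap (X.presheaf.stalk (Curv2.bcFst k X Ω xb))
      ((Curv2.bc k X Ω).presheaf.stalk xb)) :=
    show IsLocalHom ((Curv2.bcFst k X Ω).stalkMap xb).hom from inferInstance
  have hmap := (map_maximalIdeal_iff_isSeparable' k X Ω xb hx).2 hsep
  exact isOrdDoublePt_up Ω
    (X.presheaf.stalk (Curv2.bcFst k X Ω xb))
    ((Curv2.bc k X Ω).presheaf.stalk xb) hmap hK a b c hdisc e

end Down

section Main

set_option maxHeartbeats 3200000 in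
theorem main1588 (k : Type u) [Field k] (X : Scheme.{u}) [X.Over (Spec (CommRingCat.of k))]
    [LocallyOfFiniteType (X ↘ (Spec (CommRingCat.of k)))]
    (hdim : topologicalKrullDim X = 1) (K : Type u) [Field K] [Algebra k K] (y : Curv2.bc k X K) :
    Curv2.IsNode k X (Curv2.bcFst k X K y) ↔
      @Curv2.IsNode K _ (Curv2.bc k X K) ⟨Curv2.bcSnd k X K⟩ y := by
  letI ovY : (Curv2.bc k X K).Over (Spec (CommRingCat.of K)) := ⟨Curv2.bcSnd k X K⟩
  haveI : LocallyOfFiniteType ((Curv2.bc k X K) ↘ Spec (CommRingCat.of K)) :=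
    MorphismProperty.pullback_snd (P := @LocallyOfFiniteType) _ _ inferInstance
  constructor
  · intro hnode
    haveI : Surjective (Spec.map (CommRingCat.ofHom (algebraMap K (AlgebraicClosure K)))) :=
      ⟨fun x => ⟨IsLocalRing.closedPoint (AlgebraicClosure K),
        Subsingleton.elim (α := PrimeSpectrum K) _ _⟩⟩
    haveI : Surjective (bcbcFst k X K (AlgebraicClosure K)) :=
      MorphismProperty.pullback_fst (P := @Surjective) _ _ inferInstance
    obtain ⟨yb, hyb⟩ := (bcbcFst k X K (AlgebraicClosure K)).surjective y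
    have hz : Curv2.bcFst k X (AlgebraicClosure K)
        ((towerIso k X K (AlgebraicClosure K)).hom yb) = Curv2.bcFst k X K y := by
      rw [← hyb, ← Scheme.Hom.comp_apply, ← Scheme.Hom.comp_apply, towerIso_hom_fst]
    rw [← hz] at hnode
    obtain ⟨hzcl, hodp⟩ := node_up k X (AlgebraicClosure K) _ hnode
    have hybcl := (isClosed_towerIso_iff k X K (AlgebraicClosure K) yb).1 hzcl
    have hodp' := (isOrdDoublePt_tower_iff k X K (AlgebraicClosure K) yb hybcl).1 hodp
    have hycl : IsClosed ({y} : Set (Curv2.bc k X K)) := by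
      have := Groth.Agent.Lib.InsepRamH3.isClosed_bcFst K (Curv2.bc k X K) (AlgebraicClosure K)
        yb hybcl
      rwa [hyb] at this
    exact ⟨hycl, yb, hyb, hodp'⟩
  · rintro ⟨hycl, yb, hyb, hodp'⟩
    haveI : IsIntegralHom (Spec.map (CommRingCat.ofHom (algebraMap K (AlgebraicClosure K)))) := by
      rw [IsIntegralHom.SpecMap_iff]
      exact algebraMap_isIntegral_iff.mpr inferInstance
    haveI : IsIntegralHom (bcbcFst k X K (AlgebraicClosure K)) :=
      MorphismProperty.pullback_fst (P := @IsIntegralHom) _ _ inferInstance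
    have hybcl : IsClosed ({yb} : Set (bcbc k X K (AlgebraicClosure K))) :=
      Groth.Agent.Lib.NodeEtaleH3.isClosed_of_integral (bcbcFst k X K (AlgebraicClosure K)) yb
        (by rw [show (bcbcFst k X K (AlgebraicClosure K)) yb = y from hyb]; exact hycl)
    have hzcl := (isClosed_towerIso_iff k X K (AlgebraicClosure K) yb).2 hybcl
    have hodp := (isOrdDoublePt_tower_iff k X K (AlgebraicClosure K) yb hybcl).2 hodp'
    have hz : Curv2.bcFst k X (AlgebraicClosure K)
        ((towerIso k X K (AlgebraicClosure K)).hom yb) = Curv2.bcFst k X K y := by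
      rw [← hyb, ← Scheme.Hom.comp_apply, ← Scheme.Hom.comp_apply, towerIso_hom_fst]
    have := node_down k X (AlgebraicClosure K) hdim.le _ hzcl hodp
    rwa [hz] at this

end Main

end Groth.Agent.Lib.NodeBCH3
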