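import Mathlib
import Groth.Prelude.Def_W4c2arithlefschetzNode
import Groth.Agent.Lib.PSEval_helper1
import Groth.Agent.Lib.OrdSum_helper9

/-!
# The formal node `k[[t, e]]/(te)` and fixed-point ideals of its automorphisms (helper9)
-/

set_option autoImplicit false

universe u

namespace Groth.Agent.NodeK

section Krull

variable {R : Type u} [CommRing R] [IsNoetherianRing R] [IsLocalRing R]

/-- Ideals of a Noetherian local ring are closed for the `𝔞`-adic topology (`𝔞` proper). -/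
lemma mem_of_forall_mem_sup_ideal_pow (I 𝔞 : Ideal R) (h𝔞 : 𝔞 ≠ ⊤)
    (x : R) (h : ∀ N : ℕ, x ∈ I ⊔ 𝔞 ^ N) : x ∈ I := by
  have hbot := Ideal.iInf_pow_smul_eq_bot_of_isLocalRing (R := R) (M := R ⧸ I) 𝔞 h𝔞
  rw [← Ideal.Quotient.eq_zero_iff_mem]
  have hmem : (Ideal.Quotient.mk I x : R ⧸ I) ∈
      (⨅ i : ℕ, 𝔞 ^ i • ⊤ : Submodule R (R ⧸ I)) := by
    rw [Submodule.mem_iInf]
    intro N
    obtain ⟨y, hy, z, hz, rfl⟩ := Submodule.mem_sup.mp (h N)
    rw [map_add, Ideal.Quotient.eq_zero_iff_mem.mpr hy, zero_add]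
    have e : (Ideal.Quotient.mk I z : R ⧸ I) = z • (Ideal.Quotient.mk I 1) := by
      have : z • (Ideal.Quotient.mk I 1 : R ⧸ I) = Ideal.Quotient.mk I (z * 1) := rfl
      rw [this, mul_one]
    rw [e]
    exact Submodule.smul_mem_smul hz trivial
  rw [hbot] at hmem
  exact hmem

end Krull

section Lengths

variable {R : Type u} [CommRing R] {M : Type u} [AddCommGroup M] [Module R M]

/-- `ℓ(M/(P ∩ Q)) + ℓ(M/(P + Q)) = ℓ(M/P) + ℓ(M/Q)`. -/
lemma length_inf_add_sup (P Q : Submodule R M) :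
    Module.length R (M ⧸ (P ⊓ Q)) + Module.length R (M ⧸ (P ⊔ Q)) =
      Module.length R (M ⧸ P) + Module.length R (M ⧸ Q) := by
  have h1 := Groth.Agent.OrdSum.length_quot_tower (P ⊓ Q) P inf_le_left
  have h2 := Groth.Agent.OrdSum.length_quot_tower Q (P ⊔ Q) le_sup_right
  have h3 : Module.length R (↥P ⧸ (P ⊓ Q).submoduleOf P) =
      Module.length R (↥(P ⊔ Q) ⧸ Q.submoduleOf (P ⊔ Q)) :=
    (LinearMap.quotientInfEquivSupQuotient P Q).length_eq
  rw [h1, h2, h3]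
  ring

end Lengths


section Node

open MvPowerSeries

variable {k : Type u} [Field k]

/-- `X 0 ∣ X 1 * V → X 0 ∣ V` in `k[[X 0, X 1]]`. -/
lemma X0_dvd_of_dvd_X1_mul (V : MvPowerSeries (Fin 2) k)
    (h : (X 0 : MvPowerSeries (Fin 2) k) ∣ X 1 * V) : (X 0 : MvPowerSeries (Fin 2) k) ∣ V := by
  rw [X_dvd_iff] at h ⊢
  intro m hm
  have h1 := h (Finsupp.single 1 1 + m) (by
    rw [Finsupp.add_apply, hm, Finsupp.single_apply, if_neg (by decide)])
  rw [X_def, coeff_add_monomial_mul, one_mul] at h1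
  exact h1

lemma gen_eq : (X 0 * X 1 - C (0 : k) : MvPowerSeries (Fin 2) k) = X 0 * X 1 := by
  rw [map_zero, sub_zero]

lemma gen_not_isUnit : ¬ IsUnit (X 0 * X 1 - C (0 : k) : MvPowerSeries (Fin 2) k) := by
  intro h
  have h1 := (MvPowerSeries.isUnit_iff_constantCoeff).mp h
  rw [map_sub, map_mul, constantCoeff_X, zero_mul, constantCoeff_C, sub_zero] at h1
  exact not_isUnit_zero h1

instance : Nontrivial (ArLef.NodeAlg k (0 : k)) := by
  apply Ideal.Quotient.nontrivial_iff.mpr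
  rw [Ne, Ideal.span_singleton_eq_top]
  exact gen_not_isUnit

instance : IsLocalRing (ArLef.NodeAlg k (0 : k)) :=
  IsLocalRing.of_surjective' (Ideal.Quotient.mk _) Ideal.Quotient.mk_surjective

lemma t_mul_e : ArLef.NodeAlg.t (0 : k) * ArLef.NodeAlg.e (0 : k) = 0 := by
  have h : (Ideal.Quotient.mk (Ideal.span
      {(X 0 * X 1 - C (0 : k) : MvPowerSeries (Fin 2) k)})) (X 0 * X 1) = 0 := by
    rw [Ideal.Quotient.eq_zero_iff_mem]
    exact Ideal.mem_span_singleton.mpr ⟨1, by rw [mul_one, gen_eq]⟩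
  rw [map_mul] at h
  exact h

/-- Every element is `c + t r₀ + e r₁`. -/
lemma decomp (r : ArLef.NodeAlg k (0 : k)) :
    ∃ (c : k) (r0 r1 : ArLef.NodeAlg k (0 : k)),
      r = algebraMap k _ c + ArLef.NodeAlg.t (0 : k) * r0 + ArLef.NodeAlg.e (0 : k) * r1 := by
  obtain ⟨g, rfl⟩ := Ideal.Quotient.mk_surjective r
  have h1 : g - C (constantCoeff g) ∈
      Ideal.span ((fun i => (X i : MvPowerSeries (Fin 2) k) ^ 1) ''
        ((Finset.univ : Finset (Fin 2)) : Set (Fin 2))) := by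
    apply Groth.Agent.Lib.PSEvalH1.mem_span_X_pow_finset 1 Finset.univ
    intro d hd
    have hd0 : d = 0 := by
      ext i
      have := hd i (Finset.mem_univ i)
      simpa using Nat.lt_one_iff.1 this
    rw [hd0, coeff_zero_eq_constantCoeff_apply, map_sub, constantCoeff_C, sub_self]
  have h2 : Ideal.span ((fun i => (X i : MvPowerSeries (Fin 2) k) ^ 1) ''
        ((Finset.univ : Finset (Fin 2)) : Set (Fin 2))) ≤
      Ideal.span {(X 0 : MvPowerSeries (Fin 2) k), X 1} := by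
    apply Ideal.span_mono
    rintro _ ⟨i, -, rfl⟩
    fin_cases i
    · left; exact pow_one _
    · right; exact pow_one _
  obtain ⟨a, b, hab⟩ := Ideal.mem_span_pair.mp (h2 h1)
  refine ⟨constantCoeff g, Ideal.Quotient.mk _ a, Ideal.Quotient.mk _ b, ?_⟩
  have h3 : g = C (constantCoeff g) + X 0 * a + X 1 * b := by
    rw [add_assoc, mul_comm (X 0) a, mul_comm (X 1) b, hab]
    ring
  conv_lhs => rw [h3]
  rw [map_add, map_add, map_mul, map_mul]
  rfl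

lemma t_not_isUnit : ¬ IsUnit (ArLef.NodeAlg.t (0 : k)) := by
  intro h
  have h1 : IsUnit (ArLef.NodeAlg.t (0 : k) * ArLef.NodeAlg.e (0 : k)) → False := by
    rw [t_mul_e]
    exact not_isUnit_zero
  have h2 : ArLef.NodeAlg.e (0 : k) = 0 := by
    have := t_mul_e (k := k)
    exact (h.mul_right_eq_zero).mp this
  -- then `X 1 ∈ (X 0 X 1)`, impossible
  rw [Ideal.Quotient.eq_zero_iff_mem, gen_eq, Ideal.mem_span_singleton] at h2
  obtain ⟨c, hc⟩ := h2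
  have h3 := congrArg (coeff (Finsupp.single 1 1)) hc
  rw [coeff_index_single_self_X, mul_assoc, mul_comm, mul_assoc] at h3
  have h4 : coeff (Finsupp.single (1 : Fin 2) 1) ((X 1 : MvPowerSeries (Fin 2) k) * (c * X 0)) =
      coeff 0 (c * X 0) := by
    have := coeff_add_monomial_mul (R := k) (m := Finsupp.single (1 : Fin 2) 1) (n := 0)
      (φ := c * X 0) 1
    rw [add_zero, one_mul, ← X_def] at this
    exact this
  rw [h4, coeff_zero_eq_constantCoeff_apply, map_mul, constantCoeff_X, mul_zero] at h3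
  exact one_ne_zero h3

lemma e_not_isUnit : ¬ IsUnit (ArLef.NodeAlg.e (0 : k)) := by
  intro h
  have h2 : ArLef.NodeAlg.t (0 : k) = 0 := by
    have := t_mul_e (k := k)
    exact (h.mul_left_eq_zero).mp this
  rw [Ideal.Quotient.eq_zero_iff_mem, gen_eq, Ideal.mem_span_singleton] at h2
  obtain ⟨c, hc⟩ := h2
  have h3 := congrArg (coeff (Finsupp.single 0 1)) hc
  rw [coeff_index_single_self_X, mul_assoc] at h3
  have h4 : coeff (Finsupp.single (0 : Fin 2) 1) ((X 0 : MvPowerSeries (Fin 2) k) * (X 1 * c)) =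
      coeff 0 (X 1 * c) := by
    have := coeff_add_monomial_mul (R := k) (m := Finsupp.single (0 : Fin 2) 1) (n := 0)
      (φ := X 1 * c) 1
    rw [add_zero, one_mul, ← X_def] at this
    exact this
  rw [h4, coeff_zero_eq_constantCoeff_apply, map_mul, constantCoeff_X, zero_mul] at h3
  exact one_ne_zero h3

lemma maximalIdeal_eq : IsLocalRing.maximalIdeal (ArLef.NodeAlg k (0 : k)) =
    Ideal.span {ArLef.NodeAlg.t (0 : k), ArLef.NodeAlg.e (0 : k)} := by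
  apply le_antisymm
  · intro r hr
    obtain ⟨c, r0, r1, rfl⟩ := decomp r
    have h1 : ArLef.NodeAlg.t (0 : k) * r0 + ArLef.NodeAlg.e (0 : k) * r1 ∈
        Ideal.span {ArLef.NodeAlg.t (0 : k), ArLef.NodeAlg.e (0 : k)} :=
      Ideal.add_mem _ (Ideal.mul_mem_right _ _ (Ideal.subset_span (by simp)))
        (Ideal.mul_mem_right _ _ (Ideal.subset_span (by simp)))
    have h2 : ArLef.NodeAlg.t (0 : k) * r0 + ArLef.NodeAlg.e (0 : k) * r1 ∈
        IsLocalRing.maximalIdeal (ArLef.NodeAlg k (0 : k)) :=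
      Ideal.add_mem _ (Ideal.mul_mem_right _ _ ((IsLocalRing.mem_maximalIdeal _).mpr t_not_isUnit))
        (Ideal.mul_mem_right _ _ ((IsLocalRing.mem_maximalIdeal _).mpr e_not_isUnit))
    have h3 : algebraMap k (ArLef.NodeAlg k (0 : k)) c ∈
        IsLocalRing.maximalIdeal (ArLef.NodeAlg k (0 : k)) := by
      have := Ideal.sub_mem _ hr h2
      rwa [add_assoc, add_sub_cancel_right] at this
    have hc : c = 0 := by
      by_contra hc
      exact (IsLocalRing.mem_maximalIdeal _).mp h3 ((isUnit_iff_ne_zero.mpr hc).map _)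
    have h0 : algebraMap k (ArLef.NodeAlg k (0 : k)) 0 = 0 := map_zero _
    rw [hc, h0, zero_add]
    exact h1
  · rw [Ideal.span_le]
    rintro x (rfl | rfl)
    · exact (IsLocalRing.mem_maximalIdeal _).mpr t_not_isUnit
    · exact (IsLocalRing.mem_maximalIdeal _).mpr e_not_isUnit

lemma span_t_inf_span_e : Ideal.span {ArLef.NodeAlg.t (0 : k)} ⊓
    Ideal.span {ArLef.NodeAlg.e (0 : k)} = ⊥ := by
  rw [eq_bot_iff]
  rintro x ⟨h1, h2⟩
  obtain ⟨u, rfl⟩ := Ideal.mem_span_singleton'.mp h1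
  obtain ⟨v, hv⟩ := Ideal.mem_span_singleton'.mp h2
  obtain ⟨U, rfl⟩ := Ideal.Quotient.mk_surjective u
  obtain ⟨V, rfl⟩ := Ideal.Quotient.mk_surjective v
  have h3 : V * X 1 - U * X 0 ∈
      Ideal.span {(X 0 * X 1 - C (0 : k) : MvPowerSeries (Fin 2) k)} := by
    rw [← Ideal.Quotient.eq_zero_iff_mem, map_sub, map_mul, map_mul, sub_eq_zero]
    exact hv
  rw [gen_eq, Ideal.mem_span_singleton] at h3
  obtain ⟨W, hW⟩ := h3
  have h4 : (X 0 : MvPowerSeries (Fin 2) k) ∣ X 1 * V :=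
    ⟨U + X 1 * W, by linear_combination hW⟩
  obtain ⟨V', rfl⟩ := X0_dvd_of_dvd_X1_mul V h4
  show _ = (0 : ArLef.NodeAlg k (0 : k))
  rw [← hv, ← map_mul, Ideal.Quotient.eq_zero_iff_mem, gen_eq, Ideal.mem_span_singleton]
  exact ⟨V', by ring⟩

end Node


section Fix

variable {k : Type u} [Field k]

local notation "𝔸" => ArLef.NodeAlg k (0 : k)
local notation "𝕥" => ArLef.NodeAlg.t (0 : k)
local notation "𝕖" => ArLef.NodeAlg.e (0 : k)

lemma span_pair_ne_top : Ideal.span {𝕥, 𝕖} ≠ (⊤ : Ideal 𝔸) := by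
  rw [← maximalIdeal_eq]
  exact Ideal.IsPrime.ne_top'

/-- A `k`-algebra endomorphism is the identity modulo `J` up to `𝔪^N` when it is so on `t, e`. -/
lemma sub_mem_sup_pow (σ : 𝔸 →ₐ[k] 𝔸) (J : Ideal 𝔸) (ht : σ 𝕥 - 𝕥 ∈ J) (he : σ 𝕖 - 𝕖 ∈ J)
    (N : ℕ) : ∀ r : 𝔸, σ r - r ∈ J ⊔ (Ideal.span {𝕥, 𝕖} : Ideal 𝔸) ^ N := by
  induction N with
  | zero =>
    intro r
    have h0 : (Ideal.span {𝕥, 𝕖} : Ideal 𝔸) ^ 0 = ⊤ := Ideal.one_eq_top
    rw [h0, sup_top_eq]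
    trivial
  | succ N ih =>
    intro r
    obtain ⟨c, r0, r1, rfl⟩ := decomp r
    have e1 : σ (algebraMap k 𝔸 c + 𝕥 * r0 + 𝕖 * r1) - (algebraMap k 𝔸 c + 𝕥 * r0 + 𝕖 * r1) =
        (σ 𝕥 - 𝕥) * σ r0 + 𝕥 * (σ r0 - r0) + ((σ 𝕖 - 𝕖) * σ r1 + 𝕖 * (σ r1 - r1)) := by
      rw [map_add, map_add, map_mul, map_mul, AlgHom.commutes]
      ring
    rw [e1]
    have key : ∀ (x y : 𝔸), x ∈ Ideal.span {𝕥, 𝕖} → y ∈ J ⊔ (Ideal.span {𝕥, 𝕖} : Ideal 𝔸) ^ N →
        x * y ∈ J ⊔ (Ideal.span {𝕥, 𝕖} : Ideal 𝔸) ^ (N + 1) := by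
      intro x y hx hy
      obtain ⟨a, ha, b, hb, rfl⟩ := Submodule.mem_sup.mp hy
      rw [mul_add]
      refine Ideal.add_mem _ (Ideal.mem_sup_left (Ideal.mul_mem_left _ _ ha))
        (Ideal.mem_sup_right ?_)
      have hs : (Ideal.span {𝕥, 𝕖} : Ideal 𝔸) ^ (N + 1) =
          (Ideal.span {𝕥, 𝕖} : Ideal 𝔸) ^ N * Ideal.span {𝕥, 𝕖} := rfl
      rw [hs, mul_comm x b]
      exact Ideal.mul_mem_mul hb hx
    refine Ideal.add_mem _ (Ideal.add_mem _ ?_ ?_) (Ideal.add_mem _ ?_ ?_)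
    · exact Ideal.mem_sup_left (Ideal.mul_mem_right _ _ ht)
    · exact key _ _ (Ideal.subset_span (by simp)) (ih r0)
    · exact Ideal.mem_sup_left (Ideal.mul_mem_right _ _ he)
    · exact key _ _ (Ideal.subset_span (by simp)) (ih r1)

lemma fixIdeal_le (σ : 𝔸 →ₐ[k] 𝔸) (J : Ideal 𝔸) (ht : σ 𝕥 - 𝕥 ∈ J) (he : σ 𝕖 - 𝕖 ∈ J) :
    ArLef.fixIdeal σ ≤ J := by
  unfold ArLef.fixIdeal
  rw [Ideal.span_le]
  rintro _ ⟨r, rfl⟩
  exact mem_of_forall_mem_sup_ideal_pow J _ span_pair_ne_top _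
    (fun N => sub_mem_sup_pow σ J ht he N r)

theorem main (σ : 𝔸 ≃ₐ[k] 𝔸) (α β : 𝔸ˣ) (ht : σ 𝕥 = (α : 𝔸) * 𝕥) (he : σ 𝕖 = (β : 𝔸) * 𝕖) :
    Module.length 𝔸 (𝔸 ⧸ ArLef.fixIdeal σ) + 1 =
      Module.length 𝔸 (𝔸 ⧸ (ArLef.fixIdeal σ ⊔ Ideal.span ({𝕥} : Set 𝔸))) +
        Module.length 𝔸 (𝔸 ⧸ (ArLef.fixIdeal σ ⊔ Ideal.span ({𝕖} : Set 𝔸))) := by
  set I1 : Ideal 𝔸 := Ideal.span {((α : 𝔸) - 1) * 𝕥} with hI1
  set I2 : Ideal 𝔸 := Ideal.span {((β : 𝔸) - 1) * 𝕖} with hI2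
  have h1t : I1 ≤ Ideal.span {𝕥} := by
    rw [hI1, Ideal.span_singleton_le_span_singleton]
    exact Dvd.intro_left _ rfl
  have h2e : I2 ≤ Ideal.span {𝕖} := by
    rw [hI2, Ideal.span_singleton_le_span_singleton]
    exact Dvd.intro_left _ rfl
  have hst : σ 𝕥 - 𝕥 = ((α : 𝔸) - 1) * 𝕥 := by rw [ht]; ring
  have hse : σ 𝕖 - 𝕖 = ((β : 𝔸) - 1) * 𝕖 := by rw [he]; ring
  have hI : ArLef.fixIdeal σ = I1 ⊔ I2 := by
    apply le_antisymm
    · apply fixIdeal_le (σ : 𝔸 →ₐ[k] 𝔸)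
      · show σ 𝕥 - 𝕥 ∈ _
        rw [hst]
        exact Ideal.mem_sup_left (Ideal.mem_span_singleton_self _)
      · show σ 𝕖 - 𝕖 ∈ _
        rw [hse]
        exact Ideal.mem_sup_right (Ideal.mem_span_singleton_self _)
    · rw [sup_le_iff, hI1, hI2, Ideal.span_singleton_le_iff_mem, Ideal.span_singleton_le_iff_mem,
        ← hst, ← hse]
      exact ⟨Ideal.subset_span ⟨𝕥, rfl⟩, Ideal.subset_span ⟨𝕖, rfl⟩⟩
  have hJ1 : ArLef.fixIdeal σ ⊔ Ideal.span ({𝕥} : Set 𝔸) = Ideal.span {𝕥} ⊔ I2 := by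
    rw [hI]
    apply le_antisymm
    · exact sup_le (sup_le (h1t.trans le_sup_left) le_sup_right) le_sup_left
    · exact sup_le le_sup_right (le_sup_right.trans le_sup_left)
  have hJ2 : ArLef.fixIdeal σ ⊔ Ideal.span ({𝕖} : Set 𝔸) = Ideal.span {𝕖} ⊔ I1 := by
    rw [hI]
    apply le_antisymm
    · exact sup_le (sup_le le_sup_right (h2e.trans le_sup_left)) le_sup_left
    · exact sup_le le_sup_right (le_sup_left.trans le_sup_left)
  have hinf : (Ideal.span {𝕥} ⊔ I2) ⊓ (Ideal.span {𝕖} ⊔ I1) = I1 ⊔ I2 := by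
    apply le_antisymm
    · rintro x ⟨hx1, hx2⟩
      obtain ⟨a, ha, b, hb, rfl⟩ := Submodule.mem_sup.mp hx1
      obtain ⟨c, hc, d, hd, hcd⟩ := Submodule.mem_sup.mp hx2
      have h0 : a - d ∈ Ideal.span {𝕥} ⊓ Ideal.span {𝕖} := by
        refine ⟨Ideal.sub_mem _ ha (h1t hd), ?_⟩
        have : a - d = c - b := by linear_combination -hcd
        rw [this]
        exact Ideal.sub_mem _ hc (h2e hb)
      rw [span_t_inf_span_e, Ideal.mem_bot, sub_eq_zero] at h0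
      rw [h0]
      exact Ideal.add_mem _ (Ideal.mem_sup_left hd) (Ideal.mem_sup_right hb)
    · exact le_inf (sup_le (h1t.trans le_sup_left) le_sup_right)
        (sup_le le_sup_right (h2e.trans le_sup_left))
  have hsup : (Ideal.span {𝕥} ⊔ I2) ⊔ (Ideal.span {𝕖} ⊔ I1) =
      IsLocalRing.maximalIdeal 𝔸 := by
    rw [maximalIdeal_eq]
    apply le_antisymm
    · refine sup_le (sup_le ?_ (h2e.trans ?_)) (sup_le ?_ (h1t.trans ?_)) <;>
      · rw [Ideal.span_singleton_le_iff_mem]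
        exact Ideal.subset_span (by simp)
    · rw [Ideal.span_le]
      rintro x (rfl | rfl)
      · exact Ideal.mem_sup_left (Ideal.mem_sup_left (Ideal.mem_span_singleton_self _))
      · exact Ideal.mem_sup_right (Ideal.mem_sup_left (Ideal.mem_span_singleton_self _))
  have hlen := length_inf_add_sup (R := 𝔸) (M := 𝔸) (Ideal.span {𝕥} ⊔ I2) (Ideal.span {𝕖} ⊔ I1)
  have hone : Module.length 𝔸 (𝔸 ⧸ IsLocalRing.maximalIdeal 𝔸) = 1 := by
    rw [Module.length_eq_one_iff]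
    rw [isSimpleModule_iff_isCoatom]  -- placeholder
    exact (IsLocalRing.maximalIdeal.isMaximal 𝔸).out
  rw [hJ1, hJ2, hI, ← hinf, ← hlen]
  congr 1
  have : Module.length 𝔸 (𝔸 ⧸ (Ideal.span {𝕥} ⊔ I2 ⊔ (Ideal.span {𝕖} ⊔ I1))) = 1 := by
    rw [hsup]
    exact hone
  exact this.symm

end Fix

end Groth.Agent.NodeK
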