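import Mathlib
import Groth.Prelude.Def_W4c2arithlefschetzNode
import Groth.Agent.Lib.PSEval_helper1
import Groth.Agent.Lib.NodeK_helper9

/-!
# The formal double point `B[[t, e]]/(te - a)` over a ring `B` (helper9)
-/

set_option autoImplicit false

universe u

namespace Groth.Agent.NodeB

open MvPowerSeries

section General

variable {B : Type u} [CommRing B] (a : B)

local notation "𝔑" => ArLef.NodeAlg B a
local notation "𝕥" => ArLef.NodeAlg.t a
local notation "𝕖" => ArLef.NodeAlg.e a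

lemma algebraMap_eq (b : B) : algebraMap B 𝔑 b = Ideal.Quotient.mk _ (C b) := rfl

lemma t_mul_e : 𝕥 * 𝕖 = algebraMap B 𝔑 a := by
  have h : (Ideal.Quotient.mk (Ideal.span
      {(X 0 * X 1 - C a : MvPowerSeries (Fin 2) B)})) (X 0 * X 1 - C a) = 0 := by
    rw [Ideal.Quotient.eq_zero_iff_mem]
    exact Ideal.mem_span_singleton_self _
  rw [map_sub, map_mul, sub_eq_zero] at h
  exact h

/-- Every element is `b + t r₀ + e r₁`. -/
lemma decomp (r : 𝔑) :
    ∃ (c : B) (r0 r1 : 𝔑), r = algebraMap B 𝔑 c + 𝕥 * r0 + 𝕖 * r1 := by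
  obtain ⟨g, rfl⟩ := Ideal.Quotient.mk_surjective r
  have h1 : g - C (constantCoeff g) ∈
      Ideal.span ((fun i => (X i : MvPowerSeries (Fin 2) B) ^ 1) ''
        ((Finset.univ : Finset (Fin 2)) : Set (Fin 2))) := by
    apply Groth.Agent.Lib.PSEvalH1.mem_span_X_pow_finset 1 Finset.univ
    intro d hd
    have hd0 : d = 0 := by
      ext i
      have := hd i (Finset.mem_univ i)
      simpa using Nat.lt_one_iff.1 this
    rw [hd0, coeff_zero_eq_constantCoeff_apply, map_sub, constantCoeff_C, sub_self]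
  have h2 : Ideal.span ((fun i => (X i : MvPowerSeries (Fin 2) B) ^ 1) ''
        ((Finset.univ : Finset (Fin 2)) : Set (Fin 2))) ≤
      Ideal.span {(X 0 : MvPowerSeries (Fin 2) B), X 1} := by
    apply Ideal.span_mono
    rintro _ ⟨i, -, rfl⟩
    fin_cases i
    · left; exact pow_one _
    · right; exact pow_one _
  obtain ⟨p, q, hpq⟩ := Ideal.mem_span_pair.mp (h2 h1)
  refine ⟨constantCoeff g, Ideal.Quotient.mk _ p, Ideal.Quotient.mk _ q, ?_⟩
  have h3 : g = C (constantCoeff g) + X 0 * p + X 1 * q := by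
    rw [add_assoc, mul_comm (X 0) p, mul_comm (X 1) q, hpq]
    ring
  conv_lhs => rw [h3]
  rw [map_add, map_add, map_mul, map_mul]
  rfl

/-- A ring endomorphism is the identity modulo `J` up to `(t, e)^N` when it is so on constants
and on `t`, `e`. -/
lemma sub_mem_sup_pow (σ : 𝔑 →+* 𝔑) (J : Ideal 𝔑)
    (hB : ∀ b : B, σ (algebraMap B 𝔑 b) - algebraMap B 𝔑 b ∈ J)
    (ht : σ 𝕥 - 𝕥 ∈ J) (he : σ 𝕖 - 𝕖 ∈ J)
    (N : ℕ) : ∀ r : 𝔑, σ r - r ∈ J ⊔ (Ideal.span {𝕥, 𝕖} : Ideal 𝔑) ^ N := by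
  induction N with
  | zero =>
    intro r
    have h0 : (Ideal.span {𝕥, 𝕖} : Ideal 𝔑) ^ 0 = ⊤ := Ideal.one_eq_top
    rw [h0, sup_top_eq]
    trivial
  | succ N ih =>
    intro r
    obtain ⟨c, r0, r1, rfl⟩ := decomp a r
    have e1 : σ (algebraMap B 𝔑 c + 𝕥 * r0 + 𝕖 * r1) - (algebraMap B 𝔑 c + 𝕥 * r0 + 𝕖 * r1) =
        (σ (algebraMap B 𝔑 c) - algebraMap B 𝔑 c) +
        ((σ 𝕥 - 𝕥) * σ r0 + 𝕥 * (σ r0 - r0)) + ((σ 𝕖 - 𝕖) * σ r1 + 𝕖 * (σ r1 - r1)) := by
      rw [map_add, map_add, map_mul, map_mul]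
      ring
    rw [e1]
    have key : ∀ (x y : 𝔑), x ∈ (Ideal.span {𝕥, 𝕖} : Ideal 𝔑) →
        y ∈ J ⊔ (Ideal.span {𝕥, 𝕖} : Ideal 𝔑) ^ N →
        x * y ∈ J ⊔ (Ideal.span {𝕥, 𝕖} : Ideal 𝔑) ^ (N + 1) := by
      intro x y hx hy
      obtain ⟨p, hp, q, hq, rfl⟩ := Submodule.mem_sup.mp hy
      rw [mul_add]
      refine Ideal.add_mem _ (Ideal.mem_sup_left (Ideal.mul_mem_left _ _ hp))
        (Ideal.mem_sup_right ?_)
      have hs : (Ideal.span {𝕥, 𝕖} : Ideal 𝔑) ^ (N + 1) =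
          (Ideal.span {𝕥, 𝕖} : Ideal 𝔑) ^ N * Ideal.span {𝕥, 𝕖} := rfl
      rw [hs, mul_comm x q]
      exact Ideal.mul_mem_mul hq hx
    refine Ideal.add_mem _ (Ideal.add_mem _ ?_ (Ideal.add_mem _ ?_ ?_)) (Ideal.add_mem _ ?_ ?_)
    · exact Ideal.mem_sup_left (hB c)
    · exact Ideal.mem_sup_left (Ideal.mul_mem_right _ _ ht)
    · exact key _ _ (Ideal.subset_span (by simp)) (ih r0)
    · exact Ideal.mem_sup_left (Ideal.mul_mem_right _ _ he)
    · exact key _ _ (Ideal.subset_span (by simp)) (ih r1)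

end General

section Local

variable {B : Type u} [CommRing B] [IsLocalRing B] {a : B} (ha : a ∈ IsLocalRing.maximalIdeal B)

local notation "𝔑" => ArLef.NodeAlg B a
local notation "𝕥" => ArLef.NodeAlg.t a
local notation "𝕖" => ArLef.NodeAlg.e a

include ha

lemma gen_not_isUnit : ¬ IsUnit (X 0 * X 1 - C a : MvPowerSeries (Fin 2) B) := by
  intro h
  have h1 := (MvPowerSeries.isUnit_iff_constantCoeff).mp h
  rw [map_sub, map_mul, constantCoeff_X, zero_mul, constantCoeff_C, zero_sub, IsUnit.neg_iff] at h1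
  exact ha h1

lemma nontrivial : Nontrivial 𝔑 := by
  apply Ideal.Quotient.nontrivial_iff.mpr
  rw [Ne, Ideal.span_singleton_eq_top]
  exact gen_not_isUnit ha

lemma isLocalRing : IsLocalRing 𝔑 :=
  haveI := nontrivial ha
  IsLocalRing.of_surjective' (Ideal.Quotient.mk _) Ideal.Quotient.mk_surjective

lemma X_not_isUnit (i : Fin 2) : ¬ IsUnit (X i : MvPowerSeries (Fin 2) B) := by
  intro h
  have h1 := (MvPowerSeries.isUnit_iff_constantCoeff).mp h
  rw [constantCoeff_X] at h1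
  exact not_isUnit_zero h1

lemma t_not_isUnit : ¬ IsUnit 𝕥 := by
  haveI := nontrivial ha
  haveI : IsLocalHom (Ideal.Quotient.mk (Ideal.span
      {(X 0 * X 1 - C a : MvPowerSeries (Fin 2) B)})) :=
    IsLocalHom.of_surjective _ Ideal.Quotient.mk_surjective
  intro h
  exact X_not_isUnit ha 0 (IsLocalHom.map_nonunit _ h)

lemma e_not_isUnit : ¬ IsUnit 𝕖 := by
  haveI := nontrivial ha
  haveI : IsLocalHom (Ideal.Quotient.mk (Ideal.span
      {(X 0 * X 1 - C a : MvPowerSeries (Fin 2) B)})) :=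
    IsLocalHom.of_surjective _ Ideal.Quotient.mk_surjective
  intro h
  exact X_not_isUnit ha 1 (IsLocalHom.map_nonunit _ h)

lemma span_pair_le [IsLocalRing 𝔑] :
    (Ideal.span {𝕥, 𝕖} : Ideal 𝔑) ≤ IsLocalRing.maximalIdeal 𝔑 := by
  rw [Ideal.span_le]
  rintro x (rfl | rfl)
  · exact (IsLocalRing.mem_maximalIdeal _).mpr (t_not_isUnit ha)
  · exact (IsLocalRing.mem_maximalIdeal _).mpr (e_not_isUnit ha)

lemma span_pair_ne_top : (Ideal.span {𝕥, 𝕖} : Ideal 𝔑) ≠ ⊤ := by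
  haveI := isLocalRing ha
  intro h
  have := span_pair_le ha
  rw [h, top_le_iff] at this
  exact Ideal.IsPrime.ne_top' this

lemma fixIdeal_le [IsNoetherianRing B] (σ : 𝔑 →+* 𝔑) (J : Ideal 𝔑)
    (hB : ∀ b : B, σ (algebraMap B 𝔑 b) - algebraMap B 𝔑 b ∈ J)
    (ht : σ 𝕥 - 𝕥 ∈ J) (he : σ 𝕖 - 𝕖 ∈ J) : ArLef.fixIdeal σ ≤ J := by
  haveI := isLocalRing ha
  unfold ArLef.fixIdeal
  rw [Ideal.span_le]
  rintro _ ⟨r, rfl⟩
  exact Groth.Agent.NodeK.mem_of_forall_mem_sup_ideal_pow J _ (span_pair_ne_top ha) _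
    (fun N => sub_mem_sup_pow a σ J hB ht he N r)

end Local


section NZD

variable {B : Type u} [CommRing B] [IsDomain B] {a : B} (ha0 : a ≠ 0)

local notation "𝔑" => ArLef.NodeAlg B a
local notation "𝕥" => ArLef.NodeAlg.t a
local notation "𝕖" => ArLef.NodeAlg.e a

include ha0

/-- The variables are non-zero-divisors modulo `X 0 * X 1 - a`. -/
lemma mem_of_X_mul_mem (i : Fin 2) (R : MvPowerSeries (Fin 2) B)
    (h : X i * R ∈ Ideal.span {(X 0 * X 1 - C a : MvPowerSeries (Fin 2) B)}) :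
    R ∈ Ideal.span {(X 0 * X 1 - C a : MvPowerSeries (Fin 2) B)} := by
  rw [Ideal.mem_span_singleton] at h ⊢
  obtain ⟨W, hW⟩ := h
  have hXW : (X i : MvPowerSeries (Fin 2) B) ∣ W := by
    rw [X_dvd_iff]
    intro m hm
    have h1 : coeff m (X i * R) = 0 := (X_dvd_iff.mp (Dvd.intro _ rfl)) m hm
    have h2 : coeff m (X 0 * X 1 * W) = 0 := by
      have : (X i : MvPowerSeries (Fin 2) B) ∣ X 0 * X 1 * W := by
        obtain rfl | rfl : i = 0 ∨ i = 1 := by
          fin_cases i <;> simp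
        · exact ⟨X 1 * W, by ring⟩
        · exact ⟨X 0 * W, by ring⟩
      exact (X_dvd_iff.mp this) m hm
    have h3 := congrArg (coeff m) hW
    rw [h1, sub_mul, map_sub, h2, zero_sub, coeff_C_mul] at h3
    have h4 : a * coeff m W = 0 := by
      rw [eq_comm, neg_eq_zero] at h3
      exact h3
    exact (mul_eq_zero.mp h4).resolve_left ha0
  obtain ⟨W', rfl⟩ := hXW
  refine ⟨W', ?_⟩
  have hX0 : (X i : MvPowerSeries (Fin 2) B) ≠ 0 := by
    intro h0
    have := congrArg (coeff (Finsupp.single i 1)) h0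
    rw [coeff_index_single_self_X, map_zero] at this
    exact one_ne_zero this
  apply mul_left_cancel₀ hX0
  rw [hW]
  ring

lemma eq_zero_of_t_mul (r : 𝔑) (h : 𝕥 * r = 0) : r = 0 := by
  obtain ⟨R, rfl⟩ := Ideal.Quotient.mk_surjective r
  rw [← map_mul, Ideal.Quotient.eq_zero_iff_mem] at h
  rw [Ideal.Quotient.eq_zero_iff_mem]
  exact mem_of_X_mul_mem ha0 0 R h

lemma eq_zero_of_e_mul (r : 𝔑) (h : 𝕖 * r = 0) : r = 0 := by
  obtain ⟨R, rfl⟩ := Ideal.Quotient.mk_surjective r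
  rw [← map_mul, Ideal.Quotient.eq_zero_iff_mem] at h
  rw [Ideal.Quotient.eq_zero_iff_mem]
  exact mem_of_X_mul_mem ha0 1 R h

lemma eq_zero_of_a_mul (r : 𝔑) (h : algebraMap B 𝔑 a * r = 0) : r = 0 := by
  rw [← t_mul_e, mul_assoc] at h
  exact eq_zero_of_e_mul ha0 r (eq_zero_of_t_mul ha0 _ h)

end NZD


section Stab

variable {B : Type u} [CommRing B] [IsDomain B] [IsDiscreteValuationRing B] {π : B}
  (hπ : Irreducible π)

local notation "𝔑" => ArLef.NodeAlg B π
local notation "𝕥" => ArLef.NodeAlg.t π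
local notation "𝕖" => ArLef.NodeAlg.e π

include hπ

lemma pi_mem : π ∈ IsLocalRing.maximalIdeal B := by
  rw [hπ.maximalIdeal_eq]
  exact Ideal.mem_span_singleton_self π

/-- S15317: the fixed-point ideal of a non-trivial `B`-automorphism stabilizing the branches. -/
theorem fixIdeal_of_stabilizes (σ : 𝔑 ≃ₐ[B] 𝔑) (hσ : σ ≠ AlgEquiv.refl)
    (ht : Associated (σ 𝕥) 𝕥) (he : Associated (σ 𝕖) 𝕖) :
    ∃ g : 𝔑, g ≠ 0 ∧ ArLef.fixIdeal σ = Ideal.span {g} * Ideal.span ({𝕥, 𝕖} : Set 𝔑) := by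
  have hπm := pi_mem hπ
  obtain ⟨u, hu⟩ := ht
  obtain ⟨v, hv⟩ := he
  have hst : σ 𝕥 = (↑u⁻¹ : 𝔑) * 𝕥 := by
    calc σ 𝕥 = σ 𝕥 * (u : 𝔑) * (↑u⁻¹ : 𝔑) := by rw [mul_assoc, Units.mul_inv, mul_one]
      _ = (↑u⁻¹ : 𝔑) * 𝕥 := by rw [hu, mul_comm]
  have hse : σ 𝕖 = (↑v⁻¹ : 𝔑) * 𝕖 := by
    calc σ 𝕖 = σ 𝕖 * (v : 𝔑) * (↑v⁻¹ : 𝔑) := by rw [mul_assoc, Units.mul_inv, mul_one]
      _ = (↑v⁻¹ : 𝔑) * 𝕖 := by rw [hv, mul_comm]
  set α : 𝔑 := (↑u⁻¹ : 𝔑) with hα
  set β : 𝔑 := (↑v⁻¹ : 𝔑) with hβ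
  -- `α β = 1`
  have hab : α * β = 1 := by
    have h1 : σ (𝕥 * 𝕖) = 𝕥 * 𝕖 := by
      rw [t_mul_e, AlgEquiv.commutes]
    rw [map_mul, hst, hse] at h1
    have h2 : algebraMap B 𝔑 π * (α * β - 1) = 0 := by
      rw [← t_mul_e]
      linear_combination h1
    have := eq_zero_of_a_mul hπ.ne_zero _ h2
    exact sub_eq_zero.mp this
  have hdt : σ 𝕥 - 𝕥 = (α - 1) * 𝕥 := by rw [hst]; ring
  have hde : σ 𝕖 - 𝕖 = (β - 1) * 𝕖 := by rw [hse]; ring
  have hβ1 : β - 1 = -β * (α - 1) := by linear_combination hab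
  have hα1 : α - 1 = -α * (β - 1) := by linear_combination hab
  refine ⟨α - 1, ?_, ?_⟩
  · -- `α ≠ 1` since `σ ≠ id`
    intro h0
    apply hσ
    have hb0 : β - 1 = 0 := by rw [hβ1, h0, mul_zero]
    have hle : ArLef.fixIdeal (σ : 𝔑 →+* 𝔑) ≤ ⊥ := by
      apply fixIdeal_le hπm (σ : 𝔑 →+* 𝔑) ⊥
      · intro b
        show σ (algebraMap B 𝔑 b) - algebraMap B 𝔑 b ∈ _
        rw [AlgEquiv.commutes, sub_self]
        exact Ideal.zero_mem _
      · show σ 𝕥 - 𝕥 ∈ _
        rw [hdt, h0, zero_mul]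
        exact Ideal.zero_mem _
      · show σ 𝕖 - 𝕖 ∈ _
        rw [hde, hb0, zero_mul]
        exact Ideal.zero_mem _
    ext r
    have h1 : σ r - r ∈ ArLef.fixIdeal (σ : 𝔑 →+* 𝔑) := Ideal.subset_span ⟨r, rfl⟩
    have h2 := hle h1
    rw [Ideal.mem_bot, sub_eq_zero] at h2
    exact h2
  · have hI : ArLef.fixIdeal σ = Ideal.span {(α - 1) * 𝕥, (β - 1) * 𝕖} := by
      apply le_antisymm
      · apply fixIdeal_le hπm (σ : 𝔑 →+* 𝔑)
        · intro b
          show σ (algebraMap B 𝔑 b) - algebraMap B 𝔑 b ∈ _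
          rw [AlgEquiv.commutes, sub_self]
          exact Ideal.zero_mem _
        · show σ 𝕥 - 𝕥 ∈ _
          rw [hdt]
          exact Ideal.subset_span (by simp)
        · show σ 𝕖 - 𝕖 ∈ _
          rw [hde]
          exact Ideal.subset_span (by simp)
      · rw [Ideal.span_le]
        rintro x (rfl | rfl)
        · rw [← hdt]
          exact Ideal.subset_span ⟨𝕥, rfl⟩
        · rw [← hde]
          exact Ideal.subset_span ⟨𝕖, rfl⟩
    rw [hI]
    have hge : (α - 1) * 𝕖 = -α * ((β - 1) * 𝕖) := by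
      linear_combination 𝕖 * hab
    apply le_antisymm
    · rw [Ideal.span_le]
      rintro x (rfl | rfl)
      · exact Ideal.mul_mem_mul (Ideal.mem_span_singleton_self _) (Ideal.subset_span (by simp))
      · have : (β - 1) * 𝕖 = -β * ((α - 1) * 𝕖) := by
          rw [hβ1]; ring
        rw [this]
        exact Ideal.mul_mem_left _ _
          (Ideal.mul_mem_mul (Ideal.mem_span_singleton_self _) (Ideal.subset_span (by simp)))
    · rw [Ideal.mul_le]
      intro r hr s hs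
      obtain ⟨c, rfl⟩ := Ideal.mem_span_singleton'.mp hr
      obtain ⟨p, q, rfl⟩ := Ideal.mem_span_pair.mp hs
      have e1 : c * (α - 1) * (p * 𝕥 + q * 𝕖) =
          c * p * ((α - 1) * 𝕥) + c * q * ((α - 1) * 𝕖) := by ring
      rw [e1, hge]
      refine Ideal.add_mem _ (Ideal.mul_mem_left _ _ (Ideal.subset_span (by simp)))
        (Ideal.mul_mem_left _ _ (Ideal.mul_mem_left _ _ (Ideal.subset_span (by simp))))

end Stab


section Axis

variable {B : Type u} [CommRing B] [IsLocalRing B]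

/-- Restriction of a power series in two variables to the `i`-th axis, with coefficients reduced
modulo the maximal ideal. -/
noncomputable def axisHom (i : Fin 2) :
    MvPowerSeries (Fin 2) B →+* PowerSeries (IsLocalRing.ResidueField B) where
  toFun R := PowerSeries.mk fun n => IsLocalRing.residue B (coeff (Finsupp.single i n) R)
  map_one' := by
    ext n
    rw [PowerSeries.coeff_mk, PowerSeries.coeff_one, MvPowerSeries.coeff_one]
    by_cases hn : n = 0
    · rw [if_pos hn, if_pos (by rw [hn, Finsupp.single_zero]), map_one]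
    · rw [if_neg hn, if_neg (by rw [Finsupp.single_eq_zero]; exact hn), map_zero]
  map_mul' R S := by
    classical
    ext n
    rw [PowerSeries.coeff_mk, MvPowerSeries.coeff_mul, PowerSeries.coeff_mul,
      Finsupp.antidiagonal_single, Finset.sum_map, map_sum]
    apply Finset.sum_congr rfl
    intro p _
    rw [map_mul, PowerSeries.coeff_mk, PowerSeries.coeff_mk]
    rfl
  map_zero' := by
    ext n
    rw [PowerSeries.coeff_mk, map_zero, map_zero, map_zero]
  map_add' R S := by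
    ext n
    rw [PowerSeries.coeff_mk, map_add, map_add, map_add, PowerSeries.coeff_mk,
      PowerSeries.coeff_mk]

lemma coeff_axisHom (i : Fin 2) (R : MvPowerSeries (Fin 2) B) (n : ℕ) :
    PowerSeries.coeff n (axisHom i R) =
      IsLocalRing.residue B (coeff (Finsupp.single i n) R) := by
  show PowerSeries.coeff n (PowerSeries.mk fun n =>
    IsLocalRing.residue B (coeff (Finsupp.single i n) R)) = _
  rw [PowerSeries.coeff_mk]

lemma axisHom_X_self (i : Fin 2) : axisHom (B := B) i (X i) = PowerSeries.X := by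
  classical
  ext n
  rw [coeff_axisHom, PowerSeries.coeff_X, MvPowerSeries.coeff_X]
  by_cases hn : n = 1
  · rw [if_pos hn, if_pos (by rw [hn]), map_one]
  · rw [if_neg hn, if_neg (by
      intro h
      exact hn (Finsupp.single_injective i h)), map_zero]

lemma axisHom_X_ne {i j : Fin 2} (hij : i ≠ j) : axisHom (B := B) i (X j) = 0 := by
  classical
  ext n
  rw [coeff_axisHom, MvPowerSeries.coeff_X, map_zero]
  rw [if_neg, map_zero]
  intro h
  have := DFunLike.congr_fun h j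
  rw [Finsupp.single_apply, if_neg hij, Finsupp.single_apply, if_pos rfl] at this
  exact zero_ne_one this

lemma axisHom_C (i : Fin 2) (b : B) :
    axisHom i (C b) = PowerSeries.C (IsLocalRing.residue B b) := by
  classical
  ext n
  rw [coeff_axisHom, PowerSeries.coeff_C, MvPowerSeries.coeff_C]
  by_cases hn : n = 0
  · rw [if_pos hn, if_pos (by rw [hn, Finsupp.single_zero])]
  · rw [if_neg hn, if_neg (by rw [Finsupp.single_eq_zero]; exact hn), map_zero]

end Axis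


section Prime

variable {B : Type u} [CommRing B] [IsDomain B] [IsDiscreteValuationRing B] {π : B}
  (hπ : Irreducible π)

local notation "𝔑" => ArLef.NodeAlg B π

include hπ

lemma residue_pi : IsLocalRing.residue B π = 0 := by
  rw [IsLocalRing.residue_eq_zero_iff]
  exact pi_mem hπ

lemma axisHom_gen (i : Fin 2) : axisHom (B := B) i (X 0 * X 1 - C π) = 0 := by
  rw [map_sub, map_mul, axisHom_C, residue_pi hπ, map_zero, sub_zero]
  obtain rfl | rfl : i = 0 ∨ i = 1 := by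
    fin_cases i <;> simp
  · rw [axisHom_X_ne (B := B) (i := 0) (j := 1) (by decide), mul_zero]
  · rw [axisHom_X_ne (B := B) (i := 1) (j := 0) (by decide), zero_mul]

/-- The restriction of `N` to the `i`-th branch `k[[X i]]`. -/
noncomputable def branchHom (i : Fin 2) : 𝔑 →+* PowerSeries (IsLocalRing.ResidueField B) :=
  Ideal.Quotient.lift _ (axisHom i) (by
    intro x hx
    obtain ⟨c, rfl⟩ := Ideal.mem_span_singleton'.mp hx
    rw [map_mul, axisHom_gen hπ, mul_zero])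

lemma branchHom_mk (i : Fin 2) (R : MvPowerSeries (Fin 2) B) :
    branchHom hπ i (Ideal.Quotient.mk _ R) = axisHom i R := rfl

/-- The kernel of the restriction to the `i`-th branch is generated by the other variable. -/
lemma ker_branchHom {i j : Fin 2} (hij : i ≠ j) :
    RingHom.ker (branchHom hπ i) = Ideal.span {(Ideal.Quotient.mk _ (X j) : 𝔑)} := by
  classical
  apply le_antisymm
  · intro r hr
    obtain ⟨R, rfl⟩ := Ideal.Quotient.mk_surjective r
    rw [RingHom.mem_ker, branchHom_mk] at hr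
    have h1 : ∀ n : ℕ, ∃ c : B, coeff (Finsupp.single i n) R = π * c := by
      intro n
      have h2 := congrArg (PowerSeries.coeff n) hr
      rw [coeff_axisHom, map_zero, IsLocalRing.residue_eq_zero_iff, hπ.maximalIdeal_eq,
        Ideal.mem_span_singleton'] at h2
      obtain ⟨c, hc⟩ := h2
      exact ⟨c, by rw [← hc, mul_comm]⟩
    choose c hc using h1
    -- the series `R'' = Σ c_n X_i^n`
    set R'' : MvPowerSeries (Fin 2) B := fun m => if m j = 0 then c (m i) else 0 with hR''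
    have hsingle : ∀ m : Fin 2 →₀ ℕ, m j = 0 → m = Finsupp.single i (m i) := by
      intro m hm
      ext l
      have hl : l = i ∨ l = j := by
        fin_cases i <;> fin_cases j <;> fin_cases l <;> simp_all
      rcases hl with rfl | rfl
      · rw [Finsupp.single_apply, if_pos rfl]
      · rw [hm, Finsupp.single_apply, if_neg hij]
    have hX : (X j : MvPowerSeries (Fin 2) B) ∣ R - C π * R'' := by
      rw [X_dvd_iff]
      intro m hm
      rw [map_sub, coeff_C_mul]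
      have : coeff m R'' = c (m i) := by
        show R'' m = _
        rw [hR'']
        simp only [hm, if_true]
      rw [this]
      have e2 : coeff m R = π * c (m i) := by
        have := hc (m i)
        rwa [← hsingle m hm] at this
      rw [e2, sub_self]
    obtain ⟨R', hR'⟩ := hX
    have h3 : R = X j * R' + C π * R'' := by rw [← hR']; ring
    rw [h3, map_add, map_mul, map_mul]
    refine Ideal.add_mem _ (Ideal.mul_mem_right _ _ (Ideal.mem_span_singleton_self _)) ?_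
    have h4 : (Ideal.Quotient.mk (Ideal.span {(X 0 * X 1 - C π : MvPowerSeries (Fin 2) B)}))
        (C π) = ArLef.NodeAlg.t π * ArLef.NodeAlg.e π := (t_mul_e π).symm
    rw [h4]
    apply Ideal.mul_mem_right
    obtain rfl | rfl : j = 0 ∨ j = 1 := by
      fin_cases j <;> simp
    · exact Ideal.mul_mem_right _ _ (Ideal.mem_span_singleton_self _)
    · exact Ideal.mul_mem_left _ _ (Ideal.mem_span_singleton_self _)
  · rw [Ideal.span_le, Set.singleton_subset_iff]
    show branchHom hπ i _ = 0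
    rw [branchHom_mk, axisHom_X_ne hij]

lemma span_X_isPrime {i j : Fin 2} (hij : i ≠ j) :
    (Ideal.span {(Ideal.Quotient.mk _ (X j) : 𝔑)}).IsPrime := by
  rw [← ker_branchHom hπ hij]
  exact RingHom.ker_isPrime _

lemma span_t_isPrime : (Ideal.span {ArLef.NodeAlg.t π}).IsPrime :=
  span_X_isPrime hπ (i := 1) (j := 0) (by decide)

lemma span_e_isPrime : (Ideal.span {ArLef.NodeAlg.e π}).IsPrime :=
  span_X_isPrime hπ (i := 0) (j := 1) (by decide)

lemma t_ne_zero : ArLef.NodeAlg.t π ≠ 0 := by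
  intro h
  have h1 : algebraMap B 𝔑 π * 1 = 0 := by
    rw [← t_mul_e, h, zero_mul, zero_mul]
  have h2 := eq_zero_of_a_mul hπ.ne_zero _ h1
  haveI := nontrivial (pi_mem hπ)
  exact one_ne_zero h2

lemma e_ne_zero : ArLef.NodeAlg.e π ≠ 0 := by
  intro h
  have h1 : algebraMap B 𝔑 π * 1 = 0 := by
    rw [← t_mul_e, h, mul_zero, zero_mul]
  have h2 := eq_zero_of_a_mul hπ.ne_zero _ h1
  haveI := nontrivial (pi_mem hπ)
  exact one_ne_zero h2

lemma t_prime : Prime (ArLef.NodeAlg.t π) :=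
  (Ideal.span_singleton_prime (t_ne_zero hπ)).mp (span_t_isPrime hπ)

lemma e_prime : Prime (ArLef.NodeAlg.e π) :=
  (Ideal.span_singleton_prime (e_ne_zero hπ)).mp (span_e_isPrime hπ)

end Prime


section Branches

variable {B : Type u} [CommRing B] [IsDomain B] [IsDiscreteValuationRing B] {π : B}
  (hπ : Irreducible π)

local notation "𝔑" => ArLef.NodeAlg B π
local notation "𝕥" => ArLef.NodeAlg.t π
local notation "𝕖" => ArLef.NodeAlg.e π

omit [IsDomain B] [IsDiscreteValuationRing B] in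
/-- Two primes, the second a non-zero-divisor, one dividing the other, are associated. -/
lemma eq_unit_mul_of_dvd {R : Type u} [CommRing R] {p q : R} (hp : Prime p) (hq : Prime q)
    (hnzd : ∀ r : R, q * r = 0 → r = 0) (h : p ∣ q) : ∃ u : Rˣ, p = (u : R) * q := by
  obtain ⟨c, hc⟩ := h
  have h1 : q ∣ p * c := ⟨1, by rw [mul_one, hc]⟩
  rcases hq.dvd_or_dvd h1 with ⟨d, hd⟩ | ⟨c', hc'⟩
  · -- `p = q d`, `q = q d c`
    have h2 : q * (d * c - 1) = 0 := by
      have : q = q * d * c := by rw [← hd]; exact hc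
      linear_combination -this
    have h3 := hnzd _ h2
    have hu : IsUnit d := IsUnit.of_mul_eq_one c (sub_eq_zero.mp h3)
    exact ⟨hu.unit, by rw [IsUnit.unit_spec, hd, mul_comm]⟩
  · exfalso
    have h2 : q * (p * c' - 1) = 0 := by
      have : q = p * (q * c') := by rw [← hc']; exact hc
      linear_combination -this
    have h3 := hnzd _ h2
    exact hp.not_unit (IsUnit.of_mul_eq_one c' (sub_eq_zero.mp h3))

include hπ

lemma e_notMem_span_t : 𝕖 ∉ Ideal.span {𝕥} := by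
  rw [show (Ideal.span {𝕥} : Ideal 𝔑) = RingHom.ker (branchHom hπ 1) from
    (ker_branchHom hπ (i := 1) (j := 0) (by decide)).symm, RingHom.mem_ker]
  show branchHom hπ 1 (Ideal.Quotient.mk _ (X 1)) ≠ 0
  rw [branchHom_mk, axisHom_X_self]
  exact PowerSeries.X_ne_zero

lemma t_notMem_span_e : 𝕥 ∉ Ideal.span {𝕖} := by
  rw [show (Ideal.span {𝕖} : Ideal 𝔑) = RingHom.ker (branchHom hπ 0) from
    (ker_branchHom hπ (i := 0) (j := 1) (by decide)).symm, RingHom.mem_ker]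
  show branchHom hπ 0 (Ideal.Quotient.mk _ (X 0)) ≠ 0
  rw [branchHom_mk, axisHom_X_self]
  exact PowerSeries.X_ne_zero

/-- S15316: an automorphism with `σ π ∼ π` stabilizes or switches the branches. -/
theorem stabilizes_or_switches (σ : 𝔑 ≃+* 𝔑)
    (hσ : Associated (σ (algebraMap B 𝔑 π)) (algebraMap B 𝔑 π)) :
    (∃ α β : 𝔑ˣ, σ 𝕥 = (α : 𝔑) * 𝕥 ∧ σ 𝕖 = (β : 𝔑) * 𝕖) ∨
      (∃ α β : 𝔑ˣ, σ 𝕥 = (α : 𝔑) * 𝕖 ∧ σ 𝕖 = (β : 𝔑) * 𝕥) := by
  have hP : Prime (σ 𝕥) := (MulEquiv.prime_iff σ).mpr (t_prime hπ)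
  have hQ : Prime (σ 𝕖) := (MulEquiv.prime_iff σ).mpr (e_prime hπ)
  obtain ⟨w, hw⟩ := hσ
  have hPQ : σ 𝕥 * σ 𝕖 * (w : 𝔑) = 𝕥 * 𝕖 := by
    rw [← map_mul, t_mul_e, hw]
  have hdvd : ∀ p : 𝔑, Prime p → p ∣ 𝕥 * 𝕖 →
      (∃ u : 𝔑ˣ, p = (u : 𝔑) * 𝕥) ∨ (∃ u : 𝔑ˣ, p = (u : 𝔑) * 𝕖) := by
    intro p hp h
    rcases hp.dvd_or_dvd h with h1 | h1
    · exact Or.inl (eq_unit_mul_of_dvd hp (t_prime hπ) (eq_zero_of_t_mul hπ.ne_zero) h1)
    · exact Or.inr (eq_unit_mul_of_dvd hp (e_prime hπ) (eq_zero_of_e_mul hπ.ne_zero) h1)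
  have hPd : σ 𝕥 ∣ 𝕥 * 𝕖 := ⟨σ 𝕖 * (w : 𝔑), by rw [← hPQ]; ring⟩
  have hQd : σ 𝕖 ∣ 𝕥 * 𝕖 := ⟨σ 𝕥 * (w : 𝔑), by rw [← hPQ]; ring⟩
  -- the two images cannot lie on the same branch
  have hne : ∀ (x : 𝔑) (α β : 𝔑ˣ), σ 𝕥 = (α : 𝔑) * x → σ 𝕖 = (β : 𝔑) * x →
      𝕖 ∈ Ideal.span {𝕥} := by
    intro x α β h1 h2
    have h3 : σ 𝕖 = (β : 𝔑) * (↑α⁻¹ : 𝔑) * σ 𝕥 := by
      rw [h1, h2, mul_assoc, ← mul_assoc (↑α⁻¹ : 𝔑), Units.inv_mul, one_mul]
    have h4 : 𝕖 = σ.symm ((β : 𝔑) * (↑α⁻¹ : 𝔑)) * 𝕥 := by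
      apply σ.injective
      rw [map_mul, RingEquiv.apply_symm_apply]
      exact h3
    rw [h4]
    exact Ideal.mul_mem_left _ _ (Ideal.mem_span_singleton_self _)
  rcases hdvd _ hP hPd with ⟨α, hα⟩ | ⟨α, hα⟩
  · rcases hdvd _ hQ hQd with ⟨β, hβ⟩ | ⟨β, hβ⟩
    · exact absurd (hne _ α β hα hβ) (e_notMem_span_t hπ)
    · exact Or.inl ⟨α, β, hα, hβ⟩
  · rcases hdvd _ hQ hQd with ⟨β, hβ⟩ | ⟨β, hβ⟩
    · exact Or.inr ⟨α, β, hα, hβ⟩
    · exact absurd (hne _ α β hα hβ) (e_notMem_span_t hπ)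

end Branches

end Groth.Agent.NodeB
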