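import Mathlib
import Groth.Prelude
import Groth.Agent.Lib.NodeEtale2_helper3
import Groth.Agent.Lib.LocDimEt_helper8
import Groth.Agent.Lib.AffDim5_helper8
import Groth.Agent.Lib.CotSmooth3_helper3

/-!
# Nodal families and étale morphisms (helper3)

APPEND-ONLY once landed.
-/

set_option autoImplicit false
set_option linter.style.haveILetI false
universe u

open AlgebraicGeometry CategoryTheory CategoryTheory.Limits IsLocalRing

namespace Groth.Agent.Lib.NodeEtaleH3

section Over

variable (k : Type u) [Field k] (T T' : Scheme.{u})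

/-- S6552 with an arbitrary `Over` structure on the source compatible with the étale map. -/
theorem isNode_iff_of_etale [T.Over (Spec (CommRingCat.of k))]
    [instT' : T'.Over (Spec (CommRingCat.of k))]
    [LocallyOfFiniteType (T ↘ Spec (CommRingCat.of k))] (p : T' ⟶ T) [Etale p]
    (hp : p ≫ (T ↘ Spec (CommRingCat.of k)) = T' ↘ Spec (CommRingCat.of k)) (y : T') :
    Curv2.IsNode k T (p y) ↔ Curv2.IsNode k T' y := by
  obtain ⟨q⟩ := instT'
  change p ≫ (T ↘ Spec (CommRingCat.of k)) = q at hp
  subst hp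
  exact isNode_iff_aux k T p (AlgebraicClosure k) y

/-- at-worst-nodal singularities pull back along étale morphisms. -/
theorem atWorstNodal_of_etale [T.Over (Spec (CommRingCat.of k))]
    [instT' : T'.Over (Spec (CommRingCat.of k))]
    [LocallyOfFiniteType (T ↘ Spec (CommRingCat.of k))] (p : T' ⟶ T) [Etale p]
    (hp : p ≫ (T ↘ Spec (CommRingCat.of k)) = T' ↘ Spec (CommRingCat.of k))
    (h : Curv2.AtWorstNodal k T) : Curv2.AtWorstNodal k T' := by
  intro y hy
  haveI : JacobsonSpace T := LocallyOfFiniteType.jacobsonSpace (T ↘ Spec (CommRingCat.of k))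
  have hx : IsClosed ({p y} : Set T) := (isClosed_singleton_iff_of_unramified p y).2 hy
  rcases h (p y) hx with ⟨U, hyU, hU⟩ | hnode
  · left
    refine ⟨p ⁻¹ᵁ U, hyU, ?_⟩
    have e : (p ⁻¹ᵁ U).ι ≫ (T' ↘ Spec (CommRingCat.of k)) =
        (p ∣_ U) ≫ U.ι ≫ (T ↘ Spec (CommRingCat.of k)) := by
      rw [← hp, ← Category.assoc, ← Category.assoc, morphismRestrict_ι]
    rw [e]
    infer_instance
  · right
    exact (isNode_iff_of_etale k T T' p hp y).1 hnode

end Over

section Fam

variable {X Y S : Scheme.{u}} (f : X ⟶ S) (g : Y ⟶ X) (s : S)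

/-- the map on fibres induced by `g : Y ⟶ X` over `S`. -/
noncomputable def fiberMap : (g ≫ f).fiber s ⟶ f.fiber s :=
  pullback.lift (pullback.fst _ _ ≫ g) (pullback.snd _ _)
    (by rw [Category.assoc]; exact pullback.condition)

theorem fiberMap_fst : fiberMap f g s ≫ f.fiberι s = (g ≫ f).fiberι s ≫ g :=
  pullback.lift_fst _ _ _

theorem fiberMap_snd :
    fiberMap f g s ≫ f.fiberToSpecResidueField s = (g ≫ f).fiberToSpecResidueField s :=
  pullback.lift_snd _ _ _

theorem isPullback_fiberMap :
    IsPullback ((g ≫ f).fiberι s) (fiberMap f g s) g (f.fiberι s) := by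
  refine (IsPullback.of_right ?_ (fiberMap_fst f g s)
    (IsPullback.of_hasPullback f (S.fromSpecResidueField s)).flip).flip
  have h := (IsPullback.of_hasPullback (g ≫ f) (S.fromSpecResidueField s)).flip
  have e : fiberMap f g s ≫ pullback.snd f (S.fromSpecResidueField s) =
      pullback.snd (g ≫ f) (S.fromSpecResidueField s) := fiberMap_snd f g s
  rw [e]
  exact h

instance [Etale g] : Etale (fiberMap f g s) :=
  MorphismProperty.of_isPullback (P := @Etale) (isPullback_fiberMap f g s) inferInstance

end Fam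

/-- **S1592**. -/
theorem main1592 {X Y S : Scheme.{u}} (f : X ⟶ S) (hf : Curv2.IsNodalFamily f) (g : Y ⟶ X)
    [Etale g] : Curv2.IsNodalFamily (g ≫ f) := by
  obtain ⟨hflat, hlfp, hfib⟩ := hf
  haveI := hflat
  haveI := hlfp
  refine ⟨inferInstance, inferInstance, fun s => ?_⟩
  obtain ⟨hdim, hnod⟩ := hfib s
  haveI : LocallyOfFiniteType f := inferInstance
  haveI : LocallyOfFiniteType (g ≫ f) := inferInstance
  haveI : LocallyOfFiniteType (f.fiberToSpecResidueField s) :=
    MorphismProperty.pullback_snd (P := @LocallyOfFiniteType) _ _ inferInstance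
  haveI : LocallyOfFiniteType ((g ≫ f).fiberToSpecResidueField s) :=
    MorphismProperty.pullback_snd (P := @LocallyOfFiniteType) _ _ inferInstance
  constructor
  · have h1 : ∀ t : f.fiber s, FlatMor.localDim ↥(f.fiber s) t = 1 :=
      Groth.Agent.Lib.AffDimH8.localDim_eq_of_equidim (S.residueField s) (f.fiber s)
        (f.fiberToSpecResidueField s) 1 hdim
    have h2 : ∀ t' : (g ≫ f).fiber s, FlatMor.localDim ↥((g ≫ f).fiber s) t' = 1 := fun t' =>
      (LocDimEtH8.localDim_etale (fiberMap f g s) t').trans (h1 _)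
    exact Groth.Agent.Lib.CotSmoothH3.equidim_of_localDim_const (S.residueField s) _
      ((g ≫ f).fiberToSpecResidueField s) 1 h2
  · letI i1 : (f.fiber s).Over (Spec (CommRingCat.of (S.residueField s))) :=
      ⟨f.fiberToSpecResidueField s⟩
    letI i2 : ((g ≫ f).fiber s).Over (Spec (CommRingCat.of (S.residueField s))) :=
      ⟨(g ≫ f).fiberToSpecResidueField s⟩
    haveI : LocallyOfFiniteType
        ((f.fiber s) ↘ Spec (CommRingCat.of (S.residueField s))) :=
      ‹LocallyOfFiniteType (f.fiberToSpecResidueField s)›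
    exact atWorstNodal_of_etale (S.residueField s) (f.fiber s) ((g ≫ f).fiber s)
      (fiberMap f g s) (fiberMap_snd f g s) hnod

end Groth.Agent.Lib.NodeEtaleH3
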