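import Mathlib
import Groth.Prelude
import Groth.Agent.Lib.NodeSemi2_helper3
import Groth.Agent.Lib.NodeEtale3_helper3

/-!
# Nodes and separable change of base field (helper3)

APPEND-ONLY once landed.
-/

set_option autoImplicit false
set_option linter.style.haveILetI false
set_option linter.unusedSectionVars false
universe u

open AlgebraicGeometry CategoryTheory CategoryTheory.Limits IsLocalRing

namespace Groth.Agent.Lib.NodeBaseH3

open Groth.Agent.Lib.NodeEtaleH3 Groth.Agent.Lib.NodeSemiH3

section PL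

variable {X S' S Z Z' : Scheme.{u}} (f : X ⟶ S') (e : S' ⟶ S) (i : Z ⟶ S) (i' : Z' ⟶ S')
  (r : Z' ⟶ Z) (w : i' ≫ e = r ≫ i)

/-- the induced map of pullbacks `X ×_{S'} Z' ⟶ X ×_S Z`. -/
noncomputable def pbMap : pullback f i' ⟶ pullback (f ≫ e) i :=
  pullback.lift (pullback.fst _ _) (pullback.snd _ _ ≫ r)
    (by rw [← Category.assoc, pullback.condition, Category.assoc, w, Category.assoc])

theorem pbMap_fst : pbMap f e i i' r w ≫ pullback.fst _ _ = pullback.fst _ _ :=
  pullback.lift_fst _ _ _

theorem pbMap_snd : pbMap f e i i' r w ≫ pullback.snd _ _ = pullback.snd _ _ ≫ r :=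
  pullback.lift_snd _ _ _

/-- the map `Z' ⟶ S' ×_S Z`. -/
noncomputable def pbJ : Z' ⟶ pullback e i := pullback.lift i' r w

theorem pbJ_fst : pbJ e i i' r w ≫ pullback.fst _ _ = i' := pullback.lift_fst _ _ _

theorem pbJ_snd : pbJ e i i' r w ≫ pullback.snd _ _ = r := pullback.lift_snd _ _ _

/-- the map `X ×_S Z ⟶ S' ×_S Z`. -/
noncomputable def pbDown : pullback (f ≫ e) i ⟶ pullback e i :=
  pullback.lift (pullback.fst _ _ ≫ f) (pullback.snd _ _)
    (by rw [Category.assoc]; exact pullback.condition)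

theorem pbDown_fst : pbDown f e i ≫ pullback.fst _ _ = pullback.fst _ _ ≫ f :=
  pullback.lift_fst _ _ _

theorem pbDown_snd : pbDown f e i ≫ pullback.snd _ _ = pullback.snd _ _ :=
  pullback.lift_snd _ _ _

theorem isPullback_pbDown :
    IsPullback (pullback.fst (f ≫ e) i) (pbDown f e i) f (pullback.fst e i) := by
  refine IsPullback.of_bot ?_ (pbDown_fst f e i).symm (IsPullback.of_hasPullback e i)
  rw [pbDown_snd]
  exact IsPullback.of_hasPullback (f ≫ e) i

theorem isPullback_pbMap :
    IsPullback (pbMap f e i i' r w) (pullback.snd f i') (pbDown f e i) (pbJ e i i' r w) := by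
  refine IsPullback.of_right ?_ ?_ (isPullback_pbDown f e i)
  · rw [pbMap_fst, pbJ_fst]
    exact IsPullback.of_hasPullback f i'
  · apply pullback.hom_ext
    · rw [Category.assoc, pbDown_fst, ← Category.assoc, pbMap_fst, Category.assoc, pbJ_fst]
      exact pullback.condition
    · rw [Category.assoc, pbDown_snd, pbMap_snd, Category.assoc, pbJ_snd]

theorem pbMap_of_pbJ (P : MorphismProperty Scheme.{u}) [P.IsStableUnderBaseChange]
    (h : P (pbJ e i i' r w)) : P (pbMap f e i i' r w) :=
  MorphismProperty.of_isPullback (P := P) (isPullback_pbMap f e i i' r w).flip h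

end PL

section ChangeField

variable (k k' : Type u) [Field k] [Field k'] [Algebra k k'] [Algebra.IsAlgebraic k k']
  [Etale (Spec.map (CommRingCat.ofHom (algebraMap k k')))]
  (T : Scheme.{u}) [T.Over (Spec (CommRingCat.of k'))]
  [LocallyOfFiniteType (T ↘ Spec (CommRingCat.of k'))]

set_option maxHeartbeats 1600000 in
/-- a node over a separable algebraic extension `k'` of `k` is a node over `k`. -/
theorem isNode_of_ext (t : T) (h : Curv2.IsNode k' T t) :
    @Curv2.IsNode k _ T ⟨(T ↘ Spec (CommRingCat.of k')) ≫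
      Spec.map (CommRingCat.ofHom (algebraMap k k'))⟩ t := by
  obtain ⟨hcl, yb, hyb, hodp⟩ := h
  -- the algebraic closures
  obtain ⟨σ⟩ : Nonempty (k' →ₐ[k] AlgebraicClosure k) := ⟨IsAlgClosed.lift⟩
  letI algk'Kb : Algebra k' (AlgebraicClosure k) := σ.toRingHom.toAlgebra
  haveI tow : IsScalarTower k k' (AlgebraicClosure k) :=
    IsScalarTower.of_algebraMap_eq (fun c => (σ.commutes c).symm)
  haveI alg' : Algebra.IsAlgebraic k' (AlgebraicClosure k) :=
    Algebra.IsAlgebraic.tower_top (K := k) k'
  haveI : IsAlgClosure k' (AlgebraicClosure k) := ⟨inferInstance, inferInstance⟩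
  let τ : AlgebraicClosure k' ≃ₐ[k'] AlgebraicClosure k :=
    IsAlgClosure.equiv k' (AlgebraicClosure k') (AlgebraicClosure k)
  -- the semilinear isomorphism
  let θ : Curv2.bc k' T (AlgebraicClosure k) ⟶ Curv2.bc k' T (AlgebraicClosure k') :=
    pullback.map _ _ _ _ (𝟙 T) (Spec.map (CommRingCat.ofHom (τ : AlgebraicClosure k' →+* _)))
      (𝟙 _) (by simp)
      (by
        rw [Category.comp_id, ← Spec.map_comp]
        congr 1
        ext c
        exact (τ.commutes c).symm)
  haveI : IsIso θ := by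
    haveI : IsIso (Spec.map (CommRingCat.ofHom (τ : AlgebraicClosure k' →+* AlgebraicClosure k))) := by
      have : IsIso (CommRingCat.ofHom (τ : AlgebraicClosure k' →+* AlgebraicClosure k)) :=
        (τ.toRingEquiv.toCommRingCatIso).isIso_hom
      infer_instance
    show IsIso (pullback.map _ _ _ _ _ _ _ _ _)
    infer_instance
  have hθ1 : θ ≫ Curv2.bcFst k' T (AlgebraicClosure k') = Curv2.bcFst k' T (AlgebraicClosure k) := by
    show pullback.map _ _ _ _ _ _ _ _ _ ≫ pullback.fst _ _ = _
    rw [pullback.lift_fst, Category.comp_id]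
  have hθ2 : θ ≫ Curv2.bcSnd k' T (AlgebraicClosure k') =
      Curv2.bcSnd k' T (AlgebraicClosure k) ≫
        Spec.map (CommRingCat.ofHom (τ : AlgebraicClosure k' →+* AlgebraicClosure k)) := by
    show pullback.map _ _ _ _ _ _ _ _ _ ≫ pullback.snd _ _ = _
    rw [pullback.lift_snd]
  obtain ⟨q, rfl⟩ : ∃ q, θ q = yb := by
    refine ⟨(inv θ) yb, ?_⟩
    rw [← Scheme.Hom.comp_apply, IsIso.inv_hom_id]
    rfl
  have hq1 : Curv2.bcFst k' T (AlgebraicClosure k) q = t := by
    rw [← hθ1, Scheme.Hom.comp_apply]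
    exact hyb
  letI ovA : (Curv2.bc k' T (AlgebraicClosure k')).Over
      (Spec (CommRingCat.of (AlgebraicClosure k'))) := ⟨Curv2.bcSnd k' T (AlgebraicClosure k')⟩
  letI ovB : (Curv2.bc k' T (AlgebraicClosure k)).Over
      (Spec (CommRingCat.of (AlgebraicClosure k))) := ⟨Curv2.bcSnd k' T (AlgebraicClosure k)⟩
  haveI lftA : LocallyOfFiniteType ((Curv2.bc k' T (AlgebraicClosure k')) ↘
      Spec (CommRingCat.of (AlgebraicClosure k'))) :=
    MorphismProperty.pullback_snd (P := @LocallyOfFiniteType) _ _ inferInstance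
  haveI lftB : LocallyOfFiniteType ((Curv2.bc k' T (AlgebraicClosure k)) ↘
      Spec (CommRingCat.of (AlgebraicClosure k))) :=
    MorphismProperty.pullback_snd (P := @LocallyOfFiniteType) _ _ inferInstance
  have hodp2 : @Curv2.IsOrdDoublePt (AlgebraicClosure k) _
      ((Curv2.bc k' T (AlgebraicClosure k)).presheaf.stalk q) _
      (Curv2.stalkAlgebra (AlgebraicClosure k) (Curv2.bc k' T (AlgebraicClosure k)) q) _ :=
    isOrdDoublePt_of_iso (AlgebraicClosure k') (AlgebraicClosure k) τ.toRingEquiv θ hθ2 q hodp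
  -- q is closed
  haveI : IsIntegralHom (Spec.map (CommRingCat.ofHom (algebraMap k' (AlgebraicClosure k)))) := by
    rw [IsIntegralHom.SpecMap_iff]
    exact algebraMap_isIntegral_iff.mpr inferInstance
  haveI : IsIntegralHom (Curv2.bcFst k' T (AlgebraicClosure k)) := inferInstance
  have hqcl : IsClosed ({q} : Set (Curv2.bc k' T (AlgebraicClosure k))) :=
    isClosed_of_integral (Curv2.bcFst k' T (AlgebraicClosure k)) q (by rw [hq1]; exact hcl)
  -- the étale comparison map
  have w : Spec.map (CommRingCat.ofHom (algebraMap k' (AlgebraicClosure k))) ≫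
      Spec.map (CommRingCat.ofHom (algebraMap k k')) =
      𝟙 _ ≫ Spec.map (CommRingCat.ofHom (algebraMap k (AlgebraicClosure k))) := by
    rw [Category.id_comp, ← Spec.map_comp]
    congr 1
    ext c
    exact (IsScalarTower.algebraMap_apply k k' (AlgebraicClosure k) c).symm
  letI ovT : T.Over (Spec (CommRingCat.of k)) := ⟨(T ↘ Spec (CommRingCat.of k')) ≫
      Spec.map (CommRingCat.ofHom (algebraMap k k'))⟩
  let m : Curv2.bc k' T (AlgebraicClosure k) ⟶ Curv2.bc k T (AlgebraicClosure k) :=
    pbMap (T ↘ Spec (CommRingCat.of k')) (Spec.map (CommRingCat.ofHom (algebraMap k k')))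
    (Spec.map (CommRingCat.ofHom (algebraMap k (AlgebraicClosure k))))
    (Spec.map (CommRingCat.ofHom (algebraMap k' (AlgebraicClosure k)))) (𝟙 _) w
  have hm1 : m ≫ pullback.fst _ _ = pullback.fst _ _ := pbMap_fst _ _ _ _ _ w
  have hm2 : m ≫ pullback.snd _ _ = pullback.snd _ _ := by
    have := pbMap_snd (T ↘ Spec (CommRingCat.of k'))
      (Spec.map (CommRingCat.ofHom (algebraMap k k')))
      (Spec.map (CommRingCat.ofHom (algebraMap k (AlgebraicClosure k))))
      (Spec.map (CommRingCat.ofHom (algebraMap k' (AlgebraicClosure k)))) (𝟙 _) w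
    rw [Category.comp_id] at this
    exact this
  haveI hmet : Etale m := by
    apply pbMap_of_pbJ _ _ _ _ _ w @Etale
    have hsnd : pbJ (Spec.map (CommRingCat.ofHom (algebraMap k k')))
        (Spec.map (CommRingCat.ofHom (algebraMap k (AlgebraicClosure k))))
        (Spec.map (CommRingCat.ofHom (algebraMap k' (AlgebraicClosure k)))) (𝟙 _) w ≫
        pullback.snd _ _ = 𝟙 _ := pbJ_snd _ _ _ _ w
    haveI : Etale (pbJ (Spec.map (CommRingCat.ofHom (algebraMap k k')))
        (Spec.map (CommRingCat.ofHom (algebraMap k (AlgebraicClosure k))))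
        (Spec.map (CommRingCat.ofHom (algebraMap k' (AlgebraicClosure k)))) (𝟙 _) w ≫
        pullback.snd _ _) := by
      rw [hsnd]
      infer_instance
    exact Etale.of_comp _ (pullback.snd (Spec.map (CommRingCat.ofHom (algebraMap k k')))
      (Spec.map (CommRingCat.ofHom (algebraMap k (AlgebraicClosure k)))))
  -- conclusion
  letI ovC : (Curv2.bc k T (AlgebraicClosure k)).Over
      (Spec (CommRingCat.of (AlgebraicClosure k))) := ⟨Curv2.bcSnd k T (AlgebraicClosure k)⟩
  haveI lftT : LocallyOfFiniteType (T ↘ Spec (CommRingCat.of k)) := by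
    show LocallyOfFiniteType ((T ↘ Spec (CommRingCat.of k')) ≫
      Spec.map (CommRingCat.ofHom (algebraMap k k')))
    infer_instance
  haveI lftC : LocallyOfFiniteType ((Curv2.bc k T (AlgebraicClosure k)) ↘
      Spec (CommRingCat.of (AlgebraicClosure k))) :=
    MorphismProperty.pullback_snd (P := @LocallyOfFiniteType) _ _ inferInstance
  have hodp3 := (isOrdDoublePt_iff_of_etale (AlgebraicClosure k)
    (P := Curv2.bc k T (AlgebraicClosure k)) (Q := Curv2.bc k' T (AlgebraicClosure k))
    m hm2 q hqcl).2 hodp2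
  refine ⟨hcl, m q, ?_, hodp3⟩
  have : (m ≫ pullback.fst _ _) q = t := by
    rw [hm1]
    exact hq1
  exact this

end ChangeField

end Groth.Agent.Lib.NodeBaseH3
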