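import Mathlib
import Groth.Prelude
import Groth.Agent.Lib.NodeBase1_helper3

/-!
# Nodal families and étale base extension (helper3)

APPEND-ONLY once landed.
-/

set_option autoImplicit false
set_option linter.style.haveILetI false
set_option linter.unusedSectionVars false
universe u

open AlgebraicGeometry CategoryTheory CategoryTheory.Limits IsLocalRing

namespace Groth.Agent.Lib.NodeBaseH3

open Groth.Agent.Lib.NodeEtaleH3 Groth.Agent.Lib.NodeSemiH3

section Res

variable {X Y : Scheme.{u}} (f : X ⟶ Y)

/-- residue field extensions of unramified morphisms are finite. -/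
theorem finite_residueFieldMap [FormallyUnramified f] [LocallyOfFiniteType f] (x : X) :
    @Module.Finite (Y.residueField (f x)) (X.residueField x) _ _
      (f.residueFieldMap x).hom.toAlgebra.toModule := by
  algebraize [(f.stalkMap x).hom]
  have : IsLocalHom (algebraMap (Y.presheaf.stalk (f x)) (X.presheaf.stalk x)) :=
    inferInstanceAs <| IsLocalHom (f.stalkMap x).hom
  suffices h : Module.Finite
      (IsLocalRing.ResidueField <| Y.presheaf.stalk (f x))
      (IsLocalRing.ResidueField <| X.presheaf.stalk x) by
    refine Groth.Agent.Lib.InsepRamH3.finite_congr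
      (F := IsLocalRing.ResidueField (Y.presheaf.stalk (f x)))
      (E := IsLocalRing.ResidueField (X.presheaf.stalk x))
      inferInstance (f.residueFieldMap x).hom.toAlgebra (fun r => ?_) h
    obtain ⟨r, rfl⟩ := IsLocalRing.residue_surjective r
    rfl
  have : Algebra.EssFiniteType (Y.presheaf.stalk (f x)) (X.presheaf.stalk x) := by
    rw [← RingHom.essFiniteType_algebraMap, RingHom.algebraMap_toAlgebra]
    exact LocallyOfFiniteType.stalkMap f x
  have : Algebra.FormallyUnramified (Y.presheaf.stalk (f x)) (X.presheaf.stalk x) := by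
    rw [← RingHom.formallyUnramified_algebraMap, RingHom.algebraMap_toAlgebra]
    exact FormallyUnramified.stalkMap f x
  infer_instance

/-- residue field extensions of étale morphisms are étale. -/
theorem etale_SpecMap_residueFieldMap [Etale f] (x : X) :
    Etale (Spec.map (f.residueFieldMap x)) := by
  letI alg : Algebra (Y.residueField (f x)) (X.residueField x) :=
    (f.residueFieldMap x).hom.toAlgebra
  haveI hsep : Algebra.IsSeparable (Y.residueField (f x)) (X.residueField x) := inferInstance
  haveI hfin : Module.Finite (Y.residueField (f x)) (X.residueField x) :=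
    finite_residueFieldMap f x
  haveI : Algebra.FormallyEtale (Y.residueField (f x)) (X.residueField x) :=
    Algebra.FormallyEtale.of_isSeparable _ _
  haveI : Algebra.FinitePresentation (Y.residueField (f x)) (X.residueField x) :=
    Algebra.FinitePresentation.of_finiteType.mp inferInstance
  haveI het : Algebra.Etale (Y.residueField (f x)) (X.residueField x) := {}
  rw [HasRingHomProperty.Spec_iff (P := @Etale)]
  exact RingHom.etale_algebraMap.mpr het

/-- residue field extensions of étale morphisms are algebraic. -/
theorem isAlgebraic_residueFieldMap [Etale f] (x : X) :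
    @Algebra.IsAlgebraic (Y.residueField (f x)) (X.residueField x) _ _
      (f.residueFieldMap x).hom.toAlgebra := by
  letI alg : Algebra (Y.residueField (f x)) (X.residueField x) :=
    (f.residueFieldMap x).hom.toAlgebra
  haveI hsep : Algebra.IsSeparable (Y.residueField (f x)) (X.residueField x) := inferInstance
  exact Algebra.IsSeparable.isAlgebraic _ _

end Res

section Fib

variable {X S S' : Scheme.{u}} (e : S' ⟶ S) [Etale e] (f : X ⟶ S') (s' : S')

/-- the comparison of fibres `X_{s'} ⟶ X_{e(s')}`. -/
noncomputable def fibMap : f.fiber s' ⟶ (f ≫ e).fiber (e s') :=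
  pbMap f e (S.fromSpecResidueField (e s')) (S'.fromSpecResidueField s')
    (Spec.map (e.residueFieldMap s')) (e.SpecMap_residueFieldMap_fromSpecResidueField s').symm

theorem fibMap_fst : fibMap e f s' ≫ (f ≫ e).fiberι (e s') = f.fiberι s' :=
  pbMap_fst _ _ _ _ _ _

theorem fibMap_snd : fibMap e f s' ≫ (f ≫ e).fiberToSpecResidueField (e s') =
    f.fiberToSpecResidueField s' ≫ Spec.map (e.residueFieldMap s') :=
  pbMap_snd _ _ _ _ _ _

instance : IsOpenImmersion (fibMap e f s') := by
  unfold fibMap
  apply pbMap_of_pbJ _ _ _ _ _ _ @IsOpenImmersion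
  have hsnd := pbJ_snd e (S.fromSpecResidueField (e s')) (S'.fromSpecResidueField s')
    (Spec.map (e.residueFieldMap s')) (e.SpecMap_residueFieldMap_fromSpecResidueField s').symm
  have hfst := pbJ_fst e (S.fromSpecResidueField (e s')) (S'.fromSpecResidueField s')
    (Spec.map (e.residueFieldMap s')) (e.SpecMap_residueFieldMap_fromSpecResidueField s').symm
  haveI : Etale (pbJ e (S.fromSpecResidueField (e s')) (S'.fromSpecResidueField s')
      (Spec.map (e.residueFieldMap s'))
      (e.SpecMap_residueFieldMap_fromSpecResidueField s').symm ≫ pullback.snd _ _) := by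
    rw [hsnd]
    exact etale_SpecMap_residueFieldMap e s'
  haveI : Etale (pbJ e (S.fromSpecResidueField (e s')) (S'.fromSpecResidueField s')
      (Spec.map (e.residueFieldMap s'))
      (e.SpecMap_residueFieldMap_fromSpecResidueField s').symm) :=
    Etale.of_comp _ (pullback.snd e (S.fromSpecResidueField (e s')))
  haveI : Mono (pbJ e (S.fromSpecResidueField (e s')) (S'.fromSpecResidueField s')
      (Spec.map (e.residueFieldMap s'))
      (e.SpecMap_residueFieldMap_fromSpecResidueField s').symm) :=
    mono_of_mono_fac hfst
  exact IsOpenImmersion.of_flat_of_mono _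

set_option maxHeartbeats 1600000 in
theorem fiber_key [Flat f] [LocallyOfFinitePresentation f]
    (hdim : ∀ Z ∈ irreducibleComponents (f.fiber s' : Type u), topologicalKrullDim Z = 1)
    (hnod : @Curv2.AtWorstNodal (S'.residueField s') _ (f.fiber s')
      ⟨f.fiberToSpecResidueField s'⟩)
    (t : (f ≫ e).fiber (e s')) (ht : f ((f ≫ e).fiberι (e s') t) = s') :
    FlatMor.localDim ↥((f ≫ e).fiber (e s')) t = 1 ∧
    (IsClosed ({t} : Set ((f ≫ e).fiber (e s'))) →
      (∃ U : ((f ≫ e).fiber (e s')).Opens, t ∈ U ∧
        Smooth (U.ι ≫ (f ≫ e).fiberToSpecResidueField (e s'))) ∨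
      @Curv2.IsNode (S.residueField (e s')) _ ((f ≫ e).fiber (e s'))
        ⟨(f ≫ e).fiberToSpecResidueField (e s')⟩ t) := by
  haveI : LocallyOfFiniteType f := inferInstance
  haveI : LocallyOfFiniteType (f ≫ e) := inferInstance
  haveI lft' : LocallyOfFiniteType (f.fiberToSpecResidueField s') :=
    MorphismProperty.pullback_snd (P := @LocallyOfFiniteType) _ _ inferInstance
  haveI lft : LocallyOfFiniteType ((f ≫ e).fiberToSpecResidueField (e s')) :=
    MorphismProperty.pullback_snd (P := @LocallyOfFiniteType) _ _ inferInstance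
  obtain ⟨t', ht'1, -⟩ := Scheme.Pullback.exists_preimage_pullback (f := f)
    (g := S'.fromSpecResidueField s') ((f ≫ e).fiberι (e s') t)
    (closedPoint (S'.residueField s'))
    (by rw [ht]; exact (Scheme.fromSpecResidueField_apply _ _).symm)
  have ht'2 : fibMap e f s' t' = t := by
    apply ((f ≫ e).fiberι (e s')).isEmbedding.injective
    rw [← Scheme.Hom.comp_apply, fibMap_fst]
    exact ht'1
  subst ht'2
  constructor
  · rw [← LocDimEtH8.localDim_etale (fibMap e f s') t']
    exact Groth.Agent.Lib.AffDimH8.localDim_eq_of_equidim (S'.residueField s') (f.fiber s')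
      (f.fiberToSpecResidueField s') 1 hdim t'
  · intro hcl
    haveI : JacobsonSpace ↥((f ≫ e).fiber (e s')) :=
      LocallyOfFiniteType.jacobsonSpace ((f ≫ e).fiberToSpecResidueField (e s'))
    have hcl' : IsClosed ({t'} : Set (f.fiber s')) :=
      (isClosed_singleton_iff_of_unramified (fibMap e f s') t').1 hcl
    haveI het := etale_SpecMap_residueFieldMap e s'
    rcases hnod t' hcl' with ⟨U', hU'1, hU'2⟩ | hnode
    · left
      refine ⟨fibMap e f s' ''ᵁ U', ⟨t', hU'1, rfl⟩, ?_⟩
      have hU'3 : Smooth (U'.ι ≫ f.fiberToSpecResidueField s') := hU'2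
      have e1 : (fibMap e f s' ''ᵁ U').ι ≫ (f ≫ e).fiberToSpecResidueField (e s') =
          ((fibMap e f s').isoImage U').inv ≫ (U'.ι ≫ f.fiberToSpecResidueField s') ≫
            Spec.map (e.residueFieldMap s') := by
        rw [← Scheme.Hom.isoImage_inv_ι, Category.assoc, Category.assoc, fibMap_snd,
          Category.assoc]
      rw [e1]
      infer_instance
    · right
      letI alg : Algebra (S.residueField (e s')) (S'.residueField s') :=
        (e.residueFieldMap s').hom.toAlgebra
      haveI : Algebra.IsAlgebraic (S.residueField (e s')) (S'.residueField s') :=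
        isAlgebraic_residueFieldMap e s'
      haveI : Etale (Spec.map (CommRingCat.ofHom
          (algebraMap (S.residueField (e s')) (S'.residueField s')))) := het
      letI ov' : (f.fiber s').Over (Spec (CommRingCat.of (S'.residueField s'))) :=
        ⟨f.fiberToSpecResidueField s'⟩
      haveI : LocallyOfFiniteType ((f.fiber s') ↘ Spec (CommRingCat.of (S'.residueField s'))) :=
        lft'
      have h1 := isNode_of_ext (S.residueField (e s')) (S'.residueField s') (f.fiber s') t' hnode
      letI ov : ((f ≫ e).fiber (e s')).Over (Spec (CommRingCat.of (S.residueField (e s')))) :=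
        ⟨(f ≫ e).fiberToSpecResidueField (e s')⟩
      haveI : LocallyOfFiniteType (((f ≫ e).fiber (e s')) ↘
          Spec (CommRingCat.of (S.residueField (e s')))) := lft
      letI ov'' : (f.fiber s').Over (Spec (CommRingCat.of (S.residueField (e s')))) :=
        ⟨f.fiberToSpecResidueField s' ≫ Spec.map (e.residueFieldMap s')⟩
      exact (isNode_iff_of_etale (S.residueField (e s')) ((f ≫ e).fiber (e s')) (f.fiber s')
        (fibMap e f s') (fibMap_snd e f s') t').2 h1

end Fib

set_option maxHeartbeats 800000 in
/-- **S1595**. -/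
theorem main1595 {X S S' : Scheme.{u}} (e : S' ⟶ S) [Etale e] (f : X ⟶ S')
    (hf : Curv2.IsNodalFamily f) : Curv2.IsNodalFamily (f ≫ e) := by
  obtain ⟨hflat, hlfp, hfib⟩ := hf
  haveI := hflat
  haveI := hlfp
  have key : ∀ (s : S) (s' : S'), e s' = s → ∀ t : (f ≫ e).fiber s,
      f ((f ≫ e).fiberι s t) = s' →
      FlatMor.localDim ↥((f ≫ e).fiber s) t = 1 ∧
      (IsClosed ({t} : Set ((f ≫ e).fiber s)) →
        (∃ U : ((f ≫ e).fiber s).Opens, t ∈ U ∧
          Smooth (U.ι ≫ (f ≫ e).fiberToSpecResidueField s)) ∨
        @Curv2.IsNode (S.residueField s) _ ((f ≫ e).fiber s)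
          ⟨(f ≫ e).fiberToSpecResidueField s⟩ t) := by
    intro s s' hs
    subst hs
    intro t ht
    exact fiber_key e f s' (hfib s').1 (hfib s').2 t ht
  haveI : Flat (f ≫ e) := inferInstance
  haveI : LocallyOfFinitePresentation (f ≫ e) := inferInstance
  refine ⟨inferInstance, inferInstance, fun s => ?_⟩
  have hs : ∀ t : (f ≫ e).fiber s, e (f ((f ≫ e).fiberι s t)) = s := by
    intro t
    have h1 : (f ≫ e).fiberι s t ∈ Set.range ((f ≫ e).fiberι s) := Set.mem_range_self t
    rw [(f ≫ e).range_fiberι s] at h1
    exact h1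
  haveI : LocallyOfFiniteType (f ≫ e) := inferInstance
  haveI lft : LocallyOfFiniteType ((f ≫ e).fiberToSpecResidueField s) :=
    MorphismProperty.pullback_snd (P := @LocallyOfFiniteType) _ _ inferInstance
  constructor
  · exact Groth.Agent.Lib.CotSmoothH3.equidim_of_localDim_const (S.residueField s) _
      ((f ≫ e).fiberToSpecResidueField s) 1 (fun t => (key s _ (hs t) t rfl).1)
  · intro t hcl
    exact (key s _ (hs t) t rfl).2 hcl

end Groth.Agent.Lib.NodeBaseH3
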