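import Mathlib
import Groth.Prelude
import Groth.Agent.Lib.NodeBase1_helper3

/-!
# Nodes and separable change of base field: the converse (helper3)

APPEND-ONLY once landed.
-/

set_option autoImplicit false
set_option linter.style.haveILetI false
set_option linter.unusedSectionVars false
universe u

open AlgebraicGeometry CategoryTheory CategoryTheory.Limits IsLocalRing

namespace Groth.Agent.Lib.NodeBaseH3

open Groth.Agent.Lib.NodeEtaleH3 Groth.Agent.Lib.NodeSemiH3

/-- congruence in the point. -/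
theorem odp_congr_pt (K : Type u) [Field K] (B : Scheme.{u}) [B.Over (Spec (CommRingCat.of K))]
    {b b' : B} (h : b = b') :
    @Curv2.IsOrdDoublePt K _ (B.presheaf.stalk b) _ (Curv2.stalkAlgebra K B b) _ ↔
      @Curv2.IsOrdDoublePt K _ (B.presheaf.stalk b') _ (Curv2.stalkAlgebra K B b') _ := by
  subst h
  rfl

section Sigma

variable (k k' : Type u) [Field k] [Field k'] [Algebra k k']
  [Etale (Spec.map (CommRingCat.ofHom (algebraMap k k')))]
  (Kb : Type u) [Field Kb] [IsAlgClosed Kb] [Algebra k Kb] [Algebra k' Kb] [IsScalarTower k k' Kb]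
  (T : Scheme.{u}) [T.Over (Spec (CommRingCat.of k'))]
  [LocallyOfFiniteType (T ↘ Spec (CommRingCat.of k'))]

theorem w_tower : Spec.map (CommRingCat.ofHom (algebraMap k' Kb)) ≫
    Spec.map (CommRingCat.ofHom (algebraMap k k')) =
    𝟙 _ ≫ Spec.map (CommRingCat.ofHom (algebraMap k Kb)) := by
  rw [Category.id_comp, ← Spec.map_comp]
  congr 1
  ext c
  exact (IsScalarTower.algebraMap_apply k k' Kb c).symm

/-- the comparison map `T ×_{k'} Kb ⟶ T ×_k Kb`. -/
noncomputable def mMap :
    pullback (T ↘ Spec (CommRingCat.of k')) (Spec.map (CommRingCat.ofHom (algebraMap k' Kb))) ⟶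
      pullback ((T ↘ Spec (CommRingCat.of k')) ≫
        Spec.map (CommRingCat.ofHom (algebraMap k k')))
        (Spec.map (CommRingCat.ofHom (algebraMap k Kb))) :=
  pbMap (T ↘ Spec (CommRingCat.of k')) (Spec.map (CommRingCat.ofHom (algebraMap k k')))
    (Spec.map (CommRingCat.ofHom (algebraMap k Kb)))
    (Spec.map (CommRingCat.ofHom (algebraMap k' Kb))) (𝟙 _) (w_tower k k' Kb)

theorem mMap_fst : mMap k k' Kb T ≫ pullback.fst _ _ = pullback.fst _ _ :=
  pbMap_fst _ _ _ _ _ _

theorem mMap_snd : mMap k k' Kb T ≫ pullback.snd _ _ = pullback.snd _ _ := by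
  have := pbMap_snd (T ↘ Spec (CommRingCat.of k'))
    (Spec.map (CommRingCat.ofHom (algebraMap k k')))
    (Spec.map (CommRingCat.ofHom (algebraMap k Kb)))
    (Spec.map (CommRingCat.ofHom (algebraMap k' Kb))) (𝟙 _) (w_tower k k' Kb)
  rw [Category.comp_id] at this
  exact this

instance : Etale (mMap k k' Kb T) := by
  unfold mMap
  apply pbMap_of_pbJ _ _ _ _ _ _ @Etale
  have hsnd : pbJ (Spec.map (CommRingCat.ofHom (algebraMap k k')))
      (Spec.map (CommRingCat.ofHom (algebraMap k Kb)))
      (Spec.map (CommRingCat.ofHom (algebraMap k' Kb))) (𝟙 _) (w_tower k k' Kb) ≫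
      pullback.snd _ _ = 𝟙 _ := pbJ_snd _ _ _ _ _
  haveI : Etale (pbJ (Spec.map (CommRingCat.ofHom (algebraMap k k')))
      (Spec.map (CommRingCat.ofHom (algebraMap k Kb)))
      (Spec.map (CommRingCat.ofHom (algebraMap k' Kb))) (𝟙 _) (w_tower k k' Kb) ≫
      pullback.snd _ _) := by
    rw [hsnd]
    infer_instance
  exact Etale.of_comp _ (pullback.snd (Spec.map (CommRingCat.ofHom (algebraMap k k')))
    (Spec.map (CommRingCat.ofHom (algebraMap k Kb))))

set_option maxHeartbeats 800000 in
theorem mMap_odp_iff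
    (q : ↥(pullback (T ↘ Spec (CommRingCat.of k'))
      (Spec.map (CommRingCat.ofHom (algebraMap k' Kb)))))
    (hq : IsClosed ({q} : Set ↥(pullback (T ↘ Spec (CommRingCat.of k'))
      (Spec.map (CommRingCat.ofHom (algebraMap k' Kb)))))) :
    @Curv2.IsOrdDoublePt Kb _ ((pullback ((T ↘ Spec (CommRingCat.of k')) ≫
        Spec.map (CommRingCat.ofHom (algebraMap k k')))
        (Spec.map (CommRingCat.ofHom (algebraMap k Kb)))).presheaf.stalk (mMap k k' Kb T q)) _
      (@Curv2.stalkAlgebra Kb _ (pullback ((T ↘ Spec (CommRingCat.of k')) ≫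
        Spec.map (CommRingCat.ofHom (algebraMap k k')))
        (Spec.map (CommRingCat.ofHom (algebraMap k Kb)))) ⟨pullback.snd _ _⟩
        (mMap k k' Kb T q)) _ ↔
    @Curv2.IsOrdDoublePt Kb _ ((pullback (T ↘ Spec (CommRingCat.of k'))
        (Spec.map (CommRingCat.ofHom (algebraMap k' Kb)))).presheaf.stalk q) _
      (@Curv2.stalkAlgebra Kb _ (pullback (T ↘ Spec (CommRingCat.of k'))
        (Spec.map (CommRingCat.ofHom (algebraMap k' Kb)))) ⟨pullback.snd _ _⟩ q) _ := by
  letI ovB : (pullback (T ↘ Spec (CommRingCat.of k'))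
      (Spec.map (CommRingCat.ofHom (algebraMap k' Kb)))).Over (Spec (CommRingCat.of Kb)) :=
    ⟨pullback.snd _ _⟩
  letI ovC : (pullback ((T ↘ Spec (CommRingCat.of k')) ≫
        Spec.map (CommRingCat.ofHom (algebraMap k k')))
        (Spec.map (CommRingCat.ofHom (algebraMap k Kb)))).Over (Spec (CommRingCat.of Kb)) :=
    ⟨pullback.snd _ _⟩
  haveI lftB : LocallyOfFiniteType ((pullback (T ↘ Spec (CommRingCat.of k'))
      (Spec.map (CommRingCat.ofHom (algebraMap k' Kb)))) ↘ Spec (CommRingCat.of Kb)) :=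
    MorphismProperty.pullback_snd (P := @LocallyOfFiniteType) _ _ inferInstance
  haveI : LocallyOfFiniteType ((T ↘ Spec (CommRingCat.of k')) ≫
      Spec.map (CommRingCat.ofHom (algebraMap k k'))) := inferInstance
  haveI lftC : LocallyOfFiniteType ((pullback ((T ↘ Spec (CommRingCat.of k')) ≫
        Spec.map (CommRingCat.ofHom (algebraMap k k')))
        (Spec.map (CommRingCat.ofHom (algebraMap k Kb)))) ↘ Spec (CommRingCat.of Kb)) :=
    MorphismProperty.pullback_snd (P := @LocallyOfFiniteType) _ _ inferInstance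
  exact isOrdDoublePt_iff_of_etale Kb (mMap k k' Kb T) (mMap_snd k k' Kb T) q hq

end Sigma

section Theta

variable (k' Ka Kb : Type u) [Field k'] [Field Ka] [Field Kb] [Algebra k' Ka] [Algebra k' Kb]
  (τ : Ka ≃ₐ[k'] Kb) (T : Scheme.{u}) [T.Over (Spec (CommRingCat.of k'))]
  [LocallyOfFiniteType (T ↘ Spec (CommRingCat.of k'))]

/-- the semilinear isomorphism `T_{Kb} ⟶ T_{Ka}` induced by `τ`. -/
noncomputable def theta : Curv2.bc k' T Kb ⟶ Curv2.bc k' T Ka :=
  pullback.map _ _ _ _ (𝟙 T) (Spec.map (CommRingCat.ofHom (τ : Ka →+* Kb))) (𝟙 _) (by simp)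
    (by
      rw [Category.comp_id, ← Spec.map_comp]
      congr 1
      ext c
      exact (τ.commutes c).symm)

instance : IsIso (theta k' Ka Kb τ T) := by
  haveI : IsIso (Spec.map (CommRingCat.ofHom (τ : Ka →+* Kb))) := by
    have : IsIso (CommRingCat.ofHom (τ : Ka →+* Kb)) :=
      (τ.toRingEquiv.toCommRingCatIso).isIso_hom
    infer_instance
  unfold theta
  infer_instance

theorem theta_fst : theta k' Ka Kb τ T ≫ Curv2.bcFst k' T Ka = Curv2.bcFst k' T Kb := by
  unfold theta
  rw [pullback.lift_fst, Category.comp_id]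

theorem theta_snd : theta k' Ka Kb τ T ≫ Curv2.bcSnd k' T Ka =
    Curv2.bcSnd k' T Kb ≫ Spec.map (CommRingCat.ofHom (τ : Ka →+* Kb)) := by
  unfold theta
  rw [pullback.lift_snd]

theorem inv_theta_snd : inv (theta k' Ka Kb τ T) ≫ Curv2.bcSnd k' T Kb =
    Curv2.bcSnd k' T Ka ≫ Spec.map (CommRingCat.ofHom (τ.symm : Kb →+* Ka)) := by
  rw [IsIso.inv_comp_eq, ← Category.assoc, theta_snd, Category.assoc, ← Spec.map_comp]
  have : CommRingCat.ofHom (τ.symm : Kb →+* Ka) ≫ CommRingCat.ofHom (τ : Ka →+* Kb) = 𝟙 _ := by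
    ext c
    exact τ.apply_symm_apply c
  rw [this, Spec.map_id, Category.comp_id]

set_option maxHeartbeats 800000 in
theorem theta_odp_iff (q : Curv2.bc k' T Kb) :
    @Curv2.IsOrdDoublePt Ka _ ((Curv2.bc k' T Ka).presheaf.stalk (theta k' Ka Kb τ T q)) _
      (@Curv2.stalkAlgebra Ka _ (Curv2.bc k' T Ka) ⟨Curv2.bcSnd k' T Ka⟩
        (theta k' Ka Kb τ T q)) _ ↔
    @Curv2.IsOrdDoublePt Kb _ ((Curv2.bc k' T Kb).presheaf.stalk q) _
      (@Curv2.stalkAlgebra Kb _ (Curv2.bc k' T Kb) ⟨Curv2.bcSnd k' T Kb⟩ q) _ := by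
  letI ovA : (Curv2.bc k' T Ka).Over (Spec (CommRingCat.of Ka)) := ⟨Curv2.bcSnd k' T Ka⟩
  letI ovB : (Curv2.bc k' T Kb).Over (Spec (CommRingCat.of Kb)) := ⟨Curv2.bcSnd k' T Kb⟩
  haveI lftA : LocallyOfFiniteType ((Curv2.bc k' T Ka) ↘ Spec (CommRingCat.of Ka)) :=
    MorphismProperty.pullback_snd (P := @LocallyOfFiniteType) _ _ inferInstance
  haveI lftB : LocallyOfFiniteType ((Curv2.bc k' T Kb) ↘ Spec (CommRingCat.of Kb)) :=
    MorphismProperty.pullback_snd (P := @LocallyOfFiniteType) _ _ inferInstance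
  constructor
  · exact isOrdDoublePt_of_iso Ka Kb τ.toRingEquiv (theta k' Ka Kb τ T) (theta_snd k' Ka Kb τ T) q
  · intro h
    have hq : (inv (theta k' Ka Kb τ T)) (theta k' Ka Kb τ T q) = q := by
      rw [← Scheme.Hom.comp_apply, IsIso.hom_inv_id]
      rfl
    have h2 := (odp_congr_pt Kb (Curv2.bc k' T Kb) hq).2 h
    exact isOrdDoublePt_of_iso Kb Ka τ.symm.toRingEquiv (inv (theta k' Ka Kb τ T))
      (inv_theta_snd k' Ka Kb τ T) (theta k' Ka Kb τ T q) h2

end Theta

section Conv

variable (k k' : Type u) [Field k] [Field k'] [Algebra k k'] [Algebra.IsAlgebraic k k']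
  [Etale (Spec.map (CommRingCat.ofHom (algebraMap k k')))]
  (T : Scheme.{u}) [T.Over (Spec (CommRingCat.of k'))]
  [LocallyOfFiniteType (T ↘ Spec (CommRingCat.of k'))]

set_option maxHeartbeats 1600000 in
/-- a node over `k` of a `k'`-scheme, `k'/k` separable algebraic, is a node over `k'`. -/
theorem isNode_of_ext_conv (t : T)
    (h : @Curv2.IsNode k _ T ⟨(T ↘ Spec (CommRingCat.of k')) ≫
      Spec.map (CommRingCat.ofHom (algebraMap k k'))⟩ t) : Curv2.IsNode k' T t := by
  letI ovT : T.Over (Spec (CommRingCat.of k)) := ⟨(T ↘ Spec (CommRingCat.of k')) ≫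
      Spec.map (CommRingCat.ofHom (algebraMap k k'))⟩
  obtain ⟨hcl, xb, hxb, hodp⟩ := h
  -- the point of `Spec (k' ⊗ k̄)` below `xb`
  letI ovP : (pullback (Spec.map (CommRingCat.ofHom (algebraMap k k')))
      (Spec.map (CommRingCat.ofHom (algebraMap k (AlgebraicClosure k))))).Over
      (Spec (CommRingCat.of (AlgebraicClosure k))) := ⟨pullback.snd _ _⟩
  haveI : LocallyOfFiniteType (Spec.map (CommRingCat.ofHom (algebraMap k k'))) := inferInstance
  haveI lftP : LocallyOfFiniteType ((pullback (Spec.map (CommRingCat.ofHom (algebraMap k k')))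
      (Spec.map (CommRingCat.ofHom (algebraMap k (AlgebraicClosure k))))) ↘
      Spec (CommRingCat.of (AlgebraicClosure k))) :=
    MorphismProperty.pullback_snd (P := @LocallyOfFiniteType) _ _ inferInstance
  haveI : IsIntegralHom (Spec.map (CommRingCat.ofHom (algebraMap k k'))) := by
    rw [IsIntegralHom.SpecMap_iff]
    exact algebraMap_isIntegral_iff.mpr inferInstance
  haveI : IsIntegralHom (pullback.snd (Spec.map (CommRingCat.ofHom (algebraMap k k')))
      (Spec.map (CommRingCat.ofHom (algebraMap k (AlgebraicClosure k))))) :=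
    MorphismProperty.pullback_snd (P := @IsIntegralHom) _ _ inferInstance
  let z := pbDown (T ↘ Spec (CommRingCat.of k'))
    (Spec.map (CommRingCat.ofHom (algebraMap k k')))
    (Spec.map (CommRingCat.ofHom (algebraMap k (AlgebraicClosure k)))) xb
  haveI : Subsingleton (Spec (CommRingCat.of (AlgebraicClosure k))) :=
    inferInstanceAs (Subsingleton (PrimeSpectrum (AlgebraicClosure k)))
  have hz : IsClosed ({z} : Set ↥(pullback (Spec.map (CommRingCat.ofHom (algebraMap k k')))
      (Spec.map (CommRingCat.ofHom (algebraMap k (AlgebraicClosure k)))))) := by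
    refine isClosed_of_integral (pullback.snd (Spec.map (CommRingCat.ofHom (algebraMap k k')))
      (Spec.map (CommRingCat.ofHom (algebraMap k (AlgebraicClosure k))))) z ?_
    have : ({(pullback.snd (Spec.map (CommRingCat.ofHom (algebraMap k k')))
        (Spec.map (CommRingCat.ofHom (algebraMap k (AlgebraicClosure k))))) z} :
        Set (Spec (CommRingCat.of (AlgebraicClosure k)))) = Set.univ :=
      Set.eq_univ_of_forall (fun y => Subsingleton.elim _ _)
    rw [this]
    exact isClosed_univ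
  obtain ⟨p, hp1, hp2⟩ := exists_point (AlgebraicClosure k) _ z hz
  have hp1' : p ≫ pullback.snd (Spec.map (CommRingCat.ofHom (algebraMap k k')))
      (Spec.map (CommRingCat.ofHom (algebraMap k (AlgebraicClosure k)))) = 𝟙 _ := hp1
  -- the embedding σ
  let σ0 : CommRingCat.of k' ⟶ CommRingCat.of (AlgebraicClosure k) :=
    Spec.preimage (p ≫ pullback.fst _ _)
  have hσ0 : Spec.map σ0 = p ≫ pullback.fst _ _ := Spec.map_preimage _
  letI algk'Kb : Algebra k' (AlgebraicClosure k) := σ0.hom.toAlgebra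
  have hσ1 : Spec.map (CommRingCat.ofHom (algebraMap k' (AlgebraicClosure k))) =
      p ≫ pullback.fst _ _ := hσ0
  haveI tow : IsScalarTower k k' (AlgebraicClosure k) := by
    refine IsScalarTower.of_algebraMap_eq (fun c => ?_)
    have h1 : Spec.map (CommRingCat.ofHom (algebraMap k k') ≫ σ0) =
        Spec.map (CommRingCat.ofHom (algebraMap k (AlgebraicClosure k))) := by
      rw [Spec.map_comp, hσ0, Category.assoc, pullback.condition, ← Category.assoc, hp1',
        Category.id_comp]
    have h2 := Spec.map_injective h1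
    have h3 := congrArg (fun m => m.hom c) h2
    exact h3.symm
  haveI alg' : Algebra.IsAlgebraic k' (AlgebraicClosure k) :=
    Algebra.IsAlgebraic.tower_top (K := k) k'
  haveI : IsAlgClosure k' (AlgebraicClosure k) := ⟨inferInstance, inferInstance⟩
  let τ : AlgebraicClosure k' ≃ₐ[k'] AlgebraicClosure k :=
    IsAlgClosure.equiv k' (AlgebraicClosure k') (AlgebraicClosure k)
  -- `p` is the section used in `mMap`
  have hpJ : p = pbJ (Spec.map (CommRingCat.ofHom (algebraMap k k')))
      (Spec.map (CommRingCat.ofHom (algebraMap k (AlgebraicClosure k))))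
      (Spec.map (CommRingCat.ofHom (algebraMap k' (AlgebraicClosure k)))) (𝟙 _)
      (w_tower k k' (AlgebraicClosure k)) := by
    apply pullback.hom_ext
    · rw [pbJ_fst]
      exact hσ1.symm
    · rw [pbJ_snd]
      exact hp1'
  -- a preimage of `xb`
  have sq := isPullback_pbMap (T ↘ Spec (CommRingCat.of k'))
    (Spec.map (CommRingCat.ofHom (algebraMap k k')))
    (Spec.map (CommRingCat.ofHom (algebraMap k (AlgebraicClosure k))))
    (Spec.map (CommRingCat.ofHom (algebraMap k' (AlgebraicClosure k)))) (𝟙 _)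
    (w_tower k k' (AlgebraicClosure k))
  obtain ⟨q0, hq0a, -⟩ := Scheme.Pullback.exists_preimage_pullback
    (f := pbDown (T ↘ Spec (CommRingCat.of k'))
      (Spec.map (CommRingCat.ofHom (algebraMap k k')))
      (Spec.map (CommRingCat.ofHom (algebraMap k (AlgebraicClosure k)))))
    (g := pbJ (Spec.map (CommRingCat.ofHom (algebraMap k k')))
      (Spec.map (CommRingCat.ofHom (algebraMap k (AlgebraicClosure k))))
      (Spec.map (CommRingCat.ofHom (algebraMap k' (AlgebraicClosure k)))) (𝟙 _)
      (w_tower k k' (AlgebraicClosure k)))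
    xb (closedPoint (AlgebraicClosure k))
    (by rw [← hpJ, hp2])
  have hq : mMap k k' (AlgebraicClosure k) T (sq.isoPullback.inv q0) = xb := by
    rw [← Scheme.Hom.comp_apply]
    have : sq.isoPullback.inv ≫ mMap k k' (AlgebraicClosure k) T = pullback.fst _ _ :=
      sq.isoPullback_inv_fst
    rw [this]
    exact hq0a
  obtain ⟨q, hq'⟩ : ∃ q, mMap k k' (AlgebraicClosure k) T q = xb := ⟨_, hq⟩
  subst hq'
  have hq1 : Curv2.bcFst k' T (AlgebraicClosure k) q = t := by
    have : (mMap k k' (AlgebraicClosure k) T ≫ pullback.fst _ _) q = t := hxb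
    rw [mMap_fst] at this
    exact this
  haveI : IsIntegralHom (Spec.map (CommRingCat.ofHom (algebraMap k' (AlgebraicClosure k)))) := by
    rw [IsIntegralHom.SpecMap_iff]
    exact algebraMap_isIntegral_iff.mpr inferInstance
  haveI : IsIntegralHom (Curv2.bcFst k' T (AlgebraicClosure k)) := inferInstance
  have hqcl : IsClosed ({q} : Set (Curv2.bc k' T (AlgebraicClosure k))) :=
    isClosed_of_integral (Curv2.bcFst k' T (AlgebraicClosure k)) q (by rw [hq1]; exact hcl)
  have hodp2 := (mMap_odp_iff k k' (AlgebraicClosure k) T q hqcl).1 hodp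
  have hodp3 := (theta_odp_iff k' (AlgebraicClosure k') (AlgebraicClosure k) τ T q).2 hodp2
  refine ⟨hcl, theta k' (AlgebraicClosure k') (AlgebraicClosure k) τ T q, ?_, hodp3⟩
  rw [← Scheme.Hom.comp_apply, theta_fst]
  exact hq1

end Conv

section Final

variable (k k' : Type u) [Field k] [Field k'] [Algebra k k'] [FiniteDimensional k k']
  [Algebra.IsSeparable k k']

theorem etale_SpecMap_of_separable :
    Etale (Spec.map (CommRingCat.ofHom (algebraMap k k'))) := by
  haveI : Algebra.FormallyEtale k k' := Algebra.FormallyEtale.of_isSeparable _ _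
  haveI : Algebra.FinitePresentation k k' := Algebra.FinitePresentation.of_finiteType.mp inferInstance
  haveI het : Algebra.Etale k k' := {}
  rw [HasRingHomProperty.Spec_iff (P := @Etale)]
  exact RingHom.etale_algebraMap.mpr het

/-- **S6553**. -/
theorem main6553 (T : Scheme.{u}) [T.Over (Spec (CommRingCat.of k'))]
    [LocallyOfFiniteType (T ↘ Spec (CommRingCat.of k'))] (t : T) :
    Curv2.IsNode k' T t ↔ @Curv2.IsNode k _ T ⟨(T ↘ Spec (CommRingCat.of k')) ≫
      Spec.map (CommRingCat.ofHom (algebraMap k k'))⟩ t := by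
  haveI := etale_SpecMap_of_separable k k'
  haveI : Algebra.IsAlgebraic k k' := Algebra.IsSeparable.isAlgebraic _ _
  exact ⟨isNode_of_ext k k' T t, isNode_of_ext_conv k k' T t⟩

end Final

end Groth.Agent.Lib.NodeBaseH3
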