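import Mathlib
import Groth.Prelude.Def_W4c2arithlefschetzNode
import Groth.Agent.Lib.NodeB_helper9
import Groth.Agent.S15315

/-!
# Length computations in the formal double point `B[[t, e]]/(te - π)` (helper9)
-/

set_option autoImplicit false

universe u

namespace Groth.Agent.NodeLen

open Groth.Agent.NodeB

section Gen

variable {A : Type u} [CommRing A] [IsNoetherianRing A]

/-- S15315 in `⊔`-form. -/
lemma length_mul_sup (x c : A) (I : Ideal A)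
    (hx : IsSMulRegular (A ⧸ Ideal.span ({c} : Set A)) x) :
    Module.length A (A ⧸ (Ideal.span {x} * I ⊔ Ideal.span {c})) =
      Module.length A (A ⧸ (Ideal.span {x} ⊔ Ideal.span {c})) +
        Module.length A (A ⧸ (I ⊔ Ideal.span {c})) := by
  rw [Groth.Agent.S15315.result A x c I hx, Ideal.span_insert]

lemma length_mul_sup' (x y c : A)
    (hx : IsSMulRegular (A ⧸ Ideal.span ({c} : Set A)) x) :
    Module.length A (A ⧸ (Ideal.span {x * y} ⊔ Ideal.span {c})) =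
      Module.length A (A ⧸ (Ideal.span {x} ⊔ Ideal.span {c})) +
        Module.length A (A ⧸ (Ideal.span {y} ⊔ Ideal.span {c})) := by
  rw [← length_mul_sup x c (Ideal.span {y}) hx, Ideal.span_singleton_mul_span_singleton]

lemma length_pow_sup (x c : A)
    (hx : IsSMulRegular (A ⧸ Ideal.span ({c} : Set A)) x) (n : ℕ) :
    Module.length A (A ⧸ (Ideal.span {x ^ n} ⊔ Ideal.span {c})) =
      (n : ℕ∞) * Module.length A (A ⧸ (Ideal.span {x} ⊔ Ideal.span {c})) := by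
  induction n with
  | zero =>
    have htop : (Ideal.span {x ^ 0} ⊔ Ideal.span {c} : Ideal A) = ⊤ := by
      rw [pow_zero, Ideal.span_singleton_one, top_sup_eq]
    have : Subsingleton (A ⧸ (Ideal.span {x ^ 0} ⊔ Ideal.span {c} : Ideal A)) :=
      Ideal.Quotient.subsingleton_iff.mpr htop
    rw [Module.length_eq_zero, Nat.cast_zero, zero_mul]
  | succ n ih =>
    rw [pow_succ, mul_comm, length_mul_sup' x (x ^ n) c hx, ih]
    push_cast
    ring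

/-- A prime non-zero-divisor `p` is regular modulo `x` when `p ∤ x`. -/
lemma isSMulRegular_quot_of_prime {p x : A} (hp : Prime p) (hnzd : ∀ r : A, p * r = 0 → r = 0)
    (hx : ¬ p ∣ x) : IsSMulRegular (A ⧸ Ideal.span ({x} : Set A)) p := by
  intro y₁ y₂ h
  obtain ⟨y₁, rfl⟩ := Ideal.Quotient.mk_surjective y₁
  obtain ⟨y₂, rfl⟩ := Ideal.Quotient.mk_surjective y₂
  have h1 : p * (y₁ - y₂) ∈ Ideal.span ({x} : Set A) := by
    rw [← Ideal.Quotient.eq_zero_iff_mem, map_mul, map_sub, mul_sub, sub_eq_zero]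
    exact h
  rw [Ideal.Quotient.eq, Ideal.mem_span_singleton]
  obtain ⟨z, hz⟩ := Ideal.mem_span_singleton.mp h1
  have h2 : p ∣ x * z := ⟨y₁ - y₂, hz.symm⟩
  rcases hp.dvd_or_dvd h2 with h3 | ⟨z', rfl⟩
  · exact absurd h3 hx
  · refine ⟨z', ?_⟩
    have h4 : p * (y₁ - y₂ - x * z') = 0 := by linear_combination hz
    exact sub_eq_zero.mp (hnzd _ h4)

end Gen


section Max

variable {B : Type u} [CommRing B] [IsDomain B] [IsDiscreteValuationRing B] {π : B}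
  (hπ : Irreducible π)

local notation "𝔑" => ArLef.NodeAlg B π
local notation "𝕥" => ArLef.NodeAlg.t π
local notation "𝕖" => ArLef.NodeAlg.e π

include hπ

lemma maximalIdeal_eq [IsLocalRing 𝔑] :
    IsLocalRing.maximalIdeal 𝔑 = Ideal.span {𝕥} ⊔ Ideal.span {𝕖} := by
  have hπm := pi_mem hπ
  apply le_antisymm
  · intro r hr
    obtain ⟨c, r0, r1, rfl⟩ := decomp π r
    have h1 : 𝕥 * r0 + 𝕖 * r1 ∈ (Ideal.span {𝕥} ⊔ Ideal.span {𝕖} : Ideal 𝔑) :=
      Ideal.add_mem _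
        (Ideal.mem_sup_left (Ideal.mul_mem_right _ _ (Ideal.mem_span_singleton_self _)))
        (Ideal.mem_sup_right (Ideal.mul_mem_right _ _ (Ideal.mem_span_singleton_self _)))
    have h2 : 𝕥 * r0 + 𝕖 * r1 ∈ IsLocalRing.maximalIdeal 𝔑 :=
      Ideal.add_mem _
        (Ideal.mul_mem_right _ _ ((IsLocalRing.mem_maximalIdeal _).mpr (t_not_isUnit hπm)))
        (Ideal.mul_mem_right _ _ ((IsLocalRing.mem_maximalIdeal _).mpr (e_not_isUnit hπm)))
    have h3 : algebraMap B 𝔑 c ∈ IsLocalRing.maximalIdeal 𝔑 := by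
      have := Ideal.sub_mem _ hr h2
      rwa [add_assoc, add_sub_cancel_right] at this
    have hc : c ∈ IsLocalRing.maximalIdeal B := by
      by_contra hc
      rw [IsLocalRing.mem_maximalIdeal, mem_nonunits_iff, not_not] at hc
      exact (IsLocalRing.mem_maximalIdeal _).mp h3 (hc.map _)
    rw [hπ.maximalIdeal_eq, Ideal.mem_span_singleton'] at hc
    obtain ⟨c', rfl⟩ := hc
    refine Ideal.add_mem _ (Ideal.add_mem _ ?_ ?_) ?_
    · rw [map_mul, ← t_mul_e, ← mul_assoc, mul_comm _ 𝕥, mul_assoc]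
      exact Ideal.mem_sup_left (Ideal.mul_mem_right _ _ (Ideal.mem_span_singleton_self _))
    · exact Ideal.mem_sup_left (Ideal.mul_mem_right _ _ (Ideal.mem_span_singleton_self _))
    · exact Ideal.mem_sup_right (Ideal.mul_mem_right _ _ (Ideal.mem_span_singleton_self _))
  · rw [sup_le_iff, Ideal.span_singleton_le_iff_mem, Ideal.span_singleton_le_iff_mem]
    exact ⟨(IsLocalRing.mem_maximalIdeal _).mpr (t_not_isUnit hπm),
      (IsLocalRing.mem_maximalIdeal _).mpr (e_not_isUnit hπm)⟩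

lemma length_quot_max :
    Module.length 𝔑 (𝔑 ⧸ (Ideal.span {𝕥} ⊔ Ideal.span {𝕖} : Ideal 𝔑)) = 1 := by
  haveI := isLocalRing (pi_mem hπ)
  rw [← maximalIdeal_eq hπ, Module.length_eq_one_iff, isSimpleModule_iff_isCoatom]
  exact (IsLocalRing.maximalIdeal.isMaximal 𝔑).out

lemma not_t_dvd_e : ¬ 𝕥 ∣ 𝕖 := by
  intro h
  exact e_notMem_span_t hπ (Ideal.mem_span_singleton.mpr h)

lemma not_e_dvd_t : ¬ 𝕖 ∣ 𝕥 := by
  intro h
  exact t_notMem_span_e hπ (Ideal.mem_span_singleton.mpr h)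

lemma not_t_dvd_unit (u : 𝔑ˣ) : ¬ 𝕥 ∣ (u : 𝔑) := by
  intro h
  exact (t_prime hπ).not_unit (isUnit_of_dvd_unit h u.isUnit)

lemma not_e_dvd_unit (u : 𝔑ˣ) : ¬ 𝕖 ∣ (u : 𝔑) := by
  intro h
  exact (e_prime hπ).not_unit (isUnit_of_dvd_unit h u.isUnit)

lemma t_regular {x : 𝔑} (hx : ¬ 𝕥 ∣ x) : IsSMulRegular (𝔑 ⧸ Ideal.span ({x} : Set 𝔑)) 𝕥 :=
  isSMulRegular_quot_of_prime (t_prime hπ) (eq_zero_of_t_mul hπ.ne_zero) hx

lemma e_regular {x : 𝔑} (hx : ¬ 𝕖 ∣ x) : IsSMulRegular (𝔑 ⧸ Ideal.span ({x} : Set 𝔑)) 𝕖 :=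
  isSMulRegular_quot_of_prime (e_prime hπ) (eq_zero_of_e_mul hπ.ne_zero) hx

end Max


section Semilinear

variable {B : Type u} [CommRing B] [IsDomain B] [IsDiscreteValuationRing B] {π : B}
  (hπ : Irreducible π)

local notation "𝔑" => ArLef.NodeAlg B π
local notation "𝕥" => ArLef.NodeAlg.t π
local notation "𝕖" => ArLef.NodeAlg.e π

include hπ

/-- The fixed-point ideal of a semilinear automorphism with `σ π = π + γ π^j`. -/
lemma fixIdeal_eq (j : ℕ) (γ : B) (hγ : IsUnit γ) (σ : 𝔑 ≃+* 𝔑)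
    (hσB : ∀ b : B, σ (algebraMap B 𝔑 b) - algebraMap B 𝔑 b ∈
      Ideal.span ({algebraMap B 𝔑 (π ^ j)} : Set 𝔑))
    (hσπ : σ (algebraMap B 𝔑 π) = algebraMap B 𝔑 (π + γ * π ^ j))
    (x y : 𝔑) (ht : σ 𝕥 - 𝕥 = x) (he : σ 𝕖 - 𝕖 = y) :
    ArLef.fixIdeal σ = Ideal.span {(𝕥 * 𝕖) ^ j} ⊔ Ideal.span {x} ⊔ Ideal.span {y} := by
  have hpow : algebraMap B 𝔑 (π ^ j) = (𝕥 * 𝕖) ^ j := by rw [map_pow, t_mul_e]
  apply le_antisymm
  · apply fixIdeal_le (pi_mem hπ) (σ : 𝔑 →+* 𝔑)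
    · intro b
      have := hσB b
      rw [hpow] at this
      exact Ideal.mem_sup_left (Ideal.mem_sup_left this)
    · show σ 𝕥 - 𝕥 ∈ _
      rw [ht]
      exact Ideal.mem_sup_left (Ideal.mem_sup_right (Ideal.mem_span_singleton_self _))
    · show σ 𝕖 - 𝕖 ∈ _
      rw [he]
      exact Ideal.mem_sup_right (Ideal.mem_span_singleton_self _)
  · refine sup_le (sup_le ?_ ?_) ?_
    · rw [Ideal.span_singleton_le_iff_mem]
      have h1 : σ (algebraMap B 𝔑 π) - algebraMap B 𝔑 π ∈ ArLef.fixIdeal σ :=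
        Ideal.subset_span ⟨_, rfl⟩
      rw [hσπ, map_add, add_sub_cancel_left, map_mul, hpow] at h1
      obtain ⟨γ', hγ'⟩ := hγ.exists_left_inv
      have h2 : (𝕥 * 𝕖) ^ j = algebraMap B 𝔑 γ' * (algebraMap B 𝔑 γ * (𝕥 * 𝕖) ^ j) := by
        have e : algebraMap B 𝔑 γ' * algebraMap B 𝔑 γ = 1 := by
          rw [← map_mul (algebraMap B 𝔑), hγ', map_one]
        rw [← mul_assoc, e, one_mul]
      rw [h2]
      exact Ideal.mul_mem_left _ _ h1
    · rw [Ideal.span_singleton_le_iff_mem, ← ht]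
      exact Ideal.subset_span ⟨_, rfl⟩
    · rw [Ideal.span_singleton_le_iff_mem, ← he]
      exact Ideal.subset_span ⟨_, rfl⟩

lemma unit_relation (m : ℕ) (γ : B) (σ : 𝔑 ≃+* 𝔑)
    (hσπ : σ (algebraMap B 𝔑 π) = algebraMap B 𝔑 (π + γ * π ^ (m + 1)))
    (x : 𝔑) (hxy : σ 𝕥 * σ 𝕖 = x * (𝕥 * 𝕖)) :
    x = 1 + algebraMap B 𝔑 γ * (𝕥 * 𝕖) ^ m := by
  have h1 : σ (𝕥 * 𝕖) = 𝕥 * 𝕖 + algebraMap B 𝔑 γ * (𝕥 * 𝕖) ^ (m + 1) := by
    rw [t_mul_e, hσπ, map_add, map_mul, map_pow]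
  rw [map_mul, hxy] at h1
  have h2 : algebraMap B 𝔑 π * (x - (1 + algebraMap B 𝔑 γ * (𝕥 * 𝕖) ^ m)) = 0 := by
    rw [← t_mul_e]
    rw [pow_succ] at h1
    linear_combination h1
  exact sub_eq_zero.mp (eq_zero_of_a_mul hπ.ne_zero _ h2)

end Semilinear


section Stab23

variable {B : Type u} [CommRing B] [IsDomain B] [IsDiscreteValuationRing B] {π : B}
  (hπ : Irreducible π)

local notation "𝔑" => ArLef.NodeAlg B π
local notation "𝕥" => ArLef.NodeAlg.t π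
local notation "𝕖" => ArLef.NodeAlg.e π

include hπ

/-- S15323. -/
theorem length_fixIdeal_of_stabilizes (j : ℕ) (hj : 1 ≤ j) (γ : B) (hγ : IsUnit γ)
    (σ : 𝔑 ≃+* 𝔑)
    (hσB : ∀ b : B, σ (algebraMap B 𝔑 b) - algebraMap B 𝔑 b ∈
      Ideal.span ({algebraMap B 𝔑 (π ^ j)} : Set 𝔑))
    (hσπ : σ (algebraMap B 𝔑 π) = algebraMap B 𝔑 (π + γ * π ^ j))
    (α β : 𝔑ˣ) (ht : σ 𝕥 = (α : 𝔑) * 𝕥) (he : σ 𝕖 = (β : 𝔑) * 𝕖)
    (htb : ¬ (𝕥 ∣ (β : 𝔑) - 1)) (hea : ¬ (𝕖 ∣ (α : 𝔑) - 1)) :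
    Module.length 𝔑 (𝔑 ⧸ ArLef.fixIdeal σ) =
      (j : ℕ∞) * (Module.length 𝔑 (𝔑 ⧸ Ideal.span ({𝕥, (β : 𝔑) - 1} : Set 𝔑)) +
        Module.length 𝔑 (𝔑 ⧸ Ideal.span ({𝕖, (α : 𝔑) - 1} : Set 𝔑))) + 1 := by
  obtain ⟨m, rfl⟩ : ∃ m, j = m + 1 := ⟨j - 1, by omega⟩
  set a : 𝔑 := (α : 𝔑) - 1 with ha
  set b : 𝔑 := (β : 𝔑) - 1 with hb
  set g : 𝔑 := algebraMap B 𝔑 γ with hg
  set ϖ : 𝔑 := 𝕥 * 𝕖 with hϖ
  have hαβ : (α : 𝔑) * β = 1 + g * ϖ ^ m :=
    unit_relation hπ m γ σ hσπ ((α : 𝔑) * β) (by rw [ht, he]; ring)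
  have hrel : a + b + a * b = g * ϖ ^ m := by
    rw [ha, hb]; linear_combination hαβ
  have hαa : (α : 𝔑) = 1 + a := by rw [ha]; ring
  have hβb : (β : 𝔑) = 1 + b := by rw [hb]; ring
  rw [fixIdeal_eq hπ (m + 1) γ hγ σ hσB hσπ (a * 𝕥) (b * 𝕖) (by rw [ht, ha]; ring)
    (by rw [he, hb]; ring)]
  -- first step: peel off `t`
  have E1 : (Ideal.span {ϖ ^ (m + 1)} ⊔ Ideal.span {a * 𝕥} ⊔ Ideal.span {b * 𝕖} : Ideal 𝔑) =
      Ideal.span {𝕥} * (Ideal.span {𝕥 ^ m * 𝕖 ^ (m + 1)} ⊔ Ideal.span {a}) ⊔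
        Ideal.span {b * 𝕖} := by
    rw [Ideal.mul_sup, Ideal.span_singleton_mul_span_singleton,
      Ideal.span_singleton_mul_span_singleton]
    have e1 : 𝕥 * (𝕥 ^ m * 𝕖 ^ (m + 1)) = ϖ ^ (m + 1) := by rw [hϖ]; ring
    have e2 : 𝕥 * a = a * 𝕥 := mul_comm _ _
    rw [e1, e2]
  have htbe : ¬ 𝕥 ∣ b * 𝕖 := by
    intro h
    rcases (t_prime hπ).dvd_or_dvd h with h1 | h1
    · exact htb h1
    · exact not_t_dvd_e hπ h1
  rw [E1, length_mul_sup 𝕥 (b * 𝕖) _ (t_regular hπ htbe)]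
  have L2 : Module.length 𝔑 (𝔑 ⧸ (Ideal.span {𝕥} ⊔ Ideal.span {b * 𝕖} : Ideal 𝔑)) =
      1 + Module.length 𝔑 (𝔑 ⧸ Ideal.span ({𝕥, b} : Set 𝔑)) := by
    rw [sup_comm, mul_comm b 𝕖, length_mul_sup' 𝕖 b 𝕥 (e_regular hπ (not_e_dvd_t hπ)),
      sup_comm, length_quot_max hπ, sup_comm, ← Ideal.span_insert]
  -- second step: peel off `e`
  have E3 : (Ideal.span {𝕥 ^ m * 𝕖 ^ (m + 1)} ⊔ Ideal.span {a} ⊔ Ideal.span {b * 𝕖} : Ideal 𝔑) =
      Ideal.span {𝕖} * (Ideal.span {ϖ ^ m} ⊔ Ideal.span {b}) ⊔ Ideal.span {a} := by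
    rw [Ideal.mul_sup, Ideal.span_singleton_mul_span_singleton,
      Ideal.span_singleton_mul_span_singleton, sup_right_comm]
    have e1 : 𝕖 * ϖ ^ m = 𝕥 ^ m * 𝕖 ^ (m + 1) := by rw [hϖ]; ring
    have e2 : 𝕖 * b = b * 𝕖 := mul_comm _ _
    rw [e1, e2]
  rw [E3, length_mul_sup 𝕖 a _ (e_regular hπ hea)]
  have L3 : Module.length 𝔑 (𝔑 ⧸ (Ideal.span {𝕖} ⊔ Ideal.span {a} : Ideal 𝔑)) =
      Module.length 𝔑 (𝔑 ⧸ Ideal.span ({𝕖, a} : Set 𝔑)) := by
    rw [← Ideal.span_insert]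
  -- `b ∈ (ϖ^m, a)`
  have hbmem : b ∈ (Ideal.span {ϖ ^ m} ⊔ Ideal.span {a} : Ideal 𝔑) := by
    have : b = (↑α⁻¹ : 𝔑) * (g * ϖ ^ m - a) := by
      have h1 : (α : 𝔑) * b = g * ϖ ^ m - a := by rw [hαa]; linear_combination hrel
      rw [← h1, ← mul_assoc, Units.inv_mul, one_mul]
    rw [this]
    apply Ideal.mul_mem_left
    exact Ideal.sub_mem _
      (Ideal.mem_sup_left (Ideal.mul_mem_left _ _ (Ideal.mem_span_singleton_self _)))
      (Ideal.mem_sup_right (Ideal.mem_span_singleton_self _))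
  have E4 : (Ideal.span {ϖ ^ m} ⊔ Ideal.span {b} ⊔ Ideal.span {a} : Ideal 𝔑) =
      Ideal.span {ϖ ^ m} ⊔ Ideal.span {a} := by
    apply le_antisymm
    · refine sup_le (sup_le le_sup_left ?_) le_sup_right
      rw [Ideal.span_singleton_le_iff_mem]
      exact hbmem
    · exact sup_le (le_sup_left.trans le_sup_left) le_sup_right
  rw [L2, L3, E4]
  rcases Nat.eq_zero_or_pos m with rfl | hm
  · -- `j = 1`
    have htop : (Ideal.span {ϖ ^ 0} ⊔ Ideal.span {a} : Ideal 𝔑) = ⊤ := by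
      rw [pow_zero, Ideal.span_singleton_one, top_sup_eq]
    have : Subsingleton (𝔑 ⧸ (Ideal.span {ϖ ^ 0} ⊔ Ideal.span {a} : Ideal 𝔑)) :=
      Ideal.Quotient.subsingleton_iff.mpr htop
    have h0 : Module.length 𝔑 (𝔑 ⧸ (Ideal.span {ϖ ^ 0} ⊔ Ideal.span {a} : Ideal 𝔑)) = 0 :=
      Module.length_eq_zero
    rw [h0]
    push_cast
    ring
  · -- `j ≥ 2`
    have hϖt : 𝕥 ∣ ϖ ^ m := by
      obtain ⟨m', rfl⟩ : ∃ m', m = m' + 1 := ⟨m - 1, by omega⟩
      exact ⟨𝕖 * ϖ ^ m', by rw [hϖ]; ring⟩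
    have hta : ¬ 𝕥 ∣ a := by
      intro h
      have h1 : 𝕥 ∣ (α : 𝔑) * b := by
        have e1 : (α : 𝔑) * b = g * ϖ ^ m - a := by rw [hαa]; linear_combination hrel
        rw [e1]
        exact dvd_sub (Dvd.dvd.mul_left hϖt g) h
      rcases (t_prime hπ).dvd_or_dvd h1 with h2 | h2
      · exact not_t_dvd_unit hπ α h2
      · exact htb h2
    have hreg : IsSMulRegular (𝔑 ⧸ Ideal.span ({a} : Set 𝔑)) ϖ :=
      (t_regular hπ hta).mul (e_regular hπ hea)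
    have E6 : (Ideal.span {𝕥} ⊔ Ideal.span {a} : Ideal 𝔑) = Ideal.span {𝕥} ⊔ Ideal.span {b} := by
      obtain ⟨c, hc⟩ := hϖt
      apply le_antisymm
      · refine sup_le le_sup_left ?_
        rw [Ideal.span_singleton_le_iff_mem]
        have : a = 𝕥 * (g * c) - b * (α : 𝔑) := by
          rw [hαa]; linear_combination hrel + g * hc
        rw [this]
        refine Ideal.sub_mem _ ?_ ?_
        · exact Ideal.mem_sup_left (Ideal.mul_mem_right _ _ (Ideal.mem_span_singleton_self _))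
        · exact Ideal.mem_sup_right (Ideal.mul_mem_right _ _ (Ideal.mem_span_singleton_self _))
      · refine sup_le le_sup_left ?_
        rw [Ideal.span_singleton_le_iff_mem]
        have : b = 𝕥 * (g * c) - a * (β : 𝔑) := by
          rw [hβb]; linear_combination hrel + g * hc
        rw [this]
        refine Ideal.sub_mem _ ?_ ?_
        · exact Ideal.mem_sup_left (Ideal.mul_mem_right _ _ (Ideal.mem_span_singleton_self _))
        · exact Ideal.mem_sup_right (Ideal.mul_mem_right _ _ (Ideal.mem_span_singleton_self _))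
    rw [length_pow_sup ϖ a hreg m, length_mul_sup' 𝕥 𝕖 a (t_regular hπ hta), E6,
      ← Ideal.span_insert, ← Ideal.span_insert]
    push_cast
    ring

end Stab23


section Switch20

variable {B : Type u} [CommRing B] [IsDomain B] [IsDiscreteValuationRing B] {π : B}
  (hπ : Irreducible π)

local notation "𝔑" => ArLef.NodeAlg B π
local notation "𝕥" => ArLef.NodeAlg.t π
local notation "𝕖" => ArLef.NodeAlg.e π

omit [IsDomain B] [IsDiscreteValuationRing B] in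
/-- If `g ∣ p^n x` with `p` a prime non-zero-divisor, then `p ∣ g` or `g ∣ x`. -/
lemma dvd_or_dvd_of_dvd_pow_mul {R : Type u} [CommRing R] {p : R} (hp : Prime p)
    (hnzd : ∀ r : R, p * r = 0 → r = 0) (g x : R) (n : ℕ) (h : g ∣ p ^ n * x) :
    p ∣ g ∨ g ∣ x := by
  induction n generalizing x with
  | zero => rw [pow_zero, one_mul] at h; exact Or.inr h
  | succ n ih =>
    rw [pow_succ, mul_assoc] at h
    rcases ih (p * x) h with h1 | ⟨c, hc⟩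
    · exact Or.inl h1
    · have h2 : p ∣ g * c := ⟨x, hc.symm⟩
      rcases hp.dvd_or_dvd h2 with h3 | ⟨c', rfl⟩
      · exact Or.inl h3
      · refine Or.inr ⟨c', ?_⟩
        have h4 : p * (x - g * c') = 0 := by linear_combination hc
        exact sub_eq_zero.mp (hnzd _ h4)

include hπ

/-- S15320. -/
theorem length_fixIdeal_of_switches (j : ℕ) (hj : 1 ≤ j) (γ : B) (hγ : IsUnit γ)
    (σ : 𝔑 ≃+* 𝔑)
    (hσB : ∀ b : B, σ (algebraMap B 𝔑 b) - algebraMap B 𝔑 b ∈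
      Ideal.span ({algebraMap B 𝔑 (π ^ j)} : Set 𝔑))
    (hσπ : σ (algebraMap B 𝔑 π) = algebraMap B 𝔑 (π + γ * π ^ j))
    (ht : Associated (σ 𝕥) 𝕖) (he : Associated (σ 𝕖) 𝕥) :
    (∀ g : 𝔑, ArLef.fixIdeal σ ≤ Ideal.span ({g} : Set 𝔑) → IsUnit g) ∧
      Module.length 𝔑 (𝔑 ⧸ ArLef.fixIdeal σ) = ((2 * j - 1 : ℕ) : ℕ∞) := by
  obtain ⟨m, rfl⟩ : ∃ m, j = m + 1 := ⟨j - 1, by omega⟩
  obtain ⟨u, hu⟩ := ht
  obtain ⟨v, hv⟩ := he
  have hst : σ 𝕥 = (↑u⁻¹ : 𝔑) * 𝕖 := by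
    calc σ 𝕥 = σ 𝕥 * (u : 𝔑) * (↑u⁻¹ : 𝔑) := by rw [mul_assoc, Units.mul_inv, mul_one]
      _ = (↑u⁻¹ : 𝔑) * 𝕖 := by rw [hu, mul_comm]
  have hse : σ 𝕖 = (↑v⁻¹ : 𝔑) * 𝕥 := by
    calc σ 𝕖 = σ 𝕖 * (v : 𝔑) * (↑v⁻¹ : 𝔑) := by rw [mul_assoc, Units.mul_inv, mul_one]
      _ = (↑v⁻¹ : 𝔑) * 𝕥 := by rw [hv, mul_comm]
  set α : 𝔑ˣ := u⁻¹ with hα
  set β : 𝔑ˣ := v⁻¹ with hβ
  set g : 𝔑 := algebraMap B 𝔑 γ with hg
  set ϖ : 𝔑 := 𝕥 * 𝕖 with hϖ
  set h : 𝔑 := (α : 𝔑) * 𝕖 - 𝕥 with hh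
  have hαβ : (α : 𝔑) * β = 1 + g * ϖ ^ m :=
    unit_relation hπ m γ σ hσπ ((α : 𝔑) * β) (by rw [hst, hse]; ring)
  have hgu : IsUnit g := hγ.map _
  -- the fixed-point ideal
  have hI : ArLef.fixIdeal σ = Ideal.span {h} ⊔ Ideal.span {ϖ ^ m * 𝕖} := by
    rw [fixIdeal_eq hπ (m + 1) γ hγ σ hσB hσπ h ((β : 𝔑) * 𝕥 - 𝕖) (by rw [hst])
      (by rw [hse])]
    have e1 : (β : 𝔑) * 𝕥 - 𝕖 = -(β : 𝔑) * h + g * (ϖ ^ m * 𝕖) := by
      rw [hh]; linear_combination 𝕖 * hαβ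
    apply le_antisymm
    · refine sup_le (sup_le ?_ le_sup_left) ?_
      · rw [Ideal.span_singleton_le_iff_mem]
        have : ϖ ^ (m + 1) = 𝕥 * (ϖ ^ m * 𝕖) := by rw [hϖ]; ring
        rw [this]
        exact Ideal.mem_sup_right (Ideal.mul_mem_left _ _ (Ideal.mem_span_singleton_self _))
      · rw [Ideal.span_singleton_le_iff_mem, e1]
        exact Ideal.add_mem _
          (Ideal.mem_sup_left (Ideal.mul_mem_left _ _ (Ideal.mem_span_singleton_self _)))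
          (Ideal.mem_sup_right (Ideal.mul_mem_left _ _ (Ideal.mem_span_singleton_self _)))
    · refine sup_le (le_sup_left.trans' le_sup_right) ?_
      rw [Ideal.span_singleton_le_iff_mem]
      obtain ⟨g', hg'⟩ := hgu.exists_left_inv
      have : ϖ ^ m * 𝕖 = g' * (((β : 𝔑) * 𝕥 - 𝕖) + (β : 𝔑) * h) := by
        rw [e1]
        linear_combination (-(ϖ ^ m * 𝕖)) * hg'
      rw [this]
      apply Ideal.mul_mem_left
      exact Ideal.add_mem _ (Ideal.mem_sup_right (Ideal.mem_span_singleton_self _))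
        (Ideal.mem_sup_left (Ideal.mem_sup_right
          (Ideal.mul_mem_left _ _ (Ideal.mem_span_singleton_self _))))
  have hth : ¬ 𝕥 ∣ h := by
    intro h1
    have h2 : 𝕥 ∣ (α : 𝔑) * 𝕖 := by
      have : (α : 𝔑) * 𝕖 = h + 𝕥 := by rw [hh]; ring
      rw [this]
      exact dvd_add h1 dvd_rfl
    rcases (t_prime hπ).dvd_or_dvd h2 with h3 | h3
    · exact not_t_dvd_unit hπ α h3
    · exact not_t_dvd_e hπ h3
  have heh : ¬ 𝕖 ∣ h := by
    intro h1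
    have h2 : 𝕖 ∣ 𝕥 := by
      have : 𝕥 = (α : 𝔑) * 𝕖 - h := by rw [hh]; ring
      rw [this]
      exact dvd_sub (Dvd.intro_left _ rfl) h1
    exact not_e_dvd_t hπ h2
  constructor
  · intro x hx
    rw [hI, sup_le_iff, Ideal.span_singleton_le_span_singleton,
      Ideal.span_singleton_le_span_singleton] at hx
    obtain ⟨hx1, hx2⟩ := hx
    have e2 : ϖ ^ m * 𝕖 = 𝕥 ^ m * (𝕖 ^ (m + 1) * 1) := by rw [hϖ]; ring
    rw [e2] at hx2
    rcases dvd_or_dvd_of_dvd_pow_mul (t_prime hπ) (eq_zero_of_t_mul hπ.ne_zero) x _ m hx2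
      with h1 | h1
    · exact absurd (h1.trans hx1) hth
    · rcases dvd_or_dvd_of_dvd_pow_mul (e_prime hπ) (eq_zero_of_e_mul hπ.ne_zero) x _ (m + 1) h1
        with h2 | h2
      · exact absurd (h2.trans hx1) heh
      · exact isUnit_of_dvd_one h2
  · rw [hI, sup_comm]
    have e2 : ϖ ^ m * 𝕖 = 𝕥 ^ m * 𝕖 ^ (m + 1) := by rw [hϖ]; ring
    have E1 : (Ideal.span {𝕥} ⊔ Ideal.span {h} : Ideal 𝔑) = Ideal.span {𝕥} ⊔ Ideal.span {𝕖} := by
      apply le_antisymm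
      · refine sup_le le_sup_left ?_
        rw [Ideal.span_singleton_le_iff_mem, hh]
        exact Ideal.sub_mem _
          (Ideal.mem_sup_right (Ideal.mul_mem_left _ _ (Ideal.mem_span_singleton_self _)))
          (Ideal.mem_sup_left (Ideal.mem_span_singleton_self _))
      · refine sup_le le_sup_left ?_
        rw [Ideal.span_singleton_le_iff_mem]
        have : 𝕖 = (↑α⁻¹ : 𝔑) * (h + 𝕥) := by
          rw [hh, sub_add_cancel, ← mul_assoc, Units.inv_mul, one_mul]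
        rw [this]
        apply Ideal.mul_mem_left
        exact Ideal.add_mem _ (Ideal.mem_sup_right (Ideal.mem_span_singleton_self _))
          (Ideal.mem_sup_left (Ideal.mem_span_singleton_self _))
    have E2 : (Ideal.span {𝕖} ⊔ Ideal.span {h} : Ideal 𝔑) = Ideal.span {𝕥} ⊔ Ideal.span {𝕖} := by
      apply le_antisymm
      · refine sup_le le_sup_right ?_
        rw [Ideal.span_singleton_le_iff_mem, hh]
        exact Ideal.sub_mem _
          (Ideal.mem_sup_right (Ideal.mul_mem_left _ _ (Ideal.mem_span_singleton_self _)))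
          (Ideal.mem_sup_left (Ideal.mem_span_singleton_self _))
      · refine sup_le ?_ le_sup_left
        rw [Ideal.span_singleton_le_iff_mem]
        have : 𝕥 = (α : 𝔑) * 𝕖 - h := by rw [hh]; ring
        rw [this]
        exact Ideal.sub_mem _
          (Ideal.mem_sup_left (Ideal.mul_mem_left _ _ (Ideal.mem_span_singleton_self _)))
          (Ideal.mem_sup_right (Ideal.mem_span_singleton_self _))
    rw [e2, length_mul_sup' (𝕥 ^ m) (𝕖 ^ (m + 1)) h ((t_regular hπ hth).pow m),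
      length_pow_sup 𝕥 h (t_regular hπ hth) m, length_pow_sup 𝕖 h (e_regular hπ heh) (m + 1),
      E1, E2, length_quot_max hπ]
    have : 2 * (m + 1) - 1 = m + (m + 1) := by omega
    rw [this]
    push_cast
    ring

end Switch20

end Groth.Agent.NodeLen
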