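import Mathlib
import Groth.Prelude.Def_W4c2arithlefschetzNode
import Groth.Agent.Lib.NodeLen_helper9

/-!
# Residual (colon) fixed-point ideals in the formal double point `B[[t, e]]/(te - π)` (helper9)
-/

set_option autoImplicit false

universe u

namespace Groth.Agent.NodeColon

open Groth.Agent.NodeB Groth.Agent.NodeLen

section Gen

variable {A : Type u} [CommRing A]

/-- The exact sequence `0 → A/(J : x) → A/J → A/(J + (x)) → 0`. -/
lemma length_quot_eq_colon_add (J : Ideal A) (x : A) :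
    Module.length A (A ⧸ J) =
      Module.length A (A ⧸ J.colon ({x} : Set A)) +
        Module.length A (A ⧸ (J ⊔ Ideal.span {x})) := by
  have h12 : (J.colon ({x} : Set A)) ≤ Submodule.comap (LinearMap.lsmul A A x) J := by
    intro r hr
    have h := Submodule.mem_colon_singleton.mp hr
    show x • r ∈ J
    rw [smul_eq_mul] at h ⊢
    rwa [mul_comm]
  have h23 : J ≤ Submodule.comap (LinearMap.id : A →ₗ[A] A) (J ⊔ Ideal.span {x}) :=
    fun r hr => Ideal.mem_sup_left hr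
  let f : (A ⧸ J.colon ({x} : Set A)) →ₗ[A] (A ⧸ J) :=
    Submodule.mapQ _ _ (LinearMap.lsmul A A x) h12
  let g : (A ⧸ J) →ₗ[A] (A ⧸ (J ⊔ Ideal.span {x} : Ideal A)) :=
    Submodule.mapQ _ _ LinearMap.id h23
  have hfmk : ∀ r : A, f (Submodule.Quotient.mk r) = Submodule.Quotient.mk (x * r) := fun r => rfl
  have hgmk : ∀ r : A, g (Submodule.Quotient.mk r) = Submodule.Quotient.mk r := fun r => rfl
  have hf : Function.Injective f := by
    rw [← LinearMap.ker_eq_bot, LinearMap.ker_eq_bot']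
    intro y hy
    obtain ⟨r, rfl⟩ := Submodule.Quotient.mk_surjective _ y
    rw [hfmk, Submodule.Quotient.mk_eq_zero] at hy
    rw [Submodule.Quotient.mk_eq_zero, Submodule.mem_colon_singleton, smul_eq_mul, mul_comm]
    exact hy
  have hg : Function.Surjective g := by
    intro y
    obtain ⟨r, rfl⟩ := Submodule.Quotient.mk_surjective _ y
    exact ⟨Submodule.Quotient.mk r, rfl⟩
  have hexact : Function.Exact f g := by
    intro y
    obtain ⟨r, rfl⟩ := Submodule.Quotient.mk_surjective _ y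
    rw [hgmk, Submodule.Quotient.mk_eq_zero]
    constructor
    · intro hr
      obtain ⟨y', hy', z, hz, rfl⟩ := Submodule.mem_sup.mp hr
      obtain ⟨c, rfl⟩ := Ideal.mem_span_singleton'.mp hz
      refine ⟨Submodule.Quotient.mk c, ?_⟩
      rw [hfmk, Submodule.Quotient.eq]
      have e : x * c - (y' + c * x) = -y' := by ring
      rw [e]
      exact Submodule.neg_mem _ hy'
    · rintro ⟨y', hy'⟩
      obtain ⟨c, rfl⟩ := Submodule.Quotient.mk_surjective _ y'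
      rw [hfmk, Submodule.Quotient.eq] at hy'
      have e : r = x * c - (x * c - r) := by ring
      rw [e]
      exact Ideal.sub_mem _
        (Ideal.mem_sup_right (Ideal.mul_mem_right _ _ (Ideal.mem_span_singleton_self _)))
        (Ideal.mem_sup_left hy')
  rw [Module.length_eq_add_of_exact f g hf hg hexact]

/-- Cancelling a non-zero-divisor in a colon ideal. -/
lemma colon_span_mul (D : A) (hD : ∀ r : A, D * r = 0 → r = 0) (J : Ideal A) :
    (Ideal.span {D} * J).colon ({D} : Set A) = J := by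
  ext r
  rw [Submodule.mem_colon_singleton, smul_eq_mul, Ideal.mem_span_singleton_mul]
  constructor
  · rintro ⟨z, hz, hzr⟩
    have : D * (z - r) = 0 := by linear_combination hzr
    have h1 := hD _ this
    rw [sub_eq_zero] at h1
    rwa [← h1]
  · intro hr
    exact ⟨r, hr, mul_comm _ _⟩

lemma eq_zero_of_pow_mul {p : A} (h : ∀ r : A, p * r = 0 → r = 0) (n : ℕ) :
    ∀ r : A, p ^ n * r = 0 → r = 0 := by
  induction n with
  | zero => intro r hr; rwa [pow_zero, one_mul] at hr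
  | succ n ih =>
    intro r hr
    apply ih
    apply h
    rw [← hr]; ring

lemma length_pow_mul_sup [IsNoetherianRing A] (x c : A) (I : Ideal A)
    (hx : IsSMulRegular (A ⧸ Ideal.span ({c} : Set A)) x) (n : ℕ) :
    Module.length A (A ⧸ (Ideal.span {x ^ n} * I ⊔ Ideal.span {c})) =
      (n : ℕ∞) * Module.length A (A ⧸ (Ideal.span {x} ⊔ Ideal.span {c})) +
        Module.length A (A ⧸ (I ⊔ Ideal.span {c})) := by
  induction n with
  | zero =>
    rw [pow_zero, Ideal.span_singleton_one, Ideal.top_mul, Nat.cast_zero, zero_mul, zero_add]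
  | succ n ih =>
    have e : (Ideal.span {x ^ (n + 1)} * I : Ideal A) = Ideal.span {x} * (Ideal.span {x ^ n} * I) := by
      rw [← mul_assoc, Ideal.span_singleton_mul_span_singleton, pow_succ']
    rw [e, length_mul_sup x c _ hx, ih]
    push_cast
    ring

lemma length_top_sup (I : Ideal A) (hI : I = ⊤) : Module.length A (A ⧸ I) = 0 := by
  have : Subsingleton (A ⧸ I) := Ideal.Quotient.subsingleton_iff.mpr hI
  exact Module.length_eq_zero

end Gen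

section Colon

variable {B : Type u} [CommRing B] [IsDomain B] [IsDiscreteValuationRing B] {π : B}
  (hπ : Irreducible π)

local notation "𝔑" => ArLef.NodeAlg B π
local notation "𝕥" => ArLef.NodeAlg.t π
local notation "𝕖" => ArLef.NodeAlg.e π

include hπ

lemma nzd_monomial (i₁ i₂ : ℕ) : ∀ r : 𝔑, 𝕥 ^ i₁ * 𝕖 ^ i₂ * r = 0 → r = 0 := by
  intro r hr
  apply eq_zero_of_pow_mul (eq_zero_of_e_mul hπ.ne_zero) i₂
  apply eq_zero_of_pow_mul (eq_zero_of_t_mul hπ.ne_zero) i₁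
  rw [← hr]; ring

/-- S19596. -/
theorem length_colon_mid (j i₁ i₂ : ℕ) (h12 : i₁ ≤ i₂) (h2j : i₂ < j) (γ : B) (hγ : IsUnit γ)
    (σ : 𝔑 ≃+* 𝔑)
    (hσB : ∀ c : B, σ (algebraMap B 𝔑 c) - algebraMap B 𝔑 c ∈
      Ideal.span ({algebraMap B 𝔑 (π ^ j)} : Set 𝔑))
    (hσπ : σ (algebraMap B 𝔑 π) = algebraMap B 𝔑 (π + γ * π ^ j))
    (α β : 𝔑ˣ) (ht : σ 𝕥 = (α : 𝔑) * 𝕥) (he : σ 𝕖 = (β : 𝔑) * 𝕖)
    (a b : 𝔑) (ha : (α : 𝔑) - 1 = 𝕥 ^ i₁ * 𝕖 ^ i₂ * a) (hb : (β : 𝔑) - 1 = 𝕥 ^ i₁ * 𝕖 ^ i₂ * b)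
    (hea : ¬ (𝕖 ∣ a)) (htb : ¬ (𝕥 ∣ b)) :
    Module.length 𝔑 (𝔑 ⧸ (ArLef.fixIdeal σ).colon ({𝕥 ^ i₁ * 𝕖 ^ i₂} : Set 𝔑)) =
      1 + ((j - i₁ : ℕ) : ℕ∞) * Module.length 𝔑 (𝔑 ⧸ Ideal.span ({𝕥, b} : Set 𝔑)) +
        ((j - i₂ : ℕ) : ℕ∞) * Module.length 𝔑 (𝔑 ⧸ Ideal.span ({𝕖, a} : Set 𝔑)) := by
  obtain ⟨q, rfl⟩ : ∃ q, j = i₂ + q + 1 := ⟨j - i₂ - 1, by omega⟩
  obtain ⟨d, rfl⟩ : ∃ d, i₂ = i₁ + d := ⟨i₂ - i₁, by omega⟩
  have hP : i₁ + d + q + 1 - i₁ = d + q + 1 := by omega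
  have hQ : i₁ + d + q + 1 - (i₁ + d) = q + 1 := by omega
  rw [hP, hQ]
  set g : 𝔑 := algebraMap B 𝔑 γ with hg
  set D : 𝔑 := 𝕥 ^ i₁ * 𝕖 ^ (i₁ + d) with hD
  have hDnzd : ∀ r : 𝔑, D * r = 0 → r = 0 := nzd_monomial hπ i₁ (i₁ + d)
  have hαβ : (α : 𝔑) * β = 1 + g * (𝕥 * 𝕖) ^ (i₁ + d + q) :=
    unit_relation hπ (i₁ + d + q) γ σ hσπ ((α : 𝔑) * β) (by rw [ht, he]; ring)
  have hαa : (α : 𝔑) = 1 + D * a := by linear_combination ha
  have hβb : (β : 𝔑) = 1 + D * b := by linear_combination hb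
  have hrel : a * (β : 𝔑) = g * (𝕥 ^ (d + q) * 𝕖 ^ q) - b := by
    have h1 : D * (a * (β : 𝔑) - (g * (𝕥 ^ (d + q) * 𝕖 ^ q) - b)) = 0 := by
      have e : (𝕥 * 𝕖) ^ (i₁ + d + q) = D * (𝕥 ^ (d + q) * 𝕖 ^ q) := by rw [hD]; ring
      rw [e, hαa] at hαβ
      linear_combination hαβ - hβb
    exact sub_eq_zero.mp (hDnzd _ h1)
  set J : Ideal 𝔑 := Ideal.span {𝕥 ^ (d + q + 1) * 𝕖 ^ (q + 1)} ⊔ Ideal.span {a * 𝕥} ⊔
    Ideal.span {b * 𝕖} with hJ
  have hI : ArLef.fixIdeal σ = Ideal.span {D} * J := by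
    rw [fixIdeal_eq hπ (i₁ + d + q + 1) γ hγ σ hσB hσπ (D * (a * 𝕥)) (D * (b * 𝕖))
      (by rw [ht]; linear_combination 𝕥 * ha) (by rw [he]; linear_combination 𝕖 * hb)]
    rw [hJ, Ideal.mul_sup, Ideal.mul_sup, Ideal.span_singleton_mul_span_singleton,
      Ideal.span_singleton_mul_span_singleton, Ideal.span_singleton_mul_span_singleton]
    have e : (𝕥 * 𝕖) ^ (i₁ + d + q + 1) = D * (𝕥 ^ (d + q + 1) * 𝕖 ^ (q + 1)) := by
      rw [hD]; ring
    rw [e]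
  rw [hI, colon_span_mul D hDnzd J, length_quot_eq_colon_add J 𝕖]
  have E1 : J ⊔ Ideal.span {𝕖} = Ideal.span {𝕥 * a} ⊔ Ideal.span {𝕖} := by
    rw [hJ]
    apply le_antisymm
    · refine sup_le (sup_le (sup_le ?_ ?_) ?_) le_sup_right
      · rw [Ideal.span_singleton_le_iff_mem]
        exact Ideal.mem_sup_right
          (Ideal.mem_span_singleton.mpr ⟨𝕥 ^ (d + q + 1) * 𝕖 ^ q, by ring⟩)
      · rw [Ideal.span_singleton_le_iff_mem, mul_comm a 𝕥]
        exact Ideal.mem_sup_left (Ideal.mem_span_singleton_self _)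
      · rw [Ideal.span_singleton_le_iff_mem]
        exact Ideal.mem_sup_right (Ideal.mul_mem_left _ _ (Ideal.mem_span_singleton_self _))
    · refine sup_le ?_ le_sup_right
      rw [Ideal.span_singleton_le_iff_mem, mul_comm 𝕥 a]
      exact Ideal.mem_sup_left (Ideal.mem_sup_left (Ideal.mem_sup_right
        (Ideal.mem_span_singleton_self _)))
  have E2 : J.colon ({𝕖} : Set 𝔑) =
      Ideal.span {𝕥 ^ (d + q + 1) * 𝕖 ^ q} ⊔ Ideal.span {b} := by
    have hat : a * 𝕥 ∈ (Ideal.span {𝕥 ^ (d + q + 1) * 𝕖 ^ q} ⊔ Ideal.span {b} : Ideal 𝔑) := by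
      have : a * 𝕥 = (↑β⁻¹ : 𝔑) * (g * (𝕥 ^ (d + q + 1) * 𝕖 ^ q) - 𝕥 * b) := by
        have h1 : (β : 𝔑) * (a * 𝕥) = g * (𝕥 ^ (d + q + 1) * 𝕖 ^ q) - 𝕥 * b := by
          linear_combination 𝕥 * hrel
        rw [← h1, ← mul_assoc, Units.inv_mul, one_mul]
      rw [this]
      apply Ideal.mul_mem_left
      exact Ideal.sub_mem _
        (Ideal.mem_sup_left (Ideal.mul_mem_left _ _ (Ideal.mem_span_singleton_self _)))
        (Ideal.mem_sup_right (Ideal.mul_mem_left _ _ (Ideal.mem_span_singleton_self _)))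
    apply le_antisymm
    · intro z hz
      rw [Submodule.mem_colon_singleton, smul_eq_mul, hJ] at hz
      obtain ⟨y1, hy1, y2, hy2, hyz⟩ := Submodule.mem_sup.mp hz
      obtain ⟨y3, hy3, y4, hy4, rfl⟩ := Submodule.mem_sup.mp hy1
      obtain ⟨u, rfl⟩ := Ideal.mem_span_singleton'.mp hy3
      obtain ⟨v, rfl⟩ := Ideal.mem_span_singleton'.mp hy4
      obtain ⟨w, rfl⟩ := Ideal.mem_span_singleton'.mp hy2
      have hdv : 𝕖 ∣ v * (a * 𝕥) :=
        ⟨z - u * (𝕥 ^ (d + q + 1) * 𝕖 ^ q) - w * b, by linear_combination hyz⟩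
      have hv : 𝕖 ∣ v := by
        rcases (e_prime hπ).dvd_or_dvd hdv with h | h
        · exact h
        · rcases (e_prime hπ).dvd_or_dvd h with h' | h'
          · exact absurd h' hea
          · exact absurd h' (not_e_dvd_t hπ)
      obtain ⟨v', rfl⟩ := hv
      have hz' : z = u * (𝕥 ^ (d + q + 1) * 𝕖 ^ q) + v' * (a * 𝕥) + w * b := by
        have : 𝕖 * (z - (u * (𝕥 ^ (d + q + 1) * 𝕖 ^ q) + v' * (a * 𝕥) + w * b)) = 0 := by
          linear_combination -hyz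
        exact sub_eq_zero.mp (eq_zero_of_e_mul hπ.ne_zero _ this)
      rw [hz']
      exact Ideal.add_mem _ (Ideal.add_mem _
        (Ideal.mem_sup_left (Ideal.mul_mem_left _ _ (Ideal.mem_span_singleton_self _)))
        (Ideal.mul_mem_left _ _ hat))
        (Ideal.mem_sup_right (Ideal.mul_mem_left _ _ (Ideal.mem_span_singleton_self _)))
    · refine sup_le ?_ ?_
      · rw [Ideal.span_singleton_le_iff_mem, Submodule.mem_colon_singleton, smul_eq_mul, hJ]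
        have : 𝕥 ^ (d + q + 1) * 𝕖 ^ q * 𝕖 = 𝕥 ^ (d + q + 1) * 𝕖 ^ (q + 1) := by ring
        rw [this]
        exact Ideal.mem_sup_left (Ideal.mem_sup_left (Ideal.mem_span_singleton_self _))
      · rw [Ideal.span_singleton_le_iff_mem, Submodule.mem_colon_singleton, smul_eq_mul, hJ]
        exact Ideal.mem_sup_right (Ideal.mem_span_singleton_self _)
  rw [E1, E2]
  have L1 : Module.length 𝔑 (𝔑 ⧸ (Ideal.span {𝕥 * a} ⊔ Ideal.span {𝕖} : Ideal 𝔑)) =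
      1 + Module.length 𝔑 (𝔑 ⧸ Ideal.span ({𝕖, a} : Set 𝔑)) := by
    rw [length_mul_sup' 𝕥 a 𝕖 (t_regular hπ (not_t_dvd_e hπ)), length_quot_max hπ, sup_comm,
      ← Ideal.span_insert]
  have L2 : Module.length 𝔑
      (𝔑 ⧸ (Ideal.span {𝕥 ^ (d + q + 1) * 𝕖 ^ q} ⊔ Ideal.span {b} : Ideal 𝔑)) =
      ((d + q + 1 : ℕ) : ℕ∞) * Module.length 𝔑 (𝔑 ⧸ Ideal.span ({𝕥, b} : Set 𝔑)) +
        (q : ℕ∞) * Module.length 𝔑 (𝔑 ⧸ Ideal.span ({𝕖, a} : Set 𝔑)) := by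
    rw [← Ideal.span_singleton_mul_span_singleton,
      length_pow_mul_sup 𝕥 b _ (t_regular hπ htb), ← Ideal.span_insert]
    congr 1
    rcases Nat.eq_zero_or_pos q with rfl | hq
    · rw [Nat.cast_zero, zero_mul]
      exact length_top_sup _ (by rw [pow_zero, Ideal.span_singleton_one, top_sup_eq])
    · obtain ⟨q', rfl⟩ : ∃ q', q = q' + 1 := ⟨q - 1, by omega⟩
      have heM : 𝕥 ^ (d + (q' + 1)) * 𝕖 ^ (q' + 1) = 𝕖 * (𝕥 ^ (d + (q' + 1)) * 𝕖 ^ q') := by ring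
      have heb : ¬ 𝕖 ∣ b := by
        intro h
        have h1 : 𝕖 ∣ a * (β : 𝔑) := by
          rw [hrel, heM]
          exact dvd_sub (Dvd.dvd.mul_left (Dvd.intro _ rfl) g) h
        rcases (e_prime hπ).dvd_or_dvd h1 with h2 | h2
        · exact hea h2
        · exact not_e_dvd_unit hπ β h2
      rw [length_pow_sup 𝕖 b (e_regular hπ heb) (q' + 1)]
      have E3 : (Ideal.span {𝕖} ⊔ Ideal.span {b} : Ideal 𝔑) = Ideal.span {𝕖} ⊔ Ideal.span {a} := by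
        apply le_antisymm
        · refine sup_le le_sup_left ?_
          rw [Ideal.span_singleton_le_iff_mem]
          have : b = 𝕖 * (g * (𝕥 ^ (d + (q' + 1)) * 𝕖 ^ q')) - a * (β : 𝔑) := by
            rw [hrel, heM]; ring
          rw [this]
          exact Ideal.sub_mem _
            (Ideal.mem_sup_left (Ideal.mul_mem_right _ _ (Ideal.mem_span_singleton_self _)))
            (Ideal.mem_sup_right (Ideal.mul_mem_right _ _ (Ideal.mem_span_singleton_self _)))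
        · refine sup_le le_sup_left ?_
          rw [Ideal.span_singleton_le_iff_mem]
          have : a = (↑β⁻¹ : 𝔑) * (𝕖 * (g * (𝕥 ^ (d + (q' + 1)) * 𝕖 ^ q')) - b) := by
            have h1 : (β : 𝔑) * a = 𝕖 * (g * (𝕥 ^ (d + (q' + 1)) * 𝕖 ^ q')) - b := by
              rw [mul_comm (β : 𝔑) a, hrel, heM]; ring
            rw [← h1, ← mul_assoc, Units.inv_mul, one_mul]
          rw [this]
          apply Ideal.mul_mem_left
          exact Ideal.sub_mem _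
            (Ideal.mem_sup_left (Ideal.mul_mem_right _ _ (Ideal.mem_span_singleton_self _)))
            (Ideal.mem_sup_right (Ideal.mem_span_singleton_self _))
      rw [E3, ← Ideal.span_insert]
  rw [L1, L2]
  push_cast
  ring

end Colon


section ColonMax

variable {B : Type u} [CommRing B] [IsDomain B] [IsDiscreteValuationRing B] {π : B}
  (hπ : Irreducible π)

local notation "𝔑" => ArLef.NodeAlg B π
local notation "𝕥" => ArLef.NodeAlg.t π
local notation "𝕖" => ArLef.NodeAlg.e π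

include hπ

/-- S19597. -/
theorem length_colon_max (j i₁ : ℕ) (h1 : i₁ < j) (γ : B) (hγ : IsUnit γ)
    (σ : 𝔑 ≃+* 𝔑)
    (hσB : ∀ c : B, σ (algebraMap B 𝔑 c) - algebraMap B 𝔑 c ∈
      Ideal.span ({algebraMap B 𝔑 (π ^ j)} : Set 𝔑))
    (hσπ : σ (algebraMap B 𝔑 π) = algebraMap B 𝔑 (π + γ * π ^ j))
    (α β : 𝔑ˣ) (ht : σ 𝕥 = (α : 𝔑) * 𝕥) (he : σ 𝕖 = (β : 𝔑) * 𝕖)
    (a b : 𝔑) (ha : (α : 𝔑) - 1 = 𝕥 ^ i₁ * 𝕖 ^ j * a)
    (hb : (β : 𝔑) - 1 = 𝕥 ^ i₁ * 𝕖 ^ (j - 1) * b)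
    (htb : ¬ (𝕥 ∣ b)) :
    Module.length 𝔑 (𝔑 ⧸ (ArLef.fixIdeal σ).colon ({𝕥 ^ i₁ * 𝕖 ^ j} : Set 𝔑)) +
        ((j - 1 - i₁ : ℕ) : ℕ∞) =
      ((j - i₁ : ℕ) : ℕ∞) * Module.length 𝔑 (𝔑 ⧸ Ideal.span ({𝕥, b} : Set 𝔑)) := by
  obtain ⟨p, rfl⟩ : ∃ p, j = i₁ + p + 1 := ⟨j - i₁ - 1, by omega⟩
  have h1' : i₁ + p + 1 - 1 - i₁ = p := by omega
  have h2' : i₁ + p + 1 - i₁ = p + 1 := by omega
  have h3' : i₁ + p + 1 - 1 = i₁ + p := by omega
  rw [h1', h2']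
  rw [h3'] at hb
  set g : 𝔑 := algebraMap B 𝔑 γ with hg
  set D : 𝔑 := 𝕥 ^ i₁ * 𝕖 ^ (i₁ + p + 1) with hD
  set D' : 𝔑 := 𝕥 ^ i₁ * 𝕖 ^ (i₁ + p) with hD'
  have hDD' : D = D' * 𝕖 := by rw [hD, hD']; ring
  have hDnzd : ∀ r : 𝔑, D * r = 0 → r = 0 := nzd_monomial hπ i₁ (i₁ + p + 1)
  have hD'nzd : ∀ r : 𝔑, D' * r = 0 → r = 0 := nzd_monomial hπ i₁ (i₁ + p)
  have hαβ : (α : 𝔑) * β = 1 + g * (𝕥 * 𝕖) ^ (i₁ + p) :=
    unit_relation hπ (i₁ + p) γ σ hσπ ((α : 𝔑) * β) (by rw [ht, he]; ring)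
  have hαa : (α : 𝔑) = 1 + D' * 𝕖 * a := by rw [← hDD']; linear_combination ha
  have hβb : (β : 𝔑) = 1 + D' * b := by linear_combination hb
  have hrel : b * (α : 𝔑) = g * 𝕥 ^ p - 𝕖 * a := by
    have h1 : D' * (b * (α : 𝔑) - (g * 𝕥 ^ p - 𝕖 * a)) = 0 := by
      have e : (𝕥 * 𝕖) ^ (i₁ + p) = D' * 𝕥 ^ p := by rw [hD']; ring
      rw [e, hβb] at hαβ
      linear_combination hαβ - hαa
    exact sub_eq_zero.mp (hD'nzd _ h1)
  set J : Ideal 𝔑 := Ideal.span {𝕥 ^ (p + 1)} ⊔ Ideal.span {a * 𝕥} ⊔ Ideal.span {b} with hJ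
  have hI : ArLef.fixIdeal σ = Ideal.span {D} * J := by
    rw [fixIdeal_eq hπ (i₁ + p + 1) γ hγ σ hσB hσπ (D * (a * 𝕥)) (D * b)
      (by rw [ht]; linear_combination 𝕥 * ha) (by rw [he, hDD']; linear_combination 𝕖 * hb)]
    rw [hJ, Ideal.mul_sup, Ideal.mul_sup, Ideal.span_singleton_mul_span_singleton,
      Ideal.span_singleton_mul_span_singleton, Ideal.span_singleton_mul_span_singleton]
    have e : (𝕥 * 𝕖) ^ (i₁ + p + 1) = D * 𝕥 ^ (p + 1) := by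
      rw [hD]; ring
    rw [e]
  rw [hI, colon_span_mul D hDnzd J, length_quot_eq_colon_add J 𝕥]
  have E1 : J ⊔ Ideal.span {𝕥} = Ideal.span {𝕥} ⊔ Ideal.span {b} := by
    rw [hJ]
    apply le_antisymm
    · refine sup_le (sup_le (sup_le ?_ ?_) le_sup_right) le_sup_left
      · rw [Ideal.span_singleton_le_iff_mem]
        exact Ideal.mem_sup_left
          (Ideal.mem_span_singleton.mpr ⟨𝕥 ^ p, by ring⟩)
      · rw [Ideal.span_singleton_le_iff_mem]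
        exact Ideal.mem_sup_left (Ideal.mul_mem_left _ _ (Ideal.mem_span_singleton_self _))
    · exact sup_le le_sup_right (le_sup_left.trans' le_sup_right)
  have hbmem : b ∈ (Ideal.span {𝕥 ^ p} ⊔ Ideal.span {a} : Ideal 𝔑) := by
    have : b = (↑α⁻¹ : 𝔑) * (g * 𝕥 ^ p - 𝕖 * a) := by
      have h1 : (α : 𝔑) * b = g * 𝕥 ^ p - 𝕖 * a := by rw [mul_comm (α : 𝔑) b, hrel]
      rw [← h1, ← mul_assoc, Units.inv_mul, one_mul]
    rw [this]
    apply Ideal.mul_mem_left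
    exact Ideal.sub_mem _
      (Ideal.mem_sup_left (Ideal.mul_mem_left _ _ (Ideal.mem_span_singleton_self _)))
      (Ideal.mem_sup_right (Ideal.mul_mem_left _ _ (Ideal.mem_span_singleton_self _)))
  have E2 : J.colon ({𝕥} : Set 𝔑) = Ideal.span {𝕥 ^ p} ⊔ Ideal.span {a} := by
    apply le_antisymm
    · intro z hz
      rw [Submodule.mem_colon_singleton, smul_eq_mul, hJ] at hz
      obtain ⟨y1, hy1, y2, hy2, hyz⟩ := Submodule.mem_sup.mp hz
      obtain ⟨y3, hy3, y4, hy4, rfl⟩ := Submodule.mem_sup.mp hy1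
      obtain ⟨u, rfl⟩ := Ideal.mem_span_singleton'.mp hy3
      obtain ⟨v, rfl⟩ := Ideal.mem_span_singleton'.mp hy4
      obtain ⟨w, rfl⟩ := Ideal.mem_span_singleton'.mp hy2
      have hdv : 𝕥 ∣ w * b :=
        ⟨z - u * 𝕥 ^ p - v * a, by linear_combination hyz⟩
      have hw : 𝕥 ∣ w := by
        rcases (t_prime hπ).dvd_or_dvd hdv with h | h
        · exact h
        · exact absurd h htb
      obtain ⟨w', rfl⟩ := hw
      have hz' : z = u * 𝕥 ^ p + v * a + w' * b := by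
        have : 𝕥 * (z - (u * 𝕥 ^ p + v * a + w' * b)) = 0 := by
          linear_combination -hyz
        exact sub_eq_zero.mp (eq_zero_of_t_mul hπ.ne_zero _ this)
      rw [hz']
      exact Ideal.add_mem _ (Ideal.add_mem _
        (Ideal.mem_sup_left (Ideal.mul_mem_left _ _ (Ideal.mem_span_singleton_self _)))
        (Ideal.mem_sup_right (Ideal.mul_mem_left _ _ (Ideal.mem_span_singleton_self _))))
        (Ideal.mul_mem_left _ _ hbmem)
    · refine sup_le ?_ ?_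
      · rw [Ideal.span_singleton_le_iff_mem, Submodule.mem_colon_singleton, smul_eq_mul, hJ]
        have : 𝕥 ^ p * 𝕥 = 𝕥 ^ (p + 1) := by ring
        rw [this]
        exact Ideal.mem_sup_left (Ideal.mem_sup_left (Ideal.mem_span_singleton_self _))
      · rw [Ideal.span_singleton_le_iff_mem, Submodule.mem_colon_singleton, smul_eq_mul, hJ]
        exact Ideal.mem_sup_left (Ideal.mem_sup_right (Ideal.mem_span_singleton_self _))
  rw [E1, E2, Ideal.span_insert 𝕥 ({b} : Set 𝔑)]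
  rcases Nat.eq_zero_or_pos p with rfl | hp
  · have h0 : Module.length 𝔑 (𝔑 ⧸ (Ideal.span {𝕥 ^ 0} ⊔ Ideal.span {a} : Ideal 𝔑)) = 0 :=
      length_top_sup _ (by rw [pow_zero, Ideal.span_singleton_one, top_sup_eq])
    rw [h0]
    push_cast
    ring
  · obtain ⟨p', rfl⟩ : ∃ p', p = p' + 1 := ⟨p - 1, by omega⟩
    have hta : ¬ 𝕥 ∣ a := by
      intro h
      have h1 : 𝕥 ∣ b * (α : 𝔑) := by
        rw [hrel]
        exact dvd_sub (Dvd.dvd.mul_left (Dvd.intro_left _ (pow_succ _ _).symm) g)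
          (Dvd.dvd.mul_left h 𝕖)
      rcases (t_prime hπ).dvd_or_dvd h1 with h2 | h2
      · exact htb h2
      · exact not_t_dvd_unit hπ α h2
    rw [length_pow_sup 𝕥 a (t_regular hπ hta) (p' + 1)]
    have E3 : (Ideal.span {𝕥} ⊔ Ideal.span {b} : Ideal 𝔑) =
        Ideal.span {𝕖 * a} ⊔ Ideal.span {𝕥} := by
      apply le_antisymm
      · refine sup_le le_sup_right ?_
        rw [Ideal.span_singleton_le_iff_mem]
        have : b = (↑α⁻¹ : 𝔑) * (𝕥 * (g * 𝕥 ^ p') - 𝕖 * a) := by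
          have h1 : (α : 𝔑) * b = 𝕥 * (g * 𝕥 ^ p') - 𝕖 * a := by
            rw [mul_comm (α : 𝔑) b, hrel]; ring
          rw [← h1, ← mul_assoc, Units.inv_mul, one_mul]
        rw [this]
        apply Ideal.mul_mem_left
        exact Ideal.sub_mem _
          (Ideal.mem_sup_right (Ideal.mul_mem_right _ _ (Ideal.mem_span_singleton_self _)))
          (Ideal.mem_sup_left (Ideal.mem_span_singleton_self _))
      · refine sup_le ?_ le_sup_left
        rw [Ideal.span_singleton_le_iff_mem]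
        have : 𝕖 * a = 𝕥 * (g * 𝕥 ^ p') - b * (α : 𝔑) := by
          rw [hrel]; ring
        rw [this]
        exact Ideal.sub_mem _
          (Ideal.mem_sup_left (Ideal.mul_mem_right _ _ (Ideal.mem_span_singleton_self _)))
          (Ideal.mem_sup_right (Ideal.mul_mem_right _ _ (Ideal.mem_span_singleton_self _)))
    have L3 : Module.length 𝔑 (𝔑 ⧸ (Ideal.span {𝕥} ⊔ Ideal.span {b} : Ideal 𝔑)) =
        1 + Module.length 𝔑 (𝔑 ⧸ (Ideal.span {𝕥} ⊔ Ideal.span {a} : Ideal 𝔑)) := by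
      rw [E3, length_mul_sup' 𝕖 a 𝕥 (e_regular hπ (not_e_dvd_t hπ)),
        sup_comm (Ideal.span {𝕖}) (Ideal.span {𝕥}), length_quot_max hπ,
        sup_comm (Ideal.span {a}) (Ideal.span {𝕥})]
    rw [L3]
    push_cast
    ring

end ColonMax


section SwitchAlg

variable {B : Type u} [CommRing B] [IsDomain B] [IsDiscreteValuationRing B] {π : B}
  (hπ : Irreducible π)

local notation "𝔑" => ArLef.NodeAlg B π
local notation "𝕥" => ArLef.NodeAlg.t π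
local notation "𝕖" => ArLef.NodeAlg.e π

include hπ

/-- S15318. -/
theorem fixIdeal_principal_of_switches (σ : 𝔑 ≃ₐ[B] 𝔑)
    (ht : Associated (σ 𝕥) 𝕖) (he : Associated (σ 𝕖) 𝕥) :
    ∃ h : 𝔑, ArLef.fixIdeal σ = Ideal.span {h} ∧
      h ∉ (Ideal.span ({𝕥, 𝕖} : Set 𝔑)) ^ 2 ∧
      IsSMulRegular (𝔑 ⧸ Ideal.span ({h} : Set 𝔑)) π := by
  haveI := isLocalRing (pi_mem hπ)
  obtain ⟨u, hu⟩ := ht
  obtain ⟨v, hv⟩ := he
  have hst : σ 𝕥 = (↑u⁻¹ : 𝔑) * 𝕖 := by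
    calc σ 𝕥 = σ 𝕥 * (u : 𝔑) * (↑u⁻¹ : 𝔑) := by rw [mul_assoc, Units.mul_inv, mul_one]
      _ = (↑u⁻¹ : 𝔑) * 𝕖 := by rw [hu, mul_comm]
  have hse : σ 𝕖 = (↑v⁻¹ : 𝔑) * 𝕥 := by
    calc σ 𝕖 = σ 𝕖 * (v : 𝔑) * (↑v⁻¹ : 𝔑) := by rw [mul_assoc, Units.mul_inv, mul_one]
      _ = (↑v⁻¹ : 𝔑) * 𝕥 := by rw [hv, mul_comm]
  set α : 𝔑ˣ := u⁻¹ with hα
  set β : 𝔑ˣ := v⁻¹ with hβ
  have hαβ : (α : 𝔑) * β = 1 := by
    have h1 : σ (𝕥 * 𝕖) = 𝕥 * 𝕖 := by rw [t_mul_e, σ.commutes]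
    rw [map_mul, hst, hse] at h1
    have h2 : algebraMap B 𝔑 π * ((α : 𝔑) * β - 1) = 0 := by
      rw [← t_mul_e]; linear_combination h1
    exact sub_eq_zero.mp (eq_zero_of_a_mul hπ.ne_zero _ h2)
  set h : 𝔑 := (α : 𝔑) * 𝕖 - 𝕥 with hh
  have hth : ¬ 𝕥 ∣ h := by
    intro h1
    have h2 : 𝕥 ∣ (α : 𝔑) * 𝕖 := by
      have : (α : 𝔑) * 𝕖 = h + 𝕥 := by rw [hh]; ring
      rw [this]
      exact dvd_add h1 dvd_rfl
    rcases (t_prime hπ).dvd_or_dvd h2 with h3 | h3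
    · exact not_t_dvd_unit hπ α h3
    · exact not_t_dvd_e hπ h3
  have heh : ¬ 𝕖 ∣ h := by
    intro h1
    have h2 : 𝕖 ∣ 𝕥 := by
      have : 𝕥 = (α : 𝔑) * 𝕖 - h := by rw [hh]; ring
      rw [this]
      exact dvd_sub (Dvd.intro_left _ rfl) h1
    exact not_e_dvd_t hπ h2
  refine ⟨h, ?_, ?_, ?_⟩
  · apply le_antisymm
    · apply fixIdeal_le (pi_mem hπ) ((σ : 𝔑 ≃+* 𝔑) : 𝔑 →+* 𝔑)
      · intro b
        show σ (algebraMap B 𝔑 b) - algebraMap B 𝔑 b ∈ _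
        rw [σ.commutes, sub_self]
        exact zero_mem _
      · show σ 𝕥 - 𝕥 ∈ _
        rw [hst]
        exact Ideal.mem_span_singleton_self _
      · show σ 𝕖 - 𝕖 ∈ _
        rw [hse]
        have : (β : 𝔑) * 𝕥 - 𝕖 = -(β : 𝔑) * h := by rw [hh]; linear_combination 𝕖 * hαβ
        rw [this]
        exact Ideal.mul_mem_left _ _ (Ideal.mem_span_singleton_self _)
    · rw [Ideal.span_singleton_le_iff_mem]
      have : h = σ 𝕥 - 𝕥 := by rw [hst]
      rw [this]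
      exact Ideal.subset_span ⟨𝕥, rfl⟩
  · intro hm
    have hsq : (Ideal.span ({𝕥, 𝕖} : Set 𝔑)) ^ 2 ≤
        (Ideal.span {𝕥 * 𝕥} ⊔ Ideal.span {𝕖} : Ideal 𝔑) := by
      have e2 : (Ideal.span ({𝕥, 𝕖} : Set 𝔑)) ^ 2 =
          Ideal.span ({𝕥, 𝕖} : Set 𝔑) * Ideal.span ({𝕥, 𝕖} : Set 𝔑) := by
        rw [Submodule.pow_succ, Submodule.pow_one]
      rw [e2, Ideal.mul_le]
      intro r hr s hs
      obtain ⟨r1, r2, rfl⟩ := Ideal.mem_span_pair.mp hr
      obtain ⟨s1, s2, rfl⟩ := Ideal.mem_span_pair.mp hs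
      have : (r1 * 𝕥 + r2 * 𝕖) * (s1 * 𝕥 + s2 * 𝕖) =
          r1 * s1 * (𝕥 * 𝕥) + (r1 * 𝕥 * s2 + r2 * s1 * 𝕥 + r2 * s2 * 𝕖) * 𝕖 := by ring
      rw [this]
      exact Ideal.add_mem _
        (Ideal.mem_sup_left (Ideal.mul_mem_left _ _ (Ideal.mem_span_singleton_self _)))
        (Ideal.mem_sup_right (Ideal.mul_mem_left _ _ (Ideal.mem_span_singleton_self _)))
    have h1 := hsq hm
    obtain ⟨y1, hy1, y2, hy2, hy⟩ := Submodule.mem_sup.mp h1
    obtain ⟨y, rfl⟩ := Ideal.mem_span_singleton'.mp hy1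
    obtain ⟨z, rfl⟩ := Ideal.mem_span_singleton'.mp hy2
    have hdv : 𝕖 ∣ 𝕥 * (1 + y * 𝕥) := ⟨(α : 𝔑) - z, by rw [hh] at hy; linear_combination hy⟩
    rcases (e_prime hπ).dvd_or_dvd hdv with h2 | h2
    · exact not_e_dvd_t hπ h2
    · have hnu : -(y * 𝕥) ∈ nonunits 𝔑 := by
        have : -(y * 𝕥) ∈ IsLocalRing.maximalIdeal 𝔑 :=
          neg_mem (Ideal.mul_mem_left _ _ ((IsLocalRing.mem_maximalIdeal _).mpr
            (t_not_isUnit (pi_mem hπ))))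
        exact (IsLocalRing.mem_maximalIdeal _).mp this
      have hun : IsUnit (1 + y * 𝕥) := by
        have := IsLocalRing.isUnit_one_sub_self_of_mem_nonunits _ hnu
        rwa [sub_neg_eq_add] at this
      exact (e_prime hπ).not_unit (isUnit_of_dvd_unit h2 hun)
  · have hreg : IsSMulRegular (𝔑 ⧸ Ideal.span ({h} : Set 𝔑)) (𝕥 * 𝕖) :=
      (t_regular hπ hth).mul (e_regular hπ heh)
    intro y₁ y₂ hy
    apply hreg
    show (𝕥 * 𝕖) • y₁ = (𝕥 * 𝕖) • y₂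
    rw [t_mul_e, algebraMap_smul, algebraMap_smul]
    exact hy

end SwitchAlg

end Groth.Agent.NodeColon
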