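import Mathlib

set_option autoImplicit false
set_option linter.unusedVariables false
set_option linter.unusedTactic false
set_option linter.unreachableTactic false
set_option linter.unusedSectionVars false
set_option linter.style.haveILetI false
set_option maxHeartbeats 800000

universe u

namespace Groth.Agent.Lib.NodeConormalH4

open TensorProduct

section base

variable (A : Type u) [CommRing A] (J : Type u) [AddCommGroup J] [Module A J] [Module Aᵐᵒᵖ J]
  [IsCentralScalar A J]

/-- Laurent polynomials over the trivial square-zero extension. -/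
abbrev Lr := AddMonoidAlgebra (TrivSqZeroExt A J) ℤ

/-- The ring endomorphism `a + εj ↦ a`. -/
noncomputable def s0 : TrivSqZeroExt A J →+* TrivSqZeroExt A J :=
  (TrivSqZeroExt.inlHom A J).comp (TrivSqZeroExt.fstHom A A J).toRingHom

lemma s0_apply (c : TrivSqZeroExt A J) : s0 A J c = TrivSqZeroExt.inl c.fst := rfl

lemma K_mul {c c' : TrivSqZeroExt A J} (h : c.fst = 0) (h' : c'.fst = 0) : c * c' = 0 := by
  apply TrivSqZeroExt.ext
  · simp [h, h']
  · simp [h, h']

/-- Coefficientwise `s0`. -/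
noncomputable def sig : Lr A J →+* Lr A J :=
  AddMonoidAlgebra.mapRingHom ℤ (s0 A J)

lemma sig_coeff (l : Lr A J) (n : ℤ) :
    (sig A J l).coeff n = TrivSqZeroExt.inl (l.coeff n).fst :=
  AddMonoidAlgebra.coeff_mapRingHom _ _ _

lemma sig_single (n : ℤ) (c : TrivSqZeroExt A J) :
    sig A J (AddMonoidAlgebra.single n c) = AddMonoidAlgebra.single n (TrivSqZeroExt.inl c.fst) :=
  AddMonoidAlgebra.mapRingHom_single _ _ _

lemma sig_sig (l : Lr A J) : sig A J (sig A J l) = sig A J l := by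
  apply AddMonoidAlgebra.ext
  refine Finsupp.ext fun n => ?_
  rw [sig_coeff, sig_coeff, TrivSqZeroExt.fst_inl]

lemma fst_coeff_of_sig {l : Lr A J} (h : sig A J l = 0) (n : ℤ) : (l.coeff n).fst = 0 := by
  have h1 := sig_coeff A J l n
  rw [h, AddMonoidAlgebra.coeff_zero, Finsupp.zero_apply] at h1
  have h2 := congrArg TrivSqZeroExt.fst h1
  rw [TrivSqZeroExt.fst_zero, TrivSqZeroExt.fst_inl] at h2
  exact h2.symm

lemma mul_eq_zero_of_fst {l l' : Lr A J}
    (h : ∀ n, (l.coeff n).fst = 0) (h' : ∀ n, (l'.coeff n).fst = 0) : l * l' = 0 := by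
  have e1 := (AddMonoidAlgebra.sum_coeff_single l).symm
  have e2 := (AddMonoidAlgebra.sum_coeff_single l').symm
  rw [e1, e2, Finsupp.sum, Finsupp.sum, Finset.sum_mul]
  refine Finset.sum_eq_zero fun a _ => ?_
  rw [Finset.mul_sum]
  refine Finset.sum_eq_zero fun b _ => ?_
  rw [AddMonoidAlgebra.single_mul_single, K_mul A J (h a) (h' b), AddMonoidAlgebra.single_zero]

lemma NN {l l' : Lr A J} (h : sig A J l = 0) (h' : sig A J l' = 0) : l * l' = 0 :=
  mul_eq_zero_of_fst A J (fst_coeff_of_sig A J h) (fst_coeff_of_sig A J h')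

lemma halg (c : TrivSqZeroExt A J) :
    algebraMap (TrivSqZeroExt A J) (Lr A J) c = AddMonoidAlgebra.single 0 c := rfl

lemma sig_smul (a : A) (l : Lr A J) : sig A J (a • l) = a • sig A J l := by
  apply AddMonoidAlgebra.ext
  refine Finsupp.ext fun n => ?_
  rw [sig_coeff, AddMonoidAlgebra.coeff_smul, Finsupp.smul_apply, AddMonoidAlgebra.coeff_smul,
    Finsupp.smul_apply, sig_coeff, TrivSqZeroExt.fst_smul, TrivSqZeroExt.inl_smul]

end base

section charts

variable {A : Type u} [CommRing A] {J : Type u} [AddCommGroup J] [Module A J] [Module Aᵐᵒᵖ J]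
  [IsCentralScalar A J] (τ : TrivSqZeroExt A J)

/-- `T`. -/
noncomputable def ux : Lr A J := AddMonoidAlgebra.single 1 1

/-- `τ T⁻¹`. -/
noncomputable def vx : Lr A J := AddMonoidAlgebra.single (-1) τ

lemma ux_mul_vx : (ux : Lr A J) * vx τ = algebraMap (TrivSqZeroExt A J) (Lr A J) τ := by
  rw [halg, ux, vx, AddMonoidAlgebra.single_mul_single]
  simp

lemma vx_mul_ux : vx τ * (ux : Lr A J) = algebraMap (TrivSqZeroExt A J) (Lr A J) τ := by
  rw [mul_comm]; exact ux_mul_vx τ

lemma aeval_mono {C : Type u} [CommRing C] [Algebra (TrivSqZeroExt A J) C] (f0 f1 : C)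
    (m : Fin 2 →₀ ℕ) (a : TrivSqZeroExt A J) :
    MvPolynomial.aeval ![f0, f1] (MvPolynomial.monomial m a) =
      algebraMap (TrivSqZeroExt A J) C a * (f0 ^ m 0 * f1 ^ m 1) := by
  rw [MvPolynomial.aeval_monomial, Finsupp.prod_fintype _ _ (fun i => pow_zero _),
    Fin.prod_univ_two]
  rfl

lemma chartx_mono (m : Fin 2 →₀ ℕ) (a : TrivSqZeroExt A J) :
    MvPolynomial.aeval ![(ux : Lr A J), vx τ] (MvPolynomial.monomial m a) =
      AddMonoidAlgebra.single ((m 0 : ℤ) - (m 1 : ℤ)) (a * τ ^ (m 1)) := by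
  rw [aeval_mono, halg, ux, vx, AddMonoidAlgebra.single_pow, AddMonoidAlgebra.single_pow,
    AddMonoidAlgebra.single_mul_single, AddMonoidAlgebra.single_mul_single]
  congr 1
  · rw [zero_add, nsmul_eq_mul, nsmul_eq_mul, mul_one, mul_neg, mul_one, sub_eq_add_neg]
  · rw [one_pow, one_mul]

lemma charty_mono (m : Fin 2 →₀ ℕ) (a : TrivSqZeroExt A J) :
    MvPolynomial.aeval ![vx τ, (ux : Lr A J)] (MvPolynomial.monomial m a) =
      AddMonoidAlgebra.single ((m 1 : ℤ) - (m 0 : ℤ)) (a * τ ^ (m 0)) := by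
  rw [aeval_mono, halg, ux, vx, AddMonoidAlgebra.single_pow, AddMonoidAlgebra.single_pow,
    AddMonoidAlgebra.single_mul_single, AddMonoidAlgebra.single_mul_single]
  congr 1
  · rw [zero_add, nsmul_eq_mul, nsmul_eq_mul, mul_one, mul_neg, mul_one, neg_add_eq_sub]
  · rw [one_pow, mul_one]

variable {B' : Type u} [CommRing B'] [Algebra (TrivSqZeroExt A J) B']

/-- Read off the part of a Laurent polynomial in degrees `≥ k` as a polynomial in `z`. -/
noncomputable def theta (z : B') (k : ℤ) (l : Lr A J) : B' :=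
  l.coeff.sum fun n c => if k ≤ n then c • z ^ n.toNat else 0

lemma theta_zero (z : B') (k : ℤ) : theta z k (0 : Lr A J) = 0 := by
  simp [theta]

lemma theta_add (z : B') (k : ℤ) (l l' : Lr A J) :
    theta z k (l + l') = theta z k l + theta z k l' := by
  unfold theta
  rw [AddMonoidAlgebra.coeff_add]
  refine Finsupp.sum_add_index' (fun n => ?_) (fun n c c' => ?_)
  · split_ifs <;> simp
  · split_ifs
    · rw [add_smul]
    · rw [add_zero]

lemma theta_single (z : B') (k n : ℤ) (c : TrivSqZeroExt A J) :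
    theta z k (AddMonoidAlgebra.single n c : Lr A J) = if k ≤ n then c • z ^ n.toNat else 0 := by
  unfold theta
  rw [AddMonoidAlgebra.coeff_single, Finsupp.sum_single_index]
  split_ifs <;> simp

lemma mono_case (x y : B') (hxy : x * y = algebraMap (TrivSqZeroExt A J) B' τ)
    (a : TrivSqZeroExt A J) (i j : ℕ) :
    (if (0 : ℤ) ≤ (i : ℤ) - (j : ℤ) then (a * τ ^ j) • x ^ ((i : ℤ) - (j : ℤ)).toNat else 0) +
      (if (1 : ℤ) ≤ (j : ℤ) - (i : ℤ) then (a * τ ^ i) • y ^ ((j : ℤ) - (i : ℤ)).toNat else 0) =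
      algebraMap (TrivSqZeroExt A J) B' a * (x ^ i * y ^ j) := by
  rcases le_or_gt j i with h | h
  · obtain ⟨k, rfl⟩ := Nat.exists_eq_add_of_le h
    have e1 : ((j + k : ℕ) : ℤ) - (j : ℤ) = (k : ℤ) := by push_cast; ring
    have e2 : ¬ ((1 : ℤ) ≤ (j : ℤ) - ((j + k : ℕ) : ℤ)) := by push_cast; omega
    rw [e1, if_pos (Int.natCast_nonneg k), Int.toNat_natCast, if_neg e2, add_zero,
      Algebra.smul_def, map_mul, map_pow, ← hxy]
    ring
  · obtain ⟨k, rfl⟩ := Nat.exists_eq_add_of_lt h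
    have e1 : ¬ ((0 : ℤ) ≤ (i : ℤ) - ((i + k + 1 : ℕ) : ℤ)) := by push_cast; omega
    have e2 : ((i + k + 1 : ℕ) : ℤ) - (i : ℤ) = ((k + 1 : ℕ) : ℤ) := by push_cast; ring
    have e3 : (1 : ℤ) ≤ ((k + 1 : ℕ) : ℤ) := by push_cast; omega
    rw [if_neg e1, zero_add, e2, if_pos e3, Int.toNat_natCast, Algebra.smul_def, map_mul,
      map_pow, ← hxy]
    ring

theorem recon (x y : B') (hxy : x * y = algebraMap (TrivSqZeroExt A J) B' τ)
    (p : MvPolynomial (Fin 2) (TrivSqZeroExt A J)) :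
    theta x 0 (MvPolynomial.aeval ![(ux : Lr A J), vx τ] p) +
      theta y 1 (MvPolynomial.aeval ![vx τ, (ux : Lr A J)] p) =
      MvPolynomial.aeval ![x, y] p := by
  induction p using MvPolynomial.induction_on' with
  | monomial m a =>
    rw [chartx_mono, charty_mono, theta_single, theta_single, aeval_mono]
    exact mono_case τ x y hxy a (m 0) (m 1)
  | add p q hp hq =>
    rw [map_add, map_add, map_add, theta_add, theta_add]
    linear_combination hp + hq

theorem exists_lift (x y : B')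
    (hsurj : Function.Surjective
      (MvPolynomial.aeval ![x, y] : MvPolynomial (Fin 2) (TrivSqZeroExt A J) →ₐ[TrivSqZeroExt A J] B'))
    (hker : RingHom.ker
      (MvPolynomial.aeval ![x, y] : MvPolynomial (Fin 2) (TrivSqZeroExt A J) →ₐ[TrivSqZeroExt A J] B') =
      Ideal.span {MvPolynomial.X 0 * MvPolynomial.X 1 - MvPolynomial.C τ})
    (C : Type u) [CommRing C] [Algebra (TrivSqZeroExt A J) C] (u v : C)
    (huv : u * v = algebraMap (TrivSqZeroExt A J) C τ) :
    ∃ ψ : B' →ₐ[TrivSqZeroExt A J] C, ∀ p : MvPolynomial (Fin 2) (TrivSqZeroExt A J),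
      ψ (MvPolynomial.aeval ![x, y] p) = MvPolynomial.aeval ![u, v] p := by
  have H : RingHom.ker (MvPolynomial.aeval ![x, y] :
      MvPolynomial (Fin 2) (TrivSqZeroExt A J) →ₐ[TrivSqZeroExt A J] B').toRingHom ≤
      RingHom.ker (MvPolynomial.aeval ![u, v] :
        MvPolynomial (Fin 2) (TrivSqZeroExt A J) →ₐ[TrivSqZeroExt A J] C).toRingHom := by
    intro p hp
    have hp' : p ∈ RingHom.ker (MvPolynomial.aeval ![x, y] :
        MvPolynomial (Fin 2) (TrivSqZeroExt A J) →ₐ[TrivSqZeroExt A J] B') :=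
      RingHom.mem_ker.2 (RingHom.mem_ker.1 hp)
    rw [hker] at hp'
    obtain ⟨q, rfl⟩ := Ideal.mem_span_singleton'.1 hp'
    rw [RingHom.mem_ker]
    show (MvPolynomial.aeval ![u, v]) (q * (MvPolynomial.X 0 * MvPolynomial.X 1 -
      MvPolynomial.C τ)) = 0
    rw [map_mul, map_sub, map_mul, MvPolynomial.aeval_X, MvPolynomial.aeval_X,
      MvPolynomial.aeval_C]
    simp [huv]
  exact ⟨AlgHom.liftOfSurjective _ hsurj (MvPolynomial.aeval ![u, v]) H,
    fun p => AlgHom.liftOfSurjective_apply _ hsurj _ H p⟩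

lemma xy_eq (x y : B')
    (hker : RingHom.ker
      (MvPolynomial.aeval ![x, y] : MvPolynomial (Fin 2) (TrivSqZeroExt A J) →ₐ[TrivSqZeroExt A J] B') =
      Ideal.span {MvPolynomial.X 0 * MvPolynomial.X 1 - MvPolynomial.C τ}) :
    x * y = algebraMap (TrivSqZeroExt A J) B' τ := by
  have h1 : (MvPolynomial.X 0 * MvPolynomial.X 1 - MvPolynomial.C τ :
      MvPolynomial (Fin 2) (TrivSqZeroExt A J)) ∈ RingHom.ker
      (MvPolynomial.aeval ![x, y] :
        MvPolynomial (Fin 2) (TrivSqZeroExt A J) →ₐ[TrivSqZeroExt A J] B') := by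
    rw [hker]; exact Ideal.mem_span_singleton_self _
  rw [RingHom.mem_ker, map_sub, map_mul, MvPolynomial.aeval_X, MvPolynomial.aeval_X,
    MvPolynomial.aeval_C] at h1
  simpa [sub_eq_zero] using h1

end charts

section deriv

variable (A : Type u) [CommRing A] (J : Type u) [AddCommGroup J] [Module A J] [Module Aᵐᵒᵖ J]
  [IsCentralScalar A J]

theorem psi_eq_zero (B' : Type u) [CommRing B'] [Algebra (TrivSqZeroExt A J) B'] [Algebra A B']
    [IsScalarTower A (TrivSqZeroExt A J) B']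
    (ψ : B' →ₐ[TrivSqZeroExt A J] Lr A J) (i : B')
    (hi : i ∈ Ideal.map (algebraMap (TrivSqZeroExt A J) B') (TrivSqZeroExt.kerIdeal A J))
    (hD : KaehlerDifferential.D A B' i ∈
      (Ideal.map (algebraMap (TrivSqZeroExt A J) B') (TrivSqZeroExt.kerIdeal A J)) •
        (⊤ : Submodule B' (Ω[B'⁄A]))) :
    ψ i = 0 := by
  have ha : ∀ r ∈ Ideal.map (algebraMap (TrivSqZeroExt A J) B') (TrivSqZeroExt.kerIdeal A J),
      sig A J (ψ r) = 0 := by
    have hle : Ideal.map (algebraMap (TrivSqZeroExt A J) B') (TrivSqZeroExt.kerIdeal A J) ≤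
        RingHom.ker ((sig A J).comp ψ.toRingHom) := by
      rw [Ideal.map_le_iff_le_comap]
      intro e he
      rw [Ideal.mem_comap, RingHom.mem_ker]
      show sig A J (ψ (algebraMap _ B' e)) = 0
      have h0 : e.fst = 0 := by
        simpa [TrivSqZeroExt.kerIdeal, RingHom.mem_ker] using he
      rw [AlgHom.commutes, halg, sig_single, h0, TrivSqZeroExt.inl_zero,
        AddMonoidAlgebra.single_zero]
    intro r hr
    exact RingHom.mem_ker.1 (hle hr)
  letI : Module B' (Lr A J) := Module.compHom (Lr A J) ψ.toRingHom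
  have hsm : ∀ (b : B') (l : Lr A J), b • l = ψ b * l := fun _ _ => rfl
  have hψA : ∀ (a : A) (b : B'), ψ (a • b) = a • ψ b := by
    intro a b
    rw [algebra_compatible_smul (TrivSqZeroExt A J) a b, map_smul,
      ← algebra_compatible_smul (TrivSqZeroExt A J) a (ψ b)]
  haveI : IsScalarTower A B' (Lr A J) := ⟨fun a b l => by
    rw [hsm, hsm, hψA, smul_mul_assoc]⟩
  have hdd : ∀ b b' : B', (ψ b - sig A J (ψ b)) * (ψ b' - sig A J (ψ b')) = 0 := by
    intro b b'
    apply NN A J
    · rw [map_sub, sig_sig, sub_self]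
    · rw [map_sub, sig_sig, sub_self]
  obtain ⟨dl, hdl⟩ : ∃ dl : B' →ₗ[A] Lr A J, ∀ b, dl b = ψ b - sig A J (ψ b) :=
    ⟨{ toFun := fun b => ψ b - sig A J (ψ b)
       map_add' := fun b b' => by simp only [map_add]; abel
       map_smul' := fun a b => by
         simp only [RingHom.id_apply]
         rw [hψA, sig_smul, smul_sub] }, fun _ => rfl⟩
  obtain ⟨dD, hdD⟩ : ∃ dD : Derivation A B' (Lr A J), ∀ b, dD b = ψ b - sig A J (ψ b) :=
    ⟨Derivation.mk' dl (fun b b' => by
      rw [hdl, hdl, hdl, hsm, hsm, map_mul, map_mul]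
      linear_combination (-1 : Lr A J) * hdd b b'), fun b => hdl b⟩
  have hc : ∀ ω : Ω[B'⁄A], sig A J (dD.liftKaehlerDifferential ω) = 0 := by
    intro ω
    have hω : ω ∈ Submodule.span B' (Set.range (KaehlerDifferential.D A B')) := by
      rw [KaehlerDifferential.span_range_derivation]; exact Submodule.mem_top
    induction hω using Submodule.span_induction with
    | mem z hz =>
      obtain ⟨b, rfl⟩ := hz
      rw [Derivation.liftKaehlerDifferential_comp_D, hdD, map_sub, sig_sig, sub_self]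
    | zero => rw [map_zero, map_zero]
    | add z z' _ _ hz hz' => rw [map_add, map_add, hz, hz', add_zero]
    | smul b z _ hz => rw [map_smul, hsm, map_mul, hz, mul_zero]
  have hd : ∀ ω ∈ (Ideal.map (algebraMap (TrivSqZeroExt A J) B') (TrivSqZeroExt.kerIdeal A J)) •
      (⊤ : Submodule B' (Ω[B'⁄A])), dD.liftKaehlerDifferential ω = 0 := by
    intro ω hω
    refine Submodule.smul_induction_on hω (fun r hr n _ => ?_) (fun z z' hz hz' => ?_)
    · rw [map_smul, hsm]
      exact NN A J (ha r hr) (hc n)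
    · rw [map_add, hz, hz', add_zero]
  have h1 := hd _ hD
  rw [Derivation.liftKaehlerDifferential_comp_D, hdD, ha i hi, sub_zero] at h1
  exact h1

theorem main (τ : TrivSqZeroExt A J)
    (B' : Type u) [CommRing B'] [Algebra (TrivSqZeroExt A J) B'] [Algebra A B']
    [IsScalarTower A (TrivSqZeroExt A J) B'] (x y : B')
    (hsurj : Function.Surjective
      (MvPolynomial.aeval ![x, y] : MvPolynomial (Fin 2) (TrivSqZeroExt A J) →ₐ[TrivSqZeroExt A J] B'))
    (hker : RingHom.ker
      (MvPolynomial.aeval ![x, y] : MvPolynomial (Fin 2) (TrivSqZeroExt A J) →ₐ[TrivSqZeroExt A J] B') =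
      Ideal.span {MvPolynomial.X 0 * MvPolynomial.X 1 - MvPolynomial.C τ}) :
    Function.Injective (KaehlerDifferential.kerToTensor A B'
      (B' ⧸ Ideal.map (algebraMap (TrivSqZeroExt A J) B') (TrivSqZeroExt.kerIdeal A J))) := by
  rw [injective_iff_map_eq_zero]
  rintro ⟨i, hi⟩ h
  have hiI : i ∈ Ideal.map (algebraMap (TrivSqZeroExt A J) B') (TrivSqZeroExt.kerIdeal A J) := by
    rw [RingHom.mem_ker, Ideal.Quotient.algebraMap_eq, Ideal.Quotient.eq_zero_iff_mem] at hi
    exact hi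
  have h2 : (1 : B' ⧸ Ideal.map (algebraMap (TrivSqZeroExt A J) B')
      (TrivSqZeroExt.kerIdeal A J)) ⊗ₜ[B'] KaehlerDifferential.D A B' i = 0 := h
  have hD : KaehlerDifferential.D A B' i ∈
      (Ideal.map (algebraMap (TrivSqZeroExt A J) B') (TrivSqZeroExt.kerIdeal A J)) •
        (⊤ : Submodule B' (Ω[B'⁄A])) := by
    have h3 := TensorProduct.quotTensorEquivQuotSMul_mk_tmul (M := Ω[B'⁄A])
      (Ideal.map (algebraMap (TrivSqZeroExt A J) B') (TrivSqZeroExt.kerIdeal A J)) 1
      (KaehlerDifferential.D A B' i)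
    rw [map_one, h2, map_zero, one_smul] at h3
    exact (Submodule.Quotient.mk_eq_zero _).mp h3.symm
  have hxy := xy_eq τ x y hker
  obtain ⟨ψx, hψx⟩ := exists_lift τ x y hsurj hker (Lr A J) ux (vx τ) (ux_mul_vx τ)
  obtain ⟨ψy, hψy⟩ := exists_lift τ x y hsurj hker (Lr A J) (vx τ) ux (vx_mul_ux τ)
  have e1 := psi_eq_zero A J B' ψx i hiI hD
  have e2 := psi_eq_zero A J B' ψy i hiI hD
  obtain ⟨p, rfl⟩ := hsurj i
  have h4 := recon τ x y hxy p
  rw [← hψx p, ← hψy p, e1, e2, theta_zero, theta_zero, add_zero] at h4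
  exact Subtype.ext h4.symm

end deriv

end Groth.Agent.Lib.NodeConormalH4
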