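import Mathlib
import Groth.Agent.Lib.EtaFin_helper3

/-!
# The standard semistable node `V[x, y]/(xy - ϖ)` over a discrete valuation ring (helper3)
-/

set_option autoImplicit false
universe u
open MvPolynomial

namespace Groth.Agent.Lib.NodeH3

section General

/-- A derivation of `S` extends to a localization `T` of `S`. -/
theorem exists_derivation_of_isLocalization (R S T : Type u) [CommRing R] [CommRing S]
    [CommRing T] [Algebra R S] [Algebra R T] [Algebra S T] [IsScalarTower R S T]
    (M : Submonoid S) [IsLocalization M T] (d : Derivation R S S) :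
    ∃ d' : Derivation R T T, ∀ s, d' (algebraMap S T s) = algebraMap S T (d s) := by
  let g : Ω[S⁄R] →ₗ[S] T := (Algebra.linearMap S T).comp d.liftKaehlerDifferential
  have hunit : ∀ x : M, IsUnit (algebraMap S (Module.End S T) x) := fun x =>
    IsLocalizedModule.map_units (Algebra.linearMap S T) x
  let l₀ : Ω[T⁄R] →ₗ[S] T := IsLocalizedModule.lift M (KaehlerDifferential.map R R S T) g hunit
  let l : Ω[T⁄R] →ₗ[T] T := LinearMap.extendScalarsOfIsLocalization M T l₀
  refine ⟨l.compDer (KaehlerDifferential.D R T), fun s => ?_⟩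
  show l₀ (KaehlerDifferential.D R T (algebraMap S T s)) = _
  rw [← KaehlerDifferential.map_D R R S T, IsLocalizedModule.lift_apply]
  show algebraMap S T (d.liftKaehlerDifferential (KaehlerDifferential.D R S s)) = _
  rw [Derivation.liftKaehlerDifferential_comp_D]

/-- Cancelling powers of a regular prime element. -/
theorem pow_dvd_of_mul_eq {B : Type u} [CommRing B] (p : B)
    (hreg : ∀ b : B, p * b = 0 → b = 0) (hp : (Ideal.span {p}).IsPrime) (g : B)
    (hg : g ∉ Ideal.span {p}) (N : ℕ) :
    ∀ (c r : B), g * c = p ^ N * r → ∃ c' : B, c = p ^ N * c' ∧ g * c' = r := by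
  induction N with
  | zero =>
    intro c r h
    exact ⟨c, by simp, by simpa using h⟩
  | succ N ih =>
    intro c r h
    obtain ⟨c₁, hc₁, h1⟩ := ih c (p * r) (by rw [h]; ring)
    have h2 : g * c₁ ∈ Ideal.span {p} := by
      rw [h1]
      exact Ideal.mul_mem_right _ _ (Ideal.mem_span_singleton_self p)
    have h3 : c₁ ∈ Ideal.span {p} := (hp.mem_or_mem h2).resolve_left hg
    obtain ⟨c₂, hc₂⟩ := Ideal.mem_span_singleton'.mp h3
    refine ⟨c₂, ?_, ?_⟩
    · rw [hc₁, ← hc₂]; ring
    · have h4 : p * (g * c₂ - r) = 0 := by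
        have : p * (g * c₂) = p * r := by
          rw [← h1, ← hc₂]; ring
        rw [mul_sub, this, sub_self]
      exact sub_eq_zero.mp (hreg _ h4)

end General

section Qlevel

variable (V : Type u) [CommRing V] [IsDomain V] [IsDiscreteValuationRing V] (ϖ : V)

local notation "𝕜" => IsLocalRing.ResidueField V

/-- The relation `xy - ϖ`. -/
noncomputable abbrev rel : MvPolynomial (Fin 2) V := X 0 * X 1 - C ϖ

/-- The coordinate ring of the node. -/
abbrev Q := MvPolynomial (Fin 2) V ⧸ Ideal.span {rel V ϖ}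

/-- The coordinates in `Q`. -/
noncomputable abbrev xq (l : Fin 2) : Q V ϖ := Ideal.Quotient.mk _ (X l)

theorem fin2_cases {i j : Fin 2} (hij : i ≠ j) (l : Fin 2) : l = i ∨ l = j := by
  omega

theorem xq_mul : xq V ϖ 0 * xq V ϖ 1 = algebraMap V (Q V ϖ) ϖ := by
  show Ideal.Quotient.mk _ (X 0) * Ideal.Quotient.mk _ (X 1) = Ideal.Quotient.mk _ (C ϖ)
  rw [← map_mul, Ideal.Quotient.eq]
  exact Ideal.subset_span rfl

theorem xq_mul' {i j : Fin 2} (hij : i ≠ j) :
    xq V ϖ i * xq V ϖ j = algebraMap V (Q V ϖ) ϖ := by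
  have h0 := xq_mul V ϖ
  rcases fin2_cases hij 0 with h | h
  · have hj : j = 1 := by omega
    rw [← h, hj]; exact h0
  · have hi : i = 1 := by omega
    rw [← h, hi, mul_comm]; exact h0

/-- Reduction to one variable: `x_i ↦ 0`, the other variable `↦ X`. -/
noncomputable def uni (i : Fin 2) : MvPolynomial (Fin 2) V →ₐ[V] Polynomial V :=
  aeval (fun l => if l = i then 0 else Polynomial.X)

/-- Back to two variables. -/
noncomputable def back (j : Fin 2) : Polynomial V →ₐ[V] MvPolynomial (Fin 2) V :=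
  Polynomial.aeval (X j)

theorem sub_back_uni_mem {i j : Fin 2} (hij : i ≠ j) (F : MvPolynomial (Fin 2) V) :
    F - back V j (uni V i F) ∈ Ideal.span {(X i : MvPolynomial (Fin 2) V)} := by
  rw [← Ideal.Quotient.eq]
  have : (Ideal.Quotient.mkₐ V (Ideal.span {(X i : MvPolynomial (Fin 2) V)})) =
      ((Ideal.Quotient.mkₐ V _).comp ((back V j).comp (uni V i))) := by
    refine MvPolynomial.algHom_ext fun l => ?_
    rcases fin2_cases hij l with rfl | rfl
    · simp only [AlgHom.comp_apply, uni, back, aeval_X, if_true, map_zero]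
      exact Ideal.Quotient.eq_zero_iff_mem.mpr (Ideal.subset_span rfl)
    · simp only [AlgHom.comp_apply, uni, back, aeval_X, if_neg hij.symm, Polynomial.aeval_X]
  exact DFunLike.congr_fun this F

/-- The images of the coordinates in `𝕜⟦X⟧`. -/
noncomputable def tgt (i : Fin 2) : Fin 2 → PowerSeries 𝕜 :=
  fun l => if l = i then 0 else PowerSeries.X

/-- The branch map at the level of polynomials. -/
noncomputable def PhiP (i : Fin 2) : MvPolynomial (Fin 2) V →ₐ[V] PowerSeries 𝕜 :=
  aeval (tgt V i)

theorem PhiP_eq (i : Fin 2) :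
    PhiP V i = (Polynomial.coeToPowerSeries.algHom 𝕜).comp (uni V i) := by
  refine MvPolynomial.algHom_ext fun l => ?_
  simp only [PhiP, uni, tgt, aeval_X, AlgHom.comp_apply]
  split_ifs
  · simp
  · simp

variable {ϖ}

theorem residue_pi (hϖ : Irreducible ϖ) : algebraMap V 𝕜 ϖ = 0 := by
  have : ϖ ∈ IsLocalRing.maximalIdeal V := by
    rw [hϖ.maximalIdeal_eq]; exact Ideal.mem_span_singleton_self ϖ
  exact (IsLocalRing.residue_eq_zero_iff _).mpr this

theorem dvd_of_residue_eq_zero (hϖ : Irreducible ϖ) (a : V) (ha : algebraMap V 𝕜 a = 0) :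
    ϖ ∣ a := by
  have h2 : a ∈ IsLocalRing.maximalIdeal V := (IsLocalRing.residue_eq_zero_iff _).mp ha
  rw [hϖ.maximalIdeal_eq] at h2
  exact Ideal.mem_span_singleton.mp h2

theorem C_dvd_of_coe_eq_zero (hϖ : Irreducible ϖ) (G : Polynomial V)
    (h : Polynomial.coeToPowerSeries.algHom 𝕜 G = 0) : Polynomial.C ϖ ∣ G := by
  rw [Polynomial.C_dvd_iff_dvd_coeff]
  intro n
  have h1 : PowerSeries.coeff n (Polynomial.coeToPowerSeries.algHom 𝕜 G) = 0 := by
    rw [h]; simp
  rw [Polynomial.coeToPowerSeries.algHom_apply, PowerSeries.coeff_map, Polynomial.coeff_coe] at h1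
  exact dvd_of_residue_eq_zero V hϖ _ h1

theorem PhiP_rel (hϖ : Irreducible ϖ) (i : Fin 2) : PhiP V i (rel V ϖ) = 0 := by
  have h1 : tgt V i 0 * tgt V i 1 = 0 := by
    rcases fin2_cases (show (0 : Fin 2) ≠ 1 by decide) i with h | h
    · simp [tgt, h]
    · simp [tgt, h]
  simp only [PhiP, rel, map_sub, map_mul, aeval_X, aeval_C, h1, zero_sub, neg_eq_zero]
  rw [PowerSeries.algebraMap_apply, residue_pi V hϖ, map_zero]

/-- The branch map `Q → 𝕜⟦X⟧`. -/
noncomputable def Psi (hϖ : Irreducible ϖ) (i : Fin 2) : Q V ϖ →ₐ[V] PowerSeries 𝕜 :=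
  Ideal.Quotient.liftₐ (Ideal.span {rel V ϖ}) (PhiP V i) (by
    intro a ha
    obtain ⟨b, rfl⟩ := Ideal.mem_span_singleton'.mp ha
    rw [map_mul, PhiP_rel V hϖ, mul_zero])

theorem Psi_mk (hϖ : Irreducible ϖ) (i : Fin 2) (F : MvPolynomial (Fin 2) V) :
    Psi V hϖ i (Ideal.Quotient.mk _ F) = PhiP V i F := rfl

theorem Psi_xq_self (hϖ : Irreducible ϖ) (i : Fin 2) : Psi V hϖ i (xq V ϖ i) = 0 := by
  rw [Psi_mk]; simp [PhiP, tgt]

theorem Psi_xq_ne (hϖ : Irreducible ϖ) {i j : Fin 2} (hij : i ≠ j) :
    Psi V hϖ i (xq V ϖ j) = PowerSeries.X := by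
  rw [Psi_mk]; simp [PhiP, tgt, hij.symm]

theorem mem_span_xq_of_Psi_eq_zero (hϖ : Irreducible ϖ) {i j : Fin 2} (hij : i ≠ j)
    (q : Q V ϖ) (hq : Psi V hϖ i q = 0) : q ∈ Ideal.span {xq V ϖ i} := by
  obtain ⟨F, rfl⟩ := Ideal.Quotient.mk_surjective q
  rw [Psi_mk, PhiP_eq, AlgHom.comp_apply] at hq
  obtain ⟨G₂, hG₂⟩ := C_dvd_of_coe_eq_zero V hϖ _ hq
  obtain ⟨A, hA⟩ := Ideal.mem_span_singleton'.mp (sub_back_uni_mem V hij F)
  rw [Ideal.mem_span_singleton']
  refine ⟨Ideal.Quotient.mk _ A + xq V ϖ j * Ideal.Quotient.mk _ (back V j G₂), ?_⟩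
  have hF : F = A * X i + C ϖ * back V j G₂ := by
    rw [hA, hG₂, map_mul]
    have : back V j (Polynomial.C ϖ) = C ϖ := by
      simp [back, MvPolynomial.algebraMap_eq]
    rw [this]; ring
  have hC : (Ideal.Quotient.mk (Ideal.span {rel V ϖ}) (C ϖ)) = xq V ϖ i * xq V ϖ j :=
    (xq_mul' V ϖ hij).symm
  conv_rhs => rw [hF]
  rw [map_add, map_mul, map_mul, hC]
  ring

/-- The value at the node. -/
noncomputable def psiP : MvPolynomial (Fin 2) V →ₐ[V] 𝕜 := aeval (fun _ => 0)

theorem constantCoeff_PhiP (i : Fin 2) (F : MvPolynomial (Fin 2) V) :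
    PowerSeries.constantCoeff (PhiP V i F) = psiP V F := by
  have : (PowerSeries.constantCoeff (R := 𝕜)).comp (PhiP V i).toRingHom = (psiP V).toRingHom := by
    refine MvPolynomial.ringHom_ext (fun a => ?_) (fun l => ?_)
    · simp [PhiP, psiP, PowerSeries.algebraMap_apply]
    · simp only [RingHom.comp_apply, AlgHom.toRingHom_eq_coe, RingHom.coe_coe, PhiP, psiP,
        aeval_X, tgt]
      split_ifs <;> simp
  exact DFunLike.congr_fun this F

theorem mem_span_pair_of_psiP (hϖ : Irreducible ϖ) (F : MvPolynomial (Fin 2) V)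
    (h : psiP V F = 0) :
    (Ideal.Quotient.mk (Ideal.span {rel V ϖ}) F) ∈ Ideal.span {xq V ϖ 0, xq V ϖ 1} := by
  set a : V := aeval (fun _ => (0 : V)) F with ha
  have h1 : F - C a ∈ Ideal.span {(X 0 : MvPolynomial (Fin 2) V), X 1} := by
    rw [← Ideal.Quotient.eq]
    have : (Ideal.Quotient.mkₐ V (Ideal.span {(X 0 : MvPolynomial (Fin 2) V), X 1})) =
        ((Ideal.Quotient.mkₐ V _).comp ((Algebra.ofId V (MvPolynomial (Fin 2) V)).comp
          (aeval (fun _ => (0 : V))))) := by
      refine MvPolynomial.algHom_ext fun l => ?_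
      simp only [AlgHom.comp_apply, aeval_X, map_zero]
      refine Ideal.Quotient.eq_zero_iff_mem.mpr (Ideal.subset_span ?_)
      rcases fin2_cases (show (0 : Fin 2) ≠ 1 by decide) l with rfl | rfl <;> simp
    exact DFunLike.congr_fun this F
  have h2 : algebraMap V 𝕜 a = 0 := by
    have : (psiP V) = (Algebra.ofId V 𝕜).comp (aeval (fun _ => (0 : V))) := by
      refine MvPolynomial.algHom_ext fun l => ?_
      simp [psiP]
    rw [this] at h
    exact h
  obtain ⟨v, hv⟩ := dvd_of_residue_eq_zero V hϖ a h2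
  have h3 : Ideal.Quotient.mk (Ideal.span {rel V ϖ}) (F - C a) ∈
      Ideal.span {xq V ϖ 0, xq V ϖ 1} := by
    have := Ideal.mem_map_of_mem (Ideal.Quotient.mk (Ideal.span {rel V ϖ})) h1
    rwa [Ideal.map_span, Set.image_pair] at this
  have h4 : Ideal.Quotient.mk (Ideal.span {rel V ϖ}) (C a) ∈
      Ideal.span {xq V ϖ 0, xq V ϖ 1} := by
    rw [hv, C_mul, map_mul]
    have : (Ideal.Quotient.mk (Ideal.span {rel V ϖ}) (C ϖ)) = xq V ϖ 0 * xq V ϖ 1 :=
      (xq_mul V ϖ).symm
    rw [this]
    exact Ideal.mul_mem_right _ _ (Ideal.mul_mem_right _ _ (Ideal.subset_span (by simp)))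
  have : Ideal.Quotient.mk (Ideal.span {rel V ϖ}) F =
      Ideal.Quotient.mk (Ideal.span {rel V ϖ}) (F - C a) +
        Ideal.Quotient.mk (Ideal.span {rel V ϖ}) (C a) := by
    rw [← map_add]; congr 1; ring
  rw [this]
  exact Ideal.add_mem _ h3 h4

theorem pi_regular (hϖ : Irreducible ϖ) (q : Q V ϖ) (h : algebraMap V (Q V ϖ) ϖ * q = 0) :
    q = 0 := by
  obtain ⟨F, rfl⟩ := Ideal.Quotient.mk_surjective q
  have h1 : (Ideal.Quotient.mk (Ideal.span {rel V ϖ})) (C ϖ * F) = 0 := by
    rw [map_mul]; exact h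
  rw [Ideal.Quotient.eq_zero_iff_mem, Ideal.mem_span_singleton'] at h1
  obtain ⟨G, hG⟩ := h1
  have h2 : map (algebraMap V 𝕜) G = 0 := by
    have h3 := congrArg (map (algebraMap V 𝕜)) hG
    simp only [rel, map_mul, map_sub, map_X, map_C, residue_pi V hϖ, C_0, sub_zero,
      zero_mul] at h3
    rcases mul_eq_zero.mp h3 with h4 | h4
    · exact h4
    · exact absurd h4 (mul_ne_zero (X_ne_zero 0) (X_ne_zero 1))
  have h5 : C ϖ ∣ G := by
    rw [MvPolynomial.C_dvd_iff_dvd_coeff]
    intro m
    have h6 : coeff m (map (algebraMap V 𝕜) G) = 0 := by rw [h2]; simp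
    rw [coeff_map] at h6
    exact dvd_of_residue_eq_zero V hϖ _ h6
  obtain ⟨G', rfl⟩ := h5
  have h7 : F = G' * rel V ϖ := by
    have hne : (C ϖ : MvPolynomial (Fin 2) V) ≠ 0 := by
      rw [Ne, C_eq_zero]; exact hϖ.ne_zero
    apply mul_left_cancel₀ hne
    rw [← hG]; ring
  rw [Ideal.Quotient.eq_zero_iff_mem, h7]
  exact Ideal.mul_mem_left _ _ (Ideal.subset_span rfl)

end Qlevel

section Blevel

variable (V : Type u) [CommRing V] [IsDomain V] [IsDiscreteValuationRing V] {ϖ : V}
  (hϖ : Irreducible ϖ) (h : Q V ϖ)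

local notation "𝕜" => IsLocalRing.ResidueField V

/-- The coordinates in `B = Q[1/h]`. -/
noncomputable abbrev xb (l : Fin 2) : Localization.Away h :=
  algebraMap (Q V ϖ) (Localization.Away h) (xq V ϖ l)

theorem isUnit_Psi_h (hh : h ∉ Ideal.span {xq V ϖ 0, xq V ϖ 1}) (i : Fin 2) :
    IsUnit (Psi V hϖ i h) := by
  rw [PowerSeries.isUnit_iff_constantCoeff]
  obtain ⟨F, rfl⟩ := Ideal.Quotient.mk_surjective h
  rw [Psi_mk, constantCoeff_PhiP, isUnit_iff_ne_zero]
  intro h0
  exact hh (mem_span_pair_of_psiP V hϖ F h0)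

/-- The branch map `B → 𝕜⟦X⟧`. -/
noncomputable def rho (hh : h ∉ Ideal.span {xq V ϖ 0, xq V ϖ 1}) (i : Fin 2) :
    Localization.Away h →ₐ[V] PowerSeries 𝕜 :=
  IsLocalization.liftAlgHom (M := Submonoid.powers h) (f := Psi V hϖ i) (by
    rintro ⟨y, n, rfl⟩
    rw [map_pow]
    exact (isUnit_Psi_h V hϖ h hh i).pow n)

variable (hh : h ∉ Ideal.span {xq V ϖ 0, xq V ϖ 1})

theorem rho_algebraMap (i : Fin 2) (q : Q V ϖ) :
    rho V hϖ h hh i (algebraMap (Q V ϖ) (Localization.Away h) q) = Psi V hϖ i q := by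
  simp [rho]

theorem rho_xb_self (i : Fin 2) : rho V hϖ h hh i (xb V h i) = 0 := by
  rw [rho_algebraMap, Psi_xq_self]

theorem rho_xb_ne {i j : Fin 2} (hij : i ≠ j) : rho V hϖ h hh i (xb V h j) = PowerSeries.X := by
  rw [rho_algebraMap, Psi_xq_ne V hϖ hij]

theorem mem_span_xb_of_rho_eq_zero {i j : Fin 2} (hij : i ≠ j) (b : Localization.Away h)
    (hb : rho V hϖ h hh i b = 0) : b ∈ Ideal.span {xb V h i} := by
  obtain ⟨q, s, rfl⟩ := IsLocalization.exists_mk'_eq (Submonoid.powers h) b
  have h1 : Psi V hϖ i q = 0 := by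
    rw [← rho_algebraMap V hϖ h hh, ← IsLocalization.mk'_spec (Localization.Away h) q s, map_mul,
      hb, zero_mul]
  obtain ⟨a, ha⟩ := Ideal.mem_span_singleton'.mp (mem_span_xq_of_Psi_eq_zero V hϖ hij q h1)
  rw [IsLocalization.mk'_eq_mul_mk'_one, ← ha, map_mul]
  rw [Ideal.mem_span_singleton']
  exact ⟨algebraMap _ _ a * IsLocalization.mk' _ 1 s, by ring⟩

theorem span_xb_eq_ker {i j : Fin 2} (hij : i ≠ j) :
    Ideal.span {xb V h i} = RingHom.ker (rho V hϖ h hh i).toRingHom := by
  apply le_antisymm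
  · rw [Ideal.span_le]
    intro b hb
    rw [Set.mem_singleton_iff] at hb
    rw [hb]
    exact rho_xb_self V hϖ h hh i
  · intro b hb
    exact mem_span_xb_of_rho_eq_zero V hϖ h hh hij b hb

include hϖ hh in
theorem span_xb_isPrime {i j : Fin 2} (hij : i ≠ j) : (Ideal.span {xb V h i}).IsPrime := by
  rw [span_xb_eq_ker V hϖ h hh hij]
  exact RingHom.ker_isPrime _

include hϖ hh in
theorem xb_notMem {i j : Fin 2} (hij : i ≠ j) : xb V h j ∉ Ideal.span {xb V h i} := by
  intro hmem
  rw [span_xb_eq_ker V hϖ h hh hij] at hmem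
  have h1 : rho V hϖ h hh i (xb V h j) = 0 := hmem
  rw [rho_xb_ne V hϖ h hh hij] at h1
  exact PowerSeries.X_ne_zero h1

include hϖ hh in
theorem span_pair_ne_top : Ideal.span {xb V h 0, xb V h 1} ≠ ⊤ := by
  set κ : Localization.Away h →+* 𝕜 :=
    (PowerSeries.constantCoeff (R := 𝕜)).comp (rho V hϖ h hh 0).toRingHom with hκ
  have hle : Ideal.span {xb V h 0, xb V h 1} ≤ RingHom.ker κ := by
    rw [Ideal.span_le]
    intro b hb
    rcases hb with hb | hb
    · rw [hb]
      show PowerSeries.constantCoeff (rho V hϖ h hh 0 (xb V h 0)) = 0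
      rw [rho_xb_self, map_zero]
    · rw [Set.mem_singleton_iff] at hb
      rw [hb]
      show PowerSeries.constantCoeff (rho V hϖ h hh 0 (xb V h 1)) = 0
      rw [rho_xb_ne V hϖ h hh (by decide), PowerSeries.constantCoeff_X]
  intro htop
  rw [htop, top_le_iff] at hle
  exact RingHom.ker_ne_top κ hle

omit hh in
theorem xb_mul : xb V h 0 * xb V h 1 = algebraMap V (Localization.Away h) ϖ := by
  rw [← map_mul, xq_mul, ← IsScalarTower.algebraMap_apply]

include hϖ in
omit hh in
theorem piB_regular (b : Localization.Away h)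
    (hb : algebraMap V (Localization.Away h) ϖ * b = 0) : b = 0 := by
  obtain ⟨q, s, rfl⟩ := IsLocalization.exists_mk'_eq (Submonoid.powers h) b
  rw [IsScalarTower.algebraMap_apply V (Q V ϖ) (Localization.Away h),
    IsLocalization.mul_mk'_eq_mk'_of_mul, IsLocalization.mk'_eq_zero_iff] at hb
  obtain ⟨m, hm⟩ := hb
  have h1 : (m : Q V ϖ) * q = 0 := by
    apply pi_regular V hϖ
    rw [← hm]; ring
  rw [IsLocalization.mk'_eq_zero_iff]
  exact ⟨m, h1⟩

include hϖ in
omit hh in
theorem xb_regular (l : Fin 2) (b : Localization.Away h) (hb : xb V h l * b = 0) : b = 0 := by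
  apply piB_regular V hϖ h
  rw [← xb_mul]
  rcases fin2_cases (show (0 : Fin 2) ≠ 1 by decide) l with rfl | rfl
  · rw [mul_comm (xb V h 0), mul_assoc, hb, mul_zero]
  · rw [mul_assoc, hb, mul_zero]

end Blevel

section Deriv

variable (V : Type u) [CommRing V] [IsDomain V] [IsDiscreteValuationRing V] (ϖ : V)

/-- The derivation `x ∂/∂x - y ∂/∂y` of `V[x, y]`. -/
noncomputable def thetaP : Derivation V (MvPolynomial (Fin 2) V) (MvPolynomial (Fin 2) V) :=
  mkDerivation V (fun l => if l = 0 then X 0 else - X 1)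

theorem thetaP_X0 : thetaP V (X 0) = X 0 := by
  simp [thetaP, mkDerivation_X]

theorem thetaP_X1 : thetaP V (X 1) = - X 1 := by
  simp [thetaP, mkDerivation_X]

theorem thetaP_rel : thetaP V (rel V ϖ) = 0 := by
  rw [rel, map_sub, Derivation.leibniz, thetaP_X0, thetaP_X1]
  have : thetaP V (C ϖ) = 0 := by
    rw [← MvPolynomial.algebraMap_eq]
    exact Derivation.map_algebraMap _ _
  rw [this, smul_eq_mul, smul_eq_mul]
  ring

theorem thetaP_ker (x : MvPolynomial (Fin 2) V)
    (hx : Ideal.Quotient.mkₐ V (Ideal.span {rel V ϖ}) x = 0) :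
    Ideal.Quotient.mkₐ V (Ideal.span {rel V ϖ}) (thetaP V x) = 0 := by
  rw [Ideal.Quotient.mkₐ_eq_mk, Ideal.Quotient.eq_zero_iff_mem,
    Ideal.mem_span_singleton'] at hx
  rw [Ideal.Quotient.mkₐ_eq_mk, Ideal.Quotient.eq_zero_iff_mem, Ideal.mem_span_singleton']
  obtain ⟨a, rfl⟩ := hx
  refine ⟨thetaP V a, ?_⟩
  rw [Derivation.leibniz, thetaP_rel, smul_zero, zero_add, smul_eq_mul, mul_comm]

/-- The induced derivation of `Q`. -/
noncomputable def thetaQ : Derivation V (Q V ϖ) (Q V ϖ) :=
  Derivation.liftOfSurjective (f := Ideal.Quotient.mkₐ V (Ideal.span {rel V ϖ}))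
    (Ideal.Quotient.mkₐ_surjective V _) (d := thetaP V) (thetaP_ker V ϖ)

theorem thetaQ_mk (F : MvPolynomial (Fin 2) V) :
    thetaQ V ϖ (Ideal.Quotient.mk _ F) = Ideal.Quotient.mk _ (thetaP V F) :=
  Derivation.liftOfSurjective_apply (f := Ideal.Quotient.mkₐ V (Ideal.span {rel V ϖ}))
    (Ideal.Quotient.mkₐ_surjective V _) (thetaP_ker V ϖ) F

theorem thetaQ_xq0 : thetaQ V ϖ (xq V ϖ 0) = xq V ϖ 0 := by
  rw [thetaQ_mk, thetaP_X0]

theorem thetaQ_xq1 : thetaQ V ϖ (xq V ϖ 1) = - xq V ϖ 1 := by
  rw [thetaQ_mk, thetaP_X1, map_neg]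

end Deriv

section Etale

open KaehlerDifferential

/-- If `V[T] → R` is étale then `Ω[R⁄V]` is spanned by the differential of the image of `T`. -/
theorem span_D_of_etale {V R : Type u} [CommRing V] [CommRing R] [Algebra V R]
    (φ : Polynomial V →+* R) (hφC : ∀ v, φ (Polynomial.C v) = algebraMap V R v) (hφ : φ.Etale) :
    Submodule.span R {D V R (φ Polynomial.X)} = ⊤ := by
  letI : Algebra (Polynomial V) R := φ.toAlgebra
  haveI : IsScalarTower V (Polynomial V) R :=
    IsScalarTower.of_algebraMap_eq fun v => (hφC v).symm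
  haveI : Algebra.Etale (Polynomial V) R := hφ
  haveI : Algebra.FormallyUnramified (Polynomial V) R := inferInstance
  haveI : Subsingleton Ω[R⁄Polynomial V] := inferInstance
  rw [eq_top_iff]
  have hker : LinearMap.ker (KaehlerDifferential.map V (Polynomial V) R R) = ⊤ := by
    rw [eq_top_iff]
    intro ω _
    rw [LinearMap.mem_ker]
    exact Subsingleton.elim _ _
  rw [← hker]
  apply EtaFinH3.ker_map_le (Polynomial V)
  intro p
  show D V R (φ p) ∈ _
  induction p using Polynomial.induction_on' with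
  | add p q hp hq =>
    rw [map_add, map_add]
    exact add_mem hp hq
  | monomial n a =>
    rw [← Polynomial.C_mul_X_pow_eq_monomial, map_mul, map_pow, hφC, ← Algebra.smul_def,
      Derivation.map_smul, Derivation.leibniz_pow]
    exact Submodule.smul_of_tower_mem _ _ (nsmul_mem (Submodule.smul_mem _ _
      (Submodule.mem_span_singleton_self _)) _)

theorem eq_C_of_derivative_eq_zero {k : Type u} [Field k] [CharZero k] (p : PowerSeries k)
    (hp : PowerSeries.derivative k p = 0) :
    p = PowerSeries.C (PowerSeries.constantCoeff p) := by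
  ext n
  rw [PowerSeries.coeff_C]
  cases n with
  | zero => simp
  | succ n =>
    rw [if_neg (Nat.succ_ne_zero n)]
    have h1 := congrArg (PowerSeries.coeff n) hp
    rw [PowerSeries.coeff_derivative, map_zero] at h1
    rcases mul_eq_zero.mp h1 with h | h
    · exact h
    · exfalso
      exact Nat.cast_add_one_ne_zero n h

end Etale

section Main

open KaehlerDifferential

variable (V : Type u) [CommRing V] [IsDomain V] [IsDiscreteValuationRing V] {ϖ : V}
  (hϖ : Irreducible ϖ) (h : Q V ϖ) (hh : h ∉ Ideal.span {xq V ϖ 0, xq V ϖ 1})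

local notation "𝕜" => IsLocalRing.ResidueField V

theorem algebraMap_mk_eq_aeval (F : MvPolynomial (Fin 2) V) :
    algebraMap (Q V ϖ) (Localization.Away h) (Ideal.Quotient.mk _ F) =
      aeval (fun l => xb V h l) F := by
  have : ((IsScalarTower.toAlgHom V (Q V ϖ) (Localization.Away h)).comp
      (Ideal.Quotient.mkₐ V (Ideal.span {rel V ϖ}))) = aeval (fun l => xb V h l) := by
    refine MvPolynomial.algHom_ext fun l => ?_
    simp
  exact DFunLike.congr_fun this F

theorem span_D_xb :
    Submodule.span (Localization.Away h)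
      (Set.range fun l : Fin 2 => D V (Localization.Away h) (xb V h l)) = ⊤ := by
  rw [eq_top_iff, ← KaehlerDifferential.span_range_map_derivation_of_isLocalization V (Q V ϖ)
    (Localization.Away h) (Submonoid.powers h), Submodule.span_le]
  rintro _ ⟨q, rfl⟩
  obtain ⟨F, rfl⟩ := Ideal.Quotient.mk_surjective q
  show KaehlerDifferential.map V V (Q V ϖ) (Localization.Away h)
    (D V (Q V ϖ) (Ideal.Quotient.mk _ F)) ∈ _
  rw [KaehlerDifferential.map_D, algebraMap_mk_eq_aeval]
  exact EtaFinH3.D_aeval_mem _ F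

include hϖ hh in
theorem main_aux (f : Localization.Away h)
    (hf : ((algebraMap (Localization.Away h)
        (Localization.Away (algebraMap V (Localization.Away h) ϖ))).comp
          (Polynomial.aeval f : Polynomial V →ₐ[V] Localization.Away h).toRingHom).Etale) :
    ∃ i j : Fin 2, i ≠ j ∧ ∃ c : Fin 2 → Localization.Away h,
      D V (Localization.Away h) f = ∑ l, c l • D V (Localization.Away h) (xb V h l) ∧
      c j ∈ Ideal.span {xb V h i} := by
  classical
  obtain ⟨dB, hdB⟩ := exists_derivation_of_isLocalization V (Q V ϖ) (Localization.Away h)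
    (Submonoid.powers h) (thetaQ V ϖ)
  obtain ⟨dBϖ, hdBϖ⟩ := exists_derivation_of_isLocalization V (Localization.Away h)
    (Localization.Away (algebraMap V (Localization.Away h) ϖ))
    (Submonoid.powers (algebraMap V (Localization.Away h) ϖ)) dB
  have hd0 : dB (xb V h 0) = xb V h 0 := by rw [hdB, thetaQ_xq0]
  have hd1 : dB (xb V h 1) = - xb V h 1 := by rw [hdB, thetaQ_xq1, map_neg]
  have hmem : D V (Localization.Away h) f ∈ Submodule.span (Localization.Away h)
      (Set.range fun l : Fin 2 => D V (Localization.Away h) (xb V h l)) := by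
    rw [span_D_xb]; exact Submodule.mem_top
  obtain ⟨c, hc⟩ := (Submodule.mem_span_range_iff_exists_fun (Localization.Away h)).mp hmem
  have hg : dB f = c 0 * xb V h 0 - c 1 * xb V h 1 := by
    have h1 := congrArg dB.liftKaehlerDifferential hc
    rw [Derivation.liftKaehlerDifferential_comp_D, map_sum, Fin.sum_univ_two, map_smul, map_smul,
      Derivation.liftKaehlerDifferential_comp_D, Derivation.liftKaehlerDifferential_comp_D,
      hd0, hd1, smul_eq_mul, smul_eq_mul] at h1
    rw [← h1]; ring
  have hgJ : dB f ∈ Ideal.span {xb V h 0, xb V h 1} := by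
    rw [hg]
    exact sub_mem (Ideal.mul_mem_left _ _ (Ideal.subset_span (by simp)))
      (Ideal.mul_mem_left _ _ (Ideal.subset_span (by simp)))
  have hφC : ∀ v, ((algebraMap (Localization.Away h)
        (Localization.Away (algebraMap V (Localization.Away h) ϖ))).comp
          (Polynomial.aeval f : Polynomial V →ₐ[V] Localization.Away h).toRingHom)
            (Polynomial.C v) =
      algebraMap V (Localization.Away (algebraMap V (Localization.Away h) ϖ)) v := by
    intro v
    simp [← IsScalarTower.algebraMap_apply]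
  have hspan := span_D_of_etale _ hφC hf
  have hφX : ((algebraMap (Localization.Away h)
        (Localization.Away (algebraMap V (Localization.Away h) ϖ))).comp
          (Polynomial.aeval f : Polynomial V →ₐ[V] Localization.Away h).toRingHom)
            Polynomial.X =
      algebraMap _ _ f := by
    simp
  rw [hφX] at hspan
  have hx0 : D V (Localization.Away (algebraMap V (Localization.Away h) ϖ))
      (algebraMap (Localization.Away h) _ (xb V h 0)) ∈
      Submodule.span (Localization.Away (algebraMap V (Localization.Away h) ϖ))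
        {D V (Localization.Away (algebraMap V (Localization.Away h) ϖ))
          (algebraMap (Localization.Away h) _ f)} := by
    rw [hspan]; exact Submodule.mem_top
  obtain ⟨e, he⟩ := Submodule.mem_span_singleton.mp hx0
  have h1 : algebraMap (Localization.Away h)
      (Localization.Away (algebraMap V (Localization.Away h) ϖ)) (xb V h 0) =
      e * algebraMap (Localization.Away h)
        (Localization.Away (algebraMap V (Localization.Away h) ϖ)) (dB f) := by
    have h2 := congrArg dBϖ.liftKaehlerDifferential he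
    rw [map_smul, Derivation.liftKaehlerDifferential_comp_D,
      Derivation.liftKaehlerDifferential_comp_D, hdBϖ, hdBϖ, hd0, smul_eq_mul] at h2
    exact h2.symm
  have hunit0 : IsUnit (algebraMap (Localization.Away h)
      (Localization.Away (algebraMap V (Localization.Away h) ϖ)) (xb V h 0)) := by
    have h3 : IsUnit (algebraMap (Localization.Away h)
        (Localization.Away (algebraMap V (Localization.Away h) ϖ))
          (algebraMap V (Localization.Away h) ϖ)) :=
      IsLocalization.map_units _ (⟨algebraMap V (Localization.Away h) ϖ,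
        Submonoid.mem_powers _⟩ : Submonoid.powers (algebraMap V (Localization.Away h) ϖ))
    have h3' : IsUnit (algebraMap (Localization.Away h)
        (Localization.Away (algebraMap V (Localization.Away h) ϖ)) (xb V h 0) *
        algebraMap (Localization.Away h)
        (Localization.Away (algebraMap V (Localization.Away h) ϖ)) (xb V h 1)) := by
      rw [← map_mul, xb_mul]
      exact h3
    exact isUnit_of_mul_isUnit_left h3'
  have hgunit : IsUnit (algebraMap (Localization.Away h)
      (Localization.Away (algebraMap V (Localization.Away h) ϖ)) (dB f)) := by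
    rw [h1] at hunit0
    exact isUnit_of_mul_isUnit_right hunit0
  obtain ⟨c', N, hc'⟩ : ∃ (c' : Localization.Away h) (N : ℕ),
      dB f * c' = (algebraMap V (Localization.Away h) ϖ) ^ N := by
    obtain ⟨u, hu⟩ := hgunit.exists_right_inv
    obtain ⟨c₀, s, rfl⟩ := IsLocalization.exists_mk'_eq
      (Submonoid.powers (algebraMap V (Localization.Away h) ϖ)) u
    have h2 : algebraMap (Localization.Away h)
        (Localization.Away (algebraMap V (Localization.Away h) ϖ)) (dB f * c₀) =
        algebraMap (Localization.Away h) _ (s : Localization.Away h) := by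
      rw [map_mul, ← IsLocalization.mk'_spec
        (Localization.Away (algebraMap V (Localization.Away h) ϖ)) c₀ s, ← mul_assoc, hu, one_mul]
    obtain ⟨t, ht⟩ := (IsLocalization.eq_iff_exists
      (Submonoid.powers (algebraMap V (Localization.Away h) ϖ)) _).mp h2
    obtain ⟨m, hm⟩ := s.2
    obtain ⟨j, hj⟩ := t.2
    have hm' : (algebraMap V (Localization.Away h) ϖ) ^ m = (s : Localization.Away h) := hm
    have hj' : (algebraMap V (Localization.Away h) ϖ) ^ j = (t : Localization.Away h) := hj
    refine ⟨(t : Localization.Away h) * c₀, j + m, ?_⟩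
    rw [pow_add, hm', hj', ← ht]; ring
  have hpow : (algebraMap V (Localization.Away h) ϖ) ^ N = xb V h 0 ^ N * xb V h 1 ^ N := by
    rw [← mul_pow, xb_mul]
  have hdich : dB f ∈ Ideal.span {xb V h 0} ∨ dB f ∈ Ideal.span {xb V h 1} := by
    by_contra hcon
    push_neg at hcon
    obtain ⟨c₁, hc₁, h3⟩ := pow_dvd_of_mul_eq (xb V h 0) (xb_regular V hϖ h 0)
      (span_xb_isPrime V hϖ h hh (i := 0) (j := 1) (by decide)) (dB f) hcon.1 N c'
      (xb V h 1 ^ N) (by rw [hc', hpow])
    obtain ⟨c₂, hc₂, h4⟩ := pow_dvd_of_mul_eq (xb V h 1) (xb_regular V hϖ h 1)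
      (span_xb_isPrime V hϖ h hh (i := 1) (j := 0) (by decide)) (dB f) hcon.2 N c₁ 1
      (by rw [h3, mul_one])
    apply span_pair_ne_top V hϖ h hh
    rw [Ideal.eq_top_iff_one, ← h4]
    exact Ideal.mul_mem_right _ _ hgJ
  rcases hdich with h0 | h1'
  · refine ⟨0, 1, by decide, c, hc.symm, ?_⟩
    have h5 : c 1 * xb V h 1 ∈ Ideal.span {xb V h 0} := by
      have : c 1 * xb V h 1 = c 0 * xb V h 0 - dB f := by rw [hg]; ring
      rw [this]
      exact sub_mem (Ideal.mul_mem_left _ _ (Ideal.mem_span_singleton_self _)) h0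
    exact ((span_xb_isPrime V hϖ h hh (i := 0) (j := 1) (by decide)).mem_or_mem h5).resolve_right
      (xb_notMem V hϖ h hh (by decide))
  · refine ⟨1, 0, by decide, c, hc.symm, ?_⟩
    have h5 : c 0 * xb V h 0 ∈ Ideal.span {xb V h 1} := by
      have : c 0 * xb V h 0 = dB f + c 1 * xb V h 1 := by rw [hg]; ring
      rw [this]
      exact add_mem h1' (Ideal.mul_mem_left _ _ (Ideal.mem_span_singleton_self _))
    exact ((span_xb_isPrime V hϖ h hh (i := 1) (j := 0) (by decide)).mem_or_mem h5).resolve_right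
      (xb_notMem V hϖ h hh (by decide))

omit [IsDomain V] [IsDiscreteValuationRing V] in
theorem D_mk_eq_zero {i j : Fin 2} (hij : i ≠ j) (c : Fin 2 → Localization.Away h)
    (f : Localization.Away h)
    (hc : D V (Localization.Away h) f = ∑ l, c l • D V (Localization.Away h) (xb V h l))
    (hcj : c j ∈ Ideal.span {xb V h i}) :
    D V (Localization.Away h ⧸ Ideal.span {xb V h i}) (Ideal.Quotient.mk _ f) = 0 := by
  have h1 := congrArg (KaehlerDifferential.map V V (Localization.Away h)
    (Localization.Away h ⧸ Ideal.span {xb V h i})) hc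
  rw [KaehlerDifferential.map_D, map_sum] at h1
  show D V (Localization.Away h ⧸ Ideal.span {xb V h i})
    (algebraMap (Localization.Away h) (Localization.Away h ⧸ Ideal.span {xb V h i}) f) = 0
  rw [h1]
  apply Finset.sum_eq_zero
  intro l _
  rw [map_smul, KaehlerDifferential.map_D]
  rcases fin2_cases hij l with rfl | rfl
  · have h2 : algebraMap (Localization.Away h) (Localization.Away h ⧸ Ideal.span {xb V h l})
        (xb V h l) = 0 :=
      Ideal.Quotient.eq_zero_iff_mem.mpr (Ideal.mem_span_singleton_self _)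
    rw [h2, map_zero, smul_zero]
  · have h2 : algebraMap (Localization.Away h) (Localization.Away h ⧸ Ideal.span {xb V h i})
        (c l) = 0 :=
      Ideal.Quotient.eq_zero_iff_mem.mpr hcj
    rw [← algebraMap_smul (Localization.Away h ⧸ Ideal.span {xb V h i}) (c l), h2]
    have hz := zero_smul (Localization.Away h ⧸ Ideal.span {xb V h i})
      (D V (Localization.Away h ⧸ Ideal.span {xb V h i})
        ((algebraMap (Localization.Away h) (Localization.Away h ⧸ Ideal.span {xb V h i}))
          (xb V h l)))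
    exact hz

include hϖ hh in
theorem not_quasiFinite [CharZero 𝕜] {i j : Fin 2} (hij : i ≠ j)
    (c : Fin 2 → Localization.Away h) (f : Localization.Away h)
    (hc : D V (Localization.Away h) f = ∑ l, c l • D V (Localization.Away h) (xb V h l))
    (hcj : c j ∈ Ideal.span {xb V h i}) :
    ¬ (Polynomial.aeval f : Polynomial V →ₐ[V] Localization.Away h).toRingHom.QuasiFinite := by
  classical
  intro hqf
  -- the derivative of the image of `f` on the branch vanishes
  have hder : PowerSeries.derivative 𝕜 (rho V hϖ h hh i f) = 0 := by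
    letI : Algebra (Localization.Away h) (PowerSeries 𝕜) := (rho V hϖ h hh i).toRingHom.toAlgebra
    haveI : IsScalarTower V (Localization.Away h) (PowerSeries 𝕜) :=
      IsScalarTower.of_algebraMap_eq fun v => ((rho V hϖ h hh i).commutes v).symm
    let δ : Derivation V (Localization.Away h) (PowerSeries 𝕜) :=
      ((PowerSeries.derivative 𝕜).restrictScalars V).compAlgebraMap (Localization.Away h)
    have h1 := congrArg δ.liftKaehlerDifferential hc
    rw [Derivation.liftKaehlerDifferential_comp_D, map_sum] at h1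
    show δ f = 0
    rw [h1]
    apply Finset.sum_eq_zero
    intro l _
    rw [map_smul, Derivation.liftKaehlerDifferential_comp_D]
    rcases fin2_cases hij l with rfl | rfl
    · have h2 : δ (xb V h l) = 0 := by
        show PowerSeries.derivative 𝕜 (rho V hϖ h hh l (xb V h l)) = 0
        rw [rho_xb_self, map_zero]
      rw [h2, smul_zero]
    · have h2 : rho V hϖ h hh i (c l) = 0 := by
        rw [span_xb_eq_ker V hϖ h hh hij] at hcj
        exact hcj
      rw [Algebra.smul_def]
      show rho V hϖ h hh i (c l) * _ = 0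
      rw [h2, zero_mul]
  have hconst := eq_C_of_derivative_eq_zero _ hder
  set c₀ : 𝕜 := PowerSeries.constantCoeff (rho V hϖ h hh i f) with hc₀
  -- the algebra structures
  letI algB : Algebra (Polynomial V) (Localization.Away h) :=
    (Polynomial.aeval f : Polynomial V →ₐ[V] Localization.Away h).toRingHom.toAlgebra
  haveI : Algebra.QuasiFinite (Polynomial V) (Localization.Away h) := hqf
  letI algk : Algebra (Polynomial V) 𝕜 :=
    (Polynomial.aeval c₀ : Polynomial V →ₐ[V] 𝕜).toRingHom.toAlgebra
  haveI : Algebra.QuasiFinite 𝕜 (TensorProduct (Polynomial V) 𝕜 (Localization.Away h)) :=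
    inferInstance
  haveI : Module.Finite 𝕜 (TensorProduct (Polynomial V) 𝕜 (Localization.Away h)) :=
    Module.Finite.of_quasiFinite
  -- compatibility of the two structure maps
  have hcompat : ∀ r : Polynomial V, rho V hϖ h hh i (Polynomial.aeval f r) =
      PowerSeries.C (Polynomial.aeval c₀ r) := by
    intro r
    have : (rho V hϖ h hh i).toRingHom.comp
        (Polynomial.aeval f : Polynomial V →ₐ[V] Localization.Away h).toRingHom =
        (PowerSeries.C (R := 𝕜)).comp (Polynomial.aeval c₀ : Polynomial V →ₐ[V] 𝕜).toRingHom := by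
      refine Polynomial.ringHom_ext (fun v => ?_) ?_
      · simp [PowerSeries.algebraMap_apply]
      · simp only [RingHom.comp_apply, AlgHom.toRingHom_eq_coe, RingHom.coe_coe,
          Polynomial.aeval_X]
        exact hconst
    exact DFunLike.congr_fun this r
  -- the additive map out of the tensor product
  let F₀ : 𝕜 →+ Localization.Away h →+ PowerSeries 𝕜 :=
    AddMonoidHom.mk' (fun a => AddMonoidHom.mk' (fun b => PowerSeries.C a * rho V hϖ h hh i b)
      (by intro b b'; rw [map_add, mul_add]))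
      (by intro a a'; ext b; simp [add_mul])
  let Φ : TensorProduct (Polynomial V) 𝕜 (Localization.Away h) →+ PowerSeries 𝕜 :=
    TensorProduct.liftAddHom F₀ (by
      intro r a b
      show PowerSeries.C (r • a) * rho V hϖ h hh i b = PowerSeries.C a * rho V hϖ h hh i (r • b)
      rw [Algebra.smul_def, Algebra.smul_def, map_mul, map_mul]
      show PowerSeries.C (Polynomial.aeval c₀ r) * PowerSeries.C a * _ =
        PowerSeries.C a * (rho V hϖ h hh i (Polynomial.aeval f r) * _)
      rw [hcompat]; ring)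
  have hΦ_tmul : ∀ (a : 𝕜) (b : Localization.Away h),
      Φ (TensorProduct.tmul (Polynomial V) a b) = PowerSeries.C a * rho V hϖ h hh i b := by
    intro a b
    exact TensorProduct.liftAddHom_tmul _ _ a b
  have hΦ_smul : ∀ (a : 𝕜) (t : TensorProduct (Polynomial V) 𝕜 (Localization.Away h)),
      Φ (a • t) = PowerSeries.C a * Φ t := by
    intro a t
    induction t using TensorProduct.induction_on with
    | zero => simp
    | tmul a' b =>
      rw [TensorProduct.smul_tmul', hΦ_tmul, hΦ_tmul, smul_eq_mul, map_mul, mul_assoc]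
    | add t t' ht ht' => rw [smul_add, map_add, map_add, ht, ht', mul_add]
  -- an infinite linearly independent family
  have hli : LinearIndependent 𝕜 (fun n : ℕ =>
      TensorProduct.tmul (Polynomial V) (1 : 𝕜) (xb V h j ^ n)) := by
    rw [linearIndependent_iff']
    intro s g hg n hn
    have h1 := congrArg Φ hg
    rw [map_sum, map_zero] at h1
    have h2 : ∀ m ∈ s, Φ (g m • TensorProduct.tmul (Polynomial V) (1 : 𝕜) (xb V h j ^ m)) =
        PowerSeries.C (g m) * PowerSeries.X ^ m := by
      intro m _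
      rw [hΦ_smul, hΦ_tmul, map_one, one_mul, map_pow, rho_xb_ne V hϖ h hh hij]
    rw [Finset.sum_congr rfl h2] at h1
    have h3 := congrArg (PowerSeries.coeff n) h1
    rw [map_sum, map_zero] at h3
    simp only [PowerSeries.coeff_C_mul_X_pow] at h3
    rw [Finset.sum_ite_eq s n] at h3
    rw [if_pos hn] at h3
    exact h3
  exact Infinite.not_finite (α := ℕ) hli.finite_of_isNoetherian

end Main

end Groth.Agent.Lib.NodeH3
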