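import Mathlib
import Groth.Agent.Lib.LocalCrit4_helper9

/-!
# Deformations `xy = τ` of the node: ring level (helper3)

* `flat_quotient_span_singleton` : hypersurface flatness over a base with nilpotent ideal;
* `ker_quotientMap_of_surjective` : kernel of the map induced on quotients by a surjection;
* the algebras `Eτ P τ = P[x,y]/(xy - τ)`, their base change maps, the isomorphism `E(uτ) ≃ E(τ)` for a
  unit `u`, and the obstruction to a compatible homomorphism `E(τ₂) → E(τ₁)`.
-/

set_option autoImplicit false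
set_option linter.unusedSectionVars false

universe u

open TensorProduct

namespace Groth.Agent.Lib.NodeDefH3

section Hypersurface

variable {A : Type u} [CommRing A] (I : Ideal A) (B : Type u) [CommRing B] [Algebra A B]

/-- the multiplication map `I ⊗ B → B`. -/
noncomputable def muI : I ⊗[A] B →ₗ[A] B :=
  (TensorProduct.lid A B).toLinearMap ∘ₗ (I.subtype.rTensor B)

theorem muI_tmul (a : I) (b : B) : muI I B (a ⊗ₜ[A] b) = (a : A) • b := by
  show (TensorProduct.lid A B) ((I.subtype.rTensor B) (a ⊗ₜ[A] b)) = _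
  rw [LinearMap.rTensor_tmul, TensorProduct.lid_tmul, Submodule.subtype_apply]

theorem muI_mem (w : I ⊗[A] B) : muI I B w ∈ I.map (algebraMap A B) := by
  induction w using TensorProduct.induction_on with
  | zero => rw [map_zero]; exact Ideal.zero_mem _
  | tmul a b =>
    rw [muI_tmul, Algebra.smul_def]
    exact Ideal.mul_mem_right _ _ (Ideal.mem_map_of_mem _ a.2)
  | add x y hx hy => rw [map_add]; exact Ideal.add_mem _ hx hy

theorem muI_mulLeft (b' : B) (w : I ⊗[A] B) :
    muI I B ((LinearMap.mulLeft A b').lTensor I w) = b' * muI I B w := by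
  induction w using TensorProduct.induction_on with
  | zero => rw [map_zero, map_zero, mul_zero]
  | tmul a b =>
    rw [LinearMap.lTensor_tmul, muI_tmul, muI_tmul, LinearMap.mulLeft_apply, mul_smul_comm]
  | add x y hx hy => rw [map_add, map_add, map_add, hx, hy, mul_add]

theorem exists_muI_eq (c : B) (hc : c ∈ I.map (algebraMap A B)) : ∃ w, muI I B w = c := by
  refine Submodule.span_induction (p := fun c _ => ∃ w, muI I B w = c) ?_ ?_ ?_ ?_ hc
  · rintro _ ⟨a, ha, rfl⟩
    refine ⟨(⟨a, ha⟩ : I) ⊗ₜ[A] (1 : B), ?_⟩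
    rw [muI_tmul, Algebra.smul_def, mul_one]
  · exact ⟨0, map_zero _⟩
  · rintro x y _ _ ⟨w, rfl⟩ ⟨w', rfl⟩
    exact ⟨w + w', map_add _ _ _⟩
  · rintro r x _ ⟨w, rfl⟩
    exact ⟨(LinearMap.mulLeft A r).lTensor I w, by rw [muI_mulLeft, smul_eq_mul]⟩

theorem muI_injective [Module.Flat A B] : Function.Injective (muI I B) := by
  show Function.Injective ((TensorProduct.lid A B) ∘ (I.subtype.rTensor B))
  exact (TensorProduct.lid A B).injective.comp
    (Module.Flat.rTensor_preserves_injective_linearMap _ Subtype.val_injective)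

/-- Hypersurface flatness over a base with a nilpotent ideal. -/
theorem flat_quotient_span_singleton (hI : IsNilpotent I) [Module.Flat A B] (f : B)
    (hreg : ∀ b : B, f * b ∈ I.map (algebraMap A B) → b ∈ I.map (algebraMap A B))
    [Module.Flat (A ⧸ I) ((A ⧸ I) ⊗[A] (B ⧸ Ideal.span {f}))] :
    Module.Flat A (B ⧸ Ideal.span {f}) := by
  refine Groth.Agent.Lib.LocalCrit4.flat_of_nilpotent I hI (B ⧸ Ideal.span {f}) ?_
  let mkL : B →ₗ[A] (B ⧸ Ideal.span {f}) := (Ideal.Quotient.mkₐ A (Ideal.span {f})).toLinearMap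
  have hmkL : Function.Surjective mkL := Ideal.Quotient.mk_surjective
  rw [injective_iff_map_eq_zero]
  intro z hz
  obtain ⟨w, rfl⟩ := LinearMap.lTensor_surjective I hmkL z
  have h2 : ∀ w : I ⊗[A] B, (TensorProduct.lid A (B ⧸ Ideal.span {f}))
      ((I.subtype.rTensor (B ⧸ Ideal.span {f})) (mkL.lTensor I w)) = mkL (muI I B w) := by
    intro w
    induction w using TensorProduct.induction_on with
    | zero => simp
    | tmul a b =>
      rw [LinearMap.lTensor_tmul, LinearMap.rTensor_tmul, TensorProduct.lid_tmul, muI_tmul,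
        map_smul]
      rfl
    | add x y hx hy => simp only [map_add, hx, hy]
  have h1 : mkL (muI I B w) = 0 := by
    rw [← h2, hz, map_zero]
  have h3 : muI I B w ∈ Ideal.span {f} := Ideal.Quotient.eq_zero_iff_mem.1 h1
  obtain ⟨c, hc⟩ := Ideal.mem_span_singleton'.1 h3
  have hc' : f * c ∈ I.map (algebraMap A B) := by
    rw [mul_comm, hc]
    exact muI_mem I B w
  obtain ⟨w₂, hw₂⟩ := exists_muI_eq I B c (hreg c hc')
  have h4 : w = (LinearMap.mulLeft A f).lTensor I w₂ := by
    apply muI_injective I B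
    rw [muI_mulLeft, hw₂, ← hc, mul_comm]
  rw [h4, ← LinearMap.comp_apply, ← LinearMap.lTensor_comp]
  have h5 : mkL ∘ₗ LinearMap.mulLeft A f = 0 := by
    apply LinearMap.ext
    intro b
    show Ideal.Quotient.mk (Ideal.span {f}) (f * b) = 0
    rw [Ideal.Quotient.eq_zero_iff_mem]
    exact Ideal.mul_mem_right _ _ (Ideal.mem_span_singleton_self f)
  rw [h5, LinearMap.lTensor_zero, LinearMap.zero_apply]

end Hypersurface

section QuotMap

theorem ker_quotientMap_of_surjective {B B' : Type*} [CommRing B] [CommRing B'] (φ : B →+* B')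
    (hφ : Function.Surjective φ) (J : Ideal B) (J' : Ideal B') (hJ : J' = J.map φ)
    (hle : J ≤ J'.comap φ) :
    Function.Surjective (Ideal.quotientMap J' φ hle) ∧
      RingHom.ker (Ideal.quotientMap J' φ hle) = (RingHom.ker φ).map (Ideal.Quotient.mk J) := by
  refine ⟨Ideal.quotientMap_surjective hφ, le_antisymm ?_ ?_⟩
  · intro x hx
    obtain ⟨b, rfl⟩ := Ideal.Quotient.mk_surjective x
    rw [RingHom.mem_ker, Ideal.quotientMap_mk, Ideal.Quotient.eq_zero_iff_mem, hJ] at hx
    obtain ⟨j, hj, hjb⟩ := (Ideal.mem_map_iff_of_surjective φ hφ).1 hx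
    have h1 : b - j ∈ RingHom.ker φ := by rw [RingHom.mem_ker, map_sub, hjb, sub_self]
    have h2 : Ideal.Quotient.mk J b = Ideal.Quotient.mk J (b - j) := by
      rw [map_sub, Ideal.Quotient.eq_zero_iff_mem.2 hj, sub_zero]
    rw [h2]
    exact Ideal.mem_map_of_mem _ h1
  · rw [Ideal.map_le_iff_le_comap]
    intro c hc
    rw [Ideal.mem_comap, RingHom.mem_ker, Ideal.quotientMap_mk, (RingHom.mem_ker).1 hc, map_zero]

end QuotMap

end Groth.Agent.Lib.NodeDefH3
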