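import Mathlib
import Groth.Agent.Lib.NodeDef1_helper3

/-!
# The algebras `P[x,y]/(xy - τ)` (helper3)
-/

set_option autoImplicit false
set_option linter.unusedSectionVars false

universe u

open TensorProduct MvPolynomial

namespace Groth.Agent.Lib.NodeDefH3

section Etau

variable (P : Type u) [CommRing P] (τ : P)

/-- the relation `xy - τ`. -/
noncomputable def relτ : MvPolynomial (Fin 2) P := X 0 * X 1 - C τ

/-- `P[x,y]/(xy - τ)` -/
abbrev Eτ : Type u := MvPolynomial (Fin 2) P ⧸ Ideal.span {relτ P τ}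

/-- the node `k[x,y]/(xy)`. -/
abbrev Node (k : Type u) [CommRing k] : Type u :=
  MvPolynomial (Fin 2) k ⧸ Ideal.span {(X 0 * X 1 : MvPolynomial (Fin 2) k)}

noncomputable def xτ : Eτ P τ := Ideal.Quotient.mk _ (X 0)

noncomputable def yτ : Eτ P τ := Ideal.Quotient.mk _ (X 1)

theorem algebraMap_Eτ (c : P) :
    algebraMap P (Eτ P τ) c = Ideal.Quotient.mk (Ideal.span {relτ P τ}) (C c) := rfl

theorem xy_eq : xτ P τ * yτ P τ = algebraMap P (Eτ P τ) τ := by
  rw [xτ, yτ, algebraMap_Eτ, ← map_mul, ← sub_eq_zero, ← map_sub, Ideal.Quotient.eq_zero_iff_mem]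
  exact Ideal.mem_span_singleton_self _

variable {P}

theorem map_relτ {A : Type u} [CommRing A] (q : P →+* A) :
    MvPolynomial.map q (relτ P τ) = relτ A (q τ) := by
  rw [relτ, relτ, map_sub, map_mul, map_X, map_X, map_C]

theorem span_relτ_le {A : Type u} [CommRing A] (q : P →+* A) :
    Ideal.span {relτ P τ} ≤ (Ideal.span {relτ A (q τ)}).comap (MvPolynomial.map q) := by
  rw [Ideal.span_le, Set.singleton_subset_iff]
  show MvPolynomial.map q (relτ P τ) ∈ Ideal.span {relτ A (q τ)}
  rw [map_relτ]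
  exact Ideal.mem_span_singleton_self _

/-- base change `E_τ → E_{qτ}`. -/
noncomputable def mapE {A : Type u} [CommRing A] (q : P →+* A) : Eτ P τ →+* Eτ A (q τ) :=
  Ideal.quotientMap _ (MvPolynomial.map q) (span_relτ_le τ q)

theorem mapE_mk {A : Type u} [CommRing A] (q : P →+* A) (f : MvPolynomial (Fin 2) P) :
    mapE τ q (Ideal.Quotient.mk _ f) = Ideal.Quotient.mk _ (MvPolynomial.map q f) := rfl

theorem mapE_algebraMap {A : Type u} [CommRing A] (q : P →+* A) (c : P) :
    mapE τ q (algebraMap P (Eτ P τ) c) = algebraMap A (Eτ A (q τ)) (q c) := by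
  rw [algebraMap_Eτ, mapE_mk, map_C]
  rfl

theorem mapE_spec {A : Type u} [CommRing A] (q : P →+* A) (hq : Function.Surjective q) :
    Function.Surjective (mapE τ q) ∧
      RingHom.ker (mapE τ q) = (RingHom.ker q).map (algebraMap P (Eτ P τ)) := by
  have h := ker_quotientMap_of_surjective (MvPolynomial.map q) (MvPolynomial.map_surjective q hq)
    (Ideal.span {relτ P τ}) (Ideal.span {relτ A (q τ)})
    (by rw [Ideal.map_span, Set.image_singleton, map_relτ]) (span_relτ_le τ q)
  refine ⟨h.1, ?_⟩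
  show RingHom.ker (Ideal.quotientMap _ (MvPolynomial.map q) (span_relτ_le τ q)) = _
  rw [h.2, MvPolynomial.ker_map, Ideal.map_map]
  rfl

variable {k : Type u} [Field k]

theorem span_relτ_le_node (res : P →+* k) (hτ : res τ = 0) :
    Ideal.span {relτ P τ} ≤
      (Ideal.span {(X 0 * X 1 : MvPolynomial (Fin 2) k)}).comap (MvPolynomial.map res) := by
  rw [Ideal.span_le, Set.singleton_subset_iff]
  show MvPolynomial.map res (relτ P τ) ∈ Ideal.span {(X 0 * X 1 : MvPolynomial (Fin 2) k)}
  rw [map_relτ, hτ, relτ, map_zero, sub_zero]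
  exact Ideal.mem_span_singleton_self _

/-- reduction to the closed fibre `E_τ → k[x,y]/(xy)`. -/
noncomputable def αE (res : P →+* k) (hτ : res τ = 0) : Eτ P τ →+* Node k :=
  Ideal.quotientMap _ (MvPolynomial.map res) (span_relτ_le_node τ res hτ)

theorem αE_mk (res : P →+* k) (hτ : res τ = 0) (f : MvPolynomial (Fin 2) P) :
    αE τ res hτ (Ideal.Quotient.mk _ f) = Ideal.Quotient.mk _ (MvPolynomial.map res f) := rfl

theorem αE_algebraMap (res : P →+* k) (hτ : res τ = 0) (c : P) :
    αE τ res hτ (algebraMap P (Eτ P τ) c) = algebraMap k (Node k) (res c) := by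
  rw [algebraMap_Eτ, αE_mk, map_C]
  rfl

theorem αE_spec (res : P →+* k) (hres : Function.Surjective res) (hτ : res τ = 0) :
    Function.Surjective (αE τ res hτ) ∧
      RingHom.ker (αE τ res hτ) = (RingHom.ker res).map (algebraMap P (Eτ P τ)) := by
  have h := ker_quotientMap_of_surjective (MvPolynomial.map res)
    (MvPolynomial.map_surjective res hres)
    (Ideal.span {relτ P τ}) (Ideal.span {(X 0 * X 1 : MvPolynomial (Fin 2) k)})
    (by rw [Ideal.map_span, Set.image_singleton, map_relτ, hτ, relτ, map_zero, sub_zero])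
    (span_relτ_le_node τ res hτ)
  refine ⟨h.1, ?_⟩
  show RingHom.ker (Ideal.quotientMap _ (MvPolynomial.map res) (span_relτ_le_node τ res hτ)) = _
  rw [h.2, MvPolynomial.ker_map, Ideal.map_map]
  rfl

theorem αE_mapE {A : Type u} [CommRing A] (q : P →+* A) (res' : A →+* k) (res : P →+* k)
    (hres : ∀ c, res' (q c) = res c) (hτ : res τ = 0) (hτ' : res' (q τ) = 0) (e : Eτ P τ) :
    αE (q τ) res' hτ' (mapE τ q e) = αE τ res hτ e := by
  obtain ⟨f, rfl⟩ := Ideal.Quotient.mk_surjective e
  rw [mapE_mk, αE_mk, αE_mk, MvPolynomial.map_map]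
  have h : res'.comp q = res := RingHom.ext hres
  rw [h]

/-- flatness of `E_τ` over a local ring with nilpotent maximal ideal. -/
theorem flat_Eτ [IsLocalRing P] (hnil : IsNilpotent (IsLocalRing.maximalIdeal P)) (res : P →+* k)
    (hker : RingHom.ker res = IsLocalRing.maximalIdeal P) (hτ : res τ = 0) :
    Module.Flat P (Eτ P τ) := by
  letI : Field (P ⧸ IsLocalRing.maximalIdeal P) := Ideal.Quotient.field _
  haveI : Module.Flat (P ⧸ IsLocalRing.maximalIdeal P)
      ((P ⧸ IsLocalRing.maximalIdeal P) ⊗[P] (MvPolynomial (Fin 2) P ⧸ Ideal.span {relτ P τ})) :=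
    inferInstance
  refine flat_quotient_span_singleton (IsLocalRing.maximalIdeal P) (MvPolynomial (Fin 2) P) hnil
    (relτ P τ) ?_
  have hmap : (IsLocalRing.maximalIdeal P).map (algebraMap P (MvPolynomial (Fin 2) P)) =
      RingHom.ker (MvPolynomial.map (σ := Fin 2) res) := by
    rw [MvPolynomial.ker_map, hker, MvPolynomial.algebraMap_eq]
  intro b hb
  rw [hmap, RingHom.mem_ker] at hb ⊢
  rw [map_mul, map_relτ, hτ, relτ, map_zero, sub_zero] at hb
  have hne : (X 0 * X 1 : MvPolynomial (Fin 2) k) ≠ 0 :=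
    mul_ne_zero (MvPolynomial.X_ne_zero 0) (MvPolynomial.X_ne_zero 1)
  exact (mul_eq_zero.1 hb).resolve_left hne

end Etau

end Groth.Agent.Lib.NodeDefH3
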