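import Mathlib
import Groth.Agent.Lib.NodeDef2_helper3

/-!
# `E(uτ) ≃ E(τ)` and the obstruction to a homomorphism `E(τ₂) → E(τ₁)` (helper3)
-/

set_option autoImplicit false
set_option linter.unusedSectionVars false

universe u

open TensorProduct MvPolynomial

namespace Groth.Agent.Lib.NodeDefH3

section Unit

variable {P : Type u} [CommRing P] (τ : P)

/-- the `P`-algebra map `E_σ → E_τ`, `x ↦ v x, y ↦ y`, when `v τ = σ`. -/
noncomputable def scaleHom (v σ : P) (h : v * τ = σ) : Eτ P σ →ₐ[P] Eτ P τ :=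
  Ideal.Quotient.liftₐ (Ideal.span {relτ P σ})
    (MvPolynomial.aeval ![algebraMap P (Eτ P τ) v * xτ P τ, yτ P τ]) (by
      have hle : Ideal.span {relτ P σ} ≤
          RingHom.ker (MvPolynomial.aeval (R := P) ![algebraMap P (Eτ P τ) v * xτ P τ, yτ P τ]).toRingHom := by
        rw [Ideal.span_le, Set.singleton_subset_iff]
        show (MvPolynomial.aeval (R := P) ![algebraMap P (Eτ P τ) v * xτ P τ, yτ P τ]) (X 0 * X 1 - C σ) = 0
        rw [map_sub, map_mul, aeval_X, aeval_X, aeval_C]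
        simp only [Matrix.cons_val_zero, Matrix.cons_val_one]
        rw [mul_assoc, xy_eq, ← h, ← map_mul, sub_self]
      intro a ha
      exact hle ha)

theorem scaleHom_x (v σ : P) (h : v * τ = σ) :
    scaleHom τ v σ h (xτ P σ) = algebraMap P (Eτ P τ) v * xτ P τ := by
  show (MvPolynomial.aeval (R := P) ![algebraMap P (Eτ P τ) v * xτ P τ, yτ P τ]) (X 0) = _
  rw [aeval_X]
  rfl

theorem scaleHom_y (v σ : P) (h : v * τ = σ) : scaleHom τ v σ h (yτ P σ) = yτ P τ := by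
  show (MvPolynomial.aeval (R := P) ![algebraMap P (Eτ P τ) v * xτ P τ, yτ P τ]) (X 1) = _
  rw [aeval_X]
  rfl

theorem algHom_ext_Eτ {R : Type u} [CommRing R] [Algebra P R] (σ : P) {f g : Eτ P σ →ₐ[P] R}
    (hx : f (xτ P σ) = g (xτ P σ)) (hy : f (yτ P σ) = g (yτ P σ)) : f = g := by
  apply Ideal.Quotient.algHom_ext
  apply MvPolynomial.algHom_ext
  intro i
  fin_cases i
  · exact hx
  · exact hy

/-- `E(uτ) ≃ E(τ)` for a unit `u`. -/
noncomputable def unitEquiv (u : Pˣ) : Eτ P ((u : P) * τ) ≃ₐ[P] Eτ P τ :=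
  AlgEquiv.ofAlgHom (scaleHom τ (u : P) ((u : P) * τ) rfl)
    (scaleHom ((u : P) * τ) ((u⁻¹ : Pˣ) : P) τ (by rw [← mul_assoc, Units.inv_mul, one_mul]))
    (by
      apply algHom_ext_Eτ
      · rw [AlgHom.comp_apply, scaleHom_x, map_mul, AlgHom.commutes, scaleHom_x, ← mul_assoc,
          ← map_mul, Units.inv_mul, map_one, one_mul]
        rfl
      · rw [AlgHom.comp_apply, scaleHom_y, scaleHom_y]
        rfl)
    (by
      apply algHom_ext_Eτ
      · rw [AlgHom.comp_apply, scaleHom_x, map_mul, AlgHom.commutes, scaleHom_x, ← mul_assoc,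
          ← map_mul, Units.mul_inv, map_one, one_mul]
        rfl
      · rw [AlgHom.comp_apply, scaleHom_y, scaleHom_y]
        rfl)

variable {k : Type u} [Field k]

theorem αE_x (res : P →+* k) (hτ : res τ = 0) :
    αE τ res hτ (xτ P τ) = Ideal.Quotient.mk _ (X 0) := by
  rw [xτ, αE_mk, map_X]

theorem αE_y (res : P →+* k) (hτ : res τ = 0) :
    αE τ res hτ (yτ P τ) = Ideal.Quotient.mk _ (X 1) := by
  rw [yτ, αE_mk, map_X]

/-- two ring maps out of `E_σ` agreeing on `P`, `x`, `y` are equal. -/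
theorem ringHom_ext_Eτ {R : Type u} [CommRing R] (σ : P) {f g : Eτ P σ →+* R}
    (hc : ∀ c, f (algebraMap P _ c) = g (algebraMap P _ c))
    (hx : f (xτ P σ) = g (xτ P σ)) (hy : f (yτ P σ) = g (yτ P σ)) : f = g := by
  apply Ideal.Quotient.ringHom_ext
  apply MvPolynomial.ringHom_ext
  · intro c
    exact hc c
  · intro i
    fin_cases i
    · exact hx
    · exact hy

theorem αE_unitEquiv (u : Pˣ) (res : P →+* k) (hu : res u = 1) (hτ : res τ = 0)
    (hτ' : res ((u : P) * τ) = 0) (e : Eτ P ((u : P) * τ)) :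
    αE τ res hτ (unitEquiv τ u e) = αE ((u : P) * τ) res hτ' e := by
  have h : (αE τ res hτ).comp (unitEquiv τ u : Eτ P ((u : P) * τ) →+* Eτ P τ) =
      αE ((u : P) * τ) res hτ' := by
    apply ringHom_ext_Eτ
    · intro c
      show αE τ res hτ (unitEquiv τ u (algebraMap P _ c)) = _
      rw [AlgEquiv.commutes, αE_algebraMap, αE_algebraMap]
    · show αE τ res hτ (scaleHom τ (u : P) ((u : P) * τ) rfl (xτ P _)) = _
      rw [scaleHom_x, map_mul, αE_algebraMap, hu, map_one, one_mul, αE_x, αE_x]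
    · show αE τ res hτ (scaleHom τ (u : P) ((u : P) * τ) rfl (yτ P _)) = _
      rw [scaleHom_y, αE_y, αE_y]
  exact congrArg (fun φ => φ e) h

end Unit

section NonIso

variable {P : Type u} [CommRing P] {k : Type u} [Field k]

/-- A homomorphism `E(τ₂) → E(τ₁)` over `P` and over the closed fibre forces `τ₂ ∈ (τ₁) + 𝔪²`. -/
theorem mem_of_hom (τ₁ τ₂ : P) (res : P →+* k) (hres : Function.Surjective res)
    (h₁ : res τ₁ = 0) (h₂ : res τ₂ = 0)
    (Ψ : Eτ P τ₂ →+* Eτ P τ₁) (hΨc : ∀ c, Ψ (algebraMap P _ c) = algebraMap P _ c)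
    (hΨα : ∀ e, αE τ₁ res h₁ (Ψ e) = αE τ₂ res h₂ e) :
    τ₂ ∈ Ideal.span {τ₁} ⊔ RingHom.ker res * RingHom.ker res := by
  -- the augmentation `E(τ₁) → P/(τ₁)`
  let ε : Eτ P τ₁ →ₐ[P] P ⧸ Ideal.span {τ₁} :=
    Ideal.Quotient.liftₐ (Ideal.span {relτ P τ₁})
      (MvPolynomial.aeval (R := P) ![(0 : P ⧸ Ideal.span {τ₁}), 0]) (by
        have hle : Ideal.span {relτ P τ₁} ≤
            RingHom.ker (MvPolynomial.aeval (R := P) ![(0 : P ⧸ Ideal.span {τ₁}), 0]).toRingHom := by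
          rw [Ideal.span_le, Set.singleton_subset_iff]
          show (MvPolynomial.aeval (R := P) ![(0 : P ⧸ Ideal.span {τ₁}), 0]) (X 0 * X 1 - C τ₁) = 0
          rw [map_sub, map_mul, aeval_X, aeval_X, aeval_C]
          simp only [Matrix.cons_val_zero, Matrix.cons_val_one]
          rw [mul_zero, zero_sub, neg_eq_zero]
          show Ideal.Quotient.mk (Ideal.span {τ₁}) τ₁ = 0
          rw [Ideal.Quotient.eq_zero_iff_mem]
          exact Ideal.mem_span_singleton_self _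
        intro a ha
        exact hle ha)
  have hεx : ε (xτ P τ₁) = 0 := by
    show (MvPolynomial.aeval (R := P) ![(0 : P ⧸ Ideal.span {τ₁}), 0]) (X 0) = 0
    rw [aeval_X]
    rfl
  have hεy : ε (yτ P τ₁) = 0 := by
    show (MvPolynomial.aeval (R := P) ![(0 : P ⧸ Ideal.span {τ₁}), 0]) (X 1) = 0
    rw [aeval_X]
    rfl
  have hker := (αE_spec τ₁ res hres h₁).2
  let 𝔪q : Ideal (P ⧸ Ideal.span {τ₁}) := (RingHom.ker res).map (Ideal.Quotient.mk _)
  have hεmem : ∀ a : Eτ P τ₁, αE τ₁ res h₁ a = 0 → ε a ∈ 𝔪q := by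
    intro a ha
    have ha' : a ∈ (RingHom.ker res).map (algebraMap P (Eτ P τ₁)) := by
      rw [← hker]
      exact ha
    have h3 : ((RingHom.ker res).map (algebraMap P (Eτ P τ₁))).map (ε : Eτ P τ₁ →+* _) = 𝔪q := by
      rw [Ideal.map_map]
      congr 1
      apply RingHom.ext
      intro c
      exact ε.commutes c
    rw [← h3]
    exact Ideal.mem_map_of_mem _ ha'
  have ha : ε (Ψ (xτ P τ₂)) ∈ 𝔪q := by
    have h4 : ε (Ψ (xτ P τ₂)) = ε (Ψ (xτ P τ₂) - xτ P τ₁) := by rw [map_sub, hεx, sub_zero]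
    rw [h4]
    apply hεmem
    rw [map_sub, hΨα, αE_x, αE_x, sub_self]
  have hb : ε (Ψ (yτ P τ₂)) ∈ 𝔪q := by
    have h4 : ε (Ψ (yτ P τ₂)) = ε (Ψ (yτ P τ₂) - yτ P τ₁) := by rw [map_sub, hεy, sub_zero]
    rw [h4]
    apply hεmem
    rw [map_sub, hΨα, αE_y, αE_y, sub_self]
  have hprod : Ideal.Quotient.mk (Ideal.span {τ₁}) τ₂ = ε (Ψ (xτ P τ₂)) * ε (Ψ (yτ P τ₂)) := by
    rw [← map_mul, ← map_mul, xy_eq, hΨc]
    exact (ε.commutes τ₂).symm
  have h5 : Ideal.Quotient.mk (Ideal.span {τ₁}) τ₂ ∈ 𝔪q * 𝔪q := by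
    rw [hprod]
    exact Ideal.mul_mem_mul ha hb
  rw [← Ideal.map_mul] at h5
  obtain ⟨n, hn, hnτ⟩ := (Ideal.mem_map_iff_of_surjective _ Ideal.Quotient.mk_surjective).1 h5
  have h6 : τ₂ - n ∈ Ideal.span {τ₁} := by
    rw [← Ideal.Quotient.eq_zero_iff_mem, map_sub, hnτ, sub_self]
  have : τ₂ = (τ₂ - n) + n := by ring
  rw [this]
  exact Ideal.add_mem _ (Ideal.mem_sup_left h6) (Ideal.mem_sup_right hn)

end NonIso

end Groth.Agent.Lib.NodeDefH3
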