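import Mathlib
import Groth.Prelude.Def_W4c5t1liftcy3defoArt
import Groth.Agent.Lib.ArtFunFib_helper1

/-!
# The fibre product `A₂ ×_{A₁} A₂` and two elements generating different ideals (helper3)
-/

set_option autoImplicit false
set_option linter.unusedSectionVars false

universe u

open CategoryTheory Polynomial

namespace Groth.Agent.Lib.NodeDefH3

open ArtFun ArtFun.Art Groth.Agent.Lib.ArtFunH1

section Abstract

variable {k : Type u} [Field k] {A₂ A₁ : Art k k} (α : A₂ ⟶ A₁) (hα : Function.Surjective α)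

theorem fib_cond (w : fibObj α α hα) : α (fibFst α α hα w) = α (fibSnd α α hα w) := by
  have h := (isFibreProd_fib α α hα).w
  exact congrArg (fun φ : fibObj α α hα ⟶ A₁ => φ w) h

theorem not_mem_of_fib (hker : ∀ x : A₂, α x = 0 → ∀ m : A₂, A₂.res m = 0 → m * x = 0)
    (s e : A₂) (hs : A₂.res s = 0) (he0 : e ≠ 0)
    (τ₁ τ₂ : fibObj α α hα) (h11 : fibFst α α hα τ₁ = s) (h12 : fibSnd α α hα τ₁ = s)
    (h21 : fibFst α α hα τ₂ = s) (h22 : fibSnd α α hα τ₂ = s + e) :
    τ₂ ∉ Ideal.span {τ₁} ⊔ RingHom.ker ((fibObj α α hα).res : fibObj α α hα →+* k) *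
      RingHom.ker ((fibObj α α hα).res : fibObj α α hα →+* k) := by
  intro hmem
  let D : fibObj α α hα → A₂ := fun w => fibSnd α α hα w - fibFst α α hα w
  have hDadd : ∀ v w, D (v + w) = D v + D w := by
    intro v w
    show fibSnd α α hα (v + w) - fibFst α α hα (v + w) = _
    rw [map_add, map_add]
    show _ = (fibSnd α α hα v - fibFst α α hα v) + (fibSnd α α hα w - fibFst α α hα w)
    ring
  have hDα : ∀ w, α (D w) = 0 := by
    intro w
    show α (fibSnd α α hα w - fibFst α α hα w) = 0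
    rw [map_sub, fib_cond α hα w, sub_self]
  have hres1 : ∀ w, (fibObj α α hα).res w = 0 → A₂.res (fibFst α α hα w) = 0 := by
    intro w hw
    rw [Art.res_app]
    exact hw
  have hres2 : ∀ w, (fibObj α α hα).res w = 0 → A₂.res (fibSnd α α hα w) = 0 := by
    intro w hw
    rw [Art.res_app]
    exact hw
  have hDmul : ∀ m n, (fibObj α α hα).res m = 0 → (fibObj α α hα).res n = 0 → D (m * n) = 0 := by
    intro m n hm hn
    show fibSnd α α hα (m * n) - fibFst α α hα (m * n) = 0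
    rw [map_mul, map_mul]
    have e1 : fibSnd α α hα m * fibSnd α α hα n - fibFst α α hα m * fibFst α α hα n =
        fibSnd α α hα m * D n + fibFst α α hα n * D m := by
      show _ = fibSnd α α hα m * (fibSnd α α hα n - fibFst α α hα n) +
        fibFst α α hα n * (fibSnd α α hα m - fibFst α α hα m)
      ring
    rw [e1, hker (D n) (hDα n) _ (hres2 m hm), hker (D m) (hDα m) _ (hres1 n hn), add_zero]
  obtain ⟨a, ha, b, hb, hab⟩ := Submodule.mem_sup.1 hmem
  obtain ⟨c, rfl⟩ := Ideal.mem_span_singleton'.1 ha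
  have hDa : D (c * τ₁) = 0 := by
    show fibSnd α α hα (c * τ₁) - fibFst α α hα (c * τ₁) = 0
    rw [map_mul, map_mul, h11, h12, ← sub_mul, mul_comm]
    exact hker (D c) (hDα c) s hs
  have hDb : D b = 0 := by
    refine Submodule.mul_induction_on hb ?_ ?_
    · intro m hm n hn
      exact hDmul m n hm hn
    · intro x y hx hy
      rw [hDadd, hx, hy, add_zero]
  have hDτ : D τ₂ = e := by
    show fibSnd α α hα τ₂ - fibFst α α hα τ₂ = e
    rw [h21, h22]
    ring
  apply he0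
  rw [← hDτ, ← hab, hDadd, hDa, hDb, add_zero]

end Abstract

section Concrete

variable (k : Type u) [Field k]

open T1Lift

theorem α_apply_mk (p : k[X]) :
    (T1Lift.α k 1) (AdjoinRoot.mk ((X : k[X]) ^ 3) p : Tr k 2) = AdjoinRoot.mk ((X : k[X]) ^ 2) p := by
  show αAlg k 1 (AdjoinRoot.mk _ p) = _
  rw [αAlg, AdjoinRoot.liftAlgHom_mk]
  show Polynomial.eval₂ (algebraMap k (Tr k 1)) (t k 1) p = _
  rw [← Polynomial.aeval_def, AdjoinRoot.aeval_eq]

theorem α_surjective : Function.Surjective (T1Lift.α k 1) := by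
  intro y
  induction y using AdjoinRoot.induction_on with
  | ih p => exact ⟨AdjoinRoot.mk _ p, α_apply_mk k p⟩

theorem eq_t_mul_of_res (m : Tr k 2) (hm : (T1Lift.A k 2).res m = 0) :
    ∃ b : Tr k 2, m = t k 2 * b := by
  obtain ⟨b, hb⟩ := eq_algebraMap_add_t_mul k 2 m
  refine ⟨b, ?_⟩
  have hm' : resA k 2 m = 0 := hm
  rw [hb, hm', map_zero, zero_add]

theorem α_ker (x : Tr k 2) (hx : (T1Lift.α k 1) x = 0) (m : Tr k 2)
    (hm : (T1Lift.A k 2).res m = 0) : m * x = 0 := by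
  obtain ⟨b, rfl⟩ := eq_t_mul_of_res k m hm
  induction x using AdjoinRoot.induction_on with
  | ih p =>
    rw [α_apply_mk] at hx
    have hx' : (AdjoinRoot.mk ((X : k[X]) ^ 2) p : AdjoinRoot ((X : k[X]) ^ 2)) = 0 := hx
    rw [AdjoinRoot.mk_eq_zero] at hx'
    obtain ⟨q, rfl⟩ := hx'
    have h1 : (AdjoinRoot.mk ((X : k[X]) ^ 3) (X ^ 2 * q) : Tr k 2) =
        t k 2 ^ 2 * AdjoinRoot.mk _ q := by
      rw [map_mul, map_pow, AdjoinRoot.mk_X]
    rw [h1]
    have h3 : t k 2 ^ 3 = 0 := t_pow k 2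
    calc t k 2 * b * (t k 2 ^ 2 * AdjoinRoot.mk _ q)
        = t k 2 ^ 3 * (b * AdjoinRoot.mk _ q) := by ring
      _ = 0 := by rw [h3, zero_mul]

theorem t_sq_ne_zero : t k 2 * t k 2 ≠ 0 := by
  intro h
  have h1 : (AdjoinRoot.mk ((X : k[X]) ^ 3) (X ^ 2) : Tr k 2) = 0 := by
    rw [map_pow, AdjoinRoot.mk_X, pow_two]
    exact h
  rw [AdjoinRoot.mk_eq_zero] at h1
  have h2 := Polynomial.degree_le_of_dvd h1 (pow_ne_zero 2 Polynomial.X_ne_zero)
  rw [Polynomial.degree_X_pow, Polynomial.degree_X_pow] at h2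
  norm_num at h2

theorem α_t_sq : (T1Lift.α k 1) (t k 2 * t k 2) = 0 := by
  show αAlg k 1 (t k 2 * t k 2) = 0
  rw [map_mul, αAlg_t, ← pow_two]
  exact t_pow k 1

theorem res_t : (T1Lift.A k 2).res (t k 2) = 0 := resA_t k 2

theorem isUnit_one_add_t : IsUnit (1 + t k 2) := by
  have hnil : IsNilpotent (t k 2) := ⟨3, t_pow k 2⟩
  exact hnil.isUnit_one_add

end Concrete

end Groth.Agent.Lib.NodeDefH3
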