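import Mathlib
import Groth.Prelude.Def_ArtFun4
import Groth.Agent.Lib.NodeDef3_helper3
import Groth.Agent.Lib.NodeDef4_helper3
import Groth.Agent.Lib.DefRing1_helper3
import Groth.Agent.Lib.ArtFunHull_helper1

/-!
# The deformation functor of the node is not prorepresentable (helper3)
-/

set_option autoImplicit false
set_option linter.unusedSectionVars false

universe u

open CategoryTheory CategoryTheory.Limits AlgebraicGeometry MvPolynomial

namespace Groth.Agent.Lib.NodeDefH3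

open Groth.Agent.Lib.DefTrivArtH3 Groth.Agent.Lib.DefDualH3 Groth.Agent.Lib.DefRingH3
open ArtFun ArtFun.Art Groth.Agent.Lib.ArtFunH1

variable {k : Type u} [Field k]

/-- the deformation `xy = τ` of the node over `P`. -/
@[reducible] noncomputable def Bdef (P : Art k k) (τ : P) (hτ : (P.res : P →+* k) τ = 0) :
    DefSch (Spec (CommRingCat.of (Node k))) (Spec.map (CommRingCat.ofHom (algebraMap k (Node k)))) P :=
  ofRing P (Eτ P τ) (algebraMap P (Eτ P τ)) (αE τ (P.res : P →+* k) hτ)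
    (RingHom.flat_algebraMap_iff.2 (flat_Eτ τ isNilpotent_maximalIdeal (P.res : P →+* k)
      (ker_e P.res) hτ))
    (αE_spec τ (P.res : P →+* k) P.res_surjective hτ).1
    (by rw [(αE_spec τ (P.res : P →+* k) P.res_surjective hτ).2, ker_e P.res])
    (fun a => αE_algebraMap τ (P.res : P →+* k) hτ a)

theorem baseChange_Bdef {P A : Art k k} (q : P ⟶ A) (hq : Function.Surjective q) (τ : P)
    (hτ : (P.res : P →+* k) τ = 0) (σ : A) (hσ : q.toAlgHom.toRingHom τ = σ)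
    (hσ0 : (A.res : A →+* k) σ = 0) :
    ((Bdef P τ hτ).baseChange q).cl = (Bdef A σ hσ0).cl := by
  subst hσ
  apply Quotient.sound
  have hsp := mapE_spec τ q.toAlgHom.toRingHom hq
  exact baseChange_ofRing q (Eτ P τ) (algebraMap P (Eτ P τ)) (αE τ (P.res : P →+* k) hτ) _ _ _ _
    (Eτ A (q.toAlgHom.toRingHom τ)) (algebraMap A _) (αE _ (A.res : A →+* k) hσ0) _ _ _ _ hq
    (mapE τ q.toAlgHom.toRingHom) (fun a => mapE_algebraMap τ q.toAlgHom.toRingHom a)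
    hsp.1 hsp.2
    (fun y => αE_mapE τ q.toAlgHom.toRingHom (A.res : A →+* k) (P.res : P →+* k)
      (fun c => Art.res_app q c) hτ hσ0 y)

theorem cl_Bdef_unit {A : Art k k} (u : Aˣ) (hu : (A.res : A →+* k) u = 1) (τ : A)
    (hτ : (A.res : A →+* k) τ = 0) (σ : A) (hσ : σ = (u : A) * τ)
    (hσ0 : (A.res : A →+* k) σ = 0) :
    (Bdef A σ hσ0).cl = (Bdef A τ hτ).cl := by
  subst hσ
  apply Quotient.sound
  refine iso_ofRing_of_ringEquiv (Bdef A ((u : A) * τ) hσ0) (Eτ A τ) (algebraMap A (Eτ A τ))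
    (αE τ (A.res : A →+* k) hτ) _ _ _ _
    ((unitEquiv τ u).symm.toRingEquiv.trans (theta (Eτ A ((u : A) * τ)))) ?_ ?_
  · intro a
    rw [gammaC_ofRing]
    show theta _ ((unitEquiv τ u).symm (algebraMap A (Eτ A τ) a)) = _
    rw [AlgEquiv.commutes]
  · intro y
    show (Bdef A ((u : A) * τ) hσ0).i.appTop.hom (theta _ ((unitEquiv τ u).symm y)) = _
    rw [appTop_ofRing]
    congr 1
    have h := αE_unitEquiv τ u (A.res : A →+* k) hu hτ hσ0 ((unitEquiv τ u).symm y)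
    rw [AlgEquiv.apply_symm_apply] at h
    exact h.symm

/-- An isomorphism of deformations `xy = τ₁`, `xy = τ₂` over `P` forces `τ₂ ∈ (τ₁) + 𝔪²`. -/
theorem mem_of_cl_eq {P : Art k k} (τ₁ τ₂ : P) (h₁ : (P.res : P →+* k) τ₁ = 0)
    (h₂ : (P.res : P →+* k) τ₂ = 0) (h : (Bdef P τ₁ h₁).cl = (Bdef P τ₂ h₂).cl) :
    τ₂ ∈ Ideal.span {τ₁} ⊔ RingHom.ker (P.res : P →+* k) * RingHom.ker (P.res : P →+* k) := by
  obtain ⟨ψ⟩ := Quotient.exact h
  obtain ⟨Ψ, hΨγ, hΨα⟩ := ringEquiv_of_iso (Bdef P τ₁ h₁) (Bdef P τ₂ h₂) ψ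
  let Ψ' : Eτ P τ₂ →+* Eτ P τ₁ :=
    ((theta (Eτ P τ₁)).symm.toRingHom).comp
      (Ψ.toRingHom.comp (theta (Eτ P τ₂)).toRingHom)
  have hΨ' : ∀ e, theta (Eτ P τ₁) (Ψ' e) = Ψ (theta (Eτ P τ₂) e) := fun e =>
    (theta (Eτ P τ₁)).apply_symm_apply _
  refine mem_of_hom τ₁ τ₂ (P.res : P →+* k) P.res_surjective h₁ h₂ Ψ' ?_ ?_
  · intro c
    apply (theta (Eτ P τ₁)).injective
    rw [hΨ']
    have e1 : (gammaC (Bdef P τ₂ h₂).f).hom c = theta (Eτ P τ₂) (algebraMap P (Eτ P τ₂) c) :=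
      gammaC_ofRing (A := P) (Eτ P τ₂) (algebraMap P (Eτ P τ₂))
        (αE τ₂ (P.res : P →+* k) h₂) _ _ _ _ c
    have e2 : (gammaC (Bdef P τ₁ h₁).f).hom c = theta (Eτ P τ₁) (algebraMap P (Eτ P τ₁) c) :=
      gammaC_ofRing (A := P) (Eτ P τ₁) (algebraMap P (Eτ P τ₁))
        (αE τ₁ (P.res : P →+* k) h₁) _ _ _ _ c
    rw [← e1, ← e2]
    exact hΨγ c
  · intro y
    apply (theta (Node k)).injective
    have e1 : (Bdef P τ₁ h₁).i.appTop.hom (theta (Eτ P τ₁) (Ψ' y))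
        = theta (Node k) (αE τ₁ (P.res : P →+* k) h₁ (Ψ' y)) :=
      appTop_ofRing (A := P) (Eτ P τ₁) (algebraMap P (Eτ P τ₁))
        (αE τ₁ (P.res : P →+* k) h₁) _ _ _ _ (Ψ' y)
    have e2 : (Bdef P τ₂ h₂).i.appTop.hom (theta (Eτ P τ₂) y)
        = theta (Node k) (αE τ₂ (P.res : P →+* k) h₂ y) :=
      appTop_ofRing (A := P) (Eτ P τ₂) (algebraMap P (Eτ P τ₂))
        (αE τ₂ (P.res : P →+* k) h₂) _ _ _ _ y
    rw [← e1, ← e2, hΨ']
    exact hΨα _

end Groth.Agent.Lib.NodeDefH3
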