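import Mathlib
import Groth.Prelude.Def_ArtFun4
import Groth.Agent.Lib.NodeDef5_helper3

/-!
# The deformation functor of the node is not prorepresentable: main theorem (helper3)
-/

set_option autoImplicit false
set_option linter.unusedSectionVars false

universe u

open CategoryTheory CategoryTheory.Limits AlgebraicGeometry MvPolynomial

namespace Groth.Agent.Lib.NodeDefH3

open Groth.Agent.Lib.DefTrivArtH3 Groth.Agent.Lib.DefDualH3 Groth.Agent.Lib.DefRingH3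
open ArtFun ArtFun.Art Groth.Agent.Lib.ArtFunH1 T1Lift

variable {k : Type u} [Field k]

theorem main12256 : ¬ ArtFun.IsProrepresentable (ArtFun.defFunctor (Λ := k)
      (Spec (CommRingCat.of (Node k)))
      (Spec.map (CommRingCat.ofHom (algebraMap k (Node k))))) := by
  rintro ⟨⟨R, ξ, hu⟩⟩
  have hle := Groth.Agent.Lib.SchlH1.isLeftExact_of_isUniversal ξ hu
  have hα := α_surjective k
  have hfp := isFibreProd_fib (T1Lift.α k 1) (T1Lift.α k 1) hα
  obtain ⟨τ₁, h11, h12⟩ := hfp.surj (t k 2) (t k 2) rfl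
  obtain ⟨τ₂, h21, h22⟩ := hfp.surj (t k 2) (t k 2 + t k 2 * t k 2)
    (by
      show αAlg k 1 (t k 2) = αAlg k 1 (t k 2 + t k 2 * t k 2)
      rw [map_add, map_mul, αAlg_t, ← pow_two]
      have h : t k 1 ^ 2 = 0 := t_pow k 1
      rw [h, add_zero])
  have hinj := (hle _ _ _ _ hfp).1
  have hs1 : Function.Surjective (fibFst (T1Lift.α k 1) (T1Lift.α k 1) hα) := by
    intro a
    obtain ⟨b, hb, -⟩ := hfp.surj a a rfl
    exact ⟨b, hb⟩
  have hs2 : Function.Surjective (fibSnd (T1Lift.α k 1) (T1Lift.α k 1) hα) := by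
    intro a
    obtain ⟨b, -, hb⟩ := hfp.surj a a rfl
    exact ⟨b, hb⟩
  have hr1 : ((fibObj (T1Lift.α k 1) (T1Lift.α k 1) hα).res :
      fibObj (T1Lift.α k 1) (T1Lift.α k 1) hα →+* k) τ₁ = 0 := by
    have h := Art.res_app (fibFst (T1Lift.α k 1) (T1Lift.α k 1) hα) τ₁
    rw [h11] at h
    rw [← res_t k]
    exact h.symm
  have hr2 : ((fibObj (T1Lift.α k 1) (T1Lift.α k 1) hα).res :
      fibObj (T1Lift.α k 1) (T1Lift.α k 1) hα →+* k) τ₂ = 0 := by
    have h := Art.res_app (fibFst (T1Lift.α k 1) (T1Lift.α k 1) hα) τ₂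
    rw [h21] at h
    rw [← res_t k]
    exact h.symm
  have hrt : ((T1Lift.A k 2).res : (T1Lift.A k 2) →+* k) (t k 2) = 0 := res_t k
  have hrt2 : ((T1Lift.A k 2).res : (T1Lift.A k 2) →+* k) (t k 2 + t k 2 * t k 2) = 0 := by
    show resA k 2 (t k 2 + t k 2 * t k 2) = 0
    rw [map_add, map_mul, resA_t, mul_zero, add_zero]
  have hcl : (Bdef _ τ₁ hr1).cl = (Bdef _ τ₂ hr2).cl := by
    apply hinj
    apply FibProd.ext
    · show (defFunctor _ _).map (fibFst (T1Lift.α k 1) (T1Lift.α k 1) hα) (Bdef _ τ₁ hr1).cl =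
        (defFunctor _ _).map (fibFst (T1Lift.α k 1) (T1Lift.α k 1) hα) (Bdef _ τ₂ hr2).cl
      rw [defFunctor_map_cl, defFunctor_map_cl,
        baseChange_Bdef (fibFst (T1Lift.α k 1) (T1Lift.α k 1) hα) hs1 τ₁ hr1 (t k 2) h11 hrt,
        baseChange_Bdef (fibFst (T1Lift.α k 1) (T1Lift.α k 1) hα) hs1 τ₂ hr2 (t k 2) h21 hrt]
    · show (defFunctor _ _).map (fibSnd (T1Lift.α k 1) (T1Lift.α k 1) hα) (Bdef _ τ₁ hr1).cl =
        (defFunctor _ _).map (fibSnd (T1Lift.α k 1) (T1Lift.α k 1) hα) (Bdef _ τ₂ hr2).cl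
      rw [defFunctor_map_cl, defFunctor_map_cl,
        baseChange_Bdef (fibSnd (T1Lift.α k 1) (T1Lift.α k 1) hα) hs2 τ₁ hr1 (t k 2) h12 hrt,
        baseChange_Bdef (fibSnd (T1Lift.α k 1) (T1Lift.α k 1) hα) hs2 τ₂ hr2
          (t k 2 + t k 2 * t k 2) h22 hrt2]
      obtain ⟨u, hu⟩ := isUnit_one_add_t k
      have hures : ((T1Lift.A k 2).res : (T1Lift.A k 2) →+* k) (u : Tr k 2) = 1 := by
        rw [hu]
        show resA k 2 (1 + t k 2) = 1
        rw [map_add, map_one, resA_t, add_zero]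
      have hmul : (t k 2 + t k 2 * t k 2 : Tr k 2) = (1 + t k 2) * t k 2 := by ring
      exact (cl_Bdef_unit (A := T1Lift.A k 2) u hures (t k 2) hrt (t k 2 + t k 2 * t k 2)
        (by rw [hu]; exact hmul) hrt2).symm
  exact not_mem_of_fib (T1Lift.α k 1) hα (α_ker k) (t k 2) (t k 2 * t k 2) (res_t k)
    (t_sq_ne_zero k) τ₁ τ₂ h11 h12 h21 h22 (mem_of_cl_eq τ₁ τ₂ hr1 hr2 hcl)

end Groth.Agent.Lib.NodeDefH3
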