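import Mathlib
import Groth.Prelude
import Groth.Agent.Lib.DeltaInvFlat_helper3
import Groth.Agent.Lib.DeltaCok1_helper3

/-!
# A normal, integral, birational extension of a ring is its integral closure (helper9)

For an injective integral ring map `A → B` with `B` a normal ring and a common nonzerodivisor
`s` with `s B ⊆ A`, the ring `B` is the integral closure of `A` in its total ring of fractions,
and `length_A (B / A) = δ(A)`.
APPEND-ONLY once landed.
-/

set_option autoImplicit false
universe u

namespace NormDelta

open scoped nonZeroDivisors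
open Polynomial

section Core

variable {A B : Type u} [CommRing A] [CommRing B] [Algebra A B]
  (hinj : Function.Injective (algebraMap A B)) (s : A) (hs : s ∈ A⁰)
  (hsB : algebraMap A B s ∈ B⁰)
  (hcond : ∀ b : B, ∃ a : A, algebraMap A B a = algebraMap A B s * b)

/-- the numerator of `b` over the common denominator `s` -/
noncomputable def cnd (b : B) : A := (hcond b).choose

theorem cnd_spec (b : B) : algebraMap A B (cnd s hcond b) = algebraMap A B s * b :=
  (hcond b).choose_spec

include hinj in
theorem cnd_unique {b : B} {a : A} (h : algebraMap A B a = algebraMap A B s * b) :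
    a = cnd s hcond b :=
  hinj (h.trans (cnd_spec s hcond b).symm)

/-- the embedding of `B` into the total ring of fractions of `A` -/
noncomputable def toFrac : B →+* FractionRing A where
  toFun b := IsLocalization.mk' (FractionRing A) (cnd s hcond b) (⟨s, hs⟩ : A⁰)
  map_one' := by
    have h1 : s = cnd s hcond (1 : B) := cnd_unique hinj s hcond (by rw [mul_one])
    rw [← h1]
    exact IsLocalization.mk'_self (FractionRing A) hs
  map_mul' b b' := by
    rw [← IsLocalization.mk'_mul, IsLocalization.mk'_eq_iff_eq]
    congr 1
    apply hinj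
    simp only [Submonoid.coe_mul, map_mul, cnd_spec]
    ring
  map_zero' := by
    have h1 : (0 : A) = cnd s hcond (0 : B) := cnd_unique hinj s hcond (by rw [map_zero, mul_zero])
    rw [← h1]
    exact IsLocalization.mk'_zero _
  map_add' b b' := by
    have h1 : cnd s hcond b + cnd s hcond b' = cnd s hcond (b + b') := by
      apply cnd_unique hinj s hcond
      rw [map_add, cnd_spec, cnd_spec, mul_add]
    rw [← h1, IsLocalization.mk'_eq_iff_eq_mul, add_mul, IsLocalization.mk'_spec,
      IsLocalization.mk'_spec, map_add]

theorem toFrac_apply (b : B) : toFrac hinj s hs hcond b =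
    IsLocalization.mk' (FractionRing A) (cnd s hcond b) (⟨s, hs⟩ : A⁰) := rfl

theorem toFrac_algebraMap (a : A) :
    toFrac hinj s hs hcond (algebraMap A B a) = algebraMap A (FractionRing A) a := by
  rw [toFrac_apply]
  have h1 : s * a = cnd s hcond (algebraMap A B a) := cnd_unique hinj s hcond (by rw [map_mul])
  rw [← h1]
  exact IsLocalization.mk'_mul_cancel_left a (⟨s, hs⟩ : A⁰)

include hsB in
theorem toFrac_injective : Function.Injective (toFrac hinj s hs hcond) := by
  rw [injective_iff_map_eq_zero]
  intro b hb
  rw [toFrac_apply, IsLocalization.mk'_eq_zero_iff] at hb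
  obtain ⟨m, hm⟩ := hb
  have h1 : cnd s hcond b = 0 := (mem_nonZeroDivisors_iff.mp m.2).1 _ hm
  have h2 := cnd_spec s hcond b
  rw [h1, map_zero] at h2
  exact (mem_nonZeroDivisors_iff.mp hsB).1 b h2.symm

include hinj hs hsB hcond in
/-- `B` is isomorphic to the integral closure of `A` in its total ring of fractions -/
theorem nonempty_algEquiv_integralClosure [Algebra.IsIntegral A B] (hnorm : EGA4.IsNormalRing B) :
    Nonempty (B ≃ₐ[A] integralClosure A (FractionRing A)) := by
  letI algBK : Algebra B (FractionRing A) := (toFrac hinj s hs hcond).toAlgebra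
  haveI : IsScalarTower A B (FractionRing A) :=
    IsScalarTower.of_algebraMap_eq (fun a => (toFrac_algebraMap hinj s hs hcond a).symm)
  have hφinj : Function.Injective (toFrac hinj s hs hcond) := toFrac_injective hinj s hs hsB hcond
  haveI : IsIntegralClosure B A (FractionRing A) := by
    refine ⟨hφinj, fun {x} => ⟨fun hx => ?_, ?_⟩⟩
    · have hx' : (toFrac hinj s hs hcond).IsIntegralElem x := by
        obtain ⟨p, hp, hpx⟩ := hx
        refine ⟨p.map (algebraMap A B), hp.map _, ?_⟩
        rw [eval₂_map]
        have h1 : (toFrac hinj s hs hcond).comp (algebraMap A B) = algebraMap A (FractionRing A) :=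
          RingHom.ext (fun a => toFrac_algebraMap hinj s hs hcond a)
        rw [h1]
        exact hpx
      have hfrac : ∀ y : FractionRing A, ∃ t s' : B, IsUnit (toFrac hinj s hs hcond s') ∧
          y * toFrac hinj s hs hcond s' = toFrac hinj s hs hcond t := by
        intro y
        obtain ⟨⟨a, t₀⟩, hat⟩ := IsLocalization.surj A⁰ y
        refine ⟨algebraMap A B a, algebraMap A B t₀.1, ?_, ?_⟩
        · rw [toFrac_algebraMap]
          exact IsLocalization.map_units (FractionRing A) t₀
        · rw [toFrac_algebraMap, toFrac_algebraMap]
          exact hat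
      obtain ⟨y, hy⟩ := Groth.Agent.Lib.DeltaInvH3.mem_range_of_isIntegral_of_isNormalRing hnorm
        (toFrac hinj s hs hcond) hφinj hfrac x hx'
      exact ⟨y, hy⟩
    · rintro ⟨y, rfl⟩
      exact (Algebra.IsIntegral.isIntegral (R := A) y).algebraMap
  exact ⟨IsIntegralClosure.equiv A B (FractionRing A) (integralClosure A (FractionRing A))⟩

include hinj hs hsB hcond in
/-- **the length of `B / A` is the δ-invariant of `A`** -/
theorem length_quot_eq_deltaInv [Algebra.IsIntegral A B] (hnorm : EGA4.IsNormalRing B) :
    Module.length A (B ⧸ LinearMap.range (Algebra.linearMap A B)) = Curv2.deltaInv A := by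
  obtain ⟨θ⟩ := nonempty_algEquiv_integralClosure hinj s hs hsB hcond hnorm
  unfold Curv2.deltaInv
  refine LinearEquiv.length_eq (Submodule.Quotient.equiv _ _ θ.toLinearEquiv ?_)
  rw [Groth.Agent.Lib.DeltaSepH3.range_linearMap_eq_span_one,
    Groth.Agent.Lib.DeltaSepH3.range_linearMap_eq_span_one, Submodule.map_span,
    Set.image_singleton]
  congr 2
  exact map_one θ

end Core

end NormDelta
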