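import Mathlib
import Groth.Prelude
import Groth.Agent.Lib.NormDelta1_helper9

/-!
# The δ-invariant of a localization as the length of a localized cokernel (helper9)
APPEND-ONLY once landed.
-/

set_option autoImplicit false
universe u

namespace NormDelta

open scoped nonZeroDivisors

section Normal

/-- a localization of a normal ring is a normal ring -/
theorem isNormalRing_of_isLocalization {R' : Type u} [CommRing R'] (hR' : EGA4.IsNormalRing R')
    (T : Submonoid R') (B : Type u) [CommRing B] [Algebra R' B] [IsLocalization T B] :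
    EGA4.IsNormalRing B := by
  intro P hP
  haveI : (P.comap (algebraMap R' B)).IsPrime := Ideal.comap_isPrime _ _
  haveI := IsLocalization.isLocalization_isLocalization_atPrime_isLocalization T
    (Localization.AtPrime P) P
  let e : Localization.AtPrime (P.comap (algebraMap R' B)) ≃ₐ[R'] Localization.AtPrime P :=
    IsLocalization.algEquiv (P.comap (algebraMap R' B)).primeCompl _ _
  obtain ⟨hd, hic⟩ := hR' (P.comap (algebraMap R' B))
  haveI := hd
  haveI := hic
  exact ⟨MulEquiv.isDomain _ e.symm.toRingEquiv.toMulEquiv,
    IsIntegrallyClosed.of_equiv e.toRingEquiv⟩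

end Normal

section Transfer

variable {R R' : Type u} [CommRing R] [CommRing R'] [Algebra R R'] (p : Ideal R) [p.IsPrime]
  {A : Type u} [CommRing A] [Algebra R A] [IsLocalization.AtPrime A p]
  (hinj : Function.Injective (algebraMap R R')) [Algebra.IsIntegral R R']
  (hnorm : EGA4.IsNormalRing R') (s : R) (hs : s ∈ R⁰) (hsR' : algebraMap R R' s ∈ R'⁰)
  (hcond : ∀ r' : R', ∃ r : R, algebraMap R R' r = algebraMap R R' s * r')

include hinj hnorm hs hsR' hcond in
/-- the localized version of `length_quot_eq_deltaInv` -/
theorem length_loc_quot :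
    letI : Algebra A (Localization (Algebra.algebraMapSubmonoid R' p.primeCompl)) :=
      localizationAlgebra p.primeCompl R'
    Module.length A (Localization (Algebra.algebraMapSubmonoid R' p.primeCompl) ⧸
      LinearMap.range (Algebra.linearMap A
        (Localization (Algebra.algebraMapSubmonoid R' p.primeCompl)))) = Curv2.deltaInv A := by
  letI algAB : Algebra A (Localization (Algebra.algebraMapSubmonoid R' p.primeCompl)) :=
    localizationAlgebra p.primeCompl R'
  haveI tow : IsScalarTower R A (Localization (Algebra.algebraMapSubmonoid R' p.primeCompl)) :=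
    isScalarTower_localizationAlgebra p.primeCompl R'
  have hinj' : Function.Injective
      (algebraMap A (Localization (Algebra.algebraMapSubmonoid R' p.primeCompl))) :=
    localizationAlgebra_injective A _ hinj
  haveI : Algebra.IsIntegral A (Localization (Algebra.algebraMapSubmonoid R' p.primeCompl)) :=
    ⟨isIntegral_localization (M := p.primeCompl) (Rₘ := A)
      (Sₘ := Localization (Algebra.algebraMapSubmonoid R' p.primeCompl))⟩
  have hnorm' : EGA4.IsNormalRing (Localization (Algebra.algebraMapSubmonoid R' p.primeCompl)) :=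
    isNormalRing_of_isLocalization hnorm (Algebra.algebraMapSubmonoid R' p.primeCompl) _
  have hsA : algebraMap R A s ∈ A⁰ :=
    IsLocalization.map_nonZeroDivisors_le p.primeCompl A ⟨s, hs, rfl⟩
  have hsB : algebraMap A (Localization (Algebra.algebraMapSubmonoid R' p.primeCompl))
      (algebraMap R A s) ∈ (Localization (Algebra.algebraMapSubmonoid R' p.primeCompl))⁰ := by
    rw [← IsScalarTower.algebraMap_apply R A,
      IsScalarTower.algebraMap_apply R R' (Localization (Algebra.algebraMapSubmonoid R' p.primeCompl))]
    exact IsLocalization.map_nonZeroDivisors_le (Algebra.algebraMapSubmonoid R' p.primeCompl) _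
      ⟨_, hsR', rfl⟩
  refine length_quot_eq_deltaInv hinj' (algebraMap R A s) hsA hsB ?_ hnorm'
  intro b
  obtain ⟨r', ⟨t', ht'⟩, rfl⟩ := IsLocalization.exists_mk'_eq
    (Algebra.algebraMapSubmonoid R' p.primeCompl) b
  obtain ⟨t, ht, rfl⟩ := ht'
  obtain ⟨r, hr⟩ := hcond r'
  refine ⟨IsLocalization.mk' A r (⟨t, ht⟩ : p.primeCompl), ?_⟩
  rw [IsLocalization.algebraMap_mk' R' A
    (Localization (Algebra.algebraMapSubmonoid R' p.primeCompl)) r ⟨t, ht⟩, hr,
    ← IsScalarTower.algebraMap_apply R A,
    IsScalarTower.algebraMap_apply R R' (Localization (Algebra.algebraMapSubmonoid R' p.primeCompl)),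
    IsLocalization.mul_mk'_eq_mk'_of_mul]

include hinj hnorm hs hsR' hcond in
/-- **the δ-invariant as the length of a localized cokernel** -/
theorem length_quot_eq_deltaInv_of_localized {F : Type u} [AddCommGroup F] [Module A F]
    [Module R F] [IsScalarTower R A F] (g : R' →ₗ[R] F) [IsLocalizedModule p.primeCompl g]
    {M : Type u} [AddCommGroup M] [Module A M] (u : M →ₗ[A] F)
    (hu : LinearMap.range u = Submodule.span A {g 1}) :
    Module.length A (F ⧸ LinearMap.range u) = Curv2.deltaInv A := by
  letI algAB : Algebra A (Localization (Algebra.algebraMapSubmonoid R' p.primeCompl)) :=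
    localizationAlgebra p.primeCompl R'
  haveI tow : IsScalarTower R A (Localization (Algebra.algebraMapSubmonoid R' p.primeCompl)) :=
    isScalarTower_localizationAlgebra p.primeCompl R'
  rw [← length_loc_quot p (A := A) hinj hnorm s hs hsR' hcond]
  haveI : IsLocalizedModule p.primeCompl
      (IsScalarTower.toAlgHom R R'
        (Localization (Algebra.algebraMapSubmonoid R' p.primeCompl))).toLinearMap :=
    isLocalizedModule_iff_isLocalization.mpr inferInstance
  obtain ⟨θ₀, hθ₀⟩ : ∃ θ₀ : F ≃ₗ[R] Localization (Algebra.algebraMapSubmonoid R' p.primeCompl),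
      ∀ r', θ₀ (g r') = algebraMap R' _ r' :=
    ⟨IsLocalizedModule.linearEquiv p.primeCompl g (IsScalarTower.toAlgHom R R'
        (Localization (Algebra.algebraMapSubmonoid R' p.primeCompl))).toLinearMap,
      fun r' => IsLocalizedModule.linearEquiv_apply p.primeCompl g _ r'⟩
  obtain ⟨θ, hθ⟩ : ∃ θ : F ≃ₗ[A] Localization (Algebra.algebraMapSubmonoid R' p.primeCompl),
      ∀ y, θ y = θ₀ y :=
    ⟨LinearEquiv.extendScalarsOfIsLocalization p.primeCompl A θ₀, fun y => rfl⟩
  have h1 : θ (g 1) = 1 := by rw [hθ, hθ₀, map_one]
  refine LinearEquiv.length_eq (Submodule.Quotient.equiv _ _ θ ?_)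
  rw [hu, Groth.Agent.Lib.DeltaSepH3.range_linearMap_eq_span_one, Submodule.map_span,
    Set.image_singleton]
  congr 2

end Transfer

end NormDelta
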