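import Mathlib
import Groth.Prelude
import Groth.Agent.Lib.NormDelta2_helper9
import Groth.Agent.Lib.NormalSmoothBC_helper3

/-!
# The δ-invariant of the node `K[[x, y]]/(xy)` is one (helper9)
APPEND-ONLY once landed.
-/

set_option autoImplicit false
universe u

namespace NodeDelta

open scoped nonZeroDivisors

section Prod

variable {R S : Type u} [CommRing R] [CommRing S]

/-- localizing a product at a prime coming from the first factor -/
theorem isNormal_loc_prod_fst (p : Ideal R) [p.IsPrime]
    (hd : IsDomain (Localization.AtPrime p)) (hic : IsIntegrallyClosed (Localization.AtPrime p))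
    (I : Ideal (R × S)) [I.IsPrime] (hI : I = Ideal.prod p ⊤) :
    IsDomain (Localization.AtPrime I) ∧ IsIntegrallyClosed (Localization.AtPrime I) := by
  letI alg : Algebra (R × S) (Localization.AtPrime p) :=
    ((algebraMap R (Localization.AtPrime p)).comp (RingHom.fst R S)).toAlgebra
  have hmem : ∀ z : R × S, z ∈ I ↔ z.1 ∈ p := by
    intro z
    rw [hI, Ideal.mem_prod]
    simp
  haveI : IsLocalization.AtPrime (Localization.AtPrime p) I := by
    refine ⟨?_, ?_, ?_⟩
    · rintro ⟨z, hz⟩
      have hz1 : z.1 ∈ p.primeCompl := fun h => hz ((hmem z).mpr h)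
      exact IsLocalization.map_units (Localization.AtPrime p) (⟨z.1, hz1⟩ : p.primeCompl)
    · intro y
      obtain ⟨⟨a, t⟩, hat⟩ := IsLocalization.surj p.primeCompl y
      refine ⟨⟨(a, 0), ⟨(t.1, 1), fun h => t.2 ((hmem _).mp h)⟩⟩, ?_⟩
      exact hat
    · intro z w hzw
      have hzw' : algebraMap R (Localization.AtPrime p) z.1 =
          algebraMap R (Localization.AtPrime p) w.1 := hzw
      obtain ⟨c, hc⟩ := (IsLocalization.eq_iff_exists p.primeCompl _).mp hzw'
      refine ⟨⟨(c.1, 0), fun h => c.2 ((hmem _).mp h)⟩, ?_⟩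
      ext
      · exact hc
      · simp
  let e : Localization.AtPrime I ≃ₐ[R × S] Localization.AtPrime p :=
    IsLocalization.algEquiv I.primeCompl _ _
  haveI := hd
  haveI := hic
  exact ⟨MulEquiv.isDomain _ e.toRingEquiv.toMulEquiv,
    IsIntegrallyClosed.of_equiv e.symm.toRingEquiv⟩

/-- localizing a product at a prime coming from the second factor -/
theorem isNormal_loc_prod_snd (q : Ideal S) [q.IsPrime]
    (hd : IsDomain (Localization.AtPrime q)) (hic : IsIntegrallyClosed (Localization.AtPrime q))
    (I : Ideal (R × S)) [I.IsPrime] (hI : I = Ideal.prod ⊤ q) :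
    IsDomain (Localization.AtPrime I) ∧ IsIntegrallyClosed (Localization.AtPrime I) := by
  letI alg : Algebra (R × S) (Localization.AtPrime q) :=
    ((algebraMap S (Localization.AtPrime q)).comp (RingHom.snd R S)).toAlgebra
  have hmem : ∀ z : R × S, z ∈ I ↔ z.2 ∈ q := by
    intro z
    rw [hI, Ideal.mem_prod]
    simp
  haveI : IsLocalization.AtPrime (Localization.AtPrime q) I := by
    refine ⟨?_, ?_, ?_⟩
    · rintro ⟨z, hz⟩
      have hz1 : z.2 ∈ q.primeCompl := fun h => hz ((hmem z).mpr h)
      exact IsLocalization.map_units (Localization.AtPrime q) (⟨z.2, hz1⟩ : q.primeCompl)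
    · intro y
      obtain ⟨⟨a, t⟩, hat⟩ := IsLocalization.surj q.primeCompl y
      refine ⟨⟨(0, a), ⟨(1, t.1), fun h => t.2 ((hmem _).mp h)⟩⟩, ?_⟩
      exact hat
    · intro z w hzw
      have hzw' : algebraMap S (Localization.AtPrime q) z.2 =
          algebraMap S (Localization.AtPrime q) w.2 := hzw
      obtain ⟨c, hc⟩ := (IsLocalization.eq_iff_exists q.primeCompl _).mp hzw'
      refine ⟨⟨(0, c.1), fun h => c.2 ((hmem _).mp h)⟩, ?_⟩
      ext
      · simp
      · exact hc
  let e : Localization.AtPrime I ≃ₐ[R × S] Localization.AtPrime q :=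
    IsLocalization.algEquiv I.primeCompl _ _
  haveI := hd
  haveI := hic
  exact ⟨MulEquiv.isDomain _ e.toRingEquiv.toMulEquiv,
    IsIntegrallyClosed.of_equiv e.symm.toRingEquiv⟩

/-- a product of normal rings is a normal ring -/
theorem isNormalRing_prod (hR : EGA4.IsNormalRing R) (hS : EGA4.IsNormalRing S) :
    EGA4.IsNormalRing (R × S) := by
  intro I hIp
  rcases (Ideal.ideal_prod_prime I).mp hIp with ⟨p, hp, hI⟩ | ⟨q, hq, hI⟩
  · haveI := hp
    obtain ⟨hd, hic⟩ := hR p
    exact isNormal_loc_prod_fst p hd hic I hI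
  · haveI := hq
    obtain ⟨hd, hic⟩ := hS q
    exact isNormal_loc_prod_snd q hd hic I hI

end Prod

end NodeDelta
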