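import Mathlib
import Groth.Prelude
import Groth.Agent.Lib.NodeDelta1_helper9

/-!
# The δ-invariant of the node `K[[x, y]]/(xy)` is one, part 2 (helper9)
APPEND-ONLY once landed.
-/

set_option autoImplicit false
universe u

namespace NodeDelta

open scoped nonZeroDivisors
open MvPowerSeries Finsupp

section Node

variable (K : Type u) [Field K]

/-- the two coordinate axes -/
def e0 : Unit ↪ Fin 2 := ⟨fun _ => 0, fun _ _ _ => rfl⟩
def e1 : Unit ↪ Fin 2 := ⟨fun _ => 1, fun _ _ _ => rfl⟩

/-- the ideal of the node -/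
noncomputable abbrev nodeI : Ideal (MvPowerSeries (Fin 2) K) :=
  Ideal.span {(X 0 * X 1 : MvPowerSeries (Fin 2) K)}

/-- the node ring -/
abbrev NodeRing : Type u := MvPowerSeries (Fin 2) K ⧸ nodeI K

/-- restriction to the two axes -/
noncomputable def ev : MvPowerSeries (Fin 2) K →+* PowerSeries K × PowerSeries K :=
  (killCompl (R := K) e0).toRingHom.prod (killCompl (R := K) e1).toRingHom

theorem ev_fst (f : MvPowerSeries (Fin 2) K) : (ev K f).1 = killCompl e0 f := rfl
theorem ev_snd (f : MvPowerSeries (Fin 2) K) : (ev K f).2 = killCompl e1 f := rfl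

theorem kill0_X0 : killCompl (R := K) e0 (X 0) = (PowerSeries.X : PowerSeries K) :=
  killCompl_X (e := e0) ()

theorem kill1_X1 : killCompl (R := K) e1 (X 1) = (PowerSeries.X : PowerSeries K) :=
  killCompl_X (e := e1) ()

theorem kill0_X1 : killCompl (R := K) e0 (X 1) = (0 : PowerSeries K) := by
  apply killCompl_X_eq_zero
  rintro ⟨u, hu⟩
  have : (0 : Fin 2) = 1 := hu
  exact absurd this (by decide)

theorem kill1_X0 : killCompl (R := K) e1 (X 0) = (0 : PowerSeries K) := by
  apply killCompl_X_eq_zero
  rintro ⟨u, hu⟩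
  have : (1 : Fin 2) = 0 := hu
  exact absurd this (by decide)

theorem ev_node : ev K (X 0 * X 1) = 0 := by
  ext1
  · rw [ev_fst, map_mul, kill0_X1, mul_zero]; rfl
  · rw [ev_snd, map_mul, kill1_X0, zero_mul]; rfl

/-- the normalization map of the node -/
noncomputable def φ : NodeRing K →+* PowerSeries K × PowerSeries K :=
  Ideal.Quotient.lift (nodeI K) (ev K) (by
    intro a ha
    obtain ⟨c, rfl⟩ := Ideal.mem_span_singleton'.mp ha
    rw [map_mul, ev_node, mul_zero])

theorem φ_mk (f : MvPowerSeries (Fin 2) K) : φ K (Ideal.Quotient.mk (nodeI K) f) = ev K f := rfl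

theorem eq_embDomain0 (m : Fin 2 →₀ ℕ) (hm : m 1 = 0) :
    m = embDomain e0 (single () (m 0)) := by
  ext i
  fin_cases i
  · have h1 : embDomain e0 (single () (m 0)) (e0 ()) = single () (m 0) () :=
      embDomain_apply_self _ _ _
    rw [single_eq_same] at h1
    exact h1.symm
  · have h1 : embDomain e0 (single () (m 0)) 1 = 0 := by
      apply embDomain_of_notMem_range
      rintro ⟨u, hu⟩
      have : (0 : Fin 2) = 1 := hu
      exact absurd this (by decide)
    show m 1 = _
    rw [hm]
    exact h1.symm

theorem eq_embDomain1 (m : Fin 2 →₀ ℕ) (hm : m 0 = 0) :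
    m = embDomain e1 (single () (m 1)) := by
  ext i
  fin_cases i
  · have h1 : embDomain e1 (single () (m 1)) 0 = 0 := by
      apply embDomain_of_notMem_range
      rintro ⟨u, hu⟩
      have : (1 : Fin 2) = 0 := hu
      exact absurd this (by decide)
    show m 0 = _
    rw [hm]
    exact h1.symm
  · have h1 : embDomain e1 (single () (m 1)) (e1 ()) = single () (m 1) () :=
      embDomain_apply_self _ _ _
    rw [single_eq_same] at h1
    exact h1.symm

/-- a power series vanishing on both axes is divisible by `xy` -/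
theorem mem_nodeI_of_ev_eq_zero (f : MvPowerSeries (Fin 2) K) (hf : ev K f = 0) :
    f ∈ nodeI K := by
  have h0 : killCompl (R := K) e0 f = 0 := congrArg Prod.fst hf
  have h1 : killCompl (R := K) e1 f = 0 := congrArg Prod.snd hf
  have hc0 : ∀ m : Fin 2 →₀ ℕ, m 1 = 0 → coeff m f = 0 := by
    intro m hm
    rw [eq_embDomain0 m hm, ← coeff_killCompl, h0]
    rfl
  have hc1 : ∀ m : Fin 2 →₀ ℕ, m 0 = 0 → coeff m f = 0 := by
    intro m hm
    rw [eq_embDomain1 m hm, ← coeff_killCompl, h1]
    rfl
  rw [Ideal.mem_span_singleton']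
  refine ⟨fun m => coeff (m + (single 0 1 + single 1 1)) f, ?_⟩
  have hX : (X 0 * X 1 : MvPowerSeries (Fin 2) K) = monomial (single 0 1 + single 1 1) 1 := by
    rw [X_def, X_def, monomial_mul_monomial, mul_one]
  rw [hX, mul_comm]
  ext m
  classical
  rw [coeff_monomial_mul, one_mul]
  split_ifs with hle
  · show coeff (m - (single 0 1 + single 1 1) + (single 0 1 + single 1 1)) f = coeff m f
    rw [tsub_add_cancel_of_le hle]
  · symm
    by_cases hm0 : m 0 = 0
    · exact hc1 m hm0
    · by_cases hm1 : m 1 = 0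
      · exact hc0 m hm1
      · exfalso
        apply hle
        intro i
        fin_cases i
        · simp only [Fin.zero_eta, Fin.isValue, coe_add, Pi.add_apply, single_eq_same]
          rw [single_eq_of_ne (by decide)]
          omega
        · simp only [Fin.mk_one, Fin.isValue, coe_add, Pi.add_apply, single_eq_same]
          rw [single_eq_of_ne (by decide)]
          omega

theorem φ_injective : Function.Injective (φ K) := by
  rw [injective_iff_map_eq_zero]
  intro a ha
  obtain ⟨f, rfl⟩ := Ideal.Quotient.mk_surjective a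
  rw [φ_mk] at ha
  exact Ideal.Quotient.eq_zero_iff_mem.mpr (mem_nodeI_of_ev_eq_zero K f ha)

end Node

section Delta

variable (K : Type u) [Field K]

/-- the difference of the constant terms -/
noncomputable def ψ : PowerSeries K × PowerSeries K →+ K :=
  ((PowerSeries.constantCoeff (R := K)).toAddMonoidHom.comp (AddMonoidHom.fst _ _)) -
    ((PowerSeries.constantCoeff (R := K)).toAddMonoidHom.comp (AddMonoidHom.snd _ _))

theorem ψ_apply (b : PowerSeries K × PowerSeries K) :
    ψ K b = PowerSeries.constantCoeff b.1 - PowerSeries.constantCoeff b.2 := rfl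

theorem constantCoeff_kill0 (f : MvPowerSeries (Fin 2) K) :
    PowerSeries.constantCoeff (killCompl (R := K) e0 f) = MvPowerSeries.constantCoeff f := by
  show coeff (0 : Unit →₀ ℕ) (killCompl (R := K) e0 f) = coeff (0 : Fin 2 →₀ ℕ) f
  rw [coeff_killCompl, embDomain_zero]

theorem constantCoeff_kill1 (f : MvPowerSeries (Fin 2) K) :
    PowerSeries.constantCoeff (killCompl (R := K) e1 f) = MvPowerSeries.constantCoeff f := by
  show coeff (0 : Unit →₀ ℕ) (killCompl (R := K) e1 f) = coeff (0 : Fin 2 →₀ ℕ) f
  rw [coeff_killCompl, embDomain_zero]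

theorem ψ_ev (f : MvPowerSeries (Fin 2) K) : ψ K (ev K f) = 0 := by
  rw [ψ_apply, ev_fst, ev_snd, constantCoeff_kill0, constantCoeff_kill1, sub_self]

/-- pairs with equal constant terms come from the node ring -/
theorem exists_ev_eq (b : PowerSeries K × PowerSeries K) (hb : ψ K b = 0) :
    ∃ f : MvPowerSeries (Fin 2) K, ev K f = b := by
  obtain ⟨a, b⟩ := b
  have hab : PowerSeries.constantCoeff a = PowerSeries.constantCoeff b := sub_eq_zero.mp hb
  refine ⟨C (PowerSeries.constantCoeff a) +
    X 0 * rename e0 (PowerSeries.mk fun p => PowerSeries.coeff (p + 1) a) +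
    X 1 * rename e1 (PowerSeries.mk fun p => PowerSeries.coeff (p + 1) b), ?_⟩
  ext1
  · rw [ev_fst, map_add, map_add, map_mul, map_mul, kill0_X0, kill0_X1, zero_mul, add_zero,
      killCompl_rename_app, killCompl_C]
    show _ = a
    conv_rhs => rw [PowerSeries.eq_X_mul_shift_add_const a]
    rw [add_comm]
    rfl
  · rw [ev_snd, map_add, map_add, map_mul, map_mul, kill1_X0, kill1_X1, zero_mul, add_zero,
      killCompl_rename_app, killCompl_C, hab]
    show _ = b
    conv_rhs => rw [PowerSeries.eq_X_mul_shift_add_const b]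
    rw [add_comm]
    rfl

/-- every pair is a combination of the two idempotents -/
theorem eq_comb (b : PowerSeries K × PowerSeries K) :
    b = ev K (rename e0 b.1) * (1, 0) + ev K (rename e1 b.2) * (0, 1) := by
  ext1
  · show b.1 = (ev K (rename e0 b.1)).1 * 1 + (ev K (rename e1 b.2)).1 * 0
    rw [mul_zero, add_zero, ev_fst, killCompl_rename_app, mul_one]
  · show b.2 = (ev K (rename e0 b.1)).2 * 0 + (ev K (rename e1 b.2)).2 * 1
    rw [mul_zero, zero_add, ev_snd, killCompl_rename_app, mul_one]

/-- multiplication by the conductor element `(x, y)` lands in the node ring -/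
theorem exists_ev_eq_mul (b : PowerSeries K × PowerSeries K) :
    ∃ f : MvPowerSeries (Fin 2) K, ev K f = ev K (X 0 + X 1) * b := by
  refine ⟨X 0 * rename e0 b.1 + X 1 * rename e1 b.2, ?_⟩
  ext1
  · show (ev K _).1 = (ev K (X 0 + X 1)).1 * b.1
    rw [ev_fst, ev_fst, map_add, map_mul, map_mul, map_add, kill0_X0, kill0_X1, zero_mul,
      add_zero, add_zero, killCompl_rename_app]
  · show (ev K _).2 = (ev K (X 0 + X 1)).2 * b.2
    rw [ev_snd, ev_snd, map_add, map_mul, map_mul, map_add, kill1_X0, kill1_X1, zero_mul,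
      zero_add, zero_add, killCompl_rename_app]

theorem ev_X_add_X :
    ev K (X 0 + X 1) = ((PowerSeries.X : PowerSeries K), (PowerSeries.X : PowerSeries K)) := by
  ext1
  · rw [ev_fst, map_add, kill0_X0, kill0_X1, add_zero]
  · rw [ev_snd, map_add, kill1_X0, kill1_X1, zero_add]

theorem ψ_C_mul (d : K) (b : PowerSeries K × PowerSeries K) :
    ψ K (ev K (C d) * b) = d * ψ K b := by
  have h1 : ev K (C d) = ((PowerSeries.C d : PowerSeries K), (PowerSeries.C d : PowerSeries K)) := by
    ext1
    · rw [ev_fst, killCompl_C]; rfl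
    · rw [ev_snd, killCompl_C]; rfl
  rw [h1, ψ_apply, ψ_apply]
  show PowerSeries.constantCoeff (PowerSeries.C d * b.1) -
    PowerSeries.constantCoeff (PowerSeries.C d * b.2) = _
  rw [map_mul, map_mul, PowerSeries.constantCoeff_C]
  ring

/-- **the δ-invariant of the node is one** -/
theorem deltaInv_nodeRing : Curv2.deltaInv (NodeRing K) = 1 := by
  letI alg : Algebra (NodeRing K) (PowerSeries K × PowerSeries K) := (φ K).toAlgebra
  have halg : ∀ r : NodeRing K, algebraMap (NodeRing K) (PowerSeries K × PowerSeries K) r =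
      φ K r := fun _ => rfl
  have hinj : Function.Injective (algebraMap (NodeRing K) (PowerSeries K × PowerSeries K)) :=
    φ_injective K
  set s : NodeRing K := Ideal.Quotient.mk (nodeI K) (X 0 + X 1) with hs_def
  have hφs : algebraMap (NodeRing K) (PowerSeries K × PowerSeries K) s =
      ((PowerSeries.X : PowerSeries K), (PowerSeries.X : PowerSeries K)) := by
    rw [halg, hs_def, φ_mk, ev_X_add_X]
  have hsB : algebraMap (NodeRing K) (PowerSeries K × PowerSeries K) s ∈
      (PowerSeries K × PowerSeries K)⁰ := by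
    rw [hφs, mem_nonZeroDivisors_iff_right]
    rintro ⟨a, b⟩ hab
    have h1 : a * PowerSeries.X = 0 := congrArg Prod.fst hab
    have h2 : b * PowerSeries.X = 0 := congrArg Prod.snd hab
    have ha : a = 0 := by
      rcases mul_eq_zero.mp h1 with h | h
      · exact h
      · exact absurd h PowerSeries.X_ne_zero
    have hb : b = 0 := by
      rcases mul_eq_zero.mp h2 with h | h
      · exact h
      · exact absurd h PowerSeries.X_ne_zero
    rw [ha, hb]
    rfl
  have hs : s ∈ (NodeRing K)⁰ := by
    rw [mem_nonZeroDivisors_iff_right]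
    intro r hr
    apply hinj
    rw [map_zero]
    have h1 : algebraMap (NodeRing K) (PowerSeries K × PowerSeries K) r *
        algebraMap (NodeRing K) (PowerSeries K × PowerSeries K) s = 0 := by
      rw [← map_mul, hr, map_zero]
    exact (mem_nonZeroDivisors_iff_right.mp hsB) _ h1
  have hcond : ∀ b : PowerSeries K × PowerSeries K, ∃ a : NodeRing K,
      algebraMap (NodeRing K) (PowerSeries K × PowerSeries K) a =
        algebraMap (NodeRing K) (PowerSeries K × PowerSeries K) s * b := by
    intro b
    obtain ⟨f, hf⟩ := exists_ev_eq_mul K b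
    exact ⟨Ideal.Quotient.mk (nodeI K) f, hf⟩
  haveI : Nontrivial (NodeRing K) := by
    refine ⟨⟨0, 1, fun h => ?_⟩⟩
    have h1 := congrArg (algebraMap (NodeRing K) (PowerSeries K × PowerSeries K)) h
    rw [map_zero, map_one] at h1
    exact zero_ne_one h1
  haveI : Algebra.IsIntegral (NodeRing K) (PowerSeries K × PowerSeries K) := by
    refine ⟨fun b => ?_⟩
    rw [eq_comb K b]
    have hid1 : IsIntegral (NodeRing K) ((1, 0) : PowerSeries K × PowerSeries K) := by
      refine ⟨Polynomial.X ^ 2 - Polynomial.X, ?_, ?_⟩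
      · exact Polynomial.monic_X_pow_sub (by
          rw [Polynomial.degree_X]
          exact_mod_cast (by norm_num : (1 : ℕ) < 2))
      · rw [Polynomial.eval₂_sub, Polynomial.eval₂_pow, Polynomial.eval₂_X]
        ext1 <;> simp
    have hid2 : IsIntegral (NodeRing K) ((0, 1) : PowerSeries K × PowerSeries K) := by
      refine ⟨Polynomial.X ^ 2 - Polynomial.X, ?_, ?_⟩
      · exact Polynomial.monic_X_pow_sub (by
          rw [Polynomial.degree_X]
          exact_mod_cast (by norm_num : (1 : ℕ) < 2))
      · rw [Polynomial.eval₂_sub, Polynomial.eval₂_pow, Polynomial.eval₂_X]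
        ext1 <;> simp
    have hm : ∀ f : MvPowerSeries (Fin 2) K, IsIntegral (NodeRing K) (ev K f) := fun f =>
      isIntegral_algebraMap (x := Ideal.Quotient.mk (nodeI K) f)
    exact ((hm _).mul hid1).add ((hm _).mul hid2)
  have hnorm : EGA4.IsNormalRing (PowerSeries K × PowerSeries K) :=
    isNormalRing_prod
      (Groth.Agent.Lib.NormalSmoothBCH3.isNormalRing_of_isIntegrallyClosed (PowerSeries K))
      (Groth.Agent.Lib.NormalSmoothBCH3.isNormalRing_of_isIntegrallyClosed (PowerSeries K))
  rw [← NormDelta.length_quot_eq_deltaInv hinj s hs hsB hcond hnorm, Module.length_eq_one_iff,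
    isSimpleModule_iff_toSpanSingleton_surjective]
  have hrange : ∀ b : PowerSeries K × PowerSeries K,
      b ∈ LinearMap.range (Algebra.linearMap (NodeRing K) (PowerSeries K × PowerSeries K)) ↔
        ψ K b = 0 := by
    intro b
    constructor
    · rintro ⟨r, rfl⟩
      obtain ⟨f, rfl⟩ := Ideal.Quotient.mk_surjective r
      exact ψ_ev K f
    · intro hb
      obtain ⟨f, hf⟩ := exists_ev_eq K b hb
      exact ⟨Ideal.Quotient.mk (nodeI K) f, hf⟩
  constructor
  · refine ⟨⟨Submodule.Quotient.mk ((1, 0) : PowerSeries K × PowerSeries K), 0, ?_⟩⟩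
    intro h
    rw [Submodule.Quotient.mk_eq_zero, hrange, ψ_apply] at h
    simp at h
  · intro x hx y
    obtain ⟨b, rfl⟩ := Submodule.Quotient.mk_surjective _ x
    obtain ⟨b', rfl⟩ := Submodule.Quotient.mk_surjective _ y
    have hb : ψ K b ≠ 0 := by
      intro h
      apply hx
      rw [Submodule.Quotient.mk_eq_zero, hrange]
      exact h
    refine ⟨Ideal.Quotient.mk (nodeI K) (C (ψ K b' / ψ K b)), ?_⟩
    rw [LinearMap.toSpanSingleton_apply, ← Submodule.Quotient.mk_smul,
      Submodule.Quotient.eq, hrange, map_sub]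
    have h1 : (Ideal.Quotient.mk (nodeI K) (C (ψ K b' / ψ K b)) : NodeRing K) • b =
        ev K (C (ψ K b' / ψ K b)) * b := rfl
    rw [h1, ψ_C_mul, div_mul_cancel₀ _ hb, sub_self]

end Delta

end NodeDelta
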