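import Mathlib
import Groth.Prelude
import Groth.Agent.Lib.NodeBC4_helper3
import Groth.Agent.Lib.NodeEtale3_helper3
import Groth.Agent.Lib.SmoothDesc_helper4
import Groth.Agent.Lib.FieldExt1_helper8
import Groth.Agent.Lib.TopDimLoc_helper8
import Groth.Agent.Lib.SchSrcLocal_helper7

/-!
# Descent of at-worst-nodal families along fpqc base change (helper3)

* `isNode_iff_bc` : `main1588` with `dim X ≤ 1`.
* `atWorstNodal_descend` : `X` locally of finite type over `k` of dimension `≤ 1`, `K/k` arbitrary:
  if `X_K` has at-worst-nodal singularities, so has `X`.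
* `fibBC`, `isPullback_fibBC` : the fibre of a base change `X ×_S S' → S'` over `s'` is the base
  change of the fibre of `X → S` over `g s'` along `κ(g s') → κ(s')`.
* `main1594`.

APPEND-ONLY once landed.
-/

set_option autoImplicit false
set_option linter.style.haveILetI false
universe u

open CategoryTheory CategoryTheory.Limits AlgebraicGeometry IsLocalRing

namespace Groth.Agent.Lib.NodeDescH3

open Groth.Agent.Lib.NodeBCH3

section Field

variable (k : Type u) [Field k] (X : Scheme.{u}) [X.Over (Spec (CommRingCat.of k))]
  [LocallyOfFiniteType (X ↘ Spec (CommRingCat.of k))]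

set_option maxHeartbeats 3200000 in
/-- `main1588` with `dim X ≤ 1`. -/
theorem isNode_iff_bc (hdim : topologicalKrullDim X ≤ 1) (K : Type u) [Field K] [Algebra k K]
    (y : Curv2.bc k X K) :
    Curv2.IsNode k X (Curv2.bcFst k X K y) ↔
      @Curv2.IsNode K _ (Curv2.bc k X K) ⟨Curv2.bcSnd k X K⟩ y := by
  letI ovY : (Curv2.bc k X K).Over (Spec (CommRingCat.of K)) := ⟨Curv2.bcSnd k X K⟩
  haveI : LocallyOfFiniteType ((Curv2.bc k X K) ↘ Spec (CommRingCat.of K)) :=
    MorphismProperty.pullback_snd (P := @LocallyOfFiniteType) _ _ inferInstance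
  constructor
  · intro hnode
    haveI : Surjective (Spec.map (CommRingCat.ofHom (algebraMap K (AlgebraicClosure K)))) :=
      ⟨fun x => ⟨IsLocalRing.closedPoint (AlgebraicClosure K),
        Subsingleton.elim (α := PrimeSpectrum K) _ _⟩⟩
    haveI : Surjective (bcbcFst k X K (AlgebraicClosure K)) :=
      MorphismProperty.pullback_fst (P := @Surjective) _ _ inferInstance
    obtain ⟨yb, hyb⟩ := (bcbcFst k X K (AlgebraicClosure K)).surjective y
    have hz : Curv2.bcFst k X (AlgebraicClosure K)
        ((towerIso k X K (AlgebraicClosure K)).hom yb) = Curv2.bcFst k X K y := by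
      rw [← hyb, ← Scheme.Hom.comp_apply, ← Scheme.Hom.comp_apply, towerIso_hom_fst]
    rw [← hz] at hnode
    obtain ⟨hzcl, hodp⟩ := node_up k X (AlgebraicClosure K) _ hnode
    have hybcl := (isClosed_towerIso_iff k X K (AlgebraicClosure K) yb).1 hzcl
    have hodp' := (isOrdDoublePt_tower_iff k X K (AlgebraicClosure K) yb hybcl).1 hodp
    have hycl : IsClosed ({y} : Set (Curv2.bc k X K)) := by
      have := Groth.Agent.Lib.InsepRamH3.isClosed_bcFst K (Curv2.bc k X K) (AlgebraicClosure K)
        yb hybcl
      rwa [hyb] at this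
    exact ⟨hycl, yb, hyb, hodp'⟩
  · rintro ⟨hycl, yb, hyb, hodp'⟩
    haveI : IsIntegralHom (Spec.map (CommRingCat.ofHom (algebraMap K (AlgebraicClosure K)))) := by
      rw [IsIntegralHom.SpecMap_iff]
      exact algebraMap_isIntegral_iff.mpr inferInstance
    haveI : IsIntegralHom (bcbcFst k X K (AlgebraicClosure K)) :=
      MorphismProperty.pullback_fst (P := @IsIntegralHom) _ _ inferInstance
    have hybcl : IsClosed ({yb} : Set (bcbc k X K (AlgebraicClosure K))) :=
      Groth.Agent.Lib.NodeEtaleH3.isClosed_of_integral (bcbcFst k X K (AlgebraicClosure K)) yb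
        (by rw [show (bcbcFst k X K (AlgebraicClosure K)) yb = y from hyb]; exact hycl)
    have hzcl := (isClosed_towerIso_iff k X K (AlgebraicClosure K) yb).2 hybcl
    have hodp := (isOrdDoublePt_tower_iff k X K (AlgebraicClosure K) yb hybcl).2 hodp'
    have hz : Curv2.bcFst k X (AlgebraicClosure K)
        ((towerIso k X K (AlgebraicClosure K)).hom yb) = Curv2.bcFst k X K y := by
      rw [← hyb, ← Scheme.Hom.comp_apply, ← Scheme.Hom.comp_apply, towerIso_hom_fst]
    have := node_down k X (AlgebraicClosure K) hdim _ hzcl hodp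
    rwa [hz] at this

set_option maxHeartbeats 1600000 in
/-- At-worst-nodal singularities descend along an arbitrary extension of the base field. -/
theorem atWorstNodal_descend (hdim : topologicalKrullDim X ≤ 1) (K : Type u) [Field K]
    [Algebra k K]
    (h : @Curv2.AtWorstNodal K _ (Curv2.bc k X K) ⟨Curv2.bcSnd k X K⟩) :
    Curv2.AtWorstNodal k X := by
  letI ovY : (Curv2.bc k X K).Over (Spec (CommRingCat.of K)) := ⟨Curv2.bcSnd k X K⟩
  intro x hx
  haveI : Surjective (Spec.map (CommRingCat.ofHom (algebraMap k K))) :=
    ⟨fun x => ⟨IsLocalRing.closedPoint K, Subsingleton.elim (α := PrimeSpectrum k) _ _⟩⟩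
  haveI : Surjective (Curv2.bcFst k X K) :=
    MorphismProperty.pullback_fst (P := @Surjective) _ _ inferInstance
  obtain ⟨y, rfl⟩ := (Curv2.bcFst k X K).surjective x
  have hy := isClosed_of_isClosed_bcFst k X K y hx
  rcases h y hy with ⟨V, hyV, hV⟩ | hnode
  · left
    haveI : IsLocallyNoetherian (Spec (CommRingCat.of k)) := inferInstance
    haveI : LocallyOfFinitePresentation (X ↘ Spec (CommRingCat.of k)) :=
      LocallyOfFinitePresentation.iff_locallyOfFiniteType.mpr inferInstance
    haveI : Flat (Spec.map (CommRingCat.ofHom (algebraMap k K))) :=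
      Flat.SpecMap_iff.mpr (RingHom.flat_algebraMap_iff.mpr inferInstance)
    exact Groth.Agent.Lib.UnramLocH4.main2757 (X ↘ Spec (CommRingCat.of k))
      (Spec.map (CommRingCat.ofHom (algebraMap k K))) y (Flat.stalkMap _ _) ⟨V, hyV, hV⟩
  · right
    exact (isNode_iff_bc k X hdim K y).2 hnode

end Field

section Fib

variable {X S S' : Scheme.{u}} (f : X ⟶ S) (g : S' ⟶ S) (s' : S')

/-- the map from the fibre of the base change over `s'` to the fibre of `f` over `g s'`. -/
noncomputable def fibBC : (pullback.snd f g).fiber s' ⟶ f.fiber (g s') :=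
  pullback.lift ((pullback.snd f g).fiberι s' ≫ pullback.fst f g)
    ((pullback.snd f g).fiberToSpecResidueField s' ≫ Spec.map (g.residueFieldMap s'))
    (by
      rw [Category.assoc, Category.assoc, pullback.condition,
        Scheme.Hom.SpecMap_residueFieldMap_fromSpecResidueField]
      show pullback.fst _ _ ≫ pullback.snd f g ≫ g = pullback.snd _ _ ≫ _ ≫ g
      rw [← Category.assoc, ← Category.assoc, pullback.condition])

theorem fibBC_fst :
    fibBC f g s' ≫ f.fiberι (g s') = (pullback.snd f g).fiberι s' ≫ pullback.fst f g :=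
  pullback.lift_fst _ _ _

theorem fibBC_snd :
    fibBC f g s' ≫ f.fiberToSpecResidueField (g s') =
      (pullback.snd f g).fiberToSpecResidueField s' ≫ Spec.map (g.residueFieldMap s') :=
  pullback.lift_snd _ _ _

theorem isPullback_fibBC :
    IsPullback (fibBC f g s') ((pullback.snd f g).fiberToSpecResidueField s')
      (f.fiberToSpecResidueField (g s')) (Spec.map (g.residueFieldMap s')) := by
  refine IsPullback.of_right ?_ (fibBC_snd f g s')
    (IsPullback.of_hasPullback f (S.fromSpecResidueField (g s')))
  have h1 : IsPullback ((pullback.snd f g).fiberι s')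
      ((pullback.snd f g).fiberToSpecResidueField s') (pullback.snd f g)
      (S'.fromSpecResidueField s') := IsPullback.of_hasPullback _ _
  have h2 : IsPullback (pullback.fst f g) (pullback.snd f g) f g := IsPullback.of_hasPullback f g
  have h3 := h1.paste_horiz h2
  have e1 : fibBC f g s' ≫ pullback.fst f (S.fromSpecResidueField (g s')) =
      (pullback.snd f g).fiberι s' ≫ pullback.fst f g := fibBC_fst f g s'
  rw [e1, Scheme.Hom.SpecMap_residueFieldMap_fromSpecResidueField]
  exact h3

end Fib

section Main

set_option maxHeartbeats 3200000 in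
theorem main1594 {X S S' : Scheme.{u}} (f : X ⟶ S) (g : S' ⟶ S) [Flat g] [QuasiCompact g]
    [Surjective g] (h : Curv2.IsNodalFamily (pullback.snd f g)) : Curv2.IsNodalFamily f := by
  obtain ⟨hflat, hlfp, hfib⟩ := h
  haveI := hflat
  haveI := hlfp
  have hlfp_f : LocallyOfFinitePresentation f :=
    MorphismProperty.of_isPullback_of_descendsAlong (P := @LocallyOfFinitePresentation)
      (Q := @Surjective ⊓ @Flat ⊓ @QuasiCompact) (IsPullback.of_hasPullback f g).flip
      ⟨⟨inferInstance, inferInstance⟩, inferInstance⟩ hlfp
  have hflat_f : Flat f := by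
    haveI : Flat (pullback.fst f g) := inferInstance
    haveI : Surjective (pullback.fst f g) := inferInstance
    haveI : Flat (pullback.fst f g ≫ f) := by
      rw [pullback.condition]
      infer_instance
    exact Groth.Agent.Lib.SchSrcLocal_helper7.flat_of_comp_surjective (pullback.fst f g) f
  haveI := hlfp_f
  refine ⟨hflat_f, hlfp_f, fun s => ?_⟩
  obtain ⟨s', rfl⟩ := g.surjective s
  obtain ⟨hdim', hnod'⟩ := hfib s'
  haveI : LocallyOfFiniteType f := inferInstance
  haveI : LocallyOfFiniteType (pullback.snd f g) := inferInstance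
  haveI lft1 : LocallyOfFiniteType (f.fiberToSpecResidueField (g s')) :=
    MorphismProperty.pullback_snd (P := @LocallyOfFiniteType) _ _ inferInstance
  haveI lft2 : LocallyOfFiniteType ((pullback.snd f g).fiberToSpecResidueField s') :=
    MorphismProperty.pullback_snd (P := @LocallyOfFiniteType) _ _ inferInstance
  have sq := isPullback_fibBC f g s'
  haveI : Surjective (Spec.map (g.residueFieldMap s')) :=
    ⟨fun x => ⟨IsLocalRing.closedPoint (S'.residueField s'),
      Subsingleton.elim (α := PrimeSpectrum (S.residueField (g s'))) _ _⟩⟩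
  haveI : Surjective (fibBC f g s') :=
    MorphismProperty.of_isPullback (P := @Surjective) sq.flip inferInstance
  -- local dimension
  have h1' : ∀ t' : (pullback.snd f g).fiber s',
      FlatMor.localDim ↥((pullback.snd f g).fiber s') t' = 1 :=
    Groth.Agent.Lib.AffDimH8.localDim_eq_of_equidim (S'.residueField s')
      ((pullback.snd f g).fiber s') ((pullback.snd f g).fiberToSpecResidueField s') 1 hdim'
  have h1 : ∀ t : f.fiber (g s'), FlatMor.localDim ↥(f.fiber (g s')) t = 1 := by
    intro t
    obtain ⟨t', rfl⟩ := (fibBC f g s').surjective t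
    rw [← FieldExtH8.localDim_of_isPullback_field (S.residueField (g s')) (S'.residueField s')
      (fibBC f g s') ((pullback.snd f g).fiberToSpecResidueField s')
      (f.fiberToSpecResidueField (g s')) (g.residueFieldMap s') sq t']
    exact h1' t'
  constructor
  · exact Groth.Agent.Lib.CotSmoothH3.equidim_of_localDim_const (S.residueField (g s')) _
      (f.fiberToSpecResidueField (g s')) 1 h1
  · letI i1 : (f.fiber (g s')).Over (Spec (CommRingCat.of (S.residueField (g s')))) :=
      ⟨f.fiberToSpecResidueField (g s')⟩
    letI i2 : ((pullback.snd f g).fiber s').Over (Spec (CommRingCat.of (S'.residueField s'))) :=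
      ⟨(pullback.snd f g).fiberToSpecResidueField s'⟩
    haveI : LocallyOfFiniteType
        ((f.fiber (g s')) ↘ Spec (CommRingCat.of (S.residueField (g s')))) := lft1
    haveI : LocallyOfFiniteType
        (((pullback.snd f g).fiber s') ↘ Spec (CommRingCat.of (S'.residueField s'))) := lft2
    letI alg : Algebra (S.residueField (g s')) (S'.residueField s') :=
      (g.residueFieldMap s').hom.toAlgebra
    letI i3 : (Curv2.bc (S.residueField (g s')) (f.fiber (g s')) (S'.residueField s')).Over
        (Spec (CommRingCat.of (S'.residueField s'))) :=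
      ⟨Curv2.bcSnd (S.residueField (g s')) (f.fiber (g s')) (S'.residueField s')⟩
    have hdimZ : topologicalKrullDim ↥(f.fiber (g s')) ≤ 1 :=
      (TopDimLocH8.topDim_le_iff_forall_localDim (f.fiber (g s')) 1).2 (fun t => (h1 t).le)
    have hbc : Curv2.AtWorstNodal (S'.residueField s')
        (Curv2.bc (S.residueField (g s')) (f.fiber (g s')) (S'.residueField s')) := by
      refine Groth.Agent.Lib.NodeEtaleH3.atWorstNodal_of_etale (S'.residueField s')
        ((pullback.snd f g).fiber s')
        (Curv2.bc (S.residueField (g s')) (f.fiber (g s')) (S'.residueField s'))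
        sq.isoPullback.inv ?_ hnod'
      exact sq.isoPullback_inv_snd
    exact atWorstNodal_descend (S.residueField (g s')) (f.fiber (g s')) hdimZ
      (S'.residueField s') hbc

end Main

end Groth.Agent.Lib.NodeDescH3
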