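import Mathlib
import Groth.Prelude
import Groth.Agent.Lib.NodeCrit5_helper3
import Groth.Agent.Lib.SmoothFib_helper4

/-!
# Nodal curves are Gorenstein and geometrically reduced, part 1: charts (helper3)

* `secHom`, `secAlg` : the `k`-algebra structure on the sections over an open of a `k`-scheme.
* `fromSpec_over` : the chart `Spec Γ(X, U) ⟶ X ⟶ Spec k` is `Spec` of the structure map.
* `smooth_nhd_iff_stalk`, `smooth_nhd_iff_chart` : having a smooth neighbourhood is a condition on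
  the stalk map / on the prime of an affine chart.
* `fitt_stalk_chart` : chart form of `NodeCritH3.fitt_stalk`.

APPEND-ONLY once landed.
-/

set_option autoImplicit false
set_option linter.style.haveILetI false
universe u

open CategoryTheory CategoryTheory.Limits AlgebraicGeometry IsLocalRing

namespace Groth.Agent.Lib.NodeGorH3

open Groth.Agent.Lib.UnramLocH4

section Chart

variable (k : Type u) [Field k] (X : Scheme.{u}) [X.Over (Spec (CommRingCat.of k))]

/-- the structure map `k ⟶ Γ(X, U)`. -/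
noncomputable abbrev secHom (U : X.Opens) : CommRingCat.of k ⟶ Γ(X, U) :=
  (Scheme.ΓSpecIso (CommRingCat.of k)).inv ≫
    (X ↘ Spec (CommRingCat.of k)).appLE ⊤ U (fun _ _ => trivial)

/-- the `k`-algebra structure on `Γ(X, U)`. -/
noncomputable abbrev secAlg (U : X.Opens) : Algebra k Γ(X, U) := (secHom k X U).hom.toAlgebra

theorem fromSpec_over {U : X.Opens} (hU : IsAffineOpen U) :
    hU.fromSpec ≫ (X ↘ Spec (CommRingCat.of k)) = Spec.map (secHom k X U) := by
  have h := IsAffineOpen.SpecMap_appLE_fromSpec (X ↘ Spec (CommRingCat.of k))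
    (isAffineOpen_top (Spec (CommRingCat.of k))) hU (fun _ _ => trivial)
  rw [← h, IsAffineOpen.fromSpec_top, Scheme.isoSpec_Spec_inv, ← Spec.map_comp]

variable [LocallyOfFiniteType (X ↘ Spec (CommRingCat.of k))]

theorem finiteType_secAlg {U : X.Opens} (hU : IsAffineOpen U) :
    @Algebra.FiniteType k Γ(X, U) _ _ (secAlg k X U) := by
  letI := secAlg k X U
  have hft : (secHom k X U).hom.FiniteType := by
    rw [CommRingCat.hom_comp]
    refine RingHom.FiniteType.comp (Scheme.Hom.finiteType_appLE _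
      (isAffineOpen_top (Spec (CommRingCat.of k))) hU _) ?_
    exact RingHom.FiniteType.of_surjective _
      (ConcreteCategory.bijective_of_isIso (Scheme.ΓSpecIso (CommRingCat.of k)).inv).2
  exact hft

theorem lfp_over : LocallyOfFinitePresentation (X ↘ Spec (CommRingCat.of k)) := by
  haveI : IsLocallyNoetherian (Spec (CommRingCat.of k)) := inferInstance
  exact LocallyOfFinitePresentation.iff_locallyOfFiniteType.mpr inferInstance

/-- having a smooth neighbourhood is a condition on the stalk map. -/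
theorem smooth_nhd_iff_stalk (x : X) :
    (∃ V : X.Opens, x ∈ V ∧ Smooth (V.ι ≫ (X ↘ Spec (CommRingCat.of k)))) ↔
      ((X ↘ Spec (CommRingCat.of k)).stalkMap x).hom.FormallySmooth := by
  haveI := lfp_over k X
  constructor
  · rintro ⟨V, hxV, hV⟩
    exact stalk_smooth_of_nhd _ x V hxV hV
  · intro h
    exact ⟨(X ↘ Spec (CommRingCat.of k)).smoothLocus, h, smooth_smoothLocus _⟩

/-- having a smooth neighbourhood, on an affine chart. -/
theorem smooth_nhd_iff_chart {U : X.Opens} (hU : IsAffineOpen U) (x : X) (hx : x ∈ U) :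
    (∃ V : X.Opens, x ∈ V ∧ Smooth (V.ι ≫ (X ↘ Spec (CommRingCat.of k)))) ↔
      hU.primeIdealOf ⟨x, hx⟩ ∈ @Algebra.smoothLocus k Γ(X, U) _ _ (secAlg k X U) := by
  letI := secAlg k X U
  rw [smooth_nhd_iff_stalk, ← specSmooth]
  have h1 := stalk_transfer RingHom.FormallySmooth.respectsIso hU.fromSpec
    (X ↘ Spec (CommRingCat.of k)) (Spec.map (CommRingCat.ofHom (algebraMap k Γ(X, U)))) (𝟙 _)
    (by rw [Category.comp_id]; exact fromSpec_over k X hU) (hU.primeIdealOf ⟨x, hx⟩)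
  rw [h1]
  exact stalk_congr_point (P := RingHom.FormallySmooth) _
    (hU.fromSpec_primeIdealOf ⟨x, hx⟩).symm

end Chart

section Fitt

variable (k : Type u) [Field k] (X : Scheme.{u}) [X.Over (Spec (CommRingCat.of k))]
  [LocallyOfFiniteType (X ↘ Spec (CommRingCat.of k))]
  (K : Type u) [Field K] [Algebra k K]

set_option maxHeartbeats 1600000 in
/-- chart form of `NodeCritH3.fitt_stalk`. -/
theorem fitt_stalk_chart (xb : Curv2.bc k X K) {U : X.Opens} (hU : IsAffineOpen U)
    (hxU : Curv2.bcFst k X K xb ∈ U) :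
    letI : (Curv2.bc k X K).Over (Spec (CommRingCat.of K)) := ⟨Curv2.bcSnd k X K⟩
    letI := Curv2.stalkAlgebra K (Curv2.bc k X K) xb
    letI := secAlg k X U
    Fitt.ideal ((Curv2.bc k X K).presheaf.stalk xb)
        Ω[(Curv2.bc k X K).presheaf.stalk xb⁄K] 1 =
      ((Fitt.ideal Γ(X, U) Ω[Γ(X, U)⁄k] 1).map
        (X.presheaf.germ U (Curv2.bcFst k X K xb) hxU).hom).map
          ((Curv2.bcFst k X K).stalkMap xb).hom := by
  letI ovB : (Curv2.bc k X K).Over (Spec (CommRingCat.of K)) := ⟨Curv2.bcSnd k X K⟩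
  letI algKA' := Curv2.stalkAlgebra K (Curv2.bc k X K) xb
  have hc : IsPullback (Curv2.bcFst k X K) (Curv2.bcSnd k X K) (X ↘ Spec (CommRingCat.of k))
      (Spec.map (CommRingCat.ofHom (algebraMap k K))) := IsPullback.of_hasPullback _ _
  have hW : IsAffineOpen (⊤ : (Spec (CommRingCat.of k)).Opens) := isAffineOpen_top _
  have hW' : IsAffineOpen (⊤ : (Spec (CommRingCat.of K)).Opens) := isAffineOpen_top _
  have hUW : U ≤ (X ↘ Spec (CommRingCat.of k)) ⁻¹ᵁ ⊤ := fun _ _ => trivial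
  have hW'W : (⊤ : (Spec (CommRingCat.of K)).Opens) ≤
      (Spec.map (CommRingCat.ofHom (algebraMap k K))) ⁻¹ᵁ ⊤ := fun _ _ => trivial
  obtain ⟨U', hxbU', hU'U, hU'W', hU', hpo⟩ : ∃ (U' : (Curv2.bc k X K).Opens) (_ : xb ∈ U')
      (h1 : U' ≤ (Curv2.bcFst k X K) ⁻¹ᵁ U) (h2 : U' ≤ (Curv2.bcSnd k X K) ⁻¹ᵁ ⊤),
      IsAffineOpen U' ∧ IsPushout ((X ↘ Spec (CommRingCat.of k)).appLE ⊤ U hUW)
        ((Spec.map (CommRingCat.ofHom (algebraMap k K))).appLE ⊤ ⊤ hW'W)
        ((Curv2.bcFst k X K).appLE U U' h1) ((Curv2.bcSnd k X K).appLE ⊤ U' h2) :=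
    ⟨(Curv2.bcFst k X K) ⁻¹ᵁ U ⊓ (Curv2.bcSnd k X K) ⁻¹ᵁ ⊤, ⟨hxU, trivial⟩, inf_le_left,
      inf_le_right, FlatBC2H8.affine_pushout hc hW hU hW' hUW hW'W⟩
  -- transport the pushout square to `k` and `K`
  have hpo' : IsPushout
      ((Scheme.ΓSpecIso (CommRingCat.of k)).inv ≫ (X ↘ Spec (CommRingCat.of k)).appLE ⊤ U hUW)
      (CommRingCat.ofHom (algebraMap k K))
      ((Curv2.bcFst k X K).appLE U U' hU'U)
      ((Scheme.ΓSpecIso (CommRingCat.of K)).inv ≫ (Curv2.bcSnd k X K).appLE ⊤ U' hU'W') := by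
    refine hpo.of_iso (Scheme.ΓSpecIso (CommRingCat.of k)) (Iso.refl _)
      (Scheme.ΓSpecIso (CommRingCat.of K)) (Iso.refl _) ?_ ?_ ?_ ?_
    · simp
    · have h1 : (Spec.map (CommRingCat.ofHom (algebraMap k K))).appLE ⊤ ⊤ hW'W =
          (Spec.map (CommRingCat.ofHom (algebraMap k K))).appTop := by
        simp [Scheme.Hom.appLE, Scheme.Hom.appTop]
      rw [h1, Scheme.ΓSpecIso_naturality]
    · simp
    · simp
  -- finite type
  have hft : ((Scheme.ΓSpecIso (CommRingCat.of k)).inv ≫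
      (X ↘ Spec (CommRingCat.of k)).appLE ⊤ U hUW).hom.FiniteType := by
    rw [CommRingCat.hom_comp]
    refine RingHom.FiniteType.comp (Scheme.Hom.finiteType_appLE _ hW hU hUW) ?_
    exact RingHom.FiniteType.of_surjective _
      (ConcreteCategory.bijective_of_isIso (Scheme.ΓSpecIso (CommRingCat.of k)).inv).2
  haveI : LocallyOfFiniteType (Curv2.bcSnd k X K) :=
    MorphismProperty.pullback_snd (P := @LocallyOfFiniteType) _ _ inferInstance
  have hft' : ((Scheme.ΓSpecIso (CommRingCat.of K)).inv ≫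
      (Curv2.bcSnd k X K).appLE ⊤ U' hU'W').hom.FiniteType := by
    rw [CommRingCat.hom_comp]
    refine RingHom.FiniteType.comp (Scheme.Hom.finiteType_appLE _ hW' hU' hU'W') ?_
    exact RingHom.FiniteType.of_surjective _
      (ConcreteCategory.bijective_of_isIso (Scheme.ΓSpecIso (CommRingCat.of K)).inv).2
  -- the algebra structures
  letI algkR : Algebra k Γ(X, U) := secAlg k X U
  letI algKB : Algebra K Γ(Curv2.bc k X K, U') := ((Scheme.ΓSpecIso (CommRingCat.of K)).inv ≫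
      (Curv2.bcSnd k X K).appLE ⊤ U' hU'W').hom.toAlgebra
  have h1 : Fitt.ideal Γ(Curv2.bc k X K, U') Ω[Γ(Curv2.bc k X K, U')⁄K] 1 =
      (Fitt.ideal Γ(X, U) Ω[Γ(X, U)⁄k] 1).map ((Curv2.bcFst k X K).appLE U U' hU'U).hom :=
    Groth.Agent.Lib.OmegaFittBCH3.fitt_kaehler_of_isPushout hpo' hft 1
  haveI : Algebra.FiniteType K Γ(Curv2.bc k X K, U') := hft'
  letI algBA' : Algebra Γ(Curv2.bc k X K, U') ((Curv2.bc k X K).presheaf.stalk xb) :=
    TopCat.Presheaf.algebra_section_stalk (Curv2.bc k X K).presheaf ⟨xb, hxbU'⟩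
  haveI hloc : IsLocalization.AtPrime ((Curv2.bc k X K).presheaf.stalk xb)
      (hU'.primeIdealOf ⟨xb, hxbU'⟩).asIdeal := hU'.isLocalization_stalk ⟨xb, hxbU'⟩
  haveI : IsScalarTower K Γ(Curv2.bc k X K, U') ((Curv2.bc k X K).presheaf.stalk xb) := by
    refine IsScalarTower.of_algebraMap_eq (fun c => ?_)
    show ((Curv2.bc k X K).presheaf.germ ⊤ xb trivial).hom
        (Coh.toGlobal (Curv2.bcSnd k X K) c) =
      ((Curv2.bc k X K).presheaf.germ U' xb hxbU').hom
        (((Curv2.bcSnd k X K).appLE ⊤ U' hU'W').hom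
          ((Scheme.ΓSpecIso (CommRingCat.of K)).inv.hom c))
    have e1 : ((Curv2.bcSnd k X K).appLE ⊤ U' hU'W').hom
        ((Scheme.ΓSpecIso (CommRingCat.of K)).inv.hom c) =
        ((Curv2.bc k X K).presheaf.map (homOfLE hU'W').op).hom
          (((Curv2.bcSnd k X K).app ⊤).hom ((Scheme.ΓSpecIso (CommRingCat.of K)).inv.hom c)) := rfl
    rw [e1]
    exact (TopCat.Presheaf.germ_res_apply (Curv2.bc k X K).presheaf (homOfLE hU'W') xb hxbU'
      _).symm
  haveI hfinB : Module.Finite Γ(Curv2.bc k X K, U') Ω[Γ(Curv2.bc k X K, U')⁄K] := inferInstance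
  have h2 : Fitt.ideal ((Curv2.bc k X K).presheaf.stalk xb)
      Ω[(Curv2.bc k X K).presheaf.stalk xb⁄K] 1 =
      (Fitt.ideal Γ(Curv2.bc k X K, U') Ω[Γ(Curv2.bc k X K, U')⁄K] 1).map
        (algebraMap Γ(Curv2.bc k X K, U') ((Curv2.bc k X K).presheaf.stalk xb)) :=
    FittH8.fitt_localization (hU'.primeIdealOf ⟨xb, hxbU'⟩).asIdeal.primeCompl
      ((Curv2.bc k X K).presheaf.stalk xb) Ω[(Curv2.bc k X K).presheaf.stalk xb⁄K]
      (KaehlerDifferential.map K K Γ(Curv2.bc k X K, U') ((Curv2.bc k X K).presheaf.stalk xb)) 1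
  have hcomp : (algebraMap Γ(Curv2.bc k X K, U') ((Curv2.bc k X K).presheaf.stalk xb)).comp
      ((Curv2.bcFst k X K).appLE U U' hU'U).hom =
      ((Curv2.bcFst k X K).stalkMap xb).hom.comp
        (X.presheaf.germ U (Curv2.bcFst k X K xb) hxU).hom := by
    ext r
    show ((Curv2.bc k X K).presheaf.germ U' xb hxbU').hom
        (((Curv2.bc k X K).presheaf.map (homOfLE hU'U).op).hom
          (((Curv2.bcFst k X K).app U).hom r)) =
      ((Curv2.bcFst k X K).stalkMap xb).hom
        ((X.presheaf.germ U (Curv2.bcFst k X K xb) hxU).hom r)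
    rw [TopCat.Presheaf.germ_res_apply]
    exact (Scheme.Hom.germ_stalkMap_apply (Curv2.bcFst k X K) U xb hxU r).symm
  rw [h2, h1, Ideal.map_map, Ideal.map_map, hcomp]

end Fitt

end Groth.Agent.Lib.NodeGorH3
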