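import Mathlib
import Groth.Prelude
import Groth.Agent.Lib.NodeGor1_helper3
import Groth.Agent.Lib.NodeCrit7_helper3
import Groth.Agent.Lib.FittFibre1_helper3
import Groth.Agent.Lib.FittFibre2_helper3
import Groth.Agent.Lib.AffDim5_helper8
import Groth.Agent.Lib.LocDimEt_helper8

/-!
# Nodal curves are Gorenstein and geometrically reduced, part 2: generizations of nodes (helper3)

* `fitt_germ_eq_maximalIdeal` : at a node, the first Fitting ideal of `Ω` generates the maximal
  ideal of the local ring.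
* `isSmoothAt_of_fitt` : ring-level: a proper generization of such a point on a curve is smooth.
* `smooth_or_node` : on an at-worst-nodal curve, every point (closed or not) has a smooth
  neighbourhood or is a node.

APPEND-ONLY once landed.
-/

set_option autoImplicit false
set_option linter.style.haveILetI false
universe u

open CategoryTheory CategoryTheory.Limits AlgebraicGeometry IsLocalRing TensorProduct

namespace Groth.Agent.Lib.NodeGorH3

open Groth.Agent.Lib.NodeCritH3

section Ring

variable (k : Type u) [Field k] (R : Type u) [CommRing R] [Algebra k R] [Algebra.FiniteType k R]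

theorem isSmoothAt_of_fitt (p0 p : Ideal R) [p0.IsPrime] [p.IsPrime] (hle : p ≤ p0) (hne : p ≠ p0)
    (A : Type u) [CommRing A] [IsLocalRing A] [Algebra R A] [IsLocalization.AtPrime A p0]
    (hJ : (Fitt.ideal R Ω[R⁄k] 1).map (algebraMap R A) = maximalIdeal A)
    (hdim : FlatMor.localDim (PrimeSpectrum R) ⟨p, inferInstance⟩ = 1) :
    Algebra.IsSmoothAt k p := by
  have hnot : ¬ Fitt.ideal R Ω[R⁄k] 1 ≤ p := by
    intro hJp
    apply hne
    apply le_antisymm hle
    have h1 : maximalIdeal A ≤ p.map (algebraMap R A) := by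
      rw [← hJ]
      exact Ideal.map_mono hJp
    rw [← IsLocalization.AtPrime.map_eq_maximalIdeal p0 A] at h1
    have h2 := Ideal.comap_mono (f := algebraMap R A) h1
    have hdisj : Disjoint (p0.primeCompl : Set R) p :=
      Set.disjoint_left.2 fun a ha hap => ha (hle hap)
    have hdisj0 : Disjoint (p0.primeCompl : Set R) p0 :=
      Set.disjoint_left.2 fun a ha hap => ha hap
    have e1 := IsLocalization.under_map_of_isPrime_disjoint p0.primeCompl A
      (inferInstance : p.IsPrime) hdisj
    have e0 := IsLocalization.under_map_of_isPrime_disjoint p0.primeCompl A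
      (inferInstance : p0.IsPrime) hdisj0
    change (p0.map (algebraMap R A)).under R ≤ (p.map (algebraMap R A)).under R at h2
    rwa [e1, e0] at h2
  rw [Groth.Agent.Lib.FittFibreH3.fitt_le_iff_lt_finrank, not_lt] at hnot
  rw [Groth.Agent.Lib.FittFibreH3.isSmoothAt_iff_finrank_le, hdim]
  exact_mod_cast hnot

end Ring

section Scheme

variable (k : Type u) [Field k] (X : Scheme.{u}) [X.Over (Spec (CommRingCat.of k))]
  [LocallyOfFiniteType (X ↘ Spec (CommRingCat.of k))]

set_option maxHeartbeats 3200000 in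
/-- at a node, the first Fitting ideal of `Ω` generates the maximal ideal of the local ring. -/
theorem fitt_germ_eq_maximalIdeal (x0 : X) (hnode : Curv2.IsNode k X x0) {U : X.Opens}
    (hU : IsAffineOpen U) (hx0 : x0 ∈ U) :
    letI := secAlg k X U
    (Fitt.ideal Γ(X, U) Ω[Γ(X, U)⁄k] 1).map (X.presheaf.germ U x0 hx0).hom =
      maximalIdeal (X.presheaf.stalk x0) := by
  letI := secAlg k X U
  obtain ⟨hcl, xb, hxb, hodp⟩ := hnode
  subst hxb
  letI ovB : (Curv2.bc k X (AlgebraicClosure k)).Over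
      (Spec (CommRingCat.of (AlgebraicClosure k))) := ⟨Curv2.bcSnd k X (AlgebraicClosure k)⟩
  letI algKA' := Curv2.stalkAlgebra (AlgebraicClosure k) (Curv2.bc k X (AlgebraicClosure k)) xb
  letI algAA' : Algebra (X.presheaf.stalk (Curv2.bcFst k X (AlgebraicClosure k) xb))
      ((Curv2.bc k X (AlgebraicClosure k)).presheaf.stalk xb) :=
    ((Curv2.bcFst k X (AlgebraicClosure k)).stalkMap xb).hom.toAlgebra
  obtain ⟨hNA, hNA', hflat, hK⟩ := geom_package k X (AlgebraicClosure k) xb hcl
  haveI := hNA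
  haveI := hNA'
  haveI := hflat
  haveI : IsLocalHom (algebraMap (X.presheaf.stalk (Curv2.bcFst k X (AlgebraicClosure k) xb))
      ((Curv2.bc k X (AlgebraicClosure k)).presheaf.stalk xb)) :=
    show IsLocalHom ((Curv2.bcFst k X (AlgebraicClosure k)).stalkMap xb).hom from inferInstance
  obtain ⟨hred', h2', x', y', hx', hy', hgen', hxy⟩ :=
    split_of_isOrdDoublePt (AlgebraicClosure k)
      ((Curv2.bc k X (AlgebraicClosure k)).presheaf.stalk xb) hK hodp
  obtain ⟨hfinΩ, -, -⟩ := fitt_stalk k X (AlgebraicClosure k) xb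
  haveI := hfinΩ
  have hI := fitt_stalk_chart k X (AlgebraicClosure k) xb hU hx0
  have hfitt := fitt_kaehler_of_split (AlgebraicClosure k)
    ((Curv2.bc k X (AlgebraicClosure k)).presheaf.stalk xb) hK h2' x' y' hx' hy' hgen' hxy
  rw [hfitt] at hI
  obtain ⟨I, hIdef⟩ : ∃ I : Ideal (X.presheaf.stalk (Curv2.bcFst k X (AlgebraicClosure k) xb)),
      I = (Fitt.ideal Γ(X, U) Ω[Γ(X, U)⁄k] 1).map
        (X.presheaf.germ U (Curv2.bcFst k X (AlgebraicClosure k) xb) hx0).hom := ⟨_, rfl⟩
  rw [← hIdef] at hI ⊢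
  have hI' : maximalIdeal ((Curv2.bc k X (AlgebraicClosure k)).presheaf.stalk xb) =
      I.map (algebraMap (X.presheaf.stalk (Curv2.bcFst k X (AlgebraicClosure k) xb))
        ((Curv2.bc k X (AlgebraicClosure k)).presheaf.stalk xb)) := hI
  have hIle : I ≤ maximalIdeal (X.presheaf.stalk (Curv2.bcFst k X (AlgebraicClosure k) xb)) := by
    apply IsLocalRing.le_maximalIdeal
    rintro rfl
    rw [Ideal.map_top] at hI'
    exact Ideal.IsPrime.ne_top' hI'
  have hmap : (maximalIdeal (X.presheaf.stalk (Curv2.bcFst k X (AlgebraicClosure k) xb))).map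
      (algebraMap (X.presheaf.stalk (Curv2.bcFst k X (AlgebraicClosure k) xb))
        ((Curv2.bc k X (AlgebraicClosure k)).presheaf.stalk xb)) =
      maximalIdeal ((Curv2.bc k X (AlgebraicClosure k)).presheaf.stalk xb) := by
    apply le_antisymm
    · have hloc : IsLocalHom (algebraMap
          (X.presheaf.stalk (Curv2.bcFst k X (AlgebraicClosure k) xb))
          ((Curv2.bc k X (AlgebraicClosure k)).presheaf.stalk xb)) := inferInstance
      exact ((local_hom_TFAE (algebraMap
        (X.presheaf.stalk (Curv2.bcFst k X (AlgebraicClosure k) xb))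
        ((Curv2.bc k X (AlgebraicClosure k)).presheaf.stalk xb))).out 0 2).mp hloc
    · rw [hI']
      exact Ideal.map_mono hIle
  haveI : Module.FaithfullyFlat (X.presheaf.stalk (Curv2.bcFst k X (AlgebraicClosure k) xb))
      ((Curv2.bc k X (AlgebraicClosure k)).presheaf.stalk xb) :=
    Module.FaithfullyFlat.of_flat_of_isLocalHom
  have h1 : I.map (algebraMap (X.presheaf.stalk (Curv2.bcFst k X (AlgebraicClosure k) xb))
        ((Curv2.bc k X (AlgebraicClosure k)).presheaf.stalk xb)) =
      (maximalIdeal (X.presheaf.stalk (Curv2.bcFst k X (AlgebraicClosure k) xb))).map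
        (algebraMap (X.presheaf.stalk (Curv2.bcFst k X (AlgebraicClosure k) xb))
          ((Curv2.bc k X (AlgebraicClosure k)).presheaf.stalk xb)) := by
    rw [hmap, ← hI']
  have h2 := congrArg (Ideal.comap (algebraMap
    (X.presheaf.stalk (Curv2.bcFst k X (AlgebraicClosure k) xb))
    ((Curv2.bc k X (AlgebraicClosure k)).presheaf.stalk xb))) h1
  rwa [Ideal.comap_map_eq_self_of_faithfullyFlat, Ideal.comap_map_eq_self_of_faithfullyFlat] at h2

set_option maxHeartbeats 1600000 in
/-- a proper generization of a node on a curve has a smooth neighbourhood. -/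
theorem smooth_nhd_of_specializes_node
    (hequi : ∀ Z ∈ irreducibleComponents (X : Type u), topologicalKrullDim Z = 1)
    (x0 x : X) (hnode : Curv2.IsNode k X x0) (hsp : x ⤳ x0) (hne : x ≠ x0) :
    ∃ V : X.Opens, x ∈ V ∧ Smooth (V.ι ≫ (X ↘ Spec (CommRingCat.of k))) := by
  obtain ⟨_, ⟨U, hU : IsAffineOpen U, rfl⟩, hx0, -⟩ :=
    (X.isBasis_affineOpens).exists_subset_of_mem_open (Set.mem_univ x0) isOpen_univ
  have hx : x ∈ U := hsp.mem_open U.2 hx0
  rw [smooth_nhd_iff_chart k X hU x hx]
  letI := secAlg k X U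
  haveI := finiteType_secAlg k X hU
  letI algRA : Algebra Γ(X, U) (X.presheaf.stalk x0) :=
    TopCat.Presheaf.algebra_section_stalk X.presheaf ⟨x0, hx0⟩
  haveI hloc : IsLocalization.AtPrime (X.presheaf.stalk x0)
      (hU.primeIdealOf ⟨x0, hx0⟩).asIdeal := hU.isLocalization_stalk ⟨x0, hx0⟩
  show Algebra.IsSmoothAt k (hU.primeIdealOf ⟨x, hx⟩).asIdeal
  have hsp' : hU.primeIdealOf ⟨x, hx⟩ ⤳ hU.primeIdealOf ⟨x0, hx0⟩ := by
    refine (hU.fromSpec.isOpenEmbedding.isInducing.specializes_iff).1 ?_
    rw [hU.fromSpec_primeIdealOf ⟨x, hx⟩, hU.fromSpec_primeIdealOf ⟨x0, hx0⟩]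
    exact hsp
  refine isSmoothAt_of_fitt k Γ(X, U) (hU.primeIdealOf ⟨x0, hx0⟩).asIdeal
    (hU.primeIdealOf ⟨x, hx⟩).asIdeal ((PrimeSpectrum.le_iff_specializes _ _).2 hsp') ?_
    (X.presheaf.stalk x0) (fitt_germ_eq_maximalIdeal k X x0 hnode hU hx0) ?_
  · intro h
    apply hne
    have h' : hU.primeIdealOf ⟨x, hx⟩ = hU.primeIdealOf ⟨x0, hx0⟩ := PrimeSpectrum.ext h
    have := congrArg (fun q => hU.fromSpec q) h'
    simpa only [hU.fromSpec_primeIdealOf] using this
  · have h1 := LocDimEtH8.localDim_etale hU.fromSpec (hU.primeIdealOf ⟨x, hx⟩)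
    have h2 := Groth.Agent.Lib.AffDimH8.localDim_eq_of_equidim k X
      (X ↘ Spec (CommRingCat.of k)) 1 hequi (hU.fromSpec (hU.primeIdealOf ⟨x, hx⟩))
    rw [h2] at h1
    exact h1

/-- on an at-worst-nodal curve, every point has a smooth neighbourhood or is a node. -/
theorem smooth_or_node
    (hequi : ∀ Z ∈ irreducibleComponents (X : Type u), topologicalKrullDim Z = 1)
    (hX : Curv2.AtWorstNodal k X) (x : X) :
    (∃ V : X.Opens, x ∈ V ∧ Smooth (V.ι ≫ (X ↘ Spec (CommRingCat.of k)))) ∨
      Curv2.IsNode k X x := by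
  by_cases hcl : IsClosed ({x} : Set X)
  · exact hX x hcl
  · left
    haveI : JacobsonSpace X := LocallyOfFiniteType.jacobsonSpace (X ↘ Spec (CommRingCat.of k))
    obtain ⟨x0, hx0, hx0cl⟩ := nonempty_inter_closedPoints
      (Z := closure ({x} : Set X)) ⟨x, subset_closure rfl⟩ isClosed_closure.isLocallyClosed
    have hsp : x ⤳ x0 := specializes_iff_mem_closure.2 hx0
    have hne : x ≠ x0 := by
      rintro rfl
      exact hcl hx0cl
    rcases hX x0 hx0cl with ⟨V, hx0V, hV⟩ | hnode
    · exact ⟨V, hsp.mem_open V.2 hx0V, hV⟩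
    · exact smooth_nhd_of_specializes_node k X hequi x0 x hnode hsp hne

end Scheme

end Groth.Agent.Lib.NodeGorH3
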