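import Mathlib
import Groth.Prelude
import Groth.Agent.Lib.NodeGor2_helper3
import Groth.Agent.Lib.NodeDesc1_helper3
import Groth.Agent.Lib.QuadNode6_helper3
import Groth.Agent.Lib.SmoothRegField_helper3
import Groth.Agent.Lib.RegPS_helper3
import Groth.Agent.Lib.AnUnram_helper3
import Groth.Agent.Lib.Regular_helper5
import Groth.Agent.Lib.SchDual_helper6
import Groth.Agent.Lib.TopDimLoc_helper8
import Groth.Agent.S0342
import Groth.Agent.S0343
import Groth.Agent.S0344

/-!
# Nodal curves are Gorenstein and geometrically reduced, part 3 (helper3)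

* `regular_stalk_of_formallySmooth` : a point of a scheme l.f.t. over a field with formally smooth
  stalk map has a regular local ring.
* `gorenstein_quad` : `κ[[u, v]]/(a u² + b u v + c v²)` is Gorenstein.
* `gorenstein_of_completion` : a Noetherian local ring with Gorenstein completion is Gorenstein.
* `main1589`.

APPEND-ONLY once landed.
-/

set_option autoImplicit false
set_option linter.style.haveILetI false
set_option maxSynthPendingDepth 3
universe u

open CategoryTheory CategoryTheory.Limits AlgebraicGeometry IsLocalRing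

attribute [local instance] Curv2.resAlgebra Curv2.stalkAlgebra

namespace Groth.Agent.Lib.NodeGorH3

open Groth.Agent.Lib.NodeCritH3 Groth.Agent.Lib.UnramLocH4 Groth.Agent.Lib.QuadNodeH3

section Regular

/-- a point with formally smooth stalk map over a field has a regular local ring. -/
theorem regular_stalk_of_formallySmooth (K : Type u) [Field K] (Y : Scheme.{u})
    (g : Y ⟶ Spec (CommRingCat.of K)) [LocallyOfFiniteType g] (y : Y)
    (h : (g.stalkMap y).hom.FormallySmooth) : IsRegularLocalRing (Y.presheaf.stalk y) := by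
  haveI : IsLocallyNoetherian Y := LocallyOfFiniteType.isLocallyNoetherian g
  letI alg : Algebra ((Spec (CommRingCat.of K)).presheaf.stalk (g y)) (Y.presheaf.stalk y) :=
    (g.stalkMap y).hom.toAlgebra
  haveI : Algebra.FormallySmooth ((Spec (CommRingCat.of K)).presheaf.stalk (g y))
      (Y.presheaf.stalk y) := h
  obtain ⟨φ, hφ⟩ := Groth.Agent.Lib.SmoothRegFieldH3.exists_bijective_stalk_spec_field K (g y)
  exact Groth.Agent.Lib.SmoothRegFieldH3.regular_of_formallySmooth_of_bijective φ hφ

end Regular

section Gor

/-- `κ[[u, v]]/(a u² + b u v + c v²)` is Gorenstein when the discriminant is nonzero. -/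
theorem gorenstein_quad (κ : Type u) [Field κ] (a b c : κ) (h : 4 * a * c - b ^ 2 ≠ 0) :
    LocCoh.IsGorensteinLocalRing (MvPowerSeries (Fin 2) κ ⧸ Ideal.span
      {(MvPowerSeries.C a * MvPowerSeries.X 0 ^ 2 + MvPowerSeries.C b * MvPowerSeries.X 0 *
        MvPowerSeries.X 1 + MvPowerSeries.C c * MvPowerSeries.X 1 ^ 2 :
          MvPowerSeries (Fin 2) κ)}) := by
  change LocCoh.IsGorensteinLocalRing (MvPowerSeries (Fin 2) κ ⧸ Ideal.span {quad a b c})
  haveI hreg : IsRegularLocalRing (MvPowerSeries (Fin 2) κ) :=
    Groth.Agent.Lib.RegPSH3.isRegularLocalRing_mvPowerSeries κ 2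
  haveI : IsDomain (MvPowerSeries (Fin 2) κ) := Groth.Agent.RegularLib.isDomain _
  have hG : LocCoh.IsGorensteinLocalRing (MvPowerSeries (Fin 2) κ) := Groth.Agent.S0342.result _
  have hne : quad a b c ≠ 0 := by
    intro h0
    apply quad_not_mem_cube a b c h
    rw [h0]
    exact Ideal.zero_mem _
  have hmem : quad a b c ∈ maximalIdeal (MvPowerSeries (Fin 2) κ) :=
    Ideal.pow_le_self two_ne_zero (quad_mem_sq κ a b c)
  exact (Groth.Agent.S0343.result (MvPowerSeries (Fin 2) κ) (quad a b c) hmem
    (IsRegular.of_ne_zero hne).left.isSMulRegular).1 hG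

/-- a Noetherian local ring with Gorenstein completion is Gorenstein. -/
theorem gorenstein_of_completion (A : Type u) [CommRing A] [IsLocalRing A] [IsNoetherianRing A]
    (h : LocCoh.IsGorensteinLocalRing (AdicCompletion (maximalIdeal A) A)) :
    LocCoh.IsGorensteinLocalRing A := by
  obtain ⟨h1, h2, -, hff, hloc, -⟩ := Groth.Agent.Lib.AnUnramH3.completion_facts A
  haveI := hff
  haveI := hloc
  haveI : Module.Flat A (AdicCompletion (maximalIdeal A) A) := inferInstance
  exact ((Groth.Agent.S0344.result A (AdicCompletion (maximalIdeal A) A)).1 h).1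

end Gor

section Main

variable (k : Type u) [Field k] (X : Scheme.{u}) [X.Over (Spec (CommRingCat.of k))]
  [LocallyOfFiniteType (X ↘ Spec (CommRingCat.of k))]

/-- the local ring at a node is Gorenstein. -/
theorem gorenstein_stalk_of_node (x : X) (hnode : Curv2.IsNode k X x) :
    LocCoh.IsGorensteinLocalRing (X.presheaf.stalk x) := by
  haveI : IsLocallyNoetherian X :=
    LocallyOfFiniteType.isLocallyNoetherian (X ↘ Spec (CommRingCat.of k))
  obtain ⟨-, a, b, c, hdisc, e, -⟩ := (main1587 k X x hnode.1).1 hnode
  haveI := gorenstein_quad (X.residueField x) a b c hdisc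
  have hG : LocCoh.IsGorensteinLocalRing
      (AdicCompletion (maximalIdeal (X.presheaf.stalk x)) (X.presheaf.stalk x)) :=
    Groth.Agent.Lib.SchDual_helper6.isGorensteinLocalRing_of_ringEquiv e
  exact gorenstein_of_completion _ hG

/-- the local ring at a point with a smooth neighbourhood is Gorenstein. -/
theorem gorenstein_stalk_of_smooth (x : X)
    (h : ∃ V : X.Opens, x ∈ V ∧ Smooth (V.ι ≫ (X ↘ Spec (CommRingCat.of k)))) :
    LocCoh.IsGorensteinLocalRing (X.presheaf.stalk x) := by
  haveI := regular_stalk_of_formallySmooth k X (X ↘ Spec (CommRingCat.of k)) x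
    ((smooth_nhd_iff_stalk k X x).1 h)
  exact Groth.Agent.S0342.result _

variable (K : Type u) [Field K] [Algebra k K]

/-- stalks of `X_K` over points with a smooth neighbourhood are reduced. -/
theorem isReduced_stalk_bc_of_smooth (y : Curv2.bc k X K)
    (h : ∃ V : X.Opens, Curv2.bcFst k X K y ∈ V ∧
      Smooth (V.ι ≫ (X ↘ Spec (CommRingCat.of k)))) :
    IsReduced ((Curv2.bc k X K).presheaf.stalk y) := by
  haveI := lfp_over k X
  haveI : LocallyOfFinitePresentation (Curv2.bcSnd k X K) :=
    MorphismProperty.pullback_snd (P := @LocallyOfFinitePresentation) _ _ inferInstance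
  haveI : LocallyOfFiniteType (Curv2.bcSnd k X K) := inferInstance
  have h0 := (smooth_nhd_iff_stalk k X _).1 h
  have sq : IsPullback (Curv2.bcFst k X K) (Curv2.bcSnd k X K) (X ↘ Spec (CommRingCat.of k))
      (Spec.map (CommRingCat.ofHom (algebraMap k K))) := IsPullback.of_hasPullback _ _
  have h1 := stalk_smooth_baseChange sq y h0
  haveI := regular_stalk_of_formallySmooth K (Curv2.bc k X K) (Curv2.bcSnd k X K) y h1
  haveI : IsDomain ((Curv2.bc k X K).presheaf.stalk y) := Groth.Agent.RegularLib.isDomain _
  infer_instance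

/-- stalks of `X_K` over nodes are reduced. -/
theorem isReduced_stalk_bc_of_node (hdim : topologicalKrullDim X ≤ 1) (y : Curv2.bc k X K)
    (hnode : Curv2.IsNode k X (Curv2.bcFst k X K y)) :
    IsReduced ((Curv2.bc k X K).presheaf.stalk y) := by
  letI ovY : (Curv2.bc k X K).Over (Spec (CommRingCat.of K)) := ⟨Curv2.bcSnd k X K⟩
  haveI : LocallyOfFiniteType ((Curv2.bc k X K) ↘ Spec (CommRingCat.of K)) :=
    MorphismProperty.pullback_snd (P := @LocallyOfFiniteType) _ _ inferInstance
  haveI : IsLocallyNoetherian (Curv2.bc k X K) :=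
    LocallyOfFiniteType.isLocallyNoetherian ((Curv2.bc k X K) ↘ Spec (CommRingCat.of K))
  have hy := (Groth.Agent.Lib.NodeDescH3.isNode_iff_bc k X hdim K y).1 hnode
  obtain ⟨-, a, b, c, hdisc, e, -⟩ := (main1587 K (Curv2.bc k X K) y hy.1).1 hy
  exact (ii_to_i ((Curv2.bc k X K).presheaf.stalk y) a b c hdisc e).1

set_option maxHeartbeats 1600000 in
theorem main1589
    (hequi : ∀ Z ∈ irreducibleComponents (X : Type u), topologicalKrullDim Z = 1)
    (hX : Curv2.AtWorstNodal k X) :
    (∀ x : X, LocCoh.IsGorensteinLocalRing (X.presheaf.stalk x)) ∧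
      GeometricallyReduced (X ↘ (Spec (CommRingCat.of k))) := by
  constructor
  · intro x
    rcases smooth_or_node k X hequi hX x with h | hnode
    · exact gorenstein_stalk_of_smooth k X x h
    · exact gorenstein_stalk_of_node k X x hnode
  · have hdim : topologicalKrullDim X ≤ 1 :=
      (TopDimLocH8.topDim_le_iff_forall_localDim X 1).2 (fun t =>
        (Groth.Agent.Lib.AffDimH8.localDim_eq_of_equidim k X (X ↘ Spec (CommRingCat.of k)) 1
          hequi t).le)
    rw [geometricallyReduced_iff, geometrically_iff_of_commRing_of_isClosedUnderIsomorphisms]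
    intro K _ _
    show IsReduced (Curv2.bc k X K)
    haveI : ∀ y : Curv2.bc k X K, _root_.IsReduced ((Curv2.bc k X K).presheaf.stalk y) := by
      intro y
      rcases smooth_or_node k X hequi hX (Curv2.bcFst k X K y) with h | hnode
      · exact isReduced_stalk_bc_of_smooth k X K y h
      · exact isReduced_stalk_bc_of_node k X K hdim y hnode
    exact isReduced_of_isReduced_stalk _

end Main

end Groth.Agent.Lib.NodeGorH3
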