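import Mathlib
import Groth.Agent.Lib.RedNorm3_helper6
import Groth.Agent.Lib.DimOne2_helper3

/-!
# Normalization of a reduced Noetherian local ring of dimension one (helper6), part 5:
localizations at maximal ideals are discrete valuation rings
-/

set_option autoImplicit false
universe u

namespace Groth.Agent.Lib.RedNorm

open scoped nonZeroDivisors
open IsLocalRing

variable {A : Type u} [CommRing A]

theorem isDiscreteValuationRing_localization [IsLocalRing A] [IsReduced A] [IsNoetherianRing A]
    (hdim : ringKrullDim A = 1) [Module.Finite A (integralClosure A (FractionRing A))]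
    (m' : Ideal (integralClosure A (FractionRing A))) [m'.IsMaximal] :
    ∃ _ : IsDomain (Localization.AtPrime m'), IsDiscreteValuationRing (Localization.AtPrime m') := by
  have hfin := minimalPrimes.finite_of_isNoetherianRing A
  obtain ⟨hdom, hic⟩ := localization_isDomain_isIntegrallyClosed hfin m'
  refine ⟨hdom, ?_⟩
  haveI : IsNoetherian A (integralClosure A (FractionRing A)) :=
    isNoetherian_of_isNoetherianRing_of_finite A _
  haveI : IsNoetherianRing (integralClosure A (FractionRing A)) :=
    isNoetherian_of_tower A inferInstance
  haveI : IsNoetherianRing (Localization.AtPrime m') :=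
    IsLocalization.isNoetherianRing m'.primeCompl _ inferInstance
  haveI : Algebra.IsIntegral A (integralClosure A (FractionRing A)) := inferInstance
  -- a nonzerodivisor in the maximal ideal
  obtain ⟨t, htm, htmin⟩ := Groth.Agent.Lib.DimOne2_helper3.exists_notMem_minimalPrimes hdim
  have htnz : t ∈ A⁰ := mem_nonZeroDivisors_of_forall_notMem t htmin
  have hcomap_m' : m'.comap (algebraMap A (integralClosure A (FractionRing A))) =
      maximalIdeal A := by
    haveI : (m'.comap (algebraMap A (integralClosure A (FractionRing A)))).IsMaximal :=
      Ideal.isMaximal_comap_of_isIntegral_of_isMaximal m'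
    exact IsLocalRing.eq_maximalIdeal ‹_›
  have htm' : algebraMap A (integralClosure A (FractionRing A)) t ∈ m' := by
    have : t ∈ m'.comap (algebraMap A (integralClosure A (FractionRing A))) := by
      rw [hcomap_m']; exact htm
    exact this
  -- `t` is a nonzerodivisor on the normalization
  have htB : ∀ s : integralClosure A (FractionRing A),
      s * algebraMap A (integralClosure A (FractionRing A)) t = 0 → s = 0 := by
    intro s hs
    apply Subtype.ext
    have h1 : s.1 * algebraMap A (FractionRing A) t = 0 := congrArg Subtype.val hs
    have hu : IsUnit (algebraMap A (FractionRing A) t) :=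
      IsLocalization.map_units (FractionRing A) (⟨t, htnz⟩ : A⁰)
    exact (hu.mul_left_eq_zero).1 h1
  -- the maximal ideal of the localization is nonzero
  have hcomap_max : (maximalIdeal (Localization.AtPrime m')).comap
      (algebraMap (integralClosure A (FractionRing A)) (Localization.AtPrime m')) = m' :=
    IsLocalization.AtPrime.comap_maximalIdeal (Localization.AtPrime m') m'
  have hmne : maximalIdeal (Localization.AtPrime m') ≠ ⊥ := by
    intro hbot
    have h1 : algebraMap (integralClosure A (FractionRing A)) (Localization.AtPrime m')
        (algebraMap A (integralClosure A (FractionRing A)) t) = 0 := by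
      have : algebraMap A (integralClosure A (FractionRing A)) t ∈
          (maximalIdeal (Localization.AtPrime m')).comap
            (algebraMap (integralClosure A (FractionRing A)) (Localization.AtPrime m')) := by
        rw [hcomap_max]; exact htm'
      rw [Ideal.mem_comap, hbot] at this
      exact this
    rw [IsLocalization.map_eq_zero_iff m'.primeCompl] at h1
    obtain ⟨s, hs⟩ := h1
    have h2 : (s : integralClosure A (FractionRing A)) = 0 := htB s (hs)
    exact s.2 (h2 ▸ m'.zero_mem)
  have hnf : ¬ IsField (Localization.AtPrime m') :=
    fun hf => hmne (IsLocalRing.isField_iff_maximalIdeal_eq.1 hf)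
  have h30 : (IsIntegrallyClosed (Localization.AtPrime m') ∧
      ∃! P : Ideal (Localization.AtPrime m'), P ≠ ⊥ ∧ P.IsPrime) ↔
      IsDiscreteValuationRing (Localization.AtPrime m') :=
    (IsDiscreteValuationRing.TFAE (Localization.AtPrime m') hnf).out 3 0
  refine h30.1 ⟨hic, maximalIdeal _, ⟨hmne, inferInstance⟩, ?_⟩
  rintro P' ⟨hP0, hPp⟩
  by_contra hne
  apply hP0
  -- contraction to the normalization
  set Q := P'.comap (algebraMap (integralClosure A (FractionRing A)) (Localization.AtPrime m'))
    with hQ
  set Q₀ := (⊥ : Ideal (Localization.AtPrime m')).comap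
    (algebraMap (integralClosure A (FractionRing A)) (Localization.AtPrime m')) with hQ₀
  haveI : Q.IsPrime := Ideal.comap_isPrime _ _
  haveI : Q₀.IsPrime := Ideal.comap_isPrime _ _
  have hQ₀Q : Q₀ ≤ Q := Ideal.comap_mono bot_le
  have hQm : Q ≤ m' := by
    rw [← hcomap_max]
    exact Ideal.comap_mono (IsLocalRing.le_maximalIdeal hPp.ne_top)
  have hmapQ : Q.map (algebraMap (integralClosure A (FractionRing A)) (Localization.AtPrime m'))
      = P' := IsLocalization.map_comap m'.primeCompl _ P'
  have hQne : Q ≠ m' := by
    intro h
    apply hne
    rw [← hmapQ, h]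
    exact IsLocalization.AtPrime.map_eq_maximalIdeal m' (Localization.AtPrime m')
  have hQlt : Q < m' := lt_of_le_of_ne hQm hQne
  have h1 := Ideal.IsIntegral.comap_lt_comap (R := A) hQlt
  rw [hcomap_m'] at h1
  -- `Q ∩ A` is a minimal prime
  have hQA : Q.comap (algebraMap A (integralClosure A (FractionRing A))) ∈ minimalPrimes A := by
    rcases Groth.Agent.Lib.DimOne2_helper3.primes_of_dim_one hdim _
      (Ideal.comap_isPrime (algebraMap A (integralClosure A (FractionRing A))) Q) with h | h
    · exact h
    · exact absurd (IsLocalRing.eq_maximalIdeal h) (ne_of_lt h1)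
  have hQ₀eq : Q₀ = Q := by
    by_contra hne'
    have hlt : Q₀ < Q := lt_of_le_of_ne hQ₀Q hne'
    have h2 := Ideal.IsIntegral.comap_lt_comap (R := A) hlt
    have h3 := hQA.2 ⟨Ideal.comap_isPrime (algebraMap A (integralClosure A (FractionRing A))) Q₀,
      bot_le⟩ (le_of_lt h2)
    exact absurd h3 (not_le_of_gt h2)
  rw [← hmapQ, ← hQ₀eq, hQ₀, IsLocalization.map_comap m'.primeCompl]

end Groth.Agent.Lib.RedNorm
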