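import Mathlib
import Groth.Prelude
import Groth.Agent.Lib.Snap12_helper9
import Groth.Agent.Lib.Snap72_helper9
import Groth.Agent.Lib.Snap74_helper9
import Groth.Agent.Lib.CurveDeg1_helper9
import Groth.Agent.Lib.CurveIdeal1_helper9
import Groth.Agent.Lib.AssPt1_helper8
import Groth.Agent.Lib.FibRegSeq2_helper8
import Groth.Agent.Lib.LocDimProd_helper8
import Groth.Agent.Lib.ClosHt_helper8
import Groth.Agent.Lib.FiniteRegFree_helper3
import Groth.Agent.Lib.AnnSh_helper8

/-!
# The intersection number of two effective Cartier divisors without common component on a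
Cohen–Macaulay surface is the length of their scheme-theoretic intersection (helper9)

APPEND-ONLY once landed.
-/

set_option autoImplicit false
universe u
open CategoryTheory CategoryTheory.Limits AlgebraicGeometry Opposite TopologicalSpace
open TensorProduct MonoidalCategory

namespace Snap9

open QcqsLoc QCohExtn SerreCrit GenLocH8 TensH8 Groth.Agent.TensInv FLFH8

section Top

/-- in a Jacobson space the points of a finite closed set are closed -/
theorem isClosed_singleton_of_finite_closed {T : Type*} [TopologicalSpace T] [JacobsonSpace T]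
    {Z : Set T} (hZ : IsClosed Z) (hfin : Z.Finite) {x : T} (hx : x ∈ Z) :
    IsClosed ({x} : Set T) := by
  have h1 := JacobsonSpace.closure_inter_closedPoints_eq_closure hZ.isLocallyClosed
  have h2 : IsClosed (Z ∩ closedPoints T) := by
    rw [← Set.biUnion_of_singleton (Z ∩ closedPoints T)]
    exact (hfin.subset Set.inter_subset_left).isClosed_biUnion (fun y hy => hy.2)
  rw [h2.closure_eq, hZ.closure_eq] at h1
  have h3 : x ∈ Z ∩ closedPoints T := by rw [h1]; exact hx
  exact h3.2

variable {X : Scheme.{u}}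

/-- if all irreducible components have dimension `≤ d`, so has the scheme -/
theorem dim_le_of_components (d : ℕ)
    (hdim : ∀ Z ∈ irreducibleComponents (X : Type u), topologicalKrullDim Z ≤ d) :
    topologicalKrullDim X ≤ d := by
  rw [Groth.Agent.ClosHtH8.topologicalKrullDim_eq_iSup_height]
  refine iSup_le fun a => ?_
  rw [← Groth.Agent.ClosHtH8.topologicalKrullDim_closure_singleton X a]
  have hsub : closure ({a} : Set X) ⊆ irreducibleComponent a :=
    isClosed_irreducibleComponent.closure_subset_iff.mpr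
      (Set.singleton_subset_iff.mpr mem_irreducibleComponent)
  refine le_trans ?_ (hdim _ (irreducibleComponent_mem_irreducibleComponents a))
  exact (Topology.IsEmbedding.inclusion hsub).isInducing.topologicalKrullDim_le

/-- the local ring at a closed point of an equidimensional scheme of dimension `d`, locally of finite
type over a field, has dimension `d` -/
theorem ringKrullDim_stalk_of_closed (k : Type u) [Field k] [X.Over (Spec (CommRingCat.of k))]
    [LocallyOfFiniteType (X ↘ Spec (CommRingCat.of k))] (d : ℕ)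
    (hdim : ∀ Z ∈ irreducibleComponents (X : Type u), topologicalKrullDim Z = d)
    {x : X} (hx : IsClosed ({x} : Set X)) : ringKrullDim (X.presheaf.stalk x) = d := by
  obtain ⟨ξ, hsp, hmax, hh⟩ := LocDimProdH8.exists_max_height_eq k X x
  have h0 : Order.height x = 0 := by
    rw [Order.height_eq_zero]
    intro b hb
    have h1 : x ⤳ b := hb
    rw [specializes_iff_mem_closure, hx.closure_eq, Set.mem_singleton_iff] at h1
    rw [h1]
  have h1 := hdim _ ((Groth.Agent.SchFTH8.closure_mem_irreducibleComponents_iff ξ).mpr hmax)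
  rw [Groth.Agent.ClosHtH8.topologicalKrullDim_closure_singleton X ξ, hh, h0, add_zero] at h1
  rw [AlgebraicGeometry.ringKrullDim_stalk_eq_coheight]
  exact h1

end Top

section Gen

variable {X : Scheme.{u}} (D : X.IdealSheafData) {W : X.Opens} (hW : IsAffineOpen W)
  {e : Γ(ClSub.idealMod D, W)} (he : IsGen (ClSub.idealMod D) W e)

/-- the local equation attached to a generator of the ideal module -/
noncomputable abbrev locEq (_ : IsGen (ClSub.idealMod D) W e) : Γ(X, W) :=
  toFn (ap (ClSub.idealModι D) W e)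

include hW in
theorem locEq_mem : locEq D he ∈ D.ideal ⟨W, hW⟩ := TensH8.idealModι_mem D hW e

include hW in
theorem ideal_eq_span_locEq : D.ideal ⟨W, hW⟩ = Ideal.span {locEq D he} := by
  apply le_antisymm
  · intro d hd
    obtain ⟨t, ht⟩ := TensH8.exists_idealMod_section D hW d hd
    obtain ⟨c, hc⟩ := he.exists_coef t
    rw [hc, ap_smul] at ht
    rw [Ideal.mem_span_singleton']
    exact ⟨c, ht⟩
  · rw [Ideal.span_le, Set.singleton_subset_iff]
    exact locEq_mem D hW he

theorem locEq_regular (a : Γ(X, W)) (ha : a * locEq D he = 0) : a = 0 := by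
  haveI : Mono (ClSub.idealModι D) := inferInstanceAs (Mono (kernel.ι (ClSub.toSubscheme D)))
  have h1 : ap (ClSub.idealModι D) W (a • e) = 0 := by
    rw [ap_smul]
    exact ha
  have h2 : a • e = 0 := by
    have hinj := QCohExact.app_injective_of_mono (ClSub.idealModι D) W
    exact hinj (h1.trans (map_zero _).symm)
  have h3 := (he W le_rfl).2 a
  rw [SubExt.rF_self] at h3
  exact h3 h2

include hW in
theorem mem_support_iff_locEq {x : X} (hxW : x ∈ W) :
    x ∈ D.support ↔ x ∉ X.basicOpen (locEq D he) := by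
  rw [Scheme.IdealSheafData.mem_support_iff_of_mem (U := ⟨W, hW⟩) hxW,
    ideal_eq_span_locEq D hW he, Scheme.zeroLocus_span, Scheme.zeroLocus_singleton]
  rfl

end Gen

section Alg

open RingTheory.Sequence in
/-- the algebraic heart: in a two-dimensional Cohen–Macaulay local ring `A = R_p`, if `V(f, g)` is
the closed point, then `f` is a nonzerodivisor modulo `g` -/
theorem exists_mul_mem_span_of_cm {R A : Type u} [CommRing R] [CommRing A] [Algebra R A]
    (p : Ideal R) [p.IsPrime] [IsLocalization.AtPrime A p]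
    [hA : LocCoh.IsCohenMacaulayLocalRing A] (hdim : ringKrullDim A = 2)
    (f g a : R) (hf : f ∈ p) (hg : g ∈ p) (hfa : f * a ∈ Ideal.span {g})
    (hcl : ∀ q : Ideal R, q.IsPrime → q ≤ p → f ∈ q → g ∈ q → q = p) :
    ∃ t, t ∉ p ∧ t * a ∈ Ideal.span {g} := by
  classical
  haveI : IsLocalRing A := inferInstance
  haveI : IsNoetherianRing A := inferInstance
  have hmemf : algebraMap R A f ∈ IsLocalRing.maximalIdeal A :=
    (IsLocalization.AtPrime.to_map_mem_maximal_iff A p f).mpr hf
  have hmemg : algebraMap R A g ∈ IsLocalRing.maximalIdeal A :=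
    (IsLocalization.AtPrime.to_map_mem_maximal_iff A p g).mpr hg
  have hmem : ∀ r ∈ [algebraMap R A g, algebraMap R A f], r ∈ IsLocalRing.maximalIdeal A := by
    intro r hr
    simp only [List.mem_cons, List.not_mem_nil, or_false] at hr
    rcases hr with rfl | rfl
    · exact hmemg
    · exact hmemf
  have hJle : Ideal.ofList [algebraMap R A g, algebraMap R A f] ≤ IsLocalRing.maximalIdeal A := by
    rw [Ideal.ofList, Ideal.span_le]
    intro r hr
    exact hmem r hr
  haveI : Nontrivial (A ⧸ Ideal.ofList [algebraMap R A g, algebraMap R A f]) :=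
    Ideal.Quotient.nontrivial_iff.mpr (fun h =>
      (IsLocalRing.maximalIdeal.isMaximal A).ne_top (top_le_iff.mp (h ▸ hJle)))
  have hdim0 : ringKrullDim (A ⧸ Ideal.ofList [algebraMap R A g, algebraMap R A f]) = 0 := by
    rw [← ringKrullDimZero_iff_ringKrullDim_eq_zero,
      Ideal.krullDimLE_zero_quotient_iff_forall_minimalPrimes_isMaximal]
    intro P hP
    haveI := hP.1.1
    have hJP : Ideal.ofList [algebraMap R A g, algebraMap R A f] ≤ P := hP.1.2
    have hPm : P ≤ IsLocalRing.maximalIdeal A := IsLocalRing.le_maximalIdeal hP.1.1.ne_top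
    have hq : P.under R = p := by
      refine hcl _ (Ideal.comap_isPrime _ P) ?_ ?_ ?_
      · rw [← IsLocalization.AtPrime.under_maximalIdeal A p]
        exact Ideal.comap_mono hPm
      · exact hJP (Ideal.subset_span (by simp))
      · exact hJP (Ideal.subset_span (by simp))
    have hPeq : P = IsLocalRing.maximalIdeal A := by
      rw [← IsLocalization.map_under p.primeCompl A P, hq,
        IsLocalization.AtPrime.map_eq_maximalIdeal]
    rw [hPeq]
    exact IsLocalRing.maximalIdeal.isMaximal A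
  have hreg : IsRegular A [algebraMap R A g, algebraMap R A f] := by
    rw [Groth.Agent.Lib.FibRegSeqH8.isRegular_iff_dim A _ hmem, hdim0, hdim]
    norm_num
  rw [isRegular_cons_iff] at hreg
  have hreg2 := hreg.2
  rw [isRegular_cons_iff] at hreg2
  have hsm : IsSMulRegular (QuotSMulTop (algebraMap R A g) A) (algebraMap R A f) := hreg2.1
  obtain ⟨b, hb⟩ := Ideal.mem_span_singleton'.mp hfa
  have h1 : algebraMap R A f • (Submodule.Quotient.mk (algebraMap R A a) :
      QuotSMulTop (algebraMap R A g) A) = algebraMap R A f • 0 := by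
    rw [smul_zero, ← Submodule.Quotient.mk_smul, Submodule.Quotient.mk_eq_zero, smul_eq_mul,
      ← map_mul, ← hb, map_mul, mul_comm]
    exact Submodule.smul_mem_pointwise_smul _ _ _ Submodule.mem_top
  have h2 := hsm h1
  rw [Submodule.Quotient.mk_eq_zero, Submodule.mem_smul_pointwise_iff_exists] at h2
  obtain ⟨c, -, hc⟩ := h2
  obtain ⟨⟨c', t'⟩, hct⟩ := IsLocalization.surj p.primeCompl c
  have h3 : algebraMap R A (t'.1 * a) = algebraMap R A (g * c') := by
    rw [map_mul, map_mul, ← hc, ← hct, smul_eq_mul]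
    ring
  obtain ⟨t'', ht''⟩ := (IsLocalization.eq_iff_exists p.primeCompl A).mp h3
  refine ⟨t''.1 * t'.1, ?_, ?_⟩
  · exact fun h => (Ideal.IsPrime.mem_or_mem ‹p.IsPrime› h).elim t''.2 t'.2
  · rw [Ideal.mem_span_singleton']
    refine ⟨t''.1 * c', ?_⟩
    linear_combination -ht''

end Alg

section Ass

variable {X : Scheme.{u}} [IsLocallyNoetherian X]

/-- an effective Cartier divisor contains no associated point of the scheme -/
theorem not_isAssPoint_structureModule (D : X.IdealSheafData) (hD : BlowUp.IsEffCartierIdeal D)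
    (x : X) (hx : x ∈ D.support) : ¬ Curv2.IsAssPoint (Coh.structureModule X) x := by
  intro hass
  have hT := TensH8.isInvertible_idealMod_of_isEffCartierIdeal D hD
  obtain ⟨W, hW, hxW, -, e, he⟩ := exists_isGen_le hT x ⊤ trivial
  haveI : IsNoetherianRing Γ(X, W) := IsLocallyNoetherian.component_noetherian ⟨W, hW⟩
  rw [AssPtH8.isAssPoint_iff _ hW hxW, AssociatedPrimes.mem_iff, isAssociatedPrime_iff] at hass
  obtain ⟨hp, s, hs⟩ := hass
  have hg : locEq D he ∈ (hW.primeIdealOf ⟨x, hxW⟩).asIdeal := by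
    by_contra h
    exact (mem_support_iff_locEq D hW he hxW).mp hx ((AnnShH8.mem_basicOpen_iff hW hxW _).mpr h)
  rw [hs, Submodule.mem_colon_singleton, Submodule.mem_bot] at hg
  have h0 : toFn s = 0 := locEq_regular D he (toFn s) (by rw [mul_comm]; exact hg)
  apply hp.ne_top
  rw [hs, Ideal.eq_top_iff_one, Submodule.mem_colon_singleton, Submodule.mem_bot, one_smul]
  exact h0

/-- on an equidimensional Cohen–Macaulay surface, if two effective Cartier divisors `C`, `D` meet
in a finite set, then `C` contains no associated point of `O_D` -/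
theorem not_isAssPoint_quotMod (k : Type u) [Field k] [X.Over (Spec (CommRingCat.of k))]
    [LocallyOfFiniteType (X ↘ Spec (CommRingCat.of k))]
    (hdim : ∀ Z ∈ irreducibleComponents (X : Type u), topologicalKrullDim Z = 2)
    (hCM : ∀ x : X, LocCoh.IsCohenMacaulayLocalRing (X.presheaf.stalk x))
    (IC ID : X.IdealSheafData) (hC : BlowUp.IsEffCartierIdeal IC)
    (hD : BlowUp.IsEffCartierIdeal ID) (hfin : ((IC ⊔ ID).support : Set X).Finite)
    (x : X) (hx : x ∈ IC.support) : ¬ Curv2.IsAssPoint (ClSub.quotMod ID) x := by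
  intro hass
  haveI : JacobsonSpace X := LocallyOfFiniteType.jacobsonSpace (X ↘ Spec (CommRingCat.of k))
  have hTC := TensH8.isInvertible_idealMod_of_isEffCartierIdeal IC hC
  have hTD := TensH8.isInvertible_idealMod_of_isEffCartierIdeal ID hD
  obtain ⟨W1, hW1, hxW1, -, eC1, heC1⟩ := exists_isGen_le hTC x ⊤ trivial
  obtain ⟨W, hW, hxW, hWW1, eD, heD⟩ := exists_isGen_le hTD x W1 hxW1
  have heC := heC1.res hWW1
  haveI : IsNoetherianRing Γ(X, W) := IsLocallyNoetherian.component_noetherian ⟨W, hW⟩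
  haveI : (ClSub.quotMod ID).IsQuasicoherent := (CurveIdeal.isCoh_quotMod ID).1
  rw [AssPtH8.isAssPoint_iff _ hW hxW, AssociatedPrimes.mem_iff, isAssociatedPrime_iff] at hass
  obtain ⟨hp, s, hs⟩ := hass
  haveI := Groth.Agent.HypSurf.epi_toSubscheme ID
  obtain ⟨a0, ha0⟩ := QCohExact.app_surjective_of_epi (ClSub.toSubscheme ID) hW s
  have hstar : ∀ r : Γ(X, W), r ∈ (hW.primeIdealOf ⟨x, hxW⟩).asIdeal ↔
      r * toFn a0 ∈ Ideal.span {locEq ID heD} := by
    intro r
    rw [hs, Submodule.mem_colon_singleton, Submodule.mem_bot, ← ha0,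
      ← ideal_eq_span_locEq ID hW heD, ← ID.ker_subschemeι_app ⟨W, hW⟩, RingHom.mem_ker]
    have h1 : r • (ClSub.toSubscheme ID).app W a0 = ap (ClSub.toSubscheme ID) W (r • a0) :=
      (ap_smul (ClSub.toSubscheme ID) r a0).symm
    rw [h1]
    rfl
  have hfp : locEq IC heC ∈ (hW.primeIdealOf ⟨x, hxW⟩).asIdeal := by
    by_contra h
    exact (mem_support_iff_locEq IC hW heC hxW).mp hx ((AnnShH8.mem_basicOpen_iff hW hxW _).mpr h)
  have hgp : locEq ID heD ∈ (hW.primeIdealOf ⟨x, hxW⟩).asIdeal :=
    (hstar _).mpr (Ideal.mem_span_singleton'.mpr ⟨toFn a0, mul_comm _ _⟩)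
  have hfa := (hstar _).mp hfp
  letI := TopCat.Presheaf.algebra_section_stalk X.presheaf (⟨x, hxW⟩ : W)
  haveI : IsLocalization.AtPrime (X.presheaf.stalk x) (hW.primeIdealOf ⟨x, hxW⟩).asIdeal :=
    hW.isLocalization_stalk ⟨x, hxW⟩
  haveI := hCM x
  have hxD : x ∈ ID.support := (mem_support_iff_locEq ID hW heD hxW).mpr
    (fun h => (AnnShH8.mem_basicOpen_iff hW hxW _).mp h hgp)
  have hxZ : x ∈ (IC ⊔ ID).support := by
    rw [Scheme.IdealSheafData.support_sup]
    exact ⟨hx, hxD⟩
  have hxcl : IsClosed ({x} : Set X) :=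
    isClosed_singleton_of_finite_closed (IC ⊔ ID).support.isClosed hfin hxZ
  have hdimA := ringKrullDim_stalk_of_closed k 2 hdim hxcl
  obtain ⟨t, htp, hta⟩ := exists_mul_mem_span_of_cm (hW.primeIdealOf ⟨x, hxW⟩).asIdeal hdimA
    (locEq IC heC) (locEq ID heD) (toFn a0) hfp hgp hfa (by
    intro q hq hqp hfq hgq
    have hyW : hW.fromSpec (⟨q, hq⟩ : PrimeSpectrum Γ(X, W)) ∈ W := by
      have : hW.fromSpec (⟨q, hq⟩ : PrimeSpectrum Γ(X, W)) ∈ Set.range hW.fromSpec := ⟨_, rfl⟩
      rw [hW.range_fromSpec] at this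
      exact this
    have hyb : ∀ c : Γ(X, W), hW.fromSpec (⟨q, hq⟩ : PrimeSpectrum Γ(X, W)) ∈ X.basicOpen c ↔
        c ∉ q := by
      intro c
      have h1 : (hW.fromSpec (⟨q, hq⟩ : PrimeSpectrum Γ(X, W)) ∈ X.basicOpen c) ↔
          (⟨q, hq⟩ : PrimeSpectrum Γ(X, W)) ∈ hW.fromSpec ⁻¹ᵁ X.basicOpen c := Iff.rfl
      rw [h1, hW.fromSpec_preimage_basicOpen]
      rfl
    have hyZ : hW.fromSpec (⟨q, hq⟩ : PrimeSpectrum Γ(X, W)) ∈ (IC ⊔ ID).support := by
      rw [Scheme.IdealSheafData.support_sup]
      exact ⟨(mem_support_iff_locEq IC hW heC hyW).mpr (fun h => (hyb _).mp h hfq),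
        (mem_support_iff_locEq ID hW heD hyW).mpr (fun h => (hyb _).mp h hgq)⟩
    have hycl := isClosed_singleton_of_finite_closed (IC ⊔ ID).support.isClosed hfin hyZ
    have hQcl : IsClosed ({⟨q, hq⟩} : Set (PrimeSpectrum Γ(X, W))) := by
      have h2 : ({⟨q, hq⟩} : Set (PrimeSpectrum Γ(X, W))) =
          hW.fromSpec ⁻¹' {hW.fromSpec (⟨q, hq⟩ : PrimeSpectrum Γ(X, W))} := by
        ext Q
        constructor
        · intro h
          rw [Set.mem_singleton_iff] at h
          rw [h]
          rfl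
        · intro h
          exact hW.fromSpec.isOpenEmbedding.injective h
      rw [h2]
      exact hycl.preimage hW.fromSpec.continuous
    have hqmax : q.IsMaximal :=
      (PrimeSpectrum.isClosed_singleton_iff_isMaximal (⟨q, hq⟩ : PrimeSpectrum Γ(X, W))).mp hQcl
    exact hqmax.eq_of_le hp.ne_top hqp)
  exact htp ((hstar t).mpr hta)

end Ass

section TensQuot

variable {X : Scheme.{u}}

/-- `u ⊗ T : O ⊗ T ⟶ Q ⊗ T` -/
noncomputable def tensUnit (T : X.Modules) {Q : X.Modules} (u : Coh.structureModule X ⟶ Q) :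
    CohB1.tensorMod (Coh.structureModule X) T ⟶ CohB1.tensorMod Q T :=
  (tR T).map u

theorem epi_tensUnit (T : X.Modules) {Q : X.Modules} (u : Coh.structureModule X ⟶ Q) [Epi u] :
    Epi (tensUnit T u) := NodalG0.epi_tR_map _ _

open NegTw9 in
/-- `(O ⟶ Q) ⊗ T` followed by `mu τ Q` is `O ⊗ T ≅ T ⟶ O ⟶ Q` -/
theorem tensUnit_mu {T Q : X.Modules} (τ : T ⟶ Coh.structureModule X)
    (u : Coh.structureModule X ⟶ Q) :
    tensUnit T u ≫ mu τ Q = (Groth.Agent.CMMul.unitorL T).hom ≫ τ ≫ u := by
  apply PFormH9.hom_ext_tmul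
  intro U r t
  have h1 : ap (tensUnit T u ≫ mu τ Q) U (SecTwist.tmul (OO X) T U r t) =
      ofM (ap τ U t) • ap u U r := by
    show ap (mu τ Q) U (ap ((tR T).map u) U (SecTwist.tmul (OO X) T U r t)) = _
    rw [Groth.Agent.CMMul.ap_tR_map_tmul, mu_tmul]
  have h2 : ap ((Groth.Agent.CMMul.unitorL T).hom ≫ τ ≫ u) U (SecTwist.tmul (OO X) T U r t) =
      toFn r • ap u U (ap τ U t) := by
    show ap u U (ap τ U (ap (Groth.Agent.CMMul.unitorL T).hom U
      (SecTwist.tmul (OO X) T U (ofFn (toFn r)) t))) = _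
    rw [Groth.Agent.CMMul.unitorL_tmul', ap_smul, ap_smul]
  refine h1.trans (Eq.trans ?_ h2.symm)
  rw [← ap_smul, ← ap_smul]
  congr 1
  show ofFn (toFn (ap τ U t) * toFn r) = ofFn (toFn r * toFn (ap τ U t))
  rw [mul_comm]

open NegTw9 in
/-- `O_D ⊗ O_C ≅ O / (I_C + I_D)` -/
theorem nonempty_tensor_quot_iso (IC ID : X.IdealSheafData) :
    Nonempty (CohB1.tensorMod (ClSub.quotMod ID) (ClSub.quotMod IC) ≅
      ClSub.quotMod (IC ⊔ ID)) := by
  obtain ⟨ε1⟩ := nonempty_cokernel_mu_iso IC (ClSub.quotMod ID)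
  have ε2 := cokerIdealToPushIso ID.subschemeι IC
  rw [ID.ker_subschemeι] at ε2
  haveI : Epi (ClSub.toSubscheme ID) := Groth.Agent.HypSurf.epi_toSubscheme ID
  haveI : Epi (tensUnit (ClSub.idealMod IC) (ClSub.toSubscheme ID)) := epi_tensUnit _ _
  have h3 : idealToPush ID.subschemeι IC =
      ((Groth.Agent.CMMul.unitorL (ClSub.idealMod IC)).inv ≫
        tensUnit (ClSub.idealMod IC) (ClSub.toSubscheme ID)) ≫
        mu (ClSub.idealModι IC) (ClSub.quotMod ID) := by
    rw [Category.assoc, tensUnit_mu, Iso.inv_hom_id_assoc]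
    rfl
  exact ⟨ε1.symm ≪≫ (cokernelEpiComp _ _).symm ≪≫ (cokernelIsoOfEq h3).symm ≪≫ ε2⟩

end TensQuot

section Main7871

variable (k : Type u) [Field k] (X : Scheme.{u}) [X.Over (Spec (CommRingCat.of k))]
  [IsProper (X ↘ Spec (CommRingCat.of k))]

/-- **S7871**: on a proper equidimensional Cohen–Macaulay surface, the intersection number of two
effective Cartier divisors meeting in a finite set is the length of their intersection -/
theorem main7871
    (hdim : ∀ Z ∈ irreducibleComponents (X : Type u), topologicalKrullDim Z = 2)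
    (hCM : ∀ x : X, LocCoh.IsCohenMacaulayLocalRing (X.presheaf.stalk x))
    (IC ID : X.IdealSheafData) (hC : BlowUp.IsEffCartierIdeal IC)
    (hD : BlowUp.IsEffCartierIdeal ID) (hfin : ((IC ⊔ ID).support : Set X).Finite) :
    FGA.intNum k X 2 ![ClSub.idealMod IC, ClSub.idealMod ID] (Coh.structureModule X) =
      (Module.finrank k (Coh.HH X (ClSub.quotMod (IC ⊔ ID)) 0) : ℤ) := by
  haveI : IsLocallyNoetherian X :=
    LocallyOfFiniteType.isLocallyNoetherian (X ↘ Spec (CommRingCat.of k))
  haveI : JacobsonSpace X := LocallyOfFiniteType.jacobsonSpace (X ↘ Spec (CommRingCat.of k))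
  have hd : topologicalKrullDim X ≤ (2 : ℕ) :=
    dim_le_of_components 2 (fun Z hZ => (hdim Z hZ).le)
  have hTC := TensH8.isInvertible_idealMod_of_isEffCartierIdeal IC hC
  have h1 := main14522 k X 2 hd (M := ![ClSub.idealMod IC])
    (by intro i; fin_cases i; exact hTC) (Coh.structureModule X)
    (CohDevH8.isCoh_structureModule X) ID hD (not_isAssPoint_structureModule ID hD)
  have e1 : (Fin.snoc ![ClSub.idealMod IC] (ClSub.idealMod ID) : Fin 2 → X.Modules) =
      ![ClSub.idealMod IC, ClSub.idealMod ID] := by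
    ext i
    fin_cases i <;> rfl
  rw [e1] at h1
  have h2 := main14522 k X 2 hd (M := (Fin.elim0 : Fin 0 → X.Modules)) (fun i => i.elim0)
    (ClSub.quotMod ID) (CurveIdeal.isCoh_quotMod ID) IC hC
    (not_isAssPoint_quotMod k hdim hCM IC ID hC hD hfin)
  have e2 : (Fin.snoc (Fin.elim0 : Fin 0 → X.Modules) (ClSub.idealMod IC) : Fin 1 → X.Modules) =
      ![ClSub.idealMod IC] := by
    ext i
    fin_cases i
    rfl
  rw [e2, intNum_eq_altSum k X 2 hd, intNum_eq_altSum k X 2 hd] at h2
  obtain ⟨ε⟩ := nonempty_tensor_quot_iso IC ID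
  rw [h1, intNum_eq_altSum k X 2 hd,
    altSum_of_iso k X _ (Groth.Agent.CMMul.unitorL (ClSub.quotMod ID)), h2]
  show Curv2.euler k X _ = _
  rw [CurveTens.euler_of_iso k X ε]
  exact CurveDeg.euler_eq_finrank_of_closed_support k X _ (CurveIdeal.isCoh_quotMod _)
    (fun x hx => isClosed_singleton_of_finite_closed (IC ⊔ ID).support.isClosed hfin
      (CurveIdeal.support_quotMod_subset _ (Iso.refl _) hx))

end Main7871

end Snap9
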