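import Mathlib
import Groth.Prelude
import Groth.Agent.Lib.NodeDelta2_helper9
import Groth.Agent.Lib.NodeGor3_helper3
import Groth.Agent.Lib.DeltaInvBC_helper3
import Groth.Agent.Lib.DeltaSep3_helper3
import Groth.Agent.Lib.IdealPt2_helper9
import Groth.Agent.Lib.Snap75_helper9
import Groth.Agent.Lib.DeltaInvFlat_helper3
import Groth.Agent.Lib.DeltaInvNormal_helper3
import Groth.Agent.S7652
import Groth.Agent.Lib.RedNorm5_helper6
import Groth.Agent.Lib.FSAdicCompl2_helper3

/-!
# The δ-invariant at a node of a curve over an algebraically closed field is one; at a smooth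
point it is zero (helper9)
APPEND-ONLY once landed.
-/

set_option autoImplicit false
universe u
open CategoryTheory CategoryTheory.Limits AlgebraicGeometry Opposite TopologicalSpace

namespace NodeDelta

section Cpl

/-- the δ-invariant of a reduced local Nagata ring of dimension one does not change on completion
(the third part of S7654, proved by helper3; reproduced here because `Groth.Agent.S7654` cannot be
imported together with the `DeltaSep` libraries: the two import different `StrictHens` files
declaring the same names) -/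
theorem deltaInv_cpl (A : Type u) [CommRing A] [IsLocalRing A]
    [IsReduced A] (hN : CAlg.IsNagata A) (hdim : ringKrullDim A = 1) :
    Curv2.deltaInv (Curv2.cpl A) = Curv2.deltaInv A := by
  haveI hnoeth : IsNoetherianRing A := hN.1
  obtain ⟨hfin, hloc, -⟩ := Groth.Agent.S7652.result A hN hdim
  haveI := hfin
  have hdvr : ∀ (n : Ideal (integralClosure A (FractionRing A))) [n.IsMaximal],
      ∃ _ : IsDomain (Localization.AtPrime n),
        IsDiscreteValuationRing (Localization.AtPrime n) := fun n _ =>
    Groth.Agent.Lib.RedNorm.isDiscreteValuationRing_localization hdim n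
  obtain ⟨hlocB, hnoethB, -, hff, hlh, hmax⟩ := Groth.Agent.Lib.AnUnramH3.completion_facts A
  haveI := hlocB
  haveI := hnoethB
  haveI := hff
  haveI := hlh
  haveI : Module.Flat A (AdicCompletion (IsLocalRing.maximalIdeal A) A) := inferInstance
  have hsurj : ∀ b : AdicCompletion (IsLocalRing.maximalIdeal A) A, ∃ a : A,
      b - algebraMap A (AdicCompletion (IsLocalRing.maximalIdeal A) A) a ∈
        (IsLocalRing.maximalIdeal A).map
          (algebraMap A (AdicCompletion (IsLocalRing.maximalIdeal A) A)) := by
    intro b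
    obtain ⟨a, ha⟩ := Groth.Agent.Lib.FSAdicComplH3.exists_sub_mem_map_pow
      (IsLocalRing.maximalIdeal A) (IsNoetherian.noetherian _) 1 b
    rw [pow_one] at ha
    exact ⟨a, ha⟩
  have h1 := Groth.Agent.Lib.DeltaInvH3.isNormalRing_tensor_of_residue_surj A
    (AdicCompletion (IsLocalRing.maximalIdeal A) A)
    (integralClosure A (FractionRing A)) hsurj hdvr
  have hnorm := Groth.Agent.Lib.GeomNormalH3.isNormalRing_of_ringEquiv
    (Algebra.TensorProduct.comm A (integralClosure A (FractionRing A))
      (AdicCompletion (IsLocalRing.maximalIdeal A) A)).toRingEquiv h1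
  exact Groth.Agent.Lib.DeltaInvH3.deltaInv_eq_of_flat A
    (AdicCompletion (IsLocalRing.maximalIdeal A) A) hmax hnorm

end Cpl

section Geo

variable (k : Type u) [Field k] [IsAlgClosed k] (X : Scheme.{u}) [X.Over (Spec (CommRingCat.of k))]
  [LocallyOfFiniteType (X ↘ Spec (CommRingCat.of k))]

/-- over an algebraically closed field the base change to the algebraic closure is an
isomorphism -/
theorem isIso_bcFst : IsIso (Curv2.bcFst k X (AlgebraicClosure k)) := by
  have hbij : Function.Bijective (algebraMap k (AlgebraicClosure k)) :=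
    IsAlgClosed.algebraMap_bijective_of_isIntegral
  haveI : IsIso (CommRingCat.ofHom (algebraMap k (AlgebraicClosure k))) :=
    (ConcreteCategory.isIso_iff_bijective _).mpr hbij
  haveI : IsIso (Spec.map (CommRingCat.ofHom (algebraMap k (AlgebraicClosure k)))) :=
    inferInstance
  unfold Curv2.bcFst
  infer_instance

/-- **the δ-invariant at a node is one** -/
theorem deltaInv_of_isNode
    (hequi : ∀ Z ∈ irreducibleComponents (X : Type u), topologicalKrullDim Z = 1)
    (x : X) (hx : Curv2.IsNode k X x) : Curv2.deltaInv (X.presheaf.stalk x) = 1 := by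
  haveI : IsLocallyNoetherian X :=
    LocallyOfFiniteType.isLocallyNoetherian (X ↘ Spec (CommRingCat.of k))
  have hdim : topologicalKrullDim X ≤ 1 := by
    have := Snap9.dim_le_of_components (X := X) 1 (fun Z hZ => (hequi Z hZ).le)
    exact_mod_cast this
  obtain ⟨hxc, xb, hxb, hodp⟩ := hx
  subst hxb
  letI ovY : (Curv2.bc k X (AlgebraicClosure k)).Over
      (Spec (CommRingCat.of (AlgebraicClosure k))) := ⟨Curv2.bcSnd k X (AlgebraicClosure k)⟩
  haveI : LocallyOfFiniteType ((Curv2.bc k X (AlgebraicClosure k)) ↘
      Spec (CommRingCat.of (AlgebraicClosure k))) :=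
    MorphismProperty.pullback_snd (P := @LocallyOfFiniteType) _ _ inferInstance
  haveI := isIso_bcFst k X
  let e₁ : X.presheaf.stalk (Curv2.bcFst k X (AlgebraicClosure k) xb) ≃+*
      (Curv2.bc k X (AlgebraicClosure k)).presheaf.stalk xb :=
    (asIso ((Curv2.bcFst k X (AlgebraicClosure k)).stalkMap xb)).commRingCatIsoToRingEquiv
  have hnode : Curv2.IsNode k X (Curv2.bcFst k X (AlgebraicClosure k) xb) :=
    ⟨hxc, xb, rfl, hodp⟩
  haveI hred : IsReduced ((Curv2.bc k X (AlgebraicClosure k)).presheaf.stalk xb) :=
    Groth.Agent.Lib.NodeGorH3.isReduced_stalk_bc_of_node k X (AlgebraicClosure k) hdim xb hnode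
  have hN : CAlg.IsNagata ((Curv2.bc k X (AlgebraicClosure k)).presheaf.stalk xb) :=
    Groth.Agent.Lib.DeltaInvH3.isNagata_stalk (AlgebraicClosure k)
      (Curv2.bc k X (AlgebraicClosure k)) xb
  have hd1 : ringKrullDim (X.presheaf.stalk (Curv2.bcFst k X (AlgebraicClosure k) xb)) = 1 :=
    IdealPt.ringKrullDim_stalk_of_closed' hequi hxc
  have hd2 : ringKrullDim ((Curv2.bc k X (AlgebraicClosure k)).presheaf.stalk xb) = 1 := by
    rw [← ringKrullDim_eq_of_ringEquiv e₁]
    exact hd1
  obtain ⟨e, -⟩ := hodp
  have h7654 := deltaInv_cpl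
    ((Curv2.bc k X (AlgebraicClosure k)).presheaf.stalk xb) hN hd2
  rw [Groth.Agent.Lib.DeltaSepH3.deltaInv_congr e₁, ← h7654,
    Groth.Agent.Lib.DeltaSepH3.deltaInv_congr e]
  exact deltaInv_nodeRing (AlgebraicClosure k)

end Geo

end NodeDelta
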