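import Mathlib
import Groth.Prelude
import Groth.Agent.Lib.NormDelta2_helper9
import Groth.Agent.Lib.BirCurve2_helper9
import Groth.Agent.Lib.DiscDeg2_helper9

/-!
# Finite birational morphisms from normal schemes: conductors on affine opens (helper9)
APPEND-ONLY once landed.
-/

set_option autoImplicit false
universe u
open CategoryTheory CategoryTheory.Limits AlgebraicGeometry Opposite TopologicalSpace

namespace NormDelta

open QcqsLoc
open scoped nonZeroDivisors

section Dense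

variable {Z : Scheme.{u}}

/-- on a reduced scheme a section vanishing on a dense open vanishes -/
theorem eq_zero_of_res_dense [IsReduced Z] (O : Z.Opens) (hO : Dense (O : Set Z)) {W : Z.Opens}
    (a : Γ(Z, W)) (h : rX (inf_le_left : W ⊓ O ≤ W) a = 0) : a = 0 := by
  rw [← basicOpen_eq_bot_iff]
  by_contra hne
  obtain ⟨y, hy⟩ := (Opens.ne_bot_iff_nonempty _).mp hne
  obtain ⟨z, hz1, hz2⟩ := hO.inter_open_nonempty _ (Z.basicOpen a).isOpen ⟨y, hy⟩
  have h1 : Z.basicOpen (rX (inf_le_left : W ⊓ O ≤ W) a) = (W ⊓ O) ⊓ Z.basicOpen a :=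
    Scheme.basicOpen_res Z a (homOfLE (inf_le_left : W ⊓ O ≤ W)).op
  rw [h, Scheme.basicOpen_zero] at h1
  have h3 : z ∈ ((W ⊓ O) ⊓ Z.basicOpen a : Z.Opens) := ⟨⟨Z.basicOpen_le a hz1, hz2⟩, hz1⟩
  rw [← h1] at h3
  exact h3.elim

/-- on a reduced locally noetherian scheme, a dense open contains a dense basic open of any affine
open: there is a nonzerodivisor whose basic open lies in the dense open -/
theorem exists_nzd_basicOpen_le [IsReduced Z] [IsLocallyNoetherian Z] {V : Z.Opens}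
    (hV : IsAffineOpen V) (U : Z.Opens) (hU : Dense (U : Set Z)) :
    ∃ s : Γ(Z, V), s ∈ Γ(Z, V)⁰ ∧ Z.basicOpen s ≤ U := by
  haveI : IsNoetherianRing Γ(Z, V) := IsLocallyNoetherian.component_noetherian ⟨V, hV⟩
  let J : Ideal Γ(Z, V) :=
    { carrier := {a | Z.basicOpen a ≤ U}
      add_mem' := fun {a b} ha hb => (Z.basicOpen_add_le a b).trans (sup_le ha hb)
      zero_mem' := by
        show Z.basicOpen (0 : Γ(Z, V)) ≤ U
        rw [Scheme.basicOpen_zero]
        exact bot_le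
      smul_mem' := fun c a ha => by
        show Z.basicOpen (c • a) ≤ U
        rw [smul_eq_mul, Scheme.basicOpen_mul]
        exact inf_le_right.trans ha }
  by_contra hcon
  push_neg at hcon
  have hdisj : Disjoint (J : Set Γ(Z, V)) (Γ(Z, V)⁰ : Set Γ(Z, V)) := by
    rw [Set.disjoint_left]
    intro a haJ hnz
    exact hcon a hnz haJ
  have hlt := Ideal.bot_lt_annihilator_of_disjoint_nonZeroDivisors hdisj
  obtain ⟨b, hbann, hb0⟩ := SetLike.exists_of_lt hlt
  have hb : b ≠ 0 := fun h => hb0 (by rw [h]; exact Submodule.zero_mem _)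
  have hne : Z.basicOpen b ≠ ⊥ := fun h => hb ((basicOpen_eq_bot_iff b).mp h)
  obtain ⟨y, hy⟩ := (Opens.ne_bot_iff_nonempty _).mp hne
  obtain ⟨z, hz1, hz2⟩ := hU.inter_open_nonempty _ (Z.basicOpen b).isOpen ⟨y, hy⟩
  obtain ⟨a, ha1, ha2⟩ := hV.exists_basicOpen_le (V := U ⊓ Z.basicOpen b) ⟨z, ⟨hz2, hz1⟩⟩
    (Z.basicOpen_le b hz1)
  have haJ : a ∈ J := ha1.trans inf_le_left
  have hab : b * a = 0 := by
    exact Submodule.mem_annihilator.mp hbann a haJ
  have hz : z ∈ Z.basicOpen (b * a) := by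
    rw [Scheme.basicOpen_mul]
    exact ⟨(ha1 ha2).2, ha2⟩
  rw [hab, Scheme.basicOpen_zero] at hz
  exact hz.elim

end Dense

section Normal

/-- sections of a normal scheme over an affine open form a normal ring -/
theorem isNormalRing_sections {Z : Scheme.{u}} (hZ : Pi1.IsNormalScheme Z) {W : Z.Opens}
    (hW : IsAffineOpen W) : EGA4.IsNormalRing Γ(Z, W) := by
  intro P hP
  have hmem : hW.fromSpec (⟨P, hP⟩ : PrimeSpectrum Γ(Z, W)) ∈ W := by
    have h1 := hW.opensRange_fromSpec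
    have h2 : hW.fromSpec (⟨P, hP⟩ : PrimeSpectrum Γ(Z, W)) ∈ hW.fromSpec.opensRange := ⟨_, rfl⟩
    rwa [h1] at h2
  letI := TopCat.Presheaf.algebra_section_stalk Z.presheaf
    (⟨hW.fromSpec (⟨P, hP⟩ : PrimeSpectrum Γ(Z, W)), hmem⟩ : W)
  haveI : IsLocalization.AtPrime
      (Z.presheaf.stalk (hW.fromSpec (⟨P, hP⟩ : PrimeSpectrum Γ(Z, W)))) P :=
    hW.isLocalization_stalk' (⟨P, hP⟩ : PrimeSpectrum Γ(Z, W)) hmem
  let e : Localization.AtPrime P ≃ₐ[Γ(Z, W)]
      Z.presheaf.stalk (hW.fromSpec (⟨P, hP⟩ : PrimeSpectrum Γ(Z, W))) :=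
    IsLocalization.algEquiv P.primeCompl _ _
  obtain ⟨hd, hic⟩ := hZ (hW.fromSpec (⟨P, hP⟩ : PrimeSpectrum Γ(Z, W)))
  haveI := hd
  haveI := hic
  exact ⟨MulEquiv.isDomain _ e.toRingEquiv.toMulEquiv,
    IsIntegrallyClosed.of_equiv e.symm.toRingEquiv⟩

end Normal

section Cond

variable {X X' : Scheme.{u}} (π : X' ⟶ X) (U : X.Opens) [IsIso (π ∣_ U)]

/-- the pullback of a nonzerodivisor whose basic open lies in the isomorphism locus is a
nonzerodivisor -/
theorem app_mem_nonZeroDivisors [IsReduced X] [IsReduced X']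
    (hU' : Dense ((π ⁻¹ᵁ U : X'.Opens) : Set X')) {V : X.Opens} (hV : IsAffineOpen V)
    (s : Γ(X, V)) (hs : s ∈ Γ(X, V)⁰) :
    (π.app V).hom s ∈ Γ(X', π ⁻¹ᵁ V)⁰ := by
  rw [mem_nonZeroDivisors_iff_right]
  intro r' hr'
  have hO : V ⊓ U ≤ U := inf_le_right
  haveI := BirCurve.isIso_app_of_le π U hO
  have hb := ConcreteCategory.bijective_of_isIso (π.app (V ⊓ U))
  obtain ⟨t, ht⟩ := hb.2 (rX (PFormH9.preimage_mono π (inf_le_left : V ⊓ U ≤ V)) r')
  have ht' : (π.app (V ⊓ U)).hom t =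
      rX (PFormH9.preimage_mono π (inf_le_left : V ⊓ U ≤ V)) r' := ht
  -- `s t = 0` on `V ⊓ U`
  have hst : rX (inf_le_left : V ⊓ U ≤ V) s * t = 0 := by
    apply hb.1
    show (π.app (V ⊓ U)).hom (rX (inf_le_left : V ⊓ U ≤ V) s * t) = (π.app (V ⊓ U)).hom 0
    rw [map_mul, map_zero, DiscDeg.app_rX, ht', ← map_mul, mul_comm, hr', map_zero]
  -- hence `t = 0`
  have ht0 : t = 0 := by
    rw [← basicOpen_eq_bot_iff]
    by_contra hne
    obtain ⟨y, hy⟩ := (Opens.ne_bot_iff_nonempty _).mp hne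
    have hyV : y ∈ V := (X.basicOpen_le t hy).1
    obtain ⟨c, hc1, hc2⟩ := hV.exists_basicOpen_le (V := X.basicOpen t) ⟨y, hy⟩ hyV
    have h1 : X.basicOpen (rX (inf_le_left : V ⊓ U ≤ V) s * t) = ⊥ := by
      rw [hst, Scheme.basicOpen_zero]
    rw [Scheme.basicOpen_mul] at h1
    have h2 : X.basicOpen (rX (inf_le_left : V ⊓ U ≤ V) s) = (V ⊓ U) ⊓ X.basicOpen s :=
      Scheme.basicOpen_res X s (homOfLE (inf_le_left : V ⊓ U ≤ V)).op
    have h3 : X.basicOpen (s * c) ≤ ⊥ := by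
      rw [Scheme.basicOpen_mul, ← h1, h2]
      intro w hw
      exact ⟨⟨X.basicOpen_le t (hc1 hw.2), hw.1⟩, hc1 hw.2⟩
    have h4 : s * c = 0 := (basicOpen_eq_bot_iff _).mp (le_bot_iff.mp h3)
    have h5 : c = 0 := (mem_nonZeroDivisors_iff.mp hs).1 c h4
    rw [h5, Scheme.basicOpen_zero] at hc2
    exact hc2.elim
  rw [ht0, map_zero] at ht'
  have h6 : π ⁻¹ᵁ (V ⊓ U) = π ⁻¹ᵁ V ⊓ π ⁻¹ᵁ U := rfl
  exact eq_zero_of_res_dense (π ⁻¹ᵁ U) hU' r' ht'.symm

/-- sections over the preimage of an affine open become sections downstairs after multiplication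
by a power of a function whose basic open lies in the isomorphism locus -/
theorem exists_pow_mul_mem_range [IsAffineHom π] {V : X.Opens} (hV : IsAffineOpen V)
    (s : Γ(X, V)) (hsU : X.basicOpen s ≤ U) (hsn : (π.app V).hom s ∈ Γ(X', π ⁻¹ᵁ V)⁰)
    (r' : Γ(X', π ⁻¹ᵁ V)) :
    ∃ (n : ℕ) (a : Γ(X, V)), (π.app V).hom a = (π.app V).hom s ^ n * r' := by
  have hDV : X.basicOpen s ≤ V := X.basicOpen_le s
  haveI := BirCurve.isIso_app_of_le π U hsU
  have hb := ConcreteCategory.bijective_of_isIso (π.app (X.basicOpen s))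
  obtain ⟨t, ht⟩ := hb.2 (rX (PFormH9.preimage_mono π hDV) r')
  have ht' : (π.app (X.basicOpen s)).hom t = rX (PFormH9.preimage_mono π hDV) r' := ht
  haveI := hV.isLocalization_basicOpen s
  obtain ⟨n, a, hna⟩ := IsLocalization.Away.surj s t
  have hna' : t * rX hDV s ^ n = rX hDV a := hna
  refine ⟨n, a, ?_⟩
  -- the difference vanishes on the basic open of `π^♯ s`
  have hW' : IsAffineOpen (π ⁻¹ᵁ V) := hV.preimage π
  have hpre : π ⁻¹ᵁ X.basicOpen s = X'.basicOpen ((π.app V).hom s) := Scheme.preimage_basicOpen π s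
  have hle : X'.basicOpen ((π.app V).hom s) ≤ π ⁻¹ᵁ X.basicOpen s := hpre.ge
  have hdiff : rX (PFormH9.preimage_mono π hDV)
      ((π.app V).hom a - (π.app V).hom s ^ n * r') = 0 := by
    have e1 : rX (PFormH9.preimage_mono π hDV) ((π.app V).hom a) =
        (π.app (X.basicOpen s)).hom (rX hDV a) := (DiscDeg.app_rX π hDV a).symm
    have e2 : rX (PFormH9.preimage_mono π hDV) ((π.app V).hom s) =
        (π.app (X.basicOpen s)).hom (rX hDV s) := (DiscDeg.app_rX π hDV s).symm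
    have e3 : rX hDV a - rX hDV s ^ n * t = 0 := by rw [← hna']; ring
    rw [map_sub, map_mul, map_pow, e1, e2, ← ht', ← map_pow, ← map_mul, ← map_sub, e3, map_zero]
  have hdiff' : rX (X'.basicOpen_le ((π.app V).hom s))
      ((π.app V).hom a - (π.app V).hom s ^ n * r') = 0 := by
    have h1 := congrArg (rX hle) hdiff
    rw [rX_rX, map_zero] at h1
    exact h1
  haveI := hW'.isLocalization_basicOpen ((π.app V).hom s)
  obtain ⟨⟨m, k, hk⟩, hm⟩ := (IsLocalization.map_eq_zero_iff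
    (Submonoid.powers ((π.app V).hom s)) Γ(X', X'.basicOpen ((π.app V).hom s)) _).mp hdiff'
  have hk' : (π.app V).hom s ^ k = m := hk
  have hm' : (π.app V).hom s ^ k * ((π.app V).hom a - (π.app V).hom s ^ n * r') = 0 := by
    rw [hk']; exact hm
  have h2 := (mem_nonZeroDivisors_iff.mp (pow_mem hsn k)).1 _ hm'
  exact sub_eq_zero.mp h2

end Cond

end NormDelta
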