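import Mathlib
import Groth.Prelude
import Groth.Agent.Lib.NormDelta3_helper9
import Groth.Agent.Lib.StalkLoc_helper8
import Groth.Agent.Lib.FibInjF_helper6
import Groth.Agent.Lib.ChevD_helper8
import Groth.Agent.Lib.QCohCrit_helper9

/-!
# The stalks of the cokernel of `O_X → π_* O_{X'}` for a finite birational morphism from a normal
scheme have length the δ-invariant (helper9)
APPEND-ONLY once landed.
-/

set_option autoImplicit false
universe u
open CategoryTheory CategoryTheory.Limits AlgebraicGeometry Opposite TopologicalSpace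

namespace NormDelta

open QcqsLoc QCohExtn SerreCrit
open scoped nonZeroDivisors

section Cond2

variable {X X' : Scheme.{u}} (π : X' ⟶ X) [IsFinite π] (U : X.Opens) [IsIso (π ∣_ U)]

/-- a uniform conductor element on an affine open -/
theorem exists_conductor [IsReduced X] [IsReduced X'] [IsLocallyNoetherian X]
    (hU : Dense (U : Set X)) (hU' : Dense ((π ⁻¹ᵁ U : X'.Opens) : Set X'))
    {V : X.Opens} (hV : IsAffineOpen V) :
    ∃ s : Γ(X, V), s ∈ Γ(X, V)⁰ ∧ (π.app V).hom s ∈ Γ(X', π ⁻¹ᵁ V)⁰ ∧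
      ∀ r' : Γ(X', π ⁻¹ᵁ V), ∃ a : Γ(X, V), (π.app V).hom a = (π.app V).hom s * r' := by
  obtain ⟨s₀, hs₀, hs₀U⟩ := exists_nzd_basicOpen_le hV U hU
  have hsn := app_mem_nonZeroDivisors π U hU' hV s₀ hs₀
  have hfin : (π.app V).hom.Finite := π.finite_app V hV
  letI := (π.app V).hom.toAlgebra
  haveI : Module.Finite Γ(X, V) Γ(X', π ⁻¹ᵁ V) := hfin
  obtain ⟨S, hS⟩ := (Module.Finite.fg_top : (⊤ : Submodule Γ(X, V) Γ(X', π ⁻¹ᵁ V)).FG)
  have hex : ∀ g : Γ(X', π ⁻¹ᵁ V), ∃ (n : ℕ) (a : Γ(X, V)),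
      (π.app V).hom a = (π.app V).hom s₀ ^ n * g :=
    fun g => exists_pow_mul_mem_range π U hV s₀ hs₀U hsn g
  choose n a hna using hex
  refine ⟨s₀ ^ S.sup n, pow_mem hs₀ _, ?_, ?_⟩
  · rw [map_pow]
    exact pow_mem hsn _
  · intro r'
    have hr' : r' ∈ Submodule.span Γ(X, V) (S : Set Γ(X', π ⁻¹ᵁ V)) := by
      rw [hS]; exact Submodule.mem_top
    rw [map_pow]
    induction hr' using Submodule.span_induction with
    | mem g hg =>
      have hle : n g ≤ S.sup n := Finset.le_sup (f := n) hg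
      refine ⟨s₀ ^ (S.sup n - n g) * a g, ?_⟩
      rw [map_mul, map_pow, hna, ← mul_assoc, ← pow_add, Nat.sub_add_cancel hle]
    | zero => exact ⟨0, by rw [map_zero, mul_zero]⟩
    | add y z _ _ hy hz =>
      obtain ⟨a₁, h₁⟩ := hy
      obtain ⟨a₂, h₂⟩ := hz
      exact ⟨a₁ + a₂, by rw [map_add, h₁, h₂, mul_add]⟩
    | smul c y _ hy =>
      obtain ⟨a₁, h₁⟩ := hy
      refine ⟨c * a₁, ?_⟩
      have hc : c • y = (π.app V).hom c * y := rfl
      rw [map_mul, h₁, hc]
      ring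

end Cond2

section Stalk

variable {X X' : Scheme.{u}} (π : X' ⟶ X) [IsFinite π] (U : X.Opens) [IsIso (π ∣_ U)]

/-- `π_* O_{X'}` -/
noncomputable abbrev pushO : X.Modules := (Scheme.Modules.pushforward π).obj (OO X')

instance isQuasicoherent_pushO : (pushO π).IsQuasicoherent := by
  haveI : (OO X').IsQuasicoherent := SerreCrit.isQuasicoherent_OO
  exact QCohCrit.isQuasicoherent_pushforward π (OO X')

theorem isReduced_of_isNormalScheme {Z : Scheme.{u}} (hZ : Pi1.IsNormalScheme Z) : IsReduced Z := by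
  haveI : ∀ z : Z, _root_.IsReduced (Z.presheaf.stalk z) := fun z => by
    haveI := (hZ z).1
    infer_instance
  exact isReduced_of_isReduced_stalk Z

theorem stalkMap_unit_germ (x : X) {V : X.Opens} (hxV : x ∈ V) (t : Γ(X, V)) :
    Algz.stalkMapₗ (BirCurve.unitMap π) x ((OO X).presheaf.germ V x hxV t) =
      (X.presheaf.germ V x hxV).hom t • (pushO π).presheaf.germ V x hxV
        (1 : Γ(X', π ⁻¹ᵁ V)) := by
  rw [ChevDH8.stalkMapₗ_germ]
  have h1 : QCohExtn.ap (BirCurve.unitMap π) V t =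
      (t • (show Γ(pushO π, V) from (1 : Γ(X', π ⁻¹ᵁ V))) : Γ(pushO π, V)) := by
    rw [BirCurve.unitMap_app]
    show (π.app V).hom t = (π.app V).hom t * 1
    rw [mul_one]
  rw [h1]
  exact Groth.Agent.Lib.QCohLoc_helper4.germ_smul (pushO π) V x hxV t _

theorem range_stalkMap_unit (x : X) {V : X.Opens} (hV : IsAffineOpen V) (hxV : x ∈ V) :
    LinearMap.range (Algz.stalkMapₗ (BirCurve.unitMap π) x) =
      Submodule.span (X.presheaf.stalk x) {(pushO π).presheaf.germ V x hxV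
        (1 : Γ(X', π ⁻¹ᵁ V))} := by
  haveI : (OO X).IsQuasicoherent := SerreCrit.isQuasicoherent_OO
  letI := StalkLocH8.modSec (OO X) hxV
  haveI := StalkLocH8.isLocalizedModule_germLin (OO X) hV hxV
  letI := X.presheaf.algebra_section_stalk ⟨x, hxV⟩
  haveI := hV.isLocalization_stalk ⟨x, hxV⟩
  apply le_antisymm
  · rintro _ ⟨m, rfl⟩
    obtain ⟨⟨t, s⟩, hts⟩ := IsLocalizedModule.surj (hV.primeIdealOf ⟨x, hxV⟩).asIdeal.primeCompl
      (StalkLocH8.germLin (OO X) hxV) m
    have hts' : (X.presheaf.germ V x hxV).hom s.1 • m =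
        (OO X).presheaf.germ V x hxV t := hts
    obtain ⟨v, hv⟩ : IsUnit ((X.presheaf.germ V x hxV).hom s.1) :=
      IsLocalization.map_units (X.presheaf.stalk x) s
    have h2 : (X.presheaf.germ V x hxV).hom s.1 •
        Algz.stalkMapₗ (BirCurve.unitMap π) x m =
        (X.presheaf.germ V x hxV).hom t • (pushO π).presheaf.germ V x hxV
          (1 : Γ(X', π ⁻¹ᵁ V)) := by
      rw [← map_smul, hts', stalkMap_unit_germ]
    have h3 : Algz.stalkMapₗ (BirCurve.unitMap π) x m =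
        ((↑v⁻¹ : X.presheaf.stalk x) * (X.presheaf.germ V x hxV).hom t) •
          (pushO π).presheaf.germ V x hxV (1 : Γ(X', π ⁻¹ᵁ V)) := by
      rw [mul_smul, ← h2, ← hv, smul_smul, Units.inv_mul, one_smul]
    rw [h3]
    exact Submodule.smul_mem _ _ (Submodule.subset_span rfl)
  · rw [Submodule.span_le, Set.singleton_subset_iff]
    refine ⟨(OO X).presheaf.germ V x hxV (1 : Γ(X, V)), ?_⟩
    rw [stalkMap_unit_germ, map_one, one_smul]

/-- **the stalk of the cokernel of `O_X → π_* O_{X'}` has length `δ`** -/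
theorem length_stalk_cokernel [IsReduced X] [IsLocallyNoetherian X]
    (hX' : Pi1.IsNormalScheme X') (hU : Dense (U : Set X))
    (hU' : Dense ((π ⁻¹ᵁ U : X'.Opens) : Set X')) (x : X) :
    Module.length (X.presheaf.stalk x)
      ((cokernel (BirCurve.unitMap π)).presheaf.stalk x) =
      Curv2.deltaInv (X.presheaf.stalk x) := by
  haveI : IsReduced X' := isReduced_of_isNormalScheme hX'
  obtain ⟨hex, hsurj⟩ := Groth.Agent.Lib.FibInjH6.exact_stalk_cokernel (BirCurve.unitMap π) x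
  rw [← (hex.linearEquivOfSurjective hsurj).length_eq]
  obtain ⟨_, ⟨V, hV, rfl⟩, hxV, -⟩ := X.isBasis_affineOpens.exists_subset_of_mem_open
    (Set.mem_univ x) isOpen_univ
  obtain ⟨s, hs, hsR', hcond⟩ := exists_conductor π U hU hU' hV
  have hfin : (π.app V).hom.Finite := π.finite_app V hV
  letI algRR' : Algebra Γ(X, V) Γ(X', π ⁻¹ᵁ V) := (π.app V).hom.toAlgebra
  haveI : Module.Finite Γ(X, V) Γ(X', π ⁻¹ᵁ V) := hfin
  haveI : Algebra.IsIntegral Γ(X, V) Γ(X', π ⁻¹ᵁ V) := Algebra.IsIntegral.of_finite _ _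
  have hinj : Function.Injective (algebraMap Γ(X, V) Γ(X', π ⁻¹ᵁ V)) := by
    intro a b hab
    apply BirCurve.unitMap_injective π U hU V
    rw [BirCurve.unitMap_app, BirCurve.unitMap_app]
    exact hab
  have hnorm : EGA4.IsNormalRing Γ(X', π ⁻¹ᵁ V) := isNormalRing_sections hX' (hV.preimage π)
  letI := X.presheaf.algebra_section_stalk ⟨x, hxV⟩
  haveI := hV.isLocalization_stalk ⟨x, hxV⟩
  letI := StalkLocH8.modSec (pushO π) hxV
  haveI hloc := StalkLocH8.isLocalizedModule_germLin (pushO π) hV hxV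
  haveI : IsScalarTower Γ(X, V) (X.presheaf.stalk x) ((pushO π).presheaf.stalk x) :=
    IsScalarTower.of_algebraMap_smul (fun _ _ => rfl)
  haveI : IsLocalizedModule (hV.primeIdealOf ⟨x, hxV⟩).asIdeal.primeCompl
      ((StalkLocH8.germLin (pushO π) hxV).comp (BirCurve.pushSecEquiv π V).toLinearMap) :=
    IsLocalizedModule.of_linearEquiv_right _ _ _
  refine length_quot_eq_deltaInv_of_localized (hV.primeIdealOf ⟨x, hxV⟩).asIdeal hinj hnorm s hs
    hsR' hcond ((StalkLocH8.germLin (pushO π) hxV).comp (BirCurve.pushSecEquiv π V).toLinearMap)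
    (Algz.stalkMapₗ (BirCurve.unitMap π) x) ?_
  exact range_stalkMap_unit π x hV hxV

end Stalk

end NormDelta
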