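import Mathlib
import Groth.Prelude
import Groth.Agent.Lib.NormDelta4_helper9
import Groth.Agent.Lib.DiscDeg3_helper9
import Groth.Agent.Lib.PtTwist1_helper9
import Groth.Agent.Lib.BirCurve3_helper9
import Groth.Agent.Lib.ProjSpaceProper_helper4
import Groth.Agent.Lib.Snap75_helper9
import Groth.Agent.Lib.TensBasis6_helper9

/-!
# `χ(O_{X'}) = χ(O_X) + Σ [κ(x):k] δ_x` for the normalization of a reduced projective curve (helper9)
APPEND-ONLY once landed.
-/

set_option autoImplicit false
universe u
open CategoryTheory CategoryTheory.Limits AlgebraicGeometry Opposite TopologicalSpace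

namespace NormDelta

open QcqsLoc QCohExtn SerreCrit DetDeg

section Wt

variable (k : Type u) [Field k] (X : Scheme.{u}) [X.Over (Spec (CommRingCat.of k))]
  [IsProper (X ↘ Spec (CommRingCat.of k))]

/-- the weight of a closed point is the degree of its residue field -/
theorem wt_eq_finrank (z : X) (hz : IsClosed ({z} : Set X)) :
    letI := Curv2.resAlgebra k X z
    wt k X z = (Module.finrank k (X.residueField z) : ℤ) := by
  letI := Curv2.resAlgebra k X z
  haveI : IsLocallyNoetherian X :=
    LocallyOfFiniteType.isLocallyNoetherian (X ↘ Spec (CommRingCat.of k))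
  have hcl : closure ({z} : Set X) = {z} := hz.closure_eq
  have hdim : topologicalKrullDim ↥(closure ({z} : Set X)) = ((0 : ℕ) : WithBot ℕ∞) := by
    rw [hcl]
    apply le_antisymm
    · exact_mod_cast topologicalKrullDim_zero_of_discreteTopology ↥({z} : Set X)
    · haveI : Nonempty (IrreducibleCloseds ↥({z} : Set X)) :=
        ⟨⟨closure {⟨z, rfl⟩}, isIrreducible_singleton.closure, isClosed_closure⟩⟩
      exact_mod_cast (Order.krullDim_nonneg : 0 ≤ Order.krullDim (IrreducibleCloseds ↥({z} : Set X)))
  unfold wt
  rw [if_pos hdim]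
  have hc := CohDevH8.isCoh_closureStructureSheaf z
  rw [eulerHom_clSub k X _ hc, CurveDeg.euler_eq_finrank_of_closed_support k X _ hc]
  · have hI : IntMult.ptIdeal z = (X.fromSpecResidueField z).ker := by
      rw [PtTwist.ker_fromSpecResidueField hz]
      unfold IntMult.ptIdeal
      congr 1
      exact TopologicalSpace.Closeds.ext hcl
    have h1 := PtTwist.finrank_HH0_quotMod_point k X hz
    have h2 : Cyc.closureStructureSheaf z = ClSub.quotMod (X.fromSpecResidueField z).ker := by
      unfold Cyc.closureStructureSheaf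
      rw [hI]
    rw [h2]
    exact_mod_cast h1
  · intro x hx
    have h1 := CohDevH8.support_closureStructureSheaf_subset z hx
    rw [hcl] at h1
    rw [Set.mem_singleton_iff.mp h1]
    exact hz

end Wt

section Main

attribute [local instance] Curv2.resAlgebra

variable (k : Type u) [Field k] (X : Scheme.{u}) [X.Over (Spec (CommRingCat.of k))]
  [IsProper (X ↘ Spec (CommRingCat.of k))]

open Classical in
/-- the Euler characteristic formula over a proper base of dimension at most one -/
theorem euler_normalization [IsReduced X] (hdim : topologicalKrullDim X ≤ 1)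
    (X' : Scheme.{u}) (π : X' ⟶ X) [IsFinite π] (hX' : Pi1.IsNormalScheme X')
    (U : X.Opens) (hU : Dense (U : Set X)) (hU' : Dense ((π ⁻¹ᵁ U : X'.Opens) : Set X'))
    (hπU : IsIso (π ∣_ U)) :
    letI : X'.Over (Spec (CommRingCat.of k)) := ⟨π ≫ (X ↘ (Spec (CommRingCat.of k)))⟩
    Curv2.euler k X' (Coh.structureModule X') =
      Curv2.euler k X (Coh.structureModule X) +
        ∑ᶠ x : X, (if IsClosed ({x} : Set X) then
          ((Module.finrank k (X.residueField x) : ℤ) *
            ((Curv2.deltaInv (X.presheaf.stalk x)).toNat : ℤ)) else 0) := by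
  letI : X'.Over (Spec (CommRingCat.of k)) := ⟨π ≫ (X ↘ (Spec (CommRingCat.of k)))⟩
  haveI : IsLocallyNoetherian X :=
    LocallyOfFiniteType.isLocallyNoetherian (X ↘ Spec (CommRingCat.of k))
  haveI : CompactSpace X :=
    QuasiCompact.compactSpace_of_compactSpace (X ↘ Spec (CommRingCat.of k))
  haveI : (OO X').IsQuasicoherent := SerreCrit.isQuasicoherent_OO
  -- `χ(O_{X'}) = χ(π_* O_{X'})`
  have h1 : Curv2.euler k X (pushO π) = Curv2.euler k X' (OO X') :=
    BirCurve.euler_push k π rfl (OO X')
  -- the short exact sequence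
  haveI hmono : Mono (BirCurve.unitMap π) := BirCurve.mono_unitMap π U hU
  let S : ShortComplex X.Modules :=
    ShortComplex.mk (BirCurve.unitMap π) (cokernel.π (BirCurve.unitMap π)) (cokernel.condition _)
  have hS : S.ShortExact := ShortComplex.ShortExact.mk' (ShortComplex.exact_cokernel _)
    hmono (inferInstanceAs (Epi (cokernel.π (BirCurve.unitMap π))))
  have hc1 : Coh.IsCoh (OO X) := CohDevH8.isCoh_structureModule X
  have hc2 : Coh.IsCoh (pushO π) := BirCurve.isCoh_push_OO π
  have hc3 : Coh.IsCoh (cokernel (BirCurve.unitMap π)) := CohKerH8.isCoh_cokernel hc1 hc2 _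
  have h2 : Curv2.euler k X (pushO π) =
      Curv2.euler k X (OO X) + Curv2.euler k X (cokernel (BirCurve.unitMap π)) :=
    EulerField.euler_additive k X S hS hc1 hc2 hc3
  -- the support of the cokernel
  have hsuppU : CohB1.support (cokernel (BirCurve.unitMap π)) ⊆ (U : Set X)ᶜ := by
    intro x hx hxU
    apply hx
    exact BirCurve.subsingleton_stalk_cokernel (BirCurve.unitMap π) U
      (fun V hV => BirCurve.unitMap_bijective π U hV) hxU
  have hclosed : ∀ x ∈ (U : Set X)ᶜ, IsClosed ({x} : Set X) := fun x hx =>
    BirCurve.isClosed_singleton_of_notMem_dense hdim U hU x hx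
  have hfin : ((U : Set X)ᶜ).Finite :=
    TensBasis.finite_of_closed_points _ U.isOpen.isClosed_compl hclosed
  have h3 := euler_eq_sum k X hfin.toFinset
    (fun z hz => hclosed z (hfin.mem_toFinset.mp hz)) _ hc3
    (fun z hz => by
      rw [Set.Finite.coe_toFinset]
      exact hsuppU hz)
  show Curv2.euler k X' (OO X') = _
  rw [← h1, h2, h3]
  congr 1
  symm
  -- the finitary sum
  rw [finsum_eq_sum_of_support_subset (s := hfin.toFinset)]
  · apply Finset.sum_congr rfl
    intro z hz
    have hzc := hclosed z (hfin.mem_toFinset.mp hz)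
    rw [if_pos hzc, length_stalk_cokernel π U hX' hU hU' z, wt_eq_finrank k X z hzc]
    ring
  · intro x hx
    rw [Function.mem_support] at hx
    rw [Set.Finite.coe_toFinset]
    by_contra hxU
    apply hx
    have hxU' : x ∈ U := not_not.mp hxU
    have hsub : Subsingleton ((cokernel (BirCurve.unitMap π)).presheaf.stalk x) :=
      BirCurve.subsingleton_stalk_cokernel (BirCurve.unitMap π) U
        (fun V hV => BirCurve.unitMap_bijective π U hV) hxU'
    have h0 : Curv2.deltaInv (X.presheaf.stalk x) = 0 := by
      rw [← length_stalk_cokernel π U hX' hU hU' x, Module.length_eq_zero_iff]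
      exact hsub
    rw [h0]
    simp

end Main

section Final

attribute [local instance] Curv2.resAlgebra

open Classical in
/-- the statement of S11569 -/
theorem main11569 (k : Type u) [Field k] (X : Scheme.{u}) [X.Over (Spec (CommRingCat.of k))]
    (hproj : ∃ (N : ℕ) (i : X ⟶ CohB1.ProjSpace N k), IsClosedImmersion i ∧
      i ≫ CohB1.ProjSpace.toSpec N k = X ↘ (Spec (CommRingCat.of k)))
    [IsReduced X] (hequi : ∀ Z ∈ irreducibleComponents (X : Type u), topologicalKrullDim Z = 1)
    (X' : Scheme.{u}) (π : X' ⟶ X) [IsFinite π] (hX' : Pi1.IsNormalScheme X')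
    (U : X.Opens) (hU : Dense (U : Set X)) (hU' : Dense ((π ⁻¹ᵁ U : X'.Opens) : Set X'))
    (hπU : IsIso (π ∣_ U)) :
    letI : X'.Over (Spec (CommRingCat.of k)) := ⟨π ≫ (X ↘ (Spec (CommRingCat.of k)))⟩
    Curv2.euler k X' (Coh.structureModule X') =
      Curv2.euler k X (Coh.structureModule X) +
        ∑ᶠ x : X, (if IsClosed ({x} : Set X) then
          ((Module.finrank k (X.residueField x) : ℤ) *
            ((Curv2.deltaInv (X.presheaf.stalk x)).toNat : ℤ)) else 0) := by
  obtain ⟨N, i, hi, hcomp⟩ := hproj
  haveI := Groth.Agent.Lib.ProjSpaceProperH4.isProper_toSpec N k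
  haveI : IsProper (X ↘ Spec (CommRingCat.of k)) := by
    rw [← hcomp]
    infer_instance
  have hdim : topologicalKrullDim X ≤ 1 := by
    have := Snap9.dim_le_of_components (X := X) 1 (fun Z hZ => (hequi Z hZ).le)
    exact_mod_cast this
  exact euler_normalization k X hdim X' π hX' U hU hU' hπU

end Final

end NormDelta
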