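import Mathlib
import Groth.Prelude
import Groth.Agent.Lib.NodeDelta3_helper9
import Groth.Agent.Lib.NormDelta5_helper9
import Groth.Agent.Lib.H0Comp1_helper9
import Groth.Agent.Lib.BirCurve4_helper9
import Groth.Agent.Lib.StalkDict_helper4
import Groth.Agent.Lib.NormalLift_helper4

/-!
# Genus of a nodal curve and of its normalization (helper9)

`g(C) + ν = g(C') + δ + μ` for a proper at-worst-nodal curve `C` over an algebraically closed field
with normalization `C'`, `δ` nodes, and `μ`, `ν` connected components of `C`, `C'`.
APPEND-ONLY once landed.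
-/

set_option autoImplicit false
universe u
open CategoryTheory CategoryTheory.Limits AlgebraicGeometry Opposite TopologicalSpace

namespace NodeDelta

open QcqsLoc QCohExtn SerreCrit

section Alg

/-- the δ-invariant of an integrally closed domain vanishes -/
theorem deltaInv_eq_zero_of_isIntegrallyClosed (A : Type u) [CommRing A] [IsDomain A]
    [IsIntegrallyClosed A] : Curv2.deltaInv A = 0 := by
  unfold Curv2.deltaInv
  rw [Module.length_eq_zero_iff, Submodule.Quotient.subsingleton_iff, eq_top_iff]
  rintro ⟨y, hy⟩ -
  obtain ⟨a, ha⟩ := IsIntegrallyClosed.isIntegral_iff.mp hy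
  exact ⟨a, Subtype.ext ha⟩

end Alg

section Geo

variable (k : Type u) [Field k] [IsAlgClosed k] (X : Scheme.{u}) [X.Over (Spec (CommRingCat.of k))]
  [LocallyOfFiniteType (X ↘ Spec (CommRingCat.of k))]

/-- the δ-invariant at a point with a smooth neighbourhood vanishes -/
theorem deltaInv_of_smooth (x : X)
    (h : ∃ V : X.Opens, x ∈ V ∧ Smooth (V.ι ≫ (X ↘ Spec (CommRingCat.of k)))) :
    Curv2.deltaInv (X.presheaf.stalk x) = 0 := by
  haveI := Groth.Agent.Lib.NodeGorH3.regular_stalk_of_formallySmooth k X
    (X ↘ Spec (CommRingCat.of k)) x ((Groth.Agent.Lib.NodeGorH3.smooth_nhd_iff_stalk k X x).1 h)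
  haveI : IsDomain (X.presheaf.stalk x) := Groth.Agent.RegularLib.isDomain _
  haveI : IsIntegrallyClosed (X.presheaf.stalk x) :=
    Groth.Agent.Lib.NormalLiftH4.isIntegrallyClosed_of_isRegularLocalRing _
  exact deltaInv_eq_zero_of_isIntegrallyClosed _

/-- an at-worst-nodal curve is reduced -/
theorem isReduced_of_atWorstNodal
    (hequi : ∀ Z ∈ irreducibleComponents (X : Type u), topologicalKrullDim Z = 1)
    (hX : Curv2.AtWorstNodal k X) : IsReduced X := by
  haveI : IsLocallyNoetherian X :=
    LocallyOfFiniteType.isLocallyNoetherian (X ↘ Spec (CommRingCat.of k))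
  haveI : ∀ x : X, _root_.IsReduced (X.presheaf.stalk x) := by
    intro x
    rcases Groth.Agent.Lib.NodeGorH3.smooth_or_node k X hequi hX x with h | hnode
    · haveI := Groth.Agent.Lib.NodeGorH3.regular_stalk_of_formallySmooth k X
        (X ↘ Spec (CommRingCat.of k)) x
        ((Groth.Agent.Lib.NodeGorH3.smooth_nhd_iff_stalk k X x).1 h)
      haveI : IsDomain (X.presheaf.stalk x) := Groth.Agent.RegularLib.isDomain _
      infer_instance
    · obtain ⟨-, a, b, c, hdisc, e, -⟩ :=
        (Groth.Agent.Lib.NodeCritH3.main1587 k X x hnode.1).1 hnode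
      exact (Groth.Agent.Lib.QuadNodeH3.ii_to_i (X.presheaf.stalk x) a b c hdisc e).1
  exact isReduced_of_isReduced_stalk X

attribute [local instance] Curv2.resAlgebra Curv2.stalkAlgebra

/-- residue fields at closed points are trivial extensions -/
theorem finrank_residueField_eq_one (x : X) (hx : IsClosed ({x} : Set X)) :
    Module.finrank k (X.residueField x) = 1 := by
  have h1 : X.fromSpecResidueField x ≫ (X ↘ Spec (CommRingCat.of k)) =
      Spec.map (CommRingCat.ofHom (algebraMap k (X.residueField x))) := by
    calc X.fromSpecResidueField x ≫ (X ↘ Spec (CommRingCat.of k))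
        = Spec.map (X.residue x) ≫ (X.fromSpecStalk x ≫ (X ↘ Spec (CommRingCat.of k))) := by
          rw [← Category.assoc]; rfl
      _ = Spec.map (X.residue x) ≫
            Spec.map (CommRingCat.ofHom (algebraMap k (X.presheaf.stalk x))) := by
          rw [Groth.Agent.Lib.StalkDictH4.fromSpecStalk_comp]; rfl
      _ = Spec.map (CommRingCat.ofHom (algebraMap k (X.residueField x))) := by
          rw [← Spec.map_comp]; rfl
  have h2 : (residueFieldIsoBase (X ↘ Spec (CommRingCat.of k)) x hx).inv =
      CommRingCat.ofHom (algebraMap k (X.residueField x)) := by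
    apply Spec.map_injective
    rw [SpecMap_residueFieldIsoBase_inv, h1]
  have hbij : Function.Bijective (algebraMap k (X.residueField x)) := by
    have := ConcreteCategory.bijective_of_isIso
      (residueFieldIsoBase (X ↘ Spec (CommRingCat.of k)) x hx).inv
    rw [h2] at this
    exact this
  have e : k ≃ₗ[k] X.residueField x :=
    LinearEquiv.ofBijective (Algebra.linearMap k (X.residueField x)) hbij
  rw [← e.finrank_eq, Module.finrank_self]

end Geo

end NodeDelta
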