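import Mathlib
import Groth.Prelude
import Groth.Agent.Lib.NodeDelta4_helper9

/-!
# Genus of a nodal curve and of its normalization: the formula (helper9)
APPEND-ONLY once landed.
-/

set_option autoImplicit false
universe u
open CategoryTheory CategoryTheory.Limits AlgebraicGeometry Opposite TopologicalSpace

namespace NodeDelta

open QcqsLoc QCohExtn SerreCrit

section Iso

variable {X X' : Scheme.{u}} (π : X' ⟶ X) [IsFinite π] (U : X.Opens) [IsIso (π ∣_ U)]

/-- the δ-invariant vanishes on the isomorphism locus -/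
theorem deltaInv_eq_zero_of_mem [IsReduced X] [IsLocallyNoetherian X]
    (hX' : Pi1.IsNormalScheme X') (hU : Dense (U : Set X))
    (hU' : Dense ((π ⁻¹ᵁ U : X'.Opens) : Set X')) {x : X} (hx : x ∈ U) :
    Curv2.deltaInv (X.presheaf.stalk x) = 0 := by
  have hsub : Subsingleton ((cokernel (BirCurve.unitMap π)).presheaf.stalk x) :=
    BirCurve.subsingleton_stalk_cokernel (BirCurve.unitMap π) U
      (fun V hV => BirCurve.unitMap_bijective π U hV) hx
  rw [← NormDelta.length_stalk_cokernel π U hX' hU hU' x, Module.length_eq_zero_iff]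
  exact hsub

end Iso

section Euler

variable (k : Type u) [Field k] (X : Scheme.{u}) [X.Over (Spec (CommRingCat.of k))]
  [IsProper (X ↘ Spec (CommRingCat.of k))]

/-- `χ(F) = h⁰(F) - h¹(F)` on a proper scheme of dimension at most one -/
theorem euler_eq_sub (hdim : topologicalKrullDim X ≤ 1) (F : X.Modules) [F.IsQuasicoherent] :
    Curv2.euler k X F = (Module.finrank k (Coh.HH X F 0) : ℤ) -
      (Module.finrank k (Coh.HH X F 1) : ℤ) := by
  rw [EulerField.euler_eq_sum k X 1 F (fun p hp => by
    obtain ⟨n, rfl⟩ : ∃ n, p = n + 2 := ⟨p - 2, by omega⟩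
    exact BirCurve.HH_subsingleton_of_dim_le_one k X hdim F n)]
  simp [Finset.sum_range_succ]
  ring

end Euler

section Main

attribute [local instance] Curv2.resAlgebra

variable (k : Type u) [Field k] [IsAlgClosed k]
  (C : Scheme.{u}) [C.Over (Spec (CommRingCat.of k))] [IsProper (C ↘ Spec (CommRingCat.of k))]

open Classical in
/-- **`g(C) + ν = g(C') + δ + μ`** -/
theorem genus_formula
    (hdim : ∀ Z ∈ irreducibleComponents (C : Type u), topologicalKrullDim Z = 1)
    (hC : Curv2.AtWorstNodal k C)
    (C' : Scheme.{u}) (π : C' ⟶ C) [IsFinite π] (hC' : Pi1.IsNormalScheme C')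
    (U : C.Opens) (hU : Dense (U : Set C)) (hU' : Dense ((π ⁻¹ᵁ U : C'.Opens) : Set C'))
    (hπU : IsIso (π ∣_ U)) :
    letI : C'.Over (Spec (CommRingCat.of k)) := ⟨π ≫ (C ↘ (Spec (CommRingCat.of k)))⟩
    (Curv2.genus k C : ℤ) + Nat.card (_root_.ConnectedComponents C') =
      (Curv2.genus k C' : ℤ) + Nat.card {x : C // Curv2.IsNode k C x} +
        Nat.card (_root_.ConnectedComponents C) := by
  letI ovC' : C'.Over (Spec (CommRingCat.of k)) := ⟨π ≫ (C ↘ (Spec (CommRingCat.of k)))⟩
  haveI : IsProper (C' ↘ Spec (CommRingCat.of k)) := by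
    show IsProper (π ≫ (C ↘ Spec (CommRingCat.of k)))
    infer_instance
  haveI : IsLocallyNoetherian C :=
    LocallyOfFiniteType.isLocallyNoetherian (C ↘ Spec (CommRingCat.of k))
  haveI : CompactSpace C :=
    QuasiCompact.compactSpace_of_compactSpace (C ↘ Spec (CommRingCat.of k))
  haveI : IsNoetherian C := {}
  haveI : IsLocallyNoetherian C' :=
    LocallyOfFiniteType.isLocallyNoetherian (C' ↘ Spec (CommRingCat.of k))
  haveI : CompactSpace C' :=
    QuasiCompact.compactSpace_of_compactSpace (C' ↘ Spec (CommRingCat.of k))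
  haveI : IsNoetherian C' := {}
  haveI : IsReduced C := isReduced_of_atWorstNodal k C hdim hC
  haveI : IsReduced C' := NormDelta.isReduced_of_isNormalScheme hC'
  have hd1 : topologicalKrullDim C ≤ 1 := by
    have := Snap9.dim_le_of_components (X := C) 1 (fun Z hZ => (hdim Z hZ).le)
    exact_mod_cast this
  haveI := H0Comp.finite_connectedComponents C
  haveI := H0Comp.finite_connectedComponents C'
  haveI : (OO C).IsQuasicoherent := SerreCrit.isQuasicoherent_OO
  haveI : (OO C').IsQuasicoherent := SerreCrit.isQuasicoherent_OO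
  -- Euler characteristics
  have hχC : Curv2.euler k C (OO C) =
      (Nat.card (_root_.ConnectedComponents C) : ℤ) - (Curv2.genus k C : ℤ) := by
    rw [euler_eq_sub k C hd1 (OO C), H0Comp.finrank_HH0 k C]
    rfl
  have hχC' : Curv2.euler k C' (OO C') =
      (Nat.card (_root_.ConnectedComponents C') : ℤ) - (Curv2.genus k C' : ℤ) := by
    rw [EulerField.euler_eq_sum k C' 1 (OO C') (fun p hp => by
      obtain ⟨n, rfl⟩ : ∃ n, p = n + 2 := ⟨p - 2, by omega⟩
      haveI : ((Scheme.Modules.pushforward π).obj (OO C')).IsQuasicoherent :=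
        QCohCrit.isQuasicoherent_pushforward π (OO C')
      haveI := BirCurve.HH_subsingleton_of_dim_le_one k C hd1
        ((Scheme.Modules.pushforward π).obj (OO C')) n
      exact (Groth.Agent.PushEdgeNat.pushEdgeEquiv (A := k) π rfl (OO C') (n + 2)).symm.toEquiv.subsingleton)]
    simp only [Finset.sum_range_succ, Finset.range_zero, Finset.sum_empty, zero_add, pow_zero,
      one_mul, pow_one, neg_mul]
    rw [H0Comp.finrank_HH0 k C']
    rfl
  have hE : Curv2.euler k C' (OO C') = Curv2.euler k C (OO C) +
      ∑ᶠ x : C, (if IsClosed ({x} : Set C) then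
        ((Module.finrank k (C.residueField x) : ℤ) *
          ((Curv2.deltaInv (C.presheaf.stalk x)).toNat : ℤ)) else 0) :=
    NormDelta.euler_normalization k C hd1 C' π hC' U hU hU' hπU
  -- the local terms
  have hterm : ∀ x : C, (if IsClosed ({x} : Set C) then
      ((Module.finrank k (C.residueField x) : ℤ) *
        ((Curv2.deltaInv (C.presheaf.stalk x)).toNat : ℤ)) else 0) =
      if Curv2.IsNode k C x then (1 : ℤ) else 0 := by
    intro x
    by_cases hnode : Curv2.IsNode k C x
    · rw [if_pos hnode.1, if_pos hnode, finrank_residueField_eq_one k C x hnode.1,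
        deltaInv_of_isNode k C hdim x hnode]
      rfl
    · rw [if_neg hnode]
      by_cases hx : IsClosed ({x} : Set C)
      · rw [if_pos hx]
        rcases hC x hx with h | h
        · rw [deltaInv_of_smooth k C x h]
          simp
        · exact absurd h hnode
      · rw [if_neg hx]
  -- finiteness of the set of nodes
  have hclosed : ∀ x ∈ (U : Set C)ᶜ, IsClosed ({x} : Set C) := fun x hx =>
    BirCurve.isClosed_singleton_of_notMem_dense hd1 U hU x hx
  have hfin : ((U : Set C)ᶜ).Finite :=
    TensBasis.finite_of_closed_points _ U.isOpen.isClosed_compl hclosed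
  have hnodeU : ∀ x : C, Curv2.IsNode k C x → x ∈ (U : Set C)ᶜ := by
    intro x hnode hxU
    have h0 := deltaInv_eq_zero_of_mem π U hC' hU hU' (x := x) hxU
    rw [deltaInv_of_isNode k C hdim x hnode] at h0
    exact one_ne_zero h0
  have hsum : (∑ᶠ x : C, (if IsClosed ({x} : Set C) then
      ((Module.finrank k (C.residueField x) : ℤ) *
        ((Curv2.deltaInv (C.presheaf.stalk x)).toNat : ℤ)) else 0)) =
      (Nat.card {x : C // Curv2.IsNode k C x} : ℤ) := by
    rw [finsum_congr hterm, finsum_eq_sum_of_support_subset (s := hfin.toFinset)]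
    · rw [Finset.sum_boole]
      congr 1
      have hset : {x : C | Curv2.IsNode k C x}.Finite := hfin.subset hnodeU
      haveI : Fintype {x : C // Curv2.IsNode k C x} := hset.fintype
      rw [Nat.card_eq_fintype_card]
      symm
      apply Fintype.card_of_subtype
      intro x
      rw [Finset.mem_filter, Set.Finite.mem_toFinset]
      exact ⟨fun h => h.2, fun h => ⟨hnodeU x h, h⟩⟩
    · intro x hx
      rw [Function.mem_support] at hx
      rw [Set.Finite.coe_toFinset]
      apply hnodeU
      by_contra hn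
      exact hx (if_neg hn)
  rw [hχC, hχC', hsum] at hE
  linarith

/-- the statement of S16342 -/
theorem main16342
    (hdim : ∀ Z ∈ irreducibleComponents (C : Type u), topologicalKrullDim Z = 1)
    (hC : Curv2.AtWorstNodal k C)
    (C' : Scheme.{u}) (π : C' ⟶ C) [IsFinite π] (hC' : Pi1.IsNormalScheme C')
    (U : C.Opens) (hU : Dense (U : Set C)) (hU' : Dense ((π ⁻¹ᵁ U : C'.Opens) : Set C'))
    (hπU : IsIso (π ∣_ U)) :
    letI : C'.Over (Spec (CommRingCat.of k)) := ⟨π ≫ (C ↘ (Spec (CommRingCat.of k)))⟩
    (Curv2.genus k C : ℤ) + Nat.card (_root_.ConnectedComponents C') =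
      (Curv2.genus k C' : ℤ) + Nat.card {x : C // Curv2.IsNode k C x} +
        Nat.card (_root_.ConnectedComponents C) :=
  genus_formula k C hdim hC C' π hC' U hU hU' hπU

/-- the statement of S14467 -/
theorem main14467 [ConnectedSpace C]
    (hdim : ∀ Z ∈ irreducibleComponents (C : Type u), topologicalKrullDim Z = 1)
    (hC : Curv2.AtWorstNodal k C)
    (C' : Scheme.{u}) (π : C' ⟶ C) [IsFinite π] (hC' : Pi1.IsNormalScheme C')
    (U : C.Opens) (hU : Dense (U : Set C)) (hU' : Dense ((π ⁻¹ᵁ U : C'.Opens) : Set C'))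
    (hπU : IsIso (π ∣_ U)) :
    letI : C'.Over (Spec (CommRingCat.of k)) := ⟨π ≫ (C ↘ (Spec (CommRingCat.of k)))⟩
    (Curv2.genus k C : ℤ) + Nat.card (_root_.ConnectedComponents C') =
      (Curv2.genus k C' : ℤ) + Nat.card {x : C // Curv2.IsNode k C x} + 1 := by
  have h := genus_formula k C hdim hC C' π hC' U hU hU' hπU
  have h1 : Nat.card (_root_.ConnectedComponents C) = 1 := by
    rw [Nat.card_eq_one_iff_unique]
    exact ⟨inferInstance, ⟨ConnectedComponents.mk (Classical.arbitrary C)⟩⟩
  rw [h1] at h
  exact h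

end Main

end NodeDelta
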