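import Mathlib
import Groth.Prelude
import Groth.Agent.Lib.NodeEtale3_helper3
import Groth.Agent.Lib.SchSrcLocal_helper7
import Groth.Agent.Lib.SchSrcLocal2_helper7
import Groth.Agent.Lib.SchSmooth_helper7

/-!
# At-worst-nodal families are étale local on the source (helper3)

* `exists_smooth_nhd_of_etale` : smoothness near a point descends along an étale morphism of the
  source.
* `exists_fiberMap_eq` : points of the fibres of `g ≫ f` over points of the fibres of `f`.
* `main1593`.

APPEND-ONLY once landed.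
-/

set_option autoImplicit false
set_option linter.style.haveILetI false
universe u

open CategoryTheory CategoryTheory.Limits AlgebraicGeometry IsLocalRing

namespace Groth.Agent.Lib.NodeDescH3

open Groth.Agent.Lib.NodeEtaleH3

section Smooth

set_option maxHeartbeats 1600000 in
/-- Smoothness near a point descends along an étale morphism of the source. -/
theorem exists_smooth_nhd_of_etale {Z' Z T : Scheme.{u}} (e : Z' ⟶ Z) [Etale e] (q : Z ⟶ T)
    (t' : Z') (h : ∃ V' : Z'.Opens, t' ∈ V' ∧ Smooth (V'.ι ≫ e ≫ q)) :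
    ∃ V : Z.Opens, e t' ∈ V ∧ Smooth (V.ι ≫ q) := by
  obtain ⟨V', ht', hV'⟩ := h
  haveI := hV'
  have hopen : IsOpen (e '' (V' : Set Z')) := e.isOpenMap _ V'.2
  let V : Z.Opens := ⟨e '' (V' : Set Z'), hopen⟩
  have hrange : Set.range (V'.ι ≫ e) ⊆ Set.range V.ι := by
    rintro _ ⟨v', rfl⟩
    rw [Scheme.Opens.range_ι]
    exact ⟨v'.1, v'.2, rfl⟩
  let c : V'.toScheme ⟶ V.toScheme := IsOpenImmersion.lift V.ι (V'.ι ≫ e) hrange
  have hc : c ≫ V.ι = V'.ι ≫ e := IsOpenImmersion.lift_fac _ _ _
  haveI : Etale (c ≫ V.ι) := by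
    rw [hc]
    infer_instance
  haveI : Etale c :=
    Groth.Agent.Lib.SchSrcLocal_helper7.of_comp_mono @Etale c V.ι inferInstance
  haveI : Surjective c := by
    refine ⟨fun v => ?_⟩
    obtain ⟨v', hv', hv⟩ := v.2
    refine ⟨⟨v', hv'⟩, ?_⟩
    apply V.ι.isOpenEmbedding.injective
    rw [← Scheme.Hom.comp_apply, hc, Scheme.Hom.comp_apply]
    exact hv
  haveI : Smooth (c ≫ V.ι ≫ q) := by
    rw [← Category.assoc, hc, Category.assoc]
    exact hV'
  exact ⟨V, ⟨t', ht', rfl⟩,
    Groth.Agent.Lib.SchSmooth_helper7.smooth_of_comp_etale_surjective c (V.ι ≫ q)⟩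

end Smooth

section Fib

variable {X Y S : Scheme.{u}} (f : X ⟶ S) (g : Y ⟶ X) (s : S)

/-- points of the fibre of `g ≫ f` over a point of the fibre of `f`. -/
theorem exists_fiberMap_eq (t : f.fiber s) (y : Y) (hy : g y = f.fiberι s t) :
    ∃ t' : (g ≫ f).fiber s, fiberMap f g s t' = t := by
  have sq := isPullback_fiberMap f g s
  obtain ⟨w, -, hw2⟩ := Scheme.Pullback.exists_preimage_pullback (f := g) (g := f.fiberι s) y t hy
  refine ⟨sq.isoPullback.inv w, ?_⟩
  rw [← Scheme.Hom.comp_apply, sq.isoPullback_inv_snd]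
  exact hw2

end Fib

section Main

set_option maxHeartbeats 3200000 in
theorem main1593 {X S : Scheme.{u}} (f : X ⟶ S) (ι : Type u) (U : ι → Scheme.{u})
    (g : ∀ i, U i ⟶ X) [∀ i, Etale (g i)] (hsurj : ∀ x : X, ∃ i, x ∈ Set.range (g i).base)
    (h : ∀ i, Curv2.IsNodalFamily (g i ≫ f)) : Curv2.IsNodalFamily f := by
  have hE : Etale (Sigma.desc g) := IsZariskiLocalAtSource.sigmaDesc (fun i => inferInstance)
  haveI := hE
  haveI : Surjective (Sigma.desc g) := by
    apply Surjective.sigmaDesc_of_union_range_eq_univ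
    rw [Set.eq_univ_iff_forall]
    intro x
    obtain ⟨i, hi⟩ := hsurj x
    exact Set.mem_iUnion.2 ⟨i, hi⟩
  have hcf : Sigma.desc g ≫ f = Sigma.desc (fun i => g i ≫ f) := by
    apply Sigma.hom_ext
    intro i
    rw [Sigma.ι_desc, ← Category.assoc, Sigma.ι_desc]
  haveI : Flat (Sigma.desc g ≫ f) := by
    rw [hcf]
    exact IsZariskiLocalAtSource.sigmaDesc (fun i => (h i).1)
  haveI : LocallyOfFinitePresentation (Sigma.desc g ≫ f) := by
    rw [hcf]
    exact IsZariskiLocalAtSource.sigmaDesc (fun i => (h i).2.1)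
  have hflat : Flat f :=
    Groth.Agent.Lib.SchSrcLocal_helper7.flat_of_comp_surjective (Sigma.desc g) f
  have hlfp : LocallyOfFinitePresentation f :=
    Groth.Agent.Lib.SchSrcLocal2_helper7.locallyOfFinitePresentation_of_comp_smooth_surjective
      (Sigma.desc g) f
  haveI := hflat
  haveI := hlfp
  refine ⟨hflat, hlfp, fun s => ?_⟩
  haveI : LocallyOfFiniteType f := inferInstance
  haveI lft1 : LocallyOfFiniteType (f.fiberToSpecResidueField s) :=
    MorphismProperty.pullback_snd (P := @LocallyOfFiniteType) _ _ inferInstance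
  have hlfti : ∀ i, LocallyOfFiniteType ((g i ≫ f).fiberToSpecResidueField s) := by
    intro i
    haveI : LocallyOfFinitePresentation (g i ≫ f) := (h i).2.1
    haveI : LocallyOfFiniteType (g i ≫ f) := inferInstance
    exact MorphismProperty.pullback_snd (P := @LocallyOfFiniteType) _ _ inferInstance
  -- points
  have hpt : ∀ t : f.fiber s, ∃ (i : ι) (t' : (g i ≫ f).fiber s), fiberMap f (g i) s t' = t := by
    intro t
    obtain ⟨i, y, hy⟩ := hsurj (f.fiberι s t)
    obtain ⟨t', ht'⟩ := exists_fiberMap_eq f (g i) s t y hy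
    exact ⟨i, t', ht'⟩
  have h1 : ∀ t : f.fiber s, FlatMor.localDim ↥(f.fiber s) t = 1 := by
    intro t
    obtain ⟨i, t', rfl⟩ := hpt t
    haveI := hlfti i
    rw [← LocDimEtH8.localDim_etale (fiberMap f (g i) s) t']
    exact Groth.Agent.Lib.AffDimH8.localDim_eq_of_equidim (S.residueField s)
      ((g i ≫ f).fiber s) ((g i ≫ f).fiberToSpecResidueField s) 1 ((h i).2.2 s).1 t'
  constructor
  · exact Groth.Agent.Lib.CotSmoothH3.equidim_of_localDim_const (S.residueField s) _
      (f.fiberToSpecResidueField s) 1 h1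
  · letI i1 : (f.fiber s).Over (Spec (CommRingCat.of (S.residueField s))) :=
      ⟨f.fiberToSpecResidueField s⟩
    haveI : LocallyOfFiniteType ((f.fiber s) ↘ Spec (CommRingCat.of (S.residueField s))) := lft1
    intro t ht
    obtain ⟨i, t', rfl⟩ := hpt t
    letI i2 : ((g i ≫ f).fiber s).Over (Spec (CommRingCat.of (S.residueField s))) :=
      ⟨(g i ≫ f).fiberToSpecResidueField s⟩
    haveI := hlfti i
    haveI : JacobsonSpace ↥(f.fiber s) :=
      LocallyOfFiniteType.jacobsonSpace ((f.fiber s) ↘ Spec (CommRingCat.of (S.residueField s)))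
    have ht' : IsClosed ({t'} : Set ↥((g i ≫ f).fiber s)) :=
      (isClosed_singleton_iff_of_unramified (fiberMap f (g i) s) t').1 ht
    rcases ((h i).2.2 s).2 t' ht' with ⟨V', htV', hV'⟩ | hnode
    · left
      refine exists_smooth_nhd_of_etale (fiberMap f (g i) s) (f.fiberToSpecResidueField s) t'
        ⟨V', htV', ?_⟩
      rw [fiberMap_snd]
      exact hV'
    · right
      exact (isNode_iff_of_etale (S.residueField s) (f.fiber s) ((g i ≫ f).fiber s)
        (fiberMap f (g i) s) (fiberMap_snd f (g i) s) t').2 hnode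

end Main

end Groth.Agent.Lib.NodeDescH3
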