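import Mathlib

/-!
# `Ext¹_A(A/(y), A/(x))` for the node `A = k[[x,y]]/(xy)` (helper5)

* `NodeExt5.exists_hom`, `NodeExt5.comp_eq_zero_iff`: for a short exact sequence `0 → K → F → Q → 0`
  with `F` projective, every class in `Ext¹(Q, Y)` is `extClass ∘ φ` for some `φ : K ⟶ Y`, and this
  class vanishes iff `φ` extends to `F`.
* `NodeExt5.main`: `Ext¹_A(A/(y), A/(x))` is one-dimensional over `k`.
-/

open CategoryTheory Abelian

namespace NodeExt5

universe u

section general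

variable {R : Type u} [CommRing R] {S : ShortComplex (ModuleCat.{u} R)} (hS : S.ShortExact)
  (Y : ModuleCat.{u} R)

include hS in
theorem exists_hom [Projective S.X₂] (w : Ext S.X₃ Y 1) :
    ∃ φ : S.X₁ ⟶ Y, hS.extClass.comp (Ext.mk₀ φ) (add_zero 1) = w := by
  obtain ⟨x₁, hx₁⟩ := Ext.contravariant_sequence_exact₃ hS Y w
    (Ext.eq_zero_of_projective _) (n₀ := 0) (add_zero 1)
  exact ⟨Ext.homEquiv₀ x₁, by rw [Ext.mk₀_homEquiv₀_apply]; exact hx₁⟩

include hS in
theorem comp_eq_zero_iff (φ : S.X₁ ⟶ Y) :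
    hS.extClass.comp (Ext.mk₀ φ) (add_zero 1) = 0 ↔ ∃ ψ : S.X₂ ⟶ Y, S.f ≫ ψ = φ := by
  constructor
  · intro h
    obtain ⟨x₂, hx₂⟩ := Ext.contravariant_sequence_exact₁ hS Y (Ext.mk₀ φ) (add_zero 1) h
    refine ⟨Ext.homEquiv₀ x₂, (Ext.mk₀_bijective _ _).1 ?_⟩
    rw [← Ext.mk₀_comp_mk₀, Ext.mk₀_homEquiv₀_apply]
    exact hx₂
  · rintro ⟨ψ, rfl⟩
    rw [← Ext.mk₀_comp_mk₀]
    exact hS.extClass_comp_assoc _

end general

section node

variable (k : Type u) [Field k]

/-- `k[[x,y]]`. -/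
abbrev P := MvPowerSeries (Fin 2) k

/-- The ideal `(xy)`. -/
noncomputable abbrev I : Ideal (P k) :=
  Ideal.span {(MvPowerSeries.X (0 : Fin 2) : MvPowerSeries (Fin 2) k) * MvPowerSeries.X (1 : Fin 2)}

/-- The node `k[[x,y]]/(xy)`. -/
abbrev R := P k ⧸ I k

/-- The class of `x`. -/
noncomputable abbrev x : R k := Ideal.Quotient.mk (I k) (MvPowerSeries.X (0 : Fin 2))

/-- The class of `y`. -/
noncomputable abbrev y : R k := Ideal.Quotient.mk (I k) (MvPowerSeries.X (1 : Fin 2))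

/-- The branch `A/(x)`. -/
abbrev N := R k ⧸ Ideal.span {x k}

/-- The branch `A/(y)`. -/
abbrev Q := R k ⧸ Ideal.span {y k}

lemma xy_zero : x k * y k = 0 := by
  rw [← map_mul]
  exact Ideal.Quotient.eq_zero_iff_mem.2 (Ideal.subset_span rfl)

lemma X1_ne_zero : (MvPowerSeries.X (1 : Fin 2) : P k) ≠ 0 := by
  intro h
  have h1 := congrArg (MvPowerSeries.coeff (Finsupp.single (1 : Fin 2) 1)) h
  rw [MvPowerSeries.coeff_index_single_self_X] at h1
  simp at h1

lemma mem_span_x_of_mul_y (a : R k) (h : a * y k = 0) : a ∈ Ideal.span {x k} := by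
  obtain ⟨f, rfl⟩ := Ideal.Quotient.mk_surjective a
  rw [← map_mul, Ideal.Quotient.eq_zero_iff_mem, Ideal.mem_span_singleton'] at h
  obtain ⟨g, hg⟩ := h
  have h2 : (g * MvPowerSeries.X (0 : Fin 2) - f) * MvPowerSeries.X (1 : Fin 2) = 0 := by
    rw [sub_mul, ← hg]; ring
  have h3 : g * MvPowerSeries.X (0 : Fin 2) - f = 0 :=
    (mul_eq_zero.1 h2).resolve_right (X1_ne_zero k)
  have h4 : f = g * MvPowerSeries.X (0 : Fin 2) := (sub_eq_zero.1 h3).symm
  rw [h4, map_mul]
  exact Ideal.mul_mem_left _ _ (Ideal.subset_span rfl)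

/-- The augmentation `A → k`. -/
noncomputable def ε : R k →+* k :=
  Ideal.Quotient.lift (I k) MvPowerSeries.constantCoeff (by
    intro a ha
    rw [Ideal.mem_span_singleton'] at ha
    obtain ⟨b, rfl⟩ := ha
    simp)

lemma ε_mk (f : P k) : ε k (Ideal.Quotient.mk (I k) f) = MvPowerSeries.constantCoeff f := by
  simp [ε]

/-- The augmentation `A/(x) → k`. -/
noncomputable def εN : N k →+* k :=
  Ideal.Quotient.lift (Ideal.span {x k}) (ε k) (by
    intro a ha
    rw [Ideal.mem_span_singleton'] at ha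
    obtain ⟨b, rfl⟩ := ha
    rw [map_mul, ε_mk]
    simp)

lemma no_div : ¬ ∃ n' : N k, y k • n' = (1 : N k) := by
  rintro ⟨n', h⟩
  have h1 : y k • n' = (Ideal.Quotient.mk (Ideal.span {x k}) (y k)) * n' := by
    obtain ⟨a, rfl⟩ := Ideal.Quotient.mk_surjective n'
    rfl
  have h2 := congrArg (εN k) h
  rw [h1, map_mul, map_one] at h2
  have h3 : εN k (Ideal.Quotient.mk (Ideal.span {x k}) (y k)) = 0 := by
    simp [εN, ε_mk]
  rw [h3, zero_mul] at h2
  exact zero_ne_one h2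

lemma decomp (f : P k) : ∃ g h : P k,
    f = MvPowerSeries.C (MvPowerSeries.constantCoeff f) + MvPowerSeries.X (0 : Fin 2) * g +
      MvPowerSeries.X (1 : Fin 2) * h := by
  classical
  let f₁ : P k := fun m => if m 0 = 0 then 0 else MvPowerSeries.coeff m f
  have hf₁ : ∀ m, MvPowerSeries.coeff m f₁ = if m 0 = 0 then 0 else MvPowerSeries.coeff m f :=
    fun m => rfl
  have h1 : (MvPowerSeries.X (0 : Fin 2) : P k) ∣ f₁ := by
    rw [MvPowerSeries.X_dvd_iff]
    intro m hm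
    rw [hf₁, if_pos hm]
  have h2 : (MvPowerSeries.X (1 : Fin 2) : P k) ∣
      f - MvPowerSeries.C (MvPowerSeries.constantCoeff f) - f₁ := by
    rw [MvPowerSeries.X_dvd_iff]
    intro m hm
    rw [map_sub, map_sub, hf₁, MvPowerSeries.coeff_C]
    by_cases h0 : m 0 = 0
    · have hm0 : m = 0 := by
        ext i
        fin_cases i
        · exact h0
        · exact hm
      rw [if_pos h0, if_pos hm0, hm0, MvPowerSeries.coeff_zero_eq_constantCoeff_apply]
      simp
    · have hm0 : m ≠ 0 := fun h => h0 (by rw [h]; rfl)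
      rw [if_neg h0, if_neg hm0]
      simp
  obtain ⟨g, hg⟩ := h1
  obtain ⟨h, hh⟩ := h2
  refine ⟨g, h, ?_⟩
  rw [← hg, ← hh]
  ring

/-- Multiplication by `y`, as a map `A/(x) → A`. -/
noncomputable def mulY : N k →ₗ[R k] R k :=
  Submodule.liftQ (Ideal.span {x k}) (LinearMap.toSpanSingleton (R k) (R k) (y k)) (by
    show Submodule.span (R k) {x k} ≤ _
    rw [Submodule.span_le]
    rintro a (rfl : a = x k)
    show (LinearMap.toSpanSingleton (R k) (R k) (y k)) (x k) = 0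
    rw [LinearMap.toSpanSingleton_apply, smul_eq_mul]
    exact xy_zero k)

lemma mulY_mk (a : R k) : mulY k (Submodule.Quotient.mk a) = a * y k := rfl

/-- The short complex `0 → A/(x) --y--> A → A/(y) → 0`. -/
@[reducible] noncomputable def S : ShortComplex (ModuleCat.{u} (R k)) :=
  ShortComplex.mk (X₁ := ModuleCat.of (R k) (N k)) (X₂ := ModuleCat.of (R k) (R k))
    (X₃ := ModuleCat.of (R k) (Q k)) (ModuleCat.ofHom (mulY k))
    (ModuleCat.ofHom (Submodule.mkQ (Ideal.span {y k}))) (by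
      apply ModuleCat.hom_ext
      apply LinearMap.ext
      intro n
      obtain ⟨a, rfl⟩ := Submodule.mkQ_surjective _ n
      show Submodule.mkQ (Ideal.span {y k}) (mulY k (Submodule.Quotient.mk a)) = 0
      rw [mulY_mk]
      exact (Submodule.Quotient.mk_eq_zero _).2 (Ideal.mul_mem_left _ _ (Ideal.subset_span rfl)))

lemma shortExact : (S k).ShortExact := by
  refine ShortComplex.ShortExact.mk' ?_ ?_ ?_
  · rw [ShortComplex.moduleCat_exact_iff]
    intro (b : R k) (hb : Submodule.mkQ (Ideal.span {y k}) b = 0)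
    have hb' : b ∈ Ideal.span {y k} := (Submodule.Quotient.mk_eq_zero _).1 hb
    obtain ⟨c, rfl⟩ := Ideal.mem_span_singleton'.1 hb'
    exact ⟨Submodule.Quotient.mk c, mulY_mk k c⟩
  · refine (ModuleCat.mono_iff_injective _).2 ((injective_iff_map_eq_zero (mulY k)).2 ?_)
    intro n hn
    obtain ⟨a, rfl⟩ := Submodule.mkQ_surjective _ n
    rw [Submodule.mkQ_apply, mulY_mk] at hn
    exact (Submodule.Quotient.mk_eq_zero _).2 (mem_span_x_of_mul_y k a hn)
  · exact (ModuleCat.epi_iff_surjective _).2 (Submodule.mkQ_surjective _)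

theorem main :
    Module.finrank k (Ext (ModuleCat.of (R k) (Q k)) (ModuleCat.of (R k) (N k)) 1) = 1 := by
  have hS := shortExact k
  haveI : Projective (S k).X₂ := by
    show Projective (ModuleCat.of (R k) (R k))
    infer_instance
  let NN : ModuleCat.{u} (R k) := ModuleCat.of (R k) (N k)
  let v : Ext (S k).X₃ NN 1 := hS.extClass.comp (Ext.mk₀ (𝟙 NN)) (add_zero 1)
  have hv0 : v ≠ 0 := by
    intro h0
    obtain ⟨ψ0, hψ0⟩ := (comp_eq_zero_iff hS NN (𝟙 NN)).1 h0
    let ψ : ModuleCat.of (R k) (R k) ⟶ NN := ψ0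
    have hψ : (ModuleCat.ofHom (mulY k) : NN ⟶ ModuleCat.of (R k) (R k)) ≫ ψ = 𝟙 NN := hψ0
    have h1 : ψ.hom (mulY k (Submodule.Quotient.mk 1)) = (Submodule.Quotient.mk 1 : N k) :=
      congrArg (fun t : NN ⟶ NN => t.hom (Submodule.Quotient.mk 1 : N k)) hψ
    rw [mulY_mk, one_mul] at h1
    apply no_div k
    refine ⟨ψ.hom (1 : R k), ?_⟩
    rw [← map_smul, smul_eq_mul, mul_one]
    exact h1
  show Module.finrank k (Ext (S k).X₃ NN 1) = 1
  rw [finrank_eq_one_iff_of_nonzero' v hv0]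
  intro w
  obtain ⟨φ, rfl⟩ := exists_hom hS NN w
  obtain ⟨a, ha⟩ := Submodule.mkQ_surjective (Ideal.span {x k})
    (φ.hom (Submodule.Quotient.mk 1 : N k))
  obtain ⟨f, rfl⟩ := Ideal.Quotient.mk_surjective a
  obtain ⟨g, h, hf⟩ := decomp k f
  generalize MvPowerSeries.constantCoeff f = c at hf
  refine ⟨c, ?_⟩
  have hc : algebraMap k (R k) c = Ideal.Quotient.mk (I k) (MvPowerSeries.C c) := by
    rw [← Ideal.Quotient.mk_algebraMap, MvPowerSeries.algebraMap_apply]
    rfl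
  let ζ : NN ⟶ NN :=
    ModuleCat.ofHom (algebraMap k (R k) c • (LinearMap.id : N k →ₗ[R k] N k))
  have key : φ = ζ +
      ((ModuleCat.ofHom (mulY k) : NN ⟶ ModuleCat.of (R k) (R k)) ≫ (ModuleCat.ofHom
      (LinearMap.toSpanSingleton (R k) (N k)
        (Submodule.Quotient.mk (Ideal.Quotient.mk (I k) h))) :
          ModuleCat.of (R k) (R k) ⟶ NN)) := by
    apply ModuleCat.hom_ext
    apply Submodule.linearMap_qext
    apply LinearMap.ext_ring
    show φ.hom (Submodule.Quotient.mk 1) =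
      algebraMap k (R k) c • (Submodule.Quotient.mk (1 : R k) : N k) +
        (mulY k (Submodule.Quotient.mk 1)) •
          (Submodule.Quotient.mk (Ideal.Quotient.mk (I k) h) : N k)
    rw [← ha, mulY_mk, one_mul, hc, ← Submodule.Quotient.mk_smul, ← Submodule.Quotient.mk_smul,
      ← Submodule.Quotient.mk_add, Submodule.mkQ_apply, Submodule.Quotient.eq,
      Ideal.mem_span_singleton']
    refine ⟨Ideal.Quotient.mk (I k) g, ?_⟩
    rw [smul_eq_mul, smul_eq_mul, mul_one, hf]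
    simp only [map_add, map_mul]
    ring
  have e1 := Ext.mk₀_smul (R := k) c (𝟙 NN)
  have hζ : Ext.mk₀ ζ = c • Ext.mk₀ (𝟙 NN) := by
    rw [← e1]
    congr 1
  rw [key, Ext.mk₀_add, Ext.comp_add, hζ, Ext.comp_smul, ← Ext.mk₀_comp_mk₀]
  have hz := hS.extClass_comp_assoc (Y := NN) (n := 0) (n' := 1) (h := add_zero 1)
    (Ext.mk₀ (ModuleCat.ofHom (LinearMap.toSpanSingleton (R k) (N k)
        (Submodule.Quotient.mk (Ideal.Quotient.mk (I k) h))) : ModuleCat.of (R k) (R k) ⟶ NN))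
  rw [show (Ext.mk₀ (ModuleCat.ofHom (mulY k) : NN ⟶ ModuleCat.of (R k) (R k))) =
    Ext.mk₀ (S k).f from rfl, hz, add_zero]

end node

end NodeExt5
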