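import Mathlib
import Groth.Prelude.Def_W4c2arithlefschetzNode

namespace Groth.Agent.Lib.NodeFix

open ArLef

universe u

section

variable {B : Type u} [CommRing B]

/-- the diagonal exponent `(n, n)` -/
noncomputable def dg (n : ℕ) : Fin 2 →₀ ℕ := Finsupp.single 0 n + Finsupp.single 1 n

theorem dg_zero : dg 0 = 0 := by simp [dg]

theorem X0X1 : (MvPowerSeries.X 0 * MvPowerSeries.X 1 : MvPowerSeries (Fin 2) B) =
    MvPowerSeries.monomial (dg 1) 1 := by
  rw [MvPowerSeries.X_def, MvPowerSeries.X_def, MvPowerSeries.monomial_mul_monomial, mul_one]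
  rfl

theorem dg_le (n : ℕ) : dg 1 ≤ dg (n + 1) := by
  rw [Finsupp.le_def]
  intro i
  fin_cases i <;> simp [dg]

theorem dg_sub (n : ℕ) : dg (n + 1) - dg 1 = dg n := by
  ext i
  fin_cases i <;> simp [dg]

theorem dg_not_le : ¬ dg 1 ≤ dg 0 := by
  intro h
  have := Finsupp.le_def.mp h 0
  simp [dg] at this

theorem dg_succ_ne_zero (n : ℕ) : dg (n + 1) ≠ 0 := by
  intro h
  have := DFunLike.congr_fun h 0
  simp [dg] at this

theorem coeff_succ (a : B) (h : MvPowerSeries (Fin 2) B) (n : ℕ) :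
    MvPowerSeries.coeff (dg (n + 1))
      ((MvPowerSeries.X 0 * MvPowerSeries.X 1 - MvPowerSeries.C a) * h) =
      MvPowerSeries.coeff (dg n) h - a * MvPowerSeries.coeff (dg (n + 1)) h := by
  rw [sub_mul, map_sub, X0X1, MvPowerSeries.coeff_monomial_mul, if_pos (dg_le n), dg_sub,
    one_mul, MvPowerSeries.coeff_C_mul]

theorem coeff_zero' (a : B) (h : MvPowerSeries (Fin 2) B) :
    MvPowerSeries.coeff (dg 0)
      ((MvPowerSeries.X 0 * MvPowerSeries.X 1 - MvPowerSeries.C a) * h) =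
      - (a * MvPowerSeries.coeff (dg 0) h) := by
  rw [sub_mul, map_sub, X0X1, MvPowerSeries.coeff_monomial_mul, if_neg dg_not_le,
    MvPowerSeries.coeff_C_mul, zero_sub]

theorem C_pow_notMem [IsDomain B] [IsDiscreteValuationRing B] (π : B) (hπ : Irreducible π)
    (j : ℕ) :
    (MvPowerSeries.C (π ^ j) : MvPowerSeries (Fin 2) B) ∉
      Ideal.span {(MvPowerSeries.X 0 * MvPowerSeries.X 1 - MvPowerSeries.C π :
        MvPowerSeries (Fin 2) B)} := by
  classical
  intro hmem
  obtain ⟨h, hh⟩ := Ideal.mem_span_singleton'.mp hmem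
  rw [mul_comm] at hh
  have h0 : π ^ j = - (π * MvPowerSeries.coeff (dg 0) h) := by
    have := congrArg (MvPowerSeries.coeff (dg 0)) hh
    rw [coeff_zero', MvPowerSeries.coeff_C, if_pos dg_zero] at this
    exact this.symm
  have hrec : ∀ n, MvPowerSeries.coeff (dg n) h = π * MvPowerSeries.coeff (dg (n + 1)) h := by
    intro n
    have := congrArg (MvPowerSeries.coeff (dg (n + 1))) hh
    rw [coeff_succ, MvPowerSeries.coeff_C, if_neg (dg_succ_ne_zero n)] at this
    exact sub_eq_zero.mp this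
  have hpow : ∀ n, MvPowerSeries.coeff (dg 0) h = π ^ n * MvPowerSeries.coeff (dg n) h := by
    intro n
    induction n with
    | zero => simp
    | succ n ih => rw [ih, hrec n, pow_succ, mul_assoc]
  have hmemI : MvPowerSeries.coeff (dg 0) h ∈ (⨅ n : ℕ, (Ideal.span {π}) ^ n : Ideal B) := by
    rw [Ideal.mem_iInf]
    intro n
    rw [Ideal.span_singleton_pow, Ideal.mem_span_singleton]
    exact ⟨_, hpow n⟩
  have hne : (Ideal.span {π} : Ideal B) ≠ ⊤ := by
    rw [Ne, Ideal.span_singleton_eq_top]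
    exact hπ.not_isUnit
  rw [Ideal.iInf_pow_eq_bot_of_isLocalRing _ hne, Ideal.mem_bot] at hmemI
  rw [hmemI, mul_zero, neg_zero] at h0
  exact pow_ne_zero j hπ.ne_zero h0

theorem core [IsDomain B] [IsDiscreteValuationRing B] (π : B) (hπ : Irreducible π) (j : ℕ)
    (hj : 1 ≤ j) (γ : B) (hγ : IsUnit γ)
    (I : Ideal (MvPowerSeries (Fin 2) B))
    (hI : (MvPowerSeries.X 0 * MvPowerSeries.X 1 - MvPowerSeries.C π :
      MvPowerSeries (Fin 2) B) ∈ I)
    (hnot : (MvPowerSeries.C (π ^ j) : MvPowerSeries (Fin 2) B) ∉ I)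
    (σ : (MvPowerSeries (Fin 2) B ⧸ I) ≃+* (MvPowerSeries (Fin 2) B ⧸ I))
    (hσ : σ (Ideal.Quotient.mk I (MvPowerSeries.C π)) =
      Ideal.Quotient.mk I (MvPowerSeries.C (π + γ * π ^ j))) :
    ¬ ArLef.fixIdeal σ ≤ Ideal.span {Ideal.Quotient.mk I (MvPowerSeries.C (π ^ j))} := by
  intro hle
  have hmem : ∀ r, σ r - r ∈ Ideal.span {Ideal.Quotient.mk I (MvPowerSeries.C (π ^ j))} :=
    fun r => hle (Ideal.subset_span ⟨r, rfl⟩)
  obtain ⟨a, ha⟩ := Ideal.mem_span_singleton'.mp (hmem (Ideal.Quotient.mk I (MvPowerSeries.X 0)))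
  obtain ⟨b, hb⟩ := Ideal.mem_span_singleton'.mp (hmem (Ideal.Quotient.mk I (MvPowerSeries.X 1)))
  obtain ⟨a', rfl⟩ := Ideal.Quotient.mk_surjective a
  obtain ⟨b', rfl⟩ := Ideal.Quotient.mk_surjective b
  have hte : Ideal.Quotient.mk I (MvPowerSeries.X 0) * Ideal.Quotient.mk I (MvPowerSeries.X 1) =
      Ideal.Quotient.mk I (MvPowerSeries.C π) := by
    rw [← map_mul, Ideal.Quotient.eq]
    exact hI
  have hst : σ (Ideal.Quotient.mk I (MvPowerSeries.X 0)) =
      Ideal.Quotient.mk I (MvPowerSeries.X 0 + a' * MvPowerSeries.C (π ^ j)) := by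
    rw [map_add, map_mul, ha]
    ring
  have hse : σ (Ideal.Quotient.mk I (MvPowerSeries.X 1)) =
      Ideal.Quotient.mk I (MvPowerSeries.X 1 + b' * MvPowerSeries.C (π ^ j)) := by
    rw [map_add, map_mul, hb]
    ring
  have hmemI : (MvPowerSeries.X 0 + a' * MvPowerSeries.C (π ^ j)) *
      (MvPowerSeries.X 1 + b' * MvPowerSeries.C (π ^ j)) -
      MvPowerSeries.C (π + γ * π ^ j) ∈ I := by
    rw [← Ideal.Quotient.eq, map_mul, ← hst, ← hse, ← map_mul σ, hte, hσ]
  have hCu : MvPowerSeries.C (π ^ j) * (MvPowerSeries.C γ -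
      (a' * MvPowerSeries.X 1 + b' * MvPowerSeries.X 0 + a' * b' * MvPowerSeries.C (π ^ j))) ∈
      I := by
    have e : MvPowerSeries.C (π ^ j) * (MvPowerSeries.C γ -
        (a' * MvPowerSeries.X 1 + b' * MvPowerSeries.X 0 + a' * b' * MvPowerSeries.C (π ^ j))) =
        (MvPowerSeries.X 0 * MvPowerSeries.X 1 - MvPowerSeries.C π) -
        ((MvPowerSeries.X 0 + a' * MvPowerSeries.C (π ^ j)) *
          (MvPowerSeries.X 1 + b' * MvPowerSeries.C (π ^ j)) -
          MvPowerSeries.C (π + γ * π ^ j)) := by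
      rw [map_add, map_mul]
      ring
    rw [e]
    exact I.sub_mem hI hmemI
  have hu : IsUnit (MvPowerSeries.C γ -
      (a' * MvPowerSeries.X 1 + b' * MvPowerSeries.X 0 + a' * b' * MvPowerSeries.C (π ^ j)) :
      MvPowerSeries (Fin 2) B) := by
    rw [MvPowerSeries.isUnit_iff_constantCoeff]
    simp only [map_sub, map_add, map_mul, MvPowerSeries.constantCoeff_C,
      MvPowerSeries.constantCoeff_X, mul_zero, zero_add, add_zero]
    have hx : ¬ IsUnit (MvPowerSeries.constantCoeff a' * MvPowerSeries.constantCoeff b' *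
        π ^ j) := fun hu' =>
      hπ.not_isUnit ((isUnit_pow_iff (by omega)).mp (isUnit_of_mul_isUnit_right hu'))
    have := IsLocalRing.isUnit_or_isUnit_of_isUnit_add
      (a := γ - MvPowerSeries.constantCoeff a' * MvPowerSeries.constantCoeff b' * π ^ j)
      (b := MvPowerSeries.constantCoeff a' * MvPowerSeries.constantCoeff b' * π ^ j)
      (by rwa [sub_add_cancel])
    exact this.resolve_right hx
  obtain ⟨v, hv⟩ := hu.exists_right_inv
  apply hnot
  have h3 := I.mul_mem_left v hCu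
  have e2 : v * (MvPowerSeries.C (π ^ j) * (MvPowerSeries.C γ -
      (a' * MvPowerSeries.X 1 + b' * MvPowerSeries.X 0 + a' * b' * MvPowerSeries.C (π ^ j)))) =
      MvPowerSeries.C (π ^ j) := by
    calc v * (MvPowerSeries.C (π ^ j) * (MvPowerSeries.C γ -
          (a' * MvPowerSeries.X 1 + b' * MvPowerSeries.X 0 +
            a' * b' * MvPowerSeries.C (π ^ j))))
        = MvPowerSeries.C (π ^ j) * ((MvPowerSeries.C γ -
          (a' * MvPowerSeries.X 1 + b' * MvPowerSeries.X 0 +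
            a' * b' * MvPowerSeries.C (π ^ j))) * v) := by ring
      _ = MvPowerSeries.C (π ^ j) := by rw [hv, mul_one]
  rwa [e2] at h3

end

theorem main (B : Type u) [CommRing B] [IsDomain B] [IsDiscreteValuationRing B] (π : B)
    (hπ : Irreducible π)
    (j : ℕ) (hj : 1 ≤ j) (γ : B) (hγ : IsUnit γ)
    (σ : ArLef.NodeAlg B π ≃+* ArLef.NodeAlg B π)
    (hσ : σ (algebraMap B (ArLef.NodeAlg B π) π) =
      algebraMap B (ArLef.NodeAlg B π) (π + γ * π ^ j)) :
    ¬ ArLef.fixIdeal σ ≤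
      Ideal.span ({algebraMap B (ArLef.NodeAlg B π) (π ^ j)} : Set (ArLef.NodeAlg B π)) :=
  core π hπ j hj γ hγ
    (Ideal.span {(MvPowerSeries.X 0 * MvPowerSeries.X 1 - MvPowerSeries.C π :
      MvPowerSeries (Fin 2) B)})
    (Ideal.subset_span (Set.mem_singleton _)) (C_pow_notMem π hπ j) σ hσ

end Groth.Agent.Lib.NodeFix
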