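import Mathlib
import Groth.Statements.S18434

set_option autoImplicit false
universe u

namespace Groth.Agent.Lib.NodeQuot

open Finsupp

noncomputable abbrev m11 : Fin 2 →₀ ℕ := single 0 1 + single 1 1

lemma le_iff_two (μ n : Fin 2 →₀ ℕ) : μ ≤ n ↔ μ 0 ≤ n 0 ∧ μ 1 ≤ n 1 := by
  constructor
  · intro h; exact ⟨h 0, h 1⟩
  · rintro ⟨h0, h1⟩; exact Fin.forall_fin_two.mpr ⟨h0, h1⟩

lemma m11_le (n : Fin 2 →₀ ℕ) : m11 ≤ n ↔ 1 ≤ n 0 ∧ 1 ≤ n 1 := by
  rw [le_iff_two]; simp [m11]

lemma s0_le (a : ℕ) (n : Fin 2 →₀ ℕ) : single (0 : Fin 2) a ≤ n ↔ a ≤ n 0 := by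
  rw [le_iff_two]; simp

lemma s1_le (a : ℕ) (n : Fin 2 →₀ ℕ) : single (1 : Fin 2) a ≤ n ↔ a ≤ n 1 := by
  rw [le_iff_two]; simp

lemma eq_single0 (n : Fin 2 →₀ ℕ) (h : n 1 = 0) : n = single 0 (n 0) :=
  Finsupp.ext (Fin.forall_fin_two.mpr ⟨by simp, by simp [h]⟩)

lemma eq_single1 (n : Fin 2 →₀ ℕ) (h : n 0 = 0) : n = single 1 (n 1) :=
  Finsupp.ext (Fin.forall_fin_two.mpr ⟨by simp [h], by simp⟩)

/-- index map -/
noncomputable def iota (u v : ℕ) : Fin u ⊕ Fin (v - 1) → (Fin 2 →₀ ℕ) :=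
  Sum.elim (fun i => single 0 (i : ℕ)) (fun j => single 1 ((j : ℕ) + 1))

lemma iota_injective (u v : ℕ) : Function.Injective (iota u v) := by
  rintro (i | j) (i' | j') h
  · have := DFunLike.congr_fun h 0
    simp only [iota, Sum.elim_inl, single_eq_same] at this
    exact congrArg Sum.inl (Fin.ext this)
  · have := DFunLike.congr_fun h 1
    simp [iota] at this
  · have := DFunLike.congr_fun h 1
    simp [iota] at this
  · have := DFunLike.congr_fun h 1
    simp only [iota, Sum.elim_inr, single_eq_same, add_left_inj] at this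
    exact congrArg Sum.inr (Fin.ext this)

lemma iota_not_le (u v : ℕ) (hu : 1 ≤ u) (hv : 1 ≤ v) (t : Fin u ⊕ Fin (v - 1)) :
    ¬ m11 ≤ iota u v t ∧ ¬ single (0 : Fin 2) u ≤ iota u v t ∧
      ¬ single (1 : Fin 2) v ≤ iota u v t := by
  rw [m11_le, s0_le, s1_le]
  rcases t with i | j
  · have := i.2
    simp only [iota, Sum.elim_inl, single_eq_same]
    have h1 : (single (0 : Fin 2) (i : ℕ)) 1 = 0 := by simp
    rw [h1]
    omega
  · have := j.2
    simp only [iota, Sum.elim_inr, single_eq_same]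
    have h1 : (single (1 : Fin 2) ((j : ℕ) + 1)) 0 = 0 := by simp
    rw [h1]
    omega

variable {k : Type u} [Field k]

lemma coeff_van (μ n : Fin 2 →₀ ℕ) (h : ¬ μ ≤ n) (φ : MvPowerSeries (Fin 2) k) :
    MvPowerSeries.coeff n (φ * MvPowerSeries.monomial μ 1) = 0 := by
  rw [MvPowerSeries.coeff_mul_monomial, if_neg h]

lemma hX01 : (MvPowerSeries.X 0 * MvPowerSeries.X 1 - MvPowerSeries.C (0 : k) :
    MvPowerSeries (Fin 2) k) = MvPowerSeries.monomial m11 1 := by
  rw [map_zero, sub_zero, MvPowerSeries.X_def, MvPowerSeries.X_def,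
    MvPowerSeries.monomial_mul_monomial, mul_one]

/-- decomposition -/
lemma decomp (u v : ℕ) (hu : 1 ≤ u) (hv : 1 ≤ v) (f : MvPowerSeries (Fin 2) k)
    (hf : ∀ t, f (iota u v t) = 0) :
    ∃ g g' g'' : MvPowerSeries (Fin 2) k,
      f = g * MvPowerSeries.monomial m11 1 + g' * MvPowerSeries.monomial (single 0 u) 1
        + g'' * MvPowerSeries.monomial (single 1 v) 1 := by
  have hf0 : ∀ i, i < u → f (single 0 i) = 0 := fun i hi => hf (Sum.inl ⟨i, hi⟩)
  have hf1 : ∀ j, 1 ≤ j → j < v → f (single 1 j) = 0 := by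
    intro j h1 h2
    have := hf (Sum.inr ⟨j - 1, by omega⟩)
    simp only [iota, Sum.elim_inr] at this
    rwa [Nat.sub_add_cancel h1] at this
  refine ⟨fun m => f (m + m11), fun m => if m 1 = 0 then f (m + single 0 u) else 0,
    fun m => if m 0 = 0 then f (m + single 1 v) else 0, ?_⟩
  ext n
  rw [map_add, map_add, MvPowerSeries.coeff_mul_monomial, MvPowerSeries.coeff_mul_monomial,
    MvPowerSeries.coeff_mul_monomial, mul_one, mul_one, mul_one]
  simp only [MvPowerSeries.coeff_apply]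
  have hA : (if m11 ≤ n then f (n - m11 + m11) else 0) =
      if 1 ≤ n 0 ∧ 1 ≤ n 1 then f n else 0 := by
    by_cases h : m11 ≤ n
    · rw [if_pos h, if_pos ((m11_le n).mp h), tsub_add_cancel_of_le h]
    · rw [if_neg h, if_neg (fun h' => h ((m11_le n).mpr h'))]
  have hB : (if single (0 : Fin 2) u ≤ n then
      (if (n - single (0 : Fin 2) u) 1 = 0 then f (n - single 0 u + single 0 u) else 0) else 0) =
      if u ≤ n 0 ∧ n 1 = 0 then f n else 0 := by
    by_cases h : single (0 : Fin 2) u ≤ n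
    · have h' := (s0_le u n).mp h
      have e1 : (n - single (0 : Fin 2) u) 1 = n 1 := by simp [Finsupp.tsub_apply]
      rw [if_pos h, tsub_add_cancel_of_le h, e1]
      by_cases h1 : n 1 = 0 <;> simp [h1, h']
    · have h' : ¬ u ≤ n 0 := fun h' => h ((s0_le u n).mpr h')
      rw [if_neg h]; simp [h']
  have hC : (if single (1 : Fin 2) v ≤ n then
      (if (n - single (1 : Fin 2) v) 0 = 0 then f (n - single 1 v + single 1 v) else 0) else 0) =
      if v ≤ n 1 ∧ n 0 = 0 then f n else 0 := by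
    by_cases h : single (1 : Fin 2) v ≤ n
    · have h' := (s1_le v n).mp h
      have e1 : (n - single (1 : Fin 2) v) 0 = n 0 := by simp [Finsupp.tsub_apply]
      rw [if_pos h, tsub_add_cancel_of_le h, e1]
      by_cases h1 : n 0 = 0 <;> simp [h1, h']
    · have h' : ¬ v ≤ n 1 := fun h' => h ((s1_le v n).mpr h')
      rw [if_neg h]; simp [h']
  rw [hA, hB, hC]
  by_cases h0 : n 0 = 0
  · by_cases h1 : v ≤ n 1
    · have : ¬ (1 ≤ n 0 ∧ 1 ≤ n 1) := by omega
      have h2 : ¬ (u ≤ n 0 ∧ n 1 = 0) := by omega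
      rw [if_neg this, if_neg h2, if_pos ⟨h1, h0⟩]; simp
    · have : ¬ (1 ≤ n 0 ∧ 1 ≤ n 1) := by omega
      have h2 : ¬ (u ≤ n 0 ∧ n 1 = 0) := by omega
      have h3 : ¬ (v ≤ n 1 ∧ n 0 = 0) := by omega
      rw [if_neg this, if_neg h2, if_neg h3]
      simp only [add_zero]
      rw [eq_single1 n h0]
      by_cases h4 : n 1 = 0
      · rw [h4]
        have := hf0 0 (by omega)
        simpa using this
      · exact hf1 (n 1) (by omega) (by omega)
  · by_cases h1 : n 1 = 0
    · by_cases h2 : u ≤ n 0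
      · have : ¬ (1 ≤ n 0 ∧ 1 ≤ n 1) := by omega
        have h3 : ¬ (v ≤ n 1 ∧ n 0 = 0) := by omega
        rw [if_neg this, if_pos ⟨h2, h1⟩, if_neg h3]; simp
      · have : ¬ (1 ≤ n 0 ∧ 1 ≤ n 1) := by omega
        have h3 : ¬ (v ≤ n 1 ∧ n 0 = 0) := by omega
        have h4 : ¬ (u ≤ n 0 ∧ n 1 = 0) := by omega
        rw [if_neg this, if_neg h4, if_neg h3]
        simp only [add_zero]
        rw [eq_single0 n h1]
        exact hf0 (n 0) (by omega)
    · have : (1 ≤ n 0 ∧ 1 ≤ n 1) := by omega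
      have h3 : ¬ (v ≤ n 1 ∧ n 0 = 0) := by omega
      have h4 : ¬ (u ≤ n 0 ∧ n 1 = 0) := by omega
      rw [if_pos this, if_neg h4, if_neg h3]; simp

theorem main (k : Type u) [Field k] (u v : ℕ) (hu : 1 ≤ u) (hv : 1 ≤ v)
    (w : k) (hw : w ≠ 0) :
    Module.finrank k (SpinCurv.NodeRing k 0 ⧸
      Ideal.span {SpinCurv.NodeRing.x k 0 ^ u,
        algebraMap k (SpinCurv.NodeRing k 0) w * SpinCurv.NodeRing.y k 0 ^ v}) =
      u + v - 1 := by
  classical
  let I0 : Ideal (MvPowerSeries (Fin 2) k) :=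
    Ideal.span {(MvPowerSeries.X 0 * MvPowerSeries.X 1 - MvPowerSeries.C (0:k) :
      MvPowerSeries (Fin 2) k)}
  let J : Ideal (SpinCurv.NodeRing k 0) := Ideal.span {SpinCurv.NodeRing.x k 0 ^ u,
        algebraMap k (SpinCurv.NodeRing k 0) w * SpinCurv.NodeRing.y k 0 ^ v}
  show Module.finrank k (SpinCurv.NodeRing k 0 ⧸ J) = u + v - 1
  let Ψ : MvPowerSeries (Fin 2) k →ₗ[k] (SpinCurv.NodeRing k 0 ⧸ J) :=
    ((Submodule.mkQ J).restrictScalars k).comp ((Submodule.mkQ I0).restrictScalars k)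
  let Φ : MvPowerSeries (Fin 2) k →ₗ[k] (Fin u ⊕ Fin (v - 1) → k) :=
    LinearMap.pi (fun t => MvPowerSeries.coeff (iota u v t))
  have hΨsurj : Function.Surjective Ψ :=
    (Submodule.mkQ_surjective J).comp (Submodule.mkQ_surjective I0)
  have hΦsurj : Function.Surjective Φ := by
    intro c
    refine ⟨Function.extend (iota u v) c 0, ?_⟩
    funext t
    show Function.extend (iota u v) c 0 (iota u v t) = c t
    exact (iota_injective u v).extend_apply c 0 t
  have hΨ0 : ∀ f : MvPowerSeries (Fin 2) k, Ψ f = 0 ↔ Ideal.Quotient.mk I0 f ∈ J := by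
    intro f
    exact Submodule.Quotient.mk_eq_zero J
  have hxy : Ideal.Quotient.mk I0 (MvPowerSeries.monomial m11 1) = 0 := by
    rw [← hX01]
    exact Ideal.Quotient.eq_zero_iff_mem.mpr (Ideal.mem_span_singleton_self _)
  have hxu : Ideal.Quotient.mk I0 (MvPowerSeries.monomial (single 0 u) 1) ∈ J := by
    rw [← MvPowerSeries.X_pow_eq, map_pow]
    exact Ideal.subset_span (Set.mem_insert _ _)
  have hyv : Ideal.Quotient.mk I0 (MvPowerSeries.monomial (single 1 v) 1) ∈ J := by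
    rw [← MvPowerSeries.X_pow_eq, map_pow]
    have h1 : algebraMap k (SpinCurv.NodeRing k 0) w * SpinCurv.NodeRing.y k 0 ^ v ∈ J :=
      Ideal.subset_span (Set.mem_insert_of_mem _ (Set.mem_singleton _))
    have h2 := Ideal.mul_mem_left J (algebraMap k (SpinCurv.NodeRing k 0) w⁻¹) h1
    rwa [← mul_assoc, ← map_mul, inv_mul_cancel₀ hw, map_one, one_mul] at h2
  have hker : ∀ f : MvPowerSeries (Fin 2) k, Ψ f = 0 ↔ Φ f = 0 := by
    intro f
    constructor
    · intro h
      rw [hΨ0] at h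
      obtain ⟨c, d, hcd⟩ := Ideal.mem_span_pair.mp h
      obtain ⟨c', rfl⟩ := Ideal.Quotient.mk_surjective c
      obtain ⟨d', rfl⟩ := Ideal.Quotient.mk_surjective d
      have h3 : f - (c' * MvPowerSeries.X 0 ^ u +
          d' * (algebraMap k (MvPowerSeries (Fin 2) k) w * MvPowerSeries.X 1 ^ v)) ∈ I0 := by
        rw [← Ideal.Quotient.eq_zero_iff_mem, map_sub, ← hcd]
        simp only [map_add, map_mul, map_pow, Ideal.Quotient.mk_algebraMap]
        exact sub_self _
      obtain ⟨e, he⟩ := Ideal.mem_span_singleton'.mp h3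
      have hf : f = e * MvPowerSeries.monomial m11 1 +
          c' * MvPowerSeries.monomial (single 0 u) 1 +
          (d' * algebraMap k (MvPowerSeries (Fin 2) k) w) *
            MvPowerSeries.monomial (single 1 v) 1 := by
        rw [← hX01, ← MvPowerSeries.X_pow_eq, ← MvPowerSeries.X_pow_eq]
        linear_combination -he
      funext t
      obtain ⟨n1, n2, n3⟩ := iota_not_le u v hu hv t
      show MvPowerSeries.coeff (iota u v t) f = 0
      rw [hf, map_add, map_add, coeff_van _ _ n1, coeff_van _ _ n2, coeff_van _ _ n3]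
      simp
    · intro h
      have hf : ∀ t, f (iota u v t) = 0 := fun t => congrFun h t
      obtain ⟨g, g', g'', hdec⟩ := decomp u v hu hv f hf
      rw [hΨ0, hdec]
      simp only [map_add, map_mul, hxy, mul_zero, zero_add]
      exact Ideal.add_mem _ (Ideal.mul_mem_left _ _ hxu) (Ideal.mul_mem_left _ _ hyv)
  have hk : LinearMap.ker Ψ = LinearMap.ker Φ := by
    ext f
    rw [LinearMap.mem_ker, LinearMap.mem_ker, hker]
  let e1 := Ψ.quotKerEquivOfSurjective hΨsurj
  let e2 := Φ.quotKerEquivOfSurjective hΦsurj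
  let e : (SpinCurv.NodeRing k 0 ⧸ J) ≃ₗ[k] (Fin u ⊕ Fin (v - 1) → k) :=
    e1.symm.trans ((Submodule.quotEquivOfEq _ _ hk).trans e2)
  rw [e.finrank_eq, Module.finrank_fintype_fun_eq_card, Fintype.card_sum, Fintype.card_fin,
    Fintype.card_fin]
  omega

end Groth.Agent.Lib.NodeQuot
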