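import Mathlib
import Groth.Agent.Lib.NodeQuot_lead

set_option autoImplicit false
set_option linter.unusedVariables false
set_option linter.unusedTactic false
set_option linter.unreachableTactic false
set_option linter.unusedSectionVars false
set_option maxHeartbeats 800000

universe u

open Finsupp
open Groth.Agent.Lib.NodeQuot

namespace Groth.Agent.Lib.NodeIdealH4

variable {k : Type u} [Field k]

theorem xy_eq : (MvPowerSeries.X 0 * MvPowerSeries.X 1 : MvPowerSeries (Fin 2) k) =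
    MvPowerSeries.monomial m11 1 := by
  rw [MvPowerSeries.X_def, MvPowerSeries.X_def, MvPowerSeries.monomial_mul_monomial, mul_one]

/-- the monomial ideal -/
noncomputable def J0 (k : Type u) [Field k] (u v : ℕ) : Ideal (MvPowerSeries (Fin 2) k) :=
  Ideal.span {MvPowerSeries.X 0 * MvPowerSeries.X 1, MvPowerSeries.X 0 ^ u, MvPowerSeries.X 1 ^ v}

theorem memJ0 (u v : ℕ) (hu : 1 ≤ u) (hv : 1 ≤ v) (f : MvPowerSeries (Fin 2) k) :
    f ∈ J0 k u v ↔ ∀ t, MvPowerSeries.coeff (iota u v t) f = 0 := by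
  constructor
  · intro h t
    obtain ⟨p, z, hz, rfl⟩ := Ideal.mem_span_insert.mp h
    obtain ⟨q, r, rfl⟩ := Ideal.mem_span_pair.mp hz
    obtain ⟨n1, n2, n3⟩ := iota_not_le u v hu hv t
    rw [xy_eq, MvPowerSeries.X_pow_eq, MvPowerSeries.X_pow_eq, map_add, map_add,
      coeff_van _ _ n1, coeff_van _ _ n2, coeff_van _ _ n3, add_zero, add_zero]
  · intro h
    obtain ⟨g, g', g'', hdec⟩ := decomp u v hu hv f
      (fun t => (MvPowerSeries.coeff_apply f _).symm.trans (h t))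
    rw [hdec, ← xy_eq, ← MvPowerSeries.X_pow_eq, ← MvPowerSeries.X_pow_eq]
    refine Ideal.add_mem _ (Ideal.add_mem _ (Ideal.mul_mem_left _ _ ?_)
      (Ideal.mul_mem_left _ _ ?_)) (Ideal.mul_mem_left _ _ ?_)
    · exact Ideal.subset_span (by simp)
    · exact Ideal.subset_span (by simp)
    · exact Ideal.subset_span (by simp)

noncomputable def Φ0 (k : Type u) [Field k] (u v : ℕ) :
    MvPowerSeries (Fin 2) k →ₗ[k] (Fin u ⊕ Fin (v - 1) → k) :=
  LinearMap.pi (fun t => MvPowerSeries.coeff (iota u v t))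

theorem Φ0_apply (u v : ℕ) (f : MvPowerSeries (Fin 2) k) (t : Fin u ⊕ Fin (v - 1)) :
    Φ0 k u v f t = MvPowerSeries.coeff (iota u v t) f := rfl

theorem Φ0_surj (u v : ℕ) : Function.Surjective (Φ0 k u v) := by
  intro c
  refine ⟨Function.extend (iota u v) c 0, ?_⟩
  funext t
  show Function.extend (iota u v) c 0 (iota u v t) = c t
  exact (iota_injective u v).extend_apply c 0 t

theorem finrank_of_ker {W : Type*} [AddCommGroup W] [Module k W]
    (J : Ideal (MvPowerSeries (Fin 2) k)) (Φ : MvPowerSeries (Fin 2) k →ₗ[k] W)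
    (hΦ : Function.Surjective Φ) (hker : ∀ f, f ∈ J ↔ Φ f = 0) :
    Module.finrank k (MvPowerSeries (Fin 2) k ⧸ J) = Module.finrank k W := by
  let Ψ : MvPowerSeries (Fin 2) k →ₗ[k] (MvPowerSeries (Fin 2) k ⧸ J) :=
    (Submodule.mkQ J).restrictScalars k
  have hΨ : Function.Surjective Ψ := Submodule.mkQ_surjective J
  have hk : LinearMap.ker Ψ = LinearMap.ker Φ := by
    ext f
    rw [LinearMap.mem_ker, LinearMap.mem_ker, ← hker]
    exact Submodule.Quotient.mk_eq_zero J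
  exact ((Ψ.quotKerEquivOfSurjective hΨ).symm.trans
    ((Submodule.quotEquivOfEq _ _ hk).trans (Φ.quotKerEquivOfSurjective hΦ))).finrank_eq

theorem finrank_J0 (u v : ℕ) (hu : 1 ≤ u) (hv : 1 ≤ v) :
    Module.finrank k (MvPowerSeries (Fin 2) k ⧸ J0 k u v) = u + v - 1 := by
  rw [finrank_of_ker (J0 k u v) (Φ0 k u v) (Φ0_surj u v)
    (fun f => by
      rw [memJ0 u v hu hv]
      exact ⟨fun h => funext h, fun h t => congrFun h t⟩),
    Module.finrank_fintype_fun_eq_card, Fintype.card_sum, Fintype.card_fin, Fintype.card_fin]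
  omega

theorem ifB0 (f : MvPowerSeries (Fin 2) k) (u : ℕ) (n : Fin 2 →₀ ℕ) :
    (if single (0 : Fin 2) u ≤ n then
      (if (n - single (0 : Fin 2) u) 1 = 0 then f (n - single 0 u + single 0 u) else 0) else 0) =
      if u ≤ n 0 ∧ n 1 = 0 then f n else 0 := by
  by_cases h : single (0 : Fin 2) u ≤ n
  · have h' := (s0_le u n).mp h
    have e1 : (n - single (0 : Fin 2) u) 1 = n 1 := by simp [Finsupp.tsub_apply]
    rw [if_pos h, tsub_add_cancel_of_le h, e1]
    by_cases h1 : n 1 = 0 <;> simp [h1, h']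
  · have h' : ¬ u ≤ n 0 := fun h' => h ((s0_le u n).mpr h')
    rw [if_neg h]; simp [h']

theorem ifC1 (f : MvPowerSeries (Fin 2) k) (v : ℕ) (n : Fin 2 →₀ ℕ) :
    (if single (1 : Fin 2) v ≤ n then
      (if (n - single (1 : Fin 2) v) 0 = 0 then f (n - single 1 v + single 1 v) else 0) else 0) =
      if v ≤ n 1 ∧ n 0 = 0 then f n else 0 := by
  by_cases h : single (1 : Fin 2) v ≤ n
  · have h' := (s1_le v n).mp h
    have e1 : (n - single (1 : Fin 2) v) 0 = n 0 := by simp [Finsupp.tsub_apply]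
    rw [if_pos h, tsub_add_cancel_of_le h, e1]
    by_cases h1 : n 0 = 0 <;> simp [h1, h']
  · have h' : ¬ v ≤ n 1 := fun h' => h ((s1_le v n).mpr h')
    rw [if_neg h]; simp [h']

theorem ifG1 (f : MvPowerSeries (Fin 2) k) (n : Fin 2 →₀ ℕ) :
    (if single (1 : Fin 2) 1 ≤ n then f (n - single 1 1 + single 1 1) else 0) =
      if 1 ≤ n 1 then f n else 0 := by
  by_cases h : single (1 : Fin 2) 1 ≤ n
  · rw [if_pos h, tsub_add_cancel_of_le h, if_pos ((s1_le 1 n).mp h)]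
  · rw [if_neg h, if_neg (fun h' => h ((s1_le 1 n).mpr h'))]

theorem ifG0 (f : MvPowerSeries (Fin 2) k) (n : Fin 2 →₀ ℕ) :
    (if single (0 : Fin 2) 1 ≤ n then f (n - single 0 1 + single 0 1) else 0) =
      if 1 ≤ n 0 then f n else 0 := by
  by_cases h : single (0 : Fin 2) 1 ≤ n
  · rw [if_pos h, tsub_add_cancel_of_le h, if_pos ((s0_le 1 n).mp h)]
  · rw [if_neg h, if_neg (fun h' => h ((s0_le 1 n).mpr h'))]

theorem decompX (h : MvPowerSeries (Fin 2) k) (i0 : ℕ)
    (hz : ∀ i, i < i0 → MvPowerSeries.coeff (single 0 i) h = 0) :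
    ∃ U G : MvPowerSeries (Fin 2) k,
      MvPowerSeries.constantCoeff U = MvPowerSeries.coeff (single 0 i0) h ∧
      h = U * MvPowerSeries.monomial (single 0 i0) 1 + G * MvPowerSeries.monomial (single 1 1) 1 := by
  have hz' : ∀ i, i < i0 → h (single 0 i) = 0 := fun i hi =>
    (MvPowerSeries.coeff_apply h _).symm.trans (hz i hi)
  obtain ⟨U, hU⟩ : ∃ U : MvPowerSeries (Fin 2) k, ∀ m : Fin 2 →₀ ℕ,
      MvPowerSeries.coeff m U = (if m 1 = 0 then h (m + single 0 i0) else 0) :=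
    ⟨fun m => if m 1 = 0 then h (m + single 0 i0) else 0, fun m => rfl⟩
  obtain ⟨G, hG⟩ : ∃ G : MvPowerSeries (Fin 2) k, ∀ m : Fin 2 →₀ ℕ,
      MvPowerSeries.coeff m G = h (m + single 1 1) :=
    ⟨fun m => h (m + single 1 1), fun m => rfl⟩
  have h01 : (0 : Fin 2 →₀ ℕ) 1 = 0 := rfl
  refine ⟨U, G, ?_, ?_⟩
  · rw [← MvPowerSeries.coeff_zero_eq_constantCoeff_apply, hU, if_pos h01, zero_add,
      MvPowerSeries.coeff_apply]
  · ext n
    rw [map_add, MvPowerSeries.coeff_mul_monomial, MvPowerSeries.coeff_mul_monomial, mul_one,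
      mul_one, hU, hG, MvPowerSeries.coeff_apply]
    rw [ifB0 h i0 n, ifG1 h n]
    by_cases h1 : n 1 = 0
    · have h3 : ¬ 1 ≤ n 1 := by omega
      rw [if_neg h3, add_zero]
      by_cases h4 : i0 ≤ n 0
      · rw [if_pos ⟨h4, h1⟩]
      · rw [if_neg (fun hc => h4 hc.1)]
        rw [eq_single0 n h1]
        exact hz' (n 0) (by omega)
    · have h3 : 1 ≤ n 1 := by omega
      rw [if_neg (fun hc => h1 hc.2), if_pos h3, zero_add]

theorem decompY (h : MvPowerSeries (Fin 2) k) (i0 : ℕ)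
    (hz : ∀ i, i < i0 → MvPowerSeries.coeff (single 1 i) h = 0) :
    ∃ U G : MvPowerSeries (Fin 2) k,
      MvPowerSeries.constantCoeff U = MvPowerSeries.coeff (single 1 i0) h ∧
      h = U * MvPowerSeries.monomial (single 1 i0) 1 + G * MvPowerSeries.monomial (single 0 1) 1 := by
  have hz' : ∀ i, i < i0 → h (single 1 i) = 0 := fun i hi =>
    (MvPowerSeries.coeff_apply h _).symm.trans (hz i hi)
  obtain ⟨U, hU⟩ : ∃ U : MvPowerSeries (Fin 2) k, ∀ m : Fin 2 →₀ ℕ,
      MvPowerSeries.coeff m U = (if m 0 = 0 then h (m + single 1 i0) else 0) :=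
    ⟨fun m => if m 0 = 0 then h (m + single 1 i0) else 0, fun m => rfl⟩
  obtain ⟨G, hG⟩ : ∃ G : MvPowerSeries (Fin 2) k, ∀ m : Fin 2 →₀ ℕ,
      MvPowerSeries.coeff m G = h (m + single 0 1) :=
    ⟨fun m => h (m + single 0 1), fun m => rfl⟩
  have h00 : (0 : Fin 2 →₀ ℕ) 0 = 0 := rfl
  refine ⟨U, G, ?_, ?_⟩
  · rw [← MvPowerSeries.coeff_zero_eq_constantCoeff_apply, hU, if_pos h00, zero_add,
      MvPowerSeries.coeff_apply]
  · ext n
    rw [map_add, MvPowerSeries.coeff_mul_monomial, MvPowerSeries.coeff_mul_monomial, mul_one,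
      mul_one, hU, hG, MvPowerSeries.coeff_apply]
    rw [ifC1 h i0 n, ifG0 h n]
    by_cases h1 : n 0 = 0
    · have h3 : ¬ 1 ≤ n 0 := by omega
      rw [if_neg h3, add_zero]
      by_cases h4 : i0 ≤ n 1
      · rw [if_pos ⟨h4, h1⟩]
      · rw [if_neg (fun hc => h4 hc.1)]
        rw [eq_single1 n h1]
        exact hz' (n 1) (by omega)
    · have h3 : 1 ≤ n 0 := by omega
      rw [if_neg (fun hc => h1 hc.2), if_pos h3, zero_add]

theorem lemmaEx (J : Ideal (MvPowerSeries (Fin 2) k))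
    (hxy : (MvPowerSeries.X 0 * MvPowerSeries.X 1 : MvPowerSeries (Fin 2) k) ∈ J)
    (h : MvPowerSeries (Fin 2) k) (hJ : h ∈ J) (i0 : ℕ)
    (hz : ∀ i, i < i0 → MvPowerSeries.coeff (single 0 i) h = 0)
    (hne : MvPowerSeries.coeff (single 0 i0) h ≠ 0) :
    (MvPowerSeries.X 0 : MvPowerSeries (Fin 2) k) ^ (i0 + 1) ∈ J := by
  obtain ⟨U, G, hU, hdec⟩ := decompX h i0 hz
  have hunit : IsUnit U := by
    rw [MvPowerSeries.isUnit_iff_constantCoeff, hU]
    exact isUnit_iff_ne_zero.mpr hne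
  obtain ⟨V, hV⟩ := hunit.exists_left_inv
  have e1 : MvPowerSeries.X 0 * h - G * (MvPowerSeries.X 0 * MvPowerSeries.X 1) =
      U * MvPowerSeries.X 0 ^ (i0 + 1) := by
    have hdec' : h = U * MvPowerSeries.X 0 ^ i0 + G * MvPowerSeries.X 1 := by
      rw [MvPowerSeries.X_pow_eq, MvPowerSeries.X_def]; exact hdec
    rw [hdec']
    ring
  have e : (MvPowerSeries.X 0 : MvPowerSeries (Fin 2) k) ^ (i0 + 1) =
      V * (MvPowerSeries.X 0 * h - G * (MvPowerSeries.X 0 * MvPowerSeries.X 1)) := by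
    rw [e1, ← mul_assoc, hV, one_mul]
  rw [e]
  exact Ideal.mul_mem_left _ _ (Ideal.sub_mem _ (Ideal.mul_mem_left _ _ hJ)
    (Ideal.mul_mem_left _ _ hxy))

theorem lemmaEy (J : Ideal (MvPowerSeries (Fin 2) k))
    (hxy : (MvPowerSeries.X 0 * MvPowerSeries.X 1 : MvPowerSeries (Fin 2) k) ∈ J)
    (h : MvPowerSeries (Fin 2) k) (hJ : h ∈ J) (i0 : ℕ)
    (hz : ∀ i, i < i0 → MvPowerSeries.coeff (single 1 i) h = 0)
    (hne : MvPowerSeries.coeff (single 1 i0) h ≠ 0) :
    (MvPowerSeries.X 1 : MvPowerSeries (Fin 2) k) ^ (i0 + 1) ∈ J := by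
  obtain ⟨U, G, hU, hdec⟩ := decompY h i0 hz
  have hunit : IsUnit U := by
    rw [MvPowerSeries.isUnit_iff_constantCoeff, hU]
    exact isUnit_iff_ne_zero.mpr hne
  obtain ⟨V, hV⟩ := hunit.exists_left_inv
  have e1 : MvPowerSeries.X 1 * h - G * (MvPowerSeries.X 0 * MvPowerSeries.X 1) =
      U * MvPowerSeries.X 1 ^ (i0 + 1) := by
    have hdec' : h = U * MvPowerSeries.X 1 ^ i0 + G * MvPowerSeries.X 0 := by
      rw [MvPowerSeries.X_pow_eq, MvPowerSeries.X_def]; exact hdec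
    rw [hdec']
    ring
  have e : (MvPowerSeries.X 1 : MvPowerSeries (Fin 2) k) ^ (i0 + 1) =
      V * (MvPowerSeries.X 1 * h - G * (MvPowerSeries.X 0 * MvPowerSeries.X 1)) := by
    rw [e1, ← mul_assoc, hV, one_mul]
  rw [e]
  exact Ideal.mul_mem_left _ _ (Ideal.sub_mem _ (Ideal.mul_mem_left _ _ hJ)
    (Ideal.mul_mem_left _ _ hxy))

theorem coeffX_zero (J : Ideal (MvPowerSeries (Fin 2) k))
    (hxy : (MvPowerSeries.X 0 * MvPowerSeries.X 1 : MvPowerSeries (Fin 2) k) ∈ J) (a : ℕ)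
    (hmin : ∀ i, i < a → (MvPowerSeries.X 0 : MvPowerSeries (Fin 2) k) ^ i ∉ J)
    (h : MvPowerSeries (Fin 2) k) (hJ : h ∈ J) :
    ∀ i, i + 1 < a → MvPowerSeries.coeff (single 0 i) h = 0 := by
  intro i
  induction i using Nat.strong_induction_on with
  | _ i ih =>
    intro hi
    by_contra hne
    exact hmin (i + 1) hi (lemmaEx J hxy h hJ i (fun i' hi' => ih i' hi' (by omega)) hne)

theorem coeffY_zero (J : Ideal (MvPowerSeries (Fin 2) k))
    (hxy : (MvPowerSeries.X 0 * MvPowerSeries.X 1 : MvPowerSeries (Fin 2) k) ∈ J) (b : ℕ)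
    (hmin : ∀ i, i < b → (MvPowerSeries.X 1 : MvPowerSeries (Fin 2) k) ^ i ∉ J)
    (h : MvPowerSeries (Fin 2) k) (hJ : h ∈ J) :
    ∀ i, i + 1 < b → MvPowerSeries.coeff (single 1 i) h = 0 := by
  intro i
  induction i using Nat.strong_induction_on with
  | _ i ih =>
    intro hi
    by_contra hne
    exact hmin (i + 1) hi (lemmaEy J hxy h hJ i (fun i' hi' => ih i' hi' (by omega)) hne)

theorem exists_pow_mem (s0 : Fin 2) (J : Ideal (MvPowerSeries (Fin 2) k))
    [Module.Finite k (MvPowerSeries (Fin 2) k ⧸ J)] :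
    ∃ P : MvPowerSeries (Fin 2) k, P ∈ J ∧ ∃ i, MvPowerSeries.coeff (single s0 i) P ≠ 0 := by
  obtain ⟨n, hn⟩ : ∃ n, n = Module.finrank k (MvPowerSeries (Fin 2) k ⧸ J) := ⟨_, rfl⟩
  have hnl : ¬ LinearIndependent k (fun i : ℕ =>
      Ideal.Quotient.mkₐ k J ((MvPowerSeries.X s0 : MvPowerSeries (Fin 2) k) ^ i)) := by
    intro hli
    have h1 := (hli.comp (fun i : Fin (n + 1) => (i : ℕ)) Fin.val_injective).fintype_card_le_finrank
    rw [Fintype.card_fin] at h1
    omega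
  rw [linearIndependent_iff'] at hnl
  push_neg at hnl
  obtain ⟨s, g, hsum, i1, hi1s, hi1⟩ := hnl
  refine ⟨∑ i ∈ s, g i • (MvPowerSeries.X s0 : MvPowerSeries (Fin 2) k) ^ i, ?_, i1, ?_⟩
  · have h1 : Ideal.Quotient.mkₐ k J
        (∑ i ∈ s, g i • (MvPowerSeries.X s0 : MvPowerSeries (Fin 2) k) ^ i) = 0 := by
      rw [map_sum]
      simp only [map_smul]
      exact hsum
    rw [Ideal.Quotient.mkₐ_eq_mk] at h1
    exact Ideal.Quotient.eq_zero_iff_mem.mp h1
  · rw [map_sum]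
    simp only [map_smul, smul_eq_mul, MvPowerSeries.coeff_X_pow, mul_ite, mul_one, mul_zero,
      (Finsupp.single_injective s0).eq_iff]
    rw [Finset.sum_ite_eq s i1 g, if_pos hi1s]
    exact hi1

theorem exists_pow_mem_X (J : Ideal (MvPowerSeries (Fin 2) k))
    (hxy : (MvPowerSeries.X 0 * MvPowerSeries.X 1 : MvPowerSeries (Fin 2) k) ∈ J)
    [Module.Finite k (MvPowerSeries (Fin 2) k ⧸ J)] :
    ∃ N, (MvPowerSeries.X 0 : MvPowerSeries (Fin 2) k) ^ N ∈ J := by
  classical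
  obtain ⟨P, hP, hex⟩ := exists_pow_mem (0 : Fin 2) J
  exact ⟨Nat.find hex + 1, lemmaEx J hxy P hP (Nat.find hex)
    (fun i hi => not_not.mp (Nat.find_min hex hi)) (Nat.find_spec hex)⟩

theorem exists_pow_mem_Y (J : Ideal (MvPowerSeries (Fin 2) k))
    (hxy : (MvPowerSeries.X 0 * MvPowerSeries.X 1 : MvPowerSeries (Fin 2) k) ∈ J)
    [Module.Finite k (MvPowerSeries (Fin 2) k ⧸ J)] :
    ∃ N, (MvPowerSeries.X 1 : MvPowerSeries (Fin 2) k) ^ N ∈ J := by
  classical
  obtain ⟨P, hP, hex⟩ := exists_pow_mem (1 : Fin 2) J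
  exact ⟨Nat.find hex + 1, lemmaEy J hxy P hP (Nat.find hex)
    (fun i hi => not_not.mp (Nat.find_min hex hi)) (Nat.find_spec hex)⟩

theorem mem_of_C_mul_mem (J : Ideal (MvPowerSeries (Fin 2) k)) (c : k) (hc : c ≠ 0)
    (f : MvPowerSeries (Fin 2) k) (h : MvPowerSeries.C c * f ∈ J) : f ∈ J := by
  have := Ideal.mul_mem_left J (MvPowerSeries.C c⁻¹) h
  rwa [← mul_assoc, ← map_mul, inv_mul_cancel₀ hc, map_one, one_mul] at this

theorem lemmaR (u v : ℕ) (h : MvPowerSeries (Fin 2) k)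
    (h0 : MvPowerSeries.constantCoeff h = 0)
    (hx : ∀ i, i < u → MvPowerSeries.coeff (single 0 i) h = 0)
    (hy : ∀ j, j < v → MvPowerSeries.coeff (single 1 j) h = 0) :
    h - MvPowerSeries.C (MvPowerSeries.coeff (single 0 u) h) * MvPowerSeries.X 0 ^ u
      - MvPowerSeries.C (MvPowerSeries.coeff (single 1 v) h) * MvPowerSeries.X 1 ^ v
        ∈ J0 k (u + 1) (v + 1) := by
  rw [memJ0 (u + 1) (v + 1) (by omega) (by omega)]
  intro t
  rw [map_sub, map_sub, MvPowerSeries.coeff_C_mul, MvPowerSeries.coeff_C_mul,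
    MvPowerSeries.coeff_X_pow, MvPowerSeries.coeff_X_pow]
  have hc0 : MvPowerSeries.coeff (0 : Fin 2 →₀ ℕ) h = 0 := by
    rw [MvPowerSeries.coeff_zero_eq_constantCoeff_apply]; exact h0
  rcases t with i | j
  · have hi := i.2
    have e : iota (u + 1) (v + 1) (Sum.inl i) = single 0 (i : ℕ) := rfl
    rw [e]
    have hcross : MvPowerSeries.coeff (single 1 v) h *
        (if single (0 : Fin 2) (i : ℕ) = single 1 v then 1 else 0) = 0 := by
      by_cases hv0 : v = 0
      · subst hv0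
        rw [Finsupp.single_zero, hc0, zero_mul]
      · rw [if_neg, mul_zero]
        intro e'
        have h3 := DFunLike.congr_fun e' 1
        have h1 : (single (0 : Fin 2) (i : ℕ)) 1 = 0 := by simp
        have h2 : (single (1 : Fin 2) v) 1 = v := by simp
        rw [h1, h2] at h3
        omega
    rw [hcross, sub_zero]
    by_cases hiu : (i : ℕ) = u
    · rw [hiu, if_pos rfl, mul_one, sub_self]
    · rw [if_neg (fun e' => hiu (Finsupp.single_injective 0 e')), mul_zero, sub_zero]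
      exact hx _ (by omega)
  · have hj := j.2
    have e : iota (u + 1) (v + 1) (Sum.inr j) = single 1 ((j : ℕ) + 1) := rfl
    rw [e]
    have hcross : (if single (1 : Fin 2) ((j : ℕ) + 1) = single 0 u then (1 : k) else 0) = 0 := by
      rw [if_neg]
      intro e'
      have h3 := DFunLike.congr_fun e' 1
      have h1 : (single (1 : Fin 2) ((j : ℕ) + 1)) 1 = (j : ℕ) + 1 := by simp
      have h2 : (single (0 : Fin 2) u) 1 = 0 := by simp
      rw [h1, h2] at h3
      omega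
    rw [hcross, mul_zero, sub_zero]
    by_cases hjv : (j : ℕ) + 1 = v
    · rw [hjv, if_pos rfl, mul_one, sub_self]
    · rw [if_neg (fun e' => hjv (Finsupp.single_injective 1 e')), mul_zero, sub_zero]
      exact hy _ (by omega)

/-- the second family of ideals -/
noncomputable def J1 (k : Type u) [Field k] (u v : ℕ) (γ : k) : Ideal (MvPowerSeries (Fin 2) k) :=
  Ideal.span {MvPowerSeries.X 0 * MvPowerSeries.X 1,
    MvPowerSeries.X 0 ^ u + MvPowerSeries.C γ * MvPowerSeries.X 1 ^ v}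

theorem J0_le_J1 (u v : ℕ) (hu : 1 ≤ u) (hv : 1 ≤ v) (γ : k) (hγ : γ ≠ 0) :
    J0 k (u + 1) (v + 1) ≤ J1 k u v γ := by
  have hxy : (MvPowerSeries.X 0 * MvPowerSeries.X 1 : MvPowerSeries (Fin 2) k) ∈ J1 k u v γ :=
    Ideal.subset_span (by simp)
  have hg : (MvPowerSeries.X 0 ^ u + MvPowerSeries.C γ * MvPowerSeries.X 1 ^ v :
      MvPowerSeries (Fin 2) k) ∈ J1 k u v γ := Ideal.subset_span (by simp)
  obtain ⟨u', rfl⟩ : ∃ u', u = u' + 1 := ⟨u - 1, by omega⟩
  obtain ⟨v', rfl⟩ : ∃ v', v = v' + 1 := ⟨v - 1, by omega⟩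
  unfold J0
  rw [Ideal.span_le]
  intro f hf
  simp only [Set.mem_insert_iff, Set.mem_singleton_iff] at hf
  rcases hf with rfl | rfl | rfl
  · exact hxy
  · have e : (MvPowerSeries.X 0 : MvPowerSeries (Fin 2) k) ^ (u' + 1 + 1) =
        MvPowerSeries.X 0 * (MvPowerSeries.X 0 ^ (u' + 1) +
          MvPowerSeries.C γ * MvPowerSeries.X 1 ^ (v' + 1)) -
        (MvPowerSeries.C γ * MvPowerSeries.X 1 ^ v') *
          (MvPowerSeries.X 0 * MvPowerSeries.X 1) := by ring
    rw [e]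
    exact Ideal.sub_mem _ (Ideal.mul_mem_left _ _ hg) (Ideal.mul_mem_left _ _ hxy)
  · have hc : (MvPowerSeries.C γ⁻¹ : MvPowerSeries (Fin 2) k) * MvPowerSeries.C γ = 1 := by
      rw [← map_mul, inv_mul_cancel₀ hγ, map_one]
    have e : (MvPowerSeries.X 1 : MvPowerSeries (Fin 2) k) ^ (v' + 1 + 1) =
        MvPowerSeries.C γ⁻¹ * (MvPowerSeries.X 1 * (MvPowerSeries.X 0 ^ (u' + 1) +
          MvPowerSeries.C γ * MvPowerSeries.X 1 ^ (v' + 1)) -
        MvPowerSeries.X 0 ^ u' * (MvPowerSeries.X 0 * MvPowerSeries.X 1)) := by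
      linear_combination (-((MvPowerSeries.X 1 : MvPowerSeries (Fin 2) k) ^ (v' + 1 + 1))) * hc
    rw [e]
    exact Ideal.mul_mem_left _ _ (Ideal.sub_mem _ (Ideal.mul_mem_left _ _ hg)
      (Ideal.mul_mem_left _ _ hxy))

noncomputable def Φ1 (k : Type u) [Field k] (u v : ℕ) (γ : k) :
    MvPowerSeries (Fin 2) k →ₗ[k] ((Fin u ⊕ Fin (v - 1) → k) × k) :=
  (Φ0 k u v).prod (MvPowerSeries.coeff (single 0 u) - γ⁻¹ • MvPowerSeries.coeff (single 1 v))

theorem Φ1_apply (u v : ℕ) (γ : k) (f : MvPowerSeries (Fin 2) k) :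
    Φ1 k u v γ f = (Φ0 k u v f,
      MvPowerSeries.coeff (single 0 u) f - γ⁻¹ * MvPowerSeries.coeff (single 1 v) f) := rfl

theorem Φ1_surj (u v : ℕ) (hu : 1 ≤ u) (hv : 1 ≤ v) (γ : k) :
    Function.Surjective (Φ1 k u v γ) := by
  rintro ⟨c, d⟩
  have hnr0 : ¬ ∃ t, iota u v t = single 0 u := by
    rintro ⟨t, ht⟩
    exact (iota_not_le u v hu hv t).2.1 (le_of_eq ht.symm)
  have hnr1 : ¬ ∃ t, iota u v t = single 1 v := by
    rintro ⟨t, ht⟩
    exact (iota_not_le u v hu hv t).2.2 (le_of_eq ht.symm)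
  obtain ⟨E, hE⟩ : ∃ E : MvPowerSeries (Fin 2) k,
      E = Function.extend (iota u v) c (0 : (Fin 2 →₀ ℕ) → k) := ⟨_, rfl⟩
  have hE0 : MvPowerSeries.coeff (single 0 u) E = 0 := by
    rw [MvPowerSeries.coeff_apply, hE]
    exact Function.extend_apply' c (0 : (Fin 2 →₀ ℕ) → k) _ hnr0
  have hE1 : MvPowerSeries.coeff (single 1 v) E = 0 := by
    rw [MvPowerSeries.coeff_apply, hE]
    exact Function.extend_apply' c (0 : (Fin 2 →₀ ℕ) → k) _ hnr1
  have hEt : ∀ t, MvPowerSeries.coeff (iota u v t) E = c t := by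
    intro t
    rw [MvPowerSeries.coeff_apply, hE]
    exact (iota_injective u v).extend_apply c (0 : (Fin 2 →₀ ℕ) → k) t
  have hA : MvPowerSeries.coeff (single 0 u)
      ((MvPowerSeries.X 0 : MvPowerSeries (Fin 2) k) ^ u) = 1 := by
    rw [MvPowerSeries.coeff_X_pow, if_pos rfl]
  have hB : MvPowerSeries.coeff (single 1 v)
      ((MvPowerSeries.X 0 : MvPowerSeries (Fin 2) k) ^ u) = 0 := by
    rw [MvPowerSeries.coeff_X_pow, if_neg]
    intro e'
    have h3 := DFunLike.congr_fun e' 1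
    have h1 : (single (1 : Fin 2) v) 1 = v := by simp
    have h2 : (single (0 : Fin 2) u) 1 = 0 := by simp
    rw [h1, h2] at h3
    omega
  refine ⟨E + MvPowerSeries.C d * MvPowerSeries.X 0 ^ u, ?_⟩
  rw [Φ1_apply]
  refine Prod.ext ?_ ?_
  · funext t
    show MvPowerSeries.coeff (iota u v t) (E + MvPowerSeries.C d * MvPowerSeries.X 0 ^ u) = c t
    rw [map_add, hEt, MvPowerSeries.coeff_C_mul, MvPowerSeries.coeff_X_pow, if_neg, mul_zero,
      add_zero]
    intro e'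
    exact hnr0 ⟨t, e'⟩
  · show MvPowerSeries.coeff (single 0 u) (E + MvPowerSeries.C d * MvPowerSeries.X 0 ^ u) -
      γ⁻¹ * MvPowerSeries.coeff (single 1 v) (E + MvPowerSeries.C d * MvPowerSeries.X 0 ^ u) = d
    rw [map_add, map_add, hE0, hE1, MvPowerSeries.coeff_C_mul, MvPowerSeries.coeff_C_mul, hA, hB,
      mul_one, mul_zero, add_zero, mul_zero, sub_zero, zero_add]

theorem memJ1 (u v : ℕ) (hu : 1 ≤ u) (hv : 1 ≤ v) (γ : k) (hγ : γ ≠ 0)
    (f : MvPowerSeries (Fin 2) k) : f ∈ J1 k u v γ ↔ Φ1 k u v γ f = 0 := by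
  have n1 : ¬ m11 ≤ single (0 : Fin 2) u := by
    rw [m11_le]
    have h1 : (single (0 : Fin 2) u) 1 = 0 := by simp
    rw [h1]; omega
  have n2 : ¬ m11 ≤ single (1 : Fin 2) v := by
    rw [m11_le]
    have h1 : (single (1 : Fin 2) v) 0 = 0 := by simp
    rw [h1]; omega
  have n3 : ¬ single (1 : Fin 2) v ≤ single (0 : Fin 2) u := by
    rw [s1_le]
    have h1 : (single (0 : Fin 2) u) 1 = 0 := by simp
    rw [h1]; omega
  have n4 : ¬ single (0 : Fin 2) u ≤ single (1 : Fin 2) v := by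
    rw [s0_le]
    have h1 : (single (1 : Fin 2) v) 0 = 0 := by simp
    rw [h1]; omega
  constructor
  · intro h
    obtain ⟨p, q, rfl⟩ := Ideal.mem_span_pair.mp h
    obtain ⟨F, hF⟩ : ∃ F : MvPowerSeries (Fin 2) k, F = p * MvPowerSeries.monomial m11 1 +
        (q * MvPowerSeries.monomial (single 0 u) 1 +
          (q * MvPowerSeries.C γ) * MvPowerSeries.monomial (single 1 v) 1) := ⟨_, rfl⟩
    have e : p * (MvPowerSeries.X 0 * MvPowerSeries.X 1) +
        q * (MvPowerSeries.X 0 ^ u + MvPowerSeries.C γ * MvPowerSeries.X 1 ^ v) = F := by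
      rw [hF, ← xy_eq, ← MvPowerSeries.X_pow_eq, ← MvPowerSeries.X_pow_eq]; ring
    rw [e]
    have c1 : ∀ t, MvPowerSeries.coeff (iota u v t) F = 0 := by
      intro t
      obtain ⟨m1, m2, m3⟩ := iota_not_le u v hu hv t
      rw [hF, map_add, map_add, coeff_van _ _ m1, coeff_van _ _ m2, coeff_van _ _ m3, add_zero,
        add_zero]
    have c2 : MvPowerSeries.coeff (single 0 u) F = MvPowerSeries.coeff 0 q := by
      rw [hF, map_add, map_add, coeff_van _ _ n1, coeff_van _ _ n3,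
        MvPowerSeries.coeff_mul_monomial, if_pos le_rfl, tsub_self, mul_one, zero_add, add_zero]
    have c3 : MvPowerSeries.coeff (single 1 v) F = MvPowerSeries.coeff 0 q * γ := by
      rw [hF, map_add, map_add, coeff_van _ _ n2, coeff_van _ _ n4,
        MvPowerSeries.coeff_mul_monomial, if_pos le_rfl, tsub_self, mul_one, zero_add, zero_add,
        MvPowerSeries.coeff_mul_C]
    rw [Φ1_apply]
    refine Prod.ext (funext fun t => c1 t) ?_
    show MvPowerSeries.coeff (single 0 u) F - γ⁻¹ * MvPowerSeries.coeff (single 1 v) F = 0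
    rw [c2, c3, mul_comm (MvPowerSeries.coeff 0 q) γ, ← mul_assoc, inv_mul_cancel₀ hγ, one_mul,
      sub_self]
  · intro h
    rw [Φ1_apply] at h
    have h1 : ∀ t, MvPowerSeries.coeff (iota u v t) f = 0 := fun t =>
      congrFun (congrArg Prod.fst h) t
    have h2 : MvPowerSeries.coeff (single 0 u) f -
        γ⁻¹ * MvPowerSeries.coeff (single 1 v) f = 0 := congrArg Prod.snd h
    have hx : ∀ i, i < u → MvPowerSeries.coeff (single 0 i) f = 0 := fun i hi =>
      h1 (Sum.inl ⟨i, hi⟩)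
    have hc0 : MvPowerSeries.coeff (0 : Fin 2 →₀ ℕ) f = 0 := by
      have := hx 0 (by omega)
      rwa [Finsupp.single_zero] at this
    have hy : ∀ j, j < v → MvPowerSeries.coeff (single 1 j) f = 0 := by
      intro j hj
      by_cases hj0 : j = 0
      · subst hj0
        rw [Finsupp.single_zero]; exact hc0
      · have := h1 (Sum.inr ⟨j - 1, by omega⟩)
        simp only [iota, Sum.elim_inr] at this
        rwa [Nat.sub_add_cancel (by omega)] at this
    have hcc : MvPowerSeries.constantCoeff f = 0 := by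
      rw [← MvPowerSeries.coeff_zero_eq_constantCoeff_apply]; exact hc0
    have hc : MvPowerSeries.coeff (single 1 v) f = γ * MvPowerSeries.coeff (single 0 u) f := by
      have h3 := sub_eq_zero.mp h2
      rw [h3, ← mul_assoc, mul_inv_cancel₀ hγ, one_mul]
    have hr := J0_le_J1 u v hu hv γ hγ (lemmaR u v f hcc hx hy)
    have hg : (MvPowerSeries.X 0 ^ u + MvPowerSeries.C γ * MvPowerSeries.X 1 ^ v :
        MvPowerSeries (Fin 2) k) ∈ J1 k u v γ := Ideal.subset_span (by simp)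
    have e : f = (f - MvPowerSeries.C (MvPowerSeries.coeff (single 0 u) f) * MvPowerSeries.X 0 ^ u
        - MvPowerSeries.C (MvPowerSeries.coeff (single 1 v) f) * MvPowerSeries.X 1 ^ v) +
        MvPowerSeries.C (MvPowerSeries.coeff (single 0 u) f) *
          (MvPowerSeries.X 0 ^ u + MvPowerSeries.C γ * MvPowerSeries.X 1 ^ v) := by
      rw [hc, map_mul]; ring
    have h4 := Ideal.add_mem _ hr (Ideal.mul_mem_left _
      (MvPowerSeries.C (MvPowerSeries.coeff (single 0 u) f)) hg)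
    rwa [← e] at h4

theorem finrank_J1 (u v : ℕ) (hu : 1 ≤ u) (hv : 1 ≤ v) (γ : k) (hγ : γ ≠ 0) :
    Module.finrank k (MvPowerSeries (Fin 2) k ⧸ J1 k u v γ) = u + v := by
  rw [finrank_of_ker (J1 k u v γ) (Φ1 k u v γ) (Φ1_surj u v hu hv γ) (memJ1 u v hu hv γ hγ),
    Module.finrank_prod, Module.finrank_fintype_fun_eq_card, Module.finrank_self,
    Fintype.card_sum, Fintype.card_fin, Fintype.card_fin]
  omega

theorem stepG (J : Ideal (MvPowerSeries (Fin 2) k)) (u v : ℕ) (γ : k)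
    (h : MvPowerSeries (Fin 2) k) (α β : k)
    (hr : h - MvPowerSeries.C α * MvPowerSeries.X 0 ^ u - MvPowerSeries.C β * MvPowerSeries.X 1 ^ v
      ∈ J1 k u v γ)
    (hp : MvPowerSeries.C α * MvPowerSeries.X 0 ^ u + MvPowerSeries.C β * MvPowerSeries.X 1 ^ v ∈ J)
    (hg : (MvPowerSeries.X 0 ^ u + MvPowerSeries.C γ * MvPowerSeries.X 1 ^ v :
      MvPowerSeries (Fin 2) k) ∈ J)
    (hXv : (MvPowerSeries.X 1 : MvPowerSeries (Fin 2) k) ^ v ∉ J) : h ∈ J1 k u v γ := by
  have hβ : β = α * γ := by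
    by_contra hne
    have h1 : MvPowerSeries.C α * (MvPowerSeries.X 0 ^ u +
        MvPowerSeries.C γ * MvPowerSeries.X 1 ^ v) ∈ J := Ideal.mul_mem_left _ _ hg
    have h2 := Ideal.sub_mem J hp h1
    have e : MvPowerSeries.C α * MvPowerSeries.X 0 ^ u + MvPowerSeries.C β * MvPowerSeries.X 1 ^ v -
        MvPowerSeries.C α * (MvPowerSeries.X 0 ^ u + MvPowerSeries.C γ * MvPowerSeries.X 1 ^ v) =
        MvPowerSeries.C (β - α * γ) * (MvPowerSeries.X 1 : MvPowerSeries (Fin 2) k) ^ v := by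
      rw [map_sub, map_mul]; ring
    rw [e] at h2
    exact hXv (mem_of_C_mul_mem J _ (sub_ne_zero.mpr hne) _ h2)
  have hgJ1 : (MvPowerSeries.X 0 ^ u + MvPowerSeries.C γ * MvPowerSeries.X 1 ^ v :
      MvPowerSeries (Fin 2) k) ∈ J1 k u v γ := Ideal.subset_span (by simp)
  have e : h = (h - MvPowerSeries.C α * MvPowerSeries.X 0 ^ u -
      MvPowerSeries.C β * MvPowerSeries.X 1 ^ v) +
      MvPowerSeries.C α * (MvPowerSeries.X 0 ^ u + MvPowerSeries.C γ * MvPowerSeries.X 1 ^ v) := by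
    rw [hβ, map_mul]; ring
  have h4 := Ideal.add_mem _ hr (Ideal.mul_mem_left _ (MvPowerSeries.C α) hgJ1)
  rwa [← e] at h4

theorem main19437 (k : Type u) [Field k]
    (J : Ideal (MvPowerSeries (Fin 2) k))
    (hxy : (MvPowerSeries.X 0 * MvPowerSeries.X 1 : MvPowerSeries (Fin 2) k) ∈ J)
    [Module.Finite k (MvPowerSeries (Fin 2) k ⧸ J)] (n : ℕ)
    (hn : Module.finrank k (MvPowerSeries (Fin 2) k ⧸ J) = n)
    (h2 : 2 ≤ n) :
    ∃ a b : ℕ, 1 ≤ a ∧ 1 ≤ b ∧
      ((a + b = n + 1 ∧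
        J = Ideal.span {MvPowerSeries.X 0 * MvPowerSeries.X 1, MvPowerSeries.X 0 ^ a, MvPowerSeries.X 1 ^ b}) ∨
       (a + b = n ∧ ∃ α : k, α ≠ 0 ∧
        J = Ideal.span {MvPowerSeries.X 0 * MvPowerSeries.X 1,
          MvPowerSeries.X 0 ^ a + MvPowerSeries.C α * MvPowerSeries.X 1 ^ b})) := by
  classical
  have hJtop : J ≠ ⊤ := by
    intro h
    have h1 : Subsingleton (MvPowerSeries (Fin 2) k ⧸ J) := Ideal.Quotient.subsingleton_iff.mpr h
    have h3 := Module.finrank_zero_of_subsingleton (R := k) (M := MvPowerSeries (Fin 2) k ⧸ J)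
    omega
  have hcc : ∀ f ∈ J, MvPowerSeries.constantCoeff f = 0 := by
    intro f hf
    by_contra hne
    exact hJtop (Ideal.eq_top_of_isUnit_mem J hf
      (MvPowerSeries.isUnit_iff_constantCoeff.mpr (isUnit_iff_ne_zero.mpr hne)))
  obtain ⟨a, ha, hamin⟩ : ∃ a, (MvPowerSeries.X 0 : MvPowerSeries (Fin 2) k) ^ a ∈ J ∧
      ∀ i, i < a → (MvPowerSeries.X 0 : MvPowerSeries (Fin 2) k) ^ i ∉ J := by
    have hex := exists_pow_mem_X J hxy
    exact ⟨Nat.find hex, Nat.find_spec hex, fun i hi => Nat.find_min hex hi⟩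
  obtain ⟨b, hb, hbmin⟩ : ∃ b, (MvPowerSeries.X 1 : MvPowerSeries (Fin 2) k) ^ b ∈ J ∧
      ∀ i, i < b → (MvPowerSeries.X 1 : MvPowerSeries (Fin 2) k) ^ i ∉ J := by
    have hex := exists_pow_mem_Y J hxy
    exact ⟨Nat.find hex, Nat.find_spec hex, fun i hi => Nat.find_min hex hi⟩
  have ha1 : 1 ≤ a := by
    by_contra h0
    have h1 : a = 0 := by omega
    subst h1
    rw [pow_zero] at ha
    exact hJtop ((Ideal.eq_top_iff_one J).mpr ha)
  have hb1 : 1 ≤ b := by
    by_contra h0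
    have h1 : b = 0 := by omega
    subst h1
    rw [pow_zero] at hb
    exact hJtop ((Ideal.eq_top_iff_one J).mpr hb)
  obtain ⟨u, rfl⟩ : ∃ u, a = u + 1 := ⟨a - 1, by omega⟩
  obtain ⟨v, rfl⟩ : ∃ v, b = v + 1 := ⟨b - 1, by omega⟩
  have hJ0le : J0 k (u + 1) (v + 1) ≤ J := by
    unfold J0
    rw [Ideal.span_le]
    intro f hf
    simp only [Set.mem_insert_iff, Set.mem_singleton_iff] at hf
    rcases hf with rfl | rfl | rfl
    · exact hxy
    · exact ha
    · exact hb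
  have hcx : ∀ h ∈ J, ∀ i, i < u → MvPowerSeries.coeff (single 0 i) h = 0 := fun h hh i hi =>
    coeffX_zero J hxy (u + 1) hamin h hh i (by omega)
  have hcy : ∀ h ∈ J, ∀ i, i < v → MvPowerSeries.coeff (single 1 i) h = 0 := fun h hh i hi =>
    coeffY_zero J hxy (v + 1) hbmin h hh i (by omega)
  have hR : ∀ h ∈ J, h - MvPowerSeries.C (MvPowerSeries.coeff (single 0 u) h) * MvPowerSeries.X 0 ^ u
      - MvPowerSeries.C (MvPowerSeries.coeff (single 1 v) h) * MvPowerSeries.X 1 ^ v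
        ∈ J0 k (u + 1) (v + 1) := fun h hh => lemmaR u v h (hcc h hh) (hcx h hh) (hcy h hh)
  have hpair : ∀ h ∈ J, MvPowerSeries.C (MvPowerSeries.coeff (single 0 u) h) * MvPowerSeries.X 0 ^ u
      + MvPowerSeries.C (MvPowerSeries.coeff (single 1 v) h) * MvPowerSeries.X 1 ^ v ∈ J := by
    intro h hh
    have h1 := Ideal.sub_mem J hh (hJ0le (hR h hh))
    have e : h - (h - MvPowerSeries.C (MvPowerSeries.coeff (single 0 u) h) * MvPowerSeries.X 0 ^ u
      - MvPowerSeries.C (MvPowerSeries.coeff (single 1 v) h) * MvPowerSeries.X 1 ^ v) =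
      MvPowerSeries.C (MvPowerSeries.coeff (single 0 u) h) * MvPowerSeries.X 0 ^ u
      + MvPowerSeries.C (MvPowerSeries.coeff (single 1 v) h) * MvPowerSeries.X 1 ^ v := by ring
    rwa [e] at h1
  have hXu : (MvPowerSeries.X 0 : MvPowerSeries (Fin 2) k) ^ u ∉ J := hamin u (by omega)
  have hXv : (MvPowerSeries.X 1 : MvPowerSeries (Fin 2) k) ^ v ∉ J := hbmin v (by omega)
  by_cases hJeq : J = J0 k (u + 1) (v + 1)
  · refine ⟨u + 1, v + 1, by omega, by omega, Or.inl ⟨?_, hJeq⟩⟩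
    have h3 := finrank_J0 (k := k) (u + 1) (v + 1) (by omega) (by omega)
    rw [← hJeq, hn] at h3
    omega
  · obtain ⟨h0, hh0, hh0'⟩ : ∃ h ∈ J, h ∉ J0 k (u + 1) (v + 1) := by
      by_contra hcon
      push_neg at hcon
      exact hJeq (le_antisymm hcon hJ0le)
    obtain ⟨α0, hα0⟩ : ∃ α0, α0 = MvPowerSeries.coeff (single 0 u) h0 := ⟨_, rfl⟩
    obtain ⟨β0, hβ0⟩ : ∃ β0, β0 = MvPowerSeries.coeff (single 1 v) h0 := ⟨_, rfl⟩
    have hp0 := hpair h0 hh0
    have hr0 := hR h0 hh0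
    rw [← hα0, ← hβ0] at hp0 hr0
    have hα0ne : α0 ≠ 0 := by
      intro hz
      rw [hz, map_zero, zero_mul, zero_add] at hp0
      have hβz : β0 = 0 := by
        by_contra hne
        exact hXv (mem_of_C_mul_mem J β0 hne _ hp0)
      rw [hz, hβz, map_zero, zero_mul, zero_mul, sub_zero, sub_zero] at hr0
      exact hh0' hr0
    have hβ0ne : β0 ≠ 0 := by
      intro hz
      rw [hz, map_zero, zero_mul, add_zero] at hp0
      exact hXu (mem_of_C_mul_mem J α0 hα0ne _ hp0)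
    have hu1 : 1 ≤ u := by
      by_contra hu0
      have h1 : u = 0 := by omega
      subst h1
      apply hα0ne
      rw [hα0, Finsupp.single_zero, MvPowerSeries.coeff_zero_eq_constantCoeff_apply]
      exact hcc h0 hh0
    have hv1 : 1 ≤ v := by
      by_contra hv0
      have h1 : v = 0 := by omega
      subst h1
      apply hβ0ne
      rw [hβ0, Finsupp.single_zero, MvPowerSeries.coeff_zero_eq_constantCoeff_apply]
      exact hcc h0 hh0
    have hγ : α0⁻¹ * β0 ≠ 0 := mul_ne_zero (inv_ne_zero hα0ne) hβ0ne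
    have hg : (MvPowerSeries.X 0 ^ u + MvPowerSeries.C (α0⁻¹ * β0) * MvPowerSeries.X 1 ^ v :
        MvPowerSeries (Fin 2) k) ∈ J := by
      have h1 := Ideal.mul_mem_left J (MvPowerSeries.C α0⁻¹) hp0
      have e : MvPowerSeries.C α0⁻¹ * (MvPowerSeries.C α0 * MvPowerSeries.X 0 ^ u +
          MvPowerSeries.C β0 * MvPowerSeries.X 1 ^ v) =
          (MvPowerSeries.X 0 ^ u + MvPowerSeries.C (α0⁻¹ * β0) * MvPowerSeries.X 1 ^ v :
            MvPowerSeries (Fin 2) k) := by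
        rw [mul_add, ← mul_assoc, ← mul_assoc, ← map_mul, ← map_mul, inv_mul_cancel₀ hα0ne,
          map_one, one_mul]
      rwa [e] at h1
    have hJ1le : J1 k u v (α0⁻¹ * β0) ≤ J := by
      unfold J1
      rw [Ideal.span_le]
      intro f hf
      simp only [Set.mem_insert_iff, Set.mem_singleton_iff] at hf
      rcases hf with rfl | rfl
      · exact hxy
      · exact hg
    have hJleJ1 : J ≤ J1 k u v (α0⁻¹ * β0) := by
      intro h hh
      exact stepG J u v (α0⁻¹ * β0) h _ _ (J0_le_J1 u v hu1 hv1 _ hγ (hR h hh)) (hpair h hh) hg hXv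
    have hJ1 : J = J1 k u v (α0⁻¹ * β0) := le_antisymm hJleJ1 hJ1le
    refine ⟨u, v, hu1, hv1, Or.inr ⟨?_, α0⁻¹ * β0, hγ, hJ1⟩⟩
    have h3 := finrank_J1 (k := k) u v hu1 hv1 (α0⁻¹ * β0) hγ
    rw [← hJ1, hn] at h3
    omega

end Groth.Agent.Lib.NodeIdealH4
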