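import Mathlib
import Groth.Prelude.Def_W4c2arithlefschetzNode
import Groth.Agent.Lib.NodeB_helper9

/-!
# The thickness ideal of a formal node is an isomorphism invariant (helper9)
-/

set_option autoImplicit false

universe u

namespace Groth.Agent.NodeIso

open MvPowerSeries Groth.Agent.NodeB

section PS

variable {S : Type u} [CommRing S] [IsLocalRing S] [IsNoetherianRing S]

/-- If `p q = const` and `p = p₀ + p₁ X + …` with `p₀ ∈ 𝔪`, `p₁` a unit, then `q = 0`. -/
lemma eq_zero_of_mul_eq_C (p q : PowerSeries S) (a : S) (hpq : p * q = PowerSeries.C a)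
    (hp0 : PowerSeries.coeff 0 p ∈ IsLocalRing.maximalIdeal S)
    (hp1 : IsUnit (PowerSeries.coeff 1 p)) : q = 0 := by
  set Q : Ideal S := Ideal.span (Set.range fun j => PowerSeries.coeff j q) with hQ
  have hqQ : ∀ j, PowerSeries.coeff j q ∈ Q := fun j => Ideal.subset_span ⟨j, rfl⟩
  have key : ∀ n, PowerSeries.coeff n q ∈ IsLocalRing.maximalIdeal S • Q := by
    intro n
    induction n using Nat.strong_induction_on with
    | _ n ih =>
      have h1 : PowerSeries.coeff (n + 1) (p * q) = 0 := by
        rw [hpq, PowerSeries.coeff_C, if_neg (Nat.succ_ne_zero n)]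
      rw [PowerSeries.coeff_mul, Finset.Nat.sum_antidiagonal_eq_sum_range_succ_mk] at h1
      have hmem : 1 ∈ Finset.range (n + 1).succ := by
        rw [Finset.mem_range]; omega
      rw [← Finset.add_sum_erase _ _ hmem] at h1
      have h2 : PowerSeries.coeff 1 p * PowerSeries.coeff n q ∈
          IsLocalRing.maximalIdeal S • Q := by
        have e : PowerSeries.coeff 1 p * PowerSeries.coeff n q =
            -(∑ x ∈ (Finset.range (n + 1).succ).erase 1,
              PowerSeries.coeff x p * PowerSeries.coeff (n + 1 - x) q) := by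
          have : n + 1 - 1 = n := by omega
          rw [this] at h1
          exact eq_neg_of_add_eq_zero_left h1
        rw [e]
        apply Submodule.neg_mem
        apply Submodule.sum_mem
        intro x hx
        rw [Finset.mem_erase, Finset.mem_range] at hx
        rcases Nat.eq_zero_or_pos x with rfl | hx0
        · rw [smul_eq_mul]
          exact Ideal.mul_mem_mul hp0 (hqQ _)
        · have hlt : n + 1 - x < n := by omega
          have := ih _ hlt
          exact Ideal.mul_mem_left _ _ this
      obtain ⟨u, hu⟩ := hp1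
      have e2 : PowerSeries.coeff n q = (↑u⁻¹ : S) * (PowerSeries.coeff 1 p * PowerSeries.coeff n q) := by
        rw [← hu, ← mul_assoc, Units.inv_mul, one_mul]
      rw [e2]
      exact Ideal.mul_mem_left _ _ h2
  have hle : Q ≤ IsLocalRing.maximalIdeal S • Q := by
    rw [hQ, Ideal.span_le]
    rintro _ ⟨j, rfl⟩
    exact key j
  have hbot : Q = ⊥ :=
    Submodule.eq_bot_of_le_smul_of_le_jacobson_bot (IsLocalRing.maximalIdeal S) Q
      (IsNoetherian.noetherian Q) hle (IsLocalRing.maximalIdeal_le_jacobson _)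
  ext j
  have := hqQ j
  rw [hbot, Ideal.mem_bot] at this
  rw [this, map_zero]

end PS

section Field

variable {k : Type u} [Field k]

lemma field_dichotomy (p q : PowerSeries k)
    (hp0 : PowerSeries.coeff 0 p = 0) (hq0 : PowerSeries.coeff 0 q = 0)
    (hX : (PowerSeries.X : PowerSeries k) ∈ Ideal.span {p, q}) :
    PowerSeries.coeff 1 p ≠ 0 ∨ PowerSeries.coeff 1 q ≠ 0 := by
  obtain ⟨g, h, hgh⟩ := Ideal.mem_span_pair.mp hX
  have hc := congrArg (PowerSeries.coeff 1) hgh
  rw [map_add, PowerSeries.coeff_mul, PowerSeries.coeff_mul,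
    Finset.Nat.sum_antidiagonal_eq_sum_range_succ_mk,
    Finset.Nat.sum_antidiagonal_eq_sum_range_succ_mk, Finset.sum_range_succ, Finset.sum_range_one,
    Finset.sum_range_succ, Finset.sum_range_one, PowerSeries.coeff_one_X] at hc
  simp only [Nat.sub_zero, Nat.sub_self, hp0, hq0, mul_zero, add_zero] at hc
  by_contra hcon
  push_neg at hcon
  rw [hcon.1, hcon.2, mul_zero, mul_zero, add_zero] at hc
  exact zero_ne_one hc

end Field


section AxisMap

variable {B D : Type u} [CommRing B] [CommRing D] (f : B →+* D)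

/-- Restriction of a power series in two variables to the `i`-th axis, with `f` applied to the
coefficients. -/
noncomputable def axisMap (i : Fin 2) : MvPowerSeries (Fin 2) B →+* PowerSeries D where
  toFun R := PowerSeries.mk fun n => f (coeff (Finsupp.single i n) R)
  map_one' := by
    ext n
    rw [PowerSeries.coeff_mk, PowerSeries.coeff_one, MvPowerSeries.coeff_one]
    by_cases hn : n = 0
    · rw [if_pos hn, if_pos (by rw [hn, Finsupp.single_zero]), map_one]
    · rw [if_neg hn, if_neg (by rw [Finsupp.single_eq_zero]; exact hn), map_zero]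
  map_mul' R S := by
    classical
    ext n
    rw [PowerSeries.coeff_mk, MvPowerSeries.coeff_mul, PowerSeries.coeff_mul,
      Finsupp.antidiagonal_single, Finset.sum_map, map_sum]
    apply Finset.sum_congr rfl
    intro p _
    rw [map_mul, PowerSeries.coeff_mk, PowerSeries.coeff_mk]
    rfl
  map_zero' := by
    ext n
    rw [PowerSeries.coeff_mk, map_zero, map_zero, map_zero]
  map_add' R S := by
    ext n
    rw [PowerSeries.coeff_mk, map_add, map_add, map_add, PowerSeries.coeff_mk,
      PowerSeries.coeff_mk]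

lemma coeff_axisMap (i : Fin 2) (R : MvPowerSeries (Fin 2) B) (n : ℕ) :
    PowerSeries.coeff n (axisMap f i R) = f (coeff (Finsupp.single i n) R) := by
  show PowerSeries.coeff n (PowerSeries.mk fun n => f (coeff (Finsupp.single i n) R)) = _
  rw [PowerSeries.coeff_mk]

lemma axisMap_X_self (i : Fin 2) : axisMap f i (X i) = PowerSeries.X := by
  classical
  ext n
  rw [coeff_axisMap, PowerSeries.coeff_X, MvPowerSeries.coeff_X]
  by_cases hn : n = 1
  · rw [if_pos hn, if_pos (by rw [hn]), map_one]
  · rw [if_neg hn, if_neg (by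
      intro h
      exact hn (Finsupp.single_injective i h)), map_zero]

lemma axisMap_X_ne {i j : Fin 2} (hij : i ≠ j) : axisMap f i (X j) = 0 := by
  classical
  ext n
  rw [coeff_axisMap, MvPowerSeries.coeff_X, map_zero]
  rw [if_neg, map_zero]
  intro h
  have := DFunLike.congr_fun h j
  rw [Finsupp.single_apply, if_neg hij, Finsupp.single_apply, if_pos rfl] at this
  exact zero_ne_one this

lemma axisMap_C (i : Fin 2) (b : B) : axisMap f i (C b) = PowerSeries.C (f b) := by
  classical
  ext n
  rw [coeff_axisMap, PowerSeries.coeff_C, MvPowerSeries.coeff_C]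
  by_cases hn : n = 0
  · rw [if_pos hn, if_pos (by rw [hn, Finsupp.single_zero])]
  · rw [if_neg hn, if_neg (by rw [Finsupp.single_eq_zero]; exact hn), map_zero]

lemma axisMap_gen (a : B) (hfa : f a = 0) : axisMap f 0 (X 0 * X 1 - C a) = 0 := by
  rw [map_sub, map_mul, axisMap_C, hfa, map_zero, sub_zero,
    axisMap_X_ne f (i := 0) (j := 1) (by decide), mul_zero]

/-- The restriction of `B[[x,y]]/(xy - a)` to the `x`-axis, with `f` applied to coefficients. -/
noncomputable def nodeAxis (a : B) (hfa : f a = 0) : ArLef.NodeAlg B a →+* PowerSeries D :=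
  Ideal.Quotient.lift _ (axisMap f 0) (by
    intro r hr
    obtain ⟨s, rfl⟩ := Ideal.mem_span_singleton'.mp hr
    rw [map_mul, axisMap_gen f a hfa, mul_zero])

lemma nodeAxis_mk (a : B) (hfa : f a = 0) (R : MvPowerSeries (Fin 2) B) :
    nodeAxis f a hfa (Ideal.Quotient.mk _ R) = axisMap f 0 R := rfl

lemma nodeAxis_t (a : B) (hfa : f a = 0) : nodeAxis f a hfa (ArLef.NodeAlg.t a) = PowerSeries.X := by
  show nodeAxis f a hfa (Ideal.Quotient.mk _ (X 0)) = _
  rw [nodeAxis_mk, axisMap_X_self]

lemma nodeAxis_algebraMap (a : B) (hfa : f a = 0) (b : B) :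
    nodeAxis f a hfa (algebraMap B (ArLef.NodeAlg B a) b) = PowerSeries.C (f b) := by
  rw [algebraMap_eq, nodeAxis_mk, axisMap_C]

end AxisMap


section Main

open IsLocalRing

variable {A : Type u} [CommRing A] [IsLocalRing A] [IsNoetherianRing A]

omit [IsNoetherianRing A] in
lemma constantCoeff_mem_of_not_isUnit {a : A} (R : MvPowerSeries (Fin 2) A)
    (h : ¬ IsUnit (Ideal.Quotient.mk (Ideal.span
      {(X 0 * X 1 - C a : MvPowerSeries (Fin 2) A)}) R)) :
    constantCoeff R ∈ maximalIdeal A := by
  by_contra hc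
  apply h
  have hu : IsUnit (constantCoeff R) := by
    rwa [mem_maximalIdeal, mem_nonunits_iff, not_not] at hc
  have : IsUnit R := MvPowerSeries.isUnit_iff_constantCoeff.mpr hu
  exact this.map _

theorem mem_span_of_algEquiv (α β : A) (hα : α ∈ maximalIdeal A) (hβ : β ∈ maximalIdeal A)
    (φ : ArLef.NodeAlg A α ≃ₐ[A] ArLef.NodeAlg A β) : α ∈ Ideal.span ({β} : Set A) := by
  haveI := isLocalRing hα
  haveI := isLocalRing hβ
  set I : Ideal A := Ideal.span {β} with hI
  have hIm : I ≤ maximalIdeal A := by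
    rw [hI, Ideal.span_singleton_le_iff_mem]; exact hβ
  haveI : Nontrivial (A ⧸ I) :=
    Ideal.Quotient.nontrivial_iff.mpr (fun h => (maximalIdeal.isMaximal A).ne_top
      (top_le_iff.mp (h ▸ hIm)))
  haveI : IsLocalRing (A ⧸ I) :=
    IsLocalRing.of_surjective' (Ideal.Quotient.mk I) Ideal.Quotient.mk_surjective
  haveI : IsLocalHom (Ideal.Quotient.mk I) :=
    IsLocalHom.of_surjective _ Ideal.Quotient.mk_surjective
  have hfβ : (Ideal.Quotient.mk I) β = 0 :=
    Ideal.Quotient.eq_zero_iff_mem.mpr (Ideal.mem_span_singleton_self β)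
  have hrβ : residue A β = 0 := (residue_eq_zero_iff β).mpr hβ
  set ψ := nodeAxis (Ideal.Quotient.mk I) β hfβ with hψ
  set χ₀ := nodeAxis (residue A) β hrβ with hχ₀
  set x' := φ (ArLef.NodeAlg.t α) with hx'
  set y' := φ (ArLef.NodeAlg.e α) with hy'
  have hxy : x' * y' = algebraMap A _ α := by
    rw [hx', hy', ← map_mul, t_mul_e, φ.commutes]
  obtain ⟨X', hX'⟩ := Ideal.Quotient.mk_surjective x'
  obtain ⟨Y', hY'⟩ := Ideal.Quotient.mk_surjective y'
  have hx'nu : ¬ IsUnit x' := by
    intro h
    have := h.map φ.symm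
    rw [hx', φ.symm_apply_apply] at this
    exact t_not_isUnit hα this
  have hy'nu : ¬ IsUnit y' := by
    intro h
    have := h.map φ.symm
    rw [hy', φ.symm_apply_apply] at this
    exact e_not_isUnit hα this
  have hX0 : constantCoeff X' ∈ maximalIdeal A :=
    constantCoeff_mem_of_not_isUnit X' (by rw [hX']; exact hx'nu)
  have hY0 : constantCoeff Y' ∈ maximalIdeal A :=
    constantCoeff_mem_of_not_isUnit Y' (by rw [hY']; exact hy'nu)
  -- coefficients
  have cψx : ∀ n, PowerSeries.coeff n (ψ x') =
      Ideal.Quotient.mk I (coeff (Finsupp.single 0 n) X') := by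
    intro n; rw [← hX', hψ, nodeAxis_mk, coeff_axisMap]
  have cψy : ∀ n, PowerSeries.coeff n (ψ y') =
      Ideal.Quotient.mk I (coeff (Finsupp.single 0 n) Y') := by
    intro n; rw [← hY', hψ, nodeAxis_mk, coeff_axisMap]
  have cχx : ∀ n, PowerSeries.coeff n (χ₀ x') =
      residue A (coeff (Finsupp.single 0 n) X') := by
    intro n; rw [← hX', hχ₀, nodeAxis_mk, coeff_axisMap]
  have cχy : ∀ n, PowerSeries.coeff n (χ₀ y') =
      residue A (coeff (Finsupp.single 0 n) Y') := by
    intro n; rw [← hY', hχ₀, nodeAxis_mk, coeff_axisMap]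
  have hp0 : PowerSeries.coeff 0 (χ₀ x') = 0 := by
    rw [cχx, Finsupp.single_zero, coeff_zero_eq_constantCoeff_apply, residue_eq_zero_iff]
    exact hX0
  have hq0 : PowerSeries.coeff 0 (χ₀ y') = 0 := by
    rw [cχy, Finsupp.single_zero, coeff_zero_eq_constantCoeff_apply, residue_eq_zero_iff]
    exact hY0
  have hp0S : PowerSeries.coeff 0 (ψ x') ∈ maximalIdeal (A ⧸ I) := by
    rw [cψx, Finsupp.single_zero, coeff_zero_eq_constantCoeff_apply, mem_maximalIdeal,
      mem_nonunits_iff]
    intro h
    exact (mem_maximalIdeal _).mp hX0 (isUnit_of_map_unit (Ideal.Quotient.mk I) _ h)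
  have hq0S : PowerSeries.coeff 0 (ψ y') ∈ maximalIdeal (A ⧸ I) := by
    rw [cψy, Finsupp.single_zero, coeff_zero_eq_constantCoeff_apply, mem_maximalIdeal,
      mem_nonunits_iff]
    intro h
    exact (mem_maximalIdeal _).mp hY0 (isUnit_of_map_unit (Ideal.Quotient.mk I) _ h)
  -- `X` lies in the ideal generated by the reductions
  have hXmem : (PowerSeries.X : PowerSeries (ResidueField A)) ∈
      Ideal.span {χ₀ x', χ₀ y'} := by
    obtain ⟨c, r0, r1, hr⟩ := decomp α (φ.symm (ArLef.NodeAlg.t β))
    have h1 : ArLef.NodeAlg.t β = algebraMap A _ c + x' * φ r0 + y' * φ r1 := by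
      have := congrArg φ hr
      rw [φ.apply_symm_apply, map_add, map_add, map_mul, map_mul, φ.commutes] at this
      exact this
    have h2 := congrArg χ₀ h1
    rw [hχ₀, nodeAxis_t, map_add, map_add, map_mul, map_mul, nodeAxis_algebraMap, ← hχ₀] at h2
    have hc : residue A c = 0 := by
      have h3 := congrArg (PowerSeries.constantCoeff (R := ResidueField A)) h2
      rw [PowerSeries.constantCoeff_X, map_add, map_add, map_mul, map_mul,
        PowerSeries.constantCoeff_C, ← PowerSeries.coeff_zero_eq_constantCoeff_apply (χ₀ x'),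
        ← PowerSeries.coeff_zero_eq_constantCoeff_apply (χ₀ y'), hp0, hq0, zero_mul, zero_mul,
        add_zero, add_zero] at h3
      exact h3.symm
    rw [hc, map_zero, zero_add] at h2
    rw [h2]
    exact Ideal.mem_span_pair.mpr ⟨χ₀ (φ r0), χ₀ (φ r1), by ring⟩
  have hprod : ψ x' * ψ y' = PowerSeries.C (Ideal.Quotient.mk I α) := by
    rw [← map_mul, hxy, hψ, nodeAxis_algebraMap]
  have hfinal : Ideal.Quotient.mk I α = 0 := by
    rcases field_dichotomy (χ₀ x') (χ₀ y') hp0 hq0 hXmem with h1 | h1
    · have hu : IsUnit (PowerSeries.coeff 1 (ψ x')) := by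
        rw [cψx]
        apply IsUnit.map
        rw [cχx] at h1
        by_contra hnu
        exact h1 ((residue_eq_zero_iff _).mpr ((mem_maximalIdeal _).mpr hnu))
      have hq := eq_zero_of_mul_eq_C (ψ x') (ψ y') _ hprod hp0S hu
      rw [hq, mul_zero] at hprod
      have := congrArg (PowerSeries.coeff 0) hprod
      rw [map_zero, PowerSeries.coeff_zero_C] at this
      exact this.symm
    · have hu : IsUnit (PowerSeries.coeff 1 (ψ y')) := by
        rw [cψy]
        apply IsUnit.map
        rw [cχy] at h1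
        by_contra hnu
        exact h1 ((residue_eq_zero_iff _).mpr ((mem_maximalIdeal _).mpr hnu))
      rw [mul_comm] at hprod
      have hq := eq_zero_of_mul_eq_C (ψ y') (ψ x') _ hprod hq0S hu
      rw [hq, mul_zero] at hprod
      have := congrArg (PowerSeries.coeff 0) hprod
      rw [map_zero, PowerSeries.coeff_zero_C] at this
      exact this.symm
  exact Ideal.Quotient.eq_zero_iff_mem.mp hfinal

/-- S17720. -/
theorem span_eq_of_algEquiv (α β : A) (hα : α ∈ maximalIdeal A) (hβ : β ∈ maximalIdeal A)
    (φ : ArLef.NodeAlg A α ≃ₐ[A] ArLef.NodeAlg A β) :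
    Ideal.span ({α} : Set A) = Ideal.span {β} := by
  apply le_antisymm
  · rw [Ideal.span_singleton_le_iff_mem]
    exact mem_span_of_algEquiv α β hα hβ φ
  · rw [Ideal.span_singleton_le_iff_mem]
    exact mem_span_of_algEquiv β α hβ hα φ.symm

end Main

end Groth.Agent.NodeIso
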