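import Mathlib
import Groth.Agent.Lib.Samuel5_helper9
import Groth.Agent.Lib.K0PID_helper1

/-!
# `K'₀` of a ring with two principal minimal primes whose quotients are PIDs (helper9)

For S16242 (`K'₀(k[x,y]/(xy)) = ℤ²`).  APPEND-ONLY once landed.
-/

set_option autoImplicit false
universe u

namespace Groth.Agent.NodeK09

open CategoryTheory Groth.Agent.Samuel9 Groth.Agent.Lib.K0PIDH1

section abstract

variable (A : Type u) [CommRing A] [IsNoetherianRing A]

/-- Finite length at a minimal prime. -/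
theorem lenp_ne_top (Q : PrimeSpectrum A)
    (hmin : ∀ q : PrimeSpectrum A, q.asIdeal ≤ Q.asIdeal → q = Q)
    (M : Type u) [AddCommGroup M] [Module A M] [hM : Module.Finite A M] : lenp M Q ≠ ⊤ := by
  induction hM using IsNoetherianRing.induction_on_isQuotientEquivQuotientPrime A with
  | subsingleton N => rw [lenp_of_subsingleton]; exact ENat.zero_ne_top
  | quotient N p e =>
    rw [lenp_congr e]
    by_cases hpQ : p.asIdeal ≤ Q.asIdeal
    · rw [hmin p hpQ, lenp_quot_self]; exact ENat.one_ne_top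
    · rw [lenp_quot_of_not_le p Q hpQ]; exact ENat.zero_ne_top
  | exact N₁ N₂ N₃ f g hf hg hfg h1 h3 =>
    rw [lenp_add f g hf hg hfg]
    exact WithTop.add_ne_top.mpr ⟨h1, h3⟩

/-- The additive function "length at the minimal prime `Q`" as a homomorphism on `K'₀`. -/
theorem exists_hom (Q : PrimeSpectrum A)
    (hmin : ∀ q : PrimeSpectrum A, q.asIdeal ≤ Q.asIdeal → q = Q) :
    ∃ e : KZero.K0sub (Fin' A) →+ ℤ, ∀ (M : Type u) [AddCommGroup M] [Module A M]
      (hM : Fin' A (ModuleCat.of A M)),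
      e (QuotientAddGroup.mk (FreeAbelianGroup.of ⟨ModuleCat.of A M, hM⟩)) =
        ((lenp M Q).toNat : ℤ) := by
  classical
  let r : Subtype (Fin' A) → ℤ := fun M => ((lenp M.1 Q).toNat : ℤ)
  let φ₀ : FreeAbelianGroup (Subtype (Fin' A)) →+ ℤ := FreeAbelianGroup.lift r
  have hker : KZero.relSub (Fin' A) ≤ φ₀.ker := by
    unfold KZero.relSub
    rw [AddSubgroup.closure_le]
    rintro x ⟨S, h1, h2, h3, hS, rfl⟩
    show φ₀ _ = 0
    haveI : Module.Finite A S.X₁ := h1
    haveI : Module.Finite A S.X₂ := h2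
    haveI : Module.Finite A S.X₃ := h3
    have hexact := (ShortComplex.ShortExact.moduleCat_exact_iff_function_exact S).mp hS.exact
    have hadd := lenp_add S.f.hom S.g.hom hS.moduleCat_injective_f hS.moduleCat_surjective_g
      hexact Q
    have f1 := lenp_ne_top A Q hmin S.X₁
    have f3 := lenp_ne_top A Q hmin S.X₃
    have hnat : (lenp S.X₂ Q).toNat = (lenp S.X₁ Q).toNat + (lenp S.X₃ Q).toNat := by
      rw [hadd, ENat.toNat_add f1 f3]
    simp only [map_sub, φ₀, FreeAbelianGroup.lift_apply_of, r]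
    rw [hnat]
    push_cast
    ring
  refine ⟨QuotientAddGroup.lift (KZero.relSub (Fin' A)) φ₀ hker, fun M _ _ hM => ?_⟩
  simp only [QuotientAddGroup.lift_mk, φ₀, FreeAbelianGroup.lift_apply_of, r]

/-- Classes of `A ⧸ p` for primes `p` strictly containing a principal prime `(y)` with `A ⧸ (y)` a
PID vanish; for `p = (y)` the class is that of `A ⧸ (y)`. -/
theorem cl_quot_prime (y : A) (hprime : (Ideal.span {y}).IsPrime)
    (hpid : IsPrincipalIdealRing (A ⧸ Ideal.span {y})) (p : PrimeSpectrum A) (hyp : y ∈ p.asIdeal)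
    (hB : Fin' A (ModuleCat.of A (A ⧸ Ideal.span {y})))
    (hP : Fin' A (ModuleCat.of A (A ⧸ p.asIdeal))) :
    (QuotientAddGroup.mk (FreeAbelianGroup.of ⟨ModuleCat.of A (A ⧸ p.asIdeal), hP⟩) :
      KZero.K0sub (Fin' A)) = 0 ∨
    (QuotientAddGroup.mk (FreeAbelianGroup.of ⟨ModuleCat.of A (A ⧸ p.asIdeal), hP⟩) :
      KZero.K0sub (Fin' A)) =
      QuotientAddGroup.mk (FreeAbelianGroup.of ⟨ModuleCat.of A (A ⧸ Ideal.span {y}), hB⟩) := by
  classical
  have hZ : Fin' A (ModuleCat.of A PUnit.{u + 1}) := (inferInstance : Module.Finite A PUnit.{u + 1})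
  have hle : Ideal.span {y} ≤ p.asIdeal := (Ideal.span_singleton_le_iff_mem _).mpr hyp
  by_cases heq : p.asIdeal = Ideal.span {y}
  · right
    exact cl_equiv (Fin' A) hZ hP hB (Submodule.quotEquivOfEq _ _ heq)
  · left
    haveI := hprime
    haveI : IsDomain (A ⧸ Ideal.span {y}) := (Ideal.Quotient.isDomain_iff_prime _).mpr hprime
    set B := A ⧸ Ideal.span {y} with hBdef
    set mkB : A →+* B := Ideal.Quotient.mk (Ideal.span {y}) with hmkB
    have hsurj : Function.Surjective mkB := Ideal.Quotient.mk_surjective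
    set p' : Ideal B := p.asIdeal.map mkB with hp'
    obtain ⟨g', hg'⟩ : ∃ g', p' = Ideal.span {g'} :=
      ⟨_, (hpid.principal p').span_singleton_generator.symm⟩
    have hg'mem : g' ∈ p' := by rw [hg']; exact Ideal.mem_span_singleton_self g'
    obtain ⟨g, hgp, hgg'⟩ := (Ideal.mem_map_iff_of_surjective mkB hsurj).mp hg'mem
    have hg'0 : g' ≠ 0 := by
      intro h0
      apply heq
      refine le_antisymm ?_ hle
      intro a ha
      have h1 : mkB a ∈ p' := Ideal.mem_map_of_mem mkB ha
      rw [hg', h0, Ideal.span_singleton_zero, Ideal.mem_bot] at h1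
      exact Ideal.Quotient.eq_zero_iff_mem.mp h1
    let f : B →ₗ[A] B := g • LinearMap.id
    have hf_apply : ∀ b : B, f b = g' * b := by
      intro b
      show g • b = g' * b
      rw [Algebra.smul_def, Ideal.Quotient.algebraMap_eq, ← hgg']
    have hle' : Ideal.span {y} ≤ Submodule.comap (LinearMap.id : A →ₗ[A] A) p.asIdeal := by
      rw [Submodule.comap_id]; exact hle
    let gq : B →ₗ[A] (A ⧸ p.asIdeal) := Submodule.mapQ (Ideal.span {y}) p.asIdeal LinearMap.id hle'
    have hgq : ∀ a : A, gq (mkB a) = Ideal.Quotient.mk p.asIdeal a := fun a => rfl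
    have hinj : Function.Injective f := by
      intro b b' hbb'
      rw [hf_apply, hf_apply] at hbb'
      exact mul_left_cancel₀ hg'0 hbb'
    have hsurjq : Function.Surjective gq := by
      intro z
      obtain ⟨a, rfl⟩ := Ideal.Quotient.mk_surjective z
      exact ⟨mkB a, hgq a⟩
    have hex : Function.Exact f gq := by
      intro b
      obtain ⟨a, rfl⟩ := hsurj b
      rw [hgq, Ideal.Quotient.eq_zero_iff_mem]
      constructor
      · intro ha
        have h1 : mkB a ∈ p' := Ideal.mem_map_of_mem mkB ha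
        rw [hg', Ideal.mem_span_singleton'] at h1
        obtain ⟨c, hc⟩ := h1
        exact ⟨c, by rw [hf_apply, mul_comm]; exact hc⟩
      · rintro ⟨c, hc⟩
        obtain ⟨c0, rfl⟩ := hsurj c
        rw [hf_apply, ← hgg', ← map_mul] at hc
        have h2 : g * c0 - a ∈ Ideal.span {y} := by
          rw [← Ideal.Quotient.eq_zero_iff_mem, map_sub]
          exact sub_eq_zero.mpr hc
        have h3 : g * c0 - a ∈ p.asIdeal := hle h2
        have h4 : g * c0 ∈ p.asIdeal := Ideal.mul_mem_right _ _ hgp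
        have := sub_mem h4 h3
        simpa using this
    have h := rel_of_exact (Fin' A) hB hB hP f gq hinj hsurjq hex
    have h3 : (QuotientAddGroup.mk (FreeAbelianGroup.of
        ⟨ModuleCat.of A (A ⧸ Ideal.span {y}), hB⟩) : KZero.K0sub (Fin' A)) + 0 =
        QuotientAddGroup.mk (FreeAbelianGroup.of ⟨ModuleCat.of A (A ⧸ Ideal.span {y}), hB⟩) +
        QuotientAddGroup.mk (FreeAbelianGroup.of ⟨ModuleCat.of A (A ⧸ p.asIdeal), hP⟩) := by
      rw [add_zero]
      exact h
    exact (add_left_cancel h3).symm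

theorem K0_two_axes (x : Fin 2 → A) (hx : x 0 * x 1 = 0)
    (hprime : ∀ i, (Ideal.span {x i}).IsPrime)
    (hpid : ∀ i, IsPrincipalIdealRing (A ⧸ Ideal.span {x i}))
    (h10 : x 1 ∉ Ideal.span {x 0}) (h01 : x 0 ∉ Ideal.span {x 1}) :
    Function.Bijective (fun p : ℤ × ℤ =>
      p.1 • KZero.clSub (Fin' A) (ModuleCat.of A (A ⧸ Ideal.span {x 0})) +
      p.2 • KZero.clSub (Fin' A) (ModuleCat.of A (A ⧸ Ideal.span {x 1}))) := by
  classical
  have hZ : Fin' A (ModuleCat.of A PUnit.{u + 1}) := (inferInstance : Module.Finite A PUnit.{u + 1})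
  have hA : ∀ i, Fin' A (ModuleCat.of A (A ⧸ Ideal.span {x i})) := fun i =>
    (inferInstance : Module.Finite A (A ⧸ Ideal.span {x i}))
  let c : Fin 2 → KZero.K0sub (Fin' A) := fun i =>
    QuotientAddGroup.mk (FreeAbelianGroup.of ⟨ModuleCat.of A (A ⧸ Ideal.span {x i}), hA i⟩)
  have hcl : ∀ i, KZero.clSub (Fin' A) (ModuleCat.of A (A ⧸ Ideal.span {x i})) = c i := by
    intro i
    unfold KZero.clSub
    rw [dif_pos (hA i)]
  rw [hcl 0, hcl 1]
  let Q : Fin 2 → PrimeSpectrum A := fun i => ⟨Ideal.span {x i}, hprime i⟩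
  have hQ01 : ¬ (Q 1).asIdeal ≤ (Q 0).asIdeal := fun hle =>
    h10 (hle (Ideal.mem_span_singleton_self _))
  have hQ10 : ¬ (Q 0).asIdeal ≤ (Q 1).asIdeal := fun hle =>
    h01 (hle (Ideal.mem_span_singleton_self _))
  have hmin0 : ∀ q : PrimeSpectrum A, q.asIdeal ≤ (Q 0).asIdeal → q = Q 0 := by
    intro q hq
    have h0 : x 0 * x 1 ∈ q.asIdeal := by rw [hx]; exact zero_mem _
    rcases q.isPrime.mem_or_mem h0 with h | h
    · exact PrimeSpectrum.ext (le_antisymm hq ((Ideal.span_singleton_le_iff_mem _).mpr h))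
    · exact absurd (hq h) h10
  have hmin1 : ∀ q : PrimeSpectrum A, q.asIdeal ≤ (Q 1).asIdeal → q = Q 1 := by
    intro q hq
    have h0 : x 0 * x 1 ∈ q.asIdeal := by rw [hx]; exact zero_mem _
    rcases q.isPrime.mem_or_mem h0 with h | h
    · exact absurd (hq h) h01
    · exact PrimeSpectrum.ext (le_antisymm hq ((Ideal.span_singleton_le_iff_mem _).mpr h))
  obtain ⟨e0, he0⟩ := exists_hom A (Q 0) hmin0
  obtain ⟨e1, he1⟩ := exists_hom A (Q 1) hmin1
  have e00 : e0 (c 0) = 1 := by
    rw [he0 _ (hA 0)]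
    have : lenp (A ⧸ Ideal.span {x 0}) (Q 0) = 1 := lenp_quot_self (Q 0)
    rw [this]; rfl
  have e01 : e0 (c 1) = 0 := by
    rw [he0 _ (hA 1)]
    have : lenp (A ⧸ Ideal.span {x 1}) (Q 0) = 0 := lenp_quot_of_not_le (Q 1) (Q 0) hQ01
    rw [this]; rfl
  have e11 : e1 (c 1) = 1 := by
    rw [he1 _ (hA 1)]
    have : lenp (A ⧸ Ideal.span {x 1}) (Q 1) = 1 := lenp_quot_self (Q 1)
    rw [this]; rfl
  have e10 : e1 (c 0) = 0 := by
    rw [he1 _ (hA 0)]
    have : lenp (A ⧸ Ideal.span {x 0}) (Q 1) = 0 := lenp_quot_of_not_le (Q 0) (Q 1) hQ10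
    rw [this]; rfl
  constructor
  · intro p p' hpp'
    have h0 := congrArg e0 hpp'
    have h1 := congrArg e1 hpp'
    simp only [map_add, map_zsmul, e00, e01, e10, e11, smul_eq_mul, mul_one, mul_zero, add_zero,
      zero_add] at h0 h1
    exact Prod.ext h0 h1
  · let ψ : ℤ × ℤ →+ KZero.K0sub (Fin' A) :=
      (zmultiplesHom _ (c 0)).coprod (zmultiplesHom _ (c 1))
    have hψ : ∀ p : ℤ × ℤ, ψ p = p.1 • c 0 + p.2 • c 1 := fun p => rfl
    suffices h : ∀ z : KZero.K0sub (Fin' A), z ∈ ψ.range by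
      intro z
      obtain ⟨p, hp⟩ := h z
      exact ⟨p, hp⟩
    have hc0 : c 0 ∈ ψ.range := ⟨(1, 0), by rw [hψ]; simp⟩
    have hc1 : c 1 ∈ ψ.range := ⟨(0, 1), by rw [hψ]; simp⟩
    have hmod : ∀ (M : Type u) [AddCommGroup M] [Module A M] [Module.Finite A M]
        (hM : Fin' A (ModuleCat.of A M)),
        (QuotientAddGroup.mk (FreeAbelianGroup.of ⟨ModuleCat.of A M, hM⟩) :
          KZero.K0sub (Fin' A)) ∈ ψ.range := by
      intro M _ _ hfin
      induction hfin using IsNoetherianRing.induction_on_isQuotientEquivQuotientPrime A with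
      | subsingleton N =>
        intro hN
        rw [cl_subsingleton (Fin' A) hN]
        exact zero_mem _
      | quotient N p e =>
        intro hN
        have hP : Fin' A (ModuleCat.of A (A ⧸ p.asIdeal)) :=
          (inferInstance : Module.Finite A (A ⧸ p.asIdeal))
        rw [cl_equiv (Fin' A) hZ hN hP e]
        have h0 : x 0 * x 1 ∈ p.asIdeal := by rw [hx]; exact zero_mem _
        rcases p.isPrime.mem_or_mem h0 with h | h
        · rcases cl_quot_prime A (x 0) (hprime 0) (hpid 0) p h (hA 0) hP with h' | h'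
          · rw [h']; exact zero_mem _
          · rw [h']; exact hc0
        · rcases cl_quot_prime A (x 1) (hprime 1) (hpid 1) p h (hA 1) hP with h' | h'
          · rw [h']; exact zero_mem _
          · rw [h']; exact hc1
      | exact N₁ N₂ N₃ f g hf hg hfg h1 h3 =>
        intro hN₂
        have hN₁ : Fin' A (ModuleCat.of A N₁) := (inferInstance : Module.Finite A N₁)
        have hN₃ : Fin' A (ModuleCat.of A N₃) := (inferInstance : Module.Finite A N₃)
        rw [rel_of_exact (Fin' A) hN₁ hN₂ hN₃ f g hf hg hfg]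
        exact add_mem (h1 hN₁) (h3 hN₃)
    intro z
    induction z using QuotientAddGroup.induction_on with
    | H z =>
      induction z using FreeAbelianGroup.induction_on with
      | zero => exact zero_mem _
      | of M =>
        obtain ⟨M, hM⟩ := M
        haveI : Module.Finite A M := hM
        exact hmod M hM
      | neg M ih =>
        rw [QuotientAddGroup.mk_neg]
        exact neg_mem ih
      | add a b ha hb =>
        rw [QuotientAddGroup.mk_add]
        exact add_mem ha hb

end abstract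

section concrete

open MvPolynomial

variable (k : Type u) [Field k]

/-- The node ideal. -/
noncomputable abbrev nodeI : Ideal (MvPolynomial (Fin 2) k) :=
  Ideal.span {(MvPolynomial.X 0 * MvPolynomial.X 1 : MvPolynomial (Fin 2) k)}

/-- The coordinate classes in the node algebra. -/
noncomputable def xx (i : Fin 2) : MvPolynomial (Fin 2) k ⧸ nodeI k :=
  Ideal.Quotient.mk (nodeI k) (MvPolynomial.X i)

theorem xx_mul : xx k 0 * xx k 1 = 0 := by
  unfold xx
  rw [← map_mul, Ideal.Quotient.eq_zero_iff_mem]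
  exact Ideal.subset_span rfl

/-- Evaluation killing the `i`-th variable and sending the other to `X`. -/
noncomputable def phi0 (i : Fin 2) : MvPolynomial (Fin 2) k →+* Polynomial k :=
  MvPolynomial.eval₂Hom Polynomial.C (fun t => if t = i then 0 else Polynomial.X)

theorem phi0_X (i t : Fin 2) : phi0 k i (MvPolynomial.X t) = if t = i then 0 else Polynomial.X := by
  simp [phi0]

theorem phi0_C (i : Fin 2) (a : k) : phi0 k i (MvPolynomial.C a) = Polynomial.C a := by
  simp [phi0]

noncomputable def phi (i : Fin 2) : (MvPolynomial (Fin 2) k ⧸ nodeI k) →+* Polynomial k :=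
  Ideal.Quotient.lift (nodeI k) (phi0 k i) (by
    intro a ha
    obtain ⟨c, rfl⟩ := Ideal.mem_span_singleton'.mp ha
    rw [map_mul, map_mul, phi0_X, phi0_X]
    fin_cases i <;> simp)

theorem phi_xx (i t : Fin 2) : phi k i (xx k t) = if t = i then 0 else Polynomial.X := by
  unfold phi xx
  rw [Ideal.Quotient.lift_mk, phi0_X]

noncomputable def phiB (i : Fin 2) :
    ((MvPolynomial (Fin 2) k ⧸ nodeI k) ⧸ Ideal.span {xx k i}) →+* Polynomial k :=
  Ideal.Quotient.lift _ (phi k i) (by
    intro a ha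
    obtain ⟨c, rfl⟩ := Ideal.mem_span_singleton'.mp ha
    rw [map_mul, phi_xx, if_pos rfl, mul_zero])

noncomputable def psi (i j : Fin 2) :
    Polynomial k →+* ((MvPolynomial (Fin 2) k ⧸ nodeI k) ⧸ Ideal.span {xx k i}) :=
  Polynomial.eval₂RingHom
    ((Ideal.Quotient.mk (Ideal.span {xx k i})).comp
      ((Ideal.Quotient.mk (nodeI k)).comp MvPolynomial.C))
    (Ideal.Quotient.mk (Ideal.span {xx k i}) (xx k j))

theorem phiB_psi (i j : Fin 2) (hij : j ≠ i) : (phiB k i).comp (psi k i j) = RingHom.id _ := by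
  apply Polynomial.ringHom_ext
  · intro a
    simp only [psi, phiB, RingHom.comp_apply, Polynomial.coe_eval₂RingHom, Polynomial.eval₂_C,
      Ideal.Quotient.lift_mk, RingHom.id_apply]
    unfold phi
    rw [Ideal.Quotient.lift_mk, phi0_C]
  · simp only [psi, phiB, RingHom.comp_apply, Polynomial.coe_eval₂RingHom, Polynomial.eval₂_X,
      Ideal.Quotient.lift_mk, RingHom.id_apply]
    rw [phi_xx, if_neg hij]

theorem psi_phiB (i j : Fin 2) (hij : j ≠ i) : (psi k i j).comp (phiB k i) = RingHom.id _ := by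
  apply Ideal.Quotient.ringHom_ext
  apply Ideal.Quotient.ringHom_ext
  apply MvPolynomial.ringHom_ext
  · intro a
    simp only [RingHom.comp_apply, RingHom.id_apply, phiB, Ideal.Quotient.lift_mk]
    unfold phi
    rw [Ideal.Quotient.lift_mk, phi0_C]
    simp [psi]
  · intro t
    simp only [RingHom.comp_apply, RingHom.id_apply, phiB, Ideal.Quotient.lift_mk]
    have h1 : (Ideal.Quotient.mk (nodeI k)) (MvPolynomial.X t) = xx k t := rfl
    rw [h1, phi_xx]
    by_cases hti : t = i
    · rw [if_pos hti, map_zero, hti]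
      symm
      rw [Ideal.Quotient.eq_zero_iff_mem]
      exact Ideal.mem_span_singleton_self _
    · rw [if_neg hti]
      have htj : t = j := by
        fin_cases t <;> fin_cases i <;> fin_cases j <;> simp_all
      simp [psi, htj]

/-- `A ⧸ (x_i) ≃ k[X]`. -/
noncomputable def equivB (i j : Fin 2) (hij : j ≠ i) :
    ((MvPolynomial (Fin 2) k ⧸ nodeI k) ⧸ Ideal.span {xx k i}) ≃+* Polynomial k :=
  RingEquiv.ofRingHom (phiB k i) (psi k i j) (phiB_psi k i j hij) (psi_phiB k i j hij)

theorem prime_xx (i j : Fin 2) (hij : j ≠ i) : (Ideal.span {xx k i}).IsPrime := by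
  rw [← Ideal.Quotient.isDomain_iff_prime]
  exact MulEquiv.isDomain (Polynomial k) (equivB k i j hij).toMulEquiv

theorem pid_xx (i j : Fin 2) (hij : j ≠ i) :
    IsPrincipalIdealRing ((MvPolynomial (Fin 2) k ⧸ nodeI k) ⧸ Ideal.span {xx k i}) :=
  IsPrincipalIdealRing.of_surjective (equivB k i j hij).symm.toRingHom
    (equivB k i j hij).symm.surjective

theorem xx_notMem (i j : Fin 2) (hij : j ≠ i) : xx k j ∉ Ideal.span {xx k i} := by
  intro hmem
  obtain ⟨c, hc⟩ := Ideal.mem_span_singleton'.mp hmem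
  have := congrArg (phi k i) hc
  rw [map_mul, phi_xx, phi_xx, if_pos rfl, if_neg hij, mul_zero] at this
  exact Polynomial.X_ne_zero this.symm

end concrete

end Groth.Agent.NodeK09
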