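import Mathlib
import Groth.Agent.Lib.CuspJac_lead

namespace Groth.Agent.Lib.NodeKaehler

open MvPolynomial Groth.Agent.Lib.CuspJac

noncomputable section

variable {k : Type*} [Field k]

abbrev Inode : Ideal (MvPolynomial (Fin 2) k) :=
  Ideal.span {(X 0 * X 1 : MvPolynomial (Fin 2) k)}

theorem deriv_eq_zero_of_D_eq_zero {A : Type*} [CommRing A] [Algebra k A]
    (π : A →ₐ[k] Polynomial k) (P : A) (h : KaehlerDifferential.D k A P = 0) :
    Polynomial.derivative (π P) = 0 := by
  letI : Algebra A (Polynomial k) := π.toRingHom.toAlgebra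
  haveI : IsScalarTower k A (Polynomial k) :=
    IsScalarTower.of_algebraMap_eq (fun c => (π.commutes c).symm)
  have h1 := KaehlerDifferential.map_D k k A (Polynomial k) P
  rw [h, map_zero] at h1
  have h2 := KaehlerDifferential.polynomialEquiv_D k (algebraMap A (Polynomial k) P)
  rw [← h1, map_zero] at h2
  exact h2.symm

theorem v0_zero : (![Polynomial.X, 0] : Fin 2 → Polynomial k) 0 = Polynomial.X := rfl
theorem v0_one : (![Polynomial.X, 0] : Fin 2 → Polynomial k) 1 = 0 := rfl
theorem v1_zero : (![0, Polynomial.X] : Fin 2 → Polynomial k) 0 = 0 := rfl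
theorem v1_one : (![0, Polynomial.X] : Fin 2 → Polynomial k) 1 = Polynomial.X := rfl

theorem prod0 (u : Fin 2 →₀ ℕ) :
    u.prod (fun j e => (![Polynomial.X, 0] : Fin 2 → Polynomial k) j ^ e) =
      Polynomial.X ^ u 0 * 0 ^ u 1 :=
  (Finsupp.prod_fintype u (fun j e => (![Polynomial.X, 0] : Fin 2 → Polynomial k) j ^ e)
    (fun j => pow_zero _)).trans (by simp only [Fin.prod_univ_two, v0_zero, v0_one])

theorem prod1 (u : Fin 2 →₀ ℕ) :
    u.prod (fun j e => (![0, Polynomial.X] : Fin 2 → Polynomial k) j ^ e) =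
      0 ^ u 0 * Polynomial.X ^ u 1 :=
  (Finsupp.prod_fintype u (fun j e => (![0, Polynomial.X] : Fin 2 → Polynomial k) j ^ e)
    (fun j => pow_zero _)).trans (by simp only [Fin.prod_univ_two, v1_zero, v1_one])

theorem coeff_aeval0 (F : MvPolynomial (Fin 2) k) (i : ℕ) :
    (MvPolynomial.aeval (![Polynomial.X, 0] : Fin 2 → Polynomial k) F).coeff i =
      MvPolynomial.coeff (mon i 0) F := by
  induction F using MvPolynomial.induction_on' with
  | monomial u a =>
    rw [MvPolynomial.aeval_monomial, prod0, MvPolynomial.coeff_monomial]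
    by_cases h1 : u 1 = 0
    · rw [h1, pow_zero, mul_one, ← Polynomial.C_eq_algebraMap, Polynomial.coeff_C_mul_X_pow]
      by_cases h0 : i = u 0
      · rw [if_pos h0, if_pos]
        rw [mon_eta u, h1, ← h0]
      · rw [if_neg h0, if_neg]
        intro hu; apply h0; rw [hu, mon_zero]
    · rw [zero_pow h1, mul_zero, mul_zero, Polynomial.coeff_zero, if_neg]
      intro hu; apply h1; rw [hu, mon_one]
  | add p q hp hq => rw [map_add, Polynomial.coeff_add, MvPolynomial.coeff_add, hp, hq]

theorem coeff_aeval1 (F : MvPolynomial (Fin 2) k) (j : ℕ) :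
    (MvPolynomial.aeval (![0, Polynomial.X] : Fin 2 → Polynomial k) F).coeff j =
      MvPolynomial.coeff (mon 0 j) F := by
  induction F using MvPolynomial.induction_on' with
  | monomial u a =>
    rw [MvPolynomial.aeval_monomial, prod1, MvPolynomial.coeff_monomial]
    by_cases h0 : u 0 = 0
    · rw [h0, pow_zero, one_mul, ← Polynomial.C_eq_algebraMap, Polynomial.coeff_C_mul_X_pow]
      by_cases h1 : j = u 1
      · rw [if_pos h1, if_pos]
        rw [mon_eta u, h0, ← h1]
      · rw [if_neg h1, if_neg]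
        intro hu; apply h1; rw [hu, mon_one]
    · rw [zero_pow h0, zero_mul, mul_zero, Polynomial.coeff_zero, if_neg]
      intro hu; apply h0; rw [hu, mon_zero]
  | add p q hp hq => rw [map_add, Polynomial.coeff_add, MvPolynomial.coeff_add, hp, hq]

theorem node_gen : (X 0 * X 1 : MvPolynomial (Fin 2) k) = monomial (mon 1 1) 1 := by
  show monomial (Finsupp.single 0 1) (1 : k) * monomial (Finsupp.single 1 1) 1 =
    monomial (mon 1 1) 1
  rw [monomial_mul, one_mul, mon]

theorem mem_node_iff (G : MvPolynomial (Fin 2) k) :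
    G ∈ Inode (k := k) ↔ ∀ s ∈ G.support, 1 ≤ s 0 ∧ 1 ≤ s 1 := by
  have hS : ({X 0 * X 1} : Set (MvPolynomial (Fin 2) k)) =
      (fun s => monomial s (1 : k)) '' {mon 1 1} := by
    rw [Set.image_singleton, node_gen]
  unfold Inode
  rw [hS, mem_ideal_span_monomial_image]
  constructor
  · intro h s hs
    obtain ⟨si, hsi, hle⟩ := h s hs
    rw [Set.mem_singleton_iff] at hsi
    subst hsi
    have h0 := hle 0
    have h1 := hle 1
    rw [mon_zero] at h0
    rw [mon_one] at h1
    exact ⟨h0, h1⟩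
  · intro h s hs
    refine ⟨mon 1 1, Set.mem_singleton _, ?_⟩
    have h2 := h s hs
    exact Fin.forall_fin_two.mpr ⟨by rw [mon_zero]; exact h2.1, by rw [mon_one]; exact h2.2⟩

theorem aeval_zero_of_mem (v : Fin 2 → Polynomial k) (hv : v 0 * v 1 = 0) :
    ∀ a : MvPolynomial (Fin 2) k, a ∈ Inode (k := k) → MvPolynomial.aeval v a = 0 := by
  intro a ha
  obtain ⟨c, rfl⟩ := Ideal.mem_span_singleton'.mp ha
  rw [map_mul, map_mul, aeval_X, aeval_X, hv, mul_zero]

def pi0 (k : Type*) [Field k] : (MvPolynomial (Fin 2) k ⧸ Inode (k := k)) →ₐ[k] Polynomial k :=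
  Ideal.Quotient.liftₐ _ (MvPolynomial.aeval (![Polynomial.X, 0] : Fin 2 → Polynomial k))
    (aeval_zero_of_mem _ (by rw [v0_zero, v0_one, mul_zero]))

def pi1 (k : Type*) [Field k] : (MvPolynomial (Fin 2) k ⧸ Inode (k := k)) →ₐ[k] Polynomial k :=
  Ideal.Quotient.liftₐ _ (MvPolynomial.aeval (![0, Polynomial.X] : Fin 2 → Polynomial k))
    (aeval_zero_of_mem _ (by rw [v1_zero, v1_one, zero_mul]))

theorem pi0_mk (F : MvPolynomial (Fin 2) k) :
    pi0 k (Ideal.Quotient.mk _ F) =
      MvPolynomial.aeval (![Polynomial.X, 0] : Fin 2 → Polynomial k) F := rfl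

theorem pi1_mk (F : MvPolynomial (Fin 2) k) :
    pi1 k (Ideal.Quotient.mk _ F) =
      MvPolynomial.aeval (![0, Polynomial.X] : Fin 2 → Polynomial k) F := rfl

theorem mon_zero_zero : mon 0 0 = 0 := by simp [mon]

theorem main (k : Type*) [Field k] [CharZero k]
    (P : MvPolynomial (Fin 2) k ⧸ Ideal.span {(X 0 * X 1 : MvPolynomial (Fin 2) k)}) :
    KaehlerDifferential.D k (MvPolynomial (Fin 2) k ⧸
        Ideal.span {(X 0 * X 1 : MvPolynomial (Fin 2) k)}) P = 0 ↔
      P ∈ Set.range (algebraMap k (MvPolynomial (Fin 2) k ⧸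
        Ideal.span {(X 0 * X 1 : MvPolynomial (Fin 2) k)})) := by
  constructor
  · intro hD
    obtain ⟨F, rfl⟩ := Ideal.Quotient.mk_surjective P
    have d0 := deriv_eq_zero_of_D_eq_zero (pi0 k) _ hD
    have d1 := deriv_eq_zero_of_D_eq_zero (pi1 k) _ hD
    rw [pi0_mk, Polynomial.derivative_eq_zero] at d0
    rw [pi1_mk, Polynomial.derivative_eq_zero] at d1
    refine ⟨MvPolynomial.coeff 0 F, ?_⟩
    have hmem : F - C (MvPolynomial.coeff 0 F) ∈ Inode (k := k) := by
      rw [mem_node_iff]
      intro s hs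
      by_contra hcon
      apply MvPolynomial.mem_support_iff.mp hs
      rw [MvPolynomial.coeff_sub, MvPolynomial.coeff_C]
      by_cases hs0 : (0 : Fin 2 →₀ ℕ) = s
      · rw [if_pos hs0, ← hs0, sub_self]
      · rw [if_neg hs0, sub_zero]
        have hor : s 0 = 0 ∨ s 1 = 0 := by
          by_contra hh
          push_neg at hh
          exact hcon ⟨Nat.one_le_iff_ne_zero.mpr hh.1, Nat.one_le_iff_ne_zero.mpr hh.2⟩
        rcases hor with h0 | h1
        · have hs1 : s 1 ≠ 0 := by
            intro h1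
            apply hs0
            rw [mon_eta s, h0, h1, mon_zero_zero]
          rw [mon_eta s, h0, ← coeff_aeval1]
          exact Polynomial.coeff_eq_zero_of_natDegree_lt
            (by rw [d1]; exact Nat.pos_of_ne_zero hs1)
        · have hs0' : s 0 ≠ 0 := by
            intro h0
            apply hs0
            rw [mon_eta s, h0, h1, mon_zero_zero]
          rw [mon_eta s, h1, ← coeff_aeval0]
          exact Polynomial.coeff_eq_zero_of_natDegree_lt
            (by rw [d0]; exact Nat.pos_of_ne_zero hs0')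
    exact (Ideal.Quotient.eq.mpr hmem).symm
  · rintro ⟨c, rfl⟩
    exact (KaehlerDifferential.D k _).map_algebraMap c

end

end Groth.Agent.Lib.NodeKaehler
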