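import Mathlib
import Groth.Agent.Lib.NodeKaehler_lead

namespace Groth.Agent.Lib.NodeKaehler2

open MvPolynomial Groth.Agent.Lib.CuspJac Groth.Agent.Lib.NodeKaehler

noncomputable section

variable {k : Type*} [Field k]

theorem const_of_natDegree (F : MvPolynomial (Fin 2) k)
    (d0 : (MvPolynomial.aeval (![Polynomial.X, 0] : Fin 2 → Polynomial k) F).natDegree = 0)
    (d1 : (MvPolynomial.aeval (![0, Polynomial.X] : Fin 2 → Polynomial k) F).natDegree = 0) :
    F - C (MvPolynomial.coeff 0 F) ∈ Inode (k := k) := by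
  rw [mem_node_iff]
  intro s hs
  by_contra hcon
  apply MvPolynomial.mem_support_iff.mp hs
  rw [MvPolynomial.coeff_sub, MvPolynomial.coeff_C]
  by_cases hs0 : (0 : Fin 2 →₀ ℕ) = s
  · rw [if_pos hs0, ← hs0, sub_self]
  · rw [if_neg hs0, sub_zero]
    have hor : s 0 = 0 ∨ s 1 = 0 := by
      by_contra hh
      push_neg at hh
      exact hcon ⟨Nat.one_le_iff_ne_zero.mpr hh.1, Nat.one_le_iff_ne_zero.mpr hh.2⟩
    rcases hor with h0 | h1
    · have hs1 : s 1 ≠ 0 := by
        intro h1
        apply hs0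
        rw [mon_eta s, h0, h1, mon_zero_zero]
      rw [mon_eta s, h0, ← coeff_aeval1]
      exact Polynomial.coeff_eq_zero_of_natDegree_lt
        (by rw [d1]; exact Nat.pos_of_ne_zero hs1)
    · have hs0' : s 0 ≠ 0 := by
        intro h0
        apply hs0
        rw [mon_eta s, h0, h1, mon_zero_zero]
      rw [mon_eta s, h1, ← coeff_aeval0]
      exact Polynomial.coeff_eq_zero_of_natDegree_lt
        (by rw [d0]; exact Nat.pos_of_ne_zero hs0')

theorem deriv_of_D_eq_smul {A : Type*} [CommRing A] [Algebra k A]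
    (π : A →ₐ[k] Polynomial k) (P a b : A)
    (h : KaehlerDifferential.D k A P = a • KaehlerDifferential.D k A b) :
    Polynomial.derivative (π P) = π a * Polynomial.derivative (π b) := by
  letI : Algebra A (Polynomial k) := π.toRingHom.toAlgebra
  haveI : IsScalarTower k A (Polynomial k) :=
    IsScalarTower.of_algebraMap_eq (fun c => (π.commutes c).symm)
  have h1 := KaehlerDifferential.map_D k k A (Polynomial k) P
  rw [h, map_smul, KaehlerDifferential.map_D] at h1
  have h2 := KaehlerDifferential.polynomialEquiv_D k (algebraMap A (Polynomial k) P)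
  rw [← h1, ← algebraMap_smul (Polynomial k) a, map_smul,
    KaehlerDifferential.polynomialEquiv_D, smul_eq_mul] at h2
  exact h2.symm

abbrev TT (k : Type*) [Field k] := DualNumber (DualNumber k)

def ta (k : Type*) [Field k] : TT k :=
  TrivSqZeroExt.inl (DualNumber.eps : DualNumber k) - TrivSqZeroExt.inr (1 : DualNumber k)

def tb (k : Type*) [Field k] : TT k :=
  TrivSqZeroExt.inl (DualNumber.eps : DualNumber k) + TrivSqZeroExt.inr (1 : DualNumber k)

theorem ta_fst : (ta k).fst = (DualNumber.eps : DualNumber k) := by simp [ta]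
theorem ta_snd : (ta k).snd = (-1 : DualNumber k) := by simp [ta]
theorem tb_fst : (tb k).fst = (DualNumber.eps : DualNumber k) := by simp [tb]
theorem tb_snd : (tb k).snd = (1 : DualNumber k) := by simp [tb]

theorem ta_mul_tb : ta k * tb k = 0 := by
  apply TrivSqZeroExt.ext
  · rw [TrivSqZeroExt.fst_mul, ta_fst, tb_fst, DualNumber.eps_mul_eps, TrivSqZeroExt.fst_zero]
  · rw [DualNumber.snd_mul, ta_fst, tb_fst, ta_snd, tb_snd, TrivSqZeroExt.snd_zero]
    ring

theorem aeval_zero_of_mem' {T : Type*} [CommSemiring T] [Algebra k T] (v : Fin 2 → T)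
    (hv : v 0 * v 1 = 0) :
    ∀ a : MvPolynomial (Fin 2) k, a ∈ Inode (k := k) → MvPolynomial.aeval v a = 0 := by
  intro a ha
  obtain ⟨c, rfl⟩ := Ideal.mem_span_singleton'.mp ha
  rw [map_mul, map_mul, aeval_X, aeval_X, hv, mul_zero]

def Phi (k : Type*) [Field k] : (MvPolynomial (Fin 2) k ⧸ Inode (k := k)) →ₐ[k] TT k :=
  Ideal.Quotient.liftₐ _ (MvPolynomial.aeval (![ta k, tb k] : Fin 2 → TT k))
    (aeval_zero_of_mem' (k := k) (T := TT k) _ ta_mul_tb)

theorem Phi_x : Phi k (Ideal.Quotient.mk (Inode (k := k)) (X 0)) = ta k := by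
  show MvPolynomial.aeval (![ta k, tb k] : Fin 2 → TT k) (X 0) = _
  rw [aeval_X]; rfl

theorem Phi_y : Phi k (Ideal.Quotient.mk (Inode (k := k)) (X 1)) = tb k := by
  show MvPolynomial.aeval (![ta k, tb k] : Fin 2 → TT k) (X 1) = _
  rw [aeval_X]; rfl

def phiE (k : Type*) [Field k] : (MvPolynomial (Fin 2) k ⧸ Inode (k := k)) →ₐ[k] DualNumber k :=
  (TrivSqZeroExt.fstHom k (DualNumber k) (DualNumber k)).comp (Phi k)

theorem phiE_apply (a : MvPolynomial (Fin 2) k ⧸ Inode (k := k)) : phiE k a = (Phi k a).fst := rfl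

@[reducible] def algE (k : Type*) [Field k] :
    Algebra (MvPolynomial (Fin 2) k ⧸ Inode (k := k)) (DualNumber k) :=
  (phiE k).toRingHom.toAlgebra

attribute [local instance] algE

theorem towerE : IsScalarTower k (MvPolynomial (Fin 2) k ⧸ Inode (k := k)) (DualNumber k) :=
  IsScalarTower.of_algebraMap_eq (fun c => ((phiE k).commutes c).symm)

attribute [local instance] towerE

theorem smulE (a : MvPolynomial (Fin 2) k ⧸ Inode (k := k)) (e : DualNumber k) :
    a • e = (Phi k a).fst * e := rfl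

def dl (k : Type*) [Field k] : (MvPolynomial (Fin 2) k ⧸ Inode (k := k)) →ₗ[k] DualNumber k where
  toFun a := (Phi k a).snd
  map_add' x y := by rw [map_add, TrivSqZeroExt.snd_add]
  map_smul' c x := by rw [map_smul, TrivSqZeroExt.snd_smul]; rfl

theorem dl_apply (a : MvPolynomial (Fin 2) k ⧸ Inode (k := k)) : dl k a = (Phi k a).snd := rfl

def delta (k : Type*) [Field k] :
    Derivation k (MvPolynomial (Fin 2) k ⧸ Inode (k := k)) (DualNumber k) :=
  Derivation.mk' (dl k) (fun a b => by
    rw [dl_apply, dl_apply, dl_apply, smulE, smulE, map_mul, DualNumber.snd_mul]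
    ring)

theorem delta_apply (a : MvPolynomial (Fin 2) k ⧸ Inode (k := k)) :
    delta k a = (Phi k a).snd := rfl

theorem eps_ne_zero : (DualNumber.eps : DualNumber k) ≠ 0 := by
  intro h
  have h1 := congrArg TrivSqZeroExt.snd h
  rw [DualNumber.snd_eps, TrivSqZeroExt.snd_zero] at h1
  exact one_ne_zero h1

theorem smul_D_ne_zero :
    (Ideal.Quotient.mk (Inode (k := k)) (X 0)) •
      KaehlerDifferential.D k (MvPolynomial (Fin 2) k ⧸ Inode (k := k))
        (Ideal.Quotient.mk _ (X 1)) ≠ 0 := by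
  intro h
  have h1 := congrArg (delta k).liftKaehlerDifferential h
  rw [map_smul, Derivation.liftKaehlerDifferential_comp_D, map_zero, delta_apply, smulE, Phi_x,
    Phi_y, ta_fst, tb_snd, mul_one] at h1
  exact eps_ne_zero h1

theorem main (k : Type*) [Field k] [CharZero k] :
    ¬ Function.Surjective (KaehlerDifferential.D k (MvPolynomial (Fin 2) k ⧸
        Ideal.span {(X 0 * X 1 : MvPolynomial (Fin 2) k)})) := by
  intro hsurj
  obtain ⟨R0, hR0⟩ := hsurj ((Ideal.Quotient.mk (Inode (k := k)) (X 0)) •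
      KaehlerDifferential.D k (MvPolynomial (Fin 2) k ⧸ Inode (k := k))
        (Ideal.Quotient.mk _ (X 1)))
  obtain ⟨F, rfl⟩ := Ideal.Quotient.mk_surjective R0
  have e0 := deriv_of_D_eq_smul (pi0 k) _ _ _ hR0
  have e1 := deriv_of_D_eq_smul (pi1 k) _ _ _ hR0
  rw [pi0_mk, pi0_mk, pi0_mk, aeval_X, aeval_X, v0_one, Polynomial.derivative_zero, mul_zero,
    Polynomial.derivative_eq_zero] at e0
  rw [pi1_mk, pi1_mk, pi1_mk, aeval_X, aeval_X, v1_zero, zero_mul,
    Polynomial.derivative_eq_zero] at e1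
  have hmem := const_of_natDegree F e0 e1
  have hF : Ideal.Quotient.mk (Inode (k := k)) F =
      algebraMap k (MvPolynomial (Fin 2) k ⧸ Inode (k := k)) (MvPolynomial.coeff 0 F) :=
    Ideal.Quotient.eq.mpr hmem
  rw [hF, Derivation.map_algebraMap] at hR0
  exact smul_D_ne_zero hR0.symm

end

end Groth.Agent.Lib.NodeKaehler2
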