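import Mathlib
import Groth.Prelude.Def_W4c5spincurvestfNode
import Groth.Agent.Lib.NodeQuot_lead

set_option autoImplicit false
set_option linter.unusedSimpArgs false
set_option linter.unusedVariables false
set_option linter.unusedSectionVars false
set_option linter.style.longLine false
set_option linter.unnecessarySimpa false
set_option maxHeartbeats 1600000

universe u

open Finsupp

namespace Groth.Agent.Lib.NodeNF

open Groth.Agent.Lib.NodeQuot

section Lim

variable {R : Type u} [CommRing R] (I : Ideal R) [IsAdicComplete I R]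

lemma smulTop (n : ℕ) : (I ^ n • ⊤ : Submodule R R) = I ^ n := by
  simp only [smul_eq_mul, Ideal.mul_top]

lemma haus (x : R) (h : ∀ n : ℕ, x ∈ I ^ n) : x = 0 := by
  refine IsHausdorff.haus (inferInstance : IsHausdorff I R) x (fun n => ?_)
  rw [SModEq.zero, smulTop]
  exact h n

lemma exists_lim (f : ℕ → R) (hf : ∀ m n : ℕ, m ≤ n → f n - f m ∈ I ^ m) :
    ∃ L : R, ∀ n : ℕ, L - f n ∈ I ^ n := by
  have hc : ∀ {m n : ℕ}, m ≤ n → f m ≡ f n [SMOD (I ^ m • ⊤ : Submodule R R)] := by
    intro m n hmn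
    rw [SModEq.sub_mem, smulTop]
    have h2 := hf m n hmn
    have e : f m - f n = -(f n - f m) := by ring
    rw [e]
    exact neg_mem h2
  obtain ⟨L, hL⟩ := IsPrecomplete.prec (inferInstance : IsPrecomplete I R) hc
  refine ⟨L, fun n => ?_⟩
  have h1 := hL n
  rw [SModEq.sub_mem, smulTop] at h1
  have e : L - f n = -(f n - L) := by ring
  rw [e]
  exact neg_mem h1

variable (π : R)

noncomputable def psum (c : ℕ → R) (n : ℕ) : R := ∑ m ∈ Finset.range n, π ^ m * c m

lemma psum_succ' (c : ℕ → R) (n : ℕ) :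
    psum π c (n + 1) = c 0 + π * psum π (fun m => c (m + 1)) n := by
  unfold psum
  rw [Finset.sum_range_succ', Finset.mul_sum, pow_zero, one_mul, add_comm]
  congr 1
  apply Finset.sum_congr rfl
  intro i _
  ring

lemma psum_cauchy (hπ : π ∈ I) (c : ℕ → R) (m n : ℕ) (hmn : m ≤ n) :
    psum π c n - psum π c m ∈ I ^ m := by
  unfold psum
  rw [← Finset.sum_Ico_eq_sub _ hmn]
  apply Ideal.sum_mem
  intro i hi
  rw [Finset.mem_Ico] at hi
  exact Ideal.mul_mem_right _ _ (Ideal.pow_le_pow_right hi.1 (Ideal.pow_mem_pow hπ i))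

noncomputable def T (hπ : π ∈ I) (c : ℕ → R) : R :=
  Classical.choose (exists_lim I (psum π c) (psum_cauchy I π hπ c))

lemma T_spec (hπ : π ∈ I) (c : ℕ → R) (n : ℕ) : T I π hπ c - psum π c n ∈ I ^ n :=
  Classical.choose_spec (exists_lim I (psum π c) (psum_cauchy I π hπ c)) n

lemma T_rec (hπ : π ∈ I) (c : ℕ → R) :
    T I π hπ c = c 0 + π * T I π hπ (fun m => c (m + 1)) := by
  rw [← sub_eq_zero]
  apply haus I
  intro n
  have h1 := T_spec I π hπ c (n + 1)
  have h2 := T_spec I π hπ (fun m => c (m + 1)) n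
  have e : T I π hπ c - (c 0 + π * T I π hπ (fun m => c (m + 1))) =
      (T I π hπ c - psum π c (n + 1)) -
        π * (T I π hπ (fun m => c (m + 1)) - psum π (fun m => c (m + 1)) n) := by
    rw [psum_succ']; ring
  rw [e]
  exact sub_mem (Ideal.pow_le_pow_right (Nat.le_succ n) h1) (Ideal.mul_mem_left _ _ h2)

/-- the diagonal sums -/
noncomputable def D (hπ : π ∈ I) (c : ℕ → ℕ → R) (a b : ℕ) : R :=
  T I π hπ (fun m => c (a + m) (b + m))

lemma D_rec (hπ : π ∈ I) (c : ℕ → ℕ → R) (a b : ℕ) :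
    D I π hπ c a b = c a b + π * D I π hπ c (a + 1) (b + 1) := by
  unfold D
  have h := T_rec I π hπ (fun m => c (a + m) (b + m))
  beta_reduce at h
  have e : (fun m => c (a + (m + 1)) (b + (m + 1))) = (fun m => c (a + 1 + m) (b + 1 + m)) := by
    funext m
    rw [show a + (m + 1) = a + 1 + m by omega, show b + (m + 1) = b + 1 + m by omega]
  rw [h, e, add_zero, add_zero]

end Lim

section Coeff

variable {R : Type u} [CommRing R]

lemma toMv_coeff (i : Fin 2) (f : PowerSeries R) (n : Fin 2 →₀ ℕ) :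
    MvPowerSeries.coeff n (PowerSeries.toMvPowerSeries (σ := Fin 2) i f) =
      if n = single i (n i) then PowerSeries.coeff (n i) f else 0 := by
  rw [PowerSeries.toMvPowerSeries_apply]
  by_cases h : n = single i (n i)
  · rw [if_pos h]
    have e : n = Finsupp.embDomain (Function.Embedding.punit i) (single () (n i)) := by
      rw [Finsupp.embDomain_single]; exact h
    have key := MvPowerSeries.coeff_embDomain_rename (R := R) (Function.Embedding.punit i) f
      (single () (n i))
    rw [← e] at key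
    exact key
  · rw [if_neg h]
    apply MvPowerSeries.coeff_rename_eq_zero
    rintro ⟨x, hx⟩
    apply h
    have hx' : x = single () (x ()) := Finsupp.unique_single x
    rw [hx', Finsupp.mapDomain_single] at hx
    rw [← hx]
    simp

lemma toMv0_coeff (f : PowerSeries R) (n : Fin 2 →₀ ℕ) :
    MvPowerSeries.coeff n (PowerSeries.toMvPowerSeries (σ := Fin 2) 0 f) =
      if n 1 = 0 then PowerSeries.coeff (n 0) f else 0 := by
  rw [toMv_coeff]
  by_cases h : n 1 = 0
  · rw [if_pos h, if_pos (eq_single0 n h)]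
  · rw [if_neg h, if_neg]
    intro h'
    apply h
    have := DFunLike.congr_fun h' 1
    simpa using this

lemma toMv1_coeff (f : PowerSeries R) (n : Fin 2 →₀ ℕ) :
    MvPowerSeries.coeff n (PowerSeries.toMvPowerSeries (σ := Fin 2) 1 f) =
      if n 0 = 0 then PowerSeries.coeff (n 1) f else 0 := by
  rw [toMv_coeff]
  by_cases h : n 0 = 0
  · rw [if_pos h, if_pos (eq_single1 n h)]
  · rw [if_neg h, if_neg]
    intro h'
    apply h
    have := DFunLike.congr_fun h' 0
    simpa using this

lemma coeff_mul_rel (π : R) (H : MvPowerSeries (Fin 2) R) (n : Fin 2 →₀ ℕ) :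
    MvPowerSeries.coeff n
        (H * (MvPowerSeries.X 0 * MvPowerSeries.X 1 - MvPowerSeries.C π)) =
      (if m11 ≤ n then MvPowerSeries.coeff (n - m11) H else 0) - MvPowerSeries.coeff n H * π := by
  rw [mul_sub, map_sub, MvPowerSeries.X_def, MvPowerSeries.X_def,
    MvPowerSeries.monomial_mul_monomial, mul_one, MvPowerSeries.coeff_mul_monomial, mul_one,
    MvPowerSeries.coeff_mul_C]

lemma ix_eq (n : Fin 2 →₀ ℕ) : single 0 (n 0) + single 1 (n 1) = n := by
  ext i; fin_cases i <;> simp

variable (I : Ideal R) [IsAdicComplete I R] (π : R) (hπ : π ∈ I)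

include hπ in
lemma exists_decomp (F : MvPowerSeries (Fin 2) R) :
    ∃ (f g : PowerSeries R) (H : MvPowerSeries (Fin 2) R),
      F = PowerSeries.toMvPowerSeries (σ := Fin 2) 0 f +
          PowerSeries.toMvPowerSeries (σ := Fin 2) 1 g +
          H * (MvPowerSeries.X 0 * MvPowerSeries.X 1 - MvPowerSeries.C π) := by
  set c : ℕ → ℕ → R := fun a b => MvPowerSeries.coeff (single 0 a + single 1 b) F with hc
  have hD := D_rec I π hπ c
  refine ⟨PowerSeries.mk (fun d => D I π hπ c d 0),
    PowerSeries.mk (fun d => if d = 0 then 0 else D I π hπ c 0 d),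
    fun n => D I π hπ c (n 0 + 1) (n 1 + 1), ?_⟩
  ext n
  rw [map_add, map_add, toMv0_coeff, toMv1_coeff, coeff_mul_rel, PowerSeries.coeff_mk,
    PowerSeries.coeff_mk]
  simp only [MvPowerSeries.coeff_apply]
  have hn : F n = c (n 0) (n 1) := by
    simp only [hc, MvPowerSeries.coeff_apply]
    rw [ix_eq]
  rw [hn]
  by_cases h1 : n 1 = 0
  · have h3 : ¬ m11 ≤ n := by rw [m11_le]; omega
    have h2 : (if n 0 = 0 then (if n 1 = 0 then (0 : R) else D I π hπ c 0 (n 1)) else 0) = 0 := by
      simp [h1]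
    rw [if_pos h1, h2, if_neg h3, h1, hD (n 0) 0]
    ring
  · by_cases h0 : n 0 = 0
    · have h3 : ¬ m11 ≤ n := by rw [m11_le]; omega
      rw [if_neg h1, if_pos h0, if_neg h1, if_neg h3, h0, hD 0 (n 1)]
      ring
    · have h3 : m11 ≤ n := by rw [m11_le]; omega
      have e0 : (n - m11) 0 + 1 = n 0 := by
        simp only [Finsupp.tsub_apply, m11, Finsupp.add_apply]
        simp
        omega
      have e1 : (n - m11) 1 + 1 = n 1 := by
        simp only [Finsupp.tsub_apply, m11, Finsupp.add_apply]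
        simp
        omega
      rw [if_neg h1, if_neg h0, if_pos h3, e0, e1, hD (n 0) (n 1)]
      ring

include hπ in
lemma unique_decomp (f g : PowerSeries R) (H : MvPowerSeries (Fin 2) R)
    (h : PowerSeries.toMvPowerSeries (σ := Fin 2) 0 f +
        PowerSeries.toMvPowerSeries (σ := Fin 2) 1 g =
      H * (MvPowerSeries.X 0 * MvPowerSeries.X 1 - MvPowerSeries.C π)) :
    (∀ d, 1 ≤ d → PowerSeries.coeff d f = 0) ∧ (∀ d, 1 ≤ d → PowerSeries.coeff d g = 0) ∧
      PowerSeries.coeff 0 f + PowerSeries.coeff 0 g = 0 := by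
  have hco : ∀ n : Fin 2 →₀ ℕ,
      (if n 1 = 0 then PowerSeries.coeff (n 0) f else 0) +
        (if n 0 = 0 then PowerSeries.coeff (n 1) g else 0) =
      (if m11 ≤ n then MvPowerSeries.coeff (n - m11) H else 0) -
        MvPowerSeries.coeff n H * π := by
    intro n
    have := congrArg (MvPowerSeries.coeff n) h
    rwa [map_add, toMv0_coeff, toMv1_coeff, coeff_mul_rel] at this
  have hstep : ∀ a b : ℕ, MvPowerSeries.coeff (single 0 a + single 1 b) H =
      MvPowerSeries.coeff (single 0 (a + 1) + single 1 (b + 1)) H * π := by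
    intro a b
    have := hco (single 0 (a + 1) + single 1 (b + 1))
    have e0 : (single (0 : Fin 2) (a + 1) + single (1 : Fin 2) (b + 1)) 0 = a + 1 := by simp
    have e1 : (single (0 : Fin 2) (a + 1) + single (1 : Fin 2) (b + 1)) 1 = b + 1 := by simp
    have e3 : m11 ≤ single (0 : Fin 2) (a + 1) + single (1 : Fin 2) (b + 1) := by
      rw [m11_le, e0, e1]; omega
    have e2 : single (0 : Fin 2) (a + 1) + single (1 : Fin 2) (b + 1) - m11 =
        single 0 a + single 1 b := by
      ext i; fin_cases i <;> simp [m11, Finsupp.tsub_apply]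
    rw [e0, e1, if_neg (by omega), if_neg (by omega), if_pos e3, e2] at this
    linear_combination -this
  have hpow : ∀ (k a b : ℕ), MvPowerSeries.coeff (single 0 a + single 1 b) H =
      MvPowerSeries.coeff (single 0 (a + k) + single 1 (b + k)) H * π ^ k := by
    intro k
    induction k with
    | zero => intro a b; simp
    | succ k ih =>
      intro a b
      rw [ih a b, hstep (a + k) (b + k), pow_succ', mul_assoc]
      rfl
  have hH : H = 0 := by
    ext n
    rw [map_zero, ← ix_eq n]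
    apply haus I
    intro k
    rw [hpow k]
    exact Ideal.mul_mem_left _ _ (Ideal.pow_mem_pow hπ k)
  have hco' : ∀ n : Fin 2 →₀ ℕ,
      (if n 1 = 0 then PowerSeries.coeff (n 0) f else 0) +
        (if n 0 = 0 then PowerSeries.coeff (n 1) g else 0) = 0 := by
    intro n
    have := hco n
    rw [hH] at this
    simpa using this
  refine ⟨fun d hd => ?_, fun d hd => ?_, ?_⟩
  · have := hco' (single 0 d)
    have e0 : (single (0 : Fin 2) d) 0 = d := by simp
    have e1 : (single (0 : Fin 2) d) 1 = 0 := by simp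
    rw [e0, e1, if_pos rfl, if_neg (by omega), add_zero] at this
    exact this
  · have := hco' (single 1 d)
    have e0 : (single (1 : Fin 2) d) 0 = 0 := by simp
    have e1 : (single (1 : Fin 2) d) 1 = d := by simp
    rw [e0, e1, if_neg (by omega), if_pos rfl, zero_add] at this
    exact this
  · have := hco' 0
    simpa using this

end Coeff

section Node

open SpinCurv

variable (R : Type u) [CommRing R] (π : R)

lemma mk_rel : (Ideal.Quotient.mk (Ideal.span
    {(MvPowerSeries.X 0 * MvPowerSeries.X 1 - MvPowerSeries.C π : MvPowerSeries (Fin 2) R)}))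
    (MvPowerSeries.X 0 * MvPowerSeries.X 1 - MvPowerSeries.C π) = 0 :=
  Ideal.Quotient.eq_zero_iff_mem.2 (Ideal.subset_span (Set.mem_singleton _))

lemma algMap_eq (r : R) : algebraMap R (NodeRing R π) r =
    Ideal.Quotient.mk _ (MvPowerSeries.C r) := by
  rw [← Ideal.Quotient.mk_algebraMap, MvPowerSeries.algebraMap_apply]
  rfl

lemma x_mul_y : NodeRing.x R π * NodeRing.y R π = algebraMap R (NodeRing R π) π := by
  rw [algMap_eq]
  show Ideal.Quotient.mk _ (MvPowerSeries.X 0) * Ideal.Quotient.mk _ (MvPowerSeries.X 1) = _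
  rw [← map_mul, ← sub_eq_zero, ← map_sub]
  exact mk_rel R π

lemma ofX_add (f g : PowerSeries R) :
    NodeRing.ofX R π (f + g) = NodeRing.ofX R π f + NodeRing.ofX R π g := by
  show Ideal.Quotient.mk _ (PowerSeries.toMvPowerSeries (σ := Fin 2) 0 (f + g)) =
    Ideal.Quotient.mk _ _ + Ideal.Quotient.mk _ _
  rw [map_add, map_add]

lemma ofY_add (f g : PowerSeries R) :
    NodeRing.ofY R π (f + g) = NodeRing.ofY R π f + NodeRing.ofY R π g := by
  show Ideal.Quotient.mk _ (PowerSeries.toMvPowerSeries (σ := Fin 2) 1 (f + g)) =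
    Ideal.Quotient.mk _ _ + Ideal.Quotient.mk _ _
  rw [map_add, map_add]

lemma ofX_sub (f g : PowerSeries R) :
    NodeRing.ofX R π (f - g) = NodeRing.ofX R π f - NodeRing.ofX R π g := by
  show Ideal.Quotient.mk _ (PowerSeries.toMvPowerSeries (σ := Fin 2) 0 (f - g)) =
    Ideal.Quotient.mk _ _ - Ideal.Quotient.mk _ _
  rw [map_sub, map_sub]

lemma ofY_sub (f g : PowerSeries R) :
    NodeRing.ofY R π (f - g) = NodeRing.ofY R π f - NodeRing.ofY R π g := by
  show Ideal.Quotient.mk _ (PowerSeries.toMvPowerSeries (σ := Fin 2) 1 (f - g)) =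
    Ideal.Quotient.mk _ _ - Ideal.Quotient.mk _ _
  rw [map_sub, map_sub]

lemma ofX_neg (f : PowerSeries R) : NodeRing.ofX R π (-f) = -NodeRing.ofX R π f := by
  show Ideal.Quotient.mk _ (PowerSeries.toMvPowerSeries (σ := Fin 2) 0 (-f)) =
    -Ideal.Quotient.mk _ _
  rw [map_neg, map_neg]

lemma ofY_neg (f : PowerSeries R) : NodeRing.ofY R π (-f) = -NodeRing.ofY R π f := by
  show Ideal.Quotient.mk _ (PowerSeries.toMvPowerSeries (σ := Fin 2) 1 (-f)) =
    -Ideal.Quotient.mk _ _
  rw [map_neg, map_neg]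

lemma ofX_zero : NodeRing.ofX R π 0 = 0 := by
  show Ideal.Quotient.mk _ (PowerSeries.toMvPowerSeries (σ := Fin 2) 0 (0 : PowerSeries R)) = 0
  rw [map_zero, map_zero]

lemma ofY_zero : NodeRing.ofY R π 0 = 0 := by
  show Ideal.Quotient.mk _ (PowerSeries.toMvPowerSeries (σ := Fin 2) 1 (0 : PowerSeries R)) = 0
  rw [map_zero, map_zero]

lemma ofX_X_mul (f : PowerSeries R) :
    NodeRing.ofX R π (PowerSeries.X * f) = NodeRing.x R π * NodeRing.ofX R π f := by
  show Ideal.Quotient.mk _ (PowerSeries.toMvPowerSeries (σ := Fin 2) 0 (PowerSeries.X * f)) =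
    Ideal.Quotient.mk _ (MvPowerSeries.X 0) * Ideal.Quotient.mk _ _
  rw [map_mul, map_mul, PowerSeries.toMvPowerSeries_X]

lemma ofY_X_mul (f : PowerSeries R) :
    NodeRing.ofY R π (PowerSeries.X * f) = NodeRing.y R π * NodeRing.ofY R π f := by
  show Ideal.Quotient.mk _ (PowerSeries.toMvPowerSeries (σ := Fin 2) 1 (PowerSeries.X * f)) =
    Ideal.Quotient.mk _ (MvPowerSeries.X 1) * Ideal.Quotient.mk _ _
  rw [map_mul, map_mul, PowerSeries.toMvPowerSeries_X]

lemma ofX_C_mul (r : R) (f : PowerSeries R) :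
    NodeRing.ofX R π (PowerSeries.C r * f) =
      algebraMap R (NodeRing R π) r * NodeRing.ofX R π f := by
  rw [algMap_eq]
  show Ideal.Quotient.mk _ (PowerSeries.toMvPowerSeries (σ := Fin 2) 0 (PowerSeries.C r * f)) =
    Ideal.Quotient.mk _ (MvPowerSeries.C r) * Ideal.Quotient.mk _ _
  rw [map_mul, map_mul, PowerSeries.toMvPowerSeries_C]

lemma ofY_C_mul (r : R) (f : PowerSeries R) :
    NodeRing.ofY R π (PowerSeries.C r * f) =
      algebraMap R (NodeRing R π) r * NodeRing.ofY R π f := by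
  rw [algMap_eq]
  show Ideal.Quotient.mk _ (PowerSeries.toMvPowerSeries (σ := Fin 2) 1 (PowerSeries.C r * f)) =
    Ideal.Quotient.mk _ (MvPowerSeries.C r) * Ideal.Quotient.mk _ _
  rw [map_mul, map_mul, PowerSeries.toMvPowerSeries_C]

lemma ofX_C (r : R) : NodeRing.ofX R π (PowerSeries.C r) = algebraMap R (NodeRing R π) r := by
  rw [algMap_eq]
  show Ideal.Quotient.mk _ (PowerSeries.toMvPowerSeries (σ := Fin 2) 0 (PowerSeries.C r)) =
    Ideal.Quotient.mk _ (MvPowerSeries.C r)
  rw [PowerSeries.toMvPowerSeries_C]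

lemma ofY_C (r : R) : NodeRing.ofY R π (PowerSeries.C r) = algebraMap R (NodeRing R π) r := by
  rw [algMap_eq]
  show Ideal.Quotient.mk _ (PowerSeries.toMvPowerSeries (σ := Fin 2) 1 (PowerSeries.C r)) =
    Ideal.Quotient.mk _ (MvPowerSeries.C r)
  rw [PowerSeries.toMvPowerSeries_C]

variable (I : Ideal R) [IsAdicComplete I R] (hπ : π ∈ I)

include hπ in
lemma exists_ofX_add_ofY (a : NodeRing R π) :
    ∃ f g : PowerSeries R, a = NodeRing.ofX R π f + NodeRing.ofY R π g := by
  obtain ⟨F, rfl⟩ := Ideal.Quotient.mk_surjective a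
  obtain ⟨f, g, H, hF⟩ := exists_decomp I π hπ F
  refine ⟨f, g, ?_⟩
  have h0 : Ideal.Quotient.mk (Ideal.span
      {(MvPowerSeries.X 0 * MvPowerSeries.X 1 - MvPowerSeries.C π : MvPowerSeries (Fin 2) R)})
      (H * (MvPowerSeries.X 0 * MvPowerSeries.X 1 - MvPowerSeries.C π)) = 0 := by
    rw [map_mul, mk_rel, mul_zero]
  conv_lhs => rw [hF]
  rw [map_add, map_add, h0, add_zero]

include hπ in
lemma ofX_add_ofY_eq_zero (f g : PowerSeries R)
    (h : NodeRing.ofX R π f + NodeRing.ofY R π g = 0) :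
    (∀ d, 1 ≤ d → PowerSeries.coeff d f = 0) ∧ (∀ d, 1 ≤ d → PowerSeries.coeff d g = 0) ∧
      PowerSeries.coeff 0 f + PowerSeries.coeff 0 g = 0 := by
  have h' : Ideal.Quotient.mk (Ideal.span
      {(MvPowerSeries.X 0 * MvPowerSeries.X 1 - MvPowerSeries.C π : MvPowerSeries (Fin 2) R)})
      (PowerSeries.toMvPowerSeries (σ := Fin 2) 0 f +
        PowerSeries.toMvPowerSeries (σ := Fin 2) 1 g) = 0 := by
    rw [map_add]; exact h
  rw [Ideal.Quotient.eq_zero_iff_mem, Ideal.mem_span_singleton'] at h'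
  obtain ⟨H, hH⟩ := h'
  exact unique_decomp I π hπ f g H hH.symm

include hπ in
lemma exists_form1 (a : NodeRing R π) :
    ∃ f g : PowerSeries R, a = NodeRing.ofX R π f + NodeRing.y R π * NodeRing.ofY R π g := by
  obtain ⟨F, G, rfl⟩ := exists_ofX_add_ofY R π I hπ a
  refine ⟨F + PowerSeries.C (PowerSeries.constantCoeff G),
    PowerSeries.mk fun p => PowerSeries.coeff (p + 1) G, ?_⟩
  conv_lhs => rw [PowerSeries.eq_X_mul_shift_add_const G]
  rw [ofY_add, ofY_X_mul, ofY_C, ofX_add, ofX_C]
  ring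

include hπ in
lemma exists_form2 (a : NodeRing R π) :
    ∃ f g : PowerSeries R, a = NodeRing.ofY R π g + NodeRing.x R π * NodeRing.ofX R π f := by
  obtain ⟨F, G, rfl⟩ := exists_ofX_add_ofY R π I hπ a
  refine ⟨PowerSeries.mk fun p => PowerSeries.coeff (p + 1) F,
    G + PowerSeries.C (PowerSeries.constantCoeff F), ?_⟩
  conv_lhs => rw [PowerSeries.eq_X_mul_shift_add_const F]
  rw [ofX_add, ofX_X_mul, ofX_C, ofY_add, ofY_C]
  ring

end Node

section Alpha

open SpinCurv

variable (R : Type u) [CommRing R] (p q : R)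

lemma vec2_ext {α : Type*} {a b a' b' : α} (h1 : a = a') (h2 : b = b') :
    (![a, b] : Fin 2 → α) = ![a', b'] := by rw [h1, h2]

lemma vec2_eta {α : Type*} (w : Fin 2 → α) : w = ![w 0, w 1] := by
  ext i; fin_cases i <;> rfl

lemma alpha_mulVec (a b : NodeRing R (p * q)) :
    Matrix.mulVec (nodeAlpha R p q) ![a, b] =
      ![NodeRing.x R (p * q) * a + algebraMap R (NodeRing R (p * q)) p * b,
        algebraMap R (NodeRing R (p * q)) q * a + NodeRing.y R (p * q) * b] := by
  ext i
  fin_cases i <;> simp [nodeAlpha, Matrix.mulVec, dotProduct, Fin.sum_univ_two]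

lemma xy_pq : NodeRing.x R (p * q) * NodeRing.y R (p * q) =
    algebraMap R (NodeRing R (p * q)) p * algebraMap R (NodeRing R (p * q)) q := by
  rw [x_mul_y, map_mul]

variable (I : Ideal R) [IsAdicComplete I R] (hπ : p * q ∈ I)

include hπ in
lemma inj_core (f g : PowerSeries R)
    (h : Matrix.mulVec (nodeAlpha R p q) ![NodeRing.ofX R (p * q) f, NodeRing.ofY R (p * q) g] = 0) :
    f = 0 ∧ g = 0 := by
  rw [alpha_mulVec] at h
  have h0 : NodeRing.x R (p * q) * NodeRing.ofX R (p * q) f +
      algebraMap R (NodeRing R (p * q)) p * NodeRing.ofY R (p * q) g = 0 := congrFun h 0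
  have h1 : algebraMap R (NodeRing R (p * q)) q * NodeRing.ofX R (p * q) f +
      NodeRing.y R (p * q) * NodeRing.ofY R (p * q) g = 0 := congrFun h 1
  rw [← ofX_X_mul, ← ofY_C_mul] at h0
  rw [← ofX_C_mul, ← ofY_X_mul] at h1
  have k0 := (ofX_add_ofY_eq_zero R (p * q) I hπ _ _ h0).1
  have k1 := (ofX_add_ofY_eq_zero R (p * q) I hπ _ _ h1).2.1
  constructor
  · ext d
    have := k0 (d + 1) (by omega)
    rw [PowerSeries.coeff_succ_X_mul] at this
    rw [this, map_zero]
  · ext d
    have := k1 (d + 1) (by omega)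
    rw [PowerSeries.coeff_succ_X_mul] at this
    rw [this, map_zero]

lemma range_core (a₁ a₂ b₁ b₂ : PowerSeries R) :
    Matrix.mulVec (nodeAlpha R p q)
      ![NodeRing.ofX R (p * q) a₁ + NodeRing.y R (p * q) * NodeRing.ofY R (p * q) a₂,
        NodeRing.ofY R (p * q) b₁ + NodeRing.x R (p * q) * NodeRing.ofX R (p * q) b₂] =
    Matrix.mulVec (nodeAlpha R p q)
      ![NodeRing.ofX R (p * q) (a₁ + PowerSeries.C p * b₂),
        NodeRing.ofY R (p * q) (PowerSeries.C q * a₂ + b₁)] := by
  rw [alpha_mulVec, alpha_mulVec, ofX_add, ofX_C_mul, ofY_add, ofY_C_mul]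
  have hxy := xy_pq R p q
  apply vec2_ext
  · linear_combination (NodeRing.ofY R (p * q) a₂) * hxy
  · linear_combination (NodeRing.ofX R (p * q) b₂) * hxy

include hπ in
theorem main18433 :
    Function.Injective (fun fg : PowerSeries R × PowerSeries R =>
        Matrix.mulVec (SpinCurv.nodeAlpha R p q)
          ![SpinCurv.NodeRing.ofX R (p * q) fg.1, SpinCurv.NodeRing.ofY R (p * q) fg.2]) ∧
    Set.range (fun fg : PowerSeries R × PowerSeries R =>
        Matrix.mulVec (SpinCurv.nodeAlpha R p q)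
          ![SpinCurv.NodeRing.ofX R (p * q) fg.1, SpinCurv.NodeRing.ofY R (p * q) fg.2]) =
      Set.range (Matrix.mulVec (SpinCurv.nodeAlpha R p q)) := by
  constructor
  · rintro ⟨f, g⟩ ⟨f', g'⟩ h
    simp only at h
    have h2 : Matrix.mulVec (nodeAlpha R p q)
        ![NodeRing.ofX R (p * q) (f - f'), NodeRing.ofY R (p * q) (g - g')] = 0 := by
      have e : (![NodeRing.ofX R (p * q) (f - f'), NodeRing.ofY R (p * q) (g - g')] :
          Fin 2 → NodeRing R (p * q)) =
          ![NodeRing.ofX R (p * q) f, NodeRing.ofY R (p * q) g] -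
            ![NodeRing.ofX R (p * q) f', NodeRing.ofY R (p * q) g'] := by
        rw [ofX_sub, ofY_sub]
        ext i; fin_cases i <;> simp
      rw [e, Matrix.mulVec_sub, h, sub_self]
    obtain ⟨e1, e2⟩ := inj_core R p q I hπ _ _ h2
    rw [sub_eq_zero] at e1 e2
    rw [e1, e2]
  · apply Set.Subset.antisymm
    · rintro w ⟨fg, rfl⟩
      exact ⟨_, rfl⟩
    · rintro w ⟨v, rfl⟩
      obtain ⟨a₁, a₂, ha⟩ := exists_form1 R (p * q) I hπ (v 0)
      obtain ⟨b₂, b₁, hb⟩ := exists_form2 R (p * q) I hπ (v 1)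
      refine ⟨(a₁ + PowerSeries.C p * b₂, PowerSeries.C q * a₂ + b₁), ?_⟩
      show Matrix.mulVec (nodeAlpha R p q)
        ![NodeRing.ofX R (p * q) (a₁ + PowerSeries.C p * b₂),
          NodeRing.ofY R (p * q) (PowerSeries.C q * a₂ + b₁)] = _
      rw [← range_core]
      conv_rhs => rw [vec2_eta v, ha, hb]

include hπ in
theorem main18432 :
    LinearMap.ker (Matrix.mulVecLin (SpinCurv.nodeAlpha R p q)) =
      Submodule.span (SpinCurv.NodeRing R (p * q))
        {![algebraMap R (SpinCurv.NodeRing R (p * q)) p, -SpinCurv.NodeRing.x R (p * q)],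
         ![SpinCurv.NodeRing.y R (p * q), -algebraMap R (SpinCurv.NodeRing R (p * q)) q]} := by
  have hxy := xy_pq R p q
  apply le_antisymm
  · intro w hw
    rw [LinearMap.mem_ker, Matrix.mulVecLin_apply] at hw
    obtain ⟨a₁, a₂, ha⟩ := exists_form1 R (p * q) I hπ (w 0)
    obtain ⟨b₂, b₁, hb⟩ := exists_form2 R (p * q) I hπ (w 1)
    have hw' := vec2_eta w
    rw [hw', ha, hb, range_core] at hw
    obtain ⟨hf, hg⟩ := inj_core R p q I hπ _ _ hw
    have e1 : a₁ = -(PowerSeries.C p * b₂) := eq_neg_of_add_eq_zero_left hf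
    have e2 : b₁ = -(PowerSeries.C q * a₂) := eq_neg_of_add_eq_zero_right hg
    have hw2 : w = (NodeRing.ofY R (p * q) a₂) •
          ![SpinCurv.NodeRing.y R (p * q), -algebraMap R (SpinCurv.NodeRing R (p * q)) q] +
        (-(NodeRing.ofX R (p * q) b₂)) •
          ![algebraMap R (SpinCurv.NodeRing R (p * q)) p, -SpinCurv.NodeRing.x R (p * q)] := by
      rw [hw', ha, hb, e1, e2, ofX_neg, ofY_neg, ofX_C_mul, ofY_C_mul]
      ext i
      fin_cases i
      · simp
        ring
      · simp
        ring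
    rw [hw2]
    refine add_mem (Submodule.smul_mem _ _ (Submodule.subset_span ?_))
      (Submodule.smul_mem _ _ (Submodule.subset_span ?_))
    · exact Set.mem_insert_of_mem _ (Set.mem_singleton _)
    · exact Set.mem_insert _ _
  · rw [Submodule.span_le]
    rintro v (rfl | rfl)
    · rw [SetLike.mem_coe, LinearMap.mem_ker, Matrix.mulVecLin_apply, alpha_mulVec]
      ext i
      fin_cases i
      · simp
        ring
      · simp
        linear_combination -hxy
    · rw [SetLike.mem_coe, LinearMap.mem_ker, Matrix.mulVecLin_apply, alpha_mulVec]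
      ext i
      fin_cases i
      · simp
        linear_combination hxy
      · simp
        ring

end Alpha

end Groth.Agent.Lib.NodeNF
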