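import Mathlib
import Groth.Prelude
import Groth.Agent.Lib.NodeGor3_helper3
import Groth.Agent.Lib.IdealPt2_helper9

/-!
# A regular at-worst-nodal curve is smooth (helper9)
APPEND-ONLY once landed.
-/

set_option autoImplicit false
universe u
open CategoryTheory CategoryTheory.Limits AlgebraicGeometry Opposite TopologicalSpace

namespace NodeReg

attribute [local instance] Curv2.resAlgebra Curv2.stalkAlgebra

/-- the local ring at a node is not regular -/
theorem not_isRegularLocalRing_of_isNode (k : Type u) [Field k] (C : Scheme.{u})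
    [C.Over (Spec (CommRingCat.of k))] [LocallyOfFiniteType (C ↘ Spec (CommRingCat.of k))]
    (hdim : ∀ Z ∈ irreducibleComponents (C : Type u), topologicalKrullDim Z = 1)
    (x : C) (hnode : Curv2.IsNode k C x) : ¬ IsRegularLocalRing (C.presheaf.stalk x) := by
  intro hreg
  haveI : IsLocallyNoetherian C :=
    LocallyOfFiniteType.isLocallyNoetherian (C ↘ Spec (CommRingCat.of k))
  obtain ⟨-, a, b, c, hdisc, e, -⟩ :=
    (Groth.Agent.Lib.NodeCritH3.main1587 k C x hnode.1).1 hnode
  have h2 := (Groth.Agent.Lib.QuadNodeH3.ii_to_i (C.presheaf.stalk x) a b c hdisc e).2.1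
  have hd := IdealPt.ringKrullDim_stalk_of_closed' hdim hnode.1
  have hr := hreg.spanFinrank_maximalIdeal
  rw [hd, IsLocalRing.spanFinrank_maximalIdeal_eq_finrank_cotangentSpace, h2] at hr
  exact absurd hr (by norm_num)

/-- the statement of S7892 -/
theorem main7892 (k : Type u) [Field k] (C : Scheme.{u})
    [C.Over (Spec (CommRingCat.of k))] [LocallyOfFiniteType (C ↘ Spec (CommRingCat.of k))]
    (hdim : ∀ Z ∈ irreducibleComponents (C : Type u), topologicalKrullDim Z = 1)
    (hnod : Curv2.AtWorstNodal k C) (hreg : ∀ x : C, IsRegularLocalRing (C.presheaf.stalk x)) :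
    Smooth (C ↘ Spec (CommRingCat.of k)) := by
  haveI := Groth.Agent.Lib.NodeGorH3.lfp_over k C
  rw [← Scheme.Hom.smoothLocus_eq_top_iff, eq_top_iff]
  rintro x -
  rw [Scheme.Hom.mem_smoothLocus]
  rcases Groth.Agent.Lib.NodeGorH3.smooth_or_node k C hdim hnod x with h | hnode
  · exact (Groth.Agent.Lib.NodeGorH3.smooth_nhd_iff_stalk k C x).1 h
  · exact absurd (hreg x) (not_isRegularLocalRing_of_isNode k C hdim x hnode)

end NodeReg
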