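import Mathlib
import Groth.Agent.Lib.PSEval_helper1
import Groth.Agent.Lib.CompleteTwoIdeals_lead

set_option autoImplicit false
set_option maxHeartbeats 1000000
set_option linter.unusedVariables false
universe u

open Groth.Agent.Lib

namespace Groth.Agent.Lib.NodeSecH5

section Eval

variable {S : Type u} [CommRing S] (I : Ideal S) [IsAdicComplete I S]

/-- evaluation of power series at elements of an ideal of definition of a complete ring -/
theorem exists_eval {n : ℕ} (x : Fin n → S) (hx : ∀ i, x i ∈ I) :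
    ∃ E : MvPowerSeries (Fin n) S →ₐ[S] S, ∀ i, E (MvPowerSeries.X i) = x i := by
  classical
  let a : ∀ k : ℕ, Fin n → S ⧸ I ^ k := fun k i => Ideal.Quotient.mk _ (x i)
  have ha : ∀ k i, IsNilpotent (a k i) := fun k i =>
    ⟨k, by
      show (Ideal.Quotient.mk (I ^ k) (x i)) ^ k = 0
      rw [← map_pow, Ideal.Quotient.eq_zero_iff_mem]
      exact Ideal.pow_mem_pow (hx i) k⟩
  let ε : ∀ k : ℕ, MvPowerSeries (Fin n) S →ₐ[S] S ⧸ I ^ k := fun k =>
    PSEvalH1.evalNil (R := S) (a k) (ha k)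
  have hεX : ∀ k i, ε k (MvPowerSeries.X i) = a k i := fun k i =>
    PSEvalH1.evalNil_X (a k) (ha k) i
  have hcompat : ∀ {k l : ℕ} (hle : k ≤ l),
      (Ideal.Quotient.factorₐ S (Ideal.pow_le_pow_right hle)).comp (ε l) = ε k := by
    intro k l hle
    apply PSEvalH1.algHom_ext_of_nilpotent
    · intro i
      rw [AlgHom.comp_apply, hεX, hεX]
      rfl
    · intro i
      rw [AlgHom.comp_apply, hεX]
      exact ha k i
  let f : MvPowerSeries (Fin n) S →ₐ[S] S := IsAdicComplete.liftAlgHom I ε hcompat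
  refine ⟨f, fun i => ?_⟩
  rw [← sub_eq_zero]
  apply IsHausdorff.haus (inferInstance : IsHausdorff I S)
  intro k
  rw [SModEq.zero, smul_eq_mul, Ideal.mul_top, ← Ideal.Quotient.eq,
    IsAdicComplete.mk_liftAlgHom, hεX]

end Eval

section UFD

variable {S : Type*} [CommRing S] [IsDomain S] [UniqueFactorizationMonoid S] [IsNoetherianRing S]

/-- in a Noetherian UFD, a factorization `a b = t₁ t₂` close enough to `(t₁, t₂)` is associated
to it -/
theorem exists_bound_ufd (𝔪 : Ideal S) (h𝔪 : 𝔪 ≤ (⊥ : Ideal S).jacobson) (t₁ t₂ : S)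
    (hD : t₁ * t₂ ≠ 0) :
    ∃ n₀ : ℕ, ∀ a b : S, a * b = t₁ * t₂ → a - t₁ ∈ 𝔪 ^ n₀ → b - t₂ ∈ 𝔪 ^ n₀ →
      Ideal.span {a} = Ideal.span {t₁} ∧ Ideal.span {b} = Ideal.span {t₂} := by
  classical
  haveI : Fintype (Associates S)ˣ := Fintype.ofSubsingleton 1
  have hD' : Associates.mk (t₁ * t₂) ≠ 0 := by
    rw [Ne, Associates.mk_eq_zero]; exact hD
  letI : Fintype {x : Associates S // x ∣ Associates.mk (t₁ * t₂)} :=
    UniqueFactorizationMonoid.fintypeSubtypeDvd _ hD'
  -- the bound for one divisor class and one element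
  have key : ∀ (t : S) (x : Associates S), ∃ n : ℕ,
      t ∈ Ideal.span {(Quot.out x)} ⊔ 𝔪 ^ n → t ∈ Ideal.span {(Quot.out x)} := by
    intro t x
    by_cases ht : t ∈ Ideal.span {(Quot.out x)}
    · exact ⟨0, fun _ => ht⟩
    · by_contra hcon
      push_neg at hcon
      exact ht (CompleteTwoIdealsLead.krull_mem h𝔪 fun n => (hcon n).1)
  choose N hN using key
  refine ⟨Finset.univ.sup fun x : {x : Associates S // x ∣ Associates.mk (t₁ * t₂)} =>
    max (N t₁ x.1) (N t₂ x.1), fun a b hab ha hb => ?_⟩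
  set n₀ := Finset.univ.sup fun x : {x : Associates S // x ∣ Associates.mk (t₁ * t₂)} =>
    max (N t₁ x.1) (N t₂ x.1) with hn₀
  -- divisibility
  have hdiv : ∀ (c t : S) (hc : c ∣ t₁ * t₂) (hle : N t (Associates.mk c) ≤ n₀),
      c - t ∈ 𝔪 ^ n₀ → c ∣ t := by
    intro c t hc hle hct
    have hspan : Ideal.span {(Quot.out (Associates.mk c))} = Ideal.span {c} := by
      rw [Ideal.span_singleton_eq_span_singleton]
      exact Associates.mk_quot_out c
    have h1 : t ∈ Ideal.span {(Quot.out (Associates.mk c))} ⊔ 𝔪 ^ N t (Associates.mk c) := by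
      have h0 : c + (-(c - t)) ∈ Ideal.span {c} ⊔ 𝔪 ^ N t (Associates.mk c) :=
        Ideal.add_mem _ (Ideal.mem_sup_left (Ideal.mem_span_singleton_self c))
          (Ideal.mem_sup_right (Ideal.pow_le_pow_right hle ((Ideal.neg_mem_iff _).2 hct)))
      have : c + (-(c - t)) = t := by ring
      rw [this] at h0
      rw [hspan]
      exact h0
    have h2 := hN t _ h1
    rw [hspan] at h2
    exact Ideal.mem_span_singleton.1 h2
  have hadvd : a ∣ t₁ * t₂ := ⟨b, hab.symm⟩
  have hbdvd : b ∣ t₁ * t₂ := ⟨a, by rw [← hab, mul_comm]⟩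
  have hle₁ : N t₁ (Associates.mk a) ≤ n₀ := by
    have := Finset.le_sup (f := fun x : {x : Associates S // x ∣ Associates.mk (t₁ * t₂)} =>
      max (N t₁ x.1) (N t₂ x.1)) (Finset.mem_univ ⟨Associates.mk a, Associates.mk_dvd_mk.2 hadvd⟩)
    exact le_trans (le_max_left _ _) this
  have hle₂ : N t₂ (Associates.mk b) ≤ n₀ := by
    have := Finset.le_sup (f := fun x : {x : Associates S // x ∣ Associates.mk (t₁ * t₂)} =>
      max (N t₁ x.1) (N t₂ x.1)) (Finset.mem_univ ⟨Associates.mk b, Associates.mk_dvd_mk.2 hbdvd⟩)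
    exact le_trans (le_max_right _ _) this
  obtain ⟨x, hx⟩ := hdiv a t₁ hadvd hle₁ ha
  obtain ⟨y, hy⟩ := hdiv b t₂ hbdvd hle₂ hb
  have hab0 : a * b ≠ 0 := by rw [hab]; exact hD
  have hxy : x * y = 1 := by
    have h1 : a * b * (x * y) = a * b * 1 := by
      rw [mul_one]
      calc a * b * (x * y) = (a * x) * (b * y) := by ring
        _ = t₁ * t₂ := by rw [← hx, ← hy]
        _ = a * b := hab.symm
    exact mul_left_cancel₀ hab0 h1
  have hxu : IsUnit x := IsUnit.of_mul_eq_one y hxy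
  have hyu : IsUnit y := IsUnit.of_mul_eq_one x (by rw [mul_comm]; exact hxy)
  constructor
  · rw [Ideal.span_singleton_eq_span_singleton]
    exact ⟨hxu.unit, by rw [hx]; rfl⟩
  · rw [Ideal.span_singleton_eq_span_singleton]
    exact ⟨hyu.unit, by rw [hy]; rfl⟩

end UFD

end Groth.Agent.Lib.NodeSecH5
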