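import Mathlib
import Groth.Prelude.Def_EGA4b
import Groth.Agent.Lib.NodeSec1_helper5
import Groth.Agent.Lib.ArtinApx4_helper5
import Groth.Agent.Lib.ComplIso_helper5
import Groth.Agent.Lib.GRingIso_helper3
import Groth.Agent.S0543

set_option autoImplicit false
set_option maxHeartbeats 1000000
set_option linter.unusedVariables false
universe u

open Groth.Agent.Lib IsLocalRing

namespace Groth.Agent.Lib.NodeSec2H5

section Core

variable (R : Type u) [CommRing R] [IsNoetherianRing R] [IsLocalRing R]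
  (hH : HenselianRing R (maximalIdeal R))
  (hreg : CAlg.IsRegularHom R (AdicCompletion (maximalIdeal R) R))
  (C : Type u) [CommRing C] [IsLocalRing C] [Algebra R C] [Algebra.EssFiniteType R C]

include hH hreg in
/-- approximating a formal section of an essentially finite type local algebra by a section -/
theorem exists_section_approx
    (g₀ : AdicCompletion (maximalIdeal C) C →+* AdicCompletion (maximalIdeal R) R)
    (hg₀ : g₀.comp ((algebraMap C (AdicCompletion (maximalIdeal C) C)).comp (algebraMap R C)) =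
      algebraMap R (AdicCompletion (maximalIdeal R) R)) (n : ℕ) :
    ∃ (g : C →ₐ[R] R) (ĝ : AdicCompletion (maximalIdeal C) C →+* AdicCompletion (maximalIdeal R) R),
      ĝ.comp (algebraMap C (AdicCompletion (maximalIdeal C) C)) =
        (algebraMap R (AdicCompletion (maximalIdeal R) R)).comp g.toRingHom ∧
      ∀ z, ĝ z - g₀ z ∈ (maximalIdeal R ^ n).map
        (algebraMap R (AdicCompletion (maximalIdeal R) R)) := by
  classical
  haveI : IsNoetherianRing C := Algebra.EssFiniteType.isNoetherianRing R C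
  -- the R-algebra map f₀ : C → R^
  let f₀ : C →ₐ[R] AdicCompletion (maximalIdeal R) R :=
    { g₀.comp (algebraMap C (AdicCompletion (maximalIdeal C) C)) with
      commutes' := fun r => RingHom.congr_fun hg₀ r }
  have hf₀ : ∀ c : C, f₀ c = g₀ (algebraMap C (AdicCompletion (maximalIdeal C) C) c) := fun c => rfl
  -- finite type model
  haveI : Algebra.FinitePresentation R (Algebra.EssFiniteType.subalgebra R C) :=
    (Algebra.FinitePresentation.of_finiteType).1 inferInstance
  obtain ⟨τ, hτ⟩ := ArtinApxH5.artin_approx_hom R (maximalIdeal R) hH hreg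
    (Algebra.EssFiniteType.subalgebra R C) (f₀.comp (Algebra.EssFiniteType.subalgebra R C).val) n
  have hτ' : ∀ x : Algebra.EssFiniteType.subalgebra R C,
      Ideal.Quotient.mk (maximalIdeal R ^ (n + 1)) (τ x) =
        AdicCompletion.evalₐ (maximalIdeal R) (n + 1) (f₀ (x : C)) := fun x => hτ x
  -- units
  have hunit_of_mk : ∀ r : R, IsUnit (Ideal.Quotient.mk (maximalIdeal R ^ (n + 1)) r) → IsUnit r := by
    intro r hr
    by_contra hnu
    have hrm : r ∈ maximalIdeal R := (mem_maximalIdeal r).2 hnu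
    obtain ⟨y', hy'⟩ := hr.exists_right_inv
    obtain ⟨y, rfl⟩ := Ideal.Quotient.mk_surjective y'
    rw [← map_mul, ← map_one (Ideal.Quotient.mk (maximalIdeal R ^ (n + 1))), Ideal.Quotient.eq] at hy'
    have h1 : r * y - 1 ∈ maximalIdeal R := Ideal.pow_le_self (Nat.succ_ne_zero n) hy'
    have h2 : (1 : R) ∈ maximalIdeal R := by
      have : (1 : R) = r * y - (r * y - 1) := by ring
      rw [this]
      exact Ideal.sub_mem _ (Ideal.mul_mem_right _ _ hrm) h1
    exact (Ideal.ne_top_iff_one _).1 (maximalIdeal.isMaximal R).ne_top h2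
  have hτunit : ∀ s : Algebra.EssFiniteType.submonoid R C, IsUnit (τ s) := by
    intro s
    apply hunit_of_mk
    rw [hτ']
    have hs : IsUnit ((s : Algebra.EssFiniteType.subalgebra R C) : C) := s.2
    exact (hs.map f₀).map (AdicCompletion.evalₐ (maximalIdeal R) (n + 1))
  -- the section
  let g : C →ₐ[R] R := IsLocalization.liftAlgHom (M := Algebra.EssFiniteType.submonoid R C)
    (f := τ) hτunit
  have hg_sub : ∀ x : Algebra.EssFiniteType.subalgebra R C, g (x : C) = τ x := fun x =>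
    IsLocalization.lift_eq _ x
  -- g is local
  have hgloc : (maximalIdeal C).map g ≤ maximalIdeal R := by
    rw [Ideal.map_le_iff_le_comap]
    intro x hx
    rw [Ideal.mem_comap, mem_maximalIdeal, mem_nonunits_iff]
    intro hu
    have hker : RingHom.ker g.toRingHom ≤ maximalIdeal C :=
      le_maximalIdeal (RingHom.ker_ne_top _)
    have h1 : x - algebraMap R C (g x) ∈ RingHom.ker g.toRingHom := by
      rw [RingHom.mem_ker]
      show g (x - algebraMap R C (g x)) = 0
      rw [map_sub, AlgHom.commutes]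
      exact sub_self _
    have h2 : algebraMap R C (g x) ∈ maximalIdeal C := by
      have : algebraMap R C (g x) = x - (x - algebraMap R C (g x)) := by ring
      rw [this]
      exact Ideal.sub_mem _ hx (hker h1)
    exact (mem_maximalIdeal _).1 h2 (hu.map (algebraMap R C))
  obtain ⟨ĝ, hĝ⟩ : ∃ ĝ : AdicCompletion (maximalIdeal C) C →ₐ[R] AdicCompletion (maximalIdeal R) R,
      ĝ = ComplIsoH5.complMap g (maximalIdeal C) (maximalIdeal R) hgloc := ⟨_, rfl⟩
  have hĝof : ∀ c : C, ĝ (AdicCompletion.of (maximalIdeal C) C c) =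
      AdicCompletion.of (maximalIdeal R) R (g c) := by
    intro c; rw [hĝ]; exact ComplIsoH5.complMap_of g _ _ hgloc c
  refine ⟨g, ĝ.toRingHom, RingHom.ext fun c => hĝof c, fun z => ?_⟩
  -- comparison modulo m^(n+1)
  have hα : ∀ c : C, AdicCompletion.evalₐ (maximalIdeal R) (n + 1)
      (g₀ (AdicCompletion.of (maximalIdeal C) C c)) =
      Ideal.Quotient.mk (maximalIdeal R ^ (n + 1)) (g c) := by
    intro c
    obtain ⟨⟨x, s⟩, hxs⟩ := IsLocalization.surj (Algebra.EssFiniteType.submonoid R C) c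
    have hxs' : c * ((s : Algebra.EssFiniteType.subalgebra R C) : C) = (x : C) := hxs
    have h1 : AdicCompletion.evalₐ (maximalIdeal R) (n + 1) (f₀ c) *
        AdicCompletion.evalₐ (maximalIdeal R) (n + 1)
          (f₀ ((s : Algebra.EssFiniteType.subalgebra R C) : C)) =
        AdicCompletion.evalₐ (maximalIdeal R) (n + 1) (f₀ (x : C)) := by
      rw [← map_mul, ← map_mul, hxs']
    rw [← hτ', ← hτ', ← hg_sub, ← hg_sub, ← hxs', map_mul, map_mul] at h1
    have hu : IsUnit (Ideal.Quotient.mk (maximalIdeal R ^ (n + 1))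
        (g ((s : Algebra.EssFiniteType.subalgebra R C) : C))) := by
      rw [hg_sub]
      exact (hτunit s).map _
    exact hu.mul_right_cancel h1
  have hβ : ∀ c : C, AdicCompletion.evalₐ (maximalIdeal R) (n + 1)
      (ĝ (AdicCompletion.of (maximalIdeal C) C c)) =
      Ideal.Quotient.mk (maximalIdeal R ^ (n + 1)) (g c) := by
    intro c
    rw [hĝof, AdicCompletion.evalₐ_of]
  -- both kill `m_C^(n+1) C^`
  have hkill : ∀ (θ : AdicCompletion (maximalIdeal C) C →+* R ⧸ maximalIdeal R ^ (n + 1)),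
      (∀ c : C, θ (AdicCompletion.of (maximalIdeal C) C c) =
        Ideal.Quotient.mk (maximalIdeal R ^ (n + 1)) (g c)) →
      ∀ w ∈ (maximalIdeal C ^ (n + 1)).map
        (algebraMap C (AdicCompletion (maximalIdeal C) C)), θ w = 0 := by
    intro θ hθ w hw
    have hle : (maximalIdeal C ^ (n + 1)).map
        (algebraMap C (AdicCompletion (maximalIdeal C) C)) ≤ RingHom.ker θ := by
      rw [Ideal.map_le_iff_le_comap]
      intro x hx
      rw [Ideal.mem_comap, RingHom.mem_ker]
      show θ (AdicCompletion.of (maximalIdeal C) C x) = 0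
      rw [hθ, Ideal.Quotient.eq_zero_iff_mem]
      exact ComplIsoH5.pow_le_comap g (maximalIdeal C) (maximalIdeal R) hgloc (n + 1) hx
    exact hle hw
  have hfg : (maximalIdeal C).FG := IsNoetherian.noetherian _
  obtain ⟨c, hc⟩ := Ideal.Quotient.mk_surjective
    (AdicCompletion.evalₐ (maximalIdeal C) (n + 1) z)
  have hzc : z - AdicCompletion.of (maximalIdeal C) C c ∈ (maximalIdeal C ^ (n + 1)).map
      (algebraMap C (AdicCompletion (maximalIdeal C) C)) := by
    apply ArtinApxH5.mem_map_of_evalₐ_eq_zero _ hfg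
    rw [map_sub, AdicCompletion.evalₐ_of, hc, sub_self]
  have e1 := hkill ((AdicCompletion.evalₐ (maximalIdeal R) (n + 1)).toRingHom.comp g₀) hα _ hzc
  have e2 := hkill ((AdicCompletion.evalₐ (maximalIdeal R) (n + 1)).toRingHom.comp ĝ.toRingHom)
    hβ _ hzc
  have e3 : AdicCompletion.evalₐ (maximalIdeal R) (n + 1) (ĝ z - g₀ z) = 0 := by
    have e1' : AdicCompletion.evalₐ (maximalIdeal R) (n + 1)
        (g₀ (z - AdicCompletion.of (maximalIdeal C) C c)) = 0 := e1
    have e2' : AdicCompletion.evalₐ (maximalIdeal R) (n + 1)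
        (ĝ (z - AdicCompletion.of (maximalIdeal C) C c)) = 0 := e2
    rw [map_sub, map_sub, hα] at e1'
    rw [map_sub, map_sub, hβ] at e2'
    rw [map_sub]
    rw [sub_eq_zero] at e1' e2'
    rw [e1', e2', sub_self]
  have hfgR : (maximalIdeal R).FG := IsNoetherian.noetherian _
  have h4 := ArtinApxH5.mem_map_of_evalₐ_eq_zero (maximalIdeal R) hfgR (n + 1) _ e3
  exact Ideal.map_mono (Ideal.pow_le_pow_right (Nat.le_succ n)) h4

end Core

section Main

open MvPowerSeries in
theorem main19894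
    (R : Type u) [CommRing R] [IsNoetherianRing R] [IsDomain R] [UniqueFactorizationMonoid R] [HenselianLocalRing R]
    (hR : EGA4.IsExcellent R)
    [IsDomain (AdicCompletion (maximalIdeal R) R)] [UniqueFactorizationMonoid (AdicCompletion (maximalIdeal R) R)]
    (Δ t₁ t₂ : R) (hΔ : Δ ≠ 0) (ht₁ : t₁ ∈ maximalIdeal R) (ht₂ : t₂ ∈ maximalIdeal R) (ht : t₁ * t₂ = Δ)
    (C : Type u) [CommRing C] [IsLocalRing C] [Algebra R C]
    [Algebra.EssFiniteType R C]
    (ψ : AdicCompletion (maximalIdeal C) C ≃+*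
      (MvPowerSeries (Fin 2) (AdicCompletion (maximalIdeal R) R) ⧸
        Ideal.span {(X 0 * X 1 - MvPowerSeries.C (algebraMap R (AdicCompletion (maximalIdeal R) R) Δ) :
          MvPowerSeries (Fin 2) (AdicCompletion (maximalIdeal R) R))}))
    (hψ : ψ.toRingHom.comp ((algebraMap C (AdicCompletion (maximalIdeal C) C)).comp (algebraMap R C)) =
      (Ideal.Quotient.mk _).comp ((MvPowerSeries.C : AdicCompletion (maximalIdeal R) R →+*
        MvPowerSeries (Fin 2) (AdicCompletion (maximalIdeal R) R)).comp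
          (algebraMap R (AdicCompletion (maximalIdeal R) R)))) :
    ∃ (g : C →ₐ[R] R) (ĝ : AdicCompletion (maximalIdeal C) C →+* AdicCompletion (maximalIdeal R) R),
      ĝ.comp (algebraMap C (AdicCompletion (maximalIdeal C) C)) =
        (algebraMap R (AdicCompletion (maximalIdeal R) R)).comp g.toRingHom ∧
      Ideal.span {ĝ (ψ.symm (Ideal.Quotient.mk _ (X 0)))} =
        Ideal.span {algebraMap R (AdicCompletion (maximalIdeal R) R) t₁} ∧
      Ideal.span {ĝ (ψ.symm (Ideal.Quotient.mk _ (X 1)))} =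
        Ideal.span {algebraMap R (AdicCompletion (maximalIdeal R) R) t₂} := by
  classical
  have hG : CAlg.IsGRing R := hR.2.2.1
  have hreg : CAlg.IsRegularHom R (AdicCompletion (maximalIdeal R) R) :=
    GRingIsoH3.isRegularHom_cpl_of_isGRing R hG
  have hH : HenselianRing R (maximalIdeal R) := inferInstance
  have hfg : (maximalIdeal R).FG := IsNoetherian.noetherian _
  haveI : IsNoetherianRing (AdicCompletion (maximalIdeal R) R) :=
    Groth.Agent.S0543.result R (maximalIdeal R)
  obtain ⟨𝔪, h𝔪⟩ : ∃ 𝔪 : Ideal (AdicCompletion (maximalIdeal R) R),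
      𝔪 = (maximalIdeal R).map (algebraMap R (AdicCompletion (maximalIdeal R) R)) := ⟨_, rfl⟩
  haveI : IsAdicComplete 𝔪 (AdicCompletion (maximalIdeal R) R) := by
    rw [h𝔪]; exact AdicCompletion.isAdicComplete_self _ hfg
  have h𝔪rad : 𝔪 ≤ (⊥ : Ideal (AdicCompletion (maximalIdeal R) R)).jacobson :=
    IsAdicComplete.le_jacobson_bot 𝔪
  -- notation for the images
  obtain ⟨τ₁, hτ₁⟩ : ∃ τ₁, τ₁ = algebraMap R (AdicCompletion (maximalIdeal R) R) t₁ := ⟨_, rfl⟩
  obtain ⟨τ₂, hτ₂⟩ : ∃ τ₂, τ₂ = algebraMap R (AdicCompletion (maximalIdeal R) R) t₂ := ⟨_, rfl⟩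
  obtain ⟨δ, hδ⟩ : ∃ δ, δ = algebraMap R (AdicCompletion (maximalIdeal R) R) Δ := ⟨_, rfl⟩
  have hτδ : τ₁ * τ₂ = δ := by rw [hτ₁, hτ₂, hδ, ← map_mul, ht]
  have hτ₁m : τ₁ ∈ 𝔪 := by rw [hτ₁, h𝔪]; exact Ideal.mem_map_of_mem _ ht₁
  have hτ₂m : τ₂ ∈ 𝔪 := by rw [hτ₂, h𝔪]; exact Ideal.mem_map_of_mem _ ht₂
  have hδ0 : δ ≠ 0 := by
    haveI : IsHausdorff (maximalIdeal R) R :=
      IsHausdorff.of_isLocalRing (maximalIdeal R) R (maximalIdeal.isMaximal R).ne_top
    intro h0
    apply hΔ
    apply AdicCompletion.of_injective (maximalIdeal R) R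
    rw [map_zero]
    rw [hδ] at h0
    exact h0
  -- the evaluation map
  obtain ⟨E, hE⟩ := NodeSecH5.exists_eval 𝔪 ![τ₁, τ₂] (by
    intro i
    fin_cases i
    · exact hτ₁m
    · exact hτ₂m)
  have hE0 : E (X 0) = τ₁ := hE 0
  have hE1 : E (X 1) = τ₂ := hE 1
  have hEC : ∀ a, E (MvPowerSeries.C a) = a := by
    intro a
    rw [MvPowerSeries.c_eq_algebraMap, AlgHom.commutes]
    rfl
  obtain ⟨Eb, hEb⟩ : ∃ Eb : (MvPowerSeries (Fin 2) (AdicCompletion (maximalIdeal R) R) ⧸
        Ideal.span {(X 0 * X 1 - MvPowerSeries.C (algebraMap R (AdicCompletion (maximalIdeal R) R) Δ) :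
          MvPowerSeries (Fin 2) (AdicCompletion (maximalIdeal R) R))}) →+*
        AdicCompletion (maximalIdeal R) R, ∀ p, Eb (Ideal.Quotient.mk _ p) = E p := by
    refine ⟨Ideal.Quotient.lift _ E.toRingHom ?_, fun p => Ideal.Quotient.lift_mk _ _ _⟩
    intro p hp
    obtain ⟨q, rfl⟩ := Ideal.mem_span_singleton'.1 hp
    show E (q * (X 0 * X 1 - MvPowerSeries.C (algebraMap R (AdicCompletion (maximalIdeal R) R) Δ))) = 0
    rw [map_mul, map_sub, map_mul, hE0, hE1, hEC, hτδ, hδ, sub_self, mul_zero]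
  -- the formal section
  obtain ⟨g₀, hg₀⟩ : ∃ g₀ : AdicCompletion (maximalIdeal C) C →+* AdicCompletion (maximalIdeal R) R,
      g₀ = Eb.comp ψ.toRingHom := ⟨_, rfl⟩
  have hg₀R : g₀.comp ((algebraMap C (AdicCompletion (maximalIdeal C) C)).comp (algebraMap R C)) =
      algebraMap R (AdicCompletion (maximalIdeal R) R) := by
    rw [hg₀, RingHom.comp_assoc, hψ]
    refine RingHom.ext fun r => ?_
    show Eb (Ideal.Quotient.mk _ (MvPowerSeries.C (algebraMap R (AdicCompletion (maximalIdeal R) R) r))) = _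
    rw [hEb, hEC]
  -- the bound
  obtain ⟨n₀, hn₀⟩ := NodeSecH5.exists_bound_ufd 𝔪 h𝔪rad τ₁ τ₂ (by rw [hτδ]; exact hδ0)
  obtain ⟨g, ĝ, hgĝ, happ⟩ := exists_section_approx R hH hreg C g₀ hg₀R n₀
  refine ⟨g, ĝ, hgĝ, ?_⟩
  have happ' : ∀ z, ĝ z - g₀ z ∈ 𝔪 ^ n₀ := by
    intro z
    have := happ z
    rwa [Ideal.map_pow, ← h𝔪] at this
  have hg₀X : ∀ p, g₀ (ψ.symm (Ideal.Quotient.mk _ p)) = E p := by
    intro p
    rw [hg₀]
    show Eb (ψ (ψ.symm (Ideal.Quotient.mk _ p))) = E p
    rw [RingEquiv.apply_symm_apply, hEb]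
  have hprod : ĝ (ψ.symm (Ideal.Quotient.mk _ (X 0))) * ĝ (ψ.symm (Ideal.Quotient.mk _ (X 1))) =
      τ₁ * τ₂ := by
    rw [← map_mul, ← map_mul, ← map_mul]
    have h1 : (Ideal.Quotient.mk (Ideal.span {(X 0 * X 1 -
        MvPowerSeries.C (algebraMap R (AdicCompletion (maximalIdeal R) R) Δ) :
          MvPowerSeries (Fin 2) (AdicCompletion (maximalIdeal R) R))})) (X 0 * X 1) =
        Ideal.Quotient.mk _ (MvPowerSeries.C (algebraMap R (AdicCompletion (maximalIdeal R) R) Δ)) := by
      rw [Ideal.Quotient.eq]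
      exact Ideal.mem_span_singleton_self _
    rw [h1]
    have h2 : ψ (algebraMap C (AdicCompletion (maximalIdeal C) C) (algebraMap R C Δ)) =
        Ideal.Quotient.mk _ (MvPowerSeries.C (algebraMap R (AdicCompletion (maximalIdeal R) R) Δ)) :=
      RingHom.congr_fun hψ Δ
    rw [← h2, RingEquiv.symm_apply_apply]
    have h3 := RingHom.congr_fun hgĝ (algebraMap R C Δ)
    rw [RingHom.comp_apply] at h3
    rw [h3]
    show algebraMap R (AdicCompletion (maximalIdeal R) R) (g (algebraMap R C Δ)) = _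
    rw [AlgHom.commutes, hτδ, hδ]
    rfl
  have hres := hn₀ _ _ hprod (by
      have := happ' (ψ.symm (Ideal.Quotient.mk _ (X 0)))
      rwa [hg₀X, hE0] at this) (by
      have := happ' (ψ.symm (Ideal.Quotient.mk _ (X 1)))
      rwa [hg₀X, hE1] at this)
  rw [← hτ₁, ← hτ₂]
  exact hres

end Main

end Groth.Agent.Lib.NodeSec2H5
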