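import Mathlib
import Groth.Prelude.Def_DualGr

/-!
# Uniqueness of the thickness ideal of a formal node (helper1)

If `R̂[[x,y]]/(xy-a) ≅ R̂[[x,y]]/(xy-b)` compatibly with `R`, then `aR = bR`.
Proof: reduce modulo `(b) + 𝔪^n`, project the target to the branch `y = 0`
(a one-variable power series ring over `T = R/((b)+𝔪^n)`), and use an elementary
power series lemma; then Krull's intersection theorem.
-/

namespace Groth.Agent.Lib.NodeThickH1

universe u
open IsLocalRing

/-! ### a power series lemma -/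
section LemmaA
variable {T : Type*} [CommRing T]

theorem coeff_one_mul' (A B : PowerSeries T) :
    PowerSeries.coeff 1 (A * B) =
      PowerSeries.coeff 0 A * PowerSeries.coeff 1 B +
        PowerSeries.coeff 1 A * PowerSeries.coeff 0 B := by
  rw [PowerSeries.coeff_mul]
  simp [Finset.Nat.antidiagonal_succ]

/-- If `X` has nilpotent constant term and unit linear term, and `X * W` is a constant, then
`W = 0`. -/
theorem ps_eq_zero_of_mul (X W : PowerSeries T) (n : ℕ)
    (hs : (PowerSeries.coeff 0 X) ^ n = 0) (hc : IsUnit (PowerSeries.coeff 1 X))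
    (h : ∀ k, 1 ≤ k → PowerSeries.coeff k (X * W) = 0) : W = 0 := by
  let 𝔴 : Ideal T := Ideal.span (Set.range fun j => PowerSeries.coeff j W)
  have hw : ∀ j, PowerSeries.coeff j W ∈ 𝔴 := fun j => Ideal.subset_span ⟨j, rfl⟩
  have key : ∀ k, PowerSeries.coeff k W ∈ Ideal.span {PowerSeries.coeff 0 X} * 𝔴 := by
    intro k
    induction k using Nat.strong_induction_on with
    | _ k ih =>
      have hk := h (k + 1) (Nat.le_add_left 1 k)
      rw [PowerSeries.coeff_mul] at hk
      have hmem : (1, k) ∈ Finset.HasAntidiagonal.antidiagonal (k + 1) :=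
        Finset.HasAntidiagonal.mem_antidiagonal.mpr (by show 1 + k = k + 1; omega)
      rw [← Finset.add_sum_erase _ _ hmem] at hk
      have hrest : ∑ p ∈ (Finset.HasAntidiagonal.antidiagonal (k + 1)).erase (1, k),
          PowerSeries.coeff p.1 X * PowerSeries.coeff p.2 W ∈
            Ideal.span {PowerSeries.coeff 0 X} * 𝔴 := by
        refine Ideal.sum_mem _ fun p hp => ?_
        rw [Finset.mem_erase, Finset.HasAntidiagonal.mem_antidiagonal] at hp
        obtain ⟨hne, hsum⟩ := hp
        rcases Nat.lt_or_ge p.1 1 with h0 | h1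
        · have h00 : p.1 = 0 := by omega
          rw [h00]
          exact Ideal.mul_mem_mul (Ideal.mem_span_singleton_self _) (hw _)
        · have hp1 : p.1 ≠ 1 := fun h1' => hne (Prod.ext h1' (by simp only; omega))
          have hlt : p.2 < k := by omega
          exact Ideal.mul_mem_left _ _ (ih p.2 hlt)
      have h2 : PowerSeries.coeff 1 X * PowerSeries.coeff k W ∈
          Ideal.span {PowerSeries.coeff 0 X} * 𝔴 := by
        have h3 := eq_neg_of_add_eq_zero_left hk
        simp only at h3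
        rw [h3]; exact neg_mem hrest
      obtain ⟨u, hu⟩ := hc
      have h4 : PowerSeries.coeff k W =
          ↑u⁻¹ * (PowerSeries.coeff 1 X * PowerSeries.coeff k W) := by
        rw [← hu, ← mul_assoc, Units.inv_mul, one_mul]
      rw [h4]; exact Ideal.mul_mem_left _ _ h2
  have hle : 𝔴 ≤ Ideal.span {PowerSeries.coeff 0 X} * 𝔴 :=
    Ideal.span_le.mpr (by rintro _ ⟨j, rfl⟩; exact key j)
  have hpow : ∀ t : ℕ, 𝔴 ≤ Ideal.span {PowerSeries.coeff 0 X} ^ t * 𝔴 := by
    intro t
    induction t with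
    | zero => simp
    | succ t ih =>
      calc 𝔴 ≤ Ideal.span {PowerSeries.coeff 0 X} * 𝔴 := hle
        _ ≤ Ideal.span {PowerSeries.coeff 0 X} * (Ideal.span {PowerSeries.coeff 0 X} ^ t * 𝔴) :=
            Ideal.mul_mono_right ih
        _ = Ideal.span {PowerSeries.coeff 0 X} ^ (t + 1) * 𝔴 := by rw [← mul_assoc, ← pow_succ']
  have hbot : 𝔴 = ⊥ := by
    have h5 := hpow n
    rw [Ideal.span_singleton_pow, hs, Ideal.span_singleton_eq_bot.mpr rfl, Ideal.bot_mul] at h5
    exact le_bot_iff.mp h5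
  ext j
  have h6 := hw j
  rw [hbot, Ideal.mem_bot] at h6
  rw [h6, map_zero]

end LemmaA

/-! ### restriction to the first variable and a decomposition -/
section Restr
variable {T : Type*} [CommRing T]

/-- restriction of a power series in two variables to the first variable (second ↦ 0). -/
noncomputable def restr0 : MvPowerSeries (Fin 2) T →+* PowerSeries T where
  toFun f := PowerSeries.mk fun i => MvPowerSeries.coeff (Finsupp.single 0 i) f
  map_one' := by
    ext i
    simp [PowerSeries.coeff_mk, MvPowerSeries.coeff_one, PowerSeries.coeff_one,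
      Finsupp.single_eq_zero]
  map_mul' f g := by
    ext i
    rw [PowerSeries.coeff_mk, PowerSeries.coeff_mul, MvPowerSeries.coeff_mul,
      Finsupp.antidiagonal_single, Finset.sum_map]
    refine Finset.sum_congr rfl fun p _ => ?_
    simp [PowerSeries.coeff_mk]
  map_zero' := by ext i; simp
  map_add' f g := by ext i; simp

theorem coeff_restr0 (f : MvPowerSeries (Fin 2) T) (i : ℕ) :
    PowerSeries.coeff i (restr0 f) = MvPowerSeries.coeff (Finsupp.single 0 i) f := by
  simp [restr0, PowerSeries.coeff_mk]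

theorem restr0_C (c : T) : restr0 (MvPowerSeries.C c) = PowerSeries.C c := by
  ext i
  rw [coeff_restr0, MvPowerSeries.coeff_C, PowerSeries.coeff_C]
  simp [Finsupp.single_eq_zero]

theorem restr0_X0 : restr0 (MvPowerSeries.X 0 : MvPowerSeries (Fin 2) T) = PowerSeries.X := by
  ext i
  rw [coeff_restr0, MvPowerSeries.coeff_X, PowerSeries.coeff_X]
  have h : Finsupp.single (0 : Fin 2) i = Finsupp.single 0 1 ↔ i = 1 :=
    (Finsupp.single_injective 0).eq_iff
  simp only [h]

theorem restr0_X1 : restr0 (MvPowerSeries.X 1 : MvPowerSeries (Fin 2) T) = 0 := by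
  ext i
  rw [coeff_restr0, MvPowerSeries.coeff_X, if_neg, map_zero]
  intro h
  have h1 := DFunLike.congr_fun h 1
  simp at h1

theorem decomp (G : MvPowerSeries (Fin 2) T) :
    ∃ G₁ G₂ : MvPowerSeries (Fin 2) T,
      G = MvPowerSeries.C (MvPowerSeries.constantCoeff G) + MvPowerSeries.X 0 * G₁ +
        MvPowerSeries.X 1 * G₂ := by
  classical
  let G₁ : MvPowerSeries (Fin 2) T := fun m => MvPowerSeries.coeff (m + Finsupp.single 0 1) G
  let G₂ : MvPowerSeries (Fin 2) T :=
    fun m => if m 0 = 0 then MvPowerSeries.coeff (m + Finsupp.single 1 1) G else 0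
  have hG₁ : ∀ m, MvPowerSeries.coeff m G₁ = MvPowerSeries.coeff (m + Finsupp.single 0 1) G :=
    fun m => rfl
  have hG₂ : ∀ m, MvPowerSeries.coeff m G₂ =
      if m 0 = 0 then MvPowerSeries.coeff (m + Finsupp.single 1 1) G else 0 := fun m => rfl
  refine ⟨G₁, G₂, ?_⟩
  ext m
  rw [map_add, map_add, MvPowerSeries.coeff_C, MvPowerSeries.X_def, MvPowerSeries.X_def,
    MvPowerSeries.coeff_monomial_mul, MvPowerSeries.coeff_monomial_mul, hG₁, hG₂]
  simp only [one_mul, Finsupp.single_le_iff]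
  by_cases h0 : 1 ≤ m 0
  · have hm : m ≠ 0 := fun h => by rw [h] at h0; simp at h0
    have hsub : m - Finsupp.single 0 1 + Finsupp.single 0 1 = m :=
      tsub_add_cancel_of_le (Finsupp.single_le_iff.mpr h0)
    rw [if_neg hm, if_pos h0, hsub, zero_add]
    by_cases h1 : 1 ≤ m 1
    · have h2 : ¬ (m - Finsupp.single 1 1 : Fin 2 →₀ ℕ) 0 = 0 := by
        rw [Finsupp.tsub_apply, Finsupp.single_apply]; simp; omega
      rw [if_pos h1, if_neg h2, add_zero]
    · rw [if_neg h1, add_zero]
  · have hm0 : m 0 = 0 := by omega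
    rw [if_neg h0, add_zero]
    by_cases h1 : 1 ≤ m 1
    · have hm : m ≠ 0 := fun h => by rw [h] at h1; simp at h1
      have hsub : m - Finsupp.single 1 1 + Finsupp.single 1 1 = m :=
        tsub_add_cancel_of_le (Finsupp.single_le_iff.mpr h1)
      have h2 : (m - Finsupp.single 1 1 : Fin 2 →₀ ℕ) 0 = 0 := by
        rw [Finsupp.tsub_apply, Finsupp.single_apply]; simp [hm0]
      rw [if_neg hm, if_pos h1, zero_add, if_pos h2, hsub]
    · have hm : m = 0 := by
        ext i; fin_cases i <;> simp <;> omega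
      rw [if_pos hm, if_neg h1, add_zero, hm, MvPowerSeries.coeff_zero_eq_constantCoeff_apply]

end Restr

/-! ### Krull -/
section Krull
variable {R : Type u} [CommRing R] [IsLocalRing R] [IsNoetherianRing R]

theorem mem_of_forall_mem_sup_pow (J : Ideal R) (a : R)
    (h : ∀ n : ℕ, a ∈ J ⊔ maximalIdeal R ^ n) : a ∈ J := by
  have hK := Ideal.iInf_pow_smul_eq_bot_of_isLocalRing (M := R ⧸ J) (maximalIdeal R)
    (Ideal.IsPrime.ne_top inferInstance)
  have hmem : (Ideal.Quotient.mk J a : R ⧸ J) ∈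
      (⨅ i : ℕ, maximalIdeal R ^ i • ⊤ : Submodule R (R ⧸ J)) := by
    rw [Submodule.mem_iInf]
    intro n
    obtain ⟨j, hj, m, hm, hjm⟩ := Submodule.mem_sup.mp (h n)
    have h1 : (Ideal.Quotient.mk J a : R ⧸ J) = m • (1 : R ⧸ J) := by
      rw [← hjm, map_add, Ideal.Quotient.eq_zero_iff_mem.mpr hj, zero_add, Algebra.smul_def,
        mul_one]
      rfl
    rw [h1]
    exact Submodule.smul_mem_smul hm Submodule.mem_top
  rw [hK, Submodule.mem_bot] at hmem
  exact Ideal.Quotient.eq_zero_iff_mem.mp hmem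

end Krull

/-! ### the main argument -/
section Main
variable {R : Type u} [CommRing R] [IsLocalRing R] [IsNoetherianRing R] (a b : R) (n : ℕ)

/-- the ideal `(b) + 𝔪^n` -/
abbrev Jn : Ideal R := Ideal.span {b} ⊔ maximalIdeal R ^ n

/-- `R / ((b) + 𝔪^n)` -/
abbrev Tn : Type u := R ⧸ Jn b n

/-- the image of the maximal ideal in `Tn` -/
abbrev nT : Ideal (Tn b n) := (maximalIdeal R).map (Ideal.Quotient.mk (Jn b n))

/-- the quotient map from the node ring's power series ring -/
noncomputable abbrev mkN (c : R) :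
    MvPowerSeries (Fin 2) (Curv2.cpl R) →+* DualGr.nodeRing R c :=
  Ideal.Quotient.mk _

/-- reduction `R̂ → R/((b)+𝔪^n)` -/
noncomputable def q : Curv2.cpl R →+* Tn b n :=
  (Ideal.Quotient.factor (le_sup_right : maximalIdeal R ^ n ≤ Jn b n)).comp
    (AdicCompletion.evalₐ (maximalIdeal R) n).toRingHom

theorem q_apply (x : Curv2.cpl R) :
    q b n x = Ideal.Quotient.factor (le_sup_right : maximalIdeal R ^ n ≤ Jn b n)
      (AdicCompletion.evalₐ (maximalIdeal R) n x) := rfl

theorem q_alg (r : R) : q b n (algebraMap R (Curv2.cpl R) r) = Ideal.Quotient.mk _ r := by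
  rw [q_apply, AlgHom.commutes]
  rfl

theorem q_eq_zero (e : Curv2.cpl R) (he : AdicCompletion.evalₐ (maximalIdeal R) n e = 0) :
    q b n e = 0 := by
  rw [q_apply, he, map_zero]

theorem mk_b : (Ideal.Quotient.mk (Jn b n) b) = 0 :=
  Ideal.Quotient.eq_zero_iff_mem.mpr (Ideal.mem_sup_left (Ideal.mem_span_singleton_self b))

theorem mk_pow {r : R} (hr : r ∈ maximalIdeal R ^ n) : (Ideal.Quotient.mk (Jn b n) r) = 0 :=
  Ideal.Quotient.eq_zero_iff_mem.mpr (Ideal.mem_sup_right hr)

theorem nT_nil {t : Tn b n} (ht : t ∈ nT b n) : t ^ n = 0 := by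
  have h1 : t ^ n ∈ (nT b n) ^ n := Ideal.pow_mem_pow ht n
  rw [← Ideal.map_pow] at h1
  have hle : (maximalIdeal R ^ n).map (Ideal.Quotient.mk (Jn b n)) ≤ ⊥ := by
    rw [Ideal.map_le_iff_le_comap]
    intro x hx
    exact Ideal.mem_comap.mpr (Ideal.mem_bot.mpr (mk_pow b n hx))
  exact Ideal.mem_bot.mp (hle h1)

theorem isUnit_of_notMem {t : Tn b n} (ht : t ∉ nT b n) : IsUnit t := by
  obtain ⟨r, rfl⟩ := Ideal.Quotient.mk_surjective t
  have hr : IsUnit r := by
    by_contra hnu
    exact ht (Ideal.mem_map_of_mem _ ((IsLocalRing.mem_maximalIdeal r).mpr hnu))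
  exact hr.map _

/-- projection of the power series ring to the branch `y = 0` over `Tn` -/
noncomputable def π0 : MvPowerSeries (Fin 2) (Curv2.cpl R) →+* PowerSeries (Tn b n) :=
  restr0.comp (MvPowerSeries.map (q b n))

theorem π0_C (c : Curv2.cpl R) : π0 b n (MvPowerSeries.C c) = PowerSeries.C (q b n c) := by
  rw [π0, RingHom.comp_apply, MvPowerSeries.map_C, restr0_C]

theorem π0_X0 : π0 b n (MvPowerSeries.X 0) = PowerSeries.X := by
  rw [π0, RingHom.comp_apply, MvPowerSeries.map_X, restr0_X0]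

theorem π0_X1 : π0 b n (MvPowerSeries.X 1) = 0 := by
  rw [π0, RingHom.comp_apply, MvPowerSeries.map_X, restr0_X1]

/-- projection of the node ring of `b` to the branch `y = 0` over `Tn` -/
noncomputable def πu : DualGr.nodeRing R b →+* PowerSeries (Tn b n) :=
  Ideal.Quotient.lift _ (π0 b n) (by
    intro f hf
    obtain ⟨g, rfl⟩ := Ideal.mem_span_singleton'.mp hf
    rw [map_mul, map_sub, map_mul, π0_X0, π0_X1, π0_C, q_alg, mk_b, map_zero, mul_zero,
      sub_zero, mul_zero])

theorem πu_mk (f : MvPowerSeries (Fin 2) (Curv2.cpl R)) : πu b n (mkN b f) = π0 b n f :=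
  Ideal.Quotient.lift_mk _ _ _

variable (Θ : DualGr.nodeRing R a ≃+* DualGr.nodeRing R b)

/-- the composite `N_a ≅ N_b → Tn[[u]]` -/
noncomputable def ψ : DualGr.nodeRing R a →+* PowerSeries (Tn b n) :=
  (πu b n).comp Θ.toRingHom

theorem ψ_apply (z : DualGr.nodeRing R a) : ψ a b n Θ z = πu b n (Θ z) := rfl

variable (hΘ : ∀ r : R, Θ (mkN a (MvPowerSeries.C (algebraMap R (Curv2.cpl R) r))) =
      mkN b (MvPowerSeries.C (algebraMap R (Curv2.cpl R) r)))

include hΘ in
theorem ψ_alg (r : R) :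
    ψ a b n Θ (mkN a (MvPowerSeries.C (algebraMap R (Curv2.cpl R) r))) =
      PowerSeries.C (Ideal.Quotient.mk (Jn b n) r) := by
  rw [ψ_apply, hΘ, πu_mk, π0_C, q_alg]

include hΘ in
theorem ψ_C (g : Curv2.cpl R) :
    ψ a b n Θ (mkN a (MvPowerSeries.C g)) = PowerSeries.C (q b n g) := by
  obtain ⟨r, hr⟩ := Ideal.Quotient.mk_surjective (AdicCompletion.evalₐ (maximalIdeal R) n g)
  obtain ⟨e, he⟩ : ∃ e, e = g - algebraMap R (Curv2.cpl R) r := ⟨_, rfl⟩
  have hev : AdicCompletion.evalₐ (maximalIdeal R) n e = 0 := by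
    rw [he, map_sub, AlgHom.commutes, ← hr, sub_eq_zero]
    rfl
  have he2 : e ∈ (maximalIdeal R ^ n • ⊤ : Submodule R (Curv2.cpl R)) := by
    rw [AdicCompletion.pow_smul_top_eq_ker_eval (maximalIdeal R).fg_of_isNoetherianRing,
      LinearMap.mem_ker]
    have h1 := AdicCompletion.factor_evalₐ_eq_eval (I := maximalIdeal R) (n := n) e (by simp)
    rw [hev, map_zero] at h1
    exact h1.symm
  have hΨe : ψ a b n Θ (mkN a (MvPowerSeries.C e)) = 0 := by
    refine Submodule.smul_induction_on he2 (fun r hr s _ => ?_) (fun x y hx hy => ?_)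
    · rw [Algebra.smul_def, map_mul, map_mul, map_mul, ψ_alg a b n Θ hΘ, mk_pow b n hr, map_zero,
        zero_mul]
    · rw [map_add, map_add, map_add, hx, hy, add_zero]
  have hg : g = algebraMap R (Curv2.cpl R) r + e := by rw [he]; ring
  rw [hg, map_add, map_add, map_add, ψ_alg a b n Θ hΘ, hΨe, map_add, q_alg, q_eq_zero b n e hev,
    add_zero, add_zero]

include hΘ in
theorem ψ_prod :
    ψ a b n Θ (mkN a (MvPowerSeries.X 0)) * ψ a b n Θ (mkN a (MvPowerSeries.X 1)) =
      PowerSeries.C (Ideal.Quotient.mk (Jn b n) a) := by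
  rw [← map_mul, ← map_mul]
  have h1 : mkN a (MvPowerSeries.X 0 * MvPowerSeries.X 1) =
      mkN a (MvPowerSeries.C (algebraMap R (Curv2.cpl R) a)) :=
    Ideal.Quotient.eq.mpr (Ideal.mem_span_singleton_self _)
  rw [h1, ψ_alg a b n Θ hΘ]

include hΘ in
theorem ψ_const_mem (F : MvPowerSeries (Fin 2) (Curv2.cpl R))
    (hF : MvPowerSeries.constantCoeff F = 0) :
    PowerSeries.constantCoeff (ψ a b n Θ (mkN a F)) ∈ nT b n := by
  by_contra hnot
  obtain ⟨r₀, hr₀⟩ := Ideal.Quotient.mk_surjective (PowerSeries.constantCoeff (ψ a b n Θ (mkN a F)))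
  have hr₀u : IsUnit r₀ := by
    by_contra hnu
    apply hnot
    rw [← hr₀]
    exact Ideal.mem_map_of_mem _ ((IsLocalRing.mem_maximalIdeal r₀).mpr hnu)
  obtain ⟨u, rfl⟩ := hr₀u
  have hunit : IsUnit (1 + F * MvPowerSeries.C (algebraMap R (Curv2.cpl R) (-(↑u⁻¹ : R)))) := by
    rw [MvPowerSeries.isUnit_iff_constantCoeff, map_add, map_mul, hF, zero_mul, add_zero, map_one]
    exact isUnit_one
  have h2 := ((hunit.map (mkN a)).map (ψ a b n Θ)).map (PowerSeries.constantCoeff (R := Tn b n))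
  rw [map_add, map_add, map_add, map_mul, map_mul, map_mul, map_one, map_one, map_one,
    ψ_alg a b n Θ hΘ, PowerSeries.constantCoeff_C, ← hr₀, ← map_mul, ← map_one
      (Ideal.Quotient.mk (Jn b n)), ← map_add] at h2
  have h3 : (1 : R) + ↑u * -(↑u⁻¹ : R) = 0 := by
    rw [mul_neg, Units.mul_inv, add_neg_cancel]
  rw [h3, map_zero, isUnit_zero_iff] at h2
  apply hnot
  have hsub : Subsingleton (Tn b n) := subsingleton_of_zero_eq_one h2
  rw [Subsingleton.elim (PowerSeries.constantCoeff (ψ a b n Θ (mkN a F))) 0]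
  exact zero_mem _

include hΘ in
theorem mem_sup_pow : a ∈ Ideal.span {b} ⊔ maximalIdeal R ^ n := by
  -- notation
  obtain ⟨Xu, hXu⟩ : ∃ Xu, Xu = ψ a b n Θ (mkN a (MvPowerSeries.X 0)) := ⟨_, rfl⟩
  obtain ⟨Yu, hYu⟩ : ∃ Yu, Yu = ψ a b n Θ (mkN a (MvPowerSeries.X 1)) := ⟨_, rfl⟩
  have hprod : Xu * Yu = PowerSeries.C (Ideal.Quotient.mk (Jn b n) a) := by
    rw [hXu, hYu]; exact ψ_prod a b n Θ hΘ
  have hs : PowerSeries.coeff 0 Xu ∈ nT b n := by
    rw [PowerSeries.coeff_zero_eq_constantCoeff_apply, hXu]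
    exact ψ_const_mem a b n Θ hΘ _ (MvPowerSeries.constantCoeff_X 0)
  have hs' : PowerSeries.coeff 0 Yu ∈ nT b n := by
    rw [PowerSeries.coeff_zero_eq_constantCoeff_apply, hYu]
    exact ψ_const_mem a b n Θ hΘ _ (MvPowerSeries.constantCoeff_X 1)
  -- the element hitting `u`
  obtain ⟨G, hG⟩ := Ideal.Quotient.mk_surjective (Θ.symm (mkN b (MvPowerSeries.X 0)))
  obtain ⟨G₁, G₂, hdec⟩ := decomp G
  have hψG : ψ a b n Θ (mkN a G) = PowerSeries.X := by
    have hG' : mkN a G = Θ.symm (mkN b (MvPowerSeries.X 0)) := hG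
    rw [ψ_apply, hG', Θ.apply_symm_apply, πu_mk, π0_X0]
  have hexp : ψ a b n Θ (mkN a G) =
      PowerSeries.C (q b n (MvPowerSeries.constantCoeff G)) + Xu * ψ a b n Θ (mkN a G₁) +
        Yu * ψ a b n Θ (mkN a G₂) := by
    conv_lhs => rw [hdec]
    rw [map_add, map_add, map_add, map_add, map_mul, map_mul, map_mul, map_mul,
      ψ_C a b n Θ hΘ, hXu, hYu]
  have h1 := congrArg (PowerSeries.coeff 1) (hψG.symm.trans hexp)
  rw [map_add, map_add, coeff_one_mul', coeff_one_mul', PowerSeries.coeff_one_X,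
    PowerSeries.coeff_C, if_neg one_ne_zero, zero_add] at h1
  have hfin : Ideal.Quotient.mk (Jn b n) a = 0 := by
    by_cases hc1 : PowerSeries.coeff 1 Xu ∈ nT b n
    · by_cases hc2 : PowerSeries.coeff 1 Yu ∈ nT b n
      · -- then `1 ∈ nT`, so `Tn` is trivial
        have h1mem : (1 : Tn b n) ∈ nT b n := by
          rw [h1]
          exact add_mem (add_mem (Ideal.mul_mem_right _ _ hs) (Ideal.mul_mem_right _ _ hc1))
            (add_mem (Ideal.mul_mem_right _ _ hs') (Ideal.mul_mem_right _ _ hc2))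
        have h10 := nT_nil b n h1mem
        rw [one_pow] at h10
        rw [← mul_one (Ideal.Quotient.mk (Jn b n) a), h10, mul_zero]
      · have hY : Xu = 0 := by
          refine ps_eq_zero_of_mul Yu Xu n (nT_nil b n hs') (isUnit_of_notMem b n hc2) ?_
          intro k hk
          rw [mul_comm, hprod, PowerSeries.coeff_C, if_neg (by omega)]
        have h5 := congrArg (PowerSeries.coeff 0) hprod
        rw [hY, zero_mul, map_zero, PowerSeries.coeff_zero_C] at h5
        exact h5.symm
    · have hY : Yu = 0 := by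
        refine ps_eq_zero_of_mul Xu Yu n (nT_nil b n hs) (isUnit_of_notMem b n hc1) ?_
        intro k hk
        rw [hprod, PowerSeries.coeff_C, if_neg (by omega)]
      have h5 := congrArg (PowerSeries.coeff 0) hprod
      rw [hY, mul_zero, map_zero, PowerSeries.coeff_zero_C] at h5
      exact h5.symm
  exact Ideal.Quotient.eq_zero_iff_mem.mp hfin

end Main

/-- **Main result**: the thickness ideal of a formal node is unique. -/
theorem main17737 {R A : Type u} [CommRing R] [IsLocalRing R] [IsNoetherianRing R] [CommRing A]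
    [IsLocalRing A] (φ : R →+* A) (a b : R)
    (h₁ : DualGr.IsThickNode φ a) (h₂ : DualGr.IsThickNode φ b) :
    Ideal.span {a} = Ideal.span {b} := by
  obtain ⟨e₁, he₁⟩ := h₁
  obtain ⟨e₂, he₂⟩ := h₂
  apply le_antisymm
  · rw [Ideal.span_singleton_le_iff_mem]
    refine mem_of_forall_mem_sup_pow _ _ fun n => ?_
    refine mem_sup_pow a b n (e₁.symm.trans e₂) (fun r => ?_)
    show e₂ (e₁.symm _) = _
    rw [← he₁ r, e₁.symm_apply_apply, he₂ r]
  · rw [Ideal.span_singleton_le_iff_mem]
    refine mem_of_forall_mem_sup_pow _ _ fun n => ?_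
    refine mem_sup_pow b a n (e₂.symm.trans e₁) (fun r => ?_)
    show e₁ (e₂.symm _) = _
    rw [← he₂ r, e₂.symm_apply_apply, he₁ r]

end Groth.Agent.Lib.NodeThickH1
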