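import Mathlib
import Groth.Agent.Lib.KrullAkizuki4_helper6

/-!
# Noetherianity of overrings of a reduced one-dimensional Noetherian ring containing all
idempotents of the total ring of fractions (helper8)
-/

set_option autoImplicit false
universe u

namespace Groth.Agent.Lib.NoethICH8

open IsLocalRing

section

variable {T : Type u} [CommRing T] (Rb C : Subring T)

/-- `T` is the localization of `Rb` at a unit `ϖ` of `T`. -/
theorem isNoetherianRing_of_frac [IsNoetherianRing Rb] (ϖ : T) (hϖR : ϖ ∈ Rb) (hϖu : IsUnit ϖ)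
    (hfrac : ∀ y : T, ∃ n : ℕ, ϖ ^ n * y ∈ Rb) : IsNoetherianRing T := by
  haveI : IsLocalization (Submonoid.powers (⟨ϖ, hϖR⟩ : Rb)) T :=
    { map_units := by
        rintro ⟨y, n, rfl⟩
        show IsUnit (algebraMap Rb T ((⟨ϖ, hϖR⟩ : Rb) ^ n))
        rw [map_pow]
        exact hϖu.pow n
      surj := by
        intro z
        obtain ⟨n, hn⟩ := hfrac z
        refine ⟨(⟨ϖ ^ n * z, hn⟩, ⟨(⟨ϖ, hϖR⟩ : Rb) ^ n, n, rfl⟩), ?_⟩
        show z * algebraMap Rb T ((⟨ϖ, hϖR⟩ : Rb) ^ n) = ϖ ^ n * z
        rw [map_pow, mul_comm]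
        rfl
      exists_of_eq := by
        intro x y hxy
        exact ⟨1, by rw [Subtype.ext hxy]⟩ }
  exact IsLocalization.isNoetherianRing (Submonoid.powers (⟨ϖ, hϖR⟩ : Rb)) T inferInstance

end


section field

variable {F : Type u} [Field F] (R₀ C₀ : Subring F)

/-- Krull–Akizuki for subrings of a field: if `R₀` is a Noetherian subring of dimension at most
one whose fraction field is `F`, every subring containing `R₀` is Noetherian. -/
theorem isNoetherianRing_of_le_field [IsNoetherianRing R₀] (hdim : ringKrullDim R₀ ≤ 1)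
    (hfrac : ∀ z : F, ∃ x y : R₀, z = (x : F) / (y : F)) (hle : R₀ ≤ C₀) :
    IsNoetherianRing C₀ := by
  haveI : IsFractionRing R₀ F := IsFractionRing.of_field (R := R₀) (K := F) hfrac
  letI : Algebra R₀ C₀ := (Subring.inclusion hle).toAlgebra
  haveI : IsScalarTower R₀ C₀ F := IsScalarTower.of_algebraMap_eq (fun _ => rfl)
  exact KA.krull_akizuki (R := R₀) F F (A := C₀) hdim Subtype.val_injective

end field

section main

variable {T : Type u} [CommRing T] [IsReduced T] (Rb C : Subring T)

set_option maxHeartbeats 1600000 in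
/-- If `Rb ⊆ T` is Noetherian of dimension at most one, `T = Rb[1/ϖ]` is zero-dimensional and
reduced, then every subring `C ⊇ Rb` of `T` containing all idempotents of `T` is Noetherian. -/
theorem isNoetherianRing_of_idem [IsNoetherianRing Rb] (hdim : ringKrullDim Rb ≤ 1)
    (ϖ : T) (hϖR : ϖ ∈ Rb) (hϖu : IsUnit ϖ) (hfrac : ∀ y : T, ∃ n : ℕ, ϖ ^ n * y ∈ Rb)
    [Ring.KrullDimLE 0 T] (hRC : Rb ≤ C) (hidem : ∀ e : T, e * e = e → e ∈ C) :
    IsNoetherianRing C := by
  classical
  haveI : IsNoetherianRing T := isNoetherianRing_of_frac Rb ϖ hϖR hϖu hfrac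
  haveI : IsArtinianRing T := isArtinianRing_iff_isNoetherianRing_krullDimLE_zero.mpr
    ⟨inferInstance, inferInstance⟩
  haveI : Finite (MaximalSpectrum T) := inferInstance
  haveI : Fintype (MaximalSpectrum T) := Fintype.ofFinite _
  -- the images in the residue fields
  let Rm : ∀ m : MaximalSpectrum T, Subring (T ⧸ m.asIdeal) := fun m =>
    ((Ideal.Quotient.mk m.asIdeal).comp Rb.subtype).range
  let Cm : ∀ m : MaximalSpectrum T, Subring (T ⧸ m.asIdeal) := fun m =>
    ((Ideal.Quotient.mk m.asIdeal).comp C.subtype).range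
  have hCm : ∀ m, IsNoetherianRing (Cm m) := by
    intro m
    letI : Field (T ⧸ m.asIdeal) := Ideal.Quotient.field m.asIdeal
    have hsurj : Function.Surjective ((Ideal.Quotient.mk m.asIdeal).comp Rb.subtype).rangeRestrict :=
      RingHom.rangeRestrict_surjective _
    haveI : IsNoetherianRing (Rm m) := isNoetherianRing_of_surjective Rb _ _ hsurj
    have hdimm : ringKrullDim (Rm m) ≤ 1 := (ringKrullDim_le_of_surjective _ hsurj).trans hdim
    refine isNoetherianRing_of_le_field (Rm m) (Cm m) hdimm ?_ ?_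
    · intro z
      obtain ⟨y, rfl⟩ := Ideal.Quotient.mk_surjective z
      obtain ⟨n, hn⟩ := hfrac y
      refine ⟨⟨Ideal.Quotient.mk m.asIdeal (ϖ ^ n * y), ⟨⟨_, hn⟩, rfl⟩⟩,
        ⟨Ideal.Quotient.mk m.asIdeal (ϖ ^ n), ⟨⟨_, Rb.pow_mem hϖR n⟩, rfl⟩⟩, ?_⟩
      have hu : IsUnit (Ideal.Quotient.mk m.asIdeal (ϖ ^ n)) := (hϖu.pow n).map _
      show _ = Ideal.Quotient.mk m.asIdeal (ϖ ^ n * y) / Ideal.Quotient.mk m.asIdeal (ϖ ^ n)
      rw [map_mul, mul_div_assoc, mul_comm, div_mul_cancel₀ _ hu.ne_zero]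
    · rintro _ ⟨x, rfl⟩
      exact ⟨⟨x, hRC x.2⟩, rfl⟩
  haveI : ∀ m, IsNoetherianRing (Cm m) := hCm
  -- the product decomposition
  let ε := IsArtinianRing.equivPi T
  let Φ : C →+* ∀ m : MaximalSpectrum T, Cm m :=
    RingHom.pi (fun m => ((Ideal.Quotient.mk m.asIdeal).comp C.subtype).rangeRestrict)
  have hΦinj : Function.Injective Φ := by
    intro x y hxy
    apply Subtype.ext
    apply ε.injective
    funext m
    have := congrArg Subtype.val (congrFun hxy m)
    exact this
  have hΦsurj : Function.Surjective Φ := by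
    intro c
    choose x hx using fun m => (c m).2
    -- idempotents
    let e : MaximalSpectrum T → T := fun m => ε.symm (Pi.single m 1)
    have he : ∀ m, e m * e m = e m := fun m => by
      show ε.symm _ * ε.symm _ = ε.symm _
      rw [← map_mul, ← Pi.single_mul, one_mul]
    have hem : ∀ m m', Ideal.Quotient.mk m'.asIdeal (e m) = if m = m' then 1 else 0 := by
      intro m m'
      have h1 : ε (e m) m' = (Pi.single m 1 : ∀ k : MaximalSpectrum T, T ⧸ k.asIdeal) m' := by
        show ε (ε.symm _) m' = _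
        rw [AlgEquiv.apply_symm_apply]
      rw [IsArtinianRing.equivPi_apply] at h1
      rw [h1]
      by_cases hmm : m = m'
      · subst hmm; simp
      · rw [if_neg hmm, Pi.single_eq_of_ne (Ne.symm hmm)]
    let z : C := ∑ m, (⟨e m, hidem _ (he m)⟩ : C) * x m
    refine ⟨z, ?_⟩
    funext m'
    apply Subtype.ext
    show Ideal.Quotient.mk m'.asIdeal ((z : C) : T) = (c m' : T ⧸ m'.asIdeal)
    have hz : ((z : C) : T) = ∑ m, e m * (x m : T) := by
      simp only [z]
      rw [AddSubmonoidClass.coe_finsetSum]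
      rfl
    rw [hz, map_sum]
    simp only [map_mul, hem]
    rw [Finset.sum_eq_single m']
    · rw [if_pos rfl, one_mul]
      exact hx m'
    · intro m _ hmm
      rw [if_neg hmm, zero_mul]
    · intro h; exact absurd (Finset.mem_univ m') h
  exact isNoetherianRing_of_ringEquiv _ (RingEquiv.ofBijective Φ ⟨hΦinj, hΦsurj⟩).symm

end main

end Groth.Agent.Lib.NoethICH8
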