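import Mathlib
import Groth.Agent.Lib.NoethIC1_helper8
import Groth.Agent.Lib.IntegralHeight_helper5

/-!
# Noetherianity of the integral closure of an essentially finite type DVR extension in
`(L ⊗_K K')_red` (helper8)
-/

set_option autoImplicit false
universe u

namespace Groth.Agent.Lib.NoethICH8

open TensorProduct

/-- In a DVR, every nonzero element divides a power of any nonunit. -/
theorem exists_dvd_pow {B : Type u} [CommRing B] [IsDomain B] [IsDiscreteValuationRing B]
    (p s : B) (hp : ¬ IsUnit p) (hs : s ≠ 0) : ∃ n : ℕ, s ∣ p ^ n := by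
  obtain ⟨ϖ, hϖ⟩ := IsDiscreteValuationRing.exists_irreducible B
  obtain ⟨m, u, rfl⟩ := IsDiscreteValuationRing.eq_unit_mul_pow_irreducible hs hϖ
  have hpϖ : ϖ ∣ p := by
    have : p ∈ IsLocalRing.maximalIdeal B := (IsLocalRing.mem_maximalIdeal p).mpr hp
    rw [hϖ.maximalIdeal_eq, Ideal.mem_span_singleton] at this
    exact this
  refine ⟨m, ?_⟩
  exact (Units.mul_left_dvd).mpr (pow_dvd_pow_of_dvd hpϖ m)

/-- A commutative ring integral over a field has Krull dimension zero. -/
theorem krullDimLE_zero_of_isIntegral_field (F T : Type u) [Field F] [CommRing T] [Algebra F T]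
    [Algebra.IsIntegral F T] : Ring.KrullDimLE 0 T := by
  rw [Ring.krullDimLE_zero_iff]
  intro P hP
  refine Ideal.isMaximal_of_isIntegral_of_isMaximal_comap (R := F) P ?_
  haveI : (P.comap (algebraMap F T)).IsPrime := Ideal.comap_isPrime _ P
  have : P.comap (algebraMap F T) = ⊥ := by
    rcases Ideal.eq_bot_or_top (P.comap (algebraMap F T)) with h | h
    · exact h
    · exact absurd h (Ideal.IsPrime.ne_top inferInstance)
  rw [this]
  exact Ideal.bot_isMaximal


set_option maxHeartbeats 1600000 in
/-- Main theorem: the integral closure of `B` in `L' = (L ⊗_K K')_red` is Noetherian. -/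
theorem main (A B K L : Type u) [CommRing A] [IsDomain A]
    [IsDiscreteValuationRing A] [CommRing B] [IsDomain B] [IsDiscreteValuationRing B] [Algebra A B]
    (_hinj : Function.Injective (algebraMap A B)) [IsLocalHom (algebraMap A B)]
    [Algebra.EssFiniteType A B]
    [Field K] [Field L] [Algebra A K] [IsFractionRing A K] [Algebra B L] [IsFractionRing B L]
    [Algebra K L] [Algebra A L] [IsScalarTower A K L] [IsScalarTower A B L]
    (K' : Type u) [Field K'] [Algebra K K'] [Algebra A K'] [IsScalarTower A K K']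
    [Algebra.IsAlgebraic K K']
    (hA' : IsNoetherianRing (integralClosure A K'))
    (L' : Type u) [CommRing L'] [IsReduced L'] [Algebra K L'] [Algebra L L'] [Algebra K' L']
    [Algebra B L']
    [IsScalarTower K L L'] [IsScalarTower K K' L'] [IsScalarTower B L L']
    (q : L ⊗[K] K' →ₐ[K] L') (hq : Function.Surjective q)
    (hqL : ∀ y : L, q (y ⊗ₜ 1) = algebraMap L L' y)
    (hqK : ∀ z : K', q (1 ⊗ₜ z) = algebraMap K' L' z) :
    IsNoetherianRing (integralClosure B L') := by
  classical
  letI : Algebra A L' := ((algebraMap K L').comp (algebraMap A K)).toAlgebra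
  haveI : IsScalarTower A K L' := IsScalarTower.of_algebraMap_eq (fun _ => rfl)
  haveI : IsScalarTower A B L' := IsScalarTower.of_algebraMap_eq (fun a => by
    show algebraMap K L' (algebraMap A K a) = algebraMap B L' (algebraMap A B a)
    rw [IsScalarTower.algebraMap_apply K L L', IsScalarTower.algebraMap_apply B L L',
      ← IsScalarTower.algebraMap_apply A K L, ← IsScalarTower.algebraMap_apply A B L])
  haveI : IsScalarTower A K' L' := IsScalarTower.of_algebraMap_eq (fun a => by
    show algebraMap K L' (algebraMap A K a) = algebraMap K' L' (algebraMap A K' a)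
    rw [IsScalarTower.algebraMap_apply A K K', ← IsScalarTower.algebraMap_apply K K' L'])
  obtain ⟨A', hA'def⟩ : ∃ A' : Subalgebra A K', A' = integralClosure A K' := ⟨_, rfl⟩
  haveI : IsNoetherianRing A' := hA'def ▸ hA'
  haveI : Algebra.IsIntegral A A' := hA'def ▸ inferInstance
  -- the tensor product
  haveI : IsNoetherianRing (A' ⊗[A] B) := Algebra.EssFiniteType.isNoetherianRing A' (A' ⊗[A] B)
  haveI : IsNoetherianRing (B ⊗[A] A') :=
    isNoetherianRing_of_ringEquiv _ (Algebra.TensorProduct.comm A A' B).toRingEquiv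
  have hdimT : ringKrullDim (B ⊗[A] A') ≤ 1 :=
    (Groth.Agent.IntegralHeight.ringKrullDim_le_of_isIntegral B (B ⊗[A] A')).trans
      (IsDiscreteValuationRing.ringKrullDim_eq_one B).le
  let f : B →ₐ[A] L' := IsScalarTower.toAlgHom A B L'
  let g : A' →ₐ[A] L' := (IsScalarTower.toAlgHom A K' L').comp A'.val
  let ψ : B ⊗[A] A' →ₐ[A] L' := Algebra.TensorProduct.productMap f g
  have hψ : ∀ (b : B) (a : A'), ψ (b ⊗ₜ a) = algebraMap B L' b * algebraMap K' L' (a : K') :=
    fun b a => Algebra.TensorProduct.productMap_apply_tmul f g b a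
  obtain ⟨Rb, hRb⟩ : ∃ Rb : Subring L', Rb = ψ.toRingHom.range := ⟨_, rfl⟩
  have hsurj : Function.Surjective ψ.toRingHom.rangeRestrict :=
    RingHom.rangeRestrict_surjective _
  haveI : IsNoetherianRing Rb := by
    rw [hRb]
    exact isNoetherianRing_of_surjective _ _ _ hsurj
  have hdim : ringKrullDim Rb ≤ 1 := by
    rw [hRb]
    exact (ringKrullDim_le_of_surjective _ hsurj).trans hdimT
  have hmemRb : ∀ t : B ⊗[A] A', ψ t ∈ Rb := fun t => by
    rw [hRb]; exact ⟨t, rfl⟩
  -- the uniformizer
  obtain ⟨π, hπ⟩ := IsDiscreteValuationRing.exists_irreducible A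
  have hπ0 : π ≠ 0 := hπ.ne_zero
  have hπK : IsUnit (algebraMap A K π) :=
    IsUnit.mk0 _ ((map_ne_zero_iff _ (IsFractionRing.injective A K)).mpr hπ0)
  obtain ⟨ϖ, hϖdef⟩ : ∃ ϖ : L', ϖ = algebraMap A L' π := ⟨_, rfl⟩
  have hϖu : IsUnit ϖ := by
    rw [hϖdef, IsScalarTower.algebraMap_apply A K L']
    exact hπK.map _
  have hϖB : ϖ = algebraMap B L' (algebraMap A B π) := by
    rw [hϖdef, IsScalarTower.algebraMap_apply A B L']
  have hϖK' : ϖ = algebraMap K' L' (algebraMap A K' π) := by
    rw [hϖdef, IsScalarTower.algebraMap_apply A K' L']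
  have hϖR : ϖ ∈ Rb := by
    have := hmemRb ((algebraMap A B π) ⊗ₜ 1)
    rw [hψ, OneMemClass.coe_one, map_one, mul_one, ← hϖB] at this
    exact this
  have hpnu : ¬ IsUnit (algebraMap A B π) := fun h =>
    hπ.not_isUnit (isUnit_of_map_unit (algebraMap A B) π h)
  -- elements of `L` and `K'` have bounded denominators
  have hL : ∀ l : L, ∃ n : ℕ, ϖ ^ n * algebraMap L L' l ∈ Rb := by
    intro l
    obtain ⟨b, s, hs, rfl⟩ := IsFractionRing.div_surjective (A := B) l
    have hs0 : s ≠ 0 := nonZeroDivisors.ne_zero hs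
    obtain ⟨n, c, hc⟩ := exists_dvd_pow (algebraMap A B π) s hpnu hs0
    refine ⟨n, ?_⟩
    have hsL : algebraMap B L s ≠ 0 :=
      (map_ne_zero_iff _ (IsFractionRing.injective B L)).mpr hs0
    have : ϖ ^ n * algebraMap L L' (algebraMap B L b / algebraMap B L s) =
        algebraMap B L' (c * b) := by
      rw [hϖB, ← map_pow, hc, IsScalarTower.algebraMap_apply B L L',
        IsScalarTower.algebraMap_apply B L L' (c * b), ← map_mul]
      congr 1
      rw [map_mul, map_mul]
      field_simp
    rw [this]
    have := hmemRb ((c * b) ⊗ₜ 1)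
    rw [hψ, OneMemClass.coe_one, map_one, mul_one] at this
    exact this
  have hK' : ∀ k : K', ∃ n : ℕ, ϖ ^ n * algebraMap K' L' k ∈ Rb := by
    intro k
    have hk : IsAlgebraic A k := by
      have : IsAlgebraic K k := Algebra.IsAlgebraic.isAlgebraic k
      exact (IsFractionRing.isAlgebraic_iff A K K').mpr this
    obtain ⟨a, ha0, hak⟩ := hk.exists_integral_multiple
    obtain ⟨n, c, hc⟩ := exists_dvd_pow π a hπ.not_isUnit ha0
    refine ⟨n, ?_⟩
    have hint : IsIntegral A (algebraMap A K' (π ^ n) * k) := by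
      rw [hc, mul_comm a c, map_mul, mul_assoc, ← Algebra.smul_def a k]
      exact IsIntegral.mul isIntegral_algebraMap hak
    have hmemA' : algebraMap A K' (π ^ n) * k ∈ A' := by rw [hA'def]; exact hint
    have := hmemRb (1 ⊗ₜ (⟨_, hmemA'⟩ : A'))
    rw [hψ, map_one, one_mul] at this
    rw [hϖK', ← map_pow, ← map_mul, ← map_pow]
    exact this
  have hfrac : ∀ y : L', ∃ n : ℕ, ϖ ^ n * y ∈ Rb := by
    intro y
    obtain ⟨t, rfl⟩ := hq y
    induction t using TensorProduct.induction_on with
    | zero => exact ⟨0, by rw [map_zero, mul_zero]; exact Rb.zero_mem⟩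
    | tmul l k =>
      obtain ⟨n, hn⟩ := hL l
      obtain ⟨m, hm⟩ := hK' k
      refine ⟨n + m, ?_⟩
      have : q (l ⊗ₜ k) = algebraMap L L' l * algebraMap K' L' k := by
        rw [← hqL, ← hqK, ← map_mul, Algebra.TensorProduct.tmul_mul_tmul, mul_one, one_mul]
      rw [this, pow_add]
      have := Rb.mul_mem hn hm
      convert this using 1
      ring
    | add x y hx hy =>
      obtain ⟨n, hn⟩ := hx
      obtain ⟨m, hm⟩ := hy
      refine ⟨n + m, ?_⟩
      rw [map_add, mul_add, pow_add]
      refine Rb.add_mem ?_ ?_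
      · have := Rb.mul_mem (Rb.pow_mem hϖR m) hn
        convert this using 1
        ring
      · have := Rb.mul_mem (Rb.pow_mem hϖR n) hm
        convert this using 1
        ring
  -- `L'` is integral over `L`, hence zero-dimensional
  haveI : Algebra.IsIntegral L L' := by
    refine ⟨fun y => ?_⟩
    obtain ⟨t, rfl⟩ := hq y
    induction t using TensorProduct.induction_on with
    | zero => rw [map_zero]; exact isIntegral_zero
    | tmul l k =>
      have : q (l ⊗ₜ k) = algebraMap L L' l * algebraMap K' L' k := by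
        rw [← hqL, ← hqK, ← map_mul, Algebra.TensorProduct.tmul_mul_tmul, mul_one, one_mul]
      rw [this]
      refine IsIntegral.mul isIntegral_algebraMap ?_
      have hk : IsIntegral K k := Algebra.IsIntegral.isIntegral k
      have hk' : IsIntegral K (algebraMap K' L' k) := hk.map (IsScalarTower.toAlgHom K K' L')
      exact hk'.tower_top
    | add x y hx hy => rw [map_add]; exact hx.add hy
  haveI : Ring.KrullDimLE 0 L' := krullDimLE_zero_of_isIntegral_field L L'
  -- the integral closure
  obtain ⟨C, hC⟩ : ∃ C : Subring L', C = (integralClosure B L').toSubring := ⟨_, rfl⟩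
  have hmemC : ∀ x : L', x ∈ C ↔ IsIntegral B x := fun x => by rw [hC]; rfl
  have hRC : Rb ≤ C := by
    rw [hRb]
    rintro _ ⟨t, rfl⟩
    show ψ t ∈ C
    induction t using TensorProduct.induction_on with
    | zero => rw [map_zero]; exact C.zero_mem
    | tmul b a =>
      rw [hψ]
      refine C.mul_mem ((hmemC _).mpr isIntegral_algebraMap) ((hmemC _).mpr ?_)
      have hmemA'_iff : ∀ z : K', z ∈ A' → IsIntegral A z := fun z hz => by
        rw [hA'def] at hz; exact hz
      have ha : IsIntegral A (a : K') := hmemA'_iff _ a.2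
      have ha' : IsIntegral A (algebraMap K' L' (a : K')) :=
        ha.map (IsScalarTower.toAlgHom A K' L')
      exact ha'.tower_top
    | add x y hx hy => rw [map_add]; exact C.add_mem hx hy
  have hidem : ∀ e : L', e * e = e → e ∈ C := by
    intro e he
    rw [hmemC]
    refine ⟨Polynomial.X ^ 2 - Polynomial.X, Polynomial.monic_X_pow_sub (by simp), ?_⟩
    simp [pow_two, he]
  have key : IsNoetherianRing C :=
    isNoetherianRing_of_idem Rb C hdim ϖ hϖR hϖu hfrac hRC hidem
  rw [hC] at key
  exact key

end Groth.Agent.Lib.NoethICH8
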