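import Mathlib
import Groth.Prelude
import Groth.Agent.Lib.IntegralHeight_helper5

/-!
# Lifting Noether normalization of the special fibre over a DVR (helper4).
APPEND-ONLY once landed.
-/

set_option autoImplicit false
set_option linter.style.haveILetI false

universe u

namespace Groth.Agent.Lib.NoethNormDVRH4

open MvPolynomial

theorem dim_eq {k R : Type u} [Field k] [CommRing R] [Algebra k R] (s : ℕ)
    (g : MvPolynomial (Fin s) k →ₐ[k] R) (hinj : Function.Injective g) (hfin : g.Finite) :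
    ringKrullDim R = s := by
  letI := g.toRingHom.toAlgebra
  haveI : Module.Finite (MvPolynomial (Fin s) k) R := hfin
  haveI : Algebra.IsIntegral (MvPolynomial (Fin s) k) R := Algebra.IsIntegral.of_finite _ _
  rw [Groth.Agent.IntegralHeight.ringKrullDim_eq_of_isIntegral_of_injective
    (MvPolynomial (Fin s) k) R hinj, MvPolynomial.ringKrullDim_of_isNoetherianRing,
    ringKrullDim_eq_zero_of_field, Nat.card_fin, zero_add]

theorem exists_C_mul {A : Type u} [CommRing A] {σ : Type*} (t : A) (P : MvPolynomial σ A)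
    (h : ∀ ν, t ∣ coeff ν P) : ∃ P₁ : MvPolynomial σ A, P = C t * P₁ := by
  have h1 : P ∈ Ideal.map (C : A →+* MvPolynomial σ A) (Ideal.span {t}) := by
    rw [MvPolynomial.mem_map_C_iff]
    intro ν
    exact Ideal.mem_span_singleton.mpr (h ν)
  rw [Ideal.map_span, Set.image_singleton, Ideal.mem_span_singleton'] at h1
  obtain ⟨a, ha⟩ := h1
  exact ⟨a, by rw [← ha, mul_comm]⟩

theorem inj_of_red {A B : Type u} [CommRing A] [CommRing B] [Algebra A B] (t : A) {σ : Type*}
    (hinter : ∀ a : A, (∀ n : ℕ, t ^ n ∣ a) → a = 0)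
    (hreg : ∀ b : B, algebraMap A B t * b = 0 → b = 0)
    (φ : MvPolynomial σ A →ₐ[A] B)
    (hred : ∀ P : MvPolynomial σ A, φ P = 0 → ∀ ν, t ∣ coeff ν P) :
    Function.Injective φ := by
  have claim : ∀ n : ℕ, ∀ P : MvPolynomial σ A, φ P = 0 →
      ∃ Q : MvPolynomial σ A, P = C (t ^ n) * Q := by
    intro n
    induction n with
    | zero =>
      intro P _
      exact ⟨P, by rw [pow_zero, C_1, one_mul]⟩
    | succ n ih =>
      intro P hP
      obtain ⟨P₁, hP₁⟩ := exists_C_mul t P (hred P hP)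
      have h1 : φ P₁ = 0 := by
        apply hreg
        have : φ P = algebraMap A B t * φ P₁ := by
          rw [hP₁, map_mul, ← MvPolynomial.algebraMap_eq, φ.commutes]
        rw [← this, hP]
      obtain ⟨Q, hQ⟩ := ih P₁ h1
      exact ⟨Q, by rw [hP₁, hQ, ← mul_assoc, ← C_mul, ← pow_succ']⟩
  rw [injective_iff_map_eq_zero]
  intro P hP
  ext ν
  rw [coeff_zero]
  apply hinter
  intro n
  obtain ⟨Q, hQ⟩ := claim n P hP
  rw [hQ, coeff_C_mul]
  exact Dvd.intro _ rfl

theorem main11558 (A : Type u) [CommRing A]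
    [IsDomain A] [IsDiscreteValuationRing A] (B : Type u) [CommRing B] [Algebra A B]
    [Module.Flat A B]
    (d : ℕ) [Algebra.FiniteType A (B ⧸ Ideal.map (algebraMap A B) (IsLocalRing.maximalIdeal A))]
    (hd : ringKrullDim (B ⧸ Ideal.map (algebraMap A B) (IsLocalRing.maximalIdeal A)) = d) :
    ∃ φ : MvPolynomial (Fin d) A →ₐ[A] B, Function.Injective φ ∧
      (Function.Injective (MvPolynomial.eval₂Hom
          (Ideal.quotientMap (Ideal.map (algebraMap A B) (IsLocalRing.maximalIdeal A))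
            (algebraMap A B) Ideal.le_comap_map)
          (fun i => Ideal.Quotient.mk (Ideal.map (algebraMap A B) (IsLocalRing.maximalIdeal A))
            (φ (MvPolynomial.X i)))) ∧
        (MvPolynomial.eval₂Hom
          (Ideal.quotientMap (Ideal.map (algebraMap A B) (IsLocalRing.maximalIdeal A))
            (algebraMap A B) Ideal.le_comap_map)
          (fun i => Ideal.Quotient.mk (Ideal.map (algebraMap A B) (IsLocalRing.maximalIdeal A))
            (φ (MvPolynomial.X i)))).Finite) := by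
  set 𝔪 : Ideal A := IsLocalRing.maximalIdeal A with h𝔪
  set 𝔟 : Ideal B := Ideal.map (algebraMap A B) 𝔪 with h𝔟
  letI : Field (A ⧸ 𝔪) := Ideal.Quotient.field 𝔪
  haveI : Algebra.FiniteType (A ⧸ 𝔪) (B ⧸ 𝔟) :=
    Algebra.FiniteType.of_restrictScalars_finiteType A (A ⧸ 𝔪) (B ⧸ 𝔟)
  haveI : Nontrivial (B ⧸ 𝔟) := by
    by_contra hnt
    haveI : Subsingleton (B ⧸ 𝔟) := not_nontrivial_iff_subsingleton.mp hnt
    rw [ringKrullDim_eq_bot_of_subsingleton] at hd
    exact WithBot.bot_ne_coe hd
  obtain ⟨s, g, hginj, hgfin⟩ := exists_finite_inj_algHom_of_fg (A ⧸ 𝔪) (B ⧸ 𝔟)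
  have hsd : s = d := by
    have h1 := dim_eq s g hginj hgfin
    rw [hd] at h1
    exact_mod_cast h1.symm
  subst hsd
  choose b hb using fun i : Fin s => Ideal.Quotient.mk_surjective (I := 𝔟) (g (X i))
  -- the reduction of `aeval b` is `g`
  have hΦ : MvPolynomial.eval₂Hom
      (Ideal.quotientMap 𝔟 (algebraMap A B) Ideal.le_comap_map)
      (fun i => Ideal.Quotient.mk 𝔟 ((MvPolynomial.aeval b : MvPolynomial (Fin s) A →ₐ[A] B)
        (MvPolynomial.X i))) = (g : MvPolynomial (Fin s) (A ⧸ 𝔪) →+* B ⧸ 𝔟) := by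
    apply MvPolynomial.ringHom_ext
    · intro a
      rw [eval₂Hom_C]
      have : (g : MvPolynomial (Fin s) (A ⧸ 𝔪) →+* B ⧸ 𝔟) (C a) = algebraMap (A ⧸ 𝔪) (B ⧸ 𝔟) a := by
        rw [← MvPolynomial.algebraMap_eq]
        exact g.commutes a
      rw [this]
      rfl
    · intro i
      rw [eval₂Hom_X', aeval_X, hb]
      rfl
  refine ⟨MvPolynomial.aeval b, ?_, ?_, ?_⟩
  · -- injectivity of the lift
    obtain ⟨t, ht⟩ := IsDiscreteValuationRing.exists_irreducible A
    have hmt : 𝔪 = Ideal.span {t} := ht.maximalIdeal_eq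
    have hinter : ∀ a : A, (∀ n : ℕ, t ^ n ∣ a) → a = 0 := by
      intro a ha
      have h1 : a ∈ ⨅ n : ℕ, 𝔪 ^ n := by
        rw [Ideal.mem_iInf]
        intro n
        rw [hmt, Ideal.span_singleton_pow]
        exact Ideal.mem_span_singleton.mpr (ha n)
      rw [Ideal.iInf_pow_eq_bot_of_isLocalRing 𝔪 (IsLocalRing.maximalIdeal.isMaximal A).ne_top]
        at h1
      exact (Ideal.mem_bot).mp h1
    have hregB : IsSMulRegular B (algebraMap A B t) :=
      IsSMulRegular.of_flat (isRegular_of_ne_zero ht.ne_zero).left.isSMulRegular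
    have hreg : ∀ b' : B, algebraMap A B t * b' = 0 → b' = 0 := by
      intro b' hb'
      apply hregB
      show algebraMap A B t • b' = algebraMap A B t • (0 : B)
      rw [smul_eq_mul, smul_eq_mul, hb', mul_zero]
    apply inj_of_red t hinter hreg
    intro P hP ν
    -- reduce mod 𝔪
    have hcomm : (Ideal.Quotient.mk 𝔟).comp
        ((MvPolynomial.aeval b : MvPolynomial (Fin s) A →ₐ[A] B) : MvPolynomial (Fin s) A →+* B) =
        (g : MvPolynomial (Fin s) (A ⧸ 𝔪) →+* B ⧸ 𝔟).comp
          (MvPolynomial.map (Ideal.Quotient.mk 𝔪)) := by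
      apply MvPolynomial.ringHom_ext
      · intro a
        rw [RingHom.comp_apply, RingHom.comp_apply, map_C]
        have h1 : (g : MvPolynomial (Fin s) (A ⧸ 𝔪) →+* B ⧸ 𝔟) (C (Ideal.Quotient.mk 𝔪 a)) =
            algebraMap (A ⧸ 𝔪) (B ⧸ 𝔟) (Ideal.Quotient.mk 𝔪 a) := by
          rw [← MvPolynomial.algebraMap_eq]
          exact g.commutes _
        rw [h1]
        have h2 : ((MvPolynomial.aeval b : MvPolynomial (Fin s) A →ₐ[A] B) :
            MvPolynomial (Fin s) A →+* B) (C a) = algebraMap A B a := by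
          rw [← MvPolynomial.algebraMap_eq]
          exact (MvPolynomial.aeval b).commutes a
        rw [h2]
        rfl
      · intro i
        rw [RingHom.comp_apply, RingHom.comp_apply, map_X]
        have h2 : ((MvPolynomial.aeval b : MvPolynomial (Fin s) A →ₐ[A] B) :
            MvPolynomial (Fin s) A →+* B) (X i) = b i := aeval_X b i
        rw [h2, hb]
        rfl
    have h3 : (g : MvPolynomial (Fin s) (A ⧸ 𝔪) →+* B ⧸ 𝔟)
        (MvPolynomial.map (Ideal.Quotient.mk 𝔪) P) = 0 := by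
      have := congrArg (fun f : MvPolynomial (Fin s) A →+* B ⧸ 𝔟 => f P) hcomm
      simp only [RingHom.comp_apply] at this
      rw [← this]
      show Ideal.Quotient.mk 𝔟 ((MvPolynomial.aeval b : MvPolynomial (Fin s) A →ₐ[A] B) P) = 0
      rw [hP, map_zero]
    have h4 : MvPolynomial.map (Ideal.Quotient.mk 𝔪) P = 0 := by
      apply hginj
      rw [map_zero]
      exact h3
    have h5 : Ideal.Quotient.mk 𝔪 (coeff ν P) = 0 := by
      rw [← MvPolynomial.coeff_map, h4, coeff_zero]
    rw [Ideal.Quotient.eq_zero_iff_mem, hmt] at h5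
    exact Ideal.mem_span_singleton.mp h5
  · rw [hΦ]
    exact hginj
  · rw [hΦ]
    exact hgfin

end Groth.Agent.Lib.NoethNormDVRH4
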