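import Mathlib

/-! A Noetherian domain in which some nonzero element lies in every nonzero prime has only
finitely many primes, all nonzero ones being minimal over that element (hence of height one). -/

universe u

namespace Groth.Agent.Lib.NoethPrimes

variable {D : Type u} [CommRing D] [IsDomain D] [IsNoetherianRing D]

/-- no chain `⊥ < a < b` of primes with `height b ≤ 1` -/
theorem not_lt_lt_of_height_le_one {a b : Ideal D} [a.IsPrime] [b.IsPrime] (ha : a ≠ ⊥)
    (hab : a < b) (hb : b.height ≤ 1) : False := by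
  have h1 : a.height ≠ 0 := by
    rw [Ne, Ideal.height_eq_zero_iff_eq_bot]; exact ha
  have h2 : a.height < b.height := Ideal.height_strict_mono_of_isPrime_of_isPrime hab
  have h3 : 1 ≤ a.height := Order.one_le_iff_pos.2 (pos_iff_ne_zero.2 h1)
  exact absurd (lt_of_le_of_lt h3 (lt_of_lt_of_le h2 hb)) (lt_irrefl _)

theorem mem_minimalPrimes_of_forall_mem (x : D) (hx : x ≠ 0)
    (hall : ∀ q : Ideal D, q.IsPrime → q ≠ ⊥ → x ∈ q) (q : Ideal D) [hq : q.IsPrime]
    (hq0 : q ≠ ⊥) : q ∈ (Ideal.span {x}).minimalPrimes := by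
  classical
  by_contra hqmin
  have hfin := Ideal.finite_minimalPrimes_of_isNoetherianRing D (Ideal.span {x})
  have hxq : Ideal.span {x} ≤ q := by
    rw [Ideal.span_singleton_le_iff_mem]; exact hall q hq hq0
  obtain ⟨m0, hm0, hm0q⟩ := Ideal.exists_minimalPrimes_le hxq
  have hMinprime : ∀ m ∈ hfin.toFinset, Ideal.IsPrime m := fun m hm =>
    ((Set.Finite.mem_toFinset hfin).1 hm).isPrime
  have hMin_ne : ∀ m ∈ (Ideal.span {x}).minimalPrimes, m ≠ ⊥ := by
    intro m hm hbot
    have : x ∈ m := hm.1.2 (Ideal.subset_span rfl)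
    rw [hbot] at this
    exact hx ((Ideal.mem_bot).1 this)
  have hMin_ht : ∀ m ∈ (Ideal.span {x}).minimalPrimes, m.height ≤ 1 := fun m hm =>
    Ideal.height_le_one_of_isPrincipal_of_mem_minimalPrimes _ m hm
  -- q is not contained in the union of the minimal primes
  have hnot : ¬ ((q : Set D) ⊆ ⋃ m ∈ (hfin.toFinset : Set (Ideal D)), (m : Set D)) := by
    intro hsub
    have := (Ideal.subset_union_prime (s := hfin.toFinset) (f := fun m => m) ⊥ ⊥
      (fun m hm _ _ => hMinprime m hm) (I := q)).1 hsub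
    obtain ⟨m, hm, hqm⟩ := this
    have hm' := (Set.Finite.mem_toFinset hfin).1 hm
    haveI := hm'.isPrime
    have hne : q ≠ m := fun h => hqmin (h ▸ hm')
    exact not_lt_lt_of_height_le_one hq0 (lt_of_le_of_ne hqm hne) (hMin_ht m hm')
  rw [Set.not_subset] at hnot
  obtain ⟨y, hyq, hy⟩ := hnot
  have hy' : ∀ m ∈ (Ideal.span {x}).minimalPrimes, y ∉ m := by
    intro m hm hym
    apply hy
    simp only [Set.mem_iUnion, Finset.mem_coe, SetLike.mem_coe]
    exact ⟨m, (Set.Finite.mem_toFinset hfin).2 hm, hym⟩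
  have hy0 : y ≠ 0 := by
    intro h0
    exact hy' m0 hm0 (h0 ▸ m0.zero_mem)
  have hyq' : Ideal.span {y} ≤ q := by
    rw [Ideal.span_singleton_le_iff_mem]; exact hyq
  obtain ⟨q', hq', hq'q⟩ := Ideal.exists_minimalPrimes_le hyq'
  haveI := hq'.isPrime
  have hyq'' : y ∈ q' := hq'.1.2 (Ideal.subset_span rfl)
  have hq'0 : q' ≠ ⊥ := by
    intro hbot
    rw [hbot] at hyq''
    exact hy0 ((Ideal.mem_bot).1 hyq'')
  have hq'ht : q'.height ≤ 1 := Ideal.height_le_one_of_isPrincipal_of_mem_minimalPrimes _ q' hq'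
  have hxq' : Ideal.span {x} ≤ q' := by
    rw [Ideal.span_singleton_le_iff_mem]; exact hall q' hq'.isPrime hq'0
  obtain ⟨m, hm, hmq'⟩ := Ideal.exists_minimalPrimes_le hxq'
  haveI := hm.isPrime
  have hmeq : m = q' := by
    by_contra hne
    exact not_lt_lt_of_height_le_one (hMin_ne m hm) (lt_of_le_of_ne hmq' hne) hq'ht
  exact hy' m hm (hmeq ▸ hyq'')

theorem finite_primes_of_forall_mem (x : D) (hx : x ≠ 0)
    (hall : ∀ q : Ideal D, q.IsPrime → q ≠ ⊥ → x ∈ q) : {q : Ideal D | q.IsPrime}.Finite := by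
  have hfin := Ideal.finite_minimalPrimes_of_isNoetherianRing D (Ideal.span {x})
  refine (hfin.union (Set.finite_singleton ⊥)).subset ?_
  intro q hq
  by_cases hq0 : q = ⊥
  · right; exact hq0
  · left
    haveI : q.IsPrime := hq
    exact mem_minimalPrimes_of_forall_mem x hx hall q hq0

theorem height_le_one_of_forall_mem (x : D) (hx : x ≠ 0)
    (hall : ∀ q : Ideal D, q.IsPrime → q ≠ ⊥ → x ∈ q) (q : Ideal D) [q.IsPrime] :
    q.height ≤ 1 := by
  by_cases hq0 : q = ⊥
  · rw [hq0, Ideal.height_bot]; exact zero_le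
  · exact Ideal.height_le_one_of_isPrincipal_of_mem_minimalPrimes _ q
      (mem_minimalPrimes_of_forall_mem x hx hall q hq0)

end Groth.Agent.Lib.NoethPrimes
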