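import Mathlib
import Groth.Agent.Lib.GrothTransfer_helper9
import Groth.Agent.Lib.ARNoeth_helper4

/-!
# Transfer of noetherian objects along a faithful exact left adjoint (helper9)

`F : A ⥤ B` faithful exact with right adjoint `G` commuting with filtered colimits, `B` locally
noetherian (AB5 with a small separating family of noetherian objects).  Then an object `a` of `A`
is noetherian iff `F a` is, and `A` is locally noetherian.
-/

open CategoryTheory CategoryTheory.Limits

namespace Groth.Agent.Lib.NoethTransfer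

open Groth.Agent.Lib.GrothTransfer

universe w u₁ u₂

variable {A : Type u₁} [Category.{w} A] [Abelian A]
  {B : Type u₂} [Category.{w} B] [Abelian B]
  (F : A ⥤ B) (G : B ⥤ A) (adj : F ⊣ G) [F.Additive] [F.Faithful]
  [PreservesFiniteLimits F] [PreservesFiniteColimits F]

/-! ### The easy direction -/

lemma map_mono {X : A} (P Q : Subobject X) (h : P ≤ Q) :
    Subobject.mk (F.map P.arrow) ≤ Subobject.mk (F.map Q.arrow) :=
  Subobject.mk_le_mk_of_comm (F.map (Subobject.ofLE P Q h)) (by
    rw [← F.map_comp, Subobject.ofLE_arrow])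

lemma isNoetherianObject_of_map (a : A) [IsNoetherianObject (F.obj a)] : IsNoetherianObject a := by
  rw [AbSubobjH4.isNoetherianObject_iff']
  intro f hf
  obtain ⟨n, hn⟩ := (AbSubobjH4.isNoetherianObject_iff' (F.obj a)).1 inferInstance
    (fun k => Subobject.mk (F.map (f k).arrow)) (fun i j hij => map_mono F _ _ (hf hij))
  exact ⟨n, fun m hm => map_injective F (hn m hm)⟩

/-! ### Finitely generated subobjects are noetherian -/

section

variable {ι : Type w} (s : ι → B) (hsN : ∀ i, IsNoetherianObject (s i))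
  [HasColimitsOfSize.{w, w} B] (Y : B)

include hsN in
lemma isNoetherianObject_DS (S : JJ s Y) : IsNoetherianObject (DS s Y S : B) := by
  classical
  let m : Subobject Y := S.sup (fun x => imageSubobject x.2)
  have hm : IsNoetherianObject (m : B) :=
    ARNoethH4.serreLike_noeth.finset_sup S (fun x => imageSubobject x.2)
      (fun x _ => ARNoethH4.serreLike_noeth.image x.2 (hsN x.1))
  have hf : ∀ x : S, m.Factors x.1.2 := fun x => by
    have h2 : (imageSubobject x.1.2).Factors x.1.2 := by
      have := Subobject.factors_comp_arrow (factorThruImageSubobject x.1.2)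
      rwa [imageSubobject_arrow_comp] at this
    exact Subobject.factors_of_le _ (Finset.le_sup (f := fun x => imageSubobject x.2) x.2) h2
  have hle : DS s Y S ≤ m :=
    imageSubobject_le (σS s Y S) (Sigma.desc (fun x => m.factorThru x.1.2 (hf x))) (by
      apply Sigma.hom_ext
      intro x
      simp)
  haveI := hm
  exact isNoetherianObject_of_mono (Subobject.ofLE _ _ hle)

end

/-! ### The hard direction -/

section hard

variable {ι : Type w} (s : ι → B) (hsN : ∀ i, IsNoetherianObject (s i))
  (hsep : ∀ ⦃X Y : B⦄ (f g : X ⟶ Y), (∀ (i : ι) (h : s i ⟶ X), h ≫ f = h ≫ g) → f = g)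
  [HasColimitsOfSize.{w, w} A] [HasColimitsOfSize.{w, w} B] [IsGrothendieckAbelian.{w} B]
  [AB5OfSize.{w, w} A] [PreservesFilteredColimitsOfSize.{w, w} G]
  (X : A)

/-- the subobject `Pf S` of `X` -/
noncomputable def PS (S : JX F s X) : Subobject X := Subobject.mk (kap F G adj s X S)

lemma PS_mono : Monotone (PS F G adj s X) := by
  intro S S' h
  refine Subobject.mk_le_mk_of_comm ((Pf F G adj s X).map (homOfLE h)) ?_
  have := (κ F G adj s X).naturality (homOfLE h)
  simpa [kap] using this

include hsep in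
lemma exists_isIso_kap [IsNoetherianObject X] : ∃ S₀ : JX F s X, IsIso (kap F G adj s X S₀) := by
  classical
  obtain ⟨m, ⟨S₀, rfl⟩, hmax⟩ := (wellFounded_gt (α := Subobject X)).has_min
    (Set.range (PS F G adj s X)) ⟨_, ⟨∅, rfl⟩⟩
  have hle : ∀ S, PS F G adj s X S ≤ PS F G adj s X S₀ := by
    intro S
    have h1 : PS F G adj s X S ≤ PS F G adj s X (S ∪ S₀) :=
      PS_mono F G adj s X Finset.subset_union_left
    have h2 : PS F G adj s X S₀ ≤ PS F G adj s X (S ∪ S₀) :=
      PS_mono F G adj s X Finset.subset_union_right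
    have h3 : ¬ PS F G adj s X S₀ < PS F G adj s X (S ∪ S₀) := hmax _ ⟨_, rfl⟩
    have h4 : PS F G adj s X (S ∪ S₀) = PS F G adj s X S₀ := (eq_of_le_of_not_lt h2 h3).symm
    exact h4 ▸ h1
  refine ⟨S₀, ?_⟩
  have h0 : cokernel.π (kap F G adj s X S₀) = 0 := by
    apply eq_zero_of_κ_comp F G adj s hsep X
    intro S
    change kap F G adj s X S ≫ _ = 0
    rw [← Subobject.ofMkLEMk_comp (hle S), Category.assoc, cokernel.condition, comp_zero]
  haveI : Epi (kap F G adj s X S₀) := Abelian.epi_of_cokernel_π_eq_zero _ h0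
  exact isIso_of_mono_of_epi _

include G adj hsep hsN in
lemma isNoetherianObject_map [IsNoetherianObject X] : IsNoetherianObject (F.obj X) := by
  obtain ⟨S₀, hS₀⟩ := exists_isIso_kap F G adj s hsep X
  haveI : Epi ((DS s (F.obj X) S₀).arrow) := by
    haveI : Epi (μ F G adj s X S₀ ≫ (DS s (F.obj X) S₀).arrow) := by
      rw [μ_arrow]
      infer_instance
    exact epi_of_epi (μ F G adj s X S₀) _
  haveI : IsIso ((DS s (F.obj X) S₀).arrow) := isIso_of_mono_of_epi _
  haveI := isNoetherianObject_DS s hsN (F.obj X) S₀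
  exact isNoetherianObject_of_mono (inv (DS s (F.obj X) S₀).arrow)

include hsN in
lemma isNoetherianObject_Pf (S : JX F s X) : IsNoetherianObject ((Pf F G adj s X).obj S) := by
  haveI := isNoetherianObject_DS s hsN (F.obj X) S
  haveI : IsNoetherianObject (F.obj ((Pf F G adj s X).obj S)) :=
    isNoetherianObject_of_mono (μ F G adj s X S)
  exact isNoetherianObject_of_map F _

end hard

/-! ### Main statements -/

section main

variable [HasColimitsOfSize.{w, w} A] [HasColimitsOfSize.{w, w} B] [AB5OfSize.{w, w} B]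
  {ι : Type w} (s : ι → B) (hsN : ∀ i, IsNoetherianObject (s i))
  (hsep : ∀ ⦃X Y : B⦄ (f g : X ⟶ Y), (∀ (i : ι) (h : s i ⟶ X), h ≫ f = h ≫ g) → f = g)
  [PreservesFilteredColimitsOfSize.{w, w} G]

include hsep in
/-- `B` is a Grothendieck abelian category -/
lemma isGrothendieckAbelian_of_family : IsGrothendieckAbelian.{w} B :=
  { hasSeparator := ⟨∐ s, (isSeparator_sigma s).2 (fun _ _ f g h =>
      hsep f g (fun i hi => h _ (ObjectProperty.ofObj_apply s i) hi))⟩ }

include adj hsN hsep in
theorem isNoetherianObject_iff (a : A) :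
    IsNoetherianObject a ↔ IsNoetherianObject (F.obj a) := by
  haveI : IsGrothendieckAbelian.{w} B := isGrothendieckAbelian_of_family s hsep
  haveI : AB5OfSize.{w, w} A := ab5 F G adj
  constructor
  · intro h
    exact isNoetherianObject_map F G adj s hsN hsep a
  · intro h
    exact isNoetherianObject_of_map F a

include adj hsN hsep in
theorem locallyNoetherian :
    AB5OfSize.{w, w} A ∧
      ∃ (κ : Type w) (t : κ → A), (∀ k, IsNoetherianObject (t k)) ∧
        ∀ ⦃X Y : A⦄ (f g : X ⟶ Y), (∀ (k : κ) (h : t k ⟶ X), h ≫ f = h ≫ g) → f = g := by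
  haveI : IsGrothendieckAbelian.{w} B := isGrothendieckAbelian_of_family s hsep
  haveI : AB5OfSize.{w, w} A := ab5 F G adj
  haveI : WellPowered.{w} A := wellPowered F
  refine ⟨inferInstance, {k : Idx G s // IsNoetherianObject (tfam G s k)},
    fun k => tfam G s k.1, fun k => k.2, ?_⟩
  intro X Z f g h
  rw [← sub_eq_zero]
  apply eq_zero_of_κ_comp F G adj s hsep X
  intro S
  obtain ⟨k, ⟨e⟩⟩ := exists_tfam_iso_Pf F G adj s X S
  haveI := isNoetherianObject_Pf F G adj s hsN X S
  have hk : IsNoetherianObject (tfam G s k) := isNoetherianObject_of_mono e.hom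
  have h1 := h ⟨k, hk⟩ (e.hom ≫ (κ F G adj s X).app S)
  rw [Preadditive.comp_sub, sub_eq_zero, ← cancel_epi e.hom]
  simpa using h1

end main

end Groth.Agent.Lib.NoethTransfer
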