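import Mathlib
import Groth.Agent.Lib.NoetherDiff_helper2

/-!
# Different vs Noether different, finite free case (helper2)
-/

set_option autoImplicit false

namespace NoetherDiffH2

open TensorProduct Disc

universe u v

variable {A : Type u} {B : Type v} [CommRing A] [CommRing B] [Algebra A B]

/-- swapped pairing `u ⊗ v ↦ l(v) u`. -/
noncomputable def pairR (l : Omega A B) : B ⊗[A] B →ₗ[A] B :=
  TensorProduct.lift (((LinearMap.lsmul A B).comp l.toLinearMap).flip)

@[simp] theorem pairR_tmul (l : Omega A B) (x y : B) :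
    pairR l (x ⊗ₜ[A] y) = l.toLinearMap y • x := by
  simp [pairR]

section

variable [Module.Finite A B] [Module.Free A B]

theorem apply_pair_trace (φ : B →ₗ[A] A) (x : B) (ξ : B ⊗[A] B) :
    φ (pair (x • Omega.trace A B) ξ) = Algebra.trace A B (x * pairR ⟨φ⟩ ξ) := by
  induction ξ using TensorProduct.induction_on with
  | zero => simp
  | tmul u v =>
    simp only [pair_tmul, pairR_tmul, Omega.smul_toLinearMap_apply, Omega.trace]
    rw [map_smul, mul_smul_comm, map_smul, smul_eq_mul, smul_eq_mul, mul_comm]
  | add a c ha hc => rw [map_add, map_add, ha, hc, map_add, mul_add, map_add]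

variable {ι : Type*} [Fintype ι] [DecidableEq ι] (b : Module.Basis ι A B)
include b

theorem noetherDifferent_subset_differentSet :
    (noetherDifferent A B : Set B) ⊆ differentSet A B := by
  intro f hf
  have hsurj : Function.Surjective (Algebra.TensorProduct.lmul' (S := B) A) :=
    fun y => ⟨y ⊗ₜ 1, by simp⟩
  rw [SetLike.mem_coe, noetherDifferent, Ideal.mem_map_iff_of_surjective _ hsurj] at hf
  obtain ⟨ξ, hξ, rfl⟩ := hf
  intro φ
  refine ⟨pairR ⟨φ⟩ ξ, fun x => ?_⟩
  rw [mul_comm _ x, ← pair_trace_of_mem b ξ hξ, ← pair_smul_of_mem hξ, apply_pair_trace,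
    mul_comm]

omit [Module.Finite A B] [Module.Free A B] in
theorem eq_zero_of_smul_eq_zero (c : B) (h : ∀ l : Omega A B, c • l = 0) : c = 0 := by
  apply b.ext_elem
  intro i
  have := congrArg (fun l => l.toLinearMap 1) (h (coordΩ b i))
  simpa [coordΩ] using this

theorem sq_mem_noetherDifferent (y : B) (hy : y ∈ differentSet A B) :
    y ^ 2 ∈ noetherDifferent A B := by
  have hy' : ∀ l : Omega A B, ∃ c : B, y • l = c • Omega.trace A B := by
    intro l
    obtain ⟨c, hc⟩ := hy l.toLinearMap
    refine ⟨c, ?_⟩
    apply Omega.toLinearMap_injective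
    ext x
    simp [hc x, Omega.trace]
  choose c hc using hy'
  have hkill : ∀ d : B, d • Omega.trace A B = 0 → y * d = 0 := by
    intro d hd
    apply eq_zero_of_smul_eq_zero b
    intro l
    rw [mul_comm, mul_smul, hc l, smul_comm, hd, smul_zero]
  let Φ : Omega A B →ₗ[B] B :=
    { toFun := fun l => y * c l
      map_add' := fun l l' => by
        rw [← mul_add, ← sub_eq_zero, ← mul_sub]
        apply hkill
        rw [sub_smul, add_smul, ← hc, ← hc, ← hc, smul_add, sub_self]
      map_smul' := fun s l => by
        simp only [RingHom.id_apply, smul_eq_mul]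
        have h0 : y * (c (s • l) - s * c l) = 0 := by
          apply hkill
          rw [sub_smul, mul_smul, ← hc, ← hc, smul_comm, sub_self]
        rw [mul_sub, sub_eq_zero] at h0
        rw [h0, mul_left_comm] }
  have hΦ : Φ (Omega.trace A B) = y ^ 2 := by
    show y * c (Omega.trace A B) = y ^ 2
    have h0 : y * (c (Omega.trace A B) - y) = 0 := by
      apply hkill
      rw [sub_smul, ← hc, sub_self]
    rw [mul_sub, sub_eq_zero] at h0
    rw [h0, pow_two]
  rw [← SetLike.mem_coe, noetherDifferent_eq b]
  exact ⟨Φ, hΦ⟩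

theorem differentSet_subset_iff (q : Ideal B) [hq : q.IsPrime] :
    differentSet A B ⊆ q ↔ noetherDifferent A B ≤ q := by
  constructor
  · intro h f hf
    exact h (noetherDifferent_subset_differentSet b hf)
  · intro h y hy
    exact hq.mem_of_pow_mem 2 (h (sq_mem_noetherDifferent b y hy))

theorem differentSet_subset_iff_not_unramified (q : Ideal B) [hq : q.IsPrime] :
    differentSet A B ⊆ q ↔ ¬ Algebra.IsUnramifiedAt A q := by
  rw [differentSet_subset_iff b]
  have h1 := zeroLocus_noetherDifferent (A := A) (B := B)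
  have h2 := Set.ext_iff.mp h1 ⟨q, hq⟩
  exact h2

end

end NoetherDiffH2
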